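import Cfsg.Statements.S0265
import Mathlib
-- import your own Cfsg.Agent.* helpers here

set_option autoImplicit false
open Cfsg

namespace Cfsg.Agent.S0265

open Matrix
open scoped MatrixGroups

variable {F : Type*} [Field F]

theorem card_SL_eq_card_ker_det (n : ℕ) :
    Nat.card (SpecialLinearGroup (Fin n) F) =
      Nat.card (GeneralLinearGroup.det : GL (Fin n) F →* Fˣ).ker := by
  have hr : (SpecialLinearGroup.toGL : SpecialLinearGroup (Fin n) F →* GL (Fin n) F).range =
      (GeneralLinearGroup.det : GL (Fin n) F →* Fˣ).ker := by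
    ext g
    constructor
    · rintro ⟨M, rfl⟩
      rw [MonoidHom.mem_ker]
      apply Units.ext
      simp
    · intro hg
      have hdet : (g : Matrix (Fin n) (Fin n) F).det = 1 := by
        have := MonoidHom.mem_ker.mp hg
        have h2 := congrArg Units.val this
        simpa using h2
      exact ⟨⟨g, hdet⟩, Units.ext rfl⟩
  rw [← hr]
  exact (Nat.card_range_of_injective SpecialLinearGroup.toGL_injective).symm

theorem card_GL_eq_SL_mul (n : ℕ) (hn : 0 < n) :
    Nat.card (GL (Fin n) F) = Nat.card (SpecialLinearGroup (Fin n) F) * Nat.card Fˣ := by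
  have : Nonempty (Fin n) := ⟨⟨0, hn⟩⟩
  have h1 := Subgroup.card_mul_index (GeneralLinearGroup.det : GL (Fin n) F →* Fˣ).ker
  rw [Subgroup.index_ker, MonoidHom.range_eq_top.mpr GeneralLinearGroup.det_surjective,
    Subgroup.card_top, ← card_SL_eq_card_ker_det] at h1
  exact h1.symm

theorem card_center_GL (n : ℕ) (hn : 0 < n) :
    Nat.card (Subgroup.center (GL (Fin n) F)) = Nat.card Fˣ := by
  rw [GeneralLinearGroup.center_eq_range_scalar]
  apply Nat.card_range_of_injective
  intro u v huv
  have h := congrArg (fun g : GL (Fin n) F => (g : Matrix (Fin n) (Fin n) F) ⟨0, hn⟩ ⟨0, hn⟩) huv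
  simp at h
  exact Units.ext h

/-- |PGL_n(q)| = |SL_n(q)|: GL_n modulo its centre (the q-1 non-zero scalars) has the same order as the kernel of det. -/
theorem result {F : Type*} [Field F] [Fintype F] (n : ℕ) : Nat.card (Matrix.ProjGenLinGroup (Fin n) F) = Nat.card (Matrix.SpecialLinearGroup (Fin n) F) := by
  rcases Nat.eq_zero_or_pos n with hn | hn
  · subst hn
    have h1 : Subsingleton (Matrix.SpecialLinearGroup (Fin 0) F) := inferInstance
    have h2 : Subsingleton (Matrix.ProjGenLinGroup (Fin 0) F) :=
      Matrix.ProjGenLinGroup.mk_surjective.subsingleton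
    rw [Nat.card_of_subsingleton (1 : Matrix.ProjGenLinGroup (Fin 0) F),
      Nat.card_of_subsingleton (1 : Matrix.SpecialLinearGroup (Fin 0) F)]
  · have h1 := Subgroup.card_eq_card_quotient_mul_card_subgroup (Subgroup.center (GL (Fin n) F))
    rw [card_center_GL n hn, card_GL_eq_SL_mul n hn] at h1
    have hpos : 0 < Nat.card Fˣ := Nat.card_pos
    exact (Nat.eq_of_mul_eq_mul_right hpos h1).symm

end Cfsg.Agent.S0265
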