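import Mathlib
import Cfsg.Statements.S0228
import Cfsg.Agent.Lib.Helper5.PSL2Small

set_option autoImplicit false
open Cfsg

namespace Cfsg.Agent.S0228

open Cfsg.Agent.Lib

/-- a normal subgroup `⟨x⟩` of order 3 in a group of order 12 forces a central involution. -/
theorem exists_central_involution {G : Type*} [Group G] [Finite G] (hG : Nat.card G = 12)
    (x : G) (hx : orderOf x = 3) (hN : (Subgroup.zpowers x).Normal) :
    ∃ t : G, orderOf t = 2 ∧ t ∈ Subgroup.center G := by
  classical
  haveI : Fact (Nat.Prime 2) := ⟨Nat.prime_two⟩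
  have hx3 : x ^ 3 = 1 := by rw [← hx]; exact pow_orderOf_eq_one x
  have hx1 : x ≠ 1 := by
    intro h; rw [h, orderOf_one] at hx; norm_num at hx
  -- conjugates of `x` are `x` or `x⁻¹`
  have hconj : ∀ g : G, g * x * g⁻¹ = x ∨ g * x * g⁻¹ = x⁻¹ := by
    intro g
    have hmem : g * x * g⁻¹ ∈ Subgroup.zpowers x := hN.conj_mem x (Subgroup.mem_zpowers x) g
    rw [← mem_powers_iff_mem_zpowers, Submonoid.mem_powers_iff] at hmem
    obtain ⟨n, hn⟩ := hmem
    rw [← pow_mod_orderOf, hx] at hn
    have hlt : n % 3 < 3 := Nat.mod_lt _ (by norm_num)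
    interval_cases h : n % 3
    · exfalso
      rw [pow_zero] at hn
      have : g * x * g⁻¹ = 1 := hn.symm
      have : x = 1 := by
        have h2 : x = g⁻¹ * (g * x * g⁻¹) * g := by group
        rw [h2, this]; group
      exact hx1 this
    · left; rw [← hn, pow_one]
    · right
      rw [← hn]
      apply eq_inv_of_mul_eq_one_left
      rw [← pow_succ]; exact hx3
  -- a subgroup of order 4
  obtain ⟨Q, hQ⟩ := Sylow.exists_subgroup_card_pow_prime (G := G) 2 (n := 2)
    (by rw [hG]; norm_num)
  have hQ4 : Nat.card Q = 4 := by rw [hQ]; norm_num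
  have hQcomm : ∀ a b : Q, a * b = b * a := IsPGroup.commutative_of_card_eq_prime_sq hQ
  -- three distinct elements of Q
  haveI : Fintype Q := Fintype.ofFinite Q
  have h2lt : 2 < Fintype.card Q := by rw [← Nat.card_eq_fintype_card, hQ4]; norm_num
  obtain ⟨a, b, c, hab, hac, hbc⟩ := Fintype.two_lt_card_iff.mp h2lt
  -- a nonidentity element `u` of `Q` commuting with `x`
  have hu : ∃ u : G, u ∈ Q ∧ u ≠ 1 ∧ u * x * u⁻¹ = x := by
    set s : G := (a : G)⁻¹ * b with hs
    set t : G := (a : G)⁻¹ * c with ht
    have hsQ : s ∈ Q := Q.mul_mem (Q.inv_mem a.2) b.2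
    have htQ : t ∈ Q := Q.mul_mem (Q.inv_mem a.2) c.2
    have hs1 : s ≠ 1 := by
      intro h
      apply hab
      apply Subtype.ext
      have : (a : G) * s = b := by rw [hs]; group
      rw [← this, h, mul_one]
    have ht1 : t ≠ 1 := by
      intro h
      apply hac
      apply Subtype.ext
      have : (a : G) * t = c := by rw [ht]; group
      rw [← this, h, mul_one]
    have hst : s⁻¹ * t ≠ 1 := by
      intro h
      apply hbc
      apply Subtype.ext
      have h1 : t = s := by
        have : t = s * (s⁻¹ * t) := by group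
        rw [this, h, mul_one]
      have h2 : (a : G) * s = b := by rw [hs]; group
      have h3 : (a : G) * t = c := by rw [ht]; group
      rw [← h2, ← h3, h1]
    rcases hconj s with h1 | h1
    · exact ⟨s, hsQ, hs1, h1⟩
    rcases hconj t with h2 | h2
    · exact ⟨t, htQ, ht1, h2⟩
    refine ⟨s⁻¹ * t, Q.mul_mem (Q.inv_mem hsQ) htQ, hst, ?_⟩
    have e1 : s⁻¹ * t * x * (s⁻¹ * t)⁻¹ = s⁻¹ * (t * x * t⁻¹) * s := by group
    rw [e1, h2]
    rw [← h1]
    group
  obtain ⟨u, huQ, hu1, hux⟩ := hu
  -- an involution `t` in `Q` commuting with `x`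
  have huo : orderOf u ∣ 2 ^ 2 := by
    rw [← hQ]
    have := orderOf_dvd_natCard (⟨u, huQ⟩ : Q)
    rwa [Subgroup.orderOf_mk] at this
  obtain ⟨k, hk2, hk⟩ := (Nat.dvd_prime_pow Nat.prime_two).mp huo
  have hk0 : k ≠ 0 := by
    intro h
    rw [h, pow_zero, orderOf_eq_one_iff] at hk
    exact hu1 hk
  have h2d : 2 ∣ orderOf u := by rw [hk]; exact dvd_pow_self _ hk0
  have huo0 : orderOf u ≠ 0 := by rw [hk]; exact pow_ne_zero _ (by norm_num)
  set t := u ^ (orderOf u / 2) with ht
  have hto : orderOf t = 2 := orderOf_pow_orderOf_div huo0 h2d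
  have htQ : t ∈ Q := Q.pow_mem huQ _
  have hcomm_ux : Commute u x := by
    have : u * x = x * u := by
      calc u * x = (u * x * u⁻¹) * u := by group
        _ = x * u := by rw [hux]
    exact this
  have htx : Commute t x := hcomm_ux.pow_left _
  refine ⟨t, hto, ?_⟩
  -- the centralizer of `t` has order divisible by 3 and 4
  have hPle : Subgroup.zpowers x ≤ Subgroup.centralizer ({t} : Set G) := by
    rw [Subgroup.zpowers_le, Subgroup.mem_centralizer_iff]
    intro y hy
    rw [Set.mem_singleton_iff] at hy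
    rw [hy]
    exact htx.eq
  have hQle : Q ≤ Subgroup.centralizer ({t} : Set G) := by
    intro q hq
    rw [Subgroup.mem_centralizer_iff]
    intro y hy
    rw [Set.mem_singleton_iff] at hy
    rw [hy]
    have := hQcomm ⟨t, htQ⟩ ⟨q, hq⟩
    exact congrArg Subtype.val this
  have hd3 : 3 ∣ Nat.card (Subgroup.centralizer ({t} : Set G)) := by
    have := Subgroup.card_dvd_of_le hPle
    rwa [Nat.card_zpowers, hx] at this
  have hd4 : 4 ∣ Nat.card (Subgroup.centralizer ({t} : Set G)) := by
    have := Subgroup.card_dvd_of_le hQle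
    rwa [hQ4] at this
  have hd12 : 12 ∣ Nat.card (Subgroup.centralizer ({t} : Set G)) := by
    have : Nat.Coprime 3 4 := by norm_num
    exact this.mul_dvd_of_dvd_of_dvd hd3 hd4
  have hle12 : Nat.card (Subgroup.centralizer ({t} : Set G)) ∣ 12 := by
    rw [← hG]; exact Subgroup.card_subgroup_dvd_card _
  have hc12 : Nat.card (Subgroup.centralizer ({t} : Set G)) = Nat.card G := by
    rw [hG]; exact Nat.dvd_antisymm hle12 hd12
  have htop : Subgroup.centralizer ({t} : Set G) = ⊤ := Subgroup.eq_top_of_card_eq _ hc12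
  rw [Subgroup.mem_center_iff]
  intro g
  have hg : g ∈ Subgroup.centralizer ({t} : Set G) := by rw [htop]; exact Subgroup.mem_top g
  rw [Subgroup.mem_centralizer_iff] at hg
  exact (hg t rfl).symm

/-- A group of order 12 in which no involution is central is isomorphic to the alternating group on four letters. -/
theorem result {G : Type*} [Group G] [Finite G] (hG : Nat.card G = 12) (hz : ∀ z : G, orderOf z = 2 → z ∉ Subgroup.center G) : Nonempty (G ≃* alternatingGroup (Fin 4)) := by
  classical
  haveI : Fact (Nat.Prime 3) := ⟨Nat.prime_three⟩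
  have h3 : 3 ∣ Nat.card G := by rw [hG]; norm_num
  obtain ⟨x, hx⟩ := exists_prime_orderOf_dvd_card' 3 h3
  set P := Subgroup.zpowers x with hP
  have hPc : Nat.card P = 3 := by rw [Nat.card_zpowers, hx]
  have hidx : P.index = 4 := by
    have := P.card_mul_index
    rw [hPc, hG] at this
    omega
  by_cases hcore : P.normalCore = ⊥
  · have hcard4 : Nat.card (G ⧸ P) = 4 := hidx
    haveI : Finite (G ⧸ P) := Nat.finite_of_card_ne_zero (by rw [hcard4]; norm_num)
    have e : G ⧸ P ≃ Fin 4 := Finite.equivFinOfCardEq hcard4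
    let f : G →* Equiv.Perm (Fin 4) :=
      (e.permCongrHom).toMonoidHom.comp (MulAction.toPermHom G (G ⧸ P))
    have hf : Function.Injective f := by
      apply (e.permCongrHom).injective.comp
      rw [← MonoidHom.ker_eq_bot_iff, ← Subgroup.normalCore_eq_ker, hcore]
    exact Helper5.nonempty_mulEquiv_alternatingGroup_of_injective (by norm_num) f hf
      (by rw [hG]; rfl)
  · exfalso
    have hle : P.normalCore ≤ P := P.normalCore_le
    have hdvd : Nat.card P.normalCore ∣ 3 := by
      rw [← hPc]; exact Subgroup.card_dvd_of_le hle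
    have hne1 : Nat.card P.normalCore ≠ 1 := by
      intro h
      exact hcore (Subgroup.card_eq_one.mp h)
    have hc3 : Nat.card P.normalCore = 3 := by
      rcases (Nat.dvd_prime Nat.prime_three).mp hdvd with h | h
      · exact absurd h hne1
      · exact h
    have heq : P.normalCore = P :=
      Subgroup.eq_of_le_of_card_ge hle (by rw [hc3, hPc])
    have hN : P.Normal := by rw [← heq]; exact P.normalCore_normal
    obtain ⟨t, ht, htc⟩ := exists_central_involution hG x hx hN
    exact hz t ht htc

end Cfsg.Agent.S0228
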