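import Cfsg.Statements.S1012
import Cfsg.Agent.Lib.Helper17.SylowCard
import Cfsg.Agent.Lib.Helper17.ConjCount
import Mathlib.GroupTheory.Perm.Cycle.Type
import Mathlib.Data.Finite.Perm
import Mathlib.Tactic.IntervalCases
import Mathlib.Tactic.NormNum.Prime
import Cfsg.Agent.Lib.Helper17.Misc

set_option autoImplicit false
open Cfsg

namespace Cfsg.Agent.S1012

open Cfsg.Agent.Lib.Helper17

theorem no_comm {G : Type*} [Group G] (h6 : ∀ g : G, orderOf g ≠ 6) (a t : G)
    (ha : orderOf a = 3) (ht : orderOf t = 2) (hc : a * t = t * a) : False := by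
  have hcomm : Commute a t := hc
  have := hcomm.orderOf_mul_eq_mul_orderOf_of_coprime (by rw [ha, ht]; norm_num)
  rw [ha, ht] at this
  exact h6 _ this

/-- the case of a normal Sylow 3-subgroup -/
theorem case_one {G : Type*} [Group G] [Finite G] (h : Nat.card G = 24)
    (h6 : ∀ g : G, orderOf g ≠ 6) [Fact (Nat.Prime 3)] [Fact (Nat.Prime 2)]
    (h1 : Nat.card (Sylow 3 G) = 1) : False := by
  have hsub : Subsingleton (Sylow 3 G) := (Nat.card_eq_one_iff_unique.1 h1).1
  obtain ⟨P⟩ := (Sylow.nonempty : Nonempty (Sylow 3 G))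
  have hPcard : Nat.card (P : Subgroup G) = 3 ^ 1 :=
    sylow_card_of_card_eq P (k := 1) (m := 8) (by rw [h]; norm_num) (by norm_num)
  obtain ⟨a, ha⟩ := exists_prime_orderOf_dvd_card' (G := G) 3 (by rw [h]; norm_num)
  -- every conjugate of a lies in P
  have hconj : ∀ y : G, IsConj a y → y ∈ (P : Subgroup G) := by
    intro y hy
    have hyo : orderOf y = 3 := by
      rw [orderOf_eq_of_isConj hy, ha]
    have hp : IsPGroup 3 (Subgroup.zpowers y) := by
      apply IsPGroup.of_card (n := 1)
      rw [Nat.card_zpowers, hyo, pow_one]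
    obtain ⟨Q, hQ⟩ := hp.exists_le_sylow
    rw [Subsingleton.elim P Q]
    exact hQ (Subgroup.mem_zpowers y)
  have hle : Nat.card {y : G // IsConj a y} ≤ 3 := by
    have : Nat.card {y : G // IsConj a y} ≤ Nat.card (P : Subgroup G) := by
      apply Nat.card_le_card_of_injective (fun y => (⟨y.1, hconj y.1 y.2⟩ : (P : Subgroup G)))
      intro y z hyz
      apply Subtype.ext
      exact congrArg (fun w : (P : Subgroup G) => (w : G)) hyz
    rw [hPcard] at this
    simpa using this
  have hmul := card_conj_mul_card_centralizer a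
  rw [h] at hmul
  have hpos : 0 < Nat.card {y : G // IsConj a y} := by
    have : Nonempty {y : G // IsConj a y} := ⟨⟨a, IsConj.refl a⟩⟩
    exact Nat.card_pos
  have h2 : 2 ∣ Nat.card (Subgroup.centralizer ({a} : Set G)) := by
    generalize Nat.card {y : G // IsConj a y} = c at *
    generalize Nat.card (Subgroup.centralizer ({a} : Set G)) = d at *
    interval_cases c <;> omega
  obtain ⟨t, htC, hto⟩ := exists_mem_orderOf_eq_of_dvd_card _ 2 h2
  have hcomm : t * a = a * t := Subgroup.mem_centralizer_singleton_iff.1 htC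
  exact no_comm h6 a t ha hto hcomm.symm

/-- In the case of four Sylow 3-subgroups, no element of order 3 fixes all of them. -/
theorem case_four_a {G : Type*} [Group G] [Finite G] (h : Nat.card G = 24)
    [Fact (Nat.Prime 3)] (h4 : Nat.card (Sylow 3 G) = 4) (x : G)
    (hx : ∀ P : Sylow 3 G, x • P = P) (hxo : orderOf x = 3) : False := by
  have hp : IsPGroup 3 (Subgroup.zpowers x) := by
    apply IsPGroup.of_card (n := 1)
    rw [Nat.card_zpowers, hxo, pow_one]
  have hmem : ∀ P : Sylow 3 G, (P : Subgroup G) = Subgroup.zpowers x := by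
    intro P
    have hPcard : Nat.card (P : Subgroup G) = 3 ^ 1 :=
      sylow_card_of_card_eq P (k := 1) (m := 8) (by rw [h]; norm_num) (by norm_num)
    have hxN : x ∈ Subgroup.normalizer ((P : Subgroup G) : Set G) :=
      Sylow.smul_eq_iff_mem_normalizer.1 (hx P)
    have h2 : Subgroup.zpowers x ⊓ Subgroup.normalizer ((P : Subgroup G) : Set G) =
        Subgroup.zpowers x ⊓ (P : Subgroup G) := hp.inf_normalizer_sylow P
    have hxP : x ∈ (P : Subgroup G) := by
      have : x ∈ Subgroup.zpowers x ⊓ Subgroup.normalizer ((P : Subgroup G) : Set G) :=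
        ⟨Subgroup.mem_zpowers x, hxN⟩
      rw [h2] at this
      exact this.2
    symm
    apply Subgroup.eq_of_le_of_card_ge
    · rw [Subgroup.zpowers_le]; exact hxP
    · rw [hPcard, Nat.card_zpowers, hxo, pow_one]
  have hsub : Subsingleton (Sylow 3 G) := ⟨fun P Q => Sylow.ext ((hmem P).trans (hmem Q).symm)⟩
  have : Nat.card (Sylow 3 G) ≤ 1 := Finite.card_le_one_iff_subsingleton.2 hsub
  omega

theorem case_four_ker {G : Type*} [Group G] [Finite G] (h : Nat.card G = 24)
    (h6 : ∀ g : G, orderOf g ≠ 6) [Fact (Nat.Prime 3)] [Fact (Nat.Prime 2)]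
    (h4 : Nat.card (Sylow 3 G) = 4) :
    (MulAction.toPermHom G (Sylow 3 G)).ker = ⊥ := by
  set K := (MulAction.toPermHom G (Sylow 3 G)).ker with hK
  have hKmem : ∀ g ∈ K, ∀ P : Sylow 3 G, g • P = P := by
    intro g hg P
    rw [hK, MonoidHom.mem_ker] at hg
    have := congrArg (fun σ => σ P) hg
    simpa using this
  by_contra hne
  have hcard1 : Nat.card K ≠ 1 := by
    intro h1
    exact hne (Subgroup.card_eq_one.1 h1)
  have hdvd : Nat.card K ∣ 24 := h ▸ K.card_subgroup_dvd_card
  have h23 : 2 ∣ Nat.card K ∨ 3 ∣ Nat.card K := by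
    have hle : Nat.card K ≤ 24 := Nat.le_of_dvd (by norm_num) hdvd
    generalize Nat.card K = c at *
    interval_cases c <;> omega
  rcases h23 with h2 | h3
  · obtain ⟨t, htK, hto⟩ := exists_mem_orderOf_eq_of_dvd_card K 2 h2
    obtain ⟨a, ha⟩ := exists_prime_orderOf_dvd_card' (G := G) 3 (by rw [h]; norm_num)
    have hp : IsPGroup 3 (Subgroup.zpowers a) := by
      apply IsPGroup.of_card (n := 1)
      rw [Nat.card_zpowers, ha, pow_one]
    obtain ⟨P, hP⟩ := hp.exists_le_sylow
    have haP : a ∈ (P : Subgroup G) := hP (Subgroup.mem_zpowers a)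
    have htN : t ∈ Subgroup.normalizer ((P : Subgroup G) : Set G) :=
      Sylow.smul_eq_iff_mem_normalizer.1 (hKmem t htK P)
    have hcP : t * a * t⁻¹ * a⁻¹ ∈ (P : Subgroup G) := by
      apply Subgroup.mul_mem
      · exact (Subgroup.mem_normalizer_iff.1 htN a).1 haP
      · exact Subgroup.inv_mem _ haP
    have hKn : K.Normal := MonoidHom.normal_ker _
    have hcK : t * a * t⁻¹ * a⁻¹ ∈ K := by
      have h1 : a * t⁻¹ * a⁻¹ ∈ K := hKn.conj_mem _ (K.inv_mem htK) a
      have h2 : t * a * t⁻¹ * a⁻¹ = t * (a * t⁻¹ * a⁻¹) := by group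
      rw [h2]
      exact K.mul_mem htK h1
    have hPcard : Nat.card (P : Subgroup G) = 3 ^ 1 :=
      sylow_card_of_card_eq P (k := 1) (m := 8) (by rw [h]; norm_num) (by norm_num)
    have hco : orderOf (t * a * t⁻¹ * a⁻¹) ∣ 3 := by
      have := Subgroup.orderOf_dvd_natCard (P : Subgroup G) hcP
      rwa [hPcard, pow_one] at this
    rcases (Nat.dvd_prime (by norm_num : Nat.Prime 3)).1 hco with h1 | h3
    · rw [orderOf_eq_one_iff] at h1
      have hcomm : a * t = t * a := by
        have : t * a = (t * a * t⁻¹ * a⁻¹) * (a * t) := by group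
        rw [this, h1, one_mul]
      exact no_comm h6 a t ha hto hcomm
    · exact case_four_a h h4 _ (hKmem _ hcK) h3
  · obtain ⟨x, hxK, hxo⟩ := exists_mem_orderOf_eq_of_dvd_card K 3 h3
    exact case_four_a h h4 x (hKmem x hxK) hxo

/-- A group of order 24 containing no element of order 6 is isomorphic to the symmetric group of degree 4. -/
theorem result {G : Type*} [Group G] [Finite G] (h : Nat.card G = 24) (h6 : ∀ g : G, orderOf g ≠ 6) : Nonempty (G ≃* Equiv.Perm (Fin 4)) := by
  have : Fact (Nat.Prime 3) := ⟨by norm_num⟩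
  have : Fact (Nat.Prime 2) := ⟨by norm_num⟩
  have hdvd : Nat.card (Sylow 3 G) ∣ 8 :=
    card_sylow_dvd_of_card_eq (p := 3) (k := 1) (m := 8) (by rw [h]; norm_num) (by norm_num)
  have hmod : Nat.card (Sylow 3 G) % 3 = 1 := card_sylow_modEq_one 3 G
  have hcases : Nat.card (Sylow 3 G) = 1 ∨ Nat.card (Sylow 3 G) = 4 := by
    have hle : Nat.card (Sylow 3 G) ≤ 8 := Nat.le_of_dvd (by norm_num) hdvd
    generalize Nat.card (Sylow 3 G) = c at *
    interval_cases c <;> omega
  rcases hcases with h1 | h4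
  · exact (case_one h h6 h1).elim
  · have hker := case_four_ker h h6 h4
    have hinj : Function.Injective (MulAction.toPermHom G (Sylow 3 G)) :=
      (MonoidHom.ker_eq_bot_iff _).1 hker
    have hcardP : Nat.card (Equiv.Perm (Sylow 3 G)) = 24 := by
      rw [Nat.card_perm, h4]; rfl
    have hbij : Function.Bijective (MulAction.toPermHom G (Sylow 3 G)) :=
      (Nat.bijective_iff_injective_and_card _).2 ⟨hinj, by rw [h, hcardP]⟩
    have e1 : G ≃* Equiv.Perm (Sylow 3 G) := MulEquiv.ofBijective _ hbij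
    have e2 : Sylow 3 G ≃ Fin 4 := Finite.equivFinOfCardEq h4
    exact ⟨e1.trans e2.permCongrHom⟩

end Cfsg.Agent.S1012
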