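import Cfsg.Statements.S0007

set_option autoImplicit false
open Cfsg

namespace Cfsg.Agent.S0007

theorem index_inf_eq {G : Type*} [Group G] [Finite G] (H K : Subgroup G)
    (h : H.index.Coprime K.index) : (H ⊓ K).index = H.index * K.index := by
  apply le_antisymm (Subgroup.index_inf_le)
  apply Nat.le_of_dvd (Nat.pos_of_ne_zero Subgroup.index_ne_zero_of_finite)
  exact h.mul_dvd_of_dvd_of_dvd (Subgroup.index_dvd_of_le inf_le_left)
    (Subgroup.index_dvd_of_le inf_le_right)

/-- every element is `y * x` with `y ∈ K`, `x ∈ H`. -/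
theorem exists_mul' {G : Type*} [Group G] [Finite G] (H K : Subgroup G)
    (h : H.index.Coprime K.index) (g : G) : ∃ y ∈ K, ∃ x ∈ H, g = y * x := by
  have h1 : (H ⊓ K).relIndex K * K.index = (H ⊓ K).index :=
    Subgroup.relIndex_mul_index inf_le_right
  rw [index_inf_eq H K h] at h1
  have hK0 : K.index ≠ 0 := Subgroup.index_ne_zero_of_finite
  have h2 : H.relIndex K = H.index := by
    rw [← Subgroup.inf_relIndex_right]
    exact Nat.eq_of_mul_eq_mul_right (Nat.pos_of_ne_zero hK0) h1
  -- the map K/(H ∩ K) → G/H
  let f : K ⧸ H.subgroupOf K → G ⧸ H :=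
    Quotient.map' (fun k : K => (k : G)) fun a b => by
      simp_rw [QuotientGroup.leftRel_eq]
      exact id
  have hf : Function.Injective f := by
    refine Quotient.ind₂' ?_
    intro a b hab
    simpa only [f, Quotient.map'_mk'', QuotientGroup.eq] using! hab
  have hcard : Nat.card (K ⧸ H.subgroupOf K) = Nat.card (G ⧸ H) := by
    rw [← Subgroup.index_eq_card, ← Subgroup.index_eq_card]
    exact h2
  have hsurj : Function.Surjective f :=
    (Function.Injective.bijective_of_nat_card_le hf hcard.ge).2
  obtain ⟨q, hq⟩ := hsurj (QuotientGroup.mk g)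
  induction q using Quotient.inductionOn' with
  | h k =>
    have : (QuotientGroup.mk (k : G) : G ⧸ H) = QuotientGroup.mk g := hq
    rw [QuotientGroup.eq] at this
    exact ⟨k, k.2, _, this, (mul_inv_cancel_left _ _).symm⟩

/-- Subgroups of coprime index: the intersection has index equal to the product of the indices, and every element is a product of an element of the first subgroup and an element of the second. -/
theorem result {G : Type*} [Group G] [Finite G] (H K : Subgroup G)
    (h : H.index.Coprime K.index) :
    (H ⊓ K).index = H.index * K.index ∧ ∀ g : G, ∃ x ∈ H, ∃ y ∈ K, g = x * y := by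
  refine ⟨index_inf_eq H K h, fun g => ?_⟩
  obtain ⟨y, hy, x, hx, hg⟩ := exists_mul' H K h g⁻¹
  refine ⟨x⁻¹, H.inv_mem hx, y⁻¹, K.inv_mem hy, ?_⟩
  rw [← mul_inv_rev, ← hg, inv_inv]

end Cfsg.Agent.S0007
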