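import Cfsg.Statements.S0544
import Mathlib

set_option autoImplicit false
open Cfsg

namespace Cfsg.Agent.S0544

/-- A member `K r` of a complement system has order prime to `r`. -/
theorem not_dvd_card_of_isComplementSystem {G : Type*} [Group G] [Finite G]
    (K : Nat.Primes → Subgroup G) (hK : Cfsg.IsComplementSystem K) (r : Nat.Primes) :
    ¬ (r : ℕ) ∣ Nat.card (K r) := by
  intro hdvd
  have h1 := Subgroup.index_mul_card (K r)
  rw [hK r] at h1
  have hr : (r : ℕ).Prime := r.2
  have hpos : Nat.card (K r) ≠ 0 := Nat.card_pos.ne'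
  have h2 : ((r : ℕ) ^ (Nat.card G).factorization r * Nat.card (K r)).factorization r =
      (Nat.card G).factorization r := by rw [h1]
  rw [Nat.factorization_mul (pow_ne_zero _ hr.ne_zero) hpos, Nat.factorization_pow] at h2
  simp only [Finsupp.coe_add, Finsupp.coe_smul, Pi.add_apply, Pi.smul_apply, smul_eq_mul,
    Nat.Prime.factorization_self hr, mul_one] at h2
  have h3 : 1 ≤ (Nat.card (K r)).factorization r :=
    (hr.dvd_iff_one_le_factorization hpos).1 hdvd
  omega

/-- An element of `q`-power order normalizing `K r` (with `r ≠ q`) lies in `K r`. -/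
theorem mem_of_orderOf_pow_of_mem_normalizer {G : Type*} [Group G] [Finite G]
    (K : Nat.Primes → Subgroup G) (hK : Cfsg.IsComplementSystem K) (r : Nat.Primes) (q : ℕ)
    (hq : q.Prime) (hrq : (r : ℕ) ≠ q) (x : G) (k : ℕ) (hx : x ^ (q ^ k) = 1)
    (hxn : x ∈ Subgroup.normalizer ((K r : Subgroup G) : Set G)) : x ∈ K r := by
  have hr : (r : ℕ).Prime := r.2
  haveI hKn : ((K r).subgroupOf (Subgroup.normalizer ((K r : Subgroup G) : Set G))).Normal :=
    Subgroup.normal_subgroupOf_of_le_normalizer le_rfl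
  set N := Subgroup.normalizer ((K r : Subgroup G) : Set G) with hN
  have hcard : Nat.card (N ⧸ (K r).subgroupOf N) ∣ (r : ℕ) ^ (Nat.card G).factorization r := by
    rw [← Subgroup.index_eq_card, ← hK r]
    exact Dvd.intro _ (Subgroup.relIndex_mul_index (Subgroup.le_normalizer : K r ≤ N))
  let xb : N ⧸ (K r).subgroupOf N := QuotientGroup.mk' _ ⟨x, hxn⟩
  have h1 : orderOf xb ∣ (r : ℕ) ^ (Nat.card G).factorization r :=
    (orderOf_dvd_natCard xb).trans hcard
  have h2 : orderOf xb ∣ q ^ k := by
    apply orderOf_dvd_of_pow_eq_one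
    change (QuotientGroup.mk' _ (⟨x, hxn⟩ : N)) ^ (q ^ k) = 1
    rw [← map_pow]
    have : (⟨x, hxn⟩ : N) ^ (q ^ k) = 1 := Subtype.ext (by simpa using hx)
    rw [this, map_one]
  have hcop : Nat.Coprime ((r : ℕ) ^ (Nat.card G).factorization r) (q ^ k) :=
    Nat.Coprime.pow _ _ ((Nat.coprime_primes hr hq).2 hrq)
  have h3 : orderOf xb = 1 := Nat.eq_one_of_dvd_coprimes hcop h1 h2
  have h4 : xb = 1 := orderOf_eq_one_iff.1 h3
  have h5 : (⟨x, hxn⟩ : N) ∈ (K r).subgroupOf N := (QuotientGroup.eq_one_iff _).1 h4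
  exact h5

/-- In a finite solvable group the intersection of the normalizers of the members of a Hall complement system is a nilpotent subgroup. -/
theorem result {G : Type*} [Group G] [Finite G] [Group.IsSolvable G] (K : Nat.Primes → Subgroup G) (hK : Cfsg.IsComplementSystem K) : Group.IsNilpotent (Cfsg.systemNormalizer K) := by
  apply (Group.isNilpotent_of_finite_tfae (G := Cfsg.systemNormalizer K)).out 3 0 |>.1
  intro q hqf P
  have hq : q.Prime := hqf.out
  have hDn : ∀ r : Nat.Primes, Cfsg.systemNormalizer K ≤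
      Subgroup.normalizer ((K r : Subgroup G) : Set G) := fun r => iInf_le _ r
  -- the candidate normal Sylow subgroup
  let T : Subgroup G := ⨅ (r : Nat.Primes) (_ : (r : ℕ) ≠ q), K r
  have hTmem : ∀ x : G, x ∈ T ↔ ∀ r : Nat.Primes, (r : ℕ) ≠ q → x ∈ K r := by
    intro x
    simp only [T, Subgroup.mem_iInf]
  have hTn : (T.subgroupOf (Cfsg.systemNormalizer K)).Normal := by
    constructor
    intro x hx d
    rw [Subgroup.mem_subgroupOf, hTmem] at hx ⊢
    intro r hr
    have hd := hDn r d.2
    rw [Subgroup.mem_normalizer_iff] at hd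
    have := (hd (x : G)).1 (hx r hr)
    simpa using this
  have hTp : IsPGroup q (T.subgroupOf (Cfsg.systemNormalizer K)) := by
    intro x
    have hx : ((x : Cfsg.systemNormalizer K) : G) ∈ T := x.2
    rw [hTmem] at hx
    have h0 : orderOf (x : T.subgroupOf (Cfsg.systemNormalizer K)) ≠ 0 := (orderOf_pos _).ne'
    have h1 : orderOf x = q ^ (orderOf x).primeFactorsList.length := by
      apply Nat.eq_prime_pow_of_unique_prime_dvd h0
      intro d hd hdvd
      by_contra hne
      have hmem := hx ⟨d, hd⟩ hne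
      apply not_dvd_card_of_isComplementSystem K hK ⟨d, hd⟩
      have h2 : orderOf (⟨((x : Cfsg.systemNormalizer K) : G), hmem⟩ : K ⟨d, hd⟩) ∣
          Nat.card (K ⟨d, hd⟩) := orderOf_dvd_natCard _
      rw [← Subgroup.orderOf_coe, Subgroup.coe_mk, Subgroup.orderOf_coe, Subgroup.orderOf_coe] at h2
      exact hdvd.trans h2
    exact ⟨_, by rw [← h1]; exact pow_orderOf_eq_one x⟩
  have hPT : (P : Subgroup (Cfsg.systemNormalizer K)) ≤ T.subgroupOf (Cfsg.systemNormalizer K) := by
    intro x hx
    rw [Subgroup.mem_subgroupOf, hTmem]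
    intro r hr
    obtain ⟨k, hk⟩ := P.isPGroup' ⟨x, hx⟩
    have hk' : (x : G) ^ (q ^ k) = 1 := by
      have := congrArg (fun y : P => ((y : Cfsg.systemNormalizer K) : G)) hk
      simpa using this
    exact mem_of_orderOf_pow_of_mem_normalizer K hK r q hq hr _ k hk' (hDn r x.2)
  have hEq := P.is_maximal' hTp hPT
  rw [← hEq]
  exact hTn

end Cfsg.Agent.S0544
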