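import Cfsg.Statements.S0015
import Mathlib

set_option autoImplicit false
open Cfsg

namespace Cfsg.Agent.S0015

open scoped commutatorElement

/-- In a nilpotent group a nontrivial normal subgroup meets the centre nontrivially. -/
theorem exists_mem_center_of_normal {G : Type*} [Group G] [Group.IsNilpotent G] (H : Subgroup G)
    [hHn : H.Normal] (hH : H ≠ ⊥) : ∃ x ∈ H, x ∈ Subgroup.center G ∧ x ≠ 1 := by
  have key : ∀ n : ℕ, (∃ x ∈ H, x ∈ Subgroup.upperCentralSeries G n ∧ x ≠ 1) →
      ∃ x ∈ H, x ∈ Subgroup.center G ∧ x ≠ 1 := by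
    intro n
    induction n with
    | zero =>
      rintro ⟨x, _, hx, hx1⟩
      rw [Subgroup.upperCentralSeries_zero, Subgroup.mem_bot] at hx
      exact absurd hx hx1
    | succ n ih =>
      rintro ⟨x, hxH, hx, hx1⟩
      by_cases h : ∃ y ∈ H, y ∈ Subgroup.upperCentralSeries G n ∧ y ≠ 1
      · exact ih h
      · refine ⟨x, hxH, ?_, hx1⟩
        rw [Subgroup.mem_center_iff]
        intro y
        have h1 : ⁅x, y⁆ ∈ Subgroup.upperCentralSeries G n :=
          Subgroup.mem_upperCentralSeries_succ_iff.mp hx y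
        have h2 : ⁅x, y⁆ ∈ H := by
          rw [commutatorElement_def]
          have h3 : y * x⁻¹ * y⁻¹ ∈ H := hHn.conj_mem _ (H.inv_mem hxH) y
          have h4 := H.mul_mem hxH h3
          simpa [mul_assoc] using h4
        have h3 : ⁅x, y⁆ = 1 := by
          by_contra hne
          exact h ⟨_, h2, h1, hne⟩
        rw [commutatorElement_eq_one_iff_mul_comm] at h3
        exact h3.symm
  obtain ⟨n, hn⟩ := Group.IsNilpotent.nilpotent G
  rcases H.bot_or_exists_ne_one with h | ⟨x, hx, hx1⟩
  · exact absurd h hH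
  · exact key n ⟨x, hx, by rw [hn]; trivial, hx1⟩

/-- In a finite nilpotent group, an abelian normal subgroup that is maximal among abelian normal subgroups equals its own centralizer. -/
theorem result {G : Type*} [Group G] [Finite G] [Group.IsNilpotent G]
    (N : Subgroup G) [N.Normal] [IsMulCommutative N]
    (hmax : ∀ M : Subgroup G, M.Normal → IsMulCommutative M → N ≤ M → M = N) :
    Subgroup.centralizer (N : Set G) = N := by
  have hNC : N ≤ Subgroup.centralizer (N : Set G) := Subgroup.le_centralizer N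
  by_contra hne
  -- the image of the centralizer in the quotient is a nontrivial normal subgroup
  set C := Subgroup.centralizer (N : Set G) with hC
  have hCn : C.Normal := Subgroup.normal_centralizer
  set Cbar := C.map (QuotientGroup.mk' N) with hCbar
  have hCbarn : Cbar.Normal := hCn.map _ (QuotientGroup.mk'_surjective N)
  have hCbar_ne : Cbar ≠ ⊥ := by
    intro h
    apply hne
    apply le_antisymm _ hNC
    intro c hc
    have : QuotientGroup.mk' N c ∈ Cbar := Subgroup.mem_map_of_mem _ hc
    rw [h, Subgroup.mem_bot] at this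
    rwa [← MonoidHom.mem_ker, QuotientGroup.ker_mk'] at this
  obtain ⟨xbar, hxC, hxZ, hx1⟩ := exists_mem_center_of_normal Cbar hCbar_ne
  obtain ⟨x, hxc, rfl⟩ := hxC
  have hxN : x ∉ N := by
    intro h
    apply hx1
    rwa [← MonoidHom.mem_ker, QuotientGroup.ker_mk']
  -- the subgroup M
  set M := (Subgroup.zpowers (QuotientGroup.mk' N x)).comap (QuotientGroup.mk' N) with hM
  have hZn : (Subgroup.zpowers (QuotientGroup.mk' N x)).Normal := by
    refine ⟨fun a ha g => ?_⟩
    have hZ : Subgroup.zpowers (QuotientGroup.mk' N x) ≤ Subgroup.center (G ⧸ N) := by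
      rw [Subgroup.zpowers_le]; exact hxZ
    have hac := hZ ha
    rw [Subgroup.mem_center_iff] at hac
    rw [hac g, mul_inv_cancel_right]
    exact ha
  have hMn : M.Normal := hZn.comap _
  have hNM : N ≤ M := by
    intro n hn
    rw [hM, Subgroup.mem_comap]
    have : QuotientGroup.mk' N n = 1 := by
      rwa [← MonoidHom.mem_ker, QuotientGroup.ker_mk']
    rw [this]
    exact Subgroup.one_mem _
  have hxM : x ∈ M := by
    rw [hM, Subgroup.mem_comap]
    exact Subgroup.mem_zpowers _
  -- elements of M are n * x^i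
  have hdecomp : ∀ a ∈ M, ∃ n ∈ N, ∃ i : ℤ, a = n * x ^ i := by
    intro a ha
    rw [hM, Subgroup.mem_comap, Subgroup.mem_zpowers_iff] at ha
    obtain ⟨i, hi⟩ := ha
    refine ⟨a * (x ^ i)⁻¹, ?_, i, by group⟩
    rw [← QuotientGroup.ker_mk' N, MonoidHom.mem_ker, map_mul, map_inv, map_zpow, hi]
    group
  have hxi : ∀ i : ℤ, x ^ i ∈ C := fun i => C.zpow_mem hxc i
  have hMc : IsMulCommutative M := by
    refine ⟨⟨fun a b => ?_⟩⟩
    obtain ⟨n, hn, i, ha⟩ := hdecomp a a.2
    obtain ⟨m, hm, j, hb⟩ := hdecomp b b.2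
    apply Subtype.ext
    rw [Subgroup.coe_mul, Subgroup.coe_mul, ha, hb]
    have e1 : m * x ^ i = x ^ i * m := hxi i m hm
    have e2 : n * x ^ j = x ^ j * n := hxi j n hn
    have e3 : n * m = m * n := hNC hm n hn
    have e4 : x ^ i * x ^ j = x ^ j * x ^ i := by
      rw [← zpow_add, ← zpow_add, add_comm]
    calc n * x ^ i * (m * x ^ j) = n * (x ^ i * m) * x ^ j := by group
      _ = n * (m * x ^ i) * x ^ j := by rw [e1]
      _ = (n * m) * (x ^ i * x ^ j) := by group
      _ = (m * n) * (x ^ j * x ^ i) := by rw [e3, e4]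
      _ = m * (n * x ^ j) * x ^ i := by group
      _ = m * (x ^ j * n) * x ^ i := by rw [e2]
      _ = m * x ^ j * (n * x ^ i) := by group
  have := hmax M hMn hMc hNM
  rw [this] at hxM
  exact hxN hxM

end Cfsg.Agent.S0015
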