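import Cfsg.Statements.S0545
import Cfsg.Agent.Lib.Helper9.CoprimeIndex2
import Cfsg.Agent.Lib.Helper9.ComplSys
import Cfsg.Agent.S0004

set_option autoImplicit false
open Cfsg
open Pointwise

namespace Cfsg.Agent.S0545

open Cfsg.Agent.Lib.Helper9

/-- A subgroup of `p`-power index and order prime to `p` has index the full `p`-part. -/
theorem index_eq_pow_factorization {G : Type*} [Group G] [Finite G] (H : Subgroup G) (p : ℕ)
    (hp : p.Prime) (b : ℕ) (hb : H.index = p ^ b) (hH : ¬ p ∣ Nat.card H) :
    H.index = p ^ (Nat.card G).factorization p := by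
  have h1 := Subgroup.index_mul_card H
  rw [hb] at h1
  have hpos : Nat.card H ≠ 0 := Nat.card_pos.ne'
  have h2 : (p ^ b * Nat.card H).factorization p = (Nat.card G).factorization p := by rw [h1]
  rw [Nat.factorization_mul (pow_ne_zero _ hp.ne_zero) hpos, Nat.factorization_pow] at h2
  simp only [Finsupp.coe_add, Finsupp.coe_smul, Pi.add_apply, Pi.smul_apply, smul_eq_mul,
    Nat.Prime.factorization_self hp, mul_one] at h2
  rw [Nat.factorization_eq_zero_of_not_dvd hH] at h2
  rw [hb, ← h2]
  simp

theorem isComplementSystem_map {G : Type*} [Group G] [Finite G] (K : Nat.Primes → Subgroup G)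
    (hK : Cfsg.IsComplementSystem K) (N : Subgroup G) [N.Normal] :
    Cfsg.IsComplementSystem (fun p => (K p).map (QuotientGroup.mk' N)) := by
  intro p
  have hp : (p : ℕ).Prime := p.2
  have hsurj : Function.Surjective (QuotientGroup.mk' N) := QuotientGroup.mk'_surjective N
  have hdvd : ((K p).map (QuotientGroup.mk' N)).index ∣ (p : ℕ) ^ (Nat.card G).factorization p := by
    rw [← hK p]
    exact Subgroup.index_map_dvd _ hsurj
  obtain ⟨b, _, hb'⟩ := (Nat.dvd_prime_pow hp).1 hdvd
  apply index_eq_pow_factorization _ _ hp b hb'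
  intro hd
  have h1 : Nat.card ((K p).map (QuotientGroup.mk' N)) ∣ Nat.card (K p) :=
    Subgroup.card_map_dvd _ _
  exact not_dvd_card_of_isComplementSystem_h9 K hK p (hd.trans h1)

/-- Hall conjugacy inside a subgroup `L`. -/
theorem hall_conj_in_subgroup {G : Type*} [Group G] [Finite G] [Group.IsSolvable G]
    (L A B : Subgroup G) (hA : A ≤ L) (hB : B ≤ L) (hAB : Nat.card B = Nat.card A)
    (hcop : (Nat.card A).Coprime (A.relIndex L)) : ∃ l ∈ L, MulAut.conj l • A = B := by
  have hcA : Nat.card (A.subgroupOf L) = Nat.card A :=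
    Nat.card_congr (Subgroup.subgroupOfEquivOfLe hA).toEquiv
  have hcB : Nat.card (B.subgroupOf L) = Nat.card A := by
    rw [← hAB]
    exact Nat.card_congr (Subgroup.subgroupOfEquivOfLe hB).toEquiv
  have hL : Nat.card L = Nat.card A * A.relIndex L := by
    rw [mul_comm]
    exact (relIndex_mul_card_of_le hA).symm
  obtain ⟨g, hg⟩ := Cfsg.Agent.S0004.result (G := L) _ _ hL hcop (A.subgroupOf L)
    (B.subgroupOf L) hcA hcB
  refine ⟨(g : G), g.2, ?_⟩
  rw [Subgroup.conj_smul_subgroupOf hA, Subgroup.subgroupOf_inj] at hg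
  have h1 : MulAut.conj (g : G) • A ≤ L := Subgroup.conj_smul_le_of_le hA g
  rw [inf_eq_left.2 h1, inf_eq_left.2 hB] at hg
  exact hg

/-- If `A` is a Hall subgroup of `p`-power index and `x` normalizes `A ⊔ N`, then
`x ∈ N ⊔ N_G(A)`. -/
theorem mem_sup_normalizer {G : Type*} [Group G] [Finite G] [Group.IsSolvable G]
    (A N : Subgroup G) [N.Normal] (p : ℕ) (hp : p.Prime) (a : ℕ) (hA : A.index = p ^ a)
    (hA' : ¬ p ∣ Nat.card A) (x : G)
    (hx : x ∈ Subgroup.normalizer ((A ⊔ N : Subgroup G) : Set G)) :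
    x ∈ N ⊔ Subgroup.normalizer (A : Set G) := by
  have hxL : MulAut.conj x • (A ⊔ N) = A ⊔ N :=
    (mem_normalizer_iff_conj_smul_eq_h9 x _).1 hx
  have hB : MulAut.conj x • A ≤ A ⊔ N := by
    rw [← hxL]
    exact Subgroup.pointwise_smul_le_pointwise_smul_iff.2 le_sup_left
  have hcop : (Nat.card A).Coprime (A.relIndex (A ⊔ N)) := by
    have h1 : A.relIndex (A ⊔ N) ∣ p ^ a := by
      rw [← hA]
      exact Dvd.intro _ (Subgroup.relIndex_mul_index (le_sup_left : A ≤ A ⊔ N))
    have h2 : (Nat.card A).Coprime (p ^ a) :=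
      Nat.Coprime.pow_right _ ((Nat.Prime.coprime_iff_not_dvd hp).2 hA').symm
    exact Nat.Coprime.of_dvd_right h1 h2
  obtain ⟨l, hl, hlA⟩ := hall_conj_in_subgroup (A ⊔ N) A (MulAut.conj x • A) le_sup_left hB
    (card_conj_smul_h9 x A) hcop
  -- `l⁻¹ * x` normalizes `A`
  have hl' : l ∈ ((A ⊔ N : Subgroup G) : Set G) := hl
  rw [Subgroup.mul_normal] at hl'
  obtain ⟨k, hk, n, hn, rfl⟩ := hl'
  change MulAut.conj (k * n) • A = MulAut.conj x • A at hlA
  have h3 : MulAut.conj (x⁻¹ * (k * n)) • A = A := by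
    rw [map_mul, mul_smul, hlA, ← mul_smul, ← map_mul, inv_mul_cancel, map_one, one_smul]
  have h4 : x⁻¹ * (k * n) ∈ Subgroup.normalizer (A : Set G) :=
    (mem_normalizer_iff_conj_smul_eq_h9 _ _).2 h3
  -- x = (k n) * (x⁻¹ k n)⁻¹ ; rearrange with normality of N
  have hkN : k ∈ Subgroup.normalizer (A : Set G) := Subgroup.le_normalizer hk
  have h5 : k * n * k⁻¹ ∈ N := ‹N.Normal›.conj_mem n hn k
  have h6 : x = (k * n * k⁻¹) * (k * (x⁻¹ * (k * n))⁻¹) := by group
  rw [h6]
  exact Subgroup.mul_mem_sup h5 (Subgroup.mul_mem _ hkN (Subgroup.inv_mem _ h4))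

/-- The index of the intersection of subgroups `L p` of `p`-power index over a finite set of
primes is coprime to every other prime. -/
theorem coprime_index_iInf' {G : Type*} [Group G] [Finite G] (L : Nat.Primes → Subgroup G)
    (hL : ∀ p : Nat.Primes, ∃ k : ℕ, (L p).index ∣ (p : ℕ) ^ k) (T : Finset Nat.Primes) :
    ∀ r : Nat.Primes, r ∉ T → (⨅ p ∈ T, L p : Subgroup G).index.Coprime (r : ℕ) := by
  classical
  induction T using Finset.induction_on with
  | empty =>
    intro r _
    simp
  | insert p T hp ih =>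
    intro r hr
    rw [Finset.iInf_insert]
    have hrp : r ≠ p := fun h => hr (h ▸ Finset.mem_insert_self _ _)
    have hrT : r ∉ T := fun h => hr (Finset.mem_insert_of_mem h)
    obtain ⟨k, hk⟩ := hL p
    have hcop : (L p).index.Coprime (⨅ p ∈ T, L p : Subgroup G).index :=
      Nat.Coprime.of_dvd_left hk (Nat.Coprime.pow_left _ (ih p hp).symm)
    rw [index_inf_of_coprime _ _ hcop]
    apply Nat.Coprime.mul_left
    · apply Nat.Coprime.of_dvd_left hk
      apply Nat.Coprime.pow_left
      exact (Nat.coprime_primes p.2 r.2).2 (fun h => hrp (Subtype.ext h).symm)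
    · exact ih r hrT

theorem iInf_sup_eq_sup_iInf {G : Type*} [Group G] [Finite G] (L : Nat.Primes → Subgroup G)
    (hL : ∀ p : Nat.Primes, ∃ k : ℕ, (L p).index ∣ (p : ℕ) ^ k) (N : Subgroup G) [N.Normal]
    (T : Finset Nat.Primes) :
    (⨅ p ∈ T, (N ⊔ L p) : Subgroup G) = N ⊔ ⨅ p ∈ T, L p := by
  classical
  induction T using Finset.induction_on with
  | empty => simp
  | insert q T hq ih =>
    rw [Finset.iInf_insert, Finset.iInf_insert, ih]
    apply sup_inf_sup_of_coprime
    obtain ⟨k, hk⟩ := hL q
    exact Nat.Coprime.of_dvd_left hk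
      (Nat.Coprime.pow_left _ (coprime_index_iInf' L hL T q hq).symm)

/-- Let K be a Hall complement system of a finite solvable group G and N a normal subgroup. Then the images of the K p in G modulo N form a Hall complement system of the quotient, and its system normalizer is the image of the system normalizer of K. -/
theorem result {G : Type*} [Group G] [Finite G] [Group.IsSolvable G] (K : Nat.Primes → Subgroup G) (hK : Cfsg.IsComplementSystem K) (N : Subgroup G) [N.Normal] : Cfsg.IsComplementSystem (fun p => (K p).map (QuotientGroup.mk' N)) ∧ Cfsg.systemNormalizer (fun p => (K p).map (QuotientGroup.mk' N)) = (Cfsg.systemNormalizer K).map (QuotientGroup.mk' N) := by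
  classical
  refine ⟨isComplementSystem_map K hK N, ?_⟩
  have hsurj : Function.Surjective (QuotientGroup.mk' N) := QuotientGroup.mk'_surjective N
  apply le_antisymm
  · intro y hy
    obtain ⟨x, rfl⟩ := hsurj y
    -- `x` normalizes every `K p ⊔ N`
    have hx : ∀ p : Nat.Primes, x ∈ N ⊔ Subgroup.normalizer ((K p : Subgroup G) : Set G) := by
      intro p
      have h1 : QuotientGroup.mk' N x ∈
          Subgroup.normalizer (((K p).map (QuotientGroup.mk' N) : Subgroup (G ⧸ N)) : Set (G ⧸ N)) :=
        (iInf_le (fun p : Nat.Primes => Subgroup.normalizer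
          (((K p).map (QuotientGroup.mk' N) : Subgroup (G ⧸ N)) : Set (G ⧸ N))) p) hy
      have h2 : x ∈ (Subgroup.normalizer
          (((K p).map (QuotientGroup.mk' N) : Subgroup (G ⧸ N)) : Set (G ⧸ N))).comap
          (QuotientGroup.mk' N) := h1
      rw [Subgroup.comap_normalizer_eq_of_surjective _ hsurj, Subgroup.comap_map_eq,
        QuotientGroup.ker_mk'] at h2
      exact mem_sup_normalizer (K p) N p p.2 _ (hK p)
        (not_dvd_card_of_isComplementSystem_h9 K hK p) x h2
    let T : Finset Nat.Primes := (Nat.card G).primeFactors.attach.image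
      (fun x => ⟨x.1, Nat.prime_of_mem_primeFactors x.2⟩)
    have hTtop : ∀ p : Nat.Primes, p ∉ T → K p = ⊤ := by
      intro p hp
      have hnd : ¬ (p : ℕ) ∣ Nat.card G := by
        intro hd
        apply hp
        refine Finset.mem_image.2 ⟨⟨(p : ℕ), Nat.mem_primeFactors.2 ⟨p.2, hd, Nat.card_pos.ne'⟩⟩,
          Finset.mem_attach _ _, ?_⟩
        exact Subtype.ext rfl
      have h0 : (Nat.card G).factorization p = 0 := Nat.factorization_eq_zero_of_not_dvd hnd
      have := hK p
      rw [h0, pow_zero] at this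
      exact Subgroup.index_eq_one.1 this
    have hL : ∀ p : Nat.Primes, ∃ k : ℕ,
        (Subgroup.normalizer ((K p : Subgroup G) : Set G)).index ∣ (p : ℕ) ^ k := by
      intro p
      refine ⟨(Nat.card G).factorization p, ?_⟩
      rw [← hK p]
      exact Subgroup.index_dvd_of_le Subgroup.le_normalizer
    have hxT : x ∈ (⨅ p ∈ T, (N ⊔ Subgroup.normalizer ((K p : Subgroup G) : Set G)) :
        Subgroup G) := by
      simp only [Subgroup.mem_iInf]
      intro p _
      exact hx p
    rw [iInf_sup_eq_sup_iInf _ hL N T] at hxT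
    have hle : (⨅ p ∈ T, Subgroup.normalizer ((K p : Subgroup G) : Set G) : Subgroup G) ≤
        Cfsg.systemNormalizer K := by
      apply le_iInf
      intro p
      by_cases hp : p ∈ T
      · exact iInf₂_le p hp
      · rw [hTtop p hp]
        intro z _
        rw [Subgroup.mem_normalizer_iff]
        intro h
        simp
    have hxD : x ∈ N ⊔ Cfsg.systemNormalizer K := (sup_le_sup_left hle N) hxT
    have hmap : (N ⊔ Cfsg.systemNormalizer K).map (QuotientGroup.mk' N) =
        (Cfsg.systemNormalizer K).map (QuotientGroup.mk' N) := by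
      rw [Subgroup.map_sup, QuotientGroup.map_mk'_self, bot_sup_eq]
    rw [← hmap]
    exact Subgroup.mem_map_of_mem _ hxD
  · apply le_iInf
    intro p
    refine le_trans ?_ (Subgroup.le_normalizer_map (QuotientGroup.mk' N))
    exact Subgroup.map_mono (iInf_le _ p)

end Cfsg.Agent.S0545
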