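import Cfsg.Statements.S0546
import Cfsg.Agent.S0545

set_option autoImplicit false
open Cfsg

namespace Cfsg.Agent.S0546

/-- In an abelian quotient every system normalizer is the whole group. -/
theorem systemNormalizer_eq_top_of_comm {Q : Type*} [Group Q]
    (hcomm : ∀ a b : Q, a * b = b * a) (K : Nat.Primes → Subgroup Q) :
    Cfsg.systemNormalizer K = ⊤ := by
  rw [eq_top_iff]
  intro x _
  unfold Cfsg.systemNormalizer
  rw [Subgroup.mem_iInf]
  intro p
  rw [Subgroup.mem_normalizer_iff]
  intro h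
  have : x * h * x⁻¹ = h := by rw [hcomm x h, mul_assoc, mul_inv_cancel, mul_one]
  rw [this]

/-- The normal closure of a system normalizer of a finite solvable group is the whole group. -/
theorem result {G : Type*} [Group G] [Finite G] [Group.IsSolvable G] (K : Nat.Primes → Subgroup G) (hK : Cfsg.IsComplementSystem K) : Subgroup.normalClosure ((Cfsg.systemNormalizer K : Subgroup G) : Set G) = ⊤ := by
  by_contra hne
  set M : Subgroup G := Subgroup.normalClosure ((Cfsg.systemNormalizer K : Subgroup G) : Set G)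
    with hM
  have : M.Normal := Subgroup.normalClosure_normal
  obtain ⟨hK1, hD1⟩ := Cfsg.Agent.S0545.result K hK M
  have hDM : Cfsg.systemNormalizer K ≤ M := Subgroup.subset_normalClosure
  have hD1' : Cfsg.systemNormalizer (fun p => (K p).map (QuotientGroup.mk' M)) = ⊥ := by
    rw [hD1, eq_bot_iff]
    rintro _ ⟨x, hx, rfl⟩
    rw [Subgroup.mem_bot]
    exact (QuotientGroup.eq_one_iff x).2 (hDM hx)
  have : Nontrivial (G ⧸ M) := by
    by_contra hnt
    rw [not_nontrivial_iff_subsingleton] at hnt
    exact hne (QuotientGroup.subgroup_eq_top_of_subsingleton M hnt)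
  have hlt : commutator (G ⧸ M) < ⊤ := Group.IsSolvable.commutator_lt_top_of_nontrivial (G ⧸ M)
  obtain ⟨_, hD2⟩ := Cfsg.Agent.S0545.result (fun p => (K p).map (QuotientGroup.mk' M)) hK1
    (commutator (G ⧸ M))
  rw [hD1', Subgroup.map_bot] at hD2
  have hcomm : ∀ a b : (G ⧸ M) ⧸ commutator (G ⧸ M), a * b = b * a :=
    fun a b => mul_comm (G := Abelianization (G ⧸ M)) a b
  rw [systemNormalizer_eq_top_of_comm hcomm] at hD2
  have hsub : Subsingleton ((G ⧸ M) ⧸ commutator (G ⧸ M)) := by
    constructor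
    intro a b
    have ha : a ∈ (⊤ : Subgroup ((G ⧸ M) ⧸ commutator (G ⧸ M))) := Subgroup.mem_top a
    have hb : b ∈ (⊤ : Subgroup ((G ⧸ M) ⧸ commutator (G ⧸ M))) := Subgroup.mem_top b
    rw [hD2, Subgroup.mem_bot] at ha hb
    rw [ha, hb]
  exact hlt.ne (QuotientGroup.subgroup_eq_top_of_subsingleton _ hsub)

end Cfsg.Agent.S0546
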