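import Mathlib
import Cfsg.Statements.S0561
import Cfsg.Agent.Lib.Helper1.HallDom
import Cfsg.Agent.Lib.Helper50.ChermakDelgado
import Cfsg.Agent.Lib.Helper9.Card

set_option autoImplicit false
open Pointwise
open Cfsg

namespace Cfsg.Agent.S0561

open Cfsg.Agent.Lib.Helper1 Cfsg.Agent.Lib.Helper9

universe u

theorem mem_conj_smul {G : Type*} [Group G] (M : Subgroup G) (g x : G) :
    x ∈ MulAut.conj g • M ↔ g⁻¹ * x * g ∈ M := by
  rw [Subgroup.mem_pointwise_smul_iff_inv_smul_mem, ← map_inv, MulAut.smul_def, MulAut.conj_apply,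
    inv_inv]

theorem conj_mem_conj_smul {G : Type*} [Group G] (M : Subgroup G) (g x : G) (hx : x ∈ M) :
    g * x * g⁻¹ ∈ MulAut.conj g • M := by
  rw [mem_conj_smul]
  have : g⁻¹ * (g * x * g⁻¹) * g = x := by group
  rw [this]; exact hx

theorem card_conj_smul {G : Type*} [Group G] (H : Subgroup G) (g : G) :
    Nat.card (MulAut.conj g • H : Subgroup G) = Nat.card H :=
  (Nat.card_congr (Subgroup.equivSMul (MulAut.conj g) H).toEquiv).symm

theorem coe_conj_smul_mul {G : Type*} [Group G] (X Z : Subgroup G) (g : G) (S : Subgroup G)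
    (hS : (S : Set G) = (X : Set G) * (Z : Set G)) :
    ((MulAut.conj g • S : Subgroup G) : Set G) =
      ((MulAut.conj g • X : Subgroup G) : Set G) * ((MulAut.conj g • Z : Subgroup G) : Set G) := by
  ext x
  rw [SetLike.mem_coe, mem_conj_smul, ← SetLike.mem_coe, hS]
  constructor
  · rintro ⟨a, ha, b, hb, e⟩
    refine ⟨g * a * g⁻¹, conj_mem_conj_smul X g a ha, g * b * g⁻¹, conj_mem_conj_smul Z g b hb, ?_⟩
    have e' : a * b = g⁻¹ * x * g := e
    calc g * a * g⁻¹ * (g * b * g⁻¹) = g * (a * b) * g⁻¹ := by group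
      _ = x := by rw [e']; group
  · rintro ⟨a, ha, b, hb, e⟩
    rw [SetLike.mem_coe, mem_conj_smul] at ha hb
    refine ⟨_, ha, _, hb, ?_⟩
    have e' : a * b = x := e
    simp only
    rw [← e']; group

/-- conjugating by an element of the normalizer fixes the subgroup -/
theorem conj_smul_eq_of_mem_normalizer {G : Type*} [Group G] (M : Subgroup G) (g : G)
    (hg : g ∈ Subgroup.normalizer (M : Set G)) : MulAut.conj g • M = M := by
  ext x
  rw [mem_conj_smul]
  have hg' : g⁻¹ ∈ Subgroup.normalizer (M : Set G) := Subgroup.inv_mem _ hg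
  rw [Subgroup.mem_normalizer_iff] at hg'
  rw [hg' x, inv_inv]

/-- A normal subgroup whose order is coprime to the index of `L` lies in `L`. -/
theorem normal_le_of_coprime {G : Type*} [Group G] [Finite G] (N L : Subgroup G) [N.Normal]
    (hcop : (Nat.card N).Coprime L.index) : N ≤ L := by
  set d := L.relIndex (L ⊔ N) with hd
  have h1 : N.relIndex L * Nat.card N = Nat.card (L ⊔ N : Subgroup G) := by
    have e : N.relIndex (L ⊔ N) = N.relIndex L := Subgroup.relIndex_sup_right L N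
    rw [← e]
    exact relIndex_mul_card_of_le le_sup_right
  have h2 : d * Nat.card L = Nat.card (L ⊔ N : Subgroup G) := relIndex_mul_card_of_le le_sup_left
  have h3 : N.relIndex L * Nat.card (N ⊓ L : Subgroup G) = Nat.card L := by
    have e : (N ⊓ L).relIndex L = N.relIndex L := Subgroup.inf_relIndex_right N L
    rw [← e]
    exact relIndex_mul_card_of_le inf_le_right
  have h4 : d * Nat.card (N ⊓ L : Subgroup G) = Nat.card N := by
    have hpos : 0 < N.relIndex L := by
      rcases Nat.eq_zero_or_pos (N.relIndex L) with h | h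
      · rw [h, zero_mul] at h3
        exact absurd h3.symm (Nat.card_pos (α := L)).ne'
      · exact h
    apply Nat.eq_of_mul_eq_mul_left hpos
    calc N.relIndex L * (d * Nat.card (N ⊓ L : Subgroup G))
        = d * (N.relIndex L * Nat.card (N ⊓ L : Subgroup G)) := by ring
      _ = d * Nat.card L := by rw [h3]
      _ = N.relIndex L * Nat.card N := by rw [h2, h1]
  have hd1 : d ∣ Nat.card N := Dvd.intro _ h4
  have hd2 : d ∣ L.index := Subgroup.relIndex_dvd_index_of_le le_sup_left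
  have hd : d = 1 := Nat.eq_one_of_dvd_coprimes hcop hd1 hd2
  have := Subgroup.relIndex_eq_one.mp hd
  exact le_sup_right.trans this

/-- Hall subgroup of order `gcd |H| m` inside a subgroup `H` of a solvable group of order `m * n`. -/
theorem exists_hall_in {G : Type u} [Group G] [Finite G] [Group.IsSolvable G] (m n : ℕ)
    (hG : Nat.card G = m * n) (hmn : m.Coprime n) (H : Subgroup G) :
    ∃ H₁ : Subgroup G, H₁ ≤ H ∧ Nat.card H₁ = Nat.gcd (Nat.card H) m ∧
      H₁.relIndex H = Nat.gcd (Nat.card H) n := by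
  have hdvd : Nat.card H ∣ m * n := hG ▸ H.card_subgroup_dvd_card
  have hsplit : Nat.card H = Nat.gcd (Nat.card H) m * Nat.gcd (Nat.card H) n := by
    rw [← Nat.Coprime.gcd_mul _ hmn, Nat.gcd_eq_left hdvd]
  have hcop : (Nat.gcd (Nat.card H) m).Coprime (Nat.gcd (Nat.card H) n) :=
    Nat.Coprime.coprime_dvd_left (Nat.gcd_dvd_right _ _)
      (Nat.Coprime.coprime_dvd_right (Nat.gcd_dvd_right _ _) hmn)
  obtain ⟨H₁', hH₁'⟩ := hall_exists (G := H) _ _ hsplit hcop
  have hcard : Nat.card (H₁'.map H.subtype) = Nat.gcd (Nat.card H) m := by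
    rw [Subgroup.card_map_of_injective H.subtype_injective, hH₁']
  refine ⟨H₁'.map H.subtype, Subgroup.map_subtype_le _, hcard, ?_⟩
  have h1 := relIndex_mul_card_of_le (Subgroup.map_subtype_le H₁')
  rw [hcard] at h1
  have hpos : 0 < Nat.gcd (Nat.card H) m :=
    Nat.gcd_pos_of_pos_left _ Nat.card_pos
  apply Nat.eq_of_mul_eq_mul_right hpos
  rw [h1, mul_comm]
  exact hsplit

theorem conj_smul_le_of_mem {G : Type*} [Group G] (H H₁ : Subgroup G) (h : G) (hh : h ∈ H)
    (hle : H₁ ≤ H) : MulAut.conj h • H₁ ≤ H := by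
  intro x hx
  rw [mem_conj_smul] at hx
  have : x = h * (h⁻¹ * x * h) * h⁻¹ := by group
  rw [this]
  exact H.mul_mem (H.mul_mem hh (hle hx)) (H.inv_mem hh)

theorem relIndex_conj_smul_of_mem {G : Type*} [Group G] [Finite G] (H H₁ : Subgroup G) (h : G)
    (hh : h ∈ H) (hle : H₁ ≤ H) : (MulAut.conj h • H₁).relIndex H = H₁.relIndex H := by
  have h1 := relIndex_mul_card_of_le (conj_smul_le_of_mem H H₁ h hh hle)
  have h2 := relIndex_mul_card_of_le hle
  rw [card_conj_smul, ← h2] at h1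
  exact Nat.eq_of_mul_eq_mul_right Nat.card_pos h1

theorem exists_common_hall {G : Type u} [Group G] [Finite G] [Group.IsSolvable G] (m n : ℕ)
    (hG : Nat.card G = m * n) (hmn : m.Coprime n) (H K : Subgroup G)
    (hHK : ∀ g : G, ∃ h ∈ H, ∃ k ∈ K, g = h * k) :
    ∃ (R H₂ K₂ : Subgroup G), Nat.card R = m ∧ H₂ ≤ H ∧ K₂ ≤ K ∧ H₂ ≤ R ∧ K₂ ≤ R ∧
      H₂.relIndex H = Nat.gcd (Nat.card H) n ∧ K₂.relIndex K = Nat.gcd (Nat.card K) n := by
  obtain ⟨H₁, hH₁H, hH₁c, hH₁i⟩ := exists_hall_in m n hG hmn H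
  obtain ⟨K₁, hK₁K, hK₁c, hK₁i⟩ := exists_hall_in m n hG hmn K
  have c1 : (Nat.card H₁).Coprime n := by
    rw [hH₁c]; exact Nat.Coprime.coprime_dvd_left (Nat.gcd_dvd_right _ _) hmn
  have c2 : (Nat.card K₁).Coprime n := by
    rw [hK₁c]; exact Nat.Coprime.coprime_dvd_left (Nat.gcd_dvd_right _ _) hmn
  obtain ⟨S₁, hS₁c, hS₁⟩ := hall_dom m n hG hmn H₁ c1
  obtain ⟨S₂, hS₂c, hS₂⟩ := hall_dom m n hG hmn K₁ c2
  obtain ⟨g, hg⟩ := hall_conj m n hG hmn S₁ S₂ hS₁c hS₂c
  obtain ⟨h, hh, k, hk, hgk⟩ := hHK g⁻¹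
  have hg' : g = k⁻¹ * h⁻¹ := by
    rw [← mul_inv_rev, ← hgk, inv_inv]
  have hR : MulAut.conj h⁻¹ • S₁ = MulAut.conj k • S₂ := by
    rw [← hg, hg', map_mul, mul_smul, smul_smul (MulAut.conj k), ← map_mul, mul_inv_cancel,
      map_one, one_smul]
  refine ⟨MulAut.conj h⁻¹ • S₁, MulAut.conj h⁻¹ • H₁, MulAut.conj k • K₁, ?_, ?_, ?_, ?_, ?_,
    ?_, ?_⟩
  · rw [card_conj_smul, hS₁c]
  · exact conj_smul_le_of_mem H H₁ h⁻¹ (H.inv_mem hh) hH₁H
  · exact conj_smul_le_of_mem K K₁ k hk hK₁K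
  · exact Subgroup.pointwise_smul_le_pointwise_smul_iff.mpr hS₁
  · rw [hR]; exact Subgroup.pointwise_smul_le_pointwise_smul_iff.mpr hS₂
  · rw [relIndex_conj_smul_of_mem H H₁ h⁻¹ (H.inv_mem hh) hH₁H, hH₁i]
  · rw [relIndex_conj_smul_of_mem K K₁ k hk hK₁K, hK₁i]

/-- Let the finite solvable group G be the product HK of subgroups, and let A be normal in H and B normal in K, where A and B are Hall subgroups of G (order coprime to index). Then for all x, y the product set of xAx⁻¹ and yBy⁻¹ is a subgroup of G. -/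
theorem result {G : Type*} [Group G] [Finite G] [Group.IsSolvable G] (H K A B : Subgroup G) (hHK : ∀ g : G, ∃ h ∈ H, ∃ k ∈ K, g = h * k) (hA : A ≤ H) (hAn : (A.subgroupOf H).Normal) (hB : B ≤ K) (hBn : (B.subgroupOf K).Normal) (hAh : (Nat.card A).Coprime A.index) (hBh : (Nat.card B).Coprime B.index) (x y : G) : ∃ S : Subgroup G, (S : Set G) = ((MulAut.conj x • A : Subgroup G) : Set G) * ((MulAut.conj y • B : Subgroup G) : Set G) := by
  classical
  set a := Nat.card A with ha
  set b := Nat.card B with hb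
  set m := Nat.lcm a b with hm
  have ha_dvd : a ∣ Nat.card G := A.card_subgroup_dvd_card
  have hb_dvd : b ∣ Nat.card G := B.card_subgroup_dvd_card
  have hm_dvd : m ∣ Nat.card G := Nat.lcm_dvd ha_dvd hb_dvd
  obtain ⟨n, hn⟩ := hm_dvd
  have ham : a ∣ m := Nat.dvd_lcm_left a b
  have hbm : b ∣ m := Nat.dvd_lcm_right a b
  have hapos : 0 < a := Nat.card_pos
  have hbpos : 0 < b := Nat.card_pos
  have hnA : n ∣ A.index := by
    obtain ⟨c, hc⟩ := ham
    have h1 := A.card_mul_index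
    rw [hn, hc, mul_assoc] at h1
    have h2 := Nat.eq_of_mul_eq_mul_left hapos h1
    exact Dvd.intro_left c h2.symm
  have hnB : n ∣ B.index := by
    obtain ⟨c, hc⟩ := hbm
    have h1 := B.card_mul_index
    rw [hn, hc, mul_assoc] at h1
    have h2 := Nat.eq_of_mul_eq_mul_left hbpos h1
    exact Dvd.intro_left c h2.symm
  have hmn : m.Coprime n := by
    apply Nat.coprime_of_dvd
    intro p hp hpm hpn
    have h1 : p ∣ a * b := hpm.trans (Nat.lcm_dvd_mul a b)
    rcases (Nat.Prime.dvd_mul hp).mp h1 with h | h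
    · exact hp.one_lt.ne' (Nat.eq_one_of_dvd_coprimes hAh h (hpn.trans hnA))
    · exact hp.one_lt.ne' (Nat.eq_one_of_dvd_coprimes hBh h (hpn.trans hnB))
  obtain ⟨R, H₂, K₂, hRc, hH₂H, hK₂K, hH₂R, hK₂R, hH₂i, hK₂i⟩ :=
    exists_common_hall m n hn hmn H K hHK
  have hAH₂ : A ≤ H₂ := by
    haveI := hAn
    have hcop : (Nat.card (A.subgroupOf H)).Coprime (H₂.subgroupOf H).index := by
      rw [Nat.card_congr (Subgroup.subgroupOfEquivOfLe hA).toEquiv]
      change a.Coprime (H₂.relIndex H)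
      rw [hH₂i]
      exact Nat.Coprime.coprime_dvd_left ham
        (Nat.Coprime.coprime_dvd_right (Nat.gcd_dvd_right _ _) hmn)
    have hle := normal_le_of_coprime (A.subgroupOf H) (H₂.subgroupOf H) hcop
    intro z hz
    have h1 : (⟨z, hA hz⟩ : H) ∈ A.subgroupOf H := by
      rw [Subgroup.mem_subgroupOf]; exact hz
    have h2 := hle h1
    rw [Subgroup.mem_subgroupOf] at h2
    exact h2
  have hBK₂ : B ≤ K₂ := by
    haveI := hBn
    have hcop : (Nat.card (B.subgroupOf K)).Coprime (K₂.subgroupOf K).index := by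
      rw [Nat.card_congr (Subgroup.subgroupOfEquivOfLe hB).toEquiv]
      change b.Coprime (K₂.relIndex K)
      rw [hK₂i]
      exact Nat.Coprime.coprime_dvd_left hbm
        (Nat.Coprime.coprime_dvd_right (Nat.gcd_dvd_right _ _) hmn)
    have hle := normal_le_of_coprime (B.subgroupOf K) (K₂.subgroupOf K) hcop
    intro z hz
    have h1 : (⟨z, hB hz⟩ : K) ∈ B.subgroupOf K := by
      rw [Subgroup.mem_subgroupOf]; exact hz
    have h2 := hle h1
    rw [Subgroup.mem_subgroupOf] at h2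
    exact h2
  have hAR : A ≤ R := hAH₂.trans hH₂R
  have hBR : B ≤ R := hBK₂.trans hK₂R
  have hABR : (A : Set G) * (B : Set G) = (R : Set G) := by
    have hsub : (A : Set G) * (B : Set G) ⊆ (R : Set G) := by
      rintro _ ⟨u, hu, v, hv, rfl⟩
      exact R.mul_mem (hAR hu) (hBR hv)
    apply Set.eq_of_subset_of_ncard_le hsub _ (Set.toFinite _)
    rw [← Nat.card_coe_set_eq, ← Nat.card_coe_set_eq]
    change Nat.card R ≤ _
    rw [hRc]
    have f := Cfsg.Agent.Lib.Helper50.card_mul_card_eq_card_inf_mul_card_mul A B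
    have hd1 : Nat.card (A ⊓ B : Subgroup G) ∣ a := Subgroup.card_dvd_of_le inf_le_left
    have hd2 : Nat.card (A ⊓ B : Subgroup G) ∣ b := Subgroup.card_dvd_of_le inf_le_right
    have hd : Nat.card (A ⊓ B : Subgroup G) ∣ Nat.gcd a b := Nat.dvd_gcd hd1 hd2
    have hgpos : 0 < Nat.gcd a b := Nat.gcd_pos_of_pos_left _ hapos
    have hdle : Nat.card (A ⊓ B : Subgroup G) ≤ Nat.gcd a b := Nat.le_of_dvd hgpos hd
    have hdpos : 0 < Nat.card (A ⊓ B : Subgroup G) := Nat.card_pos
    have hgl : Nat.gcd a b * m = a * b := Nat.gcd_mul_lcm a b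
    -- f : a * b = d * c
    have : Nat.card (A ⊓ B : Subgroup G) * m ≤
        Nat.card (A ⊓ B : Subgroup G) * Nat.card ((A : Set G) * (B : Set G) : Set G) := by
      rw [← f]
      calc Nat.card (A ⊓ B : Subgroup G) * m ≤ Nat.gcd a b * m := Nat.mul_le_mul_right _ hdle
        _ = a * b := hgl
    exact Nat.le_of_mul_le_mul_left this hdpos
  have hHnA : H ≤ Subgroup.normalizer (A : Set G) :=
    (Subgroup.normal_subgroupOf_iff_le_normalizer hA).mp hAn
  have hKnB : K ≤ Subgroup.normalizer (B : Set G) :=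
    (Subgroup.normal_subgroupOf_iff_le_normalizer hB).mp hBn
  obtain ⟨h, hh, k, hk, hz⟩ := hHK (x⁻¹ * y)
  refine ⟨MulAut.conj (x * h) • R, ?_⟩
  rw [coe_conj_smul_mul A B (x * h) R hABR.symm]
  have e1 : MulAut.conj (x * h) • A = MulAut.conj x • A := by
    rw [map_mul, mul_smul, conj_smul_eq_of_mem_normalizer A h (hHnA hh)]
  have e2 : MulAut.conj (x * h) • B = MulAut.conj y • B := by
    have hy : y = x * h * k := by
      rw [mul_assoc, ← hz]; group
    rw [hy, map_mul MulAut.conj (x * h) k, mul_smul,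
      conj_smul_eq_of_mem_normalizer B k (hKnB hk)]
  rw [e1, e2]

end Cfsg.Agent.S0561
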