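import Cfsg.Statements.S0022
import Cfsg.Agent.Lib.Helper54.Coprime
-- import your own Cfsg.Agent.* helpers here

set_option autoImplicit false
open Cfsg
open Pointwise
open Cfsg.Agent.Lib.Helper54

namespace Cfsg.Agent.S0022

/-- Under coprime action fixed points pass to quotients: with A normalising K, coprime orders, A or K solvable, and N an A-invariant normal subgroup of K, every coset of N in K fixed by conjugation by A contains an element centralised by A. -/
theorem result {G : Type*} [Group G] [Finite G] (A K : Subgroup G) (hAK : A ≤ Subgroup.normalizer (K : Set G))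
    (hcop : (Nat.card A).Coprime (Nat.card K)) (hsolv : Group.IsSolvable A ∨ Group.IsSolvable K)
    (N : Subgroup G) (hNK : N ≤ K) (hNnormal : K ≤ Subgroup.normalizer (N : Set G)) (hNA : A ≤ Subgroup.normalizer (N : Set G))
    (k : G) (hk : k ∈ K) (hfix : ∀ a ∈ A, a * k * a⁻¹ * k⁻¹ ∈ N) :
    ∃ c ∈ K ⊓ Subgroup.centralizer (A : Set G), k⁻¹ * c ∈ N := by
  have hdisjKA : K ⊓ A = ⊥ := (Subgroup.disjoint_of_coprime_natCard hcop.symm).eq_bot
  have hdisjNA : N ⊓ A = ⊥ := le_bot_iff.mp (hdisjKA ▸ inf_le_inf_right A hNK)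
  have hcopN : (Nat.card N).Coprime (Nat.card A) :=
    Nat.Coprime.coprime_dvd_left (Subgroup.card_dvd_of_le hNK) hcop.symm
  -- the conjugate `k⁻¹ A k` lies in `N A`
  have hBM : MulAut.conj k⁻¹ • A ≤ N ⊔ A := by
    intro x hx
    rw [mem_conj_smul_iff, inv_inv] at hx
    have hn := hfix _ hx
    have hn' : k⁻¹ * (k * x * k⁻¹ * k * (k * x * k⁻¹)⁻¹ * k⁻¹) * k⁻¹⁻¹ ∈ N :=
      (Subgroup.mem_normalizer_iff.mp (hNnormal (K.inv_mem hk)) _).mp hn
    have hx' : x = (k⁻¹ * (k * x * k⁻¹ * k * (k * x * k⁻¹)⁻¹ * k⁻¹) * k⁻¹⁻¹) * (k * x * k⁻¹) := by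
      group
    rw [hx']
    exact Subgroup.mul_mem_sup hn' hx
  have hsolv' : Group.IsSolvable A ∨ Group.IsSolvable N :=
    hsolv.imp id (isSolvable_of_le hNK)
  obtain ⟨l, hlN, hl⟩ := sz_conj_rel (N ⊔ A) N A (MulAut.conj k⁻¹ • A) le_sup_left
    (sup_le Subgroup.le_normalizer hNA) le_sup_right hBM
    (card_sup_of_le_normalizer hNA hdisjNA).symm (card_conj_smul _ _) hcopN hsolv'
  refine ⟨k * l, ⟨K.mul_mem hk (hNK hlN), ?_⟩, by simpa using hlN⟩
  apply inf_normalizer_le_centralizer hAK hdisjKA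
  refine ⟨K.mul_mem hk (hNK hlN), ?_⟩
  change k * l ∈ Subgroup.normalizer (A : Set G)
  rw [mem_normalizer_iff_conj_smul, map_mul, mul_smul, hl, map_inv, smul_inv_smul]

end Cfsg.Agent.S0022
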