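-- S0031 (helper35): a fixed-point-free automorphism fixes a Sylow p-subgroup.
import Cfsg.Statements.S0031

set_option autoImplicit false
open Cfsg

namespace Cfsg.Agent.S0031

open scoped Pointwise

/-- A fixed-point-free automorphism of a finite group maps some Sylow p-subgroup to itself. -/
theorem result {G : Type*} [Group G] [Finite G] (φ : G ≃* G)
    (hφ : MonoidHom.FixedPointFree (φ : G →* G)) (p : ℕ) [Fact p.Prime] :
    ∃ P : Sylow p G, (P : Subgroup G).map (φ : G →* G) = P := by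
  obtain ⟨P₀⟩ : Nonempty (Sylow p G) := inferInstance
  -- the image of P₀ under φ, as a Sylow subgroup
  let φ' : MulAut G := φ
  obtain ⟨g, hg⟩ := MulAction.exists_smul_eq G P₀ (φ' • P₀)
  have hg' : ∀ w : G, g⁻¹ * w * g ∈ (P₀ : Subgroup G) ↔ φ.symm w ∈ (P₀ : Subgroup G) := by
    intro w
    have h1 : w ∈ ((g • P₀ : Sylow p G) : Subgroup G) ↔ w ∈ ((φ' • P₀ : Sylow p G) : Subgroup G) := by
      rw [hg]
    rw [Sylow.coe_subgroup_smul, Sylow.pointwise_smul_def,
      Subgroup.mem_pointwise_smul_iff_inv_smul_mem, Subgroup.mem_pointwise_smul_iff_inv_smul_mem] at h1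
    simpa [MulAut.smul_def, MulAut.conj_inv_apply, φ'] using h1
  -- write g = (φ x)⁻¹ * x
  obtain ⟨y, hy⟩ := hφ.commutatorMap_surjective g⁻¹
  have hgx : g = (φ y⁻¹)⁻¹ * y⁻¹ := by
    have h := congrArg (·⁻¹) hy
    simp only [MonoidHom.commutatorMap_apply, MonoidHom.coe_coe, inv_inv] at h
    rw [← h, map_inv, inv_inv, div_eq_mul_inv, mul_inv_rev, inv_inv]
  set x := y⁻¹ with hx
  refine ⟨x • P₀, ?_⟩
  ext z
  rw [Sylow.coe_subgroup_smul]
  have h2 : z ∈ Subgroup.map (φ : G →* G) (MulAut.conj x • (P₀ : Subgroup G)) ↔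
      φ.symm z ∈ MulAut.conj x • (P₀ : Subgroup G) := Subgroup.mem_map_equiv
  rw [h2, Subgroup.mem_pointwise_smul_iff_inv_smul_mem, Subgroup.mem_pointwise_smul_iff_inv_smul_mem]
  simp only [MulAut.smul_def, MulAut.conj_inv_apply]
  have h3 := hg' ((φ x)⁻¹ * z * φ x)
  have e1 : g⁻¹ * ((φ x)⁻¹ * z * φ x) * g = x⁻¹ * z * x := by
    rw [hgx]; group
  have e2 : φ.symm ((φ x)⁻¹ * z * φ x) = x⁻¹ * φ.symm z * x := by
    simp
  rw [e1, e2] at h3
  exact h3.symm

end Cfsg.Agent.S0031
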