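import Cfsg.Statements.S0622
-- import your own Cfsg.Agent.* helpers here
import Cfsg.Agent.Lib.Helper97.OmegaOne
import Cfsg.Agent.Lib.Helper97.Cores

set_option autoImplicit false
universe u
open Cfsg

namespace Cfsg.Agent.S0622

open Cfsg.Agent.Lib.Helper97

/-- Transport of a stable embedding along an isomorphism of the source. -/
theorem isStableEmbedding_comp_equiv {p : ℕ} {S S' H : Type u} [Group S] [Group S'] [Group H]
    (η : S ≃* S') (τ : S' →* H) (hτ : IsStableEmbedding p τ) :
    IsStableEmbedding p (τ.comp η.toMonoidHom) := by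
  obtain ⟨h1, h2, ⟨P, hP⟩, h4, h5, h6⟩ := hτ
  refine ⟨h1.comp η.injective, h2, ⟨P, ?_⟩, h4, ?_, ?_⟩
  · rw [hP, MonoidHom.range_comp]
    have : η.toMonoidHom.range = ⊤ := MonoidHom.range_eq_top.mpr η.surjective
    rw [this, ← MonoidHom.range_eq_map]
  · rw [← Subgroup.map_map, thompsonSubgroup_map_equiv η p]
    exact h5
  · intro V hV hle
    apply h6 V
    rw [← Subgroup.map_map, omegaCenterThompson_map_equiv p η] at hle
    exact hle

/-- The defining family of `stableNormalClosure` is transported by isomorphisms. -/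
theorem family_map_equiv {p : ℕ} {S S' : Type u} [Group S] [Group S'] (η : S ≃* S')
    {W : Subgroup S}
    (hW : omegaOne p (Subgroup.center S) ≤ W ∧
      ∀ (H : Type u) [Group H] (τ : S →* H), IsStableEmbedding p τ → (W.map τ).Normal) :
    omegaOne p (Subgroup.center S') ≤ W.map η.toMonoidHom ∧
      ∀ (H : Type u) [Group H] (τ : S' →* H), IsStableEmbedding p τ →
        ((W.map η.toMonoidHom).map τ).Normal := by
  refine ⟨?_, ?_⟩
  · rw [← omegaOne_center_map_equiv p η]
    exact Subgroup.map_mono hW.1
  · intro H _ τ hτ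
    rw [Subgroup.map_map]
    exact hW.2 H _ (isStableEmbedding_comp_equiv η τ hτ)

theorem map_le {p : ℕ} {S S' : Type u} [Group S] [Group S'] (η : S ≃* S') :
    (stableNormalClosure p S).map η.toMonoidHom ≤ stableNormalClosure p S' := by
  unfold stableNormalClosure
  refine le_sInf fun W' hW' => ?_
  have h1 := family_map_equiv η.symm hW'
  have h2 : sInf {W : Subgroup S | omegaOne p (Subgroup.center S) ≤ W ∧
      ∀ (H : Type u) [Group H] (τ : S →* H), IsStableEmbedding p τ → (W.map τ).Normal} ≤
      W'.map η.symm.toMonoidHom := sInf_le h1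
  have h3 := Subgroup.map_mono (f := η.toMonoidHom) h2
  rwa [map_map_symm_equiv] at h3

theorem map_eq {p : ℕ} {S S' : Type u} [Group S] [Group S'] (η : S ≃* S') :
    (stableNormalClosure p S).map η.toMonoidHom = stableNormalClosure p S' := by
  apply le_antisymm (map_le η)
  have h := Subgroup.map_mono (f := η.toMonoidHom) (map_le (p := p) η.symm)
  rwa [map_map_symm_equiv] at h

/-- Basic properties of the stable normal closure W(S) of Ω₁(Z(S)) in a finite p-group: characteristic, squeezed between Ω₁(Z(S)) and Ω₁(Z(J(S))), nontrivial for S ≠ 1, and transported by group isomorphisms. -/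
theorem result {S : Type u} [Group S] [Finite S] {p : ℕ} [Fact p.Prime] (hS : IsPGroup p S) : (Cfsg.stableNormalClosure p S).Characteristic ∧ Cfsg.omegaOne p (Subgroup.center S) ≤ Cfsg.stableNormalClosure p S ∧ Cfsg.stableNormalClosure p S ≤ Cfsg.omegaCenterThompson p S ∧ (Nontrivial S → Cfsg.stableNormalClosure p S ≠ ⊥) ∧ ∀ (S' : Type u) [Group S'] (η : S ≃* S'), (Cfsg.stableNormalClosure p S).map η.toMonoidHom = Cfsg.stableNormalClosure p S' := by
  have hle : omegaOne p (Subgroup.center S) ≤ stableNormalClosure p S := by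
    unfold stableNormalClosure
    exact le_sInf fun W hW => hW.1
  refine ⟨?_, hle, ?_, ?_, fun S' _ η => map_eq η⟩
  · rw [Subgroup.characteristic_iff_map_eq]
    intro ϕ
    exact map_eq ϕ
  · unfold stableNormalClosure
    apply sInf_le
    refine ⟨omegaOne_center_le_omegaCenterThompson p, ?_⟩
    intro H _ τ hτ
    exact omegaCenterThompson_map_normal p τ hτ.1 hτ.2.2.2.2.1
  · intro hnt hbot
    have hc : Nontrivial (Subgroup.center S) := hS.center_nontrivial
    have hne : Subgroup.center S ≠ ⊥ := (Subgroup.nontrivial_iff_ne_bot _).mp hc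
    have h1 : omegaOne p (Subgroup.center S) ≠ ⊥ :=
      omegaOne_ne_bot (hS.to_subgroup _) hne
    apply h1
    rw [eq_bot_iff, ← hbot]
    exact hle

end Cfsg.Agent.S0622
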