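import Cfsg.Statements.S0029
import Mathlib.GroupTheory.Perm.Cycle.Type
import Mathlib.GroupTheory.Index
-- import your own Cfsg.Agent.* helpers here

set_option autoImplicit false
open Cfsg

namespace Cfsg.Agent.S0029


section helpers

variable {G : Type*} [Group G]

/-- An element `a` of `r`-power order that maps the coset `kΦ` to itself under conjugation, where
`r ∤ |Φ|`, fixes some element of that coset. -/
theorem exists_fixed_in_coset [Finite G] {r : ℕ} [Fact r.Prime] (Φ : Subgroup G) (a k : G) (e : ℕ)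
    (ha : a ^ r ^ e = 1) (hr : ¬ r ∣ Nat.card Φ)
    (hinv : ∀ x : G, k⁻¹ * x ∈ Φ → k⁻¹ * (a * x * a⁻¹) ∈ Φ) :
    ∃ x : G, k⁻¹ * x ∈ Φ ∧ a * x * a⁻¹ = x := by
  classical
  let α := {x : G // k⁻¹ * x ∈ Φ}
  have : Fintype α := Fintype.ofFinite α
  let f : α → α := fun x => ⟨a * x.1 * a⁻¹, hinv x.1 x.2⟩
  have hf_inj : Function.Injective f := by
    intro x y hxy
    have h1 : a * x.1 * a⁻¹ = a * y.1 * a⁻¹ := congrArg Subtype.val hxy
    apply Subtype.ext
    simpa using h1
  have hf_bij : Function.Bijective f := Finite.injective_iff_bijective.mp hf_inj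
  let σ : Equiv.Perm α := Equiv.ofBijective f hf_bij
  have hσ_pow : ∀ (n : ℕ) (x : α), ((σ ^ n) x).1 = a ^ n * x.1 * (a ^ n)⁻¹ := by
    intro n
    induction n with
    | zero => intro x; simp
    | succ n ih =>
      intro x
      rw [pow_succ', Equiv.Perm.mul_apply]
      change a * ((σ ^ n) x).1 * a⁻¹ = _
      rw [ih x, pow_succ']
      group
  have hσ : σ ^ r ^ e = 1 := by
    ext x
    rw [hσ_pow, ha]
    simp
  have hcard : Fintype.card α = Nat.card Φ := by
    rw [← Nat.card_eq_fintype_card]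
    refine Nat.card_congr ⟨fun x => ⟨k⁻¹ * x.1, x.2⟩, fun y => ⟨k * y.1, by simp⟩, ?_, ?_⟩
    · intro x; apply Subtype.ext; simp
    · intro y; apply Subtype.ext; simp
  have hα : ¬ r ∣ Fintype.card α := by rwa [hcard]
  obtain ⟨x, hx⟩ := Equiv.Perm.exists_fixed_point_of_prime hα hσ
  exact ⟨x.1, x.2, congrArg Subtype.val hx⟩

/-- Prime-power case: an element of `r`-power order acting trivially on `K/Φ(K)` with `r ∤ |Φ(K)|`
centralizes `K`. -/
theorem mem_centralizer_of_prime_pow [Finite G] (K : Subgroup G) {r : ℕ} [Fact r.Prime] (a : G) (e : ℕ)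
    (ha : a ^ r ^ e = 1) (hr : ¬ r ∣ Nat.card (frattini K))
    (htriv : ∀ k ∈ K, a * k * a⁻¹ * k⁻¹ ∈ (frattini K).map K.subtype) :
    a ∈ Subgroup.centralizer (K : Set G) := by
  set Φ : Subgroup G := (frattini K).map K.subtype with hΦ
  have hΦK : Φ ≤ K := by
    rw [hΦ]; exact Subgroup.map_subtype_le _
  have hcard : Nat.card Φ = Nat.card (frattini K) :=
    Subgroup.card_map_of_injective (Subgroup.subtype_injective K)
  have hnormal : ∀ k ∈ K, ∀ φ ∈ Φ, k * φ * k⁻¹ ∈ Φ := by
    intro k hk φ hφ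
    rw [hΦ, Subgroup.mem_map] at hφ ⊢
    obtain ⟨y, hy, rfl⟩ := hφ
    refine ⟨⟨k, hk⟩ * y * ⟨k, hk⟩⁻¹, ?_, by simp⟩
    exact Subgroup.Normal.conj_mem inferInstance y hy ⟨k, hk⟩
  have hr' : ¬ r ∣ Nat.card Φ := by rwa [hcard]
  have hfix : ∀ k ∈ K, ∃ x : G, k⁻¹ * x ∈ Φ ∧ a * x * a⁻¹ = x := by
    intro k hk
    apply exists_fixed_in_coset Φ a k e ha hr'
    intro x hx
    have hxK : x ∈ K := by
      have : x = k * (k⁻¹ * x) := by group
      rw [this]
      exact K.mul_mem hk (hΦK hx)
    have h1 := htriv x hxK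
    have h2 := hnormal k⁻¹ (K.inv_mem hk) _ h1
    have h3 : k⁻¹ * (a * x * a⁻¹) = k⁻¹ * (a * x * a⁻¹ * x⁻¹) * k⁻¹⁻¹ * (k⁻¹ * x) := by group
    rw [h3]
    exact Φ.mul_mem h2 hx
  -- `C_K(a) Φ(K) = K`
  have hsup : (Subgroup.centralizer ({a} : Set G)).subgroupOf K ⊔ frattini K = ⊤ := by
    rw [eq_top_iff]
    intro k _
    obtain ⟨x, hx1, hx2⟩ := hfix k.1 k.2
    have hxK : x ∈ K := by
      have : x = k.1 * (k.1⁻¹ * x) := by group
      rw [this]
      exact K.mul_mem k.2 (hΦK hx1)
    have hxc : (⟨x, hxK⟩ : K) ∈ (Subgroup.centralizer ({a} : Set G)).subgroupOf K := by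
      rw [Subgroup.mem_subgroupOf, Subgroup.mem_centralizer_singleton_iff]
      simp only
      calc x * a = a * x * a⁻¹ * a := by rw [hx2]
        _ = a * x := by group
    have hφ : (⟨x, hxK⟩ : K)⁻¹ * k ∈ frattini K := by
      have h4 : (k.1⁻¹ * x)⁻¹ ∈ Φ := Φ.inv_mem hx1
      rw [hΦ, Subgroup.mem_map] at h4
      obtain ⟨y, hy, hyx⟩ := h4
      have : y = (⟨x, hxK⟩ : K)⁻¹ * k := by
        apply Subtype.ext
        rw [← Subgroup.subtype_apply, hyx]
        simp
      rwa [← this]
    have : k = (⟨x, hxK⟩ : K) * ((⟨x, hxK⟩ : K)⁻¹ * k) := by group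
    rw [this]
    exact Subgroup.mul_mem_sup hxc hφ
  have htop := frattini_nongenerating hsup
  rw [Subgroup.mem_centralizer_iff]
  intro k hk
  have : (⟨k, hk⟩ : K) ∈ (Subgroup.centralizer ({a} : Set G)).subgroupOf K := by
    rw [htop]; trivial
  rw [Subgroup.mem_subgroupOf, Subgroup.mem_centralizer_singleton_iff] at this
  exact this

/-- General case, by induction on the order of the acting element. -/
theorem mem_centralizer_of_order [Finite G] (A K : Subgroup G)
    (hcop : (Nat.card A).Coprime (Nat.card (frattini K)))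
    (htriv : ∀ a ∈ A, ∀ k ∈ K, a * k * a⁻¹ * k⁻¹ ∈ (frattini K).map K.subtype) :
    ∀ (n : ℕ) (a : G), a ∈ A → orderOf a = n → a ∈ Subgroup.centralizer (K : Set G) := by
  intro n
  induction n using Nat.strong_induction_on with
  | _ n ih =>
    intro a haA hn
    have hnpos : 0 < n := hn ▸ orderOf_pos a
    by_cases h1 : n = 1
    · have : a = 1 := orderOf_eq_one_iff.mp (hn.trans h1)
      rw [this]; exact Subgroup.one_mem _
    have hrp : n.minFac.Prime := Nat.minFac_prime h1
    have : Fact n.minFac.Prime := ⟨hrp⟩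
    obtain ⟨e, m, hm, hnm⟩ := Nat.exists_eq_pow_mul_and_not_dvd hnpos.ne' n.minFac hrp.ne_one
    have hnA : n ∣ Nat.card A := by
      have := orderOf_dvd_natCard (⟨a, haA⟩ : A)
      rwa [Subgroup.orderOf_mk, hn] at this
    have hrA : n.minFac ∣ Nat.card A := (Nat.minFac_dvd n).trans hnA
    have hrΦ : ¬ n.minFac ∣ Nat.card (frattini K) := fun h =>
      hrp.one_lt.ne' (Nat.eq_one_of_dvd_coprimes hcop hrA h)
    have hmpos : 0 < m := by
      rcases Nat.eq_zero_or_pos m with h0 | h0
      · rw [h0, mul_zero] at hnm; omega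
      · exact h0
    have hepos : 0 < e := by
      rcases Nat.eq_zero_or_pos e with h0 | h0
      · rw [h0, pow_zero, one_mul] at hnm
        exact absurd (hnm ▸ Nat.minFac_dvd n) hm
      · exact h0
    by_cases hm1 : m = 1
    · -- prime power order
      apply mem_centralizer_of_prime_pow K a e _ hrΦ (htriv a haA)
      have : n = n.minFac ^ e := by rw [hm1, mul_one] at hnm; exact hnm
      rw [← this, ← hn, pow_orderOf_eq_one]
    · -- split into two elements of smaller order
      have hm2 : 2 ≤ m := by omega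
      have hre2 : 2 ≤ n.minFac ^ e := by
        calc 2 ≤ n.minFac := hrp.two_le
          _ = n.minFac ^ 1 := (pow_one _).symm
          _ ≤ n.minFac ^ e := Nat.pow_le_pow_right hrp.pos hepos
      have hb_ord : orderOf (a ^ n.minFac ^ e) ∣ m := by
        apply orderOf_dvd_of_pow_eq_one
        rw [← pow_mul, ← hnm, ← hn, pow_orderOf_eq_one]
      have hc_ord : orderOf (a ^ m) ∣ n.minFac ^ e := by
        apply orderOf_dvd_of_pow_eq_one
        rw [← pow_mul, mul_comm, ← hnm, ← hn, pow_orderOf_eq_one]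
      have hb_lt : orderOf (a ^ n.minFac ^ e) < n := by
        have h1 : orderOf (a ^ n.minFac ^ e) ≤ m := Nat.le_of_dvd hmpos hb_ord
        have h2 : m < n := by
          have h3 : 2 * m ≤ n.minFac ^ e * m := Nat.mul_le_mul_right _ hre2
          calc m < 2 * m := by omega
            _ ≤ n.minFac ^ e * m := h3
            _ = n := hnm.symm
        omega
      have hc_lt : orderOf (a ^ m) < n := by
        have h1 : orderOf (a ^ m) ≤ n.minFac ^ e := Nat.le_of_dvd (by positivity) hc_ord
        have h2 : n.minFac ^ e < n := by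
          have h3 : n.minFac ^ e * 2 ≤ n.minFac ^ e * m := Nat.mul_le_mul_left _ hm2
          have h4 : 0 < n.minFac ^ e := by positivity
          calc n.minFac ^ e < n.minFac ^ e * 2 := by omega
            _ ≤ n.minFac ^ e * m := h3
            _ = n := hnm.symm
        omega
      have hb := ih _ hb_lt (a ^ n.minFac ^ e) (A.pow_mem haA _) rfl
      have hc := ih _ hc_lt (a ^ m) (A.pow_mem haA _) rfl
      have hcop' : Nat.Coprime (n.minFac ^ e) m :=
        Nat.Coprime.pow_left e ((Nat.Prime.coprime_iff_not_dvd hrp).mpr hm)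
      have hbez := Nat.gcd_eq_gcd_ab (n.minFac ^ e) m
      rw [hcop'.gcd_eq_one] at hbez
      have ha_eq : a = (a ^ n.minFac ^ e) ^ (Nat.gcdA (n.minFac ^ e) m) *
          (a ^ m) ^ (Nat.gcdB (n.minFac ^ e) m) := by
        rw [← zpow_natCast a (n.minFac ^ e), ← zpow_natCast a m, ← zpow_mul, ← zpow_mul,
          ← zpow_add, ← hbez]
        simp
      rw [ha_eq]
      exact Subgroup.mul_mem _ (Subgroup.zpow_mem _ hb _) (Subgroup.zpow_mem _ hc _)

end helpers

/-- An action that is trivial on the Frattini quotient and coprime on the Frattini subgroup is trivial: if A normalises K, the orders of A and of the Frattini subgroup of K are coprime, and every commutator of an element of A with an element of K lies in the Frattini subgroup of K, then A centralises K. -/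
theorem result {G : Type*} [Group G] [Finite G] (A K : Subgroup G)
    (hAK : A ≤ Subgroup.normalizer (K : Set G))
    (hcop : (Nat.card A).Coprime (Nat.card (frattini K)))
    (htriv : ∀ a ∈ A, ∀ k ∈ K, a * k * a⁻¹ * k⁻¹ ∈ (frattini K).map K.subtype) :
    A ≤ Subgroup.centralizer (K : Set G) := by
  intro a ha
  exact mem_centralizer_of_order A K hcop htriv (orderOf a) a ha rfl

end Cfsg.Agent.S0029
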