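import Cfsg.Statements.S0623
-- import your own Cfsg.Agent.* helpers here
import Cfsg.Agent.Lib.Helper97.OmegaOne
import Cfsg.Agent.Lib.Helper97.Quadratic

set_option autoImplicit false
open Cfsg

namespace Cfsg.Agent.S0623

open Cfsg.Agent.Lib.Helper97

universe u

/-- `Ω₁(Z(J(S)))` belongs to the family defining `W(S)`. -/
theorem omegaCenterThompson_mem_family {p : ℕ} {S : Type u} [Group S] [Finite S] :
    omegaOne p (Subgroup.center S) ≤ omegaCenterThompson p S ∧
      ∀ (H : Type u) [Group H] (τ : S →* H), IsStableEmbedding p τ →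
        ((omegaCenterThompson p S).map τ).Normal :=
  ⟨omegaOne_center_le_omegaCenterThompson p,
    fun _ _ τ hτ => omegaCenterThompson_map_normal p τ hτ.1 hτ.2.2.2.2.1⟩

theorem stableNormalClosure_le_omegaCenterThompson {p : ℕ} {S : Type u} [Group S] [Finite S] :
    stableNormalClosure p S ≤ omegaCenterThompson p S :=
  sInf_le omegaCenterThompson_mem_family

theorem omegaOne_center_le_stableNormalClosure {p : ℕ} {S : Type u} [Group S] :
    omegaOne p (Subgroup.center S) ≤ stableNormalClosure p S :=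
  le_sInf fun _ hW => hW.1

/-- The image of `W(S)` under a stable embedding is normal. -/
theorem stableNormalClosure_map_normal {p : ℕ} {S H : Type u} [Group S] [Group H] [Finite S]
    (τ : S →* H) (hτ : IsStableEmbedding p τ) : ((stableNormalClosure p S).map τ).Normal := by
  constructor
  rintro _ ⟨w, hw, rfl⟩ h
  have key : ∀ W' : Subgroup S, (omegaOne p (Subgroup.center S) ≤ W' ∧
      ∀ (H : Type u) [Group H] (τ : S →* H), IsStableEmbedding p τ → (W'.map τ).Normal) →
      ∃ w' ∈ W', τ w' = h * τ w * h⁻¹ := by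
    intro W' hW'
    have hN := hW'.2 H τ hτ
    have h1 : τ w ∈ W'.map τ :=
      Subgroup.mem_map_of_mem _ ((sInf_le hW' : stableNormalClosure p S ≤ W') hw)
    exact hN.conj_mem _ h1 h
  obtain ⟨w₀, -, hw₀⟩ := key _ omegaCenterThompson_mem_family
  have hmem : w₀ ∈ stableNormalClosure p S := by
    unfold stableNormalClosure
    rw [Subgroup.mem_sInf]
    intro W' hW'
    obtain ⟨w', hw', hw'e⟩ := key W' hW'
    have : w' = w₀ := hτ.1 (hw'e.trans hw₀.symm)
    rwa [← this]
  exact ⟨w₀, hmem, hw₀⟩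

/-- If an element of a finite p-group S acts quadratically on the stable normal closure W(S), then it centralizes W(S). -/
theorem result {S : Type*} [Group S] [Finite S] {p : ℕ} [Fact p.Prime] (hS : IsPGroup p S) (x : S) (hq : ⁅⁅Cfsg.stableNormalClosure p S, Subgroup.zpowers x⁆, Subgroup.zpowers x⁆ = ⊥) : ⁅Cfsg.stableNormalClosure p S, Subgroup.zpowers x⁆ = ⊥ := by
  set W := stableNormalClosure p S with hWdef
  set X : Set S := {y | ⁅⁅W, Subgroup.zpowers y⁆, Subgroup.zpowers y⁆ = ⊥} with hX
  have hfam : omegaOne p (Subgroup.center S) ≤ W ⊓ Subgroup.centralizer X ∧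
      ∀ (H : Type _) [Group H] (τ : S →* H), IsStableEmbedding p τ →
        ((W ⊓ Subgroup.centralizer X).map τ).Normal := by
    refine ⟨le_inf omegaOne_center_le_stableNormalClosure ?_, ?_⟩
    · refine (omegaOne_le p _).trans ?_
      intro z hz
      rw [Subgroup.mem_centralizer_iff]
      intro y _
      exact Subgroup.mem_center_iff.mp hz y
    · intro H _ τ hτ
      have hWn : (W.map τ).Normal := stableNormalClosure_map_normal τ hτ
      obtain ⟨hinj, hfin, ⟨P, hP⟩, -, -, hstab⟩ := hτ
      have hWle : W.map τ ≤ (omegaCenterThompson p S).map τ :=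
        Subgroup.map_mono stableNormalClosure_le_omegaCenterThompson
      have hst : IsPStableOn p (W.map τ) := hstab (W.map τ) hWle
      constructor
      rintro _ ⟨w, ⟨hwW, hwX⟩, rfl⟩ h
      -- the conjugate lies in the image of `W`
      obtain ⟨w', hw'W, hw'e⟩ := hWn.conj_mem _ (Subgroup.mem_map_of_mem τ hwW) h
      replace hwW : w ∈ W := hwW
      replace hwX : w ∈ Subgroup.centralizer X := hwX
      refine ⟨w', ⟨hw'W, ?_⟩, hw'e⟩
      change w' ∈ Subgroup.centralizer X
      rw [Subgroup.mem_centralizer_iff]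
      intro y hy
      -- `τ y` is quadratic on `τ W`, and so is its conjugate `a`
      have hy' : ⁅⁅W, Subgroup.zpowers y⁆, Subgroup.zpowers y⁆ = ⊥ := hy
      have hq1 : ⁅⁅W.map τ, Subgroup.zpowers (τ y)⁆, Subgroup.zpowers (τ y)⁆ = ⊥ := quad_map τ hy'
      have hq2 := quad_conj hq1 h⁻¹
      rw [inv_inv] at hq2
      obtain ⟨t, htP, htc⟩ := exists_mem_sylow_mul_centralizer_of_isPStableOn hst P hq2
      have hq3 := quad_of_mk_eq htc hq2
      rw [hP] at htP
      obtain ⟨s, rfl⟩ := htP
      have hsX : s ∈ X := (quad_map_iff τ hinj).mp hq3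
      -- `s` commutes with `w`
      have h1 : s * w = w * s := Subgroup.mem_centralizer_iff.mp hwX s hsX
      -- the centralizing part commutes with `τ w`
      have h2 := Subgroup.mem_centralizer_iff.mp htc (τ w) (Subgroup.mem_map_of_mem τ hwW)
      -- hence `a = h⁻¹ τ y h` commutes with `τ w`
      have h3 : (h⁻¹ * τ y * h) * τ w = τ w * (h⁻¹ * τ y * h) := by
        have e : h⁻¹ * τ y * h = τ s * ((h⁻¹ * τ y * h)⁻¹ * τ s)⁻¹ := by group
        have h1' : τ s * τ w = τ w * τ s := by rw [← map_mul, ← map_mul, h1]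
        have h2' : ((h⁻¹ * τ y * h)⁻¹ * τ s)⁻¹ * τ w = τ w * ((h⁻¹ * τ y * h)⁻¹ * τ s)⁻¹ := by
          have := h2
          have hc : Commute (τ w) ((h⁻¹ * τ y * h)⁻¹ * τ s) := this
          exact (hc.inv_right).eq.symm
        rw [e, mul_assoc, h2', ← mul_assoc, h1', mul_assoc]
      -- so `τ y` commutes with `h τ w h⁻¹ = τ w'`
      have h4 : τ y * τ w' = τ w' * τ y := by
        rw [hw'e]
        have e1 : τ y * (h * τ w * h⁻¹) = h * ((h⁻¹ * τ y * h) * τ w) * h⁻¹ := by group
        have e2 : h * τ w * h⁻¹ * τ y = h * (τ w * (h⁻¹ * τ y * h)) * h⁻¹ := by group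
        rw [e1, e2, h3]
      apply hinj
      rw [map_mul, map_mul, h4]
  have hWX : W ≤ W ⊓ Subgroup.centralizer X := sInf_le hfam
  rw [Subgroup.commutator_eq_bot_iff_le_centralizer]
  intro w hw
  have h1 := (hWX hw).2
  rw [Subgroup.mem_centralizer_iff]
  intro z hz
  obtain ⟨k, rfl⟩ := Subgroup.mem_zpowers_iff.mp hz
  have h2 : x * w = w * x := (Subgroup.mem_centralizer_iff.mp h1) x hq
  have h3 : Commute x w := h2
  exact (h3.zpow_left k).eq

end Cfsg.Agent.S0623
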