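import Cfsg.Statements.S0624
-- import your own Cfsg.Agent.* helpers here
import Cfsg.Agent.S0623
import Cfsg.Agent.S0029
import Cfsg.Agent.Lib.Helper97.Frattini
import Cfsg.Agent.Lib.Helper97.Replacement4
import Cfsg.Agent.Lib.Helper97.Cores

set_option autoImplicit false
open Cfsg

namespace Cfsg.Agent.S0624

open Cfsg.Agent.Lib.Helper97 Cfsg.Agent.Lib.Helper33
open scoped commutatorElement

universe u

variable {G : Type u} [Group G]

/-! ### Step A: the embedding `S → N_G(J(S))` is stable -/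

theorem sylow_le_normalizer_thompson {p : ℕ} (S : Subgroup G) :
    S ≤ Subgroup.normalizer (thompsonSubgroupOf p S : Set G) :=
  Subgroup.le_normalizer.trans (normalizer_le_normalizer_thompsonSubgroupOf p S)

theorem isStableEmbedding_inclusion [Finite G] {p : ℕ} [Fact p.Prime]
    (hst : IsActionPStable p G)
    (hc : Subgroup.centralizer (pCore p G : Set G) ≤ pCore p G) (S : Sylow p G) :
    IsStableEmbedding p (Subgroup.inclusion
      (sylow_le_normalizer_thompson (p := p) (S : Subgroup G))) := by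
  set N := Subgroup.normalizer (thompsonSubgroupOf p (S : Subgroup G) : Set G) with hN
  have hSN : (S : Subgroup G) ≤ N := sylow_le_normalizer_thompson (p := p) (S : Subgroup G)
  have hcomp : N.subtype.comp (Subgroup.inclusion hSN) = (S : Subgroup G).subtype := by
    ext x; rfl
  refine ⟨Subgroup.inclusion_injective hSN, inferInstance, ⟨S.subtype hSN, ?_⟩, ?_, ?_, ?_⟩
  · rw [Sylow.coe_subtype, Subgroup.inclusion_range]
  · -- `C_N(O_p(N)) ≤ O_p(N)`
    have hQS : pCore p G ≤ (S : Subgroup G) := pCore_le_sylow' S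
    have hQ' : (pCore p G).subgroupOf N ≤ pCore p ↥N := by
      apply le_pCore_of_normal
      · exact Subgroup.Normal.subgroupOf inferInstance N
      · exact (isPGroup_pCore p G).comap_subtype
    intro x hx
    apply hQ'
    rw [Subgroup.mem_subgroupOf]
    apply hc
    rw [Subgroup.mem_centralizer_iff]
    intro q hq
    have hqN : q ∈ N := hSN (hQS hq)
    have h1 : (⟨q, hqN⟩ : ↥N) ∈ pCore p ↥N := hQ' (by rw [Subgroup.mem_subgroupOf]; exact hq)
    have h2 := (Subgroup.mem_centralizer_iff.mp hx) ⟨q, hqN⟩ h1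
    exact congrArg Subtype.val h2
  · -- the image of `J(S)` is normal
    have h1 : (thompsonSubgroup p ↥(S : Subgroup G)).map (Subgroup.inclusion hSN) =
        (thompsonSubgroupOf p (S : Subgroup G)).subgroupOf N := by
      apply Subgroup.map_injective N.subtype_injective
      rw [Subgroup.map_map, hcomp, Subgroup.subgroupOf_map_subtype]
      have : thompsonSubgroupOf p (S : Subgroup G) ≤ N :=
        (thompsonSubgroupOf_le p _).trans hSN
      rw [inf_of_le_left this]
      rfl
    rw [h1]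
    exact Subgroup.normal_in_normalizer
  · intro V hV hle
    apply hst.2.2 S V
    have h1 := Subgroup.map_mono (f := N.subtype) hle
    rwa [Subgroup.map_map, hcomp] at h1

/-- `N_G(J(S))` normalizes (the image of) `W(S)`. -/
theorem normalizer_thompson_le [Finite G] {p : ℕ} [Fact p.Prime]
    (hst : IsActionPStable p G)
    (hc : Subgroup.centralizer (pCore p G : Set G) ≤ pCore p G) (S : Sylow p G) :
    Subgroup.normalizer (thompsonSubgroupOf p (S : Subgroup G) : Set G) ≤
      Subgroup.normalizer (((stableNormalClosure p ↥(S : Subgroup G)).map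
        (S : Subgroup G).subtype : Subgroup G) : Set G) := by
  set N := Subgroup.normalizer (thompsonSubgroupOf p (S : Subgroup G) : Set G) with hN
  have hSN : (S : Subgroup G) ≤ N := sylow_le_normalizer_thompson (p := p) (S : Subgroup G)
  have hnorm := S0623.stableNormalClosure_map_normal _ (isStableEmbedding_inclusion hst hc S)
  have key : ∀ n ∈ N, ∀ w ∈ (stableNormalClosure p ↥(S : Subgroup G)).map (S : Subgroup G).subtype,
      n * w * n⁻¹ ∈ (stableNormalClosure p ↥(S : Subgroup G)).map (S : Subgroup G).subtype := by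
    rintro n hn _ ⟨t, ht, rfl⟩
    have h1 := hnorm.conj_mem _ (Subgroup.mem_map_of_mem (Subgroup.inclusion hSN) ht) ⟨n, hn⟩
    obtain ⟨t', ht', hte⟩ := h1
    refine ⟨t', ht', ?_⟩
    have := congrArg Subtype.val hte
    simpa using this
  intro n hn
  rw [Subgroup.mem_normalizer_iff]
  intro w
  constructor
  · intro hw
    exact key n hn w hw
  · intro hw
    have := key n⁻¹ (inv_mem hn) _ hw
    simpa [mul_assoc] using this

/-! ### Step B: abelian normal subgroups of `S` lie in `O_p(G)` -/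

theorem mem_sectionKernel_iff (K N : Subgroup G) [N.Normal] (g : G) :
    g ∈ sectionKernel K N ↔ ∀ k ∈ K, g * k * g⁻¹ * k⁻¹ ∈ N := by
  unfold sectionKernel
  rw [Subgroup.mem_comap, Subgroup.mem_centralizer_iff]
  constructor
  · intro h k hk
    have h1 := h _ (Subgroup.mem_map_of_mem (QuotientGroup.mk' N) hk)
    rw [← QuotientGroup.eq_one_iff]
    have : ((g * k * g⁻¹ * k⁻¹ : G) : G ⧸ N) =
        (QuotientGroup.mk' N) g * (QuotientGroup.mk' N) k * ((QuotientGroup.mk' N) g)⁻¹ *
          ((QuotientGroup.mk' N) k)⁻¹ := by simp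
    rw [this, ← h1]
    group
  · rintro h _ ⟨k, hk, rfl⟩
    have h1 := h k hk
    rw [← QuotientGroup.eq_one_iff] at h1
    have : ((g * k * g⁻¹ * k⁻¹ : G) : G ⧸ N) =
        (QuotientGroup.mk' N) g * (QuotientGroup.mk' N) k * ((QuotientGroup.mk' N) g)⁻¹ *
          ((QuotientGroup.mk' N) k)⁻¹ := by simp
    rw [this] at h1
    have h2 : (QuotientGroup.mk' N) g * (QuotientGroup.mk' N) k =
        (QuotientGroup.mk' N) k * (QuotientGroup.mk' N) g := by
      have := congrArg (· * ((QuotientGroup.mk' N) k * (QuotientGroup.mk' N) g)) h1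
      simpa [mul_assoc] using this
    exact h2.symm

theorem isPGroup_sectionKernel [Finite G] {p : ℕ} [Fact p.Prime]
    (hc : Subgroup.centralizer (pCore p G : Set G) ≤ pCore p G) :
    IsPGroup p (sectionKernel (pCore p G)
      ((frattini ↥(pCore p G)).map (pCore p G).subtype)) := by
  set Q := pCore p G with hQ
  set Φ := (frattini ↥Q).map Q.subtype with hΦ
  have hp : p.Prime := Fact.out
  rintro ⟨g, hg⟩
  obtain ⟨e, m, hm, hgm⟩ := Nat.exists_eq_pow_mul_and_not_dvd (orderOf_pos g).ne' p hp.one_lt.ne'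
  refine ⟨e, ?_⟩
  apply Subtype.ext
  rw [Subgroup.coe_pow, Subgroup.coe_one]
  -- the `p'`-part `g' = g ^ (p ^ e)`
  set g' := g ^ (p ^ e) with hg'
  have hg'K : g' ∈ sectionKernel Q Φ := pow_mem hg _
  have hord : orderOf g' = m := by
    rw [hg', orderOf_pow_of_dvd (pow_pos hp.pos e).ne' (Dvd.intro _ hgm.symm), hgm,
      Nat.mul_div_cancel_left _ (pow_pos hp.pos e)]
  have hcopm : m.Coprime p := (Nat.Prime.coprime_iff_not_dvd hp).mpr hm |>.symm
  have hA : Subgroup.zpowers g' ≤ Subgroup.centralizer (Q : Set G) := by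
    apply S0029.result (Subgroup.zpowers g') Q
    · rw [Subgroup.normalizer_eq_top_iff.mpr inferInstance]
      exact le_top
    · rw [Nat.card_zpowers, hord]
      have hfr : IsPGroup p (frattini ↥Q) := (isPGroup_pCore p G).to_subgroup _
      obtain ⟨j, hj⟩ := IsPGroup.iff_card.mp hfr
      rw [hj]
      exact Nat.Coprime.pow_right j hcopm
    · intro a ha k hk
      have haK : a ∈ sectionKernel Q Φ := by
        obtain ⟨i, rfl⟩ := Subgroup.mem_zpowers_iff.mp ha
        exact zpow_mem hg'K i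
      exact (mem_sectionKernel_iff Q Φ a).mp haK k hk
  have hg'Q : g' ∈ Q := hc (hA (Subgroup.mem_zpowers g'))
  -- a `p`-element of order prime to `p` is trivial
  obtain ⟨k, hk⟩ := (isPGroup_pCore p G) ⟨g', hg'Q⟩
  have hk' : g' ^ (p ^ k) = 1 := by
    have := congrArg Subtype.val hk
    simpa using this
  have h1 : orderOf g' ∣ p ^ k := orderOf_dvd_of_pow_eq_one hk'
  rw [hord] at h1
  have h2 : m = 1 := Nat.Coprime.eq_one_of_dvd (Nat.Coprime.pow_right k hcopm) h1
  rw [h2] at hord
  exact orderOf_eq_one_iff.mp hord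

/-- An element acting quadratically on `O_p(G)/Φ(O_p(G))` lies in `O_p(G)`. -/
theorem mem_pCore_of_quadratic [Finite G] {p : ℕ} [Fact p.Prime]
    (hst : IsActionPStable p G)
    (hc : Subgroup.centralizer (pCore p G : Set G) ≤ pCore p G) {a : G}
    (ha : ⁅⁅pCore p G, Subgroup.zpowers a⁆, Subgroup.zpowers a⁆ ≤
      (frattini ↥(pCore p G)).map (pCore p G).subtype) : a ∈ pCore p G := by
  obtain ⟨D, hDn, hKD, ⟨k, hk⟩, haD⟩ := hst.2.1 a ha
  have hKp := isPGroup_sectionKernel (p := p) hc
  have hD : IsPGroup p D := by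
    have h1 := card_mul_relIndex_of_le hKD
    obtain ⟨j, hj⟩ := IsPGroup.iff_card.mp hKp
    apply IsPGroup.of_card (n := j + k)
    rw [← h1, hj, hk, pow_add]
  exact le_pCore_of_normal hDn hD haD

theorem isElementaryAbelian_omegaCenterThompson (p : ℕ) (P : Type u) [Group P] :
    IsElementaryAbelian p (omegaCenterThompson p P) := by
  unfold omegaCenterThompson omegaOne
  apply isElementaryAbelian_closure
  · rintro a ⟨⟨-, ha⟩, -⟩ b ⟨⟨hb, -⟩, -⟩
    exact (Subgroup.mem_centralizer_iff.mp ha b hb).symm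
  · rintro a ⟨-, ha⟩
    exact ha

/-- The image of `W(S)` in `G` is elementary abelian. -/
theorem isElementaryAbelian_W [Finite G] {p : ℕ} (S : Subgroup G) [Finite S] :
    IsElementaryAbelian p ((stableNormalClosure p ↥S).map S.subtype) :=
  isElementaryAbelian_map _ (isElementaryAbelian_mono
    S0623.stableNormalClosure_le_omegaCenterThompson (isElementaryAbelian_omegaCenterThompson p _))

/-- An abelian subgroup normalized by `O_p(G)` lies in `O_p(G)`. -/
theorem le_pCore_of_abelian [Finite G] {p : ℕ} [Fact p.Prime]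
    (hst : IsActionPStable p G)
    (hc : Subgroup.centralizer (pCore p G : Set G) ≤ pCore p G) {A : Subgroup G}
    (hA : ∀ a ∈ A, ∀ b ∈ A, a * b = b * a)
    (hQA : pCore p G ≤ Subgroup.normalizer (A : Set G)) : A ≤ pCore p G := by
  intro a ha
  apply mem_pCore_of_quadratic hst hc
  have h1 : ⁅pCore p G, Subgroup.zpowers a⁆ ≤ A := by
    have h2 : ⁅pCore p G, Subgroup.zpowers a⁆ ≤ ⁅pCore p G, A⁆ :=
      Subgroup.commutator_mono le_rfl (by rw [Subgroup.zpowers_le]; exact ha)
    refine h2.trans ?_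
    rw [Subgroup.commutator_comm]
    exact commutator_le_of_le_normalizer hQA
  have h3 : ⁅⁅pCore p G, Subgroup.zpowers a⁆, Subgroup.zpowers a⁆ ≤ ⁅A, A⁆ :=
    Subgroup.commutator_mono h1 (by rw [Subgroup.zpowers_le]; exact ha)
  have h4 : ⁅A, A⁆ = ⊥ := by
    rw [Subgroup.commutator_eq_bot_iff_le_centralizer]
    intro x hx
    rw [Subgroup.mem_centralizer_iff]
    intro y hy
    exact hA y hy x hx
  rw [h4] at h3
  exact h3.trans bot_le

/-! ### Step C: `S0623` inside `G` -/

theorem mem_centralizer_W_of_quadratic [Finite G] {p : ℕ} [Fact p.Prime] (S : Sylow p G) {t : G}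
    (ht : t ∈ (S : Subgroup G))
    (hq : ⁅⁅(stableNormalClosure p ↥(S : Subgroup G)).map (S : Subgroup G).subtype,
      Subgroup.zpowers t⁆, Subgroup.zpowers t⁆ = ⊥) :
    t ∈ Subgroup.centralizer (((stableNormalClosure p ↥(S : Subgroup G)).map
      (S : Subgroup G).subtype : Subgroup G) : Set G) := by
  have hq' : ⁅⁅(stableNormalClosure p ↥(S : Subgroup G)).map (S : Subgroup G).subtype,
      Subgroup.zpowers ((S : Subgroup G).subtype ⟨t, ht⟩)⁆,
      Subgroup.zpowers ((S : Subgroup G).subtype ⟨t, ht⟩)⁆ = ⊥ := hq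
  have h1 := (quad_map_iff (S : Subgroup G).subtype (S : Subgroup G).subtype_injective).mp hq'
  have h2 := S0623.result S.isPGroup' ⟨t, ht⟩ h1
  have h3 : ⁅(stableNormalClosure p ↥(S : Subgroup G)).map (S : Subgroup G).subtype,
      Subgroup.zpowers t⁆ = ⊥ := by
    have : Subgroup.zpowers t = (Subgroup.zpowers (⟨t, ht⟩ : ↥(S : Subgroup G))).map
        (S : Subgroup G).subtype := by
      rw [MonoidHom.map_zpowers]
      rfl
    rw [this, ← Subgroup.map_commutator, h2, Subgroup.map_bot]
  rw [Subgroup.commutator_eq_bot_iff_le_centralizer] at h3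
  rw [Subgroup.mem_centralizer_iff]
  intro w hw
  have := Subgroup.mem_centralizer_iff.mp (h3 hw) t (Subgroup.mem_zpowers t)
  exact this.symm

/-! ### Steps D–G: the abstract normality criterion -/

/-- Conjugates of `W` centralize `W`. -/
theorem conj_mem_centralizer [Finite G] {p : ℕ} [Fact p.Prime] (S : Sylow p G) {W : Subgroup G}
    (h1 : W ≤ pCore p G) (h2 : IsElementaryAbelian p W)
    (h3 : pCore p G ≤ Subgroup.normalizer (W : Set G))
    (h4 : ∀ t ∈ (S : Subgroup G), ⁅⁅W, Subgroup.zpowers t⁆, Subgroup.zpowers t⁆ = ⊥ →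
      t ∈ Subgroup.centralizer (W : Set G)) (g : G) {w : G} (hw : w ∈ W) :
    g * w * g⁻¹ ∈ Subgroup.centralizer (W : Set G) := by
  have hQn : (pCore p G).Normal := inferInstance
  have htQ : g * w * g⁻¹ ∈ pCore p G := hQn.conj_mem w (h1 hw) g
  apply h4 _ (pCore_le_sylow' S htQ)
  -- `W' = g W g⁻¹`
  have htW' : g * w * g⁻¹ ∈ cj g W := conj_mem_cj hw
  have hQW' : pCore p G ≤ Subgroup.normalizer ((cj g W : Subgroup G) : Set G) := by
    rw [← cj_normalizer]
    intro q hq
    rw [mem_cj]
    apply h3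
    have := hQn.conj_mem q hq g⁻¹
    simpa using this
  have hz : Subgroup.zpowers (g * w * g⁻¹) ≤ cj g W := by
    rw [Subgroup.zpowers_le]; exact htW'
  have h5 : ⁅W, Subgroup.zpowers (g * w * g⁻¹)⁆ ≤ cj g W := by
    refine (Subgroup.commutator_mono le_rfl hz).trans ?_
    rw [Subgroup.commutator_comm]
    exact commutator_le_of_le_normalizer (h1.trans hQW')
  have h6 : ⁅⁅W, Subgroup.zpowers (g * w * g⁻¹)⁆, Subgroup.zpowers (g * w * g⁻¹)⁆ ≤
      ⁅cj g W, cj g W⁆ := Subgroup.commutator_mono h5 hz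
  have h7 : ⁅cj g W, cj g W⁆ = ⊥ := by
    rw [← cj_commutator]
    have : ⁅W, W⁆ = ⊥ := by
      rw [Subgroup.commutator_eq_bot_iff_le_centralizer]
      intro x hx
      rw [Subgroup.mem_centralizer_iff]
      intro y hy
      exact IsElementaryAbelian_comm h2 hy hx
    rw [this, cj_bot]
  rw [h7] at h6
  exact le_bot_iff.mp h6

theorem isElementaryAbelian_normalClosure [Finite G] {p : ℕ} [Fact p.Prime] (S : Sylow p G)
    {W : Subgroup G} (h1 : W ≤ pCore p G) (h2 : IsElementaryAbelian p W)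
    (h3 : pCore p G ≤ Subgroup.normalizer (W : Set G))
    (h4 : ∀ t ∈ (S : Subgroup G), ⁅⁅W, Subgroup.zpowers t⁆, Subgroup.zpowers t⁆ = ⊥ →
      t ∈ Subgroup.centralizer (W : Set G)) :
    IsElementaryAbelian p (Subgroup.normalClosure (W : Set G)) := by
  unfold Subgroup.normalClosure
  apply isElementaryAbelian_closure
  · intro a ha b hb
    rw [Group.mem_conjugatesOfSet_iff] at ha hb
    obtain ⟨w₁, hw₁, hc₁⟩ := ha
    obtain ⟨w₂, hw₂, hc₂⟩ := hb
    obtain ⟨g₁, rfl⟩ := isConj_iff.mp hc₁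
    obtain ⟨g₂, rfl⟩ := isConj_iff.mp hc₂
    have h5 := conj_mem_centralizer S h1 h2 h3 h4 (g₂⁻¹ * g₁) hw₁
    have h6 := Subgroup.mem_centralizer_iff.mp h5 w₂ hw₂
    -- h6 : w₂ * (g₂⁻¹ * g₁ * w₁ * (g₂⁻¹ * g₁)⁻¹) = (g₂⁻¹ * g₁ * w₁ * (g₂⁻¹ * g₁)⁻¹) * w₂
    have e1 : g₁ * w₁ * g₁⁻¹ * (g₂ * w₂ * g₂⁻¹) =
        g₂ * ((g₂⁻¹ * g₁ * w₁ * (g₂⁻¹ * g₁)⁻¹) * w₂) * g₂⁻¹ := by group
    have e2 : g₂ * w₂ * g₂⁻¹ * (g₁ * w₁ * g₁⁻¹) =
        g₂ * (w₂ * (g₂⁻¹ * g₁ * w₁ * (g₂⁻¹ * g₁)⁻¹)) * g₂⁻¹ := by group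
    rw [e1, e2, h6]
  · intro a ha
    rw [Group.mem_conjugatesOfSet_iff] at ha
    obtain ⟨w, hw, hc⟩ := ha
    obtain ⟨g, rfl⟩ := isConj_iff.mp hc
    rw [conj_pow, h2.2 w hw]
    group

/-- No element acts quadratically and nontrivially on `U = ⟨W^G⟩`. -/
theorem mem_centralizer_normalClosure_of_quadratic [Finite G] {p : ℕ} [Fact p.Prime]
    (hst : IsActionPStable p G) (S : Sylow p G)
    {W : Subgroup G} (h1 : W ≤ pCore p G) (h2 : IsElementaryAbelian p W)
    (h3 : pCore p G ≤ Subgroup.normalizer (W : Set G))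
    (h4 : ∀ t ∈ (S : Subgroup G), ⁅⁅W, Subgroup.zpowers t⁆, Subgroup.zpowers t⁆ = ⊥ →
      t ∈ Subgroup.centralizer (W : Set G)) {a : G}
    (ha : ⁅⁅Subgroup.normalClosure (W : Set G), Subgroup.zpowers a⁆, Subgroup.zpowers a⁆ = ⊥) :
    a ∈ Subgroup.centralizer ((Subgroup.normalClosure (W : Set G) : Subgroup G) : Set G) := by
  have hUn : (Subgroup.normalClosure (W : Set G)).Normal := Subgroup.normalClosure_normal
  have hUel := isElementaryAbelian_normalClosure S h1 h2 h3 h4
  have hstU : IsPStableOn p (Subgroup.normalClosure (W : Set G)) := hst.1 _ hUel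
  have hWU : W ≤ Subgroup.normalClosure (W : Set G) := Subgroup.le_normalClosure
  -- every conjugate of `a` centralizes `W`
  have key : ∀ g : G, g * a * g⁻¹ ∈ Subgroup.centralizer (W : Set G) := by
    intro g
    have hq := quad_conj ha g
    obtain ⟨t, htS, htc⟩ := exists_mem_sylow_mul_centralizer_of_isPStableOn hstU S hq
    have hqt := quad_of_subgroup_le hWU (quad_of_mk_eq htc hq)
    have ht := h4 t htS hqt
    have hc : (g * a * g⁻¹)⁻¹ * t ∈ Subgroup.centralizer (W : Set G) :=
      Subgroup.centralizer_le (by exact_mod_cast hWU) htc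
    have := mul_mem ht (inv_mem hc)
    have e : t * ((g * a * g⁻¹)⁻¹ * t)⁻¹ = g * a * g⁻¹ := by group
    rwa [e] at this
  -- hence `a` centralizes all conjugates of elements of `W`
  have hle : Subgroup.normalClosure (W : Set G) ≤ Subgroup.centralizer ({a} : Set G) := by
    unfold Subgroup.normalClosure
    rw [Subgroup.closure_le]
    intro x hx
    rw [Group.mem_conjugatesOfSet_iff] at hx
    obtain ⟨w, hw, hc⟩ := hx
    obtain ⟨g, rfl⟩ := isConj_iff.mp hc
    rw [SetLike.mem_coe, Subgroup.mem_centralizer_iff]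
    intro y hy
    rw [Set.mem_singleton_iff] at hy
    subst hy
    have h5 := Subgroup.mem_centralizer_iff.mp (key g⁻¹) w hw
    -- h5 : w * (g⁻¹ * y * g⁻¹⁻¹) = g⁻¹ * y * g⁻¹⁻¹ * w
    have e1 : y * (g * w * g⁻¹) = g * ((g⁻¹ * y * g⁻¹⁻¹) * w) * g⁻¹ := by group
    have e2 : g * w * g⁻¹ * y = g * (w * (g⁻¹ * y * g⁻¹⁻¹)) * g⁻¹ := by group
    rw [e1, e2, h5]
  rw [Subgroup.mem_centralizer_iff]
  intro u hu
  have := Subgroup.mem_centralizer_iff.mp (hle hu) a (Set.mem_singleton a)
  exact this.symm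

/-- Elementary abelian subgroups of largest order centralize `U = ⟨W^G⟩`. -/
theorem max_le_centralizer_normalClosure [Finite G] {p : ℕ} [Fact p.Prime]
    (hst : IsActionPStable p G) (S : Sylow p G)
    {W : Subgroup G} (h1 : W ≤ pCore p G) (h2 : IsElementaryAbelian p W)
    (h3 : pCore p G ≤ Subgroup.normalizer (W : Set G))
    (h4 : ∀ t ∈ (S : Subgroup G), ⁅⁅W, Subgroup.zpowers t⁆, Subgroup.zpowers t⁆ = ⊥ →
      t ∈ Subgroup.centralizer (W : Set G))
    (A : Subgroup G) (hA : A ∈ maxElementaryAbelianSubgroups p G) :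
    A ≤ Subgroup.centralizer ((Subgroup.normalClosure (W : Set G) : Subgroup G) : Set G) := by
  have hUn : (Subgroup.normalClosure (W : Set G)).Normal := Subgroup.normalClosure_normal
  have hUel := isElementaryAbelian_normalClosure S h1 h2 h3 h4
  obtain ⟨-, hquad, hne⟩ := thompson_replacement_max (Subgroup.normalClosure (W : Set G)) hUel A hA
  set A₀ := ⁅Subgroup.normalClosure (W : Set G), A⁆ ⊔
    (A ⊓ Subgroup.centralizer ((⁅Subgroup.normalClosure (W : Set G), A⁆ : Subgroup G) : Set G))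
    with hA₀
  have hA₀c : A₀ ≤ Subgroup.centralizer
      ((Subgroup.normalClosure (W : Set G) : Subgroup G) : Set G) := by
    intro a ha
    apply mem_centralizer_normalClosure_of_quadratic hst S h1 h2 h3 h4
    rw [eq_bot_iff, ← hquad]
    have hz : Subgroup.zpowers a ≤ A₀ := by rw [Subgroup.zpowers_le]; exact ha
    exact Subgroup.commutator_mono (Subgroup.commutator_mono le_rfl hz) hz
  have h5 : ⁅Subgroup.normalClosure (W : Set G), A₀⁆ = ⊥ := by
    rw [Subgroup.commutator_eq_bot_iff_le_centralizer]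
    exact Subgroup.le_centralizer_iff.mp hA₀c
  have h6 : ⁅Subgroup.normalClosure (W : Set G), A⁆ = ⊥ := by
    by_contra hcon
    exact hne hcon h5
  rw [Subgroup.commutator_eq_bot_iff_le_centralizer] at h6
  exact Subgroup.le_centralizer_iff.mp h6

/-- The abstract normality criterion. -/
theorem normal_of_stable [Finite G] {p : ℕ} [Fact p.Prime]
    (hst : IsActionPStable p G) (S : Sylow p G)
    {W : Subgroup G} (h1 : W ≤ pCore p G) (h2 : IsElementaryAbelian p W)
    (h3 : Subgroup.normalizer (thompsonSubgroupOf p (S : Subgroup G) : Set G) ≤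
      Subgroup.normalizer (W : Set G))
    (h4 : ∀ t ∈ (S : Subgroup G), ⁅⁅W, Subgroup.zpowers t⁆, Subgroup.zpowers t⁆ = ⊥ →
      t ∈ Subgroup.centralizer (W : Set G)) : W.Normal := by
  have hQW : pCore p G ≤ Subgroup.normalizer (W : Set G) :=
    ((pCore_le_sylow' S).trans (sylow_le_normalizer_thompson (p := p) (S : Subgroup G))).trans h3
  have hUn : (Subgroup.normalClosure (W : Set G)).Normal := Subgroup.normalClosure_normal
  have hCn : (Subgroup.centralizer
      ((Subgroup.normalClosure (W : Set G) : Subgroup G) : Set G)).Normal :=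
    Subgroup.normal_centralizer
  have hJ : thompsonSubgroupOf p (S : Subgroup G) ≤ Subgroup.centralizer
      ((Subgroup.normalClosure (W : Set G) : Subgroup G) : Set G) :=
    thompsonSubgroupOf_le_of_forall_max S
      (max_le_centralizer_normalClosure hst S h1 h2 hQW h4)
  have hWU : W ≤ Subgroup.normalClosure (W : Set G) := Subgroup.le_normalClosure
  rw [← Subgroup.normalizer_eq_top_iff, eq_top_iff]
  intro g _
  obtain ⟨m, hm, hn⟩ := frattini_thompson S _ hJ g
  have hm' : m ∈ Subgroup.normalizer (W : Set G) :=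
    Subgroup.centralizer_le_normalizer _ (Subgroup.centralizer_le (by exact_mod_cast hWU) hm)
  have := mul_mem (inv_mem hm') (h3 hn)
  have e : m⁻¹ * (m * g) = g := by group
  rwa [e] at this

/-- For a p-stable group G (action sense) with C_G(O_p(G)) ≤ O_p(G) and S ∈ Syl_p(G), the stable normal closure W(S) is normal in G. -/
theorem result {G : Type*} [Group G] [Finite G] {p : ℕ} [Fact p.Prime] (hst : Cfsg.IsActionPStable p G) (hc : Subgroup.centralizer (Cfsg.pCore p G : Set G) ≤ Cfsg.pCore p G) (S : Sylow p G) : (((Cfsg.stableNormalClosure p ↥(S : Subgroup G)).map (S : Subgroup G).subtype)).Normal := by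
  have h3 := normalizer_thompson_le hst hc S
  have h2 : IsElementaryAbelian p ((stableNormalClosure p ↥(S : Subgroup G)).map
      (S : Subgroup G).subtype) := isElementaryAbelian_W (S : Subgroup G)
  have hQW : pCore p G ≤ Subgroup.normalizer (((stableNormalClosure p ↥(S : Subgroup G)).map
      (S : Subgroup G).subtype : Subgroup G) : Set G) :=
    ((pCore_le_sylow' S).trans (sylow_le_normalizer_thompson (p := p) (S : Subgroup G))).trans h3
  have h1 := le_pCore_of_abelian hst hc (fun a ha b hb => IsElementaryAbelian_comm h2 ha hb) hQW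
  exact normal_of_stable hst S h1 h2 h3 (fun t ht hq => mem_centralizer_W_of_quadratic S ht hq)

end Cfsg.Agent.S0624
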