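import Cfsg.Statements.S0072
import Cfsg.Agent.Lib.Helper2.FusionComplement

set_option autoImplicit false
open Cfsg

namespace Cfsg.Agent.S0072

open Cfsg.Agent.Lib.Helper2

/-- A finite group has a normal p-complement if and only if every p-local subgroup (normalizer of a nontrivial p-subgroup) has one. -/
theorem result {G : Type*} [Group G] [Finite G] (p : ℕ) [Fact p.Prime] : Cfsg.HasNormalPComplement p G ↔ ∀ Q : Subgroup G, IsPGroup p Q → Q ≠ ⊥ → Cfsg.HasNormalPComplement p (Subgroup.normalizer (Q : Set G)) := by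
  constructor
  · intro h Q _ _
    exact hasNormalPComplement_subgroup h _
  · intro h
    apply hasNormalPComplement_of_coprimeCentralizes
    intro Q hQ g hg hcop
    by_cases hbot : Q = ⊥
    · rw [Subgroup.mem_centralizer_iff]
      intro q hq
      have hq' : q ∈ Q := hq
      rw [hbot, Subgroup.mem_bot] at hq'
      rw [hq']; simp
    · have hQn := h Q hQ hbot
      set L : Subgroup G := Subgroup.normalizer (Q : Set G) with hL
      obtain ⟨S, K, hKn, hK⟩ := hQn
      have hgK : (⟨g, hg⟩ : L) ∈ K := by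
        apply Cfsg.Agent.Lib.Helper34.mem_of_coprime_orderOf_of_isComplement' S K hK
        rw [← Subgroup.orderOf_coe]
        exact hcop
      have hKcop : (Nat.card K).Coprime p := Cfsg.Agent.Lib.Helper34.card_coprime_of_isComplement' S K hK
      have hQL : IsPGroup p (Q.subgroupOf L) :=
        hQ.comap_of_injective L.subtype L.subtype_injective
      obtain ⟨k, hk⟩ := hQL.exists_card_eq
      have hdisj : K ⊓ Q.subgroupOf L = ⊥ := by
        apply (Subgroup.disjoint_of_coprime_natCard _).eq_bot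
        rw [hk]
        exact Nat.Coprime.pow_right k hKcop
      rw [Subgroup.mem_centralizer_iff]
      intro q hq
      have hqL : q ∈ L := Subgroup.le_normalizer hq
      have h1 : g * q * g⁻¹ ∈ Q := (Subgroup.mem_normalizer_iff.mp hg q).mp hq
      have h2 : (⟨g, hg⟩ * ⟨q, hqL⟩ * ⟨g, hg⟩⁻¹ * ⟨q, hqL⟩⁻¹ : L) ∈ Q.subgroupOf L := by
        rw [Subgroup.mem_subgroupOf]
        exact Q.mul_mem h1 (Q.inv_mem hq)
      have h3 : (⟨g, hg⟩ * ⟨q, hqL⟩ * ⟨g, hg⟩⁻¹ * ⟨q, hqL⟩⁻¹ : L) ∈ K := by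
        have : (⟨g, hg⟩ * ⟨q, hqL⟩ * ⟨g, hg⟩⁻¹ * ⟨q, hqL⟩⁻¹ : L) =
            ⟨g, hg⟩ * (⟨q, hqL⟩ * ⟨g, hg⟩⁻¹ * ⟨q, hqL⟩⁻¹) := by group
        rw [this]
        exact K.mul_mem hgK (hKn.conj_mem _ (K.inv_mem hgK) _)
      have h4 : (⟨g, hg⟩ * ⟨q, hqL⟩ * ⟨g, hg⟩⁻¹ * ⟨q, hqL⟩⁻¹ : L) ∈ K ⊓ Q.subgroupOf L := ⟨h3, h2⟩
      rw [hdisj, Subgroup.mem_bot] at h4
      have h5 : g * q * g⁻¹ * q⁻¹ = 1 := by
        have := congrArg Subtype.val h4
        simpa using this
      calc q * g = (g * q * g⁻¹ * q⁻¹)⁻¹ * (g * q) := by group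
        _ = g * q := by rw [h5]; group

end Cfsg.Agent.S0072
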