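import Cfsg.Statements.S0628
-- import your own Cfsg.Agent.* helpers here
import Cfsg.Agent.S2005
import Cfsg.Agent.S0622
import Cfsg.Agent.S0624
import Cfsg.Agent.Lib.Helper97.PStable2
import Cfsg.Agent.Lib.Helper97.PAbelianP

set_option autoImplicit false
open Cfsg

namespace Cfsg.Agent.S0628

open Cfsg.Agent.Lib.Helper97

universe u

/-- `p` odd: a finite group which is (`p`-group) by (abelian `p'`-group) by (`p`-group) is `p`-stable in
the action sense. -/
theorem isActionPStable_of_isPAbelianP {G : Type u} [Group G] [Finite G] {p : ℕ} [Fact p.Prime]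
    (hp2 : p ≠ 2) (hG : IsPAbelianP p G) : IsActionPStable p G := by
  refine ⟨fun V _ hV => isPStableOn_of_isPAbelianP hp2 hG V hV, ?_, ?_⟩
  · exact isPStableOnSection_of_isPAbelianP hp2 hG _ _
      (commutator_le_map_frattini (isPGroup_pCore p G))
      (fun x hx => pow_prime_mem_map_frattini (isPGroup_pCore p G) hx)
  · intro S V _ hle
    apply isPStableOn_of_isPAbelianP hp2 (hG.subgroup _) V
    apply isElementaryAbelian_of_map_subtype
    exact isElementaryAbelian_mono hle (isElementaryAbelian_map _
      (Cfsg.Agent.S0624.isElementaryAbelian_omegaCenterThompson p _))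

/-- The functor `W`. -/
theorem isCharPFunctor_stableNormalClosure (p : ℕ) [Fact p.Prime] :
    IsCharPFunctor.{u} p (fun (Q : Type u) [Group Q] => stableNormalClosure p Q) := by
  refine ⟨fun Q _ _ hQ hnt => (Cfsg.Agent.S0622.result hQ).2.2.2.1 hnt,
    fun Q R _ _ _ hQ φ => (Cfsg.Agent.S0622.result hQ).2.2.2.2 R φ⟩

theorem main {G : Type u} [Group G] [Finite G] {p : ℕ} [Fact p.Prime] (hp : p ≠ 2) (S : Sylow p G)
    (hN : Cfsg.HasNormalPComplement p ↥(Subgroup.normalizer
      (((Cfsg.stableNormalClosure p ↥(S : Subgroup G)).map (S : Subgroup G).subtype) : Set G))) :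
    Cfsg.HasNormalPComplement p G := by
  refine Cfsg.Agent.S2005.result (fun (Q : Type u) [Group Q] => stableNormalClosure p Q)
    (isCharPFunctor_stableNormalClosure p) S hN ?_
  intro K R _ hc hnpc T hT
  have hPA := isPAbelianP_of_sylow_coatom hnpc T hT
  have hst := isActionPStable_of_isPAbelianP hp hPA
  exact Cfsg.Agent.S0624.result hst hc T

/-- The normal p-complement Theorem of Thompson in the form with W(S): for odd p, G has a normal p-complement as soon as the normalizer of the characteristic subgroup W(S) of a Sylow p-subgroup S has one. -/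
theorem result {G : Type*} [Group G] [Finite G] {p : ℕ} [Fact p.Prime] (hp : p ≠ 2) (S : Sylow p G) (hN : Cfsg.HasNormalPComplement p ↥(Subgroup.normalizer (((Cfsg.stableNormalClosure p ↥(S : Subgroup G)).map (S : Subgroup G).subtype) : Set G))) : Cfsg.HasNormalPComplement p G := by
  exact main hp S hN

end Cfsg.Agent.S0628
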