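import Cfsg.Statements.S1443
import Cfsg.Agent.Lib.Helper24.Thompson
import Cfsg.Agent.Lib.Helper24.Omega

set_option autoImplicit false
open Cfsg

namespace Cfsg.Agent.S1443

/-- Let G be a finite group, p an odd prime, H a p-subgroup, E an elementary abelian subgroup of H, and A a subgroup of order coprime to p normalizing H. If A centralizes every element of order p in H ∩ C_G(E), then A centralizes H. -/
theorem result {G : Type*} [Group G] [Finite G] (p : ℕ) [Fact p.Prime] (hp : p ≠ 2) (H E A : Subgroup G) (hH : IsPGroup p H) (hE : E ≤ H) (hEe : Cfsg.IsElementaryAbelian p E)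
    (hA : (A ≤ Subgroup.normalizer (H : Set G))) (hcop : (Nat.card A).Coprime p)
    (hfix : ∀ x ∈ (H ⊓ Subgroup.centralizer (E : Set G)), orderOf x = p → A ≤ Subgroup.centralizer ({x} : Set G)) :
    A ≤ Subgroup.centralizer (H : Set G) := by
  classical
  -- elements of `E` are centralized by `A`
  have hEcomm : IsMulCommutative E := hEe.1
  have hEK : E ≤ H ⊓ Subgroup.centralizer (E : Set G) := by
    intro e he
    refine Subgroup.mem_inf.mpr ⟨hE he, ?_⟩
    exact (Subgroup.le_centralizer_iff_isMulCommutative.mpr hEcomm) he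
  -- every element `x` of `K = C_H(E)` with `x ^ p = 1` is centralized by `A`
  have hfix' : ∀ x ∈ (H ⊓ Subgroup.centralizer (E : Set G)), x ^ p = 1 → ∀ a ∈ A, a * x = x * a := by
    intro x hx hxp a ha
    by_cases hx1 : x = 1
    · subst hx1; simp
    · have hord : orderOf x = p := by
        have hdvd : orderOf x ∣ p := orderOf_dvd_of_pow_eq_one hxp
        rcases (Nat.dvd_prime (Fact.out : p.Prime)).mp hdvd with h | h
        · exact absurd (orderOf_eq_one_iff.mp h) hx1
        · exact h
      have := hfix x hx hord ha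
      rw [Subgroup.mem_centralizer_iff] at this
      exact (this x (Set.mem_singleton x)).symm
  have hAE : A ≤ Subgroup.centralizer (E : Set G) := by
    intro a ha
    rw [Subgroup.mem_centralizer_iff]
    intro e he
    exact (hfix' e (hEK he) (hEe.2 e he) a ha).symm
  -- `A` normalizes `K`
  have hAK : A ≤ Subgroup.normalizer ((H ⊓ Subgroup.centralizer (E : Set G) : Subgroup G) : Set G) := by
    intro a ha
    apply Subgroup.inf_normalizer_le_normalizer_inf
    exact Subgroup.mem_inf.mpr ⟨hA ha, Subgroup.le_normalizer (hAE ha)⟩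
  -- `A` centralizes `K`
  have hAcK : ∀ a ∈ A, ∀ x ∈ (H ⊓ Subgroup.centralizer (E : Set G)), a * x = x * a := by
    intro a ha
    have hcopa : (orderOf a).Coprime p :=
      Nat.Coprime.coprime_dvd_left (Subgroup.orderOf_dvd_natCard A ha) hcop
    exact Cfsg.Agent.Lib.Helper24.centralizes_of_centralizes_omega p hp a hcopa _
      (hH.to_le inf_le_left) (hAK ha) (fun x hx hxp => hfix' x hx hxp a ha)
  -- apply the Thompson-type lemma
  have hHnil : Group.IsNilpotent H := hH.isNilpotent
  have hcop' : (Nat.card A).Coprime (Nat.card H) := by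
    obtain ⟨k, hk⟩ := hH.exists_card_eq
    rw [hk]
    exact Nat.Coprime.pow_right k hcop
  apply Cfsg.Agent.Lib.Helper24.centralizes_of_centralizer_self_centralizing H A hHnil hA hcop'
  intro x hx
  obtain ⟨hxH, hxC⟩ := Subgroup.mem_inf.mp hx
  refine Subgroup.mem_inf.mpr ⟨hxH, ?_⟩
  have hxK : x ∈ H ⊓ Subgroup.centralizer (E : Set G) := by
    refine Subgroup.mem_inf.mpr ⟨hxH, ?_⟩
    rw [Subgroup.mem_centralizer_iff] at hxC ⊢
    intro e he
    exact hxC e (Subgroup.mem_inf.mpr ⟨hE he, Subgroup.mem_centralizer_iff.mpr (fun a ha => by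
      have := Subgroup.mem_centralizer_iff.mp (hAE ha) e he
      exact this.symm)⟩)
  rw [Subgroup.mem_centralizer_iff]
  intro a ha
  exact hAcK a ha x hxK

end Cfsg.Agent.S1443
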