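import Cfsg.Statements.S0868
import Cfsg.Agent.Lib.Helper80.Gallagher

set_option autoImplicit false
open scoped ComplexConjugate
open Cfsg
open Cfsg.Agent.Lib Cfsg.Agent.Lib.Helper80

namespace Cfsg.Agent.S0868

/-- Let N be a normal subgroup of the finite group G, χ an irreducible character of G whose restriction ϑ to N is irreducible, and ψ an irreducible character of G. Define η on G by η g = (1 / order of N) * Σ over n in N of ψ (n * g) * conj (χ (n * g)). Then: if the restriction of ψ to N has nonzero inner product with ϑ, η is an irreducible character of G; if that inner product is zero, η vanishes identically; and if ψ = χ then η is identically 1. -/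
theorem result {G : Type*} [Group G] [Fintype G] (N : Subgroup G) [N.Normal] [Fintype N] (χ : G → ℂ) (hχ : Cfsg.IsIrrCharacter G χ) (hχN : Cfsg.IsIrrCharacter N (fun n : N => χ n)) (ψ : G → ℂ) (hψ : Cfsg.IsIrrCharacter G ψ) (η : G → ℂ) (hη : η = fun g => (Nat.card N : ℂ)⁻¹ * ∑ n : N, ψ ((n : G) * g) * conj (χ ((n : G) * g))) : (Cfsg.classInner (fun n : N => ψ n) (fun n : N => χ n) ≠ 0 → Cfsg.IsIrrCharacter G η) ∧ (Cfsg.classInner (fun n : N => ψ n) (fun n : N => χ n) = 0 → η = 0) ∧ (ψ = χ → η = fun _ => 1) := by
  classical
  subst hη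
  have hcfψ : IsClassFunction G ψ := isClassFunction_of_isCharacter (isCharacter_of_isIrr hψ)
  have hcfχ : IsClassFunction G χ := isClassFunction_of_isCharacter (isCharacter_of_isIrr hχ)
  have hΦcf : IsClassFunction G (fun g => ψ g * conj (χ g)) := by
    intro g h
    show ψ (h * g * h⁻¹) * conj (χ (h * g * h⁻¹)) = _
    rw [hcfψ g h, hcfχ g h]
  have hη : (fun g => (Nat.card N : ℂ)⁻¹ * ∑ n : N, ψ ((n : G) * g) * conj (χ ((n : G) * g))) =
      navg N (fun g => ψ g * conj (χ g)) := rfl
  rw [hη]
  have hexp := navg_eq_sum N hΦcf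
  -- the value at 1
  have hval : navg N (fun g => ψ g * conj (χ g)) 1 =
      classInner (fun n : N => ψ n) (fun n : N => χ n) := by
    rw [navg_apply]
    unfold classInner
    simp only [mul_one]
  -- coefficients
  have hcoef : ∀ β : IrrCharacter (G ⧸ N),
      classInner (fun g => ψ g * conj (χ g)) (infl N β) =
        if ψ = infl N β * χ then 1 else 0 := by
    intro β
    rw [classInner_mul_conj_eq]
    have := classInner_irr (⟨ψ, hψ⟩ : IrrCharacter G) ⟨infl N β * χ, gallagher_irr N hχ hχN β⟩
    simp only at this
    rw [this]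
    by_cases h : ψ = infl N β * χ
    · rw [if_pos h, if_pos (Subtype.ext h)]
    · rw [if_neg h, if_neg (fun h' => h (congrArg Subtype.val h'))]
  have hcases : (∃ β₀ : IrrCharacter (G ⧸ N), navg N (fun g => ψ g * conj (χ g)) = infl N β₀) ∨
      navg N (fun g => ψ g * conj (χ g)) = 0 := by
    by_cases h : ∃ β₀ : IrrCharacter (G ⧸ N), ψ = infl N β₀ * χ
    · left
      obtain ⟨β₀, hβ₀⟩ := h
      refine ⟨β₀, ?_⟩
      rw [hexp, Finset.sum_eq_single β₀]
      · have := hcoef β₀
        show classInner (fun g => ψ g * conj (χ g)) (infl N β₀) • infl N β₀ = _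
        rw [this, if_pos hβ₀, one_smul]
      · intro β _ hβ
        have := hcoef β
        show classInner (fun g => ψ g * conj (χ g)) (infl N β) • infl N β = 0
        rw [this, if_neg, zero_smul]
        intro h'
        apply hβ
        exact gallagher_injective N hχ hχN β β₀ (h'.symm.trans hβ₀)
      · intro h; exact absurd (Finset.mem_univ β₀) h
    · right
      push Not at h
      rw [hexp]
      apply Finset.sum_eq_zero
      intro β _
      have := hcoef β
      show classInner (fun g => ψ g * conj (χ g)) (infl N β) • infl N β = 0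
      rw [this, if_neg (h β), zero_smul]
  refine ⟨?_, ?_, ?_⟩
  · intro hne
    rcases hcases with ⟨β₀, h⟩ | h
    · rw [h]; exact (Helper77.inflate N β₀).2
    · exfalso
      apply hne
      rw [← hval, h]; rfl
  · intro h0
    rcases hcases with ⟨β₀, h⟩ | h
    · exfalso
      have h1 : infl N β₀ 1 = 0 := by rw [← h, hval, h0]
      exact char_one_ne_zero_of_isIrr (Helper77.inflate N β₀).2 h1
    · exact h
  · intro hψχ
    subst hψχ
    exact navg_mul_conj_self N hψ hχN

end Cfsg.Agent.S0868
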