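-- S0034 (helper35): the Frobenius kernel (as a set) has |G:H| elements and |G:H| ≡ 1 mod |H|.
import Cfsg.Statements.S0034
import Mathlib.GroupTheory.GroupAction.Quotient
import Mathlib.GroupTheory.Coset.Card

set_option autoImplicit false
open Cfsg

namespace Cfsg.Agent.S0034

open scoped Pointwise

variable {G : Type*} [Group G]

lemma mem_conj_smul_iff {H : Subgroup G} {g x : G} :
    x ∈ MulAut.conj g • H ↔ g⁻¹ * x * g ∈ H := by
  rw [Subgroup.mem_pointwise_smul_iff_inv_smul_mem]
  simp only [MulAut.smul_def, MulAut.conj_inv_apply]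

/-- the trivial-intersection property -/
lemma ti {H : Subgroup G} (hH : Cfsg.IsFrobeniusComplement H) {g g' x : G} (hx : x ≠ 1)
    (h1 : x ∈ MulAut.conj g • H) (h2 : x ∈ MulAut.conj g' • H) : g⁻¹ * g' ∈ H := by
  by_contra hne
  have hbot := hH.2.2 (g⁻¹ * g') hne
  rw [mem_conj_smul_iff] at h1 h2
  have hmem : g⁻¹ * x * g ∈ H ⊓ MulAut.conj (g⁻¹ * g') • H := by
    rw [Subgroup.mem_inf]
    refine ⟨h1, ?_⟩
    rw [mem_conj_smul_iff]
    convert h2 using 1
    group
  rw [hbot, Subgroup.mem_bot] at hmem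
  apply hx
  have : x = g * (g⁻¹ * x * g) * g⁻¹ := by group
  rw [this, hmem]
  group

/-- the map `(gH, h) ↦ g h g⁻¹` (with chosen representatives) -/
noncomputable def conjMap (H : Subgroup G) (qh : (G ⧸ H) × {h : H // h ≠ 1}) : G :=
  qh.1.out * (qh.2.1 : G) * (qh.1.out)⁻¹

lemma conjMap_injective {H : Subgroup G} (hH : Cfsg.IsFrobeniusComplement H) :
    Function.Injective (conjMap H) := by
  rintro ⟨q, h⟩ ⟨q', h'⟩ heq
  simp only [conjMap] at heq
  have hx1 : q.out * (h.1 : G) * (q.out)⁻¹ ≠ 1 := by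
    intro h1
    apply h.2
    have : (h.1 : G) = (q.out)⁻¹ * (q.out * (h.1 : G) * (q.out)⁻¹) * q.out := by group
    rw [h1] at this
    apply Subtype.ext
    rw [this]; simp
  have hm1 : q.out * (h.1 : G) * (q.out)⁻¹ ∈ MulAut.conj q.out • H := by
    rw [mem_conj_smul_iff]
    have : (q.out)⁻¹ * (q.out * (h.1 : G) * (q.out)⁻¹) * q.out = (h.1 : G) := by group
    rw [this]; exact h.1.2
  have hm2 : q.out * (h.1 : G) * (q.out)⁻¹ ∈ MulAut.conj q'.out • H := by
    rw [heq, mem_conj_smul_iff]
    have : (q'.out)⁻¹ * (q'.out * (h'.1 : G) * (q'.out)⁻¹) * q'.out = (h'.1 : G) := by group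
    rw [this]; exact h'.1.2
  have hq : q = q' := by
    have := ti hH hx1 hm1 hm2
    rw [← QuotientGroup.eq] at this
    simpa using this
  subst hq
  have : (h.1 : G) = (h'.1 : G) := by
    have e := congrArg (fun x => (q.out)⁻¹ * x * q.out) heq
    simpa [mul_assoc] using e
  have : h = h' := Subtype.ext (Subtype.ext this)
  rw [this]

lemma range_conjMap {H : Subgroup G} :
    Set.range (conjMap H) = (Cfsg.frobeniusKernel H)ᶜ := by
  ext x
  simp only [Set.mem_range, Set.mem_compl_iff, Cfsg.frobeniusKernel, Set.mem_ofPred_eq, not_or,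
    not_forall, not_not]
  constructor
  · rintro ⟨⟨q, h⟩, rfl⟩
    simp only [conjMap]
    constructor
    · intro h1
      apply h.2
      have : (h.1 : G) = (q.out)⁻¹ * (q.out * (h.1 : G) * (q.out)⁻¹) * q.out := by group
      rw [h1] at this
      apply Subtype.ext
      rw [this]; simp
    · refine ⟨q.out, ?_⟩
      rw [mem_conj_smul_iff]
      have : (q.out)⁻¹ * (q.out * (h.1 : G) * (q.out)⁻¹) * q.out = (h.1 : G) := by group
      rw [this]; exact h.1.2
  · rintro ⟨hx1, g, hg⟩
    rw [mem_conj_smul_iff] at hg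
    -- representative of the coset of g
    set g₀ := (QuotientGroup.mk g : G ⧸ H).out with hg₀
    have hgg : g⁻¹ * g₀ ∈ H := by
      rw [← QuotientGroup.eq, hg₀]
      simp
    have hmem : g₀⁻¹ * x * g₀ ∈ H := by
      have := H.mul_mem (H.mul_mem (H.inv_mem hgg) hg) hgg
      convert this using 1
      group
    refine ⟨⟨QuotientGroup.mk g, ⟨⟨g₀⁻¹ * x * g₀, hmem⟩, ?_⟩⟩, ?_⟩
    · intro h1
      apply hx1
      have h2 : g₀⁻¹ * x * g₀ = 1 := congrArg Subtype.val h1
      have : x = g₀ * (g₀⁻¹ * x * g₀) * g₀⁻¹ := by group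
      rw [this, h2]; group
    · simp only [conjMap, ← hg₀]
      group

lemma card_ne_one (H : Subgroup G) [Finite G] : Nat.card {h : H // h ≠ 1} + 1 = Nat.card H := by
  classical
  rw [← Finite.card_option]
  exact Nat.card_congr (Equiv.optionSubtypeNe (1 : H))

lemma card_kernel [Finite G] (H : Subgroup G) (hH : Cfsg.IsFrobeniusComplement H) :
    Nat.card (Cfsg.frobeniusKernel H) = H.index := by
  classical
  have e1 : Nat.card ((G ⧸ H) × {h : H // h ≠ 1}) =
      Nat.card ((Cfsg.frobeniusKernel H)ᶜ : Set G) := by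
    rw [← range_conjMap]
    exact Nat.card_congr (Equiv.ofInjective _ (conjMap_injective hH))
  have e2 : Nat.card ((G ⧸ H) × {h : H // h ≠ 1}) = H.index * Nat.card {h : H // h ≠ 1} := by
    rw [Nat.card_prod]; rfl
  have e3 : Nat.card (Cfsg.frobeniusKernel H) + Nat.card ((Cfsg.frobeniusKernel H)ᶜ : Set G) =
      Nat.card G := by
    rw [← Nat.card_sum]
    exact Nat.card_congr (Equiv.Set.sumCompl _)
  have e4 := H.card_mul_index
  have e5 := card_ne_one H
  rw [← e1, e2] at e3
  rw [← e5] at e4
  -- e3 : |K| + n * c = |G| ; e4 : (c + 1) * n = |G|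
  have : (Nat.card {h : H // h ≠ 1} + 1) * H.index =
      H.index + H.index * Nat.card {h : H // h ≠ 1} := by ring
  omega

lemma fixedBy_card_one [Finite G] (H : Subgroup G) (hH : Cfsg.IsFrobeniusComplement H)
    (h : H) (hh : h ≠ 1) [Fintype (MulAction.fixedBy (G ⧸ H) h)] :
    Fintype.card (MulAction.fixedBy (G ⧸ H) h) = 1 := by
  rw [Fintype.card_eq_one_iff]
  have e : ∀ g : G, h • (g : G ⧸ H) = (((h : G) * g : G) : G ⧸ H) := fun g => rfl
  have hfix : ((1 : G) : G ⧸ H) ∈ MulAction.fixedBy (G ⧸ H) h := by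
    rw [MulAction.mem_fixedBy, e, QuotientGroup.eq]
    simp
  refine ⟨⟨_, hfix⟩, ?_⟩
  rintro ⟨q, hq⟩
  apply Subtype.ext
  induction q using QuotientGroup.induction_on with
  | H g =>
    rw [MulAction.mem_fixedBy, e, QuotientGroup.eq] at hq
    show (g : G ⧸ H) = ((1 : G) : G ⧸ H)
    rw [eq_comm, QuotientGroup.eq, inv_one, one_mul]
    by_contra hg
    have hbot := hH.2.2 g hg
    have hmem : (h : G) ∈ H ⊓ MulAut.conj g • H := by
      rw [Subgroup.mem_inf]
      refine ⟨h.2, ?_⟩
      rw [mem_conj_smul_iff]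
      have := H.inv_mem hq
      convert this using 1
      group
    rw [hbot, Subgroup.mem_bot] at hmem
    exact hh (Subtype.ext hmem)

lemma index_mod [Finite G] (H : Subgroup G) (hH : Cfsg.IsFrobeniusComplement H) :
    H.index % Nat.card H = 1 % Nat.card H := by
  classical
  have : Fintype H := Fintype.ofFinite H
  have : Fintype (G ⧸ H) := Fintype.ofFinite _
  have : Fintype (MulAction.orbitRel.Quotient H (G ⧸ H)) := Fintype.ofFinite _
  have hB := MulAction.sum_card_fixedBy_eq_card_orbits_mul_card_group H (G ⧸ H)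
  have h0 : Fintype.card (MulAction.fixedBy (G ⧸ H) (1 : H)) = H.index := by
    rw [Subgroup.index, Nat.card_eq_fintype_card]
    apply Fintype.card_congr
    exact (Equiv.subtypeUnivEquiv (fun q => by simp))
  rw [← Finset.add_sum_erase _ _ (Finset.mem_univ (1 : H)), h0,
    Finset.sum_congr rfl (fun h hh => fixedBy_card_one H hH h (Finset.ne_of_mem_erase hh)),
    Finset.sum_const, Finset.card_erase_of_mem (Finset.mem_univ _), Finset.card_univ,
    smul_eq_mul, mul_one, ← Nat.card_eq_fintype_card (α := H)] at hB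
  have hpos : 1 ≤ Nat.card H := Nat.card_pos
  -- hB : index + (|H| - 1) = orbits * |H|
  have h2 : (H.index + (Nat.card H - 1)) % Nat.card H = 0 := by
    rw [hB]; exact Nat.mul_mod_left _ _
  have h3 : (H.index + Nat.card H) % Nat.card H = (0 + 1) % Nat.card H := by
    have : H.index + Nat.card H = (H.index + (Nat.card H - 1)) + 1 := by omega
    rw [this, Nat.add_mod, h2]
    simp
  rw [Nat.add_mod_right] at h3
  simpa using h3

/-- For a Frobenius complement H, the set of elements lying in no conjugate of H, together with 1, has exactly as many elements as the index of H, and that index is congruent to 1 modulo the order of H. -/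
theorem result {G : Type*} [Group G] [Finite G] (H : Subgroup G) (hH : Cfsg.IsFrobeniusComplement H) :
    Nat.card (Cfsg.frobeniusKernel H) = H.index ∧ H.index % Nat.card H = 1 % Nat.card H :=
  ⟨card_kernel H hH, index_mod H hH⟩

end Cfsg.Agent.S0034
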