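import Cfsg.Statements.S1498
import Mathlib

set_option autoImplicit false
open Cfsg

namespace Cfsg.Agent.S1498

/-- an element of order coprime to the index of a normal subgroup lies in it -/
theorem mem_of_coprime_index {C : Type*} [Group C] [Finite C] (N : Subgroup C) [N.Normal] (h : C)
    (hcop : (orderOf h).Coprime N.index) : h ∈ N := by
  rw [← QuotientGroup.eq_one_iff]
  have h1 : ((h : C) : C ⧸ N) ^ (orderOf h) = 1 := by
    rw [← QuotientGroup.mk_pow, pow_orderOf_eq_one]; rfl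
  have h2 : ((h : C) : C ⧸ N) ^ N.index = 1 := by
    rw [Subgroup.index_eq_card]; exact pow_card_eq_one'
  have := pow_gcd_eq_one.mpr ⟨h1, h2⟩
  rw [hcop, pow_one] at this
  exact this

/-- if `N`, `Q ≤ C` with `N` normalized by `C`, `N ⊓ Q = ⊥`, `N ⊔ Q = C`, then any element of `C` whose
order is coprime to `|Q|` lies in `N`. -/
theorem mem_of_coprime_compl {G : Type*} [Group G] [Finite G] (C N Q : Subgroup G) (hNC : N ≤ C)
    (hQC : Q ≤ C) (hnorm : ∀ c ∈ C, ∀ u ∈ N, c * u * c⁻¹ ∈ N) (hinf : N ⊓ Q = ⊥) (hsup : N ⊔ Q = C)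
    (h : G) (hh : h ∈ C) (hcop : (orderOf h).Coprime (Nat.card Q)) : h ∈ N := by
  set N' := N.subgroupOf C with hN'
  set Q' := Q.subgroupOf C with hQ'
  have hN'n : N'.Normal := by
    constructor
    intro n hn c
    rw [hN', Subgroup.mem_subgroupOf] at hn ⊢
    exact hnorm c c.2 n hn
  have hinf' : N' ⊓ Q' = ⊥ := by
    rw [eq_bot_iff]
    intro z hz
    rw [Subgroup.mem_bot]
    have hz1 : (z : G) ∈ N := Subgroup.mem_subgroupOf.mp hz.1
    have hz2 : (z : G) ∈ Q := Subgroup.mem_subgroupOf.mp hz.2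
    have : (z : G) ∈ N ⊓ Q := ⟨hz1, hz2⟩
    rw [hinf, Subgroup.mem_bot] at this
    exact Subtype.ext this
  have hsup' : N' ⊔ Q' = ⊤ := by
    rw [hN', hQ', ← Subgroup.subgroupOf_sup hNC hQC, hsup, Subgroup.subgroupOf_self]
  have hcompl : Subgroup.IsComplement' N' Q' :=
    Subgroup.isComplement'_of_disjoint_and_mul_eq_univ (disjoint_iff.mpr hinf') (by
      rw [← Subgroup.normal_mul, hsup']; rfl)
  have hidx : N'.index = Nat.card Q := by
    rw [hcompl.symm.index_eq_card]
    exact Nat.card_congr (Subgroup.subgroupOfEquivOfLe hQC).toEquiv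
  have hmem : (⟨h, hh⟩ : C) ∈ N' := by
    apply mem_of_coprime_index
    rw [hidx]
    have : orderOf (⟨h, hh⟩ : C) = orderOf h := by
      rw [← Subgroup.orderOf_coe]
    rw [this]
    exact hcop
  exact Subgroup.mem_subgroupOf.mp hmem

theorem core {G : Type*} [Group G] [Finite G] (A : Set G) (L : Subgroup G) (H : G → Subgroup G)
    (hD : Cfsg.DadeHypothesis A L H) (a : G) (ha : a ∈ A) (x : G) (hx : x ∈ L) :
    (H a).map (MulAut.conj x).toMonoidHom ≤ H (x * a * x⁻¹) := by
  have hb : x * a * x⁻¹ ∈ A := hD.conj_mem x hx a ha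
  rintro _ ⟨u, hu, rfl⟩
  have huC : u ∈ Subgroup.centralizer ({a} : Set G) := hD.le_centralizer a ha hu
  have hcomm : a * u = u * a := Subgroup.mem_centralizer_iff.mp huC a rfl
  apply mem_of_coprime_compl (Subgroup.centralizer ({x * a * x⁻¹} : Set G)) (H (x * a * x⁻¹))
    (L ⊓ Subgroup.centralizer ({x * a * x⁻¹} : Set G)) (hD.le_centralizer _ hb) inf_le_right
    (hD.conj_mem_H _ hb) (hD.inf_eq_bot _ hb) (hD.sup_eq _ hb)
  · rw [Subgroup.mem_centralizer_iff]
    intro y hy
    rw [Set.mem_singleton_iff] at hy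
    subst hy
    show x * a * x⁻¹ * (x * u * x⁻¹) = x * u * x⁻¹ * (x * a * x⁻¹)
    calc x * a * x⁻¹ * (x * u * x⁻¹) = x * (a * u) * x⁻¹ := by group
      _ = x * (u * a) * x⁻¹ := by rw [hcomm]
      _ = x * u * x⁻¹ * (x * a * x⁻¹) := by group
  · have hord : orderOf ((MulAut.conj x).toMonoidHom u) = orderOf u := by
      exact orderOf_injective (MulAut.conj x).toMonoidHom (MulAut.conj x).injective u
    rw [hord]
    have hdvd : orderOf u ∣ Nat.card (H a) := by
      have := orderOf_dvd_natCard (⟨u, hu⟩ : H a)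
      rwa [Subgroup.orderOf_mk] at this
    exact Nat.Coprime.coprime_dvd_left hdvd (hD.coprime a ha _ hb)

/-- Under the Dade hypothesis for (A, L, H): for a ∈ A and x ∈ L, the subgroup attached to x * a * x⁻¹ is the conjugate of H a by x. -/
theorem result {G : Type*} [Group G] [Finite G] (A : Set G) (L : Subgroup G) (H : G → Subgroup G) (hD : Cfsg.DadeHypothesis A L H) (a : G) (ha : a ∈ A) (x : G) (hx : x ∈ L) : H (x * a * x⁻¹) = (H a).map (MulAut.conj x).toMonoidHom := by
  apply le_antisymm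
  · have hb : x * a * x⁻¹ ∈ A := hD.conj_mem x hx a ha
    have h := core A L H hD (x * a * x⁻¹) hb x⁻¹ (L.inv_mem hx)
    have e : x⁻¹ * (x * a * x⁻¹) * x⁻¹⁻¹ = a := by group
    rw [e] at h
    intro z hz
    have hz' : (MulAut.conj x⁻¹).toMonoidHom z ∈ H a := h (Subgroup.mem_map_of_mem _ hz)
    refine ⟨(MulAut.conj x⁻¹).toMonoidHom z, hz', ?_⟩
    simp
    group
  · exact core A L H hD a ha x hx

end Cfsg.Agent.S1498
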