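import Cfsg.Statements.S1499
import Mathlib

set_option autoImplicit false
open Cfsg

namespace Cfsg.Agent.S1499

theorem pow_trick {G : Type*} [Group G] (a u : G) (N M m : ℕ) (ha : a ^ M = 1) (hu : u ^ N = 1)
    (hcomm : Commute a u) (hm1 : m % M = 1) (hm0 : N ∣ m) : (a * u) ^ m = a := by
  obtain ⟨t, rfl⟩ := hm0
  have h1 : N * t = M * (N * t / M) + 1 := by
    have := Nat.div_add_mod (N * t) M
    omega
  have h2 : a ^ (N * t) = a := by
    rw [h1, pow_add, pow_mul, ha, one_pow, one_mul, pow_one]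
  rw [hcomm.mul_pow, h2, pow_mul, hu, one_pow, mul_one]

/-- the common exponent -/
theorem exists_exponent {G : Type*} [Group G] [Finite G] (A : Set G) (L : Subgroup G) (H : G → Subgroup G)
    (hD : Cfsg.DadeHypothesis A L H) (a b : G) (ha : a ∈ A) (hb : b ∈ A) :
    ∃ m : ℕ, (∀ u ∈ H a, (a * u) ^ m = a) ∧ (∀ v ∈ H b, (b * v) ^ m = b) ∧ a ^ m = a := by
  set N := Nat.card (H a) * Nat.card (H b) with hN
  set M := orderOf a * orderOf b with hM
  have hoa : orderOf a ∣ Nat.card ↥(L ⊓ Subgroup.centralizer ({a} : Set G)) := by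
    have hmem : a ∈ L ⊓ Subgroup.centralizer ({a} : Set G) := by
      refine ⟨hD.subset ha, ?_⟩
      show a ∈ Subgroup.centralizer ({a} : Set G)
      rw [Subgroup.mem_centralizer_iff]
      intro y hy
      rw [Set.mem_singleton_iff] at hy
      rw [hy]
    have := orderOf_dvd_natCard (⟨a, hmem⟩ : ↥(L ⊓ Subgroup.centralizer ({a} : Set G)))
    rwa [Subgroup.orderOf_mk] at this
  have hob : orderOf b ∣ Nat.card ↥(L ⊓ Subgroup.centralizer ({b} : Set G)) := by
    have hmem : b ∈ L ⊓ Subgroup.centralizer ({b} : Set G) := by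
      refine ⟨hD.subset hb, ?_⟩
      show b ∈ Subgroup.centralizer ({b} : Set G)
      rw [Subgroup.mem_centralizer_iff]
      intro y hy
      rw [Set.mem_singleton_iff] at hy
      rw [hy]
    have := orderOf_dvd_natCard (⟨b, hmem⟩ : ↥(L ⊓ Subgroup.centralizer ({b} : Set G)))
    rwa [Subgroup.orderOf_mk] at this
  have hcop : Nat.Coprime N M := by
    rw [hN, hM]
    apply Nat.Coprime.mul_left
    · apply Nat.Coprime.mul_right
      · exact Nat.Coprime.coprime_dvd_right hoa (hD.coprime a ha a ha)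
      · exact Nat.Coprime.coprime_dvd_right hob (hD.coprime a ha b hb)
    · apply Nat.Coprime.mul_right
      · exact Nat.Coprime.coprime_dvd_right hoa (hD.coprime b hb a ha)
      · exact Nat.Coprime.coprime_dvd_right hob (hD.coprime b hb b hb)
  have ha1 : a ≠ 1 := fun h => hD.one_not_mem (h ▸ ha)
  have hM1 : 1 < M := by
    have h1 : 2 ≤ orderOf a := by
      have hpos := orderOf_pos a
      have hne : orderOf a ≠ 1 := fun h => ha1 (orderOf_eq_one_iff.mp h)
      omega
    have h2 : 1 ≤ orderOf b := orderOf_pos b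
    rw [hM]
    nlinarith
  obtain ⟨t, -, ht⟩ := Nat.exists_mul_mod_eq_one_of_coprime hcop hM1
  have haM : a ^ M = 1 := by rw [hM, pow_mul, pow_orderOf_eq_one, one_pow]
  have hbM : b ^ M = 1 := by rw [hM, mul_comm, pow_mul, pow_orderOf_eq_one, one_pow]
  have huN : ∀ u ∈ H a, u ^ N = 1 := by
    intro u hu
    have h1 : u ^ Nat.card (H a) = 1 := by
      have := pow_card_eq_one' (G := H a) (x := ⟨u, hu⟩)
      exact congrArg Subtype.val this
    rw [hN, pow_mul, h1, one_pow]
  have hvN : ∀ v ∈ H b, v ^ N = 1 := by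
    intro v hv
    have h1 : v ^ Nat.card (H b) = 1 := by
      have := pow_card_eq_one' (G := H b) (x := ⟨v, hv⟩)
      exact congrArg Subtype.val this
    rw [hN, mul_comm, pow_mul, h1, one_pow]
  refine ⟨N * t, ?_, ?_, ?_⟩
  · intro u hu
    have hcu : Commute a u := by
      have := hD.le_centralizer a ha hu
      exact Subgroup.mem_centralizer_iff.mp this a rfl
    exact pow_trick a u N M (N * t) haM (huN u hu) hcu ht (dvd_mul_right N t)
  · intro v hv
    have hcv : Commute b v := by
      have := hD.le_centralizer b hb hv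
      exact Subgroup.mem_centralizer_iff.mp this b rfl
    exact pow_trick b v N M (N * t) hbM (hvN v hv) hcv ht (dvd_mul_right N t)
  · have := pow_trick a 1 N M (N * t) haM (one_pow N) (Commute.one_right a) ht (dvd_mul_right N t)
    simpa using this

/-- Under the Dade hypothesis for (A, L, H), let a, b ∈ A. If an element of the coset a·H(a) is conjugate in G to an element of b·H(b), then a and b are conjugate by an element of L. Moreover the set normaliser of the coset a·H(a) is the centraliser of a. -/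
theorem result {G : Type*} [Group G] [Finite G] (A : Set G) (L : Subgroup G) (H : G → Subgroup G) (hD : Cfsg.DadeHypothesis A L H) (a b : G) (ha : a ∈ A) (hb : b ∈ A) : ((∃ u ∈ H a, ∃ v ∈ H b, ∃ g : G, g * (a * u) * g⁻¹ = b * v) → ∃ x ∈ L, x * a * x⁻¹ = b) ∧ Subgroup.normalizer ((fun u : G => a * u) '' (H a : Set G)) = Subgroup.centralizer ({a} : Set G) := by
  constructor
  · rintro ⟨u, hu, v, hv, g, hg⟩
    obtain ⟨m, hm1, hm2, -⟩ := exists_exponent A L H hD a b ha hb
    have h1 : (g * (a * u) * g⁻¹) ^ m = g * (a * u) ^ m * g⁻¹ := by rw [conj_pow]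
    rw [hg, hm1 u hu, hm2 v hv] at h1
    have hgA : g * a * g⁻¹ ∈ A := by rw [← h1]; exact hb
    obtain ⟨x, hx, hxa⟩ := hD.fusion a ha g hgA
    exact ⟨x, hx, by rw [hxa, ← h1]⟩
  · apply le_antisymm
    · intro g hg
      obtain ⟨m, hm1, -, hm3⟩ := exists_exponent A L H hD a a ha ha
      have haS : a ∈ (fun u : G => a * u) '' (H a : Set G) := ⟨1, (H a).one_mem, by simp⟩
      have := (Subgroup.mem_set_normalizer_iff.mp hg a).mp haS
      obtain ⟨u₂, hu₂, hgu⟩ := this
      have hu₂' : u₂ ∈ H a := hu₂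
      have hgu' : a * u₂ = g * a * g⁻¹ := hgu
      have e1 : (a * u₂) ^ m = a := hm1 u₂ hu₂'
      have e2 : (a * u₂) ^ m = a * u₂ := by rw [hgu', conj_pow, hm3]
      have h1 : g * a * g⁻¹ = a := by
        calc g * a * g⁻¹ = a * u₂ := hgu'.symm
          _ = (a * u₂) ^ m := e2.symm
          _ = a := e1
      rw [Subgroup.mem_centralizer_iff]
      intro y hy
      rw [Set.mem_singleton_iff] at hy
      subst hy
      calc y * g = (g * y * g⁻¹) * g := by rw [h1]
        _ = g * y := by group
    · intro c hc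
      have hcomm : a * c = c * a := Subgroup.mem_centralizer_iff.mp hc a rfl
      have hcinv : c⁻¹ ∈ Subgroup.centralizer ({a} : Set G) := Subgroup.inv_mem _ hc
      have hcomm' : a * c⁻¹ = c⁻¹ * a := Subgroup.mem_centralizer_iff.mp hcinv a rfl
      rw [Subgroup.mem_set_normalizer_iff]
      intro n
      constructor
      · rintro ⟨u, hu, rfl⟩
        refine ⟨c * u * c⁻¹, hD.conj_mem_H a ha c hc u hu, ?_⟩
        show a * (c * u * c⁻¹) = c * (a * u) * c⁻¹
        calc a * (c * u * c⁻¹) = (a * c) * u * c⁻¹ := by group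
          _ = (c * a) * u * c⁻¹ := by rw [hcomm]
          _ = c * (a * u) * c⁻¹ := by group
      · rintro ⟨u, hu, hun⟩
        have hun' : a * u = c * n * c⁻¹ := hun
        refine ⟨c⁻¹ * u * c⁻¹⁻¹, hD.conj_mem_H a ha c⁻¹ hcinv u hu, ?_⟩
        show a * (c⁻¹ * u * c⁻¹⁻¹) = n
        calc a * (c⁻¹ * u * c⁻¹⁻¹) = (a * c⁻¹) * u * c := by group
          _ = (c⁻¹ * a) * u * c := by rw [hcomm']
          _ = c⁻¹ * (a * u) * c := by group
          _ = c⁻¹ * (c * n * c⁻¹) * c := by rw [hun']
          _ = n := by group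

end Cfsg.Agent.S1499
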