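import Cfsg.Statements.S0148
import Cfsg.Agent.Lib.Helper75.Clifford
import Cfsg.Agent.Lib.Helper3.IrrBasis

set_option autoImplicit false
open Cfsg

namespace Cfsg.Agent.S0148

/-- The inner product of two characters is a natural number. -/
theorem exists_nat_classInner_of_isCharacter {H : Type*} [Group H] [Fintype H] {θ φ : H → ℂ}
    (hθ : Cfsg.IsCharacter H θ) (hφ : Cfsg.IsCharacter H φ) :
    ∃ n : ℕ, Cfsg.classInner θ φ = (n : ℂ) := by
  obtain ⟨n, ρ, rfl⟩ := hθ
  obtain ⟨m, σ, rfl⟩ := hφ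
  exact ⟨_, Cfsg.Agent.Lib.Helper3.classInner_character_eq_finrank ρ σ⟩


/-- Inducing a character of a subgroup yields a character of the whole group. -/
theorem result {G : Type*} [Group G] [Fintype G] (H : Subgroup G) (θ : H → ℂ) (hθ : Cfsg.IsCharacter H θ) : Cfsg.IsCharacter G (Cfsg.indFun H θ) := by
  classical
  have : Fintype H := Fintype.ofFinite H
  rw [Cfsg.Agent.Lib.Helper78.isCharacter_iff_exists_nat_combination]
  have hcl := Cfsg.Agent.Lib.Helper75.isClassFunction_indFun H θ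
  choose a ha using fun ψ : Cfsg.IrrCharacter G =>
    exists_nat_classInner_of_isCharacter hθ
      (Cfsg.Agent.Lib.Helper75.isCharacter_res H
        (Cfsg.Agent.Lib.Helper3.IsIrrCharacter.isCharacter ψ.2))
  refine ⟨a, ?_⟩
  conv_lhs => rw [Cfsg.Agent.Lib.Helper78.classFunction_eq_sum_irr hcl]
  refine Finset.sum_congr rfl fun ψ _ => ?_
  rw [Cfsg.Agent.Lib.Helper75.frobenius_reciprocity H θ
    (Cfsg.Agent.Lib.Helper3.IsIrrCharacter.isClassFunction ψ.2), ha ψ]

end Cfsg.Agent.S0148
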