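import Cfsg.Statements.S1514
import Mathlib
import Cfsg.Agent.Lib.Helper26.IrrFactsInst
import Cfsg.Agent.Lib.Helper26.ZSpan
import Cfsg.Agent.Lib.Helper26.SignLemma

set_option autoImplicit false
open Cfsg

namespace Cfsg.Agent.S1514

open Cfsg.Agent.Lib.Helper26
open scoped ComplexConjugate

/-- a generalized character of norm `2` vanishing at `1` is a difference of two distinct
irreducible characters -/
theorem norm_two {G : Type*} [Group G] [Fintype G] (α : G → ℂ)
    (hα : Cfsg.IsGeneralizedCharacter G α) (h2 : Cfsg.classInner α α = 2) (h1 : α 1 = 0) :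
    ∃ ψ₁ ψ₂ : G → ℂ, Cfsg.IsIrrCharacter G ψ₁ ∧ Cfsg.IsIrrCharacter G ψ₂ ∧ ψ₁ ≠ ψ₂ ∧
      α = ψ₁ - ψ₂ := by
  classical
  have F := irrFacts G
  obtain ⟨s, c, hs, hc, hαeq⟩ := F.exists_zcomb hα
  have hex : ∃ χ₀, Cfsg.IsIrrCharacter G χ₀ ∧ Cfsg.classInner α χ₀ ≠ 0 := by
    by_contra hcon
    push Not at hcon
    have h0 : α = 0 := by
      rw [hαeq]
      apply Finset.sum_eq_zero
      intro χ hχ
      have h3 := hcon χ (hs χ hχ)
      rw [hαeq, F.inner_zcomb hs hc (hs χ hχ)] at h3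
      have h4 : c χ = 0 := by exact_mod_cast h3
      rw [h4, zero_smul]
    rw [h0, classInner_zero_left] at h2
    norm_num at h2
  obtain ⟨χ₀, hχ₀, hne⟩ := hex
  have hχ₀gen : Cfsg.IsGeneralizedCharacter G χ₀ :=
    isGeneralizedCharacter_of_isCharacter (IrrFacts.irr_isCharacter hχ₀)
  obtain ⟨n, hn⟩ := F.inner_int hα hχ₀gen
  have hn' : Cfsg.classInner χ₀ α = n := by
    rw [← classInner_conj_symm, hn]; simp
  have hn0 : n ≠ 0 := by
    intro h; apply hne; rw [hn, h]; simp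
  have hβgen : Cfsg.IsGeneralizedCharacter G (α - n • χ₀) := F.gen_sub hα (F.gen_zsmul n hχ₀gen)
  have hβnorm : Cfsg.classInner (α - n • χ₀) (α - n • χ₀) = 2 - (n : ℂ) ^ 2 := by
    rw [classInner_sub_left, classInner_sub_right, classInner_sub_right, classInner_zsmul_left,
      classInner_zsmul_right, classInner_zsmul_left, classInner_zsmul_right, h2, hn, hn',
      F.irr_norm hχ₀]
    ring
  obtain ⟨k, hk⟩ := F.norm_nat hβgen
  have hk' : (2 : ℤ) - n ^ 2 = k := by
    have : ((2 - n ^ 2 : ℤ) : ℂ) = ((k : ℤ) : ℂ) := by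
      push_cast; rw [← hβnorm, hk]
    exact_mod_cast this
  have hnsq : n ^ 2 = 1 := by
    have h3 : n ^ 2 ≤ 2 := by omega
    have h4 : 0 < n ^ 2 := by positivity
    have h5 : n ^ 2 ≠ 2 := by
      intro h
      have h6 : -2 < n := by nlinarith
      have h7 : n < 2 := by nlinarith
      interval_cases n <;> omega
    omega
  have hβ1 : Cfsg.classInner (α - n • χ₀) (α - n • χ₀) = 1 := by
    rw [hβnorm]
    have : ((n ^ 2 : ℤ) : ℂ) = 1 := by rw [hnsq]; simp
    push_cast at this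
    rw [this]; norm_num
  obtain ⟨χ₁, hχ₁, hβeq⟩ := F.norm_one hβgen hβ1
  have hβχ₀ : Cfsg.classInner (α - n • χ₀) χ₀ = 0 := by
    rw [classInner_sub_left, classInner_zsmul_left, hn, F.irr_norm hχ₀]; ring
  have hne01 : χ₁ ≠ χ₀ := by
    intro h
    rcases hβeq with h3 | h3
    · rw [h3, h, F.irr_norm hχ₀] at hβχ₀; exact one_ne_zero hβχ₀
    · rw [h3, h, classInner_neg_left, F.irr_norm hχ₀] at hβχ₀
      exact one_ne_zero (neg_eq_zero.mp hβχ₀)
  obtain ⟨d₀, hd₀, hd₀1⟩ := F.deg_pos χ₀ hχ₀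
  obtain ⟨d₁, hd₁, hd₁1⟩ := F.deg_pos χ₁ hχ₁
  have hα' : α = n • χ₀ + (α - n • χ₀) := by abel
  have hn1 : n = 1 ∨ n = -1 := by
    have : (n - 1) * (n + 1) = 0 := by ring_nf; omega
    rcases mul_eq_zero.mp this with h | h
    · left; omega
    · right; omega
  rcases hn1 with hn1 | hn1 <;> rcases hβeq with h3 | h3
  · -- α = χ₀ + χ₁ : impossible
    exfalso
    have h4 := congrFun hα' 1
    rw [h3, hn1, one_smul, Pi.add_apply, h1, hd₀1, hd₁1] at h4
    have h5 : ((d₀ + d₁ : ℕ) : ℂ) = 0 := by push_cast; exact h4.symm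
    have h6 : d₀ + d₁ = 0 := by exact_mod_cast h5
    omega
  · refine ⟨χ₀, χ₁, hχ₀, hχ₁, hne01.symm, ?_⟩
    rw [hα', h3, hn1, one_smul]; abel
  · refine ⟨χ₁, χ₀, hχ₁, hχ₀, hne01, ?_⟩
    rw [hα', h3, hn1, neg_one_smul]; abel
  · exfalso
    have h4 := congrFun hα' 1
    rw [h3, hn1, neg_one_smul, Pi.add_apply, Pi.neg_apply, Pi.neg_apply, h1, hd₀1, hd₁1] at h4
    have h5 : ((d₀ + d₁ : ℕ) : ℂ) = 0 := by push_cast; linear_combination h4
    have h6 : d₀ + d₁ = 0 := by exact_mod_cast h5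
    omega

theorem classInner_conjFun {L : Type*} [Group L] [Fintype L] (a b : L → ℂ) :
    Cfsg.classInner (Cfsg.conjFun a) (Cfsg.conjFun b) = conj (Cfsg.classInner a b) := by
  unfold Cfsg.classInner Cfsg.conjFun
  rw [map_mul, map_sum]
  congr 1
  · simp
  · apply Finset.sum_congr rfl
    intro g _
    rw [map_mul]

theorem conjFun_conjFun {L : Type*} (a : L → ℂ) : Cfsg.conjFun (Cfsg.conjFun a) = a := by
  funext x; simp [Cfsg.conjFun]


/-- Let S be a nonempty set of irreducible characters of the finite group L, closed under complex conjugation and containing no real-valued member, and τ a linear isometry on the integer combinations of S vanishing at 1, with values virtual characters of G vanishing at 1. Then there is a choice R making (S, τ, R) a coherence system. -/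
theorem result {L : Type*} [Group L] [Fintype L] {G : Type*} [Group G] [Fintype G] (S : Set (L → ℂ)) (hS : S.Nonempty) (hirr : ∀ χ ∈ S, Cfsg.IsIrrCharacter L χ) (hconj : ∀ χ ∈ S, Cfsg.conjFun χ ∈ S ∧ Cfsg.conjFun χ ≠ χ) (τ : (L → ℂ) → (G → ℂ)) (hτ : Cfsg.IsLinearIsometryOn (Cfsg.zspanOn S {1}ᶜ) τ) (hτ1 : ∀ α ∈ Cfsg.zspanOn S {1}ᶜ, τ α 1 = 0) : ∃ R : (L → ℂ) → Finset (G → ℂ), Cfsg.IsCoherenceSystem S τ R := by
  classical
  have FL := irrFacts L
  have FG := irrFacts G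
  have hmem : ∀ χ ∈ S, χ - Cfsg.conjFun χ ∈ Cfsg.zspanOn S {1}ᶜ := by
    intro χ hχ
    rw [mem_zspanOn_compl_one]
    refine ⟨zspan_sub (subset_zspan S hχ) (subset_zspan S (hconj χ hχ).1), ?_⟩
    obtain ⟨d, _, hd⟩ := FL.deg_pos χ (hirr χ hχ)
    simp [Cfsg.conjFun, hd]
  have hnorm : ∀ χ ∈ S, Cfsg.classInner (χ - Cfsg.conjFun χ) (χ - Cfsg.conjFun χ) = 2 := by
    intro χ hχ
    have h1 := hirr χ hχ
    have h2 := hirr _ (hconj χ hχ).1
    rw [classInner_sub_left, classInner_sub_right, classInner_sub_right, FL.irr_norm h1,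
      FL.irr_norm h2, FL.orthonormal _ _ h1 h2, FL.orthonormal _ _ h2 h1,
      if_neg (hconj χ hχ).2.symm, if_neg (hconj χ hχ).2]
    norm_num
  have hex : ∀ χ ∈ S, ∃ ψ₁ ψ₂ : G → ℂ, Cfsg.IsIrrCharacter G ψ₁ ∧ Cfsg.IsIrrCharacter G ψ₂ ∧
      ψ₁ ≠ ψ₂ ∧ τ (χ - Cfsg.conjFun χ) = ψ₁ - ψ₂ := by
    intro χ hχ
    apply norm_two _ (isom_gen hτ (hmem χ hχ))
    · rw [isom_inner hτ (hmem χ hχ) (hmem χ hχ), hnorm χ hχ]
    · exact hτ1 _ (hmem χ hχ)
  choose! P₁ P₂ hP₁ hP₂ hPne hPeq using hex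
  have hPneg : ∀ χ ∈ S, P₁ χ ≠ -P₂ χ := fun χ hχ => FG.irr_ne_neg (hP₁ χ hχ) (hP₂ χ hχ)
  refine ⟨fun χ => {P₁ χ, -P₂ χ}, ?_⟩
  refine
    { nonempty := hS
      isCharacter := fun χ hχ => IrrFacts.irr_isCharacter (hirr χ hχ)
      conj_mem := fun χ hχ => (hconj χ hχ).1
      conj_ne := fun χ hχ => (hconj χ hχ).2
      isometry := hτ
      map_one := hτ1
      orthogonal := ?_
      orthonormal := ?_
      virtual := ?_
      sum_eq := ?_
      disjoint := ?_ }
  · intro χ hχ φ hφ hne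
    rw [FL.orthonormal χ φ (hirr χ hχ) (hirr φ hφ), if_neg hne]
  · intro χ hχ α hα β hβ
    rw [Finset.mem_insert, Finset.mem_singleton] at hα hβ
    have h12 : Cfsg.classInner (P₁ χ) (P₂ χ) = 0 := by
      rw [FG.orthonormal _ _ (hP₁ χ hχ) (hP₂ χ hχ), if_neg (hPne χ hχ)]
    have h21 : Cfsg.classInner (P₂ χ) (P₁ χ) = 0 := by
      rw [FG.orthonormal _ _ (hP₂ χ hχ) (hP₁ χ hχ), if_neg (hPne χ hχ).symm]
    rcases hα with rfl | rfl <;> rcases hβ with rfl | rfl
    · rw [if_pos rfl, FG.irr_norm (hP₁ χ hχ)]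
    · rw [if_neg (hPneg χ hχ), classInner_neg_right, h12, neg_zero]
    · rw [if_neg (hPneg χ hχ).symm, classInner_neg_left, h21, neg_zero]
    · rw [if_pos rfl, classInner_neg_left, classInner_neg_right, FG.irr_norm (hP₂ χ hχ), neg_neg]
  · intro χ hχ α hα
    rw [Finset.mem_insert, Finset.mem_singleton] at hα
    rcases hα with rfl | rfl
    · exact isGeneralizedCharacter_of_isCharacter (IrrFacts.irr_isCharacter (hP₁ χ hχ))
    · exact gen_neg (isGeneralizedCharacter_of_isCharacter (IrrFacts.irr_isCharacter (hP₂ χ hχ)))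
  · intro χ hχ
    rw [Finset.sum_pair (hPneg χ hχ), hPeq χ hχ, sub_eq_add_neg]
  · intro χ hχ φ hφ h1 h2
    -- the four inner products of conjugates
    have hχ' := (hconj χ hχ).1
    have hφ' := (hconj φ hφ).1
    have e1 : Cfsg.classInner (Cfsg.conjFun φ) (Cfsg.conjFun χ) = 0 := by
      rw [classInner_conjFun, h1, map_zero]
    have e2 : Cfsg.classInner (Cfsg.conjFun φ) χ = 0 := by
      have := classInner_conjFun φ (Cfsg.conjFun χ)
      rw [conjFun_conjFun, h2, map_zero] at this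
      exact this
    have hzero : Cfsg.classInner (P₁ φ - P₂ φ) (P₁ χ - P₂ χ) = 0 := by
      rw [← hPeq φ hφ, ← hPeq χ hχ, isom_inner hτ (hmem φ hφ) (hmem χ hχ), classInner_sub_left,
        classInner_sub_right, classInner_sub_right, h1, h2, e1, e2]
      ring
    rw [classInner_sub_left, classInner_sub_right, classInner_sub_right,
      FG.orthonormal _ _ (hP₁ φ hφ) (hP₁ χ hχ), FG.orthonormal _ _ (hP₁ φ hφ) (hP₂ χ hχ),
      FG.orthonormal _ _ (hP₂ φ hφ) (hP₁ χ hχ), FG.orthonormal _ _ (hP₂ φ hφ) (hP₂ χ hχ)] at hzero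
    have hφne := hPne φ hφ
    have hχne := hPne χ hχ
    have d11 : P₁ φ ≠ P₁ χ := by
      intro h
      have a : P₁ φ ≠ P₂ χ := by rw [h]; exact hχne
      have b : P₂ φ ≠ P₁ χ := by rw [← h]; exact hφne.symm
      rw [if_pos h, if_neg a, if_neg b] at hzero
      split_ifs at hzero <;> norm_num at hzero
    have d22 : P₂ φ ≠ P₂ χ := by
      intro h
      have a : P₁ φ ≠ P₂ χ := by rw [← h]; exact hφne
      have b : P₂ φ ≠ P₁ χ := by rw [h]; exact hχne.symm
      rw [if_pos h, if_neg a, if_neg b, if_neg d11] at hzero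
      norm_num at hzero
    have d12 : P₁ φ ≠ P₂ χ := by
      intro h
      rw [if_pos h, if_neg d11, if_neg d22] at hzero
      split_ifs at hzero <;> norm_num at hzero
    have d21 : P₂ φ ≠ P₁ χ := by
      intro h
      rw [if_pos h, if_neg d11, if_neg d22, if_neg d12] at hzero
      norm_num at hzero
    intro α hα β hβ
    rw [Finset.mem_insert, Finset.mem_singleton] at hα hβ
    rcases hα with rfl | rfl <;> rcases hβ with rfl | rfl
    · rw [FG.orthonormal _ _ (hP₁ φ hφ) (hP₁ χ hχ), if_neg d11]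
    · rw [classInner_neg_right, FG.orthonormal _ _ (hP₁ φ hφ) (hP₂ χ hχ), if_neg d12, neg_zero]
    · rw [classInner_neg_left, FG.orthonormal _ _ (hP₂ φ hφ) (hP₁ χ hχ), if_neg d21, neg_zero]
    · rw [classInner_neg_left, classInner_neg_right, FG.orthonormal _ _ (hP₂ φ hφ) (hP₂ χ hχ),
        if_neg d22, neg_zero, neg_zero]

end Cfsg.Agent.S1514
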