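import Cfsg.Statements.S1500
import Cfsg.Agent.Lib.Helper3.Dade
-- import your own Cfsg.Agent.* helpers here

set_option autoImplicit false
open Cfsg

namespace Cfsg.Agent.S1500

/-- Under the Dade hypothesis for (A, L, H), let α be a class function of L vanishing outside A. Then (i) for every class function β of L vanishing outside A, the inner product over G of the Dade images of α and β equals the inner product of α and β over L; and (ii) for every class function χ of G and every function ψ on L whose value at each a ∈ A is the average of χ over the coset a·H(a), the inner product over G of the Dade image of α with χ equals the inner product over L of α with ψ. -/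
theorem result {G : Type*} [Group G] [Fintype G] (A : Set G) (L : Subgroup G) [Fintype L] (H : G → Subgroup G) (hD : Cfsg.DadeHypothesis A L H) (α : L → ℂ) (hα : Cfsg.IsClassFunction L α) (hαA : ∀ x : L, (x : G) ∉ A → α x = 0) : (∀ β : L → ℂ, Cfsg.IsClassFunction L β → (∀ x : L, (x : G) ∉ A → β x = 0) → Cfsg.classInner (Cfsg.dadeIsometry A L H α) (Cfsg.dadeIsometry A L H β) = Cfsg.classInner α β) ∧ (∀ (χ : G → ℂ) (ψ : L → ℂ), Cfsg.IsClassFunction G χ → (∀ a : L, (a : G) ∈ A → ψ a = (Nat.card (H a) : ℂ)⁻¹ * ∑ᶠ u ∈ (H a : Set G), χ (a * u)) → Cfsg.classInner (Cfsg.dadeIsometry A L H α) χ = Cfsg.classInner α ψ) := by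

  classical
  have hconjcl : ∀ {f : G → ℂ}, Cfsg.IsClassFunction G f →
      Cfsg.IsClassFunction G (fun g => (starRingEnd ℂ) (f g)) := by
    intro f hf g h
    simp only
    rw [hf g h]
  have hL : (Nat.card L : ℂ) ≠ 0 := Cfsg.Agent.Lib.Helper3.card_ne_zero_complex
  have hG : (Nat.card G : ℂ) ≠ 0 := Cfsg.Agent.Lib.Helper3.card_ne_zero_complex
  -- general form
  have key : ∀ (Φ : G → ℂ), Cfsg.IsClassFunction G Φ →
      Cfsg.classInner (Cfsg.dadeIsometry A L H α) Φ =
        (Nat.card L : ℂ)⁻¹ * ∑ a : L, if (a : G) ∈ A then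
          α a * ((Nat.card (H (a : G)) : ℂ)⁻¹ *
            ∑ᶠ u ∈ (H (a : G) : Set G), (starRingEnd ℂ) (Φ ((a : G) * u))) else 0 := by
    intro Φ hΦ
    have h1 := Cfsg.Agent.Lib.Helper3.Dade.sum_dade_mul hD hα (hconjcl hΦ)
    unfold Cfsg.classInner
    rw [eq_comm, inv_mul_eq_iff_eq_mul₀ hL, ← mul_assoc, mul_comm (Nat.card L : ℂ), mul_assoc, h1,
      ← mul_assoc, inv_mul_cancel₀ hG, one_mul]
  constructor
  · intro β hβ hβA
    rw [key _ (Cfsg.Agent.Lib.Helper3.Dade.dade_isClassFunction hD hβ)]
    unfold Cfsg.classInner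
    congr 1
    refine Finset.sum_congr rfl fun a _ => ?_
    by_cases haA : (a : G) ∈ A
    · rw [if_pos haA]
      have h2 : ∑ᶠ u ∈ (H (a : G) : Set G),
          (starRingEnd ℂ) (Cfsg.dadeIsometry A L H β ((a : G) * u)) =
          ∑ᶠ u ∈ (H (a : G) : Set G), (starRingEnd ℂ) (β a) := by
        apply finsum_mem_congr rfl
        intro u hu
        rw [Cfsg.Agent.Lib.Helper3.Dade.dade_coset hD hβ a haA hu]
      have hfin : (H (a : G) : Set G).Finite := Set.toFinite _
      rw [h2, finsum_mem_eq_finite_toFinset_sum _ hfin, Finset.sum_const, nsmul_eq_mul]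
      have h3 : hfin.toFinset.card = Nat.card (H (a : G)) := by
        rw [← Nat.card_eq_card_finite_toFinset hfin]
        rfl
      rw [h3]
      have h4 : (Nat.card (H (a : G)) : ℂ) ≠ 0 := by
        have : 0 < Nat.card (H (a : G)) := Nat.card_pos
        exact_mod_cast this.ne'
      field_simp
    · rw [if_neg haA, hαA a haA, zero_mul]
  · intro χ ψ hχ hψ
    rw [key _ hχ]
    unfold Cfsg.classInner
    congr 1
    refine Finset.sum_congr rfl fun a _ => ?_
    by_cases haA : (a : G) ∈ A
    · rw [if_pos haA, hψ a haA, map_mul, map_inv₀, Complex.conj_natCast]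
      congr 2
      have hfin : (H (a : G) : Set G).Finite := Set.toFinite _
      rw [finsum_mem_eq_finite_toFinset_sum _ hfin, finsum_mem_eq_finite_toFinset_sum _ hfin,
        map_sum]
    · rw [if_neg haA, hαA a haA, zero_mul]

end Cfsg.Agent.S1500
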