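import Cfsg.Statements.S1504
import Cfsg.Agent.Lib.Helper25.LinChar

set_option autoImplicit false
open Cfsg

namespace Cfsg.Agent.S1504

open Cfsg.Agent.Lib.Helper25

/-- unique factorisation of characters `φ ψ` with `φ` trivial on `W₂` and `ψ` trivial on `W₁` -/
theorem factor_unique {G : Type*} [Group G] (W₁ W₂ : Subgroup G) (φ φ' ψ ψ' : ↥(W₁ ⊔ W₂) →* ℂˣ)
    (hφ : ∀ w : ↥(W₁ ⊔ W₂), (w : G) ∈ W₂ → φ w = 1) (hφ' : ∀ w : ↥(W₁ ⊔ W₂), (w : G) ∈ W₂ → φ' w = 1)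
    (hψ : ∀ w : ↥(W₁ ⊔ W₂), (w : G) ∈ W₁ → ψ w = 1) (hψ' : ∀ w : ↥(W₁ ⊔ W₂), (w : G) ∈ W₁ → ψ' w = 1)
    (h : φ * ψ = φ' * ψ') : φ = φ' ∧ ψ = ψ' := by
  constructor
  · apply hom_ext_sup W₁ W₂
    · intro w hw
      have := DFunLike.congr_fun h w
      simpa [hψ w hw, hψ' w hw] using this
    · intro w hw
      rw [hφ w hw, hφ' w hw]
  · apply hom_ext_sup W₁ W₂
    · intro w hw
      rw [hψ w hw, hψ' w hw]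
    · intro w hw
      have := DFunLike.congr_fun h w
      simpa [hφ w hw, hφ' w hw] using this

/-- Let W₁, W₂ be subgroups of a finite group with W₁ ⊓ W₂ = ⊥ whose elements commute, and W = W₁ ⊔ W₂. For linear characters φ, ψ of W with φ trivial on W₂ and ψ trivial on W₁, the function (1 − φ)(1 − ψ) vanishes on W₁ ∪ W₂; and the family of these functions, indexed by pairs (φ, ψ) with φ ≠ 1 ≠ ψ, is linearly independent over ℂ. -/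
theorem result {G : Type*} [Group G] [Finite G] (W₁ W₂ : Subgroup G) (hdisj : W₁ ⊓ W₂ = ⊥) (hcomm : ∀ a ∈ W₁, ∀ b ∈ W₂, a * b = b * a) : (∀ φ ψ : ↥(W₁ ⊔ W₂) →* ℂˣ, (∀ w : ↥(W₁ ⊔ W₂), (w : G) ∈ W₂ → φ w = 1) → (∀ w : ↥(W₁ ⊔ W₂), (w : G) ∈ W₁ → ψ w = 1) → ∀ w : ↥(W₁ ⊔ W₂), ((w : G) ∈ W₁ ∨ (w : G) ∈ W₂) → (1 - (φ w : ℂ) - (ψ w : ℂ) + (φ w : ℂ) * (ψ w : ℂ)) = 0) ∧ LinearIndependent ℂ (fun p : {p : (↥(W₁ ⊔ W₂) →* ℂˣ) × (↥(W₁ ⊔ W₂) →* ℂˣ) // p.1 ≠ 1 ∧ p.2 ≠ 1 ∧ (∀ w : ↥(W₁ ⊔ W₂), (w : G) ∈ W₂ → p.1 w = 1) ∧ (∀ w : ↥(W₁ ⊔ W₂), (w : G) ∈ W₁ → p.2 w = 1)} => fun w : ↥(W₁ ⊔ W₂) => 1 - (p.1.1 w : ℂ) - (p.1.2 w : ℂ) + (p.1.1 w : ℂ) * (p.1.2 w : ℂ)) := by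
  classical
  constructor
  · intro φ ψ hφ hψ w hw
    rcases hw with hw | hw
    · rw [hψ w hw]; simp
    · rw [hφ w hw]; simp
  · let _ : Fintype ↥(W₁ ⊔ W₂) := Fintype.ofFinite _
    rw [linearIndependent_iff']
    intro s c hsum i₀ hi₀
    obtain ⟨⟨φ₀, ψ₀⟩, hφ₀1, hψ₀1, hφ₀, hψ₀⟩ := i₀
    have htriv1 : ∀ w : ↥(W₁ ⊔ W₂), (w : G) ∈ W₂ → (1 : ↥(W₁ ⊔ W₂) →* ℂˣ) w = 1 := fun _ _ => rfl
    have htriv2 : ∀ w : ↥(W₁ ⊔ W₂), (w : G) ∈ W₁ → (1 : ↥(W₁ ⊔ W₂) →* ℂˣ) w = 1 := fun _ _ => rfl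
    -- the function attached to an index
    have hf : ∀ p : {p : (↥(W₁ ⊔ W₂) →* ℂˣ) × (↥(W₁ ⊔ W₂) →* ℂˣ) // p.1 ≠ 1 ∧ p.2 ≠ 1 ∧ (∀ w : ↥(W₁ ⊔ W₂), (w : G) ∈ W₂ → p.1 w = 1) ∧ (∀ w : ↥(W₁ ⊔ W₂), (w : G) ∈ W₁ → p.2 w = 1)},
        (fun w : ↥(W₁ ⊔ W₂) => 1 - (p.1.1 w : ℂ) - (p.1.2 w : ℂ) + (p.1.1 w : ℂ) * (p.1.2 w : ℂ))
          = linFun (1 : ↥(W₁ ⊔ W₂) →* ℂˣ) - linFun p.1.1 - linFun p.1.2 + linFun (p.1.1 * p.1.2) := by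
      intro p
      funext w
      simp [linFun]
    have hinner : ∀ p : {p : (↥(W₁ ⊔ W₂) →* ℂˣ) × (↥(W₁ ⊔ W₂) →* ℂˣ) // p.1 ≠ 1 ∧ p.2 ≠ 1 ∧ (∀ w : ↥(W₁ ⊔ W₂), (w : G) ∈ W₂ → p.1 w = 1) ∧ (∀ w : ↥(W₁ ⊔ W₂), (w : G) ∈ W₁ → p.2 w = 1)},
        Cfsg.classInner (fun w : ↥(W₁ ⊔ W₂) => 1 - (p.1.1 w : ℂ) - (p.1.2 w : ℂ) + (p.1.1 w : ℂ) * (p.1.2 w : ℂ))
          (linFun (φ₀ * ψ₀)) = if p.1 = (φ₀, ψ₀) then 1 else 0 := by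
      intro p
      obtain ⟨⟨φ, ψ⟩, hφ1, hψ1, hφ, hψ⟩ := p
      rw [hf]
      simp only
      rw [classInner_add_left, classInner_sub_left, classInner_sub_left, lin_orthonormal,
        lin_orthonormal, lin_orthonormal, lin_orthonormal]
      have e1 : ¬ (1 : ↥(W₁ ⊔ W₂) →* ℂˣ) = φ₀ * ψ₀ := by
        intro h
        have := factor_unique W₁ W₂ 1 φ₀ 1 ψ₀ htriv1 hφ₀ htriv2 hψ₀ (by rw [one_mul (1 : ↥(W₁ ⊔ W₂) →* ℂˣ)]; exact h)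
        exact hφ₀1 this.1.symm
      have e2 : ¬ φ = φ₀ * ψ₀ := by
        intro h
        have := factor_unique W₁ W₂ φ φ₀ 1 ψ₀ hφ hφ₀ htriv2 hψ₀ (by rw [mul_one φ]; exact h)
        exact hψ₀1 this.2.symm
      have e3 : ¬ ψ = φ₀ * ψ₀ := by
        intro h
        have := factor_unique W₁ W₂ 1 φ₀ ψ ψ₀ htriv1 hφ₀ hψ hψ₀ (by rw [one_mul ψ]; exact h)
        exact hφ₀1 this.1.symm
      rw [if_neg e1, if_neg e2, if_neg e3]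
      by_cases e4 : φ * ψ = φ₀ * ψ₀
      · have := factor_unique W₁ W₂ φ φ₀ ψ ψ₀ hφ hφ₀ hψ hψ₀ e4
        rw [if_pos e4, if_pos (by rw [this.1, this.2])]
        ring
      · rw [if_neg e4, if_neg]
        · ring
        · intro h
          apply e4
          have h1 : φ = φ₀ := congrArg Prod.fst h
          have h2 : ψ = ψ₀ := congrArg Prod.snd h
          rw [h1, h2]
    have h0 : Cfsg.classInner (∑ i ∈ s, c i • fun w : ↥(W₁ ⊔ W₂) => 1 - (i.1.1 w : ℂ) - (i.1.2 w : ℂ) + (i.1.1 w : ℂ) * (i.1.2 w : ℂ)) (linFun (φ₀ * ψ₀))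
        = Cfsg.classInner 0 (linFun (φ₀ * ψ₀)) := by rw [hsum]
    rw [classInner_sum_left, classInner_zero_left] at h0
    have h1 : ∀ i ∈ s, Cfsg.classInner (c i • (fun w : ↥(W₁ ⊔ W₂) => 1 - (i.1.1 w : ℂ) - (i.1.2 w : ℂ) + (i.1.1 w : ℂ) * (i.1.2 w : ℂ))) (linFun (φ₀ * ψ₀))
        = if i = ⟨(φ₀, ψ₀), hφ₀1, hψ₀1, hφ₀, hψ₀⟩ then c i else 0 := by
      intro i _
      rw [classInner_smul_left, hinner i]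
      by_cases e : i = ⟨(φ₀, ψ₀), hφ₀1, hψ₀1, hφ₀, hψ₀⟩
      · rw [if_pos e, if_pos (by rw [e]), mul_one]
      · rw [if_neg e, if_neg, mul_zero]
        intro h
        exact e (Subtype.ext h)
    rw [Finset.sum_congr rfl h1, Finset.sum_ite_eq' s, if_pos hi₀] at h0
    exact h0

end Cfsg.Agent.S1504
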