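import Cfsg.Statements.S1505
import Mathlib
import Cfsg.Agent.Lib.Helper25.LinChar
import Cfsg.Agent.Lib.Helper25.Induced
import Cfsg.Agent.Lib.Helper3.Induction
import Cfsg.Agent.S1504

set_option autoImplicit false
open Cfsg

namespace Cfsg.Agent.S1505

open Cfsg.Agent.Lib.Helper25

/-- In a finite cyclic group, the subgroup of order `n` consists of all solutions of `x ^ n = 1`. -/
theorem mem_of_pow_card_eq_one {C : Type*} [Group C] [Finite C] [IsCyclic C] (D : Subgroup C)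
    (x : C) (hx : x ^ Nat.card D = 1) : x ∈ D := by
  classical
  have : Fintype C := Fintype.ofFinite C
  set n := Nat.card D with hn
  have hn0 : 0 < n := Nat.card_pos
  have key : (D : Set C) = {x | x ^ n = 1} := by
    apply Set.eq_of_subset_of_ncard_le
    · intro y hy
      show y ^ n = 1
      have h1 : (⟨y, hy⟩ : ↥D) ^ Nat.card ↥D = 1 := pow_card_eq_one'
      exact congrArg Subtype.val h1
    · have h2 := IsCyclic.card_pow_eq_one_le (α := C) hn0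
      have h3 : ({x : C | x ^ n = 1} : Set C).ncard
          = (Finset.univ.filter (fun a : C => a ^ n = 1)).card := by
        rw [← Set.ncard_coe_finset]
        congr 1
        ext x
        simp
      rw [h3]
      refine h2.trans ?_
      exact (Nat.card_coe_set_eq _).le
    · exact Set.toFinite _
  have : x ∈ (D : Set C) := by rw [key]; exact hx
  exact this

/-- transport of helper3's TI induction isometry along `normalizer T = N` -/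
theorem classInner_indFun_TI' {G : Type*} [Group G] [Fintype G] (T : Set G) (N : Subgroup G)
    (hN : Subgroup.normalizer T = N)
    (hTI : ∀ g : G, g ∉ N → ∀ t ∈ T, g * t * g⁻¹ ∈ T → t = 1)
    [Fintype N] (ψ θ : N → ℂ) (hθ : Cfsg.IsClassFunction N θ)
    (hψT : ∀ x : N, (x : G) ∉ T → ψ x = 0)
    (hθT : ∀ x : N, (x : G) ∉ T → θ x = 0) (hψ1 : ψ 1 = 0) :
    Cfsg.classInner (Cfsg.indFun N ψ) (Cfsg.indFun N θ) = Cfsg.classInner ψ θ := by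
  subst hN
  exact Cfsg.Agent.Lib.Helper3.classInner_indFun_TI T hTI ψ θ hθ hψT hθT hψ1

section

variable {G : Type*} [Group G]

/-- the product of nontrivial elements of `W₁` and `W₂` lies outside `W₁ ∪ W₂` -/
theorem mul_not_mem (W₁ W₂ : Subgroup G) (hinf : W₁ ⊓ W₂ = ⊥) {a b : G} (ha : a ∈ W₁) (ha1 : a ≠ 1)
    (hb : b ∈ W₂) (hb1 : b ≠ 1) : a * b ∉ W₁ ∧ a * b ∉ W₂ := by
  constructor
  · intro h
    have hb' : b ∈ W₁ := by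
      have := W₁.mul_mem (W₁.inv_mem ha) h
      rwa [inv_mul_cancel_left] at this
    have : b ∈ W₁ ⊓ W₂ := ⟨hb', hb⟩
    rw [hinf, Subgroup.mem_bot] at this
    exact hb1 this
  · intro h
    have ha' : a ∈ W₂ := by
      have := W₂.mul_mem h (W₂.inv_mem hb)
      rwa [mul_inv_cancel_right] at this
    have : a ∈ W₁ ⊓ W₂ := ⟨ha, ha'⟩
    rw [hinf, Subgroup.mem_bot] at this
    exact ha1 this

/-- The set `W ∖ (W₁ ∪ W₂)` is a TI-set with normalizer `W`. -/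
theorem ti_property [Finite G] (W₁ W₂ : Subgroup G) (hW : Cfsg.IsSelfNormalizingCyclic W₁ W₂) :
    Subgroup.normalizer ((↑(W₁ ⊔ W₂) : Set G) \ (↑W₁ ∪ ↑W₂)) = W₁ ⊔ W₂ ∧
    ∀ g : G, g ∉ W₁ ⊔ W₂ → ∀ t ∈ (↑(W₁ ⊔ W₂) : Set G) \ (↑W₁ ∪ ↑W₂),
      g * t * g⁻¹ ∈ (↑(W₁ ⊔ W₂) : Set G) \ (↑W₁ ∪ ↑W₂) → t = 1 := by
  obtain ⟨hW₁, hW₂, hinf, -, hcyc, hnorm⟩ := hW
  set A : Set G := (↑(W₁ ⊔ W₂) : Set G) \ (↑W₁ ∪ ↑W₂) with hA
  obtain ⟨⟨a₀, ha₀⟩, ha₀1'⟩ := (Subgroup.ne_bot_iff_exists_ne_one.mp hW₁)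
  obtain ⟨⟨b₀, hb₀⟩, hb₀1'⟩ := (Subgroup.ne_bot_iff_exists_ne_one.mp hW₂)
  have ha₀1 : a₀ ≠ 1 := fun h => ha₀1' (Subtype.ext h)
  have hb₀1 : b₀ ≠ 1 := fun h => hb₀1' (Subtype.ext h)
  have hAne : A.Nonempty := by
    refine ⟨a₀ * b₀, ?_, ?_⟩
    · exact mul_mem (Subgroup.mem_sup_left ha₀) (Subgroup.mem_sup_right hb₀)
    · have := mul_not_mem W₁ W₂ hinf ha₀ ha₀1 hb₀ hb₀1
      rintro (h | h)
      · exact this.1 h
      · exact this.2 h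
  have hNA : Subgroup.normalizer A = W₁ ⊔ W₂ := hnorm A subset_rfl hAne
  refine ⟨hNA, ?_⟩
  intro g hg t ht hs
  exfalso
  apply hg
  set s := g * t * g⁻¹ with hs_def
  have hNt : Subgroup.normalizer ({t} : Set G) = W₁ ⊔ W₂ :=
    hnorm {t} (Set.singleton_subset_iff.mpr ht) (Set.singleton_nonempty t)
  have hNs : Subgroup.normalizer ({s} : Set G) = W₁ ⊔ W₂ :=
    hnorm {s} (Set.singleton_subset_iff.mpr hs) (Set.singleton_nonempty s)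
  have hcomm_of_mem : ∀ (u w : G), Subgroup.normalizer ({u} : Set G) = W₁ ⊔ W₂ → w ∈ W₁ ⊔ W₂ →
      w * u * w⁻¹ = u := by
    intro u w hNu hw
    rw [← hNu, Subgroup.mem_set_normalizer_iff] at hw
    have := (hw u).mp rfl
    exact this
  have hmem_of_comm : ∀ (u w : G), Subgroup.normalizer ({u} : Set G) = W₁ ⊔ W₂ → w * u * w⁻¹ = u →
      w ∈ W₁ ⊔ W₂ := by
    intro u w hNu hw
    rw [← hNu, Subgroup.mem_set_normalizer_iff]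
    intro x
    simp only [Set.mem_singleton_iff]
    constructor
    · rintro rfl
      exact hw
    · intro hx
      have : x = w⁻¹ * u * w := by rw [← hx]; group
      rw [this]
      have h2 : w⁻¹ * u * w = w⁻¹ * (w * u * w⁻¹) * w := by rw [hw]
      rw [h2]
      group
  -- g normalizes W
  have hgW : ∀ w ∈ W₁ ⊔ W₂, g * w * g⁻¹ ∈ W₁ ⊔ W₂ := by
    intro w hw
    apply hmem_of_comm s _ hNs
    have h1 := hcomm_of_mem t w hNt hw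
    rw [hs_def]
    have : g * w * g⁻¹ * (g * t * g⁻¹) * (g * w * g⁻¹)⁻¹ = g * (w * t * w⁻¹) * g⁻¹ := by group
    rw [this, h1]
  have hgW' : ∀ w ∈ W₁ ⊔ W₂, g⁻¹ * w * g ∈ W₁ ⊔ W₂ := by
    intro w hw
    apply hmem_of_comm t _ hNt
    have h1 := hcomm_of_mem s w hNs hw
    have ht' : t = g⁻¹ * s * g := by rw [hs_def]; group
    have : g⁻¹ * w * g * t * (g⁻¹ * w * g)⁻¹ = g⁻¹ * (w * (g * t * g⁻¹) * w⁻¹) * g := by group
    rw [this, ← hs_def, h1, ← ht']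
  -- characterization of W₁, W₂ inside the cyclic group W
  have hchar : ∀ (V : Subgroup G), V ≤ W₁ ⊔ W₂ → ∀ x ∈ W₁ ⊔ W₂, x ^ Nat.card V = 1 → x ∈ V := by
    intro V hV x hx hxp
    have hcard : Nat.card (V.subgroupOf (W₁ ⊔ W₂)) = Nat.card V :=
      Nat.card_congr (Subgroup.subgroupOfEquivOfLe hV).toEquiv
    have h1 : (⟨x, hx⟩ : ↥(W₁ ⊔ W₂)) ∈ V.subgroupOf (W₁ ⊔ W₂) := by
      apply mem_of_pow_card_eq_one
      rw [hcard]
      apply Subtype.ext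
      simpa using hxp
    exact Subgroup.mem_subgroupOf.mp h1
  have hpowV : ∀ (V : Subgroup G), ∀ x ∈ V, x ^ Nat.card V = 1 := by
    intro V x hx
    have h0 : (⟨x, hx⟩ : V) ^ Nat.card V = 1 := pow_card_eq_one'
    have h1 := congrArg Subtype.val h0
    rw [Subgroup.coe_pow] at h1
    exact h1
  -- conjugation by g and g⁻¹ preserves A
  have hconjA : ∀ (h : G), (∀ w ∈ W₁ ⊔ W₂, h * w * h⁻¹ ∈ W₁ ⊔ W₂) → ∀ x ∈ A, h * x * h⁻¹ ∈ A := by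
    intro h hh x hx
    refine ⟨hh x hx.1, ?_⟩
    rintro (h1 | h1)
    · apply hx.2
      left
      apply hchar W₁ le_sup_left x hx.1
      have h2 := hpowV W₁ _ h1
      rw [conj_pow] at h2
      have : x ^ Nat.card W₁ = h⁻¹ * (h * x ^ Nat.card W₁ * h⁻¹) * h := by group
      rw [this, h2]
      group
    · apply hx.2
      right
      apply hchar W₂ le_sup_right x hx.1
      have h2 := hpowV W₂ _ h1
      rw [conj_pow] at h2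
      have : x ^ Nat.card W₂ = h⁻¹ * (h * x ^ Nat.card W₂ * h⁻¹) * h := by group
      rw [this, h2]
      group
  rw [← hNA, Subgroup.mem_set_normalizer_iff]
  intro x
  constructor
  · exact hconjA g hgW x
  · intro hx
    have := hconjA g⁻¹ (by intro w hw; rw [inv_inv]; exact hgW' w hw) _ hx
    have e : g⁻¹ * (g * x * g⁻¹) * g⁻¹⁻¹ = x := by group
    rwa [e] at this

end

open Classical in
/-- Let W₁, W₂ ≤ G form a self-normalising cyclic subgroup W = W₁ ⊔ W₂. For nontrivial linear characters φ, φ' of W trivial on W₂ and ψ, ψ' trivial on W₁, put α = (1 − φ)(1 − ψ) and α' = (1 − φ')(1 − ψ'). Then the function induced from α to G has inner product 1 with the principal character, and the inner product of the functions induced from α and α' is 1 + a + b + ab where a = 1 if φ = φ' (else 0) and b = 1 if ψ = ψ' (else 0). -/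
theorem result {G : Type*} [Group G] [Fintype G] (W₁ W₂ : Subgroup G) (hW : Cfsg.IsSelfNormalizingCyclic W₁ W₂) (φ φ' ψ ψ' : ↥(W₁ ⊔ W₂) →* ℂˣ) (hφ : φ ≠ 1) (hφ' : φ' ≠ 1) (hψ : ψ ≠ 1) (hψ' : ψ' ≠ 1) (hφ₂ : ∀ w : ↥(W₁ ⊔ W₂), (w : G) ∈ W₂ → φ w = 1 ∧ φ' w = 1) (hψ₁ : ∀ w : ↥(W₁ ⊔ W₂), (w : G) ∈ W₁ → ψ w = 1 ∧ ψ' w = 1) : Cfsg.classInner (Cfsg.indFun (W₁ ⊔ W₂) (fun w => 1 - (φ w : ℂ) - (ψ w : ℂ) + (φ w : ℂ) * (ψ w : ℂ))) (fun _ => 1) = 1 ∧ Cfsg.classInner (Cfsg.indFun (W₁ ⊔ W₂) (fun w => 1 - (φ w : ℂ) - (ψ w : ℂ) + (φ w : ℂ) * (ψ w : ℂ))) (Cfsg.indFun (W₁ ⊔ W₂) (fun w => 1 - (φ' w : ℂ) - (ψ' w : ℂ) + (φ' w : ℂ) * (ψ' w : ℂ))) = 1 + (if φ = φ' then 1 else 0) + (if ψ = ψ' then 1 else 0) + (if φ = φ' then 1 else 0) * (if ψ = ψ' then 1 else 0) := by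
  have hFW : Fintype ↥(W₁ ⊔ W₂) := Fintype.ofFinite _
  obtain ⟨hNA, hTI⟩ := ti_property W₁ W₂ hW
  obtain ⟨hW₁, hW₂, hinf, hcomm, hcyc, hnorm⟩ := hW
  -- W is commutative
  have hWcomm : ∀ a b : ↥(W₁ ⊔ W₂), a * b = b * a := by
    intro a b
    obtain ⟨g, hg⟩ := hcyc.exists_generator
    obtain ⟨m, rfl⟩ := hg a
    obtain ⟨n, rfl⟩ := hg b
    exact zpow_mul_comm g m n
  have hcf : ∀ f : ↥(W₁ ⊔ W₂) → ℂ, Cfsg.IsClassFunction ↥(W₁ ⊔ W₂) f := by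
    intro f g h
    rw [hWcomm h g, mul_inv_cancel_right]
  have hone₂ : ∀ w : ↥(W₁ ⊔ W₂), (w : G) ∈ W₂ → (1 : ↥(W₁ ⊔ W₂) →* ℂˣ) w = 1 := fun _ _ => rfl
  have hone₁ : ∀ w : ↥(W₁ ⊔ W₂), (w : G) ∈ W₁ → (1 : ↥(W₁ ⊔ W₂) →* ℂˣ) w = 1 := fun _ _ => rfl
  have hprod : ∀ (a a' b b' : ↥(W₁ ⊔ W₂) →* ℂˣ),
      (∀ w : ↥(W₁ ⊔ W₂), (w : G) ∈ W₂ → a w = 1) → (∀ w : ↥(W₁ ⊔ W₂), (w : G) ∈ W₂ → a' w = 1) →
      (∀ w : ↥(W₁ ⊔ W₂), (w : G) ∈ W₁ → b w = 1) → (∀ w : ↥(W₁ ⊔ W₂), (w : G) ∈ W₁ → b' w = 1) →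
      Cfsg.classInner (linFun (a * b)) (linFun (a' * b'))
        = (if a = a' then (1 : ℂ) else 0) * (if b = b' then (1 : ℂ) else 0) := by
    intro a a' b b' ha ha' hb hb'
    rw [lin_orthonormal]
    by_cases h : a * b = a' * b'
    · obtain ⟨h1, h2⟩ := S1504.factor_unique W₁ W₂ a a' b b' ha ha' hb hb' h
      rw [if_pos h, if_pos h1, if_pos h2, one_mul]
    · rw [if_neg h]
      by_cases h1 : a = a'
      · by_cases h2 : b = b'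
        · exact absurd (by rw [h1, h2]) h
        · rw [if_neg h2, mul_zero]
      · rw [if_neg h1, zero_mul]
  have hα : ∀ (a b : ↥(W₁ ⊔ W₂) →* ℂˣ),
      (fun w : ↥(W₁ ⊔ W₂) => 1 - (a w : ℂ) - (b w : ℂ) + (a w : ℂ) * (b w : ℂ))
        = linFun (1 * 1) - linFun (a * 1) - linFun (1 * b) + linFun (a * b) := by
    intro a b
    funext w
    simp [linFun]
  have hvan : ∀ (a b : ↥(W₁ ⊔ W₂) →* ℂˣ), (∀ w : ↥(W₁ ⊔ W₂), (w : G) ∈ W₂ → a w = 1) →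
      (∀ w : ↥(W₁ ⊔ W₂), (w : G) ∈ W₁ → b w = 1) →
      ∀ x : ↥(W₁ ⊔ W₂), (x : G) ∉ (↑(W₁ ⊔ W₂) : Set G) \ (↑W₁ ∪ ↑W₂) →
        (1 - (a x : ℂ) - (b x : ℂ) + (a x : ℂ) * (b x : ℂ)) = 0 := by
    intro a b ha hb x hx
    have : (x : G) ∈ W₁ ∨ (x : G) ∈ W₂ := by
      by_contra hcon
      apply hx
      refine ⟨x.2, ?_⟩
      rintro (h | h)
      · exact hcon (Or.inl h)
      · exact hcon (Or.inr h)
    rcases this with h | h
    · rw [hb x h]; simp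
    · rw [ha x h]; simp
  have hφ₂a : ∀ w : ↥(W₁ ⊔ W₂), (w : G) ∈ W₂ → φ w = 1 := fun w hw => (hφ₂ w hw).1
  have hφ₂b : ∀ w : ↥(W₁ ⊔ W₂), (w : G) ∈ W₂ → φ' w = 1 := fun w hw => (hφ₂ w hw).2
  have hψ₁a : ∀ w : ↥(W₁ ⊔ W₂), (w : G) ∈ W₁ → ψ w = 1 := fun w hw => (hψ₁ w hw).1
  have hψ₁b : ∀ w : ↥(W₁ ⊔ W₂), (w : G) ∈ W₁ → ψ' w = 1 := fun w hw => (hψ₁ w hw).2
  constructor
  · rw [frobenius_reciprocity _ _ _ (fun _ _ => rfl)]
    have h1 : (fun h : ↥(W₁ ⊔ W₂) => (fun _ : G => (1 : ℂ)) h)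
        = linFun ((1 : ↥(W₁ ⊔ W₂) →* ℂˣ) * 1) := by
      funext w; simp [linFun]
    rw [h1, hα, classInner_add_left, classInner_sub_left, classInner_sub_left,
      hprod 1 1 1 1 hone₂ hone₂ hone₁ hone₁, hprod φ 1 1 1 hφ₂a hone₂ hone₁ hone₁,
      hprod 1 1 ψ 1 hone₂ hone₂ hψ₁a hone₁, hprod φ 1 ψ 1 hφ₂a hone₂ hψ₁a hone₁]
    simp [hφ, hψ]
  · have hone1 : (1 : ↥(W₁ ⊔ W₂)) = 1 := rfl
    rw [classInner_indFun_TI' _ (W₁ ⊔ W₂) hNA hTI _ _ (hcf _) (hvan φ ψ hφ₂a hψ₁a)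
      (hvan φ' ψ' hφ₂b hψ₁b) (by simp)]
    rw [hα, hα]
    simp only [classInner_add_left, classInner_sub_left, classInner_add_right,
      classInner_sub_right]
    rw [hprod 1 1 1 1 hone₂ hone₂ hone₁ hone₁, hprod 1 φ' 1 1 hone₂ hφ₂b hone₁ hone₁,
      hprod 1 1 1 ψ' hone₂ hone₂ hone₁ hψ₁b, hprod 1 φ' 1 ψ' hone₂ hφ₂b hone₁ hψ₁b,
      hprod φ 1 1 1 hφ₂a hone₂ hone₁ hone₁, hprod φ φ' 1 1 hφ₂a hφ₂b hone₁ hone₁,
      hprod φ 1 1 ψ' hφ₂a hone₂ hone₁ hψ₁b, hprod φ φ' 1 ψ' hφ₂a hφ₂b hone₁ hψ₁b,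
      hprod 1 1 ψ 1 hone₂ hone₂ hψ₁a hone₁, hprod 1 φ' ψ 1 hone₂ hφ₂b hψ₁a hone₁,
      hprod 1 1 ψ ψ' hone₂ hone₂ hψ₁a hψ₁b, hprod 1 φ' ψ ψ' hone₂ hφ₂b hψ₁a hψ₁b,
      hprod φ 1 ψ 1 hφ₂a hone₂ hψ₁a hone₁, hprod φ φ' ψ 1 hφ₂a hφ₂b hψ₁a hone₁,
      hprod φ 1 ψ ψ' hφ₂a hone₂ hψ₁a hψ₁b, hprod φ φ' ψ ψ' hφ₂a hφ₂b hψ₁a hψ₁b]
    simp only [if_true, if_neg hφ, if_neg hψ, if_neg hφ'.symm, if_neg hψ'.symm]
    ring_nf

end Cfsg.Agent.S1505
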