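import Cfsg.Statements.S1511
import Mathlib
import Cfsg.Agent.Lib.Helper75.Clifford
import Cfsg.Agent.Lib.Helper75.IndNormal
import Cfsg.Agent.Lib.Helper3.Induction
import Cfsg.Agent.Lib.Helper78.CharOrtho
import Cfsg.Agent.Lib.Helper80.CharBasic
import Cfsg.Agent.Lib.Helper26.IrrFactsInst
import Cfsg.Agent.Lib.Helper25.LinChar
import Cfsg.Agent.Lib.Helper25.Dual
import Cfsg.Agent.Lib.Helper25.Dual2
import Cfsg.Agent.S0148
import Cfsg.Agent.S1514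
import Cfsg.Agent.S1505

set_option autoImplicit false
open Cfsg

namespace Cfsg.Agent.S1511

open Cfsg.Agent.Lib.Helper26 Cfsg.Agent.Lib.Helper25
open scoped ComplexConjugate

/-- a purely combinatorial lemma on families of pairs -/
theorem pairs_lemma {T X : Type*} (p n : T → X)
    (h : ∀ k l, k ≠ l → (p k = p l ∨ n k = n l)) :
    (∀ k l, p k = p l) ∨ (∀ k l, n k = n l) := by
  by_cases hp : ∀ k l, p k = p l
  · left; exact hp
  · right
    push Not at hp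
    obtain ⟨k, l, hkl⟩ := hp
    have hkl' : k ≠ l := fun h => hkl (by rw [h])
    have hn : n k = n l := (h k l hkl').resolve_left hkl
    have key : ∀ m, n m = n k := by
      intro m
      by_cases hmk : m = k
      · rw [hmk]
      by_cases hml : m = l
      · rw [hml, hn]
      rcases h m k hmk with h1 | h1
      · rcases h m l hml with h2 | h2
        · exact absurd (h1.symm.trans h2) hkl
        · rw [h2, hn]
      · exact h1
    intro a b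
    rw [key a, key b]

open Classical in
theorem inner_diff {G : Type*} [Group G] [Fintype G] (F : IrrFacts G) {a b c d : G → ℂ}
    (ha : Cfsg.IsIrrCharacter G a) (hb : Cfsg.IsIrrCharacter G b)
    (hc : Cfsg.IsIrrCharacter G c) (hd : Cfsg.IsIrrCharacter G d) :
    Cfsg.classInner (a - b) (c - d) = (if a = c then 1 else 0) - (if a = d then 1 else 0)
      - (if b = c then 1 else 0) + (if b = d then 1 else 0) := by
  rw [Lib.Helper26.classInner_sub_left, Lib.Helper26.classInner_sub_right, Lib.Helper26.classInner_sub_right,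
    F.orthonormal _ _ ha hc, F.orthonormal _ _ ha hd, F.orthonormal _ _ hb hc,
    F.orthonormal _ _ hb hd]
  ring

/-- coherence for a family of "differences" of norm two -/
theorem coherent_diff {G : Type*} [Group G] [Fintype G] {I : Type*} (D : I → I → (G → ℂ))
    (hgen : ∀ i j, Cfsg.IsGeneralizedCharacter G (D i j))
    (h1 : ∀ i j, D i j 1 = 0)
    (hadd : ∀ i j k, D i j + D j k = D i k)
    (hnorm : ∀ i j, i ≠ j → Cfsg.classInner (D i j) (D i j) = 2)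
    (hinner : ∀ i j k, i ≠ j → i ≠ k → j ≠ k → Cfsg.classInner (D i j) (D i k) = 1)
    (hI : ∀ i : I, ∃ j, j ≠ i) :
    ∃ (ε : ℂ) (χ : I → G → ℂ), (ε = 1 ∨ ε = -1) ∧ (∀ i, Cfsg.IsIrrCharacter G (χ i)) ∧
      Function.Injective χ ∧ ∀ i j, D i j = ε • (χ i - χ j) := by
  classical
  have F := irrFacts G
  by_cases hne : Nonempty I
  swap
  · exact ⟨1, fun i => (hne ⟨i⟩).elim, Or.inl rfl, fun i => (hne ⟨i⟩).elim,
      fun i => (hne ⟨i⟩).elim, fun i => (hne ⟨i⟩).elim⟩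
  obtain ⟨i₀⟩ := hne
  have hDii : ∀ i, D i i = 0 := by
    intro i
    have := hadd i i i
    exact add_eq_right.mp this
  have hDji : ∀ i j, D j i = - D i j := by
    intro i j
    have := hadd i j i
    rw [hDii] at this
    exact (neg_eq_of_add_eq_zero_right this).symm
  -- decompositions
  have hdec : ∀ k : {k : I // k ≠ i₀}, ∃ p n : G → ℂ, Cfsg.IsIrrCharacter G p ∧
      Cfsg.IsIrrCharacter G n ∧ p ≠ n ∧ D i₀ k.1 = p - n := by
    intro k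
    exact Cfsg.Agent.S1514.norm_two (D i₀ k.1) (hgen _ _) (hnorm i₀ k.1 k.2.symm) (h1 _ _)
  choose p n hp hn hpn hD using hdec
  have hpairs : ∀ k l, k ≠ l → (p k = p l ∨ n k = n l) := by
    intro k l hkl
    have hkl' : k.1 ≠ l.1 := fun h => hkl (Subtype.ext h)
    have h2 := hinner i₀ k.1 l.1 k.2.symm l.2.symm hkl'
    rw [hD k, hD l, inner_diff F (hp k) (hn k) (hp l) (hn l)] at h2
    by_contra hcon
    push Not at hcon
    rw [if_neg hcon.1, if_neg hcon.2] at h2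
    by_cases e1 : p k = n l <;> by_cases e2 : n k = p l
    · rw [if_pos e1, if_pos e2] at h2; norm_num at h2
    · rw [if_pos e1, if_neg e2] at h2; norm_num at h2
    · rw [if_neg e1, if_pos e2] at h2; norm_num at h2
    · rw [if_neg e1, if_neg e2] at h2; norm_num at h2
  obtain ⟨j₀, hj₀⟩ := hI i₀
  -- the key claim
  have hkey : ∃ (ε : ℂ) (ψ : G → ℂ) (χ' : {k : I // k ≠ i₀} → G → ℂ), (ε = 1 ∨ ε = -1) ∧
      Cfsg.IsIrrCharacter G ψ ∧ (∀ k, Cfsg.IsIrrCharacter G (χ' k)) ∧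
      ∀ k : {k : I // k ≠ i₀}, D i₀ k.1 = ε • (ψ - χ' k) := by
    rcases pairs_lemma p n hpairs with hP | hN
    · refine ⟨1, p ⟨j₀, hj₀⟩, n, Or.inl rfl, hp _, hn, ?_⟩
      intro k
      rw [one_smul, hD k, hP k ⟨j₀, hj₀⟩]
    · refine ⟨-1, n ⟨j₀, hj₀⟩, p, Or.inr rfl, hn _, hp, ?_⟩
      intro k
      rw [hD k, hN k ⟨j₀, hj₀⟩, neg_one_smul, neg_sub]
  obtain ⟨ε, ψ, χ', hε, hψ, hχ', hDχ⟩ := hkey
  let χ : I → G → ℂ := fun i => if h : i = i₀ then ψ else χ' ⟨i, h⟩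
  have hχi₀ : χ i₀ = ψ := dif_pos rfl
  have hχk : ∀ (k : I) (h : k ≠ i₀), χ k = χ' ⟨k, h⟩ := fun k h => dif_neg h
  have hD0 : ∀ k, D i₀ k = ε • (χ i₀ - χ k) := by
    intro k
    by_cases hk : k = i₀
    · rw [hk, hDii, sub_self, smul_zero]
    · rw [hχi₀, hχk k hk]
      exact hDχ ⟨k, hk⟩
  have hDall : ∀ i j, D i j = ε • (χ i - χ j) := by
    intro i j
    rw [← hadd i i₀ j, hDji i₀ i, hD0 i, hD0 j, ← smul_neg, ← smul_add]
    congr 1
    abel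
  refine ⟨ε, χ, hε, ?_, ?_, hDall⟩
  · intro i
    by_cases hi : i = i₀
    · rw [hi, hχi₀]; exact hψ
    · rw [hχk i hi]; exact hχ' _
  · intro i j hij
    by_contra hne
    have h2 := hnorm i j hne
    rw [hDall i j, hij, sub_self, smul_zero, Lib.Helper26.classInner_zero_left] at h2
    norm_num at h2

section Struct

variable {L : Type*} [Group L] [Fintype L] (K W₁ W₂ : Subgroup L) [hK : K.Normal]

theorem struct (hKW₁ : K ⊓ W₁ = ⊥) (hKW₁' : K ⊔ W₁ = ⊤) (hW₁ : W₁ ≠ ⊥) (hW₁c : IsCyclic W₁)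
    (hHall : Nat.Coprime (Nat.card W₁) W₁.index) (hW₂c : IsCyclic W₂) (hW₂K : W₂ ≤ K)
    (hC : ∀ x ∈ W₁, x ≠ 1 → K ⊓ Subgroup.centralizer ({x} : Set L) = W₂) :
    (∀ a ∈ W₁ ⊔ W₂, ∀ b ∈ W₁ ⊔ W₂, a * b = b * a) ∧
    (∀ x ∈ W₁ ⊔ W₂, x ∉ W₂ → ∀ g : L, g * x * g⁻¹ ∈ W₁ ⊔ W₂ → g ∈ W₁ ⊔ W₂) ∧
    (∀ x ∈ W₁, x ≠ 1 → x ∉ W₂) := by
  classical
  have hcompl : Subgroup.IsComplement' K W₁ := by
    apply Subgroup.isComplement'_of_disjoint_and_mul_eq_univ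
    · rw [disjoint_iff]; exact hKW₁
    · rw [← Subgroup.normal_mul, hKW₁']; rfl
  have hidxW : W₁.index = Nat.card K := hcompl.index_eq_card
  have hcop : Nat.Coprime (Nat.card W₁) (Nat.card K) := by rw [← hidxW]; exact hHall
  have hdecomp : ∀ l : L, ∃ k ∈ K, ∃ y ∈ W₁, k * y = l := by
    intro l
    have hl : l ∈ (↑(K ⊔ W₁) : Set L) := by rw [hKW₁']; trivial
    rw [Subgroup.normal_mul] at hl
    obtain ⟨k, hk, y, hy, rfl⟩ := Set.mem_mul.mp hl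
    exact ⟨k, hk, y, hy, rfl⟩
  have hW₁comm : ∀ a ∈ W₁, ∀ b ∈ W₁, a * b = b * a := by
    intro a ha b hb
    obtain ⟨g, hg⟩ := hW₁c.exists_generator
    obtain ⟨m, hm⟩ := hg ⟨a, ha⟩
    obtain ⟨n, hn⟩ := hg ⟨b, hb⟩
    have h1 : (⟨a, ha⟩ : W₁) * ⟨b, hb⟩ = ⟨b, hb⟩ * ⟨a, ha⟩ := by
      rw [← hm, ← hn]; exact zpow_mul_comm g m n
    exact congrArg Subtype.val h1
  have hW₂comm : ∀ a ∈ W₂, ∀ b ∈ W₂, a * b = b * a := by
    intro a ha b hb
    obtain ⟨g, hg⟩ := hW₂c.exists_generator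
    obtain ⟨m, hm⟩ := hg ⟨a, ha⟩
    obtain ⟨n, hn⟩ := hg ⟨b, hb⟩
    have h1 : (⟨a, ha⟩ : W₂) * ⟨b, hb⟩ = ⟨b, hb⟩ * ⟨a, ha⟩ := by
      rw [← hm, ← hn]; exact zpow_mul_comm g m n
    exact congrArg Subtype.val h1
  have hcent : ∀ w ∈ W₂, ∀ y ∈ W₁, y * w = w * y := by
    intro w hw y hy
    by_cases hy1 : y = 1
    · rw [hy1, one_mul, mul_one]
    · have h1 : w ∈ K ⊓ Subgroup.centralizer ({y} : Set L) := by rw [hC y hy hy1]; exact hw
      exact Subgroup.mem_centralizer_iff.mp h1.2 y rfl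
  obtain ⟨x₀, hx₀, hx₀1⟩ : ∃ x₀ ∈ W₁, x₀ ≠ 1 := by
    obtain ⟨⟨x, hx⟩, hne⟩ := Subgroup.ne_bot_iff_exists_ne_one.mp hW₁
    exact ⟨x, hx, fun h => hne (Subtype.ext h)⟩
  -- W is abelian
  have hstep1 : W₁ ⊔ W₂ ≤ Subgroup.centralizer ((W₁ : Set L) ∪ (W₂ : Set L)) := by
    apply sup_le
    · intro a ha
      rw [Subgroup.mem_centralizer_iff]
      rintro z (hz | hz)
      · exact hW₁comm z hz a ha
      · exact (hcent z hz a ha).symm
    · intro a ha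
      rw [Subgroup.mem_centralizer_iff]
      rintro z (hz | hz)
      · exact hcent a ha z hz
      · exact hW₂comm z hz a ha
  have hab : ∀ a ∈ W₁ ⊔ W₂, ∀ b ∈ W₁ ⊔ W₂, a * b = b * a := by
    intro a ha b hb
    have h1 : W₁ ⊔ W₂ ≤ Subgroup.centralizer ({a} : Set L) := by
      apply sup_le
      · intro z hz
        rw [Subgroup.mem_centralizer_iff]
        intro h hh
        rw [Set.mem_singleton_iff] at hh
        rw [hh]
        exact (Subgroup.mem_centralizer_iff.mp (hstep1 ha) z (Or.inl hz)).symm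
      · intro z hz
        rw [Subgroup.mem_centralizer_iff]
        intro h hh
        rw [Set.mem_singleton_iff] at hh
        rw [hh]
        exact (Subgroup.mem_centralizer_iff.mp (hstep1 ha) z (Or.inr hz)).symm
    exact Subgroup.mem_centralizer_iff.mp (h1 hb) a rfl
  -- decomposition of the elements of W
  have hWdec : ∀ x ∈ W₁ ⊔ W₂, ∃ k ∈ W₂, ∃ y ∈ W₁, k * y = x := by
    intro x hx
    obtain ⟨k, hk, y, hy, hky⟩ := hdecomp x
    refine ⟨k, ?_, y, hy, hky⟩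
    have hkW : k ∈ W₁ ⊔ W₂ := by
      have : k = x * y⁻¹ := by rw [← hky]; group
      rw [this]
      exact mul_mem hx (inv_mem (Subgroup.mem_sup_left hy))
    rw [← hC x₀ hx₀ hx₀1]
    refine ⟨hk, ?_⟩
    show k ∈ Subgroup.centralizer ({x₀} : Set L)
    rw [Subgroup.mem_centralizer_iff]
    intro z hz
    rw [Set.mem_singleton_iff] at hz
    rw [hz]
    exact hab x₀ (Subgroup.mem_sup_left hx₀) k hkW
  have hpowK : ∀ k ∈ K, k ^ Nat.card K = 1 := by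
    intro k hk
    have h0 : (⟨k, hk⟩ : K) ^ Nat.card K = 1 := pow_card_eq_one'
    have h1 := congrArg Subtype.val h0
    rw [Subgroup.coe_pow] at h1
    exact h1
  have hpowne : ∀ y ∈ W₁, y ≠ 1 → y ^ Nat.card K ≠ 1 := by
    intro y hy hy1 hpow
    apply hy1
    have h1 : orderOf y ∣ Nat.card K := orderOf_dvd_of_pow_eq_one hpow
    have h2 : orderOf y ∣ Nat.card W₁ := by
      have := orderOf_dvd_natCard (⟨y, hy⟩ : W₁)
      rwa [Subgroup.orderOf_mk] at this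
    have h3 : orderOf y ∣ 1 := by
      have := Nat.dvd_gcd h2 h1
      rwa [hcop] at this
    exact orderOf_eq_one_iff.mp (Nat.dvd_one.mp h3)
  refine ⟨hab, ?_, ?_⟩
  · intro x hx hxW₂ g hgx
    obtain ⟨k, hk, y, hy, hky⟩ := hWdec x hx
    have hy1 : y ≠ 1 := by
      intro h
      apply hxW₂
      rw [← hky, h, mul_one]
      exact hk
    obtain ⟨k', hk', y', hy', hky'⟩ := hWdec _ hgx
    set n := Nat.card K with hn
    have hxn : x ^ n = y ^ n := by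
      rw [← hky, (show Commute k y from (hcent k hk y hy).symm).mul_pow, hpowK k (hW₂K hk), one_mul]
    have hgxn : (g * x * g⁻¹) ^ n = y' ^ n := by
      rw [← hky', (show Commute k' y' from (hcent k' hk' y' hy').symm).mul_pow,
        hpowK k' (hW₂K hk'), one_mul]
    set z := y ^ n with hz
    have hzW : z ∈ W₁ := pow_mem hy n
    have hz1 : z ≠ 1 := hpowne y hy hy1
    have hgz : g * z * g⁻¹ ∈ W₁ := by
      rw [← hxn, ← conj_pow, hgxn]
      exact pow_mem hy' n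
    obtain ⟨kg, hkg, yg, hyg, hkyg⟩ := hdecomp g
    have hconj : g * z * g⁻¹ = kg * z * kg⁻¹ := by
      rw [← hkyg]
      have : kg * yg * z * (kg * yg)⁻¹ = kg * (yg * z * yg⁻¹) * kg⁻¹ := by group
      rw [this, hW₁comm yg hyg z hzW, mul_inv_cancel_right]
    have hmemK : g * z * g⁻¹ * z⁻¹ ∈ K := by
      rw [hconj]
      have : kg * z * kg⁻¹ * z⁻¹ = kg * (z * kg⁻¹ * z⁻¹) := by group
      rw [this]
      exact mul_mem hkg (hK.conj_mem _ (inv_mem hkg) z)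
    have hmemW : g * z * g⁻¹ * z⁻¹ ∈ W₁ := mul_mem hgz (inv_mem hzW)
    have h1 : g * z * g⁻¹ * z⁻¹ = 1 := by
      have : g * z * g⁻¹ * z⁻¹ ∈ K ⊓ W₁ := ⟨hmemK, hmemW⟩
      rwa [hKW₁, Subgroup.mem_bot] at this
    have h2 : kg * z * kg⁻¹ = z := by
      rw [← hconj]
      exact mul_inv_eq_one.mp h1
    have hkgW₂ : kg ∈ W₂ := by
      rw [← hC z hzW hz1]
      refine ⟨hkg, ?_⟩
      show kg ∈ Subgroup.centralizer ({z} : Set L)
      rw [Subgroup.mem_centralizer_iff]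
      intro h hh
      rw [Set.mem_singleton_iff] at hh
      rw [hh]
      calc z * kg = (kg * z * kg⁻¹) * kg := by rw [h2]
        _ = kg * z := by group
    rw [← hkyg]
    exact mul_mem (Subgroup.mem_sup_right hkgW₂) (Subgroup.mem_sup_left hyg)
  · intro x hx hx1 hxW₂
    apply hx1
    have : x ∈ K ⊓ W₁ := ⟨hW₂K hxW₂, hx⟩
    rwa [hKW₁, Subgroup.mem_bot] at this

end Struct

section TI

variable {L : Type*} [Group L] [Fintype L]

theorem indFun_TI' (T : Set L) (N : Subgroup L) (hN : Subgroup.normalizer T = N)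
    (hTI : ∀ g : L, g ∉ N → ∀ t ∈ T, g * t * g⁻¹ ∈ T → t = 1)
    (ψ : N → ℂ) (hψ : Cfsg.IsClassFunction N ψ)
    (hψT : ∀ x : N, (x : L) ∉ T → ψ x = 0)
    (t : N) (htT : (t : L) ∈ T) (ht1 : t ≠ 1) :
    Cfsg.indFun N ψ t = ψ t := by
  subst hN
  exact Cfsg.Agent.Lib.Helper3.indFun_TI T hTI ψ hψ hψT t htT ht1

theorem indFun_sub (H : Subgroup L) (f g : H → ℂ) :
    Cfsg.indFun H (f - g) = Cfsg.indFun H f - Cfsg.indFun H g := by
  have : f - g = f + (-1 : ℂ) • g := by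
    rw [neg_one_smul, sub_eq_add_neg]
  rw [this, Cfsg.Agent.Lib.Helper75.indFun_add, Cfsg.Agent.Lib.Helper75.indFun_smul, neg_one_smul,
    sub_eq_add_neg]

variable (W W₂ : Subgroup L)
    (hab : ∀ a ∈ W, ∀ b ∈ W, a * b = b * a)
    (hF2 : ∀ x ∈ W, x ∉ W₂ → ∀ g : L, g * x * g⁻¹ ∈ W → g ∈ W)
    (hne : ∃ x ∈ W, x ∉ W₂)

include hab hF2 hne in
theorem ti_facts :
    Subgroup.normalizer ({x | x ∈ W ∧ x ∉ W₂} : Set L) = W ∧
    ∀ g : L, g ∉ W → ∀ t ∈ ({x | x ∈ W ∧ x ∉ W₂} : Set L),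
      g * t * g⁻¹ ∈ ({x | x ∈ W ∧ x ∉ W₂} : Set L) → t = 1 := by
  constructor
  · ext g
    rw [Subgroup.mem_set_normalizer_iff]
    constructor
    · intro h
      obtain ⟨x, hx, hx'⟩ := hne
      have h1 := (h x).mp ⟨hx, hx'⟩
      exact hF2 x hx hx' g h1.1
    · intro hg n
      have hfix : ∀ m ∈ W, g * m * g⁻¹ = m := by
        intro m hm
        rw [hab g hg m hm, mul_inv_cancel_right]
      constructor
      · intro hn
        rw [hfix n hn.1]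
        exact hn
      · intro hn
        have hnW : n ∈ W := by
          have : n = g⁻¹ * (g * n * g⁻¹) * g := by group
          rw [this]
          exact mul_mem (mul_mem (inv_mem hg) hn.1) hg
        rw [hfix n hnW] at hn
        exact hn
  · intro g hg t ht hgt
    exact absurd (hF2 t ht.1 ht.2 g hgt.1) hg

include hab in
theorem isClassFunction_of_comm (ψ : W → ℂ) : Cfsg.IsClassFunction W ψ := by
  intro g h
  congr 1
  apply Subtype.ext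
  have := hab h h.2 g g.2
  simp only [Subgroup.coe_mul, Subgroup.coe_inv]
  rw [this, mul_inv_cancel_right]

include hab hF2 hne in
theorem ind_val (ψ : W → ℂ) (hψ : ∀ x : W, (x : L) ∈ W₂ → ψ x = 0) (t : W)
    (ht : (t : L) ∉ W₂) : Cfsg.indFun W ψ t = ψ t := by
  obtain ⟨hN, hTI⟩ := ti_facts W W₂ hab hF2 hne
  apply indFun_TI' _ W hN hTI ψ (isClassFunction_of_comm W hab ψ)
  · intro x hx
    apply hψ
    by_contra h
    exact hx ⟨x.2, h⟩
  · exact ⟨t.2, ht⟩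
  · intro h
    apply ht
    rw [h]
    exact W₂.one_mem

include hab hF2 hne in
theorem ind_inner [Fintype W] (ψ θ : W → ℂ) (hψ : ∀ x : W, (x : L) ∈ W₂ → ψ x = 0)
    (hθ : ∀ x : W, (x : L) ∈ W₂ → θ x = 0) :
    Cfsg.classInner (Cfsg.indFun W ψ) (Cfsg.indFun W θ) = Cfsg.classInner ψ θ := by
  obtain ⟨hN, hTI⟩ := ti_facts W W₂ hab hF2 hne
  apply Cfsg.Agent.S1505.classInner_indFun_TI' _ W hN hTI ψ θ (isClassFunction_of_comm W hab θ)
  · intro x hx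
    apply hψ
    by_contra h
    exact hx ⟨x.2, h⟩
  · intro x hx
    apply hθ
    by_contra h
    exact hx ⟨x.2, h⟩
  · apply hψ
    exact W₂.one_mem

open Classical in
include hab hF2 hne in
theorem inner_D [Fintype W] (ω₁ ω₂ ω₃ ω₄ : W →* ℂˣ)
    (h12 : ∀ w : W, (w : L) ∈ W₂ → ω₁ w = ω₂ w) (h34 : ∀ w : W, (w : L) ∈ W₂ → ω₃ w = ω₄ w) :
    Cfsg.classInner (Cfsg.indFun W (fun w => (ω₁ w : ℂ) - (ω₂ w : ℂ)))
      (Cfsg.indFun W (fun w => (ω₃ w : ℂ) - (ω₄ w : ℂ)))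
      = (if ω₁ = ω₃ then 1 else 0) - (if ω₁ = ω₄ then 1 else 0) - (if ω₂ = ω₃ then 1 else 0)
        + (if ω₂ = ω₄ then 1 else 0) := by
  rw [ind_inner W W₂ hab hF2 hne]
  · have e1 : (fun w : W => (ω₁ w : ℂ) - (ω₂ w : ℂ)) = linFun ω₁ - linFun ω₂ := rfl
    have e2 : (fun w : W => (ω₃ w : ℂ) - (ω₄ w : ℂ)) = linFun ω₃ - linFun ω₄ := rfl
    rw [e1, e2, Lib.Helper26.classInner_sub_left, Lib.Helper26.classInner_sub_right,
      Lib.Helper26.classInner_sub_right, lin_orthonormal, lin_orthonormal, lin_orthonormal,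
      lin_orthonormal]
    ring
  · intro x hx
    show (ω₁ x : ℂ) - (ω₂ x : ℂ) = 0
    rw [h12 x hx, sub_self]
  · intro x hx
    show (ω₃ x : ℂ) - (ω₄ x : ℂ) = 0
    rw [h34 x hx, sub_self]

end TI

section Values

variable {L : Type*} [Group L] [Fintype L] (W W₂ : Subgroup L)
    (hab : ∀ a ∈ W, ∀ b ∈ W, a * b = b * a)
    (hF2 : ∀ x ∈ W, x ∉ W₂ → ∀ g : L, g * x * g⁻¹ ∈ W → g ∈ W)
    (hne : ∃ x ∈ W, x ∉ W₂)

include hab hF2 hne in
theorem values (μ : (W →* ℂˣ) → (L → ℂ)) (δ : (W →* ℂˣ) → ℂ)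
    (hirr : ∀ ω, Cfsg.IsIrrCharacter L (μ ω)) (hinj : Function.Injective μ)
    (hδ : ∀ ω, δ ω = 1 ∨ δ ω = -1)
    (hcls : ∀ ω ω' : W →* ℂˣ, (∀ w : W, (w : L) ∈ W₂ → ω w = ω' w) → δ ω = δ ω' ∧
      Cfsg.indFun W (fun w => (ω w : ℂ) - (ω' w : ℂ)) = δ ω • (μ ω - μ ω'))
    (x : W) (hx : (x : L) ∉ W₂) :
    (∀ ω, μ ω x = δ ω * (ω x : ℂ)) ∧
    (∀ θ : L → ℂ, Cfsg.IsIrrCharacter L θ → (∀ ω, θ ≠ μ ω) → θ x = 0) := by
  classical
  haveI : Fintype (W →* ℂˣ) := Fintype.ofFinite _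
  have hcW : ∀ a b : W, a * b = b * a := fun a b => Subtype.ext (hab a a.2 b b.2)
  set c : (W →* ℂˣ) → ℂ := fun ω => μ ω x - δ ω * (ω x : ℂ) with hc
  have hδsq : ∀ ω, δ ω * δ ω = 1 := by
    intro ω; rcases hδ ω with h | h <;> rw [h] <;> norm_num
  have hcc : ∀ ω ω' : W →* ℂˣ, (∀ w : W, (w : L) ∈ W₂ → ω w = ω' w) → c ω = c ω' := by
    intro ω ω' h
    obtain ⟨h1, h2⟩ := hcls ω ω' h
    have h3 := congrFun h2 x
    rw [ind_val W W₂ hab hF2 hne _ (fun y hy => by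
      show (ω y : ℂ) - (ω' y : ℂ) = 0
      rw [h y hy, sub_self]) x hx] at h3
    simp only [Pi.smul_apply, Pi.sub_apply, smul_eq_mul] at h3
    show μ ω x - δ ω * (ω x : ℂ) = μ ω' x - δ ω' * (ω' x : ℂ)
    rw [← h1]
    have := hδsq ω
    linear_combination (-(δ ω)) * h3 - (μ ω x - μ ω' x) * this
  obtain ⟨l₀, hl₀, hl₀x⟩ := exists_hom_ne_one hcW (W₂.subgroupOf W) x
    (fun h => hx (Subgroup.mem_subgroupOf.mp h))
  have hl₀' : ∀ ω : W →* ℂˣ, ∀ w : W, (w : L) ∈ W₂ → (l₀ * ω) w = ω w := by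
    intro ω w hw
    rw [MonoidHom.mul_apply, hl₀ w (Subgroup.mem_subgroupOf.mpr hw), one_mul]
  set S : ℂ := ∑ ω : W →* ℂˣ, δ ω * (ω x : ℂ) * conj (c ω) with hS
  have hS0 : S = 0 := by
    have h1 : S = (l₀ x : ℂ) * S := by
      rw [hS, Finset.mul_sum]
      rw [← Equiv.sum_comp (Equiv.mulLeft l₀)]
      apply Finset.sum_congr rfl
      intro ω _
      rw [Equiv.coe_mulLeft, hcc (l₀ * ω) ω (hl₀' ω), (hcls (l₀ * ω) ω (hl₀' ω)).1,
        MonoidHom.mul_apply, Units.val_mul]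
      ring
    have h2 : (1 - (l₀ x : ℂ)) * S = 0 := by linear_combination h1
    rcases mul_eq_zero.mp h2 with h3 | h3
    · exfalso
      apply hl₀x
      have : (l₀ x : ℂ) = 1 := by linear_combination -h3
      exact Units.ext this
    · exact h3
  have hnorm1 : ∀ ω : W →* ℂˣ, Complex.normSq (δ ω * (ω x : ℂ)) = 1 := by
    intro ω
    rw [Complex.normSq_mul, Complex.normSq_eq_norm_sq (ω x : ℂ), lin_norm_one]
    rcases hδ ω with h | h <;> rw [h] <;> simp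
  have hexp : ∀ ω, Complex.normSq (μ ω x)
      = 1 + Complex.normSq (c ω) + 2 * (δ ω * (ω x : ℂ) * conj (c ω)).re := by
    intro ω
    have : μ ω x = δ ω * (ω x : ℂ) + c ω := by rw [hc]; ring
    rw [this, Complex.normSq_add, hnorm1]
  have hsum1 : ∑ ω : W →* ℂˣ, Complex.normSq (μ ω x)
      = (Nat.card W : ℝ) + ∑ ω : W →* ℂˣ, Complex.normSq (c ω) := by
    simp_rw [hexp]
    rw [Finset.sum_add_distrib, Finset.sum_add_distrib, Finset.sum_const, Finset.card_univ,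
      ← Finset.mul_sum, ← Complex.re_sum, ← hS, hS0, ← Nat.card_eq_fintype_card, card_hom_eq hcW]
    simp
  have hcent : Subgroup.centralizer ({(x : L)} : Set L) = W := by
    ext g
    rw [Subgroup.mem_centralizer_iff]
    constructor
    · intro h
      have h1 := h (x : L) rfl
      apply hF2 x x.2 hx g
      have : g * x * g⁻¹ = x := by rw [← h1, mul_inv_cancel_right]
      rw [this]; exact x.2
    · intro hg h hh
      rw [Set.mem_singleton_iff] at hh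
      rw [hh]
      exact hab x x.2 g hg
  have hso := Cfsg.Agent.Lib.Helper78.second_orthogonality_of_isConj (IsConj.refl (x : L))
  rw [hcent] at hso
  have hso' : ∑ χ : Cfsg.IrrCharacter L, Complex.normSq ((χ : L → ℂ) x) = (Nat.card W : ℝ) := by
    have : ((∑ χ : Cfsg.IrrCharacter L, Complex.normSq ((χ : L → ℂ) x) : ℝ) : ℂ)
        = ((Nat.card W : ℝ) : ℂ) := by
      push_cast
      rw [← hso]
      apply Finset.sum_congr rfl
      intro χ _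
      rw [Complex.mul_conj]
    exact_mod_cast this
  let μ' : (W →* ℂˣ) → Cfsg.IrrCharacter L := fun ω => ⟨μ ω, hirr ω⟩
  have hμ'inj : Function.Injective μ' := fun a b h => hinj (congrArg Subtype.val h)
  have hsplit : ∑ χ : Cfsg.IrrCharacter L, Complex.normSq ((χ : L → ℂ) x)
      = ∑ ω : W →* ℂˣ, Complex.normSq (μ ω x)
        + ∑ χ ∈ (Finset.univ.image μ')ᶜ, Complex.normSq ((χ : L → ℂ) x) := by
    rw [← Finset.sum_add_sum_compl (Finset.univ.image μ'),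
      Finset.sum_image (fun a _ b _ h => hμ'inj h)]
  have hn1 : 0 ≤ ∑ ω : W →* ℂˣ, Complex.normSq (c ω) :=
    Finset.sum_nonneg (fun _ _ => Complex.normSq_nonneg _)
  have hn2 : 0 ≤ ∑ χ ∈ (Finset.univ.image μ')ᶜ, Complex.normSq ((χ : L → ℂ) x) :=
    Finset.sum_nonneg (fun _ _ => Complex.normSq_nonneg _)
  have hz1 : ∑ ω : W →* ℂˣ, Complex.normSq (c ω) = 0 := by linarith
  have hz2 : ∑ χ ∈ (Finset.univ.image μ')ᶜ, Complex.normSq ((χ : L → ℂ) x) = 0 := by linarith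
  constructor
  · intro ω
    have := (Finset.sum_eq_zero_iff_of_nonneg (fun _ _ => Complex.normSq_nonneg _)).mp hz1 ω
      (Finset.mem_univ _)
    have h0 : c ω = 0 := Complex.normSq_eq_zero.mp this
    exact sub_eq_zero.mp h0
  · intro θ hθ hθμ
    have hmem : (⟨θ, hθ⟩ : Cfsg.IrrCharacter L) ∈ (Finset.univ.image μ')ᶜ := by
      rw [Finset.mem_compl, Finset.mem_image]
      rintro ⟨ω, _, h⟩
      exact hθμ ω (congrArg Subtype.val h).symm
    have := (Finset.sum_eq_zero_iff_of_nonneg (fun _ _ => Complex.normSq_nonneg _)).mp hz2 _ hmem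
    exact Complex.normSq_eq_zero.mp this

end Values

section Congr

open Classical in
theorem congruence {L : Type*} [Group L] [Fintype L] (W₁ : Subgroup L) (χ : L → ℂ)
    (hχ : Cfsg.IsCharacter L χ) (d : ℤ) (ω₁ : W₁ →* ℂˣ)
    (hval : ∀ y : W₁, y ≠ 1 → χ y = d * (ω₁ y : ℂ)) :
    ∃ n : ℤ, χ 1 - d = n * (Nat.card W₁ : ℂ) := by
  have : Fintype W₁ := Fintype.ofFinite _
  have hψ : Cfsg.IsCharacter W₁ (fun y : W₁ => χ y) :=
    Cfsg.Agent.Lib.Helper75.isCharacter_res W₁ hχ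
  have hone : Cfsg.IsCharacter W₁ (fun _ : W₁ => (1 : ℂ)) :=
    Cfsg.Agent.Lib.Helper80.isCharacter_of_isIrr Cfsg.Agent.Lib.Helper80.isIrrCharacter_one
  obtain ⟨m, hm⟩ := (irrFacts W₁).inner_int (isGeneralizedCharacter_of_isCharacter hψ)
    (isGeneralizedCharacter_of_isCharacter hone)
  have hcard : (Nat.card W₁ : ℂ) ≠ 0 := Nat.cast_ne_zero.mpr Nat.card_pos.ne'
  have hsum : ∑ y : W₁, χ y = (m : ℂ) * (Nat.card W₁ : ℂ) := by
    unfold Cfsg.classInner at hm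
    simp only [map_one, mul_one] at hm
    rw [← hm]
    field_simp
  have hsplit : ∀ y : W₁, χ y = d * (ω₁ y : ℂ) + (if y = 1 then χ 1 - d else 0) := by
    intro y
    by_cases hy : y = 1
    · rw [if_pos hy, hy, map_one, Units.val_one, Subgroup.coe_one]
      ring
    · rw [if_neg hy, add_zero]
      exact hval y hy
  have hsum2 : ∑ y : W₁, χ y = d * ∑ y : W₁, (ω₁ y : ℂ) + (χ 1 - d) := by
    rw [Finset.sum_congr rfl (fun y _ => hsplit y), Finset.sum_add_distrib, ← Finset.mul_sum,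
      Finset.sum_ite_eq' Finset.univ (1 : W₁) (fun _ => χ 1 - d), if_pos (Finset.mem_univ _)]
  by_cases hω : ω₁ = 1
  · refine ⟨m - d, ?_⟩
    have h1 : ∑ y : W₁, (ω₁ y : ℂ) = (Nat.card W₁ : ℂ) := by
      rw [hω]
      simp [Nat.card_eq_fintype_card]
    rw [h1, hsum] at hsum2
    push_cast
    linear_combination -hsum2
  · refine ⟨m, ?_⟩
    rw [lin_sum_eq_zero ω₁ hω, hsum] at hsum2
    linear_combination -hsum2

end Congr

/-- Let L be a finite group with K normal with complement W₁ ≠ 1 a cyclic Hall subgroup, and W₂ ≠ 1 a cyclic subgroup of K equal to C_K(x) for every non-identity x ∈ W₁, with W₁W₂ of odd order. Then there are a map μ from the linear characters of W = W₁ ⊔ W₂ to irreducible characters of L, injective, and a sign δ(ω) ∈ {1, −1} depending only on the values of ω on W₂, such that: for ω, ω' agreeing on W₂, the function induced to L from ω − ω' equals δ(ω) • (μ ω −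 μ ω'); μ ω x = δ(ω) ω x for x ∈ W outside W₂; every irreducible character of L not of the form μ ω vanishes on W outside W₂; and μ ω 1 − δ(ω) is an integer multiple of Nat.card W₁. -/
theorem result {L : Type*} [Group L] [Fintype L] (K W₁ W₂ : Subgroup L) [hK : K.Normal] (hKW₁ : K ⊓ W₁ = ⊥) (hKW₁' : K ⊔ W₁ = ⊤) (hW₁ : W₁ ≠ ⊥) (hW₁c : IsCyclic W₁) (hHall : Nat.Coprime (Nat.card W₁) W₁.index) (hW₂ : W₂ ≠ ⊥) (hW₂c : IsCyclic W₂) (hW₂K : W₂ ≤ K) (hC : ∀ x ∈ W₁, x ≠ 1 → K ⊓ Subgroup.centralizer ({x} : Set L) = W₂) (hodd : Odd (Nat.card ↥(W₁ ⊔ W₂))) : ∃ (μ : (↥(W₁ ⊔ W₂) →* ℂˣ) → (L → ℂ)) (δ : (↥(W₁ ⊔ W₂) →* ℂˣ) → ℂ), Function.Injective μ ∧ (∀ ω, Cfsg.IsIrrCharacter L (μ ω)) ∧ (∀ ω, δ ω = 1 ∨ δ ω = -1) ∧ (∀ ω ω' : ↥(W₁ ⊔ W₂) →* ℂˣ, (∀ w : ↥(W₁ ⊔ W₂), (w : L) ∈ W₂ → ω w = ω' w) → δ ω = δ ω' ∧ Cfsg.indFun (W₁ ⊔ W₂) (fun w => (ω w : ℂ) - (ω' w : ℂ)) = δ ω • (μ ω - μ ω')) ∧ (∀ ω, ∀ w : ↥(W₁ ⊔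 W₂), (w : L) ∉ W₂ → μ ω w = δ ω * (ω w : ℂ)) ∧ (∀ θ : L → ℂ, Cfsg.IsIrrCharacter L θ → (∀ ω, θ ≠ μ ω) → ∀ w : ↥(W₁ ⊔ W₂), (w : L) ∉ W₂ → θ w = 0) ∧ (∀ ω, ∃ n : ℤ, μ ω 1 - δ ω = n * (Nat.card W₁ : ℂ)) := by
  classical
  have F := irrFacts L
  obtain ⟨hab, hF2, hx₀W₂⟩ := struct K W₁ W₂ hKW₁ hKW₁' hW₁ hW₁c hHall hW₂c hW₂K hC
  have : Fintype ↥(W₁ ⊔ W₂) := Fintype.ofFinite _
  obtain ⟨x₀, hx₀, hx₀1⟩ : ∃ x₀ ∈ W₁, x₀ ≠ 1 := by
    obtain ⟨⟨x, hx⟩, hne⟩ := Subgroup.ne_bot_iff_exists_ne_one.mp hW₁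
    exact ⟨x, hx, fun h => hne (Subtype.ext h)⟩
  have hne : ∃ x ∈ W₁ ⊔ W₂, x ∉ W₂ := ⟨x₀, Subgroup.mem_sup_left hx₀, hx₀W₂ x₀ hx₀ hx₀1⟩
  have hcW : ∀ a b : ↥(W₁ ⊔ W₂), a * b = b * a := fun a b => Subtype.ext (hab a a.2 b b.2)
  obtain ⟨l₀, hl₀, hl₀x⟩ := exists_hom_ne_one hcW (W₂.subgroupOf (W₁ ⊔ W₂))
    ⟨x₀, Subgroup.mem_sup_left hx₀⟩ (fun h => hx₀W₂ x₀ hx₀ hx₀1 (Subgroup.mem_subgroupOf.mp h))
  have hl₀' : ∀ ω : ↥(W₁ ⊔ W₂) →* ℂˣ, ∀ w : ↥(W₁ ⊔ W₂), (w : L) ∈ W₂ → (l₀ * ω) w = ω w := by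
    intro ω w hw
    rw [MonoidHom.mul_apply, hl₀ w (Subgroup.mem_subgroupOf.mpr hw), one_mul]
  have hl₀1 : ∀ ω : ↥(W₁ ⊔ W₂) →* ℂˣ, l₀ * ω ≠ ω := by
    intro ω h
    apply hl₀x
    have h1 := DFunLike.congr_fun h ⟨x₀, Subgroup.mem_sup_left hx₀⟩
    rw [MonoidHom.mul_apply] at h1
    exact mul_eq_right.mp h1
  -- restriction to W₂
  let res : (↥(W₁ ⊔ W₂) →* ℂˣ) → (W₂ → ℂˣ) :=
    fun ω w₂ => ω ⟨(w₂ : L), Subgroup.mem_sup_right w₂.2⟩
  have hres : ∀ ω ω' : ↥(W₁ ⊔ W₂) →* ℂˣ, res ω = res ω' ↔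
      ∀ w : ↥(W₁ ⊔ W₂), (w : L) ∈ W₂ → ω w = ω' w := by
    intro ω ω'
    constructor
    · intro h w hw
      exact congrFun h ⟨(w : L), hw⟩
    · intro h
      funext w₂
      exact h ⟨(w₂ : L), Subgroup.mem_sup_right w₂.2⟩ w₂.2
  have hresl₀ : ∀ ω : ↥(W₁ ⊔ W₂) →* ℂˣ, res (l₀ * ω) = res ω := fun ω =>
    (hres _ _).mpr (hl₀' ω)
  have key : ∀ ρ : W₂ → ℂˣ, ∃ (ε : ℂ) (χ : {ω : ↥(W₁ ⊔ W₂) →* ℂˣ // res ω = ρ} → L → ℂ),
      (ε = 1 ∨ ε = -1) ∧ (∀ i, Cfsg.IsIrrCharacter L (χ i)) ∧ Function.Injective χ ∧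
      ∀ i j : {ω : ↥(W₁ ⊔ W₂) →* ℂˣ // res ω = ρ},
        Cfsg.indFun (W₁ ⊔ W₂) (fun w => (i.1 w : ℂ) - (j.1 w : ℂ)) = ε • (χ i - χ j) := by
    intro ρ
    have hagree : ∀ i j : {ω : ↥(W₁ ⊔ W₂) →* ℂˣ // res ω = ρ},
        ∀ w : ↥(W₁ ⊔ W₂), (w : L) ∈ W₂ → i.1 w = j.1 w :=
      fun i j => (hres i.1 j.1).mp (i.2.trans j.2.symm)
    apply coherent_diff (fun i j : {ω : ↥(W₁ ⊔ W₂) →* ℂˣ // res ω = ρ} =>
      Cfsg.indFun (W₁ ⊔ W₂) (fun w => (i.1 w : ℂ) - (j.1 w : ℂ)))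
    · intro i j
      refine ⟨Cfsg.indFun (W₁ ⊔ W₂) (linFun i.1), Cfsg.indFun (W₁ ⊔ W₂) (linFun j.1),
        Cfsg.Agent.S0148.result _ _ (Cfsg.Agent.Lib.Helper80.isCharacter_of_isIrr
          (Cfsg.Agent.Lib.Helper80.isIrrCharacter_of_hom i.1)),
        Cfsg.Agent.S0148.result _ _ (Cfsg.Agent.Lib.Helper80.isCharacter_of_isIrr
          (Cfsg.Agent.Lib.Helper80.isIrrCharacter_of_hom j.1)), ?_⟩
      rw [← indFun_sub]
      rfl
    · intro i j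
      rw [Cfsg.Agent.Lib.Helper75.indFun_one]
      simp
    · intro i j k
      rw [← Cfsg.Agent.Lib.Helper75.indFun_add]
      congr 1
      funext w
      simp only [Pi.add_apply]
      ring
    · intro i j hij
      have hij' : i.1 ≠ j.1 := fun h => hij (Subtype.ext h)
      rw [inner_D (W₁ ⊔ W₂) W₂ hab hF2 hne i.1 j.1 i.1 j.1 (hagree i j) (hagree i j),
        if_pos rfl, if_pos rfl, if_neg hij', if_neg (Ne.symm hij')]
      norm_num
    · intro i j k hij hik hjk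
      have hij' : i.1 ≠ j.1 := fun h => hij (Subtype.ext h)
      have hik' : i.1 ≠ k.1 := fun h => hik (Subtype.ext h)
      have hjk' : j.1 ≠ k.1 := fun h => hjk (Subtype.ext h)
      rw [inner_D (W₁ ⊔ W₂) W₂ hab hF2 hne i.1 j.1 i.1 k.1 (hagree i j) (hagree i k),
        if_pos rfl, if_neg hik', if_neg (Ne.symm hij'), if_neg hjk']
      norm_num
    · intro i
      refine ⟨⟨l₀ * i.1, (hresl₀ i.1).trans i.2⟩, ?_⟩
      intro h
      exact hl₀1 i.1 (congrArg Subtype.val h)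
  choose ε χ hε hχirr hχinj hχD using key
  let μ : (↥(W₁ ⊔ W₂) →* ℂˣ) → (L → ℂ) := fun ω => χ (res ω) ⟨ω, rfl⟩
  let δ : (↥(W₁ ⊔ W₂) →* ℂˣ) → ℂ := fun ω => ε (res ω)
  have hμ : ∀ (ρ : W₂ → ℂˣ) (ω : ↥(W₁ ⊔ W₂) →* ℂˣ) (hω : res ω = ρ), μ ω = χ ρ ⟨ω, hω⟩ := by
    intro ρ ω hω
    subst hω
    rfl
  have hcls : ∀ ω ω' : ↥(W₁ ⊔ W₂) →* ℂˣ, (∀ w : ↥(W₁ ⊔ W₂), (w : L) ∈ W₂ → ω w = ω' w) →
      δ ω = δ ω' ∧ Cfsg.indFun (W₁ ⊔ W₂) (fun w => (ω w : ℂ) - (ω' w : ℂ))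
        = δ ω • (μ ω - μ ω') := by
    intro ω ω' h
    have hr : res ω' = res ω := ((hres ω ω').mpr h).symm
    refine ⟨congrArg ε hr.symm, ?_⟩
    rw [hμ (res ω) ω rfl, hμ (res ω) ω' hr]
    exact hχD (res ω) ⟨ω, rfl⟩ ⟨ω', hr⟩
  have hμirr : ∀ ω, Cfsg.IsIrrCharacter L (μ ω) := fun ω => hχirr _ _
  have hδ : ∀ ω, δ ω = 1 ∨ δ ω = -1 := fun ω => hε _
  have hinj_cls : ∀ ω ω' : ↥(W₁ ⊔ W₂) →* ℂˣ, res ω = res ω' → μ ω = μ ω' → ω = ω' := by
    intro ω ω' hr hμeq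
    rw [hμ (res ω') ω hr, hμ (res ω') ω' rfl] at hμeq
    exact congrArg Subtype.val (hχinj _ hμeq)
  have hinj : Function.Injective μ := by
    intro ω ω' hμeq
    by_contra hne'
    by_cases hr : res ω = res ω'
    · exact hne' (hinj_cls ω ω' hr hμeq)
    · have e := inner_D (W₁ ⊔ W₂) W₂ hab hF2 hne ω (l₀ * ω) ω' (l₀ * ω')
        (fun w hw => (hl₀' ω w hw).symm) (fun w hw => (hl₀' ω' w hw).symm)
      have n1 : ω ≠ l₀ * ω' := by
        intro h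
        apply hr
        rw [h, hresl₀]
      have n2 : l₀ * ω ≠ ω' := by
        intro h
        apply hr
        rw [← h, hresl₀]
      have n3 : l₀ * ω ≠ l₀ * ω' := fun h => hne' (mul_left_cancel h)
      rw [if_neg hne', if_neg n1, if_neg n2, if_neg n3,
        (hcls ω (l₀ * ω) (fun w hw => (hl₀' ω w hw).symm)).2,
        (hcls ω' (l₀ * ω') (fun w hw => (hl₀' ω' w hw).symm)).2,
        Lib.Helper26.classInner_smul_left, Lib.Helper26.classInner_smul_right,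
        inner_diff F (hμirr ω) (hμirr _) (hμirr ω') (hμirr _)] at e
      have m1 : μ ω ≠ μ (l₀ * ω') := by
        intro h
        rw [hμeq] at h
        exact hl₀1 ω' (hinj_cls ω' (l₀ * ω') (hresl₀ ω').symm h).symm
      have m2 : μ (l₀ * ω) ≠ μ ω' := by
        intro h
        rw [← hμeq] at h
        exact hl₀1 ω (hinj_cls (l₀ * ω) ω (hresl₀ ω) h)
      rw [if_pos hμeq, if_neg m1, if_neg m2] at e
      have hd1 : δ ω ≠ 0 := by rcases hδ ω with h | h <;> rw [h] <;> norm_num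
      have hd2 : (starRingEnd ℂ) (δ ω') ≠ 0 := by
        rcases hδ ω' with h | h <;> rw [h] <;> simp
      have hd3 : ((1 : ℂ) - 0 - 0 + if μ (l₀ * ω) = μ (l₀ * ω') then 1 else 0) ≠ 0 := by
        split_ifs <;> norm_num
      have : (0 : ℂ) ≠ 0 := by
        have e' : δ ω * ((starRingEnd ℂ) (δ ω') *
          ((1 : ℂ) - 0 - 0 + if μ (l₀ * ω) = μ (l₀ * ω') then 1 else 0)) = 0 := by
          rw [e]; ring
        exact absurd e' (mul_ne_zero hd1 (mul_ne_zero hd2 hd3))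
      exact this rfl
  refine ⟨μ, δ, hinj, hμirr, hδ, hcls, ?_, ?_, ?_⟩
  · intro ω w hw
    exact (values (W₁ ⊔ W₂) W₂ hab hF2 hne μ δ hμirr hinj hδ hcls w hw).1 ω
  · intro θ hθ hθμ w hw
    exact (values (W₁ ⊔ W₂) W₂ hab hF2 hne μ δ hμirr hinj hδ hcls w hw).2 θ hθ hθμ
  · intro ω
    obtain ⟨d, hd⟩ : ∃ d : ℤ, δ ω = d := by
      rcases hδ ω with h | h
      · exact ⟨1, by rw [h]; simp⟩
      · exact ⟨-1, by rw [h]; simp⟩
    rw [hd]
    apply congruence W₁ (μ ω) (Cfsg.Agent.Lib.Helper80.isCharacter_of_isIrr (hμirr ω)) d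
      (ω.comp (Subgroup.inclusion (le_sup_left : W₁ ≤ W₁ ⊔ W₂)))
    intro y hy
    have hyW₂ : (y : L) ∉ W₂ := hx₀W₂ y y.2 (fun h => hy (Subtype.ext h))
    have := (values (W₁ ⊔ W₂) W₂ hab hF2 hne μ δ hμirr hinj hδ hcls
      ⟨(y : L), Subgroup.mem_sup_left y.2⟩ hyW₂).1 ω
    rw [← hd]
    exact this

end Cfsg.Agent.S1511
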