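import Cfsg.Statements.S1518
import Cfsg.Agent.S1500
import Cfsg.Agent.S1501
import Cfsg.Agent.Lib.Helper25.Norm3
import Cfsg.Agent.Lib.Helper25.CharBasic
import Cfsg.Agent.Lib.Helper81.IrrTwist
import Cfsg.Agent.Lib.Helper78.CharMore

set_option autoImplicit false
open Cfsg

namespace Cfsg.Agent.S1518

theorem dade_neg' {G : Type*} [Group G] (A : Set G) (L : Subgroup G) (H : G → Subgroup G)
    (α : L → ℂ) : Cfsg.dadeIsometry A L H (-α) = -Cfsg.dadeIsometry A L H α := by
  funext g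
  unfold Cfsg.dadeIsometry
  simp only [Pi.neg_apply]
  split_ifs <;> simp

theorem dade_conj' {G : Type*} [Group G] (A : Set G) (L : Subgroup G) (H : G → Subgroup G)
    (α : L → ℂ) :
    Cfsg.dadeIsometry A L H (Cfsg.conjFun α) = Cfsg.conjFun (Cfsg.dadeIsometry A L H α) := by
  funext g
  unfold Cfsg.dadeIsometry Cfsg.conjFun
  simp only
  split_ifs <;> simp

theorem dade_zero' {G : Type*} [Group G] (A : Set G) (L : Subgroup G) (H : G → Subgroup G) :
    Cfsg.dadeIsometry A L H (0 : L → ℂ) = 0 := by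
  funext g
  unfold Cfsg.dadeIsometry
  simp

theorem dade_one' {G : Type*} [Group G] {A : Set G} {L : Subgroup G} {H : G → Subgroup G}
    (hD : Cfsg.DadeHypothesis A L H) (α : L → ℂ) : Cfsg.dadeIsometry A L H α 1 = 0 := by
  unfold Cfsg.dadeIsometry
  rw [dif_neg]
  rintro ⟨a, haA, x, u, hu, hx⟩
  have h1 : (a : G) * u = 1 := by rw [← hx]; group
  have hu' : u = (a : G)⁻¹ := eq_inv_of_mul_eq_one_right h1
  have hmem : u ∈ H (a : G) ⊓ (L ⊓ Subgroup.centralizer ({(a : G)} : Set G)) := by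
    refine ⟨hu, ?_, ?_⟩
    · rw [hu']; exact L.inv_mem a.2
    · exact hD.le_centralizer _ haA hu
  rw [hD.inf_eq_bot _ haA, Subgroup.mem_bot] at hmem
  rw [hmem, mul_one] at h1
  apply hD.one_not_mem
  rw [← h1]; exact haA

theorem conjFun_conjFun' {X : Type*} (f : X → ℂ) : Cfsg.conjFun (Cfsg.conjFun f) = f := by
  funext x
  unfold Cfsg.conjFun
  simp

theorem conjFun_sub' {X : Type*} (f g : X → ℂ) :
    Cfsg.conjFun (f - g) = Cfsg.conjFun f - Cfsg.conjFun g := by
  funext x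
  unfold Cfsg.conjFun
  simp

theorem conjFun_neg' {X : Type*} (f : X → ℂ) :
    Cfsg.conjFun (-f) = -Cfsg.conjFun f := by
  funext x
  unfold Cfsg.conjFun
  simp

theorem irr_conjFun {G : Type*} [Group G] {χ : G → ℂ} (h : Cfsg.IsIrrCharacter G χ) :
    Cfsg.IsIrrCharacter G (Cfsg.conjFun χ) :=
  Cfsg.Agent.Lib.Helper81.isIrrCharacter_conj h

/-- a difference of two irreducibles that vanishes at `1` with two signed irreducible summands -/
theorem split_signs {G : Type*} [Group G] [Fintype G] {T e₁ e₂ : G → ℂ}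
    (h1 : Cfsg.Agent.Lib.Helper25.SIrr G e₁) (h2 : Cfsg.Agent.Lib.Helper25.SIrr G e₂)
    (h12 : Cfsg.classInner e₁ e₂ = 0) (hT : T = e₁ + e₂) (hT1 : T 1 = 0) :
    ∃ μ ν : G → ℂ, Cfsg.IsIrrCharacter G μ ∧ Cfsg.IsIrrCharacter G ν ∧ μ ≠ ν ∧ T = μ - ν := by
  have hsum : e₁ 1 + e₂ 1 = 0 := by
    have := congrFun hT 1
    rw [hT1] at this
    simpa using this.symm
  rcases h1 with h1 | h1 <;> rcases h2 with h2 | h2
  · exfalso
    obtain ⟨n₁, hn₁, e1⟩ := Cfsg.Agent.Lib.Helper25.irr_exists_degree h1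
    obtain ⟨n₂, hn₂, e2⟩ := Cfsg.Agent.Lib.Helper25.irr_exists_degree h2
    rw [e1, e2] at hsum
    have : ((n₁ + n₂ : ℕ) : ℂ) = 0 := by push_cast; exact hsum
    have h0 : n₁ + n₂ = 0 := by exact_mod_cast this
    omega
  · refine ⟨e₁, -e₂, h1, h2, ?_, by rw [hT]; abel⟩
    intro h
    have hn := Cfsg.Agent.Lib.Helper25.irr_norm_one e₁ h1
    have e : e₂ = -e₁ := by rw [h]; simp
    rw [e, Cfsg.Agent.Lib.Helper25.classInner_neg_right, hn] at h12
    norm_num at h12
  · refine ⟨e₂, -e₁, h2, h1, ?_, by rw [hT]; abel⟩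
    intro h
    have hn := Cfsg.Agent.Lib.Helper25.irr_norm_one e₂ h2
    have e : e₁ = -e₂ := by rw [h]; simp
    rw [e, Cfsg.Agent.Lib.Helper25.classInner_neg_left, hn] at h12
    norm_num at h12
  · exfalso
    obtain ⟨n₁, hn₁, e1⟩ := Cfsg.Agent.Lib.Helper25.irr_exists_degree h1
    obtain ⟨n₂, hn₂, e2⟩ := Cfsg.Agent.Lib.Helper25.irr_exists_degree h2
    simp only [Pi.neg_apply] at e1 e2
    have : ((n₁ + n₂ : ℕ) : ℂ) = 0 := by
      push_cast
      rw [← e1, ← e2]
      linear_combination -hsum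
    have h0 : n₁ + n₂ = 0 := by exact_mod_cast this
    omega


/-- Under the Dade hypothesis for (A, L, H): if χ is an irreducible character of L vanishing at every non-identity element of L outside A, then the Dade image of χ − conj χ equals μ − conj μ for some irreducible character μ of G. -/
theorem result {G : Type*} [Group G] [Fintype G] (A : Set G) (L : Subgroup G) [Fintype L] (H : G → Subgroup G) (hD : Cfsg.DadeHypothesis A L H) (χ : L → ℂ) (hχ : Cfsg.IsIrrCharacter L χ) (hsupp : ∀ x : L, x ≠ 1 → (x : G) ∉ A → χ x = 0) : ∃ μ : G → ℂ, Cfsg.IsIrrCharacter G μ ∧ Cfsg.dadeIsometry A L H (χ - Cfsg.conjFun χ) = μ - Cfsg.conjFun μ := by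
  classical
  by_cases hreal : Cfsg.conjFun χ = χ
  · refine ⟨fun _ => (1 : ℂ), Cfsg.Agent.Lib.Helper78.isIrrCharacter_one, ?_⟩
    rw [hreal, sub_self, dade_zero']
    have : Cfsg.conjFun (fun _ : G => (1 : ℂ)) = fun _ => (1 : ℂ) := by
      funext g
      unfold Cfsg.conjFun
      simp
    rw [this, sub_self]
  · have hχc := Cfsg.Agent.Lib.Helper25.isCharacter_of_irr hχ
    have hχ' : Cfsg.IsIrrCharacter L (Cfsg.conjFun χ) := irr_conjFun hχ
    have hχc' := Cfsg.Agent.Lib.Helper25.isCharacter_of_irr hχ'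
    have hθgen : Cfsg.IsGeneralizedCharacter L (χ - Cfsg.conjFun χ) := ⟨χ, _, hχc, hχc', rfl⟩
    have hθA : ∀ x : L, (x : G) ∉ A → (χ - Cfsg.conjFun χ) x = 0 := by
      intro x hx
      by_cases hx1 : x = 1
      · obtain ⟨n, _, hn⟩ := Cfsg.Agent.Lib.Helper25.irr_exists_degree hχ
        rw [hx1]
        simp only [Pi.sub_apply, Cfsg.conjFun, hn]
        simp
      · simp only [Pi.sub_apply, Cfsg.conjFun, hsupp x hx1 hx]
        simp
    have hθcl : Cfsg.IsClassFunction L (χ - Cfsg.conjFun χ) := by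
      intro g h
      have e1 := Cfsg.Agent.Lib.Helper25.isClassFunction_of_isCharacter hχc g h
      have e2 := Cfsg.Agent.Lib.Helper25.isClassFunction_of_isCharacter hχc' g h
      simp only [Pi.sub_apply, e1, e2]
    have hTgen := Cfsg.Agent.S1501.result A L H hD _ hθgen hθA
    have hiso := (Cfsg.Agent.S1500.result A L H hD _ hθcl hθA).1 _ hθcl hθA
    have hne : χ ≠ Cfsg.conjFun χ := fun h => hreal h.symm
    have hnorm : Cfsg.classInner (χ - Cfsg.conjFun χ) (χ - Cfsg.conjFun χ) = 2 := by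
      rw [Cfsg.Agent.Lib.Helper25.classInner_sub_left, Cfsg.Agent.Lib.Helper25.classInner_sub_right,
        Cfsg.Agent.Lib.Helper25.classInner_sub_right,
        Cfsg.Agent.Lib.Helper25.irr_norm_one χ hχ, Cfsg.Agent.Lib.Helper25.irr_norm_one _ hχ',
        Cfsg.Agent.Lib.Helper25.irr_orthogonal χ _ hχ hχ' hne,
        Cfsg.Agent.Lib.Helper25.irr_orthogonal _ χ hχ' hχ (Ne.symm hne)]
      norm_num
    rw [hnorm] at hiso
    obtain ⟨e₁, e₂, h1, h2, h12, hT⟩ := Cfsg.Agent.Lib.Helper25.norm2_decomp _ hTgen hiso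
    obtain ⟨μ, ν, hμ, hν, hμν, hTμν⟩ := split_signs h1 h2 h12 hT (dade_one' hD _)
    have hconj : Cfsg.conjFun (Cfsg.dadeIsometry A L H (χ - Cfsg.conjFun χ)) =
        -Cfsg.dadeIsometry A L H (χ - Cfsg.conjFun χ) := by
      rw [← dade_conj', conjFun_sub', conjFun_conjFun', ← dade_neg', neg_sub]
    rw [hTμν, conjFun_sub'] at hconj
    have hμ' := irr_conjFun hμ
    have hν' := irr_conjFun hν
    have hkey : μ + Cfsg.conjFun μ = ν + Cfsg.conjFun ν := by
      have : Cfsg.conjFun μ - Cfsg.conjFun ν = -(μ - ν) := hconj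
      linear_combination this
    have hin := congrArg (fun f => Cfsg.classInner f μ) hkey
    simp only [Cfsg.Agent.Lib.Helper25.classInner_add_left] at hin
    rw [Cfsg.Agent.Lib.Helper25.irr_norm_one μ hμ,
      Cfsg.Agent.Lib.Helper25.irr_orthogonal ν μ hν hμ (Ne.symm hμν),
      Cfsg.Agent.Lib.Helper25.irr_orthonormal _ μ hμ' hμ,
      Cfsg.Agent.Lib.Helper25.irr_orthonormal _ μ hν' hμ] at hin
    by_cases hνμ : Cfsg.conjFun ν = μ
    · refine ⟨μ, hμ, ?_⟩
      rw [hTμν]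
      have : ν = Cfsg.conjFun μ := by rw [← hνμ, conjFun_conjFun']
      rw [this]
    · exfalso
      rw [if_neg hνμ] at hin
      split_ifs at hin <;> norm_num at hin

end Cfsg.Agent.S1518
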