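import Cfsg.Statements.S1503
import Mathlib
import Cfsg.Agent.Lib.Helper25.Induced
import Cfsg.Agent.Lib.Helper25.Dual

set_option autoImplicit false
open Cfsg

namespace Cfsg.Agent.S1503

open Cfsg.Agent.Lib.Helper25

/-- A class function of `G` orthogonal to all members of a cyclic TI family vanishes on
`W ∖ (W₁ ∪ W₂)`. -/
theorem vanish_of_orth {G : Type*} [Group G] [Fintype G] (W₁ W₂ : Subgroup G)
    (hW : Cfsg.IsSelfNormalizingCyclic W₁ W₂) (χ : (↥(W₁ ⊔ W₂) →* ℂˣ) → (G → ℂ))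
    (hχ : Cfsg.IsCyclicTIFamily W₁ W₂ χ) (θ : G → ℂ) (hθ : Cfsg.IsClassFunction G θ)
    (horth : ∀ ω, Cfsg.classInner θ (χ ω) = 0) (w : ↥(W₁ ⊔ W₂)) (hw₁ : (w : G) ∉ W₁)
    (hw₂ : (w : G) ∉ W₂) : θ w = 0 := by
  classical
  have : Fintype ↥(W₁ ⊔ W₂) := Fintype.ofFinite _
  obtain ⟨-, -, hinf, -, hcyc, -⟩ := hW
  have hc : ∀ a b : ↥(W₁ ⊔ W₂), a * b = b * a := by
    intro a b
    let _ := IsCyclic.commGroup (α := ↥(W₁ ⊔ W₂))
    exact mul_comm a b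
  set N₁ : Subgroup ↥(W₁ ⊔ W₂) := W₁.subgroupOf (W₁ ⊔ W₂) with hN₁
  set N₂ : Subgroup ↥(W₁ ⊔ W₂) := W₂.subgroupOf (W₁ ⊔ W₂) with hN₂
  have hN : N₁ ⊓ N₂ = ⊥ := by
    rw [Subgroup.eq_bot_iff_forall]
    rintro x ⟨hx1, hx2⟩
    have : (x : G) ∈ W₁ ⊓ W₂ := ⟨Subgroup.mem_subgroupOf.mp hx1, Subgroup.mem_subgroupOf.mp hx2⟩
    rw [hinf, Subgroup.mem_bot] at this
    exact Subtype.ext this
  have hw₁' : w ∉ N₁ := fun h => hw₁ (Subgroup.mem_subgroupOf.mp h)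
  have hw₂' : w ∉ N₂ := fun h => hw₂ (Subgroup.mem_subgroupOf.mp h)
  have hFrob : ∀ φ ∈ dualOf N₂, ∀ ψ ∈ dualOf N₁,
      ∑ x : ↥(W₁ ⊔ W₂), (1 - ((φ x : ℂˣ) : ℂ) - ((ψ x : ℂˣ) : ℂ) + ((φ x : ℂˣ) : ℂ) * ((ψ x : ℂˣ) : ℂ))
        * (starRingEnd ℂ) (θ x) = 0 := by
    intro φ hφ ψ hψ
    rw [mem_dualOf] at hφ hψ
    by_cases hφ1 : φ = 1
    · subst hφ1
      simp
    by_cases hψ1 : ψ = 1
    · subst hψ1
      simp
    have hind := hχ.induced_eq φ ψ hφ1 hψ1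
      (fun x hx => hφ x (Subgroup.mem_subgroupOf.mpr hx))
      (fun x hx => hψ x (Subgroup.mem_subgroupOf.mpr hx))
    have hfr := frobenius_reciprocity (W₁ ⊔ W₂)
      (fun x => 1 - ((φ x : ℂˣ) : ℂ) - ((ψ x : ℂˣ) : ℂ) + ((φ x : ℂˣ) : ℂ) * ((ψ x : ℂˣ) : ℂ)) θ hθ
    rw [hind] at hfr
    have h0 : Cfsg.classInner (fun g => 1 - χ φ g - χ ψ g + χ (φ * ψ) g) θ = 0 := by
      have e : (fun g => 1 - χ φ g - χ ψ g + χ (φ * ψ) g) = χ 1 - χ φ - χ ψ + χ (φ * ψ) := by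
        funext g
        simp [hχ.map_one]
      rw [e, classInner_add_left, classInner_sub_left, classInner_sub_left,
        classInner_eq_zero_symm (horth 1), classInner_eq_zero_symm (horth φ),
        classInner_eq_zero_symm (horth ψ), classInner_eq_zero_symm (horth (φ * ψ))]
      ring
    rw [h0] at hfr
    unfold Cfsg.classInner at hfr
    have hcard : (Nat.card ↥(W₁ ⊔ W₂) : ℂ)⁻¹ ≠ 0 :=
      inv_ne_zero (Nat.cast_ne_zero.mpr Nat.card_pos.ne')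
    exact (mul_eq_zero.mp hfr.symm).resolve_left hcard
  have key := sum_dual_delta hc N₁ N₂ hN w hw₁' hw₂' (fun x => (starRingEnd ℂ) (θ x))
  have hL : ∑ φ ∈ dualOf N₂, ∑ ψ ∈ dualOf N₁, ((φ w⁻¹ : ℂˣ) : ℂ) * ((ψ w⁻¹ : ℂˣ) : ℂ) *
        ∑ x : ↥(W₁ ⊔ W₂), (1 - ((φ x : ℂˣ) : ℂ) - ((ψ x : ℂˣ) : ℂ) + ((φ x : ℂˣ) : ℂ) * ((ψ x : ℂˣ) : ℂ))
          * (starRingEnd ℂ) (θ x) = 0 := by
    apply Finset.sum_eq_zero
    intro φ hφ
    apply Finset.sum_eq_zero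
    intro ψ hψ
    rw [hFrob φ hφ ψ hψ, mul_zero]
  rw [hL] at key
  have h3 := mul_eq_zero.mp key.symm
  rcases h3 with h3 | h3
  · exfalso
    rcases mul_eq_zero.mp h3 with h4 | h4
    · exact card_dualOf_ne_zero N₂ h4
    · exact card_dualOf_ne_zero N₁ h4
  · simpa using h3

/-- Let W₁, W₂ ≤ G with W = W₁ ⊔ W₂ and let χ an orthonormal family of irreducible characters of G up to sign, indexed by the linear characters ω of W, with χ_1 = 1, χ_ω = ω on W outside W₁ ∪ W₂, and the induction identity for (1 − φ)(1 − ψ). If θ is an irreducible character of G orthogonal to χ ω for every linear character ω of W, then θ vanishes at every element of W lying outside W₁ ∪ W₂. -/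
theorem result {G : Type*} [Group G] [Fintype G] (W₁ W₂ : Subgroup G) (hW : Cfsg.IsSelfNormalizingCyclic W₁ W₂) (χ : (↥(W₁ ⊔ W₂) →* ℂˣ) → (G → ℂ)) (hχ : Cfsg.IsCyclicTIFamily W₁ W₂ χ) (θ : G → ℂ) (hθ : Cfsg.IsIrrCharacter G θ) (horth : ∀ ω, Cfsg.classInner θ (χ ω) = 0) (w : ↥(W₁ ⊔ W₂)) (hw₁ : (w : G) ∉ W₁) (hw₂ : (w : G) ∉ W₂) : θ w = 0 := by
  exact vanish_of_orth W₁ W₂ hW χ hχ θ (isClassFunction_of_isCharacter (isCharacter_of_irr hθ)) horth w hw₁ hw₂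

end Cfsg.Agent.S1503
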