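import Cfsg.Statements.S1508
import Mathlib
import Cfsg.Agent.S1503
import Cfsg.Agent.Lib.Helper25.Rational
import Cfsg.Agent.Lib.Helper78.CharValues

set_option autoImplicit false
open Cfsg

namespace Cfsg.Agent.S1508

open Cfsg.Agent.Lib.Helper25

/-- In a group of odd order, a nontrivial element has nontrivial square. -/
theorem sq_ne_one_of_odd {W : Type*} [Group W] [Finite W] (hodd : Odd (Nat.card W)) (a : W)
    (ha : a ≠ 1) : a * a ≠ 1 := by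
  intro h
  have h2 : orderOf a ∣ 2 := orderOf_dvd_of_pow_eq_one (by rw [pow_two]; exact h)
  have h3 : orderOf a ∣ Nat.card W := orderOf_dvd_natCard a
  have h4 : orderOf a ∣ Nat.gcd 2 (Nat.card W) := Nat.dvd_gcd h2 h3
  have h5 : Nat.Coprime 2 (Nat.card W) := Nat.coprime_two_left.mpr hodd
  rw [Nat.Coprime.gcd_eq_one h5, Nat.dvd_one, orderOf_eq_one_iff] at h4
  exact ha h4

section

variable {G : Type*} [Group G] [Fintype G] (W₁ W₂ : Subgroup G)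

omit [Fintype G] in
/-- the product of nontrivial elements of `W₁` and `W₂` lies outside `W₁ ∪ W₂` -/
theorem mul_not_mem (hinf : W₁ ⊓ W₂ = ⊥) {a b : G} (ha : a ∈ W₁) (ha1 : a ≠ 1) (hb : b ∈ W₂)
    (hb1 : b ≠ 1) : a * b ∉ W₁ ∧ a * b ∉ W₂ := by
  constructor
  · intro h
    have hb' : b ∈ W₁ := by
      have := W₁.mul_mem (W₁.inv_mem ha) h
      rwa [inv_mul_cancel_left] at this
    have : b ∈ W₁ ⊓ W₂ := ⟨hb', hb⟩
    rw [hinf, Subgroup.mem_bot] at this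
    exact hb1 this
  · intro h
    have ha' : a ∈ W₂ := by
      have := W₂.mul_mem h (W₂.inv_mem hb)
      rwa [mul_inv_cancel_right] at this
    have : a ∈ W₁ ⊓ W₂ := ⟨ha, ha'⟩
    rw [hinf, Subgroup.mem_bot] at this
    exact ha1 this

/-- An irreducible character is, up to sign, a member of the family, or vanishes on
`W ∖ (W₁ ∪ W₂)`. -/
theorem irr_in_family_or_vanish (hW : Cfsg.IsSelfNormalizingCyclic W₁ W₂)
    (χ : (↥(W₁ ⊔ W₂) →* ℂˣ) → (G → ℂ)) (hχ : Cfsg.IsCyclicTIFamily W₁ W₂ χ) (θ₀ : G → ℂ)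
    (hθ₀ : Cfsg.IsIrrCharacter G θ₀) :
    (∃ ω', θ₀ = χ ω' ∨ θ₀ = -χ ω') ∨
      (∀ w : ↥(W₁ ⊔ W₂), (w : G) ∉ W₁ → (w : G) ∉ W₂ → θ₀ w = 0) := by
  by_cases h : ∃ ω', θ₀ = χ ω' ∨ θ₀ = -χ ω'
  · exact Or.inl h
  · right
    simp only [not_exists, not_or] at h
    have horth : ∀ ω', Cfsg.classInner θ₀ (χ ω') = 0 := by
      intro ω'
      rcases hχ.irr_or_neg ω' with h1 | h1
      · exact irr_orthogonal θ₀ (χ ω') hθ₀ h1 (h ω').1
      · have h2 : Cfsg.classInner θ₀ (-χ ω') = 0 := by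
          apply irr_orthogonal θ₀ (-χ ω') hθ₀ h1
          exact (h ω').2
        rw [classInner_neg_right, neg_eq_zero] at h2
        exact h2
    intro w hw₁ hw₂
    exact Cfsg.Agent.S1503.vanish_of_orth W₁ W₂ hW χ hχ θ₀
      (isClassFunction_of_isCharacter (isCharacter_of_irr hθ₀)) horth w hw₁ hw₂

/-- A function that is an irreducible character up to sign and agrees with the linear character
`ω` on `W ∖ (W₁ ∪ W₂)` is `χ ω`. -/
theorem family_unique (hW : Cfsg.IsSelfNormalizingCyclic W₁ W₂)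
    (hodd : Odd (Nat.card ↥(W₁ ⊔ W₂)))
    (χ : (↥(W₁ ⊔ W₂) →* ℂˣ) → (G → ℂ)) (hχ : Cfsg.IsCyclicTIFamily W₁ W₂ χ) (θ : G → ℂ)
    (hθ : Cfsg.IsIrrCharacter G θ ∨ Cfsg.IsIrrCharacter G (-θ)) (ω : ↥(W₁ ⊔ W₂) →* ℂˣ)
    (hθω : ∀ w : ↥(W₁ ⊔ W₂), (w : G) ∉ W₁ → (w : G) ∉ W₂ → θ w = ((ω w : ℂˣ) : ℂ)) :
    θ = χ ω := by
  have hW' := hW
  obtain ⟨hW₁, hW₂, hinf, -, -, -⟩ := hW'
  obtain ⟨⟨a₀, ha₀⟩, ha₀1'⟩ := (Subgroup.ne_bot_iff_exists_ne_one.mp hW₁)
  obtain ⟨⟨b₀, hb₀⟩, hb₀1'⟩ := (Subgroup.ne_bot_iff_exists_ne_one.mp hW₂)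
  have ha₀1 : a₀ ≠ 1 := fun h => ha₀1' (Subtype.ext h)
  have hb₀1 : b₀ ≠ 1 := fun h => hb₀1' (Subtype.ext h)
  -- the element `a * b` of `W`
  have hmem : ∀ {a b : G}, a ∈ W₁ → b ∈ W₂ → a * b ∈ W₁ ⊔ W₂ := fun ha hb =>
    mul_mem (Subgroup.mem_sup_left ha) (Subgroup.mem_sup_right hb)
  -- Step 1: θ = c • χ ω' for a sign c
  obtain ⟨c, ω', hc, hθc⟩ : ∃ (c : ℂ) (ω' : ↥(W₁ ⊔ W₂) →* ℂˣ), (c = 1 ∨ c = -1) ∧ θ = c • χ ω' := by
    have hne : θ (a₀ * b₀) ≠ 0 := by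
      have h1 := mul_not_mem W₁ W₂ hinf ha₀ ha₀1 hb₀ hb₀1
      have h2 := hθω ⟨a₀ * b₀, hmem ha₀ hb₀⟩ h1.1 h1.2
      change θ (a₀ * b₀) = _ at h2
      rw [h2]
      exact Units.ne_zero _
    have h1 := mul_not_mem W₁ W₂ hinf ha₀ ha₀1 hb₀ hb₀1
    rcases hθ with hθ | hθ
    · rcases irr_in_family_or_vanish W₁ W₂ hW χ hχ θ hθ with ⟨ω', h | h⟩ | h
      · exact ⟨1, ω', Or.inl rfl, by rw [one_smul]; exact h⟩
      · exact ⟨-1, ω', Or.inr rfl, by rw [neg_one_smul]; exact h⟩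
      · exfalso
        exact hne (h ⟨a₀ * b₀, hmem ha₀ hb₀⟩ h1.1 h1.2)
    · rcases irr_in_family_or_vanish W₁ W₂ hW χ hχ (-θ) hθ with ⟨ω', h | h⟩ | h
      · exact ⟨-1, ω', Or.inr rfl, by rw [neg_one_smul, ← h, neg_neg]⟩
      · exact ⟨1, ω', Or.inl rfl, by rw [one_smul]; exact neg_injective h⟩
      · exfalso
        have := h ⟨a₀ * b₀, hmem ha₀ hb₀⟩ h1.1 h1.2
        rw [Pi.neg_apply, neg_eq_zero] at this
        exact hne this
  -- Step 2: values on A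
  have hval : ∀ w : ↥(W₁ ⊔ W₂), (w : G) ∉ W₁ → (w : G) ∉ W₂ →
      ((ω w : ℂˣ) : ℂ) = c * ((ω' w : ℂˣ) : ℂ) := by
    intro w hw₁ hw₂
    rw [← hθω w hw₁ hw₂, hθc, Pi.smul_apply, smul_eq_mul, hχ.eq_on ω' w hw₁ hw₂]
  have hoddW : ∀ x : ↥(W₁ ⊔ W₂), x ≠ 1 → x * x ≠ 1 := fun x hx => sq_ne_one_of_odd hodd x hx
  -- Step 3: ω = ω'
  have hωω' : ω = ω' := by
    apply hom_ext_sup W₁ W₂
    · intro w hw
      by_cases hw1 : w = 1
      · rw [hw1, map_one, map_one]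
      · -- a := w
        have hwG1 : (w : G) ≠ 1 := fun h => hw1 (Subtype.ext h)
        have hwwG1 : (w : G) * (w : G) ≠ 1 := by
          intro h
          apply hoddW w hw1
          exact Subtype.ext h
        have hA1 := mul_not_mem W₁ W₂ hinf hw hwG1 hb₀ hb₀1
        have hA2 := mul_not_mem W₁ W₂ hinf (W₁.mul_mem hw hw) hwwG1 hb₀ hb₀1
        set u : ↥(W₁ ⊔ W₂) := ⟨(w : G) * b₀, hmem hw hb₀⟩ with hu
        have hwu : ((w * u : ↥(W₁ ⊔ W₂)) : G) = (w : G) * (w : G) * b₀ := by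
          rw [hu]
          simp [mul_assoc]
        have e1 := hval u hA1.1 hA1.2
        have e2 := hval (w * u) (by rw [hwu]; exact hA2.1) (by rw [hwu]; exact hA2.2)
        rw [map_mul, map_mul, Units.val_mul, Units.val_mul] at e2
        have hu0 : ((ω u : ℂˣ) : ℂ) ≠ 0 := Units.ne_zero _
        have e3 : ((ω w : ℂˣ) : ℂ) * ((ω u : ℂˣ) : ℂ) = ((ω' w : ℂˣ) : ℂ) * ((ω u : ℂˣ) : ℂ) := by
          rw [e2, e1]
          ring
        exact Units.ext (mul_right_cancel₀ hu0 e3)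
    · intro w hw
      by_cases hw1 : w = 1
      · rw [hw1, map_one, map_one]
      · have hwG1 : (w : G) ≠ 1 := fun h => hw1 (Subtype.ext h)
        have hwwG1 : (w : G) * (w : G) ≠ 1 := by
          intro h
          apply hoddW w hw1
          exact Subtype.ext h
        have hA1 := mul_not_mem W₁ W₂ hinf ha₀ ha₀1 hw hwG1
        have hA2 := mul_not_mem W₁ W₂ hinf ha₀ ha₀1 (W₂.mul_mem hw hw) hwwG1
        set u : ↥(W₁ ⊔ W₂) := ⟨a₀ * (w : G), hmem ha₀ hw⟩ with hu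
        have hwu : ((u * w : ↥(W₁ ⊔ W₂)) : G) = a₀ * ((w : G) * (w : G)) := by
          rw [hu]
          simp [mul_assoc]
        have e1 := hval u hA1.1 hA1.2
        have e2 := hval (u * w) (by rw [hwu]; exact hA2.1) (by rw [hwu]; exact hA2.2)
        rw [map_mul, map_mul, Units.val_mul, Units.val_mul] at e2
        have hu0 : ((ω u : ℂˣ) : ℂ) ≠ 0 := Units.ne_zero _
        have e3 : ((ω u : ℂˣ) : ℂ) * ((ω w : ℂˣ) : ℂ) = ((ω u : ℂˣ) : ℂ) * ((ω' w : ℂˣ) : ℂ) := by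
          rw [e2, e1]
          ring
        exact Units.ext (mul_left_cancel₀ hu0 e3)
  -- Step 4: c = 1
  subst hωω'
  have hc1 : c = 1 := by
    have h1 := mul_not_mem W₁ W₂ hinf ha₀ ha₀1 hb₀ hb₀1
    have e1 := hval ⟨a₀ * b₀, hmem ha₀ hb₀⟩ h1.1 h1.2
    have hu0 : ((ω ⟨a₀ * b₀, hmem ha₀ hb₀⟩ : ℂˣ) : ℂ) ≠ 0 := Units.ne_zero _
    have e2 : 1 * ((ω ⟨a₀ * b₀, hmem ha₀ hb₀⟩ : ℂˣ) : ℂ) = c * ((ω ⟨a₀ * b₀, hmem ha₀ hb₀⟩ : ℂˣ) : ℂ) := by
      rw [one_mul]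
      exact e1
    exact (mul_right_cancel₀ hu0 e2).symm
  rw [hθc, hc1, one_smul]


/-- Galois properties of the values of a character up to sign. -/
theorem signed_char_galois {F : G → ℂ} (hF : Cfsg.IsCharacter G F ∨ Cfsg.IsCharacter G (-F)) (g : G)
    (m : ℕ) (hm : 0 < m) (hgm : g ^ m = 1) (ζ : ℂ) (hζ : IsPrimitiveRoot ζ m) :
    F g ∈ IntermediateField.adjoin ℚ ({ζ} : Set ℂ) ∧ IsIntegral ℤ (F g) ∧
      ∀ (k : ℕ) (σ : ℂ ≃+* ℂ), (∀ μ : ℂ, μ ^ m = 1 → σ μ = μ ^ k) → σ (F g) = F (g ^ k) := by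
  have key : ∀ F' : G → ℂ, Cfsg.IsCharacter G F' →
      F' g ∈ IntermediateField.adjoin ℚ ({ζ} : Set ℂ) ∧ IsIntegral ℤ (F' g) ∧
      ∀ (k : ℕ) (σ : ℂ ≃+* ℂ), (∀ μ : ℂ, μ ^ m = 1 → σ μ = μ ^ k) → σ (F' g) = F' (g ^ k) := by
    intro F' hF'
    refine ⟨?_, Cfsg.Agent.Lib.Helper78.IsCharacter.isIntegral hF' g, ?_⟩
    · obtain ⟨n, ρ, rfl⟩ := hF'
      exact Cfsg.Agent.Lib.Helper76.character_mem_adjoin ρ m hm ζ hζ g hgm
    · obtain ⟨n, ρ, rfl⟩ := hF'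
      intro k σ hσ
      obtain ⟨μ, hμ, hpow⟩ := Cfsg.Agent.Lib.Helper76.exists_character_pow_eq_sum ρ g m hm hgm
      have h1 := hpow 1
      rw [pow_one] at h1
      rw [h1, hpow k, map_sum]
      apply Finset.sum_congr rfl
      intro i _
      rw [pow_one, hσ (μ i) (hμ i)]
  rcases hF with hF | hF
  · exact key F hF
  · obtain ⟨h1, h2, h3⟩ := key (-F) hF
    refine ⟨?_, ?_, ?_⟩
    · have := neg_mem h1
      simpa using this
    · have := h2.neg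
      simpa using this
    · intro k σ hσ
      have := h3 k σ hσ
      simp only [Pi.neg_apply, map_neg, neg_inj] at this
      exact this

end

/-- Let W₁, W₂ ≤ G form a self-normalising cyclic subgroup W = W₁ ⊔ W₂ of odd order and χ an orthonormal family of irreducible characters of G up to sign, indexed by the linear characters ω of W, with χ_1 = 1, χ_ω = ω on W outside W₁ ∪ W₂, and the induction identity for (1 − φ)(1 − ψ). Let ω be a linear character of W and g an element of G whose order is coprime to the order of ω. Then χ ω g is an integer. -/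
theorem result {G : Type*} [Group G] [Fintype G] (W₁ W₂ : Subgroup G) (hW : Cfsg.IsSelfNormalizingCyclic W₁ W₂) (hodd : Odd (Nat.card ↥(W₁ ⊔ W₂))) (χ : (↥(W₁ ⊔ W₂) →* ℂˣ) → (G → ℂ)) (hχ : Cfsg.IsCyclicTIFamily W₁ W₂ χ) (ω : ↥(W₁ ⊔ W₂) →* ℂˣ) (g : G) (hg : Nat.Coprime (orderOf g) (orderOf ω)) : ∃ n : ℤ, χ ω g = n := by
  classical
  have hirrchar : ∀ F : G → ℂ, (Cfsg.IsIrrCharacter G F ∨ Cfsg.IsIrrCharacter G (-F)) →
      (Cfsg.IsCharacter G F ∨ Cfsg.IsCharacter G (-F)) := by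
    intro F hF
    rcases hF with h | h
    · exact Or.inl (isCharacter_of_irr h)
    · exact Or.inr (isCharacter_of_irr h)
  set m := orderOf g with hm_def
  have hm : 0 < m := orderOf_pos g
  obtain ⟨t, ht_def⟩ : ∃ t, t = orderOf ω := ⟨_, rfl⟩
  have ht : 0 < t := by rw [ht_def]; exact orderOf_pos ω
  rw [← ht_def] at hg
  have hωt' : ∀ w, (ω w : ℂˣ) ^ t = 1 := by
    intro w
    have := DFunLike.congr_fun (pow_orderOf_eq_one ω) w
    rw [ht_def]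
    exact this
  have hgm : g ^ m = 1 := pow_orderOf_eq_one g
  let ζ : ℂ := Complex.exp (2 * Real.pi * Complex.I / m)
  have hζ : IsPrimitiveRoot ζ m := Complex.isPrimitiveRoot_exp m hm.ne'
  obtain ⟨hx1, hx2, hx3⟩ := signed_char_galois (hirrchar _ (hχ.irr_or_neg ω)) g m hm hgm ζ hζ
  have hfix : ∀ k : ℕ, k.Coprime m → ∀ σ : ℂ ≃+* ℂ, (∀ μ : ℂ, μ ^ m = 1 → σ μ = μ ^ k) →
      σ (χ ω g) = χ ω g := by
    intro k hk σ hσ
    rw [hx3 k σ hσ]
    obtain ⟨k', hk'm, hk't⟩ := Nat.chineseRemainder hg k 1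
    have hk'cop : Nat.Coprime k' (m * t) := by
      apply Nat.Coprime.mul_right
      · have := hk'm.gcd_eq
        unfold Nat.Coprime
        rw [this]
        exact hk
      · have := hk't.gcd_eq
        unfold Nat.Coprime
        rw [this]
        exact Nat.gcd_one_left t
    obtain ⟨σ', hσ'⟩ := Cfsg.Agent.Lib.Helper75.exists_ringEquiv_pow (m * t) (Nat.mul_pos hm ht) k' hk'cop
    have hσ'm : ∀ μ : ℂ, μ ^ m = 1 → σ' μ = μ ^ k' := by
      intro μ hμ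
      apply hσ'
      rw [pow_mul, hμ, one_pow]
    have e1 : σ' (χ ω g) = χ ω (g ^ k') := hx3 k' σ' hσ'm
    have e2 : g ^ k' = g ^ k := pow_eq_pow_iff_modEq.mpr hk'm
    have e3 : (fun g => σ' (χ ω g)) = χ ω := by
      apply family_unique W₁ W₂ hW hodd χ hχ
      · rcases hχ.irr_or_neg ω with h | h
        · exact Or.inl (Cfsg.Agent.Lib.Helper81.isIrrCharacter_galois h σ')
        · right
          have := Cfsg.Agent.Lib.Helper81.isIrrCharacter_galois h σ'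
          have e : (fun g => σ' ((-χ ω) g)) = -(fun g => σ' (χ ω g)) := by
            funext g
            simp
          rw [e] at this
          exact this
      · intro w hw₁ hw₂
        show σ' (χ ω w) = _
        rw [hχ.eq_on ω w hw₁ hw₂]
        have hωt : ((ω w : ℂˣ) : ℂ) ^ (m * t) = 1 := by
          rw [mul_comm, pow_mul, ← Units.val_pow_eq_pow_val, hωt' w, Units.val_one, one_pow]
        rw [hσ' _ hωt, ← Units.val_pow_eq_pow_val]
        have hdvd : orderOf (ω w) ∣ t := orderOf_dvd_of_pow_eq_one (hωt' w)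
        have : (ω w) ^ k' = (ω w) ^ 1 := pow_eq_pow_iff_modEq.mpr (hk't.of_dvd hdvd)
        rw [this, pow_one]
    rw [← e2, ← e1]
    exact congrFun e3 g
  obtain ⟨q, hq⟩ := exists_rat_of_fixed' m hm ζ hζ (χ ω g) hx1 hfix
  rw [hq] at hx2 ⊢
  have h1 : IsIntegral ℤ q := by
    have hinj : Function.Injective (algebraMap ℚ ℂ) := (algebraMap ℚ ℂ).injective
    rw [← isIntegral_algebraMap_iff hinj]
    simpa using hx2
  obtain ⟨n, hn⟩ := IsIntegrallyClosed.algebraMap_eq_of_integral h1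
  refine ⟨n, ?_⟩
  rw [← hn]
  simp

end Cfsg.Agent.S1508
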