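import Cfsg.Statements.S0179
import Mathlib
import Cfsg.Agent.Lib.Helper79.Integrality

set_option autoImplicit false
open Cfsg

namespace Cfsg.Agent.S0179

open Cfsg.Agent.Lib.Helper79

variable {G : Type*} [Group G] {V : Type*} [AddCommGroup V] [Module ℂ V]

/-- central elements act as scalars -/
theorem center_scalar [FiniteDimensional ℂ V] (ρ : Representation ℂ G V) [ρ.IsIrreducible]
    (z : G) (hz : z ∈ Subgroup.center G) : ∃ c : ℂ, ρ z = c • LinearMap.id := by
  refine ⟨_, eq_smul_id_of_comm ρ (ρ z) (fun g => ?_)⟩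
  rw [← Module.End.mul_eq_comp, ← Module.End.mul_eq_comp, ← map_mul, ← map_mul]
  congr 1
  exact (Subgroup.mem_center_iff.mp hz g).symm

/-- the summand is constant on cosets of the centre -/
theorem summand_const [FiniteDimensional ℂ V] (ρ : Representation ℂ G V) [ρ.IsIrreducible]
    (g z : G) (hz : z ∈ Subgroup.center G) :
    ρ.character (g * z)⁻¹ • ρ (g * z) = ρ.character g⁻¹ • ρ g := by
  obtain ⟨c, hc⟩ := center_scalar ρ z hz
  have hV : Nontrivial V := Module.finrank_pos_iff.mp
      (Nat.pos_of_ne_zero (finrank_ne_zero_of_irreducible ρ))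
  obtain ⟨c', hc'⟩ := center_scalar ρ z⁻¹ (Subgroup.inv_mem _ hz)
  have hcc : c' * c = 1 := by
    have h1 : ρ z⁻¹ * ρ z = 1 := by rw [← map_mul, inv_mul_cancel, map_one]
    rw [hc, hc'] at h1
    obtain ⟨v, hv⟩ := exists_ne (0 : V)
    have h2 := LinearMap.congr_fun h1 v
    simp only [Module.End.mul_apply, LinearMap.smul_apply, LinearMap.id_apply, Module.End.one_apply,
      smul_smul] at h2
    have : (c' * c - 1) • v = 0 := by rw [sub_smul, h2, one_smul, sub_self]
    rcases smul_eq_zero.mp this with h | h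
    · exact sub_eq_zero.mp h
    · exact absurd h hv
  have e1 : ρ.character (g * z)⁻¹ = c' * ρ.character g⁻¹ := by
    unfold Representation.character
    rw [mul_inv_rev, map_mul, hc', smul_mul_assoc, map_smul, smul_eq_mul]
    congr 2
  have e2 : ρ (g * z) = c • ρ g := by
    rw [map_mul, hc, mul_smul_comm]
    congr 1
  rw [e1, e2, smul_smul]
  congr 1
  linear_combination (ρ.character g⁻¹) * hcc

/-- sum over a group as a sum over cosets -/
theorem sum_eq_sum_out_of_const {M : Type*} [AddCommMonoid M] [Fintype G] (Z : Subgroup G) [Fintype Z]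
    [Fintype (G ⧸ Z)]
    (F : G → M) (hF : ∀ g z, z ∈ Z → F (g * z) = F g) :
    ∑ g : G, F g = Fintype.card Z • ∑ q : G ⧸ Z, F q.out := by
  classical
  let φ : (G ⧸ Z) × Z → G := fun p => p.1.out * (p.2 : G)
  have hφ : Function.Bijective φ := by
    constructor
    · rintro ⟨q, z⟩ ⟨q', z'⟩ h
      simp only [φ] at h
      have hq : q = q' := by
        have h1 : (QuotientGroup.mk (q.out * (z : G)) : G ⧸ Z) = QuotientGroup.mk (q'.out * (z' : G)) := by
          rw [h]
        rw [QuotientGroup.mk_mul_of_mem _ z.2, QuotientGroup.mk_mul_of_mem _ z'.2] at h1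
        simpa using h1
      subst hq
      have : (z : G) = z' := mul_left_cancel h
      rw [Subtype.ext this]
    · intro g
      refine ⟨⟨QuotientGroup.mk g, ⟨(QuotientGroup.mk g : G ⧸ Z).out⁻¹ * g, ?_⟩⟩, ?_⟩
      · rw [← QuotientGroup.eq]; simp
      · simp [φ]
  rw [← Fintype.sum_bijective φ hφ (fun p => F (φ p)) F (fun _ => rfl), Fintype.sum_prod_type]
  simp only [φ]
  simp_rw [fun (q : G ⧸ Z) (z : Z) => hF q.out z z.2]
  simp [Finset.smul_sum]


/-- The degree of an irreducible complex representation of a finite group divides the index of the centre. -/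
theorem result {G : Type*} [Group G] [Finite G] {V : Type*} [AddCommGroup V] [Module ℂ V] [FiniteDimensional ℂ V] (ρ : Representation ℂ G V) [ρ.IsIrreducible] : Module.finrank ℂ V ∣ (Subgroup.center G).index := by
  classical
  have := Fintype.ofFinite G
  let Z := Subgroup.center G
  let F : G → Module.End ℂ V := fun g => ρ.character g⁻¹ • ρ g
  have hsum : ∑ g : G, F g = Fintype.card Z • ∑ q : G ⧸ Z, F q.out :=
    sum_eq_sum_out_of_const Z F (fun g z hz => summand_const ρ g z hz)
  have htot : ∑ g : G, F g = ((Fintype.card G : ℂ) / (Module.finrank ℂ V : ℂ)) • LinearMap.id :=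
    charSumOp_eq_smul ρ
  have hcard : Fintype.card G = Z.index * Fintype.card Z := by
    rw [← Nat.card_eq_fintype_card, ← Nat.card_eq_fintype_card, Subgroup.index_mul_card]
  have hn : (Module.finrank ℂ V : ℂ) ≠ 0 := by
    exact_mod_cast finrank_ne_zero_of_irreducible ρ
  have hZ0 : (Fintype.card Z : ℂ) ≠ 0 := by exact_mod_cast Fintype.card_ne_zero
  have hq : ∑ q : G ⧸ Z, F q.out = ((Z.index : ℂ) / (Module.finrank ℂ V : ℂ)) • LinearMap.id := by
    have h1 : (Fintype.card Z : ℂ) • ∑ q : G ⧸ Z, F q.out =
        (Fintype.card Z : ℂ) • (((Z.index : ℂ) / (Module.finrank ℂ V : ℂ)) • LinearMap.id) := by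
      rw [Nat.cast_smul_eq_nsmul, ← hsum, htot, smul_smul, hcard]
      congr 1
      push_cast
      field_simp
    exact smul_right_injective _ hZ0 h1
  apply dvd_of_isIntegral_div (finrank_ne_zero_of_irreducible ρ)
  let c : G → ℂ := fun g => if (QuotientGroup.mk g : G ⧸ Z).out = g then ρ.character g⁻¹ else 0
  have hc : ∀ g, IsIntegral ℤ (c g) := by
    intro g
    simp only [c]
    split_ifs
    · exact char_isIntegral ρ g⁻¹
    · exact isIntegral_zero
  have key : ∑ g : G, c g • ρ g = ((Z.index : ℂ) / (Module.finrank ℂ V : ℂ)) • LinearMap.id := by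
    rw [← hq]
    have himg : (Finset.univ : Finset (G ⧸ Z)).image Quotient.out =
        Finset.univ.filter (fun g : G => (QuotientGroup.mk g : G ⧸ Z).out = g) := by
      ext g
      simp only [Finset.mem_image, Finset.mem_univ, true_and, Finset.mem_filter]
      constructor
      · rintro ⟨q, rfl⟩
        simp
      · intro h
        exact ⟨_, h⟩
    have h2 : ∑ q : G ⧸ Z, F q.out = ∑ g ∈ (Finset.univ : Finset (G ⧸ Z)).image Quotient.out, F g := by
      refine (Finset.sum_image ?_).symm
      intro a _ b _ h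
      have := congrArg (fun g : G => (QuotientGroup.mk g : G ⧸ Z)) h
      simpa using this
    rw [h2, himg, Finset.sum_filter]
    apply Finset.sum_congr rfl
    intro g _
    simp only [c, F]
    split_ifs <;> simp
  apply isIntegral_of_sum_smul_eq_smul ρ c hc
  convert key

end Cfsg.Agent.S0179
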