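import Cfsg.Statements.S4713
import Cfsg.Agent.Lib.Helper80.ItoMichler
import Cfsg.Agent.Lib.Helper75.Ito
import Cfsg.Agent.Lib.Helper76.PCore
import Cfsg.Agent.Lib.Helper76.SylowNorm

set_option autoImplicit false
open Cfsg

namespace Cfsg.Agent.S4713

/-- Let p be a prime and G a finite p-solvable group. Then G has a normal abelian Sylow p-subgroup if and only if the degree of every irreducible character of G is prime to p. -/
theorem result {G : Type*} [Group G] [Finite G] (p : ℕ) [Fact p.Prime] (hsolv : Cfsg.IsPSolvable p G) (P : Sylow p G) : ((P : Subgroup G).Normal ∧ IsMulCommutative P) ↔ ∀ χ : Cfsg.IrrCharacter G, ¬ p ∣ Cfsg.charDegree (χ : G → ℂ) := by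
  classical
  let _ : Fintype G := Fintype.ofFinite G
  constructor
  · rintro ⟨hPn, hPc⟩ χ hdvd
    have hab : ∀ a ∈ (P : Subgroup G), ∀ b ∈ (P : Subgroup G), a * b = b * a := by
      intro a ha b hb
      have := hPc.is_comm.comm (⟨a, ha⟩ : P) ⟨b, hb⟩
      exact congrArg Subtype.val this
    exact P.not_dvd_index (dvd_trans hdvd (Cfsg.Agent.Lib.Helper75.ito (P : Subgroup G) hab (χ : G → ℂ) χ.2))
  · intro h
    obtain ⟨P0, hP0n, hP0ab, hP0p, hP0idx⟩ :=
      Cfsg.Agent.Lib.Helper80.ito_michler_aux p (fun H _ => Cfsg.IsPSolvable p H)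
        (fun H _ _ N _ hH => Cfsg.Agent.Lib.Helper76.IsPSolvable_of_surjective p
          (QuotientGroup.mk' N) (QuotientGroup.mk'_surjective N) hH)
        (fun H _ _ K hH => Cfsg.Agent.Lib.Helper80.isPSolvable_subgroup' p hH K)
        (fun H _ _ _ hH => Cfsg.Agent.Lib.Helper76.exists_normal_of_isPSolvable p hH)
        (Nat.card G) G rfl hsolv h
    have hn : ((hP0p.toSylow hP0idx : Sylow p G) : Subgroup G).Normal := by
      rw [IsPGroup.toSylow_coe]; exact hP0n
    have _ := Sylow.unique_of_normal (hP0p.toSylow hP0idx) hn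
    have hPeq : P = hP0p.toSylow hP0idx := Subsingleton.elim _ _
    have hPc : (P : Subgroup G) = P0 := by rw [hPeq, IsPGroup.toSylow_coe]
    refine ⟨by rw [hPc]; exact hP0n, ⟨⟨fun a b => ?_⟩⟩⟩
    apply Subtype.ext
    exact hP0ab a (hPc ▸ a.2) b (hPc ▸ b.2)

end Cfsg.Agent.S4713
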