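import Cfsg.Statements.S4768
import Cfsg.Agent.S4713
import Cfsg.Agent.Lib.Helper75.BGChar
import Cfsg.Agent.Lib.Helper78.CharValues

set_option autoImplicit false
open Cfsg

namespace Cfsg.Agent.S4768

open Cfsg.Agent.Lib

universe u

/-- an irreducible character which factors through an abelian image is linear -/
theorem degree_eq_one_of_comm_image {A B : Type*} [Group A] [Group B] [Finite A] (f : A →* B)
    (hf : Function.Surjective f) (hB : ∀ a b : B, a * b = b * a) {ψ : A → ℂ}
    (hψ : IsIrrCharacter A ψ) (h : ∀ k : A, f k = 1 → ψ k = ψ 1) : charDegree ψ = 1 := by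
  have : Finite B := Finite.of_surjective f hf
  have : IsMulCommutative B := ⟨⟨hB⟩⟩
  obtain ⟨χ', hχ', hχ'eq⟩ := Helper77.isIrrCharacter_deflate f.ker hψ
    (fun n hn => h n (MonoidHom.mem_ker.mp hn))
  let e := QuotientGroup.quotientKerEquivOfSurjective f hf
  have hχ : IsIrrCharacter B (χ' ∘ e.symm) := Helper81.isIrrCharacter_comp_mulEquiv hχ' e.symm
  have h1 := Helper78.IsIrrCharacter.map_one_of_comm hχ
  have h2 : (χ' ∘ e.symm) 1 = ψ 1 := by
    show χ' (e.symm 1) = ψ 1
    rw [map_one, ← hχ'eq 1]
    rfl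
  rw [h2, Helper78.IsCharacter.apply_one_eq_charDegree (Helper78.IsIrrCharacter.isCharacter hψ)]
    at h1
  exact_mod_cast h1

/-- the degree of an irreducible character which factors through `B` divides `|B|` -/
theorem degree_dvd_card_image {A B : Type*} [Group A] [Group B] [Finite A] (f : A →* B)
    (hf : Function.Surjective f) {ψ : A → ℂ}
    (hψ : IsIrrCharacter A ψ) (h : ∀ k : A, f k = 1 → ψ k = ψ 1) :
    charDegree ψ ∣ Nat.card B := by
  have : Finite B := Finite.of_surjective f hf
  obtain ⟨χ', hχ', hχ'eq⟩ := Helper77.isIrrCharacter_deflate f.ker hψ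
    (fun n hn => h n (MonoidHom.mem_ker.mp hn))
  let e := QuotientGroup.quotientKerEquivOfSurjective f hf
  have hχ : IsIrrCharacter B (χ' ∘ e.symm) := Helper81.isIrrCharacter_comp_mulEquiv hχ' e.symm
  have h1 := Helper79.irr_charDegree_dvd_card ⟨_, hχ⟩
  have h2 : (χ' ∘ e.symm) 1 = ψ 1 := by
    show χ' (e.symm 1) = ψ 1
    rw [map_one, ← hχ'eq 1]
    rfl
  rw [Helper78.IsCharacter.apply_one_eq_charDegree (Helper78.IsIrrCharacter.isCharacter hψ),
    Helper78.IsCharacter.apply_one_eq_charDegree (Helper78.IsIrrCharacter.isCharacter hχ)] at h2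
  have h3 : charDegree (χ' ∘ e.symm) = charDegree ψ := by exact_mod_cast h2
  rw [← h3]
  exact h1

/-- a nontrivial `p`-solvable group has a nontrivial normal subgroup which is abelian or a
`p'`-group -/
theorem exists_normal_abelian_or_coprime {H : Type u} [Group H] [Finite H] [Nontrivial H]
    (p : ℕ) [Fact p.Prime] (hH : IsPSolvable p H) :
    ∃ M : Subgroup H, M.Normal ∧ M ≠ ⊥ ∧
      ((∀ a ∈ M, ∀ b ∈ M, a * b = b * a) ∨ (Nat.card M).Coprime p) := by
  obtain ⟨M, hMn, hM1, hM⟩ := Helper76.exists_normal_of_isPSolvable p hH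
  rcases hM with hM | hM
  · have hnt : Nontrivial M := (Subgroup.nontrivial_iff_ne_bot M).mpr hM1
    have hZ : Nontrivial (Subgroup.center M) := hM.center_nontrivial
    refine ⟨(Subgroup.center M).map M.subtype, ConjAct.normal_of_characteristic_of_normal, ?_,
      Or.inl ?_⟩
    · intro h
      rw [Subgroup.map_eq_bot_iff_of_injective _ M.subtype_injective] at h
      exact (Subgroup.nontrivial_iff_ne_bot _).mp hZ h
    · rintro a ⟨a', ha', rfl⟩ b ⟨b', hb', rfl⟩
      have := Subgroup.mem_center_iff.mp ha' b'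
      show (a' : H) * (b' : H) = (b' : H) * (a' : H)
      exact_mod_cast this.symm
  · exact ⟨M, hMn, hM1, Or.inr hM⟩

/-- the key normal subgroup -/
theorem exists_good_normal {G : Type u} [Group G] [Finite G] (p : ℕ) [Fact p.Prime]
    (hG : IsPSolvable p G) (χ₀ : IrrCharacter G) (hχ₀ : p ∣ charDegree (χ₀ : G → ℂ)) :
    ∃ M : Subgroup G, M.Normal ∧
      (∃ χ : IrrCharacter G, p ∣ charDegree (χ : G → ℂ) ∧
        ∃ m ∈ M, (χ : G → ℂ) m ≠ (χ : G → ℂ) 1) ∧
      ∀ θ : IrrCharacter M, ¬ p ∣ charDegree (θ : M → ℂ) := by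
  classical
  let _ : Fintype G := Fintype.ofFinite G
  have hp1 : ¬ p ∣ 1 := fun h => (Fact.out : p.Prime).one_lt.ne' (Nat.dvd_one.mp h)
  let X := {χ : IrrCharacter G // p ∣ charDegree (χ : G → ℂ)}
  let R : Subgroup G := ⨅ χ : X, Helper80.charKer (χ.1 : G → ℂ)
    (Helper78.IsIrrCharacter.isCharacter χ.1.2)
  have hRn : R.Normal := Subgroup.normal_iInf_normal (fun χ => inferInstance)
  have hRmem : ∀ g, g ∈ R ↔ ∀ χ : X, (χ.1 : G → ℂ) g = (χ.1 : G → ℂ) 1 := by
    intro g
    simp only [R, Subgroup.mem_iInf, Helper80.mem_charKer]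
  have hnt : Nontrivial (G ⧸ R) := by
    by_contra hcon
    rw [not_nontrivial_iff_subsingleton] at hcon
    have hall : ∀ g : G, (χ₀ : G → ℂ) g = (χ₀ : G → ℂ) 1 := by
      intro g
      have : g ∈ R := by
        rw [← QuotientGroup.eq_one_iff]
        exact Subsingleton.elim _ _
      exact (hRmem g).mp this ⟨χ₀, hχ₀⟩
    have := degree_eq_one_of_comm_image (QuotientGroup.mk' R) (QuotientGroup.mk'_surjective R)
      (fun a b => Subsingleton.elim _ _) χ₀.2 (fun k _ => hall k)
    rw [this] at hχ₀
    exact hp1 hχ₀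
  obtain ⟨Mb, hMbn, hMb1, hMb⟩ := exists_normal_abelian_or_coprime p
    (Helper76.IsPSolvable_of_surjective p (QuotientGroup.mk' R)
      (QuotientGroup.mk'_surjective R) hG)
  set M : Subgroup G := Mb.comap (QuotientGroup.mk' R) with hM
  have hMn : M.Normal := hMbn.comap _
  refine ⟨M, hMn, ?_, ?_⟩
  · obtain ⟨x, hx, hx1⟩ : ∃ x ∈ Mb, x ≠ 1 := by
      by_contra h
      push Not at h
      exact hMb1 ((Subgroup.eq_bot_iff_forall _).mpr h)
    obtain ⟨g, rfl⟩ := QuotientGroup.mk'_surjective R x
    have hgR : g ∉ R := fun h => hx1 ((QuotientGroup.eq_one_iff g).mpr h)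
    rw [hRmem] at hgR
    push Not at hgR
    obtain ⟨χ, hχ⟩ := hgR
    exact ⟨χ.1, χ.2, g, hx, hχ⟩
  · intro θ hdvd
    let _ : Fintype M := Fintype.ofFinite M
    obtain ⟨χ, hχ, hover⟩ := Helper80.exists_irr_over' M θ.2
    have hχX : p ∣ charDegree χ :=
      dvd_trans hdvd (Helper80.charDegree_dvd_of_over M hχ θ.2 hover)
    have hker : ∀ k : M, (k : G) ∈ R → (θ : M → ℂ) k = (θ : M → ℂ) 1 := by
      intro k hk
      apply Helper75.constituent_ker
        (Helper75.isCharacter_res M (Helper78.IsIrrCharacter.isCharacter hχ)) θ hover k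
      exact (hRmem k).mp hk ⟨⟨χ, hχ⟩, hχX⟩
    let f : M →* Mb := (QuotientGroup.mk' R).subgroupComap Mb
    have hf : Function.Surjective f :=
      MonoidHom.subgroupComap_surjective_of_surjective _ _ (QuotientGroup.mk'_surjective R)
    have hfk : ∀ k : M, f k = 1 → (θ : M → ℂ) k = (θ : M → ℂ) 1 := by
      intro k hk
      apply hker
      have : (QuotientGroup.mk' R) (k : G) = 1 := congrArg Subtype.val hk
      exact (QuotientGroup.eq_one_iff _).mp this
    rcases hMb with hab | hcop
    · have := degree_eq_one_of_comm_image f hf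
        (fun a b => Subtype.ext (hab a a.2 b b.2)) θ.2 hfk
      rw [this] at hdvd
      exact hp1 hdvd
    · have := degree_dvd_card_image f hf θ.2 hfk
      exact (Nat.Prime.coprime_iff_not_dvd Fact.out).mp hcop.symm (dvd_trans hdvd this)

theorem main (p : ℕ) [Fact p.Prime] : ∀ (n : ℕ) (G : Type u) [Group G] [Finite G],
    IsPSolvable p G →
    Nat.card {χ : IrrCharacter G // p ∣ charDegree (χ : G → ℂ)} ≤ n → ∀ P : Sylow p G,
    derivedSeries ↥(P : Subgroup G) (n + 1) = ⊥ := by
  intro n
  induction n with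
  | zero =>
    intro G _ _ hG hcard P
    have hX : IsEmpty {χ : IrrCharacter G // p ∣ charDegree (χ : G → ℂ)} := by
      rcases Nat.card_eq_zero.mp (Nat.le_zero.mp hcard) with h | h
      · exact h
      · exact absurd h (not_infinite_iff_finite.mpr inferInstance)
    have h := (Cfsg.Agent.S4713.result p hG P).mpr (fun χ hd => hX.false ⟨χ, hd⟩)
    rw [derivedSeries_succ, derivedSeries_zero, Subgroup.commutator_eq_bot_iff_le_centralizer]
    intro x _
    rw [Subgroup.mem_centralizer_iff]
    intro y _
    exact h.2.is_comm.comm y x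
  | succ n ih =>
    intro G _ _ hG hcard P
    classical
    by_cases hle : Nat.card {χ : IrrCharacter G // p ∣ charDegree (χ : G → ℂ)} ≤ n
    · have := ih G hG hle P
      rw [derivedSeries_succ, this, Subgroup.commutator_bot_left]
    · have hne : Nonempty {χ : IrrCharacter G // p ∣ charDegree (χ : G → ℂ)} := by
        by_contra hcon
        rw [not_nonempty_iff] at hcon
        apply hle
        rw [Nat.card_eq_zero.mpr (Or.inl hcon)]
        exact Nat.zero_le _
      obtain ⟨⟨χ₀, hχ₀⟩⟩ := hne
      obtain ⟨M, hMn, ⟨χ₁, hχ₁, m, hm, hmne⟩, hdeg⟩ := exists_good_normal p hG χ₀ hχ₀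
      -- fewer `p`-singular characters in the quotient
      have hcardQ : Nat.card {χ' : IrrCharacter (G ⧸ M) // p ∣ charDegree (χ' : G ⧸ M → ℂ)} ≤ n := by
        let g : Option {χ' : IrrCharacter (G ⧸ M) // p ∣ charDegree (χ' : G ⧸ M → ℂ)} →
            {χ : IrrCharacter G // p ∣ charDegree (χ : G → ℂ)} := fun o =>
          match o with
          | none => ⟨χ₁, hχ₁⟩
          | some χ' => ⟨Helper77.inflate M χ'.1, by
              rw [Helper80.charDegree_inflate]; exact χ'.2⟩
        have hg : Function.Injective g := by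
          intro a b hab
          rcases a with _ | a <;> rcases b with _ | b
          · rfl
          · exfalso
            have h1 : χ₁ = Helper77.inflate M b.1 := congrArg Subtype.val hab
            apply hmne
            rw [h1]
            exact Helper77.inflate_apply_of_mem M b.1 m hm
          · exfalso
            have h1 : Helper77.inflate M a.1 = χ₁ := congrArg Subtype.val hab
            apply hmne
            rw [← h1]
            exact Helper77.inflate_apply_of_mem M a.1 m hm
          · have h1 : Helper77.inflate M a.1 = Helper77.inflate M b.1 :=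
              congrArg Subtype.val hab
            rw [Subtype.ext (Helper77.inflate_injective M h1)]
        have h1 := Nat.card_le_card_of_injective g hg
        rw [Finite.card_option] at h1
        omega
      have hsurj := QuotientGroup.mk'_surjective M
      have hGQ : IsPSolvable p (G ⧸ M) :=
        Helper76.IsPSolvable_of_surjective p (QuotientGroup.mk' M) hsurj hG
      have hIH := ih (G ⧸ M) hGQ hcardQ (P.mapSurjective hsurj)
      let f₁ : ↥(P : Subgroup G) →* ↥((P.mapSurjective hsurj : Sylow p (G ⧸ M)) : Subgroup (G ⧸ M)) :=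
        ((QuotientGroup.mk' M).comp (P : Subgroup G).subtype).codRestrict _ (fun x => by
          rw [Sylow.coe_mapSurjective]
          exact ⟨x, x.2, rfl⟩)
      have hDM : ∀ x ∈ derivedSeries ↥(P : Subgroup G) (n + 1), ((x : ↥(P : Subgroup G)) : G) ∈ M := by
        intro x hx
        have h1 : f₁ x ∈ derivedSeries _ (n + 1) :=
          map_derivedSeries_le_derivedSeries f₁ (n + 1) ⟨x, hx, rfl⟩
        rw [hIH, Subgroup.mem_bot] at h1
        have h2 : (QuotientGroup.mk' M) (x : G) = 1 := congrArg Subtype.val h1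
        exact (QuotientGroup.eq_one_iff _).mp h2
      -- a Sylow subgroup of `M` containing `M ⊓ P`
      have hMP : IsPGroup p ((M ⊓ (P : Subgroup G)).subgroupOf M) := by
        have h1 : IsPGroup p (M ⊓ (P : Subgroup G) : Subgroup G) := P.2.to_le inf_le_right
        exact h1.comap_of_injective M.subtype M.subtype_injective
      obtain ⟨Q, hQ⟩ := hMP.exists_le_sylow
      have hQc := ((Cfsg.Agent.S4713.result p (Helper80.isPSolvable_subgroup' p hG M) Q).mpr hdeg).2
      rw [derivedSeries_succ, Subgroup.commutator_eq_bot_iff_le_centralizer]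
      intro x hx
      rw [Subgroup.mem_centralizer_iff]
      intro y hy
      have hxM := hDM x hx
      have hyM := hDM y hy
      have hxQ : (⟨(x : G), hxM⟩ : M) ∈ (Q : Subgroup M) :=
        hQ (Subgroup.mem_subgroupOf.mpr ⟨hxM, x.2⟩)
      have hyQ : (⟨(y : G), hyM⟩ : M) ∈ (Q : Subgroup M) :=
        hQ (Subgroup.mem_subgroupOf.mpr ⟨hyM, y.2⟩)
      have h1 := hQc.is_comm.comm (⟨_, hyQ⟩ : Q) ⟨_, hxQ⟩
      have h2 : (y : G) * (x : G) = (x : G) * (y : G) := by
        have := congrArg (fun q : Q => ((q : M) : G)) h1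
        exact this
      exact Subtype.ext h2

/-- Let p be a prime, G a finite p-solvable group and P a Sylow p-subgroup of G. If n is the number of irreducible complex characters of G whose degree is divisible by p, then the (n+1)-st term of the derived series of P is trivial. (The p-solvable case has a direct inductive proof.) -/
theorem result {G : Type*} [Group G] [Finite G] (p : ℕ) [Fact p.Prime] (hG : Cfsg.IsPSolvable p G) (P : Sylow p G) : derivedSeries ↥(P : Subgroup G) (Nat.card {χ : Cfsg.IrrCharacter G // p ∣ Cfsg.charDegree (χ : G → ℂ)} + 1) = ⊥ := by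
  exact main p _ G hG le_rfl P

end Cfsg.Agent.S4768
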