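import Cfsg.Statements.S1517
-- import your own Cfsg.Agent.* helpers here

import Cfsg.Agent.Lib.Helper26.SignLemma
import Cfsg.Agent.Lib.Helper26.IrrFactsInst
import Cfsg.Agent.Lib.Helper26.CohExt

set_option autoImplicit false
set_option linter.unusedSectionVars false
open Cfsg

namespace Cfsg.Agent.S1517

open Cfsg.Agent.Lib.Helper26
open scoped ComplexConjugate

section main

universe u v

variable {L : Type u} [Group L] [Fintype L] {G : Type v} [Group G] [Fintype G]

theorem conjFun_conjFun (χ : L → ℂ) : conjFun (conjFun χ) = χ := by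
  ext x; simp [conjFun]

theorem classInner_conjFun (a b : L → ℂ) :
    classInner (conjFun a) (conjFun b) = conj (classInner a b) := by
  unfold classInner conjFun
  rw [map_mul, map_inv₀, Complex.conj_natCast, map_sum]
  congr 1
  apply Finset.sum_congr rfl
  intro g _
  rw [map_mul]

theorem int_sub_sq_nonpos (b : ℤ) : b - b ^ 2 ≤ 0 := by nlinarith [sq_nonneg (2 * b - 1)]

theorem int_neg_sub_sq_nonpos (b : ℤ) : -b - b ^ 2 ≤ 0 := by nlinarith [sq_nonneg (2 * b + 1)]

variable {S : Set (L → ℂ)} {τ : (L → ℂ) → (G → ℂ)} {R : (L → ℂ) → Finset (G → ℂ)}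

/-- members of `S` are orthogonal to their conjugates -/
theorem inner_conj (hS : IsCoherenceSystem S τ R) {χ : L → ℂ} (hχ : χ ∈ S) :
    classInner χ (conjFun χ) = 0 :=
  hS.orthogonal χ hχ _ (hS.conj_mem χ hχ) (hS.conj_ne χ hχ).symm

theorem conj_inner (hS : IsCoherenceSystem S τ R) {χ : L → ℂ} (hχ : χ ∈ S) :
    classInner (conjFun χ) χ = 0 :=
  hS.orthogonal _ (hS.conj_mem χ hχ) χ hχ (hS.conj_ne χ hχ)

/-- the families attached to `χ` and to `ξ ≠ χ, conj χ` are orthogonal -/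
theorem R_orth (hS : IsCoherenceSystem S τ R) {χ ξ : L → ℂ} (hχ : χ ∈ S) (hξ : ξ ∈ S)
    (h1 : ξ ≠ χ) (h2 : ξ ≠ conjFun χ) : ∀ α ∈ R χ, ∀ β ∈ R ξ, classInner α β = 0 := by
  apply hS.disjoint ξ hξ χ hχ (hS.orthogonal χ hχ ξ hξ (Ne.symm h1))
  apply hS.orthogonal χ hχ _ (hS.conj_mem ξ hξ)
  intro h
  apply h2
  rw [h, conjFun_conjFun]

theorem sub_mem (hdeg : ∀ φ ∈ S, ∀ ψ ∈ S, φ 1 = ψ 1) {ξ φ : L → ℂ} (hξ : ξ ∈ S) (hφ : φ ∈ S) :
    ξ - φ ∈ zspanOn S ({1}ᶜ : Set L) :=
  mem_zspanOn_compl_one.2 ⟨zspan_sub (subset_zspan _ hξ) (subset_zspan _ hφ),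
    by simp [hdeg ξ hξ φ hφ]⟩

/-- The splitting of `τ (χ - ξ)` along `R χ` and `R ξ`. -/
theorem split (F' : IrrFacts G) (hS : IsCoherenceSystem S τ R)
    (hdeg : ∀ φ ∈ S, ∀ ψ ∈ S, φ 1 = ψ 1) {χ ξ : L → ℂ} (hχ : χ ∈ S) (hξ : ξ ∈ S)
    (h1 : ξ ≠ χ) (h2 : ξ ≠ conjFun χ) :
    ∃ b : (G → ℂ) → ℤ,
      τ (χ - ξ) = ∑ α ∈ R χ, b α • α + ∑ β ∈ R ξ, b β • β ∧
      (∀ α ∈ R χ, classInner (τ (χ - ξ)) α = b α) ∧
      (∑ α ∈ R χ, ((b α : ℂ)) ^ 2 = classInner χ χ) ∧
      (∑ α ∈ R χ, (b α : ℂ) = classInner χ χ) := by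
  classical
  have hRorth := R_orth hS hχ hξ h1 h2
  have hχξ : classInner χ ξ = 0 := hS.orthogonal χ hχ ξ hξ (Ne.symm h1)
  have hξχ : classInner ξ χ = 0 := hS.orthogonal ξ hξ χ hχ h1
  have hξχc : classInner ξ (conjFun χ) = 0 := hS.orthogonal ξ hξ _ (hS.conj_mem χ hχ) h2
  have hχξc : classInner χ (conjFun ξ) = 0 := by
    apply hS.orthogonal χ hχ _ (hS.conj_mem ξ hξ)
    intro h
    apply h2
    rw [h, conjFun_conjFun]
  have hdisj : Disjoint (R χ) (R ξ) := by
    rw [Finset.disjoint_left]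
    intro α hα hα'
    have h0 := hRorth α hα α hα'
    rw [hS.orthonormal χ hχ α hα α hα, if_pos rfl] at h0
    exact one_ne_zero h0
  have hon : ∀ i ∈ R χ ∪ R ξ, ∀ j ∈ R χ ∪ R ξ,
      classInner (id i : G → ℂ) (id j) = if i = j then 1 else 0 := by
    intro i hi j hj
    simp only [id]
    rcases Finset.mem_union.1 hi with hi' | hi'
    · rcases Finset.mem_union.1 hj with hj' | hj'
      · exact hS.orthonormal χ hχ i hi' j hj'
      · rw [hRorth i hi' j hj', if_neg]
        rintro rfl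
        exact Finset.disjoint_left.1 hdisj hi' hj'
    · rcases Finset.mem_union.1 hj with hj' | hj'
      · rw [← classInner_conj_symm, hRorth j hj' i hi', if_neg]
        · simp
        · rintro rfl
          exact Finset.disjoint_left.1 hdisj hj' hi'
      · exact hS.orthonormal ξ hξ i hi' j hj'
  have hgen : ∀ i ∈ R χ ∪ R ξ, IsGeneralizedCharacter G (id i : G → ℂ) := by
    intro i hi
    rcases Finset.mem_union.1 hi with hi' | hi'
    · exact hS.virtual χ hχ i hi'
    · exact hS.virtual ξ hξ i hi'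
  have hmem := sub_mem hdeg hχ hξ
  have hΘgen : IsGeneralizedCharacter G (τ (χ - ξ)) := isom_gen hS.isometry hmem
  obtain ⟨b, Γ, hΓgen, hΘeq, hb, -, hΓnorm⟩ := F'.exists_orth_decomp (R χ ∪ R ξ) id hon hgen hΘgen
  simp only [id] at hΘeq hb hΓnorm
  rw [Finset.sum_union hdisj] at hΘeq hΓnorm
  -- the norm of Θ
  have hΘΘ : classInner (τ (χ - ξ)) (τ (χ - ξ)) = classInner χ χ + classInner ξ ξ := by
    rw [isom_inner hS.isometry hmem hmem]
    simp only [classInner_sub_left, classInner_sub_right, hχξ, hξχ]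
    ring
  -- the two coefficient sums
  have hsum1 : ∑ α ∈ R χ, (b α : ℂ) = classInner χ χ := by
    have hm2 := sub_mem hdeg hχ (hS.conj_mem χ hχ)
    have h := isom_inner hS.isometry hmem hm2
    rw [hS.sum_eq χ hχ, classInner_sum_right] at h
    rw [Finset.sum_congr rfl (fun α hα => hb α (Finset.mem_union_left _ hα))] at h
    rw [h]
    simp only [classInner_sub_left, classInner_sub_right, hξχ, hξχc, inner_conj hS hχ]
    ring
  have hsum2 : ∑ β ∈ R ξ, (b β : ℂ) = - classInner ξ ξ := by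
    have hm2 := sub_mem hdeg hξ (hS.conj_mem ξ hξ)
    have h := isom_inner hS.isometry hmem hm2
    rw [hS.sum_eq ξ hξ, classInner_sum_right] at h
    rw [Finset.sum_congr rfl (fun α hα => hb α (Finset.mem_union_right _ hα))] at h
    rw [h]
    simp only [classInner_sub_left, classInner_sub_right, hχξ, hχξc, inner_conj hS hξ]
    ring
  obtain ⟨g, hg⟩ := F'.norm_nat hΓgen
  -- the integer identity
  have hZ : (g : ℤ) = ∑ α ∈ R χ, (b α - (b α) ^ 2) + ∑ β ∈ R ξ, (-(b β) - (b β) ^ 2) := by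
    have : ((g : ℤ) : ℂ) =
        ((∑ α ∈ R χ, (b α - (b α) ^ 2) + ∑ β ∈ R ξ, (-(b β) - (b β) ^ 2) : ℤ) : ℂ) := by
      push_cast
      rw [Finset.sum_sub_distrib, Finset.sum_sub_distrib, Finset.sum_neg_distrib, hsum1, hsum2]
      have : ((g : ℕ) : ℂ) = classInner Γ Γ := hg.symm
      rw [this, hΓnorm, hΘΘ]
      ring
    exact_mod_cast this
  have hn1 : ∑ α ∈ R χ, (b α - (b α) ^ 2) ≤ 0 :=
    Finset.sum_nonpos fun α _ => int_sub_sq_nonpos _
  have hn2 : ∑ β ∈ R ξ, (-(b β) - (b β) ^ 2) ≤ 0 :=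
    Finset.sum_nonpos fun α _ => int_neg_sub_sq_nonpos _
  have hg0 : g = 0 := by
    have : (0 : ℤ) ≤ g := by positivity
    omega
  have hs1 : ∑ α ∈ R χ, (b α - (b α) ^ 2) = 0 := by
    rw [hg0] at hZ
    push_cast at hZ
    omega
  have hΓ0 : Γ = 0 := by
    apply classInner_self_eq_zero
    rw [hg, hg0]; simp
  refine ⟨b, ?_, fun α hα => hb α (Finset.mem_union_left _ hα), ?_, hsum1⟩
  · rw [hΘeq, hΓ0, zero_add]
  · rw [← hsum1]
    have : ((∑ α ∈ R χ, (b α - (b α) ^ 2) : ℤ) : ℂ) = 0 := by rw [hs1]; simp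
    push_cast at this
    rw [Finset.sum_sub_distrib] at this
    linear_combination -this

omit [Group L] [Fintype L] in
/-- inner product of two integer combinations of an orthonormal family -/
theorem inner_comb {T : Finset (G → ℂ)}
    (hT : ∀ α ∈ T, ∀ β ∈ T, classInner α β = if α = β then 1 else 0) (b c : (G → ℂ) → ℤ) :
    classInner (∑ α ∈ T, b α • α) (∑ β ∈ T, c β • β) = ∑ α ∈ T, (b α : ℂ) * (c α : ℂ) := by
  classical
  rw [classInner_sum_left]
  apply Finset.sum_congr rfl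
  intro α hα
  rw [classInner_zsmul_left, classInner_sum_right]
  have : ∀ β ∈ T, classInner α (c β • β) = if α = β then (c β : ℂ) else 0 := by
    intro β hβ
    rw [classInner_zsmul_right, hT α hα β hβ]
    split_ifs <;> simp
  rw [Finset.sum_congr rfl this, Finset.sum_ite_eq T α, if_pos hα]

omit [Group L] [Fintype L] in
/-- integer combinations of mutually orthogonal families are orthogonal -/
theorem inner_comb_orth {T T' : Finset (G → ℂ)}
    (hT : ∀ α ∈ T, ∀ β ∈ T', classInner α β = 0) (b c : (G → ℂ) → ℤ) :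
    classInner (∑ α ∈ T, b α • α) (∑ β ∈ T', c β • β) = 0 := by
  rw [classInner_sum_left]
  apply Finset.sum_eq_zero
  intro α hα
  rw [classInner_zsmul_left, classInner_sum_right]
  have : ∑ β ∈ T', classInner α (c β • β) = 0 := by
    apply Finset.sum_eq_zero
    intro β hβ
    rw [classInner_zsmul_right, hT α hα β hβ, mul_zero]
  rw [this, mul_zero]

omit [Group L] [Fintype L] in
theorem sum_eq_comb_one (T : Finset (G → ℂ)) : ∑ α ∈ T, α = ∑ α ∈ T, (fun _ => (1 : ℤ)) α • α := by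
  simp

/-- the candidate image of `χ` -/
theorem exists_A (F : IrrFacts L) (F' : IrrFacts G) (hS : IsCoherenceSystem S τ R)
    (hdeg : ∀ φ ∈ S, ∀ ψ ∈ S, φ 1 = ψ 1) {χ : L → ℂ} (hχ : χ ∈ S) :
    ∃ A : G → ℂ, IsGeneralizedCharacter G A ∧ classInner A A = classInner χ χ ∧
      ∀ ξ ∈ S, ξ ≠ χ → classInner A (τ (χ - ξ)) = classInner χ χ := by
  classical
  have hRχon := hS.orthonormal χ hχ
  have hgenA : ∀ b : (G → ℂ) → ℤ, IsGeneralizedCharacter G (∑ α ∈ R χ, b α • α) :=
    fun b => F'.gen_sum _ _ fun α hα => F'.gen_zsmul _ (hS.virtual χ hχ α hα)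
  have hconjcase : ∀ b : (G → ℂ) → ℤ,
      classInner (∑ α ∈ R χ, b α • α) (τ (χ - conjFun χ)) = ∑ α ∈ R χ, (b α : ℂ) := by
    intro b
    rw [hS.sum_eq χ hχ, sum_eq_comb_one, inner_comb hRχon]
    simp
  by_cases hex : ∃ ξ₀ ∈ S, ξ₀ ≠ χ ∧ ξ₀ ≠ conjFun χ
  · obtain ⟨ξ₀, hξ₀, h1, h2⟩ := hex
    obtain ⟨b, hΘ₀, hb, hsq, hsum⟩ := split F' hS hdeg hχ hξ₀ h1 h2
    have hAA : classInner (∑ α ∈ R χ, b α • α) (∑ α ∈ R χ, b α • α) = classInner χ χ := by
      rw [inner_comb hRχon, ← hsq]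
      apply Finset.sum_congr rfl
      intro α _
      ring
    have hR0 := R_orth hS hχ hξ₀ h1 h2
    have hAY : classInner (∑ α ∈ R χ, b α • α) (∑ β ∈ R ξ₀, b β • β) = 0 :=
      inner_comb_orth hR0 b b
    have hAΘ₀ : classInner (∑ α ∈ R χ, b α • α) (τ (χ - ξ₀)) = classInner χ χ := by
      rw [hΘ₀, classInner_add_right, hAA, hAY, add_zero]
    refine ⟨∑ α ∈ R χ, b α • α, hgenA b, hAA, ?_⟩
    intro ξ hξ hne
    by_cases hc : ξ = conjFun χ
    · rw [hc, hconjcase, hsum]
    by_cases hξ₀' : ξ = ξ₀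
    · rw [hξ₀']; exact hAΘ₀
    by_cases hξ₀c : ξ = conjFun ξ₀
    · have hdec : χ - ξ = (χ - ξ₀) + (ξ₀ - conjFun ξ₀) := by rw [hξ₀c]; abel
      rw [hdec, isom_add hS.isometry (sub_mem hdeg hχ hξ₀)
        (sub_mem hdeg hξ₀ (hS.conj_mem ξ₀ hξ₀)), classInner_add_right, hAΘ₀, hS.sum_eq ξ₀ hξ₀,
        sum_eq_comb_one, inner_comb_orth hR0, add_zero]
    · obtain ⟨b', hΘ, -, -, -⟩ := split F' hS hdeg hχ hξ hne hc
      have hAeq : ∑ α ∈ R χ, b α • α = τ (χ - ξ₀) - ∑ β ∈ R ξ₀, b β • β := by rw [hΘ₀]; abel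
      have hR1 : ∀ β ∈ R ξ₀, ∀ α ∈ R χ, classInner β α = 0 := by
        intro β hβ α hα
        rw [← classInner_conj_symm, hR0 α hα β hβ]; simp
      have hR2 := R_orth hS hξ₀ hξ hξ₀' hξ₀c
      have hYΘ : classInner (∑ β ∈ R ξ₀, b β • β) (τ (χ - ξ)) = 0 := by
        rw [hΘ, classInner_add_right, inner_comb_orth hR1, inner_comb_orth hR2, add_zero]
      rw [hAeq, classInner_sub_left, hYΘ, sub_zero,
        isom_inner hS.isometry (sub_mem hdeg hχ hξ₀) (sub_mem hdeg hχ hξ)]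
      simp only [classInner_sub_left, classInner_sub_right,
        hS.orthogonal χ hχ ξ hξ (Ne.symm hne), hS.orthogonal ξ₀ hξ₀ χ hχ h1,
        hS.orthogonal ξ₀ hξ₀ ξ hξ (Ne.symm hξ₀')]
      ring
  · have hex' : ∀ ξ₀ ∈ S, ξ₀ ≠ χ → ξ₀ = conjFun χ := by
      intro ξ₀ h h1
      by_contra h2
      exact hex ⟨ξ₀, h, h1, h2⟩
    obtain ⟨n, hn⟩ := F.norm_nat (isGeneralizedCharacter_of_isCharacter (hS.isCharacter χ hχ))
    have hcard : (R χ).card = 2 * n := by
      have h1 : classInner (∑ α ∈ R χ, α) (∑ α ∈ R χ, α) = ((R χ).card : ℂ) := by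
        rw [sum_eq_comb_one, inner_comb hRχon]; simp
      have hm := sub_mem hdeg hχ (hS.conj_mem χ hχ)
      have h2 : classInner (τ (χ - conjFun χ)) (τ (χ - conjFun χ)) = 2 * n := by
        rw [isom_inner hS.isometry hm hm]
        simp only [classInner_sub_left, classInner_sub_right, inner_conj hS hχ, conj_inner hS hχ,
          classInner_conjFun, hn]
        simp
        ring
      rw [hS.sum_eq χ hχ, h1] at h2
      exact_mod_cast h2
    obtain ⟨E, hE, hEcard⟩ := Finset.exists_subset_card_eq (show n ≤ (R χ).card by omega)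
    set b : (G → ℂ) → ℤ := fun α => if α ∈ E then 1 else 0 with hbdef
    have hsum : ∑ α ∈ R χ, (b α : ℂ) = n := by
      simp only [hbdef]
      push_cast
      rw [Finset.sum_ite_mem, Finset.inter_eq_right.2 hE]
      simp [hEcard]
    have hsq : ∑ α ∈ R χ, (b α : ℂ) * (b α : ℂ) = n := by
      rw [← hsum]
      apply Finset.sum_congr rfl
      intro α _
      simp only [hbdef]
      split_ifs <;> simp
    refine ⟨∑ α ∈ R χ, b α • α, hgenA b, ?_, ?_⟩
    · rw [inner_comb hRχon, hsq, hn]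
    · intro ξ hξ hne
      rw [hex' ξ hξ hne, hconjcase, hsum, hn]

/-- the common degree is nonzero -/
theorem deg_ne_zero (hS : IsCoherenceSystem S τ R) {χ : L → ℂ} (hχ : χ ∈ S) : χ 1 ≠ 0 := by
  obtain ⟨n, ρ, hρ⟩ := hS.isCharacter χ hχ
  intro h0
  have h1 : χ 1 = n := by
    rw [← hρ, Representation.char_one]
    simp
  have hn : n = 0 := by
    rw [h1] at h0
    exact_mod_cast h0
  have hzero : χ = 0 := by
    rw [← hρ]
    apply Cfsg.Agent.Lib.Helper78.character_eq_zero_of_finrank_eq_zero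
    simp [hn]
  apply hS.conj_ne χ hχ
  rw [hzero]
  ext x
  simp [conjFun]

/-- construction of the extension from the candidate image `A` of `χ` -/
theorem build (F' : IrrFacts G) (hS : IsCoherenceSystem S τ R)
    (hdeg : ∀ φ ∈ S, ∀ ψ ∈ S, φ 1 = ψ 1) {χ : L → ℂ} (hχ : χ ∈ S)
    (A : G → ℂ) (hAgen : IsGeneralizedCharacter G A) (hAA : classInner A A = classInner χ χ)
    (hAτ : ∀ ξ ∈ S, ξ ≠ χ → classInner A (τ (χ - ξ)) = classInner χ χ) :
    ∃ τ₁ : (L → ℂ) → (G → ℂ), IsLinearIsometryOn (zspan S) τ₁ ∧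
      ∀ α ∈ zspanOn S ({1}ᶜ : Set L), τ₁ α = τ α := by
  classical
  have hd : χ 1 ≠ 0 := deg_ne_zero hS hχ
  have hE := isZClosed_zspanOn S ({1}ᶜ : Set L)
  have hτ := hS.isometry
  have hτ0 : τ 0 = 0 := isom_zero hτ (zspanOn_zero S _)
  -- the coefficient function
  set c : (L → ℂ) → ℂ := fun θ => θ 1 / χ 1 with hcdef
  set D : (L → ℂ) → (L → ℂ) := fun θ => c θ • χ - θ with hDdef
  have hcadd : ∀ a b, c (a + b) = c a + c b := by
    intro a b
    simp only [hcdef, Pi.add_apply, add_div]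
  have hcsmul : ∀ (n : ℤ) a, c (n • a) = n * c a := by
    intro n a
    simp only [hcdef, Pi.smul_apply]
    rw [zsmul_eq_mul, mul_div_assoc]
  have hDadd : ∀ a b, D (a + b) = D a + D b := by
    intro a b
    simp only [hDdef, hcadd, add_smul]
    abel
  have hDsmul : ∀ (n : ℤ) a, D (n • a) = n • D a := by
    intro n a
    simp only [hDdef, hcsmul, smul_sub, mul_smul]
    congr 1
    ext x
    simp
  have hcint : ∀ θ ∈ zspan S, ∃ k : ℤ, c θ = k := by
    intro θ hθ
    have key : ∀ θ ∈ Submodule.span ℤ S, ∃ k : ℤ, c θ = k := by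
      intro θ hθ
      induction hθ using Submodule.span_induction with
      | mem x hx =>
        refine ⟨1, ?_⟩
        simp only [hcdef, hdeg x hx χ hχ, div_self hd]
        simp
      | zero => exact ⟨0, by simp [hcdef]⟩
      | add x y _ _ ihx ihy =>
        obtain ⟨a, ha⟩ := ihx
        obtain ⟨b, hb⟩ := ihy
        exact ⟨a + b, by rw [hcadd, ha, hb]; simp⟩
      | smul n x _ ih =>
        obtain ⟨a, ha⟩ := ih
        exact ⟨n * a, by rw [hcsmul, ha]; simp⟩
    exact key θ hθ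
  have hDmem : ∀ θ ∈ zspan S, D θ ∈ zspanOn S ({1}ᶜ : Set L) := by
    intro θ hθ
    obtain ⟨k, hk⟩ := hcint θ hθ
    refine mem_zspanOn_compl_one.2 ⟨?_, ?_⟩
    · simp only [hDdef, hk]
      exact zspan_sub (zspan_intCast_smul k (subset_zspan _ hχ)) hθ
    · simp only [hDdef, hcdef, Pi.sub_apply, Pi.smul_apply, smul_eq_mul, div_mul_cancel₀ _ hd,
        sub_self]
  -- the key relation
  have hkey : ∀ θ ∈ zspan S, classInner A (τ (D θ)) = classInner χ (D θ) := by
    intro θ hθ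
    have key : ∀ θ ∈ Submodule.span ℤ S, classInner A (τ (D θ)) = classInner χ (D θ) := by
      intro θ hθ
      induction hθ using Submodule.span_induction with
      | mem x hx =>
        have hcx : c x = 1 := by
          simp only [hcdef, hdeg x hx χ hχ, div_self hd]
        have hDx : D x = χ - x := by
          simp only [hDdef, hcx, one_smul]
        rw [hDx]
        by_cases hxχ : x = χ
        · rw [hxχ, sub_self, hτ0, classInner_zero_right, classInner_zero_right]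
        · rw [hAτ x hx hxχ, classInner_sub_right, hS.orthogonal χ hχ x hx (Ne.symm hxχ), sub_zero]
      | zero =>
        have hD0 : D 0 = 0 := by
          simp [hDdef, hcdef]
        rw [hD0, hτ0, classInner_zero_right, classInner_zero_right]
      | add x y hx hy ihx ihy =>
        rw [hDadd, isom_add hτ (hDmem x hx) (hDmem y hy), classInner_add_right,
          classInner_add_right, ihx, ihy]
      | smul n x hx ih =>
        rw [hDsmul, isom_zsmul hτ n (hDmem x hx), classInner_zsmul_right, classInner_zsmul_right,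
          ih]
    exact key θ hθ
  -- the extension
  refine ⟨fun θ => c θ • A - τ (D θ), ⟨?_, ?_, ?_, ?_⟩, ?_⟩
  · intro a ha b hb
    simp only [hcadd, hDadd, add_smul, isom_add hτ (hDmem a ha) (hDmem b hb)]
    abel
  · intro a ha n
    simp only [hcsmul, hDsmul, isom_zsmul hτ n (hDmem a ha), mul_smul, smul_sub]
    congr 1
    ext x
    simp
  · intro a ha b hb
    obtain ⟨k, hk⟩ := hcint a ha
    obtain ⟨k', hk'⟩ := hcint b hb
    have hreal : conj (classInner χ χ) = classInner χ χ := classInner_conj_symm χ χ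
    have ha' : a = c a • χ - D a := by simp only [hDdef]; abel
    have hb' : b = c b • χ - D b := by simp only [hDdef]; abel
    have h1 : classInner (τ (D a)) A = classInner (D a) χ := by
      rw [← classInner_conj_symm, hkey a ha, classInner_conj_symm]
    conv_rhs => rw [ha', hb']
    simp only [classInner_sub_left, classInner_sub_right, classInner_smul_left,
      classInner_smul_right, hAA, hkey b hb, h1, isom_inner hτ (hDmem a ha) (hDmem b hb)]
  · intro a ha
    obtain ⟨k, hk⟩ := hcint a ha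
    have : c a • A = k • A := by
      rw [hk]; ext x; simp
    simp only [this]
    exact F'.gen_sub (F'.gen_zsmul k hAgen) (isom_gen hτ (hDmem a ha))
  · intro α hα
    obtain ⟨hαspan, hα1⟩ := mem_zspanOn_compl_one.1 hα
    have hc0 : c α = 0 := by simp only [hcdef, hα1, zero_div]
    have hD0 : D α = -α := by simp only [hDdef, hc0, zero_smul, zero_sub]
    simp only [hc0, hD0, zero_smul, zero_sub, isom_neg hE hτ hα, neg_neg]

end main

/-- Let (S, τ, R) be a coherence system from L to G such that φ 1 = ψ 1 for all φ, ψ ∈ S. Then (S, L minus 1, τ) is coherent. -/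
theorem result {L : Type*} [Group L] [Fintype L] {G : Type*} [Group G] [Fintype G] (S : Set (L → ℂ)) (τ : (L → ℂ) → (G → ℂ)) (R : (L → ℂ) → Finset (G → ℂ)) (hS : Cfsg.IsCoherenceSystem S τ R) (hdeg : ∀ φ ∈ S, ∀ ψ ∈ S, φ 1 = ψ 1) : Cfsg.IsCoherent S {1}ᶜ τ := by
  have F := irrFacts L
  have F' := irrFacts G
  obtain ⟨χ, hχ⟩ := hS.nonempty
  refine ⟨⟨χ - conjFun χ, sub_mem hdeg hχ (hS.conj_mem χ hχ), ?_⟩, ?_⟩
  · intro h
    exact hS.conj_ne χ hχ (sub_eq_zero.1 h).symm
  · obtain ⟨A, hAgen, hAA, hAτ⟩ := exists_A F F' hS hdeg hχ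
    exact build F' hS hdeg hχ A hAgen hAA hAτ

end Cfsg.Agent.S1517
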