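import Cfsg.Statements.S1516
import Mathlib
import Cfsg.Agent.Lib.Helper26.IrrFactsInst
import Cfsg.Agent.Lib.Helper26.ZSpan
import Cfsg.Agent.Lib.Helper26.CohExt
import Cfsg.Agent.S1517

set_option autoImplicit false
set_option linter.unusedSectionVars false
open Cfsg

namespace Cfsg.Agent.S1516

open Cfsg.Agent.Lib.Helper26
open scoped ComplexConjugate

section

universe u v

variable {L : Type u} [Group L] [Fintype L] {G : Type v} [Group G] [Fintype G]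

/-- the norm of a function is a nonnegative real -/
theorem norm_re_nonneg (f : G → ℂ) : 0 ≤ (Cfsg.classInner f f).re := by
  unfold Cfsg.classInner
  have h1 : ∑ g : G, f g * (starRingEnd ℂ) (f g) = ((∑ g : G, Complex.normSq (f g) : ℝ) : ℂ) := by
    push_cast
    apply Finset.sum_congr rfl
    intro g _
    exact Complex.mul_conj (f g)
  have h2 : ((Nat.card G : ℂ))⁻¹ = (((Nat.card G : ℝ))⁻¹ : ℝ) := by push_cast; rfl
  rw [h1, h2, ← Complex.ofReal_mul, Complex.ofReal_re]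
  apply mul_nonneg
  · positivity
  · exact Finset.sum_nonneg fun g _ => Complex.normSq_nonneg _

/-- A Cauchy–Schwarz/Bessel type estimate against a real combination of an orthogonal family. -/
theorem bessel_one (T : Finset (L → ℂ)) (f : (L → ℂ) → (G → ℂ)) (N c : (L → ℂ) → ℝ) (t : ℝ)
    (Γ : G → ℂ)
    (horth : ∀ i ∈ T, ∀ j ∈ T, Cfsg.classInner (f i) (f j) = if i = j then ((N i : ℝ) : ℂ) else 0)
    (hΓ : ∀ i ∈ T, Cfsg.classInner Γ (f i) = ((t * c i * N i : ℝ) : ℂ)) :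
    t ^ 2 * ∑ i ∈ T, (c i) ^ 2 * N i ≤ (Cfsg.classInner Γ Γ).re := by
  classical
  set W : G → ℂ := ∑ i ∈ T, ((c i : ℝ) : ℂ) • f i with hW
  set Q : ℝ := ∑ i ∈ T, (c i) ^ 2 * N i with hQ
  have hΓW : Cfsg.classInner Γ W = ((t * Q : ℝ) : ℂ) := by
    rw [hW, classInner_sum_right, hQ, Finset.mul_sum]
    push_cast
    apply Finset.sum_congr rfl
    intro i hi
    rw [classInner_smul_right, hΓ i hi, Complex.conj_ofReal]
    push_cast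
    ring
  have hWΓ : Cfsg.classInner W Γ = ((t * Q : ℝ) : ℂ) := by
    rw [← classInner_conj_symm, hΓW, Complex.conj_ofReal]
  have hWW : Cfsg.classInner W W = ((Q : ℝ) : ℂ) := by
    rw [hW, classInner_sum_left, hQ]
    push_cast
    apply Finset.sum_congr rfl
    intro i hi
    rw [classInner_smul_left, classInner_sum_right]
    have : ∀ j ∈ T, Cfsg.classInner (f i) (((c j : ℝ) : ℂ) • f j)
        = if i = j then ((c j : ℝ) : ℂ) * ((N i : ℝ) : ℂ) else 0 := by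
      intro j hj
      rw [classInner_smul_right, horth i hi j hj, Complex.conj_ofReal]
      split_ifs <;> simp
    rw [Finset.sum_congr rfl this, Finset.sum_ite_eq T i, if_pos hi]
    ring
  have hnorm : Cfsg.classInner (Γ - ((t : ℝ) : ℂ) • W) (Γ - ((t : ℝ) : ℂ) • W)
      = Cfsg.classInner Γ Γ - ((t ^ 2 * Q : ℝ) : ℂ) := by
    rw [classInner_sub_left, classInner_sub_right, classInner_sub_right, classInner_smul_left,
      classInner_smul_right, classInner_smul_left, classInner_smul_right, hΓW, hWΓ, hWW,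
      Complex.conj_ofReal]
    push_cast
    ring
  have h0 := norm_re_nonneg (Γ - ((t : ℝ) : ℂ) • W)
  rw [hnorm, Complex.sub_re, Complex.ofReal_re] at h0
  linarith

variable {S : Set (L → ℂ)} {τ : (L → ℂ) → (G → ℂ)} {R : (L → ℂ) → Finset (G → ℂ)}

/-- In a coherent subset closed under conjugation, the extension `τ₁` maps each member `φ` into the
integer span of `R φ`. -/
theorem tau1_in_span (F' : IrrFacts G) (hS : Cfsg.IsCoherenceSystem S τ R)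
    (S₁ : Finset (L → ℂ)) (hS₁ : (↑S₁ : Set (L → ℂ)) ⊆ S)
    (hS₁c : ∀ φ ∈ S₁, Cfsg.conjFun φ ∈ S₁) (τ₁ : (L → ℂ) → (G → ℂ))
    (hτ₁ : Cfsg.IsLinearIsometryOn (Cfsg.zspan (↑S₁ : Set (L → ℂ))) τ₁)
    (hτ₁τ : ∀ α ∈ Cfsg.zspanOn (↑S₁ : Set (L → ℂ)) {1}ᶜ, τ₁ α = τ α)
    (hc1 : ∀ φ ∈ S, Cfsg.conjFun φ 1 = φ 1) {φ : L → ℂ} (hφ : φ ∈ S₁) :
    ∃ c : (G → ℂ) → ℤ, τ₁ φ = ∑ β ∈ R φ, c β • β := by
  classical
  have hφS : φ ∈ S := hS₁ hφ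
  have hφc : Cfsg.conjFun φ ∈ S₁ := hS₁c φ hφ
  have hE := isZClosed_zspan (↑S₁ : Set (L → ℂ))
  have hm1 : φ ∈ Cfsg.zspan (↑S₁ : Set (L → ℂ)) := subset_zspan _ hφ
  have hm2 : Cfsg.conjFun φ ∈ Cfsg.zspan (↑S₁ : Set (L → ℂ)) := subset_zspan _ hφc
  have hm3 : φ - Cfsg.conjFun φ ∈ Cfsg.zspanOn (↑S₁ : Set (L → ℂ)) {1}ᶜ :=
    mem_zspanOn_compl_one.2 ⟨zspan_sub hm1 hm2, by simp [hc1 φ hφS]⟩
  have hAgen : Cfsg.IsGeneralizedCharacter G (τ₁ φ) := isom_gen hτ₁ hm1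
  obtain ⟨b, Γ, hΓgen, hAeq, hb, hΓorth, hΓnorm⟩ :=
    F'.exists_orth_decomp (R φ) id (hS.orthonormal φ hφS) (hS.virtual φ hφS) hAgen
  simp only [id] at hAeq hb hΓorth hΓnorm
  -- τ₁ (conj φ) = τ₁ φ - Σ β
  have hsub : τ₁ (Cfsg.conjFun φ) = τ₁ φ - ∑ β ∈ R φ, β := by
    have h1 := isom_sub hE hτ₁ hm1 hm2
    rw [hτ₁τ _ hm3, hS.sum_eq φ hφS] at h1
    rw [h1]; abel
  have horth : Cfsg.classInner (τ₁ φ) (τ₁ (Cfsg.conjFun φ)) = 0 := by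
    rw [isom_inner hτ₁ hm1 hm2]
    exact Cfsg.Agent.S1517.inner_conj hS hφS
  rw [hsub, classInner_sub_right, classInner_sum_right,
    Finset.sum_congr rfl (fun β hβ => hb β hβ)] at horth
  obtain ⟨g, hg⟩ := F'.norm_nat hΓgen
  have hZ : (g : ℤ) + ∑ β ∈ R φ, ((b β) ^ 2 - b β) = 0 := by
    have : (((g : ℤ) + ∑ β ∈ R φ, ((b β) ^ 2 - b β) : ℤ) : ℂ) = 0 := by
      push_cast
      rw [Finset.sum_sub_distrib]
      have : ((g : ℕ) : ℂ) = Cfsg.classInner Γ Γ := hg.symm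
      rw [this, hΓnorm]
      linear_combination horth
    exact_mod_cast this
  have hn1 : 0 ≤ ∑ β ∈ R φ, ((b β) ^ 2 - b β) :=
    Finset.sum_nonneg fun β _ => by nlinarith [Cfsg.Agent.S1517.int_sub_sq_nonpos (b β)]
  have hg0 : g = 0 := by
    have : (0 : ℤ) ≤ g := by positivity
    omega
  have hΓ0 : Γ = 0 := by
    apply classInner_self_eq_zero
    rw [hg, hg0]; simp
  exact ⟨b, by rw [hAeq, hΓ0, zero_add]⟩

/-- The candidate image of `χ`. -/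
theorem exists_Z (F' : IrrFacts G) (hS : Cfsg.IsCoherenceSystem S τ R)
    (d n : (L → ℂ) → ℕ) (hd : ∀ φ ∈ S, φ 1 = (d φ : ℂ))
    (hn : ∀ φ ∈ S, Cfsg.classInner φ φ = (n φ : ℂ))
    (S₁ : Finset (L → ℂ)) (hS₁ : (↑S₁ : Set (L → ℂ)) ⊆ S)
    (hS₁c : ∀ φ ∈ S₁, Cfsg.conjFun φ ∈ S₁) (τ₁ : (L → ℂ) → (G → ℂ))
    (hτ₁ : Cfsg.IsLinearIsometryOn (Cfsg.zspan (↑S₁ : Set (L → ℂ))) τ₁)
    (hτ₁τ : ∀ α ∈ Cfsg.zspanOn (↑S₁ : Set (L → ℂ)) {1}ᶜ, τ₁ α = τ α)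
    (χ : L → ℂ) (hχ : χ ∈ S) (hχ₁ : χ ∉ S₁) (hχ₂ : Cfsg.conjFun χ ∉ S₁) (χ₁ : L → ℂ)
    (hχ₁S : χ₁ ∈ S₁) (a : ℕ) (ha : d χ = d χ₁ * a)
    (hineq : (2 * d χ * d χ₁ : ℝ) < ∑ φ ∈ S₁, ((d φ : ℝ) ^ 2 / (n φ : ℝ))) :
    Cfsg.IsGeneralizedCharacter G (τ (χ - (a : ℤ) • χ₁) + (a : ℤ) • τ₁ χ₁) ∧
    Cfsg.classInner (τ (χ - (a : ℤ) • χ₁) + (a : ℤ) • τ₁ χ₁)
      (τ (χ - (a : ℤ) • χ₁) + (a : ℤ) • τ₁ χ₁) = (n χ : ℂ) ∧
    (∀ φ ∈ S₁, Cfsg.classInner (τ (χ - (a : ℤ) • χ₁) + (a : ℤ) • τ₁ χ₁) (τ₁ φ) = 0) ∧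
    Cfsg.classInner (τ (χ - (a : ℤ) • χ₁) + (a : ℤ) • τ₁ χ₁) (τ (χ - Cfsg.conjFun χ)) = (n χ : ℂ) ∧
    (∀ φ ∈ S₁, ∀ α ∈ R χ, Cfsg.classInner α (τ₁ φ) = 0) := by
  classical
  have hχ₁S' : χ₁ ∈ S := hS₁ hχ₁S
  have hc1 : ∀ φ ∈ S, Cfsg.conjFun φ 1 = φ 1 := by
    intro φ hφ
    simp [Cfsg.conjFun, hd φ hφ]
  have hdpos : ∀ φ ∈ S, d φ ≠ 0 := by
    intro φ hφ h
    have := Cfsg.Agent.S1517.deg_ne_zero hS hφ
    rw [hd φ hφ, h] at this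
    simp at this
  have hnpos : ∀ φ ∈ S, n φ ≠ 0 := by
    intro φ hφ h
    have h1 := hn φ hφ
    rw [h, Nat.cast_zero] at h1
    have h2 := classInner_self_eq_zero h1
    have h3 := Cfsg.Agent.S1517.deg_ne_zero hS hφ
    rw [h2] at h3
    exact h3 rfl
  have hE := isZClosed_zspanOn S ({1}ᶜ : Set L)
  have hE₁ := isZClosed_zspan (↑S₁ : Set (L → ℂ))
  have hτ := hS.isometry
  have hχc : Cfsg.conjFun χ ∈ S := hS.conj_mem χ hχ
  have hne1 : ∀ φ ∈ S₁, φ ≠ χ := fun φ hφ h => hχ₁ (h ▸ hφ)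
  have hne2 : ∀ φ ∈ S₁, φ ≠ Cfsg.conjFun χ := fun φ hφ h => hχ₂ (h ▸ hφ)
  have hχφ : ∀ φ ∈ S₁, Cfsg.classInner χ φ = 0 :=
    fun φ hφ => hS.orthogonal χ hχ φ (hS₁ hφ) (hne1 φ hφ).symm
  have hφχ : ∀ φ ∈ S₁, Cfsg.classInner φ χ = 0 :=
    fun φ hφ => hS.orthogonal φ (hS₁ hφ) χ hχ (hne1 φ hφ)
  have hφχc : ∀ φ ∈ S₁, Cfsg.classInner φ (Cfsg.conjFun χ) = 0 :=
    fun φ hφ => hS.orthogonal φ (hS₁ hφ) _ hχc (hne2 φ hφ)
  have hχχc : Cfsg.classInner χ (Cfsg.conjFun χ) = 0 := Cfsg.Agent.S1517.inner_conj hS hχ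
  have hχspan : ∀ θ ∈ Cfsg.zspan (↑S₁ : Set (L → ℂ)), Cfsg.classInner χ θ = 0 := by
    intro θ hθ
    have key : ∀ θ ∈ Submodule.span ℤ (↑S₁ : Set (L → ℂ)), Cfsg.classInner χ θ = 0 := by
      intro θ hθ
      induction hθ using Submodule.span_induction with
      | mem x hx => exact hχφ x hx
      | zero => exact classInner_zero_right _
      | add x y _ _ ihx ihy => rw [classInner_add_right, ihx, ihy, add_zero]
      | smul k x _ ih => rw [classInner_zsmul_right, ih, mul_zero]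
    exact key θ hθ
  -- β and the basic vectors
  have hβ : χ - (a : ℤ) • χ₁ ∈ Cfsg.zspanOn S ({1}ᶜ : Set L) := by
    refine mem_zspanOn_compl_one.2
      ⟨zspan_sub (subset_zspan _ hχ) (zspan_zsmul _ (subset_zspan _ hχ₁S')), ?_⟩
    simp only [Pi.sub_apply, Pi.smul_apply, hd χ hχ, hd χ₁ hχ₁S', ha]
    push_cast
    simp
    ring
  have hχχ : χ - Cfsg.conjFun χ ∈ Cfsg.zspanOn S ({1}ᶜ : Set L) :=
    mem_zspanOn_compl_one.2 ⟨zspan_sub (subset_zspan _ hχ) (subset_zspan _ hχc),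
      by simp [hc1 χ hχ]⟩
  have hχ₁m : χ₁ ∈ Cfsg.zspan (↑S₁ : Set (L → ℂ)) := subset_zspan _ hχ₁S
  have hXgen : Cfsg.IsGeneralizedCharacter G (τ (χ - (a : ℤ) • χ₁)) := isom_gen hτ hβ
  have hTgen : Cfsg.IsGeneralizedCharacter G (τ₁ χ₁) := isom_gen hτ₁ hχ₁m
  have hZgen : Cfsg.IsGeneralizedCharacter G (τ (χ - (a : ℤ) • χ₁) + (a : ℤ) • τ₁ χ₁) :=
    F'.gen_add hXgen (F'.gen_zsmul _ hTgen)
  set X := τ (χ - (a : ℤ) • χ₁) with hXdef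
  set T := τ₁ χ₁ with hTdef
  set Z := X + (a : ℤ) • T with hZdef
  -- Step B
  have hZorth : ∀ θ ∈ Cfsg.zspanOn (↑S₁ : Set (L → ℂ)) ({1}ᶜ : Set L),
      Cfsg.classInner Z (τ₁ θ) = 0 := by
    intro θ hθ
    have hθ' : θ ∈ Cfsg.zspanOn S ({1}ᶜ : Set L) := zspanOn_mono _ hS₁ hθ
    have hθ1 : θ ∈ Cfsg.zspan (↑S₁ : Set (L → ℂ)) := hθ.1
    rw [hZdef, classInner_add_left, classInner_zsmul_left, hTdef, isom_inner hτ₁ hχ₁m hθ1,
      hτ₁τ θ hθ, hXdef, isom_inner hτ hβ hθ', classInner_sub_left, classInner_zsmul_left,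
      hχspan θ hθ1]
    ring
  -- Step C
  have hrel : ∀ φ ∈ S₁, (d χ₁ : ℂ) * Cfsg.classInner Z (τ₁ φ)
      = (d φ : ℂ) * Cfsg.classInner Z T := by
    intro φ hφ
    have hφm : φ ∈ Cfsg.zspan (↑S₁ : Set (L → ℂ)) := subset_zspan _ hφ
    have hm : ((d χ₁ : ℕ) : ℤ) • φ - ((d φ : ℕ) : ℤ) • χ₁
        ∈ Cfsg.zspanOn (↑S₁ : Set (L → ℂ)) ({1}ᶜ : Set L) := by
      refine mem_zspanOn_compl_one.2 ⟨zspan_sub (zspan_zsmul _ hφm) (zspan_zsmul _ hχ₁m), ?_⟩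
      simp only [Pi.sub_apply, Pi.smul_apply, hd φ (hS₁ hφ), hd χ₁ hχ₁S']
      simp
      ring
    have h1 := hZorth _ hm
    rw [isom_sub hE₁ hτ₁ (zspan_zsmul _ hφm) (zspan_zsmul _ hχ₁m), isom_zsmul hτ₁ _ hφm,
      isom_zsmul hτ₁ _ hχ₁m, classInner_sub_right, classInner_zsmul_right,
      classInner_zsmul_right] at h1
    push_cast at h1
    linear_combination h1
  -- Step D
  have hRτ₁ : ∀ φ ∈ S₁, ∀ α ∈ R χ, Cfsg.classInner α (τ₁ φ) = 0 := by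
    intro φ hφ α hα
    obtain ⟨c, hc⟩ := tau1_in_span F' hS S₁ hS₁ hS₁c τ₁ hτ₁ hτ₁τ hc1 hφ
    rw [hc, classInner_sum_right]
    apply Finset.sum_eq_zero
    intro β hβ'
    rw [classInner_zsmul_right,
      Cfsg.Agent.S1517.R_orth hS hχ (hS₁ hφ) (hne1 φ hφ) (hne2 φ hφ) α hα β hβ', mul_zero]
  have hτ₁R : ∀ φ ∈ S₁, ∀ α ∈ R χ, Cfsg.classInner (τ₁ φ) α = 0 := by
    intro φ hφ α hα
    rw [← classInner_conj_symm, hRτ₁ φ hφ α hα, map_zero]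
  -- Step E
  obtain ⟨b, Γ₁, hΓ₁gen, hZeq, hb, hΓ₁orth, hΓ₁norm⟩ :=
    F'.exists_orth_decomp (R χ) id (hS.orthonormal χ hχ) (hS.virtual χ hχ) hZgen
  simp only [id] at hZeq hb hΓ₁orth hΓ₁norm
  have hZτ : Cfsg.classInner Z (τ (χ - Cfsg.conjFun χ)) = (n χ : ℂ) := by
    rw [hZdef, classInner_add_left, classInner_zsmul_left, hXdef, isom_inner hτ hβ hχχ]
    have h2 : Cfsg.classInner T (τ (χ - Cfsg.conjFun χ)) = 0 := by
      rw [hS.sum_eq χ hχ, classInner_sum_right]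
      exact Finset.sum_eq_zero fun α hα => hτ₁R χ₁ hχ₁S α hα
    rw [h2, classInner_sub_left, classInner_sub_right, classInner_sub_right,
      classInner_zsmul_left, classInner_zsmul_left, hn χ hχ, hχχc, hφχ χ₁ hχ₁S, hφχc χ₁ hχ₁S]
    ring
  have hsumb : ∑ α ∈ R χ, (b α : ℂ) = (n χ : ℂ) := by
    rw [← hZτ, hS.sum_eq χ hχ, classInner_sum_right]
    exact Finset.sum_congr rfl fun α hα => (hb α hα).symm
  have hsumb' : ∑ α ∈ R χ, b α = (n χ : ℤ) := by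
    have : ((∑ α ∈ R χ, b α : ℤ) : ℂ) = (((n χ : ℕ) : ℤ) : ℂ) := by
      push_cast; exact hsumb
    exact_mod_cast this
  have hsq : (n χ : ℤ) ≤ ∑ α ∈ R χ, (b α) ^ 2 := by
    rw [← hsumb']
    exact Finset.sum_le_sum fun α _ => Int.le_self_sq _
  -- z₁ is an integer
  obtain ⟨m, hm⟩ := F'.inner_int hZgen hTgen
  -- Step G
  have hTT : Cfsg.classInner T T = (n χ₁ : ℂ) := by
    rw [hTdef, isom_inner hτ₁ hχ₁m hχ₁m, hn χ₁ hχ₁S']
  have hXT : Cfsg.classInner X T = (m : ℂ) - (a : ℂ) * (n χ₁ : ℂ) := by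
    have h1 : Cfsg.classInner Z T = Cfsg.classInner X T + (a : ℂ) * (n χ₁ : ℂ) := by
      rw [hZdef, classInner_add_left, classInner_zsmul_left, hTT]
      push_cast
      ring
    rw [hm] at h1
    linear_combination -h1
  have hTX : Cfsg.classInner T X = (m : ℂ) - (a : ℂ) * (n χ₁ : ℂ) := by
    rw [← classInner_conj_symm, hXT]
    simp
  have hXX : Cfsg.classInner X X = (n χ : ℂ) + (a : ℂ) ^ 2 * (n χ₁ : ℂ) := by
    rw [hXdef, isom_inner hτ hβ hβ, classInner_sub_left, classInner_sub_right,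
      classInner_sub_right, classInner_zsmul_left, classInner_zsmul_left, classInner_zsmul_right,
      classInner_zsmul_right, hn χ hχ, hn χ₁ hχ₁S', hχφ χ₁ hχ₁S, hφχ χ₁ hχ₁S]
    push_cast
    ring
  have hZZ : Cfsg.classInner Z Z = (n χ : ℂ) + 2 * (a : ℂ) * (m : ℂ) := by
    have h1 : Cfsg.classInner Z Z = Cfsg.classInner X X + (a : ℂ) * Cfsg.classInner T X
        + (a : ℂ) * Cfsg.classInner Z T := by
      conv_lhs => rw [hZdef]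
      rw [classInner_add_right, classInner_zsmul_right, classInner_add_left,
        classInner_zsmul_left]
      push_cast
      rfl
    rw [h1, hXX, hTX, hm]
    ring
  -- Step F
  have hΓ₁τ₁ : ∀ φ ∈ S₁, Cfsg.classInner Γ₁ (τ₁ φ) = Cfsg.classInner Z (τ₁ φ) := by
    intro φ hφ
    have h1 : Γ₁ = Z - ∑ α ∈ R χ, b α • α := by rw [hZeq]; abel
    rw [h1, classInner_sub_left, classInner_sum_left]
    have : ∑ α ∈ R χ, Cfsg.classInner (b α • α) (τ₁ φ) = 0 := by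
      apply Finset.sum_eq_zero
      intro α hα
      rw [classInner_zsmul_left, hRτ₁ φ hφ α hα, mul_zero]
    rw [this, sub_zero]
  have hd₁ : (d χ₁ : ℂ) ≠ 0 := Nat.cast_ne_zero.mpr (hdpos χ₁ hχ₁S')
  have hzφ : ∀ φ ∈ S₁, Cfsg.classInner Z (τ₁ φ) = (d φ : ℂ) * (m : ℂ) / (d χ₁ : ℂ) := by
    intro φ hφ
    have h1 := hrel φ hφ
    rw [hm] at h1
    field_simp
    linear_combination h1
  obtain ⟨k, hk⟩ := F'.norm_nat hΓ₁gen
  have hkeq : (k : ℤ) = (n χ : ℤ) + 2 * (a : ℤ) * m - ∑ α ∈ R χ, (b α) ^ 2 := by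
    have : (((k : ℕ) : ℤ) : ℂ)
        = (((n χ : ℤ) + 2 * (a : ℤ) * m - ∑ α ∈ R χ, (b α) ^ 2 : ℤ) : ℂ) := by
      push_cast
      rw [← hk, hΓ₁norm, hZZ]
    exact_mod_cast this
  have hbess := bessel_one S₁ τ₁ (fun φ => (n φ : ℝ)) (fun φ => (d φ : ℝ) / (n φ : ℝ))
    ((m : ℝ) / (d χ₁ : ℝ)) Γ₁
    (by
      intro i hi j hj
      rw [isom_inner hτ₁ (subset_zspan _ hi) (subset_zspan _ hj)]
      by_cases hij : i = j
      · rw [if_pos hij, ← hij, hn i (hS₁ hi)]; simp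
      · rw [if_neg hij, hS.orthogonal i (hS₁ hi) j (hS₁ hj) hij])
    (by
      intro i hi
      rw [hΓ₁τ₁ i hi, hzφ i hi]
      have hni : (n i : ℂ) ≠ 0 := Nat.cast_ne_zero.mpr (hnpos i (hS₁ hi))
      push_cast
      field_simp)
  rw [hk] at hbess
  simp only [Complex.natCast_re] at hbess
  -- the final arithmetic
  have hm0 : m = 0 := by
    by_contra hm0
    have hQ : ∑ φ ∈ S₁, ((d φ : ℝ) / (n φ : ℝ)) ^ 2 * (n φ : ℝ)
        = ∑ φ ∈ S₁, ((d φ : ℝ) ^ 2 / (n φ : ℝ)) := by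
      apply Finset.sum_congr rfl
      intro φ hφ
      have hni : (n φ : ℝ) ≠ 0 := Nat.cast_ne_zero.mpr (hnpos φ (hS₁ hφ))
      field_simp
    rw [hQ] at hbess
    have hd₁r : (0 : ℝ) < (d χ₁ : ℝ) := by
      have := hdpos χ₁ hχ₁S'
      positivity
    have har : (0 : ℝ) < (a : ℝ) := by
      have h1 := hdpos χ hχ
      have : a ≠ 0 := by
        intro h; rw [h, mul_zero] at ha; exact h1 ha
      positivity
    have hk2 : (k : ℝ) ≤ 2 * (a : ℝ) * (m : ℝ) := by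
      have : (k : ℤ) ≤ 2 * (a : ℤ) * m := by omega
      exact_mod_cast this
    have hmsq : (m : ℝ) ≤ (m : ℝ) ^ 2 := by exact_mod_cast Int.le_self_sq m
    have hmpos : (0 : ℝ) < (m : ℝ) ^ 2 := by
      have : (m : ℝ) ≠ 0 := by exact_mod_cast hm0
      positivity
    have hineq' : 2 * (a : ℝ) * (d χ₁ : ℝ) ^ 2 < ∑ φ ∈ S₁, ((d φ : ℝ) ^ 2 / (n φ : ℝ)) := by
      have : (d χ : ℝ) = (d χ₁ : ℝ) * (a : ℝ) := by exact_mod_cast ha
      rw [this] at hineq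
      linarith [hineq]
    have h3 : ((m : ℝ) / (d χ₁ : ℝ)) ^ 2 * (2 * (a : ℝ) * (d χ₁ : ℝ) ^ 2)
        = 2 * (a : ℝ) * (m : ℝ) ^ 2 := by
      field_simp
    have h4 : ((m : ℝ) / (d χ₁ : ℝ)) ^ 2 * (2 * (a : ℝ) * (d χ₁ : ℝ) ^ 2)
        < ((m : ℝ) / (d χ₁ : ℝ)) ^ 2 * ∑ φ ∈ S₁, ((d φ : ℝ) ^ 2 / (n φ : ℝ)) := by
      apply mul_lt_mul_of_pos_left hineq'
      positivity
    nlinarith
  -- conclusions
  refine ⟨hZgen, ?_, ?_, hZτ, hRτ₁⟩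
  · rw [hZZ, hm0]; simp
  · intro φ hφ
    rw [hzφ φ hφ, hm0]; simp

/-- coefficient of `χ` (of squared norm `n`) in `θ` -/
noncomputable def uf (n : ℕ) (χ θ : L → ℂ) : ℂ := Cfsg.classInner θ χ / (n : ℂ)

/-- the part of `θ` orthogonal to `χ` and `χc` -/
noncomputable def Pf (n : ℕ) (χ χc θ : L → ℂ) : L → ℂ := θ - uf n χ θ • χ - uf n χc θ • χc

theorem uf_add (n : ℕ) (χ a b : L → ℂ) : uf n χ (a + b) = uf n χ a + uf n χ b := by
  unfold uf; rw [classInner_add_left, add_div]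

theorem uf_zsmul (n : ℕ) (χ : L → ℂ) (k : ℤ) (a : L → ℂ) : uf n χ (k • a) = (k : ℂ) * uf n χ a := by
  unfold uf; rw [classInner_zsmul_left, mul_div_assoc]

theorem Pf_add (n : ℕ) (χ χc a b : L → ℂ) : Pf n χ χc (a + b) = Pf n χ χc a + Pf n χ χc b := by
  unfold Pf; rw [uf_add, uf_add, add_smul, add_smul]; abel

theorem Pf_zsmul (n : ℕ) (χ χc : L → ℂ) (k : ℤ) (a : L → ℂ) :
    Pf n χ χc (k • a) = k • Pf n χ χc a := by
  unfold Pf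
  rw [uf_zsmul, uf_zsmul, smul_sub, smul_sub, mul_smul, mul_smul]
  congr 1
  · congr 1
    ext x; simp
  · ext x; simp

theorem intCast_smul_eq {X : Type*} (k : ℤ) (f : X → ℂ) : ((k : ℂ)) • f = k • f := by
  ext x; simp

/-- construction of the extension -/
theorem build (F' : IrrFacts G) (hS : Cfsg.IsCoherenceSystem S τ R)
    (d n : (L → ℂ) → ℕ) (hd : ∀ φ ∈ S, φ 1 = (d φ : ℂ))
    (hn : ∀ φ ∈ S, Cfsg.classInner φ φ = (n φ : ℂ))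
    (S₁ : Finset (L → ℂ)) (hS₁ : (↑S₁ : Set (L → ℂ)) ⊆ S)
    (τ₁ : (L → ℂ) → (G → ℂ))
    (hτ₁ : Cfsg.IsLinearIsometryOn (Cfsg.zspan (↑S₁ : Set (L → ℂ))) τ₁)
    (hτ₁τ : ∀ α ∈ Cfsg.zspanOn (↑S₁ : Set (L → ℂ)) {1}ᶜ, τ₁ α = τ α)
    (χ : L → ℂ) (hχ : χ ∈ S) (hχ₁ : χ ∉ S₁) (hχ₂ : Cfsg.conjFun χ ∉ S₁) (χ₁ : L → ℂ)
    (hχ₁S : χ₁ ∈ S₁) (a : ℕ) (ha : d χ = d χ₁ * a)
    (hZgen : Cfsg.IsGeneralizedCharacter G (τ (χ - (a : ℤ) • χ₁) + (a : ℤ) • τ₁ χ₁))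
    (hZZ : Cfsg.classInner (τ (χ - (a : ℤ) • χ₁) + (a : ℤ) • τ₁ χ₁)
      (τ (χ - (a : ℤ) • χ₁) + (a : ℤ) • τ₁ χ₁) = (n χ : ℂ))
    (hZφ : ∀ φ ∈ S₁, Cfsg.classInner (τ (χ - (a : ℤ) • χ₁) + (a : ℤ) • τ₁ χ₁) (τ₁ φ) = 0)
    (hZτ : Cfsg.classInner (τ (χ - (a : ℤ) • χ₁) + (a : ℤ) • τ₁ χ₁) (τ (χ - Cfsg.conjFun χ))
      = (n χ : ℂ))
    (hRτ₁ : ∀ φ ∈ S₁, ∀ α ∈ R χ, Cfsg.classInner α (τ₁ φ) = 0) :
    ∃ τ₂ : (L → ℂ) → (G → ℂ),
      Cfsg.IsLinearIsometryOn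
        (Cfsg.zspan ((↑S₁ : Set (L → ℂ)) ∪ {χ, Cfsg.conjFun χ})) τ₂ ∧
      ∀ α ∈ Cfsg.zspanOn ((↑S₁ : Set (L → ℂ)) ∪ {χ, Cfsg.conjFun χ}) ({1}ᶜ : Set L),
        τ₂ α = τ α := by
  classical
  have hχ₁S' : χ₁ ∈ S := hS₁ hχ₁S
  have hχc : Cfsg.conjFun χ ∈ S := hS.conj_mem χ hχ
  have hc1 : ∀ φ ∈ S, Cfsg.conjFun φ 1 = φ 1 := by
    intro φ hφ
    simp [Cfsg.conjFun, hd φ hφ]
  have hnχ : (n χ : ℂ) ≠ 0 := by
    intro h
    have h1 := hn χ hχ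
    rw [h] at h1
    have h2 := classInner_self_eq_zero h1
    have h3 := Cfsg.Agent.S1517.deg_ne_zero hS hχ
    rw [h2] at h3
    exact h3 rfl
  have hE := isZClosed_zspanOn S ({1}ᶜ : Set L)
  have hE₁ := isZClosed_zspan (↑S₁ : Set (L → ℂ))
  have hτ := hS.isometry
  have hne1 : ∀ φ ∈ S₁, φ ≠ χ := fun φ hφ h => hχ₁ (h ▸ hφ)
  have hne2 : ∀ φ ∈ S₁, φ ≠ Cfsg.conjFun χ := fun φ hφ h => hχ₂ (h ▸ hφ)
  have hφχ : ∀ φ ∈ S₁, Cfsg.classInner φ χ = 0 :=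
    fun φ hφ => hS.orthogonal φ (hS₁ hφ) χ hχ (hne1 φ hφ)
  have hφχc : ∀ φ ∈ S₁, Cfsg.classInner φ (Cfsg.conjFun χ) = 0 :=
    fun φ hφ => hS.orthogonal φ (hS₁ hφ) _ hχc (hne2 φ hφ)
  have hχχc : Cfsg.classInner χ (Cfsg.conjFun χ) = 0 := Cfsg.Agent.S1517.inner_conj hS hχ
  have hχcχ : Cfsg.classInner (Cfsg.conjFun χ) χ = 0 := Cfsg.Agent.S1517.conj_inner hS hχ
  have hχcχc : Cfsg.classInner (Cfsg.conjFun χ) (Cfsg.conjFun χ) = (n χ : ℂ) := by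
    rw [Cfsg.Agent.S1517.classInner_conjFun, hn χ hχ]; simp
  -- span facts on the L side
  have hspanχ : ∀ θ ∈ Cfsg.zspan (↑S₁ : Set (L → ℂ)),
      Cfsg.classInner θ χ = 0 ∧ Cfsg.classInner θ (Cfsg.conjFun χ) = 0 := by
    intro θ hθ
    have key : ∀ θ ∈ Submodule.span ℤ (↑S₁ : Set (L → ℂ)),
        Cfsg.classInner θ χ = 0 ∧ Cfsg.classInner θ (Cfsg.conjFun χ) = 0 := by
      intro θ hθ
      induction hθ using Submodule.span_induction with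
      | mem x hx => exact ⟨hφχ x hx, hφχc x hx⟩
      | zero => exact ⟨classInner_zero_left _, classInner_zero_left _⟩
      | add x y _ _ ihx ihy =>
        exact ⟨by rw [classInner_add_left, ihx.1, ihy.1, add_zero],
          by rw [classInner_add_left, ihx.2, ihy.2, add_zero]⟩
      | smul k x _ ih =>
        exact ⟨by rw [classInner_zsmul_left, ih.1, mul_zero],
          by rw [classInner_zsmul_left, ih.2, mul_zero]⟩
    exact key θ hθ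
  -- memberships
  have hβ : χ - (a : ℤ) • χ₁ ∈ Cfsg.zspanOn S ({1}ᶜ : Set L) := by
    refine mem_zspanOn_compl_one.2
      ⟨zspan_sub (subset_zspan _ hχ) (zspan_zsmul _ (subset_zspan _ hχ₁S')), ?_⟩
    simp only [Pi.sub_apply, Pi.smul_apply, hd χ hχ, hd χ₁ hχ₁S', ha]
    push_cast
    simp
    ring
  have hχχ : χ - Cfsg.conjFun χ ∈ Cfsg.zspanOn S ({1}ᶜ : Set L) :=
    mem_zspanOn_compl_one.2 ⟨zspan_sub (subset_zspan _ hχ) (subset_zspan _ hχc),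
      by simp [hc1 χ hχ]⟩
  have hχ₁m : χ₁ ∈ Cfsg.zspan (↑S₁ : Set (L → ℂ)) := subset_zspan _ hχ₁S
  set X := τ (χ - (a : ℤ) • χ₁) with hXdef
  set T := τ₁ χ₁ with hTdef
  set Z := X + (a : ℤ) • T with hZdef
  set Sg := τ (χ - Cfsg.conjFun χ) with hSgdef
  have hSggen : Cfsg.IsGeneralizedCharacter G Sg := isom_gen hτ hχχ
  have hSgSg : Cfsg.classInner Sg Sg = 2 * (n χ : ℂ) := by
    rw [hSgdef, isom_inner hτ hχχ hχχ, classInner_sub_left, classInner_sub_right,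
      classInner_sub_right, hn χ hχ, hχχc, hχcχ, hχcχc]
    ring
  have hSgZ : Cfsg.classInner Sg Z = (n χ : ℂ) := by
    rw [← classInner_conj_symm, hZτ]; simp
  have hSgφ : ∀ φ ∈ S₁, Cfsg.classInner Sg (τ₁ φ) = 0 := by
    intro φ hφ
    rw [hSgdef, hS.sum_eq χ hχ, classInner_sum_left]
    exact Finset.sum_eq_zero fun α hα => hRτ₁ φ hφ α hα
  -- Z' = Z - Sg
  have hZ'gen : Cfsg.IsGeneralizedCharacter G (Z - Sg) := F'.gen_sub hZgen hSggen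
  have hZ'Z' : Cfsg.classInner (Z - Sg) (Z - Sg) = (n χ : ℂ) := by
    rw [classInner_sub_left, classInner_sub_right, classInner_sub_right, hZZ, hZτ, hSgZ, hSgSg]
    ring
  have hZZ' : Cfsg.classInner Z (Z - Sg) = 0 := by
    rw [classInner_sub_right, hZZ, hZτ, sub_self]
  have hZ'Z : Cfsg.classInner (Z - Sg) Z = 0 := by
    rw [classInner_sub_left, hZZ, hSgZ, sub_self]
  have hZ'φ : ∀ φ ∈ S₁, Cfsg.classInner (Z - Sg) (τ₁ φ) = 0 := by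
    intro φ hφ
    rw [classInner_sub_left, hZφ φ hφ, hSgφ φ hφ, sub_zero]
  -- span facts on the G side
  have hspanZ : ∀ θ ∈ Cfsg.zspan (↑S₁ : Set (L → ℂ)),
      Cfsg.classInner Z (τ₁ θ) = 0 ∧ Cfsg.classInner (Z - Sg) (τ₁ θ) = 0 := by
    intro θ hθ
    have key : ∀ θ ∈ Submodule.span ℤ (↑S₁ : Set (L → ℂ)),
        Cfsg.classInner Z (τ₁ θ) = 0 ∧ Cfsg.classInner (Z - Sg) (τ₁ θ) = 0 := by
      intro θ hθ
      induction hθ using Submodule.span_induction with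
      | mem x hx => exact ⟨hZφ x hx, hZ'φ x hx⟩
      | zero =>
        rw [isom_zero hτ₁ (zspan_zero _)]
        exact ⟨classInner_zero_right _, classInner_zero_right _⟩
      | add x y hx hy ihx ihy =>
        rw [isom_add hτ₁ hx hy]
        exact ⟨by rw [classInner_add_right, ihx.1, ihy.1, add_zero],
          by rw [classInner_add_right, ihx.2, ihy.2, add_zero]⟩
      | smul k x hx ih =>
        rw [isom_zsmul hτ₁ k hx]
        exact ⟨by rw [classInner_zsmul_right, ih.1, mul_zero],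
          by rw [classInner_zsmul_right, ih.2, mul_zero]⟩
    exact key θ hθ
  have hspanZ' : ∀ θ ∈ Cfsg.zspan (↑S₁ : Set (L → ℂ)),
      Cfsg.classInner (τ₁ θ) Z = 0 ∧ Cfsg.classInner (τ₁ θ) (Z - Sg) = 0 := by
    intro θ hθ
    obtain ⟨h1, h2⟩ := hspanZ θ hθ
    exact ⟨by rw [← classInner_conj_symm, h1, map_zero],
      by rw [← classInner_conj_symm, h2, map_zero]⟩
  -- the key structural fact about the span of S₂
  have hkey : ∀ θ ∈ Cfsg.zspan ((↑S₁ : Set (L → ℂ)) ∪ {χ, Cfsg.conjFun χ}),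
      (∃ k : ℤ, uf (n χ) χ θ = k) ∧ (∃ l : ℤ, uf (n χ) (Cfsg.conjFun χ) θ = l) ∧
      Pf (n χ) χ (Cfsg.conjFun χ) θ ∈ Cfsg.zspan (↑S₁ : Set (L → ℂ)) := by
    intro θ hθ
    have key : ∀ θ ∈ Submodule.span ℤ ((↑S₁ : Set (L → ℂ)) ∪ {χ, Cfsg.conjFun χ}),
        (∃ k : ℤ, uf (n χ) χ θ = k) ∧ (∃ l : ℤ, uf (n χ) (Cfsg.conjFun χ) θ = l) ∧
        Pf (n χ) χ (Cfsg.conjFun χ) θ ∈ Cfsg.zspan (↑S₁ : Set (L → ℂ)) := by
      intro θ hθ
      induction hθ using Submodule.span_induction with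
      | mem x hx =>
        rcases hx with hx | hx
        · have hx' : x ∈ S₁ := hx
          have e1 : uf (n χ) χ x = 0 := by unfold uf; rw [hφχ x hx', zero_div]
          have e2 : uf (n χ) (Cfsg.conjFun χ) x = 0 := by unfold uf; rw [hφχc x hx', zero_div]
          refine ⟨⟨0, by rw [e1]; simp⟩, ⟨0, by rw [e2]; simp⟩, ?_⟩
          unfold Pf
          rw [e1, e2, zero_smul, zero_smul, sub_zero, sub_zero]
          exact subset_zspan _ hx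
        · rcases hx with hx | hx
          · have e1 : uf (n χ) χ x = 1 := by unfold uf; rw [hx, hn χ hχ, div_self hnχ]
            have e2 : uf (n χ) (Cfsg.conjFun χ) x = 0 := by unfold uf; rw [hx, hχχc, zero_div]
            refine ⟨⟨1, by rw [e1]; simp⟩, ⟨0, by rw [e2]; simp⟩, ?_⟩
            unfold Pf
            rw [e1, e2, hx, one_smul, zero_smul, sub_self, sub_zero]
            exact zspan_zero _
          · have hx' : x = Cfsg.conjFun χ := hx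
            have e1 : uf (n χ) χ x = 0 := by unfold uf; rw [hx', hχcχ, zero_div]
            have e2 : uf (n χ) (Cfsg.conjFun χ) x = 1 := by
              unfold uf; rw [hx', hχcχc, div_self hnχ]
            refine ⟨⟨0, by rw [e1]; simp⟩, ⟨1, by rw [e2]; simp⟩, ?_⟩
            unfold Pf
            rw [e1, e2, hx', one_smul, zero_smul, sub_zero, sub_self]
            exact zspan_zero _
      | zero =>
        have e1 : ∀ ψ : L → ℂ, uf (n χ) ψ 0 = 0 := by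
          intro ψ; unfold uf; rw [classInner_zero_left, zero_div]
        refine ⟨⟨0, by rw [e1]; simp⟩, ⟨0, by rw [e1]; simp⟩, ?_⟩
        unfold Pf
        rw [e1, e1, zero_smul, zero_smul, sub_zero, sub_zero]
        exact zspan_zero _
      | add x y _ _ ihx ihy =>
        obtain ⟨⟨k, hk⟩, ⟨l, hl⟩, hP⟩ := ihx
        obtain ⟨⟨k', hk'⟩, ⟨l', hl'⟩, hP'⟩ := ihy
        refine ⟨⟨k + k', by rw [uf_add, hk, hk']; simp⟩, ⟨l + l', by rw [uf_add, hl, hl']; simp⟩, ?_⟩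
        rw [Pf_add]
        exact zspan_add hP hP'
      | smul j x _ ih =>
        obtain ⟨⟨k, hk⟩, ⟨l, hl⟩, hP⟩ := ih
        refine ⟨⟨j * k, by rw [uf_zsmul, hk]; simp⟩, ⟨j * l, by rw [uf_zsmul, hl]; simp⟩, ?_⟩
        rw [Pf_zsmul]
        exact zspan_zsmul j hP
    exact key θ hθ
  -- the extension
  refine ⟨fun θ => τ₁ (Pf (n χ) χ (Cfsg.conjFun χ) θ) + uf (n χ) χ θ • Z
    + uf (n χ) (Cfsg.conjFun χ) θ • (Z - Sg), ⟨?_, ?_, ?_, ?_⟩, ?_⟩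
  · -- additivity
    intro x hx y hy
    obtain ⟨-, -, hPx⟩ := hkey x hx
    obtain ⟨-, -, hPy⟩ := hkey y hy
    simp only [Pf_add, uf_add, add_smul, isom_add hτ₁ hPx hPy]
    abel
  · -- zsmul
    intro x hx j
    obtain ⟨-, -, hPx⟩ := hkey x hx
    simp only [Pf_zsmul, uf_zsmul, isom_zsmul hτ₁ j hPx, mul_smul, smul_add]
    rw [intCast_smul_eq, intCast_smul_eq]
  · -- isometry
    intro x hx y hy
    obtain ⟨-, -, hPx⟩ := hkey x hx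
    obtain ⟨-, -, hPy⟩ := hkey y hy
    have hx' : x = Pf (n χ) χ (Cfsg.conjFun χ) x + uf (n χ) χ x • χ
        + uf (n χ) (Cfsg.conjFun χ) x • Cfsg.conjFun χ := by unfold Pf; abel
    have hy' : y = Pf (n χ) χ (Cfsg.conjFun χ) y + uf (n χ) χ y • χ
        + uf (n χ) (Cfsg.conjFun χ) y • Cfsg.conjFun χ := by unfold Pf; abel
    obtain ⟨a1, a2⟩ := hspanZ _ hPy
    obtain ⟨a3, a4⟩ := hspanZ' _ hPx
    obtain ⟨b1, b2⟩ := hspanχ _ hPx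
    obtain ⟨b3, b4⟩ := hspanχ _ hPy
    have b3' : Cfsg.classInner χ (Pf (n χ) χ (Cfsg.conjFun χ) y) = 0 := by
      rw [← classInner_conj_symm, b3, map_zero]
    have b4' : Cfsg.classInner (Cfsg.conjFun χ) (Pf (n χ) χ (Cfsg.conjFun χ) y) = 0 := by
      rw [← classInner_conj_symm, b4, map_zero]
    conv_rhs => rw [hx', hy']
    simp only [classInner_add_left, classInner_add_right, classInner_smul_left,
      classInner_smul_right, isom_inner hτ₁ hPx hPy, a1, a2, a3, a4, b1, b2, b3', b4', hZZ, hZ'Z',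
      hZZ', hZ'Z, hn χ hχ, hχχc, hχcχ, hχcχc]
  · -- generalized characters
    intro x hx
    obtain ⟨⟨k, hk⟩, ⟨l, hl⟩, hPx⟩ := hkey x hx
    simp only [hk, hl, intCast_smul_eq]
    exact F'.gen_add (F'.gen_add (isom_gen hτ₁ hPx) (F'.gen_zsmul k hZgen))
      (F'.gen_zsmul l hZ'gen)
  · -- agreement with τ
    intro γ hγ
    obtain ⟨hγspan, hγ1⟩ := mem_zspanOn_compl_one.1 hγ
    obtain ⟨⟨k, hk⟩, ⟨l, hl⟩, hPγ⟩ := hkey γ hγspan
    have hsubS : (↑S₁ : Set (L → ℂ)) ∪ {χ, Cfsg.conjFun χ} ⊆ S := by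
      intro x hx
      rcases hx with hx | hx | hx
      · exact hS₁ hx
      · rw [hx]; exact hχ
      · rw [Set.mem_singleton_iff.mp hx]; exact hχc
    have hPγ1 : Pf (n χ) χ (Cfsg.conjFun χ) γ 1 = -(((k + l : ℤ) : ℂ) * (d χ : ℂ)) := by
      unfold Pf
      simp only [Pi.sub_apply, Pi.smul_apply, smul_eq_mul, hγ1, hk, hl, hc1 χ hχ, hd χ hχ]
      push_cast
      ring
    have hfirst : Pf (n χ) χ (Cfsg.conjFun χ) γ + ((k + l) * (a : ℤ)) • χ₁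
        ∈ Cfsg.zspanOn (↑S₁ : Set (L → ℂ)) ({1}ᶜ : Set L) := by
      refine mem_zspanOn_compl_one.2 ⟨zspan_add hPγ (zspan_zsmul _ hχ₁m), ?_⟩
      rw [Pi.add_apply, hPγ1, Pi.smul_apply, hd χ₁ hχ₁S', ha]
      push_cast
      simp
      ring
    have hfirst' := zspanOn_mono ({1}ᶜ : Set L) hS₁ hfirst
    have hdecomp : γ = (Pf (n χ) χ (Cfsg.conjFun χ) γ + ((k + l) * (a : ℤ)) • χ₁)
        + (k + l) • (χ - (a : ℤ) • χ₁) - l • (χ - Cfsg.conjFun χ) := by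
      ext x
      unfold Pf
      simp only [Pi.sub_apply, Pi.add_apply, Pi.smul_apply]
      simp only [smul_eq_mul, hk, hl, zsmul_eq_mul]
      push_cast
      ring
    have hm2 : (k + l) • (χ - (a : ℤ) • χ₁) ∈ Cfsg.zspanOn S ({1}ᶜ : Set L) :=
      zspanOn_zsmul _ hβ
    have hm3 : l • (χ - Cfsg.conjFun χ) ∈ Cfsg.zspanOn S ({1}ᶜ : Set L) := zspanOn_zsmul _ hχχ
    have hτγ : τ γ = τ₁ (Pf (n χ) χ (Cfsg.conjFun χ) γ) + ((k + l) * (a : ℤ)) • T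
        + (k + l) • X - l • Sg := by
      conv_lhs => rw [hdecomp]
      rw [isom_sub hE hτ (zspanOn_add hfirst' hm2) hm3, isom_add hτ hfirst' hm2,
        isom_zsmul hτ _ hβ, isom_zsmul hτ _ hχχ, ← hτ₁τ _ hfirst,
        isom_add hτ₁ hPγ (zspan_zsmul _ hχ₁m), isom_zsmul hτ₁ _ hχ₁m]
    rw [hτγ]
    simp only [hk, hl]
    ext x
    simp only [hZdef, Pi.add_apply, Pi.sub_apply, Pi.smul_apply]
    simp only [smul_eq_mul, zsmul_eq_mul]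
    push_cast
    ring

end


/-- Let (S, τ, R) be a coherence system from L to G with degrees φ 1 = d φ and squared norms ⟨φ, φ⟩ = n φ for φ ∈ S. Let S₁ ⊆ S be a finite subset closed under complex conjugation such that (S₁, L minus 1, τ) is coherent, let χ ∈ S with χ ∉ S₁ and conj χ ∉ S₁, and let χ₁ ∈ S₁ with d χ₁ dividing d χ and 2 d χ d χ₁ < Σ_{φ ∈ S₁} (d φ)² / n φ. Then S₁ together with χ and conj χ is coherent. -/
theorem result {L : Type*} [Group L] [Fintype L] {G : Type*} [Group G] [Fintype G] (S : Set (L → ℂ)) (τ : (L → ℂ) → (G → ℂ)) (R : (L → ℂ) → Finset (G → ℂ)) (hS : Cfsg.IsCoherenceSystem S τ R) (d n : (L → ℂ) → ℕ) (hd : ∀ φ ∈ S, φ 1 = (d φ : ℂ)) (hn : ∀ φ ∈ S, Cfsg.classInner φ φ = (n φ : ℂ)) (S₁ : Finset (L → ℂ)) (hS₁ : ↑S₁ ⊆ S) (hS₁c : ∀ φ ∈ S₁, Cfsg.conjFun φ ∈ S₁) (hcoh : Cfsg.IsCoherent (↑S₁ : Set (L → ℂ)) {1}ᶜ τ) (χ : L → ℂ) (hχ : χ ∈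 S) (hχ₁ : χ ∉ S₁) (hχ₂ : Cfsg.conjFun χ ∉ S₁) (χ₁ : L → ℂ) (hχ₁S : χ₁ ∈ S₁) (hdvd : d χ₁ ∣ d χ) (hineq : (2 * d χ * d χ₁ : ℝ) < ∑ φ ∈ S₁, ((d φ : ℝ) ^ 2 / (n φ : ℝ))) : Cfsg.IsCoherent (↑S₁ ∪ {χ, Cfsg.conjFun χ} : Set (L → ℂ)) {1}ᶜ τ := by
  have F' := irrFacts G
  obtain ⟨⟨α₀, hα₀, hα₀ne⟩, τ₁, hτ₁, hτ₁τ⟩ := hcoh
  obtain ⟨a, ha⟩ := hdvd
  obtain ⟨hZgen, hZZ, hZφ, hZτ, hRτ₁⟩ := exists_Z F' hS d n hd hn S₁ hS₁ hS₁c τ₁ hτ₁ hτ₁τ χ hχ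
    hχ₁ hχ₂ χ₁ hχ₁S a ha hineq
  refine ⟨⟨α₀, zspanOn_mono _ Set.subset_union_left hα₀, hα₀ne⟩, ?_⟩
  exact build F' hS d n hd hn S₁ hS₁ τ₁ hτ₁ hτ₁τ χ hχ hχ₁ hχ₂ χ₁ hχ₁S a ha hZgen hZZ hZφ hZτ hRτ₁

end Cfsg.Agent.S1516
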