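import Cfsg.Statements.S1496
import Mathlib
import Cfsg.Agent.Lib.Helper54.Coprime

set_option autoImplicit false
open Cfsg

namespace Cfsg.Agent.S1496

open Pointwise

/-- `(h g)^i (g^i)⁻¹ ∈ H` when `g` normalizes `H` and `h ∈ H`. -/
theorem pow_mul_inv_pow_mem {G : Type*} [Group G] (H : Subgroup G) (g : G)
    (hg : g ∈ Subgroup.normalizer (H : Set G)) (h : G) (hh : h ∈ H) (i : ℕ) :
    (h * g) ^ i * (g ^ i)⁻¹ ∈ H := by
  induction i with
  | zero => simp
  | succ i ih =>
    have hgi : g ^ i ∈ Subgroup.normalizer (H : Set G) := pow_mem hg i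
    have h1 : g ^ i * h * (g ^ i)⁻¹ ∈ H := (Subgroup.mem_normalizer_iff.mp hgi h).mp hh
    have h2 : (h * g) ^ (i + 1) * (g ^ (i + 1))⁻¹
        = ((h * g) ^ i * (g ^ i)⁻¹) * (g ^ i * h * (g ^ i)⁻¹) := by
      rw [pow_succ, pow_succ]
      group
    rw [h2]
    exact H.mul_mem ih h1

/-- Main lemma: conjugating `h g` into `C_H(g) g` by an element of `H`. -/
theorem main {G : Type*} [Group G] [Finite G] (H : Subgroup G) (g : G)
    (hg : g ∈ Subgroup.normalizer (H : Set G)) (hcop : Nat.Coprime (orderOf g) (Nat.card H))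
    (h : G) (hh : h ∈ H) :
    ∃ x ∈ H, ∃ c ∈ H, c * g = g * c ∧ x * (h * g) * x⁻¹ = c * g := by
  set n := orderOf g with hn
  set v := h * g with hv
  have hvn : v ^ n ∈ H := by
    have := pow_mul_inv_pow_mem H g hg h hh n
    rwa [hn, pow_orderOf_eq_one, inv_one, mul_one] at this
  set k := orderOf (v ^ n) with hk
  have hkH : k ∣ Nat.card H := Subgroup.orderOf_dvd_natCard H hvn
  have hnk : Nat.Coprime n k := Nat.Coprime.coprime_dvd_right hkH hcop
  have hvnk : v ^ (n * k) = 1 := by rw [pow_mul, hk, pow_orderOf_eq_one]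
  obtain ⟨e, he1, he2⟩ := Nat.chineseRemainder hnk 1 0
  obtain ⟨f, hf1, hf2⟩ := Nat.chineseRemainder hnk 0 1
  set u := v ^ e with hu
  set c' := v ^ f with hc'
  have hef : v ^ (e + f) = v := by
    have h1 : e + f ≡ 1 [MOD n] := by simpa using he1.add hf1
    have h2 : e + f ≡ 1 [MOD k] := by simpa using he2.add hf2
    have h3 : e + f ≡ 1 [MOD n * k] := (Nat.modEq_and_modEq_iff_modEq_mul hnk).mp ⟨h1, h2⟩
    have h4 : orderOf v ∣ n * k := orderOf_dvd_of_pow_eq_one hvnk
    have := pow_eq_pow_iff_modEq.mpr (h3.of_dvd h4)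
    rwa [pow_one] at this
  have hun : u ^ n = 1 := by
    have hke : k ∣ e := (Nat.modEq_zero_iff_dvd).mp he2
    obtain ⟨e', he'⟩ := hke
    rw [hu, ← pow_mul, he', show k * e' * n = n * k * e' by ring, pow_mul, hvnk, one_pow]
  have hc'H : c' ∈ H := by
    have hnf : n ∣ f := (Nat.modEq_zero_iff_dvd).mp hf1
    obtain ⟨f', hf'⟩ := hnf
    rw [hc', hf', pow_mul]
    exact H.pow_mem hvn f'
  have hug : u * g⁻¹ ∈ H := by
    have h1 := pow_mul_inv_pow_mem H g hg h hh e
    have h2 : g ^ e = g := by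
      have := pow_eq_pow_iff_modEq.mpr he1
      rwa [pow_one] at this
    rwa [h2] at h1
  have hcomm : c' * u = u * c' := by rw [hc', hu, ← pow_add, ← pow_add, add_comm]
  have hvcu : v = c' * u := by rw [hc', hu, ← pow_add, add_comm, hef]
  set A := Subgroup.zpowers u with hA
  set B := Subgroup.zpowers g with hB
  set M := H ⊔ B with hM
  have hBN : B ≤ Subgroup.normalizer (H : Set G) := Subgroup.zpowers_le.mpr hg
  have hML : M ≤ Subgroup.normalizer (H : Set G) := sup_le Subgroup.le_normalizer hBN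
  have huM : u ∈ M := by
    have : u = (u * g⁻¹) * g := by group
    rw [this]
    exact M.mul_mem (Subgroup.mem_sup_left hug) (Subgroup.mem_sup_right (Subgroup.mem_zpowers g))
  have hAM : A ≤ M := Subgroup.zpowers_le.mpr huM
  have hAN : A ≤ Subgroup.normalizer (H : Set G) := hAM.trans hML
  have hcardA : Nat.card A ∣ n := by
    rw [Nat.card_zpowers]
    exact orderOf_dvd_of_pow_eq_one hun
  have hcopA : (Nat.card H).Coprime (Nat.card A) :=
    (Nat.Coprime.coprime_dvd_left hcardA hcop).symm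
  have hcardB : Nat.card B = n := Nat.card_zpowers g
  have hcopB : (Nat.card H).Coprime (Nat.card B) := by
    rw [hcardB]
    exact hcop.symm
  have hdisjA : H ⊓ A = ⊥ := (Subgroup.disjoint_of_coprime_natCard hcopA).eq_bot
  have hdisjB : H ⊓ B = ⊥ := (Subgroup.disjoint_of_coprime_natCard hcopB).eq_bot
  have hMA : M = H ⊔ A := by
    apply le_antisymm
    · apply sup_le le_sup_left
      rw [hB, Subgroup.zpowers_le]
      have : g = (u * g⁻¹)⁻¹ * u := by group
      rw [this]
      exact mul_mem (Subgroup.mem_sup_left (H.inv_mem hug))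
        (Subgroup.mem_sup_right (Subgroup.mem_zpowers u))
    · exact sup_le le_sup_left hAM
  have hcardMB : Nat.card M = Nat.card H * Nat.card B :=
    Cfsg.Agent.Lib.Helper54.card_sup_of_le_normalizer hBN hdisjB
  have hcardMA : Nat.card M = Nat.card H * Nat.card A := by
    rw [hMA]
    exact Cfsg.Agent.Lib.Helper54.card_sup_of_le_normalizer hAN hdisjA
  have hAB : Nat.card B = Nat.card A := by
    have : Nat.card H * Nat.card B = Nat.card H * Nat.card A := by rw [← hcardMB, ← hcardMA]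
    exact Nat.eq_of_mul_eq_mul_left Nat.card_pos this
  obtain ⟨l, hlH, hl⟩ := Cfsg.Agent.Lib.Helper54.sz_conj_rel M H A B le_sup_left hML hAM
    le_sup_right hcardMA.symm hAB hcopA (Or.inl inferInstance)
  have hlu : l * u * l⁻¹ ∈ B := by
    rw [← hl]
    exact Cfsg.Agent.Lib.Helper54.conj_mem_conj_smul (Subgroup.mem_zpowers u)
  have hluH : l * u * l⁻¹ * g⁻¹ ∈ H := by
    have hu_norm : u ∈ Subgroup.normalizer (H : Set G) := hAN (Subgroup.mem_zpowers u)
    have h1 : u * l⁻¹ * u⁻¹ ∈ H :=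
      (Subgroup.mem_normalizer_iff.mp hu_norm l⁻¹).mp (H.inv_mem hlH)
    have : l * u * l⁻¹ * g⁻¹ = l * (u * l⁻¹ * u⁻¹) * (u * g⁻¹) := by group
    rw [this]
    exact H.mul_mem (H.mul_mem hlH h1) hug
  have hlug : l * u * l⁻¹ = g := by
    have hB' : l * u * l⁻¹ * g⁻¹ ∈ B := B.mul_mem hlu (B.inv_mem (Subgroup.mem_zpowers g))
    have : l * u * l⁻¹ * g⁻¹ ∈ H ⊓ B := ⟨hluH, hB'⟩
    rw [hdisjB, Subgroup.mem_bot] at this
    exact mul_inv_eq_one.mp this
  refine ⟨l, hlH, l * c' * l⁻¹, H.mul_mem (H.mul_mem hlH hc'H) (H.inv_mem hlH), ?_, ?_⟩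
  · rw [← hlug]
    have e1 : l * c' * l⁻¹ * (l * u * l⁻¹) = l * (c' * u) * l⁻¹ := by group
    have e2 : l * u * l⁻¹ * (l * c' * l⁻¹) = l * (u * c') * l⁻¹ := by group
    rw [e1, e2, hcomm]
  · rw [← hlug, hvcu]
    group

/-- Let H be a subgroup of the finite group G and g an element normalising H whose order is coprime to the order of H. Then for every h ∈ H there are x ∈ H and c ∈ H commuting with g such that x * (h * g) * x⁻¹ = c * g. -/
theorem result {G : Type*} [Group G] [Finite G] (H : Subgroup G) (g : G) (hg : g ∈ Subgroup.normalizer (H : Set G)) (hcop : Nat.Coprime (orderOf g) (Nat.card H)) (h : G) (hh : h ∈ H) : ∃ x ∈ H, ∃ c ∈ H, c * g = g * c ∧ x * (h * g) * x⁻¹ = c * g := by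
  exact main H g hg hcop h hh

end Cfsg.Agent.S1496
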