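import Cfsg.Statements.S1512
import Mathlib
import Cfsg.Agent.S1496

set_option autoImplicit false
open Cfsg

namespace Cfsg.Agent.S1512

/-- every `x`-invariant class of `K` meets `W₂` -/
theorem exists_mem_of_invariant {L : Type*} [Group L] [Finite L] (K W₂ : Subgroup L) [hK : K.Normal]
    (x : L) (hx1 : x ≠ 1) (hx : Nat.Coprime (orderOf x) (Nat.card K))
    (hC : ∀ y ∈ Subgroup.zpowers x, y ≠ 1 → K ⊓ Subgroup.centralizer ({y} : Set L) = W₂)
    (C : ConjClasses K)
    (hinv : ConjClasses.map (MulEquiv.toMonoidHom ((MulAut.conjNormal x : MulAut K))) C = C) :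
    ∃ w : K, (w : L) ∈ W₂ ∧ ConjClasses.mk w = C := by
  obtain ⟨k, rfl⟩ := ConjClasses.exists_rep C
  have h1 : ConjClasses.mk ((MulAut.conjNormal x : MulAut K) k) = ConjClasses.mk k := hinv
  rw [ConjClasses.mk_eq_mk_iff_isConj, isConj_iff] at h1
  obtain ⟨m, hm⟩ := h1
  -- in L: m * (x k x⁻¹) * m⁻¹ = k
  have hm' : (m : L) * (x * (k : L) * x⁻¹) * (m : L)⁻¹ = (k : L) := by
    have := congrArg (Subtype.val) hm
    simpa [MulAut.conjNormal_apply] using this
  have hxN : x ∈ Subgroup.normalizer (K : Set L) := by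
    rw [Subgroup.normalizer_eq_top]
    exact Subgroup.mem_top x
  obtain ⟨t, htK, c, hcK, hcx, htc⟩ := Cfsg.Agent.S1496.main K x hxN hx (m : L) m.2
  -- k commutes with m x
  have hk_comm : ((m : L) * x) * (k : L) = (k : L) * ((m : L) * x) := by
    have : (k : L) * ((m : L) * x) = (m : L) * (x * (k : L) * x⁻¹) * (m : L)⁻¹ * ((m : L) * x) := by
      rw [hm']
    rw [this]
    group
  -- k' := t k t⁻¹ commutes with c x
  set k' : L := t * (k : L) * t⁻¹ with hk'
  have hk'K : k' ∈ K := K.mul_mem (K.mul_mem htK k.2) (K.inv_mem htK)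
  have hk'_comm : (c * x) * k' = k' * (c * x) := by
    rw [← htc, hk']
    have e1 : t * ((m : L) * x) * t⁻¹ * (t * (k : L) * t⁻¹) = t * (((m : L) * x) * (k : L)) * t⁻¹ := by
      group
    have e2 : t * (k : L) * t⁻¹ * (t * ((m : L) * x) * t⁻¹) = t * ((k : L) * ((m : L) * x)) * t⁻¹ := by
      group
    rw [e1, e2, hk_comm]
  -- y := x ^ (orderOf c)
  set j := orderOf c with hj
  have hcxj : (c * x) ^ j = x ^ j := by
    rw [(show Commute c x from hcx).mul_pow, hj, pow_orderOf_eq_one, one_mul]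
  have hjK : j ∣ Nat.card K := Subgroup.orderOf_dvd_natCard K hcK
  have hy1 : x ^ j ≠ 1 := by
    intro h
    have h2 : orderOf x ∣ j := orderOf_dvd_of_pow_eq_one h
    have h3 : Nat.Coprime (orderOf x) j := Nat.Coprime.coprime_dvd_right hjK hx
    have h4 : orderOf x = 1 := Nat.eq_one_of_dvd_one (by have := Nat.dvd_gcd (dvd_refl _) h2; rwa [h3.gcd_eq_one] at this)
    exact hx1 (orderOf_eq_one_iff.mp h4)
  have hk'y : k' ∈ K ⊓ Subgroup.centralizer ({x ^ j} : Set L) := by
    refine ⟨hk'K, ?_⟩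
    show k' ∈ Subgroup.centralizer ({x ^ j} : Set L)
    rw [Subgroup.mem_centralizer_singleton_iff]
    have : Commute (c * x) k' := hk'_comm
    have h5 := this.pow_left j
    rw [hcxj] at h5
    exact h5.eq.symm
  rw [hC (x ^ j) (Subgroup.pow_mem _ (Subgroup.mem_zpowers x) j) hy1] at hk'y
  refine ⟨⟨k', hk'K⟩, hk'y, ?_⟩
  rw [ConjClasses.mk_eq_mk_iff_isConj, isConj_iff]
  refine ⟨⟨t, htK⟩⁻¹, ?_⟩
  apply Subtype.ext
  simp [hk']
  group

/-- Let K be a normal subgroup of the finite group L and x a non-identity element whose order is coprime to the order of K, such that K ⊓ C_L(y) = W₂ for every non-identity element y of the cyclic group generated by x. Then the number of conjugacy classes of K mapped to themselves by conjugation by x is at most Nat.card W₂. -/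
theorem result {L : Type*} [Group L] [Finite L] (K W₂ : Subgroup L) [hK : K.Normal] (x : L) (hx1 : x ≠ 1) (hx : Nat.Coprime (orderOf x) (Nat.card K)) (hC : ∀ y ∈ Subgroup.zpowers x, y ≠ 1 → K ⊓ Subgroup.centralizer ({y} : Set L) = W₂) : Nat.card {C : ConjClasses K // ConjClasses.map (MulEquiv.toMonoidHom ((MulAut.conjNormal x : MulAut K))) C = C} ≤ Nat.card W₂ := by
  classical
  have key := exists_mem_of_invariant K W₂ x hx1 hx hC
  choose F hF1 hF2 using key
  let Φ : {C : ConjClasses K // ConjClasses.map (MulEquiv.toMonoidHom ((MulAut.conjNormal x : MulAut K))) C = C} → W₂ :=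
    fun C => ⟨(F C.1 C.2 : L), hF1 C.1 C.2⟩
  have hΦ : Function.Injective Φ := by
    intro C D hCD
    apply Subtype.ext
    have h1 : (F C.1 C.2 : L) = (F D.1 D.2 : L) := congrArg (fun w : W₂ => (w : L)) hCD
    have h2 : F C.1 C.2 = F D.1 D.2 := Subtype.ext h1
    rw [← hF2 C.1 C.2, ← hF2 D.1 D.2, h2]
  exact Nat.card_le_card_of_injective Φ hΦ

end Cfsg.Agent.S1512
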