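import Cfsg.Statements.S0860
import Mathlib
import Cfsg.Agent.Lib.Helper78.CharMore
-- import your own Cfsg.Agent.* helpers here

set_option autoImplicit false
open Cfsg

namespace Cfsg.Agent.S0860

open Cfsg.Agent.Lib.Helper78
open scoped ComplexConjugate

/-- Sum over the group of centralizer orders, restricted to one conjugacy class, is `|G|`. -/
theorem sum_card_centralizer_class {G : Type*} [Group G] [Fintype G] [DecidableEq (ConjClasses G)] (c : ConjClasses G) :
    ∑ g ∈ Finset.univ.filter (fun g : G => ConjClasses.mk g = c),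
      (Nat.card (Subgroup.centralizer ({g} : Set G)) : ℂ) = (Nat.card G : ℂ) := by
  classical
  obtain ⟨g₀, rfl⟩ := ConjClasses.exists_rep c
  have h1 : ∀ g ∈ Finset.univ.filter (fun g : G => ConjClasses.mk g = ConjClasses.mk g₀),
      (Nat.card (Subgroup.centralizer ({g} : Set G)) : ℂ)
        = (Nat.card (Subgroup.centralizer ({g₀} : Set G)) : ℂ) := by
    intro g hg
    rw [Finset.mem_filter] at hg
    have : IsConj g g₀ := ConjClasses.mk_eq_mk_iff_isConj.1 hg.2
    rw [card_centralizer_eq_of_isConj this]
  rw [Finset.sum_congr rfl h1, Finset.sum_const, nsmul_eq_mul]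
  have h2 : (Finset.univ.filter (fun g : G => ConjClasses.mk g = ConjClasses.mk g₀)).card
      = (Subgroup.centralizer ({g₀} : Set G)).index := by
    rw [← card_isConj_eq_index g₀]
    congr 1
    ext g
    simp only [Finset.mem_filter, Finset.mem_univ, true_and]
    rw [ConjClasses.mk_eq_mk_iff_isConj]
    exact ⟨fun h => h.symm, fun h => h.symm⟩
  rw [h2, ← Nat.cast_mul, Subgroup.index_mul_card]

theorem main_S0860 {G : Type*} [Group G] [Finite G] {A : Type*} [Group A] [MulAction A (Cfsg.IrrCharacter G)] [MulAction A (ConjClasses G)] (hcompat : ∀ (a : A) (χ : Cfsg.IrrCharacter G) (g g' : G), ConjClasses.mk g' = a • ConjClasses.mk g → ((a • χ : Cfsg.IrrCharacter G) : G → ℂ) g' = (χ : G → ℂ) g) (a : A) : Nat.card {χ : Cfsg.IrrCharacter G // a • χ = χ} = Nat.card {C : ConjClasses G // a • C = C} := by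
  classical
  have := Fintype.ofFinite G
  have : Fintype (ConjClasses G) := Fintype.ofFinite _
  -- representatives of a⁻¹ • class
  have hex : ∀ g : G, ∃ t : G, ConjClasses.mk t = a⁻¹ • ConjClasses.mk g :=
    fun g => ConjClasses.exists_rep _
  choose t ht using hex
  have hval : ∀ (χ : IrrCharacter G) (g : G), ((a • χ : IrrCharacter G) : G → ℂ) g = (χ : G → ℂ) (t g) := by
    intro χ g
    apply hcompat
    rw [ht, smul_inv_smul]
  have hG : (Nat.card G : ℂ) ≠ 0 := by
    have : Nat.card G ≠ 0 := Nat.card_pos.ne'
    exact_mod_cast this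
  -- (i)
  have h1 : ∀ χ : IrrCharacter G, ∑ g : G, ((a • χ : IrrCharacter G) : G → ℂ) g * conj ((χ : G → ℂ) g)
      = if a • χ = χ then (Nat.card G : ℂ) else 0 := by
    intro χ
    have := classInner_irr (a • χ).2 χ.2
    unfold classInner at this
    have h2 : ∑ g : G, ((a • χ : IrrCharacter G) : G → ℂ) g * conj ((χ : G → ℂ) g)
        = (Nat.card G : ℂ) * (if ((a • χ : IrrCharacter G) : G → ℂ) = (χ : G → ℂ) then 1 else 0) := by
      rw [← this, ← mul_assoc, mul_inv_cancel₀ hG, one_mul]
    rw [h2]
    by_cases h : a • χ = χ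
    · rw [if_pos h, if_pos (congrArg Subtype.val h), mul_one]
    · rw [if_neg h, if_neg (fun h' => h (Subtype.ext h')), mul_zero]
  -- (ii)
  have h2 : ∀ g : G, ∑ χ : IrrCharacter G, ((a • χ : IrrCharacter G) : G → ℂ) g * conj ((χ : G → ℂ) g)
      = if a • ConjClasses.mk g = ConjClasses.mk g
          then (Nat.card (Subgroup.centralizer ({g} : Set G)) : ℂ) else 0 := by
    intro g
    simp only [hval]
    by_cases h : a • ConjClasses.mk g = ConjClasses.mk g
    · rw [if_pos h]
      have hc : IsConj (t g) g := by
        rw [← ConjClasses.mk_eq_mk_iff_isConj, ht, inv_smul_eq_iff, h]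
      rw [second_orthogonality_of_isConj hc, card_centralizer_eq_of_isConj hc]
    · rw [if_neg h]
      apply second_orthogonality_of_not_isConj
      intro hc
      apply h
      rw [← ConjClasses.mk_eq_mk_iff_isConj, ht, inv_smul_eq_iff] at hc
      exact hc.symm
  -- double counting
  have hdc : ∑ χ : IrrCharacter G, (if a • χ = χ then (Nat.card G : ℂ) else 0)
      = ∑ g : G, (if a • ConjClasses.mk g = ConjClasses.mk g
          then (Nat.card (Subgroup.centralizer ({g} : Set G)) : ℂ) else 0) := by
    simp only [← h1, ← h2]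
    exact Finset.sum_comm
  -- (iii)
  have h3 : ∑ g : G, (if a • ConjClasses.mk g = ConjClasses.mk g
          then (Nat.card (Subgroup.centralizer ({g} : Set G)) : ℂ) else 0)
      = ∑ c : ConjClasses G, (if a • c = c then (Nat.card G : ℂ) else 0) := by
    rw [← Finset.sum_fiberwise (Finset.univ : Finset G) (fun g => ConjClasses.mk g)]
    apply Finset.sum_congr rfl
    intro c _
    by_cases hc : a • c = c
    · rw [if_pos hc, ← sum_card_centralizer_class c]
      apply Finset.sum_congr rfl
      intro g hg
      rw [Finset.mem_filter] at hg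
      rw [hg.2, if_pos hc]
    · rw [if_neg hc]
      apply Finset.sum_eq_zero
      intro g hg
      rw [Finset.mem_filter] at hg
      rw [hg.2, if_neg hc]
  rw [h3] at hdc
  rw [← Finset.sum_filter, ← Finset.sum_filter, Finset.sum_const, Finset.sum_const, nsmul_eq_mul, nsmul_eq_mul] at hdc
  have h4 := mul_right_cancel₀ hG hdc
  rw [Nat.card_eq_fintype_card, Nat.card_eq_fintype_card, Fintype.card_subtype, Fintype.card_subtype]
  exact_mod_cast h4


/-- Let a group A act on the set of irreducible characters and on the set of conjugacy classes of a finite group G in such a way that (a • χ) evaluated on the class a • C equals χ evaluated on C, for all a, χ and C. Then every element of A fixes exactly as many irreducible characters as it fixes conjugacy classes. -/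
theorem result {G : Type*} [Group G] [Finite G] {A : Type*} [Group A] [MulAction A (Cfsg.IrrCharacter G)] [MulAction A (ConjClasses G)] (hcompat : ∀ (a : A) (χ : Cfsg.IrrCharacter G) (g g' : G), ConjClasses.mk g' = a • ConjClasses.mk g → ((a • χ : Cfsg.IrrCharacter G) : G → ℂ) g' = (χ : G → ℂ) g) (a : A) : Nat.card {χ : Cfsg.IrrCharacter G // a • χ = χ} = Nat.card {C : ConjClasses G // a • C = C} := by
  exact main_S0860 hcompat a

end Cfsg.Agent.S0860
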