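import Cfsg.Statements.S0164
import Cfsg.Agent.Lib.Helper3.BrFinal
-- import your own Cfsg.Agent.* helpers here

set_option autoImplicit false
open Cfsg

namespace Cfsg.Agent.S0164

theorem indFun_sub'' {G : Type*} [Group G] [Fintype G] (H : Subgroup G) (f g : H → ℂ) :
    Cfsg.indFun H (f - g) = Cfsg.indFun H f - Cfsg.indFun H g := by
  have := Cfsg.Agent.Lib.Helper3.indFun_add' H (f - g) g
  rw [sub_add_cancel] at this
  exact eq_sub_of_add_eq this.symm

theorem isGeneralizedCharacter_zero {G : Type*} [Group G] : Cfsg.IsGeneralizedCharacter G 0 :=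
  ⟨0, 0, Cfsg.Agent.Lib.Helper80.isCharacter_zero, Cfsg.Agent.Lib.Helper80.isCharacter_zero,
    (sub_zero 0).symm⟩

theorem isGeneralizedCharacter_add {G : Type*} [Group G] {a b : G → ℂ}
    (ha : Cfsg.IsGeneralizedCharacter G a) (hb : Cfsg.IsGeneralizedCharacter G b) :
    Cfsg.IsGeneralizedCharacter G (a + b) := by
  obtain ⟨χ1, ψ1, h1, h2, rfl⟩ := ha
  obtain ⟨χ2, ψ2, h3, h4, rfl⟩ := hb
  exact ⟨χ1 + χ2, ψ1 + ψ2, Cfsg.Agent.Lib.Helper80.isCharacter_add h1 h3,
    Cfsg.Agent.Lib.Helper80.isCharacter_add h2 h4, by abel⟩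

theorem isGeneralizedCharacter_neg {G : Type*} [Group G] {a : G → ℂ}
    (ha : Cfsg.IsGeneralizedCharacter G a) : Cfsg.IsGeneralizedCharacter G (-a) := by
  obtain ⟨χ1, ψ1, h1, h2, rfl⟩ := ha
  exact ⟨ψ1, χ1, h2, h1, by abel⟩


/-- Brauer's characterisation of characters: a class function on a finite group whose restriction to every elementary subgroup is a generalized character is a generalized character. -/
theorem result {G : Type*} [Group G] [Finite G] (θ : G → ℂ) (hθ : Cfsg.IsClassFunction G θ) (hE : ∀ (E : Subgroup G) (p : ℕ), p.Prime → Cfsg.IsElementary p E → Cfsg.IsGeneralizedCharacter E (fun e : E => θ e)) : Cfsg.IsGeneralizedCharacter G θ := by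
  classical
  haveI : Fintype G := Fintype.ofFinite G
  have key : ∀ v : G → ℂ, v ∈ AddSubgroup.closure (Cfsg.Agent.Lib.Helper3.elemInd G) →
      Cfsg.IsGeneralizedCharacter G (θ * v) := by
    intro v hv
    induction hv using AddSubgroup.closure_induction with
    | mem w hw =>
      obtain ⟨E, ψ, ⟨p, hp, hEl⟩, hψ, rfl⟩ := hw
      rw [Cfsg.Agent.Lib.Helper3.mul_indFun_eq hθ]
      obtain ⟨χ1, χ2, h1, h2, h3⟩ := hE E p hp hEl
      have h4 : (fun h : E => θ h * ψ h) = χ1 * ψ - χ2 * ψ := by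
        funext h
        have := congrFun h3 h
        simp only [Pi.sub_apply, Pi.mul_apply] at this ⊢
        rw [this]
        ring
      rw [h4, indFun_sub'']
      exact ⟨_, _, Cfsg.Agent.S0148.result E _ (Cfsg.Agent.Lib.Helper80.isCharacter_mul h1 hψ),
        Cfsg.Agent.S0148.result E _ (Cfsg.Agent.Lib.Helper80.isCharacter_mul h2 hψ), rfl⟩
    | zero => rw [mul_zero]; exact isGeneralizedCharacter_zero
    | add x y _ _ hx hy => rw [mul_add]; exact isGeneralizedCharacter_add hx hy
    | neg x _ hx => rw [mul_neg]; exact isGeneralizedCharacter_neg hx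
  have := key 1 Cfsg.Agent.Lib.Helper3.one_mem_closure_elemInd
  rwa [mul_one] at this

end Cfsg.Agent.S0164
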