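import Mathlib
import Cfsg.Statements.S0862
import Cfsg.Agent.Lib.Helper15.DetChar
import Cfsg.Agent.Lib.Helper15.Gallagher
import Cfsg.Agent.Lib.Helper77.Linear

set_option autoImplicit false
open Cfsg

namespace Cfsg.Agent.S0862

open Cfsg.Agent.Lib.Helper15 Cfsg.Agent.Lib.Helper75 Cfsg.Agent.Lib.Helper78

universe u

section

variable {G : Type u} [Group G] [Fintype G] (N : Subgroup G) [hN : N.Normal]

omit hN in
/-- A homomorphism to `ℂˣ` trivial on `N` is a constituent of `(1_N)^G`. -/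
lemma classInner_indFun_one_hom (β : G →* ℂˣ) (hβ : ∀ n : N, β n = 1) :
    classInner (indFun N (fun _ => (1 : ℂ))) (fun g => ((β g : ℂˣ) : ℂ)) = 1 := by
  classical
  have : Fintype N := Fintype.ofFinite N
  have hirr := Cfsg.Agent.Lib.Helper77.isIrrCharacter_of_monoidHom β
  rw [frobenius_reciprocity N _ (IsCharacter.isClassFunction (IsIrrCharacter.isCharacter hirr))]
  have h1 : (fun h : N => ((β (h : G) : ℂˣ) : ℂ)) = fun _ => (1 : ℂ) := by
    funext n
    rw [hβ n]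
    rfl
  rw [h1]
  exact classInner_irr_self isIrrCharacter_one

/-- Twisting an extension by a linear character of `G / N` gives an extension. -/
lemma twist_extension (ϑ : N → ℂ) (hϑ : IsIrrCharacter N ϑ) (η : G → ℂ) (hη : IsIrrCharacter G η)
    (hext : ∀ n : N, η n = ϑ n) (β : G →* ℂˣ) (hβ : ∀ n : N, β n = 1) :
    IsIrrCharacter G ((fun g => ((β g : ℂˣ) : ℂ)) * η) ∧
      ∀ n : N, ((fun g => ((β g : ℂˣ) : ℂ)) * η) n = ϑ n := by
  have hηcl : IsClassFunction G η := IsCharacter.isClassFunction (IsIrrCharacter.isCharacter hη)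
  have hϑinv : ∀ (g : G) (n : N), ϑ ⟨g * n * g⁻¹, hN.conj_mem (n : G) n.2 g⟩ = ϑ n := by
    intro g n
    rw [← hext, ← hext]
    exact hηcl n g
  have hprod : IsIrrCharacter N ((fun _ => (1 : ℂ)) * ϑ) := by
    have : (fun _ : N => (1 : ℂ)) * ϑ = ϑ := by funext n; simp
    rw [this]; exact hϑ
  obtain ⟨h1, -, -⟩ := gallagher_core N (fun _ => (1 : ℂ)) ϑ isIrrCharacter_one
    (fun _ _ => rfl) hϑinv hprod η hη hext
  refine ⟨(h1 ⟨_, Cfsg.Agent.Lib.Helper77.isIrrCharacter_of_monoidHom β⟩ ?_).1, ?_⟩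
  · rw [classInner_indFun_one_hom N β hβ]
    exact one_ne_zero
  · intro n
    rw [Pi.mul_apply, hβ n, hext]
    simp

/-- Every extension is a twist of a given one by a linear character of `G / N`. -/
lemma exists_twist_of_extension (ϑ : N → ℂ) (hϑ : IsIrrCharacter N ϑ) (η : G → ℂ)
    (hη : IsIrrCharacter G η) (hext : ∀ n : N, η n = ϑ n) (χ' : G → ℂ) (hχ' : IsIrrCharacter G χ')
    (hext' : ∀ n : N, χ' n = ϑ n) :
    ∃ ψ : G →* ℂˣ, (∀ n : N, ψ n = 1) ∧ χ' = (fun g => ((ψ g : ℂˣ) : ℂ)) * η := by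
  classical
  have : Fintype N := Fintype.ofFinite N
  have hηcl : IsClassFunction G η := IsCharacter.isClassFunction (IsIrrCharacter.isCharacter hη)
  have hχ'cl : IsClassFunction G χ' := IsCharacter.isClassFunction (IsIrrCharacter.isCharacter hχ')
  have hϑinv : ∀ (g : G) (n : N), ϑ ⟨g * n * g⁻¹, hN.conj_mem (n : G) n.2 g⟩ = ϑ n := by
    intro g n
    rw [← hext, ← hext]
    exact hηcl n g
  have h1ϑ : (fun _ : N => (1 : ℂ)) * ϑ = ϑ := by funext n; simp
  have hprod : IsIrrCharacter N ((fun _ => (1 : ℂ)) * ϑ) := by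
    rw [h1ϑ]; exact hϑ
  obtain ⟨-, -, h3⟩ := gallagher_core N (fun _ => (1 : ℂ)) ϑ isIrrCharacter_one
    (fun _ _ => rfl) hϑinv hprod η hη hext
  have hne : classInner (indFun N ((fun _ => (1 : ℂ)) * ϑ)) χ' ≠ 0 := by
    rw [h1ϑ, frobenius_reciprocity N ϑ hχ'cl]
    have : (fun h : N => χ' h) = ϑ := funext hext'
    rw [this, classInner_irr_self hϑ]
    exact one_ne_zero
  obtain ⟨β', hβ'1, hβ'2⟩ := h3 ⟨χ', hχ'⟩ hne
  -- degree of β'
  have hη1 : η 1 ≠ 0 := by
    have h3 : η 1 = (Cfsg.charDegree η : ℂ) :=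
      Cfsg.Agent.Lib.Helper79.irr_apply_one_eq_charDegree ⟨η, hη⟩
    have h4 : 0 < Cfsg.charDegree η := Cfsg.Agent.Lib.Helper79.irr_charDegree_pos ⟨η, hη⟩
    rw [h3]
    exact_mod_cast h4.ne'
  have hdeg : (β' : G → ℂ) 1 = 1 := by
    have h5 := congrFun hβ'2 1
    rw [Pi.mul_apply] at h5
    have h6 : χ' 1 = η 1 := by
      have e1 := hext' 1
      have e2 := hext 1
      simp only [Subgroup.coe_one] at e1 e2
      rw [e1, e2]
    rw [show ((⟨χ', hχ'⟩ : IrrCharacter G) : G → ℂ) 1 = χ' 1 from rfl, h6] at h5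
    exact mul_right_cancel₀ hη1 (h5.trans (one_mul _).symm)
  obtain ⟨ψ, hψ⟩ := Cfsg.Agent.Lib.Helper77.exists_monoidHom_of_degree_one
    (IsIrrCharacter.isCharacter β'.2) hdeg
  have hβfun : (β' : G → ℂ) = fun g => ((ψ g : ℂˣ) : ℂ) := funext hψ
  refine ⟨ψ, ?_, ?_⟩
  · -- trivial on `N`
    rw [frobenius_reciprocity N _ (isClassFunction_irr β')] at hβ'1
    have hres : IsIrrCharacter N (fun h : N => (β' : G → ℂ) h) := by
      have : (fun h : N => (β' : G → ℂ) h) = fun h : N => (((ψ.comp N.subtype) h : ℂˣ) : ℂ) := by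
        funext h
        rw [hψ]
        rfl
      rw [this]
      exact Cfsg.Agent.Lib.Helper77.isIrrCharacter_of_monoidHom _
    rw [classInner_irr isIrrCharacter_one hres] at hβ'1
    have heq : (fun _ : N => (1 : ℂ)) = fun h : N => (β' : G → ℂ) h := by
      by_contra hcon
      rw [if_neg hcon] at hβ'1
      exact hβ'1 rfl
    intro n
    have := congrFun heq n
    rw [hψ] at this
    exact Units.ext this.symm
  · rw [← hβfun]
    exact hβ'2.symm

end

/-- Let N be a normal subgroup of the finite group G and ϑ an irreducible character of N of degree d coprime to the index of N, which is the restriction of some irreducible character of G. Let μ be a character of G of degree 1 whose restriction to N is the determinantal character of ϑ. Then there is exactly one irreducible character χ of G restricting to ϑ whose determinantal character is μ. -/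
theorem result {G : Type*} [Group G] [Finite G] (N : Subgroup G) [N.Normal] (ϑ : N → ℂ) (hϑ : Cfsg.IsIrrCharacter N ϑ) (d : ℕ) (hd : ϑ 1 = d) (hcop : Nat.Coprime N.index d) (hext : ∃ η : G → ℂ, Cfsg.IsIrrCharacter G η ∧ (∀ n : N, η n = ϑ n)) (μ : G → ℂ) (hμ : Cfsg.IsCharacter G μ ∧ μ 1 = 1) (hμN : ∀ n : N, μ n = Cfsg.detChar ϑ n) : ∃! χ : G → ℂ, Cfsg.IsIrrCharacter G χ ∧ (∀ n : N, χ n = ϑ n) ∧ Cfsg.detChar χ = μ := by
  classical
  have := Fintype.ofFinite G
  obtain ⟨η, hη, hηext⟩ := hext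
  obtain ⟨μ', hμ'⟩ := Cfsg.Agent.Lib.Helper77.exists_monoidHom_of_degree_one hμ.1 hμ.2
  have hηc := IsIrrCharacter.isCharacter hη
  obtain ⟨δ, hδ⟩ := exists_detHom hηc
  have hη1 : η 1 = d := by
    have e := hηext 1
    simp only [Subgroup.coe_one] at e
    rw [e, hd]
  let ν : G →* ℂˣ := μ' / δ
  have hνN : ∀ n : N, ν n = 1 := by
    intro n
    have h1 : Cfsg.detChar ϑ n = Cfsg.detChar η n := by
      have e : ϑ = fun x : N => η x := (funext hηext).symm
      rw [e, detChar_res N hηc n]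
    have h2 : ((μ' n : ℂˣ) : ℂ) = ((δ n : ℂˣ) : ℂ) := by rw [← hμ', ← hδ, hμN, h1]
    have h3 : μ' (n : G) = δ (n : G) := Units.ext h2
    show (μ' / δ) (n : G) = 1
    rw [MonoidHom.div_apply, h3, div_self']
  have htors : ∀ ψ : G →* ℂˣ, (∀ n : N, ψ n = 1) → ∀ g : G, (ψ g) ^ N.index = 1 := by
    intro ψ hψ g
    rw [← map_pow]
    exact hψ ⟨g ^ N.index, N.pow_index_mem g⟩
  -- Bezout
  have hbez : (1 : ℤ) = (d : ℤ) * Nat.gcdA d N.index + (N.index : ℤ) * Nat.gcdB d N.index := by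
    have := Nat.gcd_eq_gcd_ab d N.index
    rw [hcop.symm] at this
    exact_mod_cast this
  set x := Nat.gcdA d N.index with hx
  set y := Nat.gcdB d N.index with hy
  -- the key computation: a hom trivial on `N` is determined by its `d`-th power
  have hkey : ∀ ψ : G →* ℂˣ, (∀ n : N, ψ n = 1) → ∀ g : G, ((ψ g) ^ d) ^ x = ψ g := by
    intro ψ hψ g
    have h1 : ψ g = (ψ g) ^ (1 : ℤ) := (zpow_one _).symm
    conv_rhs => rw [h1, hbez, zpow_add, zpow_mul, zpow_mul, zpow_natCast, zpow_natCast,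
      htors ψ hψ g, one_zpow, mul_one]
  let β : G →* ℂˣ := ν ^ x
  have hβapp : ∀ g : G, β g = (ν g) ^ x := fun g => MonoidHom.zpow_apply ν x g
  have hβN : ∀ n : N, β n = 1 := by
    intro n
    rw [hβapp, hνN n, one_zpow]
  have hβd : ∀ g : G, (β g) ^ d = ν g := by
    intro g
    rw [hβapp, ← zpow_natCast, ← zpow_mul, mul_comm, zpow_mul, zpow_natCast]
    exact hkey ν hνN g
  obtain ⟨hχirr, hχext⟩ := twist_extension N ϑ hϑ η hη hηext β hβN
  have hdetχ : ∀ (ψ : G →* ℂˣ) (g : G), Cfsg.detChar ((fun g => ((ψ g : ℂˣ) : ℂ)) * η) g =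
      (((ψ g) ^ d * δ g : ℂˣ) : ℂ) := by
    intro ψ g
    rw [detChar_linear_mul ψ hηc d hη1 g, hδ, Units.val_mul, Units.val_pow_eq_pow_val]
  have hνapp : ∀ g : G, ν g = μ' g / δ g := fun g => MonoidHom.div_apply μ' δ g
  refine ⟨(fun g => ((β g : ℂˣ) : ℂ)) * η, ⟨hχirr, hχext, ?_⟩, ?_⟩
  · funext g
    rw [hdetχ β g, hβd, hμ', hνapp, div_mul_cancel]
  · rintro χ' ⟨hχ'irr, hχ'ext, hχ'det⟩
    obtain ⟨ψ, hψN, hψ⟩ := exists_twist_of_extension N ϑ hϑ η hη hηext χ' hχ'irr hχ'ext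
    have hψd : ∀ g : G, (ψ g) ^ d = ν g := by
      intro g
      have h1 := congrFun hχ'det g
      rw [hψ, hdetχ ψ g, hμ'] at h1
      have h2 : (ψ g) ^ d * δ g = μ' g := Units.ext h1
      rw [hνapp, ← h2, mul_div_cancel_right]
    have hψβ : ψ = β := by
      ext g
      rw [hβapp, ← hkey ψ hψN g, hψd g]
    rw [hψ, hψβ]

end Cfsg.Agent.S0862
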