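import Mathlib
import Cfsg.Statements.S0863
import Cfsg.Agent.Lib.Helper15.DetChar2
import Cfsg.Agent.S0862
import Cfsg.Agent.S0886

set_option autoImplicit false
open Cfsg

namespace Cfsg.Agent.S0863

open Cfsg.Agent.Lib.Helper15 Cfsg.Agent.Lib.Helper75 Cfsg.Agent.Lib.Helper78

universe u

/-- The induction: an invariant `ϑ` of degree prime to `|G : N|`, `G ⧸ N` solvable, whose determinant
extends to `G`, extends to `G`. -/
theorem exists_extension_of_det_extends : ∀ (k : ℕ) (G : Type u) [Group G] [Finite G]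
    (N : Subgroup G) [hN : N.Normal], N.index = k → Group.IsSolvable (G ⧸ N) →
    ∀ (ϑ : N → ℂ), IsIrrCharacter N ϑ →
    (∀ (g : G) (n : N), ϑ ⟨g * n * g⁻¹, hN.conj_mem (n : G) n.2 g⟩ = ϑ n) →
    ∀ (d : ℕ), ϑ 1 = d → Nat.Coprime N.index d →
    ∀ (μ : G → ℂ), IsCharacter G μ → μ 1 = 1 → (∀ n : N, μ n = Cfsg.detChar ϑ n) →
    ∃ χ : G → ℂ, IsIrrCharacter G χ ∧ ∀ n : N, χ n = ϑ n := by
  intro k
  induction k using Nat.strong_induction_on with
  | _ k ih =>
    intro G _ _ N hN hk hsolv ϑ hϑ hinv d hd hcop μ hμ hμ1 hμN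
    by_cases htop : N = ⊤
    · -- `N = G`
      have hmem : ∀ g : G, g ∈ N := fun g => by rw [htop]; exact Subgroup.mem_top g
      let e : G ≃* N :=
        { toFun := fun g => ⟨g, hmem g⟩
          invFun := fun n => (n : G)
          left_inv := fun _ => rfl
          right_inv := fun _ => rfl
          map_mul' := fun _ _ => rfl }
      refine ⟨ϑ ∘ e, Cfsg.Agent.Lib.Helper81.isIrrCharacter_comp_mulEquiv hϑ e, ?_⟩
      intro n
      rfl
    · obtain ⟨M, hMn, hNM, hMp⟩ := exists_normal_prime_index_of_solvable_quotient N hsolv htop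
      -- the data for `M`
      let N' : Subgroup M := N.subgroupOf M
      have hN'n : N'.Normal := Subgroup.normal_subgroupOf
      let e : N' ≃* N := Subgroup.subgroupOfEquivOfLe hNM
      let ϑ' : N' → ℂ := ϑ ∘ e
      have hϑ' : IsIrrCharacter N' ϑ' := Cfsg.Agent.Lib.Helper81.isIrrCharacter_comp_mulEquiv hϑ e
      have hidx : N'.index * M.index = k := by
        rw [← hk]
        exact Subgroup.relIndex_mul_index hNM
      have hlt : N'.index < k := by
        have h2 : 2 ≤ M.index := hMp.two_le
        have h0 : 0 < N'.index := Nat.pos_of_ne_zero Subgroup.index_ne_zero_of_finite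
        nlinarith
      have hsolv' : Group.IsSolvable (M ⧸ N') := by
        let f : M ⧸ N' →* G ⧸ N := QuotientGroup.map N' N M.subtype (fun x hx => hx)
        have hf : Function.Injective f := by
          rw [injective_iff_map_eq_one]
          intro q hq
          obtain ⟨x, rfl⟩ := QuotientGroup.mk_surjective q
          have h1 : (QuotientGroup.mk ((x : M) : G) : G ⧸ N) = 1 := hq
          rw [QuotientGroup.eq_one_iff] at h1 ⊢
          exact h1
        exact Group.isSolvable_of_isSolvable_injective hf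
      have hinv' : ∀ (m : M) (x : N'),
          ϑ' ⟨m * x * m⁻¹, hN'n.conj_mem (x : M) x.2 m⟩ = ϑ' x := by
        intro m x
        have := hinv (m : G) (e x)
        exact this
      have hd' : ϑ' 1 = d := by
        show ϑ (e 1) = d
        rw [map_one, hd]
      have hcop' : Nat.Coprime N'.index d := by
        apply Nat.Coprime.coprime_dvd_left _ hcop
        rw [hk]
        exact Dvd.intro _ hidx
      let μM : M → ℂ := fun x => μ x
      have hμM : IsCharacter M μM := isCharacter_res M hμ
      have hμM1 : μM 1 = 1 := hμ1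
      have hμMN : ∀ x : N', μM x = Cfsg.detChar ϑ' x := by
        intro x
        have h1 : Cfsg.detChar ϑ' x = Cfsg.detChar ϑ (e x) :=
          detChar_comp_hom e.toMonoidHom (IsIrrCharacter.isCharacter hϑ) x
        rw [h1, ← hμN]
        rfl
      obtain ⟨η₀, hη₀, hη₀ext⟩ := ih N'.index hlt M N' rfl hsolv' ϑ' hϑ' hinv' d hd' hcop'
        μM hμM hμM1 hμMN
      obtain ⟨η, ⟨hη, hηext, hηdet⟩, hηuniq⟩ := Cfsg.Agent.S0862.result N' ϑ' hϑ' d hd' hcop'
        ⟨η₀, hη₀, hη₀ext⟩ μM ⟨hμM, hμM1⟩ hμMN
      -- invariance of `η`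
      have hηinv : ∀ (g : G) (y : M), η ⟨g * y * g⁻¹, hMn.conj_mem (y : G) y.2 g⟩ = η y := by
        intro g y
        have hconj : conjFun M g η = η := by
          apply hηuniq
          refine ⟨isIrrCharacter_conjFun M hη g, ?_, ?_⟩
          · intro x
            rw [conjFun_apply]
            have hmem : (⟨g * ((x : M) : G) * g⁻¹, hMn.conj_mem ((x : M) : G) (x : M).2 g⟩ : M) ∈ N' :=
              Subgroup.mem_subgroupOf.mpr (hN.conj_mem ((x : M) : G) (Subgroup.mem_subgroupOf.mp x.2) g)
            have h1 := hηext ⟨_, hmem⟩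
            rw [h1]
            exact hinv g (e x)
          · funext y
            have h1 : conjFun M g η = fun y : M => η ((MulAut.conjNormal g : M ≃* M) y) := by
              funext z
              rfl
            have h2 := detChar_comp_hom (MulAut.conjNormal g : M ≃* M).toMonoidHom
              (IsIrrCharacter.isCharacter hη) y
            rw [h1]
            refine h2.trans ?_
            rw [hηdet]
            exact IsCharacter.isClassFunction hμ (y : G) g
        exact congrFun hconj y
      have hcyc : IsCyclic (G ⧸ M) := by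
        have hp : Fact (Nat.card (G ⧸ M)).Prime := by
          rw [← Subgroup.index_eq_card]
          exact ⟨hMp⟩
        exact isCyclic_of_prime_card rfl
      obtain ⟨χ, hχ, hχext⟩ := Cfsg.Agent.S0886.result M hcyc η hη hηinv
      refine ⟨χ, hχ, ?_⟩
      intro n
      have h1 := hχext ⟨(n : G), hNM n.2⟩
      have h2 := hηext ⟨⟨(n : G), hNM n.2⟩, Subgroup.mem_subgroupOf.mpr n.2⟩
      rw [h1, h2]
      rfl

/-- Let N be a normal subgroup of the finite group G with G / N solvable, and ϑ an irreducible character of N, invariant under conjugation by G, of degree d coprime to the index of N. Then ϑ is the restriction of an irreducible character of G if and only if the determinantal character of ϑ is the restriction of a character of G of degree 1. -/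
theorem result {G : Type*} [Group G] [Finite G] (N : Subgroup G) [hN : N.Normal] (hsolv : Group.IsSolvable (G ⧸ N)) (ϑ : N → ℂ) (hϑ : Cfsg.IsIrrCharacter N ϑ) (hinv : ∀ (g : G) (n : N), ϑ ⟨g * n * g⁻¹, hN.conj_mem (n : G) n.2 g⟩ = ϑ n) (d : ℕ) (hd : ϑ 1 = d) (hcop : Nat.Coprime N.index d) : (∃ χ : G → ℂ, Cfsg.IsIrrCharacter G χ ∧ (∀ n : N, χ n = ϑ n)) ↔ ∃ μ : G → ℂ, Cfsg.IsCharacter G μ ∧ μ 1 = 1 ∧ ∀ n : N, μ n = Cfsg.detChar ϑ n := by
  constructor
  · rintro ⟨χ, hχ, hχext⟩
    have hχc := IsIrrCharacter.isCharacter hχ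
    obtain ⟨δ, hδ⟩ := exists_detHom hχc
    refine ⟨Cfsg.detChar χ, ?_, ?_, ?_⟩
    · have h1 : Cfsg.detChar χ = fun g => ((δ g : ℂˣ) : ℂ) := funext hδ
      rw [h1]
      exact IsIrrCharacter.isCharacter (Cfsg.Agent.Lib.Helper77.isIrrCharacter_of_monoidHom δ)
    · rw [hδ, map_one]
      rfl
    · intro n
      have e : ϑ = fun x : N => χ x := (funext hχext).symm
      rw [e, detChar_res N hχc n]
  · rintro ⟨μ, hμ, hμ1, hμN⟩
    exact exists_extension_of_det_extends N.index G N rfl hsolv ϑ hϑ hinv d hd hcop μ hμ hμ1 hμN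

end Cfsg.Agent.S0863
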