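import Mathlib
import Cfsg.Statements.S0865
import Cfsg.Agent.Lib.Helper4.LinearExt

set_option autoImplicit false
open Cfsg

namespace Cfsg.Agent.S0865

open Cfsg.Agent.Lib Cfsg.Agent.Lib.Helper4

/-- Let N be a normal subgroup of the finite group G and λ a character of N of degree 1, invariant under conjugation by G, whose order (under pointwise multiplication) is coprime to the index of N. Then there is a character μ of G of degree 1 restricting to λ with the same order as λ, and μ is the only degree-1 character of G restricting to λ whose order is coprime to the index of N. -/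
theorem result {G : Type*} [Group G] [Finite G] (N : Subgroup G) [hN : N.Normal] (lam : N → ℂ) (hlam : Cfsg.IsCharacter N lam ∧ lam 1 = 1) (hinv : ∀ (g : G) (n : N), lam ⟨g * n * g⁻¹, hN.conj_mem (n : G) n.2 g⟩ = lam n) (hcop : Nat.Coprime N.index (orderOf lam)) : ∃ μ : G → ℂ, (Cfsg.IsCharacter G μ ∧ μ 1 = 1 ∧ (∀ n : N, μ n = lam n) ∧ orderOf μ = orderOf lam) ∧ ∀ μ' : G → ℂ, Cfsg.IsCharacter G μ' ∧ μ' 1 = 1 → (∀ n : N, μ' n = lam n) → Nat.Coprime N.index (orderOf μ') → μ' = μ := by
  classical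
  obtain ⟨hlamc, hlam1⟩ := hlam
  obtain ⟨ϕ, hϕ⟩ := exists_hom_of_linear hlamc hlam1
  have hoϕ : orderOf lam = orderOf ϕ := by rw [hϕ, orderOf_homToFun]
  haveI : N.FiniteIndex := ⟨Subgroup.index_ne_zero_of_finite⟩
  -- invariance for ϕ
  have hinvϕ : ∀ (g n : G) (hn : n ∈ N),
      ϕ ⟨g * n * g⁻¹, (le_refl N) (hN.conj_mem n hn g)⟩ = ϕ ⟨n, (le_refl N) hn⟩ := by
    intro g n hn
    apply Units.ext
    have := hinv g ⟨n, hn⟩
    rw [hϕ] at this
    exact this
  have htr : ∀ (n : G) (hn : n ∈ N), MonoidHom.transfer ϕ n = ϕ ⟨n, hn⟩ ^ N.index :=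
    fun n hn => transfer_apply_of_mem N N (le_refl N) ϕ hinvϕ n hn
  rw [hoϕ] at hcop
  obtain ⟨k, hk⟩ := exists_pow_eq_self_of_coprime hcop
  set μh : G →* ℂˣ := (MonoidHom.transfer ϕ) ^ k with hμh
  have hμN : ∀ n : N, μh n = ϕ n := by
    intro n
    rw [hμh, MonoidHom.pow_apply, htr n n.2]
    have := congrArg (fun ψ : N →* ℂˣ => ψ n) hk
    simpa using this
  -- the order of μh
  have hord : orderOf μh = orderOf ϕ := by
    apply Nat.dvd_antisymm
    · apply orderOf_dvd_of_pow_eq_one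
      ext g
      rw [MonoidHom.pow_apply, hμh, MonoidHom.pow_apply, ← pow_mul, mul_comm, pow_mul]
      have h1 : MonoidHom.transfer ϕ g ^ orderOf ϕ = 1 := by
        apply transfer_pow_eq_one N ϕ (orderOf ϕ)
        intro x
        have h2 : (ϕ ^ orderOf ϕ) x = (1 : N →* ℂˣ) x := by rw [pow_orderOf_eq_one]
        rw [MonoidHom.pow_apply, MonoidHom.one_apply] at h2
        exact h2
      rw [h1, one_pow]
      simp
    · apply orderOf_dvd_of_pow_eq_one
      ext n
      have h1 := congrArg (fun ψ : G →* ℂˣ => ψ (n : G)) (pow_orderOf_eq_one μh)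
      simp only [MonoidHom.pow_apply, MonoidHom.one_apply] at h1
      rw [MonoidHom.pow_apply, ← hμN n, h1]
      simp
  refine ⟨homToFun G μh, ⟨isCharacter_homToFun μh, homToFun_one μh, ?_, ?_⟩, ?_⟩
  · intro n
    rw [hϕ, homToFun_apply, homToFun_apply, hμN n]
  · rw [orderOf_homToFun, hord, hoϕ]
  · rintro μ' ⟨hμ'c, hμ'1⟩ hμ'N hμ'cop
    obtain ⟨ψ', hψ'⟩ := exists_hom_of_linear hμ'c hμ'1
    rw [hψ']
    congr 1
    rw [hψ', orderOf_homToFun] at hμ'cop
    -- ν = ψ' / μh is trivial on N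
    set ν : G →* ℂˣ := ψ' / μh with hν
    have hνN : ∀ n : G, n ∈ N → ν n = 1 := by
      intro n hn
      rw [hν, MonoidHom.div_apply, div_eq_one]
      have h1 := hμ'N ⟨n, hn⟩
      rw [hψ', hϕ, homToFun_apply, homToFun_apply] at h1
      rw [hμN ⟨n, hn⟩]
      exact Units.ext h1
    have hνm : ν ^ N.index = 1 := by
      ext g
      rw [MonoidHom.pow_apply, ← map_pow]
      have hg : g ^ N.index ∈ N := by
        have h1 : ((g : G ⧸ N)) ^ N.index = 1 := by
          rw [Subgroup.index_eq_card]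
          exact pow_card_eq_one'
        rw [← QuotientGroup.mk_pow, QuotientGroup.eq_one_iff] at h1
        exact h1
      rw [hνN _ hg]
      simp
    have hd1 : orderOf ν ∣ N.index := orderOf_dvd_of_pow_eq_one hνm
    have hd2 : orderOf ν ∣ orderOf ψ' * orderOf μh := by
      apply orderOf_dvd_of_pow_eq_one
      ext g
      have e1 : ψ' g ^ (orderOf ψ' * orderOf μh) = 1 := by
        have h2 : (ψ' ^ orderOf ψ') g = (1 : G →* ℂˣ) g := by rw [pow_orderOf_eq_one]
        rw [MonoidHom.pow_apply, MonoidHom.one_apply] at h2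
        rw [pow_mul, h2, one_pow]
      have e2 : μh g ^ (orderOf ψ' * orderOf μh) = 1 := by
        have h2 : (μh ^ orderOf μh) g = (1 : G →* ℂˣ) g := by rw [pow_orderOf_eq_one]
        rw [MonoidHom.pow_apply, MonoidHom.one_apply] at h2
        rw [mul_comm, pow_mul, h2, one_pow]
      rw [MonoidHom.pow_apply, hν, MonoidHom.div_apply, div_pow, e1, e2, div_one]
      simp
    have hc : Nat.Coprime N.index (orderOf ψ' * orderOf μh) := by
      rw [hord]
      exact Nat.Coprime.mul_right hμ'cop hcop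
    have h1 : orderOf ν ∣ 1 := by
      rw [← hc.gcd_eq_one]
      exact Nat.dvd_gcd hd1 hd2
    have hν1 : ν = 1 := orderOf_eq_one_iff.mp (Nat.dvd_one.mp h1)
    rw [hν] at hν1
    exact div_eq_one.mp hν1

end Cfsg.Agent.S0865
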