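import Mathlib
import Cfsg.Statements.S0867
import Cfsg.Agent.Lib.Helper15.GallagherExt
import Cfsg.Agent.S0865

set_option autoImplicit false
open Cfsg

namespace Cfsg.Agent.S0867

open Cfsg.Agent.Lib.Helper15 Cfsg.Agent.Lib.Helper75 Cfsg.Agent.Lib.Helper78

/-- The determinantal character of a character is a character of degree one. -/
lemma detChar_linear {G : Type*} [Group G] [Finite G] {χ : G → ℂ} (hχ : IsCharacter G χ) :
    IsCharacter G (Cfsg.detChar χ) ∧ Cfsg.detChar χ 1 = 1 := by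
  obtain ⟨δ, hδ⟩ := exists_detHom hχ
  constructor
  · have h1 : Cfsg.detChar χ = fun g => ((δ g : ℂˣ) : ℂ) := funext hδ
    rw [h1]
    exact IsIrrCharacter.isCharacter (Cfsg.Agent.Lib.Helper77.isIrrCharacter_of_monoidHom δ)
  · rw [hδ, map_one]
    rfl

/-- Let N be a normal subgroup of the finite group G and ϑ an irreducible character of N of degree d, invariant under conjugation by G, such that the index of N is coprime to the product of d and the determinantal order of ϑ. Then there is an irreducible character χ of G restricting to ϑ whose determinantal order equals that of ϑ, and χ is the only irreducible character of G restricting to ϑ whose determinantal order is coprime to the index of N. -/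
theorem result {G : Type*} [Group G] [Finite G] (N : Subgroup G) [hN : N.Normal] (ϑ : N → ℂ) (hϑ : Cfsg.IsIrrCharacter N ϑ) (hinv : ∀ (g : G) (n : N), ϑ ⟨g * n * g⁻¹, hN.conj_mem (n : G) n.2 g⟩ = ϑ n) (d : ℕ) (hd : ϑ 1 = d) (hcop : Nat.Coprime N.index (Cfsg.detOrder ϑ * d)) : ∃ χ : G → ℂ, (Cfsg.IsIrrCharacter G χ ∧ (∀ n : N, χ n = ϑ n) ∧ Cfsg.detOrder χ = Cfsg.detOrder ϑ) ∧ ∀ χ' : G → ℂ, Cfsg.IsIrrCharacter G χ' → (∀ n : N, χ' n = ϑ n) → Nat.Coprime N.index (Cfsg.detOrder χ') → χ' = χ := by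
  have hcop1 : Nat.Coprime N.index (orderOf (Cfsg.detChar ϑ)) :=
    Nat.Coprime.coprime_mul_right_right hcop
  have hcop2 : Nat.Coprime N.index d := Nat.Coprime.coprime_mul_left_right hcop
  have hϑc := IsIrrCharacter.isCharacter hϑ
  have hlam := detChar_linear hϑc
  have hlaminv : ∀ (g : G) (n : N),
      Cfsg.detChar ϑ ⟨g * n * g⁻¹, hN.conj_mem (n : G) n.2 g⟩ = Cfsg.detChar ϑ n := by
    intro g n
    have h1 := detChar_comp_hom (MulAut.conjNormal g : N ≃* N).toMonoidHom hϑc n
    have h2 : (fun x : N => ϑ ((MulAut.conjNormal g : N ≃* N).toMonoidHom x)) = ϑ := by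
      funext x
      exact hinv g x
    rw [h2] at h1
    exact h1.symm
  obtain ⟨μ, ⟨hμ, hμ1, hμN, hμord⟩, hμuniq⟩ :=
    Cfsg.Agent.S0865.result N (Cfsg.detChar ϑ) hlam hlaminv hcop1
  have hext := exists_extension_of_det_extends_general hϑ hinv d hd hcop2 hμ hμ1 hμN
  obtain ⟨χ, ⟨hχ, hχext, hχdet⟩, hχuniq⟩ :=
    Cfsg.Agent.S0862.result N ϑ hϑ d hd hcop2 hext μ ⟨hμ, hμ1⟩ hμN
  refine ⟨χ, ⟨hχ, hχext, ?_⟩, ?_⟩
  · unfold Cfsg.detOrder
    rw [hχdet, hμord]
  · intro χ' hχ' hχ'ext hχ'cop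
    apply hχuniq
    refine ⟨hχ', hχ'ext, ?_⟩
    have hχ'c := IsIrrCharacter.isCharacter hχ'
    apply hμuniq _ (detChar_linear hχ'c)
    · intro n
      have e : ϑ = fun x : N => χ' x := (funext hχ'ext).symm
      rw [e, detChar_res N hχ'c n]
    · exact hχ'cop

end Cfsg.Agent.S0867
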