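import Cfsg.Statements.S1491
import Mathlib
import Cfsg.Agent.Lib.Helper75.AbelianQuot
import Cfsg.Agent.Lib.Helper79.Integrality
import Cfsg.Agent.Lib.Helper15.DetChar
import Cfsg.Agent.S0867

set_option autoImplicit false
open Cfsg

namespace Cfsg.Agent.S1491

open Cfsg.Agent.Lib.Helper75 Cfsg.Agent.Lib.Helper77 Cfsg.Agent.Lib.Helper78

/-- the determinantal order divides the group order -/
theorem detOrder_dvd_card {N : Type*} [Group N] [Finite N] {ϑ : N → ℂ}
    (hϑ : Cfsg.IsCharacter N ϑ) : Cfsg.detOrder ϑ ∣ Nat.card N := by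
  obtain ⟨δ, hδ⟩ := Cfsg.Agent.Lib.Helper15.exists_detHom hϑ
  unfold Cfsg.detOrder
  apply orderOf_dvd_of_pow_eq_one
  funext g
  rw [Pi.pow_apply, hδ, Pi.one_apply, ← Units.val_pow_eq_pow_val, ← map_pow, pow_card_eq_one',
    map_one, Units.val_one]


/-- Let H be a normal subgroup of the finite group G and θ an irreducible character of H with inertia group T, where T/H is abelian (commutators of T lie in H) and the index of H in T is coprime to the order of H. Then the function induced from θ is the sum of a set of exactly [T:H] irreducible characters of G, each of degree [G:T] * θ(1). -/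
theorem result {G : Type*} [Group G] [Fintype G] (H T : Subgroup G) [hN : H.Normal] (θ : H → ℂ) (hθ : Cfsg.IsIrrCharacter H θ) (hT : ∀ g : G, g ∈ T ↔ ∀ h : H, θ ⟨g * h * g⁻¹, hN.conj_mem h h.2 g⟩ = θ h) (hab : ∀ x ∈ T, ∀ y ∈ T, x * y * x⁻¹ * y⁻¹ ∈ H) (hcop : Nat.Coprime (Nat.card H) (H.relIndex T)) : ∃ C : Finset (G → ℂ), (∀ χ ∈ C, Cfsg.IsIrrCharacter G χ) ∧ C.card = H.relIndex T ∧ Cfsg.indFun H θ = ∑ χ ∈ C, χ ∧ ∀ χ ∈ C, χ 1 = (T.index : ℂ) * θ 1 := by
  classical
  let _ : Fintype H := Fintype.ofFinite H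
  let _ : Fintype T := Fintype.ofFinite T
  have hT' : ∀ g : G, g ∈ T ↔ Cfsg.Agent.Lib.Helper75.conjFun H g θ = θ := by
    intro g
    rw [hT g]
    exact ⟨fun h => funext h, fun h x => congrFun h x⟩
  have hHT : H ≤ T := by
    intro h hh
    rw [hT']
    exact conjFun_of_mem H (IsCharacter.isClassFunction (IsIrrCharacter.isCharacter hθ)) ⟨h, hh⟩
  let _ : Fintype (H.subgroupOf T) := Fintype.ofFinite _
  have hθ' := isIrrCharacter_liftNT H T hHT hθ
  have hinv' : ∀ t : T, Cfsg.Agent.Lib.Helper75.conjFun (H.subgroupOf T) t (liftNT H T θ)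
      = liftNT H T θ :=
    conjFun_liftNT H T (fun g hg => (hT' g).mp hg)
  have hab' : ∀ x y : T, x * y * x⁻¹ * y⁻¹ ∈ H.subgroupOf T := by
    intro x y
    rw [Subgroup.mem_subgroupOf]
    exact hab x x.2 y y.2
  obtain ⟨e, D, he, hind, hres, hcount⟩ :=
    exists_uniform_ramification (H.subgroupOf T) hab' hθ' hinv'
  -- the extension of θ to T
  have hcardN : Nat.card (H.subgroupOf T) = Nat.card H :=
    Nat.card_congr (Subgroup.subgroupOfEquivOfLe hHT).toEquiv
  have hidx : (H.subgroupOf T).index = H.relIndex T := rfl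
  have hd1 : liftNT H T θ 1 = (Cfsg.charDegree (liftNT H T θ) : ℂ) :=
    Cfsg.Agent.Lib.Helper79.irr_apply_one_eq_charDegree (⟨liftNT H T θ, hθ'⟩ :
      Cfsg.IrrCharacter (H.subgroupOf T))
  have hd2 : Cfsg.charDegree (liftNT H T θ) ∣ Nat.card (H.subgroupOf T) :=
    Cfsg.Agent.Lib.Helper79.irr_charDegree_dvd_card (⟨liftNT H T θ, hθ'⟩ :
      Cfsg.IrrCharacter (H.subgroupOf T))
  have hd3 := detOrder_dvd_card (IsIrrCharacter.isCharacter hθ')
  have hcopS : Nat.Coprime (H.subgroupOf T).index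
      (Cfsg.detOrder (liftNT H T θ) * Cfsg.charDegree (liftNT H T θ)) := by
    rw [hidx]
    have hc : Nat.Coprime (H.relIndex T) (Nat.card (H.subgroupOf T)) := by
      rw [hcardN]; exact hcop.symm
    exact Nat.Coprime.mul_right (Nat.Coprime.coprime_dvd_right hd3 hc)
      (Nat.Coprime.coprime_dvd_right hd2 hc)
  obtain ⟨χ₀, ⟨hχ₀irr, hχ₀ext, -⟩, -⟩ := Cfsg.Agent.S0867.result (H.subgroupOf T) (liftNT H T θ) hθ'
    (fun g n => congrFun (hinv' g) n) (Cfsg.charDegree (liftNT H T θ)) hd1 hcopS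
  -- e = 1
  have he1 : e = 1 := by
    have hχ₀cl := IsCharacter.isClassFunction (IsIrrCharacter.isCharacter hχ₀irr)
    have h1 : Cfsg.classInner (Cfsg.indFun (H.subgroupOf T) (liftNT H T θ)) χ₀ = 1 := by
      rw [frobenius_reciprocity (H.subgroupOf T) _ hχ₀cl]
      have : (fun n : H.subgroupOf T => χ₀ n) = liftNT H T θ := funext hχ₀ext
      rw [this, classInner_irr_self hθ']
    rw [hind, classInner_smul_left, classInner_sum_left] at h1
    have hex : ∃ ψ ∈ D, Cfsg.classInner (ψ : T → ℂ) χ₀ ≠ 0 := by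
      by_contra hcon
      push Not at hcon
      rw [Finset.sum_eq_zero hcon, mul_zero] at h1
      exact zero_ne_one h1
    obtain ⟨ψ, hψD, hψne⟩ := hex
    have hψeq : (ψ : T → ℂ) = χ₀ := by
      by_contra hne
      exact hψne (classInner_irr_ne ψ.2 hχ₀irr hne)
    have h2 := congrFun (hres ψ hψD) 1
    simp only [Pi.smul_apply, smul_eq_mul] at h2
    rw [hψeq, hχ₀ext 1] at h2
    have hne0 : liftNT H T θ 1 ≠ 0 := by
      rw [hd1]
      have hpos : 0 < Cfsg.charDegree (liftNT H T θ) :=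
        Cfsg.Agent.Lib.Helper79.irr_charDegree_pos (⟨liftNT H T θ, hθ'⟩ :
          Cfsg.IrrCharacter (H.subgroupOf T))
      exact_mod_cast hpos.ne'
    have h3 : (e : ℂ) = 1 := by
      have h4 : ((e : ℂ) - 1) * liftNT H T θ 1 = 0 := by linear_combination -h2
      rcases mul_eq_zero.mp h4 with h5 | h5
      · linear_combination h5
      · exact absurd h5 hne0
    exact_mod_cast h3
  subst he1
  -- members of `D` lie over `θ`
  have hover : ∀ ψ ∈ D, Cfsg.classInner (resNT H T hHT (ψ : T → ℂ)) θ ≠ 0 := by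
    intro ψ hψ
    have h1 : Cfsg.classInner (fun m : H.subgroupOf T => (ψ : T → ℂ) m) (liftNT H T θ)
        = ((1 : ℕ) : ℂ) := by
      rw [hres ψ hψ, classInner_smul_left, classInner_irr_self hθ', mul_one]
    rw [res_eq_comp H T hHT, liftNT_eq_comp H T hHT, classInner_comp_equiv] at h1
    rw [h1]
    simp
  have hinj : Set.InjOn (fun ψ : Cfsg.IrrCharacter T => Cfsg.indFun T (ψ : T → ℂ))
      (D : Set (Cfsg.IrrCharacter T)) := by
    intro ψ hψ ψ' hψ' heq
    exact Subtype.ext (indFun_injective_of_over H T hHT hθ hT' ψ.2 ψ'.2 (hover ψ hψ)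
      (hover ψ' hψ') heq)
  refine ⟨D.image (fun ψ : Cfsg.IrrCharacter T => Cfsg.indFun T (ψ : T → ℂ)), ?_, ?_, ?_, ?_⟩
  · intro χ hχ
    obtain ⟨ψ, hψ, rfl⟩ := Finset.mem_image.mp hχ
    exact isIrrCharacter_indFun_of_over H T hHT hθ hT' ψ.2 (hover ψ hψ)
  · rw [Finset.card_image_of_injOn hinj]
    rw [one_pow, one_mul] at hcount
    rw [hcount]
    rfl
  · rw [indFun_eq_indFun_indFun_liftNT H T hHT θ, hind, indFun_smul, indFun_sum,
      Finset.sum_image hinj]
    simp
  · intro χ hχ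
    obtain ⟨ψ, hψ, rfl⟩ := Finset.mem_image.mp hχ
    rw [indFun_one]
    have h1 := congrFun (hres ψ hψ) 1
    simp only [Pi.smul_apply, smul_eq_mul, Subgroup.coe_one, Nat.cast_one, one_mul] at h1
    rw [h1]
    rfl

end Cfsg.Agent.S1491
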