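import Cfsg.Statements.S1513
import Mathlib
import Cfsg.Agent.Lib.Helper75.Clifford2
import Cfsg.Agent.Lib.Helper54.Coprime
import Cfsg.Agent.S0860
import Cfsg.Agent.S1512
import Cfsg.Agent.S1491

set_option autoImplicit false
open Cfsg

namespace Cfsg.Agent.S1513

open Cfsg.Agent.Lib.Helper75 Cfsg.Agent.Lib.Helper78 Cfsg.Agent.Lib.Helper54
open scoped Pointwise

/-- elements of `W₂ = C_K(W₁)` that are conjugate in `K` are equal (Schur–Zassenhaus) -/
theorem eq_of_conj_in_K {L : Type*} [Group L] [Finite L] (K W₁ W₂ : Subgroup L) [hK : K.Normal]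
    (hKW₁ : K ⊓ W₁ = ⊥) (hW₁s : Group.IsSolvable W₁)
    (hcop : Nat.Coprime (Nat.card W₁) (Nat.card K))
    (hW₂comm : ∀ a ∈ W₂, ∀ b ∈ W₂, a * b = b * a)
    (hcent : ∀ w ∈ W₂, ∀ y ∈ W₁, y * w = w * y)
    (hNW : K ⊓ Subgroup.centralizer (W₁ : Set L) ≤ W₂) {w w' k : L} (hw : w ∈ W₂)
    (hw' : w' ∈ W₂) (hk : k ∈ K) (hconj : k * w * k⁻¹ = w') : w = w' := by
  set C := K ⊓ Subgroup.centralizer ({w'} : Set L) with hC
  have hW₁K : W₁ ≤ Subgroup.normalizer (K : Set L) := by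
    rw [Subgroup.normalizer_eq_top]; exact le_top
  have hW₁cent : W₁ ≤ Subgroup.centralizer ({w'} : Set L) := by
    intro y hy
    rw [Subgroup.mem_centralizer_iff]
    intro z hz
    rw [Set.mem_singleton_iff] at hz
    rw [hz]
    exact (hcent w' hw' y hy).symm
  have hW₁C : W₁ ≤ Subgroup.normalizer (C : Set L) :=
    le_normalizer_inf hW₁K (hW₁cent.trans Subgroup.le_normalizer)
  have hdisj : C ⊓ W₁ = ⊥ := by
    apply le_antisymm _ bot_le
    rw [← hKW₁]
    exact inf_le_inf_right _ inf_le_left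
  have hcard := card_sup_of_le_normalizer hW₁C hdisj
  -- B ≤ M
  have hBM : MulAut.conj k • W₁ ≤ C ⊔ W₁ := by
    intro b hb
    rw [mem_conj_smul_iff] at hb
    set y := k⁻¹ * b * k with hy
    have hb' : b = (k * y * k⁻¹ * y⁻¹) * y := by rw [hy]; group
    rw [hb']
    apply Subgroup.mul_mem _ _ (Subgroup.mem_sup_right hb)
    apply Subgroup.mem_sup_left
    refine ⟨?_, ?_⟩
    · have h1 : y * k⁻¹ * y⁻¹ ∈ K := hK.conj_mem _ (K.inv_mem hk) y
      have : k * y * k⁻¹ * y⁻¹ = k * (y * k⁻¹ * y⁻¹) := by group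
      rw [this]
      exact K.mul_mem hk h1
    · show k * y * k⁻¹ * y⁻¹ ∈ Subgroup.centralizer ({w'} : Set L)
      rw [Subgroup.mem_centralizer_iff]
      intro z hz
      rw [Set.mem_singleton_iff] at hz
      rw [hz]
      have h1 : y * w = w * y := hcent w hw y hb
      have h2 : y⁻¹ * w' = w' * y⁻¹ := by
        have := hcent w' hw' y hb
        calc y⁻¹ * w' = y⁻¹ * (w' * y) * y⁻¹ := by group
          _ = y⁻¹ * (y * w') * y⁻¹ := by rw [this]
          _ = w' * y⁻¹ := by group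
      calc w' * (k * y * k⁻¹ * y⁻¹) = (k * w * k⁻¹) * (k * y * k⁻¹) * y⁻¹ := by rw [hconj]; group
        _ = k * (w * y) * k⁻¹ * y⁻¹ := by group
        _ = k * (y * w) * k⁻¹ * y⁻¹ := by rw [h1]
        _ = (k * y * k⁻¹) * (k * w * k⁻¹) * y⁻¹ := by group
        _ = (k * y * k⁻¹) * (w' * y⁻¹) := by rw [hconj]; group
        _ = (k * y * k⁻¹) * (y⁻¹ * w') := by rw [h2]
        _ = k * y * k⁻¹ * y⁻¹ * w' := by group
  have hcopC : (Nat.card C).Coprime (Nat.card W₁) := by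
    have h1 : Nat.card C ∣ Nat.card K := Subgroup.card_dvd_of_le inf_le_left
    exact (Nat.Coprime.coprime_dvd_right h1 hcop).symm
  obtain ⟨l, hl, hlB⟩ := sz_conj_rel (C ⊔ W₁) C W₁ (MulAut.conj k • W₁) le_sup_left
    (sup_le Subgroup.le_normalizer hW₁C) le_sup_right hBM hcard.symm (card_conj_smul k W₁) hcopC
    (Or.inl hW₁s)
  -- n = l⁻¹ k normalizes W₁
  have hn : l⁻¹ * k ∈ Subgroup.normalizer (W₁ : Set L) := by
    rw [mem_normalizer_iff_conj_smul, map_mul, mul_smul, ← hlB, map_inv, inv_smul_smul]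
  have hnK : l⁻¹ * k ∈ K := K.mul_mem (K.inv_mem hl.1) hk
  have hnW₂ : l⁻¹ * k ∈ W₂ :=
    hNW ⟨hnK, inf_normalizer_le_centralizer hW₁K hKW₁ ⟨hnK, hn⟩⟩
  have h1 := hW₂comm _ hnW₂ w hw
  have hlw' : l * w' = w' * l := by
    have := Subgroup.mem_centralizer_iff.mp hl.2 w' rfl
    exact this.symm
  have h2 : (l⁻¹ * k) * w * (l⁻¹ * k)⁻¹ = w := by rw [h1]; group
  have h3 : (l⁻¹ * k) * w * (l⁻¹ * k)⁻¹ = l⁻¹ * (k * w * k⁻¹) * l := by group
  have h4 : l⁻¹ * w' * l = w' := by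
    calc l⁻¹ * w' * l = l⁻¹ * (w' * l) := by group
      _ = l⁻¹ * (l * w') := by rw [hlw']
      _ = w' := by group
  rw [← h2, h3, hconj, h4]


section Action

variable {L : Type*} [Group L] (K : Subgroup L) [hK : K.Normal]

/-- left action of `L` on the irreducible characters of the normal subgroup `K` -/
@[reducible] noncomputable def irrAction : MulAction L (Cfsg.IrrCharacter K) where
  smul x χ := ⟨Cfsg.Agent.Lib.Helper75.conjFun K x⁻¹ χ.1, isIrrCharacter_conjFun K χ.2 x⁻¹⟩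
  one_smul χ := by
    apply Subtype.ext
    show Cfsg.Agent.Lib.Helper75.conjFun K (1 : L)⁻¹ χ.1 = χ.1
    rw [inv_one, conjFun_one]
  mul_smul x y χ := by
    apply Subtype.ext
    show Cfsg.Agent.Lib.Helper75.conjFun K (x * y)⁻¹ χ.1
      = Cfsg.Agent.Lib.Helper75.conjFun K x⁻¹ (Cfsg.Agent.Lib.Helper75.conjFun K y⁻¹ χ.1)
    rw [mul_inv_rev, conjFun_mul]

/-- left action of `L` on the conjugacy classes of the normal subgroup `K` -/
@[reducible] noncomputable def classAction : MulAction L (ConjClasses K) where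
  smul x C := ConjClasses.map (MulEquiv.toMonoidHom (MulAut.conjNormal x : MulAut K)) C
  one_smul C := by
    obtain ⟨a, rfl⟩ := ConjClasses.mk_surjective C
    show ConjClasses.mk ((MulAut.conjNormal (1 : L) : MulAut K) a) = ConjClasses.mk a
    rw [map_one]
    rfl
  mul_smul x y C := by
    obtain ⟨a, rfl⟩ := ConjClasses.mk_surjective C
    show ConjClasses.mk ((MulAut.conjNormal (x * y) : MulAut K) a)
      = ConjClasses.mk ((MulAut.conjNormal x : MulAut K) ((MulAut.conjNormal y : MulAut K) a))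
    rw [map_mul]
    rfl

theorem irrAction_smul_eq_iff (x : L) (χ : Cfsg.IrrCharacter K) :
    (irrAction K).smul x χ = χ ↔ Cfsg.Agent.Lib.Helper75.conjFun K x χ.1 = χ.1 := by
  constructor
  · intro h
    have h1 : Cfsg.Agent.Lib.Helper75.conjFun K x⁻¹ χ.1 = χ.1 := congrArg Subtype.val h
    have h2 := congrArg (Cfsg.Agent.Lib.Helper75.conjFun K x) h1
    rw [conjFun_conjFun_inv] at h2
    exact h2.symm
  · intro h
    apply Subtype.ext
    show Cfsg.Agent.Lib.Helper75.conjFun K x⁻¹ χ.1 = χ.1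
    have h2 := congrArg (Cfsg.Agent.Lib.Helper75.conjFun K x⁻¹) h
    rw [conjFun_inv_conjFun] at h2
    exact h2.symm

/-- Brauer's permutation lemma for the conjugation action of `L` on `K` -/
theorem brauer_perm [Finite L] (x : L) :
    Nat.card {χ : Cfsg.IrrCharacter K // Cfsg.Agent.Lib.Helper75.conjFun K x χ.1 = χ.1}
      = Nat.card {C : ConjClasses K //
          ConjClasses.map (MulEquiv.toMonoidHom (MulAut.conjNormal x : MulAut K)) C = C} := by
  have h := @Cfsg.Agent.S0860.result K _ _ L _ (irrAction K) (classAction K) (by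
    intro a χ g g' hgg'
    have h1 : ConjClasses.mk g' = ConjClasses.mk ((MulAut.conjNormal a : MulAut K) g) := hgg'
    rw [ConjClasses.mk_eq_mk_iff_isConj, isConj_iff] at h1
    obtain ⟨c, hc⟩ := h1
    show Cfsg.Agent.Lib.Helper75.conjFun K a⁻¹ χ.1 g' = χ.1 g
    rw [conjFun_apply]
    have hcl := isClassFunction_irr χ
    have hm : a⁻¹ * (c : L) * a ∈ K := by
      have := hK.conj_mem (c : L) c.2 a⁻¹
      simpa using this
    have hc' : (c : L) * (g' : L) * (c : L)⁻¹ = a * (g : L) * a⁻¹ := by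
      have := congrArg Subtype.val hc
      simpa [MulAut.conjNormal_apply] using this
    have key : (⟨a⁻¹ * (g' : L) * a⁻¹⁻¹, hK.conj_mem g' g'.2 a⁻¹⟩ : K)
        = (⟨a⁻¹ * (c : L) * a, hm⟩ : K)⁻¹ * g * (⟨a⁻¹ * (c : L) * a, hm⟩ : K)⁻¹⁻¹ := by
      apply Subtype.ext
      simp only [Subgroup.coe_mul, Subgroup.coe_inv, inv_inv]
      have : (g' : L) = (c : L)⁻¹ * (a * (g : L) * a⁻¹) * (c : L) := by rw [← hc']; group
      rw [this]
      group
    rw [key]
    exact hcl g _) x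
  have e1 : {χ : Cfsg.IrrCharacter K // Cfsg.Agent.Lib.Helper75.conjFun K x χ.1 = χ.1}
      ≃ {χ : Cfsg.IrrCharacter K // (irrAction K).smul x χ = χ} :=
    Equiv.subtypeEquivRight (fun χ => (irrAction_smul_eq_iff K x χ).symm)
  rw [Nat.card_congr e1]
  exact h

end Action

/-- Let L be a finite group with K normal with complement W₁ ≠ 1 a cyclic Hall subgroup, and W₂ ≠ 1 a cyclic subgroup of K equal to C_K(x) for every non-identity x ∈ W₁, with W₁W₂ of odd order. For an irreducible character θ of K: if θ is not fixed under conjugation by some element of W₁, then the function induced from θ to L is an irreducible character of L; and the irreducible characters of K fixed by all of W₁ are exactly Nat.card W₂ in number, each inducing to the sum of Nat.card W₁ pairwise distinct irreducible characters of L. -/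
theorem result {L : Type*} [Group L] [Fintype L] (K W₁ W₂ : Subgroup L) [hK : K.Normal] (hKW₁ : K ⊓ W₁ = ⊥) (hKW₁' : K ⊔ W₁ = ⊤) (hW₁ : W₁ ≠ ⊥) (hW₁c : IsCyclic W₁) (hHall : Nat.Coprime (Nat.card W₁) W₁.index) (hW₂ : W₂ ≠ ⊥) (hW₂c : IsCyclic W₂) (hW₂K : W₂ ≤ K) (hC : ∀ x ∈ W₁, x ≠ 1 → K ⊓ Subgroup.centralizer ({x} : Set L) = W₂) (hodd : Odd (Nat.card ↥(W₁ ⊔ W₂))) : (∀ θ : K → ℂ, Cfsg.IsIrrCharacter K θ → (∃ x ∈ W₁, (fun k : K => θ ⟨x * k * x⁻¹, hK.conj_mem (k : L) k.2 x⟩) ≠ θ) → Cfsg.IsIrrCharacter L (Cfsg.indFun K θ)) ∧ Nat.card {θ : Cfsg.IrrCharacter K // ∀ x ∈ W₁, (fun k : K => (θ : K → ℂ) ⟨x * k * x⁻¹, hK.conj_mem (k : L) k.2 x⟩) = θ} = Nat.card W₂ ∧ (∀ θ : K → ℂ, Cfsg.IsIrrCharacter K θ → (∀ x ∈ W₁, (fun k : K => θ ⟨x * k * x⁻¹, hK.conj_mem (k : L) k.2 x⟩) = θ) → ∃ C : Finset (L → ℂ), C.card = Nat.card W₁ ∧ (∀ μ ∈ C, Cfsg.IsIrrCharacter L μ) ∧ Cfsg.indFun K θ = ∑ μ ∈ C, μ) := by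
  classical
  let _ : Fintype K := Fintype.ofFinite K
  -- complement facts
  have hcompl : Subgroup.IsComplement' K W₁ := by
    apply Subgroup.isComplement'_of_disjoint_and_mul_eq_univ
    · rw [disjoint_iff]; exact hKW₁
    · rw [← Subgroup.normal_mul, hKW₁']; rfl
  have hidxW : W₁.index = Nat.card K := hcompl.index_eq_card
  have hidxK : K.index = Nat.card W₁ := hcompl.symm.index_eq_card
  have hcop : Nat.Coprime (Nat.card W₁) (Nat.card K) := by rw [← hidxW]; exact hHall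
  have hdecomp : ∀ l : L, ∃ k ∈ K, ∃ y ∈ W₁, k * y = l := by
    intro l
    have hl : l ∈ (↑(K ⊔ W₁) : Set L) := by rw [hKW₁']; trivial
    rw [Subgroup.normal_mul] at hl
    obtain ⟨k, hk, y, hy, rfl⟩ := Set.mem_mul.mp hl
    exact ⟨k, hk, y, hy, rfl⟩
  -- commutativity
  have hW₁comm : ∀ a ∈ W₁, ∀ b ∈ W₁, a * b = b * a := by
    intro a ha b hb
    obtain ⟨g, hg⟩ := hW₁c.exists_generator
    obtain ⟨m, hm⟩ := hg ⟨a, ha⟩
    obtain ⟨n, hn⟩ := hg ⟨b, hb⟩
    have h1 : (⟨a, ha⟩ : W₁) * ⟨b, hb⟩ = ⟨b, hb⟩ * ⟨a, ha⟩ := by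
      rw [← hm, ← hn]; exact zpow_mul_comm g m n
    exact congrArg Subtype.val h1
  have hW₂comm : ∀ a ∈ W₂, ∀ b ∈ W₂, a * b = b * a := by
    intro a ha b hb
    obtain ⟨g, hg⟩ := hW₂c.exists_generator
    obtain ⟨m, hm⟩ := hg ⟨a, ha⟩
    obtain ⟨n, hn⟩ := hg ⟨b, hb⟩
    have h1 : (⟨a, ha⟩ : W₂) * ⟨b, hb⟩ = ⟨b, hb⟩ * ⟨a, ha⟩ := by
      rw [← hm, ← hn]; exact zpow_mul_comm g m n
    exact congrArg Subtype.val h1
  have hW₁s : Group.IsSolvable W₁ :=
    Group.isSolvable_of_comm (fun a b => Subtype.ext (hW₁comm a a.2 b b.2))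
  -- W₁ centralizes W₂
  have hcent : ∀ w ∈ W₂, ∀ y ∈ W₁, y * w = w * y := by
    intro w hw y hy
    by_cases hy1 : y = 1
    · rw [hy1, one_mul, mul_one]
    · have h1 : w ∈ K ⊓ Subgroup.centralizer ({y} : Set L) := by rw [hC y hy hy1]; exact hw
      exact Subgroup.mem_centralizer_iff.mp h1.2 y rfl
  obtain ⟨x₀, hx₀, hx₀1⟩ : ∃ x₀ ∈ W₁, x₀ ≠ 1 := by
    obtain ⟨⟨x, hx⟩, hne⟩ := Subgroup.ne_bot_iff_exists_ne_one.mp hW₁
    exact ⟨x, hx, fun h => hne (Subtype.ext h)⟩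
  have hNW : K ⊓ Subgroup.centralizer (W₁ : Set L) ≤ W₂ := by
    intro n hn
    rw [← hC x₀ hx₀ hx₀1]
    refine ⟨hn.1, ?_⟩
    show n ∈ Subgroup.centralizer ({x₀} : Set L)
    rw [Subgroup.mem_centralizer_iff]
    intro z hz
    rw [Set.mem_singleton_iff] at hz
    rw [hz]
    exact Subgroup.mem_centralizer_iff.mp hn.2 x₀ hx₀
  -- upper bound for the fixed classes
  have hupper : ∀ x ∈ W₁, x ≠ 1 → Nat.card {C : ConjClasses K //
      ConjClasses.map (MulEquiv.toMonoidHom (MulAut.conjNormal x : MulAut K)) C = C}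
        ≤ Nat.card W₂ := by
    intro x hx hx1
    apply Cfsg.Agent.S1512.result K W₂ x hx1
    · have h1 : orderOf x ∣ Nat.card W₁ := by
        have := orderOf_dvd_natCard (⟨x, hx⟩ : W₁)
        rwa [Subgroup.orderOf_mk] at this
      exact Nat.Coprime.coprime_dvd_left h1 hcop
    · intro y hy hy1
      exact hC y (Subgroup.zpowers_le.mpr hx hy) hy1
  -- lower bound for the classes fixed by W₁
  have hlower : ∀ x ∈ W₁, Nat.card W₂ ≤ Nat.card {C : ConjClasses K //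
      ConjClasses.map (MulEquiv.toMonoidHom (MulAut.conjNormal x : MulAut K)) C = C} := by
    intro x hx
    have hfix : ∀ w : W₂, ConjClasses.map (MulEquiv.toMonoidHom (MulAut.conjNormal x : MulAut K))
        (ConjClasses.mk (⟨(w : L), hW₂K w.2⟩ : K)) = ConjClasses.mk (⟨(w : L), hW₂K w.2⟩ : K) := by
      intro w
      show ConjClasses.mk ((MulAut.conjNormal x : MulAut K) (⟨(w : L), hW₂K w.2⟩ : K))
        = ConjClasses.mk (⟨(w : L), hW₂K w.2⟩ : K)
      congr 1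
      apply Subtype.ext
      rw [MulAut.conjNormal_apply]
      show x * (w : L) * x⁻¹ = (w : L)
      rw [hcent w w.2 x hx, mul_inv_cancel_right]
    apply Nat.card_le_card_of_injective
      (fun w : W₂ => (⟨ConjClasses.mk (⟨(w : L), hW₂K w.2⟩ : K), hfix w⟩ :
        {C : ConjClasses K //
          ConjClasses.map (MulEquiv.toMonoidHom (MulAut.conjNormal x : MulAut K)) C = C}))
    intro w w' hww'
    have h1 : ConjClasses.mk (⟨(w : L), hW₂K w.2⟩ : K)
        = ConjClasses.mk (⟨(w' : L), hW₂K w'.2⟩ : K) := congrArg Subtype.val hww'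
    rw [ConjClasses.mk_eq_mk_iff_isConj, isConj_iff] at h1
    obtain ⟨c, hc⟩ := h1
    have hc' : (c : L) * (w : L) * (c : L)⁻¹ = (w' : L) := by
      have := congrArg Subtype.val hc
      simpa using this
    exact Subtype.ext (eq_of_conj_in_K K W₁ W₂ hKW₁ hW₁s hcop hW₂comm hcent hNW w.2 w'.2 c.2 hc')
  -- generator of W₁
  obtain ⟨g₀, hg₀⟩ := hW₁c.exists_generator
  have hg₀1 : (g₀ : L) ≠ 1 := by
    intro h
    apply hx₀1
    obtain ⟨m, hm⟩ := hg₀ ⟨x₀, hx₀⟩
    have h1 : g₀ = 1 := Subtype.ext h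
    have hm' : g₀ ^ m = ⟨x₀, hx₀⟩ := hm
    rw [h1, one_zpow] at hm'
    exact (congrArg Subtype.val hm').symm
  -- a function fixed by g₀ is fixed by W₁
  have hstab : ∀ χ : K → ℂ, Cfsg.Agent.Lib.Helper75.conjFun K (g₀ : L) χ = χ →
      ∀ x ∈ W₁, Cfsg.Agent.Lib.Helper75.conjFun K x χ = χ := by
    intro χ hχ x hx
    let S : Subgroup L :=
      { carrier := {y | Cfsg.Agent.Lib.Helper75.conjFun K y χ = χ}
        one_mem' := conjFun_one K χ
        mul_mem' := by
          intro a b ha hb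
          show Cfsg.Agent.Lib.Helper75.conjFun K (a * b) χ = χ
          rw [conjFun_mul, ha, hb]
        inv_mem' := by
          intro a ha
          show Cfsg.Agent.Lib.Helper75.conjFun K a⁻¹ χ = χ
          have := conjFun_inv_conjFun K a χ
          rw [ha] at this
          exact this }
    have hg₀S : (g₀ : L) ∈ S := hχ
    obtain ⟨m, hm⟩ := hg₀ ⟨x, hx⟩
    have hx' : x = (g₀ : L) ^ m := by
      have := congrArg Subtype.val hm
      simpa using this.symm
    have : x ∈ S := by rw [hx']; exact S.zpow_mem hg₀S m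
    exact this
  -- the number of W₁-invariant irreducible characters
  have hcardPW : Nat.card {θ : Cfsg.IrrCharacter K //
      ∀ x ∈ W₁, Cfsg.Agent.Lib.Helper75.conjFun K x θ.1 = θ.1} = Nat.card W₂ := by
    have e1 : {θ : Cfsg.IrrCharacter K // ∀ x ∈ W₁, Cfsg.Agent.Lib.Helper75.conjFun K x θ.1 = θ.1}
        ≃ {θ : Cfsg.IrrCharacter K // Cfsg.Agent.Lib.Helper75.conjFun K (g₀ : L) θ.1 = θ.1} :=
      Equiv.subtypeEquivRight (fun θ => ⟨fun h => h _ g₀.2, fun h => hstab θ.1 h⟩)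
    rw [Nat.card_congr e1, brauer_perm K (g₀ : L)]
    exact le_antisymm (hupper _ g₀.2 hg₀1) (hlower _ g₀.2)
  -- characters fixed by a nontrivial element are fixed by W₁
  have hfixall : ∀ x ∈ W₁, x ≠ 1 → ∀ θ : Cfsg.IrrCharacter K,
      Cfsg.Agent.Lib.Helper75.conjFun K x θ.1 = θ.1 →
      ∀ y ∈ W₁, Cfsg.Agent.Lib.Helper75.conjFun K y θ.1 = θ.1 := by
    intro x hx hx1 θ hθx
    have hsub : {θ : Cfsg.IrrCharacter K |
        ∀ y ∈ W₁, Cfsg.Agent.Lib.Helper75.conjFun K y θ.1 = θ.1}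
        ⊆ {θ : Cfsg.IrrCharacter K | Cfsg.Agent.Lib.Helper75.conjFun K x θ.1 = θ.1} :=
      fun θ h => h x hx
    have hle : ({θ : Cfsg.IrrCharacter K |
        Cfsg.Agent.Lib.Helper75.conjFun K x θ.1 = θ.1}).ncard
        ≤ ({θ : Cfsg.IrrCharacter K |
          ∀ y ∈ W₁, Cfsg.Agent.Lib.Helper75.conjFun K y θ.1 = θ.1}).ncard := by
      rw [← Nat.card_coe_set_eq, ← Nat.card_coe_set_eq]
      have h1 := brauer_perm K x
      have h2 := hupper x hx hx1
      have h3 := hcardPW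
      calc Nat.card ↥{θ : Cfsg.IrrCharacter K | Cfsg.Agent.Lib.Helper75.conjFun K x θ.1 = θ.1}
          = Nat.card {C : ConjClasses K //
            ConjClasses.map (MulEquiv.toMonoidHom (MulAut.conjNormal x : MulAut K)) C = C} := h1
        _ ≤ Nat.card W₂ := h2
        _ = _ := h3.symm
    have heq := Set.eq_of_subset_of_ncard_le hsub hle (Set.toFinite _)
    have : θ ∈ {θ : Cfsg.IrrCharacter K |
        Cfsg.Agent.Lib.Helper75.conjFun K x θ.1 = θ.1} := hθx
    rw [← heq] at this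
    exact this
  refine ⟨?_, hcardPW, ?_⟩
  · -- (a)
    intro θ hθ hex
    obtain ⟨x, hx, hxθ⟩ := hex
    have hcl := IsCharacter.isClassFunction (IsIrrCharacter.isCharacter hθ)
    have hT' : ∀ g : L, g ∈ K ↔ Cfsg.Agent.Lib.Helper75.conjFun K g θ = θ := by
      intro g
      constructor
      · intro hg
        exact conjFun_of_mem K hcl ⟨g, hg⟩
      · intro hg
        obtain ⟨k, hk, y, hy, rfl⟩ := hdecomp g
        rw [conjFun_mul, conjFun_of_mem K hcl ⟨k, hk⟩] at hg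
        by_cases hy1 : y = 1
        · rw [hy1, mul_one]; exact hk
        · exfalso
          exact hxθ (hfixall y hy hy1 ⟨θ, hθ⟩ hg x hx)
    have hover : Cfsg.classInner (resNT K K le_rfl θ) θ ≠ 0 := by
      have : resNT K K le_rfl θ = θ := rfl
      rw [this, classInner_irr_self hθ]
      exact one_ne_zero
    exact isIrrCharacter_indFun_of_over K K le_rfl hθ hT' hθ hover
  · -- (c)
    intro θ hθ hinv
    have hcl := IsCharacter.isClassFunction (IsIrrCharacter.isCharacter hθ)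
    have hinvL : ∀ g : L, Cfsg.Agent.Lib.Helper75.conjFun K g θ = θ := by
      intro g
      obtain ⟨k, hk, y, hy, rfl⟩ := hdecomp g
      rw [conjFun_mul, conjFun_of_mem K hcl ⟨k, hk⟩]
      exact hinv y hy
    have hab : ∀ x ∈ (⊤ : Subgroup L), ∀ y ∈ (⊤ : Subgroup L), x * y * x⁻¹ * y⁻¹ ∈ K := by
      intro x _ y _
      obtain ⟨k₁, hk₁, y₁, hy₁, rfl⟩ := hdecomp x
      obtain ⟨k₂, hk₂, y₂, hy₂, rfl⟩ := hdecomp y
      rw [← QuotientGroup.eq_one_iff]
      have e1 : ((k₁ : L) : L ⧸ K) = 1 := (QuotientGroup.eq_one_iff k₁).mpr hk₁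
      have e2 : ((k₂ : L) : L ⧸ K) = 1 := (QuotientGroup.eq_one_iff k₂).mpr hk₂
      have e3 : ((y₁ * y₂ : L) : L ⧸ K) = ((y₂ * y₁ : L) : L ⧸ K) := by
        rw [hW₁comm y₁ hy₁ y₂ hy₂]
      simp only [QuotientGroup.mk_mul, QuotientGroup.mk_inv, e1, e2, one_mul] at e3 ⊢
      rw [e3]
      group
    obtain ⟨C, hCirr, hCcard, hCsum, -⟩ := Cfsg.Agent.S1491.result K ⊤ θ hθ
      (fun g => ⟨fun _ h => congrFun (hinvL g) h, fun _ => Subgroup.mem_top g⟩) hab
      (by rw [Subgroup.relIndex_top_right, hidxK]; exact hcop.symm)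
    refine ⟨C, ?_, hCirr, hCsum⟩
    rw [hCcard, Subgroup.relIndex_top_right, hidxK]

end Cfsg.Agent.S1513
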