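import Cfsg.Statements.S1388
import Cfsg.Agent.Lib.Helper23.TypeP

set_option autoImplicit false
open Cfsg

namespace Cfsg.Agent.S1388

open Cfsg.Agent.Lib.Helper23

/-- Let M be a subgroup of a finite group G with type-P data (W₁, U, W₂) and H = M_F. Then the derived subgroup of U centralizes H, and if U ≠ 1 then U does not centralize H. -/
theorem result {G : Type*} [Group G] [Finite G] (M W₁ U W₂ : Subgroup G) (hP : Cfsg.IsTypePWith M W₁ U W₂) :
    ⁅U, U⁆ ≤ Subgroup.centralizer (Cfsg.fittingHallOf M : Set G) ∧ (U ≠ ⊥ → ¬ U ≤ Subgroup.centralizer (Cfsg.fittingHallOf M : Set G)) := by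
  classical
  obtain ⟨hcop, hcopW⟩ := typeP_coprime hP
  obtain ⟨hHM', hUM', hHU, hfact⟩ := hP.U_compl
  have hM'M : ⁅M, M⁆ ≤ M := hP.W₁_compl.1
  have hordU : ∀ u ∈ U, orderOf u ∣ Nat.card ↥U := by
    intro u hu
    have := orderOf_dvd_natCard (⟨u, hu⟩ : ↥U)
    rwa [Subgroup.orderOf_mk] at this
  constructor
  · intro u hu
    have huU : u ∈ U := U.commutator_le_self hu
    have hu2 : u ∈ fittingHallOf M ⊔ (M ⊓ Subgroup.centralizer (fittingHallOf M : Set G)) :=
      hP.derived_two_le (Subgroup.commutator_mono hUM' hUM' hu)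
    have hcomm : ∀ a ∈ fittingHallOf M, ∀ b ∈ M ⊓ Subgroup.centralizer (fittingHallOf M : Set G),
        a * b = b * a := by
      intro a ha b hb
      exact (Subgroup.mem_centralizer_iff.mp hb.2) a ha
    obtain ⟨h, hh, c, hc, huhc⟩ := exists_mul_of_mem_sup_of_commute _ _ hcomm hu2
    have hconj : ∀ y ∈ fittingHallOf M, u * y * u⁻¹ = h * y * h⁻¹ := by
      intro y hy
      have hcy : y * c = c * y := hcomm y hy c hc
      have : c * y * c⁻¹ = y := by rw [← hcy]; group
      calc u * y * u⁻¹ = h * (c * y * c⁻¹) * h⁻¹ := by rw [huhc]; group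
        _ = h * y * h⁻¹ := by rw [this]
    exact mem_centralizer_of_conj_eq_inner (fittingHallOf M) u h hh hconj
      (hcop.coprime_dvd_right (hordU u huU))
  · intro hU1 hUC
    -- U is normalized by M
    have hnorm : ∀ m ∈ M, ∀ u ∈ U, m * u * m⁻¹ ∈ U := by
      intro m hm u hu
      have h1 : m * u * m⁻¹ ∈ ⁅M, M⁆ := conj_mem_commutator_self M hm (hUM' hu)
      obtain ⟨h, hh, u', hu', heq⟩ := hfact _ h1
      have hcomm : Commute h u' := ((Subgroup.mem_centralizer_iff.mp (hUC hu')) h hh)
      have hpow : (m * u * m⁻¹) ^ Nat.card ↥U = 1 := by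
        rw [conj_pow]
        have : u ^ Nat.card ↥U = 1 := by
          have : (⟨u, hu⟩ : ↥U) ^ Nat.card ↥U = 1 := pow_card_eq_one'
          exact congrArg Subtype.val this
        rw [this]; group
      have hu'pow : u' ^ Nat.card ↥U = 1 := by
        have : (⟨u', hu'⟩ : ↥U) ^ Nat.card ↥U = 1 := pow_card_eq_one'
        exact congrArg Subtype.val this
      rw [heq, hcomm.mul_pow, hu'pow, mul_one] at hpow
      have hh1 : orderOf h ∣ Nat.card ↥U := orderOf_dvd_of_pow_eq_one hpow
      have hh2 : orderOf h ∣ Nat.card ↥(fittingHallOf M) := by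
        have := orderOf_dvd_natCard (⟨h, hh⟩ : ↥(fittingHallOf M))
        rwa [Subgroup.orderOf_mk] at this
      have hh3 : orderOf h = 1 := Nat.eq_one_of_dvd_coprimes hcop hh2 hh1
      rw [orderOf_eq_one_iff] at hh3
      rw [heq, hh3, one_mul]
      exact hu'
    have hUM : U ≤ M := hUM'.trans hM'M
    -- V = U as a subgroup of M is a normal nilpotent Hall subgroup
    have hVn : (U.subgroupOf M).Normal := by
      refine ⟨fun x hx g => ?_⟩
      rw [Subgroup.mem_subgroupOf] at hx ⊢
      exact hnorm g.1 g.2 x.1 hx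
    have hVnil : Group.IsNilpotent ↥(U.subgroupOf M) := by
      have := hP.U_nilpotent
      exact Group.nilpotent_of_mulEquiv (Subgroup.subgroupOfEquivOfLe hUM).symm
    have hVcard : Nat.card ↥(U.subgroupOf M) = Nat.card ↥U :=
      Nat.card_congr (Subgroup.subgroupOfEquivOfLe hUM).toEquiv
    have hVcop : (Nat.card ↥(U.subgroupOf M)).Coprime (U.subgroupOf M).index := by
      have h1 := card_of_isComplIn hP.W₁_compl
      have h2 := card_of_isComplIn hP.U_compl
      have h3 : Nat.card ↥(U.subgroupOf M) * (U.subgroupOf M).index = Nat.card ↥M :=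
        Subgroup.card_mul_index _
      have hpos : 0 < Nat.card ↥U := Nat.card_pos
      have h4 : (U.subgroupOf M).index = Nat.card ↥(fittingHallOf M) * Nat.card ↥W₁ := by
        have : Nat.card ↥U * (U.subgroupOf M).index =
            Nat.card ↥U * (Nat.card ↥(fittingHallOf M) * Nat.card ↥W₁) := by
          rw [← hVcard, h3, h1, h2, hVcard]; ring
        exact Nat.eq_of_mul_eq_mul_left hpos this
      rw [hVcard, h4]
      exact Nat.Coprime.mul_right hcop.symm hcopW.symm
    have hVle : U.subgroupOf M ≤ fittingHall ↥M := le_sSup ⟨hVn, hVnil, hVcop⟩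
    have hUH : U ≤ fittingHallOf M := by
      intro u hu
      exact ⟨⟨u, hUM hu⟩, hVle (by rw [Subgroup.mem_subgroupOf]; exact hu), rfl⟩
    apply hU1
    rw [← hHU]
    exact (inf_eq_right.mpr hUH).symm

end Cfsg.Agent.S1388
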