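import Cfsg.Statements.S1519
import Mathlib
import Cfsg.Agent.Lib.Helper25.CohDescent2
import Cfsg.Agent.Lib.Helper26.ZSpan
import Cfsg.Agent.S1516

set_option autoImplicit false
open Cfsg

namespace Cfsg.Agent.S1519

open Cfsg.Agent.Lib.Helper25.CohDescent Cfsg.Agent.Lib.Helper26 Cfsg.Agent.Lib.Helper78

section Aux

universe u v

variable {L : Type u} [Group L] [Fintype L] {G : Type v} [Group G] [Fintype G]

/-- a subset of a coherent set is coherent, provided it carries a nonzero combination vanishing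
at `1` -/
theorem isCoherent_subset {S' S'' : Set (L → ℂ)} (hsub : S' ⊆ S'') (τ : (L → ℂ) → (G → ℂ))
    (hcoh : Cfsg.IsCoherent S'' {1}ᶜ τ) (hne : ∃ α ∈ Cfsg.zspanOn S' {1}ᶜ, α ≠ 0) :
    Cfsg.IsCoherent S' {1}ᶜ τ := by
  obtain ⟨-, τ₁, hτ₁, hτ₁τ⟩ := hcoh
  exact ⟨hne, τ₁, isom_mono (zspan_mono hsub) hτ₁, fun α hα => hτ₁τ α (zspanOn_mono _ hsub hα)⟩

/-- `χ - χ̄` is a nonzero member of `ℤ[S, 1ᶜ]` for `χ ∈ S` a character with `χ̄ ≠ χ` -/
theorem exists_zspanOn_ne_zero {S' : Set (L → ℂ)} {χ : L → ℂ} (hχ : χ ∈ S')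
    (hχc : Cfsg.conjFun χ ∈ S') (hchar : Cfsg.IsCharacter L χ) (hne : Cfsg.conjFun χ ≠ χ) :
    ∃ α ∈ Cfsg.zspanOn S' {1}ᶜ, α ≠ 0 := by
  refine ⟨χ - Cfsg.conjFun χ, ?_, ?_⟩
  · rw [mem_zspanOn_compl_one]
    refine ⟨zspan_sub (subset_zspan _ hχ) (subset_zspan _ hχc), ?_⟩
    rw [Pi.sub_apply]
    unfold Cfsg.conjFun
    rw [IsCharacter.apply_one_eq_charDegree hchar, Complex.conj_natCast, sub_self]
  · intro h
    apply hne
    rw [sub_eq_zero] at h
    exact h.symm

end Aux

/-- Let K be a solvable normal subgroup of the finite group L and (S, τ, R) a coherence system from L to G where S is the set of functions induced from non-principal irreducible characters of K; write S(A) for those induced from characters whose kernel contains A. Let A, B, C, D be normal subgroups of L with A < K, B < K, B ≤ D ≤ C ≤ K and every commutator of D with C in B. If S(A) is coherent and 4 * [L:C]^2 * [C:D] < ([K:A] − 1)^2, then S(B) is coherent. -/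
theorem result {L : Type*} [Group L] [Fintype L] {G : Type*} [Group G] [Fintype G] (K : Subgroup L) [hK : K.Normal] (hsolv : Group.IsSolvable K) (τ : (L → ℂ) → (G → ℂ)) (R : (L → ℂ) → Finset (G → ℂ)) (hS : Cfsg.IsCoherenceSystem (Cfsg.inducedIrrAbove K ⊥) τ R) (A B C D : Subgroup L) [A.Normal] [B.Normal] [C.Normal] [D.Normal] (hAK : A < K) (hBK : B < K) (hBD : B ≤ D) (hDC : D ≤ C) (hCK : C ≤ K) (hcent : ∀ x ∈ D, ∀ y ∈ C, x * y * x⁻¹ * y⁻¹ ∈ B) (hA : Cfsg.IsCoherent (Cfsg.inducedIrrAbove K A) {1}ᶜ τ) (hlt : 4 * C.index ^ 2 * D.relIndex C < (A.relIndex K - 1) ^ 2) : Cfsg.IsCoherent (Cfsg.inducedIrrAbove K B) {1}ᶜ τ := by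
  classical
  have hS' := hS
  -- degrees and norms
  let d : (L → ℂ) → ℕ := fun φ => Cfsg.charDegree φ
  let n : (L → ℂ) → ℕ := fun φ => ⌊(Cfsg.classInner φ φ).re⌋₊
  have hd : ∀ φ ∈ Cfsg.inducedIrrAbove K ⊥, φ 1 = (d φ : ℂ) := fun φ hφ =>
    IsCharacter.apply_one_eq_charDegree (hS.isCharacter φ hφ)
  have hn : ∀ φ ∈ Cfsg.inducedIrrAbove K ⊥, Cfsg.classInner φ φ = (n φ : ℂ) := by
    intro φ hφ
    obtain ⟨k, hk⟩ := Cfsg.Agent.S0148.exists_nat_classInner_of_isCharacter
      (hS.isCharacter φ hφ) (hS.isCharacter φ hφ)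
    simp [n, hk]
  have hn0 : ∀ φ ∈ Cfsg.inducedIrrAbove K ⊥, n φ ≠ 0 := by
    intro φ hφ h0
    have h1 := hn φ hφ
    rw [h0, Nat.cast_zero] at h1
    have h2 := classInner_self_eq_zero h1
    apply hS.conj_ne φ hφ
    rw [h2]
    funext x
    simp [Cfsg.conjFun]
  have hAsub : (↑(indSet K A) : Set (L → ℂ)) ⊆ Cfsg.inducedIrrAbove K ⊥ := by
    rw [coe_indSet]; exact inducedIrrAbove_subset_bot K A
  have hBsub : (↑(indSet K B) : Set (L → ℂ)) ⊆ Cfsg.inducedIrrAbove K ⊥ := by
    rw [coe_indSet]; exact inducedIrrAbove_subset_bot K B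
  have hAconj : ∀ φ ∈ indSet K A, Cfsg.conjFun φ ∈ indSet K A := by
    intro φ hφ
    rw [mem_indSet_iff] at hφ ⊢
    exact conj_mem_inducedIrrAbove K A hφ
  have hBconj : ∀ φ ∈ indSet K B, Cfsg.conjFun φ ∈ indSet K B := by
    intro φ hφ
    rw [mem_indSet_iff] at hφ ⊢
    exact conj_mem_inducedIrrAbove K B hφ
  -- the linear member of `S(A)`
  obtain ⟨χ₁, hχ₁A, hχ₁d⟩ := exists_linear_mem K A hsolv hAK
  have hχ₁A' : χ₁ ∈ indSet K A := (mem_indSet_iff K A χ₁).mpr hχ₁A
  have hKpos : 0 < K.index := Nat.pos_of_ne_zero (Subgroup.index_ne_zero_of_finite)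
  -- numerical consequence for members of `S(B)`
  have hnum : ∀ χ ∈ indSet K B, 2 * d χ + 1 < A.relIndex K ∧ K.index ∣ d χ := by
    intro χ hχ
    rw [mem_indSet_iff] at hχ
    obtain ⟨θ, hθ, hθB, hdeg⟩ := charDegree_of_mem K B hχ
    have h1 := degree_sq_le_sub K B D C hBD hDC hCK hcent hθ hθB
    have h2 : C.relIndex K * K.index = C.index := Subgroup.relIndex_mul_index hCK
    have h3 : (2 * d χ) ^ 2 < (A.relIndex K - 1) ^ 2 := by
      calc (2 * d χ) ^ 2 = 4 * K.index ^ 2 * Cfsg.charDegree θ ^ 2 := by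
            change (2 * Cfsg.charDegree χ) ^ 2 = _
            rw [hdeg]; ring
        _ ≤ 4 * K.index ^ 2 * (C.relIndex K ^ 2 * D.relIndex C) :=
            Nat.mul_le_mul_left _ h1
        _ = 4 * C.index ^ 2 * D.relIndex C := by rw [← h2]; ring
        _ < (A.relIndex K - 1) ^ 2 := hlt
    have h4 : 2 * d χ < A.relIndex K - 1 := lt_of_pow_lt_pow_left₀ 2 (Nat.zero_le _) h3
    refine ⟨by omega, ?_⟩
    change K.index ∣ Cfsg.charDegree χ
    rw [hdeg]
    exact Dvd.intro _ rfl
  -- main induction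
  have key : ∀ S₁ : Finset (L → ℂ), indSet K A ⊆ S₁ → S₁ ⊆ indSet K A ∪ indSet K B →
      (∀ φ ∈ S₁, Cfsg.conjFun φ ∈ S₁) → Cfsg.IsCoherent (↑S₁ : Set (L → ℂ)) {1}ᶜ τ := by
    intro S₁
    induction S₁ using Finset.strongInduction with
    | H S₁ ih =>
      intro h1 h2 h3
      by_cases heq : S₁ = indSet K A
      · rw [heq, coe_indSet]; exact hA
      · have hex : ∃ χ ∈ S₁, χ ∉ indSet K A := by
          by_contra hcon
          push Not at hcon
          exact heq (Finset.Subset.antisymm hcon h1)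
        obtain ⟨χ, hχS₁, hχA⟩ := hex
        have hχB : χ ∈ indSet K B := by
          rcases Finset.mem_union.mp (h2 hχS₁) with h | h
          · exact absurd h hχA
          · exact h
        have hχcA : Cfsg.conjFun χ ∉ indSet K A := by
          intro h
          apply hχA
          have := hAconj _ h
          rwa [conjFun_conjFun] at this
        set S₁' : Finset (L → ℂ) := (S₁.erase χ).erase (Cfsg.conjFun χ) with hS₁'
        have hmem' : ∀ φ, φ ∈ S₁' ↔ φ ≠ Cfsg.conjFun χ ∧ φ ≠ χ ∧ φ ∈ S₁ := by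
          intro φ
          rw [hS₁', Finset.mem_erase, Finset.mem_erase]
        have hsub' : S₁' ⊆ S₁ := fun φ hφ => ((hmem' φ).mp hφ).2.2
        have hssub : S₁' ⊂ S₁ := by
          refine Finset.ssubset_iff_subset_ne.mpr ⟨hsub', ?_⟩
          intro h
          have : χ ∈ S₁' := h ▸ hχS₁
          exact ((hmem' χ).mp this).2.1 rfl
        have h1' : indSet K A ⊆ S₁' := by
          intro φ hφ
          rw [hmem']
          refine ⟨?_, ?_, h1 hφ⟩
          · rintro rfl; exact hχcA hφ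
          · rintro rfl; exact hχA hφ
        have h3' : ∀ φ ∈ S₁', Cfsg.conjFun φ ∈ S₁' := by
          intro φ hφ
          obtain ⟨ha, hb, hc⟩ := (hmem' φ).mp hφ
          rw [hmem']
          refine ⟨?_, ?_, h3 φ hc⟩
          · intro h
            apply hb
            have := congrArg Cfsg.conjFun h
            rwa [conjFun_conjFun, conjFun_conjFun] at this
          · intro h
            apply ha
            have := congrArg Cfsg.conjFun h
            rwa [conjFun_conjFun] at this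
        have hcoh' := ih S₁' hssub h1' (hsub'.trans h2) h3'
        have hS₁'S : (↑S₁' : Set (L → ℂ)) ⊆ Cfsg.inducedIrrAbove K ⊥ := by
          intro φ hφ
          rcases Finset.mem_union.mp (h2 (hsub' (Finset.mem_coe.mp hφ))) with h | h
          · exact hAsub (Finset.mem_coe.mpr h)
          · exact hBsub (Finset.mem_coe.mpr h)
        have hχS : χ ∈ Cfsg.inducedIrrAbove K ⊥ := hBsub (Finset.mem_coe.mpr hχB)
        have hχ₁ : χ ∉ S₁' := fun h => ((hmem' χ).mp h).2.1 rfl
        have hχ₂ : Cfsg.conjFun χ ∉ S₁' := fun h => ((hmem' _).mp h).1 rfl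
        obtain ⟨hnum1, hnum2⟩ := hnum χ hχB
        have hdvd : d χ₁ ∣ d χ := by
          change Cfsg.charDegree χ₁ ∣ d χ
          rw [hχ₁d]; exact hnum2
        have hsum := sum_bound K A S₁' h1' n
          (fun φ hφ => hS.isCharacter φ (hS₁'S (Finset.mem_coe.mpr hφ)))
          (fun φ hφ => hn φ (hS₁'S (Finset.mem_coe.mpr hφ)))
          (fun φ hφ => hn0 φ (hS₁'S (Finset.mem_coe.mpr hφ)))
        have hineq : (2 * d χ * d χ₁ : ℝ) < ∑ φ ∈ S₁', ((d φ : ℝ) ^ 2 / (n φ : ℝ)) := by
          refine lt_of_lt_of_le ?_ hsum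
          have e1 : (d χ₁ : ℝ) = (K.index : ℝ) := by
            change ((Cfsg.charDegree χ₁ : ℕ) : ℝ) = _
            rw [hχ₁d]
          have e2 : (2 * (d χ : ℝ) + 1) < (A.relIndex K : ℝ) := by exact_mod_cast hnum1
          have e3 : (0 : ℝ) < (K.index : ℝ) := by exact_mod_cast hKpos
          rw [e1]
          nlinarith
        have hres := Cfsg.Agent.S1516.result (Cfsg.inducedIrrAbove K ⊥) τ R hS d n hd hn S₁' hS₁'S h3'
          hcoh' χ hχS hχ₁ hχ₂ χ₁ (h1' hχ₁A') hdvd hineq
        have hset : (↑S₁' ∪ {χ, Cfsg.conjFun χ} : Set (L → ℂ)) = ↑S₁ := by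
          ext φ
          simp only [Set.mem_union, Finset.mem_coe, Set.mem_insert_iff, Set.mem_singleton_iff]
          constructor
          · rintro (h | rfl | rfl)
            · exact hsub' h
            · exact hχS₁
            · exact h3 _ hχS₁
          · intro h
            by_cases ha : φ = χ
            · right; left; exact ha
            · by_cases hb : φ = Cfsg.conjFun χ
              · right; right; exact hb
              · left; exact (hmem' φ).mpr ⟨hb, ha, h⟩
        rw [hset] at hres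
        exact hres
  have hT := key (indSet K A ∪ indSet K B) Finset.subset_union_left (Finset.Subset.refl _)
    (by
      intro φ hφ
      rcases Finset.mem_union.mp hφ with h | h
      · exact Finset.mem_union_left _ (hAconj φ h)
      · exact Finset.mem_union_right _ (hBconj φ h))
  -- restrict to `S(B)`
  obtain ⟨χ₂, hχ₂B, -⟩ := exists_linear_mem K B hsolv hBK
  have hχ₂S := inducedIrrAbove_subset_bot K B hχ₂B
  have hne := exists_zspanOn_ne_zero hχ₂B (conj_mem_inducedIrrAbove K B hχ₂B)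
    (hS.isCharacter χ₂ hχ₂S) (hS.conj_ne χ₂ hχ₂S)
  refine isCoherent_subset ?_ τ hT hne
  rw [← coe_indSet]
  intro φ hφ
  exact Finset.mem_coe.mpr (Finset.mem_union_right _ (Finset.mem_coe.mp hφ))

end Cfsg.Agent.S1519
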