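import Cfsg.Statements.S1520
import Mathlib
import Cfsg.Agent.S1519

set_option autoImplicit false
open Cfsg

namespace Cfsg.Agent.S1520

open scoped commutatorElement

/-- the numerical inequality of Peterfalvi (6.2) -/
theorem numeric (l k x : ℕ) (hk : 1 ≤ k) (hx : 4 * l ^ 2 + 2 ≤ x) :
    4 * (k * l) ^ 2 * x < (x * k - 1) ^ 2 := by
  obtain ⟨e, rfl⟩ := Nat.exists_eq_add_of_le hx
  obtain ⟨k', rfl⟩ := Nat.exists_eq_add_of_le hk
  have h1 : 1 ≤ (4 * l ^ 2 + 2 + e) * (1 + k') := by nlinarith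
  obtain ⟨y, hy⟩ := Nat.exists_eq_add_of_le h1
  rw [hy, Nat.add_sub_cancel_left]
  have hy' : (y : ℤ) = (4 * (l:ℤ) ^ 2 + 2 + e) * (1 + k') - 1 := by
    have : (((4 * l ^ 2 + 2 + e) * (1 + k') : ℕ) : ℤ) = ((1 + y : ℕ) : ℤ) := by rw [hy]
    push_cast at this
    linarith
  have goal : (4 * ((1 + (k':ℤ)) * l) ^ 2 * (4 * (l:ℤ) ^ 2 + 2 + e) : ℤ) < (y : ℤ) ^ 2 := by
    rw [hy']
    have hl : (0:ℤ) ≤ l := Int.natCast_nonneg _
    have he : (0:ℤ) ≤ e := Int.natCast_nonneg _
    have hk' : (0:ℤ) ≤ k' := Int.natCast_nonneg _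
    nlinarith [mul_nonneg hk' hk', mul_nonneg (mul_nonneg hl hl) hk', mul_nonneg he hk',
      mul_nonneg (mul_nonneg hl hl) (mul_nonneg hk' hk'), mul_nonneg he (mul_nonneg hk' hk'),
      mul_nonneg (mul_nonneg hl hl) he, mul_nonneg (mul_nonneg (mul_nonneg hl hl) he) hk',
      mul_nonneg (mul_nonneg (mul_nonneg hl hl) he) (mul_nonneg hk' hk'),
      mul_nonneg (mul_nonneg hl hl) (mul_nonneg hl hl),
      mul_nonneg (mul_nonneg (mul_nonneg hl hl) (mul_nonneg hl hl)) hk',
      mul_nonneg (mul_nonneg (mul_nonneg hl hl) (mul_nonneg hl hl)) (mul_nonneg hk' hk'),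
      mul_nonneg he he, mul_nonneg (mul_nonneg he he) hk',
      mul_nonneg (mul_nonneg he he) (mul_nonneg hk' hk')]
  exact_mod_cast goal

/-- Let K be a solvable normal subgroup of the finite group L and (S, τ, R) a coherence system from L to G with S the functions induced from non-principal irreducible characters of K; S(A) the members of S induced from characters whose kernel contains A. Let M ≤ H₁ ≤ H ≤ K be normal subgroups of L such that every term of the lower central series of H eventually lies in M (H/M nilpotent), S(H₁) is coherent and [H:H₁] > 4 * [L:K]^2 + 1. Then S(M) is coherent. -/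
theorem result {L : Type*} [Group L] [Fintype L] {G : Type*} [Group G] [Fintype G] (K : Subgroup L) [hK : K.Normal] (hsolv : Group.IsSolvable K) (τ : (L → ℂ) → (G → ℂ)) (R : (L → ℂ) → Finset (G → ℂ)) (hS : Cfsg.IsCoherenceSystem (Cfsg.inducedIrrAbove K ⊥) τ R) (M H₁ H : Subgroup L) [M.Normal] [H₁.Normal] [H.Normal] (hMH₁ : M ≤ H₁) (hH₁H : H₁ ≤ H) (hHK : H ≤ K) [(M.subgroupOf H).Normal] (hnil : Group.IsNilpotent (↥H ⧸ M.subgroupOf H)) (hcoh : Cfsg.IsCoherent (Cfsg.inducedIrrAbove K H₁) {1}ᶜ τ) (hbig : 4 * K.index ^ 2 + 1 < H₁.relIndex H) : Cfsg.IsCoherent (Cfsg.inducedIrrAbove K M) {1}ᶜ τ := by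
  classical
  obtain ⟨N, hN⟩ := Subgroup.nilpotent_iff_lowerCentralSeries.mp hnil
  have hH₁ne : H₁ ≠ H := by
    intro h
    rw [h, Subgroup.relIndex_self] at hbig
    omega
  have hH₁lt : H₁ < H := lt_of_le_of_ne hH₁H hH₁ne
  have hH₁K : H₁ < K := lt_of_lt_of_le hH₁lt hHK
  have hkpos : 1 ≤ H.relIndex K :=
    Nat.one_le_iff_ne_zero.mpr (Subgroup.index_ne_zero_of_finite (H := H.subgroupOf K))
  have key : ∀ i : ℕ, ∃ X : Subgroup L, X.Normal ∧ M ≤ X ∧ X ≤ H₁ ∧
      Cfsg.IsCoherent (Cfsg.inducedIrrAbove K X) {1}ᶜ τ ∧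
      ∀ x : H, (x : L) ∈ X → (QuotientGroup.mk x : ↥H ⧸ M.subgroupOf H) ∈
        Subgroup.lowerCentralSeries (⊤ : Subgroup (↥H ⧸ M.subgroupOf H)) i := by
    intro i
    induction i with
    | zero =>
      exact ⟨H₁, inferInstance, hMH₁, le_refl _, hcoh, fun x _ => Subgroup.mem_top _⟩
    | succ i ih =>
      obtain ⟨X, hXn, hMX, hXH₁, hXcoh, hXlcs⟩ := ih
      have hXH : X ≤ H := hXH₁.trans hH₁H
      have hcn : (⁅X, H⁆ : Subgroup L).Normal := Subgroup.commutator_normal X H
      have hX'n : (M ⊔ ⁅X, H⁆ : Subgroup L).Normal := Subgroup.sup_normal M ⁅X, H⁆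
      have hX'X : M ⊔ ⁅X, H⁆ ≤ X := sup_le hMX (Subgroup.commutator_le_left X H)
      refine ⟨M ⊔ ⁅X, H⁆, hX'n, le_sup_left, hX'X.trans hXH₁, ?_, ?_⟩
      · -- coherence through (6.1)
        have hlt : 4 * H.index ^ 2 * X.relIndex H < (X.relIndex K - 1) ^ 2 := by
          have e1 : H.index = H.relIndex K * K.index := (Subgroup.relIndex_mul_index hHK).symm
          have e2 : X.relIndex K = X.relIndex H * H.relIndex K :=
            (Subgroup.relIndex_mul_relIndex X H K hXH hHK).symm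
          have e3 : X.relIndex H = X.relIndex H₁ * H₁.relIndex H :=
            (Subgroup.relIndex_mul_relIndex X H₁ H hXH₁ hH₁H).symm
          have e4 : 1 ≤ X.relIndex H₁ :=
            Nat.one_le_iff_ne_zero.mpr (Subgroup.index_ne_zero_of_finite (H := X.subgroupOf H₁))
          have e5 : 4 * K.index ^ 2 + 2 ≤ X.relIndex H := by
            rw [e3]
            calc 4 * K.index ^ 2 + 2 ≤ H₁.relIndex H := hbig
              _ = 1 * H₁.relIndex H := (one_mul _).symm
              _ ≤ X.relIndex H₁ * H₁.relIndex H := Nat.mul_le_mul_right _ e4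
          rw [e1, e2]
          exact numeric K.index (H.relIndex K) (X.relIndex H) hkpos e5
        exact Cfsg.Agent.S1519.result K hsolv τ R hS X (M ⊔ ⁅X, H⁆) H X
          (lt_of_le_of_lt hXH₁ hH₁K) (lt_of_le_of_lt (hX'X.trans hXH₁) hH₁K) hX'X hXH hHK
          (fun x hx y hy => by
            have := Subgroup.commutator_mem_commutator hx hy
            rw [commutatorElement_def] at this
            exact (le_sup_right : ⁅X, H⁆ ≤ M ⊔ ⁅X, H⁆) this)
          hXcoh hlt
      · -- the image in `H/M` descends along the lower central series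
        set Y : Subgroup L := ((Subgroup.lowerCentralSeries
          (⊤ : Subgroup (↥H ⧸ M.subgroupOf H)) (i + 1)).comap
            (QuotientGroup.mk' (M.subgroupOf H))).map H.subtype with hY
        have hMY : M ≤ Y := by
          intro m hm
          have hmH : m ∈ H := hH₁H (hMH₁ hm)
          refine Subgroup.mem_map.mpr ⟨⟨m, hmH⟩, ?_, rfl⟩
          rw [Subgroup.mem_comap, QuotientGroup.mk'_apply]
          have : (QuotientGroup.mk (⟨m, hmH⟩ : H) : ↥H ⧸ M.subgroupOf H) = 1 := by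
            rw [QuotientGroup.eq_one_iff]
            exact Subgroup.mem_subgroupOf.mpr hm
          rw [this]
          exact Subgroup.one_mem _
        have hcY : ⁅X, H⁆ ≤ Y := by
          rw [Subgroup.commutator_le]
          intro x hx y hy
          refine Subgroup.mem_map.mpr ⟨⁅(⟨x, hXH hx⟩ : H), (⟨y, hy⟩ : H)⁆, ?_, rfl⟩
          rw [Subgroup.mem_comap, map_commutatorElement, Subgroup.lowerCentralSeries_succ]
          exact Subgroup.commutator_mem_commutator (hXlcs ⟨x, hXH hx⟩ hx) (Subgroup.mem_top _)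
        intro x hx
        have hxY : (x : L) ∈ Y := (sup_le hMY hcY) hx
        obtain ⟨h, hh, hhx⟩ := Subgroup.mem_map.mp hxY
        have : h = x := Subtype.ext hhx
        rw [this] at hh
        exact hh
  obtain ⟨X, hXn, hMX, hXH₁, hXcoh, hXlcs⟩ := key N
  have hXM : X ≤ M := by
    intro x hx
    have hxH : x ∈ H := hH₁H (hXH₁ hx)
    have h1 := hXlcs ⟨x, hxH⟩ hx
    rw [hN, Subgroup.mem_bot, QuotientGroup.eq_one_iff] at h1
    exact Subgroup.mem_subgroupOf.mp h1
  have : X = M := le_antisymm hXM hMX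
  rw [← this]
  exact hXcoh

end Cfsg.Agent.S1520
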