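import Cfsg.Statements.S1521
import Mathlib
import Cfsg.Agent.Lib.Helper25.CohDescent2
import Cfsg.Agent.Lib.Helper25.NilAb
import Cfsg.Agent.Lib.Helper25.FrobCount
import Cfsg.Agent.Lib.Helper26.ZSpan
import Cfsg.Agent.S1517
import Cfsg.Agent.S1520

set_option autoImplicit false
open Cfsg

namespace Cfsg.Agent.S1521

open Cfsg.Agent.Lib.Helper25.CohDescent Cfsg.Agent.Lib.Helper25.NilAb
  Cfsg.Agent.Lib.Helper25.FrobCount Cfsg.Agent.Lib.Helper26 Cfsg.Agent.Lib.Helper78
open scoped commutatorElement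

section Aux

universe u v

variable {L : Type u} [Group L] [Fintype L] {G : Type v} [Group G] [Fintype G]

/-- a nonempty conjugation-closed subset of a coherence system is a coherence system -/
theorem isCoherenceSystem_subset {S S' : Set (L → ℂ)} {τ : (L → ℂ) → (G → ℂ)}
    {R : (L → ℂ) → Finset (G → ℂ)} (hS : Cfsg.IsCoherenceSystem S τ R) (hsub : S' ⊆ S)
    (hne : S'.Nonempty) (hconj : ∀ χ ∈ S', Cfsg.conjFun χ ∈ S') :
    Cfsg.IsCoherenceSystem S' τ R where
  nonempty := hne
  isCharacter := fun χ hχ => hS.isCharacter χ (hsub hχ)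
  conj_mem := hconj
  conj_ne := fun χ hχ => hS.conj_ne χ (hsub hχ)
  isometry := isom_mono (zspanOn_mono _ hsub) hS.isometry
  map_one := fun α hα => hS.map_one α (zspanOn_mono _ hsub hα)
  orthogonal := fun χ hχ φ hφ => hS.orthogonal χ (hsub hχ) φ (hsub hφ)
  orthonormal := fun χ hχ => hS.orthonormal χ (hsub hχ)
  virtual := fun χ hχ => hS.virtual χ (hsub hχ)
  sum_eq := fun χ hχ => hS.sum_eq χ (hsub hχ)
  disjoint := fun χ hχ φ hφ => hS.disjoint χ (hsub hχ) φ (hsub hφ)

/-- members of `S(H₁)` have degree `[L:K]` when `K/H₁` is abelian -/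
theorem apply_one_of_mem_abelian (K H₁ : Subgroup L) (hH₁K : H₁ ≤ K) (hcomm : ⁅K, K⁆ ≤ H₁)
    {φ : L → ℂ} (hφ : φ ∈ Cfsg.inducedIrrAbove K H₁) : φ 1 = (K.index : ℂ) := by
  obtain ⟨θ, hθ, h1, h2, rfl⟩ := hφ
  have hsq := degree_sq_le_sub K H₁ K K hH₁K le_rfl le_rfl
    (fun x hx y hy => by
      apply hcomm
      have := Subgroup.commutator_mem_commutator hx hy
      rwa [commutatorElement_def] at this) hθ h2
  rw [Subgroup.relIndex_self, one_pow, one_mul] at hsq
  have hpos := IsIrrCharacter.charDegree_pos hθ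
  have hdeg : Cfsg.charDegree θ = 1 := by nlinarith
  rw [Cfsg.Agent.Lib.Helper75.indFun_one, IsCharacter.apply_one_eq_charDegree
    (IsIrrCharacter.isCharacter hθ), hdeg]
  simp

end Aux

/-- Let K be a solvable normal subgroup of the finite group L of odd order and (S, τ, R) a coherence system from L to G with S the functions induced from non-principal irreducible characters of K; S(A) as before. Let M ≤ K be normal in L with K/M nilpotent, H₁ = [K, K] ⊔ M, H₁ < K < L, and suppose every element of K outside H₁ is centralised modulo H₁ only from inside K (L/H₁ is a Frobenius group with kernel K/H₁). Suppose one of the following: some normal subgroup of L lies strictly between H₁ and K; or [K:H₁] > 4[L:K]^2 + 1; or [K:M] is not a prime power; or [K,K] ≤ M; or [K:M] is a power of a prime p with [L:K] dividing p − 1. Then S(M) is coherent. -/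
theorem result {L : Type*} [Group L] [Fintype L] {G : Type*} [Group G] [Fintype G] (K : Subgroup L) [hK : K.Normal] (hsolv : Group.IsSolvable K) (τ : (L → ℂ) → (G → ℂ)) (R : (L → ℂ) → Finset (G → ℂ)) (hS : Cfsg.IsCoherenceSystem (Cfsg.inducedIrrAbove K ⊥) τ R) (hodd : Odd (Nat.card L)) (M : Subgroup L) [M.Normal] (hMK : M ≤ K) [(M.subgroupOf K).Normal] (hnil : Group.IsNilpotent (↥K ⧸ M.subgroupOf K)) (H₁ : Subgroup L) (hH₁ : H₁ = ⁅K, K⁆ ⊔ M) (hH₁K : H₁ < K) (hKL : K < ⊤) (hfrob : ∀ k ∈ K, k ∉ H₁ → ∀ x : L, x * k * x⁻¹ * k⁻¹ ∈ H₁ → x ∈ K) (hgood : (∃ N : Subgroup L, N.Normal ∧ H₁ < N ∧ N < K) ∨ 4 * K.index ^ 2 + 1 < H₁.relIndex K ∨ (¬ ∃ p m : ℕ, p.Prime ∧ M.relIndex K = p ^ m) ∨ ⁅K, K⁆ ≤ M ∨ (∃ p m : ℕ, p.Prime ∧ M.relIndex K = p ^ m ∧ K.index ∣ p - 1)) : Cfsg.IsCoherent (Cfsg.inducedIrrAbove K M) {1}ᶜ τ := by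
  classical
  have hcK : (⁅K, K⁆ : Subgroup L).Normal := Subgroup.commutator_normal K K
  have hH₁n : H₁.Normal := by rw [hH₁]; exact Subgroup.sup_normal _ _
  have hcomm : ⁅K, K⁆ ≤ H₁ := by rw [hH₁]; exact le_sup_left
  have hMH₁ : M ≤ H₁ := by rw [hH₁]; exact le_sup_right
  -- `S(H₁)` is coherent
  have hcohH₁ : Cfsg.IsCoherent (Cfsg.inducedIrrAbove K H₁) {1}ᶜ τ := by
    obtain ⟨χ₂, hχ₂, -⟩ := exists_linear_mem K H₁ hsolv hH₁K
    have hsys := isCoherenceSystem_subset hS (inducedIrrAbove_subset_bot K H₁) ⟨χ₂, hχ₂⟩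
      (fun χ hχ => conj_mem_inducedIrrAbove K H₁ hχ)
    apply Cfsg.Agent.S1517.result _ τ R hsys
    intro φ hφ ψ hψ
    rw [apply_one_of_mem_abelian K H₁ hH₁K.le hcomm hφ,
      apply_one_of_mem_abelian K H₁ hH₁K.le hcomm hψ]
  -- the case of a large index
  have hbig : 4 * K.index ^ 2 + 1 < H₁.relIndex K →
      Cfsg.IsCoherent (Cfsg.inducedIrrAbove K M) {1}ᶜ τ := by
    intro hb
    exact Cfsg.Agent.S1520.result K hsolv τ R hS M H₁ K hMH₁ hH₁K.le le_rfl hnil hcohH₁ hb
  -- the abelian case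
  have hab : ⁅K, K⁆ ≤ M → Cfsg.IsCoherent (Cfsg.inducedIrrAbove K M) {1}ᶜ τ := by
    intro h
    have : H₁ = M := by rw [hH₁]; exact sup_eq_right.mpr h
    rw [← this]
    exact hcohH₁
  -- a normal subgroup in between
  have hbetween : (∃ N : Subgroup L, N.Normal ∧ H₁ < N ∧ N < K) →
      Cfsg.IsCoherent (Cfsg.inducedIrrAbove K M) {1}ᶜ τ := by
    rintro ⟨N, hNn, hH₁N, hNK⟩
    exact hbig (big_index_of_normal_between K H₁ N hodd hcomm hH₁N hNK hfrob)
  rcases hgood with ha | hb | hc | hd | he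
  · exact hbetween ha
  · exact hbig hb
  · by_cases ha : ∃ N : Subgroup L, N.Normal ∧ H₁ < N ∧ N < K
    · exact hbetween ha
    · exfalso
      obtain ⟨p, n, hp, hpn⟩ := exists_prime_pow_relIndex_of_no_normal_between K H₁ hcomm hH₁K ha
      rw [hH₁] at hpn
      obtain ⟨m, hm⟩ := relIndex_prime_pow_of_nilpotent K M hMK hnil p hp n hpn
      exact hc ⟨p, m, hp, hm⟩
  · exact hab hd
  · obtain ⟨p, m, hp, hpm, hdvd⟩ := he
    by_cases hb : 4 * K.index ^ 2 + 1 < H₁.relIndex K
    · exact hbig hb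
    · apply hab
      have h1 : H₁.relIndex K ≠ 1 := by
        intro h
        rw [Subgroup.relIndex_eq_one] at h
        exact absurd h (not_le_of_gt hH₁K)
      have h2 : H₁.relIndex K ∣ p ^ m := by
        rw [← hpm]
        exact Subgroup.relIndex_dvd_of_le_left K hMH₁
      obtain ⟨j, hjm, hj⟩ := (Nat.dvd_prime_pow hp).mp h2
      have hj1 : 1 ≤ j := by
        by_contra h
        have : j = 0 := by omega
        rw [this, pow_zero] at hj
        exact h1 hj
      -- `p` is odd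
      have hpL : p ∣ Nat.card L := by
        have h3 : p ∣ H₁.relIndex K := by rw [hj]; exact dvd_pow_self p (by omega)
        exact h3.trans ((Subgroup.relIndex_dvd_card H₁ K).trans (Subgroup.card_subgroup_dvd_card K))
      have hpodd : Odd p := Odd.of_dvd_nat hodd hpL
      have heodd : Odd K.index := Odd.of_dvd_nat hodd (Subgroup.index_dvd_card K)
      have h2e : 2 * K.index ∣ p - 1 := by
        have h4 : 2 ∣ p - 1 := by
          obtain ⟨k, hk⟩ := hpodd
          exact ⟨k, by omega⟩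
        have hcop : Nat.Coprime 2 K.index := by
          rw [Nat.coprime_two_left]; exact heodd
        exact Nat.Coprime.mul_dvd_of_dvd_of_dvd hcop h4 hdvd
      have hle : 2 * K.index ≤ p - 1 := Nat.le_of_dvd (by have := hp.two_le; omega) h2e
      have hjle : j ≤ 1 := by
        by_contra h
        have hj2 : 2 ≤ j := by omega
        have h5 : p ^ 2 ≤ p ^ j := Nat.pow_le_pow_right hp.pos hj2
        have h6 : H₁.relIndex K ≤ 4 * K.index ^ 2 + 1 := by omega
        rw [hj] at h6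
        have hp2 := hp.two_le
        have h7 : p ^ 2 ≤ 4 * K.index ^ 2 + 1 := le_trans h5 h6
        have h8 : 2 * K.index + 1 ≤ p := by omega
        have h9 : 0 < K.index := Nat.pos_of_ne_zero Subgroup.index_ne_zero_of_finite
        have h10 : (2 * K.index + 1) ^ 2 ≤ p ^ 2 := Nat.pow_le_pow_left h8 2
        nlinarith
      have hj' : j = 1 := by omega
      rw [hj', pow_one] at hj
      rw [hH₁] at hj
      exact commutator_le_of_relIndex_prime K M hMK hnil p hp hj

end Cfsg.Agent.S1521
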