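import Cfsg.Statements.S0013
import Cfsg.Agent.Lib.Helper96.ElemAb

set_option autoImplicit false
open Cfsg

namespace Cfsg.Agent.S0013

open Cfsg.Agent.Lib.Helper96

/-- In a finite p-group the Frattini subgroup is the smallest normal subgroup with elementary abelian quotient: it lies below any normal subgroup containing all commutators and all p-th powers. -/
theorem result {G : Type*} [Group G] [Finite G] (p : ℕ) [Fact p.Prime]
    (hG : IsPGroup p G) (N : Subgroup G) [N.Normal] (hcomm : commutator G ≤ N) (hpow : ∀ x : G, x ^ p ∈ N) :
    frattini G ≤ N := by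
  have hc : IsMulCommutative (G ⧸ N) :=
    Subgroup.Normal.quotient_commutative_iff_commutator_le.mpr hcomm
  have hcomm' : ∀ a b : G ⧸ N, a * b = b * a := fun a b => hc.is_comm.comm a b
  have hexp' : ∀ x : G ⧸ N, x ^ p = 1 := by
    intro x
    induction x using QuotientGroup.induction_on with
    | H g =>
      rw [← QuotientGroup.mk_pow, QuotientGroup.eq_one_iff]
      exact hpow g
  have hbot := frattini_eq_bot_of_elemAb p hcomm' hexp'
  have h1 := frattini_le_comap_frattini_of_surjective (QuotientGroup.mk'_surjective N)
  rw [hbot] at h1
  intro x hx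
  have := h1 hx
  rwa [Subgroup.mem_comap, Subgroup.mem_bot, QuotientGroup.mk'_apply, QuotientGroup.eq_one_iff] at this

end Cfsg.Agent.S0013
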