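import Cfsg.Statements.S0093
import Cfsg.Agent.S0013
import Cfsg.Agent.S0015

set_option autoImplicit false
open Cfsg

namespace Cfsg.Agent.S0093

open scoped commutatorElement

/-- the subgroup of central elements of order dividing `p` -/
def omegaCenter (p : ℕ) (Q : Type*) [Group Q] : Subgroup Q where
  carrier := {z | z ∈ Subgroup.center Q ∧ z ^ p = 1}
  one_mem' := ⟨Subgroup.one_mem _, one_pow _⟩
  mul_mem' := by
    rintro a b ⟨ha, ha'⟩ ⟨hb, hb'⟩
    refine ⟨Subgroup.mul_mem _ ha hb, ?_⟩
    have hc : Commute a b := (Subgroup.mem_center_iff.mp ha b).symm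
    rw [hc.mul_pow, ha', hb', one_mul]
  inv_mem' := by
    rintro a ⟨ha, ha'⟩
    exact ⟨Subgroup.inv_mem _ ha, by rw [inv_pow, ha', inv_one]⟩

theorem mem_omegaCenter {p : ℕ} {Q : Type*} [Group Q] (z : Q) :
    z ∈ omegaCenter p Q ↔ z ∈ Subgroup.center Q ∧ z ^ p = 1 := Iff.rfl

theorem omegaCenter_map_equiv {p : ℕ} {Q : Type*} [Group Q] (ψ : Q ≃* Q) {z : Q}
    (hz : z ∈ omegaCenter p Q) : ψ z ∈ omegaCenter p Q := by
  refine ⟨?_, ?_⟩
  · have hchar : (Subgroup.center Q).Characteristic := inferInstance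
    exact Subgroup.characteristic_iff_le_comap.mp hchar ψ hz.1
  · rw [← map_pow, hz.2, map_one]

section crit
variable {P : Type*} [Group P] (p : ℕ) (M : Subgroup P) [hMc : M.Characteristic]

/-- the critical subgroup attached to a characteristic subgroup `M` -/
def crit : Subgroup P :=
  Subgroup.centralizer (M : Set P) ⊓ (omegaCenter p (P ⧸ M)).comap (QuotientGroup.mk' M)

theorem mem_crit (x : P) : x ∈ crit p M ↔ x ∈ Subgroup.centralizer (M : Set P) ∧
    (QuotientGroup.mk' M x ∈ Subgroup.center (P ⧸ M) ∧ (QuotientGroup.mk' M x) ^ p = 1) := Iff.rfl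

theorem crit_characteristic : (crit p M).Characteristic := by
  rw [Subgroup.characteristic_iff_le_comap]
  intro φ x hx
  rw [Subgroup.mem_comap]
  have hx1 : x ∈ Subgroup.centralizer (M : Set P) := hx.1
  have hx2 : QuotientGroup.mk' M x ∈ omegaCenter p (P ⧸ M) := hx.2
  have hchar : (Subgroup.centralizer (M : Set P)).Characteristic := inferInstance
  have hM : M.map (φ : P →* P) = M := Subgroup.characteristic_iff_map_eq.mp hMc φ
  have h1 := omegaCenter_map_equiv (QuotientGroup.congr M M φ hM) hx2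
  exact Subgroup.mem_inf.mpr ⟨Subgroup.characteristic_iff_le_comap.mp hchar φ hx1, h1⟩

theorem crit_le_centralizer : crit p M ≤ Subgroup.centralizer (M : Set P) := inf_le_left

theorem le_crit (hab : ∀ a ∈ M, ∀ b ∈ M, a * b = b * a) : M ≤ crit p M := by
  intro m hm
  rw [mem_crit]
  have h1 : QuotientGroup.mk' M m = 1 := (QuotientGroup.eq_one_iff m).mpr hm
  refine ⟨?_, ?_, ?_⟩
  · rw [Subgroup.mem_centralizer_iff]
    intro a ha
    exact hab a ha m hm
  · rw [h1]
    exact Subgroup.one_mem _
  · rw [h1, one_pow]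

theorem le_centralizer_crit : M ≤ Subgroup.centralizer (crit p M : Set P) := by
  intro m hm
  rw [Subgroup.mem_centralizer_iff]
  intro x hx
  exact (Subgroup.mem_centralizer_iff.mp hx.1 m hm).symm

theorem commutator_crit_le : ⁅crit p M, (⊤ : Subgroup P)⁆ ≤ M := by
  rw [Subgroup.commutator_le]
  intro x hx g _
  rw [← QuotientGroup.eq_one_iff, commutatorElement_def]
  have h1 : (QuotientGroup.mk' M x) ∈ Subgroup.center (P ⧸ M) := hx.2.1
  have h2 := Subgroup.mem_center_iff.mp h1 (QuotientGroup.mk' M g)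
  show QuotientGroup.mk' M (x * g * x⁻¹ * g⁻¹) = 1
  rw [map_mul, map_mul, map_mul, map_inv, map_inv, ← h2]
  group

theorem pow_mem_of_mem_crit {x : P} (hx : x ∈ crit p M) : x ^ p ∈ M := by
  rw [← QuotientGroup.eq_one_iff]
  have := hx.2.2
  show QuotientGroup.mk' M (x ^ p) = 1
  rw [map_pow]; exact this

end crit

section main
variable {P : Type*} [Group P] [Finite P] {p : ℕ} [Fact p.Prime]

theorem exists_order_p {Q : Type*} [Group Q] (p : ℕ) (z : Q) (hz : z ≠ 1) :
    ∀ k : ℕ, z ^ (p ^ k) = 1 → ∃ j : ℕ, z ^ (p ^ j) ≠ 1 ∧ (z ^ (p ^ j)) ^ p = 1 := by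
  intro k
  induction k with
  | zero =>
    intro h
    rw [pow_zero, pow_one] at h
    exact absurd h hz
  | succ k ih =>
    intro h
    by_cases hk : z ^ (p ^ k) = 1
    · exact ih hk
    · refine ⟨k, hk, ?_⟩
      rw [← pow_mul, ← pow_succ]
      exact h

theorem inf_centralizer_characteristic (C : Subgroup P) [hC : C.Characteristic] :
    (C ⊓ Subgroup.centralizer (C : Set P)).Characteristic := by
  rw [Subgroup.characteristic_iff_le_comap]
  intro φ x hx
  have hchar : (Subgroup.centralizer (C : Set P)).Characteristic := inferInstance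
  exact Subgroup.mem_inf.mpr ⟨Subgroup.characteristic_iff_le_comap.mp hC φ hx.1,
    Subgroup.characteristic_iff_le_comap.mp hchar φ hx.2⟩

theorem main (hP : IsPGroup p P) (M : Subgroup P) [hMc : M.Characteristic]
    (hab : ∀ a ∈ M, ∀ b ∈ M, a * b = b * a)
    (hmax : ∀ M' : Subgroup P, M'.Characteristic → (∀ a ∈ M', ∀ b ∈ M', a * b = b * a) →
      M ≤ M' → M' ≤ M) :
    (crit p M ⊓ Subgroup.centralizer (crit p M : Set P) = M) ∧
      Subgroup.centralizer (crit p M : Set P) ≤ crit p M := by
  haveI := crit_characteristic p M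
  have hZ : crit p M ⊓ Subgroup.centralizer (crit p M : Set P) = M := by
    apply le_antisymm
    · apply hmax
      · exact inf_centralizer_characteristic (crit p M)
      · rintro a ⟨ha1, _⟩ b ⟨_, hb2⟩
        exact Subgroup.mem_centralizer_iff.mp hb2 a ha1
      · exact le_inf (le_crit p M hab) (le_centralizer_crit p M)
    · exact le_inf (le_crit p M hab) (le_centralizer_crit p M)
  refine ⟨hZ, ?_⟩
  by_contra hQ
  have hQH : Subgroup.centralizer (crit p M : Set P) ≤ Subgroup.centralizer (M : Set P) :=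
    Subgroup.centralizer_le (le_crit p M hab)
  have hQn : (Subgroup.centralizer (crit p M : Set P)).Normal := inferInstance
  have hmapn : ((Subgroup.centralizer (crit p M : Set P)).map (QuotientGroup.mk' M)).Normal :=
    hQn.map _ (QuotientGroup.mk'_surjective M)
  have hmapne : (Subgroup.centralizer (crit p M : Set P)).map (QuotientGroup.mk' M) ≠ ⊥ := by
    intro h
    apply hQ
    rw [Subgroup.map_eq_bot_iff, QuotientGroup.ker_mk'] at h
    exact h.trans (le_crit p M hab)
  haveI : Group.IsNilpotent (P ⧸ M) := (hP.to_quotient M).isNilpotent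
  obtain ⟨z, hzQ, hzc, hz1⟩ := Cfsg.Agent.S0015.exists_mem_center_of_normal _ hmapne
  obtain ⟨k, hk⟩ := (hP.to_quotient M) z
  obtain ⟨j, hj1, hjp⟩ := exists_order_p p z hz1 k hk
  have hzQ' : z ^ (p ^ j) ∈ (Subgroup.centralizer (crit p M : Set P)).map (QuotientGroup.mk' M) :=
    Subgroup.pow_mem _ hzQ _
  have hzc' : z ^ (p ^ j) ∈ Subgroup.center (P ⧸ M) := Subgroup.pow_mem _ hzc _
  obtain ⟨x, hxQ, hxz⟩ := hzQ'
  have hxC : x ∈ crit p M := by
    rw [mem_crit]
    refine ⟨hQH hxQ, ?_, ?_⟩
    · rw [hxz]; exact hzc'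
    · rw [hxz]; exact hjp
  have hxM : x ∈ M := by
    rw [← hZ]
    exact Subgroup.mem_inf.mpr ⟨hxC, hxQ⟩
  apply hj1
  rw [← hxz]
  exact (QuotientGroup.eq_one_iff x).mpr hxM

end main

/-- Every finite p-group has a critical subgroup: a characteristic subgroup H whose Frattini subgroup and whose commutator with the whole group lie in the centre of H, and whose centralizer is contained in H. -/
theorem result {P : Type*} [Group P] [Finite P] {p : ℕ} [Fact p.Prime] (hP : IsPGroup p P) : ∃ H : Subgroup P, H.Characteristic ∧ (frattini H).map H.subtype ≤ Subgroup.centralizer (H : Set P) ∧ ⁅H, (⊤ : Subgroup P)⁆ ≤ H ⊓ Subgroup.centralizer (H : Set P) ∧ Subgroup.centralizer (H : Set P) ≤ H := by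
  classical
  have hfin : {M : Subgroup P | M.Characteristic ∧ ∀ a ∈ M, ∀ b ∈ M, a * b = b * a}.Finite :=
    Set.toFinite _
  have hne : {M : Subgroup P | M.Characteristic ∧ ∀ a ∈ M, ∀ b ∈ M, a * b = b * a}.Nonempty := by
    refine ⟨⊥, Subgroup.botCharacteristic, ?_⟩
    intro a ha b hb
    rw [Subgroup.mem_bot] at ha hb
    rw [ha, hb]
  obtain ⟨M, ⟨hMc, hab⟩, hmax⟩ := hfin.exists_maximal hne
  haveI := hMc
  obtain ⟨hZ, hC⟩ := main hP M hab (fun M' h1 h2 h3 => hmax ⟨h1, h2⟩ h3)
  refine ⟨crit p M, crit_characteristic p M, ?_, ?_, hC⟩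
  · have h1 : frattini ↥(crit p M) ≤ M.subgroupOf (crit p M) := by
      apply Cfsg.Agent.S0013.result p (hP.to_subgroup _)
      · rw [commutator_def, Subgroup.commutator_le]
        intro x _ y _
        rw [Subgroup.mem_subgroupOf]
        have := commutator_crit_le p M
          (Subgroup.commutator_mem_commutator x.2 (Subgroup.mem_top (y : P)))
        have h2 : ((⁅x, y⁆ : ↥(crit p M)) : P) = ⁅(x : P), (y : P)⁆ := by
          simp [commutatorElement_def]
        rw [h2]
        exact this
      · intro x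
        rw [Subgroup.mem_subgroupOf]
        simpa using pow_mem_of_mem_crit p M x.2
    calc (frattini ↥(crit p M)).map (crit p M).subtype
        ≤ (M.subgroupOf (crit p M)).map (crit p M).subtype := Subgroup.map_mono h1
      _ ≤ M := by rw [Subgroup.subgroupOf_map_subtype]; exact inf_le_left
      _ ≤ Subgroup.centralizer (crit p M : Set P) := le_centralizer_crit p M
  · rw [hZ]; exact commutator_crit_le p M

end Cfsg.Agent.S0093
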