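import Cfsg.Statements.S0121
-- import your own Cfsg.Agent.* helpers here

set_option autoImplicit false
open Cfsg
open scoped commutatorElement

namespace Cfsg.Agent.S0121

/-- A p'-automorphism of a p-group acting trivially on a critical subgroup is trivial. -/
theorem result {G : Type*} [Group G] [Finite G] {p : ℕ} [Fact p.Prime] (hG : IsPGroup p G) (H : Subgroup G) (hH : H.Characteristic) (h1 : (frattini H).map H.subtype ≤ Subgroup.centralizer (H : Set G)) (h2 : ⁅H, (⊤ : Subgroup G)⁆ ≤ H ⊓ Subgroup.centralizer (H : Set G)) (h3 : Subgroup.centralizer (H : Set G) ≤ H) (a : MulAut G) (ha : Nat.Coprime (orderOf a) p) (h : ∀ x ∈ H, a x = x) : a = 1 := by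
  ext g
  simp only [MulAut.one_apply]
  -- c = g⁻¹ * a g centralizes H
  have hc : ∀ g : G, g⁻¹ * a g ∈ Subgroup.centralizer (H : Set G) := by
    intro g
    rw [Subgroup.mem_centralizer_iff]
    intro k hk
    have hk' : k⁻¹ ∈ H := H.inv_mem hk
    have hcomm : ⁅k⁻¹, g⁆ ∈ H := by
      have : ⁅k⁻¹, g⁆ ∈ ⁅H, (⊤ : Subgroup G)⁆ :=
        Subgroup.commutator_mem_commutator hk' (Subgroup.mem_top g)
      exact (h2 this).1
    have hfix := h _ hcomm
    rw [commutatorElement_def] at hfix
    simp only [map_mul, map_inv, h _ hk'] at hfix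
    -- hfix : k⁻¹ * a g * k⁻¹⁻¹ * (a g)⁻¹ = k⁻¹ * g * k⁻¹⁻¹ * g⁻¹
    simp only [inv_inv] at hfix
    have e1 : a g * k * (a g)⁻¹ = g * k * g⁻¹ := by
      have := congrArg (fun t => k * t) hfix
      simpa [mul_assoc] using this
    -- k * (g⁻¹ * a g) = g⁻¹ * a g * k
    have e2 : g⁻¹ * (a g * k * (a g)⁻¹) * a g = g⁻¹ * (g * k * g⁻¹) * a g := by rw [e1]
    simp only [mul_assoc, inv_mul_cancel, mul_one, inv_mul_cancel_left] at e2
    simpa [mul_assoc] using e2.symm
  have hcH : ∀ g : G, g⁻¹ * a g ∈ H := fun g => h3 (hc g)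
  set c := g⁻¹ * a g with hcdef
  have hac : a c = c := h c (hcH g)
  have hag : a g = g * c := by simp [hcdef]
  have hpow : ∀ k : ℕ, (a ^ k) g = g * c ^ k := by
    intro k
    induction k with
    | zero => simp
    | succ k ih =>
      rw [pow_succ', MulAut.mul_apply, ih, map_mul, map_pow, hac, hag, mul_assoc, ← pow_succ']
  have hck : c ^ orderOf a = 1 := by
    have := hpow (orderOf a)
    rw [pow_orderOf_eq_one, MulAut.one_apply] at this
    exact mul_left_cancel (a := g) (by rw [← this, mul_one])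
  obtain ⟨j, hj⟩ := hG c
  have hc1 : c = 1 := by
    have hd1 : orderOf c ∣ orderOf a := orderOf_dvd_of_pow_eq_one hck
    have hd2 : orderOf c ∣ p ^ j := orderOf_dvd_of_pow_eq_one hj
    have hcop : Nat.Coprime (orderOf a) (p ^ j) := Nat.Coprime.pow_right j ha
    have : orderOf c ∣ 1 := by
      have := Nat.dvd_gcd hd1 hd2
      rwa [hcop] at this
    exact orderOf_eq_one_iff.mp (Nat.dvd_one.mp this)
  rw [hag, hc1, mul_one]

end Cfsg.Agent.S0121
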