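import Mathlib
import Cfsg.Statements.S3986

set_option autoImplicit false
open Cfsg

namespace Cfsg.Agent.S3986

/-- A subgroup containing a Sylow `q`-subgroup for every prime `q` is the whole group. -/
theorem eq_top_of_forall_sylow_le {G : Type*} [Group G] [Finite G] (C : Subgroup G)
    (h : ∀ (q : ℕ) [Fact q.Prime], ∃ S : Sylow q G, (S : Subgroup G) ≤ C) : C = ⊤ := by
  apply Subgroup.eq_top_of_card_eq
  apply Nat.dvd_antisymm (Subgroup.card_subgroup_dvd_card C)
  rw [Nat.dvd_iff_prime_pow_dvd_dvd]
  intro q k hq hk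
  have : Fact q.Prime := ⟨hq⟩
  obtain ⟨S, hS⟩ := h q
  have h1 : q ^ k ∣ Nat.card (S : Subgroup G) := by
    rw [Sylow.card_eq_multiplicity]
    apply pow_dvd_pow
    exact (hq.pow_dvd_iff_le_factorization Nat.card_pos.ne').1 hk
  exact h1.trans (Subgroup.card_dvd_of_le hS)

/-- A subgroup containing every element of prime power order is the whole group. -/
theorem eq_top_of_forall_primePow_mem {G : Type*} [Group G] [Finite G] (C : Subgroup G)
    (h : ∀ (q : ℕ) (k : ℕ) (g : G), q.Prime → orderOf g = q ^ k → g ∈ C) : C = ⊤ := by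
  apply eq_top_of_forall_sylow_le
  intro q hq
  obtain ⟨S⟩ : Nonempty (Sylow q G) := inferInstance
  refine ⟨S, fun g hg => ?_⟩
  obtain ⟨k, hk⟩ := (IsPGroup.iff_orderOf.1 S.isPGroup') ⟨g, hg⟩
  rw [Subgroup.orderOf_mk] at hk
  exact h q k g hq.out hk

/-- In a finite group with a normal Sylow `p`-subgroup `P`, the elements of `p`-power order are
exactly those of `P`. -/
theorem mem_sylow_of_normal {G : Type*} [Group G] [Finite G] (p : ℕ) [Fact p.Prime]
    (P : Sylow p G) (hP : (P : Subgroup G).Normal) (g : G) (k : ℕ) (hk : orderOf g = p ^ k) :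
    g ∈ (P : Subgroup G) := by
  have hz : IsPGroup p (Subgroup.zpowers g) := by
    apply IsPGroup.of_card (n := k)
    rw [Nat.card_zpowers, hk]
  obtain ⟨Q, hQ⟩ := hz.exists_le_sylow
  have := Sylow.unique_of_normal P hP
  have : Q = P := Subsingleton.elim _ _
  rw [← this]
  exact hQ (Subgroup.mem_zpowers g)

/-- If every `p`-element commutes with every `q`-element (`q ≠ p`), then every `p`-element commutes
with every element of order prime to `p`. -/
theorem commute_of_coprime {G : Type*} [Group G] [Finite G] (p : ℕ) [Fact p.Prime]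
    (hcomm : ∀ x y : G, (∃ a : ℕ, orderOf x = p ^ a) →
      (∃ q b : ℕ, q.Prime ∧ q ≠ p ∧ orderOf y = q ^ b) → x * y = y * x)
    (x h : G) (hx : ∃ a : ℕ, orderOf x = p ^ a) (hh : (orderOf h).Coprime p) : x * h = h * x := by
  -- work in Z = zpowers h with C = centralizer of x
  let Z := Subgroup.zpowers h
  let C : Subgroup Z := (Subgroup.centralizer ({x} : Set G)).subgroupOf Z
  have hC : C = ⊤ := by
    apply eq_top_of_forall_primePow_mem
    intro q k z hq hz
    rw [Subgroup.mem_subgroupOf, Subgroup.mem_centralizer_iff]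
    intro w hw
    rw [Set.mem_singleton_iff] at hw
    subst hw
    have hz' : orderOf (z : G) = q ^ k := by rw [Subgroup.orderOf_coe]; exact hz
    by_cases hqp : q = p
    · -- order of z divides orderOf h, coprime to p
      have hdvd : orderOf (z : G) ∣ orderOf h := by
        have := orderOf_dvd_natCard z
        rw [Nat.card_zpowers] at this
        rw [Subgroup.orderOf_coe]; exact this
      rw [hz', hqp] at hdvd
      have h1 : p ^ k = 1 := by
        have := Nat.Coprime.coprime_dvd_left hdvd hh
        have h2 : (p ^ k).Coprime (p ^ k) := by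
          cases k with
          | zero => simp
          | succ k =>
            exact Nat.Coprime.pow_right _ this
        exact (Nat.coprime_self _).1 h2
      have : (z : G) = 1 := by
        rw [← orderOf_eq_one_iff, hz', hqp, h1]
      rw [this]; simp
    · exact hcomm w z hx ⟨q, k, hq, hqp, hz'⟩
  have : (⟨h, Subgroup.mem_zpowers h⟩ : Z) ∈ C := by rw [hC]; trivial
  rw [Subgroup.mem_subgroupOf, Subgroup.mem_centralizer_iff] at this
  exact this x rfl

theorem forward {G : Type*} [Group G] [Finite G] (p : ℕ) [Fact p.Prime]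
    (P : Sylow p G) (K : Subgroup G) (hP : (P : Subgroup G).Normal) (hK : K.Normal)
    (hPK : (P : Subgroup G) ⊓ K = ⊥) (hsup : (P : Subgroup G) ⊔ K = ⊤)
    (x y : G) (hx : ∃ a : ℕ, orderOf x = p ^ a)
    (hy : ∃ q b : ℕ, q.Prime ∧ q ≠ p ∧ orderOf y = q ^ b) :
    x ∈ (P : Subgroup G) ∧ y ∈ K ∧ x * y = y * x := by
  obtain ⟨a, ha⟩ := hx
  obtain ⟨q, b, hq, hqp, hb⟩ := hy
  have hxP : x ∈ (P : Subgroup G) := mem_sylow_of_normal p P hP x a ha
  have hdisj : Disjoint (P : Subgroup G) K := disjoint_iff.2 hPK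
  have hcompl : Subgroup.IsComplement' (P : Subgroup G) K := by
    apply Subgroup.isComplement'_of_disjoint_and_mul_eq_univ hdisj
    rw [← Subgroup.normal_mul, hsup]; rfl
  -- index of K is |P|
  have hidx : K.index = Nat.card (P : Subgroup G) := hcompl.index_eq_card
  have hyK : y ∈ K := by
    rw [← QuotientGroup.eq_one_iff]
    have h1 : orderOf (QuotientGroup.mk' K y) ∣ q ^ b := by
      rw [← hb]; exact orderOf_map_dvd _ y
    have h2 : orderOf (QuotientGroup.mk' K y) ∣ Nat.card (P : Subgroup G) := by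
      rw [← hidx, Subgroup.index]
      exact orderOf_dvd_natCard _
    obtain ⟨n, hn⟩ := IsPGroup.iff_card.1 P.isPGroup'
    rw [hn] at h2
    have hcop : Nat.Coprime (q ^ b) (p ^ n) := by
      apply Nat.Coprime.pow
      exact (Nat.coprime_primes hq (Fact.out)).2 hqp
    have := Nat.eq_one_of_dvd_coprimes hcop h1 h2
    rw [orderOf_eq_one_iff] at this
    exact this
  refine ⟨hxP, hyK, ?_⟩
  exact (Subgroup.commute_of_normal_of_disjoint _ _ hP hK hdisj x y hxP hyK)

theorem backward {G : Type*} [Group G] [Finite G] (p : ℕ) [Fact p.Prime]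
    (hcomm : ∀ x y : G, (∃ a : ℕ, orderOf x = p ^ a) →
      (∃ q b : ℕ, q.Prime ∧ q ≠ p ∧ orderOf y = q ^ b) → x * y = y * x) :
    ∃ (P : Sylow p G) (K : Subgroup G), (P : Subgroup G).Normal ∧ K.Normal ∧
      (P : Subgroup G) ⊓ K = ⊥ ∧ (P : Subgroup G) ⊔ K = ⊤ := by
  obtain ⟨P⟩ : Nonempty (Sylow p G) := inferInstance
  have hPorder : ∀ x ∈ (P : Subgroup G), ∃ a : ℕ, orderOf x = p ^ a := by
    intro x hx
    obtain ⟨k, hk⟩ := (IsPGroup.iff_orderOf.1 P.isPGroup') ⟨x, hx⟩
    rw [Subgroup.orderOf_mk] at hk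
    exact ⟨k, hk⟩
  -- normalizer of P is everything
  have hN : Subgroup.normalizer ((P : Subgroup G) : Set G) = ⊤ := by
    apply eq_top_of_forall_sylow_le
    intro q hq
    by_cases hqp : q = p
    · subst hqp
      exact ⟨P, Subgroup.le_normalizer⟩
    · obtain ⟨S⟩ : Nonempty (Sylow q G) := inferInstance
      refine ⟨S, fun s hs => ?_⟩
      have hs' : ∃ b : ℕ, orderOf s = q ^ b := by
        obtain ⟨k, hk⟩ := (IsPGroup.iff_orderOf.1 S.isPGroup') ⟨s, hs⟩
        rw [Subgroup.orderOf_mk] at hk
        exact ⟨k, hk⟩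
      obtain ⟨b, hb⟩ := hs'
      have hcen : s ∈ Subgroup.centralizer ((P : Subgroup G) : Set G) := by
        rw [Subgroup.mem_centralizer_iff]
        intro x hx
        exact hcomm x s (hPorder x hx) ⟨q, b, hq.out, hqp, hb⟩
      exact Subgroup.centralizer_le_normalizer _ hcen
  have hPn : (P : Subgroup G).Normal := Subgroup.normalizer_eq_top_iff.1 hN
  -- complement
  obtain ⟨H, hH⟩ := Subgroup.exists_right_complement'_of_coprime (N := (P : Subgroup G))
    (P.card_coprime_index)
  have hHcard : Nat.card H = (P : Subgroup G).index := by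
    have := hH.index_eq_card
    have h2 := hH.symm.index_eq_card
    exact h2.symm
  -- H centralizes P
  have hHP : ∀ x ∈ (P : Subgroup G), ∀ h ∈ H, x * h = h * x := by
    intro x hx h hh
    apply commute_of_coprime p hcomm x h (hPorder x hx)
    have h1 : orderOf h ∣ (P : Subgroup G).index := by
      rw [← hHcard]
      have := orderOf_dvd_natCard (⟨h, hh⟩ : H)
      rwa [Subgroup.orderOf_mk] at this
    have h2 : ((P : Subgroup G).index).Coprime p := by
      have h3 := P.card_coprime_index
      obtain ⟨n, hn⟩ := IsPGroup.iff_card.1 P.isPGroup'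
      by_cases hn0 : n = 0
      · -- P trivial: p does not divide card G
        have hnd : ¬ p ∣ (P : Subgroup G).index := P.not_dvd_index
        exact ((Nat.Prime.coprime_iff_not_dvd Fact.out).2 hnd).symm
      · have hnd : ¬ p ∣ (P : Subgroup G).index := P.not_dvd_index
        exact ((Nat.Prime.coprime_iff_not_dvd Fact.out).2 hnd).symm
    exact Nat.Coprime.coprime_dvd_left h1 h2
  have hHn : H.Normal := by
    rw [← Subgroup.normalizer_eq_top_iff, eq_top_iff, ← hH.sup_eq_top, sup_le_iff]
    refine ⟨?_, Subgroup.le_normalizer⟩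
    intro x hx
    apply Subgroup.centralizer_le_normalizer
    rw [Subgroup.mem_centralizer_iff]
    intro h hh
    exact (hHP x hx h hh).symm
  exact ⟨P, H, hPn, hHn, disjoint_iff.1 hH.disjoint, hH.sup_eq_top⟩

/-- Let p be a prime and G a finite group. Then some Sylow p-subgroup of G is a direct factor of G (it is normal and has a normal complement) if and only if every element of p-power order commutes with every element whose order is a power of a prime other than p. -/
theorem result {G : Type*} [Group G] [Finite G] (p : ℕ) [Fact p.Prime] : (∃ (P : Sylow p G) (K : Subgroup G), (P : Subgroup G).Normal ∧ K.Normal ∧ (P : Subgroup G) ⊓ K = ⊥ ∧ (P : Subgroup G) ⊔ K = ⊤) ↔ ∀ x y : G, (∃ a : ℕ, orderOf x = p ^ a) → (∃ q b : ℕ, q.Prime ∧ q ≠ p ∧ orderOf y = q ^ b) → x * y = y * x := by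
  constructor
  · rintro ⟨P, K, hP, hK, hPK, hsup⟩ x y hx hy
    exact (forward p P K hP hK hPK hsup x y hx hy).2.2
  · exact backward p

end Cfsg.Agent.S3986
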