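import Cfsg.Statements.S4160
import Cfsg.Agent.Lib.Helper2.Burnside
import Cfsg.Agent.Lib.Helper34.SylowConj

set_option autoImplicit false
open Cfsg

namespace Cfsg.Agent.S4160

variable {G : Type*} [Group G]

theorem ncard_cover_le [Finite G] (C N : Subgroup G)
    (hCN : ∀ n ∈ N, ∀ c ∈ C, n * c * n⁻¹ ∈ C) :
    ({x : G | x ≠ 1 ∧ ∃ g c, c ∈ C ∧ x = g * c * g⁻¹} : Set G).ncard ≤
      N.index * (Nat.card C - 1) := by
  classical
  let f : (G ⧸ N) × G → G := fun qc => qc.1.out * qc.2 * qc.1.out⁻¹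
  have hsub : {x : G | x ≠ 1 ∧ ∃ g c, c ∈ C ∧ x = g * c * g⁻¹} ⊆
      f '' ((Set.univ : Set (G ⧸ N)) ×ˢ ((C : Set G) \ {1})) := by
    rintro x ⟨hx1, g, c, hc, rfl⟩
    set q : G ⧸ N := (g : G ⧸ N) with hq
    have hn : q.out⁻¹ * g ∈ N := by
      rw [← QuotientGroup.eq]; exact QuotientGroup.out_eq' q
    set n := q.out⁻¹ * g with hndef
    refine ⟨(q, n * c * n⁻¹), ⟨Set.mem_univ _, hCN n hn c hc, ?_⟩, ?_⟩
    · intro h1
      rw [Set.mem_singleton_iff] at h1
      have h1 : n * c * n⁻¹ = 1 := h1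
      apply hx1
      have : c = 1 := by
        calc c = n⁻¹ * (n * c * n⁻¹) * n := by group
          _ = 1 := by rw [h1]; group
      rw [this]; group
    · show q.out * (n * c * n⁻¹) * q.out⁻¹ = g * c * g⁻¹
      rw [hndef]; group
  calc _ ≤ (f '' ((Set.univ : Set (G ⧸ N)) ×ˢ ((C : Set G) \ {1}))).ncard :=
        Set.ncard_le_ncard hsub (Set.toFinite _)
    _ ≤ ((Set.univ : Set (G ⧸ N)) ×ˢ ((C : Set G) \ {1})).ncard :=
        Set.ncard_image_le (Set.toFinite _)
    _ = N.index * (Nat.card C - 1) := by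
      rw [Set.ncard_prod, Set.ncard_univ, ← Subgroup.index_eq_card,
        Set.ncard_sdiff_singleton_of_mem (show (1 : G) ∈ (C : Set G) from C.one_mem)]
      congr 2


theorem exists_conj_mem_centralizer [Finite G] {p : ℕ} [Fact p.Prime] (P : Sylow p G) (x : G)
    (hx : ¬ p ∣ (Subgroup.centralizer ({x} : Set G)).index) :
    ∃ g c : G, c ∈ Subgroup.centralizer ((P : Subgroup G) : Set G) ∧ x = g * c * g⁻¹ := by
  have hp : p.Prime := Fact.out
  set H := Subgroup.centralizer ({x} : Set G) with hH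
  obtain ⟨S⟩ : Nonempty (Sylow p H) := inferInstance
  have hfac : (Nat.card H).factorization p = (Nat.card G).factorization p := by
    rw [← H.card_mul_index,
      Nat.factorization_mul Nat.card_pos.ne' (Subgroup.index_ne_zero_of_finite)]
    simp only [Finsupp.coe_add, Pi.add_apply]
    rw [Nat.factorization_eq_zero_of_not_dvd hx, add_zero]
  have hcard : Nat.card ((S : Subgroup H).map H.subtype) = p ^ (Nat.card G).factorization p := by
    rw [Subgroup.card_map_of_injective H.subtype_injective, S.card_eq_multiplicity, hfac]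
  let P' : Sylow p G := Sylow.ofCard _ hcard
  obtain ⟨g, hg⟩ := MulAction.exists_smul_eq G P' P
  refine ⟨g⁻¹, g * x * g⁻¹, ?_, by group⟩
  rw [Subgroup.mem_centralizer_iff]
  intro u hu
  have hu' : g⁻¹ * u * g ∈ (P' : Subgroup G) := by
    rw [← Cfsg.Agent.Lib.Helper34.mem_sylow_smul_iff, hg]; exact hu
  have hu'' : g⁻¹ * u * g ∈ H := by
    obtain ⟨s, _, hs⟩ := hu'
    rw [← hs]; exact s.2
  rw [hH, Subgroup.mem_centralizer_singleton_iff] at hu''
  calc u * (g * x * g⁻¹) = g * ((g⁻¹ * u * g) * x) * g⁻¹ := by group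
    _ = g * (x * (g⁻¹ * u * g)) * g⁻¹ := by rw [hu'']
    _ = g * x * g⁻¹ * u := by group

theorem key [Finite G] (r : ℕ) [Fact r.Prime] (R : Sylow r G) (hnr : ¬ HasNormalPComplement r G) :
    2 * ({x : G | x ≠ 1 ∧ ∃ g c, c ∈ Subgroup.centralizer ((R : Subgroup G) : Set G) ∧
      x = g * c * g⁻¹} : Set G).ncard + 2 ≤ Nat.card G := by
  set C := Subgroup.centralizer ((R : Subgroup G) : Set G) with hC
  set N := Subgroup.normalizer ((R : Subgroup G) : Set G) with hN
  have hCN : ∀ n ∈ N, ∀ c ∈ C, n * c * n⁻¹ ∈ C := by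
    intro n hn c hc
    rw [hC, Subgroup.mem_centralizer_iff]
    intro u hu
    have hn' : n⁻¹ ∈ N := N.inv_mem hn
    have hu' : n⁻¹ * u * n⁻¹⁻¹ ∈ (R : Subgroup G) := (Subgroup.mem_normalizer_iff.mp hn' u).mp hu
    rw [inv_inv] at hu'
    have hcomm := (Subgroup.mem_centralizer_iff.mp hc) _ hu'
    calc u * (n * c * n⁻¹) = n * ((n⁻¹ * u * n) * c) * n⁻¹ := by group
      _ = n * (c * (n⁻¹ * u * n)) * n⁻¹ := by rw [hcomm]
      _ = n * c * n⁻¹ * u := by group
  have hle := ncard_cover_le C N hCN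
  have hNC : ¬ N ≤ C := fun h =>
    hnr (Cfsg.Agent.Lib.Helper2.hasNormalPComplement_of_normalizer_le_centralizer R h)
  have hCleN : C ≤ N := Subgroup.centralizer_le_normalizer _
  have h1 : Nat.card C * C.relIndex N = Nat.card N := by
    have := Subgroup.relIndex_mul_relIndex (H := (⊥ : Subgroup G)) (K := C) (L := N) bot_le hCleN
    rwa [Subgroup.relIndex_bot_left, Subgroup.relIndex_bot_left] at this
  have h2 : 2 ≤ C.relIndex N := by
    have h0 : C.relIndex N ≠ 0 := by
      intro h0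
      have := Subgroup.relIndex_dvd_card C N
      rw [h0, Nat.zero_dvd] at this
      exact Nat.card_pos.ne' this
    have h1' : C.relIndex N ≠ 1 := fun h => hNC (Subgroup.relIndex_eq_one.mp h)
    omega
  have h3 : Nat.card N * N.index = Nat.card G := N.card_mul_index
  have h4 : 1 ≤ N.index := Nat.one_le_iff_ne_zero.mpr Subgroup.index_ne_zero_of_finite
  have h5 : 1 ≤ Nat.card C := Nat.card_pos
  have h6 : 2 * Nat.card C ≤ Nat.card N := by
    rw [← h1]; nlinarith
  have h7 : N.index * (Nat.card C - 1) + N.index = N.index * Nat.card C := by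
    have : Nat.card C - 1 + 1 = Nat.card C := Nat.sub_add_cancel h5
    rw [← Nat.mul_succ, Nat.succ_eq_add_one, this]
  have h8 : 2 * (N.index * Nat.card C) ≤ Nat.card G := by
    rw [← h3]; nlinarith
  omega



/-- Let G be a finite group and p ≠ q primes each dividing the size of some conjugacy class of G, such that no conjugacy class size is divisible by pq. Then G has a normal p-complement or a normal q-complement. -/
theorem result {G : Type*} [Group G] [Finite G] (p q : ℕ) (hp : p.Prime) (hq : q.Prime) (hpq : p ≠ q)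
    (hp' : ∃ x : G, p ∣ (Subgroup.centralizer ({x} : Set G)).index) (hq' : ∃ x : G, q ∣ (Subgroup.centralizer ({x} : Set G)).index) (h : ∀ x : G, ¬ p * q ∣ (Subgroup.centralizer ({x} : Set G)).index) :
    Cfsg.HasNormalPComplement p G ∨ Cfsg.HasNormalPComplement q G := by
  haveI := Fact.mk hp
  haveI := Fact.mk hq
  by_contra hcon
  push Not at hcon
  obtain ⟨hnp, hnq⟩ := hcon
  obtain ⟨P⟩ : Nonempty (Sylow p G) := inferInstance
  obtain ⟨Q⟩ : Nonempty (Sylow q G) := inferInstance
  have kp := key p P hnp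
  have kq := key q Q hnq
  set A : Set G := {x : G | x ≠ 1 ∧ ∃ g c, c ∈ Subgroup.centralizer ((P : Subgroup G) : Set G) ∧
      x = g * c * g⁻¹} with hA
  set B : Set G := {x : G | x ≠ 1 ∧ ∃ g c, c ∈ Subgroup.centralizer ((Q : Subgroup G) : Set G) ∧
      x = g * c * g⁻¹} with hB
  have hcov : (Set.univ : Set G) \ {1} ⊆ A ∪ B := by
    rintro x ⟨-, hx1⟩
    have hx1' : x ≠ 1 := hx1
    have hx := h x
    by_cases hpx : p ∣ (Subgroup.centralizer ({x} : Set G)).index
    · have hqx : ¬ q ∣ (Subgroup.centralizer ({x} : Set G)).index := by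
        intro hqx
        exact hx (Nat.Coprime.mul_dvd_of_dvd_of_dvd ((Nat.coprime_primes hp hq).mpr hpq) hpx hqx)
      right
      exact ⟨hx1', exists_conj_mem_centralizer Q x hqx⟩
    · left
      exact ⟨hx1', exists_conj_mem_centralizer P x hpx⟩
  have h1 : ((Set.univ : Set G) \ {1}).ncard = Nat.card G - 1 := by
    rw [Set.ncard_sdiff_singleton_of_mem (Set.mem_univ _), Set.ncard_univ]
  have h2 : ((Set.univ : Set G) \ {1}).ncard ≤ A.ncard + B.ncard :=
    (Set.ncard_le_ncard hcov (Set.toFinite _)).trans (Set.ncard_union_le A B)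
  omega

end Cfsg.Agent.S4160
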