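import Cfsg.Statements.S4177
-- import your own Cfsg.Agent.* helpers here

set_option autoImplicit false
open Cfsg

namespace Cfsg.Agent.S4177



section action

variable {G X : Type*} [Group G] [Finite G] [MulAction G X]

/-- If the orbits of `a` and `b` have coprime sizes, the stabilizer of `b` is transitive on
the orbit of `a`. -/
theorem exists_mem_stabilizer_smul_eq (a b : X)
    (hcop : ((MulAction.orbit G a).ncard).Coprime ((MulAction.orbit G b).ncard))
    (u : X) (hu : u ∈ MulAction.orbit G a) :
    ∃ g ∈ MulAction.stabilizer G b, g • a = u := by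
  classical
  set A := MulAction.stabilizer G a with hA
  set K := MulAction.stabilizer G b with hK
  have hAi : A.index = (MulAction.orbit G a).ncard := MulAction.index_stabilizer G a
  have hKi : K.index = (MulAction.orbit G b).ncard := MulAction.index_stabilizer G b
  have hstab : MulAction.stabilizer K a = A.subgroupOf K := by
    ext x
    simp only [MulAction.mem_stabilizer_iff, Subgroup.mem_subgroupOf, hA]
    rfl
  have hKa : A.relIndex K = (MulAction.orbit K a).ncard := by
    rw [← MulAction.index_stabilizer K a, hstab]; rfl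
  have h1 : A.relIndex K * K.index = (A ⊓ K).index := by
    rw [← Subgroup.inf_relIndex_right, Subgroup.relIndex_mul_index inf_le_right]
  have h2 : K.relIndex A * A.index = (A ⊓ K).index := by
    rw [← Subgroup.inf_relIndex_right, inf_comm, Subgroup.relIndex_mul_index inf_le_left]
  have h3 : A.index ∣ A.relIndex K * K.index := by
    rw [h1, ← h2]; exact dvd_mul_left _ _
  have h4 : A.index ∣ A.relIndex K := by
    apply Nat.Coprime.dvd_of_dvd_mul_right _ h3
    rw [hAi, hKi]; exact hcop
  have hfin : (MulAction.orbit G a).Finite := Set.finite_range _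
  have hsub : MulAction.orbit K a ⊆ MulAction.orbit G a := MulAction.orbit_subgroup_subset K a
  have hpos : 0 < (MulAction.orbit K a).ncard := by
    rw [Set.ncard_pos (hfin.subset hsub)]
    exact MulAction.nonempty_orbit a
  have h5 : (MulAction.orbit G a).ncard ≤ (MulAction.orbit K a).ncard := by
    rw [← hAi, ← hKa]
    exact Nat.le_of_dvd (by rw [hKa]; exact hpos) h4
  have h6 : MulAction.orbit K a = MulAction.orbit G a :=
    Set.eq_of_subset_of_ncard_le hsub h5 hfin
  rw [← h6] at hu
  obtain ⟨⟨g, hg⟩, rfl⟩ := hu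
  exact ⟨g, hg, rfl⟩

end action



section rep

variable {k V H : Type*} [Field k] [AddCommGroup V] [Module k V] [Group H]

theorem sum_invariant (ρ : Representation k H V) (Ω : Finset V)
    (hΩ : ∀ g : H, ∀ u ∈ Ω, ρ g u ∈ Ω) (g : H) : ρ g (∑ u ∈ Ω, u) = ∑ u ∈ Ω, u := by
  rw [map_sum]
  exact Finset.sum_nbij' (fun u => ρ g u) (fun u => ρ g⁻¹ u) (fun u hu => hΩ g u hu)
    (fun u hu => hΩ g⁻¹ u hu) (fun u _ => by simp) (fun u _ => by simp) (fun u _ => rfl)

theorem invariant_mem_span_sum [Fintype H] (ρ : Representation k H V)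
    (hH : (Fintype.card H : k) ≠ 0)
    (a : V) (Ω : Finset V)
    (hΩ : ∀ u, u ∈ Ω ↔ ∃ h : H, ρ h a = u)
    (hcard : (Ω.card : k) ≠ 0)
    (hspan : Submodule.span k (Ω : Set V) = ⊤) (v : V) (hv : ∀ h, ρ h v = v) :
    v ∈ Submodule.span k {∑ u ∈ Ω, u} := by
  classical
  set T : V →ₗ[k] V := ∑ h : H, ρ h with hT
  set s := ∑ u ∈ Ω, u with hs
  have hTapp : ∀ w, T w = ∑ h : H, ρ h w := fun w => by simp [hT, LinearMap.sum_apply]
  have hTg : ∀ (g : H) (w : V), T (ρ g w) = T w := by
    intro g w
    rw [hTapp, hTapp]
    exact Fintype.sum_equiv (Equiv.mulRight g) _ _ (fun h => by simp [map_mul])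
  have hTu : ∀ u ∈ Ω, T u = T a := by
    intro u hu
    obtain ⟨h, rfl⟩ := (hΩ u).mp hu
    exact hTg h a
  have hsinv : ∀ g, ρ g s = s := sum_invariant ρ Ω (fun g u hu => by
      obtain ⟨h, rfl⟩ := (hΩ u).mp hu
      exact (hΩ _).mpr ⟨g * h, by simp [map_mul]⟩)
  have hTs1 : T s = (Ω.card : k) • T a := by
    rw [hs, map_sum, Finset.sum_congr rfl hTu, Finset.sum_const, Nat.cast_smul_eq_nsmul]
  have hTs2 : T s = (Fintype.card H : k) • s := by
    rw [hTapp, Finset.sum_congr rfl (fun h _ => hsinv h), Finset.sum_const, Finset.card_univ,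
      Nat.cast_smul_eq_nsmul]
  have hTa : T a ∈ Submodule.span k {s} := by
    have : T a = ((Ω.card : k)⁻¹ * (Fintype.card H : k)) • s := by
      rw [mul_smul, ← hTs2, hTs1, smul_smul, inv_mul_cancel₀ hcard, one_smul]
    rw [this]
    exact Submodule.smul_mem _ _ (Submodule.mem_span_singleton_self s)
  have hTV : ∀ w, T w ∈ Submodule.span k {s} := by
    intro w
    have hw : w ∈ Submodule.span k (Ω : Set V) := by rw [hspan]; trivial
    induction hw using Submodule.span_induction with
    | mem x hx => rw [hTu x hx]; exact hTa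
    | zero => simp
    | add x y _ _ hx hy => rw [map_add]; exact Submodule.add_mem _ hx hy
    | smul c x _ hx => rw [map_smul]; exact Submodule.smul_mem _ _ hx
  have hTv : T v = (Fintype.card H : k) • v := by
    rw [hTapp, Finset.sum_congr rfl (fun h _ => hv h), Finset.sum_const, Finset.card_univ,
      Nat.cast_smul_eq_nsmul]
  have : v = (Fintype.card H : k)⁻¹ • T v := by
    rw [hTv, smul_smul, inv_mul_cancel₀ hH, one_smul]
  rw [this]
  exact Submodule.smul_mem _ _ (hTV v)

end rep


section main

variable {k V H : Type*} [Field k] [AddCommGroup V] [Module k V] [Group H]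

/-- the action of `H` on `V` induced by a representation -/
@[reducible] def repAction (ρ : Representation k H V) : MulAction H V := MulAction.compHom V ρ

/-- Core statement: with `|H|` invertible in `k` and the orbit of `a` spanning `V`,
every invariant vector is a multiple of the orbit sum, and so is every vector `b` whose orbit
has size coprime to that of `a`; the orbit sum is itself invariant. -/
theorem core [Finite H] (hHk : (Nat.card H : k) ≠ 0) (ρ : Representation k H V) (a : V)
    (hspan : Submodule.span k {u : V | ∃ h : H, ρ h a = u} = ⊤) :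
    ∃ s : V, (∀ g : H, ρ g s = s) ∧ (∀ v : V, (∀ g : H, ρ g v = v) → v ∈ Submodule.span k {s}) ∧
      ∀ b : V, (Nat.card {u : V | ∃ h : H, ρ h a = u}).Coprime
        (Nat.card {u : V | ∃ h : H, ρ h b = u}) → b ∈ Submodule.span k {s} := by
  classical
  have := Fintype.ofFinite H
  let _ := repAction ρ
  have hfin : ({u : V | ∃ h : H, ρ h a = u}).Finite := Set.finite_range _
  set Ω := hfin.toFinset with hΩdef
  have hΩ : ∀ u, u ∈ Ω ↔ ∃ h : H, ρ h a = u := fun u => by simp [hΩdef]
  have hΩcoe : (Ω : Set V) = {u : V | ∃ h : H, ρ h a = u} := by simp [hΩdef]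
  have hΩcard : Ω.card = (MulAction.orbit H a).ncard := by
    rw [hΩdef, ← Set.ncard_eq_toFinset_card _ hfin]; rfl
  have hdvd : Ω.card ∣ Nat.card H := by
    rw [hΩcard, ← MulAction.index_stabilizer]; exact Subgroup.index_dvd_card _
  have hΩk : (Ω.card : k) ≠ 0 := by
    intro h0
    obtain ⟨m, hm⟩ := hdvd
    apply hHk; rw [hm, Nat.cast_mul, h0, zero_mul]
  have hspan' : Submodule.span k (Ω : Set V) = ⊤ := by rw [hΩcoe]; exact hspan
  have hHk' : (Fintype.card H : k) ≠ 0 := by rwa [← Nat.card_eq_fintype_card]
  refine ⟨∑ u ∈ Ω, u, ?_, ?_, ?_⟩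
  · exact sum_invariant ρ Ω (fun g u hu => by
      obtain ⟨h, rfl⟩ := (hΩ u).mp hu
      exact (hΩ _).mpr ⟨g * h, by simp [map_mul]⟩)
  · intro v hv
    exact invariant_mem_span_sum ρ hHk' a Ω hΩ hΩk hspan' v hv
  · intro b hcop
    -- the stabilizer of b
    set K : Subgroup H := MulAction.stabilizer H b with hK
    let ρK : Representation k K V := ρ.comp K.subtype
    have hcop' : ((MulAction.orbit H a).ncard).Coprime ((MulAction.orbit H b).ncard) := by
      rw [← Nat.card_coe_set_eq, ← Nat.card_coe_set_eq]; exact hcop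
    have htrans := exists_mem_stabilizer_smul_eq (G := H) a b hcop'
    have hΩK : ∀ u, u ∈ Ω ↔ ∃ h : K, ρK h a = u := by
      intro u
      rw [hΩ]
      constructor
      · rintro ⟨h, rfl⟩
        obtain ⟨g, hg, hga⟩ := htrans (ρ h a) ⟨h, rfl⟩
        exact ⟨⟨g, hg⟩, hga⟩
      · rintro ⟨h, rfl⟩
        exact ⟨h, rfl⟩
    have hKk : (Fintype.card K : k) ≠ 0 := by
      intro h0
      obtain ⟨m, hm⟩ := Subgroup.card_subgroup_dvd_card K
      apply hHk; rw [hm, Nat.cast_mul, Nat.card_eq_fintype_card, h0, zero_mul]
    have hbK : ∀ h : K, ρK h b = b := by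
      rintro ⟨h, hh⟩
      exact hh
    exact invariant_mem_span_sum ρK hKk a Ω hΩK hΩk hspan' b hbK

end main

/-- Let k be a field whose characteristic does not divide the order of the finite group H (for instance a field of characteristic zero), and ρ a k-linear representation of H on V. Let a be a vector whose H-orbit spans V. Then the space of H-fixed vectors has dimension at most 1, and every vector b whose H-orbit has size coprime to the size of the orbit of a is fixed by H. -/
theorem result {k V H : Type*} [Field k] [AddCommGroup V] [Module k V] [Group H] [Finite H]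
    (hchar : ¬ ringChar k ∣ Nat.card H) (ρ : Representation k H V) (a : V)
    (hspan : Submodule.span k {u : V | ∃ h : H, ρ h a = u} = ⊤) :
    Module.finrank k ρ.invariants ≤ 1 ∧
    ∀ b : V, (Nat.card {u : V | ∃ h : H, ρ h a = u}).Coprime (Nat.card {u : V | ∃ h : H, ρ h b = u}) → ∀ h : H, ρ h b = b := by
  classical
  have hHk : (Nat.card H : k) ≠ 0 := fun h0 => hchar ((ringChar.spec k _).mp h0)
  obtain ⟨s, hs, hinv, hb⟩ := core hHk ρ a hspan
  refine ⟨?_, ?_⟩
  · have hle : ρ.invariants ≤ Submodule.span k {s} := by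
      intro v hv
      exact hinv v (fun g => (Representation.mem_invariants ρ v).mp hv g)
    calc Module.finrank k ρ.invariants ≤ Module.finrank k (Submodule.span k {s}) :=
          Submodule.finrank_mono hle
      _ ≤ 1 := by
          by_cases hs0 : s = 0
          · rw [hs0, Submodule.span_zero_singleton, finrank_bot]; exact Nat.zero_le 1
          · rw [finrank_span_singleton hs0]
  · intro b hcop h
    obtain ⟨c, rfl⟩ := Submodule.mem_span_singleton.mp (hb b hcop)
    rw [map_smul, hs]

end Cfsg.Agent.S4177
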