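import Cfsg.Statements.S4176
import Cfsg.Agent.S4177

set_option autoImplicit false
open Cfsg

namespace Cfsg.Agent.S4176


section action

variable {G X : Type*} [Group G] [Finite G] [MulAction G X]

/-- A subgroup whose index is coprime to the size of an orbit is transitive on that orbit. -/
theorem exists_mem_smul_eq_of_coprime (a : X) (K : Subgroup G)
    (hcop : ((MulAction.orbit G a).ncard).Coprime K.index)
    (u : X) (hu : u ∈ MulAction.orbit G a) :
    ∃ g ∈ K, g • a = u := by
  classical
  set A := MulAction.stabilizer G a with hA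
  have hAi : A.index = (MulAction.orbit G a).ncard := MulAction.index_stabilizer G a
  have hstab : MulAction.stabilizer K a = A.subgroupOf K := by
    ext x
    simp only [MulAction.mem_stabilizer_iff, Subgroup.mem_subgroupOf, hA]
    rfl
  have hKa : A.relIndex K = (MulAction.orbit K a).ncard := by
    rw [← MulAction.index_stabilizer K a, hstab]; rfl
  have h1 : A.relIndex K * K.index = (A ⊓ K).index := by
    rw [← Subgroup.inf_relIndex_right, Subgroup.relIndex_mul_index inf_le_right]
  have h2 : K.relIndex A * A.index = (A ⊓ K).index := by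
    rw [← Subgroup.inf_relIndex_right, inf_comm, Subgroup.relIndex_mul_index inf_le_left]
  have h3 : A.index ∣ A.relIndex K * K.index := by
    rw [h1, ← h2]; exact dvd_mul_left _ _
  have h4 : A.index ∣ A.relIndex K := by
    apply Nat.Coprime.dvd_of_dvd_mul_right _ h3
    rw [hAi]; exact hcop
  have hfin : (MulAction.orbit G a).Finite := Set.finite_range _
  have hsub : MulAction.orbit K a ⊆ MulAction.orbit G a := MulAction.orbit_subgroup_subset K a
  have hpos : 0 < (MulAction.orbit K a).ncard := by
    rw [Set.ncard_pos (hfin.subset hsub)]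
    exact MulAction.nonempty_orbit a
  have h5 : (MulAction.orbit G a).ncard ≤ (MulAction.orbit K a).ncard := by
    rw [← hAi, ← hKa]
    exact Nat.le_of_dvd (by rw [hKa]; exact hpos) h4
  have h6 : MulAction.orbit K a = MulAction.orbit G a :=
    Set.eq_of_subset_of_ncard_le hsub h5 hfin
  rw [← h6] at hu
  obtain ⟨⟨g, hg⟩, rfl⟩ := hu
  exact ⟨g, hg, rfl⟩

end action

section psolv

variable {G : Type*} [Group G]

theorem relIndex_subgroupOf_dvd (A B K : Subgroup G) [A.Normal] (hAB : A ≤ B) :
    (A.subgroupOf K).relIndex (B.subgroupOf K) ∣ A.relIndex B := by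
  rw [← Subgroup.inf_subgroupOf_right B K, Subgroup.relIndex_subgroupOf inf_le_right]
  rw [← Subgroup.relIndex_sup_left (K := A) (H := B ⊓ K)]
  have h1 : A ≤ A ⊔ B ⊓ K := le_sup_left
  have h2 : A ⊔ B ⊓ K ≤ B := sup_le hAB inf_le_left
  rw [← Subgroup.relIndex_mul_relIndex A (A ⊔ B ⊓ K) B h1 h2]
  exact dvd_mul_right _ _

/-- subgroups of `p`-solvable groups are `p`-solvable -/
theorem isPSolvable_subgroup (p : ℕ) [Fact p.Prime] (h : IsPSolvable p G) (K : Subgroup G) :
    IsPSolvable p K := by
  obtain ⟨n, H, h0, hlast, hmono, hnorm, hstep⟩ := h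
  refine ⟨n, fun i => (H i).subgroupOf K, ?_, ?_, ?_, ?_, ?_⟩
  · simp [h0]
  · simp [hlast]
  · intro i j hij
    exact Subgroup.subgroupOf_mono K (hmono hij)
  · intro i
    have := hnorm i
    exact Subgroup.Normal.subgroupOf (hnorm i) K
  · intro i
    have hle : H i.castSucc ≤ H i.succ := hmono (Fin.castSucc_lt_succ (i := i)).le
    have := hnorm i.castSucc
    have hdvd := relIndex_subgroupOf_dvd (H i.castSucc) (H i.succ) K hle
    rcases hstep i with ⟨m, hm⟩ | hc
    · left
      rw [hm] at hdvd
      obtain ⟨j, _, hj⟩ := (Nat.dvd_prime_pow Fact.out).mp hdvd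
      exact ⟨j, hj⟩
    · right
      exact Nat.Coprime.coprime_dvd_left hdvd hc

end psolv


universe u

section hall

/-- the image of a `p`-solvable group under a surjective homomorphism is `p`-solvable
(same proof as in `Lib/Helper76/PCore.lean`, repeated here to keep this file self-contained). -/
theorem isPSolvable_of_surjective {G G' : Type*} [Group G] [Group G'] (p : ℕ) [Fact p.Prime]
    (f : G →* G') (hf : Function.Surjective f) (h : IsPSolvable p G) : IsPSolvable p G' := by
  obtain ⟨n, H, h0, hlast, hmono, hnorm, hstep⟩ := h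
  refine ⟨n, fun i => (H i).map f, ?_, ?_, ?_, ?_, ?_⟩
  · simp [h0]
  · simp only [hlast]
    exact Subgroup.map_top_of_surjective f hf
  · intro i j hij
    exact Subgroup.map_mono (hmono hij)
  · intro i
    exact (hnorm i).map f hf
  · intro i
    have hle : H i.castSucc ≤ H i.succ := hmono (Fin.castSucc_lt_succ (i := i)).le
    have hdvd : ((H i.castSucc).map f).relIndex ((H i.succ).map f)
        ∣ (H i.castSucc).relIndex (H i.succ) := by
      rw [Subgroup.relIndex_map_map]
      have := hnorm i.castSucc
      have h1 : (H i.castSucc ⊔ f.ker) ⊔ H i.succ = H i.succ ⊔ f.ker := by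
        rw [sup_comm, ← sup_assoc, sup_eq_left.mpr hle]
      rw [← h1, Subgroup.relIndex_sup_left]
      exact Subgroup.relIndex_dvd_of_le_left _ le_sup_left
    rcases hstep i with ⟨m, hm⟩ | hc
    · left
      rw [hm] at hdvd
      obtain ⟨j, _, hj⟩ := (Nat.dvd_prime_pow Fact.out).mp hdvd
      exact ⟨j, hj⟩
    · right
      exact Nat.Coprime.coprime_dvd_left hdvd hc

theorem exists_normal_ne_bot {G : Type*} [Group G] [Nontrivial G] (p : ℕ) (h : IsPSolvable p G) :
    ∃ N : Subgroup G, N.Normal ∧ N ≠ ⊥ ∧
      ((∃ m : ℕ, Nat.card N = p ^ m) ∨ (Nat.card N).Coprime p) := by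
  obtain ⟨n, H, h0, hlast, hmono, hnorm, hstep⟩ := h
  have key : ∀ (i : ℕ) (hi : i < n + 1), H ⟨i, hi⟩ ≠ ⊥ → ∃ N : Subgroup G, N.Normal ∧ N ≠ ⊥ ∧
      ((∃ m : ℕ, Nat.card N = p ^ m) ∨ (Nat.card N).Coprime p) := by
    intro i
    induction i with
    | zero =>
      intro hi hne
      exact absurd h0 hne
    | succ i ih =>
      intro hi hne
      by_cases hprev : H ⟨i, by omega⟩ = ⊥
      · refine ⟨H ⟨i+1, hi⟩, hnorm _, hne, ?_⟩
        have := hstep ⟨i, by omega⟩
        simp only [Fin.castSucc_mk, Fin.succ_mk] at this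
        rw [hprev, Subgroup.relIndex_bot_left] at this
        exact this
      · exact ih _ hprev
  apply key n (by omega)
  have : (⟨n, by omega⟩ : Fin (n+1)) = Fin.last n := rfl
  rw [this, hlast]
  exact top_ne_bot

theorem card_comap_mk' {G : Type*} [Group G] [Finite G] (N : Subgroup G) [N.Normal]
    (Qb : Subgroup (G ⧸ N)) :
    Nat.card (Qb.comap (QuotientGroup.mk' N)) = Nat.card N * Nat.card Qb := by
  have h1 : (Qb.comap (QuotientGroup.mk' N)).index = Qb.index :=
    Subgroup.index_comap_of_surjective _ (QuotientGroup.mk'_surjective N)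
  have h2 := Subgroup.card_mul_index (Qb.comap (QuotientGroup.mk' N))
  have h3 := Subgroup.card_mul_index Qb
  have h4 := Subgroup.card_eq_card_quotient_mul_card_subgroup N
  have h5 : Qb.index ≠ 0 := Subgroup.index_ne_zero_of_finite
  have h6 : Nat.card (Qb.comap (QuotientGroup.mk' N)) * Qb.index =
      (Nat.card N * Nat.card Qb) * Qb.index := by
    rw [← h1, h2, h4, ← h3, h1]; ring
  exact Nat.eq_of_mul_eq_mul_right (Nat.pos_of_ne_zero h5) h6

/-- Existence of Hall `p'`-subgroups in `p`-solvable groups. -/
theorem exists_pComplement_aux (p : ℕ) [Fact p.Prime] :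
    ∀ (k : ℕ) (G : Type u) [Group G] [Finite G], Nat.card G = k → IsPSolvable p G →
    ∃ Q : Subgroup G, (Nat.card Q).Coprime p ∧ ∃ m : ℕ, Q.index = p ^ m := by
  intro k
  induction k using Nat.strong_induction_on with
  | _ k ih =>
    intro G _ _ hk hsol
    rcases subsingleton_or_nontrivial G with hG | hG
    · refine ⟨⊥, by simp, 0, ?_⟩
      rw [Subgroup.index_bot, pow_zero]
      exact Nat.card_eq_one_iff_unique.mpr ⟨hG, ⟨1⟩⟩
    · obtain ⟨N, hNn, hN1, hN⟩ := exists_normal_ne_bot p hsol
      have hNcard : 1 < Nat.card N := by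
        rw [Subgroup.one_lt_card_iff_ne_bot]; exact hN1
      have hcardeq := Subgroup.card_eq_card_quotient_mul_card_subgroup N
      have hpos : 0 < Nat.card (G ⧸ N) := Nat.card_pos
      have hcardlt : Nat.card (G ⧸ N) < k := by
        rw [← hk, hcardeq]
        nlinarith
      have hsolq : IsPSolvable p (G ⧸ N) :=
        isPSolvable_of_surjective p (QuotientGroup.mk' N) (QuotientGroup.mk'_surjective N) hsol
      obtain ⟨Qb, hQb, a, ha⟩ := ih _ hcardlt (G ⧸ N) rfl hsolq
      set L := Qb.comap (QuotientGroup.mk' N) with hL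
      have hLidx : L.index = p ^ a := by
        rw [hL, Subgroup.index_comap_of_surjective _ (QuotientGroup.mk'_surjective N), ha]
      have hLcard : Nat.card L = Nat.card N * Nat.card Qb := card_comap_mk' N Qb
      have hNL : N ≤ L := by
        intro x hx
        rw [hL, Subgroup.mem_comap]
        have : QuotientGroup.mk' N x = 1 := (QuotientGroup.eq_one_iff x).mpr hx
        rw [this]; exact Qb.one_mem
      rcases hN with ⟨m, hm⟩ | hcop
      · -- Schur–Zassenhaus inside L
        have hN'n : (N.subgroupOf L).Normal := Subgroup.Normal.subgroupOf hNn L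
        have hN'card : Nat.card (N.subgroupOf L) = p ^ m := by
          rw [← hm]
          exact Nat.card_congr (Subgroup.subgroupOfEquivOfLe hNL).toEquiv
        have hN'idx : (N.subgroupOf L).index = Nat.card Qb := by
          have h1 := Subgroup.card_mul_index (N.subgroupOf L)
          rw [hN'card, hLcard, hm] at h1
          exact Nat.eq_of_mul_eq_mul_left (pow_pos (Fact.out : p.Prime).pos m) h1
        have hcop' : (Nat.card (N.subgroupOf L)).Coprime (N.subgroupOf L).index := by
          rw [hN'card, hN'idx]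
          exact Nat.Coprime.pow_left m hQb.symm
        obtain ⟨C, hC⟩ := Subgroup.exists_right_complement'_of_coprime hcop'
        have hCcard : Nat.card C = Nat.card Qb := by
          rw [← hN'idx]; exact (hC.symm.index_eq_card).symm
        refine ⟨C.map L.subtype, ?_, a + m, ?_⟩
        · rw [Subgroup.card_map_of_injective L.subtype_injective, hCcard]; exact hQb
        · have h1 := Subgroup.card_mul_index (C.map L.subtype)
          rw [Subgroup.card_map_of_injective L.subtype_injective, hCcard] at h1
          have h2 := Subgroup.card_mul_index L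
          rw [hLcard, hLidx, hm] at h2
          have hQpos : 0 < Nat.card Qb := Nat.card_pos
          apply Nat.eq_of_mul_eq_mul_left hQpos
          rw [h1, ← h2, pow_add]; ring
      · exact ⟨L, by rw [hLcard]; exact Nat.Coprime.mul_left hcop hQb, a, hLidx⟩

theorem exists_pComplement {G : Type u} [Group G] [Finite G] (p : ℕ) [Fact p.Prime]
    (h : IsPSolvable p G) :
    ∃ Q : Subgroup G, (Nat.card Q).Coprime p ∧ ∃ m : ℕ, Q.index = p ^ m :=
  exists_pComplement_aux p (Nat.card G) G rfl h

end hall


section main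

variable {k V H : Type*} [Field k] [AddCommGroup V] [Module k V] [Group H]

/-- Core statement: characteristic `p`, the orbit `Ω` of `a` has size prime to `p` and spans `V`.
Then for every subgroup `Q` of order prime to `p` whose index is coprime to `|Ω|`,
every `Q`-invariant vector is a multiple of the orbit sum, which is `H`-invariant. -/
theorem core [Finite H] (p : ℕ) [Fact p.Prime] [CharP k p] (ρ : Representation k H V) (a : V)
    (hΩp : (Nat.card {u : V | ∃ h : H, ρ h a = u}).Coprime p)
    (hspan : Submodule.span k {u : V | ∃ h : H, ρ h a = u} = ⊤) :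
    ∃ s : V, (∀ g : H, ρ g s = s) ∧ ∀ Q : Subgroup H, (Nat.card Q).Coprime p →
      (Nat.card {u : V | ∃ h : H, ρ h a = u}).Coprime Q.index →
      ∀ v : V, (∀ g ∈ Q, ρ g v = v) → v ∈ Submodule.span k {s} := by
  classical
  have := Fintype.ofFinite H
  let _ := S4177.repAction ρ
  have hfin : ({u : V | ∃ h : H, ρ h a = u}).Finite := Set.finite_range _
  set Ω := hfin.toFinset with hΩdef
  have hΩ : ∀ u, u ∈ Ω ↔ ∃ h : H, ρ h a = u := fun u => by simp [hΩdef]
  have hΩcoe : (Ω : Set V) = {u : V | ∃ h : H, ρ h a = u} := by simp [hΩdef]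
  have hΩcard : Ω.card = (MulAction.orbit H a).ncard := by
    rw [hΩdef, ← Set.ncard_eq_toFinset_card _ hfin]; rfl
  have hΩcard' : Nat.card {u : V | ∃ h : H, ρ h a = u} = Ω.card := by
    rw [hΩcard, ← Nat.card_coe_set_eq]; rfl
  have hΩk : (Ω.card : k) ≠ 0 := by
    intro h0
    rw [CharP.cast_eq_zero_iff k p] at h0
    rw [hΩcard'] at hΩp
    exact ((Nat.Prime.coprime_iff_not_dvd (Fact.out : p.Prime)).mp hΩp.symm) h0
  have hspan' : Submodule.span k (Ω : Set V) = ⊤ := by rw [hΩcoe]; exact hspan
  refine ⟨∑ u ∈ Ω, u, ?_, ?_⟩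
  · exact S4177.sum_invariant ρ Ω (fun g u hu => by
      obtain ⟨h, rfl⟩ := (hΩ u).mp hu
      exact (hΩ _).mpr ⟨g * h, by simp [map_mul]⟩)
  · intro Q hQp hQidx v hv
    let ρQ : Representation k Q V := ρ.comp Q.subtype
    have hcop' : ((MulAction.orbit H a).ncard).Coprime Q.index := by
      rw [← hΩcard, ← hΩcard']; exact hQidx
    have htrans := exists_mem_smul_eq_of_coprime (G := H) a Q hcop'
    have hΩQ : ∀ u, u ∈ Ω ↔ ∃ h : Q, ρQ h a = u := by
      intro u
      rw [hΩ]
      constructor
      · rintro ⟨h, rfl⟩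
        obtain ⟨g, hg, hga⟩ := htrans (ρ h a) ⟨h, rfl⟩
        exact ⟨⟨g, hg⟩, hga⟩
      · rintro ⟨h, rfl⟩
        exact ⟨h, rfl⟩
    have hQk : (Fintype.card Q : k) ≠ 0 := by
      intro h0
      rw [CharP.cast_eq_zero_iff k p, ← Nat.card_eq_fintype_card] at h0
      exact ((Nat.Prime.coprime_iff_not_dvd (Fact.out : p.Prime)).mp hQp.symm) h0
    have hvQ : ∀ h : Q, ρQ h v = v := by
      rintro ⟨h, hh⟩
      exact hv h hh
    exact S4177.invariant_mem_span_sum ρQ hQk a Ω hΩQ hΩk hspan' v hvQ

end main

/-- Let k be a field of prime characteristic p, H a finite p-soluble group and ρ a k-linear representation of H on V. Let a be a vector that is fixed by some Sylow p-subgroup of H and whose H-orbit spans V. Then the space of H-fixed vectors has dimension at most 1, and every vector b whose H-orbit has size coprime to the size of the orbit of a is fixed by H. -/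
theorem result {k V H : Type*} [Field k] (p : ℕ) [Fact p.Prime] [CharP k p] [AddCommGroup V] [Module k V]
    [Group H] [Finite H] (hsol : Cfsg.IsPSolvable p H) (ρ : Representation k H V) (a : V)
    (hfix : ∃ P : Sylow p H, ∀ x : H, x ∈ (P : Subgroup H) → ρ x a = a)
    (hspan : Submodule.span k {u : V | ∃ h : H, ρ h a = u} = ⊤) :
    Module.finrank k ρ.invariants ≤ 1 ∧
    ∀ b : V, (Nat.card {u : V | ∃ h : H, ρ h a = u}).Coprime (Nat.card {u : V | ∃ h : H, ρ h b = u}) → ∀ h : H, ρ h b = b := by
  classical
  let _ := S4177.repAction ρ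
  obtain ⟨P, hP⟩ := hfix
  -- the orbit has size prime to p
  have hΩidx : Nat.card {u : V | ∃ h : H, ρ h a = u} = (MulAction.stabilizer H a).index := by
    rw [MulAction.index_stabilizer, ← Nat.card_coe_set_eq]; rfl
  have hPle : (P : Subgroup H) ≤ MulAction.stabilizer H a := fun x hx => hP x hx
  have hΩp : (Nat.card {u : V | ∃ h : H, ρ h a = u}).Coprime p := by
    rw [hΩidx]
    have h1 : (MulAction.stabilizer H a).index ∣ (P : Subgroup H).index :=
      Subgroup.index_dvd_of_le hPle
    have h2 : ¬ p ∣ (P : Subgroup H).index := P.not_dvd_index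
    have h3 : ¬ p ∣ (MulAction.stabilizer H a).index := fun h => h2 (h.trans h1)
    exact ((Nat.Prime.coprime_iff_not_dvd Fact.out).mpr h3).symm
  obtain ⟨s, hs, hQs⟩ := core p ρ a hΩp hspan
  refine ⟨?_, ?_⟩
  · obtain ⟨Q, hQp, m, hQm⟩ := exists_pComplement p hsol
    have hle : ρ.invariants ≤ Submodule.span k {s} := by
      intro v hv
      apply hQs Q hQp (by rw [hQm]; exact Nat.Coprime.pow_right m hΩp) v
      intro g _
      exact (Representation.mem_invariants ρ v).mp hv g
    calc Module.finrank k ρ.invariants ≤ Module.finrank k (Submodule.span k {s}) :=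
          Submodule.finrank_mono hle
      _ ≤ 1 := by
          by_cases hs0 : s = 0
          · rw [hs0, Submodule.span_zero_singleton, finrank_bot]; exact Nat.zero_le 1
          · rw [finrank_span_singleton hs0]
  · intro b hcop h
    -- the stabilizer of b and a Hall p'-subgroup of it
    set K : Subgroup H := MulAction.stabilizer H b with hK
    have hKsol : IsPSolvable p K := isPSolvable_subgroup p hsol K
    obtain ⟨Q, hQp, m, hQm⟩ := exists_pComplement p hKsol
    have hKidx : Nat.card {u : V | ∃ h : H, ρ h b = u} = K.index := by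
      rw [hK, MulAction.index_stabilizer, ← Nat.card_coe_set_eq]; rfl
    have hQ'card : (Nat.card (Q.map K.subtype)).Coprime p := by
      rw [Subgroup.card_map_of_injective K.subtype_injective]; exact hQp
    have hQ'idx : (Nat.card {u : V | ∃ h : H, ρ h a = u}).Coprime (Q.map K.subtype).index := by
      rw [Subgroup.index_map_subtype, hQm, ← hKidx]
      exact Nat.Coprime.mul_right (Nat.Coprime.pow_right m hΩp) hcop
    have hb := hQs (Q.map K.subtype) hQ'card hQ'idx b (by
      rintro g ⟨x, _, rfl⟩
      exact x.2)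
    obtain ⟨c, rfl⟩ := Submodule.mem_span_singleton.mp hb
    rw [map_smul, hs]

end Cfsg.Agent.S4176
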