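import Cfsg.Statements.S4127
import Cfsg.Agent.S3993
import Cfsg.Agent.S4160
import Cfsg.Agent.S4176
import Cfsg.Agent.S0028
import Cfsg.Agent.S3986
import Cfsg.Agent.Lib.Helper71.FrobeniusPCompl
import Cfsg.Agent.Lib.Helper34.SylowConj

set_option autoImplicit false
open Cfsg

namespace Cfsg.Agent.S4127

section helpers

variable {G : Type*} [Group G]

/-- covering by conjugates of a set invariant under conjugation by `N` -/
theorem ncard_cover_le [Finite G] (Y : Set G) (N : Subgroup G)
    (hYN : ∀ n ∈ N, ∀ c ∈ Y, n * c * n⁻¹ ∈ Y) :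
    ({x : G | x ≠ 1 ∧ ∃ g c, c ∈ Y ∧ x = g * c * g⁻¹} : Set G).ncard ≤
      N.index * (Y \ {1}).ncard := by
  classical
  let f : (G ⧸ N) × G → G := fun qc => qc.1.out * qc.2 * qc.1.out⁻¹
  have hsub : {x : G | x ≠ 1 ∧ ∃ g c, c ∈ Y ∧ x = g * c * g⁻¹} ⊆
      f '' ((Set.univ : Set (G ⧸ N)) ×ˢ (Y \ {1})) := by
    rintro x ⟨hx1, g, c, hc, rfl⟩
    set q : G ⧸ N := (g : G ⧸ N) with hq
    have hn : q.out⁻¹ * g ∈ N := by
      rw [← QuotientGroup.eq]; exact QuotientGroup.out_eq' q
    set n := q.out⁻¹ * g with hndef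
    refine ⟨(q, n * c * n⁻¹), ⟨Set.mem_univ _, hYN n hn c hc, ?_⟩, ?_⟩
    · intro h1
      rw [Set.mem_singleton_iff] at h1
      have h1 : n * c * n⁻¹ = 1 := h1
      apply hx1
      have : c = 1 := by
        calc c = n⁻¹ * (n * c * n⁻¹) * n := by group
          _ = 1 := by rw [h1]; group
      rw [this]; group
    · show q.out * (n * c * n⁻¹) * q.out⁻¹ = g * c * g⁻¹
      rw [hndef]; group
  calc _ ≤ (f '' ((Set.univ : Set (G ⧸ N)) ×ˢ (Y \ {1}))).ncard :=
        Set.ncard_le_ncard hsub (Set.toFinite _)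
    _ ≤ ((Set.univ : Set (G ⧸ N)) ×ˢ (Y \ {1})).ncard :=
        Set.ncard_image_le (Set.toFinite _)
    _ = N.index * (Y \ {1}).ncard := by
      rw [Set.ncard_prod, Set.ncard_univ, ← Subgroup.index_eq_card]

/-- Camina's lemma: if every `p'`-element has class size prime to `p`, the Sylow `p`-subgroup is
normal and centralised by all `p'`-elements. -/
theorem camina [Finite G] (p : ℕ) [Fact p.Prime]
    (h : ∀ y : G, (orderOf y).Coprime p → ¬ p ∣ (Subgroup.centralizer ({y} : Set G)).index)
    (S : Sylow p G) :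
    (S : Subgroup G).Normal ∧
      ∀ y : G, (orderOf y).Coprime p → ∀ s ∈ (S : Subgroup G), y * s = s * y := by
  classical
  have hp : p.Prime := Fact.out
  set m := (S : Subgroup G).index with hm
  have hSm : Nat.card (S : Subgroup G) * m = Nat.card G := (S : Subgroup G).card_mul_index
  have hcop : (Nat.card (S : Subgroup G)).Coprime m := S.card_coprime_index
  obtain ⟨e, he⟩ := IsPGroup.iff_card.mp S.isPGroup'
  have hmp : m.Coprime p := by
    rw [Nat.coprime_comm, hp.coprime_iff_not_dvd]; exact S.not_dvd_index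
  set X : Set G := {y : G | y ^ m = 1} with hX
  have hXiff : ∀ y : G, y ∈ X ↔ (orderOf y).Coprime p := by
    intro y
    constructor
    · intro hy
      exact Nat.Coprime.coprime_dvd_left (orderOf_dvd_of_pow_eq_one hy) hmp
    · intro hy
      have h1 : orderOf y ∣ Nat.card (S : Subgroup G) * m := hSm ▸ orderOf_dvd_natCard y
      have h2 : (orderOf y).Coprime (Nat.card (S : Subgroup G)) := by
        rw [he]; exact Nat.Coprime.pow_right e hy
      exact orderOf_dvd_iff_pow_eq_one.mp (h2.dvd_of_dvd_mul_left h1)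
  set T := Subgroup.centralizer ((S : Subgroup G) : Set G) with hT
  set N := Subgroup.normalizer ((S : Subgroup G) : Set G) with hN
  set XT : Set G := X ∩ T with hXT
  have h1XT : (1 : G) ∈ XT := ⟨by simp [hX], T.one_mem⟩
  -- invariance
  have hTN : ∀ n ∈ N, ∀ c ∈ T, n * c * n⁻¹ ∈ T := by
    intro n hn c hc
    rw [hT, Subgroup.mem_centralizer_iff]
    intro u hu
    have hn' : n⁻¹ ∈ N := N.inv_mem hn
    have hu' : n⁻¹ * u * n⁻¹⁻¹ ∈ (S : Subgroup G) := (Subgroup.mem_normalizer_iff.mp hn' u).mp hu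
    rw [inv_inv] at hu'
    have hcomm := (Subgroup.mem_centralizer_iff.mp hc) _ hu'
    calc u * (n * c * n⁻¹) = n * ((n⁻¹ * u * n) * c) * n⁻¹ := by group
      _ = n * (c * (n⁻¹ * u * n)) * n⁻¹ := by rw [hcomm]
      _ = n * c * n⁻¹ * u := by group
  have hXconj : ∀ (g c : G), c ∈ X → g * c * g⁻¹ ∈ X := by
    intro g c hc
    show (g * c * g⁻¹) ^ m = 1
    rw [conj_pow, show c ^ m = 1 from hc]; group
  have hYN : ∀ n ∈ N, ∀ c ∈ XT, n * c * n⁻¹ ∈ XT := fun n hn c hc =>
    ⟨hXconj n c hc.1, hTN n hn c hc.2⟩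
  have hcov := ncard_cover_le XT N hYN
  -- X \ {1} ⊆ cover
  have hsub : X \ {1} ⊆ {x : G | x ≠ 1 ∧ ∃ g c, c ∈ XT ∧ x = g * c * g⁻¹} := by
    rintro y ⟨hyX, hy1⟩
    refine ⟨hy1, ?_⟩
    obtain ⟨g, c, hc, rfl⟩ := Cfsg.Agent.S4160.exists_conj_mem_centralizer S y
      (h y ((hXiff y).mp hyX))
    refine ⟨g, c, ⟨?_, hc⟩, rfl⟩
    have := hXconj g⁻¹ _ hyX
    have e : g⁻¹ * (g * c * g⁻¹) * g⁻¹⁻¹ = c := by group
    rwa [e] at this
  have h1X : (1 : G) ∈ X := by simp [hX]
  have hXle : X.ncard - 1 ≤ N.index * (XT.ncard - 1) := by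
    rw [← Set.ncard_sdiff_singleton_of_mem h1X, ← Set.ncard_sdiff_singleton_of_mem h1XT]
    exact (Set.ncard_le_ncard hsub (Set.toFinite _)).trans hcov
  -- Frobenius
  have hfrob : m ∣ X.ncard := by
    have := Cfsg.Agent.S3993.result (G := G) m (Dvd.intro_left _ hSm)
    have e2 : Nat.card {g : G // g ^ m = 1} = X.ncard := Nat.card_coe_set_eq X
    rwa [e2] at this
  have hXpos : 0 < X.ncard := Set.ncard_pos (Set.toFinite _) |>.mpr ⟨1, h1X⟩
  have hmX : m ≤ X.ncard := Nat.le_of_dvd hXpos hfrob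
  -- bound on XT
  have hbound : XT.ncard * Nat.card (S : Subgroup G) ≤ Nat.card N := by
    obtain ⟨k, hk1, hk0⟩ := Nat.chineseRemainder hcop.symm 1 0
    have hinj : Set.InjOn (fun ts : G × G => ts.1 * ts.2) (XT ×ˢ ((S : Subgroup G) : Set G)) := by
      rintro ⟨t, s⟩ ⟨ht, hs⟩ ⟨t', s'⟩ ⟨ht', hs'⟩ heq
      have heq : t * s = t' * s' := heq
      have key : ∀ t s : G, t ∈ XT → s ∈ (S : Subgroup G) → (t * s) ^ k = t := by
        intro t s ht hs
        have hcomm : Commute t s := ((Subgroup.mem_centralizer_iff.mp ht.2) s hs).symm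
        rw [hcomm.mul_pow]
        have h1 : t ^ k = t := by
          have ho : orderOf t ∣ m := orderOf_dvd_of_pow_eq_one ht.1
          have : t ^ k = t ^ 1 := pow_eq_pow_iff_modEq.mpr (hk1.of_dvd ho)
          rwa [pow_one] at this
        have h2 : s ^ k = 1 := by
          have ho : orderOf s ∣ Nat.card (S : Subgroup G) := by
            have := orderOf_dvd_natCard (⟨s, hs⟩ : (S : Subgroup G))
            rwa [← Subgroup.orderOf_coe] at this
          have : s ^ k = s ^ 0 := pow_eq_pow_iff_modEq.mpr (hk0.of_dvd ho)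
          rwa [pow_zero] at this
        rw [h1, h2, mul_one]
      have e1 : t = t' := by
        rw [← key t s ht hs, ← key t' s' ht' hs', heq]
      subst e1
      have e2 : s = s' := mul_left_cancel heq
      rw [e2]
    have himg : (fun ts : G × G => ts.1 * ts.2) '' (XT ×ˢ ((S : Subgroup G) : Set G)) ⊆ (N : Set G) := by
      rintro _ ⟨⟨t, s⟩, ⟨ht, hs⟩, rfl⟩
      exact N.mul_mem (Subgroup.centralizer_le_normalizer _ ht.2) (Subgroup.le_normalizer hs)
    calc XT.ncard * Nat.card (S : Subgroup G)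
        = (XT ×ˢ ((S : Subgroup G) : Set G)).ncard := by
          rw [Set.ncard_prod]; congr 1
      _ = ((fun ts : G × G => ts.1 * ts.2) '' (XT ×ˢ ((S : Subgroup G) : Set G))).ncard :=
          (Set.InjOn.ncard_image hinj).symm
      _ ≤ (N : Set G).ncard := Set.ncard_le_ncard himg (Set.toFinite _)
      _ = Nat.card N := by rw [← Nat.card_coe_set_eq]; rfl
  -- arithmetic
  have hNidx : Nat.card N * N.index = Nat.card G := N.card_mul_index
  have hNpos : 1 ≤ N.index := Nat.one_le_iff_ne_zero.mpr Subgroup.index_ne_zero_of_finite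
  have hXTpos : 1 ≤ XT.ncard := Set.ncard_pos (Set.toFinite _) |>.mpr ⟨1, h1XT⟩
  have hSpos : 1 ≤ Nat.card (S : Subgroup G) := Nat.card_pos
  have h3 : N.index * XT.ncard ≤ m := by
    have : N.index * XT.ncard * Nat.card (S : Subgroup G) ≤ m * Nat.card (S : Subgroup G) := by
      calc N.index * XT.ncard * Nat.card (S : Subgroup G)
          = N.index * (XT.ncard * Nat.card (S : Subgroup G)) := by ring
        _ ≤ N.index * Nat.card N := Nat.mul_le_mul_left _ hbound
        _ = m * Nat.card (S : Subgroup G) := by rw [mul_comm, hNidx, ← hSm, mul_comm]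
    exact Nat.le_of_mul_le_mul_right this hSpos
  have h4 : N.index * (XT.ncard - 1) + N.index = N.index * XT.ncard := by
    have : XT.ncard - 1 + 1 = XT.ncard := Nat.sub_add_cancel hXTpos
    rw [← Nat.mul_succ, Nat.succ_eq_add_one, this]
  have hidx1 : N.index = 1 := by omega
  have hNtop : N = ⊤ := Subgroup.index_eq_one.mp hidx1
  have hSn : (S : Subgroup G).Normal := Subgroup.normalizer_eq_top_iff.mp hNtop
  refine ⟨hSn, ?_⟩
  intro y hy s hs
  obtain ⟨g, c, hc, rfl⟩ := Cfsg.Agent.S4160.exists_conj_mem_centralizer S y (h y hy)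
  have hgc : g * c * g⁻¹ ∈ T := hTN g (hNtop ▸ Subgroup.mem_top g) c hc
  exact ((Subgroup.mem_centralizer_iff.mp hgc) s hs).symm


/-- the index of the centralizer is invariant under conjugation -/
theorem index_centralizer_conj (t x : G) :
    (Subgroup.centralizer ({t * x * t⁻¹} : Set G)).index =
      (Subgroup.centralizer ({x} : Set G)).index := by
  have : Subgroup.centralizer ({t * x * t⁻¹} : Set G) =
      (Subgroup.centralizer ({x} : Set G)).map ((MulAut.conj t : G ≃* G) : G →* G) := by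
    ext u
    rw [Subgroup.mem_map, Subgroup.mem_centralizer_singleton_iff]
    constructor
    · intro hu
      refine ⟨t⁻¹ * u * t, ?_, ?_⟩
      · rw [Subgroup.mem_centralizer_singleton_iff]
        calc t⁻¹ * u * t * x = t⁻¹ * (u * (t * x * t⁻¹)) * t := by group
          _ = t⁻¹ * ((t * x * t⁻¹) * u) * t := by rw [hu]
          _ = x * (t⁻¹ * u * t) := by group
      · show MulAut.conj t (t⁻¹ * u * t) = u
        rw [MulAut.conj_apply]; group
    · rintro ⟨v, hv, rfl⟩
      rw [Subgroup.mem_centralizer_singleton_iff] at hv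
      show MulAut.conj t v * (t * x * t⁻¹) = (t * x * t⁻¹) * MulAut.conj t v
      rw [MulAut.conj_apply]
      calc t * v * t⁻¹ * (t * x * t⁻¹) = t * (v * x) * t⁻¹ := by group
        _ = t * (x * v) * t⁻¹ := by rw [hv]
        _ = t * x * t⁻¹ * (t * v * t⁻¹) := by group
  rw [this, Subgroup.index_map_equiv]

/-- a `p`-element with class size a power of `p` lies in every Sylow `p`-subgroup -/
theorem mem_sylow_of_index_pow [Finite G] (p : ℕ) [Fact p.Prime] (x : G) (k : ℕ)
    (hk : orderOf x = p ^ k) (a : ℕ)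
    (hxa : (Subgroup.centralizer ({x} : Set G)).index = p ^ a) (P : Sylow p G) :
    x ∈ (P : Subgroup G) := by
  have hp : p.Prime := Fact.out
  have hzp : IsPGroup p (Subgroup.zpowers x) := by
    apply IsPGroup.of_card (n := k)
    rw [Nat.card_zpowers, hk]
  obtain ⟨P₀, hP₀⟩ := hzp.exists_le_sylow
  have hx0 : x ∈ (P₀ : Subgroup G) := hP₀ (Subgroup.mem_zpowers x)
  have horb : MulAction.orbit G P₀ = Set.univ := Sylow.orbit_eq_top P₀
  have hcop : ((MulAction.orbit G P₀).ncard).Coprime
      (Subgroup.centralizer ({x} : Set G)).index := by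
    rw [horb, Set.ncard_univ, hxa]
    apply Nat.Coprime.pow_right
    rw [Nat.coprime_comm, hp.coprime_iff_not_dvd]
    exact not_dvd_card_sylow p G
  obtain ⟨c, hc, hcP⟩ := Cfsg.Agent.S4176.exists_mem_smul_eq_of_coprime P₀
    (Subgroup.centralizer ({x} : Set G)) hcop P (by rw [horb]; trivial)
  rw [← hcP, Cfsg.Agent.Lib.Helper34.mem_sylow_smul_iff]
  have hcx : c * x = x * c := Subgroup.mem_centralizer_singleton_iff.mp hc
  have : c⁻¹ * x * c = x := by
    calc c⁻¹ * x * c = c⁻¹ * (x * c) := by group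
      _ = c⁻¹ * (c * x) := by rw [hcx]
      _ = x := by group
  rw [this]; exact hx0


theorem centralizer_mul_of_coprime (x y : G) (hxy : Commute x y)
    (hcop : (orderOf x).Coprime (orderOf y)) :
    Subgroup.centralizer ({x * y} : Set G) =
      Subgroup.centralizer ({x} : Set G) ⊓ Subgroup.centralizer ({y} : Set G) := by
  ext t
  rw [Subgroup.mem_inf, Subgroup.mem_centralizer_singleton_iff,
    Subgroup.mem_centralizer_singleton_iff, Subgroup.mem_centralizer_singleton_iff]
  constructor
  · intro ht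
    have hpow : ∀ n : ℕ, t * (x * y) ^ n = (x * y) ^ n * t := by
      intro n
      exact ((show Commute t (x * y) from ht).pow_right n).eq
    obtain ⟨u, hu1, hu0⟩ := Nat.chineseRemainder hcop 1 0
    obtain ⟨v, hv0, hv1⟩ := Nat.chineseRemainder hcop 0 1
    have ex : (x * y) ^ u = x := by
      rw [hxy.mul_pow]
      have h1 : x ^ u = x ^ 1 := pow_eq_pow_iff_modEq.mpr hu1
      have h2 : y ^ u = y ^ 0 := pow_eq_pow_iff_modEq.mpr hu0
      rw [h1, h2, pow_one, pow_zero, mul_one]
    have ey : (x * y) ^ v = y := by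
      rw [hxy.mul_pow]
      have h1 : x ^ v = x ^ 0 := pow_eq_pow_iff_modEq.mpr hv0
      have h2 : y ^ v = y ^ 1 := pow_eq_pow_iff_modEq.mpr hv1
      rw [h1, h2, pow_one, pow_zero, one_mul]
    refine ⟨?_, ?_⟩
    · have := hpow u
      rwa [ex] at this
    · have := hpow v
      rwa [ey] at this
  · rintro ⟨h1, h2⟩
    calc t * (x * y) = (t * x) * y := by group
      _ = x * (t * y) := by rw [h1]; group
      _ = x * y * t := by rw [h2]; group

theorem commute_in_centralizer [Finite G] (p : ℕ) [Fact p.Prime] (a : ℕ)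
    (hmax : ∀ y : G, ¬ p ^ (a + 1) ∣ (Subgroup.centralizer ({y} : Set G)).index)
    (x : G) (k : ℕ) (hk : orderOf x = p ^ k)
    (hxa : (Subgroup.centralizer ({x} : Set G)).index = p ^ a)
    (g : G) (hg : g * x = x * g) (hgcop : (orderOf g).Coprime p)
    (e : G) (he : e * x = x * e) (j : ℕ) (hej : e ^ (p ^ j) = 1) : g * e = e * g := by
  have hp : p.Prime := Fact.out
  set C := Subgroup.centralizer ({x} : Set G) with hC
  have hΓ : ∀ y : C, (orderOf y).Coprime p →
      ¬ p ∣ (Subgroup.centralizer ({y} : Set C)).index := by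
    intro y hy hdvd
    have hyx : Commute x (y : G) := (Subgroup.mem_centralizer_singleton_iff.mp y.2).symm
    have hcop : (orderOf x).Coprime (orderOf (y : G)) := by
      rw [hk, Subgroup.orderOf_coe]
      exact (Nat.Coprime.pow_right k hy).symm
    have h1 := centralizer_mul_of_coprime x (y : G) hyx hcop
    have h2 : Subgroup.centralizer ({y} : Set C) =
        (Subgroup.centralizer ({(y : G)} : Set G)).subgroupOf C := by
      ext t
      rw [Subgroup.mem_subgroupOf, Subgroup.mem_centralizer_singleton_iff,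
        Subgroup.mem_centralizer_singleton_iff]
      constructor
      · intro h; exact congrArg Subtype.val h
      · intro h; exact Subtype.ext h
    have h3 : (Subgroup.centralizer ({x * (y : G)} : Set G)).index =
        (Subgroup.centralizer ({(y : G)} : Set G)).relIndex C * p ^ a := by
      rw [h1, ← hxa, ← hC, ← Subgroup.relIndex_mul_index (inf_le_left : C ⊓ _ ≤ C),
        Subgroup.inf_relIndex_left]
    apply hmax (x * (y : G))
    rw [h3, pow_succ, mul_comm]
    apply Nat.mul_dvd_mul_right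
    rw [h2] at hdvd
    exact hdvd
  obtain ⟨S⟩ : Nonempty (Sylow p C) := inferInstance
  obtain ⟨hSn, hcomm⟩ := camina p hΓ S
  have heC : e ∈ C := Subgroup.mem_centralizer_singleton_iff.mpr he
  have hgC : g ∈ C := Subgroup.mem_centralizer_singleton_iff.mpr hg
  have hzp : IsPGroup p (Subgroup.zpowers (⟨e, heC⟩ : C)) := by
    rintro ⟨u, hu⟩
    obtain ⟨i, rfl⟩ := Subgroup.mem_zpowers_iff.mp hu
    refine ⟨j, Subtype.ext ?_⟩
    apply Subtype.ext
    simp only [Subgroup.coe_pow, Subgroup.coe_zpow, Subgroup.coe_one]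
    rw [← zpow_natCast, ← zpow_mul, mul_comm, zpow_mul, zpow_natCast, hej, one_zpow]
  obtain ⟨Q', hQ'⟩ := hzp.exists_le_sylow
  haveI : Unique (Sylow p C) := Sylow.unique_of_normal S hSn
  have hQS : Q' = S := Subsingleton.elim _ _
  rw [hQS] at hQ'
  have heS : (⟨e, heC⟩ : C) ∈ (S : Subgroup C) := hQ' (Subgroup.mem_zpowers _)
  have hgo : (orderOf (⟨g, hgC⟩ : C)).Coprime p := by
    rw [← Subgroup.orderOf_coe]; exact hgcop
  exact congrArg Subtype.val (hcomm ⟨g, hgC⟩ hgo ⟨e, heC⟩ heS)


theorem orderOf_conj' (t x : G) : orderOf (t * x * t⁻¹) = orderOf x := by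
  have h : SemiconjBy t x (t * x * t⁻¹) := by
    show t * x = t * x * t⁻¹ * t
    group
  exact (h.orderOf_eq).symm

theorem key [Finite G] (p : ℕ) [Fact p.Prime] (a : ℕ)
    (hmax : ∀ y : G, ¬ p ^ (a + 1) ∣ (Subgroup.centralizer ({y} : Set G)).index)
    (x : G) (k : ℕ) (hk : orderOf x = p ^ k)
    (hxa : (Subgroup.centralizer ({x} : Set G)).index = p ^ a)
    (H : Subgroup G) (hH : IsPGroup p H)
    (q : ℕ) (hq : q.Prime) (hqp : q ≠ p) (j : ℕ) (g : G) (hgo : orderOf g = q ^ j)
    (hgN : g ∈ Subgroup.normalizer (H : Set G)) :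
    g ∈ Subgroup.centralizer (H : Set G) := by
  classical
  have hp : p.Prime := Fact.out
  haveI : Fact q.Prime := ⟨hq⟩
  have hzq : IsPGroup q (Subgroup.zpowers g) := by
    apply IsPGroup.of_card (n := j); rw [Nat.card_zpowers, hgo]
  obtain ⟨R, hR⟩ := hzq.exists_le_sylow
  have hgR : g ∈ (R : Subgroup G) := hR (Subgroup.mem_zpowers g)
  have hqx : ¬ q ∣ (Subgroup.centralizer ({x} : Set G)).index := by
    rw [hxa]; intro h
    exact hqp ((Nat.prime_dvd_prime_iff_eq hq hp).mp (hq.dvd_of_dvd_pow h))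
  obtain ⟨t, c, hc, hxc⟩ := Cfsg.Agent.S4160.exists_conj_mem_centralizer R x hqx
  have hcg : g * c = c * g := (Subgroup.mem_centralizer_iff.mp hc) g hgR
  have hco : orderOf c = p ^ k := by
    rw [← hk, hxc, orderOf_conj']
  have hca : (Subgroup.centralizer ({c} : Set G)).index = p ^ a := by
    rw [← hxa, hxc, index_centralizer_conj]
  set D := Subgroup.normalClosure ({c} : Set G) with hD
  have hDle : ∀ P : Sylow p G, D ≤ (P : Subgroup G) := by
    intro P
    rw [hD, Subgroup.normalClosure, Subgroup.closure_le]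
    intro y hy
    rw [Group.mem_conjugatesOfSet_iff] at hy
    obtain ⟨c', hc', hconj⟩ := hy
    rw [Set.mem_singleton_iff] at hc'; subst hc'
    obtain ⟨u, rfl⟩ := isConj_iff.mp hconj
    apply mem_sylow_of_index_pow p _ k _ a _ P
    · rw [orderOf_conj']; exact hco
    · rw [index_centralizer_conj]; exact hca
  obtain ⟨P0⟩ : Nonempty (Sylow p G) := inferInstance
  have hDp : IsPGroup p D := P0.isPGroup'.to_le (hDle P0)
  haveI hDn : D.Normal := Subgroup.normalClosure_normal
  have hcD : c ∈ D := Subgroup.subset_normalClosure (Set.mem_singleton c)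
  set U := H ⊔ D with hU
  have hUp : IsPGroup p U := IsPGroup.to_sup_of_normal_right hH hDp
  have hconjU : ∀ n ∈ Subgroup.normalizer (H : Set G), ∀ u ∈ U, n * u * n⁻¹ ∈ U := by
    intro n hn u hu
    have hu' : u ∈ ((H ⊔ D : Subgroup G) : Set G) := hu
    rw [Subgroup.mul_normal] at hu'
    obtain ⟨h, hh, d, hd, rfl⟩ := hu'
    have e : n * (h * d) * n⁻¹ = (n * h * n⁻¹) * (n * d * n⁻¹) := by group
    rw [e]
    exact U.mul_mem (Subgroup.mem_sup_left ((Subgroup.mem_normalizer_iff.mp hn h).mp hh))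
      (Subgroup.mem_sup_right (hDn.conj_mem d hd n))
  have hgU : g ∈ Subgroup.normalizer (U : Set G) := by
    rw [Subgroup.mem_normalizer_iff]
    intro u
    constructor
    · exact hconjU g hgN u
    · intro hu
      have := hconjU g⁻¹ ((Subgroup.normalizer (H : Set G)).inv_mem hgN) _ hu
      have e : g⁻¹ * (g * u * g⁻¹) * g⁻¹⁻¹ = u := by group
      rwa [e] at this
  have hcU : c ∈ U := Subgroup.mem_sup_right hcD
  have hPc : IsPGroup p (Subgroup.zpowers c) := by
    apply IsPGroup.of_card (n := k); rw [Nat.card_zpowers, hco]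
  have hqpc : (q ^ j).Coprime p := Nat.Coprime.pow_left j ((Nat.coprime_primes hq hp).mpr hqp)
  have hQg : (Nat.card (Subgroup.zpowers g)).Coprime p := by
    rw [Nat.card_zpowers, hgo]; exact hqpc
  have hPQ : Subgroup.zpowers c ≤ Subgroup.centralizer ((Subgroup.zpowers g : Subgroup G) : Set G) := by
    rw [Subgroup.zpowers_le, Subgroup.mem_centralizer_iff]
    intro z hz
    obtain ⟨i, rfl⟩ := Subgroup.mem_zpowers_iff.mp hz
    exact ((show Commute g c from hcg).zpow_left i).eq
  have hPU : Subgroup.zpowers c ≤ Subgroup.normalizer (U : Set G) := by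
    rw [Subgroup.zpowers_le]; exact Subgroup.le_normalizer hcU
  have hQU : Subgroup.zpowers g ≤ Subgroup.normalizer (U : Set G) := by
    rw [Subgroup.zpowers_le]; exact hgU
  have hC : U ⊓ Subgroup.centralizer ((Subgroup.zpowers c : Subgroup G) : Set G) ≤
      Subgroup.centralizer ((Subgroup.zpowers g : Subgroup G) : Set G) := by
    rintro e ⟨heU, heC⟩
    have hec : e * c = c * e :=
      ((Subgroup.mem_centralizer_iff.mp heC) c (Subgroup.mem_zpowers c)).symm
    obtain ⟨j', hj'⟩ := hUp ⟨e, heU⟩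
    have hej : e ^ (p ^ j') = 1 := by
      have := congrArg Subtype.val hj'
      simpa using this
    have hge : g * e = e * g :=
      commute_in_centralizer p a hmax c k hco hca g hcg (by rw [hgo]; exact hqpc) e hec j' hej
    rw [Subgroup.mem_centralizer_iff]
    intro z hz
    obtain ⟨i, rfl⟩ := Subgroup.mem_zpowers_iff.mp hz
    exact ((show Commute g e from hge).zpow_left i).eq
  have hfin := Cfsg.Agent.S0028.result p (Subgroup.zpowers c) (Subgroup.zpowers g) U hPc hQg hUp
    hPQ hPU hQU hC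
  have hgCU : g ∈ Subgroup.centralizer (U : Set G) := hfin (Subgroup.mem_zpowers g)
  rw [Subgroup.mem_centralizer_iff] at hgCU ⊢
  intro h hh
  exact hgCU h (Subgroup.mem_sup_left hh)

theorem main [Finite G] (p : ℕ) [Fact p.Prime]
    (a : ℕ) (hmax : ∀ y : G, ¬ p ^ (a + 1) ∣ (Subgroup.centralizer ({y} : Set G)).index)
    (hx : ∃ x : G, (∃ k : ℕ, orderOf x = p ^ k) ∧ (Subgroup.centralizer ({x} : Set G)).index = p ^ a) :
    Cfsg.HasNormalPComplement p G := by
  have hp : p.Prime := Fact.out
  obtain ⟨x, ⟨k, hk⟩, hxa⟩ := hx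
  apply Cfsg.Agent.Lib.Helper71.hasNormalPComplement_of_forall_coprime_centralize p
  intro H hH g hgN hgcop
  set Z := Subgroup.zpowers g with hZ
  set K := (Subgroup.centralizer (H : Set G)).subgroupOf Z with hK
  have hKtop : K = ⊤ := by
    apply Cfsg.Agent.S3986.eq_top_of_forall_primePow_mem
    intro q j z hq hzo
    rw [hK, Subgroup.mem_subgroupOf]
    have hzo' : orderOf (z : G) = q ^ j := by rw [Subgroup.orderOf_coe]; exact hzo
    have hzN : (z : G) ∈ Subgroup.normalizer (H : Set G) := by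
      have : Z ≤ Subgroup.normalizer (H : Set G) := by
        rw [hZ, Subgroup.zpowers_le]; exact hgN
      exact this z.2
    by_cases hqp : q = p
    · subst hqp
      -- order of z divides order of g, coprime to p
      have hdvd : orderOf (z : G) ∣ orderOf g := orderOf_dvd_of_mem_zpowers z.2
      have h1 : (orderOf (z : G)).Coprime q := Nat.Coprime.coprime_dvd_left hdvd hgcop
      rw [hzo'] at h1
      have hj0 : j = 0 := by
        by_contra hne
        have : q ∣ q ^ j := dvd_pow_self q hne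
        have := Nat.Coprime.eq_one_of_dvd h1.symm this
        exact hq.one_lt.ne' this
      rw [hj0, pow_zero, orderOf_eq_one_iff] at hzo'
      rw [hzo']; exact Subgroup.one_mem _
    · exact key p a hmax x k hk hxa H hH q hq hqp j (z : G) hzo' hzN
  have hgK : (⟨g, Subgroup.mem_zpowers g⟩ : Z) ∈ K := by rw [hKtop]; exact Subgroup.mem_top _
  rw [hK, Subgroup.mem_subgroupOf] at hgK
  exact hgK


end helpers

/-- Let G be a finite group, p a prime and p^a the largest power of p dividing the size of any conjugacy class of G. If some element of p-power order has a conjugacy class of size exactly p^a, then G has a normal p-complement. -/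
theorem result {G : Type*} [Group G] [Finite G] (p : ℕ) [Fact p.Prime]
    (a : ℕ) (hmax : ∀ y : G, ¬ p ^ (a + 1) ∣ (Subgroup.centralizer ({y} : Set G)).index)
    (hx : ∃ x : G, (∃ k : ℕ, orderOf x = p ^ k) ∧ (Subgroup.centralizer ({x} : Set G)).index = p ^ a) :
    Cfsg.HasNormalPComplement p G := by
  exact main p a hmax hx

end Cfsg.Agent.S4127
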