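import Cfsg.Statements.S4126
import Cfsg.Agent.S4127
import Cfsg.Agent.S0093
import Cfsg.Agent.S0121
import Cfsg.Agent.Lib.Helper1.PGroupMax

set_option autoImplicit false
open Cfsg

namespace Cfsg.Agent.S4126

section helpers
open scoped commutatorElement

variable {G : Type*} [Group G]

/-- L1: if `e = [y,w]` is a `p`-element commuting with the `p'`-element `y` then `e = 1` -/
theorem eq_one_of_comm_comm (p : ℕ) (y w : G) (hy : (orderOf y).Coprime p) (j : ℕ)
    (he : (y * w * y⁻¹ * w⁻¹) ^ (p ^ j) = 1) (hye : Commute y (y * w * y⁻¹ * w⁻¹)) :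
    y * w = w * y := by
  set e := y * w * y⁻¹ * w⁻¹ with hedef
  have hconj : y * w * y⁻¹ = e * w := by rw [hedef]; group
  have hpow : ∀ k : ℕ, y ^ k * w * (y ^ k)⁻¹ = e ^ k * w := by
    intro k
    induction k with
    | zero => simp
    | succ k ih =>
      have hk : Commute y (e ^ k) := hye.pow_right k
      calc y ^ (k + 1) * w * (y ^ (k + 1))⁻¹
          = y * (y ^ k * w * (y ^ k)⁻¹) * y⁻¹ := by rw [pow_succ']; group
        _ = y * (e ^ k * w) * y⁻¹ := by rw [ih]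
        _ = (y * e ^ k) * w * y⁻¹ := by group
        _ = (e ^ k * y) * w * y⁻¹ := by rw [hk.eq]
        _ = e ^ k * (y * w * y⁻¹) := by group
        _ = e ^ k * (e * w) := by rw [hconj]
        _ = e ^ (k + 1) * w := by rw [pow_succ]; group
  have h1 := hpow (orderOf y)
  rw [pow_orderOf_eq_one] at h1
  have h2 : e ^ orderOf y = 1 := by
    have : e ^ orderOf y * w = w := by rw [← h1]; group
    exact mul_eq_right.mp this
  have h3 : orderOf e ∣ orderOf y := orderOf_dvd_of_pow_eq_one h2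
  have h4 : orderOf e ∣ p ^ j := orderOf_dvd_of_pow_eq_one he
  have h5 : orderOf e = 1 := by
    have hc : (orderOf y).Coprime (p ^ j) := Nat.Coprime.pow_right j hy
    exact Nat.eq_one_of_dvd_coprimes hc h3 h4
  have h6 : e = 1 := orderOf_eq_one_iff.mp h5
  have : y * w * y⁻¹ = w := by rw [hconj, h6, one_mul]
  calc y * w = (y * w * y⁻¹) * y := by group
    _ = w * y := by rw [this]

/-- `b^n a = c^n a b^n` where `c = [b,a]` commutes with `a` and `b`. -/
theorem pow_mul_comm_formula (a b : G) (hca : Commute (b * a * b⁻¹ * a⁻¹) a)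
    (hcb : Commute (b * a * b⁻¹ * a⁻¹) b) (n : ℕ) :
    b ^ n * a = (b * a * b⁻¹ * a⁻¹) ^ n * a * b ^ n := by
  set c := b * a * b⁻¹ * a⁻¹ with hc
  have hba : b * a = c * a * b := by rw [hc]; group
  induction n with
  | zero => simp
  | succ n ih =>
    have h1 : Commute (c ^ n) b := hcb.pow_left n
    have h2 : Commute (c ^ n) a := hca.pow_left n
    calc b ^ (n + 1) * a = b * (b ^ n * a) := by rw [pow_succ']; group
      _ = b * (c ^ n * a * b ^ n) := by rw [ih]
      _ = (b * c ^ n) * a * b ^ n := by group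
      _ = (c ^ n * b) * a * b ^ n := by rw [h1.eq]
      _ = c ^ n * (b * a) * b ^ n := by group
      _ = c ^ n * (c * a * b) * b ^ n := by rw [hba]
      _ = c ^ (n + 1) * a * b ^ (n + 1) := by rw [pow_succ, pow_succ]; group

/-- power formula in class 2 -/
theorem mul_pow_formula (a b : G) (hca : Commute (b * a * b⁻¹ * a⁻¹) a)
    (hcb : Commute (b * a * b⁻¹ * a⁻¹) b) (n : ℕ) :
    (a * b) ^ n = a ^ n * b ^ n * (b * a * b⁻¹ * a⁻¹) ^ (n * (n - 1) / 2) := by
  set c := b * a * b⁻¹ * a⁻¹ with hc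
  induction n with
  | zero => simp
  | succ n ih =>
    have hT : (n + 1) * (n + 1 - 1) / 2 = n * (n - 1) / 2 + n := by
      have h2 : (n + 1) * (n + 1 - 1) = n * (n - 1) + 2 * n := by
        cases n with
        | zero => simp
        | succ m => simp; ring
      rw [h2, Nat.add_mul_div_left _ _ (by norm_num : 0 < 2)]
    have hf := pow_mul_comm_formula a b hca hcb n
    have hcn : ∀ k : ℕ, Commute (c ^ k) a := fun k => hca.pow_left k
    have hcnb : ∀ k : ℕ, Commute (c ^ k) b := fun k => hcb.pow_left k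
    have hcan : ∀ k m : ℕ, Commute (c ^ k) (a ^ m) := fun k m => (hcn k).pow_right m
    have hcbn : ∀ k m : ℕ, Commute (c ^ k) (b ^ m) := fun k m => (hcnb k).pow_right m
    calc (a * b) ^ (n + 1) = (a * b) ^ n * (a * b) := pow_succ _ _
      _ = a ^ n * b ^ n * c ^ (n * (n - 1) / 2) * (a * b) := by rw [ih]
      _ = a ^ n * b ^ n * (c ^ (n * (n - 1) / 2) * a) * b := by group
      _ = a ^ n * b ^ n * (a * c ^ (n * (n - 1) / 2)) * b := by rw [(hcn _).eq]
      _ = a ^ n * (b ^ n * a) * (c ^ (n * (n - 1) / 2) * b) := by group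
      _ = a ^ n * (c ^ n * a * b ^ n) * (b * c ^ (n * (n - 1) / 2)) := by
          rw [hf, (hcnb _).eq]
      _ = (a ^ n * c ^ n) * a * b ^ (n + 1) * c ^ (n * (n - 1) / 2) := by
          rw [pow_succ b]; group
      _ = (c ^ n * a ^ n) * a * b ^ (n + 1) * c ^ (n * (n - 1) / 2) := by
          rw [(hcan n n).eq]
      _ = c ^ n * (a ^ (n + 1) * b ^ (n + 1)) * c ^ (n * (n - 1) / 2) := by
          rw [pow_succ a]; group
      _ = a ^ (n + 1) * b ^ (n + 1) * c ^ n * c ^ (n * (n - 1) / 2) := by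
          rw [((hcan n (n+1)).mul_right (hcbn n (n+1))).eq]
      _ = a ^ (n + 1) * b ^ (n + 1) * c ^ ((n + 1) * (n + 1 - 1) / 2) := by
          rw [hT, pow_add c, mul_assoc (a ^ (n + 1) * b ^ (n + 1))]
          congr 1
          exact ((Commute.refl c).pow_pow _ _).eq

/-- chain lemma: if the `G`-classes of the elements of the normal `p`-subgroup `M` are `P`-classes,
then every `p'`-element centralises `M`. -/
theorem chain [Finite G] (p : ℕ) [Fact p.Prime] (P : Sylow p G) (M : Subgroup G) [M.Normal]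
    (hMP : M ≤ (P : Subgroup G)) (X : Set G)
    (hX : ∀ x ∈ X, ∀ g : G, ∃ u ∈ (P : Subgroup G), g * x * g⁻¹ = u * x * u⁻¹)
    (hM : ∀ w ∈ M, w ≠ 1 → w ∈ X) (y : G) (hy : (orderOf y).Coprime p) :
    ∀ w ∈ M, y * w = w * y := by
  have key : ∀ i : ℕ, ∀ w : (P : Subgroup G),
      w ∈ Subgroup.upperCentralSeries (P : Subgroup G) i →
      (w : G) ∈ M → y * (w : G) = (w : G) * y := by
    intro i
    induction i with
    | zero =>
      intro w hw _
      rw [Subgroup.upperCentralSeries_zero, Subgroup.mem_bot] at hw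
      rw [hw]; simp
    | succ i ih =>
      intro w hw hwM
      by_cases hw1 : (w : G) = 1
      · rw [hw1]; simp
      obtain ⟨u, hu, huw⟩ := hX (w : G) (hM _ hwM hw1) y
      have he : y * (w : G) * y⁻¹ * (w : G)⁻¹ = u * (w : G) * u⁻¹ * (w : G)⁻¹ := by rw [huw]
      have hmem := (Subgroup.mem_upperCentralSeries_succ_iff).mp hw ⟨u, hu⟩
      have hmem' := Subgroup.inv_mem _ hmem
      set e' : (P : Subgroup G) := (w * ⟨u, hu⟩ * w⁻¹ * (⟨u, hu⟩ : (P : Subgroup G))⁻¹)⁻¹ with he'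
      have hcoe : (e' : G) = u * (w : G) * u⁻¹ * (w : G)⁻¹ := by
        rw [he']; simp [mul_assoc]
      have heM : (e' : G) ∈ M := by
        rw [hcoe]
        exact M.mul_mem (Subgroup.Normal.conj_mem inferInstance _ hwM u) (M.inv_mem hwM)
      have hcomm := ih e' hmem' heM
      obtain ⟨j, hj⟩ := P.isPGroup' e'
      have hj' : (e' : G) ^ p ^ j = 1 := by
        have := congrArg Subtype.val hj
        simpa using this
      rw [hcoe, ← he] at hj' hcomm
      exact eq_one_of_comm_comm p y (w : G) hy j hj' hcomm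
  intro w hw
  haveI : Group.IsNilpotent (P : Subgroup G) := P.isPGroup'.isNilpotent
  obtain ⟨n, hn⟩ := Group.IsNilpotent.nilpotent (G := (P : Subgroup G))
  have := key n ⟨w, hMP hw⟩ (by rw [hn]; exact Subgroup.mem_top _) hw
  exact this

/-- `G = C K` when the indices are coprime -/
theorem exists_mul_of_coprime_index [Finite G] (C K : Subgroup G)
    (hcop : C.index.Coprime K.index) (g : G) : ∃ c ∈ C, ∃ u ∈ K, g = c * u := by
  have horb : MulAction.orbit G ((1 : G) : G ⧸ C) = Set.univ := MulAction.orbit_eq_univ G _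
  have hc : ((MulAction.orbit G ((1 : G) : G ⧸ C)).ncard).Coprime K.index := by
    rw [horb, Set.ncard_univ, ← Subgroup.index_eq_card]; exact hcop
  obtain ⟨k, hk, hkg⟩ := Cfsg.Agent.S4176.exists_mem_smul_eq_of_coprime ((1 : G) : G ⧸ C) K hc
    ((g⁻¹ : G) : G ⧸ C) (by rw [horb]; trivial)
  -- k • 1C = g⁻¹ C  →  k⁻¹ g⁻¹ ∈ C
  have h1 : ((k * 1 : G) : G ⧸ C) = ((g⁻¹ : G) : G ⧸ C) := hkg
  rw [mul_one, QuotientGroup.eq] at h1
  refine ⟨(k⁻¹ * g⁻¹)⁻¹, C.inv_mem h1, k⁻¹, K.inv_mem hk, ?_⟩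
  group

/-- `p`-th powers lie in the Frattini subgroup of a finite `p`-group. -/
theorem pow_p_mem_frattini {P : Type*} [Group P] [Finite P] {p : ℕ} [Fact p.Prime]
    (hP : IsPGroup p P) (x : P) : x ^ p ∈ frattini P := by
  unfold frattini Order.radical
  rw [Subgroup.mem_iInf]
  intro M
  rw [Subgroup.mem_iInf]
  intro hM
  have hM : IsCoatom M := hM
  have hn : M.Normal := Cfsg.Agent.Lib.Helper1.coatom_normal_of_isPGroup hP hM
  have hi : M.index = p := Cfsg.Agent.Lib.Helper1.coatom_index_of_isPGroup hP hM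
  have hcard : Nat.card (P ⧸ M) = p := by rw [← hi]; rfl
  rw [← QuotientGroup.eq_one_iff]
  have h := pow_card_eq_one' (G := P ⧸ M) (x := (x : P ⧸ M))
  rw [hcard] at h
  simpa using h

/-- commutator has order dividing `p` -/
theorem comm_pow_eq_one (a b : G) (hca : Commute (b * a * b⁻¹ * a⁻¹) a)
    (hcb : Commute (b * a * b⁻¹ * a⁻¹) b) (n : ℕ) (hb : Commute (b ^ n) a) :
    (b * a * b⁻¹ * a⁻¹) ^ n = 1 := by
  have h := pow_mul_comm_formula a b hca hcb n
  rw [hb.eq, mul_assoc] at h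
  exact mul_eq_right.mp h.symm

theorem mul_pow_eq (a b : G) (hca : Commute (b * a * b⁻¹ * a⁻¹) a)
    (hcb : Commute (b * a * b⁻¹ * a⁻¹) b) (p : ℕ) (hb : Commute (b ^ p) a) (n : ℕ)
    (hn : p ∣ n * (n - 1) / 2) : (a * b) ^ n = a ^ n * b ^ n := by
  rw [mul_pow_formula a b hca hcb n]
  obtain ⟨k, hk⟩ := hn
  rw [hk, pow_mul, comm_pow_eq_one a b hca hcb p hb, one_pow, mul_one]

/-- the subgroup of elements of `C` of order dividing `n`, for `C` of class `≤ 2` with central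
`p`-th powers -/
def omegaSub (C : Subgroup G) (p n : ℕ)
    (f1 : ∀ a ∈ C, ∀ b ∈ C, ∀ t ∈ C, Commute (a * b * a⁻¹ * b⁻¹) t)
    (f2 : ∀ a ∈ C, ∀ t ∈ C, Commute (a ^ p) t) (hn : p ∣ n * (n - 1) / 2) : Subgroup G where
  carrier := {x | x ∈ C ∧ x ^ n = 1}
  one_mem' := ⟨C.one_mem, one_pow n⟩
  mul_mem' := by
    rintro a b ⟨ha, ha'⟩ ⟨hb, hb'⟩
    refine ⟨C.mul_mem ha hb, ?_⟩
    rw [mul_pow_eq a b (f1 b hb a ha a ha) (f1 b hb a ha b hb) p (f2 b hb a ha) n hn, ha', hb',
      one_mul]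
  inv_mem' := by
    rintro a ⟨ha, ha'⟩
    exact ⟨C.inv_mem ha, by rw [inv_pow, ha', inv_one]⟩

theorem mem_omegaSub (C : Subgroup G) (p n : ℕ)
    (f1 : ∀ a ∈ C, ∀ b ∈ C, ∀ t ∈ C, Commute (a * b * a⁻¹ * b⁻¹) t)
    (f2 : ∀ a ∈ C, ∀ t ∈ C, Commute (a ^ p) t) (hn : p ∣ n * (n - 1) / 2) (x : G) :
    x ∈ omegaSub C p n f1 f2 hn ↔ x ∈ C ∧ x ^ n = 1 := Iff.rfl

theorem omegaSub_normal (C : Subgroup G) [hCn : C.Normal] (p n : ℕ)
    (f1 : ∀ a ∈ C, ∀ b ∈ C, ∀ t ∈ C, Commute (a * b * a⁻¹ * b⁻¹) t)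
    (f2 : ∀ a ∈ C, ∀ t ∈ C, Commute (a ^ p) t) (hn : p ∣ n * (n - 1) / 2) :
    (omegaSub C p n f1 f2 hn).Normal := by
  constructor
  rintro x ⟨hx, hx'⟩ g
  refine ⟨hCn.conj_mem x hx g, ?_⟩
  rw [conj_pow, hx']; group

theorem centralizes_of_centralizes_omega (p : ℕ) [Fact p.Prime] (C : Subgroup G)
    [hCn : C.Normal] (hC : IsPGroup p C)
    (f1 : ∀ a ∈ C, ∀ b ∈ C, ∀ t ∈ C, Commute (a * b * a⁻¹ * b⁻¹) t)
    (f2 : ∀ a ∈ C, ∀ t ∈ C, Commute (a ^ p) t) (k : ℕ) (hk : 1 ≤ k)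
    (hn : p ∣ p ^ k * (p ^ k - 1) / 2)
    (y : G) (hy : (orderOf y).Coprime p)
    (hE : ∀ x ∈ C, x ^ (p ^ k) = 1 → y * x = x * y) : ∀ x ∈ C, y * x = x * y := by
  have hpk : p ^ k = p * p ^ (k - 1) := by
    rw [← pow_succ']; congr 1; omega
  have hpel : ∀ x ∈ C, ∃ j : ℕ, x ^ (p ^ j) = 1 := by
    intro x hx
    obtain ⟨j, hj⟩ := hC ⟨x, hx⟩
    refine ⟨j, ?_⟩
    have := congrArg Subtype.val hj
    simpa using this
  -- (7a)
  have h7a : ∀ j : ℕ, ∀ z ∈ C, (∀ t ∈ C, Commute z t) → z ^ (p ^ j) = 1 → y * z = z * y := by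
    intro j
    induction j with
    | zero =>
      intro z _ _ hz1
      rw [pow_zero, pow_one] at hz1
      rw [hz1]; simp
    | succ j ih =>
      intro z hz hzc hz1
      have hzp : y * z ^ p = z ^ p * y := by
        apply ih (z ^ p) (C.pow_mem hz p) (fun t ht => (hzc t ht).pow_left p)
        rw [← pow_mul, ← pow_succ']; exact hz1
      have haC : y * z * y⁻¹ ∈ C := hCn.conj_mem z hz y
      have hcomm : Commute (y * z * y⁻¹) z⁻¹ := ((hzc _ haC).symm).inv_right
      have hep : (y * z * y⁻¹ * z⁻¹) ^ p = 1 := by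
        rw [hcomm.mul_pow, conj_pow, inv_pow, hzp]; group
      have heC : y * z * y⁻¹ * z⁻¹ ∈ C := C.mul_mem haC (C.inv_mem hz)
      have hepk : (y * z * y⁻¹ * z⁻¹) ^ (p ^ k) = 1 := by
        rw [hpk, pow_mul, hep, one_pow]
      have hye := hE _ heC hepk
      exact eq_one_of_comm_comm p y z hy 1 (by rw [pow_one]; exact hep) hye
  intro x hx
  have haC : y * x * y⁻¹ ∈ C := hCn.conj_mem x hx y
  have hbC : x⁻¹ ∈ C := C.inv_mem hx
  have hzc : ∀ t ∈ C, Commute (x ^ (p ^ k)) t := by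
    intro t ht
    rw [hpk, pow_mul]
    exact (f2 x hx t ht).pow_left _
  obtain ⟨j, hj⟩ := hpel _ (C.pow_mem hx (p ^ k))
  have hyz := h7a j _ (C.pow_mem hx (p ^ k)) hzc hj
  have hepk : (y * x * y⁻¹ * x⁻¹) ^ (p ^ k) = 1 := by
    rw [mul_pow_eq (y * x * y⁻¹) x⁻¹ (f1 _ hbC _ haC _ haC) (f1 _ hbC _ haC _ hbC) p
      (f2 _ hbC _ haC) (p ^ k) hn, conj_pow, inv_pow, hyz]
    group
  have heC : y * x * y⁻¹ * x⁻¹ ∈ C := C.mul_mem haC hbC
  have hye := hE _ heC hepk
  obtain ⟨j', hj'⟩ := hpel _ heC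
  exact eq_one_of_comm_comm p y x hy j' hj' hye

theorem exists_omega [Finite G] (p : ℕ) [Fact p.Prime] (k : ℕ) (hk : 1 ≤ k)
    (hn : p ∣ p ^ k * (p ^ k - 1) / 2)
    (N : Subgroup G) [hNn : N.Normal] (hN : IsPGroup p N) :
    ∃ E : Subgroup G, E.Normal ∧ E ≤ N ∧ (∀ x ∈ E, x ^ (p ^ k) = 1) ∧
      ∀ y : G, (orderOf y).Coprime p → (∀ x ∈ E, y * x = x * y) →
        ∀ x ∈ N, y * x = x * y := by
  obtain ⟨H, hHc, h1, h2, h3⟩ := Cfsg.Agent.S0093.result (P := N) hN
  haveI := hHc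
  set C := H.map N.subtype with hCdef
  haveI hCn : C.Normal := ConjAct.normal_of_characteristic_of_normal
  have hCN : C ≤ N := by
    rintro _ ⟨x, _, rfl⟩; exact x.2
  have hCp : IsPGroup p C := hN.to_le hCN
  have f1 : ∀ a ∈ C, ∀ b ∈ C, ∀ t ∈ C, Commute (a * b * a⁻¹ * b⁻¹) t := by
    rintro _ ⟨a, ha, rfl⟩ _ ⟨b, hb, rfl⟩ _ ⟨t, ht, rfl⟩
    have hc : ⁅a, b⁆ ∈ ⁅H, (⊤ : Subgroup N)⁆ :=
      Subgroup.commutator_mem_commutator ha (Subgroup.mem_top b)
    have hc2 := (h2 hc).2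
    have h := (Subgroup.mem_centralizer_iff.mp hc2) t ht
    have h' := congrArg Subtype.val h
    rw [commutatorElement_def] at h'
    simp only [Subgroup.coe_mul, Subgroup.coe_inv] at h'
    exact h'.symm
  have f2 : ∀ a ∈ C, ∀ t ∈ C, Commute (a ^ p) t := by
    rintro _ ⟨a, ha, rfl⟩ _ ⟨t, ht, rfl⟩
    have hfr : (⟨a, ha⟩ : H) ^ p ∈ frattini H := pow_p_mem_frattini (hN.to_subgroup H) _
    have hm : a ^ p ∈ (frattini H).map H.subtype := ⟨_, hfr, rfl⟩
    have h := (Subgroup.mem_centralizer_iff.mp (h1 hm)) t ht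
    have h' := congrArg Subtype.val h
    simp only [Subgroup.coe_mul, Subgroup.coe_pow] at h'
    exact h'.symm
  refine ⟨omegaSub C p (p ^ k) f1 f2 hn, omegaSub_normal C p (p ^ k) f1 f2 hn, ?_, ?_, ?_⟩
  · intro x hx; exact hCN hx.1
  · intro x hx; exact hx.2
  · intro y hy hyE
    have hyC : ∀ x ∈ C, y * x = x * y :=
      centralizes_of_centralizes_omega p C hCp f1 f2 k hk hn y hy
        (fun x hx hx1 => hyE x ⟨hx, hx1⟩)
    have ha : (orderOf (MulAut.conjNormal y : MulAut N)).Coprime p :=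
      Nat.Coprime.coprime_dvd_left (orderOf_map_dvd _ y) hy
    have htriv : ∀ x ∈ H, (MulAut.conjNormal y : MulAut N) x = x := by
      intro x hx
      apply Subtype.ext
      rw [MulAut.conjNormal_apply]
      have := hyC (x : G) ⟨x, hx, rfl⟩
      rw [this]; group
    have h1' := Cfsg.Agent.S0121.result hN H hHc h1 h2 h3 _ ha htriv
    intro x hx
    have := congrArg (fun f : MulAut N => ((f ⟨x, hx⟩ : N) : G)) h1'
    simp only [MulAut.conjNormal_apply, MulAut.one_apply] at this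
    calc y * x = (y * x * y⁻¹) * y := by group
      _ = x * y := by rw [this]

theorem main [Finite G] (p : ℕ) [Fact p.Prime]
    (h : ∀ x : G, (orderOf x = p ∨ (p = 2 ∧ orderOf x = 4)) →
      ∃ a : ℕ, (Subgroup.centralizer ({x} : Set G)).index = p ^ a) :
    Cfsg.HasNormalPComplement p G := by
  have hp : p.Prime := Fact.out
  obtain ⟨k, hk, hn, hkX⟩ : ∃ k : ℕ, 1 ≤ k ∧ p ∣ p ^ k * (p ^ k - 1) / 2 ∧
      ∀ (G' : Type _) [Group G'] (x : G'), x ^ (p ^ k) = 1 → x ≠ 1 →
        (orderOf x = p ∨ (p = 2 ∧ orderOf x = 4)) := by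
    by_cases h2 : p = 2
    · refine ⟨2, by norm_num, ?_, ?_⟩
      · subst h2; norm_num
      · intro G' _ x hx hx1
        subst h2
        have hd : orderOf x ∣ 2 ^ 2 := orderOf_dvd_of_pow_eq_one hx
        obtain ⟨i, hi, hxi⟩ := (Nat.dvd_prime_pow Nat.prime_two).mp hd
        interval_cases i
        · exfalso; apply hx1; rw [← orderOf_eq_one_iff]; simpa using hxi
        · left; simpa using hxi
        · right; exact ⟨rfl, by simpa using hxi⟩
    · refine ⟨1, le_refl _, ?_, ?_⟩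
      · rw [pow_one]
        have hodd : 2 ∣ p - 1 := by
          rcases hp.eq_two_or_odd' with h | h
          · exact absurd h h2
          · obtain ⟨m, hm⟩ := h
            exact ⟨m, by omega⟩
        rw [Nat.mul_div_assoc _ hodd]; exact dvd_mul_right _ _
      · intro G' _ x hx hx1
        left
        rw [pow_one] at hx
        exact orderOf_eq_prime hx hx1
  set X : Set G := {x | orderOf x = p ∨ (p = 2 ∧ orderOf x = 4)} with hXdef
  have hXord : ∀ x ∈ X, ∃ j, orderOf x = p ^ j := by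
    rintro x (hx | ⟨h2, hx⟩)
    · exact ⟨1, by rw [pow_one]; exact hx⟩
    · exact ⟨2, by rw [h2]; exact hx⟩
  have hXsyl : ∀ x ∈ X, ∀ P : Sylow p G, x ∈ (P : Subgroup G) := by
    intro x hx P
    obtain ⟨j, hj⟩ := hXord x hx
    obtain ⟨a, ha⟩ := h x hx
    exact Cfsg.Agent.S4127.mem_sylow_of_index_pow p x j hj a ha P
  have hXconj : ∀ x ∈ X, ∀ u : G, u * x * u⁻¹ ∈ X := by
    intro x hx u
    show orderOf (u * x * u⁻¹) = p ∨ (p = 2 ∧ orderOf (u * x * u⁻¹) = 4)
    rw [Cfsg.Agent.S4127.orderOf_conj']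
    exact hx
  obtain ⟨P⟩ : Nonempty (Sylow p G) := inferInstance
  have hXorb : ∀ x ∈ X, ∀ g : G, ∃ u ∈ (P : Subgroup G), g * x * g⁻¹ = u * x * u⁻¹ := by
    intro x hx g
    obtain ⟨a, ha⟩ := h x hx
    have hcop : (Subgroup.centralizer ({x} : Set G)).index.Coprime (P : Subgroup G).index := by
      rw [ha]; apply Nat.Coprime.pow_left; rw [hp.coprime_iff_not_dvd]; exact P.not_dvd_index
    obtain ⟨c, hc, u, hu, hg⟩ := exists_mul_of_coprime_index _ _ hcop g⁻¹
    refine ⟨u⁻¹, inv_mem hu, ?_⟩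
    have hg' : g = u⁻¹ * c⁻¹ := by rw [← inv_inv g, hg]; group
    have hcx : c * x = x * c := Subgroup.mem_centralizer_singleton_iff.mp hc
    have hcx' : c⁻¹ * x * c = x := by
      calc c⁻¹ * x * c = c⁻¹ * (x * c) := by group
        _ = c⁻¹ * (c * x) := by rw [hcx]
        _ = x := by group
    rw [hg']
    calc u⁻¹ * c⁻¹ * x * (u⁻¹ * c⁻¹)⁻¹ = u⁻¹ * (c⁻¹ * x * c) * u⁻¹⁻¹ := by group
      _ = u⁻¹ * x * u⁻¹⁻¹ := by rw [hcx']
  set N := Subgroup.normalClosure X with hNdef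
  have hNP : ∀ Q : Sylow p G, N ≤ (Q : Subgroup G) := by
    intro Q
    rw [hNdef, Subgroup.normalClosure, Subgroup.closure_le]
    intro y hy
    rw [Group.mem_conjugatesOfSet_iff] at hy
    obtain ⟨x, hx, hconj⟩ := hy
    obtain ⟨u, rfl⟩ := isConj_iff.mp hconj
    exact hXsyl _ (hXconj x hx u) Q
  haveI hNn : N.Normal := Subgroup.normalClosure_normal
  have hNp : IsPGroup p N := P.isPGroup'.to_le (hNP P)
  obtain ⟨E, hEn, hEN, hEpow, hEcent⟩ := exists_omega p k hk hn N hNp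
  haveI := hEn
  have hcentE : ∀ y : G, (orderOf y).Coprime p → ∀ x ∈ E, y * x = x * y := by
    intro y hy
    apply chain p P E (hEN.trans (hNP P)) X hXorb _ y hy
    intro w hw hw1
    exact hkX G w (hEpow w hw) hw1
  have hcentX : ∀ y : G, (orderOf y).Coprime p → ∀ x ∈ X, y * x = x * y := by
    intro y hy x hx
    exact hEcent y hy (hcentE y hy) x (Subgroup.subset_normalClosure hx)
  apply Cfsg.Agent.Lib.Helper71.hasNormalPComplement_of_forall_coprime_centralize p
  intro H hH g hgN hgcop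
  haveI hH'n : (H.subgroupOf (Subgroup.normalizer (H : Set G))).Normal :=
    Subgroup.normal_in_normalizer
  have hH'p : IsPGroup p (H.subgroupOf (Subgroup.normalizer (H : Set G))) := hH.comap_subtype
  obtain ⟨E', hE'n, hE'H, hE'pow, hE'cent⟩ := exists_omega p k hk hn
    (H.subgroupOf (Subgroup.normalizer (H : Set G))) hH'p
  have hg' : (orderOf (⟨g, hgN⟩ : Subgroup.normalizer (H : Set G))).Coprime p := by
    rw [Subgroup.orderOf_mk]; exact hgcop
  have hfin := hE'cent ⟨g, hgN⟩ hg' (by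
    intro x hx
    by_cases hx1 : x = 1
    · rw [hx1]; simp
    apply Subtype.ext
    simp only [Subgroup.coe_mul]
    apply hcentX g hgcop
    apply hkX
    · have := congrArg Subtype.val (hE'pow x hx)
      simpa using this
    · intro h; apply hx1; exact Subtype.ext h)
  rw [Subgroup.mem_centralizer_iff]
  intro x hx
  have hxN : x ∈ Subgroup.normalizer (H : Set G) := Subgroup.le_normalizer hx
  have := hfin ⟨x, hxN⟩ (Subgroup.mem_subgroupOf.mpr hx)
  exact (congrArg Subtype.val this).symm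

end helpers

/-- Let G be a finite group and p a prime. Suppose every element of order p, and when p = 2 also every element of order 4, has a conjugacy class of p-power size. Then G has a normal p-complement. -/
theorem result {G : Type*} [Group G] [Finite G] (p : ℕ) [Fact p.Prime]
    (h : ∀ x : G, (orderOf x = p ∨ (p = 2 ∧ orderOf x = 4)) → ∃ a : ℕ, (Subgroup.centralizer ({x} : Set G)).index = p ^ a) :
    Cfsg.HasNormalPComplement p G := by
  exact main p h

end Cfsg.Agent.S4126
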