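import Cfsg.Statements.S0012
import Cfsg.Agent.Lib.Helper1.PGroupMax

set_option autoImplicit false
open Cfsg

namespace Cfsg.Agent.S0012

open Cfsg.Agent.Lib.Helper1

/-- In a finite p-group every commutator and every p-th power lies in the Frattini subgroup, so the Frattini quotient is elementary abelian. -/
theorem result {G : Type*} [Group G] [Finite G] (p : ℕ) [Fact p.Prime]
    (hG : IsPGroup p G) : commutator G ≤ frattini G ∧ ∀ x : G, x ^ p ∈ frattini G := by
  have key : ∀ M : Subgroup G, IsCoatom M → commutator G ≤ M ∧ ∀ x : G, x ^ p ∈ M := by
    intro M hM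
    have hn : M.Normal := coatom_normal_of_isPGroup hG hM
    have hidx : M.index = p := coatom_index_of_isPGroup hG hM
    constructor
    · rw [← Subgroup.Normal.quotient_commutative_iff_commutator_le]
      have hcard : Nat.card (G ⧸ M) = p := by rw [← Subgroup.index_eq_card, hidx]
      have : IsCyclic (G ⧸ M) := isCyclic_of_prime_card hcard
      exact IsCyclic.isMulCommutative
    · intro x
      have := M.pow_index_mem x
      rwa [hidx] at this
  constructor
  · rw [frattini, Order.radical]
    exact le_iInf₂ fun M hM => (key M hM).1
  · intro x
    rw [frattini, Order.radical]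
    simp only [Subgroup.mem_iInf]
    exact fun M hM => (key M hM).2 x

end Cfsg.Agent.S0012
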