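import Mathlib
import Cfsg.Statements.S0123
import Cfsg.Agent.Lib.Lead.Class3
-- import your own Cfsg.Agent.* helpers here

set_option autoImplicit false
open Cfsg
open scoped commutatorElement

namespace Cfsg.Agent.S0123


open Cfsg.Agent.Lib.Lead

/-- class two: the commutator of `y`, `x` and the facts needed for `mul_pow_class2`. -/
lemma class2_setup {R : Type*} [Group R] (hcl : ⁅commutator R, (⊤ : Subgroup R)⁆ = ⊥) (x y : R) :
    y * x = ⁅y, x⁆ * x * y ∧ (∀ g, Commute ⁅y, x⁆ g) ∧ ⁅y, x⁆ ∈ commutator R := by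
  have hc : ⁅y, x⁆ ∈ commutator R := by
    rw [commutator_def]
    exact Subgroup.commutator_mem_commutator (Subgroup.mem_top y) (Subgroup.mem_top x)
  have hcen : commutator R ≤ Subgroup.center R := by
    have := Subgroup.commutator_eq_bot_iff_le_centralizer.mp hcl
    rwa [Subgroup.coe_top, Subgroup.centralizer_univ] at this
  refine ⟨?_, fun g => (Subgroup.mem_center_iff.mp (hcen hc) g).symm, hc⟩
  simp only [commutatorElement_def]; group

lemma mul_pow_eq_one_class2 {R : Type*} [Group R] {p : ℕ} (hp : p.Prime) (h2 : p ≠ 2)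
    (hcl : ⁅commutator R, (⊤ : Subgroup R)⁆ = ⊥) {x y : R}
    (hx : x ^ p = 1) (hy : y ^ p = 1) : (x * y) ^ p = 1 := by
  obtain ⟨h1, hc, -⟩ := class2_setup hcl x y
  have hp2 : p ∣ p.choose 2 := hp.dvd_choose_self (by norm_num) (by have := hp.two_le; omega)
  have h := pow_mul_class2 h1 (hc y) p
  rw [hy, one_mul, mul_one] at h
  have hcp : ⁅y, x⁆ ^ p = 1 := (mul_eq_right.mp h.symm)
  rw [mul_pow_class2 h1 (hc x) (hc y) p, hx, hy]
  obtain ⟨k, hk⟩ := hp2
  rw [hk, pow_mul, hcp]
  simp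
/-- For a p-group of small class relative to p (class ≤ 2 with p odd, or class ≤ 3 with p > 3) whose derived subgroup is generated by elements of order dividing p, the p-th power map is multiplicative. -/
theorem result {R : Type*} [Group R] [Finite R] {p : ℕ} [Fact p.Prime] (hR : IsPGroup p R) (hcl : (p ≠ 2 ∧ ⁅commutator R, (⊤ : Subgroup R)⁆ = ⊥) ∨ (3 < p ∧ ⁅⁅commutator R, (⊤ : Subgroup R)⁆, (⊤ : Subgroup R)⁆ = ⊥)) (hder : commutator R ≤ Subgroup.closure {x : R | x ^ p = 1}) (x y : R) : (x * y) ^ p = x ^ p * y ^ p := by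
  have hpp : p.Prime := Fact.out
  -- every element of the closure has order dividing `p`
  have hexp : ∀ g ∈ Subgroup.closure {x : R | x ^ p = 1}, g ^ p = 1 := by
    intro g hg
    induction hg using Subgroup.closure_induction with
    | mem x hx => exact hx
    | one => exact one_pow p
    | mul x y _ _ hx hy =>
      rcases hcl with ⟨h2, hcl⟩ | ⟨h3, hcl⟩
      · exact mul_pow_eq_one_class2 hpp h2 hcl hx hy
      · exact mul_pow_eq_one_class3 hpp h3 hcl hx hy
    | inv x _ hx => rw [inv_pow, hx, inv_one]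
  rcases hcl with ⟨h2, hcl⟩ | ⟨h3, hcl⟩
  · obtain ⟨h1, hc, hcm⟩ := class2_setup hcl x y
    have hp2 : p ∣ p.choose 2 := hpp.dvd_choose_self (by norm_num) (by have := hpp.two_le; omega)
    rw [mul_pow_class2 h1 (hc x) (hc y) p]
    obtain ⟨k, hk⟩ := hp2
    rw [hk, pow_mul, hexp _ (hder hcm)]
    simp
  · obtain ⟨h1, h2, h3', hd, he, hcm, hdm, hem⟩ := class3_setup hcl x y
    have hp2 : p ∣ p.choose 2 := hpp.dvd_choose_self (by norm_num) (by omega)
    have hp3 : p ∣ p.choose 3 := hpp.dvd_choose_self (by norm_num) h3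
    have hpS : p ∣ ∑ k ∈ Finset.range p, k ^ 2 := prime_dvd_sum_sq hpp h3
    rw [mul_pow_class3 h1 h2 h3' hd he p]
    obtain ⟨k2, hk2⟩ := hp2
    obtain ⟨k3, hk3⟩ := hp3
    obtain ⟨kS, hkS⟩ := hpS
    rw [hk2, hk3, hkS, pow_mul, pow_mul, pow_mul, hexp _ (hder hcm), hexp _ (hder hdm),
      hexp _ (hder hem)]
    simp

end Cfsg.Agent.S0123
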