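import Mathlib
import Cfsg.Statements.S0130
-- import your own Cfsg.Agent.* helpers here

set_option autoImplicit false
open Cfsg
open scoped commutatorElement

namespace Cfsg.Agent.S0130

section Aux

variable {G : Type*} [Group G]



/-- `v^m * u = c^m * u * v^m` when `v * u = c * u * v` and `c` commutes with `u`, `v`. -/
lemma pow_mul_of_comm {u v c : G} (h : v * u = c * u * v) (hcv : Commute c v) (m : ℕ) :
    v ^ m * u = c ^ m * u * v ^ m := by
  induction m with
  | zero => simp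
  | succ m ih =>
    have h1 : v ^ m * c = c * v ^ m := ((hcv.pow_right m).eq).symm
    calc v ^ (m + 1) * u = v ^ m * (v * u) := by rw [pow_succ, mul_assoc]
      _ = v ^ m * (c * u * v) := by rw [h]
      _ = (v ^ m * c) * u * v := by simp only [mul_assoc]
      _ = c * (v ^ m * u) * v := by rw [h1]; simp only [mul_assoc]
      _ = c * (c ^ m * u * v ^ m) * v := by rw [ih]
      _ = c ^ (m + 1) * u * v ^ (m + 1) := by rw [pow_succ' c, pow_succ v]; simp only [mul_assoc]

/-- The class-two power formula. -/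
lemma mul_pow_of_comm {u v c : G} (h : v * u = c * u * v) (hcu : Commute c u) (hcv : Commute c v)
    (m : ℕ) : (u * v) ^ m = u ^ m * v ^ m * c ^ (m.choose 2) := by
  induction m with
  | zero => simp
  | succ m ih =>
    have h1 := pow_mul_of_comm h hcv m
    have e : (m + 1).choose 2 = m + m.choose 2 := by
      rw [Nat.choose_succ_succ, Nat.choose_one_right]
    have c1 : Commute (c ^ (m.choose 2)) u := hcu.pow_left _
    have c2 : Commute (c ^ (m.choose 2)) v := hcv.pow_left _
    have c3 : Commute (c ^ m) u := hcu.pow_left _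
    have c4 : Commute (c ^ m) (u ^ m) := (hcu.pow_left _).pow_right _
    have c5 : Commute (c ^ m) (v ^ m) := (hcv.pow_left _).pow_right _
    have c6 : Commute (c ^ m) v := hcv.pow_left _
    calc (u * v) ^ (m + 1) = (u * v) ^ m * (u * v) := pow_succ _ _
      _ = u ^ m * v ^ m * c ^ (m.choose 2) * (u * v) := by rw [ih]
      _ = u ^ m * (v ^ m * u) * v * c ^ (m.choose 2) := by
          rw [mul_assoc (u ^ m * v ^ m), ← mul_assoc (c ^ (m.choose 2)) u v, c1.eq,
            mul_assoc u, c2.eq]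
          simp only [mul_assoc]
      _ = u ^ m * (c ^ m * u * v ^ m) * v * c ^ (m.choose 2) := by rw [h1]
      _ = u ^ (m + 1) * v ^ (m + 1) * (c ^ m * c ^ (m.choose 2)) := by
          rw [pow_succ u, pow_succ v, c3.eq]
          have : u ^ m * (u * c ^ m * v ^ m) * v = u ^ m * u * (v ^ m * v) * c ^ m := by
            rw [mul_assoc u, c5.eq]
            simp only [mul_assoc]
            rw [c6.eq]
          rw [this]; simp only [mul_assoc]
      _ = u ^ (m + 1) * v ^ (m + 1) * c ^ ((m + 1).choose 2) := by rw [e, pow_add c]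




/-- membership in `A ⊔ zpowers y` for normal `A`. -/
lemma mem_sup_zpowers {A : Subgroup G} [A.Normal] {y g : G} :
    g ∈ A ⊔ Subgroup.zpowers y ↔ ∃ a ∈ A, ∃ j : ℤ, g = a * y ^ j := by
  rw [Subgroup.mem_sup_of_normal_left]
  constructor
  · rintro ⟨a, ha, z, hz, rfl⟩
    obtain ⟨j, rfl⟩ := Subgroup.mem_zpowers_iff.mp hz
    exact ⟨a, ha, j, rfl⟩
  · rintro ⟨a, ha, j, rfl⟩
    exact ⟨a, ha, y ^ j, Subgroup.zpow_mem_zpowers y j, rfl⟩

lemma sup_zpowers_mul_left {A : Subgroup G} {a k : G} (ha : a ∈ A) :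
    A ⊔ Subgroup.zpowers (a * k) = A ⊔ Subgroup.zpowers k := by
  apply le_antisymm
  · refine sup_le le_sup_left ?_
    rw [Subgroup.zpowers_le]
    exact mul_mem (Subgroup.mem_sup_left ha) (Subgroup.mem_sup_right (Subgroup.mem_zpowers k))
  · refine sup_le le_sup_left ?_
    rw [Subgroup.zpowers_le]
    have hk : a⁻¹ * (a * k) ∈ A ⊔ Subgroup.zpowers (a * k) :=
      mul_mem (Subgroup.mem_sup_left (inv_mem ha))
        (Subgroup.mem_sup_right (Subgroup.mem_zpowers _))
    simpa using hk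

/-- `A ⋖ A ⊔ zpowers k` when `k ∉ A`, `k ^ p ∈ A`, `p` prime. -/
lemma covBy_sup_zpowers {A : Subgroup G} [A.Normal] {p : ℕ} (hp : p.Prime) {k : G}
    (hk : k ∉ A) (hkp : k ^ p ∈ A) : A ⋖ A ⊔ Subgroup.zpowers k := by
  constructor
  · refine lt_of_le_of_ne le_sup_left ?_
    intro h
    apply hk
    rw [h]
    exact Subgroup.mem_sup_right (Subgroup.mem_zpowers k)
  · intro M hAM hMB
    obtain ⟨m, hmM, hmA⟩ := SetLike.exists_of_lt hAM
    obtain ⟨a, ha, j, rfl⟩ := mem_sup_zpowers.mp (hMB.le hmM)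
    have hz : k ^ j ∈ M := by
      have : k ^ j = a⁻¹ * (a * k ^ j) := by group
      rw [this]
      exact mul_mem (hAM.le (inv_mem ha)) hmM
    have hzA : k ^ j ∉ A := fun h => hmA (mul_mem ha h)
    have hpj : ¬ (p : ℤ) ∣ j := by
      rintro ⟨t, rfl⟩
      apply hzA
      rw [zpow_mul, zpow_natCast]
      exact zpow_mem hkp t
    have hcop : IsCoprime j (p : ℤ) := by
      have := (Nat.prime_iff_prime_int.mp hp)
      exact (Prime.coprime_iff_not_dvd this).mpr hpj |>.symm
    obtain ⟨s, t, hst⟩ := hcop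
    have hkM : k ∈ M := by
      have : k = (k ^ j) ^ s * (k ^ p) ^ t := by
        rw [← zpow_natCast k p, ← zpow_mul, ← zpow_mul, ← zpow_add, mul_comm j s, mul_comm (p : ℤ) t, hst, zpow_one]
      rw [this]
      exact mul_mem (zpow_mem hz s) (zpow_mem (hAM.le hkp) t)
    have : A ⊔ Subgroup.zpowers k ≤ M := sup_le hAM.le (by rwa [Subgroup.zpowers_le])
    exact absurd (lt_of_lt_of_le hMB this) (lt_irrefl _)

/-- commutators of elements of closures lie in a normal subgroup if those of generators do. -/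
lemma commutator_mem_of_closure {A : Subgroup G} [A.Normal] {S T : Set G}
    (h : ∀ s ∈ S, ∀ t ∈ T, ⁅s, t⁆ ∈ A) {u v : G} (hu : u ∈ Subgroup.closure S)
    (hv : v ∈ Subgroup.closure T) : ⁅u, v⁆ ∈ A := by
  have step1 : ∀ s ∈ S, ∀ v ∈ Subgroup.closure T, ⁅s, v⁆ ∈ A := by
    intro s hs v hv
    induction hv using Subgroup.closure_induction with
    | mem t ht => exact h s hs t ht
    | one => simp
    | mul v1 v2 _ _ h1 h2 =>
      have : ⁅s, v1 * v2⁆ = ⁅s, v1⁆ * (v1 * ⁅s, v2⁆ * v1⁻¹) := by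
        simp only [commutatorElement_def]; group
      rw [this]
      exact mul_mem h1 (Subgroup.Normal.conj_mem inferInstance _ h2 _)
    | inv v _ h1 =>
      rw [commutatorElement_inv_right]
      have : ⁅v, s⁆ ∈ A := by rw [← commutatorElement_inv]; exact inv_mem h1
      have := Subgroup.Normal.conj_mem (inferInstance : A.Normal) _ this v⁻¹
      simpa using this
  induction hu using Subgroup.closure_induction with
  | mem s hs => exact step1 s hs v hv
  | one => simp
  | mul u1 u2 _ _ h1 h2 =>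
    have : ⁅u1 * u2, v⁆ = (u1 * ⁅u2, v⁆ * u1⁻¹) * ⁅u1, v⁆ := by
      simp only [commutatorElement_def]; group
    rw [this]
    exact mul_mem (Subgroup.Normal.conj_mem inferInstance _ h2 _) h1
  | inv u _ h1 =>
    rw [commutatorElement_inv_left]
    have : ⁅v, u⁆ ∈ A := by rw [← commutatorElement_inv]; exact inv_mem h1
    have := Subgroup.Normal.conj_mem (inferInstance : A.Normal) _ this u⁻¹
    simpa using this

/-- In a nilpotent group, a subgroup `K` normalised (in the commutator sense) by `N₁`, not inside `A`,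
contains an element outside `A` all of whose commutators with `N₁` lie in `A`. -/
lemma exists_central_mod [Group.IsNilpotent G] {K A N₁ : Subgroup G}
    (hnorm : ∀ k ∈ K, ∀ h ∈ N₁, ⁅k, h⁆ ∈ K) {k : G} (hk : k ∈ K) (hkA : k ∉ A) :
    ∃ k' ∈ K, k' ∉ A ∧ ∀ h ∈ N₁, ⁅k', h⁆ ∈ A := by
  obtain ⟨c, hc⟩ := Subgroup.nilpotent_iff_lowerCentralSeries.mp (inferInstance : Group.IsNilpotent G)
  have key : ∀ j i : ℕ, c ≤ i + j → ∀ k ∈ K, k ∉ A → k ∈ (⊤ : Subgroup G).lowerCentralSeries i →
      ∃ k' ∈ K, k' ∉ A ∧ ∀ h ∈ N₁, ⁅k', h⁆ ∈ A := by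
    intro j
    induction j with
    | zero =>
      intro i hi k _ hkA hki
      exfalso
      have : (⊤ : Subgroup G).lowerCentralSeries i ≤ ⊥ := by
        rw [← hc]; exact Subgroup.lowerCentralSeries_antitone _ (by omega)
      have := this hki
      rw [Subgroup.mem_bot] at this
      exact hkA (this ▸ A.one_mem)
    | succ j ih =>
      intro i hi k hk hkA hki
      by_cases hall : ∀ h ∈ N₁, ⁅k, h⁆ ∈ A
      · exact ⟨k, hk, hkA, hall⟩
      · push Not at hall
        obtain ⟨h, hh, hkh⟩ := hall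
        refine ih (i + 1) (by omega) ⁅k, h⁆ (hnorm k hk h hh) hkh ?_
        rw [Subgroup.lowerCentralSeries_succ]
        exact Subgroup.commutator_mem_commutator hki (Subgroup.mem_top h)
  exact key c 0 (by omega) k hk hkA (by simp)

lemma prime_dvd_choose_two {p n : ℕ} (hp : p.Prime) (hn : p ^ n ≠ 2) : p ∣ (p ^ n).choose 2 := by
  rcases Nat.eq_zero_or_pos n with rfl | hn0
  · simp
  have h2 : (p ^ n).choose 2 * 2 = p ^ n * (p ^ n - 1) := by
    rw [Nat.choose_two_right]
    exact Nat.div_mul_cancel (Nat.even_mul_pred_self _).two_dvd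
  rcases hp.eq_two_or_odd' with rfl | hodd
  · have hn2 : 2 ≤ n := by
      rcases Nat.lt_or_ge n 2 with h | h
      · interval_cases n; simp at hn
      · exact h
    obtain ⟨m, rfl⟩ : ∃ m, n = m + 2 := ⟨n - 2, by omega⟩
    have : (2 ^ (m + 2)).choose 2 * 2 = 2 * (2 * (2 ^ m * (2 ^ (m + 2) - 1))) := by
      rw [h2]; ring
    exact ⟨2 ^ m * (2 ^ (m + 2) - 1), by omega⟩
  · have hcop : Nat.Coprime p 2 := by
      exact Nat.coprime_two_right.mpr hodd
    apply hcop.dvd_of_dvd_mul_right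
    rw [h2]
    exact Dvd.dvd.mul_right (dvd_pow_self p (by omega)) _





/-- Basic facts on `B y = A ⊔ zpowers y` for `y` centralising the abelian normal subgroup `A`. -/
lemma B_facts {A : Subgroup G} [A.Normal] (hA : IsMulCommutative A) {p q : ℕ}
    (hAe : ∀ a ∈ A, a ^ q = 1) {y : G} (hyC : y ∈ Subgroup.centralizer (A : Set G))
    (hyp : y ^ p ∈ A) (hyq : y ^ q = 1) :
    (A ⊔ Subgroup.zpowers y ≤ Subgroup.centralizer (A : Set G)) ∧
    (∀ b ∈ A ⊔ Subgroup.zpowers y, ∀ b' ∈ A ⊔ Subgroup.zpowers y, b * b' = b' * b) ∧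
    (∀ b ∈ A ⊔ Subgroup.zpowers y, b ^ q = 1) ∧
    (∀ b ∈ A ⊔ Subgroup.zpowers y, b ^ p ∈ A) := by
  have hAcomm : ∀ a ∈ A, ∀ a' ∈ A, a * a' = a' * a := by
    intro a ha a' ha'
    have := hA.is_comm.comm ⟨a, ha⟩ ⟨a', ha'⟩
    exact congrArg Subtype.val this
  have hAC : A ≤ Subgroup.centralizer (A : Set G) := by
    intro a ha
    rw [Subgroup.mem_centralizer_iff]
    intro a' ha'
    exact hAcomm a' ha' a ha
  have hle : A ⊔ Subgroup.zpowers y ≤ Subgroup.centralizer (A : Set G) :=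
    sup_le hAC (by rwa [Subgroup.zpowers_le])
  have hya : ∀ a ∈ A, Commute y a := by
    intro a ha
    rw [Subgroup.mem_centralizer_iff] at hyC
    exact (hyC a ha).symm
  refine ⟨hle, ?_, ?_, ?_⟩
  · intro b hb b' hb'
    obtain ⟨a, ha, j, rfl⟩ := mem_sup_zpowers.mp hb
    obtain ⟨a', ha', j', rfl⟩ := mem_sup_zpowers.mp hb'
    have c1 : Commute (y ^ j) a' := (hya a' ha').zpow_left j
    have c2 : Commute (y ^ j') a := (hya a ha).zpow_left j'
    have c3 : Commute (y ^ j) (y ^ j') := (Commute.refl y).zpow_zpow j j'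
    have c4 : Commute a a' := hAcomm a ha a' ha'
    have : Commute (a * y ^ j) (a' * y ^ j') :=
      (c4.mul_right c2.symm).mul_left (c1.mul_right c3)
    exact this.eq
  · intro b hb
    obtain ⟨a, ha, j, rfl⟩ := mem_sup_zpowers.mp hb
    have c : Commute a (y ^ j) := ((hya a ha).zpow_left j).symm
    rw [c.mul_pow, hAe a ha, one_mul, ← zpow_natCast, ← zpow_mul, mul_comm, zpow_mul, zpow_natCast, hyq, one_zpow]
  · intro b hb
    obtain ⟨a, ha, j, rfl⟩ := mem_sup_zpowers.mp hb
    have c : Commute a (y ^ j) := ((hya a ha).zpow_left j).symm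
    rw [c.mul_pow]
    refine mul_mem (pow_mem ha p) ?_
    rw [← zpow_natCast, ← zpow_mul, mul_comm, zpow_mul, zpow_natCast]
    exact zpow_mem hyp j

/-- conjugating `A ⊔ zpowers y`. -/
lemma map_conj_B {A : Subgroup G} [A.Normal] (h y : G) :
    (A ⊔ Subgroup.zpowers y).map (MulAut.conj h).toMonoidHom = A ⊔ Subgroup.zpowers (h * y * h⁻¹) := by
  rw [Subgroup.map_sup, MonoidHom.map_zpowers]
  congr 1
  apply le_antisymm
  · rintro _ ⟨a, ha, rfl⟩
    exact Subgroup.Normal.conj_mem inferInstance a ha h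
  · intro a ha
    refine ⟨h⁻¹ * a * h, ?_, ?_⟩
    · have := Subgroup.Normal.conj_mem (inferInstance : A.Normal) a ha h⁻¹
      simpa using this
    · simp [MulAut.conj_apply]; group














lemma mem_B_conj {A : Subgroup G} [A.Normal] (h y g : G) :
    g ∈ A ⊔ Subgroup.zpowers (h * y * h⁻¹) ↔ h⁻¹ * g * h ∈ A ⊔ Subgroup.zpowers y := by
  rw [← map_conj_B, Subgroup.mem_map]
  constructor
  · rintro ⟨b, hb, rfl⟩
    have : h⁻¹ * (MulAut.conj h).toMonoidHom b * h = b := by
      simp [MulAut.conj_apply]; group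
    rwa [this]
  · intro hg
    refine ⟨_, hg, ?_⟩
    simp [MulAut.conj_apply]; group

/-- The elements conjugate to `y` by elements of `N₁` satisfy the hypotheses again. -/
lemma conj_facts {A : Subgroup G} [A.Normal] {p q : ℕ} {y : G}
    (hyC : y ∈ Subgroup.centralizer (A : Set G)) (hyA : y ∉ A)
    (hyp : y ^ p ∈ A) (hyq : y ^ q = 1) (h : G) :
    h * y * h⁻¹ ∈ Subgroup.centralizer (A : Set G) ∧ h * y * h⁻¹ ∉ A ∧
      (h * y * h⁻¹) ^ p ∈ A ∧ (h * y * h⁻¹) ^ q = 1 := by
  refine ⟨Subgroup.Normal.conj_mem inferInstance y hyC h, ?_, ?_, ?_⟩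
  · intro hc
    apply hyA
    have := Subgroup.Normal.conj_mem (inferInstance : A.Normal) _ hc h⁻¹
    simpa [mul_assoc] using this
  · rw [conj_pow]
    exact Subgroup.Normal.conj_mem inferInstance _ hyp h
  · rw [conj_pow, hyq]; simp



end Aux
/-- If A is maximal among the normal abelian subgroups of exponent dividing p^n of a p-group (p^n ≠ 2), then A contains every element of order dividing p^n in its centralizer. -/
theorem result {G : Type*} [Group G] [Finite G] {p : ℕ} [Fact p.Prime] (hG : IsPGroup p G) (n : ℕ) (hn : p ^ n ≠ 2) (A : Subgroup G) [A.Normal] (hA : IsMulCommutative A) (hAe : ∀ a ∈ A, a ^ p ^ n = 1) (hmax : ∀ B : Subgroup G, B.Normal → IsMulCommutative B → (∀ b ∈ B, b ^ p ^ n = 1) → A ≤ B → B = A) (x : G) (hx : x ∈ Subgroup.centralizer (A : Set G)) (hxn : x ^ p ^ n = 1) : x ∈ A := by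
  classical
  have hp : p.Prime := Fact.out
  have : Group.IsNilpotent G := hG.isNilpotent
  by_contra hxA
  -- the family Y
  let Y : Set G := {y | y ∈ Subgroup.centralizer (A : Set G) ∧ y ∉ A ∧ y ^ p ∈ A ∧ y ^ p ^ n = 1}
  have hYne : Y.Nonempty := by
    have hex : ∃ i, x ^ p ^ i ∈ A := ⟨n, by rw [hxn]; exact A.one_mem⟩
    have hi₀ : x ^ p ^ (Nat.find hex) ∈ A := Nat.find_spec hex
    have hi₀pos : Nat.find hex ≠ 0 := by
      intro h0
      rw [h0] at hi₀
      simp at hi₀
      exact hxA hi₀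
    obtain ⟨i, hi⟩ : ∃ i, Nat.find hex = i + 1 := Nat.exists_eq_succ_of_ne_zero hi₀pos
    refine ⟨x ^ p ^ i, pow_mem hx _, ?_, ?_, ?_⟩
    · exact Nat.find_min hex (by omega : i < Nat.find hex)
    · rw [← pow_mul, ← pow_succ, ← hi]; exact hi₀
    · rw [← pow_mul, mul_comm, pow_mul, hxn, one_pow]
  obtain ⟨y, hyY, hymax⟩ := Set.exists_max_image Y
    (fun y => Nat.card (Subgroup.normalizer ((A ⊔ Subgroup.zpowers y : Subgroup G) : Set G)))
    (Set.toFinite Y) hYne
  obtain ⟨hyC, hyA, hyp, hyq⟩ := hyY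
  have hBfacts := B_facts hA hAe hyC hyp hyq
  have hyB : y ∈ A ⊔ Subgroup.zpowers y := Subgroup.mem_sup_right (Subgroup.mem_zpowers y)
  have hNtop : Subgroup.normalizer ((A ⊔ Subgroup.zpowers y : Subgroup G) : Set G) ≠ ⊤ := by
    intro h
    have hBn : (A ⊔ Subgroup.zpowers y).Normal := Subgroup.normalizer_eq_top_iff.mp h
    have hBc : IsMulCommutative (A ⊔ Subgroup.zpowers y : Subgroup G) :=
      ⟨⟨fun ⟨b, hb⟩ ⟨b', hb'⟩ => Subtype.ext (hBfacts.2.1 b hb b' hb')⟩⟩
    have := hmax _ hBn hBc hBfacts.2.2.1 le_sup_left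
    apply hyA
    rw [← this]
    exact hyB
  have hNlt := Group.normalizerCondition_of_isNilpotent _ (lt_top_iff_ne_top.mpr hNtop)
  set N := Subgroup.normalizer ((A ⊔ Subgroup.zpowers y : Subgroup G) : Set G) with hN
  set N₁ := Subgroup.normalizer (N : Set G) with hN₁
  -- F3: conjugates of B lie in N
  have F3 : ∀ h ∈ N₁, A ⊔ Subgroup.zpowers (h * y * h⁻¹) ≤ N := by
    intro h hh g hg
    rw [mem_B_conj] at hg
    have h1 : h⁻¹ * g * h ∈ N := Subgroup.le_normalizer hg
    have := (Subgroup.mem_normalizer_iff.mp hh (h⁻¹ * g * h)).mp h1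
    simpa [mul_assoc] using this
  -- F2: N normalises the conjugates of B
  have F2 : ∀ h ∈ N₁, N ≤ Subgroup.normalizer ((A ⊔ Subgroup.zpowers (h * y * h⁻¹) : Subgroup G) : Set G) := by
    intro h hh m hm
    rw [Subgroup.mem_normalizer_iff]
    intro g
    rw [mem_B_conj, mem_B_conj]
    have hm' : h⁻¹ * m * h ∈ N := by
      have := (Subgroup.mem_normalizer_iff''.mp hh m).mp hm
      exact this
    have := Subgroup.mem_normalizer_iff.mp hm' (h⁻¹ * g * h)
    rw [this]
    have e : h⁻¹ * m * h * (h⁻¹ * g * h) * (h⁻¹ * m * h)⁻¹ = h⁻¹ * (m * g * m⁻¹) * h := by group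
    rw [e]
  -- F4: commutators of conjugates lie in A
  have F4 : ∀ h ∈ N₁, ∀ h' ∈ N₁, ⁅h' * y * h'⁻¹, h * y * h⁻¹⁆ ∈ A := by
    intro h hh h' hh'
    obtain ⟨c1, c2, c3, c4⟩ := conj_facts hyC hyA hyp hyq h
    obtain ⟨d1, d2, d3, d4⟩ := conj_facts hyC hyA hyp hyq h'
    set u := h * y * h⁻¹ with hu
    set v := h' * y * h'⁻¹ with hv
    have huB : u ∈ A ⊔ Subgroup.zpowers u := Subgroup.mem_sup_right (Subgroup.mem_zpowers u)
    have hvB : v ∈ A ⊔ Subgroup.zpowers v := Subgroup.mem_sup_right (Subgroup.mem_zpowers v)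
    have hvN : v ∈ N := F3 h' hh' hvB
    have huN : u ∈ N := F3 h hh huB
    have m1 : ⁅v, u⁆ ∈ A ⊔ Subgroup.zpowers u := by
      have := (Subgroup.mem_normalizer_iff.mp (F2 h hh hvN) u).mp huB
      rw [commutatorElement_def]
      exact mul_mem this (inv_mem huB)
    have m2 : ⁅v, u⁆ ∈ A ⊔ Subgroup.zpowers v := by
      have := (Subgroup.mem_normalizer_iff.mp (F2 h' hh' huN) v).mp hvB
      have e : ⁅v, u⁆ = v * (u * v * u⁻¹)⁻¹ := by rw [commutatorElement_def]; group
      rw [e]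
      exact mul_mem hvB (inv_mem this)
    by_cases hEq : A ⊔ Subgroup.zpowers u = A ⊔ Subgroup.zpowers v
    · have hcomm := (B_facts hA hAe d1 d3 d4).2.1 v hvB u (hEq ▸ huB)
      have : ⁅v, u⁆ = 1 := commutatorElement_eq_one_iff_mul_comm.mpr hcomm
      rw [this]; exact A.one_mem
    · have cu : A ⋖ A ⊔ Subgroup.zpowers u := covBy_sup_zpowers hp c2 c3
      have cv : A ⋖ A ⊔ Subgroup.zpowers v := covBy_sup_zpowers hp d2 d3
      have hinf : (A ⊔ Subgroup.zpowers u) ⊓ (A ⊔ Subgroup.zpowers v) = A := by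
        rcases cu.eq_or_eq (le_inf le_sup_left le_sup_left) inf_le_left with h1 | h1
        · exact h1
        · exfalso
          have hle : A ⊔ Subgroup.zpowers u ≤ A ⊔ Subgroup.zpowers v := inf_eq_left.mp h1
          rcases cv.eq_or_eq le_sup_left hle with h2 | h2
          · exact cu.lt.ne' h2
          · exact hEq h2
      rw [← hinf]
      exact ⟨m1, m2⟩
  -- the generating set
  set T : Set G := {g | ∃ h ∈ N₁, g = h * y * h⁻¹} with hT
  set S : Set G := (A : Set G) ∪ T with hS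
  set K := Subgroup.closure S with hK
  have hAK : A ≤ K := fun a ha => Subgroup.subset_closure (Or.inl ha)
  have hyK : y ∈ K := Subgroup.subset_closure (Or.inr ⟨1, N₁.one_mem, by simp⟩)
  have K0 : ∀ s ∈ S, ∀ t ∈ S, ⁅s, t⁆ ∈ A := by
    intro s hs t ht
    rcases hs with hs | ⟨h, hh, rfl⟩
    · have : ⁅s, t⁆ = s * (t * s⁻¹ * t⁻¹) := by rw [commutatorElement_def]; group
      rw [this]
      exact mul_mem hs (Subgroup.Normal.conj_mem inferInstance _ (inv_mem hs) t)
    · rcases ht with ht | ⟨h', hh', rfl⟩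
      · rw [commutatorElement_def]
        exact mul_mem (Subgroup.Normal.conj_mem inferInstance _ ht _) (inv_mem ht)
      · exact F4 h' hh' h hh
  have K2 : ∀ u ∈ K, ∀ v ∈ K, ⁅u, v⁆ ∈ A := fun u hu v hv => commutator_mem_of_closure K0 hu hv
  have K1 : K ≤ Subgroup.centralizer (A : Set G) := by
    rw [hK, Subgroup.closure_le]
    rintro s (hs | ⟨h, hh, rfl⟩)
    · exact hBfacts.1 (Subgroup.mem_sup_left hs)
    · exact (conj_facts hyC hyA hyp hyq h).1
  have hcommA : ∀ c ∈ A, ∀ u ∈ K, Commute c u := by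
    intro c hc u hu
    have := Subgroup.mem_centralizer_iff.mp (K1 hu) c hc
    exact this
  have K3 : ∀ u ∈ K, u ^ p ∈ A := by
    intro u hu
    induction hu using Subgroup.closure_induction with
    | mem s hs =>
      rcases hs with hs | ⟨h, hh, rfl⟩
      · exact pow_mem hs p
      · exact (conj_facts hyC hyA hyp hyq h).2.2.1
    | one => simp
    | mul u v hu hv h1 h2 =>
      have hc : ⁅v, u⁆ ∈ A := K2 v hv u hu
      have e : v * u = ⁅v, u⁆ * u * v := by rw [commutatorElement_def]; group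
      rw [mul_pow_of_comm e (hcommA _ hc u hu) (hcommA _ hc v hv)]
      exact mul_mem (mul_mem h1 h2) (pow_mem hc _)
    | inv u hu h1 => rw [inv_pow]; exact inv_mem h1
  have hdvd := prime_dvd_choose_two hp hn
  have K4 : ∀ u ∈ K, u ^ p ^ n = 1 := by
    intro u hu
    induction hu using Subgroup.closure_induction with
    | mem s hs =>
      rcases hs with hs | ⟨h, hh, rfl⟩
      · exact hAe s hs
      · exact (conj_facts hyC hyA hyp hyq h).2.2.2
    | one => simp
    | mul u v hu hv h1 h2 =>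
      have hc : ⁅v, u⁆ ∈ A := K2 v hv u hu
      have e : v * u = ⁅v, u⁆ * u * v := by rw [commutatorElement_def]; group
      have hcp : ⁅v, u⁆ ^ p = 1 := by
        have h3 := pow_mul_of_comm e (hcommA _ hc v hv) p
        have h4 : Commute (v ^ p) u := hcommA _ (K3 v hv) u hu
        rw [h4.eq, mul_assoc] at h3
        exact (mul_eq_right.mp h3.symm)
      rw [mul_pow_of_comm e (hcommA _ hc u hu) (hcommA _ hc v hv), h1, h2]
      obtain ⟨k, hk⟩ := hdvd
      rw [hk, pow_mul, hcp]; simp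
    | inv u hu h1 => rw [inv_pow, h1, inv_one]
  have K5 : N₁ ≤ Subgroup.normalizer (K : Set G) := by
    intro h' hh'
    apply Subgroup.normalizer_le_normalizer_closure
    rw [Subgroup.mem_set_normalizer_iff]
    intro g
    constructor
    · rintro (hg | ⟨h, hh, rfl⟩)
      · exact Or.inl (Subgroup.Normal.conj_mem inferInstance g hg h')
      · exact Or.inr ⟨h' * h, mul_mem hh' hh, by group⟩
    · rintro (hg | ⟨h, hh, hg⟩)
      · left
        have := Subgroup.Normal.conj_mem (inferInstance : A.Normal) _ hg h'⁻¹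
        simpa [mul_assoc] using this
      · right
        refine ⟨h'⁻¹ * h, mul_mem (inv_mem hh') hh, ?_⟩
        have : g = h'⁻¹ * (h' * g * h'⁻¹) * h' := by group
        rw [this, hg]; group
  have K6 : ∀ k ∈ K, ∀ h ∈ N₁, ⁅k, h⁆ ∈ K := by
    intro k hk h hh
    have := (Subgroup.mem_normalizer_iff.mp (K5 hh) k⁻¹).mp (inv_mem hk)
    have e : ⁅k, h⁆ = k * (h * k⁻¹ * h⁻¹) := by rw [commutatorElement_def]; group
    rw [e]
    exact mul_mem hk this
  obtain ⟨k', hk'K, hk'A, hk'c⟩ := exists_central_mod (A := A) K6 hyK hyA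
  have hk'Y : k' ∈ Y := ⟨K1 hk'K, hk'A, K3 k' hk'K, K4 k' hk'K⟩
  have hle : N₁ ≤ Subgroup.normalizer ((A ⊔ Subgroup.zpowers k' : Subgroup G) : Set G) := by
    intro h hh
    rw [Subgroup.mem_normalizer_iff]
    intro g
    have e1 : h * k' * h⁻¹ = ⁅h, k'⁆ * k' := by rw [commutatorElement_def]; group
    have e2 : ⁅h, k'⁆ ∈ A := by
      rw [← commutatorElement_inv]; exact inv_mem (hk'c h hh)
    have e3 : A ⊔ Subgroup.zpowers (h * k' * h⁻¹) = A ⊔ Subgroup.zpowers k' := by
      rw [e1]; exact sup_zpowers_mul_left e2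
    have := mem_B_conj (A := A) h k' (h * g * h⁻¹)
    rw [e3] at this
    rw [this]
    have e4 : h⁻¹ * (h * g * h⁻¹) * h = g := by group
    rw [e4]
  have hcard1 : Nat.card N₁ ≤ Nat.card N :=
    (Subgroup.card_le_of_le hle).trans (hymax k' hk'Y)
  have := Subgroup.eq_of_le_of_card_ge hNlt.le hcard1
  exact hNlt.ne this


end Cfsg.Agent.S0130
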