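import Mathlib
import Cfsg.Statements.S0127
import Cfsg.Agent.Lib.Lead.CyclicMax
import Cfsg.Agent.Lib.Helper49.RankOneCyclic
-- import your own Cfsg.Agent.* helpers here

set_option autoImplicit false
open Cfsg

namespace Cfsg.Agent.S0127


open Cfsg.Agent.Lib.Lead
/-- For odd p, in a non-cyclic p-group with a cyclic subgroup of index p, the elements of order dividing p generate an elementary abelian subgroup of order p^2. -/
theorem result {R : Type*} [Group R] [Finite R] {p : ℕ} [Fact p.Prime] (hp : p ≠ 2) (hR : IsPGroup p R) (hnc : ¬ IsCyclic R) (C : Subgroup R) (hC : IsCyclic C) (hCi : C.index = p) : Cfsg.IsElementaryAbelian p (Subgroup.closure {x : R | x ^ p = 1}) ∧ Nat.card (Subgroup.closure {x : R | x ^ p = 1}) = p ^ 2 := by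
  have hpp : p.Prime := Fact.out
  -- the `p`-power homomorphism
  let φ : R →* R := MonoidHom.mk' (fun x => x ^ p) (mul_pow_prime_of_cyclic_max hp hR C hC hCi)
  have hφ : ∀ x, φ x = x ^ p := fun x => rfl
  have hΩ : Subgroup.closure {x : R | x ^ p = 1} = φ.ker := by
    apply Subgroup.closure_eq_of_le
    · intro x hx
      exact (MonoidHom.mem_ker).mpr hx
    · intro x hx
      exact Subgroup.subset_closure ((MonoidHom.mem_ker).mp hx)
  rw [hΩ]
  have hexp : ∀ x ∈ φ.ker, x ^ p = 1 := fun x hx => (MonoidHom.mem_ker).mp hx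
  -- cardinalities
  obtain ⟨g, hg⟩ := hC.exists_generator
  have hordg : orderOf (g : R) = Nat.card C := by
    rw [Subgroup.orderOf_coe]; exact orderOf_eq_card_of_forall_mem_zpowers hg
  obtain ⟨m, hm⟩ := (hR.to_subgroup C).exists_card_eq
  have hcardR : Nat.card R = p ^ m * p := by rw [← C.card_mul_index, hm, hCi]
  have hm0 : m ≠ 0 := by
    rintro rfl
    rw [pow_zero, one_mul] at hcardR
    exact hnc (isCyclic_of_prime_card hcardR)
  have hordgp : orderOf ((g : R) ^ p) = p ^ (m - 1) := by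
    rw [orderOf_pow' _ hpp.ne_zero, hordg, hm]
    have : Nat.gcd (p ^ m) p = p := Nat.gcd_eq_right (dvd_pow_self p hm0)
    rw [this]
    obtain ⟨j, rfl⟩ := Nat.exists_eq_succ_of_ne_zero hm0
    rw [pow_succ, Nat.mul_div_cancel _ hpp.pos]
    simp
  have hrange : p ^ (m - 1) ≤ Nat.card φ.range := by
    rw [← hordgp, ← Nat.card_zpowers]
    apply Subgroup.card_le_of_le
    rw [Subgroup.zpowers_le]
    exact ⟨(g : R), rfl⟩
  have hker := φ.ker.card_mul_index
  rw [Subgroup.index_ker, hcardR] at hker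
  have hle : Nat.card φ.ker ≤ p ^ 2 := by
    have h1 : Nat.card φ.ker * p ^ (m - 1) ≤ p ^ 2 * p ^ (m - 1) := by
      calc Nat.card φ.ker * p ^ (m - 1) ≤ Nat.card φ.ker * Nat.card φ.range :=
            Nat.mul_le_mul_left _ hrange
        _ = p ^ m * p := hker
        _ = p ^ 2 * p ^ (m - 1) := by
            obtain ⟨j, rfl⟩ := Nat.exists_eq_succ_of_ne_zero hm0
            simp only [Nat.succ_sub_one, Nat.succ_eq_add_one]
            ring
    exact Nat.le_of_mul_le_mul_right h1 (pow_pos hpp.pos _)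
  -- lower bound
  have hrk : ¬ Cfsg.PRankLE p 1 R := fun h =>
    hnc (Cfsg.Agent.Lib.Helper49.isCyclic_of_pRankLE_one hp hR h)
  unfold Cfsg.PRankLE at hrk
  push Not at hrk
  obtain ⟨A, hAc, hAe, hAcard⟩ := hrk
  have hAK : A ≤ φ.ker := fun x hx => (MonoidHom.mem_ker).mpr (hAe x hx)
  have hlt : p < Nat.card φ.ker := by
    rw [pow_one] at hAcard
    exact lt_of_lt_of_le hAcard (Subgroup.card_le_of_le hAK)
  obtain ⟨s, hs⟩ := (hR.to_subgroup φ.ker).exists_card_eq
  have hs2 : s = 2 := by
    rw [hs] at hlt hle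
    have h1 : 1 < s := by
      by_contra h
      have : s ≤ 1 := by omega
      have := Nat.pow_le_pow_right hpp.pos this
      rw [pow_one] at this
      omega
    have h2 : s ≤ 2 := (Nat.pow_le_pow_iff_right hpp.one_lt).mp hle
    omega
  rw [hs2] at hs
  refine ⟨⟨?_, hexp⟩, hs⟩
  exact IsPGroup.isMulCommutative_of_card_eq_prime_sq hs

end Cfsg.Agent.S0127
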