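import Mathlib
import Cfsg.Statements.S0128
import Cfsg.Agent.S0124
import Cfsg.Agent.S0126
import Cfsg.Agent.Lib.Helper24.ElemAb
import Cfsg.Agent.Lib.Helper24.NilAction
import Cfsg.Agent.Lib.Helper24.SCN
-- import your own Cfsg.Agent.* helpers here

set_option autoImplicit false
open Cfsg

namespace Cfsg.Agent.S0128

open scoped commutatorElement
open Cfsg.Agent.Lib.Helper24

universe u

/-- In a finite `p`-group, if `N` is normal of order dividing `p ^ (k+1)` then `⁅N, ⊤⁆` has order
dividing `p ^ k`. -/
theorem card_commutator_top_dvd {G : Type*} [Group G] [Finite G] {p : ℕ} [hp : Fact p.Prime]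
    (hG : IsPGroup p G) (N : Subgroup G) [hN : N.Normal] (k : ℕ) (h : Nat.card N ∣ p ^ (k + 1)) :
    Nat.card (⁅N, (⊤ : Subgroup G)⁆ : Subgroup G) ∣ p ^ k := by
  have hnil : Group.IsNilpotent G := hG.isNilpotent
  have hle : ⁅N, (⊤ : Subgroup G)⁆ ≤ N := Subgroup.commutator_le_left N ⊤
  have hd : Nat.card (⁅N, (⊤ : Subgroup G)⁆ : Subgroup G) ∣ Nat.card N :=
    Subgroup.card_dvd_of_le hle
  by_cases hN0 : N = ⊥
  · have h0 : ⁅(⊥ : Subgroup G), (⊤ : Subgroup G)⁆ = ⊥ := Subgroup.commutator_bot_left ⊤
    rw [hN0, h0, Subgroup.card_bot]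
    exact one_dvd _
  · have hne : ⁅N, (⊤ : Subgroup G)⁆ ≠ N := fun heq =>
      hN0 (eq_bot_of_le_commutator N ⊤ (le_of_eq heq.symm))
    have hlt : Nat.card (⁅N, (⊤ : Subgroup G)⁆ : Subgroup G) < Nat.card N :=
      card_lt_of_le_of_ne hle hne
    obtain ⟨j, hj, hcard⟩ := (Nat.dvd_prime_pow hp.out).mp (hd.trans h)
    obtain ⟨i, hi, hcardN⟩ := (Nat.dvd_prime_pow hp.out).mp h
    rw [hcard, hcardN] at hlt
    have hji : j < i := (Nat.pow_lt_pow_iff_right hp.out.one_lt).mp hlt
    rw [hcard]
    exact pow_dvd_pow p (by omega)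

/-- A group of order dividing `p ^ 2` is commutative. -/
theorem comm_of_card_dvd_sq {Q : Type*} [Group Q] [Finite Q] {p : ℕ} [hp : Fact p.Prime]
    (h : Nat.card Q ∣ p ^ 2) (a b : Q) : a * b = b * a := by
  obtain ⟨j, hj, hcard⟩ := (Nat.dvd_prime_pow hp.out).mp h
  interval_cases j
  · have : Subsingleton Q := (Nat.card_eq_one_iff_unique.mp (by simpa using hcard)).1
    exact Subsingleton.elim _ _
  · have hc : IsCyclic Q := isCyclic_of_prime_card (p := p) (by simpa using hcard)
    exact (IsCyclic.commGroup (α := Q)).mul_comm a b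
  · have := IsPGroup.isMulCommutative_of_card_eq_prime_sq (p := p) (G := Q) hcard
    exact mul_comm' a b

/-- The subgroup generated by the elements of order dividing `p` is generated (as a group on its
own) by its elements of order dividing `p`. -/
theorem closure_subtype_eq_top {G : Type*} [Group G] (p : ℕ) :
    Subgroup.closure
      {x : (Subgroup.closure {x : G | x ^ p = 1} : Subgroup G) | x ^ p = 1} = ⊤ := by
  rw [eq_top_iff]
  rintro ⟨y, hy⟩ -
  induction hy using Subgroup.closure_induction with
  | mem x hx =>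
    apply Subgroup.subset_closure
    show (⟨x, _⟩ : (Subgroup.closure {x : G | x ^ p = 1} : Subgroup G)) ^ p = 1
    apply Subtype.ext
    simpa using hx
  | one => exact Subgroup.one_mem _
  | mul a b ha hb iha ihb => exact Subgroup.mul_mem _ iha ihb
  | inv a ha iha => exact Subgroup.inv_mem _ iha

/-- The key step: a group generated by elements of order `p`, of rank at most two, all of whose
proper subgroups satisfy the conclusion, has exponent `p`. -/
theorem key {G : Type u} [Group G] [Finite G] {p : ℕ} [hp : Fact p.Prime] (hp3 : 3 < p)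
    (hG : IsPGroup p G)
    (hrk : ∀ E : Subgroup G, Cfsg.IsElementaryAbelian p E → Nat.card E ≤ p ^ 2)
    (hgen : Subgroup.closure {x : G | x ^ p = 1} = ⊤)
    (IH : ∀ K : Subgroup G, K ≠ ⊤ → ∀ g : K, g ∈ Subgroup.closure {x : K | x ^ p = 1} → g ^ p = 1)
    (g : G) : g ^ p = 1 := by
  have hp2 : p ≠ 2 := by omega
  have hnil : Group.IsNilpotent G := hG.isNilpotent
  -- the induction hypothesis, stated inside `G`
  have IH' : ∀ K : Subgroup G, K ≠ ⊤ →
      ∀ g ∈ Subgroup.closure {x : G | x ∈ K ∧ x ^ p = 1}, g ^ p = 1 := by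
    intro K hK g hg
    have hle : Subgroup.closure {x : G | x ∈ K ∧ x ^ p = 1} ≤
        (Subgroup.closure {x : K | x ^ p = 1}).map K.subtype := by
      rw [Subgroup.closure_le]
      rintro x ⟨hxK, hxp⟩
      refine ⟨⟨x, hxK⟩, Subgroup.subset_closure ?_, rfl⟩
      show (⟨x, hxK⟩ : K) ^ p = 1
      apply Subtype.ext
      simpa using hxp
    obtain ⟨g', hg', rfl⟩ := hle hg
    have h1 := IH K hK g' hg'
    have h2 := congrArg Subtype.val h1
    simpa using h2
  by_cases hcyc : IsCyclic G
  · have hc : ∀ a b : G, a * b = b * a := fun a b => (IsCyclic.commGroup (α := G)).mul_comm a b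
    exact (elemAb_closure p {x : G | x ^ p = 1} (fun s _ t _ => hc s t) (fun s hs => hs)).2 g
      (by rw [hgen]; trivial)
  obtain ⟨Z, hZn, hZe, hZc⟩ := Cfsg.Agent.S0126.result hp2 hG hcyc
  have := hZn
  have hTn : (Subgroup.centralizer (Z : Set G)).Normal := Subgroup.normal_centralizer
  -- Claim A: elements of order `p` centralizing `Z` lie in `Z`
  have hA : ∀ t ∈ Subgroup.centralizer (Z : Set G), t ^ p = 1 → t ∈ Z := by
    intro t ht htp
    by_contra htZ
    have h1 := elemAb_adjoin p Z hZe.1 hZe.2 t ht htp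
    have h2 := hrk _ h1
    have h3 := card_lt_card_adjoin Z t htZ
    omega
  -- Claim B: the centralizer of `Z` has index dividing `p`
  have hB : (Subgroup.centralizer (Z : Set G)).index ∣ p := by
    by_cases hZcen : Z ≤ Subgroup.center G
    · have : Subgroup.centralizer (Z : Set G) = ⊤ := by
        rw [eq_top_iff]
        intro g _
        rw [Subgroup.mem_centralizer_iff]
        intro z hz
        exact ((Subgroup.mem_center_iff.mp (hZcen hz)) g).symm
      rw [this, Subgroup.index_top]
      exact one_dvd p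
    · obtain ⟨z, e, hzZ, hzc, hzp, heZ, hez, hcomm, hZeq⟩ :=
        exists_central_decomp p hG Z hZc hZcen
      have hTe : Subgroup.centralizer (Z : Set G) = Subgroup.centralizer ({e} : Set G) := by
        have hz' : Subgroup.centralizer ((Subgroup.zpowers z : Subgroup G) : Set G) = ⊤ := by
          rw [eq_top_iff]
          intro g _
          rw [Subgroup.mem_centralizer_iff]
          intro w hw
          have hwc : w ∈ Subgroup.center G := (Subgroup.zpowers_le.mpr hzc) hw
          exact ((Subgroup.mem_center_iff.mp hwc) g).symm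
        conv_lhs => rw [hZeq]
        rw [centralizer_adjoin, hz', top_inf_eq]
      have h1 := card_dvd_card_centralizer_mul (⊤ : Subgroup G) (Subgroup.zpowers z)
        (Subgroup.zpowers_le.mpr hzc) e (fun w _ => by
          have := hcomm w
          rw [← commutatorElement_inv]
          exact Subgroup.inv_mem _ this)
      rw [top_inf_eq, ← hTe, hzp, Subgroup.card_top,
        ← (Subgroup.centralizer (Z : Set G)).card_mul_index] at h1
      exact Nat.dvd_of_mul_dvd_mul_left Nat.card_pos h1
  by_cases hTtop : Subgroup.centralizer (Z : Set G) = ⊤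
  · have : Subgroup.closure {x : G | x ^ p = 1} ≤ Z := by
      rw [Subgroup.closure_le]
      intro x hx
      exact hA x (by rw [hTtop]; trivial) hx
    rw [hgen] at this
    exact hZe.2 g (this trivial)
  have hTp : (Subgroup.centralizer (Z : Set G)).index = p := by
    rcases (Nat.dvd_prime hp.out).mp hB with h | h
    · exact absurd (Subgroup.index_eq_one.mp h) hTtop
    · exact h
  obtain ⟨x, hxp, hxT⟩ : ∃ x : G, x ^ p = 1 ∧ x ∉ Subgroup.centralizer (Z : Set G) := by
    by_contra hcon
    push Not at hcon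
    have : Subgroup.closure {x : G | x ^ p = 1} ≤ Subgroup.centralizer (Z : Set G) := by
      rw [Subgroup.closure_le]
      intro x hx
      exact hcon x hx
    rw [hgen] at this
    exact hTtop (eq_top_iff.mpr this)
  -- every element is a power of `x` times an element of the centralizer
  have hdec : ∀ g : G, ∃ k : ℤ, (x ^ k)⁻¹ * g ∈ Subgroup.centralizer (Z : Set G) := by
    intro g
    have hcard : Nat.card (G ⧸ Subgroup.centralizer (Z : Set G)) = p := by
      rw [← Subgroup.index_eq_card]; exact hTp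
    have hx1 : (QuotientGroup.mk x : G ⧸ Subgroup.centralizer (Z : Set G)) ≠ 1 := by
      intro h
      exact hxT ((QuotientGroup.eq_one_iff x).mp h)
    have hmem := mem_zpowers_of_prime_card hcard hx1
      (g' := (QuotientGroup.mk g : G ⧸ Subgroup.centralizer (Z : Set G)))
    obtain ⟨k, hk⟩ := Subgroup.mem_zpowers_iff.mp hmem
    refine ⟨k, ?_⟩
    rw [← QuotientGroup.eq, ← hk]
    simp
  have hZS : Z ≤ Subgroup.closure ((Z : Set G) ∪ {x}) := le_adjoin Z x
  have hxS : x ∈ Subgroup.closure ((Z : Set G) ∪ {x}) := mem_adjoin Z x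
  -- Claim C
  have hC : ∀ K : Subgroup G, K ≠ ⊤ → Subgroup.closure ((Z : Set G) ∪ {x}) ≤ K →
      ∀ y ∈ K, y ^ p = 1 → y ∈ Subgroup.closure ((Z : Set G) ∪ {x}) := by
    intro K hK hSK y hyK hyp
    obtain ⟨k, hk⟩ := hdec y
    have hxO : x ∈ Subgroup.closure {x : G | x ∈ K ∧ x ^ p = 1} :=
      Subgroup.subset_closure ⟨hSK hxS, hxp⟩
    have hyO : y ∈ Subgroup.closure {x : G | x ∈ K ∧ x ^ p = 1} :=
      Subgroup.subset_closure ⟨hyK, hyp⟩
    have htO : (x ^ k)⁻¹ * y ∈ Subgroup.closure {x : G | x ∈ K ∧ x ^ p = 1} :=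
      Subgroup.mul_mem _ (Subgroup.inv_mem _ (Subgroup.zpow_mem _ hxO k)) hyO
    have htp := IH' K hK _ htO
    have htZ := hA _ hk htp
    have hy : y = x ^ k * ((x ^ k)⁻¹ * y) := by group
    rw [hy]
    exact Subgroup.mul_mem _ (Subgroup.zpow_mem _ hxS k) (hZS htZ)
  have hSsup : Subgroup.closure ((Z : Set G) ∪ {x}) = Z ⊔ Subgroup.zpowers x := by
    rw [Subgroup.closure_union, Subgroup.closure_eq, Subgroup.zpowers_eq_closure]
  have hZrelS : Z.relIndex (Subgroup.closure ((Z : Set G) ∪ {x})) ∣ p := by
    rw [hSsup, Subgroup.relIndex_sup_left]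
    have h2 : Z.relIndex (Subgroup.zpowers x) ∣ Nat.card (Subgroup.zpowers x) :=
      Subgroup.relIndex_dvd_card _ _
    have h3 : Nat.card (Subgroup.zpowers x) ∣ p := by
      rw [Nat.card_zpowers]; exact orderOf_dvd_of_pow_eq_one hxp
    exact h2.trans h3
  have hZidx : Z.index ∣ p ^ 2 := by
    by_cases hStop : Subgroup.closure ((Z : Set G) ∪ {x}) = ⊤
    · have : Z.index = Z.relIndex (Subgroup.closure ((Z : Set G) ∪ {x})) := by
        rw [hStop, Subgroup.relIndex_top_right]
      rw [this]
      exact hZrelS.trans (dvd_pow_self p two_ne_zero)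
    · obtain ⟨M, hM, hSM⟩ := (eq_top_or_exists_le_coatom _).resolve_left hStop
      have hMn : M.Normal :=
        Subgroup.NormalizerCondition.normal_of_coatom M Group.normalizerCondition_of_isNilpotent hM
      have hMtop : M ≠ ⊤ := hM.1
      have hSn : (Subgroup.closure ((Z : Set G) ∪ {x})).Normal := by
        rw [← Subgroup.normalizer_eq_top_iff, eq_top_iff, Subgroup.le_normalizer_closure_iff]
        rintro r - g (hg | hg)
        · exact Subgroup.subset_closure (Or.inl (hZn.conj_mem g hg r))
        · rw [Set.mem_singleton_iff] at hg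
          subst hg
          apply hC M hMtop hSM
          · exact hMn.conj_mem _ (hSM hxS) r
          · rw [conj_pow, hxp]; simp
      obtain ⟨y, hyp, hyM⟩ : ∃ y : G, y ^ p = 1 ∧ y ∉ M := by
        by_contra hcon
        push Not at hcon
        have : Subgroup.closure {x : G | x ^ p = 1} ≤ M := by
          rw [Subgroup.closure_le]
          intro x hx
          exact hcon x hx
        rw [hgen] at this
        exact hMtop (eq_top_iff.mpr this)
      have hSy : Subgroup.closure ((Z : Set G) ∪ {x}) ⊔ Subgroup.zpowers y = ⊤ := by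
        by_contra hne
        have hyK : y ∈ Subgroup.closure ((Z : Set G) ∪ {x}) ⊔ Subgroup.zpowers y :=
          (le_sup_right : Subgroup.zpowers y ≤ _) (Subgroup.mem_zpowers y)
        have := hC _ hne le_sup_left y hyK hyp
        exact hyM (hSM this)
      have hSidx : (Subgroup.closure ((Z : Set G) ∪ {x})).index ∣ p := by
        have : (Subgroup.closure ((Z : Set G) ∪ {x})).index =
            (Subgroup.closure ((Z : Set G) ∪ {x})).relIndex
              (Subgroup.closure ((Z : Set G) ∪ {x}) ⊔ Subgroup.zpowers y) := by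
          rw [hSy, Subgroup.relIndex_top_right]
        rw [this, Subgroup.relIndex_sup_left]
        exact (Subgroup.relIndex_dvd_card _ _).trans
          (by rw [Nat.card_zpowers]; exact orderOf_dvd_of_pow_eq_one hyp)
      rw [← Subgroup.relIndex_mul_index hZS, pow_two]
      exact Nat.mul_dvd_mul hZrelS hSidx
  have hQ : ∀ a b : G ⧸ Z, a * b = b * a :=
    comm_of_card_dvd_sq (p := p) (by rw [← Subgroup.index_eq_card]; exact hZidx)
  have hder : commutator G ≤ Z := by
    rw [commutator_def, Subgroup.commutator_le]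
    intro a _ b _
    rw [← QuotientGroup.eq_one_iff (N := Z)]
    show (QuotientGroup.mk' Z) ⁅a, b⁆ = 1
    rw [map_commutatorElement]
    exact commutatorElement_eq_one_iff_mul_comm.mpr (hQ _ _)
  have h1 : Nat.card (⁅Z, (⊤ : Subgroup G)⁆ : Subgroup G) ∣ p ^ 1 :=
    card_commutator_top_dvd hG Z 1 (by rw [hZc])
  have h2 : Nat.card (⁅⁅Z, (⊤ : Subgroup G)⁆, (⊤ : Subgroup G)⁆ : Subgroup G) ∣ p ^ 0 :=
    card_commutator_top_dvd hG _ 0 (by simpa using h1)
  have h3 : ⁅⁅Z, (⊤ : Subgroup G)⁆, (⊤ : Subgroup G)⁆ = ⊥ := by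
    rw [← Subgroup.card_eq_one]
    simpa using h2
  have hcl : ⁅⁅commutator G, (⊤ : Subgroup G)⁆, (⊤ : Subgroup G)⁆ = ⊥ := by
    rw [eq_bot_iff, ← h3]
    exact Subgroup.commutator_mono (Subgroup.commutator_mono hder le_rfl) le_rfl
  exact Cfsg.Agent.S0124.result hp3 hG hcl g (by rw [hgen]; trivial)

theorem aux {p : ℕ} [hp : Fact p.Prime] (hp3 : 3 < p) :
    ∀ (n : ℕ) (G : Type u) [Group G] [Finite G], Nat.card G ≤ n → IsPGroup p G →
      (∀ E : Subgroup G, Cfsg.IsElementaryAbelian p E → Nat.card E ≤ p ^ 2) →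
      ∀ g ∈ Subgroup.closure {x : G | x ^ p = 1}, g ^ p = 1 := by
  intro n
  induction n with
  | zero =>
    intro G _ _ hc
    have := Nat.card_pos (α := G)
    omega
  | succ n ih =>
    intro G _ _ hc hG hrk g hg
    have hrkK : ∀ K : Subgroup G, ∀ E : Subgroup K, Cfsg.IsElementaryAbelian p E →
        Nat.card E ≤ p ^ 2 := by
      intro K E hE
      have h1 : Cfsg.IsElementaryAbelian p (E.map K.subtype) := by
        refine ⟨?_, ?_⟩
        · have := hE.1
          exact Subgroup.map_isMulCommutative E K.subtype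
        · rintro a ⟨a', ha', rfl⟩
          have := hE.2 a' ha'
          rw [← map_pow, this, map_one]
      have h2 := hrk _ h1
      rwa [Subgroup.card_map_of_injective K.subtype_injective] at h2
    have hsub : ∀ K : Subgroup G, K ≠ ⊤ →
        ∀ k : K, k ∈ Subgroup.closure {x : K | x ^ p = 1} → k ^ p = 1 := by
      intro K hK k hk
      have hlt : Nat.card K < Nat.card G := by
        have := card_lt_of_le_of_ne (le_top : K ≤ ⊤) hK
        rwa [Subgroup.card_top] at this
      exact ih K (by omega) (hG.to_subgroup K) (hrkK K) k hk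
    by_cases hO : Subgroup.closure {x : G | x ^ p = 1} = ⊤
    · exact key hp3 hG hrk hO hsub g
    · have h1 := hsub _ hO ⟨g, hg⟩ (by rw [closure_subtype_eq_top]; trivial)
      have h2 := congrArg Subtype.val h1
      simpa using h2


/-- For p > 3, in a p-group of p-rank at most 2 the elements of order dividing p generate a subgroup of exponent dividing p. -/
theorem result {R : Type*} [Group R] [Finite R] {p : ℕ} [Fact p.Prime] (hp : 3 < p) (hR : IsPGroup p R) (hrk : ∀ E : Subgroup R, Cfsg.IsElementaryAbelian p E → Nat.card E ≤ p ^ 2) (g : R) (hg : g ∈ Subgroup.closure {x : R | x ^ p = 1}) : g ^ p = 1 := by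
  exact aux hp (Nat.card R) R le_rfl hR hrk g hg

end Cfsg.Agent.S0128
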