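import Cfsg.Statements.S0044
import Cfsg.Agent.Lib.Helper55.Cores
-- import your own Cfsg.Agent.* helpers here

set_option autoImplicit false
open Cfsg

namespace Cfsg.Agent.S0044

/-- In a finite solvable group, the centraliser of the Fitting subgroup is contained in the Fitting subgroup. -/
theorem result {G : Type*} [Group G] [Finite G] [Group.IsSolvable G] :
    Subgroup.centralizer (Cfsg.fittingSubgroup G : Set G) ≤ Cfsg.fittingSubgroup G := by
  set P := Cfsg.fittingSubgroup G with hP
  have hPn : P.Normal := Subgroup.sSup_normal _ (fun _ h => h.1)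
  set C := Subgroup.centralizer (P : Set G) with hC
  have hCn : C.Normal := Subgroup.normal_centralizer
  by_contra hCP
  set π := QuotientGroup.mk' P with hπ
  have hsurj : Function.Surjective π := QuotientGroup.mk'_surjective _
  have hKn : (C.map π).Normal := hCn.map π hsurj
  have hKne : C.map π ≠ ⊥ := by
    intro hbot
    apply hCP
    intro c hc
    have : π c ∈ C.map π := Subgroup.mem_map_of_mem π hc
    rw [hbot, Subgroup.mem_bot] at this
    exact (QuotientGroup.eq_one_iff c).mp this
  obtain ⟨A, hAn, hAne, hAK, hAab⟩ :=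
    Cfsg.Agent.Lib.Helper55.exists_normal_abelian_le (C.map π) hKn hKne
  set B := A.comap π ⊓ C with hB
  have hBn : B.Normal := Subgroup.normal_inf_normal _ _
  have hBC : B ≤ C := inf_le_right
  have hBmap : B.map π = A := by
    apply le_antisymm
    · rw [Subgroup.map_le_iff_le_comap]; exact inf_le_left
    · intro a ha
      obtain ⟨c, hc, rfl⟩ := hAK ha
      exact ⟨c, ⟨ha, hc⟩, rfl⟩
  -- `B` is nilpotent
  have hAcomm : ∀ a ∈ A, ∀ b ∈ A, a * b = b * a := by
    have := Subgroup.commutator_eq_bot_iff_le_centralizer.mp hAab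
    intro a ha b hb
    exact (Subgroup.mem_centralizer_iff.mp (this ha) b hb).symm
  have hnilA : Group.IsNilpotent ↥(B.map π) := by
    rw [hBmap]
    let : CommGroup ↥A :=
      { (inferInstance : Group ↥A) with
        mul_comm := fun a b => Subtype.ext (hAcomm a a.2 b b.2) }
    exact CommGroup.isNilpotent
  have hker : (π.subgroupMap B).ker ≤ Subgroup.center ↥B := by
    intro b hb
    rw [MonoidHom.mem_ker] at hb
    have hbP : (b : G) ∈ P := by
      have h1 : π (b : G) = 1 := congrArg Subtype.val hb
      exact (QuotientGroup.eq_one_iff (b : G)).mp h1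
    rw [Subgroup.mem_center_iff]
    intro b'
    apply Subtype.ext
    have hb'C : (b' : G) ∈ C := hBC b'.2
    exact (Subgroup.mem_centralizer_iff.mp hb'C (b : G) hbP).symm
  have hnilB : Group.IsNilpotent ↥B := Subgroup.isNilpotent_of_ker_le_center (π.subgroupMap B) hker
  have hBP : B ≤ P := le_sSup ⟨hBn, hnilB⟩
  apply hAne
  rw [← hBmap, eq_bot_iff]
  rintro _ ⟨b, hb, rfl⟩
  rw [Subgroup.mem_bot]
  exact (QuotientGroup.eq_one_iff b).mpr (hBP hb)

end Cfsg.Agent.S0044
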