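import Cfsg.Statements.S4207
-- import your own Cfsg.Agent.* helpers here
import Cfsg.Agent.Lib.Helper70.AutPGroup
import Mathlib

set_option autoImplicit false
open Cfsg
open Cfsg.Agent.Lib.Helper70

namespace Cfsg.Agent.S4207

theorem card_frattini {P : Type*} [Group P] [Finite P] {p n r : ℕ} [Fact p.Prime]
    (hP : Nat.card P = p ^ n) (hr : (frattini P).index = p ^ r) :
    r ≤ n ∧ Nat.card (frattini P) = p ^ (n - r) := by
  have hp : p.Prime := Fact.out
  have h1 : Nat.card (frattini P) * (frattini P).index = Nat.card P := (frattini P).card_mul_index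
  rw [hr, hP] at h1
  have hrn : r ≤ n := by
    have : p ^ r ∣ p ^ n := ⟨Nat.card (frattini P), by rw [← h1, mul_comm]⟩
    exact (Nat.pow_dvd_pow_iff_le_right hp.one_lt).mp this
  refine ⟨hrn, ?_⟩
  have h2 : p ^ n = p ^ (n - r) * p ^ r := by rw [← pow_add, Nat.sub_add_cancel hrn]
  rw [h2] at h1
  exact Nat.eq_of_mul_eq_mul_right (pow_pos hp.pos r) h1

/-- Let `P` be a group of order `p^n` whose Frattini subgroup has index `p^r`. Then any group of automorphisms of `P` each of which induces the identity on the Frattini quotient has order dividing `p^(r(n-r))`; in particular it is a `p`-group. -/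
theorem result {P : Type*} [Group P] [Finite P] {p n r : ℕ} [Fact p.Prime] (hP : Nat.card P = p ^ n) (hr : (frattini P).index = p ^ r) (A : Subgroup (MulAut P)) (hA : ∀ α ∈ A, ∀ x : P, α x * x⁻¹ ∈ frattini P) : Nat.card A ∣ p ^ (r * (n - r)) := by
  have hcardQ : Nat.card (P ⧸ frattini P) = p ^ r := hr
  obtain ⟨xbar, hxbar⟩ := exists_gen_of_card r (P ⧸ frattini P) hcardQ
  set x : Fin r → P := fun i => (xbar i).out with hxdef
  have hx : Subgroup.closure (Set.range x) = ⊤ := by
    apply closure_eq_top_of_map_mk
    have : (fun i => (QuotientGroup.mk (x i) : P ⧸ frattini P)) = xbar := by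
      funext i
      exact QuotientGroup.out_eq' (xbar i)
    rw [this]
    exact hxbar
  have h1 := card_dvd_card_congTuples A x hx hA
  rw [Nat.card_congr (congTuplesEquiv A (frattini P) x hA), Nat.card_fun, Nat.card_fin] at h1
  obtain ⟨_, hΦ⟩ := card_frattini hP hr
  rw [hΦ, ← pow_mul, mul_comm] at h1
  exact h1

end Cfsg.Agent.S4207
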