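import Cfsg.Statements.S0633
import Cfsg.Agent.Lib.Helper63.HHCore4
import Cfsg.Agent.Lib.Helper63.HHReduce

set_option autoImplicit false
open Cfsg

namespace Cfsg.Agent.S0633

open Cfsg.Agent.Lib.Helper63 in
/-- Theorem B of Hall and Higman on the minimal polynomial of a p-element of order p^n in a p-solvable linear group on a nonzero vector space in characteristic p with no nontrivial normal p-subgroup: its degree is p^n, except when some p^n₀ - 1 (n₀ ≤ n) is a power of a prime q for which the Sylow q-subgroups are non-abelian, in which case the degree is at least p^(n-n₀)(p^n₀ - 1). -/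
theorem result {F : Type*} [Field F] {p : ℕ} [Fact p.Prime] [CharP F p] {V : Type*} [AddCommGroup V] [Module F V] [FiniteDimensional F V] [Nontrivial V] (H : Subgroup (V ≃ₗ[F] V)) [Finite H] (hsol : Cfsg.IsPSolvable p H) (hOp : Cfsg.pCore p H = ⊥) (x : V ≃ₗ[F] V) (hx : x ∈ H) (n : ℕ) (hn : orderOf x = p ^ n) (r : ℕ) (hr : minpoly F (x : Module.End F V) = (Polynomial.X - 1) ^ r) : r = p ^ n ∨ ∃ n₀ q m : ℕ, 1 ≤ n₀ ∧ n₀ ≤ n ∧ q.Prime ∧ 1 ≤ m ∧ p ^ n₀ - 1 = q ^ m ∧ (∀ Q : Sylow q H, ¬ IsMulCommutative Q) ∧ p ^ (n - n₀) * (p ^ n₀ - 1) ≤ r := by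
  classical
  have hp : p.Prime := Fact.out
  -- the coercion homomorphism
  set c : (V ≃ₗ[F] V) →* Module.End F V :=
    LinearEquiv.automorphismGroup.toLinearMapMonoidHom with hc
  have hc_apply : ∀ g : V ≃ₗ[F] V, c g = (g : Module.End F V) := fun g => rfl
  have hc_inj : Function.Injective c := fun a b h => LinearEquiv.toLinearMap_injective h
  -- `(x - 1)^r = 0`
  have hxr : ((x : Module.End F V) - 1) ^ r = 0 := by
    have := minpoly.aeval F (x : Module.End F V)
    rw [hr] at this
    simpa using this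
  have hxP : x ^ p ^ n = 1 := by rw [← hn]; exact pow_orderOf_eq_one x
  -- `r ≤ p^n`
  have hrle : r ≤ p ^ n := by
    have h1 : ((x : Module.End F V)) ^ p ^ n = 1 := by
      rw [← hc_apply, ← map_pow, hxP, map_one]
    have h2 : Polynomial.aeval (x : Module.End F V)
        ((Polynomial.X - 1 : Polynomial F) ^ p ^ n) = 0 := by
      rw [sub_pow_char_pow, one_pow]
      simp [h1]
    have h3 := minpoly.dvd F _ h2
    rw [hr] at h3
    have hX : (Polynomial.X - 1 : Polynomial F) = Polynomial.X - Polynomial.C 1 := by simp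
    rw [hX] at h3
    have h4 := Polynomial.natDegree_le_of_dvd h3 (pow_ne_zero _ (Polynomial.X_sub_C_ne_zero 1))
    rw [Polynomial.natDegree_pow, Polynomial.natDegree_pow, Polynomial.natDegree_X_sub_C, mul_one,
      mul_one] at h4
    exact h4
  rcases Nat.eq_zero_or_pos n with hn0 | hnpos
  · left
    subst hn0
    rw [pow_zero] at hrle ⊢
    have hr0 : r ≠ 0 := by
      rintro rfl
      rw [pow_zero] at hxr
      obtain ⟨v, hv⟩ := exists_ne (0 : V)
      apply hv
      have := congrArg (fun f : Module.End F V => f v) hxr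
      simpa using this
    omega
  · -- the group-theoretic reduction
    set Hx : ↥H := ⟨x, hx⟩ with hHx
    have hordH : orderOf Hx = p ^ n := by rw [hHx, Subgroup.orderOf_mk, hn]
    obtain ⟨q, Q, hq, hpq, hQ, hQx, a, ha, hne⟩ :=
      HHReduce.exists_q_subgroup p hsol hOp Hx n hnpos hordH
    have : Fact q.Prime := ⟨hq⟩
    -- the representation over the algebraic closure
    have : CharP (AlgebraicClosure F) p :=
      charP_of_injective_algebraMap (FaithfulSMul.algebraMap_injective F (AlgebraicClosure F)) p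
    have hΦ := HHReduce.extHom_injective F V
    set ρ : Representation (AlgebraicClosure F) ↥H
        (Fin (Module.finrank F V) → AlgebraicClosure F) :=
      ((HHReduce.extHom F V : Module.End F V →* _)).comp (c.comp H.subtype) with hρ
    have hρ_apply : ∀ g : ↥H, ρ g = HHReduce.extHom F V ((g : V ≃ₗ[F] V) : Module.End F V) :=
      fun g => rfl
    have hρinj : Function.Injective ρ := hΦ.comp (hc_inj.comp H.subtype_injective)
    have hact : ∃ a ∈ Q, ρ (Hx ^ p ^ (n - 1) * a * (Hx ^ p ^ (n - 1))⁻¹ * a⁻¹) ≠ 1 := by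
      refine ⟨a, ha, fun h1 => hne ?_⟩
      have h2 : Hx ^ p ^ (n - 1) * a * (Hx ^ p ^ (n - 1))⁻¹ * a⁻¹ = 1 :=
        hρinj (by rw [h1, map_one])
      calc Hx ^ p ^ (n - 1) * a
          = (Hx ^ p ^ (n - 1) * a * (Hx ^ p ^ (n - 1))⁻¹ * a⁻¹) * (a * Hx ^ p ^ (n - 1)) := by
            group
        _ = a * Hx ^ p ^ (n - 1) := by rw [h2, one_mul]
    have hs : (ρ Hx - 1) ^ r = 0 := by
      rw [hρ_apply, ← map_one (HHReduce.extHom F V), ← map_sub, ← map_pow]
      show HHReduce.extHom F V (((x : Module.End F V) - 1) ^ r) = 0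
      rw [hxr, map_zero]
    have hxPH : Hx ^ p ^ n = 1 := Subtype.ext hxP
    have hC := HHCore4.theoremB (AlgebraicClosure F) p q hpq Q hQ Hx hQx n hnpos hxPH ρ hact r hs
    rcases hC with hC | ⟨n₀, m, h1, h2, h3, h4, hnonab, h6⟩
    · left; omega
    · right
      exact ⟨n₀, q, m, h1, h2, hq, h3, h4, fun S => HHReduce.not_comm_sylow q Q hQ hnonab S, h6⟩

end Cfsg.Agent.S0633
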