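import Cfsg.Statements.S0026
import Cfsg.Agent.S0022
-- import your own Cfsg.Agent.* helpers here

set_option autoImplicit false
open Cfsg

namespace Cfsg.Agent.S0026

open scoped commutatorElement in
/-- Elementwise form of `K = [K, A] C_K(A)` under coprime action. -/
theorem exists_commutator_mul_fixed {G : Type*} [Group G] [Finite G] (A K : Subgroup G)
    (hAK : A ≤ Subgroup.normalizer (K : Set G))
    (hcop : (Nat.card A).Coprime (Nat.card K)) (hsolv : Group.IsSolvable A ∨ Group.IsSolvable K)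
    (k : G) (hk : k ∈ K) :
    ∃ w ∈ ⁅K, A⁆, ∃ c ∈ K ⊓ Subgroup.centralizer (A : Set G), k = w * c := by
  have hNK : ⁅K, A⁆ ≤ K := Subgroup.le_normalizer_iff_commutator_le_left.mp hAK
  have hfix : ∀ a ∈ A, a * k⁻¹ * a⁻¹ * k⁻¹⁻¹ ∈ ⁅K, A⁆ := by
    intro a ha
    rw [Subgroup.commutator_comm]
    exact Subgroup.commutator_mem_commutator ha (K.inv_mem hk)
  obtain ⟨c, hc, hcN⟩ := Cfsg.Agent.S0022.result A K hAK hcop hsolv ⁅K, A⁆ hNK
    (Subgroup.normalizer_commutator_ge_left K A) (Subgroup.normalizer_commutator_ge_right K A)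
    k⁻¹ (K.inv_mem hk) hfix
  rw [inv_inv] at hcN
  refine ⟨k * c, hcN, c⁻¹, Subgroup.inv_mem _ hc, by group⟩

/-- Under coprime action the acted-on group factorises as the commutator with A times the fixed points: K = [K, A] C_K(A). -/
theorem result {G : Type*} [Group G] [Finite G] (A K : Subgroup G) (hAK : A ≤ Subgroup.normalizer (K : Set G))
    (hcop : (Nat.card A).Coprime (Nat.card K)) (hsolv : Group.IsSolvable A ∨ Group.IsSolvable K) :
    ⁅K, A⁆ ⊔ (K ⊓ Subgroup.centralizer (A : Set G)) = K := by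
  apply le_antisymm
  · exact sup_le (Subgroup.le_normalizer_iff_commutator_le_left.mp hAK) inf_le_left
  · intro k hk
    obtain ⟨w, hw, c, hc, rfl⟩ := exists_commutator_mul_fixed A K hAK hcop hsolv k hk
    exact Subgroup.mul_mem_sup hw hc

end Cfsg.Agent.S0026
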