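import Cfsg.Statements.S0027
import Cfsg.Agent.S0026
-- import your own Cfsg.Agent.* helpers here

set_option autoImplicit false
open Cfsg
open scoped commutatorElement

namespace Cfsg.Agent.S0027

/-- Under coprime action the commutator subgroup with A is stable: taking the commutator with A twice gives the same subgroup as once. -/
theorem result {G : Type*} [Group G] [Finite G] (A K : Subgroup G) (hAK : A ≤ Subgroup.normalizer (K : Set G))
    (hcop : (Nat.card A).Coprime (Nat.card K)) (hsolv : Group.IsSolvable A ∨ Group.IsSolvable K) :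
    ⁅⁅K, A⁆, A⁆ = ⁅K, A⁆ := by
  apply le_antisymm
  · exact Subgroup.le_normalizer_iff_commutator_le_left.mp
      (Subgroup.normalizer_commutator_ge_right K A)
  · rw [Subgroup.commutator_le]
    intro k hk a ha
    obtain ⟨w, hw, c, hc, rfl⟩ :=
      Cfsg.Agent.S0026.exists_commutator_mul_fixed A K hAK hcop hsolv k hk
    have hca : a * c = c * a := (Subgroup.mem_centralizer_iff.mp hc.2) a ha
    have h1 : ⁅w * c, a⁆ = ⁅w, a⁆ := by
      simp only [commutatorElement_def, mul_inv_rev]
      calc w * c * a * (c⁻¹ * w⁻¹) * a⁻¹ = w * (c * a) * c⁻¹ * w⁻¹ * a⁻¹ := by group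
        _ = w * (a * c) * c⁻¹ * w⁻¹ * a⁻¹ := by rw [hca]
        _ = w * a * w⁻¹ * a⁻¹ := by group
    rw [h1]
    exact Subgroup.commutator_mem_commutator hw ha

end Cfsg.Agent.S0027
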