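import Cfsg.Statements.S0096
import Cfsg.Agent.Lib.Helper24.PGroupBasic

set_option autoImplicit false
open Cfsg
open scoped commutatorElement

namespace Cfsg.Agent.S0096


/-- In a group of class at most two, a product of two elements of order dividing an odd prime `p`
has order dividing `p`. -/
theorem mul_pow_prime_eq_one {P : Type*} [Group P] {p : ℕ} (hpp : p.Prime) (hp : p ≠ 2)
    (h2 : ⁅commutator P, (⊤ : Subgroup P)⁆ = ⊥) (a b : P) (ha : a ^ p = 1) (hb : b ^ p = 1) :
    (a * b) ^ p = 1 := by
  have hcentral : ∀ c ∈ commutator P, ∀ g : P, Commute c g := by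
    intro c hc g
    have : ⁅c, g⁆ ∈ ⁅commutator P, (⊤ : Subgroup P)⁆ :=
      Subgroup.commutator_mem_commutator hc (Subgroup.mem_top g)
    rw [h2, Subgroup.mem_bot, commutatorElement_eq_one_iff_commute] at this
    exact this
  have hz : ⁅b, a⁆ ∈ commutator P :=
    Subgroup.commutator_mem_commutator (Subgroup.mem_top b) (Subgroup.mem_top a)
  have hza : Commute ⁅b, a⁆ a := hcentral _ hz a
  have hzb : Commute ⁅b, a⁆ b := hcentral _ hz b
  have hrel : b * a = ⁅b, a⁆ * a * b := by rw [commutatorElement_def]; group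
  have hzp : ⁅b, a⁆ ^ p = 1 := by
    rw [← Cfsg.Agent.Lib.Helper24.commutatorElement_pow_right_of_commute a b hza p, ha]
    simp
  have hdvd : p ∣ p.choose 2 := by
    apply hpp.dvd_choose_self (by norm_num)
    have := hpp.two_le
    omega
  obtain ⟨m, hm⟩ := hdvd
  rw [Cfsg.Agent.Lib.Helper24.mul_pow_of_central_comm a b _ hrel hza hzb p, ha, hb, hm, pow_mul, hzp]
  simp

/-- For odd p, in a p-group of class at most two the elements of order dividing p generate a subgroup of exponent dividing p. -/
theorem result {P : Type*} [Group P] [Finite P] {p : ℕ} [Fact p.Prime] (hp : p ≠ 2) (hP : IsPGroup p P) (h2 : ⁅commutator P, (⊤ : Subgroup P)⁆ = ⊥) (g : P) (hg : g ∈ Subgroup.closure {x : P | x ^ p = 1}) : g ^ p = 1 := by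
  have hpp : p.Prime := Fact.out
  induction hg using Subgroup.closure_induction with
  | mem w hw => exact hw
  | one => exact one_pow p
  | mul a b _ _ iha ihb => exact mul_pow_prime_eq_one hpp hp h2 a b iha ihb
  | inv a _ iha => rw [inv_pow, iha, inv_one]

end Cfsg.Agent.S0096
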