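import Cfsg.Statements.S0119
import Cfsg.Agent.S0012
import Cfsg.Agent.Lib.Helper96.ElemAb
import Cfsg.Agent.Lib.Helper9.PGroupLemmas
import Cfsg.Agent.Lib.Helper24.PGroupBasic

set_option autoImplicit false
open Cfsg

namespace Cfsg.Agent.S0119

open scoped commutatorElement

/-- If `G ⧸ N` is elementary abelian then `Φ(G) ≤ N`. -/
theorem frattini_le_of_elemAb_quotient {G : Type*} [Group G] (p : ℕ) [Fact p.Prime]
    (N : Subgroup G) [N.Normal] (h1 : commutator G ≤ N) (h2 : ∀ g : G, g ^ p ∈ N) :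
    frattini G ≤ N := by
  have hf : frattini (G ⧸ N) = ⊥ := by
    apply Cfsg.Agent.Lib.Helper96.frattini_eq_bot_of_elemAb p
    · intro a b
      induction a using QuotientGroup.induction_on with
      | H a =>
      induction b using QuotientGroup.induction_on with
      | H b =>
      rw [← QuotientGroup.mk_mul, ← QuotientGroup.mk_mul, QuotientGroup.eq]
      apply h1
      have : (a * b)⁻¹ * (b * a) = ⁅b⁻¹, a⁻¹⁆ := by rw [commutatorElement_def]; group
      rw [this]
      exact Subgroup.commutator_mem_commutator (Subgroup.mem_top _) (Subgroup.mem_top _)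
    · intro x
      induction x using QuotientGroup.induction_on with
      | H x =>
      rw [← QuotientGroup.mk_pow, QuotientGroup.eq_one_iff]
      exact h2 x
  have h3 := frattini_le_comap_frattini_of_surjective (QuotientGroup.mk'_surjective N)
  rw [hf] at h3
  intro x hx
  have h4 := h3 hx
  rw [Subgroup.mem_comap, Subgroup.mem_bot, QuotientGroup.mk'_apply, QuotientGroup.eq_one_iff] at h4
  exact h4

/-- Automorphisms preserve the centre. -/
theorem map_mem_center {G : Type*} [Group G] (φ : G ≃* G) {z : G} (hz : z ∈ Subgroup.center G) :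
    φ z ∈ Subgroup.center G := by
  rw [Subgroup.mem_center_iff] at hz ⊢
  intro g
  have := congrArg φ (hz (φ.symm g))
  simpa using this

/-- The elements that are central of order dividing `p` modulo the centre. -/
def critSub (p : ℕ) (G : Type*) [Group G] : Subgroup G where
  carrier := {h | (∀ g : G, ⁅h, g⁆ ∈ Subgroup.center G) ∧ h ^ p ∈ Subgroup.center G}
  one_mem' := by
    refine ⟨fun g => ?_, ?_⟩
    · rw [commutatorElement_one_left]; exact Subgroup.one_mem _
    · rw [one_pow]; exact Subgroup.one_mem _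
  mul_mem' := by
    rintro a b ⟨ha1, ha2⟩ ⟨hb1, hb2⟩
    refine ⟨fun g => ?_, ?_⟩
    · have e : ⁅a * b, g⁆ = a * ⁅b, g⁆ * a⁻¹ * ⁅a, g⁆ := by
        simp only [commutatorElement_def]; group
      rw [e]
      exact Subgroup.mul_mem _
        ((inferInstance : (Subgroup.center G).Normal).conj_mem _ (hb1 g) a) (ha1 g)
    · have hz : ⁅b, a⁆ ∈ Subgroup.center G := hb1 a
      have hz' := Subgroup.mem_center_iff.mp hz
      have e := Cfsg.Agent.Lib.Helper24.mul_pow_of_central_comm a b ⁅b, a⁆
        (by rw [commutatorElement_def]; group) (hz' a).symm (hz' b).symm p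
      rw [e]
      exact Subgroup.mul_mem _ (Subgroup.mul_mem _ ha2 hb2) (Subgroup.pow_mem _ hz _)
  inv_mem' := by
    rintro a ⟨ha1, ha2⟩
    refine ⟨fun g => ?_, ?_⟩
    · have e : ⁅a⁻¹, g⁆ = a⁻¹ * (⁅a, g⁆)⁻¹ * a⁻¹⁻¹ := by
        simp only [commutatorElement_def]; group
      rw [e]
      exact (inferInstance : (Subgroup.center G).Normal).conj_mem _
        (Subgroup.inv_mem _ (ha1 g)) a⁻¹
    · rw [inv_pow]; exact Subgroup.inv_mem _ ha2

theorem mem_critSub {p : ℕ} {G : Type*} [Group G] (h : G) :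
    h ∈ critSub p G ↔ (∀ g : G, ⁅h, g⁆ ∈ Subgroup.center G) ∧ h ^ p ∈ Subgroup.center G :=
  Iff.rfl

instance critSub_characteristic (p : ℕ) (G : Type*) [Group G] : (critSub p G).Characteristic := by
  rw [Subgroup.characteristic_iff_le_comap]
  intro φ h hh
  rw [Subgroup.mem_comap, mem_critSub]
  rw [mem_critSub] at hh
  refine ⟨fun g => ?_, ?_⟩
  · have e : ⁅φ.toMonoidHom h, g⁆ = φ ⁅h, φ.symm g⁆ := by
      simp [commutatorElement_def]
    rw [e]
    exact map_mem_center φ (hh.1 _)
  · have e : (φ.toMonoidHom h) ^ p = φ (h ^ p) := by simp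
    rw [e]
    exact map_mem_center φ hh.2

theorem center_le_critSub (p : ℕ) (G : Type*) [Group G] : Subgroup.center G ≤ critSub p G := by
  intro z hz
  rw [mem_critSub]
  refine ⟨fun g => ?_, Subgroup.pow_mem _ hz _⟩
  have := Subgroup.mem_center_iff.mp hz g
  have e : ⁅z, g⁆ = 1 := by
    rw [commutatorElement_def]
    calc z * g * z⁻¹ * g⁻¹ = g * z * z⁻¹ * g⁻¹ := by rw [this]
      _ = 1 := by group
  rw [e]; exact Subgroup.one_mem _

/-- In a finite `p`-group all of whose characteristic abelian subgroups are central, the centralizer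
of `critSub` is the centre. -/
theorem centralizer_critSub_le {G : Type*} [Group G] [Finite G] {p : ℕ} [Fact p.Prime]
    (hG : IsPGroup p G)
    (hK : ∀ M : Subgroup G, M.Characteristic → IsMulCommutative M → M ≤ Subgroup.center G) :
    Subgroup.centralizer (critSub p G : Set G) ≤ Subgroup.center G := by
  set C := critSub p G with hC
  set Z := Subgroup.center G with hZ
  set Q := Subgroup.centralizer (C : Set G) with hQ
  -- `C ⊓ Q ≤ Z`
  have hCQ : C ⊓ Q ≤ Z := by
    apply hK (C ⊓ Q) inferInstance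
    refine ⟨⟨fun a b => ?_⟩⟩
    apply Subtype.ext
    have hb : (b : G) ∈ C := b.2.1
    have ha : (a : G) ∈ Q := a.2.2
    exact (Subgroup.mem_centralizer_iff.mp ha b hb).symm
  by_contra hcon
  -- `Q` is not contained in `Z`, so its image in `G ⧸ Z` is a nontrivial normal subgroup
  have hQn : Q.Normal := inferInstance
  have hmapn : (Q.map (QuotientGroup.mk' Z)).Normal :=
    hQn.map _ (QuotientGroup.mk'_surjective Z)
  have hmapne : Q.map (QuotientGroup.mk' Z) ≠ ⊥ := by
    intro hbot
    apply hcon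
    intro x hx
    have h1 : QuotientGroup.mk' Z x ∈ Q.map (QuotientGroup.mk' Z) := Subgroup.mem_map_of_mem _ hx
    rw [hbot, Subgroup.mem_bot, QuotientGroup.mk'_apply, QuotientGroup.eq_one_iff] at h1
    exact h1
  have hGq : IsPGroup p (G ⧸ Z) := hG.to_quotient Z
  obtain ⟨z, hzQ, hz1, hzc⟩ :=
    Cfsg.Agent.Lib.Helper9.exists_ne_one_mem_center_of_normal hGq _ hmapne
  -- pass to an element of order `p`
  obtain ⟨k, hk⟩ := (IsPGroup.iff_orderOf.mp hGq) z
  have hk0 : k ≠ 0 := by
    rintro rfl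
    rw [pow_zero, orderOf_eq_one_iff] at hk
    exact hz1 hk
  obtain ⟨j, rfl⟩ := Nat.exists_eq_succ_of_ne_zero hk0
  set w := z ^ (p ^ j) with hw
  have hwp : w ^ p = 1 := by
    rw [hw, ← pow_mul, ← pow_succ, ← hk, pow_orderOf_eq_one]
  have hw1 : w ≠ 1 := by
    intro h1
    have h2 : orderOf z ∣ p ^ j := orderOf_dvd_of_pow_eq_one h1
    rw [hk] at h2
    have hp : p.Prime := Fact.out
    have := Nat.le_of_dvd (pow_pos hp.pos j) h2
    have h3 : p ^ j < p ^ (j + 1) := Nat.pow_lt_pow_right hp.one_lt (Nat.lt_succ_self j)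
    exact absurd this (not_le.mpr h3)
  have hwQ : w ∈ Q.map (QuotientGroup.mk' Z) := Subgroup.pow_mem _ hzQ _
  have hwc : w ∈ Subgroup.center (G ⧸ Z) := Subgroup.pow_mem _ hzc _
  obtain ⟨x, hxQ, hxw⟩ := hwQ
  -- `x ∈ C`
  have hxC : x ∈ C := by
    rw [hC, mem_critSub]
    refine ⟨fun g => ?_, ?_⟩
    · rw [← QuotientGroup.eq_one_iff]
      have h1 : ((⁅x, g⁆ : G) : G ⧸ Z) = ⁅(QuotientGroup.mk' Z x), (QuotientGroup.mk' Z g)⁆ := by
        simp [commutatorElement_def]
      rw [h1, hxw]
      have h2 := Subgroup.mem_center_iff.mp hwc (QuotientGroup.mk' Z g)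
      rw [commutatorElement_def]
      calc w * QuotientGroup.mk' Z g * w⁻¹ * (QuotientGroup.mk' Z g)⁻¹
          = QuotientGroup.mk' Z g * w * w⁻¹ * (QuotientGroup.mk' Z g)⁻¹ := by rw [h2]
        _ = 1 := by group
    · rw [← QuotientGroup.eq_one_iff]
      have h1 : ((x ^ p : G) : G ⧸ Z) = (QuotientGroup.mk' Z x) ^ p := by simp
      rw [h1, hxw, hwp]
  have hxZ : x ∈ Z := hCQ ⟨hxC, hxQ⟩
  apply hw1
  rw [← hxw, QuotientGroup.mk'_apply, QuotientGroup.eq_one_iff]
  exact hxZ


/-- Step 1: every characteristic abelian subgroup is central. -/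
theorem le_center_of_char_abelian {G : Type*} [Group G] (A : Subgroup (MulAut G))
    (hGA : Subgroup.closure {x : G | ∃ g : G, ∃ a ∈ A, x = g⁻¹ * a g} = ⊤)
    (hchar : ∀ H : Subgroup G, H.Characteristic → IsMulCommutative H → ∀ a ∈ A, ∀ h ∈ H, a h = h)
    (M : Subgroup G) (hM : M.Characteristic) (hMc : IsMulCommutative M) :
    M ≤ Subgroup.center G := by
  have hMn : M.Normal := inferInstance
  have key : (⊤ : Subgroup G) ≤ Subgroup.centralizer (M : Set G) := by
    rw [← hGA, Subgroup.closure_le]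
    rintro x ⟨g, a, ha, rfl⟩
    rw [SetLike.mem_coe, Subgroup.mem_centralizer_iff]
    intro m hm
    have h1 : g * m * g⁻¹ ∈ M := hMn.conj_mem m hm g
    have h2 := hchar M hM hMc a ha _ h1
    have h3 := hchar M hM hMc a ha m hm
    rw [map_mul, map_mul, map_inv, h3] at h2
    calc m * (g⁻¹ * a g) = g⁻¹ * (g * m * g⁻¹) * a g := by group
      _ = g⁻¹ * (a g * m * (a g)⁻¹) * a g := by rw [h2]
      _ = g⁻¹ * a g * m := by group
  intro m hm
  rw [Subgroup.mem_center_iff]
  intro g
  exact (Subgroup.mem_centralizer_iff.mp (key (Subgroup.mem_top g)) m hm).symm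

/-- The averaging argument: a fixed point of `A` lies in the derived subgroup when `G = [G, A]`. -/
theorem mem_commutator_of_fixed {G : Type*} [Group G] [Finite G] {p : ℕ} [Fact p.Prime]
    (hG : IsPGroup p G) (A : Subgroup (MulAut G)) (hA : Nat.Coprime (Nat.card A) p)
    (hGA : Subgroup.closure {x : G | ∃ g : G, ∃ a ∈ A, x = g⁻¹ * a g} = ⊤)
    (c : G) (hc : ∀ a ∈ A, a c = c) : c ∈ commutator G := by
  classical
  have : Fintype A := Fintype.ofFinite A
  let φ : G →* Abelianization G :=
    ∏ a : A, (Abelianization.of).comp ((a : MulAut G).toMonoidHom)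
  have hφ : ∀ x : G, φ x = ∏ a : A, Abelianization.of ((a : MulAut G) x) := by
    intro x
    simp only [φ, MonoidHom.finsetProd_apply]
    rfl
  -- `φ` is `A`-invariant
  have hinv : ∀ b ∈ A, ∀ x : G, φ (b x) = φ x := by
    intro b hb x
    rw [hφ, hφ]
    have := Equiv.prod_comp (Equiv.mulRight (⟨b, hb⟩ : A))
      (fun a : A => Abelianization.of ((a : MulAut G) x))
    rw [← this]
    apply Finset.prod_congr rfl
    intro a _
    simp [MulAut.mul_apply]
  -- `φ` is trivial
  have hker : φ.ker = ⊤ := by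
    rw [eq_top_iff, ← hGA, Subgroup.closure_le]
    rintro x ⟨g, a, ha, rfl⟩
    rw [SetLike.mem_coe, MonoidHom.mem_ker, map_mul, map_inv, hinv a ha g, inv_mul_cancel]
  have h1 : φ c = 1 := by
    have : c ∈ φ.ker := by rw [hker]; exact Subgroup.mem_top c
    exact MonoidHom.mem_ker.mp this
  have h2 : φ c = (Abelianization.of c) ^ (Nat.card A) := by
    rw [hφ]
    have : ∀ a : A, Abelianization.of ((a : MulAut G) c) = Abelianization.of c := by
      intro a; rw [hc a a.2]
    simp only [this, Finset.prod_const, Finset.card_univ, Nat.card_eq_fintype_card]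
  rw [h2] at h1
  obtain ⟨k, hk⟩ := hG c
  have h3 : (Abelianization.of c) ^ (p ^ k) = 1 := by rw [← map_pow, hk, map_one]
  have h4 : orderOf (Abelianization.of c) = 1 :=
    Nat.eq_one_of_dvd_coprimes (Nat.Coprime.pow_right k hA) (orderOf_dvd_of_pow_eq_one h1)
      (orderOf_dvd_of_pow_eq_one h3)
  rw [orderOf_eq_one_iff] at h4
  rw [← Abelianization.ker_of, MonoidHom.mem_ker]
  exact h4

/-- If a p'-group A of automorphisms of a p-group G satisfies G = [G, A] and acts trivially on every characteristic abelian subgroup, then G is special with centre equal to the fixed points of A. -/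
theorem result {G : Type*} [Group G] [Finite G] {p : ℕ} [Fact p.Prime] (hG : IsPGroup p G) (A : Subgroup (MulAut G)) (hA : Nat.Coprime (Nat.card A) p) (hGA : Subgroup.closure {x : G | ∃ g : G, ∃ a ∈ A, x = g⁻¹ * a g} = ⊤) (hchar : ∀ H : Subgroup G, H.Characteristic → IsMulCommutative H → ∀ a ∈ A, ∀ h ∈ H, a h = h) : Cfsg.IsSpecial p G ∧ (∀ g : G, (g ∈ Subgroup.center G ↔ ∀ a ∈ A, a g = g)) := by
  have hK := le_center_of_char_abelian A hGA hchar
  have hp : p.Prime := Fact.out
  set Z := Subgroup.center G with hZ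
  set C := critSub p G with hC
  have hQZ : Subgroup.centralizer (C : Set G) ≤ Z := centralizer_critSub_le hG hK
  -- `⁅c, g⁆` is central for `c ∈ C`
  have hCcomm : ∀ c ∈ C, ∀ g : G, ⁅c, g⁆ ∈ Z := fun c hc g => ((mem_critSub c).mp hc).1 g
  have hCpow : ∀ c ∈ C, c ^ p ∈ Z := fun c hc => ((mem_critSub c).mp hc).2
  -- the derived subgroup is central
  have hcomm : commutator G ≤ Z := by
    apply le_trans _ hQZ
    have h1 : ⁅⁅(⊤ : Subgroup G), C⁆, (⊤ : Subgroup G)⁆ = ⊥ := by
      rw [Subgroup.commutator_eq_bot_iff_le_centralizer]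
      apply le_trans _ (Subgroup.center_le_centralizer _)
      rw [Subgroup.commutator_comm, Subgroup.commutator_le]
      intro c hc g _
      exact hCcomm c hc g
    have h2 : ⁅⁅C, (⊤ : Subgroup G)⁆, (⊤ : Subgroup G)⁆ = ⊥ := by
      rw [Subgroup.commutator_eq_bot_iff_le_centralizer]
      apply le_trans _ (Subgroup.center_le_centralizer _)
      rw [Subgroup.commutator_le]
      intro c hc g _
      exact hCcomm c hc g
    have h3 := Subgroup.commutator_commutator_eq_bot_of_rotate h1 h2
    rw [Subgroup.commutator_eq_bot_iff_le_centralizer] at h3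
    rw [commutator_def]
    exact h3
  -- `p`-th powers are central
  have hpow : ∀ g : G, g ^ p ∈ Z := by
    intro g
    apply hQZ
    rw [Subgroup.mem_centralizer_iff]
    intro c hc
    have hz : ⁅c, g⁆ ∈ Z := hCcomm c hc g
    have hz' := Subgroup.mem_center_iff.mp hz
    have e1 : ⁅c, g ^ p⁆ = ⁅c, g⁆ ^ p :=
      Cfsg.Agent.Lib.Helper24.commutatorElement_pow_right_of_commute g c (hz' g).symm p
    -- `⁅c, g⁆ ^ p = ⁅c ^ p, g⁆ = 1`
    have e2 : ⁅g, c ^ p⁆ = ⁅g, c⁆ ^ p := by
      apply Cfsg.Agent.Lib.Helper24.commutatorElement_pow_right_of_commute c g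
      have hgc : ⁅g, c⁆ ∈ Z := by
        rw [← commutatorElement_inv]; exact Subgroup.inv_mem _ hz
      exact ((Subgroup.mem_center_iff.mp hgc) c).symm
    have e3 : ⁅g, c ^ p⁆ = 1 := by
      have hcp := Subgroup.mem_center_iff.mp (hCpow c hc) g
      rw [commutatorElement_def]
      calc g * c ^ p * g⁻¹ * (c ^ p)⁻¹ = c ^ p * g * g⁻¹ * (c ^ p)⁻¹ := by rw [hcp]
        _ = 1 := by group
    have e4 : ⁅c, g⁆ ^ p = 1 := by
      rw [← commutatorElement_inv, inv_pow, ← e2, e3, inv_one]
    rw [e4] at e1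
    -- `c * g^p * c⁻¹ * (g^p)⁻¹ = 1`
    rw [commutatorElement_def] at e1
    calc c * g ^ p = (c * g ^ p * c⁻¹ * (g ^ p)⁻¹) * (g ^ p * c) := by group
      _ = g ^ p * c := by rw [e1, one_mul]
  -- fixed points lie in the derived subgroup
  have hfix := mem_commutator_of_fixed hG A hA hGA
  have hZfix : ∀ z ∈ Z, ∀ a ∈ A, a z = z := by
    intro z hz a ha
    exact hchar Z inferInstance inferInstance a ha z hz
  have hZcomm : Z ≤ commutator G := fun z hz => hfix z (hZfix z hz)
  have hcommZ : commutator G = Z := le_antisymm hcomm hZcomm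
  have hfr1 : frattini G ≤ Z := frattini_le_of_elemAb_quotient p Z hcomm hpow
  have hfr2 : Z ≤ frattini G := hZcomm.trans (Cfsg.Agent.S0012.result p hG).1
  refine ⟨⟨hG, le_antisymm hfr1 hfr2, hcommZ⟩, ?_⟩
  intro g
  constructor
  · intro hg a ha
    exact hZfix g hg a ha
  · intro hg
    exact hcomm (hfix g hg)

end Cfsg.Agent.S0119
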