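import Cfsg.Statements.S3736
import Cfsg.Agent.S0119
import Cfsg.Agent.S0096
import Cfsg.Agent.S0027
import Cfsg.Agent.S0012
import Cfsg.Agent.Lib.Helper24.Omega

set_option autoImplicit false
open Cfsg

namespace Cfsg.Agent.S3736

open scoped commutatorElement

section Translate
variable {X : Type*} [Group X]

/-- The automorphisms of `P` induced by conjugation with the elements of `A ∩ N(P)`. -/
def indAut (A P : Subgroup X) : Subgroup (MulAut P) :=
  (A.subgroupOf (Subgroup.normalizer (P : Set X))).map P.normalizerMonoidHom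

theorem mem_indAut {A P : Subgroup X} (hAP : A ≤ Subgroup.normalizer (P : Set X)) (a' : MulAut P) :
    a' ∈ indAut A P ↔ ∃ a, ∃ ha : a ∈ A, P.normalizerMonoidHom ⟨a, hAP ha⟩ = a' := by
  unfold indAut
  rw [Subgroup.mem_map]
  constructor
  · rintro ⟨n, hn, rfl⟩
    exact ⟨(n : X), Subgroup.mem_subgroupOf.mp hn, rfl⟩
  · rintro ⟨a, ha, rfl⟩
    exact ⟨⟨a, hAP ha⟩, Subgroup.mem_subgroupOf.mpr ha, rfl⟩

theorem card_indAut_dvd {A P : Subgroup X} (hAP : A ≤ Subgroup.normalizer (P : Set X)) :
    Nat.card (indAut A P) ∣ Nat.card A := by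
  have h1 : Nat.card (indAut A P) ∣ Nat.card (A.subgroupOf (Subgroup.normalizer (P : Set X))) :=
    Subgroup.card_dvd_of_surjective _
      (MonoidHom.subgroupMap_surjective P.normalizerMonoidHom
        (A.subgroupOf (Subgroup.normalizer (P : Set X))))
  have h2 : Nat.card (A.subgroupOf (Subgroup.normalizer (P : Set X))) = Nat.card A :=
    Nat.card_congr (Subgroup.subgroupOfEquivOfLe hAP).toEquiv
  rwa [h2] at h1

theorem indAut_fixed_iff {A P : Subgroup X} (hAP : A ≤ Subgroup.normalizer (P : Set X)) (x : P) :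
    (∀ a' ∈ indAut A P, a' x = x) ↔ ∀ a ∈ A, a * (x : X) * a⁻¹ = (x : X) := by
  constructor
  · intro h a ha
    have h1 := h (P.normalizerMonoidHom ⟨a, hAP ha⟩) ((mem_indAut hAP _).mpr ⟨a, ha, rfl⟩)
    exact congrArg Subtype.val h1
  · intro h a' ha'
    obtain ⟨a, ha, rfl⟩ := (mem_indAut hAP a').mp ha'
    apply Subtype.ext
    exact h a ha

theorem closure_indAut_eq_top {A P : Subgroup X} (hAP : A ≤ Subgroup.normalizer (P : Set X))
    (h : ⁅P, A⁆ = P) :
    Subgroup.closure {x : P | ∃ g : P, ∃ a ∈ indAut A P, x = g⁻¹ * a g} = ⊤ := by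
  apply Subgroup.map_injective P.subtype_injective
  rw [MonoidHom.map_closure, ← MonoidHom.range_eq_map, Subgroup.range_subtype]
  conv_rhs => rw [← h]
  rw [Subgroup.commutator_def]
  congr 1
  ext y
  constructor
  · rintro ⟨x, ⟨g, a', ha', rfl⟩, rfl⟩
    obtain ⟨a, ha, rfl⟩ := (mem_indAut hAP a').mp ha'
    refine ⟨((g⁻¹ : P) : X), (g⁻¹ : P).2, a, ha, ?_⟩
    rw [commutatorElement_def]
    show ((g⁻¹ : P) : X) * a * ((g⁻¹ : P) : X)⁻¹ * a⁻¹ = ((g⁻¹ : P) : X) * (a * (g : X) * a⁻¹)
    simp only [Subgroup.coe_inv]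
    group
  · rintro ⟨g₁, hg₁, a, ha, rfl⟩
    refine ⟨(⟨g₁, hg₁⟩ : P) * P.normalizerMonoidHom ⟨a, hAP ha⟩ (⟨g₁, hg₁⟩ : P)⁻¹,
      ⟨(⟨g₁, hg₁⟩ : P)⁻¹, P.normalizerMonoidHom ⟨a, hAP ha⟩, (mem_indAut hAP _).mpr ⟨a, ha, rfl⟩,
        by rw [inv_inv]⟩, ?_⟩
    rw [commutatorElement_def]
    show g₁ * (a * (g₁⁻¹) * a⁻¹) = g₁ * a * g₁⁻¹ * a⁻¹
    group

theorem le_normalizer_map_of_characteristic [Finite X] {B P : Subgroup X}
    (hBP : B ≤ Subgroup.normalizer (P : Set X)) (H : Subgroup P) (hH : H.Characteristic) :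
    B ≤ Subgroup.normalizer ((H.map P.subtype : Subgroup X) : Set X) := by
  intro b hb
  apply Subgroup.mem_normalizer_fintype
  rintro _ ⟨h, hh, rfl⟩
  have h1 : P.normalizerMonoidHom ⟨b, hBP hb⟩ h ∈ H :=
    (Subgroup.characteristic_iff_le_comap.mp hH (P.normalizerMonoidHom ⟨b, hBP hb⟩)) hh
  exact ⟨_, h1, rfl⟩

end Translate


/-- The Hall–Higman reduction for a minimal non-trivial action. Let B, A and P be subgroups of a finite group with P a p-group, B normalizing P, and A a normal subgroup of B of order prime to p. Suppose A does not centralize P but centralizes every proper B-invariant subgroup of P. Then [P, A] = P; P is elementary abelian or special; B acts irreducibly on P/Φ(P), that is, the only B-invariant subgroups of P containing Φ(P) are Φ(P) and P; and if p is odd then every element of P has order dividing p. -/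
theorem result {X : Type*} [Group X] [Finite X] {p : ℕ} [Fact p.Prime] (B A P : Subgroup X) (hP : IsPGroup p P) (hBP : B ≤ Subgroup.normalizer (P : Set X)) (hAB : A ≤ B) (hAn : B ≤ Subgroup.normalizer (A : Set X)) (hAp : (Nat.card A).Coprime p) (hnt : ⁅P, A⁆ ≠ ⊥) (hmin : ∀ U : Subgroup X, U < P → B ≤ Subgroup.normalizer (U : Set X) → ⁅U, A⁆ = ⊥) : ⁅P, A⁆ = P ∧ (Cfsg.IsElementaryAbelian p P ∨ Cfsg.IsSpecial p ↥P) ∧ (∀ U : Subgroup X, (frattini ↥P).map P.subtype ≤ U → U ≤ P → B ≤ Subgroup.normalizer (U : Set X) → U = (frattini ↥P).map P.subtype ∨ U = P) ∧ (p ≠ 2 → ∀ x ∈ P, x ^ p = 1) := by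
  have hp : p.Prime := Fact.out
  have hAP : A ≤ Subgroup.normalizer (P : Set X) := hAB.trans hBP
  have hPg : IsPGroup p ↥P := hP
  have hcopAP : (Nat.card A).Coprime (Nat.card P) := by
    obtain ⟨n, hn⟩ := hPg.exists_card_eq
    rw [hn]; exact Nat.Coprime.pow_right n hAp
  have hPsolv : Group.IsSolvable P := by
    have : Group.IsNilpotent P := hPg.isNilpotent
    infer_instance
  -- (1) `[P, A] = P`
  have hcomm_le : ⁅P, A⁆ ≤ P := Subgroup.le_normalizer_iff_commutator_le_left.mp hAP
  have hBcomm : B ≤ Subgroup.normalizer ((⁅P, A⁆ : Subgroup X) : Set X) := by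
    intro b hb
    rw [Subgroup.mem_normalizer_iff_map_conj_eq, Subgroup.map_commutator,
      Subgroup.mem_normalizer_iff_map_conj_eq.mp (hBP hb),
      Subgroup.mem_normalizer_iff_map_conj_eq.mp (hAn hb)]
  have hG1 : ⁅P, A⁆ = P := by
    by_contra hne
    have hlt : ⁅P, A⁆ < P := lt_of_le_of_ne hcomm_le hne
    have h1 := hmin _ hlt hBcomm
    rw [Cfsg.Agent.S0027.result A P hAP hcopAP (Or.inr hPsolv)] at h1
    exact hnt h1
  -- the induced automorphism group
  have hA'cop : (Nat.card (indAut A P)).Coprime p :=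
    Nat.Coprime.coprime_dvd_left (card_indAut_dvd hAP) hAp
  have hGA := closure_indAut_eq_top hAP hG1
  have hfix : ∀ c : P, (∀ a ∈ A, a * (c : X) * a⁻¹ = (c : X)) → c ∈ commutator P := fun c hc =>
    Cfsg.Agent.S0119.mem_commutator_of_fixed hPg (indAut A P) hA'cop hGA c
      ((indAut_fixed_iff hAP c).mpr hc)
  have hcent : ∀ U : Subgroup X, U < P → B ≤ Subgroup.normalizer (U : Set X) →
      ∀ u ∈ U, ∀ a ∈ A, a * u * a⁻¹ = u := by
    intro U hU hBU u hu a ha
    have h1 := hmin U hU hBU
    rw [Subgroup.commutator_eq_bot_iff_le_centralizer] at h1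
    have h2 := Subgroup.mem_centralizer_iff.mp (h1 hu) a ha
    rw [h2, mul_assoc, mul_inv_cancel, mul_one]
  have hPbot : P ≠ ⊥ := by
    intro h
    apply hnt
    rw [h, Subgroup.commutator_bot_left]
  -- (3) irreducibility
  have hG3 : ∀ U : Subgroup X, (frattini ↥P).map P.subtype ≤ U → U ≤ P →
      B ≤ Subgroup.normalizer (U : Set X) → U = (frattini ↥P).map P.subtype ∨ U = P := by
    intro U hΦU hUP hBU
    by_cases hUeq : U = P
    · right; exact hUeq
    · left
      apply le_antisymm _ hΦU
      intro u hu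
      have hc := hfix ⟨u, hUP hu⟩
        (fun a ha => hcent U (lt_of_le_of_ne hUP hUeq) hBU u hu a ha)
      have h3 := (Cfsg.Agent.S0012.result p hPg).1 hc
      exact ⟨⟨u, hUP hu⟩, h3, rfl⟩
  -- the elements of order dividing `p`
  have hBs : B ≤ Subgroup.normalizer
      ((Subgroup.closure {x : X | x ∈ P ∧ x ^ p = 1} : Subgroup X) : Set X) := by
    rw [Subgroup.le_normalizer_closure_iff]
    rintro b hb x ⟨hxP, hxp⟩
    apply Subgroup.subset_closure
    refine ⟨(Subgroup.mem_normalizer_iff.mp (hBP hb) x).mp hxP, ?_⟩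
    rw [conj_pow, hxp, mul_one, mul_inv_cancel]
  have hsP : Subgroup.closure {x : X | x ∈ P ∧ x ^ p = 1} ≤ P := by
    rw [Subgroup.closure_le]
    intro x hx
    exact hx.1
  by_cases hab : ∀ x ∈ P, ∀ y ∈ P, x * y = y * x
  · -- abelian case
    have hexp : ∀ x ∈ P, x ^ p = 1 := by
      by_contra hcon
      push Not at hcon
      obtain ⟨x₀, hx₀P, hx₀⟩ := hcon
      -- all elements of the closure have order dividing `p`
      have hcl : ∀ g ∈ Subgroup.closure {x : X | x ∈ P ∧ x ^ p = 1}, g ^ p = 1 := by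
        intro g hg
        induction hg using Subgroup.closure_induction with
        | mem w hw => exact hw.2
        | one => exact one_pow p
        | mul a b ha hb iha ihb =>
          have hc : Commute a b := hab a (hsP ha) b (hsP hb)
          rw [hc.mul_pow, iha, ihb, one_mul]
        | inv a _ iha => rw [inv_pow, iha, inv_one]
      have hlt : Subgroup.closure {x : X | x ∈ P ∧ x ^ p = 1} < P := by
        apply lt_of_le_of_ne hsP
        intro heq
        apply hx₀
        apply hcl
        rw [heq]; exact hx₀P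
      -- an element of order `p`
      have hdvd : p ∣ Nat.card P := by
        have : Nontrivial P := (Subgroup.nontrivial_iff_ne_bot P).mpr hPbot
        obtain ⟨n, hn0, hn⟩ := hPg.nontrivial_iff_card.mp inferInstance
        rw [hn]; exact dvd_pow_self _ (ne_of_gt hn0)
      obtain ⟨y, hy⟩ := exists_prime_orderOf_dvd_card' (G := P) p hdvd
      have hyp : ((y : P) : X) ^ p = 1 := by
        have := pow_orderOf_eq_one y
        rw [hy] at this
        exact congrArg Subtype.val this
      have hymem : ((y : P) : X) ∈ Subgroup.closure {x : X | x ∈ P ∧ x ^ p = 1} :=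
        Subgroup.subset_closure ⟨y.2, hyp⟩
      have hyc := hfix y (fun a ha => hcent _ hlt hBs _ hymem a ha)
      have hcb : commutator P = ⊥ := by
        rw [commutator_def, Subgroup.commutator_eq_bot_iff_le_centralizer]
        intro u _
        rw [Subgroup.mem_centralizer_iff]
        intro v _
        apply Subtype.ext
        exact hab v v.2 u u.2
      rw [hcb, Subgroup.mem_bot] at hyc
      rw [hyc, orderOf_one] at hy
      exact hp.one_lt.ne hy
    refine ⟨hG1, Or.inl ⟨⟨⟨fun a b => Subtype.ext (hab a a.2 b b.2)⟩⟩, hexp⟩, hG3, fun _ => hexp⟩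
  · -- non-abelian case
    have hchar : ∀ H : Subgroup P, H.Characteristic → IsMulCommutative H →
        ∀ a ∈ indAut A P, ∀ h ∈ H, a h = h := by
      intro H hH hHc a' ha' h hh
      have hUP : H.map P.subtype ≤ P := Subgroup.map_subtype_le H
      have hUne : H.map P.subtype ≠ P := by
        intro heq
        apply hab
        intro x hx y hy
        have hx' : x ∈ H.map P.subtype := by rw [heq]; exact hx
        have hy' : y ∈ H.map P.subtype := by rw [heq]; exact hy
        obtain ⟨x', hx'H, rfl⟩ := hx'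
        obtain ⟨y', hy'H, rfl⟩ := hy'
        have := hHc.is_comm.comm (⟨x', hx'H⟩ : H) ⟨y', hy'H⟩
        have h2 := congrArg (fun w : H => ((w : P) : X)) this
        simpa using h2
      have hBU := le_normalizer_map_of_characteristic hBP H hH
      exact (indAut_fixed_iff hAP h).mpr
        (fun a ha => hcent _ (lt_of_le_of_ne hUP hUne) hBU _ ⟨h, hh, rfl⟩ a ha) a' ha'
    obtain ⟨hspec, _⟩ := Cfsg.Agent.S0119.result hPg (indAut A P) hA'cop hGA hchar
    refine ⟨hG1, Or.inr hspec, hG3, ?_⟩
    intro hp2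
    -- class two
    have h2 : ⁅commutator P, (⊤ : Subgroup P)⁆ = ⊥ := by
      rw [hspec.2.2, Subgroup.commutator_eq_bot_iff_le_centralizer]
      exact Subgroup.center_le_centralizer _
    have hcl : ∀ g ∈ Subgroup.closure {x : X | x ∈ P ∧ x ^ p = 1}, g ^ p = 1 := by
      intro g hg
      have hg' : g ∈ (Subgroup.closure {x : P | x ^ p = 1}).map P.subtype := by
        rw [MonoidHom.map_closure]
        have hset : (P.subtype '' {x : P | x ^ p = 1}) = {x : X | x ∈ P ∧ x ^ p = 1} := by
          ext z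
          constructor
          · rintro ⟨w, hw, rfl⟩
            exact ⟨w.2, by
              have := congrArg Subtype.val (show w ^ p = 1 from hw)
              simpa using this⟩
          · rintro ⟨hzP, hzp⟩
            exact ⟨⟨z, hzP⟩, Subtype.ext (by simpa using hzp), rfl⟩
        rw [hset]; exact hg
      obtain ⟨g', hg'cl, rfl⟩ := hg'
      have := Cfsg.Agent.S0096.result hp2 hPg h2 g' hg'cl
      have h3 := congrArg Subtype.val this
      simpa using h3
    by_contra hcon
    push Not at hcon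
    obtain ⟨x₀, hx₀P, hx₀⟩ := hcon
    have hlt : Subgroup.closure {x : X | x ∈ P ∧ x ^ p = 1} < P := by
      apply lt_of_le_of_ne hsP
      intro heq
      apply hx₀
      apply hcl
      rw [heq]; exact hx₀P
    apply hnt
    rw [Subgroup.commutator_eq_bot_iff_le_centralizer]
    intro x hx
    rw [Subgroup.mem_centralizer_iff]
    intro a ha
    have hacop : (orderOf a).Coprime p :=
      Nat.Coprime.coprime_dvd_left (Subgroup.orderOf_dvd_natCard A ha) hAp
    have hfixa : ∀ y ∈ P, y ^ p = 1 → a * y = y * a := by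
      intro y hy hyp
      have h3 := hcent _ hlt hBs y (Subgroup.subset_closure ⟨hy, hyp⟩) a ha
      calc a * y = a * y * a⁻¹ * a := by group
        _ = y * a := by rw [h3]
    exact Cfsg.Agent.Lib.Helper24.centralizes_of_centralizes_omega p hp2 a hacop P hP (hAP ha)
      hfixa x hx

end Cfsg.Agent.S3736
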