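import Cfsg.Statements.S0055
import Mathlib.GroupTheory.OrderOfElement
import Mathlib.Tactic.Group
import Mathlib.Algebra.BigOperators.Group.Finset.Basic
import Mathlib.Algebra.BigOperators.Group.Finset.Lemmas
import Mathlib.GroupTheory.Coset.Card
-- import your own Cfsg.Agent.* helpers here

set_option autoImplicit false
open Cfsg

namespace Cfsg.Agent.S0055

open scoped IsMulCommutative
open scoped commutatorElement

section
variable {G : Type*} [Group G] (A V : Subgroup G)

/-- Conjugation by an element of `A ≤ N_G(V)` as an endomorphism of `V`. -/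
def conjV (hAV : A ≤ Subgroup.normalizer (V : Set G)) (a : A) : V →* V where
  toFun v := ⟨a * v * a⁻¹, (Subgroup.mem_normalizer_iff.mp (hAV a.2) v).mp v.2⟩
  map_one' := by ext; simp
  map_mul' x y := by ext; simp [mul_assoc]

@[simp] theorem conjV_coe (hAV : A ≤ Subgroup.normalizer (V : Set G)) (a : A) (v : V) :
    ((conjV A V hAV a v : V) : G) = a * v * a⁻¹ := rfl

theorem conjV_mul (hAV : A ≤ Subgroup.normalizer (V : Set G)) (a b : A) (v : V) :
    conjV A V hAV a (conjV A V hAV b v) = conjV A V hAV (a * b) v := by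
  ext; simp [mul_assoc]

theorem commutator_le_V (hAV : A ≤ Subgroup.normalizer (V : Set G)) : ⁅V, A⁆ ≤ V := by
  rw [Subgroup.commutator_le]
  intro v hv a ha
  have h1 : a * v⁻¹ * a⁻¹ ∈ V := (Subgroup.mem_normalizer_iff.mp (hAV ha) v⁻¹).mp (V.inv_mem hv)
  have : ⁅v, a⁆ = v * (a * v⁻¹ * a⁻¹) := by rw [commutatorElement_def]; group
  rw [this]
  exact V.mul_mem hv h1

variable [Finite G] [IsMulCommutative V]

/-- The averaging (norm) map `v ↦ ∏_{a ∈ A} a v a⁻¹`. -/
noncomputable def avg (hAV : A ≤ Subgroup.normalizer (V : Set G)) : V →* V :=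
  letI : Fintype A := Fintype.ofFinite A
  ∏ a : A, conjV A V hAV a

theorem avg_apply (hAV : A ≤ Subgroup.normalizer (V : Set G)) (v : V) :
    avg A V hAV v = (letI : Fintype A := Fintype.ofFinite A; ∏ a : A, conjV A V hAV a v) := by
  unfold avg
  rw [MonoidHom.finsetProd_apply]

theorem avg_conj (hAV : A ≤ Subgroup.normalizer (V : Set G)) (b : A) (v : V) :
    avg A V hAV (conjV A V hAV b v) = avg A V hAV v := by
  let _ : Fintype A := Fintype.ofFinite A
  rw [avg_apply, avg_apply]
  have : ∀ a : A, conjV A V hAV a (conjV A V hAV b v) = conjV A V hAV (a * b) v :=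
    fun a => conjV_mul A V hAV a b v
  simp_rw [this]
  convert Fintype.prod_equiv (Equiv.mulRight b) (fun a => conjV A V hAV (a * b) v)
    (fun a => conjV A V hAV a v) (fun a => rfl) using 2

theorem conj_avg (hAV : A ≤ Subgroup.normalizer (V : Set G)) (b : A) (v : V) :
    conjV A V hAV b (avg A V hAV v) = avg A V hAV v := by
  let _ : Fintype A := Fintype.ofFinite A
  rw [avg_apply, map_prod]
  have : ∀ a : A, conjV A V hAV b (conjV A V hAV a v) = conjV A V hAV (b * a) v :=
    fun a => conjV_mul A V hAV b a v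
  simp_rw [this]
  convert Fintype.prod_equiv (Equiv.mulLeft b) (fun a => conjV A V hAV (b * a) v)
    (fun a => conjV A V hAV a v) (fun a => rfl) using 2

theorem avg_of_fixed (hAV : A ≤ Subgroup.normalizer (V : Set G)) (v : V)
    (hv : (v : G) ∈ Subgroup.centralizer (A : Set G)) :
    avg A V hAV v = v ^ Nat.card A := by
  let _ : Fintype A := Fintype.ofFinite A
  rw [avg_apply]
  have : ∀ a : A, conjV A V hAV a v = v := by
    intro a
    ext
    rw [conjV_coe]
    have := Subgroup.mem_centralizer_iff.mp hv a a.2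
    show (a : G) * v * (a : G)⁻¹ = v
    rw [this, mul_inv_cancel_right]
  simp_rw [this]
  rw [Finset.prod_const, Finset.card_univ, Nat.card_eq_fintype_card]

theorem commutator_le_ker (hAV : A ≤ Subgroup.normalizer (V : Set G)) :
    ⁅V, A⁆ ≤ (avg A V hAV).ker.map V.subtype := by
  rw [Subgroup.commutator_le]
  intro v hv a ha
  rw [Subgroup.mem_map]
  refine ⟨⟨v, hv⟩ * conjV A V hAV ⟨a, ha⟩ (⟨v, hv⟩⁻¹), ?_, ?_⟩
  · rw [MonoidHom.mem_ker, map_mul, avg_conj, map_inv, mul_inv_cancel]
  · simp only [Subgroup.coe_subtype, Subgroup.coe_mul, conjV_coe, Subgroup.coe_inv]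
    rw [commutatorElement_def]; group

end

/-- If A normalises an abelian subgroup V of coprime order, then V is the internal direct product of its A-fixed points and its commutator with A: the two meet trivially and generate V. -/
theorem result {G : Type*} [Group G] [Finite G] (A V : Subgroup G) [IsMulCommutative V]
    (hAV : A ≤ Subgroup.normalizer (V : Set G)) (hcop : (Nat.card A).Coprime (Nat.card V)) :
    (V ⊓ Subgroup.centralizer (A : Set G)) ⊓ ⁅V, A⁆ = ⊥ ∧ (V ⊓ Subgroup.centralizer (A : Set G)) ⊔ ⁅V, A⁆ = V := by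
  let _ : Fintype A := Fintype.ofFinite A
  constructor
  · rw [eq_bot_iff]
    intro x hx
    rw [Subgroup.mem_bot]
    obtain ⟨⟨hxV, hxC⟩, hxW⟩ := hx
    obtain ⟨y, hy, hyx⟩ := Subgroup.mem_map.mp (commutator_le_ker A V hAV hxW)
    have hyx' : y = ⟨x, hxV⟩ := Subtype.ext hyx
    rw [hyx', MonoidHom.mem_ker, avg_of_fixed A V hAV ⟨x, hxV⟩ hxC] at hy
    have h1 : orderOf (⟨x, hxV⟩ : V) ∣ Nat.card A := orderOf_dvd_of_pow_eq_one hy
    have h2 : orderOf (⟨x, hxV⟩ : V) ∣ Nat.card V := orderOf_dvd_natCard _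
    have h3 : orderOf (⟨x, hxV⟩ : V) = 1 := Nat.eq_one_of_dvd_coprimes hcop h1 h2
    have h4 := orderOf_eq_one_iff.mp h3
    exact congrArg Subtype.val h4
  · apply le_antisymm
    · exact sup_le inf_le_left (commutator_le_V A V hAV)
    · intro v hv
      set M := (V ⊓ Subgroup.centralizer (A : Set G)) ⊔ ⁅V, A⁆ with hM
      have hcop' : (Nat.card A).Coprime (orderOf v) := by
        apply Nat.Coprime.coprime_dvd_right _ hcop
        have := orderOf_dvd_natCard (⟨v, hv⟩ : V)
        rwa [← Subgroup.orderOf_mk v hv]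
      obtain ⟨m, hm⟩ := exists_pow_eq_self_of_coprime hcop'
      rw [← hm]
      apply Subgroup.pow_mem
      -- v ^ |A| = avg v * ∏ (v * (conj a v)⁻¹)
      have key : (⟨v, hv⟩ : V) ^ Nat.card A =
          avg A V hAV ⟨v, hv⟩ * ∏ a : A, (⟨v, hv⟩ * (conjV A V hAV a ⟨v, hv⟩)⁻¹) := by
        rw [avg_apply, ← Finset.prod_mul_distrib]
        have : ∀ a : A, conjV A V hAV a ⟨v, hv⟩ * (⟨v, hv⟩ * (conjV A V hAV a ⟨v, hv⟩)⁻¹) = ⟨v, hv⟩ := by
          intro a
          rw [mul_comm (⟨v, hv⟩ : V), mul_inv_cancel_left]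
        simp_rw [this]
        rw [Finset.prod_const, Finset.card_univ, Nat.card_eq_fintype_card]
      have key' : v ^ Nat.card A =
          ((avg A V hAV ⟨v, hv⟩ : V) : G) *
            ((∏ a : A, (⟨v, hv⟩ * (conjV A V hAV a ⟨v, hv⟩)⁻¹) : V) : G) := by
        have := congrArg (Subtype.val) key
        simpa using this
      rw [key']
      apply Subgroup.mul_mem
      · apply Subgroup.mem_sup_left
        refine Subgroup.mem_inf.mpr ⟨(avg A V hAV ⟨v, hv⟩).2, ?_⟩
        rw [Subgroup.mem_centralizer_iff]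
        intro b hb
        have h5 : b * ((avg A V hAV ⟨v, hv⟩ : V) : G) * b⁻¹ = ((avg A V hAV ⟨v, hv⟩ : V) : G) :=
          congrArg Subtype.val (conj_avg A V hAV ⟨b, hb⟩ ⟨v, hv⟩)
        calc b * _ = b * ((avg A V hAV ⟨v, hv⟩ : V) : G) * b⁻¹ * b := by group
          _ = _ := by rw [h5]
      · apply Subgroup.mem_sup_right
        have : (∏ a : A, (⟨v, hv⟩ * (conjV A V hAV a ⟨v, hv⟩)⁻¹) : V) ∈ (⁅V, A⁆).subgroupOf V := by
          apply Subgroup.prod_mem
          intro a _
          rw [Subgroup.mem_subgroupOf]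
          have : (((⟨v, hv⟩ : V) * (conjV A V hAV a ⟨v, hv⟩)⁻¹ : V) : G) = ⁅v, (a : G)⁆ := by
            simp only [Subgroup.coe_mul, Subgroup.coe_inv, conjV_coe]
            rw [commutatorElement_def]; group
          rw [this]
          exact Subgroup.commutator_mem_commutator hv a.2
        exact Subgroup.mem_subgroupOf.mp this

end Cfsg.Agent.S0055
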