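import Cfsg.Statements.S0058
import Cfsg.Agent.S0022
import Cfsg.Agent.S0023
import Cfsg.Agent.S0055
import Cfsg.Agent.Lib.Helper1.PGroupMax
-- import your own Cfsg.Agent.* helpers here

set_option autoImplicit false
open Cfsg

namespace Cfsg.Agent.S0058

open Pointwise
open scoped IsMulCommutative

section abstract
variable {E W : Type*} [CommGroup E] [CommGroup W]

/-- the "norm" of `w` along the powers of `e`. -/
def sig (φ : E →* Monoid.End W) (r : ℕ) (e : E) (w : W) : W :=
  ∏ j ∈ Finset.range r, φ (e ^ j) w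

theorem sig_fixed (φ : E →* Monoid.End W) (r : ℕ) (e : E) (he : e ^ r = 1) (w : W) :
    φ e (sig φ r e w) = sig φ r e w := by
  unfold sig
  rw [map_prod]
  have h1 : ∀ j ∈ Finset.range r, φ e (φ (e ^ j) w) = φ (e ^ (j + 1)) w := by
    intro j _
    rw [pow_succ', map_mul]; rfl
  rw [Finset.prod_congr rfl h1]
  have h2 := Finset.prod_range_succ (fun j => φ (e ^ j) w) r
  have h3 := Finset.prod_range_succ' (fun j => φ (e ^ j) w) r
  rw [h2] at h3
  simp only [he, pow_zero] at h3
  exact (mul_right_cancel h3).symm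

theorem abstract_gen [Finite W] (φ : E →* Monoid.End W) (x y : E) (r : ℕ) (hr0 : 0 < r)
    (hr : r.Coprime (Nat.card W)) (hx : x ^ r = 1) (hy : orderOf y = r)
    (hxy : x ∉ Subgroup.zpowers y) (S : Subgroup W) (hS : ∀ e : E, ∀ w ∈ S, φ e w ∈ S)
    (hfix : ∀ e : E, e ≠ 1 → ∀ w, φ e w = w → w ∈ S) : S = ⊤ := by
  rw [eq_top_iff]
  intro w _
  have hyr : y ^ r = 1 := by rw [← hy]; exact pow_orderOf_eq_one y
  have hcop : r.Coprime (orderOf w) :=
    Nat.Coprime.coprime_dvd_right (orderOf_dvd_natCard w) hr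
  obtain ⟨m, hm⟩ := exists_pow_eq_self_of_coprime hcop
  rw [← hm]
  apply Subgroup.pow_mem
  -- the double product
  have hP1 : (∏ i ∈ Finset.range r, sig φ r (x * y ^ i) w) ∈ S := by
    apply Subgroup.prod_mem
    intro i _
    apply hfix (x * y ^ i)
    · intro h
      apply hxy
      have : x = (y ^ i)⁻¹ := eq_inv_of_mul_eq_one_left h
      rw [this]
      exact Subgroup.inv_mem _ (Subgroup.pow_mem _ (Subgroup.mem_zpowers y) i)
    · apply sig_fixed
      rw [mul_pow, hx, ← pow_mul, mul_comm i r, pow_mul, hyr, one_pow, one_mul]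
  have hP2 : (∏ i ∈ Finset.range r, sig φ r (x * y ^ i) w) =
      ∏ j ∈ Finset.range r, φ (x ^ j) (sig φ r (y ^ j) w) := by
    unfold sig
    rw [Finset.prod_comm]
    apply Finset.prod_congr rfl
    intro j _
    rw [map_prod]
    apply Finset.prod_congr rfl
    intro i _
    rw [mul_pow, ← pow_mul, ← pow_mul, mul_comm i j, map_mul]; rfl
  obtain ⟨r', rfl⟩ := Nat.exists_eq_succ_of_ne_zero hr0.ne'
  rw [hP2, Finset.prod_range_succ'] at hP1
  have h0 : φ (x ^ 0) (sig φ (r' + 1) (y ^ 0) w) = w ^ (r' + 1) := by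
    unfold sig
    simp
  rw [h0] at hP1
  have hrest : (∏ j ∈ Finset.range r', φ (x ^ (j + 1)) (sig φ (r' + 1) (y ^ (j + 1)) w)) ∈ S := by
    apply Subgroup.prod_mem
    intro j hj
    apply hS
    apply hfix (y ^ (j + 1))
    · apply pow_ne_one_of_lt_orderOf (Nat.succ_ne_zero j)
      rw [hy]
      have := Finset.mem_range.mp hj
      omega
    · apply sig_fixed
      rw [← pow_mul, mul_comm, pow_mul, hyr, one_pow]
  exact (Subgroup.mul_mem_cancel_left S hrest).mp hP1

end abstract

theorem eq_top_of_sup_commutator_eq_top {Q : Type*} [Group Q] [Finite Q] {p : ℕ} [Fact p.Prime]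
    (hQ : IsPGroup p Q) (H : Subgroup Q) (h : H ⊔ commutator Q = ⊤) : H = ⊤ := by
  by_contra hne
  obtain ⟨Mx, hMx, hle⟩ := (eq_top_or_exists_le_coatom H).resolve_left hne
  have hn : Mx.Normal := Cfsg.Agent.Lib.Helper1.coatom_normal_of_isPGroup hQ hMx
  have hidx : Mx.index = p := Cfsg.Agent.Lib.Helper1.coatom_index_of_isPGroup hQ hMx
  have hcard : Nat.card (Q ⧸ Mx) = p := by rw [← Subgroup.index_eq_card]; exact hidx
  have hcyc : IsCyclic (Q ⧸ Mx) := isCyclic_of_prime_card hcard
  have hcomm : IsMulCommutative (Q ⧸ Mx) := IsCyclic.isMulCommutative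
  have hle2 : commutator Q ≤ Mx :=
    Subgroup.Normal.quotient_commutative_iff_commutator_le.mp hcomm
  have : (⊤ : Subgroup Q) ≤ Mx := h ▸ sup_le hle hle2
  exact hMx.1 (top_le_iff.mp this)


section pgroup
variable {G : Type*} [Group G]

/-- the subgroup of `Q` generated by the centralizers in `Q` of nonidentity elements of `A`. -/
def genC (A Q : Subgroup G) : Subgroup G :=
  ⨆ a ∈ {a : G | a ∈ A ∧ a ≠ 1}, Q ⊓ Subgroup.centralizer {a}

theorem genC_le (A Q : Subgroup G) : genC A Q ≤ Q :=
  iSup₂_le fun _ _ => inf_le_left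

theorem genC_mono (A : Subgroup G) {Q K : Subgroup G} (h : Q ≤ K) : genC A Q ≤ genC A K :=
  iSup₂_mono fun _ _ => inf_le_inf_right _ h

theorem conj_mem_genC (A Q : Subgroup G) [IsMulCommutative A]
    (hAQ : A ≤ Subgroup.normalizer (Q : Set G)) {b : G} (hb : b ∈ A) {w : G}
    (hw : w ∈ genC A Q) : b * w * b⁻¹ ∈ genC A Q := by
  have key : genC A Q ≤ (genC A Q).comap (MulAut.conj b).toMonoidHom := by
    apply iSup₂_le
    intro a ha v hv
    rw [Subgroup.mem_comap]
    have : (MulAut.conj b).toMonoidHom v = b * v * b⁻¹ := rfl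
    rw [this]
    have hmem : b * v * b⁻¹ ∈ Q ⊓ Subgroup.centralizer {a} := by
      refine Subgroup.mem_inf.mpr ⟨(Subgroup.mem_normalizer_iff.mp (hAQ hb) v).mp hv.1, ?_⟩
      rw [Subgroup.mem_centralizer_singleton_iff]
      have h1 : v * a = a * v := Subgroup.mem_centralizer_singleton_iff.mp hv.2
      have h2 : a * b = b * a := by
        have := mul_comm (⟨a, ha.1⟩ : A) ⟨b, hb⟩
        exact congrArg Subtype.val this
      calc b * v * b⁻¹ * a = b * v * (b⁻¹ * (a * b) * b⁻¹) := by group
        _ = b * (v * a) * b⁻¹ := by rw [h2]; group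
        _ = (b * a) * v * b⁻¹ := by rw [h1]; group
        _ = a * (b * v * b⁻¹) := by rw [← h2]; group
    exact (le_iSup₂ (f := fun a (_ : a ∈ {a : G | a ∈ A ∧ a ≠ 1}) =>
      Q ⊓ Subgroup.centralizer {a}) a ha) hmem
  exact key hw

theorem le_normalizer_commutator' (H₁ H₂ : Subgroup G) :
    Subgroup.normalizer (H₁ : Set G) ⊓ Subgroup.normalizer (H₂ : Set G) ≤
      Subgroup.normalizer ((⁅H₁, H₂⁆ : Subgroup G) : Set G) := by
  intro g hg
  rw [Cfsg.Agent.Lib.Helper54.mem_normalizer_iff_conj_smul]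
  have h1 := Cfsg.Agent.Lib.Helper54.mem_normalizer_iff_conj_smul.mp hg.1
  have h2 := Cfsg.Agent.Lib.Helper54.mem_normalizer_iff_conj_smul.mp hg.2
  rw [Subgroup.pointwise_smul_def] at h1 h2 ⊢
  change Subgroup.map (MulAut.conj g).toMonoidHom H₁ = H₁ at h1
  change Subgroup.map (MulAut.conj g).toMonoidHom H₂ = H₂ at h2
  change Subgroup.map (MulAut.conj g).toMonoidHom ⁅H₁, H₂⁆ = ⁅H₁, H₂⁆
  rw [Subgroup.map_commutator, h1, h2]

variable [Finite G]

/-- the action of `A` on the abelianization of `Q`. -/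
noncomputable def phi (A Q : Subgroup G) (hAQ : A ≤ Subgroup.normalizer (Q : Set G)) :
    A →* Monoid.End (Abelianization Q) where
  toFun a := Abelianization.map (Cfsg.Agent.S0055.conjV A Q hAQ a)
  map_one' := by
    apply Abelianization.hom_ext
    ext v
    show Abelianization.map _ (Abelianization.of v) = Abelianization.of v
    rw [Abelianization.map_of]
    congr 1
    ext
    simp
  map_mul' a b := by
    apply Abelianization.hom_ext
    ext v
    show Abelianization.map _ (Abelianization.of v) =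
      Abelianization.map _ (Abelianization.map _ (Abelianization.of v))
    rw [Abelianization.map_of, Abelianization.map_of, Abelianization.map_of,
      Cfsg.Agent.S0055.conjV_mul]

omit [Finite G] in
theorem phi_of (A Q : Subgroup G) (hAQ : A ≤ Subgroup.normalizer (Q : Set G)) (a : A) (v : Q) :
    phi A Q hAQ a (Abelianization.of v) =
      Abelianization.of (Cfsg.Agent.S0055.conjV A Q hAQ a v) :=
  Abelianization.map_of _ _

theorem pgroup_case (A Q : Subgroup G) [IsMulCommutative A]
    (hAQ : A ≤ Subgroup.normalizer (Q : Set G)) (hcop : (Nat.card A).Coprime (Nat.card Q))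
    {q : ℕ} [Fact q.Prime] (hQ : IsPGroup q Q) (x y : A) (r : ℕ) (hr0 : 0 < r)
    (hrA : r ∣ Nat.card A) (hx : x ^ r = 1) (hy : orderOf y = r)
    (hxy : x ∉ Subgroup.zpowers y) : Q ≤ genC A Q := by
  set S : Subgroup (Abelianization Q) := ((genC A Q).subgroupOf Q).map Abelianization.of with hSdef
  have hofsurj : Function.Surjective (Abelianization.of : Q →* Abelianization Q) :=
    QuotientGroup.mk_surjective
  have hcardW : Nat.card (Abelianization Q) ∣ Nat.card Q :=
    Subgroup.card_dvd_of_surjective _ hofsurj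
  have hrW : r.Coprime (Nat.card (Abelianization Q)) :=
    Nat.Coprime.coprime_dvd_left hrA (Nat.Coprime.coprime_dvd_right hcardW hcop)
  have hStop : S = ⊤ := by
    apply abstract_gen (phi A Q hAQ) x y r hr0 hrW hx hy hxy S
    · -- invariance
      rintro e w ⟨v, hv, rfl⟩
      rw [phi_of]
      refine ⟨_, ?_, rfl⟩
      rw [SetLike.mem_coe, Subgroup.mem_subgroupOf] at hv
      rw [SetLike.mem_coe, Subgroup.mem_subgroupOf]
      exact conj_mem_genC A Q hAQ e.2 hv
    · -- fixed points lift
      intro e he wbar hfixw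
      obtain ⟨w, rfl⟩ := hofsurj wbar
      -- all powers of e fix `of w`
      have hpow : ∀ n : ℕ, phi A Q hAQ (e ^ n) (Abelianization.of w) = Abelianization.of w := by
        intro n
        induction n with
        | zero => simp
        | succ n ih =>
          rw [pow_succ, map_mul]
          show phi A Q hAQ (e ^ n) (phi A Q hAQ e (Abelianization.of w)) = _
          rw [hfixw, ih]
      have hcomm_mem : ∀ a ∈ Subgroup.zpowers (e : G),
          a * (w : G) * a⁻¹ * (w : G)⁻¹ ∈ (⁅Q, Q⁆ : Subgroup G) := by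
        intro a ha
        rw [← mem_powers_iff_mem_zpowers] at ha
        obtain ⟨n, rfl⟩ := ha
        have h1 := hpow n
        rw [phi_of] at h1
        have h2 : (Cfsg.Agent.S0055.conjV A Q hAQ (e ^ n) w) * w⁻¹ ∈ commutator Q := by
          rw [← Abelianization.ker_of, MonoidHom.mem_ker, map_mul, h1, map_inv, mul_inv_cancel]
        rw [← Subgroup.map_subtype_commutator]
        refine ⟨_, h2, ?_⟩
        simp
      obtain ⟨c, hc, hcw⟩ := Cfsg.Agent.S0022.result (Subgroup.zpowers (e : G)) Q
        ((Subgroup.zpowers_le).mpr (hAQ e.2))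
        (Nat.Coprime.coprime_dvd_left
          (Subgroup.card_dvd_of_le ((Subgroup.zpowers_le).mpr e.2)) hcop)
        (Or.inl (Group.isSolvable_of_comm (fun a b => mul_comm a b)))
        ⁅Q, Q⁆ (Subgroup.commutator_le_self Q)
        (le_trans (le_inf Subgroup.le_normalizer Subgroup.le_normalizer)
          (le_normalizer_commutator' Q Q))
        (le_trans (le_inf ((Subgroup.zpowers_le).mpr (hAQ e.2)) ((Subgroup.zpowers_le).mpr (hAQ e.2)))
          (le_normalizer_commutator' Q Q))
        (w : G) w.2 hcomm_mem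
      have hcQ : c ∈ Q := hc.1
      have hcgen : c ∈ genC A Q := by
        have heA : (e : G) ∈ {a : G | a ∈ A ∧ a ≠ 1} := by
          refine ⟨e.2, ?_⟩
          intro h
          exact he (Subtype.ext h)
        apply (le_iSup₂ (f := fun a (_ : a ∈ {a : G | a ∈ A ∧ a ≠ 1}) =>
          Q ⊓ Subgroup.centralizer {a}) (e : G) heA)
        refine Subgroup.mem_inf.mpr ⟨hcQ, ?_⟩
        rw [Subgroup.mem_centralizer_singleton_iff]
        exact ((Subgroup.mem_centralizer_iff.mp hc.2) (e : G) (Subgroup.mem_zpowers _)).symm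
      refine ⟨⟨c, hcQ⟩, ?_, ?_⟩
      · rw [SetLike.mem_coe, Subgroup.mem_subgroupOf]
        exact hcgen
      · -- of c = of w
        have h3 : w⁻¹ * ⟨c, hcQ⟩ ∈ commutator Q := by
          rw [← Subgroup.map_subtype_commutator] at hcw
          obtain ⟨z, hz, hzeq⟩ := hcw
          have : z = w⁻¹ * ⟨c, hcQ⟩ := Subtype.ext (by simpa using hzeq)
          rwa [← this]
        rw [← Abelianization.ker_of, MonoidHom.mem_ker, map_mul, map_inv] at h3
        exact (inv_mul_eq_one.mp h3).symm
  -- conclude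
  have hsup : (genC A Q).subgroupOf Q ⊔ commutator Q = ⊤ := by
    rw [eq_top_iff]
    intro v _
    have hv : Abelianization.of v ∈ S := by rw [hStop]; trivial
    obtain ⟨m, hm, hmv⟩ := hv
    have h4 : m⁻¹ * v ∈ commutator Q := by
      rw [← Abelianization.ker_of, MonoidHom.mem_ker, map_mul, map_inv, hmv, inv_mul_cancel]
    have : v = m * (m⁻¹ * v) := by group
    rw [this]
    exact Subgroup.mul_mem _ (Subgroup.mem_sup_left hm) (Subgroup.mem_sup_right h4)
  have htop := eq_top_of_sup_commutator_eq_top hQ _ hsup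
  intro v hv
  have : (⟨v, hv⟩ : Q) ∈ (genC A Q).subgroupOf Q := by rw [htop]; trivial
  exact Subgroup.mem_subgroupOf.mp this

end pgroup

/-- Generation by centralisers: when a noncyclic abelian group A normalises K with coprime orders, K is generated by the fixed-point subgroups of the nonidentity elements of A. -/
theorem result {G : Type*} [Group G] [Finite G] (A K : Subgroup G)
    [IsMulCommutative A] (hA : ¬ IsCyclic A) (hAK : A ≤ Subgroup.normalizer (K : Set G)) (hcop : (Nat.card A).Coprime (Nat.card K)) :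
    (⨆ a ∈ {a : G | a ∈ A ∧ a ≠ 1}, K ⊓ Subgroup.centralizer {a}) = K := by
  show genC A K = K
  -- elements `x`, `y` of `A`
  obtain ⟨y, hy⟩ := Monoid.exists_orderOf_eq_exponent (G := A) Monoid.ExponentExists.of_finite
  set r := Monoid.exponent A with hr
  have hr0 : 0 < r := Monoid.ExponentExists.of_finite.exponent_pos
  have hrA : r ∣ Nat.card A := Group.exponent_dvd_nat_card
  have hex : ∃ x : A, x ∉ Subgroup.zpowers y := by
    by_contra h
    push Not at h
    exact hA ⟨y, h⟩
  obtain ⟨x, hxy⟩ := hex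
  have hx : x ^ r = 1 := Monoid.pow_exponent_eq_one x
  have hsolvA : Group.IsSolvable A := Group.isSolvable_of_comm (fun a b => mul_comm a b)
  -- it suffices to compare orders
  have hle : genC A K ≤ K := genC_le A K
  have hK0 : Nat.card K ≠ 0 := Nat.card_pos.ne'
  have hM0 : Nat.card (genC A K) ≠ 0 := Nat.card_pos.ne'
  have hdvd : Nat.card K ∣ Nat.card (genC A K) := by
    rw [← Nat.factorization_prime_le_iff_dvd hK0 hM0]
    intro q hq
    have : Fact q.Prime := ⟨hq⟩
    rw [← hq.pow_dvd_iff_le_factorization hM0]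
    obtain ⟨P, hP⟩ := Cfsg.Agent.S0023.result A K hAK hcop (Or.inl hsolvA) q
    set Q := (P : Subgroup K).map K.subtype with hQdef
    have hQK : Q ≤ K := Subgroup.map_subtype_le _
    have hQcard : Nat.card Q = q ^ (Nat.card K).factorization q :=
      Cfsg.Agent.Lib.Helper54.card_map_sylow K P
    have hQp : IsPGroup q Q := P.isPGroup'.map K.subtype
    have hcopQ : (Nat.card A).Coprime (Nat.card Q) :=
      Nat.Coprime.coprime_dvd_right (Subgroup.card_dvd_of_le hQK) hcop
    have h1 : Q ≤ genC A Q := pgroup_case A Q hP hcopQ hQp x y r hr0 hrA hx hy hxy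
    have h2 : Q ≤ genC A K := h1.trans (genC_mono A hQK)
    rw [← hQcard]
    exact Subgroup.card_dvd_of_le h2
  apply le_antisymm hle
  intro k hk
  have hcard : Nat.card ((genC A K).subgroupOf K) = Nat.card K := by
    rw [Nat.card_congr (Subgroup.subgroupOfEquivOfLe hle).toEquiv]
    exact Nat.dvd_antisymm (Subgroup.card_dvd_of_le hle) hdvd
  have htop : (genC A K).subgroupOf K = ⊤ := Subgroup.eq_top_of_card_eq _ hcard
  have : (⟨k, hk⟩ : K) ∈ (genC A K).subgroupOf K := by rw [htop]; trivial
  exact Subgroup.mem_subgroupOf.mp this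

end Cfsg.Agent.S0058
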