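import Cfsg.Statements.S0991

set_option autoImplicit false
open Cfsg

namespace Cfsg.Agent.S0991

/-- A hom from a non-commutative simple group to a commutative group is trivial. -/
theorem ker_eq_top_of_comm {G : Type*} [Group G] [IsSimpleGroup G] (hG : ¬ IsMulCommutative G)
    {A : Type*} [CommGroup A] (f : G →* A) : f.ker = ⊤ := by
  rcases (MonoidHom.normal_ker f).eq_bot_or_eq_top with h | h
  · exfalso
    apply hG
    have hinj : Function.Injective f := (MonoidHom.ker_eq_bot_iff f).1 h
    refine ⟨⟨fun a b => hinj ?_⟩⟩
    rw [map_mul, map_mul, mul_comm]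
  · exact h

/-- The permutation representation on `Fin H.index`. -/
noncomputable def permRep {G : Type*} [Group G] [Finite G] (H : Subgroup G) :
    G →* Equiv.Perm (Fin H.index) :=
  ((Finite.equivFin (G ⧸ H)).permCongrHom.toMonoidHom).comp (MulAction.toPermHom G (G ⧸ H))

theorem permRep_ker_le {G : Type*} [Group G] [Finite G] (H : Subgroup G) :
    (permRep H).ker ≤ H := by
  intro g hg
  rw [MonoidHom.mem_ker] at hg
  unfold permRep at hg
  have h1 : MulAction.toPermHom G (G ⧸ H) g = 1 := by
    have := (Finite.equivFin (G ⧸ H)).permCongrHom.injective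
    apply this
    rw [map_one]
    exact hg
  have h2 : g • ((1 : G) : G ⧸ H) = ((1 : G) : G ⧸ H) := by
    have := congrArg (fun σ => σ ((1 : G) : G ⧸ H)) h1
    simpa using this
  rw [MulAction.Quotient.smul_coe, QuotientGroup.eq] at h2
  simpa using h2

theorem result {G : Type*} [Group G] [Finite G] [IsSimpleGroup G] (hG : ¬ IsMulCommutative G) (H : Subgroup G) (hH : H ≠ ⊤) : ∃ f : G →* ↥(alternatingGroup (Fin H.index)), Function.Injective f := by
  have hker : (permRep H).ker = ⊥ := by
    rcases (MonoidHom.normal_ker (permRep H)).eq_bot_or_eq_top with h | h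
    · exact h
    · exfalso
      apply hH
      rw [eq_top_iff, ← h]
      exact permRep_ker_le H
  have hinj : Function.Injective (permRep H) := (MonoidHom.ker_eq_bot_iff _).1 hker
  have hsign : ∀ g : G, permRep H g ∈ alternatingGroup (Fin H.index) := by
    intro g
    rw [Equiv.Perm.mem_alternatingGroup]
    have := ker_eq_top_of_comm hG ((Equiv.Perm.sign).comp (permRep H))
    have hg : g ∈ ((Equiv.Perm.sign).comp (permRep H)).ker := by rw [this]; trivial
    simpa [MonoidHom.mem_ker] using hg
  refine ⟨(permRep H).codRestrict _ hsign, ?_⟩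
  intro a b hab
  apply hinj
  have := congrArg Subtype.val hab
  simpa using this

end Cfsg.Agent.S0991
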