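import Cfsg.Statements.S0989
import Cfsg.Agent.Lib.Helper17.SylowCard
import Cfsg.Agent.Lib.Helper17.OrderCount
import Mathlib.GroupTheory.Perm.Centralizer
import Mathlib.Data.Nat.Prime.Factorial
import Mathlib.Data.Finite.Perm
import Mathlib.Tactic.Ring

set_option autoImplicit false
open Cfsg

namespace Cfsg.Agent.S0989

open Cfsg.Agent.Lib.Helper17 Equiv.Perm

/-- In the symmetric group on fewer than `2p` letters, an element has order `p` iff it is a
`p`-cycle. -/
theorem orderOf_eq_prime_iff_cycleType {α : Type*} [Fintype α] [DecidableEq α] {p : ℕ}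
    (hp : p.Prime) (hα : Fintype.card α < 2 * p) (g : Equiv.Perm α) :
    orderOf g = p ↔ g.cycleType = {p} := by
  constructor
  · intro hg
    obtain ⟨k, hk⟩ := cycleType_prime_order (σ := g) (by rw [hg]; exact hp)
    rw [hg] at hk
    have hsum := g.sum_cycleType_le
    rw [hk, Multiset.sum_replicate, smul_eq_mul] at hsum
    have hk0 : k = 0 := by
      by_contra hne
      have : 2 ≤ k + 1 := by omega
      have : 2 * p ≤ (k + 1) * p := Nat.mul_le_mul_right p this
      omega
    rw [hk, hk0]
    rfl
  · intro hg
    rw [← lcm_cycleType, hg]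
    simp

/-- In the symmetric group of degree p or p + 1 (p prime), the number of elements of order `p`
times `p` is the order of the group. -/
theorem card_orderOf_eq_mul {α : Type*} [Fintype α] [DecidableEq α] (p : ℕ) [hp : Fact p.Prime]
    (hα : Fintype.card α = p ∨ Fintype.card α = p + 1) :
    Nat.card {g : Equiv.Perm α // orderOf g = p} * p = (Fintype.card α).factorial := by
  have hlt : Fintype.card α < 2 * p := by
    have := hp.out.two_le
    rcases hα with h | h <;> omega
  have h1 : Nat.card {g : Equiv.Perm α // orderOf g = p} =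
      (Finset.univ.filter (fun g : Equiv.Perm α => g.cycleType = {p})).card := by
    rw [Nat.card_eq_fintype_card, Fintype.card_subtype]
    congr 1
    ext g
    simp only [Finset.mem_filter, Finset.mem_univ, true_and]
    exact orderOf_eq_prime_iff_cycleType hp.out hlt g
  have h2 := card_of_cycleType_mul_eq α ({p} : Multiset ℕ)
  have hcond : ({p} : Multiset ℕ).sum ≤ Fintype.card α ∧ ∀ a ∈ ({p} : Multiset ℕ), 2 ≤ a := by
    constructor
    · simp only [Multiset.sum_singleton]
      rcases hα with h | h <;> omega
    · intro a ha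
      rw [Multiset.mem_singleton] at ha
      rw [ha]; exact hp.out.two_le
  rw [if_pos hcond] at h2
  have hfac : (Fintype.card α - ({p} : Multiset ℕ).sum).factorial = 1 := by
    simp only [Multiset.sum_singleton]
    rcases hα with h | h
    · rw [h, Nat.sub_self]; rfl
    · rw [h, Nat.add_sub_cancel_left]; rfl
  rw [hfac] at h2
  simp only [Multiset.prod_singleton, Multiset.toFinset_singleton, Finset.prod_singleton,
    Multiset.count_singleton_self, Nat.factorial_one, one_mul, mul_one] at h2
  rw [h1]
  exact h2

/-- In the symmetric group on p or p + 1 letters, p a prime, the normalizer of a Sylow p-subgroup has order p * (p - 1). -/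
theorem result {α : Type*} [Fintype α] [DecidableEq α] (p : ℕ) [Fact p.Prime] (hα : Fintype.card α = p ∨ Fintype.card α = p + 1) (P : Sylow p (Equiv.Perm α)) : Nat.card ↥(Subgroup.normalizer ((P : Subgroup (Equiv.Perm α)) : Set (Equiv.Perm α))) = p * (p - 1) := by
  have hp : p.Prime := Fact.out
  obtain ⟨k, hk⟩ : ∃ k, p = k + 1 := ⟨p - 1, by have := hp.pos; omega⟩
  have hpk : ¬ p ∣ k.factorial := by
    intro h
    have := (Nat.Prime.dvd_factorial hp).1 h
    omega
  -- |Perm α| = p^1 * m with p ∤ m
  have hcard : ∃ m, Nat.card (Equiv.Perm α) = p ^ 1 * m ∧ ¬ p ∣ m := by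
    rw [Nat.card_perm, Nat.card_eq_fintype_card (α := α)]
    rcases hα with h | h
    · refine ⟨k.factorial, ?_, hpk⟩
      rw [h, pow_one]
      conv_lhs => rw [hk, Nat.factorial_succ, ← hk]
    · refine ⟨(p + 1) * k.factorial, ?_, ?_⟩
      · rw [h, pow_one, Nat.factorial_succ]
        conv_lhs => rw [hk, Nat.factorial_succ, ← hk]
        ring
      · intro hd
        rcases (Nat.Prime.dvd_mul hp).1 hd with h1 | h1
        · have : p ∣ 1 := (Nat.dvd_add_right (dvd_refl p)).1 h1
          exact hp.one_lt.ne' (Nat.dvd_one.1 this)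
        · exact hpk h1
  obtain ⟨m, hm, hpm⟩ := hcard
  have hcards : ∀ Q : Sylow p (Equiv.Perm α), Nat.card (Q : Subgroup (Equiv.Perm α)) = p := by
    intro Q
    rw [sylow_card_of_card_eq Q hm hpm, pow_one]
  have hE := card_orderOf_eq_prime hcards
  have hEp := card_orderOf_eq_mul p hα
  have hN := card_sylow_mul_card_normalizer P
  rw [Nat.card_perm, Nat.card_eq_fintype_card (α := α), ← hEp, hE] at hN
  have hpos : 0 < Nat.card (Sylow p (Equiv.Perm α)) := Nat.card_pos
  have : Nat.card (Sylow p (Equiv.Perm α)) * Nat.card ↥(Subgroup.normalizer ((P : Subgroup (Equiv.Perm α)) : Set (Equiv.Perm α))) =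
      Nat.card (Sylow p (Equiv.Perm α)) * (p * (p - 1)) := by
    rw [hN]; ring
  exact Nat.eq_of_mul_eq_mul_left hpos this

end Cfsg.Agent.S0989
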