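import Cfsg.Statements.S3061
-- import your own Cfsg.Agent.* helpers here

set_option autoImplicit false
open Cfsg

namespace Cfsg.Agent.S3061

open Subgroup
open scoped commutatorElement

/-- If `Z` centralizes `closure s` and contains all commutators of generators, it contains all
commutators of elements of `closure s`. -/
theorem comm_mem_of_gens {G : Type*} [Group G] (s : Set G) (Z : Subgroup G)
    (hZ : ∀ z ∈ Z, ∀ g ∈ closure s, g * z = z * g)
    (hs : ∀ a ∈ s, ∀ b ∈ s, ⁅a, b⁆ ∈ Z) :
    ∀ u ∈ closure s, ∀ v ∈ closure s, ⁅u, v⁆ ∈ Z := by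
  have hconj : ∀ z ∈ Z, ∀ g ∈ closure s, g * z * g⁻¹ = z := by
    intro z hz g hg
    rw [hZ z hz g hg, mul_inv_cancel_right]
  -- first: generator on the left
  have h1 : ∀ a ∈ s, ∀ v ∈ closure s, ⁅a, v⁆ ∈ Z := by
    intro a ha v hv
    induction hv using closure_induction with
    | mem b hb => exact hs a ha b hb
    | one => simp
    | mul v w hv hw ihv ihw =>
      have : ⁅a, v * w⁆ = ⁅a, v⁆ * (v * ⁅a, w⁆ * v⁻¹) := by
        simp only [commutatorElement_def]; group
      rw [this, hconj _ ihw v hv]
      exact Z.mul_mem ihv ihw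
    | inv v hv ihv =>
      have : ⁅a, v⁻¹⁆ = v⁻¹ * (⁅a, v⁆)⁻¹ * (v⁻¹)⁻¹ := by
        simp only [commutatorElement_def]; group
      rw [this, hconj _ (Z.inv_mem ihv) v⁻¹ (inv_mem hv)]
      exact Z.inv_mem ihv
  intro u hu v hv
  induction hu using closure_induction with
  | mem a ha => exact h1 a ha v hv
  | one => simp
  | mul u w hu hw ihu ihw =>
    have : ⁅u * w, v⁆ = (u * ⁅w, v⁆ * u⁻¹) * ⁅u, v⁆ := by
      simp only [commutatorElement_def]; group
    rw [this, hconj _ ihw u hu]
    exact Z.mul_mem ihw ihu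
  | inv u hu ihu =>
    have : ⁅u⁻¹, v⁆ = u⁻¹ * (⁅u, v⁆)⁻¹ * (u⁻¹)⁻¹ := by
      simp only [commutatorElement_def]; group
    rw [this, hconj _ (Z.inv_mem ihu) u⁻¹ (inv_mem hu)]
    exact Z.inv_mem ihu

/-- `A ⊔ ⟨x⟩` has class at most two as soon as the commutators `[a, x]` lie in a subgroup
centralizing `A ⊔ ⟨x⟩`. -/
theorem class_two_of_central {G : Type*} [Group G] (A : Subgroup G) (hA : IsMulCommutative A) (x : G)
    (Z : Subgroup G) (hZ : ∀ z ∈ Z, ∀ g ∈ A ⊔ zpowers x, g * z = z * g)
    (hx : ∀ a ∈ A, ⁅a, x⁆ ∈ Z) :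
    ⁅⁅A ⊔ zpowers x, A ⊔ zpowers x⁆, A ⊔ zpowers x⁆ = ⊥ := by
  have hcl : A ⊔ zpowers x = closure ((A : Set G) ∪ {x}) := by
    rw [closure_union, closure_eq, zpowers_eq_closure]
  have hcomm : ∀ u ∈ A ⊔ zpowers x, ∀ v ∈ A ⊔ zpowers x, ⁅u, v⁆ ∈ Z := by
    rw [hcl]
    apply comm_mem_of_gens
    · rw [← hcl]; exact hZ
    · intro a ha b hb
      rcases ha with ha | ha <;> rcases hb with hb | hb
      · have : a * b = b * a := by
          have := hA.is_comm.comm (⟨a, ha⟩ : A) ⟨b, hb⟩
          exact congrArg Subtype.val this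
        rw [commutatorElement_eq_one_iff_mul_comm.mpr this]
        exact Z.one_mem
      · rw [Set.mem_singleton_iff] at hb
        subst hb
        exact hx a ha
      · rw [Set.mem_singleton_iff] at ha
        subst ha
        rw [← commutatorElement_inv]
        exact Z.inv_mem (hx b hb)
      · rw [Set.mem_singleton_iff] at ha hb
        subst ha; subst hb
        rw [commutatorElement_self]
        exact Z.one_mem
  rw [commutator_eq_bot_iff_le_centralizer, commutator_le]
  intro u hu v hv
  rw [mem_centralizer_iff]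
  intro g hg
  exact hZ _ (hcomm u hu v hv) g hg

/-- In a nilpotent group, if the second centre equals the centre then the group is abelian. -/
theorem center_eq_top_of_ucs {T : Type*} [Group T] [Group.IsNilpotent T]
    (h : ∀ x : T, (∀ y : T, ⁅x, y⁆ ∈ center T) → x ∈ center T) : center T = ⊤ := by
  have hn : ∀ n : ℕ, Subgroup.upperCentralSeries T (n + 1) = center T := by
    intro n
    induction n with
    | zero => exact Subgroup.upperCentralSeries_one T
    | succ n ih =>
      apply le_antisymm
      · intro x hx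
        apply h
        intro y
        rw [← ih]
        exact Subgroup.mem_upperCentralSeries_succ_iff.mp hx y
      · rw [← ih]
        exact Subgroup.upperCentralSeries_mono T (Nat.le_succ _)
  obtain ⟨n, hn'⟩ := Group.IsNilpotent.nilpotent' (G := T)
  cases n with
  | zero =>
    rw [Subgroup.upperCentralSeries_zero] at hn'
    rw [eq_top_iff, ← hn']
    exact bot_le
  | succ n => rw [← hn n, hn']

/-- Two members of the family commute elementwise (in a finite `p`-group). -/
theorem family_commute {S : Type*} [Group S] [Finite S] {p : ℕ} [Fact p.Prime] (hS : IsPGroup p S)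
    (A B : Subgroup S) (hA : A ∈ Cfsg.dStarFamily S) (hB : B ∈ Cfsg.dStarFamily S) :
    A ≤ centralizer (B : Set S) := by
  -- T = A ⊔ B is nilpotent
  obtain ⟨T, hT⟩ : ∃ T : Subgroup S, T = A ⊔ B := ⟨_, rfl⟩
  have hAT : A ≤ T := hT ▸ le_sup_left
  have hBT : B ≤ T := hT ▸ le_sup_right
  have hcT : centralizer (T : Set S) = centralizer ((A : Set S) ∪ B) := by
    rw [hT, sup_eq_closure, centralizer_closure]
  have : Group.IsNilpotent T := (hS.to_subgroup T).isNilpotent
  -- Every element of the second centre of `T` is central in `T`.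
  have key : ∀ x : T, (∀ y : T, ⁅x, y⁆ ∈ center T) → x ∈ center T := by
    intro x hx
    have hZ : ∀ (C : Subgroup S), C ≤ T → ∀ z ∈ centralizer (T : Set S), ∀ g ∈ C ⊔ zpowers (x : S),
        g * z = z * g := by
      intro C hC z hz g hg
      have hgT : g ∈ T := by
        have : C ⊔ zpowers (x : S) ≤ T := sup_le hC (by
          rw [zpowers_le]; exact x.2)
        exact this hg
      exact (mem_centralizer_iff.mp hz g hgT)
    have hcomm : ∀ t ∈ T, ⁅t, (x : S)⁆ ∈ centralizer (T : Set S) := by
      intro t ht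
      have h1 := hx ⟨t, ht⟩
      have h4 : ⁅(x : S), t⁆ ∈ centralizer (T : Set S) := by
        rw [mem_centralizer_iff]
        intro g hg
        rw [mem_center_iff] at h1
        have h2 := h1 ⟨g, hg⟩
        exact congrArg Subtype.val h2
      rw [← commutatorElement_inv]
      exact inv_mem h4
    have hxA : ∀ a ∈ A, a * (x : S) = (x : S) * a :=
      hA.2 (x : S) (class_two_of_central A hA.1 (x : S) (centralizer (T : Set S)) (hZ A hAT)
        (fun a ha => hcomm a (hAT ha)))
    have hxB : ∀ b ∈ B, b * (x : S) = (x : S) * b :=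
      hB.2 (x : S) (class_two_of_central B hB.1 (x : S) (centralizer (T : Set S)) (hZ B hBT)
        (fun b hb => hcomm b (hBT hb)))
    have hxT : (x : S) ∈ centralizer (T : Set S) := by
      rw [hcT, mem_centralizer_iff]
      rintro h (hh | hh)
      · exact hxA h hh
      · exact hxB h hh
    rw [mem_center_iff]
    intro g
    apply Subtype.ext
    exact mem_centralizer_iff.mp hxT g g.2
  have hc := center_eq_top_of_ucs key
  intro a ha
  rw [mem_centralizer_iff]
  intro b hb
  have h1 : (⟨a, hAT ha⟩ : T) ∈ center T := by rw [hc]; trivial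
  rw [mem_center_iff] at h1
  exact congrArg Subtype.val (h1 ⟨b, hBT hb⟩)

/-- Let S be a finite p-group. Then D*(S) itself belongs to the family that generates it: D*(S) is abelian, and every x ∈ S with ⟨D*(S), x⟩ of class at most two centralizes D*(S). Hence D*(S) is the unique maximal member of that family. -/
theorem result {S : Type*} [Group S] [Finite S] {p : ℕ} [Fact p.Prime] (hS : IsPGroup p S) :
    Cfsg.dStar S ∈ Cfsg.dStarFamily S := by
  have hfam : ∀ A ∈ Cfsg.dStarFamily S, ∀ B ∈ Cfsg.dStarFamily S, A ≤ centralizer (B : Set S) :=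
    fun A hA B hB => family_commute hS A B hA hB
  have hcomm : Cfsg.dStar S ≤ centralizer (Cfsg.dStar S : Set S) := by
    unfold Cfsg.dStar
    apply sSup_le
    intro A hA
    rw [le_centralizer_iff]
    apply sSup_le
    intro B hB
    exact hfam B hB A hA
  refine ⟨le_centralizer_iff_isMulCommutative.mp hcomm, ?_⟩
  intro x hx a ha
  -- x centralizes every member of the family
  have hxc : Cfsg.dStar S ≤ centralizer ({x} : Set S) := by
    unfold Cfsg.dStar
    apply sSup_le
    intro A hA b hb
    rw [mem_centralizer_iff]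
    intro y hy
    rw [Set.mem_singleton_iff] at hy
    subst hy
    have hle : A ⊔ zpowers y ≤ Cfsg.dStar S ⊔ zpowers y :=
      sup_le_sup_right (le_sSup hA) _
    have hcl : ⁅⁅A ⊔ zpowers y, A ⊔ zpowers y⁆, A ⊔ zpowers y⁆ = ⊥ := by
      rw [eq_bot_iff, ← hx]
      exact commutator_mono (commutator_mono hle hle) hle
    exact (hA.2 y hcl b hb).symm
  have := hxc ha
  rw [mem_centralizer_iff] at this
  exact (this x rfl).symm

end Cfsg.Agent.S3061
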