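import Cfsg.Statements.S3062
import Cfsg.Agent.S3061
import Cfsg.Agent.Lib.Helper51.ThompsonReplacement
-- import your own Cfsg.Agent.* helpers here

set_option autoImplicit false
open Cfsg

namespace Cfsg.Agent.S3062

open Subgroup Cfsg.Agent.Lib.Helper51
open scoped commutatorElement

variable {S : Type*} [Group S]

/-- The centre belongs to the `D*` family. -/
theorem center_mem_family : center S ∈ Cfsg.dStarFamily S := by
  refine ⟨inferInstance, ?_⟩
  intro x _ a ha
  exact (mem_center_iff.mp ha x).symm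

/-- The `D*` family is invariant under conjugation. -/
theorem map_conj_mem_family (g : S) {A : Subgroup S} (hA : A ∈ Cfsg.dStarFamily S) :
    A.map (MulAut.conj g).toMonoidHom ∈ Cfsg.dStarFamily S := by
  have hAc := hA.1
  refine ⟨inferInstance, ?_⟩
  intro x hx
  rintro _ ⟨a, ha, rfl⟩
  -- pull back along conjugation
  set φ := (MulAut.conj g).toMonoidHom with hφ
  set y := g⁻¹ * x * g with hy
  have hxy : φ y = x := by
    simp only [hφ, hy, MulEquiv.coe_toMonoidHom, MulAut.conj_apply]; group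
  have hmap : (A ⊔ zpowers y).map φ = A.map φ ⊔ zpowers x := by
    rw [Subgroup.map_sup, MonoidHom.map_zpowers, hxy]
  have hcl : ⁅⁅A ⊔ zpowers y, A ⊔ zpowers y⁆, A ⊔ zpowers y⁆ = ⊥ := by
    have h1 : (⁅⁅A ⊔ zpowers y, A ⊔ zpowers y⁆, A ⊔ zpowers y⁆).map φ = ⊥ := by
      rw [map_commutator, map_commutator, hmap]
      exact hx
    exact (map_eq_bot_iff_of_injective _ (MulAut.conj g).injective).mp h1
  have h2 := hA.2 y hcl a ha
  rw [← hxy, ← map_mul, ← map_mul, h2]

/-- `D*(S)` is a normal subgroup. -/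
theorem dStar_normal : (Cfsg.dStar S).Normal := by
  constructor
  intro n hn g
  have hle : (Cfsg.dStar S).map (MulAut.conj g).toMonoidHom ≤ Cfsg.dStar S := by
    rw [map_le_iff_le_comap]
    unfold Cfsg.dStar
    apply sSup_le
    intro A hA
    rw [← map_le_iff_le_comap]
    exact le_sSup (map_conj_mem_family g hA)
  exact hle ⟨n, hn, rfl⟩

/-- A member `D` of the family that is normal in `S` is centralized by every abelian subgroup
that it normalizes. -/
theorem le_centralizer_of_le_normalizer {D : Subgroup S} (hD : D ∈ Cfsg.dStarFamily S)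
    (hDn : D.Normal) (X : Subgroup S) (hX : IsMulCommutative X)
    (hDX : D ≤ normalizer (X : Set S)) : X ≤ centralizer (D : Set S) := by
  intro a ha
  rw [mem_centralizer_iff]
  intro d hd
  have hDc : D ≤ centralizer (D : Set S) := le_centralizer_iff_isMulCommutative.mpr hD.1
  have hXc : X ≤ centralizer (X : Set S) := le_centralizer_iff_isMulCommutative.mpr hX
  have hcl := S3061.class_two_of_central D hD.1 a (X ⊓ D) ?_ ?_
  · exact hD.2 a hcl d hd
  · -- X ⊓ D centralizes D ⊔ ⟨a⟩
    intro z hz g hg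
    have h1 : z ∈ centralizer ((D ⊔ zpowers a : Subgroup S) : Set S) := by
      apply centralizer_inf_le_centralizer_sup D (zpowers a)
      refine ⟨hDc hz.2, ?_⟩
      have : zpowers a ≤ centralizer ((X : Subgroup S) : Set S) := by
        rw [zpowers_le]; exact hXc ha
      exact (le_centralizer_iff.mp this) hz.1
    exact mem_centralizer_iff.mp h1 g hg
  · intro d' hd'
    refine ⟨?_, ?_⟩
    · have h1 : d' * a * d'⁻¹ ∈ X := (mem_normalizer_iff.mp (hDX hd') a).mp ha
      have : ⁅d', a⁆ = d' * a * d'⁻¹ * a⁻¹ := rfl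
      rw [this]
      exact X.mul_mem h1 (X.inv_mem ha)
    · have h1 : a * d'⁻¹ * a⁻¹ ∈ D := hDn.conj_mem _ (D.inv_mem hd') a
      have : ⁅d', a⁆ = d' * (a * d'⁻¹ * a⁻¹) := by
        simp only [commutatorElement_def]; group
      rw [this]
      exact D.mul_mem hd' h1

/-- A nontrivial normal subgroup of a finite `p`-group meets the center nontrivially. -/
theorem exists_ne_one_mem_center_of_normal' {P : Type*} [Group P] [Finite P] {p : ℕ}
    [Fact p.Prime] (hP : IsPGroup p P) (N : Subgroup P) [N.Normal] (hN : N ≠ ⊥) :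
    ∃ z ∈ N, z ≠ 1 ∧ z ∈ Subgroup.center P := by
  have hPc : IsPGroup p (ConjAct P) := hP.of_equiv ConjAct.toConjAct
  have hdvd : p ∣ Nat.card N := by
    have hN' : IsPGroup p N := hP.to_subgroup N
    have : Nontrivial N := (Subgroup.nontrivial_iff_ne_bot N).2 hN
    obtain ⟨n, hn0, hn⟩ := hN'.nontrivial_iff_card.mp inferInstance
    exact hn.symm ▸ dvd_pow_self _ (ne_of_gt hn0)
  have h1 : (1 : N) ∈ MulAction.fixedPoints (ConjAct P) N := by
    intro g
    exact smul_one g
  obtain ⟨b, hb, hne⟩ := hPc.exists_fixed_point_of_prime_dvd_card_of_fixed_point N hdvd h1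
  refine ⟨b, b.2, ?_, ?_⟩
  · intro h
    apply hne
    exact (Subtype.ext h).symm
  · rw [Subgroup.mem_center_iff]
    intro g
    have h2 := hb (ConjAct.toConjAct g)
    have h3 := congrArg Subtype.val h2
    rw [ConjAct.Subgroup.val_conj_smul, ConjAct.smul_def, ConjAct.ofConjAct_toConjAct] at h3
    rw [mul_inv_eq_iff_eq_mul] at h3
    exact h3

/-- `D*(S)` lies in every abelian subgroup of maximal order. -/
theorem dStar_le_of_mem_maxAbelian [Finite S] {p : ℕ} [Fact p.Prime] (hS : IsPGroup p S)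
    (A : Subgroup S) (hA : A ∈ Cfsg.maxAbelianSubgroups S) : Cfsg.dStar S ≤ A := by
  have hD : Cfsg.dStar S ∈ Cfsg.dStarFamily S := S3061.result hS
  have hDn : (Cfsg.dStar S).Normal := dStar_normal
  by_contra hcon
  have hne : Nonempty {A : Subgroup S // A ∈ Cfsg.maxAbelianSubgroups S ∧ ¬ Cfsg.dStar S ≤ A} :=
    ⟨⟨A, hA, hcon⟩⟩
  obtain ⟨⟨A₀, hA₀, hA₀D⟩, hmax⟩ := Finite.exists_max
    (fun A : {A : Subgroup S // A ∈ Cfsg.maxAbelianSubgroups S ∧ ¬ Cfsg.dStar S ≤ A} =>
      Nat.card ↥(A.1 ⊓ Cfsg.dStar S))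
  by_cases hN : Cfsg.dStar S ≤ normalizer (A₀ : Set S)
  · apply hA₀D
    have h1 := le_centralizer_of_le_normalizer hD hDn A₀ hA₀.1 hN
    exact (le_centralizer_iff.mp h1).trans (centralizer_le_of_mem_maxAbelian hA₀)
  · obtain ⟨A', hA', hlt, hA'N, -⟩ := thompson_replacement hS A₀ (Cfsg.dStar S) hA₀ hD.1 hN
    by_cases hDA' : Cfsg.dStar S ≤ A'
    · exact hN (hDA'.trans hA'N)
    · have h1 := hmax ⟨A', hA', hDA'⟩
      have h2 : A₀ ⊓ Cfsg.dStar S = A' ⊓ Cfsg.dStar S := eq_of_le_of_card_ge hlt.le h1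
      exact hlt.ne h2

/-- A maximal normal abelian subgroup of a finite `p`-group is self-centralizing. -/
theorem centralizer_le_of_max_normal_abelian [Finite S] {p : ℕ} [Fact p.Prime] (hS : IsPGroup p S)
    (A : Subgroup S) (hAn : A.Normal) (hAc : IsMulCommutative A)
    (hmax : ∀ B : Subgroup S, B.Normal → IsMulCommutative B → A ≤ B → B = A) :
    centralizer (A : Set S) ≤ A := by
  by_contra hcon
  have hCn : (centralizer (A : Set S)).Normal := inferInstance
  have hπ : Function.Surjective (QuotientGroup.mk' A) := QuotientGroup.mk'_surjective A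
  have hNn : ((centralizer (A : Set S)).map (QuotientGroup.mk' A)).Normal :=
    Subgroup.Normal.map hCn _ hπ
  have hNne : (centralizer (A : Set S)).map (QuotientGroup.mk' A) ≠ ⊥ := by
    intro h
    apply hcon
    have := (Subgroup.map_eq_bot_iff _).mp h
    rwa [QuotientGroup.ker_mk'] at this
  have hQ : IsPGroup p (S ⧸ A) := hS.to_quotient A
  obtain ⟨zb, hzbN, hzb1, hzbc⟩ :=
    Cfsg.Agent.S3062.exists_ne_one_mem_center_of_normal' hQ _ hNne
  obtain ⟨z, hzC, rfl⟩ := hzbN
  have hzA : z ∉ A := by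
    intro h
    apply hzb1
    exact (QuotientGroup.eq_one_iff z).mpr h
  -- the subgroup `A ⊔ ⟨z⟩`
  have hBc : IsMulCommutative ↥(A ⊔ zpowers z) := isMulCommutative_sup_zpowers hAc hzC
  have hBeq : A ⊔ zpowers z = (zpowers (QuotientGroup.mk' A z)).comap (QuotientGroup.mk' A) := by
    rw [← MonoidHom.map_zpowers, comap_map_eq, QuotientGroup.ker_mk', sup_comm]
  have hzn : (zpowers (QuotientGroup.mk' A z)).Normal := by
    constructor
    intro n hn g
    have hnc : n ∈ center (S ⧸ A) := by
      obtain ⟨k, rfl⟩ := mem_zpowers_iff.mp hn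
      exact zpow_mem hzbc k
    have : g * n * g⁻¹ = n := by
      rw [mem_center_iff.mp hnc g, mul_inv_cancel_right]
    rw [this]; exact hn
  have hBn : (A ⊔ zpowers z).Normal := by
    rw [hBeq]
    exact Subgroup.Normal.comap hzn _
  have := hmax _ hBn hBc le_sup_left
  apply hzA
  rw [← this]
  exact le_sup_right (a := A) (mem_zpowers z)

/-- Let S be a finite p-group, J(S) the subgroup generated by the abelian subgroups of S of largest order and Z(J(S)) its centre. Then Z(S) ≤ D*(S) ≤ Z(J(S)), and every maximal normal abelian subgroup of S contains D*(S). -/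
theorem result {S : Type*} [Group S] [Finite S] {p : ℕ} [Fact p.Prime]
    (hS : IsPGroup p S) :
    Subgroup.center S ≤ Cfsg.dStar S ∧
    Cfsg.dStar S ≤ Cfsg.thompsonSubgroupA S ⊓ Subgroup.centralizer (Cfsg.thompsonSubgroupA S : Set S) ∧
    ∀ A : Subgroup S, A.Normal → IsMulCommutative A →
      (∀ B : Subgroup S, B.Normal → IsMulCommutative B → A ≤ B → B = A) → Cfsg.dStar S ≤ A := by
  have hD : Cfsg.dStar S ∈ Cfsg.dStarFamily S := S3061.result hS
  have hDn : (Cfsg.dStar S).Normal := dStar_normal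
  refine ⟨le_sSup center_mem_family, le_inf ?_ ?_, ?_⟩
  · obtain ⟨A₀, hA₀⟩ := exists_mem_maxAbelian (S := S)
    exact (dStar_le_of_mem_maxAbelian hS A₀ hA₀).trans (le_sSup hA₀)
  · rw [le_centralizer_iff]
    unfold Cfsg.thompsonSubgroupA
    apply sSup_le
    intro A hA
    rw [le_centralizer_iff]
    exact (dStar_le_of_mem_maxAbelian hS A hA).trans (le_centralizer_iff_isMulCommutative.mpr hA.1)
  · intro A hAn hAc hmax
    have h1 := le_centralizer_of_le_normalizer hD hDn A hAc (by
      rw [normalizer_eq_top_iff.mpr hAn]; exact le_top)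
    exact (le_centralizer_iff.mp h1).trans (centralizer_le_of_max_normal_abelian hS A hAn hAc hmax)

end Cfsg.Agent.S3062
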