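import Cfsg.Statements.S0219
import Cfsg.Agent.Lib.Helper96.SignRegular

set_option autoImplicit false
open Cfsg

namespace Cfsg.Agent.S0219

/-- A finite group of even order with a cyclic Sylow 2-subgroup `T`: a generator of `T` has even order and
`⟨g⟩ = T` has odd index. -/
theorem exists_generator_even_odd {G : Type*} [Group G] [Finite G] (heven : Even (Nat.card G)) (T : Sylow 2 G)
    (hT : IsCyclic (T : Subgroup G)) :
    ∃ g : G, Subgroup.zpowers g = (T : Subgroup G) ∧ Even (orderOf g) ∧ Odd (Subgroup.zpowers g).index := by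
  obtain ⟨⟨g, hgT⟩, hg⟩ := hT.exists_generator
  have hz : Subgroup.zpowers g = (T : Subgroup G) := by
    apply le_antisymm
    · rw [Subgroup.zpowers_le]; exact hgT
    · intro x hx
      obtain ⟨i, hi⟩ := Subgroup.mem_zpowers_iff.mp (hg ⟨x, hx⟩)
      refine Subgroup.mem_zpowers_iff.mpr ⟨i, ?_⟩
      have := congrArg Subtype.val hi
      simpa using this
  refine ⟨g, hz, ?_, ?_⟩
  · have h1 : orderOf g = Nat.card (T : Subgroup G) := by
      rw [← Nat.card_zpowers, hz]
    rw [h1, T.card_eq_multiplicity]
    have h2 : (2 : ℕ) ∣ Nat.card G := heven.two_dvd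
    have hpos : 0 < (Nat.card G).factorization 2 :=
      Nat.Prime.factorization_pos_of_dvd Nat.prime_two Nat.card_pos.ne' h2
    exact (Nat.even_pow.mpr ⟨even_two, hpos.ne'⟩)
  · rw [hz]
    have := T.not_dvd_index
    rwa [← Nat.not_even_iff_odd, even_iff_two_dvd]

/-- If a finite group has even order and a cyclic Sylow 2-subgroup, then it has a subgroup of index 2 (consider the parity of permutations in the regular representation). -/
theorem result {G : Type*} [Group G] [Finite G] (heven : Even (Nat.card G)) (T : Sylow 2 G) (hT : IsCyclic (T : Subgroup G)) : ∃ H : Subgroup G, H.index = 2 := by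
  obtain ⟨g, -, h1, h2⟩ := exists_generator_even_odd heven T hT
  exact Cfsg.Agent.Lib.Helper96.exists_index_two_of_even_orderOf g h1 h2

end Cfsg.Agent.S0219
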