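-- Statement S4969: sum of normalized character values above a degree bound.
import Cfsg.Statements.S4969
import Mathlib
import Cfsg.Agent.Lib.Helper3.CharValues

set_option autoImplicit false
open Cfsg

namespace Cfsg.Agent.S4969

open scoped ComplexConjugate

section aux

variable {G : Type*} [Group G] [Fintype G]

/-- First orthogonality relation for irreducible characters (as functions). -/
theorem irr_orthogonality (χ ψ : IrrCharacter G) :
    ∑ g : G, (χ : G → ℂ) g * conj ((ψ : G → ℂ) g) =
      if χ = ψ then (Fintype.card G : ℂ) else 0 := by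
  classical
  obtain ⟨χf, n, ρ, hρ, hχ⟩ := χ
  obtain ⟨ψf, m, σ, hσ, hψ⟩ := ψ
  have : Invertible (Nat.card G : ℂ) :=
    invertibleOfNonzero (by exact_mod_cast (Nat.card_pos (α := G)).ne')
  have hcard : (Nat.card G : ℂ) ≠ 0 := by exact_mod_cast (Nat.card_pos (α := G)).ne'
  by_cases h : χf = ψf
  · subst h
    simp only [if_true]
    have := hρ
    have := Representation.char_orthonormal ρ ρ
    rw [if_pos ⟨Representation.Equiv.refl ρ⟩] at this
    have h2 : ∑ g : G, ρ.character g * ρ.character g⁻¹ = (Nat.card G : ℂ) := by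
      field_simp at this
      simpa using this
    rw [← Nat.card_eq_fintype_card, ← h2]
    refine Finset.sum_congr rfl fun g _ => ?_
    rw [← hχ, Cfsg.Agent.Lib.Helper3.character_inv]
  · have hne : (⟨χf, n, ρ, hρ, hχ⟩ : IrrCharacter G) ≠ ⟨ψf, m, σ, hσ, hψ⟩ := by
      intro h'
      exact h (congrArg Subtype.val h')
    rw [if_neg hne]
    have := hρ
    have := hσ
    have := Representation.char_orthonormal ρ σ
    have hno : ¬ Nonempty (Representation.Equiv σ ρ) := by
      rintro ⟨e⟩
      apply h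
      rw [← hχ, ← hψ]
      exact (Representation.char_iso e).symm
    rw [if_neg hno] at this
    have h2 : ∑ g : G, ρ.character g * σ.character g⁻¹ = 0 := by
      rcases mul_eq_zero.mp this with h3 | h3
      · exact absurd (inv_eq_zero.mp h3) hcard
      · exact h3
    rw [← h2]
    refine Finset.sum_congr rfl fun g _ => ?_
    show χf g * conj (ψf g) = _
    rw [← hχ, ← hψ, Cfsg.Agent.Lib.Helper3.character_inv]

end aux

section aux2
variable {G : Type*} [Group G] [Fintype G]

/-- The number of `b` with `b g b⁻¹ = a g a⁻¹` is the order of the centralizer. -/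
theorem card_conj_eq (g a : G) [DecidablePred fun b : G => b * g * b⁻¹ = a * g * a⁻¹] :
    (Finset.univ.filter (fun b : G => b * g * b⁻¹ = a * g * a⁻¹)).card =
      Nat.card (Subgroup.centralizer ({g} : Set G)) := by
  classical
  rw [Nat.card_eq_fintype_card, ← Finset.card_univ]
  refine Finset.card_bij' (fun b hb => ⟨a⁻¹ * b, ?_⟩) (fun k _ => a * k.1) ?_ ?_ ?_ ?_
  · simp only [Finset.mem_filter, Finset.mem_univ, true_and] at hb
    rw [Subgroup.mem_centralizer_singleton_iff]
    have h1 : g = a⁻¹ * (b * g * b⁻¹) * a := by rw [hb]; group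
    calc a⁻¹ * b * g = a⁻¹ * (b * g * b⁻¹) * a * (a⁻¹ * b) := by group
      _ = g * (a⁻¹ * b) := by rw [← h1]
  · intro b hb; exact Finset.mem_univ _
  · intro k _
    simp only [Finset.mem_filter, Finset.mem_univ, true_and]
    have h := Subgroup.mem_centralizer_singleton_iff.mp k.2
    symm
    calc a * g * a⁻¹ = a * (g * k.1) * (a * k.1)⁻¹ := by group
      _ = a * (k.1 * g) * (a * k.1)⁻¹ := by rw [h]
      _ = a * k.1 * g * (a * k.1)⁻¹ := by group
  · intro b hb; simp
  · intro k _; simp

omit [Fintype G] in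
theorem irr_conj (χ : IrrCharacter G) (a g : G) :
    (χ : G → ℂ) (a * g * a⁻¹) = (χ : G → ℂ) g := by
  obtain ⟨χf, n, ρ, hρ, hχ⟩ := χ
  show χf _ = χf _
  rw [← hχ, Representation.char_conj]

theorem sum_norm_sq_le (S : Finset (IrrCharacter G)) (g : G) :
    ∑ χ ∈ S, ‖(χ : G → ℂ) g‖ ^ 2 ≤ (Nat.card (Subgroup.centralizer ({g} : Set G)) : ℝ) := by
  classical
  have hGpos : (0 : ℝ) < Fintype.card G := by exact_mod_cast Fintype.card_pos
  set c : ℝ := (Real.sqrt (Fintype.card G))⁻¹ with hc
  have hc0 : 0 ≤ c := by rw [hc]; positivity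
  have hc2 : c * c = (Fintype.card G : ℝ)⁻¹ := by
    rw [hc, ← mul_inv, Real.mul_self_sqrt hGpos.le]
  have hc2' : (c : ℂ) * (c : ℂ) = (Fintype.card G : ℂ)⁻¹ := by
    rw [← Complex.ofReal_mul, hc2]; push_cast; rfl
  let v : IrrCharacter G → EuclideanSpace ℂ G := fun χ => (c : ℂ) • WithLp.toLp 2 (χ : G → ℂ)
  have hv : Orthonormal ℂ v := by
    rw [orthonormal_iff_ite]
    intro χ ψ
    simp only [v, inner_smul_left, inner_smul_right, PiLp.inner_apply, RCLike.inner_apply,
      Complex.conj_ofReal]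
    rw [irr_orthogonality ψ χ]
    by_cases h : χ = ψ
    · subst h
      simp only [if_true]
      rw [← mul_assoc, hc2']
      exact inv_mul_cancel₀ (by exact_mod_cast hGpos.ne')
    · rw [if_neg h, if_neg (fun h' => h h'.symm)]
      simp
  let x : EuclideanSpace ℂ G := ∑ a : G, EuclideanSpace.single (a * g * a⁻¹) (1 : ℂ)
  have hx : ∀ χ : IrrCharacter G,
      inner ℂ (v χ) x = (Fintype.card G : ℂ) * c * conj ((χ : G → ℂ) g) := by
    intro χ
    simp only [x, v, inner_sum, EuclideanSpace.inner_single_right, one_mul, PiLp.smul_apply,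
      smul_eq_mul, map_mul, Complex.conj_ofReal, irr_conj, Finset.sum_const, Finset.card_univ,
      nsmul_eq_mul]
    ring
  have hxx : ‖x‖ ^ 2 = (Fintype.card G : ℝ) * Nat.card (Subgroup.centralizer ({g} : Set G)) := by
    have h1 : inner ℂ x x =
        ((Fintype.card G : ℂ) * (Nat.card (Subgroup.centralizer ({g} : Set G)) : ℂ)) := by
      simp only [x, inner_sum, sum_inner, EuclideanSpace.inner_single_left, map_one, one_mul,
        PiLp.single_apply]
      simp only [Finset.sum_boole, card_conj_eq, Finset.sum_const, Finset.card_univ, nsmul_eq_mul]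
    rw [inner_self_eq_norm_sq_to_K] at h1
    apply Complex.ofReal_injective
    push_cast
    exact h1
  have hB := hv.sum_inner_products_le x (s := S)
  rw [hxx] at hB
  have hterm : ∀ χ ∈ S, ‖inner ℂ (v χ) x‖ ^ 2 = (Fintype.card G : ℝ) * ‖(χ : G → ℂ) g‖ ^ 2 := by
    intro χ _
    rw [hx, norm_mul, norm_mul, Complex.norm_natCast, Complex.norm_real, RCLike.norm_conj,
      Real.norm_of_nonneg hc0, mul_pow, mul_pow, sq c, hc2]
    field_simp
  rw [Finset.sum_congr rfl hterm, ← Finset.mul_sum] at hB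
  exact le_of_mul_le_mul_left hB hGpos

end aux2

section aux3
variable {G : Type*} [Group G] [Fintype G]

theorem sum_card_centralizer :
    ∑ g : G, Nat.card (Subgroup.centralizer ({g} : Set G)) =
      Nat.card (ConjClasses G) * Nat.card G := by
  classical
  rw [← card_comm_eq_card_conjClasses_mul_card]
  simp only [Nat.card_eq_fintype_card]
  rw [Fintype.card_congr (Equiv.subtypeProdEquivSigmaSubtype (fun a b : G => Commute a b)),
    Fintype.card_sigma]
  refine Finset.sum_congr rfl fun g _ => ?_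
  refine Fintype.card_congr ⟨fun k => ⟨k.1, ?_⟩, fun k => ⟨k.1, ?_⟩, fun _ => rfl, fun _ => rfl⟩
  · exact (Subgroup.mem_centralizer_singleton_iff.mp k.2).symm
  · exact Subgroup.mem_centralizer_singleton_iff.mpr k.2.symm

theorem card_le_card_conjClasses (S : Finset (IrrCharacter G)) :
    S.card ≤ Nat.card (ConjClasses G) := by
  classical
  have hGpos : (0 : ℝ) < Fintype.card G := by exact_mod_cast Fintype.card_pos
  have h1 : ∑ g : G, ∑ χ ∈ S, ‖(χ : G → ℂ) g‖ ^ 2 ≤
      ∑ g : G, (Nat.card (Subgroup.centralizer ({g} : Set G)) : ℝ) :=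
    Finset.sum_le_sum fun g _ => sum_norm_sq_le S g
  rw [Finset.sum_comm] at h1
  have h2 : ∀ χ ∈ S, ∑ g : G, ‖(χ : G → ℂ) g‖ ^ 2 = (Fintype.card G : ℝ) := by
    intro χ _
    have h := irr_orthogonality χ χ
    simp only [if_true] at h
    apply Complex.ofReal_injective
    push_cast
    rw [← h]
    refine Finset.sum_congr rfl fun g _ => ?_
    rw [Complex.mul_conj, Complex.normSq_eq_norm_sq]
    push_cast; rfl
  rw [Finset.sum_congr rfl h2, Finset.sum_const, nsmul_eq_mul] at h1
  have h3 : ∑ g : G, (Nat.card (Subgroup.centralizer ({g} : Set G)) : ℝ) =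
      (Nat.card (ConjClasses G) : ℝ) * (Fintype.card G : ℝ) := by
    rw [← Nat.card_eq_fintype_card]
    exact_mod_cast congrArg (Nat.cast : ℕ → ℝ) (sum_card_centralizer (G := G))
  rw [h3] at h1
  have := le_of_mul_le_mul_right h1 hGpos
  exact_mod_cast this

end aux3

/-- Let G be a finite group with k conjugacy classes, g ∈ G, and N > 0. Then the sum over the irreducible complex characters χ of G with χ(1) ≥ N of |χ(g)|/χ(1) is at most √(k · #C_G(g)) / N. -/
theorem result {G : Type*} [Group G] [Finite G] (g : G) (N : ℝ) (hN : 0 < N) :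
    ∑ᶠ χ : Cfsg.IrrCharacter G, (if N ≤ ‖(χ : G → ℂ) 1‖ then ‖(χ : G → ℂ) g‖ / ‖(χ : G → ℂ) 1‖ else 0) ≤
      Real.sqrt ((Nat.card (ConjClasses G) : ℝ) * (Nat.card ↥(Subgroup.centralizer ({g} : Set G)) : ℝ)) / N := by
  classical
  have := Fintype.ofFinite G
  set F : IrrCharacter G → ℝ := fun χ =>
    (if N ≤ ‖(χ : G → ℂ) 1‖ then ‖(χ : G → ℂ) g‖ / ‖(χ : G → ℂ) 1‖ else 0) with hF
  have hRHS : 0 ≤ Real.sqrt ((Nat.card (ConjClasses G) : ℝ) *
      (Nat.card ↥(Subgroup.centralizer ({g} : Set G)) : ℝ)) / N := by positivity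
  by_cases hfin : (Function.support F).Finite
  · set S := hfin.toFinset with hS
    rw [finsum_eq_sum_of_support_subset F (s := S) (by simp [hS])]
    have h1 : ∀ χ ∈ S, F χ ≤ ‖(χ : G → ℂ) g‖ / N := by
      intro χ _
      simp only [hF]
      split_ifs with h
      · exact div_le_div_of_nonneg_left (norm_nonneg _) hN h
      · positivity
    refine (Finset.sum_le_sum h1).trans ?_
    rw [← Finset.sum_div]
    refine div_le_div_of_nonneg_right ?_ hN.le
    apply Real.le_sqrt_of_sq_le
    calc (∑ χ ∈ S, ‖(χ : G → ℂ) g‖) ^ 2 ≤ (S.card : ℝ) * ∑ χ ∈ S, ‖(χ : G → ℂ) g‖ ^ 2 :=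
          sq_sum_le_card_mul_sum_sq
      _ ≤ (Nat.card (ConjClasses G) : ℝ) *
          (Nat.card ↥(Subgroup.centralizer ({g} : Set G)) : ℝ) := by
        apply mul_le_mul
        · exact_mod_cast card_le_card_conjClasses S
        · exact sum_norm_sq_le S g
        · positivity
        · positivity
  · rw [finsum_of_infinite_support hfin]
    exact hRHS

end Cfsg.Agent.S4969
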