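import Cfsg.Statements.S0923
import Cfsg.Agent.Lib.Helper78.SMTBlockPart
import Cfsg.Agent.S0919

set_option autoImplicit false
open Cfsg

namespace Cfsg.Agent.S0923

/-- Brauer's Second Main Theorem, in terms of ordinary characters. Let x be a p-element of the finite group G with centralizer C, let χ lie in the block B of G and let b be a block of C that does not induce B (relative to a maximal ideal M of the algebraic integers containing p). Form the class function ϑ(c) = χ(x c) on C and its b-part (the sum over ψ ∈ b of the inner product of ϑ with ψ, times ψ). Then the b-part of ϑ vanishes at every p-regular element of C. (Equivalently, the generalized decomposition numbers of χ with respect to b are zero.) -/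
theorem result {G : Type*} [Group G] [Finite G] (p : ℕ) [Fact p.Prime] (M : Ideal Cfsg.AlgInt) (hM : Cfsg.IsPModular p M) (x : G) (hx : ∃ k : ℕ, orderOf x = p ^ k) (B : Set (Cfsg.IrrCharacter G)) (hB : Cfsg.IsPBlock M B) (χ : Cfsg.IrrCharacter G) (hχ : χ ∈ B) (b : Set (Cfsg.IrrCharacter (Subgroup.centralizer ({x} : Set G)))) (hb : Cfsg.IsPBlock M b) (hnot : ¬ Cfsg.IsInducedBlock M (Subgroup.centralizer ({x} : Set G)) b B) (y : Subgroup.centralizer ({x} : Set G)) (hy : ¬ p ∣ orderOf y) : Cfsg.blockPart b (fun c : Subgroup.centralizer ({x} : Set G) => (χ : G → ℂ) (x * (c : G))) y = 0 := by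
  classical
  haveI := Fintype.ofFinite G
  haveI : M.IsPrime := Cfsg.Agent.Lib.Helper16.isPModular_isPrime hM
  obtain ⟨H, hH⟩ : ∃ H : Subgroup G, H = Subgroup.centralizer ({x} : Set G) := ⟨_, rfl⟩
  subst hH
  haveI : Fintype (Subgroup.centralizer ({x} : Set G)) := Fintype.ofFinite _
  have hxH : x ∈ Subgroup.centralizer ({x} : Set G) := by
    rw [Subgroup.mem_centralizer_iff]
    intro s hs
    rw [Set.mem_singleton_iff] at hs
    rw [hs]
  -- the induced block exists
  have hP : IsPGroup p (Subgroup.zpowers x) := by
    obtain ⟨k, hk⟩ := hx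
    apply IsPGroup.of_card (n := k)
    rw [Nat.card_zpowers, hk]
  have hPH : Subgroup.zpowers x ≤ Subgroup.centralizer ({x} : Set G) := by
    rw [Subgroup.zpowers_le]
    exact hxH
  have hCH : Subgroup.centralizer (Subgroup.zpowers x : Set G) ≤
      Subgroup.centralizer ({x} : Set G) := by
    apply Subgroup.centralizer_le
    intro s hs
    rw [Set.mem_singleton_iff] at hs
    rw [hs]
    exact Subgroup.mem_zpowers x
  have hHN : Subgroup.centralizer ({x} : Set G) ≤
      Subgroup.normalizer (Subgroup.zpowers x : Set G) := by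
    intro g hg
    have hgc : g ∈ Subgroup.centralizer (Subgroup.zpowers x : Set G) := by
      rw [Subgroup.mem_centralizer_iff]
      intro s hs
      obtain ⟨n, rfl⟩ := Subgroup.mem_zpowers_iff.mp hs
      have h1 : Commute x g := by
        rw [Subgroup.mem_centralizer_iff] at hg
        exact hg x (Set.mem_singleton x)
      exact (h1.zpow_left n).eq
    exact Subgroup.centralizer_le_normalizer _ hgc
  obtain ⟨B₁, hind⟩ := Cfsg.Agent.S0919.result p M hM (Subgroup.zpowers x)
    (Subgroup.centralizer ({x} : Set G)) hP hPH hCH hHN b hb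
  have hχB₁ : χ ∉ B₁ := by
    intro hmem
    have := Cfsg.Agent.Lib.Helper16.IsPBlock_eq_of_mem hB hind.2.1 hχ hmem
    exact hnot (this ▸ hind)
  -- the element `h = x y`
  let xH : Subgroup.centralizer ({x} : Set G) := ⟨x, hxH⟩
  have hcomm : Commute x (y : G) := by
    have := y.2
    rw [Subgroup.mem_centralizer_iff] at this
    exact this x (Set.mem_singleton x)
  have hpp : Cfsg.IsPPart p ((xH * y : Subgroup.centralizer ({x} : Set G)) : G) x := by
    refine ⟨(y : G), rfl, hcomm, hx, ?_⟩
    rw [Subgroup.orderOf_coe]
    exact hy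
  have key := Cfsg.Agent.Lib.Helper78.smt_idempotent hM (Subgroup.centralizer ({x} : Set G)) hind
    (xH * y) hpp le_rfl χ hχB₁
  -- the block part
  have hcf : Cfsg.IsClassFunction (Subgroup.centralizer ({x} : Set G))
      (fun c : Subgroup.centralizer ({x} : Set G) => (χ : G → ℂ) (x * (c : G))) := by
    intro c d
    have hd : Commute x (d : G) := by
      have := d.2
      rw [Subgroup.mem_centralizer_iff] at this
      exact this x (Set.mem_singleton x)
    have h1 := Cfsg.Agent.Lib.Helper78.isClassFunction_irr χ (x * (c : G)) (d : G)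
    simp only [Subgroup.coe_mul, Subgroup.coe_inv]
    rw [← h1]
    congr 1
    rw [mul_assoc (d : G), ← mul_assoc (d : G) x, ← hd.eq]
    group
  rw [Cfsg.Agent.Lib.Helper78.blockPart_eq_sum_blockCoeff b hcf y, ← key]
  apply Finset.sum_congr rfl
  intro k _
  congr 1
  have hk : Commute x (k : G) := by
    have := k.2
    rw [Subgroup.mem_centralizer_iff] at this
    exact this x (Set.mem_singleton x)
  simp only [Subgroup.coe_mul]
  have e : x * ((k : G) * (y : G)) = (k : G) * (x * (y : G)) := by
    rw [← mul_assoc, hk.eq, mul_assoc]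
  rw [e]

end Cfsg.Agent.S0923
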