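import Cfsg.Statements.S0071
import Cfsg.Agent.Lib.Helper2.FusionComplement
import Cfsg.Agent.Lib.Helper2.Burnside

set_option autoImplicit false
open Cfsg

namespace Cfsg.Agent.S0071

open Cfsg.Agent.Lib.Helper2

/-- The Frobenius normal p-complement Theorem states that a Sylow p-subgroup has a normal complement exactly when, for each of its subgroups Q, every element of the normalizer of Q of order prime to p centralizes Q. -/
theorem result {G : Type*} [Group G] [Finite G] {p : ℕ} [Fact p.Prime] (P : Sylow p G) : (∃ N : Subgroup G, N.Normal ∧ N.IsComplement' (P : Subgroup G)) ↔ ∀ Q : Subgroup G, Q ≤ (P : Subgroup G) → ∀ g ∈ Subgroup.normalizer (Q : Set G), Nat.Coprime (orderOf g) p → g ∈ Subgroup.centralizer (Q : Set G) := by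
  constructor
  · rintro ⟨N, hN, hc⟩ Q hQ g hg hcop
    have hgN : g ∈ N := Cfsg.Agent.Lib.Helper34.mem_of_coprime_orderOf_of_isComplement' P N hc g hcop
    have hdisj : N ⊓ (P : Subgroup G) = ⊥ := hc.disjoint.eq_bot
    rw [Subgroup.mem_centralizer_iff]
    intro q hq
    have h1 : g * q * g⁻¹ ∈ Q := (Subgroup.mem_normalizer_iff.mp hg q).mp hq
    have h2 : g * q * g⁻¹ * q⁻¹ ∈ (P : Subgroup G) :=
      Subgroup.mul_mem _ (hQ h1) (Subgroup.inv_mem _ (hQ hq))
    have h3 : g * q * g⁻¹ * q⁻¹ ∈ N := by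
      have : g * q * g⁻¹ * q⁻¹ = g * (q * g⁻¹ * q⁻¹) := by group
      rw [this]
      exact N.mul_mem hgN (hN.conj_mem _ (N.inv_mem hgN) q)
    have h4 : g * q * g⁻¹ * q⁻¹ ∈ N ⊓ (P : Subgroup G) := ⟨h3, h2⟩
    rw [hdisj, Subgroup.mem_bot] at h4
    calc q * g = (g * q * g⁻¹ * q⁻¹)⁻¹ * (g * q) := by group
      _ = g * q := by rw [h4]; group
  · intro h
    have hc := coprimeCentralizes_of_forall_le_sylow P h
    exact exists_normal_complement_of_hasNormalPComplement
      (hasNormalPComplement_of_coprimeCentralizes hc) P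

end Cfsg.Agent.S0071
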