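import Cfsg.Statements.S4691
import Cfsg.Agent.Lib.Helper77.BrauerUnstable
import Cfsg.Agent.Lib.Helper78.CharMore
import Cfsg.Agent.Lib.Helper2.FusionComplement
import Cfsg.Agent.S0071

set_option autoImplicit false
open Cfsg

namespace Cfsg.Agent.S4691

open Cfsg.Agent.Lib Cfsg.Agent.Lib.Helper16 Cfsg.Agent.Lib.Helper77 MonoidAlgebra
open scoped Pointwise

section

variable {G : Type*} [Group G] [Fintype G] {M : Ideal AlgInt}

/-- The principal character as an irreducible character. -/
noncomputable def oneIrr (G : Type*) [Group G] : IrrCharacter G :=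
  ⟨fun _ => 1, Helper78.isIrrCharacter_one⟩

omit [Fintype G] in
theorem isPBlock_principalBlock : IsPBlock M (principalBlock M G) := ⟨oneIrr G, rfl⟩

omit [Fintype G] in
theorem oneIrr_mem_principalBlock [hMp : M.IsPrime] : oneIrr G ∈ principalBlock M G :=
  sameBlock_refl hMp.ne_top _

/-- For a `p`-subgroup `Q` and a `Q`-invariant function with values in the local ring, the sum over
`G` is congruent to the sum over `C_G(Q)`. -/
theorem sum_sub_sum_centralizer_memLocalIdeal [hMp : M.IsPrime] {p : ℕ} [Fact p.Prime]
    (hM : IsPModular p M) (Q : Subgroup G) (hQ : IsPGroup p Q)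
    [Fintype (Subgroup.centralizer (Q : Set G))] (F : G → ℂ)
    (hF : ∀ u ∈ Q, ∀ x : G, F (u * x * u⁻¹) = F x) (hR : ∀ x, MemLocalRing M (F x)) :
    MemLocalIdeal M (∑ x : G, F x - ∑ c : Subgroup.centralizer (Q : Set G), F (c : G)) := by
  classical
  have h2 : ∑ c : Subgroup.centralizer (Q : Set G), F (c : G) =
      ∑ x : G, if x ∈ Subgroup.centralizer (Q : Set G) then F x else 0 := by
    rw [← Finset.sum_filter]
    exact (Finset.sum_subtype (Finset.univ.filter (· ∈ Subgroup.centralizer (Q : Set G)))
      (by simp) F).symm
  rw [h2, ← Finset.sum_sub_distrib]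
  let _ : MulAction Q G := MulAction.compHom G ((MulAut.conj : G →* MulAut G).comp Q.subtype)
  have hsmul : ∀ (u : Q) (x : G), u • x = (u : G) * x * (u : G)⁻¹ := fun u x => rfl
  have hQ' : IsPGroup p (Q : Type _) := hQ
  apply sum_memLocalIdeal_of_pGroup hM hQ'
  · intro u x
    rw [hsmul, hF u u.2 x]
    simp only [conj_mem_centralizer_iff u.2]
  · intro x
    split_ifs
    · rw [sub_self]; exact memLocalRing_zero hMp.ne_top
    · rw [sub_zero]; exact hR x
  · intro x hx
    have hxC : x ∈ Subgroup.centralizer (Q : Set G) := by
      rw [Subgroup.mem_centralizer_iff]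
      intro u hu
      have := hx ⟨u, hu⟩
      rw [hsmul] at this
      calc u * x = u * x * u⁻¹ * u := by group
        _ = x * u := by rw [show u * x * u⁻¹ = x from this]
    rw [if_pos hxC, sub_self]

/-- The easy half of Brauer's third main theorem: `(Q, B₀(C_G(Q)))` is a Brauer pair of the
principal block of `G`. -/
theorem isBrauerPairOf_principal {p : ℕ} [Fact p.Prime] (hM : IsPModular p M) (Q : Subgroup G)
    (hQ : IsPGroup p Q) :
    IsBrauerPairOf p M (principalBlock M G) Q
      (principalBlock M (Subgroup.centralizer (Q : Set G))) := by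
  classical
  have hMp : M.IsPrime := isPModular_isPrime hM
  have : Fintype (Subgroup.centralizer (Q : Set G)) := Fintype.ofFinite _
  have hB : IsPBlock M (principalBlock M G) := isPBlock_principalBlock
  refine ⟨⟨hQ, isPBlock_principalBlock⟩, hB, ?_⟩
  intro ξ hξ
  rw [show blockCoeff (principalBlock M G) = fun g => (idemOf (principalBlock M G)).coeff g from by
    funext g; rw [coeff_idemOf], brauerOmega_eq_omega]
  have hadm : BrAdm M Q (idemOf (principalBlock M G)) :=
    brAdm_of_mem_centerOrder Q (idemC_mem_centerOrder hB)
  -- reduce to the principal character of `C_G(Q)`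
  have hsb : SameBlock M (ξ : Subgroup.centralizer (Q : Set G) → ℂ)
      (oneIrr (Subgroup.centralizer (Q : Set G)) : Subgroup.centralizer (Q : Set G) → ℂ) :=
    sameBlock_symm hξ
  have h1 := brOmega_congr hsb hadm
  have h2 : MemLocalIdeal M (omega
      (oneIrr (Subgroup.centralizer (Q : Set G)) : Subgroup.centralizer (Q : Set G) → ℂ)
      (trunc (Subgroup.centralizer (Q : Set G)) (idemOf (principalBlock M G))) - 1) := by
    have htot : ∑ x : G, (idemOf (principalBlock M G)).coeff x = 1 := by
      have := omegaHom_idemC (principalBlock M G) (oneIrr G)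
      rw [if_pos oneIrr_mem_principalBlock, omegaHom_apply] at this
      unfold omega at this
      simpa [oneIrr, idemC] using this
    have hloc : omega
        (oneIrr (Subgroup.centralizer (Q : Set G)) : Subgroup.centralizer (Q : Set G) → ℂ)
        (trunc (Subgroup.centralizer (Q : Set G)) (idemOf (principalBlock M G))) =
        ∑ c : Subgroup.centralizer (Q : Set G), (idemOf (principalBlock M G)).coeff (c : G) := by
      unfold omega
      simp [oneIrr]
    rw [hloc, ← htot]
    have := sum_sub_sum_centralizer_memLocalIdeal hM Q hQ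
      (fun x => (idemOf (principalBlock M G)).coeff x) (fun u hu x => hadm.invP u hu x)
      (fun x => hadm.ring x)
    have h3 := memLocalIdeal_neg this
    rwa [neg_sub] at h3
  have := memLocalIdeal_add h1 h2
  simpa using this

omit [Fintype G] in
/-- The normalizer of `Q` stabilizes the principal block of `C_G(Q)`. -/
theorem stabilizesBlock_principal [Finite G] (Q : Subgroup G) (x : G)
    (hx : x ∈ Subgroup.normalizer (Q : Set G)) :
    StabilizesBlock (Subgroup.centralizer (Q : Set G))
      (principalBlock M (Subgroup.centralizer (Q : Set G))) x := by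
  have hx' : x ∈ Subgroup.normalizer
      ((Subgroup.centralizer (Q : Set G) : Subgroup G) : Set G) :=
    normalizer_le_normalizer_centralizer' Q hx
  let _ := nrmMulAction (Subgroup.centralizer (Q : Set G))
  have key := (stabilizesBlock_iff (Subgroup.centralizer (Q : Set G)) ⟨x, hx'⟩
    (principalBlock M (Subgroup.centralizer (Q : Set G)))).mpr ?_
  · exact key
  · have h1 := blockOf_smul (M := M) (Subgroup.centralizer (Q : Set G)) ⟨x, hx'⟩
      (oneIrr (Subgroup.centralizer (Q : Set G)))
    have h2 : ((⟨x, hx'⟩ : Subgroup.normalizer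
        ((Subgroup.centralizer (Q : Set G) : Subgroup G) : Set G)) •
        oneIrr (Subgroup.centralizer (Q : Set G))) = oneIrr (Subgroup.centralizer (Q : Set G)) := by
      apply Subtype.ext
      funext c
      rfl
    rw [h2] at h1
    exact h1.symm

end

/-- Fix a prime p and a maximal ideal M of the algebraic integers containing p. A finite group G has a normal p-complement if and only if its principal p-block is nilpotent. -/
theorem result {G : Type*} [Group G] [Fintype G] (p : ℕ) [Fact p.Prime] (M : Ideal Cfsg.AlgInt) (hM : Cfsg.IsPModular p M) : Cfsg.HasNormalPComplement p G ↔ Cfsg.IsNilpotentBlock p M (Cfsg.principalBlock M G) := by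
  constructor
  · rintro ⟨P, N, hN, hNP⟩
    have hcrit := (Cfsg.Agent.S0071.result P).mp ⟨N, hN, hNP⟩
    have hcc := Helper2.coprimeCentralizes_of_forall_le_sylow P hcrit
    refine ⟨isPBlock_principalBlock, ?_⟩
    intro Q e hQe x hxN _ hreg
    have hcop : (orderOf x).Coprime p :=
      (Nat.Coprime.symm ((Nat.Prime.coprime_iff_not_dvd (Fact.out : p.Prime)).mpr hreg))
    exact hcc Q hQe.1.1 x hxN hcop
  · rintro ⟨_, hnil⟩
    apply Helper2.hasNormalPComplement_of_coprimeCentralizes
    intro Q hQ x hxN hcop
    have hreg : IsPRegular p x := by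
      intro hdiv
      have := Nat.Coprime.eq_one_of_dvd hcop.symm hdiv
      exact (Fact.out : p.Prime).one_lt.ne' this
    exact hnil Q _ (isBrauerPairOf_principal hM Q hQ) x hxN
      (stabilizesBlock_principal Q x hxN) hreg

end Cfsg.Agent.S4691
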