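import Cfsg.Statements.S0936
import Cfsg.Agent.Lib.Helper16.Induced
import Cfsg.Agent.Lib.Helper78.WBOCor
import Cfsg.Agent.Lib.Helper77.PRegCount
import Cfsg.Agent.S4691

set_option autoImplicit false
open Cfsg

namespace Cfsg.Agent.S0936

open Cfsg.Agent.Lib Cfsg.Agent.Lib.Helper16 Cfsg.Agent.Lib.Helper77 Cfsg.Agent.Lib.Helper78
open MonoidAlgebra
open scoped ComplexConjugate

section

variable {G : Type*} [Group G] [Fintype G]

open scoped Classical in
/-- The sum of the `p`-regular elements in the group algebra. -/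
noncomputable def pRegSum (p : ℕ) (G : Type*) [Group G] [Fintype G] : MonoidAlgebra ℂ G :=
  ∑ g ∈ Finset.univ.filter (fun g : G => ¬ p ∣ orderOf g), single g 1

open scoped Classical in
theorem coeff_pRegSum (p : ℕ) (x : G) :
    (pRegSum p G).coeff x = if ¬ p ∣ orderOf x then 1 else 0 := by
  unfold pRegSum
  rw [coeff_sum, Finsupp.finsetSum_apply]
  simp only [coeff_single, Finsupp.single_apply]
  rw [Finset.sum_ite_eq' (Finset.univ.filter (fun g : G => ¬ p ∣ orderOf g)) x]
  simp only [Finset.mem_filter, Finset.mem_univ, true_and]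

theorem pRegSum_mem_center (p : ℕ) :
    pRegSum p G ∈ Subalgebra.center ℂ (MonoidAlgebra ℂ G) := by
  classical
  apply mem_center_of_coeff_conj
  intro g h
  rw [coeff_pRegSum, coeff_pRegSum, orderOf_conj_mul_inv]

/-- The sum of the `p`-regular elements, as an element of the centre. -/
noncomputable def pRegSumC (p : ℕ) (G : Type*) [Group G] [Fintype G] :
    Subalgebra.center ℂ (MonoidAlgebra ℂ G) :=
  ⟨pRegSum p G, pRegSum_mem_center p⟩

theorem pRegSumC_mem_centerOrder (p : ℕ) {M : Ideal AlgInt} [hMp : M.IsPrime] :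
    pRegSumC p G ∈ centerOrder G M := by
  classical
  intro x
  show MemLocalRing M ((pRegSum p G).coeff x)
  rw [coeff_pRegSum]
  split_ifs
  · exact memLocalRing_zero hMp.ne_top
  · exact memLocalRing_one hMp.ne_top

open scoped Classical in
/-- The central character of a function at the sum of the `p`-regular elements. -/
theorem omega_pRegSum (p : ℕ) (χ : G → ℂ) :
    omega χ (pRegSum p G) =
      (∑ g ∈ Finset.univ.filter (fun g : G => ¬ p ∣ orderOf g), χ g) / χ 1 := by
  unfold omega
  congr 1
  rw [Finset.sum_filter]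
  refine Finset.sum_congr rfl fun g _ => ?_
  rw [coeff_pRegSum]
  split_ifs <;> simp

open scoped Classical in
/-- The central character of a function on a subgroup at the restricted sum of the `p`-regular
elements. -/
theorem omega_resAlg_pRegSum (p : ℕ) (H : Subgroup G) [Fintype H] (ξ : H → ℂ) :
    omega ξ (resAlg H (pRegSum p G)) =
      (∑ h ∈ Finset.univ.filter (fun h : H => ¬ p ∣ orderOf h), ξ h) / ξ 1 := by
  unfold omega
  congr 1
  rw [Finset.sum_filter]
  refine Finset.sum_congr rfl fun h _ => ?_
  rw [coeff_resAlg, coeff_pRegSum, Subgroup.orderOf_coe]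
  split_ifs <;> simp

open scoped Classical in
/-- The number of `p`-regular elements, as a complex number, is not in the local ideal. -/
theorem card_pRegular_not_memLocalIdeal {p : ℕ} [Fact p.Prime] {M : Ideal AlgInt}
    (hM : IsPModular p M) :
    ¬ MemLocalIdeal M (((Finset.univ.filter (fun g : G => ¬ p ∣ orderOf g)).card : ℕ) : ℂ) := by
  rw [memLocalIdeal_natCast_iff hM]
  have h := not_dvd_card_pRegular (G := G) p
  rw [Nat.card_eq_fintype_card, Fintype.card_subtype] at h
  exact h

open scoped Classical in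
/-- An irreducible character whose sum over the `p`-regular elements is nonzero lies in the
principal block. -/
theorem mem_principalBlock_of_sum_ne_zero {p : ℕ} [Fact p.Prime] {M : Ideal AlgInt}
    (hM : IsPModular p M) (χ : IrrCharacter G)
    (h : ∑ g ∈ Finset.univ.filter (fun g : G => ¬ p ∣ orderOf g), (χ : G → ℂ) g ≠ 0) :
    χ ∈ principalBlock M G := by
  by_contra hcon
  have hns : ¬ SameBlock M ((Cfsg.Agent.S4691.oneIrr G : IrrCharacter G) : G → ℂ)
      (χ : G → ℂ) := hcon
  have h0 := sum_pRegular_mul_conj_eq_zero hM (Cfsg.Agent.S4691.oneIrr G) χ hns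
  apply h
  have h1 : ∑ g ∈ Finset.univ.filter (fun g : G => ¬ p ∣ orderOf g), conj ((χ : G → ℂ) g) = 0 := by
    rw [← h0]
    refine Finset.sum_congr rfl fun g _ => ?_
    show conj ((χ : G → ℂ) g) = (1 : ℂ) * conj ((χ : G → ℂ) g)
    rw [one_mul]
  have h2 := congrArg conj h1
  rw [map_sum, map_zero] at h2
  simpa using h2

end

/-- Brauer's Third Main Theorem. Let H be a subgroup of the finite group G and b a block of H (relative to a maximal ideal M of the algebraic integers containing the prime p) whose induced block in G is defined. Then b induces the principal block of G if and only if b is the principal block of H. -/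
theorem result {G : Type*} [Group G] [Finite G] (p : ℕ) [Fact p.Prime] (M : Ideal Cfsg.AlgInt) (hM : Cfsg.IsPModular p M) (H : Subgroup G) (b : Set (Cfsg.IrrCharacter H)) (hdef : Cfsg.InducedBlockDefined M H b) : Cfsg.IsInducedBlock M H b (Cfsg.principalBlock M G) ↔ b = Cfsg.principalBlock M H := by
  classical
  have hMp : M.IsPrime := isPModular_isPrime hM
  have hMt : M ≠ ⊤ := hMp.ne_top
  have : Fintype G := Fintype.ofFinite G
  have : Fintype H := Fintype.ofFinite H
  have hB0G : IsPBlock M (principalBlock M G) := ⟨Cfsg.Agent.S4691.oneIrr G, rfl⟩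
  have hB0H : IsPBlock M (principalBlock M H) := ⟨Cfsg.Agent.S4691.oneIrr H, rfl⟩
  have h1G : Cfsg.Agent.S4691.oneIrr G ∈ principalBlock M G := sameBlock_refl hMt _
  have h1H : Cfsg.Agent.S4691.oneIrr H ∈ principalBlock M H := sameBlock_refl hMt _
  have hone : ∀ (K : Type _) [Group K] [Fintype K] (s : Finset K),
      ∑ g ∈ s, ((Cfsg.Agent.S4691.oneIrr K : IrrCharacter K) : K → ℂ) g = (s.card : ℂ) := by
    intro K _ _ s
    have : ∀ g ∈ s, ((Cfsg.Agent.S4691.oneIrr K : IrrCharacter K) : K → ℂ) g = 1 := fun _ _ => rfl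
    rw [Finset.sum_congr rfl this, Finset.sum_const, nsmul_eq_mul, mul_one]
  constructor
  · intro hind
    obtain ⟨ψ, hψ⟩ := IsPBlock_nonempty hMt hind.1
    have hcong := isInducedBlock_congr H hind hψ h1G (pRegSumC_mem_centerOrder p (M := M))
    rw [omegaHom_apply] at hcong
    change MemLocalIdeal M (omega (ψ : H → ℂ) (resAlg H (pRegSum p G)) -
      omega ((Cfsg.Agent.S4691.oneIrr G : IrrCharacter G) : G → ℂ) (pRegSum p G)) at hcong
    rw [omega_resAlg_pRegSum, omega_pRegSum, hone G] at hcong
    have hone1 : ((Cfsg.Agent.S4691.oneIrr G : IrrCharacter G) : G → ℂ) 1 = 1 := rfl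
    rw [hone1, div_one] at hcong
    have hne : ∑ h ∈ Finset.univ.filter (fun h : H => ¬ p ∣ orderOf h), (ψ : H → ℂ) h ≠ 0 := by
      intro h0
      rw [h0, zero_div, zero_sub, memLocalIdeal_neg_iff] at hcong
      exact card_pRegular_not_memLocalIdeal hM hcong
    have hψ0 := mem_principalBlock_of_sum_ne_zero hM ψ hne
    exact IsPBlock_eq_of_mem hind.1 hB0H hψ hψ0
  · intro hb
    obtain ⟨B, hind⟩ := hdef
    obtain ⟨χ', hχ'⟩ := IsPBlock_nonempty hMt hind.2.1
    have h1b : Cfsg.Agent.S4691.oneIrr H ∈ b := by rw [hb]; exact h1H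
    have hcong := isInducedBlock_congr H hind h1b hχ' (pRegSumC_mem_centerOrder p (M := M))
    rw [omegaHom_apply] at hcong
    change MemLocalIdeal M (omega ((Cfsg.Agent.S4691.oneIrr H : IrrCharacter H) : H → ℂ)
      (resAlg H (pRegSum p G)) - omega (χ' : G → ℂ) (pRegSum p G)) at hcong
    rw [omega_resAlg_pRegSum, omega_pRegSum, hone H] at hcong
    have hone1 : ((Cfsg.Agent.S4691.oneIrr H : IrrCharacter H) : H → ℂ) 1 = 1 := rfl
    rw [hone1, div_one] at hcong
    have hne : ∑ g ∈ Finset.univ.filter (fun g : G => ¬ p ∣ orderOf g), (χ' : G → ℂ) g ≠ 0 := by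
      intro h0
      rw [h0, zero_div, sub_zero] at hcong
      exact card_pRegular_not_memLocalIdeal hM hcong
    have hχ0 := mem_principalBlock_of_sum_ne_zero hM χ' hne
    have hBeq : B = principalBlock M G := IsPBlock_eq_of_mem hind.2.1 hB0G hχ' hχ0
    rw [← hBeq]
    exact hind

end Cfsg.Agent.S0936
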