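import Cfsg.Statements.S0914
import Cfsg.Agent.Lib.Helper78.WBO
import Cfsg.Agent.Lib.Helper79.ClassCount

set_option autoImplicit false
open Cfsg

namespace Cfsg.Agent.S0914

set_option linter.style.haveILetI false
set_option linter.unusedSectionVars false

open Cfsg.Agent.Lib.Helper16 Cfsg.Agent.Lib.Helper78
open scoped ComplexConjugate

/-- The idempotent coefficient of a singleton. -/
theorem blockCoeff_singleton {G : Type*} [Group G] (χ : Cfsg.IrrCharacter G) (g : G) :
    Cfsg.blockCoeff ({χ} : Set (Cfsg.IrrCharacter G)) g =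
      (Nat.card G : ℂ)⁻¹ * ((χ : G → ℂ) 1 * conj ((χ : G → ℂ) g)) := by
  unfold Cfsg.blockCoeff
  rw [finsum_mem_singleton]

/-- A character of `p`-defect zero is alone in its block. -/
theorem block_singleton_of_defect_zero {G : Type*} [Group G] [Fintype G] (p : ℕ) [Fact p.Prime]
    (M : Ideal Cfsg.AlgInt) (hM : Cfsg.IsPModular p M) (χ : Cfsg.IrrCharacter G)
    (h : ¬ p ∣ Nat.card G / Cfsg.charDegree (χ : G → ℂ)) :
    Cfsg.blockOf M (χ : G → ℂ) = {χ} := by
  classical
  haveI := isPModular_isPrime hM
  have hMtop : M ≠ ⊤ := (isPModular_isPrime hM).ne_top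
  ext ψ
  rw [Set.mem_singleton_iff]
  constructor
  · intro hψ
    by_contra hne
    rw [mem_blockOf_iff] at hψ
    set z := blockElt ({χ} : Set (Cfsg.IrrCharacter G)) with hz
    have hzc := blockElt_mem_center ({χ} : Set (Cfsg.IrrCharacter G))
    -- coefficients in the local ring
    have hd : Cfsg.charDegree (χ : G → ℂ) ∣ Nat.card G :=
      Cfsg.Agent.Lib.Helper79.irr_charDegree_dvd_card χ
    have hχ1 : (χ : G → ℂ) 1 = (Cfsg.charDegree (χ : G → ℂ) : ℂ) :=
      IsCharacter.apply_one_eq_charDegree (IsIrrCharacter.isCharacter χ.2)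
    have hdpos : 0 < Cfsg.charDegree (χ : G → ℂ) := IsIrrCharacter.charDegree_pos χ.2
    have hcoef : ∀ g : G, MemLocalRing M (z.coeff g) := by
      intro g
      rw [hz, coeff_blockElt, blockCoeff_singleton, ← mul_assoc]
      apply memLocalRing_mul
      · have e : (Nat.card G : ℂ)⁻¹ * (χ : G → ℂ) 1 =
            ((Nat.card G / Cfsg.charDegree (χ : G → ℂ) : ℕ) : ℂ)⁻¹ := by
          obtain ⟨q, hq⟩ := hd
          have hq' : Nat.card G / Cfsg.charDegree (χ : G → ℂ) = q := by
            rw [hq, Nat.mul_div_cancel_left _ hdpos]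
          rw [hq', hχ1, hq]
          have hd0 : (Cfsg.charDegree (χ : G → ℂ) : ℂ) ≠ 0 := by exact_mod_cast hdpos.ne'
          have hq0 : (q : ℂ) ≠ 0 := by
            intro h0
            have : q = 0 := by exact_mod_cast h0
            rw [this, mul_zero] at hq
            exact (Nat.card_pos (α := G)).ne' hq
          push_cast
          field_simp
        rw [e]
        exact memLocalRing_inv_natCast hM h
      · rw [← IsCharacter.inv (IsIrrCharacter.isCharacter χ.2)]
        exact memLocalRing_of_isIntegral hMtop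
          (IsCharacter.isIntegral (IsIrrCharacter.isCharacter χ.2) _)
    have h1 : omega (χ : G → ℂ) z = 1 := by
      rw [hz, omega_blockElt, if_pos (Set.mem_singleton χ)]
    have h0 : omega (ψ : G → ℂ) z = 0 := by
      rw [hz, omega_blockElt, if_neg]
      rw [Set.mem_singleton_iff]
      exact hne
    rw [omega_eq_sum_classes _ (irr_conj χ) hzc] at h1
    rw [omega_eq_sum_classes _ (irr_conj ψ) hzc] at h0
    have hdiff : MemLocalIdeal M (1 : ℂ) := by
      have : (1 : ℂ) = ∑ c : ConjClasses G, z.coeff (classRep c) *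
          (Cfsg.centralChar (χ : G → ℂ) (classRep c) -
            Cfsg.centralChar (ψ : G → ℂ) (classRep c)) := by
        simp only [mul_sub, Finset.sum_sub_distrib]
        rw [h1, h0, sub_zero]
      rw [this]
      apply memLocalIdeal_sum
      intro c _
      exact memLocalIdeal_mul_left (hcoef _) (hψ _)
    exact one_not_memLocalIdeal hdiff
  · intro hψ
    rw [hψ]
    exact self_mem_blockOf hMtop χ

/-- A character alone in its block vanishes on `p`-singular elements. -/
theorem vanish_of_block_singleton {G : Type*} [Group G] [Fintype G] (p : ℕ) [Fact p.Prime]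
    (M : Ideal Cfsg.AlgInt) (hM : Cfsg.IsPModular p M) (χ : Cfsg.IrrCharacter G)
    (h : Cfsg.blockOf M (χ : G → ℂ) = {χ}) (y : G) (hy : p ∣ orderOf y) :
    (χ : G → ℂ) y = 0 := by
  have hB : Cfsg.IsPBlock M ({χ} : Set (Cfsg.IrrCharacter G)) := ⟨χ, h.symm⟩
  have h1 := weak_block_orthogonality hM hB 1 y
    (by rw [orderOf_one]; exact (Fact.out : p.Prime).one_lt.ne' ∘ Nat.dvd_one.mp) hy
  rw [finsum_mem_singleton] at h1
  have hχ1 : (χ : G → ℂ) 1 ≠ 0 := Cfsg.Agent.Lib.Helper79.irr_apply_one_ne_zero χ
  rcases mul_eq_zero.mp h1 with h2 | h2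
  · exact absurd h2 hχ1
  · have := congrArg conj h2
    simpa using this

/-- A character vanishing on `p`-singular elements has `p`-defect zero. -/
theorem defect_zero_of_vanish {G : Type*} [Group G] [Fintype G] (p : ℕ) [Fact p.Prime]
    (χ : Cfsg.IrrCharacter G)
    (hvan : ∀ y : G, p ∣ orderOf y → (χ : G → ℂ) y = 0) :
    ¬ p ∣ Nat.card G / Cfsg.charDegree (χ : G → ℂ) := by
  classical
  have hp : p.Prime := Fact.out
  obtain ⟨P⟩ : Nonempty (Sylow p G) := inferInstance
  haveI : Fintype (P : Subgroup G) := Fintype.ofFinite _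
  obtain ⟨m, hm⟩ := Cfsg.Agent.Lib.Helper79.sum_subgroup_irr χ (P : Subgroup G)
  -- the sum over P is χ(1)
  have hsum : ∑ u : (P : Subgroup G), (χ : G → ℂ) (u : G) = (χ : G → ℂ) 1 := by
    rw [Finset.sum_eq_single (1 : (P : Subgroup G))]
    · rfl
    · intro u _ hu
      apply hvan
      obtain ⟨k, hk⟩ := (IsPGroup.iff_orderOf.mp P.isPGroup') u
      have hk' : orderOf (u : G) = p ^ k := by rw [Subgroup.orderOf_coe]; exact hk
      rw [hk']
      rcases k with _ | k
      · exfalso
        rw [pow_zero, orderOf_eq_one_iff] at hk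
        exact hu hk
      · exact dvd_pow_self p (Nat.succ_ne_zero k)
    · intro h; exact absurd (Finset.mem_univ _) h
  have hχ1 : (χ : G → ℂ) 1 = (Cfsg.charDegree (χ : G → ℂ) : ℂ) :=
    IsCharacter.apply_one_eq_charDegree (IsIrrCharacter.isCharacter χ.2)
  rw [hsum, hχ1] at hm
  have hdm : Cfsg.charDegree (χ : G → ℂ) = Nat.card (P : Subgroup G) * m := by exact_mod_cast hm
  have hd : Cfsg.charDegree (χ : G → ℂ) ∣ Nat.card G :=
    Cfsg.Agent.Lib.Helper79.irr_charDegree_dvd_card χ
  have hdpos : 0 < Cfsg.charDegree (χ : G → ℂ) := IsIrrCharacter.charDegree_pos χ.2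
  -- |G| = |P| * index
  have hidx : ¬ p ∣ (P : Subgroup G).index := P.not_dvd_index
  have hcard : Nat.card G = Nat.card (P : Subgroup G) * (P : Subgroup G).index :=
    ((P : Subgroup G).card_mul_index).symm
  intro hdiv
  apply hidx
  obtain ⟨q, hq⟩ := hd
  have hq' : Nat.card G / Cfsg.charDegree (χ : G → ℂ) = q := by
    rw [hq, Nat.mul_div_cancel_left _ hdpos]
  rw [hq'] at hdiv
  -- |P| * index = |P| * m * q
  have hPpos : 0 < Nat.card (P : Subgroup G) := Nat.card_pos
  have : (P : Subgroup G).index = m * q := by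
    have h1 : Nat.card (P : Subgroup G) * (P : Subgroup G).index =
        Nat.card (P : Subgroup G) * (m * q) := by
      rw [← hcard, hq, hdm, mul_assoc]
    exact Nat.eq_of_mul_eq_mul_left hPpos h1
  rw [this]
  exact Dvd.dvd.mul_left hdiv m


/-- Let χ be an irreducible character of the finite group G, p a prime and M a maximal ideal of the algebraic integers containing p. Then p does not divide the integer (Nat.card G) / χ(1) if and only if the block of χ relative to M consists of χ alone. -/
theorem result {G : Type*} [Group G] [Finite G] (p : ℕ) [Fact p.Prime] (M : Ideal Cfsg.AlgInt) (hM : Cfsg.IsPModular p M) (χ : Cfsg.IrrCharacter G) : ¬ p ∣ Nat.card G / Cfsg.charDegree (χ : G → ℂ) ↔ Cfsg.blockOf M (χ : G → ℂ) = {χ} := by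
  classical
  haveI : Fintype G := Fintype.ofFinite G
  constructor
  · exact block_singleton_of_defect_zero p M hM χ
  · intro h
    exact defect_zero_of_vanish p χ (vanish_of_block_singleton p M hM χ h)

end Cfsg.Agent.S0914
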