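import Cfsg.Statements.S0165
import Cfsg.Agent.S0914

set_option autoImplicit false
open Cfsg

namespace Cfsg.Agent.S0165

set_option linter.style.haveILetI false

/-- `1/p` is not an algebraic integer, so `p` is not a unit of `AlgInt`. -/
theorem exists_modular (p : ℕ) (hp : p.Prime) :
    ∃ M : Ideal AlgInt, M.IsMaximal ∧ (p : AlgInt) ∈ M := by
  have hne : Ideal.span {(p : AlgInt)} ≠ ⊤ := by
    intro htop
    have h1 : (1 : AlgInt) ∈ Ideal.span {(p : AlgInt)} := by rw [htop]; trivial
    obtain ⟨a, ha⟩ := Ideal.mem_span_singleton'.mp h1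
    have ha' : (a : ℂ) * (p : ℂ) = 1 := by
      have := congrArg (fun x : AlgInt => (x : ℂ)) ha
      simpa using this
    have hp0 : (p : ℂ) ≠ 0 := by exact_mod_cast hp.ne_zero
    have haval : (a : ℂ) = algebraMap ℚ ℂ ((1 : ℚ) / (p : ℚ)) := by
      have : (a : ℂ) = 1 / (p : ℂ) := by field_simp; exact ha'
      rw [this]; simp
    have hint : IsIntegral ℤ (a : ℂ) := a.2
    rw [haval] at hint
    have h2 : IsIntegral ℤ ((1 : ℚ) / (p : ℚ)) :=
      (isIntegral_algebraMap_iff (algebraMap ℚ ℂ).injective).mp hint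
    obtain ⟨z, hz⟩ := IsIntegrallyClosed.isIntegral_iff.mp h2
    have hpq : (p : ℚ) ≠ 0 := by exact_mod_cast hp.ne_zero
    have h3 : (p : ℚ) * (z : ℚ) = 1 := by
      have : ((z : ℤ) : ℚ) = 1 / (p : ℚ) := by simpa using hz
      rw [this]; field_simp
    have h4 : (p : ℤ) * z = 1 := by exact_mod_cast h3
    have h5 : (p : ℤ) ∣ 1 := ⟨z, h4.symm⟩
    have h6 : p ∣ 1 := by exact_mod_cast h5
    exact hp.one_lt.ne' (Nat.dvd_one.mp h6)
  obtain ⟨M, hM, hle⟩ := Ideal.exists_le_maximal _ hne
  exact ⟨M, hM, hle (Ideal.subset_span (Set.mem_singleton _))⟩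


/-- If p ^ n is the exact power of the prime p dividing the order of a finite group and p ^ n divides the degree of an irreducible complex representation, then its character vanishes at every element of order divisible by p. -/
theorem result {G : Type*} [Group G] [Finite G] {V : Type*} [AddCommGroup V] [Module ℂ V] [FiniteDimensional ℂ V] (ρ : Representation ℂ G V) [ρ.IsIrreducible] (p n : ℕ) (hp : p.Prime) (hn : p ^ n ∣ Nat.card G) (hn' : ¬ p ^ (n + 1) ∣ Nat.card G) (hdeg : p ^ n ∣ Module.finrank ℂ V) (x : G) (hx : p ∣ orderOf x) : ρ.character x = 0 := by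
  classical
  haveI : Fintype G := Fintype.ofFinite G
  haveI : Fact p.Prime := ⟨hp⟩
  obtain ⟨M, hMmax, hpM⟩ := exists_modular p hp
  have hM : Cfsg.IsPModular p M := ⟨hp, hMmax, hpM⟩
  let χ : Cfsg.IrrCharacter G :=
    ⟨ρ.character, Cfsg.Agent.Lib.Helper78.isIrrCharacter_of_isIrreducible ρ inferInstance⟩
  have hdegχ : Cfsg.charDegree (χ : G → ℂ) = Module.finrank ℂ V := by
    show Cfsg.charDegree ρ.character = _
    unfold Cfsg.charDegree
    rw [Representation.char_one]
    simp
  have hd : Cfsg.charDegree (χ : G → ℂ) ∣ Nat.card G :=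
    Cfsg.Agent.Lib.Helper79.irr_charDegree_dvd_card χ
  have hdpos : 0 < Cfsg.charDegree (χ : G → ℂ) :=
    Cfsg.Agent.Lib.Helper78.IsIrrCharacter.charDegree_pos χ.2
  have hdef : ¬ p ∣ Nat.card G / Cfsg.charDegree (χ : G → ℂ) := by
    intro hdiv
    apply hn'
    obtain ⟨q, hq⟩ := hd
    have hq' : Nat.card G / Cfsg.charDegree (χ : G → ℂ) = q := by
      rw [hq, Nat.mul_div_cancel_left _ hdpos]
    rw [hq'] at hdiv
    rw [hq, hdegχ, pow_succ]
    exact Nat.mul_dvd_mul hdeg hdiv
  have hblock := Cfsg.Agent.S0914.block_singleton_of_defect_zero p M hM χ hdef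
  exact Cfsg.Agent.S0914.vanish_of_block_singleton p M hM χ hblock x hx

end Cfsg.Agent.S0165
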