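import Cfsg.Statements.S0942
import Cfsg.Agent.S0923
import Cfsg.Agent.S0936
import Cfsg.Agent.Lib.Helper16.NormalSub
import Cfsg.Agent.Lib.Helper76.PCore
import Cfsg.Agent.Lib.Helper78.SMTOrtho

set_option autoImplicit false
open Cfsg

namespace Cfsg.Agent.S0942

open Cfsg.Agent.Lib Cfsg.Agent.Lib.Helper16 Cfsg.Agent.Lib.Helper78
open scoped ComplexConjugate

/-- Let u be a p-element of the finite group G, let v lie in the largest normal subgroup of C_G(u) of order prime to p, and let χ belong to the principal block (relative to a maximal ideal M of the algebraic integers containing p). Then χ (u * v) = χ u. -/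
theorem result {G : Type*} [Group G] [Finite G] (p : ℕ) [Fact p.Prime] (M : Ideal Cfsg.AlgInt) (hM : Cfsg.IsPModular p M) (u : G) (hu : ∃ k : ℕ, orderOf u = p ^ k) (v : G) (hv : v ∈ Cfsg.centralizerPPrimeCore p u) (χ : Cfsg.IrrCharacter G) (hχ : χ ∈ Cfsg.principalBlock M G) : (χ : G → ℂ) (u * v) = (χ : G → ℂ) u := by
  classical
  have hMp : M.IsPrime := isPModular_isPrime hM
  have hMt : M ≠ ⊤ := hMp.ne_top
  have : Fintype G := Fintype.ofFinite G
  set C := Subgroup.centralizer ({u} : Set G) with hC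
  have : Fintype C := Fintype.ofFinite C
  have : Fintype (pPrimeCore p C) := Fintype.ofFinite _
  obtain ⟨v', hv', rfl⟩ := Subgroup.mem_map.mp hv
  have hB0G : IsPBlock M (principalBlock M G) := ⟨Cfsg.Agent.S4691.oneIrr G, rfl⟩
  set ϑ : C → ℂ := fun c => (χ : G → ℂ) (u * (c : G)) with hϑ
  have hϑcl : IsClassFunction C ϑ := by
    intro g h
    show (χ : G → ℂ) (u * ((h * g * h⁻¹ : C) : G)) = (χ : G → ℂ) (u * (g : G))
    have hh : (h : G) * u = u * (h : G) := by
      have hh' : (h : G) ∈ Subgroup.centralizer ({u} : Set G) := h.2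
      rw [Subgroup.mem_centralizer_singleton_iff] at hh'
      exact hh'
    have : u * ((h * g * h⁻¹ : C) : G) = (h : G) * (u * (g : G)) * (h : G)⁻¹ := by
      show u * ((h : G) * (g : G) * (h : G)⁻¹) = (h : G) * (u * (g : G)) * (h : G)⁻¹
      rw [← mul_assoc, ← mul_assoc, ← mul_assoc, hh]
    rw [this, irr_conj]
  -- on `p`-regular elements, `ϑ` is its principal block part
  have key : ∀ y : C, ¬ p ∣ orderOf y →
      ϑ y = ∑ ξ ∈ Finset.univ.filter (fun ξ : IrrCharacter C => ξ ∈ principalBlock M C),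
        classInner ϑ (ξ : C → ℂ) * (ξ : C → ℂ) y := by
    intro y hy
    have h1 : ϑ y = ∑ ξ : IrrCharacter C, classInner ϑ (ξ : C → ℂ) * (ξ : C → ℂ) y := by
      have := congrFun (classFunction_eq_sum_irr hϑcl) y
      rw [Finset.sum_apply] at this
      simpa using this
    rw [h1, ← Finset.sum_filter_add_sum_filter_not Finset.univ
      (fun ξ : IrrCharacter C => ξ ∈ principalBlock M C)]
    have h2 : ∑ ξ ∈ Finset.univ.filter (fun ξ : IrrCharacter C => ¬ ξ ∈ principalBlock M C),
        classInner ϑ (ξ : C → ℂ) * (ξ : C → ℂ) y = 0 := by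
      rw [show (Finset.univ.filter (fun ξ : IrrCharacter C => ¬ ξ ∈ principalBlock M C)) =
        Finset.univ.filter (fun ξ : IrrCharacter C => ξ ∈ (principalBlock M C)ᶜ) from by
          ext ξ; simp]
      have h5 := sum_eq_zero_of_forall_block (M := M) ((principalBlock M C)ᶜ) (by
          intro ξ ξ' hξ hsame hξ'
          apply hξ
          exact sameBlock_trans (M := M) hξ' (sameBlock_symm hsame))
        (fun ξ : IrrCharacter C => classInner ϑ (ξ : C → ℂ) * (ξ : C → ℂ) y) (by
          intro ξ₀ hξ₀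
          rw [← blockPart_apply]
          apply Cfsg.Agent.S0923.result p M hM u hu (principalBlock M G) hB0G χ hχ
            (blockOf M (ξ₀ : C → ℂ)) (isPBlock_blockOf ξ₀) _ y hy
          intro hind
          have h3 := (Cfsg.Agent.S0936.result p M hM C (blockOf M (ξ₀ : C → ℂ)) ⟨_, hind⟩).mp hind
          apply hξ₀
          rw [← h3]
          exact self_mem_blockOf hMt ξ₀)
      convert h5 using 2
      ext ξ
      simp only [Finset.mem_filter, Finset.mem_univ, true_and]
    rw [h2, add_zero]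
  -- `v'` is `p`-regular
  have hcop : (Nat.card (pPrimeCore p C)).Coprime p := Helper76.pPrimeCore_coprime (G := C) p
  have hpn : ¬ p ∣ Nat.card (pPrimeCore p C) := by
    intro hd
    have := Nat.Coprime.eq_one_of_dvd hcop.symm hd
    exact (Fact.out : p.Prime).one_lt.ne' this
  have hv'reg : ¬ p ∣ orderOf v' := by
    intro hd
    apply hpn
    apply hd.trans
    have h1 : orderOf (⟨v', hv'⟩ : pPrimeCore p C) = orderOf v' := Subgroup.orderOf_mk v' hv'
    rw [← h1]
    exact orderOf_dvd_natCard _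
  have h1reg : ¬ p ∣ orderOf (1 : C) := by
    rw [orderOf_one]
    exact (Fact.out : p.Prime).one_lt.ne' ∘ Nat.dvd_one.mp
  have hval : ϑ v' = ϑ 1 := by
    rw [key v' hv'reg, key 1 h1reg]
    refine Finset.sum_congr rfl fun ξ hξ => ?_
    have hξ' : ξ ∈ principalBlock M C := (Finset.mem_filter.mp hξ).2
    have hsb : SameBlock M ((Cfsg.Agent.S4691.oneIrr C : IrrCharacter C) : C → ℂ) (ξ : C → ℂ) := hξ'
    rw [eq_apply_one_of_sameBlock_of_not_dvd (pPrimeCore p C) hM hpn hsb (fun _ _ => rfl) v' hv']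
  have h3 : ϑ v' = (χ : G → ℂ) (u * (C.subtype v')) := rfl
  have h4 : ϑ 1 = (χ : G → ℂ) u := by
    show (χ : G → ℂ) (u * ((1 : C) : G)) = (χ : G → ℂ) u
    rw [Subgroup.coe_one, mul_one]
  rw [← h3, hval, h4]

end Cfsg.Agent.S0942
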