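import Cfsg.Statements.S0943
import Cfsg.Agent.Lib.Helper79.Schur

set_option autoImplicit false
open Cfsg

namespace Cfsg.Agent.S0943

/-- Let χ be an irreducible character of the finite group G and u, v ∈ G. If χ (x * y) = χ (u * v) whenever x is conjugate to u and y is conjugate to v, then χ u * χ v = χ 1 * χ (u * v). (Multiply the class sums of u and v and apply the central character of χ.) -/
theorem result {G : Type*} [Group G] [Finite G] (χ : Cfsg.IrrCharacter G) (u v : G) (hc : ∀ x y : G, IsConj u x → IsConj v y → (χ : G → ℂ) (x * y) = (χ : G → ℂ) (u * v)) : (χ : G → ℂ) u * (χ : G → ℂ) v = (χ : G → ℂ) 1 * (χ : G → ℂ) (u * v) := by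
  classical
  have := Fintype.ofFinite G
  have h := Cfsg.Agent.Lib.Helper79.irr_sum_sum_conj_mul_conj χ u v
  have h1 : ∀ a b : G, (χ : G → ℂ) (a * u * a⁻¹ * (b * v * b⁻¹)) = (χ : G → ℂ) (u * v) :=
    fun a b => hc _ _ (isConj_iff.mpr ⟨a, rfl⟩) (isConj_iff.mpr ⟨b, rfl⟩)
  simp only [h1, Finset.sum_const, Finset.card_univ, nsmul_eq_mul] at h
  have hG : (Nat.card G : ℂ) ≠ 0 := by exact_mod_cast Nat.card_pos.ne'
  have h1' : (χ : G → ℂ) 1 ≠ 0 := Cfsg.Agent.Lib.Helper79.irr_apply_one_ne_zero χ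
  rw [← Nat.card_eq_fintype_card] at h
  field_simp at h
  rw [← h]; ring

end Cfsg.Agent.S0943
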