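import Mathlib
import Cfsg.Statements.S0840
import Cfsg.Agent.Lib.Helper78.CharOrtho
import Cfsg.Agent.Lib.Helper79.Schur
-- import your own Cfsg.Agent.* helpers here

set_option autoImplicit false
open scoped ComplexConjugate
open Cfsg

namespace Cfsg.Agent.S0840

open scoped ComplexConjugate
open Cfsg.Agent.Lib.Helper78 Cfsg.Agent.Lib.Helper79

/-- number of `w` with `w c w⁻¹ = g` -/
theorem card_conj_eq {G : Type*} [Group G] [Fintype G] [DecidableEq G] (c g : G) (h : IsConj c g) :
    (Finset.univ.filter (fun w : G => w * c * w⁻¹ = g)).card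
      = Nat.card (Subgroup.centralizer ({c} : Set G)) := by
  obtain ⟨w₀, hw₀⟩ := isConj_iff.mp h
  rw [← Fintype.card_subtype, ← Nat.card_eq_fintype_card]
  apply Nat.card_congr
  refine
    { toFun := fun w => ⟨w₀⁻¹ * w.1, ?_⟩
      invFun := fun z => ⟨w₀ * z.1, ?_⟩
      left_inv := ?_
      right_inv := ?_ }
  · rw [Subgroup.mem_centralizer_iff]
    intro x hx
    rw [Set.mem_singleton_iff] at hx
    subst hx
    have hw := w.2.trans hw₀.symm
    -- w x w⁻¹ = w₀ x w₀⁻¹
    have e : w₀⁻¹ * (w.1 * x * w.1⁻¹) * w₀ = x := by rw [hw]; group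
    calc x * (w₀⁻¹ * w.1) = (w₀⁻¹ * (w.1 * x * w.1⁻¹) * w₀) * (w₀⁻¹ * w.1) := by rw [e]
      _ = w₀⁻¹ * w.1 * x := by group
  · have hz := z.2
    rw [Subgroup.mem_centralizer_iff] at hz
    have hz' := hz c (Set.mem_singleton c)
    rw [← hw₀]
    calc w₀ * z.1 * c * (w₀ * z.1)⁻¹ = w₀ * (z.1 * c) * z.1⁻¹ * w₀⁻¹ := by group
      _ = w₀ * (c * z.1) * z.1⁻¹ * w₀⁻¹ := by rw [hz']
      _ = w₀ * c * w₀⁻¹ := by group
  · intro w; ext; simp
  · intro z; ext; simp

/-- sum over conjugates via the centralizer -/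
theorem sum_conj_eq {G : Type*} [Group G] [Fintype G] [DecidableEq G] (a : G) (f : G → ℂ) :
    ∑ u : G, f (u * a * u⁻¹) =
      (Nat.card (Subgroup.centralizer ({a} : Set G)) : ℂ) *
        ∑ x ∈ Finset.univ.filter (fun x : G => IsConj a x), f x := by
  classical
  have h1 : ∑ u : G, f (u * a * u⁻¹) = ∑ u : G, ∑ x : G, if u * a * u⁻¹ = x then f x else 0 := by
    apply Finset.sum_congr rfl
    intro u _
    rw [Finset.sum_ite_eq]
    simp
  rw [h1, Finset.sum_comm, Finset.mul_sum, Finset.sum_filter]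
  apply Finset.sum_congr rfl
  intro x _
  by_cases hx : IsConj a x
  · rw [if_pos hx, ← Finset.sum_filter, Finset.sum_const, card_conj_eq a x hx, nsmul_eq_mul]
  · rw [if_neg hx]
    apply Finset.sum_eq_zero
    intro u _
    rw [if_neg]
    intro hu
    exact hx (isConj_iff.mpr ⟨u, hu⟩)


/-- Class multiplication coefficients from the character table: for elements a, b, c of a finite group G, the number of ordered pairs (x, y) with x conjugate to a, y conjugate to b and x * y = c equals the product of the sizes of the conjugacy classes of a and b, divided by the order of G, times the sum over the irreducible characters χ of χ a * χ b * conj (χ c) / χ 1. -/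
theorem result {G : Type*} [Group G] [Finite G] (a b c : G) : (Nat.card {p : G × G // IsConj a p.1 ∧ IsConj b p.2 ∧ p.1 * p.2 = c} : ℂ) = (Nat.card {x : G // IsConj a x} : ℂ) * (Nat.card {x : G // IsConj b x} : ℂ) / (Nat.card G : ℂ) * ∑ᶠ χ : Cfsg.IrrCharacter G, (χ : G → ℂ) a * (χ : G → ℂ) b * conj ((χ : G → ℂ) c) / (χ : G → ℂ) 1 := by
  classical
  have : Fintype G := Fintype.ofFinite G
  rw [finsum_eq_sum_of_fintype]
  set Ca : ℂ := (Nat.card (Subgroup.centralizer ({a} : Set G)) : ℂ) with hCa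
  set Cb : ℂ := (Nat.card (Subgroup.centralizer ({b} : Set G)) : ℂ) with hCb
  set n : ℂ := (Nat.card G : ℂ) with hn
  have hn0 : n ≠ 0 := by
    have : 0 < Nat.card G := Nat.card_pos
    rw [hn]; exact_mod_cast this.ne'
  have hCa0 : Ca ≠ 0 := by
    have : 0 < Nat.card (Subgroup.centralizer ({a} : Set G)) := Nat.card_pos
    rw [hCa]; exact_mod_cast this.ne'
  have hCb0 : Cb ≠ 0 := by
    have : 0 < Nat.card (Subgroup.centralizer ({b} : Set G)) := Nat.card_pos
    rw [hCb]; exact_mod_cast this.ne'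
  -- class sizes
  have hcl : ∀ g : G, (Nat.card {x : G // IsConj g x} : ℂ) *
      (Nat.card (Subgroup.centralizer ({g} : Set G)) : ℂ) = n := by
    intro g
    rw [Nat.card_eq_fintype_card, Fintype.card_subtype, card_isConj_eq_index g, ← Nat.cast_mul,
      mul_comm, Subgroup.card_mul_index]
  -- the count as a sum of indicators
  have hN : (Nat.card {p : G × G // IsConj a p.1 ∧ IsConj b p.2 ∧ p.1 * p.2 = c} : ℂ)
      = ∑ x ∈ Finset.univ.filter (fun x : G => IsConj a x),
          ∑ y ∈ Finset.univ.filter (fun y : G => IsConj b y), if x * y = c then (1 : ℂ) else 0 := by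
    rw [Nat.card_eq_fintype_card, Fintype.card_subtype, Finset.card_filter, Nat.cast_sum,
      Fintype.sum_prod_type, Finset.sum_filter]
    apply Finset.sum_congr rfl
    intro x _
    by_cases hx : IsConj a x
    · rw [if_pos hx, Finset.sum_filter]
      apply Finset.sum_congr rfl
      intro y _
      by_cases hy : IsConj b y
      · by_cases hxy : x * y = c
        · simp only [hx, hy, hxy, and_self, if_true, Nat.cast_one]
        · simp only [hx, hy, hxy, and_false, if_true, if_false, Nat.cast_zero]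
      · simp only [hx, hy, false_and, and_false, if_false, Nat.cast_zero]
    · rw [if_neg hx]
      simp only [hx, false_and, if_false, Nat.cast_zero, Finset.sum_const_zero]
  -- N' = Ca * Cb * N
  have hN' : ∑ u : G, ∑ v : G, (if u * a * u⁻¹ * (v * b * v⁻¹) = c then (1 : ℂ) else 0)
      = Ca * Cb * (Nat.card {p : G × G // IsConj a p.1 ∧ IsConj b p.2 ∧ p.1 * p.2 = c} : ℂ) := by
    rw [hN]
    have e1 : ∀ u : G, ∑ v : G, (if u * a * u⁻¹ * (v * b * v⁻¹) = c then (1 : ℂ) else 0)
        = Cb * ∑ y ∈ Finset.univ.filter (fun y : G => IsConj b y),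
            if u * a * u⁻¹ * y = c then (1 : ℂ) else 0 :=
      fun u => sum_conj_eq b (fun y => if u * a * u⁻¹ * y = c then (1 : ℂ) else 0)
    rw [Finset.sum_congr rfl (fun u _ => e1 u)]
    rw [sum_conj_eq a (fun x => Cb * ∑ y ∈ Finset.univ.filter (fun y : G => IsConj b y),
            if x * y = c then (1 : ℂ) else 0)]
    rw [← Finset.mul_sum]
    ring
  -- indicator of equality via characters
  have hind : ∀ g : G, (if g = c then (1 : ℂ) else 0)
      = n⁻¹ * ∑ χ : IrrCharacter G, (χ : G → ℂ) 1 * (χ : G → ℂ) (g * c⁻¹) := by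
    intro g
    have h := sum_irr_mul_conj_eq (g * c⁻¹) (1 : G)
    have hc1 : (Nat.card (Subgroup.centralizer ({(1 : G)} : Set G)) : ℂ) = n := by
      rw [hn]
      congr 1
      have : Subgroup.centralizer ({(1 : G)} : Set G) = ⊤ := by
        rw [eq_top_iff]
        intro x _
        rw [Subgroup.mem_centralizer_iff]
        intro y hy
        rw [Set.mem_singleton_iff] at hy
        subst hy
        simp
      rw [this, Subgroup.card_top]
    have hreal : ∀ χ : IrrCharacter G, conj ((χ : G → ℂ) 1) = (χ : G → ℂ) 1 := by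
      intro χ
      have := IsCharacter.inv (IsIrrCharacter.isCharacter χ.2) (1 : G)
      rw [inv_one] at this
      exact this.symm
    have h' : ∑ χ : IrrCharacter G, (χ : G → ℂ) 1 * (χ : G → ℂ) (g * c⁻¹)
        = n * classIndicator (1 : G) (g * c⁻¹) := by
      rw [← hc1, ← h]
      apply Finset.sum_congr rfl
      intro χ _
      rw [hreal χ, mul_comm]
    rw [h']
    unfold classIndicator
    have hiff : IsConj (1 : G) (g * c⁻¹) ↔ g = c := by
      rw [isConj_one_right, mul_inv_eq_one]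
    by_cases hgc : g = c
    · rw [if_pos hgc, if_pos (hiff.mpr hgc)]
      field_simp
    · rw [if_neg hgc, if_neg (fun h => hgc (hiff.mp h))]
      simp
  -- evaluate N' with characters
  have hN'' : ∑ u : G, ∑ v : G, (if u * a * u⁻¹ * (v * b * v⁻¹) = c then (1 : ℂ) else 0)
      = n * ∑ χ : IrrCharacter G,
          (χ : G → ℂ) a * (χ : G → ℂ) b * conj ((χ : G → ℂ) c) / (χ : G → ℂ) 1 := by
    simp_rw [hind]
    simp_rw [← Finset.mul_sum]
    have e2 : ∀ χ : IrrCharacter G, ∑ u : G, ∑ v : G,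
        (χ : G → ℂ) 1 * (χ : G → ℂ) (u * a * u⁻¹ * (v * b * v⁻¹) * c⁻¹)
        = n ^ 2 * ((χ : G → ℂ) a * (χ : G → ℂ) b * conj ((χ : G → ℂ) c) / (χ : G → ℂ) 1) := by
      intro χ
      have h1 : ∀ v : G, ∑ u : G, (χ : G → ℂ) (u * a * u⁻¹ * (v * b * v⁻¹) * c⁻¹)
          = n * (χ : G → ℂ) a * (χ : G → ℂ) (v * b * v⁻¹ * c⁻¹) / (χ : G → ℂ) 1 := by
        intro v
        have := irr_sum_conj_mul χ a (v * b * v⁻¹ * c⁻¹)
        rw [← this]
        apply Finset.sum_congr rfl
        intro u _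
        rw [mul_assoc (u * a * u⁻¹)]
      have h2 := irr_sum_conj_mul χ b c⁻¹
      have h3 : (χ : G → ℂ) c⁻¹ = conj ((χ : G → ℂ) c) :=
        IsCharacter.inv (IsIrrCharacter.isCharacter χ.2) c
      have hχ1 : (χ : G → ℂ) 1 ≠ 0 := irr_apply_one_ne_zero χ
      rw [Finset.sum_comm]
      simp_rw [← Finset.mul_sum]
      simp_rw [h1]
      have : ∑ v : G, n * (χ : G → ℂ) a * (χ : G → ℂ) (v * b * v⁻¹ * c⁻¹) / (χ : G → ℂ) 1
          = n * (χ : G → ℂ) a / (χ : G → ℂ) 1 * ∑ v : G, (χ : G → ℂ) (v * b * v⁻¹ * c⁻¹) := by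
        rw [Finset.mul_sum]
        apply Finset.sum_congr rfl
        intro v _
        ring
      rw [this, h2, h3, ← hn]
      field_simp
    have e3 : ∑ u : G, ∑ v : G, ∑ χ : IrrCharacter G,
        (χ : G → ℂ) 1 * (χ : G → ℂ) (u * a * u⁻¹ * (v * b * v⁻¹) * c⁻¹)
        = ∑ χ : IrrCharacter G, ∑ u : G, ∑ v : G,
        (χ : G → ℂ) 1 * (χ : G → ℂ) (u * a * u⁻¹ * (v * b * v⁻¹) * c⁻¹) := by
      calc _ = ∑ u : G, ∑ χ : IrrCharacter G, ∑ v : G,
            (χ : G → ℂ) 1 * (χ : G → ℂ) (u * a * u⁻¹ * (v * b * v⁻¹) * c⁻¹) := by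
            apply Finset.sum_congr rfl
            intro u _
            exact Finset.sum_comm
        _ = _ := Finset.sum_comm
    rw [e3, Finset.sum_congr rfl (fun χ _ => e2 χ), ← Finset.mul_sum]
    field_simp
  have hfinal := hN'.symm.trans hN''
  have ha := hcl a
  have hb := hcl b
  rw [← hCa] at ha
  rw [← hCb] at hb
  have hA : (Nat.card {x : G // IsConj a x} : ℂ) = n / Ca := by
    rw [← ha]; field_simp
  have hB : (Nat.card {x : G // IsConj b x} : ℂ) = n / Cb := by
    rw [← hb]; field_simp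
  rw [hA, hB]
  have : (Nat.card {p : G × G // IsConj a p.1 ∧ IsConj b p.2 ∧ p.1 * p.2 = c} : ℂ)
      = (Ca * Cb)⁻¹ * (n * ∑ χ : IrrCharacter G,
          (χ : G → ℂ) a * (χ : G → ℂ) b * conj ((χ : G → ℂ) c) / (χ : G → ℂ) 1) := by
    rw [← hfinal]
    field_simp
  rw [this]
  field_simp

end Cfsg.Agent.S0840
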