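import Mathlib
import Cfsg.Statements.S0843
-- import your own Cfsg.Agent.* helpers here

set_option autoImplicit false
open Cfsg

namespace Cfsg.Agent.S0843

section Quat
-- (structure of an embedded generalized quaternion group; adapted from helper55's S3294)

open QuaternionGroup

variable {m : ℕ}

theorem a_one_zpow (k : ℤ) : (a 1 : QuaternionGroup m) ^ k = a (k : ZMod (2 * m)) := by
  cases k with
  | ofNat j =>
    rw [Int.ofNat_eq_natCast, zpow_natCast, a_one_pow]; simp
  | negSucc j =>
    rw [zpow_negSucc, a_one_pow]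
    apply inv_eq_of_mul_eq_one_right
    rw [a_mul_a, ← a_zero]
    congr 1
    push_cast
    ring

theorem mem_zpowers_a_one_iff [NeZero m] (x : QuaternionGroup m) :
    x ∈ Subgroup.zpowers (a 1 : QuaternionGroup m) ↔ ∃ j, x = a j := by
  constructor
  · rintro ⟨k, rfl⟩
    exact ⟨_, a_one_zpow k⟩
  · rintro ⟨j, rfl⟩
    refine ⟨(j.val : ℤ), ?_⟩
    show (a 1 : QuaternionGroup m) ^ ((j.val : ℕ) : ℤ) = a j
    rw [a_one_zpow]
    simp

theorem xa_conj_a (i j : ZMod (2 * m)) : xa i * a j * (xa i)⁻¹ = (a j : QuaternionGroup m)⁻¹ := by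
  have h2m : (m : ZMod (2 * m)) + m = 0 := by
    have : ((2 * m : ℕ) : ZMod (2 * m)) = 0 := ZMod.natCast_self _
    rw [← this]; push_cast; ring
  have hinv : (xa i : QuaternionGroup m)⁻¹ = xa ((m : ZMod (2 * m)) + i) := by
    apply inv_eq_of_mul_eq_one_right
    rw [xa_mul_xa, ← a_zero]
    congr 1
    rw [← h2m]; ring
  have hainv : (a j : QuaternionGroup m)⁻¹ = a (-j) := by
    apply inv_eq_of_mul_eq_one_right
    rw [a_mul_a, ← a_zero]
    congr 1
    ring
  rw [hinv, hainv, xa_mul_a, xa_mul_xa]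
  congr 1
  calc (m : ZMod (2 * m)) + (m + i) - (i + j) = ((m : ZMod (2 * m)) + m) - j := by ring
    _ = -j := by rw [h2m]; ring

/-- Structure of an embedded generalized quaternion group. -/
theorem exists_cyclic_of_quaternion [NeZero m] {H : Type*} [Group H] (ψ : QuaternionGroup m →* H)
    (hψ : Function.Injective ψ) :
    ∃ A : Subgroup H, A ≤ ψ.range ∧ IsCyclic ↥A ∧ Nat.card ↥A = 2 * m ∧
      ∀ y ∈ ψ.range, y ∉ A → orderOf y = 4 ∧ ∀ x ∈ A, y * x * y⁻¹ = x⁻¹ := by
  set A₀ : Subgroup (QuaternionGroup m) := Subgroup.zpowers (a 1) with hA₀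
  refine ⟨A₀.map ψ, ?_, ?_, ?_, ?_⟩
  · rintro _ ⟨x, -, rfl⟩
    exact ⟨x, rfl⟩
  · exact isCyclic_of_surjective (ψ.subgroupMap A₀) (ψ.subgroupMap_surjective A₀)
  · rw [Subgroup.card_map_of_injective hψ, Nat.card_zpowers, orderOf_a_one]
  · rintro _ ⟨q, rfl⟩ hq
    have hq' : q ∉ A₀ := fun h => hq (Subgroup.mem_map_of_mem ψ h)
    rw [hA₀, mem_zpowers_a_one_iff] at hq'
    cases q with
    | a i => exact absurd ⟨i, rfl⟩ hq'
    | xa i =>
      refine ⟨?_, ?_⟩
      · rw [orderOf_injective ψ hψ, orderOf_xa]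
      · rintro _ ⟨x, hx, rfl⟩
        obtain ⟨j, rfl⟩ := (mem_zpowers_a_one_iff x).mp hx
        rw [← map_inv, ← map_mul, ← map_mul, xa_conj_a, map_inv]

end Quat

section Cyclic

/-- In a finite cyclic group, a subgroup whose order divides that of another is contained in it. -/
theorem le_of_card_dvd_of_isCyclic {C : Type*} [Group C] [Finite C] [IsCyclic C]
    (H K : Subgroup C) (h : Nat.card H ∣ Nat.card K) : H ≤ K := by
  classical
  have : Fintype C := Fintype.ofFinite C
  set k := Nat.card K with hk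
  have hkpos : 0 < k := Nat.card_pos
  -- K = {x | x ^ k = 1}
  have hKsub : ∀ x ∈ K, x ^ k = 1 := by
    intro x hx
    have := pow_card_eq_one' (G := K) (x := ⟨x, hx⟩)
    have h2 := congrArg Subtype.val this
    rw [Subgroup.coe_pow, Subgroup.coe_one] at h2
    exact h2
  have hcard := IsCyclic.card_pow_eq_one_le (α := C) hkpos
  have hKfin : (Finset.univ.filter (fun x : C => x ∈ K)).card = k := by
    rw [hk, Nat.card_eq_fintype_card, Fintype.card_subtype]
  have hsub : Finset.univ.filter (fun x : C => x ∈ K) ⊆ Finset.univ.filter (fun x : C => x ^ k = 1) := by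
    intro x hx
    simp only [Finset.mem_filter, Finset.mem_univ, true_and] at hx ⊢
    exact hKsub x hx
  have heq : Finset.univ.filter (fun x : C => x ∈ K) = Finset.univ.filter (fun x : C => x ^ k = 1) :=
    Finset.eq_of_subset_of_card_le hsub (by rw [hKfin]; exact hcard)
  intro x hx
  have hxk : x ^ k = 1 := by
    obtain ⟨d, hd⟩ := h
    have := pow_card_eq_one' (G := H) (x := ⟨x, hx⟩)
    have h2 : x ^ Nat.card H = 1 := by
      have h3 := congrArg Subtype.val this
      rw [Subgroup.coe_pow, Subgroup.coe_one] at h3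
      exact h3
    rw [hd, pow_mul, h2, one_pow]
  have : x ∈ Finset.univ.filter (fun x : C => x ^ k = 1) := by
    simp only [Finset.mem_filter, Finset.mem_univ, true_and]; exact hxk
  rw [← heq] at this
  simpa using this

/-- version for subgroups of a cyclic subgroup -/
theorem le_of_card_dvd_of_le_cyclic {G : Type*} [Group G] [Finite G] (T H K : Subgroup G)
    (hT : IsCyclic T) (hH : H ≤ T) (hK : K ≤ T) (h : Nat.card H ∣ Nat.card K) : H ≤ K := by
  have := le_of_card_dvd_of_isCyclic (C := T) (H.subgroupOf T) (K.subgroupOf T) (by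
    rw [Nat.card_congr (Subgroup.subgroupOfEquivOfLe hH).toEquiv,
      Nat.card_congr (Subgroup.subgroupOfEquivOfLe hK).toEquiv]
    exact h)
  intro x hx
  have hxT : x ∈ T := hH hx
  have h1 : (⟨x, hxT⟩ : T) ∈ H.subgroupOf T := by
    rw [Subgroup.mem_subgroupOf]; exact hx
  have h2 := this h1
  rw [Subgroup.mem_subgroupOf] at h2
  exact h2

end Cyclic

section QuatSylow

variable {G : Type*} [Group G]

/-- the data we use about a generalized quaternion subgroup `P`: a cyclic subgroup `A` of index two,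
all of whose outside elements have order four and invert `A`. -/
structure QuatData (P A : Subgroup G) : Prop where
  le : A ≤ P
  cyc : IsCyclic A
  fin : Finite A
  idx : ∀ s ∈ P, ∀ t ∈ P, (s * t ∈ A ↔ (s ∈ A ↔ t ∈ A))
  out : ∀ y ∈ P, y ∉ A → orderOf y = 4 ∧ ∀ x ∈ A, y * x * y⁻¹ = x⁻¹

theorem exists_quatData {m : ℕ} [NeZero m] (P : Subgroup G)
    (e : P ≃* QuaternionGroup m) : ∃ A : Subgroup G, QuatData P A := by
  let ψ : QuaternionGroup m →* G := P.subtype.comp e.symm.toMonoidHom
  have hψ : Function.Injective ψ := by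
    intro x y hxy
    apply e.symm.injective
    exact Subtype.ext hxy
  have hrange : ψ.range = P := by
    ext x
    constructor
    · rintro ⟨q, rfl⟩
      exact (e.symm q).2
    · intro hx
      exact ⟨e ⟨x, hx⟩, by simp [ψ]⟩
  obtain ⟨A, hAr, hAcyc, hAcard, hAinv⟩ := exists_cyclic_of_quaternion ψ hψ
  rw [hrange] at hAr hAinv
  have hAfin : Finite A := Nat.finite_of_card_ne_zero (by
    rw [hAcard]; exact mul_ne_zero (by norm_num) (NeZero.ne m))
  refine ⟨A, hAr, hAcyc, hAfin, ?_, hAinv⟩
  -- index two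
  have hcardP : Nat.card P = 4 * m := by
    rw [Nat.card_congr e.toEquiv, Nat.card_eq_fintype_card, QuaternionGroup.card]
  have hfin : Finite P := Nat.finite_of_card_ne_zero (by
    rw [hcardP]; exact mul_ne_zero (by norm_num) (NeZero.ne m))
  have hidx : (A.subgroupOf P).index = 2 := by
    have h1 := (A.subgroupOf P).index_mul_card
    rw [hcardP, Nat.card_congr (Subgroup.subgroupOfEquivOfLe hAr).toEquiv, hAcard] at h1
    have hm : 0 < m := Nat.pos_of_ne_zero (NeZero.ne m)
    nlinarith
  intro s hs t ht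
  have := Subgroup.mul_mem_iff_of_index_two hidx (a := ⟨s, hs⟩) (b := ⟨t, ht⟩)
  simpa [Subgroup.mem_subgroupOf] using this

/-- abelian subgroups of a generalized quaternion group are cyclic -/
theorem isCyclic_of_comm {P A : Subgroup G} (h : QuatData P A) (T : Subgroup G) (hT : T ≤ P)
    (hcomm : ∀ a ∈ T, ∀ b ∈ T, a * b = b * a) : IsCyclic T := by
  classical
  have := h.cyc
  by_cases hTA : T ≤ A
  · exact Subgroup.isCyclic_of_le hTA
  · obtain ⟨y, hyT, hyA⟩ := SetLike.not_le_iff_exists.mp hTA
    have hyP : y ∈ P := hT hyT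
    obtain ⟨hy4, hyinv⟩ := h.out y hyP hyA
    have hy2A : y * y ∈ A := (h.idx y hyP y hyP).mpr Iff.rfl
    have hy22 : (y * y) * (y * y) = 1 := by
      have : y ^ 4 = 1 := by rw [← hy4]; exact pow_orderOf_eq_one y
      calc (y * y) * (y * y) = y ^ 4 := by
            rw [show (4 : ℕ) = 2 + 2 from rfl, pow_add, pow_two]
        _ = 1 := this
    have hy2ne : y * y ≠ 1 := by
      intro h1
      have : orderOf y ∣ 2 := orderOf_dvd_of_pow_eq_one (by rw [pow_two]; exact h1)
      rw [hy4] at this
      norm_num at this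
    -- elements of A of exponent two
    have hexp2 : ∀ t ∈ A, t * t = 1 → t = 1 ∨ t = y * y := by
      intro t htA ht2
      by_contra hcon
      push Not at hcon
      -- three distinct solutions of x^2 = 1 in the cyclic group A
      have : Finite A := h.fin
      have : Fintype A := Fintype.ofFinite A
      have hle := IsCyclic.card_pow_eq_one_le (α := A) (n := 2) (by norm_num)
      have hsub : ({1, ⟨y * y, hy2A⟩, ⟨t, htA⟩} : Finset A) ⊆
          Finset.univ.filter (fun a : A => a ^ 2 = 1) := by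
        intro a ha
        simp only [Finset.mem_insert, Finset.mem_singleton] at ha
        simp only [Finset.mem_filter, Finset.mem_univ, true_and]
        rcases ha with rfl | rfl | rfl
        · simp
        · apply Subtype.ext; rw [pow_two]; exact hy22
        · apply Subtype.ext; rw [pow_two]; exact ht2
      have hcard3 : ({1, ⟨y * y, hy2A⟩, ⟨t, htA⟩} : Finset A).card = 3 := by
        rw [Finset.card_insert_of_notMem, Finset.card_insert_of_notMem, Finset.card_singleton]
        · simp only [Finset.mem_singleton]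
          intro heq
          exact hcon.2 (congrArg Subtype.val heq).symm
        · simp only [Finset.mem_insert, Finset.mem_singleton]
          rintro (heq | heq)
          · exact hy2ne (congrArg Subtype.val heq).symm
          · exact hcon.1 (congrArg Subtype.val heq).symm
      have := Finset.card_le_card hsub
      omega
    have hTle : T ≤ Subgroup.zpowers y := by
      have key : ∀ t ∈ T, t ∈ A → t ∈ Subgroup.zpowers y := by
        intro t htT htA
        have h1 : y * t * y⁻¹ = t⁻¹ := hyinv t htA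
        have h2 : y * t = t * y := hcomm y hyT t htT
        have h3 : t * t = 1 := by
          have : t = t⁻¹ := by
            calc t = t * y * y⁻¹ := by group
              _ = y * t * y⁻¹ := by rw [h2]
              _ = t⁻¹ := h1
          calc t * t = t * t⁻¹ := by rw [← this]
            _ = 1 := mul_inv_cancel t
        rcases hexp2 t htA h3 with rfl | rfl
        · exact Subgroup.one_mem _
        · exact Subgroup.mul_mem _ (Subgroup.mem_zpowers y) (Subgroup.mem_zpowers y)
      intro t htT
      by_cases htA : t ∈ A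
      · exact key t htT htA
      · have hyinvP : y⁻¹ ∈ P := P.inv_mem hyP
        have hyinvA : y⁻¹ ∉ A := fun h' => hyA (by simpa using A.inv_mem h')
        have h1 : y⁻¹ * t ∈ A := (h.idx y⁻¹ hyinvP t (hT htT)).mpr
          ⟨fun h' => absurd h' hyinvA, fun h' => absurd h' htA⟩
        have h2 := key (y⁻¹ * t) (T.mul_mem (T.inv_mem hyT) htT) h1
        have : t = y * (y⁻¹ * t) := by group
        rw [this]
        exact Subgroup.mul_mem _ (Subgroup.mem_zpowers y) h2
    exact Subgroup.isCyclic_of_le hTle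

/-- the derived subgroup lies in the cyclic subgroup -/
theorem commutator_le_of_quatData {P A : Subgroup G} (h : QuatData P A) : ⁅P, P⁆ ≤ A := by
  rw [Subgroup.commutator_le]
  intro s hs t ht
  rw [commutatorElement_def]
  by_cases hsA : s ∈ A
  · by_cases htA : t ∈ A
    · exact A.mul_mem (A.mul_mem (A.mul_mem hsA htA) (A.inv_mem hsA)) (A.inv_mem htA)
    · -- t s⁻¹ t⁻¹ = s
      have h1 := (h.out t ht htA).2 s⁻¹ (A.inv_mem hsA)
      rw [inv_inv] at h1
      have : s * t * s⁻¹ * t⁻¹ = s * (t * s⁻¹ * t⁻¹) := by group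
      rw [this, h1]
      exact A.mul_mem hsA hsA
  · by_cases htA : t ∈ A
    · have h1 := (h.out s hs hsA).2 t htA
      rw [h1]
      exact A.mul_mem (A.inv_mem htA) (A.inv_mem htA)
    · -- u = t⁻¹ s ∈ A
      have htinvA : t⁻¹ ∉ A := fun h' => htA (by simpa using A.inv_mem h')
      have hu : t⁻¹ * s ∈ A := (h.idx t⁻¹ (P.inv_mem ht) s hs).mpr
        ⟨fun h' => absurd h' htinvA, fun h' => absurd h' hsA⟩
      set u := t⁻¹ * s with hu_def
      have hs_eq : s = t * u := by rw [hu_def]; group
      have h1 := (h.out t ht htA).2 u⁻¹ (A.inv_mem hu)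
      rw [inv_inv] at h1
      -- s t s⁻¹ t⁻¹ = t u t u⁻¹ t⁻¹ t⁻¹ = t (u * (t u⁻¹ t⁻¹)) t⁻¹ = t u² t⁻¹ = u⁻²
      have h2 : s * t * s⁻¹ * t⁻¹ = t * (u * (t * u⁻¹ * t⁻¹)) * t⁻¹ := by
        rw [hs_eq]; group
      rw [h2, h1]
      have h3 := (h.out t ht htA).2 (u * u) (A.mul_mem hu hu)
      rw [h3]
      exact A.inv_mem (A.mul_mem hu hu)

end QuatSylow


section Main

variable {G : Type*} [Group G] [Finite G]

/-- a commutative 2-subgroup of a group with generalized quaternion Sylow 2-subgroups is cyclic -/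
theorem isCyclic_of_comm_two_group (S : Sylow 2 G) {m : ℕ} [NeZero m]
    (e : (S : Subgroup G) ≃* QuaternionGroup m) (T : Subgroup G) (hT2 : IsPGroup 2 T)
    (hcomm : ∀ a ∈ T, ∀ b ∈ T, a * b = b * a) : IsCyclic T := by
  obtain ⟨P, hTP⟩ := hT2.exists_le_sylow
  obtain ⟨g, rfl⟩ := MulAction.exists_smul_eq G S P
  let e' : ((g • S : Sylow 2 G) : Subgroup G) ≃* QuaternionGroup m :=
    (Sylow.equivSMul S g).symm.trans e
  obtain ⟨A, hA⟩ := exists_quatData _ e'
  exact isCyclic_of_comm hA T hTP hcomm

theorem comm_of_isCyclic_subgroup (A : Subgroup G) (hA : IsCyclic A) :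
    ∀ a ∈ A, ∀ b ∈ A, a * b = b * a := by
  intro a ha b hb
  obtain ⟨g, hg⟩ := IsCyclic.exists_generator (α := A)
  obtain ⟨i, hi⟩ := hg ⟨a, ha⟩
  obtain ⟨j, hj⟩ := hg ⟨b, hb⟩
  have h1 : a = (g : G) ^ i := by
    have := congrArg Subtype.val hi
    simpa using this.symm
  have h2 : b = (g : G) ^ j := by
    have := congrArg Subtype.val hj
    simpa using this.symm
  rw [h1, h2, ← zpow_add, ← zpow_add, add_comm]

/-- the join of two commuting commutative subgroups is commutative -/
theorem comm_sup (H K : Subgroup G) (hH : ∀ a ∈ H, ∀ b ∈ H, a * b = b * a)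
    (hK : ∀ a ∈ K, ∀ b ∈ K, a * b = b * a) (hHK : ∀ a ∈ H, ∀ b ∈ K, a * b = b * a) :
    ∀ a ∈ H ⊔ K, ∀ b ∈ H ⊔ K, a * b = b * a := by
  have hH' : H ⊔ K ≤ Subgroup.centralizer (H : Set G) := by
    apply sup_le
    · intro a ha
      rw [Subgroup.mem_centralizer_iff]
      intro h hh
      exact hH h hh a ha
    · intro a ha
      rw [Subgroup.mem_centralizer_iff]
      intro h hh
      exact hHK h hh a ha
  have hK' : H ⊔ K ≤ Subgroup.centralizer (K : Set G) := by
    apply sup_le
    · intro a ha
      rw [Subgroup.mem_centralizer_iff]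
      intro h hh
      exact (hHK a ha h hh).symm
    · intro a ha
      rw [Subgroup.mem_centralizer_iff]
      intro h hh
      exact hK h hh a ha
  intro a ha b hb
  have h1 : H ⊔ K ≤ Subgroup.centralizer ({a} : Set G) := by
    apply sup_le
    · intro h hh
      rw [Subgroup.mem_centralizer_iff]
      intro x hx
      rw [Set.mem_singleton_iff] at hx
      subst hx
      exact ((Subgroup.mem_centralizer_iff.mp (hH' ha)) h hh).symm
    · intro h hh
      rw [Subgroup.mem_centralizer_iff]
      intro x hx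
      rw [Set.mem_singleton_iff] at hx
      subst hx
      exact ((Subgroup.mem_centralizer_iff.mp (hK' ha)) h hh).symm
  exact (Subgroup.mem_centralizer_iff.mp (h1 hb)) a rfl

end Main



/-- Suppose a Sylow 2-subgroup S of the finite group G is generalized quaternion of order at least 16; let D be the commutator subgroup of S and X the set of elements of the centralizer of D whose order is divisible by the order of D. Then D is contained in the cyclic subgroup generated by any element of X; an element of G conjugating some element of X into the centralizer of D normalizes D; and the normalizer of D maps X to itself under conjugation. -/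
theorem result {G : Type*} [Group G] [Finite G] (S : Sylow 2 G) (n : ℕ) (e : (S : Subgroup G) ≃* QuaternionGroup (2 ^ (n + 2))) (D : Subgroup G) (hD : D = ⁅(S : Subgroup G), (S : Subgroup G)⁆) : (∀ y : G, y ∈ Subgroup.centralizer (D : Set G) → Nat.card D ∣ orderOf y → D ≤ Subgroup.zpowers y) ∧ (∀ g y : G, y ∈ Subgroup.centralizer (D : Set G) → Nat.card D ∣ orderOf y → g * y * g⁻¹ ∈ Subgroup.centralizer (D : Set G) → g ∈ Subgroup.normalizer (D : Set G)) ∧ (∀ g y : G, g ∈ Subgroup.normalizer (D : Set G) → y ∈ Subgroup.centralizer (D : Set G) → Nat.card D ∣ orderOf y → g * y * g⁻¹ ∈ Subgroup.centralizer (D : Set G) ∧ Nat.card D ∣ orderOf (g * y * g⁻¹)) := by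
  have hm : NeZero (2 ^ (n + 2)) := ⟨by positivity⟩
  obtain ⟨A, hA⟩ := exists_quatData (S : Subgroup G) e
  have hDA : D ≤ A := hD ▸ commutator_le_of_quatData hA
  have hDS : D ≤ S := hDA.trans hA.le
  have hAcomm := comm_of_isCyclic_subgroup A hA.cyc
  have hDcomm : ∀ a ∈ D, ∀ b ∈ D, a * b = b * a := fun a ha b hb =>
    hAcomm a (hDA ha) b (hDA hb)
  have hD2 : IsPGroup 2 D := S.isPGroup'.to_le hDS
  obtain ⟨j, hj⟩ := IsPGroup.iff_card.mp hD2
  have hconj : ∀ g y : G, orderOf (g * y * g⁻¹) = orderOf y := fun g y =>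
    (MulAut.conj g).orderOf_eq y
  -- part 1
  have part1 : ∀ y : G, y ∈ Subgroup.centralizer (D : Set G) → Nat.card D ∣ orderOf y →
      D ≤ Subgroup.zpowers y := by
    intro y hy hdvd
    have hy0 : orderOf y ≠ 0 := (orderOf_pos y).ne'
    obtain ⟨a, b, hb, hab⟩ := Nat.exists_eq_two_pow_mul_odd hy0
    have hb0 : b ≠ 0 := by
      rintro rfl
      simp at hb
    have ho : orderOf (y ^ b) = 2 ^ a := by
      rw [orderOf_pow_of_dvd hb0 ⟨2 ^ a, by rw [hab]; ring⟩, hab]
      exact Nat.mul_div_cancel _ (Nat.pos_of_ne_zero hb0)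
    have hyb : y ^ b ∈ Subgroup.centralizer (D : Set G) := pow_mem hy b
    have hz2 : IsPGroup 2 (Subgroup.zpowers (y ^ b)) :=
      IsPGroup.of_card (n := a) (by rw [Nat.card_zpowers, ho])
    have hzle : Subgroup.zpowers (y ^ b) ≤ Subgroup.centralizer (D : Set G) := by
      rw [Subgroup.zpowers_le]; exact hyb
    have hT2 : IsPGroup 2 ↥(Subgroup.zpowers (y ^ b) ⊔ D) :=
      IsPGroup.to_sup_of_normal_right' hz2 hD2
        (hzle.trans (Subgroup.centralizer_le_normalizer _))
    have hzcomm : ∀ s ∈ Subgroup.zpowers (y ^ b), ∀ t ∈ Subgroup.zpowers (y ^ b),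
        s * t = t * s := by
      rintro _ ⟨i, rfl⟩ _ ⟨k, rfl⟩
      simp only
      rw [← zpow_add, ← zpow_add, add_comm]
    have hTcomm := comm_sup (Subgroup.zpowers (y ^ b)) D hzcomm hDcomm (by
      intro s hs t ht
      exact ((Subgroup.mem_centralizer_iff.mp (hzle hs)) t ht).symm)
    have hTcyc := isCyclic_of_comm_two_group S e _ hT2 hTcomm
    have hcard : Nat.card D ∣ Nat.card (Subgroup.zpowers (y ^ b)) := by
      rw [Nat.card_zpowers, ho]
      have hcop : Nat.Coprime (Nat.card D) b := by
        rw [hj]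
        exact Nat.Coprime.pow_left _ (Nat.coprime_two_left.mpr hb)
      exact hcop.dvd_of_dvd_mul_right (hab ▸ hdvd)
    have h1 := le_of_card_dvd_of_le_cyclic _ D (Subgroup.zpowers (y ^ b)) hTcyc
      le_sup_right le_sup_left hcard
    exact h1.trans (by
      rw [Subgroup.zpowers_le]
      exact pow_mem (Subgroup.mem_zpowers y) b)
  -- part 2
  have part2 : ∀ g y : G, y ∈ Subgroup.centralizer (D : Set G) → Nat.card D ∣ orderOf y →
      g * y * g⁻¹ ∈ Subgroup.centralizer (D : Set G) → g ∈ Subgroup.normalizer (D : Set G) := by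
    intro g y hy hdvd hgy
    have h1 : D ≤ Subgroup.zpowers (g * y * g⁻¹) := part1 _ hgy (by rw [hconj]; exact hdvd)
    have h2 : D ≤ Subgroup.zpowers y := part1 y hy hdvd
    have h3 : D.map (MulAut.conj g).toMonoidHom ≤ Subgroup.zpowers (g * y * g⁻¹) := by
      rintro _ ⟨d, hd, rfl⟩
      obtain ⟨k, rfl⟩ := h2 hd
      refine ⟨k, ?_⟩
      simp [MulAut.conj_apply]
    have hcard : Nat.card (D.map (MulAut.conj g).toMonoidHom) = Nat.card D :=
      Subgroup.card_map_of_injective (MulAut.conj g).injective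
    have hcyc : IsCyclic (Subgroup.zpowers (g * y * g⁻¹)) := inferInstance
    have heq : D.map (MulAut.conj g).toMonoidHom = D :=
      le_antisymm
        (le_of_card_dvd_of_le_cyclic _ _ _ hcyc h3 h1 (by rw [hcard]))
        (le_of_card_dvd_of_le_cyclic _ _ _ hcyc h1 h3 (by rw [hcard]))
    exact Subgroup.mem_normalizer_iff_map_conj_eq.mpr heq
  refine ⟨part1, part2, ?_⟩
  intro g y hg hy hdvd
  refine ⟨?_, by rw [hconj]; exact hdvd⟩
  rw [Subgroup.mem_centralizer_iff]
  intro d hd
  have hd' : g⁻¹ * d * g ∈ D := by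
    apply (Subgroup.mem_normalizer_iff.mp hg (g⁻¹ * d * g)).mpr
    have : g * (g⁻¹ * d * g) * g⁻¹ = d := by group
    rw [this]
    exact hd
  have hc := (Subgroup.mem_centralizer_iff.mp hy) _ hd'
  calc d * (g * y * g⁻¹) = g * ((g⁻¹ * d * g) * y) * g⁻¹ := by group
    _ = g * (y * (g⁻¹ * d * g)) * g⁻¹ := by rw [hc]
    _ = g * y * g⁻¹ * d := by group

end Cfsg.Agent.S0843
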