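import Mathlib
import Cfsg.Statements.S0842
import Cfsg.Agent.S0843
import Cfsg.Agent.Lib.Helper85.SylowAux
-- import your own Cfsg.Agent.* helpers here

set_option autoImplicit false
open Cfsg

namespace Cfsg.Agent.S0842

open Cfsg.Agent.S0843 Cfsg.Agent.Lib.Helper85

section Pieces

variable {G : Type*} [Group G]

/-- quaternion data with cardinalities -/
theorem exists_quatData_card {m : ℕ} [NeZero m] (P : Subgroup G)
    (e : P ≃* QuaternionGroup m) :
    ∃ A : Subgroup G, QuatData P A ∧ Nat.card A = 2 * m ∧ Nat.card P = 4 * m := by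
  let ψ : QuaternionGroup m →* G := P.subtype.comp e.symm.toMonoidHom
  have hψ : Function.Injective ψ := by
    intro x y hxy
    apply e.symm.injective
    exact Subtype.ext hxy
  have hrange : ψ.range = P := by
    ext x
    constructor
    · rintro ⟨q, rfl⟩
      exact (e.symm q).2
    · intro hx
      exact ⟨e ⟨x, hx⟩, by simp [ψ]⟩
  obtain ⟨A, hAr, hAcyc, hAcard, hAinv⟩ := exists_cyclic_of_quaternion ψ hψ
  rw [hrange] at hAr hAinv
  have hAfin : Finite A := Nat.finite_of_card_ne_zero (by
    rw [hAcard]; exact mul_ne_zero (by norm_num) (NeZero.ne m))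
  have hcardP : Nat.card P = 4 * m := by
    rw [Nat.card_congr e.toEquiv, Nat.card_eq_fintype_card, QuaternionGroup.card]
  refine ⟨A, ⟨hAr, hAcyc, hAfin, ?_, hAinv⟩, hAcard, hcardP⟩
  have hfin : Finite P := Nat.finite_of_card_ne_zero (by
    rw [hcardP]; exact mul_ne_zero (by norm_num) (NeZero.ne m))
  have hidx : (A.subgroupOf P).index = 2 := by
    have h1 := (A.subgroupOf P).index_mul_card
    rw [hcardP, Nat.card_congr (Subgroup.subgroupOfEquivOfLe hAr).toEquiv, hAcard] at h1
    have hm : 0 < m := Nat.pos_of_ne_zero (NeZero.ne m)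
    nlinarith
  intro s hs t ht
  have := Subgroup.mul_mem_iff_of_index_two hidx (a := ⟨s, hs⟩) (b := ⟨t, ht⟩)
  simpa [Subgroup.mem_subgroupOf] using this

/-- a subgroup normalizes its own commutator subgroup -/
theorem le_normalizer_commutator (P : Subgroup G) :
    P ≤ Subgroup.normalizer ((⁅P, P⁆ : Subgroup G) : Set G) := by
  intro s hs
  rw [Subgroup.mem_normalizer_iff_map_conj_eq, Subgroup.map_commutator]
  have : Subgroup.map (↑(MulAut.conj s)) P = P :=
    Subgroup.mem_normalizer_iff_map_conj_eq.mp (Subgroup.le_normalizer hs)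
  rw [this]

/-- the normalizer of `D` acts on the centralizer of `D` -/
theorem conj_mem_centralizer {D : Subgroup G} {g y : G}
    (hg : g ∈ Subgroup.normalizer (D : Set G)) (hy : y ∈ Subgroup.centralizer (D : Set G)) :
    g * y * g⁻¹ ∈ Subgroup.centralizer (D : Set G) := by
  rw [Subgroup.mem_centralizer_iff]
  intro d hd
  have hd' : g⁻¹ * d * g ∈ D := by
    apply (Subgroup.mem_normalizer_iff.mp hg (g⁻¹ * d * g)).mpr
    have : g * (g⁻¹ * d * g) * g⁻¹ = d := by group
    rw [this]
    exact hd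
  have hc := (Subgroup.mem_centralizer_iff.mp hy) _ hd'
  calc d * (g * y * g⁻¹) = g * ((g⁻¹ * d * g) * y) * g⁻¹ := by group
    _ = g * (y * (g⁻¹ * d * g)) * g⁻¹ := by rw [hc]
    _ = g * y * g⁻¹ * d := by group

/-- Sylow conjugation inside a subgroup containing the Sylow subgroup -/
theorem exists_conj_le_of_le [Finite G] {p : ℕ} [Fact p.Prime] (S : Sylow p G) (H : Subgroup G)
    (hSH : (S : Subgroup G) ≤ H) (T : Subgroup G) (hTH : T ≤ H) (hT : IsPGroup p T) :
    ∃ h ∈ H, ∀ t ∈ T, h * t * h⁻¹ ∈ (S : Subgroup G) := by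
  have hT' : IsPGroup p (T.subgroupOf H) := hT.comap_subtype
  obtain ⟨h, hle⟩ := exists_conj_le_sylow (S.subtype hSH) hT'
  refine ⟨h, h.2, ?_⟩
  intro t ht
  have h1 : (⟨t, hTH ht⟩ : H) ∈ T.subgroupOf H := by
    rw [Subgroup.mem_subgroupOf]; exact ht
  have h2 := hle (conj_mem_map_conj h h1)
  rw [Sylow.coe_subtype, Subgroup.mem_subgroupOf] at h2
  simpa using h2

/-- the centralizer of the derived group inside a generalized quaternion group -/
theorem inf_centralizer_eq [Finite G] {P A : Subgroup G} (h : QuatData P A) {m : ℕ} (hm : 2 < m)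
    (hcardA : Nat.card A = 2 * m) :
    P ⊓ Subgroup.centralizer ((⁅P, P⁆ : Subgroup G) : Set G) = A := by
  have hDA : ⁅P, P⁆ ≤ A := commutator_le_of_quatData h
  have hfin := h.fin
  have hcyc := h.cyc
  apply le_antisymm
  · rintro z ⟨hzP, hzC⟩
    by_contra hzA
    obtain ⟨g, hg⟩ := IsCyclic.exists_generator (α := A)
    have hog : orderOf g = 2 * m := by
      rw [orderOf_eq_card_of_forall_mem_zpowers hg, hcardA]
    have hoa : orderOf (g : G) = 2 * m := by rw [Subgroup.orderOf_coe, hog]
    obtain ⟨-, hinv⟩ := h.out z hzP hzA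
    have h1 : z * (g : G) * z⁻¹ = (g : G)⁻¹ := hinv _ g.2
    have hd : (g : G)⁻¹ * (g : G)⁻¹ ∈ ⁅P, P⁆ := by
      have := Subgroup.commutator_mem_commutator hzP (h.le g.2)
      rw [commutatorElement_def, h1] at this
      exact this
    have h2 := hinv _ (hDA hd)
    have h3 := (Subgroup.mem_centralizer_iff.mp hzC) _ hd
    -- d = d⁻¹
    have h4 : (g : G)⁻¹ * (g : G)⁻¹ = ((g : G)⁻¹ * (g : G)⁻¹)⁻¹ := by
      calc (g : G)⁻¹ * (g : G)⁻¹ = (g : G)⁻¹ * (g : G)⁻¹ * z * z⁻¹ := by group
        _ = z * ((g : G)⁻¹ * (g : G)⁻¹) * z⁻¹ := by rw [h3]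
        _ = _ := h2
    have h5 : (g : G) ^ 4 = 1 := by
      set d := (g : G)⁻¹ * (g : G)⁻¹ with hd_def
      have hdd : d * d = 1 := (congrArg (fun t => d * t) h4).trans (mul_inv_cancel d)
      have : (g : G) ^ 4 = (d * d)⁻¹ := by rw [hd_def]; group
      rw [this, hdd, inv_one]
    have h6 : 2 * m ∣ 4 := hoa ▸ orderOf_dvd_of_pow_eq_one h5
    have := Nat.le_of_dvd (by norm_num) h6
    omega
  · intro x hx
    refine Subgroup.mem_inf.mpr ⟨h.le hx, ?_⟩
    rw [Subgroup.mem_centralizer_iff]
    intro d hd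
    exact comm_of_isCyclic_subgroup A hcyc d (hDA hd) x hx

end Pieces


section Main

theorem mem_of_coprime_orderOf_index {H : Type*} [Group H] (K : Subgroup H) [K.Normal] (x : H)
    (hcop : Nat.Coprime (orderOf x) K.index) : x ∈ K := by
  have h1 : x ^ K.index ∈ K := K.pow_index_mem x
  have hb := Nat.gcd_eq_gcd_ab (orderOf x) K.index
  rw [hcop.gcd_eq_one] at hb
  have : x = (x ^ (orderOf x)) ^ (Nat.gcdA (orderOf x) K.index) *
      (x ^ K.index) ^ (Nat.gcdB (orderOf x) K.index) := by
    rw [← zpow_natCast, ← zpow_natCast, ← zpow_mul, ← zpow_mul, ← zpow_add, ← hb]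
    simp
  rw [this, pow_orderOf_eq_one, one_zpow, one_mul]
  exact K.zpow_mem h1 _

variable {G : Type*} [Group G] [Finite G]

/-- the Sylow 2-subgroup of the centralizer -/
theorem exists_sylow_centralizer (S : Sylow 2 G) (D A : Subgroup G)
    (hSN : (S : Subgroup G) ≤ Subgroup.normalizer (D : Set G))
    (hSC : (S : Subgroup G) ⊓ Subgroup.centralizer (D : Set G) = A) :
    ∃ R : Sylow 2 (Subgroup.centralizer (D : Set G)),
      (R : Subgroup (Subgroup.centralizer (D : Set G))) =
        A.subgroupOf (Subgroup.centralizer (D : Set G)) := by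
  have hAC : A ≤ Subgroup.centralizer (D : Set G) := hSC ▸ inf_le_right
  have hAS : A ≤ S := hSC ▸ inf_le_left
  apply (sylow_subgroupOf_iff hAC).mpr
  refine ⟨S.isPGroup'.to_le hAS, ?_⟩
  intro T hTC hT
  obtain ⟨h, hhN, hh⟩ := exists_conj_le_of_le S _ hSN T
    (hTC.trans (Subgroup.centralizer_le_normalizer _)) hT
  have hle : T.map (MulAut.conj h).toMonoidHom ≤ A := by
    rintro _ ⟨t, ht, rfl⟩
    rw [← hSC]
    exact Subgroup.mem_inf.mpr ⟨hh t ht, conj_mem_centralizer hhN (hTC ht)⟩
  calc Nat.card T = Nat.card (T.map (MulAut.conj h).toMonoidHom) := (card_map_conj T h).symm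
    _ ≤ Nat.card A := Subgroup.card_le_of_le hle


/-- normal 2-complement of a subgroup with cyclic Sylow 2-subgroup, phrased in the ambient group -/
theorem exists_normal_two_complement (C : Subgroup G) (R : Sylow 2 C) (hR : IsCyclic R)
    (h2 : 2 ∣ Nat.card C) :
    ∃ K : Subgroup G, K ≤ C ∧ Odd (Nat.card K) ∧ Nat.card K * Nat.card R = Nat.card C ∧
      K ⊔ (R : Subgroup C).map C.subtype = C ∧ ∀ x ∈ C, Odd (orderOf x) → x ∈ K := by
  have hmin : (Nat.card C).minFac = 2 := (Nat.minFac_eq_two_iff _).mpr h2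
  have hcomp := IsCyclic.isComplement' hmin hR
  have hnd := MonoidHom.not_dvd_card_ker_transferSylow R (hR.normalizer_le_centralizer hmin)
  set K₀ := (MonoidHom.transferSylow R (hR.normalizer_le_centralizer hmin)).ker with hK₀
  refine ⟨K₀.map C.subtype, Subgroup.map_subtype_le _, ?_, ?_, ?_, ?_⟩
  · rw [Subgroup.card_map_of_injective C.subtype_injective]
    exact Nat.odd_iff.mpr (by omega)
  · rw [Subgroup.card_map_of_injective C.subtype_injective]
    exact hcomp.card_mul_card
  · rw [← Subgroup.map_sup, hcomp.sup_eq_top, ← MonoidHom.range_eq_map, Subgroup.range_subtype]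
  · intro x hx hodd
    have hidx : K₀.index = Nat.card R := by
      have h1 := K₀.index_mul_card
      have h3 := hcomp.card_mul_card
      have hpos : 0 < Nat.card K₀ := Nat.card_pos
      have : K₀.index * Nat.card K₀ = Nat.card R * Nat.card K₀ := by
        rw [h1, ← h3, mul_comm]
      exact Nat.eq_of_mul_eq_mul_right hpos this
    have hmem : (⟨x, hx⟩ : C) ∈ K₀ := by
      apply mem_of_coprime_orderOf_index K₀
      rw [hidx, Subgroup.orderOf_mk]
      obtain ⟨k, hk⟩ := IsPGroup.iff_card.mp R.isPGroup'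
      rw [hk]
      exact Nat.Coprime.pow_right _ (Nat.coprime_two_right.mpr hodd)
    exact ⟨⟨x, hx⟩, hmem, rfl⟩

/-- the index of the centralizer of a cyclic `2`-group in its normalizer is a power of two -/
theorem relIndex_centralizer_normalizer_dvd (D : Subgroup G) (hcyc : IsCyclic D) {j : ℕ}
    (hj : Nat.card D = 2 ^ j) :
    (Subgroup.centralizer (D : Set G)).relIndex (Subgroup.normalizer (D : Set G)) ∣ 2 ^ j := by
  have key := Subgroup.card_dvd_of_injective _
    (QuotientGroup.kerLift_injective D.normalizerMonoidHom)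
  rw [Subgroup.normalizerMonoidHom_ker, ← Subgroup.index, ← Subgroup.relIndex] at key
  rw [IsCyclic.card_mulAut, hj] at key
  refine key.trans ?_
  rcases Nat.eq_zero_or_pos j with h0 | h0
  · subst h0; simp
  · rw [Nat.totient_prime_pow Nat.prime_two h0]
    simp only [Nat.add_one_sub_one, mul_one]
    exact pow_dvd_pow 2 (Nat.sub_le j 1)

end Main



/-- Suppose a Sylow 2-subgroup S of the finite group G is generalized quaternion of order at least 16, and let D be the commutator subgroup of S, C its centralizer and N its normalizer in G. Then there is a subgroup K of odd order, contained in C and normalized by N, with K ⊔ S = N and K ⊔ (S ⊓ C) = C, and C has index 2 in N. -/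
theorem result {G : Type*} [Group G] [Finite G] (S : Sylow 2 G) (n : ℕ) (e : (S : Subgroup G) ≃* QuaternionGroup (2 ^ (n + 2))) (D : Subgroup G) (hD : D = ⁅(S : Subgroup G), (S : Subgroup G)⁆) : ∃ K : Subgroup G, Odd (Nat.card K) ∧ K ≤ Subgroup.centralizer (D : Set G) ∧ Subgroup.normalizer (D : Set G) ≤ Subgroup.normalizer (K : Set G) ∧ K ⊔ (S : Subgroup G) = Subgroup.normalizer (D : Set G) ∧ K ⊔ ((S : Subgroup G) ⊓ Subgroup.centralizer (D : Set G)) = Subgroup.centralizer (D : Set G) ∧ ((Subgroup.centralizer (D : Set G)).subgroupOf (Subgroup.normalizer (D : Set G))).index = 2 := by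
  classical
  have hm : NeZero (2 ^ (n + 2)) := ⟨by positivity⟩
  obtain ⟨A, hA, hcardA, hcardS⟩ := exists_quatData_card (S : Subgroup G) e
  have hm2 : 2 < 2 ^ (n + 2) := by
    have : 2 ^ 2 ≤ 2 ^ (n + 2) := Nat.pow_le_pow_right (by norm_num) (by omega)
    omega
  have hSC : (S : Subgroup G) ⊓ Subgroup.centralizer (D : Set G) = A := by
    rw [hD]; exact inf_centralizer_eq hA hm2 hcardA
  have hSN : (S : Subgroup G) ≤ Subgroup.normalizer (D : Set G) := by
    rw [hD]; exact le_normalizer_commutator _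
  have hDA : D ≤ A := hD ▸ commutator_le_of_quatData hA
  have hAC : A ≤ Subgroup.centralizer (D : Set G) := hSC ▸ inf_le_right
  have hAS : A ≤ S := hA.le
  have hCN : Subgroup.centralizer (D : Set G) ≤ Subgroup.normalizer (D : Set G) :=
    Subgroup.centralizer_le_normalizer _
  obtain ⟨R, hR⟩ := exists_sylow_centralizer S D A hSN hSC
  have hAcyc := hA.cyc
  have hRcyc : IsCyclic R := by
    have h1 : IsCyclic ↥(A.subgroupOf (Subgroup.centralizer (D : Set G))) :=
      isCyclic_of_surjective (Subgroup.subgroupOfEquivOfLe hAC).symm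
        (Subgroup.subgroupOfEquivOfLe hAC).symm.surjective
    rw [← hR] at h1
    exact h1
  have hcardR : Nat.card R = 2 * 2 ^ (n + 2) := by
    have : Nat.card (R : Subgroup (Subgroup.centralizer (D : Set G))) =
        Nat.card (A.subgroupOf (Subgroup.centralizer (D : Set G))) := by
      rw [hR]
    rw [this, card_subgroupOf_of_le hAC, hcardA]
  have h2C : 2 ∣ Nat.card (Subgroup.centralizer (D : Set G)) :=
    dvd_trans ⟨2 ^ (n + 2), hcardA⟩ (Subgroup.card_dvd_of_le hAC)
  obtain ⟨K, hKC, hKodd, hKcard, hKsup, hKmem⟩ := exists_normal_two_complement _ R hRcyc h2C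
  have hRmap : (R : Subgroup _).map (Subgroup.centralizer (D : Set G)).subtype = A := by
    rw [hR]; exact Subgroup.map_subgroupOf_eq_of_le hAC
  rw [hRmap] at hKsup
  -- conjugation by the normalizer preserves K
  have hconjK : ∀ g ∈ Subgroup.normalizer (D : Set G), ∀ k ∈ K, g * k * g⁻¹ ∈ K := by
    intro g hg k hk
    apply hKmem _ (conj_mem_centralizer hg (hKC hk))
    have ho : orderOf (g * k * g⁻¹) = orderOf k := (MulAut.conj g).orderOf_eq k
    rw [ho]
    have : orderOf k ∣ Nat.card K := by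
      have := orderOf_dvd_natCard (⟨k, hk⟩ : K)
      rwa [Subgroup.orderOf_mk] at this
    exact hKodd.of_dvd_nat this
  have hNK : Subgroup.normalizer (D : Set G) ≤ Subgroup.normalizer (K : Set G) := by
    intro g hg
    rw [Subgroup.mem_normalizer_iff]
    intro k
    constructor
    · exact hconjK g hg k
    · intro hk
      have := hconjK g⁻¹ (Subgroup.inv_mem _ hg) _ hk
      have h3 : g⁻¹ * (g * k * g⁻¹) * g⁻¹⁻¹ = k := by group
      rwa [h3] at this
  -- D is a cyclic 2-group
  have hDcyc : IsCyclic D := Subgroup.isCyclic_of_le hDA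
  obtain ⟨j, hj⟩ := IsPGroup.iff_card.mp (S.isPGroup'.to_le (hDA.trans hAS))
  have hrel := relIndex_centralizer_normalizer_dvd D hDcyc hj
  -- K ⊔ S = N
  have hC_le : Subgroup.centralizer (D : Set G) ≤ K ⊔ (S : Subgroup G) := by
    rw [← hKsup]
    exact sup_le_sup_left hAS K
  have hSodd : ¬ 2 ∣ (S : Subgroup G).index := S.not_dvd_index
  have hKS : K ⊔ (S : Subgroup G) = Subgroup.normalizer (D : Set G) := by
    apply le_antisymm (sup_le (hKC.trans hCN) hSN)
    rw [← Subgroup.relIndex_eq_one]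
    have h1 : (K ⊔ (S : Subgroup G)).relIndex (Subgroup.normalizer (D : Set G)) ∣ 2 ^ j :=
      (Subgroup.relIndex_dvd_of_le_left _ hC_le).trans hrel
    have h2 : (K ⊔ (S : Subgroup G)).relIndex (Subgroup.normalizer (D : Set G)) ∣
        (S : Subgroup G).index :=
      (Subgroup.relIndex_dvd_of_le_left _ le_sup_right).trans
        (Subgroup.relIndex_dvd_index_of_le hSN)
    have hcop : Nat.Coprime (2 ^ j) (S : Subgroup G).index :=
      Nat.Coprime.pow_left _ ((Nat.Prime.coprime_iff_not_dvd Nat.prime_two).mpr hSodd)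
    exact Nat.eq_one_of_dvd_coprimes hcop h1 h2
  refine ⟨K, hKodd, hKC, hNK, hKS, by rw [hSC]; exact hKsup, ?_⟩
  -- the index
  show (Subgroup.centralizer (D : Set G)).relIndex (Subgroup.normalizer (D : Set G)) = 2
  obtain ⟨i, -, hi⟩ := (Nat.dvd_prime_pow Nat.prime_two).mp hrel
  have hcN1 : (Subgroup.centralizer (D : Set G)).relIndex (Subgroup.normalizer (D : Set G)) *
      Nat.card (Subgroup.centralizer (D : Set G)) = Nat.card (Subgroup.normalizer (D : Set G)) := by
    have := ((Subgroup.centralizer (D : Set G)).subgroupOf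
      (Subgroup.normalizer (D : Set G))).index_mul_card
    rwa [card_subgroupOf_of_le hCN] at this
  have hcN2 : (S : Subgroup G).relIndex (Subgroup.normalizer (D : Set G)) *
      Nat.card (S : Subgroup G) = Nat.card (Subgroup.normalizer (D : Set G)) := by
    have := ((S : Subgroup G).subgroupOf (Subgroup.normalizer (D : Set G))).index_mul_card
    rwa [card_subgroupOf_of_le hSN] at this
  have hrodd : Odd ((S : Subgroup G).relIndex (Subgroup.normalizer (D : Set G))) := by
    have h1 : (S : Subgroup G).relIndex (Subgroup.normalizer (D : Set G)) ∣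
        (S : Subgroup G).index := Subgroup.relIndex_dvd_index_of_le hSN
    have h2 : Odd (S : Subgroup G).index := Nat.odd_iff.mpr (by omega)
    exact h2.of_dvd_nat h1
  rw [hi] at hcN1 ⊢
  rw [← hKcard, hcardR] at hcN1
  rw [hcardS, ← hcN1] at hcN2
  -- r * (4 * m) = 2 ^ i * (cK * (2 * m))
  set r := (S : Subgroup G).relIndex (Subgroup.normalizer (D : Set G)) with hr
  set cK := Nat.card K with hcK
  have hmpos : 0 < 2 ^ (n + 2) := by positivity
  have hkey : r * 2 = 2 ^ i * cK := by
    have : (r * 2) * (2 * 2 ^ (n + 2)) = (2 ^ i * cK) * (2 * 2 ^ (n + 2)) := by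
      linarith [hcN2]
    exact Nat.eq_of_mul_eq_mul_right (by positivity) this
  obtain ⟨r', hr'⟩ := hrodd
  obtain ⟨c', hc'⟩ := hKodd
  rcases i with _ | _ | i
  · exfalso
    rw [pow_zero, one_mul] at hkey
    omega
  · rfl
  · exfalso
    have h9 : r * 2 = (2 ^ i * cK) * 2 * 2 := by rw [hkey]; ring
    generalize 2 ^ i * cK = t at h9
    omega

end Cfsg.Agent.S0842
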