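import Cfsg.Statements.S4424
import Cfsg.Agent.Lib.Helper74.PRegGen
import Cfsg.Agent.Lib.Helper78.WBOCor
import Cfsg.Agent.Lib.Helper3.IrrBasis

set_option autoImplicit false
open Cfsg

namespace Cfsg.Agent.S4424

open scoped ComplexConjugate

/-- Let χ be an irreducible character of the finite group G lying in the p-block B (relative to a maximal ideal M of the algebraic integers containing p), and let p^a be the p-part of the order of G. Then the class function that equals p^a · χ on the p-regular elements and vanishes on the p-singular elements is an integer combination of the irreducible characters in B: there are integers a_ψ, zero for ψ outside B, with that function equal to Σ a_ψ ψ. -/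
theorem result {G : Type*} [Group G] [Finite G] (p : ℕ) [Fact p.Prime] (M : Ideal Cfsg.AlgInt) (hM : Cfsg.IsPModular p M) (B : Set (Cfsg.IrrCharacter G)) (hB : Cfsg.IsPBlock M B) (χ : Cfsg.IrrCharacter G) (hχ : χ ∈ B) : ∃ a : Cfsg.IrrCharacter G → ℤ, (∀ ψ, ψ ∉ B → a ψ = 0) ∧ (fun x : G => if p ∣ orderOf x then (0 : ℂ) else ((p ^ (Nat.card G).factorization p : ℕ) : ℂ) * (χ : G → ℂ) x) = fun x => ∑ᶠ ψ : Cfsg.IrrCharacter G, (a ψ : ℂ) * (ψ : G → ℂ) x := by
  classical
  have hp : p.Prime := Fact.out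
  have : Fintype G := Fintype.ofFinite G
  have : Fintype (Cfsg.IrrCharacter G) := Fintype.ofFinite _
  have hMp : M.IsPrime := Cfsg.Agent.Lib.Helper16.isPModular_isPrime hM
  have F := Cfsg.Agent.Lib.Helper26.irrFacts G
  have hΘ := Cfsg.Agent.Lib.Helper74.isGeneralizedCharacter_pReg hp
    (Cfsg.Agent.Lib.Helper80.isCharacter_of_isIrr χ.2)
  set Θ : G → ℂ := fun x : G => if p ∣ orderOf x then (0 : ℂ) else
    ((p ^ (Nat.card G).factorization p : ℕ) : ℂ) * (χ : G → ℂ) x with hΘdef
  have hint : ∀ ψ : Cfsg.IrrCharacter G, ∃ N : ℤ, Cfsg.classInner Θ (ψ : G → ℂ) = N := fun ψ =>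
    F.inner_int hΘ (Cfsg.Agent.Lib.Helper26.isGeneralizedCharacter_of_isCharacter
      (Cfsg.Agent.Lib.Helper80.isCharacter_of_isIrr ψ.2))
  choose a ha using hint
  have hcl : Cfsg.IsClassFunction G Θ := by
    obtain ⟨χ1, χ2, h1, h2, heq⟩ := hΘ
    rw [heq]
    intro g h
    rw [Pi.sub_apply, Pi.sub_apply,
      Cfsg.Agent.Lib.Helper80.isClassFunction_of_isCharacter h1 g h,
      Cfsg.Agent.Lib.Helper80.isClassFunction_of_isCharacter h2 g h]
  refine ⟨a, ?_, ?_⟩
  · intro ψ hψ
    have hns : ¬ Cfsg.SameBlock M (χ : G → ℂ) (ψ : G → ℂ) := by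
      intro hs
      apply hψ
      rw [Cfsg.Agent.Lib.Helper16.IsPBlock_eq_blockOf hB hχ]
      exact Cfsg.Agent.Lib.Helper16.mem_blockOf_iff.mpr hs
    have h0 := Cfsg.Agent.Lib.Helper78.sum_pRegular_mul_conj_eq_zero hM χ ψ hns
    have h1 : Cfsg.classInner Θ (ψ : G → ℂ) = 0 := by
      unfold Cfsg.classInner
      have h2 : ∑ g : G, Θ g * conj ((ψ : G → ℂ) g) =
          ((p ^ (Nat.card G).factorization p : ℕ) : ℂ) *
          ∑ x ∈ Finset.univ.filter (fun x : G => ¬ p ∣ orderOf x),
            (χ : G → ℂ) x * conj ((ψ : G → ℂ) x) := by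
        rw [Finset.mul_sum, Finset.sum_filter]
        apply Finset.sum_congr rfl
        intro g _
        rw [hΘdef]
        dsimp only
        by_cases hg : p ∣ orderOf g
        · rw [if_pos hg, if_neg (not_not.mpr hg), zero_mul]
        · rw [if_neg hg, if_pos hg, mul_assoc]
      rw [h2, h0, mul_zero, mul_zero]
    have h3 := ha ψ
    rw [h1] at h3
    exact_mod_cast h3.symm
  · have hexp := Cfsg.Agent.Lib.Helper3.classFunction_expansion Θ hcl
    funext x
    rw [finsum_eq_sum_of_fintype]
    have := congrFun hexp x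
    rw [this, Finset.sum_apply]
    apply Finset.sum_congr rfl
    intro ψ _
    rw [Pi.smul_apply, smul_eq_mul, ha ψ]

end Cfsg.Agent.S4424
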