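import Cfsg.Statements.S4425
import Cfsg.Agent.Lib.Helper74.PRegGen

set_option autoImplicit false
open Cfsg

namespace Cfsg.Agent.S4425

open scoped ComplexConjugate

/-- Let χ be an irreducible character of the finite group G, p a prime, p^a the p-part of the order of G and p^b the p-part of the degree χ(1). Let χ̃ be the class function equal to p^a · χ on p-regular elements and zero on p-singular elements. Then p^(−b) · χ̃ is a generalized character of G, while p^(−(b+1)) · χ̃ is not. -/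
theorem result {G : Type*} [Group G] [Finite G] (p : ℕ) [Fact p.Prime] (χ : Cfsg.IrrCharacter G) : Cfsg.IsGeneralizedCharacter G (fun x : G => if p ∣ orderOf x then (0 : ℂ) else ((p ^ ((Nat.card G).factorization p - (Cfsg.charDegree (χ : G → ℂ)).factorization p) : ℕ) : ℂ) * (χ : G → ℂ) x) ∧ ¬ Cfsg.IsGeneralizedCharacter G (fun x : G => if p ∣ orderOf x then (0 : ℂ) else ((p ^ (Nat.card G).factorization p : ℕ) : ℂ) / ((p ^ ((Cfsg.charDegree (χ : G → ℂ)).factorization p + 1) : ℕ) : ℂ) * (χ : G → ℂ) x) := by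
  classical
  have hp : p.Prime := Fact.out
  have : Fintype G := Fintype.ofFinite G
  have F := Cfsg.Agent.Lib.Helper26.irrFacts G
  set a := (Nat.card G).factorization p with ha
  set n := Cfsg.charDegree (χ : G → ℂ) with hn
  set b := n.factorization p with hb
  have hn0 : n ≠ 0 := (Cfsg.Agent.Lib.Helper79.irr_charDegree_pos χ).ne'
  have hndvd : n ∣ Nat.card G := Cfsg.Agent.Lib.Helper79.irr_charDegree_dvd_card χ
  have hba : b ≤ a := (Nat.factorization_le_iff_dvd hn0 Nat.card_pos.ne').mpr hndvd p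
  have hχ1 : (χ : G → ℂ) 1 = (n : ℂ) := Cfsg.Agent.Lib.Helper79.irr_apply_one_eq_charDegree χ
  have hpb0 : ((p ^ b : ℕ) : ℂ) ≠ 0 := by
    have : p ^ b ≠ 0 := pow_ne_zero _ hp.ne_zero
    exact_mod_cast this
  constructor
  · have hΘ := Cfsg.Agent.Lib.Helper74.isGeneralizedCharacter_pReg hp
      (Cfsg.Agent.Lib.Helper80.isCharacter_of_isIrr χ.2)
    obtain ⟨s, c, hs, hc0, hΘeq⟩ := F.exists_zcomb hΘ
    have hdvd : ∀ ψ ∈ s, ((p ^ b : ℕ) : ℤ) ∣ c ψ := by
      intro ψ hψ
      apply Cfsg.Agent.Lib.Helper74.pow_factorization_dvd_classInner_pReg hp χ ⟨ψ, hs ψ hψ⟩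
      rw [hΘeq]
      exact F.inner_zcomb hs hc0 (hs ψ hψ)
    have hgen := F.gen_of_zcomb (c := fun ψ => c ψ / ((p ^ b : ℕ) : ℤ)) hs
    convert hgen using 1
    funext x
    have h1 := congrFun hΘeq x
    rw [Finset.sum_apply] at h1 ⊢
    have h2 : ∑ ψ ∈ s, (c ψ • ψ) x =
        ((p ^ b : ℕ) : ℂ) * ∑ ψ ∈ s, ((c ψ / ((p ^ b : ℕ) : ℤ)) • ψ) x := by
      rw [Finset.mul_sum]
      apply Finset.sum_congr rfl
      intro ψ hψ
      obtain ⟨k, hk⟩ := hdvd ψ hψ
      have hpbz : ((p ^ b : ℕ) : ℤ) ≠ 0 := by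
        have : p ^ b ≠ 0 := pow_ne_zero _ hp.ne_zero
        exact_mod_cast this
      rw [Pi.smul_apply, Pi.smul_apply, hk, Int.mul_ediv_cancel_left _ hpbz, zsmul_eq_mul,
        zsmul_eq_mul]
      push_cast
      ring
    rw [h2] at h1
    apply mul_left_cancel₀ hpb0
    rw [← h1]
    split_ifs
    · rw [mul_zero]
    · rw [← mul_assoc, ← Nat.cast_mul, ← pow_add, Nat.add_sub_cancel' hba]
  · intro hgen
    obtain ⟨P⟩ : Nonempty (Sylow p G) := inferInstance
    have : Fintype (P : Subgroup G) := Fintype.ofFinite _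
    have FP := Cfsg.Agent.Lib.Helper26.irrFacts (P : Subgroup G)
    obtain ⟨χ1, χ2, h1, h2, heq⟩ := hgen
    have hgenP : Cfsg.IsGeneralizedCharacter (P : Subgroup G)
        (fun u : (P : Subgroup G) => χ1 u - χ2 u) :=
      ⟨_, _, Cfsg.Agent.Lib.Helper80.isCharacter_restrict (P : Subgroup G) h1,
        Cfsg.Agent.Lib.Helper80.isCharacter_restrict (P : Subgroup G) h2, rfl⟩
    obtain ⟨k, hk⟩ := FP.inner_int hgenP
      (Cfsg.Agent.Lib.Helper26.isGeneralizedCharacter_of_isCharacter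
        (Cfsg.Agent.Lib.Helper80.isCharacter_one (G := (P : Subgroup G))))
    have hval : ∀ u : (P : Subgroup G), χ1 u - χ2 u =
        if u = 1 then ((p ^ a : ℕ) : ℂ) / ((p ^ (b + 1) : ℕ) : ℂ) * (n : ℂ) else 0 := by
      intro u
      have h3 := congrFun heq (u : G)
      rw [Pi.sub_apply] at h3
      rw [← h3]
      by_cases hu : u = 1
      · rw [if_pos hu, hu, Subgroup.coe_one, orderOf_one, if_neg hp.not_dvd_one, hχ1]
      · rw [if_neg hu, if_pos]
        obtain ⟨j, hj⟩ := (IsPGroup.iff_orderOf.mp P.isPGroup') u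
        rw [Subgroup.orderOf_coe, hj]
        have hj0 : j ≠ 0 := by
          intro h0
          rw [h0, pow_zero, orderOf_eq_one_iff] at hj
          exact hu hj
        exact dvd_pow_self p hj0
    unfold Cfsg.classInner at hk
    have hsum : ∑ g : (P : Subgroup G), (fun u : (P : Subgroup G) => χ1 u - χ2 u) g *
        conj ((fun _ : (P : Subgroup G) => (1 : ℂ)) g) =
        ((p ^ a : ℕ) : ℂ) / ((p ^ (b + 1) : ℕ) : ℂ) * (n : ℂ) := by
      have : ∀ g : (P : Subgroup G), (fun u : (P : Subgroup G) => χ1 u - χ2 u) g *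
          conj ((fun _ : (P : Subgroup G) => (1 : ℂ)) g) =
          if g = 1 then ((p ^ a : ℕ) : ℂ) / ((p ^ (b + 1) : ℕ) : ℂ) * (n : ℂ) else 0 := by
        intro g
        show (χ1 g - χ2 g) * conj (1 : ℂ) = _
        rw [hval g, map_one, mul_one]
      rw [Finset.sum_congr rfl fun g _ => this g, Finset.sum_ite_eq' Finset.univ (1 : (P : Subgroup G)),
        if_pos (Finset.mem_univ _)]
    rw [hsum] at hk
    rw [P.card_eq_multiplicity, ← ha] at hk
    have hpa0 : ((p ^ a : ℕ) : ℂ) ≠ 0 := by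
      have : p ^ a ≠ 0 := pow_ne_zero _ hp.ne_zero
      exact_mod_cast this
    have hpb1 : ((p ^ (b + 1) : ℕ) : ℂ) ≠ 0 := by
      have : p ^ (b + 1) ≠ 0 := pow_ne_zero _ hp.ne_zero
      exact_mod_cast this
    have hk' : (n : ℂ) = (k : ℂ) * ((p ^ (b + 1) : ℕ) : ℂ) := by
      rw [← hk]
      field_simp
    have hk'' : (n : ℤ) = k * ((p ^ (b + 1) : ℕ) : ℤ) := by exact_mod_cast hk'
    have hdvd : p ^ (b + 1) ∣ n := by
      apply Int.natCast_dvd_natCast.mp
      exact ⟨k, by rw [hk'', mul_comm]⟩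
    exact Nat.pow_succ_factorization_not_dvd hn0 hp hdvd

end Cfsg.Agent.S4425
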