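import Cfsg.Statements.S4426
import Cfsg.Agent.Lib.Helper79.HeightZero
import Cfsg.Agent.Lib.Helper74.PRegGen
import Cfsg.Agent.S4424
import Cfsg.Agent.S4425

set_option autoImplicit false
open Cfsg
open Cfsg.Agent.Lib.Helper79 Cfsg.Agent.Lib.Helper16 Cfsg.Agent.Lib.Helper78
open scoped ComplexConjugate

namespace Cfsg.Agent.S4426

/-- Let χ be an irreducible character in the p-block B of the finite group G (relative to a maximal ideal M of the algebraic integers containing p), let p^a be the p-part of the order of G, and let χ̃ be the class function equal to p^a · χ on p-regular elements and zero elsewhere. For ξ ∈ B the inner product [χ̃, ξ] is an integer. The following are equivalent: (a) χ has height zero in B; (b) for some ξ ∈ B the integer [χ̃, ξ] is nonzero and the exact power of p dividing it equals the exact power of p dividing ξ(1); (c) the same holds for every ξ ∈ B. -/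
theorem result {G : Type*} [Group G] [Fintype G] (p : ℕ) [Fact p.Prime] (M : Ideal Cfsg.AlgInt) (hM : Cfsg.IsPModular p M) (B : Set (Cfsg.IrrCharacter G)) (hB : Cfsg.IsPBlock M B) (χ : Cfsg.IrrCharacter G) (hχ : χ ∈ B) : (Cfsg.blockHeight p B (χ : G → ℂ) = 0 ↔ ∃ ξ ∈ B, ∃ n : ℤ, Cfsg.classInner (fun x : G => if p ∣ orderOf x then (0 : ℂ) else ((p ^ (Nat.card G).factorization p : ℕ) : ℂ) * (χ : G → ℂ) x) (ξ : G → ℂ) = (n : ℂ) ∧ n ≠ 0 ∧ padicValInt p n = (Cfsg.charDegree (ξ : G → ℂ)).factorization p) ∧ (Cfsg.blockHeight p B (χ : G → ℂ) = 0 ↔ ∀ ξ ∈ B, ∃ n : ℤ, Cfsg.classInner (fun x : G => if p ∣ orderOf x then (0 : ℂ) else ((p ^ (Nat.card G).factorization p : ℕ) : ℂ) * (χ : G → ℂ) x) (ξ : G → ℂ) = (n : ℂ) ∧ n ≠ 0 ∧ padicValInt p n = (Cfsg.charDegree (ξ : G → ℂ)).factorization p) := by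
  classical
  have hp : p.Prime := Fact.out
  have hMp : M.IsPrime := isPModular_isPrime hM
  have hMtop : M ≠ ⊤ := hMp.ne_top
  have htld : (fun x : G => if p ∣ orderOf x then (0 : ℂ) else
      ((p ^ (Nat.card G).factorization p : ℕ) : ℂ) * (χ : G → ℂ) x) = tld p (χ : G → ℂ) := rfl
  rw [htld]
  -- integer coefficients
  obtain ⟨a, haB, hsum⟩ := Cfsg.Agent.S4424.result p M hM B hB χ hχ
  rw [htld] at hsum
  have hsum' : tld p (χ : G → ℂ) =
      fun x => ∑ ψ : IrrCharacter G, (a ψ : ℂ) * (ψ : G → ℂ) x := by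
    rw [hsum]
    funext x
    exact finsum_eq_sum_of_fintype _
  have hc : ∀ ξ : IrrCharacter G, classInner (tld p (χ : G → ℂ)) (ξ : G → ℂ) = (a ξ : ℂ) := by
    intro ξ
    rw [hsum', classInner_sum_int]
  set ν : IrrCharacter G → ℕ := fun ξ => (charDegree (ξ : G → ℂ)).factorization p with hν
  -- divisibility
  have hdivχ : ∀ ξ : IrrCharacter G, ((p : ℤ) ^ ν χ) ∣ a ξ := by
    intro ξ
    have h := Cfsg.Agent.Lib.Helper74.pow_factorization_dvd_classInner_pReg hp χ ξ (a ξ) (hc ξ)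
    simpa using h
  have hdiv : ∀ ξ : IrrCharacter G, ((p : ℤ) ^ ν ξ) ∣ a ξ := by
    intro ξ
    have h1 : classInner (tld p (ξ : G → ℂ)) (χ : G → ℂ) = (a ξ : ℂ) := by
      have h2 := classInner_tld_symm p (ξ : G → ℂ) (χ : G → ℂ)
      rw [hc ξ, map_intCast] at h2
      exact h2
    have h := Cfsg.Agent.Lib.Helper74.pow_factorization_dvd_classInner_pReg hp ξ χ (a ξ) h1
    simpa using h
  -- the predicate of the statement
  have hQ : ∀ ξ : IrrCharacter G,
      (∃ n : ℤ, classInner (tld p (χ : G → ℂ)) (ξ : G → ℂ) = (n : ℂ) ∧ n ≠ 0 ∧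
        padicValInt p n = (charDegree (ξ : G → ℂ)).factorization p) ↔
      ¬ ((p : ℤ) ^ (ν ξ + 1)) ∣ a ξ := by
    intro ξ
    rw [← ne_zero_and_padicValInt_eq_iff p (ν ξ) (a ξ) (hdiv ξ)]
    constructor
    · rintro ⟨n, hn, hn0, hnv⟩
      rw [hc ξ] at hn
      have : a ξ = n := by exact_mod_cast hn
      rw [this]
      exact ⟨hn0, hnv⟩
    · rintro ⟨h0, hv⟩
      exact ⟨a ξ, hc ξ, h0, hv⟩
  -- congruence within the block
  have hcong : ∀ ξ ∈ B, ∀ ξ' ∈ B, ((p : ℤ) ^ (ν ξ + 1)) ∣ a ξ → ((p : ℤ) ^ (ν ξ' + 1)) ∣ a ξ' := by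
    intro ξ hξ ξ' hξ' h
    rw [← memLocalIdeal_div_degree_iff hM ξ (a ξ) (hdiv ξ)] at h
    rw [← memLocalIdeal_div_degree_iff hM ξ' (a ξ') (hdiv ξ')]
    have h1 := classInner_tld_div_congr hM χ ξ ξ' (sameBlock_of_mem hB hξ hξ')
    rw [hc ξ, hc ξ'] at h1
    have h2 := memLocalIdeal_sub h h1
    rwa [sub_sub_cancel] at h2
  -- the minimum of the valuations over `B`
  set S : Set ℕ := (fun ψ : IrrCharacter G => (charDegree (ψ : G → ℂ)).factorization p) '' B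
    with hS
  have hSne : S.Nonempty := ⟨_, ⟨χ, hχ, rfl⟩⟩
  obtain ⟨ψ₀, hψ₀B, hψ₀⟩ : ∃ ψ₀ ∈ B, ν ψ₀ = sInf S := Nat.sInf_mem hSne
  have hmin : ∀ ψ ∈ B, sInf S ≤ ν ψ := fun ψ hψ => Nat.sInf_le ⟨ψ, hψ, rfl⟩
  have hheight : blockHeight p B (χ : G → ℂ) = 0 ↔ ν χ ≤ sInf S := by
    unfold blockHeight
    exact Nat.sub_eq_zero_iff_le
  -- (III)
  have hIII : (∀ ξ ∈ B, ¬ ((p : ℤ) ^ (ν ξ + 1)) ∣ a ξ) → ν χ ≤ sInf S := by
    intro h
    by_contra hlt
    push Not at hlt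
    apply h ψ₀ hψ₀B
    rw [hψ₀]
    exact dvd_trans (pow_dvd_pow (p : ℤ) hlt) (hdivχ ψ₀)
  -- (I)
  have hI : ν χ ≤ sInf S → ∃ ξ ∈ B, ¬ ((p : ℤ) ^ (ν ξ + 1)) ∣ a ξ := by
    intro hle
    by_contra hno
    push Not at hno
    have hall : ∀ ξ : IrrCharacter G, ((p : ℤ) ^ (ν χ + 1)) ∣ a ξ := by
      intro ξ
      by_cases hξ : ξ ∈ B
      · exact dvd_trans (pow_dvd_pow (p : ℤ) (by have := hmin ξ hξ; omega)) (hno ξ hξ)
      · rw [haB ξ hξ]; exact dvd_zero _
    choose k hk using hall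
    have hgen := isGeneralizedCharacter_sum_int k
    apply (Cfsg.Agent.S4425.result p χ).2
    convert hgen using 1
    funext x
    have hx := congrFun hsum' x
    have hpz : (((p : ℤ) ^ (ν χ + 1) : ℤ) : ℂ) ≠ 0 := by
      have : ((p : ℤ) ^ (ν χ + 1)) ≠ 0 := pow_ne_zero _ (by exact_mod_cast hp.ne_zero)
      exact_mod_cast this
    have h2 : ∑ ψ : IrrCharacter G, (a ψ : ℂ) * (ψ : G → ℂ) x =
        (((p : ℤ) ^ (ν χ + 1) : ℤ) : ℂ) * ∑ ψ : IrrCharacter G, (k ψ : ℂ) * (ψ : G → ℂ) x := by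
      rw [Finset.mul_sum]
      apply Finset.sum_congr rfl
      intro ψ _
      rw [hk ψ]
      push_cast
      ring
    rw [h2] at hx
    apply mul_left_cancel₀ hpz
    rw [← hx]
    unfold tld
    split_ifs
    · rw [mul_zero]
    · have hνχ : ν χ = (charDegree (χ : G → ℂ)).factorization p := rfl
      rw [hνχ]
      push_cast
      have hpc : (p : ℂ) ≠ 0 := by exact_mod_cast hp.ne_zero
      field_simp
  constructor
  · rw [hheight]
    constructor
    · intro h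
      obtain ⟨ξ, hξ, hq⟩ := hI h
      exact ⟨ξ, hξ, (hQ ξ).mpr hq⟩
    · rintro ⟨ξ, hξ, hq⟩
      apply hIII
      intro ξ' hξ' hdvd
      exact (hQ ξ).mp hq (hcong ξ' hξ' ξ hξ hdvd)
  · rw [hheight]
    constructor
    · intro h ξ' hξ'
      obtain ⟨ξ, hξ, hq⟩ := hI h
      rw [hQ ξ']
      intro hdvd
      exact hq (hcong ξ' hξ' ξ hξ hdvd)
    · intro h
      apply hIII
      intro ξ hξ
      exact (hQ ξ).mp (h ξ hξ)

end Cfsg.Agent.S4426
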