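import Cfsg.Statements.S0844
import Cfsg.Agent.Lib.Helper52.ExcPair
import Cfsg.Agent.Lib.Helper52.QuatExc

set_option autoImplicit false
open Cfsg

namespace Cfsg.Agent.S0844

/-- Suppose a Sylow 2-subgroup S of the finite group G is generalized quaternion of order at least 16. Then G has two non-principal irreducible characters χ₁ and χ₂ with χ₁ 1 = χ₂ 1 + 1 such that χ₁ g - χ₂ g = 1 for every element g whose order is not divisible by 4. -/
theorem result {G : Type*} [Group G] [Fintype G] (S : Sylow 2 G) (n : ℕ) (e : (S : Subgroup G) ≃* QuaternionGroup (2 ^ (n + 2))) : ∃ χ₁ χ₂ : G → ℂ, Cfsg.IsIrrCharacter G χ₁ ∧ Cfsg.IsIrrCharacter G χ₂ ∧ χ₁ ≠ (fun _ => 1) ∧ χ₂ ≠ (fun _ => 1) ∧ χ₁ 1 = χ₂ 1 + 1 ∧ ∀ g : G, ¬ 4 ∣ orderOf g → χ₁ g - χ₂ g = 1 := by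
  classical
  have hm : NeZero (2 ^ (n + 2)) := ⟨by positivity⟩
  have hmpos : 0 < 2 ^ (n + 2) := by positivity
  obtain ⟨A, hA, hcardA, hcardS⟩ :=
    Cfsg.Agent.S0842.exists_quatData_card (S : Subgroup G) e
  have hm2 : 2 < 2 ^ (n + 2) := by
    have : 2 ^ 2 ≤ 2 ^ (n + 2) := Nat.pow_le_pow_right (by norm_num) (by omega)
    omega
  set D : Subgroup G := ⁅(S : Subgroup G), (S : Subgroup G)⁆ with hD
  set C : Subgroup G := Subgroup.centralizer (D : Set G) with hC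
  set N : Subgroup G := Subgroup.normalizer (D : Set G) with hN
  have hSC : (S : Subgroup G) ⊓ C = A := Cfsg.Agent.S0842.inf_centralizer_eq hA hm2 hcardA
  have hSN : (S : Subgroup G) ≤ N := Cfsg.Agent.S0842.le_normalizer_commutator _
  have hcardD : Nat.card D = 2 ^ (n + 2) :=
    Cfsg.Agent.Lib.Helper52.card_commutator_of_quatData hA hmpos hcardA hcardS
  obtain ⟨K, hKodd, hKC, hNK, -, hKA, hidx⟩ := Cfsg.Agent.S0842.result S n e D rfl
  obtain ⟨-, p2, -⟩ := Cfsg.Agent.S0843.result S n e D rfl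
  have hCN : C ≤ N := Subgroup.centralizer_le_normalizer _
  rw [hSC] at hKA
  have hAC : A ≤ C := hSC ▸ inf_le_right
  -- a generator of `A`
  have hfinA := hA.fin
  have hcycA := hA.cyc
  obtain ⟨g, hg⟩ := IsCyclic.exists_generator (α := A)
  have hog : orderOf g = 2 * 2 ^ (n + 2) := by
    rw [orderOf_eq_card_of_forall_mem_zpowers hg, hcardA]
  have hoa : orderOf (g : G) = 2 ^ (n + 1 + 2) := by
    rw [Subgroup.orderOf_coe, hog]; ring
  have hAz : A ≤ Subgroup.zpowers (g : G) := by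
    intro a ha
    obtain ⟨k, hk⟩ := hg ⟨a, ha⟩
    refine ⟨k, ?_⟩
    have := congrArg Subtype.val hk
    simpa using this
  have hgC : (g : G) ∈ C := hAC g.2
  have hsup : C ≤ K ⊔ Subgroup.zpowers (g : G) := by
    calc C = K ⊔ A := hKA.symm
      _ ≤ K ⊔ Subgroup.zpowers (g : G) := sup_le_sup_left hAz K
  have hKn : ∀ c ∈ C, ∀ k ∈ K, c * k * c⁻¹ ∈ K := by
    intro c hc k hk
    exact (Subgroup.mem_normalizer_iff.mp (hNK (hCN hc)) k).mp hk
  obtain ⟨lam, hlamg, hlam1⟩ :=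
    Cfsg.Agent.Lib.Helper52.exists_lam C K hKC hKn hKodd (g : G) hgC (n + 1) hoa hsup
  -- the T.I. set
  set X : Set G := {y | y ∈ C ∧ Nat.card D ∣ orderOf y} with hX
  have hTI : ∀ t : G, ∀ y ∈ X, t * y * t⁻¹ ∈ X → t ∈ N := by
    intro t y hy hty
    exact p2 t y hy.1 hy.2 hty.1
  have hlamX : ∀ y : C, (y : G) ∉ X → lam y = 1 := by
    intro y hy
    apply hlam1
    intro hdvd
    apply hy
    refine ⟨y.2, ?_⟩
    rw [hcardD]
    have : n + 1 + 1 = n + 2 := by ring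
    rwa [this] at hdvd
  -- an element outside `A`
  have hSA : ¬ (S : Subgroup G) ≤ A := by
    intro hle
    have := Subgroup.card_le_of_le hle
    omega
  obtain ⟨z, hzS, hzA⟩ := SetLike.not_le_iff_exists.mp hSA
  have hzg : z * (g : G) * z⁻¹ = (g : G)⁻¹ := (hA.out z hzS hzA).2 (g : G) g.2
  have hzgC : z * (g : G) * z⁻¹ ∈ C := by rw [hzg]; exact C.inv_mem hgC
  have hne : lam ⟨z * (g : G) * z⁻¹, hzgC⟩ ≠ lam ⟨(g : G), hgC⟩ := by
    have : (⟨z * (g : G) * z⁻¹, hzgC⟩ : C) = (⟨(g : G), hgC⟩ : C)⁻¹ := Subtype.ext hzg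
    rw [this, map_inv, hlamg]
    exact Cfsg.Agent.Lib.Helper52.unitI_inv_ne
  obtain ⟨χ₁, χ₂, h1, h2, h3, h4, h5, h6⟩ :=
    Cfsg.Agent.Lib.Helper52.exists_exceptional_pair C N hCN hidx X hTI lam hlamX z (g : G)
      (hSN hzS) hgC hzgC hne
  refine ⟨χ₁, χ₂, h1, h2, h3, h4, h5, ?_⟩
  intro x hx
  apply h6
  intro h hmem
  apply hx
  have h7 : orderOf (h * x * h⁻¹) = orderOf x := (MulAut.conj h).orderOf_eq x
  have h8 := hmem.2
  rw [h7, hcardD] at h8
  exact dvd_trans ⟨2 ^ n, by rw [pow_add]; ring⟩ h8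

end Cfsg.Agent.S0844
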