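import Cfsg.Statements.S0845
import Cfsg.Agent.S0844
import Cfsg.Agent.S0840
import Cfsg.Agent.Lib.Helper77.CenterIrr

set_option autoImplicit false
open Cfsg

namespace Cfsg.Agent.S0845

open Cfsg.Agent.S0843 Cfsg.Agent.Lib.Helper78 Cfsg.Agent.Lib.Helper77
open scoped ComplexConjugate

section Klein

variable {G : Type*} [Group G] [Finite G]

/-- in a group with generalized quaternion Sylow 2-subgroups two commuting involutions are equal -/
theorem eq_of_commute_involutions (S : Sylow 2 G) {m : ℕ} [NeZero m]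
    (e : (S : Subgroup G) ≃* QuaternionGroup m) {x w : G} (hx : orderOf x = 2)
    (hw : orderOf w = 2) (hc : x * w = w * x) : x = w := by
  have hzx : IsPGroup 2 (Subgroup.zpowers x) :=
    IsPGroup.of_card (n := 1) (by rw [Nat.card_zpowers, hx, pow_one])
  have hzw : IsPGroup 2 (Subgroup.zpowers w) :=
    IsPGroup.of_card (n := 1) (by rw [Nat.card_zpowers, hw, pow_one])
  have hcomm1 : ∀ s ∈ Subgroup.zpowers x, ∀ t ∈ Subgroup.zpowers w, s * t = t * s := by
    rintro _ ⟨i, rfl⟩ _ ⟨k, rfl⟩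
    simp only
    exact ((Commute.zpow_zpow (show Commute x w from hc)) i k).eq
  have hle : Subgroup.zpowers x ≤ Subgroup.centralizer (Subgroup.zpowers w : Set G) := by
    intro s hs
    rw [Subgroup.mem_centralizer_iff]
    intro t ht
    exact (hcomm1 s hs t ht).symm
  have hT2 : IsPGroup 2 ↥(Subgroup.zpowers x ⊔ Subgroup.zpowers w) :=
    IsPGroup.to_sup_of_normal_right' hzx hzw
      (hle.trans (Subgroup.centralizer_le_normalizer _))
  have hzcomm : ∀ y : G, ∀ s ∈ Subgroup.zpowers y, ∀ t ∈ Subgroup.zpowers y, s * t = t * s := by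
    rintro y _ ⟨i, rfl⟩ _ ⟨k, rfl⟩
    simp only
    rw [← zpow_add, ← zpow_add, add_comm]
  have hTcomm := comm_sup (Subgroup.zpowers x) (Subgroup.zpowers w) (hzcomm x) (hzcomm w) hcomm1
  have hTcyc := isCyclic_of_comm_two_group S e _ hT2 hTcomm
  have h1 := le_of_card_dvd_of_le_cyclic _ (Subgroup.zpowers x) (Subgroup.zpowers w) hTcyc
    le_sup_left le_sup_right (by rw [Nat.card_zpowers, Nat.card_zpowers, hx, hw])
  obtain ⟨k, hk⟩ := h1 (Subgroup.mem_zpowers x)
  simp only at hk
  have hw2 : w ^ (2 : ℤ) = 1 := by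
    have := pow_orderOf_eq_one w
    rw [hw] at this
    exact_mod_cast this
  rcases Int.even_or_odd' k with ⟨l, hl | hl⟩
  · exfalso
    rw [hl, zpow_mul, hw2, one_zpow] at hk
    rw [← hk, orderOf_one] at hx
    omega
  · rw [hl, zpow_add, zpow_mul, hw2, one_zpow, one_mul, zpow_one] at hk
    exact hk.symm

/-- the product of two involutions has order not divisible by four -/
theorem not_four_dvd_orderOf_mul (S : Sylow 2 G) {m : ℕ} [NeZero m]
    (e : (S : Subgroup G) ≃* QuaternionGroup m) {x y : G} (hx : orderOf x = 2)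
    (hy : orderOf y = 2) : ¬ 4 ∣ orderOf (x * y) := by
  intro h4
  set g := x * y with hg
  have hx2 : x * x = 1 := by
    have := pow_orderOf_eq_one x
    rwa [hx, pow_two] at this
  have hy2 : y * y = 1 := by
    have := pow_orderOf_eq_one y
    rwa [hy, pow_two] at this
  have hxinv : x⁻¹ = x := inv_eq_of_mul_eq_one_left hx2
  have hyinv : y⁻¹ = y := inv_eq_of_mul_eq_one_left hy2
  have hconj : x * g * x⁻¹ = g⁻¹ := by
    rw [hg, mul_inv_rev, hxinv, hyinv, ← mul_assoc, hx2, one_mul]
  obtain ⟨k, hk⟩ := h4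
  set w := g ^ (2 * k) with hw
  have hg0 : 0 < orderOf g := orderOf_pos g
  have how : orderOf w = 2 := by
    rw [hw, orderOf_pow_of_dvd (by omega) ⟨2, by rw [hk]; ring⟩, hk]
    have : 4 * k = 2 * (2 * k) := by ring
    rw [this, Nat.mul_div_cancel _ (by omega)]
  have hconjw : x * w * x⁻¹ = w⁻¹ := by
    rw [hw]
    have : x * g ^ (2 * k) * x⁻¹ = (x * g * x⁻¹) ^ (2 * k) := by
      rw [conj_pow]
    rw [this, hconj, inv_pow]
  have hw2 : w * w = 1 := by
    have := pow_orderOf_eq_one w
    rwa [how, pow_two] at this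
  have hwinv : w⁻¹ = w := inv_eq_of_mul_eq_one_left hw2
  have hc : x * w = w * x := by
    have := hconjw
    rw [hwinv] at this
    calc x * w = x * w * x⁻¹ * x := by group
      _ = w * x := by rw [this]
  have hxw : x = w := eq_of_commute_involutions S e hx how hc
  -- then `x` commutes with `g`
  have hxg : x * g * x⁻¹ = g := by
    rw [hxw, hw]
    have : Commute (g ^ (2 * k)) g := (Commute.refl g).pow_left _
    rw [this.eq, mul_inv_cancel_right]
  rw [hconj] at hxg
  have hgg : g ^ 2 = 1 := by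
    rw [pow_two]
    nth_rw 1 [← hxg]
    exact inv_mul_cancel g
  have := orderOf_dvd_of_pow_eq_one hgg
  have h5 : orderOf g ≤ 2 := Nat.le_of_dvd (by norm_num) this
  omega

end Klein

section Ker

variable {G : Type*} [Group G] [Finite G]

/-- the kernel of a nonlinear irreducible character does not contain the derived subgroup -/
theorem not_commutator_le_irrKer (χ : IrrCharacter G) (h1 : (χ : G → ℂ) 1 ≠ 1) :
    ¬ commutator G ≤ irrKer χ := by
  classical
  have : Fintype G := Fintype.ofFinite G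
  intro hle
  have htop : irrCenter χ = ⊤ := by
    rw [eq_top_iff]
    intro g _
    rw [mem_irrCenter_iff_commutator]
    intro h
    apply hle
    rw [commutator_def]
    exact Subgroup.commutator_mem_commutator (Subgroup.mem_top g) (Subgroup.mem_top h)
  have hle2 := card_irrCenter_mul_sq_le χ
  rw [htop, Subgroup.card_top, irr_apply_one, Complex.norm_natCast] at hle2
  have hG : (0 : ℝ) < (Nat.card G : ℝ) := by exact_mod_cast Nat.card_pos
  have h2 : ((irrDim χ : ℝ)) ^ 2 ≤ 1 := by
    by_contra hlt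
    push Not at hlt
    nlinarith
  have h3 : irrDim χ ≤ 1 := by
    by_contra hlt
    push Not at hlt
    have : (2 : ℝ) ≤ (irrDim χ : ℝ) := by exact_mod_cast hlt
    nlinarith
  have h4 : irrDim χ = 1 := by
    have := irrDim_ne_zero χ
    omega
  apply h1
  rw [irr_apply_one, h4, Nat.cast_one]

theorem even_card_irrKer (χ : IrrCharacter G) {z : G} (hz : orderOf z = 2)
    (h : (χ : G → ℂ) z = (χ : G → ℂ) 1) : Even (Nat.card (irrKer χ)) := by
  have hzM : z ∈ irrKer χ := (mem_irrKer χ z).mpr h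
  have := orderOf_dvd_natCard (⟨z, hzM⟩ : irrKer χ)
  rw [Subgroup.orderOf_mk, hz] at this
  exact even_iff_two_dvd.mpr this

end Ker

/-- Suppose a Sylow 2-subgroup S of the finite group G is generalized quaternion of order at least 16. Then G has a normal subgroup M of even order such that G / M is non-abelian, that is, M does not contain the commutator subgroup of G. -/
theorem result {G : Type*} [Group G] [Finite G] (S : Sylow 2 G) (n : ℕ) (e : (S : Subgroup G) ≃* QuaternionGroup (2 ^ (n + 2))) : ∃ M : Subgroup G, M.Normal ∧ Even (Nat.card M) ∧ ¬ commutator G ≤ M := by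
  classical
  have : Fintype G := Fintype.ofFinite G
  have hm : NeZero (2 ^ (n + 2)) := ⟨by positivity⟩
  obtain ⟨χ₁, χ₂, hχ₁, hχ₂, hne1, hne2, hdeg, hval⟩ := Cfsg.Agent.S0844.result S n e
  -- an involution
  have h2G : 2 ∣ Nat.card G := by
    have h1 : Nat.card (S : Subgroup G) = 4 * 2 ^ (n + 2) := by
      rw [Nat.card_congr e.toEquiv, Nat.card_eq_fintype_card, QuaternionGroup.card]
    have := Subgroup.card_subgroup_dvd_card (S : Subgroup G)
    rw [h1] at this
    exact dvd_trans ⟨2 * 2 ^ (n + 2), by ring⟩ this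
  obtain ⟨z, hz⟩ := exists_prime_orderOf_dvd_card' 2 h2G
  have hG : (Nat.card G : ℂ) ≠ 0 := by exact_mod_cast Nat.card_pos.ne'
  -- vanishing of the structure constants
  have hF : ∀ g : G, 4 ∣ orderOf g → ∑ χ : IrrCharacter G,
      (χ : G → ℂ) z * (χ : G → ℂ) z * conj ((χ : G → ℂ) g) / (χ : G → ℂ) 1 = 0 := by
    intro g hg
    have h := Cfsg.Agent.S0840.result z z g
    rw [finsum_eq_sum_of_fintype] at h
    have hempty : Nat.card {p : G × G // IsConj z p.1 ∧ IsConj z p.2 ∧ p.1 * p.2 = g} = 0 := by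
      rw [Nat.card_eq_zero]
      left
      constructor
      rintro ⟨p, h1, h2, h3⟩
      obtain ⟨c1, hc1⟩ := isConj_iff.mp h1
      obtain ⟨c2, hc2⟩ := isConj_iff.mp h2
      have ho1 : orderOf p.1 = 2 := by
        rw [← hc1, ← hz]; exact (MulAut.conj c1).orderOf_eq z
      have ho2 : orderOf p.2 = 2 := by
        rw [← hc2, ← hz]; exact (MulAut.conj c2).orderOf_eq z
      exact not_four_dvd_orderOf_mul S e ho1 ho2 (h3 ▸ hg)
    rw [hempty, Nat.cast_zero] at h
    have hcl : (Nat.card {x : G // IsConj z x} : ℂ) ≠ 0 := by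
      have : Nonempty {x : G // IsConj z x} := ⟨⟨z, IsConj.refl z⟩⟩
      exact_mod_cast Nat.card_pos.ne'
    rcases mul_eq_zero.mp h.symm with h' | h'
    · exfalso; exact (div_ne_zero (mul_ne_zero hcl hcl) hG) h'
    · exact h'
  set μ : G → ℂ := fun g => 1 + χ₂ g - χ₁ g with hμ
  have hμ0 : ∀ g, ¬ 4 ∣ orderOf g → μ g = 0 := by
    intro g hg
    have := hval g hg
    simp only [hμ]
    linear_combination -this
  set X1 : IrrCharacter G := ⟨χ₁, hχ₁⟩ with hX1
  set X2 : IrrCharacter G := ⟨χ₂, hχ₂⟩ with hX2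
  set T : IrrCharacter G := ⟨fun _ => 1, isIrrCharacter_one⟩ with hT
  set w : IrrCharacter G → ℂ := fun χ => (χ : G → ℂ) z * (χ : G → ℂ) z / (χ : G → ℂ) 1 with hw
  have hsum0 : ∑ g : G, (∑ χ : IrrCharacter G, w χ * conj ((χ : G → ℂ) g)) * μ g = 0 := by
    apply Finset.sum_eq_zero
    intro g _
    by_cases hg : 4 ∣ orderOf g
    · have h' : ∑ χ : IrrCharacter G, w χ * conj ((χ : G → ℂ) g) = 0 := by
        rw [← hF g hg]
        apply Finset.sum_congr rfl
        intro χ _
        simp only [hw]; ring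
      rw [h', zero_mul]
    · rw [hμ0 g hg, mul_zero]
  have hswap : ∑ g : G, (∑ χ : IrrCharacter G, w χ * conj ((χ : G → ℂ) g)) * μ g =
      (Nat.card G : ℂ) * ∑ χ : IrrCharacter G, w χ * classInner μ (χ : G → ℂ) := by
    simp only [Finset.sum_mul]
    rw [Finset.sum_comm, Finset.mul_sum]
    apply Finset.sum_congr rfl
    intro χ _
    have h1 : ∑ g : G, w χ * conj ((χ : G → ℂ) g) * μ g =
        w χ * ∑ g : G, μ g * conj ((χ : G → ℂ) g) := by
      rw [Finset.mul_sum]
      apply Finset.sum_congr rfl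
      intro g _
      ring
    rw [h1]
    unfold classInner
    field_simp
  have hinner : ∀ χ : IrrCharacter G, classInner μ (χ : G → ℂ) =
      (if (T : G → ℂ) = (χ : G → ℂ) then 1 else 0) +
        (if (X2 : G → ℂ) = (χ : G → ℂ) then 1 else 0) -
          (if (X1 : G → ℂ) = (χ : G → ℂ) then 1 else 0) := by
    intro χ
    have hμsplit : μ = (T : G → ℂ) + (X2 : G → ℂ) + (-1 : ℂ) • (X1 : G → ℂ) := by
      funext g
      simp only [hμ, hT, hX1, hX2, Pi.add_apply, Pi.smul_apply, smul_eq_mul]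
      ring
    rw [hμsplit, classInner_add_left, classInner_add_left, classInner_smul_left,
      classInner_irr T.2 χ.2, classInner_irr X2.2 χ.2, classInner_irr X1.2 χ.2]
    ring
  have hpick : ∀ Y : IrrCharacter G, ∑ χ : IrrCharacter G,
      w χ * (if (Y : G → ℂ) = (χ : G → ℂ) then (1 : ℂ) else 0) = w Y := by
    intro Y
    rw [Finset.sum_eq_single Y]
    · rw [if_pos rfl, mul_one]
    · intro b _ hb
      rw [if_neg (fun h => hb (Subtype.ext h.symm)), mul_zero]
    · intro h; exact absurd (Finset.mem_univ Y) h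
  have hkey : w T + w X2 - w X1 = 0 := by
    have h1 : ∑ χ : IrrCharacter G, w χ * classInner μ (χ : G → ℂ) = w T + w X2 - w X1 := by
      simp only [hinner, mul_add, mul_sub, Finset.sum_add_distrib, Finset.sum_sub_distrib, hpick]
    rw [← h1]
    have := hsum0
    rw [hswap] at this
    exact (mul_eq_zero.mp this).resolve_left hG
  -- the algebra
  obtain ⟨d, hdpos, hd⟩ := Cfsg.Agent.Lib.Helper52.irr_degree_pos X2
  have hd' : χ₂ 1 = (d : ℂ) := hd
  have hz4 : ¬ 4 ∣ orderOf z := by rw [hz]; norm_num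
  have hz1 : χ₁ z = χ₂ z + 1 := by
    have := hval z hz4
    linear_combination this
  have hwT : w T = 1 := by simp [hw, hT]
  have hwX2 : w X2 = χ₂ z * χ₂ z / (d : ℂ) := by simp only [hw, hX2, hd']
  have hwX1 : w X1 = (χ₂ z + 1) * (χ₂ z + 1) / ((d : ℂ) + 1) := by
    simp only [hw, hX1, hdeg, hd', hz1]
  rw [hwT, hwX2, hwX1] at hkey
  have hd0 : (d : ℂ) ≠ 0 := by exact_mod_cast hdpos.ne'
  have hd1 : (d : ℂ) + 1 ≠ 0 := by exact_mod_cast (Nat.succ_ne_zero d)
  have hsq : ((d : ℂ) - χ₂ z) ^ 2 = 0 := by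
    field_simp at hkey
    linear_combination hkey
  have ha : χ₂ z = (d : ℂ) := by
    have := pow_eq_zero_iff (two_ne_zero) |>.mp hsq
    exact (sub_eq_zero.mp this).symm
  by_cases hd1' : d = 1
  · -- use `χ₁`
    have h1 : (X1 : G → ℂ) z = (X1 : G → ℂ) 1 := by
      show χ₁ z = χ₁ 1
      rw [hz1, hdeg, ha, hd']
    refine ⟨irrKer X1, inferInstance, even_card_irrKer X1 hz h1, ?_⟩
    apply not_commutator_le_irrKer
    show χ₁ 1 ≠ 1
    rw [hdeg, hd', hd1']
    norm_num
  · have h1 : (X2 : G → ℂ) z = (X2 : G → ℂ) 1 := by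
      show χ₂ z = χ₂ 1
      rw [ha, hd']
    refine ⟨irrKer X2, inferInstance, even_card_irrKer X2 hz h1, ?_⟩
    apply not_commutator_le_irrKer
    show χ₂ 1 ≠ 1
    rw [hd']
    exact_mod_cast hd1'

end Cfsg.Agent.S0845
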