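import Cfsg.Statements.S0846
import Cfsg.Agent.S0845

set_option autoImplicit false
open Cfsg

namespace Cfsg.Agent.S0846

open Cfsg.Agent.S0843 Cfsg.Agent.S0842

section Basic

variable {G : Type*} [Group G] [Finite G]

/-- a generalized quaternion group has a unique involution -/
theorem involution_unique (S : Sylow 2 G) {m : ℕ} [NeZero m]
    (e : (S : Subgroup G) ≃* QuaternionGroup m) {A : Subgroup G}
    (hA : QuatData (S : Subgroup G) A) {x w : G} (hxS : x ∈ (S : Subgroup G))
    (hwS : w ∈ (S : Subgroup G)) (hx : orderOf x = 2) (hw : orderOf w = 2) : x = w := by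
  have hxA : x ∈ A := by
    by_contra h
    have := (hA.out x hxS h).1
    omega
  have hwA : w ∈ A := by
    by_contra h
    have := (hA.out w hwS h).1
    omega
  exact Cfsg.Agent.S0845.eq_of_commute_involutions S e hx hw
    (comm_of_isCyclic_subgroup A hA.cyc x hxA w hwA)

/-- a normal subgroup of even order contains every involution -/
theorem involution_mem_of_normal (S : Sylow 2 G) {m : ℕ} [NeZero m]
    (e : (S : Subgroup G) ≃* QuaternionGroup m) (M : Subgroup G) [hM : M.Normal]
    (heven : Even (Nat.card M)) {x : G} (hx : orderOf x = 2) : x ∈ M := by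
  obtain ⟨A, hA⟩ := exists_quatData (S : Subgroup G) e
  obtain ⟨w, hw⟩ := exists_prime_orderOf_dvd_card' (G := M) 2 (even_iff_two_dvd.mp heven)
  have hw' : orderOf (w : G) = 2 := by rw [Subgroup.orderOf_coe, hw]
  have h2 : ∀ y : G, orderOf y = 2 → IsPGroup 2 (Subgroup.zpowers y) := fun y hy =>
    IsPGroup.of_card (n := 1) (by rw [Nat.card_zpowers, hy, pow_one])
  obtain ⟨c, -, hc⟩ := exists_conj_le_of_le S ⊤ le_top (Subgroup.zpowers x) le_top (h2 x hx)
  obtain ⟨c', -, hc'⟩ := exists_conj_le_of_le S ⊤ le_top (Subgroup.zpowers (w : G)) le_top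
    (h2 _ hw')
  have h3 := hc x (Subgroup.mem_zpowers x)
  have h4 := hc' (w : G) (Subgroup.mem_zpowers _)
  have ho3 : orderOf (c * x * c⁻¹) = 2 := by
    rw [← hx]; exact (MulAut.conj c).orderOf_eq x
  have ho4 : orderOf (c' * (w : G) * c'⁻¹) = 2 := by
    rw [← hw']; exact (MulAut.conj c').orderOf_eq (w : G)
  have heq := involution_unique S e hA h3 h4 ho3 ho4
  have hx_eq : x = c⁻¹ * (c' * (w : G) * c'⁻¹) * c := by
    rw [← heq]; group
  rw [hx_eq]
  have h5 : c' * (w : G) * c'⁻¹ ∈ M := hM.conj_mem _ w.2 c'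
  have h6 := hM.conj_mem _ h5 c⁻¹
  simpa using h6

/-- the derived subgroup lies in any subgroup containing the squares of the cyclic part -/
theorem commutator_le_of_sq_mem {P A : Subgroup G} (h : QuatData P A) (B : Subgroup G)
    (hsq : ∀ x ∈ A, x * x ∈ B) : (⁅P, P⁆ : Subgroup G) ≤ B := by
  have hcomm : ∀ a ∈ A, ∀ b ∈ A, a * b = b * a := comm_of_isCyclic_subgroup A h.cyc
  rw [Subgroup.commutator_le]
  intro s hs t ht
  rw [commutatorElement_def]
  by_cases hsA : s ∈ A
  · by_cases htA : t ∈ A
    · have : s * t * s⁻¹ * t⁻¹ = 1 := by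
        rw [hcomm s hsA t htA]; group
      rw [this]; exact B.one_mem
    · have h1 := (h.out t ht htA).2 s⁻¹ (A.inv_mem hsA)
      rw [inv_inv] at h1
      have : s * t * s⁻¹ * t⁻¹ = s * (t * s⁻¹ * t⁻¹) := by group
      rw [this, h1]
      exact hsq s hsA
  · by_cases htA : t ∈ A
    · have h1 := (h.out s hs hsA).2 t htA
      rw [h1]
      have := B.inv_mem (hsq t htA)
      rwa [mul_inv_rev] at this
    · have htinvA : t⁻¹ ∉ A := fun h' => htA (by simpa using A.inv_mem h')
      have hu : t⁻¹ * s ∈ A := (h.idx t⁻¹ (P.inv_mem ht) s hs).mpr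
        ⟨fun h' => absurd h' htinvA, fun h' => absurd h' hsA⟩
      set u := t⁻¹ * s with hu_def
      have hs_eq : s = t * u := by rw [hu_def]; group
      have h1 := (h.out t ht htA).2 u⁻¹ (A.inv_mem hu)
      rw [inv_inv] at h1
      have h2 : s * t * s⁻¹ * t⁻¹ = t * (u * (t * u⁻¹ * t⁻¹)) * t⁻¹ := by
        rw [hs_eq]; group
      rw [h2, h1]
      have h3 := (h.out t ht htA).2 (u * u) (A.mul_mem hu hu)
      rw [h3]
      exact B.inv_mem (hsq u hu)

end Basic

section Induction

universe u

/-- intrinsic form of the statement: every `2`-subgroup of the subgroup generated by the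
involutions is cyclic. -/
theorem cyclic_of_le_closure_involutions : ∀ (N : ℕ) (G : Type u) [Group G] [Finite G],
    Nat.card G = N → ∀ (S : Sylow 2 G) (n : ℕ)
      (_e : (S : Subgroup G) ≃* QuaternionGroup (2 ^ (n + 2))) (R : Subgroup G),
      IsPGroup 2 R → R ≤ Subgroup.closure {g : G | orderOf g = 2} → IsCyclic R := by
  intro N
  induction N using Nat.strong_induction_on with
  | _ N ih =>
  intro G _ _ hcard S n e R hR2 hRI
  have hm : NeZero (2 ^ (n + 2)) := ⟨by positivity⟩
  obtain ⟨A, hA, hcardA, hcardS⟩ := exists_quatData_card (S : Subgroup G) e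
  obtain ⟨M, hMn, hMeven, hMcomm⟩ := Cfsg.Agent.S0845.result S n e
  have := hMn
  have hIM : Subgroup.closure {g : G | orderOf g = 2} ≤ M := by
    rw [Subgroup.closure_le]
    intro x hx
    exact involution_mem_of_normal S e M hMeven hx
  have hRM : R ≤ M := hRI.trans hIM
  by_cases hTA : (S : Subgroup G) ⊓ M ≤ A
  · -- the Sylow 2-subgroups of `M` are cyclic
    obtain ⟨c, -, hc⟩ := exists_conj_le_of_le S ⊤ le_top R le_top hR2
    have hle : R.map (MulAut.conj c).toMonoidHom ≤ A := by
      rintro _ ⟨r, hr, rfl⟩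
      apply hTA
      refine Subgroup.mem_inf.mpr ⟨?_, ?_⟩
      · exact hc r hr
      · exact hMn.conj_mem r (hRM hr) c
    have hcyc : IsCyclic (R.map (MulAut.conj c).toMonoidHom) := by
      have := hA.cyc
      exact Subgroup.isCyclic_of_le hle
    have e' : R ≃* R.map (MulAut.conj c).toMonoidHom :=
      R.equivMapOfInjective _ (MulAut.conj c).injective
    exact isCyclic_of_surjective e'.symm e'.symm.surjective
  · obtain ⟨y, hyT, hyA⟩ := SetLike.not_le_iff_exists.mp hTA
    set H : Subgroup G := M ⊔ (S : Subgroup G) with hH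
    have hSH : (S : Subgroup G) ≤ H := le_sup_right
    have hMH : M ≤ H := le_sup_left
    have hHne : H ≠ ⊤ := by
      intro htop
      apply hMcomm
      have hsqT : ∀ a ∈ A, a * a ∈ (S : Subgroup G) ⊓ M := by
        intro a ha
        have haS := hA.le ha
        have hyS : y ∈ (S : Subgroup G) := (Subgroup.mem_inf.mp hyT).1
        have hyM : y ∈ M := (Subgroup.mem_inf.mp hyT).2
        have h1 : a * y⁻¹ * a⁻¹ ∈ (S : Subgroup G) ⊓ M :=
          Subgroup.mem_inf.mpr
            ⟨Subgroup.mul_mem _ (Subgroup.mul_mem _ haS (Subgroup.inv_mem _ hyS))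
              (Subgroup.inv_mem _ haS), hMn.conj_mem _ (Subgroup.inv_mem _ hyM) a⟩
        have h2 := Subgroup.mul_mem _ hyT h1
        have h3 : y * (a * y⁻¹ * a⁻¹) = (y * a * y⁻¹) * a⁻¹ := by group
        rw [h3, (hA.out y hyS hyA).2 a ha] at h2
        have h4 := Subgroup.inv_mem _ h2
        have h5 : (a⁻¹ * a⁻¹)⁻¹ = a * a := by rw [mul_inv_rev, inv_inv]
        rwa [h5] at h4
      have hDM : (⁅(S : Subgroup G), (S : Subgroup G)⁆ : Subgroup G) ≤ M :=
        (commutator_le_of_sq_mem hA _ hsqT).trans inf_le_right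
      rw [commutator_def, Subgroup.commutator_le]
      intro x _ x' _
      have hx : x ∈ M ⊔ (S : Subgroup G) := by rw [← hH, htop]; trivial
      have hx' : x' ∈ M ⊔ (S : Subgroup G) := by rw [← hH, htop]; trivial
      obtain ⟨m₁, hm₁, s₁, hs₁, rfl⟩ := Subgroup.mem_sup_of_normal_left.mp hx
      obtain ⟨m₂, hm₂, s₂, hs₂, rfl⟩ := Subgroup.mem_sup_of_normal_left.mp hx'
      set π : G →* G ⧸ M := QuotientGroup.mk' M with hπdef
      have hπ : ∀ x : G, π x = 1 ↔ x ∈ M := fun x => QuotientGroup.eq_one_iff x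
      rw [← hπ, map_commutatorElement]
      have e1 : π (m₁ * s₁) = π s₁ := by
        rw [map_mul, (hπ m₁).mpr hm₁, one_mul]
      have e2 : π (m₂ * s₂) = π s₂ := by
        rw [map_mul, (hπ m₂).mpr hm₂, one_mul]
      rw [e1, e2, ← map_commutatorElement, hπ]
      exact hDM (Subgroup.commutator_mem_commutator hs₁ hs₂)
    have hcardH : Nat.card H < N := by
      rw [← hcard]
      by_contra hge
      push Not at hge
      exact hHne (Subgroup.eq_top_of_le_card H hge)
    set S' : Sylow 2 H := S.subtype hSH with hS'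
    have e' : (S' : Subgroup H) ≃* QuaternionGroup (2 ^ (n + 2)) :=
      (MulEquiv.subgroupCongr (Sylow.coe_subtype S hSH)).trans
        ((Subgroup.subgroupOfEquivOfLe hSH).trans e)
    set R' : Subgroup H := R.subgroupOf H with hR'
    have hR'2 : IsPGroup 2 R' := hR2.comap_subtype
    have hle : Subgroup.closure {g : G | orderOf g = 2} ≤
        (Subgroup.closure {h : H | orderOf h = 2}).map H.subtype := by
      rw [Subgroup.closure_le]
      intro x hx
      have hxH : x ∈ H := hMH (involution_mem_of_normal S e M hMeven hx)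
      refine ⟨⟨x, hxH⟩, Subgroup.subset_closure ?_, rfl⟩
      show orderOf (⟨x, hxH⟩ : H) = 2
      rw [Subgroup.orderOf_mk]
      exact hx
    have hR'I : R' ≤ Subgroup.closure {h : H | orderOf h = 2} := by
      intro r hr
      rw [hR', Subgroup.mem_subgroupOf] at hr
      obtain ⟨r', hr', hrr⟩ := hle (hRI hr)
      have : r' = r := Subtype.ext hrr
      rw [← this]
      exact hr'
    have hcyc' : IsCyclic R' := ih (Nat.card H) hcardH H rfl S' n e' R' hR'2 hR'I
    have hRH : R ≤ H := hRM.trans hMH
    exact isCyclic_of_surjective (Subgroup.subgroupOfEquivOfLe hRH)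
      (Subgroup.subgroupOfEquivOfLe hRH).surjective

end Induction

/-- Suppose a Sylow 2-subgroup S of the finite group G is generalized quaternion of order at least 16. Then every Sylow 2-subgroup of the subgroup generated by the involutions of G is cyclic. -/
theorem result {G : Type*} [Group G] [Finite G] (S : Sylow 2 G) (n : ℕ) (e : (S : Subgroup G) ≃* QuaternionGroup (2 ^ (n + 2))) (Q : Sylow 2 ↥(Subgroup.closure {g : G | orderOf g = 2})) : IsCyclic Q := by
  have hR2 : IsPGroup 2 ((Q : Subgroup (Subgroup.closure {g : G | orderOf g = 2})).map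
      (Subgroup.closure {g : G | orderOf g = 2}).subtype) := Q.isPGroup'.map _
  have hRI := Subgroup.map_subtype_le
    (Q : Subgroup (Subgroup.closure {g : G | orderOf g = 2}))
  have hcyc := cyclic_of_le_closure_involutions (Nat.card G) G rfl S n e _ hR2 hRI
  have e' := (Q : Subgroup (Subgroup.closure {g : G | orderOf g = 2})).equivMapOfInjective _
    (Subgroup.closure {g : G | orderOf g = 2}).subtype_injective
  exact isCyclic_of_surjective e'.symm e'.symm.surjective

end Cfsg.Agent.S0846
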