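import Cfsg.Statements.S0847
import Cfsg.Agent.S0846

set_option autoImplicit false
open Cfsg

namespace Cfsg.Agent.S0847

open Cfsg.Agent.S0843 Cfsg.Agent.S0842

/-- The Brauer–Suzuki Theorem in the case of order at least 16: if a Sylow 2-subgroup S of the finite group G is generalized quaternion of order at least 16 and G has no nontrivial normal subgroup of odd order, then the centre of G has order 2. -/
theorem result {G : Type*} [Group G] [Finite G] (S : Sylow 2 G) (n : ℕ) (e : (S : Subgroup G) ≃* QuaternionGroup (2 ^ (n + 2))) (hO : ∀ N : Subgroup G, N.Normal → Odd (Nat.card N) → N = ⊥) : Nat.card (Subgroup.center G) = 2 := by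
  classical
  have hm : NeZero (2 ^ (n + 2)) := ⟨by positivity⟩
  obtain ⟨A, hA, hcardA, hcardS⟩ := exists_quatData_card (S : Subgroup G) e
  set X : Set G := {g : G | orderOf g = 2} with hX
  set I : Subgroup G := Subgroup.closure X with hI
  -- `I` is normal
  have hIn : ∀ g : G, ∀ x ∈ I, g * x * g⁻¹ ∈ I := by
    intro g x hx
    have h1 : I.map (MulAut.conj g).toMonoidHom ≤ I := by
      rw [hI, MonoidHom.map_closure, Subgroup.closure_le]
      rintro _ ⟨y, hy, rfl⟩
      apply Subgroup.subset_closure
      show orderOf (g * y * g⁻¹) = 2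
      rw [← hy]
      exact (MulAut.conj g).orderOf_eq y
    exact h1 ⟨x, hx, rfl⟩
  -- an involution
  have h2G : 2 ∣ Nat.card G := by
    have := Subgroup.card_subgroup_dvd_card (S : Subgroup G)
    rw [hcardS] at this
    exact dvd_trans ⟨2 * 2 ^ (n + 2), by ring⟩ this
  obtain ⟨z, hz⟩ := exists_prime_orderOf_dvd_card' 2 h2G
  have hzI : z ∈ I := Subgroup.subset_closure hz
  have h2I : 2 ∣ Nat.card I := by
    have := orderOf_dvd_natCard (⟨z, hzI⟩ : I)
    rwa [Subgroup.orderOf_mk, hz] at this
  obtain ⟨Q⟩ := (inferInstance : Nonempty (Sylow 2 I))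
  have hQcyc : IsCyclic Q := Cfsg.Agent.S0846.result S n e Q
  obtain ⟨K, hKI, hKodd, -, hKsup, hKmem⟩ := exists_normal_two_complement I Q hQcyc h2I
  have hKn : K.Normal := by
    constructor
    intro k hk g
    apply hKmem _ (hIn g k (hKI hk))
    have ho : orderOf (g * k * g⁻¹) = orderOf k := (MulAut.conj g).orderOf_eq k
    rw [ho]
    have : orderOf k ∣ Nat.card K := by
      have := orderOf_dvd_natCard (⟨k, hk⟩ : K)
      rwa [Subgroup.orderOf_mk] at this
    exact hKodd.of_dvd_nat this
  have hKbot : K = ⊥ := hO K hKn hKodd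
  rw [hKbot, bot_sup_eq] at hKsup
  -- any two involutions coincide
  have hQcomm := comm_of_isCyclic_subgroup (Q : Subgroup I) hQcyc
  have huniq : ∀ x w : G, orderOf x = 2 → orderOf w = 2 → x = w := by
    intro x w hx hw
    have hxI : x ∈ (Q : Subgroup I).map I.subtype := by
      rw [hKsup]; exact Subgroup.subset_closure hx
    have hwI : w ∈ (Q : Subgroup I).map I.subtype := by
      rw [hKsup]; exact Subgroup.subset_closure hw
    obtain ⟨q₁, hq₁, rfl⟩ := hxI
    obtain ⟨q₂, hq₂, rfl⟩ := hwI
    apply Cfsg.Agent.S0845.eq_of_commute_involutions S e hx hw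
    have := hQcomm q₁ hq₁ q₂ hq₂
    have h' := congrArg (I.subtype) this
    simpa using h'
  -- `z` is central
  have hzc : z ∈ Subgroup.center G := by
    rw [Subgroup.mem_center_iff]
    intro g
    have ho : orderOf (g * z * g⁻¹) = 2 := by
      rw [← hz]; exact (MulAut.conj g).orderOf_eq z
    have := huniq _ _ ho hz
    calc g * z = g * z * g⁻¹ * g := by group
      _ = z * g := by rw [this]
  -- central elements have order at most two
  have hfinA := hA.fin
  have hcycA := hA.cyc
  obtain ⟨g₀, hg₀⟩ := IsCyclic.exists_generator (α := A)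
  have hog₀ : orderOf (g₀ : G) = 2 * 2 ^ (n + 2) := by
    rw [Subgroup.orderOf_coe, orderOf_eq_card_of_forall_mem_zpowers hg₀, hcardA]
  have hSA : ¬ (S : Subgroup G) ≤ A := by
    intro hle
    have := Subgroup.card_le_of_le hle
    have : 0 < 2 ^ (n + 2) := by positivity
    omega
  obtain ⟨y, hyS, hyA⟩ := SetLike.not_le_iff_exists.mp hSA
  have hconj : ∀ u ∈ Subgroup.center G, ∀ g : G, g * u * g⁻¹ = u := by
    intro u hu g
    rw [Subgroup.mem_center_iff.mp hu g, mul_inv_cancel_right]
  have hsub : ∀ N : Subgroup G, N ≤ Subgroup.center G → Odd (Nat.card N) → N = ⊥ := by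
    intro N hN hodd
    apply hO N _ hodd
    constructor
    intro k hk g
    rw [hconj k (hN hk) g]; exact hk
  have hcent : ∀ x ∈ Subgroup.center G, x = 1 ∨ x = z := by
    intro x hx
    have hx0 : orderOf x ≠ 0 := (orderOf_pos x).ne'
    obtain ⟨a, b, hb, hab⟩ := Nat.exists_eq_two_pow_mul_odd hx0
    have hb0 : b ≠ 0 := by
      rintro rfl
      simp at hb
    -- the odd part is trivial
    have ho1 : orderOf (x ^ 2 ^ a) = b := by
      rw [orderOf_pow_of_dvd (by positivity) ⟨b, hab⟩, hab]
      exact Nat.mul_div_cancel_left _ (by positivity)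
    have hb1 : b = 1 := by
      have hle : Subgroup.zpowers (x ^ 2 ^ a) ≤ Subgroup.center G := by
        rw [Subgroup.zpowers_le]; exact pow_mem hx _
      have := hsub _ hle (by rw [Nat.card_zpowers, ho1]; exact hb)
      rw [Subgroup.zpowers_eq_bot] at this
      rw [this, orderOf_one] at ho1
      exact ho1.symm
    rw [hb1, mul_one] at hab
    -- `x` lies in `S`
    have hx2 : IsPGroup 2 (Subgroup.zpowers x) :=
      IsPGroup.of_card (n := a) (by rw [Nat.card_zpowers, hab])
    obtain ⟨c, -, hc⟩ := exists_conj_le_of_le S ⊤ le_top (Subgroup.zpowers x) le_top hx2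
    have hxS : x ∈ (S : Subgroup G) := by
      have h1 := hc x (Subgroup.mem_zpowers x)
      rwa [hconj x hx c] at h1
    have hxA : x ∈ A := by
      by_contra hxA
      have h1 := (hA.out x hxS hxA).2 (g₀ : G) g₀.2
      have h2 : x * (g₀ : G) * x⁻¹ = (g₀ : G) := by
        rw [← Subgroup.mem_center_iff.mp hx (g₀ : G), mul_inv_cancel_right]
      rw [h2] at h1
      have h3 : (g₀ : G) ^ 2 = 1 := by
        rw [pow_two]
        nth_rw 1 [h1]
        exact inv_mul_cancel _
      have h4 := orderOf_dvd_of_pow_eq_one h3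
      rw [hog₀] at h4
      have h5 := Nat.le_of_dvd (by norm_num) h4
      have : 4 ≤ 2 ^ (n + 2) := by
        calc 4 = 2 ^ 2 := by norm_num
          _ ≤ 2 ^ (n + 2) := Nat.pow_le_pow_right (by norm_num) (by omega)
      omega
    have h1 := (hA.out y hyS hyA).2 x hxA
    rw [hconj x hx y] at h1
    have h3 : x ^ 2 = 1 := by
      rw [pow_two]
      nth_rw 1 [h1]
      exact inv_mul_cancel _
    have h4 := orderOf_dvd_of_pow_eq_one h3
    rcases (Nat.dvd_prime Nat.prime_two).mp h4 with h5 | h5
    · left; exact orderOf_eq_one_iff.mp h5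
    · right; exact huniq x z h5 hz
  have hcenter : Subgroup.center G = Subgroup.zpowers z := by
    apply le_antisymm
    · intro x hx
      rcases hcent x hx with h | h
      · rw [h]; exact Subgroup.one_mem _
      · rw [h]; exact Subgroup.mem_zpowers z
    · rw [Subgroup.zpowers_le]; exact hzc
  rw [hcenter, Nat.card_zpowers, hz]

end Cfsg.Agent.S0847
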