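import Cfsg.Statements.S0440
import Mathlib
-- import your own Cfsg.Agent.* helpers here

set_option autoImplicit false
open Cfsg

namespace Cfsg.Agent.S0440


open Matrix

/-- the field with two elements -/
abbrev K := ZMod 2

variable {n : ℕ}

/-- the standard alternating form -/
def B (x y : Fin n ⊕ Fin n → K) : K := x ⬝ᵥ (Matrix.J (Fin n) K *ᵥ y)

theorem J_mulVec_inl (y : Fin n ⊕ Fin n → K) (i : Fin n) :
    (Matrix.J (Fin n) K *ᵥ y) (Sum.inl i) = - y (Sum.inr i) := by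
  simp [Matrix.J, Matrix.mulVec, dotProduct, Fintype.sum_sum_type, Matrix.one_apply, Matrix.neg_apply]

theorem J_mulVec_inr (y : Fin n ⊕ Fin n → K) (i : Fin n) :
    (Matrix.J (Fin n) K *ᵥ y) (Sum.inr i) = y (Sum.inl i) := by
  simp [Matrix.J, Matrix.mulVec, dotProduct, Fintype.sum_sum_type, Matrix.one_apply]

theorem K_neg (a : K) : -a = a := by revert a; decide

theorem K_add_self (a : K) : a + a = 0 := by revert a; decide

theorem K_cases (a : K) : a = 0 ∨ a = 1 := by revert a; decide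

theorem B_eq (x y : Fin n ⊕ Fin n → K) :
    B x y = ∑ i : Fin n, (x (Sum.inr i) * y (Sum.inl i) + x (Sum.inl i) * y (Sum.inr i)) := by
  unfold B
  rw [dotProduct, Fintype.sum_sum_type]
  simp only [J_mulVec_inl, J_mulVec_inr, K_neg]
  rw [Finset.sum_add_distrib, add_comm]

theorem B_self (x : Fin n ⊕ Fin n → K) : B x x = 0 := by
  rw [B_eq]
  apply Finset.sum_eq_zero
  intro i _
  rw [mul_comm]; exact K_add_self _

theorem B_add_left (x y z : Fin n ⊕ Fin n → K) : B (x + y) z = B x z + B y z := by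
  unfold B; rw [add_dotProduct]

theorem B_add_right (x y z : Fin n ⊕ Fin n → K) : B x (y + z) = B x y + B x z := by
  unfold B; rw [Matrix.mulVec_add, dotProduct_add]

theorem B_smul_left (c : K) (x y : Fin n ⊕ Fin n → K) : B (c • x) y = c * B x y := by
  unfold B; rw [smul_dotProduct, smul_eq_mul]

theorem B_smul_right (c : K) (x y : Fin n ⊕ Fin n → K) : B x (c • y) = c * B x y := by
  unfold B; rw [Matrix.mulVec_smul, dotProduct_smul, smul_eq_mul]

theorem B_comm (x y : Fin n ⊕ Fin n → K) : B x y = B y x := by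
  rw [B_eq, B_eq]
  apply Finset.sum_congr rfl
  intro i _
  ring

theorem B_zero_left (y : Fin n ⊕ Fin n → K) : B 0 y = 0 := by
  unfold B; rw [zero_dotProduct]

theorem B_zero_right (y : Fin n ⊕ Fin n → K) : B y 0 = 0 := by
  rw [B_comm, B_zero_left]

theorem B_nondeg (a : Fin n ⊕ Fin n → K) (ha : a ≠ 0) : ∃ y, B y a = 1 := by
  have : ∃ i, a i ≠ 0 := by
    by_contra h
    push Not at h
    exact ha (funext h)
  obtain ⟨i, hi⟩ := this
  have hi1 : a i = 1 := (K_cases (a i)).resolve_left hi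
  rcases i with k | k
  · refine ⟨Pi.single (Sum.inr k) 1, ?_⟩
    rw [B_eq]
    rw [Finset.sum_eq_single k]
    · simp [hi1]
    · intro j _ hjk
      simp [Pi.single_apply, hjk]
    · intro h; exact absurd (Finset.mem_univ k) h
  · refine ⟨Pi.single (Sum.inl k) 1, ?_⟩
    rw [B_eq]
    rw [Finset.sum_eq_single k]
    · simp [hi1]
    · intro j _ hjk
      simp [Pi.single_apply, hjk]
    · intro h; exact absurd (Finset.mem_univ k) h

/-- the symplectic transvection with centre `a` -/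
def T (a : Fin n ⊕ Fin n → K) : Matrix (Fin n ⊕ Fin n) (Fin n ⊕ Fin n) K :=
  1 + Matrix.vecMulVec a (Matrix.J (Fin n) K *ᵥ a)

theorem T_mulVec (a x : Fin n ⊕ Fin n → K) : T a *ᵥ x = x + B x a • a := by
  unfold T B
  rw [Matrix.add_mulVec, Matrix.one_mulVec, Matrix.vecMulVec_mulVec, op_smul_eq_smul,
    dotProduct_comm]

theorem dot_mulVec_left (g : Matrix (Fin n ⊕ Fin n) (Fin n ⊕ Fin n) K)
    (x w : Fin n ⊕ Fin n → K) : (g *ᵥ x) ⬝ᵥ w = x ⬝ᵥ (gᵀ *ᵥ w) := by
  rw [Matrix.dotProduct_mulVec, Matrix.vecMul_transpose]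

theorem B_mulVec_eq (g : Matrix (Fin n ⊕ Fin n) (Fin n ⊕ Fin n) K) (x y : Fin n ⊕ Fin n → K) :
    B (g *ᵥ x) (g *ᵥ y) = x ⬝ᵥ ((gᵀ * Matrix.J (Fin n) K * g) *ᵥ y) := by
  unfold B
  rw [dot_mulVec_left, Matrix.mulVec_mulVec, Matrix.mulVec_mulVec, Matrix.mul_assoc]

theorem B_mulVec (g : Matrix (Fin n ⊕ Fin n) (Fin n ⊕ Fin n) K)
    (hg : g ∈ Matrix.symplecticGroup (Fin n) K) (x y : Fin n ⊕ Fin n → K) :
    B (g *ᵥ x) (g *ᵥ y) = B x y := by
  rw [B_mulVec_eq, SymplecticGroup.mem_iff'.mp hg]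
  rfl

theorem mem_of_B_mulVec (g : Matrix (Fin n ⊕ Fin n) (Fin n ⊕ Fin n) K)
    (h : ∀ x y, B (g *ᵥ x) (g *ᵥ y) = B x y) : g ∈ Matrix.symplecticGroup (Fin n) K := by
  rw [SymplecticGroup.mem_iff']
  ext i j
  have := h (Pi.single i 1) (Pi.single j 1)
  rw [B_mulVec_eq] at this
  unfold B at this
  simpa using this

theorem T_mem (a : Fin n ⊕ Fin n → K) : T a ∈ Matrix.symplecticGroup (Fin n) K := by
  apply mem_of_B_mulVec
  intro x y
  rw [T_mulVec, T_mulVec]
  simp only [B_add_left, B_add_right, B_smul_left, B_smul_right, B_self, mul_zero, add_zero]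
  rw [B_comm a y, add_assoc, mul_comm, K_add_self, add_zero]

theorem T_mul_self (a : Fin n ⊕ Fin n → K) : T a * T a = 1 := by
  rw [Matrix.ext_iff_mulVec]
  intro x
  rw [← Matrix.mulVec_mulVec, T_mulVec, T_mulVec, Matrix.one_mulVec]
  simp only [B_add_left, B_smul_left, B_self, mul_zero, add_zero]
  rw [add_assoc, ← add_smul, K_add_self, zero_smul, add_zero]

theorem T_zero : T (0 : Fin n ⊕ Fin n → K) = 1 := by
  unfold T; simp

theorem T_ne_one (a : Fin n ⊕ Fin n → K) (ha : a ≠ 0) : T a ≠ 1 := by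
  intro h
  obtain ⟨y, hy⟩ := B_nondeg a ha
  have := congrArg (fun M => M *ᵥ y) h
  simp only [T_mulVec, hy, one_smul, Matrix.one_mulVec] at this
  exact ha (by simpa using this)


theorem conj_T (g : Matrix (Fin n ⊕ Fin n) (Fin n ⊕ Fin n) K)
    (hg : g ∈ Matrix.symplecticGroup (Fin n) K) (a : Fin n ⊕ Fin n → K) :
    g * T a = T (g *ᵥ a) * g := by
  rw [Matrix.ext_iff_mulVec]
  intro x
  rw [← Matrix.mulVec_mulVec, ← Matrix.mulVec_mulVec, T_mulVec, T_mulVec, Matrix.mulVec_add,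
    Matrix.mulVec_smul, B_mulVec g hg]

theorem T_comm (a b : Fin n ⊕ Fin n → K) (h : B a b = 0) : T a * T b = T b * T a := by
  rw [conj_T (T a) (T_mem a) b, T_mulVec, B_comm b a, h, zero_smul, add_zero]

theorem T_braid (a b : Fin n ⊕ Fin n → K) (h : B a b = 1) : T a * T b * T a = T (a + b) := by
  rw [conj_T (T a) (T_mem a) b, T_mulVec, B_comm b a, h, one_smul, Matrix.mul_assoc, T_mul_self,
    Matrix.mul_one, add_comm]

theorem rank_T_sub_one (a : Fin n ⊕ Fin n → K) (ha : a ≠ 0) : (T a - 1).rank = 1 := by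
  have h1 : T a - 1 = Matrix.vecMulVec a (Matrix.J (Fin n) K *ᵥ a) := by
    unfold T; rw [add_sub_cancel_left]
  apply le_antisymm
  · rw [h1]; exact Matrix.rank_vecMulVec_le _ _
  · rw [Nat.one_le_iff_ne_zero]
    intro h0
    unfold Matrix.rank at h0
    rw [Submodule.finrank_eq_zero, LinearMap.range_eq_bot] at h0
    apply T_ne_one a ha
    have : T a - 1 = 0 := by
      rw [Matrix.ext_iff_mulVec]
      intro x
      have := congrArg (fun f => f x) h0
      simpa [Matrix.sub_mulVec] using this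
    exact sub_eq_zero.mp this

theorem eq_T_of_rank (g : Matrix (Fin n ⊕ Fin n) (Fin n ⊕ Fin n) K)
    (hg : g ∈ Matrix.symplecticGroup (Fin n) K) (hr : (g - 1).rank = 1) :
    ∃ a, a ≠ 0 ∧ g = T a := by
  unfold Matrix.rank at hr
  rw [finrank_eq_one_iff'] at hr
  obtain ⟨⟨a, ⟨x0, hx0⟩⟩, ha0, hspan⟩ := hr
  have ha : a ≠ 0 := by
    intro h; apply ha0; apply Subtype.ext; exact h
  have hx0' : g *ᵥ x0 = x0 + a := by
    have : (g - 1) *ᵥ x0 = a := hx0
    rw [Matrix.sub_mulVec, Matrix.one_mulVec, sub_eq_iff_eq_add] at this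
    rw [this, add_comm]
  have hcases : ∀ x, g *ᵥ x = x ∨ g *ᵥ x = x + a := by
    intro x
    obtain ⟨c, hc⟩ := hspan ⟨(g - 1) *ᵥ x, ⟨x, rfl⟩⟩
    have hc' : c • a = (g - 1) *ᵥ x := congrArg Subtype.val hc
    rw [Matrix.sub_mulVec, Matrix.one_mulVec] at hc'
    rcases K_cases c with h | h
    · left
      rw [h, zero_smul] at hc'
      exact (sub_eq_zero.mp hc'.symm)
    · right
      rw [h, one_smul] at hc'
      rw [eq_sub_iff_add_eq] at hc'
      rw [← hc', add_comm]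
  -- fixed vectors are orthogonal to a
  have hfix : ∀ y, g *ᵥ y = y → B y a = 0 := by
    intro y hy
    have := B_mulVec g hg x0 y
    rw [hx0', hy, B_add_left] at this
    have h2 : B a y = 0 := by
      have h3 : B x0 y + B a y = B x0 y + 0 := by rw [this, add_zero]
      exact add_left_cancel h3
    rw [B_comm]; exact h2
  obtain ⟨z, hz⟩ := B_nondeg a ha
  have hmoved : ∀ x, g *ᵥ x = x + a → B x a = 1 := by
    intro x hx
    have hzm : g *ᵥ z = z + a := by
      rcases hcases z with h | h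
      · have := hfix z h; rw [hz] at this; exact absurd this one_ne_zero
      · exact h
    have := B_mulVec g hg x z
    rw [hx, hzm] at this
    simp only [B_add_left, B_add_right, B_self, add_zero] at this
    -- this : B x z + B x a + B a z = B x z
    have h3 : B x a + B a z = 0 := by
      have h4 : B x z + (B x a + B a z) = B x z + 0 := by
        rw [add_zero, add_comm (B x a), ← add_assoc]; exact this
      exact add_left_cancel h4
    rw [B_comm a z, hz] at h3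
    rcases K_cases (B x a) with h | h
    · rw [h] at h3; simp at h3
    · exact h
  refine ⟨a, ha, ?_⟩
  rw [Matrix.ext_iff_mulVec]
  intro x
  rw [T_mulVec]
  rcases hcases x with h | h
  · rw [h, hfix x h, zero_smul, add_zero]
  · rw [h, hmoved x h, one_smul]


theorem vec_add_self (a : Fin n ⊕ Fin n → K) : a + a = 0 := by
  funext i; exact K_add_self _

/-- the fixed space of a matrix -/
def fixS (g : Matrix (Fin n ⊕ Fin n) (Fin n ⊕ Fin n) K) : Submodule K (Fin n ⊕ Fin n → K) :=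
  LinearMap.ker (Matrix.mulVecLin (g - 1))

theorem mem_fixS (g : Matrix (Fin n ⊕ Fin n) (Fin n ⊕ Fin n) K) (x : Fin n ⊕ Fin n → K) :
    x ∈ fixS g ↔ g *ᵥ x = x := by
  unfold fixS
  rw [LinearMap.mem_ker, Matrix.mulVecLin_apply, Matrix.sub_mulVec, Matrix.one_mulVec, sub_eq_zero]

theorem fix_le_of_comm (g : Matrix (Fin n ⊕ Fin n) (Fin n ⊕ Fin n) K)
    (hg : g ∈ Matrix.symplecticGroup (Fin n) K) (y : Fin n ⊕ Fin n → K) :
    fixS g ≤ fixS (T (g *ᵥ y + y) * g) := by
  intro x hx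
  rw [mem_fixS] at hx ⊢
  rw [← Matrix.mulVec_mulVec, hx, T_mulVec, B_add_right]
  have : B x (g *ᵥ y) = B x y := by
    conv_lhs => rw [← hx]
    exact B_mulVec g hg x y
  rw [this, K_add_self, zero_smul, add_zero]

theorem case1 (g : Matrix (Fin n ⊕ Fin n) (Fin n ⊕ Fin n) K)
    (hg : g ∈ Matrix.symplecticGroup (Fin n) K) (v : Fin n ⊕ Fin n → K)
    (h : B (g *ᵥ v) v = 1) : fixS g < fixS (T (g *ᵥ v + v) * g) := by
  apply lt_of_le_of_ne (fix_le_of_comm g hg v)
  intro heq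
  have hv : v ∈ fixS (T (g *ᵥ v + v) * g) := by
    rw [mem_fixS, ← Matrix.mulVec_mulVec, T_mulVec, B_add_right, B_self, h, zero_add, one_smul,
      ← add_assoc, vec_add_self, zero_add]
  rw [← heq, mem_fixS] at hv
  rw [hv, B_self] at h
  exact zero_ne_one h

theorem case2 (g : Matrix (Fin n ⊕ Fin n) (Fin n ⊕ Fin n) K)
    (hg : g ∈ Matrix.symplecticGroup (Fin n) K) (h : ∀ x, B (g *ᵥ x) x = 0)
    (x0 : Fin n ⊕ Fin n → K) (hx0 : g *ᵥ x0 ≠ x0) :
    ∃ a, fixS g ≤ fixS (T a * g) ∧ ∃ x, B ((T a * g) *ᵥ x) x = 1 := by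
  -- polarisation
  have hpol : ∀ x y, B (g *ᵥ x) y = B (g *ᵥ y) x := by
    intro x y
    have h1 := h (x + y)
    rw [Matrix.mulVec_add, B_add_left, B_add_right, B_add_right, h x, h y, zero_add, add_zero] at h1
    -- h1 : B (g x) y + B (g y) x = 0
    have h2 : B (g *ᵥ x) y + B (g *ᵥ y) x = B (g *ᵥ y) x + B (g *ᵥ y) x := by
      rw [h1, K_add_self]
    exact add_right_cancel h2
  have hu : g *ᵥ x0 + x0 ≠ 0 := by
    intro h0
    apply hx0
    have : g *ᵥ x0 + x0 + x0 = 0 + x0 := by rw [h0]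
    rw [add_assoc, vec_add_self, add_zero, zero_add] at this
    exact this
  obtain ⟨y, hy⟩ := B_nondeg _ hu
  refine ⟨g *ᵥ y + y, fix_le_of_comm g hg y, x0, ?_⟩
  rw [← Matrix.mulVec_mulVec, T_mulVec, B_add_left, h x0, zero_add, B_smul_left]
  have e1 : B (g *ᵥ x0) (g *ᵥ y + y) = 1 := by
    rw [B_add_right, B_mulVec g hg, ← B_add_left, add_comm, B_comm]; exact hy
  have e2 : B (g *ᵥ y + y) x0 = 1 := by
    rw [B_add_left, hpol y x0, B_comm y x0, ← B_add_left, B_comm]; exact hy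
  rw [e1, e2, mul_one]


/-- the transvection as a group element -/
def Tg (a : Fin n ⊕ Fin n → K) : Matrix.symplecticGroup (Fin n) K := ⟨T a, T_mem a⟩

/-- the set of symplectic transvections -/
def D (n : ℕ) : Set (Matrix.symplecticGroup (Fin n) K) :=
  {g | ((g : Matrix (Fin n ⊕ Fin n) (Fin n ⊕ Fin n) K) - 1).rank = 1}

theorem Tg_mem_D (a : Fin n ⊕ Fin n → K) (ha : a ≠ 0) : Tg a ∈ D n := rank_T_sub_one a ha

theorem exists_Tg_of_mem_D (g : Matrix.symplecticGroup (Fin n) K) (hg : g ∈ D n) :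
    ∃ a, a ≠ 0 ∧ g = Tg a := by
  obtain ⟨a, ha, h⟩ := eq_T_of_rank g.1 g.2 hg
  exact ⟨a, ha, Subtype.ext h⟩

theorem Tg_mul_self (a : Fin n ⊕ Fin n → K) : Tg a * Tg a = 1 :=
  Subtype.ext (T_mul_self a)

theorem Tg_ne_one (a : Fin n ⊕ Fin n → K) (ha : a ≠ 0) : Tg a ≠ 1 := by
  intro h
  exact T_ne_one a ha (congrArg Subtype.val h)

theorem Tg_mem_closure (a : Fin n ⊕ Fin n → K) : Tg a ∈ Subgroup.closure (D n) := by
  by_cases ha : a = 0
  · have : Tg a = 1 := by
      apply Subtype.ext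
      change T a = 1
      rw [ha, T_zero]
    rw [this]; exact Subgroup.one_mem _
  · exact Subgroup.subset_closure (Tg_mem_D a ha)

theorem T_move (a c : Fin n ⊕ Fin n → K) (h : B a c = 1) : T (a + c) *ᵥ a = c := by
  rw [T_mulVec, B_add_right, B_self, h, zero_add, one_smul, ← add_assoc, vec_add_self, zero_add]

theorem exists_both (a b : Fin n ⊕ Fin n → K) (ha : a ≠ 0) (hb : b ≠ 0) :
    ∃ w, B w a = 1 ∧ B w b = 1 := by
  obtain ⟨y1, h1⟩ := B_nondeg a ha
  obtain ⟨y2, h2⟩ := B_nondeg b hb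
  rcases K_cases (B y1 b) with h | h
  · rcases K_cases (B y2 a) with h' | h'
    · refine ⟨y1 + y2, ?_, ?_⟩
      · rw [B_add_left, h1, h', add_zero]
      · rw [B_add_left, h, h2, zero_add]
    · exact ⟨y2, h', h2⟩
  · exact ⟨y1, h1, h⟩

theorem exists_move (a b : Fin n ⊕ Fin n → K) (ha : a ≠ 0) (hb : b ≠ 0) :
    ∃ h : Matrix.symplecticGroup (Fin n) K, h ∈ Subgroup.closure (D n) ∧
      (h : Matrix (Fin n ⊕ Fin n) (Fin n ⊕ Fin n) K) *ᵥ a = b := by
  obtain ⟨w, hwa, hwb⟩ := exists_both a b ha hb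
  refine ⟨Tg (w + b) * Tg (a + w), Subgroup.mul_mem _ (Tg_mem_closure _) (Tg_mem_closure _), ?_⟩
  change (T (w + b) * T (a + w)) *ᵥ a = b
  rw [← Matrix.mulVec_mulVec, T_move a w (by rw [B_comm]; exact hwa), T_move w b hwb]

theorem conj_Tg (g : Matrix.symplecticGroup (Fin n) K) (a : Fin n ⊕ Fin n → K) :
    g * Tg a * g⁻¹ = Tg ((g : Matrix (Fin n ⊕ Fin n) (Fin n ⊕ Fin n) K) *ᵥ a) := by
  rw [mul_inv_eq_iff_eq_mul]
  apply Subtype.ext
  exact conj_T g.1 g.2 a

theorem mulVec_ne_zero (g : Matrix.symplecticGroup (Fin n) K) (a : Fin n ⊕ Fin n → K)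
    (ha : a ≠ 0) : (g : Matrix (Fin n ⊕ Fin n) (Fin n ⊕ Fin n) K) *ᵥ a ≠ 0 := by
  obtain ⟨y, hy⟩ := B_nondeg a ha
  intro h0
  have := B_mulVec g.1 g.2 y a
  rw [h0, B_zero_right, hy] at this
  exact zero_ne_one this

theorem orderOf_Tg (a : Fin n ⊕ Fin n → K) (ha : a ≠ 0) : orderOf (Tg a) = 2 := by
  have hf : Fact (Nat.Prime 2) := ⟨Nat.prime_two⟩
  apply orderOf_eq_prime
  · rw [pow_two]; exact Tg_mul_self a
  · exact Tg_ne_one a ha

theorem Tg_three (a b : Fin n ⊕ Fin n → K) :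
    (Tg a * Tg b) ^ 2 = 1 ∨ (Tg a * Tg b) ^ 3 = 1 := by
  rcases K_cases (B a b) with h | h
  · left
    have hc : Tg a * Tg b = Tg b * Tg a := Subtype.ext (T_comm a b h)
    rw [pow_two]
    calc Tg a * Tg b * (Tg a * Tg b) = Tg a * Tg b * (Tg b * Tg a) := by rw [hc]
      _ = Tg a * (Tg b * Tg b) * Tg a := by simp only [mul_assoc]
      _ = 1 := by rw [Tg_mul_self, mul_one, Tg_mul_self]
  · right
    have h1 : Tg a * Tg b * Tg a = Tg (a + b) := Subtype.ext (T_braid a b h)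
    have h2 : Tg b * Tg a * Tg b = Tg (a + b) := by
      rw [add_comm]
      exact Subtype.ext (T_braid b a (by rw [B_comm]; exact h))
    calc (Tg a * Tg b) ^ 3 = (Tg a * Tg b * Tg a) * (Tg b * Tg a * Tg b) := by
          simp only [pow_succ, pow_zero, one_mul, mul_assoc]
      _ = 1 := by rw [h1, h2, Tg_mul_self]

theorem fixS_eq_top_iff (g : Matrix (Fin n ⊕ Fin n) (Fin n ⊕ Fin n) K) :
    fixS g = ⊤ ↔ g = 1 := by
  constructor
  · intro h
    rw [Matrix.ext_iff_mulVec]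
    intro x
    rw [Matrix.one_mulVec, ← mem_fixS, h]
    exact Submodule.mem_top
  · intro h
    rw [eq_top_iff]
    intro x _
    rw [mem_fixS, h, Matrix.one_mulVec]

theorem gen_aux : ∀ (d : ℕ) (g : Matrix.symplecticGroup (Fin n) K),
    Module.finrank K (Fin n ⊕ Fin n → K) -
      Module.finrank K (fixS (g : Matrix (Fin n ⊕ Fin n) (Fin n ⊕ Fin n) K)) = d →
    g ∈ Subgroup.closure (D n) := by
  intro d
  induction d using Nat.strong_induction_on with
  | _ d ih =>
    intro g hd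
    by_cases hone : g = 1
    · rw [hone]; exact Subgroup.one_mem _
    -- the measure decreases when the fixed space grows
    have hdecr : ∀ g' : Matrix.symplecticGroup (Fin n) K,
        fixS (g : Matrix (Fin n ⊕ Fin n) (Fin n ⊕ Fin n) K) <
          fixS (g' : Matrix (Fin n ⊕ Fin n) (Fin n ⊕ Fin n) K) →
        g' ∈ Subgroup.closure (D n) := by
      intro g' hlt
      have h1 := Submodule.finrank_lt_finrank_of_lt hlt
      have h2 := Submodule.finrank_le (fixS (g' : Matrix (Fin n ⊕ Fin n) (Fin n ⊕ Fin n) K))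
      exact ih _ (by omega) g' rfl
    -- step via case 1
    have step1 : ∀ g1 : Matrix.symplecticGroup (Fin n) K,
        fixS (g : Matrix (Fin n ⊕ Fin n) (Fin n ⊕ Fin n) K) ≤
          fixS (g1 : Matrix (Fin n ⊕ Fin n) (Fin n ⊕ Fin n) K) →
        (∃ v, B ((g1 : Matrix (Fin n ⊕ Fin n) (Fin n ⊕ Fin n) K) *ᵥ v) v = 1) →
        g1 ∈ Subgroup.closure (D n) := by
      rintro g1 hle ⟨v, hv⟩
      have hlt := case1 g1.1 g1.2 v hv
      have hmem : Tg (g1.1 *ᵥ v + v) * g1 ∈ Subgroup.closure (D n) :=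
        hdecr (Tg (g1.1 *ᵥ v + v) * g1) (lt_of_le_of_lt hle hlt)
      have : g1 = Tg (g1.1 *ᵥ v + v) * (Tg (g1.1 *ᵥ v + v) * g1) := by
        rw [← mul_assoc, Tg_mul_self, one_mul]
      rw [this]
      exact Subgroup.mul_mem _ (Tg_mem_closure _) hmem
    by_cases h1 : ∃ v, B ((g : Matrix (Fin n ⊕ Fin n) (Fin n ⊕ Fin n) K) *ᵥ v) v = 1
    · exact step1 g le_rfl h1
    · push Not at h1
      have h0 : ∀ x, B ((g : Matrix (Fin n ⊕ Fin n) (Fin n ⊕ Fin n) K) *ᵥ x) x = 0 :=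
        fun x => (K_cases _).resolve_right (h1 x)
      have hmoved : ∃ x0, (g : Matrix (Fin n ⊕ Fin n) (Fin n ⊕ Fin n) K) *ᵥ x0 ≠ x0 := by
        by_contra hall
        push Not at hall
        apply hone
        apply Subtype.ext
        change (g : Matrix (Fin n ⊕ Fin n) (Fin n ⊕ Fin n) K) = 1
        rw [Matrix.ext_iff_mulVec]
        intro x
        rw [hall x, Matrix.one_mulVec]
      obtain ⟨x0, hx0⟩ := hmoved
      obtain ⟨a, hle, hex⟩ := case2 g.1 g.2 h0 x0 hx0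
      have hmem : Tg a * g ∈ Subgroup.closure (D n) := step1 (Tg a * g) hle hex
      have : g = Tg a * (Tg a * g) := by
        rw [← mul_assoc, Tg_mul_self, one_mul]
      rw [this]
      exact Subgroup.mul_mem _ (Tg_mem_closure _) hmem

theorem closure_D : Subgroup.closure (D n) = ⊤ := by
  rw [eq_top_iff]
  intro g _
  exact gen_aux _ g rfl


/-- In the symplectic group in dimension 2n ≥ 2 over the field with two elements, the elements g for which g - 1 has rank one (the symplectic transvections) form a conjugacy class of 3-transpositions generating the group. -/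
theorem result (n : ℕ) (hn : 1 ≤ n) : Cfsg.IsThreeTranspositionClass {g : Matrix.symplecticGroup (Fin n) (ZMod 2) | ((g : Matrix (Fin n ⊕ Fin n) (Fin n ⊕ Fin n) (ZMod 2)) - 1).rank = 1} := by
  change IsThreeTranspositionClass (D n)
  refine ⟨⟨?_, ?_⟩, ?_, closure_D⟩
  · intro d hd
    obtain ⟨a, ha, rfl⟩ := exists_Tg_of_mem_D d hd
    exact orderOf_Tg a ha
  · intro d hd e he
    obtain ⟨a, ha, rfl⟩ := exists_Tg_of_mem_D d hd
    obtain ⟨b, hb, rfl⟩ := exists_Tg_of_mem_D e he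
    exact Tg_three a b
  · -- a nonzero vector
    let a0 : Fin n ⊕ Fin n → K := Pi.single (Sum.inl ⟨0, by omega⟩) 1
    have ha0 : a0 ≠ 0 := by
      intro h
      have := congrFun h (Sum.inl ⟨0, by omega⟩)
      simp [a0] at this
    refine ⟨Tg a0, Tg_mem_D a0 ha0, ?_⟩
    ext g
    change g ∈ D n ↔ IsConj (Tg a0) g
    constructor
    · intro hg
      obtain ⟨b, hb, rfl⟩ := exists_Tg_of_mem_D g hg
      obtain ⟨h, _, hh⟩ := exists_move a0 b ha0 hb
      rw [isConj_iff]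
      refine ⟨h, ?_⟩
      rw [conj_Tg, hh]
    · intro hc
      obtain ⟨c, hc⟩ := isConj_iff.mp hc
      rw [← hc, conj_Tg]
      exact Tg_mem_D _ (mulVec_ne_zero c a0 ha0)

end Cfsg.Agent.S0440
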