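import Cfsg.Statements.S0752
import Cfsg.Agent.Lib.Helper13.AltForm

set_option autoImplicit false
open Cfsg

namespace Cfsg.Agent.S0752

open Cfsg.Agent.Lib.Helper13

variable {F V : Type*} [Field F] [AddCommGroup V] [Module F V]

/-- `e, f` is a family of mutually orthogonal hyperbolic pairs. -/
def IsHyp (B : LinearMap.BilinForm F V) {m : ℕ} (e f : Fin m → V) : Prop :=
  (∀ i j, B (e i) (f j) = if i = j then 1 else 0) ∧ (∀ i j, B (e i) (e j) = 0) ∧
    (∀ i j, B (f i) (f j) = 0)

theorem IsHyp.fe {B : LinearMap.BilinForm F V} (hA : B.IsAlt) {m : ℕ} {e f : Fin m → V}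
    (h : IsHyp B e f) (i j : Fin m) : B (f i) (e j) = if i = j then -1 else 0 := by
  rw [alt_swap hA, h.1]
  by_cases hij : i = j
  · subst hij; simp
  · have : ¬ j = i := fun hh => hij hh.symm
    simp [hij, this]

/-- The projection onto the span of a hyperbolic family. -/
def proj (B : LinearMap.BilinForm F V) {m : ℕ} (e f : Fin m → V) : V →ₗ[F] V :=
  ∑ i, ((B.flip (f i)).smulRight (e i) - (B.flip (e i)).smulRight (f i))

theorem proj_apply (B : LinearMap.BilinForm F V) {m : ℕ} (e f : Fin m → V) (v : V) :
    proj B e f v = ∑ i, (B v (f i) • e i - B v (e i) • f i) := by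
  simp [proj, LinearMap.sum_apply, LinearMap.smulRight_apply]

theorem proj_e {B : LinearMap.BilinForm F V} (_hA : B.IsAlt) {m : ℕ} {e f : Fin m → V}
    (h : IsHyp B e f) (j : Fin m) : proj B e f (e j) = e j := by
  rw [proj_apply, Finset.sum_eq_single j]
  · rw [h.1, h.2.1]; simp
  · intro i _ hij
    rw [h.1, h.2.1]
    have : ¬ j = i := fun hh => hij hh.symm
    simp [this]
  · intro hj; exact absurd (Finset.mem_univ j) hj

theorem proj_f {B : LinearMap.BilinForm F V} (hA : B.IsAlt) {m : ℕ} {e f : Fin m → V}
    (h : IsHyp B e f) (j : Fin m) : proj B e f (f j) = f j := by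
  rw [proj_apply, Finset.sum_eq_single j]
  · rw [h.2.2, h.fe hA]; simp
  · intro i _ hij
    rw [h.2.2, h.fe hA]
    have : ¬ j = i := fun hh => hij hh.symm
    simp [this]
  · intro hj; exact absurd (Finset.mem_univ j) hj

/-- The orthogonal complement of a hyperbolic family. -/
def orthCompl (B : LinearMap.BilinForm F V) {m : ℕ} (e f : Fin m → V) : Submodule F V where
  carrier := {w | ∀ i, B w (e i) = 0 ∧ B w (f i) = 0}
  add_mem' := by
    intro a b ha hb i
    simp only [Set.mem_ofPred_eq] at ha hb
    simp [(ha i).1, (ha i).2, (hb i).1, (hb i).2]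
  zero_mem' := by intro i; simp
  smul_mem' := by
    intro c a ha i
    simp only [Set.mem_ofPred_eq] at ha
    simp [(ha i).1, (ha i).2]

theorem mem_orthCompl {B : LinearMap.BilinForm F V} {m : ℕ} {e f : Fin m → V} {w : V} :
    w ∈ orthCompl B e f ↔ ∀ i, B w (e i) = 0 ∧ B w (f i) = 0 := Iff.rfl

theorem proj_of_mem_orthCompl {B : LinearMap.BilinForm F V} {m : ℕ} {e f : Fin m → V} {w : V}
    (hw : w ∈ orthCompl B e f) : proj B e f w = 0 := by
  rw [proj_apply]
  apply Finset.sum_eq_zero
  intro i _
  rw [(hw i).1, (hw i).2]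
  simp

theorem sub_proj_mem_orthCompl {B : LinearMap.BilinForm F V} (hA : B.IsAlt) {m : ℕ}
    {e f : Fin m → V} (h : IsHyp B e f) (v : V) : v - proj B e f v ∈ orthCompl B e f := by
  intro j
  constructor
  · rw [map_sub, LinearMap.sub_apply, proj_apply, map_sum, LinearMap.sum_apply,
      Finset.sum_eq_single j]
    · rw [map_sub, LinearMap.sub_apply, map_smul, map_smul, LinearMap.smul_apply,
        LinearMap.smul_apply, h.2.1, h.fe hA]
      simp
    · intro i _ hij
      rw [map_sub, LinearMap.sub_apply, map_smul, map_smul, LinearMap.smul_apply,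
        LinearMap.smul_apply, h.2.1, h.fe hA]
      simp [hij]
    · intro hj; exact absurd (Finset.mem_univ j) hj
  · rw [map_sub, LinearMap.sub_apply, proj_apply, map_sum, LinearMap.sum_apply,
      Finset.sum_eq_single j]
    · rw [map_sub, LinearMap.sub_apply, map_smul, map_smul, LinearMap.smul_apply,
        LinearMap.smul_apply, h.1, h.2.2]
      simp
    · intro i _ hij
      rw [map_sub, LinearMap.sub_apply, map_smul, map_smul, LinearMap.smul_apply,
        LinearMap.smul_apply, h.1, h.2.2]
      simp [hij]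
    · intro hj; exact absurd (Finset.mem_univ j) hj

theorem proj_mem_span (B : LinearMap.BilinForm F V) {m : ℕ} (e f : Fin m → V) (v : V) :
    proj B e f v ∈ Submodule.span F (Set.range (Sum.elim e f)) := by
  rw [proj_apply]
  apply Submodule.sum_mem
  intro i _
  apply Submodule.sub_mem
  · exact Submodule.smul_mem _ _ (Submodule.subset_span ⟨Sum.inl i, rfl⟩)
  · exact Submodule.smul_mem _ _ (Submodule.subset_span ⟨Sum.inr i, rfl⟩)

theorem proj_of_mem_span {B : LinearMap.BilinForm F V} (hA : B.IsAlt) {m : ℕ} {e f : Fin m → V}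
    (h : IsHyp B e f) {x : V} (hx : x ∈ Submodule.span F (Set.range (Sum.elim e f))) :
    proj B e f x = x := by
  induction hx using Submodule.span_induction with
  | mem v hv =>
    obtain ⟨i, rfl⟩ := hv
    cases i with
    | inl j => exact proj_e hA h j
    | inr j => exact proj_f hA h j
  | zero => simp
  | add u v _ _ hu hv => rw [map_add, hu, hv]
  | smul a u _ hu => rw [map_smul, hu]

theorem hyp_linearIndependent {B : LinearMap.BilinForm F V} (hA : B.IsAlt) {m : ℕ}
    {e f : Fin m → V} (h : IsHyp B e f) : LinearIndependent F (Sum.elim e f) := by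
  rw [Fintype.linearIndependent_iff]
  intro g hg
  rw [Fintype.sum_sum_type] at hg
  simp only [Sum.elim_inl, Sum.elim_inr] at hg
  intro i
  cases i with
  | inl j =>
    have := congrArg (fun x => B x (f j)) hg
    simp only [map_add, map_sum, map_smul, LinearMap.add_apply, LinearMap.sum_apply,
      LinearMap.smul_apply, h.1, h.2.2, smul_eq_mul, mul_zero, Finset.sum_const_zero, add_zero,
      mul_ite, mul_one, Finset.sum_ite_eq', Finset.mem_univ, if_true, map_zero,
      LinearMap.zero_apply] at this
    exact this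
  | inr j =>
    have := congrArg (fun x => B x (e j)) hg
    simp only [map_add, map_sum, map_smul, LinearMap.add_apply, LinearMap.sum_apply,
      LinearMap.smul_apply, h.2.1, h.fe hA, smul_eq_mul, mul_zero, Finset.sum_const_zero,
      zero_add, mul_ite, mul_neg, mul_one, Finset.sum_ite_eq', Finset.mem_univ, if_true, map_zero,
      LinearMap.zero_apply, neg_eq_zero] at this
    exact this

theorem hyp_snoc {B : LinearMap.BilinForm F V} (hA : B.IsAlt) {m : ℕ} {e f : Fin m → V}
    (h : IsHyp B e f) {w w' : V} (hw : w ∈ orthCompl B e f) (hw' : w' ∈ orthCompl B e f)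
    (hww : B w w' = 1) :
    IsHyp B (Fin.snoc e w : Fin (m + 1) → V) (Fin.snoc f w' : Fin (m + 1) → V) := by
  refine ⟨?_, ?_, ?_⟩
  · intro i j
    rcases Fin.eq_castSucc_or_eq_last i with ⟨i', rfl⟩ | rfl
    · rcases Fin.eq_castSucc_or_eq_last j with ⟨j', rfl⟩ | rfl
      · simp only [Fin.snoc_castSucc, h.1, Fin.castSucc_inj]
      · simp only [Fin.snoc_castSucc, Fin.snoc_last]
        rw [alt_swap hA, (hw' i').1]
        have : Fin.castSucc i' ≠ Fin.last m := (Fin.castSucc_lt_last i').ne
        simp [this]
    · rcases Fin.eq_castSucc_or_eq_last j with ⟨j', rfl⟩ | rfl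
      · simp only [Fin.snoc_castSucc, Fin.snoc_last]
        rw [(hw j').2]
        have : Fin.last m ≠ Fin.castSucc j' := (Fin.castSucc_lt_last j').ne'
        simp [this]
      · simp only [Fin.snoc_last, hww, if_true]
  · intro i j
    rcases Fin.eq_castSucc_or_eq_last i with ⟨i', rfl⟩ | rfl
    · rcases Fin.eq_castSucc_or_eq_last j with ⟨j', rfl⟩ | rfl
      · simp only [Fin.snoc_castSucc, h.2.1]
      · simp only [Fin.snoc_castSucc, Fin.snoc_last]
        rw [alt_swap hA, (hw i').1, neg_zero]
    · rcases Fin.eq_castSucc_or_eq_last j with ⟨j', rfl⟩ | rfl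
      · simp only [Fin.snoc_castSucc, Fin.snoc_last]
        exact (hw j').1
      · simp only [Fin.snoc_last]
        exact hA w
  · intro i j
    rcases Fin.eq_castSucc_or_eq_last i with ⟨i', rfl⟩ | rfl
    · rcases Fin.eq_castSucc_or_eq_last j with ⟨j', rfl⟩ | rfl
      · simp only [Fin.snoc_castSucc, h.2.2]
      · simp only [Fin.snoc_castSucc, Fin.snoc_last]
        rw [alt_swap hA, (hw' i').2, neg_zero]
    · rcases Fin.eq_castSucc_or_eq_last j with ⟨j', rfl⟩ | rfl
      · simp only [Fin.snoc_castSucc, Fin.snoc_last]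
        exact (hw' j').2
      · simp only [Fin.snoc_last]
        exact hA w'

/-- There is a maximal hyperbolic family. -/
theorem exists_max_hyp [FiniteDimensional F V] (B : LinearMap.BilinForm F V) (hA : B.IsAlt) :
    ∃ (m : ℕ) (e f : Fin m → V), IsHyp B e f ∧
      ¬ ∃ (e' f' : Fin (m + 1) → V), IsHyp B e' f' := by
  by_contra hcon
  push Not at hcon
  have hall : ∀ m : ℕ, ∃ (e f : Fin m → V), IsHyp B e f := by
    intro m
    induction m with
    | zero =>
      exact ⟨Fin.elim0, Fin.elim0, fun i => i.elim0, fun i => i.elim0, fun i => i.elim0⟩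
    | succ m ih =>
      obtain ⟨e, f, h⟩ := ih
      exact hcon m e f h
  obtain ⟨e, f, h⟩ := hall (Module.finrank F V + 1)
  have hli := hyp_linearIndependent hA h
  have := hli.fintype_card_le_finrank
  simp only [Fintype.card_sum, Fintype.card_fin] at this
  omega

/-- Classification of alternating forms: for an alternating bilinear form B on a finite-dimensional space over any field there is a basis indexed by (Fin m ⊕ Fin m) ⊕ Fin k such that B (e_i, f_j) = δ_ij, the e's are pairwise orthogonal, the f's are pairwise orthogonal, and the last k basis vectors are orthogonal to everything (they span the radical). -/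
theorem result {F V : Type*} [Field F] [AddCommGroup V] [Module F V] [FiniteDimensional F V] (B : LinearMap.BilinForm F V) (hA : B.IsAlt) : ∃ (m k : ℕ) (b : Module.Basis ((Fin m ⊕ Fin m) ⊕ Fin k) F V), (∀ i j : Fin m, B (b (Sum.inl (Sum.inl i))) (b (Sum.inl (Sum.inr j))) = if i = j then 1 else 0) ∧ (∀ i j : Fin m, B (b (Sum.inl (Sum.inl i))) (b (Sum.inl (Sum.inl j))) = 0) ∧ (∀ i j : Fin m, B (b (Sum.inl (Sum.inr i))) (b (Sum.inl (Sum.inr j))) = 0) ∧ (∀ (j : Fin k) (v : V), B (b (Sum.inr j)) v = 0) := by
  classical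
  obtain ⟨m, e, f, h, hmax⟩ := exists_max_hyp B hA
  set W := orthCompl B e f with hW
  set U := Submodule.span F (Set.range (Sum.elim e f)) with hU
  -- W is totally isotropic by maximality
  have hWiso : ∀ w ∈ W, ∀ w' ∈ W, B w w' = 0 := by
    intro w hw w' hw'
    by_contra hne
    apply hmax
    refine ⟨Fin.snoc e w, Fin.snoc f ((B w w')⁻¹ • w'), hyp_snoc hA h hw (W.smul_mem _ hw') ?_⟩
    rw [map_smul, smul_eq_mul, inv_mul_cancel₀ hne]
  -- W is in the radical
  have hWrad : ∀ w ∈ W, ∀ v : V, B w v = 0 := by
    intro w hw v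
    have h1 : v = (v - proj B e f v) + proj B e f v := by abel
    rw [h1, map_add, hWiso w hw _ (sub_proj_mem_orthCompl hA h v), zero_add, proj_apply, map_sum]
    apply Finset.sum_eq_zero
    intro i _
    rw [map_sub, map_smul, map_smul, (hw i).1, (hw i).2]
    simp
  -- complement
  have hcompl : IsCompl U W := by
    constructor
    · rw [Submodule.disjoint_def]
      intro x hxU hxW
      rw [← proj_of_mem_span hA h hxU]
      exact proj_of_mem_orthCompl hxW
    · rw [codisjoint_iff, eq_top_iff]
      intro v _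
      have h1 : v = proj B e f v + (v - proj B e f v) := by abel
      rw [h1]
      exact Submodule.add_mem_sup (proj_mem_span B e f v) (sub_proj_mem_orthCompl hA h v)
  set bU : Module.Basis (Fin m ⊕ Fin m) F U := Module.Basis.span (hyp_linearIndependent hA h)
    with hbU
  set k := Module.finrank F W with hk
  set bW : Module.Basis (Fin k) F W := Module.finBasis F W with hbW
  set b : Module.Basis ((Fin m ⊕ Fin m) ⊕ Fin k) F V :=
    (bU.prod bW).map (Submodule.prodEquivOfIsCompl U W hcompl) with hb
  have hbl : ∀ i, b (Sum.inl i) = Sum.elim e f i := by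
    intro i
    rw [hb, Module.Basis.map_apply, Submodule.coe_prodEquivOfIsCompl', Module.Basis.prod_apply]
    simp only [Sum.elim_inl, Function.comp_apply, LinearMap.inl_apply, ZeroMemClass.coe_zero,
      add_zero]
    rw [hbU, Module.Basis.span_apply (hyp_linearIndependent hA h) i]
  have hbr : ∀ j, b (Sum.inr j) = (bW j : V) := by
    intro j
    rw [hb, Module.Basis.map_apply, Submodule.coe_prodEquivOfIsCompl', Module.Basis.prod_apply]
    simp
  refine ⟨m, k, b, ?_, ?_, ?_, ?_⟩
  · intro i j
    rw [hbl, hbl]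
    exact h.1 i j
  · intro i j
    rw [hbl, hbl]
    exact h.2.1 i j
  · intro i j
    rw [hbl, hbl]
    exact h.2.2 i j
  · intro j v
    rw [hbr]
    exact hWrad _ (bW j).2 v

end Cfsg.Agent.S0752
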