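import Cfsg.Statements.S0837
import Mathlib
import Cfsg.Agent.Lib.Helper13.Herm
import Cfsg.Agent.Lib.Helper36.HermOrtho

set_option autoImplicit false
open Cfsg

namespace Cfsg.Agent.S0837

open Matrix Module

section general
variable {F : Type*} [Field F] (σ : F →+* F)

/-- `σ`-conjugate transpose of a rectangular matrix. -/
def hs {m n : Type*} (M : Matrix m n F) : Matrix n m F := (M.map σ)ᵀ

theorem hs_apply {m n : Type*} (M : Matrix m n F) (i : n) (j : m) : hs σ M i j = σ (M j i) := rfl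

theorem hs_mul {l m n : Type*} [Fintype m] (M : Matrix l m F) (N : Matrix m n F) :
    hs σ (M * N) = hs σ N * hs σ M := by
  unfold hs; rw [Matrix.map_mul, Matrix.transpose_mul]

theorem hs_one {n : Type*} [DecidableEq n] : hs σ (1 : Matrix n n F) = 1 := by
  unfold hs; rw [Matrix.map_one _ (map_zero σ) (map_one σ), transpose_one]

theorem hs_zero {m n : Type*} : hs σ (0 : Matrix m n F) = 0 := by
  ext i j; simp [hs_apply]

theorem hs_hs (hσ2 : ∀ a, σ (σ a) = a) {m n : Type*} (M : Matrix m n F) : hs σ (hs σ M) = M := by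
  ext i j; simp [hs_apply, hσ2]

theorem hs_fromBlocks {l m n o : Type*} (A : Matrix n l F) (B : Matrix n m F) (C : Matrix o l F)
    (D : Matrix o m F) :
    hs σ (fromBlocks A B C D) = fromBlocks (hs σ A) (hs σ C) (hs σ B) (hs σ D) := by
  unfold hs; rw [fromBlocks_map, fromBlocks_transpose]

/-- the `σ`-Hermitian form on column vectors. -/
def hf {m : Type*} [Fintype m] (u v : m → F) : F := ∑ i, u i * σ (v i)

theorem hf_adjoint {m n : Type*} [Fintype m] [Fintype n] (M : Matrix m n F) (u : m → F) (x : n → F) :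
    hf σ u (M *ᵥ x) = hf σ (hs σ M *ᵥ u) x := by
  unfold hf
  simp only [mulVec, dotProduct, map_sum, map_mul, hs_apply, Finset.mul_sum, Finset.sum_mul]
  rw [Finset.sum_comm]
  refine Finset.sum_congr rfl fun j _ => Finset.sum_congr rfl fun i _ => ?_
  ring

theorem hf_symm (hσ2 : ∀ a, σ (σ a) = a) {m : Type*} [Fintype m] (u v : m → F) :
    hf σ u v = σ (hf σ v u) := by
  unfold hf
  simp only [map_sum, map_mul, hσ2]
  exact Finset.sum_congr rfl fun i _ => mul_comm _ _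

theorem hf_adjoint_left (hσ2 : ∀ a, σ (σ a) = a) {m n : Type*} [Fintype m] [Fintype n]
    (M : Matrix m n F) (u : m → F) (x : n → F) :
    hf σ (M *ᵥ x) u = hf σ x (hs σ M *ᵥ u) := by
  rw [hf_symm σ hσ2, hf_adjoint, ← hf_symm σ hσ2]

theorem hs_mul_apply {l m n : Type*} [Fintype l] (M : Matrix l m F) (N : Matrix l n F) (i : m)
    (j : n) : (hs σ M * N) i j = hf σ (N.col j) (M.col i) := by
  unfold hf
  simp only [Matrix.mul_apply, hs_apply, Matrix.col_apply]
  exact Finset.sum_congr rfl fun i _ => mul_comm _ _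

theorem hf_single_right {m : Type*} [Fintype m] [DecidableEq m] (u : m → F) (i : m) :
    hf σ u (Pi.single i 1) = u i := by
  unfold hf
  rw [Finset.sum_eq_single i]
  · simp
  · intro j _ hj; simp [Pi.single_eq_of_ne hj]
  · simp

theorem hf_single_single {m : Type*} [Fintype m] [DecidableEq m] (i j : m) :
    hf σ (Pi.single i (1 : F)) (Pi.single j 1) = if i = j then 1 else 0 := by
  rw [hf_single_right, Pi.single_apply]
  simp [eq_comm]

theorem hf_zero_left {m : Type*} [Fintype m] (v : m → F) : hf σ 0 v = 0 := by simp [hf]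

theorem hf_add_right {m : Type*} [Fintype m] (u v w : m → F) :
    hf σ u (v + w) = hf σ u v + hf σ u w := by
  simp [hf, mul_add, Finset.sum_add_distrib]

theorem hermForm_eq_hf {n q : ℕ} (hσ : ∀ x, σ x = x ^ q) (u v : Fin n → F) :
    Cfsg.hermForm n F q u v = hf σ u v := by
  unfold Cfsg.hermForm hf
  simp only [hσ]

theorem mem_GU_iff {n q : ℕ} (hσ : ∀ x, σ x = x ^ q)
    (g : Matrix.GeneralLinearGroup (Fin n) F) :
    g ∈ Cfsg.GU n F q ↔ hs σ (g : Matrix (Fin n) (Fin n) F) * (g : Matrix (Fin n) (Fin n) F) = 1 := by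
  constructor
  · intro hg
    ext i j
    have h := hg (Pi.single j 1) (Pi.single i 1)
    simp only [Units.coeHom_apply, mulVec_single_one, hermForm_eq_hf σ hσ] at h
    rw [hs_mul_apply, h, hf_single_single, Matrix.one_apply]
    simp [eq_comm]
  · intro h u v
    simp only [Units.coeHom_apply, hermForm_eq_hf σ hσ]
    rw [hf_adjoint, mulVec_mulVec, h, one_mulVec]

end general



section core
variable {F : Type*} [Field F] (σ : F →+* F)
variable {n k m : ℕ} (P : Matrix (Fin n) (Fin k ⊕ Fin m) F)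

/-- `(A, A') ↦ P diag(A, A') P^*` -/
def psiMat (X : Matrix (Fin k) (Fin k) F × Matrix (Fin m) (Fin m) F) : Matrix (Fin n) (Fin n) F :=
  P * fromBlocks X.1 0 0 X.2 * hs σ P

theorem psiMat_mul (h1 : hs σ P * P = 1)
    (X Y : Matrix (Fin k) (Fin k) F × Matrix (Fin m) (Fin m) F) :
    psiMat σ P (X * Y) = psiMat σ P X * psiMat σ P Y := by
  unfold psiMat
  have : P * fromBlocks X.1 0 0 X.2 * hs σ P * (P * fromBlocks Y.1 0 0 Y.2 * hs σ P)
      = P * (fromBlocks X.1 0 0 X.2 * (hs σ P * P) * fromBlocks Y.1 0 0 Y.2) * hs σ P := by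
    simp only [Matrix.mul_assoc]
  rw [this, h1, Matrix.mul_one, fromBlocks_multiply]
  simp

def psiHom (h1 : hs σ P * P = 1) (h2 : P * hs σ P = 1) :
    Matrix (Fin k) (Fin k) F × Matrix (Fin m) (Fin m) F →* Matrix (Fin n) (Fin n) F where
  toFun := psiMat σ P
  map_one' := by
    show P * fromBlocks (1 : Matrix (Fin k) (Fin k) F) 0 0 (1 : Matrix (Fin m) (Fin m) F) * hs σ P = 1
    rw [fromBlocks_one, Matrix.mul_one, h2]
  map_mul' := psiMat_mul σ P h1

/-- the induced hom on general linear groups -/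
def psiGL (h1 : hs σ P * P = 1) (h2 : P * hs σ P = 1) :
    Matrix.GeneralLinearGroup (Fin k) F × Matrix.GeneralLinearGroup (Fin m) F →*
      Matrix.GeneralLinearGroup (Fin n) F :=
  (Units.map (psiHom σ P h1 h2)).comp (MulEquiv.prodUnits.symm.toMonoidHom)

theorem psiGL_coe (h1 : hs σ P * P = 1) (h2 : P * hs σ P = 1)
    (X : Matrix.GeneralLinearGroup (Fin k) F × Matrix.GeneralLinearGroup (Fin m) F) :
    ((psiGL σ P h1 h2 X : Matrix.GeneralLinearGroup (Fin n) F) : Matrix (Fin n) (Fin n) F) =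
      P * fromBlocks (X.1 : Matrix (Fin k) (Fin k) F) 0 0 (X.2 : Matrix (Fin m) (Fin m) F) * hs σ P :=
  rfl

theorem psiGL_injective (h1 : hs σ P * P = 1) (h2 : P * hs σ P = 1) :
    Function.Injective (psiGL σ P h1 h2) := by
  intro X Y hXY
  have h := congrArg (fun g : Matrix.GeneralLinearGroup (Fin n) F => (g : Matrix (Fin n) (Fin n) F)) hXY
  simp only [psiGL_coe] at h
  have h3 : hs σ P * (P * fromBlocks (X.1 : Matrix (Fin k) (Fin k) F) 0 0
      (X.2 : Matrix (Fin m) (Fin m) F) * hs σ P) * P = hs σ P * (P * fromBlocks (Y.1 : Matrix (Fin k) (Fin k) F) 0 0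
      (Y.2 : Matrix (Fin m) (Fin m) F) * hs σ P) * P := by rw [h]
  have h4 : ∀ D : Matrix (Fin k ⊕ Fin m) (Fin k ⊕ Fin m) F,
      hs σ P * (P * D * hs σ P) * P = D := by
    intro D
    calc hs σ P * (P * D * hs σ P) * P = (hs σ P * P) * D * (hs σ P * P) := by
          simp only [Matrix.mul_assoc]
      _ = D := by rw [h1, Matrix.one_mul, Matrix.mul_one]
  rw [h4, h4, fromBlocks_inj] at h3
  exact Prod.ext (Units.ext h3.1) (Units.ext h3.2.2.2)

end core


section range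
variable {F : Type*} [Field F] (σ : F →+* F)
variable {n k m : ℕ} (P : Matrix (Fin n) (Fin k ⊕ Fin m) F)

theorem hsP_mulVec_apply (v : Fin n → F) (a : Fin k ⊕ Fin m) :
    (hs σ P *ᵥ v) a = hf σ v (P.col a) := by
  unfold hf
  simp only [mulVec, dotProduct, hs_apply, Matrix.col_apply]
  exact Finset.sum_congr rfl fun i _ => mul_comm _ _

theorem psi_mem_GU {q : ℕ} (hσ : ∀ x, σ x = x ^ q) (hσ2 : ∀ a, σ (σ a) = a)
    (h1 : hs σ P * P = 1) (h2 : P * hs σ P = 1)
    (X : Matrix.GeneralLinearGroup (Fin k) F × Matrix.GeneralLinearGroup (Fin m) F)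
    (hX1 : X.1 ∈ Cfsg.GU k F q) (hX2 : X.2 ∈ Cfsg.GU m F q) :
    psiGL σ P h1 h2 X ∈ Cfsg.GU n F q := by
  rw [mem_GU_iff σ hσ, psiGL_coe]
  rw [mem_GU_iff σ hσ] at hX1 hX2
  rw [hs_mul, hs_mul, hs_hs σ hσ2, hs_fromBlocks, hs_zero, hs_zero]
  set A := (X.1 : Matrix (Fin k) (Fin k) F)
  set A' := (X.2 : Matrix (Fin m) (Fin m) F)
  calc P * (fromBlocks (hs σ A) 0 0 (hs σ A') * hs σ P) * (P * fromBlocks A 0 0 A' * hs σ P)
      = P * (fromBlocks (hs σ A) 0 0 (hs σ A') * (hs σ P * P) * fromBlocks A 0 0 A') * hs σ P := by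
        simp only [Matrix.mul_assoc]
    _ = 1 := by
        rw [h1, Matrix.mul_one, fromBlocks_multiply]
        simp only [Matrix.mul_zero, Matrix.zero_mul, add_zero, zero_add, hX1, hX2]
        rw [fromBlocks_one, Matrix.mul_one, h2]

theorem psi_mem_stab (h1 : hs σ P * P = 1) (h2 : P * hs σ P = 1)
    (W : Submodule F (Fin n → F))
    (hWP : ∀ v, v ∈ W ↔ ∀ j : Fin m, (hs σ P *ᵥ v) (Sum.inr j) = 0)
    (X : Matrix.GeneralLinearGroup (Fin k) F × Matrix.GeneralLinearGroup (Fin m) F) :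
    psiGL σ P h1 h2 X ∈ Cfsg.stabilizing (Cfsg.glToMat (Fin n) F) (W : Set (Fin n → F)) := by
  intro v
  simp only [SetLike.mem_coe, Units.coeHom_apply, psiGL_coe, hWP]
  set A := (X.1 : Matrix (Fin k) (Fin k) F)
  set A' := (X.2 : Matrix (Fin m) (Fin m) F)
  have key : hs σ P *ᵥ ((P * fromBlocks A 0 0 A' * hs σ P) *ᵥ v)
      = fromBlocks A 0 0 A' *ᵥ (hs σ P *ᵥ v) := by
    rw [mulVec_mulVec, mulVec_mulVec]
    congr 1
    calc hs σ P * (P * fromBlocks A 0 0 A' * hs σ P)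
        = (hs σ P * P) * fromBlocks A 0 0 A' * hs σ P := by simp only [Matrix.mul_assoc]
      _ = fromBlocks A 0 0 A' * hs σ P := by rw [h1, Matrix.one_mul]
  rw [key, fromBlocks_mulVec]
  set y := hs σ P *ᵥ v
  simp only [Sum.elim_inr, Matrix.zero_mulVec, zero_add]
  constructor
  · intro h j
    have : y ∘ Sum.inr = 0 := by
      ext j; exact h j
    rw [this, Matrix.mulVec_zero]; rfl
  · intro h j
    have h0 : A' *ᵥ (y ∘ Sum.inr) = 0 := by
      ext j; exact h j
    have h3 : ((X.2⁻¹ : Matrix.GeneralLinearGroup (Fin m) F) : Matrix (Fin m) (Fin m) F) *ᵥ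
        (A' *ᵥ (y ∘ Sum.inr)) = y ∘ Sum.inr := by
      rw [mulVec_mulVec]
      have : ((X.2⁻¹ : Matrix.GeneralLinearGroup (Fin m) F) : Matrix (Fin m) (Fin m) F) * A' = 1 := by
        show ((X.2⁻¹ : Matrix.GeneralLinearGroup (Fin m) F) : Matrix (Fin m) (Fin m) F) *
          (X.2 : Matrix (Fin m) (Fin m) F) = 1
        rw [← Units.val_mul, inv_mul_cancel, Units.val_one]
      rw [this, one_mulVec]
    rw [h0, Matrix.mulVec_zero] at h3
    exact (congrFun h3 j).symm

end range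


section surj
variable {F : Type*} [Field F] (σ : F →+* F)
variable {n k m : ℕ} (P : Matrix (Fin n) (Fin k ⊕ Fin m) F)

theorem exists_preimage {q : ℕ} (hσ : ∀ x, σ x = x ^ q) (hσ2 : ∀ a, σ (σ a) = a)
    (h1 : hs σ P * P = 1) (h2 : P * hs σ P = 1)
    (W : Submodule F (Fin n → F))
    (hWP : ∀ v, v ∈ W ↔ ∀ j : Fin m, (hs σ P *ᵥ v) (Sum.inr j) = 0)
    (g : Matrix.GeneralLinearGroup (Fin n) F)
    (hgS : g ∈ Cfsg.stabilizing (Cfsg.glToMat (Fin n) F) (W : Set (Fin n → F)))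
    (hgU : g ∈ Cfsg.GU n F q) :
    ∃ X : Matrix.GeneralLinearGroup (Fin k) F × Matrix.GeneralLinearGroup (Fin m) F,
      X.1 ∈ Cfsg.GU k F q ∧ X.2 ∈ Cfsg.GU m F q ∧ psiGL σ P h1 h2 X = g := by
  set G := (g : Matrix (Fin n) (Fin n) F) with hG
  rw [mem_GU_iff σ hσ] at hgU
  set D := hs σ P * G * P with hD
  have hDD : hs σ D * D = 1 := by
    rw [hD, hs_mul, hs_mul, hs_hs σ hσ2]
    calc hs σ P * (hs σ G * P) * (hs σ P * G * P)
        = hs σ P * (hs σ G * (P * hs σ P) * G) * P := by simp only [Matrix.mul_assoc]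
      _ = 1 := by rw [h2, Matrix.mul_one, hgU, Matrix.mul_one, h1]
  have hPDP : P * D * hs σ P = G := by
    calc P * D * hs σ P = (P * hs σ P) * G * (P * hs σ P) := by
          rw [hD]; simp only [Matrix.mul_assoc]
      _ = G := by rw [h2, Matrix.one_mul, Matrix.mul_one]
  -- lower-left block vanishes
  have h21 : D.toBlocks₂₁ = 0 := by
    ext j i
    show D (Sum.inr j) (Sum.inl i) = 0
    have hcol : P.col (Sum.inl i) ∈ W := by
      rw [hWP]
      intro j'
      rw [← mulVec_single_one, mulVec_mulVec, h1, one_mulVec]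
      simp
    have hmem : G *ᵥ P.col (Sum.inl i) ∈ W := (hgS _).mp hcol
    have := (hWP _).mp hmem j
    rw [← mulVec_single_one, mulVec_mulVec, mulVec_mulVec, mulVec_single_one] at this
    exact this
  obtain ⟨A, B, C, E, hABCE⟩ : ∃ A B C E, D = fromBlocks A B C E :=
    ⟨_, _, _, _, (fromBlocks_toBlocks D).symm⟩
  have hC : C = 0 := by
    have : D.toBlocks₂₁ = C := by rw [hABCE, toBlocks_fromBlocks₂₁]
    rw [← this, h21]
  subst hC
  rw [hABCE, hs_fromBlocks, fromBlocks_multiply, ← fromBlocks_one, fromBlocks_inj] at hDD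
  simp only [hs_zero, Matrix.zero_mul, Matrix.mul_zero, add_zero] at hDD
  obtain ⟨hAA, hAB, -, hEE⟩ := hDD
  have hAA' : A * hs σ A = 1 := mul_eq_one_comm.mp hAA
  have hB : B = 0 := by
    calc B = (A * hs σ A) * B := by rw [hAA', Matrix.one_mul]
      _ = 0 := by rw [Matrix.mul_assoc, hAB, Matrix.mul_zero]
  subst hB
  simp only [hs_zero, Matrix.zero_mul, zero_add] at hEE
  have hEE' : E * hs σ E = 1 := mul_eq_one_comm.mp hEE
  refine ⟨(⟨A, hs σ A, hAA', hAA⟩, ⟨E, hs σ E, hEE', hEE⟩), ?_, ?_, ?_⟩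
  · rw [mem_GU_iff σ hσ]; exact hAA
  · rw [mem_GU_iff σ hσ]; exact hEE
  · apply Units.ext
    rw [psiGL_coe]
    show P * fromBlocks A 0 0 E * hs σ P = G
    rw [← hABCE, hPDP]

end surj


section assemble
variable {F : Type*} [Field F] (σ : F →+* F)
variable {n k m : ℕ} (P : Matrix (Fin n) (Fin k ⊕ Fin m) F)

theorem iso_of_frame {q : ℕ} (hσ : ∀ x, σ x = x ^ q) (hσ2 : ∀ a, σ (σ a) = a)
    (h1 : hs σ P * P = 1) (h2 : P * hs σ P = 1)
    (W : Submodule F (Fin n → F))
    (hWP : ∀ v, v ∈ W ↔ ∀ j : Fin m, (hs σ P *ᵥ v) (Sum.inr j) = 0) :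
    Nonempty (↥((Cfsg.stabilizing (Cfsg.glToMat (Fin n) F) (W : Set (Fin n → F))).subgroupOf
      (Cfsg.GU n F q)) ≃* ↥(Cfsg.GU k F q) × ↥(Cfsg.GU m F q)) := by
  set S := Cfsg.stabilizing (Cfsg.glToMat (Fin n) F) (W : Set (Fin n → F)) with hS
  set f : ↥(Cfsg.GU k F q) × ↥(Cfsg.GU m F q) →* Matrix.GeneralLinearGroup (Fin n) F :=
    (psiGL σ P h1 h2).comp ((Cfsg.GU k F q).subtype.prodMap (Cfsg.GU m F q).subtype) with hf
  have hinj : Function.Injective f := by
    intro X Y hXY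
    have := psiGL_injective σ P h1 h2 hXY
    have h3 : ((X.1 : Matrix.GeneralLinearGroup (Fin k) F), (X.2 : Matrix.GeneralLinearGroup (Fin m) F))
        = ((Y.1 : Matrix.GeneralLinearGroup (Fin k) F), (Y.2 : Matrix.GeneralLinearGroup (Fin m) F)) :=
      this
    rw [Prod.mk.injEq] at h3
    exact Prod.ext (Subtype.ext h3.1) (Subtype.ext h3.2)
  have hrange : f.range = S ⊓ Cfsg.GU n F q := by
    ext g
    constructor
    · rintro ⟨X, rfl⟩
      exact ⟨psi_mem_stab σ P h1 h2 W hWP _,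
        psi_mem_GU σ P hσ hσ2 h1 h2 _ X.1.2 X.2.2⟩
    · rintro ⟨hgS, hgU⟩
      obtain ⟨X, hX1, hX2, hX⟩ := exists_preimage σ P hσ hσ2 h1 h2 W hWP g hgS hgU
      exact ⟨(⟨X.1, hX1⟩, ⟨X.2, hX2⟩), hX⟩
  have e1 := MonoidHom.ofInjective hinj
  have e2 := MulEquiv.subgroupCongr hrange
  have e3 : ↥((S ⊓ Cfsg.GU n F q).subgroupOf (Cfsg.GU n F q)) ≃* ↥(S ⊓ Cfsg.GU n F q) :=
    Subgroup.subgroupOfEquivOfLe inf_le_right
  have e4 : ↥(S.subgroupOf (Cfsg.GU n F q)) ≃*
      ↥((S ⊓ Cfsg.GU n F q).subgroupOf (Cfsg.GU n F q)) :=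
    MulEquiv.subgroupCongr (Subgroup.inf_subgroupOf_right S (Cfsg.GU n F q)).symm
  exact ⟨(e4.trans e3).trans (e1.trans e2).symm⟩

end assemble


section geometry
variable {F : Type*} [Field F] (σ : F →+* F)

theorem hf_add_left {m : Type*} [Fintype m] (u v w : m → F) :
    hf σ (u + v) w = hf σ u w + hf σ v w := by
  simp [hf, add_mul, Finset.sum_add_distrib]

theorem hf_smul_left {m : Type*} [Fintype m] (c : F) (u w : m → F) :
    hf σ (c • u) w = c * hf σ u w := by
  simp [hf, Finset.mul_sum, mul_assoc]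

theorem hf_smul_right {m : Type*} [Fintype m] (c : F) (u w : m → F) :
    hf σ u (c • w) = σ c * hf σ u w := by
  simp only [hf, Finset.mul_sum, Pi.smul_apply, smul_eq_mul, map_mul]
  exact Finset.sum_congr rfl fun i _ => by ring

theorem hf_sub_left {m : Type*} [Fintype m] (u v w : m → F) :
    hf σ (u - v) w = hf σ u w - hf σ v w := by
  simp [hf, sub_mul, Finset.sum_sub_distrib]

/-- the sesquilinear form as a Mathlib semilinear map (semilinear in the first variable). -/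
def BV (n : ℕ) : (Fin n → F) →ₛₗ[σ] (Fin n → F) →ₗ[F] F :=
  LinearMap.mk₂'ₛₗ σ (RingHom.id F) (fun v u => hf σ u v)
    (fun v₁ v₂ u => hf_add_right σ u v₁ v₂)
    (fun c v u => by simp only [hf_smul_right, smul_eq_mul])
    (fun v u₁ u₂ => hf_add_left σ u₁ u₂ v)
    (fun c v u => by simp only [hf_smul_left, smul_eq_mul, RingHom.id_apply])

theorem BV_apply (n : ℕ) (v u : Fin n → F) : BV σ n v u = hf σ u v := rfl

theorem BW_symm (hσ2 : ∀ a, σ (σ a) = a) {n : ℕ} (W : Submodule F (Fin n → F)) :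
    ((BV σ n).domRestrict₁₂ W W).IsSymm := by
  refine ⟨fun x y => ?_⟩
  rw [LinearMap.domRestrict₁₂_apply, LinearMap.domRestrict₁₂_apply, BV_apply, BV_apply]
  exact (hf_symm σ hσ2 _ _).symm

theorem BW_nondeg (hσ2 : ∀ a, σ (σ a) = a) {n : ℕ} (W : Submodule F (Fin n → F))
    (hW : ∀ u ∈ W, (∀ v ∈ W, hf σ u v = 0) → u = 0) :
    ((BV σ n).domRestrict₁₂ W W).Nondegenerate := by
  constructor
  · intro x hx
    apply Subtype.ext
    apply hW x x.2
    intro v hv
    have := hx ⟨v, hv⟩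
    rw [LinearMap.domRestrict₁₂_apply, BV_apply] at this
    rw [hf_symm σ hσ2, this, map_zero]
  · intro y hy
    apply Subtype.ext
    apply hW y y.2
    intro v hv
    have := hy ⟨v, hv⟩
    rw [LinearMap.domRestrict₁₂_apply, BV_apply] at this
    exact this

theorem exists_frame [Finite F] (hσ : σ ≠ RingHom.id F) (hσ2 : ∀ a, σ (σ a) = a) {n : ℕ}
    (W : Submodule F (Fin n → F)) (hW : ∀ u ∈ W, (∀ v ∈ W, hf σ u v = 0) → u = 0) :
    ∃ E : Matrix (Fin n) (Fin (finrank F W)) F, hs σ E * E = 1 ∧ (∀ x, E *ᵥ x ∈ W) ∧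
      ∀ w ∈ W, ∃ x, E *ᵥ x = w := by
  obtain ⟨b, hb⟩ := Cfsg.Agent.Lib.Helper36.exists_orthonormal_basis σ hσ hσ2
    ((BV σ n).domRestrict₁₂ W W) (BW_symm σ hσ2 W) (BW_nondeg σ hσ2 W hW)
  set E : Matrix (Fin n) (Fin (finrank F W)) F := Matrix.of fun l i => (b i : Fin n → F) l with hE
  have hEmul : ∀ x : Fin (finrank F W) → F, E *ᵥ x = ((∑ i, x i • b i : W) : Fin n → F) := by
    intro x
    ext l
    simp only [mulVec, dotProduct, hE, Matrix.of_apply, Submodule.coe_sum, Submodule.coe_smul,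
      Finset.sum_apply, Pi.smul_apply, smul_eq_mul]
    exact Finset.sum_congr rfl fun i _ => mul_comm _ _
  refine ⟨E, ?_, ?_, ?_⟩
  · ext i j
    rw [hs_mul_apply]
    have := hb i j
    rw [LinearMap.domRestrict₁₂_apply, BV_apply] at this
    rw [Matrix.one_apply]
    exact this
  · intro x
    rw [hEmul]
    exact Submodule.coe_mem _
  · intro w hw
    refine ⟨b.repr ⟨w, hw⟩, ?_⟩
    rw [hEmul, b.sum_repr]

end geometry


section final
variable {F : Type*} [Field F] (σ : F →+* F)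

theorem hs_mulVec_apply {l a : Type*} [Fintype l] (M : Matrix l a F) (v : l → F) (i : a) :
    (hs σ M *ᵥ v) i = hf σ v (M.col i) := by
  unfold hf
  simp only [mulVec, dotProduct, hs_apply, Matrix.col_apply]
  exact Finset.sum_congr rfl fun i _ => mul_comm _ _

/-- the orthogonal complement w.r.t. the Hermitian form -/
def perp {n : ℕ} (W : Submodule F (Fin n → F)) : Submodule F (Fin n → F) where
  carrier := {u | ∀ w ∈ W, hf σ u w = 0}
  add_mem' := by
    intro a b ha hb w hw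
    rw [hf_add_left, ha w hw, hb w hw, add_zero]
  zero_mem' := by
    intro w _
    exact hf_zero_left σ w
  smul_mem' := by
    intro c u hu w hw
    rw [hf_smul_left, hu w hw, mul_zero]

theorem mem_perp {n : ℕ} (W : Submodule F (Fin n → F)) (u : Fin n → F) :
    u ∈ perp σ W ↔ ∀ w ∈ W, hf σ u w = 0 := Iff.rfl

theorem main_frame [Finite F] (hσ : σ ≠ RingHom.id F) (hσ2 : ∀ a, σ (σ a) = a) {n : ℕ}
    (W : Submodule F (Fin n → F)) (hW : ∀ u ∈ W, (∀ v ∈ W, hf σ u v = 0) → u = 0) :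
    ∃ (m : ℕ) (P : Matrix (Fin n) (Fin (finrank F W) ⊕ Fin m) F), finrank F W + m = n ∧
      hs σ P * P = 1 ∧ P * hs σ P = 1 ∧
      ∀ v, v ∈ W ↔ ∀ j : Fin m, (hs σ P *ᵥ v) (Sum.inr j) = 0 := by
  obtain ⟨E, hEE, hEW, hWE⟩ := exists_frame σ hσ hσ2 W hW
  have hcolW : ∀ i, E.col i ∈ W := fun i => by
    rw [← mulVec_single_one]; exact hEW _
  have hperp : ∀ u, u ∈ perp σ W ↔ hs σ E *ᵥ u = 0 := by
    intro u
    constructor
    · intro hu
      ext i
      rw [hs_mulVec_apply]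
      exact hu _ (hcolW i)
    · intro hu w hw
      obtain ⟨x, rfl⟩ := hWE w hw
      rw [hf_adjoint, hu, hf_zero_left]
  have hdecomp : ∀ v, v - E *ᵥ (hs σ E *ᵥ v) ∈ perp σ W := by
    intro v
    rw [hperp, mulVec_sub, mulVec_mulVec, mulVec_mulVec, hEE, Matrix.one_mul, sub_self]
  have hcompl : IsCompl W (perp σ W) := by
    constructor
    · rw [Submodule.disjoint_def]
      intro x hx hx'
      exact hW x hx (fun v hv => hx' v hv)
    · rw [codisjoint_iff, Submodule.eq_top_iff']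
      intro v
      rw [Submodule.mem_sup]
      exact ⟨_, hEW (hs σ E *ᵥ v), _, hdecomp v, by abel⟩
  have hdim : finrank F W + finrank F (perp σ W) = n := by
    rw [Submodule.finrank_add_eq_of_isCompl hcompl, Module.finrank_fin_fun]
  have hperpND : ∀ u ∈ perp σ W, (∀ v ∈ perp σ W, hf σ u v = 0) → u = 0 := by
    intro u hu h
    ext i
    rw [← hf_single_right σ u i]
    have : (Pi.single i 1 : Fin n → F) = E *ᵥ (hs σ E *ᵥ Pi.single i 1) +
        (Pi.single i 1 - E *ᵥ (hs σ E *ᵥ Pi.single i 1)) := by abel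
    rw [this, hf_add_right, hu _ (hEW _), h _ (hdecomp _), add_zero]
    rfl
  obtain ⟨E', hE'E', hE'W, hWE'⟩ := exists_frame σ hσ hσ2 (perp σ W) hperpND
  have hcolW' : ∀ j, E'.col j ∈ perp σ W := fun j => by
    rw [← mulVec_single_one]; exact hE'W _
  have hstar : hs σ (fromCols E E') = fromRows (hs σ E) (hs σ E') := by
    unfold hs; rw [fromCols_map, transpose_fromCols]
  have h12 : hs σ E * E' = 0 := by
    ext i j
    rw [hs_mul_apply]
    exact hcolW' j _ (hcolW i)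
  have h21 : hs σ E' * E = 0 := by
    ext j i
    rw [hs_mul_apply, hf_symm σ hσ2, hcolW' j _ (hcolW i), map_zero]
    rfl
  have h1 : hs σ (fromCols E E') * fromCols E E' = 1 := by
    rw [hstar, fromRows_mul_fromCols, hEE, hE'E', h12, h21, fromBlocks_one]
  have h2 : fromCols E E' * hs σ (fromCols E E') = 1 :=
    (mul_eq_one_comm_of_equiv (finSumFinEquiv.trans (finCongr hdim))).mp h1
  refine ⟨finrank F (perp σ W), fromCols E E', hdim, h1, h2, ?_⟩
  intro v
  have hinr : ∀ j, (hs σ (fromCols E E') *ᵥ v) (Sum.inr j) = (hs σ E' *ᵥ v) j := by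
    intro j
    rw [hstar, fromRows_mulVec]
    rfl
  simp only [hinr]
  constructor
  · intro hv j
    rw [hs_mulVec_apply, hf_symm σ hσ2, hcolW' j v hv, map_zero]
  · intro h
    have h0 : hs σ E' *ᵥ v = 0 := funext h
    have hv : v = fromCols E E' *ᵥ (hs σ (fromCols E E') *ᵥ v) := by
      rw [mulVec_mulVec, h2, one_mulVec]
    rw [hstar, fromRows_mulVec, fromCols_mulVec] at hv
    simp only [Sum.elim_comp_inl, Sum.elim_comp_inr, h0, Matrix.mulVec_zero, add_zero] at hv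
    rw [hv]
    exact hEW _

theorem frob_ne_id [Fintype F] {q : ℕ} (hF : Fintype.card F = q ^ 2) (hσ : ∀ x, σ x = x ^ q) :
    σ ≠ RingHom.id F := by
  classical
  intro h
  have hq : 2 ≤ q := Cfsg.Agent.Lib.Helper13.two_le_of_card_eq_sq hF
  obtain ⟨ζ, hζ⟩ := IsCyclic.exists_generator (α := Fˣ)
  have hord : orderOf ζ = q ^ 2 - 1 := by
    rw [orderOf_eq_card_of_forall_mem_zpowers hζ, Nat.card_eq_fintype_card, Fintype.card_units, hF]
  have h1 : (ζ : F) ^ q = ζ := by
    rw [← hσ, h]; rfl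
  have h2 : ζ ^ (q - 1) = 1 := by
    apply Units.ext
    rw [Units.val_pow_eq_pow_val, Units.val_one]
    have h3 : (ζ : F) ^ (q - 1) * ζ = 1 * ζ := by
      rw [← pow_succ, Nat.sub_add_cancel (by omega), h1, one_mul]
    exact mul_right_cancel₀ ζ.ne_zero h3
  have h3 := orderOf_dvd_of_pow_eq_one h2
  rw [hord] at h3
  have h4 := Nat.le_of_dvd (by omega) h3
  have h5 : q ^ 2 = q * q := sq q
  have h6 : 2 * q ≤ q * q := Nat.mul_le_mul_right q hq
  omega

end final

theorem result {F : Type*} [Field F] [Fintype F] {q : ℕ} (hF : Fintype.card F = q ^ 2) (n k : ℕ) (hk : k ≤ n) (W : Submodule F (Fin n → F)) (hWk : Module.finrank F W = k) (hW : ∀ u ∈ W, (∀ v ∈ W, Cfsg.hermForm n F q u v = 0) → u = 0) : Nonempty (↥((Cfsg.stabilizing (Cfsg.glToMat (Fin n) F) (W : Set (Fin n → F))).subgroupOf (Cfsg.GU n F q)) ≃* ↥(Cfsg.GU k F q) × ↥(Cfsg.GU (n - k) F q)) := by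
  obtain ⟨σ, hσ, hσ2⟩ := Cfsg.Agent.Lib.Helper13.exists_frob hF
  have hne := frob_ne_id σ hF hσ
  have hW' : ∀ u ∈ W, (∀ v ∈ W, hf σ u v = 0) → u = 0 := by
    intro u hu h
    apply hW u hu
    intro v hv
    rw [hermForm_eq_hf σ hσ]
    exact h v hv
  obtain ⟨m, P, hkm, h1, h2, hWP⟩ := main_frame σ hne hσ2 W hW'
  subst hWk
  obtain rfl : m = n - finrank F W := by omega
  exact iso_of_frame σ P hσ hσ2 h1 h2 W hWP

end Cfsg.Agent.S0837
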