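import Cfsg.Statements.S0781
import Mathlib
import Cfsg.Agent.S0837

set_option autoImplicit false
open Cfsg

namespace Cfsg.Agent.S0781

open Matrix Module Cfsg.Agent.S0837

section siegel
variable {F : Type*} [Field F] (σ : F →+* F) {n : ℕ}

theorem hf_sub_right (u v w : Fin n → F) : hf σ u (v - w) = hf σ u v - hf σ u w := by
  simp [hf, mul_sub, Finset.sum_sub_distrib]

theorem hf_zero_right (u : Fin n → F) : hf σ u 0 = 0 := by simp [hf]

/-- matrix of `x ↦ x + h(x,v)(u + βv) - h(x,u) v`. -/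
def sieg (v u : Fin n → F) (β : F) : Matrix (Fin n) (Fin n) F :=
  1 + vecMulVec (u + β • v) (σ ∘ v) - vecMulVec v (σ ∘ u)

theorem sieg_mulVec (v u : Fin n → F) (β : F) (x : Fin n → F) :
    sieg σ v u β *ᵥ x = x + hf σ x v • (u + β • v) - hf σ x u • v := by
  unfold sieg
  rw [Matrix.sub_mulVec, Matrix.add_mulVec, Matrix.one_mulVec, Matrix.vecMulVec_mulVec,
    Matrix.vecMulVec_mulVec]
  have h1 : ∀ w : Fin n → F, (σ ∘ w) ⬝ᵥ x = hf σ x w := by
    intro w
    unfold hf dotProduct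
    exact Finset.sum_congr rfl fun i _ => mul_comm _ _
  rw [h1, h1]
  ext i
  simp only [Pi.add_apply, Pi.sub_apply, Pi.smul_apply, MulOpposite.smul_eq_mul_unop,
    MulOpposite.unop_op, smul_eq_mul]
  ring

theorem sieg_preserves (hσ2 : ∀ a, σ (σ a) = a) (v u : Fin n → F) (β : F)
    (hvv : hf σ v v = 0) (huv : hf σ u v = 0) (hβ : β + σ β + hf σ u u = 0) (x y : Fin n → F) :
    hf σ (sieg σ v u β *ᵥ x) (sieg σ v u β *ᵥ y) = hf σ x y := by
  have hvu : hf σ v u = 0 := by rw [hf_symm σ hσ2, huv, map_zero]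
  have hyu : σ (hf σ y u) = hf σ u y := (hf_symm σ hσ2 u y).symm
  have hyv : σ (hf σ y v) = hf σ v y := (hf_symm σ hσ2 v y).symm
  rw [sieg_mulVec, sieg_mulVec]
  simp only [hf_add_left, hf_sub_left, hf_smul_left, hf_add_right, hf_sub_right, hf_smul_right,
    hvv, huv, hvu, hyu, hyv]
  linear_combination (hf σ x v * hf σ v y) * hβ

theorem sieg_mul (hσ2 : ∀ a, σ (σ a) = a) (v u₁ u₂ : Fin n → F) (β₁ β₂ : F)
    (hvv : hf σ v v = 0) (hu₁ : hf σ u₁ v = 0) (hu₂ : hf σ u₂ v = 0) :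
    sieg σ v u₁ β₁ * sieg σ v u₂ β₂ = sieg σ v (u₁ + u₂) (β₁ + β₂ - hf σ u₂ u₁) := by
  have hvu₁ : hf σ v u₁ = 0 := by rw [hf_symm σ hσ2, hu₁, map_zero]
  apply Matrix.toLin'.injective
  apply LinearMap.ext
  intro x
  rw [Matrix.toLin'_apply, Matrix.toLin'_apply, ← mulVec_mulVec, sieg_mulVec, sieg_mulVec,
    sieg_mulVec]
  simp only [hf_add_left, hf_sub_left, hf_smul_left, hf_add_right, hvv, hu₂, hvu₁]
  ext i
  simp only [Pi.add_apply, Pi.sub_apply, Pi.smul_apply, smul_eq_mul]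
  ring

theorem sieg_det (hσ2 : ∀ a, σ (σ a) = a) (v u : Fin n → F) (β : F)
    (hvv : hf σ v v = 0) (huv : hf σ u v = 0) : (sieg σ v u β).det = 1 := by
  have hvu : hf σ v u = 0 := by rw [hf_symm σ hσ2, huv, map_zero]
  set A : Matrix (Fin n) (Fin 2) F := Matrix.of fun i j => ![(u + β • v) i, -v i] j with hA
  set B : Matrix (Fin 2) (Fin n) F := Matrix.of ![σ ∘ v, σ ∘ u] with hB
  have hAB : sieg σ v u β = 1 + A * B := by
    unfold sieg
    rw [add_sub_assoc]
    congr 1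
    ext i k
    simp [hA, hB, Matrix.mul_apply, Fin.sum_univ_two, vecMulVec_apply, sub_eq_add_neg]
  have hdot : ∀ a b : Fin n → F, ∑ k, σ (a k) * b k = hf σ b a := by
    intro a b
    unfold hf
    exact Finset.sum_congr rfl fun i _ => mul_comm _ _
  have hB0 : ∀ k, B 0 k = σ (v k) := fun k => rfl
  have hB1 : ∀ k, B 1 k = σ (u k) := fun k => rfl
  have hA0 : ∀ k, A k 0 = (u + β • v) k := fun k => rfl
  have hA1 : ∀ k, A k 1 = -v k := fun k => rfl
  have h00 : (B * A) 0 0 = 0 := by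
    simp only [Matrix.mul_apply, hB0, hA0]
    rw [hdot, hf_add_left, hf_smul_left, huv, hvv]; simp
  have h01 : (B * A) 0 1 = 0 := by
    simp only [Matrix.mul_apply, hB0, hA1, mul_neg, Finset.sum_neg_distrib]
    rw [hdot, hvv]; simp
  have h10 : (B * A) 1 0 = hf σ u u := by
    simp only [Matrix.mul_apply, hB1, hA0]
    rw [hdot, hf_add_left, hf_smul_left, hvu]; simp
  have h11 : (B * A) 1 1 = 0 := by
    simp only [Matrix.mul_apply, hB1, hA1, mul_neg, Finset.sum_neg_distrib]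
    rw [hdot, hvu]; simp
  rw [hAB, Matrix.det_one_add_mul_comm, Matrix.det_fin_two]
  simp only [Matrix.add_apply, Matrix.one_apply_eq, h00, h01, h10, h11]
  simp

end siegel

section exist
variable {F : Type*} [Field F] (σ : F →+* F) {n : ℕ}

theorem hf_single_left (i : Fin n) (w : Fin n → F) : hf σ (Pi.single i 1) w = σ (w i) := by
  unfold hf
  rw [Finset.sum_eq_single i]
  · simp
  · intro j _ hj; simp [Pi.single_eq_of_ne hj]
  · simp

/-- a non-isotropic vector orthogonal to a given non-zero vector, in dimension at least 3 -/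
theorem exists_perp_anisotropic (hσ : σ ≠ RingHom.id F) (hσ2 : ∀ a, σ (σ a) = a) (hn : 3 ≤ n)
    (v : Fin n → F) (hv : v ≠ 0) : ∃ e : Fin n → F, hf σ e v = 0 ∧ hf σ e e ≠ 0 := by
  obtain ⟨i, hi⟩ : ∃ i, v i ≠ 0 := by
    by_contra hcon
    push Not at hcon
    exact hv (funext hcon)
  -- two further indices
  obtain ⟨j, k, hji, hki, hjk⟩ : ∃ j k : Fin n, j ≠ i ∧ k ≠ i ∧ j ≠ k := by
    by_cases h0 : i.val = 0
    · refine ⟨⟨1, by omega⟩, ⟨2, by omega⟩, ?_, ?_, ?_⟩ <;>
        (intro h; rw [Fin.ext_iff] at h; dsimp only at h; omega)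
    · by_cases h1 : i.val = 1
      · refine ⟨⟨0, by omega⟩, ⟨2, by omega⟩, ?_, ?_, ?_⟩ <;>
          (intro h; rw [Fin.ext_iff] at h; dsimp only at h; omega)
      · refine ⟨⟨0, by omega⟩, ⟨1, by omega⟩, ?_, ?_, ?_⟩ <;>
          (intro h; rw [Fin.ext_iff] at h; dsimp only at h; omega)
  have hσi : σ (v i) ≠ 0 := by
    intro h
    apply hi
    have := congrArg σ h
    rwa [hσ2, map_zero] at this
  by_cases hvj : v j = 0
  · refine ⟨Pi.single j 1, ?_, ?_⟩
    · rw [hf_single_left, hvj, map_zero]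
    · rw [hf_single_single, if_pos rfl]; exact one_ne_zero
  by_cases hvk : v k = 0
  · refine ⟨Pi.single k 1, ?_, ?_⟩
    · rw [hf_single_left, hvk, map_zero]
    · rw [hf_single_single, if_pos rfl]; exact one_ne_zero
  -- general case: polarisation on the orthogonal complement of `v`
  set P : Submodule F (Fin n → F) := perp σ (Submodule.span F {v}) with hP
  have hmemP : ∀ x : Fin n → F, hf σ x v = 0 → x ∈ P := by
    intro x hx w hw
    obtain ⟨c, rfl⟩ := Submodule.mem_span_singleton.mp hw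
    rw [hf_smul_right, hx, mul_zero]
  have hPmem : ∀ x ∈ P, hf σ x v = 0 := fun x hx => hx v (Submodule.mem_span_singleton_self v)
  set a : F := σ (v j) / σ (v i) with ha
  set b : F := σ (v k) / σ (v i) with hb
  set uj : Fin n → F := Pi.single j 1 - a • Pi.single i 1 with huj
  set uk : Fin n → F := Pi.single k 1 - b • Pi.single i 1 with huk
  have hujv : hf σ uj v = 0 := by
    rw [huj, hf_sub_left, hf_smul_left, hf_single_left, hf_single_left, ha]
    field_simp
    ring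
  have hukv : hf σ uk v = 0 := by
    rw [huk, hf_sub_left, hf_smul_left, hf_single_left, hf_single_left, hb]
    field_simp
    ring
  have hjk' : hf σ uj uk = a * σ b := by
    rw [huj, huk]
    simp only [hf_sub_left, hf_sub_right, hf_smul_left, hf_smul_right, hf_single_single,
      if_neg hjk, if_neg hji, if_neg (Ne.symm hki), if_true]
    ring
  have hne0 : a * σ b ≠ 0 := by
    apply mul_ne_zero
    · rw [ha]
      apply div_ne_zero _ hσi
      intro h
      apply hvj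
      have := congrArg σ h
      rwa [hσ2, map_zero] at this
    · rw [hb, map_div₀, hσ2, hσ2]
      exact div_ne_zero hvk hi
  obtain ⟨e, he⟩ := Cfsg.Agent.Lib.Helper36.exists_apply_self_ne_zero σ hσ
    ((BV σ n).domRestrict₁₂ P P) (BW_symm σ hσ2 P)
    ⟨⟨uk, hmemP uk hukv⟩, ⟨uj, hmemP uj hujv⟩, by
      rw [LinearMap.domRestrict₁₂_apply, BV_apply]
      show hf σ uj uk ≠ 0
      rw [hjk']; exact hne0⟩
  rw [LinearMap.domRestrict₁₂_apply, BV_apply] at he
  exact ⟨e, hPmem e e.2, he⟩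

end exist

section fin
variable {F : Type*} [Field F] (σ : F →+* F) {n : ℕ}

theorem trace_surj (hσ : σ ≠ RingHom.id F) (hσ2 : ∀ a : F, σ (σ a) = a)
    (a : F) (ha : σ a = a) : ∃ c : F, c + σ c = a := by
  obtain ⟨t, ht⟩ : ∃ t : F, σ t ≠ t := by
    by_contra hcon
    push Not at hcon
    exact hσ (RingHom.ext hcon)
  have hd : t - σ t ≠ 0 := fun h => ht (sub_eq_zero.mp h).symm
  have hd' : σ t - t ≠ 0 := fun h => ht (sub_eq_zero.mp h)
  refine ⟨a * (t / (t - σ t)), ?_⟩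
  rw [map_mul, map_div₀, map_sub, hσ2, ha]
  field_simp
  ring

theorem unitaryTransvection_eq_sieg {q : ℕ} (hσ : ∀ x, σ x = x ^ q) (v : Fin n → F) (c : F) :
    Cfsg.unitaryTransvection n q v c = sieg σ v 0 c := by
  unfold Cfsg.unitaryTransvection sieg
  have h1 : (σ ∘ v) = fun j => v j ^ q := funext fun j => hσ (v j)
  have h2 : (σ ∘ (0 : Fin n → F)) = 0 := funext fun j => map_zero σ
  rw [h1, h2, Matrix.vecMulVec_zero, sub_zero, zero_add, Matrix.smul_vecMulVec]

/-- the core: a transvection with trace-zero parameter is a commutator of two Siegel elements. -/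
theorem exists_siegel_pair (hσ : σ ≠ RingHom.id F) (hσ2 : ∀ a, σ (σ a) = a) (hn : 3 ≤ n)
    (v : Fin n → F) (hv : v ≠ 0) (hvv : hf σ v v = 0) (c : F) (hc : c + σ c = 0) :
    ∃ (u₁ u₂ : Fin n → F) (β₁ β₂ : F), hf σ u₁ v = 0 ∧ hf σ u₂ v = 0 ∧
      β₁ + σ β₁ + hf σ u₁ u₁ = 0 ∧ β₂ + σ β₂ + hf σ u₂ u₂ = 0 ∧
      sieg σ v u₁ β₁ * sieg σ v u₂ β₂ = sieg σ v 0 c * (sieg σ v u₂ β₂ * sieg σ v u₁ β₁) := by
  obtain ⟨e, hev, hee⟩ := exists_perp_anisotropic σ hσ hσ2 hn v hv
  set ε := hf σ e e with hε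
  have hσε : σ ε = ε := (hf_symm σ hσ2 e e).symm
  obtain ⟨t₀, ht₀⟩ := trace_surj σ hσ hσ2 1 (map_one σ)
  set z : F := c / ε * t₀ with hz
  have hσc : σ c = -c := by linear_combination hc
  have hzz : (z - σ z) * ε = c := by
    rw [hz, map_mul, map_div₀, hσε, hσc]
    have : σ t₀ = 1 - t₀ := by linear_combination ht₀
    rw [this]
    field_simp
    ring
  have hu₁v : hf σ (z • e) v = 0 := by rw [hf_smul_left, hev, mul_zero]
  have h11 : hf σ (z • e) (z • e) = z * σ z * ε := by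
    rw [hf_smul_left, hf_smul_right]; ring
  obtain ⟨β₁, hβ₁⟩ := trace_surj σ hσ hσ2 (-(z * σ z * ε)) (by
    rw [map_neg, map_mul, map_mul, hσ2, hσε]; ring)
  obtain ⟨β₂, hβ₂⟩ := trace_surj σ hσ hσ2 (-ε) (by rw [map_neg, hσε])
  refine ⟨z • e, e, β₁, β₂, hu₁v, hev, ?_, ?_, ?_⟩
  · rw [h11]; linear_combination hβ₁
  · linear_combination hβ₂
  · have h0v : hf σ (0 : Fin n → F) v = 0 := hf_zero_left σ v
    rw [sieg_mul σ hσ2 v _ _ _ _ hvv hu₁v hev, sieg_mul σ hσ2 v _ _ _ _ hvv hev hu₁v,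
      sieg_mul σ hσ2 v _ _ _ _ hvv h0v (by rw [hf_add_left, hev, hu₁v, add_zero])]
    have h12 : hf σ (z • e) e = z * ε := by rw [hf_smul_left]
    have h21 : hf σ e (z • e) = σ z * ε := by rw [hf_smul_right]
    rw [h12, h21, hf_zero_right, zero_add, add_comm e (z • e)]
    congr 1
    linear_combination hzz

end fin

theorem result {F : Type*} [Field F] [Fintype F] {q : ℕ} (hF : Fintype.card F = q ^ 2) (n : ℕ) (hn : 4 ≤ n ∨ (n = 3 ∧ 3 ≤ q)) (A : ↥(Cfsg.SU n F q)) (v : Fin n → F) (c : F) (hv0 : Cfsg.hermForm n F q v v = 0) (hA : ((A : Matrix.SpecialLinearGroup (Fin n) F) : Matrix (Fin n) (Fin n) F) = Cfsg.unitaryTransvection n q v c) : A ∈ commutatorSet ↥(Cfsg.SU n F q) := by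
  obtain ⟨σ, hσ, hσ2⟩ := Cfsg.Agent.Lib.Helper13.exists_frob hF
  have hne := frob_ne_id σ hF hσ
  have hn3 : 3 ≤ n := by omega
  have hvv : hf σ v v = 0 := by rw [← hermForm_eq_hf σ hσ]; exact hv0
  -- trivial case
  by_cases htriv : v = 0 ∨ c = 0
  · have h1 : Cfsg.unitaryTransvection n q v c = 1 := by
      unfold Cfsg.unitaryTransvection
      rcases htriv with h | h
      · subst h; simp
      · subst h; simp
    have hA1 : A = 1 := by
      apply Subtype.ext
      apply Subtype.ext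
      rw [hA, h1]; rfl
    rw [hA1]
    exact ⟨1, 1, by simp⟩
  push Not at htriv
  obtain ⟨hv, hc0⟩ := htriv
  -- the parameter has trace zero
  have hpres : ∀ x y : Fin n → F, hf σ (Cfsg.unitaryTransvection n q v c *ᵥ x)
      (Cfsg.unitaryTransvection n q v c *ᵥ y) = hf σ x y := by
    intro x y
    have := A.2 x y
    rw [← hermForm_eq_hf σ hσ, ← hermForm_eq_hf σ hσ, ← hA]
    exact this
  have hc : c + σ c = 0 := by
    obtain ⟨i, hi⟩ : ∃ i, v i ≠ 0 := by
      by_contra hcon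
      push Not at hcon
      exact hv (funext hcon)
    have hT : ∀ x : Fin n → F, Cfsg.unitaryTransvection n q v c *ᵥ x = x + (c * hf σ x v) • v := by
      intro x
      rw [unitaryTransvection_eq_sieg σ hσ, sieg_mulVec, hf_zero_right, zero_smul, sub_zero,
        zero_add, smul_smul, mul_comm]
    have hgen : ∀ x y : Fin n → F, hf σ (x + (c * hf σ x v) • v) (y + (c * hf σ y v) • v) =
        hf σ x y + (c + σ c) * (hf σ x v * hf σ v y) := by
      intro x y
      have hyv : σ (hf σ y v) = hf σ v y := (hf_symm σ hσ2 v y).symm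
      simp only [hf_add_left, hf_add_right, hf_smul_left, hf_smul_right, hvv, map_mul, hyv]
      ring
    have h := hpres (Pi.single i 1) (Pi.single i 1)
    rw [hT, hgen, hf_single_left σ i v, hf_single_right σ v i] at h
    have hσi : σ (v i) ≠ 0 := by
      intro h0
      apply hi
      have := congrArg σ h0
      rwa [hσ2, map_zero] at this
    have h2 : (c + σ c) * (σ (v i) * v i) = 0 := by linear_combination h
    rcases mul_eq_zero.mp h2 with h3 | h3
    · exact h3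
    · exact absurd h3 (mul_ne_zero hσi hi)
  obtain ⟨u₁, u₂, β₁, β₂, hu₁, hu₂, hβ₁, hβ₂, hcomm⟩ :=
    exists_siegel_pair σ hne hσ2 hn3 v hv hvv c hc
  have hmem : ∀ (u : Fin n → F) (β : F) (hu : hf σ u v = 0) (hβ : β + σ β + hf σ u u = 0),
      (⟨sieg σ v u β, sieg_det σ hσ2 v u β hvv hu⟩ : Matrix.SpecialLinearGroup (Fin n) F) ∈
        Cfsg.SU n F q := by
    intro u β hu hβ x y
    rw [hermForm_eq_hf σ hσ, hermForm_eq_hf σ hσ]
    exact sieg_preserves σ hσ2 v u β hvv hu hβ x y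
  set B : ↥(Cfsg.SU n F q) := ⟨_, hmem u₁ β₁ hu₁ hβ₁⟩ with hB
  set C : ↥(Cfsg.SU n F q) := ⟨_, hmem u₂ β₂ hu₂ hβ₂⟩ with hC
  refine ⟨B, C, ?_⟩
  rw [commutatorElement_def, mul_inv_eq_iff_eq_mul, mul_inv_eq_iff_eq_mul]
  apply Subtype.ext
  apply Subtype.ext
  show sieg σ v u₁ β₁ * sieg σ v u₂ β₂ =
    ((A : Matrix.SpecialLinearGroup (Fin n) F) : Matrix (Fin n) (Fin n) F) *
      sieg σ v u₂ β₂ * sieg σ v u₁ β₁
  rw [hA, unitaryTransvection_eq_sieg σ hσ, hcomm, Matrix.mul_assoc]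

end Cfsg.Agent.S0781
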