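import Cfsg.Statements.S2644
import Mathlib
import Cfsg.Agent.S0837
import Cfsg.Agent.S0781
import Cfsg.Agent.Lib.Helper13.HermWitt
import Cfsg.Agent.Lib.Helper37.UnitaryLines

set_option autoImplicit false
open Cfsg

namespace Cfsg.Agent.S2644

open Matrix Module Cfsg.Agent.S0837 Cfsg.Agent.S0781 Cfsg.Agent.Lib.Helper37

section aux
variable {F : Type*} [Field F] (σ : F →+* F) {n : ℕ}

/-- A rank one matrix is an outer product. -/
theorem exists_vecMulVec_of_rank_one (N : Matrix (Fin n) (Fin n) F) (h : N.rank = 1) :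
    ∃ a b : Fin n → F, N = vecMulVec a b := by
  unfold Matrix.rank at h
  rw [finrank_eq_one_iff'] at h
  obtain ⟨⟨a, ha⟩, _, hspan⟩ := h
  have hcol : ∀ j : Fin n, ∃ c : F, c • a = N *ᵥ (Pi.single j 1) := by
    intro j
    obtain ⟨c, hc⟩ := hspan ⟨N *ᵥ (Pi.single j 1), ⟨Pi.single j 1, rfl⟩⟩
    refine ⟨c, ?_⟩
    have := congrArg Subtype.val hc
    simpa using this
  choose b hb using hcol
  refine ⟨a, b, ?_⟩
  ext i j
  have := congrFun (hb j) i
  simp only [Pi.smul_apply, smul_eq_mul, mulVec_single_one] at this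
  rw [vecMulVec_apply, mul_comm, this]
  rfl

/-- the quasi-reflection / transvection matrix `x ↦ x + c h(x,v) v` -/
def tv (v : Fin n → F) (c : F) : Matrix (Fin n) (Fin n) F := sieg σ v 0 c

theorem tv_mulVec (v : Fin n → F) (c : F) (x : Fin n → F) :
    tv σ v c *ᵥ x = x + (c * hf σ x v) • v := by
  unfold tv
  rw [sieg_mulVec, hf_zero_right, zero_smul, sub_zero, zero_add, smul_smul, mul_comm]

theorem hf_tv (hσ2 : ∀ a, σ (σ a) = a) (v : Fin n → F) (c : F) (x y : Fin n → F) :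
    hf σ (tv σ v c *ᵥ x) (tv σ v c *ᵥ y) =
      hf σ x y + (c + σ c + c * σ c * hf σ v v) * (hf σ x v * hf σ v y) := by
  have hyv : σ (hf σ y v) = hf σ v y := (hf_symm σ hσ2 v y).symm
  rw [tv_mulVec, tv_mulVec]
  simp only [hf_add_left, hf_add_right, hf_smul_left, hf_smul_right, map_mul, hyv]
  ring

theorem tv_det (v : Fin n → F) (c : F) : (tv σ v c).det = 1 + c * hf σ v v := by
  have h : tv σ v c = 1 + vecMulVec (c • v) (σ ∘ v) := by
    unfold tv sieg
    have h2 : (σ ∘ (0 : Fin n → F)) = 0 := funext fun j => map_zero σ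
    rw [h2, Matrix.vecMulVec_zero, sub_zero, zero_add]
  rw [h, vecMulVec_eq Unit, det_one_add_replicateCol_mul_replicateRow]
  congr 1
  unfold hf dotProduct
  rw [Finset.mul_sum]
  refine Finset.sum_congr rfl fun i _ => ?_
  simp only [Function.comp_apply, Pi.smul_apply, smul_eq_mul]
  ring

/-- structure of unitary transvections -/
theorem exists_tv_of_isTransvection (hσ2 : ∀ a, σ (σ a) = a) (S : Matrix (Fin n) (Fin n) F)
    (hS : Cfsg.IsTransvection S)
    (hpres : ∀ x y, hf σ (S *ᵥ x) (S *ᵥ y) = hf σ x y) :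
    ∃ (v : Fin n → F) (c : F), v ≠ 0 ∧ c ≠ 0 ∧ hf σ v v = 0 ∧ c + σ c = 0 ∧ S = tv σ v c := by
  obtain ⟨hrank, hsq⟩ := hS
  obtain ⟨a, b, hab⟩ := exists_vecMulVec_of_rank_one (S - 1) hrank
  have hSx : ∀ x, S *ᵥ x = x + (b ⬝ᵥ x) • a := by
    intro x
    have : S = 1 + vecMulVec a b := by rw [← hab]; abel
    rw [this, Matrix.add_mulVec, Matrix.one_mulVec, Matrix.vecMulVec_mulVec]
    congr 1
    ext i
    simp [mul_comm]
  have hN0 : S - 1 ≠ 0 := by
    intro h
    rw [h, Matrix.rank_zero] at hrank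
    exact zero_ne_one hrank
  have ha : a ≠ 0 := by
    rintro rfl
    apply hN0
    rw [hab]; ext i j; simp [vecMulVec_apply]
  have hb : b ≠ 0 := by
    rintro rfl
    apply hN0
    rw [hab]; ext i j; simp [vecMulVec_apply]
  -- a vector with `b ⬝ x₀ = 1`
  obtain ⟨x₀, hx₀⟩ : ∃ x₀ : Fin n → F, b ⬝ᵥ x₀ = 1 := by
    obtain ⟨i, hi⟩ : ∃ i, b i ≠ 0 := by
      by_contra hcon
      push Not at hcon
      exact hb (funext hcon)
    refine ⟨Pi.single i (b i)⁻¹, ?_⟩
    rw [dotProduct_single, mul_inv_cancel₀ hi]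
  -- preservation gives the key relation
  have hrel : ∀ x y, σ (b ⬝ᵥ y) * hf σ x a + (b ⬝ᵥ x) * hf σ a y +
      (b ⬝ᵥ x) * σ (b ⬝ᵥ y) * hf σ a a = 0 := by
    intro x y
    have h := hpres x y
    rw [hSx, hSx] at h
    simp only [hf_add_left, hf_add_right, hf_smul_left, hf_smul_right] at h
    linear_combination h
  -- `hf a y = 0` on the kernel of `b`
  have hker : ∀ y, b ⬝ᵥ y = 0 → hf σ a y = 0 := by
    intro y hy
    have h := hrel x₀ y
    rw [hy, hx₀, map_zero] at h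
    linear_combination h
  set κ := hf σ x₀ a with hκ
  have hya : ∀ y, hf σ y a = (b ⬝ᵥ y) * κ := by
    intro y
    have h1 : b ⬝ᵥ (y - (b ⬝ᵥ y) • x₀) = 0 := by
      rw [dotProduct_sub, dotProduct_smul, hx₀, smul_eq_mul, mul_one, sub_self]
    have h2 := hker _ h1
    have h3 : hf σ (y - (b ⬝ᵥ y) • x₀) a = 0 := by rw [hf_symm σ hσ2, h2, map_zero]
    rw [hf_sub_left, hf_smul_left] at h3
    linear_combination h3
  have hκ0 : κ ≠ 0 := by
    intro h0
    apply ha
    ext i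
    have := hya (Pi.single i 1)
    rw [h0, mul_zero, hf_single_left] at this
    have h2 := congrArg σ this
    rwa [hσ2, map_zero] at h2
  have hby : ∀ y, b ⬝ᵥ y = κ⁻¹ * hf σ y a := by
    intro y
    rw [hya, mul_comm, mul_assoc, mul_inv_cancel₀ hκ0, mul_one]
  have hStv : S = tv σ a κ⁻¹ := by
    apply Matrix.toLin'.injective
    apply LinearMap.ext
    intro x
    rw [Matrix.toLin'_apply, Matrix.toLin'_apply, hSx, tv_mulVec, hby]
  -- isotropy from square zero
  have hba : b ⬝ᵥ a = 0 := by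
    have h1 : (S - 1) *ᵥ ((S - 1) *ᵥ x₀) = 0 := by
      rw [Matrix.mulVec_mulVec, hsq, Matrix.zero_mulVec]
    rw [hab, Matrix.vecMulVec_mulVec, Matrix.vecMulVec_mulVec, hx₀] at h1
    have h2 : (b ⬝ᵥ a) • a = 0 := by
      have : MulOpposite.op (b ⬝ᵥ MulOpposite.op (1 : F) • a) • a = (b ⬝ᵥ a) • a := by
        ext i; simp [mul_comm]
      rw [← this]; exact h1
    rcases smul_eq_zero.mp h2 with h | h
    · exact h
    · exact absurd h ha
  have haa : hf σ a a = 0 := by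
    have := hby a
    rw [hba] at this
    have h2 : κ⁻¹ * hf σ a a = 0 := this.symm
    rcases mul_eq_zero.mp h2 with h | h
    · exact absurd h (inv_ne_zero hκ0)
    · exact h
  refine ⟨a, κ⁻¹, ha, inv_ne_zero hκ0, haa, ?_, hStv⟩
  -- trace zero
  obtain ⟨i, hi⟩ : ∃ i, a i ≠ 0 := by
    by_contra hcon
    push Not at hcon
    exact ha (funext hcon)
  have h := hpres (Pi.single i 1) (Pi.single i 1)
  rw [hStv, hf_tv σ hσ2, haa, mul_zero, add_zero, hf_single_left σ i a, hf_single_right σ a i] at h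
  have hσi : σ (a i) ≠ 0 := by
    intro h0
    apply hi
    have := congrArg σ h0
    rwa [hσ2, map_zero] at this
  have h2 : (κ⁻¹ + σ κ⁻¹) * (σ (a i) * a i) = 0 := by linear_combination h
  rcases mul_eq_zero.mp h2 with h3 | h3
  · exact h3
  · exact absurd h3 (mul_ne_zero hσi hi)

end aux

section conj
variable {F : Type*} [Field F] (σ : F →+* F) {n : ℕ}

theorem hs_mul_self_of_preserves (M : Matrix (Fin n) (Fin n) F)
    (hM : ∀ x y, hf σ (M *ᵥ x) (M *ᵥ y) = hf σ x y) : hs σ M * M = 1 := by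
  ext i j
  rw [hs_mul_apply, ← mulVec_single_one, ← mulVec_single_one, hM, hf_single_single,
    Matrix.one_apply]
  simp [eq_comm]

theorem det_norm_of_preserves (M : Matrix (Fin n) (Fin n) F)
    (hM : ∀ x y, hf σ (M *ᵥ x) (M *ᵥ y) = hf σ x y) : σ M.det * M.det = 1 := by
  have h := congrArg Matrix.det (hs_mul_self_of_preserves σ M hM)
  rw [Matrix.det_mul, Matrix.det_one] at h
  have h2 : (hs σ M).det = σ M.det := by
    unfold hs
    rw [Matrix.det_transpose, RingHom.map_det]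
    rfl
  rw [h2] at h
  exact h

/-- the key conjugation lemma -/
theorem exists_conj [Finite F] (hσ : σ ≠ RingHom.id F) (hσ2 : ∀ a, σ (σ a) = a) (hn : 3 ≤ n)
    (v v' : Fin n → F) (c c' : F) (hv : v ≠ 0) (hv' : v' ≠ 0) (hc : c ≠ 0) (hc' : c' ≠ 0)
    (hvv : hf σ v v = 0) (hvv' : hf σ v' v' = 0) (hct : c + σ c = 0) (hct' : c' + σ c' = 0) :
    ∃ G : Matrix (Fin n) (Fin n) F, G.det = 1 ∧ (∀ x y, hf σ (G *ᵥ x) (G *ᵥ y) = hf σ x y) ∧
      G * tv σ v c = tv σ v' c' * G := by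
  -- scaling factor
  have hfix : σ (c' / c) = c' / c := by
    have h1 : σ c = -c := by linear_combination hct
    have h2 : σ c' = -c' := by linear_combination hct'
    rw [map_div₀, h1, h2, neg_div_neg_eq]
  obtain ⟨l, hl⟩ := Cfsg.Agent.Lib.Helper36.exists_mul_map_eq σ hσ hσ2 (c' / c) hfix
  have hl0 : l ≠ 0 := by
    rintro rfl
    rw [zero_mul] at hl
    exact (div_ne_zero hc' hc) hl.symm
  have hσl0 : σ l ≠ 0 := by
    intro h
    apply hl0
    have := congrArg σ h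
    rwa [hσ2, map_zero] at this
  -- Witt
  obtain ⟨T, hT, hTv⟩ := Cfsg.Agent.Lib.Helper13.witt_families_herm σ hσ hσ2 (BV σ n)
    (BV_symm σ hσ2 n) (BV_nondeg σ hσ2 n) 1 ![v] ![l • v']
    (linearIndependent_unique_iff.mpr hv)
    (linearIndependent_unique_iff.mpr (smul_ne_zero hl0 hv'))
    (by
      intro i j
      fin_cases i; fin_cases j
      simp only [BV_apply, Fin.zero_eta, Fin.isValue, Matrix.cons_val_zero]
      rw [hvv, hf_smul_left, hf_smul_right, hvv', mul_zero, mul_zero])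
  have hTv0 : T v = l • v' := by simpa using hTv 0
  have hTh : ∀ z w, hf σ (T z) (T w) = hf σ z w := fun z w => hT w z
  set M₀ : Matrix (Fin n) (Fin n) F := LinearMap.toMatrix' T.toLinearMap with hM₀
  have hM₀x : ∀ x, M₀ *ᵥ x = T x := fun x => by
    rw [hM₀, LinearMap.toMatrix'_mulVec]; rfl
  have hM₀p : ∀ x y, hf σ (M₀ *ᵥ x) (M₀ *ᵥ y) = hf σ x y := fun x y => by
    rw [hM₀x, hM₀x, hTh]
  have hd := det_norm_of_preserves σ M₀ hM₀p
  set d := M₀.det with hdd
  have hd0 : d ≠ 0 := by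
    rintro h
    rw [h, mul_zero] at hd
    exact zero_ne_one hd
  have hσd0 : σ d ≠ 0 := by
    intro h
    rw [h, zero_mul] at hd
    exact zero_ne_one hd
  -- correcting quasi-reflection
  obtain ⟨e, hev, hee⟩ := exists_perp_anisotropic σ hσ hσ2 hn v' hv'
  set ε := hf σ e e with hε
  have hσε : σ ε = ε := (hf_symm σ hσ2 e e).symm
  set a : F := (d⁻¹ - 1) / ε with ha
  have hHp : ∀ x y, hf σ (tv σ e a *ᵥ x) (tv σ e a *ᵥ y) = hf σ x y := by
    intro x y
    rw [hf_tv σ hσ2]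
    have : a + σ a + a * σ a * hf σ e e = 0 := by
      rw [← hε, ha, map_div₀, map_sub, map_inv₀, map_one, hσε]
      field_simp
      linear_combination (-1 : F) * hd
    rw [this, zero_mul, add_zero]
  have hHdet : (tv σ e a).det = d⁻¹ := by
    rw [tv_det, ← hε, ha]
    field_simp
    ring
  have hv'e : hf σ v' e = 0 := by rw [hf_symm σ hσ2, hev, map_zero]
  have hHv' : tv σ e a *ᵥ v' = v' := by
    rw [tv_mulVec, hv'e, mul_zero, zero_smul, add_zero]
  obtain ⟨G, hG⟩ : ∃ G : Matrix (Fin n) (Fin n) F, G = tv σ e a * M₀ := ⟨_, rfl⟩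
  have hGp : ∀ x y, hf σ (G *ᵥ x) (G *ᵥ y) = hf σ x y := by
    intro x y
    rw [hG, ← mulVec_mulVec, ← mulVec_mulVec, hHp, hM₀p]
  have hGv : G *ᵥ v = l • v' := by
    rw [hG, ← mulVec_mulVec, hM₀x, hTv0, Matrix.mulVec_smul, hHv']
  have hGdet : G.det = 1 := by
    rw [hG, Matrix.det_mul, hHdet, ← hdd, inv_mul_cancel₀ hd0]
  refine ⟨G, hGdet, hGp, ?_⟩
  apply Matrix.toLin'.injective
  apply LinearMap.ext
  intro x
  rw [Matrix.toLin'_apply, Matrix.toLin'_apply, ← mulVec_mulVec, ← mulVec_mulVec, tv_mulVec,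
    tv_mulVec, Matrix.mulVec_add, Matrix.mulVec_smul, hGv]
  congr 1
  have h1 : hf σ (G *ᵥ x) (l • v') = hf σ x v := by rw [← hGv, hGp]
  rw [hf_smul_right] at h1
  have h2 : hf σ (G *ᵥ x) v' = (σ l)⁻¹ * hf σ x v := by
    rw [← h1, ← mul_assoc, inv_mul_cancel₀ hσl0, one_mul]
  rw [h2, smul_smul]
  congr 1
  have h3 : c' = l * σ l * c := by
    rw [hl, div_mul_cancel₀ _ hc]
  rw [h3]
  field_simp

end conj

theorem result {K : Type*} [Field K] [Fintype K] {q n : ℕ} (hK : Fintype.card K = q ^ 2) (hn : 3 ≤ n) (s t : ↥(Cfsg.SU n K q)) (hs : Cfsg.IsTransvection (((s : GL (Fin n) K) : Matrix (Fin n) (Fin n) K))) (ht : Cfsg.IsTransvection (((t : GL (Fin n) K) : Matrix (Fin n) (Fin n) K))) : IsConj s t := by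
  obtain ⟨σ, hσ, hσ2⟩ := Cfsg.Agent.Lib.Helper13.exists_frob hK
  have hne := frob_ne_id σ hK hσ
  have hpres : ∀ (g : ↥(Cfsg.SU n K q)) (x y : Fin n → K),
      hf σ (((g : Matrix.SpecialLinearGroup (Fin n) K) : Matrix (Fin n) (Fin n) K) *ᵥ x)
        (((g : Matrix.SpecialLinearGroup (Fin n) K) : Matrix (Fin n) (Fin n) K) *ᵥ y) = hf σ x y := by
    intro g x y
    have := g.2 x y
    rw [← hermForm_eq_hf σ hσ, ← hermForm_eq_hf σ hσ]
    exact this
  have hs' : Cfsg.IsTransvection ((s : Matrix.SpecialLinearGroup (Fin n) K) : Matrix (Fin n) (Fin n) K) := hs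
  have ht' : Cfsg.IsTransvection ((t : Matrix.SpecialLinearGroup (Fin n) K) : Matrix (Fin n) (Fin n) K) := ht
  obtain ⟨v, c, hv, hc, hvv, hct, hS⟩ := exists_tv_of_isTransvection σ hσ2 _ hs' (hpres s)
  obtain ⟨v', c', hv', hc', hvv', hct', hT⟩ := exists_tv_of_isTransvection σ hσ2 _ ht' (hpres t)
  obtain ⟨G, hGdet, hGp, hGc⟩ := exists_conj σ hne hσ2 hn v v' c c' hv hv' hc hc' hvv hvv' hct hct'
  have hmem : (⟨G, hGdet⟩ : Matrix.SpecialLinearGroup (Fin n) K) ∈ Cfsg.SU n K q := by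
    intro x y
    rw [hermForm_eq_hf σ hσ, hermForm_eq_hf σ hσ]
    exact hGp x y
  rw [isConj_iff]
  refine ⟨⟨_, hmem⟩, ?_⟩
  rw [mul_inv_eq_iff_eq_mul]
  apply Subtype.ext
  apply Subtype.ext
  show G * ((s : Matrix.SpecialLinearGroup (Fin n) K) : Matrix (Fin n) (Fin n) K) =
    ((t : Matrix.SpecialLinearGroup (Fin n) K) : Matrix (Fin n) (Fin n) K) * G
  rw [hS, hT, hGc]

end Cfsg.Agent.S2644
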