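import Cfsg.Statements.S0939
import Cfsg.Agent.Lib.Helper16.PIndex
import Cfsg.Agent.Lib.Helper76.PCore

set_option autoImplicit false
open Cfsg

namespace Cfsg.Agent.S0939

open Cfsg.Agent.Lib.Helper16

/-- Let G be a finite group with a normal p-complement (the largest normal subgroup O_p'(G) of order prime to p has p-power index). Then, relative to any maximal ideal M of the algebraic integers containing p, the principal block of G is the set of irreducible characters χ with χ n = χ 1 for every n ∈ O_p'(G). -/
theorem result {G : Type*} [Group G] [Finite G] (p : ℕ) [Fact p.Prime] (M : Ideal Cfsg.AlgInt) (hM : Cfsg.IsPModular p M) (hnc : ∃ k : ℕ, (Cfsg.pPrimeCore p G).index = p ^ k) : Cfsg.principalBlock M G = {χ : Cfsg.IrrCharacter G | ∀ n ∈ Cfsg.pPrimeCore p G, (χ : G → ℂ) n = (χ : G → ℂ) 1} := by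
  classical
  have hMp : M.IsPrime := isPModular_isPrime hM
  have : Fintype G := Fintype.ofFinite G
  have : Fintype (pPrimeCore p G) := Fintype.ofFinite _
  have hNn : (pPrimeCore p G).Normal := Subgroup.sSup_normal _ (fun _ h => h.1)
  have hp : ¬ p ∣ Nat.card (pPrimeCore p G) := by
    have hc := Cfsg.Agent.Lib.Helper76.pPrimeCore_coprime (G := G) p
    intro hd
    have := Nat.Coprime.eq_one_of_dvd hc.symm hd
    exact (Fact.out : p.Prime).one_lt.ne' this
  obtain ⟨k, hk⟩ := hnc
  -- the principal character of `G`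
  set one : IrrCharacter G := ⟨fun _ => 1, Cfsg.Agent.Lib.Helper78.isIrrCharacter_one⟩ with hone
  have hone_const : ∀ n ∈ pPrimeCore p G, (one : G → ℂ) n = (one : G → ℂ) 1 := fun _ _ => rfl
  ext χ
  show SameBlock M (fun _ : G => (1 : ℂ)) (χ : G → ℂ) ↔ _
  constructor
  · intro h n hn
    exact eq_apply_one_of_sameBlock_of_not_dvd (pPrimeCore p G) hM hp
      (χ := one) (ψ := χ) h hone_const n hn
  · intro h
    exact sameBlock_of_common_constituent (pPrimeCore p G) hM hk (χ := one) (ψ := χ)
      (classInner_res_oneIrr_ne_zero _ one hone_const) (classInner_res_oneIrr_ne_zero _ χ h)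

end Cfsg.Agent.S0939
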