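-- S0041 (helper35): fixed-point-free action on an abelian group: abelian or order pq implies cyclic.
import Cfsg.Statements.S0041
import Mathlib

set_option autoImplicit false
open Cfsg

namespace Cfsg.Agent.S0041

set_option linter.unusedSectionVars false
set_option linter.unusedVariables false

open Finset

section LemmaI

variable {A : Type*} [CommGroup A] [Finite A] {M : Type*} [AddCommGroup M] [Nontrivial M]

/-- abelian fixed-point-free ⟹ cyclic (Vandermonde argument) -/
theorem cyclic_of_comm (ρ : A →* Module.End ℤ M)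
    (hfpf : ∀ a : A, a ≠ 1 → ∀ m : M, ρ a m = m → m = 0) : IsCyclic A := by
  classical
  apply IsCyclic.of_exponent_eq_card
  by_contra hne
  obtain ⟨e, he⟩ : ∃ e, e = Monoid.exponent A := ⟨_, rfl⟩
  rw [← he] at hne
  have hdvd : e ∣ Nat.card A := he ▸ Group.exponent_dvd_nat_card
  have hpos : 0 < Nat.card A := Nat.card_pos
  have hlt : e + 1 ≤ Nat.card A := by
    have := Nat.le_of_dvd hpos hdvd
    omega
  have : Fintype A := Fintype.ofFinite A
  obtain ⟨f⟩ : Nonempty (Fin (e + 1) ↪ A) := by
    apply Function.Embedding.nonempty_of_card_le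
    rw [Fintype.card_fin, ← Nat.card_eq_fintype_card]
    exact hlt
  let S := MonoidAlgebra ℤ A
  let x : Fin (e + 1) → S := fun i => MonoidAlgebra.of ℤ A (f i)
  have hxe : ∀ i, x i ^ e = 1 := by
    intro i
    simp only [x]
    have h1 : f i ^ e = 1 := by
      have := Monoid.pow_exponent_eq_one (f i)
      rwa [← he] at this
    rw [← map_pow, h1, map_one]
  have hdet : (Matrix.vandermonde x).det = 0 := by
    have h0e : (0 : Fin (e + 1)) ≠ Fin.last e := by
      intro h
      have := congrArg Fin.val h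
      simp at this
      have hepos : 0 < e := he ▸ Monoid.exponent_pos_of_exists (Nat.card A) hpos
        (fun g => pow_card_eq_one')
      omega
    apply Matrix.det_zero_of_column_eq h0e
    intro i
    simp [Matrix.vandermonde_apply, hxe]
  rw [Matrix.det_vandermonde] at hdet
  let Φ := MonoidAlgebra.lift ℤ (Module.End ℤ M) A ρ
  have hinj : ∀ s : S, (∃ i j, i ≠ j ∧ s = x j - x i) → Function.Injective (Φ s) := by
    rintro s ⟨i, j, hij, rfl⟩
    rw [injective_iff_map_eq_zero]
    intro m hm
    simp only [x, map_sub, Φ, MonoidAlgebra.lift_of, LinearMap.sub_apply, sub_eq_zero] at hm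
    apply hfpf ((f i)⁻¹ * f j)
    · intro h
      apply hij
      apply f.injective
      rw [inv_mul_eq_one] at h
      exact h
    · rw [map_mul, Module.End.mul_apply, hm, ← Module.End.mul_apply, ← map_mul, inv_mul_cancel,
        map_one, Module.End.one_apply]
  have hprod : Function.Injective (Φ (∏ i : Fin (e + 1), ∏ j ∈ Ioi i, (x j - x i))) := by
    apply Finset.prod_induction _ (fun s => Function.Injective (Φ s))
    · intro a b ha hb
      rw [map_mul]
      exact ha.comp hb
    · rw [map_one]; exact Function.injective_id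
    · intro i _
      apply Finset.prod_induction _ (fun s => Function.Injective (Φ s))
      · intro a b ha hb
        rw [map_mul]
        exact ha.comp hb
      · rw [map_one]; exact Function.injective_id
      · intro j hj
        exact hinj _ ⟨i, j, (Finset.mem_Ioi.mp hj).ne, rfl⟩
  rw [hdet, map_zero] at hprod
  obtain ⟨m, hm⟩ := exists_ne (0 : M)
  exact hm (hprod (by simp))

end LemmaI

section LemmaII

variable {A : Type*} [Group A] [Finite A] {M : Type*} [AddCommGroup M]

/-- Lemma T -/
theorem sum_pow_eq_zero (ρ : A →* Module.End ℤ M)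
    (hfpf : ∀ a : A, a ≠ 1 → ∀ m : M, ρ a m = m → m = 0) {g : A} (hg : g ≠ 1) {n : ℕ}
    (hn : g ^ n = 1) (m : M) : ∑ k ∈ range n, ρ (g ^ k) m = 0 := by
  apply hfpf g hg
  rw [map_sum]
  have h1 : ∀ k, ρ g (ρ (g ^ k) m) = ρ (g ^ (k + 1)) m := by
    intro k
    rw [← Module.End.mul_apply, ← map_mul, pow_succ']
  simp only [h1]
  have e1 := Finset.sum_range_succ' (fun k => ρ (g ^ k) m) n
  have e2 := Finset.sum_range_succ (fun k => ρ (g ^ k) m) n
  rw [e2] at e1
  simp only [hn, pow_zero] at e1
  exact (add_right_cancel e1).symm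

/-- Lemma N -/
theorem sum_subgroup_eq_zero (ρ : A →* Module.End ℤ M)
    (hfpf : ∀ a : A, a ≠ 1 → ∀ m : M, ρ a m = m → m = 0) (B : Subgroup A) [Fintype B]
    (hB : B ≠ ⊥) (m : M) : ∑ b : B, ρ (b : A) m = 0 := by
  obtain ⟨c, hc, hc1⟩ := (Subgroup.bot_or_exists_ne_one B).resolve_left hB
  apply hfpf c hc1
  rw [map_sum]
  have h1 : ∀ b : B, ρ c (ρ (b : A) m) = ρ (((⟨c, hc⟩ : B) * b : B) : A) m := by
    intro b
    rw [← Module.End.mul_apply, ← map_mul]
    rfl
  simp only [h1]
  exact Fintype.sum_equiv (Equiv.mulLeft (⟨c, hc⟩ : B)) _ _ (fun b => rfl)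

/-- In a noncommutative group of order `p * q` with a normal subgroup `K` of order `q`,
nonidentity elements of `K` do not commute with elements outside `K`. -/
theorem not_commute_of_noncomm {p q : ℕ} (hp : p.Prime) (hq : q.Prime)
    (hcard : Nat.card A = p * q) (hnc : ¬ ∀ a b : A, a * b = b * a)
    (K : Subgroup A) (hK : Nat.card K = q) {z w : A} (hz : z ∈ K) (hz1 : z ≠ 1) (hw : w ∉ K) :
    z * w ≠ w * z := by
  intro hzw
  apply hnc
  have : Fact q.Prime := ⟨hq⟩
  have : Fact p.Prime := ⟨hp⟩
  -- K is commutative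
  have hKcyc : IsCyclic K := isCyclic_of_prime_card hK
  -- centralizer of z
  have hKC : K ≤ Subgroup.centralizer {z} := by
    intro y hy
    rw [Subgroup.mem_centralizer_singleton_iff]
    have := hKcyc.isMulCommutative
    have h1 : (⟨y, hy⟩ : K) * ⟨z, hz⟩ = ⟨z, hz⟩ * ⟨y, hy⟩ := mul_comm' _ _
    exact congrArg Subtype.val h1
  have hwC : w ∈ Subgroup.centralizer {z} := by
    rw [Subgroup.mem_centralizer_singleton_iff]
    exact hzw.symm
  have hCtop : Subgroup.centralizer {z} = ⊤ := by
    rw [← Subgroup.card_eq_iff_eq_top]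
    have h1 : q ∣ Nat.card (Subgroup.centralizer {z}) := hK ▸ Subgroup.card_dvd_of_le hKC
    have h2 : Nat.card (Subgroup.centralizer {z}) ∣ p * q := hcard ▸ Subgroup.card_subgroup_dvd_card _
    obtain ⟨t, ht⟩ := h1
    rw [ht, mul_comm p q] at h2
    have h3 : t ∣ p := (Nat.mul_dvd_mul_iff_left hq.pos).mp h2
    rcases (Nat.dvd_prime hp).mp h3 with rfl | rfl
    · exfalso
      apply hw
      have : K = Subgroup.centralizer {z} :=
        Subgroup.eq_of_le_of_card_ge hKC (by rw [ht, hK, mul_one])
      rw [this]; exact hwC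
    · rw [ht, hcard, mul_comm]
  have hzcen : z ∈ Subgroup.center A := by
    rw [Subgroup.mem_center_iff]
    intro g
    have : g ∈ Subgroup.centralizer {z} := hCtop ▸ Subgroup.mem_top g
    rw [Subgroup.mem_centralizer_singleton_iff] at this
    exact this
  -- the quotient by the center is cyclic
  have hq_dvd : q ∣ Nat.card (Subgroup.center A) := by
    have ho : orderOf z = q := by
      have h1 : orderOf (⟨z, hz⟩ : K) ∣ q := hK ▸ orderOf_dvd_natCard _
      rw [Subgroup.orderOf_mk] at h1
      rcases (Nat.dvd_prime hq).mp h1 with h | h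
      · exact absurd (orderOf_eq_one_iff.mp h) hz1
      · exact h
    rw [← ho]
    have := orderOf_dvd_natCard (⟨z, hzcen⟩ : Subgroup.center A)
    rwa [Subgroup.orderOf_mk] at this
  have hidx : (Subgroup.center A).index ∣ p := by
    have h1 := (Subgroup.center A).card_mul_index
    rw [hcard] at h1
    obtain ⟨t, ht⟩ := hq_dvd
    rw [ht] at h1
    have : q * (t * (Subgroup.center A).index) = q * p := by rw [← mul_assoc, h1, mul_comm]
    have := Nat.eq_of_mul_eq_mul_left hq.pos this
    exact ⟨t, by rw [← this, mul_comm]⟩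
  have hcyc : IsCyclic (A ⧸ Subgroup.center A) := by
    rcases (Nat.dvd_prime hp).mp hidx with h | h
    · have : Subsingleton (A ⧸ Subgroup.center A) := by
        rw [← Finite.card_le_one_iff_subsingleton]
        exact le_of_eq h
      exact isCyclic_of_subsingleton
    · exact isCyclic_of_prime_card h
  have := MonoidHom.isMulCommutative_of_isCyclic_of_ker_le_center
    (QuotientGroup.mk' (Subgroup.center A)) (by rw [QuotientGroup.ker_mk'])
  exact fun a b => mul_comm' a b

/-- the key averaging identity: `q • m = 0` -/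
theorem smul_eq_zero_of_noncomm [Finite M] (ρ : A →* Module.End ℤ M)
    (hfpf : ∀ a : A, a ≠ 1 → ∀ m : M, ρ a m = m → m = 0)
    {p q : ℕ} (hp : p.Prime) (hq : q.Prime) (hpq : p ≠ q)
    (hcard : Nat.card A = p * q) (hnc : ¬ ∀ a b : A, a * b = b * a)
    (K : Subgroup A) [K.Normal] (hK : Nat.card K = q) (m : M) : q • m = 0 := by
  classical
  have : Fact p.Prime := ⟨hp⟩
  have : Fintype K := Fintype.ofFinite K
  obtain ⟨x, hx⟩ := exists_prime_orderOf_dvd_card' (G := A) p (hcard ▸ dvd_mul_right p q)
  have hxp : x ^ p = 1 := hx ▸ pow_orderOf_eq_one x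
  have hKbot : K ≠ ⊥ := by
    intro h
    rw [h, Subgroup.card_bot] at hK
    exact hq.one_lt.ne hK
  -- powers of x outside K
  have hxk : ∀ k, 0 < k → k < p → x ^ k ∉ K := by
    intro k hk0 hkp hmem
    have hcop : Nat.Coprime (orderOf x) k := by
      rw [hx]
      exact (Nat.Prime.coprime_iff_not_dvd hp).mpr (Nat.not_dvd_of_pos_of_lt hk0 hkp)
    have ho : orderOf (x ^ k) = p := by rw [hcop.orderOf_pow, hx]
    have h1 : orderOf (⟨x ^ k, hmem⟩ : K) ∣ q := hK ▸ orderOf_dvd_natCard _
    rw [Subgroup.orderOf_mk, ho] at h1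
    exact hpq ((Nat.prime_dvd_prime_iff_eq hp hq).mp h1)
  -- the conjugates of x by elements of K
  have hT : ∀ y : K, ∑ k ∈ range p, ρ ((y : A)⁻¹ * x ^ k * (y : A)) m = 0 := by
    intro y
    have hg1 : (y : A)⁻¹ * x * (y : A) ≠ 1 := by
      intro h
      have : x = 1 := by
        have h2 : x = (y : A) * ((y : A)⁻¹ * x * (y : A)) * (y : A)⁻¹ := by group
        rw [h2, h]; group
      rw [this, orderOf_one] at hx
      exact hp.one_lt.ne hx
    have hgp : ((y : A)⁻¹ * x * (y : A)) ^ p = 1 := by
      have := conj_pow (a := (y : A)⁻¹) (b := x) (i := p)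
      rw [inv_inv] at this
      rw [this, hxp]; group
    have := sum_pow_eq_zero ρ hfpf hg1 hgp m
    convert this using 3 with k
    have := conj_pow (a := (y : A)⁻¹) (b := x) (i := k)
    rw [inv_inv] at this
    rw [this]
  -- for 0 < k < p the sum over K of conjugates of x^k vanishes
  have hS : ∀ k, 0 < k → k < p → ∑ y : K, ρ ((y : A)⁻¹ * x ^ k * (y : A)) m = 0 := by
    intro k hk0 hkp
    set w := x ^ k with hw
    have hwK : w ∉ K := hxk k hk0 hkp
    let θ : K → K := fun y => ⟨(y : A)⁻¹ * (w * (y : A) * w⁻¹),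
      K.mul_mem (K.inv_mem y.2) (‹K.Normal›.conj_mem _ y.2 w)⟩
    have hθinj : Function.Injective θ := by
      intro y y' h
      have h1 : (y : A)⁻¹ * (w * (y : A) * w⁻¹) = (y' : A)⁻¹ * (w * (y' : A) * w⁻¹) :=
        congrArg Subtype.val h
      by_contra hne
      have hz : (y : A) * (y' : A)⁻¹ ∈ K := K.mul_mem y.2 (K.inv_mem y'.2)
      have hz1 : (y : A) * (y' : A)⁻¹ ≠ 1 := by
        intro h2
        apply hne
        exact Subtype.ext (mul_inv_eq_one.mp h2)
      apply not_commute_of_noncomm hp hq hcard hnc K hK hz hz1 hwK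
      -- (y y'⁻¹) w = w (y y'⁻¹)
      have h3 : w * (y : A) * w⁻¹ = (y : A) * (y' : A)⁻¹ * (w * (y' : A) * w⁻¹) := by
        rw [mul_assoc ((y : A)) _ _, ← h1]; group
      calc (y : A) * (y' : A)⁻¹ * w
          = ((y : A) * (y' : A)⁻¹ * (w * (y' : A) * w⁻¹)) * (w * (y' : A)⁻¹) := by group
        _ = (w * (y : A) * w⁻¹) * (w * (y' : A)⁻¹) := by rw [← h3]
        _ = w * ((y : A) * (y' : A)⁻¹) := by group
    have hθbij : Function.Bijective θ := ⟨hθinj, Finite.surjective_of_injective hθinj⟩
    have h1 : ∀ y : K, ρ ((y : A)⁻¹ * w * (y : A)) m = ρ ((θ y : K) : A) (ρ w m) := by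
      intro y
      rw [← Module.End.mul_apply, ← map_mul]
      congr 2
      simp only [θ]
      group
    simp only [h1]
    rw [Fintype.sum_bijective θ hθbij (fun y => ρ ((θ y : K) : A) (ρ w m))
      (fun y => ρ (y : A) (ρ w m)) (fun y => rfl)]
    exact sum_subgroup_eq_zero ρ hfpf K hKbot _
  -- put everything together
  have htot : ∑ y : K, ∑ k ∈ range p, ρ ((y : A)⁻¹ * x ^ k * (y : A)) m = 0 :=
    Finset.sum_eq_zero (fun y _ => hT y)
  rw [Finset.sum_comm] at htot
  obtain ⟨p', rfl⟩ : ∃ p', p = p' + 1 := ⟨p - 1, by have := hp.pos; omega⟩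
  rw [Finset.sum_range_succ'] at htot
  have hrest : ∑ k ∈ range p', ∑ y : K, ρ ((y : A)⁻¹ * x ^ (k + 1) * (y : A)) m = 0 := by
    apply Finset.sum_eq_zero
    intro k hk
    exact hS (k + 1) (by omega) (by have := Finset.mem_range.mp hk; omega)
  rw [hrest, zero_add] at htot
  simp only [pow_zero, mul_one, inv_mul_cancel, map_one, Module.End.one_apply, Finset.sum_const,
    Finset.card_univ] at htot
  rw [← Nat.card_eq_fintype_card, hK] at htot
  exact htot

end LemmaII

section LemmaIII

variable {A : Type*} [Group A] [Finite A] {M : Type*} [AddCommGroup M]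

/-- a group of prime order `q` cannot act fixed-point-freely on a nontrivial group of exponent `q` -/
theorem false_of_smul_eq_zero [Finite M] [Nontrivial M] (ρ : A →* Module.End ℤ M)
    (hfpf : ∀ a : A, a ≠ 1 → ∀ m : M, ρ a m = m → m = 0)
    {q : ℕ} (hq : q.Prime) {u : A} (hu1 : u ≠ 1) (huq : u ^ q = 1)
    (hM : ∀ m : M, q • m = 0) : False := by
  classical
  have : Fact q.Prime := ⟨hq⟩
  have : Fintype M := Fintype.ofFinite M
  let f : Function.End M := fun m => ρ u m
  have hfpow : ∀ (n : ℕ) (m : M), (f ^ n : Function.End M) m = ρ (u ^ n) m := by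
    intro n
    induction n with
    | zero => intro m; rw [pow_zero, pow_zero, map_one]; rfl
    | succ n ih =>
      intro m
      have h1 : (f ^ (n + 1) : Function.End M) m = (f ^ n : Function.End M) (f m) := by
        rw [pow_succ]; rfl
      rw [h1, ih]
      show ρ (u ^ n) (ρ u m) = _
      rw [← Module.End.mul_apply, ← map_mul, ← pow_succ]
  have hf : f ^ q ^ 1 = 1 := by
    funext m
    rw [pow_one, hfpow, huq, map_one]
    rfl
  have hmod := Equiv.Perm.card_fixedPoints_modEq (p := q) (n := 1) hf
  have hfix : Function.fixedPoints f = {0} := by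
    ext m
    simp only [Function.mem_fixedPoints, Function.IsFixedPt, Set.mem_singleton_iff, f]
    constructor
    · exact hfpf u hu1 m
    · rintro rfl; simp
  have hcard1 : Fintype.card (Function.fixedPoints f) = 1 := by
    rw [Fintype.card_eq_one_iff]
    refine ⟨⟨0, by rw [hfix]; rfl⟩, ?_⟩
    rintro ⟨m, hm⟩
    apply Subtype.ext
    rw [hfix] at hm
    exact hm
  rw [hcard1] at hmod
  obtain ⟨m, hm⟩ := exists_ne (0 : M)
  have ho : addOrderOf m = q := by
    have h1 : addOrderOf m ∣ q := addOrderOf_dvd_of_nsmul_eq_zero (hM m)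
    rcases (Nat.dvd_prime hq).mp h1 with h | h
    · exact absurd (AddMonoid.addOrderOf_eq_one_iff.mp h) hm
    · exact h
  have hdvd : q ∣ Fintype.card M := by
    rw [← ho, ← Nat.card_eq_fintype_card]
    exact addOrderOf_dvd_natCard m
  have h0 : Fintype.card M ≡ 0 [MOD q] := (Nat.modEq_zero_iff_dvd).mpr hdvd
  have h01 : 0 ≡ 1 [MOD q] := h0.symm.trans hmod
  have := (Nat.modEq_zero_iff_dvd).mp h01.symm
  exact hq.one_lt.ne' (Nat.dvd_one.mp this)

end LemmaIII

section LemmaIV

variable {A : Type*} [Group A] [Finite A] {M : Type*} [AddCommGroup M]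

theorem minFac_mul_of_lt {p q : ℕ} (hp : p.Prime) (hq : q.Prime) (hlt : p < q) :
    (p * q).minFac = p := by
  have h1 : (p * q).minFac ∣ p * q := Nat.minFac_dvd _
  have hpr : (p * q).minFac.Prime := Nat.minFac_prime (by
    have := hp.one_lt; have := hq.one_lt; nlinarith)
  rcases (Nat.Prime.dvd_mul hpr).mp h1 with h | h
  · exact (Nat.prime_dvd_prime_iff_eq hpr hp).mp h
  · have h2 := (Nat.prime_dvd_prime_iff_eq hpr hq).mp h
    have h3 : (p * q).minFac ≤ p := Nat.minFac_le_of_dvd hp.two_le (dvd_mul_right p q)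
    omega

theorem cyclic_of_card_pq [Finite M] [Nontrivial M] (ρ : A →* Module.End ℤ M)
    (hfpf : ∀ a : A, a ≠ 1 → ∀ m : M, ρ a m = m → m = 0)
    {p q : ℕ} (hp : p.Prime) (hq : q.Prime) (hcard : Nat.card A = p * q) : IsCyclic A := by
  by_cases hc : ∀ a b : A, a * b = b * a
  · let _ : CommGroup A := { ‹Group A› with mul_comm := hc }
    exact cyclic_of_comm ρ hfpf
  · exfalso
    have hpq : p ≠ q := by
      rintro rfl
      have : Fact p.Prime := ⟨hp⟩
      apply hc
      have := IsPGroup.isMulCommutative_of_card_eq_prime_sq (G := A) (p := p) (by rw [hcard, sq])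
      exact fun a b => mul_comm' a b
    wlog hlt : p < q generalizing p q
    · exact this hq hp (by rw [hcard, mul_comm]) hpq.symm (by omega)
    have : Fact q.Prime := ⟨hq⟩
    obtain ⟨K, hK⟩ := Sylow.exists_subgroup_card_pow_prime (G := A) q (n := 1)
      (by rw [hcard, pow_one]; exact dvd_mul_left q p)
    rw [pow_one] at hK
    have hidx : K.index = p := by
      have h1 := K.card_mul_index
      rw [hK, hcard, mul_comm p q] at h1
      exact Nat.eq_of_mul_eq_mul_left hq.pos h1
    have hKn : K.Normal := by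
      apply Subgroup.normal_of_index_eq_minFac_card
      rw [hidx, hcard, minFac_mul_of_lt hp hq hlt]
    have hKbot : K ≠ ⊥ := by
      intro h
      rw [h, Subgroup.card_bot] at hK
      exact hq.one_lt.ne hK
    obtain ⟨u, hu, hu1⟩ := (Subgroup.bot_or_exists_ne_one K).resolve_left hKbot
    have huq : u ^ q = 1 := by
      have h1 : (⟨u, hu⟩ : K) ^ q = 1 := hK ▸ pow_card_eq_one'
      exact congrArg Subtype.val h1
    exact false_of_smul_eq_zero ρ hfpf hq hu1 huq
      (fun m => smul_eq_zero_of_noncomm ρ hfpf hp hq hpq hcard hc K hK m)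

end LemmaIV


section Concrete

variable {G : Type*} [Group G]

open scoped IsMulCommutative in
/-- conjugation by an element of `A` on the normalised commutative subgroup `V`, additively -/
noncomputable def conjRep (A V : Subgroup G) [IsMulCommutative V]
    (hAV : A ≤ Subgroup.normalizer (V : Set G)) : A →* Module.End ℤ (Additive V) where
  toFun a := (MonoidHom.toAdditive
    ({ toFun := fun v => ⟨(a : G) * v * (a : G)⁻¹,
          ((Subgroup.mem_normalizer_iff.mp (hAV a.2)) v).mp v.2⟩
       map_one' := by ext; simp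
       map_mul' := fun x y => by ext; simp [mul_assoc] } : V →* V)).toIntLinearMap
  map_one' := by
    ext m
    induction m using Additive.rec with
    | ofMul v => simp
  map_mul' a b := by
    ext m
    induction m using Additive.rec with
    | ofMul v => simp [mul_assoc]

open scoped IsMulCommutative in
lemma conjRep_apply (A V : Subgroup G) [IsMulCommutative V]
    (hAV : A ≤ Subgroup.normalizer (V : Set G)) (a : A) (v : V) :
    ((conjRep A V hAV a (Additive.ofMul v)).toMul : G) = (a : G) * v * (a : G)⁻¹ := rfl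

end Concrete

open scoped IsMulCommutative in
theorem result_aux {G : Type*} [Group G] [Finite G] (A V : Subgroup G) [IsMulCommutative V]
    (hV : V ≠ ⊥) (hAV : A ≤ Subgroup.normalizer (V : Set G))
    (hfpf : ∀ a ∈ A, a ≠ 1 → V ⊓ Subgroup.centralizer {a} = ⊥)
    (hA : IsMulCommutative A ∨ ∃ p q : ℕ, p.Prime ∧ q.Prime ∧ Nat.card A = p * q) :
    IsCyclic A := by
  have hnt : Nontrivial (Additive V) := by
    have : Nontrivial V := (Subgroup.nontrivial_iff_ne_bot V).mpr hV
    infer_instance
  have hfpf' : ∀ a : A, a ≠ 1 → ∀ m : Additive V, conjRep A V hAV a m = m → m = 0 := by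
    intro a ha m hm
    induction m using Additive.rec with
    | ofMul v =>
      have h1 : (a : G) * v * (a : G)⁻¹ = v := by
        rw [← conjRep_apply A V hAV a v, hm]; rfl
      have h2 : (v : G) ∈ V ⊓ Subgroup.centralizer {(a : G)} := by
        rw [Subgroup.mem_inf]
        refine ⟨v.2, ?_⟩
        rw [Subgroup.mem_centralizer_singleton_iff]
        calc (v : G) * a = ((a : G) * v * (a : G)⁻¹) * a := by rw [h1]
          _ = a * v := by group
      rw [hfpf a a.2 (fun h => ha (Subtype.ext h)), Subgroup.mem_bot] at h2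
      have : v = 1 := Subtype.ext h2
      rw [this]; rfl
  rcases hA with hA | ⟨p, q, hp, hq, hcard⟩
  · exact cyclic_of_comm (conjRep A V hAV) hfpf'
  · exact cyclic_of_card_pq (conjRep A V hAV) hfpf' hp hq hcard

/-- A group acting on a nontrivial abelian group so that no nonidentity element has a nonidentity fixed point is cyclic, provided it is abelian or its order is a product of two (possibly equal) primes. -/
theorem result {G : Type*} [Group G] [Finite G] (A V : Subgroup G) [IsMulCommutative V]
    (hV : V ≠ ⊥) (hAV : A ≤ Subgroup.normalizer (V : Set G)) (hfpf : ∀ a ∈ A, a ≠ 1 → V ⊓ Subgroup.centralizer {a} = ⊥)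
    (hA : IsMulCommutative A ∨ ∃ p q : ℕ, p.Prime ∧ q.Prime ∧ Nat.card A = p * q) : IsCyclic A :=
  result_aux A V hV hAV hfpf hA

end Cfsg.Agent.S0041
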