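-- S0016 (helper35): a finite p-group with a unique subgroup of order p is cyclic or generalized quaternion.
import Cfsg.Statements.S0016
import Cfsg.Agent.Lib.Helper35.QuaternionRecog
import Cfsg.Agent.Lib.Helper73.CyclicMax
import Cfsg.Agent.Lib.Helper73.CyclicMaxOdd
import Cfsg.Agent.Lib.Helper73.TwoGroup

set_option autoImplicit false
open Cfsg

namespace Cfsg.Agent.S0016

/-- all subgroups of order `p` coincide -/
def Uniq (p : ℕ) (G : Type*) [Group G] : Prop :=
  ∀ H K : Subgroup G, Nat.card H = p → Nat.card K = p → H = K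

section basics

variable {G : Type*} [Group G] {p : ℕ}

lemma uniq_subgroup (hu : Uniq p G) (A : Subgroup G) : Uniq p A := by
  intro C₁ C₂ h1 h2
  apply Subgroup.map_injective A.subtype_injective
  apply hu
  · rw [Subgroup.card_map_of_injective A.subtype_injective, h1]
  · rw [Subgroup.card_map_of_injective A.subtype_injective, h2]

lemma mem_zpowers_of_orderOf_eq (hu : Uniq p G) {x y : G} (hx : orderOf x = p) (hy : orderOf y = p) :
    y ∈ Subgroup.zpowers x := by
  have h := hu (Subgroup.zpowers x) (Subgroup.zpowers y) (by rw [Nat.card_zpowers, hx])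
    (by rw [Nat.card_zpowers, hy])
  rw [h]
  exact Subgroup.mem_zpowers y

end basics

section abelian

/-- the abelian case -/
theorem isCyclic_of_comm {A : Type*} [CommGroup A] [Finite A] (p : ℕ) [hp : Fact p.Prime]
    (hA : IsPGroup p A) (hu : Uniq p A) : IsCyclic A := by
  obtain ⟨g, hg⟩ := Monoid.exists_orderOf_eq_exponent (Monoid.ExponentExists.of_finite (G := A))
  have he0 : Monoid.exponent A ≠ 0 := Monoid.exponent_ne_zero_of_finite
  -- the key step
  have key : ∀ x : A, x ^ p ∈ Subgroup.zpowers g → x ∈ Subgroup.zpowers g := by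
    intro x hx
    by_cases hx1 : x = 1
    · rw [hx1]; exact Subgroup.one_mem _
    have hpx : p ∣ orderOf x := hA.dvd_orderOf hx1
    have hxe : orderOf x ∣ Monoid.exponent A := Monoid.order_dvd_exponent x
    obtain ⟨e', he'⟩ := hpx.trans hxe
    have he'0 : e' ≠ 0 := by
      rintro rfl
      rw [mul_zero] at he'
      exact he0 he'
    rw [← mem_powers_iff_mem_zpowers] at hx
    obtain ⟨j, hj⟩ := hx
    have hj : g ^ j = x ^ p := hj
    -- p ∣ j
    have h1 : (g ^ j) ^ e' = 1 := by
      rw [hj, ← pow_mul, ← he']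
      exact Monoid.pow_exponent_eq_one x
    rw [← pow_mul, ← orderOf_dvd_iff_pow_eq_one, hg, he'] at h1
    have hpj : p ∣ j := (Nat.mul_dvd_mul_iff_right (Nat.pos_of_ne_zero he'0)).mp h1
    obtain ⟨j', rfl⟩ := hpj
    -- the element w
    have hw : (x * (g ^ j')⁻¹) ^ p = 1 := by
      rw [mul_pow, inv_pow, ← pow_mul, mul_comm j' p, hj, mul_inv_cancel]
    by_cases hw1 : x * (g ^ j')⁻¹ = 1
    · have : x = g ^ j' := by rwa [mul_inv_eq_one] at hw1
      rw [this]
      exact Subgroup.npow_mem_zpowers g j'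
    · have hword : orderOf (x * (g ^ j')⁻¹) = p := orderOf_eq_prime hw hw1
      have hu' : orderOf (g ^ e') = p := by
        rw [orderOf_pow_of_dvd he'0 (by rw [hg, he']; exact dvd_mul_left _ _), hg, he']
        exact Nat.mul_div_cancel _ (Nat.pos_of_ne_zero he'0)
      have hmem := mem_zpowers_of_orderOf_eq hu hu' hword
      have hle : Subgroup.zpowers (g ^ e') ≤ Subgroup.zpowers g := by
        rw [Subgroup.zpowers_le]
        exact Subgroup.npow_mem_zpowers g e'
      have h2 := Subgroup.mul_mem _ (hle hmem) (Subgroup.npow_mem_zpowers g j')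
      rwa [inv_mul_cancel_right] at h2
  have key2 : ∀ (n : ℕ) (x : A), x ^ p ^ n ∈ Subgroup.zpowers g → x ∈ Subgroup.zpowers g := by
    intro n
    induction n with
    | zero => intro x hx; simpa using hx
    | succ n ih =>
      intro x hx
      apply ih
      apply key
      rw [← pow_mul, ← pow_succ]
      exact hx
  rw [isCyclic_iff_exists_zpowers_eq_top]
  refine ⟨g, eq_top_iff.mpr fun x _ => ?_⟩
  obtain ⟨n, hn⟩ := hA x
  apply key2 n
  rw [hn]
  exact Subgroup.one_mem _

end abelian

section maxnormal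

variable {G : Type*} [Group G]

/-- a subgroup of type `zpowers` of a central element is normal -/
lemma zpowers_normal_of_mem_center {Q : Type*} [Group Q] {z : Q} (hz : z ∈ Subgroup.center Q) :
    (Subgroup.zpowers z).Normal := by
  constructor
  intro n hn g
  have hn' : n ∈ Subgroup.center Q := (Subgroup.zpowers_le.mpr hz) hn
  have : g * n * g⁻¹ = n := by
    rw [Subgroup.mem_center_iff] at hn'
    rw [hn' g]; group
  rw [this]; exact hn

/-- in a finite `p`-group there is a normal commutative self-centralizing subgroup -/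
theorem exists_normal_comm_self_centralizing [Finite G] (p : ℕ) [hp : Fact p.Prime]
    (hG : IsPGroup p G) :
    ∃ A : Subgroup G, A.Normal ∧ IsMulCommutative A ∧ Subgroup.centralizer (A : Set G) ≤ A := by
  have hbot : (fun A : Subgroup G => A.Normal ∧ IsMulCommutative A) ⊥ := by
    refine ⟨inferInstance, ⟨⟨fun a b => ?_⟩⟩⟩
    apply Subtype.ext
    have ha := Subgroup.mem_bot.mp a.2
    have hb := Subgroup.mem_bot.mp b.2
    simp [ha, hb]
  obtain ⟨A, -, hAmax⟩ := Finite.exists_le_maximal
    (p := fun A : Subgroup G => A.Normal ∧ IsMulCommutative A) (a := ⊥) hbot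
  obtain ⟨⟨hAn, hAc⟩, hmax⟩ := hAmax
  refine ⟨A, hAn, hAc, ?_⟩
  by_contra hcon
  have hAcomm : ∀ a ∈ A, ∀ b ∈ A, a * b = b * a := by
    intro a ha b hb
    exact congrArg Subtype.val (hAc.is_comm.comm ⟨a, ha⟩ ⟨b, hb⟩)
  set C := Subgroup.centralizer (A : Set G) with hC
  have hCn : C.Normal := Subgroup.normal_centralizer
  set π := QuotientGroup.mk' A with hπ
  have hπsurj : Function.Surjective π := QuotientGroup.mk'_surjective A
  have hNn : (C.map π).Normal := hCn.map π hπsurj
  have hNbot : C.map π ≠ ⊥ := by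
    intro h
    apply hcon
    intro c hc
    have : π c ∈ C.map π := Subgroup.mem_map_of_mem π hc
    rw [h, Subgroup.mem_bot] at this
    exact (QuotientGroup.eq_one_iff c).mp this
  obtain ⟨zb, hzN, hz1, hzc⟩ :=
    Cfsg.Agent.Lib.Helper73.exists_ne_one_mem_center_of_normal' (hG.to_quotient A) (C.map π) hNbot
  obtain ⟨x, hxC, rfl⟩ := Subgroup.mem_map.mp hzN
  have hxA : x ∉ A := fun h => hz1 ((QuotientGroup.eq_one_iff x).mpr h)
  have hZn : (Subgroup.zpowers (π x)).Normal := zpowers_normal_of_mem_center hzc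
  set B := (Subgroup.zpowers (π x)).comap π with hB
  have hBn : B.Normal := hZn.comap π
  have hAB : A ≤ B := by
    intro a ha
    rw [hB, Subgroup.mem_comap]
    have : π a = 1 := (QuotientGroup.eq_one_iff a).mpr ha
    rw [this]; exact Subgroup.one_mem _
  have hxB : x ∈ B := by
    rw [hB, Subgroup.mem_comap]; exact Subgroup.mem_zpowers _
  -- every element of B is x^i * a
  have hBform : ∀ u ∈ B, ∃ i : ℤ, ∃ a ∈ A, u = x ^ i * a := by
    intro u hu
    rw [hB, Subgroup.mem_comap, Subgroup.mem_zpowers_iff] at hu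
    obtain ⟨i, hi⟩ := hu
    refine ⟨i, (x ^ i)⁻¹ * u, ?_, by group⟩
    rw [← QuotientGroup.eq]
    show π (x ^ i) = π u
    rw [map_zpow, hi]
  have hxcomm : ∀ a ∈ A, a * x = x * a := fun a ha => (Subgroup.mem_centralizer_iff.mp hxC) a ha
  have hxicomm : ∀ (i : ℤ), ∀ a ∈ A, a * x ^ i = x ^ i * a := by
    intro i a ha
    exact ((Commute.zpow_right (hxcomm a ha) i)).eq
  have hBc : IsMulCommutative B := by
    refine ⟨⟨fun u v => ?_⟩⟩
    apply Subtype.ext
    obtain ⟨i, a, ha, hu⟩ := hBform u u.2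
    obtain ⟨j, b, hb, hv⟩ := hBform v v.2
    show (u : G) * (v : G) = (v : G) * (u : G)
    rw [hu, hv]
    have e1 : x ^ i * a * (x ^ j * b) = x ^ i * (a * x ^ j) * b := by group
    have e2 : x ^ j * b * (x ^ i * a) = x ^ j * (b * x ^ i) * a := by group
    rw [e1, e2, hxicomm j a ha, hxicomm i b hb]
    have e3 : x ^ i * (x ^ j * a) * b = x ^ (i + j) * (a * b) := by rw [zpow_add]; group
    have e4 : x ^ j * (x ^ i * b) * a = x ^ (i + j) * (b * a) := by
      rw [add_comm, zpow_add]; group
    rw [e3, e4, hAcomm a ha b hb]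
  exact hxA (hmax ⟨hBn, hBc⟩ hAB hxB)

end maxnormal

section cyclicnormal

variable {G : Type*} [Group G]

lemma exists_pow_p_mem {p : ℕ} (hG : IsPGroup p G) (A : Subgroup G) {x : G} (hx : x ∉ A) :
    ∃ y : G, y ∉ A ∧ y ^ p ∈ A := by
  obtain ⟨n, hn⟩ := hG x
  induction n generalizing x with
  | zero =>
    exfalso
    apply hx
    have : x = 1 := by simpa using hn
    rw [this]; exact A.one_mem
  | succ n ih =>
    by_cases h : x ^ p ∈ A
    · exact ⟨x, hx, h⟩
    · apply ih h
      rw [← pow_mul, ← pow_succ']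
      exact hn

lemma mem_centralizer_zpowers_of_comm {a x : G} (h : x * a = a * x) :
    x ∈ Subgroup.centralizer (Subgroup.zpowers a : Set G) := by
  rw [Subgroup.mem_centralizer_iff]
  intro y hy
  obtain ⟨i, rfl⟩ := Subgroup.mem_zpowers_iff.mp hy
  have hc : Commute x a := h
  exact (hc.zpow_right i).eq.symm

/-- a normal self-centralizing proper cyclic subgroup of a finite `p`-group has order at least `p²` -/
lemma exists_orderOf_eq [Finite G] {p : ℕ} [hp : Fact p.Prime] (hG : IsPGroup p G) {a : G}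
    (hAn : (Subgroup.zpowers a).Normal)
    (hcent : Subgroup.centralizer (Subgroup.zpowers a : Set G) ≤ Subgroup.zpowers a)
    (hne : Subgroup.zpowers a ≠ ⊤) : ∃ k : ℕ, orderOf a = p ^ (k + 2) := by
  obtain ⟨m, hm⟩ := (IsPGroup.iff_orderOf.mp hG) a
  have hcen : ¬ (Subgroup.zpowers a : Set G) ⊆ Subgroup.center G := by
    intro h
    apply hne
    rw [eq_top_iff]
    refine le_trans ?_ hcent
    rw [Subgroup.centralizer_eq_top_iff_subset.mpr h]
  rcases m with _ | _ | k
  · exfalso
    apply hcen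
    rw [pow_zero, orderOf_eq_one_iff] at hm
    intro y hy
    rw [hm, Subgroup.zpowers_one_eq_bot] at hy
    have : y = 1 := Subgroup.mem_bot.mp hy
    rw [this]; exact Subgroup.one_mem _
  · exfalso
    apply hcen
    rw [zero_add, pow_one] at hm
    have ha1 : a ≠ 1 := by
      intro h
      rw [h, orderOf_one] at hm
      exact hp.out.one_lt.ne hm
    have hbot : Subgroup.zpowers a ≠ ⊥ := by
      intro h
      apply ha1
      have := Subgroup.mem_zpowers a
      rwa [h, Subgroup.mem_bot] at this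
    obtain ⟨z, hzA, hz1, hzc⟩ :=
      Cfsg.Agent.Lib.Helper73.exists_ne_one_mem_center_of_normal' hG (Subgroup.zpowers a) hbot
    have hle : Subgroup.zpowers z ≤ Subgroup.zpowers a := Subgroup.zpowers_le.mpr hzA
    have hcard : Nat.card (Subgroup.zpowers z) = p := by
      have hd : Nat.card (Subgroup.zpowers z) ∣ p := by
        have := Subgroup.card_dvd_of_le hle
        rwa [Nat.card_zpowers a, hm] at this
      rcases (Nat.dvd_prime hp.out).mp hd with h | h
      · exfalso
        rw [Nat.card_zpowers, orderOf_eq_one_iff] at h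
        exact hz1 h
      · exact h
    have heq : Subgroup.zpowers z = Subgroup.zpowers a := by
      apply Subgroup.eq_of_le_of_card_ge hle
      rw [hcard, Nat.card_zpowers, hm]
    intro y hy
    rw [SetLike.mem_coe, ← heq] at hy
    exact (Subgroup.zpowers_le.mpr hzc) hy
  · exact ⟨k, hm⟩

/-- odd case: contradiction -/
lemma false_of_odd [Finite G] {p : ℕ} [hp : Fact p.Prime] (hp2 : p ≠ 2) (hG : IsPGroup p G)
    (hu : Uniq p G) {a : G} (hAn : (Subgroup.zpowers a).Normal)
    (hcent : Subgroup.centralizer (Subgroup.zpowers a : Set G) ≤ Subgroup.zpowers a)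
    (hne : Subgroup.zpowers a ≠ ⊤) : False := by
  obtain ⟨k, hk⟩ := exists_orderOf_eq hG hAn hcent hne
  obtain ⟨x₀, hx₀⟩ : ∃ x : G, x ∉ Subgroup.zpowers a := by
    by_contra h
    push Not at h
    exact hne (eq_top_iff.mpr fun y _ => h y)
  obtain ⟨x, hx, hxp⟩ := exists_pow_p_mem hG _ hx₀
  have hnorm : x * a * x⁻¹ ∈ Subgroup.zpowers a := hAn.conj_mem a (Subgroup.mem_zpowers a) x
  have hnc : x * a * x⁻¹ ≠ a := by
    intro h
    apply hx
    apply hcent
    apply mem_centralizer_zpowers_of_comm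
    calc x * a = (x * a * x⁻¹) * x := by group
      _ = a * x := by rw [h]
  obtain ⟨b, hb, hbA, -⟩ :=
    Cfsg.Agent.Lib.Helper73.cyclic_index_p_core p hp2 k a x hk hnorm hxp hx hnc
  have hu' : orderOf (a ^ p ^ (k + 1)) = p := by
    rw [orderOf_pow_of_dvd (pow_ne_zero _ hp.out.ne_zero) (by rw [hk]; exact pow_dvd_pow p (by omega)),
      hk, pow_succ p (k + 1)]
    exact Nat.mul_div_cancel_left _ (pow_pos hp.out.pos _)
  have hmem := mem_zpowers_of_orderOf_eq hu hu' hb
  apply hbA
  have hle : Subgroup.zpowers (a ^ p ^ (k + 1)) ≤ Subgroup.zpowers a :=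
    Subgroup.zpowers_le.mpr (Subgroup.npow_mem_zpowers a _)
  exact hle hmem

end cyclicnormal

section two

variable {G : Type*} [Group G]

open Subgroup in
/-- `p = 2`: the group is generalized quaternion -/
lemma quaternion_of_two [Finite G] (hG : IsPGroup 2 G) (hu : Uniq 2 G) {a : G}
    (hAn : (zpowers a).Normal) (hcent : centralizer (zpowers a : Set G) ≤ zpowers a)
    (hne : zpowers a ≠ ⊤) : ∃ n : ℕ, Nonempty (G ≃* QuaternionGroup (2 ^ n)) := by
  have : Fact (Nat.Prime 2) := ⟨Nat.prime_two⟩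
  obtain ⟨k, hk⟩ := exists_orderOf_eq hG hAn hcent hne
  have hk4 : orderOf a = 4 * 2 ^ k := by rw [hk]; ring
  -- the involution of A
  have hu' : orderOf (a ^ (2 * 2 ^ k)) = 2 := by
    rw [orderOf_pow_of_dvd (by positivity) (by rw [hk4]; exact ⟨2, by ring⟩), hk4]
    have : 4 * 2 ^ k = 2 * (2 * 2 ^ k) := by ring
    rw [this]; exact Nat.mul_div_cancel _ (by positivity)
  have hinvol : ∀ b : G, b ^ 2 = 1 → b ∈ zpowers a := by
    intro b hb
    by_cases hb1 : b = 1
    · rw [hb1]; exact one_mem _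
    · have hbo : orderOf b = 2 := orderOf_eq_prime hb hb1
      have := mem_zpowers_of_orderOf_eq hu hu' hbo
      exact (zpowers_le.mpr (npow_mem_zpowers a _)) this
  have hncomm : ∀ y : G, y ∉ zpowers a → y * a * y⁻¹ ≠ a := by
    intro y hy h
    apply hy
    apply hcent
    apply mem_centralizer_zpowers_of_comm
    calc y * a = (y * a * y⁻¹) * y := by group
      _ = a * y := by rw [h]
  -- (i)
  have step1 : ∀ y : G, y ∉ zpowers a → y * y ∈ zpowers a →
      y * a * y⁻¹ = a⁻¹ ∧
        ∃ b : G, b ∉ zpowers a ∧ b * b = a ^ (2 * 2 ^ k) ∧ b * a * b⁻¹ = a⁻¹ := by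
    intro y hy hyy
    have hnorm : y * a * y⁻¹ ∈ zpowers a := hAn.conj_mem a (mem_zpowers a) y
    obtain ⟨b, hbA, hyb, hcases⟩ :=
      Cfsg.Agent.Lib.Helper73.cyclic_index_two_core k a y hk4 hnorm hyy hy (hncomm y hy)
    have hb : b ^ 2 = a ^ (2 * 2 ^ k) ∧ b * a * b⁻¹ = a⁻¹ := by
      rcases hcases with ⟨h1, -⟩ | h | ⟨-, h1, -⟩ | ⟨-, h1, -⟩
      · exact absurd (hinvol b h1) hbA
      · exact h
      · exact absurd (hinvol b h1) hbA
      · exact absurd (hinvol b h1) hbA
    refine ⟨?_, b, hbA, by rw [← pow_two]; exact hb.1, hb.2⟩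
    obtain ⟨i, hi⟩ := mem_zpowers_iff.mp hyb
    have hbe : b = y * a ^ i := by rw [hi]; group
    rw [← hb.2, hbe]
    group
  -- (ii)
  have step2 : ∀ w : G, w * w ∉ zpowers a → (w * w) * (w * w) ∈ zpowers a → False := by
    intro w hw hww
    have hinv := (step1 (w * w) hw hww).1
    have hnorm : w * a * w⁻¹ ∈ zpowers a := hAn.conj_mem a (mem_zpowers a) w
    obtain ⟨r, hr⟩ := mem_zpowers_iff.mp hnorm
    have h2 : (w * w) * a * (w * w)⁻¹ = a ^ (r * r) := by
      calc (w * w) * a * (w * w)⁻¹ = w * (w * a * w⁻¹) * w⁻¹ := by group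
        _ = w * a ^ r * w⁻¹ := by rw [hr]
        _ = (w * a * w⁻¹) ^ r := by rw [conj_zpow]
        _ = (a ^ r) ^ r := by rw [hr]
        _ = a ^ (r * r) := by rw [zpow_mul]
    rw [hinv] at h2
    have h3 : a ^ (r * r + 1) = 1 := by rw [zpow_add, ← h2, zpow_one, inv_mul_cancel]
    have h4 : (orderOf a : ℤ) ∣ r * r + 1 := orderOf_dvd_iff_zpow_eq_one.mpr h3
    rw [hk4] at h4
    have h5 : (4 : ℤ) ∣ r * r + 1 := dvd_trans ⟨(2 : ℤ) ^ k, by push_cast; ring⟩ h4
    obtain ⟨m, hm⟩ := h5
    rcases Int.even_or_odd' r with ⟨t, rfl | rfl⟩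
    · have e : (2 * t) * (2 * t) = 4 * (t * t) := by ring
      rw [e] at hm
      generalize t * t = u at hm
      omega
    · have e : (2 * t + 1) * (2 * t + 1) = 4 * (t * t) + 4 * t + 1 := by ring
      rw [e] at hm
      generalize t * t = u at hm
      omega
  -- (iii)
  have step3 : ∀ (n : ℕ) (y : G), y ^ 2 ^ n ∈ zpowers a → y ∈ zpowers a ∨ y * y ∈ zpowers a := by
    intro n
    induction n with
    | zero => intro y hy; left; simpa using hy
    | succ n ih =>
      intro y hy
      have h1 : (y * y) ^ 2 ^ n ∈ zpowers a := by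
        rw [← pow_two, ← pow_mul, ← pow_succ']; exact hy
      right
      rcases ih (y * y) h1 with h | h
      · exact h
      · by_contra hyy
        exact step2 y hyy h
  have step3' : ∀ y : G, y ∈ zpowers a ∨ y * y ∈ zpowers a := by
    intro y
    obtain ⟨n, hn⟩ := hG y
    apply step3 n
    rw [hn]; exact one_mem _
  -- (iv)
  obtain ⟨x₀, hx₀⟩ : ∃ x : G, x ∉ zpowers a := by
    by_contra h
    push Not at h
    exact hne (eq_top_iff.mpr fun y _ => h y)
  obtain ⟨-, b, hbA, hbb, hba⟩ := step1 x₀ hx₀ ((step3' x₀).resolve_left hx₀)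
  -- (v)
  have hall : ∀ y : G, y ∈ zpowers a ∨ b⁻¹ * y ∈ zpowers a := by
    intro y
    by_cases hy : y ∈ zpowers a
    · left; exact hy
    · right
      have hyy := (step3' y).resolve_left hy
      have hy1 := (step1 y hy hyy).1
      apply hcent
      apply mem_centralizer_zpowers_of_comm
      have e1 : y * a = a⁻¹ * y := by
        calc y * a = (y * a * y⁻¹) * y := by group
          _ = a⁻¹ * y := by rw [hy1]
      have e2 : b⁻¹ * a⁻¹ = a * b⁻¹ := by
        rw [← hba]; group
      calc b⁻¹ * y * a = b⁻¹ * (y * a) := by group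
        _ = b⁻¹ * (a⁻¹ * y) := by rw [e1]
        _ = (b⁻¹ * a⁻¹) * y := by group
        _ = a * b⁻¹ * y := by rw [e2]
        _ = a * (b⁻¹ * y) := by group
  -- (vi)
  refine ⟨k + 1, ?_⟩
  have hα : orderOf a = 2 * 2 ^ (k + 1) := by rw [hk4]; ring
  have hβ2 : b * b = a ^ 2 ^ (k + 1) := by rw [hbb, pow_succ']
  exact Cfsg.Agent.Lib.Helper35.nonempty_mulEquiv_quaternionGroup (2 ^ (k + 1)) a b hα hβ2 hba hbA hall

end two

/-- A finite p-group in which only one subgroup has order p is either cyclic or (with p = 2) isomorphic to a generalized quaternion group. -/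
theorem result {G : Type*} [Group G] [Finite G] (p : ℕ) [Fact p.Prime]
    (hG : IsPGroup p G) (huniq : ∀ H K : Subgroup G, Nat.card H = p → Nat.card K = p → H = K) :
    IsCyclic G ∨ (p = 2 ∧ ∃ n : ℕ, Nonempty (G ≃* QuaternionGroup (2 ^ n))) := by
  have hu : Uniq p G := huniq
  obtain ⟨A, hAn, hAc, hcent⟩ := exists_normal_comm_self_centralizing p hG
  have hAcyc : IsCyclic A := by
    let _ : CommGroup A := { (inferInstance : Group A) with mul_comm := hAc.is_comm.comm }
    exact isCyclic_of_comm p (hG.to_subgroup A) (uniq_subgroup hu A)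
  obtain ⟨⟨a, haA⟩, hgen⟩ := hAcyc.exists_generator
  have hAeq : A = Subgroup.zpowers a := by
    apply le_antisymm
    · intro x hx
      have := hgen ⟨x, hx⟩
      obtain ⟨i, hi⟩ := Subgroup.mem_zpowers_iff.mp this
      rw [Subgroup.mem_zpowers_iff]
      exact ⟨i, by simpa using congrArg Subtype.val hi⟩
    · exact Subgroup.zpowers_le.mpr haA
  subst hAeq
  by_cases htop : Subgroup.zpowers a = ⊤
  · left
    exact isCyclic_iff_exists_zpowers_eq_top.mpr ⟨a, htop⟩
  · by_cases hp2 : p = 2
    · subst hp2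
      right
      exact ⟨rfl, quaternion_of_two hG hu hAn hcent htop⟩
    · exact (false_of_odd hp2 hG hu hAn hcent htop).elim

end Cfsg.Agent.S0016
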