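-- S0039 (helper35): Frobenius complements in a semidirect product.
import Cfsg.Statements.S0039

set_option autoImplicit false
open Cfsg

namespace Cfsg.Agent.S0039

open scoped Pointwise

/-- In a finite group that is a semidirect product of a normal subgroup K by a nontrivial subgroup H, H is a Frobenius complement exactly when each nonidentity element of H acts without nonidentity fixed points on K by conjugation. -/
theorem result {G : Type*} [Group G] [Finite G] (K H : Subgroup G) [K.Normal]
    (hc : Subgroup.IsComplement' K H) (hK : K ≠ ⊥) (hH : H ≠ ⊥) :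
    Cfsg.IsFrobeniusComplement H ↔ ∀ h ∈ H, h ≠ 1 → K ⊓ Subgroup.centralizer {h} = ⊥ := by
  have hdisj : ∀ x, x ∈ K → x ∈ H → x = 1 := fun x hxK hxH => by
    have := hc.disjoint
    rw [Subgroup.disjoint_def] at this
    exact this hxK hxH
  have hdecomp : ∀ g : G, ∃ k ∈ K, ∃ h ∈ H, g = k * h := by
    intro g
    obtain ⟨⟨k, h⟩, hkh, -⟩ := (Subgroup.isComplement'_def.mp hc).existsUnique g
    exact ⟨k.1, k.2, h.1, h.2, hkh.symm⟩
  constructor
  · rintro ⟨_, _, hF⟩ h hh hh1
    rw [eq_bot_iff]
    intro k hkKC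
    rw [Subgroup.mem_inf] at hkKC
    obtain ⟨hkK, hkC⟩ := hkKC
    rw [Subgroup.mem_bot]
    by_contra hk1
    have hkH : k ∉ H := fun hk => hk1 (hdisj k hkK hk)
    have hbot := hF k hkH
    have hmem : h ∈ H ⊓ (MulAut.conj k • H) := by
      rw [Subgroup.mem_inf]
      refine ⟨hh, ?_⟩
      rw [Subgroup.mem_pointwise_smul_iff_inv_smul_mem]
      simp only [MulAut.smul_def, MulAut.conj_inv_apply]
      have hkC' : k * h = h * k := Subgroup.mem_centralizer_singleton_iff.mp hkC
      have : k⁻¹ * h * k = h := by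
        rw [mul_assoc, ← hkC', ← mul_assoc, inv_mul_cancel, one_mul]
      rw [this]
      exact hh
    rw [hbot] at hmem
    exact hh1 (Subgroup.mem_bot.mp hmem)
  · intro hfpf
    refine ⟨hH, ?_, ?_⟩
    · intro htop
      apply hK
      rw [eq_bot_iff]
      intro k hk
      exact Subgroup.mem_bot.mpr (hdisj k hk (htop ▸ Subgroup.mem_top k))
    · intro g hg
      rw [eq_bot_iff]
      intro x hx
      rw [Subgroup.mem_inf] at hx
      obtain ⟨hxH, hxg⟩ := hx
      rw [Subgroup.mem_bot]
      obtain ⟨k, hk, h0, hh0, rfl⟩ := hdecomp g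
      have hk1 : k ≠ 1 := by
        rintro rfl
        exact hg (by simpa using hh0)
      rw [Subgroup.mem_pointwise_smul_iff_inv_smul_mem] at hxg
      simp only [MulAut.smul_def, MulAut.conj_inv_apply] at hxg
      have hy : k⁻¹ * x * k ∈ H := by
        have := H.mul_mem (H.mul_mem hh0 hxg) (H.inv_mem hh0)
        convert this using 1
        group
      have h1 : x * (k⁻¹ * x * k)⁻¹ ∈ K := by
        have : x * (k⁻¹ * x * k)⁻¹ = (x * k⁻¹ * x⁻¹) * k := by group
        rw [this]
        exact K.mul_mem (‹K.Normal›.conj_mem _ (K.inv_mem hk) x) hk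
      have h2 : x * (k⁻¹ * x * k)⁻¹ ∈ H := H.mul_mem hxH (H.inv_mem hy)
      have h3 := hdisj _ h1 h2
      by_contra hx1
      have hxy : x = k⁻¹ * x * k := mul_inv_eq_one.mp h3
      have hkc : k ∈ K ⊓ Subgroup.centralizer {x} := by
        rw [Subgroup.mem_inf]
        refine ⟨hk, ?_⟩
        rw [Subgroup.mem_centralizer_singleton_iff]
        calc k * x = k * (k⁻¹ * x * k) := by rw [← hxy]
          _ = x * k := by group
      rw [hfpf x hxH hx1] at hkc
      exact hk1 (Subgroup.mem_bot.mp hkc)

end Cfsg.Agent.S0039
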