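import Cfsg.Statements.S1124
-- import your own Cfsg.Agent.* helpers here

set_option autoImplicit false
open scoped Pointwise
open Cfsg

namespace Cfsg.Agent.S1124

section
variable {M : Type*} [Group M]

/-- In a subgroup of odd order `2k+1`, `x = (x^2)^(k+1)`. -/
theorem eq_sq_pow {X : Subgroup M} {k : ℕ} (hk : Nat.card X = 2 * k + 1) {x : M} (hx : x ∈ X) :
    (x ^ 2) ^ (k + 1) = x := by
  have h1 : x ^ (2 * k + 1) = 1 := by
    have h0 : (⟨x, hx⟩ : X) ^ Nat.card X = 1 := pow_card_eq_one'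
    have := congrArg Subtype.val h0
    rw [hk] at this
    simpa using this
  rw [← pow_mul]
  have : 2 * (k + 1) = (2 * k + 1) + 1 := by ring
  rw [this, pow_succ, h1, one_mul]

theorem sq_inj {X : Subgroup M} {k : ℕ} (hk : Nat.card X = 2 * k + 1) {x y : M} (hx : x ∈ X) (hy : y ∈ X)
    (h : x ^ 2 = y ^ 2) : x = y := by
  rw [← eq_sq_pow hk hx, ← eq_sq_pow hk hy, h]

end

/-- Let `t` be an element of order 2 of a finite group normalising a subgroup `X` of odd order, `Y = C_X(t)` and `Z` the set of elements of `X` inverted by `t`. Then `(y, z) ↦ y z` is a bijection `Y × Z → X`, so `|X| = |Y| |Z|`, and the subgroup generated by `Z` is normal in `X`. -/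
theorem result {M : Type*} [Group M] [Finite M]
    (t : M) (ht : orderOf t = 2) (X : Subgroup M) (hodd : Odd (Nat.card X))
    (hnorm : ∀ x ∈ X, t * x * t⁻¹ ∈ X) :
    (∀ x ∈ X, ∃! p : M × M, p.1 ∈ X ⊓ Subgroup.centralizer {t} ∧ p.2 ∈ Cfsg.invertedBy X t ∧ x = p.1 * p.2) ∧
      Nat.card X = Nat.card ↥(X ⊓ Subgroup.centralizer {t}) * Nat.card (Cfsg.invertedBy X t) ∧
      ∀ x ∈ X, MulAut.conj x • Subgroup.closure (Cfsg.invertedBy X t) = Subgroup.closure (Cfsg.invertedBy X t) := by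
  obtain ⟨k, hk⟩ := hodd
  have htt : t * t = 1 := by
    have := pow_orderOf_eq_one t
    rwa [ht, pow_two] at this
  have htinv : t⁻¹ = t := inv_eq_of_mul_eq_one_left htt
  -- conjugation by t as a function
  have hconj_mul : ∀ x y : M, t * (x * y) * t⁻¹ = (t * x * t⁻¹) * (t * y * t⁻¹) := by
    intro x y; group
  have hconj_inv : ∀ x : M, t * x⁻¹ * t⁻¹ = (t * x * t⁻¹)⁻¹ := by
    intro x; group
  have hconj_conj : ∀ x : M, t * (t * x * t⁻¹) * t⁻¹ = x := by
    intro x
    rw [htinv]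
    calc t * (t * x * t) * t = (t * t) * x * (t * t) := by group
      _ = x := by rw [htt]; group
  have hconj_pow : ∀ (x : M) (n : ℕ), t * x ^ n * t⁻¹ = (t * x * t⁻¹) ^ n := by
    intro x n
    exact (conj_pow (a := t) (b := x) (i := n)).symm
  -- membership in centralizer
  have hcent : ∀ y : M, y ∈ Subgroup.centralizer {t} ↔ t * y * t⁻¹ = y := by
    intro y
    rw [Subgroup.mem_centralizer_iff]
    constructor
    · intro h
      have := h t (Set.mem_singleton t)
      rw [this]; group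
    · intro h u hu
      rw [Set.mem_singleton_iff] at hu
      subst hu
      calc u * y = (u * y * u⁻¹) * u := by group
        _ = y * u := by rw [h]
  -- key relation: for valid pair, x⁻¹ * (t x t⁻¹) = (z^2)⁻¹
  have hkey : ∀ y z : M, t * y * t⁻¹ = y → t * z * t⁻¹ = z⁻¹ →
      (y * z)⁻¹ * (t * (y * z) * t⁻¹) = (z ^ 2)⁻¹ := by
    intro y z hy hz
    rw [hconj_mul, hy, hz]; group
  have hexun : ∀ x ∈ X, ∃! p : M × M, p.1 ∈ X ⊓ Subgroup.centralizer {t} ∧ p.2 ∈ Cfsg.invertedBy X t ∧ x = p.1 * p.2 := by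
    intro x hx
    -- w = x⁻¹ * (t x t⁻¹)
    set w : M := x⁻¹ * (t * x * t⁻¹) with hw
    have hwX : w ∈ X := X.mul_mem (X.inv_mem hx) (hnorm x hx)
    have hwinv : t * w * t⁻¹ = w⁻¹ := by
      rw [hw, hconj_mul, hconj_inv, hconj_conj]; group
    set z : M := (w⁻¹) ^ (k + 1) with hz
    have hzX : z ∈ X := X.pow_mem (X.inv_mem hwX) _
    have hz2 : z ^ 2 = w⁻¹ := by
      rw [hz, ← pow_mul, mul_comm, pow_mul]
      exact eq_sq_pow hk (X.inv_mem hwX)
    have hzinv : t * z * t⁻¹ = z⁻¹ := by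
      rw [hz, hconj_pow, hconj_inv, hwinv, inv_inv, ← inv_pow, inv_inv]
    have hyfix : t * (x * z⁻¹) * t⁻¹ = x * z⁻¹ := by
      rw [hconj_mul, hconj_inv, hzinv, inv_inv]
      have : t * x * t⁻¹ = x * w := by rw [hw]; group
      rw [this]
      have hw' : w = (z ^ 2)⁻¹ := by rw [hz2, inv_inv]
      rw [hw']; group
    refine ⟨(x * z⁻¹, z), ⟨?_, ?_, ?_⟩, ?_⟩
    · exact ⟨X.mul_mem hx (X.inv_mem hzX), (hcent _).2 hyfix⟩
    · exact ⟨hzX, hzinv⟩
    · simp
    · rintro ⟨y', z'⟩ ⟨⟨hy'X, hy'C⟩, ⟨hz'X, hz'inv⟩, hxe⟩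
      simp only at hy'X hy'C hz'X hz'inv hxe
      have h1 := hkey y' z' ((hcent _).1 hy'C) hz'inv
      rw [← hxe] at h1
      have h2 : z' ^ 2 = z ^ 2 := by
        rw [hz2, ← inv_inj, ← h1, inv_inv]
      have h3 : z' = z := sq_inj hk hz'X hzX h2
      have h4 : y' = x * z⁻¹ := by rw [hxe, h3]; group
      rw [h3, h4]
  refine ⟨hexun, ?_, ?_⟩
  · -- cardinality
    let f : ↥(X ⊓ Subgroup.centralizer {t}) × ↥(Cfsg.invertedBy X t) → ↥X :=
      fun p => ⟨(p.1 : M) * (p.2 : M), X.mul_mem p.1.2.1 p.2.2.1⟩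
    have hf : Function.Bijective f := by
      constructor
      · rintro ⟨⟨y1, hy1⟩, ⟨z1, hz1⟩⟩ ⟨⟨y2, hy2⟩, ⟨z2, hz2⟩⟩ h
        have h' : y1 * z1 = y2 * z2 := congrArg Subtype.val h
        obtain ⟨p, _, hp⟩ := hexun (y1 * z1) (X.mul_mem hy1.1 hz1.1)
        have e1 := hp (y1, z1) ⟨hy1, hz1, rfl⟩
        have e2 := hp (y2, z2) ⟨hy2, hz2, h'⟩
        have e3 : (y1, z1) = (y2, z2) := e1.trans e2.symm
        simp only [Prod.mk.injEq] at e3
        obtain ⟨rfl, rfl⟩ := e3
        rfl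
      · rintro ⟨x, hx⟩
        obtain ⟨⟨y, z⟩, ⟨hy, hz, hxe⟩, _⟩ := hexun x hx
        exact ⟨(⟨y, hy⟩, ⟨z, hz⟩), Subtype.ext hxe.symm⟩
    rw [← Nat.card_eq_of_bijective f hf, Nat.card_prod]
  · -- normality
    set N := Subgroup.closure (Cfsg.invertedBy X t) with hN
    -- conjugation by elements of X maps N into N
    have hstep : ∀ x ∈ X, ∀ n ∈ N, x * n * x⁻¹ ∈ N := by
      intro x hx n hn
      obtain ⟨⟨y, z⟩, ⟨⟨hyX, hyC⟩, hzZ, hxe⟩, _⟩ := hexun x hx
      simp only at hyX hyC hzZ hxe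
      have hyfix := (hcent y).1 hyC
      have hzN : z ∈ N := Subgroup.subset_closure hzZ
      have h1 : z * n * z⁻¹ ∈ N := N.mul_mem (N.mul_mem hzN hn) (N.inv_mem hzN)
      -- conjugation by y preserves N
      have hy : ∀ m ∈ N, y * m * y⁻¹ ∈ N := by
        intro m hm
        induction hm using Subgroup.closure_induction with
        | mem m hm =>
          apply Subgroup.subset_closure
          refine ⟨X.mul_mem (X.mul_mem hyX hm.1) (X.inv_mem hyX), ?_⟩
          rw [hconj_mul, hconj_mul, hconj_inv, hyfix, hm.2]; group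
        | one => simp
        | mul a b _ _ ha hb =>
          have : y * (a * b) * y⁻¹ = (y * a * y⁻¹) * (y * b * y⁻¹) := by group
          rw [this]; exact N.mul_mem ha hb
        | inv a _ ha =>
          have : y * a⁻¹ * y⁻¹ = (y * a * y⁻¹)⁻¹ := by group
          rw [this]; exact N.inv_mem ha
      have : x * n * x⁻¹ = y * (z * n * z⁻¹) * y⁻¹ := by rw [hxe]; group
      rw [this]; exact hy _ h1
    intro x hx
    apply le_antisymm
    · intro m hm
      rw [Subgroup.mem_pointwise_smul_iff_inv_smul_mem] at hm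
      have h := hstep x hx _ hm
      have e : x * ((MulAut.conj x)⁻¹ • m) * x⁻¹ = m := by
        simp [MulAut.smul_def, mul_assoc]
      rwa [e] at h
    · intro m hm
      rw [Subgroup.mem_pointwise_smul_iff_inv_smul_mem]
      have h := hstep x⁻¹ (X.inv_mem hx) m hm
      have e : (MulAut.conj x)⁻¹ • m = x⁻¹ * m * x⁻¹⁻¹ := by
        simp [MulAut.smul_def, mul_assoc]
      rwa [e]

end Cfsg.Agent.S1124
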