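import Cfsg.Statements.S0740
import Cfsg.Agent.Lib.Helper59.Zassenhaus

set_option autoImplicit false
open Cfsg

namespace Cfsg.Agent.S0740

open MulAction Cfsg.Agent.Lib.Helper59 in
/-- conjugating an involution that moves a point to one swapping `a` and `b` -/
theorem exists_conj_swap {G Ω : Type*} [Group G] [MulAction G Ω]
    (hZ : Cfsg.IsZassenhausGroup G Ω) {a b : Ω} (hab : a ≠ b) (z : G) (hz : orderOf z = 2) :
    ∃ g : G, orderOf (g * z * g⁻¹) = 2 ∧ (g * z * g⁻¹) • a = b ∧ (g * z * g⁻¹) • b = a := by
  have hz1 : z ≠ 1 := by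
    intro h
    rw [h, orderOf_one] at hz
    omega
  have hzz : z * z = 1 := by
    have := pow_orderOf_eq_one z
    rwa [hz, pow_two] at this
  have hex : ∃ c : Ω, z • c ≠ c := by
    by_contra hcon
    push Not at hcon
    apply hz1
    have := hZ.1
    apply FaithfulSMul.eq_of_smul_eq_smul (α := Ω)
    intro d
    rw [hcon d, one_smul]
  obtain ⟨c, hc⟩ := hex
  obtain ⟨g, hgc, hgd⟩ := zass_two_trans hZ c (z • c) a b (Ne.symm hc) hab
  have hgc' : g⁻¹ • a = c := by rw [inv_smul_eq_iff, hgc]
  have hgd' : g⁻¹ • b = z • c := by rw [inv_smul_eq_iff, hgd]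
  refine ⟨g, ?_, ?_, ?_⟩
  · rw [← hz]
    symm
    apply SemiconjBy.orderOf_eq g
    show g * z = g * z * g⁻¹ * g
    group
  · rw [mul_smul, mul_smul, hgc', hgd]
  · rw [mul_smul, mul_smul, hgd', ← mul_smul z z, hzz, one_smul, hgc]

open MulAction Cfsg.Agent.Lib.Helper59 in
/-- fixed points of an involution: parity -/
theorem card_fixedBy_modEq {G Ω : Type*} [Group G] [MulAction G Ω] [Fintype Ω]
    (s : G) (hs : orderOf s = 2) :
    Nat.card (MulAction.fixedBy Ω s) ≡ Fintype.card Ω [MOD 2] := by
  classical
  have : Fact (Nat.Prime 2) := ⟨Nat.prime_two⟩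
  have hσ : (MulAction.toPerm s : Equiv.Perm Ω) ^ 2 ^ 1 = 1 := by
    rw [pow_one]
    have := pow_orderOf_eq_one s
    rw [hs] at this
    have h2 := congrArg (MulAction.toPermHom G Ω) this
    rw [map_pow, map_one] at h2
    exact h2
  have h := Equiv.Perm.card_compl_support_modEq hσ
  have e : Nat.card (MulAction.fixedBy Ω s) =
      ((MulAction.toPerm s : Equiv.Perm Ω).support)ᶜ.card := by
    rw [Nat.card_eq_fintype_card]
    apply Fintype.card_of_subtype
    intro x
    simp [MulAction.mem_fixedBy]
  rw [e]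
  exact h

open MulAction Cfsg.Agent.Lib.Helper59 in
/-- In a finite Zassenhaus group any two points `a ≠ b` are swapped by an involution; every such involution has exactly one fixed point when the degree is odd and 0 or 2 fixed points when the degree is even; and if the two-point stabiliser has even order, some such involution has exactly 2 fixed points. -/
theorem result {G Ω : Type*} [Group G] [Finite G] [MulAction G Ω] [Fintype Ω] (hZ : Cfsg.IsZassenhausGroup G Ω) {a b : Ω} (hab : a ≠ b) : (∃ s : G, orderOf s = 2 ∧ s • a = b ∧ s • b = a) ∧ (∀ s : G, orderOf s = 2 → s • a = b → s • b = a → (Odd (Fintype.card Ω) → Nat.card (MulAction.fixedBy Ω s) = 1) ∧ (Even (Fintype.card Ω) → Nat.card (MulAction.fixedBy Ω s) = 0 ∨ Nat.card (MulAction.fixedBy Ω s) = 2)) ∧ (Even (Fintype.card Ω) → Even (Nat.card ↥(MulAction.stabilizer G a ⊓ MulAction.stabilizer G b)) → ∃ s : G, orderOf s = 2 ∧ s • a = b ∧ s • b = a ∧ Nat.card (MulAction.fixedBy Ω s) = 2) := by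
  classical
  have hfaith := hZ.1
  -- an element swapping a and b has even order
  obtain ⟨t, hta, htb⟩ := zass_two_trans hZ a b b a hab (Ne.symm hab)
  have hGeven : 2 ∣ Nat.card G := by
    have hto : 2 ∣ orderOf t := by
      by_contra hodd
      have hodd' : Odd (orderOf t) := Nat.odd_iff.mpr (Nat.two_dvd_ne_zero.mp hodd)
      obtain ⟨k, hk⟩ := hodd'
      have h1 : t ^ orderOf t = 1 := pow_orderOf_eq_one t
      have hsq : ∀ m : ℕ, (t ^ (2 * m)) • a = a := by
        intro m
        induction m with
        | zero => simp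
        | succ m ih =>
          rw [show 2 * (m + 1) = 2 * m + 1 + 1 by ring, pow_succ, pow_succ, mul_smul, mul_smul, hta,
            htb, ih]
      have h2 : (t ^ orderOf t) • a = b := by
        rw [hk, pow_succ, mul_smul, hta]
        have hsqb : ∀ m : ℕ, (t ^ (2 * m)) • b = b := by
          intro m
          induction m with
          | zero => simp
          | succ m ih =>
            rw [show 2 * (m + 1) = 2 * m + 1 + 1 by ring, pow_succ, pow_succ, mul_smul, mul_smul,
              htb, hta, ih]
        exact hsqb k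
      rw [h1, one_smul] at h2
      exact hab h2
    exact hto.trans (orderOf_dvd_natCard t)
  have : Fact (Nat.Prime 2) := ⟨Nat.prime_two⟩
  obtain ⟨z, hz⟩ := exists_prime_orderOf_dvd_card' (G := G) 2 hGeven
  refine ⟨?_, ?_, ?_⟩
  · obtain ⟨g, h1, h2, h3⟩ := exists_conj_swap hZ hab z hz
    exact ⟨_, h1, h2, h3⟩
  · intro s hs hsa hsb
    have hs1 : s ≠ 1 := by
      intro h
      rw [h, orderOf_one] at hs
      omega
    have hle : Nat.card (MulAction.fixedBy Ω s) ≤ 2 := by
      by_contra hgt
      push Not at hgt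
      rw [Nat.card_eq_fintype_card] at hgt
      obtain ⟨x, y, w, hxy, hxw, hyw⟩ := Fintype.two_lt_card_iff.mp hgt
      apply hs1
      exact zass_three hZ s x y w (fun h => hxy (Subtype.ext h)) (fun h => hyw (Subtype.ext h))
        (fun h => hxw (Subtype.ext h)) x.2 y.2 w.2
    have hmod := card_fixedBy_modEq (Ω := Ω) s hs
    refine ⟨?_, ?_⟩
    · intro hodd
      have : Fintype.card Ω % 2 = 1 := Nat.odd_iff.mp hodd
      have h2 : Nat.card (MulAction.fixedBy Ω s) % 2 = 1 := by rw [hmod, this]
      omega
    · intro heven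
      have : Fintype.card Ω % 2 = 0 := Nat.even_iff.mp heven
      have h2 : Nat.card (MulAction.fixedBy Ω s) % 2 = 0 := by rw [hmod, this]
      omega
  · intro _ hEeven
    have hE2 : 2 ∣ Nat.card ↥(MulAction.stabilizer G a ⊓ MulAction.stabilizer G b) :=
      even_iff_two_dvd.mp hEeven
    obtain ⟨w, hw⟩ := exists_prime_orderOf_dvd_card'
      (G := ↥(MulAction.stabilizer G a ⊓ MulAction.stabilizer G b)) 2 hE2
    have hw' : orderOf (w : G) = 2 := by
      rw [← hw]
      exact Subgroup.orderOf_coe w
    have hwab := mem_stab2.mp w.2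
    have hw1 : (w : G) ≠ 1 := by
      intro h
      rw [h, orderOf_one] at hw'
      omega
    obtain ⟨g, h1, h2, h3⟩ := exists_conj_swap hZ hab (w : G) hw'
    refine ⟨_, h1, h2, h3, ?_⟩
    rw [← MulAction.smul_fixedBy, Nat.card_coe_set_eq, Set.ncard_smul_set]
    have hfix : MulAction.fixedBy Ω (w : G) = {a, b} := by
      ext c
      rw [MulAction.mem_fixedBy]
      constructor
      · intro hc
        rcases zass_fixed_mem hZ hab hw1 hwab.1 hwab.2 hc with h | h
        · rw [h]; simp
        · rw [h]; simp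
      · intro hc
        rcases hc with h | h
        · rw [h]; exact hwab.1
        · rw [Set.mem_singleton_iff] at h
          rw [h]; exact hwab.2
    rw [hfix, Set.ncard_pair hab]

end Cfsg.Agent.S0740
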