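import Cfsg.Statements.S0739
import Cfsg.Agent.S0740
import Cfsg.Agent.Lib.Helper19.ZassOdd

set_option autoImplicit false
open Cfsg
open Cfsg.Agent.Lib.Helper19 Cfsg.Agent.Lib.Helper59

namespace Cfsg.Agent.S0739

/-- In a finite Zassenhaus group whose two-point stabiliser `H = G_{a,b}` has odd order `d`, and which has no normal `q`-complement for any prime `q ∣ d`, `H` is cyclic, `C_G(H) = H`, and every element swapping `a` and `b` inverts each element of `H`. -/
theorem result {G Ω : Type*} [Group G] [Finite G] [MulAction G Ω] [Fintype Ω] (hZ : Cfsg.IsZassenhausGroup G Ω) {a b : Ω} (hab : a ≠ b) (hodd : Odd (Nat.card ↥(MulAction.stabilizer G a ⊓ MulAction.stabilizer G b))) (hnil : ∀ q : ℕ, q.Prime → q ∣ Nat.card ↥(MulAction.stabilizer G a ⊓ MulAction.stabilizer G b) → ¬ ∃ N : Subgroup G, N.Normal ∧ N.index = q ^ (Nat.card G).factorization q) : IsCyclic ↥(MulAction.stabilizer G a ⊓ MulAction.stabilizer G b) ∧ Subgroup.centralizer ((MulAction.stabilizer G a ⊓ MulAction.stabilizer G b :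 Subgroup G) : Set G) = MulAction.stabilizer G a ⊓ MulAction.stabilizer G b ∧ ∀ s : G, s • a = b → s • b = a → ∀ h ∈ MulAction.stabilizer G a ⊓ MulAction.stabilizer G b, s * h * s⁻¹ = h⁻¹ := by
  classical
  set H := MulAction.stabilizer G a ⊓ MulAction.stabilizer G b with hH
  obtain ⟨t, ht, hta, htb⟩ := (Cfsg.Agent.S0740.result hZ hab).1
  have htt := mul_self_of_orderOf_two ht
  have hnorm : ∀ x ∈ H, t * x * t⁻¹ ∈ H := fun x hx => swap_conj_mem hta htb hx
  -- the centraliser of `t` in `H` is trivial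
  have hV : H ⊓ Subgroup.centralizer {t} = ⊥ := by
    by_contra hV
    obtain ⟨q, hqp, hqd, hN⟩ := zass_exists_normal_complement hZ hab hodd ht hta htb hV
    exact hnil q hqp hqd hN
  -- `t` inverts `H`
  have hinv : ∀ h ∈ H, t * h * t⁻¹ = h⁻¹ := by
    intro h hh
    obtain ⟨hfac, -, -⟩ := Cfsg.Agent.S1124.result t ht H hodd hnorm
    obtain ⟨⟨v, k⟩, ⟨hv, hk, hvk⟩, -⟩ := hfac h hh
    simp only at hv hk hvk
    rw [hV, Subgroup.mem_bot] at hv
    rw [hvk, hv, one_mul]
    exact hk.2
  -- `H` is commutative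
  have hcomm : ∀ x ∈ H, ∀ y ∈ H, x * y = y * x := by
    intro x hx y hy
    have h1 := hinv (x * y) (H.mul_mem hx hy)
    have h2 : t * (x * y) * t⁻¹ = (t * x * t⁻¹) * (t * y * t⁻¹) := by group
    rw [h2, hinv x hx, hinv y hy] at h1
    have h3 : (x⁻¹ * y⁻¹)⁻¹ = ((x * y)⁻¹)⁻¹ := by rw [h1]
    simpa using h3.symm
  have hcyc := zass_isCyclic_of_comm hZ hab hcomm
  refine ⟨hcyc, ?_, ?_⟩
  · apply le_antisymm
    · intro g hg
      rw [Subgroup.mem_centralizer_iff] at hg
      obtain ⟨x, hx1, hxa, hxb⟩ := zass_stab2_ne_bot hZ hab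
      have hxH : x ∈ H := mem_stab2.2 ⟨hxa, hxb⟩
      have hgx : x * g = g * x := hg x hxH
      have hgxg : g * x * g⁻¹ = x := by rw [← hgx]; group
      have hga : (g * x * g⁻¹) • a = a := by rw [hgxg]; exact hxa
      have hgb : (g * x * g⁻¹) • b = b := by rw [hgxg]; exact hxb
      rcases zass_conj hZ hab hx1 hxa hxb hga hgb with ⟨h1, h2⟩ | ⟨h1, h2⟩
      · exact mem_stab2.2 ⟨h1, h2⟩
      · exfalso
        have huH : t * g ∈ H :=
          mem_stab2.2 ⟨by rw [mul_smul, h1, htb], by rw [mul_smul, h2, hta]⟩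
        have hux := hcomm (t * g) huH x hxH
        -- t g x = x t g, and g x = x g, so t x = x t
        have htx : t * x = x * t := by
          have e1 : t * x * g = x * t * g := by
            calc t * x * g = t * (x * g) := by group
              _ = t * (g * x) := by rw [hgx]
              _ = (t * g) * x := by group
              _ = x * (t * g) := hux
              _ = x * t * g := by group
          exact mul_right_cancel e1
        have hxinv : x⁻¹ = x := by
          rw [← hinv x hxH, htx]; group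
        have hsq : x ^ 2 = 1 := by
          rw [pow_two]
          calc x * x = x⁻¹ * x := by rw [hxinv]
            _ = 1 := inv_mul_cancel x
        have hd2 : orderOf x ∣ 2 := orderOf_dvd_of_pow_eq_one hsq
        have hdH : orderOf x ∣ Nat.card H := Subgroup.orderOf_dvd_natCard H hxH
        have hcop : Nat.Coprime 2 (Nat.card H) := Nat.coprime_two_left.2 hodd
        have h1' : orderOf x = 1 := Nat.eq_one_of_dvd_coprimes hcop hd2 hdH
        exact hx1 (orderOf_eq_one_iff.1 h1')
    · intro g hg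
      rw [Subgroup.mem_centralizer_iff]
      intro h hh
      exact hcomm h hh g hg
  · intro s hsa hsb h hh
    have hu : t⁻¹ * s ∈ H :=
      mem_stab2.2 ⟨by rw [mul_smul, hsa, inv_smul_eq_iff, hta],
        by rw [mul_smul, hsb, inv_smul_eq_iff, htb]⟩
    have hs : s = t * (t⁻¹ * s) := by group
    have huh : (t⁻¹ * s) * h * (t⁻¹ * s)⁻¹ = h := by
      rw [hcomm _ hu h hh]; group
    calc s * h * s⁻¹ = t * ((t⁻¹ * s) * h * (t⁻¹ * s)⁻¹) * t⁻¹ := by group
      _ = t * h * t⁻¹ := by rw [huh]
      _ = h⁻¹ := hinv h hh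

end Cfsg.Agent.S0739
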