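import Cfsg.Statements.S0080
-- import your own Cfsg.Agent.* helpers here

set_option autoImplicit false
open Cfsg
open scoped commutatorElement

namespace Cfsg.Agent.S0080


section
variable {G : Type*} [Group G] [Finite G] (H : Subgroup G)

omit [Finite G] in
theorem card_quot_dvd : Nat.card (H ⧸ H.focalSubgroupOf) ∣ ⁅H, H⁆.relIndex H := by
  rw [← Subgroup.index_eq_card]
  have h1 : (commutator H).index = ⁅H, H⁆.relIndex H := by
    rw [Subgroup.relIndex, ← Subgroup.map_subtype_commutator]
    congr 1
    rw [Subgroup.subgroupOf, Subgroup.comap_map_eq_self_of_injective (Subgroup.subtype_injective H)]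
  rw [← h1]
  exact Subgroup.index_dvd_of_le H.commutator_le_focalSubgroupOf

open scoped IsMulCommutative in
theorem commutator_le_ker : commutator G ≤ H.transferFocal.ker :=
  Abelianization.commutator_subset_ker H.transferFocal

variable (h : Nat.Coprime H.index (⁅H, H⁆.relIndex H))
include h

omit [Finite G] in
theorem coprime_card_quot : (Nat.card (H ⧸ H.focalSubgroupOf)).Coprime H.index :=
  (Nat.Coprime.coprime_dvd_right (card_quot_dvd H) h).symm

theorem transferFocal_restrict_surjective (y : H ⧸ H.focalSubgroupOf) :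
    ∃ x : H, H.transferFocal x = y := by
  obtain ⟨z, hz⟩ := (powCoprime (coprime_card_quot H h)).surjective y
  obtain ⟨x, rfl⟩ := QuotientGroup.mk'_surjective _ z
  refine ⟨x, ?_⟩
  rw [Subgroup.transferFocal_eq_pow]
  exact hz

theorem ker_inf_eq : H.transferFocal.ker ⊓ H = H.focalSubgroup := by
  ext g
  constructor
  · rintro ⟨hgk, hgH⟩
    have h1 : H.transferFocal ((⟨g, hgH⟩ : H) : G) = 1 := MonoidHom.mem_ker.mp hgk
    rw [Subgroup.transferFocal_eq_pow] at h1
    have h2 : (powCoprime (coprime_card_quot H h)) ((⟨g, hgH⟩ : H) : H ⧸ H.focalSubgroupOf) =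
        (powCoprime (coprime_card_quot H h)) 1 := by
      change ((⟨g, hgH⟩ : H) : H ⧸ H.focalSubgroupOf) ^ H.index = 1 ^ H.index
      rw [h1, one_pow]
    have h3 := (powCoprime (coprime_card_quot H h)).injective h2
    have h4 : (⟨g, hgH⟩ : H) ∈ H.focalSubgroupOf := (QuotientGroup.eq_one_iff _).mp h3
    rw [Subgroup.focalSubgroupOf_def, Subgroup.mem_subgroupOf] at h4
    exact h4
  · intro hg
    have hgH : g ∈ H := H.focalSubgroup_le hg
    refine Subgroup.mem_inf.mpr ⟨?_, hgH⟩
    rw [MonoidHom.mem_ker]
    have : H.transferFocal ((⟨g, hgH⟩ : H) : G) = 1 := by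
      rw [Subgroup.transferFocal_eq_pow]
      have h4 : (⟨g, hgH⟩ : H) ∈ H.focalSubgroupOf := by
        rw [Subgroup.focalSubgroupOf_def, Subgroup.mem_subgroupOf]; exact hg
      rw [(QuotientGroup.eq_one_iff _).mpr h4, one_pow]
    exact this

end

/-- When the index of H is prime to the order of H/H', the focal subgroup of H is G' ∩ H, and H/(G' ∩ H) has a normal complement. -/
theorem result {G : Type*} [Group G] [Finite G] (H : Subgroup G) (h : Nat.Coprime H.index (⁅H, H⁆.relIndex H)) : Subgroup.focalSubgroup H = commutator G ⊓ H ∧ ∃ N : Subgroup G, N.Normal ∧ N ⊓ H = commutator G ⊓ H ∧ N ⊔ H = ⊤ := by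
  have hker := ker_inf_eq H h
  have hcomm : commutator G ≤ H.transferFocal.ker := commutator_le_ker H
  have hfoc : Subgroup.focalSubgroup H = commutator G ⊓ H := by
    apply le_antisymm
    · exact le_inf H.focalSubgroup_le_commutator H.focalSubgroup_le
    · rw [← hker]; exact inf_le_inf_right _ hcomm
  refine ⟨hfoc, H.transferFocal.ker, inferInstance, ?_, ?_⟩
  · rw [hker, hfoc]
  · rw [eq_top_iff]
    intro g _
    obtain ⟨x, hx⟩ := transferFocal_restrict_surjective H h (H.transferFocal g)
    have hmem : g * (x : G)⁻¹ ∈ H.transferFocal.ker := by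
      rw [MonoidHom.mem_ker, map_mul, map_inv, hx, mul_inv_cancel]
    have : g = g * (x : G)⁻¹ * x := by group
    rw [this]
    exact Subgroup.mul_mem_sup hmem x.2

end Cfsg.Agent.S0080
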