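import Cfsg.Statements.S0881
import Cfsg.Agent.Lib.Helper59.Zassenhaus
import Cfsg.Agent.Lib.Helper25.Induced
import Cfsg.Agent.Lib.Helper41.IndInner
import Cfsg.Agent.Lib.Helper77.Linear
import Cfsg.Agent.Lib.Helper78.CharMore
import Cfsg.Agent.S0080
import Cfsg.Agent.S0148

set_option autoImplicit false
open Cfsg

namespace Cfsg.Agent.S0881

open MulAction Cfsg.Agent.Lib.Helper59
open scoped ComplexConjugate commutatorElement


section Nu

variable {G : Type*} [Group G]

/-- `ν` is a linear character of `N` extended by zero -/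
structure IsLin (N : Subgroup G) (ν : G → ℂ) : Prop where
  zero : ∀ g, g ∉ N → ν g = 0
  mul : ∀ g g', g ∈ N → g' ∈ N → ν (g * g') = ν g * ν g'
  norm : ∀ g, g ∈ N → ν g * conj (ν g) = 1
  one : ν 1 = 1

variable {N : Subgroup G} {ν : G → ℂ}

theorem IsLin.mul_inv (h : IsLin N ν) {g : G} (hg : g ∈ N) : ν g * ν g⁻¹ = 1 := by
  rw [← h.mul g g⁻¹ hg (inv_mem hg), mul_inv_cancel, h.one]

theorem IsLin.conj_mem (h : IsLin N ν) {n g : G} (hn : n ∈ N) (hg : g ∈ N) :
    ν (n * g * n⁻¹) = ν g := by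
  rw [h.mul _ _ (mul_mem hn hg) (inv_mem hn), h.mul _ _ hn hg, mul_comm (ν n), mul_assoc,
    h.mul_inv hn, mul_one]

theorem IsLin.conj_mem' (h : IsLin N ν) {n g : G} (hn : n ∈ N) (hg : g ∈ N) :
    ν (n⁻¹ * g * n) = ν g := by
  have := h.conj_mem (inv_mem hn) hg
  rwa [inv_inv] at this

/-- the kernel of `ν` -/
def IsLin.ker (h : IsLin N ν) : Subgroup G where
  carrier := {g | g ∈ N ∧ ν g = 1}
  one_mem' := ⟨one_mem N, h.one⟩
  mul_mem' := by
    rintro x y ⟨hx, hx1⟩ ⟨hy, hy1⟩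
    exact ⟨mul_mem hx hy, by rw [h.mul x y hx hy, hx1, hy1, mul_one]⟩
  inv_mem' := by
    rintro x ⟨hx, hx1⟩
    refine ⟨inv_mem hx, ?_⟩
    have := h.mul_inv hx
    rwa [hx1, one_mul] at this

theorem IsLin.mem_ker (h : IsLin N ν) {g : G} : g ∈ h.ker ↔ g ∈ N ∧ ν g = 1 := Iff.rfl

theorem isLin_of_character [Finite G] (N : Subgroup G) (μ : N → ℂ) (hμ : IsCharacter N μ)
    (h1 : μ 1 = 1) : IsLin N (extendByZero N μ) := by
  obtain ⟨φ, hφ⟩ := Cfsg.Agent.Lib.Helper77.exists_monoidHom_of_degree_one hμ h1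
  refine ⟨?_, ?_, ?_, ?_⟩
  · intro g hg
    exact Cfsg.Agent.Lib.Helper25.extendByZero_not_mem N μ hg
  · intro g g' hg hg'
    rw [Cfsg.Agent.Lib.Helper25.extendByZero_mem N μ (mul_mem hg hg'),
      Cfsg.Agent.Lib.Helper25.extendByZero_mem N μ hg,
      Cfsg.Agent.Lib.Helper25.extendByZero_mem N μ hg', hφ, hφ, hφ]
    have : (⟨g * g', mul_mem hg hg'⟩ : N) = ⟨g, hg⟩ * ⟨g', hg'⟩ := rfl
    rw [this, map_mul, Units.val_mul]
  · intro g hg
    rw [Cfsg.Agent.Lib.Helper25.extendByZero_mem N μ hg, hφ]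
    have hpow : ((φ ⟨g, hg⟩ : ℂˣ) : ℂ) ^ orderOf (⟨g, hg⟩ : N) = 1 := by
      rw [← Units.val_pow_eq_pow_val, ← map_pow, pow_orderOf_eq_one, map_one, Units.val_one]
    have hnorm : ‖((φ ⟨g, hg⟩ : ℂˣ) : ℂ)‖ = 1 :=
      Complex.norm_eq_one_of_pow_eq_one hpow (orderOf_pos _).ne'
    rw [← Complex.inv_eq_conj hnorm, mul_inv_cancel₀ (Units.ne_zero _)]
  · rw [Cfsg.Agent.Lib.Helper25.extendByZero_mem N μ (one_mem N)]
    exact h1

variable [Fintype G]

theorem IsLin.sum_mem (h : IsLin N ν) {z : G} (hz : z ∈ N) :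
    ∑ x : G, ν x * conj (ν (z⁻¹ * x * z)) = (Nat.card N : ℂ) := by
  classical
  have h1 : ∀ x : G, ν x * conj (ν (z⁻¹ * x * z)) = if x ∈ N then 1 else 0 := by
    intro x
    by_cases hx : x ∈ N
    · rw [if_pos hx, h.conj_mem' hz hx, h.norm x hx]
    · rw [if_neg hx, h.zero x hx, zero_mul]
  simp only [h1]
  rw [Finset.sum_ite, Finset.sum_const_zero, add_zero, Finset.sum_const, nsmul_eq_mul, mul_one,
    Nat.card_eq_fintype_card, Fintype.card_subtype]

theorem IsLin.sum_not_mem (h : IsLin N ν) {z h₀ : G} (h1 : h₀ ∈ N) (h2 : z⁻¹ * h₀ * z ∈ N)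
    (hne : ν h₀ ≠ ν (z⁻¹ * h₀ * z)) :
    ∑ x : G, ν x * conj (ν (z⁻¹ * x * z)) = 0 := by
  classical
  set ζ : ℂ := ν h₀ * conj (ν (z⁻¹ * h₀ * z)) with hζ
  have hζ1 : ζ ≠ 1 := by
    intro h3
    apply hne
    have h4 := h.norm _ h2
    calc ν h₀ = ν h₀ * (ν (z⁻¹ * h₀ * z) * conj (ν (z⁻¹ * h₀ * z))) := by rw [h4, mul_one]
      _ = ζ * ν (z⁻¹ * h₀ * z) := by rw [hζ]; ring
      _ = ν (z⁻¹ * h₀ * z) := by rw [h3, one_mul]
  have hf : ∀ x : G, ν (h₀ * x) * conj (ν (z⁻¹ * (h₀ * x) * z))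
      = ζ * (ν x * conj (ν (z⁻¹ * x * z))) := by
    intro x
    have e1 : z⁻¹ * (h₀ * x) * z = (z⁻¹ * h₀ * z) * (z⁻¹ * x * z) := by group
    by_cases hx : x ∈ N
    · by_cases hx' : z⁻¹ * x * z ∈ N
      · rw [e1, h.mul _ _ h1 hx, h.mul _ _ h2 hx', map_mul, hζ]
        ring
      · have : (z⁻¹ * h₀ * z) * (z⁻¹ * x * z) ∉ N := by
          intro h3
          exact hx' ((Subgroup.mul_mem_cancel_left N h2).mp h3)
        rw [e1, h.zero _ this, h.zero _ hx', map_zero, mul_zero, mul_zero, mul_zero]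
    · have : h₀ * x ∉ N := by
        intro h3
        exact hx ((Subgroup.mul_mem_cancel_left N h1).mp h3)
      rw [h.zero _ this, h.zero _ hx, zero_mul, zero_mul, mul_zero]
  have h5 : ∑ x : G, ν x * conj (ν (z⁻¹ * x * z))
      = ζ * ∑ x : G, ν x * conj (ν (z⁻¹ * x * z)) := by
    rw [Finset.mul_sum]
    rw [← Equiv.sum_comp (Equiv.mulLeft h₀) (fun x => ν x * conj (ν (z⁻¹ * x * z)))]
    apply Finset.sum_congr rfl
    intro x _
    rw [Equiv.coe_mulLeft, hf]
  have h6 : (1 - ζ) * ∑ x : G, ν x * conj (ν (z⁻¹ * x * z)) = 0 := by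
    rw [sub_mul, one_mul, ← h5, sub_self]
  rcases mul_eq_zero.mp h6 with h7 | h7
  · exact absurd (sub_eq_zero.mp h7).symm hζ1
  · exact h7

theorem norm_eq_one (N : Subgroup G) (μ : N → ℂ) (h : IsLin N (extendByZero N μ))
    (hkey : ∀ z, z ∉ N → ∃ h₀, h₀ ∈ N ∧ z⁻¹ * h₀ * z ∈ N ∧
      extendByZero N μ h₀ ≠ extendByZero N μ (z⁻¹ * h₀ * z)) :
    classInner (indFun N μ) (indFun N μ) = 1 := by
  classical
  rw [Cfsg.Agent.Lib.Helper41.classInner_indFun_indFun]
  have h1 : ∀ z : G, ∑ x : G, extendByZero N μ x * conj (extendByZero N μ (z⁻¹ * x * z))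
      = if z ∈ N then (Nat.card N : ℂ) else 0 := by
    intro z
    by_cases hz : z ∈ N
    · rw [if_pos hz, h.sum_mem hz]
    · rw [if_neg hz]
      obtain ⟨h₀, h2, h3, h4⟩ := hkey z hz
      exact h.sum_not_mem h2 h3 h4
  simp only [h1]
  rw [Finset.sum_ite, Finset.sum_const_zero, add_zero, Finset.sum_const, nsmul_eq_mul,
    ← Fintype.card_subtype, ← Nat.card_eq_fintype_card]
  have hN : (Nat.card N : ℂ) ≠ 0 := by
    have : Nat.card N ≠ 0 := Nat.card_pos.ne'
    exact_mod_cast this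
  have : (Nat.card {x // x ∈ N} : ℂ) = (Nat.card N : ℂ) := rfl
  rw [this]
  field_simp

theorem value_eq_one (N : Subgroup G) (μ : N → ℂ) (h : IsLin N (extendByZero N μ))
    {u : G} (hu : u ∈ N) (hu1 : extendByZero N μ u = 1)
    (hconj : ∀ x, x ∉ N → x⁻¹ * u * x ∉ N) :
    indFun N μ u = 1 := by
  classical
  unfold indFun
  have h1 : ∀ x : G, extendByZero N μ (x⁻¹ * u * x) = if x ∈ N then 1 else 0 := by
    intro x
    by_cases hx : x ∈ N
    · rw [if_pos hx, h.conj_mem' hx hu, hu1]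
    · rw [if_neg hx, h.zero _ (hconj x hx)]
  simp only [h1]
  rw [Finset.sum_ite, Finset.sum_const_zero, add_zero, Finset.sum_const, nsmul_eq_mul, mul_one,
    ← Fintype.card_subtype, ← Nat.card_eq_fintype_card]
  have hN : (Nat.card N : ℂ) ≠ 0 := by
    have : Nat.card N ≠ 0 := Nat.card_pos.ne'
    exact_mod_cast this
  have : (Nat.card {x // x ∈ N} : ℂ) = (Nat.card N : ℂ) := rfl
  rw [this]
  field_simp

end Nu

section Z

variable {G Ω : Type*} [Group G] [MulAction G Ω]

/-- index of a two-point stabilizer in a 2-transitive group -/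
theorem index_stab2 [Fintype Ω] (hZ : Cfsg.IsZassenhausGroup G Ω) {a c : Ω} (hac : a ≠ c) :
    (stabilizer G a ⊓ stabilizer G c : Subgroup G).index
      = Fintype.card Ω * (Fintype.card Ω - 1) := by
  classical
  have h1 : (stabilizer G a ⊓ stabilizer G c : Subgroup G) = stabilizer G ((a, c) : Ω × Ω) := by
    ext g
    rw [mem_stab2, mem_stabilizer_iff, Prod.smul_mk, Prod.mk.injEq]
  rw [h1, index_stabilizer]
  have h3 : orbit G ((a, c) : Ω × Ω) = ((Finset.univ : Finset Ω).offDiag : Set (Ω × Ω)) := by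
    ext p
    rw [mem_orbit_iff, Finset.mem_coe, Finset.mem_offDiag]
    constructor
    · rintro ⟨g, rfl⟩
      refine ⟨Finset.mem_univ _, Finset.mem_univ _, ?_⟩
      intro h
      exact hac (MulAction.injective g h)
    · rintro ⟨-, -, hne⟩
      obtain ⟨g, hg1, hg2⟩ := zass_two_trans hZ a c p.1 p.2 hac hne
      exact ⟨g, by rw [Prod.smul_mk, hg1, hg2]⟩
  rw [h3, Set.ncard_coe_finset, Finset.offDiag_card, Finset.card_univ, Nat.mul_sub_one]

/-- a simple Zassenhaus group is perfect -/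
theorem perfect [IsSimpleGroup G] (hZ : Cfsg.IsZassenhausGroup G Ω) {a b : Ω} (hab : a ≠ b) :
    commutator G = ⊤ := by
  rcases IsSimpleGroup.eq_bot_or_eq_top_of_normal (commutator G) inferInstance with h | h
  · exfalso
    rw [commutator_def, Subgroup.commutator_eq_bot_iff_le_centralizer] at h
    have hcomm : ∀ x y : G, x * y = y * x := by
      intro x y
      have := h (Subgroup.mem_top x)
      rw [Subgroup.mem_centralizer_iff] at this
      exact (this y (Subgroup.mem_top y)).symm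
    obtain ⟨x, hx1, hxa, hxb⟩ := zass_stab2_ne_bot hZ hab
    have hfaith : FaithfulSMul G Ω := hZ.1
    apply hx1
    apply hfaith.eq_of_smul_eq_smul
    intro c
    rw [one_smul]
    by_cases hca : c = a
    · rw [hca, hxa]
    · obtain ⟨t, hta, htb⟩ := zass_two_trans hZ a b a c hab (Ne.symm hca)
      rw [← htb, ← mul_smul, hcomm, mul_smul, hxb]
  · exact h

/-- a prime dividing the order of a two-point stabilizer divides `n - 2` -/
theorem prime_dvd [Finite G] [Fintype Ω] (hZ : Cfsg.IsZassenhausGroup G Ω) {a c : Ω} (hac : a ≠ c)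
    {p : ℕ} (hp : p.Prime) (hpd : p ∣ Nat.card ↥(stabilizer G a ⊓ stabilizer G c : Subgroup G)) :
    (p : ℤ) ∣ (Fintype.card Ω : ℤ) - 2 := by
  classical
  have : Fact p.Prime := ⟨hp⟩
  obtain ⟨x, hx⟩ := exists_prime_orderOf_dvd_card' p hpd
  have hx1 : (x : G) ≠ 1 := by
    intro h
    have : x = 1 := Subtype.ext h
    rw [this, orderOf_one] at hx
    exact hp.one_lt.ne hx
  have hxa : (x : G) • a = a := (mem_stab2.mp x.2).1
  have hxc : (x : G) • c = c := (mem_stab2.mp x.2).2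
  have hxp : (x : G) ^ p = 1 := by
    have : x ^ p = 1 := by rw [← hx, pow_orderOf_eq_one]
    have := congrArg Subtype.val this
    simpa using this
  have hσ : (MulAction.toPerm (x : G) : Equiv.Perm Ω) ^ p ^ 1 = 1 := by
    have h1 : (MulAction.toPerm (x : G) : Equiv.Perm Ω) = MulAction.toPermHom G Ω (x : G) := rfl
    rw [pow_one, h1, ← map_pow, hxp, map_one]
  have hmod := Equiv.Perm.card_compl_support_modEq (p := p) (n := 1) hσ
  have hF : (MulAction.toPerm (x : G) : Equiv.Perm Ω).supportᶜ = {a, c} := by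
    ext d
    simp only [Finset.mem_compl, Equiv.Perm.mem_support, MulAction.toPerm_apply, ne_eq,
      not_not, Finset.mem_insert, Finset.mem_singleton]
    constructor
    · intro hd
      exact zass_fixed_mem hZ hac hx1 hxa hxc hd
    · rintro (rfl | rfl)
      · exact hxa
      · exact hxc
  rw [hF, Finset.card_pair hac] at hmod
  exact hmod.dvd

theorem focal_eq [Finite G] [Fintype Ω] [IsSimpleGroup G] (hZ : Cfsg.IsZassenhausGroup G Ω)
    {a b c : Ω} (hab : a ≠ b) (hac : a ≠ c)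
    (hodd : Odd (Nat.card ↥(stabilizer G a ⊓ stabilizer G b : Subgroup G))) :
    Subgroup.focalSubgroup (stabilizer G a ⊓ stabilizer G c : Subgroup G)
      = stabilizer G a ⊓ stabilizer G c := by
  classical
  have hn2 : 2 ≤ Fintype.card Ω := by
    have : ({a, c} : Finset Ω).card ≤ Fintype.card Ω := Finset.card_le_univ _
    rwa [Finset.card_pair hac] at this
  have hidx : 0 < Fintype.card Ω * (Fintype.card Ω - 1) :=
    Nat.mul_pos (by omega) (by omega)
  have hcard : Nat.card ↥(stabilizer G a ⊓ stabilizer G c : Subgroup G)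
      = Nat.card ↥(stabilizer G a ⊓ stabilizer G b : Subgroup G) := by
    have h1 := Subgroup.card_mul_index (stabilizer G a ⊓ stabilizer G c : Subgroup G)
    have h2 := Subgroup.card_mul_index (stabilizer G a ⊓ stabilizer G b : Subgroup G)
    rw [index_stab2 hZ hac] at h1
    rw [index_stab2 hZ hab, ← h1] at h2
    exact (Nat.eq_of_mul_eq_mul_right hidx h2).symm
  have hcop : Nat.Coprime (stabilizer G a ⊓ stabilizer G c : Subgroup G).index
      (⁅(stabilizer G a ⊓ stabilizer G c : Subgroup G),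
        (stabilizer G a ⊓ stabilizer G c : Subgroup G)⁆.relIndex
        (stabilizer G a ⊓ stabilizer G c : Subgroup G)) := by
    apply Nat.coprime_of_dvd
    intro p hp hp1 hp2
    have hpd : p ∣ Nat.card ↥(stabilizer G a ⊓ stabilizer G c : Subgroup G) :=
      hp2.trans (Subgroup.relIndex_dvd_card _ _)
    have h3 := prime_dvd hZ hac hp hpd
    rw [index_stab2 hZ hac] at hp1
    rcases (Nat.Prime.dvd_mul hp).mp hp1 with h4 | h4
    · have h5 : (p : ℤ) ∣ (Fintype.card Ω : ℤ) := by exact_mod_cast h4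
      have h6 : (p : ℤ) ∣ 2 := by
        have := dvd_sub h5 h3
        simpa using this
      have h7 : p ∣ 2 := by exact_mod_cast h6
      have h8 : p = 2 := (Nat.prime_dvd_prime_iff_eq hp Nat.prime_two).mp h7
      rw [h8, hcard] at hpd
      obtain ⟨k, hk⟩ := hodd
      omega
    · have h5 : (p : ℤ) ∣ (Fintype.card Ω : ℤ) - 1 := by
        have : ((Fintype.card Ω - 1 : ℕ) : ℤ) = (Fintype.card Ω : ℤ) - 1 := by
          push_cast [Nat.cast_sub (by omega : 1 ≤ Fintype.card Ω)]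
          ring
        rw [← this]
        exact_mod_cast h4
      have h6 : (p : ℤ) ∣ 1 := by
        have := dvd_sub h5 h3
        have h7 : (Fintype.card Ω : ℤ) - 1 - ((Fintype.card Ω : ℤ) - 2) = 1 := by ring
        rwa [h7] at this
      have h7 : p ∣ 1 := by exact_mod_cast h6
      exact hp.one_lt.ne' (Nat.dvd_one.mp h7)
  have h := (Cfsg.Agent.S0080.result _ hcop).1
  rw [h, perfect hZ hab, top_inf_eq]

theorem key [Finite G] [Fintype Ω] [IsSimpleGroup G] (hZ : Cfsg.IsZassenhausGroup G Ω)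
    {a b : Ω} (hab : a ≠ b)
    (hodd : Odd (Nat.card ↥(stabilizer G a ⊓ stabilizer G b : Subgroup G)))
    (H : Subgroup G) (hHa : H ≤ stabilizer G a) (hHcard : Nat.card H + 1 = Fintype.card Ω)
    (hHfix : ∀ u ∈ H, u ≠ 1 → ∀ c : Ω, u • c = c → c = a)
    {ν : G → ℂ} (h : IsLin (stabilizer G a) ν) (hνH : ∀ u ∈ H, ν u = 1)
    (hνne : ∃ g ∈ stabilizer G a, ν g ≠ 1) :
    ∀ z, z ∉ stabilizer G a → ∃ h₀, h₀ ∈ stabilizer G a ∧ z⁻¹ * h₀ * z ∈ stabilizer G a ∧
      ν h₀ ≠ ν (z⁻¹ * h₀ * z) := by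
  classical
  intro z hz
  by_contra hcon
  push Not at hcon
  have hca : a ≠ z • a := fun h1 => hz (mem_stabilizer_iff.mpr h1.symm)
  have hda : a ≠ z⁻¹ • a := by
    intro h1
    apply hz
    rw [mem_stabilizer_iff]
    rw [eq_inv_smul_iff] at h1
    exact h1
  obtain ⟨n, hna, hnd⟩ := zass_two_trans hZ a (z⁻¹ • a) a (z • a) hda hca
  have hnN : n ∈ stabilizer G a := mem_stabilizer_iff.mpr hna
  -- `w = n z⁻¹` swaps `a` and `c = z • a`
  have hwa : (n * z⁻¹) • a = z • a := by rw [mul_smul, hnd]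
  have hwc : (n * z⁻¹) • (z • a) = a := by rw [mul_smul, inv_smul_smul, hna]
  have hwc' : (n * z⁻¹)⁻¹ • a = z • a := by rw [inv_smul_eq_iff, hwc]
  -- step 2
  have hw : ∀ x : G, x • a = a → x • (z • a) = z • a →
      ((n * z⁻¹) * x * (n * z⁻¹)⁻¹) • a = a ∧ ν ((n * z⁻¹) * x * (n * z⁻¹)⁻¹) = ν x := by
    intro x hxa hxc
    have h1 : (z⁻¹ * x * z) • a = a := by
      rw [mul_smul, mul_smul, hxc, inv_smul_smul]
    have h2 : z⁻¹ * x * z ∈ stabilizer G a := mem_stabilizer_iff.mpr h1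
    have h3 := hcon x (mem_stabilizer_iff.mpr hxa) h2
    have h4 : (n * z⁻¹) * x * (n * z⁻¹)⁻¹ = n * (z⁻¹ * x * z) * n⁻¹ := by group
    constructor
    · rw [mul_smul, mul_smul, hwc', hxc, hwc]
    · rw [h4, h.conj_mem hnN h2, ← h3]
  -- step 3
  have hinv : ∀ g x : G, ((g • a = a ∧ g • (z • a) = z • a) ∨ (g • a = z • a ∧ g • (z • a) = a)) →
      x • a = a → x • (z • a) = z • a → ν (g * x * g⁻¹) = ν x := by
    intro g x hg hxa hxc
    rcases hg with ⟨hga, -⟩ | ⟨hga, hgc⟩
    · exact h.conj_mem (mem_stabilizer_iff.mpr hga) (mem_stabilizer_iff.mpr hxa)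
    · have hk : g * (n * z⁻¹)⁻¹ ∈ stabilizer G a := by
        rw [mem_stabilizer_iff, mul_smul, hwc', hgc]
      have h4 : g * x * g⁻¹
          = (g * (n * z⁻¹)⁻¹) * ((n * z⁻¹) * x * (n * z⁻¹)⁻¹) * (g * (n * z⁻¹)⁻¹)⁻¹ := by group
      obtain ⟨h5, h6⟩ := hw x hxa hxc
      rw [h4, h.conj_mem hk (mem_stabilizer_iff.mpr h5), h6]
  -- step 4
  have hfoc : Subgroup.focalSubgroup (stabilizer G a ⊓ stabilizer G (z • a) : Subgroup G)
      ≤ h.ker := by
    rw [Subgroup.focalSubgroup_def, Subgroup.closure_le]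
    rintro g ⟨hgK, x, hxK, u, rfl⟩
    rw [SetLike.mem_coe, h.mem_ker]
    rw [mem_stab2] at hgK hxK
    refine ⟨mem_stabilizer_iff.mpr hgK.1, ?_⟩
    by_cases hx1 : x = 1
    · rw [hx1, commutatorElement_one_left, h.one]
    · have hxi1 : x⁻¹ ≠ 1 := fun h1 => hx1 (inv_eq_one.mp h1)
      have hxia : x⁻¹ • a = a := by rw [inv_smul_eq_iff, hxK.1]
      have hxic : x⁻¹ • (z • a) = z • a := by rw [inv_smul_eq_iff, hxK.2]
      have e1 : u * x⁻¹ * u⁻¹ = x⁻¹ * ⁅x, u⁆ := by rw [commutatorElement_def]; group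
      have hya : (u * x⁻¹ * u⁻¹) • a = a := by rw [e1, mul_smul, hgK.1, hxia]
      have hyc : (u * x⁻¹ * u⁻¹) • (z • a) = z • a := by rw [e1, mul_smul, hgK.2, hxic]
      have hu := zass_conj hZ hca hxi1 hxia hxic hya hyc
      have e2 : ⁅x, u⁆ = x * (u * x⁻¹ * u⁻¹) := by rw [commutatorElement_def]; group
      rw [e2, h.mul _ _ (mem_stabilizer_iff.mpr hxK.1) (mem_stabilizer_iff.mpr hya),
        hinv u x⁻¹ hu hxia hxic, h.mul_inv (mem_stabilizer_iff.mpr hxK.1)]
  rw [focal_eq hZ hab hca hodd] at hfoc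
  -- step 6
  obtain ⟨g, hgN, hg1⟩ := hνne
  apply hg1
  rw [mem_stabilizer_iff] at hgN
  have hgc : g • (z • a) ≠ a := by
    intro h1
    exact hca (MulAction.injective g (h1.trans hgN.symm)).symm
  -- the orbit map of `H` at `c`
  let f : H → {d : Ω // d ≠ a} := fun u => ⟨(u : G) • (z • a), by
    intro h1
    have h2 : (u : G) • a = a := hHa u.2
    exact hca (MulAction.injective (u : G) (h1.trans h2.symm)).symm⟩
  have hf : Function.Injective f := by
    intro u v huv
    have h1 : (u : G) • (z • a) = (v : G) • (z • a) := congrArg Subtype.val huv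
    have h2 : ((v : G)⁻¹ * u) • (z • a) = z • a := by
      rw [mul_smul, h1, inv_smul_smul]
    by_contra hne
    have h3 : (v : G)⁻¹ * u ≠ 1 := by
      intro h4
      apply hne
      apply Subtype.ext
      rw [inv_mul_eq_one] at h4
      exact h4.symm
    exact hca (hHfix _ (mul_mem (inv_mem v.2) u.2) h3 _ h2).symm
  have hcard : Nat.card {d : Ω // d ≠ a} ≤ Nat.card H := by
    have h1 : Nat.card {d : Ω // d ≠ a} = Fintype.card Ω - 1 := by
      rw [Nat.card_eq_fintype_card]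
      exact Set.card_ne_eq a
    rw [h1]
    omega
  obtain ⟨u, hu⟩ := (hf.bijective_of_nat_card_le hcard).2 ⟨g • (z • a), hgc⟩
  have hu' : (u : G) • (z • a) = g • (z • a) := congrArg Subtype.val hu
  have hua : (u : G) • a = a := hHa u.2
  have hk : (u : G)⁻¹ * g ∈ (stabilizer G a ⊓ stabilizer G (z • a) : Subgroup G) := by
    rw [mem_stab2]
    constructor
    · rw [mul_smul, hgN, inv_smul_eq_iff, hua]
    · rw [mul_smul, ← hu', inv_smul_smul]
  have hk1 := (h.mem_ker.mp (hfoc hk)).2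
  have e3 : g = (u : G) * ((u : G)⁻¹ * g) := by group
  rw [e3, h.mul _ _ (hHa u.2) (h.mem_ker.mp (hfoc hk)).1, hk1, hνH _ u.2, mul_one]

end Z

/-- Let G be a finite simple Zassenhaus group on Ω with n points, a ≠ b points with two-point stabilizer E of odd order less than n - 2, and let H be the subgroup of the stabilizer of a consisting of the identity and the elements fixing no point other than a (given here as a subgroup of the stabilizer of order one less than the number of points whose non-identity elements fix only a; it is the Frobenius kernel of the stabilizer). Let μ be a character of degree 1 of the stabilizer of a that is identically 1 on H but not identically 1. Then the function induced from μ to G is an irreducible character of G, and it takes the value 1 at every non-identity element of H. -/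
theorem result {G Ω : Type*} [Group G] [Fintype G] [MulAction G Ω] [Fintype Ω] (hZ : Cfsg.IsZassenhausGroup G Ω) {a b : Ω} (hab : a ≠ b) [IsSimpleGroup G] (hodd : Odd (Nat.card ↥(MulAction.stabilizer G a ⊓ MulAction.stabilizer G b : Subgroup G))) (hlt : Nat.card ↥(MulAction.stabilizer G a ⊓ MulAction.stabilizer G b : Subgroup G) < Fintype.card Ω - 2) (H : Subgroup G) (hHa : H ≤ MulAction.stabilizer G a) (hHcard : Nat.card H + 1 = Fintype.card Ω) (hHfix : ∀ u ∈ H, u ≠ 1 → ∀ c : Ω, u • c = c → c = a) (μ : MulAction.stabilizer G a → ℂ) (hμ : Cfsg.IsCharacter (MulAction.stabilizer G a) μ ∧ μ 1 = 1) (hμH : ∀ u : MulAction.stabilizer G a, (u : G) ∈ H → μ u = 1) (hμne : μ ≠ fun _ => 1) : Cfsg.IsIrrCharacter G (Cfsg.indFun (MulAction.stabilizer G a) μ) ∧ ∀ u ∈ H, u ≠ 1 → Cfsg.indFun (MulAction.stabilizer G a) μ u = 1 := by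
  classical
  have h := isLin_of_character (stabilizer G a) μ hμ.1 hμ.2
  have hνH : ∀ u ∈ H, extendByZero (stabilizer G a) μ u = 1 := by
    intro u hu
    rw [Cfsg.Agent.Lib.Helper25.extendByZero_mem _ μ (hHa hu)]
    exact hμH ⟨u, hHa hu⟩ hu
  have hνne : ∃ g ∈ stabilizer G a, extendByZero (stabilizer G a) μ g ≠ 1 := by
    by_contra hcon
    push Not at hcon
    apply hμne
    funext g
    have := hcon g g.2
    rwa [Cfsg.Agent.Lib.Helper25.extendByZero_coe] at this
  have hkey := key hZ hab hodd H hHa hHcard hHfix h hνH hνne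
  constructor
  · apply Cfsg.Agent.Lib.Helper78.isIrrCharacter_of_classInner_self_eq_one
      (Cfsg.Agent.S0148.result _ μ hμ.1)
    exact norm_eq_one _ μ h hkey
  · intro u hu hu1
    apply value_eq_one _ μ h (hHa hu) (hνH u hu)
    intro x hx hcon
    have h1 : u • (x • a) = x • a := by
      have h2 := mem_stabilizer_iff.mp hcon
      rw [mul_smul, mul_smul, inv_smul_eq_iff] at h2
      exact h2
    exact hx (mem_stabilizer_iff.mpr (hHfix u hu hu1 _ h1))

end Cfsg.Agent.S0881
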