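import Cfsg.Statements.S1396
import Cfsg.Agent.Lib.Helper54.BGTransitivity
import Cfsg.Agent.Lib.Helper22.PConstrained

set_option autoImplicit false
open Cfsg

namespace Cfsg.Agent.S1396

open scoped Pointwise
open Cfsg.Agent.Lib.Helper54

/-- A finite solvable group is `p`-constrained. -/
theorem isPConstrained_of_isSolvable {H : Type*} [Group H] [Finite H] (p : ℕ) [Fact p.Prime]
    (hs : Group.IsSolvable H) : Cfsg.IsPConstrained p H := by
  rw [Cfsg.Agent.Lib.Helper22.isPConstrained_iff_layer_quotient_eq_bot]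
  by_contra hne
  have hsolvL : Group.IsSolvable (Cfsg.layer (H ⧸ Cfsg.pPrimeCore p H)) := inferInstance
  have hperf : Group.IsPerfect (Cfsg.layer (H ⧸ Cfsg.pPrimeCore p H)) :=
    Subgroup.isPerfect_iff.mpr Cfsg.Agent.Lib.Helper22.layer_commutator_self
  have hnt : Nontrivial (Cfsg.layer (H ⧸ Cfsg.pPrimeCore p H)) :=
    (Subgroup.nontrivial_iff_ne_bot _).mpr hne
  exact Group.IsPerfect.not_isSolvable (Cfsg.layer (H ⧸ Cfsg.pPrimeCore p H)) hsolvL

/-- For `A ∈ SCN(P)`, `P` a Sylow `p`-subgroup, every element of order `p` of `C_G(A)` lies in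
`A`. -/
theorem mem_of_scn {G : Type*} [Group G] [Finite G] (p : ℕ) [Fact p.Prime] (A : Subgroup G)
    (P : Sylow p G) (hscn : Cfsg.IsSCN (P : Subgroup G) A) {x : G}
    (hx : x ∈ Subgroup.centralizer (A : Set G)) (hxo : orderOf x = p) : x ∈ A := by
  obtain ⟨hAP, hPN, hPC⟩ := hscn
  set N : Subgroup G := Subgroup.normalizer (A : Set G) with hN
  have hxN : x ∈ N := Subgroup.centralizer_le_normalizer _ hx
  have hzp : IsPGroup p (Subgroup.zpowers (⟨x, hxN⟩ : N)) := by
    apply IsPGroup.of_card (n := 1)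
    rw [Nat.card_zpowers, ← Subgroup.orderOf_coe, pow_one]
    exact hxo
  obtain ⟨S, hS⟩ := hzp.exists_le_sylow
  obtain ⟨n, hn⟩ := MulAction.exists_smul_eq N S (P.subtype hPN)
  have h1 : n * ⟨x, hxN⟩ * n⁻¹ ∈ ((n • S : Sylow p N) : Subgroup N) := by
    rw [Sylow.smul_def, Sylow.pointwise_smul_def]
    exact conj_mem_conj_smul (hS (Subgroup.mem_zpowers _))
  rw [hn, Sylow.coe_subtype, Subgroup.mem_subgroupOf] at h1
  have h2 : (n : G) * x * (n : G)⁻¹ ∈ (P : Subgroup G) := by simpa using h1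
  have hnN : ∀ a ∈ A, (n : G)⁻¹ * a * (n : G) ∈ A := by
    intro a ha
    have := (Subgroup.mem_normalizer_iff.mp (N.inv_mem n.2) a).mp ha
    simpa using this
  have h3 : (n : G) * x * (n : G)⁻¹ ∈ Subgroup.centralizer (A : Set G) := by
    rw [Subgroup.mem_centralizer_iff]
    intro a ha
    have h4 := Subgroup.mem_centralizer_iff.mp hx _ (hnN a ha)
    calc a * ((n : G) * x * (n : G)⁻¹)
        = (n : G) * (((n : G)⁻¹ * a * (n : G)) * x) * (n : G)⁻¹ := by group
      _ = (n : G) * (x * ((n : G)⁻¹ * a * (n : G))) * (n : G)⁻¹ := by rw [h4]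
      _ = (n : G) * x * (n : G)⁻¹ * a := by group
  have h5 : (n : G) * x * (n : G)⁻¹ ∈ A := hPC ▸ (⟨h2, h3⟩ : _ ∈ (P : Subgroup G) ⊓ _)
  have h6 := hnN _ h5
  have h7 : (n : G)⁻¹ * ((n : G) * x * (n : G)⁻¹) * (n : G) = x := by group
  rwa [h7] at h6


/-- Let G be a minimal simple group of odd order, p a prime dividing the order of G and A an abelian p-subgroup. Suppose either (1) A consists exactly of the elements x of C_G(A) with x^p = 1, and every proper subgroup of G has p-length at most one, or (2) A is normal and self-centralizing in some Sylow p-subgroup of G and has rank at least 2. Then A satisfies the transitivity hypothesis. -/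
theorem result {G : Type*} [Group G] [Finite G] (hG : Cfsg.IsMinSimpleOddOrder G)
    (p : ℕ) [Fact p.Prime] (hp : p ∣ Nat.card G) (A : Subgroup G) (hAp : IsPGroup p A) (hAc : IsMulCommutative A)
    (h : (∀ x ∈ Subgroup.centralizer (A : Set G), x ^ p = 1 ↔ x ∈ A) ∧ (∀ H : Subgroup G, H ≠ ⊤ → Cfsg.PLengthLE p 1 H) ∨
      ∃ P : Sylow p G, Cfsg.IsSCN (P : Subgroup G) A ∧ ¬ Cfsg.PRankLE p 1 A) :
    Cfsg.TransitivityHypothesis A := by
  have hp' : p.Prime := Fact.out
  obtain ⟨hodd, hsimple, hnc, hsolv⟩ := hG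
  have hp2 : p ≠ 2 := by
    rintro rfl
    exact (Nat.not_even_iff_odd.mpr hodd) (even_iff_two_dvd.mpr hp)
  have hAab : ∀ x ∈ A, ∀ y ∈ A, x * y = y * x := by
    intro x hx y hy
    have := hAc.is_comm.comm (⟨x, hx⟩ : A) ⟨y, hy⟩
    exact congrArg Subtype.val this
  -- elements of order `p` of `C_G(A)` lie in `A`
  have hΩ : ∀ x ∈ Subgroup.centralizer (A : Set G), orderOf x = p → x ∈ A := by
    intro x hx hxo
    rcases h with ⟨h1, -⟩ | ⟨P, hscn, -⟩
    · exact (h1 x hx).mp (by rw [← hxo, pow_orderOf_eq_one])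
    · exact mem_of_scn p A P hscn hx hxo
  have hAbot : A ≠ ⊥ := by
    intro hA
    rcases h with ⟨h1, -⟩ | ⟨P, -, hrk⟩
    · obtain ⟨x, hx⟩ := exists_prime_orderOf_dvd_card' (G := G) p hp
      have hxC : x ∈ Subgroup.centralizer (A : Set G) := by
        rw [hA, Subgroup.mem_centralizer_iff]
        intro y hy
        have : y = 1 := by simpa using hy
        rw [this, one_mul, mul_one]
      have hxA := hΩ x hxC hx
      rw [hA, Subgroup.mem_bot] at hxA
      rw [hxA, orderOf_one] at hx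
      exact hp'.one_lt.ne hx
    · apply hrk
      intro B _ _
      have : Subsingleton A := by rw [hA]; infer_instance
      have h1 : Nat.card B = 1 := Nat.card_eq_one_iff_unique.mpr ⟨inferInstance, ⟨1⟩⟩
      rw [h1]
      exact Nat.one_le_pow _ _ hp'.pos
  have hAtop : A ≠ ⊤ := by
    intro hA
    apply hnc
    refine ⟨⟨fun x y => ?_⟩⟩
    exact hAab x (hA ▸ Subgroup.mem_top x) y (hA ▸ Subgroup.mem_top y)
  obtain ⟨k, hk⟩ := hAp.exists_card_eq
  have hk0 : k ≠ 0 := by
    rintro rfl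
    rw [pow_zero] at hk
    exact hAbot (Subgroup.card_eq_one.mp hk)
  have hcop : ∀ {Y : Subgroup G}, (∀ r : ℕ, r.Prime → r ∣ Nat.card Y →
      r ∈ Cfsg.primesNotDvd (Nat.card A)) → (Nat.card Y).Coprime p := by
    intro Y hY
    have h1 := coprime_of_primesNotDvd hY
    rw [hk] at h1
    exact Nat.Coprime.coprime_dvd_right (dvd_pow_self p hk0) h1
  refine ⟨hAbot, hAtop, ?_⟩
  intro X hX hAX
  apply le_antisymm
  · apply sSup_le
    rintro Y ⟨hYX, hYπ, hAY⟩
    have hXc : Cfsg.IsPConstrained p ↥X := isPConstrained_of_isSolvable p (hsolv X hX)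
    have key := le_pPrimeCore_of_invariant (H := X) p hXc (A.subgroupOf X) (Y.subgroupOf X)
      hAp.comap_subtype
      (by rw [Nat.card_congr (Subgroup.subgroupOfEquivOfLe hYX).toEquiv]; exact hcop hYπ)
      (by
        intro e he
        rw [Subgroup.mem_normalizer_iff]
        intro g
        rw [Subgroup.mem_subgroupOf, Subgroup.mem_subgroupOf]
        have := Subgroup.mem_normalizer_iff.mp (hAY (Subgroup.mem_subgroupOf.mp he)) (g : G)
        simpa using this)
      (by
        intro x hx hxo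
        rw [Subgroup.mem_subgroupOf]
        apply hΩ
        · rw [Subgroup.mem_centralizer_iff]
          intro a ha
          have h1 := Subgroup.mem_centralizer_iff.mp hx ⟨a, hAX ha⟩ (Subgroup.mem_subgroupOf.mpr ha)
          exact congrArg Subtype.val h1
        · rw [Subgroup.orderOf_coe]; exact hxo)
      (Or.inl hp2)
    have hcore : Cfsg.pPrimeCore p ↥X ≤ Cfsg.piCore (Cfsg.primesNotDvd (Nat.card A)) ↥X := by
      apply le_piCore _ (inferInstance : (Cfsg.pPrimeCore p ↥X).Normal)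
      apply primesNotDvd_of_coprime
      rw [hk]
      exact Nat.Coprime.pow_right k (card_pPrimeCore_coprime p)
    intro y hy
    exact ⟨⟨y, hYX hy⟩, hcore (key (Subgroup.mem_subgroupOf.mpr hy)), rfl⟩
  · apply le_sSup
    exact ⟨piCoreOf_le _ X, piCoreOf_isPi _ X, hAX.trans (le_normalizer_piCoreOf _ X)⟩

end Cfsg.Agent.S1396
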