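import Cfsg.Statements.S0651
import Cfsg.Agent.S0649
import Cfsg.Agent.S0650

set_option autoImplicit false
open Cfsg

namespace Cfsg.Agent.S0651

open Cfsg.Agent.Lib.Helper11

/-- A family of abelian subgroups closed under Glauberman replacement has the replacement property. -/
theorem replacement_max {S : Type*} [Group S] [Finite S] {p : ℕ} [Fact p.Prime]
    (hS : IsPGroup p S) (𝒜 : Set (Subgroup S)) (B : Subgroup S) [B.Normal]
    (hB2 : p = 2 → IsMulCommutative B)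
    (hab : ∀ A ∈ 𝒜, IsMulCommutative A)
    (hstar : ∀ A ∈ 𝒜, ∀ b ∈ B, ⁅B, B⁆ ≤ A →
      b ∈ Subgroup.normalizer ((Subgroup.normalizer (A : Set S) : Subgroup S) : Set S) →
      b ∉ Subgroup.normalizer (A : Set S) → starA A b ∈ 𝒜)
    (hex : ∃ U ∈ 𝒜, ⁅B, B⁆ ≤ U ∧ ¬ B ≤ U) :
    ∃ A ∈ 𝒜, ⁅B, B⁆ ≤ A ∧ ¬ B ≤ A ∧ B ≤ Subgroup.normalizer (A : Set S) := by
  classical
  let 𝒞 : Set (Subgroup S) := {A | A ∈ 𝒜 ∧ ⁅B, B⁆ ≤ A ∧ ¬ B ≤ A}
  have h𝒞fin : 𝒞.Finite := Set.toFinite 𝒞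
  have h𝒞ne : 𝒞.Nonempty := by
    obtain ⟨U, hU, h1, h2⟩ := hex
    exact ⟨U, hU, h1, h2⟩
  obtain ⟨A, ⟨hA𝒜, hBA, hnBA⟩, hmax⟩ :=
    Set.exists_max_image 𝒞 (fun A => Nat.card ↥(A ⊓ B)) h𝒞fin h𝒞ne
  refine ⟨A, hA𝒜, hBA, hnBA, ?_⟩
  by_contra hnot
  have hA := hab A hA𝒜
  obtain ⟨b, hb, hbN, hbA⟩ := Cfsg.Agent.S0649.result hS B hB2 A hA hBA hnot
  have hrep := Cfsg.Agent.S0650.result hS B hB2 A hA hBA hnot b hb hbN hbA
  obtain ⟨_, _, h3, h4, h5, _⟩ := hrep
  have hmem : starA A b ∈ 𝒞 := by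
    refine ⟨hstar A hA𝒜 b hb hBA hbN hbA, h3, ?_⟩
    intro hle
    exact absurd (le_antisymm inf_le_right (le_inf hle le_rfl)) (ne_of_lt h5)
  have hcard := hmax (starA A b) hmem
  have heq : A ⊓ B = starA A b ⊓ B := Subgroup.eq_of_le_of_card_ge h4.le hcard
  exact (ne_of_lt h4) heq

theorem mem_image_maxAbelian {S : Type*} [Group S] [Finite S] (D U : Subgroup S) :
    U ∈ Set.image (fun A : Subgroup ↥D => A.map D.subtype) (maxAbelianSubgroups ↥D) ↔
      U ≤ D ∧ IsMulCommutative U ∧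
        ∀ V : Subgroup S, V ≤ D → IsMulCommutative V → Nat.card V ≤ Nat.card U := by
  constructor
  · rintro ⟨A, ⟨hAc, hAmax⟩, rfl⟩
    refine ⟨Subgroup.map_subtype_le A, inferInstance, ?_⟩
    intro V hVD hVc
    have h1 : Nat.card (V.subgroupOf D) = Nat.card V :=
      Nat.card_congr (Subgroup.subgroupOfEquivOfLe hVD).toEquiv
    have h2 := hAmax (V.subgroupOf D) inferInstance
    rw [h1] at h2
    show Nat.card V ≤ Nat.card (A.map D.subtype)
    rw [Subgroup.card_map_of_injective D.subtype_injective]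
    exact h2
  · rintro ⟨hUD, hUc, hUmax⟩
    refine ⟨U.subgroupOf D, ⟨inferInstance, ?_⟩, Subgroup.map_subgroupOf_eq_of_le hUD⟩
    intro B' hB'
    have h1 : Nat.card (U.subgroupOf D) = Nat.card U :=
      Nat.card_congr (Subgroup.subgroupOfEquivOfLe hUD).toEquiv
    rw [h1, ← Subgroup.card_map_of_injective (K := B') D.subtype_injective]
    exact hUmax _ (Subgroup.map_subtype_le B') inferInstance

theorem starA_le_of_normal {S : Type*} [Group S] (D : Subgroup S) [hD : D.Normal]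
    (A : Subgroup S) (hAD : A ≤ D) (b : S) : starA A b ≤ D := by
  refine (starA_le_sup A b).trans (sup_le hAD ?_)
  rintro _ ⟨a, ha, rfl⟩
  exact hD.conj_mem a (hAD ha) b⁻¹

/-- For odd p and D normal in the p-group S, the abelian subgroups of D of largest order satisfy the replacement property: a class-2 normal subgroup B of S with a member containing [B, B] but not B normalizes some such member. -/
theorem result {S : Type*} [Group S] [Finite S] {p : ℕ} [Fact p.Prime] (hS : IsPGroup p S) (hp : p ≠ 2) (D : Subgroup S) [D.Normal] : ∀ (B : Subgroup S) [B.Normal], ⁅⁅B, B⁆, B⁆ = ⊥ → (∃ U ∈ (Set.image (fun A : Subgroup ↥D => A.map D.subtype) (Cfsg.maxAbelianSubgroups ↥D)), ⁅B, B⁆ ≤ U ∧ ¬ B ≤ U) → ∃ A ∈ (Set.image (fun A : Subgroup ↥D => A.map D.subtype) (Cfsg.maxAbelianSubgroups ↥D)), ⁅B, B⁆ ≤ A ∧ ¬ B ≤ A ∧ B ≤ Subgroup.normalizer (A : Set S) := by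
  intro B _ _ hex
  have hB2 : p = 2 → IsMulCommutative B := fun h => absurd h hp
  apply replacement_max hS _ B hB2 _ _ hex
  · intro A hA
    exact ((mem_image_maxAbelian D A).mp hA).2.1
  · intro A hA b hb hBA hbN hbA
    obtain ⟨hAD, hAc, hAmax⟩ := (mem_image_maxAbelian D A).mp hA
    rw [mem_image_maxAbelian]
    refine ⟨starA_le_of_normal D A hAD b,
      starA_isMulCommutative hS A B b hB2 hAc hBA hb hbN, ?_⟩
    intro V hVD hVc
    rw [card_starA hS A B b hB2 hAc hBA hb hbN]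
    exact hAmax V hVD hVc

end Cfsg.Agent.S0651
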