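import Cfsg.Statements.S0648

set_option autoImplicit false
open Cfsg
open scoped commutatorElement

namespace Cfsg.Agent.S0648

variable {G : Type*} [Group G]

/-- If `H = closure S` normalizes `K` and the generators commute modulo `K`, then `⁅H, H⁆ ≤ K`. -/
theorem commutator_closure_le (S : Set G) (K : Subgroup G)
    (hK : Subgroup.closure S ≤ Subgroup.normalizer (K : Set G))
    (hS : ∀ x ∈ S, ∀ y ∈ S, ⁅x, y⁆ ∈ K) :
    ⁅Subgroup.closure S, Subgroup.closure S⁆ ≤ K := by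
  have hconj : ∀ h ∈ Subgroup.closure S, ∀ k ∈ K, h * k * h⁻¹ ∈ K := fun h hh k hk =>
    (Subgroup.mem_normalizer_iff.mp (hK hh) k).mp hk
  have step1 : ∀ x ∈ S, ∀ y ∈ Subgroup.closure S, ⁅x, y⁆ ∈ K := by
    intro x hx y hy
    refine Subgroup.closure_induction (p := fun y _ => ⁅x, y⁆ ∈ K) ?_ ?_ ?_ ?_ hy
    · intro y hy; exact hS x hx y hy
    · simp
    · intro y₁ y₂ hy₁ _ h₁ h₂
      have : ⁅x, y₁ * y₂⁆ = ⁅x, y₁⁆ * (y₁ * ⁅x, y₂⁆ * y₁⁻¹) := by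
        simp only [commutatorElement_def]; group
      rw [this]
      exact K.mul_mem h₁ (hconj y₁ hy₁ _ h₂)
    · intro y hy h
      have : ⁅x, y⁻¹⁆ = y⁻¹ * ⁅x, y⁆⁻¹ * (y⁻¹)⁻¹ := by
        simp only [commutatorElement_def]; group
      rw [this]
      exact hconj y⁻¹ (Subgroup.inv_mem _ hy) _ (K.inv_mem h)
  rw [Subgroup.commutator_le]
  intro x hx y hy
  refine Subgroup.closure_induction (p := fun x _ => ⁅x, y⁆ ∈ K) ?_ ?_ ?_ ?_ hx
  · intro x hx; exact step1 x hx y hy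
  · simp
  · intro x₁ x₂ hx₁ _ h₁ h₂
    have : ⁅x₁ * x₂, y⁆ = x₁ * ⁅x₂, y⁆ * x₁⁻¹ * ⁅x₁, y⁆ := by
      simp only [commutatorElement_def]; group
    rw [this]
    exact K.mul_mem (hconj x₁ hx₁ _ h₂) h₁
  · intro x hx h
    have : ⁅x⁻¹, y⁆ = x⁻¹ * ⁅x, y⁆⁻¹ * (x⁻¹)⁻¹ := by
      simp only [commutatorElement_def]; group
    rw [this]
    exact hconj x⁻¹ (Subgroup.inv_mem _ hx) _ (K.inv_mem h)

section setup

variable (A B : Subgroup G) (hAB : A ≤ Subgroup.normalizer (B : Set G))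
  (hc : ⁅⁅B, B⁆, A⁆ = ⊥)

include hAB in
theorem comm_BA_le : ⁅B, A⁆ ≤ B := Subgroup.le_normalizer_iff_commutator_le_left.mp hAB

theorem comm_BB_le : ⁅B, B⁆ ≤ B := by
  rw [Subgroup.commutator_le]
  intro x hx y hy
  exact B.mul_mem (B.mul_mem (B.mul_mem hx hy) (B.inv_mem hx)) (B.inv_mem hy)

include hc in
theorem comm_fix : ∀ x ∈ ⁅B, B⁆, ∀ a ∈ A, a * x * a⁻¹ = x := by
  intro x hx a ha
  have h1 : ⁅x, a⁆ ∈ ⁅⁅B, B⁆, A⁆ := Subgroup.commutator_mem_commutator hx ha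
  rw [hc, Subgroup.mem_bot, commutatorElement_eq_one_iff_commute] at h1
  rw [← h1.eq]; group

theorem comm_BB_norm : ∀ b ∈ B, ∀ x ∈ ⁅B, B⁆, b * x * b⁻¹ ∈ ⁅B, B⁆ := by
  intro b hb x hx
  have h1 : b * x * b⁻¹ = ⁅b, x⁆ * x := by simp only [commutatorElement_def]; group
  rw [h1]
  exact Subgroup.mul_mem _ (Subgroup.commutator_mem_commutator hb (comm_BB_le B hx)) hx

include hc in
theorem comm_BA_le_centralizer :
    ⁅B, A⁆ ≤ Subgroup.centralizer ((⁅B, B⁆ : Subgroup G) : Set G) := by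
  rw [Subgroup.commutator_le]
  intro b hb a ha
  rw [Subgroup.mem_centralizer_iff]
  intro x hx
  have hx1 : a⁻¹ * x * (a⁻¹)⁻¹ = x := comm_fix A B hc x hx a⁻¹ (A.inv_mem ha)
  have hx' : b⁻¹ * x * (b⁻¹)⁻¹ ∈ ⁅B, B⁆ := comm_BB_norm B b⁻¹ (B.inv_mem hb) x hx
  have hx2 := comm_fix A B hc _ hx' a ha
  have key : ⁅b, a⁆ * x * ⁅b, a⁆⁻¹ = x := by
    calc ⁅b, a⁆ * x * ⁅b, a⁆⁻¹
        = b * (a * (b⁻¹ * (a⁻¹ * x * (a⁻¹)⁻¹) * (b⁻¹)⁻¹) * a⁻¹) * b⁻¹ := by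
          simp only [commutatorElement_def]; group
      _ = b * (a * (b⁻¹ * x * (b⁻¹)⁻¹) * a⁻¹) * b⁻¹ := by rw [hx1]
      _ = b * (b⁻¹ * x * (b⁻¹)⁻¹) * b⁻¹ := by rw [hx2]
      _ = x := by group
  calc x * ⁅b, a⁆ = (⁅b, a⁆ * x * ⁅b, a⁆⁻¹) * ⁅b, a⁆ := by rw [key]
    _ = ⁅b, a⁆ * x := by group

include hAB hc in
theorem part1 : ⁅⁅B, A⁆, ⁅B, A⁆⁆ ≤ B ⊓ Subgroup.centralizer (B : Set G) := by
  have hNB := comm_BA_le A B hAB
  have hNC := comm_BA_le_centralizer A B hc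
  have hDN : ⁅⁅B, B⁆, ⁅B, A⁆⁆ = ⊥ := by
    rw [Subgroup.commutator_comm]
    exact Subgroup.commutator_eq_bot_iff_le_centralizer.mpr hNC
  have h1 : ⁅⁅⁅B, A⁆, B⁆, ⁅B, A⁆⁆ = ⊥ := by
    rw [eq_bot_iff, ← hDN]
    exact Subgroup.commutator_mono (Subgroup.commutator_mono hNB le_rfl) le_rfl
  have h2 : ⁅⁅B, ⁅B, A⁆⁆, ⁅B, A⁆⁆ = ⊥ := by
    rw [eq_bot_iff, ← hDN]
    exact Subgroup.commutator_mono (Subgroup.commutator_mono le_rfl hNB) le_rfl
  have h3 : ⁅⁅⁅B, A⁆, ⁅B, A⁆⁆, B⁆ = ⊥ := Subgroup.commutator_commutator_eq_bot_of_rotate h1 h2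
  refine le_inf ?_ (Subgroup.commutator_eq_bot_iff_le_centralizer.mp h3)
  exact (Subgroup.commutator_mono hNB hNB).trans (comm_BB_le B)

/-- Claim A: `c(a) = b⁻¹ a b a⁻¹` commutes with every `y ∈ B` commuting with `a`. -/
theorem claimA (hfix : ∀ x ∈ ⁅B, B⁆, ∀ a ∈ A, a * x * a⁻¹ = x)
    (b : G) (hb : b ∈ B) (a : G) (ha : a ∈ A) (y : G) (hy : y ∈ B) (hay : a * y * a⁻¹ = y) :
    (b⁻¹ * a * b * a⁻¹) * y = y * (b⁻¹ * a * b * a⁻¹) := by
  have h1 : a * (b * y * b⁻¹ * y⁻¹) * a⁻¹ = b * y * b⁻¹ * y⁻¹ :=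
    hfix _ (Subgroup.commutator_mem_commutator hb hy) a ha
  have key : (b⁻¹ * a * b * a⁻¹) * y * (b⁻¹ * a * b * a⁻¹)⁻¹ = y := by
    calc (b⁻¹ * a * b * a⁻¹) * y * (b⁻¹ * a * b * a⁻¹)⁻¹
        = b⁻¹ * (a * (b * y * b⁻¹ * y⁻¹) * a⁻¹) * (a * y * a⁻¹) * b := by
          have : a * y * a⁻¹ = y := hay
          nth_rewrite 1 [← this]
          group
      _ = b⁻¹ * (b * y * b⁻¹ * y⁻¹) * y * b := by rw [h1, hay]
      _ = y := by group
  calc (b⁻¹ * a * b * a⁻¹) * y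
      = ((b⁻¹ * a * b * a⁻¹) * y * (b⁻¹ * a * b * a⁻¹)⁻¹) * (b⁻¹ * a * b * a⁻¹) := by group
    _ = y * (b⁻¹ * a * b * a⁻¹) := by rw [key]

/-- Core computation: `⁅δ, b⁻¹⁆ = ⁅u, v⁆⁻¹` in the notation of the proof. -/
theorem core (b u v δ k a : G)
    (hu : a * b * a⁻¹ = b * u)
    (hv : a * v * a⁻¹ = v * δ)
    (hfix : a * (b * v * b⁻¹ * v⁻¹) * a⁻¹ = b * v * b⁻¹ * v⁻¹)
    (hk : u * v * u⁻¹ = k * v)
    (huδ : u * δ * u⁻¹ = δ)
    (hkb : k * b = b * k) (hkv : k * v = v * k) :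
    δ * b⁻¹ * δ⁻¹ * b = k⁻¹ := by
  have h1 : b * v * b⁻¹ * v⁻¹
      = k * (b * v * (δ * b⁻¹ * δ⁻¹ * b) * v⁻¹ * b⁻¹) * (b * v * b⁻¹ * v⁻¹) := by
    calc b * v * b⁻¹ * v⁻¹ = a * (b * v * b⁻¹ * v⁻¹) * a⁻¹ := hfix.symm
      _ = (a * b * a⁻¹) * (a * v * a⁻¹) * (a * b * a⁻¹)⁻¹ * (a * v * a⁻¹)⁻¹ := by group
      _ = (b * u) * (v * δ) * (b * u)⁻¹ * (v * δ)⁻¹ := by rw [hu, hv]
      _ = b * (u * v * u⁻¹) * (u * δ * u⁻¹) * b⁻¹ * δ⁻¹ * v⁻¹ := by group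
      _ = b * (k * v) * δ * b⁻¹ * δ⁻¹ * v⁻¹ := by rw [hk, huδ]
      _ = (b * k) * v * δ * b⁻¹ * δ⁻¹ * v⁻¹ := by group
      _ = (k * b) * v * δ * b⁻¹ * δ⁻¹ * v⁻¹ := by rw [hkb]
      _ = k * (b * v * (δ * b⁻¹ * δ⁻¹ * b) * v⁻¹ * b⁻¹) * (b * v * b⁻¹ * v⁻¹) := by group
  have h2 : k * (b * v * (δ * b⁻¹ * δ⁻¹ * b) * v⁻¹ * b⁻¹) = 1 := by
    have := mul_right_cancel (b := b * v * b⁻¹ * v⁻¹) (a := 1)
      (c := k * (b * v * (δ * b⁻¹ * δ⁻¹ * b) * v⁻¹ * b⁻¹)) (by rw [one_mul]; exact h1)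
    exact this.symm
  have hkb' : b⁻¹ * k⁻¹ * b = k⁻¹ := by
    have : b⁻¹ * k⁻¹ * b = (b⁻¹ * (k * b))⁻¹ * (b⁻¹ * b) := by group
    rw [this, hkb]; group
  have hkv' : v⁻¹ * k⁻¹ * v = k⁻¹ := by
    have : v⁻¹ * k⁻¹ * v = (v⁻¹ * (k * v))⁻¹ * (v⁻¹ * v) := by group
    rw [this, hkv]; group
  calc δ * b⁻¹ * δ⁻¹ * b
      = v⁻¹ * (b⁻¹ * (k⁻¹ * (k * (b * v * (δ * b⁻¹ * δ⁻¹ * b) * v⁻¹ * b⁻¹))) * b) * v := by group
    _ = v⁻¹ * (b⁻¹ * k⁻¹ * b) * v := by rw [h2]; group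
    _ = k⁻¹ := by rw [hkb', hkv']

end setup

/-- The central elements of `B` of order dividing 2, as a subgroup. -/
def centralTwo (B : Subgroup G) : Subgroup G where
  carrier := {z | z ∈ B ⊓ Subgroup.centralizer (B : Set G) ∧ z ^ 2 = 1}
  mul_mem' := by
    rintro x y ⟨hx, hx2⟩ ⟨hy, hy2⟩
    refine ⟨Subgroup.mul_mem _ hx hy, ?_⟩
    have hcomm : Commute x y := by
      have := (Subgroup.mem_centralizer_iff.mp hy.2) x hx.1
      exact this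
    rw [hcomm.mul_pow, hx2, hy2, one_mul]
  one_mem' := ⟨Subgroup.one_mem _, one_pow _⟩
  inv_mem' := by
    rintro x ⟨hx, hx2⟩
    exact ⟨Subgroup.inv_mem _ hx, by rw [inv_pow, hx2, inv_one]⟩

theorem mem_centralTwo (B : Subgroup G) (z : G) :
    z ∈ centralTwo B ↔ z ∈ B ⊓ Subgroup.centralizer (B : Set G) ∧ z ^ 2 = 1 := Iff.rfl

/-- If A acts on B centralizing [B, B], then [B, A] has derived subgroup central in B, and for abelian A and b ∈ B with [[b, A], A, A] = 1 the derived subgroup of the subgroup [b, A] generated by the commutators of b with A has exponent dividing 2. -/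
theorem result {G : Type*} [Group G] [Finite G] (A B : Subgroup G) (hAB : A ≤ Subgroup.normalizer (B : Set G)) (hc : ⁅⁅B, B⁆, A⁆ = ⊥) : ⁅⁅B, A⁆, ⁅B, A⁆⁆ ≤ B ⊓ Subgroup.centralizer (B : Set G) ∧ (IsMulCommutative A → ∀ b ∈ B, ⁅⁅(Subgroup.closure {g : G | ∃ a ∈ A, g = b⁻¹ * a * b * a⁻¹}), A⁆, A⁆ = ⊥ → ∀ w ∈ ⁅(Subgroup.closure {g : G | ∃ a ∈ A, g = b⁻¹ * a * b * a⁻¹}), (Subgroup.closure {g : G | ∃ a ∈ A, g = b⁻¹ * a * b * a⁻¹})⁆, w ^ 2 = 1) := by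
  have hP1 := part1 A B hAB hc
  refine ⟨hP1, ?_⟩
  intro hA b hb hX w hw
  set S : Set G := {g : G | ∃ a ∈ A, g = b⁻¹ * a * b * a⁻¹} with hS
  set X := Subgroup.closure S with hXdef
  have hfix := comm_fix A B hc
  have hNB := comm_BA_le A B hAB
  -- generators lie in ⁅B, A⁆
  have hSN : ∀ g ∈ S, g ∈ ⁅B, A⁆ := by
    rintro g ⟨a, ha, rfl⟩
    have : b⁻¹ * a * b * a⁻¹ = ⁅b⁻¹, a⁆ := by simp only [commutatorElement_def]; group
    rw [this]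
    exact Subgroup.commutator_mem_commutator (B.inv_mem hb) ha
  have hXN : X ≤ ⁅B, A⁆ := (Subgroup.closure_le _).mpr hSN
  have hXB : X ≤ B := hXN.trans hNB
  -- elements of ⁅X, A⁆ are fixed by A and lie in B
  have hXA_fix : ∀ d ∈ ⁅X, A⁆, ∀ a ∈ A, a * d * a⁻¹ = d := by
    intro d hd a ha
    have h1 : ⁅d, a⁆ ∈ ⁅⁅X, A⁆, A⁆ := Subgroup.commutator_mem_commutator hd ha
    rw [hX, Subgroup.mem_bot, commutatorElement_eq_one_iff_commute] at h1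
    rw [← h1.eq]; group
  have hXA_B : ⁅X, A⁆ ≤ B := (Subgroup.commutator_mono hXB le_rfl).trans hNB
  -- commutators of generators are central of order ≤ 2
  have hgen : ∀ x ∈ S, ∀ y ∈ S, ⁅x, y⁆ ∈ centralTwo B := by
    rintro u ⟨a, ha, rfl⟩ v ⟨a', ha', rfl⟩
    set u := b⁻¹ * a * b * a⁻¹ with hu
    set v := b⁻¹ * a' * b * a'⁻¹ with hv
    have huS : u ∈ S := ⟨a, ha, rfl⟩
    have hvS : v ∈ S := ⟨a', ha', rfl⟩
    have huX : u ∈ X := Subgroup.subset_closure huS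
    have hvX : v ∈ X := Subgroup.subset_closure hvS
    have hk : ⁅u, v⁆ ∈ B ⊓ Subgroup.centralizer (B : Set G) :=
      hP1 (Subgroup.commutator_mem_commutator (hXN huX) (hXN hvX))
    refine ⟨hk, ?_⟩
    set k := ⁅u, v⁆ with hkdef
    -- δ = v⁻¹ (a v a⁻¹), δ' = u⁻¹ (a' u a'⁻¹)
    set δ := v⁻¹ * (a * v * a⁻¹) with hδ
    set δ' := u⁻¹ * (a' * u * a'⁻¹) with hδ'
    have hδXA : δ ∈ ⁅X, A⁆ := by
      have : δ = ⁅v⁻¹, a⁆ := by rw [hδ]; simp only [commutatorElement_def]; group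
      rw [this]; exact Subgroup.commutator_mem_commutator (X.inv_mem hvX) ha
    have hδ'XA : δ' ∈ ⁅X, A⁆ := by
      have : δ' = ⁅u⁻¹, a'⁆ := by rw [hδ']; simp only [commutatorElement_def]; group
      rw [this]; exact Subgroup.commutator_mem_commutator (X.inv_mem huX) ha'
    have hδB : δ ∈ B := hXA_B hδXA
    have hδ'B : δ' ∈ B := hXA_B hδ'XA
    -- commutation of u, v with δ, δ'
    have huδ : u * δ = δ * u := claimA A B hfix b hb a ha δ hδB (hXA_fix δ hδXA a ha)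
    have hvδ' : v * δ' = δ' * v := claimA A B hfix b hb a' ha' δ' hδ'B (hXA_fix δ' hδ'XA a' ha')
    -- k central
    have hkcomm : ∀ g ∈ B, k * g = g * k := fun g hg =>
      ((Subgroup.mem_centralizer_iff.mp hk.2) g hg).symm
    have huB : u ∈ B := hXB huX
    have hvB : v ∈ B := hXB hvX
    -- first application of core
    have hfix1 : a * (b * v * b⁻¹ * v⁻¹) * a⁻¹ = b * v * b⁻¹ * v⁻¹ :=
      hfix _ (Subgroup.commutator_mem_commutator hb hvB) a ha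
    have hfix2 : a' * (b * u * b⁻¹ * u⁻¹) * a'⁻¹ = b * u * b⁻¹ * u⁻¹ :=
      hfix _ (Subgroup.commutator_mem_commutator hb huB) a' ha'
    have e1 : δ * b⁻¹ * δ⁻¹ * b = k⁻¹ := by
      apply core b u v δ k a
      · rw [hu]; group
      · rw [hδ]; group
      · exact hfix1
      · rw [hkdef]; simp only [commutatorElement_def]; group
      · calc u * δ * u⁻¹ = (δ * u) * u⁻¹ := by rw [huδ]
          _ = δ := by group
      · exact hkcomm b hb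
      · exact hkcomm v hvB
    have hk'mem : k⁻¹ ∈ B ⊓ Subgroup.centralizer (B : Set G) := Subgroup.inv_mem _ hk
    have hk'comm : ∀ g ∈ B, k⁻¹ * g = g * k⁻¹ := fun g hg =>
      ((Subgroup.mem_centralizer_iff.mp hk'mem.2) g hg).symm
    have e2 : δ' * b⁻¹ * δ'⁻¹ * b = (k⁻¹)⁻¹ := by
      apply core b v u δ' k⁻¹ a'
      · rw [hv]; group
      · rw [hδ']; group
      · exact hfix2
      · rw [hkdef]; simp only [commutatorElement_def]; group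
      · calc v * δ' * v⁻¹ = (δ' * v) * v⁻¹ := by rw [hvδ']
          _ = δ' := by group
      · exact hk'comm b hb
      · exact hk'comm u huB
    -- relation between δ and δ' from commutativity of A
    have haa' : a * a' = a' * a := by
      have := hA.is_comm.comm (⟨a, ha⟩ : A) ⟨a', ha'⟩
      exact congrArg Subtype.val this
    have hrel : u * v * δ = v * u * δ' := by
      have h1 : u * v * δ = b⁻¹ * (a * a') * b * (a * a')⁻¹ := by rw [hδ, hu, hv]; group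
      have h2 : v * u * δ' = b⁻¹ * (a' * a) * b * (a' * a)⁻¹ := by rw [hδ', hu, hv]; group
      rw [h1, h2, haa']
    -- k' = u⁻¹ v⁻¹ u v is central in B, and δ' = k' δ
    have hk'2 : u⁻¹ * v⁻¹ * u * v ∈ B ⊓ Subgroup.centralizer (B : Set G) := by
      have : u⁻¹ * v⁻¹ * u * v = ⁅u⁻¹, v⁻¹⁆ := by simp only [commutatorElement_def]; group
      rw [this]
      exact hP1 (Subgroup.commutator_mem_commutator (hXN (X.inv_mem huX)) (hXN (X.inv_mem hvX)))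
    set k' := u⁻¹ * v⁻¹ * u * v with hk'def
    have hδ'eq : δ' = k' * δ := by
      have : δ' = (v * u)⁻¹ * (v * u * δ') := by group
      rw [this, ← hrel, hk'def]; group
    have hk'c : ∀ g ∈ B, k' * g = g * k' := fun g hg =>
      ((Subgroup.mem_centralizer_iff.mp hk'2.2) g hg).symm
    -- compare
    have hEB : δ * b⁻¹ * δ⁻¹ * b ∈ B :=
      B.mul_mem (B.mul_mem (B.mul_mem hδB (B.inv_mem hb)) (B.inv_mem hδB)) hb
    have e3 : δ' * b⁻¹ * δ'⁻¹ * b = δ * b⁻¹ * δ⁻¹ * b := by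
      rw [hδ'eq]
      have h1 : k' * b⁻¹ = b⁻¹ * k' := hk'c _ (B.inv_mem hb)
      have h2 : k' * (δ * b⁻¹ * δ⁻¹ * b) = (δ * b⁻¹ * δ⁻¹ * b) * k' := hk'c _ hEB
      calc k' * δ * b⁻¹ * (k' * δ)⁻¹ * b
          = k' * (δ * b⁻¹ * δ⁻¹ * b) * (b⁻¹ * k'⁻¹ * b) := by group
        _ = (δ * b⁻¹ * δ⁻¹ * b) * k' * (b⁻¹ * k'⁻¹ * b) := by rw [h2]
        _ = (δ * b⁻¹ * δ⁻¹ * b) * (k' * b⁻¹) * k'⁻¹ * b := by group
        _ = (δ * b⁻¹ * δ⁻¹ * b) * (b⁻¹ * k') * k'⁻¹ * b := by rw [h1]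
        _ = δ * b⁻¹ * δ⁻¹ * b := by group
    rw [e1, e2, inv_inv] at e3
    -- k = k⁻¹
    calc k ^ 2 = k * k := pow_two k
      _ = k * k⁻¹ := by rw [← e3]
      _ = 1 := mul_inv_cancel k
  -- X normalizes centralTwo B
  have hXnorm : X ≤ Subgroup.normalizer ((centralTwo B : Subgroup G) : Set G) := by
    intro x hx
    rw [Subgroup.mem_normalizer_iff]
    intro z
    have hxB : x ∈ B := hXB hx
    have key : ∀ z ∈ centralTwo B, x * z * x⁻¹ = z := by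
      intro z hz
      have := (Subgroup.mem_centralizer_iff.mp hz.1.2) x hxB
      calc x * z * x⁻¹ = (z * x) * x⁻¹ := by rw [this]
        _ = z := by group
    constructor
    · intro hz; rw [key z hz]; exact hz
    · intro hz
      have h1 := (Subgroup.mem_centralizer_iff.mp hz.1.2) x hxB
      have : z = x * z * x⁻¹ := by
        have h2 : x * (x * z * x⁻¹) = (x * z * x⁻¹) * x := h1
        have : x * z = z * x := by
          have h3 : x * (x * z * x⁻¹) = x * (z * x * x⁻¹) := by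
            rw [h2]; group
          have h4 := mul_left_cancel h3
          calc x * z = (x * z * x⁻¹) * x := by group
            _ = (z * x * x⁻¹) * x := by rw [h4]
            _ = z * x := by group
        calc z = (z * x) * x⁻¹ := by group
          _ = x * z * x⁻¹ := by rw [← this]
      rw [this]; exact hz
  have hle := commutator_closure_le S (centralTwo B) hXnorm hgen
  exact (hle hw).2

end Cfsg.Agent.S0648
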