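import Cfsg.Statements.S0199
import Cfsg.Agent.Lib.Helper96.BaerSuzuki

set_option autoImplicit false
open Cfsg

namespace Cfsg.Agent.S0199

/-- Baer–Suzuki Theorem: a p-subgroup X of a finite group such that X and any of its conjugates generate a p-group is contained in a normal p-subgroup. -/
theorem result {G : Type*} [Group G] [Finite G] {p : ℕ} [Fact p.Prime] (X : Subgroup G) (hX : IsPGroup p X) (h : ∀ g : G, IsPGroup p ↥(X ⊔ X.map (MulAut.conj g).toMonoidHom)) : ∃ N : Subgroup G, N.Normal ∧ IsPGroup p N ∧ X ≤ N := by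
  refine ⟨Subgroup.normalClosure (X : Set G), Subgroup.normalClosure_normal, ?_, Subgroup.le_normalClosure⟩
  apply Cfsg.Agent.Lib.Helper96.isPGroup_closure_of_pairwise
  · intro k hk g
    exact Group.conj_mem_conjugatesOfSet hk
  · intro a ha b hb
    obtain ⟨x, hx, hxa⟩ := Group.mem_conjugatesOfSet_iff.mp ha
    obtain ⟨y, hy, hyb⟩ := Group.mem_conjugatesOfSet_iff.mp hb
    obtain ⟨c, rfl⟩ := isConj_iff.mp hxa
    obtain ⟨d, rfl⟩ := isConj_iff.mp hyb
    have hp := (h (c⁻¹ * d)).map (MulAut.conj c).toMonoidHom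
    refine hp.to_le ?_
    rw [Subgroup.closure_le]
    intro z hz
    rcases hz with rfl | rfl
    · exact ⟨x, Subgroup.mem_sup_left hx, by simp⟩
    · refine ⟨c⁻¹ * d * y * (c⁻¹ * d)⁻¹, Subgroup.mem_sup_right ⟨y, hy, by
        simp only [MulEquiv.toMonoidHom_eq_coe, MonoidHom.coe_coe, MulAut.conj_apply]⟩, ?_⟩
      simp only [MulEquiv.toMonoidHom_eq_coe, MonoidHom.coe_coe, MulAut.conj_apply]
      group

end Cfsg.Agent.S0199
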