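import Cfsg.Statements.S1969
import Cfsg.Agent.Lib.Helper33.SectionFusion
-- import your own Cfsg.Agent.* helpers here

set_option autoImplicit false
universe u
open Cfsg

namespace Cfsg.Agent.S1969

open Cfsg.Agent.Lib.Helper33

/-- If `W(T)` is normal in `Y` for every Sylow `p`-subgroup `T`, then `W` controls strong fusion in `Y`. -/
theorem familyControls_of_normal {p : ℕ} [Fact p.Prime] {Y : Type u} [Group Y] [Finite Y]
    (W : ∀ (Q : Type u) [Group Q], Subgroup Q)
    (h : ∀ T : Sylow p Y, (Cfsg.inducedFunctor W (T : Subgroup Y)).Normal) :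
    Cfsg.FamilyControlsStrongFusionIn p (indFam {W} Y) ⊤ := by
  obtain T : Sylow p Y := Classical.arbitrary _
  rw [familyControls_iff_good]
  refine ⟨(T : Subgroup Y), sylIn_top T, ?_⟩
  intro A g _ _ hgA
  apply Good.single _ hgA
  refine ⟨_, ⟨W, rfl, rfl⟩, ⟨Subgroup.mem_top _, ?_⟩⟩
  have hn := h T
  have : Subgroup.normalizer ((Cfsg.inducedFunctor W (T : Subgroup Y) : Subgroup Y) : Set Y) = ⊤ :=
    Subgroup.normalizer_eq_top_iff.mpr hn
  show g ∈ Subgroup.normalizer ((Cfsg.inducedFunctor W (T : Subgroup Y) : Subgroup Y) : Set Y)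
  rw [this]
  exact Subgroup.mem_top g

/-- Let p be a prime, G a finite group and W an isomorphism-invariant p-group functor (W assigns to every group Q a subgroup W(Q), nontrivial whenever Q is a nontrivial finite p-group, and every isomorphism from a finite p-group Q onto a group R carries W(Q) onto W(R)). Suppose that W(S*) is normal in G* whenever G* = K/R is a section of G with C_{G*}(O_p(G*)) ≤ O_p(G*) and S* is a Sylow p-subgroup of G*. Then W controls strong fusion in every section of G: for every section K/R and every Sylow p-subgroup T of K/R, the subgroup W(T) controls strong fusion in K/R. -/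
theorem result {G : Type u} [Group G] [Finite G] {p : ℕ} [Fact p.Prime] (W : ∀ (Q : Type u) [Group Q], Subgroup Q) (hW : Cfsg.IsCharPFunctor.{u} p W) (hloc : ∀ (K R : Subgroup G) [hR : (R.subgroupOf K).Normal], Subgroup.centralizer ((Cfsg.pCore p (↥K ⧸ R.subgroupOf K) : Subgroup (↥K ⧸ R.subgroupOf K)) : Set (↥K ⧸ R.subgroupOf K)) ≤ Cfsg.pCore p (↥K ⧸ R.subgroupOf K) → ∀ T : Sylow p (↥K ⧸ R.subgroupOf K), (Cfsg.inducedFunctor (G := (↥K ⧸ R.subgroupOf K)) W ((T : Subgroup (↥K ⧸ R.subgroupOf K)))).Normal) : ∀ (K R : Subgroup G) [hR : (R.subgroupOf K).Normal], ∀ T : Sylow p (↥K ⧸ R.subgroupOf K), Cfsg.ControlsStrongFusion p (Cfsg.inducedFunctor (G := (↥K ⧸ R.subgroupOf K)) W ((T : Subgroup (↥K ⧸ R.subgroupOf K)))) := by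
  have h𝓦 : ∀ W' ∈ ({W} : Set (∀ (Q : Type u) [Group Q], Subgroup Q)), Cfsg.IsCharPFunctor.{u} p W' := by
    rintro W' rfl
    exact hW
  have hsecG : SecProp (FusProp p {W}) G :=
    secProp_of_sections (fun X Y _ _ _ e h => fusProp_of_mulEquiv h𝓦 X Y e h)
      (fun K R _ hcon => familyControls_of_normal W (hloc K R hcon))
  intro K R hR T
  have hsecY : SecProp (FusProp p {W}) (↥K ⧸ R.subgroupOf K) :=
    (hsecG.subgroup K).quotient (R.subgroupOf K)
  have hY := familyControls_of_secProp h𝓦 _ (↥K ⧸ R.subgroupOf K) rfl hsecY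
  have hcf := isConjugacyFunctor_inducedFunctor W hW (G := (↥K ⧸ R.subgroupOf K))
  have e : indFam {W} (↥K ⧸ R.subgroupOf K) = {Cfsg.inducedFunctor (G := (↥K ⧸ R.subgroupOf K)) W} := by
    unfold indFam
    rw [Set.image_singleton]
  rw [e] at hY
  have hgood := good_of_familyControls (by rintro W' rfl; exact hcf) hY (sylIn_top T)
  refine ⟨T, cf_le hcf T.isPGroup', fun A hA => ⟨hA, fun g hg => ?_⟩⟩
  obtain ⟨g', hreach, hagree⟩ := hgood A g (Subgroup.mem_top _) hA hg
  rw [stepSet_singleton] at hreach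
  exact ⟨g', (hreach.mem_of_subgroup).2, fun a ha => (hagree a ha).symm⟩

end Cfsg.Agent.S1969
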