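import Cfsg.Statements.S1465
import Cfsg.Agent.Lib.Helper11.OddStable2
import Cfsg.Agent.Lib.Helper55.Cores2

set_option autoImplicit false
open Cfsg

namespace Cfsg.Agent.S1465

open Cfsg.Agent.Lib.Helper11 in
/-- every member of the family lies in `stabCore p P`. -/
theorem le_stabCore_of_mem {G : Type*} [Group G] [Finite G] [Group.IsSolvable G]
    (hodd : Odd (Nat.card G)) (p : ℕ) [Fact p.Prime] (P : Subgroup G) [P.Normal]
    (hP : IsPGroup p P) (B : Subgroup G) (hBc : IsMulCommutative B)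
    (hPB : P ≤ Subgroup.normalizer (B : Set G)) : B ≤ stabCore p P := by
  intro b hb
  have hPBle : ⁅P, B⁆ ≤ B := by
    rw [Subgroup.commutator_le]
    intro x hx y hy
    rw [commutatorElement_def]
    have h1 : x * y * x⁻¹ ∈ B := (Subgroup.mem_normalizer_iff.mp (hPB hx) y).mp hy
    exact B.mul_mem h1 (B.inv_mem hy)
  have hBB : ⁅B, B⁆ = ⊥ := by
    rw [Subgroup.commutator_eq_bot_iff_le_centralizer]
    intro x hx
    rw [Subgroup.mem_centralizer_iff]
    intro y hy
    have := hBc.is_comm.comm (⟨y, hy⟩ : B) ⟨x, hx⟩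
    exact congrArg Subtype.val this
  have hz : Subgroup.zpowers b ≤ B := (Subgroup.zpowers_le).mpr hb
  have hq : ⁅⁅P, Subgroup.zpowers b⁆, Subgroup.zpowers b⁆ = ⊥ := by
    rw [eq_bot_iff, ← hBB]
    exact Subgroup.commutator_mono ((Subgroup.commutator_mono le_rfl hz).trans hPBle) hz
  obtain ⟨D, hDn, hbD, hD⟩ := exists_normal_of_quadratic_pgroup_odd hodd P hP b hq
  exact (le_stabCore (p := p) P D hD) hbD

open Cfsg.Agent.Lib.Helper11 in
/-- Let p be an odd prime, G a solvable group of odd order, P a normal p-subgroup of G, and X the subgroup generated by a family of abelian p-subgroups of G each normalized by P. Then the image of X in G/C_G(P) lies in O_p(G/C_G(P)); and if O_{p'}(G) = 1 and O_p(G) ∩ C_G(P) ≤ P then X ≤ O_p(G). -/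
theorem result {G : Type*} [Group G] [Finite G] [Group.IsSolvable G] (hodd : Odd (Nat.card G)) (p : ℕ) [Fact p.Prime] (hp : p ≠ 2) (P : Subgroup G) [P.Normal] (hP : IsPGroup p P)
    (S : Set (Subgroup G)) (hS : ∀ B ∈ S, IsMulCommutative B ∧ IsPGroup p B ∧ P ≤ Subgroup.normalizer (B : Set G)) :
    (sSup S).map (QuotientGroup.mk' (Subgroup.centralizer (P : Set G))) ≤ Cfsg.pCore p (G ⧸ Subgroup.centralizer (P : Set G)) ∧
      (Cfsg.pPrimeCore p G = ⊥ → Cfsg.pCore p G ⊓ Subgroup.centralizer (P : Set G) ≤ P → sSup S ≤ Cfsg.pCore p G) := by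
  have hle : sSup S ≤ stabCore p P := by
    apply sSup_le
    intro B hB
    obtain ⟨hBc, -, hPB⟩ := hS B hB
    exact le_stabCore_of_mem hodd p P hP B hBc hPB
  refine ⟨?_, ?_⟩
  · rw [Subgroup.map_le_iff_le_comap]
    exact hle
  · intro hO hOC
    refine hle.trans ?_
    -- `C = C_G(P)` is a `p`-group
    set C := Subgroup.centralizer (P : Set G) with hC
    have hCn : C.Normal := Subgroup.normal_centralizer
    have hOC' : Cfsg.pPrimeCore p ↥C = ⊥ := Cfsg.Agent.Lib.Helper55.pPrimeCore_eq_bot_of_normal p C hO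
    have hcc := Cfsg.Agent.Lib.Helper55.centralizer_pCore_le (G := ↥C) p hOC'
    have hmap : (Cfsg.pCore p ↥C).map C.subtype ≤ P := by
      refine le_trans (le_inf (Cfsg.Agent.Lib.Helper55.pCore_map_subtype_le p C) ?_) hOC
      exact Subgroup.map_subtype_le _
    have hCp : ∀ c : ↥C, c ∈ Cfsg.pCore p ↥C := by
      intro c
      apply hcc
      rw [Subgroup.mem_centralizer_iff]
      intro y hy
      have hyP : (y : G) ∈ P := hmap (Subgroup.mem_map_of_mem C.subtype hy)
      have hc : (c : G) ∈ Subgroup.centralizer (P : Set G) := c.2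
      rw [Subgroup.mem_centralizer_iff] at hc
      exact Subtype.ext (hc _ hyP)
    have hCpg : ∀ c ∈ C, ∃ j : ℕ, c ^ (p ^ j) = 1 := by
      intro c hc
      obtain ⟨j, hj⟩ := (Cfsg.Agent.Lib.Helper97.isPGroup_pCore p ↥C) ⟨⟨c, hc⟩, hCp ⟨c, hc⟩⟩
      refine ⟨j, ?_⟩
      have h1 := congrArg Subtype.val (congrArg Subtype.val hj)
      simpa using h1
    apply Cfsg.Agent.Lib.Helper97.le_pCore_of_normal (inferInstance : (stabCore p P).Normal)
    rintro ⟨d, hd⟩
    obtain ⟨k, hk⟩ := exists_pow_mem_centralizer_of_mem_stabCore p P hd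
    obtain ⟨j, hj⟩ := hCpg _ hk
    refine ⟨k + j, Subtype.ext ?_⟩
    rw [Subgroup.coe_pow, Subgroup.coe_one, pow_add, pow_mul]
    exact hj

end Cfsg.Agent.S1465
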