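import Cfsg.Statements.S1457
import Cfsg.Agent.S1465

set_option autoImplicit false
open Cfsg

namespace Cfsg.Agent.S1457

open Cfsg.Agent.Lib.Helper11 in
/-- The case `O_{p'}(G) = 1`. -/
theorem le_pCore_of_core_free {G : Type*} [Group G] [Finite G] [Group.IsSolvable G]
    (hodd : Odd (Nat.card G)) (p : ℕ) [Fact p.Prime] (hO : Cfsg.pPrimeCore p G = ⊥)
    (A : Subgroup G) (hAc : IsMulCommutative A)
    (hAn : Cfsg.pCore p G ≤ Subgroup.normalizer (A : Set G)) : A ≤ Cfsg.pCore p G := by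
  have hcc := Cfsg.Agent.Lib.Helper55.centralizer_pCore_le (G := G) p hO
  have hPp := Cfsg.Agent.Lib.Helper97.isPGroup_pCore p G
  have hle := Cfsg.Agent.S1465.le_stabCore_of_mem hodd p (Cfsg.pCore p G) hPp A hAc hAn
  refine hle.trans ?_
  apply Cfsg.Agent.Lib.Helper97.le_pCore_of_normal
    (inferInstance : (stabCore p (Cfsg.pCore p G)).Normal)
  rintro ⟨d, hd⟩
  obtain ⟨k, hk⟩ := exists_pow_mem_centralizer_of_mem_stabCore p (Cfsg.pCore p G) hd
  obtain ⟨j, hj⟩ := hPp ⟨_, hcc hk⟩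
  refine ⟨k + j, Subtype.ext ?_⟩
  have h1 := congrArg Subtype.val hj
  rw [Subgroup.coe_pow, Subgroup.coe_one] at h1 ⊢
  rw [pow_add, pow_mul]
  exact h1

/-- Let G be a solvable group of odd order, p a prime, S a Sylow p-subgroup of G and A an abelian subgroup of S normal in S. Then A ≤ O_{p',p}(G). -/
theorem result {G : Type*} [Group G] [Finite G] [Group.IsSolvable G] (hodd : Odd (Nat.card G)) (p : ℕ) [Fact p.Prime] (S : Sylow p G) (A : Subgroup G) (hA : A ≤ (S : Subgroup G)) (hAc : IsMulCommutative A)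
    (hAn : (S : Subgroup G) ≤ Subgroup.normalizer (A : Set G)) :
    A ≤ Cfsg.pPrimePCore p G := by
  set π := QuotientGroup.mk' (Cfsg.pPrimeCore p G) with hπ
  have hsurj : Function.Surjective π := QuotientGroup.mk'_surjective _
  have hO : Cfsg.pPrimeCore p (G ⧸ Cfsg.pPrimeCore p G) = ⊥ :=
    Cfsg.Agent.Lib.Helper55.pPrimeCore_quotient_pPrimeCore p
  have hoddQ : Odd (Nat.card (G ⧸ Cfsg.pPrimeCore p G)) :=
    Odd.of_dvd_nat hodd (Subgroup.card_quotient_dvd_card _)
  have hAbc : IsMulCommutative (A.map π) := by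
    refine ⟨⟨?_⟩⟩
    rintro ⟨_, x, hx, rfl⟩ ⟨_, y, hy, rfl⟩
    apply Subtype.ext
    show π x * π y = π y * π x
    have := hAc.is_comm.comm (⟨x, hx⟩ : A) ⟨y, hy⟩
    have h1 : x * y = y * x := congrArg Subtype.val this
    rw [← map_mul, ← map_mul, h1]
  have hn : Cfsg.pCore p (G ⧸ Cfsg.pPrimeCore p G) ≤ Subgroup.normalizer ((A.map π : Subgroup _) : Set _) := by
    have h1 : Cfsg.pCore p (G ⧸ Cfsg.pPrimeCore p G) ≤ ((S.mapSurjective hsurj : Sylow p _) : Subgroup _) :=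
      Cfsg.Agent.Lib.Helper97.pCore_le_sylow' _
    rw [Sylow.coe_mapSurjective] at h1
    exact h1.trans ((Subgroup.map_mono hAn).trans (Subgroup.le_normalizer_map π))
  have key := le_pCore_of_core_free hoddQ p hO (A.map π) hAbc hn
  intro a ha
  show π a ∈ Cfsg.pCore p (G ⧸ Cfsg.pPrimeCore p G)
  exact key (Subgroup.mem_map_of_mem π ha)

end Cfsg.Agent.S1457
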