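import Cfsg.Statements.S1460
import Mathlib
import Cfsg.Agent.S1496

set_option autoImplicit false
open Cfsg

namespace Cfsg.Agent.S1460

open Pointwise
open scoped commutatorElement

section

variable {G : Type*} [Group G] [Finite G]

/-- Part (3): the conjugation statement. -/
theorem part3 [Group.IsSolvable G] (K U H : Subgroup G) [K.Normal] (hKU : K ⊔ U = ⊤) (hH : H ≤ U)
    (hcop : (Nat.card H).Coprime (Nat.card K)) (g : G)
    (hg : ∀ h ∈ H, g * h * g⁻¹ ∈ U) :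
    ∃ u ∈ U, ∃ c ∈ K ⊓ Subgroup.centralizer (H : Set G), g = u * c := by
  -- g = u₀ * k₀
  have hgtop : g ∈ ((U ⊔ K : Subgroup G) : Set G) := by
    rw [sup_comm, hKU]
    exact Set.mem_univ g
  rw [Subgroup.mul_normal U K] at hgtop
  obtain ⟨u₀, hu₀, k₀, hk₀, hgk⟩ := Set.mem_mul.mp hgtop
  have hk₀H : ∀ h ∈ H, k₀ * h * k₀⁻¹ ∈ U := by
    intro h hh
    have := hg h hh
    rw [← hgk] at this
    have h2 : k₀ * h * k₀⁻¹ = u₀⁻¹ * (u₀ * k₀ * h * (u₀ * k₀)⁻¹) * u₀ := by group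
    rw [h2]
    exact U.mul_mem (U.mul_mem (U.inv_mem hu₀) this) hu₀
  set L := K ⊓ U with hL
  set M := L ⊔ H with hM
  set H' := MulAut.conj k₀ • H with hH'
  have hKN : ∀ x : G, x ∈ Subgroup.normalizer (K : Set G) := by
    intro x
    rw [Subgroup.normalizer_eq_top]
    exact Subgroup.mem_top x
  have hHL : H ≤ Subgroup.normalizer (L : Set G) := by
    intro h hh
    rw [Subgroup.mem_normalizer_iff]
    intro x
    constructor
    · rintro ⟨hxK, hxU⟩
      exact ⟨(Subgroup.mem_normalizer_iff.mp (hKN h) x).mp hxK,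
        U.mul_mem (U.mul_mem (hH hh) hxU) (U.inv_mem (hH hh))⟩
    · rintro ⟨hxK, hxU⟩
      refine ⟨(Subgroup.mem_normalizer_iff.mp (hKN h) x).mpr hxK, ?_⟩
      have : x = h⁻¹ * (h * x * h⁻¹) * h := by group
      rw [this]
      exact U.mul_mem (U.mul_mem (U.inv_mem (hH hh)) hxU) (hH hh)
  have hML : M ≤ Subgroup.normalizer (L : Set G) := sup_le Subgroup.le_normalizer hHL
  have hcardL : Nat.card L ∣ Nat.card K := Subgroup.card_dvd_of_le inf_le_left
  have hcopLH : (Nat.card L).Coprime (Nat.card H) :=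
    (Nat.Coprime.coprime_dvd_right hcardL hcop).symm
  have hdisj : L ⊓ H = ⊥ := (Subgroup.disjoint_of_coprime_natCard hcopLH).eq_bot
  have hcardM : Nat.card L * Nat.card H = Nat.card M :=
    (Cfsg.Agent.Lib.Helper54.card_sup_of_le_normalizer hHL hdisj).symm
  have hH'M : H' ≤ M := by
    intro y hy
    rw [hH', Cfsg.Agent.Lib.Helper54.mem_conj_smul_iff] at hy
    -- y = k₀ * h * k₀⁻¹ with h = k₀⁻¹ y k₀ ∈ H
    set h := k₀⁻¹ * y * k₀ with hh
    have hy' : y = k₀ * h * k₀⁻¹ := by rw [hh]; group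
    have hyU : y ∈ U := by rw [hy']; exact hk₀H h hy
    have h1 : y * h⁻¹ ∈ K := by
      have : y * h⁻¹ = k₀ * (h * k₀⁻¹ * h⁻¹) := by rw [hy']; group
      rw [this]
      exact K.mul_mem hk₀ ((Subgroup.mem_normalizer_iff.mp (hKN h) k₀⁻¹).mp (K.inv_mem hk₀))
    have h2 : y * h⁻¹ ∈ U := U.mul_mem hyU (U.inv_mem (hH hy))
    have : y = (y * h⁻¹) * h := by group
    rw [this]
    exact M.mul_mem (Subgroup.mem_sup_left ⟨h1, h2⟩) (Subgroup.mem_sup_right hy)
  have hsolv : Group.IsSolvable H := inferInstance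
  obtain ⟨l, hlL, hl⟩ := Cfsg.Agent.Lib.Helper54.sz_conj_rel M L H H' le_sup_left hML le_sup_right
    hH'M hcardM (Cfsg.Agent.Lib.Helper54.card_conj_smul k₀ H) hcopLH (Or.inl hsolv)
  -- c := l⁻¹ * k₀ normalizes H
  set c := l⁻¹ * k₀ with hc
  have hcK : c ∈ K := K.mul_mem (K.inv_mem hlL.1) hk₀
  have hcN : c ∈ Subgroup.normalizer (H : Set G) := by
    rw [Cfsg.Agent.Lib.Helper54.mem_normalizer_iff_conj_smul, hc, map_mul, mul_smul, ← hH', ← hl,
      ← mul_smul, ← map_mul, inv_mul_cancel, map_one, one_smul]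
  have hKH : K ⊓ H = ⊥ := (Subgroup.disjoint_of_coprime_natCard hcop.symm).eq_bot
  have hHK : H ≤ Subgroup.normalizer (K : Set G) := fun x _ => hKN x
  have hcC : c ∈ Subgroup.centralizer (H : Set G) :=
    Cfsg.Agent.Lib.Helper54.inf_normalizer_le_centralizer hHK hKH ⟨hcK, hcN⟩
  refine ⟨u₀ * l, U.mul_mem hu₀ hlL.2, c, ⟨hcK, hcC⟩, ?_⟩
  rw [← hgk, hc]
  group

omit [Finite G] in
/-- Part (1): `H ∩ G' ≤ U'`. -/
theorem part1 (K U H : Subgroup G) [K.Normal] (hKU : K ⊔ U = ⊤) (hH : H ≤ U)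
    (hcop : (Nat.card H).Coprime (Nat.card K)) : H ⊓ commutator G ≤ ⁅U, U⁆ := by
  -- every element of G is u * k
  have hdecomp : ∀ a : G, ∃ u ∈ U, ∃ k ∈ K, u * k = a := by
    intro a
    have hgtop : a ∈ ((U ⊔ K : Subgroup G) : Set G) := by
      rw [sup_comm, hKU]
      exact Set.mem_univ a
    rw [Subgroup.mul_normal U K] at hgtop
    obtain ⟨u₀, hu₀, k₀, hk₀, hgk⟩ := Set.mem_mul.mp hgtop
    exact ⟨u₀, hu₀, k₀, hk₀, hgk⟩
  -- G' ≤ K ⊔ U'
  have hG' : commutator G ≤ K ⊔ ⁅U, U⁆ := by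
    rw [commutator_def, Subgroup.commutator_le]
    intro a _ b _
    obtain ⟨u₁, hu₁, k₁, hk₁, rfl⟩ := hdecomp a
    obtain ⟨u₂, hu₂, k₂, hk₂, rfl⟩ := hdecomp b
    have hπ : ∀ (u k : G), k ∈ K → (QuotientGroup.mk' K) (u * k) = (QuotientGroup.mk' K) u := by
      intro u k hk
      rw [map_mul]
      have : (QuotientGroup.mk' K) k = 1 := by
        rw [QuotientGroup.mk'_apply]
        exact (QuotientGroup.eq_one_iff k).mpr hk
      rw [this, mul_one]
    have h1 : (QuotientGroup.mk' K) ⁅u₁ * k₁, u₂ * k₂⁆ = (QuotientGroup.mk' K) ⁅u₁, u₂⁆ := by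
      rw [map_commutatorElement, map_commutatorElement, hπ u₁ k₁ hk₁, hπ u₂ k₂ hk₂]
    have h2 : ⁅u₁, u₂⁆⁻¹ * ⁅u₁ * k₁, u₂ * k₂⁆ ∈ K := by
      rw [← QuotientGroup.eq]
      exact h1.symm
    have h3 : ⁅u₁ * k₁, u₂ * k₂⁆ = ⁅u₁, u₂⁆ * (⁅u₁, u₂⁆⁻¹ * ⁅u₁ * k₁, u₂ * k₂⁆) := by group
    rw [h3]
    exact mul_mem (Subgroup.mem_sup_right (Subgroup.commutator_mem_commutator hu₁ hu₂))
      (Subgroup.mem_sup_left h2)
  rintro x ⟨hxH, hxG'⟩
  have hx : x ∈ ((K ⊔ ⁅U, U⁆ : Subgroup G) : Set G) := hG' hxG'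
  rw [Subgroup.normal_mul K ⁅U, U⁆] at hx
  obtain ⟨k, hk, d, hd, hkd⟩ := Set.mem_mul.mp hx
  have hU'U : ⁅U, U⁆ ≤ U := Subgroup.commutator_le.mpr (fun a ha b hb =>
    U.mul_mem (U.mul_mem (U.mul_mem ha hb) (U.inv_mem ha)) (U.inv_mem hb))
  have hkU : k ∈ U := by
    have : k = x * d⁻¹ := by rw [← hkd]; group
    rw [this]
    exact U.mul_mem (hH hxH) (U.inv_mem (hU'U hd))
  -- U normalizes U'
  have hUN : U ≤ Subgroup.normalizer ((⁅U, U⁆ : Subgroup G) : Set G) := by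
    intro u hu
    rw [Subgroup.mem_normalizer_iff]
    intro y
    have key : ∀ (v : G), v ∈ U → ∀ z ∈ ⁅U, U⁆, v * z * v⁻¹ ∈ ⁅U, U⁆ := by
      intro v hv z hz
      have hcomm : ⁅v, z⁆ ∈ ⁅U, U⁆ := Subgroup.commutator_mem_commutator hv (hU'U hz)
      have : v * z * v⁻¹ = ⁅v, z⁆ * z := by rw [commutatorElement_def]; group
      rw [this]
      exact mul_mem hcomm hz
    constructor
    · exact key u hu y
    · intro hy
      have := key u⁻¹ (U.inv_mem hu) _ hy
      have e : u⁻¹ * (u * y * u⁻¹) * u⁻¹⁻¹ = y := by group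
      rwa [e] at this
  set b := Nat.card (K ⊓ U : Subgroup G) with hb
  -- x^b ∈ U'
  have hxb : x ^ b ∈ ⁅U, U⁆ := by
    have hkn : k ∈ Subgroup.normalizer ((⁅U, U⁆ : Subgroup G) : Set G) := hUN hkU
    have hkdk : k * d * k⁻¹ ∈ ⁅U, U⁆ := (Subgroup.mem_normalizer_iff.mp hkn d).mp hd
    have h1 := Cfsg.Agent.S1496.pow_mul_inv_pow_mem ⁅U, U⁆ k hkn (k * d * k⁻¹) hkdk b
    have h2 : k * d * k⁻¹ * k = x := by rw [← hkd]; group
    rw [h2] at h1
    have h3 : k ^ b = 1 := by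
      have : (⟨k, ⟨hk, hkU⟩⟩ : (K ⊓ U : Subgroup G)) ^ b = 1 := pow_card_eq_one'
      have := congrArg Subtype.val this
      simpa using this
    rwa [h3, inv_one, mul_one] at h1
  -- x^a = 1
  set a := Nat.card H with ha
  have hxa : x ^ a = 1 := by
    have : (⟨x, hxH⟩ : H) ^ a = 1 := pow_card_eq_one'
    have := congrArg Subtype.val this
    simpa using this
  have hab : Nat.Coprime a b :=
    Nat.Coprime.coprime_dvd_right (Subgroup.card_dvd_of_le inf_le_left) hcop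
  obtain ⟨e, he1, he2⟩ := Nat.chineseRemainder hab 1 0
  have hbe : b ∣ e := (Nat.modEq_zero_iff_dvd).mp he2
  obtain ⟨e', he'⟩ := hbe
  have hxe : x ^ e = x := by
    have h4 : orderOf x ∣ a := orderOf_dvd_of_pow_eq_one hxa
    have := pow_eq_pow_iff_modEq.mpr (he1.of_dvd h4)
    rwa [pow_one] at this
  rw [← hxe, he', pow_mul]
  exact Subgroup.pow_mem _ hxb e'

end

/-- Let G be a finite solvable group, K a normal subgroup and U a subgroup with G = KU, and H ≤ U a subgroup whose order is coprime to that of K. Then H ∩ G' = H ∩ U'; N_G(H) is generated by K ∩ C_G(H) and U ∩ N_G(H); and if gHg⁻¹ ≤ U for some g ∈ G then g = u c with u ∈ U and c ∈ K ∩ C_G(H). -/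
theorem result {G : Type*} [Group G] [Finite G] [Group.IsSolvable G] (K U H : Subgroup G) [K.Normal] (hKU : K ⊔ U = ⊤) (hH : H ≤ U) (hcop : (Nat.card H).Coprime (Nat.card K)) :
    H ⊓ commutator G = H ⊓ ⁅U, U⁆ ∧
      Subgroup.normalizer (H : Set G) = (K ⊓ Subgroup.centralizer (H : Set G)) ⊔ (U ⊓ Subgroup.normalizer (H : Set G)) ∧
      ∀ g : G, H.map (MulAut.conj g).toMonoidHom ≤ U → ∃ u ∈ U, ∃ c ∈ K ⊓ Subgroup.centralizer (H : Set G), g = u * c := by
  have hmap : ∀ g : G, H.map (MulAut.conj g).toMonoidHom ≤ U ↔ ∀ h ∈ H, g * h * g⁻¹ ∈ U := by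
    intro g
    constructor
    · intro hle h hh
      apply hle
      exact ⟨h, hh, rfl⟩
    · rintro hall y ⟨h, hh, rfl⟩
      exact hall h hh
  refine ⟨?_, ?_, ?_⟩
  · apply le_antisymm
    · exact le_inf inf_le_left (part1 K U H hKU hH hcop)
    · apply le_inf inf_le_left
      apply inf_le_right.trans
      rw [commutator_def]
      exact Subgroup.commutator_mono le_top le_top
  · apply le_antisymm
    · intro g hgN
      have hgU : ∀ h ∈ H, g * h * g⁻¹ ∈ U := fun h hh =>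
        hH ((Subgroup.mem_normalizer_iff.mp hgN h).mp hh)
      obtain ⟨u, hu, c, hc, rfl⟩ := part3 K U H hKU hH hcop g hgU
      have hcN : c ∈ Subgroup.normalizer (H : Set G) := Subgroup.centralizer_le_normalizer _ hc.2
      have huN : u ∈ Subgroup.normalizer (H : Set G) := by
        have : u = u * c * c⁻¹ := by group
        rw [this]
        exact (Subgroup.normalizer (H : Set G)).mul_mem hgN ((Subgroup.normalizer (H : Set G)).inv_mem hcN)
      exact mul_mem (Subgroup.mem_sup_right ⟨hu, huN⟩) (Subgroup.mem_sup_left hc)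
    · apply sup_le
      · exact inf_le_right.trans (Subgroup.centralizer_le_normalizer _)
      · exact inf_le_right
  · intro g hg
    exact part3 K U H hKU hH hcop g ((hmap g).mp hg)

end Cfsg.Agent.S1460
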