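import Mathlib
import Cfsg.Statements.S0638
import Cfsg.Agent.S0127
import Cfsg.Agent.Lib.Helper49.RankOneCyclic
-- import your own Cfsg.Agent.* helpers here

set_option autoImplicit false
open Cfsg

namespace Cfsg.Agent.S0638


/-- If all elements of order dividing `p` of a `p`-group (`p` odd) lie in a cyclic subgroup, the group
is cyclic. -/
lemma isCyclic_of_mem_cyclic {R : Type*} [Group R] [Finite R] {p : ℕ} [Fact p.Prime] (hp2 : p ≠ 2)
    (hR : IsPGroup p R) (M : Subgroup R) (hM : IsCyclic M) (h : ∀ x : R, x ^ p = 1 → x ∈ M) :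
    IsCyclic R := by
  have hpp : p.Prime := Fact.out
  apply Cfsg.Agent.Lib.Helper49.isCyclic_of_pRankLE_one hp2 hR
  intro A _ hexp
  rw [pow_one]
  have hAM : A ≤ M := fun a ha => h a (hexp a ha)
  have hcyc : IsCyclic (A.subgroupOf M) := inferInstance
  have hcard : Nat.card (A.subgroupOf M) = Nat.card A :=
    Nat.card_congr (Subgroup.subgroupOfEquivOfLe hAM).toEquiv
  obtain ⟨g, hg⟩ := hcyc.exists_generator
  have hord : orderOf g = Nat.card (A.subgroupOf M) := orderOf_eq_card_of_forall_mem_zpowers hg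
  have hgp : g ^ p = 1 := by
    apply Subtype.ext
    apply Subtype.ext
    have : ((g : ↥M) : R) ∈ A := g.2
    simpa using hexp _ this
  have hdvd : orderOf g ∣ p := orderOf_dvd_of_pow_eq_one hgp
  rw [← hcard, ← hord]
  exact Nat.le_of_dvd hpp.pos hdvd
/-- For odd p, in a non-cyclic metacyclic p-group the elements of order dividing p generate an elementary abelian subgroup of order p². -/
theorem result {R : Type*} [Group R] [Finite R] {p : ℕ} [Fact p.Prime] (hp : p ≠ 2) (hR : IsPGroup p R) (hm : Cfsg.IsMetacyclic R) (hnc : ¬ IsCyclic R) : Cfsg.IsElementaryAbelian p (Cfsg.omegaOne p (⊤ : Subgroup R)) ∧ Nat.card ↥(Cfsg.omegaOne p (⊤ : Subgroup R)) = p ^ 2 := by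
  have hpp : p.Prime := Fact.out
  obtain ⟨N, hNn, hNc, hQc⟩ := hm
  -- elements of `R ⧸ N` commute
  have hQcomm : ∀ a b : R ⧸ N, Commute a b := by
    intro a b
    obtain ⟨g, hg⟩ := hQc.exists_generator
    obtain ⟨i, rfl⟩ := Subgroup.mem_zpowers_iff.mp (hg a)
    obtain ⟨j, rfl⟩ := Subgroup.mem_zpowers_iff.mp (hg b)
    exact Commute.zpow_zpow_self g i j
  -- the subgroup of elements of order dividing `p` in the quotient
  let Ω : Subgroup (R ⧸ N) :=
    { carrier := {q | q ^ p = 1}
      mul_mem' := by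
        intro a b ha hb
        show (a * b) ^ p = 1
        rw [(hQcomm a b).mul_pow, show a ^ p = 1 from ha, show b ^ p = 1 from hb, one_mul]
      one_mem' := one_pow p
      inv_mem' := by
        intro a ha
        show a⁻¹ ^ p = 1
        rw [inv_pow, show a ^ p = 1 from ha, inv_one] }
  have hΩmem : ∀ q, q ∈ Ω ↔ q ^ p = 1 := fun q => Iff.rfl
  set M : Subgroup R := Ω.comap (QuotientGroup.mk' N) with hMdef
  have hTM : ∀ x : R, x ^ p = 1 → x ∈ M := by
    intro x hx
    rw [hMdef, Subgroup.mem_comap, hΩmem, ← map_pow, hx, map_one]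
  have hNM : N ≤ M := by
    intro x hx
    rw [hMdef, Subgroup.mem_comap, hΩmem]
    have : QuotientGroup.mk' N x = 1 := (QuotientGroup.eq_one_iff x).mpr hx
    rw [this, one_pow]
  -- card M = card Ω * card N
  have hsurj : Function.Surjective (QuotientGroup.mk' N) := QuotientGroup.mk'_surjective N
  have hcardM : Nat.card M = Nat.card Ω * Nat.card N := by
    have h1 := Subgroup.index_comap_of_surjective Ω hsurj
    have h2 := M.card_mul_index
    have h3 := Ω.card_mul_index
    have h4 := Subgroup.card_eq_card_quotient_mul_card_subgroup N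
    rw [hMdef] at h2
    rw [h1] at h2
    have hidx : 0 < Ω.index := Nat.pos_of_ne_zero Subgroup.index_ne_zero_of_finite
    have : Nat.card (Ω.comap (QuotientGroup.mk' N)) * Ω.index = (Nat.card Ω * Nat.card N) * Ω.index := by
      rw [h2, h4, ← h3]; ring
    exact Nat.eq_of_mul_eq_mul_right hidx this
  -- card Ω ∣ p
  have hΩcard : Nat.card Ω ∣ p := by
    have hcyc : IsCyclic Ω := inferInstance
    obtain ⟨g, hg⟩ := hcyc.exists_generator
    rw [← orderOf_eq_card_of_forall_mem_zpowers hg]
    apply orderOf_dvd_of_pow_eq_one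
    apply Subtype.ext
    have := (hΩmem _).mp g.2
    simpa using this
  rcases (Nat.dvd_prime hpp).mp hΩcard with h1 | h1
  · -- `M = N` cyclic
    exfalso
    rw [h1, one_mul] at hcardM
    have hMN : N = M := Subgroup.eq_of_le_of_card_ge hNM hcardM.le
    apply hnc
    exact isCyclic_of_mem_cyclic hp hR N hNc (fun x hx => hMN ▸ hTM x hx)
  · -- index `p`
    rw [h1] at hcardM
    have hMnc : ¬ IsCyclic M := fun hMc => hnc (isCyclic_of_mem_cyclic hp hR M hMc hTM)
    have hC : IsCyclic (N.subgroupOf M) := by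
      have e : N.subgroupOf M ≃* N := Subgroup.subgroupOfEquivOfLe hNM
      exact isCyclic_of_surjective e.symm e.symm.surjective
    have hCi : (N.subgroupOf M).index = p := by
      have h1' := (N.subgroupOf M).card_mul_index
      have h2 : Nat.card (N.subgroupOf M) = Nat.card N :=
        Nat.card_congr (Subgroup.subgroupOfEquivOfLe hNM).toEquiv
      rw [h2, hcardM, mul_comm] at h1'
      exact Nat.eq_of_mul_eq_mul_right Nat.card_pos h1'
    obtain ⟨⟨hΩc, hΩe⟩, hΩcard'⟩ :=
      Cfsg.Agent.S0127.result hp (hR.to_subgroup M) hMnc (N.subgroupOf M) hC hCi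
    have hmap : Cfsg.omegaOne p (⊤ : Subgroup R) =
        (Subgroup.closure {x : ↥M | x ^ p = 1}).map M.subtype := by
      unfold Cfsg.omegaOne
      rw [MonoidHom.map_closure]
      congr 1
      ext x
      constructor
      · rintro ⟨-, hx⟩
        exact ⟨⟨x, hTM x hx⟩, Subtype.ext (by simpa using hx), rfl⟩
      · rintro ⟨y, hy, rfl⟩
        refine ⟨Subgroup.mem_top _, ?_⟩
        have := congrArg Subtype.val (show y ^ p = 1 from hy)
        simpa using this
    rw [hmap]
    refine ⟨⟨⟨⟨fun a b => ?_⟩⟩, ?_⟩, ?_⟩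
    · obtain ⟨a, ha⟩ := a
      obtain ⟨b, hb⟩ := b
      obtain ⟨a', ha', rfl⟩ := ha
      obtain ⟨b', hb', rfl⟩ := hb
      apply Subtype.ext
      have := hΩc.is_comm.comm ⟨a', ha'⟩ ⟨b', hb'⟩
      have h2 := congrArg Subtype.val this
      have h3 := congrArg Subtype.val h2
      simpa using h3
    · rintro _ ⟨x, hx, rfl⟩
      have := hΩe x hx
      have h2 := congrArg Subtype.val this
      simpa using h2
    · rw [Subgroup.card_map_of_injective M.subtype_injective]
      exact hΩcard'

end Cfsg.Agent.S0638
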