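import Cfsg.Statements.S1447
import Mathlib
import Cfsg.Agent.Lib.Helper24.Metacyclic
import Cfsg.Agent.S0026
import Cfsg.Agent.S0027
import Cfsg.Agent.S0055
import Cfsg.Agent.S0638
-- import your own Cfsg.Agent.* helpers here

set_option autoImplicit false
open Cfsg

namespace Cfsg.Agent.S1447

open Cfsg.Agent.Lib.Helper24
open scoped commutatorElement

/-- A nontrivial `p`-subgroup contains an element of order `p`. -/
theorem exists_mem_pow_eq_one_ne_one {G : Type*} [Group G] [Finite G] (p : ℕ) [hp : Fact p.Prime]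
    (H : Subgroup G) (hH : IsPGroup p H) (hne : H ≠ ⊥) : ∃ z ∈ H, z ≠ 1 ∧ z ^ p = 1 := by
  obtain ⟨k, hk⟩ := hH.exists_card_eq
  have hk0 : k ≠ 0 := by
    rintro rfl
    rw [pow_zero, Subgroup.card_eq_one] at hk
    exact hne hk
  have hdvd : p ∣ Nat.card H := by rw [hk]; exact dvd_pow_self p hk0
  obtain ⟨x, hx⟩ := exists_prime_orderOf_dvd_card' p hdvd
  refine ⟨x, x.2, ?_, ?_⟩
  · intro h
    have h1 : x = 1 := Subtype.ext h
    rw [h1, orderOf_one] at hx
    exact hp.out.one_lt.ne hx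
  · have h1 := pow_orderOf_eq_one x
    rw [hx] at h1
    have h2 := congrArg Subtype.val h1
    simpa using h2

/-- In a metacyclic `p`-group `R` (`p` odd), a non-cyclic subgroup contains every element of `R` of
order dividing `p`. -/
theorem mem_of_pow_eq_one_of_not_isCyclic {G : Type*} [Group G] [Finite G] (p : ℕ)
    [hp : Fact p.Prime] (hp2 : p ≠ 2) (R H : Subgroup G) (hR : IsPGroup p R)
    (hRm : Cfsg.IsMetacyclic R) (hHR : H ≤ R) (hHnc : ¬ IsCyclic H) (z : G) (hz : z ∈ R)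
    (hzp : z ^ p = 1) : z ∈ H := by
  have hRnc : ¬ IsCyclic R := fun h => hHnc (Subgroup.isCyclic_of_le hHR)
  have hHm : Cfsg.IsMetacyclic H :=
    isMetacyclic_of_injective (Subgroup.inclusion hHR) (Subgroup.inclusion_injective hHR) hRm
  obtain ⟨-, hcR⟩ := Cfsg.Agent.S0638.result hp2 hR hRm hRnc
  obtain ⟨-, hcH⟩ := Cfsg.Agent.S0638.result hp2 (hR.to_le hHR) hHm hHnc
  have hle : (Cfsg.omegaOne p (⊤ : Subgroup H)).map H.subtype ≤
      (Cfsg.omegaOne p (⊤ : Subgroup R)).map R.subtype := by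
    rw [Subgroup.map_le_iff_le_comap]
    unfold Cfsg.omegaOne
    rw [Subgroup.closure_le]
    rintro x ⟨-, hx⟩
    refine ⟨⟨x, hHR x.2⟩, Subgroup.subset_closure ⟨Subgroup.mem_top _, ?_⟩, rfl⟩
    apply Subtype.ext
    have := congrArg Subtype.val hx
    simpa using this
  have hcardR : Nat.card ((Cfsg.omegaOne p (⊤ : Subgroup R)).map R.subtype) = p ^ 2 := by
    rw [Subgroup.card_map_of_injective R.subtype_injective, hcR]
  have hcardH : Nat.card ((Cfsg.omegaOne p (⊤ : Subgroup H)).map H.subtype) = p ^ 2 := by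
    rw [Subgroup.card_map_of_injective H.subtype_injective, hcH]
  have heq := Subgroup.eq_of_le_of_card_ge hle (by rw [hcardR, hcardH])
  have hzR : z ∈ (Cfsg.omegaOne p (⊤ : Subgroup R)).map R.subtype := by
    refine ⟨⟨z, hz⟩, Subgroup.subset_closure ⟨Subgroup.mem_top _, ?_⟩, rfl⟩
    apply Subtype.ext
    simpa using hzp
  rw [← heq] at hzR
  exact Subgroup.map_subtype_le _ hzR

/-- `R` normalizes `⁅R, A⁆`. -/
theorem le_normalizer_commutator_left {G : Type*} [Group G] (R A : Subgroup G) :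
    R ≤ Subgroup.normalizer ((⁅R, A⁆ : Subgroup G) : Set G) := by
  have key : ∀ r ∈ R, ∀ k ∈ ⁅R, A⁆, r * k * r⁻¹ ∈ ⁅R, A⁆ := by
    intro r hr
    have hle : ⁅R, A⁆ ≤ (⁅R, A⁆).comap (MulAut.conj r).toMonoidHom := by
      rw [Subgroup.commutator_le]
      intro r' hr' a ha
      show r * ⁅r', a⁆ * r⁻¹ ∈ ⁅R, A⁆
      have e : r * ⁅r', a⁆ * r⁻¹ = ⁅r * r', a⁆ * ⁅r, a⁆⁻¹ := by
        simp only [commutatorElement_def]; group
      rw [e]
      exact mul_mem (Subgroup.commutator_mem_commutator (R.mul_mem hr hr') ha)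
        (inv_mem (Subgroup.commutator_mem_commutator hr ha))
    exact fun k hk => hle hk
  intro r hr
  rw [Subgroup.mem_normalizer_iff]
  intro k
  constructor
  · exact key r hr k
  · intro h
    have := key r⁻¹ (R.inv_mem hr) _ h
    rw [inv_inv] at this
    have e : r⁻¹ * (r * k * r⁻¹) * r = k := by group
    rwa [e] at this

/-- Let G be a finite group, p an odd prime, R a metacyclic p-subgroup and A a subgroup of order coprime to p normalizing R. Then [R, A] is abelian; R is generated by [R, A] and R ∩ C_G(A), which meet trivially; and if R is non-abelian and A does not centralize R, then [R, A] and R ∩ C_G(A) are nontrivial cyclic groups and [R, R] ≤ [R, A]. -/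
theorem result {G : Type*} [Group G] [Finite G] (p : ℕ) [Fact p.Prime] (hp : p ≠ 2) (R A : Subgroup G) (hR : IsPGroup p R) (hRm : Cfsg.IsMetacyclic R)
    (hA : (A ≤ Subgroup.normalizer (R : Set G))) (hcop : (Nat.card A).Coprime p) :
    IsMulCommutative ↥⁅R, A⁆ ∧ ⁅R, A⁆ ⊔ (R ⊓ Subgroup.centralizer (A : Set G)) = R ∧ ⁅R, A⁆ ⊓ (R ⊓ Subgroup.centralizer (A : Set G)) = ⊥ ∧
      (¬ IsMulCommutative R → ¬ A ≤ Subgroup.centralizer (R : Set G) →
        ⁅R, A⁆ ≠ ⊥ ∧ IsCyclic ↥⁅R, A⁆ ∧ (R ⊓ Subgroup.centralizer (A : Set G)) ≠ ⊥ ∧ IsCyclic ↥(R ⊓ Subgroup.centralizer (A : Set G)) ∧ ⁅R, R⁆ ≤ ⁅R, A⁆) := by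
  have hpp : p.Prime := Fact.out
  have hKR : ⁅R, A⁆ ≤ R := comm_le_left_of_le_normalizer R A hA
  have hAK : A ≤ Subgroup.normalizer ((⁅R, A⁆ : Subgroup G) : Set G) :=
    le_normalizer_comm_of_le_normalizer A R A hA Subgroup.le_normalizer
  have hRK : R ≤ Subgroup.normalizer ((⁅R, A⁆ : Subgroup G) : Set G) :=
    le_normalizer_commutator_left R A
  obtain ⟨e, he⟩ := hR.exists_card_eq
  have hcopR : (Nat.card A).Coprime (Nat.card R) := by
    rw [he]; exact Nat.Coprime.pow_right _ hcop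
  have hsolvR : Group.IsSolvable R := by
    have : Group.IsNilpotent R := hR.isNilpotent
    infer_instance
  have h26 := Cfsg.Agent.S0026.result A R hA hcopR (Or.inr hsolvR)
  have h27 := Cfsg.Agent.S0027.result A R hA hcopR (Or.inr hsolvR)
  have hKp : IsPGroup p ↥⁅R, A⁆ := hR.to_le hKR
  have hKm : Cfsg.IsMetacyclic ↥⁅R, A⁆ :=
    isMetacyclic_of_injective (Subgroup.inclusion hKR) (Subgroup.inclusion_injective hKR) hRm
  -- the action of `A` on `K = ⁅R, A⁆`
  let φ : ↥A →* MulAut ↥⁅R, A⁆ :=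
    (Subgroup.normalizerMonoidHom ⁅R, A⁆).comp (Subgroup.inclusion hAK)
  have hφ : ∀ (a : A) (k : ↥⁅R, A⁆), ((φ a k : ↥⁅R, A⁆) : G) = (a : G) * (k : G) * (a : G)⁻¹ :=
    fun a k => rfl
  have hgen : Subgroup.closure {k : ↥⁅R, A⁆ | ∃ a y, k = φ a y * y⁻¹} = ⊤ := by
    rw [eq_top_iff]
    have hle : ⁅⁅R, A⁆, A⁆ ≤
        (Subgroup.closure {k : ↥⁅R, A⁆ | ∃ a y, k = φ a y * y⁻¹}).map (⁅R, A⁆).subtype := by
      rw [Subgroup.commutator_le]
      intro k hk a ha
      have h1 : ⁅k, a⁆⁻¹ ∈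
          (Subgroup.closure {k : ↥⁅R, A⁆ | ∃ a y, k = φ a y * y⁻¹}).map (⁅R, A⁆).subtype := by
        refine ⟨φ ⟨a, ha⟩ ⟨k, hk⟩ * (⟨k, hk⟩ : ↥⁅R, A⁆)⁻¹,
          Subgroup.subset_closure ⟨⟨a, ha⟩, ⟨k, hk⟩, rfl⟩, ?_⟩
        rw [commutatorElement_inv, commutatorElement_def]
        simp [hφ]
      have h2 := inv_mem h1
      rwa [inv_inv] at h2
    rintro x -
    have hx : (x : G) ∈ ⁅⁅R, A⁆, A⁆ := by rw [h27]; exact x.2
    obtain ⟨y, hy, hyx⟩ := hle hx
    have : y = x := Subtype.ext hyx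
    rw [← this]
    exact hy
  have hcomm : ∀ x y : ↥⁅R, A⁆, x * y = y * x :=
    comm_of_metacyclic_of_coprime_action p hp hKp hKm φ hcop hgen
  have hKc : IsMulCommutative ↥⁅R, A⁆ := ⟨⟨hcomm⟩⟩
  -- trivial intersection
  have hcopK : (Nat.card A).Coprime (Nat.card ↥⁅R, A⁆) := by
    obtain ⟨e', he'⟩ := hKp.exists_card_eq
    rw [he']; exact Nat.Coprime.pow_right _ hcop
  have h55 := (Cfsg.Agent.S0055.result A ⁅R, A⁆ hAK hcopK).1
  rw [h27] at h55
  have hKC : ⁅R, A⁆ ⊓ (R ⊓ Subgroup.centralizer (A : Set G)) = ⊥ := by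
    rw [eq_bot_iff, ← h55]
    exact le_inf (le_inf inf_le_left (inf_le_right.trans inf_le_right)) inf_le_left
  refine ⟨hKc, h26, hKC, ?_⟩
  intro hRnc hAnc
  have hKne : ⁅R, A⁆ ≠ ⊥ := by
    intro h
    apply hAnc
    exact Subgroup.le_centralizer_iff.mp (Subgroup.commutator_eq_bot_iff_le_centralizer.mp h)
  have hCne : R ⊓ Subgroup.centralizer (A : Set G) ≠ ⊥ := by
    intro h
    apply hRnc
    rw [h, sup_bot_eq] at h26
    rw [← h26]
    exact hKc
  have hCR : R ⊓ Subgroup.centralizer (A : Set G) ≤ R := inf_le_left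
  have hKcyc : IsCyclic ↥⁅R, A⁆ := by
    by_contra hnc
    obtain ⟨z, hzC, hz1, hzp⟩ :=
      exists_mem_pow_eq_one_ne_one p _ (hR.to_le hCR) hCne
    have hzK := mem_of_pow_eq_one_of_not_isCyclic p hp R ⁅R, A⁆ hR hRm hKR hnc z (hCR hzC) hzp
    have : z ∈ ⁅R, A⁆ ⊓ (R ⊓ Subgroup.centralizer (A : Set G)) := ⟨hzK, hzC⟩
    rw [hKC, Subgroup.mem_bot] at this
    exact hz1 this
  have hCcyc : IsCyclic ↥(R ⊓ Subgroup.centralizer (A : Set G)) := by
    by_contra hnc
    obtain ⟨z, hzK, hz1, hzp⟩ := exists_mem_pow_eq_one_ne_one p _ hKp hKne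
    have hzC := mem_of_pow_eq_one_of_not_isCyclic p hp R _ hR hRm hCR hnc z (hKR hzK) hzp
    have : z ∈ ⁅R, A⁆ ⊓ (R ⊓ Subgroup.centralizer (A : Set G)) := ⟨hzK, hzC⟩
    rw [hKC, Subgroup.mem_bot] at this
    exact hz1 this
  refine ⟨hKne, hKcyc, hCne, hCcyc, ?_⟩
  -- `⁅R, R⁆ ≤ ⁅R, A⁆`
  have hN : ((⁅R, A⁆ : Subgroup G).subgroupOf R).Normal :=
    (Subgroup.normal_subgroupOf_iff_le_normalizer hKR).mpr hRK
  have hsup : (⁅R, A⁆ : Subgroup G).subgroupOf R ⊔
      (R ⊓ Subgroup.centralizer (A : Set G)).subgroupOf R = ⊤ := by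
    rw [← Subgroup.subgroupOf_sup hKR hCR, h26, Subgroup.subgroupOf_self]
  have hCc : IsMulCommutative ↥((R ⊓ Subgroup.centralizer (A : Set G)).subgroupOf R) :=
    inferInstance
  have hle := hN.commutator_le_of_self_sup_commutative_eq_top hsup hCc
  have h1 := Subgroup.map_mono (f := R.subtype) hle
  rw [Subgroup.map_subtype_commutator, Subgroup.subgroupOf_map_subtype] at h1
  exact h1.trans inf_le_left

end Cfsg.Agent.S1447
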