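import Cfsg.Statements.S1459
import Mathlib
import Cfsg.Agent.Lib.Helper24.RankTwo
import Cfsg.Agent.Lib.Helper24.FittingStructure2
import Cfsg.Agent.S1447
import Cfsg.Agent.S0055
import Cfsg.Agent.S0012
-- import your own Cfsg.Agent.* helpers here

set_option autoImplicit false
open Cfsg

namespace Cfsg.Agent.S1459

open Cfsg.Agent.Lib.Helper24
open scoped commutatorElement

/-- A perfect solvable group is trivial. -/
theorem subsingleton_of_commutator_eq_top {Q : Type*} [Group Q] [hs : Group.IsSolvable Q]
    (h : commutator Q = ⊤) : Subsingleton Q := by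
  obtain ⟨n, hn⟩ := hs.solvable
  have hall : ∀ k, derivedSeries Q k = ⊤ := by
    intro k
    induction k with
    | zero => rfl
    | succ k ih => rw [derivedSeries_succ, ih, ← commutator_def, h]
  rw [hall n] at hn
  have : Subsingleton (Subgroup Q) := subsingleton_of_bot_eq_top hn.symm
  exact Subgroup.subsingleton_iff.mp this

/-- Part (a). -/
theorem part_a {G : Type*} [Group G] [Finite G] [Group.IsSolvable G] (H K : Subgroup G)
    (hHn : H.Normal) (hcop : (Nat.card H).Coprime H.index) (hc : Subgroup.IsComplement' H K)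
    (hHG : H ≤ commutator G) :
    H = ⁅H, K⁆ ∧ H ⊓ Subgroup.centralizer (K : Set G) ≤ ⁅H, H⁆ := by
  have hKcard : Nat.card K = H.index := by
    have h1 := hc.card_mul_card
    have h2 := H.card_mul_index
    exact Nat.eq_of_mul_eq_mul_left Nat.card_pos (h1.trans h2.symm)
  have hcopHK : (Nat.card H).Coprime (Nat.card K) := by rw [hKcard]; exact hcop
  have hsup : H ⊔ K = ⊤ := hc.sup_eq_top
  have hKH : K ≤ Subgroup.normalizer (H : Set G) := by
    rw [Subgroup.normalizer_eq_top]; exact le_top
  have hNH : ⁅H, K⁆ ≤ H := comm_le_left_of_le_normalizer H K hKH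
  have hNn : (⁅H, K⁆ : Subgroup G).Normal := by
    rw [← Subgroup.normalizer_eq_top_iff, eq_top_iff, ← hsup]
    exact sup_le (Cfsg.Agent.S1447.le_normalizer_commutator_left H K)
      (le_normalizer_comm_of_le_normalizer K H K hKH Subgroup.le_normalizer)
  have hHHn : (⁅H, H⁆ : Subgroup G).Normal := Subgroup.commutator_normal H H
  -- first step: `H = ⁅H, H⁆ ⊔ ⁅H, K⁆`
  have hstep1 : H ≤ ⁅H, H⁆ ⊔ ⁅H, K⁆ := by
    set N₁ : Subgroup G := ⁅H, H⁆ ⊔ ⁅H, K⁆ with hN₁
    have hN₁n : N₁.Normal := Subgroup.sup_normal _ _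
    have hcenH : H.map (QuotientGroup.mk' N₁) ≤ Subgroup.center (G ⧸ N₁) := by
      rintro _ ⟨h, hh, rfl⟩
      have hle : (⊤ : Subgroup G) ≤
          (Subgroup.centralizer ({QuotientGroup.mk' N₁ h} : Set (G ⧸ N₁))).comap
            (QuotientGroup.mk' N₁) := by
        rw [← hsup]
        apply sup_le
        · intro h' hh'
          rw [Subgroup.mem_comap, Subgroup.mem_centralizer_iff]
          rintro _ rfl
          show QuotientGroup.mk' N₁ h * QuotientGroup.mk' N₁ h' =
            QuotientGroup.mk' N₁ h' * QuotientGroup.mk' N₁ h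
          rw [← map_mul, ← map_mul, QuotientGroup.mk'_apply, QuotientGroup.mk'_apply,
            QuotientGroup.eq]
          have e : (h * h')⁻¹ * (h' * h) = ⁅h'⁻¹, h⁻¹⁆ := by rw [commutatorElement_def]; group
          rw [e]
          exact (le_sup_left : ⁅H, H⁆ ≤ N₁)
            (Subgroup.commutator_mem_commutator (H.inv_mem hh') (H.inv_mem hh))
        · intro k hk
          rw [Subgroup.mem_comap, Subgroup.mem_centralizer_iff]
          rintro _ rfl
          show QuotientGroup.mk' N₁ h * QuotientGroup.mk' N₁ k =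
            QuotientGroup.mk' N₁ k * QuotientGroup.mk' N₁ h
          rw [← map_mul, ← map_mul, QuotientGroup.mk'_apply, QuotientGroup.mk'_apply,
            QuotientGroup.eq]
          have e : (h * k)⁻¹ * (k * h) = (⁅h⁻¹, k⁻¹⁆)⁻¹ := by rw [commutatorElement_def]; group
          rw [e]
          exact (le_sup_right : ⁅H, K⁆ ≤ N₁)
            (inv_mem (Subgroup.commutator_mem_commutator (H.inv_mem hh) (K.inv_mem hk)))
      rw [Subgroup.mem_center_iff]
      intro q
      obtain ⟨g, rfl⟩ := QuotientGroup.mk'_surjective N₁ q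
      have := hle (Subgroup.mem_top g)
      rw [Subgroup.mem_comap, Subgroup.mem_centralizer_iff] at this
      exact (this _ rfl).symm
    have htop : H.map (QuotientGroup.mk' N₁) ⊔ K.map (QuotientGroup.mk' N₁) = ⊤ := by
      rw [← Subgroup.map_sup, hsup, Subgroup.map_top_of_surjective _ (QuotientGroup.mk'_surjective N₁)]
    have hKn : (K.map (QuotientGroup.mk' N₁)).Normal := by
      rw [← Subgroup.normalizer_eq_top_iff, eq_top_iff, ← htop]
      exact sup_le (hcenH.trans (Subgroup.center_le_normalizer _)) Subgroup.le_normalizer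
    have hHc : IsMulCommutative ↥(H.map (QuotientGroup.mk' N₁)) :=
      ⟨⟨fun a b => Subtype.ext ((Subgroup.mem_center_iff.mp (hcenH a.2) b).symm)⟩⟩
    have hle := hKn.commutator_le_of_self_sup_commutative_eq_top (by rw [sup_comm]; exact htop) hHc
    have hHle : H.map (QuotientGroup.mk' N₁) ≤ commutator (G ⧸ N₁) := by
      refine (Subgroup.map_mono hHG).trans ?_
      rw [commutator_def, Subgroup.map_commutator, commutator_def]
      exact Subgroup.commutator_mono le_top le_top
    have hdisj : H.map (QuotientGroup.mk' N₁) ⊓ K.map (QuotientGroup.mk' N₁) = ⊥ := by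
      apply Subgroup.inf_eq_bot_of_coprime
      exact Nat.Coprime.coprime_dvd_left (Subgroup.card_map_dvd H _)
        (Nat.Coprime.coprime_dvd_right (Subgroup.card_map_dvd K _) hcopHK)
    have hbot : H.map (QuotientGroup.mk' N₁) = ⊥ := by
      rw [eq_bot_iff, ← hdisj]
      exact le_inf le_rfl (hHle.trans hle)
    rw [Subgroup.map_eq_bot_iff, QuotientGroup.ker_mk'] at hbot
    exact hbot
  -- second step: `H = ⁅H, K⁆` by solvability
  have hstep2 : H ≤ ⁅H, K⁆ := by
    have hN'n : ((⁅H, K⁆ : Subgroup G).subgroupOf H).Normal := inferInstance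
    have hsup' : commutator ↥H ⊔ (⁅H, K⁆ : Subgroup G).subgroupOf H = ⊤ := by
      have h1 : (⁅H, H⁆ : Subgroup G).subgroupOf H = commutator ↥H := by
        rw [← Subgroup.map_subtype_commutator]
        exact Subgroup.comap_map_eq_self_of_injective H.subtype_injective _
      rw [← h1, ← Subgroup.subgroupOf_sup (comm_self_le H) hNH, Subgroup.subgroupOf_eq_top]
      exact hstep1
    have hperf : commutator (↥H ⧸ (⁅H, K⁆ : Subgroup G).subgroupOf H) = ⊤ := by
      have h2 := congrArg (Subgroup.map (QuotientGroup.mk' ((⁅H, K⁆ : Subgroup G).subgroupOf H))) hsup'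
      rw [Subgroup.map_sup, Subgroup.map_top_of_surjective _ (QuotientGroup.mk'_surjective _)] at h2
      have h3 : ((⁅H, K⁆ : Subgroup G).subgroupOf H).map
          (QuotientGroup.mk' ((⁅H, K⁆ : Subgroup G).subgroupOf H)) = ⊥ := by
        rw [Subgroup.map_eq_bot_iff, QuotientGroup.ker_mk']
      rw [h3, sup_bot_eq] at h2
      rw [eq_top_iff, ← h2, commutator_def, Subgroup.map_commutator, commutator_def]
      exact Subgroup.commutator_mono le_top le_top
    have hsub := subsingleton_of_commutator_eq_top hperf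
    have := QuotientGroup.subgroup_eq_top_of_subsingleton _ hsub
    rwa [Subgroup.subgroupOf_eq_top] at this
  refine ⟨le_antisymm hstep2 hNH, ?_⟩
  -- fixed points lie in the derived subgroup
  set D : Subgroup G := ⁅H, H⁆ with hD
  have hVA : K.map (QuotientGroup.mk' D) ≤
      Subgroup.normalizer ((H.map (QuotientGroup.mk' D) : Subgroup (G ⧸ D)) : Set (G ⧸ D)) := by
    have : (H.map (QuotientGroup.mk' D)).Normal :=
      hHn.map _ (QuotientGroup.mk'_surjective D)
    rw [Subgroup.normalizer_eq_top]
    exact le_top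
  have hVc : IsMulCommutative ↥(H.map (QuotientGroup.mk' D)) := by
    refine ⟨⟨?_⟩⟩
    rintro ⟨_, ⟨a, ha, rfl⟩⟩ ⟨_, ⟨b, hb, rfl⟩⟩
    apply Subtype.ext
    show QuotientGroup.mk' D a * QuotientGroup.mk' D b = QuotientGroup.mk' D b * QuotientGroup.mk' D a
    rw [← map_mul, ← map_mul, QuotientGroup.mk'_apply, QuotientGroup.mk'_apply, QuotientGroup.eq]
    have e : (a * b)⁻¹ * (b * a) = ⁅b⁻¹, a⁻¹⁆ := by rw [commutatorElement_def]; group
    rw [e]
    exact Subgroup.commutator_mem_commutator (H.inv_mem hb) (H.inv_mem ha)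
  have hcop' : (Nat.card ↥(K.map (QuotientGroup.mk' D))).Coprime
      (Nat.card ↥(H.map (QuotientGroup.mk' D))) :=
    Nat.Coprime.coprime_dvd_left (Subgroup.card_map_dvd K _)
      (Nat.Coprime.coprime_dvd_right (Subgroup.card_map_dvd H _) hcopHK.symm)
  have h55 := (Cfsg.Agent.S0055.result (K.map (QuotientGroup.mk' D)) (H.map (QuotientGroup.mk' D))
    hVA hcop').1
  rw [← Subgroup.map_commutator, ← le_antisymm hstep2 hNH] at h55
  intro h hh
  rw [← QuotientGroup.eq_one_iff, ← Subgroup.mem_bot, ← h55]
  have hmem : QuotientGroup.mk' D h ∈ Subgroup.centralizer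
      ((K.map (QuotientGroup.mk' D) : Subgroup (G ⧸ D)) : Set (G ⧸ D)) := by
    rw [Subgroup.mem_centralizer_iff]
    rintro _ ⟨k, hk, rfl⟩
    have := Subgroup.mem_centralizer_iff.mp hh.2 k hk
    rw [← map_mul, ← map_mul, this]
  exact ⟨⟨⟨h, hh.1, rfl⟩, hmem⟩, ⟨h, hh.1, rfl⟩⟩


/-- A finite `p`-group whose derived subgroup has index dividing `p` is abelian. -/
theorem commutator_eq_bot_of_index_dvd {P : Type*} [Group P] [Finite P] (p : ℕ) [hp : Fact p.Prime]
    (hP : IsPGroup p P) (hidx : (commutator P).index ∣ p) : commutator P = ⊥ := by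
  have hcyc : IsCyclic (P ⧸ commutator P) := by
    have hcard : Nat.card (P ⧸ commutator P) = (commutator P).index := rfl
    rcases (Nat.dvd_prime hp.out).mp hidx with h1 | h1
    · have : Subsingleton (P ⧸ commutator P) :=
        (Nat.card_eq_one_iff_unique.mp (hcard.trans h1)).1
      infer_instance
    · exact isCyclic_of_prime_card (hcard.trans h1)
  obtain ⟨q, hq⟩ := hcyc.exists_generator
  obtain ⟨x, rfl⟩ := QuotientGroup.mk_surjective q
  have h1 : Subgroup.zpowers x ⊔ commutator P = ⊤ := by
    rw [eq_top_iff]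
    intro g _
    obtain ⟨i, hi⟩ := Subgroup.mem_zpowers_iff.mp (hq (QuotientGroup.mk g))
    have h2 : (x ^ i)⁻¹ * g ∈ commutator P := by
      rw [← QuotientGroup.eq, QuotientGroup.mk_zpow]
      exact hi
    have e : g = x ^ i * ((x ^ i)⁻¹ * g) := by group
    rw [e]
    exact Subgroup.mul_mem_sup (Subgroup.zpow_mem_zpowers x i) h2
  have h2 : Subgroup.zpowers x ⊔ frattini P = ⊤ := by
    rw [eq_top_iff, ← h1]
    exact sup_le_sup_left (Cfsg.Agent.S0012.result p hP).1 _
  have h3 : Subgroup.zpowers x = ⊤ := frattini_nongenerating h2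
  rw [eq_bot_iff, commutator_def, Subgroup.commutator_le]
  intro a _ b _
  rw [Subgroup.mem_bot, commutatorElement_eq_one_iff_commute]
  have ha : a ∈ Subgroup.zpowers x := h3 ▸ Subgroup.mem_top a
  have hb : b ∈ Subgroup.zpowers x := h3 ▸ Subgroup.mem_top b
  obtain ⟨i, rfl⟩ := Subgroup.mem_zpowers_iff.mp ha
  obtain ⟨j, rfl⟩ := Subgroup.mem_zpowers_iff.mp hb
  exact (Commute.refl x).zpow_zpow i j

/-- Part (b), coprimality. -/
theorem part_b_coprime {G : Type*} [Group G] [Finite G] (hnil : Group.IsNilpotent ↥(commutator G))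
    (hidx : (commutator G).index.Prime) :
    (Nat.card ↥(commutator G)).Coprime (commutator G).index := by
  have : Fact (commutator G).index.Prime := ⟨hidx⟩
  set r := (commutator G).index with hr
  have hDF : commutator G ≤ Cfsg.fittingSubgroup G :=
    le_sSup ⟨inferInstance, hnil⟩
  have hDle : commutator G ≤ Cfsg.pCore r G ⊔ pCoreCompl r G := hDF.trans (fittingSubgroup_le_sup r)
  -- the image of `commutator G` in `G ⧸ Q` is an `r`-group
  have hmapQ : (pCoreCompl r G).map (QuotientGroup.mk' (pCoreCompl r G)) = ⊥ := by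
    rw [Subgroup.map_eq_bot_iff, QuotientGroup.ker_mk']
  have hDmap : (commutator G).map (QuotientGroup.mk' (pCoreCompl r G)) ≤
      (Cfsg.pCore r G).map (QuotientGroup.mk' (pCoreCompl r G)) := by
    refine (Subgroup.map_mono hDle).trans ?_
    rw [Subgroup.map_sup, hmapQ, sup_bot_eq]
  have hPr : IsPGroup r ↥((Cfsg.pCore r G).map (QuotientGroup.mk' (pCoreCompl r G))) :=
    (Cfsg.Agent.Lib.Helper55.isPGroup_pCore (G := G) r).map _
  have hPG : IsPGroup r (G ⧸ pCoreCompl r G) := by
    intro q
    obtain ⟨g, rfl⟩ := QuotientGroup.mk_surjective q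
    have h1 : g ^ r ∈ commutator G := by
      rw [← QuotientGroup.eq_one_iff, QuotientGroup.mk_pow]
      have hcard : Nat.card (G ⧸ commutator G) = r := rfl
      rw [← hcard]
      exact pow_card_eq_one'
    have h2 : QuotientGroup.mk' (pCoreCompl r G) (g ^ r) ∈
        (Cfsg.pCore r G).map (QuotientGroup.mk' (pCoreCompl r G)) :=
      hDmap ⟨g ^ r, h1, rfl⟩
    obtain ⟨k, hk⟩ := hPr ⟨_, h2⟩
    refine ⟨k + 1, ?_⟩
    have h3 := congrArg Subtype.val hk
    simp only [Subgroup.coe_pow, Subgroup.coe_one, QuotientGroup.mk'_apply] at h3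
    rw [pow_succ', pow_mul, ← QuotientGroup.mk_pow]
    exact h3
  have hcomm : commutator (G ⧸ pCoreCompl r G) =
      (commutator G).map (QuotientGroup.mk' (pCoreCompl r G)) := by
    rw [commutator_def, commutator_def, Subgroup.map_commutator,
      Subgroup.map_top_of_surjective _ (QuotientGroup.mk'_surjective _)]
  have hidx' : (commutator (G ⧸ pCoreCompl r G)).index ∣ r := by
    rw [hcomm]
    exact Subgroup.index_map_dvd _ (QuotientGroup.mk'_surjective _)
  have hbot := commutator_eq_bot_of_index_dvd r hPG hidx'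
  rw [hcomm, Subgroup.map_eq_bot_iff, QuotientGroup.ker_mk'] at hbot
  exact Nat.Coprime.coprime_dvd_left (Subgroup.card_dvd_of_le hbot) (card_pCoreCompl_coprime r)

/-- Let G be a finite solvable group. (a) If H is a normal subgroup of order coprime to its index, K is a complement to H, and H ≤ G', then H = [H, K] and H ∩ C_G(K) ≤ [H, H]. (b) If G' is nilpotent and has prime index in G, then the order of G' is coprime to its index and G' = [G, K] (the subgroup generated by commutators of elements of G with elements of K) for every complement K of G'. -/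
theorem result {G : Type*} [Group G] [Finite G] [Group.IsSolvable G] :
    (∀ (H K : Subgroup G), H.Normal → (Nat.card H).Coprime H.index → Subgroup.IsComplement' H K → H ≤ commutator G →
        H = ⁅H, K⁆ ∧ H ⊓ Subgroup.centralizer (K : Set G) ≤ ⁅H, H⁆) ∧
      (Group.IsNilpotent ↥(commutator G) → (commutator G).index.Prime →
        (Nat.card ↥(commutator G)).Coprime (commutator G).index ∧
        ∀ K : Subgroup G, Subgroup.IsComplement' (commutator G) K → commutator G = ⁅(⊤ : Subgroup G), K⁆) := by
  refine ⟨fun H K hHn hcop hc hHG => part_a H K hHn hcop hc hHG, ?_⟩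
  intro hnil hidx
  have hcop := part_b_coprime hnil hidx
  refine ⟨hcop, ?_⟩
  intro K hK
  have h1 := (part_a (commutator G) K inferInstance hcop hK le_rfl).1
  apply le_antisymm
  · rw [h1]
    exact Subgroup.commutator_mono (h1 ▸ le_top) le_rfl
  · rw [commutator_def]
    exact Subgroup.commutator_mono le_rfl le_top

end Cfsg.Agent.S1459
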