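import Cfsg.Statements.S1461
import Mathlib
import Cfsg.Agent.S1460
import Cfsg.Agent.Lib.Helper25.PLength

set_option autoImplicit false
open Cfsg

namespace Cfsg.Agent.S1461

/-- Let G be a finite solvable group, p a prime with G = O_{p',p,p'}(G), and S a Sylow p-subgroup. Then: if S ≤ G' then S ≤ [N_G(S), N_G(S)]; if Y ⊆ S and xYx⁻¹ ⊆ S then x = g c for some g ∈ N_G(S) and c centralizing Y; and for every p-subgroup Q there is x ∈ C_G(Q ∩ S) with xQx⁻¹ ≤ S. -/
theorem result {G : Type*} [Group G] [Finite G] [Group.IsSolvable G] (p : ℕ) [Fact p.Prime] (hpl : Cfsg.PLengthLE p 1 G) (S : Sylow p G) :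
    ((S : Subgroup G) ≤ commutator G → (S : Subgroup G) ≤ ⁅Subgroup.normalizer ((S : Subgroup G) : Set G), Subgroup.normalizer ((S : Subgroup G) : Set G)⁆) ∧
      (∀ (Y : Set G) (x : G), Y ⊆ (S : Subgroup G) → (fun y => x * y * x⁻¹) '' Y ⊆ (S : Subgroup G) →
        ∃ g ∈ Subgroup.normalizer ((S : Subgroup G) : Set G), ∃ c ∈ Subgroup.centralizer Y, g * c = x) ∧
      ∀ Q : Subgroup G, IsPGroup p Q → ∃ x ∈ Subgroup.centralizer ((Q ⊓ (S : Subgroup G) : Subgroup G) : Set G), Q.map (MulAut.conj x).toMonoidHom ≤ (S : Subgroup G) := by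
  obtain ⟨K, hKn, hKcop, hfr⟩ := Cfsg.Agent.Lib.Helper25.plength_one_frattini p hpl
  have hKU := hfr S
  set U := Subgroup.normalizer ((S : Subgroup G) : Set G) with hU
  have hSU : (S : Subgroup G) ≤ U := Subgroup.le_normalizer
  -- coprimality for p-subgroups
  have hcopP : ∀ R : Subgroup G, IsPGroup p R → (Nat.card R).Coprime (Nat.card K) := by
    intro R hR
    obtain ⟨n, hn⟩ := IsPGroup.iff_card.mp hR
    rw [hn]
    exact Nat.Coprime.pow_left n hKcop.symm
  refine ⟨?_, ?_, ?_⟩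
  · intro hSG'
    have h1 := (Cfsg.Agent.S1460.result K U (S : Subgroup G) hKU hSU (hcopP _ S.2)).1
    have h2 : (S : Subgroup G) ≤ (S : Subgroup G) ⊓ commutator G := le_inf le_rfl hSG'
    rw [h1] at h2
    exact h2.trans inf_le_right
  · intro Y x hYS hxY
    set H := Subgroup.closure Y with hH
    have hHS : H ≤ (S : Subgroup G) := (Subgroup.closure_le _).mpr hYS
    have hHP : IsPGroup p H := S.2.to_le hHS
    have hconj : ∀ h ∈ H, x * h * x⁻¹ ∈ U := by
      intro h hh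
      apply hSU
      have hmap : H.map (MulAut.conj x).toMonoidHom ≤ (S : Subgroup G) := by
        rw [hH, MonoidHom.map_closure, Subgroup.closure_le]
        rintro _ ⟨y, hy, rfl⟩
        exact hxY ⟨y, hy, rfl⟩
      exact hmap ⟨h, hh, rfl⟩
    obtain ⟨u, hu, c, hc, hxuc⟩ := Cfsg.Agent.S1460.part3 K U H hKU (hHS.trans hSU)
      (hcopP H hHP) x hconj
    refine ⟨u, hu, c, ?_, hxuc.symm⟩
    exact Subgroup.centralizer_le (Subgroup.subset_closure) hc.2
  · intro Q hQ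
    obtain ⟨P, hQP⟩ := hQ.exists_le_sylow
    obtain ⟨g, hg⟩ := MulAction.exists_smul_eq G S P
    -- g = k * n
    have hgtop : g ∈ ((K ⊔ U : Subgroup G) : Set G) := by
      rw [hKU]
      exact Set.mem_univ g
    rw [Subgroup.normal_mul K U] at hgtop
    obtain ⟨k, hk, n, hn, hgkn⟩ := Set.mem_mul.mp hgtop
    -- Q ≤ k • S
    have hQk : ∀ q ∈ Q, k⁻¹ * q * k ∈ (S : Subgroup G) := by
      intro q hq
      have h1 : q ∈ (P : Subgroup G) := hQP hq
      rw [← hg, Sylow.coe_subgroup_smul, ← hgkn,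
        Cfsg.Agent.Lib.Helper54.mem_conj_smul_iff] at h1
      have h2 := (Subgroup.mem_normalizer_iff.mp hn _).mp h1
      have h3 : n * ((k * n)⁻¹ * q * (k * n)) * n⁻¹ = k⁻¹ * q * k := by group
      rwa [h3] at h2
    set R := Q ⊓ (S : Subgroup G) with hR
    have hRS : R ≤ (S : Subgroup G) := inf_le_right
    have hRP : IsPGroup p R := S.2.to_le hRS
    have hconj : ∀ h ∈ R, k⁻¹ * h * k⁻¹⁻¹ ∈ U := by
      intro h hh
      rw [inv_inv]
      exact hSU (hQk h hh.1)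
    obtain ⟨u, hu, c, hc, hkuc⟩ := Cfsg.Agent.S1460.part3 K U R hKU (hRS.trans hSU)
      (hcopP R hRP) k⁻¹ hconj
    refine ⟨c, hc.2, ?_⟩
    rintro _ ⟨q, hq, rfl⟩
    show c * q * c⁻¹ ∈ (S : Subgroup G)
    have hcu : c = u⁻¹ * k⁻¹ := by rw [hkuc]; group
    have h4 : c * q * c⁻¹ = u⁻¹ * (k⁻¹ * q * k) * u⁻¹⁻¹ := by rw [hcu]; group
    rw [h4]
    exact (Subgroup.mem_normalizer_iff.mp (U.inv_mem hu) _).mp (hQk q hq)

end Cfsg.Agent.S1461
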