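import Cfsg.Statements.S0065
-- import your own Cfsg.Agent.* helpers here

set_option autoImplicit false
open Cfsg
open scoped commutatorElement

namespace Cfsg.Agent.S0065

/-- A nontrivial normal subgroup of a nilpotent group intersects the centre nontrivially. -/
theorem result {G : Type*} [Group G] [Finite G] [Group.IsNilpotent G]
    (N : Subgroup G) [N.Normal] (hN : N ≠ ⊥) : N ⊓ Subgroup.center G ≠ ⊥ := by
  classical
  obtain ⟨n, hn⟩ := Group.IsNilpotent.nilpotent G
  have hex : ∃ i, N ⊓ Subgroup.upperCentralSeries G i ≠ ⊥ := ⟨n, by rw [hn, inf_top_eq]; exact hN⟩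
  let i := Nat.find hex
  have hi : N ⊓ Subgroup.upperCentralSeries G i ≠ ⊥ := Nat.find_spec hex
  have hi0 : i ≠ 0 := by
    intro h0
    apply hi
    rw [h0, Subgroup.upperCentralSeries_zero, inf_bot_eq]
  obtain ⟨j, hj⟩ := Nat.exists_eq_succ_of_ne_zero hi0
  have hjbot : N ⊓ Subgroup.upperCentralSeries G j = ⊥ := by
    by_contra hne
    have := Nat.find_min' hex hne
    change i ≤ j at this
    omega
  have hle : N ⊓ Subgroup.upperCentralSeries G i ≤ N ⊓ Subgroup.center G := by
    intro x hx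
    refine Subgroup.mem_inf.mpr ⟨hx.1, ?_⟩
    rw [Subgroup.mem_center_iff]
    intro y
    have hx2 : x ∈ Subgroup.upperCentralSeries G (j + 1) := by rw [← Nat.succ_eq_add_one, ← hj]; exact hx.2
    have h1 : ⁅x, y⁆ ∈ Subgroup.upperCentralSeries G j := Subgroup.mem_upperCentralSeries_succ_iff.mp hx2 y
    have h2 : ⁅x, y⁆ ∈ N := by
      rw [commutatorElement_def]
      have : y * x⁻¹ * y⁻¹ ∈ N := ‹N.Normal›.conj_mem _ (N.inv_mem hx.1) y
      have := N.mul_mem hx.1 this
      simpa [mul_assoc] using this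
    have h3 : ⁅x, y⁆ ∈ N ⊓ Subgroup.upperCentralSeries G j := ⟨h2, h1⟩
    rw [hjbot, Subgroup.mem_bot, commutatorElement_eq_one_iff_commute] at h3
    exact h3.eq.symm
  intro hbot
  apply hi
  rw [eq_bot_iff]
  rw [hbot] at hle
  exact hle

end Cfsg.Agent.S0065
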