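-- S0519 (helper35): a p-group all of whose abelian normal subgroups are cyclic, but with a noncyclic abelian
-- subgroup, is a 2-group of maximal class (generalized quaternion, dihedral of order ≥ 16, quasi-dihedral).
import Cfsg.Statements.S0519
import Cfsg.Agent.S0016
import Cfsg.Agent.Lib.Helper73.QuatIso

set_option autoImplicit false
open Cfsg

namespace Cfsg.Agent.S0519

section general

variable {P : Type*} [Group P]

/-- in a finite cyclic group, a subgroup is determined by its order -/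
lemma subgroup_eq_of_card_eq {B : Type*} [Group B] [Finite B] [IsCyclic B]
    (C₁ C₂ : Subgroup B) (h : Nat.card C₁ = Nat.card C₂) : C₁ = C₂ := by
  classical
  have : Fintype B := Fintype.ofFinite B
  have key : ∀ C : Subgroup B, (C : Set B) = {a : B | a ^ Nat.card C = 1} := by
    intro C
    have hpos : 0 < Nat.card C := Nat.card_pos
    apply Set.eq_of_subset_of_ncard_le
    · intro x hx
      have := pow_card_eq_one' (G := C) (x := ⟨x, hx⟩)
      exact congrArg Subtype.val this
    · have h1 : ({a : B | a ^ Nat.card C = 1} : Set B).ncard ≤ Nat.card C := by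
        rw [Set.ncard_eq_toFinset_card', Set.toFinset_ofPred]
        exact IsCyclic.card_pow_eq_one_le hpos
      have h2 : (C : Set B).ncard = Nat.card C := (Nat.card_coe_set_eq (C : Set B)).symm
      rw [h2]
      exact h1
    · exact Set.toFinite _
  apply SetLike.coe_injective
  rw [key C₁, key C₂, h]

/-- the closure of a set closed under conjugation (into the closure) is normal -/
lemma closure_normal_of_conj_mem {s : Set P}
    (h : ∀ g : P, ∀ w ∈ s, g * w * g⁻¹ ∈ Subgroup.closure s) : (Subgroup.closure s).Normal := by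
  constructor
  intro n hn g
  induction hn using Subgroup.closure_induction with
  | mem w hw => exact h g w hw
  | one => simp
  | mul x y _ _ hx hy =>
    have : g * (x * y) * g⁻¹ = (g * x * g⁻¹) * (g * y * g⁻¹) := by group
    rw [this]; exact Subgroup.mul_mem _ hx hy
  | inv x _ hx =>
    have : g * x⁻¹ * g⁻¹ = (g * x * g⁻¹)⁻¹ := by group
    rw [this]; exact Subgroup.inv_mem _ hx

/-- powers: from `x ∉ A` get a `p`-power of `x` outside `A` whose `p`-th power is in `A` -/
lemma exists_pow_not_mem {p : ℕ} (hP : IsPGroup p P) (A : Subgroup P) {x : P} (hx : x ∉ A) :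
    ∃ n : ℕ, x ^ p ^ n ∉ A ∧ (x ^ p ^ n) ^ p ∈ A := by
  obtain ⟨m, hm⟩ := hP x
  induction m generalizing x with
  | zero =>
    exfalso
    apply hx
    have : x = 1 := by simpa using hm
    rw [this]; exact A.one_mem
  | succ m ih =>
    by_cases h : x ^ p ∈ A
    · exact ⟨0, by simpa using hx, by simpa using h⟩
    · obtain ⟨n, h1, h2⟩ := ih h (by rw [← pow_mul, ← pow_succ']; exact hm)
      refine ⟨n + 1, ?_, ?_⟩
      · rwa [pow_succ', pow_mul]
      · rwa [pow_succ', pow_mul]

/-- an element of a normal subgroup `T ≰ A`, outside `A`, with `p`-th power in `A`, central modulo `A` -/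
lemma exists_central_mod [Finite P] {p : ℕ} [Fact p.Prime] (hP : IsPGroup p P) (A T : Subgroup P)
    [hA : A.Normal] [hT : T.Normal] (hTA : ¬ T ≤ A) :
    ∃ x ∈ T, x ∉ A ∧ x ^ p ∈ A ∧ QuotientGroup.mk' A x ∈ Subgroup.center (P ⧸ A) := by
  have hπsurj : Function.Surjective (QuotientGroup.mk' A) := QuotientGroup.mk'_surjective A
  have hNn : (T.map (QuotientGroup.mk' A)).Normal := hT.map _ hπsurj
  have hNbot : T.map (QuotientGroup.mk' A) ≠ ⊥ := by
    intro h
    apply hTA
    intro c hc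
    have : QuotientGroup.mk' A c ∈ T.map (QuotientGroup.mk' A) := Subgroup.mem_map_of_mem _ hc
    rw [h, Subgroup.mem_bot] at this
    exact (QuotientGroup.eq_one_iff c).mp this
  obtain ⟨zb, hzN, hz1, hzc⟩ :=
    Cfsg.Agent.Lib.Helper73.exists_ne_one_mem_center_of_normal' (hP.to_quotient A) _ hNbot
  obtain ⟨x₀, hx₀T, rfl⟩ := Subgroup.mem_map.mp hzN
  have hx₀A : x₀ ∉ A := fun h => hz1 ((QuotientGroup.eq_one_iff x₀).mpr h)
  obtain ⟨n, h1, h2⟩ := exists_pow_not_mem hP A hx₀A
  refine ⟨x₀ ^ p ^ n, T.pow_mem hx₀T _, h1, h2, ?_⟩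
  rw [map_pow]; exact Subgroup.pow_mem _ hzc _

/-- elements central modulo `A` -/
lemma conj_mod_of_central (A : Subgroup P) [hA : A.Normal] {b : P}
    (hb : QuotientGroup.mk' A b ∈ Subgroup.center (P ⧸ A)) (g : P) :
    b⁻¹ * (g * b * g⁻¹) ∈ A := by
  rw [← QuotientGroup.eq_one_iff]
  have h3 := (Subgroup.mem_center_iff.mp hb) (QuotientGroup.mk' A g)
  show QuotientGroup.mk' A (b⁻¹ * (g * b * g⁻¹)) = 1
  rw [map_mul, map_mul, map_mul, map_inv, map_inv, h3]
  group

/-- two elements of the same order in a finite cyclic subgroup generate the same subgroup -/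
lemma mem_zpowers_of_orderOf_eq' [Finite P] {W : Subgroup P} (hW : IsCyclic W) {y z : P} (hy : y ∈ W)
    (hz : z ∈ W) (h : orderOf y = orderOf z) : y ∈ Subgroup.zpowers z := by
  have h1 : Subgroup.zpowers y ≤ W := Subgroup.zpowers_le.mpr hy
  have h2 : Subgroup.zpowers z ≤ W := Subgroup.zpowers_le.mpr hz
  have e1 : Nat.card ((Subgroup.zpowers y).subgroupOf W)
      = Nat.card (Subgroup.zpowers y) := Nat.card_congr (Subgroup.subgroupOfEquivOfLe h1).toEquiv
  have e2 : Nat.card ((Subgroup.zpowers z).subgroupOf W)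
      = Nat.card (Subgroup.zpowers z) := Nat.card_congr (Subgroup.subgroupOfEquivOfLe h2).toEquiv
  have := subgroup_eq_of_card_eq ((Subgroup.zpowers y).subgroupOf W)
    ((Subgroup.zpowers z).subgroupOf W)
    (by rw [e1, e2, Nat.card_zpowers, Nat.card_zpowers, h])
  rw [Subgroup.subgroupOf_inj, inf_eq_left.mpr h1, inf_eq_left.mpr h2] at this
  rw [← this]
  exact Subgroup.mem_zpowers y

lemma mem_zpowers_of_orderOf_eq [Finite P] {a y z : P} (hy : y ∈ Subgroup.zpowers a)
    (hz : z ∈ Subgroup.zpowers a) (h : orderOf y = orderOf z) : y ∈ Subgroup.zpowers z :=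
  mem_zpowers_of_orderOf_eq' (W := Subgroup.zpowers a) inferInstance hy hz h

lemma coe_mem_zpowers_iff {T : Subgroup P} (a' y' : T) :
    (y' : P) ∈ Subgroup.zpowers (a' : P) ↔ y' ∈ Subgroup.zpowers a' := by
  simp only [Subgroup.mem_zpowers_iff]
  constructor
  · rintro ⟨i, hi⟩
    exact ⟨i, Subtype.ext (by simpa using hi)⟩
  · rintro ⟨i, hi⟩
    exact ⟨i, by simpa using congrArg Subtype.val hi⟩

end general

section odd

variable {P : Type*} [Group P] [Finite P]

open Subgroup in
/-- the modular situation: `b` of order `p` (odd), central modulo the normal cyclic `⟨a⟩`, acting on it by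
`a ↦ a^(1+p^(k+1))` where `a` has order `p^(k+2)`: then `⟨a^(p^(k+1)), b⟩` is a normal noncyclic commutative
subgroup. -/
theorem normal_noncyclic_of_modular {p : ℕ} [hp : Fact p.Prime] (hp2 : p ≠ 2) {a b : P} {k : ℕ}
    (hAn : (zpowers a).Normal) (hk : orderOf a = p ^ (k + 2))
    (hbc : QuotientGroup.mk' (zpowers a) b ∈ center (P ⧸ zpowers a))
    (hbord : orderOf b = p) (hbA : b ∉ zpowers a) (hba : b * a * b⁻¹ = a ^ (1 + p ^ (k + 1))) :
    ∃ W : Subgroup P, W.Normal ∧ IsMulCommutative W ∧ ¬ IsCyclic W := by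
  have hp0 : p ≠ 0 := hp.out.ne_zero
  -- action on `⟨a⟩`
  have hact : ∀ y ∈ zpowers a, b * y * b⁻¹ = y * y ^ p ^ (k + 1) := by
    intro y hy
    obtain ⟨i, rfl⟩ := mem_zpowers_iff.mp hy
    rw [← conj_zpow, hba, pow_add, pow_one, (Commute.self_pow a _).mul_zpow, ← zpow_natCast,
      ← zpow_natCast, ← zpow_mul, ← zpow_mul, mul_comm]
  have hpowA : ∀ y ∈ zpowers a, y ^ p ^ (k + 2) = 1 := by
    intro y hy
    obtain ⟨i, rfl⟩ := mem_zpowers_iff.mp hy
    rw [← zpow_natCast, ← zpow_mul, mul_comm, zpow_mul, zpow_natCast, ← hk, pow_orderOf_eq_one,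
      one_zpow]
  have hζp : ∀ y ∈ zpowers a, (y ^ p ^ (k + 1)) ^ p = 1 := by
    intro y hy
    rw [← pow_mul, ← pow_succ]
    exact hpowA y hy
  have hζA : ∀ y ∈ zpowers a, y ^ p ^ (k + 1) ∈ zpowers a := fun y hy => pow_mem hy _
  -- b commutes with ζ y
  have hbζ : ∀ y ∈ zpowers a, Commute b (y ^ p ^ (k + 1)) := by
    intro y hy
    have h1 := hact _ (hζA y hy)
    have h2 : (y ^ p ^ (k + 1)) ^ p ^ (k + 1) = 1 := by
      have h := hζp y hy
      generalize y ^ p ^ (k + 1) = w at h ⊢
      rw [pow_succ', pow_mul, h, one_pow]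
    rw [h2, mul_one] at h1
    have : b * y ^ p ^ (k + 1) = y ^ p ^ (k + 1) * b := by
      calc b * y ^ p ^ (k + 1) = (b * y ^ p ^ (k + 1) * b⁻¹) * b := by group
        _ = y ^ p ^ (k + 1) * b := by rw [h1]
    exact this
  set z := a ^ p ^ (k + 1) with hz
  have hzA : z ∈ zpowers a := npow_mem_zpowers a _
  have hzord : orderOf z = p := by
    rw [hz, orderOf_pow_of_dvd (pow_ne_zero _ hp0) (by rw [hk]; exact pow_dvd_pow p (by omega)),
      hk, pow_succ p (k + 1)]
    exact Nat.mul_div_cancel_left _ (pow_pos hp.out.pos _)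
  have hzb : Commute b z := hbζ a (mem_zpowers a)
  -- elements of `⟨a⟩` killed by `p` lie in `⟨z⟩`
  have hkill : ∀ y ∈ zpowers a, y ^ p = 1 → y ∈ zpowers z := by
    intro y hy hyp
    by_cases hy1 : y = 1
    · rw [hy1]; exact one_mem _
    · exact mem_zpowers_of_orderOf_eq hy hzA ((orderOf_eq_prime hyp hy1).trans hzord.symm)
  have hbp : b ^ p = 1 := by rw [← hbord]; exact pow_orderOf_eq_one b
  -- conjugates of b
  have hconjb : ∀ g : P, g * b * g⁻¹ ∈ closure ({z, b} : Set P) := by
    intro g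
    have hy : b⁻¹ * (g * b * g⁻¹) ∈ zpowers a := conj_mod_of_central (zpowers a) hbc g
    set y := b⁻¹ * (g * b * g⁻¹) with hydef
    have hgb : g * b * g⁻¹ = b * y := by rw [hydef]; group
    have hpow : (b * y) ^ p = 1 := by
      rw [← hgb, conj_pow, hbp]; group
    -- power formula
    have hcomm_yζ : Commute (y ^ p ^ (k + 1)) y := (Commute.refl y).pow_left _
    have hz' : y * b = (y ^ p ^ (k + 1))⁻¹ * b * y := by
      have h1 := hact y hy
      have h2 : b * y = y * y ^ p ^ (k + 1) * b := by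
        calc b * y = (b * y * b⁻¹) * b := by group
          _ = y * y ^ p ^ (k + 1) * b := by rw [h1]
      have h3 : (y ^ p ^ (k + 1))⁻¹ * b * y = (y ^ p ^ (k + 1))⁻¹ * (b * y) := by group
      rw [h3, h2, hcomm_yζ.eq.symm]
      group
    have hzx : Commute (y ^ p ^ (k + 1))⁻¹ b := ((hbζ y hy).symm).inv_left
    have hzy : Commute (y ^ p ^ (k + 1))⁻¹ y := hcomm_yζ.inv_left
    have hformula := Cfsg.Agent.Lib.Helper24.mul_pow_of_central_comm b y _ hz' hzx hzy p
    have h3 : 2 < p := by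
      have := hp.out.two_le
      omega
    obtain ⟨m, hm⟩ := hp.out.dvd_choose_self (by norm_num : (2 : ℕ) ≠ 0) h3
    rw [hpow, hbp, one_mul, hm, pow_mul, inv_pow, hζp y hy, inv_one, one_pow, mul_one] at hformula
    have hyz : y ∈ zpowers z := hkill y hy hformula.symm
    rw [hgb]
    apply mul_mem
    · exact subset_closure (Set.mem_insert_of_mem _ rfl)
    · have hle : zpowers z ≤ closure ({z, b} : Set P) :=
        zpowers_le.mpr (subset_closure (Set.mem_insert _ _))
      exact hle hyz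
  have hconjz : ∀ g : P, g * z * g⁻¹ ∈ closure ({z, b} : Set P) := by
    intro g
    have h1 : g * z * g⁻¹ ∈ zpowers a := hAn.conj_mem z hzA g
    have h2 : orderOf (g * z * g⁻¹) = orderOf z := by
      have := (MulAut.conj g).orderOf_eq z
      rwa [MulAut.conj_apply] at this
    have h3 := mem_zpowers_of_orderOf_eq h1 hzA h2
    have hle : zpowers z ≤ closure ({z, b} : Set P) :=
      zpowers_le.mpr (subset_closure (Set.mem_insert _ _))
    exact hle h3
  refine ⟨closure ({z, b} : Set P), ?_, ?_, ?_⟩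
  · apply closure_normal_of_conj_mem
    intro g w hw
    rcases hw with rfl | rfl
    · exact hconjz g
    · exact hconjb g
  · apply Subgroup.isMulCommutative_closure
    intro x hx y hy
    rcases hx with rfl | rfl <;> rcases hy with rfl | rfl
    · rfl
    · exact hzb.eq.symm
    · exact hzb.eq
    · rfl
  · intro hcyc
    apply hbA
    have hzW : z ∈ closure ({z, b} : Set P) := subset_closure (Set.mem_insert _ _)
    have hbW : b ∈ closure ({z, b} : Set P) := subset_closure (Set.mem_insert_of_mem _ rfl)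
    have := mem_zpowers_of_orderOf_eq' hcyc hbW hzW (hbord.trans hzord.symm)
    exact (zpowers_le.mpr hzA) this

open Subgroup in
/-- odd `p`: a normal self-centralizing cyclic proper subgroup of a finite `p`-group yields a normal
noncyclic commutative subgroup -/
theorem exists_normal_noncyclic_of_odd {p : ℕ} [hp : Fact p.Prime] (hp2 : p ≠ 2) (hP : IsPGroup p P)
    {a : P} (hAn : (zpowers a).Normal) (hcent : centralizer (zpowers a : Set P) ≤ zpowers a)
    (hne : zpowers a ≠ ⊤) : ∃ W : Subgroup P, W.Normal ∧ IsMulCommutative W ∧ ¬ IsCyclic W := by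
  obtain ⟨k, hk⟩ := Cfsg.Agent.S0016.exists_orderOf_eq hP hAn hcent hne
  have hT : ¬ (⊤ : Subgroup P) ≤ zpowers a := fun h => hne (eq_top_iff.mpr h)
  obtain ⟨x, -, hxA, hxp, hxc⟩ := exists_central_mod hP (zpowers a) ⊤ hT
  set CZ := (center (P ⧸ zpowers a)).comap (QuotientGroup.mk' (zpowers a)) with hCZ
  have haCZ : a ∈ CZ := by
    rw [hCZ, mem_comap]
    have : QuotientGroup.mk' (zpowers a) a = 1 := (QuotientGroup.eq_one_iff a).mpr (mem_zpowers a)
    rw [this]; exact one_mem _
  have hxCZ : x ∈ CZ := hxc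
  have hnorm : x * a * x⁻¹ ∈ zpowers a := hAn.conj_mem a (mem_zpowers a) x
  have hnc : x * a * x⁻¹ ≠ a := by
    intro h
    apply hxA
    apply hcent
    apply Cfsg.Agent.S0016.mem_centralizer_zpowers_of_comm
    calc x * a = (x * a * x⁻¹) * x := by group
      _ = a * x := by rw [h]
  obtain ⟨b', hb'ord, hb'A, hb'a⟩ := Cfsg.Agent.Lib.Helper73.cyclic_index_p_core p hp2 k
    (⟨a, haCZ⟩ : CZ) ⟨x, hxCZ⟩
    (by rw [Subgroup.orderOf_mk]; exact hk)
    ((coe_mem_zpowers_iff _ _).mp (by simpa using hnorm))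
    ((coe_mem_zpowers_iff _ _).mp (by simpa using hxp))
    (fun h => hxA ((coe_mem_zpowers_iff ⟨a, haCZ⟩ ⟨x, hxCZ⟩).mpr h))
    (fun h => hnc (by simpa using congrArg Subtype.val h))
  refine normal_noncyclic_of_modular hp2 hAn hk (b := (b' : P)) b'.2 ?_ ?_ ?_
  · rw [Subgroup.orderOf_coe]; exact hb'ord
  · intro h; exact hb'A ((coe_mem_zpowers_iff ⟨a, haCZ⟩ b').mp h)
  · simpa using congrArg Subtype.val hb'a

end odd

section two

variable {P : Type*} [Group P] [Finite P]

open Subgroup in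
/-- the modular situation for `p = 2` -/
theorem normal_noncyclic_of_modular_two {a b : P} {k : ℕ} (hk1 : 1 ≤ k)
    (hAn : (zpowers a).Normal) (hk : orderOf a = 4 * 2 ^ k)
    (hbc : QuotientGroup.mk' (zpowers a) b ∈ center (P ⧸ zpowers a))
    (hb2 : b ^ 2 = 1) (hbA : b ∉ zpowers a) (hba : b * a * b⁻¹ = a ^ (1 + 2 * 2 ^ k)) :
    ∃ W : Subgroup P, W.Normal ∧ IsMulCommutative W ∧ ¬ IsCyclic W := by
  have hact : ∀ y ∈ zpowers a, b * y * b⁻¹ = y * y ^ (2 * 2 ^ k) := by
    intro y hy
    obtain ⟨i, rfl⟩ := mem_zpowers_iff.mp hy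
    rw [← conj_zpow, hba, pow_add, pow_one, (Commute.self_pow a _).mul_zpow, ← zpow_natCast,
      ← zpow_natCast, ← zpow_mul, ← zpow_mul, mul_comm]
  have hpowA : ∀ y ∈ zpowers a, y ^ (4 * 2 ^ k) = 1 := by
    intro y hy
    obtain ⟨i, rfl⟩ := mem_zpowers_iff.mp hy
    rw [← zpow_natCast, ← zpow_mul, mul_comm, zpow_mul, zpow_natCast, ← hk, pow_orderOf_eq_one,
      one_zpow]
  set z := a ^ (2 * 2 ^ k) with hz
  have hzA : z ∈ zpowers a := npow_mem_zpowers a _
  have hzord : orderOf z = 2 := by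
    rw [hz, orderOf_pow_of_dvd (by positivity) (by rw [hk]; exact ⟨2, by ring⟩), hk]
    have : 4 * 2 ^ k = 2 * (2 * 2 ^ k) := by ring
    rw [this]; exact Nat.mul_div_cancel _ (by positivity)
  have hz2 : z ^ 2 = 1 := by rw [← hzord]; exact pow_orderOf_eq_one z
  have hzb : Commute b z := by
    have h1 := hact z hzA
    have h2 : z ^ (2 * 2 ^ k) = 1 := by rw [pow_mul, hz2, one_pow]
    rw [h2, mul_one] at h1
    have : b * z = z * b := by
      calc b * z = (b * z * b⁻¹) * b := by group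
        _ = z * b := by rw [h1]
    exact this
  have hkill : ∀ y ∈ zpowers a, y ^ 2 = 1 → y ∈ zpowers z := by
    intro y hy hyp
    by_cases hy1 : y = 1
    · rw [hy1]; exact one_mem _
    · exact mem_zpowers_of_orderOf_eq hy hzA
        ((orderOf_eq_prime (p := 2) hyp hy1).trans hzord.symm)
  have hb1 : b ≠ 1 := fun h => hbA (h ▸ one_mem _)
  have hbord : orderOf b = 2 := orderOf_eq_prime (p := 2) hb2 hb1
  have hbinv : b⁻¹ = b := by
    rw [inv_eq_iff_mul_eq_one, ← pow_two, hb2]
  have hconjb : ∀ g : P, g * b * g⁻¹ ∈ closure ({z, b} : Set P) := by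
    intro g
    have hy : b⁻¹ * (g * b * g⁻¹) ∈ zpowers a := conj_mod_of_central (zpowers a) hbc g
    set y := b⁻¹ * (g * b * g⁻¹) with hydef
    have hgb : g * b * g⁻¹ = b * y := by rw [hydef]; group
    have hpow : (b * y) ^ 2 = 1 := by
      rw [← hgb, conj_pow, hb2]; group
    -- (b y)^2 = y^2 * y^(2 * 2^k)
    have h1 : (b * y) ^ 2 = (b * y * b⁻¹) * y := by
      rw [pow_two]
      calc b * y * (b * y) = (b * y * b⁻¹) * (b * b) * y := by group
        _ = (b * y * b⁻¹) * y := by rw [← pow_two, hb2, mul_one]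
    rw [h1, hact y hy] at hpow
    -- (y^2)^(1 + 2^k) = 1
    have h2 : (y ^ 2) ^ (1 + 2 ^ k) = 1 := by
      rw [← pow_mul]
      have : 2 * (1 + 2 ^ k) = 1 + 2 * 2 ^ k + 1 := by ring
      rw [this, pow_add, pow_add, pow_one]
      exact hpow
    have h3 : (y ^ 2) ^ (2 * 2 ^ k) = 1 := by
      rw [← pow_mul]
      have : 2 * (2 * 2 ^ k) = 4 * 2 ^ k := by ring
      rw [this]; exact hpowA y hy
    have hcop : Nat.Coprime (1 + 2 ^ k) (2 * 2 ^ k) := by
      have hodd : Odd (1 + 2 ^ k) := by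
        obtain ⟨j, rfl⟩ : ∃ j, k = j + 1 := ⟨k - 1, by omega⟩
        exact ⟨2 ^ j, by ring⟩
      have h2' : Nat.Coprime (1 + 2 ^ k) 2 := Nat.coprime_two_right.mpr hodd
      have : 2 * 2 ^ k = 2 ^ (k + 1) := by ring
      rw [this]
      exact Nat.Coprime.pow_right _ h2'
    have hy2 : y ^ 2 = 1 := by
      have d1 := orderOf_dvd_of_pow_eq_one h2
      have d2 := orderOf_dvd_of_pow_eq_one h3
      have := Nat.dvd_gcd d1 d2
      rw [hcop.gcd_eq_one, Nat.dvd_one, orderOf_eq_one_iff] at this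
      exact this
    have hyz : y ∈ zpowers z := hkill y hy hy2
    rw [hgb]
    apply mul_mem
    · exact subset_closure (Set.mem_insert_of_mem _ rfl)
    · have hle : zpowers z ≤ closure ({z, b} : Set P) :=
        zpowers_le.mpr (subset_closure (Set.mem_insert _ _))
      exact hle hyz
  have hconjz : ∀ g : P, g * z * g⁻¹ ∈ closure ({z, b} : Set P) := by
    intro g
    have h1 : g * z * g⁻¹ ∈ zpowers a := hAn.conj_mem z hzA g
    have h2 : orderOf (g * z * g⁻¹) = orderOf z := by
      have := (MulAut.conj g).orderOf_eq z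
      rwa [MulAut.conj_apply] at this
    have h3 := mem_zpowers_of_orderOf_eq h1 hzA h2
    have hle : zpowers z ≤ closure ({z, b} : Set P) :=
      zpowers_le.mpr (subset_closure (Set.mem_insert _ _))
    exact hle h3
  refine ⟨closure ({z, b} : Set P), ?_, ?_, ?_⟩
  · apply closure_normal_of_conj_mem
    intro g w hw
    rcases hw with rfl | rfl
    · exact hconjz g
    · exact hconjb g
  · apply Subgroup.isMulCommutative_closure
    intro x hx y hy
    rcases hx with rfl | rfl <;> rcases hy with rfl | rfl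
    · rfl
    · exact hzb.eq.symm
    · exact hzb.eq
    · rfl
  · intro hcyc
    apply hbA
    have hzW : z ∈ closure ({z, b} : Set P) := subset_closure (Set.mem_insert _ _)
    have hbW : b ∈ closure ({z, b} : Set P) := subset_closure (Set.mem_insert_of_mem _ rfl)
    have := mem_zpowers_of_orderOf_eq' hcyc hbW hzW (hbord.trans hzord.symm)
    exact (zpowers_le.mpr hzA) this

open Subgroup in
/-- dihedral group of order 8: the four-group `⟨a², b⟩` is normal -/
theorem normal_noncyclic_of_dihedral_eight {a b : P} (hAn : (zpowers a).Normal)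
    (ha : orderOf a = 4) (hall : ∀ y : P, y ∈ zpowers a ∨ b⁻¹ * y ∈ zpowers a)
    (hbA : b ∉ zpowers a) (hb2 : b ^ 2 = 1) (hba : b * a * b⁻¹ = a⁻¹) :
    ∃ W : Subgroup P, W.Normal ∧ IsMulCommutative W ∧ ¬ IsCyclic W := by
  have ha4 : a ^ 4 = 1 := by rw [← ha]; exact pow_orderOf_eq_one a
  set z := a ^ 2 with hz
  have hzA : z ∈ zpowers a := npow_mem_zpowers a _
  have hzord : orderOf z = 2 := by
    rw [hz, orderOf_pow_of_dvd (by norm_num) (by rw [ha]; exact ⟨2, by norm_num⟩), ha]
  have hz2 : z ^ 2 = 1 := by rw [← hzord]; exact pow_orderOf_eq_one z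
  have hzinv : z⁻¹ = z := by
    rw [inv_eq_iff_mul_eq_one, ← pow_two, hz2]
  have hzb : Commute b z := by
    have h1 : b * z * b⁻¹ = z := by
      rw [hz, ← conj_pow, hba, inv_pow, ← hz, hzinv]
    have : b * z = z * b := by
      calc b * z = (b * z * b⁻¹) * b := by group
        _ = z * b := by rw [h1]
    exact this
  have hb1 : b ≠ 1 := fun h => hbA (h ▸ one_mem _)
  have hbord : orderOf b = 2 := orderOf_eq_prime (p := 2) hb2 hb1
  have hbinv : b⁻¹ = b := by
    rw [inv_eq_iff_mul_eq_one, ← pow_two, hb2]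
  have hzW : z ∈ closure ({z, b} : Set P) := subset_closure (Set.mem_insert _ _)
  have hbW : b ∈ closure ({z, b} : Set P) := subset_closure (Set.mem_insert_of_mem _ rfl)
  -- conjugation by powers of a
  have hconj_a : ∀ i : ℤ, a ^ i * b * (a ^ i)⁻¹ = z ^ i * b := by
    intro i
    have h1 : b * (a ^ i)⁻¹ * b⁻¹ = a ^ i := by
      have h0 : b * a⁻¹ * b⁻¹ = a := by
        have : b * a⁻¹ * b⁻¹ = (b * a * b⁻¹)⁻¹ := by group
        rw [this, hba, inv_inv]
      rw [← inv_zpow, ← conj_zpow, h0]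
    calc a ^ i * b * (a ^ i)⁻¹ = a ^ i * (b * (a ^ i)⁻¹ * b⁻¹) * b := by group
      _ = a ^ i * a ^ i * b := by rw [h1]
      _ = z ^ i * b := by
        rw [hz, ← zpow_natCast, ← zpow_mul, ← zpow_add]
        congr 2
        push_cast; ring
  have hconjb : ∀ g : P, g * b * g⁻¹ ∈ closure ({z, b} : Set P) := by
    intro g
    rcases hall g with hg | hg
    · obtain ⟨i, rfl⟩ := mem_zpowers_iff.mp hg
      rw [hconj_a i]
      exact mul_mem (zpow_mem hzW i) hbW
    · obtain ⟨i, hi⟩ := mem_zpowers_iff.mp hg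
      have hge : g = b * a ^ i := by rw [hi]; group
      have : g * b * g⁻¹ = b * (a ^ i * b * (a ^ i)⁻¹) * b⁻¹ := by rw [hge]; group
      rw [this, hconj_a i]
      exact mul_mem (mul_mem hbW (mul_mem (zpow_mem hzW i) hbW)) (inv_mem hbW)
  have hconjz : ∀ g : P, g * z * g⁻¹ ∈ closure ({z, b} : Set P) := by
    intro g
    have h1 : g * z * g⁻¹ ∈ zpowers a := hAn.conj_mem z hzA g
    have h2 : orderOf (g * z * g⁻¹) = orderOf z := by
      have := (MulAut.conj g).orderOf_eq z
      rwa [MulAut.conj_apply] at this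
    have h3 := mem_zpowers_of_orderOf_eq h1 hzA h2
    have hle : zpowers z ≤ closure ({z, b} : Set P) := zpowers_le.mpr hzW
    exact hle h3
  refine ⟨closure ({z, b} : Set P), ?_, ?_, ?_⟩
  · apply closure_normal_of_conj_mem
    intro g w hw
    rcases hw with rfl | rfl
    · exact hconjz g
    · exact hconjb g
  · apply Subgroup.isMulCommutative_closure
    intro x hx y hy
    rcases hx with rfl | rfl <;> rcases hy with rfl | rfl
    · rfl
    · exact hzb.eq.symm
    · exact hzb.eq
    · rfl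
  · intro hcyc
    apply hbA
    have := mem_zpowers_of_orderOf_eq' hcyc hbW hzW (hbord.trans hzord.symm)
    exact (zpowers_le.mpr hzA) this

open Subgroup in
/-- the case `p = 2` -/
theorem two_case (hP : IsPGroup 2 P)
    (hn : ∀ A : Subgroup P, A.Normal → IsMulCommutative A → IsCyclic A) {a : P}
    (hAn : (zpowers a).Normal) (hcent : centralizer (zpowers a : Set P) ≤ zpowers a)
    (hne : zpowers a ≠ ⊤) :
    (∃ n : ℕ, Nonempty (P ≃* QuaternionGroup n)) ∨
      (∃ n : ℕ, 8 ≤ n ∧ Nonempty (P ≃* DihedralGroup n)) ∨ Cfsg.IsQuasiDihedral P := by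
  have : Fact (Nat.Prime 2) := ⟨Nat.prime_two⟩
  obtain ⟨k, hk⟩ := Cfsg.Agent.S0016.exists_orderOf_eq hP hAn hcent hne
  have hk4 : orderOf a = 4 * 2 ^ k := by rw [hk]; ring
  have hno : ∀ W : Subgroup P, W.Normal → IsMulCommutative W → ¬ IsCyclic W → False :=
    fun W h1 h2 h3 => h3 (hn W h1 h2)
  have hapow : a ^ (4 * 2 ^ k) = 1 := by rw [← hk4]; exact pow_orderOf_eq_one a
  -- the element u of order 4
  set u := a ^ 2 ^ k with hu
  have huA : u ∈ zpowers a := npow_mem_zpowers a _
  have huord : orderOf u = 4 := by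
    rw [hu, orderOf_pow_of_dvd (by positivity) (by rw [hk4]; exact ⟨4, by ring⟩), hk4]
    exact Nat.mul_div_cancel _ (by positivity)
  have hu4 : u ^ 4 = 1 := by rw [← huord]; exact pow_orderOf_eq_one u
  have hu2 : u * u ≠ 1 := by
    intro h
    have : orderOf u ∣ 2 := orderOf_dvd_of_pow_eq_one (by rw [pow_two]; exact h)
    rw [huord] at this
    omega
  have huinv : u⁻¹ ≠ u := by
    intro h
    apply hu2
    calc u * u = u⁻¹ * u := by rw [h]
      _ = 1 := inv_mul_cancel u
  -- conjugates of u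
  have hconju : ∀ g : P, g * u * g⁻¹ ∈ zpowers u := by
    intro g
    have h1 : g * u * g⁻¹ ∈ zpowers a := hAn.conj_mem u huA g
    have h2 : orderOf (g * u * g⁻¹) = orderOf u := by
      have := (MulAut.conj g).orderOf_eq u
      rwa [MulAut.conj_apply] at this
    exact mem_zpowers_of_orderOf_eq h1 huA h2
  -- centralizer of u lies in A
  have hP₁ : ∀ x : P, x * u = u * x → x ∈ zpowers a := by
    by_contra hcon
    push Not at hcon
    obtain ⟨x₁, hx₁u, hx₁A⟩ := hcon
    have hUn : (zpowers u).Normal := by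
      constructor
      intro n hn g
      obtain ⟨i, rfl⟩ := mem_zpowers_iff.mp hn
      rw [← conj_zpow]
      exact zpow_mem (hconju g) i
    have hP₁n : (centralizer (zpowers u : Set P)).Normal := Subgroup.normal_centralizer
    have hTA : ¬ centralizer (zpowers u : Set P) ≤ zpowers a := by
      intro h
      exact hx₁A (h (Cfsg.Agent.S0016.mem_centralizer_zpowers_of_comm hx₁u))
    obtain ⟨x, hxT, hxA, hxp, hxc⟩ :=
      exists_central_mod hP (zpowers a) (centralizer (zpowers u : Set P)) hTA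
    have hxu : x * u = u * x := ((mem_centralizer_iff.mp hxT) u (mem_zpowers u)).symm
    have hxx : x * x ∈ zpowers a := by rw [← pow_two]; exact hxp
    have hnorm : x * a * x⁻¹ ∈ zpowers a := hAn.conj_mem a (mem_zpowers a) x
    have hnc : x * a * x⁻¹ ≠ a := by
      intro h
      apply hxA
      apply hcent
      apply Cfsg.Agent.S0016.mem_centralizer_zpowers_of_comm
      calc x * a = (x * a * x⁻¹) * x := by group
        _ = a * x := by rw [h]
    obtain ⟨b, hbA, hxb, hcases⟩ :=
      Cfsg.Agent.Lib.Helper73.cyclic_index_two_core k a x hk4 hnorm hxx hxA hnc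
    -- b commutes with u
    obtain ⟨i, hi⟩ := mem_zpowers_iff.mp hxb
    have hbe : b = x * a ^ i := by rw [hi]; group
    have hau : a ^ i * u = u * a ^ i := by
      rw [hu, ← zpow_natCast, ← zpow_add, ← zpow_add, add_comm]
    have hbu : b * u * b⁻¹ = u := by
      rw [hbe]
      calc x * a ^ i * u * (x * a ^ i)⁻¹ = x * (a ^ i * u) * (a ^ i)⁻¹ * x⁻¹ := by group
        _ = x * (u * a ^ i) * (a ^ i)⁻¹ * x⁻¹ := by rw [hau]
        _ = (x * u) * x⁻¹ := by group
        _ = u * x * x⁻¹ := by rw [hxu]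
        _ = u := by group
    have hbc : QuotientGroup.mk' (zpowers a) b ∈ center (P ⧸ zpowers a) := by
      have : QuotientGroup.mk' (zpowers a) b = QuotientGroup.mk' (zpowers a) x := by
        rw [hbe, map_mul]
        have : QuotientGroup.mk' (zpowers a) (a ^ i) = 1 :=
          (QuotientGroup.eq_one_iff _).mpr (zpow_mem (mem_zpowers a) i)
        rw [this, mul_one]
      rw [this]; exact hxc
    have hconj_pow : ∀ e : ℕ, b * a * b⁻¹ = a ^ e → u = u ^ e := by
      intro e he
      have h1 : b * u * b⁻¹ = u ^ e := by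
        rw [hu, ← conj_pow, he, ← pow_mul, ← pow_mul, mul_comm]
      rw [← h1, hbu]
    have hinvcase : b * a * b⁻¹ = a⁻¹ → False := by
      intro he
      have h1 : b * u * b⁻¹ = u⁻¹ := by
        rw [hu, ← conj_pow, he, inv_pow]
      rw [hbu] at h1
      exact huinv h1.symm
    rcases hcases with ⟨-, h⟩ | ⟨-, h⟩ | ⟨hk1, hb2, h⟩ | ⟨hk1, -, h⟩
    · exact hinvcase h
    · exact hinvcase h
    · obtain ⟨W, h1, h2, h3⟩ := normal_noncyclic_of_modular_two hk1 hAn hk4 hbc hb2 hbA h
      exact hno W h1 h2 h3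
    · have h1 := hconj_pow _ h
      -- u ^ (2 * 2^k - 1) = u⁻¹
      have h2 : u ^ (2 * 2 ^ k - 1) * u = 1 := by
        rw [← pow_succ]
        have e : 2 * 2 ^ k - 1 + 1 = 2 * 2 ^ k := by
          have : 0 < 2 * 2 ^ k := by positivity
          omega
        rw [e, hu, ← pow_mul]
        obtain ⟨j, rfl⟩ : ∃ j, k = j + 1 := ⟨k - 1, by omega⟩
        have : 2 ^ (j + 1) * (2 * 2 ^ (j + 1)) = 4 * 2 ^ (j + 1) * 2 ^ j := by ring
        rw [this, pow_mul, hapow, one_pow]
      rw [← h1] at h2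
      exact hu2 h2
  -- elements outside A invert u
  have hinvu : ∀ g : P, g ∉ zpowers a → g * u * g⁻¹ = u⁻¹ := by
    intro g hg
    obtain ⟨j, hj⟩ := mem_zpowers_iff.mp (hconju g)
    have hmod := zpow_mod_orderOf u j
    rw [huord] at hmod
    have h0 : 0 ≤ j % 4 := Int.emod_nonneg j (by norm_num)
    have h4 : j % 4 < 4 := Int.emod_lt_of_pos j (by norm_num)
    have hord : orderOf (g * u * g⁻¹) = 4 := by
      have := (MulAut.conj g).orderOf_eq u
      rw [MulAut.conj_apply] at this
      rw [this, huord]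
    obtain ⟨m, hm⟩ : ∃ m : ℕ, j % 4 = m := ⟨(j % 4).toNat, (Int.toNat_of_nonneg h0).symm⟩
    have hgu : g * u * g⁻¹ = u ^ m := by
      have hmod' : u ^ (m : ℤ) = u ^ j := by
        rw [← hm]; simpa using hmod
      rw [← hj, ← hmod']; exact zpow_natCast u m
    have hm4 : m < 4 := by omega
    interval_cases m
    · exfalso
      rw [pow_zero] at hgu
      rw [hgu, orderOf_one] at hord
      omega
    · exfalso
      apply hg
      apply hP₁
      rw [pow_one] at hgu
      calc g * u = (g * u * g⁻¹) * g := by group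
        _ = u * g := by rw [hgu]
    · exfalso
      have : (g * u * g⁻¹) ^ 2 = 1 := by
        rw [hgu, ← pow_mul]; exact hu4
      have := orderOf_dvd_of_pow_eq_one this
      rw [hord] at this
      omega
    · rw [hgu]
      apply eq_inv_of_mul_eq_one_left
      rw [← pow_succ]; exact hu4
  have hcoset : ∀ g h : P, g ∉ zpowers a → h ∉ zpowers a → g⁻¹ * h ∈ zpowers a := by
    intro g h hg hh
    apply hP₁
    have h1 := hinvu h hh
    have hg' : g⁻¹ ∉ zpowers a := fun hmem => hg (by simpa using inv_mem hmem)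
    have h2 := hinvu g⁻¹ hg'
    have e1 : h * u = u⁻¹ * h := by
      calc h * u = (h * u * h⁻¹) * h := by group
        _ = u⁻¹ * h := by rw [h1]
    have e2 : g⁻¹ * u⁻¹ = u * g⁻¹ := by
      have h3 : g⁻¹ * u⁻¹ * g⁻¹⁻¹ = u := by
        have : g⁻¹ * u⁻¹ * g⁻¹⁻¹ = (g⁻¹ * u * g⁻¹⁻¹)⁻¹ := by group
        rw [this, h2, inv_inv]
      calc g⁻¹ * u⁻¹ = (g⁻¹ * u⁻¹ * g⁻¹⁻¹) * g⁻¹ := by group
        _ = u * g⁻¹ := by rw [h3]
    calc g⁻¹ * h * u = g⁻¹ * (h * u) := by group
      _ = g⁻¹ * (u⁻¹ * h) := by rw [e1]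
      _ = (g⁻¹ * u⁻¹) * h := by group
      _ = u * g⁻¹ * h := by rw [e2]
      _ = u * (g⁻¹ * h) := by group
  obtain ⟨x, hxA⟩ : ∃ x : P, x ∉ zpowers a := by
    by_contra h
    push Not at h
    exact hne (eq_top_iff.mpr fun y _ => h y)
  have hxinv : x⁻¹ ∉ zpowers a := fun hmem => hxA (by simpa using inv_mem hmem)
  have hxx : x * x ∈ zpowers a := by
    have := hcoset x⁻¹ x hxinv hxA
    simpa using this
  have hnorm : x * a * x⁻¹ ∈ zpowers a := hAn.conj_mem a (mem_zpowers a) x
  have hnc : x * a * x⁻¹ ≠ a := by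
    intro h
    apply hxA
    apply hcent
    apply Cfsg.Agent.S0016.mem_centralizer_zpowers_of_comm
    calc x * a = (x * a * x⁻¹) * x := by group
      _ = a * x := by rw [h]
  obtain ⟨b, hbA, -, hcases⟩ :=
    Cfsg.Agent.Lib.Helper73.cyclic_index_two_core k a x hk4 hnorm hxx hxA hnc
  have hbinvA : b⁻¹ ∉ zpowers a := fun hmem => hbA (by simpa using inv_mem hmem)
  have hall : ∀ y : P, y ∈ zpowers a ∨ b⁻¹ * y ∈ zpowers a := by
    intro y
    by_cases hy : y ∈ zpowers a
    · exact Or.inl hy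
    · exact Or.inr (hcoset b y hbA hy)
  have hidx : (zpowers a).index = 2 := by
    rw [index_eq_two_iff']
    refine ⟨b⁻¹, fun y => ?_⟩
    by_cases hy : y ∈ zpowers a
    · right
      refine ⟨hy, fun h => hbinvA ?_⟩
      have := mul_mem h (inv_mem hy)
      simpa using this
    · left
      exact ⟨hcoset b y hbA hy, hy⟩
  have hcard : Nat.card P = 2 * (4 * 2 ^ k) := by
    rw [← (zpowers a).card_mul_index, hidx, Nat.card_zpowers, hk4]; ring
  have hgen : zpowers a ⊔ zpowers b = ⊤ := by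
    rw [eq_top_iff]
    intro y _
    rcases hall y with h | h
    · exact (le_sup_left : zpowers a ≤ _) h
    · have : y = b * (b⁻¹ * y) := by group
      rw [this]
      exact mul_mem ((le_sup_right : zpowers b ≤ zpowers a ⊔ zpowers b) (mem_zpowers b))
        ((le_sup_left : zpowers a ≤ zpowers a ⊔ zpowers b) h)
  have hb1 : b ≠ 1 := fun h => hbA (h ▸ one_mem _)
  rcases hcases with ⟨hb2, h⟩ | ⟨hb2, h⟩ | ⟨hk1, hb2, h⟩ | ⟨hk1, hb2, h⟩
  · -- dihedral
    right; left
    by_cases hk0 : k = 0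
    · exfalso
      subst hk0
      obtain ⟨W, h1, h2, h3⟩ := normal_noncyclic_of_dihedral_eight hAn
        (by rw [hk4]; norm_num) hall hbA hb2 h
      exact hno W h1 h2 h3
    · refine ⟨4 * 2 ^ k, ?_, ?_⟩
      · obtain ⟨j, rfl⟩ : ∃ j, k = j + 1 := ⟨k - 1, by omega⟩
        have : 1 ≤ 2 ^ j := Nat.one_le_two_pow
        rw [pow_succ]; omega
      · obtain ⟨e⟩ := Cfsg.Agent.Lib.Helper73.dihedral_equiv a b (4 * 2 ^ k) (by positivity)
          hapow hb2 h hgen hcard
        exact ⟨e.symm⟩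
  · -- quaternion
    left
    refine ⟨2 ^ (k + 1), ?_⟩
    exact Cfsg.Agent.Lib.Helper35.nonempty_mulEquiv_quaternionGroup (2 ^ (k + 1)) a b
      (by rw [hk4]; ring) (by rw [← pow_two, hb2, pow_succ']) h hbA hall
  · -- modular: b centralizes u
    exfalso
    apply hbA
    apply hP₁
    have h1 : b * u * b⁻¹ = u := by
      rw [hu, ← conj_pow, h, ← pow_mul]
      obtain ⟨j, rfl⟩ : ∃ j, k = j + 1 := ⟨k - 1, by omega⟩
      have : (1 + 2 * 2 ^ (j + 1)) * 2 ^ (j + 1) = 2 ^ (j + 1) + 4 * 2 ^ (j + 1) * 2 ^ j := by ring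
      rw [this, pow_add, pow_mul, hapow, one_pow, mul_one]
    calc b * u = (b * u * b⁻¹) * b := by group
      _ = u * b := by rw [h1]
  · -- semidihedral
    right; right
    refine ⟨k + 2, by omega, ?_, a, b, hk, orderOf_eq_prime (p := 2) hb2 hb1, ?_⟩
    · rw [hcard]; ring
    · have : k + 2 - 1 = k + 1 := by omega
      rw [this, h, pow_succ']

end two

/-- Let P be a finite p-group in which every abelian normal subgroup is cyclic, but which has a non-cyclic abelian
subgroup. Then p = 2 and P is generalized quaternion, dihedral of order at least 16, or quasi-dihedral. -/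
theorem result {P : Type*} [Group P] [Finite P] (p : ℕ) [Fact p.Prime]
    (hP : IsPGroup p P) (hn : ∀ A : Subgroup P, A.Normal → IsMulCommutative A → IsCyclic A)
    (hm : ∃ B : Subgroup P, IsMulCommutative B ∧ ¬ IsCyclic B) :
    p = 2 ∧ ((∃ n : ℕ, Nonempty (P ≃* QuaternionGroup n)) ∨ (∃ n : ℕ, 8 ≤ n ∧ Nonempty (P ≃* DihedralGroup n)) ∨
      Cfsg.IsQuasiDihedral P) := by
  obtain ⟨A, hAn, hAc, hcent⟩ := Cfsg.Agent.S0016.exists_normal_comm_self_centralizing p hP
  have hAcyc : IsCyclic A := hn A hAn hAc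
  obtain ⟨⟨a, haA⟩, hgen⟩ := hAcyc.exists_generator
  have hAeq : A = Subgroup.zpowers a := by
    apply le_antisymm
    · intro x hx
      have := hgen ⟨x, hx⟩
      obtain ⟨i, hi⟩ := Subgroup.mem_zpowers_iff.mp this
      rw [Subgroup.mem_zpowers_iff]
      exact ⟨i, by simpa using congrArg Subtype.val hi⟩
    · exact Subgroup.zpowers_le.mpr haA
  subst hAeq
  have htop : Subgroup.zpowers a ≠ ⊤ := by
    intro htop
    have hPc : IsCyclic P := isCyclic_iff_exists_zpowers_eq_top.mpr ⟨a, htop⟩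
    obtain ⟨B, -, hB⟩ := hm
    exact hB inferInstance
  by_cases hp2 : p = 2
  · subst hp2
    exact ⟨rfl, two_case hP hn hAn hcent htop⟩
  · exfalso
    obtain ⟨W, h1, h2, h3⟩ := exists_normal_noncyclic_of_odd hp2 hP hAn hcent htop
    exact h3 (hn W h1 h2)

end Cfsg.Agent.S0519
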