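import Cfsg.Statements.S2844
import Mathlib
import Cfsg.Agent.Lib.Helper85.SylowAux
import Cfsg.Agent.Lib.Helper63.SylowConj
import Cfsg.Agent.Lib.Helper46.Ambient
import Cfsg.Agent.Lib.Helper20.ConjMap
-- import your own Cfsg.Agent.* helpers here

set_option autoImplicit false
open Cfsg

namespace Cfsg.Agent.S2844


section Large

open Cfsg.Agent.Lib.Helper85 Cfsg.Agent.Lib.Helper46

variable {H : Type*} [Group H]

/-- conjugates of large subgroups are large -/
theorem isLarge_map_conj {Q : Subgroup H} (hL : Cfsg.IsLarge Q) (g : H) :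
    Cfsg.IsLarge (Q.map (MulAut.conj g).toMonoidHom) := by
  obtain ⟨h1, h2⟩ := hL
  refine ⟨?_, ?_⟩
  · rw [centralizer_map_conj]
    exact Subgroup.map_mono h1
  · intro U hU hU1
    rw [centralizer_map_conj] at hU
    rw [normalizer_map_conj]
    -- pull back `U`
    set U' := U.map (MulAut.conj g⁻¹).toMonoidHom with hU'
    have hUU' : U = U'.map (MulAut.conj g).toMonoidHom := by
      rw [hU', map_conj_map_conj]
      ext x
      simp
    have hU'le : U' ≤ Subgroup.centralizer (Q : Set H) := by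
      have := map_conj_mono hU g⁻¹
      rwa [map_conj_inv_map_conj] at this
    have hU'1 : U' ≠ ⊥ := by
      intro h
      apply hU1
      rw [hUU', h, Subgroup.map_bot]
    have := h2 U' hU'le hU'1
    rw [hUU', normalizer_map_conj]
    exact Subgroup.map_mono this

/-- a normal `p`-subgroup of `K` lies in `O_p(K)` -/
theorem le_pCoreOf {p : ℕ} {A K : Subgroup H} (hAK : A ≤ K)
    (hn : K ≤ Subgroup.normalizer (A : Set H)) (hA : IsPGroup p A) : A ≤ Cfsg.pCoreOf p K := by
  have h1 : (A.subgroupOf K).Normal := by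
    refine ⟨fun x hx k => ?_⟩
    rw [Subgroup.mem_subgroupOf] at hx ⊢
    have := (Subgroup.mem_normalizer_iff.mp (hn k.2) (x : H)).mp hx
    simpa using this
  have h2 : IsPGroup p (A.subgroupOf K) := hA.comap_subtype
  have h3 : A.subgroupOf K ≤ Cfsg.pCore p ↥K := le_pCore h1 h2
  have h4 := Subgroup.map_mono (f := K.subtype) h3
  rw [Subgroup.subgroupOf_map_subtype, inf_of_le_left hAK] at h4
  exact h4

/-- `U ≤ C(Q)` iff `Q ≤ C(U)` -/
theorem le_centralizer_symm {A B : Subgroup H} (h : A ≤ Subgroup.centralizer (B : Set H)) :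
    B ≤ Subgroup.centralizer (A : Set H) := by
  intro b hb
  rw [Subgroup.mem_centralizer_iff]
  intro a ha
  exact ((Subgroup.mem_centralizer_iff.mp (h ha)) b hb).symm

variable [Finite H] {p : ℕ} [Fact p.Prime]

/-- the centre of a nontrivial `p`-subgroup `S`, as a subgroup of the ambient group, is nontrivial -/
theorem center_ne_bot {S : Subgroup H} (hS : IsPGroup p S) (hS1 : S ≠ ⊥) :
    S ⊓ Subgroup.centralizer (S : Set H) ≠ ⊥ := by
  have : Nontrivial S := by
    rw [Subgroup.nontrivial_iff_ne_bot]; exact hS1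
  have hc : Subgroup.center S ≠ ⊥ := (hS.bot_lt_center).ne'
  obtain ⟨⟨z, hz⟩, hz1⟩ := Subgroup.ne_bot_iff_exists_ne_one.mp hc
  intro hbot
  have hmem : (z : H) ∈ S ⊓ Subgroup.centralizer (S : Set H) := by
    refine Subgroup.mem_inf.mpr ⟨z.2, ?_⟩
    rw [Subgroup.mem_centralizer_iff]
    intro s hs
    have := Subgroup.mem_center_iff.mp hz ⟨s, hs⟩
    exact congrArg Subtype.val this
  rw [hbot, Subgroup.mem_bot] at hmem
  apply hz1
  apply Subtype.ext
  apply Subtype.ext
  exact hmem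

omit [Finite H] [Fact p.Prime] in
/-- the normalizer of `A` normalizes `Z(A) = A ⊓ C(A)` -/
theorem normalizer_le_normalizer_center (A : Subgroup H) :
    Subgroup.normalizer (A : Set H) ≤
      Subgroup.normalizer ((A ⊓ Subgroup.centralizer (A : Set H) : Subgroup H) : Set H) := by
  intro x hx
  have h1 : A.map (MulAut.conj x).toMonoidHom = A :=
    Cfsg.Agent.Lib.Helper20.map_conj_eq_iff_mem_normalizer.mpr hx
  rw [← Cfsg.Agent.Lib.Helper20.map_conj_eq_iff_mem_normalizer,
    Subgroup.map_inf _ _ _ (MulAut.conj x).injective, ← centralizer_map_conj, h1]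

/-- A large `p`-subgroup is weakly closed in every Sylow `p`-subgroup containing it. -/
theorem mem_normalizer_of_le_sylow {Q : Subgroup H} (hQ1 : Q ≠ ⊥)
    (hL : Cfsg.IsLarge Q) (S : Sylow p H) (hQS : Q ≤ (S : Subgroup H)) (g : H)
    (hgS : Q.map (MulAut.conj g).toMonoidHom ≤ (S : Subgroup H)) :
    g ∈ Subgroup.normalizer (Q : Set H) := by
  have hS1 : (S : Subgroup H) ≠ ⊥ := by
    intro h
    apply hQ1
    rw [eq_bot_iff, ← h]
    exact hQS
  set Z : Subgroup H := (S : Subgroup H) ⊓ Subgroup.centralizer ((S : Subgroup H) : Set H) with hZ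
  have hZ1 : Z ≠ ⊥ := center_ne_bot S.2 hS1
  have hZQ : Z ≤ Subgroup.centralizer (Q : Set H) :=
    inf_le_right.trans (Subgroup.centralizer_le hQS)
  have hZQg : Z ≤ Subgroup.centralizer ((Q.map (MulAut.conj g).toMonoidHom : Subgroup H) : Set H) :=
    inf_le_right.trans (Subgroup.centralizer_le hgS)
  have hN1 : Subgroup.normalizer (Z : Set H) ≤ Subgroup.normalizer (Q : Set H) := hL.2 Z hZQ hZ1
  have hN2 : Subgroup.normalizer (Z : Set H) ≤
      (Subgroup.normalizer (Q : Set H)).map (MulAut.conj g).toMonoidHom := by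
    rw [← normalizer_map_conj]
    exact (isLarge_map_conj hL g).2 Z hZQg hZ1
  have hNS : Subgroup.normalizer ((S : Subgroup H) : Set H) ≤ Subgroup.normalizer (Z : Set H) :=
    normalizer_le_normalizer_center _
  have hSN : (S : Subgroup H) ≤ Subgroup.normalizer (Z : Set H) := Subgroup.le_normalizer.trans hNS
  -- `S' = g⁻¹ S g ≤ N(Q)`
  set S' := (S : Subgroup H).map (MulAut.conj g⁻¹).toMonoidHom with hS'
  have hS'N : S' ≤ Subgroup.normalizer (Q : Set H) := by
    have := map_conj_mono (hSN.trans hN2) g⁻¹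
    rwa [map_conj_inv_map_conj] at this
  have hS'p : IsPGroup p S' := Cfsg.Agent.Lib.Helper20.isPGroup_map_conj S.2 g⁻¹
  have hidx' : S'.index = (S : Subgroup H).index :=
    Subgroup.index_map_equiv (S : Subgroup H) (MulAut.conj g⁻¹)
  have hi1 : ¬ p ∣ S'.relIndex (Subgroup.normalizer (Q : Set H)) := fun h =>
    S.not_dvd_index (hidx' ▸ h.trans (Subgroup.relIndex_dvd_index_of_le hS'N))
  have hi2 : ¬ p ∣ (S : Subgroup H).relIndex (Subgroup.normalizer (Q : Set H)) := fun h =>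
    S.not_dvd_index (h.trans (Subgroup.relIndex_dvd_index_of_le (hSN.trans hN1)))
  obtain ⟨k, hk, hkS⟩ := Cfsg.Agent.Lib.Helper63.exists_conj_eq_of_relIndex
    (Subgroup.normalizer (Q : Set H)) S' (S : Subgroup H) hS'N (hSN.trans hN1) hS'p S.2 hi1 hi2
  rw [hS', map_conj_map_conj] at hkS
  have hkg : k * g⁻¹ ∈ Subgroup.normalizer ((S : Subgroup H) : Set H) :=
    Cfsg.Agent.Lib.Helper20.map_conj_eq_iff_mem_normalizer.mp hkS.symm
  have hkgQ : k * g⁻¹ ∈ Subgroup.normalizer (Q : Set H) := hN1 (hNS hkg)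
  have : g⁻¹ ∈ Subgroup.normalizer (Q : Set H) := by
    have := (Subgroup.normalizer (Q : Set H)).mul_mem
      ((Subgroup.normalizer (Q : Set H)).inv_mem hk) hkgQ
    simpa using this
  simpa using (Subgroup.normalizer (Q : Set H)).inv_mem this

/-- `C(Q) ∩ C(Q^g) = 1` for `g ∉ N(Q)` -/
theorem centralizer_inf_eq_bot {Q : Subgroup H} (hQp : IsPGroup p Q) (hQ1 : Q ≠ ⊥)
    (hL : Cfsg.IsLarge Q) (g : H) (hg : g ∉ Subgroup.normalizer (Q : Set H)) :
    Subgroup.centralizer (Q : Set H) ⊓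
      Subgroup.centralizer ((Q.map (MulAut.conj g).toMonoidHom : Subgroup H) : Set H) = ⊥ := by
  by_contra hU1
  set U := Subgroup.centralizer (Q : Set H) ⊓
      Subgroup.centralizer ((Q.map (MulAut.conj g).toMonoidHom : Subgroup H) : Set H) with hU
  have hN1 : Subgroup.normalizer (U : Set H) ≤ Subgroup.normalizer (Q : Set H) :=
    hL.2 U inf_le_left hU1
  have hQgU : Q.map (MulAut.conj g).toMonoidHom ≤ Subgroup.normalizer (U : Set H) :=
    (le_centralizer_symm (inf_le_right : U ≤ _)).trans (Subgroup.centralizer_le_normalizer _)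
  have hQgN : Q.map (MulAut.conj g).toMonoidHom ≤ Subgroup.normalizer (Q : Set H) := hQgU.trans hN1
  have hpg : IsPGroup p (Q.map (MulAut.conj g).toMonoidHom) :=
    Cfsg.Agent.Lib.Helper20.isPGroup_map_conj hQp g
  have hsup : IsPGroup p ↥(Q.map (MulAut.conj g).toMonoidHom ⊔ Q) :=
    hpg.to_sup_of_normal_right' hQp hQgN
  obtain ⟨S, hS⟩ := hsup.exists_le_sylow
  exact hg (mem_normalizer_of_le_sylow hQ1 hL S (le_sup_right.trans hS) g (le_sup_left.trans hS))

end Large

/-- Let Q be a nontrivial large p-subgroup of the finite group H and Q• = O_p(N_H(Q)). Then for every g ∈ H outside N_H(Q): C_H(Q) ∩ C_H(gQg⁻¹) = 1, C_H(Q•) ∩ C_H(gQ•g⁻¹) = 1, Z(Q) ∩ Z(gQg⁻¹) = 1 and Z(Q•) ∩ Z(gQ•g⁻¹) = 1; moreover N_H(Q) = N_H(Q•) and Q• is large in H. -/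
theorem result {H : Type*} [Group H] [Finite H] {p : ℕ} [Fact p.Prime] (Q : Subgroup H) (hQp : IsPGroup p ↥Q) (hQ1 : Q ≠ ⊥) (hL : Cfsg.IsLarge Q) (Qb : Subgroup H) (hQb : Qb = Cfsg.largeBullet p Q) : (∀ g : H, g ∉ Subgroup.normalizer ((Q : Subgroup H) : Set H) → Subgroup.centralizer ((Q : Subgroup H) : Set H) ⊓ Subgroup.centralizer ((((Q : Subgroup H).map (MulAut.conj (g : H)).toMonoidHom) : Subgroup H) : Set H) = ⊥ ∧ Subgroup.centralizer ((Qb : Subgroup H) : Set H) ⊓ Subgroup.centralizer ((((Qb : Subgroup H).map (MulAut.conj (g : H)).toMonoidHom) : Subgroup H) : Set H) = ⊥ ∧ (Q ⊓ Subgroup.centralizer ((Q : Subgroup H) : Set H)) ⊓ (((Q : Subgroup H).map (MulAut.conj (g : H)).toMonoidHom) ⊓ Subgroup.centralizer ((((Q : Subgroup H).map (MulAut.conj (g : H)).toMonoidHom) : Subgroup H) : Set H)) = ⊥ ∧ (Qb ⊓ Subgroup.centralizer ((Qb : Subgroup H) : Set H)) ⊓ (((Qb : Subgroup H).map (MulAut.conj (g : H)).toMonoidHom) ⊓ Subgroup.centralizer ((((Qb : Subgroup H).map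 (MulAut.conj (g : H)).toMonoidHom) : Subgroup H) : Set H)) = ⊥) ∧ Subgroup.normalizer ((Q : Subgroup H) : Set H) = Subgroup.normalizer ((Qb : Subgroup H) : Set H) ∧ Cfsg.IsLarge Qb := by
  subst hQb
  have hQQb : Q ≤ Cfsg.largeBullet p Q := le_pCoreOf Subgroup.le_normalizer le_rfl hQp
  have hQbp : IsPGroup p (Cfsg.largeBullet p Q) :=
    Cfsg.Agent.Lib.Helper46.pCoreOf_isPGroup (Subgroup.normalizer (Q : Set H))
  have hQb1 : Cfsg.largeBullet p Q ≠ ⊥ := by
    intro h
    apply hQ1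
    rw [eq_bot_iff, ← h]
    exact hQQb
  have hCQb : Subgroup.centralizer ((Cfsg.largeBullet p Q : Subgroup H) : Set H) ≤
      Subgroup.centralizer (Q : Set H) := Subgroup.centralizer_le hQQb
  have hB : Subgroup.normalizer ((Q : Subgroup H) : Set H) =
      Subgroup.normalizer ((Cfsg.largeBullet p Q : Subgroup H) : Set H) := by
    apply le_antisymm
    · exact Cfsg.Agent.Lib.Helper46.le_normalizer_pCoreOf (Subgroup.normalizer (Q : Set H))
    · have hZ1 := center_ne_bot hQbp hQb1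
      exact (normalizer_le_normalizer_center _).trans (hL.2 _ (inf_le_right.trans hCQb) hZ1)
  have hC : Cfsg.IsLarge (Cfsg.largeBullet p Q) :=
    ⟨hCQb.trans (hL.1.trans hQQb), fun U hU hU1 => (hL.2 U (hU.trans hCQb) hU1).trans hB.le⟩
  refine ⟨fun g hg => ?_, hB, hC⟩
  have hA1 := centralizer_inf_eq_bot hQp hQ1 hL g hg
  have hA2 : Subgroup.centralizer ((Cfsg.largeBullet p Q : Subgroup H) : Set H) ⊓
      Subgroup.centralizer ((((Cfsg.largeBullet p Q : Subgroup H).map
        (MulAut.conj (g : H)).toMonoidHom) : Subgroup H) : Set H) = ⊥ := by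
    rw [eq_bot_iff, ← hA1]
    exact inf_le_inf hCQb (Subgroup.centralizer_le (Subgroup.map_mono hQQb))
  refine ⟨hA1, hA2, ?_, ?_⟩
  · rw [eq_bot_iff, ← hA1]
    exact inf_le_inf inf_le_right inf_le_right
  · rw [eq_bot_iff, ← hA2]
    exact inf_le_inf inf_le_right inf_le_right

end Cfsg.Agent.S2844
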