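import Cfsg.Statements.S2848
import Mathlib
import Cfsg.Agent.S2844
-- import your own Cfsg.Agent.* helpers here

set_option autoImplicit false
open Cfsg

namespace Cfsg.Agent.S2848

section Aux

open Cfsg.Agent.Lib.Helper85 Cfsg.Agent.Lib.Helper46 Cfsg.Agent.Lib.Helper20

variable {G : Type*} [Group G]

/-- conjugation inside a subgroup `L` versus conjugation in the ambient group -/
theorem subgroupOf_map_conj (A L : Subgroup G) (g : ↥L) :
    (A.subgroupOf L).map (MulAut.conj g).toMonoidHom =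
      (A.map (MulAut.conj (g : G)).toMonoidHom).subgroupOf L := by
  ext x
  rw [mem_map_conj_iff, Subgroup.mem_subgroupOf, Subgroup.mem_subgroupOf, mem_map_conj_iff]
  simp

/-- the image in `G` of a normal subgroup of `↥M` is normalized by `M` -/
theorem le_normalizer_map_subtype (M : Subgroup G) (N : Subgroup ↥M) [hn : N.Normal] :
    M ≤ Subgroup.normalizer ((N.map M.subtype : Subgroup G) : Set G) := by
  intro h hh
  rw [Subgroup.mem_normalizer_iff]
  intro x
  constructor
  · rintro ⟨y, hy, rfl⟩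
    exact ⟨⟨h, hh⟩ * y * ⟨h, hh⟩⁻¹, hn.conj_mem y hy ⟨h, hh⟩, rfl⟩
  · rintro ⟨y, hy, hyx⟩
    refine ⟨⟨h, hh⟩⁻¹ * y * ⟨h, hh⟩, ?_, ?_⟩
    · have := hn.conj_mem y hy ⟨h, hh⟩⁻¹
      simpa using this
    · simp only [Subgroup.subtype_apply, Subgroup.coe_mul, Subgroup.coe_inv] at hyx ⊢
      rw [hyx]; group

/-- `N_G(Y) ≤ N_G(C_G(Y))` -/
theorem normalizer_le_normalizer_centralizer (Y : Subgroup G) :
    Subgroup.normalizer (Y : Set G) ≤
      Subgroup.normalizer ((Subgroup.centralizer (Y : Set G) : Subgroup G) : Set G) := by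
  intro x hx
  have h1 : Y.map (MulAut.conj x).toMonoidHom = Y := map_conj_eq_iff_mem_normalizer.mpr hx
  rw [← map_conj_eq_iff_mem_normalizer, ← centralizer_map_conj, h1]

theorem largestPReduced_normal (p : ℕ) (L : Type*) [Group L] :
    (Cfsg.largestPReduced p L).Normal :=
  Subgroup.sSup_normal _ (fun _ h => h.1)

/-- `O_p(L)` centralizes every `p`-reduced normal subgroup, hence `Y_L`. -/
theorem pCore_le_centralizer_largestPReduced (p : ℕ) (L : Type*) [Group L] :
    Cfsg.pCore p L ≤ Subgroup.centralizer ((Cfsg.largestPReduced p L : Subgroup L) : Set L) := by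
  have key : ∀ V : Subgroup L, Cfsg.IsPReducedNormal p V →
      V ≤ Subgroup.centralizer ((Cfsg.pCore p L : Subgroup L) : Set L) := by
    intro V hV
    obtain ⟨_, _, hn, hcore⟩ := hV
    apply Cfsg.Agent.S2844.le_centralizer_symm
    have h1 : (Cfsg.pCore p L).map (QuotientGroup.mk' (Subgroup.centralizer (V : Set L))) ≤
        Cfsg.pCore p (L ⧸ Subgroup.centralizer (V : Set L)) := by
      apply le_pCore
      · exact (pCore_normal (G := L) (p := p)).map _ (QuotientGroup.mk'_surjective _)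
      · exact (pCore_isPGroup (G := L) (p := p)).map _
    rw [hcore] at h1
    intro x hx
    have h2 : (QuotientGroup.mk' (Subgroup.centralizer (V : Set L))) x ∈
        (⊥ : Subgroup (L ⧸ Subgroup.centralizer (V : Set L))) := h1 (Subgroup.mem_map_of_mem _ hx)
    rw [Subgroup.mem_bot] at h2
    have h3 : x ∈ (QuotientGroup.mk' (Subgroup.centralizer (V : Set L))).ker := h2
    rwa [QuotientGroup.ker_mk'] at h3
  apply Cfsg.Agent.S2844.le_centralizer_symm
  unfold Cfsg.largestPReduced
  exact sSup_le (fun V hV => key V hV)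

end Aux

/-- Standing hypotheses: G a finite group, S a Sylow p-subgroup, Q a nontrivial large p-subgroup of G contained in S (C_G(Q) ≤ Q and N_G(U) ≤ N_G(Q) for all nontrivial U ≤ C_G(Q)), and M a subgroup containing S with the basic property (M ∈ 𝔐_G(S)); Y_M denotes the largest p-reduced normal subgroup of M and M† = M·C_G(Y_M). Then O_p(M) is a weakly closed subgroup of M† (for p): it is the only M†-conjugate of itself inside some Sylow p-subgroup of M† containing it. -/
theorem result {G : Type*} [Group G] [Finite G] {p : ℕ} [Fact p.Prime] (S : Sylow p G) (Q : Subgroup G) (hQp : IsPGroup p ↥Q) (hQ1 : Q ≠ ⊥) (hQS : Q ≤ (S : Subgroup G)) (hQ : Cfsg.IsLarge Q) (M : Subgroup G) (hSM : (S : Subgroup G) ≤ M) (hM : Cfsg.IsInFrakM p M) : Cfsg.IsWeaklyClosedSubgroup p (((Cfsg.pCoreOf p M)).subgroupOf (M ⊔ Subgroup.centralizer (((Cfsg.largestPReducedOf p M) : Subgroup G) : Set G))) := by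
  classical
  obtain ⟨_, _, _, _, hcl, _⟩ := hM
  set Y : Subgroup G := Cfsg.largestPReducedOf p M with hY
  set D : Subgroup G := Subgroup.centralizer (Y : Set G) with hD
  set O : Subgroup G := Cfsg.pCoreOf p M with hO
  set L : Subgroup G := M ⊔ D with hL
  have hML : M ≤ L := le_sup_left
  have hSL : (S : Subgroup G) ≤ L := hSM.trans hML
  -- (F1) O ≤ S
  have hOS : O ≤ (S : Subgroup G) := by
    apply Cfsg.Agent.Lib.Helper46.pCoreOf_le_of_isSylIn
    refine ⟨S.subtype hSM, ?_⟩
    rw [Sylow.coe_subtype, Subgroup.map_subgroupOf_eq_of_le hSM]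
  have hOp : IsPGroup p O := Cfsg.Agent.Lib.Helper46.pCoreOf_isPGroup M
  -- (F2) O ≤ D
  have hOD : O ≤ D := by
    rintro _ ⟨x, hx, rfl⟩
    rw [hD, Subgroup.mem_centralizer_iff]
    rintro _ ⟨y, hy, rfl⟩
    have h1 := pCore_le_centralizer_largestPReduced p ↥M hx
    rw [Subgroup.mem_centralizer_iff] at h1
    have h2 := h1 y hy
    have h3 := congrArg (M.subtype) h2
    simpa using h3
  -- (F4) L ≤ N(D)
  have hMY : M ≤ Subgroup.normalizer (Y : Set G) := by
    haveI := largestPReduced_normal p ↥M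
    exact le_normalizer_map_subtype M (Cfsg.largestPReduced p ↥M)
  have hMD : M ≤ Subgroup.normalizer (D : Set G) :=
    hMY.trans (normalizer_le_normalizer_centralizer Y)
  have hLD : L ≤ Subgroup.normalizer (D : Set G) :=
    sup_le hMD Subgroup.le_normalizer
  -- (F3) S ⊓ D ≤ O
  have hSDO : (S : Subgroup G) ⊓ D ≤ O := by
    set E : Subgroup G := M ⊓ D with hE
    have hSDE : (S : Subgroup G) ⊓ D ≤ E := inf_le_inf_right D hSM
    have hSDp : IsPGroup p ((S : Subgroup G) ⊓ D : Subgroup G) :=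
      S.isPGroup'.to_le inf_le_left
    have hp' : IsPGroup p (((S : Subgroup G) ⊓ D).subgroupOf E) := hSDp.comap_subtype
    obtain ⟨P, hP⟩ := hp'.exists_le_sylow
    have hPn : (P : Subgroup ↥E).Normal := hcl P
    have hPcore : (P : Subgroup ↥E) ≤ Cfsg.pCore p ↥E :=
      Cfsg.Agent.Lib.Helper46.le_pCore hPn P.isPGroup'
    have h1 : (S : Subgroup G) ⊓ D ≤ Cfsg.pCoreOf p E := by
      intro x hx
      exact ⟨⟨x, hSDE hx⟩, hPcore (hP (by rw [Subgroup.mem_subgroupOf]; exact hx)), rfl⟩
    have hEM : E ≤ M := inf_le_left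
    have hMnE : M ≤ Subgroup.normalizer ((Cfsg.pCoreOf p E : Subgroup G) : Set G) := by
      intro m hm
      rw [← Cfsg.Agent.Lib.Helper20.map_conj_eq_iff_mem_normalizer]
      have h2 : E.map (MulAut.conj m).toMonoidHom = E := by
        rw [hE, Subgroup.map_inf _ _ _ (MulAut.conj m).injective,
          Cfsg.Agent.Lib.Helper20.map_conj_eq_of_mem hm,
          Cfsg.Agent.Lib.Helper20.map_conj_eq_iff_mem_normalizer.mpr (hMD hm)]
      have h3 := Cfsg.Agent.Lib.Helper46.pCoreOf_map (p := p) E (MulAut.conj m)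
      rw [h2] at h3
      exact h3.symm
    have h4 : Cfsg.pCoreOf p E ≤ O :=
      Cfsg.Agent.S2844.le_pCoreOf ((Cfsg.Agent.Lib.Helper46.pCoreOf_le E).trans hEM) hMnE
        (Cfsg.Agent.Lib.Helper46.pCoreOf_isPGroup E)
    exact h1.trans h4
  -- main
  refine ⟨S.subtype hSL, ?_, ?_⟩
  · rw [Sylow.coe_subtype]
    intro x hx
    rw [Subgroup.mem_subgroupOf] at hx ⊢
    exact hOS hx
  · intro g hg
    rw [Sylow.coe_subtype, subgroupOf_map_conj] at hg
    rw [subgroupOf_map_conj]
    have hgS : O.map (MulAut.conj (g : G)).toMonoidHom ≤ (S : Subgroup G) := by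
      intro x hx
      have hxL : x ∈ L := by
        obtain ⟨y, hy, rfl⟩ := hx
        have hyL : y ∈ L := hML (Cfsg.Agent.Lib.Helper46.pCoreOf_le M hy)
        exact L.mul_mem (L.mul_mem g.2 hyL) (L.inv_mem g.2)
      have := hg (show (⟨x, hxL⟩ : ↥L) ∈ (O.map (MulAut.conj (g : G)).toMonoidHom).subgroupOf L from by
        rw [Subgroup.mem_subgroupOf]; exact hx)
      rw [Subgroup.mem_subgroupOf] at this
      exact this
    have hgD : O.map (MulAut.conj (g : G)).toMonoidHom ≤ D := by
      have h1 : D.map (MulAut.conj (g : G)).toMonoidHom = D :=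
        Cfsg.Agent.Lib.Helper20.map_conj_eq_iff_mem_normalizer.mpr (hLD g.2)
      calc O.map (MulAut.conj (g : G)).toMonoidHom ≤ D.map (MulAut.conj (g : G)).toMonoidHom :=
            Subgroup.map_mono hOD
        _ = D := h1
    have hle : O.map (MulAut.conj (g : G)).toMonoidHom ≤ O := (le_inf hgS hgD).trans hSDO
    have heq : O.map (MulAut.conj (g : G)).toMonoidHom = O := by
      apply Subgroup.eq_of_le_of_card_ge hle
      rw [Cfsg.Agent.Lib.Helper20.card_map_conj]
    rw [heq]

end Cfsg.Agent.S2848
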