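import Cfsg.Statements.S2849
import Mathlib
import Cfsg.Agent.S2848
-- import your own Cfsg.Agent.* helpers here

set_option autoImplicit false
open Cfsg
open scoped commutatorElement

namespace Cfsg.Agent.S2849

section Aux

open Cfsg.Agent.Lib.Helper85 Cfsg.Agent.Lib.Helper46 Cfsg.Agent.Lib.Helper20

variable {G : Type*} [Group G]

/-- the closure of a set of pairwise commuting elements of exponent `p` is elementary abelian -/
theorem isElementaryAbelian_closure {p : ℕ} {s : Set G}
    (hcomm : ∀ x ∈ s, ∀ y ∈ s, x * y = y * x) (hp : ∀ x ∈ s, x ^ p = 1) :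
    Cfsg.IsElementaryAbelian p (Subgroup.closure s) := by
  have hc := Subgroup.isMulCommutative_closure hcomm
  refine ⟨hc, ?_⟩
  intro a ha
  induction ha using Subgroup.closure_induction with
  | mem x hx => exact hp x hx
  | one => exact one_pow p
  | mul x y hx hy ihx ihy =>
    have hxy : Commute x y := by
      have := hc.is_comm.comm ⟨x, hx⟩ ⟨y, hy⟩
      exact congrArg Subtype.val this
    rw [hxy.mul_pow, ihx, ihy, one_mul]
  | inv x hx ihx => rw [inv_pow, ihx, inv_one]

theorem isElementaryAbelian_map {p : ℕ} {A : Subgroup G} (hA : Cfsg.IsElementaryAbelian p A)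
    {G' : Type*} [Group G'] (f : G →* G') : Cfsg.IsElementaryAbelian p (A.map f) := by
  obtain ⟨hc, hp⟩ := hA
  refine ⟨Subgroup.map_isMulCommutative A f, ?_⟩
  rintro _ ⟨a, ha, rfl⟩
  rw [← map_pow, hp a ha, map_one]

/-- `Y_L` is elementary abelian -/
theorem largestPReduced_isElementaryAbelian (p : ℕ) (L : Type*) [Group L] :
    Cfsg.IsElementaryAbelian p (Cfsg.largestPReduced p L) := by
  set s : Set L := {a : L | ∃ V : Subgroup L, Cfsg.IsPReducedNormal p V ∧ a ∈ V} with hs
  have h1 : Cfsg.largestPReduced p L = Subgroup.closure s := by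
    apply le_antisymm
    · unfold Cfsg.largestPReduced
      apply sSup_le
      intro V hV a ha
      exact Subgroup.subset_closure ⟨V, hV, ha⟩
    · rw [Subgroup.closure_le]
      rintro a ⟨V, hV, ha⟩
      exact (le_sSup (show V ∈ {V : Subgroup L | Cfsg.IsPReducedNormal p V} from hV)) ha
  have h2 : Cfsg.largestPReduced p L ≤ Cfsg.pCore p L := by
    unfold Cfsg.largestPReduced
    apply sSup_le
    intro V hV
    apply le_pCore hV.1
    intro a
    refine ⟨1, ?_⟩
    have := hV.2.1.2 (a : L) a.2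
    rw [pow_one]
    exact Subtype.ext this
  have h3 := Cfsg.Agent.S2848.pCore_le_centralizer_largestPReduced p L
  rw [h1]
  apply isElementaryAbelian_closure
  · intro x hx y hy
    have hx' : x ∈ Cfsg.largestPReduced p L := by rw [h1]; exact Subgroup.subset_closure hx
    have hy' : y ∈ Cfsg.largestPReduced p L := by rw [h1]; exact Subgroup.subset_closure hy
    have := Subgroup.mem_centralizer_iff.mp (h3 (h2 hx')) y hy'
    exact this.symm
  · rintro x ⟨V, hV, hx⟩
    exact hV.2.1.2 x hx

end Aux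

/-- Standing hypotheses: G a finite group, S a Sylow p-subgroup, Q a nontrivial large p-subgroup of G contained in S (C_G(Q) ≤ Q and N_G(U) ≤ N_G(Q) for all nontrivial U ≤ C_G(Q)), and M a subgroup containing S with the basic property (M ∈ 𝔐_G(S)); Y_M denotes the largest p-reduced normal subgroup of M and M† = M·C_G(Y_M). Suppose Y_M is asymmetric in G. Then for every subgroup R with Y_M ≤ R ≤ M†, the normal closure of Y_M in N_G(R) is elementary abelian. -/
theorem result {G : Type*} [Group G] [Finite G] {p : ℕ} [Fact p.Prime] (S : Sylow p G) (Q : Subgroup G) (hQp : IsPGroup p ↥Q) (hQ1 : Q ≠ ⊥) (hQS : Q ≤ (S : Subgroup G)) (hQ : Cfsg.IsLarge Q) (M : Subgroup G) (hSM : (S : Subgroup G) ≤ M) (hM : Cfsg.IsInFrakM p M) (hasym : ¬ Cfsg.IsSymmetricIn (Cfsg.largestPReducedOf p M)) (R : Subgroup G) (hYR : (Cfsg.largestPReducedOf p M) ≤ R) (hRM : R ≤ (M ⊔ Subgroup.centralizer (((Cfsg.largestPReducedOf p M) : Subgroup G) : Set G))) : Cfsg.IsElementaryAbelian p ((Subgroup.normalClosure ((((Cfsg.largestPReducedOf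 p M)).subgroupOf (Subgroup.normalizer ((R : Subgroup G) : Set G)) : Subgroup ↥(Subgroup.normalizer ((R : Subgroup G) : Set G))) : Set ↥(Subgroup.normalizer ((R : Subgroup G) : Set G)))).map (Subgroup.normalizer ((R : Subgroup G) : Set G)).subtype) := by
  classical
  set Y : Subgroup G := Cfsg.largestPReducedOf p M with hY
  set N : Subgroup G := Subgroup.normalizer (R : Set G) with hN
  -- Y is elementary abelian
  have hYea : Cfsg.IsElementaryAbelian p Y :=
    isElementaryAbelian_map (largestPReduced_isElementaryAbelian p ↥M) M.subtype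
  -- M† normalizes Y
  have hMY : M ≤ Subgroup.normalizer (Y : Set G) := by
    have := Cfsg.Agent.S2848.largestPReduced_normal p ↥M
    exact Cfsg.Agent.S2848.le_normalizer_map_subtype M (Cfsg.largestPReduced p ↥M)
  have hDY : Subgroup.centralizer (Y : Set G) ≤ Subgroup.normalizer (Y : Set G) := by
    intro x hx
    rw [Subgroup.mem_normalizer_iff]
    intro y
    constructor
    · intro hy
      have := Subgroup.mem_centralizer_iff.mp hx y hy
      rw [← this, mul_inv_cancel_right]; exact hy
    · intro hy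
      have h1 := Subgroup.mem_centralizer_iff.mp hx _ hy
      have h2 : x * y * x⁻¹ = y := by
        have h3 : x * y * x⁻¹ * x = x * y := by group
        rw [h3] at h1
        exact (mul_left_cancel h1).symm
      rw [h2] at hy; exact hy
  have hMdY : M ⊔ Subgroup.centralizer (Y : Set G) ≤ Subgroup.normalizer (Y : Set G) :=
    sup_le hMY hDY
  -- key: N-conjugates of Y commute with Y
  have key : ∀ g ∈ N, ⁅Y, Y.map (MulAut.conj g).toMonoidHom⁆ = ⊥ := by
    intro g hg
    by_contra hne
    apply hasym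
    refine ⟨g, hne, ?_⟩
    have hRg : R.map (MulAut.conj g).toMonoidHom = R :=
      Cfsg.Agent.Lib.Helper20.map_conj_eq_iff_mem_normalizer.mpr hg
    have hYgN : Y.map (MulAut.conj g).toMonoidHom ≤ Subgroup.normalizer (Y : Set G) := by
      calc Y.map (MulAut.conj g).toMonoidHom ≤ R.map (MulAut.conj g).toMonoidHom :=
            Subgroup.map_mono hYR
        _ = R := hRg
        _ ≤ _ := hRM.trans hMdY
    have hYNg : Y ≤ Subgroup.normalizer
        ((Y.map (MulAut.conj g).toMonoidHom : Subgroup G) : Set G) := by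
      rw [Cfsg.Agent.Lib.Helper85.normalizer_map_conj]
      calc Y ≤ R := hYR
        _ = R.map (MulAut.conj g).toMonoidHom := hRg.symm
        _ ≤ _ := Subgroup.map_mono (hRM.trans hMdY)
    refine le_inf ?_ ?_
    · rw [Subgroup.commutator_le]
      intro y hy z hz
      have h1 : z * y⁻¹ * z⁻¹ ∈ Y :=
        (Subgroup.mem_normalizer_iff.mp (hYgN hz) y⁻¹).mp (Y.inv_mem hy)
      have h2 := Y.mul_mem hy h1
      have h3 : ⁅y, z⁆ = y * (z * y⁻¹ * z⁻¹) := by
        rw [commutatorElement_def]; group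
      rw [h3]; exact h2
    · rw [Subgroup.commutator_le]
      intro y hy z hz
      have h1 : y * z * y⁻¹ ∈ Y.map (MulAut.conj g).toMonoidHom :=
        (Subgroup.mem_normalizer_iff.mp (hYNg hy) z).mp hz
      have h2 := (Y.map (MulAut.conj g).toMonoidHom).mul_mem h1
        ((Y.map (MulAut.conj g).toMonoidHom).inv_mem hz)
      rw [commutatorElement_def]; exact h2
  have key2 : ∀ g ∈ N, ∀ y ∈ Y, ∀ z ∈ Y, y * (g * z * g⁻¹) = (g * z * g⁻¹) * y := by
    intro g hg y hy z hz
    have h1 := (Subgroup.commutator_eq_bot_iff_le_centralizer.mp (key g hg)) hy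
    have h2 := Subgroup.mem_centralizer_iff.mp h1 (g * z * g⁻¹) ⟨z, hz, rfl⟩
    exact h2.symm
  apply isElementaryAbelian_map
  unfold Subgroup.normalClosure
  apply isElementaryAbelian_closure
  · intro x hx x' hx'
    rw [Group.mem_conjugatesOfSet_iff] at hx hx'
    obtain ⟨b, hb, hbx⟩ := hx
    obtain ⟨b', hb', hbx'⟩ := hx'
    rw [isConj_iff] at hbx hbx'
    obtain ⟨c, rfl⟩ := hbx
    obtain ⟨c', rfl⟩ := hbx'
    have hb0 : (b : G) ∈ Y := hb
    have hb0' : (b' : G) ∈ Y := hb'
    have h := key2 ((c : G)⁻¹ * c') (N.mul_mem (N.inv_mem c.2) c'.2) b hb0 b' hb0'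
    apply Subtype.ext
    simp only [Subgroup.coe_mul, Subgroup.coe_inv]
    calc (c : G) * b * (c : G)⁻¹ * (c' * b' * (c' : G)⁻¹)
        = c * ((b : G) * ((c : G)⁻¹ * c' * b' * ((c : G)⁻¹ * c')⁻¹)) * (c : G)⁻¹ := by group
      _ = c * (((c : G)⁻¹ * c' * b' * ((c : G)⁻¹ * c')⁻¹) * (b : G)) * (c : G)⁻¹ := by rw [h]
      _ = c' * b' * (c' : G)⁻¹ * (c * b * (c : G)⁻¹) := by group
  · intro x hx
    rw [Group.mem_conjugatesOfSet_iff] at hx
    obtain ⟨b, hb, hbx⟩ := hx
    rw [isConj_iff] at hbx
    obtain ⟨c, rfl⟩ := hbx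
    have hb0 : (b : G) ∈ Y := hb
    have hbp : b ^ p = 1 := Subtype.ext (by simpa using hYea.2 (b : G) hb0)
    rw [conj_pow, hbp, mul_one, mul_inv_cancel]

end Cfsg.Agent.S2849
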