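import Cfsg.Statements.S1450
import Cfsg.Agent.Lib.Helper24.OddSolvableStructure
import Cfsg.Agent.Lib.Helper24.RankTwoGen
import Cfsg.Agent.Lib.Helper24.RankTwoPrelude
-- import your own Cfsg.Agent.* helpers here

set_option autoImplicit false
open Cfsg

namespace Cfsg.Agent.S1450

open Cfsg.Agent.Lib.Helper24 in
/-- Let G be a solvable group of odd order, p a prime dividing its order with G having no elementary abelian subgroup of order p ^ 3. Then every prime dividing the index of O_{p'}(G) is at most p; if p = 3 or p is the smallest prime divisor of #G then G has a normal p-complement; the derived subgroup G' has a normal p-complement; every subgroup of G' of order coprime to p lies in O_{p'}(G'); and G/O_{p',p}(G) is abelian of order coprime to p. -/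
theorem result {G : Type*} [Group G] [Finite G] [Group.IsSolvable G] (hodd : Odd (Nat.card G)) (p : ℕ) [Fact p.Prime] (hpG : p ∣ Nat.card G) (hr : Cfsg.PRankLE p 2 G) :
    (∀ q : ℕ, q.Prime → q ∣ (Cfsg.pPrimeCore p G).index → q ≤ p) ∧
      ((p = 3 ∨ ∀ q : ℕ, q.Prime → q ∣ Nat.card G → p ≤ q) → Cfsg.HasNormalPComplement p G) ∧
      Cfsg.HasNormalPComplement p ↥(commutator G) ∧
      (∀ L : Subgroup ↥(commutator G), (Nat.card L).Coprime p → L ≤ Cfsg.pPrimeCore p ↥(commutator G)) ∧
      commutator G ≤ Cfsg.pPrimePCore p G ∧ ((Cfsg.pPrimePCore p G).index).Coprime p := by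
  have hp : Fact p.Prime := inferInstance
  have hp2 : p ≠ 2 := by
    rintro rfl
    exact (Nat.not_even_iff_odd.mpr hodd) (even_iff_two_dvd.mpr hpG)
  have hK : (Nat.card (pPrimeCore p G)).Coprime p :=
    Cfsg.Agent.Lib.Helper55.card_pPrimeCore_coprime p
  have hrq : Cfsg.PRankLE p 2 (G ⧸ pPrimeCore p G) := pRankLE_quotient p 2 _ hK hr
  have hrank : RankLETwo p (pCore p (G ⧸ pPrimeCore p G)) :=
    (rankLETwo_top_of_pRankLE p hrq).mono le_top
  have hPp : IsPGroup p (pCore p (G ⧸ pPrimeCore p G)) :=
    Cfsg.Agent.Lib.Helper55.isPGroup_pCore p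
  have hoddq : Odd (Nat.card (G ⧸ pPrimeCore p G)) := by
    have h1 : Nat.card (G ⧸ pPrimeCore p G) ∣ Nat.card G := by
      rw [← Subgroup.index_eq_card]
      exact Subgroup.index_dvd_card _
    exact Odd.of_dvd_nat hodd h1
  apply odd_solvable_structure p hodd
  · -- H1
    intro x hx hcop r hr'
    have hsolv : Group.IsSolvable (⊤ : Subgroup (G ⧸ pPrimeCore p G)) :=
      Group.isSolvable_of_isSolvable_injective (Subgroup.subtype_injective _)
    have hoddtop : Odd (Nat.card (⊤ : Subgroup (G ⧸ pPrimeCore p G))) := by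
      rw [Subgroup.card_top]; exact hoddq
    refine centralizes_of_rankLETwo p hp2 ⊤ hoddtop _ hPp hrank ?_ x ?_ hcop r hr'
    · rw [Subgroup.normalizer_eq_top]
    · rw [← commutator_def]; exact hx
  · -- H2
    intro x hxp hlt r hr'
    have hq2 : orderOf x ≠ 2 := by
      intro h2
      have h1 : orderOf x ∣ Nat.card (G ⧸ pPrimeCore p G) := orderOf_dvd_natCard x
      rw [h2] at h1
      exact (Nat.not_even_iff_odd.mpr hoddq) (even_iff_two_dvd.mpr h1)
    have hcop := coprime_card_GL2_of_lt p (orderOf x) hp.out hxp hp2 hq2 hlt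
    refine centralizes_of_rankLETwo_of_coprime_card_GL2 p hp2 x hcop _ hPp hrank ?_ r hr'
    rw [Subgroup.normalizer_eq_top]
    exact Subgroup.mem_top x

end Cfsg.Agent.S1450
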