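import Cfsg.Statements.S3745
-- import your own Cfsg.Agent.* helpers here
import Cfsg.Agent.Lib.Helper62.PiHall
import Cfsg.Agent.Lib.Helper62.Glauberman
import Cfsg.Agent.Lib.Helper97.Cores

set_option autoImplicit false
open Cfsg

namespace Cfsg.Agent.S3745

open Pointwise
open Cfsg.Agent.Lib.Helper62 Cfsg.Agent.Lib.Helper54

universe u

section

variable {G : Type*} [Group G]

lemma card_mul_card_le [Finite G] (H K : Subgroup G) :
    Nat.card H * Nat.card K ≤ Nat.card (H ⊔ K : Subgroup G) * Nat.card (H ⊓ K : Subgroup G) := by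
  have h1 : Nat.card (H ⊓ K : Subgroup G) * (H ⊓ K).relIndex K = Nat.card K :=
    card_mul_relIndex inf_le_right
  have h2 : Nat.card H * H.relIndex (H ⊔ K) = Nat.card (H ⊔ K : Subgroup G) :=
    card_mul_relIndex le_sup_left
  have h3 : (H ⊓ K).relIndex K = H.relIndex K := Subgroup.inf_relIndex_right H K
  have h4 : H.relIndex K ≤ H.relIndex (H ⊔ K) :=
    Subgroup.relIndex_le_of_le_right le_sup_right (by
      have : (H.subgroupOf (H ⊔ K)).FiniteIndex := inferInstance
      exact this.index_ne_zero)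
  rw [← h1, ← h2, h3]
  calc Nat.card H * (Nat.card (H ⊓ K : Subgroup G) * H.relIndex K)
      ≤ Nat.card H * (Nat.card (H ⊓ K : Subgroup G) * H.relIndex (H ⊔ K)) := by gcongr
    _ = _ := by ring

lemma le_normalizer_sup {A U N : Subgroup G} (hU : A ≤ Subgroup.normalizer (U : Set G))
    (hN : A ≤ Subgroup.normalizer (N : Set G)) :
    A ≤ Subgroup.normalizer ((U ⊔ N : Subgroup G) : Set G) := by
  intro a ha
  rw [mem_normalizer_iff_conj_smul, Subgroup.smul_sup,
    mem_normalizer_iff_conj_smul.mp (hU ha), mem_normalizer_iff_conj_smul.mp (hN ha)]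

lemma isPiNum_of_isPGroup [Finite G] {π : Set ℕ} {q : ℕ} [Fact q.Prime] {N : Subgroup G}
    (hN : IsPGroup q N) (hq : q ∈ π) : IsPiNum π (Nat.card N) := by
  obtain ⟨j, hj⟩ := IsPGroup.iff_card.mp hN
  intro p hp hpd
  rw [hj] at hpd
  have := (Nat.prime_dvd_prime_iff_eq hp Fact.out).mp (hp.dvd_of_dvd_pow hpd)
  rw [this]; exact hq

lemma isPiPrimeNum_of_isPGroup [Finite G] {π : Set ℕ} {q : ℕ} [Fact q.Prime] {N : Subgroup G}
    (hN : IsPGroup q N) (hq : q ∉ π) : IsPiPrimeNum π (Nat.card N) := by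
  obtain ⟨j, hj⟩ := IsPGroup.iff_card.mp hN
  intro p hp hpπ hpd
  rw [hj] at hpd
  have := (Nat.prime_dvd_prime_iff_eq hp Fact.out).mp (hp.dvd_of_dvd_pow hpd)
  rw [this] at hpπ; exact hq hpπ

end

/-- Part (c) for a normal subgroup `K` of the ambient group, by induction on `|K|`. -/
theorem dom_aux (π : Set ℕ) : ∀ (k : ℕ) (Γ : Type u) [Group Γ] [Finite Γ] (K A U : Subgroup Γ),
    K.Normal → Nat.card K = k → Group.IsSolvable K → (Nat.card A).Coprime (Nat.card K) →
    U ≤ K → A ≤ Subgroup.normalizer (U : Set Γ) → IsPiNum π (Nat.card U) →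
    ∃ H : Subgroup Γ, IsPiHallOf π H K ∧ A ≤ Subgroup.normalizer (H : Set Γ) ∧ U ≤ H := by
  intro k
  induction k using Nat.strong_induction_on with
  | _ k ih =>
    intro Γ _ _ K A U hKn hk hKs hcop hUK hAU hUπ
    subst hk
    haveI := hKn
    by_cases hK1 : K = ⊥
    · subst hK1
      refine ⟨⊥, ⟨le_rfl, ?_, ?_⟩, ?_, hUK⟩
      · rw [Subgroup.card_bot]; exact isPiNum_one
      · rw [Subgroup.relIndex_self]; exact isPiPrimeNum_one
      · rw [Subgroup.normalizer_eq_top]; exact le_top
    haveI : Nontrivial ↥K := (Subgroup.nontrivial_iff_ne_bot K).mpr hK1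
    haveI := hKs
    obtain ⟨q, M₀, hq, hM₀n, hM₀1, hM₀q, -⟩ :=
      Cfsg.Agent.Lib.Helper1.exists_normal_pSubgroup_of_isSolvable (G := ↥K)
    haveI : Fact q.Prime := ⟨hq⟩
    set N : Subgroup Γ := (pCore q ↥K).map K.subtype with hN
    have hNn : N.Normal := ConjAct.normal_of_characteristic_of_normal
    haveI := hNn
    have hNK : N ≤ K := Subgroup.map_subtype_le _
    have hN1 : N ≠ ⊥ := by
      intro h
      rw [hN, Subgroup.map_eq_bot_iff_of_injective _ K.subtype_injective] at h
      have := Cfsg.Agent.Lib.Helper97.le_pCore_of_normal hM₀n hM₀q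
      rw [h, le_bot_iff] at this
      exact hM₀1 this
    have hNq : IsPGroup q N := (Cfsg.Agent.Lib.Helper97.isPGroup_pCore q ↥K).map _
    -- the quotient
    let φ : Γ →* Γ ⧸ N := QuotientGroup.mk' N
    have hφs : Function.Surjective φ := QuotientGroup.mk'_surjective N
    have hKbn : (K.map φ).Normal := hKn.map φ hφs
    have hcardK : Nat.card K = Nat.card N * Nat.card (K.map φ) :=
      Cfsg.Agent.Lib.Helper1.card_eq_card_mul_card_map_of_le hNK
    have hNcard : 1 < Nat.card N := N.one_lt_card_iff_ne_bot.mpr hN1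
    have hlt : Nat.card (K.map φ) < Nat.card K := by
      rw [hcardK]
      exact lt_mul_of_one_lt_left Nat.card_pos hNcard
    have hKbs : Group.IsSolvable (K.map φ) := Cfsg.Agent.Lib.Helper1.isSolvable_map φ K
    have hcop' : (Nat.card (A.map φ)).Coprime (Nat.card (K.map φ)) :=
      (hcop.coprime_dvd_left (Subgroup.card_map_dvd A φ)).coprime_dvd_right
        (Subgroup.card_map_dvd K φ)
    have hUbKb : U.map φ ≤ K.map φ := Subgroup.map_mono hUK
    have hAbUb : A.map φ ≤ Subgroup.normalizer ((U.map φ : Subgroup (Γ ⧸ N)) : Set (Γ ⧸ N)) :=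
      (Subgroup.map_mono hAU).trans (Subgroup.le_normalizer_map φ)
    have hUbπ : IsPiNum π (Nat.card (U.map φ)) := hUπ.of_dvd (Subgroup.card_map_dvd U φ)
    obtain ⟨Hb, hHb, hAbHb, hUbHb⟩ := ih _ hlt (Γ ⧸ N) (K.map φ) (A.map φ) (U.map φ) hKbn rfl hKbs
      hcop' hUbKb hAbUb hUbπ
    set L : Subgroup Γ := Hb.comap φ with hLdef
    have hNL : N ≤ L := Cfsg.Agent.Lib.Helper1.le_comap_mk'_of_le N Hb
    have hLK : L ≤ K := by
      have := Subgroup.comap_mono (f := φ) hHb.1
      rwa [Subgroup.comap_map_eq, QuotientGroup.ker_mk', sup_of_le_left hNK] at this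
    have hAL : A ≤ Subgroup.normalizer (L : Set Γ) :=
      calc A ≤ (A.map φ).comap φ := Subgroup.le_comap_map _ _
        _ ≤ (Subgroup.normalizer ((Hb : Subgroup (Γ ⧸ N)) : Set (Γ ⧸ N))).comap φ :=
            Subgroup.comap_mono hAbHb
        _ ≤ Subgroup.normalizer (L : Set Γ) := Subgroup.le_normalizer_comap φ
    have hUL : U ≤ L := (Subgroup.le_comap_map φ U).trans (Subgroup.comap_mono hUbHb)
    have hcardL : Nat.card L = Nat.card N * Nat.card Hb :=
      Cfsg.Agent.Lib.Helper1.card_comap_mk' N Hb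
    have hidx : L.relIndex K = Hb.relIndex (K.map φ) := by
      have h1 := card_mul_relIndex hLK
      have h2 := card_mul_relIndex hHb.1
      rw [hcardL, hcardK, ← h2, ← mul_assoc] at h1
      exact Nat.eq_of_mul_eq_mul_left (Nat.mul_pos Nat.card_pos Nat.card_pos) h1
    have hidxπ : IsPiPrimeNum π (L.relIndex K) := by rw [hidx]; exact hHb.2.2
    by_cases hqπ : q ∈ π
    · -- `N` is a `π`-group: `L` is a Hall `π`-subgroup
      refine ⟨L, ⟨hLK, ?_, hidxπ⟩, hAL, hUL⟩
      rw [hcardL]
      exact IsPiNum.mul (isPiNum_of_isPGroup hNq hqπ) hHb.2.1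
    · -- `N` is a `π'`-group
      have hNπ' : IsPiPrimeNum π (Nat.card N) := isPiPrimeNum_of_isPGroup hNq hqπ
      have hLs : Group.IsSolvable L := isSolvable_of_le hLK hKs
      have hcopL : (Nat.card A).Coprime (Nat.card L) :=
        hcop.coprime_dvd_right (Subgroup.card_dvd_of_le hLK)
      -- an `A`-invariant Hall subgroup of `L`
      obtain ⟨H₀, hH₀, hAH₀⟩ := exists_invariant_of_class A L hAL hcopL (Or.inr hLs)
        {H | IsPiHallOf π H L}
        (fun P hP Q hQ => isPiHallOf_conj hLs hP hQ)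
        (fun h hh P hP => isPiHallOf_conj_smul hP
          ((sup_le Subgroup.le_normalizer hAL : L ⊔ A ≤ _) hh))
        (exists_isPiHallOf π L hLs)
      have hH₀' : IsPiHallOf π H₀ L := hH₀
      have hH₀card : Nat.card H₀ = Nat.card Hb :=
        isPiHallOf_card_eq_of_card_mul hH₀' (by rw [hcardL, mul_comm]) hHb.2.1 hNπ'
      -- `W = U N`
      set W : Subgroup Γ := U ⊔ N with hWdef
      have hWL : W ≤ L := sup_le hUL hNL
      have hAN : A ≤ Subgroup.normalizer (N : Set Γ) := by
        rw [Subgroup.normalizer_eq_top]; exact le_top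
      have hAW : A ≤ Subgroup.normalizer (W : Set Γ) := le_normalizer_sup hAU hAN
      have hUN : U ≤ Subgroup.normalizer (N : Set Γ) := by
        rw [Subgroup.normalizer_eq_top]; exact le_top
      have hdisj : N ⊓ U = ⊥ :=
        (Subgroup.disjoint_of_coprime_natCard (coprime_of_pi hUπ hNπ').symm).eq_bot
      have hcardW : Nat.card W = Nat.card U * Nat.card N := by
        rw [hWdef, sup_comm, card_sup_of_le_normalizer hUN hdisj, mul_comm]
      have hUW : IsPiHallOf π U W :=
        isPiHallOf_of_card_mul le_sup_left hcardW hUπ hNπ' rfl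
      set V : Subgroup Γ := W ⊓ H₀ with hVdef
      have hVcard : Nat.card V = Nat.card U := by
        apply le_antisymm
        · have h1 : Nat.card V ∣ Nat.card U * Nat.card N := by
            rw [← hcardW]; exact Subgroup.card_dvd_of_le inf_le_left
          have h2 : IsPiNum π (Nat.card V) :=
            IsPiNum.of_dvd hH₀'.2.1 (Subgroup.card_dvd_of_le inf_le_right)
          exact Nat.le_of_dvd Nat.card_pos ((coprime_of_pi h2 hNπ').dvd_of_dvd_mul_right h1)
        · have h1 := card_mul_card_le W H₀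
          have h2 : Nat.card (W ⊔ H₀ : Subgroup Γ) ≤ Nat.card L :=
            Subgroup.card_le_of_le (sup_le hWL hH₀'.1)
          have h3 : Nat.card U * Nat.card N * Nat.card Hb ≤
              Nat.card N * Nat.card Hb * Nat.card V := by
            calc Nat.card U * Nat.card N * Nat.card Hb = Nat.card W * Nat.card H₀ := by
                  rw [hcardW, hH₀card]
              _ ≤ Nat.card (W ⊔ H₀ : Subgroup Γ) * Nat.card V := h1
              _ ≤ Nat.card L * Nat.card V := Nat.mul_le_mul_right _ h2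
              _ = Nat.card N * Nat.card Hb * Nat.card V := by rw [hcardL]
          have h4 : Nat.card N * Nat.card Hb * Nat.card U ≤
              Nat.card N * Nat.card Hb * Nat.card V := by
            calc Nat.card N * Nat.card Hb * Nat.card U
                = Nat.card U * Nat.card N * Nat.card Hb := by ring
              _ ≤ _ := h3
          exact Nat.le_of_mul_le_mul_left h4 (Nat.mul_pos Nat.card_pos Nat.card_pos)
      have hVW : IsPiHallOf π V W := isPiHallOf_of_card_eq hUW inf_le_left hVcard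
      have hAV : A ≤ Subgroup.normalizer (V : Set Γ) := le_normalizer_inf hAW hAH₀
      have hWs : Group.IsSolvable W := isSolvable_of_le (hWL.trans hLK) hKs
      have hcopW : (Nat.card A).Coprime (Nat.card W) :=
        hcop.coprime_dvd_right (Subgroup.card_dvd_of_le (hWL.trans hLK))
      obtain ⟨c, hc, hcV⟩ := exists_centralizer_conj_of_class A W hAW hcopW (Or.inr hWs)
        {H | IsPiHallOf π H W} (fun P hP Q hQ => isPiHallOf_conj hWs hP hQ) V U hVW hUW hAV hAU
      have hcW : c ∈ W := hc.1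
      have hcA : c ∈ Subgroup.centralizer (A : Set Γ) := hc.2
      have hcL : c ∈ Subgroup.normalizer (L : Set Γ) := Subgroup.le_normalizer (hWL hcW)
      have hH' : IsPiHallOf π (MulAut.conj c • H₀) L := isPiHallOf_conj_smul hH₀' hcL
      refine ⟨MulAut.conj c • H₀, ⟨hH'.1.trans hLK, hH'.2.1, ?_⟩, ?_, ?_⟩
      · rw [← Subgroup.relIndex_mul_relIndex _ _ _ hH'.1 hLK]
        exact IsPiPrimeNum.mul hH'.2.2 hidxπ
      · have h1 := conj_smul_le_normalizer (g := c) hAH₀
        have h2 : MulAut.conj c • A = A :=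
          mem_normalizer_iff_conj_smul.mp (Subgroup.centralizer_le_normalizer _ hcA)
        rwa [h2] at h1
      · rw [← hcV]
        exact conj_smul_le_conj_smul inf_le_right

theorem result {X : Type*} [Group X] [Finite X] (A G : Subgroup X) (hAG : A ≤ Subgroup.normalizer (G : Set X)) (hcop : (Nat.card A).Coprime (Nat.card G)) (hsolv : Group.IsSolvable G) (π : Set ℕ) : (∃ H : Subgroup X, Cfsg.IsPiHallOf π H G ∧ A ≤ Subgroup.normalizer (H : Set X)) ∧ (∀ H₁ H₂ : Subgroup X, Cfsg.IsPiHallOf π H₁ G → A ≤ Subgroup.normalizer (H₁ : Set X) → Cfsg.IsPiHallOf π H₂ G → A ≤ Subgroup.normalizer (H₂ : Set X) → ∃ c ∈ G ⊓ Subgroup.centralizer (A : Set X), H₂ = H₁.map (MulAut.conj c).toMonoidHom) ∧ (∀ U : Subgroup X, U ≤ G → A ≤ Subgroup.normalizer (U : Set X) → (∀ p : ℕ, p.Prime → p ∣ Nat.card U → p ∈ π) → ∃ H : Subgroup X, Cfsg.IsPiHallOf π H G ∧ A ≤ Subgroup.normalizer (H : Set X) ∧ U ≤ H) := by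
  have htrans : ∀ P ∈ {H : Subgroup X | IsPiHallOf π H G}, ∀ Q ∈ {H : Subgroup X | IsPiHallOf π H G},
      ∃ k ∈ G, MulAut.conj k • P = Q := fun P hP Q hQ => isPiHallOf_conj hsolv hP hQ
  refine ⟨?_, ?_, ?_⟩
  · obtain ⟨H, hH, hAH⟩ := exists_invariant_of_class A G hAG hcop (Or.inr hsolv)
      {H | IsPiHallOf π H G} htrans
      (fun h hh P hP => isPiHallOf_conj_smul hP
        ((sup_le Subgroup.le_normalizer hAG : G ⊔ A ≤ _) hh))
      (exists_isPiHallOf π G hsolv)
    exact ⟨H, hH, hAH⟩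
  · intro H₁ H₂ h₁ hA₁ h₂ hA₂
    obtain ⟨c, hc, hcH⟩ := exists_centralizer_conj_of_class A G hAG hcop (Or.inr hsolv)
      {H | IsPiHallOf π H G} htrans H₁ H₂ h₁ h₂ hA₁ hA₂
    exact ⟨c, hc, hcH.symm⟩
  · intro U hUG hAU hUπ
    set Nm : Subgroup X := Subgroup.normalizer (G : Set X) with hNm
    have hGNm : G ≤ Nm := Subgroup.le_normalizer
    have hKn : (G.subgroupOf Nm).Normal := Subgroup.normal_in_normalizer
    have hKcard : Nat.card (G.subgroupOf Nm) = Nat.card G :=
      Cfsg.Agent.Lib.Helper1.card_subgroupOf_of_le hGNm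
    have hKs : Group.IsSolvable (G.subgroupOf Nm) := by
      haveI := hsolv
      exact Cfsg.Agent.Lib.Helper1.isSolvable_of_mulEquiv (Subgroup.subgroupOfEquivOfLe hGNm)
    have hcop' : (Nat.card (A.subgroupOf Nm)).Coprime (Nat.card (G.subgroupOf Nm)) := by
      rw [hKcard, Cfsg.Agent.Lib.Helper1.card_subgroupOf_of_le hAG]; exact hcop
    have hU'K : U.subgroupOf Nm ≤ G.subgroupOf Nm := Subgroup.comap_mono hUG
    have hA'U' : A.subgroupOf Nm ≤
        Subgroup.normalizer ((U.subgroupOf Nm : Subgroup ↥Nm) : Set ↥Nm) :=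
      (Subgroup.comap_mono (f := Nm.subtype) hAU).trans (Subgroup.le_normalizer_comap Nm.subtype)
    have hU'π : IsPiNum π (Nat.card (U.subgroupOf Nm)) := by
      rw [Cfsg.Agent.Lib.Helper1.card_subgroupOf_of_le (hUG.trans hGNm)]; exact hUπ
    obtain ⟨H', hH', hA'H', hU'H'⟩ := dom_aux π _ ↥Nm (G.subgroupOf Nm) (A.subgroupOf Nm)
      (U.subgroupOf Nm) hKn rfl hKs hcop' hU'K hA'U' hU'π
    refine ⟨H'.map Nm.subtype, ⟨?_, ?_, ?_⟩, ?_, ?_⟩
    · have := Subgroup.map_mono (f := Nm.subtype) hH'.1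
      rwa [Subgroup.map_subgroupOf_eq_of_le hGNm] at this
    · rw [Subgroup.card_map_of_injective Nm.subtype_injective]; exact hH'.2.1
    · have h1 := Subgroup.relIndex_map_map_of_injective H' (G.subgroupOf Nm)
        Nm.subtype_injective
      rw [Subgroup.map_subgroupOf_eq_of_le hGNm] at h1
      rw [h1]; exact hH'.2.2
    · have h1 := Subgroup.map_mono (f := Nm.subtype) hA'H'
      rw [Subgroup.map_subgroupOf_eq_of_le hAG] at h1
      exact h1.trans (Subgroup.le_normalizer_map Nm.subtype)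
    · have h1 := Subgroup.map_mono (f := Nm.subtype) hU'H'
      rwa [Subgroup.map_subgroupOf_eq_of_le (hUG.trans hGNm)] at h1

end Cfsg.Agent.S3745
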