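import Cfsg.Statements.S1451
import Cfsg.Agent.Lib.Helper24.FittingStructure3
import Cfsg.Agent.Lib.Helper24.RankTwoGen
import Cfsg.Agent.Lib.Helper24.RankTwoPrelude
-- import your own Cfsg.Agent.* helpers here

set_option autoImplicit false
open Cfsg

namespace Cfsg.Agent.S1451

open Cfsg.Agent.Lib.Helper24 in
/-- Let G be a solvable group of odd order such that G, or its Fitting subgroup, has no elementary abelian subgroup of order q ^ 3 for any prime q. Then G' is nilpotent; for every Sylow subgroup S of G, every characteristic subgroup T of S with T ≤ [S, S] is normal in G; and for every prime p, G has a characteristic subgroup that is a Hall subgroup for the set of primes greater than p. -/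
theorem result {G : Type*} [Group G] [Finite G] [Group.IsSolvable G] (hodd : Odd (Nat.card G)) (hr : Cfsg.RankLE 2 G ∨ Cfsg.RankLE 2 (Cfsg.fittingSubgroup G)) :
    Group.IsNilpotent ↥(commutator G) ∧
      (∀ (q : ℕ) [Fact q.Prime] (S : Sylow q G) (T : Subgroup ↥(S : Subgroup G)), T.Characteristic → T.map (S : Subgroup G).subtype ≤ ⁅(S : Subgroup G), (S : Subgroup G)⁆ →
        (T.map (S : Subgroup G).subtype).Normal) ∧
      ∀ p : ℕ, ∃ N : Subgroup G, N.Characteristic ∧ Cfsg.IsPiHall {q | q.Prime ∧ p < q} N := by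
  -- ranks of the `O_q(G)`
  have hrank : ∀ q : ℕ, q.Prime → RankLETwo q (pCore q G) := by
    intro q hq
    have : Fact q.Prime := ⟨hq⟩
    rcases hr with h | h
    · exact (rankLETwo_top_of_pRankLE q (h q hq)).mono le_top
    · exact (rankLETwo_of_pRankLE q (fittingSubgroup G) (h q hq)).mono (pCore_le_fittingSubgroup q)
  -- `O_2(G) = 1`
  have h2 : ∀ y ∈ pCore 2 G, y = 1 := by
    intro y hy
    have : Fact (Nat.Prime 2) := ⟨Nat.prime_two⟩
    apply eq_one_of_mem_of_isPGroup_of_coprime 2 (pCore 2 G)
      (Cfsg.Agent.Lib.Helper55.isPGroup_pCore 2) y hy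
    have h1 : orderOf y ∣ Nat.card G := orderOf_dvd_natCard y
    have h3 : Odd (orderOf y) := Odd.of_dvd_nat hodd h1
    exact Nat.coprime_two_right.mpr h3
  have hsolv : Group.IsSolvable (⊤ : Subgroup G) :=
    Group.isSolvable_of_isSolvable_injective (Subgroup.subtype_injective _)
  have hoddtop : Odd (Nat.card (⊤ : Subgroup G)) := by
    rw [Subgroup.card_top]; exact hodd
  have hstar : ∀ q : ℕ, q.Prime → ∀ x ∈ commutator G, (orderOf x).Coprime q →
      ∀ y ∈ pCore q G, x * y = y * x := by
    intro q hq x hx hcop y hy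
    have : Fact q.Prime := ⟨hq⟩
    by_cases hq2 : q = 2
    · subst hq2
      rw [h2 y hy, mul_one, one_mul]
    · refine centralizes_of_rankLETwo q hq2 ⊤ hoddtop _
        (Cfsg.Agent.Lib.Helper55.isPGroup_pCore q) (hrank q hq) ?_ x ?_ hcop y hy
      · rw [Subgroup.normalizer_eq_top]
      · rw [← commutator_def]; exact hx
  have hGF : commutator G ≤ fittingSubgroup G :=
    commutator_le_fittingSubgroup_of_centralizes hstar
  refine ⟨?_, ?_, ?_⟩
  · have : Group.IsNilpotent (fittingSubgroup G) :=
      Cfsg.Agent.Lib.Helper1.fittingSubgroup_isNilpotent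
    exact Group.nilpotent_of_mulEquiv (Subgroup.subgroupOfEquivOfLe hGF)
  · intro q _ S T hT hTS
    exact normal_of_characteristic_of_le_comm_sylow hGF q S T hT hTS
  · intro p
    apply exists_characteristic_hall p hGF
    intro r hr' hrp x hx y hy
    have : Fact r.Prime := ⟨hr'⟩
    by_cases hr2 : r = 2
    · subst hr2
      rw [h2 y hy, mul_one, one_mul]
    · have hcop : (orderOf x).Coprime ((r ^ 2 - 1) * (r ^ 2 - r)) := by
        apply Nat.coprime_of_dvd
        intro k hk hk1
        have hk2 : k ≠ 2 := by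
          rintro rfl
          have h1 : 2 ∣ Nat.card G := hk1.trans (orderOf_dvd_natCard x)
          exact (Nat.not_even_iff_odd.mpr hodd) (even_iff_two_dvd.mpr h1)
        have hlt : r < k := lt_of_le_of_lt hrp (hx k hk hk1)
        exact (Nat.Prime.coprime_iff_not_dvd hk).mp
          (coprime_card_GL2_of_lt r k hr' hk hr2 hk2 hlt)
      refine centralizes_of_rankLETwo_of_coprime_card_GL2 r hr2 x hcop _
        (Cfsg.Agent.Lib.Helper55.isPGroup_pCore r) (hrank r hr') ?_ y hy
      rw [Subgroup.normalizer_eq_top]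
      exact Subgroup.mem_top x

end Cfsg.Agent.S1451
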