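import Mathlib
import Cfsg.Statements.S0042
import Cfsg.Agent.Lib.Helper1.ThompsonFpf
import Cfsg.Agent.S0035
import Cfsg.Agent.S0039
-- import your own Cfsg.Agent.* helpers here

set_option autoImplicit false
open Cfsg

namespace Cfsg.Agent.S0042

/-- In a finite Frobenius group, the Frobenius kernel is (the carrier of) a normal subgroup which is nilpotent. -/
theorem result {G : Type*} [Group G] [Finite G] (H : Subgroup G) (hH : Cfsg.IsFrobeniusComplement H) :
    ∃ N : Subgroup G, (N : Set G) = Cfsg.frobeniusKernel H ∧ N.Normal ∧ Group.IsNilpotent N := by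
  obtain ⟨N, hNset, hNn, hc⟩ := Cfsg.Agent.S0035.result H hH
  refine ⟨N, hNset, hNn, ?_⟩
  have := hNn
  by_cases hN1 : N = ⊥
  · have : Subsingleton N := by rw [hN1]; infer_instance
    exact Group.isNilpotent_of_subsingleton
  have hH1 : H ≠ ⊥ := hH.1
  have hfpf := (Cfsg.Agent.S0039.result N H hc hN1 hH1).mp hH
  -- an element of prime order in `H`
  have hcardH : Nat.card H ≠ 1 := fun h => hH1 (Subgroup.card_eq_one.mp h)
  obtain ⟨p, hp, hpdvd⟩ := Nat.exists_prime_and_dvd hcardH
  have : Fact p.Prime := ⟨hp⟩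
  obtain ⟨h, hh⟩ := exists_prime_orderOf_dvd_card' (G := H) p hpdvd
  have hh1 : (h : G) ≠ 1 := by
    intro h1
    have : h = 1 := Subtype.ext h1
    rw [this, orderOf_one] at hh
    exact hp.one_lt.ne hh
  have hhp : (h : G) ^ p = 1 := by
    have h1 : h ^ p = 1 := by rw [← hh]; exact pow_orderOf_eq_one h
    exact_mod_cast congrArg Subtype.val h1
  have hpow : (MulAut.conjNormal (h : G) : MulAut N) ^ p = 1 := by
    rw [← map_pow, hhp, map_one]
  have hφ : ∀ n : N, (MulAut.conjNormal (h : G) : MulAut N) n = n → n = 1 := by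
    intro n hn
    have h1 : (h : G) * n * (h : G)⁻¹ = n := by
      have := congrArg Subtype.val hn
      rwa [MulAut.conjNormal_apply] at this
    have hmem : (n : G) ∈ N ⊓ Subgroup.centralizer {(h : G)} := by
      refine Subgroup.mem_inf.mpr ⟨n.2, Subgroup.mem_centralizer_iff.mpr ?_⟩
      intro y hy
      rw [Set.mem_singleton_iff] at hy
      subst hy
      calc (h : G) * n = (h : G) * n * (h : G)⁻¹ * h := by group
        _ = n * h := by rw [h1]
    rw [hfpf h h.2 hh1, Subgroup.mem_bot] at hmem
    exact Subtype.ext hmem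
  exact Cfsg.Agent.Lib.Helper1.fpf_nilpotent_aux p hp _ N rfl _ hpow hφ

end Cfsg.Agent.S0042
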