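import Cfsg.Statements.S0666
import Cfsg.Agent.S0055
import Cfsg.Agent.Lib.Helper74.FrobThm
import Cfsg.Agent.Lib.Helper35.Frobenius

set_option autoImplicit false
open Cfsg

namespace Cfsg.Agent.S0666

open scoped IsMulCommutative Pointwise
open Cfsg.Agent.S0055

section
variable {G : Type*} [Group G] [Finite G] (V F : Subgroup G) [IsMulCommutative V]
  (hFV : F ≤ Subgroup.normalizer (V : Set G))

/-- the product of the conjugates of `v` by the elements of a subgroup `X` of `F` is fixed by `X`. -/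
theorem conj_prod_subgroup [Fintype ↥F] [DecidableEq ↥F] (X : Subgroup ↥F) [DecidablePred (· ∈ X)]
    (v : ↥V) (y : ↥F) (hy : y ∈ X) :
    conjV F V hFV y (∏ x ∈ Finset.univ.filter (· ∈ X), conjV F V hFV x v) =
      ∏ x ∈ Finset.univ.filter (· ∈ X), conjV F V hFV x v := by
  rw [map_prod]
  simp_rw [conjV_mul]
  refine Finset.prod_bij' (fun x _ => y * x) (fun x _ => y⁻¹ * x) ?_ ?_ ?_ ?_ ?_
  · intro x hx
    rw [Finset.mem_filter] at hx ⊢
    exact ⟨Finset.mem_univ _, X.mul_mem hy hx.2⟩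
  · intro x hx
    rw [Finset.mem_filter] at hx ⊢
    exact ⟨Finset.mem_univ _, X.mul_mem (X.inv_mem hy) hx.2⟩
  · intro x _; simp
  · intro x _; simp
  · intro x _; rfl

/-- an element of `V` fixed under conjugation by `X` centralizes the image of `X` in `G`. -/
theorem mem_centralizer_of_fixed (X : Subgroup ↥F) (u : ↥V)
    (hu : ∀ y ∈ X, conjV F V hFV y u = u) :
    (u : G) ∈ V ⊓ Subgroup.centralizer ((X.map F.subtype : Subgroup G) : Set G) := by
  refine ⟨u.2, Subgroup.mem_centralizer_iff.mpr ?_⟩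
  rintro _ ⟨y, hy, rfl⟩
  have h1 := congrArg Subtype.val (hu y hy)
  rw [conjV_coe, Subgroup.coe_inv] at h1
  show (y : G) * u = u * (y : G)
  calc (y : G) * u = ((y : G) * u * (y : G)⁻¹) * y := by group
    _ = u * (y : G) := by rw [h1]

end

/-- A Frobenius group acting on a nontrivial abelian group of order prime to that of its kernel, with the kernel acting without nontrivial fixed points, has a complement with a nontrivial fixed point. -/
theorem result {G : Type*} [Group G] [Finite G] (V F : Subgroup G) (hVab : IsMulCommutative V) (hV1 : V ≠ ⊥) (hFV : F ≤ Subgroup.normalizer (V : Set G)) (H : Subgroup ↥F) (hH : Cfsg.IsFrobeniusComplement H) (hcop : (Nat.card V).Coprime (Nat.card (Cfsg.frobeniusKernel H))) (hCK : V ⊓ Subgroup.centralizer (Subtype.val '' Cfsg.frobeniusKernel H : Set G) = ⊥) : V ⊓ Subgroup.centralizer ((H.map F.subtype : Subgroup G) : Set G) ≠ ⊥ := by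
  classical
  intro hcon
  obtain ⟨N, hNK, hNn, hcompl⟩ := Cfsg.Agent.Lib.Helper74.frobenius_theorem H hH
  have : Fintype ↥F := Fintype.ofFinite _
  -- norms over H and N are trivial
  have hnormH : ∀ w : ↥V, ∏ x ∈ Finset.univ.filter (· ∈ H), conjV F V hFV x w = 1 := by
    intro w
    have h1 := mem_centralizer_of_fixed V F hFV H _
      (fun y hy => conj_prod_subgroup V F hFV H w y hy)
    rw [hcon, Subgroup.mem_bot] at h1
    exact Subtype.ext h1
  have hNmap : ((N.map F.subtype : Subgroup G) : Set G) = Subtype.val '' Cfsg.frobeniusKernel H := by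
    rw [← hNK]; rfl
  have hnormN : ∀ w : ↥V, ∏ x ∈ Finset.univ.filter (· ∈ N), conjV F V hFV x w = 1 := by
    intro w
    have h1 := mem_centralizer_of_fixed V F hFV N _
      (fun y hy => conj_prod_subgroup V F hFV N w y hy)
    rw [hNmap, hCK, Subgroup.mem_bot] at h1
    exact Subtype.ext h1
  have hnormF : ∀ w : ↥V, ∏ x ∈ (Finset.univ : Finset ↥F), conjV F V hFV x w = 1 := by
    intro w
    have h0 := conj_prod_subgroup V F hFV ⊤ w
    have hfil : (Finset.univ.filter (· ∈ (⊤ : Subgroup ↥F))) = (Finset.univ : Finset ↥F) := by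
      ext x; simp
    rw [hfil] at h0
    have h1 := mem_centralizer_of_fixed V F hFV N _ (fun y _ => h0 y (Subgroup.mem_top y))
    rw [hNmap, hCK, Subgroup.mem_bot] at h1
    exact Subtype.ext h1
  -- the structure of F: partition into N and the conjugates of H
  have hNH : ∀ x : ↥F, x ∈ N → x ∈ H → x = 1 := by
    intro x hxN hxH
    have := hcompl.disjoint
    rw [Subgroup.disjoint_def] at this
    exact this hxN hxH
  have hmemN : ∀ x : ↥F, x ∈ N ↔ x ∈ Cfsg.frobeniusKernel H := by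
    intro x; rw [← hNK]; rfl
  have hcov : ∀ x : ↥F, x ∉ N → ∃ k ∈ N, ∃ h ∈ H, h ≠ 1 ∧ x = k * h * k⁻¹ := by
    intro x hx
    rw [hmemN, Cfsg.Agent.Lib.Helper35.mem_frobeniusKernel_iff] at hx
    push Not at hx
    obtain ⟨hx1, g, hg⟩ := hx
    rw [Cfsg.Agent.Lib.Helper35.mem_conj_smul_iff] at hg
    obtain ⟨⟨⟨k, hk⟩, ⟨h₀, hh₀⟩⟩, hkh⟩ := hcompl.existsUnique g |>.exists
    have hg' : g = k * h₀ := hkh.symm
    refine ⟨k, hk, h₀ * (g⁻¹ * x * g) * h₀⁻¹, H.mul_mem (H.mul_mem hh₀ hg) (H.inv_mem hh₀), ?_, ?_⟩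
    · intro h1
      apply hx1
      have : x = g * h₀⁻¹ * (h₀ * (g⁻¹ * x * g) * h₀⁻¹) * h₀ * g⁻¹ := by group
      rw [this, h1]; group
    · rw [hg']; group
  have hnotN : ∀ k : ↥F, ∀ h ∈ H, h ≠ 1 → k * h * k⁻¹ ∉ N := by
    intro k h hh h1 hmem
    rw [hmemN, Cfsg.Agent.Lib.Helper35.mem_frobeniusKernel_iff] at hmem
    rcases hmem with hmem | hmem
    · apply h1
      have : h = k⁻¹ * (k * h * k⁻¹) * k := by group
      rw [this, hmem]; group
    · apply hmem k
      rw [Cfsg.Agent.Lib.Helper35.mem_conj_smul_iff]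
      have : k⁻¹ * (k * h * k⁻¹) * k = h := by group
      rw [this]; exact hh
  have hinj : ∀ k ∈ N, ∀ h ∈ H, h ≠ 1 → ∀ k' ∈ N, ∀ h' ∈ H, k * h * k⁻¹ = k' * h' * k'⁻¹ →
      k = k' ∧ h = h' := by
    intro k hk h hh h1 k' hk' h' hh' heq
    have hx1 : k * h * k⁻¹ ≠ 1 := by
      intro h2
      apply h1
      have : h = k⁻¹ * (k * h * k⁻¹) * k := by group
      rw [this, h2]; group
    have hm1 : k * h * k⁻¹ ∈ MulAut.conj k • H := by
      rw [Cfsg.Agent.Lib.Helper35.mem_conj_smul_iff]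
      have : k⁻¹ * (k * h * k⁻¹) * k = h := by group
      rw [this]; exact hh
    have hm2 : k * h * k⁻¹ ∈ MulAut.conj k' • H := by
      rw [heq, Cfsg.Agent.Lib.Helper35.mem_conj_smul_iff]
      have : k'⁻¹ * (k' * h' * k'⁻¹) * k' = h' := by group
      rw [this]; exact hh'
    have h3 := Cfsg.Agent.Lib.Helper35.ti hH hx1 hm1 hm2
    have h4 := hNH _ (N.mul_mem (N.inv_mem hk) hk') h3
    have hkk : k = k' := by
      have : k' = k * (k⁻¹ * k') := by group
      rw [this, h4, mul_one]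
    subst hkk
    refine ⟨rfl, ?_⟩
    have : h = k⁻¹ * (k * h * k⁻¹) * k := by group
    rw [this, heq]; group
  -- the product over the complement of N
  have key : ∀ v : ↥V, v ^ (Finset.univ.filter (· ∈ N)).card = 1 := by
    intro v
    have hsplit : ∏ x ∈ (Finset.univ : Finset ↥F), conjV F V hFV x v =
        (∏ x ∈ Finset.univ.filter (· ∈ N), conjV F V hFV x v) *
        ∏ x ∈ Finset.univ.filter (fun x => ¬ x ∈ N), conjV F V hFV x v :=
      (Finset.prod_filter_mul_prod_filter_not Finset.univ (· ∈ N) _).symm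
    rw [hnormF, hnormN, one_mul] at hsplit
    have himage : Finset.univ.filter (fun x : ↥F => ¬ x ∈ N) =
        ((Finset.univ.filter (· ∈ N)) ×ˢ ((Finset.univ.filter (· ∈ H)).erase 1)).image
          (fun kh : ↥F × ↥F => kh.1 * kh.2 * kh.1⁻¹) := by
      ext x
      simp only [Finset.mem_filter, Finset.mem_univ, true_and, Finset.mem_image, Finset.mem_product,
        Finset.mem_erase, Prod.exists]
      constructor
      · intro hx
        obtain ⟨k, hk, h, hh, h1, rfl⟩ := hcov x hx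
        exact ⟨k, h, ⟨hk, h1, hh⟩, rfl⟩
      · rintro ⟨k, h, ⟨hk, h1, hh⟩, rfl⟩
        exact hnotN k h hh h1
    rw [himage, Finset.prod_image, Finset.prod_product] at hsplit
    · have hinner : ∀ k ∈ Finset.univ.filter (· ∈ N),
          ∏ h ∈ (Finset.univ.filter (· ∈ H)).erase 1, conjV F V hFV (k * h * k⁻¹) v = v⁻¹ := by
        intro k _
        have h1 : ∀ h : ↥F, conjV F V hFV (k * h * k⁻¹) v =
            conjV F V hFV k (conjV F V hFV h (conjV F V hFV k⁻¹ v)) := by
          intro h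
          rw [conjV_mul, conjV_mul, mul_assoc]
        simp_rw [h1]
        rw [← map_prod]
        have h2 := Finset.mul_prod_erase (Finset.univ.filter (· ∈ H))
          (fun h => conjV F V hFV h (conjV F V hFV k⁻¹ v))
          (a := 1) (by simp [H.one_mem])
        rw [hnormH] at h2
        have h3 : conjV F V hFV 1 (conjV F V hFV k⁻¹ v) = conjV F V hFV k⁻¹ v := by
          ext; simp
        rw [h3] at h2
        have h4 : ∏ h ∈ (Finset.univ.filter (· ∈ H)).erase 1,
            conjV F V hFV h (conjV F V hFV k⁻¹ v) = (conjV F V hFV k⁻¹ v)⁻¹ :=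
          eq_inv_of_mul_eq_one_right h2
        rw [h4, map_inv, conjV_mul, mul_inv_cancel]
        congr 1
        ext; simp
      rw [Finset.prod_congr rfl hinner, Finset.prod_const] at hsplit
      rw [inv_pow] at hsplit
      exact inv_eq_one.mp hsplit.symm
    · rintro ⟨k, h⟩ hkh ⟨k', h'⟩ hkh' heq
      simp only [Finset.coe_product, Set.mem_prod, Finset.mem_coe, Finset.mem_filter,
        Finset.mem_univ, true_and, Finset.mem_erase] at hkh hkh'
      obtain ⟨h5, h6⟩ := hinj k hkh.1 h hkh.2.2 hkh.2.1 k' hkh'.1 h' hkh'.2.2 heq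
      rw [h5, h6]
  -- conclude
  have hcardN : (Finset.univ.filter (· ∈ N)).card = Nat.card (Cfsg.frobeniusKernel H) := by
    rw [← hNK]
    rw [← Fintype.card_subtype, ← Nat.card_eq_fintype_card]
    rfl
  apply hV1
  rw [eq_bot_iff]
  intro v hv
  rw [Subgroup.mem_bot]
  have h1 := key ⟨v, hv⟩
  rw [hcardN] at h1
  have h2 : orderOf (⟨v, hv⟩ : ↥V) ∣ Nat.card (Cfsg.frobeniusKernel H) := orderOf_dvd_of_pow_eq_one h1
  have h3 : orderOf (⟨v, hv⟩ : ↥V) ∣ Nat.card V := orderOf_dvd_natCard _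
  have h4 : orderOf (⟨v, hv⟩ : ↥V) = 1 := Nat.eq_one_of_dvd_coprimes hcop h3 h2
  rw [orderOf_eq_one_iff] at h4
  exact congrArg Subtype.val h4

end Cfsg.Agent.S0666
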