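import Cfsg.Statements.S0075
import Cfsg.Agent.Lib.Helper34.PResidual

set_option autoImplicit false
open Cfsg
open scoped commutatorElement

namespace Cfsg.Agent.S0075


section
variable {G : Type*} [Group G] [Finite G] {p : ℕ} [Fact p.Prime]

/-- For an abelian Sylow `p`-subgroup `T`, the commutator subgroup lies in `O^p(G)`. -/
theorem commutator_le_pResidual (T : Sylow p G) (hT : IsMulCommutative T) :
    commutator G ≤ Cfsg.pResidual p G := by
  have hn : (Cfsg.pResidual p G).Normal := Cfsg.Agent.Lib.Helper34.pResidual_normal p G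
  rw [← Subgroup.Normal.quotient_commutative_iff_commutator_le]
  have hsup : Cfsg.pResidual p G ⊔ (T : Subgroup G) = ⊤ :=
    Cfsg.Agent.Lib.Helper34.pResidual_sup_eq_top p (T : Subgroup G) T.not_dvd_index
  -- every coset has a representative in T
  have hrep : ∀ q : G ⧸ Cfsg.pResidual p G, ∃ t : (T : Subgroup G), (QuotientGroup.mk (t : G) : G ⧸ Cfsg.pResidual p G) = q := by
    intro q
    induction q using QuotientGroup.induction_on with
    | H g =>
      have hg : g ∈ Cfsg.pResidual p G ⊔ (T : Subgroup G) := by rw [hsup]; exact Subgroup.mem_top g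
      rw [← SetLike.mem_coe, Subgroup.normal_mul] at hg
      obtain ⟨k, hk, t, ht, rfl⟩ := hg
      refine ⟨⟨t, ht⟩, ?_⟩
      rw [QuotientGroup.eq]
      change (t)⁻¹ * (k * t) ∈ Cfsg.pResidual p G
      have : t⁻¹ * (k * t) = t⁻¹ * k * t⁻¹⁻¹ := by group
      rw [this]
      exact hn.conj_mem k hk t⁻¹
  refine ⟨⟨fun a b => ?_⟩⟩
  obtain ⟨s, rfl⟩ := hrep a
  obtain ⟨t, rfl⟩ := hrep b
  rw [← QuotientGroup.mk_mul, ← QuotientGroup.mk_mul]
  have := hT.is_comm.comm s t
  have h2 : (s : G) * t = t * s := congrArg Subtype.val this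
  rw [h2]

omit [Finite G] in
/-- A `p`-element of `O^p(G)` lies in the commutator subgroup. -/
theorem mem_commutator_of_mem_pResidual (x : G) (hx : x ∈ Cfsg.pResidual p G) (k : ℕ)
    (hxp : x ^ p ^ k = 1) : x ∈ commutator G := by
  have hp : p.Prime := Fact.out
  -- the p'-elements of the abelianization form a subgroup
  let S : Subgroup (Abelianization G) :=
    { carrier := {y | Nat.Coprime (orderOf y) p}
      one_mem' := by simp
      mul_mem' := by
        intro a b ha hb
        have h1 : orderOf (a * b) ∣ Nat.lcm (orderOf a) (orderOf b) :=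
          (Commute.all a b).orderOf_mul_dvd_lcm
        have h2 : Nat.Coprime (orderOf a * orderOf b) p := Nat.Coprime.mul_left ha hb
        exact Nat.Coprime.coprime_dvd_left (h1.trans (Nat.lcm_dvd_mul _ _)) h2
      inv_mem' := by
        intro a ha
        change Nat.Coprime (orderOf a⁻¹) p
        rw [orderOf_inv]; exact ha }
  have hle : Cfsg.pResidual p G ≤ S.comap Abelianization.of := by
    unfold Cfsg.pResidual
    rw [Subgroup.closure_le]
    intro g hg
    change Nat.Coprime (orderOf (Abelianization.of g)) p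
    exact Nat.Coprime.coprime_dvd_left (orderOf_map_dvd _ g) hg
  have h1 : Nat.Coprime (orderOf (Abelianization.of x)) p := hle hx
  have h2 : orderOf (Abelianization.of x) ∣ p ^ k := by
    apply orderOf_dvd_of_pow_eq_one
    rw [← map_pow, hxp, map_one]
  have h3 : orderOf (Abelianization.of x) = 1 :=
    Nat.eq_one_of_dvd_coprimes (Nat.Coprime.pow_right k h1) dvd_rfl h2
  have h4 : Abelianization.of x = 1 := orderOf_eq_one_iff.mp h3
  have h5 : x ∈ (Abelianization.of (G := G)).ker := MonoidHom.mem_ker.mpr h4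
  rwa [Abelianization.ker_of] at h5

/-- Focal subgroup theorem + Burnside fusion: `G' ∩ T = [T, N_G(T)]` for abelian Sylow `T`. -/
theorem commutator_inf_eq (T : Sylow p G) (hT : IsMulCommutative T) :
    commutator G ⊓ (T : Subgroup G) = ⁅(T : Subgroup G), Subgroup.normalizer ((T : Subgroup G) : Set G)⁆ := by
  apply le_antisymm
  · rw [Subgroup.commutator_inf_eq_focalSubgroup T]
    rw [Subgroup.focalSubgroup_def, Subgroup.closure_le]
    rintro g ⟨hgP, x, hxP, u, rfl⟩
    have hxinv : x⁻¹ ∈ (T : Subgroup G) := Subgroup.inv_mem _ hxP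
    have hconj : u * x⁻¹ * u⁻¹ ∈ (T : Subgroup G) := by
      have := Subgroup.mul_mem _ hxinv hgP
      rw [commutatorElement_def] at this
      simpa [mul_assoc] using this
    have hconj' : (u⁻¹)⁻¹ * x⁻¹ * u⁻¹ ∈ (T : Subgroup G) := by simpa using hconj
    obtain ⟨n, hn, hnx⟩ := T.conj_eq_normalizer_conj_of_mem x⁻¹ u⁻¹ hxinv hconj'
    have : ⁅x, u⁆ = ⁅x, n⁻¹⁆ := by
      rw [commutatorElement_def, commutatorElement_def]
      calc x * u * x⁻¹ * u⁻¹ = x * ((u⁻¹)⁻¹ * x⁻¹ * u⁻¹) := by group
        _ = x * (n⁻¹ * x⁻¹ * n) := by rw [hnx]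
        _ = x * n⁻¹ * x⁻¹ * n⁻¹⁻¹ := by group
    rw [SetLike.mem_coe, this]
    exact Subgroup.commutator_mem_commutator hxP (Subgroup.inv_mem _ hn)
  · apply le_inf
    · rw [commutator_def]; exact Subgroup.commutator_mono le_top le_top
    · rw [Subgroup.commutator_le]
      intro x hx n hn
      have h1 : n * x⁻¹ * n⁻¹ ∈ (T : Subgroup G) :=
        (Subgroup.mem_normalizer_iff.mp hn x⁻¹).mp (Subgroup.inv_mem _ hx)
      have h2 : ⁅x, n⁆ = x * (n * x⁻¹ * n⁻¹) := by rw [commutatorElement_def]; group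
      rw [h2]
      exact Subgroup.mul_mem _ hx h1

end

/-- For an abelian Sylow p-subgroup T, its intersection with the subgroup generated by the elements of order prime to p is the commutator of T with its normalizer. -/
theorem result {G : Type*} [Group G] [Finite G] {p : ℕ} [Fact p.Prime] (T : Sylow p G) (hT : IsMulCommutative T) : (T : Subgroup G) ⊓ Cfsg.pResidual p G = ⁅(T : Subgroup G), Subgroup.normalizer (T : Set G)⁆ := by
  have hfoc := commutator_inf_eq T hT
  change (T : Subgroup G) ⊓ Cfsg.pResidual p G =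
    ⁅(T : Subgroup G), Subgroup.normalizer ((T : Subgroup G) : Set G)⁆
  rw [← hfoc]
  apply le_antisymm
  · rintro x ⟨hxT, hxR⟩
    obtain ⟨k, hk⟩ := T.isPGroup' ⟨x, hxT⟩
    have hxp : x ^ p ^ k = 1 := by
      have := congrArg Subtype.val hk
      simpa using this
    exact Subgroup.mem_inf.mpr ⟨mem_commutator_of_mem_pResidual x hxR k hxp, hxT⟩
  · rintro x ⟨hxG', hxT⟩
    exact Subgroup.mem_inf.mpr ⟨hxT, commutator_le_pResidual T hT hxG'⟩

end Cfsg.Agent.S0075
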