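import Cfsg.Statements.S0092
import Cfsg.Agent.S0075
import Cfsg.Agent.S0055
import Cfsg.Agent.S0058
import Cfsg.Agent.Lib.Helper54.Coprime
import Cfsg.Agent.Lib.Helper55.IndexTwoLift
import Cfsg.Agent.Lib.Helper34.PResidual
-- import your own Cfsg.Agent.* helpers here

set_option autoImplicit false
open Cfsg

namespace Cfsg.Agent.S0092

open Pointwise
open scoped commutatorElement
open scoped IsMulCommutative

section lemmas
variable {G : Type*} [Group G]

theorem commutator_sup_le_of_comm (Q L : Subgroup G) [hQ : IsMulCommutative Q]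
    (hLQ : L ≤ Subgroup.normalizer (Q : Set G)) : ⁅Q, Q ⊔ L⁆ ≤ ⁅Q, L⁆ := by
  set W := ⁅Q, L⁆ with hW
  have hWQ : W ≤ Q := Cfsg.Agent.S0055.commutator_le_V L Q hLQ
  have hcomm : ∀ a ∈ Q, ∀ b ∈ Q, a * b = b * a := fun a ha b hb =>
    congrArg Subtype.val (mul_comm (⟨a, ha⟩ : Q) ⟨b, hb⟩)
  have hQW : Q ≤ Subgroup.normalizer (W : Set G) := by
    intro q hq
    rw [Subgroup.mem_normalizer_iff]
    intro w
    constructor
    · intro hw
      have : q * w * q⁻¹ = w := by rw [hcomm q hq w (hWQ hw), mul_inv_cancel_right]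
      rw [this]; exact hw
    · intro hw
      have h1 : q * w * q⁻¹ ∈ Q := hWQ hw
      have h2 : w ∈ Q := by
        have : w = q⁻¹ * (q * w * q⁻¹) * q := by group
        rw [this]
        exact Q.mul_mem (Q.mul_mem (Q.inv_mem hq) h1) hq
      have : q * w * q⁻¹ = w := by rw [hcomm q hq w h2, mul_inv_cancel_right]
      rwa [this] at hw
  have hLW : L ≤ Subgroup.normalizer (W : Set G) :=
    le_trans (le_inf hLQ Subgroup.le_normalizer) (Cfsg.Agent.S0058.le_normalizer_commutator' Q L)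
  let S : Subgroup G :=
    { carrier := {g | g ∈ Subgroup.normalizer (W : Set G) ∧ ∀ q ∈ Q, ⁅q, g⁆ ∈ W}
      one_mem' := ⟨Subgroup.one_mem _, fun q _ => by simp⟩
      mul_mem' := by
        rintro g h ⟨hg, hg'⟩ ⟨hh, hh'⟩
        refine ⟨Subgroup.mul_mem _ hg hh, fun q hq => ?_⟩
        have h1 : ⁅q, g * h⁆ = ⁅q, g⁆ * (g * ⁅q, h⁆ * g⁻¹) := by
          simp only [commutatorElement_def]; group
        rw [h1]
        exact W.mul_mem (hg' q hq) ((Subgroup.mem_normalizer_iff.mp hg _).mp (hh' q hq))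
      inv_mem' := by
        rintro g ⟨hg, hg'⟩
        refine ⟨Subgroup.inv_mem _ hg, fun q hq => ?_⟩
        have h1 : ⁅q, g⁻¹⁆ = g⁻¹ * ⁅q, g⁆⁻¹ * g⁻¹⁻¹ := by
          simp only [commutatorElement_def]; group
        rw [h1]
        exact (Subgroup.mem_normalizer_iff.mp (Subgroup.inv_mem _ hg) _).mp
          (W.inv_mem (hg' q hq)) }
  have hQS : Q ≤ S := fun q' hq' => ⟨hQW hq', fun q hq => by
    have : ⁅q, q'⁆ = 1 := by
      rw [commutatorElement_eq_one_iff_mul_comm]; exact hcomm q hq q' hq'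
    rw [this]; exact W.one_mem⟩
  have hLS : L ≤ S := fun l hl => ⟨hLW hl, fun q hq => Subgroup.commutator_mem_commutator hq hl⟩
  rw [Subgroup.commutator_le]
  intro q hq g hg
  exact ((sup_le hQS hLS) hg).2 q hq

/-- The normalizer inside a subgroup `N`, pushed to the ambient group. -/
theorem map_normalizer_subtype (N : Subgroup G) (Q₀ : Subgroup N) :
    (Subgroup.normalizer (Q₀ : Set N)).map N.subtype =
      N ⊓ Subgroup.normalizer ((Q₀.map N.subtype : Subgroup G) : Set G) := by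
  ext x
  constructor
  · rintro ⟨n, hn, rfl⟩
    refine Subgroup.mem_inf.mpr ⟨n.2, ?_⟩
    rw [SetLike.mem_coe, Cfsg.Agent.Lib.Helper54.mem_normalizer_iff_conj_smul] at hn
    rw [Cfsg.Agent.Lib.Helper54.mem_normalizer_iff_conj_smul]
    show MulAut.conj (n : G) • Q₀.map N.subtype = Q₀.map N.subtype
    rw [← Cfsg.Agent.Lib.Helper54.map_conj_smul, hn]
  · intro hx
    refine ⟨⟨x, hx.1⟩, ?_, rfl⟩
    have h2 := Cfsg.Agent.Lib.Helper54.mem_normalizer_iff_conj_smul.mp hx.2
    rw [SetLike.mem_coe, Cfsg.Agent.Lib.Helper54.mem_normalizer_iff_conj_smul]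
    apply Subgroup.map_injective N.subtype_injective
    rw [Cfsg.Agent.Lib.Helper54.map_conj_smul]
    exact h2

end lemmas


/-- If the Sylow p-subgroups of O^p(G) are abelian then G splits over O^p(G). -/
theorem result {G : Type*} [Group G] [Finite G] {p : ℕ} [Fact p.Prime] (h : ∀ Q : Sylow p (Cfsg.pResidual p G), IsMulCommutative Q) : ∃ K : Subgroup G, K.IsComplement' (Cfsg.pResidual p G) := by
  have hp : p.Prime := Fact.out
  set N := Cfsg.pResidual p G with hN
  have hNn : N.Normal := Cfsg.Agent.Lib.Helper34.pResidual_normal p G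
  -- `O^p(N) = N`
  have hNN : Cfsg.pResidual p N = ⊤ := by
    have h1 := Cfsg.Agent.Lib.Helper55.pResidual_eq_map_of_forall_mem p N
      (fun g hg => Subgroup.subset_closure hg)
    apply Subgroup.map_injective N.subtype_injective
    rw [← h1, ← MonoidHom.range_eq_map, Subgroup.range_subtype]
  obtain ⟨Q₀⟩ : Nonempty (Sylow p N) := inferInstance
  have hQ₀c : IsMulCommutative Q₀ := h Q₀
  have h75 := Cfsg.Agent.S0075.result Q₀ hQ₀c
  rw [hNN, inf_top_eq] at h75
  set Q : Subgroup G := (Q₀ : Subgroup N).map N.subtype with hQ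
  have hQN : Q ≤ N := Subgroup.map_subtype_le _
  have hQc : IsMulCommutative Q := by
    refine ⟨⟨?_⟩⟩
    rintro ⟨_, a, ha, rfl⟩ ⟨_, b, hb, rfl⟩
    apply Subtype.ext
    have := mul_comm (⟨a, ha⟩ : (Q₀ : Subgroup N)) ⟨b, hb⟩
    have h2 := congrArg (fun z : (Q₀ : Subgroup N) => ((z : N) : G)) this
    simpa using h2
  have hQp : IsPGroup p Q := Q₀.isPGroup'.map N.subtype
  have hQcard : Nat.card Q = p ^ (Nat.card N).factorization p :=
    Cfsg.Agent.Lib.Helper54.card_map_sylow N Q₀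
  set M : Subgroup G := Subgroup.normalizer (Q : Set G) with hM
  have hFr : M ⊔ N = ⊤ := Sylow.normalizer_sup_eq_top Q₀
  set M₁ : Subgroup G := N ⊓ M with hM₁
  have hQM : Q ≤ M := Subgroup.le_normalizer
  have hQM₁le : Q ≤ M₁ := le_inf hQN hQM
  have hM₁NQ : M₁ ≤ Subgroup.normalizer (Q : Set G) := inf_le_right
  -- `Q = [Q, M₁]`
  have hQM₁ : Q = ⁅Q, M₁⁆ := by
    have h2 := congrArg (Subgroup.map N.subtype) h75
    rw [Subgroup.map_commutator] at h2
    exact h2.trans (congrArg (fun Z => ⁅Q, Z⁆) (map_normalizer_subtype N (Q₀ : Subgroup N)))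
  -- a complement `L` of `Q` in `M₁`
  have hN0 : Nat.card N ≠ 0 := Nat.card_pos.ne'
  have hrelQ : ¬ p ∣ Q.relIndex M₁ := by
    intro hd
    have h1 := Cfsg.Agent.Lib.Helper54.card_mul_relIndex hQM₁le
    have h2 : p ^ ((Nat.card N).factorization p + 1) ∣ Nat.card N := by
      have h3 : Nat.card M₁ ∣ Nat.card N := Subgroup.card_dvd_of_le inf_le_left
      refine dvd_trans ?_ h3
      rw [← h1, hQcard, pow_succ]
      exact Nat.mul_dvd_mul_left _ hd
    exact (Nat.pow_succ_factorization_not_dvd hN0 hp) h2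
  have hcopQ : (Nat.card (Q ⊓ M₁ : Subgroup G)).Coprime (Q.relIndex M₁) := by
    rw [inf_of_le_left hQM₁le, hQcard]
    exact Nat.Coprime.pow_left _ ((Nat.Prime.coprime_iff_not_dvd hp).mpr hrelQ)
  obtain ⟨L, hLM₁, hLcard⟩ := Cfsg.Agent.Lib.Helper54.exists_complement_rel M₁ Q hM₁NQ hcopQ
  have hLQn : L ≤ Subgroup.normalizer (Q : Set G) := hLM₁.trans hM₁NQ
  have hcopQL : (Nat.card Q).Coprime (Nat.card L) := by
    rw [hLcard, hQcard]
    exact Nat.Coprime.pow_left _ ((Nat.Prime.coprime_iff_not_dvd hp).mpr hrelQ)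
  have hdisjQL : Q ⊓ L = ⊥ := (Subgroup.disjoint_of_coprime_natCard hcopQL).eq_bot
  have hcardQL : Nat.card (Q ⊔ L : Subgroup G) = Nat.card Q * Nat.card L :=
    Cfsg.Agent.Lib.Helper54.card_sup_of_le_normalizer hLQn hdisjQL
  have hcardM₁ : Nat.card M₁ = Nat.card Q * Nat.card L := by
    rw [hLcard]; exact (Cfsg.Agent.Lib.Helper54.card_mul_relIndex hQM₁le).symm
  have hQLM₁ : Q ⊔ L = M₁ :=
    Subgroup.eq_of_le_of_card_ge (sup_le hQM₁le hLM₁) (by rw [hcardQL, hcardM₁])
  -- `C_Q(L) = 1`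
  have hQL : Q = ⁅Q, L⁆ := by
    apply le_antisymm
    · calc Q = ⁅Q, M₁⁆ := hQM₁
        _ = ⁅Q, Q ⊔ L⁆ := by rw [hQLM₁]
        _ ≤ ⁅Q, L⁆ := commutator_sup_le_of_comm Q L hLQn
    · exact Cfsg.Agent.S0055.commutator_le_V L Q hLQn
  have hCQL : Q ⊓ Subgroup.centralizer (L : Set G) = ⊥ := by
    have h55 := (Cfsg.Agent.S0055.result L Q hLQn hcopQL.symm).1
    rw [← hQL] at h55
    rw [← h55, inf_comm (Q ⊓ _) Q, ← inf_assoc, inf_idem]
  -- `T = N_M(L)`
  set T : Subgroup G := M ⊓ Subgroup.normalizer (L : Set G) with hT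
  have hMN : M ≤ Subgroup.normalizer (N : Set G) := by
    rw [Subgroup.normalizer_eq_top]; exact le_top
  have hMM₁ : M ≤ Subgroup.normalizer (M₁ : Set G) :=
    Cfsg.Agent.Lib.Helper54.le_normalizer_inf hMN Subgroup.le_normalizer
  -- Frattini: `M ≤ Q T`
  have hMQT : M ≤ Q ⊔ T := by
    intro m hm
    have hLm : MulAut.conj m • L ≤ M₁ := by
      have h1 := Cfsg.Agent.Lib.Helper54.conj_smul_le_conj_smul (g := m) hLM₁
      rwa [Cfsg.Agent.Lib.Helper54.mem_normalizer_iff_conj_smul.mp (hMM₁ hm)] at h1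
    obtain ⟨q, hq, hqL⟩ := Cfsg.Agent.Lib.Helper54.sz_conj_rel M₁ Q L (MulAut.conj m • L) hQM₁le
      hM₁NQ hLM₁ hLm hcardM₁.symm (Cfsg.Agent.Lib.Helper54.card_conj_smul m L) hcopQL
      (Or.inr (Group.isSolvable_of_comm (fun a b => mul_comm a b)))
    have h1 : q⁻¹ * m ∈ T := by
      refine Subgroup.mem_inf.mpr ⟨M.mul_mem (M.inv_mem (hQM hq)) hm, ?_⟩
      rw [Cfsg.Agent.Lib.Helper54.mem_normalizer_iff_conj_smul, map_mul, mul_smul, ← hqL,
        ← mul_smul, ← map_mul, inv_mul_cancel, map_one, one_smul]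
    have h2 : m = q * (q⁻¹ * m) := by group
    rw [h2]
    exact Subgroup.mul_mem _ (Subgroup.mem_sup_left hq) (Subgroup.mem_sup_right h1)
  have hTN : T ⊔ N = ⊤ := by
    rw [eq_top_iff, ← hFr]
    exact sup_le (hMQT.trans (sup_le (hQN.trans le_sup_right) le_sup_left)) le_sup_right
  -- `T ∩ N = L`
  have hLT : L ≤ T := le_inf (hLM₁.trans inf_le_right) Subgroup.le_normalizer
  have hTNL : N ⊓ T = L := by
    set B : Subgroup G := N ⊓ T with hB
    have hLB : L ≤ B := le_inf (hLM₁.trans inf_le_left) hLT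
    have hBM₁ : B ≤ M₁ := le_inf inf_le_left (inf_le_right.trans inf_le_left)
    have hBQn : B ≤ Subgroup.normalizer (Q : Set G) := hBM₁.trans hM₁NQ
    have hBL : B ≤ Subgroup.normalizer (L : Set G) := inf_le_right.trans inf_le_right
    have hQB : Q ⊓ B = ⊥ := by
      rw [eq_bot_iff, ← hCQL]
      intro x hx
      refine Subgroup.mem_inf.mpr ⟨hx.1, ?_⟩
      exact Cfsg.Agent.Lib.Helper54.inf_normalizer_le_centralizer hLQn hdisjQL
        (Subgroup.mem_inf.mpr ⟨hx.1, hBL hx.2⟩)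
    have h1 : Nat.card (Q ⊔ B : Subgroup G) = Nat.card Q * Nat.card B :=
      Cfsg.Agent.Lib.Helper54.card_sup_of_le_normalizer hBQn hQB
    have h2 : Nat.card (Q ⊔ B : Subgroup G) ≤ Nat.card M₁ :=
      Nat.le_of_dvd Nat.card_pos (Subgroup.card_dvd_of_le (sup_le hQM₁le hBM₁))
    rw [h1, hcardM₁] at h2
    have h3 : Nat.card B ≤ Nat.card L := Nat.le_of_mul_le_mul_left h2 Nat.card_pos
    exact (Subgroup.eq_of_le_of_card_ge hLB h3).symm
  -- complement of `L` in `T`
  have hTNn : T ≤ Subgroup.normalizer (N : Set G) := by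
    rw [Subgroup.normalizer_eq_top]; exact le_top
  have hrelN : N.relIndex T = N.index := by
    have h1 := Cfsg.Agent.Lib.Helper54.relIndex_sup_of_le_normalizer hTNn
    rw [hTN, Subgroup.relIndex_top_right] at h1
    exact h1.symm
  obtain ⟨k, hk⟩ := (Cfsg.Agent.Lib.Helper34.isPGroup_quotient_pResidual p G).exists_card_eq
  have hidx : N.index = p ^ k := by rw [Subgroup.index_eq_card]; exact hk
  have hLp : ¬ p ∣ Nat.card L := by rw [hLcard]; exact hrelQ
  have hcopT : (Nat.card (N ⊓ T : Subgroup G)).Coprime (N.relIndex T) := by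
    rw [hTNL, hrelN, hidx]
    exact Nat.Coprime.pow_right _ ((Nat.Prime.coprime_iff_not_dvd hp).mpr hLp).symm
  obtain ⟨K, hKT, hKcard⟩ := Cfsg.Agent.Lib.Helper54.exists_complement_rel T N hTNn hcopT
  rw [hrelN] at hKcard
  refine ⟨K, Subgroup.isComplement'_of_card_mul_and_disjoint ?_ ?_⟩
  · rw [hKcard, mul_comm]; exact N.card_mul_index
  · rw [disjoint_iff, eq_bot_iff]
    have h1 : K ⊓ N ≤ L := by
      rw [← hTNL]
      exact le_inf inf_le_right (inf_le_left.trans hKT)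
    have h2 : Nat.card (K ⊓ N : Subgroup G) ∣ Nat.card L := Subgroup.card_dvd_of_le h1
    have h3 : Nat.card (K ⊓ N : Subgroup G) ∣ p ^ k := by
      rw [← hidx, ← hKcard]; exact Subgroup.card_dvd_of_le inf_le_left
    have h4 : (Nat.card L).Coprime (p ^ k) :=
      Nat.Coprime.pow_right _ ((Nat.Prime.coprime_iff_not_dvd hp).mpr hLp).symm
    have h5 : Nat.card (K ⊓ N : Subgroup G) = 1 := Nat.eq_one_of_dvd_coprimes h4 h2 h3
    exact (Subgroup.card_eq_one.mp h5).le

end Cfsg.Agent.S0092
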