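import Cfsg.Statements.S1474
import Cfsg.Agent.Lib.Helper52.CNFrob
import Cfsg.Agent.Lib.Helper52.NilpCrit
import Cfsg.Agent.Lib.Helper23.TypeP
import Cfsg.Agent.Lib.Helper1.Fitting
import Cfsg.Agent.S0039
import Cfsg.Agent.S0092
-- import your own Cfsg.Agent.* helpers here

set_option autoImplicit false
open Cfsg

namespace Cfsg.Agent.S1474

open Cfsg.Agent.Lib.Helper52

section Aux

variable {G : Type*} [Group G] [Finite G]

theorem fittingHall_isNilpotent : Group.IsNilpotent (Cfsg.fittingHall G) := by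
  have hle : Cfsg.fittingHall G ≤ Cfsg.fittingSubgroup G := by
    apply sSup_le
    intro N hN
    exact le_sSup ⟨hN.1, hN.2.1⟩
  exact Cfsg.Agent.Lib.Helper65.isNilpotent_of_le hle
    Cfsg.Agent.Lib.Helper1.fittingSubgroup_isNilpotent

theorem sylow_le_fittingHall {r : ℕ} [Fact r.Prime] (R : Sylow r G)
    (hRn : (R : Subgroup G).Normal) : (R : Subgroup G) ≤ Cfsg.fittingHall G := by
  apply le_sSup
  exact ⟨hRn, R.isPGroup'.isNilpotent, R.card_coprime_index⟩

/-- An `r`-element, `r ∤ |F|`, centralizing a non-identity element of `F = fittingHall G`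
centralizes `F`. -/
theorem centralizes_of_fixes (hCN : Cfsg.IsCNGroup G) {e : G} {r k : ℕ} (hr : r.Prime)
    (heo : orderOf e = r ^ k) (hrF : ¬ r ∣ Nat.card (Cfsg.fittingHall G)) {f : G}
    (hf : f ∈ Cfsg.fittingHall G) (hf1 : f ≠ 1) (hef : e * f = f * e) :
    ∀ x ∈ Cfsg.fittingHall G, e * x = x * e := by
  have hF := fittingHall_isNilpotent (G := G)
  have hcard1 : Nat.card (Cfsg.fittingHall G) ≠ 1 := by
    rw [Ne, Subgroup.card_eq_one]
    intro hbot
    rw [hbot, Subgroup.mem_bot] at hf
    exact hf1 hf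
  obtain ⟨q, hq, hqF⟩ := Nat.exists_prime_and_dvd hcard1
  have : Fact q.Prime := ⟨hq⟩
  obtain ⟨u, huF, huo, huc⟩ := exists_central_orderOf_eq_prime _ hF q hqF
  have hu1 : u ≠ 1 := by
    intro h
    rw [h, orderOf_one] at huo
    exact hq.one_lt.ne huo
  have hqr : q ≠ r := by
    rintro rfl
    exact hrF hqF
  have heL : e ∈ Subgroup.centralizer ({f} : Set G) :=
    Subgroup.mem_centralizer_singleton_iff.mpr hef
  have huL : u ∈ Subgroup.centralizer ({f} : Set G) :=
    Subgroup.mem_centralizer_singleton_iff.mpr (huc f hf)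
  have heu : e * u = u * e := comm_of_coprime_of_mem_nilpotent _ (hCN f hf1) heL huL (by
    rw [heo, huo]
    exact Nat.Coprime.pow_left k ((Nat.coprime_primes hr hq).mpr (Ne.symm hqr)))
  have hle : Cfsg.fittingHall G ≤ Subgroup.centralizer ({e} : Set G) := by
    apply le_of_forall_primePow_order_mem
    intro x hx q' j hq' hxo
    rw [Subgroup.mem_centralizer_singleton_iff]
    have hxL : x ∈ Subgroup.centralizer ({u} : Set G) :=
      Subgroup.mem_centralizer_singleton_iff.mpr (huc x hx).symm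
    have heL' : e ∈ Subgroup.centralizer ({u} : Set G) :=
      Subgroup.mem_centralizer_singleton_iff.mpr heu
    apply comm_of_coprime_of_mem_nilpotent _ (hCN u hu1) hxL heL'
    rw [hxo, heo]
    by_cases hj : j = 0
    · subst hj; simp
    · have hq'r : q' ≠ r := by
        rintro rfl
        apply hrF
        have h1 : q' ∣ orderOf x := by rw [hxo]; exact dvd_pow_self q' hj
        exact h1.trans (Subgroup.orderOf_dvd_natCard _ hx)
      exact Nat.Coprime.pow _ _ ((Nat.coprime_primes hq' hr).mpr hq'r)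
  intro x hx
  exact (Subgroup.mem_centralizer_singleton_iff.mp (hle hx)).symm

/-- No prime `r ∤ |F|` divides `|C_G(F)|`. -/
theorem not_dvd_card_centralizer (hCN : Cfsg.IsCNGroup G) (hF1 : Cfsg.fittingHall G ≠ ⊥) {r : ℕ}
    (hr : r.Prime) (hrF : ¬ r ∣ Nat.card (Cfsg.fittingHall G)) :
    ¬ r ∣ Nat.card (Subgroup.centralizer (Cfsg.fittingHall G : Set G)) := by
  intro hrK
  have : Fact r.Prime := ⟨hr⟩
  have hF := fittingHall_isNilpotent (G := G)
  have hcard1 : Nat.card (Cfsg.fittingHall G) ≠ 1 := by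
    rw [Ne, Subgroup.card_eq_one]; exact hF1
  obtain ⟨q, hq, hqF⟩ := Nat.exists_prime_and_dvd hcard1
  have : Fact q.Prime := ⟨hq⟩
  obtain ⟨u, huF, huo, huc⟩ := exists_central_orderOf_eq_prime _ hF q hqF
  have hu1 : u ≠ 1 := by
    intro h
    rw [h, orderOf_one] at huo
    exact hq.one_lt.ne huo
  -- `K = C_G(F)` is nilpotent
  have hKle : Subgroup.centralizer (Cfsg.fittingHall G : Set G) ≤
      Subgroup.centralizer ({u} : Set G) := by
    apply Subgroup.centralizer_le
    intro x hx
    rw [Set.mem_singleton_iff] at hx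
    rw [hx]; exact huF
  have hK : Group.IsNilpotent (Subgroup.centralizer (Cfsg.fittingHall G : Set G)) :=
    Cfsg.Agent.Lib.Helper65.isNilpotent_of_le hKle (hCN u hu1)
  have hKn : (Subgroup.centralizer (Cfsg.fittingHall G : Set G)).Normal := inferInstance
  -- an element of order `r` in `K`
  obtain ⟨x, hx⟩ := exists_prime_orderOf_dvd_card'
    (G := Subgroup.centralizer (Cfsg.fittingHall G : Set G)) r hrK
  have hxo : orderOf (x : G) = r := by rw [Subgroup.orderOf_coe]; exact hx
  have hx1 : (x : G) ≠ 1 := by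
    intro h
    rw [h, orderOf_one] at hxo
    exact hr.one_lt.ne hxo
  have hzx : IsPGroup r (Subgroup.zpowers (x : G)) :=
    IsPGroup.of_card (n := 1) (by rw [Nat.card_zpowers, hxo, pow_one])
  obtain ⟨R1, hR1⟩ := hzx.exists_le_sylow
  -- every Sylow `r`-subgroup lies in `K`
  have hRK : ∀ R : Sylow r G, (R : Subgroup G) ≤
      Subgroup.centralizer (Cfsg.fittingHall G : Set G) ∧ (R : Subgroup G) ≠ ⊥ := by
    intro R
    obtain ⟨g, hg⟩ := MulAction.exists_smul_eq G R1 R
    have hx'R : g * (x : G) * g⁻¹ ∈ (R : Subgroup G) := by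
      rw [← hg, Sylow.coe_subgroup_smul, Subgroup.mem_smul_pointwise_iff_exists]
      exact ⟨(x : G), hR1 (Subgroup.mem_zpowers _), by simp [MulAut.smul_def, MulAut.conj_apply]⟩
    have hx'K : g * (x : G) * g⁻¹ ∈ Subgroup.centralizer (Cfsg.fittingHall G : Set G) :=
      hKn.conj_mem _ x.2 g
    have hx'1 : g * (x : G) * g⁻¹ ≠ 1 := by
      intro h
      apply hx1
      have : (x : G) = g⁻¹ * (g * (x : G) * g⁻¹) * g := by group
      rw [this, h]; group
    have hRne : (R : Subgroup G) ≠ ⊥ := by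
      intro hbot
      rw [hbot, Subgroup.mem_bot] at hx'R
      exact hx'1 hx'R
    refine ⟨?_, hRne⟩
    have hZ1 : (R : Subgroup G) ⊓ Subgroup.centralizer (Cfsg.fittingHall G : Set G) ≠ ⊥ := by
      intro hbot
      have : g * (x : G) * g⁻¹ ∈ (R : Subgroup G) ⊓
          Subgroup.centralizer (Cfsg.fittingHall G : Set G) := Subgroup.mem_inf.mpr ⟨hx'R, hx'K⟩
      rw [hbot, Subgroup.mem_bot] at this
      exact hx'1 this
    obtain ⟨w, hwZ, hw1, hwc⟩ := exists_ne_one_centralized r (R : Subgroup G)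
      ((R : Subgroup G) ⊓ Subgroup.centralizer (Cfsg.fittingHall G : Set G)) R.isPGroup'
      (R.isPGroup'.to_le inf_le_left)
      (Cfsg.Agent.Lib.Helper54.le_normalizer_inf Subgroup.le_normalizer
        (by rw [Subgroup.normalizer_eq_top]; exact le_top)) hZ1
    obtain ⟨hwR, hwK⟩ := Subgroup.mem_inf.mp hwZ
    intro y hy
    rw [Subgroup.mem_centralizer_iff]
    obtain ⟨j, hj⟩ := (IsPGroup.iff_orderOf.mp R.isPGroup') ⟨y, hy⟩
    rw [Subgroup.orderOf_mk] at hj
    have hle : Cfsg.fittingHall G ≤ Subgroup.centralizer ({y} : Set G) := by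
      apply le_of_forall_primePow_order_mem
      intro f hf q' i hq' hfo
      rw [Subgroup.mem_centralizer_singleton_iff]
      have hfL : f ∈ Subgroup.centralizer ({w} : Set G) :=
        Subgroup.mem_centralizer_singleton_iff.mpr
          (Subgroup.mem_centralizer_iff.mp hwK f hf)
      have hyL : y ∈ Subgroup.centralizer ({w} : Set G) :=
        Subgroup.mem_centralizer_singleton_iff.mpr (hwc y hy)
      apply comm_of_coprime_of_mem_nilpotent _ (hCN w hw1) hfL hyL
      rw [hfo, hj]
      by_cases hi : i = 0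
      · subst hi; simp
      · have hq'r : q' ≠ r := by
          rintro rfl
          apply hrF
          have h1 : q' ∣ orderOf f := by rw [hfo]; exact dvd_pow_self q' hi
          exact h1.trans (Subgroup.orderOf_dvd_natCard _ hf)
        exact Nat.Coprime.pow _ _ ((Nat.coprime_primes hq' hr).mpr hq'r)
    intro f hf
    exact Subgroup.mem_centralizer_singleton_iff.mp (hle hf)
  -- all Sylow `r`-subgroups coincide
  obtain ⟨R0, hR0K, hR0p, hR0mem⟩ := exists_pSubgroup_of_nilpotent _ hK r
  have hall : ∀ R : Sylow r G, (R : Subgroup G) = R0 := by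
    intro R
    have hle : (R : Subgroup G) ≤ R0 := by
      intro y hy
      obtain ⟨j, hj⟩ := (IsPGroup.iff_orderOf.mp R.isPGroup') ⟨y, hy⟩
      rw [Subgroup.orderOf_mk] at hj
      exact hR0mem y ((hRK R).1 hy) j hj
    exact (R.is_maximal' hR0p hle).symm
  have hsub : Subsingleton (Sylow r G) :=
    ⟨fun R R' => Sylow.ext ((hall R).trans (hall R').symm)⟩
  let R : Sylow r G := default
  have hRn : (R : Subgroup G).Normal := Sylow.normal_of_subsingleton R
  have hRF := sylow_le_fittingHall R hRn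
  have hRne := (hRK R).2
  apply hrF
  have h1 : r ∣ Nat.card (R : Subgroup G) := by
    obtain ⟨a, ha⟩ := IsPGroup.iff_card.mp R.isPGroup'
    rw [ha]
    apply dvd_pow_self
    rintro rfl
    rw [pow_zero] at ha
    exact hRne (Subgroup.card_eq_one.mp ha)
  exact h1.trans (Subgroup.card_dvd_of_le hRF)

/-- A complement of `F = fittingHall G` acts without fixed points on `F`. -/
theorem fpf (hCN : Cfsg.IsCNGroup G) (hF1 : Cfsg.fittingHall G ≠ ⊥) (E : Subgroup G)
    (hc : Subgroup.IsComplement' (Cfsg.fittingHall G) E) :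
    ∀ e ∈ E, e ≠ 1 → Cfsg.fittingHall G ⊓ Subgroup.centralizer ({e} : Set G) = ⊥ := by
  intro e he he1
  rw [Subgroup.eq_bot_iff_forall]
  intro f hf
  by_contra hf1
  obtain ⟨hfF, hfC⟩ := Subgroup.mem_inf.mp hf
  rw [Subgroup.mem_centralizer_singleton_iff] at hfC
  have hox : orderOf e ≠ 1 := by rwa [Ne, orderOf_eq_one_iff]
  obtain ⟨r, hr, hre⟩ := Nat.exists_prime_and_dvd hox
  have heo : orderOf (e ^ (orderOf e / r)) = r :=
    orderOf_pow_orderOf_div (orderOf_pos e).ne' hre
  have he'E : e ^ (orderOf e / r) ∈ E := E.pow_mem he _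
  have hrE : r ∣ Nat.card E := by
    rw [← heo]; exact Subgroup.orderOf_dvd_natCard E he'E
  have hcopFE : (Nat.card (Cfsg.fittingHall G)).Coprime (Nat.card E) := by
    have := Cfsg.Agent.Lib.Helper23.fittingHall_coprime G
    rwa [hc.symm.index_eq_card] at this
  have hrF : ¬ r ∣ Nat.card (Cfsg.fittingHall G) := by
    intro h
    have := Nat.dvd_gcd h hrE
    rw [hcopFE] at this
    exact hr.one_lt.ne' (Nat.dvd_one.mp this)
  have hcomm : e ^ (orderOf e / r) * f = f * e ^ (orderOf e / r) :=
    ((Commute.pow_right (show Commute f e from hfC) _)).eq.symm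
  have hcent := centralizes_of_fixes hCN hr (k := 1) (by rw [heo, pow_one]) hrF hfF hf1 hcomm
  have he'K : e ^ (orderOf e / r) ∈ Subgroup.centralizer (Cfsg.fittingHall G : Set G) := by
    rw [Subgroup.mem_centralizer_iff]
    intro x hx
    exact (hcent x hx).symm
  apply not_dvd_card_centralizer hCN hF1 hr hrF
  rw [← heo]
  exact Subgroup.orderOf_dvd_natCard _ he'K

/-- A complement of `F = fittingHall G` is nilpotent. -/
theorem complement_isNilpotent (hCN : Cfsg.IsCNGroup G) (hF1 : Cfsg.fittingHall G ≠ ⊥)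
    (E : Subgroup G) (hc : Subgroup.IsComplement' (Cfsg.fittingHall G) E) :
    Group.IsNilpotent E := by
  have hF := fittingHall_isNilpotent (G := G)
  have hfpf := fpf hCN hF1 E hc
  have hcopFE : (Nat.card (Cfsg.fittingHall G)).Coprime (Nat.card E) := by
    have := Cfsg.Agent.Lib.Helper23.fittingHall_coprime G
    rwa [hc.symm.index_eq_card] at this
  -- the abelian normal subgroup `V = Z(F)`
  have hcard1 : Nat.card (Cfsg.fittingHall G) ≠ 1 := by
    rw [Ne, Subgroup.card_eq_one]; exact hF1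
  obtain ⟨q, hq, hqF⟩ := Nat.exists_prime_and_dvd hcard1
  have : Fact q.Prime := ⟨hq⟩
  obtain ⟨u, huF, huo, huc⟩ := exists_central_orderOf_eq_prime _ hF q hqF
  have hu1 : u ≠ 1 := by
    intro h
    rw [h, orderOf_one] at huo
    exact hq.one_lt.ne huo
  have hVab : IsMulCommutative (Cfsg.fittingHall G ⊓
      Subgroup.centralizer (Cfsg.fittingHall G : Set G) : Subgroup G) := by
    refine ⟨⟨fun a b => ?_⟩⟩
    apply Subtype.ext
    have ha := (Subgroup.mem_inf.mp a.2).1
    have hb := (Subgroup.mem_inf.mp b.2).2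
    exact (Subgroup.mem_centralizer_iff.mp hb a ha)
  have hV1 : Cfsg.fittingHall G ⊓ Subgroup.centralizer (Cfsg.fittingHall G : Set G) ≠ ⊥ := by
    intro hbot
    have : u ∈ Cfsg.fittingHall G ⊓ Subgroup.centralizer (Cfsg.fittingHall G : Set G) :=
      Subgroup.mem_inf.mpr ⟨huF, Subgroup.mem_centralizer_iff.mpr (fun x hx => (huc x hx).symm)⟩
    rw [hbot, Subgroup.mem_bot] at this
    exact hu1 this
  apply isNilpotent_of_forall_normalizer_le_centralizer
  intro r hr Q hQ g hg hgr
  rw [Subgroup.mem_centralizer_iff]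
  by_cases hQ1 : Q = ⊥
  · intro q hq
    rw [hQ1, SetLike.mem_coe, Subgroup.mem_bot] at hq
    rw [hq, one_mul, mul_one]
  have hrE : r ∣ Nat.card E := by
    have h1 : r ∣ Nat.card Q := by
      obtain ⟨a, ha⟩ := IsPGroup.iff_card.mp hQ
      rw [ha]
      apply dvd_pow_self
      rintro rfl
      rw [pow_zero] at ha
      exact hQ1 (Subgroup.card_eq_one.mp ha)
    exact h1.trans (Subgroup.card_subgroup_dvd_card Q)
  have hrF : ¬ r ∣ Nat.card (Cfsg.fittingHall G) := by
    intro h
    have := Nat.dvd_gcd h hrE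
    rw [hcopFE] at this
    exact hr.out.one_lt.ne' (Nat.dvd_one.mp this)
  have hVr : (Nat.card (Cfsg.fittingHall G ⊓
      Subgroup.centralizer (Cfsg.fittingHall G : Set G) : Subgroup G)).Coprime r := by
    rw [Nat.coprime_comm, Nat.Prime.coprime_iff_not_dvd hr.out]
    intro h
    exact hrF (h.trans (Subgroup.card_dvd_of_le inf_le_left))
  have hgN : (g : G) ∈ Subgroup.normalizer ((Q.map E.subtype : Subgroup G) : Set G) := by
    have : (g : G) ∈ (Subgroup.normalizer (Q : Set E)).map E.subtype := ⟨g, hg, rfl⟩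
    rw [Cfsg.Agent.S0092.map_normalizer_subtype] at this
    exact (Subgroup.mem_inf.mp this).2
  have hsupE : Q.map E.subtype ⊔ Subgroup.zpowers (g : G) ≤ E := by
    apply sup_le (Subgroup.map_subtype_le _)
    rw [Subgroup.zpowers_le]; exact g.2
  have hres := centralizes_of_fpf hCN _ hVab hV1 r hVr (Q.map E.subtype) (hQ.map _) (g : G) hgN
    (by rw [Subgroup.orderOf_coe]; exact hgr)
    (by
      intro e he he1
      rw [eq_bot_iff, ← hfpf e (hsupE he) he1]
      exact inf_le_inf_right _ inf_le_left)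
  intro q hq
  apply Subtype.ext
  exact Subgroup.mem_centralizer_iff.mp hres (q : G) ⟨q, hq, rfl⟩

end Aux

/-- Let G be a finite group in which every non-identity element has nilpotent centralizer, not itself nilpotent, and having a nontrivial normal Sylow p-subgroup for some prime p. Let H be the largest normal nilpotent Hall subgroup of G. Then H is a nontrivial proper normal subgroup with a complement E that is a Frobenius complement in G (no non-identity element of E centralizes a non-identity element of H), and G/H is nilpotent. -/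
theorem result {G : Type*} [Group G] [Finite G] (hCN : Cfsg.IsCNGroup G) (hnn : ¬ Group.IsNilpotent G) (p : ℕ) [Fact p.Prime] (P : Sylow p G)
    (hP1 : (P : Subgroup G) ≠ ⊥) (hPn : (P : Subgroup G).Normal) :
    Cfsg.fittingHall G ≠ ⊥ ∧ Cfsg.fittingHall G ≠ ⊤ ∧
      (∃ E : Subgroup G, Subgroup.IsComplement' (Cfsg.fittingHall G) E ∧ Cfsg.IsFrobeniusComplement E ∧
        ∀ e ∈ E, e ≠ 1 → Cfsg.fittingHall G ⊓ Subgroup.centralizer ({e} : Set G) = ⊥) ∧
      Group.IsNilpotent (G ⧸ Cfsg.fittingHall G) := by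
  have hF := fittingHall_isNilpotent (G := G)
  have hF1 : Cfsg.fittingHall G ≠ ⊥ := by
    intro hbot
    have := sylow_le_fittingHall P hPn
    rw [hbot, le_bot_iff] at this
    exact hP1 this
  have hFtop : Cfsg.fittingHall G ≠ ⊤ := by
    intro htop
    apply hnn
    rw [htop] at hF
    exact Group.nilpotent_of_mulEquiv Subgroup.topEquiv
  obtain ⟨E, hc⟩ := Subgroup.exists_right_complement'_of_coprime
    (Cfsg.Agent.Lib.Helper23.fittingHall_coprime G)
  have hE1 : E ≠ ⊥ := by
    intro hbot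
    apply hFtop
    have := hc.sup_eq_top
    rwa [hbot, sup_bot_eq] at this
  have hfpf := fpf hCN hF1 E hc
  refine ⟨hF1, hFtop, ⟨E, hc, (Cfsg.Agent.S0039.result _ E hc hF1 hE1).mpr hfpf, hfpf⟩, ?_⟩
  have hEnil := complement_isNilpotent hCN hF1 E hc
  have hmap : E.map (QuotientGroup.mk' (Cfsg.fittingHall G)) = ⊤ := by
    have h1 : (Cfsg.fittingHall G ⊔ E).map (QuotientGroup.mk' (Cfsg.fittingHall G)) = ⊤ := by
      rw [hc.sup_eq_top, ← MonoidHom.range_eq_map,
        MonoidHom.range_eq_top.mpr (QuotientGroup.mk'_surjective _)]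
    rw [Subgroup.map_sup] at h1
    have h2 : (Cfsg.fittingHall G).map (QuotientGroup.mk' (Cfsg.fittingHall G)) = ⊥ := by
      rw [eq_bot_iff]
      rintro _ ⟨x, hx, rfl⟩
      rw [Subgroup.mem_bot]
      exact (QuotientGroup.eq_one_iff x).mpr hx
    rwa [h2, bot_sup_eq] at h1
  have hn := isNilpotent_map (QuotientGroup.mk' (Cfsg.fittingHall G)) E hEnil
  rw [hmap] at hn
  exact Group.nilpotent_of_mulEquiv Subgroup.topEquiv

end Cfsg.Agent.S1474
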