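import Cfsg.Statements.S0051
import Cfsg.Agent.Lib.Helper52.Gaschutz

set_option autoImplicit false
open Cfsg

namespace Cfsg.Agent.S0051

open Cfsg.Agent.Lib.Helper52

/-- Gaschütz's Theorem, existence: an abelian normal subgroup K that is complemented inside a subgroup U ≥ K whose index is coprime to the order of K is complemented in the whole group. -/
theorem result {G : Type*} [Group G] [Finite G] (K U : Subgroup G) [K.Normal] [IsMulCommutative K]
    (hKU : K ≤ U) (hcop : (Nat.card K).Coprime U.index)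
    (A : Subgroup G) (hAU : A ≤ U) (hAK : A ⊓ K = ⊥) (hKA : K ⊔ A = U) :
    ∃ H : Subgroup G, Subgroup.IsComplement' K H := by
  have hU : ∀ u ∈ U, ∃ k : K, ∃ a ∈ A, u = k * a := by
    intro u hu
    have : u ∈ (↑(K ⊔ A) : Set G) := by rw [hKA]; exact hu
    rw [Subgroup.normal_mul] at this
    obtain ⟨k, hk, a, ha, rfl⟩ := this
    exact ⟨⟨k, hk⟩, a, ha, rfl⟩
  have hKA' : K ⊓ A = ⊥ := by rw [inf_comm]; exact hAK
  exact ⟨GFun.ker hU (GFun.ofComplU hKU hAU hKA' hU), GFun.ker_isComplement' hU hcop _⟩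

end Cfsg.Agent.S0051
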