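import Cfsg.Statements.S0081
import Cfsg.Agent.Lib.Helper84.TateAux

set_option autoImplicit false
open Cfsg

namespace Cfsg.Agent.S0081

open Cfsg.Agent.Lib.Helper84

/-- If a normal subgroup meets a Sylow p-subgroup P inside the Frattini subgroup of P, then it has a normal p-complement. -/
theorem result {G : Type*} [Group G] [Finite G] {p : ℕ} [Fact p.Prime] (P : Sylow p G) (N : Subgroup G) [N.Normal] (h : N ⊓ (P : Subgroup G) ≤ (frattini P).map (P : Subgroup G).subtype) : Cfsg.HasNormalPComplement p N := by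
  classical
  have hNG₁ : N ≤ N ⊔ (P : Subgroup G) := le_sup_left
  have hPG₁ : (P : Subgroup G) ≤ N ⊔ (P : Subgroup G) := le_sup_right
  have hP₁ : IsPGroup p ((P : Subgroup G).subgroupOf (N ⊔ (P : Subgroup G))) :=
    P.isPGroup'.comap_subtype
  have hidx : ¬ p ∣ ((P : Subgroup G).subgroupOf (N ⊔ (P : Subgroup G))).index := by
    have h1 : ((P : Subgroup G).subgroupOf (N ⊔ (P : Subgroup G))).index ∣ (P : Subgroup G).index :=
      Dvd.intro _ (Subgroup.relIndex_mul_index hPG₁)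
    exact fun h2 => P.not_dvd_index (dvd_trans h2 h1)
  -- `O^p(NP) ≤ N`
  have hKN : pResidual p ↥(N ⊔ (P : Subgroup G)) ≤ N.subgroupOf (N ⊔ (P : Subgroup G)) := by
    unfold pResidual
    rw [Subgroup.closure_le]
    intro g hg
    have hg' : Nat.Coprime (orderOf g) p := hg
    have hmem : (g : G) ∈ N ⊔ (P : Subgroup G) := g.2
    rw [← SetLike.mem_coe, Subgroup.normal_mul] at hmem
    obtain ⟨n, hn, x, hx, hnx⟩ := hmem
    let q : ↥(N ⊔ (P : Subgroup G)) →* G ⧸ N := (QuotientGroup.mk' N).comp (Subgroup.subtype _)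
    have hq : q g = QuotientGroup.mk' N x := by
      show QuotientGroup.mk' N (g : G) = QuotientGroup.mk' N x
      rw [← hnx, map_mul]
      have : QuotientGroup.mk' N n = 1 := (QuotientGroup.eq_one_iff n).mpr hn
      rw [this, one_mul]
    obtain ⟨k, hk⟩ := P.isPGroup' ⟨x, hx⟩
    have hk' : x ^ p ^ k = 1 := congrArg Subtype.val hk
    have h1 : (q g) ^ p ^ k = 1 := by rw [hq, ← map_pow, hk', map_one]
    have h2 : orderOf (q g) ∣ p ^ k := orderOf_dvd_of_pow_eq_one h1
    have h3 : Nat.Coprime (orderOf (q g)) (p ^ k) :=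
      Nat.Coprime.pow_right k (Nat.Coprime.coprime_dvd_left (orderOf_map_dvd q g) hg')
    have h4 : q g = 1 := orderOf_eq_one_iff.mp (Nat.Coprime.eq_one_of_dvd h3 h2)
    exact (QuotientGroup.eq_one_iff (g : G)).mp h4
  -- the Frattini hypothesis, transported
  have hfr : (pResidual p ↥(N ⊔ (P : Subgroup G))).subgroupOf
      ((P : Subgroup G).subgroupOf (N ⊔ (P : Subgroup G))) ≤ frattini _ := by
    intro x hx
    have hx1 : ((x : ↥(N ⊔ (P : Subgroup G))) : G) ∈ N := hKN hx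
    have hx2 : ((x : ↥(N ⊔ (P : Subgroup G))) : G) ∈ N ⊓ (P : Subgroup G) := ⟨hx1, x.2⟩
    obtain ⟨y, hy, hyx⟩ := h hx2
    let φ : ↥(P : Subgroup G) →* ↥((P : Subgroup G).subgroupOf (N ⊔ (P : Subgroup G))) :=
      (Subgroup.inclusion hPG₁).codRestrict _ (fun y => y.2)
    have hφ : Function.Surjective φ := by
      intro z
      exact ⟨⟨((z : ↥(N ⊔ (P : Subgroup G))) : G), z.2⟩, rfl⟩
    have h1 := frattini_le_comap_frattini_of_surjective hφ hy
    have h2 : φ y = x := Subtype.ext (Subtype.ext hyx)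
    rw [← h2]
    exact h1
  have hbot := subgroupOf_pResidual_eq_bot_of_le_frattini _ hP₁ hidx hfr
  have hsup := Cfsg.Agent.Lib.Helper34.pResidual_sup_eq_top p _ hidx
  have hKn : (pResidual p ↥(N ⊔ (P : Subgroup G))).Normal := Cfsg.Agent.Lib.Helper34.pResidual_normal p _
  obtain ⟨T, hT⟩ := exists_sylow_subgroupOf_normal N P
  refine ⟨T, (pResidual p ↥(N ⊔ (P : Subgroup G))).comap (Subgroup.inclusion hNG₁), hKn.comap _,
    Subgroup.isComplement'_of_disjoint_and_mul_eq_univ ?_ ?_⟩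
  · rw [Subgroup.disjoint_def]
    intro x hxM hxT
    rw [hT] at hxT
    have hxP : (x : G) ∈ (P : Subgroup G) := hxT
    have hz : (⟨Subgroup.inclusion hNG₁ x, hxP⟩ : ↥((P : Subgroup G).subgroupOf (N ⊔ (P : Subgroup G)))) ∈
        (pResidual p ↥(N ⊔ (P : Subgroup G))).subgroupOf _ := hxM
    rw [hbot, Subgroup.mem_bot] at hz
    have := congrArg (fun z : ↥((P : Subgroup G).subgroupOf (N ⊔ (P : Subgroup G))) =>
      ((z : ↥(N ⊔ (P : Subgroup G))) : G)) hz
    exact Subtype.ext this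
  · rw [Set.eq_univ_iff_forall]
    intro n
    have hn : Subgroup.inclusion hNG₁ n ∈ pResidual p ↥(N ⊔ (P : Subgroup G)) ⊔
        (P : Subgroup G).subgroupOf (N ⊔ (P : Subgroup G)) := by
      rw [hsup]; exact Subgroup.mem_top _
    rw [← SetLike.mem_coe, Subgroup.normal_mul] at hn
    obtain ⟨k, hk, x, hx, hkx⟩ := hn
    have hkN : (k : G) ∈ N := hKN hk
    have hkx' : (k : G) * (x : G) = (n : G) := congrArg Subtype.val hkx
    have hxN : (x : G) ∈ N := by
      have : (x : G) = (k : G)⁻¹ * (n : G) := by rw [← hkx']; group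
      rw [this]
      exact N.mul_mem (N.inv_mem hkN) n.2
    have hxP : (x : G) ∈ (P : Subgroup G) := hx
    refine Set.mem_mul.mpr ⟨⟨(k : G), hkN⟩, ?_, ⟨(x : G), hxN⟩, ?_, ?_⟩
    · show Subgroup.inclusion hNG₁ ⟨(k : G), hkN⟩ ∈ pResidual p ↥(N ⊔ (P : Subgroup G))
      have : Subgroup.inclusion hNG₁ ⟨(k : G), hkN⟩ = k := Subtype.ext rfl
      rw [this]; exact hk
    · show (⟨(x : G), hxN⟩ : N) ∈ (T : Subgroup N)
      rw [hT]; exact hxP
    · exact Subtype.ext hkx'

end Cfsg.Agent.S0081
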