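import Cfsg.Statements.S1386
-- import your own Cfsg.Agent.* helpers here

set_option autoImplicit false
open Cfsg


namespace Cfsg.Agent.S1386

/-- If `A`, `B` commute elementwise and meet trivially, the join has order the product. -/
theorem card_sup_of_commute_of_disjoint {G : Type*} [Group G] (A B : Subgroup G)
    (hcomm : ∀ a ∈ A, ∀ b ∈ B, a * b = b * a) (hdisj : A ⊓ B = ⊥) :
    Nat.card ↥(A ⊔ B) = Nat.card ↥A * Nat.card ↥B := by
  have comm : ∀ (m : ↥A) (n : ↥B), Commute (A.subtype m) (B.subtype n) :=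
    fun m n => hcomm m.1 m.2 n.1 n.2
  have hinj : Function.Injective (A.subtype.noncommCoprod B.subtype comm) := by
    rw [MonoidHom.noncommCoprod_injective]
    refine ⟨A.subtype_injective, B.subtype_injective, ?_⟩
    rw [Subgroup.range_subtype, Subgroup.range_subtype, disjoint_iff, hdisj]
  have hrange : (A.subtype.noncommCoprod B.subtype comm).range = A ⊔ B := by
    rw [MonoidHom.noncommCoprod_range, Subgroup.range_subtype, Subgroup.range_subtype]
  rw [← hrange, ← Nat.card_prod]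
  exact (Nat.card_congr (MonoidHom.ofInjective hinj).toEquiv).symm

/-- In a finite cyclic group, two subgroups of the same order are equal. -/
theorem subgroup_eq_of_card_eq_of_isCyclic {C : Type*} [Group C] [Finite C] [IsCyclic C]
    (A B : Subgroup C) (h : Nat.card ↥A = Nat.card ↥B) : A = B := by
  classical
  have : Fintype C := Fintype.ofFinite C
  set n := Nat.card ↥A with hn
  have hn0 : 0 < n := Nat.card_pos
  have key : ∀ D : Subgroup C, Nat.card ↥D = n → (D : Set C) = {x | x ^ n = 1} := by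
    intro D hD
    apply Set.eq_of_subset_of_ncard_le
    · intro x hx
      show x ^ n = 1
      have h1 : (⟨x, hx⟩ : ↥D) ^ Nat.card ↥D = 1 := pow_card_eq_one'
      rw [hD] at h1
      exact congrArg Subtype.val h1
    · have h2 := IsCyclic.card_pow_eq_one_le (α := C) hn0
      have h3 : ({x : C | x ^ n = 1} : Set C).ncard = (Finset.univ.filter (fun a : C => a ^ n = 1)).card := by
        rw [← Set.ncard_coe_finset]
        congr 1
        ext x
        simp
      rw [h3]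
      refine h2.trans ?_
      rw [← hD]
      exact (Nat.card_coe_set_eq _).le
    · exact Set.toFinite _
  apply SetLike.coe_injective
  rw [key A rfl, key B h.symm]

/-- Let G be a finite group, W₁, W₂ subgroups forming a self-normalizing cyclic pair, S a subgroup with W₂ ≤ S and W₁ a complement to S' in S, and (W₁, U, W₂') type-P data for S. Then W₂' = W₂ (that is, C_{S'}(W₁) = W₂). -/
theorem result {G : Type*} [Group G] [Finite G] (W₁ W₂ S U W₂' : Subgroup G) (hW : Cfsg.IsSelfNormalizingCyclic W₁ W₂)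
    (hSW : Cfsg.IsComplIn ⁅S, S⁆ W₁ S) (hW₂S : W₂ ≤ S) (hP : Cfsg.IsTypePWith S W₁ U W₂') :
    W₂' = W₂ := by
  classical
  obtain ⟨hW₁ne, hW₂ne, hdisj, hcomm, hcyc, hnorm⟩ := hW
  obtain ⟨hW₁ne', hW₂'ne, hdisj', hcomm', hcyc', hnorm'⟩ := hP.selfNormalizing
  obtain ⟨hS'S, hW₁S, hS'W₁, hfact⟩ := hSW
  -- pick x ∈ W₁ nontrivial
  obtain ⟨x, hxW₁, hx1⟩ := (W₁.bot_or_exists_ne_one).resolve_left hW₁ne
  have hcent := hP.W₂_centralizer x hxW₁ hx1
  -- W₁ is commutative
  have hW₁comm : ∀ a ∈ W₁, ∀ b ∈ W₁, a * b = b * a := by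
    intro a ha b hb
    have := hP.W₁_cyclic
    have h := mul_comm' (⟨a, ha⟩ : ↥W₁) ⟨b, hb⟩
    exact congrArg Subtype.val h
  -- W₂ ≤ W₁ ⊔ W₂'
  have hW₂le : W₂ ≤ W₁ ⊔ W₂' := by
    intro w hw
    obtain ⟨a, ha, b, hb, hwab⟩ := hfact w (hW₂S hw)
    have ha' : a ∈ W₂' := by
      rw [← hcent]
      refine ⟨ha, ?_⟩
      show a ∈ Subgroup.centralizer {x}
      rw [Subgroup.mem_centralizer_iff]
      intro y hy
      rw [Set.mem_singleton_iff] at hy
      subst hy
      -- a = w * b⁻¹ commutes with y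
      have hwa : a = w * b⁻¹ := by rw [hwab]; group
      have h1 : y * w = w * y := hcomm y hxW₁ w hw
      have h2 : y * b⁻¹ = b⁻¹ * y := hW₁comm y hxW₁ b⁻¹ (W₁.inv_mem hb)
      rw [hwa, ← mul_assoc, h1, mul_assoc, h2, mul_assoc]
    rw [hwab]
    -- a * b ∈ W₁ ⊔ W₂'
    exact (W₁ ⊔ W₂').mul_mem (Subgroup.mem_sup_right ha') (Subgroup.mem_sup_left hb)
  have hWle : W₁ ⊔ W₂ ≤ W₁ ⊔ W₂' := sup_le le_sup_left hW₂le
  -- generator of W₁ ⊔ W₂
  obtain ⟨g, hg⟩ := hcyc.exists_generator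
  have hgen : ∀ T : Subgroup G, (g : G) ∈ T → W₁ ⊔ W₂ ≤ T := by
    intro T hT y hy
    obtain ⟨k, hk⟩ := Subgroup.mem_zpowers_iff.mp (hg ⟨y, hy⟩)
    have : y = (g : G) ^ k := by
      have := congrArg Subtype.val hk
      simpa using this.symm
    rw [this]
    exact T.zpow_mem hT k
  have hg1 : (g : G) ∉ W₁ := by
    intro h
    apply hW₂ne
    have h1 : W₂ ≤ W₁ := le_sup_right.trans (hgen W₁ h)
    rw [← hdisj]
    exact (inf_eq_right.mpr h1).symm
  have hg2 : (g : G) ∉ W₂ := by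
    intro h
    apply hW₁ne
    have h1 : W₁ ≤ W₂ := le_sup_left.trans (hgen W₂ h)
    rw [← hdisj]
    exact (inf_eq_left.mpr h1).symm
  have hg2' : (g : G) ∉ W₂' := by
    intro h
    apply hW₁ne
    have h1 : W₁ ≤ W₂' := le_sup_left.trans (hgen W₂' h)
    rw [← hdisj']
    exact (inf_eq_left.mpr h1).symm
  have hN1 : Subgroup.normalizer ({(g : G)} : Set G) = W₁ ⊔ W₂ := by
    apply hnorm
    · intro y hy
      rw [Set.mem_singleton_iff] at hy
      subst hy
      refine ⟨g.2, ?_⟩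
      rintro (h | h)
      · exact hg1 h
      · exact hg2 h
    · exact Set.singleton_nonempty _
  have hN2 : Subgroup.normalizer ({(g : G)} : Set G) = W₁ ⊔ W₂' := by
    apply hnorm'
    · intro y hy
      rw [Set.mem_singleton_iff] at hy
      subst hy
      refine ⟨hWle g.2, ?_⟩
      rintro (h | h)
      · exact hg1 h
      · exact hg2' h
    · exact Set.singleton_nonempty _
  have hWeq : W₁ ⊔ W₂ = W₁ ⊔ W₂' := hN1.symm.trans hN2
  -- cardinalities
  have hc1 := card_sup_of_commute_of_disjoint W₁ W₂ hcomm hdisj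
  have hc2 := card_sup_of_commute_of_disjoint W₁ W₂' hcomm' hdisj'
  have hW₁pos : 0 < Nat.card ↥W₁ := Nat.card_pos
  have hcard : Nat.card ↥W₂ = Nat.card ↥W₂' := by
    have : Nat.card ↥W₁ * Nat.card ↥W₂ = Nat.card ↥W₁ * Nat.card ↥W₂' := by
      rw [← hc1, ← hc2, hWeq]
    exact Nat.eq_of_mul_eq_mul_left hW₁pos this
  -- both are subgroups of the cyclic group W₁ ⊔ W₂
  have h1 : Nat.card ↥(W₂.subgroupOf (W₁ ⊔ W₂)) = Nat.card ↥W₂ :=
    Nat.card_congr (Subgroup.subgroupOfEquivOfLe le_sup_right).toEquiv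
  have h2 : Nat.card ↥(W₂'.subgroupOf (W₁ ⊔ W₂)) = Nat.card ↥W₂' :=
    Nat.card_congr (Subgroup.subgroupOfEquivOfLe (by rw [hWeq]; exact le_sup_right)).toEquiv
  have heq := subgroup_eq_of_card_eq_of_isCyclic (W₂.subgroupOf (W₁ ⊔ W₂)) (W₂'.subgroupOf (W₁ ⊔ W₂))
    (by rw [h1, h2, hcard])
  have hmap := congrArg (Subgroup.map (W₁ ⊔ W₂).subtype) heq
  rw [Subgroup.subgroupOf_map_subtype, Subgroup.subgroupOf_map_subtype] at hmap
  rw [inf_eq_left.mpr (le_sup_right : W₂ ≤ W₁ ⊔ W₂)] at hmap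
  rw [inf_eq_left.mpr (by rw [hWeq]; exact le_sup_right : W₂' ≤ W₁ ⊔ W₂)] at hmap
  exact hmap.symm

end Cfsg.Agent.S1386
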