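import Mathlib
import Cfsg.Statements.S0592

set_option autoImplicit false
open Cfsg
open Polynomial

namespace Cfsg.Agent.S0592

universe u

/-- quadratic: powers -/
theorem quad_pow {K : Type*} [Field K] {V : Type*} [AddCommGroup V] [Module K V]
    (T : Module.End K V) (hT : ∀ v, T (T v - v) = T v - v) :
    ∀ (n : ℕ) (v : V), (T ^ n) v = v + n • (T v - v) := by
  intro n
  induction n with
  | zero => intro v; simp
  | succ n ih =>
    intro v
    rw [pow_succ', Module.End.mul_apply, ih, map_add, map_nsmul, hT, add_smul, one_smul]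
    abel

theorem quad_pow_char {K : Type*} [Field K] {p : ℕ} [CharP K p] {V : Type*} [AddCommGroup V] [Module K V]
    (T : Module.End K V) (hT : ∀ v, T (T v - v) = T v - v) : T ^ p = 1 := by
  ext v
  rw [quad_pow T hT, Module.End.one_apply]
  have : (p : K) • (T v - v) = 0 := by rw [CharP.cast_eq_zero, zero_smul]
  rw [Nat.cast_smul_eq_nsmul] at this
  rw [this, add_zero]

/-- X^k - 1 splits over a finite field when k ∣ q - 1 -/
theorem splits_X_pow_sub_one {K : Type*} [Field K] [Fintype K] (k : ℕ) (hk : k ∣ Fintype.card K - 1) :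
    (X ^ k - 1 : K[X]).Splits := by
  have hq : 1 < Fintype.card K := Fintype.one_lt_card
  have h1 : (X ^ Fintype.card K - X : K[X]).Splits := by
    rw [splits_iff_card_roots, FiniteField.roots_X_pow_card_sub_X,
      FiniteField.X_pow_card_sub_X_natDegree_eq K hq]
    simp
  have h0 : (X ^ Fintype.card K - X : K[X]) ≠ 0 := FiniteField.X_pow_card_sub_X_ne_zero K hq
  refine h1.of_dvd h0 ?_
  obtain ⟨c, hc⟩ := hk
  have h2 : (X ^ k - 1 : K[X]) ∣ X ^ (Fintype.card K - 1) - 1 := by
    rw [hc, pow_mul]
    simpa using sub_dvd_pow_sub_pow (X ^ k : K[X]) 1 c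
  refine h2.trans ?_
  refine ⟨X, ?_⟩
  have : Fintype.card K = (Fintype.card K - 1) + 1 := by omega
  conv_lhs => rw [this]
  ring


/-- an endomorphism T of a nonzero f.d. space with T^(p^m k) = 1, k ∣ q-1, has an eigenvector -/
theorem exists_eigenvector {K : Type*} [Field K] [Fintype K] {p : ℕ} [Fact p.Prime] [CharP K p]
    {V : Type*} [AddCommGroup V] [Module K V] [FiniteDimensional K V] [Nontrivial V]
    (T : Module.End K V) (m k : ℕ) (hk : k ∣ Fintype.card K - 1) (hT : T ^ (p ^ m * k) = 1) :
    ∃ (μ : K) (w : V), w ≠ 0 ∧ T w = μ • w := by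
  have hq : 1 < Fintype.card K := Fintype.one_lt_card
  have hk0 : k ≠ 0 := by
    rintro rfl
    rw [zero_dvd_iff] at hk
    omega
  have hp : p.Prime := Fact.out
  have hN : 0 < p ^ m * k := Nat.mul_pos (pow_pos hp.pos m) (Nat.pos_of_ne_zero hk0)
  have hdvd : minpoly K T ∣ (X ^ (p ^ m * k) - 1 : K[X]) := by
    apply minpoly.dvd
    simp [hT]
  have hne : (X ^ (p ^ m * k) - 1 : K[X]) ≠ 0 := by
    have := X_pow_sub_C_ne_zero (R := K) hN 1
    simpa using this
  have hsp : (X ^ (p ^ m * k) - 1 : K[X]).Splits := by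
    have h1 : (X ^ (p ^ m * k) - 1 : K[X]) = (X ^ k - 1) ^ (p ^ m) := by
      rw [sub_pow_char_pow, one_pow, ← pow_mul, mul_comm]
    rw [h1]
    exact (splits_X_pow_sub_one k hk).pow _
  have hsm : (minpoly K T).Splits := hsp.of_dvd hne hdvd
  have hint : IsIntegral K T := Algebra.IsIntegral.isIntegral T
  have hdeg : (minpoly K T).degree ≠ 0 := (minpoly.degree_pos hint).ne'
  obtain ⟨μ, hμ⟩ := hsm.exists_eval_eq_zero hdeg
  have hev : T.HasEigenvalue μ := Module.End.hasEigenvalue_of_isRoot hμ
  obtain ⟨w, hw⟩ := hev.exists_hasEigenvector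
  exact ⟨μ, w, hw.2, hw.apply_eq_smul⟩


theorem key {K : Type*} [Field K] [Fintype K] {p : ℕ} [Fact p.Prime] [CharP K p]
    {G : Type*} [Group G] (x y : G) (hxy : Subgroup.closure {x, y} = ⊤) :
    ∀ n : ℕ, ∀ (W : Type u) [AddCommGroup W] [Module K W] [FiniteDimensional K W]
      (ρ : Representation K G W), Module.finrank K W = n →
      (∀ v, ρ x (ρ x v - v) = ρ x v - v) → (∀ v, ρ y (ρ y v - v) = ρ y v - v) →
      (∃ m k : ℕ, k ∣ Fintype.card K - 1 ∧ ρ ((x * y) ^ (p ^ m * k)) = 1) →
      (¬ ∀ g : G, ∃ j : ℕ, ρ (g ^ (p ^ j)) = 1) →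
      ∃ φ : G →* Matrix.SpecialLinearGroup (Fin 2) K, ¬ IsPGroup p φ.range := by
  intro n
  induction n using Nat.strong_induction_on with
  | _ n ih =>
  intro W _ _ _ ρ hn hx hy hord hnp
  have : Nontrivial W := by
    by_contra hW
    rw [not_nontrivial_iff_subsingleton] at hW
    apply hnp
    intro g
    exact ⟨0, by ext v; exact Subsingleton.elim _ _⟩
  obtain ⟨m, k, hk, hT⟩ := hord
  obtain ⟨μ, w, hw0, hw⟩ := exists_eigenvector (p := p) (ρ (x * y)) m k hk
    (by rw [← map_pow]; exact hT)
  have hAB : ρ x (ρ y w) = μ • w := by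
    rw [← hw, map_mul]; rfl
  have hμ0 : μ ≠ 0 := by
    rintro rfl
    apply hw0
    have : ρ ((x*y)⁻¹) (ρ (x*y) w) = w := by
      rw [← Module.End.mul_apply, ← map_mul, inv_mul_cancel, map_one, Module.End.one_apply]
    rw [← this, hw, zero_smul, map_zero]
  have hA2 : ∀ v, ρ x (ρ x v) = ρ x v + ρ x v - v := by
    intro v
    have := hx v
    rw [map_sub, sub_eq_iff_eq_add] at this
    rw [this]; abel
  have hB2 : ∀ v, ρ y (ρ y v) = ρ y v + ρ y v - v := by
    intro v
    have := hy v
    rw [map_sub, sub_eq_iff_eq_add] at this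
    rw [this]; abel
  have hAw : ρ x w = w + w - μ⁻¹ • ρ y w := by
    have h1 := hA2 (ρ y w)
    rw [hAB, map_smul] at h1
    have h2 : μ⁻¹ • (μ • ρ x w) = μ⁻¹ • (μ • w + μ • w - ρ y w) := by rw [h1]
    rw [smul_smul, inv_mul_cancel₀ hμ0, one_smul, smul_sub, smul_add, smul_smul,
      inv_mul_cancel₀ hμ0, one_smul] at h2
    exact h2

  set U : Submodule K W := Submodule.span K (Set.range ![w, ρ y w]) with hUdef
  have hwU : w ∈ U := Submodule.subset_span ⟨0, rfl⟩
  have hBwU : ρ y w ∈ U := Submodule.subset_span ⟨1, rfl⟩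
  have hAU : ∀ u ∈ U, ρ x u ∈ U := by
    intro u hu
    have : U ≤ U.comap (ρ x) := Submodule.span_le.2 (by
      rintro _ ⟨i, rfl⟩
      fin_cases i
      · show ρ x w ∈ U
        rw [hAw]; exact U.sub_mem (U.add_mem hwU hwU) (U.smul_mem _ hBwU)
      · show ρ x (ρ y w) ∈ U
        rw [hAB]; exact U.smul_mem _ hwU)
    exact this hu
  have hBU : ∀ u ∈ U, ρ y u ∈ U := by
    intro u hu
    have : U ≤ U.comap (ρ y) := Submodule.span_le.2 (by
      rintro _ ⟨i, rfl⟩
      fin_cases i
      · show ρ y w ∈ U
        exact hBwU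
      · show ρ y (ρ y w) ∈ U
        rw [hB2]; exact U.sub_mem (U.add_mem hBwU hBwU) hwU)
    exact this hu
  have hAinv : ∀ v, ρ x⁻¹ v = v + v - ρ x v := by
    intro v
    have h1 : ρ x (v + v - ρ x v) = v := by rw [map_sub, map_add, hA2]; abel
    conv_lhs => rw [← h1]
    rw [← Module.End.mul_apply, ← map_mul, inv_mul_cancel, map_one, Module.End.one_apply]
  have hBinv : ∀ v, ρ y⁻¹ v = v + v - ρ y v := by
    intro v
    have h1 : ρ y (v + v - ρ y v) = v := by rw [map_sub, map_add, hB2]; abel
    conv_lhs => rw [← h1]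
    rw [← Module.End.mul_apply, ← map_mul, inv_mul_cancel, map_one, Module.End.one_apply]
  have hinv : ∀ g : G, (∀ u ∈ U, ρ g u ∈ U) ∧ (∀ u ∈ U, ρ g⁻¹ u ∈ U) := by
    intro g
    have hg : g ∈ Subgroup.closure {x, y} := hxy ▸ Subgroup.mem_top g
    induction hg using Subgroup.closure_induction with
    | mem g hg =>
      rcases hg with rfl | hg
      · exact ⟨hAU, fun u hu => by rw [hAinv]; exact U.sub_mem (U.add_mem hu hu) (hAU u hu)⟩
      · rw [Set.mem_singleton_iff] at hg
        subst hg
        exact ⟨hBU, fun u hu => by rw [hBinv]; exact U.sub_mem (U.add_mem hu hu) (hBU u hu)⟩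
    | one => simp
    | mul g h _ _ ihg ihh =>
      constructor
      · intro u hu; rw [map_mul]; exact ihg.1 _ (ihh.1 _ hu)
      · intro u hu; rw [mul_inv_rev, map_mul]; exact ihh.2 _ (ihg.2 _ hu)
    | inv g _ ihg => exact ⟨ihg.2, by simpa using ihg.1⟩
  have hcomap : ∀ g, U ≤ U.comap (ρ g) := fun g u hu => (hinv g).1 u hu

  have hρU : ∀ (g : G) (u : U), ((ρ.subrepresentation U hcomap g u : U) : W) = ρ g u := by
    intro g u; rfl
  have hρQ : ∀ (g : G) (v : W), ρ.quotient U hcomap g (Submodule.Quotient.mk v)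
      = Submodule.Quotient.mk (ρ g v) := by
    intro g v; rfl
  by_cases hU : ∀ g : G, ∃ j : ℕ, ρ.subrepresentation U hcomap (g ^ (p ^ j)) = 1
  · -- descend to the quotient
    have hQ : ¬ ∀ g : G, ∃ j : ℕ, ρ.quotient U hcomap (g ^ (p ^ j)) = 1 := by
      intro hQ
      apply hnp
      intro g
      obtain ⟨j, hj⟩ := hU g
      obtain ⟨j', hj'⟩ := hQ (g ^ (p ^ j))
      refine ⟨j + j' + 1, ?_⟩
      have e : g ^ (p ^ (j + j' + 1)) = ((g ^ (p ^ j)) ^ (p ^ j')) ^ p := by
        rw [← pow_mul, ← pow_mul, pow_succ, pow_add, mul_assoc]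
      rw [e, map_pow]
      apply quad_pow_char
      have hTU : ∀ u ∈ U, ρ ((g ^ (p ^ j)) ^ (p ^ j')) u = u := by
        intro u hu
        have h1 : ρ.subrepresentation U hcomap ((g ^ (p ^ j)) ^ (p ^ j')) = 1 := by
          rw [map_pow, hj, one_pow]
        have h2 := hρU ((g ^ (p ^ j)) ^ (p ^ j')) ⟨u, hu⟩
        rw [h1] at h2
        exact h2.symm
      have hTQ : ∀ v, ρ ((g ^ (p ^ j)) ^ (p ^ j')) v - v ∈ U := by
        intro v
        have h2 := hρQ ((g ^ (p ^ j)) ^ (p ^ j')) v
        rw [hj', Module.End.one_apply] at h2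
        exact (Submodule.Quotient.eq U).1 h2.symm
      intro v
      exact hTU _ (hTQ v)
    have hlt : Module.finrank K (W ⧸ U) < n := by
      have h1 := Submodule.finrank_quotient_add_finrank U
      have h2 : 0 < Module.finrank K U :=
        Module.finrank_pos_iff_exists_ne_zero.2 ⟨⟨w, hwU⟩, fun h => hw0 (congrArg Subtype.val h)⟩
      omega
    refine ih _ hlt (W ⧸ U) (ρ.quotient U hcomap) rfl ?_ ?_ ⟨m, k, hk, ?_⟩ hQ
    · intro v
      obtain ⟨v, rfl⟩ := Submodule.Quotient.mk_surjective U v
      rw [hρQ, ← Submodule.Quotient.mk_sub, hρQ, hx]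
    · intro v
      obtain ⟨v, rfl⟩ := Submodule.Quotient.mk_surjective U v
      rw [hρQ, ← Submodule.Quotient.mk_sub, hρQ, hy]
    · apply LinearMap.ext
      intro v
      obtain ⟨v, rfl⟩ := Submodule.Quotient.mk_surjective U v
      rw [hρQ, hT]; rfl
  · -- the action on U gives the homomorphism
    have hli : LinearIndependent K ![w, ρ y w] := by
      by_contra hli
      apply hU
      rw [LinearIndependent.pair_iff] at hli
      simp only [not_forall] at hli
      obtain ⟨s, t, hst, hne⟩ := hli
      have ht : t ≠ 0 := by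
        rintro rfl
        apply hne
        rw [zero_smul, add_zero] at hst
        rcases smul_eq_zero.1 hst with h | h
        · exact ⟨h, rfl⟩
        · exact absurd h hw0
      -- B w = c • w
      obtain ⟨c, hc⟩ : ∃ c : K, ρ y w = c • w := by
        refine ⟨-(t⁻¹ * s), ?_⟩
        have h1 : t • ρ y w = -(s • w) := eq_neg_of_add_eq_zero_right hst
        have h2 : t⁻¹ • (t • ρ y w) = t⁻¹ • (-(s • w)) := by rw [h1]
        rw [smul_smul, inv_mul_cancel₀ ht, one_smul, smul_neg, smul_smul] at h2
        rw [h2, neg_smul]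
      have hc1 : c = 1 := by
        have h1 := hB2 w
        rw [hc, map_smul, hc] at h1
        have h2 : ((c - 1) * (c - 1)) • w = 0 := by
          have : ((c - 1) * (c - 1)) • w = c • c • w - (c • w + c • w - w) := by
            rw [smul_smul]
            simp only [sub_smul, mul_smul, one_smul, sub_mul, mul_sub, mul_one, one_mul]
            abel
          rw [this, h1, sub_self]
        rcases smul_eq_zero.1 h2 with h | h
        · rcases mul_self_eq_zero.1 h with h
          exact sub_eq_zero.1 h
        · exact absurd h hw0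
      rw [hc1, one_smul] at hc
      have hμ1 : μ = 1 := by
        have h1 := hAw
        rw [hc] at h1
        have h3 := hAB
        rw [hc, h1] at h3
        -- w + w - μ⁻¹ • w = μ • w
        have h2 : ((μ - 1) * (μ - 1)) • w = 0 := by
          have : ((μ - 1) * (μ - 1)) • w = μ • (μ • w - (w + w - μ⁻¹ • w)) := by
            rw [smul_sub, smul_sub, smul_add, smul_smul, smul_smul, mul_inv_cancel₀ hμ0]
            simp only [sub_smul, one_smul, sub_mul, mul_sub, mul_one, one_mul]
            abel
          rw [this, h3, sub_self, smul_zero]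
        rcases smul_eq_zero.1 h2 with h | h
        · rcases mul_self_eq_zero.1 h with h
          exact sub_eq_zero.1 h
        · exact absurd h hw0
      have hAw1 : ρ x w = w := by
        have := hAB
        rwa [hc, hμ1, one_smul] at this
      have hAid : ∀ u ∈ U, ρ x u = u := by
        intro u hu
        have : U ≤ LinearMap.ker (ρ x - 1) := Submodule.span_le.2 (by
          rintro _ ⟨i, rfl⟩
          fin_cases i
          · show w ∈ LinearMap.ker (ρ x - 1)
            rw [LinearMap.mem_ker, LinearMap.sub_apply, hAw1, Module.End.one_apply, sub_self]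
          · show ρ y w ∈ LinearMap.ker (ρ x - 1)
            rw [hc, LinearMap.mem_ker, LinearMap.sub_apply, hAw1, Module.End.one_apply, sub_self])
        have := this hu
        rw [LinearMap.mem_ker, LinearMap.sub_apply, Module.End.one_apply] at this
        exact sub_eq_zero.1 this
      have hBid : ∀ u ∈ U, ρ y u = u := by
        intro u hu
        have : U ≤ LinearMap.ker (ρ y - 1) := Submodule.span_le.2 (by
          rintro _ ⟨i, rfl⟩
          fin_cases i
          · show w ∈ LinearMap.ker (ρ y - 1)
            rw [LinearMap.mem_ker, LinearMap.sub_apply, hc, Module.End.one_apply, sub_self]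
          · show ρ y w ∈ LinearMap.ker (ρ y - 1)
            rw [hc, LinearMap.mem_ker, LinearMap.sub_apply, hc, Module.End.one_apply, sub_self])
        have := this hu
        rw [LinearMap.mem_ker, LinearMap.sub_apply, Module.End.one_apply] at this
        exact sub_eq_zero.1 this
      have htriv : ρ.subrepresentation U hcomap = 1 := by
        apply MonoidHom.eq_of_eqOn_dense hxy
        intro g hg
        rcases hg with rfl | hg
        · apply LinearMap.ext; intro u; apply Subtype.ext
          rw [hρU]; exact hAid u u.2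
        · rw [Set.mem_singleton_iff] at hg
          subst hg
          apply LinearMap.ext; intro u; apply Subtype.ext
          rw [hρU]; exact hBid u u.2
      intro g
      exact ⟨0, by rw [htriv]; rfl⟩
    let b : Module.Basis (Fin 2) K U := Module.Basis.span hli
    have hquadU : ∀ g : G, (∀ v, ρ g (ρ g v - v) = ρ g v - v) →
        LinearMap.det (ρ.subrepresentation U hcomap g) = 1 := by
      intro g hg
      have h1 : (ρ.subrepresentation U hcomap g) ^ p = 1 := by
        apply quad_pow_char
        intro u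
        apply Subtype.ext
        rw [hρU, Submodule.coe_sub, hρU, hg]
      have h2 : (LinearMap.det (ρ.subrepresentation U hcomap g)) ^ p = 1 := by
        rw [← map_pow, h1, map_one]
      apply frobenius_inj K p
      rw [frobenius_def, frobenius_def, h2, one_pow]
    have hdet : (LinearMap.det : (U →ₗ[K] U) →* K).comp (ρ.subrepresentation U hcomap) = 1 := by
      apply MonoidHom.eq_of_eqOn_dense hxy
      intro g hg
      rcases hg with rfl | hg
      · exact hquadU g hx
      · rw [Set.mem_singleton_iff] at hg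
        subst hg
        exact hquadU g hy
    have hdet' : ∀ g : G, (LinearMap.toMatrix b b (ρ.subrepresentation U hcomap g)).det = 1 := by
      intro g
      rw [LinearMap.det_toMatrix]
      exact congrArg (fun f => f g) hdet
    let φ : G →* Matrix.SpecialLinearGroup (Fin 2) K := MonoidHom.mk'
      (fun g => ⟨LinearMap.toMatrix b b (ρ.subrepresentation U hcomap g), hdet' g⟩)
      (by
        intro g h
        apply Subtype.ext
        show LinearMap.toMatrix b b (ρ.subrepresentation U hcomap (g * h)) = _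
        rw [map_mul, LinearMap.toMatrix_mul]
        rfl)
    refine ⟨φ, fun hp => hU fun g => ?_⟩
    obtain ⟨j, hj⟩ := hp ⟨φ g, g, rfl⟩
    refine ⟨j, ?_⟩
    have h1 : φ (g ^ (p ^ j)) = 1 := by
      rw [map_pow]
      exact congrArg Subtype.val hj
    have h2 : LinearMap.toMatrix b b (ρ.subrepresentation U hcomap (g ^ (p ^ j))) = 1 :=
      congrArg Subtype.val h1
    apply (LinearMap.toMatrix b b).injective
    rw [h2, LinearMap.toMatrix_one]


/-- Two quadratically acting generators of a linear group that is not a p-group, with the p'-part of the order of their product dividing q - 1, give a homomorphism onto a subgroup of SL(2, q) that is not a p-group. -/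
theorem result {K : Type*} [Field K] [Fintype K] {p : ℕ} [Fact p.Prime] [CharP K p] {W : Type*} [AddCommGroup W] [Module K W] [FiniteDimensional K W] [Finite W] [Nontrivial W] (H : Subgroup (W ≃ₗ[K] W)) (a b : W ≃ₗ[K] W) (hH : H = Subgroup.closure {a, b}) (ha : ∀ w : W, a (a w - w) = a w - w) (hb : ∀ w : W, b (b w - w) = b w - w) (hnp : ¬ IsPGroup p H) (hk : ∃ e k : ℕ, orderOf (a * b) = p ^ e * k ∧ k ∣ Fintype.card K - 1) : ∃ φ : H →* Matrix.SpecialLinearGroup (Fin 2) K, ¬ IsPGroup p φ.range := by
  subst hH
  have haH : a ∈ Subgroup.closure {a, b} := Subgroup.subset_closure (Set.mem_insert _ _)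
  have hbH : b ∈ Subgroup.closure {a, b} :=
    Subgroup.subset_closure (Set.mem_insert_of_mem _ (Set.mem_singleton _))
  let ρ : Representation K (Subgroup.closure {a, b}) W :=
    { toFun := fun g => (g.1 : W →ₗ[K] W)
      map_one' := rfl
      map_mul' := fun _ _ => rfl }
  have hρ : ∀ (g : Subgroup.closure {a, b}) (v : W), ρ g v = g.1 v := fun _ _ => rfl
  have hxy : Subgroup.closure {(⟨a, haH⟩ : Subgroup.closure {a, b}), ⟨b, hbH⟩} = ⊤ := by
    rw [eq_top_iff]
    rintro ⟨g, hg⟩ -
    induction hg using Subgroup.closure_induction with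
    | mem g hg =>
      apply Subgroup.subset_closure
      rcases hg with rfl | hg
      · exact Set.mem_insert _ _
      · rw [Set.mem_singleton_iff] at hg
        subst hg
        exact Set.mem_insert_of_mem _ (Set.mem_singleton _)
    | one => exact Subgroup.one_mem _
    | mul g h hg hh ihg ihh => exact Subgroup.mul_mem _ ihg ihh
    | inv g hg ihg => exact Subgroup.inv_mem _ ihg
  obtain ⟨e, k, hek, hkq⟩ := hk
  refine key (p := p) (⟨a, haH⟩ : Subgroup.closure {a, b}) ⟨b, hbH⟩ hxy _ W ρ rfl
    (fun v => ha v) (fun v => hb v) ⟨e, k, hkq, ?_⟩ ?_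
  · have h1 : ((⟨a, haH⟩ : Subgroup.closure {a, b}) * ⟨b, hbH⟩) ^ (p ^ e * k) = 1 := by
      apply Subtype.ext
      show (a * b) ^ (p ^ e * k) = 1
      rw [← hek]; exact pow_orderOf_eq_one _
    rw [h1, map_one]
  · intro h
    apply hnp
    intro g
    obtain ⟨j, hj⟩ := h g
    refine ⟨j, ?_⟩
    apply Subtype.ext
    apply LinearEquiv.ext
    intro v
    have := congrArg (fun f => f v) hj
    exact this

end Cfsg.Agent.S0592
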