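import Mathlib
import Cfsg.Statements.S0593
import Cfsg.Agent.Lib.Helper10.QuadSL2
import Cfsg.Agent.Lib.Helper41.SL2OddOrder

set_option autoImplicit false
open Cfsg

namespace Cfsg.Agent.S0593

open Cfsg.Agent.Lib.Helper41

section
variable {K : Type*} [Field K]

theorem involution_central (h2 : (2 : K) ≠ 0) (Z : Matrix.SpecialLinearGroup (Fin 2) K)
    (hZ : Z * Z = 1) : Z ∈ Subgroup.center (Matrix.SpecialLinearGroup (Fin 2) K) := by
  have h1 := cayley_hamilton Z
  have h3 : (Z : Matrix (Fin 2) (Fin 2) K) * (Z : Matrix (Fin 2) (Fin 2) K) = 1 := by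
    rw [← Matrix.SpecialLinearGroup.coe_mul, hZ]; rfl
  rw [h3] at h1
  have ht : tr2 Z ≠ 0 := by
    intro h0
    rw [h0, zero_smul, zero_sub] at h1
    have := congrArg (fun M : Matrix (Fin 2) (Fin 2) K => M 0 0) h1
    simp at this
    apply h2
    linear_combination this
  apply mem_center_of_scalar Z (2 / tr2 Z)
  have h4 : tr2 Z • (Z : Matrix (Fin 2) (Fin 2) K) = (2 : K) • 1 := by
    rw [two_smul]
    exact (sub_eq_iff_eq_add.1 h1.symm)
  have h5 : (tr2 Z)⁻¹ • (tr2 Z • (Z : Matrix (Fin 2) (Fin 2) K)) = (tr2 Z)⁻¹ • ((2 : K) • 1) := by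
    rw [h4]
  rw [smul_smul, inv_mul_cancel₀ ht, one_smul, smul_smul] at h5
  rw [h5, div_eq_inv_mul]

theorem tr2_eq_two_of_pow (p : ℕ) [Fact p.Prime] [CharP K p]
    (Z : Matrix.SpecialLinearGroup (Fin 2) K) (hZ : Z ^ p = 1) : tr2 Z = 2 := by
  set M : Matrix (Fin 2) (Fin 2) K := (Z : Matrix (Fin 2) (Fin 2) K) with hM
  have hMp : M ^ p = 1 := by
    rw [hM, ← Matrix.SpecialLinearGroup.coe_pow, hZ]; rfl
  have hnil : (M - 1) ^ p = 0 := by
    rw [sub_pow_char_of_commute p (Commute.one_right _), one_pow, hMp, sub_self]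
  have h1 : IsNilpotent (M - 1).trace := Matrix.isNilpotent_trace_of_isNilpotent ⟨p, hnil⟩
  have h3 := h1.eq_zero
  rw [Matrix.trace_sub, Matrix.trace_one, Matrix.trace_fin_two] at h3
  simp at h3
  unfold tr2
  linear_combination h3


/-- a hom from a group generated by two elements of odd prime order `p` to a `2`-group is trivial -/
theorem hom_to_two_group_trivial {L : Type*} [Group L] {T : Type*} [Group T] (hT : IsPGroup 2 T)
    {p : ℕ} [Fact p.Prime] (hp : p ≠ 2) (x y : L) (hgen : Subgroup.closure {x, y} = ⊤)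
    (hx : x ^ p = 1) (hy : y ^ p = 1) (τ : L →* T) : τ = 1 := by
  have key : ∀ g : L, g ^ p = 1 → τ g = 1 := by
    intro g hg
    obtain ⟨k, hk⟩ := hT (τ g)
    have h1 : (τ g) ^ p = 1 := by rw [← map_pow, hg, map_one]
    have hcop : Nat.Coprime (2 ^ k) p := by
      apply Nat.Coprime.pow_left
      rw [Nat.coprime_primes Nat.prime_two Fact.out]
      exact fun h => hp h.symm
    have h2 : orderOf (τ g) ∣ 2 ^ k := orderOf_dvd_of_pow_eq_one hk
    have h3 : orderOf (τ g) ∣ p := orderOf_dvd_of_pow_eq_one h1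
    have h4 : orderOf (τ g) ∣ 1 := by
      have := Nat.dvd_gcd h2 h3
      rwa [hcop.gcd_eq_one] at this
    exact orderOf_eq_one_iff.1 (Nat.dvd_one.1 h4)
  apply MonoidHom.eq_of_eqOn_dense hgen
  intro g hg
  rcases hg with rfl | hg
  · exact key g hx
  · rw [Set.mem_singleton_iff] at hg
    subst hg
    exact key g hy

open scoped IsMulCommutative in
theorem sl2_main {p : ℕ} [Fact p.Prime] [CharP K p] (hp : p ≠ 2)
    (L : Subgroup (Matrix.SpecialLinearGroup (Fin 2) K)) [Finite L] (x y : L)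
    (hgen : Subgroup.closure {x, y} = ⊤) (hx : x ^ p = 1) (hy : y ^ p = 1)
    (T : Sylow 2 L) (hT : IsMulCommutative T) : IsPGroup p L := by
  have h2 : (2 : K) ≠ 0 := two_ne_zero_of_char p hp
  -- the order of L is odd
  have hodd : Odd (Nat.card L) := by
    rw [← Nat.not_even_iff_odd]
    intro heven
    have hdvd : 2 ∣ Nat.card L := even_iff_two_dvd.1 heven
    have hTcard : 2 ∣ Nat.card T := T.dvd_card_of_dvd_card hdvd
    obtain ⟨z, hz⟩ := exists_prime_orderOf_dvd_card' 2 hTcard
    -- z is central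
    have hzz : (z : L) * (z : L) = 1 := by
      have : z ^ 2 = 1 := by
        have h := pow_orderOf_eq_one z
        rwa [hz] at h
      have h := congrArg Subtype.val this
      rw [pow_two] at h
      exact h
    have hzc : ((z : L) : Matrix.SpecialLinearGroup (Fin 2) K) ∈
        Subgroup.center (Matrix.SpecialLinearGroup (Fin 2) K) :=
      involution_central h2 _ (congrArg Subtype.val hzz)
    have hcomm : ∀ g : L, g * (z : L) = (z : L) * g := by
      intro g
      apply Subtype.ext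
      exact (Subgroup.mem_center_iff.1 hzc (g : Matrix.SpecialLinearGroup (Fin 2) K))
    -- transfer
    let τ : L →* T := MonoidHom.transfer (MonoidHom.id T)
    have hτ : τ = 1 := hom_to_two_group_trivial T.2 hp x y hgen hx hy τ
    have key : ∀ (k : ℕ) (g₀ : L), g₀⁻¹ * (z : L) ^ k * g₀ ∈ (T : Subgroup L) →
        g₀⁻¹ * (z : L) ^ k * g₀ = (z : L) ^ k := by
      intro k g₀ _
      have : g₀ * (z : L) ^ k = (z : L) ^ k * g₀ := by
        have hc : Commute g₀ (z : L) := hcomm g₀
        exact (hc.pow_right k).eq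
      rw [mul_assoc, ← this, inv_mul_cancel_left]
    have h3 := MonoidHom.transfer_eq_pow (MonoidHom.id T) (z : L) key
    have h4 : τ (z : L) = 1 := by rw [hτ]; rfl
    have h5 : (z : L) ^ (T : Subgroup L).index = 1 := by
      have := h3.symm.trans h4
      exact congrArg Subtype.val this
    have h6 : orderOf (z : L) ∣ (T : Subgroup L).index := orderOf_dvd_of_pow_eq_one h5
    have h7 : orderOf (z : L) = 2 := by rw [Subgroup.orderOf_coe, hz]
    rw [h7] at h6
    exact T.not_dvd_index h6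
  have hca := caOdd_of_odd p hp L hodd
  have hxtr : tr2 (x : Matrix.SpecialLinearGroup (Fin 2) K) = 2 := by
    apply tr2_eq_two_of_pow p
    have := congrArg Subtype.val hx
    rwa [Subgroup.coe_pow] at this
  have hytr : tr2 (y : Matrix.SpecialLinearGroup (Fin 2) K) = 2 := by
    apply tr2_eq_two_of_pow p
    have := congrArg Subtype.val hy
    rwa [Subgroup.coe_pow] at this
  have hcomm : Commute x y := hca.commute_of_U hxtr hytr
  -- ⟨x⟩ ⊔ ⟨y⟩ is a p-group
  have hz : ∀ g : L, g ^ p = 1 → IsPGroup p (Subgroup.zpowers g) := by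
    intro g hg h
    obtain ⟨h, hh⟩ := h
    obtain ⟨k, rfl⟩ := Subgroup.mem_zpowers_iff.1 hh
    refine ⟨1, ?_⟩
    apply Subtype.ext
    show (g ^ k) ^ (p ^ 1) = 1
    rw [pow_one, ← zpow_natCast, ← zpow_mul, mul_comm, zpow_mul, zpow_natCast, hg, one_zpow]
  have hle : Subgroup.zpowers x ≤ Subgroup.normalizer (Subgroup.zpowers y : Set L) := by
    rw [Subgroup.zpowers_le]
    apply Subgroup.centralizer_le_normalizer
    rw [Subgroup.mem_centralizer_iff]
    intro h hh
    obtain ⟨k, rfl⟩ := Subgroup.mem_zpowers_iff.1 hh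
    exact ((hcomm.zpow_right k).eq).symm
  have hsup : IsPGroup p (Subgroup.zpowers x ⊔ Subgroup.zpowers y : Subgroup L) :=
    IsPGroup.to_sup_of_normal_right' (hz x hx) (hz y hy) hle
  have htop : (Subgroup.zpowers x ⊔ Subgroup.zpowers y : Subgroup L) = ⊤ := by
    rw [← hgen, Set.insert_eq, Subgroup.closure_union, Subgroup.zpowers_eq_closure,
      Subgroup.zpowers_eq_closure]
  intro g
  obtain ⟨k, hk⟩ := hsup ⟨g, htop ▸ Subgroup.mem_top g⟩
  exact ⟨k, congrArg Subtype.val hk⟩


end

/-- For odd p, a faithful group on an elementary abelian p-group generated by two quadratically acting elements is a p-group or has non-abelian Sylow 2-subgroups. -/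
theorem result {G : Type*} [Group G] [Finite G] {p : ℕ} [Fact p.Prime] (hp : p ≠ 2) (V H : Subgroup G) (hV : Cfsg.IsElementaryAbelian p V) (hHV : H ≤ Subgroup.normalizer (V : Set G)) (hf : H ⊓ Subgroup.centralizer (V : Set G) = ⊥) (a b : G) (hab : H = Subgroup.closure {a, b}) (ha : ⁅⁅V, Subgroup.zpowers a⁆, Subgroup.zpowers a⁆ = ⊥) (hb : ⁅⁅V, Subgroup.zpowers b⁆, Subgroup.zpowers b⁆ = ⊥) (hnp : ¬ IsPGroup p H) (T : Sylow 2 H) : ¬ IsMulCommutative T := by
  intro hT
  obtain ⟨K, _, _, _, φ, hφ, hap, hbp⟩ :=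
    Cfsg.Agent.Lib.Helper10.exists_hom_sl2 V H hV hHV hf a b hab ha hb hnp
  have haH : a ∈ H := hab ▸ Subgroup.subset_closure (Set.mem_insert _ _)
  have hbH : b ∈ H :=
    hab ▸ Subgroup.subset_closure (Set.mem_insert_of_mem _ (Set.mem_singleton _))
  have hxy := Cfsg.Agent.Lib.Helper10.closure_pair_subtype_eq_top H a b hab haH hbH
  have hsurj : Function.Surjective φ.rangeRestrict := φ.rangeRestrict_surjective
  have hfin : Finite φ.range := Finite.of_surjective _ hsurj
  have hT' : IsMulCommutative (T.mapSurjective hsurj : Subgroup φ.range) := by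
    rw [Sylow.coe_mapSurjective]
    infer_instance
  apply hφ
  refine sl2_main hp φ.range (φ.rangeRestrict ⟨a, haH⟩) (φ.rangeRestrict ⟨b, hbH⟩) ?_ ?_ ?_
    (T.mapSurjective hsurj) hT'
  · have h1 := MonoidHom.map_closure φ.rangeRestrict {(⟨a, haH⟩ : H), ⟨b, hbH⟩}
    rw [hxy, Subgroup.map_top_of_surjective _ hsurj, Set.image_pair] at h1
    exact h1.symm
  · rw [← map_pow]
    have : (⟨a, haH⟩ : H) ^ p = 1 := Subtype.ext hap
    rw [this, map_one]
  · rw [← map_pow]
    have : (⟨b, hbH⟩ : H) ^ p = 1 := Subtype.ext hbp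
    rw [this, map_one]

end Cfsg.Agent.S0593
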