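import Mathlib
import Cfsg.Statements.S0595
import Cfsg.Agent.S0593
import Cfsg.Agent.S0199

set_option autoImplicit false
open Cfsg

namespace Cfsg.Agent.S0595

open scoped commutatorElement
open Cfsg.Agent.Lib.Helper10

universe u

/-- a quadratic element of a faithful group on an elementary abelian `p`-group has order dividing `p` -/
theorem pow_eq_one_of_quad {G : Type u} [Group G] {p : ℕ} [Fact p.Prime] (V H : Subgroup G)
    (hV : Cfsg.IsElementaryAbelian p V) (hHV : H ≤ Subgroup.normalizer (V : Set G))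
    (hf : H ⊓ Subgroup.centralizer (V : Set G) = ⊥) (a : G) (haH : a ∈ H)
    (ha : ⁅⁅V, Subgroup.zpowers a⁆, Subgroup.zpowers a⁆ = ⊥) : a ^ p = 1 := by
  obtain ⟨A, _, _, e, ρ₀, hadd, he1, hρ⟩ := exists_conj_rep p V H hV hHV
  set x : H := ⟨a, haH⟩ with hx
  have hqx : ∀ v : A, ρ₀ x (ρ₀ x v - v) = ρ₀ x v - v :=
    quad_of_commutator V H e ρ₀ hadd he1 hρ x ha
  have hfaith : ∀ g : H, ρ₀ g = 1 → g = 1 := by
    intro g hg
    have hgc : (g : G) ∈ Subgroup.centralizer (V : Set G) := by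
      rw [Subgroup.mem_centralizer_iff]
      intro n hn
      have h1 := hρ g ⟨n, hn⟩
      rw [hg, Module.End.one_apply, Equiv.symm_apply_apply] at h1
      have h2 : n = (g : G) * n * (g : G)⁻¹ := h1
      calc n * (g : G) = (g : G) * n * (g : G)⁻¹ * (g : G) := by rw [← h2]
        _ = (g : G) * n := by group
    have : (g : G) ∈ H ⊓ Subgroup.centralizer (V : Set G) := ⟨g.2, hgc⟩
    rw [hf] at this
    exact Subtype.ext (Subgroup.mem_bot.1 this)
  have hxp : x ^ p = 1 := by
    apply hfaith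
    rw [map_pow]
    exact S0592.quad_pow_char (K := ZMod p) (p := p) (ρ₀ x) hqx
  exact congrArg Subtype.val hxp

/-- conjugating a quadratic element by an element of the normalizer -/
theorem quad_conj {G : Type*} [Group G] (V : Subgroup G) (a g : G)
    (hg : g ∈ Subgroup.normalizer (V : Set G))
    (ha : ⁅⁅V, Subgroup.zpowers a⁆, Subgroup.zpowers a⁆ = ⊥) :
    ⁅⁅V, Subgroup.zpowers (g * a * g⁻¹)⁆, Subgroup.zpowers (g * a * g⁻¹)⁆ = ⊥ := by
  have hV : V.map (MulAut.conj g).toMonoidHom = V := by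
    ext v
    rw [Subgroup.mem_map]
    constructor
    · rintro ⟨w, hw, rfl⟩
      exact (Subgroup.mem_normalizer_iff.1 hg w).1 hw
    · intro hv
      refine ⟨g⁻¹ * v * g, ?_, ?_⟩
      · have := (Subgroup.mem_normalizer_iff.1 (Subgroup.inv_mem _ hg) v).1 hv
        simpa using this
      · simp [MulAut.conj_apply, mul_assoc]
  have hz : (Subgroup.zpowers a).map (MulAut.conj g).toMonoidHom = Subgroup.zpowers (g * a * g⁻¹) := by
    rw [MonoidHom.map_zpowers]
    rfl
  have := congrArg (Subgroup.map (MulAut.conj g).toMonoidHom) ha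
  rw [Subgroup.map_commutator, Subgroup.map_commutator, hV, hz, Subgroup.map_bot] at this
  exact this


theorem mem_sylow_smul {G : Type*} [Group G] {p : ℕ} (g x : G) (P : Sylow p G) :
    x ∈ g • P ↔ g⁻¹ * x * g ∈ P := by
  show x ∈ ((g • P : Sylow p G) : Subgroup G) ↔ _
  rw [Sylow.coe_subgroup_smul, Subgroup.mem_pointwise_smul_iff_inv_smul_mem]
  simp [MulAut.smul_def]
  rfl

/-- a Sylow subgroup of a subgroup of a group with abelian Sylow subgroups is abelian -/
theorem sylow_comm_of_le {G : Type*} [Group G] [Finite G] {q : ℕ} [Fact q.Prime] (H₀ H : Subgroup G)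
    (hle : H₀ ≤ H) (T : Sylow q H) (hT : IsMulCommutative T) (T₀ : Sylow q H₀) :
    IsMulCommutative T₀ := by
  have h1 : IsPGroup q ((T₀ : Subgroup H₀).map (Subgroup.inclusion hle)) := T₀.2.map _
  obtain ⟨Q, hQ⟩ := h1.exists_le_sylow
  obtain ⟨g, hg⟩ := MulAction.exists_smul_eq H T Q
  have hTc : ∀ s t : H, s ∈ T → t ∈ T → s * t = t * s := by
    intro s t hs ht
    have := hT.is_comm.comm (⟨s, hs⟩ : T) ⟨t, ht⟩
    exact congrArg Subtype.val this
  have hQc : ∀ s t : H, s ∈ Q → t ∈ Q → s * t = t * s := by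
    intro s t hs ht
    rw [← hg, mem_sylow_smul] at hs ht
    have := hTc _ _ hs ht
    calc s * t = g * ((g⁻¹ * s * g) * (g⁻¹ * t * g)) * g⁻¹ := by group
      _ = g * ((g⁻¹ * t * g) * (g⁻¹ * s * g)) * g⁻¹ := by rw [this]
      _ = t * s := by group
  refine ⟨⟨fun s t => ?_⟩⟩
  have hs : Subgroup.inclusion hle (s : H₀) ∈ Q := hQ (Subgroup.mem_map_of_mem _ s.2)
  have ht : Subgroup.inclusion hle (t : H₀) ∈ Q := hQ (Subgroup.mem_map_of_mem _ t.2)
  have h2 := hQc _ _ hs ht
  rw [← map_mul, ← map_mul] at h2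
  have h3 := Subgroup.inclusion_injective hle h2
  exact Subtype.ext h3


/-- For odd p, a faithful action on an elementary abelian p-group that is not p-stable forces non-abelian Sylow 2-subgroups. -/
theorem result {G : Type*} [Group G] [Finite G] {p : ℕ} [Fact p.Prime] (hp : p ≠ 2) (V H : Subgroup G) (hV : Cfsg.IsElementaryAbelian p V) (hHV : H ≤ Subgroup.normalizer (V : Set G)) (hf : H ⊓ Subgroup.centralizer (V : Set G) = ⊥) (a : G) (haH : a ∈ H) (hq : ⁅⁅V, Subgroup.zpowers a⁆, Subgroup.zpowers a⁆ = ⊥) (hna : a ∉ (Cfsg.pCore p H).map H.subtype) (T : Sylow 2 H) : ¬ IsMulCommutative T := by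
  intro hT
  have hap : a ^ p = 1 := pow_eq_one_of_quad V H hV hHV hf a haH hq
  have hxp : (⟨a, haH⟩ : H) ^ p = 1 := Subtype.ext hap
  have hX : IsPGroup p (Subgroup.zpowers (⟨a, haH⟩ : H)) := by
    intro h
    obtain ⟨h, hh⟩ := h
    obtain ⟨k, rfl⟩ := Subgroup.mem_zpowers_iff.1 hh
    refine ⟨1, ?_⟩
    apply Subtype.ext
    show ((⟨a, haH⟩ : H) ^ k) ^ (p ^ 1) = 1
    rw [pow_one, ← zpow_natCast, ← zpow_mul, mul_comm, zpow_mul, zpow_natCast, hxp, one_zpow]
  by_cases hall : ∀ g : H, IsPGroup p ↥(Subgroup.zpowers (⟨a, haH⟩ : H) ⊔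
      (Subgroup.zpowers (⟨a, haH⟩ : H)).map (MulAut.conj g).toMonoidHom)
  · obtain ⟨N, hNn, hNp, hXN⟩ := Cfsg.Agent.S0199.result (Subgroup.zpowers (⟨a, haH⟩ : H)) hX hall
    apply hna
    refine ⟨⟨a, haH⟩, ?_, rfl⟩
    have hle : N ≤ Cfsg.pCore p H := le_sSup ⟨hNn, hNp⟩
    exact hle (hXN (Subgroup.mem_zpowers _))
  · simp only [not_forall] at hall
    obtain ⟨g, hg⟩ := hall
    have hbH : (g : G) * a * (g : G)⁻¹ ∈ H := H.mul_mem (H.mul_mem g.2 haH) (H.inv_mem g.2)
    have hH₀ : Subgroup.closure {a, (g : G) * a * (g : G)⁻¹} ≤ H := by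
      rw [Subgroup.closure_le]
      intro s hs
      rcases hs with rfl | hs
      · exact haH
      · rw [Set.mem_singleton_iff] at hs
        rw [hs]; exact hbH
    have hnp₀ : ¬ IsPGroup p ↥(Subgroup.closure {a, (g : G) * a * (g : G)⁻¹}) := by
      intro h
      apply hg
      have hle : Subgroup.zpowers (⟨a, haH⟩ : H) ⊔
          (Subgroup.zpowers (⟨a, haH⟩ : H)).map (MulAut.conj g).toMonoidHom ≤
          (Subgroup.closure {a, (g : G) * a * (g : G)⁻¹}).comap H.subtype := by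
        apply sup_le
        · rw [Subgroup.zpowers_le]
          show a ∈ Subgroup.closure {a, (g : G) * a * (g : G)⁻¹}
          exact Subgroup.subset_closure (Set.mem_insert _ _)
        · rw [Subgroup.map_le_iff_le_comap, Subgroup.zpowers_le]
          show (g : G) * a * (g : G)⁻¹ ∈ Subgroup.closure {a, (g : G) * a * (g : G)⁻¹}
          exact Subgroup.subset_closure (Set.mem_insert_of_mem _ (Set.mem_singleton _))
      intro s
      obtain ⟨k, hk⟩ := h ⟨((s : H) : G), hle s.2⟩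
      refine ⟨k, ?_⟩
      apply Subtype.ext
      apply Subtype.ext
      have hk' := congrArg Subtype.val hk
      rw [Subgroup.coe_pow] at hk'
      rw [Subgroup.coe_pow, Subgroup.coe_pow]
      exact hk'
    have hb := quad_conj V a (g : G) (hHV g.2) hq
    have hf₀ : Subgroup.closure {a, (g : G) * a * (g : G)⁻¹} ⊓ Subgroup.centralizer (V : Set G) = ⊥ := by
      rw [eq_bot_iff, ← hf]
      exact inf_le_inf_right _ hH₀
    have key := Cfsg.Agent.S0593.result hp V (Subgroup.closure {a, (g : G) * a * (g : G)⁻¹}) hV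
      (hH₀.trans hHV) hf₀ a ((g : G) * a * (g : G)⁻¹) rfl hq hb hnp₀
    obtain ⟨T₀⟩ : Nonempty (Sylow 2 ↥(Subgroup.closure {a, (g : G) * a * (g : G)⁻¹})) := inferInstance
    exact key T₀ (sylow_comm_of_le _ H hH₀ T hT T₀)

end Cfsg.Agent.S0595
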