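import Cfsg.Statements.S3740
import Mathlib
import Cfsg.Agent.Lib.Helper53.SL2Core

set_option autoImplicit false
open Cfsg

namespace Cfsg.Agent.S3740

/-- Let F be a finite field of odd characteristic p and let a be a p-element of SL₂(F) normalizing a subgroup R of order prime to p with [R, a] ≠ 1. Then p = 3, R is a quaternion group of order 8, and R⟨a⟩ is isomorphic to SL₂(3). -/
theorem result (F : Type) [Field F] [Fintype F] {p : ℕ} [Fact p.Prime] [CharP F p] (hp : p ≠ 2) (a : Matrix.SpecialLinearGroup (Fin 2) F) (ha : IsPGroup p ↥(Subgroup.zpowers a)) (R : Subgroup (Matrix.SpecialLinearGroup (Fin 2) F)) (hR : (Nat.card R).Coprime p) (haR : a ∈ Subgroup.normalizer (R : Set (Matrix.SpecialLinearGroup (Fin 2) F))) (hnt : ⁅R, Subgroup.zpowers a⁆ ≠ ⊥) : p = 3 ∧ Nonempty (↥R ≃* QuaternionGroup 2) ∧ Nonempty (↥(R ⊔ Subgroup.zpowers a) ≃* Matrix.SpecialLinearGroup (Fin 2) (ZMod 3)) := by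
  classical
  -- a ≠ 1 and a noncommuting element of R
  have hex : ∃ r ∈ R, r * a ≠ a * r := by
    by_contra hcon
    push Not at hcon
    apply hnt
    rw [Subgroup.commutator_eq_bot_iff_le_centralizer]
    intro r hr
    rw [Subgroup.mem_centralizer_iff]
    intro y hy
    obtain ⟨k, rfl⟩ := Subgroup.mem_zpowers_iff.mp hy
    have hc : Commute r a := hcon r hr
    exact (hc.zpow_right k).eq.symm
  have ha1 : a ≠ 1 := by
    rintro rfl
    obtain ⟨r, _, hr⟩ := hex
    exact hr (by rw [mul_one, one_mul])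
  obtain ⟨k, hk⟩ := ha ⟨a, Subgroup.mem_zpowers a⟩
  have hak : a ^ (p ^ k) = 1 := by
    have := congrArg Subtype.val hk
    simpa using this
  obtain ⟨P, c, hc, hPa⟩ := Cfsg.Agent.Lib.Helper53.exists_conj_eq_unitri p a k hak ha1
  set κ : Matrix.SpecialLinearGroup (Fin 2) F ≃* Matrix.SpecialLinearGroup (Fin 2) F :=
    MulAut.conj P with hκ
  have hκa : κ a = Cfsg.Agent.Lib.Helper53.unitri c := by
    rw [hκ, MulAut.conj_apply]; exact hPa
  set R' : Subgroup (Matrix.SpecialLinearGroup (Fin 2) F) := R.map κ.toMonoidHom with hR'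
  have hmemR' : ∀ y, y ∈ R' ↔ κ.symm y ∈ R := by
    intro y
    rw [hR']
    exact Subgroup.mem_map_equiv
  have hcardR' : Nat.card R' = Nat.card R :=
    Nat.card_congr (κ.subgroupMap R).toEquiv.symm
  have haR' : Cfsg.Agent.Lib.Helper53.unitri c ∈
      Subgroup.normalizer (R' : Set (Matrix.SpecialLinearGroup (Fin 2) F)) := by
    rw [Subgroup.mem_normalizer_iff]
    intro y
    rw [hmemR', hmemR', ← hκa]
    have h1 := Subgroup.mem_normalizer_iff.mp haR (κ.symm y)
    rw [h1]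
    have e : κ.symm (κ a * y * (κ a)⁻¹) = a * κ.symm y * a⁻¹ := by
      rw [map_mul, map_mul, map_inv, MulEquiv.symm_apply_apply]
    rw [e]
  have hex' : ∃ r ∈ R', r * Cfsg.Agent.Lib.Helper53.unitri c ≠ Cfsg.Agent.Lib.Helper53.unitri c * r := by
    obtain ⟨r, hr, hra⟩ := hex
    refine ⟨κ r, ?_, ?_⟩
    · rw [hmemR', MulEquiv.symm_apply_apply]; exact hr
    · rw [← hκa, ← map_mul, ← map_mul]
      intro h
      exact hra (κ.injective h)
  have hfinF : Finite F := Finite.of_fintype F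
  obtain ⟨hp3, ⟨e1⟩, ⟨e2⟩⟩ := Cfsg.Agent.Lib.Helper53.sl2_std_core hp hc R'
    (by rw [hcardR']; exact hR) haR' hex'
  refine ⟨hp3, ⟨(κ.subgroupMap R).trans e1⟩, ?_⟩
  have hsup : (R ⊔ Subgroup.zpowers a).map κ.toMonoidHom =
      R' ⊔ Subgroup.zpowers (Cfsg.Agent.Lib.Helper53.unitri c) := by
    rw [Subgroup.map_sup, MonoidHom.map_zpowers, hR']
    congr 2
  exact ⟨((κ.subgroupMap (R ⊔ Subgroup.zpowers a)).trans (MulEquiv.subgroupCongr hsup)).trans e2⟩

end Cfsg.Agent.S3740
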