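import Mathlib
import Cfsg.Statements.S0594
import Cfsg.Agent.S0595
import Cfsg.Agent.S3740

set_option autoImplicit false
open Cfsg

namespace Cfsg.Agent.S0594

open scoped commutatorElement
open Cfsg.Agent.Lib.Helper10

/-- packaging a surjection from a subgroup as a section -/
theorem exists_section_of_surj {G : Type*} [Group G] (H K : Subgroup G) (hKH : K ≤ H)
    {T : Type*} [Group T] (f : K →* T) (hf : Function.Surjective f) :
    ∃ (K' L : Subgroup G) (_ : (L.subgroupOf K').Normal), K' ≤ H ∧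
      Nonempty ((K' ⧸ L.subgroupOf K') ≃* T) := by
  have heq : (f.ker.map K.subtype).subgroupOf K = f.ker :=
    Subgroup.comap_map_eq_self_of_injective K.subtype_injective f.ker
  have hL : ((f.ker.map K.subtype).subgroupOf K).Normal := by rw [heq]; infer_instance
  exact ⟨K, f.ker.map K.subtype, hL, hKH,
    ⟨(QuotientGroup.quotientMulEquivOfEq heq).trans
      (QuotientGroup.quotientKerEquivOfSurjective f hf)⟩⟩

/-- a group generated by two commuting elements of order dividing `p` is a `p`-group -/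
theorem isPGroup_of_commute_gens {L : Type*} [Group L] {p : ℕ} [Fact p.Prime] (x y : L)
    (hgen : Subgroup.closure {x, y} = ⊤) (hx : x ^ p = 1) (hy : y ^ p = 1) (hcomm : Commute x y) :
    IsPGroup p L := by
  have hz : ∀ g : L, g ^ p = 1 → IsPGroup p (Subgroup.zpowers g) := by
    intro g hg h
    obtain ⟨h, hh⟩ := h
    obtain ⟨k, rfl⟩ := Subgroup.mem_zpowers_iff.1 hh
    refine ⟨1, ?_⟩
    apply Subtype.ext
    show (g ^ k) ^ (p ^ 1) = 1
    rw [pow_one, ← zpow_natCast, ← zpow_mul, mul_comm, zpow_mul, zpow_natCast, hg, one_zpow]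
  have hle : Subgroup.zpowers x ≤ Subgroup.normalizer (Subgroup.zpowers y : Set L) := by
    rw [Subgroup.zpowers_le]
    apply Subgroup.centralizer_le_normalizer
    rw [Subgroup.mem_centralizer_iff]
    intro h hh
    obtain ⟨k, rfl⟩ := Subgroup.mem_zpowers_iff.1 hh
    exact ((hcomm.zpow_right k).eq).symm
  have hsup : IsPGroup p (Subgroup.zpowers x ⊔ Subgroup.zpowers y : Subgroup L) :=
    IsPGroup.to_sup_of_normal_right' (hz x hx) (hz y hy) hle
  have htop : (Subgroup.zpowers x ⊔ Subgroup.zpowers y : Subgroup L) = ⊤ := by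
    rw [← hgen, Set.insert_eq, Subgroup.closure_union, Subgroup.zpowers_eq_closure,
      Subgroup.zpowers_eq_closure]
  intro g
  obtain ⟨k, hk⟩ := hsup ⟨g, htop ▸ Subgroup.mem_top g⟩
  exact ⟨k, congrArg Subtype.val hk⟩


/-- from the `SL₂` picture to a surjection onto `SL₂(3)` from a subgroup -/
theorem section_of_hom {G : Type*} [Group G] {p : ℕ} [Fact p.Prime] (hp : p ≠ 2)
    (H₁ : Subgroup G) (K : Type) [Field K] [Fintype K] [CharP K p]
    (φ : H₁ →* Matrix.SpecialLinearGroup (Fin 2) K) (x : H₁) (hxp : x ^ p = 1)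
    (R : Subgroup (Matrix.SpecialLinearGroup (Fin 2) K)) (hRle : R ≤ φ.range)
    (hR : (Nat.card R).Coprime p)
    (hxR : φ x ∈ Subgroup.normalizer (R : Set (Matrix.SpecialLinearGroup (Fin 2) K)))
    (hnt : ∃ r ∈ R, r * φ x ≠ φ x * r) :
    p = 3 ∧ ∃ (K₁ : Subgroup G) (f : K₁ →* Matrix.SpecialLinearGroup (Fin 2) (ZMod 3)),
      K₁ ≤ H₁ ∧ Function.Surjective f := by
  have ha' : IsPGroup p (Subgroup.zpowers (φ x)) := by
    intro h
    obtain ⟨h, hh⟩ := h
    obtain ⟨k, rfl⟩ := Subgroup.mem_zpowers_iff.1 hh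
    refine ⟨1, ?_⟩
    apply Subtype.ext
    show (φ x ^ k) ^ (p ^ 1) = 1
    rw [pow_one, ← zpow_natCast, ← zpow_mul, mul_comm, zpow_mul, zpow_natCast, ← map_pow, hxp,
      map_one, one_zpow]
  have hnt' : ⁅R, Subgroup.zpowers (φ x)⁆ ≠ ⊥ := by
    intro h
    rw [Subgroup.commutator_eq_bot_iff_le_centralizer] at h
    obtain ⟨r, hr, hrx⟩ := hnt
    apply hrx
    have := h hr
    rw [Subgroup.mem_centralizer_iff] at this
    exact (this (φ x) (Subgroup.mem_zpowers _)).symm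
  obtain ⟨hp3, _, ⟨e₂⟩⟩ := Cfsg.Agent.S3740.result K hp (φ x) ha' R hR hxR hnt'
  refine ⟨hp3, ?_⟩
  have hle : R ⊔ Subgroup.zpowers (φ x) ≤ φ.range := by
    apply sup_le hRle
    rw [Subgroup.zpowers_le]
    exact ⟨x, rfl⟩
  let K₀ : Subgroup H₁ := (R ⊔ Subgroup.zpowers (φ x)).comap φ
  let f₀ : K₀ →* ↥(R ⊔ Subgroup.zpowers (φ x)) := φ.subgroupComap _
  have hf₀ : Function.Surjective f₀ := by
    rintro ⟨s, hs⟩
    obtain ⟨w, rfl⟩ := hle hs
    exact ⟨⟨w, hs⟩, rfl⟩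
  let ι := (K₀.equivMapOfInjective H₁.subtype H₁.subtype_injective)
  refine ⟨K₀.map H₁.subtype, (e₂.toMonoidHom.comp f₀).comp ι.symm.toMonoidHom,
    Subgroup.map_subtype_le _, ?_⟩
  intro t
  obtain ⟨s, hs⟩ := hf₀ (e₂.symm t)
  refine ⟨ι s, ?_⟩
  simp only [MonoidHom.coe_comp, MulEquiv.coe_toMonoidHom, Function.comp_apply,
    MulEquiv.symm_apply_apply, hs, MulEquiv.apply_symm_apply]


/-- For odd p, two quadratic generators of a faithful group that is not a p-group, one of which acts nontrivially on a normal subgroup of order prime to p, force p = 3 and a section isomorphic to SL(2,3). -/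
theorem result {G : Type*} [Group G] [Finite G] {p : ℕ} [Fact p.Prime] (hp : p ≠ 2) (V H : Subgroup G) (hV : Cfsg.IsElementaryAbelian p V) (hHV : H ≤ Subgroup.normalizer (V : Set G)) (hf : H ⊓ Subgroup.centralizer (V : Set G) = ⊥) (a b : G) (hab : H = Subgroup.closure {a, b}) (ha : ⁅⁅V, Subgroup.zpowers a⁆, Subgroup.zpowers a⁆ = ⊥) (hb : ⁅⁅V, Subgroup.zpowers b⁆, Subgroup.zpowers b⁆ = ⊥) (hnp : ¬ IsPGroup p H) (Q : Subgroup G) (hQH : Q ≤ H) (hQn : H ≤ Subgroup.normalizer (Q : Set G)) (hQ : (Nat.card Q).Coprime p) (hQa : ⁅Q, Subgroup.zpowers a⁆ ≠ ⊥) : p = 3 ∧ ∃ (K L : Subgroup G) (hL : (L.subgroupOf K).Normal), K ≤ H ∧ Nonempty ((K ⧸ L.subgroupOf K) ≃* Matrix.SpecialLinearGroup (Fin 2) (ZMod 3)) := by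
  -- a non-commuting element of Q
  have hex : ∃ q ∈ Q, q * a ≠ a * q := by
    by_contra hcon
    apply hQa
    rw [Subgroup.commutator_eq_bot_iff_le_centralizer]
    intro r hr
    rw [Subgroup.mem_centralizer_iff]
    intro y hy
    obtain ⟨k, rfl⟩ := Subgroup.mem_zpowers_iff.mp hy
    have hc : Commute r a := by
      by_contra h
      exact hcon ⟨r, hr, h⟩
    exact (hc.zpow_right k).eq.symm
  obtain ⟨q, hqQ, hqa⟩ := hex
  have haH : a ∈ H := hab ▸ Subgroup.subset_closure (Set.mem_insert _ _)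
  have hqH : q ∈ H := hQH hqQ
  have hcH : q * a * q⁻¹ ∈ H := H.mul_mem (H.mul_mem hqH haH) (H.inv_mem hqH)
  have hH₁ : Subgroup.closure {a, q * a * q⁻¹} ≤ H := by
    rw [Subgroup.closure_le]
    intro s hs
    rcases hs with rfl | hs
    · exact haH
    · rw [Set.mem_singleton_iff] at hs
      rw [hs]; exact hcH
  have haH₁ : a ∈ Subgroup.closure {a, q * a * q⁻¹} := Subgroup.subset_closure (Set.mem_insert _ _)
  have hcH₁ : q * a * q⁻¹ ∈ Subgroup.closure {a, q * a * q⁻¹} :=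
    Subgroup.subset_closure (Set.mem_insert_of_mem _ (Set.mem_singleton _))
  have hc := Cfsg.Agent.S0595.quad_conj V a q (hHV hqH) ha
  -- d = a⁻¹ c ∈ Q
  have hdQ : a⁻¹ * (q * a * q⁻¹) ∈ Q := by
    have h1 : a⁻¹ * q * a⁻¹⁻¹ ∈ Q :=
      (Subgroup.mem_normalizer_iff.1 (hQn (H.inv_mem haH)) q).1 hqQ
    have h2 : a⁻¹ * (q * a * q⁻¹) = (a⁻¹ * q * a⁻¹⁻¹) * q⁻¹ := by group
    rw [h2]
    exact Q.mul_mem h1 (Q.inv_mem hqQ)
  have hd1 : a⁻¹ * (q * a * q⁻¹) ≠ 1 := by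
    intro h
    apply hqa
    have h2 : q * a * q⁻¹ = a := by
      have := congrArg (fun t => a * t) h
      simpa using this
    calc q * a = (q * a * q⁻¹) * q := by group
      _ = a * q := by rw [h2]
  have hdH₁ : a⁻¹ * (q * a * q⁻¹) ∈ Subgroup.closure {a, q * a * q⁻¹} :=
    Subgroup.mul_mem _ (Subgroup.inv_mem _ haH₁) hcH₁
  have hnp₁ : ¬ IsPGroup p ↥(Subgroup.closure {a, q * a * q⁻¹}) := by
    intro h
    apply hd1
    obtain ⟨k, hk⟩ := h ⟨_, hdH₁⟩
    have hk' : (a⁻¹ * (q * a * q⁻¹)) ^ (p ^ k) = 1 := by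
      have := congrArg Subtype.val hk
      simpa using this
    have h1 : orderOf (a⁻¹ * (q * a * q⁻¹)) ∣ p ^ k := orderOf_dvd_of_pow_eq_one hk'
    have h2 : orderOf (a⁻¹ * (q * a * q⁻¹)) ∣ Nat.card Q := by
      have := orderOf_dvd_natCard (⟨_, hdQ⟩ : Q)
      rwa [← Subgroup.orderOf_coe] at this
    have h3 : orderOf (a⁻¹ * (q * a * q⁻¹)) ∣ 1 := by
      have := Nat.dvd_gcd h2 h1
      rwa [(Nat.Coprime.pow_right k hQ).gcd_eq_one] at this
    exact orderOf_eq_one_iff.1 (Nat.dvd_one.1 h3)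
  have hf₁ : Subgroup.closure {a, q * a * q⁻¹} ⊓ Subgroup.centralizer (V : Set G) = ⊥ := by
    rw [eq_bot_iff, ← hf]
    exact inf_le_inf_right _ hH₁
  obtain ⟨K, _, _, _, φ, hφ, hap, hcp⟩ := exists_hom_sl2 V (Subgroup.closure {a, q * a * q⁻¹}) hV
    (hH₁.trans hHV) hf₁ a (q * a * q⁻¹) rfl ha hc hnp₁
  have hxy := closure_pair_subtype_eq_top (Subgroup.closure {a, q * a * q⁻¹}) a (q * a * q⁻¹) rfl
    haH₁ hcH₁
  -- the p'-subgroup R
  have hxn : (⟨a, haH₁⟩ : ↥(Subgroup.closure {a, q * a * q⁻¹})) ∈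
      Subgroup.normalizer ((Q.subgroupOf (Subgroup.closure {a, q * a * q⁻¹}) :
        Subgroup ↥(Subgroup.closure {a, q * a * q⁻¹})) : Set _) := by
    rw [Subgroup.mem_normalizer_iff]
    intro w
    rw [Subgroup.mem_subgroupOf, Subgroup.mem_subgroupOf]
    exact Subgroup.mem_normalizer_iff.1 (hQn haH) w
  have hcard : (Nat.card ((Q.subgroupOf (Subgroup.closure {a, q * a * q⁻¹})).map φ)).Coprime p := by
    have h1 : Nat.card ((Q.subgroupOf (Subgroup.closure {a, q * a * q⁻¹})).map φ) ∣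
        Nat.card (Q.subgroupOf (Subgroup.closure {a, q * a * q⁻¹})) := Subgroup.card_map_dvd _ _
    have h2 : Nat.card (Q.subgroupOf (Subgroup.closure {a, q * a * q⁻¹})) ∣ Nat.card Q := by
      let ι : ↥(Q.subgroupOf (Subgroup.closure {a, q * a * q⁻¹})) →* Q :=
        MonoidHom.codRestrict ((Subgroup.closure {a, q * a * q⁻¹}).subtype.comp
          (Q.subgroupOf (Subgroup.closure {a, q * a * q⁻¹})).subtype) Q (fun w => w.2)
      refine Subgroup.card_dvd_of_injective ι ?_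
      intro w₁ w₂ h
      have := congrArg Subtype.val h
      exact Subtype.ext (Subtype.ext this)
    exact Nat.Coprime.coprime_dvd_left (h1.trans h2) hQ
  obtain ⟨hp3, K₁, f, hK₁, hfs⟩ := section_of_hom hp (Subgroup.closure {a, q * a * q⁻¹}) K φ
    ⟨a, haH₁⟩ (Subtype.ext hap) ((Q.subgroupOf (Subgroup.closure {a, q * a * q⁻¹})).map φ)
    (Subgroup.map_le_range _ _) hcard
    (Subgroup.le_normalizer_map φ (Subgroup.mem_map_of_mem φ hxn))
    (by
      refine ⟨φ ⟨_, hdH₁⟩, Subgroup.mem_map_of_mem φ (Subgroup.mem_subgroupOf.2 hdQ), ?_⟩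
      intro hcomm
      apply hφ
      have hgen : Subgroup.closure {φ.rangeRestrict ⟨a, haH₁⟩, φ.rangeRestrict ⟨q * a * q⁻¹, hcH₁⟩} = ⊤ := by
        have h1 := MonoidHom.map_closure φ.rangeRestrict
          {(⟨a, haH₁⟩ : ↥(Subgroup.closure {a, q * a * q⁻¹})), ⟨q * a * q⁻¹, hcH₁⟩}
        rw [hxy, Subgroup.map_top_of_surjective _ φ.rangeRestrict_surjective, Set.image_pair] at h1
        exact h1.symm
      refine isPGroup_of_commute_gens (φ.rangeRestrict ⟨a, haH₁⟩)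
        (φ.rangeRestrict ⟨q * a * q⁻¹, hcH₁⟩) hgen ?_ ?_ ?_
      · rw [← map_pow]
        have : (⟨a, haH₁⟩ : ↥(Subgroup.closure {a, q * a * q⁻¹})) ^ p = 1 := Subtype.ext hap
        rw [this, map_one]
      · rw [← map_pow]
        have : (⟨q * a * q⁻¹, hcH₁⟩ : ↥(Subgroup.closure {a, q * a * q⁻¹})) ^ p = 1 :=
          Subtype.ext hcp
        rw [this, map_one]
      · -- c̄ = ā d̄ commutes with ā
        have hcd : (⟨q * a * q⁻¹, hcH₁⟩ : ↥(Subgroup.closure {a, q * a * q⁻¹})) =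
            ⟨a, haH₁⟩ * ⟨_, hdH₁⟩ := by
          apply Subtype.ext
          show q * a * q⁻¹ = a * (a⁻¹ * (q * a * q⁻¹))
          group
        have hcd' : φ ⟨q * a * q⁻¹, hcH₁⟩ = φ ⟨a, haH₁⟩ * φ ⟨_, hdH₁⟩ := by
          rw [← map_mul]; exact congrArg φ hcd
        apply Subtype.ext
        show φ ⟨a, haH₁⟩ * φ ⟨q * a * q⁻¹, hcH₁⟩ = φ ⟨q * a * q⁻¹, hcH₁⟩ * φ ⟨a, haH₁⟩
        rw [hcd']
        generalize φ ⟨a, haH₁⟩ = A at hcomm ⊢
        generalize φ ⟨a⁻¹ * (q * a * q⁻¹), hdH₁⟩ = D at hcomm ⊢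
        calc A * (A * D) = A * (D * A) := by rw [hcomm]
          _ = A * D * A := (mul_assoc _ _ _).symm)
  refine ⟨hp3, ?_⟩
  exact exists_section_of_surj H K₁ (hK₁.trans hH₁) f hfs

end Cfsg.Agent.S0594
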