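import Mathlib
import Cfsg.Statements.S0596
import Cfsg.Agent.S0594
import Cfsg.Agent.S4176
import Cfsg.Agent.Lib.Helper62.HHDual

set_option autoImplicit false
open Cfsg

namespace Cfsg.Agent.S0596

open scoped commutatorElement
open Cfsg.Agent.Lib.Helper10 Cfsg.Agent.Lib.Helper41

section
variable {K : Type*} [Field K]

theorem tr2_eq_two_of_pow_pow (p : ℕ) [Fact p.Prime] [CharP K p]
    (Z : Matrix.SpecialLinearGroup (Fin 2) K) (k : ℕ) (hZ : Z ^ (p ^ k) = 1) : tr2 Z = 2 := by
  set M : Matrix (Fin 2) (Fin 2) K := (Z : Matrix (Fin 2) (Fin 2) K) with hM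
  have hMp : M ^ (p ^ k) = 1 := by
    rw [hM, ← Matrix.SpecialLinearGroup.coe_pow, hZ]; rfl
  have hnil : (M - 1) ^ (p ^ k) = 0 := by
    rw [sub_pow_char_pow_of_commute p k (Commute.one_right _), one_pow, hMp, sub_self]
  have h1 : IsNilpotent (M - 1).trace := Matrix.isNilpotent_trace_of_isNilpotent ⟨p ^ k, hnil⟩
  have h3 := h1.eq_zero
  rw [Matrix.trace_sub, Matrix.trace_one, Matrix.trace_fin_two] at h3
  simp at h3
  unfold tr2
  linear_combination h3

/-- a non-`p`-group generated by two elements of order `p` in `SL₂` has trivial `p`-core -/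
theorem core_trivial {p : ℕ} [Fact p.Prime] [CharP K p] (hp : p ≠ 2)
    (L : Subgroup (Matrix.SpecialLinearGroup (Fin 2) K)) [Finite L] (x y : L)
    (hgen : Subgroup.closure {x, y} = ⊤) (hx : x ^ p = 1) (hy : y ^ p = 1)
    (hnp : ¬ IsPGroup p L) (N : Subgroup L) (hN : N.Normal) (hNp : IsPGroup p N) : N = ⊥ := by
  by_contra hne
  obtain ⟨⟨n, hnN⟩, hn1⟩ := (Subgroup.ne_bot_iff_exists_ne_one).1 hne
  have hn1' : n ≠ 1 := fun h => hn1 (Subtype.ext h)
  have h2 : (2 : K) ≠ 0 := two_ne_zero_of_char p hp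
  have hntr : tr2 (n : Matrix.SpecialLinearGroup (Fin 2) K) = 2 := by
    obtain ⟨k, hk⟩ := hNp ⟨n, hnN⟩
    apply tr2_eq_two_of_pow_pow p _ k
    have := congrArg Subtype.val (congrArg Subtype.val hk)
    simpa using this
  -- elements of order p commute with n
  have key : ∀ z : L, z ^ p = 1 → (z : Matrix.SpecialLinearGroup (Fin 2) K) * n = n * z := by
    intro z hz
    have hzp : IsPGroup p (Subgroup.zpowers z) := by
      intro h
      obtain ⟨h, hh⟩ := h
      obtain ⟨k, rfl⟩ := Subgroup.mem_zpowers_iff.1 hh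
      refine ⟨1, ?_⟩
      apply Subtype.ext
      show (z ^ k) ^ (p ^ 1) = 1
      rw [pow_one, ← zpow_natCast, ← zpow_mul, mul_comm, zpow_mul, zpow_natCast, hz, one_zpow]
    have hM : IsPGroup p (N ⊔ Subgroup.zpowers z : Subgroup L) :=
      IsPGroup.to_sup_of_normal_left hNp hzp
    set M' : Subgroup (Matrix.SpecialLinearGroup (Fin 2) K) :=
      (N ⊔ Subgroup.zpowers z : Subgroup L).map L.subtype with hM'
    have hM'p : IsPGroup p M' := hM.map _
    have hfin : Finite M' := by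
      rw [hM']
      exact Finite.of_surjective _ ((N ⊔ Subgroup.zpowers z : Subgroup L).equivMapOfInjective
        L.subtype L.subtype_injective).surjective
    have hodd : Odd (Nat.card M') := by
      obtain ⟨k, hk⟩ := IsPGroup.iff_card.1 hM'p
      rw [hk]
      exact Odd.pow ((Fact.out : p.Prime).odd_of_ne_two hp)
    have hca := caOdd_of_odd p hp M' hodd
    have hzM : (z : Matrix.SpecialLinearGroup (Fin 2) K) ∈ M' :=
      ⟨z, Subgroup.mem_sup_right (Subgroup.mem_zpowers z), rfl⟩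
    have hnM : (n : Matrix.SpecialLinearGroup (Fin 2) K) ∈ M' :=
      ⟨n, Subgroup.mem_sup_left hnN, rfl⟩
    have hztr : tr2 (z : Matrix.SpecialLinearGroup (Fin 2) K) = 2 := by
      apply tr2_eq_two_of_pow_pow p _ 1
      rw [pow_one]
      have := congrArg Subtype.val hz
      simpa using this
    have hc : Commute (⟨_, hzM⟩ : M') ⟨_, hnM⟩ := hca.commute_of_U hztr hntr
    exact (commute_iff_coe (⟨_, hzM⟩ : M') ⟨_, hnM⟩).mp hc
  have hxn := key x hx
  have hyn := key y hy
  -- n is not scalar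
  have hns : ¬ IsScalarMat ((n : Matrix.SpecialLinearGroup (Fin 2) K) : Matrix (Fin 2) (Fin 2) K) := by
    intro hsc
    rcases eq_one_or_tr2_of_isScalarMat _ hsc with h | h
    · exact hn1' (Subtype.ext h)
    · rw [hntr] at h
      have h4 : (2 : K) * 2 = 0 := by linear_combination h
      exact h2 (mul_self_eq_zero.1 h4)
  have hxn' : ((x : Matrix.SpecialLinearGroup (Fin 2) K) : Matrix (Fin 2) (Fin 2) K)
      * ((n : Matrix.SpecialLinearGroup (Fin 2) K) : Matrix (Fin 2) (Fin 2) K)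
      = ((n : Matrix.SpecialLinearGroup (Fin 2) K) : Matrix (Fin 2) (Fin 2) K)
      * ((x : Matrix.SpecialLinearGroup (Fin 2) K) : Matrix (Fin 2) (Fin 2) K) := by
    rw [← Matrix.SpecialLinearGroup.coe_mul, hxn, Matrix.SpecialLinearGroup.coe_mul]
  have hyn' : ((y : Matrix.SpecialLinearGroup (Fin 2) K) : Matrix (Fin 2) (Fin 2) K)
      * ((n : Matrix.SpecialLinearGroup (Fin 2) K) : Matrix (Fin 2) (Fin 2) K)
      = ((n : Matrix.SpecialLinearGroup (Fin 2) K) : Matrix (Fin 2) (Fin 2) K)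
      * ((y : Matrix.SpecialLinearGroup (Fin 2) K) : Matrix (Fin 2) (Fin 2) K) := by
    rw [← Matrix.SpecialLinearGroup.coe_mul, hyn, Matrix.SpecialLinearGroup.coe_mul]
  obtain ⟨a1, b1, hA⟩ := exists_eq_smul_add _ _ hns hxn'
  obtain ⟨a2, b2, hB⟩ := exists_eq_smul_add _ _ hns hyn'
  apply hnp
  refine Cfsg.Agent.S0594.isPGroup_of_commute_gens x y hgen hx hy ?_
  apply Subtype.ext
  apply Subtype.ext
  show ((x : Matrix.SpecialLinearGroup (Fin 2) K) : Matrix (Fin 2) (Fin 2) K)
      * ((y : Matrix.SpecialLinearGroup (Fin 2) K) : Matrix (Fin 2) (Fin 2) K)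
      = ((y : Matrix.SpecialLinearGroup (Fin 2) K) : Matrix (Fin 2) (Fin 2) K)
      * ((x : Matrix.SpecialLinearGroup (Fin 2) K) : Matrix (Fin 2) (Fin 2) K)
  rw [hA, hB]
  set Y := ((n : Matrix.SpecialLinearGroup (Fin 2) K) : Matrix (Fin 2) (Fin 2) K)
  have hc : Commute (a1 • (1 : Matrix (Fin 2) (Fin 2) K) + b1 • Y) (a2 • 1 + b2 • Y) := by
    apply Commute.add_left
    · apply Commute.smul_left
      exact Commute.one_left _
    · apply Commute.smul_left
      apply Commute.add_right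
      · apply Commute.smul_right
        exact Commute.one_right _
      · apply Commute.smul_right
        exact Commute.refl _
  exact hc.eq

end


/-- For odd p, a p-separable group with a faithful action on an elementary abelian p-group that is not p-stable has p = 3 and involves SL(2,3). -/
theorem result {G : Type*} [Group G] [Finite G] {p : ℕ} [Fact p.Prime] (hp : p ≠ 2) (V H : Subgroup G) (hV : Cfsg.IsElementaryAbelian p V) (hHV : H ≤ Subgroup.normalizer (V : Set G)) (hf : H ⊓ Subgroup.centralizer (V : Set G) = ⊥) (hsep : Cfsg.IsPSolvable p H) (a : G) (haH : a ∈ H) (hq : ⁅⁅V, Subgroup.zpowers a⁆, Subgroup.zpowers a⁆ = ⊥) (hna : a ∉ (Cfsg.pCore p H).map H.subtype) : p = 3 ∧ ∃ (K L : Subgroup G) (hL : (L.subgroupOf K).Normal), K ≤ H ∧ Nonempty ((K ⧸ L.subgroupOf K) ≃* Matrix.SpecialLinearGroup (Fin 2) (ZMod 3)) := by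
  have hap : a ^ p = 1 := Cfsg.Agent.S0595.pow_eq_one_of_quad V H hV hHV hf a haH hq
  have hxp : (⟨a, haH⟩ : H) ^ p = 1 := Subtype.ext hap
  have hX : IsPGroup p (Subgroup.zpowers (⟨a, haH⟩ : H)) := by
    intro h
    obtain ⟨h, hh⟩ := h
    obtain ⟨k, rfl⟩ := Subgroup.mem_zpowers_iff.1 hh
    refine ⟨1, ?_⟩
    apply Subtype.ext
    show ((⟨a, haH⟩ : H) ^ k) ^ (p ^ 1) = 1
    rw [pow_one, ← zpow_natCast, ← zpow_mul, mul_comm, zpow_mul, zpow_natCast, hxp, one_zpow]
  by_cases hall : ∀ g : H, IsPGroup p ↥(Subgroup.zpowers (⟨a, haH⟩ : H) ⊔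
      (Subgroup.zpowers (⟨a, haH⟩ : H)).map (MulAut.conj g).toMonoidHom)
  · exfalso
    obtain ⟨N, hNn, hNp, hXN⟩ := Cfsg.Agent.S0199.result (Subgroup.zpowers (⟨a, haH⟩ : H)) hX hall
    apply hna
    refine ⟨⟨a, haH⟩, ?_, rfl⟩
    have hle : N ≤ Cfsg.pCore p H := le_sSup ⟨hNn, hNp⟩
    exact hle (hXN (Subgroup.mem_zpowers _))
  · simp only [not_forall] at hall
    obtain ⟨g, hg⟩ := hall
    have hbH : (g : G) * a * (g : G)⁻¹ ∈ H := H.mul_mem (H.mul_mem g.2 haH) (H.inv_mem g.2)
    have hH₁ : Subgroup.closure {a, (g : G) * a * (g : G)⁻¹} ≤ H := by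
      rw [Subgroup.closure_le]
      intro s hs
      rcases hs with rfl | hs
      · exact haH
      · rw [Set.mem_singleton_iff] at hs
        rw [hs]; exact hbH
    have hnp₁ : ¬ IsPGroup p ↥(Subgroup.closure {a, (g : G) * a * (g : G)⁻¹}) := by
      intro h
      apply hg
      have hle : Subgroup.zpowers (⟨a, haH⟩ : H) ⊔
          (Subgroup.zpowers (⟨a, haH⟩ : H)).map (MulAut.conj g).toMonoidHom ≤
          (Subgroup.closure {a, (g : G) * a * (g : G)⁻¹}).comap H.subtype := by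
        apply sup_le
        · rw [Subgroup.zpowers_le]
          show a ∈ Subgroup.closure {a, (g : G) * a * (g : G)⁻¹}
          exact Subgroup.subset_closure (Set.mem_insert _ _)
        · rw [Subgroup.map_le_iff_le_comap, Subgroup.zpowers_le]
          show (g : G) * a * (g : G)⁻¹ ∈ Subgroup.closure {a, (g : G) * a * (g : G)⁻¹}
          exact Subgroup.subset_closure (Set.mem_insert_of_mem _ (Set.mem_singleton _))
      intro s
      obtain ⟨k, hk⟩ := h ⟨((s : H) : G), hle s.2⟩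
      refine ⟨k, ?_⟩
      apply Subtype.ext
      apply Subtype.ext
      have hk' := congrArg Subtype.val hk
      rw [Subgroup.coe_pow] at hk'
      rw [Subgroup.coe_pow, Subgroup.coe_pow]
      exact hk'
    have hc := Cfsg.Agent.S0595.quad_conj V a (g : G) (hHV g.2) hq
    have hf₁ : Subgroup.closure {a, (g : G) * a * (g : G)⁻¹} ⊓ Subgroup.centralizer (V : Set G) = ⊥ := by
      rw [eq_bot_iff, ← hf]
      exact inf_le_inf_right _ hH₁
    have haH₁ : a ∈ Subgroup.closure {a, (g : G) * a * (g : G)⁻¹} :=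
      Subgroup.subset_closure (Set.mem_insert _ _)
    have hcH₁ : (g : G) * a * (g : G)⁻¹ ∈ Subgroup.closure {a, (g : G) * a * (g : G)⁻¹} :=
      Subgroup.subset_closure (Set.mem_insert_of_mem _ (Set.mem_singleton _))
    obtain ⟨K, _, _, _, φ, hφ, hap', hcp⟩ := exists_hom_sl2 V
      (Subgroup.closure {a, (g : G) * a * (g : G)⁻¹}) hV (hH₁.trans hHV) hf₁ a
      ((g : G) * a * (g : G)⁻¹) rfl hq hc hnp₁
    have hxy := closure_pair_subtype_eq_top (Subgroup.closure {a, (g : G) * a * (g : G)⁻¹}) a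
      ((g : G) * a * (g : G)⁻¹) rfl haH₁ hcH₁
    have hsurj : Function.Surjective φ.rangeRestrict := φ.rangeRestrict_surjective
    have hfin : Finite φ.range := Finite.of_surjective _ hsurj
    have hgen : Subgroup.closure {φ.rangeRestrict ⟨a, haH₁⟩,
        φ.rangeRestrict ⟨(g : G) * a * (g : G)⁻¹, hcH₁⟩} = ⊤ := by
      have h1 := MonoidHom.map_closure φ.rangeRestrict
        {(⟨a, haH₁⟩ : ↥(Subgroup.closure {a, (g : G) * a * (g : G)⁻¹})),
          ⟨(g : G) * a * (g : G)⁻¹, hcH₁⟩}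
      rw [hxy, Subgroup.map_top_of_surjective _ hsurj, Set.image_pair] at h1
      exact h1.symm
    have hx₁p : (⟨a, haH₁⟩ : ↥(Subgroup.closure {a, (g : G) * a * (g : G)⁻¹})) ^ p = 1 :=
      Subtype.ext hap'
    have hy₁p : (⟨(g : G) * a * (g : G)⁻¹, hcH₁⟩ :
        ↥(Subgroup.closure {a, (g : G) * a * (g : G)⁻¹})) ^ p = 1 := Subtype.ext hcp
    have hxbar : (φ.rangeRestrict ⟨a, haH₁⟩) ^ p = 1 := by rw [← map_pow, hx₁p, map_one]
    have hybar : (φ.rangeRestrict ⟨(g : G) * a * (g : G)⁻¹, hcH₁⟩) ^ p = 1 := by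
      rw [← map_pow, hy₁p, map_one]
    -- p-solvability
    have hsolH₁ : Cfsg.IsPSolvable p ↥(Subgroup.closure {a, (g : G) * a * (g : G)⁻¹}) :=
      Cfsg.Agent.S4176.isPSolvable_of_surjective p
        (Subgroup.subgroupOfEquivOfLe hH₁).toMonoidHom (Subgroup.subgroupOfEquivOfLe hH₁).surjective
        (Cfsg.Agent.S4176.isPSolvable_subgroup p hsep _)
    have hsolL : Cfsg.IsPSolvable p ↥φ.range :=
      Cfsg.Agent.S4176.isPSolvable_of_surjective p φ.rangeRestrict hsurj hsolH₁
    have hcore := core_trivial hp φ.range _ _ hgen hxbar hybar hφ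
    have hHH := Cfsg.Agent.Lib.Helper62.centralizer_pPrimeCore_le p hsolL
      (fun N hN hNp => hcore N hN hNp)
    have hQn : (Cfsg.pPrimeCore p ↥φ.range).Normal := Cfsg.Agent.Lib.Helper55.pPrimeCore_normal' p
    have hQcop : (Nat.card (Cfsg.pPrimeCore p ↥φ.range)).Coprime p :=
      Cfsg.Agent.Lib.Helper55.card_pPrimeCore_coprime p
    obtain ⟨hp3, K₁, f, hK₁, hfs⟩ := Cfsg.Agent.S0594.section_of_hom hp
      (Subgroup.closure {a, (g : G) * a * (g : G)⁻¹}) K φ ⟨a, haH₁⟩ hx₁p
      ((Cfsg.pPrimeCore p ↥φ.range).map φ.range.subtype) (Subgroup.map_subtype_le _)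
      (Nat.Coprime.coprime_dvd_left (Subgroup.card_map_dvd _ _) hQcop)
      (by
        have h1 : φ.rangeRestrict ⟨a, haH₁⟩ ∈
            Subgroup.normalizer ((Cfsg.pPrimeCore p ↥φ.range : Subgroup ↥φ.range) : Set ↥φ.range) := by
          rw [Subgroup.normalizer_eq_top]; exact Subgroup.mem_top _
        exact Subgroup.le_normalizer_map φ.range.subtype (Subgroup.mem_map_of_mem _ h1))
      (by
        by_contra hcon
        have hcen : φ.rangeRestrict ⟨a, haH₁⟩ ∈
            Subgroup.centralizer ((Cfsg.pPrimeCore p ↥φ.range : Subgroup ↥φ.range) : Set ↥φ.range) := by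
          rw [Subgroup.mem_centralizer_iff]
          intro r hr
          by_contra hne
          apply hcon
          refine ⟨(r : Matrix.SpecialLinearGroup (Fin 2) K), Subgroup.mem_map_of_mem _ hr, ?_⟩
          intro h
          apply hne
          exact Subtype.ext h
        have hmem := hHH hcen
        -- x̄ has order dividing p and lies in a p'-group
        have h1 : orderOf (φ.rangeRestrict ⟨a, haH₁⟩) ∣ p := orderOf_dvd_of_pow_eq_one hxbar
        have h2 : orderOf (φ.rangeRestrict ⟨a, haH₁⟩) ∣ Nat.card (Cfsg.pPrimeCore p ↥φ.range) := by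
          have := orderOf_dvd_natCard (⟨_, hmem⟩ : Cfsg.pPrimeCore p ↥φ.range)
          rwa [← Subgroup.orderOf_coe] at this
        have h3 : orderOf (φ.rangeRestrict ⟨a, haH₁⟩) ∣ 1 := by
          have := Nat.dvd_gcd h2 h1
          rwa [hQcop.gcd_eq_one] at this
        have h4 : φ.rangeRestrict ⟨a, haH₁⟩ = 1 := orderOf_eq_one_iff.1 (Nat.dvd_one.1 h3)
        apply hφ
        refine Cfsg.Agent.S0594.isPGroup_of_commute_gens _ _ hgen hxbar hybar ?_
        rw [h4]
        exact Commute.one_left _)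
    refine ⟨hp3, ?_⟩
    exact Cfsg.Agent.S0594.exists_section_of_surj H K₁ (hK₁.trans hH₁) f hfs

end Cfsg.Agent.S0596
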