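import Mathlib
import Cfsg.Statements.S3836
-- import your own Cfsg.Agent.* helpers here

set_option autoImplicit false
open Cfsg

namespace Cfsg.Agent.S3836

variable {G : Type*} [Group G]

lemma pCore_isPGroup (p : ℕ) (K : Type*) [Group K] : IsPGroup p (Cfsg.pCore p K) := by
  unfold Cfsg.pCore
  exact Sylow.sSup_of_normal _ (fun _ h => h.2) (fun _ h => h.1)

lemma pCore_normal (p : ℕ) (K : Type*) [Group K] : (Cfsg.pCore p K).Normal := by
  unfold Cfsg.pCore
  exact Subgroup.sSup_normal _ (fun _ h => h.1)

lemma le_pCore (p : ℕ) (K : Type*) [Group K] (N : Subgroup K) (hn : N.Normal) (hp : IsPGroup p N) :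
    N ≤ Cfsg.pCore p K := by
  unfold Cfsg.pCore
  exact le_sSup ⟨hn, hp⟩

/-- Let G be a finite group that is p-stable in the normalizer form: for every p-subgroup Q and every x ∈ N_G(Q) with [Q, x, x] = 1, the image of x in N_G(Q)/C_G(Q) lies in O_p(N_G(Q)/C_G(Q)). Then every subgroup of G is p-stable in the same sense. -/
theorem result {G : Type*} [Group G] [Finite G] {p : ℕ} [Fact p.Prime] (hst : Cfsg.IsNormalizerPStable p G) (H : Subgroup G) : Cfsg.IsNormalizerPStable p ↥H := by
  intro Q hQ h hh hquad
  set P := Q.map H.subtype with hP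
  have hPp : IsPGroup p P := hQ.map _
  have hmapN : ∀ n : H, n ∈ Subgroup.normalizer (Q : Set H) →
      (n : G) ∈ Subgroup.normalizer (P : Set G) := by
    intro n hn
    rw [Subgroup.mem_normalizer_iff]
    intro y
    constructor
    · rintro ⟨q, hq, rfl⟩
      refine ⟨n * q * n⁻¹, (Subgroup.mem_normalizer_iff.mp hn q).mp hq, by simp⟩
    · rintro ⟨q, hq, hqe⟩
      have hy : y = ((n⁻¹ * q * n : H) : G) := by
        have : (q : G) = n * y * (n : G)⁻¹ := hqe
        simp only [Subgroup.coe_mul, Subgroup.coe_inv, this]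
        group
      refine ⟨n⁻¹ * q * n, ?_, hy.symm⟩
      have := (Subgroup.mem_normalizer_iff.mp hn (n⁻¹ * q * n)).mpr (by simpa [mul_assoc] using hq)
      exact this
  have hg : (h : G) ∈ Subgroup.normalizer (P : Set G) := hmapN h hh
  have hquad' : ⁅⁅P, Subgroup.zpowers (h : G)⁆, Subgroup.zpowers (h : G)⁆ = ⊥ := by
    have hz : Subgroup.zpowers (h : G) = (Subgroup.zpowers h).map H.subtype := by
      rw [MonoidHom.map_zpowers]; rfl
    rw [hz, hP, ← Subgroup.map_commutator, ← Subgroup.map_commutator, hquad, Subgroup.map_bot]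
  have key := hst P hPp (h : G) hg hquad'
  -- the hom
  let incl : ↥(Subgroup.normalizer (Q : Set H)) →* ↥(Subgroup.normalizer (P : Set G)) :=
    { toFun := fun n => ⟨((n : H) : G), hmapN n n.2⟩
      map_one' := rfl
      map_mul' := fun _ _ => rfl }
  let φ := (QuotientGroup.mk' ((Subgroup.centralizer (P : Set G)).subgroupOf
      (Subgroup.normalizer (P : Set G)))).comp incl
  have hker : ∀ n : ↥(Subgroup.normalizer (Q : Set H)),
      φ n = 1 ↔ n ∈ (Subgroup.centralizer (Q : Set H)).subgroupOf (Subgroup.normalizer (Q : Set H)) := by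
    intro n
    simp only [φ, MonoidHom.coe_comp, Function.comp_apply, QuotientGroup.mk'_apply,
      QuotientGroup.eq_one_iff, Subgroup.mem_subgroupOf]
    rw [Subgroup.mem_centralizer_iff, Subgroup.mem_centralizer_iff]
    constructor
    · intro hc q hq
      have := hc (q : G) ⟨q, hq, rfl⟩
      exact Subtype.ext this
    · rintro hc _ ⟨q, hq, rfl⟩
      have := hc q hq
      exact congrArg Subtype.val this
  let ψ := QuotientGroup.lift ((Subgroup.centralizer (Q : Set H)).subgroupOf
      (Subgroup.normalizer (Q : Set H))) φ (fun n hn => (hker n).mpr hn)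
  have hψinj : Function.Injective ψ := by
    rw [injective_iff_map_eq_one]
    intro x hx
    obtain ⟨n, rfl⟩ := QuotientGroup.mk_surjective x
    have : φ n = 1 := hx
    exact (QuotientGroup.eq_one_iff _).mpr ((hker n).mp this)
  have hK : (Cfsg.pCore p _).comap ψ ≤ Cfsg.pCore p _ := by
    apply le_pCore
    · have := pCore_normal p (↥(Subgroup.normalizer (P : Set G)) ⧸
        (Subgroup.centralizer (P : Set G)).subgroupOf (Subgroup.normalizer (P : Set G)))
      exact this.comap ψ
    · exact (pCore_isPGroup p _).comap_of_injective ψ hψinj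
  apply hK
  rw [Subgroup.mem_comap]
  exact key

end Cfsg.Agent.S3836
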