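import Cfsg.Statements.S1033
-- import your own Cfsg.Agent.* helpers here
import Cfsg.Agent.Lib.Helper18.HDiagSmall
import Cfsg.Agent.Lib.Helper18.HDiagE7
import Cfsg.Agent.Lib.Helper18.HDiagE8a
import Cfsg.Agent.Lib.Helper18.HDiagE8b

set_option autoImplicit false
open Cfsg

namespace Cfsg.Agent.S1033

open Cfsg.Lie Cfsg.Agent.Lib.Helper18

theorem checkH_E8 : checkH chevE8 = true := by
  unfold checkH
  rw [List.all_eq_true]
  intro i hi
  have hi' : i < 8 := List.mem_range.mp hi
  interval_cases i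
  · exact checkH1_E8_0
  · exact checkH1_E8_1
  · exact checkH1_E8_2
  · exact checkH1_E8_3
  · exact checkH1_E8_4
  · exact checkH1_E8_5
  · exact checkH1_E8_6
  · exact checkH1_E8_7

theorem checkH_of_mem (D : ChevalleyDatum)
    (hD : D ∈ [chevG2, chevB2, chevD4, chevF4, chevE6, chevE7, chevE8]) : checkH D = true := by
  simp only [List.mem_cons, List.not_mem_nil, or_false] at hD
  rcases hD with rfl | rfl | rfl | rfl | rfl | rfl | rfl
  · exact checkH_G2
  · exact checkH_B2
  · exact checkH_D4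
  · exact checkH_F4
  · exact checkH_E6
  · exact checkH_E7
  · exact checkH_E8

/-- `h_p(c)` (for a fundamental root `p = p_{i+1}` and `c ≠ 0`) is diagonal: it fixes each `h_{p_j}` and scales `e_s` by `c^{A_{p,s}}`. -/
theorem result {F : Type*} [Field F] (D : Cfsg.Lie.ChevalleyDatum) (hD : D ∈ [Cfsg.Lie.chevG2, Cfsg.Lie.chevB2, Cfsg.Lie.chevD4, Cfsg.Lie.chevF4, Cfsg.Lie.chevE6, Cfsg.Lie.chevE7, Cfsg.Lie.chevE8]) (i : ℕ) (hi : i < D.rank) (c : F) (hc : c ≠ 0) :
    D.hMat F (D.simple i) c = Matrix.diagonal (Sum.elim (fun _ => (1 : F)) (fun s : Fin D.nroots => c ^ (D.cartan i s))) := by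
  exact hMat_eq_diagonal_of_checkH D (checkH_of_mem D hD) i hi c hc

end Cfsg.Agent.S1033
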