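import Cfsg.Statements.S1032
-- import your own Cfsg.Agent.* helpers here
import Cfsg.Agent.S1033
import Cfsg.Agent.Lib.Helper18.FastChkG2
import Cfsg.Agent.Lib.Helper18.FastChkB2
import Cfsg.Agent.Lib.Helper18.FastChkD4
import Cfsg.Agent.Lib.Helper18.FastChkF4
import Cfsg.Agent.Lib.Helper18.FastChkE6
import Cfsg.Agent.Lib.Helper18.FastChkE7
import Cfsg.Agent.Lib.Helper18.FastChkE8

set_option autoImplicit false
open Cfsg

namespace Cfsg.Agent.S1032

open Cfsg.Lie Cfsg.Agent.Lib.Helper18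

theorem cartan_facts (D : ChevalleyDatum)
    (hD : D ∈ [chevG2, chevB2, chevD4, chevF4, chevE6, chevE7, chevE8]) (i : ℕ) (hi : i < D.rank) :
    CartanNeg D i ∧ CartanChain D i := by
  simp only [List.mem_cons, List.not_mem_nil, or_false] at hD
  rcases hD with rfl | rfl | rfl | rfl | rfl | rfl | rfl
  · exact ⟨fastG2.cartanNeg_of_check _ agree_G2 cartanNegF_G2 i hi,
      fastG2.cartanChain_of_check _ agree_G2 cartanChainF_G2 i hi⟩
  · exact ⟨fastB2.cartanNeg_of_check _ agree_B2 cartanNegF_B2 i hi,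
      fastB2.cartanChain_of_check _ agree_B2 cartanChainF_B2 i hi⟩
  · exact ⟨fastD4.cartanNeg_of_check _ agree_D4 cartanNegF_D4 i hi,
      fastD4.cartanChain_of_check _ agree_D4 cartanChainF_D4 i hi⟩
  · exact ⟨fastF4.cartanNeg_of_check _ agree_F4 cartanNegF_F4 i hi,
      fastF4.cartanChain_of_check _ agree_F4 cartanChainF_F4 i hi⟩
  · exact ⟨fastE6.cartanNeg_of_check _ agree_E6 cartanNegF_E6 i hi,
      fastE6.cartanChain_of_check _ agree_E6 cartanChainF_E6 i hi⟩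
  · exact ⟨fastE7.cartanNeg_of_check _ agree_E7 cartanNegF_E7 i hi,
      fastE7.cartanChain_of_check _ agree_E7 cartanChainF_E7 i hi⟩
  · exact ⟨fastE8.cartanNeg_of_check _ agree_E8 cartanNegF_E8 i hi,
      fastE8.cartanChain_of_check _ agree_E8 cartanChainF_E8 i hi⟩

/-- For a fundamental root `p`, a root `s` and `c ≠ 0`: `h_p(c) x_s(t) h_p(c)⁻¹ = x_s(c^{A_{p,s}} t)`, stated as `h_p(c) x_s(t) = x_s(c^{A_{p,s}} t) h_p(c)`. -/
theorem result {F : Type*} [Field F] (D : Cfsg.Lie.ChevalleyDatum) (hD : D ∈ [Cfsg.Lie.chevG2, Cfsg.Lie.chevB2, Cfsg.Lie.chevD4, Cfsg.Lie.chevF4, Cfsg.Lie.chevE6, Cfsg.Lie.chevE7, Cfsg.Lie.chevE8]) (i s : ℕ) (hi : i < D.rank) (hs : s < D.nroots) (c : F) (hc : c ≠ 0) (t : F) :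
    D.hMat F (D.simple i) c * D.x F s t = D.x F s (c ^ (D.cartan i s) * t) * D.hMat F (D.simple i) c := by
  rw [Cfsg.Agent.S1033.result D hD i hi c hc]
  unfold ChevalleyDatum.x
  rw [dif_pos hs, dif_pos hs]
  obtain ⟨h1, h2⟩ := cartan_facts D hD i hi
  exact diag_mul_xMat D i h1 h2 c hc ⟨s, hs⟩ t

end Cfsg.Agent.S1032
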