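import Cfsg.Statements.S1034
-- import your own Cfsg.Agent.* helpers here
import Cfsg.Agent.S1033
import Cfsg.Agent.Lib.Helper18.HAll

set_option autoImplicit false
open Cfsg

namespace Cfsg.Agent.S1034

open Cfsg.Lie Cfsg.Agent.Lib.Helper18

/-- Every element of `H` is a diagonal matrix `diag(torusFun c)` with non-zero parameters. -/
theorem mem_diagonalSubgroup_torus {F : Type*} [Field F] (D : ChevalleyDatum)
    (hD : D ∈ [chevG2, chevB2, chevD4, chevF4, chevE6, chevE7, chevE8]) (g : GL D.Idx F)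
    (hg : g ∈ D.diagonalSubgroup F) :
    ∃ c : ℕ → F, (∀ i < D.rank, c i ≠ 0) ∧ (g : Matrix D.Idx D.Idx F) = Matrix.diagonal (torusFun D c) := by
  obtain ⟨T, hag, hchk⟩ := exists_hcert D hD
  unfold ChevalleyDatum.diagonalSubgroup at hg
  induction hg using Subgroup.closure_induction with
  | mem x hx =>
    obtain ⟨r, t, hr, ht, hx⟩ := hx
    refine ⟨fun i => t ^ T.coroot r i, fun i _ => zpow_ne_zero _ ht, ?_⟩
    rw [hx]
    exact T.hMat_eq_torus D hag r hr (hchk r hr) t ht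
  | one =>
    refine ⟨fun _ => 1, fun i _ => one_ne_zero, ?_⟩
    rw [torusFun_one]
    simp
  | mul x y _ _ hx hy =>
    obtain ⟨c, hc, hx⟩ := hx
    obtain ⟨c', hc', hy⟩ := hy
    refine ⟨fun i => c i * c' i, fun i hi => mul_ne_zero (hc i hi) (hc' i hi), ?_⟩
    rw [torusFun_mul, Units.val_mul, hx, hy, Matrix.diagonal_mul_diagonal]
  | inv x _ hx =>
    obtain ⟨c, hc, hx⟩ := hx
    refine ⟨fun i => (c i)⁻¹, fun i hi => inv_ne_zero (hc i hi), ?_⟩
    rw [torusFun_inv, Matrix.coe_units_inv, hx]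
    apply Matrix.inv_eq_right_inv
    rw [Matrix.diagonal_mul_diagonal]
    have : (fun i => torusFun D c i * (torusFun D c i)⁻¹) = fun _ => (1 : F) := by
      funext i
      exact mul_inv_cancel₀ (torusFun_ne_zero D c hc i)
    rw [this]
    exact Matrix.diagonal_one

/-- Every element of `H` is a product `h_{p_1}(c_1) ⋯ h_{p_l}(c_l)` over the fundamental roots, with non-zero `c_i`. -/
theorem result {F : Type*} [Field F] (D : Cfsg.Lie.ChevalleyDatum) (hD : D ∈ [Cfsg.Lie.chevG2, Cfsg.Lie.chevB2, Cfsg.Lie.chevD4, Cfsg.Lie.chevF4, Cfsg.Lie.chevE6, Cfsg.Lie.chevE7, Cfsg.Lie.chevE8]) (g : GL D.Idx F) (hg : g ∈ D.diagonalSubgroup F) :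
    ∃ c : ℕ → F, (∀ i < D.rank, c i ≠ 0) ∧
      (g : Matrix D.Idx D.Idx F) = D.wordMat F ((List.range D.rank).flatMap fun i => D.hWord (D.simple i) (c i)) := by
  obtain ⟨c, hc, hgc⟩ := mem_diagonalSubgroup_torus D hD g hg
  refine ⟨c, hc, ?_⟩
  rw [hgc]
  exact (wordMat_torusWord D (fun i hi c hc => Cfsg.Agent.S1033.result D hD i hi c hc) c hc).symm

end Cfsg.Agent.S1034
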