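import Cfsg.Statements.S1036
-- import your own Cfsg.Agent.* helpers here
import Cfsg.Agent.S1034
import Cfsg.Agent.Lib.Helper18.TorusConj
import Cfsg.Agent.Lib.Helper18.Tri

set_option autoImplicit false
open Cfsg

namespace Cfsg.Agent.S1036

open Cfsg.Lie Cfsg.Agent.Lib.Helper18 Cfsg.Agent.Lib.Helper17

/-- Conjugating a root element by an element of `H` gives a root element of the same root. -/
theorem conj_root_elem {F : Type*} [Field F] (D : ChevalleyDatum)
    (hD : D ∈ [chevG2, chevB2, chevD4, chevF4, chevE6, chevE7, chevE8]) (h : GL D.Idx F)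
    (hh : h ∈ D.diagonalSubgroup F) (g : GL D.Idx F) (s : ℕ) (hs : s < D.nroots) (t : F)
    (hg : (g : Matrix D.Idx D.Idx F) = D.x F s t) :
    ∃ t' : F, ((h * g * h⁻¹ : GL D.Idx F) : Matrix D.Idx D.Idx F) = D.x F s t' := by
  obtain ⟨c, hc, hhc⟩ := Cfsg.Agent.S1034.mem_diagonalSubgroup_torus D hD h hh
  refine ⟨torusFun D c (Sum.inr ⟨s, hs⟩) * t, ?_⟩
  rw [Units.val_mul, Units.val_mul, hg, hhc, torus_mul_x D hD c hc s hs t, mul_assoc, ← hhc,
    ← Units.val_mul, mul_inv_cancel, Units.val_one, mul_one]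

/-- `H` normalises `U` and `U ∩ H = 1`; thus `B = UH` is the semidirect product of `U` by `H`. -/
theorem result {F : Type*} [Field F] (D : Cfsg.Lie.ChevalleyDatum) (hD : D ∈ [Cfsg.Lie.chevG2, Cfsg.Lie.chevB2, Cfsg.Lie.chevD4, Cfsg.Lie.chevF4, Cfsg.Lie.chevE6, Cfsg.Lie.chevE7, Cfsg.Lie.chevE8]) :
    D.diagonalSubgroup F ≤ Subgroup.normalizer (D.posUnipotent F : Set (GL D.Idx F)) ∧
      D.posUnipotent F ⊓ D.diagonalSubgroup F = ⊥ := by
  constructor
  · unfold ChevalleyDatum.posUnipotent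
    rw [Subgroup.le_normalizer_closure_iff]
    rintro h hh g ⟨r, t, hr, hg⟩
    obtain ⟨t', ht'⟩ := conj_root_elem D hD h hh g r hr.1 t hg
    exact Subgroup.subset_closure ⟨r, t', hr, ht'⟩
  · rw [eq_bot_iff]
    rintro g ⟨hgU, hgH⟩
    rw [Subgroup.mem_bot]
    have h1 : Depth (chevWeight D) 1 ((g : Matrix D.Idx D.Idx F) - 1) :=
      posUnipotent_le_chevUT (posOK_of_mem D hD) hgU
    obtain ⟨c, hc, hgc⟩ := Cfsg.Agent.S1034.mem_diagonalSubgroup_torus D hD g hgH
    apply Units.ext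
    rw [Units.val_one]
    exact eq_one_of_depth_of_diagonal _ _ h1 _ hgc

end Cfsg.Agent.S1036
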