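import Cfsg.Statements.S1038
-- import your own Cfsg.Agent.* helpers here
import Cfsg.Agent.Lib.Helper18.NConj

set_option autoImplicit false
open Cfsg

namespace Cfsg.Agent.S1038

open Cfsg.Lie Cfsg.Agent.Lib.Helper18

variable {F : Type*} [Field F]

/-- The inverse of `n_r(1)` is `n_r(-1)`. -/
theorem coe_inv_of_nMat (D : ChevalleyDatum)
    (hD : D ∈ [chevG2, chevB2, chevD4, chevF4, chevE6, chevE7, chevE8]) (r : ℕ) (hr : r < D.nroots)
    (n : GL D.Idx F) (hn : (n : Matrix D.Idx D.Idx F) = D.nMat F r 1) :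
    ((n⁻¹ : GL D.Idx F) : Matrix D.Idx D.Idx F) = D.nMat F r (-1) := by
  rw [Matrix.coe_units_inv, hn]
  exact Matrix.inv_eq_right_inv (nMat_one_mul_nMat_neg_one D hD r hr)

/-- `h n h⁻¹ n⁻¹ = h_r(χ_r(h))` lies in `H`. -/
theorem comm_mem (D : ChevalleyDatum)
    (hD : D ∈ [chevG2, chevB2, chevD4, chevF4, chevE6, chevE7, chevE8]) (r : ℕ) (hr : r < D.nroots)
    (n : GL D.Idx F) (hn : (n : Matrix D.Idx D.Idx F) = D.nMat F r 1) (h : GL D.Idx F)
    (hh : h ∈ D.diagonalSubgroup F) : h * n * h⁻¹ * n⁻¹ ∈ D.diagonalSubgroup F := by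
  obtain ⟨c, hc, hhc⟩ := Cfsg.Agent.S1034.mem_diagonalSubgroup_torus D hD h hh
  have hχ : torusFun D c (Sum.inr ⟨r, hr⟩) ≠ 0 := torusFun_ne_zero D c hc _
  apply Subgroup.subset_closure
  refine ⟨r, torusFun D c (Sum.inr ⟨r, hr⟩), hr, hχ, ?_⟩
  rw [Units.val_mul, Units.val_mul, Units.val_mul, coe_inv_of_nMat D hD r hr n hn, hn, hhc,
    torus_mul_nMat D hD c hc r hr 1, mul_one, mul_assoc (D.nMat F r _), ← hhc, ← Units.val_mul,
    mul_inv_cancel, Units.val_one, mul_one, hMat_eq_nMat_mul']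

/-- `n h n⁻¹ ∈ H` for `h ∈ H`. -/
theorem conj_mem (D : ChevalleyDatum)
    (hD : D ∈ [chevG2, chevB2, chevD4, chevF4, chevE6, chevE7, chevE8]) (r : ℕ) (hr : r < D.nroots)
    (n : GL D.Idx F) (hn : (n : Matrix D.Idx D.Idx F) = D.nMat F r 1) (h : GL D.Idx F)
    (hh : h ∈ D.diagonalSubgroup F) : n * h * n⁻¹ ∈ D.diagonalSubgroup F := by
  have h1 := comm_mem D hD r hr n hn h⁻¹ (inv_mem hh)
  have h2 : n * h * n⁻¹ = h * (h⁻¹ * n * h⁻¹⁻¹ * n⁻¹) := by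
    rw [inv_inv]; group
  rw [h2]
  exact mul_mem hh h1

/-- `n⁻¹ n⁻¹ = h_r(-1)` lies in `H`. -/
theorem inv_sq_mem (D : ChevalleyDatum)
    (hD : D ∈ [chevG2, chevB2, chevD4, chevF4, chevE6, chevE7, chevE8]) (r : ℕ) (hr : r < D.nroots)
    (n : GL D.Idx F) (hn : (n : Matrix D.Idx D.Idx F) = D.nMat F r 1) :
    n⁻¹ * n⁻¹ ∈ D.diagonalSubgroup F := by
  apply Subgroup.subset_closure
  refine ⟨r, -1, hr, by norm_num, ?_⟩
  rw [Units.val_mul, coe_inv_of_nMat D hD r hr n hn, hMat_eq_nMat_mul']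

/-- The diagonal subgroup `H` (generated by the `h_r(t)`, `t ≠ 0`) is normal in the monomial subgroup `N` (generated by `H` and the `n_r`). -/
theorem result {F : Type*} [Field F] (D : Cfsg.Lie.ChevalleyDatum) (hD : D ∈ [Cfsg.Lie.chevG2, Cfsg.Lie.chevB2, Cfsg.Lie.chevD4, Cfsg.Lie.chevF4, Cfsg.Lie.chevE6, Cfsg.Lie.chevE7, Cfsg.Lie.chevE8]) : ((D.diagonalSubgroup F).subgroupOf (D.monomialSubgroup F)).Normal := by
  have hHN : D.diagonalSubgroup F ≤ D.monomialSubgroup F := le_sup_left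
  rw [Subgroup.normal_subgroupOf_iff_le_normalizer hHN]
  unfold ChevalleyDatum.monomialSubgroup
  apply sup_le Subgroup.le_normalizer
  rw [Subgroup.closure_le]
  rintro n ⟨r, hr, hn⟩
  rw [SetLike.mem_coe, Subgroup.mem_normalizer_iff]
  intro h
  constructor
  · intro hh
    exact conj_mem D hD r hr n hn h hh
  · intro hk
    have hz := inv_sq_mem D hD r hr n hn
    have h1 : (n⁻¹ * n⁻¹) * (n * h * n⁻¹) * (n⁻¹ * n⁻¹)⁻¹ ∈ D.diagonalSubgroup F :=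
      mul_mem (mul_mem hz hk) (inv_mem hz)
    have h2 := conj_mem D hD r hr n hn _ h1
    have h3 : n * ((n⁻¹ * n⁻¹) * (n * h * n⁻¹) * (n⁻¹ * n⁻¹)⁻¹) * n⁻¹ = h := by group
    rwa [h3] at h2

end Cfsg.Agent.S1038
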