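import Cfsg.Statements.S1024

set_option autoImplicit false
open Cfsg

namespace Cfsg.Agent.S1024
open Cfsg.Lie

/-- The decidable table check: `-r` is in range and different from `r`. -/
def negOK (D : ChevalleyDatum) : Bool :=
  (List.range D.nroots).all fun r =>
    decide (D.negIdx.getD r 0 < D.nroots) && decide (D.negIdx.getD r 0 ≠ r)

theorem negOK_G2 : negOK chevG2 = true := by decide +kernel
theorem negOK_B2 : negOK chevB2 = true := by decide +kernel
theorem negOK_D4 : negOK chevD4 = true := by decide +kernel
theorem negOK_F4 : negOK chevF4 = true := by decide +kernel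
theorem negOK_E6 : negOK chevE6 = true := by decide +kernel
set_option maxRecDepth 100000 in
theorem negOK_E7 : negOK chevE7 = true := by decide +kernel
set_option maxRecDepth 100000 in
theorem negOK_E8 : negOK chevE8 = true := by decide +kernel

theorem negOK_of_mem (D : ChevalleyDatum)
    (hD : D ∈ [chevG2, chevB2, chevD4, chevF4, chevE6, chevE7, chevE8]) : negOK D = true := by
  simp only [List.mem_cons, List.not_mem_nil, or_false] at hD
  rcases hD with rfl | rfl | rfl | rfl | rfl | rfl | rfl
  · exact negOK_G2
  · exact negOK_B2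
  · exact negOK_D4
  · exact negOK_F4
  · exact negOK_E6
  · exact negOK_E7
  · exact negOK_E8

variable {F : Type*} [Field F] (D : ChevalleyDatum)

theorem mem_chainCoeff_pos (r s u : ℕ) (km : ℕ × ℤ) (h : km ∈ D.chainCoeff r s u) : 1 ≤ km.1 := by
  unfold ChevalleyDatum.chainCoeff at h
  simp only [List.mem_flatMap, List.mem_filter, List.mem_map, decide_eq_true_eq] at h
  obtain ⟨e, ⟨he, hes⟩, q, ⟨hq, hqu⟩, hkm⟩ := h
  rw [← hkm]
  simp [Matrix.one_apply]

theorem xMat_zero (r : Fin D.nroots) : D.xMat F r 0 = 1 := by
  ext row col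
  unfold ChevalleyDatum.xMat
  simp only [Matrix.of_apply]
  rcases col with i | s
  · rcases row with i' | u
    · simp [Matrix.one_apply]
    · simp [Matrix.one_apply]
  · by_cases hsr : s = r
    · simp only [if_pos hsr]
      rcases row with i' | u
      · simp [Matrix.one_apply]
      · subst hsr
        simp [Matrix.one_apply]
    · simp only [if_neg hsr]
      by_cases hneg : s.val = D.negIdx.getD r.val 0
      · simp only [if_pos hneg]
        rcases row with i' | u
        · simp [Matrix.one_apply]
        · simp only [Matrix.one_apply, Sum.inr.injEq]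
          by_cases hus : u = s
          · simp [hus]
          · simp [hus]
      · simp only [if_neg hneg]
        rcases row with i' | u
        · simp [Matrix.one_apply]
        · have hsum : ((D.chainCoeff r.val s.val u.val).map fun km => ((km.2 : ℤ) : F) * (0 : F) ^ km.1).sum = 0 := by
            apply List.sum_eq_zero
            intro x hx
            rw [List.mem_map] at hx
            obtain ⟨km, hkm, rfl⟩ := hx
            have := mem_chainCoeff_pos D _ _ _ km hkm
            rw [zero_pow (by omega), mul_zero]
          change (if u = s then (1 : F) else 0) + ((D.chainCoeff r.val s.val u.val).map fun km => ((km.2 : ℤ) : F) * (0 : F) ^ km.1).sum = (1 : Matrix D.Idx D.Idx F) (Sum.inr u) (Sum.inr s)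
          rw [hsum, add_zero]
          simp [Matrix.one_apply]

theorem xMat_eq_one_imp (hOK : negOK D = true) (r : Fin D.nroots) (t : F)
    (h : D.xMat F r t = 1) : t = 0 := by
  unfold negOK at hOK
  rw [List.all_eq_true] at hOK
  have h1 := hOK r.val (List.mem_range.mpr r.isLt)
  rw [Bool.and_eq_true, decide_eq_true_eq, decide_eq_true_eq] at h1
  obtain ⟨hlt, hne⟩ := h1
  set s : Fin D.nroots := ⟨D.negIdx.getD r.val 0, hlt⟩ with hs
  have hsr : s ≠ r := by
    intro hsr
    apply hne
    have := congrArg Fin.val hsr
    exact this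
  have hentry := congrFun (congrFun h (Sum.inr r)) (Sum.inr s)
  unfold ChevalleyDatum.xMat at hentry
  simp only [Matrix.of_apply, if_neg hsr] at hentry
  have hsval : s.val = D.negIdx.getD r.val 0 := rfl
  rw [if_pos hsval] at hentry
  have hrs : r ≠ s := fun h => hsr h.symm
  simp only [if_neg hrs, if_true] at hentry
  rw [Matrix.one_apply_ne (by intro h; exact hrs (Sum.inr.inj h))] at hentry
  have : t ^ 2 = 0 := by
    have := neg_eq_zero.1 hentry
    exact this
  exact pow_eq_zero_iff (by norm_num) |>.1 this

/-- `x_r(0) = 1`, and `x_r(t) = 1` forces `t = 0`: the map `t ↦ x_r(t)` is injective. -/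
theorem result {F : Type*} [Field F] (D : Cfsg.Lie.ChevalleyDatum) (hD : D ∈ [Cfsg.Lie.chevG2, Cfsg.Lie.chevB2, Cfsg.Lie.chevD4, Cfsg.Lie.chevF4, Cfsg.Lie.chevE6, Cfsg.Lie.chevE7, Cfsg.Lie.chevE8]) (r : ℕ) (hr : r < D.nroots) (t : F) :
    D.x F r t = 1 ↔ t = 0 := by
  have hOK := negOK_of_mem D hD
  unfold Cfsg.Lie.ChevalleyDatum.x
  rw [dif_pos hr]
  constructor
  · exact xMat_eq_one_imp D hOK ⟨r, hr⟩ t
  · intro ht
    rw [ht]
    exact xMat_zero D ⟨r, hr⟩

end Cfsg.Agent.S1024
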