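import Cfsg.Statements.S1053
-- import your own Cfsg.Agent.* helpers here
import Cfsg.Agent.Lib.Helper18.LongestAll
import Cfsg.Agent.Lib.Helper18.Tri

set_option autoImplicit false
open Cfsg

namespace Cfsg.Agent.S1053

open Cfsg.Lie Cfsg.Agent.Lib.Helper18 Cfsg.Agent.Lib.Helper17

/-- There is `n₀ ∈ N` with `n₀ U n₀⁻¹ = V` (a representative of the longest element of the Weyl group). -/
theorem result {F : Type*} [Field F] (D : Cfsg.Lie.ChevalleyDatum) (hD : D ∈ [Cfsg.Lie.chevG2, Cfsg.Lie.chevB2, Cfsg.Lie.chevD4, Cfsg.Lie.chevF4, Cfsg.Lie.chevE6, Cfsg.Lie.chevE7, Cfsg.Lie.chevE8]) :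
    ∃ n ∈ D.monomialSubgroup F, (D.posUnipotent F).map (MulAut.conj n).toMonoidHom = D.negUnipotent F := by
  obtain ⟨ws, hws, hw⟩ := exists_longestWord D hD
  have hsign := signOK_of_mem D hD
  obtain ⟨n, hnN, hn⟩ := exists_unit_nWordMat (F := F) D hD ws hws
  refine ⟨n, hnN, ?_⟩
  -- conjugation of a root element by n
  have hconj : ∀ (s : ℕ) (hs : s < D.nroots), ∃ η : ℤ, (η = 1 ∨ η = -1) ∧ ∀ (g : GL D.Idx F) (t : F),
      (g : Matrix D.Idx D.Idx F) = D.x F s t →
      ((n * g * n⁻¹ : GL D.Idx F) : Matrix D.Idx D.Idx F) = D.x F (wordRoot D ws s) ((η : F) * t) := by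
    intro s hs
    obtain ⟨η, hη, h⟩ := nWordMat_mul_x (F := F) D hD ws hws s hs
    refine ⟨η, hη, fun g t hg => ?_⟩
    rw [Units.val_mul, Units.val_mul, hg, hn, h t, mul_assoc, ← hn, ← Units.val_mul, mul_inv_cancel,
      Units.val_one, mul_one]
  unfold ChevalleyDatum.posUnipotent ChevalleyDatum.negUnipotent
  rw [MonoidHom.map_closure]
  apply le_antisymm
  · rw [Subgroup.closure_le]
    rintro _ ⟨g, ⟨r, t, hr, hg⟩, rfl⟩
    apply Subgroup.subset_closure
    obtain ⟨η, -, h⟩ := hconj r hr.1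
    obtain ⟨-, h2, h3⟩ := hw r hr.1
    have hrpos : D.nroots / 2 ≤ r := (posOK_spec (posOK_of_mem D hD) r hr).1
    refine ⟨wordRoot D ws r, (η : F) * t, isNegRoot_of_lt D hsign _ h2 (h3.mp hrpos), ?_⟩
    exact h g t hg
  · rw [Subgroup.closure_le]
    rintro g ⟨s, t, hs, hg⟩
    -- s negative; r = w(s) positive and w(r) = s
    obtain ⟨h1, h2, h3⟩ := hw s hs.1
    have hsneg : s < D.nroots / 2 := (negOK_spec (negOK_of_mem D hD) s hs).1
    have hrpos : D.nroots / 2 ≤ wordRoot D ws s := by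
      by_contra hlt
      have := h3.mpr (by omega)
      omega
    obtain ⟨η', hη', h'⟩ := nWordMat_mul_x (F := F) D hD ws hws (wordRoot D ws s) h2
    rw [h1] at h'
    have hinv : ((n⁻¹ : GL D.Idx F) : Matrix D.Idx D.Idx F) * nWordMat D F ws = 1 := by
      rw [← hn, ← Units.val_mul, inv_mul_cancel, Units.val_one]
    have hη2 : ((η' : F) * ((η' : F) * t)) = t := by
      rcases hη' with h0 | h0 <;> rw [h0] <;> push_cast <;> ring
    have e2 := h' ((η' : F) * t)
    rw [hη2] at e2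
    have e3 : ((n⁻¹ * g * n : GL D.Idx F) : Matrix D.Idx D.Idx F)
        = D.x F (wordRoot D ws s) ((η' : F) * t) := by
      rw [Units.val_mul, Units.val_mul, hg, hn, mul_assoc, ← e2, ← mul_assoc, hinv, one_mul]
    apply Subgroup.subset_closure
    refine ⟨n⁻¹ * g * n, ⟨wordRoot D ws s, (η' : F) * t, isPosRoot_of_ge D hsign _ h2 hrpos, e3⟩, ?_⟩
    show n * (n⁻¹ * g * n) * n⁻¹ = g
    group

end Cfsg.Agent.S1053
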