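import Cfsg.Statements.S1043
-- import your own Cfsg.Agent.* helpers here
import Cfsg.Agent.S1053
import Cfsg.Agent.S1023
import Cfsg.Agent.S1024

set_option autoImplicit false
open Cfsg

namespace Cfsg.Agent.S1043

open Cfsg.Lie Cfsg.Agent.Lib.Helper18

variable {F : Type*} [Field F]

theorem x_mul_x_neg (D : ChevalleyDatum)
    (hD : D ∈ [chevG2, chevB2, chevD4, chevF4, chevE6, chevE7, chevE8]) (r : ℕ) (t : F) :
    D.x F r t * D.x F r (-t) = 1 := by
  by_cases hr : r < D.nroots
  · rw [Cfsg.Agent.S1023.result D hD r hr, add_neg_cancel]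
    exact (Cfsg.Agent.S1024.result D hD r hr 0).mpr rfl
  · unfold ChevalleyDatum.x
    rw [dif_neg hr, dif_neg hr, one_mul]

/-- Every root element is the matrix of an element of the Chevalley group. -/
theorem exists_unit_x (D : ChevalleyDatum)
    (hD : D ∈ [chevG2, chevB2, chevD4, chevF4, chevE6, chevE7, chevE8]) (r : ℕ) (t : F) :
    ∃ g : GL D.Idx F, g ∈ D.group F ∧ (g : Matrix D.Idx D.Idx F) = D.x F r t := by
  by_cases hr : r < D.nroots
  · have h1 := x_mul_x_neg D hD r t
    have h2 : D.x F r (-t) * D.x F r t = 1 := mul_eq_one_comm.mp h1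
    refine ⟨⟨D.x F r t, D.x F r (-t), h1, h2⟩, ?_, rfl⟩
    apply Subgroup.subset_closure
    refine ⟨⟨r, hr⟩, t, ?_⟩
    show D.x F r t = _
    unfold ChevalleyDatum.x
    rw [dif_pos hr]
  · refine ⟨1, one_mem _, ?_⟩
    unfold ChevalleyDatum.x
    rw [dif_neg hr, Units.val_one]

/-- Every word in root elements is the matrix of an element of the Chevalley group. -/
theorem exists_unit_wordMat (D : ChevalleyDatum)
    (hD : D ∈ [chevG2, chevB2, chevD4, chevF4, chevE6, chevE7, chevE8]) (w : List (ℕ × F)) :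
    ∃ g : GL D.Idx F, g ∈ D.group F ∧ (g : Matrix D.Idx D.Idx F) = D.wordMat F w := by
  induction w with
  | nil => exact ⟨1, one_mem _, by simp [ChevalleyDatum.wordMat]⟩
  | cons a w ih =>
    obtain ⟨g, hg, hgm⟩ := ih
    obtain ⟨g', hg', hgm'⟩ := exists_unit_x D hD a.1 a.2
    refine ⟨g' * g, mul_mem hg' hg, ?_⟩
    rw [Units.val_mul, hgm, hgm']
    simp [ChevalleyDatum.wordMat]

theorem mem_group_of_wordMat (D : ChevalleyDatum)
    (hD : D ∈ [chevG2, chevB2, chevD4, chevF4, chevE6, chevE7, chevE8]) (w : List (ℕ × F))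
    (g : GL D.Idx F) (hg : (g : Matrix D.Idx D.Idx F) = D.wordMat F w) : g ∈ D.group F := by
  obtain ⟨g', hg', hgm'⟩ := exists_unit_wordMat D hD w
  have : g = g' := Units.ext (by rw [hg, hgm'])
  rw [this]
  exact hg'

theorem posUnipotent_le_group (D : ChevalleyDatum)
    (hD : D ∈ [chevG2, chevB2, chevD4, chevF4, chevE6, chevE7, chevE8]) :
    D.posUnipotent F ≤ D.group F := by
  unfold ChevalleyDatum.posUnipotent
  rw [Subgroup.closure_le]
  rintro g ⟨r, t, -, hg⟩
  exact mem_group_of_wordMat D hD [(r, t)] g (by rw [hg]; simp [ChevalleyDatum.wordMat])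

theorem negUnipotent_le_group (D : ChevalleyDatum)
    (hD : D ∈ [chevG2, chevB2, chevD4, chevF4, chevE6, chevE7, chevE8]) :
    D.negUnipotent F ≤ D.group F := by
  unfold ChevalleyDatum.negUnipotent
  rw [Subgroup.closure_le]
  rintro g ⟨r, t, -, hg⟩
  exact mem_group_of_wordMat D hD [(r, t)] g (by rw [hg]; simp [ChevalleyDatum.wordMat])

theorem diagonal_le_group (D : ChevalleyDatum)
    (hD : D ∈ [chevG2, chevB2, chevD4, chevF4, chevE6, chevE7, chevE8]) :
    D.diagonalSubgroup F ≤ D.group F := by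
  unfold ChevalleyDatum.diagonalSubgroup
  rw [Subgroup.closure_le]
  rintro g ⟨r, t, -, -, hg⟩
  exact mem_group_of_wordMat D hD _ g hg

theorem monomial_le_group (D : ChevalleyDatum)
    (hD : D ∈ [chevG2, chevB2, chevD4, chevF4, chevE6, chevE7, chevE8]) :
    D.monomialSubgroup F ≤ D.group F := by
  unfold ChevalleyDatum.monomialSubgroup
  apply sup_le (diagonal_le_group D hD)
  rw [Subgroup.closure_le]
  rintro g ⟨r, -, hg⟩
  exact mem_group_of_wordMat D hD _ g hg

/-- `B ≤ G`, `N ≤ G` and `B ⊔ N = G` for the Chevalley group `G` generated by all root elements. -/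
theorem result {F : Type*} [Field F] (D : Cfsg.Lie.ChevalleyDatum) (hD : D ∈ [Cfsg.Lie.chevG2, Cfsg.Lie.chevB2, Cfsg.Lie.chevD4, Cfsg.Lie.chevF4, Cfsg.Lie.chevE6, Cfsg.Lie.chevE7, Cfsg.Lie.chevE8]) :
    D.borelSubgroup F ≤ D.group F ∧ D.monomialSubgroup F ≤ D.group F ∧ D.borelSubgroup F ⊔ D.monomialSubgroup F = D.group F := by
  have hB : D.borelSubgroup F ≤ D.group F :=
    sup_le (posUnipotent_le_group D hD) (diagonal_le_group D hD)
  have hN := monomial_le_group (F := F) D hD
  refine ⟨hB, hN, le_antisymm (sup_le hB hN) ?_⟩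
  have hsign := signOK_of_mem D hD
  obtain ⟨n, hnN, hnV⟩ := Cfsg.Agent.S1053.result (F := F) D hD
  have hU : D.posUnipotent F ≤ D.borelSubgroup F ⊔ D.monomialSubgroup F :=
    le_trans le_sup_left le_sup_left
  have hV : D.negUnipotent F ≤ D.borelSubgroup F ⊔ D.monomialSubgroup F := by
    rw [← hnV]
    rintro _ ⟨u, hu, rfl⟩
    show n * u * n⁻¹ ∈ _
    have hn' : n ∈ D.borelSubgroup F ⊔ D.monomialSubgroup F := Subgroup.mem_sup_right hnN
    exact mul_mem (mul_mem hn' (hU hu)) (inv_mem hn')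
  unfold ChevalleyDatum.group
  rw [Subgroup.closure_le]
  rintro g ⟨r, t, hg⟩
  have hg' : (g : Matrix D.Idx D.Idx F) = D.x F r.1 t := by
    rw [hg]
    unfold ChevalleyDatum.x
    rw [dif_pos r.2]
  by_cases hr : D.nroots / 2 ≤ r.1
  · apply hU
    exact Subgroup.subset_closure ⟨r.1, t, isPosRoot_of_ge D hsign r.1 r.2 hr, hg'⟩
  · apply hV
    exact Subgroup.subset_closure ⟨r.1, t, isNegRoot_of_lt D hsign r.1 r.2 (by omega), hg'⟩

end Cfsg.Agent.S1043
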