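import Cfsg.Statements.S1025
import Cfsg.Agent.Lib.Helper18.CommAllG2
import Cfsg.Agent.Lib.Helper18.CommAllB2
import Cfsg.Agent.Lib.Helper18.CommAllD4
import Cfsg.Agent.Lib.Helper18.CommAllF4
import Cfsg.Agent.Lib.Helper18.CommAllE6
import Cfsg.Agent.Lib.Helper18.CommAllE7
import Cfsg.Agent.Lib.Helper18.CommAllE8
-- import your own Cfsg.Agent.* helpers here

set_option autoImplicit false
open Cfsg


namespace Cfsg.Agent.S1025

open Cfsg.Lie Cfsg.Agent.Lib.Helper18

/-- Chevalley's commutator formula: for roots `s ≠ ±r`, `x_s(u) x_r(t) = x_r(t) x_s(u) · ∏_{i,j>0} x_{ir+js}(C_{ijrs} (-t)^i u^j)`, the product (in order of increasing `i + j`) and the constants being those of `commWord`. -/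
theorem result {F : Type*} [Field F] (D : Cfsg.Lie.ChevalleyDatum) (hD : D ∈ [Cfsg.Lie.chevG2, Cfsg.Lie.chevB2, Cfsg.Lie.chevD4, Cfsg.Lie.chevF4, Cfsg.Lie.chevE6, Cfsg.Lie.chevE7, Cfsg.Lie.chevE8]) (r s : ℕ) (hr : r < D.nroots) (hs : s < D.nroots)
    (hrs : s ≠ r) (hneg : s ≠ D.neg r) (t u : F) :
    D.x F s u * D.x F r t = D.x F r t * D.x F s u * D.wordMat F (D.commWord F r s t u) := by
  have hneg' : s ≠ D.negIdx.getD r 0 := hneg
  clear hneg
  simp only [List.mem_cons, List.not_mem_nil, or_false] at hD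
  rcases hD with rfl | rfl | rfl | rfl | rfl | rfl | rfl
  · rw [fastG2.neg_eq chevG2 agree_G2 r hr] at hneg'
    exact commOK_G2 (F := F) r s hr hs hrs hneg' t u
  · rw [fastB2.neg_eq chevB2 agree_B2 r hr] at hneg'
    exact commOK_B2 (F := F) r s hr hs hrs hneg' t u
  · rw [fastD4.neg_eq chevD4 agree_D4 r hr] at hneg'
    exact commOK_D4 (F := F) r s hr hs hrs hneg' t u
  · rw [fastF4.neg_eq chevF4 agree_F4 r hr] at hneg'
    exact commOK_F4 (F := F) r s hr hs hrs hneg' t u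
  · rw [fastE6.neg_eq chevE6 agree_E6 r hr] at hneg'
    exact commOK_E6 (F := F) r s hr hs hrs hneg' t u
  · rw [fastE7.neg_eq chevE7 agree_E7 r hr] at hneg'
    exact commOK_E7 (F := F) r s hr hs hrs hneg' t u
  · rw [fastE8.neg_eq chevE8 agree_E8 r hr] at hneg'
    exact commOK_E8 (F := F) r s hr hs hrs hneg' t u

end Cfsg.Agent.S1025
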