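import Cfsg.Statements.S1037
-- import your own Cfsg.Agent.* helpers here
import Cfsg.Agent.Lib.Helper18.Borel

set_option autoImplicit false
open Cfsg

namespace Cfsg.Agent.S1037

open Cfsg.Lie Cfsg.Agent.Lib.Helper18 Cfsg.Agent.Lib.Helper17

/-- `UH ∩ V = 1` and `UH ∩ VH = H`. -/
theorem result {F : Type*} [Field F] (D : Cfsg.Lie.ChevalleyDatum) (hD : D ∈ [Cfsg.Lie.chevG2, Cfsg.Lie.chevB2, Cfsg.Lie.chevD4, Cfsg.Lie.chevF4, Cfsg.Lie.chevE6, Cfsg.Lie.chevE7, Cfsg.Lie.chevE8]) :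
    D.borelSubgroup F ⊓ D.negUnipotent F = ⊥ ∧
      D.borelSubgroup F ⊓ (D.negUnipotent F ⊔ D.diagonalSubgroup F) = D.diagonalSubgroup F := by
  constructor
  · rw [eq_bot_iff]
    rintro g ⟨hgB, hgV⟩
    rw [Subgroup.mem_bot]
    apply Units.ext
    rw [Units.val_one]
    exact eq_one_of_depth_of_depthRev D _ (depth_of_mem_borel D hD g hgB)
      (depth_of_mem_negUnipotent D hD g hgV)
  · apply le_antisymm
    · rintro g ⟨hgB, hgVH⟩
      obtain ⟨u, hu, h, hh, huh⟩ := (mem_borel_iff D hD g).mp hgB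
      obtain ⟨v, hv, h', hh', hvh⟩ := (mem_negBorel_iff D hD g).mp hgVH
      -- v = u * (h * h'⁻¹)
      have hk : h * h'⁻¹ ∈ D.diagonalSubgroup F := mul_mem hh (inv_mem hh')
      have hv' : v = u * (h * h'⁻¹) := by
        rw [← mul_assoc, huh, ← hvh, mul_assoc, mul_inv_cancel, mul_one]
      have hvB : v ∈ D.borelSubgroup F := by
        rw [hv']
        exact (mem_borel_iff D hD _).mpr ⟨u, hu, _, hk, rfl⟩
      have hv1 : (v : Matrix D.Idx D.Idx F) = 1 :=
        eq_one_of_depth_of_depthRev D _ (depth_of_mem_borel D hD v hvB)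
          (depth_of_mem_negUnipotent D hD v hv)
      have hv1' : v = 1 := by
        apply Units.ext
        rw [Units.val_one]
        exact hv1
      rw [← hvh, hv1', one_mul]
      exact hh'
    · intro g hg
      exact ⟨Subgroup.mem_sup_right hg, Subgroup.mem_sup_right hg⟩

end Cfsg.Agent.S1037
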