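import Cfsg.Statements.S1050
-- import your own Cfsg.Agent.* helpers here
import Cfsg.Agent.S1029
import Cfsg.Agent.Lib.Helper18.Borel

set_option autoImplicit false
open Cfsg

namespace Cfsg.Agent.S1050

open Cfsg.Lie Cfsg.Agent.Lib.Helper18 Cfsg.Agent.Lib.Helper17

/-- Elements of `H` commute. -/
theorem diagonal_comm {F : Type*} [Field F] (D : ChevalleyDatum)
    (hD : D ∈ [chevG2, chevB2, chevD4, chevF4, chevE6, chevE7, chevE8]) (h h' : GL D.Idx F)
    (hh : h ∈ D.diagonalSubgroup F) (hh' : h' ∈ D.diagonalSubgroup F) : h * h' = h' * h := by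
  obtain ⟨c, -, hc⟩ := Cfsg.Agent.S1034.mem_diagonalSubgroup_torus D hD h hh
  obtain ⟨c', -, hc'⟩ := Cfsg.Agent.S1034.mem_diagonalSubgroup_torus D hD h' hh'
  apply Units.ext
  rw [Units.val_mul, Units.val_mul, hc, hc', Matrix.diagonal_mul_diagonal, Matrix.diagonal_mul_diagonal]
  congr 1
  funext i
  exact mul_comm _ _

/-- Every element of `B` is a product `h u`. -/
theorem mem_borel_iff' {F : Type*} [Field F] (D : ChevalleyDatum)
    (hD : D ∈ [chevG2, chevB2, chevD4, chevF4, chevE6, chevE7, chevE8]) (g : GL D.Idx F) :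
    g ∈ D.borelSubgroup F ↔ ∃ h ∈ D.diagonalSubgroup F, ∃ u ∈ D.posUnipotent F, h * u = g := by
  have h1 := Subgroup.coe_mul_of_left_le_normalizer_right (D.diagonalSubgroup F) (D.posUnipotent F)
    (Cfsg.Agent.S1036.result D hD).1
  unfold ChevalleyDatum.borelSubgroup
  rw [sup_comm, ← SetLike.mem_coe, h1, Set.mem_mul]
  rfl

/-- `B = UH` is solvable (U nilpotent, H abelian, U ⊴ B). -/
theorem result {F : Type*} [Field F] (D : Cfsg.Lie.ChevalleyDatum) (hD : D ∈ [Cfsg.Lie.chevG2, Cfsg.Lie.chevB2, Cfsg.Lie.chevD4, Cfsg.Lie.chevF4, Cfsg.Lie.chevE6, Cfsg.Lie.chevE7, Cfsg.Lie.chevE8]) : Group.IsSolvable ↥(D.borelSubgroup F) := by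
  have hUB : D.posUnipotent F ≤ D.borelSubgroup F := le_sup_left
  have hHB : D.diagonalSubgroup F ≤ D.borelSubgroup F := le_sup_right
  have hnorm : ((D.posUnipotent F).subgroupOf (D.borelSubgroup F)).Normal := by
    rw [Subgroup.normal_subgroupOf_iff_le_normalizer hUB]
    exact sup_le Subgroup.le_normalizer (Cfsg.Agent.S1036.result D hD).1
  rw [Group.isSolvable_iff_subgroup_quotient ((D.posUnipotent F).subgroupOf (D.borelSubgroup F))]
  constructor
  · have hnil : Group.IsNilpotent (D.posUnipotent F) := Cfsg.Agent.S1029.result D hD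
    exact Group.isSolvable_of_isSolvable_injective (f := (Subgroup.subgroupOfEquivOfLe hUB).toMonoidHom)
      (Subgroup.subgroupOfEquivOfLe hUB).injective
  · apply Group.isSolvable_of_comm
    -- every class is the class of an element of `H`
    have key : ∀ x : ↥(D.borelSubgroup F), ∃ h : GL D.Idx F, ∃ hh : h ∈ D.diagonalSubgroup F,
        (QuotientGroup.mk x : ↥(D.borelSubgroup F) ⧸ (D.posUnipotent F).subgroupOf (D.borelSubgroup F))
          = QuotientGroup.mk ⟨h, hHB hh⟩ := by
      intro x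
      obtain ⟨h, hh, u, hu, hx⟩ := (mem_borel_iff' D hD x.1).mp x.2
      refine ⟨h, hh, ?_⟩
      rw [eq_comm, QuotientGroup.eq, Subgroup.mem_subgroupOf]
      have : ((⟨h, hHB hh⟩ : ↥(D.borelSubgroup F))⁻¹ * x : ↥(D.borelSubgroup F)).1 = u := by
        show h⁻¹ * x.1 = u
        rw [← hx, inv_mul_cancel_left]
      rw [this]
      exact hu
    intro a b
    induction a using QuotientGroup.induction_on with
    | H x =>
      induction b using QuotientGroup.induction_on with
      | H y =>
        obtain ⟨h, hh, hx⟩ := key x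
        obtain ⟨h', hh', hy⟩ := key y
        rw [hx, hy, ← QuotientGroup.mk_mul, ← QuotientGroup.mk_mul]
        congr 1
        apply Subtype.ext
        exact diagonal_comm D hD h h' hh hh'

end Cfsg.Agent.S1050
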