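import Cfsg.Statements.S1040
-- import your own Cfsg.Agent.* helpers here
import Cfsg.Agent.Lib.Helper18.NAll
import Cfsg.Agent.Lib.Helper18.Tri2
import Cfsg.Agent.S1038
import Cfsg.Agent.S1050

set_option autoImplicit false
open Cfsg

namespace Cfsg.Agent.S1040

open Cfsg.Lie Cfsg.Agent.Lib.Helper18 Cfsg.Agent.Lib.Helper17

variable {F : Type*} [Field F]

/-- The group of invertible block monomial matrices with block monomial inverse. -/
def bmSubgroup (D : ChevalleyDatum) (F : Type*) [Field F] : Subgroup (GL D.Idx F) where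
  carrier := {g | BMono D (g : Matrix D.Idx D.Idx F) ∧ BMono D ((g⁻¹ : GL D.Idx F) : Matrix D.Idx D.Idx F)}
  mul_mem' := by
    intro a b ha hb
    refine ⟨?_, ?_⟩
    · rw [Units.val_mul]; exact ha.1.mul hb.1
    · rw [mul_inv_rev, Units.val_mul]; exact hb.2.mul ha.2
  one_mem' := by
    refine ⟨?_, ?_⟩
    · rw [Units.val_one]; exact BMono.one
    · rw [inv_one, Units.val_one]; exact BMono.one
  inv_mem' := by
    intro a ha
    refine ⟨ha.2, ?_⟩
    rw [inv_inv]; exact ha.1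

theorem bMono_of_mem_diagonal (D : ChevalleyDatum)
    (hD : D ∈ [chevG2, chevB2, chevD4, chevF4, chevE6, chevE7, chevE8]) (h : GL D.Idx F)
    (hh : h ∈ D.diagonalSubgroup F) : BMono D (h : Matrix D.Idx D.Idx F) := by
  obtain ⟨c, -, hc⟩ := Cfsg.Agent.S1034.mem_diagonalSubgroup_torus D hD h hh
  rw [hc]
  exact BMono.diagonal _

theorem monomial_le_bm (D : ChevalleyDatum)
    (hD : D ∈ [chevG2, chevB2, chevD4, chevF4, chevE6, chevE7, chevE8]) :
    D.monomialSubgroup F ≤ bmSubgroup D F := by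
  obtain ⟨T, hag, hchk, hchk'⟩ := exists_ncert D hD
  unfold ChevalleyDatum.monomialSubgroup
  apply sup_le
  · intro h hh
    exact ⟨bMono_of_mem_diagonal D hD h hh, bMono_of_mem_diagonal D hD h⁻¹ (inv_mem hh)⟩
  · rw [Subgroup.closure_le]
    rintro n ⟨r, hr, hn⟩
    have hc := hchk r hr
    unfold FastDatum.hCheckRoot at hc
    rw [Bool.and_eq_true] at hc
    refine ⟨?_, ?_⟩
    · rw [hn]
      exact T.bMono_nMat D hag r hr hc.1 (hchk' r hr) 1 one_ne_zero
    · rw [Cfsg.Agent.S1038.coe_inv_of_nMat D hD r hr n hn]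
      exact T.bMono_nMat D hag r hr hc.1 (hchk' r hr) (-1) (by norm_num)

/-- `U ∩ N = 1` and `B ∩ N = UH ∩ N = H`. -/
theorem result {F : Type*} [Field F] (D : Cfsg.Lie.ChevalleyDatum) (hD : D ∈ [Cfsg.Lie.chevG2, Cfsg.Lie.chevB2, Cfsg.Lie.chevD4, Cfsg.Lie.chevF4, Cfsg.Lie.chevE6, Cfsg.Lie.chevE7, Cfsg.Lie.chevE8]) :
    D.posUnipotent F ⊓ D.monomialSubgroup F = ⊥ ∧ D.borelSubgroup F ⊓ D.monomialSubgroup F = D.diagonalSubgroup F := by
  have hUN : D.posUnipotent F ⊓ D.monomialSubgroup F = ⊥ := by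
    rw [eq_bot_iff]
    rintro g ⟨hgU, hgN⟩
    rw [Subgroup.mem_bot]
    obtain ⟨hbm, -⟩ := monomial_le_bm D hD hgN
    obtain ⟨h1, h2⟩ := posUnipotent_entries D hD g hgU
    apply Units.ext
    rw [Units.val_one]
    ext j k
    rcases k with i | s
    · rcases j with k | u
      · rw [h1 k i, Matrix.one_apply]
        simp
      · rw [hbm.1 u i, Matrix.one_apply_ne (by simp)]
    · obtain ⟨s', a, hs'⟩ := hbm.2 s
      have h3 := hs' (Sum.inr s)
      rw [h2 s] at h3
      have hss' : s = s' := by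
        by_contra hne
        rw [if_neg (by simpa using hne)] at h3
        exact one_ne_zero h3
      subst hss'
      rw [if_pos rfl] at h3
      rw [hs' j, ← h3, Matrix.one_apply]
  refine ⟨hUN, ?_⟩
  have hHN : D.diagonalSubgroup F ≤ D.monomialSubgroup F := le_sup_left
  apply le_antisymm
  · rintro g ⟨hgB, hgN⟩
    obtain ⟨h, hh, u, hu, hg⟩ := (Cfsg.Agent.S1050.mem_borel_iff' D hD g).mp hgB
    have huN : u ∈ D.monomialSubgroup F := by
      have : u = h⁻¹ * g := by rw [← hg, inv_mul_cancel_left]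
      rw [this]
      exact mul_mem (inv_mem (hHN hh)) hgN
    have hu1 : u ∈ D.posUnipotent F ⊓ D.monomialSubgroup F := ⟨hu, huN⟩
    rw [hUN, Subgroup.mem_bot] at hu1
    rw [← hg, hu1, mul_one]
    exact hh
  · intro g hg
    exact ⟨Subgroup.mem_sup_right hg, hHN hg⟩

end Cfsg.Agent.S1040
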