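import Cfsg.Statements.S1530
-- import your own Cfsg.Agent.* helpers here

import Cfsg.Agent.Lib.Helper26.SignLemma
import Cfsg.Agent.Lib.Helper26.IrrFactsInst
import Cfsg.Agent.Lib.Helper26.CohExt

set_option autoImplicit false
open Cfsg

namespace Cfsg.Agent.S1530

open Cfsg.Agent.Lib.Helper26
open scoped ComplexConjugate

/-- the arithmetic heart of the criterion -/
theorem arith {A a g c D : ℤ} (hA : 0 < A) (ha : 0 < a) (hg : 0 ≤ g) (hD : 2 * a * A ^ 2 < D)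
    (h : A ^ 2 = A ^ 2 * g + c ^ 2 * D - 2 * a * c * A ^ 2) :
    (c = 0 ∧ g = 1) ∨ (c = 1 ∧ g = 0 ∧ D = A ^ 2 * (1 + 2 * a)) := by
  have hA2 : 0 < A ^ 2 := by positivity
  by_cases hc0 : c = 0
  · left
    subst hc0
    refine ⟨rfl, ?_⟩
    have : A ^ 2 * (g - 1) = 0 := by linarith
    rcases mul_eq_zero.1 this with h' | h'
    · omega
    · omega
  by_cases hc1 : c = 1
  · right
    subst hc1
    have h1 : D = A ^ 2 * (1 + 2 * a - g) := by linarith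
    have h2 : 0 < A ^ 2 * (1 - g) := by nlinarith
    have h3 : 0 < 1 - g := by
      by_contra hneg
      have : A ^ 2 * (1 - g) ≤ 0 := mul_nonpos_of_nonneg_of_nonpos hA2.le (by omega)
      omega
    have hg0 : g = 0 := by omega
    subst hg0
    exact ⟨rfl, rfl, by linarith⟩
  · exfalso
    have hcc : 2 ≤ c * (c - 1) := by
      rcases lt_or_gt_of_ne hc0 with h' | h'
      · nlinarith
      · have : 2 ≤ c := by omega
        nlinarith
    have hc2 : 1 ≤ c ^ 2 := by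
      have : c ^ 2 ≠ 0 := pow_ne_zero 2 hc0
      have : 0 ≤ c ^ 2 := sq_nonneg c
      omega
    have h1 : c ^ 2 * (2 * a * A ^ 2 + 1) ≤ c ^ 2 * D := by
      apply mul_le_mul_of_nonneg_left _ (sq_nonneg c)
      omega
    have h2 : 0 ≤ A ^ 2 * g := by positivity
    have h3 : 2 * (2 * a * A ^ 2) ≤ (c * (c - 1)) * (2 * a * A ^ 2) := by
      apply mul_le_mul_of_nonneg_right hcc
      positivity
    have h4 : A ^ 2 ≤ a * A ^ 2 := by nlinarith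
    nlinarith


section main

universe u v

variable {G : Type u} [Group G] [Fintype G] {N : Type v} [Group N] [Fintype N]

/-- The core of the criterion, in terms of the data produced by the orthogonal decomposition. -/
theorem core (F : IrrFacts N) (F' : IrrFacts G) (S₀ : Finset (N → ℂ)) (χ : N → ℂ)
    (hirr : ∀ ξ ∈ S₀, IsIrrCharacter N ξ) (hχ : IsIrrCharacter N χ) (hχS : χ ∉ S₀)
    (d : (N → ℂ) → ℕ) (hd : ∀ ξ ∈ insert χ S₀, ξ 1 = (d ξ : ℂ)) (τ : (N → ℂ) → (G → ℂ))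
    (hτ : IsLinearIsometryOn (zspanOn (↑(insert χ S₀) : Set (N → ℂ)) {1}ᶜ) τ)
    (hτ1 : ∀ α ∈ zspanOn (↑(insert χ S₀) : Set (N → ℂ)) {1}ᶜ, τ α 1 = 0)
    (τ₁ : (N → ℂ) → (G → ℂ)) (hτ₁ : IsLinearIsometryOn (zspan (↑S₀ : Set (N → ℂ))) τ₁)
    (hagree : ∀ α ∈ zspanOn (↑S₀ : Set (N → ℂ)) {1}ᶜ, τ₁ α = τ α)
    (ψ : N → ℂ) (hψ : ψ ∈ S₀) (a : ℕ) (ha : d χ = d ψ * a)
    (hlt : 2 * d ψ * d χ < ∑ ξ ∈ S₀, d ξ ^ 2) :
    ∃ Γ : G → ℂ, IsGeneralizedCharacter G Γ ∧ classInner Γ Γ = 1 ∧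
      (∀ ξ ∈ S₀, classInner Γ (τ₁ ξ) = 0) ∧ τ (χ - a • ψ) = Γ - a • τ₁ ψ := by
  classical
  have hsub : (↑S₀ : Set (N → ℂ)) ⊆ ↑(insert χ S₀) := by
    intro x hx
    simp only [Finset.coe_insert, Set.mem_insert_iff, Finset.mem_coe] at hx ⊢
    exact Or.inr hx
  have hS : ∀ ξ ∈ insert χ S₀, IsIrrCharacter N ξ := by
    intro ξ hξ
    rcases Finset.mem_insert.1 hξ with rfl | h
    · exact hχ
    · exact hirr ξ h
  have hSset : ∀ ξ ∈ (↑(insert χ S₀) : Set (N → ℂ)), IsIrrCharacter N ξ :=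
    fun ξ hξ => hS ξ (Finset.mem_coe.1 hξ)
  have hdpos : ∀ ξ ∈ insert χ S₀, 0 < d ξ := by
    intro ξ hξ
    obtain ⟨n, hn, hn1⟩ := F.deg_pos ξ (hS ξ hξ)
    have h := hd ξ hξ
    rw [hn1] at h
    have : n = d ξ := by exact_mod_cast h
    omega
  have hψS : ψ ∈ insert χ S₀ := Finset.mem_insert_of_mem hψ
  have hχS' : χ ∈ insert χ S₀ := Finset.mem_insert_self _ _
  have hApos : 0 < d ψ := hdpos ψ hψS
  have hapos : 0 < a := by
    have := hdpos χ hχS'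
    rw [ha] at this
    rcases Nat.eq_zero_or_pos a with h0 | h0
    · subst h0; simp at this
    · exact h0
  -- inner products in `S`
  have horth : ∀ ξ ∈ insert χ S₀, ∀ η ∈ insert χ S₀, classInner ξ η = if ξ = η then 1 else 0 :=
    fun ξ hξ η hη => F.orthonormal ξ η (hS ξ hξ) (hS η hη)
  have hχne : ∀ ξ ∈ S₀, χ ≠ ξ := fun ξ hξ h => hχS (h ▸ hξ)
  have hχξ : ∀ ξ ∈ S₀, classInner χ ξ = 0 := by
    intro ξ hξ
    rw [horth χ hχS' ξ (Finset.mem_insert_of_mem hξ), if_neg (hχne ξ hξ)]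
  have hξχ : ∀ ξ ∈ S₀, classInner ξ χ = 0 := by
    intro ξ hξ
    rw [horth ξ (Finset.mem_insert_of_mem hξ) χ hχS', if_neg (Ne.symm (hχne ξ hξ))]
  -- the element `β`
  set β : N → ℂ := χ - a • ψ with hβdef
  have hβspan : β ∈ zspan (↑(insert χ S₀) : Set (N → ℂ)) :=
    zspan_sub (subset_zspan _ (Finset.mem_coe.2 hχS'))
      (zspan_nsmul a (subset_zspan _ (Finset.mem_coe.2 hψS)))
  have hβ1 : β 1 = 0 := by
    simp only [hβdef, Pi.sub_apply, Pi.smul_apply, hd χ hχS', hd ψ hψS, ha]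
    push_cast
    simp only [nsmul_eq_mul]
    ring
  have hβ : β ∈ zspanOn (↑(insert χ S₀) : Set (N → ℂ)) {1}ᶜ :=
    mem_zspanOn_compl_one.2 ⟨hβspan, hβ1⟩
  have hββ : classInner β β = 1 + (a : ℂ) ^ 2 := by
    simp only [hβdef, classInner_sub_left, classInner_sub_right, classInner_nsmul_left,
      classInner_nsmul_right, horth χ hχS' χ hχS', horth ψ hψS ψ hψS, hχξ ψ hψ, hξχ ψ hψ]
    simp only [if_true]
    ring
  -- its image
  set Θ : G → ℂ := τ β with hΘdef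
  have hΘgen : IsGeneralizedCharacter G Θ := isom_gen hτ hβ
  have hΘ1 : Θ 1 = 0 := hτ1 β hβ
  have hΘΘ : classInner Θ Θ = 1 + (a : ℂ) ^ 2 := by
    rw [hΘdef, isom_inner hτ hβ hβ, hββ]
  -- the orthonormal family `τ₁ ξ`
  have hfon : ∀ ξ ∈ S₀, ∀ η ∈ S₀, classInner (τ₁ ξ) (τ₁ η) = if ξ = η then 1 else 0 := by
    intro ξ hξ η hη
    rw [isom_inner hτ₁ (subset_zspan _ (Finset.mem_coe.2 hξ)) (subset_zspan _ (Finset.mem_coe.2 hη))]
    exact F.orthonormal ξ η (hirr ξ hξ) (hirr η hη)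
  have hfgen : ∀ ξ ∈ S₀, IsGeneralizedCharacter G (τ₁ ξ) :=
    fun ξ hξ => isom_gen hτ₁ (subset_zspan _ (Finset.mem_coe.2 hξ))
  obtain ⟨b, Γ, hΓgen, hΘeq, hb, hΓorth, hΓnorm⟩ := F'.exists_orth_decomp S₀ τ₁ hfon hfgen hΘgen
  obtain ⟨g, hg⟩ := F'.norm_nat hΓgen
  have hirr' : ∀ ξ ∈ (↑S₀ : Set (N → ℂ)), IsIrrCharacter N ξ :=
    fun ξ hξ => hirr ξ (Finset.mem_coe.1 hξ)
  -- the key relation between the coefficients
  have hrelC : ∀ ξ ∈ S₀, (d ψ : ℂ) * b ξ - d ξ * b ψ =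
      a * d ξ - (if ξ = ψ then (a : ℂ) * d ψ else 0) := by
    intro ξ hξ
    have hξS : ξ ∈ insert χ S₀ := Finset.mem_insert_of_mem hξ
    have hαmem : degDiff ξ ψ ∈ zspanOn (↑S₀ : Set (N → ℂ)) {1}ᶜ :=
      F.degDiff_mem_on hirr' (Finset.mem_coe.2 hξ) (Finset.mem_coe.2 hψ)
    have himg : τ (degDiff ξ ψ) = ψ 1 • τ₁ ξ - ξ 1 • τ₁ ψ :=
      (hagree _ hαmem).symm.trans
        (F.isom_degDiff hirr' hτ₁ (Finset.mem_coe.2 hξ) (Finset.mem_coe.2 hψ))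
    have hin : classInner Θ (τ (degDiff ξ ψ)) = classInner β (degDiff ξ ψ) :=
      isom_inner hτ hβ (zspanOn_mono _ hsub hαmem)
    rw [himg, classInner_sub_right, classInner_smul_right, classInner_smul_right, hb ξ hξ,
      hb ψ hψ, hd ψ hψS, hd ξ hξS] at hin
    simp only [Complex.conj_natCast] at hin
    rw [hin]
    simp only [degDiff, hβdef, classInner_sub_left, classInner_sub_right, classInner_nsmul_left,
      classInner_smul_right, hd ψ hψS, hd ξ hξS, Complex.conj_natCast, hχξ ξ hξ, hχξ ψ hψ,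
      horth ψ hψS ξ hξS, horth ψ hψS ψ hψS]
    by_cases h : ξ = ψ
    · subst h; simp
    · rw [if_neg h, if_neg (Ne.symm h)]; simp [mul_comm]
  -- cast to the integers
  set c : ℤ := a + b ψ with hcdef
  have hrelZ : ∀ ξ ∈ S₀, (d ψ : ℤ) * b ξ = c * d ξ - (if ξ = ψ then (a : ℤ) * d ψ else 0) := by
    intro ξ hξ
    have h := hrelC ξ hξ
    have h' : ((d ψ : ℤ) * b ξ - d ξ * b ψ : ℤ) =
        a * d ξ - (if ξ = ψ then (a : ℤ) * d ψ else 0) := by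
      have : (((d ψ : ℤ) * b ξ - d ξ * b ψ : ℤ) : ℂ) =
          ((a * d ξ - (if ξ = ψ then (a : ℤ) * d ψ else 0) : ℤ) : ℂ) := by
        push_cast
        rw [h]
      exact_mod_cast this
    rw [hcdef]
    linarith
  -- the norm identity over the integers
  have hnormZ : (g : ℤ) = 1 + (a : ℤ) ^ 2 - ∑ ξ ∈ S₀, (b ξ) ^ 2 := by
    have : ((g : ℤ) : ℂ) = ((1 + (a : ℤ) ^ 2 - ∑ ξ ∈ S₀, (b ξ) ^ 2 : ℤ) : ℂ) := by
      push_cast
      rw [← hg, hΓnorm, hΘΘ]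
    exact_mod_cast this
  set D : ℤ := ∑ ξ ∈ S₀, (d ξ : ℤ) ^ 2 with hDdef
  set A : ℤ := (d ψ : ℤ) with hAdef
  have hsumsq : A ^ 2 * ∑ ξ ∈ S₀, (b ξ) ^ 2 = c ^ 2 * D + a ^ 2 * A ^ 2 - 2 * a * c * A ^ 2 := by
    rw [Finset.mul_sum]
    have hterm : ∀ ξ ∈ S₀, A ^ 2 * (b ξ) ^ 2 =
        c ^ 2 * (d ξ : ℤ) ^ 2 + (if ξ = ψ then (a : ℤ) ^ 2 * A ^ 2 - 2 * a * c * A ^ 2 else 0) := by
      intro ξ hξ
      have h := hrelZ ξ hξ
      have : A ^ 2 * (b ξ) ^ 2 = (A * b ξ) ^ 2 := by ring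
      rw [this, h]
      by_cases hξψ : ξ = ψ
      · subst hξψ
        simp only [if_true]
        ring
      · simp only [if_neg hξψ]
        ring
    rw [Finset.sum_congr rfl hterm, Finset.sum_add_distrib, ← Finset.mul_sum,
      Finset.sum_ite_eq' S₀ ψ, if_pos hψ]
    ring
  have hmain : A ^ 2 = A ^ 2 * g + c ^ 2 * D - 2 * a * c * A ^ 2 := by
    have : A ^ 2 * (g : ℤ) = A ^ 2 * (1 + (a : ℤ) ^ 2) - A ^ 2 * ∑ ξ ∈ S₀, (b ξ) ^ 2 := by
      rw [hnormZ]; ring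
    rw [hsumsq] at this
    linarith
  have hDlt : 2 * (a : ℤ) * A ^ 2 < D := by
    have : ((2 * d ψ * d χ : ℕ) : ℤ) < ((∑ ξ ∈ S₀, d ξ ^ 2 : ℕ) : ℤ) := by exact_mod_cast hlt
    rw [ha] at this
    push_cast at this
    rw [hDdef, hAdef]
    linarith
  have hApos' : (0 : ℤ) < A := by rw [hAdef]; exact_mod_cast hApos
  have hcases := arith hApos' (by exact_mod_cast hapos : (0 : ℤ) < a)
    (by positivity : (0 : ℤ) ≤ g) hDlt hmain
  rcases hcases with ⟨hc0, hg1⟩ | ⟨hc1, hg0, hDeq⟩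
  · -- the good case
    have hbψ : b ψ = -(a : ℤ) := by
      have h := hrelZ ψ hψ
      rw [hc0, if_pos rfl] at h
      have : A * (b ψ + a) = 0 := by rw [hAdef]; linarith
      rcases mul_eq_zero.1 this with h' | h'
      · omega
      · omega
    have hbξ : ∀ ξ ∈ S₀, ξ ≠ ψ → b ξ = 0 := by
      intro ξ hξ hne
      have h := hrelZ ξ hξ
      rw [hc0, if_neg hne] at h
      have : A * b ξ = 0 := by rw [hAdef]; linarith
      rcases mul_eq_zero.1 this with h' | h'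
      · omega
      · exact h'
    refine ⟨Γ, hΓgen, ?_, hΓorth, ?_⟩
    · rw [hg]
      have : g = 1 := by exact_mod_cast hg1
      rw [this]; simp
    · rw [hΘeq, Finset.sum_eq_single ψ (fun ξ hξ hne => by rw [hbξ ξ hξ hne, zero_smul])
        (fun h => absurd hψ h), hbψ]
      rw [neg_smul, natCast_zsmul, sub_eq_add_neg]
  · -- the bad case: contradiction with the degrees
    exfalso
    have hΓ0 : Γ = 0 := by
      apply classInner_self_eq_zero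
      rw [hg]
      have : g = 0 := by exact_mod_cast hg0
      rw [this]; simp
    -- the value of `τ₁ ψ` at `1`
    obtain ⟨μ, hμ, hμeq⟩ := isom_irr_or_neg F F' hirr' hτ₁ (Finset.mem_coe.2 hψ)
    obtain ⟨n, hn, hn1⟩ := F'.deg_pos μ hμ
    have ht : τ₁ ψ 1 ≠ 0 := by
      have hn0 : (n : ℂ) ≠ 0 := by exact_mod_cast hn.ne'
      rcases hμeq with h | h
      · rw [h, hn1]; exact hn0
      · rw [h, Pi.neg_apply, hn1]; exact neg_ne_zero.2 hn0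
    -- proportionality of the degrees
    have hprop : ∀ ξ ∈ S₀, (A : ℂ) * τ₁ ξ 1 = d ξ * τ₁ ψ 1 := by
      intro ξ hξ
      have hξS : ξ ∈ insert χ S₀ := Finset.mem_insert_of_mem hξ
      have hαmem : degDiff ξ ψ ∈ zspanOn (↑S₀ : Set (N → ℂ)) {1}ᶜ :=
        F.degDiff_mem_on hirr' (Finset.mem_coe.2 hξ) (Finset.mem_coe.2 hψ)
      have himg : τ (degDiff ξ ψ) = ψ 1 • τ₁ ξ - ξ 1 • τ₁ ψ :=
        (hagree _ hαmem).symm.trans
          (F.isom_degDiff hirr' hτ₁ (Finset.mem_coe.2 hξ) (Finset.mem_coe.2 hψ))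
      have h1 := hτ1 _ (zspanOn_mono _ hsub hαmem)
      rw [himg, hd ψ hψS, hd ξ hξS] at h1
      simp only [Pi.sub_apply, Pi.smul_apply, smul_eq_mul] at h1
      rw [hAdef]
      push_cast
      linear_combination h1
    have hsum0 : ∑ ξ ∈ S₀, (b ξ : ℂ) * τ₁ ξ 1 = 0 := by
      have h := congrFun hΘeq 1
      rw [hΘ1, hΓ0] at h
      simp only [Pi.add_apply, Pi.zero_apply, zero_add, Finset.sum_apply, zsmul_eq_mul] at h
      exact h.symm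
    have hterm : ∀ ξ ∈ S₀, (A : ℂ) ^ 2 * ((b ξ : ℂ) * τ₁ ξ 1) =
        (d ξ : ℂ) ^ 2 * τ₁ ψ 1 + (if ξ = ψ then -((a : ℂ) * A ^ 2 * τ₁ ψ 1) else 0) := by
      intro ξ hξ
      have h1 : ((A * b ξ : ℤ) : ℂ) = ((c * d ξ - (if ξ = ψ then (a : ℤ) * d ψ else 0) : ℤ) : ℂ) := by
        rw [hAdef, hrelZ ξ hξ]
      rw [hc1] at h1
      push_cast at h1
      have h2 := hprop ξ hξ
      have : (A : ℂ) ^ 2 * ((b ξ : ℂ) * τ₁ ξ 1) = ((A : ℂ) * b ξ) * ((A : ℂ) * τ₁ ξ 1) := by ring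
      rw [this, h1, h2]
      by_cases hξψ : ξ = ψ
      · subst hξψ
        simp only [if_true, hAdef]
        push_cast
        ring
      · simp only [if_neg hξψ]
        ring
    have hfinal : (A : ℂ) ^ 2 * ∑ ξ ∈ S₀, (b ξ : ℂ) * τ₁ ξ 1 =
        τ₁ ψ 1 * ((D : ℂ) - a * A ^ 2) := by
      rw [Finset.mul_sum, Finset.sum_congr rfl hterm, Finset.sum_add_distrib, ← Finset.sum_mul,
        Finset.sum_ite_eq' S₀ ψ, if_pos hψ, hDdef]
      push_cast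
      ring
    rw [hsum0, mul_zero, hDeq] at hfinal
    push_cast at hfinal
    have hne : τ₁ ψ 1 * ((A : ℂ) ^ 2 * (1 + 2 * a) - a * A ^ 2) ≠ 0 := by
      apply mul_ne_zero ht
      have : (A : ℂ) ^ 2 * (1 + 2 * a) - a * A ^ 2 = ((A ^ 2 * (1 + a) : ℤ) : ℂ) := by
        push_cast; ring
      rw [this]
      have : A ^ 2 * (1 + (a : ℤ)) ≠ 0 := by positivity
      exact_mod_cast this
    exact hne hfinal.symm

/-- Gluing: from the element `Γ` to the coherence of the enlarged set. -/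
theorem glue (F : IrrFacts N) (F' : IrrFacts G) (S₀ : Finset (N → ℂ)) (χ : N → ℂ)
    (hirr : ∀ ξ ∈ S₀, IsIrrCharacter N ξ) (hχ : IsIrrCharacter N χ) (hχS : χ ∉ S₀)
    (τ : (N → ℂ) → (G → ℂ))
    (hτ : IsLinearIsometryOn (zspanOn (↑(insert χ S₀) : Set (N → ℂ)) {1}ᶜ) τ)
    (τ₁ : (N → ℂ) → (G → ℂ)) (hτ₁ : IsLinearIsometryOn (zspan (↑S₀ : Set (N → ℂ))) τ₁)
    (hagree : ∀ α ∈ zspanOn (↑S₀ : Set (N → ℂ)) {1}ᶜ, τ₁ α = τ α)
    (ψ : N → ℂ) (hψ : ψ ∈ S₀) (a : ℕ) (hβ1 : (χ - a • ψ) 1 = 0)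
    (Γ : G → ℂ) (hΓgen : IsGeneralizedCharacter G Γ) (hΓnorm : classInner Γ Γ = 1)
    (hΓorth : ∀ ξ ∈ S₀, classInner Γ (τ₁ ξ) = 0) (hτβ : τ (χ - a • ψ) = Γ - a • τ₁ ψ) :
    ∃ τ₂ : (N → ℂ) → (G → ℂ), IsLinearIsometryOn (zspan (↑(insert χ S₀) : Set (N → ℂ))) τ₂ ∧
      ∀ α ∈ zspanOn (↑(insert χ S₀) : Set (N → ℂ)) {1}ᶜ, τ₂ α = τ α := by
  classical
  have hsub : (↑S₀ : Set (N → ℂ)) ⊆ ↑(insert χ S₀) := by
    intro x hx
    simp only [Finset.coe_insert, Set.mem_insert_iff, Finset.mem_coe] at hx ⊢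
    exact Or.inr hx
  have hS : ∀ ξ ∈ insert χ S₀, IsIrrCharacter N ξ := by
    intro ξ hξ
    rcases Finset.mem_insert.1 hξ with rfl | h
    · exact hχ
    · exact hirr ξ h
  have hSset : ∀ ξ ∈ (↑(insert χ S₀) : Set (N → ℂ)), IsIrrCharacter N ξ :=
    fun ξ hξ => hS ξ (Finset.mem_coe.1 hξ)
  have hψS : ψ ∈ insert χ S₀ := Finset.mem_insert_of_mem hψ
  have hχS' : χ ∈ insert χ S₀ := Finset.mem_insert_self _ _
  have hχne : ∀ ξ ∈ S₀, ξ ≠ χ := fun ξ hξ h => hχS (h ▸ hξ)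
  have horth : ∀ ξ ∈ insert χ S₀, ∀ η ∈ insert χ S₀, classInner ξ η = if ξ = η then 1 else 0 :=
    fun ξ hξ η hη => F.orthonormal ξ η (hS ξ hξ) (hS η hη)
  -- the new map on the generators
  set f : (N → ℂ) → (G → ℂ) := fun ξ => if ξ = χ then Γ else τ₁ ξ with hfdef
  have hfχ : f χ = Γ := by simp [hfdef]
  have hfξ : ∀ ξ ∈ S₀, f ξ = τ₁ ξ := by
    intro ξ hξ
    simp [hfdef, hχne ξ hξ]
  have hfon₀ : ∀ ξ ∈ S₀, ∀ η ∈ S₀, classInner (τ₁ ξ) (τ₁ η) = if ξ = η then 1 else 0 := by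
    intro ξ hξ η hη
    rw [isom_inner hτ₁ (subset_zspan _ (Finset.mem_coe.2 hξ)) (subset_zspan _ (Finset.mem_coe.2 hη))]
    exact F.orthonormal ξ η (hirr ξ hξ) (hirr η hη)
  have hfon : ∀ ξ ∈ insert χ S₀, ∀ η ∈ insert χ S₀,
      classInner (f ξ) (f η) = if ξ = η then 1 else 0 := by
    intro ξ hξ η hη
    rcases Finset.mem_insert.1 hξ with rfl | hξ'
    · rcases Finset.mem_insert.1 hη with rfl | hη'
      · rw [hfχ, hΓnorm, if_pos rfl]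
      · rw [hfχ, hfξ η hη', hΓorth η hη', if_neg (Ne.symm (hχne η hη'))]
    · rcases Finset.mem_insert.1 hη with rfl | hη'
      · rw [hfχ, hfξ ξ hξ', ← classInner_conj_symm, hΓorth ξ hξ', if_neg (hχne ξ hξ')]
        simp
      · rw [hfξ ξ hξ', hfξ η hη', hfon₀ ξ hξ' η hη']
  have hfgen : ∀ ξ ∈ insert χ S₀, IsGeneralizedCharacter G (f ξ) := by
    intro ξ hξ
    rcases Finset.mem_insert.1 hξ with rfl | hξ'
    · rw [hfχ]; exact hΓgen
    · rw [hfξ ξ hξ']; exact isom_gen hτ₁ (subset_zspan _ (Finset.mem_coe.2 hξ'))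
  refine ⟨extMap (insert χ S₀) f, extMap_isometry F F' hS hfon hfgen, ?_⟩
  -- the element β
  set β : N → ℂ := χ - a • ψ with hβdef
  have hβspan : β ∈ zspan (↑(insert χ S₀) : Set (N → ℂ)) :=
    zspan_sub (subset_zspan _ (Finset.mem_coe.2 hχS'))
      (zspan_nsmul a (subset_zspan _ (Finset.mem_coe.2 hψS)))
  have hβ : β ∈ zspanOn (↑(insert χ S₀) : Set (N → ℂ)) {1}ᶜ :=
    mem_zspanOn_compl_one.2 ⟨hβspan, hβ1⟩
  have hβχ : classInner β χ = 1 := by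
    rw [hβdef, classInner_sub_left, classInner_nsmul_left, horth χ hχS' χ hχS',
      horth ψ hψS χ hχS', if_pos rfl, if_neg (hχne ψ hψ)]
    ring
  have hextβ : extMap (insert χ S₀) f β = Γ - a • τ₁ ψ := by
    have hβ' : β = χ + (-(a : ℤ)) • ψ := by
      rw [hβdef, neg_smul, natCast_zsmul, sub_eq_add_neg]
    rw [hβ', extMap_add, extMap_zsmul, extMap_apply_mem F hS f hχS', extMap_apply_mem F hS f hψS,
      hfχ, hfξ ψ hψ, neg_smul, natCast_zsmul, sub_eq_add_neg]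
  intro α hα
  obtain ⟨hαspan, hα1⟩ := mem_zspanOn_compl_one.1 hα
  obtain ⟨m, hm, -⟩ := F.zspan_inner_int hSset hαspan hχ
  set α' : N → ℂ := α - m • β with hα'def
  have hα'span : α' ∈ zspan (↑(insert χ S₀) : Set (N → ℂ)) :=
    zspan_sub hαspan (zspan_zsmul m hβspan)
  have hα'1 : α' 1 = 0 := by
    simp only [hα'def, Pi.sub_apply, Pi.smul_apply, hα1, hβ1]
    simp
  have hα'χ : classInner α' χ = 0 := by
    rw [hα'def, classInner_sub_left, classInner_zsmul_left, hm, hβχ]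
    ring
  -- `α'` lies in the span of `S₀`
  have hα'eq : α' = ∑ ξ ∈ S₀, classInner α' ξ • ξ := by
    have h := F.zspan_eq_sum hS hα'span
    rw [Finset.sum_insert hχS, hα'χ, zero_smul, zero_add] at h
    exact h
  have hα'span₀ : α' ∈ zspan (↑S₀ : Set (N → ℂ)) := by
    rw [hα'eq]
    apply zspan_sum
    intro ξ hξ
    obtain ⟨k, hk, -⟩ := F.zspan_inner_int hSset hα'span (hirr ξ hξ)
    rw [hk]
    exact zspan_intCast_smul k (subset_zspan _ (Finset.mem_coe.2 hξ))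
  have hα'on₀ : α' ∈ zspanOn (↑S₀ : Set (N → ℂ)) {1}ᶜ :=
    mem_zspanOn_compl_one.2 ⟨hα'span₀, hα'1⟩
  have hα'on : α' ∈ zspanOn (↑(insert χ S₀) : Set (N → ℂ)) {1}ᶜ := zspanOn_mono _ hsub hα'on₀
  have hαdecomp : α = α' + m • β := by rw [hα'def]; abel
  -- compute both sides
  have hτα : τ α = τ₁ α' + m • (Γ - a • τ₁ ψ) := by
    rw [hαdecomp, isom_add hτ hα'on (zspanOn_zsmul m hβ), isom_zsmul hτ m hβ, hτβ,
      hagree α' hα'on₀]
  have hextα' : extMap (insert χ S₀) f α' = τ₁ α' := by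
    rw [isom_eq_extMap F hirr hτ₁ hα'span₀]
    unfold extMap
    rw [Finset.sum_insert hχS, hα'χ, zero_smul, zero_add]
    apply Finset.sum_congr rfl
    intro ξ hξ
    rw [hfξ ξ hξ]
  rw [hτα]
  conv_lhs => rw [hαdecomp]
  rw [extMap_add, extMap_zsmul, hextβ, hextα']

end main

/-- Let N be a subgroup of the finite group G and S₀ a finite set of irreducible characters of N, χ an irreducible character of N not in S₀, with degrees ξ 1 = d ξ. Let τ be a linear isometry on the integer combinations of S₀ ∪ {χ} vanishing at 1, with values virtual characters of G vanishing at 1, such that (S₀, N minus 1, τ) is coherent. If some ψ ∈ S₀ has d ψ dividing d χ and 2 · d ψ · d χ < Σ_{ξ ∈ S₀} (d ξ)², then (S₀ ∪ {χ}, N minus 1, τ) is coherent. -/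
theorem result {G : Type*} [Group G] [Fintype G] (N : Subgroup G) [Fintype N] (S₀ : Finset (N → ℂ)) (χ : N → ℂ) (hirr : ∀ ξ ∈ S₀, Cfsg.IsIrrCharacter N ξ) (hχ : Cfsg.IsIrrCharacter N χ) (hχS : χ ∉ S₀) (d : (N → ℂ) → ℕ) (hd : ∀ ξ ∈ insert χ S₀, ξ 1 = (d ξ : ℂ)) (τ : (N → ℂ) → (G → ℂ)) (hτ : Cfsg.IsLinearIsometryOn (Cfsg.zspanOn (↑(insert χ S₀) : Set (N → ℂ)) {1}ᶜ) τ) (hτ1 : ∀ α ∈ Cfsg.zspanOn (↑(insert χ S₀) : Set (N → ℂ)) {1}ᶜ, τ α 1 = 0) (hcoh : Cfsg.IsCoherent (↑S₀ : Set (N → ℂ)) {1}ᶜ τ) (ψ : N → ℂ) (hψ : ψ ∈ S₀) (hdvd : d ψ ∣ d χ) (hlt : 2 * d ψ * d χ < ∑ ξ ∈ S₀, d ξ ^ 2) : Cfsg.IsCoherent (↑(insert χ S₀) : Set (N → ℂ)) {1}ᶜ τ := by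
  classical
  have F := irrFacts N
  have F' := irrFacts G
  obtain ⟨⟨α₀, hα₀, hα₀ne⟩, τ₁, hτ₁, hagree⟩ := hcoh
  have hsub : (↑S₀ : Set (N → ℂ)) ⊆ ↑(insert χ S₀) := by
    intro x hx
    simp only [Finset.coe_insert, Set.mem_insert_iff, Finset.mem_coe] at hx ⊢
    exact Or.inr hx
  refine ⟨⟨α₀, zspanOn_mono _ hsub hα₀, hα₀ne⟩, ?_⟩
  obtain ⟨a, ha⟩ := hdvd
  obtain ⟨Γ, hΓgen, hΓnorm, hΓorth, hτβ⟩ := core F F' S₀ χ hirr hχ hχS d hd τ hτ hτ1 τ₁ hτ₁ hagree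
    ψ hψ a ha hlt
  have hβ1 : (χ - a • ψ) 1 = 0 := by
    simp only [Pi.sub_apply, Pi.smul_apply, hd χ (Finset.mem_insert_self _ _),
      hd ψ (Finset.mem_insert_of_mem hψ), ha]
    push_cast
    simp only [nsmul_eq_mul]
    ring
  exact glue F F' S₀ χ hirr hχ hχS τ hτ τ₁ hτ₁ hagree ψ hψ a hβ1 Γ hΓgen hΓnorm hΓorth hτβ

end Cfsg.Agent.S1530
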