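import Cfsg.Statements.S1531
-- import your own Cfsg.Agent.* helpers here

import Cfsg.Agent.Lib.Helper26.SignLemma
import Cfsg.Agent.Lib.Helper26.IrrFactsInst
import Cfsg.Agent.Lib.Helper26.CohExt

set_option autoImplicit false
set_option linter.unusedSectionVars false
open Cfsg

namespace Cfsg.Agent.S1531

open Cfsg.Agent.Lib.Helper26
open scoped ComplexConjugate

section main

universe u v

variable {G : Type u} [Group G] [Fintype G] {N : Type v} [Group N] [Fintype N]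

/-- two "degree differences" of irreducible characters sharing their first member are not
orthogonal -/
theorem not_orth (F' : IrrFacts G) {μ μ' ν' : G → ℂ} (hμ : IsIrrCharacter G μ)
    (hμ' : IsIrrCharacter G μ') (hν' : IsIrrCharacter G ν') (h1 : μ ≠ μ') (h2 : μ ≠ ν')
    {n n' m m' : ℕ} (hn : 0 < n) (hn' : 0 < n') (hm : 0 < m) (hm' : 0 < m') :
    classInner (n' • μ - n • μ') (m' • μ - m • ν') ≠ 0 := by
  classical
  have key : classInner (n' • μ - n • μ') (m' • μ - m • ν') =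
      (n' : ℂ) * m' + (n : ℂ) * m * (if μ' = ν' then 1 else 0) := by
    simp only [classInner_sub_left, classInner_sub_right, classInner_nsmul_left,
      classInner_nsmul_right, F'.orthonormal μ μ hμ hμ, F'.orthonormal μ ν' hμ hν',
      F'.orthonormal μ' μ hμ' hμ, F'.orthonormal μ' ν' hμ' hν', if_neg h2,
      if_neg (Ne.symm h1)]
    simp only [if_true]
    ring
  rw [key]
  by_cases h : μ' = ν'
  · rw [if_pos h]
    have : ((n' : ℂ) * m' + (n : ℂ) * m * 1) = ((n' * m' + n * m : ℕ) : ℂ) := by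
      push_cast; ring
    rw [this]
    have : n' * m' + n * m ≠ 0 := by positivity
    exact_mod_cast this
  · rw [if_neg h]
    have : ((n' : ℂ) * m' + (n : ℂ) * m * 0) = ((n' * m' : ℕ) : ℂ) := by
      push_cast; ring
    rw [this]
    have : n' * m' ≠ 0 := by positivity
    exact_mod_cast this

/-- first part: the two extensions are orthogonal -/
theorem part1 (F : IrrFacts N) (F' : IrrFacts G) (S X Y : Set (N → ℂ))
    (hirr : ∀ ξ ∈ S, IsIrrCharacter N ξ) (hXS : X ⊆ S) (hYS : Y ⊆ S) (hXY : Disjoint X Y)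
    (hX2 : ∃ a ∈ X, ∃ b ∈ X, a ≠ b) (hY2 : ∃ a ∈ Y, ∃ b ∈ Y, a ≠ b)
    (α : (N → ℂ) → (G → ℂ)) (hα : IsLinearIsometryOn (zspanOn S {1}ᶜ) α)
    (hα1 : ∀ θ ∈ zspanOn S {1}ᶜ, α θ 1 = 0) (σ τ : (N → ℂ) → (G → ℂ))
    (hσ : IsLinearIsometryOn (zspan X) σ) (hσα : ∀ θ ∈ zspanOn X {1}ᶜ, σ θ = α θ)
    (hτ : IsLinearIsometryOn (zspan Y) τ) (hτα : ∀ θ ∈ zspanOn Y {1}ᶜ, τ θ = α θ) :
    ∀ χ ∈ X, ∀ η ∈ Y, classInner (σ χ) (τ η) = 0 := by
  classical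
  have hirrX : ∀ ξ ∈ X, IsIrrCharacter N ξ := fun ξ h => hirr ξ (hXS h)
  have hirrY : ∀ ξ ∈ Y, IsIrrCharacter N ξ := fun ξ h => hirr ξ (hYS h)
  have hXYorth : ∀ ξ ∈ X, ∀ ζ ∈ Y, classInner ξ ζ = 0 := by
    intro ξ hξ ζ hζ
    rw [F.orthonormal ξ ζ (hirrX ξ hξ) (hirrY ζ hζ), if_neg]
    rintro rfl
    exact Set.disjoint_left.1 hXY hξ hζ
  have h0σ : ∀ θ ∈ zspan X, θ 1 = 0 → σ θ 1 = 0 := by
    intro θ hθ h1
    have hm : θ ∈ zspanOn X {1}ᶜ := mem_zspanOn_compl_one.2 ⟨hθ, h1⟩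
    rw [hσα θ hm]
    exact hα1 θ (zspanOn_mono _ hXS hm)
  have h0τ : ∀ θ ∈ zspan Y, θ 1 = 0 → τ θ 1 = 0 := by
    intro θ hθ h1
    have hm : θ ∈ zspanOn Y {1}ᶜ := mem_zspanOn_compl_one.2 ⟨hθ, h1⟩
    rw [hτα θ hm]
    exact hα1 θ (zspanOn_mono _ hYS hm)
  obtain ⟨ε, hε, hεirr, hεinj⟩ := sign_lemma F F' X hirrX hX2 σ hσ h0σ
  obtain ⟨δ, hδ, hδirr, hδinj⟩ := sign_lemma F F' Y hirrY hY2 τ hτ h0τ
  have hε0 : ε ≠ 0 := by rcases hε with h | h <;> rw [h] <;> norm_num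
  have hδ0 : δ ≠ 0 := by rcases hδ with h | h <;> rw [h] <;> norm_num
  have hδc : conj δ ≠ 0 := by rcases hδ with h | h <;> rw [h] <;> norm_num
  intro χ hχ η hη
  by_contra hne
  obtain ⟨χ', hχ', hχne⟩ : ∃ χ' ∈ X, χ' ≠ χ := by
    obtain ⟨a, ha, b, hb, hab⟩ := hX2
    by_cases h : a = χ
    · exact ⟨b, hb, fun hb' => hab (h.trans hb'.symm)⟩
    · exact ⟨a, ha, h⟩
  obtain ⟨η', hη', hηne⟩ : ∃ η' ∈ Y, η' ≠ η := by
    obtain ⟨a, ha, b, hb, hab⟩ := hY2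
    by_cases h : a = η
    · exact ⟨b, hb, fun hb' => hab (h.trans hb'.symm)⟩
    · exact ⟨a, ha, h⟩
  have hμν : ε • σ χ = δ • τ η := by
    by_contra h
    have h0 := F'.orthonormal _ _ (hεirr χ hχ) (hδirr η hη)
    rw [if_neg h, classInner_smul_left, classInner_smul_right] at h0
    rcases mul_eq_zero.1 h0 with h' | h'
    · exact hε0 h'
    · rcases mul_eq_zero.1 h' with h'' | h''
      · exact hδc h''
      · exact hne h''
  have hμμ' : ε • σ χ ≠ ε • σ χ' := by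
    intro h
    have h2 : σ χ = σ χ' := by
      have := congrArg (fun f => ε⁻¹ • f) h
      simpa [smul_smul, inv_mul_cancel₀ hε0] using this
    exact hχne (hεinj χ hχ χ' hχ' h2).symm
  have hνν' : δ • τ η ≠ δ • τ η' := by
    intro h
    have h2 : τ η = τ η' := by
      have := congrArg (fun f => δ⁻¹ • f) h
      simpa [smul_smul, inv_mul_cancel₀ hδ0] using this
    exact hηne (hδinj η hη η' hη' h2).symm
  obtain ⟨n, hn, hn1⟩ := F.deg_pos χ (hirrX χ hχ)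
  obtain ⟨n', hn', hn'1⟩ := F.deg_pos χ' (hirrX χ' hχ')
  obtain ⟨m, hm, hm1⟩ := F.deg_pos η (hirrY η hη)
  obtain ⟨m', hm', hm'1⟩ := F.deg_pos η' (hirrY η' hη')
  have hx : degDiff χ χ' ∈ zspanOn X {1}ᶜ := F.degDiff_mem_on hirrX hχ hχ'
  have hy : degDiff η η' ∈ zspanOn Y {1}ᶜ := F.degDiff_mem_on hirrY hη hη'
  have hσx : α (degDiff χ χ') = χ' 1 • σ χ - χ 1 • σ χ' :=
    (hσα _ hx).symm.trans (F.isom_degDiff hirrX hσ hχ hχ')
  have hτy : α (degDiff η η') = η' 1 • τ η - η 1 • τ η' :=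
    (hτα _ hy).symm.trans (F.isom_degDiff hirrY hτ hη hη')
  have hxy : classInner (degDiff χ χ') (degDiff η η') = 0 := by
    simp only [degDiff, classInner_sub_left, classInner_sub_right, classInner_smul_left,
      classInner_smul_right, hXYorth χ hχ η hη, hXYorth χ hχ η' hη', hXYorth χ' hχ' η hη,
      hXYorth χ' hχ' η' hη']
    ring
  have hin := isom_inner hα (zspanOn_mono _ hXS hx) (zspanOn_mono _ hYS hy)
  rw [hxy, hσx, hτy] at hin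
  have e1 : n' • (ε • σ χ) - n • (ε • σ χ') = ε • (χ' 1 • σ χ - χ 1 • σ χ') := by
    rw [← Nat.cast_smul_eq_nsmul ℂ n', ← Nat.cast_smul_eq_nsmul ℂ n]
    ext g
    simp only [Pi.sub_apply, Pi.smul_apply, smul_eq_mul, hn1, hn'1]
    ring
  have e2 : m' • (ε • σ χ) - m • (δ • τ η') = δ • (η' 1 • τ η - η 1 • τ η') := by
    rw [hμν, ← Nat.cast_smul_eq_nsmul ℂ m', ← Nat.cast_smul_eq_nsmul ℂ m]
    ext g
    simp only [Pi.sub_apply, Pi.smul_apply, smul_eq_mul, hm1, hm'1]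
    ring
  have hbad := not_orth F' (hεirr χ hχ) (hεirr χ' hχ') (hδirr η' hη') hμμ'
    (by rw [hμν]; exact hνν') hn hn' hm hm'
  apply hbad
  rw [e1, e2, classInner_smul_left, classInner_smul_right, hin]
  ring

/-- values at `1` of integer combinations of irreducible characters are integers -/
theorem zspan_apply_one_int (F : IrrFacts N) {S : Set (N → ℂ)}
    (hS : ∀ ξ ∈ S, IsIrrCharacter N ξ) {θ : N → ℂ} (hθ : θ ∈ zspan S) : ∃ k : ℤ, θ 1 = k := by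
  have key : ∀ θ ∈ Submodule.span ℤ S, ∃ k : ℤ, θ 1 = k := by
    intro θ hθ
    induction hθ using Submodule.span_induction with
    | mem x hx =>
      obtain ⟨n, _, hn1⟩ := F.deg_pos x (hS x hx)
      exact ⟨n, by simpa using hn1⟩
    | zero => exact ⟨0, by simp⟩
    | add x y _ _ ihx ihy =>
      obtain ⟨a, ha⟩ := ihx
      obtain ⟨b, hb⟩ := ihy
      exact ⟨a + b, by simp [ha, hb]⟩
    | smul n x _ ih =>
      obtain ⟨a, ha⟩ := ih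
      exact ⟨n * a, by simp [ha]⟩
  exact key θ hθ

/-- the canonical extension restricted to the span of a part on which the inner products with the
rest vanish -/
theorem extMap_union_left (F : IrrFacts N) (X Y : Finset (N → ℂ))
    (hirrX : ∀ ξ ∈ X, IsIrrCharacter N ξ) (hirrY : ∀ ξ ∈ Y, IsIrrCharacter N ξ)
    (hXY : Disjoint X Y) (f : (N → ℂ) → (G → ℂ)) {θ : N → ℂ}
    (hθ : θ ∈ zspan (↑X : Set (N → ℂ))) :
    extMap (X ∪ Y) f θ = extMap X f θ := by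
  classical
  unfold extMap
  rw [Finset.sum_union hXY]
  have : ∑ ξ ∈ Y, classInner θ ξ • f ξ = 0 := by
    apply Finset.sum_eq_zero
    intro ξ hξ
    obtain ⟨k, hk, hk0⟩ := F.zspan_inner_int (S := (↑X : Set (N → ℂ)))
      (fun ζ hζ => hirrX ζ (Finset.mem_coe.1 hζ)) hθ (hirrY ξ hξ)
    have hξX : ξ ∉ (↑X : Set (N → ℂ)) := by
      intro h
      exact Finset.disjoint_left.1 hXY (Finset.mem_coe.1 h) hξ
    rw [hk, hk0 hξX]
    simp
  rw [this, add_zero]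

theorem extMap_congr (T : Finset (N → ℂ)) {f f' : (N → ℂ) → (G → ℂ)}
    (h : ∀ ξ ∈ T, f ξ = f' ξ) (θ : N → ℂ) : extMap T f θ = extMap T f' θ := by
  unfold extMap
  exact Finset.sum_congr rfl fun ξ hξ => by rw [h ξ hξ]

/-- second part, for finite sets -/
theorem part2 (F : IrrFacts N) (F' : IrrFacts G) (X Y : Finset (N → ℂ))
    (hirrX : ∀ ξ ∈ X, IsIrrCharacter N ξ) (hirrY : ∀ ξ ∈ Y, IsIrrCharacter N ξ)
    (hXY : Disjoint X Y) (S : Set (N → ℂ)) (hXS : (↑X : Set (N → ℂ)) ⊆ S)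
    (hYS : (↑Y : Set (N → ℂ)) ⊆ S)
    (α : (N → ℂ) → (G → ℂ)) (hα : IsLinearIsometryOn (zspanOn S {1}ᶜ) α)
    (σ τ : (N → ℂ) → (G → ℂ))
    (hσ : IsLinearIsometryOn (zspan (↑X : Set (N → ℂ))) σ)
    (hσα : ∀ θ ∈ zspanOn (↑X : Set (N → ℂ)) {1}ᶜ, σ θ = α θ)
    (hτ : IsLinearIsometryOn (zspan (↑Y : Set (N → ℂ))) τ)
    (hτα : ∀ θ ∈ zspanOn (↑Y : Set (N → ℂ)) {1}ᶜ, τ θ = α θ)
    (horth : ∀ χ ∈ X, ∀ η ∈ Y, classInner (σ χ) (τ η) = 0)
    (χ₀ η₀ : N → ℂ) (hχ₀ : χ₀ ∈ X) (hη₀ : η₀ ∈ Y)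
    (hζ : α (χ₀ 1 • η₀ - η₀ 1 • χ₀) = χ₀ 1 • τ η₀ - η₀ 1 • σ χ₀) :
    ∃ ρ : (N → ℂ) → (G → ℂ), IsLinearIsometryOn (zspan (↑(X ∪ Y) : Set (N → ℂ))) ρ ∧
      ∀ θ ∈ zspanOn (↑(X ∪ Y) : Set (N → ℂ)) {1}ᶜ, ρ θ = α θ := by
  classical
  have hXset : ∀ ξ ∈ (↑X : Set (N → ℂ)), IsIrrCharacter N ξ :=
    fun ξ hξ => hirrX ξ (Finset.mem_coe.1 hξ)
  have hYset : ∀ ξ ∈ (↑Y : Set (N → ℂ)), IsIrrCharacter N ξ :=
    fun ξ hξ => hirrY ξ (Finset.mem_coe.1 hξ)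
  have hU : ∀ ξ ∈ X ∪ Y, IsIrrCharacter N ξ := by
    intro ξ hξ
    rcases Finset.mem_union.1 hξ with h | h
    · exact hirrX ξ h
    · exact hirrY ξ h
  have hYX : ∀ ξ ∈ Y, ξ ∉ X := fun ξ hξ h => Finset.disjoint_left.1 hXY h hξ
  set f : (N → ℂ) → (G → ℂ) := fun ξ => if ξ ∈ X then σ ξ else τ ξ with hfdef
  have hfX : ∀ ξ ∈ X, f ξ = σ ξ := fun ξ hξ => by simp [hfdef, hξ]
  have hfY : ∀ ξ ∈ Y, f ξ = τ ξ := fun ξ hξ => by simp [hfdef, hYX ξ hξ]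
  have hσon : ∀ ξ ∈ X, ∀ η ∈ X, classInner (σ ξ) (σ η) = if ξ = η then 1 else 0 := by
    intro ξ hξ η hη
    rw [isom_inner hσ (subset_zspan _ (Finset.mem_coe.2 hξ)) (subset_zspan _ (Finset.mem_coe.2 hη))]
    exact F.orthonormal ξ η (hirrX ξ hξ) (hirrX η hη)
  have hτon : ∀ ξ ∈ Y, ∀ η ∈ Y, classInner (τ ξ) (τ η) = if ξ = η then 1 else 0 := by
    intro ξ hξ η hη
    rw [isom_inner hτ (subset_zspan _ (Finset.mem_coe.2 hξ)) (subset_zspan _ (Finset.mem_coe.2 hη))]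
    exact F.orthonormal ξ η (hirrY ξ hξ) (hirrY η hη)
  have hfon : ∀ ξ ∈ X ∪ Y, ∀ η ∈ X ∪ Y, classInner (f ξ) (f η) = if ξ = η then 1 else 0 := by
    intro ξ hξ η hη
    rcases Finset.mem_union.1 hξ with hξ' | hξ'
    · rcases Finset.mem_union.1 hη with hη' | hη'
      · rw [hfX ξ hξ', hfX η hη', hσon ξ hξ' η hη']
      · rw [hfX ξ hξ', hfY η hη', horth ξ hξ' η hη', if_neg]
        rintro rfl
        exact hYX ξ hη' hξ'
    · rcases Finset.mem_union.1 hη with hη' | hη'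
      · rw [hfY ξ hξ', hfX η hη', ← classInner_conj_symm, horth η hη' ξ hξ', if_neg]
        · simp
        · rintro rfl
          exact hYX ξ hξ' hη'
      · rw [hfY ξ hξ', hfY η hη', hτon ξ hξ' η hη']
  have hfgen : ∀ ξ ∈ X ∪ Y, IsGeneralizedCharacter G (f ξ) := by
    intro ξ hξ
    rcases Finset.mem_union.1 hξ with h | h
    · rw [hfX ξ h]; exact isom_gen hσ (subset_zspan _ (Finset.mem_coe.2 h))
    · rw [hfY ξ h]; exact isom_gen hτ (subset_zspan _ (Finset.mem_coe.2 h))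
  set ρ : (N → ℂ) → (G → ℂ) := extMap (X ∪ Y) f with hρdef
  refine ⟨ρ, extMap_isometry F F' hU hfon hfgen, ?_⟩
  -- `ρ` extends `σ` and `τ`
  have hρσ : ∀ θ ∈ zspan (↑X : Set (N → ℂ)), ρ θ = σ θ := by
    intro θ hθ
    rw [hρdef, extMap_union_left F X Y hirrX hirrY hXY f hθ, extMap_congr X hfX,
      ← isom_eq_extMap F hirrX hσ hθ]
  have hρτ : ∀ θ ∈ zspan (↑Y : Set (N → ℂ)), ρ θ = τ θ := by
    intro θ hθ
    rw [hρdef, Finset.union_comm, extMap_union_left F Y X hirrY hirrX hXY.symm f hθ,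
      extMap_congr Y hfY, ← isom_eq_extMap F hirrY hτ hθ]
  have hρadd : ∀ a b, ρ (a + b) = ρ a + ρ b := fun a b => extMap_add _ _ a b
  have hρsmul : ∀ (n : ℤ) a, ρ (n • a) = n • ρ a := fun n a => extMap_zsmul _ _ n a
  have hρsub : ∀ a b, ρ (a - b) = ρ a - ρ b := by
    intro a b
    have : a - b = a + (-1 : ℤ) • b := by simp [sub_eq_add_neg]
    rw [this, hρadd, hρsmul]
    simp [sub_eq_add_neg]
  -- degrees
  obtain ⟨c, hc, hc1⟩ := F.deg_pos χ₀ (hirrX χ₀ hχ₀)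
  obtain ⟨e, he, he1⟩ := F.deg_pos η₀ (hirrY η₀ hη₀)
  have hUS : (↑(X ∪ Y) : Set (N → ℂ)) ⊆ S := by
    intro x hx
    rcases Finset.mem_union.1 (Finset.mem_coe.1 hx) with h | h
    · exact hXS (Finset.mem_coe.2 h)
    · exact hYS (Finset.mem_coe.2 h)
  have hχ₀S : χ₀ ∈ zspan S := subset_zspan _ (hXS (Finset.mem_coe.2 hχ₀))
  have hη₀S : η₀ ∈ zspan S := subset_zspan _ (hYS (Finset.mem_coe.2 hη₀))
  -- the mixed element
  have hζeq : χ₀ 1 • η₀ - η₀ 1 • χ₀ = (c : ℤ) • η₀ - (e : ℤ) • χ₀ := by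
    ext g
    simp [hc1, he1]
  have hζS : (c : ℤ) • η₀ - (e : ℤ) • χ₀ ∈ zspanOn S {1}ᶜ := by
    refine mem_zspanOn_compl_one.2 ⟨zspan_sub (zspan_zsmul _ hη₀S) (zspan_zsmul _ hχ₀S), ?_⟩
    simp [hc1, he1, mul_comm]
  have hρζ : ρ ((c : ℤ) • η₀ - (e : ℤ) • χ₀) = α ((c : ℤ) • η₀ - (e : ℤ) • χ₀) := by
    rw [← hζeq, hζ, hζeq, hρsub, hρsmul, hρsmul, hρτ η₀ (subset_zspan _ (Finset.mem_coe.2 hη₀)),
      hρσ χ₀ (subset_zspan _ (Finset.mem_coe.2 hχ₀))]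
    ext g
    simp [hc1, he1]
  intro θ hθ
  obtain ⟨hθspan, hθ1⟩ := mem_zspanOn_compl_one.1 hθ
  have hθ' : θ ∈ Submodule.span ℤ ((↑X : Set (N → ℂ)) ∪ ↑Y) := by
    have h := hθspan
    unfold zspan at h
    rwa [Finset.coe_union] at h
  rw [Submodule.span_union, Submodule.mem_sup] at hθ'
  obtain ⟨θX, hθX, θY, hθY, hsum⟩ := hθ'
  have hθX' : θX ∈ zspan (↑X : Set (N → ℂ)) := hθX
  have hθY' : θY ∈ zspan (↑Y : Set (N → ℂ)) := hθY
  obtain ⟨k, hk⟩ := zspan_apply_one_int F hXset hθX'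
  have hθY1 : θY 1 = -k := by
    have h := congrFun hsum 1
    simp only [Pi.add_apply, hθ1, hk] at h
    linear_combination h
  set x : N → ℂ := (c : ℤ) • θX - k • χ₀ with hxdef
  set y : N → ℂ := (e : ℤ) • θY + k • η₀ with hydef
  have hxX : x ∈ zspanOn (↑X : Set (N → ℂ)) {1}ᶜ := by
    refine mem_zspanOn_compl_one.2 ⟨zspan_sub (zspan_zsmul _ hθX')
      (zspan_zsmul _ (subset_zspan _ (Finset.mem_coe.2 hχ₀))), ?_⟩
    simp only [hxdef, Pi.sub_apply, Pi.smul_apply, hk, hc1]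
    simp only [zsmul_eq_mul]
    push_cast
    ring
  have hyY : y ∈ zspanOn (↑Y : Set (N → ℂ)) {1}ᶜ := by
    refine mem_zspanOn_compl_one.2 ⟨zspan_add (zspan_zsmul _ hθY')
      (zspan_zsmul _ (subset_zspan _ (Finset.mem_coe.2 hη₀))), ?_⟩
    simp only [hydef, Pi.add_apply, Pi.smul_apply, hθY1, he1]
    simp only [zsmul_eq_mul]
    push_cast
    ring
  have hid : ((e * c : ℕ) : ℤ) • θ =
      (e : ℤ) • x + (c : ℤ) • y - k • ((c : ℤ) • η₀ - (e : ℤ) • χ₀) := by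
    rw [← hsum]
    ext g
    simp only [hxdef, hydef, Pi.add_apply, Pi.sub_apply, Pi.smul_apply]
    simp only [zsmul_eq_mul]
    push_cast
    ring
  have hxS := zspanOn_mono ({1}ᶜ : Set N) hXS hxX
  have hyS := zspanOn_mono ({1}ᶜ : Set N) hYS hyY
  have hE := isZClosed_zspanOn S ({1}ᶜ : Set N)
  have hθS : θ ∈ zspanOn S {1}ᶜ := zspanOn_mono _ hUS hθ
  have h1 : α (((e * c : ℕ) : ℤ) • θ) = ((e * c : ℕ) : ℤ) • α θ := isom_zsmul hα _ hθS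
  have h2 : α ((e : ℤ) • x + (c : ℤ) • y - k • ((c : ℤ) • η₀ - (e : ℤ) • χ₀)) =
      (e : ℤ) • α x + (c : ℤ) • α y - k • α ((c : ℤ) • η₀ - (e : ℤ) • χ₀) := by
    rw [isom_sub hE hα (hE.add _ (hE.zsmul _ _ hxS) _ (hE.zsmul _ _ hyS)) (hE.zsmul _ _ hζS),
      isom_add hα (hE.zsmul _ _ hxS) (hE.zsmul _ _ hyS), isom_zsmul hα _ hxS,
      isom_zsmul hα _ hyS, isom_zsmul hα _ hζS]
  have h3 : ρ (((e * c : ℕ) : ℤ) • θ) = ((e * c : ℕ) : ℤ) • ρ θ := hρsmul _ _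
  have h4 : ρ ((e : ℤ) • x + (c : ℤ) • y - k • ((c : ℤ) • η₀ - (e : ℤ) • χ₀)) =
      (e : ℤ) • ρ x + (c : ℤ) • ρ y - k • ρ ((c : ℤ) • η₀ - (e : ℤ) • χ₀) := by
    rw [hρsub, hρadd, hρsmul, hρsmul, hρsmul]
  have hρx : ρ x = α x := by rw [hρσ x hxX.1, hσα x hxX]
  have hρy : ρ y = α y := by rw [hρτ y hyY.1, hτα y hyY]
  have hfin : ((e * c : ℕ) : ℤ) • ρ θ = ((e * c : ℕ) : ℤ) • α θ := by
    rw [← h3, ← h1, hid, h4, h2, hρx, hρy, hρζ]
  ext g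
  have hg := congrFun hfin g
  simp only [Pi.smul_apply, zsmul_eq_mul] at hg
  have hne : (((e * c : ℕ) : ℤ) : ℂ) ≠ 0 := by
    have : e * c ≠ 0 := by positivity
    exact_mod_cast this
  exact mul_left_cancel₀ hne hg

end main

/-- Let N be a subgroup of the finite group G, S a set of irreducible characters of N, and α a linear isometry on the integer combinations of S vanishing at 1 with values virtual characters of G vanishing at 1. Let X, Y ⊆ S be disjoint, each with at least two members, and σ, τ linear isometries on ℤ[X], ℤ[Y] into virtual characters agreeing with α on the members vanishing at 1. Then ⟨σ χ, τ η⟩ = 0 for χ ∈ X, η ∈ Y; and if for some χ₀ ∈ X, η₀ ∈ Y with degrees c = χ₀ 1, e = η₀ 1 one has α (c • η₀ − e • χ₀) = c • τ η₀ − e • σ χ₀, then (X ∪ Y, N minus 1, α) is coherent. -/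
theorem result {G : Type*} [Group G] [Fintype G] (N : Subgroup G) [Fintype N] (S X Y : Set (N → ℂ)) (hirr : ∀ ξ ∈ S, Cfsg.IsIrrCharacter N ξ) (hXS : X ⊆ S) (hYS : Y ⊆ S) (hXY : Disjoint X Y) (hX2 : ∃ a ∈ X, ∃ b ∈ X, a ≠ b) (hY2 : ∃ a ∈ Y, ∃ b ∈ Y, a ≠ b) (α : (N → ℂ) → (G → ℂ)) (hα : Cfsg.IsLinearIsometryOn (Cfsg.zspanOn S {1}ᶜ) α) (hα1 : ∀ θ ∈ Cfsg.zspanOn S {1}ᶜ, α θ 1 = 0) (σ τ : (N → ℂ) → (G → ℂ)) (hσ : Cfsg.IsLinearIsometryOn (Cfsg.zspan X) σ) (hσα : ∀ θ ∈ Cfsg.zspanOn X {1}ᶜ, σ θ = α θ) (hτ : Cfsg.IsLinearIsometryOn (Cfsg.zspan Y) τ) (hτα : ∀ θ ∈ Cfsg.zspanOn Y {1}ᶜ, τ θ = α θ) : (∀ χ ∈ X, ∀ η ∈ Y, Cfsg.classInner (σ χ) (τ η) = 0) ∧ ((∃ χ₀ ∈ X, ∃ η₀ ∈ Y, α (χ₀ 1 • η₀ - η₀ 1 • χ₀) = χ₀ 1 • τ η₀ - η₀ 1 • σ χ₀) → Cfsg.IsCoherent (X ∪ Y) {1}ᶜ α) := by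
  classical
  have F := irrFacts N
  have F' := irrFacts G
  have h1 := part1 F F' S X Y hirr hXS hYS hXY hX2 hY2 α hα hα1 σ τ hσ hσα hτ hτα
  refine ⟨h1, ?_⟩
  rintro ⟨χ₀, hχ₀, η₀, hη₀, hζ⟩
  have hirrX : ∀ ξ ∈ X, IsIrrCharacter N ξ := fun ξ h => hirr ξ (hXS h)
  have hirrY : ∀ ξ ∈ Y, IsIrrCharacter N ξ := fun ξ h => hirr ξ (hYS h)
  have hfinX : X.Finite := F.finite_of_irr hirrX
  have hfinY : Y.Finite := F.finite_of_irr hirrY
  have hTX : (↑hfinX.toFinset : Set (N → ℂ)) = X := hfinX.coe_toFinset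
  have hTY : (↑hfinY.toFinset : Set (N → ℂ)) = Y := hfinY.coe_toFinset
  have hdisj : Disjoint hfinX.toFinset hfinY.toFinset := by
    rw [← Finset.disjoint_coe, hTX, hTY]; exact hXY
  have hU : (↑(hfinX.toFinset ∪ hfinY.toFinset) : Set (N → ℂ)) = X ∪ Y := by
    rw [Finset.coe_union, hTX, hTY]
  refine ⟨?_, ?_⟩
  · obtain ⟨a, ha, b, hb, hab⟩ := hX2
    refine ⟨degDiff a b, zspanOn_mono _ Set.subset_union_left (F.degDiff_mem_on hirrX ha hb), ?_⟩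
    intro h0
    have h2 : classInner (degDiff a b) a = 0 := by rw [h0, classInner_zero_left]
    obtain ⟨m, hm, hm1⟩ := F.deg_pos b (hirrX b hb)
    rw [degDiff, classInner_sub_left, classInner_smul_left, classInner_smul_left,
      F.orthonormal a a (hirrX a ha) (hirrX a ha), F.orthonormal b a (hirrX b hb) (hirrX a ha),
      if_pos rfl, if_neg (Ne.symm hab), hm1] at h2
    simp only [mul_one, mul_zero, sub_zero] at h2
    have : m ≠ 0 := hm.ne'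
    exact this (by exact_mod_cast h2)
  · obtain ⟨ρ, hρ, hρα⟩ := part2 F F' hfinX.toFinset hfinY.toFinset
      (fun ξ hξ => hirrX ξ (hfinX.mem_toFinset.1 hξ)) (fun ξ hξ => hirrY ξ (hfinY.mem_toFinset.1 hξ))
      hdisj S (by rw [hTX]; exact hXS) (by rw [hTY]; exact hYS) α hα σ τ
      (by rw [hTX]; exact hσ) (by rw [hTX]; exact hσα) (by rw [hTY]; exact hτ)
      (by rw [hTY]; exact hτα)
      (fun χ hχ η hη => h1 χ (hfinX.mem_toFinset.1 hχ) η (hfinY.mem_toFinset.1 hη))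
      χ₀ η₀ (hfinX.mem_toFinset.2 hχ₀) (hfinY.mem_toFinset.2 hη₀) hζ
    rw [hU] at hρ hρα
    exact ⟨ρ, hρ, hρα⟩

end Cfsg.Agent.S1531
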