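import Cfsg.Statements.S4108
import Mathlib

set_option autoImplicit false
open Cfsg
open scoped Pointwise

namespace Cfsg.Agent.S4108

theorem mem_conj_smul {X : Type*} [Group X] (H : Subgroup X) (g x : X) :
    x ∈ MulAut.conj g • H ↔ ∃ k ∈ H, x = g * k * g⁻¹ := by
  rw [Subgroup.mem_smul_pointwise_iff_exists]
  constructor
  · rintro ⟨k, hk, rfl⟩
    exact ⟨k, hk, by simp [MulAut.smul_def]⟩
  · rintro ⟨k, hk, rfl⟩
    exact ⟨k, hk, by simp [MulAut.smul_def]⟩

/-- Abstract version: a complement acting fixed-point-freely on a normal subgroup is a Frobenius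
complement with the normal subgroup as kernel. -/
theorem frobenius_of_fpf {X : Type*} [Group X] [Finite X] (N' H' : Subgroup X) [N'.Normal]
    (hsup : N' ⊔ H' = ⊤) (hinf : N' ⊓ H' = ⊥) (hN' : N' ≠ ⊥) (hH' : H' ≠ ⊥)
    (hfpf : ∀ h ∈ H', h ≠ 1 → ∀ n ∈ N', h * n = n * h → n = 1) :
    Cfsg.IsFrobeniusComplement H' ∧ Cfsg.frobeniusKernel H' = (N' : Set X) := by
  have hboth : ∀ z : X, z ∈ N' → z ∈ H' → z = 1 := by
    intro z h1 h2
    have : z ∈ N' ⊓ H' := ⟨h1, h2⟩
    rw [hinf] at this
    exact Subgroup.mem_bot.mp this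
  have hdecomp : ∀ g : X, ∃ n ∈ N', ∃ h ∈ H', g = n * h := by
    intro g
    have hg : g ∈ ((N' ⊔ H' : Subgroup X) : Set X) := by rw [hsup]; trivial
    rw [Subgroup.normal_mul] at hg
    obtain ⟨n, hn, h, hh, rfl⟩ := hg
    exact ⟨n, hn, h, hh, rfl⟩
  refine ⟨⟨hH', ?_, ?_⟩, ?_⟩
  · rintro rfl
    apply hN'
    rwa [inf_top_eq] at hinf
  · intro g hg
    rw [eq_bot_iff]
    intro y hy
    rw [Subgroup.mem_inf] at hy
    obtain ⟨hy1, hy2⟩ := hy
    rw [mem_conj_smul] at hy2
    obtain ⟨k, hk, rfl⟩ := hy2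
    obtain ⟨n, hn, h, hh, rfl⟩ := hdecomp g
    have hn1 : n ≠ 1 := by
      rintro rfl
      apply hg
      simpa using hh
    rw [Subgroup.mem_bot]
    set k' := h * k * h⁻¹ with hk'
    have hk'H : k' ∈ H' := H'.mul_mem (H'.mul_mem hh hk) (H'.inv_mem hh)
    have hy : n * h * k * (n * h)⁻¹ = n * k' * n⁻¹ := by rw [hk']; group
    rw [hy] at hy1 ⊢
    have hN : n * k' * n⁻¹ * k'⁻¹ ∈ N' := by
      have : k' * n⁻¹ * k'⁻¹ ∈ N' := ‹N'.Normal›.conj_mem _ (N'.inv_mem hn) k'
      have := N'.mul_mem hn this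
      convert this using 1; group
    have hH : n * k' * n⁻¹ * k'⁻¹ ∈ H' := H'.mul_mem hy1 (H'.inv_mem hk'H)
    have h1 := hboth _ hN hH
    have h2 : n * k' * n⁻¹ = k' := by rwa [mul_inv_eq_one] at h1
    by_cases hk1 : k' = 1
    · rw [hk1]; group
    · exfalso
      apply hn1
      apply hfpf k' hk'H hk1 n hn
      calc k' * n = n * k' * n⁻¹ * n := by rw [h2]
        _ = n * k' := by group
  · ext x
    simp only [Cfsg.frobeniusKernel, Set.mem_ofPred_eq, SetLike.mem_coe]
    constructor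
    · rintro (rfl | hx)
      · exact N'.one_mem
      · obtain ⟨n, hn, h, hh, rfl⟩ := hdecomp x
        by_cases hh1 : h = 1
        · rw [hh1, mul_one]; exact hn
        · exfalso
          let φ : N' → N' := fun m => ⟨(m : X)⁻¹ * (h * m * h⁻¹),
            N'.mul_mem (N'.inv_mem m.2) (‹N'.Normal›.conj_mem _ m.2 h)⟩
          have hinj : Function.Injective φ := by
            intro u v huv
            have huv' : (u : X)⁻¹ * (h * u * h⁻¹) = (v : X)⁻¹ * (h * v * h⁻¹) :=
              congrArg Subtype.val huv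
            have h2 : h * ((v : X) * (u : X)⁻¹) = ((v : X) * (u : X)⁻¹) * h := by
              have e1 : (v : X) * ((u : X)⁻¹ * (h * u * h⁻¹)) * h * (u : X)⁻¹
                  = (v : X) * ((v : X)⁻¹ * (h * v * h⁻¹)) * h * (u : X)⁻¹ := by rw [huv']
              calc h * ((v : X) * (u : X)⁻¹)
                  = (v : X) * ((v : X)⁻¹ * (h * v * h⁻¹)) * h * (u : X)⁻¹ := by group
                _ = (v : X) * ((u : X)⁻¹ * (h * u * h⁻¹)) * h * (u : X)⁻¹ := e1.symm
                _ = ((v : X) * (u : X)⁻¹) * h := by group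
            have h3 := hfpf h hh hh1 _ (N'.mul_mem v.2 (N'.inv_mem u.2)) h2
            have : (v : X) = u := by rwa [mul_inv_eq_one] at h3
            exact Subtype.ext this.symm
          have hsurj : Function.Surjective φ := Finite.injective_iff_surjective.mp hinj
          obtain ⟨m, hm⟩ := hsurj ⟨n, hn⟩
          have hm' : (m : X)⁻¹ * (h * m * h⁻¹) = n := congrArg Subtype.val hm
          apply hx (m : X)⁻¹
          rw [mem_conj_smul]
          refine ⟨h, hh, ?_⟩
          rw [← hm']; group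
    · intro hx
      by_cases hx1 : x = 1
      · exact Or.inl hx1
      · right
        intro g hg
        rw [mem_conj_smul] at hg
        obtain ⟨k, hk, rfl⟩ := hg
        have hkN : k ∈ N' := by
          have := ‹N'.Normal›.conj_mem _ hx g⁻¹
          convert this using 1; group
        have := hboth k hkN hk
        apply hx1
        rw [this]; group

/-- Let G be a finite group, p a prime and N a proper non-trivial normal p-subgroup such that for every x outside N all elements of the coset xN have the same order as x. Then every non-trivial subgroup H of G of order prime to p acts fixed-point-freely on N: NH is a Frobenius group with complement H and kernel N. -/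
theorem result {G : Type*} [Group G] [Finite G] (N : Subgroup G) [N.Normal] (hN1 : N ≠ ⊥) (hN2 : N ≠ ⊤)
    (heq : ∀ x : G, x ∉ N → ∀ n ∈ N, orderOf (x * n) = orderOf x)
    (p : ℕ) [Fact p.Prime] (hNp : IsPGroup p N) :
    ∀ H : Subgroup G, H ≠ ⊥ → (Nat.card H).Coprime p →
      Cfsg.IsFrobeniusComplement (H.subgroupOf (N ⊔ H)) ∧ Cfsg.frobeniusKernel (H.subgroupOf (N ⊔ H)) = (N.subgroupOf (N ⊔ H) : Set ↥(N ⊔ H)) := by
  intro H hH1 hcop
  obtain ⟨k, hk⟩ := IsPGroup.iff_card.mp hNp
  have hcopNH : Nat.Coprime (Nat.card N) (Nat.card H) := by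
    rw [hk]; exact Nat.Coprime.pow_left _ hcop.symm
  have hinf : N ⊓ H = ⊥ := disjoint_iff.mp (Subgroup.disjoint_of_coprime_natCard hcopNH)
  have hfpf : ∀ h ∈ H, h ≠ 1 → ∀ n ∈ N, h * n = n * h → n = 1 := by
    intro h hh hh1 n hn hcomm
    have hhN : h ∉ N := by
      intro hmem
      have : h ∈ N ⊓ H := ⟨hmem, hh⟩
      rw [hinf] at this
      exact hh1 (Subgroup.mem_bot.mp this)
    have h1 := heq h hhN n hn
    have hoh : orderOf h ∣ Nat.card H := by
      have := orderOf_dvd_natCard (⟨h, hh⟩ : H)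
      rwa [Subgroup.orderOf_mk] at this
    obtain ⟨j, hj⟩ := (IsPGroup.iff_orderOf.mp hNp) ⟨n, hn⟩
    rw [Subgroup.orderOf_mk] at hj
    have hc : Nat.Coprime (orderOf h) (orderOf n) := by
      rw [hj]
      exact Nat.Coprime.pow_right _ (Nat.Coprime.coprime_dvd_left hoh hcop)
    have h2 := Commute.orderOf_mul_eq_mul_orderOf_of_coprime (show Commute h n from hcomm) hc
    rw [h1] at h2
    have hpos : 0 < orderOf h := orderOf_pos h
    have h3 : orderOf n = 1 := by
      have : orderOf h * 1 = orderOf h * orderOf n := by rw [mul_one]; exact h2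
      exact (Nat.eq_of_mul_eq_mul_left hpos this).symm
    exact orderOf_eq_one_iff.mp h3
  have : (N.subgroupOf (N ⊔ H)).Normal := inferInstance
  apply frobenius_of_fpf (N.subgroupOf (N ⊔ H)) (H.subgroupOf (N ⊔ H))
  · rw [← Subgroup.subgroupOf_sup le_sup_left le_sup_right, Subgroup.subgroupOf_self]
  · rw [eq_bot_iff]
    rintro ⟨x, hx⟩ hx12
    rw [Subgroup.mem_inf] at hx12
    obtain ⟨h1, h2⟩ := hx12
    rw [Subgroup.mem_subgroupOf] at h1 h2
    have : x ∈ N ⊓ H := ⟨h1, h2⟩
    rw [hinf] at this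
    rw [Subgroup.mem_bot]
    exact Subtype.ext (Subgroup.mem_bot.mp this)
  · intro h
    rw [Subgroup.subgroupOf_eq_bot] at h
    apply hN1
    exact (disjoint_self.mp (h.mono_right le_sup_left))
  · intro h
    rw [Subgroup.subgroupOf_eq_bot] at h
    apply hH1
    exact (disjoint_self.mp (h.mono_right le_sup_right))
  · rintro ⟨h, hh'⟩ hh hh1 ⟨n, hn'⟩ hn hcomm
    rw [Subgroup.mem_subgroupOf] at hh hn
    have hh1' : h ≠ 1 := fun e => hh1 (Subtype.ext e)
    have hcomm' : h * n = n * h := congrArg Subtype.val hcomm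
    exact Subtype.ext (hfpf h hh hh1' n hn hcomm')

end Cfsg.Agent.S4108
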