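import Cfsg.Statements.S4112
import Mathlib

set_option autoImplicit false
open Cfsg

namespace Cfsg.Agent.S4112

/-- In a finite group `X` which is a minimal supplement of a normal subgroup `N'`, every prime
not dividing the index of `N'` does not divide `|X|`. -/
theorem not_dvd_card_of_minimal {X : Type*} [Group X] [Finite X] (N' : Subgroup X) [N'.Normal]
    (hmin : ∀ Y : Subgroup X, Y ⊔ N' = ⊤ → Y = ⊤) (p : ℕ) [Fact p.Prime]
    (hp : ¬ p ∣ N'.index) : ¬ p ∣ Nat.card X := by
  let P : Sylow p N' := default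
  set P' : Subgroup X := (P : Subgroup N').map N'.subtype with hP'
  have hfr := Sylow.normalizer_sup_eq_top P
  have hnorm : Subgroup.normalizer (P' : Set X) = ⊤ := hmin _ hfr
  have hP'n : P'.Normal := Subgroup.normalizer_eq_top_iff.mp hnorm
  have hidx : P'.index = (P : Subgroup N').index * N'.index := Subgroup.index_map_subtype _
  have hnd : ¬ p ∣ P'.index := by
    rw [hidx]
    exact (Fact.out : p.Prime).not_dvd_mul P.not_dvd_index hp
  have hP'p : IsPGroup p P' := P.isPGroup'.map _
  obtain ⟨k, hk⟩ := IsPGroup.iff_card.mp hP'p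
  have hcop : Nat.Coprime (Nat.card P') P'.index := by
    rw [hk]
    exact Nat.Coprime.pow_left _ ((Nat.Prime.coprime_iff_not_dvd Fact.out).mpr hnd)
  obtain ⟨C, hC⟩ := Subgroup.exists_right_complement'_of_coprime hcop
  have hsup : C ⊔ N' = ⊤ := by
    have h1 : P' ⊔ C = ⊤ := hC.sup_eq_top
    have h2 : P' ≤ N' := by
      rw [hP']
      exact Subgroup.map_subtype_le _
    rw [eq_top_iff, ← h1, sup_comm]
    exact sup_le_sup_left h2 C
  have hCtop : C = ⊤ := hmin C hsup
  have hcard := hC.card_mul_card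
  rw [hCtop, Subgroup.card_top] at hcard
  have hP'1 : Nat.card P' = 1 := by
    have hpos : 0 < Nat.card X := Nat.card_pos
    have : Nat.card P' * Nat.card X = 1 * Nat.card X := by rw [one_mul]; exact hcard
    exact Nat.eq_of_mul_eq_mul_right hpos this
  intro hdvd
  have h3 : p ∣ Nat.card P' * P'.index := by rw [P'.card_mul_index]; exact hdvd
  rw [hP'1, one_mul] at h3
  exact hnd h3

/-- Existence of a minimal supplement. -/
theorem exists_minimal_supplement {G : Type*} [Group G] [Finite G] (N : Subgroup G) :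
    ∃ H : Subgroup G, H ⊔ N = ⊤ ∧ ∀ H' : Subgroup G, H' ≤ H → H' ⊔ N = ⊤ → H' = H := by
  have hne : {H : Subgroup G | H ⊔ N = ⊤}.Nonempty := ⟨⊤, top_sup_eq _⟩
  obtain ⟨H, hH, hmin⟩ := WellFounded.has_min (wellFounded_lt (α := Subgroup G)) _ hne
  refine ⟨H, hH, fun H' hle hH' => ?_⟩
  by_contra hne'
  exact hmin H' hH' (lt_of_le_of_ne hle hne')

/-- Part (3): from coprimality, a supplement of `N` meeting `M` trivially. -/
theorem exists_supplement {G : Type*} [Group G] [Finite G] (N M : Subgroup G) [N.Normal]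
    (hcop : N.index.Coprime (Nat.card M)) : ∃ H : Subgroup G, H ⊔ N = ⊤ ∧ H ⊓ M = ⊥ := by
  obtain ⟨H, hH, hmin⟩ := exists_minimal_supplement N
  refine ⟨H, hH, ?_⟩
  -- N' = N ∩ H inside H
  have hminX : ∀ Y : Subgroup H, Y ⊔ N.subgroupOf H = ⊤ → Y = ⊤ := by
    intro Y hY
    have h1 : Y.map H.subtype ≤ H := Subgroup.map_subtype_le Y
    have h2 : Y.map H.subtype ⊔ N = ⊤ := by
      have h3 : (Y ⊔ N.subgroupOf H).map H.subtype = H := by
        rw [hY, ← MonoidHom.range_eq_map, Subgroup.range_subtype]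
      rw [Subgroup.map_sup, Subgroup.subgroupOf_map_subtype] at h3
      have h5 : H ≤ Y.map H.subtype ⊔ N := by
        calc H = Y.map H.subtype ⊔ N ⊓ H := h3.symm
          _ ≤ Y.map H.subtype ⊔ N := sup_le_sup_left inf_le_left _
      rw [eq_top_iff, ← hH]
      exact sup_le h5 le_sup_right
    have h4 := hmin _ h1 h2
    rw [eq_top_iff]
    intro y _
    have : (y : G) ∈ Y.map H.subtype := by rw [h4]; exact y.2
    obtain ⟨y', hy', hyy'⟩ := this
    have : y' = y := Subtype.ext hyy'
    rwa [← this]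
  have hidx : (N.subgroupOf H).index = N.index := by
    have : (N.subgroupOf H).index = N.relIndex H := rfl
    rw [this, ← Subgroup.relIndex_sup_right, hH, Subgroup.relIndex_top_right]
  have hcopHM : Nat.Coprime (Nat.card H) (Nat.card M) := by
    apply Nat.coprime_of_dvd
    intro p hp hpH hpM
    have : Fact p.Prime := ⟨hp⟩
    have hpN : ¬ p ∣ (N.subgroupOf H).index := by
      rw [hidx]
      intro h
      have := Nat.Coprime.eq_one_of_dvd (Nat.Coprime.coprime_dvd_left h hcop) hpM
      exact hp.one_lt.ne' this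
    exact not_dvd_card_of_minimal (N.subgroupOf H) hminX p hpN hpH
  exact disjoint_iff.mp (Subgroup.disjoint_of_coprime_natCard hcopHM)

/-- (1) → (2) -/
theorem coprime_of_fpf {G : Type*} [Group G] [Finite G] (N M : Subgroup G) [N.Normal] [M.Normal]
    (hC : ∀ x ∈ M, x ≠ 1 → Subgroup.centralizer ({x} : Set G) ≤ N) :
    N.index.Coprime (Nat.card M) := by
  apply Nat.coprime_of_dvd
  intro p hp hpN hpM
  have : Fact p.Prime := ⟨hp⟩
  let P : Sylow p G := default
  have hPN : ¬ (P : Subgroup G) ≤ N := by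
    intro hle
    exact P.not_dvd_index (hpN.trans (Subgroup.index_dvd_of_le hle))
  obtain ⟨g, hgP, hgN⟩ := SetLike.not_le_iff_exists.mp hPN
  obtain ⟨a, ha⟩ := (IsPGroup.iff_orderOf.mp P.isPGroup') ⟨g, hgP⟩
  rw [Subgroup.orderOf_mk] at ha
  set c : ConjAct G := ConjAct.toConjAct g with hc
  have hco : orderOf c = p ^ a := by
    rw [hc, MulEquiv.orderOf_eq, ha]
  have hpg : IsPGroup p (Subgroup.zpowers c) := by
    apply IsPGroup.of_card (n := a)
    rw [Nat.card_zpowers, hco]
  have hfix : (1 : M) ∈ MulAction.fixedPoints (Subgroup.zpowers c) M := by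
    intro s
    exact smul_one s
  obtain ⟨b, hb, hb1⟩ := hpg.exists_fixed_point_of_prime_dvd_card_of_fixed_point M hpM hfix
  have hb' := hb ⟨c, Subgroup.mem_zpowers c⟩
  have hb'' : g * (b : G) * g⁻¹ = (b : G) := by
    have h1 : ((c • b : M) : G) = (b : G) := congrArg Subtype.val hb'
    rw [ConjAct.Subgroup.val_conj_smul, ConjAct.smul_def, hc, ConjAct.ofConjAct_toConjAct] at h1
    exact h1
  have hbne : (b : G) ≠ 1 := fun h => hb1 (Subtype.ext h.symm)
  apply hgN
  apply hC (b : G) b.2 hbne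
  rw [Subgroup.mem_centralizer_singleton_iff]
  calc g * (b : G) = g * (b : G) * g⁻¹ * g := by group
    _ = (b : G) * g := by rw [hb'']

/-- (2) → (1) -/
theorem fpf_of_coprime {G : Type*} [Group G] [Finite G] (N M : Subgroup G) [N.Normal]
    (hcam : ∀ g : G, g ∉ N → ∀ m ∈ M, ∃ x : G, x * g * x⁻¹ = g * m)
    (hcop : N.index.Coprime (Nat.card M)) :
    ∀ x ∈ M, x ≠ 1 → Subgroup.centralizer ({x} : Set G) ≤ N := by
  intro x hxM hx1 g hg
  rw [Subgroup.mem_centralizer_singleton_iff] at hg
  by_contra hgN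
  -- a prime p dividing orderOf x
  have hne1 : orderOf x ≠ 1 := fun h => hx1 (orderOf_eq_one_iff.mp h)
  obtain ⟨p, hp, hpx⟩ := Nat.exists_prime_and_dvd hne1
  have hx0 : orderOf x ≠ 0 := (orderOf_pos x).ne'
  set x' := x ^ (orderOf x / p) with hx'
  have hx'o : orderOf x' = p := orderOf_pow_orderOf_div hx0 hpx
  have hx'M : x' ∈ M := M.pow_mem hxM _
  have hpM : p ∣ Nat.card M := by
    have := Subgroup.orderOf_dvd_natCard M hx'M
    rwa [hx'o] at this
  have hpN : ¬ p ∣ N.index := by
    intro h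
    have := Nat.Coprime.eq_one_of_dvd (Nat.Coprime.coprime_dvd_left h hcop) hpM
    exact hp.one_lt.ne' this
  -- g' = p'-part of g
  have hg0 : orderOf g ≠ 0 := (orderOf_pos g).ne'
  set e := (orderOf g).factorization p with he
  set g' := g ^ (p ^ e) with hg'
  have hg'o : orderOf g' = ordCompl[p] (orderOf g) := by
    rw [hg', orderOf_pow_of_dvd (pow_pos hp.pos e).ne' (Nat.ordProj_dvd (orderOf g) p)]
  have hg'cop : Nat.Coprime (orderOf g') p := by
    rw [hg'o]; exact (Nat.coprime_ordCompl hp hg0).symm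
  have hg'N : g' ∉ N := by
    intro hmem
    have h1 : (QuotientGroup.mk g : G ⧸ N) ^ (p ^ e) = 1 := by
      rw [← QuotientGroup.mk_pow]
      exact (QuotientGroup.eq_one_iff _).mpr hmem
    have h2 : orderOf (QuotientGroup.mk g : G ⧸ N) ∣ p ^ e := orderOf_dvd_of_pow_eq_one h1
    have h3 : orderOf (QuotientGroup.mk g : G ⧸ N) ∣ N.index := orderOf_dvd_natCard _
    have hc2 : Nat.Coprime (p ^ e) N.index :=
      Nat.Coprime.pow_left _ ((Nat.Prime.coprime_iff_not_dvd hp).mpr hpN)
    have h4 : orderOf (QuotientGroup.mk g : G ⧸ N) = 1 := Nat.eq_one_of_dvd_coprimes hc2 h2 h3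
    exact hgN ((QuotientGroup.eq_one_iff g).mp (orderOf_eq_one_iff.mp h4))
  have hcomm : Commute g' x' := by
    have h0 : Commute g x := hg
    exact (h0.pow_left _).pow_right _
  obtain ⟨y, hy⟩ := hcam g' hg'N x' hx'M
  have ho1 : orderOf (g' * x') = orderOf g' := by
    rw [← hy]
    have : y * g' * y⁻¹ = MulAut.conj y g' := by simp
    rw [this, MulEquiv.orderOf_eq]
  have ho2 : orderOf (g' * x') = orderOf g' * orderOf x' :=
    hcomm.orderOf_mul_eq_mul_orderOf_of_coprime (by rw [hx'o]; exact hg'cop)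
  rw [ho1, hx'o] at ho2
  have hpos : 0 < orderOf g' := orderOf_pos _
  have : orderOf g' * 1 = orderOf g' * p := by rw [mul_one]; exact ho2
  have := Nat.eq_of_mul_eq_mul_left hpos this
  exact hp.one_lt.ne' this.symm

/-- Let G be a finite group and M ≤ N non-trivial proper normal subgroups such that for every g outside N the conjugacy class of g is a union of cosets of M (equivalently gm is conjugate to g for every m ∈ M). Then (1) and (2) below are equivalent, and they imply (3): (1) every g outside N acts fixed-point-freely on M, that is C_G(x) ≤ N for every x ∈ M, x ≠ 1; (2) the index of N in G is coprime to the order of M; (3) there is a subgroup H of G with HN = G and H ∩ M = 1. -/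
theorem result {G : Type*} [Group G] [Finite G] (N M : Subgroup G) [N.Normal] [M.Normal] (hMN : M ≤ N) (hM1 : M ≠ ⊥) (hN2 : N ≠ ⊤)
    (hcam : ∀ g : G, g ∉ N → ∀ m ∈ M, ∃ x : G, x * g * x⁻¹ = g * m) :
    ((∀ x ∈ M, x ≠ 1 → Subgroup.centralizer ({x} : Set G) ≤ N) ↔ N.index.Coprime (Nat.card M)) ∧
    ((∀ x ∈ M, x ≠ 1 → Subgroup.centralizer ({x} : Set G) ≤ N) → ∃ H : Subgroup G, H ⊔ N = ⊤ ∧ H ⊓ M = ⊥) := by
  refine ⟨⟨coprime_of_fpf N M, fpf_of_coprime N M hcam⟩, fun h => ?_⟩
  exact exists_supplement N M (coprime_of_fpf N M h)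

end Cfsg.Agent.S4112
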