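import Cfsg.Statements.S1522
import Mathlib
import Cfsg.Agent.Lib.Helper25.CohCentral
import Cfsg.Agent.Lib.Helper25.FrobCount
import Cfsg.Agent.Lib.Helper26.ZSpan
import Cfsg.Agent.S1516
import Cfsg.Agent.S1517
import Cfsg.Agent.S1519
import Cfsg.Agent.S1521

set_option autoImplicit false
open Cfsg

namespace Cfsg.Agent.S1522

open Cfsg.Agent.Lib.Helper25.CohDescent Cfsg.Agent.Lib.Helper25.CohCentral
  Cfsg.Agent.Lib.Helper25.FrobCount Cfsg.Agent.Lib.Helper26 Cfsg.Agent.Lib.Helper78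
open scoped commutatorElement

section Aux

universe u v

variable {L : Type u} [Group L] [Fintype L] {G : Type v} [Group G] [Fintype G]

theorem charDegree_conjFun (χ : L → ℂ) : Cfsg.charDegree (Cfsg.conjFun χ) = Cfsg.charDegree χ := by
  simp [Cfsg.charDegree, Cfsg.conjFun]

/-- a numerical inequality -/
theorem numeric (e p b b₁ : ℕ) (he : 0 < e) (hp : 2 < p) (hb : b₁ < b) :
    2 * (e * p ^ b) * (e * p ^ b₁) < e ^ 2 * p ^ (2 * b) := by
  have h1 : p ^ (b₁ + 1) ≤ p ^ b := Nat.pow_le_pow_right (by omega) (by omega)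
  rw [pow_succ] at h1
  have h2 : 0 < p ^ b₁ := pow_pos (by omega) _
  have h3 : 0 < p ^ b := pow_pos (by omega) _
  have h4 : p ^ (2 * b) = p ^ b * p ^ b := by rw [two_mul, pow_add]
  rw [h4]
  have h5 : 3 * p ^ b₁ ≤ p ^ b := by nlinarith
  have h6 : 0 < e ^ 2 * p ^ b := by positivity
  nlinarith

end Aux

/-- Let K be a nilpotent normal subgroup of the finite group L of odd order with [K,K] < K < L and L/[K,K] a Frobenius group with kernel K/[K,K] (elements of K outside [K,K] are centralised modulo [K,K] only from inside K); let (S, τ, R) be a coherence system from L to G with S the functions induced from non-principal irreducible characters of K. Let Z be a nontrivial normal subgroup of L contained in the centre of K, and suppose every member of S outside S(Z) is an irreducible character of L. Then S minus S(Z) is the set of irreducible characters χ of L with χ z ≠ χ 1 for some z ∈ Z, and it is coherent. -/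
theorem result {L : Type*} [Group L] [Fintype L] {G : Type*} [Group G] [Fintype G] (K : Subgroup L) [hK : K.Normal] (hsolv : Group.IsSolvable K) (τ : (L → ℂ) → (G → ℂ)) (R : (L → ℂ) → Finset (G → ℂ)) (hS : Cfsg.IsCoherenceSystem (Cfsg.inducedIrrAbove K ⊥) τ R) (hodd : Odd (Nat.card L)) (hnil : Group.IsNilpotent K) (hH₁K : ⁅K, K⁆ < K) (hKL : K < ⊤) (hfrob : ∀ k ∈ K, k ∉ ⁅K, K⁆ → ∀ x : L, x * k * x⁻¹ * k⁻¹ ∈ ⁅K, K⁆ → x ∈ K) (Z : Subgroup L) [Z.Normal] (hZ1 : Z ≠ ⊥) (hZK : Z ≤ K) (hZc : ∀ z ∈ Z, ∀ k ∈ K, z * k = k * z) (hirr : ∀ χ ∈ Cfsg.inducedIrrAbove K ⊥ \ Cfsg.inducedIrrAbove K Z, Cfsg.IsIrrCharacter L χ) : Cfsg.inducedIrrAbove K ⊥ \ Cfsg.inducedIrrAbove K Z = {χ | Cfsg.IsIrrCharacter L χ ∧ ∃ z ∈ Z, χ z ≠ χ 1} ∧ Cfsg.IsCoherent (Cfsg.inducedIrrAbove K ⊥ \ Cfsg.inducedIrrAbove K Z) {1}ᶜ τ := by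
  classical
  have : Fintype K := Fintype.ofFinite K
  have hirr' : ∀ θ : K → ℂ, Cfsg.IsIrrCharacter K θ → NT K Z θ →
      Cfsg.IsIrrCharacter L (Cfsg.indFun K θ) := by
    intro θ hθ hnt
    apply hirr
    rw [mem_diff_iff K Z hZK]
    exact ⟨θ, hθ, hnt, rfl⟩
  refine ⟨diff_eq_irr K Z hZK hirr', ?_⟩
  have hsubS : Cfsg.inducedIrrAbove K ⊥ \ Cfsg.inducedIrrAbove K Z ⊆ Cfsg.inducedIrrAbove K ⊥ :=
    Set.diff_subset
  -- a character nontrivial on `Z`
  have hex : ∃ θ : Cfsg.IrrCharacter K, NT K Z (θ : K → ℂ) := by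
    by_contra hcon
    push Not at hcon
    have h1 := sum_sq_not_NT K Z
    rw [Finset.filter_true_of_mem (fun θ _ => hcon θ), sum_irr_charDegree_sq] at h1
    have h2 : Nat.card K = Nat.card Z * Z.relIndex K := by
      have h3 := (Z.subgroupOf K).card_mul_index
      rw [Nat.card_congr (Subgroup.subgroupOfEquivOfLe hZK).toEquiv] at h3
      exact h3.symm
    have h4 : 1 < Nat.card Z := (Subgroup.one_lt_card_iff_ne_bot Z).mpr hZ1
    have h5 : 0 < Z.relIndex K :=
      Nat.pos_of_ne_zero (Subgroup.index_ne_zero_of_finite (H := Z.subgroupOf K))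
    rw [← h1] at h2
    nlinarith
  -- conjugation
  have hconj₁ : ∀ φ ∈ Cfsg.inducedIrrAbove K ⊥ \ Cfsg.inducedIrrAbove K Z,
      Cfsg.conjFun φ ∈ Cfsg.inducedIrrAbove K ⊥ \ Cfsg.inducedIrrAbove K Z := by
    intro φ hφ
    refine ⟨conj_mem_inducedIrrAbove K ⊥ hφ.1, fun h => hφ.2 ?_⟩
    have := conj_mem_inducedIrrAbove K Z h
    rwa [conjFun_conjFun] at this
  -- a nonzero member of `ℤ[S₁, 1ᶜ]`
  have hne₁ : ∃ α ∈ Cfsg.zspanOn (Cfsg.inducedIrrAbove K ⊥ \ Cfsg.inducedIrrAbove K Z) {1}ᶜ,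
      α ≠ 0 := by
    obtain ⟨θ, hθ⟩ := hex
    have hmem : Cfsg.indFun K (θ : K → ℂ) ∈
        Cfsg.inducedIrrAbove K ⊥ \ Cfsg.inducedIrrAbove K Z := by
      rw [mem_diff_iff K Z hZK]
      exact ⟨θ, θ.2, hθ, rfl⟩
    exact Cfsg.Agent.S1519.exists_zspanOn_ne_zero hmem (hconj₁ _ hmem)
      (hS.isCharacter _ (hsubS hmem)) (hS.conj_ne _ (hsubS hmem))
  have hcK : (⁅K, K⁆ : Subgroup L).Normal := Subgroup.commutator_normal K K
  by_cases hpk : ∃ p m : ℕ, p.Prime ∧ (⊥ : Subgroup L).relIndex K = p ^ m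
  swap
  · -- `S` itself is coherent
    have hnil' : Group.IsNilpotent (↥K ⧸ (⊥ : Subgroup L).subgroupOf K) := inferInstance
    have hScoh := Cfsg.Agent.S1521.result K hsolv τ R hS hodd ⊥ bot_le hnil' ⁅K, K⁆
      (sup_bot_eq _).symm hH₁K hKL hfrob (Or.inr (Or.inr (Or.inl hpk)))
    exact Cfsg.Agent.S1519.isCoherent_subset hsubS τ hScoh hne₁
  · obtain ⟨p, m, hp, hpm⟩ := hpk
    rw [Subgroup.relIndex_bot_left] at hpm
    have hepos : 0 < K.index := Nat.pos_of_ne_zero Subgroup.index_ne_zero_of_finite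
    -- `p` is odd
    have hKne : Nat.card K ≠ 1 := by
      intro h
      rw [Subgroup.card_eq_one] at h
      rw [h] at hH₁K
      exact absurd hH₁K (not_lt_bot)
    have hm1 : 1 ≤ m := by
      by_contra h
      have : m = 0 := by omega
      rw [this, pow_zero] at hpm
      exact hKne hpm
    have hpL : p ∣ Nat.card L := by
      have h3 : p ∣ Nat.card K := by rw [hpm]; exact dvd_pow_self p (by omega)
      exact h3.trans (Subgroup.card_subgroup_dvd_card K)
    have hpodd : Odd p := Odd.of_dvd_nat hodd hpL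
    have hp2 : 2 < p := by
      have := hp.two_le
      obtain ⟨k, hk⟩ := hpodd
      omega
    -- `p` is prime to `[L:K]`
    have hcop : Nat.Coprime p K.index := by
      rw [Nat.Prime.coprime_iff_not_dvd hp]
      intro hpe
      have hcle : ⁅K, K⁆ ≤ K := hH₁K.le
      have h1 := index_dvd_relIndex_sub_one K ⁅K, K⁆ K le_rfl hcle le_rfl hfrob
      have h2 : (⁅K, K⁆ : Subgroup L).relIndex K ∣ p ^ m := by
        rw [← hpm]; exact Subgroup.relIndex_dvd_card _ K
      obtain ⟨j, -, hj⟩ := (Nat.dvd_prime_pow hp).mp h2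
      have hj1 : 1 ≤ j := by
        by_contra h
        have : j = 0 := by omega
        rw [this, pow_zero, Subgroup.relIndex_eq_one] at hj
        exact absurd hj (not_le_of_gt hH₁K)
      have h3 : p ∣ p ^ j - 1 := by rw [← hj]; exact hpe.trans h1
      have h4 : p ∣ p ^ j := dvd_pow_self p (by omega)
      have h5 : 1 ≤ p ^ j := Nat.one_le_pow _ _ hp.pos
      have h6 : p ∣ 1 := by
        have := (Nat.dvd_sub h4 h3)
        rwa [Nat.sub_sub_self h5] at this
      exact hp.one_lt.ne' (Nat.dvd_one.mp h6)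
    -- degrees and norms
    let d : (L → ℂ) → ℕ := fun φ => Cfsg.charDegree φ
    let n : (L → ℂ) → ℕ := fun φ => ⌊(Cfsg.classInner φ φ).re⌋₊
    have hd : ∀ φ ∈ Cfsg.inducedIrrAbove K ⊥, φ 1 = (d φ : ℂ) := fun φ hφ =>
      IsCharacter.apply_one_eq_charDegree (hS.isCharacter φ hφ)
    have hn : ∀ φ ∈ Cfsg.inducedIrrAbove K ⊥, Cfsg.classInner φ φ = (n φ : ℂ) := by
      intro φ hφ
      obtain ⟨k, hk⟩ := Cfsg.Agent.S0148.exists_nat_classInner_of_isCharacter
        (hS.isCharacter φ hφ) (hS.isCharacter φ hφ)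
      simp [n, hk]
    -- the finite set `S₁`
    set S₁f : Finset (L → ℂ) := indSet K ⊥ \ indSet K Z with hS₁f
    have hcoe : (↑S₁f : Set (L → ℂ)) =
        Cfsg.inducedIrrAbove K ⊥ \ Cfsg.inducedIrrAbove K Z := by
      rw [hS₁f, Finset.coe_sdiff, coe_indSet, coe_indSet]
    have hmemf : ∀ φ, φ ∈ S₁f ↔ φ ∈ Cfsg.inducedIrrAbove K ⊥ \ Cfsg.inducedIrrAbove K Z := by
      intro φ
      rw [← hcoe, Finset.mem_coe]
    have hn1 : ∀ φ ∈ S₁f, n φ = 1 := by
      intro φ hφ
      have h1 := hirr φ ((hmemf φ).mp hφ)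
      simp [n, classInner_irr_self h1]
    have hdegf : ∀ φ ∈ S₁f, ∃ θ : Cfsg.IrrCharacter K, NT K Z (θ : K → ℂ) ∧
        φ = Cfsg.indFun K (θ : K → ℂ) ∧ ∃ b, Cfsg.charDegree (θ : K → ℂ) = p ^ b ∧
          Cfsg.charDegree φ = K.index * p ^ b := by
      intro φ hφ
      obtain ⟨θ, hθ, hnt, rfl⟩ := (mem_diff_iff K Z hZK φ).mp ((hmemf φ).mp hφ)
      have h1 := Cfsg.Agent.Lib.Helper79.irr_charDegree_dvd_card (⟨θ, hθ⟩ : Cfsg.IrrCharacter K)
      rw [hpm] at h1
      obtain ⟨b, -, hb⟩ := (Nat.dvd_prime_pow hp).mp h1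
      refine ⟨⟨θ, hθ⟩, hnt, rfl, b, hb, ?_⟩
      rw [charDegree_indFun K (IsIrrCharacter.isCharacter hθ)]
      exact congrArg _ hb
    -- main induction
    have key : ∀ T : Finset (L → ℂ), T ⊆ S₁f → T.Nonempty →
        (∀ φ ∈ T, Cfsg.conjFun φ ∈ T) →
        (∀ φ ∈ T, ∀ ψ ∈ S₁f, Cfsg.charDegree ψ < Cfsg.charDegree φ → ψ ∈ T) →
        Cfsg.IsCoherent (↑T : Set (L → ℂ)) {1}ᶜ τ := by
      intro T
      induction T using Finset.strongInduction with
      | H T ih =>
        intro hTsub hTne hTconj hTinit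
        have hTS : (↑T : Set (L → ℂ)) ⊆ Cfsg.inducedIrrAbove K ⊥ := by
          intro φ hφ
          exact hsubS ((hmemf φ).mp (hTsub (Finset.mem_coe.mp hφ)))
        obtain ⟨χ, hχT, hχmax⟩ := Finset.exists_max_image T (fun φ => Cfsg.charDegree φ) hTne
        by_cases hconst : ∀ φ ∈ T, Cfsg.charDegree φ = Cfsg.charDegree χ
        · -- constant degree
          have hsys := Cfsg.Agent.S1521.isCoherenceSystem_subset hS hTS
            ⟨χ, Finset.mem_coe.mpr hχT⟩
            (fun φ hφ => Finset.mem_coe.mpr (hTconj φ (Finset.mem_coe.mp hφ)))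
          apply Cfsg.Agent.S1517.result _ τ R hsys
          intro φ hφ ψ hψ
          rw [hd φ (hTS hφ), hd ψ (hTS hψ)]
          change ((Cfsg.charDegree φ : ℕ) : ℂ) = ((Cfsg.charDegree ψ : ℕ) : ℂ)
          rw [hconst φ (Finset.mem_coe.mp hφ), hconst ψ (Finset.mem_coe.mp hψ)]
        · push Not at hconst
          obtain ⟨φ₀, hφ₀T, hφ₀ne⟩ := hconst
          have hφ₀lt : Cfsg.charDegree φ₀ < Cfsg.charDegree χ :=
            lt_of_le_of_ne (hχmax φ₀ hφ₀T) hφ₀ne
          set T' : Finset (L → ℂ) := (T.erase χ).erase (Cfsg.conjFun χ) with hT'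
          have hmem' : ∀ φ, φ ∈ T' ↔ φ ≠ Cfsg.conjFun χ ∧ φ ≠ χ ∧ φ ∈ T := by
            intro φ
            rw [hT', Finset.mem_erase, Finset.mem_erase]
          have hsub' : T' ⊆ T := fun φ hφ => ((hmem' φ).mp hφ).2.2
          have hssub : T' ⊂ T := by
            refine Finset.ssubset_iff_subset_ne.mpr ⟨hsub', ?_⟩
            intro h
            have : χ ∈ T' := h ▸ hχT
            exact ((hmem' χ).mp this).2.1 rfl
          have hlt_mem : ∀ ψ ∈ T, Cfsg.charDegree ψ < Cfsg.charDegree χ → ψ ∈ T' := by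
            intro ψ hψ hlt
            rw [hmem']
            refine ⟨?_, ?_, hψ⟩
            · rintro rfl
              rw [charDegree_conjFun] at hlt
              exact lt_irrefl _ hlt
            · rintro rfl
              exact lt_irrefl _ hlt
          have hT'ne : T'.Nonempty := ⟨φ₀, hlt_mem φ₀ hφ₀T hφ₀lt⟩
          have hT'conj : ∀ φ ∈ T', Cfsg.conjFun φ ∈ T' := by
            intro φ hφ
            obtain ⟨ha, hb, hc⟩ := (hmem' φ).mp hφ
            rw [hmem']
            refine ⟨?_, ?_, hTconj φ hc⟩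
            · intro h
              apply hb
              have := congrArg Cfsg.conjFun h
              rwa [conjFun_conjFun, conjFun_conjFun] at this
            · intro h
              apply ha
              have := congrArg Cfsg.conjFun h
              rwa [conjFun_conjFun] at this
          have hT'init : ∀ φ ∈ T', ∀ ψ ∈ S₁f, Cfsg.charDegree ψ < Cfsg.charDegree φ → ψ ∈ T' := by
            intro φ hφ ψ hψ hlt
            have hφT := hsub' hφ
            exact hlt_mem ψ (hTinit φ hφT ψ hψ hlt) (lt_of_lt_of_le hlt (hχmax φ hφT))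
          have hcoh' := ih T' hssub (hsub'.trans hTsub) hT'ne hT'conj hT'init
          -- the character of least degree in `T'`
          obtain ⟨χ₁, hχ₁T', hχ₁min⟩ :=
            Finset.exists_min_image T' (fun φ => Cfsg.charDegree φ) hT'ne
          have hχ₁lt : Cfsg.charDegree χ₁ < Cfsg.charDegree χ :=
            lt_of_le_of_lt (hχ₁min φ₀ (hlt_mem φ₀ hφ₀T hφ₀lt)) hφ₀lt
          obtain ⟨θχ, hntχ, hχeq, b, hθb, hχb⟩ := hdegf χ (hTsub hχT)
          obtain ⟨θ₁, hnt₁, hχ₁eq, b₁, hθb₁, hχ₁b⟩ := hdegf χ₁ (hTsub (hsub' hχ₁T'))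
          have hb₁b : b₁ < b := by
            rw [hχb, hχ₁b] at hχ₁lt
            have h1 : p ^ b₁ < p ^ b := Nat.lt_of_mul_lt_mul_left hχ₁lt
            exact (Nat.pow_lt_pow_iff_right hp.one_lt).mp h1
          have hdvd : d χ₁ ∣ d χ := by
            change Cfsg.charDegree χ₁ ∣ Cfsg.charDegree χ
            rw [hχb, hχ₁b]
            exact Nat.mul_dvd_mul_left _ (pow_dvd_pow p hb₁b.le)
          have hkc := key_count K Z hZK p hp m hpm hcop hZc hirr' b θχ hntχ hθb θ₁ hnt₁
            (by rw [hθb₁]; exact Nat.pow_lt_pow_right hp.one_lt hb₁b)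
          rw [← hS₁f] at hkc
          have hfsub : S₁f.filter (fun φ => Cfsg.charDegree φ < K.index * p ^ b) ⊆ T' := by
            intro ψ hψ
            rw [Finset.mem_filter] at hψ
            have hlt : Cfsg.charDegree ψ < Cfsg.charDegree χ := by rw [hχb]; exact hψ.2
            exact hlt_mem ψ (hTinit χ hχT ψ hψ.1 hlt) hlt
          have hsumle : K.index ^ 2 * p ^ (2 * b) ≤ ∑ φ ∈ T', Cfsg.charDegree φ ^ 2 :=
            le_trans hkc (Finset.sum_le_sum_of_subset hfsub)
          have hineq : (2 * d χ * d χ₁ : ℝ) < ∑ φ ∈ T', ((d φ : ℝ) ^ 2 / (n φ : ℝ)) := by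
            have e1 : ∑ φ ∈ T', ((d φ : ℝ) ^ 2 / (n φ : ℝ)) =
                ((∑ φ ∈ T', Cfsg.charDegree φ ^ 2 : ℕ) : ℝ) := by
              push_cast
              apply Finset.sum_congr rfl
              intro φ hφ
              rw [hn1 φ (hTsub (hsub' hφ))]
              simp [d]
            rw [e1]
            have e2 : (2 * d χ * d χ₁ : ℝ) = ((2 * Cfsg.charDegree χ * Cfsg.charDegree χ₁ : ℕ) : ℝ) := by
              push_cast; rfl
            rw [e2]
            have e3 : 2 * Cfsg.charDegree χ * Cfsg.charDegree χ₁ <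
                ∑ φ ∈ T', Cfsg.charDegree φ ^ 2 := by
              refine lt_of_lt_of_le ?_ hsumle
              rw [hχb, hχ₁b]
              exact numeric K.index p b b₁ hepos hp2 hb₁b
            exact_mod_cast e3
          have hT'S : (↑T' : Set (L → ℂ)) ⊆ Cfsg.inducedIrrAbove K ⊥ := fun φ hφ =>
            hTS (Finset.mem_coe.mpr (hsub' (Finset.mem_coe.mp hφ)))
          have hχ₁' : χ ∉ T' := fun h => ((hmem' χ).mp h).2.1 rfl
          have hχ₂' : Cfsg.conjFun χ ∉ T' := fun h => ((hmem' _).mp h).1 rfl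
          have hres := Cfsg.Agent.S1516.result (Cfsg.inducedIrrAbove K ⊥) τ R hS d n hd hn T' hT'S
            hT'conj hcoh' χ (hTS (Finset.mem_coe.mpr hχT)) hχ₁' hχ₂' χ₁ hχ₁T' hdvd hineq
          have hset : (↑T' ∪ {χ, Cfsg.conjFun χ} : Set (L → ℂ)) = ↑T := by
            ext φ
            simp only [Set.mem_union, Finset.mem_coe, Set.mem_insert_iff, Set.mem_singleton_iff]
            constructor
            · rintro (h | rfl | rfl)
              · exact hsub' h
              · exact hχT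
              · exact hTconj _ hχT
            · intro h
              by_cases ha : φ = χ
              · right; left; exact ha
              · by_cases hb' : φ = Cfsg.conjFun χ
                · right; right; exact hb'
                · left; exact (hmem' φ).mpr ⟨hb', ha, h⟩
          rw [hset] at hres
          exact hres
    have hfinal := key S₁f (Finset.Subset.refl _)
      (by
        obtain ⟨θ, hθ⟩ := hex
        refine ⟨Cfsg.indFun K (θ : K → ℂ), ?_⟩
        rw [hmemf, mem_diff_iff K Z hZK]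
        exact ⟨θ, θ.2, hθ, rfl⟩)
      (fun φ hφ => (hmemf _).mpr (hconj₁ φ ((hmemf φ).mp hφ)))
      (fun φ _ ψ hψ _ => hψ)
    rw [hcoe] at hfinal
    exact hfinal

end Cfsg.Agent.S1522
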