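import Cfsg.Statements.S1524
-- import your own Cfsg.Agent.* helpers here
import Mathlib
import Cfsg.Agent.Lib.Helper74.SibleySetup
import Cfsg.Agent.Lib.Helper74.SibleyStep0
import Cfsg.Agent.Lib.Helper74.SibleyExc
import Cfsg.Agent.Lib.Helper64.SibleyKey
import Cfsg.Agent.Lib.Helper64.SibleyLink
import Cfsg.Agent.Lib.Helper64.SibleyAdd
import Cfsg.Agent.Lib.Helper64.SibleyNumeric

set_option autoImplicit false
open Cfsg

namespace Cfsg.Agent.S1524

/-- Let G be a finite group and H ≤ L subgroups with L of odd order, H ≠ ⊥ nilpotent and normal in L with a nontrivial complement W₁ in L (H ⊓ W₁ = ⊥, H ⊔ W₁ = L) acting on H without non-identity fixed points (L is a Frobenius group with kernel H), and suppose the underlying set of H is a TI-subset of G whose normaliser is L. Let S be the set of functions on L induced from the non-principal irreducible characters of H. Then (S, L minus 1, induction to G) is coherent.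 -/
theorem result {G : Type*} [Group G] [Fintype G] (H L W₁ : Subgroup G) [Fintype L] (hodd : Odd (Nat.card L)) (hHL : H ≤ L) (hW₁L : W₁ ≤ L) (hH1 : H ≠ ⊥) (hW1 : W₁ ≠ ⊥) (hnil : Group.IsNilpotent H) (hHn : ∀ x ∈ L, ∀ h ∈ H, x * h * x⁻¹ ∈ H) (hinf : H ⊓ W₁ = ⊥) (hsup : H ⊔ W₁ = L) (hfpf : ∀ w ∈ W₁, w ≠ 1 → ∀ h ∈ H, w * h = h * w → h = 1) (hTI : Cfsg.IsTISubset (H : Set G)) (hN : Subgroup.normalizer (H : Set G) = L) : Cfsg.IsCoherent (Cfsg.inducedIrrAbove (H.subgroupOf L) ⊥) {1}ᶜ (fun α : L → ℂ => Cfsg.indFun L α) := by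
  classical
  obtain ⟨R, hS⟩ := Cfsg.Agent.Lib.Helper74.sibley_exists_coherenceSystem H L W₁ hodd hHL hW₁L
    hH1 hW1 hHn hinf hsup hfpf hTI hN
  rcases Cfsg.Agent.Lib.Helper74.sibley_step0 H L W₁ hodd hHL hW₁L hH1 hW1 hnil hHn hinf hsup
    hfpf (fun α : L → ℂ => Cfsg.indFun L α) R hS with h | ⟨hx1, -, hx3, hx4, -⟩
  · exact h
  obtain ⟨Z, -, hZn, hZ1, hZK, hZc, -, hZ3, hA, hdegA, hAS, hAne, hAc, hBeq, hB, hBne, hdegB,
    hBc, hAB⟩ := Cfsg.Agent.Lib.Helper74.sibley_exc H L W₁ hodd hHL hW₁L hH1 hW1 hnil hHn hinf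
      hsup hfpf (fun α : L → ℂ => Cfsg.indFun L α) R hS hx1 hx4
  have := hZn
  have hKn := Cfsg.Agent.Lib.Helper74.subgroupOf_normal_of_conj H L hHn
  have hC := Cfsg.Agent.Lib.Helper74.frobK_centralizer_le H L W₁ hHL hW₁L hHn hsup hfpf
  obtain ⟨hτ, hτ1⟩ := Cfsg.Agent.Lib.Helper74.sibley_isLinearIsometryOn H L hHL hHn hTI hN hC
  have hKtop := Cfsg.Agent.Lib.Helper74.subgroupOf_lt_top H L W₁ hW₁L hW1 hinf
  set K : Subgroup L := H.subgroupOf L with hKdef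
  set S : Set (L → ℂ) := Cfsg.inducedIrrAbove K ⊥ with hSdef
  set A : Set (L → ℂ) := Cfsg.inducedIrrAbove K ⁅K, K⁆ with hAdef
  set B : Set (L → ℂ) := S \ Cfsg.inducedIrrAbove K Z with hBdef
  have hirr : ∀ ξ ∈ S, Cfsg.IsIrrCharacter L ξ := fun ξ hξ =>
    Cfsg.Agent.Lib.Helper74.sibleyS_isIrrCharacter K hC hξ
  have hBS : B ⊆ S := Set.sdiff_subset
  have he : 0 < K.index := Nat.pos_of_ne_zero Subgroup.index_ne_zero_of_finite
  have hec : Nat.card H * K.index = Nat.card L := by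
    rw [← Subgroup.card_mul_index K]
    congr 1
    exact Nat.card_congr (Subgroup.subgroupOfEquivOfLe hHL).toEquiv.symm
  have hc : 0 < Nat.card H := Nat.card_pos
  -- the key hypothesis
  have hkey : ∀ ψ : G → ℂ, Cfsg.IsIrrCharacter G ψ →
      (∀ ξ ∈ B, ∀ ξ' ∈ B, Cfsg.classInner (Cfsg.indFun L (ξ' 1 • ξ - ξ 1 • ξ')) ψ = 0) →
      ∀ η ∈ B, ∃ k : ℤ, (K.index : ℂ) * Cfsg.classInner η (fun x : L => ψ x) = k * η 1 := by
    intro ψ hψ horth η hη
    have hηB : η ∈ {χ | Cfsg.IsIrrCharacter L χ ∧ ∃ z ∈ Z, χ z ≠ χ 1} := by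
      rw [← hBeq]; exact hη
    refine Cfsg.Agent.Lib.Helper64.key_divisibility L Z K.index (Nat.card H) hec hc ψ
      (Cfsg.Agent.Lib.Helper78.IsCharacter.isClassFunction
        (Cfsg.Agent.Lib.Helper78.IsIrrCharacter.isCharacter hψ)) ?_ ?_ hZ1 η hηB.1 hηB.2
    · intro ξ ξ' h1 h2 h3 h4
      apply horth ξ _ ξ' _
      · rw [hBeq]; exact ⟨h1, h2⟩
      · rw [hBeq]; exact ⟨h3, h4⟩
    · intro hconst
      exact Cfsg.Agent.Lib.Helper74.sibley_h1523 H L W₁ hodd hHL hW₁L hH1 hHn hsup hfpf hTI hN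
        hx3 Z hZ1 hZK hZc ψ hψ hconst
  -- the link
  have hABcoh := Cfsg.Agent.Lib.Helper64.sibley_link L S A B hirr hAS hBS hAB hAne hBne hAc hBc
    hτ hτ1 hA hB K.index he hdegA hdegB hkey
  -- adding the rest
  obtain ⟨ψ₀, hψ₀⟩ := hAne
  refine Cfsg.Agent.Lib.Helper64.sibley_add L S (A ∪ B) hirr (Set.union_subset hAS hBS) hτ hτ1
    hABcoh K.index ψ₀ (Set.mem_union_left _ hψ₀) (hdegA ψ₀ hψ₀) (2 * Z.index) ?_ ?_
  · intro Ts hTs
    apply Cfsg.Agent.Lib.Helper64.two_index_le_sum Z hZ3 Ts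
    intro ξ hξ hξZ
    have : ξ ∈ (↑Ts : Set (L → ℂ)) := by
      rw [hTs]
      apply Set.mem_union_right
      rw [hBeq]; exact ⟨hξ, hξZ⟩
    exact Finset.mem_coe.1 this
  · intro χ hχS hχAB
    have hχirr := hirr χ hχS
    have hχB : χ ∉ B := fun h => hχAB (Set.mem_union_right _ h)
    have hχZ : ∀ z ∈ Z, χ z = χ 1 := by
      intro z hz
      by_contra hne
      apply hχB
      rw [hBeq]; exact ⟨hχirr, z, hz, hne⟩
    have hχ1 : χ ≠ fun _ => 1 := by
      intro h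
      obtain ⟨x, hx⟩ : ∃ x : L, x ∉ K := by
        by_contra hcon
        push Not at hcon
        exact hKtop.ne (Subgroup.eq_top_iff' K |>.2 hcon)
      have := Cfsg.Agent.Lib.Helper74.sibleyS_vanish K hχS x hx
      rw [h] at this
      exact one_ne_zero this
    have hsq := Cfsg.Agent.Lib.Helper64.sq_add_one_le_index Z χ hχirr hχZ hχ1
    have hd : χ 1 = (Cfsg.charDegree χ : ℂ) :=
      Cfsg.Agent.Lib.Helper78.IsCharacter.apply_one_eq_charDegree
        (Cfsg.Agent.Lib.Helper78.IsIrrCharacter.isCharacter hχirr)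
    obtain ⟨θ, hθ, -, -, rfl⟩ := hχS
    have hdeg : Cfsg.charDegree (Cfsg.indFun K θ) = K.index * Cfsg.charDegree θ :=
      Cfsg.Agent.Lib.Helper25.CohDescent.charDegree_indFun K
        (Cfsg.Agent.Lib.Helper78.IsIrrCharacter.isCharacter hθ)
    have hθpos : 0 < Cfsg.charDegree θ :=
      Cfsg.Agent.Lib.Helper78.IsIrrCharacter.charDegree_pos hθ
    refine ⟨Cfsg.charDegree (Cfsg.indFun K θ), hd, ⟨Cfsg.charDegree θ, hdeg⟩, ?_⟩
    have h1 : K.index ≤ Cfsg.charDegree (Cfsg.indFun K θ) := by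
      rw [hdeg]; exact Nat.le_mul_of_pos_right _ hθpos
    nlinarith

end Cfsg.Agent.S1524
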