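import Cfsg.Statements.S0887
import Cfsg.Agent.Lib.Helper75.RamDvd
open Cfsg.Agent.Lib.Helper75 Cfsg.Agent.Lib.Helper78 Cfsg.Agent.Lib.Helper77

set_option autoImplicit false
open Cfsg

namespace Cfsg.Agent.S0887

/-- Let N be a normal subgroup of the finite group G, χ an irreducible character of G and ϑ an irreducible character of N having nonzero inner product with the restriction of χ. If χ 1 = c and ϑ 1 = d as natural numbers, then d divides c and c / d divides the index of N. -/
theorem result {G : Type*} [Group G] [Fintype G] (N : Subgroup G) [N.Normal] [Fintype N] (χ : G → ℂ) (hχ : Cfsg.IsIrrCharacter G χ) (ϑ : N → ℂ) (hϑ : Cfsg.IsIrrCharacter N ϑ) (hcon : Cfsg.classInner (fun n : N => χ n) ϑ ≠ 0) (c d : ℕ) (hc : χ 1 = c) (hd : ϑ 1 = d) : d ∣ c ∧ c / d ∣ N.index := by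
  classical
  have hNT : N ≤ inertia N ϑ :=
    le_inertia N (IsCharacter.isClassFunction (IsIrrCharacter.isCharacter hϑ))
  let _ : Fintype (inertia N ϑ) := Fintype.ofFinite _
  obtain ⟨ψ, hψ, hind, hmult⟩ :=
    exists_indFun_eq_of_over N (inertia N ϑ) hNT hϑ (fun g => Iff.rfl) hχ hcon
  let _ : Fintype (N.subgroupOf (inertia N ϑ)) := Fintype.ofFinite _
  have hθ' : IsIrrCharacter (N.subgroupOf (inertia N ϑ)) (liftNT N (inertia N ϑ) ϑ) :=
    isIrrCharacter_liftNT N (inertia N ϑ) hNT hϑ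
  have hinv' : ∀ t : inertia N ϑ, conjFun (N.subgroupOf (inertia N ϑ)) t
      (liftNT N (inertia N ϑ) ϑ) = liftNT N (inertia N ϑ) ϑ :=
    conjFun_liftNT N (inertia N ϑ) (fun g hg => hg)
  have hcon' : classInner (fun m : N.subgroupOf (inertia N ϑ) => ψ m)
      (liftNT N (inertia N ϑ) ϑ) ≠ 0 := by
    rw [res_eq_comp N (inertia N ϑ) hNT ψ, liftNT_eq_comp N (inertia N ϑ) hNT,
      classInner_comp_equiv, hmult]
    exact hcon
  obtain ⟨e, he0, -, he⟩ :=
    res_eq_smul_of_invariant (N.subgroupOf (inertia N ϑ)) hψ hθ' hcon' hinv'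
  have hdvd : e ∣ (N.subgroupOf (inertia N ϑ)).index :=
    ramification_dvd_index (N.subgroupOf (inertia N ϑ)) hψ hθ' hinv' e he
  have hψ1 : ψ 1 = (e : ℂ) * (d : ℂ) := by
    have := congrFun he 1
    simp only [Pi.smul_apply, smul_eq_mul] at this
    have h2 : liftNT N (inertia N ϑ) ϑ 1 = (d : ℂ) := by
      unfold liftNT
      rw [← hd]
      congr 1
    rw [h2] at this
    exact this
  have hdeg : c = (inertia N ϑ).index * e * d := by
    have h1 := congrFun hind 1
    rw [indFun_one, hψ1, hc] at h1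
    have h2 : ((c : ℕ) : ℂ) = (((inertia N ϑ).index * e * d : ℕ) : ℂ) := by
      rw [← h1]; push_cast; ring
    exact_mod_cast h2
  have hdpos : 0 < d := by
    rcases Nat.eq_zero_or_pos d with h0 | h
    · exfalso
      have h1 := IsCharacter.apply_one_eq_charDegree (IsIrrCharacter.isCharacter hϑ)
      have h2 := IsIrrCharacter.charDegree_pos hϑ
      rw [hd, h0] at h1
      have h3 : charDegree ϑ = 0 := by exact_mod_cast h1.symm
      omega
    · exact h
  refine ⟨⟨(inertia N ϑ).index * e, by rw [hdeg]; ring⟩, ?_⟩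
  rw [hdeg, Nat.mul_div_cancel _ hdpos, ← Subgroup.relIndex_mul_index hNT, mul_comm]
  exact Nat.mul_dvd_mul hdvd (dvd_refl _)

end Cfsg.Agent.S0887
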