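-- Statement S4457 (Isaacs 12.5: groups with two character degrees), by helper80.
import Cfsg.Statements.S4457
import Cfsg.Agent.Lib.Helper80.TwoDeg

set_option autoImplicit false
open Cfsg

namespace Cfsg.Agent.S4457

/-- Let G be a finite group whose irreducible character degrees are exactly 1 and m (m ≠ 1). Then either G has an abelian normal subgroup of index m, or m is a power of a prime p and G is the direct product of a p-group and an abelian group: there are normal subgroups P and A with P a p-group, A abelian, P ⊓ A = 1 and P ⊔ A = G. -/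
theorem result {G : Type*} [Group G] [Finite G] (m : ℕ) (hcd : ∀ χ : Cfsg.IrrCharacter G, Cfsg.charDegree (χ : G → ℂ) = 1 ∨ Cfsg.charDegree (χ : G → ℂ) = m) (hm : ∃ χ : Cfsg.IrrCharacter G, Cfsg.charDegree (χ : G → ℂ) = m) (hm1 : m ≠ 1) : (∃ A : Subgroup G, A.Normal ∧ (∀ a ∈ A, ∀ b ∈ A, a * b = b * a) ∧ A.index = m) ∨ ∃ p e : ℕ, p.Prime ∧ m = p ^ e ∧ ∃ P A : Subgroup G, P.Normal ∧ A.Normal ∧ IsPGroup p P ∧ (∀ a ∈ A, ∀ b ∈ A, a * b = b * a) ∧ P ⊓ A = ⊥ ∧ P ⊔ A = ⊤ := by
  classical
  let _ : Fintype G := Fintype.ofFinite G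
  by_cases hpp : ∃ p e : ℕ, p.Prime ∧ m = p ^ e
  · obtain ⟨p, e, hp, hme⟩ := hpp
    haveI : Fact p.Prime := ⟨hp⟩
    have hpm : p ∣ m := by
      rw [hme]
      apply dvd_pow_self
      rintro rfl
      exact hm1 (by rw [hme, pow_zero])
    obtain ⟨N, hNn, hNp, k, hk⟩ := Cfsg.Agent.S4456.result p hp
      (fun χ hχ => by rw [(hcd χ).resolve_left hχ]; exact hpm)
    rcases Cfsg.Agent.Lib.Helper80.two_deg_prime_power m hcd p e hme N hNp k hk with h | h
    · left; exact h
    · right; exact ⟨p, e, hp, hme, h⟩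
  · left
    exact Cfsg.Agent.Lib.Helper80.two_deg_general m hcd hm hm1 hpp

end Cfsg.Agent.S4457
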