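import Cfsg.Statements.S1473
import Cfsg.Agent.Lib.Helper52.CNBasic
import Cfsg.Agent.Lib.Helper1.MinimalNormal
import Cfsg.Agent.Lib.Helper1.PCore
import Cfsg.Agent.Lib.Helper54.Coprime
-- import your own Cfsg.Agent.* helpers here

set_option autoImplicit false
open Cfsg

namespace Cfsg.Agent.S1473

open Cfsg.Agent.Lib.Helper52

section Aux

theorem centralizer_le_centralizer_pow {X : Type*} [Group X] (x : X) (n : ℕ) :
    Subgroup.centralizer ({x} : Set X) ≤ Subgroup.centralizer ({x ^ n} : Set X) := by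
  intro d hd
  rw [Subgroup.mem_centralizer_singleton_iff] at hd ⊢
  exact (Commute.pow_right (show Commute d x from hd) n).eq

theorem le_normalizer_centralizer_of_le_normalizer {X : Type*} [Group X] {A P : Subgroup X}
    (h : A ≤ Subgroup.normalizer (P : Set X)) :
    A ≤ Subgroup.normalizer ((Subgroup.centralizer (P : Set X) : Subgroup X) : Set X) := by
  have key : ∀ b ∈ Subgroup.normalizer (P : Set X), ∀ c ∈ Subgroup.centralizer (P : Set X),
      b * c * b⁻¹ ∈ Subgroup.centralizer (P : Set X) := by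
    intro b hb c hc
    rw [Subgroup.mem_centralizer_iff]
    intro s hs
    have hs' : b⁻¹ * s * b ∈ P := by
      rw [Subgroup.mem_normalizer_iff.mp hb (b⁻¹ * s * b)]
      have : b * (b⁻¹ * s * b) * b⁻¹ = s := by group
      rw [this]; exact hs
    have hcomm := Subgroup.mem_centralizer_iff.mp hc _ hs'
    calc s * (b * c * b⁻¹) = b * ((b⁻¹ * s * b) * c) * b⁻¹ := by group
      _ = b * (c * (b⁻¹ * s * b)) * b⁻¹ := by rw [hcomm]
      _ = b * c * b⁻¹ * s := by group
  intro a ha
  rw [Subgroup.mem_normalizer_iff]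
  intro c
  constructor
  · intro hc
    exact key a (h ha) c hc
  · intro hc
    have := key a⁻¹ (Subgroup.inv_mem _ (h ha)) _ hc
    have e : a⁻¹ * (a * c * a⁻¹) * a⁻¹⁻¹ = c := by group
    rwa [e] at this

variable {G : Type*} [Group G] [Finite G]

/-- The case of an element of order `p` in `G ⧸ M`, `M` a normal `p`-subgroup. -/
theorem case_eq (hCN : Cfsg.IsCNGroup G) (p : ℕ) [hp : Fact p.Prime] (M : Subgroup G) [M.Normal]
    (hM : IsPGroup p M) (hM1 : M ≠ ⊥) (xb : G ⧸ M) (hxb : orderOf xb = p) :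
    Group.IsNilpotent (Subgroup.centralizer ({xb} : Set (G ⧸ M))) := by
  have hπs : Function.Surjective (QuotientGroup.mk' M) := QuotientGroup.mk'_surjective M
  have hxb1 : xb ≠ 1 := by
    intro h
    rw [h, orderOf_one] at hxb
    exact hp.out.one_lt.ne hxb
  obtain ⟨y, hy⟩ := QuotientGroup.mk_surjective xb
  have hmem1 : ∀ m ∈ M, ((m : G) : G ⧸ M) = 1 := fun m hm => (QuotientGroup.eq_one_iff m).mpr hm
  -- the subgroups `C` and `P`
  have hCdef : ∀ c : G, c ∈ (Subgroup.centralizer ({xb} : Set (G ⧸ M))).comap (QuotientGroup.mk' M) ↔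
      (c : G ⧸ M) * xb = xb * (c : G ⧸ M) := by
    intro c
    rw [Subgroup.mem_comap, Subgroup.mem_centralizer_singleton_iff]
    rfl
  have hPdef : ∀ c : G, c ∈ (Subgroup.zpowers xb).comap (QuotientGroup.mk' M) ↔
      (c : G ⧸ M) ∈ Subgroup.zpowers xb := by
    intro c
    rw [Subgroup.mem_comap]
    rfl
  have hP : IsPGroup p ((Subgroup.zpowers xb).comap (QuotientGroup.mk' M)) := by
    apply IsPGroup.comap_of_ker_isPGroup
    · exact IsPGroup.of_card (n := 1) (by rw [Nat.card_zpowers, hxb, pow_one])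
    · rw [QuotientGroup.ker_mk']; exact hM
  have hCP : (Subgroup.centralizer ({xb} : Set (G ⧸ M))).comap (QuotientGroup.mk' M) ≤
      Subgroup.normalizer (((Subgroup.zpowers xb).comap (QuotientGroup.mk' M) : Subgroup G) : Set G) := by
    refine le_trans ?_ (Subgroup.le_normalizer_comap (QuotientGroup.mk' M))
    apply Subgroup.comap_mono
    refine le_trans ?_ (Subgroup.centralizer_le_normalizer _)
    intro d hd
    rw [Subgroup.mem_centralizer_singleton_iff] at hd
    rw [Subgroup.mem_centralizer_iff]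
    intro t ht
    obtain ⟨i, rfl⟩ := Subgroup.mem_zpowers_iff.mp ht
    exact ((show Commute d xb from hd).zpow_right i).eq.symm
  obtain ⟨z0, hz0M, hz01, hz0P⟩ := exists_ne_one_centralized p
    ((Subgroup.zpowers xb).comap (QuotientGroup.mk' M)) M hP hM
    (by rw [Subgroup.normalizer_eq_top]; exact le_top) hM1
  have hZ0ne : M ⊓ Subgroup.centralizer
      (((Subgroup.zpowers xb).comap (QuotientGroup.mk' M) : Subgroup G) : Set G) ≠ ⊥ := by
    intro hbot
    have : z0 ∈ M ⊓ Subgroup.centralizer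
        (((Subgroup.zpowers xb).comap (QuotientGroup.mk' M) : Subgroup G) : Set G) :=
      Subgroup.mem_inf.mpr ⟨hz0M, Subgroup.mem_centralizer_iff.mpr (fun s hs => hz0P s hs)⟩
    rw [hbot, Subgroup.mem_bot] at this
    exact hz01 this
  have hZ0p : IsPGroup p (M ⊓ Subgroup.centralizer
      (((Subgroup.zpowers xb).comap (QuotientGroup.mk' M) : Subgroup G) : Set G) : Subgroup G) :=
    hM.to_le inf_le_left
  have hCZ0 : (Subgroup.centralizer ({xb} : Set (G ⧸ M))).comap (QuotientGroup.mk' M) ≤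
      Subgroup.normalizer ((M ⊓ Subgroup.centralizer
      (((Subgroup.zpowers xb).comap (QuotientGroup.mk' M) : Subgroup G) : Set G) : Subgroup G) : Set G) := by
    apply Cfsg.Agent.Lib.Helper54.le_normalizer_inf
    · rw [Subgroup.normalizer_eq_top]; exact le_top
    · exact le_normalizer_centralizer_of_le_normalizer hCP
  let S : Sylow p ((Subgroup.centralizer ({xb} : Set (G ⧸ M))).comap (QuotientGroup.mk' M)) := default
  have hS'p : IsPGroup p ((S : Subgroup _).map
      ((Subgroup.centralizer ({xb} : Set (G ⧸ M))).comap (QuotientGroup.mk' M)).subtype) :=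
    S.isPGroup'.map _
  have hS'C : (S : Subgroup _).map
      ((Subgroup.centralizer ({xb} : Set (G ⧸ M))).comap (QuotientGroup.mk' M)).subtype ≤
      (Subgroup.centralizer ({xb} : Set (G ⧸ M))).comap (QuotientGroup.mk' M) :=
    Subgroup.map_subtype_le _
  obtain ⟨z, hzZ0, hz1, hzS⟩ := exists_ne_one_centralized p _ _ hS'p hZ0p (hS'C.trans hCZ0) hZ0ne
  obtain ⟨hzM, hzP⟩ := Subgroup.mem_inf.mp hzZ0
  have hCz : (Subgroup.centralizer ({xb} : Set (G ⧸ M))).comap (QuotientGroup.mk' M) ≤
      Subgroup.centralizer ({z} : Set G) := by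
    apply le_of_sylow_le_of_forall_primePow p _ _ S
    · intro s hs
      rw [Subgroup.mem_centralizer_singleton_iff]
      exact hzS s hs
    · intro c hc r k hr hrp hck
      have : Fact r.Prime := ⟨hr⟩
      rw [Subgroup.mem_centralizer_singleton_iff]
      have hcD := (hCdef c).mp hc
      have hMr : (Nat.card M).Coprime r := by
        obtain ⟨a, ha⟩ := IsPGroup.iff_card.mp hM
        rw [ha]
        exact Nat.Coprime.pow_left a ((Nat.coprime_primes hp.out hr).mpr (Ne.symm hrp))
      obtain ⟨m, hm, hcomm⟩ := exists_mul_comm_of_quotient_comm M hMr c y hck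
        (by rw [hy]; exact hcD)
      have hy'π : ((y * m : G) : G ⧸ M) = xb := by
        rw [QuotientGroup.mk_mul, hy, hmem1 m hm, mul_one]
      have hy'1 : y * m ≠ 1 := by
        intro h
        rw [h] at hy'π
        exact hxb1 hy'π.symm
      have hy'P : y * m ∈ (Subgroup.zpowers xb).comap (QuotientGroup.mk' M) := by
        rw [hPdef, hy'π]
        exact Subgroup.mem_zpowers xb
      have hcL : c ∈ Subgroup.centralizer ({y * m} : Set G) :=
        Subgroup.mem_centralizer_singleton_iff.mpr hcomm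
      have hzL : z ∈ Subgroup.centralizer ({y * m} : Set G) := by
        rw [Subgroup.mem_centralizer_singleton_iff]
        exact ((Subgroup.mem_centralizer_iff.mp hzP) (y * m) hy'P).symm
      obtain ⟨j, hj⟩ := (IsPGroup.iff_orderOf.mp hM) ⟨z, hzM⟩
      rw [Subgroup.orderOf_mk] at hj
      exact comm_of_coprime_of_mem_nilpotent _ (hCN (y * m) hy'1) hcL hzL (by
        rw [hck, hj]
        exact Nat.Coprime.pow _ _ ((Nat.coprime_primes hr hp.out).mpr hrp))
  have hCnil : Group.IsNilpotent
      ((Subgroup.centralizer ({xb} : Set (G ⧸ M))).comap (QuotientGroup.mk' M)) :=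
    Cfsg.Agent.Lib.Helper65.isNilpotent_of_le hCz (hCN z hz1)
  have hmap := Subgroup.map_comap_eq_self_of_surjective hπs
    (Subgroup.centralizer ({xb} : Set (G ⧸ M)))
  rw [← hmap]
  exact isNilpotent_map _ _ hCnil

/-- The case of an element of prime order `q ≠ p` in `G ⧸ M`, `M` a normal `p`-subgroup. -/
theorem case_ne (hCN : Cfsg.IsCNGroup G) (p : ℕ) [hp : Fact p.Prime] (M : Subgroup G) [M.Normal]
    (hM : IsPGroup p M) (xb : G ⧸ M) (q : ℕ) [hq : Fact q.Prime] (hqp : q ≠ p)
    (hxb : orderOf xb = q) :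
    Group.IsNilpotent (Subgroup.centralizer ({xb} : Set (G ⧸ M))) := by
  obtain ⟨x0, hx0⟩ := QuotientGroup.mk_surjective xb
  obtain ⟨a, ha⟩ := IsPGroup.iff_card.mp hM
  have hmem1 : ∀ m ∈ M, ((m : G) : G ⧸ M) = 1 := fun m hm => (QuotientGroup.eq_one_iff m).mpr hm
  have hx0q : x0 ^ q ∈ M := by
    rw [← QuotientGroup.eq_one_iff (N := M), QuotientGroup.mk_pow, hx0, ← hxb, pow_orderOf_eq_one]
  have hxq : (x0 ^ (p ^ a)) ^ q = 1 := by
    have h1 : (⟨x0 ^ q, hx0q⟩ : M) ^ (p ^ a) = 1 := by rw [← ha]; exact pow_card_eq_one'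
    have h2 := congrArg Subtype.val h1
    simp only [Subgroup.coe_pow, Subgroup.coe_one] at h2
    rw [← pow_mul, mul_comm, pow_mul]
    exact h2
  have hxb2 : ((x0 ^ (p ^ a) : G) : G ⧸ M) = xb ^ (p ^ a) := by rw [QuotientGroup.mk_pow, hx0]
  have hxb2ne : xb ^ (p ^ a) ≠ 1 := by
    intro h
    have h1 := orderOf_dvd_of_pow_eq_one h
    rw [hxb] at h1
    exact hqp ((Nat.prime_dvd_prime_iff_eq hq.out hp.out).mp (hq.out.dvd_of_dvd_pow h1))
  have hx1 : x0 ^ (p ^ a) ≠ 1 := by
    intro h
    rw [h] at hxb2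
    exact hxb2ne hxb2.symm
  have hxo : orderOf (x0 ^ (p ^ a)) = q := by
    have h1 := orderOf_dvd_of_pow_eq_one hxq
    rcases (Nat.dvd_prime hq.out).mp h1 with h | h
    · exact absurd (orderOf_eq_one_iff.mp h) hx1
    · exact h
  apply Cfsg.Agent.Lib.Helper65.isNilpotent_of_le (centralizer_le_centralizer_pow xb (p ^ a))
  have hN := hCN _ hx1
  refine Cfsg.Agent.Lib.Helper65.isNilpotent_of_le ?_ (isNilpotent_map (QuotientGroup.mk' M) _ hN)
  intro d hd
  obtain ⟨g, rfl⟩ := QuotientGroup.mk_surjective d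
  rw [Subgroup.mem_centralizer_singleton_iff] at hd
  have hMq : (Nat.card M).Coprime q := by
    rw [ha]
    exact Nat.Coprime.pow_left a ((Nat.coprime_primes hp.out hq.out).mpr (Ne.symm hqp))
  obtain ⟨m, hm, hcomm⟩ := exists_mul_comm_of_quotient_comm M hMq (x0 ^ (p ^ a)) g (k := 1)
    (by rw [hxo, pow_one]) (by rw [hxb2]; exact hd.symm)
  refine ⟨g * m, ?_, ?_⟩
  · rw [SetLike.mem_coe, Subgroup.mem_centralizer_singleton_iff]
    exact hcomm.symm
  · show ((g * m : G) : G ⧸ M) = (g : G ⧸ M)
    rw [QuotientGroup.mk_mul, hmem1 m hm, mul_one]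

/-- The quotient of a CN-group by a nontrivial normal `p`-subgroup is a CN-group. -/
theorem core (hCN : Cfsg.IsCNGroup G) (p : ℕ) [hp : Fact p.Prime] (M : Subgroup G) [M.Normal]
    (hM : IsPGroup p M) (hM1 : M ≠ ⊥) : Cfsg.IsCNGroup (G ⧸ M) := by
  intro xb hxb1
  have hox : orderOf xb ≠ 1 := by rwa [Ne, orderOf_eq_one_iff]
  obtain ⟨q, hq, hqx⟩ := Nat.exists_prime_and_dvd hox
  have : Fact q.Prime := ⟨hq⟩
  have hxb1o : orderOf (xb ^ (orderOf xb / q)) = q :=
    orderOf_pow_orderOf_div (orderOf_pos xb).ne' hqx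
  apply Cfsg.Agent.Lib.Helper65.isNilpotent_of_le
    (centralizer_le_centralizer_pow xb (orderOf xb / q))
  by_cases hqp : q = p
  · subst hqp
    exact case_eq hCN q M hM hM1 _ hxb1o
  · exact case_ne hCN p M hM _ q hqp hxb1o

/-- A nontrivial solvable normal subgroup contains a nontrivial normal `p`-subgroup of `G`. -/
theorem exists_normal_pSubgroup_le (H : Subgroup G) [H.Normal] (hH : Group.IsSolvable H)
    (hH1 : H ≠ ⊥) :
    ∃ (p : ℕ) (M : Subgroup G), p.Prime ∧ M.Normal ∧ M ≤ H ∧ IsPGroup p M ∧ M ≠ ⊥ := by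
  have : Nontrivial H := (Subgroup.nontrivial_iff_ne_bot H).mpr hH1
  obtain ⟨p, R, hp, hRn, hR1, hRp, -⟩ :=
    Cfsg.Agent.Lib.Helper1.exists_normal_pSubgroup_of_isSolvable (G := H)
  refine ⟨p, (Cfsg.pCore p H).map H.subtype, hp, ?_, Subgroup.map_subtype_le _, ?_, ?_⟩
  · exact ConjAct.normal_of_characteristic_of_normal
  · exact (Cfsg.Agent.Lib.Helper1.pCore_isPGroup p).map _
  · intro hbot
    have hle : R ≤ Cfsg.pCore p H := Cfsg.Agent.Lib.Helper1.le_pCore hRn hRp
    have hb : Cfsg.pCore p H = ⊥ := by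
      rwa [Subgroup.map_eq_bot_iff_of_injective _ H.subtype_injective] at hbot
    rw [hb, le_bot_iff] at hle
    exact hR1 hle

end Aux

universe u

theorem main : ∀ (n : ℕ) (G : Type u) [Group G] [Finite G], Cfsg.IsCNGroup G →
    ∀ (H : Subgroup G) [H.Normal], Group.IsSolvable H → Nat.card H = n →
    Cfsg.IsCNGroup (G ⧸ H) := by
  intro n
  induction n using Nat.strong_induction_on with
  | _ n ih =>
  intro G _ _ hCN H _ hH hn
  by_cases hH1 : H = ⊥
  · subst hH1
    exact isCNGroup_of_mulEquiv (QuotientGroup.quotientBot (G := G)).symm hCN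
  · obtain ⟨p, M, hp, hMn, hMH, hMp, hM1⟩ := exists_normal_pSubgroup_le H hH hH1
    have : Fact p.Prime := ⟨hp⟩
    have hcore : Cfsg.IsCNGroup (G ⧸ M) := core hCN p M hMp hM1
    have hH'n : (H.map (QuotientGroup.mk' M)).Normal :=
      Subgroup.Normal.map inferInstance _ (QuotientGroup.mk'_surjective M)
    have hH's : Group.IsSolvable (H.map (QuotientGroup.mk' M)) := by
      have : Group.IsSolvable H := hH
      exact Group.isSolvable_of_surjective ((QuotientGroup.mk' M).subgroupMap_surjective H)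
    have hcard : Nat.card (H.map (QuotientGroup.mk' M)) < n := by
      have hidx : (H.map (QuotientGroup.mk' M)).index = H.index :=
        Subgroup.index_map_eq H (QuotientGroup.mk'_surjective M)
          (by rw [QuotientGroup.ker_mk']; exact hMH)
      have h1 := (H.map (QuotientGroup.mk' M)).card_mul_index
      have h2 := H.card_mul_index
      have h3 := Subgroup.card_eq_card_quotient_mul_card_subgroup M
      have hM2 : 1 < Nat.card M := (Subgroup.one_lt_card_iff_ne_bot M).mpr hM1
      have hidxpos : 0 < H.index := Nat.pos_of_ne_zero Subgroup.index_ne_zero_of_finite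
      have h5 : Nat.card H * H.index =
          Nat.card (H.map (QuotientGroup.mk' M)) * Nat.card M * H.index := by
        rw [h2, h3, ← h1, hidx]; ring
      have h4 : Nat.card H = Nat.card (H.map (QuotientGroup.mk' M)) * Nat.card M :=
        Nat.eq_of_mul_eq_mul_right hidxpos h5
      have hpos : 0 < Nat.card (H.map (QuotientGroup.mk' M)) := Nat.card_pos
      rw [← hn, h4]
      nlinarith
    have hIH := ih _ hcard (G ⧸ M) hcore (H.map (QuotientGroup.mk' M)) hH's rfl
    exact isCNGroup_of_mulEquiv (QuotientGroup.quotientQuotientEquivQuotient M H hMH) hIH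

/-- Let G be a finite group in which the centralizer of every non-identity element is nilpotent, and H a solvable normal subgroup of G. Then in G/H the centralizer of every non-identity element is nilpotent. -/
theorem result {G : Type*} [Group G] [Finite G] (hCN : Cfsg.IsCNGroup G) (H : Subgroup G) [H.Normal] (hH : Group.IsSolvable H) :
    Cfsg.IsCNGroup (G ⧸ H) := by
  exact main _ G hCN H hH rfl

end Cfsg.Agent.S1473
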