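import Cfsg.Statements.S1476
import Cfsg.Agent.Lib.Helper52.CNFpf
import Cfsg.Agent.Lib.Helper1.Fitting
import Cfsg.Agent.Lib.Helper1.PCore
import Cfsg.Agent.Lib.Helper1.Hall
import Cfsg.Agent.Lib.Helper1.HallConj
import Cfsg.Agent.Lib.Helper35.FrobSylow
import Cfsg.Agent.S0016
import Cfsg.Agent.S0040
import Cfsg.Agent.S0044
import Cfsg.Agent.S1473
import Cfsg.Agent.S1474

set_option autoImplicit false
open Cfsg

namespace Cfsg.Agent.S1476

open Cfsg.Agent.Lib.Helper52

section Aux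

variable {G : Type*} [Group G] [Finite G]

/-- In a non-nilpotent solvable CN-group without nontrivial normal Sylow subgroups, the Fitting
subgroup is a nontrivial `p`-group. -/
theorem fitting_isPGroup [Group.IsSolvable G] (hCN : Cfsg.IsCNGroup G)
    (hnn : ¬ Group.IsNilpotent G)
    (hns : ∀ (r : ℕ) [Fact r.Prime] (R : Sylow r G), (R : Subgroup G).Normal →
      (R : Subgroup G) = ⊥) :
    ∃ p : ℕ, p.Prime ∧ IsPGroup p (Cfsg.fittingSubgroup G) ∧ Cfsg.fittingSubgroup G ≠ ⊥ := by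
  have hF := Cfsg.Agent.Lib.Helper1.fittingSubgroup_isNilpotent (G := G)
  have hFn : (Cfsg.fittingSubgroup G).Normal := Cfsg.Agent.Lib.Helper1.fittingSubgroup_normal
  have hF1 : Cfsg.fittingSubgroup G ≠ ⊥ := by
    intro hbot
    apply hnn
    have h44 := Cfsg.Agent.S0044.result (G := G)
    have hsub : Subsingleton G := by
      refine ⟨fun a b => ?_⟩
      have h1 : ∀ g : G, g = 1 := by
        intro g
        have hg : g ∈ Subgroup.centralizer (Cfsg.fittingSubgroup G : Set G) := by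
          rw [Subgroup.mem_centralizer_iff]
          intro h hh
          rw [hbot, SetLike.mem_coe, Subgroup.mem_bot] at hh
          rw [hh, one_mul, mul_one]
        have := h44 hg
        rwa [hbot, Subgroup.mem_bot] at this
      rw [h1 a, h1 b]
    infer_instance
  have hcard1 : Nat.card (Cfsg.fittingSubgroup G) ≠ 1 := by
    rw [Ne, Subgroup.card_eq_one]; exact hF1
  obtain ⟨p, hp, hpF⟩ := Nat.exists_prime_and_dvd hcard1
  have : Fact p.Prime := ⟨hp⟩
  refine ⟨p, hp, ?_, hF1⟩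
  apply IsPGroup.of_card (n := (Nat.card (Cfsg.fittingSubgroup G)).primeFactorsList.length)
  apply Nat.eq_prime_pow_of_unique_prime_dvd Nat.card_pos.ne'
  intro q hq hqF
  by_contra hqp
  have : Fact q.Prime := ⟨hq⟩
  obtain ⟨P0, hP0n, hP0F, hP0p, hP01, hP0mem⟩ := exists_normal_pElements _ hF p hpF
  obtain ⟨Q0, hQ0n, hQ0F, hQ0q, hQ01, hQ0mem⟩ := exists_normal_pElements _ hF q hqF
  let S : Sylow p G := default
  obtain ⟨z, hzP0, hz1, hzS⟩ := exists_ne_one_centralized p (S : Subgroup G) P0 S.isPGroup' hP0p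
    (by rw [Subgroup.normalizer_eq_top]; exact le_top) hP01
  have hpq : ∀ i j : ℕ, (p ^ i).Coprime (q ^ j) := fun i j =>
    Nat.Coprime.pow _ _ ((Nat.coprime_primes hp hq).mpr (Ne.symm hqp))
  have hSw : ∀ s ∈ (S : Subgroup G), ∀ w ∈ Q0, s * w = w * s := by
    intro s hs w hw
    obtain ⟨i, hi⟩ := (IsPGroup.iff_orderOf.mp S.isPGroup') ⟨s, hs⟩
    rw [Subgroup.orderOf_mk] at hi
    obtain ⟨j, hj⟩ := (IsPGroup.iff_orderOf.mp hQ0q) ⟨w, hw⟩
    rw [Subgroup.orderOf_mk] at hj
    obtain ⟨i', hi'⟩ := (IsPGroup.iff_orderOf.mp hP0p) ⟨z, hzP0⟩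
    rw [Subgroup.orderOf_mk] at hi'
    have hzw : z * w = w * z :=
      comm_of_coprime_of_mem_nilpotent _ hF (hP0F hzP0) (hQ0F hw) (by rw [hi', hj]; exact hpq _ _)
    have hsL : s ∈ Subgroup.centralizer ({z} : Set G) :=
      Subgroup.mem_centralizer_singleton_iff.mpr (hzS s hs)
    have hwL : w ∈ Subgroup.centralizer ({z} : Set G) :=
      Subgroup.mem_centralizer_singleton_iff.mpr hzw.symm
    exact comm_of_coprime_of_mem_nilpotent _ (hCN z hz1) hsL hwL (by rw [hi, hj]; exact hpq _ _)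
  have hSC : (S : Subgroup G) ≤ Subgroup.centralizer (Q0 : Set G) := by
    intro s hs
    rw [Subgroup.mem_centralizer_iff]
    intro w hw
    exact (hSw s hs w hw).symm
  have hCn : (Subgroup.centralizer (Q0 : Set G)).Normal := inferInstance
  obtain ⟨w0, hw0, hw01⟩ := (Subgroup.bot_or_exists_ne_one Q0).resolve_left hQ01
  have hCle : Subgroup.centralizer (Q0 : Set G) ≤ Subgroup.centralizer ({w0} : Set G) := by
    apply Subgroup.centralizer_le
    intro x hx
    rw [Set.mem_singleton_iff] at hx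
    rw [hx]; exact hw0
  have hCnil : Group.IsNilpotent (Subgroup.centralizer (Q0 : Set G)) :=
    Cfsg.Agent.Lib.Helper65.isNilpotent_of_le hCle (hCN w0 hw01)
  have hCF : Subgroup.centralizer (Q0 : Set G) ≤ Cfsg.fittingSubgroup G :=
    Cfsg.Agent.Lib.Helper1.le_fittingSubgroup hCn hCnil
  have hSP0 : (S : Subgroup G) ≤ P0 := by
    intro s hs
    obtain ⟨i, hi⟩ := (IsPGroup.iff_orderOf.mp S.isPGroup') ⟨s, hs⟩
    rw [Subgroup.orderOf_mk] at hi
    exact hP0mem s (hCF (hSC hs)) i hi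
  have heq : P0 = (S : Subgroup G) := S.is_maximal' hP0p hSP0
  have hSn : (S : Subgroup G).Normal := by rw [← heq]; exact hP0n
  have hSbot := hns p S hSn
  rw [← heq] at hSbot
  exact hP01 hSbot

/-- Elements of order prime to `p` act without fixed points on the Fitting subgroup, when it is a
`p`-group (solvable CN-group). -/
theorem fpf_of_coprime [Group.IsSolvable G] (hCN : Cfsg.IsCNGroup G) (p : ℕ) [hp : Fact p.Prime]
    (hFp : IsPGroup p (Cfsg.fittingSubgroup G)) (hF1 : Cfsg.fittingSubgroup G ≠ ⊥) (g : G)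
    (hg1 : g ≠ 1) (hgp : (orderOf g).Coprime p) :
    Cfsg.fittingSubgroup G ⊓ Subgroup.centralizer ({g} : Set G) = ⊥ := by
  have hF := Cfsg.Agent.Lib.Helper1.fittingSubgroup_isNilpotent (G := G)
  rw [Subgroup.eq_bot_iff_forall]
  intro f hf
  by_contra hf1
  obtain ⟨hfF, hfC⟩ := Subgroup.mem_inf.mp hf
  rw [Subgroup.mem_centralizer_singleton_iff] at hfC
  have hox : orderOf g ≠ 1 := by rwa [Ne, orderOf_eq_one_iff]
  obtain ⟨r, hr, hrg⟩ := Nat.exists_prime_and_dvd hox
  have hgo : orderOf (g ^ (orderOf g / r)) = r :=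
    orderOf_pow_orderOf_div (orderOf_pos g).ne' hrg
  have hrp : r ≠ p := by
    rintro rfl
    have := Nat.dvd_gcd hrg (dvd_refl r)
    rw [hgp] at this
    exact hr.one_lt.ne' (Nat.dvd_one.mp this)
  have hg'1 : g ^ (orderOf g / r) ≠ 1 := by
    intro h
    rw [h, orderOf_one] at hgo
    exact hr.one_lt.ne hgo
  have hcomm : g ^ (orderOf g / r) * f = f * g ^ (orderOf g / r) :=
    ((Commute.pow_right (show Commute f g from hfC) _)).eq.symm
  have hpF : p ∣ Nat.card (Cfsg.fittingSubgroup G) := by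
    obtain ⟨a, ha⟩ := IsPGroup.iff_card.mp hFp
    rw [ha]
    apply dvd_pow_self
    rintro rfl
    rw [pow_zero] at ha
    exact hF1 (Subgroup.card_eq_one.mp ha)
  obtain ⟨u, huF, huo, huc⟩ := exists_central_orderOf_eq_prime _ hF p hpF
  have hu1 : u ≠ 1 := by
    intro h
    rw [h, orderOf_one] at huo
    exact hp.out.one_lt.ne huo
  have hrp' : r.Coprime p := (Nat.coprime_primes hr hp.out).mpr hrp
  have hg'L : g ^ (orderOf g / r) ∈ Subgroup.centralizer ({f} : Set G) :=
    Subgroup.mem_centralizer_singleton_iff.mpr hcomm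
  have huL : u ∈ Subgroup.centralizer ({f} : Set G) :=
    Subgroup.mem_centralizer_singleton_iff.mpr (huc f hfF)
  have hgu : g ^ (orderOf g / r) * u = u * g ^ (orderOf g / r) :=
    comm_of_coprime_of_mem_nilpotent _ (hCN f hf1) hg'L huL (by rw [hgo, huo]; exact hrp')
  have hg'C : g ^ (orderOf g / r) ∈ Subgroup.centralizer (Cfsg.fittingSubgroup G : Set G) := by
    rw [Subgroup.mem_centralizer_iff]
    intro x hx
    obtain ⟨i, hi⟩ := (IsPGroup.iff_orderOf.mp hFp) ⟨x, hx⟩
    rw [Subgroup.orderOf_mk] at hi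
    have hxL : x ∈ Subgroup.centralizer ({u} : Set G) :=
      Subgroup.mem_centralizer_singleton_iff.mpr (huc x hx).symm
    have hgL : g ^ (orderOf g / r) ∈ Subgroup.centralizer ({u} : Set G) :=
      Subgroup.mem_centralizer_singleton_iff.mpr hgu
    exact comm_of_coprime_of_mem_nilpotent _ (hCN u hu1) hxL hgL (by
      rw [hi, hgo]; exact (Nat.Coprime.pow_right i hrp').symm)
  have hg'F := Cfsg.Agent.S0044.result (G := G) hg'C
  obtain ⟨i, hi⟩ := (IsPGroup.iff_orderOf.mp hFp) ⟨_, hg'F⟩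
  rw [Subgroup.orderOf_mk, hgo] at hi
  have : r ∣ p ^ i := by rw [← hi]
  exact hrp ((Nat.prime_dvd_prime_iff_eq hr hp.out).mp (hr.dvd_of_dvd_pow this))

/-- `O_p(G / F(G)) = 1` when `F(G)` is a `p`-group. -/
theorem pCore_quotient_eq_bot (p : ℕ) [hp : Fact p.Prime]
    (hFp : IsPGroup p (Cfsg.fittingSubgroup G)) :
    Cfsg.pCore p (G ⧸ Cfsg.fittingSubgroup G) = ⊥ := by
  have hNn : (Cfsg.pCore p (G ⧸ Cfsg.fittingSubgroup G)).Normal :=
    Cfsg.Agent.Lib.Helper1.pCore_normal p
  have hNp : IsPGroup p (Cfsg.pCore p (G ⧸ Cfsg.fittingSubgroup G)) :=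
    Cfsg.Agent.Lib.Helper1.pCore_isPGroup p
  have hcn : ((Cfsg.pCore p (G ⧸ Cfsg.fittingSubgroup G)).comap
      (QuotientGroup.mk' (Cfsg.fittingSubgroup G))).Normal := hNn.comap _
  have hcp : IsPGroup p ((Cfsg.pCore p (G ⧸ Cfsg.fittingSubgroup G)).comap
      (QuotientGroup.mk' (Cfsg.fittingSubgroup G))) := by
    apply hNp.comap_of_ker_isPGroup
    rw [QuotientGroup.ker_mk']; exact hFp
  have hle : (Cfsg.pCore p (G ⧸ Cfsg.fittingSubgroup G)).comap
      (QuotientGroup.mk' (Cfsg.fittingSubgroup G)) ≤ Cfsg.fittingSubgroup G :=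
    Cfsg.Agent.Lib.Helper1.le_fittingSubgroup hcn hcp.isNilpotent
  rw [eq_bot_iff]
  intro x hx
  obtain ⟨g, rfl⟩ := QuotientGroup.mk_surjective x
  rw [Subgroup.mem_bot]
  exact (QuotientGroup.eq_one_iff g).mpr (hle hx)

/-- `F(G / F(G))` is a `p'`-group when `F(G)` is a `p`-group. -/
theorem card_fitting_quotient_coprime (p : ℕ) [hp : Fact p.Prime]
    (hFp : IsPGroup p (Cfsg.fittingSubgroup G)) :
    (Nat.card (Cfsg.fittingSubgroup (G ⧸ Cfsg.fittingSubgroup G))).Coprime p := by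
  rw [Nat.coprime_comm, Nat.Prime.coprime_iff_not_dvd hp.out]
  intro hdvd
  have hA := Cfsg.Agent.Lib.Helper1.fittingSubgroup_isNilpotent (G := G ⧸ Cfsg.fittingSubgroup G)
  have hAn : (Cfsg.fittingSubgroup (G ⧸ Cfsg.fittingSubgroup G)).Normal :=
    Cfsg.Agent.Lib.Helper1.fittingSubgroup_normal
  obtain ⟨P, hPn, -, hPp, hP1, -⟩ := exists_normal_pElements _ hA p hdvd
  have := Cfsg.Agent.Lib.Helper1.le_pCore hPn hPp
  rw [pCore_quotient_eq_bot p hFp, le_bot_iff] at this
  exact hP1 this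

/-- Uniqueness of involutions in a nilpotent subgroup acting without fixed points. -/
theorem involution_unique (F B : Subgroup G) [F.Normal] (hF1 : F ≠ ⊥)
    (hfpf : ∀ b ∈ B, b ≠ 1 → F ⊓ Subgroup.centralizer ({b} : Set G) = ⊥)
    (hBnil : Group.IsNilpotent B) {t1 t2 : G} (h1 : t1 ∈ B) (h2 : t2 ∈ B)
    (o1 : orderOf t1 = 2) (o2 : orderOf t2 = 2) : t1 = t2 := by
  have : Fact (Nat.Prime 2) := ⟨Nat.prime_two⟩
  obtain ⟨T, hTB, hT, hTmem⟩ := exists_pSubgroup_of_nilpotent B hBnil 2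
  have ht1T : t1 ∈ T := hTmem t1 h1 1 (by rw [o1, pow_one])
  have ht2T : t2 ∈ T := hTmem t2 h2 1 (by rw [o2, pow_one])
  have hP : IsPGroup 2 (T.subgroupOf B) := hT.of_equiv (Subgroup.subgroupOfEquivOfLe hTB).symm
  have c1 : Nat.card (Subgroup.zpowers
      (⟨⟨t1, h1⟩, Subgroup.mem_subgroupOf.mpr ht1T⟩ : T.subgroupOf B)) = 2 := by
    rw [Nat.card_zpowers, Subgroup.orderOf_mk, Subgroup.orderOf_mk, o1]
  have c2 : Nat.card (Subgroup.zpowers
      (⟨⟨t2, h2⟩, Subgroup.mem_subgroupOf.mpr ht2T⟩ : T.subgroupOf B)) = 2 := by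
    rw [Nat.card_zpowers, Subgroup.orderOf_mk, Subgroup.orderOf_mk, o2]
  have heq := Cfsg.Agent.Lib.Helper35.unique_subgroup_of_order_p_of_fpf F B hF1 hfpf 2
    (T.subgroupOf B) hP _ _ c1 c2
  have hmem : (⟨⟨t1, h1⟩, Subgroup.mem_subgroupOf.mpr ht1T⟩ : T.subgroupOf B) ∈
      Subgroup.zpowers (⟨⟨t2, h2⟩, Subgroup.mem_subgroupOf.mpr ht2T⟩ : T.subgroupOf B) := by
    rw [← heq]; exact Subgroup.mem_zpowers _
  obtain ⟨k, hk⟩ := Subgroup.mem_zpowers_iff.mp hmem
  have hk' : t2 ^ k = t1 := by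
    have := congrArg (fun x : T.subgroupOf B => ((x : B) : G)) hk
    simpa using this
  have ht11 : t1 ≠ 1 := by
    intro h
    rw [h, orderOf_one] at o1
    omega
  rw [← zpow_mod_orderOf, o2] at hk'
  rcases Int.emod_two_eq_zero_or_one k with h | h
  · rw [show ((2 : ℕ) : ℤ) = 2 from rfl, h, zpow_zero] at hk'
    exact absurd hk'.symm ht11
  · rw [show ((2 : ℕ) : ℤ) = 2 from rfl, h, zpow_one] at hk'
    exact hk'.symm

/-- The centre of a nontrivial normal nilpotent subgroup, as an abelian normal subgroup. -/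
theorem center_sub_props (F : Subgroup G) (hF : Group.IsNilpotent F) (hF1 : F ≠ ⊥) :
    IsMulCommutative (F ⊓ Subgroup.centralizer (F : Set G) : Subgroup G) ∧
      F ⊓ Subgroup.centralizer (F : Set G) ≠ ⊥ := by
  have hcard1 : Nat.card F ≠ 1 := by
    rw [Ne, Subgroup.card_eq_one]; exact hF1
  obtain ⟨q, hq, hqF⟩ := Nat.exists_prime_and_dvd hcard1
  have : Fact q.Prime := ⟨hq⟩
  obtain ⟨u, huF, huo, huc⟩ := exists_central_orderOf_eq_prime _ hF q hqF
  have hu1 : u ≠ 1 := by
    intro h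
    rw [h, orderOf_one] at huo
    exact hq.one_lt.ne huo
  constructor
  · refine ⟨⟨fun a b => ?_⟩⟩
    apply Subtype.ext
    have ha := (Subgroup.mem_inf.mp a.2).1
    have hb := (Subgroup.mem_inf.mp b.2).2
    exact (Subgroup.mem_centralizer_iff.mp hb a ha)
  · intro hbot
    have : u ∈ F ⊓ Subgroup.centralizer (F : Set G) :=
      Subgroup.mem_inf.mpr ⟨huF, Subgroup.mem_centralizer_iff.mpr (fun x hx => (huc x hx).symm)⟩
    rw [hbot, Subgroup.mem_bot] at this
    exact hu1 this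

/-- The three-step group case, abstractly. -/
theorem threeStep_of [Group.IsSolvable G] (hCN : Cfsg.IsCNGroup G) (hnn : ¬ Group.IsNilpotent G)
    (F : Subgroup G) [hFn : F.Normal] (p : ℕ) [hp : Fact p.Prime] (hFp : IsPGroup p F)
    (hF1 : F ≠ ⊥) (hcore : Cfsg.pCore p G = F) (hpq : p ∣ Nat.card (G ⧸ F))
    (hfpf : ∀ g : G, g ≠ 1 → (orderOf g).Coprime p →
      F ⊓ Subgroup.centralizer ({g} : Set G) = ⊥)
    (hAcop : (Nat.card (Cfsg.fittingSubgroup (G ⧸ F))).Coprime p) :
    Cfsg.IsThreeStepGroup p G := by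
  have hF : Group.IsNilpotent F := hFp.isNilpotent
  obtain ⟨a, m, hm, hGam⟩ :=
    Nat.exists_eq_pow_mul_and_not_dvd (Nat.card_pos (α := G)).ne' p hp.out.ne_one
  have hpm : p.Coprime m := (Nat.Prime.coprime_iff_not_dvd hp.out).mpr hm
  obtain ⟨B, hB⟩ := Cfsg.Agent.Lib.Helper1.hall_exists m (p ^ a) (by rw [hGam, mul_comm])
    (Nat.Coprime.pow_right a hpm.symm)
  have hBp : (Nat.card B).Coprime p := by rw [hB]; exact hpm.symm
  have hfpfB : ∀ b ∈ B, b ≠ 1 → F ⊓ Subgroup.centralizer ({b} : Set G) = ⊥ := fun b hb hb1 =>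
    hfpf b hb1 (Nat.Coprime.coprime_dvd_left (Subgroup.orderOf_dvd_natCard B hb) hBp)
  obtain ⟨hVab, hV1⟩ := center_sub_props F hF hF1
  have hFB : (Nat.card F).Coprime (Nat.card B) := by
    obtain ⟨b, hb⟩ := IsPGroup.iff_card.mp hFp
    rw [hb]; exact Nat.Coprime.pow_left b hBp.symm
  have hBnil : Group.IsNilpotent B := isNilpotent_of_fpf hCN _ hVab hV1 B
    (Nat.Coprime.coprime_dvd_left (Subgroup.card_dvd_of_le inf_le_left) hFB)
    (fun b hb hb1 => by rw [eq_bot_iff, ← hfpfB b hb hb1]; exact inf_le_inf_right _ inf_le_left)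
  have hFBdisj : F ⊓ B = ⊥ := (Subgroup.disjoint_of_coprime_natCard hFB).eq_bot
  have hCNq : Cfsg.IsCNGroup (G ⧸ F) := Cfsg.Agent.S1473.result hCN F inferInstance
  have hAnil := Cfsg.Agent.Lib.Helper1.fittingSubgroup_isNilpotent (G := G ⧸ F)
  have hAn : (Cfsg.fittingSubgroup (G ⧸ F)).Normal :=
    Cfsg.Agent.Lib.Helper1.fittingSubgroup_normal
  have h44 := Cfsg.Agent.S0044.result (G := G ⧸ F)
  have hBbc : Nat.card (B.map (QuotientGroup.mk' F)) = Nat.card B :=
    Cfsg.Agent.Lib.Helper1.card_map_mk'_of_coprime hFB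
  have hBbnil : Group.IsNilpotent (B.map (QuotientGroup.mk' F)) := isNilpotent_map _ B hBnil
  have hBidx : B.index = p ^ a :=
    Cfsg.Agent.Lib.Helper1.index_eq_of_card_mul (by rw [hGam, mul_comm]) hB
  obtain ⟨j, hj⟩ : ∃ j, (B.map (QuotientGroup.mk' F)).index = p ^ j := by
    have h1 : (B.map (QuotientGroup.mk' F)).index ∣ B.index := by
      rw [Subgroup.index_map, MonoidHom.range_eq_top.mpr (QuotientGroup.mk'_surjective F),
        Subgroup.index_top, mul_one]
      exact Subgroup.index_dvd_of_le le_sup_left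
    rw [hBidx] at h1
    obtain ⟨k, -, hk⟩ := (Nat.dvd_prime_pow hp.out).mp h1
    exact ⟨k, hk⟩
  have hnotdvd : ¬ p ∣ Nat.card (Cfsg.fittingSubgroup (G ⧸ F)) := by
    intro h
    have := Nat.dvd_gcd h (dvd_refl p)
    rw [hAcop] at this
    exact hp.out.one_lt.ne' (Nat.dvd_one.mp this)
  have hAB : Cfsg.fittingSubgroup (G ⧸ F) ≤ B.map (QuotientGroup.mk' F) := by
    have hsupcard : (Nat.card (Cfsg.fittingSubgroup (G ⧸ F) ⊔ B.map (QuotientGroup.mk' F) :
        Subgroup (G ⧸ F))).Coprime p :=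
      Nat.Coprime.coprime_dvd_left (Cfsg.Agent.Lib.Helper1.card_sup_dvd_mul_of_normal_left _ _)
        (Nat.Coprime.mul_left hAcop (by rw [hBbc]; exact hBp))
    have h1 : (B.map (QuotientGroup.mk' F)).relIndex
        (Cfsg.fittingSubgroup (G ⧸ F) ⊔ B.map (QuotientGroup.mk' F)) ∣ p ^ j := by
      rw [← hj]; exact Dvd.intro _ (Subgroup.relIndex_mul_index le_sup_right)
    have h2 := Subgroup.relIndex_dvd_card (B.map (QuotientGroup.mk' F))
      (Cfsg.fittingSubgroup (G ⧸ F) ⊔ B.map (QuotientGroup.mk' F))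
    have h3 := Nat.eq_one_of_dvd_coprimes (Nat.Coprime.pow_left j hsupcard.symm) h1 h2
    exact le_sup_left.trans (Subgroup.relIndex_eq_one.mp h3)
  have hlift : ∀ y ∈ B.map (QuotientGroup.mk' F), ∃ b ∈ B, (b : G ⧸ F) = y := by
    rintro y ⟨b, hb, rfl⟩
    exact ⟨b, hb, rfl⟩
  have hinj : ∀ b ∈ B, (b : G ⧸ F) = 1 → b = 1 := by
    intro b hb h
    have hbF : b ∈ F := (QuotientGroup.eq_one_iff b).mp h
    have : b ∈ F ⊓ B := Subgroup.mem_inf.mpr ⟨hbF, hb⟩
    rwa [hFBdisj, Subgroup.mem_bot] at this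
  have hodd : Odd (Nat.card B) := by
    by_cases hp2 : p = 2
    · subst hp2; exact Nat.Coprime.odd_of_left hBp.symm
    rw [← Nat.not_even_iff_odd, even_iff_two_dvd]
    intro heven
    have : Fact (Nat.Prime 2) := ⟨Nat.prime_two⟩
    obtain ⟨t, ht⟩ := exists_prime_orderOf_dvd_card' (G := B) 2 heven
    have hto : orderOf (t : G) = 2 := by rw [Subgroup.orderOf_coe]; exact ht
    have ht1 : (t : G) ≠ 1 := by
      intro h
      rw [h, orderOf_one] at hto
      omega
    have htb1 : ((t : G) : G ⧸ F) ≠ 1 := fun h => ht1 (hinj _ t.2 h)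
    have huniq : ∀ y ∈ B.map (QuotientGroup.mk' F), orderOf y = 2 →
        y = ((t : G) : G ⧸ F) := by
      intro y hy hyo
      obtain ⟨s, hs, rfl⟩ := hlift y hy
      have hs2 : s ^ 2 = 1 := by
        apply hinj _ (B.pow_mem hs 2)
        rw [QuotientGroup.mk_pow, ← hyo, pow_orderOf_eq_one]
      have hs1 : s ≠ 1 := by
        rintro rfl
        rw [QuotientGroup.mk_one, orderOf_one] at hyo
        omega
      have hso : orderOf s = 2 := orderOf_eq_prime hs2 hs1
      rw [involution_unique F B hF1 hfpfB hBnil hs t.2 hso hto]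
    have hto' : orderOf (((t : G) : G ⧸ F)) = 2 := by
      apply orderOf_eq_prime
      · rw [← QuotientGroup.mk_pow, ← hto, pow_orderOf_eq_one, QuotientGroup.mk_one]
      · exact htb1
    by_cases h2A : 2 ∣ Nat.card (Cfsg.fittingSubgroup (G ⧸ F))
    · obtain ⟨s, hs⟩ :=
        exists_prime_orderOf_dvd_card' (G := Cfsg.fittingSubgroup (G ⧸ F)) 2 h2A
      have hso : orderOf (s : G ⧸ F) = 2 := by rw [Subgroup.orderOf_coe]; exact hs
      have hst : (s : G ⧸ F) = ((t : G) : G ⧸ F) := huniq _ (hAB s.2) hso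
      have htA : ((t : G) : G ⧸ F) ∈ Cfsg.fittingSubgroup (G ⧸ F) := hst ▸ s.2
      have hcent : ∀ y : G ⧸ F, y * ((t : G) : G ⧸ F) = ((t : G) : G ⧸ F) * y := by
        intro y
        have hconj : y * ((t : G) : G ⧸ F) * y⁻¹ ∈ Cfsg.fittingSubgroup (G ⧸ F) :=
          hAn.conj_mem _ htA y
        have hco : orderOf (y * ((t : G) : G ⧸ F) * y⁻¹) = 2 := by
          have := MulEquiv.orderOf_eq (MulAut.conj y) ((t : G) : G ⧸ F)
          rw [MulAut.conj_apply] at this
          rw [this]; exact hto'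
        have h5 := huniq _ (hAB hconj) hco
        calc y * ((t : G) : G ⧸ F) = (y * ((t : G) : G ⧸ F) * y⁻¹) * y := by group
          _ = ((t : G) : G ⧸ F) * y := by rw [h5]
      have htopnil : Group.IsNilpotent (⊤ : Subgroup (G ⧸ F)) := by
        have h1 := hCNq _ htb1
        have htop : Subgroup.centralizer ({((t : G) : G ⧸ F)} : Set (G ⧸ F)) = ⊤ := by
          rw [eq_top_iff]
          intro y _
          rw [Subgroup.mem_centralizer_singleton_iff]
          exact hcent y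
        rwa [htop] at h1
      have htopA : (⊤ : Subgroup (G ⧸ F)) ≤ Cfsg.fittingSubgroup (G ⧸ F) :=
        Cfsg.Agent.Lib.Helper1.le_fittingSubgroup inferInstance htopnil
      obtain ⟨x, hx⟩ := exists_prime_orderOf_dvd_card' (G := G ⧸ F) p hpq
      have hxA : x ∈ Cfsg.fittingSubgroup (G ⧸ F) := htopA (Subgroup.mem_top x)
      exact hnotdvd (hx ▸ Subgroup.orderOf_dvd_natCard _ hxA)
    · have htC : ((t : G) : G ⧸ F) ∈
          Subgroup.centralizer (Cfsg.fittingSubgroup (G ⧸ F) : Set (G ⧸ F)) := by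
        rw [Subgroup.mem_centralizer_iff]
        intro y hy
        have htB : ((t : G) : G ⧸ F) ∈ B.map (QuotientGroup.mk' F) := ⟨t, t.2, rfl⟩
        apply comm_of_coprime_of_mem_nilpotent _ hBbnil (hAB hy) htB
        rw [hto']
        exact Nat.Coprime.coprime_dvd_left (Subgroup.orderOf_dvd_natCard _ hy)
          ((Nat.Prime.coprime_iff_not_dvd Nat.prime_two).mpr h2A).symm
      have htA := h44 htC
      apply h2A
      rw [← hto']
      exact Subgroup.orderOf_dvd_natCard _ htA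
  have hBcyc : IsCyclic B := by
    have hZ : IsZGroup B := by
      refine ⟨fun r hr P => ?_⟩
      have : Fact r.Prime := ⟨hr⟩
      have hu := Cfsg.Agent.Lib.Helper35.unique_subgroup_of_order_p_of_fpf F B hF1 hfpfB r
        (P : Subgroup B) P.isPGroup'
      rcases Cfsg.Agent.S0016.result r P.isPGroup' hu with h | ⟨-, n, ⟨e⟩⟩
      · exact h
      · exfalso
        have hc : Nat.card (P : Subgroup B) = 4 * 2 ^ n := by
          rw [Nat.card_congr e.toEquiv, Nat.card_eq_fintype_card, QuaternionGroup.card]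
        have h2 : 2 ∣ Nat.card B := by
          have h3 : 2 ∣ Nat.card (P : Subgroup B) := by
            rw [hc]; exact Dvd.dvd.mul_right (by norm_num) _
          exact h3.trans (Subgroup.card_subgroup_dvd_card _)
        exact Nat.not_even_iff_odd.mpr hodd (even_iff_two_dvd.mpr h2)
    infer_instance
  have hBcomm : ∀ b1 ∈ B, ∀ b2 ∈ B, b1 * b2 = b2 * b1 := by
    intro b1 hb1 b2 hb2
    obtain ⟨c, hc⟩ := hBcyc.exists_generator
    obtain ⟨i, hi⟩ := Subgroup.mem_zpowers_iff.mp (hc ⟨b1, hb1⟩)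
    obtain ⟨k, hk⟩ := Subgroup.mem_zpowers_iff.mp (hc ⟨b2, hb2⟩)
    have h1 : b1 = (c : G) ^ i := by
      have := congrArg Subtype.val hi
      simpa using this.symm
    have h2 : b2 = (c : G) ^ k := by
      have := congrArg Subtype.val hk
      simpa using this.symm
    rw [h1, h2, ← zpow_add, ← zpow_add, add_comm]
  have hBbcomm : ∀ u ∈ B.map (QuotientGroup.mk' F), ∀ v ∈ B.map (QuotientGroup.mk' F),
      u * v = v * u := by
    intro u hu v hv
    obtain ⟨b1, hb1, rfl⟩ := hlift u hu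
    obtain ⟨b2, hb2, rfl⟩ := hlift v hv
    rw [← QuotientGroup.mk_mul, ← QuotientGroup.mk_mul, hBcomm b1 hb1 b2 hb2]
  have hBA : B.map (QuotientGroup.mk' F) = Cfsg.fittingSubgroup (G ⧸ F) := by
    apply le_antisymm _ hAB
    intro y hy
    apply h44
    rw [Subgroup.mem_centralizer_iff]
    intro z hz
    exact hBbcomm z (hAB hz) y hy
  have hK : F ⊔ B = (Cfsg.fittingSubgroup (G ⧸ F)).comap (QuotientGroup.mk' F) := by
    rw [← hBA, Subgroup.comap_map_eq, QuotientGroup.ker_mk', sup_comm]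
  have hB1 : B ≠ ⊥ := by
    intro hbot
    apply hnn
    have h1 : Nat.card B = 1 := by rw [hbot, Subgroup.card_bot]
    rw [hB] at h1
    rw [h1, mul_one] at hGam
    exact (IsPGroup.of_card hGam).isNilpotent
  unfold Cfsg.IsThreeStepGroup
  rw [hcore]
  refine ⟨hF1, B, hB1, hBcyc, hodd, hBp, ?_, ?_, ?_, hfpfB, ?_⟩
  · rw [hK]; exact hAn.comap _
  · rw [hK]
    intro htop
    obtain ⟨x, hx⟩ := exists_prime_orderOf_dvd_card' (G := G ⧸ F) p hpq
    obtain ⟨g, rfl⟩ := QuotientGroup.mk_surjective x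
    have hg : g ∈ (Cfsg.fittingSubgroup (G ⧸ F)).comap (QuotientGroup.mk' F) := by
      rw [htop]; exact Subgroup.mem_top g
    rw [Subgroup.mem_comap] at hg
    exact hnotdvd (hx ▸ Subgroup.orderOf_dvd_natCard _ hg)
  · rw [hK, Subgroup.index_comap_of_surjective _ (QuotientGroup.mk'_surjective F), ← hBA]
    exact ⟨j, hj⟩
  · intro x hx b hb hb1 hmem
    rw [hK, Subgroup.mem_comap] at hx
    apply hx
    apply h44
    rw [Subgroup.mem_centralizer_iff]
    intro z hz
    have hbb1 : (b : G ⧸ F) ≠ 1 := fun h => hb1 (hinj b hb h)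
    have hbA : (b : G ⧸ F) ∈ Cfsg.fittingSubgroup (G ⧸ F) := by
      rw [← hBA]; exact ⟨b, hb, rfl⟩
    have hxb : (x : G ⧸ F) * (b : G ⧸ F) = (b : G ⧸ F) * (x : G ⧸ F) := by
      have h1 : ((x * b * x⁻¹ * b⁻¹ : G) : G ⧸ F) = 1 := (QuotientGroup.eq_one_iff _).mpr hmem
      simp only [QuotientGroup.mk_mul, QuotientGroup.mk_inv] at h1
      calc (x : G ⧸ F) * (b : G ⧸ F)
          = ((x : G ⧸ F) * (b : G ⧸ F) * (x : G ⧸ F)⁻¹ * (b : G ⧸ F)⁻¹) * (b : G ⧸ F) * (x : G ⧸ F) := by
            group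
        _ = (b : G ⧸ F) * (x : G ⧸ F) := by rw [h1, one_mul]
    have hxN : (x : G ⧸ F) ∈ Subgroup.centralizer ({(b : G ⧸ F)} : Set (G ⧸ F)) :=
      Subgroup.mem_centralizer_singleton_iff.mpr hxb
    have hzN : z ∈ Subgroup.centralizer ({(b : G ⧸ F)} : Set (G ⧸ F)) := by
      rw [Subgroup.mem_centralizer_singleton_iff]
      exact hBbcomm z (hAB hz) _ (hAB hbA)
    have hle : Subgroup.zpowers (x : G ⧸ F) ≤ Subgroup.centralizer ({z} : Set (G ⧸ F)) := by
      apply le_of_forall_primePow_order_mem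
      intro y hy r k hr hyo
      rw [Subgroup.mem_centralizer_singleton_iff]
      have hyN : y ∈ Subgroup.centralizer ({(b : G ⧸ F)} : Set (G ⧸ F)) := by
        have : Subgroup.zpowers (x : G ⧸ F) ≤
            Subgroup.centralizer ({(b : G ⧸ F)} : Set (G ⧸ F)) := by
          rw [Subgroup.zpowers_le]; exact hxN
        exact this hy
      have hzo : (orderOf z).Coprime p :=
        Nat.Coprime.coprime_dvd_left (Subgroup.orderOf_dvd_natCard _ hz) hAcop
      by_cases hrp : r = p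
      · subst hrp
        apply comm_of_coprime_of_mem_nilpotent _ (hCNq _ hbb1) hyN hzN
        rw [hyo]
        exact (Nat.Coprime.pow_right k hzo).symm
      · have hyA : y ∈ Cfsg.fittingSubgroup (G ⧸ F) := by
          have h1 : y ^ (Cfsg.fittingSubgroup (G ⧸ F)).index ∈ Cfsg.fittingSubgroup (G ⧸ F) :=
            Subgroup.pow_index_mem _ y
          rw [← hBA, hj, hBA] at h1
          have hcop : (p ^ j).Coprime (orderOf y) := by
            rw [hyo]
            exact Nat.Coprime.pow _ _ ((Nat.coprime_primes hp.out hr).mpr (Ne.symm hrp))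
          obtain ⟨n, hn⟩ := exists_pow_eq_self_of_coprime hcop
          rw [← hn]
          exact Subgroup.pow_mem _ h1 n
        exact hBbcomm y (hAB hyA) z (hAB hz)
    have := hle (Subgroup.mem_zpowers _)
    rw [Subgroup.mem_centralizer_singleton_iff] at this
    exact this.symm

/-- The Frobenius case: a normal nontrivial Sylow subgroup. -/
theorem frobenius_case (hCN : Cfsg.IsCNGroup G) (hnn : ¬ Group.IsNilpotent G) (r : ℕ)
    [Fact r.Prime] (R : Sylow r G) (hR1 : (R : Subgroup G) ≠ ⊥) (hRn : (R : Subgroup G).Normal) :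
    ∃ K E : Subgroup G, K.Normal ∧ Subgroup.IsComplement' K E ∧ Cfsg.IsFrobeniusComplement E ∧
      (IsCyclic E ∨ ∃ C Q : Subgroup G, C ⊔ Q = E ∧ (∀ a ∈ C, ∀ b ∈ Q, a * b = b * a) ∧
        IsCyclic C ∧ Odd (Nat.card C) ∧ ∃ n : ℕ, Nonempty (↥Q ≃* QuaternionGroup (2 ^ n))) := by
  obtain ⟨hF1, hFtop, ⟨E, hc, hFrobE, hfpf⟩, hnilq⟩ :=
    Cfsg.Agent.S1474.result hCN hnn r R hR1 hRn
  refine ⟨Cfsg.fittingHall G, E, inferInstance, hc, hFrobE, ?_⟩
  have hEnil : Group.IsNilpotent E := Cfsg.Agent.S1474.complement_isNilpotent hCN hF1 E hc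
  have hSyl : ∀ (q : ℕ) [Fact q.Prime] (P : Sylow q E),
      IsCyclic P ∨ ∃ n : ℕ, Nonempty (P ≃* QuaternionGroup (2 ^ n)) :=
    fun q _ P => Cfsg.Agent.S0040.result (Cfsg.fittingHall G) E hc hF1 hfpf q P
  have hquat_even : ∀ (q : ℕ) [Fact q.Prime] (P : Sylow q E) (n : ℕ),
      Nonempty (P ≃* QuaternionGroup (2 ^ n)) → q = 2 := by
    intro q hq P n ⟨e⟩
    have hcP : Nat.card (P : Subgroup E) = 4 * 2 ^ n := by
      rw [Nat.card_congr e.toEquiv, Nat.card_eq_fintype_card, QuaternionGroup.card]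
    obtain ⟨k, hk⟩ := IsPGroup.iff_card.mp P.isPGroup'
    have h2 : 2 ∣ q ^ k := by
      rw [← hk, hcP]; exact Dvd.dvd.mul_right (by norm_num) _
    exact ((Nat.prime_dvd_prime_iff_eq Nat.prime_two hq.out).mp
      (Nat.prime_two.dvd_of_dvd_pow h2)).symm
  by_cases hall : ∀ (q : ℕ), q.Prime → ∀ (P : Sylow q E), IsCyclic P
  · left
    have : IsZGroup E := ⟨hall⟩
    infer_instance
  · right
    push Not at hall
    obtain ⟨q, hq, P, hP⟩ := hall
    have : Fact q.Prime := ⟨hq⟩
    obtain ⟨n, he⟩ := (hSyl q P).resolve_left hP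
    have hq2 := hquat_even q P n he
    subst hq2
    obtain ⟨e⟩ := he
    have hnorm := ((Group.isNilpotent_of_finite_tfae (G := E)).out 0 3).mp hEnil
    have hPn : (P : Subgroup E).Normal := hnorm 2 inferInstance P
    obtain ⟨C0, hC0⟩ := Subgroup.exists_right_complement'_of_coprime
      (N := (P : Subgroup E)) P.card_coprime_index
    have hC0card : Nat.card C0 = (P : Subgroup E).index := hC0.symm.index_eq_card.symm
    have hC0odd : ¬ 2 ∣ Nat.card C0 := by rw [hC0card]; exact P.not_dvd_index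
    refine ⟨C0.map E.subtype, (P : Subgroup E).map E.subtype, ?_, ?_, ?_, ?_, n, ⟨?_⟩⟩
    · rw [← Subgroup.map_sup, sup_comm, hC0.sup_eq_top, ← MonoidHom.range_eq_map,
        Subgroup.range_subtype]
    · rintro _ ⟨a, ha, rfl⟩ _ ⟨b, hb, rfl⟩
      have hao : (orderOf a).Coprime (orderOf b) := by
        obtain ⟨i, hi⟩ := (IsPGroup.iff_orderOf.mp P.isPGroup') ⟨b, hb⟩
        rw [Subgroup.orderOf_mk] at hi
        rw [hi]
        apply Nat.Coprime.pow_right
        rw [Nat.coprime_comm, Nat.Prime.coprime_iff_not_dvd Nat.prime_two]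
        intro h
        exact hC0odd (h.trans (Subgroup.orderOf_dvd_natCard C0 ha))
      have := Cfsg.Agent.Lib.Helper65.commute_of_coprime_orderOf (N := E) a b hao
      exact congrArg Subtype.val this.eq
    · have hC0nil : Group.IsNilpotent C0 := Subgroup.isNilpotent C0
      have hZ : IsZGroup C0 := by
        refine ⟨fun q' hq' P' => ?_⟩
        have : Fact q'.Prime := ⟨hq'⟩
        by_cases hq'2 : q' = 2
        · subst hq'2
          obtain ⟨k, hk⟩ := IsPGroup.iff_card.mp P'.isPGroup'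
          have hk0 : k = 0 := by
            by_contra hk0
            apply hC0odd
            have : 2 ∣ Nat.card (P' : Subgroup C0) := by rw [hk]; exact dvd_pow_self 2 hk0
            exact this.trans (Subgroup.card_subgroup_dvd_card _)
          rw [hk0, pow_zero] at hk
          have : Subsingleton (P' : Subgroup C0) := (Nat.card_eq_one_iff_unique.mp hk).1
          exact isCyclic_of_subsingleton
        · have hPp : IsPGroup q' ((P' : Subgroup C0).map C0.subtype) := P'.isPGroup'.map _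
          obtain ⟨R', hR'⟩ := hPp.exists_le_sylow
          have hR'c : IsCyclic (R' : Subgroup E) := by
            rcases hSyl q' R' with h | ⟨n', hn'⟩
            · exact h
            · exact absurd (hquat_even q' R' n' hn') hq'2
          have h1 : IsCyclic ((P' : Subgroup C0).map C0.subtype) := Subgroup.isCyclic_of_le hR'
          exact ((Subgroup.equivMapOfInjective _ C0.subtype C0.subtype_injective).isCyclic).mpr h1
      have hC0c : IsCyclic C0 := inferInstance
      exact ((Subgroup.equivMapOfInjective _ E.subtype E.subtype_injective).isCyclic).mp hC0c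
    · rw [Subgroup.card_map_of_injective E.subtype_injective]
      rw [← Nat.not_even_iff_odd, even_iff_two_dvd]
      exact hC0odd
    · exact (Subgroup.equivMapOfInjective _ E.subtype E.subtype_injective).symm.trans e

end Aux

/-- Let G be a finite solvable group in which every non-identity element has nilpotent centralizer. Then either G is nilpotent; or G has a normal subgroup K with a Frobenius complement E (K E = G, K ∩ E = 1, E meets its conjugates by outside elements trivially) such that E is cyclic or E is generated by two elementwise-commuting subgroups, one cyclic of odd order and one isomorphic to a generalized quaternion group; or G is a three-step group with respect to some prime p. -/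
theorem result {G : Type*} [Group G] [Finite G] [Group.IsSolvable G] (hCN : Cfsg.IsCNGroup G) :
    Group.IsNilpotent G ∨
      (∃ K E : Subgroup G, K.Normal ∧ Subgroup.IsComplement' K E ∧ Cfsg.IsFrobeniusComplement E ∧
        (IsCyclic E ∨ ∃ C Q : Subgroup G, C ⊔ Q = E ∧ (∀ a ∈ C, ∀ b ∈ Q, a * b = b * a) ∧ IsCyclic C ∧ Odd (Nat.card C) ∧
          ∃ n : ℕ, Nonempty (↥Q ≃* QuaternionGroup (2 ^ n)))) ∨
      ∃ p : ℕ, p.Prime ∧ Cfsg.IsThreeStepGroup p G := by
  by_cases hnil : Group.IsNilpotent G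
  · left; exact hnil
  right
  by_cases hS : ∃ (r : ℕ) (_ : r.Prime) (R : Sylow r G),
      (R : Subgroup G).Normal ∧ (R : Subgroup G) ≠ ⊥
  · left
    obtain ⟨r, hr, R, hRn, hR1⟩ := hS
    have : Fact r.Prime := ⟨hr⟩
    exact frobenius_case hCN hnil r R hR1 hRn
  · right
    push Not at hS
    have hns : ∀ (r : ℕ) [Fact r.Prime] (R : Sylow r G), (R : Subgroup G).Normal →
        (R : Subgroup G) = ⊥ := fun r hr R hRn => hS r hr.out R hRn
    obtain ⟨p, hp, hFp, hF1⟩ := fitting_isPGroup hCN hnil hns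
    have : Fact p.Prime := ⟨hp⟩
    have hFn : (Cfsg.fittingSubgroup G).Normal := Cfsg.Agent.Lib.Helper1.fittingSubgroup_normal
    have hcore : Cfsg.pCore p G = Cfsg.fittingSubgroup G := by
      apply le_antisymm
      · exact Cfsg.Agent.Lib.Helper1.le_fittingSubgroup (Cfsg.Agent.Lib.Helper1.pCore_normal p)
          (Cfsg.Agent.Lib.Helper1.pCore_isPGroup p).isNilpotent
      · exact Cfsg.Agent.Lib.Helper1.le_pCore hFn hFp
    have hpq : p ∣ Nat.card (G ⧸ Cfsg.fittingSubgroup G) := by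
      by_contra hnd
      rw [← Subgroup.index_eq_card] at hnd
      have h1 := hns p (hFp.toSylow hnd) (by rw [IsPGroup.toSylow_coe]; exact hFn)
      rw [IsPGroup.toSylow_coe] at h1
      exact hF1 h1
    exact ⟨p, hp, threeStep_of hCN hnil (Cfsg.fittingSubgroup G) p hFp hF1 hcore hpq
      (fpf_of_coprime hCN p hFp hF1) (card_fitting_quotient_coprime p hFp)⟩

end Cfsg.Agent.S1476
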