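import Cfsg.Statements.S1507
import Cfsg.Agent.Lib.Helper25.LinChar
import Cfsg.Agent.Lib.Helper25.Dual2
import Cfsg.Agent.Lib.Helper54.Coprime
import Cfsg.Agent.S1506

set_option autoImplicit false
open Cfsg

namespace Cfsg.Agent.S1507

open Cfsg.Agent.Lib.Helper25

section Comb

variable {α β : Type*} [DecidableEq α]

/-- two rows and two columns: if neither `x` nor `y` is constant, the matrix `x i + y j` has at
least `|I| + |J| - 2` non-zero entries -/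
theorem comb_both (I : Finset α) (J : Finset β) (x : α → ℂ) (y : β → ℂ)
    {i₁ i₂ : α} (hi₁ : i₁ ∈ I) (hi₂ : i₂ ∈ I) (hx : x i₁ ≠ x i₂)
    {j₁ j₂ : β} (hj₁ : j₁ ∈ J) (hj₂ : j₂ ∈ J) (hy : y j₁ ≠ y j₂) :
    I.card + J.card ≤ ((I ×ˢ J).filter (fun p => x p.1 + y p.2 ≠ 0)).card + 2 := by
  set T := (I ×ˢ J).filter (fun p => x p.1 + y p.2 ≠ 0) with hT
  set R := T.filter (fun p => p.1 = i₁ ∨ p.1 = i₂) with hR
  set C := T.filter (fun p => ¬ (p.1 = i₁ ∨ p.1 = i₂)) with hC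
  have hRJ : J.card ≤ R.card := by
    apply Finset.card_le_card_of_surjOn Prod.snd
    intro j hj
    by_cases h : x i₁ + y j ≠ 0
    · refine ⟨(i₁, j), ?_, rfl⟩
      exact Finset.mem_coe.mpr (Finset.mem_filter.mpr
        ⟨Finset.mem_filter.mpr ⟨Finset.mem_product.mpr ⟨hi₁, hj⟩, h⟩, Or.inl rfl⟩)
    · have h2 : x i₂ + y j ≠ 0 := by
        intro h2
        rw [not_not] at h
        apply hx
        linear_combination h - h2
      refine ⟨(i₂, j), ?_, rfl⟩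
      exact Finset.mem_coe.mpr (Finset.mem_filter.mpr
        ⟨Finset.mem_filter.mpr ⟨Finset.mem_product.mpr ⟨hi₂, hj⟩, h2⟩, Or.inr rfl⟩)
  have hCI : I.card ≤ C.card + 2 := by
    have h1 : ((I.erase i₁).erase i₂).card ≤ C.card := by
      apply Finset.card_le_card_of_surjOn Prod.fst
      intro i hi
      rw [Finset.mem_coe, Finset.mem_erase, Finset.mem_erase] at hi
      obtain ⟨hne2, hne1, hiI⟩ := hi
      by_cases h : x i + y j₁ ≠ 0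
      · refine ⟨(i, j₁), ?_, rfl⟩
        refine Finset.mem_coe.mpr (Finset.mem_filter.mpr
          ⟨Finset.mem_filter.mpr ⟨Finset.mem_product.mpr ⟨hiI, hj₁⟩, h⟩, ?_⟩)
        rintro (h' | h')
        · exact hne1 h'
        · exact hne2 h'
      · have h2 : x i + y j₂ ≠ 0 := by
          intro h2
          rw [not_not] at h
          apply hy
          linear_combination h - h2
        refine ⟨(i, j₂), ?_, rfl⟩
        refine Finset.mem_coe.mpr (Finset.mem_filter.mpr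
          ⟨Finset.mem_filter.mpr ⟨Finset.mem_product.mpr ⟨hiI, hj₂⟩, h2⟩, ?_⟩)
        rintro (h' | h')
        · exact hne1 h'
        · exact hne2 h'
    have h2 := Finset.card_erase_add_one hi₁
    have h3 := Finset.pred_card_le_card_erase (s := I.erase i₁) (a := i₂)
    omega
  have hsum : R.card + C.card = T.card := by
    rw [hR, hC]
    exact Finset.card_filter_add_card_filter_not _
  omega

end Comb

section Col

variable {X : Type*} [CommGroup X] [Fintype X] [DecidableEq X]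

/-- if `a (φ ψ) = a ψ` on `Φ × Ψ ≃ X` and fewer than `2 |Φ|` values of `a` are non-zero, then at
most one `ψ ∈ Ψ` has `a ψ ≠ 0` -/
theorem col_case (Φ Ψ : Finset X) (a : X → ℂ)
    (hinj : ∀ φ ∈ Φ, ∀ φ' ∈ Φ, ∀ ψ ∈ Ψ, ∀ ψ' ∈ Ψ, φ * ψ = φ' * ψ' → φ = φ' ∧ ψ = ψ')
    (hval : ∀ φ ∈ Φ, ∀ ψ ∈ Ψ, a (φ * ψ) = a ψ)
    (hfew : (Finset.univ.filter (fun ω => a ω ≠ 0)).card < 2 * Φ.card)
    {ψ₁ ψ₂ : X} (h₁ : ψ₁ ∈ Ψ) (h₂ : ψ₂ ∈ Ψ) (hne : ψ₁ ≠ ψ₂) (ha₁ : a ψ₁ ≠ 0) : a ψ₂ = 0 := by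
  by_contra ha₂
  have hle : (Φ ×ˢ ({ψ₁, ψ₂} : Finset X)).card ≤ (Finset.univ.filter (fun ω => a ω ≠ 0)).card := by
    apply Finset.card_le_card_of_injOn (fun p => p.1 * p.2)
    · intro p hp
      rw [Finset.mem_coe, Finset.mem_product, Finset.mem_insert, Finset.mem_singleton] at hp
      rw [Finset.mem_coe, Finset.mem_filter]
      refine ⟨Finset.mem_univ _, ?_⟩
      rcases hp.2 with h | h
      · show a (p.1 * p.2) ≠ 0
        rw [h, hval _ hp.1 _ h₁]; exact ha₁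
      · show a (p.1 * p.2) ≠ 0
        rw [h, hval _ hp.1 _ h₂]; exact ha₂
    · intro p hp q hq hpq
      rw [Finset.mem_coe, Finset.mem_product, Finset.mem_insert, Finset.mem_singleton] at hp hq
      have hp2 : p.2 ∈ Ψ := by rcases hp.2 with h | h <;> rw [h] <;> assumption
      have hq2 : q.2 ∈ Ψ := by rcases hq.2 with h | h <;> rw [h] <;> assumption
      obtain ⟨e1, e2⟩ := hinj _ hp.1 _ hq.1 _ hp2 _ hq2 hpq
      exact Prod.ext e1 e2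
  rw [Finset.card_product, Finset.card_pair hne] at hle
  omega

end Col


section Abstract

variable {A : Type*} [Group A] [Fintype A]

theorem factor_inj (A₁ A₂ : Subgroup A)
    (hext : ∀ φ : A →* ℂˣ, (∀ w ∈ A₁, φ w = 1) → (∀ w ∈ A₂, φ w = 1) → φ = 1)
    {φ φ' ψ ψ' : A →* ℂˣ} (hφ : φ ∈ dualOf A₂) (hφ' : φ' ∈ dualOf A₂) (hψ : ψ ∈ dualOf A₁)
    (hψ' : ψ' ∈ dualOf A₁) (h : φ * ψ = φ' * ψ') : φ = φ' ∧ ψ = ψ' := by
  have e : φ'⁻¹ * φ = ψ' * ψ⁻¹ := by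
    apply MonoidHom.ext
    intro w
    have hw := DFunLike.congr_fun h w
    simp only [MonoidHom.mul_apply, MonoidHom.inv_apply] at hw ⊢
    rw [inv_mul_eq_iff_eq_mul, ← mul_assoc, ← hw, mul_assoc, mul_inv_cancel, mul_one]
  have h1 : φ'⁻¹ * φ ∈ dualOf A₂ := mul_mem_dualOf A₂ (inv_mem_dualOf A₂ hφ') hφ
  have h2 : φ'⁻¹ * φ ∈ dualOf A₁ := by
    rw [e]; exact mul_mem_dualOf A₁ hψ' (inv_mem_dualOf A₁ hψ)
  have h3 : φ'⁻¹ * φ = 1 := hext _ ((mem_dualOf A₁ _).mp h2) ((mem_dualOf A₂ _).mp h1)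
  have h4 : φ = φ' := by
    rw [inv_mul_eq_one (G := A →* ℂˣ)] at h3; exact h3.symm
  refine ⟨h4, ?_⟩
  rw [h4] at h
  exact mul_left_cancel h

theorem card_dual_eq (hc : ∀ a b : A, a * b = b * a) (A₁ A₂ : Subgroup A)
    (hcard : Nat.card A = Nat.card A₁ * Nat.card A₂) :
    (dualOf A₂).card = Nat.card A₁ ∧ (dualOf A₁).card = Nat.card A₂ := by
  have h1 := card_dualOf_mul hc A₂
  have h2 := card_dualOf_mul hc A₁
  have p1 : 0 < Nat.card A₁ := Nat.card_pos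
  have p2 : 0 < Nat.card A₂ := Nat.card_pos
  constructor
  · rw [hcard] at h1
    exact Nat.eq_of_mul_eq_mul_right p2 h1
  · rw [hcard, mul_comm (Nat.card A₁)] at h2
    exact Nat.eq_of_mul_eq_mul_right p1 h2

theorem factor_surj (hc : ∀ a b : A, a * b = b * a) (A₁ A₂ : Subgroup A)
    (hext : ∀ φ : A →* ℂˣ, (∀ w ∈ A₁, φ w = 1) → (∀ w ∈ A₂, φ w = 1) → φ = 1)
    (hcard : Nat.card A = Nat.card A₁ * Nat.card A₂) (ω : A →* ℂˣ) :
    ∃ φ ∈ dualOf A₂, ∃ ψ ∈ dualOf A₁, ω = φ * ψ := by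
  classical
  have : Fintype (A →* ℂˣ) := Fintype.ofFinite _
  obtain ⟨c1, c2⟩ := card_dual_eq hc A₁ A₂ hcard
  set P := ((dualOf A₂) ×ˢ (dualOf A₁)).image (fun p => p.1 * p.2) with hP
  have hPc : P.card = Fintype.card (A →* ℂˣ) := by
    rw [hP, Finset.card_image_of_injOn, Finset.card_product, c1, c2, ← hcard,
      ← card_hom_eq hc, Nat.card_eq_fintype_card]
    intro p hp q hq hpq
    rw [Finset.mem_coe, Finset.mem_product] at hp hq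
    obtain ⟨e1, e2⟩ := factor_inj A₁ A₂ hext hp.1 hq.1 hp.2 hq.2 hpq
    exact Prod.ext e1 e2
  have hPu : P = Finset.univ := Finset.eq_univ_of_card P hPc
  have hω : ω ∈ P := by rw [hPu]; exact Finset.mem_univ _
  rw [hP, Finset.mem_image] at hω
  obtain ⟨p, hp, rfl⟩ := hω
  rw [Finset.mem_product] at hp
  exact ⟨p.1, hp.1, p.2, hp.2, rfl⟩

/-- a character of the form `φ ψ ψ₀⁻¹` is trivial on `A₂` iff `ψ = ψ₀` -/
theorem trivial_iff (A₁ A₂ : Subgroup A)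
    (hext : ∀ φ : A →* ℂˣ, (∀ w ∈ A₁, φ w = 1) → (∀ w ∈ A₂, φ w = 1) → φ = 1)
    {φ ψ ψ₀ : A →* ℂˣ} (hφ : φ ∈ dualOf A₂) (hψ : ψ ∈ dualOf A₁) (hψ₀ : ψ₀ ∈ dualOf A₁) :
    (∀ w ∈ A₂, (φ * ψ * ψ₀⁻¹) w = 1) ↔ ψ = ψ₀ := by
  constructor
  · intro h
    have h1 : ψ * ψ₀⁻¹ ∈ dualOf A₁ := mul_mem_dualOf A₁ hψ (inv_mem_dualOf A₁ hψ₀)
    have h2 : ∀ w ∈ A₂, (ψ * ψ₀⁻¹) w = 1 := by
      intro w hw
      have := h w hw
      rw [mul_assoc (G := A →* ℂˣ), MonoidHom.mul_apply, (mem_dualOf A₂ φ).mp hφ w hw,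
        one_mul] at this
      exact this
    have h3 := hext _ ((mem_dualOf A₁ _).mp h1) h2
    rw [mul_inv_eq_one (G := A →* ℂˣ)] at h3
    exact h3
  · rintro rfl w hw
    rw [mul_assoc (G := A →* ℂˣ), mul_inv_cancel (G := A →* ℂˣ), mul_one (M := A →* ℂˣ)]
    exact (mem_dualOf A₂ φ).mp hφ w hw

theorem rect_abstract (hc : ∀ a b : A, a * b = b * a) (A₁ A₂ : Subgroup A)
    (hext : ∀ φ : A →* ℂˣ, (∀ w ∈ A₁, φ w = 1) → (∀ w ∈ A₂, φ w = 1) → φ = 1)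
    (hcard : Nat.card A = Nat.card A₁ * Nat.card A₂) (hodd : Odd (Nat.card A))
    (hlt : Nat.card A₁ < Nat.card A₂) (a : (A →* ℂˣ) → ℂ)
    (hrect : ∀ φ ψ : A →* ℂˣ, (∀ w ∈ A₂, φ w = 1) → (∀ w ∈ A₁, ψ w = 1) →
      a (φ * ψ) = a φ + a ψ - a 1)
    (hfew : Nat.card {ω : A →* ℂˣ // a ω ≠ 0} < 2 * Nat.card A₁) :
    (∀ ω, a ω = 0) ∨
    (∃ (ψ₀ : A →* ℂˣ) (c : ℂ), ∀ ω, ((∀ w ∈ A₂, (ω * ψ₀⁻¹) w = 1) → a ω = c) ∧
      (¬ (∀ w ∈ A₂, (ω * ψ₀⁻¹) w = 1) → a ω = 0)) ∨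
    (∃ (φ₀ : A →* ℂˣ) (c : ℂ), ∀ ω, ((∀ w ∈ A₁, (ω * φ₀⁻¹) w = 1) → a ω = c) ∧
      (¬ (∀ w ∈ A₁, (ω * φ₀⁻¹) w = 1) → a ω = 0)) := by
  classical
  have : Fintype (A →* ℂˣ) := Fintype.ofFinite _
  obtain ⟨c1, c2⟩ := card_dual_eq hc A₁ A₂ hcard
  have hext' : ∀ φ : A →* ℂˣ, (∀ w ∈ A₂, φ w = 1) → (∀ w ∈ A₁, φ w = 1) → φ = 1 :=
    fun φ h2 h1 => hext φ h1 h2
  -- arithmetic
  have hn : Nat.card A₁ + 2 ≤ Nat.card A₂ := by
    rw [hcard, Nat.odd_mul] at hodd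
    obtain ⟨⟨k, hk⟩, ⟨l, hl⟩⟩ := hodd
    omega
  set S := Finset.univ.filter (fun ω : A →* ℂˣ => a ω ≠ 0) with hS
  have hScard : S.card < 2 * Nat.card A₁ := by
    have : Nat.card {ω : A →* ℂˣ // a ω ≠ 0} = S.card := by
      rw [Nat.card_eq_fintype_card, Fintype.card_subtype]
    rwa [this] at hfew
  have hinj : ∀ φ ∈ dualOf A₂, ∀ φ' ∈ dualOf A₂, ∀ ψ ∈ dualOf A₁, ∀ ψ' ∈ dualOf A₁,
      φ * ψ = φ' * ψ' → φ = φ' ∧ ψ = ψ' :=
    fun φ hφ φ' hφ' ψ hψ ψ' hψ' h => factor_inj A₁ A₂ hext hφ hφ' hψ hψ' h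
  have hmc : ∀ x y : A →* ℂˣ, x * y = y * x := fun x y => mul_comm x y
  have hinj' : ∀ ψ ∈ dualOf A₁, ∀ ψ' ∈ dualOf A₁, ∀ φ ∈ dualOf A₂, ∀ φ' ∈ dualOf A₂,
      ψ * φ = ψ' * φ' → ψ = ψ' ∧ φ = φ' := by
    intro ψ hψ ψ' hψ' φ hφ φ' hφ' h
    rw [hmc ψ, hmc ψ'] at h
    exact (hinj φ hφ φ' hφ' ψ hψ ψ' hψ' h).symm
  have hrect' : ∀ φ ∈ dualOf A₂, ∀ ψ ∈ dualOf A₁, a (φ * ψ) = a φ + a ψ - a 1 :=
    fun φ hφ ψ hψ => hrect φ ψ ((mem_dualOf A₂ φ).mp hφ) ((mem_dualOf A₁ ψ).mp hψ)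
  by_cases hA : ∀ φ ∈ dualOf A₂, a φ = a 1
  · -- column case
    have hval : ∀ φ ∈ dualOf A₂, ∀ ψ ∈ dualOf A₁, a (φ * ψ) = a ψ := by
      intro φ hφ ψ hψ
      rw [hrect' φ hφ ψ hψ, hA φ hφ]; ring
    by_cases hall : ∀ ψ ∈ dualOf A₁, a ψ = 0
    · left
      intro ω
      obtain ⟨φ, hφ, ψ, hψ, rfl⟩ := factor_surj hc A₁ A₂ hext hcard ω
      rw [hval φ hφ ψ hψ, hall ψ hψ]
    · right; left
      push Not at hall
      obtain ⟨ψ₀, hψ₀, hne⟩ := hall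
      have huniq : ∀ ψ ∈ dualOf A₁, ψ ≠ ψ₀ → a ψ = 0 := by
        intro ψ hψ hne'
        exact col_case (dualOf A₂) (dualOf A₁) a hinj hval (by rw [c1]; exact hScard) hψ₀ hψ
          (Ne.symm hne') hne
      refine ⟨ψ₀, a ψ₀, fun ω => ?_⟩
      obtain ⟨φ, hφ, ψ, hψ, rfl⟩ := factor_surj hc A₁ A₂ hext hcard ω
      rw [trivial_iff A₁ A₂ hext hφ hψ hψ₀, hval φ hφ ψ hψ]
      constructor
      · rintro rfl; rfl
      · intro h; exact huniq ψ hψ h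
  · by_cases hB : ∀ ψ ∈ dualOf A₁, a ψ = a 1
    · -- row case
      have hval : ∀ ψ ∈ dualOf A₁, ∀ φ ∈ dualOf A₂, a (ψ * φ) = a φ := by
        intro ψ hψ φ hφ
        rw [hmc ψ φ, hrect' φ hφ ψ hψ, hB ψ hψ]; ring
      right; right
      push Not at hA
      obtain ⟨φ₁, hφ₁, hne₁⟩ := hA
      -- some φ₀ with a φ₀ ≠ 0
      have hex : ∃ φ₀ ∈ dualOf A₂, a φ₀ ≠ 0 := by
        by_cases h1 : a 1 = 0
        · exact ⟨φ₁, hφ₁, by rw [h1] at hne₁; exact hne₁⟩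
        · exact ⟨1, one_mem_dualOf A₂, h1⟩
      obtain ⟨φ₀, hφ₀, hne⟩ := hex
      have huniq : ∀ φ ∈ dualOf A₂, φ ≠ φ₀ → a φ = 0 := by
        intro φ hφ hne'
        exact col_case (dualOf A₁) (dualOf A₂) a hinj' hval
          (lt_of_lt_of_le hScard (by rw [c2]; omega)) hφ₀ hφ
          (Ne.symm hne') hne
      refine ⟨φ₀, a φ₀, fun ω => ?_⟩
      obtain ⟨φ, hφ, ψ, hψ, rfl⟩ := factor_surj hc A₁ A₂ hext hcard ω
      rw [hmc φ ψ, trivial_iff A₂ A₁ hext' hψ hφ hφ₀, hval ψ hψ φ hφ]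
      constructor
      · rintro rfl; rfl
      · intro h; exact huniq φ hφ h
    · exfalso
      push Not at hA hB
      obtain ⟨φ₁, hφ₁, hne₁⟩ := hA
      obtain ⟨ψ₁, hψ₁, hne₂⟩ := hB
      have hcomb := comb_both (dualOf A₂) (dualOf A₁) (fun φ => a φ - a 1) (fun ψ => a ψ)
        hφ₁ (one_mem_dualOf A₂)
        (by intro h; apply hne₁; have h' : a φ₁ - a 1 = a 1 - a 1 := h; linear_combination h')
        hψ₁ (one_mem_dualOf A₁) hne₂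
      have hTS : (((dualOf A₂) ×ˢ (dualOf A₁)).filter
          (fun p => a p.1 - a 1 + a p.2 ≠ 0)).card ≤ S.card := by
        apply Finset.card_le_card_of_injOn (fun p => p.1 * p.2)
        · intro p hp
          rw [Finset.mem_coe, Finset.mem_filter, Finset.mem_product] at hp
          rw [Finset.mem_coe, hS, Finset.mem_filter]
          refine ⟨Finset.mem_univ _, ?_⟩
          show a (p.1 * p.2) ≠ 0
          rw [hrect' _ hp.1.1 _ hp.1.2]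
          intro h
          apply hp.2
          show a p.1 - a 1 + a p.2 = 0
          rw [← h]; ring
        · intro p hp q hq hpq
          rw [Finset.mem_coe, Finset.mem_filter, Finset.mem_product] at hp hq
          obtain ⟨e1, e2⟩ := hinj _ hp.1.1 _ hq.1.1 _ hp.1.2 _ hq.1.2 hpq
          exact Prod.ext e1 e2
      rw [c1, c2] at hcomb
      omega

end Abstract

open Classical in
/-- Let W₁, W₂ ≤ G form a self-normalising cyclic subgroup W = W₁ ⊔ W₂ of odd order with Nat.card W₁ < Nat.card W₂, and χ an orthonormal family of irreducible characters of G up to sign, indexed by the linear characters ω of W, with χ_1 = 1, χ_ω = ω on W outside W₁ ∪ W₂, and the induction identity for (1 − φ)(1 − ψ). Let θ be a class function of G vanishing on W outside W₁ ∪ W₂, and suppose fewer than 2 · Nat.card W₁ linear characters ω of W have ⟨θ, χ ω⟩ ≠ 0. Then one of: all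 ⟨θ, χ ω⟩ vanish; or there are ψ₀ and a with ⟨θ, χ ω⟩ = a when ω ψ₀⁻¹ is trivial on W₂ and 0 otherwise; or there are φ₀ and a with ⟨θ, χ ω⟩ = a when ω φ₀⁻¹ is trivial on W₁ and 0 otherwise. -/
theorem result {G : Type*} [Group G] [Fintype G] (W₁ W₂ : Subgroup G) (hW : Cfsg.IsSelfNormalizingCyclic W₁ W₂) (hodd : Odd (Nat.card ↥(W₁ ⊔ W₂))) (χ : (↥(W₁ ⊔ W₂) →* ℂˣ) → (G → ℂ)) (hχ : Cfsg.IsCyclicTIFamily W₁ W₂ χ) (hlt : Nat.card W₁ < Nat.card W₂) (θ : G → ℂ) (hθ : Cfsg.IsClassFunction G θ) (hθV : ∀ w : ↥(W₁ ⊔ W₂), (w : G) ∉ W₁ → (w : G) ∉ W₂ → θ w = 0) (hfew : Nat.card {ω : ↥(W₁ ⊔ W₂) →* ℂˣ // Cfsg.classInner θ (χ ω) ≠ 0} < 2 * Nat.card W₁) : (∀ ω, Cfsg.classInner θ (χ ω) = 0) ∨ (∃ (ψ₀ : ↥(W₁ ⊔ W₂) →* ℂˣ) (a : ℂ), ∀ ω, Cfsg.classInner θ (χ ω) = if (∀ w : ↥(W₁ ⊔ W₂), (w : G) ∈ W₂ → (ω * ψ₀⁻¹) w = 1) then a else 0) ∨ (∃ (φ₀ : ↥(W₁ ⊔ W₂) →* ℂˣ) (a : ℂ), ∀ ω, Cfsg.classInner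 θ (χ ω) = if (∀ w : ↥(W₁ ⊔ W₂), (w : G) ∈ W₁ → (ω * φ₀⁻¹) w = 1) then a else 0) := by
  have hFW : Fintype ↥(W₁ ⊔ W₂) := Fintype.ofFinite _
  obtain ⟨hW₁, hW₂, hinf, hcomm, hcyc, hnorm⟩ := hW
  have hWcomm : ∀ a b : ↥(W₁ ⊔ W₂), a * b = b * a := by
    intro a b
    obtain ⟨g, hg⟩ := hcyc.exists_generator
    obtain ⟨m, rfl⟩ := hg a
    obtain ⟨n, rfl⟩ := hg b
    exact zpow_mul_comm g m n
  have hext : ∀ φ : ↥(W₁ ⊔ W₂) →* ℂˣ, (∀ w ∈ W₁.subgroupOf (W₁ ⊔ W₂), φ w = 1) →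
      (∀ w ∈ W₂.subgroupOf (W₁ ⊔ W₂), φ w = 1) → φ = 1 :=
    fun φ h1 h2 => hom_ext_sup W₁ W₂ φ 1 (fun w hw => h1 w hw) (fun w hw => h2 w hw)
  have hc1 : Nat.card (W₁.subgroupOf (W₁ ⊔ W₂)) = Nat.card W₁ :=
    Nat.card_congr (Subgroup.subgroupOfEquivOfLe le_sup_left).toEquiv
  have hc2 : Nat.card (W₂.subgroupOf (W₁ ⊔ W₂)) = Nat.card W₂ :=
    Nat.card_congr (Subgroup.subgroupOfEquivOfLe le_sup_right).toEquiv
  have hle : W₂ ≤ Subgroup.normalizer (W₁ : Set G) := by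
    intro b hb
    rw [Subgroup.mem_normalizer_iff]
    intro a
    constructor
    · intro ha
      have : b * a * b⁻¹ = a := by rw [← hcomm a ha b hb, mul_inv_cancel_right]
      rw [this]; exact ha
    · intro ha
      have h1 := hcomm _ ha b hb
      have h2 : a = b * a * b⁻¹ := by
        have : b * a * b⁻¹ * b = b * a := by group
        rw [h1] at this
        exact (mul_left_cancel this).symm
      rw [h2]; exact ha
  have hcard : Nat.card ↥(W₁ ⊔ W₂)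
      = Nat.card (W₁.subgroupOf (W₁ ⊔ W₂)) * Nat.card (W₂.subgroupOf (W₁ ⊔ W₂)) := by
    rw [hc1, hc2]
    exact Cfsg.Agent.Lib.Helper54.card_sup_of_le_normalizer hle hinf
  have key := rect_abstract hWcomm (W₁.subgroupOf (W₁ ⊔ W₂)) (W₂.subgroupOf (W₁ ⊔ W₂)) hext hcard
    hodd (by rw [hc1, hc2]; exact hlt) (fun ω => Cfsg.classInner θ (χ ω))
    (fun φ ψ h1 h2 => S1506.key W₁ W₂ χ hχ θ hθ hθV φ ψ (fun w hw => h1 w hw)
      (fun w hw => h2 w hw))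
    (by rw [hc1]; exact hfew)
  rcases key with h | ⟨ψ₀, c, h⟩ | ⟨φ₀, c, h⟩
  · left; exact h
  · right; left
    refine ⟨ψ₀, c, fun ω => ?_⟩
    by_cases hP : ∀ w : ↥(W₁ ⊔ W₂), (w : G) ∈ W₂ → (ω * ψ₀⁻¹) w = 1
    · rw [if_pos hP]; exact (h ω).1 (fun w hw => hP w hw)
    · rw [if_neg hP]; exact (h ω).2 (fun h' => hP (fun w hw => h' w hw))
  · right; right
    refine ⟨φ₀, c, fun ω => ?_⟩
    by_cases hP : ∀ w : ↥(W₁ ⊔ W₂), (w : G) ∈ W₁ → (ω * φ₀⁻¹) w = 1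
    · rw [if_pos hP]; exact (h ω).1 (fun w hw => hP w hw)
    · rw [if_neg hP]; exact (h ω).2 (fun h' => hP (fun w hw => h' w hw))

end Cfsg.Agent.S1507
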