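import Cfsg.Statements.S1502
import Mathlib
import Cfsg.Agent.Lib.Helper25.CycDecomp
import Cfsg.Agent.Lib.Helper25.LinChar
import Cfsg.Agent.Lib.Helper25.Induced
import Cfsg.Agent.Lib.Helper25.Dual
import Cfsg.Agent.Lib.Helper25.Dual2
import Cfsg.Agent.Lib.Helper3.Induction
import Cfsg.Agent.Lib.Helper54.Coprime
import Cfsg.Agent.Lib.Helper75.IndNormal
import Cfsg.Agent.Lib.Helper78.CharOrtho
import Cfsg.Agent.Lib.Helper80.CharBasic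
import Cfsg.Agent.S0148
import Cfsg.Agent.S1505
import Cfsg.Agent.S1507
import Cfsg.Agent.S1511

set_option autoImplicit false
set_option linter.unusedSectionVars false
open Cfsg

namespace Cfsg.Agent.S1502

open Cfsg.Agent.Lib.Helper25 Cfsg.Agent.Lib.Helper26

section PartA

variable {G : Type*} [Group G] [Fintype G] (W₁ W₂ : Subgroup G)

/-- the function `(1 - φ)(1 - ψ)` -/
def alpha (φ ψ : ↥(W₁ ⊔ W₂) →* ℂˣ) : ↥(W₁ ⊔ W₂) → ℂ :=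
  fun w => 1 - (φ w : ℂ) - (ψ w : ℂ) + (φ w : ℂ) * (ψ w : ℂ)

theorem gen_ind_alpha (φ ψ : ↥(W₁ ⊔ W₂) →* ℂˣ) :
    IsGeneralizedCharacter G (indFun (W₁ ⊔ W₂) (alpha W₁ W₂ φ ψ)) := by
  have F := irrFacts G
  have hlin : ∀ ω : ↥(W₁ ⊔ W₂) →* ℂˣ,
      IsGeneralizedCharacter G (indFun (W₁ ⊔ W₂) (linFun ω)) := fun ω =>
    isGeneralizedCharacter_of_isCharacter (S0148.result _ _
      (Lib.Helper80.isCharacter_of_isIrr (Lib.Helper80.isIrrCharacter_of_hom ω)))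
  have e : alpha W₁ W₂ φ ψ = linFun 1 - linFun φ - linFun ψ + linFun (φ * ψ) := by
    funext w; simp [alpha, linFun]
  rw [e, Lib.Helper75.indFun_add, S1511.indFun_sub, S1511.indFun_sub]
  exact F.gen_add (F.gen_sub (F.gen_sub (hlin 1) (hlin φ)) (hlin ψ)) (hlin _)

theorem one_gen : IsGeneralizedCharacter G (fun _ : G => (1 : ℂ)) :=
  isGeneralizedCharacter_of_isCharacter Lib.Helper80.isCharacter_one

theorem one_sirr : SIrr G (fun _ : G => (1 : ℂ)) := Or.inl Lib.Helper80.isIrrCharacter_one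

/-- the first index type: nontrivial characters trivial on `W₂` -/
abbrev Idx₁ := {φ : ↥(W₁ ⊔ W₂) →* ℂˣ // φ ≠ 1 ∧ ∀ w : ↥(W₁ ⊔ W₂), (w : G) ∈ W₂ → φ w = 1}

/-- the second index type: nontrivial characters trivial on `W₁` -/
abbrev Idx₂ := {ψ : ↥(W₁ ⊔ W₂) →* ℂˣ // ψ ≠ 1 ∧ ∀ w : ↥(W₁ ⊔ W₂), (w : G) ∈ W₁ → ψ w = 1}

/-- the array `β(φ, ψ) = Ind α(φ, ψ) - 1` -/
noncomputable def beta (φ : Idx₁ W₁ W₂) (ψ : Idx₂ W₁ W₂) : G → ℂ :=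
  indFun (W₁ ⊔ W₂) (alpha W₁ W₂ φ.1 ψ.1) - fun _ => 1

theorem beta_arr (hW : Cfsg.IsSelfNormalizingCyclic W₁ W₂) :
    Arr (beta W₁ W₂) ∧ ∀ φ ψ, classInner (beta W₁ W₂ φ ψ) (fun _ => 1) = 0 := by
  classical
  have F := irrFacts G
  have hgen : ∀ φ ψ, IsGeneralizedCharacter G (beta W₁ W₂ φ ψ) := fun φ ψ =>
    F.gen_sub (gen_ind_alpha W₁ W₂ _ _) one_gen
  have h11 : classInner (fun _ : G => (1 : ℂ)) (fun _ : G => (1 : ℂ)) = 1 := one_sirr.norm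
  have key : ∀ (φ φ' : Idx₁ W₁ W₂) (ψ ψ' : Idx₂ W₁ W₂),
      classInner (indFun (W₁ ⊔ W₂) (alpha W₁ W₂ φ.1 ψ.1)) (fun _ => 1) = 1 ∧
      classInner (indFun (W₁ ⊔ W₂) (alpha W₁ W₂ φ.1 ψ.1))
        (indFun (W₁ ⊔ W₂) (alpha W₁ W₂ φ'.1 ψ'.1))
        = 1 + (if φ.1 = φ'.1 then 1 else 0) + (if ψ.1 = ψ'.1 then 1 else 0) +
          (if φ.1 = φ'.1 then 1 else 0) * (if ψ.1 = ψ'.1 then 1 else 0) := fun φ φ' ψ ψ' =>
    S1505.result W₁ W₂ hW φ.1 φ'.1 ψ.1 ψ'.1 φ.2.1 φ'.2.1 ψ.2.1 ψ'.2.1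
      (fun w hw => ⟨φ.2.2 w hw, φ'.2.2 w hw⟩) (fun w hw => ⟨ψ.2.2 w hw, ψ'.2.2 w hw⟩)
  have h1a : ∀ (φ : Idx₁ W₁ W₂) (ψ : Idx₂ W₁ W₂),
      classInner (fun _ : G => (1 : ℂ)) (indFun (W₁ ⊔ W₂) (alpha W₁ W₂ φ.1 ψ.1)) = 1 := by
    intro φ ψ
    rw [gen_inner_comm (gen_ind_alpha W₁ W₂ _ _) one_gen]
    exact (key φ φ ψ ψ).1
  have hbb : ∀ (φ φ' : Idx₁ W₁ W₂) (ψ ψ' : Idx₂ W₁ W₂),
      classInner (beta W₁ W₂ φ ψ) (beta W₁ W₂ φ' ψ')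
        = (if φ.1 = φ'.1 then 1 else 0) + (if ψ.1 = ψ'.1 then 1 else 0) +
          (if φ.1 = φ'.1 then 1 else 0) * (if ψ.1 = ψ'.1 then 1 else 0) := by
    intro φ φ' ψ ψ'
    unfold beta
    rw [Lib.Helper26.classInner_sub_left, Lib.Helper26.classInner_sub_right,
      Lib.Helper26.classInner_sub_right, (key φ φ' ψ ψ').2, (key φ φ' ψ ψ').1, h1a, h11]
    ring
  have hne₁ : ∀ {φ φ' : Idx₁ W₁ W₂}, φ ≠ φ' → φ.1 ≠ φ'.1 := fun h h' => h (Subtype.ext h')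
  have hne₂ : ∀ {ψ ψ' : Idx₂ W₁ W₂}, ψ ≠ ψ' → ψ.1 ≠ ψ'.1 := fun h h' => h (Subtype.ext h')
  refine ⟨⟨hgen, ?_, ?_, ?_, ?_⟩, ?_⟩
  · intro φ ψ
    rw [hbb, if_pos rfl, if_pos rfl]; norm_num
  · intro φ ψ ψ' h
    rw [hbb, if_pos rfl, if_neg (hne₂ h)]; norm_num
  · intro φ φ' ψ h
    rw [hbb, if_pos rfl, if_neg (hne₁ h)]; norm_num
  · intro φ φ' ψ ψ' h h'
    rw [hbb, if_neg (hne₁ h), if_neg (hne₂ h')]; norm_num
  · intro φ ψ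
    unfold beta
    rw [Lib.Helper26.classInner_sub_left, (key φ φ ψ ψ).1, h11, sub_self]

end PartA



section PartC

open scoped ComplexConjugate

variable {G : Type*} [Group G] [Fintype G] (W₁ W₂ : Subgroup G)

omit [Fintype G] in
theorem centralizer_singleton (x : G) :
    Subgroup.centralizer ({x} : Set G) = Subgroup.normalizer ({x} : Set G) := by
  ext g
  rw [Subgroup.mem_centralizer_iff, Subgroup.mem_set_normalizer_iff]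
  constructor
  · intro h n
    have h1 := h x rfl
    simp only [Set.mem_singleton_iff]
    constructor
    · rintro rfl
      rw [← h1, mul_inv_cancel_right]
    · intro h2
      have : n = g⁻¹ * (g * n * g⁻¹) * g := by group
      rw [this, h2, mul_assoc, h1, inv_mul_cancel_left]
  · intro h y hy
    rw [Set.mem_singleton_iff] at hy
    rw [hy]
    have h1 := (h x).mp rfl
    rw [Set.mem_singleton_iff] at h1
    calc x * g = (g * x * g⁻¹) * g := by rw [h1]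
      _ = g * x := by group

theorem values_lemma (hW : Cfsg.IsSelfNormalizingCyclic W₁ W₂)
    (χ : (↥(W₁ ⊔ W₂) →* ℂˣ) → (G → ℂ))
    (hirr : ∀ ω, SIrr G (χ ω))
    (horth : ∀ ω ω', ω ≠ ω' → classInner (χ ω) (χ ω') = 0)
    (v : ↥(W₁ ⊔ W₂)) (hv₁ : (v : G) ∉ W₁) (hv₂ : (v : G) ∉ W₂)
    (hadd : ∀ φ ψ : ↥(W₁ ⊔ W₂) →* ℂˣ, (∀ w : ↥(W₁ ⊔ W₂), (w : G) ∈ W₂ → φ w = 1) →
      (∀ w : ↥(W₁ ⊔ W₂), (w : G) ∈ W₁ → ψ w = 1) →
      χ (φ * ψ) v - ((φ * ψ) v : ℂ) = (χ φ v - (φ v : ℂ)) + (χ ψ v - (ψ v : ℂ))) :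
    ∀ ω, χ ω v = (ω v : ℂ) := by
  classical
  have hFW : Fintype ↥(W₁ ⊔ W₂) := Fintype.ofFinite _
  have : Fintype (↥(W₁ ⊔ W₂) →* ℂˣ) := Fintype.ofFinite _
  obtain ⟨hW₁, hW₂, hinf, hcomm, hcyc, hnorm⟩ := hW
  have hWcomm : ∀ a b : ↥(W₁ ⊔ W₂), a * b = b * a := by
    intro a b
    obtain ⟨g, hg⟩ := hcyc.exists_generator
    obtain ⟨m, rfl⟩ := hg a
    obtain ⟨n, rfl⟩ := hg b
    exact zpow_mul_comm g m n
  have hext : ∀ φ : ↥(W₁ ⊔ W₂) →* ℂˣ, (∀ w ∈ W₁.subgroupOf (W₁ ⊔ W₂), φ w = 1) →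
      (∀ w ∈ W₂.subgroupOf (W₁ ⊔ W₂), φ w = 1) → φ = 1 :=
    fun φ h1 h2 => hom_ext_sup W₁ W₂ φ 1 (fun w hw => h1 w hw) (fun w hw => h2 w hw)
  have hc1 : Nat.card (W₁.subgroupOf (W₁ ⊔ W₂)) = Nat.card W₁ :=
    Nat.card_congr (Subgroup.subgroupOfEquivOfLe le_sup_left).toEquiv
  have hc2 : Nat.card (W₂.subgroupOf (W₁ ⊔ W₂)) = Nat.card W₂ :=
    Nat.card_congr (Subgroup.subgroupOfEquivOfLe le_sup_right).toEquiv
  have hle : W₂ ≤ Subgroup.normalizer (W₁ : Set G) := by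
    intro b hb
    rw [Subgroup.mem_normalizer_iff]
    intro a
    constructor
    · intro ha
      have : b * a * b⁻¹ = a := by rw [← hcomm a ha b hb, mul_inv_cancel_right]
      rw [this]; exact ha
    · intro ha
      have h1 := hcomm _ ha b hb
      have h2 : a = b * a * b⁻¹ := by
        have : b * a * b⁻¹ * b = b * a := by group
        rw [h1] at this
        exact (mul_left_cancel this).symm
      rw [h2]; exact ha
  have hcard : Nat.card ↥(W₁ ⊔ W₂)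
      = Nat.card (W₁.subgroupOf (W₁ ⊔ W₂)) * Nat.card (W₂.subgroupOf (W₁ ⊔ W₂)) := by
    rw [hc1, hc2]
    exact Cfsg.Agent.Lib.Helper54.card_sup_of_le_normalizer hle hinf
  set A₁ := W₁.subgroupOf (W₁ ⊔ W₂) with hA₁
  set A₂ := W₂.subgroupOf (W₁ ⊔ W₂) with hA₂
  have hvA₁ : v ∉ A₁ := fun h => hv₁ (Subgroup.mem_subgroupOf.mp h)
  have hvA₂ : v ∉ A₂ := fun h => hv₂ (Subgroup.mem_subgroupOf.mp h)
  set d : (↥(W₁ ⊔ W₂) →* ℂˣ) → ℂ := fun ω => χ ω v - (ω v : ℂ) with hd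
  have hadd' : ∀ φ ∈ dualOf A₂, ∀ ψ ∈ dualOf A₁, d (φ * ψ) = d φ + d ψ := by
    intro φ hφ ψ hψ
    exact hadd φ ψ (fun w hw => (mem_dualOf A₂ φ).mp hφ w (Subgroup.mem_subgroupOf.mpr hw))
      (fun w hw => (mem_dualOf A₁ ψ).mp hψ w (Subgroup.mem_subgroupOf.mpr hw))
  have hsumΨ : ∑ ψ ∈ dualOf A₁, ((ψ v : ℂˣ) : ℂ) = 0 := by
    rw [sum_dualOf hWcomm A₁ v, if_neg hvA₁]
  have hsumΦ : ∑ φ ∈ dualOf A₂, ((φ v : ℂˣ) : ℂ) = 0 := by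
    rw [sum_dualOf hWcomm A₂ v, if_neg hvA₂]
  have hreindex : ∀ F : (↥(W₁ ⊔ W₂) →* ℂˣ) → ℂ,
      ∑ ω, F ω = ∑ φ ∈ dualOf A₂, ∑ ψ ∈ dualOf A₁, F (φ * ψ) := by
    intro F
    rw [← Finset.sum_product' (dualOf A₂) (dualOf A₁) (fun φ ψ => F (φ * ψ))]
    have himg : (Finset.univ : Finset (↥(W₁ ⊔ W₂) →* ℂˣ))
        = ((dualOf A₂) ×ˢ (dualOf A₁)).image (fun p => p.1 * p.2) := by
      ext ω
      simp only [Finset.mem_univ, true_iff, Finset.mem_image, Finset.mem_product]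
      obtain ⟨φ, hφ, ψ, hψ, rfl⟩ := S1507.factor_surj hWcomm A₁ A₂ hext hcard ω
      exact ⟨(φ, ψ), ⟨hφ, hψ⟩, rfl⟩
    rw [himg, Finset.sum_image]
    intro p hp q hq hpq
    rw [Finset.mem_coe, Finset.mem_product] at hp hq
    obtain ⟨e1, e2⟩ := S1507.factor_inj A₁ A₂ hext hp.1 hq.1 hp.2 hq.2 hpq
    exact Prod.ext e1 e2
  have hS0 : ∑ ω : ↥(W₁ ⊔ W₂) →* ℂˣ, ((ω v : ℂˣ) : ℂ) * conj (d ω) = 0 := by
    rw [hreindex]
    calc ∑ φ ∈ dualOf A₂, ∑ ψ ∈ dualOf A₁, (((φ * ψ) v : ℂˣ) : ℂ) * conj (d (φ * ψ))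
        = ∑ φ ∈ dualOf A₂, ∑ ψ ∈ dualOf A₁, (((φ v : ℂˣ) : ℂ) * conj (d φ) * ((ψ v : ℂˣ) : ℂ)
            + ((φ v : ℂˣ) : ℂ) * (((ψ v : ℂˣ) : ℂ) * conj (d ψ))) := by
          apply Finset.sum_congr rfl
          intro φ hφ
          apply Finset.sum_congr rfl
          intro ψ hψ
          rw [hadd' φ hφ ψ hψ, map_add, MonoidHom.mul_apply, Units.val_mul]; ring
      _ = ∑ φ ∈ dualOf A₂, (((φ v : ℂˣ) : ℂ) * conj (d φ) * ∑ ψ ∈ dualOf A₁, ((ψ v : ℂˣ) : ℂ)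
            + ((φ v : ℂˣ) : ℂ) * ∑ ψ ∈ dualOf A₁, ((ψ v : ℂˣ) : ℂ) * conj (d ψ)) := by
          apply Finset.sum_congr rfl
          intro φ _
          rw [Finset.sum_add_distrib, Finset.mul_sum, Finset.mul_sum]
      _ = 0 := by
          rw [hsumΨ]
          simp only [mul_zero, zero_add]
          rw [← Finset.sum_mul, hsumΦ, zero_mul]
  have hnorm1 : ∀ ω : ↥(W₁ ⊔ W₂) →* ℂˣ, Complex.normSq ((ω v : ℂˣ) : ℂ) = 1 := by
    intro ω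
    rw [Complex.normSq_eq_norm_sq ((ω v : ℂˣ) : ℂ), lin_norm_one]; norm_num
  have hexp : ∀ ω, Complex.normSq (χ ω v)
      = 1 + Complex.normSq (d ω) + 2 * (((ω v : ℂˣ) : ℂ) * conj (d ω)).re := by
    intro ω
    have : χ ω v = ((ω v : ℂˣ) : ℂ) + d ω := by rw [hd]; ring
    rw [this, Complex.normSq_add, hnorm1]
  have hsum1 : ∑ ω : ↥(W₁ ⊔ W₂) →* ℂˣ, Complex.normSq (χ ω v)
      = (Nat.card ↥(W₁ ⊔ W₂) : ℝ) + ∑ ω : ↥(W₁ ⊔ W₂) →* ℂˣ, Complex.normSq (d ω) := by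
    simp_rw [hexp]
    rw [Finset.sum_add_distrib, Finset.sum_add_distrib, Finset.sum_const, Finset.card_univ,
      ← Finset.mul_sum, ← Complex.re_sum, hS0, ← Nat.card_eq_fintype_card, card_hom_eq hWcomm]
    simp
  have hcent : Subgroup.centralizer ({(v : G)} : Set G) = W₁ ⊔ W₂ := by
    have hN : Subgroup.normalizer ({(v : G)} : Set G) = W₁ ⊔ W₂ := hnorm {(v : G)} (by
      intro y hy
      rw [Set.mem_singleton_iff] at hy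
      rw [hy]
      refine ⟨v.2, ?_⟩
      rintro (h | h)
      · exact hv₁ h
      · exact hv₂ h) (Set.singleton_nonempty _)
    exact (centralizer_singleton (v : G)).trans hN
  have hso := Cfsg.Agent.Lib.Helper78.second_orthogonality_of_isConj (IsConj.refl (v : G))
  rw [hcent] at hso
  have hso' : ∑ θ : Cfsg.IrrCharacter G, Complex.normSq ((θ : G → ℂ) v)
      = (Nat.card ↥(W₁ ⊔ W₂) : ℝ) := by
    have : ((∑ θ : Cfsg.IrrCharacter G, Complex.normSq ((θ : G → ℂ) v) : ℝ) : ℂ)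
        = ((Nat.card ↥(W₁ ⊔ W₂) : ℝ) : ℂ) := by
      push_cast
      rw [← hso]
      apply Finset.sum_congr rfl
      intro θ _
      rw [Complex.mul_conj]
    exact_mod_cast this
  -- the irreducible characters `± χ ω`
  let μ : (↥(W₁ ⊔ W₂) →* ℂˣ) → (G → ℂ) := fun ω =>
    if Cfsg.IsIrrCharacter G (χ ω) then χ ω else - χ ω
  have hμirr : ∀ ω, Cfsg.IsIrrCharacter G (μ ω) := by
    intro ω
    show Cfsg.IsIrrCharacter G (if Cfsg.IsIrrCharacter G (χ ω) then χ ω else - χ ω)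
    split_ifs with h
    · exact h
    · rcases hirr ω with h' | h'
      · exact absurd h' h
      · exact h'
  have hμχ : ∀ ω, μ ω = χ ω ∨ μ ω = - χ ω := by
    intro ω
    show (if Cfsg.IsIrrCharacter G (χ ω) then χ ω else - χ ω) = χ ω ∨
      (if Cfsg.IsIrrCharacter G (χ ω) then χ ω else - χ ω) = - χ ω
    split_ifs
    · left; rfl
    · right; rfl
  have hμsq : ∀ ω, Complex.normSq (μ ω v) = Complex.normSq (χ ω v) := by
    intro ω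
    rcases hμχ ω with h | h
    · rw [h]
    · rw [h, Pi.neg_apply, Complex.normSq_neg]
  have hμinj : Function.Injective μ := by
    intro ω ω' h
    by_contra hne
    have h0 := horth ω ω' hne
    have h1 : classInner (μ ω) (μ ω') = 1 := by rw [h]; exact irr_norm' (hμirr ω')
    rcases hμχ ω with e | e <;> rcases hμχ ω' with e' | e' <;> rw [e, e'] at h1
    · rw [h0] at h1; norm_num at h1
    · rw [Lib.Helper26.classInner_neg_right, h0] at h1; norm_num at h1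
    · rw [Lib.Helper26.classInner_neg_left, h0] at h1; norm_num at h1
    · rw [Lib.Helper26.classInner_neg_left, Lib.Helper26.classInner_neg_right, h0] at h1
      norm_num at h1
  let μ' : (↥(W₁ ⊔ W₂) →* ℂˣ) → Cfsg.IrrCharacter G := fun ω => ⟨μ ω, hμirr ω⟩
  have hμ'inj : Function.Injective μ' := fun a b h => hμinj (congrArg Subtype.val h)
  have hsplit : ∑ θ : Cfsg.IrrCharacter G, Complex.normSq ((θ : G → ℂ) v)
      = ∑ ω : ↥(W₁ ⊔ W₂) →* ℂˣ, Complex.normSq (μ ω v)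
        + ∑ θ ∈ (Finset.univ.image μ')ᶜ, Complex.normSq ((θ : G → ℂ) v) := by
    rw [← Finset.sum_add_sum_compl (Finset.univ.image μ'),
      Finset.sum_image (fun a _ b _ h => hμ'inj h)]
  have hn1 : 0 ≤ ∑ ω : ↥(W₁ ⊔ W₂) →* ℂˣ, Complex.normSq (d ω) :=
    Finset.sum_nonneg (fun _ _ => Complex.normSq_nonneg _)
  have hn2 : 0 ≤ ∑ θ ∈ (Finset.univ.image μ')ᶜ, Complex.normSq ((θ : G → ℂ) v) :=
    Finset.sum_nonneg (fun _ _ => Complex.normSq_nonneg _)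
  have hμsum : ∑ ω : ↥(W₁ ⊔ W₂) →* ℂˣ, Complex.normSq (μ ω v)
      = ∑ ω : ↥(W₁ ⊔ W₂) →* ℂˣ, Complex.normSq (χ ω v) :=
    Finset.sum_congr rfl (fun ω _ => hμsq ω)
  have hz1 : ∑ ω : ↥(W₁ ⊔ W₂) →* ℂˣ, Complex.normSq (d ω) = 0 := by linarith
  intro ω
  have := (Finset.sum_eq_zero_iff_of_nonneg (fun _ _ => Complex.normSq_nonneg _)).mp hz1 ω
    (Finset.mem_univ _)
  have h0 : d ω = 0 := Complex.normSq_eq_zero.mp this
  exact sub_eq_zero.mp h0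

end PartC


section PartD

variable {G : Type*} [Group G] [Fintype G] (W₁ W₂ : Subgroup G)

omit [Fintype G] in
theorem setup (hW : Cfsg.IsSelfNormalizingCyclic W₁ W₂) :
    (∀ a b : ↥(W₁ ⊔ W₂), a * b = b * a) ∧
    (∀ φ : ↥(W₁ ⊔ W₂) →* ℂˣ, (∀ w ∈ W₁.subgroupOf (W₁ ⊔ W₂), φ w = 1) →
      (∀ w ∈ W₂.subgroupOf (W₁ ⊔ W₂), φ w = 1) → φ = 1) := by
  obtain ⟨hW₁, hW₂, hinf, hcomm, hcyc, hnorm⟩ := hW
  constructor
  · intro a b
    obtain ⟨g, hg⟩ := hcyc.exists_generator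
    obtain ⟨m, rfl⟩ := hg a
    obtain ⟨n, rfl⟩ := hg b
    exact zpow_mul_comm g m n
  · exact fun φ h1 h2 => hom_ext_sup W₁ W₂ φ 1 (fun w hw => h1 w hw) (fun w hw => h2 w hw)

theorem setup_card [Finite G] (hW : Cfsg.IsSelfNormalizingCyclic W₁ W₂) :
    Nat.card (W₁.subgroupOf (W₁ ⊔ W₂)) = Nat.card W₁ ∧
    Nat.card (W₂.subgroupOf (W₁ ⊔ W₂)) = Nat.card W₂ ∧
    Nat.card ↥(W₁ ⊔ W₂)
      = Nat.card (W₁.subgroupOf (W₁ ⊔ W₂)) * Nat.card (W₂.subgroupOf (W₁ ⊔ W₂)) := by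
  obtain ⟨hW₁, hW₂, hinf, hcomm, hcyc, hnorm⟩ := hW
  have hc1 : Nat.card (W₁.subgroupOf (W₁ ⊔ W₂)) = Nat.card W₁ :=
    Nat.card_congr (Subgroup.subgroupOfEquivOfLe le_sup_left).toEquiv
  have hc2 : Nat.card (W₂.subgroupOf (W₁ ⊔ W₂)) = Nat.card W₂ :=
    Nat.card_congr (Subgroup.subgroupOfEquivOfLe le_sup_right).toEquiv
  have hle : W₂ ≤ Subgroup.normalizer (W₁ : Set G) := by
    intro b hb
    rw [Subgroup.mem_normalizer_iff]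
    intro a
    constructor
    · intro ha
      have : b * a * b⁻¹ = a := by rw [← hcomm a ha b hb, mul_inv_cancel_right]
      rw [this]; exact ha
    · intro ha
      have h1 := hcomm _ ha b hb
      have h2 : a = b * a * b⁻¹ := by
        have : b * a * b⁻¹ * b = b * a := by group
        rw [h1] at this
        exact (mul_left_cancel this).symm
      rw [h2]; exact ha
  refine ⟨hc1, hc2, ?_⟩
  rw [hc1, hc2]
  exact Cfsg.Agent.Lib.Helper54.card_sup_of_le_normalizer hle hinf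

/-- the signed family -/
noncomputable def fam (x : Idx₁ W₁ W₂ → G → ℂ) (y : Idx₂ W₁ W₂ → G → ℂ)
    (z : Idx₁ W₁ W₂ → Idx₂ W₁ W₂ → G → ℂ) :
    Option (Idx₁ W₁ W₂) → Option (Idx₂ W₁ W₂) → G → ℂ
  | none, none => fun _ => 1
  | some φ, none => - x φ
  | none, some ψ => - y ψ
  | some φ, some ψ => z φ ψ

open Classical in
theorem fam_orth (x : Idx₁ W₁ W₂ → G → ℂ) (y : Idx₂ W₁ W₂ → G → ℂ)
    (z : Idx₁ W₁ W₂ → Idx₂ W₁ W₂ → G → ℂ)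
    (hx : ∀ i, SIrr G (x i)) (hy : ∀ j, SIrr G (y j)) (hz : ∀ i j, SIrr G (z i j))
    (hxx : ∀ i i', i ≠ i' → classInner (x i) (x i') = 0)
    (hyy : ∀ j j', j ≠ j' → classInner (y j) (y j') = 0)
    (hxy : ∀ i j, classInner (x i) (y j) = 0)
    (hxz : ∀ i i' j, classInner (x i') (z i j) = 0)
    (hyz : ∀ i j j', classInner (y j') (z i j) = 0)
    (hzz : ∀ i j i' j', (i ≠ i' ∨ j ≠ j') → classInner (z i j) (z i' j') = 0)
    (h1x : ∀ i, classInner (fun _ : G => (1 : ℂ)) (x i) = 0)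
    (h1y : ∀ j, classInner (fun _ : G => (1 : ℂ)) (y j) = 0)
    (h1z : ∀ i j, classInner (fun _ : G => (1 : ℂ)) (z i j) = 0)
    (a a' : Option (Idx₁ W₁ W₂)) (b b' : Option (Idx₂ W₁ W₂)) :
    classInner (fam W₁ W₂ x y z a b) (fam W₁ W₂ x y z a' b')
      = if a = a' ∧ b = b' then 1 else 0 := by
  have hyx : ∀ i j, classInner (y j) (x i) = 0 := fun i j => by
    rw [(hx i).inner_symm (hy j)]; exact hxy i j
  have hzx : ∀ i i' j, classInner (z i j) (x i') = 0 := fun i i' j => by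
    rw [(hx i').inner_symm (hz i j)]; exact hxz i i' j
  have hzy : ∀ i j j', classInner (z i j) (y j') = 0 := fun i j j' => by
    rw [(hy j').inner_symm (hz i j)]; exact hyz i j j'
  have hx1 : ∀ i, classInner (x i) (fun _ : G => (1 : ℂ)) = 0 := fun i => by
    rw [one_sirr.inner_symm (hx i)]; exact h1x i
  have hy1 : ∀ j, classInner (y j) (fun _ : G => (1 : ℂ)) = 0 := fun j => by
    rw [one_sirr.inner_symm (hy j)]; exact h1y j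
  have hz1 : ∀ i j, classInner (z i j) (fun _ : G => (1 : ℂ)) = 0 := fun i j => by
    rw [one_sirr.inner_symm (hz i j)]; exact h1z i j
  rcases a with _ | φ <;> rcases a' with _ | φ' <;> rcases b with _ | ψ <;> rcases b' with _ | ψ' <;>
    simp only [fam, Lib.Helper26.classInner_neg_left, Lib.Helper26.classInner_neg_right, neg_neg,
      reduceCtorEq, Option.some.injEq, and_true, true_and, and_false, false_and, if_false, if_true]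
  · exact one_sirr.norm
  · rw [h1y, neg_zero]
  · rw [hy1, neg_zero]
  · by_cases h : ψ = ψ'
    · rw [if_pos h, h]; exact (hy ψ').norm
    · rw [if_neg h]; exact hyy ψ ψ' h
  · rw [h1x, neg_zero]
  · exact h1z φ' ψ'
  · exact hyx φ' ψ
  · rw [hyz, neg_zero]
  · rw [hx1, neg_zero]
  · exact hxy φ ψ'
  · exact hz1 φ ψ
  · rw [hzy, neg_zero]
  · by_cases h : φ = φ'
    · rw [if_pos h, h]; exact (hx φ').norm
    · rw [if_neg h]; exact hxx φ φ' h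
  · rw [hxz, neg_zero]
  · rw [hzx, neg_zero]
  · by_cases h : φ = φ' ∧ ψ = ψ'
    · rw [if_pos h, h.1, h.2]; exact (hz φ' ψ').norm
    · rw [if_neg h]
      apply hzz
      by_contra hcon
      push Not at hcon
      exact h hcon

open Classical in
/-- the index of a character trivial on `W₂` -/
noncomputable def mk₁ (φ : ↥(W₁ ⊔ W₂) →* ℂˣ) : Option (Idx₁ W₁ W₂) :=
  if h : (φ ≠ 1 ∧ ∀ w : ↥(W₁ ⊔ W₂), (w : G) ∈ W₂ → φ w = 1) then some ⟨φ, h⟩ else none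

open Classical in
/-- the index of a character trivial on `W₁` -/
noncomputable def mk₂ (ψ : ↥(W₁ ⊔ W₂) →* ℂˣ) : Option (Idx₂ W₁ W₂) :=
  if h : (ψ ≠ 1 ∧ ∀ w : ↥(W₁ ⊔ W₂), (w : G) ∈ W₁ → ψ w = 1) then some ⟨ψ, h⟩ else none

theorem mk₁_one : mk₁ W₁ W₂ 1 = none := by
  unfold mk₁
  rw [dif_neg]
  intro h; exact h.1 rfl

theorem mk₂_one : mk₂ W₁ W₂ 1 = none := by
  unfold mk₂
  rw [dif_neg]
  intro h; exact h.1 rfl

theorem mk₁_inj {φ φ' : ↥(W₁ ⊔ W₂) →* ℂˣ}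
    (hφ : ∀ w : ↥(W₁ ⊔ W₂), (w : G) ∈ W₂ → φ w = 1)
    (hφ' : ∀ w : ↥(W₁ ⊔ W₂), (w : G) ∈ W₂ → φ' w = 1) (h : mk₁ W₁ W₂ φ = mk₁ W₁ W₂ φ') :
    φ = φ' := by
  unfold mk₁ at h
  by_cases h1 : φ = 1 <;> by_cases h2 : φ' = 1
  · rw [h1, h2]
  · rw [dif_neg (fun hh => hh.1 h1), dif_pos ⟨h2, hφ'⟩] at h
    exact absurd h (by simp)
  · rw [dif_pos ⟨h1, hφ⟩, dif_neg (fun hh => hh.1 h2)] at h
    exact absurd h (by simp)
  · rw [dif_pos ⟨h1, hφ⟩, dif_pos ⟨h2, hφ'⟩] at h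
    exact congrArg Subtype.val (Option.some.inj h)

theorem mk₂_inj {ψ ψ' : ↥(W₁ ⊔ W₂) →* ℂˣ}
    (hψ : ∀ w : ↥(W₁ ⊔ W₂), (w : G) ∈ W₁ → ψ w = 1)
    (hψ' : ∀ w : ↥(W₁ ⊔ W₂), (w : G) ∈ W₁ → ψ' w = 1) (h : mk₂ W₁ W₂ ψ = mk₂ W₁ W₂ ψ') :
    ψ = ψ' := by
  unfold mk₂ at h
  by_cases h1 : ψ = 1 <;> by_cases h2 : ψ' = 1
  · rw [h1, h2]
  · rw [dif_neg (fun hh => hh.1 h1), dif_pos ⟨h2, hψ'⟩] at h
    exact absurd h (by simp)
  · rw [dif_pos ⟨h1, hψ⟩, dif_neg (fun hh => hh.1 h2)] at h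
    exact absurd h (by simp)
  · rw [dif_pos ⟨h1, hψ⟩, dif_pos ⟨h2, hψ'⟩] at h
    exact congrArg Subtype.val (Option.some.inj h)

end PartD


section Assemble

variable {G : Type*} [Group G] [Fintype G] (W₁ W₂ : Subgroup G)

theorem assemble (hW : Cfsg.IsSelfNormalizingCyclic W₁ W₂)
    (x : Idx₁ W₁ W₂ → G → ℂ) (y : Idx₂ W₁ W₂ → G → ℂ) (z : Idx₁ W₁ W₂ → Idx₂ W₁ W₂ → G → ℂ)
    (i₀ : Idx₁ W₁ W₂) (j₀ : Idx₂ W₁ W₂)
    (hx : ∀ i, SIrr G (x i)) (hy : ∀ j, SIrr G (y j)) (hz : ∀ i j, SIrr G (z i j))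
    (hb : ∀ i j, beta W₁ W₂ i j = x i + y j + z i j)
    (hxx : ∀ i i', i ≠ i' → classInner (x i) (x i') = 0)
    (hyy : ∀ j j', j ≠ j' → classInner (y j) (y j') = 0)
    (hxy : ∀ i j, classInner (x i) (y j) = 0)
    (hxz : ∀ i i' j, classInner (x i') (z i j) = 0)
    (hyz : ∀ i j j', classInner (y j') (z i j) = 0)
    (hzz : ∀ i j i' j', (i ≠ i' ∨ j ≠ j') → classInner (z i j) (z i' j') = 0) :
    ∃ χ : (↥(W₁ ⊔ W₂) →* ℂˣ) → (G → ℂ), Cfsg.IsCyclicTIFamily W₁ W₂ χ := by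
  classical
  have hFW : Fintype ↥(W₁ ⊔ W₂) := Fintype.ofFinite _
  obtain ⟨hbarr, hb1⟩ := beta_arr W₁ W₂ hW
  obtain ⟨hWcomm, hext⟩ := setup W₁ W₂ hW
  obtain ⟨hc1, hc2, hcard⟩ := setup_card W₁ W₂ hW
  have hyx : ∀ i j, classInner (y j) (x i) = 0 := fun i j => by
    rw [(hx i).inner_symm (hy j)]; exact hxy i j
  have hzx : ∀ i i' j, classInner (z i j) (x i') = 0 := fun i i' j => by
    rw [(hx i').inner_symm (hz i j)]; exact hxz i i' j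
  have hzy : ∀ i j j', classInner (z i j) (y j') = 0 := fun i j j' => by
    rw [(hy j').inner_symm (hz i j)]; exact hyz i j j'
  have hbx : ∀ i j, classInner (beta W₁ W₂ i j) (x i) = 1 := by
    intro i j
    rw [hb, Lib.Helper26.classInner_add_left, Lib.Helper26.classInner_add_left, (hx i).norm,
      hyx, hzx]; ring
  have hby : ∀ i j, classInner (beta W₁ W₂ i j) (y j) = 1 := by
    intro i j
    rw [hb, Lib.Helper26.classInner_add_left, Lib.Helper26.classInner_add_left, (hy j).norm,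
      hxy, hzy]; ring
  have hbz : ∀ i j, classInner (beta W₁ W₂ i j) (z i j) = 1 := by
    intro i j
    rw [hb, Lib.Helper26.classInner_add_left, Lib.Helper26.classInner_add_left, (hz i j).norm,
      hxz, hyz]; ring
  have h1x : ∀ i, classInner (fun _ : G => (1 : ℂ)) (x i) = 0 := fun i => by
    rw [(hx i).inner_symm one_sirr]
    exact con_orth_of_zero (hx i) one_sirr (hbx i j₀) (hb1 i j₀)
  have h1y : ∀ j, classInner (fun _ : G => (1 : ℂ)) (y j) = 0 := fun j => by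
    rw [(hy j).inner_symm one_sirr]
    exact con_orth_of_zero (hy j) one_sirr (hby i₀ j) (hb1 i₀ j)
  have h1z : ∀ i j, classInner (fun _ : G => (1 : ℂ)) (z i j) = 0 := fun i j => by
    rw [(hz i j).inner_symm one_sirr]
    exact con_orth_of_zero (hz i j) one_sirr (hbz i j) (hb1 i j)
  -- the factorisation of linear characters of `W`
  have hsurj := S1507.factor_surj hWcomm (W₁.subgroupOf (W₁ ⊔ W₂)) (W₂.subgroupOf (W₁ ⊔ W₂))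
    hext hcard
  choose fa hfa fb hfb hfab using hsurj
  have hfa' : ∀ ω (w : ↥(W₁ ⊔ W₂)), (w : G) ∈ W₂ → fa ω w = 1 := fun ω w hw =>
    (mem_dualOf _ _).mp (hfa ω) w (Subgroup.mem_subgroupOf.mpr hw)
  have hfb' : ∀ ω (w : ↥(W₁ ⊔ W₂)), (w : G) ∈ W₁ → fb ω w = 1 := fun ω w hw =>
    (mem_dualOf _ _).mp (hfb ω) w (Subgroup.mem_subgroupOf.mpr hw)
  have huniq : ∀ φ ψ : ↥(W₁ ⊔ W₂) →* ℂˣ, (∀ w : ↥(W₁ ⊔ W₂), (w : G) ∈ W₂ → φ w = 1) →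
      (∀ w : ↥(W₁ ⊔ W₂), (w : G) ∈ W₁ → ψ w = 1) → fa (φ * ψ) = φ ∧ fb (φ * ψ) = ψ := by
    intro φ ψ hφ hψ
    exact S1507.factor_inj _ _ hext (hfa _)
      ((mem_dualOf _ _).mpr (fun w hw => hφ w (Subgroup.mem_subgroupOf.mp hw))) (hfb _)
      ((mem_dualOf _ _).mpr (fun w hw => hψ w (Subgroup.mem_subgroupOf.mp hw)))
      (hfab (φ * ψ)).symm
  set χ : (↥(W₁ ⊔ W₂) →* ℂˣ) → (G → ℂ) := fun ω =>
    fam W₁ W₂ x y z (mk₁ W₁ W₂ (fa ω)) (mk₂ W₁ W₂ (fb ω)) with hχdef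
  have hχ : ∀ φ ψ : ↥(W₁ ⊔ W₂) →* ℂˣ, (∀ w : ↥(W₁ ⊔ W₂), (w : G) ∈ W₂ → φ w = 1) →
      (∀ w : ↥(W₁ ⊔ W₂), (w : G) ∈ W₁ → ψ w = 1) →
      χ (φ * ψ) = fam W₁ W₂ x y z (mk₁ W₁ W₂ φ) (mk₂ W₁ W₂ ψ) := by
    intro φ ψ hφ hψ
    obtain ⟨e1, e2⟩ := huniq φ ψ hφ hψ
    show fam W₁ W₂ x y z (mk₁ W₁ W₂ (fa (φ * ψ))) (mk₂ W₁ W₂ (fb (φ * ψ))) = _
    rw [e1, e2]
  have triv1₂ : ∀ w : ↥(W₁ ⊔ W₂), (w : G) ∈ W₂ → (1 : ↥(W₁ ⊔ W₂) →* ℂˣ) w = 1 := fun _ _ => rfl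
  have triv1₁ : ∀ w : ↥(W₁ ⊔ W₂), (w : G) ∈ W₁ → (1 : ↥(W₁ ⊔ W₂) →* ℂˣ) w = 1 := fun _ _ => rfl
  have hχ1 : χ 1 = fun _ => 1 := by
    have := hχ 1 1 triv1₂ triv1₁
    rw [one_mul (M := ↥(W₁ ⊔ W₂) →* ℂˣ), mk₁_one, mk₂_one] at this
    exact this
  have hχφ : ∀ (φ : ↥(W₁ ⊔ W₂) →* ℂˣ) (h1 : φ ≠ 1)
      (h2 : ∀ w : ↥(W₁ ⊔ W₂), (w : G) ∈ W₂ → φ w = 1), χ φ = - x ⟨φ, h1, h2⟩ := by
    intro φ h1 h2
    have := hχ φ 1 h2 triv1₁
    rw [mul_one (M := ↥(W₁ ⊔ W₂) →* ℂˣ), mk₂_one] at this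
    rw [this]
    unfold mk₁
    rw [dif_pos ⟨h1, h2⟩]
    rfl
  have hχψ : ∀ (ψ : ↥(W₁ ⊔ W₂) →* ℂˣ) (h1 : ψ ≠ 1)
      (h2 : ∀ w : ↥(W₁ ⊔ W₂), (w : G) ∈ W₁ → ψ w = 1), χ ψ = - y ⟨ψ, h1, h2⟩ := by
    intro ψ h1 h2
    have := hχ 1 ψ triv1₂ h2
    rw [one_mul (M := ↥(W₁ ⊔ W₂) →* ℂˣ), mk₁_one] at this
    rw [this]
    unfold mk₂
    rw [dif_pos ⟨h1, h2⟩]
    rfl
  have hχφψ : ∀ (φ ψ : ↥(W₁ ⊔ W₂) →* ℂˣ) (h1 : φ ≠ 1) (h1' : ψ ≠ 1)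
      (h2 : ∀ w : ↥(W₁ ⊔ W₂), (w : G) ∈ W₂ → φ w = 1)
      (h2' : ∀ w : ↥(W₁ ⊔ W₂), (w : G) ∈ W₁ → ψ w = 1),
      χ (φ * ψ) = z ⟨φ, h1, h2⟩ ⟨ψ, h1', h2'⟩ := by
    intro φ ψ h1 h1' h2 h2'
    rw [hχ φ ψ h2 h2']
    unfold mk₁ mk₂
    rw [dif_pos ⟨h1, h2⟩, dif_pos ⟨h1', h2'⟩]
    rfl
  have hirr : ∀ ω, SIrr G (χ ω) := by
    intro ω
    show SIrr G (fam W₁ W₂ x y z (mk₁ W₁ W₂ (fa ω)) (mk₂ W₁ W₂ (fb ω)))
    rcases mk₁ W₁ W₂ (fa ω) with _ | φ <;> rcases mk₂ W₁ W₂ (fb ω) with _ | ψ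
    · exact one_sirr
    · exact (hy ψ).neg
    · exact (hx φ).neg
    · exact hz φ ψ
  have horth : ∀ ω ω', classInner (χ ω) (χ ω') = if ω = ω' then 1 else 0 := by
    intro ω ω'
    show classInner (fam W₁ W₂ x y z (mk₁ W₁ W₂ (fa ω)) (mk₂ W₁ W₂ (fb ω)))
      (fam W₁ W₂ x y z (mk₁ W₁ W₂ (fa ω')) (mk₂ W₁ W₂ (fb ω'))) = _
    rw [fam_orth W₁ W₂ x y z hx hy hz hxx hyy hxy hxz hyz hzz h1x h1y h1z]
    by_cases h : ω = ω'
    · rw [if_pos h, h, if_pos ⟨rfl, rfl⟩]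
    · rw [if_neg h, if_neg]
      rintro ⟨e1, e2⟩
      apply h
      rw [hfab ω, hfab ω', mk₁_inj W₁ W₂ (hfa' ω) (hfa' ω') e1,
        mk₂_inj W₁ W₂ (hfb' ω) (hfb' ω') e2]
  have hind : ∀ φ ψ : ↥(W₁ ⊔ W₂) →* ℂˣ, φ ≠ 1 → ψ ≠ 1 →
      (∀ w : ↥(W₁ ⊔ W₂), (w : G) ∈ W₂ → φ w = 1) → (∀ w : ↥(W₁ ⊔ W₂), (w : G) ∈ W₁ → ψ w = 1) →
      indFun (W₁ ⊔ W₂) (fun w => 1 - (φ w : ℂ) - (ψ w : ℂ) + (φ w : ℂ) * (ψ w : ℂ)) =
        fun g => 1 - χ φ g - χ ψ g + χ (φ * ψ) g := by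
    intro φ ψ h1 h1' h2 h2'
    have hbeta := hb ⟨φ, h1, h2⟩ ⟨ψ, h1', h2'⟩
    have hL : indFun (W₁ ⊔ W₂) (fun w => 1 - (φ w : ℂ) - (ψ w : ℂ) + (φ w : ℂ) * (ψ w : ℂ))
        = beta W₁ W₂ ⟨φ, h1, h2⟩ ⟨ψ, h1', h2'⟩ + fun _ => 1 := by
      unfold beta alpha
      rw [sub_add_cancel]
    rw [hL, hbeta, hχφ φ h1 h2, hχψ ψ h1' h2', hχφψ φ ψ h1 h1' h2 h2']
    funext g
    simp only [Pi.add_apply, Pi.neg_apply]
    ring
  refine ⟨χ, ⟨hirr, fun ω ω' => by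
    have := horth ω ω'
    split_ifs at this ⊢ <;> exact this, hχ1, ?_, hind⟩⟩
  -- the values on `W ∖ (W₁ ∪ W₂)`
  intro ω v hv₁ hv₂
  obtain ⟨hNA, hTI⟩ := S1505.ti_property W₁ W₂ hW
  have hab : ∀ a ∈ W₁ ⊔ W₂, ∀ b ∈ W₁ ⊔ W₂, a * b = b * a := fun a ha b hb =>
    congrArg Subtype.val (hWcomm ⟨a, ha⟩ ⟨b, hb⟩)
  refine values_lemma W₁ W₂ hW χ hirr (fun ω ω' h => by rw [horth, if_neg h]) v hv₁ hv₂ ?_ ω
  intro φ ψ hφ hψ
  by_cases h1 : φ = 1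
  · rw [h1, one_mul (M := ↥(W₁ ⊔ W₂) →* ℂˣ), hχ1]
    simp
  by_cases h1' : ψ = 1
  · rw [h1', mul_one (M := ↥(W₁ ⊔ W₂) →* ℂˣ), hχ1]
    simp
  have hv1 : v ≠ 1 := by
    intro h
    apply hv₁
    rw [h]
    exact W₁.one_mem
  have hTIv := S1511.indFun_TI' _ (W₁ ⊔ W₂) hNA hTI
    (fun w : ↥(W₁ ⊔ W₂) => 1 - (φ w : ℂ) - (ψ w : ℂ) + (φ w : ℂ) * (ψ w : ℂ))
    (S1511.isClassFunction_of_comm (W₁ ⊔ W₂) hab _)
    (by
      intro u hu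
      have : (u : G) ∈ W₁ ∨ (u : G) ∈ W₂ := by
        by_contra hcon
        apply hu
        refine ⟨u.2, ?_⟩
        rintro (h | h)
        · exact hcon (Or.inl h)
        · exact hcon (Or.inr h)
      rcases this with h | h
      · show 1 - (φ u : ℂ) - (ψ u : ℂ) + (φ u : ℂ) * (ψ u : ℂ) = 0
        rw [hψ u h]; simp
      · show 1 - (φ u : ℂ) - (ψ u : ℂ) + (φ u : ℂ) * (ψ u : ℂ) = 0
        rw [hφ u h]; simp)
    v (by
      refine ⟨v.2, ?_⟩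
      rintro (h | h)
      · exact hv₁ h
      · exact hv₂ h) hv1
  have h3 := congrFun (hind φ ψ h1 h1' hφ hψ) (v : G)
  rw [hTIv] at h3
  rw [MonoidHom.mul_apply, Units.val_mul]
  linear_combination -h3

end Assemble

/-- Let W₁, W₂ be nontrivial subgroups of the finite group G generating a cyclic subgroup W = W₁ ⊔ W₂ of odd order that is the normaliser of every nonempty set of its elements outside W₁ ∪ W₂. Then there is a family attaching to each linear character ω of W an irreducible character of G up to sign, orthonormal, sending the trivial character to the principal character, with χ ω = ω on W outside W₁ ∪ W₂, and such that inducing (1 − φ)(1 − ψ) to G gives 1 − χ φ − χ ψ + χ (φψ) whenever φ ≠ 1 is trivial on W₂ and ψ ≠ 1 is trivial on W₁. -/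
theorem result {G : Type*} [Group G] [Fintype G] (W₁ W₂ : Subgroup G) (hW : Cfsg.IsSelfNormalizingCyclic W₁ W₂) (hodd : Odd (Nat.card ↥(W₁ ⊔ W₂))) : ∃ χ : (↥(W₁ ⊔ W₂) →* ℂˣ) → (G → ℂ), Cfsg.IsCyclicTIFamily W₁ W₂ χ := by
  classical
  have hFW : Fintype ↥(W₁ ⊔ W₂) := Fintype.ofFinite _
  have hFhom : Fintype (↥(W₁ ⊔ W₂) →* ℂˣ) := Fintype.ofFinite _
  obtain ⟨hbarr, hb1⟩ := beta_arr W₁ W₂ hW
  obtain ⟨hWcomm, hext⟩ := setup W₁ W₂ hW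
  obtain ⟨hc1, hc2, hcard⟩ := setup_card W₁ W₂ hW
  obtain ⟨hd1, hd2⟩ := S1507.card_dual_eq hWcomm (W₁.subgroupOf (W₁ ⊔ W₂))
    (W₂.subgroupOf (W₁ ⊔ W₂)) hcard
  -- cardinalities of the index types
  have hcardI : Nat.card (Idx₁ W₁ W₂) = Nat.card W₁ - 1 := by
    have hF : Fintype (Idx₁ W₁ W₂) := Fintype.ofFinite _
    rw [Nat.card_eq_fintype_card, Fintype.card_of_subtype
      ((dualOf (W₂.subgroupOf (W₁ ⊔ W₂))).erase 1), Finset.card_erase_of_mem (one_mem_dualOf _),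
      hd1, hc1]
    intro φ
    rw [Finset.mem_erase, mem_dualOf]
    constructor
    · rintro ⟨h1, h2⟩
      exact ⟨h1, fun w hw => h2 w (Subgroup.mem_subgroupOf.mpr hw)⟩
    · rintro ⟨h1, h2⟩
      exact ⟨h1, fun w hw => h2 w (Subgroup.mem_subgroupOf.mp hw)⟩
  have hcardJ : Nat.card (Idx₂ W₁ W₂) = Nat.card W₂ - 1 := by
    have hF : Fintype (Idx₂ W₁ W₂) := Fintype.ofFinite _
    rw [Nat.card_eq_fintype_card, Fintype.card_of_subtype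
      ((dualOf (W₁.subgroupOf (W₁ ⊔ W₂))).erase 1), Finset.card_erase_of_mem (one_mem_dualOf _),
      hd2, hc2]
    intro φ
    rw [Finset.mem_erase, mem_dualOf]
    constructor
    · rintro ⟨h1, h2⟩
      exact ⟨h1, fun w hw => h2 w (Subgroup.mem_subgroupOf.mpr hw)⟩
    · rintro ⟨h1, h2⟩
      exact ⟨h1, fun w hw => h2 w (Subgroup.mem_subgroupOf.mp hw)⟩
  obtain ⟨hW₁, hW₂, hinf, hcomm, hcyc, hnorm⟩ := hW
  have hodd' : Odd (Nat.card W₁) ∧ Odd (Nat.card W₂) := by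
    rw [hcard, hc1, hc2] at hodd
    exact Nat.odd_mul.mp hodd
  have h1lt : 1 < Nat.card W₁ := W₁.one_lt_card_iff_ne_bot.mpr hW₁
  have h2lt : 1 < Nat.card W₂ := W₂.one_lt_card_iff_ne_bot.mpr hW₂
  have hne : Nat.card W₁ ≠ Nat.card W₂ := by
    intro heq
    obtain ⟨⟨a, ha⟩, ha1'⟩ := Subgroup.ne_bot_iff_exists_ne_one.mp hW₁
    have ha1 : a ≠ 1 := fun h => ha1' (Subtype.ext h)
    have hpow : a ^ Nat.card W₁ = 1 := by
      have h0 : (⟨a, ha⟩ : W₁) ^ Nat.card W₁ = 1 := pow_card_eq_one'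
      have h1 := congrArg Subtype.val h0
      rw [Subgroup.coe_pow] at h1
      exact h1
    have hmem : (⟨a, Subgroup.mem_sup_left ha⟩ : ↥(W₁ ⊔ W₂)) ∈ W₂.subgroupOf (W₁ ⊔ W₂) := by
      apply S1505.mem_of_pow_card_eq_one
      rw [hc2, ← heq]
      apply Subtype.ext
      simpa using hpow
    have : a ∈ W₁ ⊓ W₂ := ⟨ha, Subgroup.mem_subgroupOf.mp hmem⟩
    rw [hinf, Subgroup.mem_bot] at this
    exact ha1 this
  have hW' : Cfsg.IsSelfNormalizingCyclic W₁ W₂ := ⟨hW₁, hW₂, hinf, hcomm, hcyc, hnorm⟩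
  obtain ⟨k₁, hk₁⟩ := hodd'.1
  obtain ⟨k₂, hk₂⟩ := hodd'.2
  have hI2 : 2 ≤ Nat.card (Idx₁ W₁ W₂) := by omega
  have hJ2 : 2 ≤ Nat.card (Idx₂ W₁ W₂) := by omega
  have hFI : Fintype (Idx₁ W₁ W₂) := Fintype.ofFinite _
  have hFJ : Fintype (Idx₂ W₁ W₂) := Fintype.ofFinite _
  have hneI : Nonempty (Idx₁ W₁ W₂) := by
    have : 0 < Nat.card (Idx₁ W₁ W₂) := by omega
    exact (Nat.card_pos_iff.mp this).1
  have hneJ : Nonempty (Idx₂ W₁ W₂) := by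
    have : 0 < Nat.card (Idx₂ W₁ W₂) := by omega
    exact (Nat.card_pos_iff.mp this).1
  obtain ⟨i₀⟩ := hneI
  obtain ⟨j₀⟩ := hneJ
  have hfour : ∀ (X : Type _) [Fintype X], 4 ≤ Nat.card X →
      ∃ f : Fin 4 → X, Function.Injective f := by
    intro X _ h
    rw [Nat.card_eq_fintype_card] at h
    obtain ⟨e⟩ := Function.Embedding.nonempty_of_card_le (α := Fin 4) (β := X)
      (by rw [Fintype.card_fin]; exact h)
    exact ⟨e, e.injective⟩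
  have htwo : ∀ (X : Type _), Nat.card X = 2 → ∃ i₀ i₁ : X, i₀ ≠ i₁ ∧ ∀ i, i = i₀ ∨ i = i₁ := by
    intro X h
    obtain ⟨a, b, hab, huniv⟩ := Nat.card_eq_two_iff.mp h
    refine ⟨a, b, hab, fun i => ?_⟩
    have : i ∈ ({a, b} : Set X) := by rw [huniv]; exact Set.mem_univ i
    exact this
  have hIcase : Nat.card (Idx₁ W₁ W₂) = 2 ∨ 4 ≤ Nat.card (Idx₁ W₁ W₂) := by omega
  have hJcase : Nat.card (Idx₂ W₁ W₂) = 2 ∨ 4 ≤ Nat.card (Idx₂ W₁ W₂) := by omega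
  have hnot : ¬ (Nat.card (Idx₁ W₁ W₂) = 2 ∧ Nat.card (Idx₂ W₁ W₂) = 2) := by omega
  by_cases hJ4 : 4 ≤ Nat.card (Idx₂ W₁ W₂)
  · obtain ⟨fJ, hfJ⟩ := hfour _ hJ4
    have hI : (∃ i₀ i₁ : Idx₁ W₁ W₂, i₀ ≠ i₁ ∧ ∀ i, i = i₀ ∨ i = i₁) ∨
        ∃ fI : Fin 4 → Idx₁ W₁ W₂, Function.Injective fI := by
      rcases hIcase with h | h
      · exact Or.inl (htwo _ h)
      · exact Or.inr (hfour _ h)
    obtain ⟨x, y, z, hx, hy, hz, hb, hxx, hyy, hxy, hxz, hyz, hzz⟩ :=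
      hbarr.decomp_full fJ hfJ hI
    exact assemble W₁ W₂ hW' x y z i₀ j₀ hx hy hz hb hxx hyy hxy hxz hyz hzz
  · have hJ2' : Nat.card (Idx₂ W₁ W₂) = 2 := by omega
    have hI4 : 4 ≤ Nat.card (Idx₁ W₁ W₂) := by omega
    obtain ⟨fI, hfI⟩ := hfour _ hI4
    obtain ⟨x', y', z', hx', hy', hz', hb', hxx', hyy', hxy', hxz', hyz', hzz'⟩ :=
      hbarr.transpose.decomp_full fI hfI (Or.inl (htwo _ hJ2'))
    refine assemble W₁ W₂ hW' y' x' (fun i j => z' j i) i₀ j₀ hy' hx' (fun i j => hz' j i) ?_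
      hyy' hxx' ?_ ?_ ?_ ?_
    · intro i j
      rw [hb' j i]; abel
    · intro i j
      rw [(hx' j).inner_symm (hy' i)]; exact hxy' j i
    · intro i i' j
      exact hyz' j i i'
    · intro i j j'
      exact hxz' j j' i
    · intro i j i' j' h
      exact hzz' j i j' i' h.symm

end Cfsg.Agent.S1502
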