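import Cfsg.Statements.S0647

set_option autoImplicit false
open Cfsg

namespace Cfsg.Agent.S0647

/-- An element centralizing a maximal abelian subgroup lies in it. -/
theorem mem_of_centralizes {S : Type*} [Group S] (A : Subgroup S) (hA : IsMulCommutative A)
    (hmax : ∀ B : Subgroup S, IsMulCommutative B → A ≤ B → B = A) (x : S)
    (hx : x ∈ Subgroup.centralizer (A : Set S)) : x ∈ A := by
  classical
  -- B = closure (A ∪ {x}) is commutative
  let B : Subgroup S := Subgroup.closure ((A : Set S) ∪ {x})
  have hAB : A ≤ B := by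
    intro a ha
    exact Subgroup.subset_closure (Or.inl ha)
  have hxB : x ∈ B := Subgroup.subset_closure (Or.inr rfl)
  have hcomm : ∀ y ∈ ((A : Set S) ∪ {x}), ∀ z ∈ ((A : Set S) ∪ {x}), y * z = z * y := by
    intro y hy z hz
    rcases hy with hy | hy <;> rcases hz with hz | hz
    · have := hA.is_comm.comm (⟨y, hy⟩ : A) ⟨z, hz⟩
      exact congrArg Subtype.val this
    · rw [Set.mem_singleton_iff] at hz; subst hz
      exact (hx y hy)
    · rw [Set.mem_singleton_iff] at hy; subst hy
      exact (hx z hz).symm
    · rw [Set.mem_singleton_iff] at hy hz; subst hy; subst hz; rfl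
  have hB : IsMulCommutative B := by
    refine ⟨⟨?_⟩⟩
    intro a b
    apply Subtype.ext
    have h1 : ∀ y ∈ B, ∀ z ∈ ((A : Set S) ∪ {x}), y * z = z * y := by
      intro y hy
      refine Subgroup.closure_induction (p := fun y _ => ∀ z ∈ ((A : Set S) ∪ {x}), y * z = z * y)
        ?_ ?_ ?_ ?_ hy
      · intro y hy z hz; exact hcomm y hy z hz
      · intro z _; simp
      · intro y1 y2 _ _ h1 h2 z hz
        rw [mul_assoc, h2 z hz, ← mul_assoc, h1 z hz, mul_assoc]
      · intro y _ h z hz
        have := h z hz
        calc y⁻¹ * z = y⁻¹ * (z * y) * y⁻¹ := by group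
          _ = y⁻¹ * (y * z) * y⁻¹ := by rw [this]
          _ = z * y⁻¹ := by group
    have h2 : ∀ z ∈ B, ∀ y ∈ B, y * z = z * y := by
      intro z hz
      refine Subgroup.closure_induction (p := fun z _ => ∀ y ∈ B, y * z = z * y)
        ?_ ?_ ?_ ?_ hz
      · intro z hz y hy; exact h1 y hy z hz
      · intro y _; simp
      · intro z1 z2 _ _ h1' h2' y hy
        rw [← mul_assoc, h1' y hy, mul_assoc, h2' y hy, ← mul_assoc]
      · intro z _ h y hy
        have := h y hy
        calc y * z⁻¹ = z⁻¹ * (z * y) * z⁻¹ := by group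
          _ = z⁻¹ * (y * z) * z⁻¹ := by rw [this]
          _ = z⁻¹ * y := by group
    exact h2 b.1 b.2 a.1 a.2
  have := hmax B hB hAB
  rw [← this]; exact hxB

/-- For a nonempty family of maximal abelian subgroups of a finite group, the intersection of the family is the centre of the subgroup it generates, which is also the full centralizer of that subgroup. -/
theorem result {S : Type*} [Group S] [Finite S] (𝒜 : Set (Subgroup S)) (hne : 𝒜.Nonempty) (hab : ∀ A ∈ 𝒜, IsMulCommutative A) (hmax : ∀ A ∈ 𝒜, ∀ B : Subgroup S, IsMulCommutative B → A ≤ B → B = A) : sInf 𝒜 = sSup 𝒜 ⊓ Subgroup.centralizer ((sSup 𝒜 : Subgroup S) : Set S) ∧ sInf 𝒜 = Subgroup.centralizer ((sSup 𝒜 : Subgroup S) : Set S) := by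
  have key : sInf 𝒜 = Subgroup.centralizer ((sSup 𝒜 : Subgroup S) : Set S) := by
    apply le_antisymm
    · intro x hx
      rw [Subgroup.mem_sInf] at hx
      -- x centralizes each A ∈ 𝒜 hence sSup
      have hle : sSup 𝒜 ≤ Subgroup.centralizer ({x} : Set S) := by
        apply sSup_le
        intro A hA a ha
        rw [Subgroup.mem_centralizer_iff]
        intro y hy
        rw [Set.mem_singleton_iff] at hy; subst hy
        have := (hab A hA).is_comm.comm (⟨y, hx A hA⟩ : A) ⟨a, ha⟩
        exact congrArg Subtype.val this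
      rw [Subgroup.mem_centralizer_iff]
      intro y hy
      have := hle hy
      rw [Subgroup.mem_centralizer_iff] at this
      exact (this x rfl).symm
    · intro x hx
      rw [Subgroup.mem_sInf]
      intro A hA
      apply mem_of_centralizes A (hab A hA) (hmax A hA) x
      exact Subgroup.centralizer_le (show (A : Set S) ⊆ ((sSup 𝒜 : Subgroup S) : Set S) from
        fun a ha => (le_sSup hA : A ≤ sSup 𝒜) ha) hx
  refine ⟨?_, key⟩
  apply le_antisymm
  · refine le_inf ?_ key.le
    obtain ⟨A, hA⟩ := hne
    exact (sInf_le hA).trans (le_sSup hA)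
  · rw [key]; exact inf_le_right

end Cfsg.Agent.S0647
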