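import Cfsg.Statements.S0653
import Cfsg.Agent.S0647
import Cfsg.Agent.Lib.Helper11.ZJ

set_option autoImplicit false
open Cfsg

namespace Cfsg.Agent.S0653

open Cfsg.Agent.Lib.Helper11

theorem isMulCommutative_bot' {G : Type*} [Group G] : IsMulCommutative (⊥ : Subgroup G) := by
  refine ⟨⟨?_⟩⟩
  rintro ⟨a, ha⟩ ⟨b, hb⟩
  rw [Subgroup.mem_bot] at ha hb
  subst ha hb
  rfl

theorem centerThompsonAOf_eq_famInf {G : Type*} [Group G] [Finite G] (D : Subgroup G) :
    centerThompsonAOf D = famInf (fun A : Subgroup G => IsMulCommutative A) D := by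
  have hne : (maxAbelianSubgroups ↥D).Nonempty := by
    obtain ⟨A, hA⟩ := fam_nonempty (fun A : Subgroup ↥D => IsMulCommutative A)
      isMulCommutative_bot' ⊤
    exact ⟨A, hA.2.1, fun B hB => hA.2.2 B le_top hB⟩
  have hab : ∀ A ∈ maxAbelianSubgroups ↥D, IsMulCommutative A := fun A hA => hA.1
  have hmax : ∀ A ∈ maxAbelianSubgroups ↥D, ∀ B : Subgroup ↥D, IsMulCommutative B → A ≤ B →
      B = A := fun A hA B hB hAB => (Subgroup.eq_of_le_of_card_ge hAB (hA.2 B hB)).symm
  have h647 := (Cfsg.Agent.S0647.result (maxAbelianSubgroups ↥D) hne hab hmax).1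
  have h1 : centerThompsonAOf D =
      (sSup (maxAbelianSubgroups ↥D) ⊓ Subgroup.centralizer
        ((sSup (maxAbelianSubgroups ↥D) : Subgroup ↥D) : Set ↥D)).map D.subtype := by
    ext x
    constructor
    · rintro ⟨⟨y, hy, rfl⟩, hcen⟩
      have hcen' : D.subtype y ∈ Subgroup.centralizer (thompsonSubgroupAOf D : Set G) := hcen
      refine ⟨y, ⟨hy, Subgroup.mem_centralizer_iff.mpr ?_⟩, rfl⟩
      intro w hw
      apply Subtype.ext
      exact Subgroup.mem_centralizer_iff.mp hcen' (D.subtype w) ⟨w, hw, rfl⟩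
    · rintro ⟨y, ⟨hy1, hy2⟩, rfl⟩
      have hy2' : y ∈ Subgroup.centralizer
        ((sSup (maxAbelianSubgroups ↥D) : Subgroup ↥D) : Set ↥D) := hy2
      refine ⟨⟨y, hy1, rfl⟩, Subgroup.mem_centralizer_iff.mpr ?_⟩
      rintro _ ⟨w, hw, rfl⟩
      exact congrArg Subtype.val (Subgroup.mem_centralizer_iff.mp hy2' w hw)
  rw [h1, ← h647]
  exact map_sInf_eq_famInf isMulCommutative_bot' D _
    (fun U => Cfsg.Agent.S0651.mem_image_maxAbelian D U)

/-- Glauberman's ZJ-Theorem: for odd p, if the largest normal p-subgroup of G contains its centralizer and G acts p-stably on every normal p-subgroup, then the centre of the abelian-version Thompson subgroup of a Sylow p-subgroup is a characteristic subgroup of G. -/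
theorem result {G : Type*} [Group G] [Finite G] {p : ℕ} [Fact p.Prime] (hp : p ≠ 2) (hc : Subgroup.centralizer (Cfsg.pCore p G : Set G) ≤ Cfsg.pCore p G) (hst : ∀ (P : Subgroup G) [P.Normal], IsPGroup p P → Cfsg.IsPStableOn p P) (S : Sylow p G) : (Cfsg.centerThompsonAOf ((S : Subgroup G))).Characteristic := by
  rw [centerThompsonAOf_eq_famInf]
  exact famInf_characteristic hp isMulCommutative_bot' (fun A h => h)
    (fun φ A h => Subgroup.map_isMulCommutative _ _) (replClosed_comm hp) hc hst S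

end Cfsg.Agent.S0653
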