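import Cfsg.Statements.S0030
import Cfsg.Agent.Lib.Helper54.Coprime
-- import your own Cfsg.Agent.* helpers here

set_option autoImplicit false
open Cfsg
open Pointwise
open Cfsg.Agent.Lib.Helper54

namespace Cfsg.Agent.S0030

/-- Under coprime action fixed points of a product of two invariant subgroups factor: if K = X Y with X and Y normalised by A then every A-fixed element of K is a product of an A-fixed element of X and an A-fixed element of Y. -/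
theorem result {G : Type*} [Group G] [Finite G] (A K : Subgroup G) (hAK : A ≤ Subgroup.normalizer (K : Set G))
    (hcop : (Nat.card A).Coprime (Nat.card K)) (hsolv : Group.IsSolvable A ∨ Group.IsSolvable K)
    (X Y : Subgroup G) (hX : X ≤ K) (hY : Y ≤ K) (hXA : A ≤ Subgroup.normalizer (X : Set G)) (hYA : A ≤ Subgroup.normalizer (Y : Set G))
    (hXY : ∀ k ∈ K, ∃ x ∈ X, ∃ y ∈ Y, k = x * y) (k : G) (hk : k ∈ K ⊓ Subgroup.centralizer (A : Set G)) :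
    ∃ x ∈ X ⊓ Subgroup.centralizer (A : Set G), ∃ y ∈ Y ⊓ Subgroup.centralizer (A : Set G), k = x * y := by
  obtain ⟨hkK, hkA⟩ := hk
  obtain ⟨x₀, hx₀, y₀, hy₀, hk0⟩ := hXY k hkK
  have hdisjKA : K ⊓ A = ⊥ := (Subgroup.disjoint_of_coprime_natCard hcop.symm).eq_bot
  have hDK : X ⊓ Y ≤ K := inf_le_left.trans hX
  have hdisjDA : (X ⊓ Y) ⊓ A = ⊥ := le_bot_iff.mp (hdisjKA ▸ inf_le_inf_right A hDK)
  have hcopD : (Nat.card (X ⊓ Y : Subgroup G)).Coprime (Nat.card A) :=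
    Nat.Coprime.coprime_dvd_left (Subgroup.card_dvd_of_le hDK) hcop.symm
  have hDA : A ≤ Subgroup.normalizer ((X ⊓ Y : Subgroup G) : Set G) := by
    intro a ha
    rw [Subgroup.mem_normalizer_iff]
    intro g
    rw [Subgroup.mem_inf, Subgroup.mem_inf, ← Subgroup.mem_normalizer_iff.mp (hXA ha) g,
      ← Subgroup.mem_normalizer_iff.mp (hYA ha) g]
  -- the conjugate `x₀⁻¹ A x₀` lies in `(X ⊓ Y) A`
  have hBM : MulAut.conj x₀⁻¹ • A ≤ (X ⊓ Y) ⊔ A := by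
    intro g hg
    rw [mem_conj_smul_iff, inv_inv] at hg
    -- a := x₀ g x₀⁻¹ ∈ A
    have hcomm : (x₀ * g * x₀⁻¹) * k = k * (x₀ * g * x₀⁻¹) :=
      (Subgroup.mem_centralizer_iff.mp hkA _ hg)
    have hdX : x₀⁻¹ * ((x₀ * g * x₀⁻¹) * x₀ * (x₀ * g * x₀⁻¹)⁻¹) ∈ X :=
      X.mul_mem (X.inv_mem hx₀) ((Subgroup.mem_normalizer_iff.mp (hXA hg) x₀).mp hx₀)
    have hdY : y₀ * ((x₀ * g * x₀⁻¹) * y₀ * (x₀ * g * x₀⁻¹)⁻¹)⁻¹ ∈ Y :=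
      Y.mul_mem hy₀ (Y.inv_mem ((Subgroup.mem_normalizer_iff.mp (hYA hg) y₀).mp hy₀))
    have heq : x₀⁻¹ * ((x₀ * g * x₀⁻¹) * x₀ * (x₀ * g * x₀⁻¹)⁻¹) =
        y₀ * ((x₀ * g * x₀⁻¹) * y₀ * (x₀ * g * x₀⁻¹)⁻¹)⁻¹ := by
      have h1 : (x₀ * g * x₀⁻¹) * (x₀ * y₀) * (x₀ * g * x₀⁻¹)⁻¹ = x₀ * y₀ := by
        rw [← hk0, hcomm]; group
      have h2 : ((x₀ * g * x₀⁻¹) * x₀ * (x₀ * g * x₀⁻¹)⁻¹) *
          ((x₀ * g * x₀⁻¹) * y₀ * (x₀ * g * x₀⁻¹)⁻¹) = x₀ * y₀ := by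
        rw [← h1]; group
      calc x₀⁻¹ * ((x₀ * g * x₀⁻¹) * x₀ * (x₀ * g * x₀⁻¹)⁻¹)
          = x₀⁻¹ * (((x₀ * g * x₀⁻¹) * x₀ * (x₀ * g * x₀⁻¹)⁻¹) *
              ((x₀ * g * x₀⁻¹) * y₀ * (x₀ * g * x₀⁻¹)⁻¹)) *
              ((x₀ * g * x₀⁻¹) * y₀ * (x₀ * g * x₀⁻¹)⁻¹)⁻¹ := by group
        _ = x₀⁻¹ * (x₀ * y₀) * ((x₀ * g * x₀⁻¹) * y₀ * (x₀ * g * x₀⁻¹)⁻¹)⁻¹ := by rw [h2]
        _ = y₀ * ((x₀ * g * x₀⁻¹) * y₀ * (x₀ * g * x₀⁻¹)⁻¹)⁻¹ := by group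
    have hd : x₀⁻¹ * ((x₀ * g * x₀⁻¹) * x₀ * (x₀ * g * x₀⁻¹)⁻¹) ∈ X ⊓ Y :=
      ⟨hdX, heq ▸ hdY⟩
    have hg' : g = (x₀⁻¹ * ((x₀ * g * x₀⁻¹) * x₀ * (x₀ * g * x₀⁻¹)⁻¹)) * (x₀ * g * x₀⁻¹) := by
      group
    rw [hg']
    exact Subgroup.mul_mem_sup hd hg
  have hsolv' : Group.IsSolvable A ∨ Group.IsSolvable (X ⊓ Y : Subgroup G) :=
    hsolv.imp id (isSolvable_of_le hDK)
  obtain ⟨l, hlD, hl⟩ := sz_conj_rel ((X ⊓ Y) ⊔ A) (X ⊓ Y) A (MulAut.conj x₀⁻¹ • A) le_sup_left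
    (sup_le Subgroup.le_normalizer hDA) le_sup_right hBM
    (card_sup_of_le_normalizer hDA hdisjDA).symm (card_conj_smul _ _) hcopD hsolv'
  have hxK : x₀ * l ∈ K := K.mul_mem (hX hx₀) (hDK hlD)
  have hxA : x₀ * l ∈ Subgroup.centralizer (A : Set G) := by
    apply inf_normalizer_le_centralizer hAK hdisjKA
    refine ⟨hxK, ?_⟩
    change x₀ * l ∈ Subgroup.normalizer (A : Set G)
    rw [mem_normalizer_iff_conj_smul, map_mul, mul_smul, hl, map_inv, smul_inv_smul]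
  refine ⟨x₀ * l, ⟨X.mul_mem hx₀ hlD.1, hxA⟩, l⁻¹ * y₀, ⟨Y.mul_mem (Y.inv_mem hlD.2) hy₀, ?_⟩, ?_⟩
  · have : l⁻¹ * y₀ = (x₀ * l)⁻¹ * k := by rw [hk0]; group
    rw [this]
    exact Subgroup.mul_mem _ (Subgroup.inv_mem _ hxA) hkA
  · rw [hk0]; group

end Cfsg.Agent.S0030
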