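import Cfsg.Statements.S1231
-- import your own Cfsg.Agent.* helpers here

set_option autoImplicit false
open Cfsg


namespace Cfsg.Agent.S1231

variable {G : Type*} [Group G]

/-- conjugate of a subgroup -/
abbrev cj (g : G) (A : Subgroup G) : Subgroup G := A.map (MulAut.conj g).toMonoidHom

theorem mem_cj {A : Subgroup G} {g x : G} : x ∈ cj g A ↔ g⁻¹ * x * g ∈ A := by
  constructor
  · rintro ⟨y, hy, rfl⟩
    simpa [MulAut.conj_apply, mul_assoc] using hy
  · intro h
    exact ⟨g⁻¹ * x * g, h, by simp [MulAut.conj_apply, mul_assoc]⟩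

theorem cj_mul (g h : G) (A : Subgroup G) : cj (g * h) A = cj g (cj h A) := by
  ext x
  simp only [mem_cj]
  rw [mul_inv_rev]
  constructor <;> intro hx <;> convert hx using 1 <;> group

theorem cj_one (A : Subgroup G) : cj 1 A = A := by
  ext x
  simp

theorem cj_inv_cj (g : G) (A : Subgroup G) : cj g⁻¹ (cj g A) = A := by
  rw [← cj_mul, inv_mul_cancel, cj_one]

theorem cj_mono (g : G) {A B : Subgroup G} (h : A ≤ B) : cj g A ≤ cj g B := Subgroup.map_mono h

theorem cj_inf (g : G) (A B : Subgroup G) : cj g (A ⊓ B) = cj g A ⊓ cj g B := by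
  ext x
  simp only [mem_cj, Subgroup.mem_inf]

theorem card_cj (g : G) (A : Subgroup G) : Nat.card ↥(cj g A) = Nat.card ↥A :=
  Nat.card_congr (A.equivMapOfInjective _ (MulAut.conj g).injective).toEquiv.symm

theorem cj_self_of_mem {A : Subgroup G} {a : G} (ha : a ∈ A) : cj a A = A := by
  ext x
  rw [mem_cj]
  constructor
  · intro h
    have := A.mul_mem (A.mul_mem ha h) (A.inv_mem ha)
    simpa [mul_assoc] using this
  · intro h
    exact A.mul_mem (A.mul_mem (A.inv_mem ha) h) ha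

theorem mem_normalizer_of_cj_eq {A : Subgroup G} {g : G} (h : cj g A = A) :
    g ∈ Subgroup.normalizer (A : Set G) := by
  rw [Subgroup.mem_normalizer_iff]
  intro x
  constructor
  · intro hx
    rw [← h]
    exact ⟨x, hx, rfl⟩
  · intro hx
    rw [← h, mem_cj] at hx
    simpa [mul_assoc] using hx

theorem cj_eq_of_mem_normalizer {A : Subgroup G} {g : G}
    (hg : g ∈ Subgroup.normalizer (A : Set G)) : cj g A = A := by
  ext x
  rw [mem_cj]
  have hg' : g⁻¹ ∈ Subgroup.normalizer (A : Set G) := Subgroup.inv_mem _ hg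
  have := (Subgroup.mem_normalizer_iff.mp hg' x)
  rw [this, inv_inv]

/-- "rank at least `m + 1`" witnessed inside the ambient group. -/
def HasEA (p m : ℕ) (Y : Subgroup G) : Prop :=
  ∃ X : Subgroup G, X ≤ Y ∧ (∀ a ∈ X, ∀ b ∈ X, a * b = b * a) ∧ (∀ a ∈ X, a ^ p = 1) ∧
    p ^ m < Nat.card ↥X

theorem not_prankLE_iff_hasEA {p m : ℕ} (Y : Subgroup G) :
    ¬ Cfsg.PRankLE p m ↥Y ↔ HasEA p m Y := by
  constructor
  · intro h
    unfold Cfsg.PRankLE at h
    push Not at h
    obtain ⟨A, hAc, hAe, hAcard⟩ := h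
    refine ⟨A.map Y.subtype, Subgroup.map_subtype_le _, ?_, ?_, ?_⟩
    · rintro _ ⟨a, ha, rfl⟩ _ ⟨b, hb, rfl⟩
      have hab : (⟨a, ha⟩ : ↥A) * ⟨b, hb⟩ = ⟨b, hb⟩ * ⟨a, ha⟩ := mul_comm' _ _
      have hab' : a * b = b * a := congrArg Subtype.val hab
      exact congrArg Subtype.val hab'
    · rintro _ ⟨a, ha, rfl⟩
      have := hAe a ha
      exact congrArg Subtype.val this
    · have : Nat.card ↥(A.map Y.subtype) = Nat.card ↥A :=
        Nat.card_congr (A.equivMapOfInjective _ Y.subtype_injective).toEquiv.symm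
      rw [this]
      exact hAcard
  · rintro ⟨X, hXY, hXc, hXe, hXcard⟩ h
    have h1 := h (X.subgroupOf Y) ?_ ?_
    · have : Nat.card ↥(X.subgroupOf Y) = Nat.card ↥X :=
        Nat.card_congr (Subgroup.subgroupOfEquivOfLe hXY).toEquiv
      rw [this] at h1
      exact absurd hXcard (not_lt.mpr h1)
    · refine ⟨⟨?_⟩⟩
      rintro ⟨a, ha⟩ ⟨b, hb⟩
      apply Subtype.ext
      apply Subtype.ext
      exact hXc a.1 ha b.1 hb
    · intro a ha
      apply Subtype.ext
      exact hXe a.1 ha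

theorem HasEA.mono {p m : ℕ} {Y Z : Subgroup G} (h : HasEA p m Y) (hYZ : Y ≤ Z) : HasEA p m Z := by
  obtain ⟨X, hXY, h1, h2, h3⟩ := h
  exact ⟨X, hXY.trans hYZ, h1, h2, h3⟩

theorem HasEA.cj {p m : ℕ} {Y : Subgroup G} (h : HasEA p m Y) (g : G) : HasEA p m (cj g Y) := by
  obtain ⟨X, hXY, h1, h2, h3⟩ := h
  refine ⟨Cfsg.Agent.S1231.cj g X, cj_mono g hXY, ?_, ?_, by rw [card_cj]; exact h3⟩
  · rintro _ ⟨a, ha, rfl⟩ _ ⟨b, hb, rfl⟩
    show (MulAut.conj g) a * (MulAut.conj g) b = (MulAut.conj g) b * (MulAut.conj g) a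
    rw [← map_mul, ← map_mul, h1 a ha b hb]
  · rintro _ ⟨a, ha, rfl⟩
    show ((MulAut.conj g) a) ^ p = 1
    rw [← map_pow, h2 a ha, map_one]

theorem mem_smul_sylow {p : ℕ} [Fact p.Prime] {S S' : Sylow p G} {g : G} (hg : g • S = S')
    (x : G) : x ∈ S' ↔ g⁻¹ * x * g ∈ S := by
  rw [← hg]
  show x ∈ ((g • S : Sylow p G) : Subgroup G) ↔ _
  rw [Sylow.coe_subgroup_smul, Subgroup.mem_pointwise_smul_iff_inv_smul_mem]
  simp only [MulAut.smul_def, MulAut.conj_inv_apply]
  exact Iff.rfl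

/-- Sylow's theorem inside `H`, phrased in the ambient group. -/
theorem exists_conj_le [Finite G] {p : ℕ} [Fact p.Prime] (H : Subgroup G) (P : Sylow p ↥H)
    (B : Subgroup G) (hB : IsPGroup p ↥B) (hBH : B ≤ H) :
    ∃ h ∈ H, B ≤ cj h ((P : Subgroup ↥H).map H.subtype) := by
  have hB' : IsPGroup p ↥(B.subgroupOf H) := hB.comap_subtype
  obtain ⟨Q, hQ⟩ := hB'.exists_le_sylow
  obtain ⟨h, hh⟩ := MulAction.exists_smul_eq ↥H P Q
  refine ⟨h.1, h.2, ?_⟩
  intro b hb
  have h1 : (⟨b, hBH hb⟩ : ↥H) ∈ Q := hQ (by rw [Subgroup.mem_subgroupOf]; exact hb)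
  rw [mem_smul_sylow hh] at h1
  rw [mem_cj]
  exact ⟨_, h1, rfl⟩

/-- normalizers grow in `p`-groups -/
theorem exists_normalizer_not_mem [Finite G] {p : ℕ} [Fact p.Prime] (Q R : Subgroup G)
    (hQ : IsPGroup p ↥Q) (hRQ : R < Q) :
    ∃ y ∈ Q, y ∈ Subgroup.normalizer (R : Set G) ∧ y ∉ R := by
  have : Group.IsNilpotent ↥Q := hQ.isNilpotent
  have hnc := Group.normalizerCondition_of_isNilpotent (G := ↥Q)
  have hlt : R.subgroupOf Q < ⊤ := by
    rw [lt_top_iff_ne_top]
    intro h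
    rw [Subgroup.subgroupOf_eq_top] at h
    exact absurd (le_antisymm hRQ.le h) hRQ.ne
  have h2 := hnc _ hlt
  obtain ⟨y, hyN, hyR⟩ := SetLike.exists_of_lt h2
  refine ⟨y.1, y.2, ?_, ?_⟩
  · rw [Subgroup.mem_normalizer_iff] at hyN ⊢
    intro g
    constructor
    · intro hg
      have := (hyN ⟨g, hRQ.le hg⟩).1 (by rw [Subgroup.mem_subgroupOf]; exact hg)
      rw [Subgroup.mem_subgroupOf] at this
      simpa using this
    · intro hg
      have hgQ : g ∈ Q := by
        have h1 : (y : G) * g * (y : G)⁻¹ ∈ Q := hRQ.le hg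
        have h2 := Q.mul_mem (Q.mul_mem (Q.inv_mem y.2) h1) y.2
        simpa [mul_assoc] using h2
      have := (hyN ⟨g, hgQ⟩).2 (by rw [Subgroup.mem_subgroupOf]; simpa using hg)
      rw [Subgroup.mem_subgroupOf] at this
      exact this
  · intro h
    apply hyR
    rw [Subgroup.mem_subgroupOf]
    exact h

/-- the fusion-control claim -/
theorem mem_of_hasEA_inf [Finite G] {p : ℕ} [Fact p.Prime] (m : ℕ) (H : Subgroup G)
    (P : Sylow p ↥H) (hP : HasEA p m ((P : Subgroup ↥H).map H.subtype))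
    (hΓ : ∀ X : Subgroup G, X ≤ (P : Subgroup ↥H).map H.subtype → HasEA p m X →
      Subgroup.normalizer (X : Set G) ≤ H) :
    ∀ n : ℕ, ∀ x : G,
      Nat.card ↥((P : Subgroup ↥H).map H.subtype) -
        Nat.card ↥((P : Subgroup ↥H).map H.subtype ⊓ cj x ((P : Subgroup ↥H).map H.subtype) :
          Subgroup G) = n →
      HasEA p m ((P : Subgroup ↥H).map H.subtype ⊓ cj x ((P : Subgroup ↥H).map H.subtype)) →
      x ∈ H := by
  set P' : Subgroup G := (P : Subgroup ↥H).map H.subtype with hP'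
  have hP'H : P' ≤ H := Subgroup.map_subtype_le _
  have hP'p : IsPGroup p ↥P' := P.isPGroup'.map H.subtype
  intro n
  induction n using Nat.strong_induction_on with
  | _ n ih =>
    intro x hn hEA
    set R : Subgroup G := P' ⊓ cj x P' with hR
    have hRP' : R ≤ P' := inf_le_left
    have hRQ : R ≤ cj x P' := inf_le_right
    by_cases hcase : R = P'
    · -- P' ≤ cj x P', hence equal
      have hle : P' ≤ cj x P' := le_of_eq_of_le hcase.symm hRQ
      have heq : P' = cj x P' := Subgroup.eq_of_le_of_card_ge hle (by rw [card_cj])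
      exact hΓ P' le_rfl hP (mem_normalizer_of_cj_eq heq.symm)
    · have hRltP' : R < P' := lt_of_le_of_ne hRP' hcase
      have hRltQ : R < cj x P' := by
        refine lt_of_le_of_ne hRQ ?_
        intro h
        have hle : cj x P' ≤ P' := le_of_eq_of_le h.symm hRP'
        have heq : cj x P' = P' := Subgroup.eq_of_le_of_card_ge hle (by rw [card_cj])
        apply hcase
        rw [hR, heq, inf_idem]
      have hNR : Subgroup.normalizer (R : Set G) ≤ H := hΓ R hRP' hEA
      have hQp : IsPGroup p ↥(cj x P') := hP'p.map _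
      obtain ⟨y, hyQ, hyN, hyR⟩ := exists_normalizer_not_mem (cj x P') R hQp hRltQ
      -- R₁ = N_G(R) ⊓ cj x P'
      set R₁ : Subgroup G := Subgroup.normalizer (R : Set G) ⊓ cj x P' with hR₁
      have hRR₁ : R < R₁ := by
        refine lt_of_le_of_ne (le_inf Subgroup.le_normalizer hRQ) ?_
        intro h
        apply hyR
        rw [h]
        exact ⟨hyN, hyQ⟩
      have hR₁p : IsPGroup p ↥R₁ := hQp.to_le inf_le_right
      have hR₁H : R₁ ≤ H := inf_le_left.trans hNR
      obtain ⟨h, hhH, hR₁h⟩ := exists_conj_le H P R₁ hR₁p hR₁H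
      -- x' = h⁻¹ * x
      have hsub : cj h⁻¹ R₁ ≤ P' ⊓ cj (h⁻¹ * x) P' := by
        apply le_inf
        · have := cj_mono h⁻¹ hR₁h
          rwa [cj_inv_cj] at this
        · rw [cj_mul]
          exact cj_mono h⁻¹ inf_le_right
      have hcardlt : Nat.card ↥R < Nat.card ↥(P' ⊓ cj (h⁻¹ * x) P' : Subgroup G) := by
        have h1 : Nat.card ↥R < Nat.card ↥R₁ := by
          by_contra hge
          exact hRR₁.ne (Subgroup.eq_of_le_of_card_ge hRR₁.le (not_lt.mp hge))
        have h2 : Nat.card ↥(cj h⁻¹ R₁) ≤ Nat.card ↥(P' ⊓ cj (h⁻¹ * x) P' : Subgroup G) :=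
          Nat.le_of_dvd Nat.card_pos (Subgroup.card_dvd_of_le hsub)
        rw [card_cj] at h2
        exact lt_of_lt_of_le h1 h2
      have hcardle : Nat.card ↥(P' ⊓ cj (h⁻¹ * x) P' : Subgroup G) ≤ Nat.card ↥P' :=
        Nat.le_of_dvd Nat.card_pos (Subgroup.card_dvd_of_le inf_le_left)
      have hEA' : HasEA p m (P' ⊓ cj (h⁻¹ * x) P') :=
        ((hEA.mono hRR₁.le).cj h⁻¹).mono hsub
      have hx' : h⁻¹ * x ∈ H :=
        ih (Nat.card ↥P' - Nat.card ↥(P' ⊓ cj (h⁻¹ * x) P' : Subgroup G)) (by omega)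
          (h⁻¹ * x) rfl hEA'
      have := H.mul_mem hhH hx'
      simpa using this

/-- Let H be a subgroup of the finite group G, p a prime, k ≥ 1, and P a Sylow p-subgroup of H whose p-rank is at least k. Then N_G(X) ≤ H for every subgroup X of P of p-rank at least k if and only if H ∩ gHg⁻¹ has p-rank less than k for every g ∉ H. -/
theorem result {G : Type*} [Group G] [Finite G] {p : ℕ} [Fact p.Prime] (k : ℕ) (hk : 1 ≤ k) (H : Subgroup G) (P : Sylow p ↥H) (hP : ¬ Cfsg.PRankLE p (k - 1) ↥(P : Subgroup ↥H)) : (∀ X : Subgroup G, X ≤ (P : Subgroup ↥H).map H.subtype → ¬ Cfsg.PRankLE p (k - 1) ↥X → Subgroup.normalizer (X : Set G) ≤ H) ↔ (∀ g : G, g ∉ H → Cfsg.PRankLE p (k - 1) ↥(H ⊓ H.map (MulAut.conj g).toMonoidHom)) := by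
  classical
  set P' : Subgroup G := (P : Subgroup ↥H).map H.subtype with hP'
  have hP'H : P' ≤ H := Subgroup.map_subtype_le _
  -- rank of P'
  have hP'EA : HasEA p (k - 1) P' := by
    unfold Cfsg.PRankLE at hP
    push Not at hP
    obtain ⟨A, hAc, hAe, hAcard⟩ := hP
    refine ⟨(A.map (P : Subgroup ↥H).subtype).map H.subtype, ?_, ?_, ?_, ?_⟩
    · exact Subgroup.map_mono (Subgroup.map_subtype_le _)
    · rintro _ ⟨_, ⟨a, ha, rfl⟩, rfl⟩ _ ⟨_, ⟨b, hb, rfl⟩, rfl⟩
      have hab : (⟨a, ha⟩ : ↥A) * ⟨b, hb⟩ = ⟨b, hb⟩ * ⟨a, ha⟩ := mul_comm' _ _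
      have hab' : a * b = b * a := congrArg Subtype.val hab
      have hab'' := congrArg Subtype.val hab'
      exact congrArg Subtype.val hab''
    · rintro _ ⟨_, ⟨a, ha, rfl⟩, rfl⟩
      have := hAe a ha
      have h2 := congrArg Subtype.val this
      exact congrArg Subtype.val h2
    · have h1 : Nat.card ↥((A.map (P : Subgroup ↥H).subtype).map H.subtype) =
          Nat.card ↥(A.map (P : Subgroup ↥H).subtype) :=
        Nat.card_congr ((A.map (P : Subgroup ↥H).subtype).equivMapOfInjective _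
          H.subtype_injective).toEquiv.symm
      have h2 : Nat.card ↥(A.map (P : Subgroup ↥H).subtype) = Nat.card ↥A :=
        Nat.card_congr (A.equivMapOfInjective _ (P : Subgroup ↥H).subtype_injective).toEquiv.symm
      rw [h1, h2]
      exact hAcard
  constructor
  · intro hΓ g hg
    by_contra hrank
    rw [not_prankLE_iff_hasEA] at hrank
    apply hg
    have hΓ' : ∀ X : Subgroup G, X ≤ P' → HasEA p (k - 1) X →
        Subgroup.normalizer (X : Set G) ≤ H := fun X hX hEA =>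
      hΓ X hX ((not_prankLE_iff_hasEA X).mpr hEA)
    obtain ⟨A, hAle, hAc, hAe, hAcard⟩ := hrank
    have hAp : IsPGroup p ↥A := by
      intro a
      refine ⟨1, ?_⟩
      apply Subtype.ext
      simpa using hAe a.1 a.2
    have hAH : A ≤ H := hAle.trans inf_le_left
    have hAgH : cj g⁻¹ A ≤ H := by
      have := cj_mono g⁻¹ (hAle.trans inf_le_right)
      rwa [cj_inv_cj] at this
    obtain ⟨h₁, hh₁, hA₁⟩ := exists_conj_le H P A hAp hAH
    obtain ⟨h₂, hh₂, hA₂⟩ := exists_conj_le H P (cj g⁻¹ A) (hAp.map _) hAgH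
    -- A ≤ cj (g * h₂) P'
    have hA₂' : A ≤ cj (g * h₂) P' := by
      have := cj_mono g hA₂
      rw [← cj_mul, ← cj_mul, mul_inv_cancel, cj_one] at this
      exact this
    have hAEA : HasEA p (k - 1) A := ⟨A, le_rfl, hAc, hAe, hAcard⟩
    have hsub : cj h₁⁻¹ A ≤ P' ⊓ cj (h₁⁻¹ * (g * h₂)) P' := by
      apply le_inf
      · have := cj_mono h₁⁻¹ hA₁
        rwa [cj_inv_cj] at this
      · rw [cj_mul]
        exact cj_mono h₁⁻¹ hA₂'
    have hx := mem_of_hasEA_inf (k - 1) H P hP'EA hΓ' _ (h₁⁻¹ * (g * h₂)) rfl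
      ((hAEA.cj h₁⁻¹).mono hsub)
    have h3 := H.mul_mem (H.mul_mem hh₁ hx) (H.inv_mem hh₂)
    have h4 : h₁ * (h₁⁻¹ * (g * h₂)) * h₂⁻¹ = g := by group
    rwa [h4] at h3
  · intro hsmall X hXP hXrank g hg
    by_contra hgH
    apply hXrank
    have h1 := hsmall g hgH
    have hXle : X ≤ H ⊓ H.map (MulAut.conj g).toMonoidHom := by
      apply le_inf (hXP.trans hP'H)
      have h2 : cj g X = X := cj_eq_of_mem_normalizer hg
      have h3 : cj g X ≤ cj g H := cj_mono g (hXP.trans hP'H)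
      rwa [h2] at h3
    by_contra hXr
    rw [not_prankLE_iff_hasEA] at hXr
    exact ((not_prankLE_iff_hasEA _).mpr (hXr.mono hXle)) h1

end Cfsg.Agent.S1231
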