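import Cfsg.Statements.S1324
import Cfsg.Agent.S0058
import Cfsg.Agent.S1386
import Cfsg.Agent.Lib.Helper23.TypeP

set_option autoImplicit false
open Cfsg


namespace Cfsg.Agent.S1324

open Cfsg.Agent.Lib.Helper23

variable {H : Type*} [Group H] [Finite H]

theorem orderOf_eq_prime_of_pow (p : ℕ) [hp : Fact p.Prime] {x : H} (hx : x ^ p = 1) (hx1 : x ≠ 1) :
    orderOf x = p := by
  rcases (Nat.dvd_prime hp.out).1 (orderOf_dvd_of_pow_eq_one hx) with h | h
  · exact absurd (orderOf_eq_one_iff.1 h) hx1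
  · exact h

/-- A non-trivial element of a cyclic group of prime order generates it. -/
theorem zpowers_eq_of_mem (p : ℕ) [hp : Fact p.Prime] {x g : H} (hx : x ^ p = 1)
    (hg : g ∈ Subgroup.zpowers x) (hg1 : g ≠ 1) : Subgroup.zpowers g = Subgroup.zpowers x := by
  have hx1 : x ≠ 1 := by
    rintro rfl
    rw [Subgroup.zpowers_one_eq_bot, Subgroup.mem_bot] at hg
    exact hg1 hg
  have hgp : g ^ p = 1 := by
    obtain ⟨k, rfl⟩ := hg
    rw [← zpow_natCast, ← zpow_mul, mul_comm, zpow_mul, zpow_natCast, hx, one_zpow]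
  have hle : Subgroup.zpowers g ≤ Subgroup.zpowers x := by
    rw [Subgroup.zpowers_le]; exact hg
  apply Subgroup.eq_of_le_of_card_ge hle
  rw [Nat.card_zpowers, Nat.card_zpowers, orderOf_eq_prime_of_pow p hx hx1,
    orderOf_eq_prime_of_pow p hgp hg1]

theorem comm_of_mem {p : ℕ} {A : Subgroup H} (hA : Cfsg.IsElementaryAbelian p A) :
    ∀ a ∈ A, ∀ b ∈ A, a * b = b * a := by
  intro a ha b hb
  have := hA.1
  exact congrArg Subtype.val (mul_comm' (⟨a, ha⟩ : ↥A) ⟨b, hb⟩)

theorem card_eq_pow {p : ℕ} [hp : Fact p.Prime] {A : Subgroup H} (hA : Cfsg.IsElementaryAbelian p A) :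
    ∃ k, Nat.card ↥A = p ^ k := by
  have : IsPGroup p ↥A := by
    intro a
    refine ⟨1, ?_⟩
    rw [pow_one]
    exact Subtype.ext (by simpa using hA.2 a.1 a.2)
  exact (IsPGroup.iff_card.1 this)

/-- In an elementary abelian group `A`, a subgroup `D` of index more than `p` is avoided by a noncyclic subgroup. -/
theorem exists_noncyclic_disjoint (p : ℕ) [hp : Fact p.Prime] (A D : Subgroup H)
    (hA : Cfsg.IsElementaryAbelian p A) (hD : D ≤ A) (hind : p < D.relIndex A) :
    ∃ A' : Subgroup H, A' ≤ A ∧ A' ⊓ D = ⊥ ∧ ¬ IsCyclic ↥A' := by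
  have hcomm := comm_of_mem hA
  have hDA : ¬ A ≤ D := by
    intro h
    rw [Subgroup.relIndex_eq_one.2 h] at hind
    exact absurd hind (by have := hp.out.one_lt; omega)
  obtain ⟨x, hxA, hxD⟩ := SetLike.not_le_iff_exists.1 hDA
  have hxp : x ^ p = 1 := hA.2 x hxA
  have hx1 : x ≠ 1 := by rintro rfl; exact hxD (one_mem _)
  have hzxA : Subgroup.zpowers x ≤ A := by rw [Subgroup.zpowers_le]; exact hxA
  have hdisj : D ⊓ Subgroup.zpowers x = ⊥ := by
    rw [eq_bot_iff]
    intro g hg
    rw [Subgroup.mem_inf] at hg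
    rw [Subgroup.mem_bot]
    by_contra hg1
    have := zpowers_eq_of_mem p hxp hg.2 hg1
    apply hxD
    have hx' : x ∈ Subgroup.zpowers g := by rw [this]; exact Subgroup.mem_zpowers x
    exact (Subgroup.zpowers_le.2 hg.1) hx'
  have hcard : Nat.card ↥(D ⊔ Subgroup.zpowers x) = Nat.card ↥D * p := by
    rw [Cfsg.Agent.S1386.card_sup_of_commute_of_disjoint D (Subgroup.zpowers x)
      (fun a ha b hb => hcomm a (hD ha) b (hzxA hb)) hdisj, Nat.card_zpowers,
      orderOf_eq_prime_of_pow p hxp hx1]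
  have hD1A : D ⊔ Subgroup.zpowers x ≤ A := sup_le hD hzxA
  have hnot : ¬ A ≤ D ⊔ Subgroup.zpowers x := by
    intro h
    have heq : D ⊔ Subgroup.zpowers x = A := le_antisymm hD1A h
    have h1 := card_mul_relIndex_of_le hD
    have h2 : Nat.card ↥A = Nat.card ↥D * p := by rw [← heq]; exact hcard
    rw [h2] at h1
    have hpos : 0 < Nat.card ↥D := Nat.card_pos
    have := Nat.eq_of_mul_eq_mul_left hpos h1
    omega
  obtain ⟨y, hyA, hyD1⟩ := SetLike.not_le_iff_exists.1 hnot
  have hyp : y ^ p = 1 := hA.2 y hyA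
  have hy1 : y ≠ 1 := by rintro rfl; exact hyD1 (one_mem _)
  have hzyA : Subgroup.zpowers y ≤ A := by rw [Subgroup.zpowers_le]; exact hyA
  have hcomm' : ∀ a ∈ Subgroup.zpowers x, ∀ b ∈ Subgroup.zpowers y, a * b = b * a :=
    fun a ha b hb => hcomm a (hzxA ha) b (hzyA hb)
  refine ⟨Subgroup.zpowers x ⊔ Subgroup.zpowers y, sup_le hzxA hzyA, ?_, ?_⟩
  · rw [eq_bot_iff]
    intro g hg
    rw [Subgroup.mem_inf] at hg
    rw [Subgroup.mem_bot]
    obtain ⟨a, ha, b, hb, rfl⟩ := exists_mul_of_mem_sup_of_commute _ _ hcomm' hg.1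
    by_cases hb1 : b = 1
    · subst hb1
      rw [mul_one] at hg ⊢
      have : a ∈ D ⊓ Subgroup.zpowers x := Subgroup.mem_inf.2 ⟨hg.2, ha⟩
      rw [hdisj, Subgroup.mem_bot] at this
      exact this
    · exfalso
      apply hyD1
      have hzb := zpowers_eq_of_mem p hyp hb hb1
      have hy' : y ∈ Subgroup.zpowers b := by rw [hzb]; exact Subgroup.mem_zpowers y
      have hbD1 : b ∈ D ⊔ Subgroup.zpowers x := by
        have : b = a⁻¹ * (a * b) := by group
        rw [this]
        exact mul_mem (inv_mem (Subgroup.mem_sup_right ha)) (Subgroup.mem_sup_left hg.2)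
      exact (Subgroup.zpowers_le.2 hbD1) hy'
  · intro hc
    have hdisj' : Subgroup.zpowers x ⊓ Subgroup.zpowers y = ⊥ := by
      rw [eq_bot_iff]
      intro g hg
      rw [Subgroup.mem_inf] at hg
      rw [Subgroup.mem_bot]
      by_contra hg1
      have hzg := zpowers_eq_of_mem p hyp hg.2 hg1
      apply hyD1
      have hy' : y ∈ Subgroup.zpowers g := by rw [hzg]; exact Subgroup.mem_zpowers y
      exact Subgroup.mem_sup_right ((Subgroup.zpowers_le.2 hg.1) hy')
    have hcard' := Cfsg.Agent.S1386.card_sup_of_commute_of_disjoint _ _ hcomm' hdisj'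
    rw [Nat.card_zpowers, Nat.card_zpowers, orderOf_eq_prime_of_pow p hxp hx1,
      orderOf_eq_prime_of_pow p hyp hy1] at hcard'
    classical
    let _ : Fintype ↥(Subgroup.zpowers x ⊔ Subgroup.zpowers y) := Fintype.ofFinite _
    have hle := IsCyclic.card_pow_eq_one_le (α := ↥(Subgroup.zpowers x ⊔ Subgroup.zpowers y))
      hp.out.pos
    have hall : (Finset.univ.filter
        (fun a : ↥(Subgroup.zpowers x ⊔ Subgroup.zpowers y) => a ^ p = 1)) = Finset.univ := by
      rw [Finset.filter_eq_self]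
      intro a _
      exact Subtype.ext (by simpa using hA.2 a.1 ((sup_le hzxA hzyA) a.2))
    rw [hall, Finset.card_univ, ← Nat.card_eq_fintype_card, hcard'] at hle
    have := hp.out.one_lt
    nlinarith

/-- The inductive step: centralizers in `X` of subgroups `D ≤ A` lie in any subgroup `S` containing the
centralizers of the subgroups of index at most `p`. -/
theorem key (p : ℕ) [hp : Fact p.Prime] (A X : Subgroup H) (hA : Cfsg.IsElementaryAbelian p A)
    (hX : ¬ p ∣ Nat.card ↥X) (hAX : A ≤ Subgroup.normalizer (X : Set H)) (S : Subgroup H)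
    (hS : ∀ B : Subgroup H, B ≤ A → B.relIndex A ≤ p →
      X ⊓ Subgroup.centralizer ((B : Subgroup H) : Set H) ≤ S) :
    ∀ n : ℕ, ∀ D : Subgroup H, D ≤ A → D.relIndex A ≤ p ^ n →
      X ⊓ Subgroup.centralizer ((D : Subgroup H) : Set H) ≤ S := by
  have hcomm := comm_of_mem hA
  obtain ⟨k, hk⟩ := card_eq_pow (p := p) hA
  intro n
  induction n with
  | zero =>
    intro D hD hn
    exact hS D hD (le_trans hn (by rw [pow_zero]; exact hp.out.one_lt.le))
  | succ n ih =>
    intro D hD hn
    by_cases hDp : D.relIndex A ≤ p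
    · exact hS D hD hDp
    rw [not_le] at hDp
    obtain ⟨A', hA'A, hA'D, hA'nc⟩ := exists_noncyclic_disjoint p A D hA hD hDp
    set K : Subgroup H := X ⊓ Subgroup.centralizer ((D : Subgroup H) : Set H) with hKdef
    have hA'K : A' ≤ Subgroup.normalizer (K : Set H) := by
      intro a ha
      have haX := hAX (hA'A ha)
      have haC : a ∈ Subgroup.normalizer
          ((Subgroup.centralizer ((D : Subgroup H) : Set H) : Subgroup H) : Set H) := by
        apply Subgroup.le_normalizer
        rw [Subgroup.mem_centralizer_iff]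
        intro d hd
        exact hcomm d (hD hd) a (hA'A ha)
      rw [Subgroup.mem_normalizer_iff] at haX haC ⊢
      intro h
      rw [hKdef, Subgroup.mem_inf, Subgroup.mem_inf, ← haX h, ← haC h]
    have hA'comm : IsMulCommutative ↥A' :=
      ⟨⟨fun a b => Subtype.ext (hcomm a.1 (hA'A a.2) b.1 (hA'A b.2))⟩⟩
    have hcop : (Nat.card ↥A').Coprime (Nat.card ↥K) := by
      have h1 : Nat.card ↥A' ∣ p ^ k := hk ▸ Subgroup.card_dvd_of_le hA'A
      obtain ⟨m, -, hm⟩ := (Nat.dvd_prime_pow hp.out).1 h1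
      rw [hm]
      apply Nat.Coprime.pow_left
      rw [Nat.Prime.coprime_iff_not_dvd hp.out]
      intro hpK
      exact hX (dvd_trans hpK (Subgroup.card_dvd_of_le inf_le_left))
    have hgen := Cfsg.Agent.S0058.result A' K hA'nc hA'K hcop
    rw [← hgen]
    apply iSup₂_le
    intro a ha
    obtain ⟨haA', ha1⟩ := ha
    have haA : a ∈ A := hA'A haA'
    have haD : a ∉ D := by
      intro haD
      have : a ∈ A' ⊓ D := Subgroup.mem_inf.2 ⟨haA', haD⟩
      rw [hA'D, Subgroup.mem_bot] at this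
      exact ha1 this
    have hD'A : D ⊔ Subgroup.zpowers a ≤ A := sup_le hD (by rw [Subgroup.zpowers_le]; exact haA)
    have hDD' : D ≤ D ⊔ Subgroup.zpowers a := le_sup_left
    have hD'D : ¬ D ⊔ Subgroup.zpowers a ≤ D := fun h =>
      haD (h (Subgroup.mem_sup_right (Subgroup.mem_zpowers a)))
    have hmul := Subgroup.relIndex_mul_relIndex D (D ⊔ Subgroup.zpowers a) A hDD' hD'A
    have hpdvd : p ∣ D.relIndex (D ⊔ Subgroup.zpowers a) := by
      have h1 : D.relIndex (D ⊔ Subgroup.zpowers a) ∣ p ^ k := by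
        rw [← hk]
        exact dvd_trans (Subgroup.relIndex_dvd_card _ _) (Subgroup.card_dvd_of_le hD'A)
      obtain ⟨m, -, hm⟩ := (Nat.dvd_prime_pow hp.out).1 h1
      rcases Nat.eq_zero_or_pos m with h0 | h0
      · exfalso
        rw [h0, pow_zero, Subgroup.relIndex_eq_one] at hm
        exact hD'D hm
      · rw [hm]
        exact dvd_pow_self p h0.ne'
    have hple : p ≤ D.relIndex (D ⊔ Subgroup.zpowers a) := by
      apply Nat.le_of_dvd _ hpdvd
      rw [Nat.pos_iff_ne_zero]
      intro h0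
      rw [h0, zero_mul] at hmul
      rw [← hmul] at hDp
      omega
    have hn' : (D ⊔ Subgroup.zpowers a).relIndex A ≤ p ^ n := by
      have h2 : (D ⊔ Subgroup.zpowers a).relIndex A * p ≤ p ^ n * p := by
        calc (D ⊔ Subgroup.zpowers a).relIndex A * p
            ≤ (D ⊔ Subgroup.zpowers a).relIndex A * D.relIndex (D ⊔ Subgroup.zpowers a) :=
              Nat.mul_le_mul_left _ hple
          _ = D.relIndex A := by rw [mul_comm]; exact hmul
          _ ≤ p ^ (n + 1) := hn
          _ = p ^ n * p := pow_succ p n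
      exact Nat.le_of_mul_le_mul_right h2 hp.out.pos
    refine le_trans ?_ (ih (D ⊔ Subgroup.zpowers a) hD'A hn')
    intro g hg
    rw [hKdef, Subgroup.mem_inf, Subgroup.mem_inf] at hg
    obtain ⟨⟨hgX, hgD⟩, hga⟩ := hg
    rw [Subgroup.mem_inf]
    refine ⟨hgX, ?_⟩
    have hle : D ⊔ Subgroup.zpowers a ≤ Subgroup.centralizer {g} := by
      apply sup_le
      · intro d hd
        rw [Subgroup.mem_centralizer_singleton_iff]
        exact ((Subgroup.mem_centralizer_iff.1 hgD) d hd)
      · rw [Subgroup.zpowers_le, Subgroup.mem_centralizer_singleton_iff]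
        exact (Subgroup.mem_centralizer_singleton_iff.1 hga).symm
    rw [Subgroup.mem_centralizer_iff]
    intro h hh
    exact (Subgroup.mem_centralizer_singleton_iff.1 (hle hh))

/-- Let A be a noncyclic elementary abelian p-subgroup of a finite group H normalizing a subgroup X of order prime to p. Then X is generated by the subgroups X ∩ C_H(B), B ranging over the subgroups of A of index at most p. -/
theorem result {H : Type*} [Group H] [Finite H] (p : ℕ) [Fact p.Prime] (A X : Subgroup H) (hA : Cfsg.IsElementaryAbelian p A) (hA2 : p ^ 2 ≤ Nat.card ↥A) (hX : ¬ p ∣ Nat.card ↥X) (hAX : A ≤ Subgroup.normalizer (X : Set H)) : X = ⨆ B : {B : Subgroup H // B ≤ A ∧ B.relIndex A ≤ p}, X ⊓ Subgroup.centralizer ((B : Subgroup H) : Set H) := by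
  apply le_antisymm
  · obtain ⟨k, hk⟩ := card_eq_pow (p := p) hA
    have hkey := key p A X hA hX hAX
      (⨆ B : {B : Subgroup H // B ≤ A ∧ B.relIndex A ≤ p},
        X ⊓ Subgroup.centralizer ((B : Subgroup H) : Set H))
      (fun B hB hBp => le_iSup (fun B : {B : Subgroup H // B ≤ A ∧ B.relIndex A ≤ p} =>
        X ⊓ Subgroup.centralizer ((B : Subgroup H) : Set H)) ⟨B, hB, hBp⟩)
      k ⊥ bot_le (by rw [Subgroup.relIndex_bot_left, hk])
    refine le_trans ?_ hkey
    apply le_inf le_rfl
    intro g _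
    rw [Subgroup.mem_centralizer_iff]
    intro h hh
    rw [SetLike.mem_coe, Subgroup.mem_bot] at hh
    rw [hh, one_mul, mul_one]
  · exact iSup_le fun B => inf_le_left

end Cfsg.Agent.S1324
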