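import Cfsg.Statements.S1282
import Cfsg.Agent.S1324
import Cfsg.Agent.S1231

set_option autoImplicit false
open Cfsg

namespace Cfsg.Agent.S1282

variable {G : Type*} [Group G] [Finite G]

omit [Finite G] in
/-- `A` normalizes `N_Q(D)` when it normalizes `Q` and `D`. -/
theorem le_normalizer_normalizer_inf {A D Q : Subgroup G}
    (hAD : A ≤ Subgroup.normalizer (D : Set G)) (hAQ : A ≤ Subgroup.normalizer (Q : Set G)) :
    A ≤ Subgroup.normalizer ((Subgroup.normalizer (D : Set G) ⊓ Q : Subgroup G) : Set G) := by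
  intro a ha
  have h1 : a ∈ Subgroup.normalizer ((Subgroup.normalizer (D : Set G) : Subgroup G) : Set G) :=
    Subgroup.le_normalizer (hAD ha)
  have h2 := hAQ ha
  rw [Subgroup.mem_normalizer_iff] at h1 h2 ⊢
  intro h
  rw [Subgroup.mem_inf, Subgroup.mem_inf, ← h1 h, ← h2 h]

/-- One side of the statement: a hyperplane `B` of `A` with `N_Q(D) ∩ C(B) ⊄ D`. -/
theorem exists_hyperplane (p : ℕ) [Fact p.Prime] (A : Subgroup G)
    (hA : Cfsg.IsElementaryAbelian p A) (hA2 : p ^ 2 ≤ Nat.card ↥A) (q : ℕ) [Fact q.Prime]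
    (hqp : q ≠ p) (D Q : Subgroup G) (hQ : IsPGroup q ↥Q) (hDQ : D < Q)
    (hAD : A ≤ Subgroup.normalizer (D : Set G)) (hAQ : A ≤ Subgroup.normalizer (Q : Set G)) :
    ∃ B : Subgroup G, B ≤ A ∧ B.relIndex A ≤ p ∧
      ¬ (Subgroup.normalizer (D : Set G) ⊓ Q ⊓ Subgroup.centralizer (B : Set G) ≤ D) := by
  by_contra hcon
  push Not at hcon
  obtain ⟨y, hyQ, hyN, hyD⟩ := Cfsg.Agent.S1231.exists_normalizer_not_mem Q D hQ hDQ
  have hNp : ¬ p ∣ Nat.card ↥(Subgroup.normalizer (D : Set G) ⊓ Q : Subgroup G) := by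
    intro hdvd
    have hNq : IsPGroup q ↥(Subgroup.normalizer (D : Set G) ⊓ Q : Subgroup G) := hQ.to_le inf_le_right
    obtain ⟨k, hk⟩ := IsPGroup.iff_card.1 hNq
    rw [hk] at hdvd
    have hp : p.Prime := Fact.out
    have hq : q.Prime := Fact.out
    have := (Nat.prime_dvd_prime_iff_eq hp hq).1 (hp.dvd_of_dvd_pow hdvd)
    exact hqp this.symm
  have hgen := Cfsg.Agent.S1324.result p A (Subgroup.normalizer (D : Set G) ⊓ Q) hA hA2 hNp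
    (le_normalizer_normalizer_inf hAD hAQ)
  have hle : Subgroup.normalizer (D : Set G) ⊓ Q ≤ D := by
    rw [hgen]
    apply iSup_le
    rintro ⟨B, hBA, hBp⟩
    exact hcon B hBA hBp
  exact hyD (hle ⟨hyN, hyQ⟩)

/-- Let A be an elementary abelian p-subgroup of rank at least 3 of the finite group G, q ≠ p a prime, and Q₁, Q₂ q-subgroups normalized by A with D = Q₁ ∩ Q₂ different from both. Then there is a non-identity a ∈ A such that, for i = 1 and i = 2, N_{Q_i}(D) ∩ C_G(a) is not contained in D. -/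
theorem result {G : Type*} [Group G] [Finite G] (p : ℕ) [Fact p.Prime] (A : Subgroup G) (hA : Cfsg.IsElementaryAbelian p A) (hA3 : p ^ 3 ≤ Nat.card ↥A) (q : ℕ) [Fact q.Prime] (hqp : q ≠ p) (Q₁ Q₂ : Subgroup G) (h₁ : IsPGroup q ↥Q₁) (h₂ : IsPGroup q ↥Q₂) (hA₁ : A ≤ Subgroup.normalizer (Q₁ : Set G)) (hA₂ : A ≤ Subgroup.normalizer (Q₂ : Set G)) (hD₁ : Q₁ ⊓ Q₂ ≠ Q₁) (hD₂ : Q₁ ⊓ Q₂ ≠ Q₂) : ∃ a ∈ A, a ≠ 1 ∧ ¬ (Subgroup.normalizer ((Q₁ ⊓ Q₂ : Subgroup G) : Set G) ⊓ Q₁ ⊓ Subgroup.centralizer {a} ≤ Q₁ ⊓ Q₂) ∧ ¬ (Subgroup.normalizer ((Q₁ ⊓ Q₂ : Subgroup G) : Set G) ⊓ Q₂ ⊓ Subgroup.centralizer {a} ≤ Q₁ ⊓ Q₂) := by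
  have hp : p.Prime := Fact.out
  have hA2 : p ^ 2 ≤ Nat.card ↥A :=
    le_trans (Nat.pow_le_pow_right hp.pos (by norm_num)) hA3
  have hAD : A ≤ Subgroup.normalizer ((Q₁ ⊓ Q₂ : Subgroup G) : Set G) := by
    intro a ha
    have h1 := hA₁ ha
    have h2 := hA₂ ha
    rw [Subgroup.mem_normalizer_iff] at h1 h2 ⊢
    intro h
    rw [Subgroup.mem_inf, Subgroup.mem_inf, ← h1 h, ← h2 h]
  obtain ⟨B₁, hB₁A, hB₁p, hB₁⟩ := exists_hyperplane p A hA hA2 q hqp (Q₁ ⊓ Q₂) Q₁ h₁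
    (lt_of_le_of_ne inf_le_left hD₁) hAD hA₁
  obtain ⟨B₂, hB₂A, hB₂p, hB₂⟩ := exists_hyperplane p A hA hA2 q hqp (Q₁ ⊓ Q₂) Q₂ h₂
    (lt_of_le_of_ne inf_le_right hD₂) hAD hA₂
  -- `B₁ ⊓ B₂` is nontrivial
  have hidx : (B₁ ⊓ B₂).relIndex A ≤ p ^ 2 := by
    calc (B₁ ⊓ B₂).relIndex A ≤ B₁.relIndex A * B₂.relIndex A := Subgroup.relIndex_inf_le
      _ ≤ p * p := Nat.mul_le_mul hB₁p hB₂p
      _ = p ^ 2 := (sq p).symm
  have hcard := Cfsg.Agent.Lib.Helper23.card_mul_relIndex_of_le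
    (inf_le_left.trans hB₁A : B₁ ⊓ B₂ ≤ A)
  have hne : (B₁ ⊓ B₂ : Subgroup G) ≠ ⊥ := by
    intro hbot
    rw [hbot, Subgroup.card_bot, one_mul] at hcard
    rw [← hcard] at hA3
    have : p ^ 2 < p ^ 3 := Nat.pow_lt_pow_right hp.one_lt (by norm_num)
    rw [hbot] at hidx
    omega
  obtain ⟨⟨a, haB⟩, ha1⟩ := (Subgroup.ne_bot_iff_exists_ne_one).1 hne
  have ha1' : a ≠ 1 := fun h => ha1 (Subtype.ext h)
  have hmono : ∀ (N B : Subgroup G), a ∈ B →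
      N ⊓ Subgroup.centralizer (B : Set G) ≤ N ⊓ Subgroup.centralizer {a} := by
    intro N B haB'
    apply inf_le_inf_left
    apply Subgroup.centralizer_le
    intro x hx
    rw [Set.mem_singleton_iff] at hx
    rw [hx]
    exact haB'
  refine ⟨a, hB₁A haB.1, ha1', ?_, ?_⟩
  · intro h
    exact hB₁ ((hmono _ B₁ haB.1).trans h)
  · intro h
    exact hB₂ ((hmono _ B₂ haB.2).trans h)

end Cfsg.Agent.S1282
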