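import Cfsg.Statements.S1285
import Cfsg.Agent.Lib.Helper23.Signalizer

set_option autoImplicit false
open Cfsg

namespace Cfsg.Agent.S1285

open Cfsg.Agent.Lib.Helper23

/-- The trivial subgroup belongs to the family. -/
theorem bot_mem_signalizerFamily {G : Type*} [Group G] (p : ℕ) [hp : Fact p.Prime] (A : Subgroup G)
    (θ : G → Subgroup G) : (⊥ : Subgroup G) ∈ Cfsg.signalizerFamily p A θ := by
  refine ⟨inferInstance, ?_, ?_, ?_⟩
  · rw [Subgroup.card_bot]
    exact hp.out.one_lt.ne' ∘ Nat.dvd_one.1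
  · intro b _ u hu
    rw [Subgroup.mem_bot] at hu ⊢
    rw [hu, mul_one, mul_inv_cancel]
  · intro a _ _
    exact inf_le_left.trans bot_le

/-- A subgroup is fixed by conjugation with its own elements. -/
theorem map_conj_eq_self_of_mem {G : Type*} [Group G] {H : Subgroup G} {c : G} (hc : c ∈ H) :
    H.map (MulAut.conj c).toMonoidHom = H :=
  map_conj_eq_of_mem_normalizer (Subgroup.le_normalizer hc)

/-- Let θ be a solvable A-signalizer functor on the finite group G with A elementary abelian of rank at least 3, and suppose that for some prime q every θ a (a ∈ A non-identity) is a q-group. Then θ is complete. -/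
theorem result {G : Type*} [Group G] [Finite G] (p : ℕ) [Fact p.Prime] (A : Subgroup G) (hA : Cfsg.IsElementaryAbelian p A) (hA3 : p ^ 3 ≤ Nat.card ↥A) (θ : G → Subgroup G) (hθ : Cfsg.IsSolvableSignalizerFunctor p A θ) (q : ℕ) [Fact q.Prime] (hq : ∀ a ∈ A, a ≠ 1 → IsPGroup q ↥(θ a)) : Cfsg.IsCompleteSignalizerFunctor p A θ := by
  obtain ⟨Q, hQfam, hQq, -, hQmax⟩ := exists_maximal_q_member (p := p) (A := A) (θ := θ) q _
    (bot_mem_signalizerFamily p A θ) (IsPGroup.of_bot) le_rfl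
  have hQ : IsMaxQMember p A θ q Q := ⟨hQfam, hQq, hQmax⟩
  refine ⟨hθ.1, Q, hQfam.2.2.1, hQfam.2.1, ?_⟩
  intro a ha ha1
  apply le_antisymm (hQfam.2.2.2 a ha ha1)
  apply le_inf _ (hθ.1.1 a ha ha1)
  -- `θ a ≤ Q`
  obtain ⟨P, hPfam, hPq, haP, hPmax⟩ := exists_maximal_q_member (p := p) (A := A) (θ := θ) q _
    (theta_mem_signalizerFamily hθ ha ha1) (hq a ha ha1) le_rfl
  obtain ⟨c, hc, hcQ⟩ := transitivity hA hA3 hθ q hQ ⟨hPfam, hPq, hPmax⟩
  have hca : c ∈ θ a := mem_signalizerInf_iff.1 hc a ha ha1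
  have h1 : (θ a).map (MulAut.conj c⁻¹).toMonoidHom ≤ Q := by
    have := Subgroup.map_mono (f := (MulAut.conj c⁻¹).toMonoidHom) haP
    rwa [← hcQ, map_conj_map_conj, inv_mul_cancel, sgz_map_conj_one] at this
  rwa [map_conj_eq_self_of_mem (inv_mem hca)] at h1

end Cfsg.Agent.S1285
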