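import Cfsg.Statements.S0076
-- import your own Cfsg.Agent.* helpers here

set_option autoImplicit false
open Cfsg

namespace Cfsg.Agent.S0076

/-- Two P-invariant subsets of a Sylow p-subgroup P that are conjugate in G are conjugate under the normalizer of P. -/
theorem result {G : Type*} [Group G] [Finite G] {p : ℕ} [Fact p.Prime] (P : Sylow p G) (X Y : Set G) (hXP : X ⊆ P) (hYP : Y ⊆ P) (hX : ∀ x ∈ P, (fun y => x * y * x⁻¹) '' X = X) (hY : ∀ x ∈ P, (fun y => x * y * x⁻¹) '' Y = Y) (g : G) (hg : (fun y => g * y * g⁻¹) '' X = Y) : ∃ n ∈ Subgroup.normalizer (P : Set G), (fun y => n * y * n⁻¹) '' X = Y := by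
  have h1 : (P : Subgroup G) ≤ Subgroup.normalizer Y := by
    intro x hx
    apply Subgroup.mem_normalizer_fintype
    intro n hn
    rw [← hY x hx]
    exact ⟨n, hn, rfl⟩
  have h2 : ((g • P : Sylow p G) : Subgroup G) ≤ Subgroup.normalizer Y := by
    intro z hz
    rw [Sylow.coe_subgroup_smul, Subgroup.mem_smul_pointwise_iff_exists] at hz
    obtain ⟨x, hx, rfl⟩ := hz
    apply Subgroup.mem_normalizer_fintype
    intro n hn
    rw [← hg] at hn ⊢
    obtain ⟨y, hy, rfl⟩ := hn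
    refine ⟨x * y * x⁻¹, ?_, ?_⟩
    · rw [← hX x hx]; exact ⟨y, hy, rfl⟩
    · simp only [MulAut.smul_def, MulAut.conj_apply]
      group
  obtain ⟨c, hc⟩ :=
    MulAction.exists_smul_eq (Subgroup.normalizer Y) ((g • P).subtype h2) (P.subtype h1)
  simp_rw [Sylow.smul_subtype, Subgroup.smul_def, smul_smul] at hc
  refine ⟨c * g, Sylow.smul_eq_iff_mem_normalizer.mp (Sylow.subtype_injective hc), ?_⟩
  have hcY : MulAut.conj (c : G) '' Y = Y := Subgroup.mem_normalizer_iff_conj_image_eq.mp c.2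
  obtain ⟨c, hcmem⟩ := c
  simp only at hcY ⊢
  clear hc
  apply Set.eq_of_subset_of_subset
  · rintro w ⟨y, hy, rfl⟩
    rw [← hcY]
    refine ⟨g * y * g⁻¹, ?_, ?_⟩
    · rw [← hg]; exact ⟨y, hy, rfl⟩
    · simp only [MulAut.conj_apply]; group
  · intro w hw
    rw [← hcY] at hw
    obtain ⟨v, hv, rfl⟩ := hw
    rw [← hg] at hv
    obtain ⟨y, hy, rfl⟩ := hv
    exact ⟨y, hy, by simp only [MulAut.conj_apply]; group⟩

end Cfsg.Agent.S0076
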