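import Mathlib
import Cfsg.Statements.S0223
import Cfsg.Agent.Lib.Helper4.StronglyEmb

set_option autoImplicit false
open Cfsg

namespace Cfsg.Agent.S0223

open Cfsg.Agent.Lib.Helper4

/-- Let H be a proper subgroup of even order of the finite group G. Then H is strongly embedded if and only if (i) C_G(t) ≤ H for every involution t of H and (ii) H controls fusion of its involutions: involutions of H conjugate in G are conjugate in H. -/
theorem result {G : Type*} [Group G] [Finite G] (H : Subgroup G) (hH : H ≠ ⊤) (heven : Even (Nat.card H)) : Cfsg.IsStronglyEmbedded H ↔ ((∀ t ∈ H, orderOf t = 2 → Subgroup.centralizer ({t} : Set G) ≤ H) ∧ (∀ t ∈ H, ∀ s ∈ H, orderOf t = 2 → orderOf s = 2 → IsConj t s → ∃ h ∈ H, h * t * h⁻¹ = s)) := by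
  rw [isStronglyEmbedded_iff]
  constructor
  · rintro ⟨-, -, h3⟩
    -- key: if g conjugates an involution t of H to an element of H then g ∈ H
    have key : ∀ t ∈ H, orderOf t = 2 → ∀ g : G, g * t * g⁻¹ ∈ H → g ∈ H := by
      intro t ht ht2 g hg
      by_contra hgH
      have := h3 g hgH (g * t * g⁻¹) hg (by
        have : g⁻¹ * (g * t * g⁻¹) * g = t := by group
        rw [this]; exact ht)
      exact this (orderOf_conj_two g ht2)
    constructor
    · intro t ht ht2 c hc
      rw [Subgroup.mem_centralizer_singleton_iff] at hc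
      apply key t ht ht2 c
      rw [hc, mul_inv_cancel_right]; exact ht
    · intro t ht s hs ht2 _ hconj
      obtain ⟨g, hg⟩ := isConj_iff.mp hconj
      exact ⟨g, key t ht ht2 g (hg ▸ hs), hg⟩
  · rintro ⟨h1, h2⟩
    refine ⟨hH, heven, fun g hg s hs hs' hs2 => ?_⟩
    -- t := g⁻¹ s g ∈ H is an involution conjugate to s
    set t := g⁻¹ * s * g with ht
    have ht2 : orderOf t = 2 := by
      have := orderOf_conj_two g⁻¹ hs2
      rwa [inv_inv] at this
    have hconj : IsConj t s := isConj_iff.mpr ⟨g, by rw [ht]; group⟩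
    obtain ⟨h, hh, hhs⟩ := h2 t hs' s hs ht2 hs2 hconj
    -- h⁻¹ g centralizes t
    have hc : h⁻¹ * g ∈ Subgroup.centralizer ({t} : Set G) := by
      rw [Subgroup.mem_centralizer_singleton_iff]
      have e1 : g * t = s * g := by rw [ht]; group
      have e2 : h * t = s * h := by rw [← hhs]; group
      calc h⁻¹ * g * t = h⁻¹ * (g * t) := by group
        _ = h⁻¹ * (s * g) := by rw [e1]
        _ = h⁻¹ * (s * h) * (h⁻¹ * g) := by group
        _ = h⁻¹ * (h * t) * (h⁻¹ * g) := by rw [e2]
        _ = t * (h⁻¹ * g) := by group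
    have := h1 t hs' ht2 hc
    apply hg
    have hg' : g = h * (h⁻¹ * g) := by group
    rw [hg']
    exact H.mul_mem hh this

end Cfsg.Agent.S0223
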