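import Cfsg.Statements.S0765
-- import your own Cfsg.Agent.* helpers here

set_option autoImplicit false
open Cfsg

namespace Cfsg.Agent.S0765


open Matrix

variable {F : Type*} [Field F] {m : ℕ}

/-- the standard alternating form (same as `Cfsg.sympForm`) -/
def B (x y : Fin m ⊕ Fin m → F) : F := x ⬝ᵥ (Matrix.J (Fin m) F *ᵥ y)

theorem J_mulVec_inl (y : Fin m ⊕ Fin m → F) (i : Fin m) :
    (Matrix.J (Fin m) F *ᵥ y) (Sum.inl i) = - y (Sum.inr i) := by
  simp [Matrix.J, Matrix.mulVec, dotProduct, Fintype.sum_sum_type, Matrix.one_apply,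
    Matrix.neg_apply]

theorem J_mulVec_inr (y : Fin m ⊕ Fin m → F) (i : Fin m) :
    (Matrix.J (Fin m) F *ᵥ y) (Sum.inr i) = y (Sum.inl i) := by
  simp [Matrix.J, Matrix.mulVec, dotProduct, Fintype.sum_sum_type, Matrix.one_apply]

theorem B_eq (x y : Fin m ⊕ Fin m → F) :
    B x y = ∑ i : Fin m, (x (Sum.inr i) * y (Sum.inl i) - x (Sum.inl i) * y (Sum.inr i)) := by
  unfold B
  rw [dotProduct, Fintype.sum_sum_type]
  simp only [J_mulVec_inl, J_mulVec_inr]
  rw [Finset.sum_sub_distrib, sub_eq_add_neg, add_comm, ← Finset.sum_neg_distrib]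
  congr 1
  apply Finset.sum_congr rfl
  intro i _
  ring

theorem B_self (x : Fin m ⊕ Fin m → F) : B x x = 0 := by
  rw [B_eq]
  apply Finset.sum_eq_zero
  intro i _
  ring

theorem B_skew (x y : Fin m ⊕ Fin m → F) : B y x = - B x y := by
  rw [B_eq, B_eq, ← Finset.sum_neg_distrib]
  apply Finset.sum_congr rfl
  intro i _
  ring

theorem B_add_left (x y z : Fin m ⊕ Fin m → F) : B (x + y) z = B x z + B y z := by
  unfold B; rw [add_dotProduct]

theorem B_add_right (x y z : Fin m ⊕ Fin m → F) : B x (y + z) = B x y + B x z := by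
  unfold B; rw [Matrix.mulVec_add, dotProduct_add]

theorem B_smul_left (c : F) (x y : Fin m ⊕ Fin m → F) : B (c • x) y = c * B x y := by
  unfold B; rw [smul_dotProduct, smul_eq_mul]

theorem B_smul_right (c : F) (x y : Fin m ⊕ Fin m → F) : B x (c • y) = c * B x y := by
  unfold B; rw [Matrix.mulVec_smul, dotProduct_smul, smul_eq_mul]

theorem B_sub_left (x y z : Fin m ⊕ Fin m → F) : B (x - y) z = B x z - B y z := by
  unfold B; rw [sub_dotProduct]

theorem B_sub_right (x y z : Fin m ⊕ Fin m → F) : B x (y - z) = B x y - B x z := by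
  unfold B; rw [Matrix.mulVec_sub, dotProduct_sub]

theorem B_zero_left (y : Fin m ⊕ Fin m → F) : B 0 y = 0 := by
  unfold B; rw [zero_dotProduct]

theorem B_zero_right (y : Fin m ⊕ Fin m → F) : B y 0 = 0 := by
  unfold B; rw [Matrix.mulVec_zero, dotProduct_zero]

theorem B_nondeg (a : Fin m ⊕ Fin m → F) (ha : a ≠ 0) : ∃ y, B a y ≠ 0 := by
  have : ∃ i, a i ≠ 0 := by
    by_contra h
    push Not at h
    exact ha (funext h)
  obtain ⟨i, hi⟩ := this
  rcases i with k | k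
  · refine ⟨Pi.single (Sum.inr k) 1, ?_⟩
    rw [B_eq, Finset.sum_eq_single k]
    · simpa using hi
    · intro j _ hjk
      simp [Pi.single_apply, hjk]
    · intro h; exact absurd (Finset.mem_univ k) h
  · refine ⟨Pi.single (Sum.inl k) 1, ?_⟩
    rw [B_eq, Finset.sum_eq_single k]
    · simpa using hi
    · intro j _ hjk
      simp [Pi.single_apply, hjk]
    · intro h; exact absurd (Finset.mem_univ k) h

/-- the symplectic transvection -/
abbrev T (w : Fin m ⊕ Fin m → F) (c : F) : Matrix (Fin m ⊕ Fin m) (Fin m ⊕ Fin m) F :=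
  Cfsg.sympTransvection m w c

theorem T_mulVec (w : Fin m ⊕ Fin m → F) (c : F) (x : Fin m ⊕ Fin m → F) :
    T w c *ᵥ x = x + (c * B x w) • w := by
  unfold T Cfsg.sympTransvection B
  rw [Matrix.add_mulVec, Matrix.one_mulVec, Matrix.smul_mulVec, Matrix.vecMulVec_mulVec,
    op_smul_eq_smul, dotProduct_comm, smul_smul]

theorem dot_mulVec_left (g : Matrix (Fin m ⊕ Fin m) (Fin m ⊕ Fin m) F)
    (x w : Fin m ⊕ Fin m → F) : (g *ᵥ x) ⬝ᵥ w = x ⬝ᵥ (gᵀ *ᵥ w) := by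
  rw [Matrix.dotProduct_mulVec, Matrix.vecMul_transpose]

theorem B_mulVec_eq (g : Matrix (Fin m ⊕ Fin m) (Fin m ⊕ Fin m) F) (x y : Fin m ⊕ Fin m → F) :
    B (g *ᵥ x) (g *ᵥ y) = x ⬝ᵥ ((gᵀ * Matrix.J (Fin m) F * g) *ᵥ y) := by
  unfold B
  rw [dot_mulVec_left, Matrix.mulVec_mulVec, Matrix.mulVec_mulVec, Matrix.mul_assoc]

theorem B_mulVec (g : Matrix (Fin m ⊕ Fin m) (Fin m ⊕ Fin m) F)
    (hg : g ∈ Matrix.symplecticGroup (Fin m) F) (x y : Fin m ⊕ Fin m → F) :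
    B (g *ᵥ x) (g *ᵥ y) = B x y := by
  rw [B_mulVec_eq, SymplecticGroup.mem_iff'.mp hg]
  rfl

theorem mem_of_B_mulVec (g : Matrix (Fin m ⊕ Fin m) (Fin m ⊕ Fin m) F)
    (h : ∀ x y, B (g *ᵥ x) (g *ᵥ y) = B x y) : g ∈ Matrix.symplecticGroup (Fin m) F := by
  rw [SymplecticGroup.mem_iff']
  ext i j
  have := h (Pi.single i 1) (Pi.single j 1)
  rw [B_mulVec_eq] at this
  unfold B at this
  simpa using this

theorem T_mem (w : Fin m ⊕ Fin m → F) (c : F) : T w c ∈ Matrix.symplecticGroup (Fin m) F := by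
  apply mem_of_B_mulVec
  intro x y
  rw [T_mulVec, T_mulVec]
  simp only [B_add_left, B_add_right, B_smul_left, B_smul_right, B_self, mul_zero, add_zero]
  rw [B_skew y w]
  ring

/-- the fixed space of a matrix -/
def fixS (g : Matrix (Fin m ⊕ Fin m) (Fin m ⊕ Fin m) F) : Submodule F (Fin m ⊕ Fin m → F) :=
  LinearMap.ker (Matrix.mulVecLin (g - 1))

theorem mem_fixS (g : Matrix (Fin m ⊕ Fin m) (Fin m ⊕ Fin m) F) (x : Fin m ⊕ Fin m → F) :
    x ∈ fixS g ↔ g *ᵥ x = x := by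
  unfold fixS
  rw [LinearMap.mem_ker, Matrix.mulVecLin_apply, Matrix.sub_mulVec, Matrix.one_mulVec, sub_eq_zero]

theorem fix_le_of_comm (g : Matrix (Fin m ⊕ Fin m) (Fin m ⊕ Fin m) F)
    (hg : g ∈ Matrix.symplecticGroup (Fin m) F) (y : Fin m ⊕ Fin m → F) (c : F) :
    fixS g ≤ fixS (T (g *ᵥ y - y) c * g) := by
  intro x hx
  rw [mem_fixS] at hx ⊢
  rw [← Matrix.mulVec_mulVec, hx, T_mulVec, B_sub_right]
  have : B x (g *ᵥ y) = B x y := by
    conv_lhs => rw [← hx]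
    exact B_mulVec g hg x y
  rw [this, sub_self, mul_zero, zero_smul, add_zero]

theorem case1 (g : Matrix (Fin m ⊕ Fin m) (Fin m ⊕ Fin m) F)
    (hg : g ∈ Matrix.symplecticGroup (Fin m) F) (v : Fin m ⊕ Fin m → F)
    (h : B (g *ᵥ v) v ≠ 0) :
    fixS g < fixS (T (g *ᵥ v - v) (B (g *ᵥ v) v)⁻¹ * g) := by
  apply lt_of_le_of_ne (fix_le_of_comm g hg v _)
  intro heq
  have hv : v ∈ fixS (T (g *ᵥ v - v) (B (g *ᵥ v) v)⁻¹ * g) := by
    rw [mem_fixS, ← Matrix.mulVec_mulVec, T_mulVec, B_sub_right, B_self, zero_sub, mul_neg,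
      inv_mul_cancel₀ h, neg_smul, one_smul]
    abel
  rw [← heq, mem_fixS] at hv
  rw [hv, B_self] at h
  exact h rfl

theorem case2 (g : Matrix (Fin m ⊕ Fin m) (Fin m ⊕ Fin m) F)
    (hg : g ∈ Matrix.symplecticGroup (Fin m) F) (h : ∀ x, B (g *ᵥ x) x = 0)
    (x0 : Fin m ⊕ Fin m → F) (hx0 : g *ᵥ x0 ≠ x0) :
    ∃ a, fixS g ≤ fixS (T a 1 * g) ∧ ∃ x, B ((T a 1 * g) *ᵥ x) x ≠ 0 := by
  -- polarisation
  have hpol : ∀ x y, B (g *ᵥ x) y = - B (g *ᵥ y) x := by
    intro x y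
    have h1 := h (x + y)
    rw [Matrix.mulVec_add, B_add_left, B_add_right, B_add_right, h x, h y, zero_add, add_zero] at h1
    exact eq_neg_of_add_eq_zero_left h1
  have hu : g *ᵥ x0 - x0 ≠ 0 := sub_ne_zero.mpr hx0
  obtain ⟨y, hy⟩ := B_nondeg _ hu
  refine ⟨g *ᵥ y - y, fix_le_of_comm g hg y 1, x0, ?_⟩
  rw [← Matrix.mulVec_mulVec, T_mulVec, B_add_left, h x0, zero_add, B_smul_left, one_mul]
  have e1 : B (g *ᵥ x0) (g *ᵥ y - y) = - B (g *ᵥ x0 - x0) y := by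
    rw [B_sub_right, B_mulVec g hg, B_sub_left]; ring
  have e2 : B (g *ᵥ y - y) x0 = - B (g *ᵥ x0 - x0) y := by
    rw [B_sub_left, hpol y x0, B_skew x0 y, B_sub_left]; ring
  rw [e1, e2]
  exact mul_ne_zero (neg_ne_zero.mpr hy) (neg_ne_zero.mpr hy)

/-- the transvection as a group element -/
def Tg (w : Fin m ⊕ Fin m → F) (c : F) : Matrix.symplecticGroup (Fin m) F := ⟨T w c, T_mem w c⟩

/-- the set of symplectic transvections -/
def D (m : ℕ) (F : Type*) [Field F] : Set (Matrix.symplecticGroup (Fin m) F) :=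
  {A | ∃ (w : Fin m ⊕ Fin m → F) (c : F),
    (A : Matrix (Fin m ⊕ Fin m) (Fin m ⊕ Fin m) F) = Cfsg.sympTransvection m w c}

theorem Tg_mem_closure (w : Fin m ⊕ Fin m → F) (c : F) : Tg w c ∈ Subgroup.closure (D m F) :=
  Subgroup.subset_closure ⟨w, c, rfl⟩

theorem gen_aux : ∀ (d : ℕ) (g : Matrix.symplecticGroup (Fin m) F),
    Module.finrank F (Fin m ⊕ Fin m → F) -
      Module.finrank F (fixS (g : Matrix (Fin m ⊕ Fin m) (Fin m ⊕ Fin m) F)) = d →
    g ∈ Subgroup.closure (D m F) := by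
  intro d
  induction d using Nat.strong_induction_on with
  | _ d ih =>
    intro g hd
    by_cases hone : g = 1
    · rw [hone]; exact Subgroup.one_mem _
    have hdecr : ∀ g' : Matrix.symplecticGroup (Fin m) F,
        fixS (g : Matrix (Fin m ⊕ Fin m) (Fin m ⊕ Fin m) F) <
          fixS (g' : Matrix (Fin m ⊕ Fin m) (Fin m ⊕ Fin m) F) →
        g' ∈ Subgroup.closure (D m F) := by
      intro g' hlt
      have h1 := Submodule.finrank_lt_finrank_of_lt hlt
      have h2 := Submodule.finrank_le (fixS (g' : Matrix (Fin m ⊕ Fin m) (Fin m ⊕ Fin m) F))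
      exact ih _ (by omega) g' rfl
    have step1 : ∀ g1 : Matrix.symplecticGroup (Fin m) F,
        fixS (g : Matrix (Fin m ⊕ Fin m) (Fin m ⊕ Fin m) F) ≤
          fixS (g1 : Matrix (Fin m ⊕ Fin m) (Fin m ⊕ Fin m) F) →
        (∃ v, B ((g1 : Matrix (Fin m ⊕ Fin m) (Fin m ⊕ Fin m) F) *ᵥ v) v ≠ 0) →
        g1 ∈ Subgroup.closure (D m F) := by
      rintro g1 hle ⟨v, hv⟩
      have hlt := case1 g1.1 g1.2 v hv
      have hmem : Tg (g1.1 *ᵥ v - v) (B (g1.1 *ᵥ v) v)⁻¹ * g1 ∈ Subgroup.closure (D m F) :=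
        hdecr (Tg (g1.1 *ᵥ v - v) (B (g1.1 *ᵥ v) v)⁻¹ * g1) (lt_of_le_of_lt hle hlt)
      have : g1 = (Tg (g1.1 *ᵥ v - v) (B (g1.1 *ᵥ v) v)⁻¹)⁻¹ *
          (Tg (g1.1 *ᵥ v - v) (B (g1.1 *ᵥ v) v)⁻¹ * g1) := by
        rw [inv_mul_cancel_left]
      rw [this]
      exact Subgroup.mul_mem _ (Subgroup.inv_mem _ (Tg_mem_closure _ _)) hmem
    by_cases h1 : ∃ v, B ((g : Matrix (Fin m ⊕ Fin m) (Fin m ⊕ Fin m) F) *ᵥ v) v ≠ 0
    · exact step1 g le_rfl h1
    · push Not at h1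
      have hmoved : ∃ x0, (g : Matrix (Fin m ⊕ Fin m) (Fin m ⊕ Fin m) F) *ᵥ x0 ≠ x0 := by
        by_contra hall
        push Not at hall
        apply hone
        apply Subtype.ext
        change (g : Matrix (Fin m ⊕ Fin m) (Fin m ⊕ Fin m) F) = 1
        rw [Matrix.ext_iff_mulVec]
        intro x
        rw [hall x, Matrix.one_mulVec]
      obtain ⟨x0, hx0⟩ := hmoved
      obtain ⟨a, hle, hex⟩ := case2 g.1 g.2 h1 x0 hx0
      have hmem : Tg a 1 * g ∈ Subgroup.closure (D m F) := step1 (Tg a 1 * g) hle hex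
      have : g = (Tg a 1)⁻¹ * (Tg a 1 * g) := by rw [inv_mul_cancel_left]
      rw [this]
      exact Subgroup.mul_mem _ (Subgroup.inv_mem _ (Tg_mem_closure _ _)) hmem

/-- Generation of the symplectic group by symplectic transvections: the subgroup of Sp_2m(F) generated by all matrices of maps x ↦ x + c f(x, w) w is the whole group. -/
theorem result {F : Type*} [Field F] (m : ℕ) : Subgroup.closure {A : Matrix.symplecticGroup (Fin m) F | ∃ (w : Fin m ⊕ Fin m → F) (c : F), (A : Matrix (Fin m ⊕ Fin m) (Fin m ⊕ Fin m) F) = Cfsg.sympTransvection m w c} = ⊤ := by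
  rw [eq_top_iff]
  intro g _
  exact gen_aux _ g rfl

end Cfsg.Agent.S0765
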