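import Cfsg.Statements.S0269
import Cfsg.Agent.S0765
import Cfsg.Agent.S0271

set_option autoImplicit false
open Cfsg

namespace Cfsg.Agent.S0269

open Matrix Cfsg.Agent.S0765

section
variable {F : Type*} [Field F] {m : ℕ}

theorem Tg_conj (g : Matrix.symplecticGroup (Fin m) F) (w : Fin m ⊕ Fin m → F) (c : F) :
    g * Tg w c * g⁻¹ = Tg ((g : Matrix (Fin m ⊕ Fin m) (Fin m ⊕ Fin m) F) *ᵥ w) c := by
  rw [mul_inv_eq_iff_eq_mul]
  apply Subtype.ext
  show (g : Matrix (Fin m ⊕ Fin m) (Fin m ⊕ Fin m) F) * T w c =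
    T ((g : Matrix (Fin m ⊕ Fin m) (Fin m ⊕ Fin m) F) *ᵥ w) c * g
  rw [Matrix.ext_iff_mulVec]
  intro x
  rw [← Matrix.mulVec_mulVec, ← Matrix.mulVec_mulVec, T_mulVec, T_mulVec, B_mulVec _ g.2,
    Matrix.mulVec_add, Matrix.mulVec_smul]

theorem Tg_add (w : Fin m ⊕ Fin m → F) (c c' : F) : Tg w (c + c') = Tg w c * Tg w c' := by
  apply Subtype.ext
  show T w (c + c') = T w c * T w c'
  rw [Matrix.ext_iff_mulVec]
  intro x
  rw [← Matrix.mulVec_mulVec, T_mulVec, T_mulVec, T_mulVec, B_add_left, B_smul_left, B_self]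
  module

theorem Tg_zero (w : Fin m ⊕ Fin m → F) : Tg w 0 = 1 := by
  apply Subtype.ext
  show T w 0 = 1
  rw [Matrix.ext_iff_mulVec]
  intro x
  rw [T_mulVec, Matrix.one_mulVec, zero_mul, zero_smul, add_zero]

theorem Tg_zero_vec (c : F) : Tg (0 : Fin m ⊕ Fin m → F) c = 1 := by
  apply Subtype.ext
  show T 0 c = 1
  rw [Matrix.ext_iff_mulVec]
  intro x
  rw [T_mulVec, Matrix.one_mulVec, smul_zero, add_zero]

theorem Tg_smul (a : F) (w : Fin m ⊕ Fin m → F) (c : F) : Tg (a • w) c = Tg w (a * a * c) := by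
  apply Subtype.ext
  show T (a • w) c = T w (a * a * c)
  rw [Matrix.ext_iff_mulVec]
  intro x
  rw [T_mulVec, T_mulVec, B_smul_right]
  module

/-- image of a transvection in the abelianization -/
noncomputable def t (w : Fin m ⊕ Fin m → F) (c : F) :
    Abelianization (Matrix.symplecticGroup (Fin m) F) :=
  Abelianization.of (Tg w c)

theorem t_indep (w w' : Fin m ⊕ Fin m → F) (hw : w ≠ 0) (hw' : w' ≠ 0) (c : F) :
    t w c = t w' c := by
  obtain ⟨g, hg⟩ := Cfsg.Agent.S0271.result m w w' hw hw'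
  unfold t
  rw [← hg, ← Tg_conj, map_mul, map_mul, map_inv, mul_comm, inv_mul_cancel_left]

theorem t_add (w : Fin m ⊕ Fin m → F) (c c' : F) : t w (c + c') = t w c * t w c' := by
  unfold t; rw [Tg_add, map_mul]

theorem t_zero (w : Fin m ⊕ Fin m → F) : t w 0 = 1 := by
  unfold t; rw [Tg_zero, map_one]

theorem t_neg (w : Fin m ⊕ Fin m → F) (c : F) : t w (-c) = (t w c)⁻¹ := by
  rw [eq_inv_iff_mul_eq_one, ← t_add, neg_add_cancel, t_zero]

/-- Case A: a scalar `a` with `a ≠ 0`, `a * a ≠ 1`. -/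
theorem caseA (a : F) (ha : a ≠ 0) (ha1 : a * a ≠ 1) (w : Fin m ⊕ Fin m → F) (hw : w ≠ 0)
    (c : F) : t w c = 1 := by
  have h1 : a * a - 1 ≠ 0 := sub_ne_zero.mpr ha1
  have haw : a • w ≠ 0 := smul_ne_zero ha hw
  have key : ∀ d : F, t w ((a * a - 1) * d) = 1 := by
    intro d
    have e : a * a * d = (a * a - 1) * d + d := by ring
    have h2 : t w (a * a * d) = t w d := by
      unfold t
      rw [← Tg_smul]
      exact t_indep (a • w) w haw hw d
    rw [e, t_add] at h2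
    exact mul_eq_right.mp h2
  have := key (c / (a * a - 1))
  rwa [mul_div_cancel₀ _ h1] at this

theorem identB (u1 u2 : Fin m ⊕ Fin m → F) (h12 : B u1 u2 = 0) (d : F) :
    Tg (u1 + u2) (2 * d) =
      Tg u1 (2 * d) * Tg u2 (2 * d) * Tg (u1 + u2) d * Tg (u1 - u2) (-d) := by
  have h21 : B u2 u1 = 0 := by rw [B_skew, h12, neg_zero]
  apply Subtype.ext
  show T (u1 + u2) (2 * d) = T u1 (2 * d) * T u2 (2 * d) * T (u1 + u2) d * T (u1 - u2) (-d)
  rw [Matrix.ext_iff_mulVec]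
  intro x
  simp only [← Matrix.mulVec_mulVec, T_mulVec, B_add_left, B_add_right, B_sub_right, B_sub_left,
    B_smul_left, B_self, h12, h21]
  module

/-- Case B: characteristic not 2, rank at least 2. -/
theorem caseB (h2 : (2 : F) ≠ 0) (u1 u2 : Fin m ⊕ Fin m → F) (h12 : B u1 u2 = 0)
    (hu1 : u1 ≠ 0) (hu2 : u2 ≠ 0) (hp : u1 + u2 ≠ 0) (hm : u1 - u2 ≠ 0) (c : F) :
    t u1 c = 1 := by
  have key : ∀ d : F, t u1 (2 * d) = 1 := by
    intro d
    have h := congrArg Abelianization.of (identB u1 u2 h12 d)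
    simp only [map_mul] at h
    change t (u1 + u2) (2 * d) = t u1 (2 * d) * t u2 (2 * d) * t (u1 + u2) d * t (u1 - u2) (-d) at h
    simp only [t_indep (u1 + u2) u1 hp hu1, t_indep u2 u1 hu2 hu1, t_indep (u1 - u2) u1 hm hu1,
      t_neg, mul_inv_cancel_right] at h
    exact (mul_eq_left.mp h.symm)
  have := key (c / 2)
  rwa [mul_div_cancel₀ _ h2] at this

theorem identC (h2 : (2 : F) = 0) (u1 u2 u3 : Fin m ⊕ Fin m → F) (h12 : B u1 u2 = 0)
    (h13 : B u1 u3 = 0) (h23 : B u2 u3 = 0) (c : F) :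
    Tg u1 c * Tg u2 c * Tg u3 c * Tg (u1 + u2) c * Tg (u1 + u3) c * Tg (u2 + u3) c *
      Tg (u1 + u2 + u3) c = 1 := by
  have h21 : B u2 u1 = 0 := by rw [B_skew, h12, neg_zero]
  have h31 : B u3 u1 = 0 := by rw [B_skew, h13, neg_zero]
  have h32 : B u3 u2 = 0 := by rw [B_skew, h23, neg_zero]
  apply Subtype.ext
  show T u1 c * T u2 c * T u3 c * T (u1 + u2) c * T (u1 + u3) c * T (u2 + u3) c *
      T (u1 + u2 + u3) c = 1
  rw [Matrix.ext_iff_mulVec]
  intro x
  have e : ∀ y : Fin m ⊕ Fin m → F, (2 : F) • y = 0 := by intro y; rw [h2, zero_smul]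
  have : (T u1 c * T u2 c * T u3 c * T (u1 + u2) c * T (u1 + u3) c * T (u2 + u3) c *
      T (u1 + u2 + u3) c) *ᵥ x = x + (2 : F) • (c • ((B x u1 + B x u2 + B x u3) • (u1 + u2 + u3) +
        B x u1 • u1 + B x u2 • u2 + B x u3 • u3)) := by
    simp only [← Matrix.mulVec_mulVec, T_mulVec, B_add_left, B_add_right, B_smul_left,
      B_self, h12, h21, h13, h31, h23, h32]
    module
  rw [this, e, add_zero, Matrix.one_mulVec]

/-- Case C: characteristic 2, rank at least 3. -/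
theorem caseC (h2 : (2 : F) = 0) (u1 u2 u3 : Fin m ⊕ Fin m → F) (h12 : B u1 u2 = 0)
    (h13 : B u1 u3 = 0) (h23 : B u2 u3 = 0)
    (hu1 : u1 ≠ 0) (hu2 : u2 ≠ 0) (hu3 : u3 ≠ 0) (hu12 : u1 + u2 ≠ 0) (hu13 : u1 + u3 ≠ 0)
    (hu23 : u2 + u3 ≠ 0) (hu123 : u1 + u2 + u3 ≠ 0) (c : F) :
    t u1 c = 1 := by
  have h := congrArg Abelianization.of (identC h2 u1 u2 u3 h12 h13 h23 c)
  simp only [map_mul, map_one] at h
  change t u1 c * t u2 c * t u3 c * t (u1 + u2) c * t (u1 + u3) c * t (u2 + u3) c *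
      t (u1 + u2 + u3) c = 1 at h
  simp only [t_indep u2 u1 hu2 hu1, t_indep u3 u1 hu3 hu1, t_indep (u1 + u2) u1 hu12 hu1,
    t_indep (u1 + u3) u1 hu13 hu1, t_indep (u2 + u3) u1 hu23 hu1,
    t_indep (u1 + u2 + u3) u1 hu123 hu1] at h
  have hsq : t u1 c * t u1 c = 1 := by
    rw [← t_add, ← two_mul, h2, zero_mul, t_zero]
  calc t u1 c = t u1 c * t u1 c * (t u1 c * t u1 c) * (t u1 c * t u1 c) * t u1 c := by
        rw [hsq]; simp
    _ = 1 := by rw [← h]; simp only [mul_assoc]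

/-- basis vectors -/
def e (i : Fin m ⊕ Fin m) : Fin m ⊕ Fin m → F := Pi.single i 1

theorem B_e_inl (i j : Fin m) : B (e (Sum.inl i) : Fin m ⊕ Fin m → F) (e (Sum.inl j)) = 0 := by
  rw [B_eq]
  apply Finset.sum_eq_zero
  intro k _
  simp [e]

theorem e_apply_self (i : Fin m ⊕ Fin m) : (e i : Fin m ⊕ Fin m → F) i = 1 := by
  simp [e]

theorem e_apply_ne (i j : Fin m ⊕ Fin m) (h : j ≠ i) : (e i : Fin m ⊕ Fin m → F) j = 0 := by
  simp [e, h]

theorem exists_scalar [Fintype F] (h4 : 4 ≤ Fintype.card F) : ∃ a : F, a ≠ 0 ∧ a * a ≠ 1 := by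
  classical
  have h1 : ({0, 1, -1} : Finset F).card < (Finset.univ : Finset F).card := by
    rw [Finset.card_univ]
    exact lt_of_le_of_lt Finset.card_le_three h4
  obtain ⟨a, -, ha⟩ := Finset.exists_mem_notMem_of_card_lt_card h1
  simp only [Finset.mem_insert, Finset.mem_singleton, not_or] at ha
  refine ⟨a, ha.1, fun h => ?_⟩
  rcases mul_self_eq_one_iff.mp h with h | h
  · exact ha.2.1 h
  · exact ha.2.2 h

theorem all_trivial [Fintype F]
    (h : 3 ≤ m ∨ (m = 2 ∧ 3 ≤ Fintype.card F) ∨ 4 ≤ Fintype.card F)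
    (w : Fin m ⊕ Fin m → F) (hw : w ≠ 0) (c : F) : t w c = 1 := by
  by_cases h4 : 4 ≤ Fintype.card F
  · obtain ⟨a, ha, ha1⟩ := exists_scalar h4
    exact caseA a ha ha1 w hw c
  by_cases h2 : (2 : F) = 0
  · -- characteristic 2
    have hchar : ringChar F = 2 := by
      rw [← neg_one_eq_one_iff, neg_eq_iff_add_eq_zero, one_add_one_eq_two, h2]
    have heven := FiniteField.even_card_of_char_two hchar
    have hm : 3 ≤ m := by
      rcases h with h | h | h
      · exact h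
      · omega
      · omega
    have ne0 : (Sum.inl ⟨0, by omega⟩ : Fin m ⊕ Fin m) ≠ Sum.inl ⟨1, by omega⟩ := by
      intro h; simp at h
    have ne1 : (Sum.inl ⟨0, by omega⟩ : Fin m ⊕ Fin m) ≠ Sum.inl ⟨2, by omega⟩ := by
      intro h; simp at h
    have ne2 : (Sum.inl ⟨1, by omega⟩ : Fin m ⊕ Fin m) ≠ Sum.inl ⟨2, by omega⟩ := by
      intro h; simp at h
    set u1 : Fin m ⊕ Fin m → F := e (Sum.inl ⟨0, by omega⟩) with hu1
    set u2 : Fin m ⊕ Fin m → F := e (Sum.inl ⟨1, by omega⟩) with hu2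
    set u3 : Fin m ⊕ Fin m → F := e (Sum.inl ⟨2, by omega⟩) with hu3
    have a1 : u1 (Sum.inl ⟨0, by omega⟩) = 1 := e_apply_self _
    have a2 : u2 (Sum.inl ⟨0, by omega⟩) = 0 := e_apply_ne _ _ ne0
    have a3 : u3 (Sum.inl ⟨0, by omega⟩) = 0 := e_apply_ne _ _ ne1
    have b2 : u2 (Sum.inl ⟨1, by omega⟩) = 1 := e_apply_self _
    have b3 : u3 (Sum.inl ⟨1, by omega⟩) = 0 := e_apply_ne _ _ ne2
    have c3 : u3 (Sum.inl ⟨2, by omega⟩) = 1 := e_apply_self _
    have n1 : u1 ≠ 0 := fun h => by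
      have := congrFun h (Sum.inl ⟨0, by omega⟩); simp [a1] at this
    have n2 : u2 ≠ 0 := fun h => by
      have := congrFun h (Sum.inl ⟨1, by omega⟩); simp [b2] at this
    have n3 : u3 ≠ 0 := fun h => by
      have := congrFun h (Sum.inl ⟨2, by omega⟩); simp [c3] at this
    have n12 : u1 + u2 ≠ 0 := fun h => by
      have := congrFun h (Sum.inl ⟨0, by omega⟩); simp [a1, a2] at this
    have n13 : u1 + u3 ≠ 0 := fun h => by
      have := congrFun h (Sum.inl ⟨0, by omega⟩); simp [a1, a3] at this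
    have n23 : u2 + u3 ≠ 0 := fun h => by
      have := congrFun h (Sum.inl ⟨1, by omega⟩); simp [b2, b3] at this
    have n123 : u1 + u2 + u3 ≠ 0 := fun h => by
      have := congrFun h (Sum.inl ⟨0, by omega⟩); simp [a1, a2, a3] at this
    rw [t_indep w u1 hw n1]
    exact caseC h2 u1 u2 u3 (B_e_inl _ _) (B_e_inl _ _) (B_e_inl _ _) n1 n2 n3 n12 n13 n23 n123 c
  · -- characteristic not 2
    have hm : 2 ≤ m := by
      rcases h with h | h | h
      · omega
      · omega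
      · omega
    have ne0 : (Sum.inl ⟨0, by omega⟩ : Fin m ⊕ Fin m) ≠ Sum.inl ⟨1, by omega⟩ := by
      intro h; simp at h
    set u1 : Fin m ⊕ Fin m → F := e (Sum.inl ⟨0, by omega⟩) with hu1
    set u2 : Fin m ⊕ Fin m → F := e (Sum.inl ⟨1, by omega⟩) with hu2
    have a1 : u1 (Sum.inl ⟨0, by omega⟩) = 1 := e_apply_self _
    have a2 : u2 (Sum.inl ⟨0, by omega⟩) = 0 := e_apply_ne _ _ ne0
    have b2 : u2 (Sum.inl ⟨1, by omega⟩) = 1 := e_apply_self _
    have n1 : u1 ≠ 0 := fun h => by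
      have := congrFun h (Sum.inl ⟨0, by omega⟩); simp [a1] at this
    have n2 : u2 ≠ 0 := fun h => by
      have := congrFun h (Sum.inl ⟨1, by omega⟩); simp [b2] at this
    have n12 : u1 + u2 ≠ 0 := fun h => by
      have := congrFun h (Sum.inl ⟨0, by omega⟩); simp [a1, a2] at this
    have n12' : u1 - u2 ≠ 0 := fun h => by
      have := congrFun h (Sum.inl ⟨0, by omega⟩); simp [a1, a2] at this
    rw [t_indep w u1 hw n1]
    exact caseB h2 u1 u2 (B_e_inl _ _) n1 n2 n12 n12' c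

end

/-- Sp_{2m}(q) is perfect except for Sp_2(2), Sp_2(3) and Sp_4(2): stated as m at least 3, or m = 2 and q at least 3, or q at least 4. -/
theorem result {F : Type*} [Field F] [Fintype F] (m : ℕ) (h : 3 ≤ m ∨ (m = 2 ∧ 3 ≤ Fintype.card F) ∨ 4 ≤ Fintype.card F) : commutator (Matrix.symplecticGroup (Fin m) F) = ⊤ := by
  rw [← Abelianization.ker_of, eq_top_iff, ← Cfsg.Agent.S0765.result m, Subgroup.closure_le]
  rintro A ⟨w, c, hA⟩
  have hA' : A = Tg w c := Subtype.ext hA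
  rw [hA', SetLike.mem_coe, MonoidHom.mem_ker]
  by_cases hw : w = 0
  · rw [hw, Tg_zero_vec, map_one]
  · exact all_trivial h w hw c

end Cfsg.Agent.S0269
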