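import Cfsg.Statements.S0270
import Cfsg.Agent.Lib.Helper8.SpPrim
import Cfsg.Agent.S0269

set_option autoImplicit false
open Cfsg

namespace Cfsg.Agent.S0270

open Matrix Cfsg.Agent.S0765 Cfsg.Agent.Lib.Helper8
open scoped LinearAlgebra.Projectivization Pointwise

section general

/-- Iwasawa criterion, for the quotient by the centre. -/
theorem simple_quot {G : Type*} [Group G] {X : Type*} [MulAction G X]
    [MulAction.IsQuasiPreprimitive G X] (IwaS : MulAction.IwasawaStructure G X)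
    (hperf : commutator G = ⊤) (hker : ∀ g : G, (∀ x : X, g • x = x) → g ∈ Subgroup.center G)
    (hnt : Nontrivial G) : IsSimpleGroup (G ⧸ Subgroup.center G) := by
  have hntq : Nontrivial (G ⧸ Subgroup.center G) := by
    by_contra hsub
    rw [not_nontrivial_iff_subsingleton] at hsub
    have hZ : Subgroup.center G = ⊤ := by
      rw [eq_top_iff]
      intro g _
      have : (QuotientGroup.mk g : G ⧸ Subgroup.center G) = 1 := Subsingleton.elim _ _
      exact (QuotientGroup.eq_one_iff g).mp this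
    rw [← commutator_eq_bot_iff_center_eq_top, hperf] at hZ
    have : Subsingleton G := by
      rw [← Subgroup.subsingleton_iff]
      exact subsingleton_of_bot_eq_top hZ.symm
    exact not_subsingleton G this
  refine { exists_pair_ne := hntq.exists_pair_ne, eq_bot_or_eq_top_of_normal := ?_ }
  intro H hH
  set N : Subgroup G := H.comap (QuotientGroup.mk' (Subgroup.center G)) with hN
  have : N.Normal := hH.comap _
  by_cases hfix : MulAction.fixedPoints N X = Set.univ
  · left
    rw [eq_bot_iff]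
    intro h hh
    obtain ⟨g, rfl⟩ := QuotientGroup.mk_surjective h
    have hgN : g ∈ N := hh
    rw [Subgroup.mem_bot, QuotientGroup.eq_one_iff]
    apply hker
    intro x
    have hx : x ∈ MulAction.fixedPoints N X := by rw [hfix]; exact Set.mem_univ x
    exact hx ⟨g, hgN⟩
  · right
    have hle := IwaS.commutator_le N hfix
    rw [hperf, top_le_iff] at hle
    rw [eq_top_iff]
    intro h _
    obtain ⟨g, rfl⟩ := QuotientGroup.mk_surjective h
    have hgN : g ∈ N := by rw [hle]; exact Subgroup.mem_top g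
    exact hgN

end general

section
variable {F : Type*} [Field F] {m : ℕ}

/-- the group of transvections with a given direction -/
def tvSub (w : Fin m ⊕ Fin m → F) : Subgroup (Matrix.symplecticGroup (Fin m) F) where
  carrier := {g | ∃ c : F, g = Tg w c}
  one_mem' := ⟨0, (Cfsg.Agent.S0269.Tg_zero w).symm⟩
  mul_mem' := by
    rintro _ _ ⟨c, rfl⟩ ⟨d, rfl⟩
    exact ⟨c + d, (Cfsg.Agent.S0269.Tg_add w c d).symm⟩
  inv_mem' := by
    rintro _ ⟨c, rfl⟩
    refine ⟨-c, ?_⟩
    rw [inv_eq_iff_mul_eq_one, ← Cfsg.Agent.S0269.Tg_add, add_neg_cancel,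
      Cfsg.Agent.S0269.Tg_zero]

theorem mem_tvSub (w : Fin m ⊕ Fin m → F) (g : Matrix.symplecticGroup (Fin m) F) :
    g ∈ tvSub w ↔ ∃ c : F, g = Tg w c := Iff.rfl

theorem tvSub_smul (a : F) (ha : a ≠ 0) (w : Fin m ⊕ Fin m → F) : tvSub (a • w) = tvSub w := by
  ext g
  rw [mem_tvSub, mem_tvSub]
  constructor
  · rintro ⟨c, rfl⟩
    exact ⟨a * a * c, Cfsg.Agent.S0269.Tg_smul a w c⟩
  · rintro ⟨c, rfl⟩
    refine ⟨c / (a * a), ?_⟩
    rw [Cfsg.Agent.S0269.Tg_smul, mul_div_cancel₀ _ (mul_ne_zero ha ha)]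

theorem tvSub_conj (g : Matrix.symplecticGroup (Fin m) F) (w : Fin m ⊕ Fin m → F) :
    tvSub ((g : Matrix (Fin m ⊕ Fin m) (Fin m ⊕ Fin m) F) *ᵥ w) = MulAut.conj g • tvSub w := by
  ext h
  rw [Subgroup.mem_smul_pointwise_iff_exists, mem_tvSub]
  constructor
  · rintro ⟨c, rfl⟩
    exact ⟨Tg w c, ⟨c, rfl⟩, by rw [MulAut.smul_def, MulAut.conj_apply, Cfsg.Agent.S0269.Tg_conj]⟩
  · rintro ⟨s, ⟨c, rfl⟩, rfl⟩
    exact ⟨c, by rw [MulAut.smul_def, MulAut.conj_apply, Cfsg.Agent.S0269.Tg_conj]⟩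

/-- the transvection group attached to a point -/
noncomputable def tvPt (P : ℙ F (Fin m ⊕ Fin m → F)) :
    Subgroup (Matrix.symplecticGroup (Fin m) F) := tvSub P.rep

theorem tvPt_mk (w : Fin m ⊕ Fin m → F) (hw : w ≠ 0) :
    tvPt (Projectivization.mk F w hw) = tvSub w := by
  obtain ⟨a, ha⟩ := Projectivization.exists_smul_eq_mk_rep F w hw
  unfold tvPt
  rw [← ha, Units.smul_def, tvSub_smul _ a.ne_zero]

/-- the Iwasawa structure of the symplectic group -/
noncomputable def iwa (m : ℕ) (F : Type*) [Field F] :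
    MulAction.IwasawaStructure (Matrix.symplecticGroup (Fin m) F)
      (ℙ F (Fin m ⊕ Fin m → F)) where
  T := tvPt
  is_comm := by
    intro P
    refine ⟨⟨?_⟩⟩
    rintro ⟨_, c, rfl⟩ ⟨_, d, rfl⟩
    apply Subtype.ext
    show Tg _ c * Tg _ d = Tg _ d * Tg _ c
    rw [← Cfsg.Agent.S0269.Tg_add, ← Cfsg.Agent.S0269.Tg_add, add_comm]
  is_conj := by
    intro g P
    induction P using Projectivization.ind with | _ w hw =>
    rw [Projectivization.smul_mk, tvPt_mk, tvPt_mk, sp_smul_eq, tvSub_conj]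
  is_generator := by
    rw [eq_top_iff, ← Cfsg.Agent.S0765.result m, Subgroup.closure_le]
    rintro A ⟨w, c, hA⟩
    have hA' : A = Tg w c := Subtype.ext hA
    rw [hA', SetLike.mem_coe]
    by_cases hw : w = 0
    · rw [hw, Cfsg.Agent.S0269.Tg_zero_vec]
      exact Subgroup.one_mem _
    · have h1 : Tg w c ∈ tvPt (Projectivization.mk F w hw) := by
        rw [tvPt_mk]; exact ⟨c, rfl⟩
      exact (le_iSup tvPt (Projectivization.mk F w hw)) h1

theorem central_of_trivial (g : Matrix.symplecticGroup (Fin m) F)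
    (hg : ∀ P : ℙ F (Fin m ⊕ Fin m → F), g • P = P) :
    g ∈ Subgroup.center (Matrix.symplecticGroup (Fin m) F) := by
  set f := Matrix.toLin' (g : Matrix (Fin m ⊕ Fin m) (Fin m ⊕ Fin m) F) with hf
  obtain ⟨a, ha⟩ := f.exists_eq_smul_id_of_forall_notLinearIndependent (fun v => by
    by_cases hv : v = 0
    · simp [hv, linearIndependent_fin2]
    · have h1 := hg (Projectivization.mk F v hv)
      rw [Projectivization.smul_mk, Projectivization.mk_eq_mk_iff'] at h1
      obtain ⟨l, hl⟩ := h1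
      rw [LinearIndependent.pair_iff' hv]
      push Not
      exact ⟨l, by rw [hf, Matrix.toLin'_apply, hl]; rfl⟩)
  have hsc : (g : Matrix (Fin m ⊕ Fin m) (Fin m ⊕ Fin m) F) = Matrix.scalar _ a := by
    calc (g : Matrix (Fin m ⊕ Fin m) (Fin m ⊕ Fin m) F) = LinearMap.toMatrix' f := by
          rw [hf, LinearMap.toMatrix'_toLin']
      _ = (algebraMap F (Module.End F _) a).toMatrix' := congrArg LinearMap.toMatrix' ha
      _ = Matrix.scalar _ a := LinearMap.toMatrix'_algebraMap a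
  rw [Subgroup.mem_center_iff]
  intro h
  apply Subtype.ext
  show (h : Matrix (Fin m ⊕ Fin m) (Fin m ⊕ Fin m) F) * g = g * h
  rw [hsc]
  exact ((Matrix.scalar_commute a (fun r => Commute.all a r) h.1).eq).symm

theorem sp_nontrivial (hm : 1 ≤ m) : Nontrivial (Matrix.symplecticGroup (Fin m) F) := by
  have hne : (Pi.single (Sum.inl ⟨0, hm⟩) 1 : Fin m ⊕ Fin m → F) ≠ 0 := by
    intro h
    have := congrFun h (Sum.inl ⟨0, hm⟩)
    simp at this
  obtain ⟨y, hy⟩ := B_nondeg _ hne
  refine ⟨⟨Tg (Pi.single (Sum.inl ⟨0, hm⟩) 1) 1, 1, ?_⟩⟩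
  intro h
  have h1 := congrArg (fun A : Matrix.symplecticGroup (Fin m) F =>
    (A : Matrix (Fin m ⊕ Fin m) (Fin m ⊕ Fin m) F) *ᵥ y) h
  change T (Pi.single (Sum.inl ⟨0, hm⟩) 1) 1 *ᵥ y = (1 : Matrix _ _ F) *ᵥ y at h1
  rw [T_mulVec, Matrix.one_mulVec, one_mul, add_eq_left] at h1
  have hy' : B y (Pi.single (Sum.inl ⟨0, hm⟩) 1) ≠ 0 := by
    rw [B_skew]; exact neg_ne_zero.mpr hy
  rcases smul_eq_zero.mp h1 with h2 | h2
  · exact hy' h2
  · exact hne h2

end

/-- PSp_{2m}(q) is simple for m at least 2 and (m, q) other than (2, 2). -/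
theorem result {F : Type*} [Field F] [Fintype F] (m : ℕ) (hm : 2 ≤ m) (h : m = 2 → 3 ≤ Fintype.card F) : IsSimpleGroup (Cfsg.PSp m F) := by
  have hperf : commutator (Matrix.symplecticGroup (Fin m) F) = ⊤ := by
    apply Cfsg.Agent.S0269.result m
    by_cases h2 : m = 2
    · exact Or.inr (Or.inl ⟨h2, h h2⟩)
    · exact Or.inl (by omega)
  have := sp_isPreprimitive (F := F) (m := m)
  exact simple_quot (iwa m F) hperf central_of_trivial (sp_nontrivial (by omega))

end Cfsg.Agent.S0270
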