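import Cfsg.Statements.S5079
import Cfsg.Agent.Lib.Helper87.FusionSat
-- import your own Cfsg.Agent.* helpers here

set_option autoImplicit false
open Cfsg

namespace Cfsg.Agent.S5079

open Cfsg.Agent.Lib.Helper87 in
/-- In any fusion system over a finite p-group S: if P is fully automized and receptive and Q is conjugate to P in the system, then there is a map of the system with source N_S(Q) and values in N_S(P) carrying Q onto P. -/
theorem result {Ω : Type*} [Group Ω] {S : Subgroup Ω} [Finite S] (p : ℕ) [Fact p.Prime] (hS : IsPGroup p S) (F : Cfsg.FusionSystem S) (P Q : Subgroup Ω) (h₁ : F.IsFullyAutomized p P) (h₂ : F.IsReceptive P) (hQ : F.IsConj Q P) : ∃ φ ∈ F.Hom (Cfsg.FusionSystem.normalizerIn S Q), (∀ x, φ x ∈ Cfsg.FusionSystem.normalizerIn S P) ∧ (Q.subgroupOf (Cfsg.FusionSystem.normalizerIn S Q)).map φ = P := by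
  obtain ⟨ψ, e, hψ, he, hψe⟩ := exists_extension F hS h₁ h₂ hQ
  have hQS : Q ≤ S := he.le_left
  have hQN : Q ≤ FusionSystem.normalizerIn S Q := le_normalizerIn hQS
  -- conjugation by ψ x maps P into P
  have hconj : ∀ (x : FusionSystem.normalizerIn S Q) (y : Ω), y ∈ P → ψ x * y * (ψ x)⁻¹ ∈ P := by
    intro x y hy
    set q : Q := e.symm ⟨y, hy⟩ with hq
    have hyq : y = ψ ⟨(q : Ω), hQN q.2⟩ := by
      rw [hψe (q : Ω) q.2 (hQN q.2)]
      simp [hq]
    have hxq : (x : Ω) * (q : Ω) * (x : Ω)⁻¹ ∈ Q :=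
      (Subgroup.mem_normalizer_iff.mp x.2.2 (q : Ω)).mp q.2
    have h1 : ψ x * y * (ψ x)⁻¹ = ψ ⟨(x : Ω) * (q : Ω) * (x : Ω)⁻¹, hQN hxq⟩ := by
      rw [hyq, ← map_inv, ← map_mul, ← map_mul]
      rfl
    rw [h1, hψe _ hxq (hQN hxq)]
    exact (e ⟨_, hxq⟩).2
  refine ⟨ψ, hψ, ?_, ?_⟩
  · intro x
    refine ⟨hom_map_mem F hψ x, ?_⟩
    show ψ x ∈ Subgroup.normalizer (P : Set Ω)
    rw [Subgroup.mem_normalizer_iff]
    intro y
    constructor
    · exact hconj x y
    · intro hy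
      have := hconj x⁻¹ _ hy
      rw [map_inv, inv_inv] at this
      have h2 : (ψ x)⁻¹ * (ψ x * y * (ψ x)⁻¹) * ψ x = y := by group
      rwa [h2] at this
  · ext y
    constructor
    · rintro ⟨x, hx, rfl⟩
      have hxQ : (x : Ω) ∈ Q := hx
      have : ψ x = e ⟨(x : Ω), hxQ⟩ := hψe (x : Ω) hxQ x.2
      rw [this]
      exact (e ⟨_, hxQ⟩).2
    · intro hy
      set q : Q := e.symm ⟨y, hy⟩ with hq
      refine ⟨⟨(q : Ω), hQN q.2⟩, q.2, ?_⟩
      rw [hψe (q : Ω) q.2 (hQN q.2)]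
      simp [hq]

end Cfsg.Agent.S5079
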