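import Cfsg.Statements.S5080
-- import your own Cfsg.Agent.* helpers here

set_option autoImplicit false
open Cfsg

namespace Cfsg.Agent.S5080

/-- A nontrivial `p`-group has `p`-rank at least one. -/
theorem not_pRankLE_zero {N : Type*} [Group N] {p : ℕ} [hp : Fact p.Prime] (hN : IsPGroup p N)
    (hne : ∃ x : N, x ≠ 1) : ¬ PRankLE p 0 N := by
  intro h
  obtain ⟨x, hx⟩ := hne
  obtain ⟨k, hk⟩ := (IsPGroup.iff_orderOf.mp hN) x
  have hk0 : k ≠ 0 := by
    rintro rfl
    rw [pow_zero, orderOf_eq_one_iff] at hk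
    exact hx hk
  obtain ⟨j, rfl⟩ := Nat.exists_eq_succ_of_ne_zero hk0
  have hy : orderOf (x ^ p ^ j) = p := by
    rw [orderOf_pow_of_dvd (pow_ne_zero _ hp.out.ne_zero) (by rw [hk]; exact pow_dvd_pow p (Nat.le_succ j)), hk,
      pow_succ, Nat.mul_div_cancel_left _ (pow_pos hp.out.pos j)]
  have hyp : (x ^ p ^ j) ^ p = 1 := by
    have := pow_orderOf_eq_one (x ^ p ^ j)
    rwa [hy] at this
  have hcard := h (Subgroup.zpowers (x ^ p ^ j)) inferInstance (by
    intro a ha
    obtain ⟨i, rfl⟩ := Subgroup.mem_zpowers_iff.mp ha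
    rw [← zpow_natCast, ← zpow_mul, mul_comm, zpow_mul, zpow_natCast, hyp, one_zpow])
  rw [Nat.card_zpowers, hy, pow_zero] at hcard
  exact absurd hcard (not_le.mpr hp.out.one_lt)

/-- A group with a strongly `p`-embedded subgroup has no nontrivial normal `p`-subgroup. -/
theorem normal_pgroup_eq_bot {X : Type*} [Group X] {p : ℕ} [Fact p.Prime] {Y : Subgroup X}
    (hY : IsStronglyPEmbedded p Y) (N : Subgroup X) [hNn : N.Normal] (hN : IsPGroup p N) : N = ⊥ := by
  by_contra hne
  obtain ⟨_, hYtop, P', hP'⟩ := hY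
  have hNP : N ≤ (P' : Subgroup X) := by
    have h : IsPGroup p (N ⊔ (P' : Subgroup X) : Subgroup X) := IsPGroup.to_sup_of_normal_left hN P'.isPGroup'
    have h2 := P'.is_maximal' h le_sup_right
    calc N ≤ N ⊔ (P' : Subgroup X) := le_sup_left
      _ = P' := h2
  have hrank : ¬ PRankLE p (1 - 1) N := by
    apply not_pRankLE_zero hN
    by_contra hall
    push Not at hall
    apply hne
    rw [Subgroup.eq_bot_iff_forall]
    intro x hx
    have := hall ⟨x, hx⟩
    exact congrArg Subtype.val this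
  apply hYtop
  rw [eq_top_iff]
  refine le_trans ?_ hP'
  have hnorm : Subgroup.normalizer (N : Set X) = ⊤ := Subgroup.normalizer_eq_top_iff.mpr hNn
  rw [← hnorm]
  unfold kGeneratedCore
  exact le_iSup (fun Q : {Q : Subgroup X // Q ≤ (P' : Subgroup X) ∧ ¬ PRankLE p (1 - 1) Q} =>
    Subgroup.normalizer ((Q : Subgroup X) : Set X)) ⟨N, hNP, hrank⟩

/-- In a saturated fusion system over a finite p-group, every essential subgroup is radical (it is centric and fully normalized by definition, so it is centric-radical and fully normalized). -/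
theorem result {Ω : Type*} [Group Ω] {S : Subgroup Ω} [Finite S] (p : ℕ) [Fact p.Prime] (hS : IsPGroup p S) (F : Cfsg.FusionSystem S) (hF : F.IsSaturated p) (P : Subgroup Ω) (hP : F.IsEssential p P) : F.IsRadical p P := by
  obtain ⟨hcen, -, hnorm, E, hE⟩ := hP
  have hPS : P ≤ S := hcen.1
  refine ⟨hPS, ?_⟩
  -- Inn P ≤ Aut_F(P)
  have hInn : Inn P ≤ F.autGroup P := by
    rintro _ ⟨g, rfl⟩
    apply Subgroup.subset_closure
    show P.subtype.comp (MulAut.conj g).toMonoidHom ∈ F.Hom P
    have h1 : conjHom P (g : Ω) ∈ F.Hom P := F.conj_mem hPS (hPS g.2)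
    have h2 : P.subtype.comp (MulAut.conj g).toMonoidHom = conjHom P (g : Ω) := by
      ext x
      simp [conjHom, MulAut.conj_apply]
    rw [h2]; exact h1
  -- P is a p-group, hence so is Inn P
  have hPp : IsPGroup p P := hS.to_le hPS
  have hInnp : IsPGroup p (Inn P) :=
    hPp.of_surjective (MulAut.conj : P →* MulAut P).rangeRestrict
      (MulAut.conj : P →* MulAut P).rangeRestrict_surjective
  have hIp : IsPGroup p ((Inn P).subgroupOf (F.autGroup P)) :=
    hInnp.comap_subtype
  have hcore : pCore p (F.autGroup P) = (Inn P).subgroupOf (F.autGroup P) := by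
    apply le_antisymm
    · apply sSup_le
      rintro N ⟨hNn, hNp⟩
      have hmapN : (N.map (QuotientGroup.mk' ((Inn P).subgroupOf (F.autGroup P)))).Normal :=
        Subgroup.Normal.map hNn _ (QuotientGroup.mk'_surjective _)
      have hbot := normal_pgroup_eq_bot hE (N.map (QuotientGroup.mk' ((Inn P).subgroupOf (F.autGroup P))))
        (hNp.map _)
      rw [Subgroup.map_eq_bot_iff, QuotientGroup.ker_mk'] at hbot
      exact hbot
    · exact le_sSup ⟨hnorm, hIp⟩
  rw [hcore]
  exact Subgroup.map_subgroupOf_eq_of_le hInn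

end Cfsg.Agent.S5080
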