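import Cfsg.Statements.S5328
import Cfsg.Agent.Lib.Helper85.FusionBasic
import Cfsg.Agent.Lib.Helper85.Marks
import Cfsg.Agent.Lib.Helper85.MarksBuild

set_option autoImplicit false
universe u
open Cfsg

namespace Cfsg.Agent.S5328

open Cfsg.FusionSystem MulAction

section

variable {Ω : Type u} [Group Ω] {S : Subgroup Ω}

/-- `K ≤ S × S` is the graph `{(φ x, x)}` of a map of the system. -/
def IsGraph (F : Cfsg.FusionSystem S) (K : Subgroup (S × S)) : Prop :=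
  ∃ (P : Subgroup Ω) (φ : P →* Ω), φ ∈ F.Hom P ∧
    ∀ z : S × S, z ∈ K ↔ ∃ x : P, (z.1 : Ω) = φ x ∧ (z.2 : Ω) = x

/-- the diagonal is a graph -/
theorem isGraph_diag (F : Cfsg.FusionSystem S) :
    IsGraph F ((MonoidHom.id S).prod (MonoidHom.id S)).range := by
  refine ⟨S, S.subtype, Lib.Helper85.id_mem F le_rfl, fun z => ?_⟩
  constructor
  · rintro ⟨s, rfl⟩
    exact ⟨s, rfl, rfl⟩
  · rintro ⟨x, h1, h2⟩
    refine ⟨x, ?_⟩
    ext
    · exact h1.symm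
    · exact h2.symm

/-- subgroups of graphs are graphs -/
theorem isGraph_of_le (F : Cfsg.FusionSystem S) {K K' : Subgroup (S × S)} (hK : IsGraph F K)
    (hle : K' ≤ K) : IsGraph F K' := by
  obtain ⟨P, φ, hφ, hK⟩ := hK
  have hQP : (K'.map (MonoidHom.snd S S)).map S.subtype ≤ P := by
    rintro _ ⟨_, ⟨w, hw, rfl⟩, rfl⟩
    obtain ⟨x, -, h2⟩ := (hK w).1 (hle hw)
    change (w.2 : Ω) ∈ P
    rw [h2]; exact x.2
  refine ⟨(K'.map (MonoidHom.snd S S)).map S.subtype, φ.comp (Subgroup.inclusion hQP),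
    Lib.Helper85.restrict_mem F hφ hQP, fun z => ?_⟩
  constructor
  · intro hz
    obtain ⟨x, h1, h2⟩ := (hK z).1 (hle hz)
    refine ⟨⟨(z.2 : Ω), ⟨z.2, ⟨z, hz, rfl⟩, rfl⟩⟩, ?_, rfl⟩
    rw [h1]
    change φ x = φ _
    congr 1
    exact Subtype.ext h2.symm
  · rintro ⟨⟨_, _, ⟨w, hw, rfl⟩, rfl⟩, h1, h2⟩
    obtain ⟨x, h1', h2'⟩ := (hK w).1 (hle hw)
    have : z = w := by
      ext
      · rw [h1, h1']
        change φ _ = φ x
        congr 1
        exact Subtype.ext h2'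
      · exact h2
    rw [this]; exact hw

/-- post-composing the first coordinate of a graph with a map of the system gives a graph -/
theorem isGraph_of_comp (F : Cfsg.FusionSystem S) {K₁ K₂ : Subgroup (S × S)} (hK : IsGraph F K₁)
    {R : Subgroup Ω} {χ : R →* Ω} (hχ : χ ∈ F.Hom R) (hR : ∀ z ∈ K₁, (z.1 : Ω) ∈ R)
    (h₂ : ∀ w : S × S, w ∈ K₂ ↔ ∃ z, ∃ hz : z ∈ K₁, (w.1 : Ω) = χ ⟨z.1, hR z hz⟩ ∧ w.2 = z.2) :
    IsGraph F K₂ := by
  obtain ⟨Q, ψ, hψ, hK⟩ := hK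
  have hQS : Q ≤ S := (F.le_of_mem hψ).1
  have hψS : ∀ x : Q, ψ x ∈ S := (F.le_of_mem hψ).2
  have hψR : ∀ x : Q, ψ x ∈ R := by
    intro x
    have hz : ((⟨ψ x, hψS x⟩, ⟨x, hQS x.2⟩) : S × S) ∈ K₁ := (hK _).2 ⟨x, rfl, rfl⟩
    exact hR _ hz
  refine ⟨Q, χ.comp (ψ.codRestrict R hψR), F.comp_mem hψ hχ hψR, fun w => ?_⟩
  rw [h₂]
  constructor
  · rintro ⟨z, hz, h1, h2⟩
    obtain ⟨x, hx1, hx2⟩ := (hK z).1 hz
    refine ⟨x, ?_, by rw [h2]; exact hx2⟩
    rw [h1]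
    change χ _ = χ _
    congr 1
    exact Subtype.ext hx1
  · rintro ⟨x, h1, h2⟩
    have hz : ((⟨ψ x, hψS x⟩, ⟨x, hQS x.2⟩) : S × S) ∈ K₁ := (hK _).2 ⟨x, rfl, rfl⟩
    exact ⟨_, hz, h1, Subtype.ext h2⟩

/-- conjugates of graphs are graphs -/
theorem isGraph_map_conj (F : Cfsg.FusionSystem S) {K : Subgroup (S × S)} (hK : IsGraph F K)
    (h : S × S) : IsGraph F (K.map (MulAut.conj h).toMonoidHom) := by
  obtain ⟨P, φ, hφ, hK⟩ := hK
  obtain ⟨s, t⟩ := h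
  have hPS : P ≤ S := (F.le_of_mem hφ).1
  have hφS : ∀ x : P, φ x ∈ S := (F.le_of_mem hφ).2
  set Q : Subgroup Ω := P.map (MulAut.conj (t : Ω)).toMonoidHom with hQ
  have hQS : Q ≤ S := by
    rintro _ ⟨x, hx, rfl⟩
    exact S.mul_mem (S.mul_mem t.2 (hPS hx)) (S.inv_mem t.2)
  have hβ : conjHom Q ((t : Ω)⁻¹) ∈ F.Hom Q := F.conj_mem hQS (S.inv_mem t.2)
  have hβP : ∀ y : Q, conjHom Q ((t : Ω)⁻¹) y ∈ P := by
    rintro ⟨_, x, hx, rfl⟩
    change (t : Ω)⁻¹ * ((t : Ω) * x * (t : Ω)⁻¹) * ((t : Ω)⁻¹)⁻¹ ∈ P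
    have : (t : Ω)⁻¹ * ((t : Ω) * x * (t : Ω)⁻¹) * ((t : Ω)⁻¹)⁻¹ = x := by group
    rw [this]; exact hx
  have h1 := F.comp_mem hβ hφ hβP
  have h1S : ∀ y : Q, (φ.comp ((conjHom Q ((t : Ω)⁻¹)).codRestrict P hβP)) y ∈ S :=
    (F.le_of_mem h1).2
  have h2 := F.comp_mem h1 (F.conj_mem (P := S) le_rfl s.2) h1S
  refine ⟨Q, _, h2, fun w => ?_⟩
  constructor
  · rintro ⟨z, hz, rfl⟩
    obtain ⟨x, hx1, hx2⟩ := (hK z).1 hz
    have hy : (t : Ω) * x * (t : Ω)⁻¹ ∈ Q := ⟨x, x.2, rfl⟩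
    refine ⟨⟨(t : Ω) * x * (t : Ω)⁻¹, hy⟩, ?_, ?_⟩
    · change (s : Ω) * (z.1 : Ω) * (s : Ω)⁻¹ = (s : Ω) * φ _ * (s : Ω)⁻¹
      rw [hx1]
      congr 3
      apply Subtype.ext
      change (x : Ω) = (t : Ω)⁻¹ * ((t : Ω) * x * (t : Ω)⁻¹) * ((t : Ω)⁻¹)⁻¹
      group
    · change (t : Ω) * (z.2 : Ω) * (t : Ω)⁻¹ = _
      rw [hx2]
  · rintro ⟨⟨_, x, hx, rfl⟩, h1', h2'⟩
    have hz : ((⟨φ ⟨x, hx⟩, hφS _⟩, ⟨x, hPS hx⟩) : S × S) ∈ K := (hK _).2 ⟨⟨x, hx⟩, rfl, rfl⟩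
    refine ⟨_, hz, ?_⟩
    ext
    · rw [h1']
      change (s : Ω) * φ ⟨x, hx⟩ * (s : Ω)⁻¹ = (s : Ω) * φ _ * (s : Ω)⁻¹
      congr 3
      apply Subtype.ext
      change (x : Ω) = (t : Ω)⁻¹ * ((t : Ω) * x * (t : Ω)⁻¹) * ((t : Ω)⁻¹)⁻¹
      group
    · rw [h2']
      rfl

end

section Group

variable (T : Type*) (X : Type*) [Group T] [MulAction (T × T) X]

/-- permutations of `X` commuting with the action of the second factor -/
def biG : Subgroup (Equiv.Perm X) where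
  carrier := {g | ∀ (s : T) (x : X), g (((1 : T), s) • x) = ((1 : T), s) • g x}
  mul_mem' := by
    intro a b ha hb s x
    rw [Equiv.Perm.mul_apply, Equiv.Perm.mul_apply, hb s x, ha s]
  one_mem' := by
    intro s x
    rfl
  inv_mem' := by
    intro a ha s x
    apply a.injective
    rw [ha s, Equiv.Perm.inv_def, Equiv.apply_symm_apply, Equiv.apply_symm_apply]

/-- the action of the first factor -/
def biι : T →* biG T X :=
  MonoidHom.codRestrict ((MulAction.toPermHom (T × T) X).comp (MonoidHom.inl T T)) (biG T X) (by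
    intro t s x
    change ((t, (1 : T)) : T × T) • ((1 : T), s) • x = ((1 : T), s) • ((t, (1 : T)) : T × T) • x
    rw [smul_smul, smul_smul, Prod.mk_mul_mk, Prod.mk_mul_mk, one_mul, mul_one, one_mul, mul_one])

theorem biι_apply (t : T) (x : X) : ((biι T X t : biG T X) : Equiv.Perm X) x = ((t, (1 : T)) : T × T) • x :=
  rfl

end Group

section Main

variable {Ω : Type u} [Group Ω] {S : Subgroup Ω}

theorem mem_of_conj (F : Cfsg.FusionSystem S) {X : Type*} [MulAction (S × S) X]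
    (hstab : ∀ x : X, IsGraph F (stabilizer (S × S) x)) (x₀ : X)
    (hx₀ : ∀ s : S, ((s, s) : S × S) • x₀ = x₀)
    {P : Subgroup Ω} (hP : P ≤ S) (φ : P →* Ω) (hφ : ∀ x : P, φ x ∈ S) (g : biG S X)
    (hg : ∀ x : P, biι S X ⟨φ x, hφ x⟩ = g * biι S X ⟨x, hP x.2⟩ * g⁻¹) : φ ∈ F.Hom P := by
  obtain ⟨Q, ψ, hψ, hK⟩ := hstab ((g : Equiv.Perm X) x₀)
  have hmem : ∀ u : P, ((⟨φ u, hφ u⟩, ⟨u, hP u.2⟩) : S × S) ∈
      stabilizer (S × S) ((g : Equiv.Perm X) x₀) := by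
    intro u
    rw [mem_stabilizer_iff]
    have e1 : ((⟨φ u, hφ u⟩, ⟨u, hP u.2⟩) : S × S) =
        ((⟨φ u, hφ u⟩, (1 : S)) : S × S) * (((1 : S), ⟨u, hP u.2⟩) : S × S) := by
      rw [Prod.mk_mul_mk, mul_one, one_mul]
    rw [e1, mul_smul, ← g.2 ⟨u, hP u.2⟩ x₀, ← biι_apply, hg u]
    change (g : Equiv.Perm X) (((biι S X ⟨u, hP u.2⟩ : biG S X) : Equiv.Perm X)
      ((g : Equiv.Perm X)⁻¹ ((g : Equiv.Perm X) _))) = _
    rw [Equiv.Perm.inv_def, Equiv.symm_apply_apply, biι_apply, smul_smul, Prod.mk_mul_mk, mul_one,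
      one_mul, hx₀]
  have hPQ : P ≤ Q := by
    intro u hu
    obtain ⟨x, -, h2⟩ := (hK _).1 (hmem ⟨u, hu⟩)
    change u = (x : Ω) at h2
    rw [h2]; exact x.2
  refine Lib.Helper85.restrict_mem' F hψ hPQ φ (fun u => ?_)
  obtain ⟨x, h1, h2⟩ := (hK _).1 (hmem u)
  change φ u = ψ x at h1
  rw [h1]
  congr 1
  exact Subtype.ext h2.symm

theorem exists_conj_of_mem [Finite S] (F : Cfsg.FusionSystem S) {X : Type*} [Finite X]
    [MulAction (S × S) X] (N : ℕ → ℕ)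
    (hstab : ∀ x : X, IsGraph F (stabilizer (S × S) x))
    (hN : ∀ L : Subgroup (S × S), IsGraph F L → Nat.card (fixedPoints L X) = N (Nat.card L))
    {P : Subgroup Ω} (hP : P ≤ S) (φ : P →* Ω) (hφ : ∀ x : P, φ x ∈ S) (hφm : φ ∈ F.Hom P) :
    ∃ g : biG S X, ∀ x : P, biι S X ⟨φ x, hφ x⟩ = g * biι S X ⟨x, hP x.2⟩ * g⁻¹ := by
  have hempty : ∀ L : Subgroup (S × S), ¬ IsGraph F L → Nat.card (fixedPoints L X) = 0 := by
    intro L hL
    rw [Nat.card_eq_zero]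
    left
    constructor
    rintro ⟨x, hx⟩
    apply hL
    exact isGraph_of_le F (hstab x) (fun l hl => hx ⟨l, hl⟩)
  -- the two homomorphisms
  let φ' : P.subgroupOf S →* S :=
    { toFun := fun u => ⟨φ ⟨u.1, u.2⟩, hφ _⟩
      map_one' := by
        apply Subtype.ext
        change φ ⟨((1 : P.subgroupOf S) : S), _⟩ = 1
        have : (⟨(((1 : P.subgroupOf S) : S) : Ω), (1 : P.subgroupOf S).2⟩ : P) = 1 := rfl
        rw [this, map_one]
      map_mul' := by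
        intro a b
        apply Subtype.ext
        change φ ⟨((a * b : P.subgroupOf S) : S), _⟩ = φ ⟨(a : S), a.2⟩ * φ ⟨(b : S), b.2⟩
        rw [← map_mul]
        rfl }
  have hφ'inj : Function.Injective φ' := by
    intro a b hab
    have := F.injective_of_mem hφm (congrArg Subtype.val hab)
    have h3 : ((a : S) : Ω) = ((b : S) : Ω) := congrArg (fun z : P => (z : Ω)) this
    exact Subtype.ext (Subtype.ext h3)
  let j₁ : (P.subgroupOf S) × S →* S × S := (P.subgroupOf S).subtype.prodMap (MonoidHom.id S)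
  let j₂ : (P.subgroupOf S) × S →* S × S := φ'.prodMap (MonoidHom.id S)
  have hj₁ : Function.Injective j₁ := by
    rintro ⟨a, b⟩ ⟨a', b'⟩ h
    have h1 : (a : S) = a' := congrArg Prod.fst h
    have h2 : b = b' := congrArg Prod.snd h
    exact Prod.ext (Subtype.ext h1) h2
  have hj₂ : Function.Injective j₂ := by
    rintro ⟨a, b⟩ ⟨a', b'⟩ h
    have h1 : φ' a = φ' a' := congrArg Prod.fst h
    have h2 : b = b' := congrArg Prod.snd h
    exact Prod.ext (hφ'inj h1) h2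
  obtain ⟨ψ, hψ, hψinv, -⟩ := Lib.Helper85.exists_inv F hφm rfl
  have hmarks : ∀ K' : Subgroup ((P.subgroupOf S) × S),
      Nat.card (fixedPoints (K'.map j₁) X) = Nat.card (fixedPoints (K'.map j₂) X) := by
    intro K'
    have hR1 : ∀ z ∈ K'.map j₁, ((z.1 : S) : Ω) ∈ P := by
      rintro _ ⟨⟨a, b⟩, -, rfl⟩
      exact a.2
    have hR2 : ∀ z ∈ K'.map j₂, ((z.1 : S) : Ω) ∈ φ.range := by
      rintro _ ⟨⟨a, b⟩, -, rfl⟩
      exact ⟨⟨a.1, a.2⟩, rfl⟩
    by_cases h1 : IsGraph F (K'.map j₁)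
    · have h2 : IsGraph F (K'.map j₂) := by
        refine isGraph_of_comp F h1 hφm hR1 (fun w => ?_)
        constructor
        · rintro ⟨⟨a, b⟩, hab, rfl⟩
          exact ⟨j₁ (a, b), ⟨(a, b), hab, rfl⟩, rfl, rfl⟩
        · rintro ⟨_, ⟨⟨a, b⟩, hab, rfl⟩, h1', h2'⟩
          refine ⟨(a, b), hab, ?_⟩
          ext
          · exact h1'.symm
          · rw [h2']; rfl
      rw [hN _ h1, hN _ h2, Subgroup.card_map_of_injective hj₁, Subgroup.card_map_of_injective hj₂]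
    · have h2 : ¬ IsGraph F (K'.map j₂) := by
        intro h2
        apply h1
        refine isGraph_of_comp F h2 hψ hR2 (fun w => ?_)
        constructor
        · rintro ⟨⟨a, b⟩, hab, rfl⟩
          refine ⟨j₂ (a, b), ⟨(a, b), hab, rfl⟩, ?_, rfl⟩
          exact (hψinv ⟨a.1, a.2⟩ _).symm
        · rintro ⟨_, ⟨⟨a, b⟩, hab, rfl⟩, h1', h2'⟩
          refine ⟨(a, b), hab, ?_⟩
          ext
          · rw [h1']
            exact (hψinv ⟨a.1, a.2⟩ _).symm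
          · rw [h2']; rfl
      rw [hempty _ h1, hempty _ h2]
  obtain ⟨e, he⟩ := Lib.Helper85.exists_perm_of_card_fixedPoints_map_eq j₁ j₂ hmarks
  have heG : e ∈ biG S X := by
    intro s x
    have := he ((1 : P.subgroupOf S), s) x
    have e1 : j₁ ((1 : P.subgroupOf S), s) = ((1 : S), s) := rfl
    have e2 : j₂ ((1 : P.subgroupOf S), s) = ((1 : S), s) := by
      change (φ' 1, s) = _
      rw [map_one]
    rw [e1, e2] at this
    exact this
  refine ⟨⟨e, heG⟩, fun x => ?_⟩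
  apply Subtype.ext
  apply Equiv.ext
  intro y
  have := he ((⟨⟨x, hP x.2⟩, x.2⟩ : P.subgroupOf S), (1 : S)) (e⁻¹ y)
  change e ((((⟨x, hP x.2⟩ : S), (1 : S)) : S × S) • e⁻¹ y) =
    (((⟨φ x, hφ x⟩ : S), (1 : S)) : S × S) • e (e⁻¹ y) at this
  rw [Equiv.Perm.inv_def, Equiv.apply_symm_apply] at this
  rw [biι_apply, ← this]
  rfl

end Main

/-- Every fusion system over a finite p-group S, saturated or not, is realized inside some finite group: there is a finite group G and an injective homomorphism ι of S into G such that the maps of the system are exactly the homomorphisms between subgroups of S that become conjugations by elements of G (the image of S need not be a Sylow p-subgroup of G). -/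
theorem result {Ω : Type u} [Group Ω] {S : Subgroup Ω} [Finite S] (p : ℕ) [Fact p.Prime] (hS : IsPGroup p S) (F : Cfsg.FusionSystem S) : ∃ (G : Type u) (_ : Group G) (_ : Finite G) (ι : ↥S →* G), F.IsRealizedBy ι := by
  obtain ⟨X, hXfin, hXact, N, hstab, hN⟩ :=
    Lib.Helper85.exists_mulAction_card_fixedPoints (H := S × S) {K | IsGraph F K}
      (fun K hK h => isGraph_map_conj F hK h)
  -- a point fixed by the diagonal
  obtain ⟨hD1, hD2⟩ := hN _ (isGraph_diag F)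
  have hne : Nonempty (fixedPoints ((MonoidHom.id S).prod (MonoidHom.id S)).range X) := by
    by_contra h
    rw [not_nonempty_iff] at h
    rw [Nat.card_of_isEmpty] at hD1
    omega
  obtain ⟨⟨x₀, hx₀⟩⟩ := hne
  have hx₀' : ∀ s : S, ((s, s) : S × S) • x₀ = x₀ := fun s => hx₀ ⟨(s, s), ⟨s, rfl⟩⟩
  refine ⟨biG S X, inferInstance, inferInstance, biι S X, ?_, ?_⟩
  · -- injectivity
    rw [injective_iff_map_eq_one]
    intro s hs
    have h1 : ((s, (1 : S)) : S × S) • x₀ = x₀ := by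
      rw [← biι_apply, hs]
      rfl
    obtain ⟨P, φ, hφ, hK⟩ := hstab x₀
    obtain ⟨x, hx1, hx2⟩ := (hK _).1 (mem_stabilizer_iff.2 h1)
    have hx : x = 1 := Subtype.ext hx2.symm
    rw [hx, map_one] at hx1
    exact Subtype.ext hx1
  · intro P hP φ hφ
    constructor
    · intro hφm
      exact exists_conj_of_mem F N hstab (fun L hL => (hN L hL).1) hP φ hφ hφm
    · rintro ⟨g, hg⟩
      exact mem_of_conj F hstab x₀ hx₀' hP φ hφ g hg

end Cfsg.Agent.S5328
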