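import Cfsg.Statements.S0056
import Cfsg.Agent.S0055

set_option autoImplicit false
open Cfsg

namespace Cfsg.Agent.S0056

/-- A coprime action on an abelian group that fixes all elements of prime order is trivial. -/
theorem result {G : Type*} [Group G] [Finite G] (A V : Subgroup G) [IsMulCommutative V]
    (hAV : A ≤ Subgroup.normalizer (V : Set G)) (hcop : (Nat.card A).Coprime (Nat.card V))
    (hΩ : ∀ v ∈ V, (orderOf v).Prime → ∀ a ∈ A, a * v = v * a) : A ≤ Subgroup.centralizer (V : Set G) := by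
  rw [Subgroup.le_centralizer_iff, ← Subgroup.commutator_eq_bot_iff_le_centralizer]
  obtain ⟨h1, -⟩ := Cfsg.Agent.S0055.result A V hAV hcop
  have hWV : ⁅V, A⁆ ≤ V := Cfsg.Agent.S0055.commutator_le_V A V hAV
  rw [eq_bot_iff]
  intro w hw
  rw [Subgroup.mem_bot]
  by_contra hw1
  have hord : orderOf w ≠ 1 := fun h => hw1 (orderOf_eq_one_iff.mp h)
  obtain ⟨p, hp, hpw⟩ := Nat.exists_prime_and_dvd hord
  have hpos : 0 < orderOf w := orderOf_pos w
  have hw' : orderOf (w ^ (orderOf w / p)) = p := orderOf_pow_orderOf_div hpos.ne' hpw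
  have hmemW : w ^ (orderOf w / p) ∈ ⁅V, A⁆ := Subgroup.pow_mem _ hw _
  have hmemV : w ^ (orderOf w / p) ∈ V := hWV hmemW
  have hcent : w ^ (orderOf w / p) ∈ Subgroup.centralizer (A : Set G) := by
    rw [Subgroup.mem_centralizer_iff]
    intro a ha
    exact hΩ _ hmemV (by rw [hw']; exact hp) a ha
  have hbot : w ^ (orderOf w / p) ∈ (V ⊓ Subgroup.centralizer (A : Set G)) ⊓ ⁅V, A⁆ :=
    Subgroup.mem_inf.mpr ⟨Subgroup.mem_inf.mpr ⟨hmemV, hcent⟩, hmemW⟩
  rw [h1, Subgroup.mem_bot] at hbot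
  rw [hbot, orderOf_one] at hw'
  exact hp.one_lt.ne hw'

end Cfsg.Agent.S0056
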