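import Cfsg.Statements.S1975

set_option autoImplicit false
open Cfsg

namespace Cfsg.Agent.S1975

theorem lowerFamily_antitone {P : Type*} [Group P] {Q Q' : Subgroup P} (h : Q ≤ Q') :
    Cfsg.kLowerStarFamily Q' ⊆ Cfsg.kLowerStarFamily Q := by
  intro B hB
  obtain ⟨h1, h2, h3⟩ := hB
  exact ⟨h1, h.trans h2, fun A hA hAQ => h3 A hA (hAQ.trans h)⟩

theorem upperFamily_antitone {P : Type*} [Group P] {Q Q' : Subgroup P} (h : Q ≤ Q') :
    Cfsg.kUpperStarFamily Q' ⊆ Cfsg.kUpperStarFamily Q := by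
  intro B hB
  obtain ⟨h1, h2⟩ := hB
  exact ⟨h1, (Subgroup.commutator_mono le_rfl h).trans h2⟩

theorem kSeqOdd_succ_le {P : Type*} [Group P] (n : ℕ) :
    Cfsg.kSeqOdd P (n + 1) ≤ Cfsg.kSeqOdd P n := by
  induction n with
  | zero => simp [Cfsg.kSeqOdd]
  | succ n ih =>
    rw [Cfsg.kSeqOdd, Cfsg.kSeqOdd]
    apply sSup_le_sSup
    apply upperFamily_antitone
    apply sSup_le_sSup
    apply lowerFamily_antitone
    exact ih

/-- Let P be a finite p-group. In the K-sequence of P the odd-indexed terms decrease and the even-indexed terms increase: with the numbering used here, kSeqOdd P (n+1) ≤ kSeqOdd P n and kSeqEven P n ≤ kSeqEven P (n+1) for every n. -/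
theorem result {P : Type*} [Group P] [Finite P] {p : ℕ} [Fact p.Prime] (hP : IsPGroup p P) (n : ℕ) : Cfsg.kSeqOdd P (n + 1) ≤ Cfsg.kSeqOdd P n ∧ Cfsg.kSeqEven P n ≤ Cfsg.kSeqEven P (n + 1) := by
  refine ⟨kSeqOdd_succ_le n, ?_⟩
  unfold Cfsg.kSeqEven
  apply sSup_le_sSup
  apply lowerFamily_antitone
  exact kSeqOdd_succ_le n

end Cfsg.Agent.S1975
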