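import Cfsg.Statements.S5126
import Cfsg.Agent.Lib.Helper85.FusionRealized
import Cfsg.Agent.Lib.Helper85.FusionRS
import Cfsg.Agent.Lib.Helper87.FusionKNormSat

set_option autoImplicit false
open Cfsg

namespace Cfsg.Agent.S5126

open Cfsg.FusionSystem
open Cfsg.Agent.Lib.Helper87
open Cfsg.Agent.Lib.Helper85 (imι mem_imι_iff apply_mem_imι imι_le_range conjι conjι_mem conjι_mem_Hom ι_conjι
  exists_of_mem_Hom)

variable {Ω : Type*} [Group Ω] {S : Subgroup Ω}

/-- A map of `F` on `M`, where `Q ≤ M ≤ N_S(Q)`, carrying `Q` onto `Q`, is a map of `N_F(Q)`. -/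
theorem mem_normalizerHom_of_map_eq (F : FusionSystem S) {Q M : Subgroup Ω} [Finite Q] (hQM : Q ≤ M)
    (hMN : M ≤ normalizerIn S Q) {ψ : M →* Ω} (hψ : ψ ∈ F.Hom M)
    (hψQ : (Q.subgroupOf M).map ψ = Q) : ψ ∈ F.normalizerHom Q M := by
  rw [map_subgroupOf_eq_iff] at hψQ
  refine ⟨hψ, hMN, fun x => ⟨(F.le_of_mem hψ).2 x, ?_⟩, ?_⟩
  · apply Cfsg.Agent.Lib.Helper85.mem_normalizer_of_conj_le_of_finite
    intro q hq
    obtain ⟨z, hz, rfl⟩ := hψQ.2 q hq
    have : ψ x * ψ z * (ψ x)⁻¹ = ψ (x * z * x⁻¹) := by rw [map_mul, map_mul, map_inv]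
    rw [this]
    apply hψQ.1
    have hxN := (hMN x.2).2
    exact (Subgroup.mem_normalizer_iff.1 hxN z).1 hz
  · have hle : M ⊔ Q ≤ M := sup_le le_rfl hQM
    refine ⟨ψ.comp (Subgroup.inclusion hle), restrict_mem F hψ hle, fun x => ?_, ?_⟩
    · show ψ _ = ψ x
      congr 1
    · rw [map_subgroupOf_eq_iff]
      constructor
      · intro x hx
        exact hψQ.1 _ hx
      · intro q hq
        obtain ⟨z, hz, rfl⟩ := hψQ.2 q hq
        refine ⟨Subgroup.inclusion le_sup_left z, hz, ?_⟩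
        show ψ _ = ψ z
        congr 1

theorem isNormal_of_isNormalizerSystem (F : FusionSystem S) {Q : Subgroup Ω} [Finite Q] (hQS : Q ≤ S)
    {E : FusionSystem (normalizerIn S Q)} (hE : F.IsNormalizerSystem Q E) : E.IsNormal Q := by
  refine ⟨le_normalizerIn hQS, ?_⟩
  intro P φ hφ
  rw [hE P] at hφ
  obtain ⟨hφF, hPN, hφN, ψ, hψ, hψe, hψQ⟩ := hφ
  refine ⟨ψ, ?_, hψe, hψQ⟩
  rw [hE (P ⊔ Q)]
  exact mem_normalizerHom_of_map_eq F le_sup_right (sup_le hPN (le_normalizerIn hQS)) hψ hψQ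

theorem range_eq_of_mem_normalizerHom (F : FusionSystem S) {Q : Subgroup Ω} {φ : Q →* Ω}
    (hφ : φ ∈ F.normalizerHom Q Q) : φ.range = Q := by
  obtain ⟨-, -, -, ψ, -, hψe, hψQ⟩ := hφ
  rw [map_subgroupOf_eq_iff] at hψQ
  ext y
  constructor
  · rintro ⟨x, rfl⟩
    rw [← hψe]
    exact hψQ.1 _ x.2
  · intro hy
    obtain ⟨z, hz, rfl⟩ := hψQ.2 y hy
    refine ⟨⟨z, hz⟩, ?_⟩
    rw [← hψe]
    congr 1

theorem constrained_part [Finite S] {p : ℕ} [Fact p.Prime] (hS : IsPGroup p S) (F : FusionSystem S)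
    (hF : F.IsSaturated p) {R : Subgroup Ω} (hRn : F.IsFullyNormalized R) (hRc : F.IsCentric R)
    {E : FusionSystem (normalizerIn S R)} (hE : F.IsNormalizerSystem R E) : E.IsConstrained p := by
  have hRS := hRn.1
  haveI : Finite R := finite_of_le hRS
  refine ⟨isSaturated_of_isNormalizerSystem F hS hF hRn hE, R, isNormal_of_isNormalizerSystem F hRS hE,
    le_normalizerIn hRS, ?_⟩
  rintro Q ⟨φ, hφ, rfl⟩
  rw [hE R] at hφ
  rw [range_eq_of_mem_normalizerHom F hφ]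
  intro x hx
  exact hRc.2 R (isConj_refl F hRS) ⟨(normalizerIn_le S R) hx.1, hx.2⟩

theorem imι_le_pCore {N : Subgroup Ω} {G : Type*} [Group G] [Finite G] {p : ℕ} [Fact p.Prime]
    (E : FusionSystem N) {ι : N →* G} (hι : E.IsRealizedBy ι) (T : Sylow p G)
    (hT : (T : Subgroup G) = ι.range)
    (hcent : Subgroup.centralizer ((pCore p G : Subgroup G) : Set G) ≤ pCore p G) {R : Subgroup Ω}
    (hNR : N ≤ Subgroup.normalizer (R : Set Ω)) (hEn : E.IsNormal R) : imι ι R ≤ pCore p G := by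
  have hRN : R ≤ N := hEn.1
  have hUn : (pCore p G).Normal := Subgroup.sSup_normal _ (fun _ h => h.1)
  have hUp : IsPGroup p (pCore p G) := Sylow.sSup_of_normal _ (fun _ h => h.2) (fun _ h => h.1)
  have hUle : pCore p G ≤ ι.range := by
    rw [← hT]
    exact hUp.le_sylow_of_normal T
  have hnorm : (imι ι R).Normal := by
    constructor
    intro y hy g
    obtain ⟨r, hrN, hrR, rfl⟩ := (mem_imι_iff ι R y).1 hy
    have hU₀N : ((pCore p G).comap ι).map N.subtype ≤ N := by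
      rintro _ ⟨x, -, rfl⟩
      exact x.2
    have hU₀mem : ∀ x : ↥(((pCore p G).comap ι).map N.subtype), ι ⟨x, hU₀N x.2⟩ ∈ pCore p G := by
      rintro ⟨_, x, hx, rfl⟩
      exact hx
    have hrange : ∀ x : ↥(((pCore p G).comap ι).map N.subtype), g * ι ⟨x, hU₀N x.2⟩ * g⁻¹ ∈ ι.range :=
      fun x => hUle (hUn.conj_mem _ (hU₀mem x) g)
    have hφg := conjι_mem_Hom hι hU₀N g hrange
    obtain ⟨ψ, hψ, hψe, hψR⟩ := hEn.2 _ _ hφg
    obtain ⟨h', hh'⟩ := exists_of_mem_Hom hι hψ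
    rw [map_subgroupOf_eq_iff] at hψR
    have hw : g⁻¹ * h' ∈ pCore p G := by
      apply hcent
      rw [Subgroup.mem_centralizer_iff]
      intro z hz
      obtain ⟨x, rfl⟩ := hUle hz
      have hxU : (x : Ω) ∈ ((pCore p G).comap ι).map N.subtype := ⟨x, hz, rfl⟩
      have h1 := hh' (Subgroup.inclusion le_sup_left ⟨x, hxU⟩)
      have h2 := ι_conjι hι.1 hU₀N g hrange ⟨x, hxU⟩
      have e1 : (⟨ψ (Subgroup.inclusion le_sup_left ⟨x, hxU⟩), (E.le_of_mem hψ).2 _⟩ : N) =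
          ⟨conjι hι.1 hU₀N g hrange ⟨x, hxU⟩, conjι_mem hι.1 hU₀N g hrange _⟩ := Subtype.ext (hψe _)
      rw [e1, h2] at h1
      have h3 : h' * ι x * h'⁻¹ = g * ι x * g⁻¹ := h1.symm
      calc ι x * (g⁻¹ * h') = g⁻¹ * (g * ι x * g⁻¹) * h' := by group
        _ = g⁻¹ * (h' * ι x * h'⁻¹) * h' := by rw [h3]
        _ = g⁻¹ * h' * ι x := by group
    obtain ⟨u, hu⟩ := hUle hw
    -- `r' = u⁻¹ r u`
    have hr'R : (((u⁻¹ * ⟨r, hrN⟩ * (u⁻¹)⁻¹ : N) : N) : Ω) ∈ R :=
      (Subgroup.mem_normalizer_iff.1 (hNR (u⁻¹).2) r).1 hrR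
    have hιr' : ι (u⁻¹ * ⟨r, hrN⟩ * (u⁻¹)⁻¹) = (g⁻¹ * h')⁻¹ * ι ⟨r, hrN⟩ * (g⁻¹ * h') := by
      simp only [map_mul, map_inv, inv_inv, hu]
    have h4 := hh' (Subgroup.inclusion le_sup_right ⟨_, hr'R⟩)
    have h5 : ψ (Subgroup.inclusion le_sup_right ⟨_, hr'R⟩) ∈ R := hψR.1 _ hr'R
    have h6 := apply_mem_imι ι ((E.le_of_mem hψ).2 (Subgroup.inclusion le_sup_right ⟨_, hr'R⟩)) h5
    rw [h4] at h6
    have h7 : h' * ι (u⁻¹ * ⟨r, hrN⟩ * (u⁻¹)⁻¹) * h'⁻¹ = g * ι ⟨r, hrN⟩ * g⁻¹ := by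
      rw [hιr']
      group
    rw [← h7]
    exact h6
  have hp : IsPGroup p (imι ι R) := by
    have : imι ι R ≤ (T : Subgroup G) := by
      rw [hT]
      exact imι_le_range ι R
    exact T.isPGroup'.to_le this
  exact le_sSup ⟨hnorm, hp⟩

theorem pCore_le_imι [Finite S] {p : ℕ} [Fact p.Prime] (hS : IsPGroup p S) (F : FusionSystem S)
    {R : Subgroup Ω} (hRc : F.IsCentric R) (hRr : F.IsRadical p R) {E : FusionSystem (normalizerIn S R)}
    (hE : F.IsNormalizerSystem R E) {G : Type*} [Group G] [Finite G]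
    {ι : ↥(normalizerIn S R) →* G} (hι : E.IsRealizedBy ι) (T : Sylow p G)
    (hT : (T : Subgroup G) = ι.range) : pCore p G ≤ imι ι R := by
  have hRS : R ≤ S := hRc.1
  haveI : Finite R := finite_of_le hRS
  have hRN : R ≤ normalizerIn S R := le_normalizerIn hRS
  have hUn : (pCore p G).Normal := Subgroup.sSup_normal _ (fun _ h => h.1)
  have hUp : IsPGroup p (pCore p G) := Sylow.sSup_of_normal _ (fun _ h => h.2) (fun _ h => h.1)
  have hUle : pCore p G ≤ ι.range := by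
    rw [← hT]
    exact hUp.le_sylow_of_normal T
  have hU₀N : ((pCore p G).comap ι).map (normalizerIn S R).subtype ≤ normalizerIn S R := by
    rintro _ ⟨x, -, rfl⟩
    exact x.2
  have hU₀S : ((pCore p G).comap ι).map (normalizerIn S R).subtype ≤ S :=
    hU₀N.trans (normalizerIn_le S R)
  have hU₀mem : ∀ (x : Ω) (hx : x ∈ ((pCore p G).comap ι).map (normalizerIn S R).subtype),
      ι ⟨x, hU₀N hx⟩ ∈ pCore p G := by
    rintro _ ⟨x, hx, rfl⟩
    exact hx
  have hDS : autInducedBy (((pCore p G).comap ι).map (normalizerIn S R).subtype) R ≤ autInducedBy S R := by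
    intro α hα
    obtain ⟨g, hg, hgα⟩ := mem_autInducedBy_iff.1 hα
    exact mem_autInducedBy_iff.2 ⟨g, hU₀S hg, hgα⟩
  have hDA : autInducedBy (((pCore p G).comap ι).map (normalizerIn S R).subtype) R ≤ F.autGroup R :=
    hDS.trans (autInducedBy_le_autGroup F hRS)
  have hDp : IsPGroup p (autInducedBy (((pCore p G).comap ι).map (normalizerIn S R).subtype) R) :=
    (autInducedBy_isPGroup hS R).to_le hDS
  have hDn : ∀ α ∈ F.autGroup R,
      ∀ β ∈ autInducedBy (((pCore p G).comap ι).map (normalizerIn S R).subtype) R,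
      α * β * α⁻¹ ∈ autInducedBy (((pCore p G).comap ι).map (normalizerIn S R).subtype) R := by
    intro α hα β hβ
    obtain ⟨u, hu, huβ⟩ := mem_autInducedBy_iff.1 hβ
    have hαF : R.subtype.comp (α : R ≃* R).toMonoidHom ∈ F.Hom R := (mem_autGroup_iff F hRS).1 hα
    have hαE : R.subtype.comp (α : R ≃* R).toMonoidHom ∈ E.Hom R := by
      rw [hE R]
      refine mem_normalizerHom_of_map_eq F le_rfl hRN hαF ?_
      rw [map_subgroupOf_eq_iff]
      refine ⟨fun x _ => (α x).2, fun q hq => ⟨α⁻¹ ⟨q, hq⟩, (α⁻¹ ⟨q, hq⟩).2, ?_⟩⟩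
      show ((α (α⁻¹ ⟨q, hq⟩) : R) : Ω) = q
      rw [MulAut.apply_inv_self]
    obtain ⟨g, hg⟩ := exists_of_mem_Hom hι hαE
    have hgj : ∀ x : R, ι (Subgroup.inclusion hRN (α x)) = g * ι (Subgroup.inclusion hRN x) * g⁻¹ := hg
    have hginv : ∀ x : R, ι (Subgroup.inclusion hRN (α⁻¹ x)) = g⁻¹ * ι (Subgroup.inclusion hRN x) * g := by
      intro x
      have := hgj (α⁻¹ x)
      rw [MulAut.apply_inv_self] at this
      rw [this]
      group
    have hu' : g * ι ⟨u, hU₀N hu⟩ * g⁻¹ ∈ pCore p G := hUn.conj_mem _ (hU₀mem u hu) g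
    obtain ⟨u', hu'e⟩ := hUle hu'
    have hu'U : (u' : Ω) ∈ ((pCore p G).comap ι).map (normalizerIn S R).subtype :=
      ⟨u', by show ι u' ∈ pCore p G; rw [hu'e]; exact hu', rfl⟩
    rw [mem_autInducedBy_iff]
    refine ⟨u', hu'U, fun x => ?_⟩
    have hβj : ∀ z : R, Subgroup.inclusion hRN (β z) =
        (⟨u, hU₀N hu⟩ : ↥(normalizerIn S R)) * Subgroup.inclusion hRN z * (⟨u, hU₀N hu⟩ : ↥(normalizerIn S R))⁻¹ :=
      fun z => Subtype.ext (huβ z)
    have key : Subgroup.inclusion hRN ((α * β * α⁻¹) x) = u' * Subgroup.inclusion hRN x * u'⁻¹ := by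
      apply hι.1
      rw [map_mul, map_mul, map_inv, hu'e]
      show ι (Subgroup.inclusion hRN (α (β (α⁻¹ x)))) = _
      rw [hgj, hβj, map_mul, map_mul, map_inv, hginv]
      group
    exact congrArg Subtype.val key
  have hDInn : autInducedBy (((pCore p G).comap ι).map (normalizerIn S R).subtype) R ≤ Inn R := by
    have hnorm : ((autInducedBy (((pCore p G).comap ι).map (normalizerIn S R).subtype) R).subgroupOf
        (F.autGroup R)).Normal := by
      refine ⟨fun β hβ α => ?_⟩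
      rw [Subgroup.mem_subgroupOf] at hβ ⊢
      exact hDn α α.2 β hβ
    have hp' : IsPGroup p ((autInducedBy (((pCore p G).comap ι).map (normalizerIn S R).subtype) R).subgroupOf
        (F.autGroup R)) := hDp.comap_subtype
    have hle : (autInducedBy (((pCore p G).comap ι).map (normalizerIn S R).subtype) R).subgroupOf
        (F.autGroup R) ≤ pCore p (F.autGroup R) := le_sSup ⟨hnorm, hp'⟩
    have h1 := Subgroup.map_mono (f := (F.autGroup R).subtype) hle
    rw [hRr.2, Subgroup.map_subgroupOf_eq_of_le hDA] at h1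
    exact h1
  have hU₀R : ((pCore p G).comap ι).map (normalizerIn S R).subtype ≤ R := by
    intro g hg
    have hgN := (hU₀N hg).2
    have hβK : conjAut R g hgN ∈ autInducedBy (((pCore p G).comap ι).map (normalizerIn S R).subtype) R :=
      mem_autInducedBy_iff.2 ⟨g, hg, fun _ => rfl⟩
    obtain ⟨y, hy⟩ := hDInn hβK
    have hcent : (y : Ω)⁻¹ * g ∈ centralizerIn S R := by
      refine ⟨S.mul_mem (S.inv_mem (hRS y.2)) (hU₀S hg), ?_⟩
      show (y : Ω)⁻¹ * g ∈ Subgroup.centralizer (R : Set Ω)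
      rw [Subgroup.mem_centralizer_iff]
      intro z hz
      have h2 : ((MulAut.conj y) ⟨z, hz⟩ : R) = conjAut R g hgN ⟨z, hz⟩ :=
        congrArg (fun f : MulAut R => f ⟨z, hz⟩) hy
      have h3 : (y : Ω) * z * (y : Ω)⁻¹ = g * z * g⁻¹ := by
        have := congrArg Subtype.val h2
        simpa [MulAut.conj_apply, conjAut_apply] using this
      calc z * ((y : Ω)⁻¹ * g) = (y : Ω)⁻¹ * ((y : Ω) * z * (y : Ω)⁻¹) * g := by group
        _ = (y : Ω)⁻¹ * (g * z * g⁻¹) * g := by rw [h3]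
        _ = (y : Ω)⁻¹ * g * z := by group
    have h4 : (y : Ω)⁻¹ * g ∈ R := hRc.2 R (isConj_refl F hRS) hcent
    have : g = (y : Ω) * ((y : Ω)⁻¹ * g) := by group
    rw [this]
    exact R.mul_mem y.2 h4
  intro y hy
  obtain ⟨u, rfl⟩ := hUle hy
  have : (u : Ω) ∈ ((pCore p G).comap ι).map (normalizerIn S R).subtype := ⟨u, hy, rfl⟩
  exact apply_mem_imι ι u.2 (hU₀R this)

/-- In a saturated fusion system over a finite p-group S, the normalizer system of a fully normalized, centric, radical subgroup R is constrained, and in every model of that normalizer system the largest normal p-subgroup is the image of R. -/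
theorem result {Ω : Type*} [Group Ω] {S : Subgroup Ω} [Finite S] (p : ℕ) [Fact p.Prime] (hS : IsPGroup p S) (F : Cfsg.FusionSystem S) (hF : F.IsSaturated p) (R : Subgroup Ω) (hRn : F.IsFullyNormalized R) (hRc : F.IsCentric R) (hRr : F.IsRadical p R) (E : Cfsg.FusionSystem (Cfsg.FusionSystem.normalizerIn S R)) (hE : F.IsNormalizerSystem R E) {G : Type*} [Group G] (ι : ↥(Cfsg.FusionSystem.normalizerIn S R) →* G) : E.IsConstrained p ∧ (E.IsModel p G ι → (Cfsg.pCore p G : Subgroup G) = (R.subgroupOf (Cfsg.FusionSystem.normalizerIn S R)).map ι) := by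
  have hRS := hRn.1
  haveI : Finite R := finite_of_le hRS
  refine ⟨constrained_part hS F hF hRn hRc hE, ?_⟩
  rintro ⟨hfin, hι, ⟨T, hT⟩, hcent⟩
  haveI := hfin
  apply le_antisymm
  · exact pCore_le_imι hS F hRc hRr hE hι T hT
  · exact imι_le_pCore E hι T hT hcent (fun x hx => hx.2) (isNormal_of_isNormalizerSystem F hRS hE)

end Cfsg.Agent.S5126
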