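import Cfsg.Statements.S2840
import Mathlib
import Cfsg.Agent.S2848
-- import your own Cfsg.Agent.* helpers here

set_option autoImplicit false
open Cfsg

namespace Cfsg.Agent.S2840

section Aux

open Cfsg.Agent.Lib.Helper85 Cfsg.Agent.Lib.Helper20

variable {G : Type*} [Group G]

/-- `Q` is the only conjugate of itself in any `p`-subgroup containing it. -/
def WC (p : ℕ) (Q : Subgroup G) : Prop :=
  ∀ R : Subgroup G, IsPGroup p R → Q ≤ R → ∀ g : G,
    Q.map (MulAut.conj g).toMonoidHom ≤ R → Q.map (MulAut.conj g).toMonoidHom = Q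

theorem wc_of_weaklyClosed [Finite G] {p : ℕ} [Fact p.Prime] {Q : Subgroup G}
    (h : Cfsg.IsWeaklyClosedSubgroup p Q) : WC p Q := by
  obtain ⟨T, hQT, hT⟩ := h
  intro R hR hQR g hg
  obtain ⟨h, hh⟩ := exists_conj_le_sylow T hR
  have h1 : Q.map (MulAut.conj h).toMonoidHom = Q :=
    hT h ((Subgroup.map_mono hQR).trans hh)
  have h2 : Q.map (MulAut.conj (h * g)).toMonoidHom = Q := by
    apply hT (h * g)
    rw [← Cfsg.Agent.Lib.Helper85.map_conj_map_conj]
    exact (Subgroup.map_mono hg).trans hh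
  apply Subgroup.map_injective (f := (MulAut.conj h).toMonoidHom) (MulAut.conj h).injective
  rw [Cfsg.Agent.Lib.Helper85.map_conj_map_conj, h1, h2]

theorem exists_conj_eq [Finite G] {p : ℕ} [Fact p.Prime] {Q : Subgroup G} (hW : WC p Q)
    (hQp : IsPGroup p Q) {X : Subgroup G} (hQX : Q ≤ X) {g : G}
    (hg : Q.map (MulAut.conj g).toMonoidHom ≤ X) :
    ∃ x ∈ X, Q.map (MulAut.conj g).toMonoidHom = Q.map (MulAut.conj x).toMonoidHom := by
  have hp1 : IsPGroup p (Q.subgroupOf X) := hQp.comap_subtype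
  obtain ⟨P, hP⟩ := hp1.exists_le_sylow
  have hp2 : IsPGroup p ((Q.map (MulAut.conj g).toMonoidHom).subgroupOf X) :=
    (isPGroup_map_conj hQp g).comap_subtype
  obtain ⟨x, hx⟩ := exists_conj_le_sylow P hp2
  rw [Cfsg.Agent.S2848.subgroupOf_map_conj, Cfsg.Agent.Lib.Helper85.map_conj_map_conj] at hx
  have hR : IsPGroup p ((P : Subgroup ↥X).map X.subtype) := P.isPGroup'.map _
  have hQR : Q ≤ (P : Subgroup ↥X).map X.subtype := by
    intro q hq
    exact ⟨⟨q, hQX hq⟩, hP (by rw [Subgroup.mem_subgroupOf]; exact hq), rfl⟩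
  have hxgX : Q.map (MulAut.conj ((x : G) * g)).toMonoidHom ≤ X := by
    rw [← Cfsg.Agent.Lib.Helper85.map_conj_map_conj]
    rintro _ ⟨y, hy, rfl⟩
    exact X.mul_mem (X.mul_mem x.2 (hg hy)) (X.inv_mem x.2)
  have hgR : Q.map (MulAut.conj ((x : G) * g)).toMonoidHom ≤ (P : Subgroup ↥X).map X.subtype := by
    intro y hy
    exact ⟨⟨y, hxgX hy⟩, hx (by rw [Subgroup.mem_subgroupOf]; exact hy), rfl⟩
  have h3 := hW _ hR hQR _ hgR
  refine ⟨(x : G)⁻¹, X.inv_mem x.2, ?_⟩
  have h4 : (Q.map (MulAut.conj ((x : G) * g)).toMonoidHom).map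
      (MulAut.conj (x : G)⁻¹).toMonoidHom = Q.map (MulAut.conj g).toMonoidHom := by
    rw [Cfsg.Agent.Lib.Helper85.map_conj_map_conj, inv_mul_cancel_left]
  rw [h3] at h4
  exact h4.symm

/-- a subnormal subgroup containing `Q` contains all conjugates of `Q` -/
theorem conj_le_of_isSubnormal [Finite G] {p : ℕ} [Fact p.Prime] {Q : Subgroup G} (hW : WC p Q)
    (hQp : IsPGroup p Q) {X : Subgroup G} (hX : X.IsSubnormal) (hQX : Q ≤ X) (g : G) :
    Q.map (MulAut.conj g).toMonoidHom ≤ X := by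
  induction hX with
  | top => exact le_top
  | step X X1 hle hsub hN ih =>
    have h1 : Q.map (MulAut.conj g).toMonoidHom ≤ X1 := ih (hQX.trans hle)
    obtain ⟨x, hx, hxe⟩ := exists_conj_eq hW hQp (hQX.trans hle) h1
    rw [hxe]
    rw [Subgroup.normal_subgroupOf_iff_le_normalizer hle] at hN
    have h2 : X.map (MulAut.conj x).toMonoidHom = X :=
      map_conj_eq_iff_mem_normalizer.mpr (hN hx)
    calc Q.map (MulAut.conj x).toMonoidHom ≤ X.map (MulAut.conj x).toMonoidHom :=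
          Subgroup.map_mono hQX
      _ = X := h2

theorem wc_subgroupOf {p : ℕ} {Q : Subgroup G} (hW : WC p Q) {K : Subgroup G} (hQK : Q ≤ K) :
    WC p (Q.subgroupOf K) := by
  intro R hR hQR k hk
  rw [Cfsg.Agent.S2848.subgroupOf_map_conj] at hk ⊢
  have hkK : Q.map (MulAut.conj (k : G)).toMonoidHom ≤ K := by
    rintro _ ⟨y, hy, rfl⟩
    exact K.mul_mem (K.mul_mem k.2 (hQK hy)) (K.inv_mem k.2)
  have h1 : Q ≤ R.map K.subtype := by
    intro q hq
    exact ⟨⟨q, hQK hq⟩, hQR (by rw [Subgroup.mem_subgroupOf]; exact hq), rfl⟩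
  have h2 : Q.map (MulAut.conj (k : G)).toMonoidHom ≤ R.map K.subtype := by
    intro q hq
    exact ⟨⟨q, hkK hq⟩, hk (by rw [Subgroup.mem_subgroupOf]; exact hq), rfl⟩
  rw [hW _ (hR.map _) h1 _ h2]

theorem iSup_conj_normal (Q : Subgroup G) :
    (⨆ k : G, Q.map (MulAut.conj k).toMonoidHom).Normal := by
  refine ⟨fun n hn g => ?_⟩
  have h1 : g * n * g⁻¹ ∈
      (⨆ k : G, Q.map (MulAut.conj k).toMonoidHom).map (MulAut.conj g).toMonoidHom :=
    ⟨n, hn, rfl⟩
  rw [Subgroup.map_iSup] at h1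
  have h2 : (⨆ i : G, (Q.map (MulAut.conj i).toMonoidHom).map (MulAut.conj g).toMonoidHom) ≤
      ⨆ k : G, Q.map (MulAut.conj k).toMonoidHom := by
    refine iSup_le (fun k => ?_)
    rw [Cfsg.Agent.Lib.Helper85.map_conj_map_conj]
    exact le_iSup (fun k => Q.map (MulAut.conj k).toMonoidHom) (g * k)
  exact h2 h1

theorem subnormalClosure_eq [Finite G] {p : ℕ} [Fact p.Prime] {Q : Subgroup G} (hW : WC p Q)
    (hQp : IsPGroup p Q) :
    Cfsg.subnormalClosure Q = ⨆ k : G, Q.map (MulAut.conj k).toMonoidHom := by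
  apply le_antisymm
  · apply sInf_le
    refine ⟨?_, (iSup_conj_normal Q).isSubnormal⟩
    have := le_iSup (fun k => Q.map (MulAut.conj k).toMonoidHom) (1 : G)
    rwa [map_conj_one] at this
  · apply le_sInf
    rintro X ⟨hQX, hX⟩
    exact iSup_le (fun k => conj_le_of_isSubnormal hW hQp hX hQX k)

end Aux

/-- Let Q be a nontrivial p-subgroup of the finite group H that is a weakly closed subgroup and K a subgroup containing Q; let K° be the weak closure of Q in K (generated by the H-conjugates of Q inside K). Then K° is generated by the K-conjugates of Q, and K° is the subnormal closure of Q in K. -/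
theorem result {H : Type*} [Group H] [Finite H] {p : ℕ} [Fact p.Prime] (Q : Subgroup H) (hQp : IsPGroup p ↥Q) (hQ1 : Q ≠ ⊥) (hwc : Cfsg.IsWeaklyClosedSubgroup p Q) (K : Subgroup H) (hQK : Q ≤ K) (Kc : Subgroup H) (hKc : Kc = Cfsg.weakClosure Q K) : Kc = ⨆ k : ↥K, ((Q : Subgroup H).map (MulAut.conj ((k : H) : H)).toMonoidHom) ∧ Kc = (Cfsg.subnormalClosure (Q.subgroupOf K)).map K.subtype := by
  have hW : WC p Q := wc_of_weaklyClosed hwc
  have h1 : Kc = ⨆ k : ↥K, ((Q : Subgroup H).map (MulAut.conj ((k : H) : H)).toMonoidHom) := by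
    rw [hKc]
    unfold Cfsg.weakClosure
    apply le_antisymm
    · refine iSup_le ?_
      rintro ⟨g, hg⟩
      obtain ⟨x, hx, hxe⟩ := exists_conj_eq hW hQp hQK hg
      change Q.map (MulAut.conj g).toMonoidHom ≤ _
      rw [hxe]
      exact le_iSup (fun k : ↥K => Q.map (MulAut.conj (k : H)).toMonoidHom) ⟨x, hx⟩
    · refine iSup_le ?_
      intro k
      have hkK : Q.map (MulAut.conj (k : H)).toMonoidHom ≤ K := by
        rintro _ ⟨y, hy, rfl⟩
        exact K.mul_mem (K.mul_mem k.2 (hQK hy)) (K.inv_mem k.2)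
      exact le_iSup (fun g : {g : H // Q.map (MulAut.conj g).toMonoidHom ≤ K} =>
        Q.map (MulAut.conj (g : H)).toMonoidHom) ⟨(k : H), hkK⟩
  refine ⟨h1, ?_⟩
  rw [h1, subnormalClosure_eq (wc_subgroupOf hW hQK) hQp.comap_subtype, Subgroup.map_iSup]
  congr 1
  funext k
  have hkK : Q.map (MulAut.conj (k : H)).toMonoidHom ≤ K := by
    rintro _ ⟨y, hy, rfl⟩
    exact K.mul_mem (K.mul_mem k.2 (hQK hy)) (K.inv_mem k.2)
  rw [Cfsg.Agent.S2848.subgroupOf_map_conj, Subgroup.map_subgroupOf_eq_of_le hkK]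

end Cfsg.Agent.S2840
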