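import Cfsg.Statements.S2838
import Mathlib
import Cfsg.Agent.S2840
-- import your own Cfsg.Agent.* helpers here

set_option autoImplicit false
open Cfsg
open scoped commutatorElement

namespace Cfsg.Agent.S2838

section Aux

open Cfsg.Agent.Lib.Helper85 Cfsg.Agent.Lib.Helper20

variable {G : Type*} [Group G]

/-- if `B` normalizes `A` then `[A,B] ≤ A` -/
theorem commutator_le_of_le_normalizer {A B : Subgroup G}
    (h : B ≤ Subgroup.normalizer (A : Set G)) : ⁅A, B⁆ ≤ A := by
  rw [Subgroup.commutator_le]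
  intro y hy z hz
  have h1 : z * y⁻¹ * z⁻¹ ∈ A :=
    (Subgroup.mem_normalizer_iff.mp (h hz) y⁻¹).mp (A.inv_mem hy)
  have h2 := A.mul_mem hy h1
  have h3 : ⁅y, z⁆ = y * (z * y⁻¹ * z⁻¹) := by
    rw [commutatorElement_def]; group
  rw [h3]; exact h2

/-- if `A` normalizes `B` then `[A,B] ≤ B` -/
theorem commutator_le_of_le_normalizer' {A B : Subgroup G}
    (h : A ≤ Subgroup.normalizer (B : Set G)) : ⁅A, B⁆ ≤ B := by
  rw [Subgroup.commutator_le]
  intro y hy z hz
  have h1 : y * z * y⁻¹ ∈ B := (Subgroup.mem_normalizer_iff.mp (h hy) z).mp hz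
  have h2 := B.mul_mem h1 (B.inv_mem hz)
  rw [commutatorElement_def]; exact h2

/-- if `[A,B] ≤ A` then `B` normalizes `A` -/
theorem le_normalizer_of_commutator_le {A B : Subgroup G} (h : ⁅A, B⁆ ≤ A) :
    B ≤ Subgroup.normalizer (A : Set G) := by
  have key : ∀ z ∈ B, ∀ y ∈ A, z * y * z⁻¹ ∈ A := by
    intro z hz y hy
    have h1 : ⁅y⁻¹, z⁆ ∈ A := h (Subgroup.commutator_mem_commutator (A.inv_mem hy) hz)
    have h2 := A.mul_mem hy h1
    have h3 : y * ⁅y⁻¹, z⁆ = z * y * z⁻¹ := by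
      rw [commutatorElement_def]; group
    rwa [h3] at h2
  intro z hz
  rw [Subgroup.mem_normalizer_iff]
  intro y
  constructor
  · exact key z hz y
  · intro hy
    have := key z⁻¹ (B.inv_mem hz) _ hy
    have h4 : z⁻¹ * (z * y * z⁻¹) * z⁻¹⁻¹ = y := by group
    rwa [h4] at this

/-- normalizers grow in finite `p`-groups, ambient form -/
theorem exists_mem_normalizer_not_mem [Finite G] {p : ℕ} [Fact p.Prime] {T A : Subgroup G}
    (hT : IsPGroup p T) (hAT : A < T) :
    ∃ t ∈ T, t ∈ Subgroup.normalizer (A : Set G) ∧ t ∉ A := by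
  have hnil : Group.IsNilpotent ↥T := hT.isNilpotent
  have hnc := Group.normalizerCondition_of_isNilpotent (G := ↥T)
  have hlt : A.subgroupOf T < ⊤ := by
    rw [lt_top_iff_ne_top, Ne, Subgroup.subgroupOf_eq_top]
    exact not_le_of_gt hAT
  have h1 := hnc _ hlt
  rw [← Subgroup.subgroupOf_normalizer_eq hAT.le] at h1
  obtain ⟨t, ht1, ht2⟩ := SetLike.exists_of_lt h1
  exact ⟨t, t.2, ht1, ht2⟩

/-- (P1) implies that every `p`-subgroup containing `Q` normalizes `Q` -/
theorem le_normalizer_of_P1 [Finite G] {p : ℕ} [Fact p.Prime] {Q : Subgroup G}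
    (hP1 : ∀ g : G, ⁅Q, Q.map (MulAut.conj g).toMonoidHom⁆ ≤ Q ⊓ Q.map (MulAut.conj g).toMonoidHom →
      Q.map (MulAut.conj g).toMonoidHom = Q)
    {T : Subgroup G} (hT : IsPGroup p T) (hQT : Q ≤ T) :
    T ≤ Subgroup.normalizer (Q : Set G) := by
  by_contra hne
  set A : Subgroup G := T ⊓ Subgroup.normalizer (Q : Set G) with hA
  have hAT : A < T := by
    refine lt_of_le_of_ne inf_le_left (fun h => hne ?_)
    rw [← h]; exact inf_le_right
  obtain ⟨t, htT, htN, htA⟩ := exists_mem_normalizer_not_mem hT hAT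
  have hQA : Q ≤ A := le_inf hQT Subgroup.le_normalizer
  have hAt : A.map (MulAut.conj t).toMonoidHom = A := map_conj_eq_iff_mem_normalizer.mpr htN
  have h1 : Q.map (MulAut.conj t).toMonoidHom ≤ Subgroup.normalizer (Q : Set G) :=
    calc Q.map (MulAut.conj t).toMonoidHom ≤ A.map (MulAut.conj t).toMonoidHom :=
          Subgroup.map_mono hQA
      _ = A := hAt
      _ ≤ Subgroup.normalizer (Q : Set G) := inf_le_right
  have h2 : Q ≤ Subgroup.normalizer ((Q.map (MulAut.conj t).toMonoidHom : Subgroup G) : Set G) := by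
    rw [Cfsg.Agent.Lib.Helper85.normalizer_map_conj]
    calc Q ≤ A := hQA
      _ = A.map (MulAut.conj t).toMonoidHom := hAt.symm
      _ ≤ (Subgroup.normalizer (Q : Set G)).map (MulAut.conj t).toMonoidHom :=
          Subgroup.map_mono inf_le_right
  have h3 := hP1 t (le_inf (commutator_le_of_le_normalizer h1) (commutator_le_of_le_normalizer' h2))
  exact htA ⟨htT, map_conj_eq_iff_mem_normalizer.mp h3⟩

theorem weaklyClosed_of_P1 [Finite G] {p : ℕ} [Fact p.Prime] {Q : Subgroup G} (hQp : IsPGroup p Q)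
    (hP1 : ∀ g : G, ⁅Q, Q.map (MulAut.conj g).toMonoidHom⁆ ≤ Q ⊓ Q.map (MulAut.conj g).toMonoidHom →
      Q.map (MulAut.conj g).toMonoidHom = Q) : Cfsg.IsWeaklyClosedSubgroup p Q := by
  obtain ⟨T, hQT⟩ := hQp.exists_le_sylow
  refine ⟨T, hQT, fun g hg => ?_⟩
  apply hP1 g
  have h1 : (T : Subgroup G) ≤ Subgroup.normalizer (Q : Set G) := le_normalizer_of_P1 hP1 T.2 hQT
  have h2 : Q ≤ (T : Subgroup G).map (MulAut.conj g⁻¹).toMonoidHom := by
    have := map_conj_mono hg g⁻¹
    rwa [map_conj_inv_map_conj] at this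
  have h3 : (T : Subgroup G).map (MulAut.conj g⁻¹).toMonoidHom ≤ Subgroup.normalizer (Q : Set G) :=
    le_normalizer_of_P1 hP1 (isPGroup_map_conj T.2 g⁻¹) h2
  have h4 : (T : Subgroup G) ≤
      Subgroup.normalizer ((Q.map (MulAut.conj g).toMonoidHom : Subgroup G) : Set G) := by
    rw [Cfsg.Agent.Lib.Helper85.normalizer_map_conj]
    have := map_conj_mono h3 g
    rwa [Cfsg.Agent.Lib.Helper85.map_conj_map_conj, mul_inv_cancel, map_conj_one] at this
  exact le_inf (commutator_le_of_le_normalizer (hg.trans h1))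
    (commutator_le_of_le_normalizer' (hQT.trans h4))

theorem weaklyClosed_of_P2 [Finite G] {p : ℕ} [Fact p.Prime] {Q : Subgroup G} (hQp : IsPGroup p Q)
    (hP2 : ∀ R : Subgroup G, IsPGroup p R → Q ≤ R →
      Subgroup.normalizer (R : Set G) ≤ Subgroup.normalizer (Q : Set G)) :
    Cfsg.IsWeaklyClosedSubgroup p Q := by
  obtain ⟨S, hQS⟩ := hQp.exists_le_sylow
  refine ⟨S, hQS, fun g hgS => ?_⟩
  rw [map_conj_eq_iff_mem_normalizer]
  have hN1 : Subgroup.normalizer ((S : Subgroup G) : Set G) ≤ Subgroup.normalizer (Q : Set G) :=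
    hP2 S S.2 hQS
  set S' := (S : Subgroup G).map (MulAut.conj g⁻¹).toMonoidHom with hS'
  have hQS' : Q ≤ S' := by
    have := map_conj_mono hgS g⁻¹
    rwa [map_conj_inv_map_conj] at this
  have hS'p : IsPGroup p S' := isPGroup_map_conj S.2 g⁻¹
  have hS'N : S' ≤ Subgroup.normalizer (Q : Set G) :=
    Subgroup.le_normalizer.trans (hP2 S' hS'p hQS')
  have hSN : (S : Subgroup G) ≤ Subgroup.normalizer (Q : Set G) := Subgroup.le_normalizer.trans hN1
  have hidx' : S'.index = (S : Subgroup G).index :=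
    Subgroup.index_map_equiv (S : Subgroup G) (MulAut.conj g⁻¹)
  have hi1 : ¬ p ∣ S'.relIndex (Subgroup.normalizer (Q : Set G)) := fun h =>
    S.not_dvd_index (hidx' ▸ h.trans (Subgroup.relIndex_dvd_index_of_le hS'N))
  have hi2 : ¬ p ∣ (S : Subgroup G).relIndex (Subgroup.normalizer (Q : Set G)) := fun h =>
    S.not_dvd_index (h.trans (Subgroup.relIndex_dvd_index_of_le hSN))
  obtain ⟨k, hk, hkS⟩ := Cfsg.Agent.Lib.Helper63.exists_conj_eq_of_relIndex
    (Subgroup.normalizer (Q : Set G)) S' (S : Subgroup G) hS'N hSN hS'p S.2 hi1 hi2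
  rw [hS', Cfsg.Agent.Lib.Helper85.map_conj_map_conj] at hkS
  have hkg : k * g⁻¹ ∈ Subgroup.normalizer ((S : Subgroup G) : Set G) :=
    map_conj_eq_iff_mem_normalizer.mp hkS.symm
  have hkgQ : k * g⁻¹ ∈ Subgroup.normalizer (Q : Set G) := hN1 hkg
  have : g⁻¹ ∈ Subgroup.normalizer (Q : Set G) := by
    have := (Subgroup.normalizer (Q : Set G)).mul_mem
      ((Subgroup.normalizer (Q : Set G)).inv_mem hk) hkgQ
    simpa using this
  simpa using (Subgroup.normalizer (Q : Set G)).inv_mem this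

end Aux

/-- For a nontrivial p-subgroup Q of a finite group H the following are equivalent: Q is a weakly closed subgroup (it is the only H-conjugate of itself inside some Sylow p-subgroup containing it); Q = P for every conjugate P of Q with [Q, P] ≤ Q ∩ P; Q is normal in N_H(R) for every p-subgroup R of H containing Q. -/
theorem result {H : Type*} [Group H] [Finite H] {p : ℕ} [Fact p.Prime] (Q : Subgroup H) (hQp : IsPGroup p ↥Q) (hQ1 : Q ≠ ⊥) : (Cfsg.IsWeaklyClosedSubgroup p Q ↔ ∀ g : H, ⁅Q, ((Q : Subgroup H).map (MulAut.conj (g : H)).toMonoidHom)⁆ ≤ Q ⊓ ((Q : Subgroup H).map (MulAut.conj (g : H)).toMonoidHom) → ((Q : Subgroup H).map (MulAut.conj (g : H)).toMonoidHom) = Q) ∧ (Cfsg.IsWeaklyClosedSubgroup p Q ↔ ∀ R : Subgroup H, IsPGroup p ↥R → Q ≤ R → Subgroup.normalizer ((R : Subgroup H) : Set H) ≤ Subgroup.normalizer ((Q : Subgroup H) : Set H)) := by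
  have hW1 : Cfsg.IsWeaklyClosedSubgroup p Q → ∀ g : H,
      ⁅Q, Q.map (MulAut.conj g).toMonoidHom⁆ ≤ Q ⊓ Q.map (MulAut.conj g).toMonoidHom →
      Q.map (MulAut.conj g).toMonoidHom = Q := by
    intro hwc g hg
    have hW := Cfsg.Agent.S2840.wc_of_weaklyClosed hwc
    have h1 : Q.map (MulAut.conj g).toMonoidHom ≤ Subgroup.normalizer (Q : Set H) :=
      le_normalizer_of_commutator_le (hg.trans inf_le_left)
    have hR : IsPGroup p (Q.map (MulAut.conj g).toMonoidHom ⊔ Q : Subgroup H) :=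
      (Cfsg.Agent.Lib.Helper20.isPGroup_map_conj hQp g).to_sup_of_normal_right' hQp h1
    exact hW _ hR le_sup_right g le_sup_left
  have hW2 : Cfsg.IsWeaklyClosedSubgroup p Q → ∀ R : Subgroup H, IsPGroup p ↥R → Q ≤ R →
      Subgroup.normalizer (R : Set H) ≤ Subgroup.normalizer (Q : Set H) := by
    intro hwc R hR hQR x hx
    have hW := Cfsg.Agent.S2840.wc_of_weaklyClosed hwc
    rw [← Cfsg.Agent.Lib.Helper20.map_conj_eq_iff_mem_normalizer]
    apply hW R hR hQR x
    calc Q.map (MulAut.conj x).toMonoidHom ≤ R.map (MulAut.conj x).toMonoidHom :=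
          Subgroup.map_mono hQR
      _ = R := Cfsg.Agent.Lib.Helper20.map_conj_eq_iff_mem_normalizer.mpr hx
  exact ⟨⟨hW1, weaklyClosed_of_P1 hQp⟩, ⟨hW2, weaklyClosed_of_P2 hQp⟩⟩

end Cfsg.Agent.S2838
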