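import Cfsg.Statements.S2835
import Mathlib
import Cfsg.Agent.S2838
-- import your own Cfsg.Agent.* helpers here

set_option autoImplicit false
open Cfsg

namespace Cfsg.Agent.S2835

/-- Let L be a finite group, L₀ a maximal subgroup, T a Sylow p-subgroup of L₀ and Y ≤ T, and suppose L is Y-minimal (generated by the conjugates of Y, with Y in exactly one maximal subgroup, necessarily L₀). Then N_L(T) ≤ L₀, O_p(L) ≤ L₀ and T is a Sylow p-subgroup of L; N_L(L₀) = L₀; L = ⟨Y, gYg⁻¹⟩ for each g ∈ L outside L₀; and if Y is abelian then Y ∩ gYg⁻¹ = C_Y(L) for each such g. -/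
theorem result {L : Type*} [Group L] [Finite L] {p : ℕ} [Fact p.Prime] (L₀ : Subgroup L) (hL₀ : IsCoatom L₀) (T : Sylow p ↥L₀) (Y : Subgroup L) (hYT : Y ≤ (T : Subgroup ↥L₀).map L₀.subtype) (hmin : Cfsg.IsMinimalOver Y) : Subgroup.normalizer (((T : Subgroup ↥L₀).map L₀.subtype : Subgroup L) : Set L) ≤ L₀ ∧ Cfsg.pCore p L ≤ L₀ ∧ (∃ P : Sylow p L, (P : Subgroup L) = (T : Subgroup ↥L₀).map L₀.subtype) ∧ Subgroup.normalizer (L₀ : Set L) = L₀ ∧ (∀ g : L, g ∉ L₀ → Y ⊔ Y.map (MulAut.conj g).toMonoidHom = ⊤) ∧ (IsMulCommutative ↥Y → ∀ g : L, g ∉ L₀ → Y ⊓ Y.map (MulAut.conj g).toMonoidHom = Y ⊓ Subgroup.center L) := by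
  classical
  obtain ⟨hnc, M₀, ⟨hM₀c, hM₀Y⟩, huniq⟩ := hmin
  set T' : Subgroup L := (T : Subgroup ↥L₀).map L₀.subtype with hT'
  have hT'L₀ : T' ≤ L₀ := Subgroup.map_subtype_le _
  have hYL₀ : Y ≤ L₀ := hYT.trans hT'L₀
  have hT'p : IsPGroup p T' := T.isPGroup'.map _
  -- (C) proper subgroups containing Y lie in L₀
  have hC : ∀ X : Subgroup L, X ≠ ⊤ → Y ≤ X → X ≤ L₀ := by
    intro X hX hYX
    rcases eq_top_or_exists_le_coatom X with h | ⟨M, hM, hXM⟩
    · exact absurd h hX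
    · have h1 : M = M₀ := huniq M ⟨hM, hYX.trans hXM⟩
      have h2 : L₀ = M₀ := huniq L₀ ⟨hL₀, hYL₀⟩
      rw [h2, ← h1]; exact hXM
  -- (NC) normal subgroups containing Y are everything
  have hNC : ∀ N : Subgroup L, N.Normal → Y ≤ N → N = ⊤ := by
    intro N hN hYN
    rw [eq_top_iff, ← hnc]
    exact Subgroup.normalClosure_le_normal hYN
  have hL₀top : L₀ ≠ ⊤ := hL₀.1
  -- 1
  have h1 : Subgroup.normalizer (T' : Set L) ≤ L₀ := by
    apply hC
    · intro htop
      have hn : T'.Normal := Subgroup.normalizer_eq_top_iff.mp htop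
      have := hNC T' hn hYT
      apply hL₀top
      rw [eq_top_iff, ← this]; exact hT'L₀
    · exact hYT.trans Subgroup.le_normalizer
  -- 3
  have h3 : ∃ P : Sylow p L, (P : Subgroup L) = T' := by
    obtain ⟨P, hP⟩ := hT'p.exists_le_sylow
    refine ⟨P, ?_⟩
    by_contra hne
    have hlt : T' < (P : Subgroup L) := lt_of_le_of_ne hP (fun h => hne h.symm)
    obtain ⟨t, htP, htN, htT⟩ := Cfsg.Agent.S2838.exists_mem_normalizer_not_mem P.isPGroup' hlt
    set R : Subgroup L := (P : Subgroup L) ⊓ Subgroup.normalizer (T' : Set L) with hR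
    have hRp : IsPGroup p R := P.isPGroup'.to_le inf_le_left
    have hRL₀ : R ≤ L₀ := inf_le_right.trans h1
    have hR' : IsPGroup p (R.subgroupOf L₀) := hRp.comap_subtype
    have hTR : (T : Subgroup ↥L₀) ≤ R.subgroupOf L₀ := by
      intro x hx
      rw [Subgroup.mem_subgroupOf]
      have hx' : (x : L) ∈ T' := ⟨x, hx, rfl⟩
      exact ⟨hP hx', Subgroup.le_normalizer hx'⟩
    have heq := T.is_maximal' hR' hTR
    have htR : t ∈ R := ⟨htP, htN⟩
    have : (⟨t, hRL₀ htR⟩ : ↥L₀) ∈ R.subgroupOf L₀ := by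
      rw [Subgroup.mem_subgroupOf]; exact htR
    rw [heq] at this
    exact htT ⟨⟨t, hRL₀ htR⟩, this, rfl⟩
  -- 4
  have h4 : Subgroup.normalizer (L₀ : Set L) = L₀ := by
    symm
    apply eq_of_le_of_not_lt Subgroup.le_normalizer
    intro hlt
    have htop := hL₀.2 _ hlt
    have hn : L₀.Normal := Subgroup.normalizer_eq_top_iff.mp htop
    exact hL₀top (hNC L₀ hn hYL₀)
  -- 5
  have h5 : ∀ g : L, g ∉ L₀ → Y ⊔ Y.map (MulAut.conj g).toMonoidHom = ⊤ := by
    intro g hg
    by_contra hX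
    have hXL₀ := hC _ hX le_sup_left
    have hYg : Y.map (MulAut.conj g).toMonoidHom ≤ L₀ := le_sup_right.trans hXL₀
    have hYg' : Y ≤ L₀.map (MulAut.conj g⁻¹).toMonoidHom := by
      have := Cfsg.Agent.Lib.Helper85.map_conj_mono hYg g⁻¹
      rwa [Cfsg.Agent.Lib.Helper85.map_conj_inv_map_conj] at this
    have hcard : Nat.card (L₀.map (MulAut.conj g⁻¹).toMonoidHom) = Nat.card L₀ :=
      Cfsg.Agent.Lib.Helper20.card_map_conj L₀ g⁻¹
    have hne : L₀.map (MulAut.conj g⁻¹).toMonoidHom ≠ ⊤ := by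
      intro htop
      apply hL₀top
      apply Subgroup.eq_top_of_card_eq
      rw [← hcard, htop, Subgroup.card_top]
    have hle := hC _ hne hYg'
    have heq : L₀.map (MulAut.conj g⁻¹).toMonoidHom = L₀ :=
      Subgroup.eq_of_le_of_card_ge hle hcard.ge
    have hmem : g⁻¹ ∈ Subgroup.normalizer (L₀ : Set L) :=
      Cfsg.Agent.Lib.Helper20.map_conj_eq_iff_mem_normalizer.mp heq
    rw [h4] at hmem
    exact hg (by simpa using L₀.inv_mem hmem)
  refine ⟨h1, ?_, h3, h4, h5, ?_⟩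
  · obtain ⟨P, hP⟩ := h3
    calc Cfsg.pCore p L ≤ P := Cfsg.Agent.Lib.Helper46.pCore_le_sylow P
      _ = T' := hP
      _ ≤ L₀ := hT'L₀
  · intro hYc g hg
    apply le_antisymm
    · intro x hx
      refine ⟨hx.1, ?_⟩
      have hcent : (⊤ : Subgroup L) ≤ Subgroup.centralizer ({x} : Set L) := by
        rw [← h5 g hg]
        apply sup_le
        · intro y hy
          rw [Subgroup.mem_centralizer_singleton_iff]
          have := hYc.is_comm.comm ⟨y, hy⟩ ⟨x, hx.1⟩
          exact congrArg Subtype.val this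
        · rintro _ ⟨y, hy, rfl⟩
          obtain ⟨x', hx', hxx'⟩ := hx.2
          rw [Subgroup.mem_centralizer_singleton_iff, ← hxx']
          have := hYc.is_comm.comm ⟨y, hy⟩ ⟨x', hx'⟩
          have h' : y * x' = x' * y := congrArg Subtype.val this
          simp only [MulEquiv.coe_toMonoidHom, MulAut.conj_apply]
          calc g * y * g⁻¹ * (g * x' * g⁻¹) = g * (y * x') * g⁻¹ := by group
            _ = g * (x' * y) * g⁻¹ := by rw [h']
            _ = g * x' * g⁻¹ * (g * y * g⁻¹) := by group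
      change x ∈ Subgroup.center L
      rw [Subgroup.mem_center_iff]
      intro z
      have := hcent (Subgroup.mem_top z)
      rw [Subgroup.mem_centralizer_singleton_iff] at this
      exact this
    · intro x hx
      refine ⟨hx.1, x, hx.1, ?_⟩
      have := Subgroup.mem_center_iff.mp hx.2 g
      simp only [MulEquiv.coe_toMonoidHom, MulAut.conj_apply]
      rw [this, mul_inv_cancel_right]

end Cfsg.Agent.S2835
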