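import Cfsg.Statements.S2836
-- import your own Cfsg.Agent.* helpers here
import Cfsg.Agent.S2835
import Cfsg.Agent.Lib.Helper47.PClosed
import Cfsg.Agent.Lib.Helper47.WeaklyClosed
import Cfsg.Agent.Lib.Helper47.Commutator

set_option autoImplicit false
open Cfsg

namespace Cfsg.Agent.S2836

open Cfsg.Agent.Lib.Helper47

variable {G : Type*} [Group G]

/-- A subgroup of index prime to `p` contains a conjugate of every `p`-subgroup. -/
theorem exists_conj_le_of_not_dvd_index [Finite G] {p : ℕ} [Fact p.Prime] {P : Subgroup G}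
    (hP : IsPGroup p ↥P) (X : Subgroup G) (h : ¬ p ∣ X.index) :
    ∃ g : G, P.map (MulAut.conj g).toMonoidHom ≤ X := by
  have hne := hP.nonempty_fixed_point_of_prime_not_dvd_card (G ⧸ X)
    (by rwa [← Subgroup.index_eq_card])
  obtain ⟨a, ha⟩ := hne
  induction a using QuotientGroup.induction_on with
  | H g =>
    refine ⟨g⁻¹, ?_⟩
    rintro _ ⟨u, hu, rfl⟩
    have h1 := ha ⟨u, hu⟩
    have h2 : ((u * g : G) : G ⧸ X) = (g : G ⧸ X) := h1
    rw [QuotientGroup.eq] at h2
    have h3 : g⁻¹ * u * g ∈ X := by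
      have := X.inv_mem h2
      simpa [mul_assoc] using this
    simpa using h3

section core

variable [Finite G] {p : ℕ} [Fact p.Prime] {L₀ Y : Subgroup G} (P : Sylow p G)

/-- Frattini: a normal subgroup `N ≤ L₀` meets `P` in a normal subgroup of `G`. -/
theorem inf_normal (hL₀ : L₀ ≠ ⊤) (hYP : Y ≤ (P : Subgroup G))
    (hC : ∀ X : Subgroup G, X ≠ ⊤ → Y ≤ X → X ≤ L₀) (N : Subgroup G) [hN : N.Normal]
    (hNL : N ≤ L₀) : ((P : Subgroup G) ⊓ N).Normal := by
  obtain ⟨Q, hQ⟩ := exists_sylow_eq_subgroupOf_of_normal P N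
  have hfr := Sylow.normalizer_sup_eq_top Q
  rw [hQ, Subgroup.subgroupOf_map_subtype] at hfr
  rw [← Subgroup.normalizer_eq_top_iff]
  by_contra hne
  have hPn : (P : Subgroup G) ≤ Subgroup.normalizer (((P : Subgroup G) ⊓ N : Subgroup G) : Set G) := by
    intro x hx
    rw [Subgroup.mem_normalizer_iff]
    intro u
    rw [Subgroup.mem_inf, Subgroup.mem_inf]
    constructor
    · rintro ⟨h1, h2⟩
      exact ⟨Subgroup.mul_mem _ (Subgroup.mul_mem _ hx h1) (Subgroup.inv_mem _ hx),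
        hN.conj_mem u h2 x⟩
    · rintro ⟨h1, h2⟩
      refine ⟨?_, ?_⟩
      · have := Subgroup.mul_mem _ (Subgroup.mul_mem _ (Subgroup.inv_mem _ hx) h1) hx
        simpa [mul_assoc] using this
      · have := hN.conj_mem _ h2 x⁻¹
        simpa [mul_assoc] using this
  have h1 := hC _ hne (hYP.trans hPn)
  apply hL₀
  rw [eq_top_iff, ← hfr]
  exact sup_le h1 hNL

/-- A normal subgroup `N ≤ L₀` is `p`-closed. -/
theorem isPClosed_of_normal (hL₀ : L₀ ≠ ⊤) (hYP : Y ≤ (P : Subgroup G))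
    (hC : ∀ X : Subgroup G, X ≠ ⊤ → Y ≤ X → X ≤ L₀) (N : Subgroup G) [hN : N.Normal]
    (hNL : N ≤ L₀) : IsPClosed p ↥N := by
  obtain ⟨Q, hQ⟩ := exists_sylow_eq_subgroupOf_of_normal P N
  have hn := inf_normal P hL₀ hYP hC N hNL
  apply isPClosed_of_normal_sylow Q
  rw [hQ]
  have : (P : Subgroup G).subgroupOf N = ((P : Subgroup G) ⊓ N).subgroupOf N := by
    rw [Subgroup.inf_subgroupOf_right]
  rw [this]
  exact hn.subgroupOf N

/-- `P ∩ N = O_p(G) ∩ N` for normal `N ≤ L₀`. -/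
theorem inf_eq_pCore_inf (hL₀ : L₀ ≠ ⊤) (hYP : Y ≤ (P : Subgroup G))
    (hC : ∀ X : Subgroup G, X ≠ ⊤ → Y ≤ X → X ≤ L₀) (N : Subgroup G) [hN : N.Normal]
    (hNL : N ≤ L₀) : (P : Subgroup G) ⊓ N = pCore p G ⊓ N := by
  apply le_antisymm
  · apply le_inf _ inf_le_right
    exact le_pCore (inf_normal P hL₀ hYP hC N hNL) (P.isPGroup'.to_le inf_le_left)
  · exact inf_le_inf_right _ (pCore_le_sylow P)

theorem index_eq_relIndex_of_sup_eq_top (D X : Subgroup G) [D.Normal]
    (h : D ⊔ X = ⊤) : X.index = X.relIndex D := by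
  have h1 : D.relIndex X = D.index := by
    have := Subgroup.relIndex_sup_left (K := D) (H := X)
    rw [h, Subgroup.relIndex_top_right] at this
    exact this.symm
  have h2 : Nat.card ↥(D ⊓ X) * (D ⊓ X).relIndex X = Nat.card ↥X := by
    have := Subgroup.relIndex_mul_relIndex ⊥ (D ⊓ X) X bot_le inf_le_right
    simpa using this
  have h3 : Nat.card ↥(D ⊓ X) * (D ⊓ X).relIndex D = Nat.card ↥D := by
    have := Subgroup.relIndex_mul_relIndex ⊥ (D ⊓ X) D bot_le inf_le_left
    simpa using this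
  have h4 := Subgroup.card_mul_index X
  have h5 := Subgroup.card_mul_index D
  rw [Subgroup.inf_relIndex_right, h1] at h2
  rw [Subgroup.inf_relIndex_left] at h3
  have hpos : 0 < Nat.card ↥(D ⊓ X) * D.index := by
    apply Nat.mul_pos Nat.card_pos
    exact Nat.pos_of_ne_zero Subgroup.index_ne_zero_of_finite
  apply Nat.eq_of_mul_eq_mul_left hpos
  calc Nat.card ↥(D ⊓ X) * D.index * X.index = Nat.card ↥X * X.index := by rw [h2]
    _ = Nat.card G := h4
    _ = Nat.card ↥D * D.index := h5.symm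
    _ = Nat.card ↥(D ⊓ X) * X.relIndex D * D.index := by rw [h3]
    _ = Nat.card ↥(D ⊓ X) * D.index * X.relIndex D := by ring

/-- The index of `O_p(G)` in a normal subgroup `D ≤ L₀` containing it is prime to `p`. -/
theorem not_dvd_relIndex (hL₀ : L₀ ≠ ⊤) (hYP : Y ≤ (P : Subgroup G))
    (hC : ∀ X : Subgroup G, X ≠ ⊤ → Y ≤ X → X ≤ L₀) (D : Subgroup G) [hD : D.Normal]
    (hDL : D ≤ L₀) : ¬ p ∣ (pCore p G).relIndex D := by
  obtain ⟨Q, hQ⟩ := exists_sylow_eq_subgroupOf_of_normal P D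
  have h1 := Q.not_dvd_index
  have h2 : (Q : Subgroup ↥D) = (pCore p G).subgroupOf D := by
    rw [hQ, ← Subgroup.inf_subgroupOf_right (P : Subgroup G) D,
      inf_eq_pCore_inf P hL₀ hYP hC D hDL, Subgroup.inf_subgroupOf_right]
  rw [h2] at h1
  exact h1

/-- The image of a normal subgroup `D ≤ L₀` in `G / O_p(G)` lies in the Frattini subgroup. -/
theorem map_le_frattini (hL₀ : L₀ ≠ ⊤) (hYP : Y ≤ (P : Subgroup G))
    (hC : ∀ X : Subgroup G, X ≠ ⊤ → Y ≤ X → X ≤ L₀) (D : Subgroup G) [hD : D.Normal]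
    (hDL : D ≤ L₀) :
    D.map (QuotientGroup.mk' (pCore p G)) ≤ frattini (G ⧸ pCore p G) := by
  unfold frattini Order.radical
  apply le_iInf₂
  intro Xb hXb
  have hXc : IsCoatom (Xb.comap (QuotientGroup.mk' (pCore p G))) := isCoatom_comap_mk' _ hXb
  have hOX : pCore p G ≤ Xb.comap (QuotientGroup.mk' (pCore p G)) := le_comap_mk' _ _
  set X := Xb.comap (QuotientGroup.mk' (pCore p G)) with hX
  suffices hDX : D ≤ X by
    calc D.map (QuotientGroup.mk' (pCore p G)) ≤ X.map (QuotientGroup.mk' (pCore p G)) :=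
          Subgroup.map_mono hDX
      _ = Xb := map_comap_mk' _ _
  by_contra hDX
  have hsup : D ⊔ X = ⊤ := by
    apply hXc.2
    apply lt_of_le_of_ne le_sup_right
    intro h
    apply hDX
    rw [h]
    exact le_sup_left
  have hidx : X.index = X.relIndex D := index_eq_relIndex_of_sup_eq_top D X hsup
  have hdvd : X.relIndex D ∣ (pCore p G).relIndex D := Subgroup.relIndex_dvd_of_le_left D hOX
  have hO := not_dvd_relIndex P hL₀ hYP hC D hDL
  have hnd : ¬ p ∣ X.index := by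
    intro h
    rw [hidx] at h
    exact hO (dvd_trans h hdvd)
  obtain ⟨g, hg⟩ := exists_conj_le_of_not_dvd_index P.isPGroup' X hnd
  set X' := X.map (MulAut.conj g⁻¹).toMonoidHom with hX'
  have hPX' : (P : Subgroup G) ≤ X' := by
    have := Subgroup.map_mono (f := (MulAut.conj g⁻¹).toMonoidHom) hg
    rwa [map_conj_map_conj, inv_mul_cancel, map_conj_one] at this
  have hXX' : X = X'.map (MulAut.conj g).toMonoidHom := by
    rw [hX', map_conj_map_conj, mul_inv_cancel, map_conj_one]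
  have hX'top : X' ≠ ⊤ := by
    intro h
    apply hXc.1
    rw [hXX', h]
    exact Subgroup.map_top_of_surjective _ (MulAut.conj g).surjective
  have hX'L := hC X' hX'top (hYP.trans hPX')
  have hsup' : D ⊔ X' = ⊤ := by
    have := congrArg (Subgroup.map (MulAut.conj g⁻¹).toMonoidHom) hsup
    rw [Subgroup.map_sup, map_conj_eq_of_mem_normalizer
      (by rw [Subgroup.normalizer_eq_top_iff.mpr hD]; trivial),
      Subgroup.map_top_of_surjective _ (MulAut.conj g⁻¹).surjective] at this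
    exact this
  apply hL₀
  rw [eq_top_iff, ← hsup']
  exact sup_le hDL hX'L

end core

section final

variable [Finite G] {p : ℕ} [Fact p.Prime] {L₀ Y : Subgroup G} (P : Sylow p G)

/-- `O_p(N) = O_p(G) ∩ N` for normal `N ≤ L₀`. -/
theorem pCore_subgroup_eq (hL₀ : L₀ ≠ ⊤) (hYP : Y ≤ (P : Subgroup G))
    (hC : ∀ X : Subgroup G, X ≠ ⊤ → Y ≤ X → X ≤ L₀) (N : Subgroup G) [hN : N.Normal]
    (hNL : N ≤ L₀) : pCore p ↥N = (pCore p G).subgroupOf N := by
  apply le_antisymm
  · obtain ⟨Q, hQ⟩ := exists_sylow_eq_subgroupOf_of_normal P N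
    have h2 : (Q : Subgroup ↥N) = (pCore p G).subgroupOf N := by
      rw [hQ, ← Subgroup.inf_subgroupOf_right (P : Subgroup G) N,
        inf_eq_pCore_inf P hL₀ hYP hC N hNL, Subgroup.inf_subgroupOf_right]
    rw [← h2]
    exact pCore_le_sylow Q
  · apply le_pCore
    · exact Subgroup.Normal.subgroupOf inferInstance N
    · exact (pCore_isPGroup p G).comap_subtype

theorem nilpotent_quotient (hL₀ : L₀ ≠ ⊤) (hYP : Y ≤ (P : Subgroup G))
    (hC : ∀ X : Subgroup G, X ≠ ⊤ → Y ≤ X → X ≤ L₀) (N : Subgroup G) [hN : N.Normal]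
    (hNL : N ≤ L₀) :
    Group.IsNilpotent (↥N ⧸ pCore p ↥N) ∧ (Nat.card (↥N ⧸ pCore p ↥N)).Coprime p := by
  have hcore := pCore_subgroup_eq P hL₀ hYP hC N hNL
  constructor
  · -- the map `N → G ⧸ O_p(G)`
    set f : ↥N →* G ⧸ pCore p G := (QuotientGroup.mk' (pCore p G)).comp N.subtype with hf
    have hker : f.ker = pCore p ↥N := by
      rw [hcore]
      ext x
      rw [MonoidHom.mem_ker, Subgroup.mem_subgroupOf, hf, MonoidHom.comp_apply,
        QuotientGroup.mk'_apply, QuotientGroup.eq_one_iff]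
      rfl
    have hle : pCore p ↥N ≤ f.ker := hker.ge
    set F := QuotientGroup.lift (pCore p ↥N) f hle with hF
    have hFinj : Function.Injective F := by
      rw [← MonoidHom.ker_eq_bot_iff, hF, QuotientGroup.ker_lift, hker]
      exact map_mk'_self _
    have hFr : ∀ x, F x ∈ frattini (G ⧸ pCore p G) := by
      intro x
      induction x using QuotientGroup.induction_on with
      | H n =>
        apply map_le_frattini P hL₀ hYP hC N hNL
        exact ⟨(n : G), n.2, rfl⟩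
    set F' : ↥N ⧸ pCore p ↥N →* ↥(frattini (G ⧸ pCore p G)) :=
      F.codRestrict (frattini (G ⧸ pCore p G)) hFr with hF'
    have hF'inj : Function.Injective F' := by
      intro a b hab
      apply hFinj
      have := congrArg Subtype.val hab
      exact this
    have hnil : Group.IsNilpotent ↥(frattini (G ⧸ pCore p G)) := frattini_nilpotent
    have hnil2 : Group.IsNilpotent ↥F'.range := inferInstance
    exact Group.nilpotent_of_mulEquiv (MonoidHom.ofInjective hF'inj).symm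
  · obtain ⟨Q, hQ⟩ := exists_sylow_eq_subgroupOf_of_normal P N
    have h2 : (Q : Subgroup ↥N) = pCore p ↥N := by
      rw [hcore, hQ, ← Subgroup.inf_subgroupOf_right (P : Subgroup G) N,
        inf_eq_pCore_inf P hL₀ hYP hC N hNL, Subgroup.inf_subgroupOf_right]
    have h1 := Q.not_dvd_index
    rw [h2, Subgroup.index_eq_card] at h1
    exact ((Nat.Prime.coprime_iff_not_dvd Fact.out).mpr h1).symm

end final

/-- Let L be a finite group, L₀ a maximal subgroup, T a Sylow p-subgroup of L₀, Y ≤ T, and suppose L is Y-minimal. Let D be the intersection of the conjugates of L₀ (the core of L₀). Then D contains O_p(L) and D/O_p(L) is the Frattini subgroup of L/O_p(L), so D is p-closed; and every normal subgroup N of L contained in L₀ is p-closed with N/O_p(N) a nilpotent group of order prime to p. -/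
theorem result {L : Type*} [Group L] [Finite L] {p : ℕ} [Fact p.Prime] (L₀ : Subgroup L) (hL₀ : IsCoatom L₀) (T : Sylow p ↥L₀) (Y : Subgroup L) (hYT : Y ≤ (T : Subgroup ↥L₀).map L₀.subtype) (hmin : Cfsg.IsMinimalOver Y) : (Cfsg.pCore p L ≤ L₀.normalCore ∧ (L₀.normalCore).map (QuotientGroup.mk' (Cfsg.pCore p L)) = frattini (L ⧸ Cfsg.pCore p L) ∧ Cfsg.IsPClosed p ↥(L₀.normalCore)) ∧ ∀ (N : Subgroup L) [N.Normal], N ≤ L₀ → Cfsg.IsPClosed p ↥N ∧ Group.IsNilpotent (↥N ⧸ Cfsg.pCore p ↥N) ∧ (Nat.card (↥N ⧸ Cfsg.pCore p ↥N)).Coprime p := by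
  obtain ⟨h1, h2, ⟨P, hP⟩, -, -, -⟩ := Cfsg.Agent.S2835.result L₀ hL₀ T Y hYT hmin
  obtain ⟨hnc, M₀, ⟨hM₀c, hM₀Y⟩, huniq⟩ := hmin
  have hPL₀ : (P : Subgroup L) ≤ L₀ := by rw [hP]; exact Subgroup.map_subtype_le _
  have hYP : Y ≤ (P : Subgroup L) := by rw [hP]; exact hYT
  have hYL₀ : Y ≤ L₀ := hYP.trans hPL₀
  have hC : ∀ X : Subgroup L, X ≠ ⊤ → Y ≤ X → X ≤ L₀ := by
    intro X hX hYX
    rcases eq_top_or_exists_le_coatom X with h | ⟨M, hM, hXM⟩
    · exact absurd h hX
    · have h1 : M = M₀ := huniq M ⟨hM, hYX.trans hXM⟩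
      have h2 : L₀ = M₀ := huniq L₀ ⟨hL₀, hYL₀⟩
      rw [h2, ← h1]; exact hXM
  have hL₀top : L₀ ≠ ⊤ := hL₀.1
  have hDn : (L₀.normalCore).Normal := Subgroup.normalCore_normal L₀
  have hDL : L₀.normalCore ≤ L₀ := Subgroup.normalCore_le L₀
  have hOD : Cfsg.pCore p L ≤ L₀.normalCore := Subgroup.normal_le_normalCore.mpr h2
  refine ⟨⟨hOD, ?_, isPClosed_of_normal P hL₀top hYP hC _ hDL⟩, ?_⟩
  · apply le_antisymm (map_le_frattini P hL₀top hYP hC _ hDL)
    have hco : IsCoatom (L₀.map (QuotientGroup.mk' (Cfsg.pCore p L))) := isCoatom_map_mk' _ hL₀ h2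
    have h3 : frattini (L ⧸ Cfsg.pCore p L) ≤ L₀.map (QuotientGroup.mk' (Cfsg.pCore p L)) :=
      frattini_le_coatom hco
    have h4 : (frattini (L ⧸ Cfsg.pCore p L)).comap (QuotientGroup.mk' (Cfsg.pCore p L)) ≤ L₀ := by
      have := Subgroup.comap_mono (f := QuotientGroup.mk' (Cfsg.pCore p L)) h3
      rwa [comap_map_mk' _ h2] at this
    have hn : ((frattini (L ⧸ Cfsg.pCore p L)).comap (QuotientGroup.mk' (Cfsg.pCore p L))).Normal :=
      Subgroup.Normal.comap inferInstance _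
    have h5 := Subgroup.normal_le_normalCore.mpr h4
    calc frattini (L ⧸ Cfsg.pCore p L)
        = ((frattini (L ⧸ Cfsg.pCore p L)).comap (QuotientGroup.mk' (Cfsg.pCore p L))).map
            (QuotientGroup.mk' (Cfsg.pCore p L)) := (map_comap_mk' _ _).symm
      _ ≤ _ := Subgroup.map_mono h5
  · intro N hN hNL
    exact ⟨isPClosed_of_normal P hL₀top hYP hC N hNL, nilpotent_quotient P hL₀top hYP hC N hNL⟩

end Cfsg.Agent.S2836
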