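import Mathlib
import Cfsg.Statements.S0108
import Cfsg.Agent.Lib.Lead.Thompson.Local
import Cfsg.Agent.Lib.Lead.Thompson.Main2
import Cfsg.Agent.Lib.Helper97.OmegaOne
-- import your own Cfsg.Agent.* helpers here

set_option autoImplicit false
open Cfsg

namespace Cfsg.Agent.S0108


open Cfsg.Agent.Lib.Helper97 Cfsg.Agent.Lib.Helper34 Cfsg.Agent.Lib.Lead.Thompson

universe u

theorem isCharPFunctor_thompson (p : ℕ) [Fact p.Prime] :
    IsCharPFunctor.{u} p (fun (Q : Type u) [Group Q] => thompsonSubgroup p Q) := by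
  refine ⟨fun Q _ _ hQ hnt => ?_, fun Q R _ _ _ hQ φ => thompsonSubgroup_map_equiv φ p⟩
  apply thompsonSubgroup_ne_bot
  obtain ⟨n, hn⟩ := hQ.exists_card_eq
  rcases n with _ | n
  · exfalso
    rw [pow_zero] at hn
    have := Finite.one_lt_card (α := Q)
    omega
  · rw [hn]
    exact dvd_pow_self p (Nat.succ_ne_zero n)

theorem isCharPFunctor_center (p : ℕ) [Fact p.Prime] :
    IsCharPFunctor.{u} p (fun (Q : Type u) [Group Q] => Subgroup.center Q) := by
  refine ⟨fun Q _ _ hQ hnt => ?_, fun Q R _ _ _ hQ φ => center_map_equiv φ⟩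
  have := hQ.center_nontrivial
  exact (Subgroup.nontrivial_iff_ne_bot _).mp this

theorem inducedFunctor_center {G : Type u} [Group G] (P : Subgroup G) :
    inducedFunctor (fun (Q : Type u) [Group Q] => Subgroup.center Q) P =
      P ⊓ Subgroup.centralizer (P : Set G) := by
  unfold inducedFunctor
  ext x
  constructor
  · rintro ⟨⟨z, hz⟩, hzc, rfl⟩
    refine ⟨hz, ?_⟩
    show z ∈ Subgroup.centralizer (P : Set G)
    rw [Subgroup.mem_centralizer_iff]
    intro y hy
    have hzc' : (⟨z, hz⟩ : ↥P) ∈ Subgroup.center ↥P := hzc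
    have := Subgroup.mem_center_iff.mp hzc' ⟨y, hy⟩
    exact congrArg Subtype.val this
  · rintro ⟨hxP, hxc⟩
    refine ⟨⟨x, hxP⟩, ?_, rfl⟩
    show (⟨x, hxP⟩ : ↥P) ∈ Subgroup.center ↥P
    rw [Subgroup.mem_center_iff]
    rintro ⟨y, hy⟩
    apply Subtype.ext
    exact Subgroup.mem_centralizer_iff.mp hxc y hy

theorem main {G : Type u} [Group G] [Finite G] {p : ℕ} [Fact p.Prime] (hp : p ≠ 2) (P : Sylow p G)
    (hN : HasNormalPComplement p
      (Subgroup.normalizer (thompsonSubgroupOf p (P : Subgroup G) : Set G)))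
    (hCz : HasNormalPComplement p (Subgroup.centralizer
      (((P : Subgroup G) ⊓ Subgroup.centralizer (P : Set G)) : Set G))) :
    HasNormalPComplement p G := by
  have hJ := isCharPFunctor_thompson.{u} p
  have hZf := isCharPFunctor_center.{u} p
  refine thompson_main2 hJ hZf ?_ _ G rfl ?_
  · intro Y _ _ hC hQ T hT hZ
    rw [inducedFunctor_center] at hZ
    exact thompson_local hp hC hQ T hT hZ
  · intro S
    refine ⟨hasNPC_normalizer_all_sylow hJ P hN S, hasNPC_centralizer_all_sylow hZf P ?_ S⟩
    rw [inducedFunctor_center]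
    exact hCz

/-- The Thompson normal p-complement Theorem, in the form stating that for odd p, G has a normal p-complement exactly when the normalizer of the Thompson subgroup J(P) and the centralizer of the centre of P both have one. -/
theorem result {G : Type*} [Group G] [Finite G] {p : ℕ} [Fact p.Prime] (hp : p ≠ 2) (P : Sylow p G) : Cfsg.HasNormalPComplement p G ↔ (Cfsg.HasNormalPComplement p (Subgroup.normalizer (Cfsg.thompsonSubgroupOf p (P : Subgroup G) : Set G)) ∧ Cfsg.HasNormalPComplement p (Subgroup.centralizer (((P : Subgroup G) ⊓ Subgroup.centralizer (P : Set G)) : Set G))) := by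
  constructor
  · intro h
    exact ⟨hasNPC_of_injective (Subgroup.subtype _) (Subgroup.subtype_injective _) h,
      hasNPC_of_injective (Subgroup.subtype _) (Subgroup.subtype_injective _) h⟩
  · rintro ⟨hN, hCz⟩
    exact main hp P hN hCz

end Cfsg.Agent.S0108
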