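import Cfsg.Statements.S2800
-- import your own Cfsg.Agent.* helpers here
import Cfsg.Agent.S0108
import Cfsg.Agent.Lib.Helper47.ThompsonSkeleton
import Cfsg.Agent.Lib.Helper47.ThompsonALocalTwo

set_option autoImplicit false
open Cfsg

namespace Cfsg.Agent.S2800

open Cfsg.Agent.Lib.Helper47 Cfsg.Agent.Lib.Helper34 Cfsg.Agent.Lib.Lead.Thompson

universe u

/-- A group involved in a quotient is involved in the group. -/
theorem involves_of_quotient {H : Type*} [Group H] {Y : Type*} [Group Y] (N : Subgroup Y) [N.Normal]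
    (h : Involves H (Y ⧸ N)) : Involves H Y := by
  rw [Cfsg.Agent.Lib.Helper88.involves_iff_exists_surj] at h ⊢
  obtain ⟨K, f, hf⟩ := h
  exact ⟨K.comap (QuotientGroup.mk' N), f.comp ((QuotientGroup.mk' N).subgroupComap K),
    hf.comp ((QuotientGroup.mk' N).subgroupComap_surjective_of_surjective K
      (QuotientGroup.mk'_surjective N))⟩

theorem main {G : Type u} [Group G] [Finite G] {p : ℕ} [Fact p.Prime] (S : Sylow p G)
    (h : p ≠ 2 ∨ ¬ Cfsg.Involves (Equiv.Perm (Fin 4)) G)
    (hC : HasNormalPComplement p ↥(Subgroup.centralizer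
      (((S : Subgroup G) ⊓ Subgroup.centralizer ((S : Subgroup G) : Set G) : Subgroup G) : Set G)))
    (hN : HasNormalPComplement p
      ↥(Subgroup.normalizer ((thompsonSubgroupAOf (S : Subgroup G)) : Set G))) :
    HasNormalPComplement p G := by
  have hJ := isCharPFunctor_thompsonA.{u} p
  have hZf := Cfsg.Agent.S0108.isCharPFunctor_center.{u} p
  have hcl : GoodClosed.{u}
      (fun (Y : Type u) [Group Y] => p ≠ 2 ∨ ¬ Cfsg.Involves (Equiv.Perm (Fin 4)) Y) := by
    refine ⟨fun Y _ N hY => ?_, fun Y _ N _ hY => ?_⟩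
    · rcases hY with hp | hY
      · exact Or.inl hp
      · exact Or.inr (fun hi => hY (Cfsg.Agent.Lib.Helper88.Involves.of_subgroup N hi))
    · rcases hY with hp | hY
      · exact Or.inl hp
      · exact Or.inr (fun hi => hY (involves_of_quotient N hi))
  refine thompson_mainG hcl hJ hZf ?_ _ G rfl h ?_
  · intro Y _ _ hGood hCY hQ T hT hZ
    rw [Cfsg.Agent.S0108.inducedFunctor_center] at hZ
    show (thompsonSubgroupAOf (T : Subgroup Y)).Normal
    rcases hGood with hp | hS4
    · exact thompsonA_local_odd hp hCY hQ T hT hZ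
    · by_cases hp : p = 2
      · subst hp
        exact thompsonA_local_two hS4 hCY hQ T hZ
      · exact thompsonA_local_odd hp hCY hQ T hT hZ
  · intro S'
    refine ⟨hasNPC_normalizer_all_sylow hJ S hN S', hasNPC_centralizer_all_sylow hZf S ?_ S'⟩
    rw [Cfsg.Agent.S0108.inducedFunctor_center]
    exact hC

/-- Let S be a Sylow p-subgroup of the finite group G and J(S) the subgroup generated by the abelian subgroups of S of largest order. Suppose p is odd, or the symmetric group of degree 4 is not involved in G. If both C_G(Z(S)) and N_G(J(S)) have normal p-complements, then G has a normal p-complement. -/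
theorem result {G : Type*} [Group G] [Finite G] {p : ℕ} [Fact p.Prime] (S : Sylow p G) (h : p ≠ 2 ∨ ¬ Cfsg.Involves (Equiv.Perm (Fin 4)) G) (hC : Cfsg.HasNormalPComplement p ↥(Subgroup.centralizer (((S : Subgroup G) ⊓ Subgroup.centralizer ((S : Subgroup G) : Set G) : Subgroup G) : Set G))) (hN : Cfsg.HasNormalPComplement p ↥(Subgroup.normalizer ((Cfsg.thompsonSubgroupAOf (S : Subgroup G)) : Set G))) : Cfsg.HasNormalPComplement p G := by
  exact main S h hC hN

end Cfsg.Agent.S2800
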