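import Cfsg.Statements.S1979
import Cfsg.Agent.S1975
import Cfsg.Agent.Lib.Helper33.KInfTransport

set_option autoImplicit false
open Cfsg

namespace Cfsg.Agent.S1979

open Cfsg.Agent.Lib.Helper33

theorem interleave {P : Type*} [Group P] (Q : Subgroup P)
    (hQ : ∀ n : ℕ, Cfsg.kSeqEven P n ≤ Q ∧ Cfsg.kSeqOdd P (n + 1) ≤ Q) (n : ℕ) :
    Cfsg.kSeqEven P n ≤ relEven Q n ∧ relOdd Q (n + 1) ≤ Cfsg.kSeqOdd P (n + 1) ∧
      relEven Q n ≤ Cfsg.kSeqEven P (n + 1) ∧ Cfsg.kSeqOdd P (n + 2) ≤ relOdd Q (n + 1) := by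
  -- generic steps
  have stepA : ∀ m, relOdd Q m ≤ Cfsg.kSeqOdd P m → Cfsg.kSeqEven P m ≤ relEven Q m := by
    intro m h
    apply sSup_le
    intro B hB
    exact le_sSup ⟨Cfsg.Agent.S1975.lowerFamily_antitone h hB, (le_sSup hB).trans (hQ m).1⟩
  have stepB : ∀ m, Cfsg.kSeqEven P m ≤ relEven Q m → relOdd Q (m + 1) ≤ Cfsg.kSeqOdd P (m + 1) := by
    intro m h
    rw [relOdd_succ]
    apply sSup_le
    rintro B ⟨hB, _⟩
    exact le_sSup (Cfsg.Agent.S1975.upperFamily_antitone h hB)
  have stepC : ∀ m, Cfsg.kSeqOdd P (m + 1) ≤ relOdd Q m → relEven Q m ≤ Cfsg.kSeqEven P (m + 1) := by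
    intro m h
    apply sSup_le
    rintro B ⟨hB, _⟩
    exact le_sSup (Cfsg.Agent.S1975.lowerFamily_antitone h hB)
  have stepD : ∀ m, relEven Q m ≤ Cfsg.kSeqEven P (m + 1) → Cfsg.kSeqOdd P (m + 2) ≤ relOdd Q (m + 1) := by
    intro m h
    rw [relOdd_succ]
    apply sSup_le
    intro B hB
    exact le_sSup ⟨Cfsg.Agent.S1975.upperFamily_antitone h hB, (le_sSup hB).trans (hQ (m + 1)).2⟩
  induction n with
  | zero =>
    have hA := stepA 0 (by simp [relOdd, Cfsg.kSeqOdd])
    have hB := stepB 0 hA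
    have hC := stepC 0 (by simpa [relOdd] using (hQ 0).2)
    exact ⟨hA, hB, hC, stepD 0 hC⟩
  | succ n ih =>
    obtain ⟨_, hB, _, hD⟩ := ih
    have hA := stepA (n + 1) hB
    have hB' := stepB (n + 1) hA
    have hC := stepC (n + 1) hD
    exact ⟨hA, hB', hC, stepD (n + 1) hC⟩

/-- Let P be a finite p-group and Q a subgroup of P containing every term of the K-sequence of P except possibly K_{-1}(P) = P itself: kSeqEven P n ≤ Q and kSeqOdd P (n+1) ≤ Q for all n. Then the K-infinity subgroups of Q, viewed inside P, coincide with those of P. -/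
theorem result {P : Type*} [Group P] [Finite P] {p : ℕ} [Fact p.Prime] (hP : IsPGroup p P) (Q : Subgroup P) (hQ : ∀ n : ℕ, Cfsg.kSeqEven P n ≤ Q ∧ Cfsg.kSeqOdd P (n + 1) ≤ Q) : (Cfsg.kInfLower ↥Q).map Q.subtype = Cfsg.kInfLower P ∧ (Cfsg.kInfUpper ↥Q).map Q.subtype = Cfsg.kInfUpper P := by
  have hr : Q.subtype.range = Q := Subgroup.range_subtype Q
  have hmap := fun n => kSeq_map (f := Q.subtype) Q.subtype_injective n
  rw [hr] at hmap
  have hint := interleave Q hQ
  constructor
  · unfold Cfsg.kInfLower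
    rw [Subgroup.map_iSup]
    apply le_antisymm
    · apply iSup_le
      intro n
      rw [(hmap n).2]
      exact (hint n).2.2.1.trans (le_iSup (Cfsg.kSeqEven P) (n + 1))
    · apply iSup_le
      intro n
      refine le_trans ?_ (le_iSup (fun n => (Cfsg.kSeqEven ↥Q n).map Q.subtype) n)
      rw [(hmap n).2]
      exact (hint n).1
  · unfold Cfsg.kInfUpper
    rw [Subgroup.map_iInf _ Q.subtype_injective]
    apply le_antisymm
    · apply le_iInf
      intro n
      cases n with
      | zero => simp [Cfsg.kSeqOdd]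
      | succ n =>
        refine (iInf_le _ (n + 1)).trans ?_
        rw [(hmap (n + 1)).1]
        exact (hint n).2.1
    · apply le_iInf
      intro n
      rw [(hmap n).1]
      cases n with
      | zero =>
        refine (iInf_le _ 1).trans ?_
        simpa [relOdd] using (hQ 0).2
      | succ n =>
        exact (iInf_le _ (n + 2)).trans (hint n).2.2.2

end Cfsg.Agent.S1979
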