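import Cfsg.Statements.S1972
import Cfsg.Agent.Lib.Helper33.TransferMinimal

set_option autoImplicit false
universe u
open Cfsg

namespace Cfsg.Agent.S1972

/-- Let p be a prime, G a finite group and W an isomorphism-invariant p-group functor (W assigns to every group Q a subgroup W(Q), nontrivial whenever Q is a nontrivial finite p-group, and every isomorphism from a finite p-group Q onto a group R carries W(Q) onto W(R)). Suppose that whenever G* = K/R is a section of G with C_{G*}(O_p(G*)) ≤ O_p(G*) and S* is a Sylow p-subgroup of G* with W(S*) not normal in G*, there is an element g of S* outside O_p(G*) such that [X, g, …, g] ≤ Y with p − 1 entries g, for every chief factor X/Y of G* with X ≤ O_p(G*). Then W controls transfer in every section of G. -/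
theorem result {G : Type u} [Group G] [Finite G] {p : ℕ} [Fact p.Prime] (W : ∀ (Q : Type u) [Group Q], Subgroup Q) (hW : Cfsg.IsCharPFunctor.{u} p W) (hloc : ∀ (K R : Subgroup G) [hR : (R.subgroupOf K).Normal], Subgroup.centralizer ((Cfsg.pCore p (↥K ⧸ R.subgroupOf K) : Subgroup (↥K ⧸ R.subgroupOf K)) : Set (↥K ⧸ R.subgroupOf K)) ≤ Cfsg.pCore p (↥K ⧸ R.subgroupOf K) → ∀ T : Sylow p (↥K ⧸ R.subgroupOf K), ¬ (Cfsg.inducedFunctor (G := (↥K ⧸ R.subgroupOf K)) W ((T : Subgroup (↥K ⧸ R.subgroupOf K)))).Normal → ∃ g : (↥K ⧸ R.subgroupOf K), g ∈ (T : Subgroup (↥K ⧸ R.subgroupOf K)) ∧ g ∉ Cfsg.pCore p (↥K ⧸ R.subgroupOf K) ∧ ∀ U V : Subgroup (↥K ⧸ R.subgroupOf K), Cfsg.IsChiefFactor U V → U ≤ Cfsg.pCore p (↥K ⧸ R.subgroupOf K) → Cfsg.iterCommutator U (Subgroup.zpowers g) (p - 1) ≤ V) : ∀ (K R : Subgroup G) [hR : (R.subgroupOf K).Normal], Cfsg.ControlsTransferIn p (Cfsg.inducedFunctor (G := (↥K ⧸ R.subgroupOf K)) W) ⊤ := by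
  have h𝓦 : ∀ W' ∈ ({W} : Set (∀ (Q : Type u) [Group Q], Subgroup Q)), Cfsg.IsCharPFunctor.{u} p W' := by
    intro W' hW'
    rw [Set.mem_singleton_iff.mp hW']
    exact hW
  have key : ∀ n : ℕ, ∀ (K R : Subgroup G) [hR : (R.subgroupOf K).Normal],
      Nat.card (↥K ⧸ R.subgroupOf K) = n →
      Cfsg.FamilyControlsTransferIn p (Cfsg.Agent.Lib.Helper33.indFam {W} (↥K ⧸ R.subgroupOf K)) ⊤ := by
    intro n
    induction n using Nat.strong_induction_on with
    | _ n IH =>
    intro K R _ hn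
    have IH' : Cfsg.Agent.Lib.Helper33.SecProp
        (fun Z _ => Nat.card Z < n →
          Cfsg.FamilyControlsTransferIn p (Cfsg.Agent.Lib.Helper33.indFam {W} Z) ⊤) G := by
      refine Cfsg.Agent.Lib.Helper33.secProp_of_sections ?_ ?_
      · intro X Y _ _ _ e h hlt
        have hX : Nat.card X < n := by rw [Nat.card_congr e.toEquiv]; exact hlt
        exact Cfsg.Agent.Lib.Helper33.familyControlsTransfer_top_of_mulEquiv h𝓦 e (h hX)
      · intro K' R' _ hlt
        exact IH _ hlt K' R' rfl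
    have hsecY := (IH'.subgroup K).quotient (R.subgroupOf K)
    have IHsub : ∀ H : Subgroup (↥K ⧸ R.subgroupOf K), H ≠ ⊤ →
        Cfsg.FamilyControlsTransferIn p (Cfsg.Agent.Lib.Helper33.indFam {W} (↥K ⧸ R.subgroupOf K)) H := by
      intro H hH
      apply Cfsg.Agent.Lib.Helper33.familyControlsTransfer_subgroup_of_top h𝓦 H
      apply (hsecY.subgroup H).self
      rw [← hn, ← Subgroup.card_top (G := ↥K ⧸ R.subgroupOf K)]
      exact Cfsg.Agent.Lib.Helper33.card_lt_card_of_lt (lt_top_iff_ne_top.mpr hH)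
    have IHquot : ∀ (N : Subgroup (↥K ⧸ R.subgroupOf K)) [N.Normal], N ≠ ⊥ →
        Cfsg.FamilyControlsTransferIn p
          (Cfsg.Agent.Lib.Helper33.indFam {W} ((↥K ⧸ R.subgroupOf K) ⧸ N)) ⊤ := by
      intro N _ hN
      apply (hsecY.quotient N).self
      rw [← hn, Subgroup.card_eq_card_quotient_mul_card_subgroup N]
      have h1 : 1 < Nat.card ↥N := by
        rw [Subgroup.one_lt_card_iff_ne_bot]
        exact hN
      have h0 : 0 < Nat.card ((↥K ⧸ R.subgroupOf K) ⧸ N) := Nat.card_pos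
      nlinarith
    by_contra hG
    obtain S : Sylow p (↥K ⧸ R.subgroupOf K) := Classical.arbitrary _
    obtain ⟨hcon, _, _, hd⟩ := Cfsg.Agent.Lib.Helper33.minimal_failure_structure h𝓦
      (Set.singleton_nonempty W) IHsub IHquot hG S _ _ rfl rfl
    by_cases hnn : (Cfsg.inducedFunctor (G := (↥K ⧸ R.subgroupOf K)) W
        ((S : Subgroup (↥K ⧸ R.subgroupOf K)))).Normal
    · apply hG
      rw [Cfsg.Agent.Lib.Helper33.familyControlsTransferIn_top_iff_le]
      refine ⟨(S : Subgroup (↥K ⧸ R.subgroupOf K)), Cfsg.Agent.Lib.Helper33.sylIn_top S, ?_⟩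
      rw [Cfsg.Agent.Lib.Helper33.indFam_singleton, iSup_singleton]
      unfold Cfsg.Agent.Lib.Helper33.focalTerm
      rw [Subgroup.normalizer_eq_top_iff.mpr hnn, top_inf_eq, commutator_def]
    · obtain ⟨g, hgS, hgP, hg⟩ := hloc K R hcon S hnn
      obtain ⟨U, V, hUV, hUP, hnot⟩ := hd g hgS hgP
      exact hnot (hg U V hUV hUP)
  intro K R _
  have := key _ K R rfl
  rwa [Cfsg.Agent.Lib.Helper33.indFam_singleton,
    Cfsg.Agent.Lib.Helper33.familyControlsTransferIn_singleton] at this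

end Cfsg.Agent.S1972
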