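import Cfsg.Statements.S1985
import Cfsg.Agent.S1973
import Cfsg.Agent.Lib.Helper33.KInfMain

set_option autoImplicit false
universe u
open Cfsg

namespace Cfsg.Agent.S1985


open Cfsg.Agent.Lib.Helper33

/-- the local hypothesis of `S1973` for a functor with a quadratically acting subgroup outside `O_p` -/
theorem hloc_of_quadratic {G : Type u} [Group G] [Finite G] {p : ℕ} [Fact p.Prime] (hp : p ≠ 2)
    (W : ∀ (Q : Type u) [Group Q], Subgroup Q) (hW : Cfsg.IsCharPFunctor.{u} p W)
    (hquad : ∀ (Y : Type u) [Group Y] [Finite Y] (T : Sylow p Y),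
      ¬ (Cfsg.inducedFunctor W (T : Subgroup Y)).Normal →
      ∃ B : Subgroup Y, B ≤ (T : Subgroup Y) ∧ ¬ B ≤ Cfsg.pCore p Y ∧
        ⁅⁅Cfsg.pCore p Y ⊓ Subgroup.centralizer ((Cfsg.pCore p Y : Subgroup Y) : Set Y), B⁆, B⁆ = ⊥)
    (H T : Subgroup G) (hTH : T ≤ H) (hTp : IsPGroup p ↥T) (hidx : ¬ p ∣ (T).relIndex (H))
    (hnn : ¬ H ≤ Subgroup.normalizer ((Cfsg.inducedFunctor (G := G) W T : Subgroup G) : Set G)) :
    ∃ g : G, g ∈ T ∧ g ∉ Cfsg.pCoreOf p H ∧ ∀ U V : Subgroup ↥H, Cfsg.IsChiefFactor U V →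
      U.map H.subtype ≤ Cfsg.pCoreOf p H ⊓ Subgroup.centralizer ((Cfsg.pCoreOf p H : Subgroup G) : Set G) →
      Cfsg.iterCommutator (U.map H.subtype) (Subgroup.zpowers g) (p - 1) ≤ V.map H.subtype := by
  have hT : SylIn p T H := ⟨hTH, hTp, hidx⟩
  have hinj : Function.Injective H.subtype := H.subtype_injective
  have hTp' : IsPGroup p (T.subgroupOf H) := hTp.comap_subtype
  have hTmap : (T.subgroupOf H).map H.subtype = T := Subgroup.map_subgroupOf_eq_of_le hTH
  have hWT : Cfsg.inducedFunctor (G := G) W T =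
      (Cfsg.inducedFunctor (G := ↥H) W (T.subgroupOf H)).map H.subtype := by
    rw [← inducedFunctor_map_of_injOn W hW H.subtype (T.subgroupOf H) hTp'
      (fun x _ hx => hinj (by simpa using hx)), hTmap]
  have hnn' : ¬ (Cfsg.inducedFunctor (G := ↥H) W ((hT.toSylow : Sylow p ↥H) : Subgroup ↥H)).Normal := by
    intro hn
    apply hnn
    intro y hy
    rw [hWT, ← Cfsg.Agent.S1973.mem_normalizer_subtype_iff H _ ⟨y, hy⟩, SylIn.coe_toSylow] at *
    rw [Subgroup.normalizer_eq_top_iff.mpr hn]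
    exact Subgroup.mem_top _
  obtain ⟨B, hBT, hBQ, hquadB⟩ := hquad ↥H hT.toSylow hnn'
  obtain ⟨g', hg'B, hg'Q⟩ := SetLike.not_le_iff_exists.mp hBQ
  refine ⟨(g' : G), ?_, ?_, ?_⟩
  · have := hBT hg'B
    rw [SylIn.coe_toSylow] at this
    exact Subgroup.mem_subgroupOf.mp this
  · rintro ⟨z, hz, hzg⟩
    have : z = g' := Subtype.ext hzg
    exact hg'Q (this ▸ hz)
  · intro U V hUV hU
    have hUn : U.Normal := hUV.2.1
    have hU' : U ≤ Cfsg.pCore p ↥H ⊓ Subgroup.centralizer ((Cfsg.pCore p ↥H : Subgroup ↥H) : Set ↥H) := by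
      rw [← Subgroup.map_le_map_iff_of_injective hinj, zc_map hinj]
      exact hU
    have h2 : Cfsg.iterCommutator U (Subgroup.zpowers g') 2 = ⊥ := by
      rw [eq_bot_iff, ← hquadB]
      exact iter_mono hU' ((Subgroup.zpowers_le).mpr hg'B) 2
    have hp2 : 2 ≤ p - 1 := by
      have := (Fact.out : p.Prime).two_le
      omega
    have h3 : Cfsg.iterCommutator U (Subgroup.zpowers g') (p - 1) ≤ V :=
      ((iter_antitone (le_normalizer_of_normal' U _) hp2).trans h2.le).trans bot_le
    have h4 := Subgroup.map_mono (f := H.subtype) h3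
    rwa [map_iterCommutator, MonoidHom.map_zpowers] at h4

theorem hWZ_of_center_le {G : Type u} [Group G] {p : ℕ} (W : ∀ (Q : Type u) [Group Q], Subgroup Q)
    (hc : ∀ (Q : Type u) [Group Q] [Finite Q], IsPGroup p Q → Subgroup.center Q ≤ W Q) [Finite G]
    (P : Subgroup G) (hP : IsPGroup p ↥P) :
    P ⊓ Subgroup.centralizer ((P : Subgroup G) : Set G) ≤ Cfsg.inducedFunctor (G := G) W P := by
  intro x hx
  obtain ⟨hxP, hxc⟩ := Subgroup.mem_inf.mp hx
  refine ⟨⟨x, hxP⟩, hc ↥P hP ?_, rfl⟩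
  rw [Subgroup.mem_center_iff]
  intro y
  apply Subtype.ext
  exact (Subgroup.mem_centralizer_iff.mp hxc) y y.2

/-- Let p be an odd prime and G a finite group. Then the lower K-infinity subgroup controls weak closure of elements in G: the lower K-infinity subgroup of every p-subgroup P of G contains Z(P), and for some (equivalently, every) Sylow p-subgroup S of G, with K the lower K-infinity subgroup of S, every element of S commuting with all of N_G(K) is weakly closed in S with respect to G (every G-conjugate of it lying in S equals it). -/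
theorem result {G : Type u} [Group G] [Finite G] {p : ℕ} [Fact p.Prime] (hp : p ≠ 2) : Cfsg.ControlsWeakClosureOfElementsIn p (Cfsg.inducedFunctor (G := G) Cfsg.kInfLower) ⊤ := by
  have hW := isCharPFunctor_kInfLower.{u} p
  exact Cfsg.Agent.S1973.result (Cfsg.inducedFunctor (G := G) Cfsg.kInfLower)
    (isConjugacyFunctor_inducedFunctor _ hW)
    (hWZ_of_center_le (p := p) _ (fun Q _ _ hQ =>
      (Cfsg.Agent.S1978.result hQ).2.1.trans (Cfsg.Agent.S1978.result hQ).1))
    (hloc_of_quadratic hp _ hW (fun Y _ _ T hT => by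
      obtain ⟨B, hBT, hBQ, _, hq⟩ := kInf_local T (Or.inl hT)
      exact ⟨B, hBT, hBQ, hq⟩)) ⊤

end Cfsg.Agent.S1985
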