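import Cfsg.Statements.S2799
import Cfsg.Agent.Lib.Helper85.GlaubFinal
import Cfsg.Agent.S1973
import Cfsg.Agent.S1974
import Cfsg.Agent.S1985

set_option autoImplicit false
open Cfsg

namespace Cfsg.Agent.S2799

universe u

open Cfsg.Agent.Lib.Helper33 Cfsg.Agent.Lib.Helper47 Cfsg.Agent.Lib.Helper85

/-- quadratic action of an abelian subgroup of largest order outside `O_p` (all primes) -/
theorem exists_quadratic_of_not_normal {Y : Type u} [Group Y] [Finite Y] {p : ℕ} [Fact p.Prime] (T : Sylow p Y)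
    (hT : ¬ (Cfsg.thompsonSubgroupAOf (T : Subgroup Y)).Normal) :
    ∃ B : Subgroup Y, B ≤ (T : Subgroup Y) ∧ ¬ B ≤ Cfsg.pCore p Y ∧
      ⁅⁅Cfsg.pCore p Y ⊓ Subgroup.centralizer ((Cfsg.pCore p Y : Subgroup Y) : Set Y), B⁆, B⁆ = ⊥ := by
  set Q := Cfsg.pCore p Y with hQ
  have hQn : Q.Normal := Cfsg.pCore_normal p Y
  have hQT : Q ≤ (T : Subgroup Y) := Cfsg.Agent.Lib.Helper97.pCore_le_sylow' T
  set V := Q ⊓ Subgroup.centralizer (Q : Set Y) with hV
  have hVn : V.Normal := inferInstance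
  have hVc : IsMulCommutative V :=
    ⟨⟨fun a b => Subtype.ext (Subgroup.mem_centralizer_iff.1 b.2.2 a a.2.1)⟩⟩
  have hVT : V ≤ (T : Subgroup Y) := inf_le_left.trans hQT
  have hQV : Q ≤ Subgroup.centralizer (V : Set Y) := by
    intro q hq
    rw [Subgroup.mem_centralizer_iff]
    intro v hv
    exact (Subgroup.mem_centralizer_iff.1 hv.2 q hq).symm
  obtain ⟨A', hA', hA'Q⟩ : ∃ A' ∈ maxAbIn (T : Subgroup Y), ¬ A' ≤ Q := by
    by_contra hcon
    push Not at hcon
    exact hT (thompsonA_normal_of_forall_le T hcon)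
  by_cases hc : A' ≤ Subgroup.centralizer (V : Set Y)
  · refine ⟨A', hA'.1, hA'Q, ?_⟩
    have h1 : ⁅V, A'⁆ = ⊥ := by
      rw [Subgroup.commutator_comm, Subgroup.commutator_eq_bot_iff_le_centralizer]
      exact hc
    rw [h1]
    exact Subgroup.commutator_bot_left _
  · obtain ⟨A, hA, hAV, -, hq⟩ := exists_quadratic_maxAbIn T V hVc hVT ⟨A', hA', hc⟩
    exact ⟨A, hA.1, fun h => hAV (h.trans hQV), hq⟩

/-- the local hypothesis of `S1974` from a quadratically acting subgroup outside `O_p` -/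
theorem hloc_all {G : Type u} [Group G] [Finite G] {p : ℕ} [Fact p.Prime]
    (W : ∀ (Q : Type u) [Group Q], Subgroup Q) (hW : Cfsg.IsCharPFunctor.{u} p W)
    (hquad : ∀ (Y : Type u) [Group Y] [Finite Y] (T : Sylow p Y),
      ¬ (Cfsg.inducedFunctor W (T : Subgroup Y)).Normal →
      ∃ B : Subgroup Y, B ≤ (T : Subgroup Y) ∧ ¬ B ≤ Cfsg.pCore p Y ∧
        ⁅⁅Cfsg.pCore p Y ⊓ Subgroup.centralizer ((Cfsg.pCore p Y : Subgroup Y) : Set Y), B⁆, B⁆ = ⊥)
    (H T : Subgroup G) (hTH : T ≤ H) (hTp : IsPGroup p ↥T) (hidx : ¬ p ∣ (T).relIndex (H))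
    (hnn : ¬ H ≤ Subgroup.normalizer ((Cfsg.inducedFunctor (G := G) W T : Subgroup G) : Set G)) :
    ∃ g : G, g ∈ T ∧ g ∉ Cfsg.pCoreOf p H ∧
      ⁅⁅Cfsg.pCoreOf p H ⊓ Subgroup.centralizer ((Cfsg.pCoreOf p H : Subgroup G) : Set G),
        Subgroup.zpowers g⁆, Subgroup.zpowers g⁆ = ⊥ := by
  have hT : SylIn p T H := ⟨hTH, hTp, hidx⟩
  have hinj : Function.Injective H.subtype := H.subtype_injective
  have hTp' : IsPGroup p (T.subgroupOf H) := hTp.comap_subtype
  have hTmap : (T.subgroupOf H).map H.subtype = T := Subgroup.map_subgroupOf_eq_of_le hTH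
  have hWT : Cfsg.inducedFunctor (G := G) W T =
      (Cfsg.inducedFunctor (G := ↥H) W (T.subgroupOf H)).map H.subtype := by
    rw [← inducedFunctor_map_of_injOn W hW H.subtype (T.subgroupOf H) hTp'
      (fun x _ hx => hinj (by simpa using hx)), hTmap]
  have hnn' : ¬ (Cfsg.inducedFunctor (G := ↥H) W ((hT.toSylow : Sylow p ↥H) : Subgroup ↥H)).Normal := by
    intro hn
    apply hnn
    intro y hy
    rw [hWT, ← Cfsg.Agent.S1973.mem_normalizer_subtype_iff H _ ⟨y, hy⟩, SylIn.coe_toSylow] at *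
    rw [Subgroup.normalizer_eq_top_iff.mpr hn]
    exact Subgroup.mem_top _
  obtain ⟨B, hBT, hBQ, hquadB⟩ := hquad ↥H hT.toSylow hnn'
  obtain ⟨g', hg'B, hg'Q⟩ := SetLike.not_le_iff_exists.mp hBQ
  refine ⟨(g' : G), ?_, ?_, ?_⟩
  · have := hBT hg'B
    rw [SylIn.coe_toSylow] at this
    exact Subgroup.mem_subgroupOf.mp this
  · rintro ⟨z, hz, hzg⟩
    have : z = g' := Subtype.ext hzg
    exact hg'Q (this ▸ hz)
  · have hz : Subgroup.zpowers g' ≤ B := by
      rw [Subgroup.zpowers_le]; exact hg'B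
    have h2 : ⁅⁅Cfsg.pCore p ↥H ⊓ Subgroup.centralizer ((Cfsg.pCore p ↥H : Subgroup ↥H) : Set ↥H),
        Subgroup.zpowers g'⁆, Subgroup.zpowers g'⁆ = ⊥ := by
      rw [eq_bot_iff, ← hquadB]
      exact Subgroup.commutator_mono (Subgroup.commutator_mono le_rfl hz) hz
    have h4 := congrArg (Subgroup.map H.subtype) h2
    rw [Subgroup.map_commutator, Subgroup.map_commutator, zc_map hinj, MonoidHom.map_zpowers,
      Subgroup.map_bot] at h4
    exact h4

theorem wc_odd {G : Type u} [Group G] [Finite G] {p : ℕ} [Fact p.Prime] (hp : p ≠ 2) (S : Sylow p G) :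
    WCElt (Cfsg.inducedFunctor (G := G) (fun (Q : Type u) [Group Q] => Cfsg.thompsonSubgroupA Q)) ⊤
      (S : Subgroup G) := by
  have hW0 := isCharPFunctor_thompsonA.{u} p
  have hW : Cfsg.IsConjugacyFunctor p
      (Cfsg.inducedFunctor (G := G) (fun (Q : Type u) [Group Q] => Cfsg.thompsonSubgroupA Q)) :=
    isConjugacyFunctor_inducedFunctor _ hW0
  exact Cfsg.Agent.S1973.main _ hW (fun P _ => zc_le_thompsonSubgroupAOf P)
    (Cfsg.Agent.S1985.hloc_of_quadratic hp _ hW0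
      (fun Y _ _ T hT => exists_quadratic_of_not_normal T hT)) _ ⊤ S rfl (sylIn_top S)

theorem wc_pow {G : Type u} [Group G] [Finite G] {p : ℕ} [Fact p.Prime] (S : Sylow p G) (z : G)
    (hz : z ∈ (S : Subgroup G) ⊓ Subgroup.centralizer ((S : Subgroup G) : Set G))
    (hN : ∀ n ∈ Subgroup.normalizer ((Cfsg.thompsonSubgroupAOf (S : Subgroup G) : Subgroup G) : Set G),
      n * z ^ p = z ^ p * n) :
    ∀ g : G, g * z ^ p * g⁻¹ ∈ (S : Subgroup G) → g * z ^ p * g⁻¹ = z ^ p := by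
  have hW0 := isCharPFunctor_thompsonA.{u} p
  have hW : Cfsg.IsConjugacyFunctor p
      (Cfsg.inducedFunctor (G := G) (fun (Q : Type u) [Group Q] => Cfsg.thompsonSubgroupA Q)) :=
    isConjugacyFunctor_inducedFunctor _ hW0
  have key := (Cfsg.Agent.S1974.result S _ hW (fun P _ => zc_le_thompsonSubgroupAOf P)
    (hloc_all _ hW0 (fun Y _ _ T hT => exists_quadratic_of_not_normal T hT)) _ rfl).1
  refine key (z ^ p) (Subgroup.mem_inf.mpr ⟨?_, ?_⟩)
  · exact Subgroup.subset_closure ⟨z, hz, rfl⟩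
  · rw [Subgroup.mem_centralizer_iff]
    intro n hn
    exact hN n hn

/-- Let S be a Sylow p-subgroup of the finite group G, J(S) the subgroup generated by the abelian subgroups of S of largest order, and x an element of S lying in the centre of N_G(J(S)). Assume that p is odd, or that x is a p-th power of an element of Z(S), or that the symmetric group of degree 4 is not involved in G. Then x is weakly closed in S with respect to G: every G-conjugate of x that lies in S equals x. -/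
theorem result {G : Type*} [Group G] [Finite G] {p : ℕ} [Fact p.Prime] (S : Sylow p G) (x : G) (hxS : x ∈ (S : Subgroup G)) (hxZ : x ∈ (Subgroup.center ↥(Subgroup.normalizer ((Cfsg.thompsonSubgroupAOf (S : Subgroup G)) : Set G))).map (Subgroup.normalizer ((Cfsg.thompsonSubgroupAOf (S : Subgroup G)) : Set G)).subtype) (h : p ≠ 2 ∨ (∃ z ∈ (S : Subgroup G) ⊓ Subgroup.centralizer ((S : Subgroup G) : Set G), z ^ p = x) ∨ ¬ Cfsg.Involves (Equiv.Perm (Fin 4)) G) : ∀ g : G, g * x * g⁻¹ ∈ (S : Subgroup G) → g * x * g⁻¹ = x := by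
  classical
  obtain ⟨⟨x', hx'⟩, hx'Z, rfl⟩ := hxZ
  have hxN : ∀ n ∈ Subgroup.normalizer ((Cfsg.thompsonSubgroupAOf (S : Subgroup G) : Subgroup G) : Set G),
      n * x' = x' * n := by
    intro n hn
    have := Subgroup.mem_center_iff.1 hx'Z ⟨n, hn⟩
    exact congrArg Subtype.val this
  have hodd : p ≠ 2 → ∀ g : G, g * x' * g⁻¹ ∈ (S : Subgroup G) → g * x' * g⁻¹ = x' := by
    intro hp g hg
    refine wc_odd hp S x' (Subgroup.mem_inf.mpr ⟨hxS, ?_⟩) g (Subgroup.mem_top g) hg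
    rw [Subgroup.mem_centralizer_iff]
    intro n hn
    exact hxN n (Subgroup.mem_inf.mp hn).2
  rcases h with hp | ⟨z, hz, hzx⟩ | hS4
  · exact hodd hp
  · have hzx' : z ^ p = x' := hzx
    subst hzx'
    exact wc_pow S z hz hxN
  · by_cases hp : p = 2
    · subst hp
      exact weakly_closed_of_s4free hS4 S x' hxS hxN
    · exact hodd hp

end Cfsg.Agent.S2799
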