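import Cfsg.Statements.S2622
-- import your own Cfsg.Agent.* helpers here

set_option autoImplicit false
open Cfsg

namespace Cfsg.Agent.S2622

open Module LinearMap in
theorem orthonormal_family {F : Type*} [Field F] [Finite F] [CharP F 2] (n : ℕ) :
    ∀ (V : Type*) [AddCommGroup V] [Module F V] [FiniteDimensional F V],
      finrank F V = n → ∀ (B : LinearMap.BilinForm F V), B.IsSymm → B.Nondegenerate →
      (∃ v : V, B v v ≠ 0) → ∃ b : Fin n → V, ∀ i j, B (b i) (b j) = if i = j then 1 else 0 := by
  induction n with
  | zero =>
    intro V _ _ _ _ B _ _ _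
    exact ⟨Fin.elim0, fun i => i.elim0⟩
  | succ n ih =>
    intro V _ _ _ hV B hS hB hna
    have hrefl : B.IsRefl := hS.isRefl
    have h2 : ∀ x : F, x + x = 0 := fun x => CharTwo.add_self_eq_zero x
    have hsq : ∀ a : F, ∃ r : F, r * r = a := by
      intro a
      have : Fintype F := Fintype.ofFinite F
      have hch : ringChar F = 2 := ringChar.eq F 2
      obtain ⟨r, hr⟩ := FiniteField.isSquare_of_char_two hch a
      exact ⟨r, hr.symm⟩
    -- Step 0: a vector of norm one
    obtain ⟨v₀, hv₀⟩ := hna
    obtain ⟨r, hr⟩ := hsq (B v₀ v₀)
    have hr0 : r ≠ 0 := by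
      rintro rfl; apply hv₀; rw [← hr]; simp
    have hu₀ : B (r⁻¹ • v₀) (r⁻¹ • v₀) = 1 := by
      simp only [map_smul, LinearMap.smul_apply, smul_eq_mul, ← hr]
      field_simp
    set u₀ := r⁻¹ • v₀ with hu₀def
    -- general fact: for u of norm one, the orthogonal complement
    have key : ∀ u : V, B u u = 1 →
        (n = 0 ∨ ∃ z ∈ B.orthogonal (F ∙ u), B z z ≠ 0) →
        ∃ b : Fin (n + 1) → V, ∀ i j, B (b i) (b j) = if i = j then 1 else 0 := by
      intro u hu hz
      have hu1 : B u u ≠ 0 := by rw [hu]; exact one_ne_zero
      have hc := BilinForm.isCompl_span_singleton_orthogonal hu1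
      have hnd := BilinForm.restrict_nondegenerate_orthogonal_spanSingleton B hB hrefl hu1
      have hfr : finrank F (B.orthogonal (F ∙ u)) = n := by
        have h1 := BilinForm.finrank_orthogonal hB (F ∙ u)
        have h3 : finrank F (F ∙ u) = 1 := finrank_span_singleton (by
          rintro rfl; simp at hu1)
        omega
      rcases hz with rfl | ⟨z, hzmem, hzz⟩
      · refine ⟨fun _ => u, fun i j => ?_⟩
        have : i = j := Fin.ext (by have := i.2; have := j.2; omega)
        simp [this, hu]
      · have hS' : (B.restrict (B.orthogonal (F ∙ u))).IsSymm := by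
          constructor
          intro x y
          simp only [BilinForm.restrict_apply, LinearMap.domRestrict_apply]
          exact hS.eq x y
        obtain ⟨b, hb⟩ := ih (B.orthogonal (F ∙ u)) hfr (B.restrict (B.orthogonal (F ∙ u))) hS' hnd
          ⟨⟨z, hzmem⟩, by simpa using hzz⟩
        refine ⟨Fin.cons u (fun i => (b i : V)), fun i j => ?_⟩
        have horth : ∀ i, B u (b i : V) = 0 := by
          intro i
          have := (b i).2
          rw [BilinForm.mem_orthogonal_iff] at this
          exact this u (Submodule.mem_span_singleton_self u)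
        refine Fin.cases ?_ (fun i => ?_) i <;> refine Fin.cases ?_ (fun j => ?_) j
        · simp [hu]
        · simp only [Fin.cons_zero, Fin.cons_succ, horth]
          simp [Fin.succ_ne_zero, (Fin.succ_ne_zero j).symm]
        · simp only [Fin.cons_zero, Fin.cons_succ]
          rw [← hS.eq, horth]
          simp [Fin.succ_ne_zero]
        · simp only [Fin.cons_succ]
          have := hb i j
          simp only [BilinForm.restrict_apply, LinearMap.domRestrict_apply] at this
          rw [this]
          simp [Fin.succ_inj]
    by_cases hn : n = 0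
    · exact key u₀ hu₀ (Or.inl hn)
    by_cases halt : ∃ z ∈ B.orthogonal (F ∙ u₀), B z z ≠ 0
    · exact key u₀ hu₀ (Or.inr halt)
    · -- the complement is alternating; modify u₀
      push Not at halt
      have hu1 : B u₀ u₀ ≠ 0 := by rw [hu₀]; exact one_ne_zero
      have hnd := BilinForm.restrict_nondegenerate_orthogonal_spanSingleton B hB hrefl hu1
      have hfr : finrank F (B.orthogonal (F ∙ u₀)) = n := by
        have h1 := BilinForm.finrank_orthogonal hB (F ∙ u₀)
        have h3 : finrank F (F ∙ u₀) = 1 := finrank_span_singleton (by
          rintro h; rw [h] at hu1; simp at hu1)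
        omega
      have hpos : 0 < finrank F (B.orthogonal (F ∙ u₀)) := by omega
      obtain ⟨w, hw⟩ := (finrank_pos_iff_exists_ne_zero).1 hpos
      -- find w' with B w w' ≠ 0
      have : ∃ w' : B.orthogonal (F ∙ u₀), B w w' ≠ 0 := by
        by_contra hcon
        push Not at hcon
        apply hw
        apply hnd.1 w
        intro y
        simpa using hcon y
      obtain ⟨w', hww'⟩ := this
      set c := B w w' with hc
      have horth : ∀ x : B.orthogonal (F ∙ u₀), B u₀ x = 0 := by
        intro x
        have := x.2
        rw [BilinForm.mem_orthogonal_iff] at this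
        exact this u₀ (Submodule.mem_span_singleton_self u₀)
      have horth' : ∀ x : B.orthogonal (F ∙ u₀), B x u₀ = 0 := by
        intro x; rw [← hS.eq]; exact horth x
      have hww : B (w : V) w = 0 := halt w w.2
      have hw'w' : B (w' : V) w' = 0 := halt w' w'.2
      apply key (u₀ + w)
      · simp only [map_add, LinearMap.add_apply, hu₀, horth, horth', hww]; simp
      · right
        refine ⟨u₀ + c⁻¹ • (w' : V), ?_, ?_⟩
        · rw [BilinForm.mem_orthogonal_iff]
          intro x hx
          obtain ⟨a, rfl⟩ := Submodule.mem_span_singleton.1 hx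
          simp only [map_add, map_smul, LinearMap.add_apply, LinearMap.smul_apply, smul_eq_mul, hu₀, horth,
            horth', ← hc]
          rw [zero_add, mul_left_comm, inv_mul_cancel₀ hww', mul_one, add_zero, mul_one]
          exact h2 a
        · simp only [map_add, map_smul, LinearMap.add_apply, LinearMap.smul_apply, smul_eq_mul, hu₀, horth,
            horth', hw'w']
          simp



/-- Over a finite field of characteristic two, a non-degenerate symmetric bilinear form that is not alternating (some vector v has B(v, v) ≠ 0) admits an orthonormal basis. -/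
theorem result {F V : Type*} [Field F] [Finite F] [CharP F 2] [AddCommGroup V] [Module F V] [FiniteDimensional F V] {n : ℕ} (hV : Module.finrank F V = n) (B : LinearMap.BilinForm F V) (hS : B.IsSymm) (hB : B.Nondegenerate) (hna : ∃ v : V, B v v ≠ 0) : ∃ b : Module.Basis (Fin n) F V, ∀ i j, B (b i) (b j) = if i = j then 1 else 0 := by
  obtain ⟨v, hv⟩ := orthonormal_family n V hV B hS hB hna
  have hli : LinearIndependent F v := by
    rw [Fintype.linearIndependent_iff]
    intro g hg i
    have := congrArg (fun x => B x (v i)) hg
    simp only [map_sum, map_smul, LinearMap.sum_apply, LinearMap.smul_apply, hv, smul_eq_mul, mul_ite, mul_one,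
      mul_zero, Finset.sum_ite_eq', Finset.mem_univ, if_true, LinearMap.zero_apply, map_zero] at this
    exact this
  refine ⟨basisOfLinearIndependentOfCardEqFinrank' v hli (by simp [hV]), fun i j => ?_⟩
  rw [coe_basisOfLinearIndependentOfCardEqFinrank']
  exact hv i j

end Cfsg.Agent.S2622
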