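import Cfsg.Statements.S0790
import Cfsg.Agent.Lib.Helper13.SpinNeg

set_option autoImplicit false
open Cfsg

namespace Cfsg.Agent.S0790

open Cfsg.Agent.Lib.Helper13

/-- The plus-type quadratic form as a `QuadraticForm`. -/
noncomputable def plusForm (m : ℕ) (F : Type*) [Field F] : QuadraticForm F (Fin m ⊕ Fin m → F) :=
  ∑ i : Fin m, QuadraticMap.linMulLin (LinearMap.proj (Sum.inl i)) (LinearMap.proj (Sum.inr i))

theorem plusForm_coe (m : ℕ) (F : Type*) [Field F] :
    ⇑(plusForm m F) = Cfsg.quadFormPlus m F := by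
  funext v
  unfold plusForm Cfsg.quadFormPlus
  rw [sum_apply]
  rfl

theorem plusForm_polar (m : ℕ) (F : Type*) [Field F] (x y : Fin m ⊕ Fin m → F) :
    QuadraticMap.polar (⇑(plusForm m F)) x y
      = ∑ i : Fin m, (x (Sum.inl i) * y (Sum.inr i) + y (Sum.inl i) * x (Sum.inr i)) := by
  rw [plusForm_coe]
  unfold QuadraticMap.polar Cfsg.quadFormPlus
  simp only [Pi.add_apply]
  rw [← Finset.sum_sub_distrib, ← Finset.sum_sub_distrib]
  apply Finset.sum_congr rfl
  intro i _
  ring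

theorem plusForm_gram (m : ℕ) (F : Type*) [Field F] :
    (Matrix.of fun i j : Fin m ⊕ Fin m =>
      QuadraticMap.polar (⇑(plusForm m F)) (Pi.single i (1 : F)) (Pi.single j (1 : F)))
      = Matrix.fromBlocks (0 : Matrix (Fin m) (Fin m) F) (1 : Matrix (Fin m) (Fin m) F)
          (1 : Matrix (Fin m) (Fin m) F) (0 : Matrix (Fin m) (Fin m) F) := by
  ext (i | i) (j | j) <;>
    simp [plusForm_polar, Pi.single_apply, Matrix.one_apply, eq_comm]

/-- −1 ∈ Ω⁺_2m(q) iff q^m ≡ 1 (mod 4), for q odd and m ≥ 1 (so that in the other case SO⁺_2m(q) = 2 × Ω⁺_2m(q)). -/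
theorem result {F : Type*} [Field F] [Fintype F] {q : ℕ} (hF : Fintype.card F = q) (hodd : Odd q) (m : ℕ) (hm : 1 ≤ m) : (∃ g : ↥(Cfsg.isometryGroup F (Cfsg.quadFormPlus m F)), g ∈ Cfsg.Omega F (Cfsg.quadFormPlus m F) ∧ ((g : Matrix.GeneralLinearGroup (Fin m ⊕ Fin m) F) : Matrix (Fin m ⊕ Fin m) (Fin m ⊕ Fin m) F) = -1) ↔ q ^ m % 4 = 1 := by
  classical
  subst hF
  have h2 : (2 : F) ≠ 0 := two_ne_zero_of_odd_card hodd
  have hgram := plusForm_gram m F
  have hdet : Matrix.det (Matrix.of fun i j : Fin m ⊕ Fin m =>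
      QuadraticMap.polar (⇑(plusForm m F)) (Pi.single i (1 : F)) (Pi.single j (1 : F)))
      = (-1) ^ m := by
    rw [hgram, det_fromBlocks_antidiag, Fintype.card_fin]
  have hQ : (QuadraticMap.polarBilin (plusForm m F)).Nondegenerate := by
    apply nondegenerate_of_gram_det_ne_zero
    rw [hdet]
    exact pow_ne_zero _ (neg_ne_zero.mpr one_ne_zero)
  have hcard : Fintype.card (Fin m ⊕ Fin m) = 2 * m := by
    rw [Fintype.card_sum, Fintype.card_fin]; ring
  have hiff := neg_one_mem_Omega_iff (plusForm m F) hQ h2 (by rw [hcard]; omega)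
    (by rw [hcard]; exact even_two_mul m)
  rw [plusForm_coe] at hiff hdet
  rw [hiff, hdet, quadraticChar_neg_one_pow h2]
  constructor
  · intro h
    by_contra hcon
    rw [if_neg hcon] at h
    norm_num at h
  · intro h
    rw [if_pos h]

end Cfsg.Agent.S0790
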