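import Cfsg.Statements.S2616
import Cfsg.Agent.Lib.Helper44.Witt
-- import your own Cfsg.Agent.* helpers here

set_option autoImplicit false
open Cfsg

namespace Cfsg.Agent.S2616

open Module Cfsg.Agent.Lib.Helper44 in
/-- an anisotropic quadratic form over a finite field in dimension ≥ 2 represents 1 -/
theorem exists_norm_one {F V : Type*} [Field F] [Finite F] [AddCommGroup V] [Module F V]
    [FiniteDimensional F V] (Q : QuadraticForm F V) (h2 : 2 ≤ finrank F V)
    (hani : ∀ v : V, Q v = 0 → v = 0) (c : F) (hc : c ≠ 0) : ∃ x : V, Q x = c := by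
  let Q' : QuadraticForm F (V × F) := Q.prod ((-c) • QuadraticMap.sq)
  have h3 : 3 ≤ finrank F (V × F) := by
    rw [Module.finrank_prod, Module.finrank_self]; omega
  obtain ⟨⟨v, z⟩, hne, hzero⟩ := exists_isotropic Q' h3
  have hzero' : Q v - c * (z * z) = 0 := by
    simpa [Q', QuadraticMap.prod_apply, QuadraticMap.sq, sub_eq_add_neg] using hzero
  have hz : z ≠ 0 := by
    rintro rfl
    apply hne
    have : v = 0 := hani v (by simpa using hzero')
    rw [this]; rfl
  refine ⟨z⁻¹ • v, ?_⟩
  rw [QuadraticMap.map_smul, smul_eq_mul]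
  have : Q v = c * (z * z) := by linear_combination hzero'
  rw [this]; field_simp

open Module Cfsg.Agent.Lib.Helper44 in
theorem even_std {F : Type*} [Field F] [Finite F] (m : ℕ) :
    ∀ (V : Type*) [AddCommGroup V] [Module F V] [FiniteDimensional F V] (Q : QuadraticForm F V),
      finrank F V = 2 * (m + 1) → (QuadraticMap.polarBilin Q).Nondegenerate →
      (∃ (e f : Fin (m + 1) → V), HypSys Q e f) ∨
      (∃ (e f : Fin m → V) (x y : V) (ζ : F), HypSys Q e f ∧ (∀ t : F, t ^ 2 + t + ζ ≠ 0) ∧
        (∀ i, QuadraticMap.polar Q (e i) x = 0 ∧ QuadraticMap.polar Q (f i) x = 0 ∧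
          QuadraticMap.polar Q (e i) y = 0 ∧ QuadraticMap.polar Q (f i) y = 0) ∧
        Q x = 1 ∧ QuadraticMap.polar Q x y = 1 ∧ Q y = ζ ∧ LinearIndependent F ![x, y]) := by
  induction m with
  | zero =>
    intro V _ _ _ Q hV hQ
    by_cases hiso : ∃ v : V, v ≠ 0 ∧ Q v = 0
    · left
      obtain ⟨e, he, hQe⟩ := hiso
      obtain ⟨f, hQf, hef⟩ := exists_hyp_partner Q hQ e he hQe
      refine ⟨fun _ => e, fun _ => f, fun _ => ⟨hQe, hQf⟩, fun i j => ?_, fun i j => ?_⟩
      · have : i = j := Fin.ext (by have := i.2; have := j.2; omega)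
        simp [this, hef]
      · simp [QuadraticMap.polar_self, hQe, hQf]
    · right
      push Not at hiso
      have hani : ∀ v : V, Q v = 0 → v = 0 := by
        intro v hv
        by_contra h
        exact hiso v h hv
      obtain ⟨x, hx⟩ := exists_norm_one Q (by omega) hani 1 one_ne_zero
      have hx0 : x ≠ 0 := by
        rintro rfl; simp at hx
      -- a vector y₀ with polar x y₀ = 1
      have : ∃ y₀ : V, QuadraticMap.polar Q x y₀ ≠ 0 := by
        by_contra hcon
        push Not at hcon
        apply hx0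
        apply hQ.1 x
        intro y
        simpa using hcon y
      obtain ⟨y₁, hy₁⟩ := this
      obtain ⟨y₀, hy₀⟩ : ∃ y₀ : V, QuadraticMap.polar Q x y₀ = 1 := by
        refine ⟨(QuadraticMap.polar Q x y₁)⁻¹ • y₁, ?_⟩
        rw [QuadraticMap.polar_smul_right, smul_eq_mul, inv_mul_cancel₀ hy₁]
      -- a vector outside the span of x
      have hlt : Submodule.span F {x} ≠ ⊤ := by
        intro htop
        have h1 : finrank F (Submodule.span F {x}) = 1 := finrank_span_singleton hx0
        rw [htop, finrank_top] at h1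
        omega
      obtain ⟨w, hw⟩ : ∃ w : V, w ∉ Submodule.span F {x} := by
        by_contra hcon
        push Not at hcon
        exact hlt (eq_top_iff.2 (fun v _ => hcon v))
      obtain ⟨y, hy, hyx⟩ : ∃ y : V, QuadraticMap.polar Q x y = 1 ∧ y ∉ Submodule.span F {x} := by
        by_cases hy₀x : y₀ ∈ Submodule.span F {x}
        · refine ⟨y₀ + (w - QuadraticMap.polar Q x w • y₀), ?_, ?_⟩
          · rw [QuadraticMap.polar_add_right, QuadraticMap.polar_sub_right, QuadraticMap.polar_smul_right, hy₀]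
            simp
          · intro hmem
            apply hw
            have h1 : w = (y₀ + (w - QuadraticMap.polar Q x w • y₀)) - y₀ + QuadraticMap.polar Q x w • y₀ := by
              abel
            rw [h1]
            exact Submodule.add_mem _ (Submodule.sub_mem _ hmem hy₀x) (Submodule.smul_mem _ _ hy₀x)
        · exact ⟨y₀, hy₀, hy₀x⟩
      have hli : LinearIndependent F ![x, y] := by
        rw [LinearIndependent.pair_iff]
        intro s t hst
        have ht : t = 0 := by
          by_contra ht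
          apply hyx
          have : y = (-(t⁻¹ * s)) • x := by
            have h1 : t • y = -(s • x) := by
              rw [eq_neg_iff_add_eq_zero, add_comm]; exact hst
            calc y = t⁻¹ • (t • y) := by rw [smul_smul, inv_mul_cancel₀ ht, one_smul]
              _ = (-(t⁻¹ * s)) • x := by rw [h1, smul_neg, smul_smul, neg_smul]
          rw [this]
          exact Submodule.smul_mem _ _ (Submodule.mem_span_singleton_self x)
        subst ht
        simp only [zero_smul, add_zero] at hst
        exact ⟨(smul_eq_zero.1 hst).resolve_right hx0, rfl⟩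
      refine ⟨Fin.elim0, Fin.elim0, x, y, Q y, ⟨fun i => i.elim0, fun i => i.elim0, fun i => i.elim0⟩,
        ?_, fun i => i.elim0, hx, hy, rfl, hli⟩
      intro t ht
      have h1 : Q (t • x + y) = t ^ 2 + t + Q y := by
        have : Q (t • x + y) = Q (t • x) + Q y + QuadraticMap.polar Q (t • x) y := by
          simp only [QuadraticMap.polar]; ring
        rw [this, QuadraticMap.map_smul, QuadraticMap.polar_smul_left, hx, hy]
        simp only [smul_eq_mul, mul_one]; ring
      have h2 := hani _ (h1.trans ht)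
      have h3 := (LinearIndependent.pair_iff.1 hli) t 1 (by simpa using h2)
      exact one_ne_zero h3.2
  | succ m ih =>
    intro V _ _ _ Q hV hQ
    obtain ⟨e₀, f₀, W, hQe, hQf, hef, hWnd, hWfr, hWorth⟩ := peel Q hQ (by omega)
    have hpol : ∀ a b : W, QuadraticMap.polar (Q.comp W.subtype) a b = QuadraticMap.polar Q (a : V) (b : V) := by
      intro a b
      simp [QuadraticMap.polar]
    rcases ih W (Q.comp W.subtype) (by omega) hWnd with ⟨e, f, hs⟩ | ⟨e, f, x, y, ζ, hs, hζ, horth, hx, hxy, hy, hli⟩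
    · left
      exact ⟨Fin.cons e₀ (fun i => (e i : V)), Fin.cons f₀ (fun i => (f i : V)),
        HypSys.cons Q e₀ f₀ hQe hQf hef W hWorth e f hs⟩
    · right
      refine ⟨Fin.cons e₀ (fun i => (e i : V)), Fin.cons f₀ (fun i => (f i : V)), (x : V), (y : V), ζ,
        HypSys.cons Q e₀ f₀ hQe hQf hef W hWorth e f hs, hζ, ?_, by simpa using hx, by rw [← hpol]; exact hxy,
        by simpa using hy, ?_⟩
      · intro i
        refine Fin.cases ?_ (fun i => ?_) i
        · simp only [Fin.cons_zero]
          exact ⟨(hWorth _ x.2).1, (hWorth _ x.2).2, (hWorth _ y.2).1, (hWorth _ y.2).2⟩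
        · simp only [Fin.cons_succ, ← hpol]
          exact horth i
      · have h2 : (![(x : V), (y : V)] : Fin 2 → V) = W.subtype ∘ ![x, y] := by
          ext i
          fin_cases i <;> rfl
        rw [h2]
        exact hli.map' W.subtype (Submodule.ker_subtype W)


/-- Standard bases of a non-degenerate quadratic space of even dimension 2m over a finite field: either there is a hyperbolic basis e_i, f_i (Q(e_i) = Q(f_i) = 0, B(e_i, f_j) = δ_ij, the e's pairwise orthogonal and the f's pairwise orthogonal, B the polar form), or there is an elliptic basis: hyperbolic pairs e_i, f_i for i < m − 1 together with x, y orthogonal to them with Q(x) = 1, B(x, y) = 1, Q(y) = ζ where t² + t + ζ has no root in the field. -/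
theorem result {F V : Type*} [Field F] [Finite F] [AddCommGroup V] [Module F V] [FiniteDimensional F V] {m : ℕ} (hm : 1 ≤ m) (hV : Module.finrank F V = 2 * m) (Q : QuadraticForm F V) (hQ : (QuadraticMap.polarBilin Q).Nondegenerate) : (∃ b : Module.Basis (Fin m ⊕ Fin m) F V, (∀ i, Q (b (Sum.inl i)) = 0 ∧ Q (b (Sum.inr i)) = 0) ∧ (∀ i j, QuadraticMap.polar ⇑Q (b (Sum.inl i)) (b (Sum.inr j)) = if i = j then 1 else 0) ∧ (∀ i j, QuadraticMap.polar ⇑Q (b (Sum.inl i)) (b (Sum.inl j)) = 0 ∧ QuadraticMap.polar ⇑Q (b (Sum.inr i)) (b (Sum.inr j)) = 0)) ∨ (∃ (b : Module.Basis ((Fin (m - 1) ⊕ Fin (m - 1)) ⊕ Fin 2) F V) (ζ : F), (∀ t : F, t ^ 2 + t + ζ ≠ 0) ∧ (∀ i, Q (b (Sum.inl (Sum.inl i))) = 0 ∧ Q (b (Sum.inl (Sum.inr i))) = 0) ∧ (∀ i j, QuadraticMap.polar ⇑Q (b (Sum.inl (Sum.inl i))) (b (Sum.inl (Sum.inr j))) = if i = j then 1 else 0) ∧ (∀ i j, QuadraticMap.polar ⇑Q (b (Sum.inl (Sum.inl i))) (b (Sum.inl (Sum.inl j))) = 0 ∧ QuadraticMap.polar ⇑Q (b (Sum.inl (Sum.inr i))) (b (Sum.inl (Sum.inr j))) = 0) ∧ (∀ i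 (k : Fin 2), QuadraticMap.polar ⇑Q (b (Sum.inl (Sum.inl i))) (b (Sum.inr k)) = 0 ∧ QuadraticMap.polar ⇑Q (b (Sum.inl (Sum.inr i))) (b (Sum.inr k)) = 0) ∧ Q (b (Sum.inr 0)) = 1 ∧ QuadraticMap.polar ⇑Q (b (Sum.inr 0)) (b (Sum.inr 1)) = 1 ∧ Q (b (Sum.inr 1)) = ζ) := by
  classical
  obtain ⟨k, rfl⟩ : ∃ k, m = k + 1 := ⟨m - 1, by omega⟩
  rcases even_std k V Q hV hQ with ⟨e, f, hs⟩ | ⟨e, f, x, y, ζ, hs, hζ, horth, hx, hxy, hy, hli⟩
  · left
    have hli0 := Cfsg.Agent.Lib.Helper44.HypSys.linearIndependent Q e f hs (Fin.elim0 : Fin 0 → V)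
      (linearIndependent_empty_type) (fun _ j => j.elim0)
    have hli' : LinearIndependent F (Sum.elim e f) := by
      have := hli0.comp Sum.inl Sum.inl_injective
      have h2 : Sum.elim e f = Sum.elim (Sum.elim e f) (Fin.elim0 : Fin 0 → V) ∘ Sum.inl := by
        ext i; rfl
      rw [h2]; exact this
    have hcard : Fintype.card (Fin (k + 1) ⊕ Fin (k + 1)) = Module.finrank F V := by
      simp [hV]; ring
    refine ⟨basisOfLinearIndependentOfCardEqFinrank' _ hli' hcard, ?_⟩
    rw [coe_basisOfLinearIndependentOfCardEqFinrank']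
    obtain ⟨h1, h2, h3⟩ := hs
    exact ⟨fun i => by simpa using h1 i, fun i j => by simpa using h2 i j, fun i j => by simpa using h3 i j⟩
  · right
    have hli0 := Cfsg.Agent.Lib.Helper44.HypSys.linearIndependent Q e f hs ![x, y] hli
      (fun i j => by
        fin_cases j
        · exact ⟨(horth i).1, (horth i).2.1⟩
        · exact ⟨(horth i).2.2.1, (horth i).2.2.2⟩)
    have hcard : Fintype.card ((Fin k ⊕ Fin k) ⊕ Fin 2) = Module.finrank F V := by
      simp [hV]; ring
    refine ⟨basisOfLinearIndependentOfCardEqFinrank' _ hli0 hcard, ζ, hζ, ?_⟩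
    rw [coe_basisOfLinearIndependentOfCardEqFinrank']
    obtain ⟨h1, h2, h3⟩ := hs
    refine ⟨fun i => by simpa using h1 i, fun i j => by simpa using h2 i j, fun i j => by simpa using h3 i j,
      ?_, by simpa using hx, by simpa using hxy, by simpa using hy⟩
    intro i j
    fin_cases j
    · simpa using ⟨(horth i).1, (horth i).2.1⟩
    · simpa using ⟨(horth i).2.2.1, (horth i).2.2.2⟩

end Cfsg.Agent.S2616
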