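import Cfsg.Statements.S2624
import Cfsg.Agent.S2616
-- import your own Cfsg.Agent.* helpers here

set_option autoImplicit false
open Cfsg

namespace Cfsg.Agent.S2624

theorem quad_ext_basis {F V ι : Type*} [Field F] [AddCommGroup V] [Module F V] (b : Module.Basis ι F V)
    (Q₁ Q₂ : QuadraticForm F V) (h1 : ∀ i, Q₁ (b i) = Q₂ (b i))
    (h2 : ∀ i j, QuadraticMap.polar Q₁ (b i) (b j) = QuadraticMap.polar Q₂ (b i) (b j)) : Q₁ = Q₂ := by
  classical
  let _ : LinearOrder ι := IsWellOrder.linearOrder WellOrderingRel
  have h : Q₁.toBilin b = Q₂.toBilin b := by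
    refine LinearMap.BilinForm.ext_basis b (fun i j => ?_)
    rw [QuadraticMap.toBilin_apply, QuadraticMap.toBilin_apply, h1, h2]
  rw [← QuadraticMap.toQuadraticMap_toBilin Q₁ b, h, QuadraticMap.toQuadraticMap_toBilin Q₂ b]

/-- a linear endomorphism scaling a nondegenerate quadratic form by a nonzero scalar is bijective -/
theorem similarity_equiv {F V : Type*} [Field F] [AddCommGroup V] [Module F V] [FiniteDimensional F V]
    (Q : QuadraticForm F V) (hQ : (QuadraticMap.polarBilin Q).Nondegenerate) (c : F) (hc : c ≠ 0)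
    (g : V →ₗ[F] V) (hg : Q.comp g = c • Q) : ∃ g' : V ≃ₗ[F] V, ∀ v, Q (g' v) = c * Q v := by
  have hval : ∀ v, Q (g v) = c * Q v := by
    intro v
    have := congrArg (fun q : QuadraticForm F V => q v) hg
    simpa using this
  have hinj : Function.Injective g := by
    rw [injective_iff_map_eq_zero]
    intro v hv
    apply hQ.1 v
    intro w
    have h1 : c * QuadraticMap.polar Q v w = QuadraticMap.polar Q (g v) (g w) := by
      simp only [QuadraticMap.polar, ← map_add, hval]; ring
    rw [hv, QuadraticMap.polar_zero_left] at h1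
    rcases mul_eq_zero.1 h1 with h | h
    · exact absurd h hc
    · simpa using h
  refine ⟨LinearEquiv.ofInjectiveEndo g hinj, fun v => ?_⟩
  rw [LinearEquiv.coe_ofInjectiveEndo]
  exact hval v

/-- binary anisotropic form represents every nonzero scalar -/
theorem exists_binary_norm {F : Type*} [Field F] [Finite F] (ζ : F) (hζ : ∀ t : F, t ^ 2 + t + ζ ≠ 0)
    (c : F) (hc : c ≠ 0) : ∃ u₁ u₂ : F, u₁ ^ 2 + u₁ * u₂ + ζ * u₂ ^ 2 = c := by
  let N : QuadraticForm F (F × F) :=
    QuadraticMap.linMulLin (LinearMap.fst F F F) (LinearMap.fst F F F) +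
      QuadraticMap.linMulLin (LinearMap.fst F F F) (LinearMap.snd F F F) +
      ζ • QuadraticMap.linMulLin (LinearMap.snd F F F) (LinearMap.snd F F F)
  have hN : ∀ u : F × F, N u = u.1 ^ 2 + u.1 * u.2 + ζ * u.2 ^ 2 := by
    intro u
    simp [N, QuadraticMap.linMulLin_apply]; ring
  have hani : ∀ u : F × F, N u = 0 → u = 0 := by
    intro u hu
    rw [hN] at hu
    by_cases h1 : u.2 = 0
    · rw [h1] at hu
      simp at hu
      exact Prod.ext hu h1
    · exfalso
      apply hζ (u.1 / u.2)
      field_simp
      linear_combination hu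
  obtain ⟨u, hu⟩ := Cfsg.Agent.S2616.exists_norm_one N (by rw [Module.finrank_prod, Module.finrank_self]) hani c hc
  exact ⟨u.1, u.2, by rw [← hN]; exact hu⟩



/-- For a quadratic form Q on F^n with non-degenerate polar form, F finite and n ≥ 2 even, every non-zero scalar c is the multiplier of some similarity: there is an invertible linear map g with Q(g v) = c·Q(v) for all v. -/
theorem result {F : Type*} [Field F] [Fintype F] {n : ℕ} (hn : 2 ≤ n) (he : Even n) (Q : QuadraticForm F (Fin n → F)) (hQ : (QuadraticMap.polarBilin Q).Nondegenerate) (c : F) (hc : c ≠ 0) : ∃ g : (Fin n → F) ≃ₗ[F] (Fin n → F), ∀ v, Q (g v) = c * Q v := by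
  classical
  obtain ⟨m, hm⟩ := he
  have hm1 : 1 ≤ m := by omega
  have hV : Module.finrank F (Fin n → F) = 2 * m := by
    rw [Module.finrank_fin_fun]; omega
  rcases Cfsg.Agent.S2616.result hm1 hV Q hQ with ⟨b, h1, h2, h3⟩ | ⟨b, ζ, hζ, h1, h2, h3, h4, hx, hxy, hy⟩
  · -- hyperbolic case
    let img : Fin m ⊕ Fin m → (Fin n → F) := Sum.elim (fun i => c • b (Sum.inl i)) (fun i => b (Sum.inr i))
    let g : (Fin n → F) →ₗ[F] (Fin n → F) := b.constr F img
    have hgb : ∀ k, g (b k) = img k := fun k => b.constr_basis F img k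
    apply similarity_equiv Q hQ c hc g
    apply quad_ext_basis b
    · intro k
      rcases k with i | i
      · simp [hgb, img, QuadraticMap.map_smul, (h1 i).1]
      · simp [hgb, img, (h1 i).2]
    · intro k l
      have hp : ∀ u v, QuadraticMap.polar (Q.comp g) u v = QuadraticMap.polar Q (g u) (g v) := by
        intro u v; simp [QuadraticMap.polar]
      have hp' : ∀ u v, QuadraticMap.polar (c • Q) u v = c * QuadraticMap.polar Q u v := by
        intro u v; simp [QuadraticMap.polar]; ring
      rw [hp, hp', hgb, hgb]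
      rcases k with i | i <;> rcases l with j | j
      · simp [img, QuadraticMap.polar_smul_left, QuadraticMap.polar_smul_right, (h3 i j).1]
      · simp [img, QuadraticMap.polar_smul_left]
      · simp only [img, Sum.elim_inl, Sum.elim_inr, QuadraticMap.polar_smul_right, smul_eq_mul]
      · simp [img, (h3 i j).2]
  · -- elliptic case
    obtain ⟨u₁, u₂, hu⟩ := exists_binary_norm ζ hζ c hc
    set x := b (Sum.inr 0) with hxdef
    set y := b (Sum.inr 1) with hydef
    let img : (Fin (m - 1) ⊕ Fin (m - 1)) ⊕ Fin 2 → (Fin n → F) :=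
      Sum.elim (Sum.elim (fun i => c • b (Sum.inl (Sum.inl i))) (fun i => b (Sum.inl (Sum.inr i))))
        ![u₁ • x + u₂ • y, (-(ζ * u₂)) • x + (u₁ + u₂) • y]
    let g : (Fin n → F) →ₗ[F] (Fin n → F) := b.constr F img
    have hgb : ∀ k, g (b k) = img k := fun k => b.constr_basis F img k
    have hxx : QuadraticMap.polar Q x x = 2 := by
      rw [QuadraticMap.polar_self, hx]; simp
    have hyy : QuadraticMap.polar Q y y = 2 * ζ := by
      rw [QuadraticMap.polar_self, hy]; simp
    have hyx : QuadraticMap.polar Q y x = 1 := by rw [QuadraticMap.polar_comm]; exact hxy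
    have hQadd : ∀ (s t : F), Q (s • x + t • y) = s ^ 2 + s * t + ζ * t ^ 2 := by
      intro s t
      have : Q (s • x + t • y) = Q (s • x) + Q (t • y) + QuadraticMap.polar Q (s • x) (t • y) := by
        simp only [QuadraticMap.polar]; ring
      rw [this, QuadraticMap.map_smul, QuadraticMap.map_smul, QuadraticMap.polar_smul_left,
        QuadraticMap.polar_smul_right, hx, hy, hxy]
      simp only [smul_eq_mul]; ring
    have hpadd : ∀ (s t s' t' : F), QuadraticMap.polar Q (s • x + t • y) (s' • x + t' • y) =
        2 * s * s' + s * t' + t * s' + 2 * ζ * t * t' := by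
      intro s t s' t'
      simp only [QuadraticMap.polar_add_left, QuadraticMap.polar_add_right, QuadraticMap.polar_smul_left,
        QuadraticMap.polar_smul_right, hxx, hyy, hxy, hyx, smul_eq_mul]
      ring
    apply similarity_equiv Q hQ c hc g
    apply quad_ext_basis b
    · intro k
      rcases k with (i | i) | i
      · simp [hgb, img, QuadraticMap.map_smul, (h1 i).1]
      · simp [hgb, img, (h1 i).2]
      · fin_cases i
        · simp only [QuadraticMap.comp_apply, hgb, img, Sum.elim_inr, smul_apply, smul_eq_mul]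
          show Q (u₁ • x + u₂ • y) = c * Q x
          rw [hQadd, hx, hu, mul_one]
        · simp only [QuadraticMap.comp_apply, hgb, img, Sum.elim_inr, smul_apply, smul_eq_mul]
          show Q ((-(ζ * u₂)) • x + (u₁ + u₂) • y) = c * Q y
          rw [hQadd, hy, ← hu]; ring
    · intro k l
      have hp : ∀ u v, QuadraticMap.polar (Q.comp g) u v = QuadraticMap.polar Q (g u) (g v) := by
        intro u v; simp [QuadraticMap.polar]
      have hp' : ∀ u v, QuadraticMap.polar (c • Q) u v = c * QuadraticMap.polar Q u v := by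
        intro u v; simp [QuadraticMap.polar]; ring
      rw [hp, hp', hgb, hgb]
      have hex : ∀ i, QuadraticMap.polar Q (b (Sum.inl (Sum.inl i))) x = 0 := fun i => (h4 i 0).1
      have hey : ∀ i, QuadraticMap.polar Q (b (Sum.inl (Sum.inl i))) y = 0 := fun i => (h4 i 1).1
      have hfx : ∀ i, QuadraticMap.polar Q (b (Sum.inl (Sum.inr i))) x = 0 := fun i => (h4 i 0).2
      have hfy : ∀ i, QuadraticMap.polar Q (b (Sum.inl (Sum.inr i))) y = 0 := fun i => (h4 i 1).2
      have hxe : ∀ i, QuadraticMap.polar Q x (b (Sum.inl (Sum.inl i))) = 0 := fun i => by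
        rw [QuadraticMap.polar_comm]; exact hex i
      have hye : ∀ i, QuadraticMap.polar Q y (b (Sum.inl (Sum.inl i))) = 0 := fun i => by
        rw [QuadraticMap.polar_comm]; exact hey i
      have hxf : ∀ i, QuadraticMap.polar Q x (b (Sum.inl (Sum.inr i))) = 0 := fun i => by
        rw [QuadraticMap.polar_comm]; exact hfx i
      have hyf : ∀ i, QuadraticMap.polar Q y (b (Sum.inl (Sum.inr i))) = 0 := fun i => by
        rw [QuadraticMap.polar_comm]; exact hfy i
      have hbx : b (Sum.inr 0) = x := rfl
      have hby : b (Sum.inr 1) = y := rfl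
      rcases k with (i | i) | i <;> rcases l with (j | j) | j
      · simp [img, QuadraticMap.polar_smul_left, QuadraticMap.polar_smul_right, (h3 i j).1]
      · simp [img, QuadraticMap.polar_smul_left]
      · fin_cases j
        · simp [img, QuadraticMap.polar_smul_left, QuadraticMap.polar_smul_right, QuadraticMap.polar_add_right,
            hex, hey, hbx]
        · simp [img, QuadraticMap.polar_smul_left, QuadraticMap.polar_smul_right, QuadraticMap.polar_add_right,
            hex, hey, hby]
      · simp only [img, Sum.elim_inl, Sum.elim_inr, QuadraticMap.polar_smul_right, smul_eq_mul]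
      · simp [img, (h3 i j).2]
      · fin_cases j
        · simp [img, QuadraticMap.polar_smul_right, QuadraticMap.polar_add_right, hfx, hfy, hbx]
        · simp [img, QuadraticMap.polar_smul_right, QuadraticMap.polar_add_right, hfx, hfy, hby]
      · fin_cases i
        · simp [img, QuadraticMap.polar_smul_left, QuadraticMap.polar_smul_right, QuadraticMap.polar_add_left,
            hxe, hye, hbx]
        · simp [img, QuadraticMap.polar_smul_left, QuadraticMap.polar_smul_right, QuadraticMap.polar_add_left,
            hxe, hye, hby]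
      · fin_cases i
        · simp [img, QuadraticMap.polar_smul_left, QuadraticMap.polar_add_left, hxf, hyf, hbx]
        · simp [img, QuadraticMap.polar_smul_left, QuadraticMap.polar_add_left, hxf, hyf, hby]
      · fin_cases i <;> fin_cases j
        · show QuadraticMap.polar Q (u₁ • x + u₂ • y) (u₁ • x + u₂ • y) = c * QuadraticMap.polar Q x x
          rw [hpadd, hxx, ← hu]; ring
        · show QuadraticMap.polar Q (u₁ • x + u₂ • y) ((-(ζ * u₂)) • x + (u₁ + u₂) • y) = c * QuadraticMap.polar Q x y
          rw [hpadd, hxy, ← hu]; ring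
        · show QuadraticMap.polar Q ((-(ζ * u₂)) • x + (u₁ + u₂) • y) (u₁ • x + u₂ • y) = c * QuadraticMap.polar Q y x
          rw [hpadd, hyx, ← hu]; ring
        · show QuadraticMap.polar Q ((-(ζ * u₂)) • x + (u₁ + u₂) • y) ((-(ζ * u₂)) • x + (u₁ + u₂) • y) = c * QuadraticMap.polar Q y y
          rw [hpadd, hyy, ← hu]; ring

end Cfsg.Agent.S2624
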