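import Cfsg.Statements.S2623
import Cfsg.Agent.S2624
-- import your own Cfsg.Agent.* helpers here

set_option autoImplicit false
open Cfsg

namespace Cfsg.Agent.S2623

open Module Cfsg.Agent.Lib.Helper44

/-- Gram determinants in two bases differ by a nonzero square. -/
theorem gram_change {F V ι κ : Type*} [Field F] [AddCommGroup V] [Module F V]
    [Fintype ι] [DecidableEq ι] [Fintype κ] [DecidableEq κ]
    (B : LinearMap.BilinForm F V) (b : Basis ι F V) (c : Basis κ F V) :
    ∃ s : F, s ≠ 0 ∧ (LinearMap.BilinForm.toMatrix c B).det = s * s * (LinearMap.BilinForm.toMatrix b B).det := by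
  let e : κ ≃ ι := c.indexEquiv b
  let c' : Basis ι F V := c.reindex e
  have h1 : LinearMap.BilinForm.toMatrix c B = (LinearMap.BilinForm.toMatrix c' B).submatrix e e := by
    ext i j
    simp [LinearMap.BilinForm.toMatrix_apply, c']
  have h2 := LinearMap.BilinForm.toMatrix_mul_basis_toMatrix (b := b) c' B
  refine ⟨(b.toMatrix c').det, ?_, ?_⟩
  · have : IsUnit (b.toMatrix c').det := by
      rw [← Matrix.isUnit_iff_isUnit_det]
      have := Module.Basis.invertibleToMatrix b c'
      exact isUnit_of_invertible _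
    exact this.ne_zero
  · rw [h1, Matrix.det_submatrix_equiv_self, ← h2, Matrix.det_mul, Matrix.det_mul, Matrix.det_transpose]
    ring

/-- A nondegenerate quadratic form in dimension at least two over a finite field represents 1. -/
theorem universal_one {F V : Type*} [Field F] [Finite F] [AddCommGroup V] [Module F V]
    [FiniteDimensional F V] (Q : QuadraticForm F V) (hQ : (QuadraticMap.polarBilin Q).Nondegenerate)
    (h2 : 2 ≤ finrank F V) : ∃ x : V, Q x = 1 := by
  by_cases hiso : ∃ v : V, v ≠ 0 ∧ Q v = 0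
  · obtain ⟨e, he, hQe⟩ := hiso
    obtain ⟨f, hQf, hef⟩ := exists_hyp_partner Q hQ e he hQe
    refine ⟨e + f, ?_⟩
    have : Q (e + f) = Q e + Q f + QuadraticMap.polar Q e f := by
      simp only [QuadraticMap.polar]; ring
    rw [this, hQe, hQf, hef]; simp
  · push Not at hiso
    have hani : ∀ v : V, Q v = 0 → v = 0 := by
      intro v hv
      by_contra h
      exact hiso v h hv
    exact Cfsg.Agent.S2616.exists_norm_one Q h2 hani 1 one_ne_zero

/-- A linear map preserving quadratic forms out of a nondegenerate space is injective; with equal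
dimensions it is an equivalence. -/
theorem isometry_of_map {F V₁ V₂ : Type*} [Field F] [AddCommGroup V₁] [Module F V₁] [FiniteDimensional F V₁]
    [AddCommGroup V₂] [Module F V₂] [FiniteDimensional F V₂]
    (Q₁ : QuadraticForm F V₁) (Q₂ : QuadraticForm F V₂) (hQ : (QuadraticMap.polarBilin Q₁).Nondegenerate)
    (hdim : finrank F V₁ = finrank F V₂)
    (g : V₁ →ₗ[F] V₂) (hg : ∀ v, Q₂ (g v) = Q₁ v) : ∃ g' : V₁ ≃ₗ[F] V₂, ∀ v, Q₂ (g' v) = Q₁ v := by
  have hinj : Function.Injective g := by
    rw [injective_iff_map_eq_zero]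
    intro v hv
    apply hQ.1 v
    intro w
    have h1 : QuadraticMap.polar Q₁ v w = QuadraticMap.polar Q₂ (g v) (g w) := by
      simp only [QuadraticMap.polar, ← map_add, hg]
    rw [hv, QuadraticMap.polar_zero_left] at h1
    simpa using h1
  exact ⟨g.linearEquivOfInjective hinj hdim, fun v => by
    rw [LinearMap.linearEquivOfInjective_apply]; exact hg v⟩

theorem split_one {F V : Type*} [Field F] [AddCommGroup V] [Module F V] [FiniteDimensional F V]
    (h2 : (2 : F) ≠ 0) (Q : QuadraticForm F V) (hQ : (QuadraticMap.polarBilin Q).Nondegenerate)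
    (x : V) (hx : Q x = 1) {n : ℕ} (hn : finrank F V = n + 1) :
    ∃ W : Submodule F V, (QuadraticMap.polarBilin (Q.comp W.subtype)).Nondegenerate ∧
      finrank F W = n ∧ (∀ w ∈ W, QuadraticMap.polar Q x w = 0) ∧
      ∀ c : Basis (Fin n) F W, ∃ b' : Basis (Unit ⊕ Fin n) F V, b' (Sum.inl ()) = x ∧
        (∀ i, b' (Sum.inr i) = c i) ∧
        (LinearMap.BilinForm.toMatrix b' (QuadraticMap.polarBilin Q)).det =
          2 * (LinearMap.BilinForm.toMatrix c (QuadraticMap.polarBilin (Q.comp W.subtype))).det := by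
  classical
  set B : LinearMap.BilinForm F V := QuadraticMap.polarBilin Q with hBdef
  have hS : B.IsSymm := polarBilin_isSymm Q
  have hxx : B x x = 2 := by
    simp [hBdef, QuadraticMap.polar_self, hx]
  have hxx0 : B x x ≠ 0 := by rw [hxx]; exact h2
  have hx0 : x ≠ 0 := by
    rintro rfl; simp at hx
  have hc := LinearMap.BilinForm.isCompl_span_singleton_orthogonal hxx0
  have hnd := LinearMap.BilinForm.restrict_nondegenerate_orthogonal_spanSingleton B hQ hS.isRefl hxx0
  refine ⟨LinearMap.BilinForm.orthogonal B (F ∙ x), ?_, ?_, ?_, ?_⟩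
  · rw [polarBilin_comp_subtype]; exact hnd
  · have h1 := Submodule.finrank_add_eq_of_isCompl hc
    have h3 : finrank F (F ∙ x) = 1 := finrank_span_singleton hx0
    omega
  · intro w hw
    rw [LinearMap.BilinForm.mem_orthogonal_iff] at hw
    exact hw x (Submodule.mem_span_singleton_self x)
  · intro c
    let bx : Basis Unit F (F ∙ x) :=
      (Basis.singleton Unit F).map (LinearEquiv.toSpanNonzeroSingleton F V x hx0)
    have hbx : (bx () : V) = x := by
      simp [bx]
    let b' : Basis (Unit ⊕ Fin n) F V := (bx.prod c).map (Submodule.prodEquivOfIsCompl _ _ hc)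
    have hb1 : b' (Sum.inl ()) = x := by
      simp only [b', Basis.map_apply, Submodule.coe_prodEquivOfIsCompl', Basis.prod_apply_inl_fst,
        Basis.prod_apply_inl_snd, hbx]
      simp
    have hb2 : ∀ i, b' (Sum.inr i) = c i := by
      intro i
      simp only [b', Basis.map_apply, Submodule.coe_prodEquivOfIsCompl', Basis.prod_apply_inr_fst,
        Basis.prod_apply_inr_snd]
      simp
    refine ⟨b', hb1, hb2, ?_⟩
    have horth : ∀ i, B x (c i) = 0 := by
      intro i
      have := (c i).2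
      rw [LinearMap.BilinForm.mem_orthogonal_iff] at this
      exact this x (Submodule.mem_span_singleton_self x)
    have hG : LinearMap.BilinForm.toMatrix b' B =
        Matrix.fromBlocks (Matrix.of fun _ _ : Unit => (2 : F)) 0 0
          (LinearMap.BilinForm.toMatrix c (QuadraticMap.polarBilin (Q.comp (LinearMap.BilinForm.orthogonal B (F ∙ x)).subtype))) := by
      ext i j
      rcases i with i | i <;> rcases j with j | j
      · simp [LinearMap.BilinForm.toMatrix_apply, hb1, hxx]
      · simp [LinearMap.BilinForm.toMatrix_apply, hb1, hb2, horth]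
      · simp only [LinearMap.BilinForm.toMatrix_apply, hb1, hb2, Matrix.fromBlocks_apply₂₁, Matrix.zero_apply]
        rw [← hS.eq]; exact horth i
      · simp [LinearMap.BilinForm.toMatrix_apply, hb2, QuadraticMap.polar, hBdef]
    rw [hG, Matrix.det_fromBlocks_zero₂₁, Matrix.det_unique]
    simp

theorem polar_isometry {F V₁ V₂ : Type*} [Field F] [AddCommGroup V₁] [Module F V₁]
    [AddCommGroup V₂] [Module F V₂] (Q₁ : QuadraticForm F V₁) (Q₂ : QuadraticForm F V₂)
    (g : V₁ →ₗ[F] V₂) (hg : ∀ v, Q₂ (g v) = Q₁ v) (u v : V₁) :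
    QuadraticMap.polar Q₂ (g u) (g v) = QuadraticMap.polar Q₁ u v := by
  simp only [QuadraticMap.polar, ← map_add, hg]

theorem iso_of_disc {F : Type*} [Field F] [Finite F] (h2 : (2 : F) ≠ 0) (n : ℕ) :
    ∀ (V₁ V₂ : Type*) [AddCommGroup V₁] [Module F V₁] [FiniteDimensional F V₁]
      [AddCommGroup V₂] [Module F V₂] [FiniteDimensional F V₂]
      (Q₁ : QuadraticForm F V₁) (Q₂ : QuadraticForm F V₂),
      (QuadraticMap.polarBilin Q₁).Nondegenerate → (QuadraticMap.polarBilin Q₂).Nondegenerate →
      finrank F V₁ = n → finrank F V₂ = n →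
      ∀ (b₁ : Basis (Fin n) F V₁) (b₂ : Basis (Fin n) F V₂),
        IsSquare ((LinearMap.BilinForm.toMatrix b₁ (QuadraticMap.polarBilin Q₁)).det *
          (LinearMap.BilinForm.toMatrix b₂ (QuadraticMap.polarBilin Q₂)).det) →
        ∃ g : V₁ ≃ₗ[F] V₂, ∀ v, Q₂ (g v) = Q₁ v := by
  induction n with
  | zero =>
    intro V₁ V₂ _ _ _ _ _ _ Q₁ Q₂ _ _ hV₁ hV₂ _ _ _
    refine ⟨LinearEquiv.ofFinrankEq V₁ V₂ (by rw [hV₁, hV₂]), fun v => ?_⟩
    have s1 : Subsingleton V₁ := (finrank_zero_iff).1 hV₁
    have s2 : Subsingleton V₂ := (finrank_zero_iff).1 hV₂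
    rw [Subsingleton.elim v 0, map_zero, map_zero, map_zero]
  | succ n ih =>
    intro V₁ V₂ _ _ _ _ _ _ Q₁ Q₂ hQ₁ hQ₂ hV₁ hV₂ b₁ b₂ hsq
    rcases Nat.eq_zero_or_pos n with hn | hn
    · -- dimension one
      subst hn
      set u₁ := b₁ 0 with hu₁
      set u₂ := b₂ 0 with hu₂
      have hd₁ : (LinearMap.BilinForm.toMatrix b₁ (QuadraticMap.polarBilin Q₁)).det = 2 * Q₁ u₁ := by
        rw [Matrix.det_fin_one, LinearMap.BilinForm.toMatrix_apply]
        simp [QuadraticMap.polar_self, hu₁]
      have hd₂ : (LinearMap.BilinForm.toMatrix b₂ (QuadraticMap.polarBilin Q₂)).det = 2 * Q₂ u₂ := by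
        rw [Matrix.det_fin_one, LinearMap.BilinForm.toMatrix_apply]
        simp [QuadraticMap.polar_self, hu₂]
      have hne₂ : (2 : F) * Q₂ u₂ ≠ 0 := by
        rw [← hd₂]
        exact (LinearMap.BilinForm.nondegenerate_iff_det_ne_zero b₂).1 hQ₂
      have ha₂ : Q₂ u₂ ≠ 0 := right_ne_zero_of_mul hne₂
      rw [hd₁, hd₂] at hsq
      obtain ⟨r, hr⟩ := hsq
      set t := r / (2 * Q₂ u₂) with ht
      let g : V₁ →ₗ[F] V₂ := b₁.constr F (fun _ => t • u₂)
      have hgu : g u₁ = t • u₂ := b₁.constr_basis F _ 0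
      have hQg : Q₂ (g u₁) = Q₁ u₁ := by
        rw [hgu, QuadraticMap.map_smul, ht, smul_eq_mul]
        field_simp
        linear_combination (-1 : F) * hr
      have hcomp : Q₂.comp g = Q₁ := by
        apply Cfsg.Agent.S2624.quad_ext_basis b₁
        · intro i
          have : i = 0 := Fin.eq_zero i
          rw [this]; exact hQg
        · intro i j
          have hi : i = 0 := Fin.eq_zero i
          have hj : j = 0 := Fin.eq_zero j
          rw [hi, hj, QuadraticMap.polar_self, QuadraticMap.polar_self]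
          show 2 • Q₂ (g u₁) = 2 • Q₁ u₁
          rw [hQg]
      refine isometry_of_map Q₁ Q₂ hQ₁ (by rw [hV₁, hV₂]) g (fun v => ?_)
      have := congrArg (fun q : QuadraticForm F V₁ => q v) hcomp
      simpa using this
    · -- dimension at least two
      obtain ⟨x₁, hx₁⟩ := universal_one Q₁ hQ₁ (by omega)
      obtain ⟨x₂, hx₂⟩ := universal_one Q₂ hQ₂ (by omega)
      obtain ⟨W₁, hW₁nd, hW₁fr, hW₁orth, hW₁b⟩ := split_one h2 Q₁ hQ₁ x₁ hx₁ hV₁
      obtain ⟨W₂, hW₂nd, hW₂fr, hW₂orth, hW₂b⟩ := split_one h2 Q₂ hQ₂ x₂ hx₂ hV₂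
      let c₁ : Basis (Fin n) F W₁ := finBasisOfFinrankEq F W₁ hW₁fr
      let c₂ : Basis (Fin n) F W₂ := finBasisOfFinrankEq F W₂ hW₂fr
      obtain ⟨b'₁, hb'₁x, hb'₁c, hdet₁⟩ := hW₁b c₁
      obtain ⟨b'₂, hb'₂x, hb'₂c, hdet₂⟩ := hW₂b c₂
      obtain ⟨s₁, hs₁, hg₁⟩ := gram_change (QuadraticMap.polarBilin Q₁) b₁ b'₁
      obtain ⟨s₂, hs₂, hg₂⟩ := gram_change (QuadraticMap.polarBilin Q₂) b₂ b'₂
      obtain ⟨r, hr⟩ := hsq
      have hsq' : IsSquare ((LinearMap.BilinForm.toMatrix c₁ (QuadraticMap.polarBilin (Q₁.comp W₁.subtype))).det *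
          (LinearMap.BilinForm.toMatrix c₂ (QuadraticMap.polarBilin (Q₂.comp W₂.subtype))).det) := by
        refine ⟨s₁ * s₂ * r / 2, ?_⟩
        have e1 : (LinearMap.BilinForm.toMatrix c₁ (QuadraticMap.polarBilin (Q₁.comp W₁.subtype))).det =
            s₁ * s₁ * (LinearMap.BilinForm.toMatrix b₁ (QuadraticMap.polarBilin Q₁)).det / 2 := by
          rw [← hg₁, hdet₁]; field_simp
        have e2 : (LinearMap.BilinForm.toMatrix c₂ (QuadraticMap.polarBilin (Q₂.comp W₂.subtype))).det =
            s₂ * s₂ * (LinearMap.BilinForm.toMatrix b₂ (QuadraticMap.polarBilin Q₂)).det / 2 := by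
          rw [← hg₂, hdet₂]; field_simp
        rw [e1, e2]
        field_simp
        linear_combination hr
      obtain ⟨h, hh⟩ := ih W₁ W₂ (Q₁.comp W₁.subtype) (Q₂.comp W₂.subtype) hW₁nd hW₂nd hW₁fr hW₂fr c₁ c₂ hsq'
      let img : Unit ⊕ Fin n → V₂ := Sum.elim (fun _ => x₂) (fun i => ((h (c₁ i) : W₂) : V₂))
      let g : V₁ →ₗ[F] V₂ := b'₁.constr F img
      have hgb : ∀ k, g (b'₁ k) = img k := fun k => b'₁.constr_basis F img k
      have hhQ : ∀ w : W₁, Q₂ ((h w : W₂) : V₂) = Q₁ (w : V₁) := by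
        intro w
        have := hh w
        simpa using this
      have hhP : ∀ u v : W₁, QuadraticMap.polar Q₂ ((h u : W₂) : V₂) ((h v : W₂) : V₂) =
          QuadraticMap.polar Q₁ (u : V₁) (v : V₁) := by
        intro u v
        have := polar_isometry (Q₁.comp W₁.subtype) (Q₂.comp W₂.subtype) (h : W₁ →ₗ[F] W₂) hh u v
        simpa [QuadraticMap.polar] using this
      have hcomp : Q₂.comp g = Q₁ := by
        apply Cfsg.Agent.S2624.quad_ext_basis b'₁
        · intro k
          rcases k with k | i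
          · obtain ⟨⟩ := k
            rw [QuadraticMap.comp_apply, hgb]
            simp only [img, Sum.elim_inl]
            rw [hb'₁x, hx₁, hx₂]
          · rw [QuadraticMap.comp_apply, hgb]
            simp only [img, Sum.elim_inr]
            rw [hb'₁c, hhQ]
        · intro k l
          have hp : ∀ u v, QuadraticMap.polar (Q₂.comp g) u v = QuadraticMap.polar Q₂ (g u) (g v) := by
            intro u v; simp [QuadraticMap.polar]
          rw [hp, hgb, hgb]
          rcases k with k | i <;> rcases l with l | j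
          · obtain ⟨⟩ := k
            obtain ⟨⟩ := l
            simp only [img, Sum.elim_inl]
            rw [hb'₁x, QuadraticMap.polar_self, QuadraticMap.polar_self, hx₁, hx₂]
          · obtain ⟨⟩ := k
            simp only [img, Sum.elim_inl, Sum.elim_inr]
            rw [hb'₁x, hb'₁c, hW₂orth _ (h (c₁ j)).2, hW₁orth _ (c₁ j).2]
          · obtain ⟨⟩ := l
            simp only [img, Sum.elim_inl, Sum.elim_inr]
            rw [hb'₁x, hb'₁c, QuadraticMap.polar_comm, hW₂orth _ (h (c₁ i)).2, QuadraticMap.polar_comm,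
              hW₁orth _ (c₁ i).2]
          · simp only [img, Sum.elim_inr]
            rw [hb'₁c, hb'₁c, hhP]
      refine isometry_of_map Q₁ Q₂ hQ₁ (by rw [hV₁, hV₂]) g (fun v => ?_)
      have := congrArg (fun q : QuadraticForm F V₁ => q v) hcomp
      simpa using this



/-- Over a finite field of odd order, two quadratic forms on F^n with non-degenerate polar forms are isometric (related by an invertible linear change of variables) if and only if their discriminants (determinants of the Gram matrices of their polar forms) lie in the same square class. -/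
theorem result {F : Type*} [Field F] [Fintype F] (h2 : (2 : F) ≠ 0) {n : ℕ} (Q₁ Q₂ : QuadraticForm F (Fin n → F)) (h₁ : (QuadraticMap.polarBilin Q₁).Nondegenerate) (h₂ : (QuadraticMap.polarBilin Q₂).Nondegenerate) : (∃ g : (Fin n → F) ≃ₗ[F] (Fin n → F), ∀ v, Q₂ (g v) = Q₁ v) ↔ IsSquare ((Matrix.of (fun i j : Fin n => QuadraticMap.polar ⇑Q₁ (Pi.single i 1) (Pi.single j 1))).det * (Matrix.of (fun i j : Fin n => QuadraticMap.polar ⇑Q₂ (Pi.single i 1) (Pi.single j 1))).det) := by
  have hG : ∀ Q : QuadraticForm F (Fin n → F),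
      Matrix.of (fun i j : Fin n => QuadraticMap.polar ⇑Q (Pi.single i 1) (Pi.single j 1)) =
        LinearMap.BilinForm.toMatrix (Pi.basisFun F (Fin n)) (QuadraticMap.polarBilin Q) := by
    intro Q
    ext i j
    simp [LinearMap.BilinForm.toMatrix_apply]
  rw [hG, hG]
  constructor
  · rintro ⟨g, hg⟩
    let b' : Module.Basis (Fin n) F (Fin n → F) := (Pi.basisFun F (Fin n)).map g
    have hGb : LinearMap.BilinForm.toMatrix b' (QuadraticMap.polarBilin Q₂) =
        LinearMap.BilinForm.toMatrix (Pi.basisFun F (Fin n)) (QuadraticMap.polarBilin Q₁) := by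
      ext i j
      simp only [LinearMap.BilinForm.toMatrix_apply, b', Module.Basis.map_apply,
        QuadraticMap.polarBilin_apply_apply]
      exact polar_isometry Q₁ Q₂ (g : (Fin n → F) →ₗ[F] (Fin n → F)) hg _ _
    obtain ⟨s, _, hs⟩ := gram_change (QuadraticMap.polarBilin Q₂) (Pi.basisFun F (Fin n)) b'
    rw [← hGb, hs]
    exact ⟨s * (LinearMap.BilinForm.toMatrix (Pi.basisFun F (Fin n)) (QuadraticMap.polarBilin Q₂)).det, by ring⟩
  · intro hsq
    exact iso_of_disc h2 n (Fin n → F) (Fin n → F) Q₁ Q₂ h₁ h₂ (by simp) (by simp)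
      (Pi.basisFun F (Fin n)) (Pi.basisFun F (Fin n)) hsq

end Cfsg.Agent.S2623
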