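import Cfsg.Statements.S2690
import Cfsg.Agent.Lib.Helper45.PSLAut.Main
import Cfsg.Agent.Lib.Helper41.PSL2AutMain
-- import your own Cfsg.Agent.* helpers here

set_option autoImplicit false
open Cfsg

namespace Cfsg.Agent.S2690

open Cfsg.Agent.Lib.Helper45.PSLAut Matrix

variable {F : Type*} [Field F] {ι : Type*} [DecidableEq ι] [Fintype ι]

theorem isInnerDiagonal_descend_conjGL (g : GL ι F) :
    ∃ g' : GL ι F, ∀ s s' : Matrix.SpecialLinearGroup ι F,
      (s' : Matrix ι ι F) = ((g' : GL ι F) : Matrix ι ι F) * (s : Matrix ι ι F) *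
          ((g'⁻¹ : GL ι F) : Matrix ι ι F) →
        descend (conjGL g) (QuotientGroup.mk s) = QuotientGroup.mk s' := by
  refine ⟨g, fun s s' h => ?_⟩
  rw [descend_mk]
  congr 1
  apply sl_ext
  rw [conjGL_coe, h]

theorem isStdField_descend_fieldAut (σ : F ≃+* F) :
    ∀ s s' : Matrix.SpecialLinearGroup ι F,
      (s' : Matrix ι ι F) = (s : Matrix ι ι F).map σ →
        descend (fieldAut σ) (QuotientGroup.mk s) = QuotientGroup.mk s' := by
  intro s s' h
  rw [descend_mk]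
  congr 1
  apply sl_ext
  rw [fieldAut_coe, h]

theorem isInverseTranspose_iotaBar :
    ∀ s s' : Matrix.SpecialLinearGroup ι F,
      (s' : Matrix ι ι F) = ((s⁻¹ : Matrix.SpecialLinearGroup ι F) : Matrix ι ι F).transpose →
        (iotaBar : MulAut (Matrix.ProjectiveSpecialLinearGroup ι F)) (QuotientGroup.mk s) =
          QuotientGroup.mk s' := by
  intro s s' h
  rw [iotaBar, descend_mk]
  congr 1
  apply sl_ext
  rw [invT_coe, h]

theorem diag_two_entry (c : Fˣ) (s : Matrix (Fin 2) (Fin 2) F) (i j : Fin 2) :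
    (((![c, 1] : Fin 2 → Fˣ) i : Fˣ) : F) * s i j * ((((![c, 1] : Fin 2 → Fˣ) j)⁻¹ : Fˣ) : F) =
      !![s 0 0, (c : F) * s 0 1; ((c⁻¹ : Fˣ) : F) * s 1 0, s 1 1] i j := by
  fin_cases i <;> fin_cases j
  · show ((c : Fˣ) : F) * s 0 0 * ((c⁻¹ : Fˣ) : F) = s 0 0
    rw [mul_comm, ← mul_assoc, ← Units.val_mul, inv_mul_cancel, Units.val_one, one_mul]
  · show ((c : Fˣ) : F) * s 0 1 * (((1 : Fˣ)⁻¹ : Fˣ) : F) = (c : F) * s 0 1
    rw [inv_one, Units.val_one, mul_one]
  · show (((1 : Fˣ) : Fˣ) : F) * s 1 0 * ((c⁻¹ : Fˣ) : F) = ((c⁻¹ : Fˣ) : F) * s 1 0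
    rw [Units.val_one, one_mul, mul_comm]
  · show (((1 : Fˣ) : Fˣ) : F) * s 1 1 * (((1 : Fˣ)⁻¹ : Fˣ) : F) = s 1 1
    rw [inv_one, Units.val_one, mul_one, one_mul]

theorem isInnerDiagonal_two (g : Matrix.SpecialLinearGroup (Fin 2) F) (c : Fˣ) :
    Cfsg.IsInnerDiagonalAutPSL (MulAut.conj (QuotientGroup.mk g : Matrix.ProjectiveSpecialLinearGroup (Fin 2) F) *
      Cfsg.Agent.Lib.Helper41.descend (Cfsg.Agent.Lib.Helper41.diagAut c)) := by
  refine ⟨Matrix.SpecialLinearGroup.toGL g * diagGL ![c, 1], fun s s' h => ?_⟩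
  rw [MulAut.mul_apply, Cfsg.Agent.Lib.Helper41.descend_mk, MulAut.conj_apply]
  show (QuotientGroup.mk (g * Cfsg.Agent.Lib.Helper41.diagAut c s * g⁻¹) :
    Matrix.ProjectiveSpecialLinearGroup (Fin 2) F) = _
  congr 1
  apply sl_ext
  rw [h, Matrix.SpecialLinearGroup.coe_mul, Matrix.SpecialLinearGroup.coe_mul, _root_.mul_inv_rev,
    Units.val_mul, Units.val_mul, ← map_inv]
  have hD : ((diagGL ![c, 1] : GL (Fin 2) F) : Matrix (Fin 2) (Fin 2) F) * (s : Matrix (Fin 2) (Fin 2) F) *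
      (((diagGL ![c, 1])⁻¹ : GL (Fin 2) F) : Matrix (Fin 2) (Fin 2) F) =
      ((Cfsg.Agent.Lib.Helper41.diagAut c s : Matrix.SpecialLinearGroup (Fin 2) F) : Matrix (Fin 2) (Fin 2) F) := by
    show (diagonal fun i => ((![c, 1] : Fin 2 → Fˣ) i : F)) * (s : Matrix (Fin 2) (Fin 2) F) *
      (diagonal fun i => ((((![c, 1] : Fin 2 → Fˣ) i)⁻¹ : Fˣ) : F)) = _
    rw [Cfsg.Agent.Lib.Helper41.diagAut_apply, Cfsg.Agent.Lib.Helper41.coe_diagAutFun]
    ext i j
    rw [mul_diagonal, diagonal_mul]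
    exact diag_two_entry c _ i j
  rw [← hD]
  simp only [Matrix.mul_assoc]
  rfl

/-- Every automorphism of a simple projective special linear group PSL_n(F) over a finite field (n ≥ 2; |F| ≥ 4 when n = 2) is a product δ φ γ of an inner-diagonal automorphism δ (induced by an invertible matrix), a standard field automorphism φ (one automorphism of F applied to every entry, possibly the identity) and γ either the identity or the inverse-transpose automorphism. -/
theorem result {F : Type*} [Field F] [Fintype F] {p f : ℕ} [Fact p.Prime] (hF : Fintype.card F = p ^ f) (hf : 1 ≤ f) {n : ℕ} (hn : 2 ≤ n) (hs : n = 2 → 4 ≤ Fintype.card F) (β : MulAut (Matrix.ProjectiveSpecialLinearGroup (Fin n) F)) :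
    ∃ (δ φ γ : MulAut (Matrix.ProjectiveSpecialLinearGroup (Fin n) F)) (σ : F ≃+* F), Cfsg.IsInnerDiagonalAutPSL δ ∧ Cfsg.IsStdFieldAutPSL σ φ ∧ (γ = 1 ∨ Cfsg.IsInverseTransposeAutPSL γ) ∧ β = δ * φ * γ := by
  by_cases h2 : n = 2
  · subst h2
    have : CharP F p := charP_of_card_eq_prime_pow hF
    obtain ⟨g, c, σ, hα⟩ := Cfsg.Agent.Lib.Helper41.exists_decomp p β
    refine ⟨MulAut.conj (QuotientGroup.mk g) * Cfsg.Agent.Lib.Helper41.descend (Cfsg.Agent.Lib.Helper41.diagAut c),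
      Cfsg.Agent.Lib.Helper41.descend (Cfsg.Agent.Lib.Helper41.fieldAut σ), 1, σ, ?_, ?_, Or.inl rfl,
      by rw [mul_one]; exact hα⟩
    · exact isInnerDiagonal_two g c
    · intro s s' h
      rw [Cfsg.Agent.Lib.Helper41.descend_mk]
      congr 1
      apply sl_ext
      ext i j
      rw [Cfsg.Agent.Lib.Helper41.fieldAut_apply, h]
      rfl
  · obtain ⟨m, rfl⟩ : ∃ m, n = m + 1 := ⟨n - 1, by omega⟩
    have hm : 2 ≤ m := by omega
    obtain ⟨g, σ, h | h⟩ := exists_decomp hF hf hm β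
    · exact ⟨descend (conjGL g), descend (fieldAut σ), 1, σ, isInnerDiagonal_descend_conjGL g,
        isStdField_descend_fieldAut σ, Or.inl rfl, by rw [mul_one]; exact h⟩
    · exact ⟨descend (conjGL g), descend (fieldAut σ), iotaBar, σ, isInnerDiagonal_descend_conjGL g,
        isStdField_descend_fieldAut σ, Or.inr isInverseTranspose_iotaBar, h⟩

end Cfsg.Agent.S2690
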