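import Mathlib
import Cfsg.Statements.S0792
import Cfsg.Agent.Lib.Helper13.QuadWitt
import Cfsg.Agent.Lib.Helper13.Orth
-- import your own Cfsg.Agent.* helpers here

set_option autoImplicit false
open Cfsg

namespace Cfsg.Agent.S0792

open Cfsg.Agent.Lib.Helper13

section Basic

variable {F V : Type*} [Field F] [AddCommGroup V] [Module F V]

local notation "pol" => QuadraticMap.polar

theorem pol_isom (Q : QuadraticForm F V) (g : V →ₗ[F] V) (hg : ∀ x, Q (g x) = Q x) (x y : V) :
    pol (⇑Q) (g x) (g y) = pol (⇑Q) x y := by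
  unfold QuadraticMap.polar
  rw [← map_add, hg, hg, hg]

theorem Q_add' (Q : QuadraticForm F V) (x y : V) : Q (x + y) = Q x + Q y + pol (⇑Q) x y := by
  unfold QuadraticMap.polar; ring

/-- reflections are involutions -/
theorem reflLin_reflLin (Q : QuadraticForm F V) (u : V) (hu : Q u ≠ 0) (z : V) :
    reflLin Q u (reflLin Q u z) = z := by
  rw [reflLin_apply, reflLin_apply, QuadraticMap.polar_sub_right, QuadraticMap.polar_smul_right,
    polar_self']
  simp only [smul_eq_mul]
  have : (Q u)⁻¹ * (pol (⇑Q) u z - (Q u)⁻¹ * pol (⇑Q) u z * (2 * Q u)) = -((Q u)⁻¹ * pol (⇑Q) u z) := by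
    field_simp
    ring
  rw [this, neg_smul]
  abel

theorem reflLin_mul_self (Q : QuadraticForm F V) (u : V) (hu : Q u ≠ 0) :
    reflLin Q u * reflLin Q u = 1 := by
  apply LinearMap.ext
  intro z
  exact reflLin_reflLin Q u hu z

/-- case A -/
theorem refl_sub (Q : QuadraticForm F V) (g : V →ₗ[F] V) (hg : ∀ x, Q (g x) = Q x) (v : V)
    (h : Q (g v - v) ≠ 0) : reflLin Q (g v - v) (g v) = v := by
  rw [reflLin_apply]
  have h1 : pol (⇑Q) (g v - v) (g v) = Q (g v - v) := by
    rw [Q_sub, QuadraticMap.polar_sub_left, polar_self', hg, QuadraticMap.polar_comm (⇑Q) v (g v)]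
    ring
  rw [h1, inv_mul_cancel₀ h, one_smul]
  abel

/-- case B -/
theorem refl_add (Q : QuadraticForm F V) (g : V →ₗ[F] V) (hg : ∀ x, Q (g x) = Q x) (v : V)
    (h : Q (g v + v) ≠ 0) : reflLin Q (g v + v) (g v) = -v := by
  rw [reflLin_apply]
  have h1 : pol (⇑Q) (g v + v) (g v) = Q (g v + v) := by
    rw [Q_add', QuadraticMap.polar_add_left, polar_self', hg, QuadraticMap.polar_comm (⇑Q) v (g v)]
    ring
  rw [h1, inv_mul_cancel₀ h, one_smul]
  abel

theorem refl_neg_self (Q : QuadraticForm F V) (v : V) (h2 : (2 : F) ≠ 0) (hv : Q v ≠ 0) :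
    reflLin Q v (-v) = v := by
  rw [reflLin_apply, QuadraticMap.polar_neg_right, polar_self']
  have : (Q v)⁻¹ * -(2 * Q v) = -2 := by field_simp
  rw [this]
  module

theorem Q_sub_add (Q : QuadraticForm F V) (g : V →ₗ[F] V) (hg : ∀ x, Q (g x) = Q x) (v : V) :
    Q (g v - v) + Q (g v + v) = 4 * Q v := by
  rw [Q_sub, Q_add', hg]
  ring

end Basic


section Ext

variable {F V : Type*} [Field F] [AddCommGroup V] [Module F V] (Q : QuadraticForm F V) (v : V)

local notation "pol" => QuadraticMap.polar

/-- the orthogonal complement of `v` -/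
def perp : Submodule F V := LinearMap.ker (QuadraticMap.polarBilin Q v)

theorem mem_perp (z : V) : z ∈ perp Q v ↔ pol (⇑Q) v z = 0 := by
  rw [perp, LinearMap.mem_ker]; rfl

/-- projection onto `perp` along `v`, as an endomorphism -/
def projFun : V →ₗ[F] V :=
  LinearMap.id - ((pol (⇑Q) v v)⁻¹ • QuadraticMap.polarBilin Q v).smulRight v

theorem projFun_apply (z : V) :
    projFun Q v z = z - ((pol (⇑Q) v v)⁻¹ * pol (⇑Q) v z) • v := by
  simp [projFun, LinearMap.smulRight_apply]

variable {Q v}

theorem projFun_mem (hv : pol (⇑Q) v v ≠ 0) (z : V) : projFun Q v z ∈ perp Q v := by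
  rw [mem_perp, projFun_apply, QuadraticMap.polar_sub_right, QuadraticMap.polar_smul_right]
  simp only [smul_eq_mul]
  field_simp
  ring

/-- projection onto `perp` along `v` -/
def proj (hv : pol (⇑Q) v v ≠ 0) : V →ₗ[F] perp Q v :=
  LinearMap.codRestrict _ (projFun Q v) (projFun_mem hv)

theorem proj_coe (hv : pol (⇑Q) v v ≠ 0) (z : V) :
    ((proj hv z : perp Q v) : V) = z - ((pol (⇑Q) v v)⁻¹ * pol (⇑Q) v z) • v :=
  projFun_apply Q v z

theorem proj_subtype (hv : pol (⇑Q) v v ≠ 0) (h : perp Q v) : proj hv (h : V) = h := by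
  apply Subtype.ext
  rw [proj_coe, (mem_perp Q v _).mp h.2, mul_zero, zero_smul, sub_zero]

theorem proj_self (hv : pol (⇑Q) v v ≠ 0) : proj hv v = 0 := by
  apply Subtype.ext
  rw [proj_coe, inv_mul_cancel₀ hv, one_smul, sub_self]
  rfl

/-- extension of an endomorphism of `perp` by the identity on `v` -/
def extEnd (hv : pol (⇑Q) v v ≠ 0) (T : Module.End F (perp Q v)) : Module.End F V :=
  (perp Q v).subtype ∘ₗ T ∘ₗ proj hv + (LinearMap.id - (perp Q v).subtype ∘ₗ proj hv)

theorem extEnd_apply (hv : pol (⇑Q) v v ≠ 0) (T : Module.End F (perp Q v)) (z : V) :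
    extEnd hv T z = (T (proj hv z) : V) + (z - (proj hv z : V)) := by
  simp [extEnd]

theorem proj_extEnd (hv : pol (⇑Q) v v ≠ 0) (T : Module.End F (perp Q v)) (z : V) :
    proj hv (extEnd hv T z) = T (proj hv z) := by
  rw [extEnd_apply, map_add, map_sub, proj_subtype, proj_subtype, sub_self, add_zero]

theorem extEnd_one (hv : pol (⇑Q) v v ≠ 0) : extEnd hv (1 : Module.End F (perp Q v)) = 1 := by
  apply LinearMap.ext
  intro z
  rw [extEnd_apply]
  simp

theorem extEnd_mul (hv : pol (⇑Q) v v ≠ 0) (T S : Module.End F (perp Q v)) :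
    extEnd hv (T * S) = extEnd hv T * extEnd hv S := by
  apply LinearMap.ext
  intro z
  rw [Module.End.mul_apply, extEnd_apply hv T, proj_extEnd, extEnd_apply hv S, extEnd_apply,
    Module.End.mul_apply]
  abel

/-- the restricted quadratic form -/
def Qperp (Q : QuadraticForm F V) (v : V) : QuadraticForm F (perp Q v) := Q.comp (perp Q v).subtype

theorem Qperp_apply (h : perp Q v) : Qperp Q v h = Q (h : V) := rfl

theorem pol_Qperp (h h' : perp Q v) : pol (⇑(Qperp Q v)) h h' = pol (⇑Q) (h : V) (h' : V) := by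
  unfold QuadraticMap.polar
  rfl

theorem extEnd_refl (hv : pol (⇑Q) v v ≠ 0) (h : perp Q v) :
    extEnd hv (reflLin (Qperp Q v) h) = reflLin Q (h : V) := by
  apply LinearMap.ext
  intro z
  rw [extEnd_apply, reflLin_apply, reflLin_apply, pol_Qperp, Qperp_apply]
  have h1 : pol (⇑Q) (h : V) ((proj hv z : perp Q v) : V) = pol (⇑Q) (h : V) z := by
    rw [proj_coe, QuadraticMap.polar_sub_right, QuadraticMap.polar_smul_right,
      QuadraticMap.polar_comm (⇑Q) (h : V) v, (mem_perp Q v _).mp h.2]
    simp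
  rw [h1]
  simp only [Submodule.coe_sub, Submodule.coe_smul]
  abel

/-- an isometry fixing `v` preserves `perp` -/
theorem isom_mem_perp (g : V →ₗ[F] V) (hg : ∀ x, Q (g x) = Q x) (hgv : g v = v) (z : V)
    (hz : z ∈ perp Q v) : g z ∈ perp Q v := by
  rw [mem_perp] at hz ⊢
  have := pol_isom Q g hg v z
  rw [hgv] at this
  rw [this, hz]

theorem extEnd_restrict (hv : pol (⇑Q) v v ≠ 0) (g : V →ₗ[F] V) (hg : ∀ x, Q (g x) = Q x)
    (hgv : g v = v) :
    extEnd hv (g.restrict (isom_mem_perp g hg hgv)) = g := by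
  apply LinearMap.ext
  intro z
  rw [extEnd_apply, LinearMap.restrict_coe_apply]
  have h1 : z - ((proj hv z : perp Q v) : V) = ((pol (⇑Q) v v)⁻¹ * pol (⇑Q) v z) • v := by
    rw [proj_coe]; abel
  have h2 : g z = g ((proj hv z : perp Q v) : V) + ((pol (⇑Q) v v)⁻¹ * pol (⇑Q) v z) • v := by
    have : z = ((proj hv z : perp Q v) : V) + ((pol (⇑Q) v v)⁻¹ * pol (⇑Q) v z) • v := by
      rw [proj_coe]; abel
    conv_lhs => rw [this]
    rw [map_add, map_smul, hgv]
  rw [h1, h2]

end Ext


section CD

universe u v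

variable {F : Type u} [Field F]

local notation "pol" => QuadraticMap.polar

/-- the set of reflections, as endomorphisms -/
def reflSet {V : Type v} [AddCommGroup V] [Module F V] (Q : QuadraticForm F V) :
    Set (Module.End F V) :=
  {T | ∃ u, Q u ≠ 0 ∧ T = reflLin Q u}

theorem nondeg_perp {V : Type v} [AddCommGroup V] [Module F V] (Q : QuadraticForm F V) (v : V)
    (hv : pol (⇑Q) v v ≠ 0) (hQ : (QuadraticMap.polarBilin Q).Nondegenerate) :
    (QuadraticMap.polarBilin (Qperp Q v)).Nondegenerate := by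
  have key : ∀ x : perp Q v, (∀ y : perp Q v, pol (⇑Q) (x : V) (y : V) = 0) → x = 0 := by
    intro x hx
    apply Subtype.ext
    apply hQ.1 (x : V)
    intro z
    rw [polarBilin_app]
    have hz : z = ((proj hv z : perp Q v) : V) + ((pol (⇑Q) v v)⁻¹ * pol (⇑Q) v z) • v := by
      rw [proj_coe]; abel
    rw [hz, QuadraticMap.polar_add_right, hx, QuadraticMap.polar_smul_right,
      QuadraticMap.polar_comm (⇑Q) (x : V) v, (mem_perp Q v _).mp x.2]
    simp
  constructor
  · intro x hx
    apply key x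
    intro y
    have := hx y
    rw [polarBilin_app, pol_Qperp] at this
    exact this
  · intro y hy
    apply key y
    intro x
    have := hy x
    rw [polarBilin_app, pol_Qperp, QuadraticMap.polar_comm] at this
    exact this

theorem finrank_perp {V : Type v} [AddCommGroup V] [Module F V] [FiniteDimensional F V]
    (Q : QuadraticForm F V) (v : V) (hv : pol (⇑Q) v v ≠ 0) :
    Module.finrank F (perp Q v) + 1 = Module.finrank F V := by
  have h1 := LinearMap.finrank_range_add_finrank_ker (QuadraticMap.polarBilin Q v)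
  have h2 : LinearMap.range (QuadraticMap.polarBilin Q v) = ⊤ := by
    rw [LinearMap.range_eq_top]
    intro c
    refine ⟨(c * (pol (⇑Q) v v)⁻¹) • v, ?_⟩
    rw [map_smul, polarBilin_app, smul_eq_mul, mul_assoc, inv_mul_cancel₀ hv, mul_one]
  rw [h2, finrank_top, Module.finrank_self] at h1
  rw [perp]
  omega

theorem exists_nonsingular {V : Type v} [AddCommGroup V] [Module F V] [FiniteDimensional F V]
    (Q : QuadraticForm F V) (hQ : (QuadraticMap.polarBilin Q).Nondegenerate)
    (hpos : 0 < Module.finrank F V) : ∃ v, Q v ≠ 0 := by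
  by_contra hcon
  push Not at hcon
  have h0 : ∀ x : V, x = 0 := by
    intro x
    apply hQ.1 x
    intro y
    rw [polarBilin_app]
    unfold QuadraticMap.polar
    rw [hcon, hcon, hcon]
    ring
  have : Subsingleton V := ⟨fun a b => by rw [h0 a, h0 b]⟩
  rw [Module.finrank_zero_of_subsingleton] at hpos
  exact lt_irrefl _ hpos

/-- **Cartan–Dieudonné** (odd characteristic, without the bound on the number of reflections) -/
theorem cartan_dieudonne (h2 : (2 : F) ≠ 0) : ∀ (n : ℕ) (V : Type v) [AddCommGroup V] [Module F V]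
    [FiniteDimensional F V] (Q : QuadraticForm F V), Module.finrank F V = n →
    (QuadraticMap.polarBilin Q).Nondegenerate → ∀ g : V →ₗ[F] V, (∀ x, Q (g x) = Q x) →
    g ∈ Submonoid.closure (reflSet Q) := by
  intro n
  induction n with
  | zero =>
    intro V _ _ _ Q hn hQ g hg
    have : Subsingleton V := Module.finrank_zero_iff.mp hn
    have : g = 1 := LinearMap.ext fun x => Subsingleton.elim _ _
    rw [this]
    exact Submonoid.one_mem _
  | succ n ih =>
    intro V _ _ _ Q hn hQ g hg
    obtain ⟨v, hv⟩ := exists_nonsingular Q hQ (by omega)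
    have hvv : pol (⇑Q) v v ≠ 0 := by
      rw [polar_self']; exact mul_ne_zero h2 hv
    -- it suffices to treat isometries fixing `v`
    have key : ∀ g' : V →ₗ[F] V, (∀ x, Q (g' x) = Q x) → g' v = v →
        g' ∈ Submonoid.closure (reflSet Q) := by
      intro g' hg' hgv
      have hfin : Module.finrank F (perp Q v) = n := by
        have := finrank_perp Q v hvv
        omega
      have hiso : ∀ x : perp Q v, Qperp Q v ((g'.restrict (isom_mem_perp g' hg' hgv)) x) =
          Qperp Q v x := by
        intro x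
        rw [Qperp_apply, Qperp_apply, LinearMap.restrict_coe_apply, hg']
      have h1 := ih (perp Q v) (Qperp Q v) hfin (nondeg_perp Q v hvv hQ)
        (g'.restrict (isom_mem_perp g' hg' hgv)) hiso
      have h3 : ∀ T ∈ Submonoid.closure (reflSet (Qperp Q v)),
          extEnd hvv T ∈ Submonoid.closure (reflSet Q) := by
        intro T hT
        induction hT using Submonoid.closure_induction with
        | mem T hT =>
          obtain ⟨h, hh, rfl⟩ := hT
          rw [extEnd_refl]
          exact Submonoid.subset_closure ⟨(h : V), hh, rfl⟩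
        | one => rw [extEnd_one]; exact Submonoid.one_mem _
        | mul T S _ _ hT hS => rw [extEnd_mul]; exact Submonoid.mul_mem _ hT hS
      have h4 := h3 _ h1
      rw [extEnd_restrict hvv g' hg' hgv] at h4
      exact h4
    by_cases hA : Q (g v - v) ≠ 0
    · -- case A
      have hmem : reflLin Q (g v - v) ∈ Submonoid.closure (reflSet Q) :=
        Submonoid.subset_closure ⟨_, hA, rfl⟩
      have hg' := key (reflLin Q (g v - v) * g)
        (fun x => by rw [Module.End.mul_apply, reflLin_isom Q _ hA, hg])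
        (by rw [Module.End.mul_apply, refl_sub Q g hg v hA])
      have : g = reflLin Q (g v - v) * (reflLin Q (g v - v) * g) := by
        rw [← mul_assoc, reflLin_mul_self Q _ hA, one_mul]
      rw [this]
      exact Submonoid.mul_mem _ hmem hg'
    · -- case B
      push Not at hA
      have hB : Q (g v + v) ≠ 0 := by
        have := Q_sub_add Q g hg v
        rw [hA, zero_add] at this
        rw [this]
        have h4 : (4 : F) = 2 * 2 := by norm_num
        rw [h4]
        exact mul_ne_zero (mul_ne_zero h2 h2) hv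
      have hmemu : reflLin Q (g v + v) ∈ Submonoid.closure (reflSet Q) :=
        Submonoid.subset_closure ⟨_, hB, rfl⟩
      have hmemv : reflLin Q v ∈ Submonoid.closure (reflSet Q) :=
        Submonoid.subset_closure ⟨_, hv, rfl⟩
      have hg' := key (reflLin Q v * (reflLin Q (g v + v) * g))
        (fun x => by
          rw [Module.End.mul_apply, Module.End.mul_apply, reflLin_isom Q _ hv,
            reflLin_isom Q _ hB, hg])
        (by
          rw [Module.End.mul_apply, Module.End.mul_apply, refl_add Q g hg v hB,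
            refl_neg_self Q v h2 hv])
      have : g = reflLin Q (g v + v) * (reflLin Q v * (reflLin Q v * (reflLin Q (g v + v) * g))) := by
        rw [← mul_assoc (reflLin Q v), reflLin_mul_self Q _ hv, one_mul, ← mul_assoc,
          reflLin_mul_self Q _ hB, one_mul]
      rw [this]
      exact Submonoid.mul_mem _ hmemu (Submonoid.mul_mem _ hmemv hg')

end CD


section Matrices

variable {F : Type*} [Field F] {n : ℕ} (Q : QuadraticForm F (Fin n → F))

local notation "pol" => QuadraticMap.polar

theorem toLin_refl (u : Fin n → F) :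
    Matrix.toLin' (Cfsg.reflectionMatrix (⇑Q) u) = reflLin Q u := by
  apply LinearMap.ext
  intro x
  rw [Matrix.toLin'_apply, reflectionMatrix_mulVec, reflLin_apply]

theorem reflMat_mul_self (u : Fin n → F) (hu : Q u ≠ 0) :
    Cfsg.reflectionMatrix (⇑Q) u * Cfsg.reflectionMatrix (⇑Q) u = 1 := by
  apply Matrix.toLin'.injective
  rw [Matrix.toLin'_mul, toLin_refl, Matrix.toLin'_one]
  exact reflLin_mul_self Q u hu

/-- reflections as elements of the isometry group -/
def rO (u : Fin n → F) (hu : Q u ≠ 0) : ↥(Cfsg.isometryGroup F (⇑Q)) :=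
  ⟨⟨Cfsg.reflectionMatrix (⇑Q) u, Cfsg.reflectionMatrix (⇑Q) u, reflMat_mul_self Q u hu,
    reflMat_mul_self Q u hu⟩, by
    rw [mem_isometryGroup_iff]
    intro x
    exact reflectionMatrix_isometry Q u hu x⟩

theorem rO_val (u : Fin n → F) (hu : Q u ≠ 0) :
    (((rO Q u hu : ↥(Cfsg.isometryGroup F (⇑Q))) : Matrix.GeneralLinearGroup (Fin n) F) :
      Matrix (Fin n) (Fin n) F) = Cfsg.reflectionMatrix (⇑Q) u := rfl

/-- the linear map of an element of the isometry group -/
def lin (g : ↥(Cfsg.isometryGroup F (⇑Q))) : Module.End F (Fin n → F) :=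
  Matrix.toLin' ((g : Matrix.GeneralLinearGroup (Fin n) F) : Matrix (Fin n) (Fin n) F)

theorem lin_mul (g h : ↥(Cfsg.isometryGroup F (⇑Q))) : lin Q (g * h) = lin Q g * lin Q h := by
  simp only [lin]
  rw [Subgroup.coe_mul, Units.val_mul, Matrix.toLin'_mul]
  rfl

theorem lin_one : lin Q 1 = 1 := by
  simp only [lin]
  rw [Subgroup.coe_one, Units.val_one, Matrix.toLin'_one]
  rfl

theorem lin_injective : Function.Injective (lin Q) := by
  intro g h hgh
  apply Subtype.ext
  apply Units.ext
  exact Matrix.toLin'.injective hgh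

theorem lin_rO (u : Fin n → F) (hu : Q u ≠ 0) : lin Q (rO Q u hu) = reflLin Q u :=
  toLin_refl Q u

theorem lin_isom (g : ↥(Cfsg.isometryGroup F (⇑Q))) (x : Fin n → F) : Q (lin Q g x) = Q x := by
  have := (mem_isometryGroup_iff (⇑Q) g.1).mp g.2 x
  simpa [lin, Matrix.toLin'_apply] using this

/-- the set of reflections in the isometry group -/
def Rset : Set ↥(Cfsg.isometryGroup F (⇑Q)) := {x | ∃ u, ∃ hu : Q u ≠ 0, x = rO Q u hu}

/-- Cartan–Dieudonné in the isometry group -/
theorem mem_closure_Rset (h2 : (2 : F) ≠ 0) (hQ : (QuadraticMap.polarBilin Q).Nondegenerate)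
    (g : ↥(Cfsg.isometryGroup F (⇑Q))) : g ∈ Submonoid.closure (Rset Q) := by
  have h1 := cartan_dieudonne h2 _ (Fin n → F) Q rfl hQ (lin Q g) (lin_isom Q g)
  have h3 : ∀ T ∈ Submonoid.closure (reflSet Q),
      ∃ g' ∈ Submonoid.closure (Rset Q), lin Q g' = T := by
    intro T hT
    induction hT using Submonoid.closure_induction with
    | mem T hT =>
      obtain ⟨u, hu, rfl⟩ := hT
      exact ⟨rO Q u hu, Submonoid.subset_closure ⟨u, hu, rfl⟩, lin_rO Q u hu⟩
    | one => exact ⟨1, Submonoid.one_mem _, lin_one Q⟩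
    | mul T S _ _ hT hS =>
      obtain ⟨a, ha, rfl⟩ := hT
      obtain ⟨b, hb, rfl⟩ := hS
      exact ⟨a * b, Submonoid.mul_mem _ ha hb, lin_mul Q a b⟩
  obtain ⟨g', hg', hlin⟩ := h3 _ h1
  rw [← lin_injective Q hlin]
  exact hg'

end Matrices


section Final

variable {F : Type*} [Field F] {n : ℕ} (Q : QuadraticForm F (Fin n → F))

theorem mem_special_iff (g : ↥(Cfsg.isometryGroup F (⇑Q))) :
    g ∈ Cfsg.specialIsometryGroup F (⇑Q) ↔
      ((g.1 : Matrix.GeneralLinearGroup (Fin n) F) : Matrix (Fin n) (Fin n) F).det = 1 := by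
  constructor
  · intro h
    have h' : (Matrix.GeneralLinearGroup.det.comp (Cfsg.isometryGroup F (⇑Q)).subtype) g = 1 := h
    exact congrArg Units.val h'
  · intro h
    show (Matrix.GeneralLinearGroup.det.comp (Cfsg.isometryGroup F (⇑Q)).subtype) g = 1
    apply Units.ext
    exact h

theorem det_mul' (g h : ↥(Cfsg.isometryGroup F (⇑Q))) :
    (((g * h).1 : Matrix.GeneralLinearGroup (Fin n) F) : Matrix (Fin n) (Fin n) F).det =
      ((g.1 : Matrix.GeneralLinearGroup (Fin n) F) : Matrix (Fin n) (Fin n) F).det *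
      ((h.1 : Matrix.GeneralLinearGroup (Fin n) F) : Matrix (Fin n) (Fin n) F).det := by
  rw [Subgroup.coe_mul, Units.val_mul, Matrix.det_mul]

/-- the generating set of the statement -/
def Gen : Set ↥(Cfsg.isometryGroup F (⇑Q)) :=
  {g | ∃ u v : Fin n → F, Q u ≠ 0 ∧ Q v ≠ 0 ∧
    ((g : Matrix.GeneralLinearGroup (Fin n) F) : Matrix (Fin n) (Fin n) F) =
      Cfsg.reflectionMatrix (⇑Q) u * Cfsg.reflectionMatrix (⇑Q) v}

theorem rO_mul_mem_Gen (u v : Fin n → F) (hu : Q u ≠ 0) (hv : Q v ≠ 0) :
    rO Q u hu * rO Q v hv ∈ Gen Q :=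
  ⟨u, v, hu, hv, rfl⟩

theorem closure_Gen_le : Subgroup.closure (Gen Q) ≤ Cfsg.specialIsometryGroup F (⇑Q) := by
  rw [Subgroup.closure_le]
  rintro g ⟨u, v, hu, hv, hg⟩
  rw [SetLike.mem_coe, mem_special_iff, hg, Matrix.det_mul, reflectionMatrix_det Q u hu,
    reflectionMatrix_det Q v hv]
  ring

/-- parity argument -/
theorem parity (g : ↥(Cfsg.isometryGroup F (⇑Q))) (hg : g ∈ Submonoid.closure (Rset Q)) :
    g ∈ Subgroup.closure (Gen Q) ∨ ∀ r ∈ Rset Q, g * r ∈ Subgroup.closure (Gen Q) := by
  induction hg using Submonoid.closure_induction_right with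
  | one => exact Or.inl (Subgroup.one_mem _)
  | mul_right x _ y hy ih =>
    obtain ⟨u, hu, rfl⟩ := hy
    rcases ih with h | h
    · right
      rintro r ⟨w, hw, rfl⟩
      rw [mul_assoc]
      exact Subgroup.mul_mem _ h (Subgroup.subset_closure (rO_mul_mem_Gen Q u w hu hw))
    · left
      exact h _ ⟨u, hu, rfl⟩

end Final


/-- For q odd and Q with non-degenerate polar form on F^n, the determinant-one isometries form the subgroup generated by all products r_u r_v of two reflections (Q(u), Q(v) ≠ 0). -/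
theorem result {F : Type*} [Field F] [Fintype F] (h2 : (2 : F) ≠ 0) {n : ℕ} (Q : QuadraticForm F (Fin n → F)) (hQ : (QuadraticMap.polarBilin Q).Nondegenerate) : Cfsg.specialIsometryGroup F ⇑Q = Subgroup.closure {g : ↥(Cfsg.isometryGroup F ⇑Q) | ∃ u v : Fin n → F, Q u ≠ 0 ∧ Q v ≠ 0 ∧ ((g : Matrix.GeneralLinearGroup (Fin n) F) : Matrix (Fin n) (Fin n) F) = Cfsg.reflectionMatrix ⇑Q u * Cfsg.reflectionMatrix ⇑Q v} := by
  apply le_antisymm _ (closure_Gen_le Q)
  intro g hg
  rw [mem_special_iff] at hg
  have hmem := mem_closure_Rset Q h2 hQ g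
  rcases parity Q g hmem with h | h
  · exact h
  · by_cases hex : ∃ u : Fin n → F, Q u ≠ 0
    · exfalso
      obtain ⟨u, hu⟩ := hex
      have h1 := closure_Gen_le Q (h _ ⟨u, hu, rfl⟩)
      rw [mem_special_iff, det_mul', hg, rO_val, reflectionMatrix_det Q u hu, one_mul] at h1
      apply h2
      have : (2 : F) = 1 - (-1) := by norm_num
      rw [this, h1]
      ring
    · -- no reflections at all: the group is trivial
      have hempty : Rset Q = ∅ := by
        ext x
        simp only [Rset, Set.mem_setOf_eq, Set.mem_empty_iff_false, iff_false]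
        rintro ⟨u, hu, -⟩
        exact hex ⟨u, hu⟩
      rw [hempty, Submonoid.closure_empty, Submonoid.mem_bot] at hmem
      rw [hmem]
      exact Subgroup.one_mem _

end Cfsg.Agent.S0792
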