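import Mathlib
import Cfsg.Statements.S0793
-- import your own Cfsg.Agent.* helpers here

set_option autoImplicit false
open Cfsg

namespace Cfsg.Agent.S0793

open QuadraticMap

/-- dot product with the polar vector is the polar form. -/
theorem polarVec_dotProduct {F : Type*} [Field F] {n : ℕ} (Q : QuadraticForm F (Fin n → F))
    (v x : Fin n → F) : Cfsg.polarVec (⇑Q) v ⬝ᵥ x = QuadraticMap.polar (⇑Q) v x := by
  have h := LinearMap.pi_apply_eq_sum_univ (QuadraticMap.polarBilin Q v) x
  simp only [QuadraticMap.polarBilin_apply_apply] at h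
  rw [h]
  unfold Cfsg.polarVec dotProduct
  apply Finset.sum_congr rfl
  intro i _
  have : (fun j => if i = j then (1 : F) else 0) = Pi.single i 1 := by
    ext j
    simp [Pi.single_apply, eq_comm]
  rw [this, smul_eq_mul, mul_comm]

theorem siegel_mulVec {F : Type*} [Field F] {n : ℕ} (Q : QuadraticForm F (Fin n → F))
    (u v : Fin n → F) (c : F) (x : Fin n → F) :
    (Cfsg.siegelMatrix (⇑Q) u v c).mulVec x =
      x + (c * polar (⇑Q) u x) • v - (c * polar (⇑Q) v x) • u := by
  unfold Cfsg.siegelMatrix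
  rw [Matrix.add_mulVec, Matrix.one_mulVec, Matrix.smul_mulVec, Matrix.sub_mulVec,
    Matrix.vecMulVec_mulVec, Matrix.vecMulVec_mulVec, polarVec_dotProduct, polarVec_dotProduct]
  ext i
  simp only [Pi.add_apply, Pi.smul_apply, Pi.sub_apply, MulOpposite.smul_eq_mul_unop,
    MulOpposite.unop_op, smul_eq_mul]
  ring


/-- Root elements: if Q(u) = Q(v) = 0 and f(u, v) = 0 (f the polar form), then for every c the Siegel matrix T_(u,v)(c) preserves Q, fixes u and v, and T(c) T(d) = T(c + d). -/
theorem result {F : Type*} [Field F] {n : ℕ} (Q : QuadraticForm F (Fin n → F)) (u v : Fin n → F) (hu : Q u = 0) (hv : Q v = 0) (huv : QuadraticMap.polar ⇑Q u v = 0) : (∀ c x, Q ((Cfsg.siegelMatrix ⇑Q u v c).mulVec x) = Q x) ∧ (∀ c, (Cfsg.siegelMatrix ⇑Q u v c).mulVec u = u ∧ (Cfsg.siegelMatrix ⇑Q u v c).mulVec v = v) ∧ ∀ c d, Cfsg.siegelMatrix ⇑Q u v c * Cfsg.siegelMatrix ⇑Q u v d = Cfsg.siegelMatrix ⇑Q u v (c + d) := by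
  have hvu : polar (⇑Q) v u = 0 := by rw [polar_comm]; exact huv
  have huu : polar (⇑Q) u u = 0 := by rw [polar_self, hu, smul_zero]
  have hvv : polar (⇑Q) v v = 0 := by rw [polar_self, hv, smul_zero]
  have key : ∀ c x, Q (x + (c * polar (⇑Q) u x) • v - (c * polar (⇑Q) v x) • u) = Q x := by
    intro c x
    set α := c * polar (⇑Q) u x
    set β := c * polar (⇑Q) v x
    have e1 : Q (x + α • v - β • u) = Q (x + (α • v - β • u)) := by rw [add_sub_assoc]
    have e2 : Q (x + (α • v - β • u)) = Q x + Q (α • v - β • u) + polar (⇑Q) x (α • v - β • u) := by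
      rw [QuadraticMap.map_add (⇑Q)]
    have e3 : Q (α • v - β • u) = 0 := by
      have : α • v - β • u = α • v + (-β) • u := by rw [neg_smul, sub_eq_add_neg]
      rw [this, QuadraticMap.map_add (⇑Q), QuadraticMap.map_smul, QuadraticMap.map_smul, hu, hv,
        polar_smul_left, polar_smul_right, hvu]
      simp
    have e4 : polar (⇑Q) x (α • v - β • u) = 0 := by
      rw [polar_sub_right, polar_smul_right, polar_smul_right, polar_comm (⇑Q) x v,
        polar_comm (⇑Q) x u]
      simp only [α, β, smul_eq_mul]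
      ring
    rw [e1, e2, e3, e4]; simp
  refine ⟨?_, ?_, ?_⟩
  · intro c x
    rw [siegel_mulVec]
    exact key c x
  · intro c
    constructor
    · rw [siegel_mulVec, huu, hvu]; simp
    · rw [siegel_mulVec, huv, hvv]; simp
  · intro c d
    rw [Matrix.ext_iff_mulVec]
    intro x
    rw [← Matrix.mulVec_mulVec, siegel_mulVec, siegel_mulVec, siegel_mulVec]
    have p1 : polar (⇑Q) u (x + (d * polar (⇑Q) u x) • v - (d * polar (⇑Q) v x) • u)
        = polar (⇑Q) u x := by
      rw [polar_sub_right, polar_add_right, polar_smul_right, polar_smul_right, huv, huu]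
      simp
    have p2 : polar (⇑Q) v (x + (d * polar (⇑Q) u x) • v - (d * polar (⇑Q) v x) • u)
        = polar (⇑Q) v x := by
      rw [polar_sub_right, polar_add_right, polar_smul_right, polar_smul_right, hvu, hvv]
      simp
    rw [p1, p2]
    ext i
    simp only [Pi.add_apply, Pi.smul_apply, Pi.sub_apply, smul_eq_mul]
    ring

end Cfsg.Agent.S0793
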