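import Cfsg.Statements.S0794
import Cfsg.Agent.S0793
import Cfsg.Agent.Lib.Helper13.Orth

set_option autoImplicit false
open Cfsg

namespace Cfsg.Agent.S0794

open Matrix QuadraticMap Cfsg.Agent.Lib.Helper13 Cfsg.Agent.S0793

/-- If no `y` has `f(u,y) = 1`, `f(v,y) = 0`, the Siegel matrix is trivial. -/
theorem siegel_eq_one_of_degenerate {F : Type*} [Field F] {n : ℕ} (Q : QuadraticForm F (Fin n → F))
    (hQ : (QuadraticMap.polarBilin Q).Nondegenerate) (u v : Fin n → F) (c : F)
    (hno : ¬ ∃ y : Fin n → F, polar (⇑Q) u y = 1 ∧ polar (⇑Q) v y = 0) :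
    Cfsg.siegelMatrix (⇑Q) u v c = 1 := by
  have hnd : ∀ a : Fin n → F, (∀ x, polar (⇑Q) a x = 0) → a = 0 := by
    intro a ha
    exact hQ.1 a (fun y => ha y)
  -- `f(u, ·)` vanishes on the kernel of `f(v, ·)`
  have hker : ∀ y, polar (⇑Q) v y = 0 → polar (⇑Q) u y = 0 := by
    intro y hy
    by_contra hne
    apply hno
    refine ⟨(polar (⇑Q) u y)⁻¹ • y, ?_, ?_⟩
    · rw [polar_smul_right, smul_eq_mul, inv_mul_cancel₀ hne]
    · rw [polar_smul_right, hy, smul_zero]
  rw [Matrix.ext_iff_mulVec]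
  intro x
  rw [siegel_mulVec, Matrix.one_mulVec]
  by_cases hv0 : v = 0
  · have hu0 : u = 0 := by
      apply hnd
      intro y
      apply hker
      rw [hv0, polar_zero_left]
    rw [hv0, hu0]
    simp
  · obtain ⟨z, hz⟩ : ∃ z, polar (⇑Q) v z ≠ 0 := by
      by_contra hcon
      push Not at hcon
      exact hv0 (hnd v hcon)
    set z' := (polar (⇑Q) v z)⁻¹ • z with hz'
    have hvz' : polar (⇑Q) v z' = 1 := by
      rw [hz', polar_smul_right, smul_eq_mul, inv_mul_cancel₀ hz]
    set lam := polar (⇑Q) u z' with hlam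
    have hux : ∀ x, polar (⇑Q) u x = polar (⇑Q) v x * lam := by
      intro x
      have h1 : polar (⇑Q) v (x - polar (⇑Q) v x • z') = 0 := by
        rw [polar_sub_right, polar_smul_right, hvz', smul_eq_mul, mul_one, sub_self]
      have h2 := hker _ h1
      rw [polar_sub_right, polar_smul_right, smul_eq_mul, sub_eq_zero] at h2
      exact h2
    have hul : u = lam • v := by
      have : u - lam • v = 0 := by
        apply hnd
        intro y
        rw [polar_sub_left, polar_smul_left, hux y, smul_eq_mul]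
        ring
      exact sub_eq_zero.1 this
    rw [hux x]
    conv_lhs => rw [hul]
    ext i
    simp only [Pi.add_apply, Pi.smul_apply, Pi.sub_apply, smul_eq_mul]
    ring

/-- For q odd, n ≥ 5 and Q with non-degenerate polar form: an isometry whose matrix is a Siegel transformation T_(u,v)(c) (u, v singular and orthogonal) is a commutator in the isometry group, so lies in Ω. -/
theorem result {F : Type*} [Field F] [Fintype F] (h2 : (2 : F) ≠ 0) {n : ℕ} (hn : 5 ≤ n) (Q : QuadraticForm F (Fin n → F)) (hQ : (QuadraticMap.polarBilin Q).Nondegenerate) (u v : Fin n → F) (hu : Q u = 0) (hv : Q v = 0) (huv : QuadraticMap.polar ⇑Q u v = 0) (c : F) (g : ↥(Cfsg.isometryGroup F ⇑Q)) (hg : ((g : Matrix.GeneralLinearGroup (Fin n) F) : Matrix (Fin n) (Fin n) F) = Cfsg.siegelMatrix ⇑Q u v c) : g ∈ commutatorSet ↥(Cfsg.isometryGroup F ⇑Q) ∧ g ∈ Cfsg.Omega F ⇑Q := by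
  classical
  suffices hcomm : g ∈ commutatorSet ↥(Cfsg.isometryGroup F ⇑Q) by
    refine ⟨hcomm, ?_⟩
    show g ∈ commutator ↥(Cfsg.isometryGroup F ⇑Q)
    rw [commutator_eq_closure]
    exact Subgroup.subset_closure hcomm
  by_cases hex : ∃ y : Fin n → F, polar (⇑Q) u y = 1 ∧ polar (⇑Q) v y = 0
  swap
  · -- degenerate case: `g = 1`
    have hg1 : g = 1 := by
      apply Subtype.ext
      apply Units.ext
      rw [hg, siegel_eq_one_of_degenerate Q hQ u v c hex]
      rfl
    rw [hg1]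
    exact ⟨1, 1, by simp⟩
  obtain ⟨y, hy1, hy0⟩ := hex
  obtain ⟨hSiso, -, hSmul⟩ := Cfsg.Agent.S0793.result Q u v hu hv huv
  -- the hyperbolic partner
  set w : Fin n → F := y - Q y • u with hw
  have huu : polar (⇑Q) u u = 0 := by rw [polar_self, hu, smul_zero]
  have huw : polar (⇑Q) u w = 1 := by
    rw [hw, polar_sub_right, polar_smul_right, huu, smul_zero, sub_zero, hy1]
  have hvw : polar (⇑Q) v w = 0 := by
    rw [hw, polar_sub_right, polar_smul_right, polar_comm (⇑Q) v u, huv, smul_zero, sub_zero, hy0]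
  have hQw : Q w = 0 := by
    rw [hw, quadraticForm_sub_smul, hu, hy1]
    ring
  have hwu : polar (⇑Q) w u = 1 := by rw [polar_comm]; exact huw
  have hww : polar (⇑Q) w w = 0 := by rw [polar_self, hQw, smul_zero]
  set a : Fin n → F := u - w with ha
  set b : Fin n → F := u + w with hb
  have hQa : Q a = -1 := by
    have : a = u - (1 : F) • w := by rw [one_smul]
    rw [this, quadraticForm_sub_smul, hu, hQw, hwu]
    ring
  have hQb : Q b = 1 := by
    have : b = u - (-1 : F) • w := by rw [neg_smul, one_smul, sub_neg_eq_add]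
    rw [this, quadraticForm_sub_smul, hu, hQw, hwu]
    ring
  have hQa0 : Q a ≠ 0 := by rw [hQa]; exact neg_ne_zero.2 one_ne_zero
  have hQb0 : Q b ≠ 0 := by rw [hQb]; exact one_ne_zero
  set Ra := Cfsg.reflectionMatrix (⇑Q) a with hRa
  set Rb := Cfsg.reflectionMatrix (⇑Q) b with hRb
  set H : Matrix (Fin n) (Fin n) F := Ra * Rb with hH
  have hHu : H *ᵥ u = -u := by
    rw [hH, ← Matrix.mulVec_mulVec]
    have h1 : Rb *ᵥ u = -w := by
      rw [hRb, reflectionMatrix_mulVec, hQb, hb, polar_add_left, huu, hwu]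
      ext i
      simp
    rw [h1, Matrix.mulVec_neg, hRa, reflectionMatrix_mulVec, hQa, ha, polar_sub_left, huw, hww]
    ext i
    simp only [Pi.neg_apply, Pi.sub_apply, Pi.smul_apply, smul_eq_mul]
    ring
  have hav : polar (⇑Q) a v = 0 := by
    rw [ha, polar_sub_left, huv, polar_comm (⇑Q) w v, hvw, sub_zero]
  have hbv : polar (⇑Q) b v = 0 := by
    rw [hb, polar_add_left, huv, polar_comm (⇑Q) w v, hvw, add_zero]
  have hHv : H *ᵥ v = v := by
    rw [hH, ← Matrix.mulVec_mulVec, hRb, reflectionMatrix_mulVec_of_polar_eq_zero Q b v hbv, hRa,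
      reflectionMatrix_mulVec_of_polar_eq_zero Q a v hav]
  have hHiso : ∀ x, Q (H *ᵥ x) = Q x := by
    intro x
    rw [hH, ← Matrix.mulVec_mulVec, hRa, reflectionMatrix_isometry Q a hQa0, hRb,
      reflectionMatrix_isometry Q b hQb0]
  have hHdet : IsUnit H.det := by
    rw [hH, Matrix.det_mul, hRa, hRb, reflectionMatrix_det Q a hQa0, reflectionMatrix_det Q b hQb0]
    norm_num
  -- the group elements
  set hG : Matrix.GeneralLinearGroup (Fin n) F := Matrix.GeneralLinearGroup.mk'' H hHdet with hhG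
  have hhGval : (hG : Matrix (Fin n) (Fin n) F) = H := rfl
  have hhGmem : hG ∈ Cfsg.isometryGroup F ⇑Q := by
    rw [mem_isometryGroup_iff]
    intro x
    rw [hhGval]
    exact hHiso x
  set c' : F := -c / 2 with hc'
  have hT0 : Cfsg.siegelMatrix (⇑Q) u v 0 = 1 := by
    unfold Cfsg.siegelMatrix
    rw [zero_smul, add_zero]
  set tG : Matrix.GeneralLinearGroup (Fin n) F :=
    ⟨Cfsg.siegelMatrix (⇑Q) u v c', Cfsg.siegelMatrix (⇑Q) u v (-c'),
      by rw [hSmul, add_neg_cancel, hT0], by rw [hSmul, neg_add_cancel, hT0]⟩ with htG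
  have htGval : (tG : Matrix (Fin n) (Fin n) F) = Cfsg.siegelMatrix (⇑Q) u v c' := rfl
  have htGmem : tG ∈ Cfsg.isometryGroup F ⇑Q := by
    rw [mem_isometryGroup_iff]
    intro x
    rw [htGval]
    exact hSiso c' x
  refine ⟨⟨hG, hhGmem⟩, ⟨tG, htGmem⟩, ?_⟩
  -- `⁅h, t⁆ = g`  ⟸  `h * t = g * t * h`
  rw [commutatorElement_def]
  have key : (⟨hG, hhGmem⟩ : ↥(Cfsg.isometryGroup F ⇑Q)) * ⟨tG, htGmem⟩
      = g * ⟨tG, htGmem⟩ * ⟨hG, hhGmem⟩ := by
    apply Subtype.ext
    apply Units.ext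
    show (hG : Matrix (Fin n) (Fin n) F) * (tG : Matrix (Fin n) (Fin n) F)
      = ((g : Matrix.GeneralLinearGroup (Fin n) F) : Matrix (Fin n) (Fin n) F)
        * (tG : Matrix (Fin n) (Fin n) F) * (hG : Matrix (Fin n) (Fin n) F)
    rw [hhGval, htGval, hg, hSmul]
    clear_value H
    rw [Matrix.ext_iff_mulVec]
    intro x
    rw [← Matrix.mulVec_mulVec, ← Matrix.mulVec_mulVec, siegel_mulVec, siegel_mulVec]
    have e1 : polar (⇑Q) u (H *ᵥ x) = - polar (⇑Q) u x := by
      have := polar_mulVec_of_isometry Q H hHiso u x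
      rw [hHu, polar_neg_left] at this
      rw [← this, neg_neg]
    have e2 : polar (⇑Q) v (H *ᵥ x) = polar (⇑Q) v x := by
      have := polar_mulVec_of_isometry Q H hHiso v x
      rw [hHv] at this
      exact this
    rw [e1, e2, Matrix.mulVec_sub, Matrix.mulVec_add, Matrix.mulVec_smul, Matrix.mulVec_smul, hHu, hHv]
    have hcc : c + c' = -c' := by
      rw [hc']
      field_simp
      ring
    rw [hcc]
    ext i
    simp only [Pi.add_apply, Pi.smul_apply, Pi.sub_apply, Pi.neg_apply, smul_eq_mul]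
    ring
  rw [key]
  group

end Cfsg.Agent.S0794
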