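import Mathlib
import Cfsg.Statements.S0795
import Cfsg.Agent.S0792
import Cfsg.Agent.S0794
import Cfsg.Agent.Lib.Helper13.ReflGen
import Cfsg.Agent.Lib.Helper13.SpinorIndex
import Cfsg.Agent.Lib.Helper44.Witt
-- import your own Cfsg.Agent.* helpers here

set_option autoImplicit false
open Cfsg

namespace Cfsg.Agent.S0795

open Cfsg.Agent.Lib.Helper13

section Geom

variable {F V : Type*} [Field F] [AddCommGroup V] [Module F V]

local notation "pol" => QuadraticMap.polar

/-- hyperbolic partner inside a submodule -/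
theorem partner_in (Q : QuadraticForm F V) (X : Submodule F V) (p y : V) (hp : p ∈ X) (hy : y ∈ X)
    (hQp : Q p = 0) (hpy : pol (⇑Q) p y ≠ 0) :
    ∃ p' ∈ X, Q p' = 0 ∧ pol (⇑Q) p p' = 1 := by
  obtain ⟨y', hy'X, h1⟩ : ∃ y' ∈ X, pol (⇑Q) p y' = 1 := by
    refine ⟨(pol (⇑Q) p y)⁻¹ • y, X.smul_mem _ hy, ?_⟩
    rw [QuadraticMap.polar_smul_right, smul_eq_mul, inv_mul_cancel₀ hpy]
  refine ⟨y' - Q y' • p, X.sub_mem hy'X (X.smul_mem _ hp), ?_, ?_⟩
  · rw [Q_sub, QuadraticMap.map_smul, hQp, QuadraticMap.polar_smul_right,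
      QuadraticMap.polar_comm (⇑Q) y' p, h1]
    simp
  · rw [QuadraticMap.polar_sub_right, QuadraticMap.polar_smul_right, polar_self', hQp, h1]
    simp

/-- induction principle: a subspace containing a hyperbolic pair is additively generated by its
singular vectors. -/
theorem sing_induction (Q : QuadraticForm F V) (X : Submodule F V) (p p' : V) (hp : p ∈ X)
    (hp' : p' ∈ X) (hQp : Q p = 0) (hQp' : Q p' = 0) (hpp : pol (⇑Q) p p' = 1) (P : V → Prop)
    (hadd : ∀ x y, P x → P y → P (x + y)) (hsing : ∀ s ∈ X, Q s = 0 → P s) :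
    ∀ w ∈ X, P w := by
  intro w hw
  have hp'p : pol (⇑Q) p' p = 1 := by rw [QuadraticMap.polar_comm]; exact hpp
  set α := pol (⇑Q) w p' with hα
  set β := pol (⇑Q) w p with hβ
  set z := w - α • p - β • p' with hz
  have hzX : z ∈ X := X.sub_mem (X.sub_mem hw (X.smul_mem _ hp)) (X.smul_mem _ hp')
  have hzp : pol (⇑Q) z p = 0 := by
    rw [hz, QuadraticMap.polar_sub_left, QuadraticMap.polar_sub_left, QuadraticMap.polar_smul_left,
      QuadraticMap.polar_smul_left, polar_self', hQp, hp'p]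
    simp [hβ]
  have hzp' : pol (⇑Q) z p' = 0 := by
    rw [hz, QuadraticMap.polar_sub_left, QuadraticMap.polar_sub_left, QuadraticMap.polar_smul_left,
      QuadraticMap.polar_smul_left, polar_self', hQp', hpp]
    simp [hα]
  set s := z + (1 : F) • p + (-Q z) • p' with hs
  have hsX : s ∈ X := X.add_mem (X.add_mem hzX (X.smul_mem _ hp)) (X.smul_mem _ hp')
  have hQs : Q s = 0 := by
    rw [hs, qexp, hQp, hQp', hzp, hzp', hpp]
    ring
  have hw' : w = s + (α - 1) • p + (β + Q z) • p' := by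
    rw [hs, hz]
    match_scalars <;> ring
  rw [hw']
  apply hadd
  · apply hadd
    · exact hsing s hsX hQs
    · apply hsing _ (X.smul_mem _ hp)
      rw [QuadraticMap.map_smul, hQp, smul_zero]
  · apply hsing _ (X.smul_mem _ hp')
    rw [QuadraticMap.map_smul, hQp', smul_zero]

theorem exists_dual (Q : QuadraticForm F V) (hQ : (QuadraticMap.polarBilin Q).Nondegenerate)
    (d : V) (hd : d ≠ 0) : ∃ e, pol (⇑Q) d e = 1 := by
  have : ∃ y, pol (⇑Q) d y ≠ 0 := by
    by_contra hcon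
    push Not at hcon
    exact hd (hQ.1 d (fun y => hcon y))
  obtain ⟨y, hy⟩ := this
  refine ⟨(pol (⇑Q) d y)⁻¹ • y, ?_⟩
  rw [QuadraticMap.polar_smul_right, smul_eq_mul, inv_mul_cancel₀ hy]

/-- In dimension at least 5, the orthogonal complement of a nonzero vector contains a hyperbolic
pair. -/
theorem exists_hyp_in_perp [Finite F] [FiniteDimensional F V] (Q : QuadraticForm F V)
    (hQ : (QuadraticMap.polarBilin Q).Nondegenerate) (h5 : 5 ≤ Module.finrank F V) (d : V)
    (hd : d ≠ 0) :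
    ∃ p p' : V, pol (⇑Q) d p = 0 ∧ pol (⇑Q) d p' = 0 ∧ Q p = 0 ∧ Q p' = 0 ∧
      pol (⇑Q) p p' = 1 := by
  obtain ⟨e, he⟩ := exists_dual Q hQ d hd
  set φ : V →ₗ[F] F × F := (QuadraticMap.polarBilin Q d).prod (QuadraticMap.polarBilin Q e) with hφ
  have hker : 3 ≤ Module.finrank F (LinearMap.ker φ) := by
    have h1 := LinearMap.finrank_range_add_finrank_ker φ
    have h2 : Module.finrank F (LinearMap.range φ) ≤ 2 := by
      have := Submodule.finrank_le (LinearMap.range φ)
      rw [Module.finrank_prod, Module.finrank_self] at this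
      exact this
    omega
  obtain ⟨p0, hp0, hQp0⟩ := Cfsg.Agent.Lib.Helper44.exists_isotropic
    (Q.comp (LinearMap.ker φ).subtype) hker
  set p : V := (p0 : V) with hp
  have hpne : p ≠ 0 := by
    intro h
    apply hp0
    exact Subtype.ext h
  have hQp : Q p = 0 := hQp0
  have hpmem : φ p = 0 := LinearMap.mem_ker.1 p0.2
  have hdp : pol (⇑Q) d p = 0 := (Prod.ext_iff.1 hpmem).1
  have hep : pol (⇑Q) e p = 0 := (Prod.ext_iff.1 hpmem).2
  obtain ⟨y0, hy0⟩ := exists_dual Q hQ p hpne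
  set y := y0 - pol (⇑Q) d y0 • e with hy
  have hdy : pol (⇑Q) d y = 0 := by
    rw [hy, QuadraticMap.polar_sub_right, QuadraticMap.polar_smul_right, he]
    simp
  have hpy : pol (⇑Q) p y ≠ 0 := by
    rw [hy, QuadraticMap.polar_sub_right, QuadraticMap.polar_smul_right,
      QuadraticMap.polar_comm (⇑Q) p e, hep, hy0]
    simp
  obtain ⟨p', hp'X, hQp', hpp'⟩ := partner_in Q (LinearMap.ker (QuadraticMap.polarBilin Q d)) p y
    (by rw [LinearMap.mem_ker]; exact hdp) (by rw [LinearMap.mem_ker]; exact hdy) hQp hpy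
  refine ⟨p, p', hdp, ?_, hQp, hQp', hpp'⟩
  rw [LinearMap.mem_ker] at hp'X
  exact hp'X

/-- If `a` is not a multiple of `d ≠ 0`, some singular vector is orthogonal to `d` but not to `a`. -/
theorem exists_sing_perp_not_perp [Finite F] [FiniteDimensional F V] (Q : QuadraticForm F V)
    (hQ : (QuadraticMap.polarBilin Q).Nondegenerate) (h5 : 5 ≤ Module.finrank F V) (d a : V)
    (hd : d ≠ 0) (ha : ∀ l : F, a ≠ l • d) :
    ∃ u, Q u = 0 ∧ pol (⇑Q) d u = 0 ∧ pol (⇑Q) a u ≠ 0 := by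
  by_contra hcon
  push Not at hcon
  obtain ⟨p, p', hdp, hdp', hQp, hQp', hpp'⟩ := exists_hyp_in_perp Q hQ h5 d hd
  have hall : ∀ w ∈ LinearMap.ker (QuadraticMap.polarBilin Q d), pol (⇑Q) a w = 0 := by
    apply sing_induction Q (LinearMap.ker (QuadraticMap.polarBilin Q d)) p p'
      (by rw [LinearMap.mem_ker]; exact hdp) (by rw [LinearMap.mem_ker]; exact hdp') hQp hQp' hpp'
    · intro x y hx hy
      rw [QuadraticMap.polar_add_right, hx, hy, add_zero]
    · intro s hs hQs
      rw [LinearMap.mem_ker] at hs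
      exact hcon s hQs hs
  obtain ⟨e, he⟩ := exists_dual Q hQ d hd
  apply ha (pol (⇑Q) a e)
  have : a - pol (⇑Q) a e • d = 0 := by
    apply hQ.1
    intro x
    have hx : x - pol (⇑Q) d x • e ∈ LinearMap.ker (QuadraticMap.polarBilin Q d) := by
      rw [LinearMap.mem_ker]
      show pol (⇑Q) d (x - pol (⇑Q) d x • e) = 0
      rw [QuadraticMap.polar_sub_right, QuadraticMap.polar_smul_right, he]
      simp
    have := hall _ hx
    rw [QuadraticMap.polar_sub_right, QuadraticMap.polar_smul_right, sub_eq_zero] at this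
    show pol (⇑Q) (a - pol (⇑Q) a e • d) x = 0
    rw [QuadraticMap.polar_sub_left, QuadraticMap.polar_smul_left, this]
    simp only [smul_eq_mul]
    ring
  exact sub_eq_zero.1 this

end Geom

section Grp

variable {F : Type*} [Field F] {n : ℕ} (Q : QuadraticForm F (Fin n → F))

local notation "pol" => QuadraticMap.polar

open Cfsg.Agent.S0792 (lin lin_mul lin_one lin_injective lin_isom rO lin_rO Rset mem_closure_Rset
  pol_isom)

theorem lin_apply (g : ↥(Cfsg.isometryGroup F (⇑Q))) (x : Fin n → F) :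
    lin Q g x = ((g : Matrix.GeneralLinearGroup (Fin n) F) : Matrix (Fin n) (Fin n) F).mulVec x := by
  simp [lin, Matrix.toLin'_apply]

theorem lin_mul_apply (g h : ↥(Cfsg.isometryGroup F (⇑Q))) (x : Fin n → F) :
    lin Q (g * h) x = lin Q g (lin Q h x) := by
  rw [lin_mul]
  rfl

theorem lin_inv_apply (g : ↥(Cfsg.isometryGroup F (⇑Q))) (x : Fin n → F) :
    lin Q g (lin Q g⁻¹ x) = x := by
  rw [← lin_mul_apply, mul_inv_cancel, lin_one]
  rfl

theorem lin_pol (g : ↥(Cfsg.isometryGroup F (⇑Q))) (x y : Fin n → F) :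
    pol (⇑Q) (lin Q g x) (lin Q g y) = pol (⇑Q) x y :=
  pol_isom Q (lin Q g) (lin_isom Q g) x y

theorem lin_siegel (g : ↥(Cfsg.isometryGroup F (⇑Q))) (u v : Fin n → F) (c : F)
    (h : ((g : Matrix.GeneralLinearGroup (Fin n) F) : Matrix (Fin n) (Fin n) F)
      = Cfsg.siegelMatrix (⇑Q) u v c) (x : Fin n → F) :
    lin Q g x = x + (c * pol (⇑Q) u x) • v - (c * pol (⇑Q) v x) • u := by
  rw [lin_apply, h, Cfsg.Agent.S0793.siegel_mulVec]

theorem siegel_of_lin (g : ↥(Cfsg.isometryGroup F (⇑Q))) (u v : Fin n → F) (c : F)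
    (h : ∀ x, lin Q g x = x + (c * pol (⇑Q) u x) • v - (c * pol (⇑Q) v x) • u) :
    ((g : Matrix.GeneralLinearGroup (Fin n) F) : Matrix (Fin n) (Fin n) F)
      = Cfsg.siegelMatrix (⇑Q) u v c := by
  rw [Matrix.ext_iff_mulVec]
  intro x
  rw [← lin_apply, h, Cfsg.Agent.S0793.siegel_mulVec]

/-- the set of Siegel transformations (long root elements) -/
def SiegSet : Set ↥(Cfsg.isometryGroup F (⇑Q)) :=
  {g | ∃ (u v : Fin n → F) (c : F), Q u = 0 ∧ Q v = 0 ∧ pol (⇑Q) u v = 0 ∧
    ((g : Matrix.GeneralLinearGroup (Fin n) F) : Matrix (Fin n) (Fin n) F)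
      = Cfsg.siegelMatrix (⇑Q) u v c}

/-- the group generated by Siegel transformations -/
def KS : Subgroup ↥(Cfsg.isometryGroup F (⇑Q)) := Subgroup.closure (SiegSet Q)

theorem exists_sO (u v : Fin n → F) (hu : Q u = 0) (hv : Q v = 0) (huv : pol (⇑Q) u v = 0) (c : F) :
    ∃ g : ↥(Cfsg.isometryGroup F (⇑Q)), g ∈ SiegSet Q ∧
      ∀ x, lin Q g x = x + (c * pol (⇑Q) u x) • v - (c * pol (⇑Q) v x) • u := by
  obtain ⟨hSiso, -, hSmul⟩ := Cfsg.Agent.S0793.result Q u v hu hv huv
  have hT0 : Cfsg.siegelMatrix (⇑Q) u v 0 = 1 := by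
    unfold Cfsg.siegelMatrix
    rw [zero_smul, add_zero]
  set tG : Matrix.GeneralLinearGroup (Fin n) F :=
    ⟨Cfsg.siegelMatrix (⇑Q) u v c, Cfsg.siegelMatrix (⇑Q) u v (-c),
      by rw [hSmul, add_neg_cancel, hT0], by rw [hSmul, neg_add_cancel, hT0]⟩ with htG
  have htGval : (tG : Matrix (Fin n) (Fin n) F) = Cfsg.siegelMatrix (⇑Q) u v c := rfl
  have htGmem : tG ∈ Cfsg.isometryGroup F ⇑Q := by
    rw [mem_isometryGroup_iff]
    intro x
    rw [htGval]
    exact hSiso c x
  refine ⟨⟨tG, htGmem⟩, ⟨u, v, c, hu, hv, huv, htGval⟩, ?_⟩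
  intro x
  exact lin_siegel Q ⟨tG, htGmem⟩ u v c htGval x

theorem KS_normal : (KS Q).Normal := by
  constructor
  intro k hk h
  unfold KS at hk ⊢
  induction hk using Subgroup.closure_induction with
  | mem k hk =>
    obtain ⟨u, v, c, hu, hv, huv, hmat⟩ := hk
    apply Subgroup.subset_closure
    refine ⟨lin Q h u, lin Q h v, c, by rw [lin_isom, hu], by rw [lin_isom, hv],
      by rw [lin_pol, huv], ?_⟩
    apply siegel_of_lin
    intro x
    rw [lin_mul_apply, lin_mul_apply, lin_siegel Q k u v c hmat, map_sub, map_add, map_smul,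
      map_smul, lin_inv_apply]
    have e1 : pol (⇑Q) u (lin Q h⁻¹ x) = pol (⇑Q) (lin Q h u) x := by
      rw [← lin_pol Q h u, lin_inv_apply]
    have e2 : pol (⇑Q) v (lin Q h⁻¹ x) = pol (⇑Q) (lin Q h v) x := by
      rw [← lin_pol Q h v, lin_inv_apply]
    rw [e1, e2]
  | one => simp
  | mul a b _ _ ha hb =>
    have : h * (a * b) * h⁻¹ = (h * a * h⁻¹) * (h * b * h⁻¹) := by group
    rw [this]
    exact Subgroup.mul_mem _ ha hb
  | inv a _ ha =>
    have : h * a⁻¹ * h⁻¹ = (h * a * h⁻¹)⁻¹ := by group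
    rw [this]
    exact Subgroup.inv_mem _ ha

/-- general Siegel (Eichler) transformations lie in the group generated by long root elements. -/
theorem eichler_mem [Finite F] (hn : 5 ≤ n) (hQ : (QuadraticMap.polarBilin Q).Nondegenerate)
    (p w : Fin n → F) (hp : Q p = 0) (hpw : pol (⇑Q) p w = 0) :
    ∃ k ∈ KS Q, ∀ z, lin Q k z = siegelLin Q p w z := by
  by_cases hp0 : p = 0
  · refine ⟨1, Subgroup.one_mem _, ?_⟩
    intro z
    rw [lin_one, siegelLin_apply, hp0]
    simp
  have h5 : 5 ≤ Module.finrank F (Fin n → F) := by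
    rw [Module.finrank_fin_fun]; exact hn
  obtain ⟨q, q', hpq, hpq', hQq, hQq', hqq'⟩ := exists_hyp_in_perp Q hQ h5 p hp0
  have key := sing_induction Q (LinearMap.ker (QuadraticMap.polarBilin Q p)) q q'
    (by rw [LinearMap.mem_ker]; exact hpq) (by rw [LinearMap.mem_ker]; exact hpq') hQq hQq' hqq'
    (fun w => pol (⇑Q) p w = 0 ∧ ∃ k ∈ KS Q, ∀ z, lin Q k z = siegelLin Q p w z) ?_ ?_ w
    (by rw [LinearMap.mem_ker]; exact hpw)
  · exact key.2
  · rintro x y ⟨hx, kx, hkx, hkx'⟩ ⟨hy, ky, hky, hky'⟩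
    refine ⟨by rw [QuadraticMap.polar_add_right, hx, hy, add_zero], kx * ky,
      Subgroup.mul_mem _ hkx hky, ?_⟩
    intro z
    rw [lin_mul_apply, hkx', hky', siegel_add Q p x y hp hx hy]
  · intro s hs hQs
    rw [LinearMap.mem_ker] at hs
    have hs' : pol (⇑Q) p s = 0 := hs
    refine ⟨hs', ?_⟩
    obtain ⟨g, hg, hg'⟩ := exists_sO Q s p hQs hp (by rw [QuadraticMap.polar_comm]; exact hs') 1
    refine ⟨g, Subgroup.subset_closure hg, ?_⟩
    intro z
    rw [hg', siegelLin_apply, hQs]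
    simp

end Grp

section Trans

variable {F : Type*} [Field F] {n : ℕ} (Q : QuadraticForm F (Fin n → F))

local notation "pol" => QuadraticMap.polar

open Cfsg.Agent.S0792 (lin lin_mul lin_one lin_injective lin_isom rO lin_rO Rset mem_closure_Rset
  pol_isom perp Qperp mem_perp nondeg_perp finrank_perp Qperp_apply)

/-- transitivity step -/
theorem KS_trans_indep [Finite F] (hn : 5 ≤ n) (hQ : (QuadraticMap.polarBilin Q).Nondegenerate)
    (a a' : Fin n → F) (haa : Q a = Q a') (hind : ∀ l : F, a ≠ l • (a' - a)) (hne : a' - a ≠ 0) :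
    ∃ k ∈ KS Q, lin Q k a = a' := by
  have h5 : 5 ≤ Module.finrank F (Fin n → F) := by
    rw [Module.finrank_fin_fun]; exact hn
  obtain ⟨d, hd⟩ : ∃ d, d = a' - a := ⟨_, rfl⟩
  rw [← hd] at hind hne
  have ha' : a' = a + d := by rw [hd]; abel
  obtain ⟨u, hQu, hdu, hau⟩ := exists_sing_perp_not_perp Q hQ h5 d a hne hind
  obtain ⟨p, hQp, hpd, hpa⟩ : ∃ p, Q p = 0 ∧ pol (⇑Q) p d = 0 ∧ pol (⇑Q) p a = 1 := by
    refine ⟨(pol (⇑Q) a u)⁻¹ • u, ?_, ?_, ?_⟩
    · rw [QuadraticMap.map_smul, hQu, smul_zero]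
    · rw [QuadraticMap.polar_smul_left, QuadraticMap.polar_comm (⇑Q) u d, hdu, smul_zero]
    · rw [QuadraticMap.polar_smul_left, QuadraticMap.polar_comm (⇑Q) u a, smul_eq_mul,
        inv_mul_cancel₀ hau]
  obtain ⟨k, hk, hk'⟩ := eichler_mem Q hn hQ p (-d) hQp
    (by rw [QuadraticMap.polar_neg_right, hpd, neg_zero])
  refine ⟨k, hk, ?_⟩
  have hQd : pol (⇑Q) d a + Q d = 0 := by
    have h1 : Q a' = Q a + Q d + pol (⇑Q) a d := by rw [ha', Q_add']
    rw [← haa] at h1
    rw [QuadraticMap.polar_comm (⇑Q) d a]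
    linear_combination -h1
  rw [hk', siegelLin_apply, QuadraticMap.polar_neg_left, QuadraticMap.map_neg, hpa, mul_one, ha']
  have : -pol (⇑Q) d a - Q d = 0 := by linear_combination -hQd
  rw [this]
  simp

theorem indep_of_orth (h2 : (2 : F) ≠ 0) (x y : Fin n → F) (hx : Q x ≠ 0) (hy : Q y ≠ 0)
    (hxy : pol (⇑Q) x y = 0) : (∀ l : F, x ≠ l • (y - x)) ∧ y - x ≠ 0 := by
  have hxx : pol (⇑Q) x x ≠ 0 := by
    rw [polar_self']; exact mul_ne_zero h2 hx
  constructor
  · intro l hl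
    have h1 : pol (⇑Q) x x = -(l * pol (⇑Q) x x) := by
      conv_lhs => rw [hl]
      rw [QuadraticMap.polar_smul_right, QuadraticMap.polar_sub_right, ← hl, hxy]
      simp
    have h3 : (1 + l) * pol (⇑Q) x x = 0 := by linear_combination h1
    have hl1 : l = -1 := by
      rcases mul_eq_zero.1 h3 with h | h
      · linear_combination h
      · exact absurd h hxx
    rw [hl1] at hl
    have hy0 : y = 0 := by
      have : x = x - y := by
        conv_lhs => rw [hl]
        rw [neg_smul, one_smul, neg_sub]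
      have h4 : x - (x - y) = 0 := by rw [← this]; simp
      simpa using h4
    apply hy
    rw [hy0, QuadraticMap.map_zero]
  · intro h
    have : y = x := sub_eq_zero.1 h
    rw [this] at hxy
    exact hxx hxy

/-- the group generated by Siegel transformations is transitive on vectors of a given non-zero
norm. -/
theorem KS_trans [Finite F] (h2 : (2 : F) ≠ 0) (hn : 5 ≤ n)
    (hQ : (QuadraticMap.polarBilin Q).Nondegenerate)
    (a a' : Fin n → F) (ha : Q a ≠ 0) (haa : Q a = Q a') :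
    ∃ k ∈ KS Q, lin Q k a = a' := by
  by_cases hgood : (∀ l : F, a ≠ l • (a' - a)) ∧ a' - a ≠ 0
  · exact KS_trans_indep Q hn hQ a a' haa hgood.1 hgood.2
  have ha'0 : Q a' ≠ 0 := by rw [← haa]; exact ha
  -- `a'` is a multiple of `a`
  obtain ⟨ν, hν⟩ : ∃ ν : F, a' = ν • a := by
    by_cases hne : a' - a = 0
    · exact ⟨1, by rw [one_smul]; exact sub_eq_zero.1 hne⟩
    · have : ¬ ∀ l : F, a ≠ l • (a' - a) := fun h => hgood ⟨h, hne⟩
      push Not at this
      obtain ⟨l, hl⟩ := this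
      have hl0 : l ≠ 0 := by
        intro h
        rw [h, zero_smul] at hl
        apply ha
        rw [hl, QuadraticMap.map_zero]
      refine ⟨1 + l⁻¹, ?_⟩
      have : l⁻¹ • a = a' - a := by
        conv_lhs => rw [hl]
        rw [smul_smul, inv_mul_cancel₀ hl0, one_smul]
      rw [add_smul, one_smul, this]
      abel
  -- an auxiliary vector orthogonal to `a`
  have haa' : pol (⇑Q) a a ≠ 0 := by
    rw [polar_self']; exact mul_ne_zero h2 ha
  have hnd := nondeg_perp Q a haa' hQ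
  have hfr := finrank_perp Q a haa'
  rw [Module.finrank_fin_fun] at hfr
  obtain ⟨b0, hb0⟩ := exists_Q_eq (Qperp Q a) hnd h2 (by omega) (Q a) ha
  set b : Fin n → F := (b0 : Fin n → F) with hb
  have hQb : Q b = Q a := hb0
  have hab : pol (⇑Q) a b = 0 := (mem_perp Q a b).1 b0.2
  have hQb0 : Q b ≠ 0 := by rw [hQb]; exact ha
  have hba' : pol (⇑Q) b a' = 0 := by
    rw [hν, QuadraticMap.polar_smul_right, QuadraticMap.polar_comm (⇑Q) b a, hab, smul_zero]
  obtain ⟨h1a, h1b⟩ := indep_of_orth Q h2 a b ha hQb0 hab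
  obtain ⟨h2a, h2b⟩ := indep_of_orth Q h2 b a' hQb0 ha'0 hba'
  obtain ⟨k1, hk1, hk1'⟩ := KS_trans_indep Q hn hQ a b hQb.symm h1a h1b
  obtain ⟨k2, hk2, hk2'⟩ := KS_trans_indep Q hn hQ b a' (by rw [hQb, haa]) h2a h2b
  refine ⟨k2 * k1, Subgroup.mul_mem _ hk2 hk1, ?_⟩
  rw [lin_mul_apply, hk1', hk2']

end Trans

section Final

variable {F : Type*} [Field F] {n : ℕ} (Q : QuadraticForm F (Fin n → F))

local notation "pol" => QuadraticMap.polar

open scoped commutatorElement

open Cfsg.Agent.S0792 (lin lin_mul lin_one lin_injective lin_isom rO lin_rO Rset mem_closure_Rset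
  pol_isom perp Qperp mem_perp nondeg_perp finrank_perp Qperp_apply)

theorem rO_conj (k : ↥(Cfsg.isometryGroup F (⇑Q))) (b : Fin n → F) (hb : Q b ≠ 0)
    (hb' : Q (lin Q k b) ≠ 0) :
    k * rO Q b hb * k⁻¹ = rO Q (lin Q k b) hb' := by
  apply lin_injective Q
  apply LinearMap.ext
  intro x
  rw [lin_mul_apply, lin_mul_apply, lin_rO, lin_rO, reflLin_apply, reflLin_apply, map_sub,
    map_smul, lin_inv_apply, lin_isom]
  have e1 : pol (⇑Q) b (lin Q k⁻¹ x) = pol (⇑Q) (lin Q k b) x := by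
    rw [← lin_pol Q k b, lin_inv_apply]
  rw [e1]

theorem rO_comm (a b : Fin n → F) (ha : Q a ≠ 0) (hb : Q b ≠ 0) (hab : pol (⇑Q) a b = 0) :
    rO Q a ha * rO Q b hb = rO Q b hb * rO Q a ha := by
  have hba : pol (⇑Q) b a = 0 := by rw [QuadraticMap.polar_comm]; exact hab
  apply lin_injective Q
  apply LinearMap.ext
  intro x
  rw [lin_mul_apply, lin_mul_apply, lin_rO, lin_rO, reflLin_apply, reflLin_apply, reflLin_apply,
    reflLin_apply]
  simp only [QuadraticMap.polar_sub_right, QuadraticMap.polar_smul_right, hab, hba, smul_eq_mul,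
    mul_zero, sub_zero]
  abel

theorem refl_commute [Finite F] (h2 : (2 : F) ≠ 0) (hn : 5 ≤ n)
    (hQ : (QuadraticMap.polarBilin Q).Nondegenerate) (a b : Fin n → F) (ha : Q a ≠ 0)
    (hb : Q b ≠ 0) :
    ⁅rO Q a ha, rO Q b hb⁆ ∈ KS Q := by
  have := KS_normal Q
  have haa' : pol (⇑Q) a a ≠ 0 := by
    rw [polar_self']; exact mul_ne_zero h2 ha
  have hnd := nondeg_perp Q a haa' hQ
  have hfr := finrank_perp Q a haa'
  rw [Module.finrank_fin_fun] at hfr
  obtain ⟨b0, hb0⟩ := exists_Q_eq (Qperp Q a) hnd h2 (by omega) (Q b) hb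
  obtain ⟨b1, hb1⟩ : ∃ b1 : Fin n → F, b1 = (b0 : Fin n → F) := ⟨_, rfl⟩
  have hQb1 : Q b1 = Q b := by rw [hb1]; exact hb0
  have hab1 : pol (⇑Q) a b1 = 0 := by rw [hb1]; exact (mem_perp Q a _).1 b0.2
  have hQb10 : Q b1 ≠ 0 := by rw [hQb1]; exact hb
  obtain ⟨k, hk, hk'⟩ := KS_trans Q h2 hn hQ b1 b hQb10 hQb1
  subst hk'
  rw [← rO_conj Q k b1 hQb10 hb]
  set r := rO Q a ha with hr
  set s := rO Q b1 hQb10 with hs
  have hrs : r * s = s * r := rO_comm Q a b1 ha hQb10 hab1
  have hk1 : (QuotientGroup.mk' (KS Q)) k = 1 := (QuotientGroup.eq_one_iff k).2 hk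
  have : (QuotientGroup.mk' (KS Q)) ⁅r, k * s * k⁻¹⁆ = 1 := by
    rw [map_commutatorElement, map_mul, map_mul, map_inv, hk1, one_mul, inv_one, mul_one,
      ← map_commutatorElement, commutatorElement_eq_one_iff_mul_comm.2 hrs, map_one]
  exact (QuotientGroup.eq_one_iff _).1 this

theorem comm_le_KS [Finite F] (h2 : (2 : F) ≠ 0) (hn : 5 ≤ n)
    (hQ : (QuadraticMap.polarBilin Q).Nondegenerate) :
    commutator ↥(Cfsg.isometryGroup F (⇑Q)) ≤ KS Q := by
  have := KS_normal Q
  set π := QuotientGroup.mk' (KS Q) with hπ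
  -- images of reflections commute
  have hrr : ∀ r ∈ Rset Q, ∀ s ∈ Rset Q, Commute (π r) (π s) := by
    rintro r ⟨a, ha, rfl⟩ s ⟨b, hb, rfl⟩
    have h := refl_commute Q h2 hn hQ a b ha hb
    have h1 : π ⁅rO Q a ha, rO Q b hb⁆ = 1 := (QuotientGroup.eq_one_iff _).2 h
    rw [map_commutatorElement, commutatorElement_eq_one_iff_mul_comm] at h1
    exact h1
  have hrg : ∀ r ∈ Rset Q, ∀ g ∈ Submonoid.closure (Rset Q), Commute (π r) (π g) := by
    intro r hr g hg
    induction hg using Submonoid.closure_induction with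
    | mem s hs => exact hrr r hr s hs
    | one => rw [map_one]; exact Commute.one_right _
    | mul x y _ _ hx hy => rw [map_mul]; exact Commute.mul_right hx hy
  have hgg : ∀ g ∈ Submonoid.closure (Rset Q), ∀ h ∈ Submonoid.closure (Rset Q),
      Commute (π g) (π h) := by
    intro g hg h hh
    induction hg using Submonoid.closure_induction with
    | mem r hr => exact hrg r hr h hh
    | one => rw [map_one]; exact Commute.one_left _
    | mul x y _ _ hx hy => rw [map_mul]; exact Commute.mul_left hx hy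
  rw [commutator_def, Subgroup.commutator_le]
  intro g _ h _
  have h1 : π ⁅g, h⁆ = 1 := by
    rw [map_commutatorElement, commutatorElement_eq_one_iff_mul_comm]
    exact hgg g (mem_closure_Rset Q h2 hQ g) h (mem_closure_Rset Q h2 hQ h)
  exact (QuotientGroup.eq_one_iff _).1 h1

end Final


/-- Generation of Ω by root elements: for q odd, n ≥ 5 and Q with non-degenerate polar form on F^n, the commutator subgroup of the isometry group equals the subgroup generated by the isometries whose matrices are Siegel transformations T_(u,v)(c) with u, v singular and orthogonal. -/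
theorem result {F : Type*} [Field F] [Fintype F] (h2 : (2 : F) ≠ 0) {n : ℕ} (hn : 5 ≤ n) (Q : QuadraticForm F (Fin n → F)) (hQ : (QuadraticMap.polarBilin Q).Nondegenerate) : Cfsg.Omega F ⇑Q = Subgroup.closure {g : ↥(Cfsg.isometryGroup F ⇑Q) | ∃ (u v : Fin n → F) (c : F), Q u = 0 ∧ Q v = 0 ∧ QuadraticMap.polar ⇑Q u v = 0 ∧ ((g : Matrix.GeneralLinearGroup (Fin n) F) : Matrix (Fin n) (Fin n) F) = Cfsg.siegelMatrix ⇑Q u v c} := by
  apply le_antisymm
  · exact comm_le_KS Q h2 hn hQ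
  · rw [Subgroup.closure_le]
    rintro g ⟨u, v, c, hu, hv, huv, hg⟩
    exact (Cfsg.Agent.S0794.result h2 hn Q hQ u v hu hv huv c g hg).2

end Cfsg.Agent.S0795
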