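import Cfsg.Statements.S2695
import Cfsg.Agent.Lib.Helper36.AutO.Regimes
import Cfsg.Agent.Lib.Helper44.Levi
-- import your own Cfsg.Agent.* helpers here

set_option autoImplicit false
open Cfsg

namespace Cfsg.Agent.S2695

/-- For m ≥ 5 and a finite field F, the automorphism group of PΩ⁺_{2m}(F) (the form Σ xᵢ yᵢ) is generated by the automorphisms induced by the semisimilarities v ↦ g σ(v) of the form (the image of the projective semisimilarity group). The case 2m = 8 is excluded: there triality gives further automorphisms. -/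
theorem result {F : Type*} [Field F] [Fintype F] {m : ℕ} (hm : 5 ≤ m) :
    Cfsg.gammaPOmega F (Cfsg.quadFormPlus m F) = ⊤ := by
  have hcard : Fintype.card (Fin m ⊕ Fin m) = 2 * m := by
    rw [Fintype.card_sum, Fintype.card_fin]; ring
  have h9 : 9 ≤ Module.finrank F (Fin m ⊕ Fin m → F) := by
    rw [Module.finrank_fintype_fun_eq_card, hcard]; omega
  exact Cfsg.Agent.Lib.Helper36.AutO.gammaPOmega_eq_top (Cfsg.Agent.Lib.Helper44.hypQF m F)
    Cfsg.Agent.Lib.Helper44.hypQF_nondeg (by rw [hcard]; omega) _
    (Cfsg.Agent.Lib.Helper36.AutO.regime_of_nine h9)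

end Cfsg.Agent.S2695
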