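import Cfsg.Statements.S0290
import Mathlib
-- import your own Cfsg.Agent.* helpers here
import Cfsg.Agent.Lib.Helper5.QuadCount

set_option autoImplicit false
open Cfsg

namespace Cfsg.Agent.S0290

open Matrix

/-- The minus-type quadratic form on F^(2m), m at least 1, has q^(2m-1) + q^(m-1) - q^m zeros (that is, (q^m + 1)(q^(m-1) - 1) non-zero isotropic vectors). -/
theorem result {F : Type*} [Field F] [Fintype F] {q : ℕ} (hF : Fintype.card F = q) (m : ℕ) (hm : 1 ≤ m) (a b : F) (hab : ∀ z₁ z₂ : F, z₁ ^ 2 + a * z₁ * z₂ + b * z₂ ^ 2 = 0 → z₁ = 0 ∧ z₂ = 0) : Nat.card {v : (Fin (m - 1) ⊕ Fin (m - 1)) ⊕ Fin 2 → F // Cfsg.quadFormMinus (m - 1) F a b v = 0} = q ^ (2 * m - 1) + q ^ (m - 1) - q ^ m := by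
  subst hF
  obtain ⟨n, rfl⟩ : ∃ n, m = n + 1 := ⟨m - 1, by omega⟩
  change Nat.card {v : (Fin n ⊕ Fin n) ⊕ Fin 2 → F // Cfsg.quadFormMinus n F a b v = 0} = Fintype.card F ^ (2 * (n + 1) - 1) + Fintype.card F ^ n - Fintype.card F ^ (n + 1)
  let h : F × F → F := fun z => z.1 ^ 2 + a * z.1 * z.2 + b * z.2 ^ 2
  let e : {v : (Fin n ⊕ Fin n) ⊕ Fin 2 → F // Cfsg.quadFormMinus n F a b v = 0} ≃
      {p : (Fin n → F) × (Fin n → F) × (F × F) // p.1 ⬝ᵥ p.2.1 + h p.2.2 = 0} :=
    { toFun := fun v => ⟨(fun i => v.1 (Sum.inl (Sum.inl i)), fun i => v.1 (Sum.inl (Sum.inr i)),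
          (v.1 (Sum.inr 0), v.1 (Sum.inr 1))), by
        have := v.2
        simp only [Cfsg.quadFormMinus] at this
        simp only [dotProduct, h]
        exact this⟩
      invFun := fun p => ⟨Sum.elim (Sum.elim p.1.1 p.1.2.1) ![p.1.2.2.1, p.1.2.2.2], by
        have := p.2
        simp only [dotProduct, h] at this
        simp only [Cfsg.quadFormMinus, Sum.elim_inl, Sum.elim_inr]
        exact this⟩
      left_inv := fun v => by
        apply Subtype.ext
        funext i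
        rcases i with (i | i) | i
        · rfl
        · rfl
        · fin_cases i <;> rfl
      right_inv := fun p => rfl }
  rw [Nat.card_congr e, Cfsg.Agent.Lib.Helper5.card_hyperbolic_add n h]
  have hZ : Nat.card {w : F × F // h w = 0} = 1 := by
    rw [Nat.card_eq_one_iff_unique]
    refine ⟨⟨fun x y => Subtype.ext ?_⟩, ⟨⟨(0, 0), by simp [h]⟩⟩⟩
    have hx := hab x.1.1 x.1.2 x.2
    have hy := hab y.1.1 y.1.2 y.2
    exact Prod.ext (hx.1.trans hy.1.symm) (hx.2.trans hy.2.symm)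
  rw [hZ, mul_one, Nat.card_prod, Nat.card_eq_fintype_card]
  have hq : 1 ≤ Fintype.card F := Fintype.card_pos
  have h1 : 1 ≤ Fintype.card F ^ n := Nat.one_le_pow _ _ hq
  rcases Nat.eq_zero_or_pos n with h0 | h0
  · subst h0; simp
  · have h3 : Fintype.card F ^ (n - 1) * (Fintype.card F * Fintype.card F) = Fintype.card F ^ (n + 1) := by
      rw [← mul_assoc, ← pow_succ, ← pow_succ]; congr 1; omega
    rw [h3, Nat.sub_mul, one_mul]
    have h5 : Fintype.card F ^ (2 * (n + 1) - 1) = Fintype.card F ^ n * Fintype.card F ^ (n + 1) := by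
      rw [← pow_add]; congr 1; omega
    rw [h5]
    have h4 : Fintype.card F ^ (n + 1) ≤ Fintype.card F ^ n * Fintype.card F ^ (n + 1) :=
      Nat.le_mul_of_pos_left _ h1
    omega

end Cfsg.Agent.S0290
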