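import Cfsg.Statements.S2617
-- import your own Cfsg.Agent.* helpers here

set_option autoImplicit false
open Cfsg

namespace Cfsg.Agent.S2617

open Module in
theorem ts_bound {F : Type*} [Field F] (k : ℕ) (ζ : F) (hζ : ∀ t : F, t ^ 2 + t + ζ ≠ 0)
    (W : Submodule F ((Fin k ⊕ Fin k) ⊕ Fin 2 → F))
    (hW : ∀ w ∈ W, Cfsg.quadFormMinus k F 1 ζ w = 0) : finrank F W ≤ k := by
  classical
  -- anisotropy
  have aniso : ∀ z₀ z₁ : F, z₀ ^ 2 + 1 * z₀ * z₁ + ζ * z₁ ^ 2 = 0 → z₀ = 0 ∧ z₁ = 0 := by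
    intro z₀ z₁ h
    by_cases h1 : z₁ = 0
    · subst h1
      simp at h
      exact ⟨h, rfl⟩
    · exfalso
      apply hζ (z₀ / z₁)
      field_simp
      linear_combination h
  let px : ((Fin k ⊕ Fin k) ⊕ Fin 2 → F) →ₗ[F] (Fin k → F) :=
    LinearMap.funLeft F F (fun i => Sum.inl (Sum.inl i))
  let py : ((Fin k ⊕ Fin k) ⊕ Fin 2 → F) →ₗ[F] (Fin k → F) :=
    LinearMap.funLeft F F (fun i => Sum.inl (Sum.inr i))
  let π : W →ₗ[F] (Fin k → F) := px ∘ₗ W.subtype
  let ψ : LinearMap.ker π →ₗ[F] (Fin k → F) := py ∘ₗ W.subtype ∘ₗ (LinearMap.ker π).subtype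
  -- elements of the kernel have x = 0, z = 0
  have hK : ∀ w : LinearMap.ker π, (∀ i, (w : W).1 (Sum.inl (Sum.inl i)) = 0) ∧
      (w : W).1 (Sum.inr 0) = 0 ∧ (w : W).1 (Sum.inr 1) = 0 := by
    intro w
    have h1 : ∀ i, (w : W).1 (Sum.inl (Sum.inl i)) = 0 := by
      intro i
      have := w.2
      rw [LinearMap.mem_ker] at this
      exact congrFun this i
    refine ⟨h1, ?_⟩
    have h2 := hW _ (w : W).2
    simp only [Cfsg.quadFormMinus, h1, zero_mul, Finset.sum_const_zero, zero_add] at h2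
    exact aniso _ _ h2
  have hψ : Function.Injective ψ := by
    rw [injective_iff_map_eq_zero]
    intro w hw
    obtain ⟨h1, h2, h3⟩ := hK w
    apply Subtype.ext
    apply Subtype.ext
    ext j
    rcases j with (j | j) | j
    · exact h1 j
    · exact congrFun hw j
    · fin_cases j
      · exact h2
      · exact h3
  let B : LinearMap.BilinForm F (Fin k → F) := Matrix.toBilin' (1 : Matrix (Fin k) (Fin k) F)
  have hB : B.Nondegenerate := by
    apply LinearMap.BilinForm.nondegenerate_toBilin'_iff_det_ne_zero.2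
    simp
  have hBapp : ∀ x y : Fin k → F, B x y = ∑ i, x i * y i := by
    intro x y
    simp [B, Matrix.toBilin'_apply', dotProduct]
  have horth : LinearMap.range ψ ≤ B.orthogonal (LinearMap.range π) := by
    rintro _ ⟨w, rfl⟩ _ ⟨w', rfl⟩
    show B _ _ = 0
    rw [hBapp]
    obtain ⟨h1, h2, h3⟩ := hK w
    have e1 := hW _ (W.add_mem w'.2 (w : W).2)
    have e2 := hW _ w'.2
    obtain ⟨⟨v, hvW⟩, hvK⟩ := w
    obtain ⟨v', hv'W⟩ := w'
    simp only at h1 h2 h3 e1 e2
    simp only [Cfsg.quadFormMinus, Pi.add_apply, h1, h2, h3, add_zero] at e1 e2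
    show ∑ i : Fin k, v' (Sum.inl (Sum.inl i)) * v (Sum.inl (Sum.inr i)) = 0
    have e3 : ∑ i : Fin k, v' (Sum.inl (Sum.inl i)) * (v' (Sum.inl (Sum.inr i)) + v (Sum.inl (Sum.inr i)))
        = ∑ i : Fin k, v' (Sum.inl (Sum.inl i)) * v' (Sum.inl (Sum.inr i)) +
          ∑ i : Fin k, v' (Sum.inl (Sum.inl i)) * v (Sum.inl (Sum.inr i)) := by
      rw [← Finset.sum_add_distrib]
      apply Finset.sum_congr rfl
      intro i _; ring
    rw [e3] at e1
    linear_combination e1 - e2
  have h1 := LinearMap.finrank_range_add_finrank_ker π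
  have h2 : finrank F (LinearMap.ker π) = finrank F (LinearMap.range ψ) :=
    (LinearMap.finrank_range_of_inj hψ).symm
  have h3 := Submodule.finrank_mono horth
  have h4 := LinearMap.BilinForm.finrank_orthogonal hB (LinearMap.range π)
  have h5 : finrank F (Fin k → F) = k := by simp
  have h6 : finrank F (LinearMap.range π) ≤ k := by
    have := Submodule.finrank_le (LinearMap.range π)
    rwa [h5] at this
  omega



/-- The two standard quadratic forms of even dimension 2m over a finite field are not isometric: there is no linear isomorphism carrying the elliptic form Σ_(i<m−1) x_i y_i + z₁² + z₁z₂ + ζ z₂² (t² + t + ζ without roots) to the hyperbolic form Σ_(i<m) x_i y_i (they have different Witt index). -/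
theorem result {F : Type*} [Field F] [Finite F] {m : ℕ} (hm : 1 ≤ m) (ζ : F) (hζ : ∀ t : F, t ^ 2 + t + ζ ≠ 0) (g : (Fin m ⊕ Fin m → F) ≃ₗ[F] ((Fin (m - 1) ⊕ Fin (m - 1)) ⊕ Fin 2 → F)) : ¬ (∀ v : Fin m ⊕ Fin m → F, Cfsg.quadFormMinus (m - 1) F 1 ζ (g v) = Cfsg.quadFormPlus m F v) := by
  intro h
  let ι : (Fin m → F) →ₗ[F] (Fin m ⊕ Fin m → F) :=
    { toFun := fun x => Sum.elim x 0
      map_add' := by
        intro x y; ext j; rcases j with j | j <;> simp
      map_smul' := by
        intro c x; ext j; rcases j with j | j <;> simp }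
  have hι : Function.Injective ι := by
    intro x y hxy
    ext i
    have := congrFun hxy (Sum.inl i)
    simpa [ι] using this
  let φ : (Fin m → F) →ₗ[F] ((Fin (m - 1) ⊕ Fin (m - 1)) ⊕ Fin 2 → F) := (g : _ →ₗ[F] _) ∘ₗ ι
  have hφ : Function.Injective φ := g.injective.comp hι
  have hW : ∀ w ∈ LinearMap.range φ, Cfsg.quadFormMinus (m - 1) F 1 ζ w = 0 := by
    rintro _ ⟨x, rfl⟩
    show Cfsg.quadFormMinus (m - 1) F 1 ζ (g (ι x)) = 0
    rw [h]
    simp [Cfsg.quadFormPlus, ι]
  have h1 := ts_bound (m - 1) ζ hζ _ hW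
  rw [LinearMap.finrank_range_of_inj hφ] at h1
  simp at h1
  omega

end Cfsg.Agent.S2617
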