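import Cfsg.Statements.S0791
import Cfsg.Agent.Lib.Helper13.SpinNeg

set_option autoImplicit false
set_option linter.unusedSimpArgs false
open Cfsg

namespace Cfsg.Agent.S0791

open Cfsg.Agent.Lib.Helper13

/-- The minus-type quadratic form as a `QuadraticForm`. -/
noncomputable def minusForm (k : ℕ) (F : Type*) [Field F] (a b : F) :
    QuadraticForm F ((Fin k ⊕ Fin k) ⊕ Fin 2 → F) :=
  (∑ i : Fin k, QuadraticMap.linMulLin (LinearMap.proj (Sum.inl (Sum.inl i)))
      (LinearMap.proj (Sum.inl (Sum.inr i))))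
    + (QuadraticMap.linMulLin (LinearMap.proj (Sum.inr 0)) (LinearMap.proj (Sum.inr 0))
      + a • QuadraticMap.linMulLin (LinearMap.proj (Sum.inr 0)) (LinearMap.proj (Sum.inr 1))
      + b • QuadraticMap.linMulLin (LinearMap.proj (Sum.inr 1)) (LinearMap.proj (Sum.inr 1)))

theorem minusForm_coe (k : ℕ) (F : Type*) [Field F] (a b : F) :
    ⇑(minusForm k F a b) = Cfsg.quadFormMinus k F a b := by
  funext v
  unfold minusForm Cfsg.quadFormMinus
  rw [add_apply, sum_apply]
  simp only [add_apply, smul_apply, QuadraticMap.linMulLin_apply,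
    LinearMap.proj_apply, smul_eq_mul]
  ring

theorem minusForm_polar (k : ℕ) (F : Type*) [Field F] (a b : F)
    (x y : (Fin k ⊕ Fin k) ⊕ Fin 2 → F) :
    QuadraticMap.polar (⇑(minusForm k F a b)) x y
      = ∑ i : Fin k, (x (Sum.inl (Sum.inl i)) * y (Sum.inl (Sum.inr i))
          + y (Sum.inl (Sum.inl i)) * x (Sum.inl (Sum.inr i)))
        + (2 * x (Sum.inr 0) * y (Sum.inr 0)
          + a * (x (Sum.inr 0) * y (Sum.inr 1) + y (Sum.inr 0) * x (Sum.inr 1))
          + 2 * b * x (Sum.inr 1) * y (Sum.inr 1)) := by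
  rw [minusForm_coe]
  unfold QuadraticMap.polar Cfsg.quadFormMinus
  simp only [Pi.add_apply]
  have h1 : ∀ (f g h e : Fin k → F), (∀ i, f i - g i - h i = e i) →
      ∑ i, f i = ∑ i, g i + ∑ i, h i + ∑ i, e i := by
    intro f g h e hfe
    rw [← Finset.sum_add_distrib, ← Finset.sum_add_distrib]
    apply Finset.sum_congr rfl
    intro i _
    rw [← hfe i]
    ring
  rw [h1 (fun i => (x (Sum.inl (Sum.inl i)) + y (Sum.inl (Sum.inl i)))
      * (x (Sum.inl (Sum.inr i)) + y (Sum.inl (Sum.inr i))))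
    (fun i => x (Sum.inl (Sum.inl i)) * x (Sum.inl (Sum.inr i)))
    (fun i => y (Sum.inl (Sum.inl i)) * y (Sum.inl (Sum.inr i)))
    (fun i => x (Sum.inl (Sum.inl i)) * y (Sum.inl (Sum.inr i))
          + y (Sum.inl (Sum.inl i)) * x (Sum.inl (Sum.inr i))) (fun i => by ring)]
  ring

theorem minusForm_gram (k : ℕ) (F : Type*) [Field F] (a b : F) :
    (Matrix.of fun i j : (Fin k ⊕ Fin k) ⊕ Fin 2 =>
      QuadraticMap.polar (⇑(minusForm k F a b)) (Pi.single i (1 : F)) (Pi.single j (1 : F)))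
      = Matrix.fromBlocks
          (Matrix.fromBlocks (0 : Matrix (Fin k) (Fin k) F) (1 : Matrix (Fin k) (Fin k) F)
            (1 : Matrix (Fin k) (Fin k) F) (0 : Matrix (Fin k) (Fin k) F))
          (0 : Matrix (Fin k ⊕ Fin k) (Fin 2) F) (0 : Matrix (Fin 2) (Fin k ⊕ Fin k) F)
          !![2, a; a, 2 * b] := by
  ext ((i | i) | i) ((j | j) | j)
  · simp [minusForm_polar, Pi.single_apply, Matrix.one_apply, eq_comm]
  · simp [minusForm_polar, Pi.single_apply, Matrix.one_apply, eq_comm]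
  · simp [minusForm_polar, Pi.single_apply, eq_comm]
  · simp [minusForm_polar, Pi.single_apply, Matrix.one_apply, eq_comm]
  · simp [minusForm_polar, Pi.single_apply, Matrix.one_apply, eq_comm]
  · simp [minusForm_polar, Pi.single_apply, eq_comm]
  · simp [minusForm_polar, Pi.single_apply, eq_comm]
  · simp [minusForm_polar, Pi.single_apply, eq_comm]
  · fin_cases i <;> fin_cases j <;>
      simp [minusForm_polar, Pi.single_apply, eq_comm]

/-- −1 ∈ Ω⁻_2m(q) iff q^m ≡ −1 (mod 4), for q odd and m ≥ 1; for the minus-type form quadFormMinus (m−1) with anisotropic binary part. -/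
theorem result {F : Type*} [Field F] [Fintype F] {q : ℕ} (hF : Fintype.card F = q) (hodd : Odd q) (m : ℕ) (hm : 1 ≤ m) (a b : F) (hab : ∀ z₁ z₂ : F, z₁ ^ 2 + a * z₁ * z₂ + b * z₂ ^ 2 = 0 → z₁ = 0 ∧ z₂ = 0) : (∃ g : ↥(Cfsg.isometryGroup F (Cfsg.quadFormMinus (m - 1) F a b)), g ∈ Cfsg.Omega F (Cfsg.quadFormMinus (m - 1) F a b) ∧ ((g : Matrix.GeneralLinearGroup ((Fin (m - 1) ⊕ Fin (m - 1)) ⊕ Fin 2) F) : Matrix ((Fin (m - 1) ⊕ Fin (m - 1)) ⊕ Fin 2) ((Fin (m - 1) ⊕ Fin (m - 1)) ⊕ Fin 2) F) = -1) ↔ q ^ m % 4 = 3 := by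
  classical
  subst hF
  have h2 : (2 : F) ≠ 0 := two_ne_zero_of_odd_card hodd
  obtain ⟨k, rfl⟩ : ∃ k, m = k + 1 := ⟨m - 1, by omega⟩
  rw [Nat.add_sub_cancel]
  have hgram := minusForm_gram k F a b
  have hdet : Matrix.det (Matrix.of fun i j : (Fin k ⊕ Fin k) ⊕ Fin 2 =>
      QuadraticMap.polar (⇑(minusForm k F a b)) (Pi.single i (1 : F)) (Pi.single j (1 : F)))
      = (-1) ^ (k + 1) * (a ^ 2 - 4 * b) := by
    rw [hgram, Matrix.det_fromBlocks_zero₂₁, det_fromBlocks_antidiag, Fintype.card_fin,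
      Matrix.det_fin_two_of]
    ring
  have hnsq : ¬ IsSquare (a ^ 2 - 4 * b) := by
    rintro ⟨s, hs⟩
    have h4 : (4 : F) ≠ 0 := by
      have : (4 : F) = 2 * 2 := by norm_num
      rw [this]
      exact mul_ne_zero h2 h2
    have := (hab ((s - a) / 2) 1 (by
      field_simp
      linear_combination (-1 : F) * hs)).2
    exact one_ne_zero this
  have hdisc0 : a ^ 2 - 4 * b ≠ 0 := by
    intro h0
    apply hnsq
    rw [h0]
    exact IsSquare.zero
  have hQ : (QuadraticMap.polarBilin (minusForm k F a b)).Nondegenerate := by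
    apply nondegenerate_of_gram_det_ne_zero
    rw [hdet]
    exact mul_ne_zero (pow_ne_zero _ (neg_ne_zero.mpr one_ne_zero)) hdisc0
  have hcard : Fintype.card ((Fin k ⊕ Fin k) ⊕ Fin 2) = 2 * (k + 1) := by
    rw [Fintype.card_sum, Fintype.card_sum, Fintype.card_fin, Fintype.card_fin]; ring
  have hiff := neg_one_mem_Omega_iff (minusForm k F a b) hQ h2 (by rw [hcard]; omega)
    (by rw [hcard]; exact even_two_mul _)
  rw [minusForm_coe] at hiff hdet
  rw [hiff, hdet, map_mul, quadraticChar_neg_one_pow h2,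
    quadraticChar_neg_one_iff_not_isSquare.mpr hnsq]
  have hoddpow : Fintype.card F ^ (k + 1) % 2 = 1 := by
    rcases hodd with ⟨t, ht⟩
    rw [Nat.pow_mod, ht]
    have : (2 * t + 1) % 2 = 1 := by omega
    rw [this, one_pow]; rfl
  generalize Fintype.card F ^ (k + 1) = N at hoddpow ⊢
  constructor
  · intro h
    by_contra hcon
    have h1 : N % 4 = 1 := by omega
    rw [if_pos h1] at h
    norm_num at h
  · intro h
    have h1 : ¬ N % 4 = 1 := by omega
    rw [if_neg h1]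
    norm_num

end Cfsg.Agent.S0791
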