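import Cfsg.Statements.S0786
import Cfsg.Agent.Lib.Helper13.ReflGen
import Cfsg.Agent.Lib.Helper13.Orth

set_option autoImplicit false
open Cfsg

namespace Cfsg.Agent.S0786

open Cfsg.Agent.Lib.Helper13

/-- `GL_n(F)` as linear equivalences of `F^n`. -/
noncomputable def glEquiv (n : ℕ) (F : Type*) [Field F] :
    Matrix.GeneralLinearGroup (Fin n) F ≃* ((Fin n → F) ≃ₗ[F] (Fin n → F)) :=
  (Matrix.GeneralLinearGroup.toLin).trans
    (LinearMap.GeneralLinearGroup.generalLinearEquiv F (Fin n → F))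

theorem glEquiv_apply {n : ℕ} {F : Type*} [Field F] (g : Matrix.GeneralLinearGroup (Fin n) F)
    (v : Fin n → F) : glEquiv n F g v = (g : Matrix (Fin n) (Fin n) F).mulVec v := by
  rfl

theorem exists_ne_ne {F : Type*} [Field F] [Fintype F] (h : Fintype.card F ≠ 2) (a b : F) :
    ∃ x : F, x ≠ a ∧ x ≠ b := by
  classical
  by_contra hcon
  push Not at hcon
  have h1 : (Finset.univ : Finset F) ⊆ {a, b} := by
    intro x _
    by_cases hx : x = a
    · simp [hx]
    · simp [hcon x hx]
  have h2 := Finset.card_le_card h1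
  have h3 : ({a, b} : Finset F).card ≤ 2 := Finset.card_le_two
  have h4 : 1 < Fintype.card F := Fintype.one_lt_card
  rw [Finset.card_univ] at h2
  omega

/-- Generation by reflections: if F is finite, Q is a quadratic form on F^n with non-degenerate polar form, and (|F|, n) ≠ (2, 4), then the isometry group of Q is generated by the reflections r_v, Q(v) ≠ 0. -/
theorem result {F : Type*} [Field F] [Fintype F] {n : ℕ} (Q : QuadraticForm F (Fin n → F)) (hQ : (QuadraticMap.polarBilin Q).Nondegenerate) (h : Fintype.card F ≠ 2 ∨ n ≠ 4) : Subgroup.closure {g : ↥(Cfsg.isometryGroup F ⇑Q) | ∃ v : Fin n → F, Q v ≠ 0 ∧ ((g : Matrix.GeneralLinearGroup (Fin n) F) : Matrix (Fin n) (Fin n) F) = Cfsg.reflectionMatrix ⇑Q v} = ⊤ := by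
  classical
  have hF : (∀ a b : F, ∃ x : F, x ≠ a ∧ x ≠ b) ∨ Module.finrank F (Fin n → F) ≠ 4 := by
    rcases h with h | h
    · left; exact exists_ne_ne h
    · right; rw [Module.finrank_fin_fun]; exact h
  rw [eq_top_iff]
  intro g _
  have hmem : glEquiv n F (g : Matrix.GeneralLinearGroup (Fin n) F) ∈ reflGroup Q := by
    apply isometry_mem_reflGroup Q hQ hF
    intro z
    rw [glEquiv_apply]
    exact (mem_isometryGroup_iff (⇑Q) (g : Matrix.GeneralLinearGroup (Fin n) F)).mp g.2 z
  have hle : reflGroup Q ≤ (Subgroup.closure {g : ↥(Cfsg.isometryGroup F ⇑Q) |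
      ∃ v : Fin n → F, Q v ≠ 0 ∧ ((g : Matrix.GeneralLinearGroup (Fin n) F) :
        Matrix (Fin n) (Fin n) F) = Cfsg.reflectionMatrix ⇑Q v}).map
      ((glEquiv n F).toMonoidHom.comp (Cfsg.isometryGroup F ⇑Q).subtype) := by
    unfold reflGroup
    rw [Subgroup.closure_le]
    rintro T ⟨v, hv, hT⟩
    have hdet : (Cfsg.reflectionMatrix (⇑Q) v).det ≠ 0 := by
      rw [reflectionMatrix_det Q v hv]
      exact neg_ne_zero.mpr one_ne_zero
    have hr : Matrix.GeneralLinearGroup.mkOfDetNeZero (Cfsg.reflectionMatrix (⇑Q) v) hdet ∈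
        Cfsg.isometryGroup F ⇑Q := by
      rw [mem_isometryGroup_iff]
      intro u
      exact reflectionMatrix_isometry Q v hv u
    refine ⟨⟨_, hr⟩, Subgroup.subset_closure ⟨v, hv, rfl⟩, ?_⟩
    apply LinearEquiv.ext
    intro z
    rw [hT, reflLin_apply]
    change glEquiv n F (Matrix.GeneralLinearGroup.mkOfDetNeZero (Cfsg.reflectionMatrix (⇑Q) v) hdet) z
      = _
    rw [glEquiv_apply]
    exact reflectionMatrix_mulVec Q v z
  obtain ⟨s, hs, hsg⟩ := hle hmem
  have hsg' : (s : Matrix.GeneralLinearGroup (Fin n) F) = (g : Matrix.GeneralLinearGroup (Fin n) F) :=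
    (glEquiv n F).injective hsg
  have : s = g := Subtype.ext hsg'
  rw [← this]
  exact hs

end Cfsg.Agent.S0786
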