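import Cfsg.Statements.S0789
import Cfsg.Agent.Lib.Helper13.Dickson
import Cfsg.Agent.Lib.Helper13.Orth
import Cfsg.Agent.S0786

set_option autoImplicit false
open Cfsg

namespace Cfsg.Agent.S0789

open Cfsg.Agent.Lib.Helper13

/-- The matrix isometry group corresponds to the isometry group of linear equivalences. -/
theorem map_glEquiv_isometryGroup {F : Type*} [Field F] {n : ℕ} (Q : QuadraticForm F (Fin n → F)) :
    (Cfsg.isometryGroup F ⇑Q).map (Cfsg.Agent.S0786.glEquiv n F).toMonoidHom = isoGroup Q := by
  ext T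
  constructor
  · rintro ⟨g, hg, rfl⟩
    intro z
    change Q (Cfsg.Agent.S0786.glEquiv n F g z) = Q z
    rw [Cfsg.Agent.S0786.glEquiv_apply]
    exact (mem_isometryGroup_iff (⇑Q) g).mp hg z
  · intro hT
    refine ⟨(Cfsg.Agent.S0786.glEquiv n F).symm T, ?_, ?_⟩
    · rw [SetLike.mem_coe, mem_isometryGroup_iff]
      intro u
      rw [← Cfsg.Agent.S0786.glEquiv_apply, MulEquiv.apply_symm_apply]
      exact hT u
    · exact MulEquiv.apply_symm_apply _ T

/-- The index of the commutator subgroup is invariant under isomorphism. -/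
theorem commutator_index_congr {G H : Type*} [Group G] [Group H] (e : G ≃* H) :
    (commutator G).index = (commutator H).index := by
  rw [Subgroup.index_eq_card, Subgroup.index_eq_card]
  exact Nat.card_congr e.abelianizationCongr.toEquiv

/-- Ω has index 2 in O for q even: if F is finite of characteristic two, n ≥ 2, Q is a quadratic form on F^n with non-degenerate polar form, and (|F|, n) ≠ (2, 4), then the commutator subgroup of the isometry group of Q has index 2 in it. -/
theorem result {F : Type*} [Field F] [Fintype F] [CharP F 2] {n : ℕ} (hn : 2 ≤ n) (Q : QuadraticForm F (Fin n → F)) (hQ : (QuadraticMap.polarBilin Q).Nondegenerate) (h : Fintype.card F ≠ 2 ∨ n ≠ 4) : (Cfsg.Omega F ⇑Q).index = 2 := by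
  classical
  have hF : (∀ a b : F, ∃ x : F, x ≠ a ∧ x ≠ b) ∨ Module.finrank F (Fin n → F) ≠ 4 := by
    rcases h with h | h
    · left; exact Cfsg.Agent.S0786.exists_ne_ne h
    · right; rw [Module.finrank_fin_fun]; exact h
  have hsq : ∀ a : F, IsSquare a := FiniteField.isSquare_of_char_two (ringChar.eq F 2)
  have hne : ∃ v : Fin n → F, Q v ≠ 0 := by
    by_contra hcon
    push Not at hcon
    have h1 : (Pi.single (⟨0, by omega⟩ : Fin n) (1 : F) : Fin n → F) = 0 := by
      apply hQ.1
      intro w
      rw [polarBilin_app]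
      unfold QuadraticMap.polar
      rw [hcon, hcon, hcon]
      ring
    have h2 := congrFun h1 ⟨0, by omega⟩
    simp at h2
  have e : ↥(Cfsg.isometryGroup F ⇑Q) ≃* ↥(isoGroup Q) :=
    ((Cfsg.Agent.S0786.glEquiv n F).subgroupMap (Cfsg.isometryGroup F ⇑Q)).trans
      (MulEquiv.subgroupCongr (map_glEquiv_isometryGroup Q))
  change (commutator ↥(Cfsg.isometryGroup F ⇑Q)).index = 2
  rw [commutator_index_congr e]
  exact commutator_isoGroup_index Q hQ hF hsq hne

end Cfsg.Agent.S0789
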