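import Cfsg.Statements.S2170
import Cfsg.Agent.Lib.Helper36.OrthConj

set_option autoImplicit false
open Cfsg

namespace Cfsg.Agent.S2170

open Cfsg.Agent.Lib.Helper36 Matrix

section

variable (k : ℕ) (F : Type*) [Field F] (c d : F)

/-- The polar form of the minus form. -/
def minusB : LinearMap.BilinForm F ((Fin k ⊕ Fin k) ⊕ Fin 2 → F) :=
  LinearMap.mk₂ F (fun u v =>
      (∑ i : Fin k, (u (Sum.inl (Sum.inl i)) * v (Sum.inl (Sum.inr i)) +
        v (Sum.inl (Sum.inl i)) * u (Sum.inl (Sum.inr i)))) +
      (2 * u (Sum.inr 0) * v (Sum.inr 0) +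
        c * (u (Sum.inr 0) * v (Sum.inr 1) + u (Sum.inr 1) * v (Sum.inr 0)) +
        2 * d * u (Sum.inr 1) * v (Sum.inr 1)))
    (by
      intro u u' v
      have h : ∀ a b a' b' : F, (a + b) + (a' + b') = (a + a') + (b + b') := by intros; ring
      rw [h, ← Finset.sum_add_distrib]
      congr 1
      · apply Finset.sum_congr rfl
        intro i _
        simp only [Pi.add_apply]
        ring
      · simp only [Pi.add_apply]
        ring)
    (by
      intro a u v
      rw [smul_eq_mul, mul_add a, Finset.mul_sum]
      congr 1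
      · apply Finset.sum_congr rfl
        intro i _
        simp only [Pi.smul_apply, smul_eq_mul]
        ring
      · simp only [Pi.smul_apply, smul_eq_mul]
        ring)
    (by
      intro u v v'
      have h : ∀ a b a' b' : F, (a + b) + (a' + b') = (a + a') + (b + b') := by intros; ring
      rw [h, ← Finset.sum_add_distrib]
      congr 1
      · apply Finset.sum_congr rfl
        intro i _
        simp only [Pi.add_apply]
        ring
      · simp only [Pi.add_apply]
        ring)
    (by
      intro a u v
      rw [smul_eq_mul, mul_add a, Finset.mul_sum]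
      congr 1
      · apply Finset.sum_congr rfl
        intro i _
        simp only [Pi.smul_apply, smul_eq_mul]
        ring
      · simp only [Pi.smul_apply, smul_eq_mul]
        ring)

theorem minusB_apply (u v : (Fin k ⊕ Fin k) ⊕ Fin 2 → F) :
    minusB k F c d u v =
      (∑ i : Fin k, (u (Sum.inl (Sum.inl i)) * v (Sum.inl (Sum.inr i)) +
        v (Sum.inl (Sum.inl i)) * u (Sum.inl (Sum.inr i)))) +
      (2 * u (Sum.inr 0) * v (Sum.inr 0) +
        c * (u (Sum.inr 0) * v (Sum.inr 1) + u (Sum.inr 1) * v (Sum.inr 0)) +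
        2 * d * u (Sum.inr 1) * v (Sum.inr 1)) :=
  rfl

/-- The minus form as a quadratic form. -/
def minusQF : QuadraticForm F ((Fin k ⊕ Fin k) ⊕ Fin 2 → F) where
  toFun := Cfsg.quadFormMinus k F c d
  toFun_smul := by
    intro a x
    unfold Cfsg.quadFormMinus
    rw [smul_eq_mul, mul_add, Finset.mul_sum]
    congr 1
    · apply Finset.sum_congr rfl
      intro i _
      simp only [Pi.smul_apply, smul_eq_mul]
      ring
    · simp only [Pi.smul_apply, smul_eq_mul]
      ring
  exists_companion' := ⟨minusB k F c d, by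
    intro x y
    rw [minusB_apply]
    unfold Cfsg.quadFormMinus
    have h : ∀ a b a' b' a'' b'' : F, (a + b) + (a' + b') + (a'' + b'') = (a + a' + a'') + (b + b' + b'') := by
      intros; ring
    rw [h, ← Finset.sum_add_distrib, ← Finset.sum_add_distrib]
    congr 1
    · apply Finset.sum_congr rfl
      intro i _
      simp only [Pi.add_apply]
      ring
    · simp only [Pi.add_apply]
      ring⟩

theorem minusQF_polar (u v : (Fin k ⊕ Fin k) ⊕ Fin 2 → F) :
    QuadraticMap.polar (⇑(minusQF k F c d)) u v = minusB k F c d u v := by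
  obtain ⟨B, hB⟩ := (minusQF k F c d).exists_companion'
  have h1 : ∀ x y, (minusQF k F c d) (x + y) = (minusQF k F c d) x + (minusQF k F c d) y +
      minusB k F c d x y := by
    intro x y
    show Cfsg.quadFormMinus k F c d (x + y) = Cfsg.quadFormMinus k F c d x +
      Cfsg.quadFormMinus k F c d y + minusB k F c d x y
    rw [minusB_apply]
    unfold Cfsg.quadFormMinus
    have h : ∀ a b a' b' a'' b'' : F, (a + b) + (a' + b') + (a'' + b'') = (a + a' + a'') + (b + b' + b'') := by
      intros; ring
    rw [h, ← Finset.sum_add_distrib, ← Finset.sum_add_distrib]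
    congr 1
    · apply Finset.sum_congr rfl
      intro i _
      simp only [Pi.add_apply]
      ring
    · simp only [Pi.add_apply]
      ring
  unfold QuadraticMap.polar
  rw [h1]
  ring

theorem minusQF_nondeg [CharP F 2] (hc : c ≠ 0) :
    (QuadraticMap.polarBilin (minusQF k F c d)).Nondegenerate := by
  classical
  have h2 : (2 : F) = 0 := CharTwo.two_eq_zero
  have hleft : ∀ x : (Fin k ⊕ Fin k) ⊕ Fin 2 → F,
      (∀ y, QuadraticMap.polar (⇑(minusQF k F c d)) x y = 0) → x = 0 := by
    intro x hx
    funext j
    rcases j with (j | j) | j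
    · have h := hx (Pi.single (Sum.inl (Sum.inr j)) 1)
      rw [minusQF_polar, minusB_apply, Finset.sum_eq_single j] at h
      · simpa using h
      · intro i _ hij
        simp [hij]
      · intro h'
        exact absurd (Finset.mem_univ j) h'
    · have h := hx (Pi.single (Sum.inl (Sum.inl j)) 1)
      rw [minusQF_polar, minusB_apply, Finset.sum_eq_single j] at h
      · simpa using h
      · intro i _ hij
        simp [hij]
      · intro h'
        exact absurd (Finset.mem_univ j) h'
    · have h0 := hx (Pi.single (Sum.inr 0) 1)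
      have h1 := hx (Pi.single (Sum.inr 1) 1)
      rw [minusQF_polar, minusB_apply] at h0 h1
      simp [h2] at h0 h1
      fin_cases j
      · simpa [hc] using h1
      · simpa [hc] using h0
  constructor
  · intro x hx
    exact hleft x hx
  · intro y hy
    apply hleft y
    intro x
    rw [QuadraticMap.polar_comm]
    exact hy x

end

/-- Involutions in the full isometry group O of the quadratic form Σ x_i y_i + (z₁² + c z₁ z₂ + d z₂²) in dimension 2m with anisotropic binary part over a finite field F of characteristic two, m ≥ 4 (minus type): two elements of order 2 of O are conjugate in O exactly when they are conjugate under the group of all invertible matrices preserving the polar bilinear form (u, v) ↦ Q(u + v) − Q(u) − Q(v) (the symplectic group of that form). -/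
theorem result {F : Type*} [Field F] [Fintype F] [CharP F 2] {m : ℕ} (hm : 4 ≤ m) (c d : F) (hcd : ∀ z₁ z₂ : F, z₁ ^ 2 + c * z₁ * z₂ + d * z₂ ^ 2 = 0 → z₁ = 0 ∧ z₂ = 0) (t s : ↥(Cfsg.isometryGroup F (Cfsg.quadFormMinus (m - 1) F c d))) (ht : orderOf t = 2) (hs : orderOf s = 2) :
    IsConj t s ↔ ∃ g ∈ Cfsg.preserving (Units.coeHom (Matrix ((Fin (m - 1) ⊕ Fin (m - 1)) ⊕ Fin 2) ((Fin (m - 1) ⊕ Fin (m - 1)) ⊕ Fin 2) F)) (fun u v => Cfsg.quadFormMinus (m - 1) F c d (u + v) - Cfsg.quadFormMinus (m - 1) F c d u - Cfsg.quadFormMinus (m - 1) F c d v), g * ((t : ↥(Cfsg.isometryGroup F (Cfsg.quadFormMinus (m - 1) F c d))) : GL ((Fin (m - 1) ⊕ Fin (m - 1)) ⊕ Fin 2) F) * g⁻¹ = ((s : ↥(Cfsg.isometryGroup F (Cfsg.quadFormMinus (m - 1) F c d))) : GL ((Fin (m - 1) ⊕ Fin (m - 1)) ⊕ Fin 2) F) := by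
  have hc : c ≠ 0 := by
    intro h0
    obtain ⟨r, hr⟩ := FiniteField.isSquare_of_char_two (ringChar.eq F 2) d
    have h := hcd r 1
    rw [h0, hr] at h
    have h1 : r ^ 2 + 0 * r * 1 + r * r * 1 ^ 2 = 0 := by
      have : r ^ 2 + 0 * r * 1 + r * r * 1 ^ 2 = r * r + r * r := by ring
      rw [this]
      exact CharTwo.add_self_eq_zero _
    exact one_ne_zero (h h1).2
  exact orth_conj_iff (minusQF (m - 1) F c d) (minusQF_nondeg (m - 1) F c d hc) t s ht hs

end Cfsg.Agent.S2170
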