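import Cfsg.Statements.S2173
import Cfsg.Agent.S2170
import Cfsg.Agent.Lib.Helper36.OmegaConjMatrix

set_option autoImplicit false
open Cfsg

namespace Cfsg.Agent.S2173

open Cfsg.Agent.Lib.Helper36 Cfsg.Agent.S2170 Module

section

variable (k : ℕ) (F : Type*) [Field F] (c d : F)

/-- The standard totally singular subspace `⟨e₁, …, e_k⟩` of the minus form. -/
def stdE : Submodule F ((Fin k ⊕ Fin k) ⊕ Fin 2 → F) where
  carrier := {v | (∀ i, v (Sum.inl (Sum.inr i)) = 0) ∧ v (Sum.inr 0) = 0 ∧ v (Sum.inr 1) = 0}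
  add_mem' := by
    rintro a b ⟨ha1, ha2, ha3⟩ ⟨hb1, hb2, hb3⟩
    refine ⟨fun i => ?_, ?_, ?_⟩
    · rw [Pi.add_apply, ha1, hb1, add_zero]
    · rw [Pi.add_apply, ha2, hb2, add_zero]
    · rw [Pi.add_apply, ha3, hb3, add_zero]
  zero_mem' := ⟨fun _ => rfl, rfl, rfl⟩
  smul_mem' := by
    rintro a x ⟨h1, h2, h3⟩
    refine ⟨fun i => ?_, ?_, ?_⟩
    · rw [Pi.smul_apply, h1, smul_zero]
    · rw [Pi.smul_apply, h2, smul_zero]
    · rw [Pi.smul_apply, h3, smul_zero]

theorem mem_stdE (v : (Fin k ⊕ Fin k) ⊕ Fin 2 → F) :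
    v ∈ stdE k F ↔ (∀ i, v (Sum.inl (Sum.inr i)) = 0) ∧ v (Sum.inr 0) = 0 ∧ v (Sum.inr 1) = 0 :=
  Iff.rfl

theorem stdE_ts : IsTS (minusQF k F c d) (stdE k F) := by
  rintro v ⟨h1, h2, h3⟩
  change Cfsg.quadFormMinus k F c d v = 0
  unfold Cfsg.quadFormMinus
  rw [h2, h3]
  simp only [h1, mul_zero, Finset.sum_const_zero]
  ring

theorem stdE_max (hcd : ∀ z₁ z₂ : F, z₁ ^ 2 + c * z₁ * z₂ + d * z₂ ^ 2 = 0 → z₁ = 0 ∧ z₂ = 0)
    (W : Submodule F ((Fin k ⊕ Fin k) ⊕ Fin 2 → F)) (hW : IsTS (minusQF k F c d) W)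
    (hle : stdE k F ≤ W) : W = stdE k F := by
  classical
  apply le_antisymm _ hle
  intro w hw
  have h1 : ∀ i, w (Sum.inl (Sum.inr i)) = 0 := by
    intro i
    have hei : (Pi.single (Sum.inl (Sum.inl i)) 1 : (Fin k ⊕ Fin k) ⊕ Fin 2 → F) ∈ stdE k F := by
      refine ⟨fun j => ?_, ?_, ?_⟩ <;> simp
    have hp := hW.polar_eq_zero (hle hei) hw
    rw [minusQF_polar, minusB_apply, Finset.sum_eq_single i] at hp
    · simpa using hp
    · intro j _ hji
      simp [hji]
    · intro h'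
      exact absurd (Finset.mem_univ i) h'
  have hQ : Cfsg.quadFormMinus k F c d w = 0 := hW w hw
  unfold Cfsg.quadFormMinus at hQ
  simp only [h1, mul_zero, Finset.sum_const_zero, zero_add] at hQ
  obtain ⟨h2, h3⟩ := hcd _ _ hQ
  exact ⟨h1, h2, h3⟩

theorem finrank_stdE_le : finrank F (stdE k F) ≤ k := by
  set φ : ↥(stdE k F) →ₗ[F] (Fin k → F) :=
    (LinearMap.funLeft F F (fun i : Fin k => (Sum.inl (Sum.inl i) : (Fin k ⊕ Fin k) ⊕ Fin 2))).comp
      (stdE k F).subtype with hφ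
  have hinj : Function.Injective φ := by
    intro a b hab
    apply Subtype.ext
    funext j
    obtain ⟨a1, a2, a3⟩ := a.2
    obtain ⟨b1, b2, b3⟩ := b.2
    rcases j with (j | j) | j
    · exact congrFun hab j
    · rw [a1, b1]
    · fin_cases j
      · exact a2.trans b2.symm
      · exact a3.trans b3.symm
  have := LinearMap.finrank_le_finrank_of_injective hinj
  rwa [Module.finrank_fin_fun] at this

end

/-- For the quadratic form Σ x_i y_i + (z₁² + c z₁ z₂ + d z₂²) in dimension 2m with anisotropic binary part over a finite field F of characteristic two, m ≥ 4 (minus type): two involutions of the commutator subgroup Ω that are conjugate in the full isometry group O are conjugate by an element of Ω (no class of involutions of O inside Ω splits). -/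
theorem result {F : Type*} [Field F] [Fintype F] [CharP F 2] {m : ℕ} (hm : 4 ≤ m) (c d : F) (hcd : ∀ z₁ z₂ : F, z₁ ^ 2 + c * z₁ * z₂ + d * z₂ ^ 2 = 0 → z₁ = 0 ∧ z₂ = 0) (t s : ↥(Cfsg.isometryGroup F (Cfsg.quadFormMinus (m - 1) F c d))) (ht : orderOf t = 2) (hs : orderOf s = 2) (htO : t ∈ Cfsg.Omega F (Cfsg.quadFormMinus (m - 1) F c d)) (hsO : s ∈ Cfsg.Omega F (Cfsg.quadFormMinus (m - 1) F c d)) (hconj : IsConj t s) :
    ∃ g ∈ Cfsg.Omega F (Cfsg.quadFormMinus (m - 1) F c d), g * t * g⁻¹ = s := by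
  have hsq : ∀ a : F, IsSquare a := fun a => FiniteField.isSquare_of_char_two (ringChar.eq F 2) a
  have hc : c ≠ 0 := by
    intro h0
    obtain ⟨r, hr⟩ := hsq d
    have h := hcd r 1
    rw [h0, hr] at h
    have h1 : r ^ 2 + 0 * r * 1 + r * r * 1 ^ 2 = 0 := by
      have : r ^ 2 + 0 * r * 1 + r * r * 1 ^ 2 = r * r + r * r := by ring
      rw [this]
      exact CharTwo.add_self_eq_zero _
    exact one_ne_zero (h h1).2
  have hcardeq : Fintype.card ((Fin (m - 1) ⊕ Fin (m - 1)) ⊕ Fin 2) = 2 * m := by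
    rw [Fintype.card_sum, Fintype.card_sum, Fintype.card_fin, Fintype.card_fin]
    omega
  have hcard : Fintype.card ((Fin (m - 1) ⊕ Fin (m - 1)) ⊕ Fin 2) ≠ 4 := by
    rw [hcardeq]
    omega
  have hnd := minusQF_nondeg (m - 1) F c d hc
  have htt : t * t = 1 := by
    have := pow_orderOf_eq_one t
    rwa [ht, pow_two] at this
  have hfix := card_le_two_mul_fixSp (Cfsg.quadFormMinus (m - 1) F c d) t htt
  rw [hcardeq] at hfix
  apply exists_Omega_conj_of_not_ts (minusQF (m - 1) F c d) hnd (Or.inr hcard) hsq t s hconj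
  intro hts
  have h1 := finrank_le_of_maximal_ts (minusQF (m - 1) F c d) hnd (stdE (m - 1) F)
    (stdE_ts (m - 1) F c d) (stdE_max (m - 1) F c d hcd) _ hts
  have h2 := finrank_stdE_le (m - 1) F
  omega

end Cfsg.Agent.S2173
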