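import Cfsg.Statements.S2696
import Cfsg.Agent.Lib.Helper36.AutO.Regimes
import Cfsg.Agent.Lib.Helper44.MinusQF
import Cfsg.Agent.Lib.Helper44.POmegaOrder
import Cfsg.Agent.S2173
-- import your own Cfsg.Agent.* helpers here

set_option autoImplicit false
open Cfsg

namespace Cfsg.Agent.S2696

/-- For m ≥ 3 and a finite field F, the automorphism group of the minus-type group PΩ⁻_{2m+2}(F) (the form Σ xᵢ yᵢ + z₁² + a z₁ z₂ + b z₂² with anisotropic binary part) is generated by the automorphisms induced by the semisimilarities v ↦ g σ(v) of the form, that is, pairs with Q(g σ(v)) = c σ(Q(v)) (the image of the projective semisimilarity group). -/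
theorem result {F : Type*} [Field F] [Fintype F] {m : ℕ} (hm : 3 ≤ m) (a b : F) (hab : ∀ z₁ z₂ : F, z₁ ^ 2 + a * z₁ * z₂ + b * z₂ ^ 2 = 0 → z₁ = 0 ∧ z₂ = 0) :
    Cfsg.gammaPOmega F (Cfsg.quadFormMinus m F a b) = ⊤ := by
  have hcard : Fintype.card ((Fin m ⊕ Fin m) ⊕ Fin 2) = 2 * m + 2 := by
    rw [Fintype.card_sum, Fintype.card_sum, Fintype.card_fin, Fintype.card_fin]; ring
  have hfr : Module.finrank F ((Fin m ⊕ Fin m) ⊕ Fin 2 → F) = 2 * m + 2 := by
    rw [Module.finrank_fintype_fun_eq_card, hcard]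
  have hnd := Cfsg.Agent.Lib.Helper44.minusQF_nondeg_of_aniso m a b hab
  rw [← Cfsg.Agent.Lib.Helper44.minusQF_coe]
  by_cases hm4 : 4 ≤ m
  · exact Cfsg.Agent.Lib.Helper36.AutO.gammaPOmega_eq_top (Cfsg.Agent.Lib.Helper44.minusQF m F a b)
      hnd (by rw [hcard]; omega) _
      (Cfsg.Agent.Lib.Helper36.AutO.regime_of_nine (by rw [hfr]; omega))
  · have hm3 : m ≤ 3 := by omega
    refine Cfsg.Agent.Lib.Helper36.AutO.gammaPOmega_eq_top (Cfsg.Agent.Lib.Helper44.minusQF m F a b)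
      hnd (by rw [hcard]; omega) 0
      (Cfsg.Agent.Lib.Helper36.AutO.regime_zero_of_ts_le (fun S hS => ?_))
    have heq : Cfsg.Agent.S2170.minusQF m F a b = Cfsg.Agent.Lib.Helper44.minusQF m F a b := by
      apply DFunLike.coe_injective
      rw [Cfsg.Agent.Lib.Helper44.minusQF_coe]
      rfl
    rw [← heq] at hnd hS
    have h1 := Cfsg.Agent.Lib.Helper36.finrank_le_of_maximal_ts (Cfsg.Agent.S2170.minusQF m F a b)
      hnd (Cfsg.Agent.S2173.stdE m F) (Cfsg.Agent.S2173.stdE_ts m F a b)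
      (Cfsg.Agent.S2173.stdE_max m F a b hab) S hS
    have h2 := Cfsg.Agent.S2173.finrank_stdE_le m F
    omega

end Cfsg.Agent.S2696
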