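import Cfsg.Statements.S0655

set_option autoImplicit false
open Cfsg

namespace Cfsg.Agent.S0655

/-- The closure of a set of pairwise commuting elements is commutative. -/
theorem closure_comm_of_comm {S : Type*} [Group S] (T : Set S)
    (hcomm : ∀ y ∈ T, ∀ z ∈ T, y * z = z * y) :
    ∀ y ∈ Subgroup.closure T, ∀ z ∈ Subgroup.closure T, y * z = z * y := by
  have h1 : ∀ y ∈ Subgroup.closure T, ∀ z ∈ T, y * z = z * y := by
    intro y hy
    refine Subgroup.closure_induction (p := fun y _ => ∀ z ∈ T, y * z = z * y)
      ?_ ?_ ?_ ?_ hy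
    · intro y hy z hz; exact hcomm y hy z hz
    · intro z _; simp
    · intro y1 y2 _ _ h1 h2 z hz
      rw [mul_assoc, h2 z hz, ← mul_assoc, h1 z hz, mul_assoc]
    · intro y _ h z hz
      have := h z hz
      calc y⁻¹ * z = y⁻¹ * (z * y) * y⁻¹ := by group
        _ = y⁻¹ * (y * z) * y⁻¹ := by rw [this]
        _ = z * y⁻¹ := by group
  intro y hy z hz
  revert y
  refine Subgroup.closure_induction (p := fun z _ => ∀ y ∈ Subgroup.closure T, y * z = z * y)
    ?_ ?_ ?_ ?_ hz
  · intro z hz y hy; exact h1 y hy z hz
  · intro y _; simp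
  · intro z1 z2 _ _ h1' h2' y hy
    rw [← mul_assoc, h1' y hy, mul_assoc, h2' y hy, ← mul_assoc]
  · intro z _ h y hy
    have := h y hy
    calc y * z⁻¹ = z⁻¹ * (z * y) * z⁻¹ := by group
      _ = z⁻¹ * (y * z) * z⁻¹ := by rw [this]
      _ = z⁻¹ * y := by group

/-- In the closure of pairwise commuting elements killed by `p`, every element is killed by `p`. -/
theorem closure_pow_eq_one {S : Type*} [Group S] (p : ℕ) (T : Set S)
    (hcomm : ∀ y ∈ T, ∀ z ∈ T, y * z = z * y) (hp : ∀ y ∈ T, y ^ p = 1) :
    ∀ y ∈ Subgroup.closure T, y ^ p = 1 := by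
  have hc := closure_comm_of_comm T hcomm
  intro y hy
  refine Subgroup.closure_induction (p := fun y _ => y ^ p = 1) ?_ ?_ ?_ ?_ hy
  · intro y hy; exact hp y hy
  · simp
  · intro y1 y2 hy1 hy2 h1 h2
    have : Commute y1 y2 := hc y1 hy1 y2 hy2
    rw [this.mul_pow, h1, h2, one_mul]
  · intro y _ h
    rw [inv_pow, h, inv_one]

/-- An element of order dividing `p` centralizing a largest elementary abelian subgroup lies in it. -/
theorem mem_of_centralizes {S : Type*} [Group S] [Finite S] (p : ℕ) (A : Subgroup S)
    (hA : A ∈ maxElementaryAbelianSubgroups p S) (x : S)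
    (hx : x ∈ Subgroup.centralizer (A : Set S)) (hxp : x ^ p = 1) : x ∈ A := by
  classical
  obtain ⟨⟨hAc, hAp⟩, hAmax⟩ := hA
  let T : Set S := (A : Set S) ∪ {x}
  let B : Subgroup S := Subgroup.closure T
  have hAB : A ≤ B := fun a ha => Subgroup.subset_closure (Or.inl ha)
  have hxB : x ∈ B := Subgroup.subset_closure (Or.inr rfl)
  have hcomm : ∀ y ∈ T, ∀ z ∈ T, y * z = z * y := by
    intro y hy z hz
    rcases hy with hy | hy <;> rcases hz with hz | hz
    · have := hAc.is_comm.comm (⟨y, hy⟩ : A) ⟨z, hz⟩
      exact congrArg Subtype.val this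
    · rw [Set.mem_singleton_iff] at hz; subst hz
      exact (hx y hy)
    · rw [Set.mem_singleton_iff] at hy; subst hy
      exact (hx z hz).symm
    · rw [Set.mem_singleton_iff] at hy hz; subst hy; subst hz; rfl
  have hpT : ∀ y ∈ T, y ^ p = 1 := by
    intro y hy
    rcases hy with hy | hy
    · exact hAp y hy
    · rw [Set.mem_singleton_iff] at hy; subst hy; exact hxp
  have hB : IsElementaryAbelian p B := by
    refine ⟨⟨⟨?_⟩⟩, closure_pow_eq_one p T hcomm hpT⟩
    intro a b
    apply Subtype.ext
    exact closure_comm_of_comm T hcomm a.1 a.2 b.1 b.2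
  have hcard : Nat.card B ≤ Nat.card A := hAmax B hB
  have hle : Nat.card A ≤ Nat.card B := Subgroup.card_le_of_le hAB
  have : A = B := Subgroup.eq_of_le_of_card_ge hAB hcard
  rw [this]; exact hxB

/-- There is an elementary abelian subgroup of largest order. -/
theorem maxElementaryAbelianSubgroups_nonempty {S : Type*} [Group S] [Finite S] (p : ℕ) :
    (maxElementaryAbelianSubgroups p S).Nonempty := by
  classical
  have hfin : (Set.univ : Set (Subgroup S)).Finite := Set.finite_univ
  let E : Set (Subgroup S) := {A | IsElementaryAbelian p A}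
  have hEfin : E.Finite := Set.toFinite E
  have hEne : E.Nonempty := by
    refine ⟨⊥, ⟨⟨⟨?_⟩⟩, ?_⟩⟩
    · intro a b
      apply Subtype.ext
      have ha := a.2; have hb := b.2
      rw [Subgroup.mem_bot] at ha hb
      simp [ha, hb]
    · intro a ha
      rw [Subgroup.mem_bot] at ha
      simp [ha]
  obtain ⟨A, hAE, hAmax⟩ := Set.exists_max_image E (fun A => Nat.card A) hEfin hEne
  exact ⟨A, hAE, fun B hB => hAmax B hB⟩

/-- In a p-group the intersection of all elementary abelian subgroups of largest order is the subgroup generated by the elements of order dividing p in the centre (equivalently the centralizer) of the elementary-version Thompson subgroup. -/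
theorem result {S : Type*} [Group S] [Finite S] {p : ℕ} [Fact p.Prime] (hS : IsPGroup p S) : sInf (Cfsg.maxElementaryAbelianSubgroups p S) = Cfsg.omegaCenterThompson p S ∧ Cfsg.omegaCenterThompson p S = Cfsg.omegaOne p (Subgroup.centralizer (Cfsg.thompsonSubgroup p S : Set S)) := by
  have h1 : sInf (maxElementaryAbelianSubgroups p S) ≤ omegaCenterThompson p S := by
    intro x hx
    rw [Subgroup.mem_sInf] at hx
    apply Subgroup.subset_closure
    obtain ⟨A₀, hA₀⟩ := maxElementaryAbelianSubgroups_nonempty (S := S) p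
    refine ⟨⟨?_, ?_⟩, ?_⟩
    · exact (le_sSup hA₀ : A₀ ≤ thompsonSubgroup p S) (hx A₀ hA₀)
    · have hle : thompsonSubgroup p S ≤ Subgroup.centralizer ({x} : Set S) := by
        apply sSup_le
        intro A hA a ha
        rw [Subgroup.mem_centralizer_iff]
        intro y hy
        rw [Set.mem_singleton_iff] at hy; subst hy
        have := hA.1.1.is_comm.comm (⟨y, hx A hA⟩ : A) ⟨a, ha⟩
        exact congrArg Subtype.val this
      show x ∈ Subgroup.centralizer ((thompsonSubgroup p S : Subgroup S) : Set S)
      rw [Subgroup.mem_centralizer_iff]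
      intro y hy
      have := hle hy
      rw [Subgroup.mem_centralizer_iff] at this
      exact (this x rfl).symm
    · exact hA₀.1.2 x (hx A₀ hA₀)
  have h2 : omegaCenterThompson p S ≤
      omegaOne p (Subgroup.centralizer (thompsonSubgroup p S : Set S)) := by
    apply Subgroup.closure_mono
    intro x hx
    exact ⟨hx.1.2, hx.2⟩
  have h3 : omegaOne p (Subgroup.centralizer (thompsonSubgroup p S : Set S)) ≤
      sInf (maxElementaryAbelianSubgroups p S) := by
    rw [omegaOne, Subgroup.closure_le]
    intro x hx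
    rw [SetLike.mem_coe, Subgroup.mem_sInf]
    intro A hA
    apply mem_of_centralizes p A hA x _ hx.2
    exact Subgroup.centralizer_le (show (A : Set S) ⊆ ((thompsonSubgroup p S : Subgroup S) : Set S) from
      fun a ha => (le_sSup hA : A ≤ thompsonSubgroup p S) ha) hx.1
  exact ⟨le_antisymm h1 (h2.trans h3), le_antisymm h2 (h3.trans h1)⟩

end Cfsg.Agent.S0655
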