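import Cfsg.Statements.S0941
import Cfsg.Agent.Lib.Helper82.BlockInflation

set_option autoImplicit false
open Cfsg

namespace Cfsg.Agent.S0941

set_option linter.style.haveILetI false

open Cfsg.Agent.Lib.Helper16 Cfsg.Agent.Lib.Helper78 Cfsg.Agent.Lib.Helper82


/-- `p`-regular elements of a quotient lift to `p`-regular elements. -/
theorem exists_pRegular_lift {G : Type*} [Group G] [Finite G] (p : ℕ) [hp : Fact p.Prime]
    (N : Subgroup G) [N.Normal] (y : G ⧸ N) (hy : ¬ p ∣ orderOf y) :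
    ∃ x : G, ¬ p ∣ orderOf x ∧ (x : G ⧸ N) = y := by
  obtain ⟨g, rfl⟩ := QuotientGroup.mk_surjective y
  have hn0 : orderOf g ≠ 0 := (orderOf_pos g).ne'
  set n := orderOf g with hn
  set a := n.factorization p with ha
  set q := p ^ a with hq
  set m := n / q with hm
  have hqm : q * m = n := Nat.ordProj_mul_ordCompl_eq_self n p
  have hpm : ¬ p ∣ m := Nat.not_dvd_ordCompl hp.out hn0
  -- the order of the image is coprime to q
  set nb := orderOf (g : G ⧸ N) with hnb
  have hcop : Nat.Coprime q nb := by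
    apply Nat.Coprime.pow_left
    exact (Nat.Prime.coprime_iff_not_dvd hp.out).mpr hy
  -- Bezout
  have hbez := Nat.gcd_eq_gcd_ab q nb
  rw [hcop] at hbez
  refine ⟨(g ^ q) ^ (Nat.gcdA q nb), ?_, ?_⟩
  · -- order divides m
    have h1 : ((g ^ q) ^ (Nat.gcdA q nb)) ^ m = 1 := by
      rw [← zpow_natCast, ← zpow_mul, mul_comm, zpow_mul, zpow_natCast, ← pow_mul, hqm, hn,
        pow_orderOf_eq_one, one_zpow]
    intro hdiv
    exact hpm (hdiv.trans (orderOf_dvd_of_pow_eq_one h1))
  · have h2 : ((g : G ⧸ N)) ^ ((q : ℤ) * Nat.gcdA q nb + (nb : ℤ) * Nat.gcdB q nb) = (g : G ⧸ N) := by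
      rw [← hbez]; simp
    have hpow : (g : G ⧸ N) ^ nb = 1 := pow_orderOf_eq_one _
    rw [zpow_add, zpow_mul, zpow_mul, zpow_natCast, zpow_natCast, hpow,
      one_zpow, mul_one] at h2
    rw [QuotientGroup.mk_zpow, QuotientGroup.mk_pow]
    exact h2

/-- A `p`-regular element centralizes a normal subgroup whose centralizer has `p`-power index. -/
theorem mem_centralizer_of_pRegular {G : Type*} [Group G] [Finite G] (p : ℕ) [hp : Fact p.Prime]
    (P : Subgroup G) [P.Normal] (hC : ∃ k : ℕ, (Subgroup.centralizer (P : Set G)).index = p ^ k)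
    (x : G) (hx : ¬ p ∣ orderOf x) : x ∈ Subgroup.centralizer (P : Set G) := by
  obtain ⟨k, hk⟩ := hC
  set C := Subgroup.centralizer (P : Set G) with hCdef
  have hcard : Nat.card (G ⧸ C) = p ^ k := by rw [← Subgroup.index_eq_card]; exact hk
  have h1 : orderOf (x : G ⧸ C) ∣ p ^ k := by
    rw [← hcard]; exact orderOf_dvd_natCard _
  have h2 : orderOf (x : G ⧸ C) ∣ orderOf x := by
    have := orderOf_map_dvd (QuotientGroup.mk' C) x
    simpa using this
  have hcop : Nat.Coprime (p ^ k) (orderOf x) :=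
    Nat.Coprime.pow_left _ ((Nat.Prime.coprime_iff_not_dvd hp.out).mpr hx)
  have h3 : orderOf (x : G ⧸ C) = 1 := Nat.eq_one_of_dvd_coprimes hcop h1 h2
  rw [orderOf_eq_one_iff, QuotientGroup.eq_one_iff] at h3
  exact h3

/-- For a `p`-regular `x` centralizing the normal `p`-subgroup `P`, the preimage of the
centralizer of the image of `x` in `G ⧸ P` is the centralizer of `x`. -/
theorem comap_centralizer_le {G : Type*} [Group G] [Finite G] (p : ℕ) [hp : Fact p.Prime]
    (P : Subgroup G) [P.Normal] (hP : IsPGroup p P) (x : G) (hx : ¬ p ∣ orderOf x)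
    (hxP : x ∈ Subgroup.centralizer (P : Set G)) :
    (Subgroup.centralizer ({(x : G ⧸ P)} : Set (G ⧸ P))).comap (QuotientGroup.mk' P) ≤
      Subgroup.centralizer ({x} : Set G) := by
  intro g hg
  rw [Subgroup.mem_comap, Subgroup.mem_centralizer_singleton_iff] at hg
  rw [Subgroup.mem_centralizer_singleton_iff]
  -- n = g x g⁻¹ x⁻¹ ∈ P
  set n := g * x * g⁻¹ * x⁻¹ with hn
  have hnP : n ∈ P := by
    rw [← QuotientGroup.eq_one_iff]
    have h1 : ((g * x * g⁻¹ * x⁻¹ : G) : G ⧸ P) =
        (QuotientGroup.mk' P g) * (x : G ⧸ P) * (QuotientGroup.mk' P g)⁻¹ * (x : G ⧸ P)⁻¹ := by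
      simp
    rw [hn, h1, hg]
    group
  have hcomm : Commute n x := by
    exact hxP n hnP
  set m := orderOf x with hm
  have hy : g * x * g⁻¹ = n * x := by rw [hn]; group
  have hym : (g * x * g⁻¹) ^ m = 1 := by
    rw [conj_pow, hm, pow_orderOf_eq_one]; group
  rw [hy, hcomm.mul_pow, hm, pow_orderOf_eq_one, mul_one] at hym
  -- n is a p-element with n^m = 1, p ∤ m
  obtain ⟨j, hj⟩ := hP ⟨n, hnP⟩
  have hj' : n ^ (p ^ j) = 1 := by
    have := congrArg Subtype.val hj
    simpa using this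
  have h1 : orderOf n ∣ p ^ j := orderOf_dvd_of_pow_eq_one hj'
  have h2 : orderOf n ∣ orderOf x := orderOf_dvd_of_pow_eq_one hym
  have hcop : Nat.Coprime (p ^ j) (orderOf x) :=
    Nat.Coprime.pow_left _ ((Nat.Prime.coprime_iff_not_dvd hp.out).mpr hx)
  have h3 : orderOf n = 1 := Nat.eq_one_of_dvd_coprimes hcop h1 h2
  rw [orderOf_eq_one_iff] at h3
  have : g * x * g⁻¹ = x := by rw [hy, h3, one_mul]
  calc g * x = (g * x * g⁻¹) * g := by group
    _ = x * g := by rw [this]


/-- Let P be a normal p-subgroup of the finite group G such that the index of C_G(P) is a power of p, and fix a maximal ideal M of the algebraic integers containing p. Then (i) two irreducible characters of G ⧸ P lie in the same block if and only if their inflations to G do, and (ii) every block of G contains the inflation of some irreducible character of G ⧸ P; so inflation induces a bijection between the blocks of G ⧸ P and the blocks of G. -/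
theorem result {G : Type*} [Group G] [Finite G] (p : ℕ) [Fact p.Prime] (M : Ideal Cfsg.AlgInt) (hM : Cfsg.IsPModular p M) (P : Subgroup G) [P.Normal] (hP : IsPGroup p P) (hC : ∃ k : ℕ, (Subgroup.centralizer (P : Set G)).index = p ^ k) : (∀ χ ψ : Cfsg.IrrCharacter (G ⧸ P), Cfsg.SameBlock M (χ : G ⧸ P → ℂ) (ψ : G ⧸ P → ℂ) ↔ Cfsg.SameBlock M ((χ : G ⧸ P → ℂ) ∘ QuotientGroup.mk) ((ψ : G ⧸ P → ℂ) ∘ QuotientGroup.mk)) ∧ ∀ B : Set (Cfsg.IrrCharacter G), Cfsg.IsPBlock M B → ∃ χ : Cfsg.IrrCharacter (G ⧸ P), ∃ θ ∈ B, (θ : G → ℂ) = (χ : G ⧸ P → ℂ) ∘ QuotientGroup.mk := by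
  classical
  haveI : Fintype G := Fintype.ofFinite G
  haveI : Fintype (G ⧸ P) := Fintype.ofFinite _
  haveI : Fintype P := Fintype.ofFinite _
  haveI := isPModular_isPrime hM
  have hMtop : M ≠ ⊤ := (isPModular_isPrime hM).ne_top
  refine ⟨fun χ ψ => ⟨fun h => sameBlock_comp_mk P hMtop h, fun h => ?_⟩, fun B hB => ?_⟩
  · rw [sameBlock_iff_pRegular hM χ ψ]
    intro y hy
    obtain ⟨x, hx, rfl⟩ := exists_pRegular_lift p P y hy
    have hxP := mem_centralizer_of_pRegular p P hC x hx
    have hle := comap_centralizer_le p P hP x hx hxP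
    have hrel : (Subgroup.centralizer ({x} : Set G)).relIndex
        ((Subgroup.centralizer ({(x : G ⧸ P)} : Set (G ⧸ P))).comap (QuotientGroup.mk' P)) = 1 :=
      Subgroup.relIndex_eq_one.mpr hle
    have h1 := h x
    rw [centralChar_comp_mk, centralChar_comp_mk, hrel, Nat.cast_one, one_mul, one_mul] at h1
    exact h1
  · obtain ⟨θ, hθB, hθ⟩ := exists_mem_block_forall_mem_eq P hM hP hB
    refine ⟨Cfsg.Agent.Lib.Helper77.deflate P θ hθ, θ, hθB, ?_⟩
    funext g
    exact (Cfsg.Agent.Lib.Helper77.deflate_mk P θ hθ g).symm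

end Cfsg.Agent.S0941
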