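import Cfsg.Statements.S0157
import Cfsg.Agent.Lib.Helper3.PermChar
import Cfsg.Agent.Lib.Helper3.IrrBasis
import Cfsg.Agent.Lib.Helper78.CharMore

set_option autoImplicit false
open Cfsg

namespace Cfsg.Agent.S0157

open scoped ComplexConjugate
open MulAction

section aux
variable {G : Type*} [Group G] [Fintype G]

theorem classInner_sub_right' (ψ f₁ f₂ : G → ℂ) :
    Cfsg.classInner ψ (f₁ - f₂) = Cfsg.classInner ψ f₁ - Cfsg.classInner ψ f₂ := by
  rw [Cfsg.Agent.Lib.Helper3.classInner_conj_symm, Cfsg.Agent.Lib.Helper3.classInner_sub_left,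
    map_sub, ← Cfsg.Agent.Lib.Helper3.classInner_conj_symm,
    ← Cfsg.Agent.Lib.Helper3.classInner_conj_symm]

theorem classInner_one_one : Cfsg.classInner (fun _ : G => (1 : ℂ)) (fun _ : G => (1 : ℂ)) = 1 := by
  unfold Cfsg.classInner
  simp only [map_one, mul_one, Finset.sum_const, Finset.card_univ, nsmul_eq_mul]
  rw [Nat.card_eq_fintype_card]
  have : (Fintype.card G : ℂ) ≠ 0 := by exact_mod_cast Fintype.card_ne_zero
  field_simp

/-- Norm of `π - 1` for a transitive action. -/
theorem classInner_perm_sub_one {X : Type*} [MulAction G X] [Finite X] [IsPretransitive G X]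
    [Nonempty X] :
    Cfsg.classInner ((fun g : G => (Nat.card (fixedBy X g) : ℂ)) - fun _ => 1)
      ((fun g : G => (Nat.card (fixedBy X g) : ℂ)) - fun _ => 1) =
      (Nat.card (orbitRel.Quotient G (X × X)) : ℂ) - 1 := by
  have horb : Nat.card (orbitRel.Quotient G X) = 1 := by
    have hsub : Subsingleton (orbitRel.Quotient G X) := by
      constructor
      intro a b
      obtain ⟨x, rfl⟩ := Quotient.mk''_surjective a
      obtain ⟨y, rfl⟩ := Quotient.mk''_surjective b
      apply Quotient.sound'
      obtain ⟨g, hg⟩ := exists_smul_eq G y x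
      exact ⟨g, hg⟩
    have hne : Nonempty (orbitRel.Quotient G X) := ⟨Quotient.mk'' (Classical.arbitrary X)⟩
    exact Nat.card_unique
  have h1 := Cfsg.Agent.Lib.Helper3.classInner_card_fixedBy_one (G := G) (X := X)
  rw [horb, Nat.cast_one] at h1
  have h2 := Cfsg.Agent.Lib.Helper3.classInner_card_fixedBy_self (G := G) (X := X)
  have h3 : Cfsg.classInner (fun _ : G => (1 : ℂ)) (fun g : G => (Nat.card (fixedBy X g) : ℂ)) = 1 := by
    rw [Cfsg.Agent.Lib.Helper3.classInner_conj_symm, h1, map_one]
  rw [Cfsg.Agent.Lib.Helper3.classInner_sub_left, classInner_sub_right', classInner_sub_right',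
    h1, h2, h3, classInner_one_one]
  ring

end aux


/-- For a transitive action of a finite group on a finite set with at least two points: the action is 2-transitive if and only if the function sending g to (number of fixed points of g) − 1 is an irreducible character. -/
theorem result {G : Type*} [Group G] [Finite G] (X : Type*) [MulAction G X] [Finite X] [MulAction.IsPretransitive G X] (hX : 2 ≤ Nat.card X) : Cfsg.IsIrrCharacter G (fun g => (Nat.card (MulAction.fixedBy X g) : ℂ) - 1) ↔ MulAction.IsMultiplyPretransitive G X 2 := by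
  classical
  cases nonempty_fintype G
  have hne : Nonempty X := by
    rw [← Finite.card_pos_iff]; omega
  have hfun : (fun g : G => (Nat.card (MulAction.fixedBy X g) : ℂ) - 1) =
      (fun g : G => (Nat.card (fixedBy X g) : ℂ)) - fun _ => 1 := rfl
  rw [hfun, Cfsg.Agent.Lib.Helper3.is_two_pretransitive_iff_card_orbits hX]
  have hnorm := classInner_perm_sub_one (G := G) (X := X)
  constructor
  · intro hirr
    have h1 := Cfsg.Agent.Lib.Helper3.classInner_irrCharacter hirr hirr
    rw [if_pos rfl, hnorm] at h1
    have h2 : (Nat.card (orbitRel.Quotient G (X × X)) : ℂ) = 2 := by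
      linear_combination h1
    exact_mod_cast h2
  · intro hcard
    rw [hcard] at hnorm
    have hnorm1 : Cfsg.classInner ((fun g : G => (Nat.card (fixedBy X g) : ℂ)) - fun _ => 1)
      ((fun g : G => (Nat.card (fixedBy X g) : ℂ)) - fun _ => 1) = 1 := by
      rw [hnorm]; norm_num
    apply Cfsg.Agent.Lib.Helper78.isIrrCharacter_of_classInner_self_eq_one _ hnorm1
    -- `π - 1` is a character
    have hπ : Cfsg.IsCharacter G (fun g : G => (Nat.card (fixedBy X g) : ℂ)) :=
      Cfsg.Agent.Lib.Helper3.isCharacter_card_fixedBy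
    obtain ⟨m, hm⟩ := (Cfsg.Agent.Lib.Helper78.isCharacter_iff_exists_nat_combination _).mp hπ
    let triv : Cfsg.IrrCharacter G := ⟨fun _ => 1, Cfsg.Agent.Lib.Helper78.isIrrCharacter_one⟩
    have hmt : m triv = 1 := by
      have h1 := Cfsg.Agent.Lib.Helper3.classInner_card_fixedBy_one (G := G) (X := X)
      have horb : Nat.card (orbitRel.Quotient G X) = 1 := by
        have hsub : Subsingleton (orbitRel.Quotient G X) := by
          constructor
          intro a b
          obtain ⟨x, rfl⟩ := Quotient.mk''_surjective a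
          obtain ⟨y, rfl⟩ := Quotient.mk''_surjective b
          apply Quotient.sound'
          obtain ⟨g, hg⟩ := exists_smul_eq G y x
          exact ⟨g, hg⟩
        have hne' : Nonempty (orbitRel.Quotient G X) := ⟨Quotient.mk'' (Classical.arbitrary X)⟩
        exact Nat.card_unique
      rw [horb, Nat.cast_one, hm] at h1
      have h2 := Cfsg.Agent.Lib.Helper78.classInner_nat_combination (fun φ => (m φ : ℂ)) triv
      rw [h2] at h1
      exact_mod_cast h1
    rw [Cfsg.Agent.Lib.Helper78.isCharacter_iff_exists_nat_combination]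
    refine ⟨Function.update m triv 0, ?_⟩
    rw [hm, ← Finset.add_sum_erase Finset.univ _ (Finset.mem_univ triv),
      ← Finset.add_sum_erase Finset.univ (fun ψ : Cfsg.IrrCharacter G =>
        ((Function.update m triv 0 ψ : ℕ) : ℂ) • (ψ : G → ℂ)) (Finset.mem_univ triv)]
    simp only [Function.update_self, hmt, Nat.cast_one, one_smul, Nat.cast_zero, zero_smul, zero_add]
    have : (triv : G → ℂ) = fun _ => 1 := rfl
    rw [this, add_sub_cancel_left]
    refine Finset.sum_congr rfl fun ψ hψ => ?_
    rw [Function.update_of_ne (Finset.ne_of_mem_erase hψ)]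

end Cfsg.Agent.S0157
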