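import Mathlib
import Cfsg.Statements.S0184
import Cfsg.Agent.Lib.Helper76.Central
import Cfsg.Agent.Lib.Helper79.ClassCount
import Cfsg.Agent.Lib.Helper77.Deflation
import Cfsg.Agent.Lib.Helper78.CharMore
import Cfsg.Agent.Lib.Helper78.CharOrtho

set_option autoImplicit false
open Cfsg

namespace Cfsg.Agent.S0184

open Cfsg.Agent.Lib

/-- a nontrivial normal subgroup of a finite `p`-group contains a nontrivial central element -/
theorem normal_inf_center_ne_bot {P : Type*} [Group P] [Finite P] {p : ℕ} [Fact p.Prime]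
    (hP : IsPGroup p P) (N : Subgroup P) [N.Normal] (hN : N ≠ ⊥) :
    ∃ w ∈ N, w ≠ 1 ∧ ∀ g : P, g * w = w * g := by
  have hfix := (hP.of_equiv ConjAct.toConjAct).exists_fixed_point_of_prime_dvd_card_of_fixed_point N
  have hNp : IsPGroup p N := hP.to_subgroup N
  have hnt : Nontrivial N := (Subgroup.nontrivial_iff_ne_bot N).mpr hN
  have dvd : p ∣ Nat.card N := by
    obtain ⟨n, hn0, hn⟩ := hNp.nontrivial_iff_card.mp hnt
    exact hn.symm ▸ dvd_pow_self _ (ne_of_gt hn0)
  have h1 : (1 : N) ∈ MulAction.fixedPoints (ConjAct P) N := by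
    intro g
    exact smul_one g
  obtain ⟨b, hb, hb1⟩ := hfix dvd h1
  refine ⟨b, b.2, fun h => hb1 (Subtype.ext h.symm), fun g => ?_⟩
  have := hb (ConjAct.toConjAct g)
  have h2 : g * (b : P) * g⁻¹ = b := congrArg Subtype.val this
  calc g * b = (g * b * g⁻¹) * g := by group
    _ = b * g := by rw [h2]

/-- in a finite cyclic group, every solution of `x ^ p = 1` is a power of a given element of
order `p`. -/
theorem cyclic_mem_zpowers {C : Type*} [Group C] [Finite C] [IsCyclic C] {p : ℕ} (hp : 0 < p)
    (a b : C) (ha : orderOf a = p) (hb : b ^ p = 1) : b ∈ Subgroup.zpowers a := by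
  classical
  haveI := Fintype.ofFinite C
  have hS := IsCyclic.card_pow_eq_one_le (α := C) hp
  set S := Finset.univ.filter (fun x : C => x ^ p = 1) with hSdef
  set T := (Finset.range p).image (fun k => a ^ k) with hTdef
  have hTS : T ⊆ S := by
    intro x hx
    rw [hTdef, Finset.mem_image] at hx
    obtain ⟨k, -, rfl⟩ := hx
    rw [hSdef, Finset.mem_filter]
    refine ⟨Finset.mem_univ _, ?_⟩
    rw [← pow_mul, mul_comm, pow_mul, ← ha, pow_orderOf_eq_one, one_pow]
  have hTc : T.card = p := by
    rw [hTdef, Finset.card_image_of_injOn, Finset.card_range]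
    intro i hi j hj hij
    simp only [Finset.coe_range, Set.mem_Iio] at hi hj
    exact pow_injOn_Iio_orderOf (by rw [Set.mem_Iio, ha]; exact hi)
      (by rw [Set.mem_Iio, ha]; exact hj) hij
  have hTeq : T = S := Finset.eq_of_subset_of_card_le hTS (by rw [hTc]; exact hS)
  have hbS : b ∈ S := by rw [hSdef, Finset.mem_filter]; exact ⟨Finset.mem_univ _, hb⟩
  rw [← hTeq, hTdef, Finset.mem_image] at hbS
  obtain ⟨k, -, rfl⟩ := hbS
  exact Subgroup.pow_mem _ (Subgroup.mem_zpowers a) k

theorem forward {G : Type*} [Group G] [Finite G] (n : ℕ) (ρ : Representation ℂ G (Fin n → ℂ))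
    (hirr : ρ.IsIrreducible) (hinj : Function.Injective ρ) : IsCyclic (Subgroup.center G) := by
  haveI := hirr
  have hn : (Module.finrank ℂ (Fin n → ℂ) : ℂ) ≠ 0 := by
    exact_mod_cast Helper76.finrank_ne_zero_of_irr ρ
  let f : Subgroup.center G →* ℂ :=
    { toFun := fun z => ρ.character (z : G) / (Module.finrank ℂ (Fin n → ℂ) : ℂ)
      map_one' := by
        simp only [Subgroup.coe_one, Representation.char_one]
        exact div_self hn
      map_mul' := by
        intro z w
        simp only [Subgroup.coe_mul]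
        rw [Helper76.character_central_mul ρ z z.2 w]
        ring }
  apply isCyclic_of_subgroup_isDomain f
  intro z w hzw
  apply Subtype.ext
  apply hinj
  rw [Helper76.rho_central_eq_smul ρ z z.2, Helper76.rho_central_eq_smul ρ w w.2]
  have : ρ.character (z : G) / (Module.finrank ℂ (Fin n → ℂ) : ℂ) =
      ρ.character (w : G) / (Module.finrank ℂ (Fin n → ℂ) : ℂ) := hzw
  rw [this]

theorem backward {G : Type*} [Group G] [Finite G] (p : ℕ) [hp : Fact p.Prime] (hG : IsPGroup p G)
    (hc : IsCyclic (Subgroup.center G)) :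
    ∃ (n : ℕ) (ρ : Representation ℂ G (Fin n → ℂ)), ρ.IsIrreducible ∧ Function.Injective ρ := by
  classical
  rcases subsingleton_or_nontrivial G with hs | hnt
  · obtain ⟨n, ρ, hirr, -⟩ := Helper78.isIrrCharacter_one (G := G)
    exact ⟨n, ρ, hirr, fun a b _ => Subsingleton.elim a b⟩
  · have hcn : Nontrivial (Subgroup.center G) := hG.center_nontrivial
    have hdvd : p ∣ Nat.card (Subgroup.center G) := by
      obtain ⟨n, hn0, hn⟩ := (hG.to_subgroup (Subgroup.center G)).nontrivial_iff_card.mp hcn
      exact hn.symm ▸ dvd_pow_self _ (ne_of_gt hn0)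
    obtain ⟨a, ha⟩ := exists_prime_orderOf_dvd_card' p hdvd
    have ha' : orderOf (a : G) = p := by rw [Subgroup.orderOf_coe]; exact ha
    have ha1 : (a : G) ≠ 1 := by
      intro h
      rw [h, orderOf_one] at ha'
      exact hp.out.one_lt.ne ha'
    -- every nontrivial normal subgroup contains `a`
    have key : ∀ N : Subgroup G, N.Normal → N ≠ ⊥ → (a : G) ∈ N := by
      intro N hN hNbot
      obtain ⟨w, hwN, hw1, hwc⟩ := normal_inf_center_ne_bot hG N hNbot
      obtain ⟨k, hk⟩ := (IsPGroup.iff_orderOf.mp hG) w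
      have hk0 : k ≠ 0 := by
        intro h
        rw [h, pow_zero, orderOf_eq_one_iff] at hk
        exact hw1 hk
      have hpd : p ∣ orderOf w := by rw [hk]; exact dvd_pow_self _ hk0
      have how : orderOf w ≠ 0 := by rw [hk]; exact pow_ne_zero _ hp.out.ne_zero
      set w' := w ^ (orderOf w / p) with hw'
      have hw'o : orderOf w' = p := orderOf_pow_orderOf_div how hpd
      have hw'N : w' ∈ N := Subgroup.pow_mem _ hwN _
      have hwcen : w ∈ Subgroup.center G := by
        rw [Subgroup.mem_center_iff]; exact hwc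
      have hw'c : w' ∈ Subgroup.center G := Subgroup.pow_mem _ hwcen _
      have hmem : (⟨w', hw'c⟩ : Subgroup.center G) ∈ Subgroup.zpowers a := by
        apply cyclic_mem_zpowers hp.out.pos a _ ha
        apply Subtype.ext
        simp only [Subgroup.coe_pow, Subgroup.coe_one]
        rw [← hw'o, pow_orderOf_eq_one]
      have hmem' : w' ∈ Subgroup.zpowers (a : G) := by
        obtain ⟨m, hm⟩ := Subgroup.mem_zpowers_iff.mp hmem
        refine Subgroup.mem_zpowers_iff.mpr ⟨m, ?_⟩
        have := congrArg Subtype.val hm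
        simpa using this
      have hle : Subgroup.zpowers w' ≤ Subgroup.zpowers (a : G) :=
        Subgroup.zpowers_le.mpr hmem'
      have heq : Subgroup.zpowers w' = Subgroup.zpowers (a : G) := by
        apply Subgroup.eq_of_le_of_card_ge hle
        rw [Nat.card_zpowers, Nat.card_zpowers, hw'o, ha']
      have : (a : G) ∈ Subgroup.zpowers w' := by rw [heq]; exact Subgroup.mem_zpowers _
      exact (Subgroup.zpowers_le.mpr hw'N) this
    -- find an irreducible character with `χ a ≠ χ 1`
    haveI : Fintype G := Fintype.ofFinite G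
    haveI : Fintype (Cfsg.IrrCharacter G) := Fintype.ofFinite _
    have h1 := Helper79.delta_eq_sum_irr (G := G) (a : G)
    have h2 := Helper79.delta_eq_sum_irr (G := G) (1 : G)
    rw [if_neg ha1] at h1
    rw [if_pos rfl] at h2
    have hcard : (Nat.card G : ℂ) ≠ 0 := by
      have : 0 < Nat.card G := Nat.card_pos
      exact_mod_cast this.ne'
    have hex : ∃ χ : Cfsg.IrrCharacter G, (χ : G → ℂ) (a : G) ≠ (χ : G → ℂ) 1 := by
      by_contra hcon
      push_neg at hcon
      apply hcard
      rw [← h2, ← h1]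
      apply Finset.sum_congr rfl
      intro χ _
      rw [hcon χ]
    obtain ⟨χ, hχ⟩ := hex
    obtain ⟨n, ρ, hirr, hρ⟩ := χ.2
    refine ⟨n, ρ, hirr, ?_⟩
    rw [← MonoidHom.ker_eq_bot_iff]
    by_contra hker
    have := key (MonoidHom.ker ρ) (MonoidHom.normal_ker ρ) hker
    rw [Helper77.mem_ker_iff_character_eq, hρ] at this
    exact hχ this

/-- A finite p-group admits a faithful irreducible complex representation if and only if its centre is cyclic. -/
theorem result {G : Type*} [Group G] [Finite G] (p : ℕ) [Fact p.Prime] (hG : IsPGroup p G) : (∃ (n : ℕ) (ρ : Representation ℂ G (Fin n → ℂ)), ρ.IsIrreducible ∧ Function.Injective ρ) ↔ IsCyclic (Subgroup.center G) := by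
  constructor
  · rintro ⟨n, ρ, hirr, hinj⟩
    exact forward n ρ hirr hinj
  · intro hc
    exact backward p hG hc

end Cfsg.Agent.S0184
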