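import Mathlib
import Cfsg.Statements.S0143
import Cfsg.Agent.Lib.Helper78.CharMore
import Cfsg.Agent.Lib.Helper79.Integrality
import Cfsg.Agent.S0138
-- import your own Cfsg.Agent.* helpers here

set_option autoImplicit false
open Cfsg
open scoped ComplexConjugate

namespace Cfsg.Agent.S0143


/-- In a non-commutative simple group, a representation in which some non-identity
element acts as a scalar is trivial. -/
lemma rep_trivial_of_scalar {G : Type*} [Group G] [IsSimpleGroup G]
    (hnc : ¬ ∀ a b : G, a * b = b * a)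
    {V : Type*} [AddCommGroup V] [Module ℂ V] (ρ : Representation ℂ G V)
    (g : G) (hg : g ≠ 1) (hs : ∃ ω : ℂ, ρ g = ω • (LinearMap.id : V →ₗ[ℂ] V)) :
    ∀ x : G, ρ x = LinearMap.id := by
  rcases (MonoidHom.normal_ker ρ).eq_bot_or_eq_top with hK | hK
  · exfalso
    have hinj : Function.Injective ρ := (MonoidHom.ker_eq_bot_iff ρ).mp hK
    obtain ⟨ω, hω⟩ := hs
    have hgc : g ∈ Subgroup.center G := by
      rw [Subgroup.mem_center_iff]
      intro x
      apply hinj
      rw [map_mul, map_mul, hω]
      ext v; simp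
    have hc : Subgroup.center G = ⊤ := by
      rcases (inferInstance : (Subgroup.center G).Normal).eq_bot_or_eq_top with h | h
      · rw [h, Subgroup.mem_bot] at hgc; exact absurd hgc hg
      · exact h
    apply hnc
    intro a b
    have : a ∈ Subgroup.center G := by rw [hc]; exact Subgroup.mem_top a
    exact ((Subgroup.mem_center_iff.mp this) b).symm
  · intro x
    have : x ∈ MonoidHom.ker ρ := by rw [hK]; exact Subgroup.mem_top x
    exact (MonoidHom.mem_ker).mp this

/-- If a finite simple group has a non-identity element whose conjugacy class has prime-power size, then the group has prime order. -/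
theorem result {G : Type*} [Group G] [Finite G] [IsSimpleGroup G] (p k : ℕ) (hp : p.Prime) (g : G) (hg : g ≠ 1) (hclass : (Subgroup.centralizer ({g} : Set G)).index = p ^ k) : (Nat.card G).Prime := by
  classical
  by_cases hcomm : ∀ a b : G, a * b = b * a
  · let _ : CommGroup G := { (inferInstance : Group G) with mul_comm := hcomm }
    exact IsSimpleGroup.prime_card
  exfalso
  have := Fintype.ofFinite G
  -- principal character
  let χ₀ : IrrCharacter G := ⟨fun _ => 1, Cfsg.Agent.Lib.Helper78.isIrrCharacter_one⟩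
  -- for every non-principal χ: χ g = 0 or p ∣ degree
  have key : ∀ χ : IrrCharacter G, χ ≠ χ₀ → (χ : G → ℂ) g = 0 ∨ p ∣ Cfsg.charDegree (χ : G → ℂ) := by
    intro χ hχ
    by_cases hdvd : p ∣ Cfsg.charDegree (χ : G → ℂ)
    · exact Or.inr hdvd
    left
    have hcop : Nat.Coprime (Cfsg.charDegree (χ : G → ℂ)) (Subgroup.centralizer ({g} : Set G)).index := by
      rw [hclass]
      exact Nat.Coprime.pow_right k ((Nat.Prime.coprime_iff_not_dvd hp).mpr hdvd).symm
    rcases Cfsg.Agent.Lib.Helper79.irr_burnside_coprime χ g hcop with h0 | hnorm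
    · exact h0
    exfalso
    obtain ⟨n, ρ, hirr, hρ⟩ := χ.2
    have hdeg : Cfsg.charDegree (χ : G → ℂ) = n := by
      rw [← hρ]; exact Cfsg.Agent.Lib.Helper79.charDegree_of_rep ρ
    have hnorm' : ‖ρ.character g‖ = (Module.finrank ℂ (Fin n → ℂ) : ℝ) := by
      rw [hρ, hnorm, hdeg]; simp
    have hscal := (Cfsg.Agent.S0138.result ρ g).mp hnorm'
    have htriv := rep_trivial_of_scalar hcomm ρ g hg hscal
    -- then χ is constant n, and norm one forces n = 1
    have hconst : ∀ x, (χ : G → ℂ) x = (n : ℂ) := by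
      intro x
      rw [← hρ]
      show LinearMap.trace ℂ _ (ρ x) = _
      rw [htriv x]
      simp
    have hself := Cfsg.Agent.Lib.Helper78.classInner_irr_self χ.2
    unfold Cfsg.classInner at hself
    simp only [hconst] at hself
    have hcard : (Nat.card G : ℂ) ≠ 0 := by
      have : Nat.card G ≠ 0 := Nat.card_pos.ne'
      exact_mod_cast this
    have hn2 : (n : ℂ) * (n : ℂ) = 1 := by
      simp only [Finset.sum_const, Finset.card_univ, nsmul_eq_mul, map_natCast] at hself
      rw [← Nat.card_eq_fintype_card, ← mul_assoc, inv_mul_cancel₀ hcard, one_mul] at hself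
      exact hself
    have hn1 : n = 1 := by
      have : n * n = 1 := by exact_mod_cast hn2
      exact Nat.eq_one_of_mul_eq_one_left this
    apply hχ
    apply Subtype.ext
    funext x
    rw [hconst x, hn1]
    simp [χ₀]
  -- second orthogonality between g and 1
  have hnconj : ¬ IsConj g 1 := by
    intro h
    exact hg (isConj_one_left.mp h)
  have horth := Cfsg.Agent.Lib.Helper78.second_orthogonality_of_not_isConj hnconj
  -- rewrite conj (χ 1) = degree
  have h1 : ∀ χ : IrrCharacter G, conj ((χ : G → ℂ) 1) = (Cfsg.charDegree (χ : G → ℂ) : ℂ) := by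
    intro χ
    rw [Cfsg.Agent.Lib.Helper79.irr_apply_one_eq_charDegree χ]
    simp
  simp only [h1] at horth
  -- define the integral part
  let a : IrrCharacter G → ℂ := fun χ =>
    if p ∣ Cfsg.charDegree (χ : G → ℂ) then
      ((Cfsg.charDegree (χ : G → ℂ) / p : ℕ) : ℂ) * (χ : G → ℂ) g else 0
  have ha : ∀ χ : IrrCharacter G, χ ≠ χ₀ →
      (χ : G → ℂ) g * (Cfsg.charDegree (χ : G → ℂ) : ℂ) = (p : ℂ) * a χ := by
    intro χ hχ
    rcases key χ hχ with h0 | hd
    · simp only [a]
      rw [h0]; split_ifs <;> simp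
    · simp only [a]
      rw [if_pos hd]
      obtain ⟨m, hm⟩ := hd
      rw [hm, Nat.mul_div_cancel_left m hp.pos]
      push_cast; ring
  have haint : ∀ χ : IrrCharacter G, IsIntegral ℤ (a χ) := by
    intro χ
    simp only [a]
    split_ifs
    · have hnat : IsIntegral ℤ (((Cfsg.charDegree (χ : G → ℂ) / p : ℕ) : ℂ)) := by
        generalize Cfsg.charDegree (χ : G → ℂ) / p = m
        have := isIntegral_algebraMap (R := ℤ) (A := ℂ) (x := (m : ℤ))
        simpa using this
      exact IsIntegral.mul hnat (Cfsg.Agent.Lib.Helper79.isIntegral_irr χ g)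
    · exact isIntegral_zero
  rw [← Finset.add_sum_erase Finset.univ _ (Finset.mem_univ χ₀)] at horth
  have hχ₀ : (χ₀ : G → ℂ) g * (Cfsg.charDegree (χ₀ : G → ℂ) : ℂ) = 1 := by
    have : Cfsg.charDegree (χ₀ : G → ℂ) = 1 := by
      simp [χ₀, Cfsg.charDegree]
    rw [this]; simp [χ₀]
  rw [hχ₀] at horth
  have hsum : ∑ χ ∈ Finset.univ.erase χ₀, (χ : G → ℂ) g * (Cfsg.charDegree (χ : G → ℂ) : ℂ) =
      (p : ℂ) * ∑ χ ∈ Finset.univ.erase χ₀, a χ := by
    rw [Finset.mul_sum]
    apply Finset.sum_congr rfl
    intro χ hχ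
    exact ha χ (Finset.ne_of_mem_erase hχ)
  rw [hsum] at horth
  have hS : IsIntegral ℤ (∑ χ ∈ Finset.univ.erase χ₀, a χ) :=
    IsIntegral.sum _ (fun χ _ => haint χ)
  have hpc : (p : ℂ) ≠ 0 := by exact_mod_cast hp.ne_zero
  have hval : ((1 : ℕ) : ℂ) / (p : ℂ) = - ∑ χ ∈ Finset.univ.erase χ₀, a χ := by
    field_simp
    push_cast
    linear_combination horth
  have : IsIntegral ℤ (((1 : ℕ) : ℂ) / (p : ℂ)) := by
    rw [hval]; exact hS.neg
  have := Cfsg.Agent.Lib.Helper79.dvd_of_isIntegral_div hp.ne_zero this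
  exact hp.one_lt.ne' (Nat.dvd_one.mp this)


end Cfsg.Agent.S0143
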