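import Mathlib
import Cfsg.Statements.S0144
import Cfsg.Agent.S0143
-- import your own Cfsg.Agent.* helpers here

set_option autoImplicit false
open Cfsg

namespace Cfsg.Agent.S0144


lemma pgroup_solvable {G : Type*} [Group G] [Finite G] {p n : ℕ} (hp : p.Prime)
    (h : Nat.card G = p ^ n) : Group.IsSolvable G := by
  have : Fact p.Prime := ⟨hp⟩
  have hP : IsPGroup p G := IsPGroup.of_card h
  have := hP.isNilpotent
  infer_instance

lemma dvd_form {p q a b d : ℕ} (hp : p.Prime) (hq : q.Prime) (h : d ∣ p ^ a * q ^ b) :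
    ∃ a' b', d = p ^ a' * q ^ b' := by
  obtain ⟨k1, k2, h1, h2, rfl⟩ := (Nat.dvd_mul).mp h
  obtain ⟨a', _, rfl⟩ := (Nat.dvd_prime_pow hp).mp h1
  obtain ⟨b', _, rfl⟩ := (Nat.dvd_prime_pow hq).mp h2
  exact ⟨a', b', rfl⟩

lemma simple_case {G : Type*} [Group G] [Finite G] [IsSimpleGroup G] (p q a b : ℕ) (hp : p.Prime)
    (hq : q.Prime) (hcard : Nat.card G = p ^ a * q ^ b) : Group.IsSolvable G := by
  by_cases hpq : p = q
  · subst hpq
    rw [← pow_add] at hcard
    exact pgroup_solvable hp hcard
  rcases Nat.eq_zero_or_pos b with rfl | hb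
  · rw [pow_zero, mul_one] at hcard
    exact pgroup_solvable hp hcard
  have : Fact q.Prime := ⟨hq⟩
  have hqdvd : q ∣ Nat.card G := by
    rw [hcard]; exact Dvd.dvd.mul_left (dvd_pow_self q hb.ne') _
  obtain ⟨Q⟩ : Nonempty (Sylow q G) := inferInstance
  have hQne : (Q : Subgroup G) ≠ ⊥ := Q.ne_bot_of_dvd_card hqdvd
  have : Nontrivial (Q : Subgroup G) := (Subgroup.nontrivial_iff_ne_bot _).mpr hQne
  have hQp : IsPGroup q (Q : Subgroup G) := Q.isPGroup'
  have := hQp.center_nontrivial
  obtain ⟨⟨z, hz⟩, hz1⟩ := exists_ne (1 : Subgroup.center (Q : Subgroup G))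
  set g : G := (z : G) with hgdef
  have hg : g ≠ 1 := by
    intro h
    apply hz1
    apply Subtype.ext
    apply Subtype.ext
    exact h
  have hQle : (Q : Subgroup G) ≤ Subgroup.centralizer ({g} : Set G) := by
    intro x hx
    rw [Subgroup.mem_centralizer_iff]
    intro y hy
    rw [Set.mem_singleton_iff] at hy
    subst hy
    have := (Subgroup.mem_center_iff.mp hz) ⟨x, hx⟩
    have := congrArg Subtype.val this
    simpa using this.symm
  have hidx : (Subgroup.centralizer ({g} : Set G)).index ∣ (Q : Subgroup G).index :=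
    Subgroup.index_dvd_of_le hQle
  have hnq : ¬ q ∣ (Subgroup.centralizer ({g} : Set G)).index := by
    intro h
    exact Q.not_dvd_index (h.trans hidx)
  have hdvd : (Subgroup.centralizer ({g} : Set G)).index ∣ p ^ a * q ^ b := by
    rw [← hcard]; exact Subgroup.index_dvd_card _
  obtain ⟨a', b', hab⟩ := dvd_form hp hq hdvd
  have hb' : b' = 0 := by
    by_contra hne
    apply hnq
    rw [hab]
    exact Dvd.dvd.mul_left (dvd_pow_self q hne) _
  rw [hb', pow_zero, mul_one] at hab
  have hprime := Cfsg.Agent.S0143.result p a' hp g hg hab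
  exact pgroup_solvable hprime (pow_one _).symm

universe u

lemma key (p q : ℕ) (hp : p.Prime) (hq : q.Prime) : ∀ n : ℕ, ∀ (H : Type u) [Group H] [Finite H], Nat.card H = n →
      (∃ a b, n = p ^ a * q ^ b) → Group.IsSolvable H := by
    intro n
    induction n using Nat.strong_induction_on with
    | _ n ih =>
    intro H _ _ hn hform
    by_cases hsimp : IsSimpleGroup H
    · obtain ⟨a, b, hab⟩ := hform
      exact simple_case p q a b hp hq (hn.trans hab)
    by_cases htriv : Subsingleton H
    · exact Group.isSolvable_of_comm (fun a b => Subsingleton.elim _ _)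
    -- there is a proper nontrivial normal subgroup
    have hex : ∃ N : Subgroup H, N.Normal ∧ N ≠ ⊥ ∧ N ≠ ⊤ := by
      by_contra hno
      push Not at hno
      apply hsimp
      have : Nontrivial H := not_subsingleton_iff_nontrivial.mp htriv
      exact ⟨fun N hN => by
        by_cases h : N = ⊥
        · exact Or.inl h
        · exact Or.inr (hno N hN h)⟩
    obtain ⟨N, hNn, hNbot, hNtop⟩ := hex
    have hmul : Nat.card H = Nat.card (H ⧸ N) * Nat.card N :=
      Subgroup.card_eq_card_quotient_mul_card_subgroup N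
    have hNpos : 0 < Nat.card N := Nat.card_pos
    have hQpos : 0 < Nat.card (H ⧸ N) := Nat.card_pos
    have hN1 : Nat.card N ≠ 1 := by
      intro h; exact hNbot (Subgroup.card_eq_one.mp h)
    have hQ1 : Nat.card (H ⧸ N) ≠ 1 := by
      intro h
      apply hNtop
      rw [← Subgroup.index_eq_one, Subgroup.index_eq_card]; exact h
    obtain ⟨a, b, hab⟩ := hform
    have hNlt : Nat.card N < n := by
      rw [← hn, hmul]
      have : 2 ≤ Nat.card (H ⧸ N) := by omega
      nlinarith
    have hQlt : Nat.card (H ⧸ N) < n := by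
      rw [← hn, hmul]
      have : 2 ≤ Nat.card N := by omega
      nlinarith
    have hNdvd : Nat.card N ∣ p ^ a * q ^ b := by
      rw [← hab, ← hn, hmul]; exact Dvd.intro_left _ rfl
    have hQdvd : Nat.card (H ⧸ N) ∣ p ^ a * q ^ b := by
      rw [← hab, ← hn, hmul]; exact Dvd.intro _ rfl
    have : Group.IsSolvable N := ih _ hNlt N rfl (dvd_form hp hq hNdvd)
    have : Group.IsSolvable (H ⧸ N) := ih _ hQlt (H ⧸ N) rfl (dvd_form hp hq hQdvd)
    exact Group.isSolvable_of_ker_le_range N.subtype (QuotientGroup.mk' N) (by simp)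

/-- The Burnside two-prime Theorem: a finite group of order p ^ a * q ^ b, for primes p and q, is solvable. -/
theorem result {G : Type*} [Group G] [Finite G] (p q a b : ℕ) (hp : p.Prime) (hq : q.Prime) (hcard : Nat.card G = p ^ a * q ^ b) : Group.IsSolvable G := by
  exact key p q hp hq _ G hcard ⟨a, b, rfl⟩


end Cfsg.Agent.S0144
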