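import Cfsg.Statements.S4430
import Cfsg.Agent.S0148
import Cfsg.Agent.Lib.Helper16.Induced
import Cfsg.Agent.Lib.Helper16.DefectClass
import Cfsg.Agent.Lib.Helper78.BlockSums
import Cfsg.Agent.Lib.Helper78.DefectOrder
import Cfsg.Agent.Lib.Helper75.Clifford
import Cfsg.Agent.Lib.Helper79.Integrality

set_option autoImplicit false
open Cfsg

namespace Cfsg.Agent.S4430

open Cfsg.Agent.Lib.Helper16 Cfsg.Agent.Lib.Helper78 MonoidAlgebra
open scoped ComplexConjugate

/-- A quotient of naturals whose denominator has at most the `p`-adic valuation of the numerator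
is a local integer. -/
theorem memLocalRing_natCast_div_of_factorization_le {p : ℕ} {M : Ideal AlgInt}
    (hM : IsPModular p M) {N D : ℕ} (hD : D ≠ 0) (h : D.factorization p ≤ N.factorization p) :
    MemLocalRing M ((N : ℂ) / (D : ℂ)) := by
  have hMp := isPModular_isPrime hM
  have hp := isPModular_prime hM
  rcases lt_or_eq_of_le h with hlt | heq
  · exact memLocalRing_of_memLocalIdeal (memLocalIdeal_natCast_div_of_factorization_lt hM hD hlt)
  · have hNd := Nat.ordProj_mul_ordCompl_eq_self N p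
    have hDd := Nat.ordProj_mul_ordCompl_eq_self D p
    have hD' := Nat.not_dvd_ordCompl hp hD
    rw [← heq] at hNd
    set k := D.factorization p
    set N' := N / p ^ k
    set D' := D / p ^ k
    have hpc : (p : ℂ) ≠ 0 := by exact_mod_cast hp.ne_zero
    have hD'c : (D' : ℂ) ≠ 0 := by
      have : D' ≠ 0 := fun h0 => hD' (h0 ▸ dvd_zero p)
      exact_mod_cast this
    have h1 : ((p ^ k * D' : ℕ) : ℂ) = (D : ℂ) := by
      exact_mod_cast congrArg (Nat.cast (R := ℂ)) hDd
    have h2 : ((p ^ k * N' : ℕ) : ℂ) = (N : ℂ) := by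
      exact_mod_cast congrArg (Nat.cast (R := ℂ)) hNd
    push_cast at h1 h2
    have key : (N : ℂ) / (D : ℂ) = (N' : ℂ) * ((D' : ℂ))⁻¹ := by
      rw [← h1, ← h2]
      have hpk : (p : ℂ) ^ k ≠ 0 := pow_ne_zero _ hpc
      field_simp
    rw [key]
    exact memLocalRing_mul (memLocalRing_natCast hMp.ne_top N') (memLocalRing_inv_natCast hM hD')

/-- Let H be a subgroup of the finite group G, b a block of H whose induced block B₀ in G is defined (relative to a maximal ideal M of the algebraic integers containing p), and ξ ∈ b. For a block B of G let n_B be the value at 1 of the B-part of the induced character ξ^G (a natural number: the sum over χ ∈ B of the multiplicity of χ in ξ^G times χ(1)). Then for B = B₀ the exact power of p dividing n_B equals the exact power of p dividing ξ^G(1), while for every other block B either n_B = 0 or n_B is divisible by a strictly higher power of p than ξ^G(1). -/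
theorem result {G : Type*} [Group G] [Fintype G] (p : ℕ) [Fact p.Prime] (M : Ideal Cfsg.AlgInt) (hM : Cfsg.IsPModular p M) (H : Subgroup G) [Fintype H] (b : Set (Cfsg.IrrCharacter H)) (B₀ : Set (Cfsg.IrrCharacter G)) (hind : Cfsg.IsInducedBlock M H b B₀) (ξ : Cfsg.IrrCharacter H) (hξ : ξ ∈ b) : (∃ n : ℕ, Cfsg.blockPart B₀ (Cfsg.indFun H (ξ : H → ℂ)) 1 = (n : ℂ) ∧ n ≠ 0 ∧ n.factorization p = (Cfsg.charDegree (Cfsg.indFun H (ξ : H → ℂ))).factorization p) ∧ ∀ B : Set (Cfsg.IrrCharacter G), Cfsg.IsPBlock M B → B ≠ B₀ → ∃ n : ℕ, Cfsg.blockPart B (Cfsg.indFun H (ξ : H → ℂ)) 1 = (n : ℂ) ∧ (n = 0 ∨ (Cfsg.charDegree (Cfsg.indFun H (ξ : H → ℂ))).factorization p < n.factorization p) := by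
  classical
  have hMp : M.IsPrime := isPModular_isPrime hM
  have hp : p.Prime := Fact.out
  have hB₀ := hind.2.1
  set Θ := indFun H (ξ : H → ℂ) with hΘdef
  have hΘ : IsCharacter G Θ :=
    Cfsg.Agent.S0148.result H _ (IsIrrCharacter.isCharacter ξ.2)
  set d := charDegree Θ with hd
  have hΘ1 : Θ 1 = (d : ℂ) := IsCharacter.apply_one_eq_charDegree hΘ
  have hΘ1' : Θ 1 = (H.index : ℂ) * (ξ : H → ℂ) 1 := Cfsg.Agent.Lib.Helper75.indFun_one H _
  have hξ1 : (ξ : H → ℂ) 1 ≠ 0 := Cfsg.Agent.Lib.Helper79.irr_apply_one_ne_zero ξ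
  have hidx : (H.index : ℂ) ≠ 0 := by
    have : H.index ≠ 0 := Subgroup.index_ne_zero_of_finite
    exact_mod_cast this
  have hd0 : d ≠ 0 := by
    intro h0
    rw [h0, Nat.cast_zero, hΘ1'] at hΘ1
    exact (mul_ne_zero hidx hξ1) hΘ1
  choose m hm using fun χ : IrrCharacter G => IsCharacter.exists_nat_classInner hΘ χ
  -- the block part at `1` as a finite sum
  have hbp : ∀ B : Set (IrrCharacter G), blockPart B Θ 1 =
      ∑ χ ∈ Finset.univ.filter (fun χ : IrrCharacter G => χ ∈ B),
        (m χ : ℂ) * (χ : G → ℂ) 1 := by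
    intro B
    have h1 : blockPart B Θ 1 = ∑ᶠ χ ∈ B, classInner Θ (χ : G → ℂ) * (χ : G → ℂ) 1 := by
      unfold blockPart
      congr! 
    rw [h1, finsum_mem_eq_sum_of_subset (t := Finset.univ.filter (fun χ : IrrCharacter G => χ ∈ B))
      _ (by intro x hx; simpa using hx.1) (by intro x hx; simpa using hx)]
    refine Finset.sum_congr rfl fun χ _ => ?_
    rw [hm χ]
  have hnat : ∀ B : Set (IrrCharacter G), blockPart B Θ 1 =
      ((∑ χ ∈ Finset.univ.filter (fun χ : IrrCharacter G => χ ∈ B),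
        m χ * charDegree (χ : G → ℂ) : ℕ) : ℂ) := by
    intro B
    rw [hbp B]
    push_cast
    refine Finset.sum_congr rfl fun χ _ => ?_
    rw [Cfsg.Agent.Lib.Helper79.irr_apply_one_eq_charDegree]
  -- the key identity
  have hkey : ∀ χB : IrrCharacter G, blockPart (blockOf M (χB : G → ℂ)) Θ 1 =
      Θ 1 * omega (ξ : H → ℂ) (resAlg H ((blockIdem M χB : Subalgebra.center ℂ (MonoidAlgebra ℂ G)) :
        MonoidAlgebra ℂ G)) := by
    intro χB
    set B := blockOf M (χB : G → ℂ) with hB
    have h1 := sum_blockCoeff_mul_indFun H B (ξ : H → ℂ)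
    have h2 : ∑ g : G, blockCoeff B g * Θ g = blockPart B Θ 1 := by
      rw [hbp B]
      have hΘsum := IsCharacter.eq_sum_irr hΘ
      have h3 : ∀ g : G, Θ g = ∑ ψ : IrrCharacter G, (m ψ : ℂ) * (ψ : G → ℂ) g := by
        intro g
        conv_lhs => rw [hΘsum]
        rw [Finset.sum_apply]
        refine Finset.sum_congr rfl fun ψ _ => ?_
        rw [Pi.smul_apply, smul_eq_mul, hm ψ]
      simp only [h3, Finset.mul_sum]
      rw [Finset.sum_comm]
      have h4 : ∀ ψ : IrrCharacter G, ∑ g : G, blockCoeff B g * ((m ψ : ℂ) * (ψ : G → ℂ) g) =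
          if ψ ∈ B then (m ψ : ℂ) * (ψ : G → ℂ) 1 else 0 := by
        intro ψ
        have := Cfsg.Agent.Lib.Helper16.sum_blockCoeff_mul B ψ
        have e : ∑ g : G, blockCoeff B g * ((m ψ : ℂ) * (ψ : G → ℂ) g) =
            (m ψ : ℂ) * ∑ g : G, blockCoeff B g * (ψ : G → ℂ) g := by
          rw [Finset.mul_sum]
          refine Finset.sum_congr rfl fun g _ => ?_
          ring
        rw [e, this]
        split_ifs <;> simp
      rw [Finset.sum_congr rfl (fun ψ _ => h4 ψ), Finset.sum_filter]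
    rw [← h2, h1, hΘ1']
    unfold omega
    have hcard : (Nat.card G : ℂ) / (Nat.card H : ℂ) = (H.index : ℂ) := by
      have hH : (Nat.card H : ℂ) ≠ 0 := by exact_mod_cast Nat.card_pos.ne'
      rw [div_eq_iff hH]
      exact_mod_cast (Subgroup.index_mul_card H).symm
    rw [hcard]
    have h5 : ∑ h : H, (resAlg H ((blockIdem M χB : Subalgebra.center ℂ (MonoidAlgebra ℂ G)) :
        MonoidAlgebra ℂ G)).coeff h * (ξ : H → ℂ) h =
        ∑ h : H, (ξ : H → ℂ) h * blockCoeff B h := by
      refine Finset.sum_congr rfl fun h _ => ?_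
      rw [coeff_resAlg, coeff_blockIdem, mul_comm]
    rw [h5]
    field_simp
  obtain ⟨χ₀, hB₀eq⟩ := hB₀
  subst hB₀eq
  have hχ₀ : χ₀ ∈ blockOf M (χ₀ : G → ℂ) := self_mem_blockOf hMp.ne_top χ₀
  have hdc : (d : ℂ) ≠ 0 := by exact_mod_cast hd0
  constructor
  · set W := omega (ξ : H → ℂ) (resAlg H ((blockIdem M χ₀ : Subalgebra.center ℂ (MonoidAlgebra ℂ G)) :
        MonoidAlgebra ℂ G)) with hW
    have hW1 : MemLocalIdeal M (W - 1) := by
      have := isInducedBlock_congr H hind hξ hχ₀ (blockIdem_mem (M := M) χ₀)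
      rwa [omegaHom_blockIdem_of_mem χ₀ hχ₀] at this
    have hWR : MemLocalRing M W := memLocalRing_of_sub hW1 (memLocalRing_one hMp.ne_top)
    have hWI : ¬ MemLocalIdeal M W := by
      rw [memLocalIdeal_congr hW1]
      exact one_not_memLocalIdeal
    set n := ∑ χ ∈ Finset.univ.filter (fun χ : IrrCharacter G => χ ∈ blockOf M (χ₀ : G → ℂ)),
        m χ * charDegree (χ : G → ℂ) with hn
    have hnW : (n : ℂ) = (d : ℂ) * W := by
      rw [← hnat, hkey χ₀, hΘ1]
    have hW0 : W ≠ 0 := ne_zero_of_not_memLocalIdeal hWI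
    have hn0 : n ≠ 0 := by
      intro h0
      rw [h0, Nat.cast_zero] at hnW
      exact (mul_ne_zero hdc hW0) hnW.symm
    have hWeq : W = (n : ℂ) / (d : ℂ) := by
      rw [hnW]
      field_simp
    refine ⟨n, hnat _, hn0, ?_⟩
    apply le_antisymm
    · by_contra hlt
      push Not at hlt
      apply hWI
      rw [hWeq]
      exact memLocalIdeal_natCast_div_of_factorization_lt hM hd0 hlt
    · rw [hWeq] at hWR
      exact factorization_le_of_memLocalRing_div hM hn0 hd0 hWR
  · intro B hB hne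
    obtain ⟨χB, rfl⟩ := hB
    set W := omega (ξ : H → ℂ) (resAlg H ((blockIdem M χB : Subalgebra.center ℂ (MonoidAlgebra ℂ G)) :
        MonoidAlgebra ℂ G)) with hW
    have hnot : χ₀ ∉ blockOf M (χB : G → ℂ) := by
      intro hmem
      exact hne (blockOf_eq_of_mem hmem).symm
    have hWI : MemLocalIdeal M W := by
      have := isInducedBlock_congr H hind hξ hχ₀ (blockIdem_mem (M := M) χB)
      rwa [omegaHom_blockIdem_of_not_mem χB hnot, sub_zero] at this
    set n := ∑ χ ∈ Finset.univ.filter (fun χ : IrrCharacter G => χ ∈ blockOf M (χB : G → ℂ)),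
        m χ * charDegree (χ : G → ℂ) with hn
    have hnW : (n : ℂ) = (d : ℂ) * W := by
      rw [← hnat, hkey χB, hΘ1]
    have hWeq : W = (n : ℂ) / (d : ℂ) := by
      rw [hnW]
      field_simp
    refine ⟨n, hnat _, ?_⟩
    by_cases hn0 : n = 0
    · exact Or.inl hn0
    · right
      by_contra hle
      push Not at hle
      have h1 := memLocalRing_natCast_div_of_factorization_le hM hn0 hle
      have h2 : MemLocalIdeal M (W * ((d : ℂ) / (n : ℂ))) := memLocalIdeal_mul_right hWI h1
      have hnc : (n : ℂ) ≠ 0 := by exact_mod_cast hn0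
      have h3 : W * ((d : ℂ) / (n : ℂ)) = 1 := by
        rw [hWeq]
        field_simp
      rw [h3] at h2
      exact one_not_memLocalIdeal h2

end Cfsg.Agent.S4430
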