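import Cfsg.Statements.S0911
import Cfsg.Agent.Lib.Helper16.MinMax
import Cfsg.Agent.Lib.Helper16.SylowAux

set_option autoImplicit false
open Cfsg

namespace Cfsg.Agent.S0911

open Cfsg.Agent.Lib.Helper16

/-- From `S ≤ C(u)` with `u = c l c⁻¹`: the conjugate `c⁻¹ S c` centralizes `l`. -/
theorem conj_le_centralizer {G : Type*} [Group G] (S : Subgroup G) (l c : G)
    (hS : S ≤ Subgroup.centralizer ({c * l * c⁻¹} : Set G)) :
    S.map (MulAut.conj c⁻¹).toMonoidHom ≤ Subgroup.centralizer ({l} : Set G) := by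
  rw [map_conj_le_iff]
  intro s hs
  have h1 := Subgroup.mem_centralizer_singleton_iff.mp (hS hs)
  rw [Subgroup.mem_centralizer_singleton_iff]
  simp only [inv_inv]
  calc c⁻¹ * s * c * l = c⁻¹ * (s * (c * l * c⁻¹)) * c := by group
    _ = c⁻¹ * ((c * l * c⁻¹) * s) * c := by rw [h1]
    _ = l * (c⁻¹ * s * c) := by group

/-- The min–max Theorem for defect classes. Let B be a block of the finite group G relative to a maximal ideal M of the algebraic integers containing the prime p, let g represent a defect class of B and let D be a Sylow p-subgroup of the centralizer of g (viewed in G). For any h: (a) if the idempotent coefficient of B at h is a local integer outside the local ideal, then some conjugate of D contains a Sylow p-subgroup of the centralizer of h; (b) if the central character of some member of B at h is outside the local ideal, then some conjugate of D is contained in a Sylow p-subgroup of the centralizer of h. -/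
theorem result {G : Type*} [Group G] [Finite G] (p : ℕ) [Fact p.Prime] (M : Ideal Cfsg.AlgInt) (hM : Cfsg.IsPModular p M) (B : Set (Cfsg.IrrCharacter G)) (hB : Cfsg.IsPBlock M B) (g : G) (hg : Cfsg.IsDefectClass M B g) (D : Sylow p (Subgroup.centralizer ({g} : Set G))) (h : G) : (Cfsg.MemLocalRing M (Cfsg.blockCoeff B h) → ¬ Cfsg.MemLocalIdeal M (Cfsg.blockCoeff B h) → ∃ (x : G) (Q : Sylow p (Subgroup.centralizer ({h} : Set G))), (Q : Subgroup (Subgroup.centralizer ({h} : Set G))).map (Subgroup.centralizer ({h} : Set G)).subtype ≤ ((D : Subgroup (Subgroup.centralizer ({g} : Set G))).map (Subgroup.centralizer ({g} : Set G)).subtype).map (MulAut.conj x).toMonoidHom) ∧ ((∃ χ ∈ B, ¬ Cfsg.MemLocalIdeal M (Cfsg.centralChar (χ : G → ℂ) h)) → ∃ (x : G) (Q : Sylow p (Subgroup.centralizer ({h} : Set G))), ((D : Subgroup (Subgroup.centralizer ({g} : Set G))).map (Subgroup.centralizer ({g} : Set G)).subtype).map (MulAut.conj x).toMonoidHom ≤ (Q : Subgroup (Subgroup.centralizer ({h} : Set G))).map (Subgroup.centralizer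 ({h} : Set G)).subtype) := by
  classical
  have := Fintype.ofFinite G
  have hMp := isPModular_isPrime hM
  constructor
  · -- part (a)
    intro _ hh
    obtain ⟨χ₀, hχ₀⟩ := IsPBlock_nonempty hMp.ne_top hB
    have hBeq := IsPBlock_eq_blockOf hB hχ₀
    have hl : ¬ MemLocalIdeal M (centralChar (χ₀ : G → ℂ) g) := hg.2.2 χ₀ hχ₀
    rw [hBeq] at hh
    obtain ⟨v, hv⟩ := exists_not_dvd_classMulCount hM χ₀ g h hl hh
    obtain ⟨Q₀⟩ := (Sylow.nonempty : Nonempty (Sylow p (Subgroup.centralizer ({h} : Set G))))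
    set S := (Q₀ : Subgroup (Subgroup.centralizer ({h} : Set G))).map
      (Subgroup.centralizer ({h} : Set G)).subtype with hS
    have hSp : IsPGroup p S := Q₀.2.map _
    have hSh : S ≤ Subgroup.centralizer ({h} : Set G) := Subgroup.map_subtype_le _
    obtain ⟨u, hu, hSu⟩ := exists_isConj_le_centralizer g v h hv S hSp hSh
    obtain ⟨c, rfl⟩ := isConj_iff.mp hu
    have h1 := conj_le_centralizer S g c hSu
    obtain ⟨z, _, hz⟩ := exists_conj_sylow_map_ge (Subgroup.centralizer ({g} : Set G)) D
      (S.map (MulAut.conj c⁻¹).toMonoidHom) (hSp.map _) h1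
    refine ⟨c * z, Q₀, ?_⟩
    intro s hs
    have h2 : c⁻¹ * s * c ∈ S.map (MulAut.conj c⁻¹).toMonoidHom := ⟨s, hs, by simp⟩
    have h3 := hz h2
    rw [mem_map_conj_iff] at h3 ⊢
    have : (c * z)⁻¹ * s * (c * z) = z⁻¹ * (c⁻¹ * s * c) * z := by group
    rw [this]
    exact h3
  · -- part (b)
    rintro ⟨χ, hχ, hχh⟩
    have hBeq := IsPBlock_eq_blockOf hB hχ
    have hn : ¬ MemLocalIdeal M (blockCoeff (blockOf M (χ : G → ℂ)) g) := by
      rw [← hBeq]; exact hg.2.1
    obtain ⟨v, hv⟩ := exists_not_dvd_classMulCount hM χ h g hχh hn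
    set S := (D : Subgroup (Subgroup.centralizer ({g} : Set G))).map
      (Subgroup.centralizer ({g} : Set G)).subtype with hS
    have hSp : IsPGroup p S := D.2.map _
    have hSg : S ≤ Subgroup.centralizer ({g} : Set G) := Subgroup.map_subtype_le _
    obtain ⟨u, hu, hSu⟩ := exists_isConj_le_centralizer h v g hv S hSp hSg
    obtain ⟨c, rfl⟩ := isConj_iff.mp hu
    have h1 := conj_le_centralizer S h c hSu
    obtain ⟨Q, hQ⟩ := exists_sylow_map_ge (Subgroup.centralizer ({h} : Set G))
      (S.map (MulAut.conj c⁻¹).toMonoidHom) (hSp.map _) h1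
    exact ⟨c⁻¹, Q, hQ⟩

end Cfsg.Agent.S0911
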