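import Cfsg.Statements.S0917
import Cfsg.Agent.Lib.Helper16.Induced
import Cfsg.Agent.S0911

set_option autoImplicit false
open Cfsg

namespace Cfsg.Agent.S0917

open Cfsg.Agent.Lib.Helper16

/-- Let H be a subgroup of the finite group G, p a prime and M a maximal ideal of the algebraic integers containing p. If the block b of H induces the block B of G relative to M, then every defect group of b (a subgroup of H, viewed in G) is contained in some defect group of B. -/
theorem result {G : Type*} [Group G] [Finite G] (p : ℕ) [Fact p.Prime] (M : Ideal Cfsg.AlgInt) (hM : Cfsg.IsPModular p M) (H : Subgroup G) (b : Set (Cfsg.IrrCharacter H)) (hb : Cfsg.IsPBlock M b) (B : Set (Cfsg.IrrCharacter G)) (hB : Cfsg.IsPBlock M B) (hind : Cfsg.IsInducedBlock M H b B) (D : Subgroup H) (hD : Cfsg.IsDefectGroup p M b D) : ∃ E : Subgroup G, Cfsg.IsDefectGroup p M B E ∧ D.map H.subtype ≤ E := by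
  classical
  have hMp : M.IsPrime := isPModular_isPrime hM
  have : Fintype G := Fintype.ofFinite G
  have : Fintype H := Fintype.ofFinite H
  obtain ⟨h₀, hh₀, P, rfl⟩ := hD
  obtain ⟨g, hg⟩ := exists_isDefectClass hB
  obtain ⟨ξ, hξ⟩ := IsPBlock_nonempty hMp.ne_top hb
  obtain ⟨χ, hχ⟩ := IsPBlock_nonempty hMp.ne_top hB
  have h1 : ¬ MemLocalIdeal M (centralChar (χ : G → ℂ) g) := hg.2.2 χ hχ
  have h2 := hind.2.2 ξ hξ χ hχ g
  have h3 : ¬ MemLocalIdeal M (inducedCentralChar H (ξ : H → ℂ) g) := by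
    rwa [memLocalIdeal_congr h2]
  obtain ⟨h₁, hc, hh₁⟩ := exists_of_inducedCentralChar_not_mem H ξ g h3
  obtain ⟨x, Q, hQ⟩ := (Cfsg.Agent.S0911.result p M hM b hb h₀ hh₀ P h₁).2 ⟨ξ, hξ, hh₁⟩
  have hdc : IsDefectClass M B ((x⁻¹ * h₁ * x : H) : G) := by
    apply isDefectClass_of_isConj hg
    refine hc.trans (isConj_iff.mpr ⟨((x⁻¹ : H) : G), ?_⟩)
    push_cast
    simp
  have hpg : IsPGroup p (((P : Subgroup (Subgroup.centralizer ({h₀} : Set H))).map
      (Subgroup.centralizer ({h₀} : Set H)).subtype).map H.subtype) :=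
    (P.2.map _).map _
  have hle : ((P : Subgroup (Subgroup.centralizer ({h₀} : Set H))).map
      (Subgroup.centralizer ({h₀} : Set H)).subtype).map H.subtype ≤
      Subgroup.centralizer ({((x⁻¹ * h₁ * x : H) : G)} : Set G) := by
    rintro _ ⟨d, hd, rfl⟩
    have h4 : x * d * x⁻¹ ∈ (Q : Subgroup (Subgroup.centralizer ({h₁} : Set H))).map
        (Subgroup.centralizer ({h₁} : Set H)).subtype := hQ ⟨d, hd, rfl⟩
    have h5 : x * d * x⁻¹ ∈ Subgroup.centralizer ({h₁} : Set H) :=
      Subgroup.map_subtype_le _ h4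
    have h6 := Subgroup.mem_centralizer_singleton_iff.mp h5
    rw [Subgroup.mem_centralizer_singleton_iff]
    have h7 : d * (x⁻¹ * h₁ * x) = (x⁻¹ * h₁ * x) * d := by
      calc d * (x⁻¹ * h₁ * x) = x⁻¹ * (x * d * x⁻¹ * h₁) * x := by group
        _ = x⁻¹ * (h₁ * (x * d * x⁻¹)) * x := by rw [h6]
        _ = (x⁻¹ * h₁ * x) * d := by group
    have := congrArg (Subtype.val : H → G) h7
    simpa using this
  obtain ⟨E, hE⟩ := exists_sylow_map_ge
    (Subgroup.centralizer ({((x⁻¹ * h₁ * x : H) : G)} : Set G)) _ hpg hle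
  exact ⟨_, ⟨_, hdc, E, rfl⟩, hE⟩

end Cfsg.Agent.S0917
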