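import Cfsg.Statements.S4657
import Cfsg.Agent.Lib.Helper77.BlockIdem

set_option autoImplicit false
open Cfsg

namespace Cfsg.Agent.S4657

open Cfsg.Agent.Lib Cfsg.Agent.Lib.Helper16 Cfsg.Agent.Lib.Helper77 MonoidAlgebra

/-- Abstract uniqueness/existence: a finite family of "idempotents mod the ideal", pairwise
orthogonal mod the ideal and summing to `1`, has exactly one member congruent to `1`. -/
theorem exists_unique_of_orthogonal_idempotents {M : Ideal AlgInt} [hMp : M.IsPrime]
    {ι : Type*} (s : Finset ι) (L : ι → ℂ)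
    (hR : ∀ i ∈ s, MemLocalRing M (L i))
    (hsq : ∀ i ∈ s, MemLocalIdeal M (L i - L i * L i))
    (hortho : ∀ i ∈ s, ∀ j ∈ s, i ≠ j → MemLocalIdeal M (L i * L j))
    (hsum : ∑ i ∈ s, L i = 1) :
    ∃ i ∈ s, MemLocalIdeal M (L i - 1) ∧ ∀ j ∈ s, MemLocalIdeal M (L j - 1) → j = i := by
  have h1R : MemLocalRing M (1 : ℂ) := memLocalRing_one hMp.ne_top
  have hex : ∃ i ∈ s, ¬ MemLocalIdeal M (L i) := by
    by_contra hcon
    push Not at hcon
    apply one_not_memLocalIdeal (M := M)
    rw [← hsum]
    exact memLocalIdeal_sum _ _ hcon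
  obtain ⟨i, his, hi⟩ := hex
  have hi1 : MemLocalIdeal M (L i - 1) := by
    have h := hsq i his
    have e : L i - L i * L i = L i * (1 - L i) := by ring
    rw [e, memLocalIdeal_mul_iff (hR i his) (memLocalRing_sub h1R (hR i his))] at h
    rcases h with h | h
    · exact absurd h hi
    · have := memLocalIdeal_neg h
      rwa [neg_sub] at this
  refine ⟨i, his, hi1, ?_⟩
  intro j hjs hj1
  by_contra hne
  have h := hortho j hjs i his hne
  have h2 : MemLocalIdeal M (L j * L i - 1 * 1) :=
    memLocalIdeal_mul_sub_mul (hR j hjs) h1R hj1 hi1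
  apply one_not_memLocalIdeal (M := M)
  have := memLocalIdeal_sub h h2
  simpa using this

/-- Fix a prime p and a maximal ideal M of the algebraic integers containing p. Every Brauer pair (P, e) of the finite group G is a Brauer pair of exactly one p-block B of G. -/
theorem result {G : Type*} [Group G] [Fintype G] (p : ℕ) [Fact p.Prime] (M : Ideal Cfsg.AlgInt) (hM : Cfsg.IsPModular p M) (P : Subgroup G) (e : Set (Cfsg.IrrCharacter (Subgroup.centralizer (P : Set G)))) (hPe : Cfsg.IsBrauerPair p M P e) : ∃! B : Set (Cfsg.IrrCharacter G), Cfsg.IsBrauerPairOf p M B P e := by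
  classical
  have hMp : M.IsPrime := isPModular_isPrime hM
  have : Fintype (Subgroup.centralizer (P : Set G)) := Fintype.ofFinite _
  obtain ⟨hP, ξ₀, rfl⟩ := hPe
  have hξ₀ : ξ₀ ∈ blockOf M (ξ₀ : Subgroup.centralizer (P : Set G) → ℂ) :=
    self_mem_blockOf hMp.ne_top ξ₀
  have hbo : ∀ (B : Set (IrrCharacter G)) (ξ : Subgroup.centralizer (P : Set G) → ℂ),
      brauerOmega P (blockCoeff B) ξ =
        omega ξ (trunc (Subgroup.centralizer (P : Set G)) (idemOf B)) := by
    intro B ξ
    rw [← brauerOmega_eq_omega]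
    congr 1
  have hadm : ∀ B : Set (IrrCharacter G), IsPBlock M B → BrAdm M P (idemOf B) := fun B hB =>
    brAdm_of_mem_centerOrder P (idemC_mem_centerOrder hB)
  set L : Set (IrrCharacter G) → ℂ := fun B =>
    omega (ξ₀ : Subgroup.centralizer (P : Set G) → ℂ)
      (trunc (Subgroup.centralizer (P : Set G)) (idemOf B)) with hL
  have hmulself : ∀ B : Set (IrrCharacter G), idemOf B * idemOf B = idemOf B := fun B =>
    congrArg Subtype.val (idemC_mul_self B)
  obtain ⟨B, hBs, hB1, hBuniq⟩ := exists_unique_of_orthogonal_idempotents (M := M)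
    (blocksFinset M G) L
    (fun B hB => brOmega_memLocalRing ξ₀ (hadm B (mem_blocksFinset.mp hB)))
    (fun B hB => by
      have h := brOmega_mul hM hP ξ₀ (hadm B (mem_blocksFinset.mp hB))
        (hadm B (mem_blocksFinset.mp hB))
      rw [hmulself] at h
      exact h)
    (fun B hB B' hB' hne => by
      have h := brOmega_mul hM hP ξ₀ (hadm B (mem_blocksFinset.mp hB))
        (hadm B' (mem_blocksFinset.mp hB'))
      have hdisj : Disjoint B B' := by
        rw [Set.disjoint_left]
        intro ψ h1 h2
        exact hne (IsPBlock_eq_of_mem (mem_blocksFinset.mp hB) (mem_blocksFinset.mp hB') h1 h2)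
      have h0 : idemOf B * idemOf B' = 0 := congrArg Subtype.val (idemC_mul_of_disjoint hdisj)
      rw [h0, trunc_zero, omega_zero, zero_sub] at h
      have := memLocalIdeal_neg h
      rwa [neg_neg] at this)
    (by
      have h1 : ∑ B ∈ blocksFinset M G, idemOf B = 1 := by
        have := congrArg Subtype.val (sum_idemC_blocks (M := M) (G := G))
        rw [AddSubmonoidClass.coe_finsetSum] at this
        exact this
      simp only [hL]
      rw [← omega_sum, ← trunc_sum, h1, trunc_one]
      exact omega_one_irr ξ₀)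
  have hBblock : IsPBlock M B := mem_blocksFinset.mp hBs
  refine ⟨B, ⟨⟨hP, ξ₀, rfl⟩, hBblock, ?_⟩, ?_⟩
  · intro ξ hξ
    rw [hbo]
    have hsb : SameBlock M (ξ : Subgroup.centralizer (P : Set G) → ℂ)
        (ξ₀ : Subgroup.centralizer (P : Set G) → ℂ) := sameBlock_symm hξ
    have h1 := brOmega_congr hsb (hadm B hBblock)
    have := memLocalIdeal_add h1 hB1
    simpa [hL] using this
  · rintro B' ⟨_, hB', h'⟩
    apply hBuniq B' (mem_blocksFinset.mpr hB')
    have := h' ξ₀ hξ₀
    rw [hbo] at this
    exact this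

end Cfsg.Agent.S4657
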