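import Cfsg.Statements.S4653
import Cfsg.Agent.Lib.Helper77.SubOsima

set_option autoImplicit false
open Cfsg

namespace Cfsg.Agent.S4653

open Cfsg.Agent.Lib Cfsg.Agent.Lib.Helper16 Cfsg.Agent.Lib.Helper77

/-- The centralizer of a normal subgroup is normal. -/
theorem centralizer_normal_of_normal {G : Type*} [Group G] (P : Subgroup G) [P.Normal] :
    (Subgroup.centralizer (P : Set G)).Normal := by
  constructor
  intro x hx c
  rw [Subgroup.mem_centralizer_iff] at hx ⊢
  intro v hv
  have h1 : c⁻¹ * v * c ∈ (P : Set G) := by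
    have := ‹P.Normal›.conj_mem v hv c⁻¹
    simpa using this
  have h2 := hx _ h1
  calc v * (c * x * c⁻¹) = c * ((c⁻¹ * v * c) * x) * c⁻¹ := by group
    _ = c * (x * (c⁻¹ * v * c)) * c⁻¹ := by rw [h2]
    _ = c * x * c⁻¹ * v := by group

/-- Fix a prime p and a maximal ideal M of the algebraic integers containing p. Let P be a normal p-subgroup of the finite group G and B a p-block of G. Then the idempotent of B is supported on C_G(P): its coefficient at every element of G outside C_G(P) is zero. -/
theorem result {G : Type*} [Group G] [Fintype G] (p : ℕ) [Fact p.Prime] (M : Ideal Cfsg.AlgInt) (hM : Cfsg.IsPModular p M) (P : Subgroup G) [P.Normal] (hP : IsPGroup p P) (B : Set (Cfsg.IrrCharacter G)) (hB : Cfsg.IsPBlock M B) (g : G) (hg : g ∉ Subgroup.centralizer (P : Set G)) : Cfsg.blockCoeff B g = 0 := by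
  have hMp : M.IsPrime := isPModular_isPrime hM
  have := centralizer_normal_of_normal P
  exact blockCoeff_eq_zero_of_support (M := M) (Subgroup.centralizer (P : Set G))
    (fun g hg χ => Cfsg.Agent.Lib.Helper82.memLocalIdeal_centralChar_of_not_mem_centralizer
      hM P hP χ g hg) hB g hg

end Cfsg.Agent.S4653
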