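import Cfsg.Statements.S4654
import Cfsg.Agent.S4653
import Cfsg.Agent.Lib.Helper77.NormalPair
import Cfsg.Agent.Lib.Helper77.BlockTransport

set_option autoImplicit false
open Cfsg

namespace Cfsg.Agent.S4654

open Cfsg.Agent.Lib Cfsg.Agent.Lib.Helper16 Cfsg.Agent.Lib.Helper77 Cfsg.Agent.Lib.Helper78
open MonoidAlgebra
open scoped ComplexConjugate

section

variable {G : Type*} [Group G] [Fintype G] {p : ℕ} [Fact p.Prime] {M : Ideal AlgInt}

/-- A member of `Irr(G)` over a member of `e` lies in `B`, when `(P, e)` is a Brauer pair of `B`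
and `P` is normal. -/
theorem mem_of_over (hM : IsPModular p M) (P : Subgroup G) [P.Normal] (hP : IsPGroup p P)
    [hCn : (Subgroup.centralizer (P : Set G)).Normal]
    [Fintype (Subgroup.centralizer (P : Set G))]
    {B : Set (IrrCharacter G)} (hB : IsPBlock M B)
    {θ : IrrCharacter (Subgroup.centralizer (P : Set G))}
    (hbr : MemLocalIdeal M (brauerOmega P (blockCoeff B)
      (θ : Subgroup.centralizer (P : Set G) → ℂ) - 1))
    {χ : IrrCharacter G}
    (hover : classInner (fun n : Subgroup.centralizer (P : Set G) => (χ : G → ℂ) n)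
      (θ : Subgroup.centralizer (P : Set G) → ℂ) ≠ 0) : χ ∈ B := by
  classical
  have hMp : M.IsPrime := isPModular_isPrime hM
  have hc := blockElt_mem_center B
  have hsupp' : ∀ g : G, g ∉ Subgroup.centralizer (P : Set G) → (blockElt B).coeff g = 0 := by
    intro g hg
    rw [coeff_blockElt]
    exact Cfsg.Agent.S4653.result p M hM P hP B hB g hg
  have h1 := omega_eq_omega_resAlg_of_support (Subgroup.centralizer (P : Set G)) hc hsupp' χ θ hover
  have h2 : brauerOmega P (blockCoeff B) (θ : Subgroup.centralizer (P : Set G) → ℂ) =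
      omega (θ : Subgroup.centralizer (P : Set G) → ℂ)
        (resAlg (Subgroup.centralizer (P : Set G)) (blockElt B)) := by
    unfold brauerOmega omega
    rw [finsum_eq_sum_of_fintype, Finset.sum_div]
    refine Finset.sum_congr rfl fun x _ => ?_
    rw [coeff_resAlg, coeff_blockElt]
  rw [h2, ← h1, omega_blockElt] at hbr
  by_contra hcon
  rw [if_neg hcon, zero_sub, memLocalIdeal_neg_iff] at hbr
  exact one_not_memLocalIdeal hbr

end

/-- Fix a prime p and a maximal ideal M of the algebraic integers containing p. Let P be a normal p-subgroup of the finite group G, B a p-block of G and e a p-block of C_G(P) such that (P, e) is a Brauer pair of B (as P is normal, this says that e occurs in the idempotent of B, which is supported on C_G(P)). Let T be the stabilizer of e in G under conjugation. Then the idempotent of e is a block idempotent of T: some block E of T has, at every element of T, the same idempotent coefficient as e (zero off C_G(P)); and the idempotent of B is the sum of the distinct G-conjugates of the idempotent of e: its coefficient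 at g is the sum over all x in G of the coefficient of e at x⁻¹ g x, divided by the order of T. -/
theorem result {G : Type*} [Group G] [Fintype G] (p : ℕ) [Fact p.Prime] (M : Ideal Cfsg.AlgInt) (hM : Cfsg.IsPModular p M) (P : Subgroup G) [P.Normal] (hP : IsPGroup p P) (B : Set (Cfsg.IrrCharacter G)) (e : Set (Cfsg.IrrCharacter (Subgroup.centralizer (P : Set G)))) (hBe : Cfsg.IsBrauerPairOf p M B P e) (T : Subgroup G) (hT : ∀ x : G, x ∈ T ↔ Cfsg.StabilizesBlock (Subgroup.centralizer (P : Set G)) e x) : (∃ E : Set (Cfsg.IrrCharacter T), Cfsg.IsPBlock M E ∧ ∀ t : T, Cfsg.blockCoeff E t = Cfsg.subgroupBlockCoeff (Subgroup.centralizer (P : Set G)) e (t : G)) ∧ ∀ g : G, Cfsg.blockCoeff B g = (Nat.card T : ℂ)⁻¹ * ∑ x : G, Cfsg.subgroupBlockCoeff (Subgroup.centralizer (P : Set G)) e (x⁻¹ * g * x) := by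
  classical
  have hMp : M.IsPrime := isPModular_isPrime hM
  obtain ⟨⟨_, he⟩, hB, hbr⟩ := hBe
  have hCn : (Subgroup.centralizer (P : Set G)).Normal :=
    Cfsg.Agent.S4653.centralizer_normal_of_normal P
  have : Fintype (Subgroup.centralizer (P : Set G)) := Fintype.ofFinite _
  -- the stabilizer in terms of `conjIrrN`
  have hT' : ∀ x : G, x ∈ T ↔ ∀ χ ∈ e, conjIrrN (Subgroup.centralizer (P : Set G)) x χ ∈ e := by
    intro x
    rw [← inv_mem_iff, hT, stabilizesBlock_iff_conjIrrN, inv_inv]
  obtain ⟨θ₁, hθ₁⟩ := IsPBlock_nonempty hMp.ne_top he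
  refine ⟨?_, ?_⟩
  · -- the block of `T`
    have hCT : Subgroup.centralizer (P : Set G) ≤ T := by
      intro x hx
      rw [hT']
      intro χ hχ
      have : conjIrrN (Subgroup.centralizer (P : Set G)) x χ = χ := by
        apply Subtype.ext
        funext k
        rw [conjIrrN_apply]
        have h1 := irr_conj χ k ⟨x, hx⟩
        rw [← h1]
        exact congrArg _ (Subtype.ext rfl)
      rwa [this]
    have hPT : P ≤ T := by
      intro x hx
      rw [hT']
      intro χ hχ
      have : conjIrrN (Subgroup.centralizer (P : Set G)) x χ = χ := by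
        apply Subtype.ext
        funext k
        rw [conjIrrN_apply]
        refine congrArg _ (Subtype.ext ?_)
        show x * (k : G) * x⁻¹ = (k : G)
        have hk := k.2
        rw [Subgroup.mem_centralizer_iff] at hk
        rw [hk x hx, mul_inv_cancel_right]
      rwa [this]
    have : Fintype T := Fintype.ofFinite _
    set N' : Subgroup T := (Subgroup.centralizer (P : Set G)).subgroupOf T with hN'
    have hN'n : N'.Normal := Subgroup.Normal.subgroupOf hCn T
    have : Fintype N' := Fintype.ofFinite _
    set φ : N' ≃* Subgroup.centralizer (P : Set G) := Subgroup.subgroupOfEquivOfLe hCT with hφ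
    set e' : Set (IrrCharacter N') := irrTransport φ '' e with he'def
    have he' : IsPBlock M e' := isPBlock_image_irrTransport φ he
    set P' : Subgroup T := P.subgroupOf T with hP'
    have hP'n : P'.Normal := Subgroup.Normal.subgroupOf inferInstance T
    have hP'p : IsPGroup p P' := hP.comap_subtype
    have hcent : Subgroup.centralizer (P' : Set T) ≤ N' := by
      intro t ht
      rw [hN', Subgroup.mem_subgroupOf, Subgroup.mem_centralizer_iff]
      intro y hy
      rw [Subgroup.mem_centralizer_iff] at ht
      have := ht ⟨y, hPT hy⟩ (by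
        show (⟨y, hPT hy⟩ : T) ∈ P.subgroupOf T
        rw [Subgroup.mem_subgroupOf]
        exact hy)
      exact congrArg Subtype.val this
    obtain ⟨χ₁', hover⟩ := exists_irr_over N' (irrTransport φ θ₁)
    set E : Set (IrrCharacter T) := blockOf M (χ₁' : T → ℂ) with hE
    have hEb : IsPBlock M E := isPBlock_blockOf χ₁'
    have hχE : χ₁' ∈ E := self_mem_blockOf hMp.ne_top χ₁'
    have hsuppE : ∀ t : T, t ∉ N' → blockCoeff E t = 0 := by
      intro t ht
      exact Cfsg.Agent.S4653.result p M hM P' hP'p E hEb t (fun h => ht (hcent h))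
    -- `e'` is stable
    have hconj : ∀ (t : T) (χ : IrrCharacter (Subgroup.centralizer (P : Set G))),
        conjIrrN N' t (irrTransport φ χ) =
          irrTransport φ (conjIrrN (Subgroup.centralizer (P : Set G)) (t : G) χ) := by
      intro t χ
      apply Subtype.ext
      funext n
      rw [conjIrrN_apply, irrTransport_apply, irrTransport_apply, conjIrrN_apply]
      exact congrArg _ (Subtype.ext rfl)
    have hstab : Helper16.conjClosure N' e' = e' := by
      apply Set.Subset.antisymm
      · rintro θ ⟨t, ht⟩
        obtain ⟨χ, hχ, hχeq⟩ := ht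
        have h1 : θ = conjIrrN N' t⁻¹ (irrTransport φ χ) := by
          rw [hχeq, conjIrrN_inv_conjIrrN]
        rw [h1, hconj]
        refine ⟨_, ?_, rfl⟩
        exact (hT' ((t⁻¹ : T) : G)).mp (t⁻¹).2 χ hχ
      · exact Helper16.subset_conjClosure N' e'
    refine ⟨E, hEb, ?_⟩
    intro t
    unfold subgroupBlockCoeff
    by_cases ht : (t : G) ∈ Subgroup.centralizer (P : Set G)
    · rw [dif_pos ht]
      have htN : t ∈ N' := by
        rw [hN', Subgroup.mem_subgroupOf]
        exact ht
      have h1 := blockCoeff_eq_conjClosure N' hEb hsuppE he' hχE (θ₁ := irrTransport φ θ₁)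
        ⟨θ₁, hθ₁, rfl⟩ hover ⟨t, htN⟩
      rw [hstab, blockCoeff_image_irrTransport] at h1
      rw [h1]
      exact congrArg _ (Subtype.ext rfl)
    · rw [dif_neg ht]
      apply hsuppE
      intro h
      apply ht
      rw [hN', Subgroup.mem_subgroupOf] at h
      exact h
  · -- the formula for the idempotent of `B`
    obtain ⟨χ₁, hover⟩ := exists_irr_over (Subgroup.centralizer (P : Set G)) θ₁
    have hχ₁B : χ₁ ∈ B := mem_of_over hM P hP hB (hbr θ₁ hθ₁) hover
    have hsupp : ∀ g : G, g ∉ Subgroup.centralizer (P : Set G) → blockCoeff B g = 0 :=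
      fun g hg => Cfsg.Agent.S4653.result p M hM P hP B hB g hg
    have hmem : ∀ (g : G), g ∈ Subgroup.centralizer (P : Set G) → ∀ x : G,
        x⁻¹ * g * x ∈ Subgroup.centralizer (P : Set G) := by
      intro g hg x
      have := hCn.conj_mem g hg x⁻¹
      rwa [inv_inv] at this
    have hT0 : (Nat.card T : ℂ) ≠ 0 := Nat.cast_ne_zero.mpr Nat.card_pos.ne'
    intro g
    by_cases hg : g ∈ Subgroup.centralizer (P : Set G)
    · have h1 := blockCoeff_eq_conjClosure (Subgroup.centralizer (P : Set G)) hB hsupp he hχ₁B hθ₁
        hover ⟨g, hg⟩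
      have h2 := sum_blockCoeff_conj (Subgroup.centralizer (P : Set G)) he T hT' ⟨g, hg⟩
      have h3 : ∑ x : G, subgroupBlockCoeff (Subgroup.centralizer (P : Set G)) e (x⁻¹ * g * x) =
          ∑ x : G, blockCoeff e (⟨x⁻¹ * g * x, hmem g hg x⟩ :
            Subgroup.centralizer (P : Set G)) := by
        refine Finset.sum_congr rfl fun x _ => ?_
        unfold subgroupBlockCoeff
        rw [dif_pos (hmem g hg x)]
      rw [h3, h2, ← mul_assoc, inv_mul_cancel₀ hT0, one_mul]
      exact h1
    · rw [hsupp g hg]
      symm
      rw [mul_eq_zero]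
      right
      apply Finset.sum_eq_zero
      intro x _
      unfold subgroupBlockCoeff
      rw [dif_neg]
      intro h
      apply hg
      have := hCn.conj_mem _ h x
      have h2 : x * (x⁻¹ * g * x) * x⁻¹ = g := by group
      rwa [h2] at this

end Cfsg.Agent.S4654
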