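import Cfsg.Statements.S4660
import Cfsg.Agent.Lib.Helper16.MaxConj

set_option autoImplicit false
open Cfsg Cfsg.Agent.Lib.Helper16

namespace Cfsg.Agent.S4660

/-- Fix a prime p and a maximal ideal M of the algebraic integers containing p. Let (P, e) be a maximal Brauer pair of the p-block B of the finite group G and (Q, f) any Brauer pair of B. Then some conjugate of (Q, f) lies below (P, e): there is x in G such that (x Q x⁻¹, conjugate of f by x) ≤ (P, e). -/
theorem result {G : Type*} [Group G] [Fintype G] (p : ℕ) [Fact p.Prime] (M : Ideal Cfsg.AlgInt) (hM : Cfsg.IsPModular p M) (B : Set (Cfsg.IrrCharacter G)) (P Q : Subgroup G) (e : Set (Cfsg.IrrCharacter (Subgroup.centralizer (P : Set G)))) (f : Set (Cfsg.IrrCharacter (Subgroup.centralizer (Q : Set G)))) (hmax : Cfsg.IsMaximalBrauerPair p M B P e) (hQf : Cfsg.IsBrauerPairOf p M B Q f) : ∃ x : G, Cfsg.SubpairLE p M (Q.map (MulAut.conj x).toMonoidHom) (Cfsg.conjBlock Q x f) P e := by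
  classical
  have hB : IsPBlock M B := hQf.2.1
  obtain ⟨P₁, e₁, hmax₁, hle⟩ := exists_isMaximalBrauerPair_ge hM B (Nat.card G - Nat.card Q) Q f
    hQf le_rfl
  have hD₁ := isDefectGroup_of_isMaximalBrauerPair hM B P₁ e₁ hmax₁
  have hD := isDefectGroup_of_isMaximalBrauerPair hM B P e hmax
  obtain ⟨z, hz⟩ := exists_conj_eq_of_isDefectGroup hM hB hD₁ hD
  subst hz
  obtain ⟨g, _, hg⟩ := exists_conjPair_eq_of_isMaximalBrauerPair hM B _ e (conjBlock P₁ z e₁) hmax
    (isBrauerPairOf_conj hmax₁.1 z)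
  refine ⟨g * z, ?_⟩
  have h1 : Relation.ReflTransGen (NormalSubpairRel p M) (conjPair g (conjPair z ⟨Q, f⟩))
      (conjPair g (conjPair z ⟨P₁, e₁⟩)) := subpairLE_conjPair (subpairLE_conjPair hle z) g
  rw [conjPair_conjPair] at h1
  have h2 : conjPair g (conjPair z (⟨P₁, e₁⟩ : BrauerPairIdx G)) =
      ⟨P₁.map (MulAut.conj z).toMonoidHom, e⟩ := hg
  rw [h2] at h1
  exact h1

end Cfsg.Agent.S4660
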