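import Cfsg.Statements.S4656
import Cfsg.Agent.Lib.Helper77.BrauerUnstable

set_option autoImplicit false
open Cfsg

namespace Cfsg.Agent.S4656

open Cfsg.Agent.Lib Cfsg.Agent.Lib.Helper16 Cfsg.Agent.Lib.Helper77 MonoidAlgebra

/-- A finite family of "idempotents mod the ideal", pairwise orthogonal mod the ideal and summing
to `1` mod the ideal, has exactly one member congruent to `1`. -/
theorem exists_unique_idem_mod {M : Ideal AlgInt} [hMp : M.IsPrime]
    {ι : Type*} (s : Finset ι) (L : ι → ℂ)
    (hR : ∀ i ∈ s, MemLocalRing M (L i))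
    (hsq : ∀ i ∈ s, MemLocalIdeal M (L i - L i * L i))
    (hortho : ∀ i ∈ s, ∀ j ∈ s, i ≠ j → MemLocalIdeal M (L i * L j))
    (hsum : MemLocalIdeal M (∑ i ∈ s, L i - 1)) :
    ∃ i ∈ s, MemLocalIdeal M (L i - 1) ∧ ∀ j ∈ s, MemLocalIdeal M (L j - 1) → j = i := by
  have h1R : MemLocalRing M (1 : ℂ) := memLocalRing_one hMp.ne_top
  have hex : ∃ i ∈ s, ¬ MemLocalIdeal M (L i) := by
    by_contra hcon
    push Not at hcon
    apply one_not_memLocalIdeal (M := M)
    have h1 : MemLocalIdeal M (∑ i ∈ s, L i) := memLocalIdeal_sum _ _ hcon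
    have := memLocalIdeal_sub h1 hsum
    simpa using this
  obtain ⟨i, his, hi⟩ := hex
  have hi1 : MemLocalIdeal M (L i - 1) := by
    have h := hsq i his
    have e : L i - L i * L i = L i * (1 - L i) := by ring
    rw [e, memLocalIdeal_mul_iff (hR i his) (memLocalRing_sub h1R (hR i his))] at h
    rcases h with h | h
    · exact absurd h hi
    · have := memLocalIdeal_neg h
      rwa [neg_sub] at this
  refine ⟨i, his, hi1, ?_⟩
  intro j hjs hj1
  by_contra hne
  have h := hortho j hjs i his hne
  have h2 : MemLocalIdeal M (L j * L i - 1 * 1) :=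
    memLocalIdeal_mul_sub_mul (hR j hjs) h1R hj1 hi1
  apply one_not_memLocalIdeal (M := M)
  have := memLocalIdeal_sub h h2
  simpa using this

theorem conjInv_sum {G : Type*} [Group G] {ι : Type*} (S : Subgroup G) (s : Finset ι)
    (a : ι → MonoidAlgebra ℂ G) (h : ∀ i ∈ s, ConjInv S (a i)) : ConjInv S (∑ i ∈ s, a i) := by
  intro u hu x
  rw [coeff_sum, Finset.sum_apply', Finset.sum_apply']
  exact Finset.sum_congr rfl fun i hi => h i hi u hu x

/-- Fix a prime p and a maximal ideal M of the algebraic integers containing p. Let (P, e) be a Brauer pair of the finite group G and Q a normal subgroup of P. Then there is exactly one p-block f of C_G(Q) that is stable under conjugation by P and such that e occurs in the Brauer-map image at P of the idempotent of f; that is, exactly one f with (Q, f) normally below (P, e). -/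
theorem result {G : Type*} [Group G] [Fintype G] (p : ℕ) [Fact p.Prime] (M : Ideal Cfsg.AlgInt) (hM : Cfsg.IsPModular p M) (P Q : Subgroup G) (e : Set (Cfsg.IrrCharacter (Subgroup.centralizer (P : Set G)))) (hPe : Cfsg.IsBrauerPair p M P e) (hQP : Q ≤ P) (hPN : P ≤ Subgroup.normalizer (Q : Set G)) : ∃! f : Set (Cfsg.IrrCharacter (Subgroup.centralizer (Q : Set G))), Cfsg.IsNormalSubpair p M Q f P e := by
  classical
  have hMp : M.IsPrime := isPModular_isPrime hM
  have : Fintype (Subgroup.centralizer (P : Set G)) := Fintype.ofFinite _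
  have : Fintype (Subgroup.centralizer (Q : Set G)) := Fintype.ofFinite _
  obtain ⟨hP, ξ₀, rfl⟩ := hPe
  have hQ : IsPGroup p Q := hP.to_le hQP
  have hξ₀ : ξ₀ ∈ blockOf M (ξ₀ : Subgroup.centralizer (P : Set G) → ℂ) :=
    self_mem_blockOf hMp.ne_top ξ₀
  have hle : Subgroup.centralizer (P : Set G) ≤ Subgroup.centralizer (Q : Set G) :=
    Subgroup.centralizer_le hQP
  have hPH : P ≤ Subgroup.normalizer ((Subgroup.centralizer (Q : Set G) : Subgroup G) : Set G) :=
    hPN.trans (normalizer_le_normalizer_centralizer' Q)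
  -- the stable blocks
  obtain ⟨𝔖, h𝔖⟩ : ∃ 𝔖 : Finset (Set (IrrCharacter (Subgroup.centralizer (Q : Set G)))),
      𝔖 = (blocksFinset M (Subgroup.centralizer (Q : Set G))).filter
        (fun f => ∀ x ∈ P, StabilizesBlock (Subgroup.centralizer (Q : Set G)) f x) := ⟨_, rfl⟩
  have hmem𝔖 : ∀ f, f ∈ 𝔖 ↔ IsPBlock M f ∧
      ∀ x ∈ P, StabilizesBlock (Subgroup.centralizer (Q : Set G)) f x := by
    intro f
    rw [h𝔖, Finset.mem_filter, mem_blocksFinset]
  have hadm : ∀ f ∈ 𝔖, BrAdm M P (extend (Subgroup.centralizer (Q : Set G)) (idemOf f)) :=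
    fun f hf => brAdm_extend_idemOf hQP hPN ((hmem𝔖 f).mp hf).1 ((hmem𝔖 f).mp hf).2
  have hmulself : ∀ f : Set (IrrCharacter (Subgroup.centralizer (Q : Set G))),
      extend (Subgroup.centralizer (Q : Set G)) (idemOf f) *
        extend (Subgroup.centralizer (Q : Set G)) (idemOf f) =
        extend (Subgroup.centralizer (Q : Set G)) (idemOf f) := fun f => by
    rw [← extend_mul]
    congr 1
    exact congrArg Subtype.val (idemC_mul_self f)
  have hsumall : ∑ f ∈ blocksFinset M (Subgroup.centralizer (Q : Set G)),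
      extend (Subgroup.centralizer (Q : Set G)) (idemOf f) = 1 := by
    have h1 : ∑ f ∈ blocksFinset M (Subgroup.centralizer (Q : Set G)), idemOf f = 1 := by
      have := congrArg Subtype.val
        (sum_idemC_blocks (M := M) (G := Subgroup.centralizer (Q : Set G)))
      rw [AddSubmonoidClass.coe_finsetSum] at this
      exact this
    have h2 : extend (Subgroup.centralizer (Q : Set G))
        (∑ f ∈ blocksFinset M (Subgroup.centralizer (Q : Set G)), idemOf f) =
        ∑ f ∈ blocksFinset M (Subgroup.centralizer (Q : Set G)),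
          extend (Subgroup.centralizer (Q : Set G)) (idemOf f) := by
      unfold extend
      exact map_sum (MonoidAlgebra.mapDomainRingHom ℂ
        (Subgroup.centralizer (Q : Set G)).subtype) _ _
    rw [← h2, h1]
    unfold extend
    exact mapDomain_one _
  -- the unstable part
  obtain ⟨U, hU⟩ : ∃ U, U = ∑ f ∈ (blocksFinset M (Subgroup.centralizer (Q : Set G))).filter
      (fun f => ¬ ∀ x ∈ P, StabilizesBlock (Subgroup.centralizer (Q : Set G)) f x),
      extend (Subgroup.centralizer (Q : Set G)) (idemOf f) := ⟨_, rfl⟩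
  obtain ⟨S, hS⟩ : ∃ S, S = ∑ f ∈ 𝔖, extend (Subgroup.centralizer (Q : Set G)) (idemOf f) :=
    ⟨_, rfl⟩
  have hSU : S + U = 1 := by
    rw [hS, hU, h𝔖, Finset.sum_filter_add_sum_filter_not, hsumall]
  have hSadm : BrAdm M P S := by
    rw [hS]
    refine ⟨?_, conjInv_sum _ _ _ fun f hf => (hadm f hf).invP,
      conjInv_sum _ _ _ fun f hf => (hadm f hf).invC⟩
    intro g
    rw [coeff_sum, Finset.sum_apply']
    exact memLocalRing_sum _ _ fun f hf => (hadm f hf).ring g
  have hUadm : BrAdm M P U := by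
    have : U = 1 - S := by rw [← hSU]; abel
    rw [this]
    exact (brAdm_one P).sub hSadm
  have hUJ : CoeffsInIdeal M (trunc (Subgroup.centralizer (P : Set G)) U) := by
    intro z
    rw [coeff_trunc, hU, coeff_sum, Finset.sum_apply']
    have h1 := sum_unstable_memLocalIdeal hM P (Subgroup.centralizer (Q : Set G)) hP hPH
      ⟨(z : G), hle z.2⟩ z.2
    refine (memLocalIdeal_congr ?_).mpr h1
    rw [← Finset.sum_sub_distrib]
    apply memLocalIdeal_sum
    intro f _
    rw [coeff_extend_of_mem _ _ (hle z.2), coeff_idemOf, sub_self]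
    exact memLocalIdeal_zero hMp.ne_top
  obtain ⟨f, hf𝔖, hf1, hfuniq⟩ := exists_unique_idem_mod (M := M) 𝔖
    (fun f => omega (ξ₀ : Subgroup.centralizer (P : Set G) → ℂ)
      (trunc (Subgroup.centralizer (P : Set G))
        (extend (Subgroup.centralizer (Q : Set G)) (idemOf f))))
    (fun f hf => brOmega_memLocalRing ξ₀ (hadm f hf))
    (fun f hf => by
      have h := brOmega_mul hM hP ξ₀ (hadm f hf) (hadm f hf)
      rw [hmulself] at h
      exact h)
    (fun f hf f' hf' hne => by
      have h := brOmega_mul hM hP ξ₀ (hadm f hf) (hadm f' hf')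
      have hdisj : Disjoint f f' := by
        rw [Set.disjoint_left]
        intro ψ h1 h2
        exact hne (IsPBlock_eq_of_mem ((hmem𝔖 f).mp hf).1 ((hmem𝔖 f').mp hf').1 h1 h2)
      have h0 : extend (Subgroup.centralizer (Q : Set G)) (idemOf f) *
          extend (Subgroup.centralizer (Q : Set G)) (idemOf f') = 0 := by
        rw [← extend_mul]
        have : idemOf f * idemOf f' = 0 := congrArg Subtype.val (idemC_mul_of_disjoint hdisj)
        rw [this, extend_zero]
      rw [h0, trunc_zero, omega_zero, zero_sub] at h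
      have := memLocalIdeal_neg h
      rwa [neg_neg] at this)
    (by
      rw [← omega_sum, ← trunc_sum, ← hS]
      have h1 : omega (ξ₀ : Subgroup.centralizer (P : Set G) → ℂ)
          (trunc (Subgroup.centralizer (P : Set G)) (S + U)) = 1 := by
        rw [hSU, trunc_one]
        exact omega_one_irr ξ₀
      rw [trunc_add, omega_add] at h1
      have h2 : MemLocalIdeal M (omega (ξ₀ : Subgroup.centralizer (P : Set G) → ℂ)
          (trunc (Subgroup.centralizer (P : Set G)) U)) :=
        omega_memLocalIdeal ξ₀ (trunc_mem_center _ hUadm.invC) hUJ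
      have e : omega (ξ₀ : Subgroup.centralizer (P : Set G) → ℂ)
          (trunc (Subgroup.centralizer (P : Set G)) S) - 1 =
          - omega (ξ₀ : Subgroup.centralizer (P : Set G) → ℂ)
            (trunc (Subgroup.centralizer (P : Set G)) U) := by
        rw [← h1]; ring
      rw [e]
      exact memLocalIdeal_neg h2)
  have hfB := ((hmem𝔖 f).mp hf𝔖).1
  have hfstab := ((hmem𝔖 f).mp hf𝔖).2
  refine ⟨f, ⟨⟨hQ, hfB⟩, ⟨hP, ξ₀, rfl⟩, hQP, hPN, hfstab, ?_⟩, ?_⟩
  · intro ξ hξ
    rw [subgroupBlockCoeff_eq, brauerOmega_eq_omega]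
    have hsb : SameBlock M (ξ : Subgroup.centralizer (P : Set G) → ℂ)
        (ξ₀ : Subgroup.centralizer (P : Set G) → ℂ) := sameBlock_symm hξ
    have h1 := brOmega_congr hsb (hadm f hf𝔖)
    have := memLocalIdeal_add h1 hf1
    simpa using this
  · rintro f' ⟨⟨_, hf'B⟩, _, _, _, hf'stab, hω'⟩
    apply hfuniq f' ((hmem𝔖 f').mpr ⟨hf'B, hf'stab⟩)
    have := hω' ξ₀ hξ₀
    rw [subgroupBlockCoeff_eq, brauerOmega_eq_omega] at this
    exact this

end Cfsg.Agent.S4656
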