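import Cfsg.Statements.S4655
import Cfsg.Agent.Lib.Helper77.BrauerNormalLe
import Cfsg.Agent.S4656

set_option autoImplicit false
open Cfsg

namespace Cfsg.Agent.S4655

open Cfsg.Agent.Lib Cfsg.Agent.Lib.Helper16 Cfsg.Agent.Lib.Helper77 MonoidAlgebra

section

variable {G : Type*} [Group G] [Fintype G] {p : ℕ} [Fact p.Prime] {M : Ideal AlgInt}

omit [Fintype G] [Fact p.Prime] in
theorem rel_le {a b : BrauerPairIdx G} (h : NormalSubpairRel p M a b) : a.1 ≤ b.1 := h.2.2.1

omit [Fintype G] [Fact p.Prime] in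
theorem le_le {a b : BrauerPairIdx G} (h : Relation.ReflTransGen (NormalSubpairRel p M) a b) :
    a.1 ≤ b.1 := by
  induction h with
  | refl => exact le_rfl
  | tail _ hbc ih => exact ih.trans (rel_le hbc)

omit [Fintype G] [Fact p.Prime] in
theorem le_pair_left {a b : BrauerPairIdx G}
    (h : Relation.ReflTransGen (NormalSubpairRel p M) a b) (hb : IsBrauerPair p M b.1 b.2) :
    IsBrauerPair p M a.1 a.2 := by
  induction h using Relation.ReflTransGen.head_induction_on with
  | refl => exact hb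
  | head hab _ _ => exact hab.1

omit [Fact p.Prime] in
/-- A normal step between pairs with the same subgroup is trivial. -/
theorem rel_eq_of_fst_eq (hM : IsPModular p M) {a b : BrauerPairIdx G}
    (h : NormalSubpairRel p M a b) (heq : a.1 = b.1) : a = b := by
  classical
  have hMp : M.IsPrime := isPModular_isPrime hM
  obtain ⟨Q, f⟩ := a
  obtain ⟨P, e⟩ := b
  simp only at heq
  subst heq
  have : Fintype (Subgroup.centralizer (Q : Set G)) := Fintype.ofFinite _
  obtain ⟨hQf, hQe, _, _, _, hω⟩ := h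
  simp only at hQf hQe hω
  obtain ⟨ε₀, he⟩ := hQe.2
  have hε₀ : ε₀ ∈ e := by rw [he]; exact self_mem_blockOf hMp.ne_top ε₀
  have h1 := hω ε₀ hε₀
  rw [subgroupBlockCoeff_eq, brauerOmega_eq_omega, trunc_extend] at h1
  have h2 : omega (ε₀ : Subgroup.centralizer (Q : Set G) → ℂ) (idemOf f) =
      omegaHom ε₀ (idemC f) := rfl
  rw [h2, omegaHom_idemC] at h1
  have hmem : ε₀ ∈ f := by
    by_contra hcon
    rw [if_neg hcon, zero_sub] at h1
    apply one_not_memLocalIdeal (M := M)
    have := memLocalIdeal_neg h1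
    rwa [neg_neg] at this
  have : f = e := IsPBlock_eq_of_mem hQf.2 hQe.2 hmem hε₀
  rw [this]

omit [Fact p.Prime] in
theorem le_eq_of_fst_eq (hM : IsPModular p M) {a b : BrauerPairIdx G}
    (h : Relation.ReflTransGen (NormalSubpairRel p M) a b) (heq : a.1 = b.1) : a = b := by
  induction h with
  | refl => rfl
  | tail hab hbc ih =>
    rename_i b' c
    have h1 : a.1 ≤ b'.1 := le_le hab
    have h2 : b'.1 ≤ c.1 := rel_le hbc
    have h3 : b'.1 = c.1 := le_antisymm h2 (heq ▸ h1)
    have h4 : b' = c := rel_eq_of_fst_eq hM hbc h3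
    rw [← h4]
    exact ih (heq.trans h3.symm)

omit [Fact p.Prime] in
/-- From a chain between pairs with different subgroups one can extract a first proper step. -/
theorem exists_proper_step (hM : IsPModular p M) {a b : BrauerPairIdx G}
    (h : Relation.ReflTransGen (NormalSubpairRel p M) a b) (hne : a.1 ≠ b.1) :
    ∃ a₁, NormalSubpairRel p M a a₁ ∧ Relation.ReflTransGen (NormalSubpairRel p M) a₁ b ∧
      a.1 < a₁.1 := by
  induction h using Relation.ReflTransGen.head_induction_on with
  | refl => exact absurd rfl hne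
  | head hab hbc ih =>
    rename_i a a'
    by_cases heq : a.1 = a'.1
    · have : a = a' := rel_eq_of_fst_eq hM hab heq
      subst this
      exact ih hne
    · exact ⟨a', hab, hbc, lt_of_le_of_ne (rel_le hab) heq⟩

/-- **Lemma D**: a pair normally below `c` is normally below every pair of a chain below `c` whose
subgroup contains it. -/
theorem rel_of_rel_of_le (hM : IsPModular p M) (q : BrauerPairIdx G) {b c : BrauerPairIdx G}
    (hqc : NormalSubpairRel p M q c)
    (hbc : Relation.ReflTransGen (NormalSubpairRel p M) b c) (hqb : q.1 ≤ b.1) :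
    NormalSubpairRel p M q b := by
  have hMp : M.IsPrime := isPModular_isPrime hM
  induction hbc using Relation.ReflTransGen.head_induction_on with
  | refl => exact hqc
  | head hbb' hb'c ih =>
    rename_i b b'
    have h1 : NormalSubpairRel p M q b' := ih (hqb.trans (rel_le hbb'))
    have : Fintype (Subgroup.centralizer (q.1 : Set G)) := Fintype.ofFinite _
    have : Fintype (Subgroup.centralizer (b.1 : Set G)) := Fintype.ofFinite _
    have : Fintype (Subgroup.centralizer (b'.1 : Set G)) := Fintype.ofFinite _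
    exact isNormalSubpair_of_le hM h1 hbb' hqb

omit [Fintype G] [Fact p.Prime] in
/-- Normalizers grow in nilpotent subgroups. -/
theorem exists_mem_normalizer_not_mem' {D P : Subgroup G}
    (hP : Group.IsNilpotent P) (hDP : D < P) :
    ∃ x ∈ P, x ∈ Subgroup.normalizer (D : Set G) ∧ x ∉ D := by
  have hlt : D.subgroupOf P < ⊤ := by
    rw [lt_top_iff_ne_top, Ne, Subgroup.subgroupOf_eq_top]
    exact not_le_of_gt hDP
  have h := Group.normalizerCondition_of_isNilpotent (G := P) (D.subgroupOf P) hlt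
  rw [← Subgroup.subgroupOf_normalizer_eq hDP.le] at h
  obtain ⟨x, hx1, hx2⟩ := SetLike.exists_of_lt h
  exact ⟨x, x.2, Subgroup.mem_subgroupOf.mp hx1, fun hx => hx2 (Subgroup.mem_subgroupOf.mpr hx)⟩

/-- For `Q < P` with `P` a `p`-group: `N_P(Q)` is strictly bigger than `Q`. -/
theorem lt_inf_normalizer {P Q : Subgroup G} (hP : IsPGroup p P) (hQP : Q < P) :
    Q < P ⊓ Subgroup.normalizer (Q : Set G) := by
  have hnil : Group.IsNilpotent P := hP.isNilpotent
  obtain ⟨x, hxP, hxN, hxQ⟩ := exists_mem_normalizer_not_mem' hnil hQP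
  refine lt_of_le_of_ne (le_inf hQP.le Subgroup.le_normalizer) ?_
  intro h
  apply hxQ
  rw [h]
  exact ⟨hxP, hxN⟩

omit [Fact p.Prime] in
theorem card_lt_card_of_lt {A B : Subgroup G} (h : A < B) : Nat.card A < Nat.card B := by
  classical
  exact Set.ncard_lt_ncard (s := (A : Set G)) (t := (B : Set G)) h (Set.toFinite _)

theorem exists_le (hM : IsPModular p M) : ∀ (n : ℕ) (b : BrauerPairIdx G),
    IsBrauerPair p M b.1 b.2 → ∀ Q : Subgroup G, Q ≤ b.1 → Nat.card b.1 - Nat.card Q ≤ n →
    ∃ f : Set (IrrCharacter (Subgroup.centralizer (Q : Set G))),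
      IsPBlock M f ∧ Relation.ReflTransGen (NormalSubpairRel p M) ⟨Q, f⟩ b := by
  intro n
  induction n with
  | zero =>
    intro b hb Q hQ hn
    have hcard : Nat.card b.1 ≤ Nat.card Q := by omega
    have hQeq : Q = b.1 := by
      by_contra hne
      have := card_lt_card_of_lt (lt_of_le_of_ne hQ hne)
      omega
    subst hQeq
    exact ⟨b.2, hb.2, by rw [Sigma.eta]⟩
  | succ n ih =>
    intro b hb Q hQ hn
    by_cases hQeq : Q = b.1
    · subst hQeq
      exact ⟨b.2, hb.2, by rw [Sigma.eta]⟩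
    · have hlt : Q < b.1 := lt_of_le_of_ne hQ hQeq
      have hN := lt_inf_normalizer hb.1 hlt
      have hc1 := card_lt_card_of_lt hN
      obtain ⟨g, hg, hgle⟩ := ih b hb (b.1 ⊓ Subgroup.normalizer (Q : Set G)) inf_le_left
        (by omega)
      have hNg : IsBrauerPair p M (b.1 ⊓ Subgroup.normalizer (Q : Set G)) g :=
        ⟨hb.1.to_le inf_le_left, hg⟩
      obtain ⟨f, hf, _⟩ := Cfsg.Agent.S4656.result p M hM
        (b.1 ⊓ Subgroup.normalizer (Q : Set G)) Q g hNg hN.le inf_le_right
      exact ⟨f, hf.1.2, Relation.ReflTransGen.head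
        (show NormalSubpairRel p M ⟨Q, f⟩ ⟨b.1 ⊓ Subgroup.normalizer (Q : Set G), g⟩ from hf) hgle⟩

theorem unique_le (hM : IsPModular p M) : ∀ (n : ℕ) (b : BrauerPairIdx G),
    IsBrauerPair p M b.1 b.2 → ∀ Q : Subgroup G, Q ≤ b.1 → Nat.card b.1 - Nat.card Q ≤ n →
    ∀ f f' : Set (IrrCharacter (Subgroup.centralizer (Q : Set G))),
      Relation.ReflTransGen (NormalSubpairRel p M) ⟨Q, f⟩ b →
      Relation.ReflTransGen (NormalSubpairRel p M) ⟨Q, f'⟩ b → f = f' := by
  intro n
  induction n with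
  | zero =>
    intro b hb Q hQ hn f f' hf hf'
    have hQeq : Q = b.1 := by
      by_contra hne
      have := card_lt_card_of_lt (lt_of_le_of_ne hQ hne)
      omega
    have h1 := le_eq_of_fst_eq hM hf hQeq
    have h2 := le_eq_of_fst_eq hM hf' hQeq
    have h3 : (⟨Q, f⟩ : BrauerPairIdx G) = ⟨Q, f'⟩ := h1.trans h2.symm
    exact eq_of_heq (Sigma.mk.inj_iff.mp h3).2
  | succ n ih =>
    intro b hb Q hQ hn f f' hf hf'
    by_cases hQeq : Q = b.1
    · have h1 := le_eq_of_fst_eq hM hf hQeq
      have h2 := le_eq_of_fst_eq hM hf' hQeq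
      have h3 : (⟨Q, f⟩ : BrauerPairIdx G) = ⟨Q, f'⟩ := h1.trans h2.symm
      exact eq_of_heq (Sigma.mk.inj_iff.mp h3).2
    · have hlt : Q < b.1 := lt_of_le_of_ne hQ hQeq
      have hN := lt_inf_normalizer hb.1 hlt
      have hc1 := card_lt_card_of_lt hN
      obtain ⟨g, hg, hgle⟩ := exists_le hM n b hb (b.1 ⊓ Subgroup.normalizer (Q : Set G))
        inf_le_left (by omega)
      have hNg : IsBrauerPair p M (b.1 ⊓ Subgroup.normalizer (Q : Set G)) g :=
        ⟨hb.1.to_le inf_le_left, hg⟩
      have hEU := Cfsg.Agent.S4656.result p M hM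
        (b.1 ⊓ Subgroup.normalizer (Q : Set G)) Q g hNg hN.le inf_le_right
      -- every `f` below `b` is normally below `(N, g)`
      have claim : ∀ f₀ : Set (IrrCharacter (Subgroup.centralizer (Q : Set G))),
          Relation.ReflTransGen (NormalSubpairRel p M) ⟨Q, f₀⟩ b →
          IsNormalSubpair p M Q f₀ (b.1 ⊓ Subgroup.normalizer (Q : Set G)) g := by
        intro f₀ hf₀
        obtain ⟨a₁, hstep, ha₁b, hQa₁'⟩ := exists_proper_step hM hf₀ hQeq
        have hQa₁ : Q < a₁.1 := hQa₁'
        have ha₁P : a₁.1 ≤ b.1 := le_le ha₁b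
        have ha₁NQ : a₁.1 ≤ Subgroup.normalizer (Q : Set G) := hstep.2.2.2.1
        have ha₁N : a₁.1 ≤ b.1 ⊓ Subgroup.normalizer (Q : Set G) := le_inf ha₁P ha₁NQ
        have ha₁pair : IsBrauerPair p M a₁.1 a₁.2 := hstep.2.1
        have hc2 := card_lt_card_of_lt hQa₁
        -- `a₁` lies below `(N, g)`
        obtain ⟨f₁', hf₁', hf₁'le⟩ := exists_le hM n
          (⟨b.1 ⊓ Subgroup.normalizer (Q : Set G), g⟩ : BrauerPairIdx G) hNg a₁.1 ha₁N
          (by
            have := Subgroup.card_le_of_le (inf_le_left :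
              b.1 ⊓ Subgroup.normalizer (Q : Set G) ≤ b.1)
            show Nat.card (b.1 ⊓ Subgroup.normalizer (Q : Set G) : Subgroup G) - _ ≤ n
            omega)
        have hf₁'b : Relation.ReflTransGen (NormalSubpairRel p M) ⟨a₁.1, f₁'⟩ b :=
          hf₁'le.trans hgle
        have ha₁b' : Relation.ReflTransGen (NormalSubpairRel p M) ⟨a₁.1, a₁.2⟩ b := by
          rw [Sigma.eta]; exact ha₁b
        have heq : f₁' = a₁.2 := ih b hb a₁.1 ha₁P (by omega) f₁' a₁.2 hf₁'b ha₁b'
        have ha₁le : Relation.ReflTransGen (NormalSubpairRel p M) a₁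
            ⟨b.1 ⊓ Subgroup.normalizer (Q : Set G), g⟩ := by
          rw [heq, Sigma.eta] at hf₁'le
          exact hf₁'le
        -- the block normally below `(N, g)`
        obtain ⟨f'', hf'', _⟩ := hEU
        have hf''a₁ : NormalSubpairRel p M ⟨Q, f''⟩ a₁ :=
          rel_of_rel_of_le hM ⟨Q, f''⟩
            (show NormalSubpairRel p M ⟨Q, f''⟩
              ⟨b.1 ⊓ Subgroup.normalizer (Q : Set G), g⟩ from hf'') ha₁le hQa₁.le
        have hEU₁ := Cfsg.Agent.S4656.result p M hM a₁.1 Q a₁.2 ha₁pair hQa₁.le ha₁NQ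
        have : f₀ = f'' := hEU₁.unique hstep hf''a₁
        rw [this]
        exact hf''
      exact hEU.unique (claim f hf) (claim f' hf')

end

/-- Fix a prime p and a maximal ideal M of the algebraic integers containing p. Let (P, e) be a Brauer pair of the finite group G (P a p-subgroup, e a p-block of C_G(P)) and Q a subgroup of P. Then there is exactly one p-block f of C_G(Q) such that the Brauer pair (Q, f) lies below (P, e). -/
theorem result {G : Type*} [Group G] [Fintype G] (p : ℕ) [Fact p.Prime] (M : Ideal Cfsg.AlgInt) (hM : Cfsg.IsPModular p M) (P Q : Subgroup G) (e : Set (Cfsg.IrrCharacter (Subgroup.centralizer (P : Set G)))) (hPe : Cfsg.IsBrauerPair p M P e) (hQP : Q ≤ P) : ∃! f : Set (Cfsg.IrrCharacter (Subgroup.centralizer (Q : Set G))), Cfsg.IsPBlock M f ∧ Cfsg.SubpairLE p M Q f P e := by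
  obtain ⟨f, hf, hfle⟩ := exists_le hM (Nat.card P - Nat.card Q) (⟨P, e⟩ : BrauerPairIdx G) hPe Q
    hQP le_rfl
  refine ⟨f, ⟨hf, hfle⟩, ?_⟩
  rintro f' ⟨_, hf'le⟩
  exact unique_le hM (Nat.card P - Nat.card Q) (⟨P, e⟩ : BrauerPairIdx G) hPe Q hQP le_rfl
    f' f hf'le hfle

end Cfsg.Agent.S4655
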