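import Cfsg.Statements.S4658
import Cfsg.Agent.Lib.Helper77.BrauerPairs
import Cfsg.Agent.S4657

set_option autoImplicit false
open Cfsg

namespace Cfsg.Agent.S4658

open Cfsg.Agent.Lib Cfsg.Agent.Lib.Helper16 Cfsg.Agent.Lib.Helper77

/-- One normal step: `(Q, f) ⊴ (P, e)`; then `(P, e)` is a `B`-pair iff `(Q, f)` is. -/
theorem step_iff {G : Type*} [Group G] [Fintype G] (p : ℕ) [Fact p.Prime] (M : Ideal AlgInt)
    (hM : IsPModular p M) (P Q : Subgroup G)
    (e : Set (IrrCharacter (Subgroup.centralizer (P : Set G))))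
    (f : Set (IrrCharacter (Subgroup.centralizer (Q : Set G))))
    (hN : IsNormalSubpair p M Q f P e) (B : Set (IrrCharacter G)) :
    IsBrauerPairOf p M B P e ↔ IsBrauerPairOf p M B Q f := by
  have hMp : M.IsPrime := isPModular_isPrime hM
  have : Fintype (Subgroup.centralizer (P : Set G)) := Fintype.ofFinite _
  have : Fintype (Subgroup.centralizer (Q : Set G)) := Fintype.ofFinite _
  constructor
  · intro hP
    obtain ⟨B', hB', _⟩ := Cfsg.Agent.S4657.result p M hM Q f hN.1
    have hB'P : IsBrauerPairOf p M B' P e := isBrauerPairOf_of_isNormalSubpair hM hN hB'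
    have := (Cfsg.Agent.S4657.result p M hM P e hN.2.1).unique hP hB'P
    rw [this]
    exact hB'
  · intro hQ
    exact isBrauerPairOf_of_isNormalSubpair hM hN hQ

theorem chain_iff {G : Type*} [Group G] [Fintype G] (p : ℕ) [Fact p.Prime] (M : Ideal AlgInt)
    (hM : IsPModular p M) (B : Set (IrrCharacter G)) (a b : BrauerPairIdx G)
    (h : Relation.ReflTransGen (NormalSubpairRel p M) a b) :
    IsBrauerPairOf p M B b.1 b.2 ↔ IsBrauerPairOf p M B a.1 a.2 := by
  induction h with
  | refl => exact Iff.rfl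
  | tail _ hbc ih => exact (step_iff p M hM _ _ _ _ hbc B).trans ih

/-- Fix a prime p and a maximal ideal M of the algebraic integers containing p. Let (Q, f) ≤ (P, e) be Brauer pairs of the finite group G and B a p-block of G. Then (P, e) is a Brauer pair of B if and only if (Q, f) is. -/
theorem result {G : Type*} [Group G] [Fintype G] (p : ℕ) [Fact p.Prime] (M : Ideal Cfsg.AlgInt) (hM : Cfsg.IsPModular p M) (P Q : Subgroup G) (e : Set (Cfsg.IrrCharacter (Subgroup.centralizer (P : Set G)))) (f : Set (Cfsg.IrrCharacter (Subgroup.centralizer (Q : Set G)))) (hPe : Cfsg.IsBrauerPair p M P e) (hQf : Cfsg.IsBrauerPair p M Q f) (hle : Cfsg.SubpairLE p M Q f P e) (B : Set (Cfsg.IrrCharacter G)) (hB : Cfsg.IsPBlock M B) : Cfsg.IsBrauerPairOf p M B P e ↔ Cfsg.IsBrauerPairOf p M B Q f := by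
  exact chain_iff p M hM B ⟨Q, f⟩ ⟨P, e⟩ hle

end Cfsg.Agent.S4658
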