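import Cfsg.Statements.S4687
import Cfsg.Agent.Lib.Helper16.NilStab
import Cfsg.Agent.Lib.Helper16.AbelianDefect
import Cfsg.Agent.S4660

set_option autoImplicit false
open Cfsg Cfsg.Agent.Lib.Helper16

namespace Cfsg.Agent.S4687

/-- Fix a prime p and a maximal ideal M of the algebraic integers containing p, and a p-block B of the finite group G with maximal Brauer pair (P, e), P abelian. Then B is nilpotent if and only if its inertial quotient is trivial: every element of N_G(P) stabilizing e centralizes P. -/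
theorem result {G : Type*} [Group G] [Fintype G] (p : ℕ) [Fact p.Prime] (M : Ideal Cfsg.AlgInt) (hM : Cfsg.IsPModular p M) (B : Set (Cfsg.IrrCharacter G)) (P : Subgroup G) (e : Set (Cfsg.IrrCharacter (Subgroup.centralizer (P : Set G)))) (hmax : Cfsg.IsMaximalBrauerPair p M B P e) (hab : ∀ x ∈ P, ∀ y ∈ P, x * y = y * x) : Cfsg.IsNilpotentBlock p M B ↔ ∀ x : G, x ∈ Subgroup.normalizer (P : Set G) → Cfsg.StabilizesBlock (Subgroup.centralizer (P : Set G)) e x → x ∈ Subgroup.centralizer (P : Set G) := by
  classical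
  have hMp := isPModular_isPrime hM
  have hPe : IsBrauerPair p M P e := hmax.1.1
  have hB : IsPBlock M B := hmax.1.2.1
  have hPCP : P ≤ Subgroup.centralizer (P : Set G) := by
    intro y hy
    rw [Subgroup.mem_centralizer_iff]
    intro q hq
    exact hab q hq y hy
  constructor
  · -- nilpotent implies trivial inertial quotient
    intro hnil x hxN hxS
    have hT := mem_stabSubgroup_iff P e
    have : Fintype ↥(stabSubgroup P e) := Fintype.ofFinite _
    have hPT : P ≤ stabSubgroup P e := le_stab hT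
    have hTN : stabSubgroup P e ≤ Subgroup.normalizer (P : Set G) := stab_le_normalizer hT
    have hCT : Subgroup.centralizer (P : Set G) ≤ stabSubgroup P e := centralizer_le_stab hT
    have hst := stab_stabilizes hT
    obtain ⟨F', hF', hF'f, hpair⟩ := exists_block_of_stable' hM P (stabSubgroup P e) hPe.1 hPT hTN
      hCT e hPe.2 hst
    have hmaxL := isMaximalBrauerPair_restrictPair hM hmax hPT hCT le_rfl hPT hCT hpair
    have hD := isDefectGroup_of_isMaximalBrauerPair hM F' _ _ hmaxL
    have hreg : ∀ y ∈ stabSubgroup P e, IsPRegular p y →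
        y ∈ Subgroup.centralizer (P : Set G) := by
      intro y hy hyreg
      exact hnil.2 P e hmax.1 y ((hT y).mp hy).1 ((hT y).mp hy).2 hyreg
    obtain ⟨d, hd, c, hc, hdc⟩ := exists_mul_of_mem_of_regular hM P (stabSubgroup P e) hPe.1 hPT
      hTN hCT e hPe.2 hst hF' hF'f hreg hD x ((hT x).mpr ⟨hxN, hxS⟩)
    rw [hdc]
    exact Subgroup.mul_mem _ (hPCP hd) hc
  · -- trivial inertial quotient implies nilpotent
    intro h
    refine ⟨hB, ?_⟩
    intro Q f hQf x hxN hxS hxreg
    obtain ⟨z, hz⟩ := Cfsg.Agent.S4660.result p M hM B P Q e f hmax hQf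
    have hQ₁P : Q.map (MulAut.conj z).toMonoidHom ≤ P := Cfsg.Agent.S4655.le_le hz
    have hQ₁ : IsPGroup p (Q.map (MulAut.conj z).toMonoidHom) :=
      (Cfsg.Agent.S4655.le_pair_left hz hPe).1
    have hfix : conjPair (z * x * z⁻¹) (conjPair z (⟨Q, f⟩ : BrauerPairIdx G)) =
        conjPair z ⟨Q, f⟩ := by
      rw [conjPair_conjPair]
      have h1 : z * x * z⁻¹ * z = z * x := by group
      rw [h1, ← conjPair_conjPair, conjPair_eq_self_of_stabilizes hxN hxS]
    obtain ⟨hx₁N, hx₁S⟩ := stabilizes_of_conjPair_eq_self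
      (P := Q.map (MulAut.conj z).toMonoidHom) (e := conjBlock Q z f) hfix
    have hPC : P ≤ Subgroup.centralizer
        ((Q.map (MulAut.conj z).toMonoidHom : Subgroup G) : Set G) :=
      hPCP.trans (Subgroup.centralizer_le hQ₁P)
    obtain ⟨t, ht, htfix⟩ := exists_mul_conjPair_eq_self hM hmax hz hPC hx₁N hx₁S
    obtain ⟨htN, htS⟩ := stabilizes_of_conjPair_eq_self htfix
    have htC : t * (z * x * z⁻¹) ∈ Subgroup.centralizer
        ((Q.map (MulAut.conj z).toMonoidHom : Subgroup G) : Set G) :=
      Subgroup.centralizer_le hQ₁P (h _ htN htS)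
    have hx₁L : z * x * z⁻¹ ∈ Q.map (MulAut.conj z).toMonoidHom ⊔ Subgroup.centralizer
        ((Q.map (MulAut.conj z).toMonoidHom : Subgroup G) : Set G) := by
      have h1 : z * x * z⁻¹ = t⁻¹ * (t * (z * x * z⁻¹)) := by group
      rw [h1]
      exact Subgroup.mul_mem _ (Subgroup.inv_mem _ ht) (le_sup_right (a := Q.map (MulAut.conj z).toMonoidHom) htC)
    have hreg₁ : IsPRegular p (z * x * z⁻¹) := by
      unfold IsPRegular
      have h1 : orderOf (z * x * z⁻¹) = orderOf x := (MulAut.conj z).orderOf_eq x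
      rw [h1]
      exact hxreg
    have hx₁C := mem_centralizer_of_isPRegular_of_mem_sup hQ₁ hx₁L hreg₁
    have h2 := (mem_centralizer_map_conj_iff Q z _).mp hx₁C
    have h3 : z⁻¹ * (z * x * z⁻¹) * z = x := by group
    rwa [h3] at h2

end Cfsg.Agent.S4687
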