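import Cfsg.Statements.S0266
import Mathlib
-- import your own Cfsg.Agent.* helpers here

set_option autoImplicit false
open scoped MatrixGroups
open Cfsg

namespace Cfsg.Agent.S0266

open Matrix Projectivization
open scoped MatrixGroups LinearAlgebra.Projectivization

variable {F : Type*} [Field F]

theorem exists_smul_of_det_zero {u v : Fin 2 → F} (hu : u ≠ 0) (hv : v ≠ 0)
    (h : u 0 * v 1 - u 1 * v 0 = 0) : ∃ t : Fˣ, t • v = u := by
  by_cases hv0 : v 0 = 0
  · have hv1 : v 1 ≠ 0 := by
      intro h1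
      apply hv
      ext i
      fin_cases i
      · exact hv0
      · exact h1
    have hu0 : u 0 = 0 := by
      rw [hv0, mul_zero, sub_zero] at h
      exact (mul_eq_zero.mp h).resolve_right hv1
    have hu1 : u 1 ≠ 0 := by
      intro h1
      apply hu
      ext i
      fin_cases i
      · exact hu0
      · exact h1
    refine ⟨Units.mk0 (u 1 / v 1) (div_ne_zero hu1 hv1), ?_⟩
    ext i
    fin_cases i
    · simp [Units.smul_def, hv0, hu0]
    · simp [Units.smul_def]; field_simp
  · have hu0 : u 0 ≠ 0 := by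
      intro h0
      rw [h0, zero_mul, zero_sub, neg_eq_zero] at h
      have hu1 : u 1 = 0 := (mul_eq_zero.mp h).resolve_right hv0
      apply hu
      ext i
      fin_cases i
      · exact h0
      · exact hu1
    refine ⟨Units.mk0 (u 0 / v 0) (div_ne_zero hu0 hv0), ?_⟩
    ext i
    fin_cases i
    · simp [Units.smul_def]; field_simp
    · simp [Units.smul_def]
      field_simp
      linear_combination h

theorem det_ne_zero_of_mk_ne {u v : Fin 2 → F} (hu : u ≠ 0) (hv : v ≠ 0)
    (h : Projectivization.mk F u hu ≠ Projectivization.mk F v hv) : u 0 * v 1 - u 1 * v 0 ≠ 0 := by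
  intro h0
  apply h
  rw [mk_eq_mk_iff]
  exact exists_smul_of_det_zero hu hv h0

/-- The three standard points. -/
def e0 (F : Type*) [Field F] : Fin 2 → F := ![1, 0]
def e1 (F : Type*) [Field F] : Fin 2 → F := ![0, 1]
def e2 (F : Type*) [Field F] : Fin 2 → F := ![1, 1]

theorem e0_ne : e0 F ≠ 0 := by
  intro h; have := congrFun h 0; simp [e0] at this
theorem e1_ne : e1 F ≠ 0 := by
  intro h; have := congrFun h 1; simp [e1] at this
theorem e2_ne : e2 F ≠ 0 := by
  intro h; have := congrFun h 0; simp [e2] at this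

theorem gl_smul_eq (g : GL (Fin 2) F) (v : Fin 2 → F) : g • v = g.1 *ᵥ v := rfl

/-- Any three distinct points are the image of the standard triple. -/
theorem exists_pgl_smul (a b c : ℙ F (Fin 2 → F)) (hab : a ≠ b) (hac : a ≠ c) (hbc : b ≠ c) :
    ∃ g : PGL(Fin 2, F), g • Projectivization.mk F (e0 F) e0_ne = a ∧
      g • Projectivization.mk F (e1 F) e1_ne = b ∧ g • Projectivization.mk F (e2 F) e2_ne = c := by
  induction a using Projectivization.ind with | _ u hu =>
  induction b using Projectivization.ind with | _ v hv =>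
  induction c using Projectivization.ind with | _ w hw =>
  have hD := det_ne_zero_of_mk_ne hu hv hab
  have hα := det_ne_zero_of_mk_ne hw hv (Ne.symm hbc)
  have hβ := det_ne_zero_of_mk_ne hu hw hac
  set D := u 0 * v 1 - u 1 * v 0 with hDdef
  set α := (w 0 * v 1 - w 1 * v 0) / D with hαdef
  set β := (u 0 * w 1 - u 1 * w 0) / D with hβdef
  have hα0 : α ≠ 0 := div_ne_zero hα hD
  have hβ0 : β ≠ 0 := div_ne_zero hβ hD
  have hdet : (!![α * u 0, β * v 0; α * u 1, β * v 1] : Matrix (Fin 2) (Fin 2) F).det ≠ 0 := by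
    rw [det_fin_two_of]
    have : α * u 0 * (β * v 1) - β * v 0 * (α * u 1) = α * β * D := by rw [hDdef]; ring
    rw [this]
    exact mul_ne_zero (mul_ne_zero hα0 hβ0) hD
  refine ⟨Matrix.ProjGenLinGroup.mk (GeneralLinearGroup.mkOfDetNeZero _ hdet), ?_, ?_, ?_⟩
  · rw [PGL.mk_smul_mk, mk_eq_mk_iff]
    refine ⟨Units.mk0 α hα0, ?_⟩
    rw [gl_smul_eq]
    ext i
    fin_cases i <;> simp [e0, Units.smul_def, GeneralLinearGroup.mkOfDetNeZero, hα0]
  · rw [PGL.mk_smul_mk, mk_eq_mk_iff]
    refine ⟨Units.mk0 β hβ0, ?_⟩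
    rw [gl_smul_eq]
    ext i
    fin_cases i <;> simp [e1, Units.smul_def, GeneralLinearGroup.mkOfDetNeZero, hβ0]
  · rw [PGL.mk_smul_mk, mk_eq_mk_iff]
    refine ⟨1, ?_⟩
    rw [gl_smul_eq, one_smul]
    ext i
    fin_cases i
    · simp [e2, GeneralLinearGroup.mkOfDetNeZero, hαdef, hβdef]
      field_simp
      rw [hDdef]; ring
    · simp [e2, GeneralLinearGroup.mkOfDetNeZero, hαdef, hβdef]
      field_simp
      rw [hDdef]; ring

/-- An element fixing the three standard points is trivial. -/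
theorem eq_one_of_fix_std (g : PGL(Fin 2, F)) (h0 : g • Projectivization.mk F (e0 F) e0_ne = Projectivization.mk F (e0 F) e0_ne)
    (h1 : g • Projectivization.mk F (e1 F) e1_ne = Projectivization.mk F (e1 F) e1_ne)
    (h2 : g • Projectivization.mk F (e2 F) e2_ne = Projectivization.mk F (e2 F) e2_ne) : g = 1 := by
  obtain ⟨M, rfl⟩ := Matrix.ProjGenLinGroup.mk_surjective g
  rw [PGL.mk_smul_mk, mk_eq_mk_iff] at h0 h1 h2
  obtain ⟨l, hl⟩ := h0
  obtain ⟨m, hm⟩ := h1
  obtain ⟨n, hn⟩ := h2
  rw [gl_smul_eq] at hl hm hn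
  have hl0 := congrFun hl 0
  have hl1 := congrFun hl 1
  have hm0 := congrFun hm 0
  have hm1 := congrFun hm 1
  have hn0 := congrFun hn 0
  have hn1 := congrFun hn 1
  simp [e0, e1, e2, Units.smul_def, Matrix.mulVec, dotProduct, Fin.sum_univ_two] at hl0 hl1 hm0 hm1 hn0 hn1
  rw [Matrix.ProjGenLinGroup.mk_eq_one, GeneralLinearGroup.center_eq_range_scalar]
  have hM00 : M.1 0 0 ≠ 0 := by
    intro h
    rw [h] at hl0
    exact l.ne_zero hl0
  refine ⟨Units.mk0 (M.1 0 0) hM00, ?_⟩
  apply Units.ext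
  ext i j
  have hM10 : M.1 1 0 = 0 := hl1.symm
  have hM01 : M.1 0 1 = 0 := hm0.symm
  have hM11 : M.1 1 1 = M.1 0 0 := by
    rw [hM01, add_zero] at hn0
    rw [hM10, zero_add] at hn1
    rw [← hn0, ← hn1]
  fin_cases i <;> fin_cases j <;> simp [GeneralLinearGroup.scalar, hM10, hM01, hM11]


/-- PGL_2(F) is sharply 3-transitive on the projective line: it is 3-transitive and the stabiliser of three distinct points is trivial. -/
theorem result {F : Type*} [Field F] : MulAction.IsMultiplyPretransitive (Matrix.ProjGenLinGroup (Fin 2) F) (Projectivization F (Fin 2 → F)) 3 ∧ ∀ (g : Matrix.ProjGenLinGroup (Fin 2) F) (a b c : Projectivization F (Fin 2 → F)), a ≠ b → a ≠ c → b ≠ c → g • a = a → g • b = b → g • c = c → g = 1 := by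
  constructor
  · constructor
    intro x y
    have hx01 : x 0 ≠ x 1 := fun h => by simpa using x.injective h
    have hx02 : x 0 ≠ x 2 := fun h => by simpa using x.injective h
    have hx12 : x 1 ≠ x 2 := fun h => by simpa using x.injective h
    have hy01 : y 0 ≠ y 1 := fun h => by simpa using y.injective h
    have hy02 : y 0 ≠ y 2 := fun h => by simpa using y.injective h
    have hy12 : y 1 ≠ y 2 := fun h => by simpa using y.injective h
    obtain ⟨g, g0, g1, g2⟩ := exists_pgl_smul (x 0) (x 1) (x 2) hx01 hx02 hx12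
    obtain ⟨h, h0, h1, h2⟩ := exists_pgl_smul (y 0) (y 1) (y 2) hy01 hy02 hy12
    refine ⟨h * g⁻¹, ?_⟩
    ext i
    rw [Function.Embedding.smul_apply, mul_smul]
    fin_cases i
    · change h • g⁻¹ • x 0 = y 0
      rw [← g0, inv_smul_smul, h0]
    · change h • g⁻¹ • x 1 = y 1
      rw [← g1, inv_smul_smul, h1]
    · change h • g⁻¹ • x 2 = y 2
      rw [← g2, inv_smul_smul, h2]
  · intro g a b c hab hac hbc ha hb hc
    obtain ⟨h, h0, h1, h2⟩ := exists_pgl_smul a b c hab hac hbc
    have key : h⁻¹ * g * h = 1 := by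
      apply eq_one_of_fix_std
      · rw [mul_smul, mul_smul, h0, ha, ← h0, inv_smul_smul]
      · rw [mul_smul, mul_smul, h1, hb, ← h1, inv_smul_smul]
      · rw [mul_smul, mul_smul, h2, hc, ← h2, inv_smul_smul]
    have : g = h * (h⁻¹ * g * h) * h⁻¹ := by group
    rw [this, key]; group

end Cfsg.Agent.S0266
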