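import Cfsg.Statements.S0683
import Mathlib
import Cfsg.Agent.Lib.Helper59.SharpTwo
-- import your own Cfsg.Agent.* helpers here

set_option autoImplicit false
open Cfsg

namespace Cfsg.Agent.S0683

open MulAction Cfsg.Agent.Lib.Helper59 in
/-- A finite sharply doubly transitive permutation group is the affine group of a near-field: the permuted set carries a near-field structure for which the group consists exactly of the maps `x ↦ x * a + b` with `a ≠ 0`. -/
theorem result {α : Type*} [Fintype α] [DecidableEq α] (H : Subgroup (Equiv.Perm α)) [MulAction.IsMultiplyPretransitive H α 2] (hsharp : ∀ x : Fin 2 ↪ α, MulAction.stabilizer H x = ⊥) (h2 : 2 ≤ Fintype.card α) : ∃ _ : Cfsg.NearField α, ∀ σ : Equiv.Perm α, σ ∈ H ↔ ∃ a b : α, a ≠ 0 ∧ ∀ x : α, σ x = x * a + b := by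
  classical
  have htr : IsPretransitive H α := isPretransitive_of_is_two_pretransitive
  have hfix2 : ∀ (g : H) (a b : α), a ≠ b → g • a = a → g • b = b → g = 1 := by
    intro g a b hab ha hb
    have : g ∈ stabilizer H (Function.Embedding.embFinTwo hab) := by
      rw [mem_stabilizer_iff]
      ext i
      fin_cases i
      · exact ha
      · exact hb
    rw [hsharp] at this
    exact Subgroup.mem_bot.mp this
  have hn : 2 ≤ Nat.card α := by rw [Nat.card_eq_fintype_card]; exact h2
  have hcard : Nat.card H = Nat.card α * (Nat.card α - 1) := by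
    obtain ⟨a, b, hab⟩ : ∃ a b : α, a ≠ b := Fintype.exists_pair_of_one_lt_card h2
    have h := @MulAction.index_stabilizer_of_transitive H (Fin 2 ↪ α) _ _
      (Function.Embedding.embFinTwo hab) (by exact ‹IsMultiplyPretransitive H α 2›)
    rw [hsharp, Subgroup.index_bot] at h
    rw [h, Nat.card_eq_fintype_card, Fintype.card_embedding_eq, Fintype.card_fin,
      Nat.card_eq_fintype_card]
    simp [Nat.descFactorial, Nat.mul_comm]
  obtain ⟨N, hNnormal, hNmem, hNcard, hNcomm, -⟩ := exists_regular_normal hfix2 hn hcard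
  have h2t : ∀ {a b c d : α}, a ≠ b → c ≠ d → ∃ g : H, g • a = c ∧ g • b = d :=
    MulAction.is_two_pretransitive_iff.mp ‹IsMultiplyPretransitive H α 2›
  -- regularity of N
  have hfree : ∀ (x : H), x ∈ N → ∀ a : α, x • a = a → x = 1 := by
    intro x hx a hxa
    rcases (hNmem x).mp hx with h | h
    · exact h
    · exact absurd hxa (h a)
  have hNtrans : ∀ a b : α, ∃ x : H, x ∈ N ∧ x • a = b := by
    intro a b
    have hinj : Function.Injective (fun x : N => (x : H) • a) := by
      intro x y hxy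
      have h1 : ((y : H)⁻¹ * (x : H)) • a = a := by
        rw [mul_smul]
        change (y : H)⁻¹ • (x : H) • a = a
        rw [show (x : H) • a = (y : H) • a from hxy, inv_smul_smul]
      have := hfree _ (N.mul_mem (N.inv_mem y.2) x.2) a h1
      rw [inv_mul_eq_one] at this
      exact Subtype.ext this.symm
    have hbij := hinj.bijective_of_nat_card_le hNcard.ge
    obtain ⟨x, hx⟩ := hbij.2 b
    exact ⟨x, x.2, hx⟩
  obtain ⟨o, e, hoe⟩ : ∃ o e : α, o ≠ e := Fintype.exists_pair_of_one_lt_card h2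
  -- translations
  choose τ hτN hτo using (fun b => hNtrans o b)
  have hτuniq : ∀ (b : α) (x : H), x ∈ N → x • o = b → x = τ b := by
    intro b x hx hxo
    have h1 : ((τ b)⁻¹ * x) • o = o := by
      rw [mul_smul, hxo, inv_smul_eq_iff, hτo]
    have := hfree _ (N.mul_mem (N.inv_mem (hτN b)) hx) o h1
    exact (inv_mul_eq_one.mp this).symm
  have hτzero : τ o = 1 := (hτuniq o 1 N.one_mem (one_smul _ _)).symm
  have hτmul : ∀ b x : α, τ (τ b • x) = τ b * τ x := by
    intro b x
    symm
    apply hτuniq _ _ (N.mul_mem (hτN b) (hτN x))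
    rw [mul_smul, hτo]
  -- multiplications
  have hμex : ∀ a : α, ∃ g : H, a ≠ o → (g • o = o ∧ g • e = a) := by
    intro a
    by_cases ha : a = o
    · exact ⟨1, fun h => absurd ha h⟩
    · obtain ⟨g, h1, h2⟩ := h2t hoe (Ne.symm ha)
      exact ⟨g, fun _ => ⟨h1, h2⟩⟩
  choose μ hμ using hμex
  have hμuniq : ∀ (a : α), a ≠ o → ∀ g : H, g • o = o → g • e = a → g = μ a := by
    intro a ha g hgo hge
    have h1 : ((μ a)⁻¹ * g) • o = o := by
      rw [mul_smul, hgo, inv_smul_eq_iff, (hμ a ha).1]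
    have h2' : ((μ a)⁻¹ * g) • e = e := by
      rw [mul_smul, hge, inv_smul_eq_iff, (hμ a ha).2]
    have := hfix2 _ o e hoe h1 h2'
    exact (inv_mul_eq_one.mp this).symm
  have hμone : μ e = 1 := (hμuniq e (Ne.symm hoe) 1 (one_smul _ _) (one_smul _ _)).symm
  have hμne : ∀ a x : α, a ≠ o → x ≠ o → μ a • x ≠ o := by
    intro a x ha hx h
    apply hx
    have : μ a • x = μ a • o := by rw [h, (hμ a ha).1]
    exact MulAction.injective _ this
  have hμmul : ∀ a x : α, a ≠ o → x ≠ o → μ (μ a • x) = μ a * μ x := by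
    intro a x ha hx
    symm
    apply hμuniq _ (hμne a x ha hx)
    · rw [mul_smul, (hμ x hx).1, (hμ a ha).1]
    · rw [mul_smul, (hμ x hx).2]
  -- the operations
  obtain ⟨addF, haddF⟩ : ∃ addF : α → α → α, ∀ x b, addF x b = τ b • x := ⟨fun x b => τ b • x, fun _ _ => rfl⟩
  obtain ⟨negF, hnegF⟩ : ∃ negF : α → α, ∀ x, negF x = (τ x)⁻¹ • o := ⟨fun x => (τ x)⁻¹ • o, fun _ => rfl⟩
  obtain ⟨mulF, hmulF⟩ : ∃ mulF : α → α → α, ∀ x a, mulF x a = if a = o then o else μ a • x :=
    ⟨fun x a => if a = o then o else μ a • x, fun _ _ => rfl⟩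
  have hmul_zero : ∀ x, mulF x o = o := fun x => by rw [hmulF, if_pos rfl]
  have hmul_ne : ∀ x a, a ≠ o → mulF x a = μ a • x := fun x a ha => by rw [hmulF, if_neg ha]
  have hzero_mul : ∀ a, mulF o a = o := by
    intro a
    by_cases ha : a = o
    · rw [ha, hmul_zero]
    · rw [hmul_ne _ _ ha, (hμ a ha).1]
  have hadd_assoc : ∀ a b c : α, addF (addF a b) c = addF a (addF b c) := by
    intro a b c
    rw [haddF, haddF, haddF, haddF, hτmul, mul_smul]
  have hzero_add : ∀ a : α, addF o a = a := by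
    intro a; rw [haddF, hτo]
  have hadd_zero : ∀ a : α, addF a o = a := by
    intro a; rw [haddF, hτzero, one_smul]
  have hneg_add : ∀ a : α, addF (negF a) a = o := by
    intro a; rw [haddF, hnegF, smul_inv_smul]
  have hmul_assoc : ∀ a b c : α, mulF (mulF a b) c = mulF a (mulF b c) := by
    intro a b c
    by_cases hc : c = o
    · rw [hc, hmul_zero, hmul_zero, hmul_zero]
    by_cases hb : b = o
    · rw [hb, hmul_zero, hzero_mul, hmul_zero]
    rw [hmul_ne _ c hc, hmul_ne _ b hb, hmul_ne b c hc, hmul_ne _ _ (hμne c b hc hb),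
      hμmul c b hc hb, mul_smul]
  have hone_mul : ∀ a : α, mulF e a = a := by
    intro a
    by_cases ha : a = o
    · rw [ha, hmul_zero]
    · rw [hmul_ne _ a ha, (hμ a ha).2]
  have hmul_one : ∀ a : α, mulF a e = a := by
    intro a
    rw [hmul_ne _ e (Ne.symm hoe), hμone, one_smul]
  have hrd : ∀ a b c : α, mulF (addF a b) c = addF (mulF a c) (mulF b c) := by
    intro a b c
    by_cases hc : c = o
    · rw [hc, hmul_zero, hmul_zero, hmul_zero, hadd_zero]
    rw [hmul_ne _ c hc, hmul_ne _ c hc, hmul_ne _ c hc, haddF, haddF]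
    -- μ c τ b (μ c)⁻¹ = τ (μ c b)
    have hconj : μ c * τ b * (μ c)⁻¹ = τ (μ c • b) := by
      apply hτuniq
      · exact hNnormal.conj_mem _ (hτN b) _
      · rw [mul_smul, mul_smul, inv_smul_eq_iff.mpr (hμ c hc).1.symm, hτo]
    rw [← hconj, mul_smul, mul_smul, inv_smul_smul]
  have hinv : ∀ a : α, a ≠ o → ∃ b : α, mulF a b = e ∧ mulF b a = e := by
    intro a ha
    have hbo : (μ a)⁻¹ • e ≠ o := by
      intro h
      apply hoe
      have : (μ a)⁻¹ • e = (μ a)⁻¹ • o := by
        rw [h, eq_inv_smul_iff, (hμ a ha).1]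
      exact (MulAction.injective _ this).symm
    have hμb : μ ((μ a)⁻¹ • e) = (μ a)⁻¹ := by
      symm
      apply hμuniq _ hbo
      · rw [inv_smul_eq_iff, (hμ a ha).1]
      · rfl
    refine ⟨(μ a)⁻¹ • e, ?_, ?_⟩
    · rw [hmul_ne _ _ hbo, hμb, inv_smul_eq_iff, (hμ a ha).2]
    · rw [hmul_ne _ _ ha, smul_inv_smul]
  letI iadd : Add α := ⟨addF⟩
  letI izero : Zero α := ⟨o⟩
  letI ineg : Neg α := ⟨negF⟩
  let ag : AddGroup α := AddGroup.ofLeftAxioms hadd_assoc hzero_add hneg_add
  let mo : Monoid α :=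
    { mul := mulF
      one := e
      mul_assoc := hmul_assoc
      one_mul := hone_mul
      mul_one := hmul_one }
  let nf : Cfsg.NearField α :=
    { ag, mo with
      right_distrib := hrd
      mul_zero := hmul_zero
      zero_ne_one := hoe
      exists_inv := hinv }
  refine ⟨nf, ?_⟩
  change ∀ σ : Equiv.Perm α, σ ∈ H ↔ ∃ a b : α, a ≠ o ∧ ∀ x : α, σ x = addF (mulF x a) b
  intro σ
  constructor
  · intro hσ
    -- b = σ o
    set g : H := (τ (σ o))⁻¹ * ⟨σ, hσ⟩ with hg
    have hgo : g • o = o := by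
      rw [hg, mul_smul, inv_smul_eq_iff, hτo]
      rfl
    have hge : g • e ≠ o := by
      intro h
      apply hoe
      have : g • e = g • o := by rw [h, hgo]
      exact (MulAction.injective _ this).symm
    have hgμ := hμuniq (g • e) hge g hgo rfl
    refine ⟨g • e, σ o, hge, fun x => ?_⟩
    rw [haddF, hmul_ne _ _ hge, ← hgμ, hg, mul_smul, smul_inv_smul]
    rfl
  · rintro ⟨a, b, ha, hσ⟩
    have : σ = ((τ b * μ a : H) : Equiv.Perm α) := by
      ext x
      rw [hσ x, haddF, hmul_ne _ _ ha]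
      rfl
    rw [this]
    exact (τ b * μ a).2

end Cfsg.Agent.S0683
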