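import Cfsg.Statements.S0682
import Mathlib
-- import your own Cfsg.Agent.* helpers here

set_option autoImplicit false
open Cfsg

namespace Cfsg.Agent.S0682

section NF
variable {F : Type*} [Cfsg.NearField F]

theorem nf_zero_mul (a : F) : (0 : F) * a = 0 := by
  have h := Cfsg.NearField.right_distrib (0 : F) 0 a
  rw [add_zero] at h
  exact left_eq_add.mp h

theorem nf_exists_inv {a : F} (ha : a ≠ 0) : ∃ b : F, b ≠ 0 ∧ a * b = 1 ∧ b * a = 1 := by
  obtain ⟨b, h1, h2⟩ := Cfsg.NearField.exists_inv a ha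
  refine ⟨b, ?_, h1, h2⟩
  rintro rfl
  rw [Cfsg.NearField.mul_zero] at h1
  exact Cfsg.NearField.zero_ne_one h1

/-- right multiplication as an additive hom -/
def mulRightHom (c : F) : F →+ F where
  toFun x := x * c
  map_zero' := nf_zero_mul c
  map_add' x y := Cfsg.NearField.right_distrib x y c

theorem nsmul_mul (n : ℕ) (x c : F) : (n • x) * c = n • (x * c) :=
  map_nsmul (mulRightHom c) n x

/-- any element `y` is `x * c` for some `c`, if `x ≠ 0` -/
theorem exists_mul_eq {x : F} (hx : x ≠ 0) (y : F) : ∃ c : F, x * c = y := by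
  obtain ⟨x', _, h1, _⟩ := nf_exists_inv hx
  exact ⟨x' * y, by rw [← mul_assoc, h1, one_mul]⟩

end NF

/-- A finite near-field has prime-power order; its additive group is commutative of prime exponent. -/
theorem result {F : Type*} [Cfsg.NearField F] [Finite F] : ∃ p j : ℕ, p.Prime ∧ 1 ≤ j ∧ Nat.card F = p ^ j ∧ (∀ x y : F, x + y = y + x) ∧ ∀ x : F, p • x = 0 := by
  have hnt : Nontrivial F := ⟨⟨0, 1, Cfsg.NearField.zero_ne_one⟩⟩
  have hcard : 1 < Nat.card F := Finite.one_lt_card
  -- a prime divisor of the order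
  obtain ⟨p, hp, hpd⟩ := Nat.exists_prime_and_dvd (Nat.ne_of_gt hcard)
  haveI : Fact p.Prime := ⟨hp⟩
  obtain ⟨x, hx⟩ := exists_prime_addOrderOf_dvd_card' p hpd
  have hx0 : x ≠ 0 := by
    rintro rfl
    rw [addOrderOf_zero] at hx
    exact hp.one_lt.ne hx
  have hpx : p • x = 0 := by
    rw [← hx]; exact addOrderOf_nsmul_eq_zero x
  have hexp : ∀ y : F, p • y = 0 := by
    intro y
    obtain ⟨c, rfl⟩ := exists_mul_eq hx0 y
    rw [← nsmul_mul, hpx, nf_zero_mul]
  -- the additive group is a p-group
  have hPG : IsPGroup p (Multiplicative F) := by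
    intro g
    refine ⟨1, ?_⟩
    rw [pow_one]
    exact congrArg Multiplicative.ofAdd (hexp (Multiplicative.toAdd g))
  obtain ⟨j, hj⟩ := IsPGroup.iff_card.mp hPG
  have hj' : Nat.card F = p ^ j := by
    rw [← hj]; rfl
  have hj1 : 1 ≤ j := by
    rcases Nat.eq_zero_or_pos j with h0 | h0
    · rw [h0, pow_zero] at hj'
      omega
    · exact h0
  -- nontrivial centre
  haveI : Nontrivial (Multiplicative F) := ⟨⟨Multiplicative.ofAdd 0, Multiplicative.ofAdd 1,
    fun h => Cfsg.NearField.zero_ne_one (Multiplicative.ofAdd.injective h)⟩⟩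
  haveI : Finite (Multiplicative F) := inferInstanceAs (Finite F)
  have hcen := IsPGroup.center_nontrivial hPG
  obtain ⟨⟨z, hz⟩, hz1⟩ := exists_ne (1 : Subgroup.center (Multiplicative F))
  have hz0 : Multiplicative.toAdd z ≠ 0 := by
    intro h
    apply hz1
    apply Subtype.ext
    exact Multiplicative.toAdd.injective h
  have hzc : ∀ y : F, Multiplicative.toAdd z + y = y + Multiplicative.toAdd z := by
    intro y
    have := (Subgroup.mem_center_iff.mp hz) (Multiplicative.ofAdd y)
    exact (congrArg Multiplicative.toAdd this).symm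
  set z0 : F := Multiplicative.toAdd z with hz0def
  have hcomm : ∀ w y : F, w + y = y + w := by
    intro w y
    by_cases hw : w = 0
    · rw [hw, zero_add, add_zero]
    · obtain ⟨c, hc⟩ := exists_mul_eq hz0 w
      have hc0 : c ≠ 0 := by
        rintro rfl
        rw [Cfsg.NearField.mul_zero] at hc
        exact hw hc.symm
      obtain ⟨c', _, h1, h2⟩ := nf_exists_inv hc0
      have hy : y = (y * c') * c := by rw [mul_assoc, h2, mul_one]
      rw [hy, ← hc, ← Cfsg.NearField.right_distrib, ← Cfsg.NearField.right_distrib, hzc]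
  exact ⟨p, j, hp, hj1, hj', hcomm, hexp⟩

end Cfsg.Agent.S0682
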