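import Cfsg.Statements.S0741
import Mathlib
-- import your own Cfsg.Agent.* helpers here

set_option autoImplicit false
open Cfsg

namespace Cfsg.Agent.S0741

open MulAction

section Aux

variable {G Ω : Type*} [Group G] [MulAction G Ω]

/-- The two-point stabiliser. -/
abbrev tps (G : Type*) {Ω : Type*} [Group G] [MulAction G Ω] (x y : Ω) : Subgroup G :=
  stabilizer G x ⊓ stabilizer G y

theorem mem_tps {x y : Ω} {g : G} : g ∈ tps G x y ↔ g • x = x ∧ g • y = y := by
  simp [tps, Subgroup.mem_inf, mem_stabilizer_iff]

/-- Conjugate two-point stabilisers have the same order. -/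
theorem card_tps_smul (g : G) (x y : Ω) :
    Nat.card (tps G (g • x) (g • y)) = Nat.card (tps G x y) := by
  have h : tps G (g • x) (g • y) = (tps G x y).map (MulAut.conj g).toMonoidHom := by
    ext h
    rw [Subgroup.mem_map_equiv, MulAut.conj_symm_apply, mem_tps, mem_tps]
    simp only [mul_smul, inv_smul_eq_iff]
  rw [h, Subgroup.card_map_of_injective (MulAut.conj g).injective]

/-- In a 2-transitive group all two-point stabilisers have the same order. -/
theorem card_tps_eq (h2 : IsMultiplyPretransitive G Ω 2) {a b x y : Ω} (hab : a ≠ b)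
    (hxy : x ≠ y) : Nat.card (tps G x y) = Nat.card (tps G a b) := by
  rw [is_two_pretransitive_iff] at h2
  obtain ⟨g, rfl, rfl⟩ := h2 hab hxy
  exact card_tps_smul g a b

end Aux

/-- If the two-point stabilisers of a finite Zassenhaus group of degree `n + 1` have even order `d`, then `2d ≥ n - 1`. -/
theorem result {G Ω : Type*} [Group G] [Finite G] [MulAction G Ω] [Fintype Ω] (hZ : Cfsg.IsZassenhausGroup G Ω) {a b : Ω} (hab : a ≠ b) (heven : Even (Nat.card ↥(MulAction.stabilizer G a ⊓ MulAction.stabilizer G b))) : Fintype.card Ω - 2 ≤ 2 * Nat.card ↥(MulAction.stabilizer G a ⊓ MulAction.stabilizer G b) := by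
  classical
  have : Fintype G := Fintype.ofFinite G
  obtain ⟨-, h2, h3, -, -⟩ := hZ
  change Fintype.card Ω - 2 ≤ 2 * Nat.card (tps G a b)
  change Even (Nat.card (tps G a b)) at heven
  set d := Nat.card (tps G a b) with hd
  -- ordered pairs of distinct points
  set P : Finset (Ω × Ω) := (Finset.univ : Finset Ω).offDiag with hP
  -- involutions with two fixed points
  set J : Finset G := Finset.univ.filter
    (fun u => u ≠ 1 ∧ u * u = 1 ∧ ∃ x y : Ω, x ≠ y ∧ u • x = x ∧ u • y = y) with hJ
  have hPpos : 0 < P.card := Finset.card_pos.mpr ⟨(a, b), by simp [hP, hab]⟩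
  -- fixed points of an element of J
  have hfix : ∀ u ∈ J, ∃ x y : Ω, x ≠ y ∧ u • x = x ∧ u • y = y ∧
      ∀ z, u • z = z → z = x ∨ z = y := by
    intro u hu
    rw [hJ, Finset.mem_filter] at hu
    obtain ⟨-, hu1, -, x, y, hxy, hx, hy⟩ := hu
    refine ⟨x, y, hxy, hx, hy, fun z hz => ?_⟩
    by_contra hcon
    rw [not_or] at hcon
    exact hu1 (h3 u x y z hxy (Ne.symm hcon.2) (Ne.symm hcon.1) hx hy hz)
  -- first count
  have hc1 : P.card * 1 ≤ J.card * 2 := by
    refine Finset.card_mul_le_card_mul (fun (p : Ω × Ω) (u : G) => u • p.1 = p.1 ∧ u • p.2 = p.2)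
      ?_ ?_
    · rintro ⟨x, y⟩ hp
      have hxy : x ≠ y := by simpa [hP] using hp
      have hcard : Nat.card (tps G x y) = d := card_tps_eq h2 hab hxy
      have : Fact (Nat.Prime 2) := ⟨Nat.prime_two⟩
      obtain ⟨u, hu⟩ := exists_prime_orderOf_dvd_card' (G := tps G x y) 2
        (by rw [hcard]; exact even_iff_two_dvd.mp heven)
      rw [Nat.succ_le_iff, Finset.card_pos]
      have hu2 : u ^ 2 = 1 := by rw [← hu]; exact pow_orderOf_eq_one u
      have hu1 : u ≠ 1 := by
        rintro rfl
        rw [orderOf_one] at hu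
        omega
      obtain ⟨hux, huy⟩ := mem_tps.mp u.2
      refine ⟨(u : G), ?_⟩
      rw [Finset.mem_bipartiteAbove]
      refine ⟨?_, hux, huy⟩
      rw [hJ, Finset.mem_filter]
      refine ⟨Finset.mem_univ _, fun h => hu1 (Subtype.ext h), ?_, x, y, hxy, hux, huy⟩
      have := congrArg Subtype.val hu2
      simpa [pow_two] using this
    · intro u hu
      obtain ⟨x, y, hxy, hx, hy, hall⟩ := hfix u hu
      have hsub : P.bipartiteBelow (fun (p : Ω × Ω) (u : G) => u • p.1 = p.1 ∧ u • p.2 = p.2) u ⊆
          {(x, y), (y, x)} := by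
        rintro ⟨z, w⟩ hzw
        rw [Finset.mem_bipartiteBelow] at hzw
        obtain ⟨hzwP, hz, hw⟩ := hzw
        have hne : z ≠ w := by simpa [hP] using hzwP
        simp only [Finset.mem_insert, Finset.mem_singleton, Prod.mk.injEq]
        rcases hall z hz with rfl | rfl <;> rcases hall w hw with rfl | rfl
        · exact absurd rfl hne
        · exact Or.inl ⟨rfl, rfl⟩
        · exact Or.inr ⟨rfl, rfl⟩
        · exact absurd rfl hne
      exact (Finset.card_le_card hsub).trans Finset.card_le_two
  -- second count
  have hc2 : J.card * (Fintype.card Ω - 2) ≤ P.card * d := by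
    refine Finset.card_mul_le_card_mul (fun (u : G) (p : Ω × Ω) => u • p.1 = p.2) ?_ ?_
    · intro u hu
      obtain ⟨x, y, hxy, hx, hy, hall⟩ := hfix u hu
      -- moved points
      have hmoved : Fintype.card Ω - 2 ≤ (Finset.univ.filter (fun z : Ω => ¬ u • z = z)).card := by
        have h1 := Finset.card_filter_add_card_filter_not (s := (Finset.univ : Finset Ω))
          (fun z : Ω => u • z = z)
        have h2 : (Finset.univ.filter (fun z : Ω => u • z = z)).card ≤ 2 := by
          refine (Finset.card_le_card (t := {x, y}) ?_).trans Finset.card_le_two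
          intro z hz
          rw [Finset.mem_filter] at hz
          simpa using hall z hz.2
        rw [Finset.card_univ] at h1
        omega
      refine hmoved.trans ?_
      refine Finset.card_le_card_of_injOn (fun z => (z, u • z)) ?_ ?_
      · intro z hz
        have hz' : ¬ u • z = z := by simpa using hz
        rw [Finset.mem_coe, Finset.mem_bipartiteAbove]
        refine ⟨?_, rfl⟩
        rw [hP, Finset.mem_offDiag]
        exact ⟨Finset.mem_univ _, Finset.mem_univ _, fun h => hz' h.symm⟩
      · intro z _ w _ h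
        exact (Prod.mk.inj h).1
    · rintro ⟨z, w⟩ hp
      have hzw : z ≠ w := by simpa [hP] using hp
      have hcard : Nat.card (tps G z w) = d := card_tps_eq h2 hab hzw
      set T := J.bipartiteBelow (fun (u : G) (p : Ω × Ω) => u • p.1 = p.2) (z, w) with hT
      rcases T.eq_empty_or_nonempty with hemp | ⟨g₀, hg₀⟩
      · rw [hemp]; simp
      have hmemT : ∀ g ∈ T, g • z = w ∧ g • w = z := by
        intro g hg
        rw [hT, Finset.mem_bipartiteBelow] at hg
        obtain ⟨hgJ, hgz⟩ := hg
        rw [hJ, Finset.mem_filter] at hgJ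
        have hgg : g * g = 1 := hgJ.2.2.1
        have hgz : g • z = w := hgz
        refine ⟨hgz, ?_⟩
        have : g • g • z = z := by rw [← mul_smul, hgg, one_smul]
        rw [← hgz]
        exact this
      have hle : T.card ≤ (Finset.univ.filter (fun g : G => g ∈ tps G z w)).card := by
        refine Finset.card_le_card_of_injOn (fun g => g₀⁻¹ * g) ?_ ?_
        · intro g hg
          obtain ⟨h1, h2⟩ := hmemT g hg
          obtain ⟨h1', h2'⟩ := hmemT g₀ hg₀
          rw [Finset.mem_coe, Finset.mem_filter]
          refine ⟨Finset.mem_univ _, ?_⟩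
          rw [mem_tps]
          constructor
          · rw [mul_smul, h1, inv_smul_eq_iff, h1']
          · rw [mul_smul, h2, inv_smul_eq_iff, h2']
        · intro g _ g' _ h
          exact mul_left_cancel h
      refine hle.trans (le_of_eq ?_)
      rw [← hcard, Nat.card_eq_fintype_card, Fintype.card_subtype]
  -- combine
  have hfinal : P.card * (Fintype.card Ω - 2) ≤ P.card * (2 * d) := by
    calc P.card * (Fintype.card Ω - 2) = (P.card * 1) * (Fintype.card Ω - 2) := by ring
      _ ≤ (J.card * 2) * (Fintype.card Ω - 2) := Nat.mul_le_mul_right _ hc1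
      _ = 2 * (J.card * (Fintype.card Ω - 2)) := by ring
      _ ≤ 2 * (P.card * d) := Nat.mul_le_mul_left _ hc2
      _ = P.card * (2 * d) := by ring
  exact Nat.le_of_mul_le_mul_left hfinal hPpos

end Cfsg.Agent.S0741
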