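import Cfsg.Statements.S5092
import Cfsg.Agent.Lib.Helper84.Alperin2
import Cfsg.Agent.Lib.Helper87.FusionFully
import Cfsg.Agent.Lib.Helper34.PResidual

set_option autoImplicit false
open Cfsg

namespace Cfsg.Agent.S5092

open Cfsg.FusionSystem
open Cfsg.Agent.Lib.Helper87
open Cfsg.Agent.Lib.Helper84
open scoped commutatorElement

/-- The subsystem of `F` of the maps `φ` with `x⁻¹ φ(x) ∈ K` for all `x`, for a subgroup `K ⊇ [S,S]`. -/
def subE {Ω : Type*} [Group Ω] {S : Subgroup Ω} (F : FusionSystem S) (K : Subgroup Ω)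
    (hK : ⁅(S : Subgroup Ω), (S : Subgroup Ω)⁆ ≤ K) : FusionSystem S where
  Hom P := {φ | φ ∈ F.Hom P ∧ ∀ x : P, (x : Ω)⁻¹ * φ x ∈ K}
  le_of_mem h := F.le_of_mem h.1
  injective_of_mem h := F.injective_of_mem h.1
  conj_mem := by
    intro P g hP hg
    refine ⟨F.conj_mem hP hg, fun x => hK ?_⟩
    have h1 : (x : Ω)⁻¹ * conjHom P g x = ⁅(x : Ω)⁻¹, g⁆ := by
      rw [conjHom_apply, commutatorElement_def]
      group
    rw [h1]
    exact Subgroup.commutator_mem_commutator (S.inv_mem (hP x.2)) hg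
  comp_mem := by
    intro P Q φ ψ hφ hψ h
    refine ⟨F.comp_mem hφ.1 hψ.1 h, fun x => ?_⟩
    have h1 : (x : Ω)⁻¹ * (ψ.comp (φ.codRestrict Q h)) x =
        ((x : Ω)⁻¹ * φ x) * (((⟨φ x, h x⟩ : Q) : Ω)⁻¹ * ψ ⟨φ x, h x⟩) := by
      simp only [MonoidHom.comp_apply]
      show (x : Ω)⁻¹ * ψ ⟨φ x, h x⟩ = _
      group
    rw [h1]
    exact K.mul_mem (hφ.2 x) (hψ.2 ⟨φ x, h x⟩)
  inv_mem := by
    intro P φ hφ
    obtain ⟨ψ, hψ, hinv⟩ := F.inv_mem hφ.1
    refine ⟨ψ, ⟨hψ, ?_⟩, hinv⟩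
    rintro ⟨y, x, rfl⟩
    rw [hinv x]
    have h1 : (φ x)⁻¹ * (x : Ω) = ((x : Ω)⁻¹ * φ x)⁻¹ := by group
    show (φ x)⁻¹ * (x : Ω) ∈ K
    rw [h1]
    exact K.inv_mem (hφ.2 x)

theorem isFullyNormalized_self {Ω : Type*} [Group Ω] {S : Subgroup Ω} [Finite S] (F : FusionSystem S) :
    F.IsFullyNormalized S := by
  refine ⟨le_rfl, fun Q _ => ?_⟩
  have h1 : normalizerIn S Q ≤ normalizerIn S S := by
    intro x hx
    exact ⟨hx.1, Subgroup.le_normalizer hx.1⟩
  have : Finite (normalizerIn S S) := finite_of_le (inf_le_left)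
  exact Subgroup.card_le_of_le h1

/-- For a fully automized `P`, every `α ∈ Aut_F(P)` moves elements within `hyp(F) ⊔ [S,S]`. -/
theorem key {Ω : Type*} [Group Ω] {S : Subgroup Ω} [Finite S] (p : ℕ) [Fact p.Prime]
    (F : FusionSystem S) {P : Subgroup Ω} (hPa : F.IsFullyAutomized p P) {α : MulAut P}
    (hα : α ∈ F.autGroup P) (x : P) :
    (x : Ω)⁻¹ * ((α x : P) : Ω) ∈ F.hyperfocalSubgroup p ⊔ ⁅(S : Subgroup Ω), (S : Subgroup Ω)⁆ := by
  obtain ⟨hPS, T, hT⟩ := hPa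
  have : Finite P := finite_of_le hPS
  have hnd : ¬ p ∣ (T : Subgroup (F.autGroup P)).index := T.not_dvd_index
  have htop := Cfsg.Agent.Lib.Helper34.pResidual_sup_eq_top p (T : Subgroup (F.autGroup P)) hnd
  have := Cfsg.Agent.Lib.Helper34.pResidual_normal p (F.autGroup P)
  have hmem : (⟨α, hα⟩ : F.autGroup P) ∈ pResidual p (F.autGroup P) ⊔ (T : Subgroup (F.autGroup P)) := by
    rw [htop]; trivial
  rw [← SetLike.mem_coe, Subgroup.normal_mul] at hmem
  obtain ⟨β, hβ, γ, hγ, hβγ⟩ := hmem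
  rw [SetLike.mem_coe, hT, Subgroup.mem_subgroupOf] at hγ
  rw [SetLike.mem_coe] at hβ
  obtain ⟨s, hs, hsγ⟩ := mem_autInducedBy_iff.1 hγ
  have hαx : α x = (β : MulAut P) ((γ : MulAut P) x) := by
    have : α = (β : MulAut P) * (γ : MulAut P) := by
      have := congrArg Subtype.val hβγ
      exact this.symm
    rw [this]; rfl
  have h1 : (x : Ω)⁻¹ * ((α x : P) : Ω) =
      ((x : Ω)⁻¹ * (((γ : MulAut P) x : P) : Ω)) *
        ((((γ : MulAut P) x : P) : Ω)⁻¹ * (((β : MulAut P) ((γ : MulAut P) x) : P) : Ω)) := by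
    rw [hαx]; group
  rw [h1]
  refine Subgroup.mul_mem _ (Subgroup.mem_sup_right ?_) (Subgroup.mem_sup_left ?_)
  · have h2 : (x : Ω)⁻¹ * (((γ : MulAut P) x : P) : Ω) = ⁅(x : Ω)⁻¹, s⁆ := by
      rw [hsγ x, commutatorElement_def]; group
    rw [h2]
    exact Subgroup.commutator_mem_commutator (S.inv_mem (hPS x.2)) hs
  · exact Subgroup.subset_closure ⟨P, β, (γ : MulAut P) x, hPS, hβ, rfl⟩

/-- For a saturated fusion system over a finite p-group S, the focal subgroup is the product of the hyperfocal subgroup and the derived subgroup of S. -/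
theorem result {Ω : Type*} [Group Ω] {S : Subgroup Ω} [Finite S] (p : ℕ) [Fact p.Prime] (hS : IsPGroup p S) (F : Cfsg.FusionSystem S) (hF : F.IsSaturated p) : F.focalSubgroup = F.hyperfocalSubgroup p ⊔ ⁅(S : Subgroup Ω), (S : Subgroup Ω)⁆ := by
  apply le_antisymm
  · -- focal ≤ hyp ⊔ [S,S]
    have hsub := alperin_goldschmidt' F (subE F (F.hyperfocalSubgroup p ⊔ ⁅(S : Subgroup Ω), (S : Subgroup Ω)⁆)
      le_sup_right) hS hF (by
        intro P hP α hα
        have hfn : F.IsFullyNormalized P := by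
          rcases hP with rfl | hP
          · exact isFullyNormalized_self F
          · exact hP.2.1
        have hfa := (fullyAutomized_receptive_of_fullyNormalized F hS hF hfn).1
        refine ⟨(mem_autGroup_iff F hfn.1).1 hα, fun x => ?_⟩
        exact key p F hfa hα x)
    unfold FusionSystem.focalSubgroup
    rw [Subgroup.closure_le]
    rintro y ⟨P, φ, x, hφ, rfl⟩
    exact (hsub P hφ).2 x
  · apply sup_le
    · unfold FusionSystem.hyperfocalSubgroup
      rw [Subgroup.closure_le]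
      rintro y ⟨P, α, x, hPS, -, rfl⟩
      refine Subgroup.subset_closure ⟨P, P.subtype.comp (α : MulAut P).toMonoidHom, x, ?_, rfl⟩
      exact (mem_autGroup_iff F hPS).1 α.2
    · rw [Subgroup.commutator_le]
      intro g₁ hg₁ g₂ hg₂
      refine Subgroup.subset_closure ⟨S, conjHom S g₂, ⟨g₁⁻¹, S.inv_mem hg₁⟩, F.conj_mem le_rfl hg₂, ?_⟩
      rw [conjHom_apply, commutatorElement_def]
      simp [mul_assoc]

end Cfsg.Agent.S5092
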