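import Cfsg.Statements.S5093
import Cfsg.Agent.S5092
import Cfsg.Agent.Lib.Helper84.PResidualAux
import Cfsg.Agent.Lib.Helper85.FusionRealized

set_option autoImplicit false
open Cfsg

namespace Cfsg.Agent.S5093

open Cfsg.FusionSystem
open Cfsg.Agent.Lib.Helper87
open Cfsg.Agent.Lib.Helper84
open scoped commutatorElement

variable {G : Type*} [Group G]

/-- Elements of `O^p(Aut_G(P))` move elements of `P` within `O^p(G)`. -/
theorem inv_mul_apply_mem_pResidual [Finite G] (p : ℕ) [Fact p.Prime] (S : Subgroup G) {P : Subgroup G}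
    (hPS : P ≤ S) (α : (groupFusionSystem S).autGroup P)
    (hα : α ∈ pResidual p ((groupFusionSystem S).autGroup P)) (x : P) :
    (x : G)⁻¹ * (((α : MulAut P) x : P) : G) ∈ pResidual p G := by
  have hKn : (pResidual p G).Normal := Cfsg.Agent.Lib.Helper34.pResidual_normal p G
  revert x
  unfold pResidual at hα
  induction hα using Subgroup.closure_induction with
  | mem a ha =>
    intro x
    obtain ⟨-, -, g, hg⟩ := (mem_autGroup_iff _ hPS).1 a.2
    have hg' : ∀ y : P, (((a : MulAut P) y : P) : G) = g * y * g⁻¹ := fun y => hg y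
    have hgN : g ∈ Subgroup.normalizer (P : Set G) := mem_normalizer_of_induces hg'
    have hfa : P.normalizerMonoidHom ⟨g, hgN⟩ = (a : MulAut P) := by
      ext y
      rw [hg' y]
      rfl
    have hord : Nat.Coprime (orderOf (P.normalizerMonoidHom ⟨g, hgN⟩)) p := by
      rw [hfa, Subgroup.orderOf_coe]
      exact ha
    obtain ⟨g', hg'K, hg'a⟩ := exists_mem_pResidual_apply_eq P.normalizerMonoidHom ⟨g, hgN⟩ hord
    have hg'G : (g' : G) ∈ pResidual p G :=
      map_pResidual_le p (Subgroup.normalizer (P : Set G)).subtype ⟨g', hg'K, rfl⟩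
    have hax : (((a : MulAut P) x : P) : G) = (g' : G) * x * (g' : G)⁻¹ := by
      rw [← hfa, ← hg'a]
      rfl
    rw [hax]
    have h1 : (x : G)⁻¹ * ((g' : G) * x * (g' : G)⁻¹) = ((x : G)⁻¹ * (g' : G) * (x : G)⁻¹⁻¹) * (g' : G)⁻¹ := by
      group
    rw [h1]
    exact Subgroup.mul_mem _ (hKn.conj_mem _ hg'G _) (Subgroup.inv_mem _ hg'G)
  | one =>
    intro x
    simp
  | mul a b _ _ iha ihb =>
    intro x
    have h1 : (x : G)⁻¹ * ((((a * b : (groupFusionSystem S).autGroup P) : MulAut P) x : P) : G) =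
        ((x : G)⁻¹ * (((b : MulAut P) x : P) : G)) *
          ((((b : MulAut P) x : P) : G)⁻¹ * (((a : MulAut P) ((b : MulAut P) x) : P) : G)) := by
      rw [Subgroup.coe_mul, MulAut.mul_apply]
      group
    rw [h1]
    exact Subgroup.mul_mem _ (ihb x) (iha _)
  | inv a _ iha =>
    intro x
    have h1 : (x : G)⁻¹ * ((((a⁻¹ : (groupFusionSystem S).autGroup P) : MulAut P) x : P) : G) =
        (((((a : MulAut P)⁻¹ x : P) : G))⁻¹ * (((a : MulAut P) ((a : MulAut P)⁻¹ x) : P) : G))⁻¹ := by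
      rw [Subgroup.coe_inv, MulAut.apply_inv_self]
      group
    rw [h1]
    exact Subgroup.inv_mem _ (iha _)

/-- The hyperfocal subgroup of `F_S(G)` lies in `S ∩ O^p(G)`. -/
theorem hyperfocal_le [Finite G] (p : ℕ) [Fact p.Prime] (S : Subgroup G) :
    (groupFusionSystem S).hyperfocalSubgroup p ≤ S ⊓ pResidual p G := by
  unfold FusionSystem.hyperfocalSubgroup
  rw [Subgroup.closure_le]
  rintro y ⟨P, α, x, hPS, hα, rfl⟩
  refine ⟨?_, inv_mul_apply_mem_pResidual p S hPS α hα x⟩
  exact S.mul_mem (S.inv_mem (hPS x.2)) (hPS ((α : MulAut P) x).2)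

/-- If `K` is a normal subgroup of the finite group `G` with `O^p(K) = K`, then `S ∩ K` lies in the hyperfocal subgroup of
`F_S(G)` (`S` a Sylow `p`-subgroup of `G`). -/
theorem inf_le_hyperfocal [Finite G] (p : ℕ) [Fact p.Prime] (S : Sylow p G) (K : Subgroup G) [K.Normal]
    (hK : pResidual p K = ⊤) :
    (S : Subgroup G) ⊓ K ≤ (groupFusionSystem (S : Subgroup G)).hyperfocalSubgroup p := by
  set S₀ : Subgroup G := (S : Subgroup G) ⊓ K with hS₀
  have hS₀K : S₀ ≤ K := inf_le_right
  have hS₀S : S₀ ≤ S := inf_le_left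
  set F₁ : FusionSystem S₀ := fusionSystemOfSubgroup K S₀ hS₀K with hF₁
  obtain ⟨T, hT⟩ := exists_sylow_subgroupOf_normal K S
  have hS₀p : IsPGroup p S₀ := S.isPGroup'.to_le hS₀S
  -- `F₁` is realized by `K`, hence saturated
  have hι : F₁.IsRealizedBy (Subgroup.inclusion hS₀K) := by
    refine ⟨Subgroup.inclusion_injective hS₀K, fun P hP φ hφ => ?_⟩
    constructor
    · rintro ⟨-, -, g, hgK, hg⟩
      refine ⟨⟨g, hgK⟩, fun x => Subtype.ext ?_⟩
      exact hg x
    · rintro ⟨g, hg⟩
      refine ⟨hP, hφ, g, g.2, fun x => ?_⟩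
      exact congrArg Subtype.val (hg x)
  have hTr : (T : Subgroup K) = (Subgroup.inclusion hS₀K).range := by
    rw [hT, Subgroup.inclusion_range, hS₀, Subgroup.inf_subgroupOf_right]
  have hsat : F₁.IsSaturated p := Cfsg.Agent.Lib.Helper85.isSaturated_of_isRealizedBy hι T hTr
  have h92 := Cfsg.Agent.S5092.result p hS₀p F₁ hsat
  -- the focal subgroup theorem in `K`
  have hTc : (T : Subgroup K) ≤ commutator K := le_commutator_of_pResidual_eq_top hK T.isPGroup'
  have hfoc : (T : Subgroup K).focalSubgroup = T := by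
    rw [← Subgroup.commutator_inf_eq_focalSubgroup T]
    exact inf_eq_right.2 hTc
  have hmemT : ∀ y : K, y ∈ (T : Subgroup K) ↔ (y : G) ∈ S₀ := by
    intro y
    rw [hT, Subgroup.mem_subgroupOf]
    exact ⟨fun h => ⟨h, y.2⟩, fun h => h.1⟩
  -- `S₀ ≤ foc(F₁)`
  have h1 : S₀ ≤ F₁.focalSubgroup := by
    have key : ∀ y ∈ (T : Subgroup K).focalSubgroup, (y : G) ∈ F₁.focalSubgroup := by
      intro y hy
      rw [Subgroup.focalSubgroup_def] at hy
      induction hy using Subgroup.closure_induction with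
      | mem z hz =>
        obtain ⟨hzT, x, hxT, u, rfl⟩ := hz
        have hxS₀ : (x : G) ∈ S₀ := (hmemT x).1 hxT
        have hzS₀ : ((⁅x, u⁆ : K) : G) ∈ S₀ := (hmemT _).1 hzT
        have hz' : ((⁅x, u⁆ : K) : G) = (x : G) * ((u : G) * (x : G)⁻¹ * (u : G)⁻¹) := by
          rw [commutatorElement_def]
          simp [mul_assoc]
        have hconj : (u : G) * (x : G)⁻¹ * (u : G)⁻¹ ∈ S₀ := by
          have : (u : G) * (x : G)⁻¹ * (u : G)⁻¹ = (x : G)⁻¹ * ((⁅x, u⁆ : K) : G) := by
            rw [hz']; group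
          rw [this]
          exact S₀.mul_mem (S₀.inv_mem hxS₀) hzS₀
        have hP : Subgroup.zpowers (x : G)⁻¹ ≤ S₀ := by
          rw [Subgroup.zpowers_le]
          exact S₀.inv_mem hxS₀
        have hφ : conjHom (Subgroup.zpowers (x : G)⁻¹) (u : G) ∈ F₁.Hom (Subgroup.zpowers (x : G)⁻¹) := by
          refine ⟨hP, ?_, (u : G), u.2, fun _ => rfl⟩
          rintro ⟨y, hy⟩
          obtain ⟨k, rfl⟩ := Subgroup.mem_zpowers_iff.1 hy
          rw [conjHom_apply]
          show (u : G) * ((x : G)⁻¹) ^ k * (u : G)⁻¹ ∈ S₀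
          rw [← conj_zpow]
          exact S₀.zpow_mem hconj k
        refine Subgroup.subset_closure ⟨Subgroup.zpowers (x : G)⁻¹, _,
          ⟨(x : G)⁻¹, Subgroup.mem_zpowers _⟩, hφ, ?_⟩
        rw [hz', conjHom_apply]
        simp
      | one => exact Subgroup.one_mem _
      | mul a b _ _ ha hb =>
        rw [Subgroup.coe_mul]
        exact Subgroup.mul_mem _ ha hb
      | inv a _ ha =>
        rw [Subgroup.coe_inv]
        exact Subgroup.inv_mem _ ha
    intro s hs
    have hsT : (⟨s, hS₀K hs⟩ : K) ∈ (T : Subgroup K) := (hmemT _).2 hs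
    rw [← hfoc] at hsT
    exact key _ hsT
  -- Frattini
  have hh₁ : F₁.hyperfocalSubgroup p ≤ S₀ := by
    unfold FusionSystem.hyperfocalSubgroup
    rw [Subgroup.closure_le]
    rintro y ⟨P, α, x, hPS, -, rfl⟩
    exact S₀.mul_mem (S₀.inv_mem (hPS x.2)) (hPS ((α : MulAut P) x).2)
  have hfin : Finite S₀ := inferInstance
  have h2 : S₀ ≤ F₁.hyperfocalSubgroup p :=
    le_of_le_sup_commutator S₀ hS₀p _ hh₁ (by rw [← h92]; exact h1)
  -- compare the hyperfocal subgroups
  have h3 : F₁.hyperfocalSubgroup p ≤ (groupFusionSystem (S : Subgroup G)).hyperfocalSubgroup p := by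
    unfold FusionSystem.hyperfocalSubgroup
    rw [Subgroup.closure_le]
    rintro y ⟨P, α, x, hPS, hα, rfl⟩
    have hle : F₁.autGroup P ≤ (groupFusionSystem (S : Subgroup G)).autGroup P := by
      intro β hβ
      rw [mem_autGroup_iff _ hPS] at hβ
      rw [mem_autGroup_iff _ (hPS.trans hS₀S)]
      obtain ⟨-, hβ2, g, -, hg⟩ := hβ
      exact ⟨hPS.trans hS₀S, fun x => hS₀S (hβ2 x), g, hg⟩
    have hjα : Subgroup.inclusion hle α ∈ pResidual p ((groupFusionSystem (S : Subgroup G)).autGroup P) :=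
      map_pResidual_le p (Subgroup.inclusion hle) ⟨α, hα, rfl⟩
    exact Subgroup.subset_closure ⟨P, Subgroup.inclusion hle α, x, hPS.trans hS₀S, hjα, rfl⟩
  exact h2.trans h3

/-- Hyperfocal subgroup Theorem: for a finite group G with Sylow p-subgroup S, the hyperfocal subgroup of the fusion system of G on S equals S ∩ O^p(G), where O^p(G) is the subgroup generated by the elements of order prime to p. -/
theorem result {G : Type*} [Group G] [Finite G] (p : ℕ) [Fact p.Prime] (S : Sylow p G) : (Cfsg.groupFusionSystem (S : Subgroup G)).hyperfocalSubgroup p = (S : Subgroup G) ⊓ Cfsg.pResidual p G := by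
  apply le_antisymm
  · exact hyperfocal_le p (S : Subgroup G)
  · have hKn : (pResidual p G).Normal := Cfsg.Agent.Lib.Helper34.pResidual_normal p G
    exact inf_le_hyperfocal p S (pResidual p G) (pResidual_pResidual_eq_top p G)

end Cfsg.Agent.S5093
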