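import Cfsg.Statements.S0078
import Cfsg.Agent.S5093

set_option autoImplicit false
open Cfsg

namespace Cfsg.Agent.S0078

open Cfsg.FusionSystem
open Cfsg.Agent.Lib.Helper87
open Cfsg.Agent.Lib.Helper84

variable {G : Type*} [Group G]

/-- Transport of the centre of a Sylow subgroup under conjugation. -/
theorem mem_center_smul_iff {p : ℕ} (P₁ : Sylow p G) (m y : G) :
    y ∈ (((m⁻¹ • P₁ : Sylow p G) : Subgroup G) ⊓
        Subgroup.centralizer ((m⁻¹ • P₁ : Sylow p G) : Set G)) ↔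
      m * y * m⁻¹ ∈ ((P₁ : Subgroup G) ⊓ Subgroup.centralizer (P₁ : Set G)) := by
  have hmem : ∀ w : G, w ∈ ((m⁻¹ • P₁ : Sylow p G) : Subgroup G) ↔ m * w * m⁻¹ ∈ (P₁ : Subgroup G) := by
    intro w
    rw [Cfsg.Agent.Lib.Helper34.mem_sylow_smul_iff, inv_inv]
  rw [Subgroup.mem_inf, Subgroup.mem_inf, hmem y, Subgroup.mem_centralizer_iff, Subgroup.mem_centralizer_iff]
  constructor
  · rintro ⟨h1, h2⟩
    refine ⟨h1, fun u hu => ?_⟩
    have hw : m⁻¹ * u * m ∈ ((m⁻¹ • P₁ : Sylow p G) : Subgroup G) := by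
      rw [hmem]
      have : m * (m⁻¹ * u * m) * m⁻¹ = u := by group
      rw [this]; exact hu
    have := h2 _ hw
    calc u * (m * y * m⁻¹) = m * ((m⁻¹ * u * m) * y) * m⁻¹ := by group
      _ = m * (y * (m⁻¹ * u * m)) * m⁻¹ := by rw [this]
      _ = m * y * m⁻¹ * u := by group
  · rintro ⟨h1, h2⟩
    refine ⟨h1, fun w hw => ?_⟩
    have := h2 _ ((hmem w).1 hw)
    calc w * y = m⁻¹ * ((m * w * m⁻¹) * (m * y * m⁻¹)) * m := by group
      _ = m⁻¹ * ((m * y * m⁻¹) * (m * w * m⁻¹)) * m := by rw [this]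
      _ = y * w := by group

/-- **Control of fusion in a `p`-normal group**: if `Z(P)` is the centre of every Sylow `p`-subgroup containing it, then
conjugation between subgroups of `P` is induced by `N_G(Z(P))`. -/
theorem exists_normalizer_conj [Finite G] {p : ℕ} [Fact p.Prime] (P : Sylow p G)
    (hn : ∀ Q : Sylow p G, (P : Subgroup G) ⊓ Subgroup.centralizer (P : Set G) ≤ (Q : Subgroup G) →
      (Q : Subgroup G) ⊓ Subgroup.centralizer (Q : Set G) = (P : Subgroup G) ⊓ Subgroup.centralizer (P : Set G))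
    {Q : Subgroup G} (hQP : Q ≤ P) (g : G) (hg : ∀ x ∈ Q, g * x * g⁻¹ ∈ (P : Subgroup G)) :
    ∃ n ∈ Subgroup.normalizer (((P : Subgroup G) ⊓ Subgroup.centralizer (P : Set G) : Subgroup G) : Set G),
      ∀ x ∈ Q, n * x * n⁻¹ = g * x * g⁻¹ := by
  set Z : Subgroup G := (P : Subgroup G) ⊓ Subgroup.centralizer (P : Set G) with hZ
  set Q' : Subgroup G := Q.map (MulAut.conj g).toMonoidHom with hQ'
  have hQ'mem : ∀ x ∈ Q, g * x * g⁻¹ ∈ Q' := fun x hx => ⟨x, hx, rfl⟩
  set C : Subgroup G := Subgroup.centralizer (Q' : Set G) with hC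
  have hZp : IsPGroup p Z := P.isPGroup'.to_le inf_le_left
  have hZC : Z ≤ C := by
    intro z hz
    rw [hC, Subgroup.mem_centralizer_iff]
    rintro _ ⟨x, hx, rfl⟩
    have h1 : g * x * g⁻¹ ∈ (P : Subgroup G) := hg x hx
    exact (Subgroup.mem_centralizer_iff.1 hz.2 _ h1)
  have hZgC : ∀ z ∈ Z, g * z * g⁻¹ ∈ C := by
    intro z hz
    rw [hC, Subgroup.mem_centralizer_iff]
    rintro _ ⟨x, hx, rfl⟩
    have h1 : x * z = z * x := Subgroup.mem_centralizer_iff.1 hz.2 x (hQP hx)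
    show (g * x * g⁻¹) * (g * z * g⁻¹) = (g * z * g⁻¹) * (g * x * g⁻¹)
    calc (g * x * g⁻¹) * (g * z * g⁻¹) = g * (x * z) * g⁻¹ := by group
      _ = g * (z * x) * g⁻¹ := by rw [h1]
      _ = (g * z * g⁻¹) * (g * x * g⁻¹) := by group
  -- Sylow subgroups of `C`
  have hZCp : IsPGroup p (Z.subgroupOf C) := hZp.comap_subtype
  set Zg : Subgroup G := Z.map (MulAut.conj g).toMonoidHom with hZgdef
  have hZgp : IsPGroup p Zg := hZp.map _
  have hZgCp : IsPGroup p (Zg.subgroupOf C) := hZgp.comap_subtype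
  obtain ⟨R, hR⟩ := hZCp.exists_le_sylow
  obtain ⟨R', hR'⟩ := hZgCp.exists_le_sylow
  obtain ⟨c, hc⟩ := MulAction.exists_smul_eq C R' R
  have hRp : IsPGroup p ((R : Subgroup C).map C.subtype) := R.isPGroup'.map _
  obtain ⟨P₁, hP₁⟩ := hRp.exists_le_sylow
  have hZP₁ : Z ≤ P₁ := by
    intro z hz
    exact hP₁ ⟨⟨z, hZC hz⟩, hR (Subgroup.mem_subgroupOf.2 hz), rfl⟩
  set m : G := (c : G) * g with hm
  have hmZ : ∀ z ∈ Z, m * z * m⁻¹ ∈ (P₁ : Subgroup G) := by
    intro z hz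
    have h1 : (⟨g * z * g⁻¹, hZgC z hz⟩ : C) ∈ (R' : Subgroup C) :=
      hR' (Subgroup.mem_subgroupOf.2 ⟨z, hz, rfl⟩)
    have h2 : c * ⟨g * z * g⁻¹, hZgC z hz⟩ * c⁻¹ ∈ ((c • R' : Sylow p C) : Subgroup C) := by
      rw [Cfsg.Agent.Lib.Helper34.mem_sylow_smul_iff]
      have : c⁻¹ * (c * ⟨g * z * g⁻¹, hZgC z hz⟩ * c⁻¹) * c = ⟨g * z * g⁻¹, hZgC z hz⟩ := by group
      rw [this]; exact h1
    rw [hc] at h2
    have h3 := hP₁ ⟨_, h2, rfl⟩
    have h4 : C.subtype (c * ⟨g * z * g⁻¹, hZgC z hz⟩ * c⁻¹) = m * z * m⁻¹ := by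
      rw [hm]
      simp only [Subgroup.coe_subtype, Subgroup.coe_mul, Subgroup.coe_inv]
      group
    rw [h4] at h3
    exact h3
  have hZ₁ := hn P₁ hZP₁
  have hZP₃ : Z ≤ ((m⁻¹ • P₁ : Sylow p G) : Subgroup G) := by
    intro z hz
    rw [Cfsg.Agent.Lib.Helper34.mem_sylow_smul_iff, inv_inv]
    exact hmZ z hz
  have hZ₃ := hn (m⁻¹ • P₁) hZP₃
  refine ⟨m, ?_, ?_⟩
  · rw [Subgroup.mem_normalizer_iff]
    intro y
    have := mem_center_smul_iff P₁ m y
    rw [hZ₃, hZ₁] at this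
    exact this
  · intro x hx
    have hcx : (g * x * g⁻¹) * (c : G) = (c : G) * (g * x * g⁻¹) :=
      Subgroup.mem_centralizer_iff.1 c.2 _ (hQ'mem x hx)
    calc m * x * m⁻¹ = (c : G) * (g * x * g⁻¹) * (c : G)⁻¹ := by rw [hm]; group
      _ = (g * x * g⁻¹) * (c : G) * (c : G)⁻¹ := by rw [hcx]
      _ = g * x * g⁻¹ := by group

/-- If every element of `Aut_G(Q)` is induced by an element of `V ≥ S`, then the elements of `O^p(Aut_G(Q))` move elements of
`Q` within `O^p(V)`. -/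
theorem inv_mul_apply_mem_of_induced [Finite G] (p : ℕ) [Fact p.Prime] (S V : Subgroup G) (hSV : S ≤ V)
    {Q : Subgroup G} (hQS : Q ≤ S)
    (hind : ∀ a ∈ (groupFusionSystem S).autGroup Q, ∃ v ∈ V, ∀ y : Q, (((a : MulAut Q) y : Q) : G) = v * y * v⁻¹)
    (α : (groupFusionSystem S).autGroup Q) (hα : α ∈ pResidual p ((groupFusionSystem S).autGroup Q)) (x : Q) :
    (x : G)⁻¹ * (((α : MulAut Q) x : Q) : G) ∈ (pResidual p V).map V.subtype := by
  have hVn : (pResidual p V).Normal := Cfsg.Agent.Lib.Helper34.pResidual_normal p V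
  have hKV : ∀ w ∈ V, ∀ k ∈ (pResidual p V).map V.subtype, w * k * w⁻¹ ∈ (pResidual p V).map V.subtype := by
    rintro w hw _ ⟨k, hk, rfl⟩
    exact ⟨⟨w, hw⟩ * k * ⟨w, hw⟩⁻¹, hVn.conj_mem k hk ⟨w, hw⟩, rfl⟩
  revert x
  unfold pResidual at hα
  induction hα using Subgroup.closure_induction with
  | mem a ha =>
    intro x
    obtain ⟨v, hvV, hv⟩ := hind a a.2
    have hvN : v ∈ Subgroup.normalizer (Q : Set G) := mem_normalizer_of_induces hv
    set f : ↥(V ⊓ Subgroup.normalizer (Q : Set G)) →* MulAut Q :=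
      Q.normalizerMonoidHom.comp (Subgroup.inclusion inf_le_right) with hf
    have hfa : f ⟨v, ⟨hvV, hvN⟩⟩ = (a : MulAut Q) := by
      ext y
      rw [hv y]
      rfl
    have hord : Nat.Coprime (orderOf (f ⟨v, ⟨hvV, hvN⟩⟩)) p := by
      rw [hfa, Subgroup.orderOf_coe]
      exact ha
    obtain ⟨m', hm', hm'a⟩ := exists_mem_pResidual_apply_eq f ⟨v, ⟨hvV, hvN⟩⟩ hord
    have hm'V : (m' : G) ∈ (pResidual p V).map V.subtype := by
      have h1 := map_pResidual_le p (Subgroup.inclusion (inf_le_left :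
        V ⊓ Subgroup.normalizer (Q : Set G) ≤ V)) ⟨m', hm', rfl⟩
      exact ⟨_, h1, rfl⟩
    have hax : (((a : MulAut Q) x : Q) : G) = (m' : G) * x * (m' : G)⁻¹ := by
      rw [← hfa, ← hm'a]
      rfl
    rw [hax]
    have h1 : (x : G)⁻¹ * ((m' : G) * x * (m' : G)⁻¹) = ((x : G)⁻¹ * (m' : G) * (x : G)⁻¹⁻¹) * (m' : G)⁻¹ := by
      group
    rw [h1]
    exact Subgroup.mul_mem _ (hKV _ (V.inv_mem (hSV (hQS x.2))) _ hm'V) (Subgroup.inv_mem _ hm'V)
  | one =>
    intro x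
    simp
  | mul a b _ _ iha ihb =>
    intro x
    have h1 : (x : G)⁻¹ * ((((a * b : (groupFusionSystem S).autGroup Q) : MulAut Q) x : Q) : G) =
        ((x : G)⁻¹ * (((b : MulAut Q) x : Q) : G)) *
          ((((b : MulAut Q) x : Q) : G)⁻¹ * (((a : MulAut Q) ((b : MulAut Q) x) : Q) : G)) := by
      rw [Subgroup.coe_mul, MulAut.mul_apply]
      group
    rw [h1]
    exact Subgroup.mul_mem _ (ihb x) (iha _)
  | inv a _ iha =>
    intro x
    have h1 : (x : G)⁻¹ * ((((a⁻¹ : (groupFusionSystem S).autGroup Q) : MulAut Q) x : Q) : G) =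
        (((((a : MulAut Q)⁻¹ x : Q) : G))⁻¹ * (((a : MulAut Q) ((a : MulAut Q)⁻¹ x) : Q) : G))⁻¹ := by
      rw [Subgroup.coe_inv, MulAut.apply_inv_self]
      group
    rw [h1]
    exact Subgroup.inv_mem _ (iha _)

/-- In a p-normal group, a Sylow p-subgroup P meets O^p(G) exactly where it meets O^p(V), for any subgroup V containing the normalizer of the centre of P. -/
theorem result {G : Type*} [Group G] [Finite G] {p : ℕ} [Fact p.Prime] (P : Sylow p G) (hn : ∀ Q : Sylow p G, (P : Subgroup G) ⊓ Subgroup.centralizer (P : Set G) ≤ (Q : Subgroup G) → (Q : Subgroup G) ⊓ Subgroup.centralizer (Q : Set G) = (P : Subgroup G) ⊓ Subgroup.centralizer (P : Set G)) (V : Subgroup G) (hV : Subgroup.normalizer (((P : Subgroup G) ⊓ Subgroup.centralizer (P : Set G) : Subgroup G) : Set G) ≤ V) : (P : Subgroup G) ⊓ Cfsg.pResidual p G = (P : Subgroup G) ⊓ (Cfsg.pResidual p V).map V.subtype := by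
  -- `P` normalizes its centre
  have hPV : (P : Subgroup G) ≤ V := by
    refine le_trans ?_ hV
    intro u hu
    rw [Subgroup.mem_normalizer_iff]
    intro z
    rw [Subgroup.mem_inf, Subgroup.mem_inf]
    constructor
    · rintro ⟨hz1, hz2⟩
      refine ⟨(P : Subgroup G).mul_mem ((P : Subgroup G).mul_mem hu hz1) ((P : Subgroup G).inv_mem hu), ?_⟩
      have h1 : u * z * u⁻¹ = z := by
        have := Subgroup.mem_centralizer_iff.1 hz2 u hu
        calc u * z * u⁻¹ = z * u * u⁻¹ := by rw [this]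
          _ = z := by group
      rw [h1]; exact hz2
    · rintro ⟨hz1, hz2⟩
      have hzP : z ∈ (P : Subgroup G) := by
        have := (P : Subgroup G).mul_mem ((P : Subgroup G).mul_mem ((P : Subgroup G).inv_mem hu) hz1) hu
        have h2 : u⁻¹ * (u * z * u⁻¹) * u = z := by group
        rwa [h2] at this
      have h1 : u * z * u⁻¹ = z := by
        have hzc : z ∈ Subgroup.centralizer ((P : Subgroup G) : Set G) := by
          rw [Subgroup.mem_centralizer_iff] at hz2 ⊢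
          intro w hw
          have hw' : u * w * u⁻¹ ∈ (P : Subgroup G) :=
            (P : Subgroup G).mul_mem ((P : Subgroup G).mul_mem hu hw) ((P : Subgroup G).inv_mem hu)
          have := hz2 _ hw'
          calc w * z = u⁻¹ * ((u * w * u⁻¹) * (u * z * u⁻¹)) * u := by group
            _ = u⁻¹ * ((u * z * u⁻¹) * (u * w * u⁻¹)) * u := by rw [this]
            _ = z * w := by group
        have := Subgroup.mem_centralizer_iff.1 hzc u hu
        calc u * z * u⁻¹ = z * u * u⁻¹ := by rw [this]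
          _ = z := by group
      rw [h1] at hz2
      exact ⟨hzP, hz2⟩
  apply le_antisymm
  · rw [← Cfsg.Agent.S5093.result p P]
    unfold FusionSystem.hyperfocalSubgroup
    rw [Subgroup.closure_le]
    rintro y ⟨Q, α, x, hQP, hα, rfl⟩
    refine ⟨(P : Subgroup G).mul_mem ((P : Subgroup G).inv_mem (hQP x.2)) (hQP ((α : MulAut Q) x).2), ?_⟩
    refine inv_mul_apply_mem_of_induced p (P : Subgroup G) V hPV hQP ?_ α hα x
    intro a ha
    obtain ⟨-, hval, g, hg⟩ := (mem_autGroup_iff _ hQP).1 ha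
    have hgP : ∀ x ∈ Q, g * x * g⁻¹ ∈ (P : Subgroup G) := by
      intro x hx
      have := hval ⟨x, hx⟩
      rw [hg ⟨x, hx⟩] at this
      exact this
    obtain ⟨n, hnN, hnx⟩ := exists_normalizer_conj P hn hQP g hgP
    refine ⟨n, hV hnN, fun y => ?_⟩
    rw [hnx y y.2]
    exact hg y
  · exact inf_le_inf_left _ (map_pResidual_le p V.subtype)

end Cfsg.Agent.S0078
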