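import Cfsg.Statements.S0549
import Mathlib

set_option autoImplicit false
open Cfsg

namespace Cfsg.Agent.S0549

/-- A nontrivial normal subgroup together with a core-free coatom generates the whole group. -/
theorem sup_eq_top_of_normal {G : Type*} [Group G] (U : Subgroup G) (hU : IsCoatom U)
    (hcore : U.normalCore = ⊥) (K : Subgroup G) [K.Normal] (hK : K ≠ ⊥) : K ⊔ U = ⊤ := by
  by_contra hne
  have hle : K ≤ U := by
    by_contra hcon
    have hlt : U < K ⊔ U := by
      refine lt_of_le_of_ne le_sup_right ?_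
      intro heq
      apply hcon
      rw [heq]
      exact le_sup_left
    exact hne (hU.2 _ hlt)
  have : K ≤ U.normalCore := Subgroup.normal_le_normalCore.mpr hle
  rw [hcore] at this
  exact hK (le_bot_iff.mp this)

/-- The centralizer of a nontrivial normal subgroup meets a core-free coatom trivially. -/
theorem centralizer_inf_eq_bot {G : Type*} [Group G] (U : Subgroup G) (hU : IsCoatom U)
    (hcore : U.normalCore = ⊥) (N : Subgroup G) [N.Normal] (hN : N ≠ ⊥) :
    Subgroup.centralizer (N : Set G) ⊓ U = ⊥ := by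
  have hNU : N ⊔ U = ⊤ := sup_eq_top_of_normal U hU hcore N hN
  have hnorm : (Subgroup.centralizer (N : Set G) ⊓ U).Normal := by
    constructor
    intro d hd g
    have hg : g ∈ N ⊔ U := by rw [hNU]; trivial
    rw [Subgroup.mem_sup_of_normal_left] at hg
    obtain ⟨n, hn, u, hu, rfl⟩ := hg
    have h1 : u * d * u⁻¹ ∈ Subgroup.centralizer (N : Set G) ⊓ U :=
      ⟨Subgroup.Normal.conj_mem inferInstance d hd.1 u, U.mul_mem (U.mul_mem hu hd.2) (U.inv_mem hu)⟩
    have h2 : n * u * d * (n * u)⁻¹ = n * (u * d * u⁻¹) * n⁻¹ := by group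
    rw [h2]
    have h3 : n * (u * d * u⁻¹) = (u * d * u⁻¹) * n := h1.1 n hn
    rw [h3, mul_assoc, mul_inv_cancel, mul_one]
    exact h1
  have : Subgroup.centralizer (N : Set G) ⊓ U ≤ U.normalCore :=
    Subgroup.normal_le_normalCore.mpr inf_le_right
  rw [hcore] at this
  exact le_bot_iff.mp this

/-- Let U be a maximal subgroup of a finite group G whose normal core is trivial, and N a nontrivial normal subgroup with centralizer C. Then C ∩ U = 1, and either C = 1 or C is a minimal normal subgroup of G. -/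
theorem result {G : Type*} [Group G] [Finite G] (U : Subgroup G) (hU : IsCoatom U) (hcore : U.normalCore = ⊥) (N : Subgroup G) [N.Normal] (hN : N ≠ ⊥) : Subgroup.centralizer (N : Set G) ⊓ U = ⊥ ∧ (Subgroup.centralizer (N : Set G) = ⊥ ∨ (Subgroup.centralizer (N : Set G) ≠ ⊥ ∧ ∀ K : Subgroup G, K.Normal → K ≤ Subgroup.centralizer (N : Set G) → K = ⊥ ∨ K = Subgroup.centralizer (N : Set G))) := by
  have h1 := centralizer_inf_eq_bot U hU hcore N hN
  refine ⟨h1, ?_⟩
  by_cases hC : Subgroup.centralizer (N : Set G) = ⊥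
  · exact Or.inl hC
  · refine Or.inr ⟨hC, ?_⟩
    intro K hKn hKC
    by_cases hK : K = ⊥
    · exact Or.inl hK
    · refine Or.inr (le_antisymm hKC ?_)
      have hKU : K ⊔ U = ⊤ := sup_eq_top_of_normal U hU hcore K hK
      intro c hc
      have hc' : c ∈ K ⊔ U := by rw [hKU]; trivial
      rw [Subgroup.mem_sup_of_normal_left] at hc'
      obtain ⟨k, hk, u, hu, rfl⟩ := hc'
      have hu' : u ∈ Subgroup.centralizer (N : Set G) ⊓ U := by
        refine ⟨?_, hu⟩
        have : u = k⁻¹ * (k * u) := by group
        rw [this]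
        exact Subgroup.mul_mem _ (Subgroup.inv_mem _ (hKC hk)) hc
      rw [h1] at hu'
      have : u = 1 := hu'
      rw [this, mul_one]
      exact hk

end Cfsg.Agent.S0549
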