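import Cfsg.Statements.S0551
import Cfsg.Agent.S0549
import Mathlib

set_option autoImplicit false
open Cfsg
open Pointwise

namespace Cfsg.Agent.S0551


theorem exists_minimal_normal {G : Type*} [Group G] [Finite G] (N : Subgroup G) [N.Normal]
    (hN : N ≠ ⊥) :
    ∃ M : Subgroup G, M.Normal ∧ M ≠ ⊥ ∧ M ≤ N ∧
      ∀ K : Subgroup G, K.Normal → K ≤ M → K = ⊥ ∨ K = M := by
  obtain ⟨M, hMmin⟩ := (Set.toFinite {M : Subgroup G | M.Normal ∧ M ≠ ⊥ ∧ M ≤ N}).exists_minimal
    ⟨N, inferInstance, hN, le_rfl⟩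
  obtain ⟨hMn, hMne, hMN⟩ := hMmin.1
  refine ⟨M, hMn, hMne, hMN, ?_⟩
  intro K hKn hKM
  by_cases hK : K = ⊥
  · exact Or.inl hK
  · exact Or.inr (le_antisymm hKM (hMmin.2 ⟨hKn, hK, hKM.trans hMN⟩ hKM))

theorem eq_bot_of_commutator_eq {G : Type*} [Group G] (M N : Subgroup G) (hMN : M ≤ N)
    (hN : Group.IsNilpotent N) (h : ⁅M, N⁆ = M) : M = ⊥ := by
  obtain ⟨n, hn⟩ := (Subgroup.isNilpotent_iff_lowerCentralSeries N).mp hN
  have key : ∀ k, M ≤ N.lowerCentralSeries k := by
    intro k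
    induction k with
    | zero => simpa using hMN
    | succ k ih =>
      rw [Subgroup.lowerCentralSeries_succ]
      calc M = ⁅M, N⁆ := h.symm
        _ ≤ ⁅N.lowerCentralSeries k, N⁆ := Subgroup.commutator_mono ih le_rfl
  have := key n
  rw [hn] at this
  exact le_bot_iff.mp this

theorem minimal_normal_solvable {G : Type*} [Group G] [Finite G] [Group.IsSolvable G] (M : Subgroup G)
    [M.Normal] (hM : M ≠ ⊥)
    (hmin : ∀ K : Subgroup G, K.Normal → K ≤ M → K = ⊥ ∨ K = M) :
    M ≤ Subgroup.centralizer (M : Set G) ∧ ∃ p : ℕ, p.Prime ∧ IsPGroup p M := by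
  classical
  have hcomm : ⁅M, M⁆ = ⊥ := by
    rcases hmin ⁅M, M⁆ inferInstance (Subgroup.commutator_le_left M M) with h | h
    · exact h
    · exfalso
      obtain ⟨n, hn⟩ := (Group.isSolvable_def G).mp inferInstance
      have key : ∀ k, M ≤ derivedSeries G k := by
        intro k
        induction k with
        | zero => simp
        | succ k ih =>
          rw [derivedSeries_succ]
          calc M = ⁅M, M⁆ := h.symm
            _ ≤ ⁅derivedSeries G k, derivedSeries G k⁆ := Subgroup.commutator_mono ih ih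
      have := key n
      rw [hn] at this
      exact hM (le_bot_iff.mp this)
  have hcent : M ≤ Subgroup.centralizer (M : Set G) :=
    Subgroup.commutator_eq_bot_iff_le_centralizer.mp hcomm
  refine ⟨hcent, ?_⟩
  -- a prime dividing the order
  have hcard : Nat.card M ≠ 1 := by
    intro h1
    exact hM ((Subgroup.card_eq_one).mp h1)
  obtain ⟨p, hp, hpdvd⟩ := Nat.exists_prime_and_dvd hcard
  have : Fact p.Prime := ⟨hp⟩
  obtain ⟨x, hx⟩ := exists_prime_orderOf_dvd_card' p hpdvd
  -- the subgroup of elements of M of order dividing p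
  let Mp : Subgroup G :=
    { carrier := {y | y ∈ M ∧ y ^ p = 1}
      mul_mem' := by
        rintro a b ⟨ha, hap⟩ ⟨hb, hbp⟩
        refine ⟨M.mul_mem ha hb, ?_⟩
        have hab : Commute a b := (hcent ha b hb).symm
        rw [hab.mul_pow, hap, hbp, one_mul]
      one_mem' := ⟨M.one_mem, one_pow _⟩
      inv_mem' := by
        rintro a ⟨ha, hap⟩
        exact ⟨M.inv_mem ha, by rw [inv_pow, hap, inv_one]⟩ }
  have hMpn : Mp.Normal := by
    constructor
    rintro a ⟨ha, hap⟩ g
    refine ⟨Subgroup.Normal.conj_mem inferInstance a ha g, ?_⟩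
    rw [conj_pow, hap, mul_one, mul_inv_cancel]
  have hMple : Mp ≤ M := fun y hy => hy.1
  have hMpne : Mp ≠ ⊥ := by
    intro hbot
    have hxmem : (x : G) ∈ Mp := by
      refine ⟨x.2, ?_⟩
      have : x ^ p = 1 := by rw [← hx]; exact pow_orderOf_eq_one x
      have := congrArg Subtype.val this
      simpa using this
    rw [hbot] at hxmem
    have hx1 : (x : G) = 1 := hxmem
    have : x = 1 := Subtype.ext hx1
    rw [this, orderOf_one] at hx
    exact hp.one_lt.ne hx
  have hMpM : Mp = M := by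
    rcases hmin Mp hMpn hMple with h | h
    · exact absurd h hMpne
    · exact h
  refine ⟨p, hp, ?_⟩
  intro y
  refine ⟨1, ?_⟩
  have hy : (y : G) ∈ Mp := by rw [hMpM]; exact y.2
  apply Subtype.ext
  simpa using hy.2


/-- Sylow conjugacy inside a subgroup `L`, transported to the ambient group. -/
theorem exists_conj_of_sylow_in {G : Type*} [Group G] [Finite G] (L Q R : Subgroup G) (q : ℕ)
    [Fact q.Prime] (hQL : Q ≤ L) (hRL : R ≤ L)
    (hQ : IsPGroup q (Q.subgroupOf L)) (hQi : ¬ q ∣ (Q.subgroupOf L).index)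
    (hR : IsPGroup q (R.subgroupOf L)) (hRi : ¬ q ∣ (R.subgroupOf L).index) :
    ∃ l ∈ L, MulAut.conj l • Q = R := by
  let P₁ : Sylow q L := hQ.toSylow hQi
  let P₂ : Sylow q L := hR.toSylow hRi
  obtain ⟨l, hl⟩ := MulAction.exists_smul_eq L P₁ P₂
  have hl' : MulAut.conj l • (Q.subgroupOf L) = R.subgroupOf L := by
    have := congrArg (fun P : Sylow q L => (P : Subgroup L)) hl
    simpa [Sylow.coe_subgroup_smul, P₁, P₂] using this
  refine ⟨l, l.2, ?_⟩
  ext x
  rw [Subgroup.mem_pointwise_smul_iff_inv_smul_mem]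
  simp only [MulAut.smul_def, ← map_inv, MulAut.conj_apply, inv_inv]
  constructor
  · intro hx
    have hxL : x ∈ L := by
      have h1 : (l : G)⁻¹ * x * l ∈ L := hQL hx
      have : x = (l : G) * ((l : G)⁻¹ * x * l) * (l : G)⁻¹ := by group
      rw [this]
      exact L.mul_mem (L.mul_mem l.2 h1) (L.inv_mem l.2)
    have h2 : (⟨x, hxL⟩ : L) ∈ MulAut.conj l • (Q.subgroupOf L) := by
      rw [Subgroup.mem_pointwise_smul_iff_inv_smul_mem]
      simp only [MulAut.smul_def, ← map_inv, MulAut.conj_apply, inv_inv]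
      rw [Subgroup.mem_subgroupOf]
      simpa using hx
    rw [hl'] at h2
    simpa [Subgroup.mem_subgroupOf] using h2
  · intro hx
    have hxL : x ∈ L := hRL hx
    have h2 : (⟨x, hxL⟩ : L) ∈ R.subgroupOf L := by
      rw [Subgroup.mem_subgroupOf]; exact hx
    rw [← hl', Subgroup.mem_pointwise_smul_iff_inv_smul_mem] at h2
    simp only [MulAut.smul_def, ← map_inv, MulAut.conj_apply, inv_inv] at h2
    rw [Subgroup.mem_subgroupOf] at h2
    simpa using h2


/-- Dedekind: if `M ⊔ W = ⊤`, `M` normal and `M ≤ L`, then `L ≤ M ⊔ (L ⊓ W)`. -/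
theorem le_sup_inf_of_sup_eq_top {G : Type*} [Group G] (M W L : Subgroup G) [M.Normal]
    (hMW : M ⊔ W = ⊤) (hML : M ≤ L) : L ≤ M ⊔ (L ⊓ W) := by
  intro x hx
  have hx' : x ∈ M ⊔ W := by rw [hMW]; trivial
  rw [Subgroup.mem_sup_of_normal_left] at hx'
  obtain ⟨m, hm, w, hw, rfl⟩ := hx'
  have hwL : w ∈ L := by
    have : w = m⁻¹ * (m * w) := by group
    rw [this]
    exact L.mul_mem (L.inv_mem (hML hm)) hx
  exact Subgroup.mul_mem_sup hm ⟨hwL, hw⟩

/-- Inside `L`, the subgroup `L ⊓ W` is a complement to `M`. -/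
theorem isComplement'_subgroupOf {G : Type*} [Group G] (M W L : Subgroup G) [M.Normal]
    (hMW : M ⊔ W = ⊤) (hMWinf : M ⊓ W = ⊥) (hML : M ≤ L) :
    Subgroup.IsComplement' (M.subgroupOf L) ((L ⊓ W).subgroupOf L) := by
  apply Subgroup.isComplement'_of_disjoint_and_mul_eq_univ
  · rw [disjoint_iff, eq_bot_iff]
    rintro ⟨x, hxL⟩ ⟨h1, h2⟩
    rw [Subgroup.mem_bot]
    apply Subtype.ext
    have h1' : x ∈ M := by simpa [Subgroup.mem_subgroupOf] using h1
    have h2' : x ∈ W := by simpa [Subgroup.mem_subgroupOf] using h2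
    have : x ∈ M ⊓ W := ⟨h1', h2'⟩
    rw [hMWinf] at this
    exact this
  · rw [← Subgroup.normal_mul]
    have : M.subgroupOf L ⊔ (L ⊓ W).subgroupOf L = ⊤ := by
      rw [eq_top_iff]
      rintro ⟨x, hxL⟩ _
      have hx' := le_sup_inf_of_sup_eq_top M W L hMW hML hxL
      rw [Subgroup.mem_sup_of_normal_left] at hx'
      obtain ⟨m, hm, w, hw, hmw⟩ := hx'
      have : (⟨x, hxL⟩ : L) = ⟨m, hML hm⟩ * ⟨w, hw.1⟩ := by
        apply Subtype.ext
        simpa using hmw.symm
      rw [this]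
      exact Subgroup.mul_mem_sup (by simpa [Subgroup.mem_subgroupOf] using hm)
        (by simpa [Subgroup.mem_subgroupOf] using hw.2)
    rw [this]
    rfl


/-- If `L` is minimal among the normal subgroups strictly above `M` and `W` complements `M`,
then `L ⊓ W` is a `q`-group for some prime `q`. -/
theorem isPGroup_inf_of_minimal_above {G : Type*} [Group G] [Finite G] [Group.IsSolvable G]
    (M W L : Subgroup G) [M.Normal] [L.Normal]
    (hMW : M ⊔ W = ⊤) (hMWinf : M ⊓ W = ⊥) (hML : M < L)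
    (hLmin : ∀ L' : Subgroup G, L'.Normal → M < L' → L' ≤ L → L ≤ L') :
    ∃ q : ℕ, q.Prime ∧ IsPGroup q (L ⊓ W : Subgroup G) := by
  classical
  let Q' : Subgroup W := L.subgroupOf W
  have hQ'n : Q'.Normal := inferInstance
  have hQ'ne : Q' ≠ ⊥ := by
    intro h
    have hdisj : L ⊓ W = ⊥ := disjoint_iff.mp (Subgroup.subgroupOf_eq_bot.mp h)
    have : L ≤ M := by
      have := le_sup_inf_of_sup_eq_top M W L hMW hML.le
      rw [hdisj, sup_bot_eq] at this
      exact this
    exact absurd (lt_of_lt_of_le hML this) (lt_irrefl _)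
  have hQ'min : ∀ K' : Subgroup W, K'.Normal → K' ≤ Q' → K' = ⊥ ∨ K' = Q' := by
    intro K' hK'n hK'Q
    by_cases hK' : K' = ⊥
    · exact Or.inl hK'
    right
    apply le_antisymm hK'Q
    set K : Subgroup G := K'.map W.subtype with hK
    have hKW : K ≤ W := Subgroup.map_subtype_le K'
    have hKL : K ≤ L := by
      rintro _ ⟨x, hx, rfl⟩
      exact Subgroup.mem_subgroupOf.mp (hK'Q hx)
    have hnorm : (M ⊔ K).Normal := by
      rw [← Subgroup.normalizer_eq_top_iff, eq_top_iff, ← hMW]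
      refine sup_le (le_sup_left.trans Subgroup.le_normalizer) ?_
      rw [Subgroup.le_normalizer_iff]
      intro w hw x hx
      rw [Subgroup.mem_sup_of_normal_left] at hx
      obtain ⟨m, hm, k, hk, rfl⟩ := hx
      have h1 : w * m * w⁻¹ ∈ M := Subgroup.Normal.conj_mem inferInstance m hm w
      have h2 : w * k * w⁻¹ ∈ K := by
        obtain ⟨k', hk', rfl⟩ := hk
        refine ⟨⟨w, hw⟩ * k' * ⟨w, hw⟩⁻¹, hK'n.conj_mem k' hk' ⟨w, hw⟩, ?_⟩
        simp
      have : w * (m * k) * w⁻¹ = (w * m * w⁻¹) * (w * k * w⁻¹) := by group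
      rw [this]
      exact Subgroup.mul_mem_sup h1 h2
    have hlt : M < M ⊔ K := by
      refine lt_of_le_of_ne le_sup_left ?_
      intro heq
      have hKM : K ≤ M := by rw [heq]; exact le_sup_right
      have : K ≤ M ⊓ W := le_inf hKM hKW
      rw [hMWinf] at this
      apply hK'
      have hKbot : K = ⊥ := le_bot_iff.mp this
      exact (Subgroup.map_eq_bot_iff_of_injective K' W.subtype_injective).mp hKbot
    have hLle : L ≤ M ⊔ K := hLmin (M ⊔ K) hnorm hlt (sup_le hML.le hKL)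
    rintro ⟨x, hxW⟩ hxQ
    have hxL : x ∈ L := Subgroup.mem_subgroupOf.mp hxQ
    have hx' := hLle hxL
    rw [Subgroup.mem_sup_of_normal_left] at hx'
    obtain ⟨m, hm, k, hk, hmk⟩ := hx'
    have hmW : m ∈ W := by
      have : m = x * k⁻¹ := by rw [← hmk]; group
      rw [this]; exact W.mul_mem hxW (W.inv_mem (hKW hk))
    have hm1 : m = 1 := by
      have : m ∈ M ⊓ W := ⟨hm, hmW⟩
      rw [hMWinf] at this; exact this
    rw [hm1, one_mul] at hmk
    obtain ⟨k', hk', hk'eq⟩ := hk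
    have : (⟨x, hxW⟩ : W) = k' := by
      apply Subtype.ext
      show x = (k' : G)
      rw [← hmk, ← hk'eq]
      rfl
    rw [this]; exact hk'
  obtain ⟨-, q, hq, hQq⟩ := minimal_normal_solvable Q' hQ'ne hQ'min
  refine ⟨q, hq, ?_⟩
  have : (L ⊓ W : Subgroup G) = Q'.map W.subtype := by
    rw [Subgroup.subgroupOf_map_subtype]
  rw [this]
  exact hQq.map _


/-- In a finite solvable group all core-free maximal subgroups are conjugate. -/
theorem result {G : Type*} [Group G] [Finite G] [Group.IsSolvable G] (U V : Subgroup G) (hU : IsCoatom U) (hV : IsCoatom V) (hUc : U.normalCore = ⊥) (hVc : V.normalCore = ⊥) : ∃ g : G, MulAut.conj g • U = V := by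
  classical
  have htop : (⊤ : Subgroup G) ≠ ⊥ := by
    intro h
    apply hU.1
    rw [eq_top_iff, h]; exact bot_le
  obtain ⟨M, hMn, hMne, -, hMmin⟩ := exists_minimal_normal (⊤ : Subgroup G) htop
  have := hMn
  obtain ⟨hMcent, p, hp, hMp⟩ := minimal_normal_solvable M hMne hMmin
  obtain ⟨hCU, hCmin⟩ := S0549.result U hU hUc M hMne
  obtain ⟨hCV, -⟩ := S0549.result V hV hVc M hMne
  have hCM : Subgroup.centralizer (M : Set G) = M := by
    rcases hCmin with h | ⟨_, h⟩
    · exfalso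
      rw [h] at hMcent
      exact hMne (le_bot_iff.mp hMcent)
    · rcases h M inferInstance hMcent with h' | h'
      · exact absurd h' hMne
      · exact h'.symm
  rw [hCM] at hCU hCV
  have hMU : M ⊔ U = ⊤ := S0549.sup_eq_top_of_normal U hU hUc M hMne
  have hMV : M ⊔ V = ⊤ := S0549.sup_eq_top_of_normal V hV hVc M hMne
  by_cases hMtop : M = ⊤
  · refine ⟨1, ?_⟩
    have hU' : U = ⊥ := by rw [hMtop, top_inf_eq] at hCU; exact hCU
    have hV' : V = ⊥ := by rw [hMtop, top_inf_eq] at hCV; exact hCV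
    rw [hU', hV']
    simp
  obtain ⟨L, hLmin⟩ := (Set.toFinite {L : Subgroup G | L.Normal ∧ M < L}).exists_minimal
    ⟨⊤, inferInstance, lt_top_iff_ne_top.mpr hMtop⟩
  obtain ⟨hLn, hML⟩ := hLmin.1
  have := hLn
  have hLmin' : ∀ L' : Subgroup G, L'.Normal → M < L' → L' ≤ L → L ≤ L' :=
    fun L' h1 h2 h3 => hLmin.2 ⟨h1, h2⟩ h3
  obtain ⟨q, hq, hQU⟩ := isPGroup_inf_of_minimal_above M U L hMU hCU hML hLmin'
  have : Fact q.Prime := ⟨hq⟩
  have : Fact p.Prime := ⟨hp⟩
  have hcompU := isComplement'_subgroupOf M U L hMU hCU hML.le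
  have hcompV := isComplement'_subgroupOf M V L hMV hCV hML.le
  have hcardeq : Nat.card ((L ⊓ U).subgroupOf L) = Nat.card ((L ⊓ V).subgroupOf L) := by
    have h1 := hcompU.card_mul_card
    have h2 := hcompV.card_mul_card
    have hpos : 0 < Nat.card (M.subgroupOf L) := Nat.card_pos
    exact Nat.eq_of_mul_eq_mul_left hpos (h1.trans h2.symm)
  have hQU' : IsPGroup q ((L ⊓ U).subgroupOf L) := hQU.comap_subtype
  have hQV' : IsPGroup q ((L ⊓ V).subgroupOf L) := by
    obtain ⟨n, hn⟩ := (IsPGroup.iff_card).mp hQU'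
    rw [hcardeq] at hn
    exact IsPGroup.of_card hn
  have hqp : q ≠ p := by
    intro hqp
    subst hqp
    have hLp : IsPGroup q L := by
      have hle : L ≤ M ⊔ (L ⊓ U) := le_sup_inf_of_sup_eq_top M U L hMU hML.le
      exact (IsPGroup.to_sup_of_normal_left hMp hQU).to_le hle
    have hLnil : Group.IsNilpotent L := hLp.isNilpotent
    have hcomm : ⁅M, L⁆ = ⊥ := by
      rcases hMmin ⁅M, L⁆ inferInstance (Subgroup.commutator_le_left M L) with h | h
      · exact h
      · exact absurd (eq_bot_of_commutator_eq M L hML.le hLnil h) hMne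
    have hLC : L ≤ Subgroup.centralizer (M : Set G) := by
      rw [Subgroup.commutator_eq_bot_iff_le_centralizer] at hcomm
      exact Subgroup.le_centralizer_iff.mp hcomm
    rw [hCM] at hLC
    exact absurd (lt_of_lt_of_le hML hLC) (lt_irrefl _)
  have hMp' : IsPGroup p (M.subgroupOf L) := hMp.comap_subtype
  have hindU : ¬ q ∣ ((L ⊓ U).subgroupOf L).index := by
    rw [hcompU.index_eq_card]
    obtain ⟨n, hn⟩ := (IsPGroup.iff_card).mp hMp'
    rw [hn]
    intro hdvd
    exact hqp ((Nat.prime_dvd_prime_iff_eq hq hp).mp (hq.dvd_of_dvd_pow hdvd))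
  have hindV : ¬ q ∣ ((L ⊓ V).subgroupOf L).index := by
    rw [hcompV.index_eq_card]
    obtain ⟨n, hn⟩ := (IsPGroup.iff_card).mp hMp'
    rw [hn]
    intro hdvd
    exact hqp ((Nat.prime_dvd_prime_iff_eq hq hp).mp (hq.dvd_of_dvd_pow hdvd))
  obtain ⟨l, hlL, hl⟩ := exists_conj_of_sylow_in L (L ⊓ U) (L ⊓ V) q inf_le_left inf_le_left
    hQU' hindU hQV' hindV
  refine ⟨l, ?_⟩
  set N := Subgroup.normalizer ((L ⊓ V : Subgroup G) : Set G) with hN
  have hVN : V ≤ N := by
    rw [hN, Subgroup.le_normalizer_iff]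
    intro v hv x hx
    exact ⟨Subgroup.Normal.conj_mem inferInstance x hx.1 v,
      V.mul_mem (V.mul_mem hv hx.2) (V.inv_mem hv)⟩
  have hUN : MulAut.conj l • U ≤ N := by
    rw [hN, Subgroup.le_normalizer_iff]
    intro y hy x hx
    rw [← hl] at hx ⊢
    rw [Subgroup.mem_pointwise_smul_iff_inv_smul_mem] at hy hx ⊢
    simp only [MulAut.smul_def, ← map_inv, MulAut.conj_apply, inv_inv] at hy hx ⊢
    have : l⁻¹ * (y * x * y⁻¹) * l = (l⁻¹ * y * l) * (l⁻¹ * x * l) * (l⁻¹ * y * l)⁻¹ := by group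
    rw [this]
    exact ⟨Subgroup.Normal.conj_mem inferInstance _ hx.1 _,
      U.mul_mem (U.mul_mem hy hx.2) (U.inv_mem hy)⟩
  have hNtop : N ≠ ⊤ := by
    intro h
    have hn : (L ⊓ V : Subgroup G).Normal := Subgroup.normalizer_eq_top_iff.mp h
    have hle : L ⊓ V ≤ V.normalCore := Subgroup.normal_le_normalCore.mpr inf_le_right
    rw [hVc] at hle
    have hbot : L ⊓ V = ⊥ := le_bot_iff.mp hle
    have : L ≤ M := by
      have := le_sup_inf_of_sup_eq_top M V L hMV hML.le
      rw [hbot, sup_bot_eq] at this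
      exact this
    exact absurd (lt_of_lt_of_le hML this) (lt_irrefl _)
  have hNV : N = V := (hV.le_iff.mp hVN).resolve_left hNtop
  have hU' : IsCoatom (MulAut.conj l • U) := by
    have := (OrderIso.isCoatom_iff (MulEquiv.mapSubgroup (MulAut.conj l)) U).mpr hU
    exact this
  have hNU : N = MulAut.conj l • U := (hU'.le_iff.mp hUN).resolve_left hNtop
  rw [← hNU, hNV]

end Cfsg.Agent.S0551
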