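import Mathlib
import Cfsg.Statements.S0557
import Cfsg.Agent.Lib.Helper50.ChermakDelgado

set_option autoImplicit false
open Cfsg

namespace Cfsg.Agent.S0557

open Subgroup

/-- Order of `H / H*` is coprime to the index. -/
theorem coprime_quot {G : Type*} [Group G] [Finite G] (H : Subgroup G)
    (hHall : (Nat.card H).Coprime H.index) :
    (Nat.card (H ⧸ H.focalSubgroupOf)).Coprime H.index :=
  Nat.Coprime.coprime_dvd_left (Subgroup.card_quotient_dvd_card _) hHall

/-- For a Hall subgroup, `G = ker V * H`. -/
theorem exists_mul_mem_ker {G : Type*} [Group G] [Finite G] (H : Subgroup G)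
    (hHall : (Nat.card H).Coprime H.index) (g : G) :
    ∃ h ∈ H, g * h⁻¹ ∈ H.transferFocal.ker := by
  have hbij := (coprime_quot H hHall).pow_left_bijective
  obtain ⟨y, hy⟩ := hbij.2 (H.transferFocal g)
  obtain ⟨h, rfl⟩ := QuotientGroup.mk_surjective y
  refine ⟨h, h.2, ?_⟩
  rw [MonoidHom.mem_ker, map_mul, map_inv, transferFocal_eq_pow]
  simp only at hy
  rw [hy, mul_inv_cancel]

theorem ker_inf_eq_focal {G : Type*} [Group G] [Finite G] (H : Subgroup G)
    (hHall : (Nat.card H).Coprime H.index) :
    H.transferFocal.ker ⊓ H = H.focalSubgroup := by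
  have hbij := (coprime_quot H hHall).pow_left_bijective
  ext x
  constructor
  · rintro ⟨h1, h2⟩
    replace h1 : x ∈ H.transferFocal.ker := h1
    replace h2 : x ∈ H := h2
    rw [MonoidHom.mem_ker] at h1
    have := transferFocal_eq_pow H ⟨x, h2⟩
    rw [h1] at this
    have h3 : ((⟨x, h2⟩ : H) : H ⧸ H.focalSubgroupOf) = 1 := by
      apply hbij.1
      simp only
      rw [← this, one_pow]
    rw [QuotientGroup.eq_one_iff, focalSubgroupOf_def, mem_subgroupOf] at h3
    exact h3
  · intro hx
    have hxH : x ∈ H := focalSubgroup_le H hx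
    refine ⟨?_, hxH⟩
    change x ∈ H.transferFocal.ker
    rw [MonoidHom.mem_ker]
    have := transferFocal_eq_pow H ⟨x, hxH⟩
    rw [this]
    have h3 : ((⟨x, hxH⟩ : H) : H ⧸ H.focalSubgroupOf) = 1 := by
      rw [QuotientGroup.eq_one_iff, focalSubgroupOf_def, mem_subgroupOf]
      exact hx
    rw [h3, one_pow]

open scoped commutatorElement Pointwise

theorem focal_mono {G : Type*} [Group G] : Monotone (fun K : Subgroup G => Subgroup.focalSubgroup K) := by
  intro K K' h
  apply Subgroup.closure_mono
  rintro g ⟨hg, x, hx, u, rfl⟩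
  exact ⟨h hg, x, h hx, u, rfl⟩

theorem map_focal_le {G : Type*} [Group G] (N₁ : Subgroup G) (L : Subgroup N₁) :
    (Subgroup.focalSubgroup L).map N₁.subtype ≤ Subgroup.focalSubgroup (L.map N₁.subtype) := by
  rw [focalSubgroup_def, MonoidHom.map_closure, closure_le]
  rintro _ ⟨g, ⟨hg, x, hx, u, rfl⟩, rfl⟩
  apply Subgroup.subset_closure
  refine ⟨mem_map_of_mem _ hg, (x : G), mem_map_of_mem _ hx, (u : G), ?_⟩
  simp [commutatorElement_def]

theorem map_iterate_focal_le {G : Type*} [Group G] (N₁ : Subgroup G) (m : ℕ) :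
    ∀ L : Subgroup N₁, ((fun K : Subgroup N₁ => Subgroup.focalSubgroup K)^[m] L).map N₁.subtype ≤
      (fun K : Subgroup G => Subgroup.focalSubgroup K)^[m] (L.map N₁.subtype) := by
  induction m with
  | zero => intro L; exact le_rfl
  | succ m ih =>
    intro L
    rw [Function.iterate_succ_apply, Function.iterate_succ_apply]
    exact (ih _).trans ((focal_mono.iterate m) (map_focal_le N₁ L))

/-- An element of a finite group `L` whose order is coprime to the index of a normal subgroup `M`
lies in `M`. -/
theorem mem_of_pow_eq_one_of_coprime {L : Type*} [Group L] [Finite L] (M : Subgroup L) [M.Normal]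
    (k : ℕ) (hk : (M.index).Coprime k) (y : L) (hy : y ^ k = 1) : y ∈ M := by
  rw [← QuotientGroup.eq_one_iff]
  have h1 : (y : L ⧸ M) ^ k = 1 := by
    rw [← QuotientGroup.mk_pow, hy]; rfl
  have h2 : (y : L ⧸ M) ^ M.index = 1 := by
    rw [Subgroup.index_eq_card]; exact pow_card_eq_one'
  have h3 : orderOf (y : L ⧸ M) ∣ Nat.gcd M.index k :=
    Nat.dvd_gcd (orderOf_dvd_of_pow_eq_one h2) (orderOf_dvd_of_pow_eq_one h1)
  rw [hk, Nat.dvd_one, orderOf_eq_one_iff] at h3
  exact h3

theorem main (n : ℕ) : ∀ {G : Type*} [Group G] [Finite G] (H : Subgroup G),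
    (Nat.card H).Coprime H.index →
    (fun K : Subgroup G => Subgroup.focalSubgroup K)^[n] H = ⊥ →
    ∃ N : Subgroup G, N.Normal ∧ Subgroup.IsComplement' N H := by
  induction n with
  | zero =>
    intro G _ _ H _ hfoc
    rw [Function.iterate_zero, id_eq] at hfoc
    subst hfoc
    exact ⟨⊤, inferInstance, isComplement'_top_bot⟩
  | succ n ih =>
    intro G _ _ H hHall hfoc
    rw [Function.iterate_succ_apply] at hfoc
    set N₁ : Subgroup G := H.transferFocal.ker with hN₁
    set H₁ : Subgroup G := H.focalSubgroup with hH₁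
    have hinf : N₁ ⊓ H = H₁ := ker_inf_eq_focal H hHall
    have hH₁N : H₁ ≤ N₁ := by rw [← hinf]; exact inf_le_left
    have hH₁H : H₁ ≤ H := focalSubgroup_le H
    set L : Subgroup N₁ := H₁.subgroupOf N₁ with hL
    have hLmap : L.map N₁.subtype = H₁ := map_subgroupOf_eq_of_le hH₁N
    have cardL : Nat.card L = Nat.card H₁ := by
      rw [← hLmap]; exact (card_map_of_injective N₁.subtype_injective).symm
    have huniv : (N₁ : Set G) * (H : Set G) = Set.univ := by
      ext g
      simp only [Set.mem_univ, iff_true]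
      obtain ⟨h, hh, hg⟩ := exists_mul_mem_ker H hHall g
      refine ⟨g * h⁻¹, hg, h, hh, by group⟩
    have f1 := Cfsg.Agent.Lib.Helper50.card_mul_card_eq_card_inf_mul_card_mul N₁ H
    rw [huniv, Nat.card_congr (Equiv.Set.univ G), hinf, ← card_mul_index H] at f1
    have cN₁ : Nat.card N₁ = Nat.card H₁ * H.index := by
      have hpos : 0 < Nat.card H := Nat.card_pos
      apply Nat.eq_of_mul_eq_mul_right hpos
      rw [f1]; ring
    have hLidx : L.index = H.index := by
      have := card_mul_index L
      rw [cardL, cN₁] at this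
      exact Nat.eq_of_mul_eq_mul_left Nat.card_pos this
    have hdvd : Nat.card H₁ ∣ Nat.card H := card_dvd_of_le hH₁H
    have hHallL : (Nat.card L).Coprime L.index := by
      rw [cardL, hLidx]
      exact Nat.Coprime.coprime_dvd_left hdvd hHall
    have hfocL : (fun K : Subgroup N₁ => Subgroup.focalSubgroup K)^[n] L = ⊥ := by
      have := map_iterate_focal_le N₁ n L
      rw [hLmap, hfoc, le_bot_iff] at this
      exact (map_eq_bot_iff_of_injective _ N₁.subtype_injective).mp this
    obtain ⟨M, hMn, hMc⟩ := ih L hHallL hfocL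
    have cM : Nat.card M = H.index := by rw [← hLidx]; exact hMc.index_eq_card.symm
    have iM : M.index = Nat.card H₁ := by rw [← cardL]; exact hMc.symm.index_eq_card
    have cN : Nat.card (M.map N₁.subtype) = H.index := by
      rw [card_map_of_injective N₁.subtype_injective, cM]
    have hN₁n : N₁.Normal := by rw [hN₁]; infer_instance
    have key : ∀ y ∈ N₁, y ^ H.index = 1 → y ∈ M.map N₁.subtype := by
      intro y hy hyk
      have : (⟨y, hy⟩ : N₁) ∈ M := by
        apply mem_of_pow_eq_one_of_coprime M H.index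
        · rw [iM]; exact Nat.Coprime.coprime_dvd_left hdvd hHall
        · apply Subtype.ext
          simpa using hyk
      exact ⟨⟨y, hy⟩, this, rfl⟩
    refine ⟨M.map N₁.subtype, ⟨?_⟩, isComplement'_of_coprime ?_ ?_⟩
    · intro x hx g
      have hxN₁ : x ∈ N₁ := by
        obtain ⟨y, _, rfl⟩ := hx
        exact y.2
      apply key _ (hN₁n.conj_mem x hxN₁ g)
      rw [conj_pow]
      have : x ^ H.index = 1 := by
        rw [← cN]
        have := pow_card_eq_one' (G := (M.map N₁.subtype)) (x := ⟨x, hx⟩)
        simpa using congrArg Subtype.val this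
      rw [this]; group
    · rw [cN, mul_comm, card_mul_index]
    · rw [cN]; exact hHall.symm

/-- Let H be a subgroup of a finite group G with order coprime to its index. If iterating the focal-subgroup construction starting from H reaches the trivial subgroup after finitely many steps, then H has a normal complement in G. -/
theorem result {G : Type*} [Group G] [Finite G] (H : Subgroup G) (hHall : (Nat.card H).Coprime H.index) (n : ℕ) (hfoc : (fun K : Subgroup G => Subgroup.focalSubgroup K)^[n] H = ⊥) : ∃ N : Subgroup G, N.Normal ∧ Subgroup.IsComplement' N H :=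
  main n H hHall hfoc

end Cfsg.Agent.S0557
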