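import Mathlib
import Cfsg.Statements.S0558
import Cfsg.Agent.S0557
import Cfsg.Agent.S0551

set_option autoImplicit false
open Cfsg

namespace Cfsg.Agent.S0558

open Subgroup
open scoped commutatorElement Pointwise

variable {G : Type*} [Group G] [Finite G]

/-- A Sylow `p`-subgroup `P` of `H` whose normalizer in `G` is `H` is a Sylow `p`-subgroup of `G`. -/
theorem sylow_of_normalizer_eq {p : ℕ} [Fact p.Prime] (H : Subgroup G) (P : Sylow p H)
    (hN : Subgroup.normalizer (((P : Subgroup H).map H.subtype : Subgroup G) : Set G) = H) :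
    ∃ S : Sylow p G, (S : Subgroup G) = (P : Subgroup H).map H.subtype := by
  set P' := (P : Subgroup H).map H.subtype with hP'
  have hP'p : IsPGroup p P' := P.2.map _
  obtain ⟨S, hS⟩ := hP'p.exists_le_sylow
  refine ⟨S, le_antisymm ?_ hS⟩
  have hSH : (S : Subgroup G) ⊓ H = P' := by
    have h1 : IsPGroup p (((S : Subgroup G) ⊓ H).subgroupOf H) :=
      (S.2.to_le inf_le_left).comap_subtype
    have h2 : (P : Subgroup H) ≤ ((S : Subgroup G) ⊓ H).subgroupOf H := by
      intro x hx
      rw [mem_subgroupOf]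
      exact ⟨hS (mem_map_of_mem _ hx), x.2⟩
    have h3 := P.is_maximal' h1 h2
    rw [hP', ← h3, map_subgroupOf_eq_of_le inf_le_right]
  haveI : Group.IsNilpotent S := S.2.isNilpotent
  have hnc := (normalizerCondition_iff_only_full_group_self_normalizing).mp
    (Group.normalizerCondition_of_isNilpotent (G := S)) (P'.subgroupOf S)
  have hself : Subgroup.normalizer ((P'.subgroupOf S : Subgroup S) : Set S) = P'.subgroupOf S := by
    rw [← subgroupOf_normalizer_eq hS, hN, ← inf_subgroupOf_left H S, hSH]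
  have := hnc hself
  rwa [subgroupOf_eq_top] at this

/-- Data for a "good" prime `p` of `H`: `R` is the normal Sylow `p`-subgroup of `H`, Sylow in `G`,
with `N_G(R) = H`. -/
structure Good (H : Subgroup G) (p : ℕ) (R : Subgroup G) : Prop where
  le : R ≤ H
  normalizer_eq : Subgroup.normalizer (R : Set G) = H
  pgroup : IsPGroup p R
  not_dvd : ¬ p ∣ R.index
  mem_of : ∀ x ∈ H, (∃ k : ℕ, orderOf x = p ^ k) → x ∈ R

theorem good_of_hnorm {p : ℕ} [Fact p.Prime] (H : Subgroup G) (P : Sylow p H)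
    (hN : Subgroup.normalizer (((P : Subgroup H).map H.subtype : Subgroup G) : Set G) = H) :
    Good H p ((P : Subgroup H).map H.subtype) := by
  obtain ⟨S, hS⟩ := sylow_of_normalizer_eq H P hN
  have hle : (P : Subgroup H).map H.subtype ≤ H := map_subtype_le _
  have hPn : (P : Subgroup H).Normal := by
    have : (P : Subgroup H) = ((P : Subgroup H).map H.subtype).subgroupOf H := by
      rw [subgroupOf, comap_map_eq_self_of_injective H.subtype_injective]
    rw [this, normal_subgroupOf_iff_le_normalizer hle, hN]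
  refine ⟨hle, hN, P.2.map _, ?_, ?_⟩
  · rw [← hS]; exact S.not_dvd_index
  · rintro x hx ⟨k, hk⟩
    have hpg : IsPGroup p (zpowers (⟨x, hx⟩ : H)) := by
      apply IsPGroup.of_card (n := k)
      rw [Nat.card_zpowers, ← hk]
      exact Subgroup.orderOf_mk x hx
    obtain ⟨Q, hQ⟩ := hpg.exists_le_sylow
    obtain ⟨g, rfl⟩ := MulAction.exists_smul_eq H P Q
    rw [Sylow.smul_eq_of_normal] at hQ
    exact ⟨⟨x, hx⟩, hQ (mem_zpowers _), rfl⟩

theorem exists_orderOf_eq_of_isPGroup {p : ℕ} [hp : Fact p.Prime] {R : Subgroup G}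
    (hR : IsPGroup p R) (x : G) (hx : x ∈ R) : ∃ k : ℕ, orderOf x = p ^ k := by
  obtain ⟨k, hk⟩ := hR ⟨x, hx⟩
  have h1 : x ^ p ^ k = 1 := by
    simpa using congrArg Subtype.val hk
  obtain ⟨j, -, hj⟩ := (Nat.dvd_prime_pow hp.out).mp (orderOf_dvd_of_pow_eq_one h1)
  exact ⟨j, hj⟩

theorem commute_of_good {p r : ℕ} [Fact p.Prime] [Fact r.Prime] (hpr : p ≠ r) (H R₁ R₂ : Subgroup G)
    (h₁ : Good H p R₁) (h₂ : Good H r R₂) (a : G) (ha : a ∈ R₁) (b : G) (hb : b ∈ R₂) :
    a * b = b * a := by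
  have hbN : b ∈ Subgroup.normalizer (R₁ : Set G) := by rw [h₁.normalizer_eq]; exact h₂.le hb
  have haN : a ∈ Subgroup.normalizer (R₂ : Set G) := by rw [h₂.normalizer_eq]; exact h₁.le ha
  have m1 : ⁅a, b⁆ ∈ R₁ := by
    rw [commutatorElement_def, mul_assoc, mul_assoc]
    apply R₁.mul_mem ha
    rw [← mul_assoc]
    exact (mem_normalizer_iff.mp hbN a⁻¹).mp (R₁.inv_mem ha)
  have m2 : ⁅a, b⁆ ∈ R₂ := by
    rw [commutatorElement_def]
    apply R₂.mul_mem _ (R₂.inv_mem hb)
    exact (mem_normalizer_iff.mp haN b).mp hb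
  have hdis := IsPGroup.disjoint_of_ne p r hpr R₁ R₂ h₁.pgroup h₂.pgroup
  have : ⁅a, b⁆ = 1 := by
    have := (Subgroup.disjoint_def.mp hdis) m1 m2
    exact this
  exact (commutatorElement_eq_one_iff_mul_comm.mp this)

theorem mem_normalizer_of_conj_smul_eq {M : Subgroup G} {g : G}
    (h : MulAut.conj g • M = M) : g ∈ Subgroup.normalizer (M : Set G) := by
  rw [Subgroup.mem_normalizer_iff]
  intro x
  constructor
  · intro hx
    rw [← h]
    exact ⟨x, hx, rfl⟩
  · intro hx
    rw [← h] at hx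
    obtain ⟨y, hy, hxy⟩ := hx
    have : y = x := by
      simpa [MulAut.smul_def] using hxy
    rw [← this]; exact hy

/-- Fusion of `p`-elements of `H` is controlled by `H` (when `H` has another prime divisor `r`). -/
theorem fusion {p r : ℕ} [Fact p.Prime] [Fact r.Prime] (hpr : p ≠ r) (H R₁ R₂ : Subgroup G)
    (h₁ : Good H p R₁) (h₂ : Good H r R₂) (x : G) (hx : x ∈ R₁) (g : G)
    (hy : g * x * g⁻¹ ∈ H) : ∃ h ∈ H, h * x * h⁻¹ = g * x * g⁻¹ := by
  set y := g * x * g⁻¹ with hydef
  obtain ⟨k, hk⟩ := exists_orderOf_eq_of_isPGroup h₁.pgroup x hx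
  have hyo : orderOf y = p ^ k := by
    rw [← hk]
    exact (MulAut.conj g).orderOf_eq x
  have hyR : y ∈ R₁ := h₁.mem_of y hy ⟨k, hyo⟩
  set L := Subgroup.centralizer ({y} : Set G) with hL
  have hR₂L : R₂ ≤ L := by
    intro b hb
    rw [hL, mem_centralizer_iff]
    intro z hz
    rw [Set.mem_singleton_iff] at hz
    subst hz
    exact commute_of_good hpr H R₁ R₂ h₁ h₂ _ hyR b hb
  let S : Sylow r G := h₂.pgroup.toSylow h₂.not_dvd
  have hS : (S : Subgroup G) = R₂ := rfl
  have hgS : ((g • S : Sylow r G) : Subgroup G) = MulAut.conj g • R₂ := rfl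
  have hgR₂L : MulAut.conj g • R₂ ≤ L := by
    rintro _ ⟨b, hb, rfl⟩
    rw [hL, mem_centralizer_iff]
    intro z hz
    rw [Set.mem_singleton_iff] at hz
    subst hz
    have hc := commute_of_good hpr H R₁ R₂ h₁ h₂ x hx b hb
    simp only [MulDistribMulAction.toMonoidEnd_apply, MulDistribMulAction.toMonoidHom_apply,
      MulAut.smul_def, MulAut.conj_apply]
    rw [hydef]
    calc g * x * g⁻¹ * (g * b * g⁻¹) = g * (x * b) * g⁻¹ := by group
      _ = g * (b * x) * g⁻¹ := by rw [hc]
      _ = g * b * g⁻¹ * (g * x * g⁻¹) := by group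
  have i1 : ¬ r ∣ (R₂.subgroupOf L).index := fun hdvd =>
    h₂.not_dvd (hdvd.trans (relIndex_dvd_index_of_le hR₂L))
  have i2 : ¬ r ∣ ((MulAut.conj g • R₂).subgroupOf L).index := fun hdvd => by
    have := (g • S : Sylow r G).not_dvd_index
    rw [hgS] at this
    exact this (hdvd.trans (relIndex_dvd_index_of_le hgR₂L))
  have p1 : IsPGroup r (R₂.subgroupOf L) := h₂.pgroup.comap_subtype
  have p2 : IsPGroup r ((MulAut.conj g • R₂).subgroupOf L) := by
    have := (g • S : Sylow r G).isPGroup'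
    rw [hgS] at this
    exact this.comap_subtype
  obtain ⟨c, hcL, hc⟩ := Cfsg.Agent.S0551.exists_conj_of_sylow_in L (MulAut.conj g • R₂) R₂ r
    hgR₂L hR₂L p2 i2 p1 i1
  rw [smul_smul, ← map_mul] at hc
  have hcg : c * g ∈ H := by
    rw [← h₂.normalizer_eq]
    exact mem_normalizer_of_conj_smul_eq hc
  refine ⟨c * g, hcg, ?_⟩
  rw [hL, mem_centralizer_iff] at hcL
  have := hcL y (Set.mem_singleton y)
  calc c * g * x * (c * g)⁻¹ = c * y * c⁻¹ := by rw [hydef]; group
    _ = y * c * c⁻¹ := by rw [← this]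
    _ = y := by group

/-- Reduction of the commutator membership to elements of prime power order. -/
theorem comm_mem_of_fusion (H K : Subgroup G)
    (hfus : ∀ x ∈ K, (∃ p k : ℕ, p.Prime ∧ 0 < k ∧ orderOf x = p ^ k) → ∀ u : G, u * x * u⁻¹ ∈ K →
      ⁅x, u⁆ ∈ ⁅K, H⁆) :
    ∀ (m : ℕ) (x : G), orderOf x = m → x ∈ K → ∀ u : G, u * x * u⁻¹ ∈ K → ⁅x, u⁆ ∈ ⁅K, H⁆ := by
  intro m
  induction m using Nat.strong_induction_on with
  | _ m ih =>
  intro x hxm hxK u hu
  have hm0 : m ≠ 0 := by rw [← hxm]; exact (orderOf_pos x).ne'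
  by_cases hm1 : m = 1
  · rw [hm1, orderOf_eq_one_iff] at hxm
    rw [hxm, commutatorElement_one_left]
    exact Subgroup.one_mem _
  · have hp : m.minFac.Prime := Nat.minFac_prime hm1
    set p := m.minFac with hpdef
    set a := p ^ m.factorization p with ha
    set b := m / a with hb
    have hab : a * b = m := Nat.ordProj_mul_ordCompl_eq_self m p
    have hkpos : 0 < m.factorization p :=
      hp.factorization_pos_of_dvd hm0 (Nat.minFac_dvd m)
    by_cases hb1 : b = 1
    · have hma : m = a := by rw [← hab, hb1, mul_one]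
      exact hfus x hxK ⟨p, m.factorization p, hp, hkpos, hxm.trans hma⟩ u hu
    · have hbpos : 0 < b := Nat.ordCompl_pos p hm0
      have hb2 : 2 ≤ b := by omega
      have ha2 : 2 ≤ a := by
        calc 2 ≤ p := hp.two_le
          _ = p ^ 1 := (pow_one p).symm
          _ ≤ a := Nat.pow_le_pow_right hp.pos hkpos
      have hcop : Nat.Coprime a b := (Nat.coprime_ordCompl hp hm0).pow_left _
      have ham : a < m := by nlinarith
      have hbm : b < m := by nlinarith
      obtain ⟨s, t, hst⟩ := (Nat.isCoprime_iff_coprime.mpr hcop)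
      -- s * a + t * b = 1
      set y := x ^ (t * (b : ℤ)) with hy
      set z := x ^ (s * (a : ℤ)) with hz
      have hxyz : x = y * z := by
        rw [hy, hz, ← zpow_add, add_comm, hst, zpow_one]
      have hxab : x ^ ((a : ℤ) * (b : ℤ)) = 1 := by
        rw [← Nat.cast_mul, hab, zpow_natCast, ← hxm, pow_orderOf_eq_one]
      have hya : y ^ a = 1 := by
        rw [hy, ← zpow_natCast, ← zpow_mul]
        have : t * (b : ℤ) * (a : ℤ) = ((a : ℤ) * (b : ℤ)) * t := by ring
        rw [this, zpow_mul, hxab, one_zpow]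
      have hzb : z ^ b = 1 := by
        rw [hz, ← zpow_natCast, ← zpow_mul]
        have : s * (a : ℤ) * (b : ℤ) = ((a : ℤ) * (b : ℤ)) * s := by ring
        rw [this, zpow_mul, hxab, one_zpow]
      have hyo : orderOf y < m :=
        lt_of_le_of_lt (Nat.le_of_dvd (by omega) (orderOf_dvd_of_pow_eq_one hya)) ham
      have hzo : orderOf z < m :=
        lt_of_le_of_lt (Nat.le_of_dvd (by omega) (orderOf_dvd_of_pow_eq_one hzb)) hbm
      have hyK : y ∈ K := K.zpow_mem hxK _
      have hzK : z ∈ K := K.zpow_mem hxK _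
      have huy : u * y * u⁻¹ ∈ K := by
        rw [hy, ← conj_zpow]; exact K.zpow_mem hu _
      have huz : u * z * u⁻¹ ∈ K := by
        rw [hz, ← conj_zpow]; exact K.zpow_mem hu _
      have h1 := ih _ hyo y rfl hyK u huy
      have h2 := ih _ hzo z rfl hzK u huz
      rw [hxyz, commutatorElement_mul_left_eq_conj_mul]
      apply Subgroup.mul_mem _ _ h1
      have hyN : y ∈ Subgroup.normalizer ((⁅K, H⁆ : Subgroup G) : Set G) :=
        normalizer_commutator_ge_left K H hyK
      exact (mem_normalizer_iff.mp hyN _).mp h2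

theorem sylow_normal_of_normalizer_eq {p : ℕ} [Fact p.Prime] (H : Subgroup G) (P : Sylow p H)
    (hN : Subgroup.normalizer (((P : Subgroup H).map H.subtype : Subgroup G) : Set G) = H) :
    (P : Subgroup H).Normal := by
  have hle : (P : Subgroup H).map H.subtype ≤ H := map_subtype_le _
  have : (P : Subgroup H) = ((P : Subgroup H).map H.subtype).subgroupOf H := by
    rw [subgroupOf, comap_map_eq_self_of_injective H.subtype_injective]
  rw [this, normal_subgroupOf_iff_le_normalizer hle, hN]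

/-- Let H be a subgroup of a finite group G that is not a Sylow subgroup of G for any prime, and suppose that for every prime p dividing the order of H and every Sylow p-subgroup P of H the normalizer of P in G is exactly H. Then some normal subgroup of G is a complement to H. -/
theorem result {G : Type*} [Group G] [Finite G] (H : Subgroup G) (hnot : ∀ p : ℕ, p.Prime → ∀ P : Sylow p G, (P : Subgroup G) ≠ H) (hnorm : ∀ p : ℕ, p.Prime → p ∣ Nat.card H → ∀ P : Sylow p H, Subgroup.normalizer (((P : Subgroup H).map H.subtype : Subgroup G) : Set G) = H) : ∃ N : Subgroup G, N.Normal ∧ Subgroup.IsComplement' N H := by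
  classical
  have hgood : ∀ p : ℕ, p.Prime → p ∣ Nat.card H → ∃ R, Good H p R := by
    intro p hp hdvd
    haveI := Fact.mk hp
    exact ⟨_, good_of_hnorm H (default : Sylow p H) (hnorm p hp hdvd default)⟩
  have hsecond : ∀ p : ℕ, p.Prime → p ∣ Nat.card H →
      ∃ r : ℕ, r.Prime ∧ r ≠ p ∧ r ∣ Nat.card H := by
    intro p hp hdvd
    by_contra hcon
    have hall : ∀ {d : ℕ}, d.Prime → d ∣ Nat.card H → d = p := by
      intro d hd hdd
      by_contra hne
      exact hcon ⟨d, hd, hne, hdd⟩
    have hcard := Nat.eq_prime_pow_of_unique_prime_dvd Nat.card_pos.ne' hall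
    haveI := Fact.mk hp
    have hHp : IsPGroup p H := IsPGroup.of_card hcard
    have hPtop : ((default : Sylow p H) : Subgroup H) = ⊤ :=
      ((default : Sylow p H).is_maximal' (hHp.to_subgroup ⊤) le_top).symm
    obtain ⟨S, hS⟩ := sylow_of_normalizer_eq H (default : Sylow p H) (hnorm p hp hdvd default)
    rw [hPtop, ← MonoidHom.range_eq_map, range_subtype] at hS
    exact hnot p hp S hS
  have hHall : (Nat.card H).Coprime H.index := by
    apply Nat.coprime_of_dvd
    intro p hp hd1 hd2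
    obtain ⟨R, hR⟩ := hgood p hp hd1
    exact hR.not_dvd (hd2.trans (index_dvd_of_le hR.le))
  have hnil : Group.IsNilpotent H := by
    have q := (Group.isNilpotent_of_finite_tfae (G := H)).out 0 3
    rw [q]
    intro p hpF P
    by_cases hd : p ∣ Nat.card H
    · exact sylow_normal_of_normalizer_eq H P (hnorm p hpF.out hd P)
    · have : (P : Subgroup H) = ⊥ := by
        rw [← Subgroup.card_eq_one, P.card_eq_multiplicity,
          Nat.factorization_eq_zero_of_not_dvd hd, pow_zero]
      rw [this]; infer_instance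
  have hfocal_le : ∀ K : Subgroup G, K ≤ H → Subgroup.focalSubgroup K ≤ ⁅K, H⁆ := by
    intro K hKH
    rw [focalSubgroup_def, closure_le]
    rintro g' ⟨hg'K, x, hxK, u, rfl⟩
    have hu : u * x * u⁻¹ ∈ K := by
      have h1 : x⁻¹ * ⁅x, u⁆ ∈ K := K.mul_mem (K.inv_mem hxK) hg'K
      have h2 : u * x * u⁻¹ = (x⁻¹ * ⁅x, u⁆)⁻¹ := by
        rw [commutatorElement_def]; group
      rw [h2]; exact K.inv_mem h1
    apply comm_mem_of_fusion H K _ (orderOf x) x rfl hxK u hu
    rintro x hxK ⟨p, k, hp, hk, hxo⟩ u hu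
    have hpd : p ∣ Nat.card H := by
      have h1 : p ∣ orderOf x := by rw [hxo]; exact dvd_pow_self p hk.ne'
      exact h1.trans (H.orderOf_dvd_natCard (hKH hxK))
    obtain ⟨R₁, hR₁⟩ := hgood p hp hpd
    obtain ⟨r, hr, hrp, hrd⟩ := hsecond p hp hpd
    obtain ⟨R₂, hR₂⟩ := hgood r hr hrd
    haveI := Fact.mk hp
    haveI := Fact.mk hr
    have hxR₁ : x ∈ R₁ := hR₁.mem_of x (hKH hxK) ⟨k, hxo⟩
    obtain ⟨h, hhH, hh⟩ := fusion (Ne.symm hrp) H R₁ R₂ hR₁ hR₂ x hxR₁ u (hKH hu)
    have : ⁅x, u⁆ = ⁅x, h⁆ := by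
      have e1 : ⁅x, u⁆ = x * (u * x * u⁻¹)⁻¹ := by rw [commutatorElement_def]; group
      have e2 : ⁅x, h⁆ = x * (h * x * h⁻¹)⁻¹ := by rw [commutatorElement_def]; group
      rw [e1, e2, hh]
    rw [this]
    exact commutator_mem_commutator hxK hhH
  have hbound : ∀ j : ℕ, (fun K : Subgroup G => Subgroup.focalSubgroup K)^[j] H ≤
      H.lowerCentralSeries j := by
    intro j
    induction j with
    | zero => exact le_rfl
    | succ j ih =>
      rw [Function.iterate_succ_apply', Subgroup.lowerCentralSeries_succ]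
      refine (Cfsg.Agent.S0557.focal_mono ih).trans (hfocal_le _ ?_)
      exact (H.lowerCentralSeries_antitone (Nat.zero_le j))
  obtain ⟨n, hn⟩ := (isNilpotent_iff_lowerCentralSeries H).mp hnil
  exact Cfsg.Agent.S0557.result H hHall n (le_bot_iff.mp (hn ▸ hbound n))

end Cfsg.Agent.S0558
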