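import Cfsg.Statements.S0161
import Cfsg.Agent.Lib.Helper74.RealCount
import Cfsg.Agent.Lib.Helper3.IrrBasis

set_option autoImplicit false
open Cfsg

namespace Cfsg.Agent.S0161

/-- In a group of odd order, an element conjugate to its inverse is trivial. -/
theorem eq_one_of_isConj_inv {G : Type*} [Group G] [Finite G] (hodd : Odd (Nat.card G)) (g : G)
    (h : IsConj g g⁻¹) : g = 1 := by
  obtain ⟨x, hx⟩ := isConj_iff.mp h
  -- x * g * x⁻¹ = g⁻¹
  have hx2 : (x * x) * g * (x * x)⁻¹ = g := by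
    have h1 : x * g⁻¹ * x⁻¹ = g := by
      have := congrArg (fun y => y⁻¹) hx
      simp only [mul_inv_rev, inv_inv] at this
      rw [mul_assoc]; exact this
    calc (x * x) * g * (x * x)⁻¹ = x * (x * g * x⁻¹) * x⁻¹ := by group
      _ = x * g⁻¹ * x⁻¹ := by rw [hx]
      _ = g := h1
  -- x has odd order so x ∈ zpowers (x*x)
  have hxodd : Odd (orderOf x) := Odd.of_dvd_nat hodd (orderOf_dvd_natCard x)
  obtain ⟨k, hk⟩ := hxodd
  have hxpow : x = (x * x) ^ (k + 1) := by
    rw [← pow_two, ← pow_mul]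
    have : 2 * (k + 1) = orderOf x + 1 := by omega
    rw [this, pow_succ, pow_orderOf_eq_one, one_mul]
  have hcomm : Commute (x * x) g := by
    unfold Commute SemiconjBy
    calc (x * x) * g = ((x * x) * g * (x * x)⁻¹) * (x * x) := by group
      _ = g * (x * x) := by rw [hx2]
  have hcx : Commute x g := by
    rw [hxpow]; exact hcomm.pow_left _
  have hgg : g = g⁻¹ := by
    rw [← hx, hcx.eq, mul_inv_cancel_right]
  have hsq : g ^ 2 = 1 := by
    rw [pow_two]
    nth_rewrite 2 [hgg]
    exact mul_inv_cancel g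
  have hgodd : Odd (orderOf g) := Odd.of_dvd_nat hodd (orderOf_dvd_natCard g)
  have hdvd : orderOf g ∣ 2 := orderOf_dvd_of_pow_eq_one hsq
  have : orderOf g = 1 := by
    rcases (Nat.dvd_prime Nat.prime_two).mp hdvd with h1 | h2
    · exact h1
    · rw [h2] at hgodd; exact absurd hgodd (by decide)
  exact orderOf_eq_one_iff.mp this


/-- In a finite group of odd order, a real-valued irreducible complex character is the trivial character. -/
theorem result {G : Type*} [Group G] [Finite G] (hodd : Odd (Nat.card G)) (χ : Cfsg.IrrCharacter G) (hreal : ∀ g : G, ((χ : G → ℂ) g).im = 0) : (χ : G → ℂ) = fun _ => 1 := by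
  have hcard := Cfsg.Agent.Lib.Helper74.card_real_irr_eq_card_real_classes (G := G)
  have hsub : Subsingleton {C : ConjClasses G // ∀ g : G, ConjClasses.mk g = C → IsConj g g⁻¹} := by
    constructor
    rintro ⟨C, hC⟩ ⟨D, hD⟩
    apply Subtype.ext
    show C = D
    obtain ⟨c, rfl⟩ := ConjClasses.mk_surjective C
    obtain ⟨d, rfl⟩ := ConjClasses.mk_surjective D
    rw [eq_one_of_isConj_inv hodd c (hC c rfl), eq_one_of_isConj_inv hodd d (hD d rfl)]
  have hfin : Finite {χ : Cfsg.IrrCharacter G // ∀ g : G, ((χ : G → ℂ) g).im = 0} := by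
    cases nonempty_fintype G
    have : Finite (Cfsg.IrrCharacter G) := Cfsg.Agent.Lib.Helper3.finite_irrCharacter
    infer_instance
  have hle : Nat.card {χ : Cfsg.IrrCharacter G // ∀ g : G, ((χ : G → ℂ) g).im = 0} ≤ 1 := by
    rw [hcard]
    exact Finite.card_le_one_iff_subsingleton.mpr hsub
  have hsub2 : Subsingleton {χ : Cfsg.IrrCharacter G // ∀ g : G, ((χ : G → ℂ) g).im = 0} :=
    Finite.card_le_one_iff_subsingleton.mp hle
  let triv : {χ : Cfsg.IrrCharacter G // ∀ g : G, ((χ : G → ℂ) g).im = 0} :=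
    ⟨⟨fun _ => 1, Cfsg.Agent.Lib.Helper78.isIrrCharacter_one⟩, fun _ => by simp⟩
  have := Subsingleton.elim (⟨χ, hreal⟩ : {χ : Cfsg.IrrCharacter G // ∀ g : G, ((χ : G → ℂ) g).im = 0}) triv
  have h2 := congrArg (fun x : {χ : Cfsg.IrrCharacter G // ∀ g : G, ((χ : G → ℂ) g).im = 0} =>
    ((x : Cfsg.IrrCharacter G) : G → ℂ)) this
  exact h2

end Cfsg.Agent.S0161
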