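import Cfsg.Statements.S4431
import Cfsg.Agent.S4426
import Cfsg.Agent.Lib.Helper77.PRegWeighted
import Cfsg.Agent.Lib.Helper78.WBOCor
import Cfsg.Agent.Lib.Helper79.Integrality
import Cfsg.Agent.Lib.Helper79.Schur

set_option autoImplicit false
open Cfsg

namespace Cfsg.Agent.S4431

open Cfsg.Agent.Lib Cfsg.Agent.Lib.Helper16 Cfsg.Agent.Lib.Helper77 Cfsg.Agent.Lib.Helper78
open scoped ComplexConjugate

section

variable {p : ℕ} [Fact p.Prime] {M : Ideal AlgInt}

/-- A rational number `n * m / D` with `v_p(n) = v_p(D)` and `p ∤ m` is a unit of the local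
ring. -/
theorem ratio_not_memLocalIdeal (hM : IsPModular p M) {n : ℤ} (hn : n ≠ 0) {D : ℕ} (hD : D ≠ 0)
    (hval : padicValInt p n = D.factorization p) {m : ℕ} (hm : ¬ p ∣ m) :
    ¬ MemLocalIdeal M ((n : ℂ) * (m : ℂ) / (D : ℂ)) := by
  have hMp : M.IsPrime := isPModular_isPrime hM
  have hp : p.Prime := Fact.out
  set e := D.factorization p with he
  obtain ⟨n', hn'⟩ := padicValInt_dvd (p := p) n
  rw [hval] at hn'
  have hpn' : ¬ (p : ℤ) ∣ n' := by
    rintro ⟨c, hc⟩
    have h1 : (p : ℤ) ^ (e + 1) ∣ n := ⟨c, by rw [hn', hc, pow_succ]; ring⟩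
    rw [padicValInt_dvd_iff] at h1
    rcases h1 with h1 | h1
    · exact hn h1
    · rw [hval] at h1
      omega
  set D' := D / p ^ e with hD'
  have hDD : p ^ e * D' = D := Nat.ordProj_mul_ordCompl_eq_self D p
  have hpD' : ¬ p ∣ D' := Nat.not_dvd_ordCompl hp hD
  have hpe : ((p : ℂ) ^ e) ≠ 0 := pow_ne_zero _ (Nat.cast_ne_zero.mpr hp.ne_zero)
  have hD'0 : (D' : ℂ) ≠ 0 := by
    intro h
    have : D' = 0 := Nat.cast_eq_zero.mp h
    apply hpD'
    rw [this]
    exact dvd_zero p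
  have heq : (n : ℂ) * (m : ℂ) / (D : ℂ) = ((n' * (m : ℤ) : ℤ) : ℂ) / (D' : ℂ) := by
    have h1 : (n : ℂ) = (p : ℂ) ^ e * (n' : ℂ) := by
      rw [hn']; push_cast; ring
    have h2 : (D : ℂ) = (p : ℂ) ^ e * (D' : ℂ) := by
      rw [← hDD]; push_cast; ring
    rw [h1, h2]
    push_cast
    field_simp
  rw [heq]
  intro hcon
  have h3 : MemLocalIdeal M (((n' * (m : ℤ) : ℤ) : ℂ) / (D' : ℂ) * (D' : ℂ)) :=
    memLocalIdeal_mul_right hcon (memLocalRing_natCast hMp.ne_top D')
  rw [div_mul_cancel₀ _ hD'0, memLocalIdeal_intCast_iff hM] at h3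
  rcases (Nat.prime_iff_prime_int.mp hp).dvd_or_dvd h3 with h4 | h4
  · exact hpn' h4
  · exact hm (Int.natCast_dvd_natCast.mp h4)

omit [Fact p.Prime] in
open scoped Classical in
/-- The inner product with a `p`-regular truncation, as a sum over the `p`-regular elements. -/
theorem classInner_truncation {K : Type*} [Group K] [Fintype K] (q : ℂ) (α β : K → ℂ) :
    classInner (fun x : K => if p ∣ orderOf x then (0 : ℂ) else q * α x) β =
      (Nat.card K : ℂ)⁻¹ * q *
        ∑ x ∈ Finset.univ.filter (fun x : K => ¬ p ∣ orderOf x), α x * conj (β x) := by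
  unfold classInner
  rw [mul_assoc]
  congr 1
  rw [Finset.mul_sum, Finset.sum_filter]
  refine Finset.sum_congr rfl fun x _ => ?_
  by_cases hx : p ∣ orderOf x
  · simp [hx]
  · simp [hx, mul_assoc]

/-- `p ^ v_p(n) / n = 1 / (n / p ^ v_p(n))` as complex numbers. -/
theorem ordProj_div_eq (n : ℕ) (hn : n ≠ 0) :
    ((p ^ n.factorization p : ℕ) : ℂ) / (n : ℂ) = ((n / p ^ n.factorization p : ℕ) : ℂ)⁻¹ := by
  have h := Nat.ordProj_mul_ordCompl_eq_self n p
  have hq : ((p ^ n.factorization p : ℕ) : ℂ) ≠ 0 :=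
    Nat.cast_ne_zero.mpr (pow_ne_zero _ (Fact.out : p.Prime).ne_zero)
  have hm : ((n / p ^ n.factorization p : ℕ) : ℂ) ≠ 0 := by
    apply Nat.cast_ne_zero.mpr
    intro h0
    rw [h0, mul_zero] at h
    exact hn h.symm
  have h' : (n : ℂ) = ((p ^ n.factorization p : ℕ) : ℂ) * ((n / p ^ n.factorization p : ℕ) : ℂ) := by
    rw [← Nat.cast_mul, h]
  rw [h']
  field_simp

end

section Main

variable {G : Type*} [Group G] [Fintype G] {p : ℕ} [Fact p.Prime] {M : Ideal AlgInt}

open scoped Classical in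
/-- The quantity of the statement, rewritten: `[η, ψ]/ψ(1) = (1/|H|_{p'}) · T_H` with
`T_H = (∑_{h p-regular} conj χ(h) ψ(h)) / ψ(1)`. -/
theorem classInner_eta (H : Subgroup G) [Fintype H] (χ : IrrCharacter G) (ψ : IrrCharacter H) :
    classInner (fun h : H => if p ∣ orderOf h then (0 : ℂ) else
        ((p ^ (Nat.card H).factorization p : ℕ) : ℂ) * (χ : G → ℂ) h) (ψ : H → ℂ) / (ψ : H → ℂ) 1 =
      ((Nat.card H / p ^ (Nat.card H).factorization p : ℕ) : ℂ)⁻¹ *
        ((∑ h ∈ Finset.univ.filter (fun h : H => ¬ p ∣ orderOf h),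
          conj ((χ : G → ℂ) (h : G)) * (ψ : H → ℂ) h) / (ψ : H → ℂ) 1) := by
  rw [classInner_truncation (p := p) _ (fun h : H => (χ : G → ℂ) h) (ψ : H → ℂ)]
  have hsum := sum_pRegular_conj_mul p (K := H) (α := fun h : H => (χ : G → ℂ) h)
    (β := (ψ : H → ℂ)) (fun h => irr_inv_eq_conj χ (h : G)) (fun h => irr_inv_eq_conj ψ h)
  rw [hsum, ← ordProj_div_eq (p := p) (Nat.card H) Nat.card_pos.ne']
  ring

omit [Fact p.Prime] in
/-- The comparison congruence: `T_H ≡ T_G(χ')` for `χ' ∈ B₀`. -/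
theorem comparison (hM : IsPModular p M) (H : Subgroup G) [Fintype H]
    {b : Set (IrrCharacter H)} {B₀ : Set (IrrCharacter G)} (hind : IsInducedBlock M H b B₀)
    (χ : IrrCharacter G) {ψ : IrrCharacter H} (hψ : ψ ∈ b) {χ' : IrrCharacter G} (hχ' : χ' ∈ B₀) :
    open scoped Classical in
    MemLocalIdeal M
      ((∑ h ∈ Finset.univ.filter (fun h : H => ¬ p ∣ orderOf h),
          conj ((χ : G → ℂ) (h : G)) * (ψ : H → ℂ) h) / (ψ : H → ℂ) 1 -
        (∑ g ∈ Finset.univ.filter (fun g : G => ¬ p ∣ orderOf g),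
          (χ : G → ℂ) g * conj ((χ' : G → ℂ) g)) / (χ' : G → ℂ) 1) := by
  classical
  have hMp : M.IsPrime := isPModular_isPrime hM
  have h := sum_pRegular_congr_of_induced p H hind hψ hχ' (isClassFunction_conj_irr χ)
    (fun g => memLocalRing_of_isIntegral hMp.ne_top
      (by
        have := Helper79.isIntegral_irr χ g⁻¹
        rwa [irr_inv_eq_conj] at this))
  have hsum := sum_pRegular_conj_mul p (K := G) (α := (χ : G → ℂ)) (β := (χ' : G → ℂ))
    (fun g => irr_inv_eq_conj χ g) (fun g => irr_inv_eq_conj χ' g)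
  rw [← hsum]
  exact h

end Main

/-- Let H be a subgroup of the finite group G and b a block of H whose induced block B₀ in G is defined (relative to a maximal ideal M of the algebraic integers containing p). Let χ be an irreducible character of G, ψ ∈ b, and let η be the class function on H equal to p^a · χ on the p-regular elements of H and zero elsewhere, p^a being the p-part of the order of H. Then (a) if χ ∉ B₀, the number [η, ψ]/ψ(1) lies in the local ideal at M; (b) if χ ∈ B₀ has height zero, it does not. -/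
theorem result {G : Type*} [Group G] [Fintype G] (p : ℕ) [Fact p.Prime] (M : Ideal Cfsg.AlgInt) (hM : Cfsg.IsPModular p M) (H : Subgroup G) [Fintype H] (b : Set (Cfsg.IrrCharacter H)) (B₀ : Set (Cfsg.IrrCharacter G)) (hind : Cfsg.IsInducedBlock M H b B₀) (χ : Cfsg.IrrCharacter G) (ψ : Cfsg.IrrCharacter H) (hψ : ψ ∈ b) : (χ ∉ B₀ → Cfsg.MemLocalIdeal M (Cfsg.classInner (fun h : H => if p ∣ orderOf h then (0 : ℂ) else ((p ^ (Nat.card H).factorization p : ℕ) : ℂ) * (χ : G → ℂ) h) (ψ : H → ℂ) / (ψ : H → ℂ) 1)) ∧ (χ ∈ B₀ → Cfsg.blockHeight p B₀ (χ : G → ℂ) = 0 → ¬ Cfsg.MemLocalIdeal M (Cfsg.classInner (fun h : H => if p ∣ orderOf h then (0 : ℂ) else ((p ^ (Nat.card H).factorization p : ℕ) : ℂ) * (χ : G → ℂ) h) (ψ : H → ℂ) / (ψ : H → ℂ) 1)) := by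
  classical
  have hMp : M.IsPrime := isPModular_isPrime hM
  have hMt : M ≠ ⊤ := hMp.ne_top
  have hp : p.Prime := Fact.out
  have hmH : ¬ p ∣ Nat.card H / p ^ (Nat.card H).factorization p :=
    Nat.not_dvd_ordCompl hp Nat.card_pos.ne'
  have hmG : ¬ p ∣ Nat.card G / p ^ (Nat.card G).factorization p :=
    Nat.not_dvd_ordCompl hp Nat.card_pos.ne'
  have hunit := memLocalRing_inv_natCast hM hmH
  rw [classInner_eta]
  constructor
  · intro hχ
    obtain ⟨χ', hχ'⟩ := IsPBlock_nonempty hMt hind.2.1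
    have hcmp := comparison hM H hind χ hψ hχ'
    have hns : ¬ SameBlock M (χ : G → ℂ) (χ' : G → ℂ) := by
      intro hs
      apply hχ
      rw [IsPBlock_eq_blockOf hind.2.1 hχ']
      exact sameBlock_symm hs
    rw [sum_pRegular_mul_conj_eq_zero hM χ χ' hns, zero_div, sub_zero] at hcmp
    exact memLocalIdeal_mul_left hunit hcmp
  · intro hχ hht
    have hcmp := comparison hM H hind χ hψ hχ
    obtain ⟨n, hn1, hn0, hnv⟩ := ((Cfsg.Agent.S4426.result p M hM B₀ hind.2.1 χ hχ).2.mp hht) χ hχ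
    rw [classInner_truncation (p := p)] at hn1
    -- the sum over the `p`-regular elements of `G`
    have hD0 : charDegree (χ : G → ℂ) ≠ 0 := (Helper79.irr_charDegree_pos χ).ne'
    have hsumG : (∑ g ∈ Finset.univ.filter (fun g : G => ¬ p ∣ orderOf g),
        (χ : G → ℂ) g * conj ((χ : G → ℂ) g)) / (χ : G → ℂ) 1 =
        (n : ℂ) * ((Nat.card G / p ^ (Nat.card G).factorization p : ℕ) : ℂ) /
          (charDegree (χ : G → ℂ) : ℂ) := by
      rw [Helper79.irr_apply_one_eq_charDegree]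
      congr 1
      have h1 := ordProj_div_eq (p := p) (Nat.card G) Nat.card_pos.ne'
      have hm0 : ((Nat.card G / p ^ (Nat.card G).factorization p : ℕ) : ℂ) ≠ 0 := by
        apply Nat.cast_ne_zero.mpr
        intro h0
        apply hmG
        rw [h0]
        exact dvd_zero p
      have hG0 : (Nat.card G : ℂ) ≠ 0 := Nat.cast_ne_zero.mpr Nat.card_pos.ne'
      rw [← hn1]
      have h2 : (Nat.card G : ℂ)⁻¹ * ((p ^ (Nat.card G).factorization p : ℕ) : ℂ) =
          ((Nat.card G / p ^ (Nat.card G).factorization p : ℕ) : ℂ)⁻¹ := by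
        rw [← h1]; field_simp
      rw [h2]
      field_simp
    rw [hsumG] at hcmp
    have hnot := ratio_not_memLocalIdeal (M := M) hM hn0 hD0 hnv hmG
    intro hcon
    apply hnot
    rw [← memLocalIdeal_congr hcmp]
    have h5 := memLocalIdeal_mul_left (memLocalRing_natCast hMt
      (Nat.card H / p ^ (Nat.card H).factorization p)) hcon
    have hm0 : ((Nat.card H / p ^ (Nat.card H).factorization p : ℕ) : ℂ) ≠ 0 := by
      apply Nat.cast_ne_zero.mpr
      intro h0
      apply hmH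
      rw [h0]
      exact dvd_zero p
    rwa [← mul_assoc, mul_inv_cancel₀ hm0, one_mul] at h5

end Cfsg.Agent.S4431
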