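import Cfsg.Statements.S0937
import Cfsg.Agent.S4431
import Cfsg.Agent.Lib.Helper79.HeightZero
import Cfsg.Agent.Lib.Helper78.CharMore
import Cfsg.Agent.Lib.Helper75.Clifford

set_option autoImplicit false
open Cfsg

namespace Cfsg.Agent.S0937

open Cfsg.Agent.Lib Cfsg.Agent.Lib.Helper16 Cfsg.Agent.Lib.Helper77 Cfsg.Agent.Lib.Helper78
open scoped ComplexConjugate

section

variable {p : ℕ} [Fact p.Prime] {M : Ideal AlgInt}

/-- `m / D` lies in the local ring when `p ^ v_p(D)` divides `m`, and in the local ideal when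
`p ^ (v_p(D) + 1)` divides `m`. -/
theorem int_div_nat_memLocal (hM : IsPModular p M) {m : ℤ} {D : ℕ} (hD : D ≠ 0)
    (hdvd : (p : ℤ) ^ D.factorization p ∣ m) :
    MemLocalRing M ((m : ℂ) / (D : ℂ)) ∧
      ((p : ℤ) ^ (D.factorization p + 1) ∣ m → MemLocalIdeal M ((m : ℂ) / (D : ℂ))) := by
  have hMp : M.IsPrime := isPModular_isPrime hM
  have hp : p.Prime := Fact.out
  set e := D.factorization p with he
  obtain ⟨m', hm'⟩ := hdvd
  set D' := D / p ^ e with hD'
  have hDD : p ^ e * D' = D := Nat.ordProj_mul_ordCompl_eq_self D p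
  have hpD' : ¬ p ∣ D' := Nat.not_dvd_ordCompl hp hD
  have hpe : ((p : ℂ) ^ e) ≠ 0 := pow_ne_zero _ (Nat.cast_ne_zero.mpr hp.ne_zero)
  have hD'0 : (D' : ℂ) ≠ 0 := by
    intro h
    have : D' = 0 := Nat.cast_eq_zero.mp h
    apply hpD'
    rw [this]
    exact dvd_zero p
  have heq : (m : ℂ) / (D : ℂ) = (m' : ℂ) * ((D' : ℂ))⁻¹ := by
    have h1 : (m : ℂ) = (p : ℂ) ^ e * (m' : ℂ) := by
      rw [hm']; push_cast; ring
    have h2 : (D : ℂ) = (p : ℂ) ^ e * (D' : ℂ) := by
      rw [← hDD]; push_cast; ring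
    rw [h1, h2]
    field_simp
  rw [heq]
  have hinv := memLocalRing_inv_natCast hM hpD'
  refine ⟨memLocalRing_mul (memLocalRing_intCast hMp.ne_top m') hinv, ?_⟩
  rintro ⟨c, hc⟩
  have hpm' : (p : ℤ) ∣ m' := by
    refine ⟨c, ?_⟩
    have hpe' : ((p : ℤ) ^ e) ≠ 0 := pow_ne_zero _ (Int.natCast_ne_zero.mpr hp.ne_zero)
    apply mul_left_cancel₀ hpe'
    rw [← hm', hc, pow_succ]
    ring
  exact memLocalIdeal_mul_right ((memLocalIdeal_intCast_iff hM m').mpr hpm') hinv

variable {K : Type*} [Group K]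

omit [Fact p.Prime] in
/-- A nonempty set of irreducible characters has a member of height zero. -/
theorem exists_blockHeight_eq_zero {b : Set (IrrCharacter K)} (hb : b.Nonempty) :
    ∃ ψ ∈ b, blockHeight p b (ψ : K → ℂ) = 0 := by
  have hne : ((fun ψ : IrrCharacter K => (charDegree (ψ : K → ℂ)).factorization p) '' b).Nonempty :=
    hb.image _
  obtain ⟨ψ, hψ, hval⟩ := Nat.sInf_mem hne
  refine ⟨ψ, hψ, ?_⟩
  unfold blockHeight
  have : (charDegree (ψ : K → ℂ)).factorization p =
      sInf ((fun ψ : IrrCharacter K => (charDegree (ψ : K → ℂ)).factorization p) '' b) := hval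
  rw [this, Nat.sub_self]

omit [Fact p.Prime] in
/-- The least valuation of a degree in `b` is at most the valuation of each degree. -/
theorem sInf_le_factorization {b : Set (IrrCharacter K)} {ξ : IrrCharacter K} (hξ : ξ ∈ b) :
    sInf ((fun ψ : IrrCharacter K => (charDegree (ψ : K → ℂ)).factorization p) '' b) ≤
      (charDegree (ξ : K → ℂ)).factorization p :=
  Nat.sInf_le ⟨ξ, hξ, rfl⟩

end

/-- Let H be a subgroup of the finite group G and fix a maximal ideal M of the algebraic integers containing the prime p. If the block b of H induces the block B of G and χ ∈ B has height zero, then there is ξ ∈ b of height zero whose multiplicity in the restriction of χ to H is a natural number not divisible by p. -/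
theorem result {G : Type*} [Group G] [Fintype G] (p : ℕ) [Fact p.Prime] (M : Ideal Cfsg.AlgInt) (hM : Cfsg.IsPModular p M) (H : Subgroup G) [Fintype H] (b : Set (Cfsg.IrrCharacter H)) (B : Set (Cfsg.IrrCharacter G)) (hind : Cfsg.IsInducedBlock M H b B) (χ : Cfsg.IrrCharacter G) (hχ : χ ∈ B) (h0 : Cfsg.blockHeight p B (χ : G → ℂ) = 0) : ∃ ξ ∈ b, Cfsg.blockHeight p b (ξ : H → ℂ) = 0 ∧ ∃ n : ℕ, Cfsg.classInner (fun h : H => (χ : G → ℂ) h) (ξ : H → ℂ) = (n : ℂ) ∧ ¬ p ∣ n := by
  classical
  have hMp : M.IsPrime := isPModular_isPrime hM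
  have hMt : M ≠ ⊤ := hMp.ne_top
  have hp : p.Prime := Fact.out
  obtain ⟨ψ, hψ, hψ0⟩ := exists_blockHeight_eq_zero (p := p) (IsPBlock_nonempty hMt hind.1)
  have hX := (Cfsg.Agent.S4431.result p M hM H b B hind χ ψ hψ).2 hχ h0
  -- multiplicities of the restriction
  have hres : IsCharacter H (fun h : H => (χ : G → ℂ) h) :=
    Helper75.isCharacter_res H (IsIrrCharacter.isCharacter χ.2)
  choose n hn using fun ξ : IrrCharacter H => IsCharacter.exists_nat_classInner hres ξ
  by_contra hcon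
  push Not at hcon
  have hdiv : ∀ ξ ∈ b, blockHeight p b (ξ : H → ℂ) = 0 → p ∣ n ξ := by
    intro ξ hξ hξ0
    exact hcon ξ hξ hξ0 (n ξ) (hn ξ)
  apply hX
  -- expand `η` along the irreducible characters of `H`
  set e₀ := sInf ((fun ψ : IrrCharacter H => (charDegree (ψ : H → ℂ)).factorization p) '' b)
    with he₀
  have hψe : (charDegree (ψ : H → ℂ)).factorization p = e₀ := by
    have h1 : e₀ ≤ (charDegree (ψ : H → ℂ)).factorization p := sInf_le_factorization hψ
    have h2 : (charDegree (ψ : H → ℂ)).factorization p - e₀ = 0 := hψ0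
    omega
  have heta : (fun h : H => if p ∣ orderOf h then (0 : ℂ) else
      ((p ^ (Nat.card H).factorization p : ℕ) : ℂ) * (χ : G → ℂ) h) =
      ∑ ξ : IrrCharacter H, (n ξ : ℂ) • Helper79.tld p (ξ : H → ℂ) := by
    funext h
    rw [Finset.sum_apply]
    have hχh : (χ : G → ℂ) h = ∑ ξ : IrrCharacter H, (n ξ : ℂ) * (ξ : H → ℂ) h := by
      have := congrFun (IsCharacter.eq_sum_irr hres) h
      rw [Finset.sum_apply] at this
      simp only [Pi.smul_apply, smul_eq_mul, hn] at this
      exact this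
    by_cases hh : p ∣ orderOf h
    · rw [if_pos hh]
      symm
      apply Finset.sum_eq_zero
      intro ξ _
      simp [Helper79.tld, hh]
    · rw [if_neg hh, hχh, Finset.mul_sum]
      refine Finset.sum_congr rfl fun ξ _ => ?_
      simp only [Pi.smul_apply, smul_eq_mul, Helper79.tld, if_neg hh]
      ring
  rw [heta, classInner_sum_left, Finset.sum_div]
  apply memLocalIdeal_sum
  intro ξ _
  rw [classInner_smul_left]
  have hD0 : charDegree (ψ : H → ℂ) ≠ 0 := (Helper79.irr_charDegree_pos ψ).ne'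
  by_cases hξ : ξ ∈ b
  · -- `ξ` in the block: use the height zero criterion for `ψ`
    obtain ⟨m, hm1, hm0, hmv⟩ :=
      ((Cfsg.Agent.S4426.result p M hM b hind.1 ψ hψ).2.mp hψ0) ξ hξ
    have hsymm : classInner (Helper79.tld p (ξ : H → ℂ)) (ψ : H → ℂ) = (m : ℂ) := by
      rw [Helper79.classInner_tld_symm]
      have : classInner (Helper79.tld p (ψ : H → ℂ)) (ξ : H → ℂ) = (m : ℂ) := hm1
      rw [this, map_intCast]
    rw [hsymm, Helper79.irr_apply_one_eq_charDegree, mul_div_assoc]
    have hξe : e₀ ≤ (charDegree (ξ : H → ℂ)).factorization p := sInf_le_factorization hξ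
    have hdvd : (p : ℤ) ^ (charDegree (ψ : H → ℂ)).factorization p ∣ m := by
      rw [padicValInt_dvd_iff]
      right
      rw [hmv, hψe]
      exact hξe
    obtain ⟨hring, hideal⟩ := int_div_nat_memLocal (M := M) hM hD0 hdvd
    by_cases hξ0 : blockHeight p b (ξ : H → ℂ) = 0
    · exact memLocalIdeal_mul_right ((memLocalIdeal_natCast_iff hM (n ξ)).mpr (hdiv ξ hξ hξ0)) hring
    · apply memLocalIdeal_mul_left (memLocalRing_natCast hMt (n ξ))
      apply hideal
      rw [padicValInt_dvd_iff]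
      right
      rw [hmv, hψe]
      have : (charDegree (ξ : H → ℂ)).factorization p - e₀ ≠ 0 := hξ0
      omega
  · -- `ξ` outside the block: weak block orthogonality
    have hns : ¬ SameBlock M (ξ : H → ℂ) (ψ : H → ℂ) := by
      intro hs
      apply hξ
      rw [IsPBlock_eq_blockOf hind.1 hψ]
      exact sameBlock_symm hs
    have hz : classInner (Helper79.tld p (ξ : H → ℂ)) (ψ : H → ℂ) = 0 := by
      have h1 := Cfsg.Agent.S4431.classInner_truncation (p := p)
        ((p ^ (Nat.card H).factorization p : ℕ) : ℂ) (ξ : H → ℂ) (ψ : H → ℂ)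
      have h2 : Helper79.tld p (ξ : H → ℂ) = fun x : H => if p ∣ orderOf x then (0 : ℂ) else
          ((p ^ (Nat.card H).factorization p : ℕ) : ℂ) * (ξ : H → ℂ) x := rfl
      rw [h2, h1, sum_pRegular_mul_conj_eq_zero hM ξ ψ hns, mul_zero]
    rw [hz, mul_zero, zero_div]
    exact memLocalIdeal_zero hMt

end Cfsg.Agent.S0937
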