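import Mathlib
import Cfsg.Statements.S0190
import Cfsg.Agent.Lib.Helper75.Clifford

set_option autoImplicit false
open Cfsg

namespace Cfsg.Agent.S0190

open Cfsg.Agent.Lib.Helper75

/-- fibres of the orbit map are cosets of the stabilizer -/
theorem card_fiber {G : Type*} [Group G] [Finite G] {X : Type*} [MulAction G X] (x z : X)
    (y₀ : G) (hy₀ : y₀ • x = z) :
    Nat.card {y : G // y • x = z} = Nat.card (MulAction.stabilizer G x) := by
  apply Nat.card_congr
  refine
    { toFun := fun y => ⟨y₀⁻¹ * y.1, ?_⟩
      invFun := fun h => ⟨y₀ * h.1, ?_⟩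
      left_inv := fun y => Subtype.ext (by simp)
      right_inv := fun h => Subtype.ext (by simp) }
  · rw [MulAction.mem_stabilizer_iff, mul_smul, y.2, ← hy₀, inv_smul_smul]
  · rw [mul_smul, MulAction.mem_stabilizer_iff.mp h.2, hy₀]

/-- For a transitive action of a finite group on X, the permutation character g ↦ (number of fixed points of g) is the function induced from the principal character of the stabilizer of any point. -/
theorem result {G : Type*} [Group G] [Fintype G] (X : Type*) [MulAction G X] [Finite X] [MulAction.IsPretransitive G X] (x : X) : (fun g : G => (Nat.card (MulAction.fixedBy X g) : ℂ)) = Cfsg.indFun (MulAction.stabilizer G x) (fun _ => 1) := by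
  classical
  haveI : Fintype X := Fintype.ofFinite X
  funext g
  unfold Cfsg.indFun
  have hH : (Nat.card (MulAction.stabilizer G x) : ℂ) ≠ 0 := by
    exact_mod_cast Nat.card_pos.ne'
  -- rewrite each summand
  have hterm : ∀ y : G, Cfsg.extendByZero (MulAction.stabilizer G x) (fun _ => (1 : ℂ)) (y⁻¹ * g * y) =
      if g • (y • x) = y • x then 1 else 0 := by
    intro y
    by_cases h : g • (y • x) = y • x
    · rw [if_pos h, extendByZero_of_mem]
      rw [MulAction.mem_stabilizer_iff, mul_smul, mul_smul, h, inv_smul_smul]
    · rw [if_neg h, extendByZero_of_not_mem]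
      intro hmem
      apply h
      rw [MulAction.mem_stabilizer_iff, mul_smul, mul_smul] at hmem
      have := congrArg (fun w => y • w) hmem
      simpa using this
  simp_rw [hterm]
  -- sum over fibres
  have hsum : ∑ y : G, (if g • (y • x) = y • x then (1 : ℂ) else 0) =
      ∑ z : X, ∑ y : {y : G // y • x = z}, (if g • z = z then (1 : ℂ) else 0) := by
    rw [← Fintype.sum_fiberwise (fun y : G => y • x) (fun y => if g • (y • x) = y • x then (1 : ℂ) else 0)]
    apply Finset.sum_congr rfl
    intro z _
    apply Finset.sum_congr rfl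
    intro y _
    rw [y.2]
  rw [hsum]
  have hinner : ∀ z : X, ∑ _y : {y : G // y • x = z}, (if g • z = z then (1 : ℂ) else 0) =
      (Nat.card (MulAction.stabilizer G x) : ℂ) * (if g • z = z then 1 else 0) := by
    intro z
    obtain ⟨y₀, hy₀⟩ := MulAction.exists_smul_eq G x z
    rw [Finset.sum_const, Finset.card_univ, ← Nat.card_eq_fintype_card, card_fiber x z y₀ hy₀,
      nsmul_eq_mul]
  simp_rw [hinner]
  rw [← Finset.mul_sum, ← mul_assoc, inv_mul_cancel₀ hH, one_mul, Finset.sum_boole]
  congr 1
  rw [Nat.card_eq_fintype_card, Fintype.card_subtype]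
  congr 1

end Cfsg.Agent.S0190
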