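import Cfsg.Statements.S0878
import Cfsg.Agent.Lib.Helper59.ZassKernel

set_option autoImplicit false
open Cfsg

namespace Cfsg.Agent.S0878

open MulAction Cfsg.Agent.Lib.Helper59 in
/-- Let G be a Zassenhaus group on the finite set Ω, a a point, and let H be the subgroup of the stabilizer of a consisting of the identity and the elements fixing no point other than a (given here as a subgroup of the stabilizer of order one less than the number of points whose non-identity elements fix only a; it is the Frobenius kernel of the stabilizer). Then an element outside the stabilizer of a conjugates no non-identity element of H into H, and the normalizer of H is exactly the stabilizer of a. -/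
theorem result {G Ω : Type*} [Group G] [Finite G] [MulAction G Ω] [Fintype Ω] (hZ : Cfsg.IsZassenhausGroup G Ω) (a : Ω) (H : Subgroup G) (hHa : H ≤ MulAction.stabilizer G a) (hHcard : Nat.card H + 1 = Fintype.card Ω) (hHfix : ∀ u ∈ H, u ≠ 1 → ∀ c : Ω, u • c = c → c = a) : (∀ g : G, g ∉ MulAction.stabilizer G a → ∀ u ∈ H, g * u * g⁻¹ ∈ H → u = 1) ∧ Subgroup.normalizer (H : Set G) = MulAction.stabilizer G a := by
  classical
  have hcard' : Nat.card H + 1 = Nat.card Ω := by rw [Nat.card_eq_fintype_card (α := Ω)]; exact hHcard
  have hHK := eq_zassKernel hZ a H hHa hcard' hHfix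
  have part1 : ∀ g : G, g ∉ MulAction.stabilizer G a → ∀ u ∈ H, g * u * g⁻¹ ∈ H → u = 1 := by
    intro g hg u hu hgu
    by_contra hu1
    apply hg
    have hy1 : g * u * g⁻¹ ≠ 1 := by
      intro h1
      apply hu1
      have : u = g⁻¹ * (g * u * g⁻¹) * g := by group
      rw [this, h1]; group
    have hua : u • a = a := hHa hu
    have hfix : (g * u * g⁻¹) • (g • a) = g • a := by
      rw [mul_smul, mul_smul, inv_smul_smul, hua]
    exact hHfix _ hgu hy1 _ hfix
  refine ⟨part1, ?_⟩
  apply le_antisymm
  · intro g hg
    by_contra hga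
    -- a non-identity element of H
    obtain ⟨x₀, hx₀1, b₀, c₀, hbc₀, hxb₀, hxc₀⟩ := hZ.2.2.2.1
    have h3 : 3 ≤ Fintype.card Ω := by
      have hex : ∃ d : Ω, x₀ • d ≠ d := by
        by_contra hcon
        push Not at hcon
        apply hx₀1
        have := hZ.1
        apply FaithfulSMul.eq_of_smul_eq_smul (α := Ω)
        intro d
        rw [hcon d, one_smul]
      obtain ⟨d, hd⟩ := hex
      have hdb : d ≠ b₀ := fun h => hd (h ▸ hxb₀)
      have hdc : d ≠ c₀ := fun h => hd (h ▸ hxc₀)
      have : ({b₀, c₀, d} : Finset Ω).card = 3 := by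
        rw [Finset.card_insert_of_notMem, Finset.card_insert_of_notMem, Finset.card_singleton]
        · simpa using hdc.symm
        · simp only [Finset.mem_insert, Finset.mem_singleton, not_or]
          exact ⟨hbc₀, hdb.symm⟩
      rw [← this]
      exact Finset.card_le_univ _
    have hH2 : 1 < Nat.card H := by omega
    have hnt : Nontrivial H := Finite.one_lt_card_iff_nontrivial.mp hH2
    obtain ⟨u, hu1⟩ := exists_ne (1 : H)
    have hu1' : (u : G) ≠ 1 := fun h => hu1 (Subtype.ext h)
    have hmem := (Subgroup.mem_set_normalizer_iff.mp hg (u : G)).mp u.2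
    exact hu1' (part1 g hga u u.2 hmem)
  · intro g hg
    rw [Subgroup.mem_set_normalizer_iff]
    intro h
    rw [hHK]
    have hga : g • a = a := hg
    constructor
    · intro hh
      exact conj_mem_zassKernel hh hga
    · intro hh
      have hga' : g⁻¹ • a = a := by rw [inv_smul_eq_iff, hga]
      have := conj_mem_zassKernel hh hga'
      have e : g⁻¹ * (g * h * g⁻¹) * g⁻¹⁻¹ = h := by group
      rwa [e] at this

end Cfsg.Agent.S0878
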