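import Cfsg.Statements.S0882
import Cfsg.Agent.Lib.Helper25.ZassInv
import Cfsg.Agent.S0739

set_option autoImplicit false
open Cfsg

namespace Cfsg.Agent.S0882

open Cfsg.Agent.Lib.Helper6 Cfsg.Agent.Lib.Helper25.ZassInv

/-- Let G be a finite simple Zassenhaus group on Ω with n = h + 1 points whose two-point stabilizer E has odd order e with 2e < h - 1. Then any two involutions of G are conjugate, and the number of involutions is e * (h + 1) if h is even and e * h if h is odd. -/
theorem result {G Ω : Type*} [Group G] [Finite G] [MulAction G Ω] [Fintype Ω] (hZ : Cfsg.IsZassenhausGroup G Ω) {a b : Ω} (hab : a ≠ b) [IsSimpleGroup G] (h e : ℕ) (hh : Fintype.card Ω = h + 1) (he : Nat.card ↥(MulAction.stabilizer G a ⊓ MulAction.stabilizer G b : Subgroup G) = e) (hodd : Odd e) (hlt : 2 * e < h - 1) : (∀ x y : G, orderOf x = 2 → orderOf y = 2 → IsConj x y) ∧ Nat.card {x : G // orderOf x = 2} = (if Even h then e * (h + 1) else e * h) := by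
  classical
  have := Fintype.ofFinite G
  have h2 : ∀ a b c d : Ω, a ≠ b → c ≠ d → ∃ g : G, g • a = c ∧ g • b = d :=
    fun a b c d hab hcd => (MulAction.is_two_pretransitive_iff.mp hZ.2.1) hab hcd
  have h3 := hZ.2.2.1
  have hoddE : Odd (Nat.card ↥(MulAction.stabilizer G a ⊓ MulAction.stabilizer G b : Subgroup G)) := by
    rw [he]; exact hodd
  -- the order of G
  have hG : Nat.card G = (h + 1) * h * e := by
    rw [card_group_eq h2 hab, hh, he, Nat.add_sub_cancel]
  have hh4 : 4 ≤ h := by
    obtain ⟨k, hk⟩ := hodd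
    omega
  -- involutions
  have hinv_iff : ∀ x : G, orderOf x = 2 ↔ x ∈ invs G := by
    intro x
    rw [mem_invs, orderOf_eq_iff (by norm_num)]
    constructor
    · rintro ⟨h1, h2'⟩
      refine ⟨?_, by rw [← pow_two]; exact h1⟩
      intro hx1
      have := h2' 1 (by norm_num) (by norm_num)
      rw [hx1, pow_one] at this
      exact this rfl
    · rintro ⟨h1, h2'⟩
      refine ⟨by rw [pow_two]; exact h2', ?_⟩
      intro m hm hm0
      have : m = 1 := by omega
      rw [this, pow_one]
      exact h1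
  have hcount : Nat.card {x : G // orderOf x = 2} = (invs G).card := by
    rw [Nat.card_eq_fintype_card, Fintype.card_subtype]
    congr 1
    ext x
    simp only [Finset.mem_filter, Finset.mem_univ, true_and]
    exact hinv_iff x
  -- an involution exists
  have h2dvd : 2 ∣ Nat.card G := by
    rw [hG]
    rcases Nat.even_or_odd h with hev | hod
    · exact Dvd.dvd.mul_right (Dvd.dvd.mul_left hev.two_dvd _) _
    · have : Even (h + 1) := hod.add_one
      exact Dvd.dvd.mul_right (Dvd.dvd.mul_right this.two_dvd _) _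
  obtain ⟨x₀, hx₀⟩ := exists_prime_orderOf_dvd_card' (G := G) 2 h2dvd
  have hx₀' := (hinv_iff x₀).mp hx₀
  rw [mem_invs] at hx₀'
  have hconj_inv : ∀ (g t : G), t ≠ 1 ∧ t * t = 1 → (g * t * g⁻¹ ≠ 1 ∧ (g * t * g⁻¹) * (g * t * g⁻¹) = 1) := by
    intro g t ht
    refine ⟨?_, ?_⟩
    · intro h1
      apply ht.1
      have := congrArg (fun z => g⁻¹ * z * g) h1
      simpa [mul_assoc] using this
    · calc g * t * g⁻¹ * (g * t * g⁻¹) = g * (t * t) * g⁻¹ := by group
        _ = 1 := by rw [ht.2]; group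
  have htrans : ∀ c d : Ω, ∃ g : G, g • c = d := by
    intro c d
    by_cases hcd : c = d
    · exact ⟨1, by rw [one_smul, hcd]⟩
    · obtain ⟨g, hg, -⟩ := h2 c d d c hcd (Ne.symm hcd)
      exact ⟨g, hg⟩
  rcases Nat.even_or_odd h with hev | hod
  · -- degree odd
    rw [if_pos hev]
    have hnodd : Odd (Fintype.card Ω) := by rw [hh]; exact hev.add_one
    -- every involution is conjugate into invsMap a a
    have hmove : ∀ t : G, t ≠ 1 ∧ t * t = 1 → ∃ g : G, g * t * g⁻¹ ∈ invsMap (G := G) a a := by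
      intro t ht
      obtain ⟨c, hc, -⟩ := involution_existsUnique_fixed hnodd h3 ht.1 ht.2
      obtain ⟨g, hg⟩ := htrans c a
      refine ⟨g, ?_⟩
      rw [mem_invsMap]
      refine ⟨hconj_inv g t ht, ?_⟩
      rw [mul_smul, mul_smul, inv_smul_eq_iff.mpr hg.symm, hc, hg]
    obtain ⟨g₀, hg₀⟩ := hmove x₀ hx₀'
    obtain ⟨hcard, htr⟩ := invsMap_self_odd h2 h3 hnodd hab hoddE hg₀
    constructor
    · intro x y hx hy
      have hx' := (hinv_iff x).mp hx
      have hy' := (hinv_iff y).mp hy
      rw [mem_invs] at hx' hy'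
      obtain ⟨gx, hgx⟩ := hmove x hx'
      obtain ⟨gy, hgy⟩ := hmove y hy'
      obtain ⟨η, -, hη⟩ := htr _ hgx
      obtain ⟨ζ, -, hζ⟩ := htr _ hgy
      have c1 : IsConj x (gx * x * gx⁻¹) := isConj_iff.mpr ⟨gx, rfl⟩
      have c2 : IsConj y (gy * y * gy⁻¹) := isConj_iff.mpr ⟨gy, rfl⟩
      have c3 : IsConj (g₀ * x₀ * g₀⁻¹) (gx * x * gx⁻¹) := isConj_iff.mpr ⟨η, hη⟩
      have c4 : IsConj (g₀ * x₀ * g₀⁻¹) (gy * y * gy⁻¹) := isConj_iff.mpr ⟨ζ, hζ⟩
      exact (c1.trans c3.symm).trans (c4.trans c2.symm)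
    · rw [hcount, card_invs_odd h2 h3 hnodd hab, hcard, he, hh, mul_comm]
  · -- degree even
    have hev : ¬ Even h := Nat.not_even_iff_odd.mpr hod
    rw [if_neg hev]
    have hneven : Even (Fintype.card Ω) := by rw [hh]; exact hod.add_one
    have hfpf : ∀ t : G, t ≠ 1 ∧ t * t = 1 → ∀ c : Ω, t • c ≠ c :=
      fun t ht c => fpf_of_even h2 hab hneven hoddE ht.1 ht.2 c
    -- S0739
    have hnil : ∀ q : ℕ, q.Prime → q ∣ Nat.card ↥(MulAction.stabilizer G a ⊓ MulAction.stabilizer G b : Subgroup G) →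
        ¬ ∃ N : Subgroup G, N.Normal ∧ N.index = q ^ (Nat.card G).factorization q := by
      rintro q hq hqe ⟨N, hN, hidx⟩
      rcases hN.eq_bot_or_eq_top with rfl | rfl
      · rw [Subgroup.index_bot, hG] at hidx
        have hd1 : h ∣ q ^ ((h + 1) * h * e).factorization q := by
          rw [← hidx]; exact Dvd.dvd.mul_right (Dvd.intro_left _ rfl) _
        have hd2 : (h + 1) ∣ q ^ ((h + 1) * h * e).factorization q := by
          rw [← hidx]; exact Dvd.dvd.mul_right (Dvd.intro _ rfl) _
        obtain ⟨k1, -, hk1⟩ := (Nat.dvd_prime_pow hq).mp hd1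
        obtain ⟨k2, -, hk2⟩ := (Nat.dvd_prime_pow hq).mp hd2
        have hq1 : q ∣ h := by
          rw [hk1]
          apply dvd_pow_self
          intro h0
          rw [h0, pow_zero] at hk1
          omega
        have hq2 : q ∣ h + 1 := by
          rw [hk2]
          apply dvd_pow_self
          intro h0
          rw [h0, pow_zero] at hk2
          omega
        have : q ∣ 1 := (Nat.dvd_add_right hq1).mp hq2
        exact hq.one_lt.ne' (Nat.dvd_one.mp this)
      · rw [Subgroup.index_top] at hidx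
        have hv : (Nat.card G).factorization q = 0 := by
          by_contra hv
          have : 1 < q ^ (Nat.card G).factorization q := Nat.one_lt_pow hv hq.one_lt
          omega
        have hqG : q ∣ Nat.card G := hqe.trans (Subgroup.card_subgroup_dvd_card _)
        rcases (Nat.factorization_eq_zero_iff _ _).mp hv with h' | h' | h'
        · exact h' hq
        · exact h' hqG
        · exact Nat.card_pos.ne' h'
    obtain ⟨-, -, hinvE⟩ := Cfsg.Agent.S0739.result hZ hab hoddE hnil
    -- every involution is conjugate into invsMap a b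
    have hmove : ∀ t : G, t ≠ 1 ∧ t * t = 1 → ∃ g : G, g * t * g⁻¹ ∈ invsMap (G := G) a b := by
      intro t ht
      have hta : t • a ≠ a := hfpf t ht a
      obtain ⟨g, hga, hgd⟩ := h2 a (t • a) a b (Ne.symm hta) hab
      refine ⟨g, ?_⟩
      rw [mem_invsMap]
      refine ⟨hconj_inv g t ht, ?_⟩
      rw [mul_smul, mul_smul, inv_smul_eq_iff.mpr hga.symm, hgd]
    have hswap : ∀ w : G, w ∈ invsMap (G := G) a b → w • a = b ∧ w • b = a := by
      intro w hw
      rw [mem_invsMap] at hw
      refine ⟨hw.2, ?_⟩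
      rw [← hw.2, ← mul_smul, hw.1.2, one_smul]
    obtain ⟨g₀, hg₀⟩ := hmove x₀ hx₀'
    have hw₀ := hswap _ hg₀
    have hinv₀ := hinvE _ hw₀.1 hw₀.2
    have hj : (invsMap (G := G) a b).card = e := by
      rw [← he]
      exact le_antisymm card_invsMap_le (card_invsMap_ge hab hg₀ hinv₀)
    have hempty : (invsMap (G := G) a a).card = 0 := by
      rw [Finset.card_eq_zero, Finset.eq_empty_iff_forall_notMem]
      intro t ht
      rw [mem_invsMap] at ht
      exact hfpf t ht.1 a ht.2
    constructor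
    · intro x y hx hy
      have hx' := (hinv_iff x).mp hx
      have hy' := (hinv_iff y).mp hy
      rw [mem_invs] at hx' hy'
      obtain ⟨gx, hgx⟩ := hmove x hx'
      obtain ⟨gy, hgy⟩ := hmove y hy'
      have sx := hswap _ hgx
      have sy := hswap _ hgy
      have c1 : IsConj x (gx * x * gx⁻¹) := isConj_iff.mpr ⟨gx, rfl⟩
      have c2 : IsConj y (gy * y * gy⁻¹) := isConj_iff.mpr ⟨gy, rfl⟩
      have c3 : IsConj (gx * x * gx⁻¹) (gy * y * gy⁻¹) :=
        isConj_of_inverts hoddE sx.1 sx.2 sy.1 sy.2 (hinvE _ sx.1 sx.2)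
      exact (c1.trans c3).trans c2.symm
    · rw [hcount, card_invs_eq_add h2 hab, hempty, hj, hh, Nat.add_sub_cancel, zero_add, mul_comm]

end Cfsg.Agent.S0882
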