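import Cfsg.Statements.S0883
import Cfsg.Agent.Lib.Helper6.FrobNilp
import Cfsg.Agent.Lib.Helper6.InvCount

set_option autoImplicit false
open Cfsg

namespace Cfsg.Agent.S0883

open Cfsg.Agent.Lib.Helper6 MulAction

/-- Let G be a finite simple Zassenhaus group on Ω with h + 1 points whose two-point stabilizer E has odd order e with 2e < h - 1, and let H be the subgroup of the stabilizer of a consisting of the identity and the elements fixing no point other than a (given here as a subgroup of the stabilizer of order one less than the number of points whose non-identity elements fix only a; it is the Frobenius kernel of the stabilizer). If a non-identity element u of H is a product of two involutions of G, then u is an involution. -/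
theorem result {G Ω : Type*} [Group G] [Finite G] [MulAction G Ω] [Fintype Ω] (hZ : Cfsg.IsZassenhausGroup G Ω) {a b : Ω} (hab : a ≠ b) [IsSimpleGroup G] (h e : ℕ) (hh : Fintype.card Ω = h + 1) (he : Nat.card ↥(MulAction.stabilizer G a ⊓ MulAction.stabilizer G b : Subgroup G) = e) (hodd : Odd e) (hlt : 2 * e < h - 1) (H : Subgroup G) (hHa : H ≤ MulAction.stabilizer G a) (hHcard : Nat.card H + 1 = Fintype.card Ω) (hHfix : ∀ u ∈ H, u ≠ 1 → ∀ c : Ω, u • c = c → c = a) (u : G) (hu : u ∈ H) (hu1 : u ≠ 1) (x y : G) (hx : orderOf x = 2) (hy : orderOf y = 2) (hxy : x * y = u) : orderOf u = 2 := by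
  classical
  obtain ⟨hfaith, h2, h3, ⟨g0, hg0, a0, b0, hab0, hg0a, hg0b⟩, -⟩ := hZ
  have h2' : ∀ a b c d : Ω, a ≠ b → c ≠ d → ∃ g : G, g • a = c ∧ g • b = d :=
    fun a b c d hab hcd => (is_two_pretransitive_iff.mp h2) hab hcd
  have := Fintype.ofFinite G
  have hx2 : x * x = 1 := by rw [← pow_two, ← hx, pow_orderOf_eq_one]
  have hy2 : y * y = 1 := by rw [← pow_two, ← hy, pow_orderOf_eq_one]
  have hx1 : x ≠ 1 := by
    intro h; rw [h, orderOf_one] at hx; norm_num at hx
  have hy1 : y ≠ 1 := by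
    intro h; rw [h, orderOf_one] at hy; norm_num at hy
  have hxinv : x⁻¹ = x := inv_eq_of_mul_eq_one_left hx2
  have hyinv : y⁻¹ = y := inv_eq_of_mul_eq_one_left hy2
  have hua : u • a = a := hHa hu
  have huinva : u⁻¹ • a = a := by rw [inv_smul_eq_iff, hua]
  -- x and y fix a
  have hxa : x • a = a := by
    apply hHfix u hu hu1
    have : u * x = x * u⁻¹ := by
      rw [← hxy, _root_.mul_inv_rev, hxinv, hyinv]
      simp only [mul_assoc]
    rw [← mul_smul, this, mul_smul, huinva]
  have hya : y • a = a := by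
    have : y = x * u := by rw [← hxy, ← mul_assoc, hx2, one_mul]
    rw [this, mul_smul, hua, hxa]
  -- two-point stabilisers have order e
  let E : Subgroup G := stabilizer G a ⊓ stabilizer G b
  have hEcard : ∀ c, c ≠ a → Nat.card ↥(stabilizer G a ⊓ stabilizer G c : Subgroup G) = e := by
    intro c hc
    obtain ⟨g, hga, hgb⟩ := h2' a b a c hab (Ne.symm hc)
    rw [← he]
    symm
    apply Nat.card_congr
    refine ⟨fun η => ⟨g * η * g⁻¹, ?_, ?_⟩, fun η => ⟨g⁻¹ * η * g, ?_, ?_⟩, ?_, ?_⟩
    · show (g * η * g⁻¹) • a = a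
      have h1 : (η : G) • a = a := η.2.1
      have h2 : g⁻¹ • a = a := by rw [inv_smul_eq_iff, hga]
      rw [mul_smul, mul_smul, h2, h1, hga]
    · show (g * η * g⁻¹) • c = c
      have h1 : (η : G) • b = b := η.2.2
      have h2 : g⁻¹ • c = b := by rw [inv_smul_eq_iff, hgb]
      rw [mul_smul, mul_smul, h2, h1, hgb]
    · show (g⁻¹ * η * g) • a = a
      have h1 : (η : G) • a = a := η.2.1
      rw [mul_smul, mul_smul, hga, h1, inv_smul_eq_iff, hga]
    · show (g⁻¹ * η * g) • b = b
      have h1 : (η : G) • c = c := η.2.2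
      rw [mul_smul, mul_smul, hgb, h1, inv_smul_eq_iff, hgb]
    · intro η
      apply Subtype.ext
      show g⁻¹ * (g * η * g⁻¹) * g = η
      group
    · intro η
      apply Subtype.ext
      show g * (g⁻¹ * η * g) * g⁻¹ = η
      group
  -- involutions fixing `a` fix nothing else
  have hfixonly : ∀ t : G, t ≠ 1 → t * t = 1 → t • a = a → ∀ c, t • c = c → c = a := by
    intro t ht1 ht2 hta c hc
    by_contra hca
    have hmem : t ∈ (stabilizer G a ⊓ stabilizer G c : Subgroup G) := ⟨hta, hc⟩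
    have hord : orderOf t = 2 := orderOf_eq_prime (by rw [pow_two]; exact ht2) ht1
    have hdvd : orderOf (⟨t, hmem⟩ : ↥(stabilizer G a ⊓ stabilizer G c : Subgroup G)) ∣ e := by
      rw [← hEcard c hca]
      exact orderOf_dvd_natCard _
    rw [Subgroup.orderOf_mk, hord] at hdvd
    obtain ⟨k, hk⟩ := hodd
    omega
  -- the degree is odd
  have hnodd : Odd (Fintype.card Ω) := by
    have hσ : (MulAction.toPerm x : Equiv.Perm Ω) ^ 2 ^ 1 = 1 := by
      ext c
      simp [pow_two, ← mul_smul, hx2]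
    have : Fact (Nat.Prime 2) := ⟨Nat.prime_two⟩
    have hmod := Equiv.Perm.card_compl_support_modEq (p := 2) (n := 1) hσ
    have hF : (MulAction.toPerm x : Equiv.Perm Ω).supportᶜ = {a} := by
      ext c
      simp only [Finset.mem_compl, Equiv.Perm.mem_support, MulAction.toPerm_apply, ne_eq,
        not_not, Finset.mem_singleton]
      exact ⟨fun hc => hfixonly x hx1 hx2 hxa c hc, fun hc => hc ▸ hxa⟩
    rw [hF, Finset.card_singleton] at hmod
    rw [Nat.odd_iff, ← hmod]
  -- counting involutions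
  have hij := card_invsMap_self_eq (G := G) hnodd h2' h3 hab
  let Ef : Finset G := Finset.univ.filter (fun η => η ∈ E)
  have hEf : Ef.card = e := by
    rw [← he, Nat.card_eq_fintype_card, Fintype.card_subtype]
  have hj : (invsMap (G := G) a b).card ≤ e := by
    by_cases hemp : invsMap (G := G) a b = ∅
    · rw [hemp]; simp
    obtain ⟨w, hw⟩ := Finset.nonempty_iff_ne_empty.mpr hemp
    rw [mem_invsMap] at hw
    have hwb : w • b = a := by
      rw [← hw.2, ← mul_smul, hw.1.2, one_smul]
    rw [← hEf]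
    apply Finset.card_le_card_of_injOn (fun t => w⁻¹ * t)
    · intro t ht
      rw [Finset.mem_coe, mem_invsMap] at ht
      have htb : t • b = a := by
        rw [← ht.2, ← mul_smul, ht.1.2, one_smul]
      simp only [Ef, Finset.coe_filter, Finset.mem_univ, true_and, Set.mem_ofPred_eq]
      constructor
      · show (w⁻¹ * t) • a = a
        rw [mul_smul, ht.2, inv_smul_eq_iff, hw.2]
      · show (w⁻¹ * t) • b = b
        rw [mul_smul, htb, inv_smul_eq_iff, hwb]
    · intro t _ t' _ htt
      exact mul_left_cancel htt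
  -- the conjugates of x under E
  have hxb : x • b ≠ b := fun h => hab (hfixonly x hx1 hx2 hxa b h).symm
  have hxba : x • b ≠ a := by
    intro h
    rw [← hxa] at h
    exact hab (smul_left_cancel x h).symm
  have hinjE : Set.InjOn (fun η : G => η * x * η⁻¹) (Ef : Set G) := by
    intro η1 h1 η2 h2 hη
    simp only [Ef, Finset.coe_filter, Finset.mem_univ, true_and, Set.mem_ofPred_eq] at h1 h2
    simp only at hη
    have hcomm : (η2⁻¹ * η1) * x = x * (η2⁻¹ * η1) := by
      have := congrArg (fun z => η2⁻¹ * z * η1) hη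
      simp only [mul_assoc, inv_mul_cancel, mul_one, inv_mul_cancel_left] at this
      simp only [mul_assoc]
      exact this
    have hmemE : η2⁻¹ * η1 ∈ E := E.mul_mem (E.inv_mem h2) h1
    have h1' : (η2⁻¹ * η1) • a = a := hmemE.1
    have h2' : (η2⁻¹ * η1) • b = b := hmemE.2
    have h3' : (η2⁻¹ * η1) • (x • b) = x • b := by
      rw [← mul_smul, hcomm, mul_smul, h2']
    have := h3 _ a b (x • b) hab (Ne.symm hxb) (Ne.symm hxba) h1' h2' h3'
    have := congrArg (fun z => η2 * z) this
    simpa using this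
  have hmapsE : ∀ η ∈ Ef, η * x * η⁻¹ ∈ invsMap (G := G) a a := by
    intro η hη
    simp only [Ef, Finset.mem_filter, Finset.mem_univ, true_and] at hη
    have hηa : η • a = a := hη.1
    rw [mem_invsMap]
    refine ⟨⟨?_, ?_⟩, ?_⟩
    · intro h
      apply hx1
      have := congrArg (fun z => η⁻¹ * z * η) h
      simpa [mul_assoc] using this
    · calc η * x * η⁻¹ * (η * x * η⁻¹) = η * (x * x) * η⁻¹ := by group
        _ = 1 := by rw [hx2]; group
    · rw [mul_smul, mul_smul, inv_smul_eq_iff.mpr hηa.symm, hxa, hηa]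
  have hi : e ≤ (invsMap (G := G) a a).card := by
    rw [← hEf]
    exact Finset.card_le_card_of_injOn _ (fun η hη => hmapsE η hη) hinjE
  have hie : (invsMap (G := G) a a).card = e := le_antisymm (hij ▸ hj) hi
  have hsurjE : ∀ t ∈ invsMap (G := G) a a, ∃ η ∈ Ef, η * x * η⁻¹ = t := by
    have himg : Ef.image (fun η : G => η * x * η⁻¹) = invsMap (G := G) a a := by
      apply Finset.eq_of_subset_of_card_le
      · intro t ht
        obtain ⟨η, hη, rfl⟩ := Finset.mem_image.mp ht
        exact hmapsE η hη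
      · rw [Finset.card_image_of_injOn hinjE, hEf, hie]
    intro t ht
    rw [← himg] at ht
    obtain ⟨η, hη, rfl⟩ := Finset.mem_image.mp ht
    exact ⟨η, hη, rfl⟩
  -- E ≠ ⊥
  obtain ⟨g1, hg11, hg1a, hg1b⟩ : ∃ g : G, g ≠ 1 ∧ g • a = a ∧ g • b = b := by
    obtain ⟨k, hka, hkb⟩ := h2' a0 b0 a b hab0 hab
    refine ⟨k * g0 * k⁻¹, ?_, ?_, ?_⟩
    · intro h
      apply hg0
      have := congrArg (fun z => k⁻¹ * z * k) h
      simpa [mul_assoc] using this
    · rw [mul_smul, mul_smul, inv_smul_eq_iff.mpr hka.symm, hg0a, hka]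
    · rw [mul_smul, mul_smul, inv_smul_eq_iff.mpr hkb.symm, hg0b, hkb]
  let X := stabilizer G a
  let Δ := SubMulAction.ofStabilizer G a
  have hΔ : ∀ e : Δ, (e : Ω) ≠ a := fun e => (SubMulAction.mem_ofStabilizer_iff G a).mp e.2
  have : IsPretransitive X Δ := ⟨fun e f => by
    obtain ⟨g, hga, hge⟩ := h2' a (e : Ω) a (f : Ω) (Ne.symm (hΔ e)) (Ne.symm (hΔ f))
    exact ⟨⟨g, hga⟩, Subtype.ext hge⟩⟩
  let b' : Δ := ⟨b, (SubMulAction.mem_ofStabilizer_iff G a).mpr (Ne.symm hab)⟩
  let g1' : X := ⟨g1, hg1a⟩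
  have hstab : stabilizer X b' ≠ ⊥ := by
    intro h
    have : g1' ∈ stabilizer X b' := Subtype.ext hg1b
    rw [h, Subgroup.mem_bot] at this
    exact hg11 (congrArg Subtype.val this)
  have hnt : ∃ e : Δ, e ≠ b' :=
    ⟨⟨x • b, (SubMulAction.mem_ofStabilizer_iff G a).mpr hxba⟩,
      fun h => hxb (congrArg Subtype.val h)⟩
  have h2'' : ∀ e f : Δ, e ≠ f → ∀ y : X, y • e = e → y • f = f → y = 1 := by
    intro e f hef y hye hyf
    apply Subtype.ext
    have hef' : (e : Ω) ≠ (f : Ω) := fun h => hef (Subtype.ext h)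
    exact h3 (y : G) a e f (Ne.symm (hΔ e)) hef' (Ne.symm (hΔ f)) y.2
      (congrArg Subtype.val hye) (congrArg Subtype.val hyf)
  obtain ⟨K, hKn, hKnil, hKmem, -⟩ :=
    exists_regular_normal_nilpotent_of_frobenius_action (X := X) b' hstab hnt h2''
  -- involutions fixing a lie in K
  have hinK : ∀ t : G, t ≠ 1 → t * t = 1 → ∀ hta : t • a = a, (⟨t, hta⟩ : X) ∈ K := by
    intro t ht1 ht2 hta
    rw [hKmem]
    right
    intro d hd
    exact hΔ d (hfixonly t ht1 ht2 hta d (congrArg Subtype.val hd))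
  have := hKnil
  obtain ⟨z, hz1, hz2, hzc⟩ := exists_involution_commute_two_elements (K := K)
    ⟨⟨⟨x, hxa⟩, hinK x hx1 hx2 hxa⟩, fun h => hx1 (congrArg (fun w : K => ((w : X) : G)) h),
      Subtype.ext (Subtype.ext hx2)⟩
  have hzG1 : ((z : X) : G) ≠ 1 := fun h => hz1 (Subtype.ext (Subtype.ext h))
  have hzG2 : ((z : X) : G) * ((z : X) : G) = 1 :=
    congrArg (fun w : K => ((w : X) : G)) hz2
  have hzGa : ((z : X) : G) • a = a := (z : X).2
  obtain ⟨η, hη, hηx⟩ := hsurjE ((z : X) : G) (mem_invsMap.mpr ⟨⟨hzG1, hzG2⟩, hzGa⟩)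
  simp only [Ef, Finset.mem_filter, Finset.mem_univ, true_and] at hη
  have hηa : η • a = a := hη.1
  have hy'1 : η * y * η⁻¹ ≠ 1 := by
    intro h
    apply hy1
    have := congrArg (fun z => η⁻¹ * z * η) h
    simpa [mul_assoc] using this
  have hy'2 : η * y * η⁻¹ * (η * y * η⁻¹) = 1 := by
    calc η * y * η⁻¹ * (η * y * η⁻¹) = η * (y * y) * η⁻¹ := by group
      _ = 1 := by rw [hy2]; group
  have hy'a : (η * y * η⁻¹) • a = a := by
    rw [mul_smul, mul_smul, inv_smul_eq_iff.mpr hηa.symm, hya, hηa]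
  have hcomm := hzc ⟨⟨η * y * η⁻¹, hy'a⟩, hinK _ hy'1 hy'2 hy'a⟩
    ⟨1, by
      apply Subtype.ext
      apply Subtype.ext
      show (η * y * η⁻¹) ^ 2 ^ 1 = 1
      rw [pow_one, pow_two, hy'2]⟩
  have hcommG : ((z : X) : G) * (η * y * η⁻¹) = (η * y * η⁻¹) * ((z : X) : G) :=
    congrArg (fun w : K => ((w : X) : G)) hcomm
  rw [← hηx] at hcommG
  have hxycomm : x * y = y * x := by
    have := congrArg (fun z => η⁻¹ * z * η) hcommG
    simpa [mul_assoc] using this
  have hu2 : u * u = 1 := by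
    rw [← hxy]
    calc x * y * (x * y) = x * (y * x) * y := by group
      _ = x * (x * y) * y := by rw [hxycomm]
      _ = (x * x) * (y * y) := by group
      _ = 1 := by rw [hx2, hy2, one_mul]
  exact orderOf_eq_prime (by rw [pow_two]; exact hu2) hu1

end Cfsg.Agent.S0883
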