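import Cfsg.Statements.S0884
import Cfsg.Agent.Lib.Helper25.ZassInv
import Cfsg.Agent.Lib.Helper25.InvPairs
import Cfsg.Agent.S0882
import Cfsg.Agent.S0883

set_option autoImplicit false
open Cfsg

namespace Cfsg.Agent.S0884

open Cfsg.Agent.Lib.Helper6 Cfsg.Agent.Lib.Helper25.ZassInv Cfsg.Agent.Lib.Helper25.InvPairs

/-- Let G be a finite simple Zassenhaus group on Ω with h + 1 points whose two-point stabilizer E has odd order e with 2e < h - 1, and let H be the subgroup of the stabilizer of a consisting of the identity and the elements fixing no point other than a (given here as a subgroup of the stabilizer of order one less than the number of points whose non-identity elements fix only a; it is the Frobenius kernel of the stabilizer). Then at least e conjugacy classes of G contain no element of H. -/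
theorem result {G Ω : Type*} [Group G] [Finite G] [MulAction G Ω] [Fintype Ω] (hZ : Cfsg.IsZassenhausGroup G Ω) {a b : Ω} (hab : a ≠ b) [IsSimpleGroup G] (h e : ℕ) (hh : Fintype.card Ω = h + 1) (he : Nat.card ↥(MulAction.stabilizer G a ⊓ MulAction.stabilizer G b : Subgroup G) = e) (hodd : Odd e) (hlt : 2 * e < h - 1) (H : Subgroup G) (hHa : H ≤ MulAction.stabilizer G a) (hHcard : Nat.card H + 1 = Fintype.card Ω) (hHfix : ∀ u ∈ H, u ≠ 1 → ∀ c : Ω, u • c = c → c = a) : e ≤ Nat.card {C : ConjClasses G // ∀ g : G, ConjClasses.mk g = C → g ∉ H} := by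
  classical
  have := Fintype.ofFinite G
  have h2 : ∀ a b c d : Ω, a ≠ b → c ≠ d → ∃ g : G, g • a = c ∧ g • b = d :=
    fun a b c d hab hcd => (MulAction.is_two_pretransitive_iff.mp hZ.2.1) hab hcd
  have h3 := hZ.2.2.1
  have hoddE : Odd (Nat.card ↥(MulAction.stabilizer G a ⊓ MulAction.stabilizer G b : Subgroup G)) := by
    rw [he]; exact hodd
  have hG : Nat.card G = (h + 1) * h * e := by
    rw [card_group_eq h2 hab, hh, he, Nat.add_sub_cancel]
  have he1 : 1 ≤ e := by
    obtain ⟨k, hk⟩ := hodd
    omega
  have hh4 : 4 ≤ h := by omega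
  obtain ⟨hconj, hcnt⟩ := Cfsg.Agent.S0882.result hZ hab h e hh he hodd hlt
  have hinv_iff : ∀ x : G, orderOf x = 2 ↔ x ∈ invs G := by
    intro x
    rw [mem_invs, orderOf_eq_iff (by norm_num)]
    constructor
    · rintro ⟨h1, h2'⟩
      refine ⟨?_, by rw [← pow_two]; exact h1⟩
      intro hx1
      have := h2' 1 (by norm_num) (by norm_num)
      rw [hx1, pow_one] at this
      exact this rfl
    · rintro ⟨h1, h2'⟩
      refine ⟨by rw [pow_two]; exact h2', ?_⟩
      intro m hm hm0
      have : m = 1 := by omega
      rw [this, pow_one]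
      exact h1
  have hcount : Nat.card {x : G // orderOf x = 2} = (invs G).card := by
    rw [Nat.card_eq_fintype_card, Fintype.card_subtype]
    congr 1
    ext x
    simp only [Finset.mem_filter, Finset.mem_univ, true_and]
    exact hinv_iff x
  rw [hcount] at hcnt
  -- strongly real non-involutions avoid H
  have hSRH : ∀ g : G, SR g → g ∉ H := by
    rintro g ⟨hg1, hg2, x, ⟨hx1, hx2⟩, hx⟩ hgH
    have hxinv : x⁻¹ = x := inv_eq_of_mul_eq_one_left hx2
    have hy2 : (x⁻¹ * g) * (x⁻¹ * g) = 1 := by
      rw [hxinv]
      calc x * g * (x * g) = (x * g * x⁻¹) * g := by rw [hxinv]; group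
        _ = 1 := by rw [hx]; group
    have hy1 : x⁻¹ * g ≠ 1 := by
      intro h1
      apply hg2
      have : g = x := by
        have := congrArg (fun w => x * w) h1
        simpa using this
      rw [this, hx2]
    have ho := Cfsg.Agent.S0883.result hZ hab h e hh he hodd hlt H hHa hHcard hHfix g hgH hg1 x
      (x⁻¹ * g) ((hinv_iff x).mpr (mem_invs.mpr ⟨hx1, hx2⟩))
      ((hinv_iff _).mpr (mem_invs.mpr ⟨hy1, hy2⟩)) (by group)
    have := (hinv_iff g).mp ho
    rw [mem_invs] at this
    exact hg2 this.2
  have hmono : Nat.card {C : ConjClasses G // ∀ g : G, ConjClasses.mk g = C → SR g} ≤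
      Nat.card {C : ConjClasses G // ∀ g : G, ConjClasses.mk g = C → g ∉ H} := by
    rw [Nat.card_eq_fintype_card, Nat.card_eq_fintype_card]
    apply Fintype.card_subtype_mono
    intro C hC g hg
    exact hSRH g (hC g hg)
  have hGpos : 0 < (h + 1) * h * e := by positivity
  rcases Nat.even_or_odd h with hev | hod
  · -- odd degree
    rw [if_pos hev] at hcnt
    have hnodd : Odd (Fintype.card Ω) := by rw [hh]; exact hev.add_one
    have hB : ∀ t ∈ invs G, ((invs G).filter (fun x => x * t = t * x)).card ≤ e := by
      intro t ht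
      have ht' := mem_invs.mp ht
      obtain ⟨c, hc, huniq⟩ := involution_existsUnique_fixed hnodd h3 ht'.1 ht'.2
      obtain ⟨d, hcd⟩ : ∃ d : Ω, c ≠ d := by
        by_cases hca : c = a
        · exact ⟨b, hca ▸ hab⟩
        · exact ⟨a, hca⟩
      have htcc : t ∈ invsMap (G := G) c c := mem_invsMap.mpr ⟨ht', hc⟩
      have hoddcd : Odd (Nat.card ↥(MulAction.stabilizer G c ⊓ MulAction.stabilizer G d : Subgroup G)) := by
        rw [card_stab2_eq h2 hab hcd]; exact hoddE
      obtain ⟨hcard, -⟩ := invsMap_self_odd h2 h3 hnodd hcd hoddcd htcc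
      rw [card_stab2_eq h2 hab hcd, he] at hcard
      rw [← hcard]
      apply Finset.card_le_card
      intro x hx
      rw [Finset.mem_filter, mem_invs] at hx
      rw [mem_invsMap]
      refine ⟨hx.1, ?_⟩
      apply huniq
      rw [← mul_smul, ← hx.2, mul_smul, hc]
    have key := sq_card_invs_le e he1 hB
    rw [hcnt, hG] at key
    set r := Nat.card {C : ConjClasses G // ∀ g : G, ConjClasses.mk g = C → SR g} with hr
    have h5 : (h + 1) * h * e * e ≤ (h + 1) * h * e * r := by nlinarith [key]
    exact (Nat.le_of_mul_le_mul_left h5 hGpos).trans hmono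
  · -- even degree
    have hev : ¬ Even h := Nat.not_even_iff_odd.mpr hod
    rw [if_neg hev] at hcnt
    have hneven : Even (Fintype.card Ω) := by rw [hh]; exact hod.add_one
    have hfpf : ∀ t : G, t ≠ 1 ∧ t * t = 1 → ∀ c : Ω, t • c ≠ c :=
      fun t ht c => fpf_of_even h2 hab hneven hoddE ht.1 ht.2 c
    -- the class of involutions
    have hcarrier : ∀ t ∈ invs G, Nat.card (ConjClasses.mk t).carrier = (invs G).card := by
      intro t ht
      rw [Nat.card_eq_fintype_card, ← Set.toFinset_card]
      congr 1
      ext g
      rw [Set.mem_toFinset, ConjClasses.mem_carrier_iff_mk_eq, ConjClasses.mk_eq_mk_iff_isConj]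
      constructor
      · intro hc
        obtain ⟨z, hz⟩ := isConj_iff.mp hc.symm
        have ht' := mem_invs.mp ht
        rw [mem_invs, ← hz]
        refine ⟨?_, ?_⟩
        · intro h1
          apply ht'.1
          have := congrArg (fun w => z⁻¹ * w * z) h1
          simpa [mul_assoc] using this
        · calc z * t * z⁻¹ * (z * t * z⁻¹) = z * (t * t) * z⁻¹ := by group
            _ = 1 := by rw [ht'.2]; group
      · intro hg
        exact hconj g t ((hinv_iff g).mpr hg) ((hinv_iff t).mpr ht)
    have hcent : ∀ t ∈ invs G, Nat.card (Subgroup.centralizer ({t} : Set G)) = h + 1 := by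
      intro t ht
      have h1 := Cfsg.Agent.Lib.Helper40.card_carrier_mul_card_centralizer t
      rw [hcarrier t ht, hcnt, hG] at h1
      have hpos : 0 < e * h := by positivity
      apply Nat.eq_of_mul_eq_mul_left hpos
      rw [h1]; ring
    have hB : ∀ t ∈ invs G, ((invs G).filter (fun x => x * t = t * x)).card ≤ h := by
      intro t ht
      have h1 : (insert (1 : G) ((invs G).filter (fun x => x * t = t * x))).card ≤ h + 1 := by
        rw [← hcent t ht, Nat.card_eq_fintype_card, Fintype.card_subtype]
        apply Finset.card_le_card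
        intro x hx
        rw [Finset.mem_insert] at hx
        simp only [Finset.mem_filter, Finset.mem_univ, true_and]
        rw [Subgroup.mem_centralizer_singleton_iff]
        rcases hx with rfl | hx
        · simp
        · exact (Finset.mem_filter.mp hx).2
      rw [Finset.card_insert_of_notMem] at h1
      · omega
      · intro h1'
        have := (Finset.mem_filter.mp h1').1
        rw [mem_invs] at this
        exact this.1 rfl
    have key := sq_card_invs_le h (by omega) hB
    rw [hcnt, hG] at key
    set r := Nat.card {C : ConjClasses G // ∀ g : G, ConjClasses.mk g = C → SR g} with hr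
    have hpos : 0 < e * h := by positivity
    have h5 : e * h * (e * h) ≤ e * h * (h + (h + 1) * r) := by nlinarith [key]
    have h6 : e * h ≤ h + (h + 1) * r := Nat.le_of_mul_le_mul_left h5 hpos
    have h7 : e ≤ r + 1 := by
      by_contra hcon
      push Not at hcon
      have h8 : (r + 2) * h ≤ e * h := Nat.mul_le_mul_right h hcon
      have h9 : h ≤ r := by nlinarith
      omega
    -- an involution and its class
    have h2dvd : 2 ∣ Nat.card G := by
      rw [hG]
      have : Even (h + 1) := hod.add_one
      exact Dvd.dvd.mul_right (Dvd.dvd.mul_right this.two_dvd _) _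
    obtain ⟨x₀, hx₀⟩ := exists_prime_orderOf_dvd_card' (G := G) 2 h2dvd
    have hx₀' := (hinv_iff x₀).mp hx₀
    have hdisj : Disjoint (fun C : ConjClasses G => ∀ g : G, ConjClasses.mk g = C → SR g)
        (fun C : ConjClasses G => C = ConjClasses.mk x₀) := by
      rw [Pi.disjoint_iff]
      intro C
      rw [Prop.disjoint_iff]
      rintro ⟨h1, h2'⟩
      have := h1 x₀ h2'.symm
      exact this.2.1 (mem_invs.mp hx₀').2
    have hle : Nat.card {C : ConjClasses G // (∀ g : G, ConjClasses.mk g = C → SR g) ∨
        C = ConjClasses.mk x₀} ≤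
        Nat.card {C : ConjClasses G // ∀ g : G, ConjClasses.mk g = C → g ∉ H} := by
      rw [Nat.card_eq_fintype_card, Nat.card_eq_fintype_card]
      apply Fintype.card_subtype_mono
      rintro C (hC | hC) g hg
      · exact hSRH g (hC g hg)
      · intro hgH
        have hgc : IsConj g x₀ := ConjClasses.mk_eq_mk_iff_isConj.mp (hg.trans hC)
        obtain ⟨z, hz⟩ := isConj_iff.mp hgc.symm
        have ht' := mem_invs.mp hx₀'
        have hginv : g ≠ 1 ∧ g * g = 1 := by
          rw [← hz]
          refine ⟨?_, ?_⟩
          · intro h1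
            apply ht'.1
            have := congrArg (fun w => z⁻¹ * w * z) h1
            simpa [mul_assoc] using this
          · calc z * x₀ * z⁻¹ * (z * x₀ * z⁻¹) = z * (x₀ * x₀) * z⁻¹ := by group
              _ = 1 := by rw [ht'.2]; group
        exact hfpf g hginv a (hHa hgH)
    have hsum : Nat.card {C : ConjClasses G // (∀ g : G, ConjClasses.mk g = C → SR g) ∨
        C = ConjClasses.mk x₀} = r + 1 := by
      rw [Nat.card_eq_fintype_card, Fintype.card_subtype_or_disjoint _ _ hdisj, hr,
        Nat.card_eq_fintype_card, Fintype.card_subtype_eq]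
    omega

end Cfsg.Agent.S0884
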