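import Mathlib
import Cfsg.Statements.S0198
import Cfsg.Agent.Lib.Helper78.CharMore

set_option autoImplicit false
open Cfsg

namespace Cfsg.Agent.S0198

theorem int_sq_eq_one {z : ℤ} (h : z ^ 2 = 1) : z = 1 ∨ z = -1 := by
  have : (z - 1) * (z + 1) = 0 := by ring_nf; linarith
  rcases mul_eq_zero.mp this with h | h
  · left; linarith
  · right; linarith

theorem int_sq_le_two {z : ℤ} (hz : z ≠ 0) (h : z ^ 2 ≤ 2) : z ^ 2 = 1 := by
  have h1 : -1 ≤ z := by nlinarith
  have h2 : z ≤ 1 := by nlinarith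
  interval_cases z
  · norm_num
  · exact absurd rfl hz
  · norm_num

/-- An integer vector of square-norm 2 orthogonal to a positive vector is `e_a - e_b`. -/
theorem two_sq {ι : Type*} [Fintype ι] [DecidableEq ι] (z d : ι → ℤ) (hd : ∀ i, 0 < d i)
    (h2 : ∑ i, z i ^ 2 = 2) (h0 : ∑ i, z i * d i = 0) :
    ∃ a b, a ≠ b ∧ z a = 1 ∧ z b = -1 ∧ ∀ k, k ≠ a → k ≠ b → z k = 0 := by
  -- first nonzero entry
  have hex : ∃ a, z a ≠ 0 := by
    by_contra h
    push Not at h
    simp [h] at h2
  obtain ⟨a, ha⟩ := hex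
  have hsq : ∀ i, 0 ≤ z i ^ 2 := fun i => sq_nonneg _
  have ha2 : z a ^ 2 ≤ 2 := by
    rw [← h2]
    exact Finset.single_le_sum (fun i _ => hsq i) (Finset.mem_univ a)
  have ha1 : z a ^ 2 = 1 := int_sq_le_two ha ha2
  -- the rest sums to 1
  have hrest : ∑ i ∈ Finset.univ.erase a, z i ^ 2 = 1 := by
    have := Finset.add_sum_erase Finset.univ (fun i => z i ^ 2) (Finset.mem_univ a)
    omega
  have hex2 : ∃ b ∈ Finset.univ.erase a, z b ≠ 0 := by
    by_contra h
    push Not at h
    rw [Finset.sum_eq_zero (fun i hi => by rw [h i hi]; ring)] at hrest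
    omega
  obtain ⟨b, hb, hbz⟩ := hex2
  have hba : b ≠ a := (Finset.mem_erase.mp hb).1
  have hb2 : z b ^ 2 ≤ 1 := by
    rw [← hrest]
    exact Finset.single_le_sum (fun i _ => hsq i) hb
  have hb1 : z b ^ 2 = 1 := int_sq_le_two hbz (by omega)
  have hrest2 : ∑ i ∈ (Finset.univ.erase a).erase b, z i ^ 2 = 0 := by
    have := Finset.add_sum_erase (Finset.univ.erase a) (fun i => z i ^ 2) hb
    omega
  have hzero : ∀ k, k ≠ a → k ≠ b → z k = 0 := by
    intro k hka hkb
    have hk : k ∈ (Finset.univ.erase a).erase b :=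
      Finset.mem_erase.mpr ⟨hkb, Finset.mem_erase.mpr ⟨hka, Finset.mem_univ k⟩⟩
    have := (Finset.sum_eq_zero_iff_of_nonneg (fun i _ => hsq i)).mp hrest2 k hk
    exact pow_eq_zero_iff (two_ne_zero) |>.mp this
  -- the linear relation
  have hlin : z a * d a + z b * d b = 0 := by
    have h1 := Finset.add_sum_erase Finset.univ (fun i => z i * d i) (Finset.mem_univ a)
    have h2' := Finset.add_sum_erase (Finset.univ.erase a) (fun i => z i * d i) hb
    have h3 : ∑ i ∈ (Finset.univ.erase a).erase b, z i * d i = 0 := by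
      apply Finset.sum_eq_zero
      intro k hk
      have hkb : k ≠ b := (Finset.mem_erase.mp hk).1
      have hka : k ≠ a := (Finset.mem_erase.mp (Finset.mem_erase.mp hk).2).1
      rw [hzero k hka hkb, zero_mul]
    rw [h3, add_zero] at h2'
    rw [← h2', h0] at h1
    exact h1
  have hda := hd a
  have hdb := hd b
  rcases int_sq_eq_one ha1 with h1 | h1 <;> rcases int_sq_eq_one hb1 with h3 | h3
  · rw [h1, h3] at hlin; omega
  · exact ⟨a, b, hba.symm, h1, h3, hzero⟩
  · exact ⟨b, a, hba, h3, h1, fun k hkb hka => hzero k hka hkb⟩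
  · rw [h1, h3] at hlin; omega


open Cfsg.Agent.Lib.Helper78
open scoped ComplexConjugate

section chars

variable {G : Type*} [Group G] [Fintype G]

theorem classInner_sub_left' (f g ψ : G → ℂ) :
    Cfsg.classInner (f - g) ψ = Cfsg.classInner f ψ - Cfsg.classInner g ψ := by
  unfold Cfsg.classInner
  simp only [Pi.sub_apply, sub_mul, Finset.sum_sub_distrib, mul_sub]

theorem isClassFunction_of_gen {τ : G → ℂ} (h : Cfsg.IsGeneralizedCharacter G τ) :
    Cfsg.IsClassFunction G τ := by
  obtain ⟨χ, ψ, hχ, hψ, rfl⟩ := h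
  exact isClassFunction_sub (IsCharacter.isClassFunction hχ) (IsCharacter.isClassFunction hψ)

theorem exists_int_coeff {τ : G → ℂ} (h : Cfsg.IsGeneralizedCharacter G τ)
    (φ : Cfsg.IrrCharacter G) : ∃ z : ℤ, Cfsg.classInner τ (φ : G → ℂ) = z := by
  obtain ⟨χ, ψ, hχ, hψ, rfl⟩ := h
  obtain ⟨m, hm⟩ := IsCharacter.exists_nat_classInner hχ φ
  obtain ⟨m', hm'⟩ := IsCharacter.exists_nat_classInner hψ φ
  refine ⟨(m : ℤ) - m', ?_⟩
  rw [classInner_sub_left', hm, hm']
  push_cast; ring

end chars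


/-- The isometry lemma behind exceptional characters. Let τ be a family of generalized characters of a finite group G indexed by Fin n, with τ i₀ = 0, every τ i vanishing at the identity, and inner products ⟨τ i, τ j⟩ = 2 if i = j and 1 otherwise for i, j ≠ i₀. Then there are a sign ε and pairwise distinct irreducible characters μ i with τ i = ε (μ i − μ i₀) for all i. -/
theorem result {G : Type*} [Group G] [Fintype G] (n : ℕ) (i₀ : Fin n) (τ : Fin n → (G → ℂ)) (h0 : τ i₀ = 0) (hgen : ∀ i, Cfsg.IsGeneralizedCharacter G (τ i)) (hone : ∀ i, τ i 1 = 0) (hgram : ∀ i j, i ≠ i₀ → j ≠ i₀ → Cfsg.classInner (τ i) (τ j) = if i = j then 2 else 1) : ∃ ε : ℂ, (ε = 1 ∨ ε = -1) ∧ ∃ μ : Fin n → (G → ℂ), (∀ i, Cfsg.IsIrrCharacter G (μ i)) ∧ Function.Injective μ ∧ ∀ i, τ i = ε • (μ i - μ i₀) := by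
  classical
  -- integer coefficients
  choose z hz using fun i φ => exists_int_coeff (hgen i) φ
  have hexp : ∀ i, τ i = ∑ φ : Cfsg.IrrCharacter G, ((z i φ : ℤ) : ℂ) • (φ : G → ℂ) := by
    intro i
    conv_lhs => rw [classFunction_eq_sum_irr (isClassFunction_of_gen (hgen i))]
    exact Finset.sum_congr rfl (fun φ _ => by rw [hz i φ])
  have hinner : ∀ i j, Cfsg.classInner (τ i) (τ j) =
      ((∑ φ : Cfsg.IrrCharacter G, z i φ * z j φ : ℤ) : ℂ) := by
    intro i j
    rw [classInner_eq_sum_mul_conj (τ j) (isClassFunction_of_gen (hgen i))]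
    push_cast
    apply Finset.sum_congr rfl
    intro φ _
    rw [hz i φ, hz j φ]
    simp
  -- degrees
  let d : Cfsg.IrrCharacter G → ℤ := fun φ => (Cfsg.charDegree (φ : G → ℂ) : ℤ)
  have hd : ∀ φ, 0 < d φ := fun φ => by
    have := IsIrrCharacter.charDegree_pos φ.2
    show (0 : ℤ) < (Cfsg.charDegree (φ : G → ℂ) : ℤ)
    exact_mod_cast this
  have hval1 : ∀ i, ∑ φ : Cfsg.IrrCharacter G, z i φ * d φ = 0 := by
    intro i
    have h1 := congrFun (hexp i) 1
    rw [hone i] at h1
    simp only [Finset.sum_apply, Pi.smul_apply, smul_eq_mul] at h1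
    have h2 : ∑ φ : Cfsg.IrrCharacter G, ((z i φ : ℤ) : ℂ) * (φ : G → ℂ) 1 =
        ((∑ φ : Cfsg.IrrCharacter G, z i φ * d φ : ℤ) : ℂ) := by
      push_cast
      apply Finset.sum_congr rfl
      intro φ _
      rw [IsCharacter.apply_one_eq_charDegree (IsIrrCharacter.isCharacter φ.2)]
      simp [d]
    rw [h2] at h1
    exact_mod_cast h1.symm
  have key : ∀ i, i ≠ i₀ → ∃ a b : Cfsg.IrrCharacter G, a ≠ b ∧ z i a = 1 ∧ z i b = -1 ∧
      ∀ k, k ≠ a → k ≠ b → z i k = 0 := by
    intro i hi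
    apply two_sq (z i) d hd _ (hval1 i)
    have := hgram i i hi hi
    rw [if_pos rfl, hinner] at this
    have h2 : (∑ φ : Cfsg.IrrCharacter G, z i φ * z i φ : ℤ) = 2 := by exact_mod_cast this
    rw [← h2]
    apply Finset.sum_congr rfl
    intro φ _
    ring
  haveI : Nonempty (Cfsg.IrrCharacter G) := ⟨⟨_, isIrrCharacter_one⟩⟩
  choose! a b hab ha hb hzero using key
  have hzi : ∀ i, i ≠ i₀ → ∀ φ, z i φ = (if φ = a i then 1 else 0) - (if φ = b i then 1 else 0) := by
    intro i hi φ
    by_cases h1 : φ = a i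
    · have h2 : φ ≠ b i := fun h => hab i hi (h1.symm.trans h)
      rw [if_pos h1, if_neg h2, h1, ha i hi]; ring
    · by_cases h2 : φ = b i
      · rw [if_neg h1, if_pos h2, h2, hb i hi]; ring
      · rw [if_neg h1, if_neg h2, hzero i hi φ h1 h2]; ring
  have hτ : ∀ i, i ≠ i₀ → τ i = (a i : G → ℂ) - (b i : G → ℂ) := by
    intro i hi
    rw [hexp i]
    simp_rw [hzi i hi]
    push_cast
    simp only [sub_smul, Finset.sum_sub_distrib, ite_smul, one_smul, zero_smul,
      Finset.sum_ite_eq', Finset.mem_univ, if_true]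
  have hij : ∀ i j, i ≠ i₀ → j ≠ i₀ → i ≠ j → z j (a i) - z j (b i) = 1 := by
    intro i j hi hj hne
    have := hgram i j hi hj
    rw [if_neg hne, hinner] at this
    have h2 : (∑ φ : Cfsg.IrrCharacter G, z i φ * z j φ : ℤ) = 1 := by exact_mod_cast this
    rw [← h2]
    simp_rw [hzi i hi]
    simp only [sub_mul, Finset.sum_sub_distrib, ite_mul, one_mul, zero_mul,
      Finset.sum_ite_eq', Finset.mem_univ, if_true]
  have hxor : ∀ i j, i ≠ i₀ → j ≠ i₀ → i ≠ j →
      (a i = a j ∧ b i ≠ b j) ∨ (a i ≠ a j ∧ b i = b j) := by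
    intro i j hi hj hne
    have h := hij i j hi hj hne
    rw [hzi j hj (a i), hzi j hj (b i)] at h
    have hi' := hab i hi
    have hj' := hab j hj
    by_cases h1 : a i = a j <;> by_cases h2 : b i = b j
    · exfalso
      have h3 : a i ≠ b j := fun h => hj' (h1.symm.trans h)
      have h4 : b i ≠ a j := fun h => hj' (h.symm.trans h2)
      rw [if_pos h1, if_neg h3, if_neg h4, if_pos h2] at h
      omega
    · exact Or.inl ⟨h1, h2⟩
    · exact Or.inr ⟨h1, h2⟩
    · exfalso
      rw [if_neg h1, if_neg h2] at h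
      split_ifs at h <;> omega
  have hAB : (∀ i j, i ≠ i₀ → j ≠ i₀ → a i = a j) ∨ (∀ i j, i ≠ i₀ → j ≠ i₀ → b i = b j) := by
    by_cases hA : ∃ i j, i ≠ i₀ ∧ j ≠ i₀ ∧ i ≠ j ∧ a i = a j
    · obtain ⟨i, j, hi, hj, hne, haij⟩ := hA
      left
      have hall : ∀ k, k ≠ i₀ → a k = a i := by
        intro k hk
        by_cases hki : k = i
        · rw [hki]
        by_cases hkj : k = j
        · rw [hkj, haij]
        rcases hxor i k hi hk (Ne.symm hki) with h1 | h1
        · exact h1.1.symm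
        · rcases hxor j k hj hk (Ne.symm hkj) with h2 | h2
          · rw [← h2.1, haij]
          · exfalso
            rcases hxor i j hi hj hne with h3 | h3
            · exact h3.2 (h1.2.trans h2.2.symm)
            · exact h3.1 haij
      intro k l hk hl
      rw [hall k hk, hall l hl]
    · right
      push Not at hA
      intro i j hi hj
      by_cases hne : i = j
      · rw [hne]
      rcases hxor i j hi hj hne with h1 | h1
      · exact absurd h1.1 (hA i j hi hj hne)
      · exact h1.2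
  rcases hAB with hA | hB
  · -- common positive constituent
    let a₀ : Cfsg.IrrCharacter G :=
      if h : ∃ i, i ≠ i₀ then a (Classical.choose h) else ⟨_, isIrrCharacter_one⟩
    have ha₀ : ∀ i, i ≠ i₀ → a i = a₀ := by
      intro i hi
      have hex : ∃ i, i ≠ i₀ := ⟨i, hi⟩
      simp only [a₀, dif_pos hex]
      exact hA i _ hi (Classical.choose_spec hex)
    let μ' : Fin n → Cfsg.IrrCharacter G := fun i => if i = i₀ then a₀ else b i
    have hμ0 : μ' i₀ = a₀ := by simp [μ']
    have hμi : ∀ i, i ≠ i₀ → μ' i = b i := fun i hi => by simp [μ', hi]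
    refine ⟨-1, Or.inr rfl, fun i => (μ' i : G → ℂ), fun i => (μ' i).2, ?_, ?_⟩
    · intro i j hij'
      have hsub : μ' i = μ' j := Subtype.ext hij'
      by_cases hi : i = i₀ <;> by_cases hj : j = i₀
      · rw [hi, hj]
      · exfalso
        rw [hi, hμ0, hμi j hj, ← ha₀ j hj] at hsub
        exact hab j hj hsub
      · exfalso
        rw [hj, hμ0, hμi i hi, ← ha₀ i hi] at hsub
        exact hab i hi hsub.symm
      · by_contra hne
        rw [hμi i hi, hμi j hj] at hsub
        rcases hxor i j hi hj hne with h1 | h1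
        · exact h1.2 hsub
        · exact h1.1 ((ha₀ i hi).trans (ha₀ j hj).symm)
    · intro i
      show τ i = (-1 : ℂ) • ((μ' i : G → ℂ) - (μ' i₀ : G → ℂ))
      by_cases hi : i = i₀
      · rw [hi, h0]; simp
      · rw [hτ i hi, hμi i hi, hμ0, ha₀ i hi]
        simp
  · -- common negative constituent
    let b₀ : Cfsg.IrrCharacter G :=
      if h : ∃ i, i ≠ i₀ then b (Classical.choose h) else ⟨_, isIrrCharacter_one⟩
    have hb₀ : ∀ i, i ≠ i₀ → b i = b₀ := by
      intro i hi
      have hex : ∃ i, i ≠ i₀ := ⟨i, hi⟩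
      simp only [b₀, dif_pos hex]
      exact hB i _ hi (Classical.choose_spec hex)
    let μ' : Fin n → Cfsg.IrrCharacter G := fun i => if i = i₀ then b₀ else a i
    have hμ0 : μ' i₀ = b₀ := by simp [μ']
    have hμi : ∀ i, i ≠ i₀ → μ' i = a i := fun i hi => by simp [μ', hi]
    refine ⟨1, Or.inl rfl, fun i => (μ' i : G → ℂ), fun i => (μ' i).2, ?_, ?_⟩
    · intro i j hij'
      have hsub : μ' i = μ' j := Subtype.ext hij'
      by_cases hi : i = i₀ <;> by_cases hj : j = i₀
      · rw [hi, hj]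
      · exfalso
        rw [hi, hμ0, hμi j hj, ← hb₀ j hj] at hsub
        exact hab j hj hsub.symm
      · exfalso
        rw [hj, hμ0, hμi i hi, ← hb₀ i hi] at hsub
        exact hab i hi hsub
      · by_contra hne
        rw [hμi i hi, hμi j hj] at hsub
        rcases hxor i j hi hj hne with h1 | h1
        · exact h1.2 ((hb₀ i hi).trans (hb₀ j hj).symm)
        · exact h1.1 hsub
    · intro i
      show τ i = (1 : ℂ) • ((μ' i : G → ℂ) - (μ' i₀ : G → ℂ))
      by_cases hi : i = i₀
      · rw [hi, h0]; simp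
      · rw [hτ i hi, hμi i hi, hμ0, hb₀ i hi]
        simp

end Cfsg.Agent.S0198
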