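import Cfsg.Statements.S0851
import Cfsg.Agent.Lib.Helper74.TIFNStar
import Cfsg.Agent.S0198

set_option autoImplicit false
open Cfsg

namespace Cfsg.Agent.S0851

open Cfsg.Agent.Lib.Helper74 Cfsg.Agent.Lib.Helper78 Cfsg.Agent.Lib.Helper75

theorem indFun_sub_aux {G : Type*} [Group G] [Fintype G] (H : Subgroup G) (f g : H → ℂ) :
    indFun H (f - g) = indFun H f - indFun H g := by
  have h : f - g = f + (-1 : ℂ) • g := by
    funext x; simp [sub_eq_add_neg]
  rw [h, Cfsg.Agent.Lib.Helper74.indFun_add, Cfsg.Agent.Lib.Helper74.indFun_smul]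
  funext x
  simp [sub_eq_add_neg]

/-- Let K be a subgroup of the finite group G that meets each conjugate by an element outside its normalizer N trivially, is properly contained in N, and contains the centralizer of each of its non-identity elements (a T.I. subgroup with Frobenius normalizer). Suppose K is abelian, let e be the index of K in N, and call an irreducible character of N relevant when it takes at some element of K a value different from its degree. Then either there is exactly one relevant character and K is an elementary abelian p-group of order e + 1 for some prime p, or there are a sign ε and an injective map f from the relevant characters to the irreducible characters of G such that inducing χ - ξ to G gives ε (f χ - f ξ) for all relevant χ and ξ. -/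
theorem result {G : Type*} [Group G] [Fintype G] (K : Subgroup G) (hTI : ∀ g : G, g ∉ Subgroup.normalizer (K : Set G) → ∀ k ∈ K, g * k * g⁻¹ ∈ K → k = 1) (hlt : K < Subgroup.normalizer (K : Set G)) (hC : ∀ k ∈ K, k ≠ 1 → Subgroup.centralizer ({k} : Set G) ≤ K) (hab : ∀ a ∈ K, ∀ b ∈ K, a * b = b * a) : (Nat.card {χ : Cfsg.IrrCharacter (Subgroup.normalizer (K : Set G)) // ∃ k : Subgroup.normalizer (K : Set G), (k : G) ∈ K ∧ (χ : ↥(Subgroup.normalizer (K : Set G)) → ℂ) k ≠ (χ : ↥(Subgroup.normalizer (K : Set G)) → ℂ) 1} = 1 ∧ ∃ p : ℕ, p.Prime ∧ Cfsg.IsElementaryAbelian p K ∧ Nat.card K = (K.subgroupOf (Subgroup.normalizer (K : Set G))).index + 1) ∨ ∃ (ε : ℂ) (f : {χ : Cfsg.IrrCharacter (Subgroup.normalizer (K : Set G)) // ∃ k : Subgroup.normalizer (K : Set G), (k : G) ∈ K ∧ (χ : ↥(Subgroup.normalizer (K : Set G)) → ℂ) k ≠ (χ : ↥(Subgroup.normalizer (K : Set G)) → ℂ) 1} → Cfsg.IrrCharacter G), (ε = 1 ∨ ε = -1) ∧ Function.Injective f ∧ ∀ χ ξ, Cfsg.indFun (Subgroup.normalizer (K :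 Set G)) ((χ.1 : ↥(Subgroup.normalizer (K : Set G)) → ℂ) - (ξ.1 : ↥(Subgroup.normalizer (K : Set G)) → ℂ)) = ε • ((f χ : G → ℂ) - (f ξ : G → ℂ)) := by
  classical
  right
  haveI : Fintype ↥(Subgroup.normalizer (K : Set G)) := Fintype.ofFinite _
  haveI : Fintype ↥(K.subgroupOf (Subgroup.normalizer (K : Set G))) := Fintype.ofFinite _
  haveI : IsMulCommutative ↥(K.subgroupOf (Subgroup.normalizer (K : Set G))) := by
    refine ⟨⟨fun a b => ?_⟩⟩
    apply Subtype.ext
    apply Subtype.ext
    exact hab _ (Subgroup.mem_subgroupOf.mp a.2) _ (Subgroup.mem_subgroupOf.mp b.2)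
  -- the type of relevant characters
  have hmem : ∀ χ : {χ : Cfsg.IrrCharacter (Subgroup.normalizer (K : Set G)) //
      ∃ k : Subgroup.normalizer (K : Set G), (k : G) ∈ K ∧
        (χ : ↥(Subgroup.normalizer (K : Set G)) → ℂ) k ≠
          (χ : ↥(Subgroup.normalizer (K : Set G)) → ℂ) 1},
      (χ.1 : ↥(Subgroup.normalizer (K : Set G)) → ℂ) ∈ tifnS K := fun χ => ⟨χ.1.2, χ.2⟩
  -- all relevant characters have degree `e`
  have hdeg : ∀ χ : ↥(Subgroup.normalizer (K : Set G)) → ℂ, χ ∈ tifnS K →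
      χ 1 = ((K.subgroupOf (Subgroup.normalizer (K : Set G))).index : ℂ) := by
    intro χ hχ
    obtain ⟨φ, hφ, rfl⟩ := tifnS_exists_eq_indFun hC hχ
    rw [indFun_one, IsIrrCharacter.map_one_of_comm hφ, mul_one]
  by_cases hempty : IsEmpty {χ : Cfsg.IrrCharacter (Subgroup.normalizer (K : Set G)) //
      ∃ k : Subgroup.normalizer (K : Set G), (k : G) ∈ K ∧
        (χ : ↥(Subgroup.normalizer (K : Set G)) → ℂ) k ≠
          (χ : ↥(Subgroup.normalizer (K : Set G)) → ℂ) 1}
  · exact ⟨1, fun χ => (hempty.false χ).elim, Or.inl rfl, fun χ => (hempty.false χ).elim,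
      fun χ => (hempty.false χ).elim⟩
  · rw [not_isEmpty_iff] at hempty
    obtain ⟨χ₀⟩ := hempty
    haveI : Fintype {χ : Cfsg.IrrCharacter (Subgroup.normalizer (K : Set G)) //
      ∃ k : Subgroup.normalizer (K : Set G), (k : G) ∈ K ∧
        (χ : ↥(Subgroup.normalizer (K : Set G)) → ℂ) k ≠
          (χ : ↥(Subgroup.normalizer (K : Set G)) → ℂ) 1} := Fintype.ofFinite _
    let eqv := Fintype.equivFin {χ : Cfsg.IrrCharacter (Subgroup.normalizer (K : Set G)) //
      ∃ k : Subgroup.normalizer (K : Set G), (k : G) ∈ K ∧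
        (χ : ↥(Subgroup.normalizer (K : Set G)) → ℂ) k ≠
          (χ : ↥(Subgroup.normalizer (K : Set G)) → ℂ) 1}
    set i₀ := eqv χ₀ with hi₀
    let τ : Fin _ → (G → ℂ) := fun i => indFun (Subgroup.normalizer (K : Set G))
      (((eqv.symm i).1 : ↥(Subgroup.normalizer (K : Set G)) → ℂ) -
        (χ₀.1 : ↥(Subgroup.normalizer (K : Set G)) → ℂ))
    have hτ : ∀ χ, τ (eqv χ) = indFun (Subgroup.normalizer (K : Set G))
      ((χ.1 : ↥(Subgroup.normalizer (K : Set G)) → ℂ) -
        (χ₀.1 : ↥(Subgroup.normalizer (K : Set G)) → ℂ)) := by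
      intro χ
      show indFun _ _ = _
      rw [Equiv.symm_apply_apply]
    have h0 : τ i₀ = 0 := by
      rw [hi₀, hτ, sub_self]
      exact Cfsg.Agent.Lib.Helper74.indFun_zero _
    have hgen : ∀ i, IsGeneralizedCharacter G (τ i) := by
      intro i
      refine ⟨indFun _ ((eqv.symm i).1 : ↥(Subgroup.normalizer (K : Set G)) → ℂ),
        indFun _ (χ₀.1 : ↥(Subgroup.normalizer (K : Set G)) → ℂ),
        Cfsg.Agent.S0148.result _ _ (IsIrrCharacter.isCharacter (eqv.symm i).1.2),
        Cfsg.Agent.S0148.result _ _ (IsIrrCharacter.isCharacter χ₀.1.2), ?_⟩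
      exact indFun_sub_aux _ _ _
    have hone : ∀ i, τ i 1 = 0 := by
      intro i
      show indFun _ _ 1 = 0
      rw [indFun_one, Pi.sub_apply, hdeg _ (hmem (eqv.symm i)), hdeg _ (hmem χ₀), sub_self,
        mul_zero]
    have hvan : ∀ χ ξ : {χ : Cfsg.IrrCharacter (Subgroup.normalizer (K : Set G)) //
        ∃ k : Subgroup.normalizer (K : Set G), (k : G) ∈ K ∧
          (χ : ↥(Subgroup.normalizer (K : Set G)) → ℂ) k ≠
            (χ : ↥(Subgroup.normalizer (K : Set G)) → ℂ) 1},
        ∀ x : ↥(Subgroup.normalizer (K : Set G)), (x : G) ∉ (K : Set G) →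
        ((χ.1 : ↥(Subgroup.normalizer (K : Set G)) → ℂ) -
          (ξ.1 : ↥(Subgroup.normalizer (K : Set G)) → ℂ)) x = 0 := by
      intro χ ξ x hx
      rw [Pi.sub_apply, tifnS_vanish hC (hmem χ) x hx, tifnS_vanish hC (hmem ξ) x hx, sub_self]
    have hgram : ∀ i j, i ≠ i₀ → j ≠ i₀ →
        classInner (τ i) (τ j) = if i = j then 2 else 1 := by
      intro i j hi hj
      have hi' : eqv.symm i ≠ χ₀ := fun h => hi (by rw [hi₀, ← h, Equiv.apply_symm_apply])
      have hj' : eqv.symm j ≠ χ₀ := fun h => hj (by rw [hi₀, ← h, Equiv.apply_symm_apply])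
      show classInner (indFun _ _) (indFun _ _) = _
      rw [Cfsg.Agent.Lib.Helper3.classInner_indFun_TI (K : Set G) hTI _ _
        (isClassFunction_sub (tifnS_isClassFunction (hmem (eqv.symm j)))
          (tifnS_isClassFunction (hmem χ₀)))
        (hvan _ _) (hvan _ _)
        (by rw [Pi.sub_apply, hdeg _ (hmem (eqv.symm i)), hdeg _ (hmem χ₀), sub_self])]
      rw [Cfsg.Agent.Lib.Helper26.classInner_sub_left, Cfsg.Agent.Lib.Helper26.classInner_sub_right,
        Cfsg.Agent.Lib.Helper26.classInner_sub_right,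
        classInner_irr (eqv.symm i).1.2 (eqv.symm j).1.2,
        classInner_irr_ne (eqv.symm i).1.2 χ₀.1.2 (fun h => hi' (Subtype.ext (Subtype.ext h))),
        classInner_irr_ne χ₀.1.2 (eqv.symm j).1.2
          (fun h => hj' (Subtype.ext (Subtype.ext h.symm))),
        classInner_irr_self χ₀.1.2]
      by_cases hij : i = j
      · rw [if_pos hij, if_pos (by rw [hij])]
        norm_num
      · rw [if_neg hij, if_neg (fun h => hij (eqv.symm.injective (Subtype.ext (Subtype.ext h))))]
        norm_num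
    obtain ⟨ε, hε, μ, hμirr, hμinj, hμ⟩ := Cfsg.Agent.S0198.result _ i₀ τ h0 hgen hone hgram
    refine ⟨ε, fun χ => ⟨μ (eqv χ), hμirr _⟩, hε, ?_, ?_⟩
    · intro χ ξ h
      apply eqv.injective
      apply hμinj
      exact congrArg Subtype.val h
    · intro χ ξ
      have h1 : ((χ.1 : ↥(Subgroup.normalizer (K : Set G)) → ℂ) -
          (ξ.1 : ↥(Subgroup.normalizer (K : Set G)) → ℂ)) =
          ((χ.1 : ↥(Subgroup.normalizer (K : Set G)) → ℂ) -
            (χ₀.1 : ↥(Subgroup.normalizer (K : Set G)) → ℂ)) -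
          ((ξ.1 : ↥(Subgroup.normalizer (K : Set G)) → ℂ) -
            (χ₀.1 : ↥(Subgroup.normalizer (K : Set G)) → ℂ)) := by
        abel
      rw [h1, indFun_sub_aux, ← hτ χ, ← hτ ξ, hμ (eqv χ), hμ (eqv ξ)]
      show _ = ε • (μ (eqv χ) - μ (eqv ξ))
      rw [← smul_sub]
      congr 1
      abel

end Cfsg.Agent.S0851
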