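import Cfsg.Statements.S1535
import Mathlib
import Cfsg.Agent.Lib.Helper25.FeitFrob
import Cfsg.Agent.Lib.Helper25.CohCentral
import Cfsg.Agent.S1520

set_option autoImplicit false
open Cfsg

namespace Cfsg.Agent.S1535

open Cfsg.Agent.Lib.Helper25.CohDescent Cfsg.Agent.Lib.Helper25.FrobKernel
  Cfsg.Agent.Lib.Helper25.FeitFrob Cfsg.Agent.Lib.Helper26 Cfsg.Agent.Lib.Helper78
open scoped commutatorElement

section Aux

universe u

variable {N : Type u} [Group N]

theorem comm_mem {A B Y : Subgroup N} (h : ⁅A, B⁆ ≤ Y) :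
    ∀ x ∈ A, ∀ n ∈ B, x * n * x⁻¹ * n⁻¹ ∈ Y := by
  intro x hx n hn
  apply h
  have := Subgroup.commutator_mem_commutator hx hn
  rwa [commutatorElement_def] at this

/-- `[H : X] ≥ [H : Y]` for `X ≤ Y ≤ H` -/
theorem relIndex_le_of_le [Finite N] {X Y H : Subgroup N} (hXY : X ≤ Y) (hYH : Y ≤ H) :
    Y.relIndex H ≤ X.relIndex H := by
  rw [← Subgroup.relIndex_mul_relIndex X Y H hXY hYH]
  have : 1 ≤ X.relIndex Y :=
    Nat.one_le_iff_ne_zero.mpr (Subgroup.index_ne_zero_of_finite (H := X.subgroupOf Y))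
  exact Nat.le_mul_of_pos_left _ this

end Aux

/-- Let N be a finite group with a proper nontrivial normal subgroup H such that every element commuting with a non-identity element of H lies in H (N is a Frobenius group with kernel H); let e be the index of H and suppose Nat.card H ≠ e + 1. Let S be the set of irreducible characters χ of N with χ h ≠ χ 1 for some h ∈ H, and τ a linear isometry on the integer combinations of S vanishing at 1, with values virtual characters of a finite group G vanishing at 1. Then (S, N minus 1, τ) is coherent, or there is a prime p with Nat.card H a power of p, H non-abelian and [H : [H,H]] ≤ 4e² + 1. -/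
theorem result {N : Type*} [Group N] [Fintype N] {G : Type*} [Group G] [Fintype G] (H : Subgroup N) [H.Normal] (hH1 : H ≠ ⊥) (hH2 : H ≠ ⊤) (hC : ∀ h ∈ H, h ≠ 1 → Subgroup.centralizer ({h} : Set N) ≤ H) (he : Nat.card H ≠ H.index + 1) (τ : (N → ℂ) → (G → ℂ)) (hτ : Cfsg.IsLinearIsometryOn (Cfsg.zspanOn {χ : N → ℂ | Cfsg.IsIrrCharacter N χ ∧ ∃ h ∈ H, χ h ≠ χ 1} {1}ᶜ) τ) (hτ1 : ∀ α ∈ Cfsg.zspanOn {χ : N → ℂ | Cfsg.IsIrrCharacter N χ ∧ ∃ h ∈ H, χ h ≠ χ 1} {1}ᶜ, τ α 1 = 0) : Cfsg.IsCoherent {χ : N → ℂ | Cfsg.IsIrrCharacter N χ ∧ ∃ h ∈ H, χ h ≠ χ 1} {1}ᶜ τ ∨ ∃ p : ℕ, p.Prime ∧ (∃ m : ℕ, Nat.card H = p ^ m) ∧ ¬ IsMulCommutative H ∧ (⁅H, H⁆.subgroupOf H).index ≤ 4 * H.index ^ 2 + 1 := by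
  classical
  have hirrθ : ∀ θ : H → ℂ, Cfsg.IsIrrCharacter H θ → θ ≠ (fun _ => 1) →
      Cfsg.IsIrrCharacter N (Cfsg.indFun H θ) := fun θ hθ h1 =>
    Cfsg.Agent.Lib.Helper74.isIrrCharacter_indFun_of_centralizer_le H hC hθ h1
  -- the set of the statement is `S = inducedIrrAbove H ⊥`
  have hempty : Cfsg.inducedIrrAbove H H = ∅ := by
    rw [Set.eq_empty_iff_forall_notMem]
    rintro φ ⟨θ, hθ, h1, h2, -⟩
    apply h1
    have hconst : ∀ a : H, θ a = θ 1 := fun a => h2 a a.2
    have hinner : Cfsg.classInner θ (fun _ => (1 : ℂ)) = θ 1 := by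
      unfold Cfsg.classInner
      simp only [map_one, mul_one, hconst, Finset.sum_const, Finset.card_univ, nsmul_eq_mul]
      rw [Nat.card_eq_fintype_card, ← mul_assoc, inv_mul_cancel₀, one_mul]
      exact_mod_cast Fintype.card_ne_zero
    rw [classInner_irr hθ isIrrCharacter_one] at hinner
    by_contra hne
    rw [if_neg hne] at hinner
    obtain ⟨n, hn, hn1⟩ := (irrFacts H).deg_pos θ hθ
    rw [hn1] at hinner
    have : (n : ℂ) ≠ 0 := by exact_mod_cast hn.ne'
    exact this hinner.symm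
  have hSeq : {χ : N → ℂ | Cfsg.IsIrrCharacter N χ ∧ ∃ h ∈ H, χ h ≠ χ 1} =
      Cfsg.inducedIrrAbove H ⊥ := by
    rw [← Cfsg.Agent.Lib.Helper25.CohCentral.diff_eq_irr H H le_rfl
      (fun θ hθ hnt => hirrθ θ hθ (by
        rintro rfl
        obtain ⟨a, -, ha⟩ := hnt
        exact ha rfl)), hempty, Set.sdiff_empty]
  rw [hSeq] at hτ hτ1 ⊢
  have hirr : ∀ φ ∈ Cfsg.inducedIrrAbove H ⊥, Cfsg.IsIrrCharacter N φ := by
    rintro φ ⟨θ, hθ, h1, -, rfl⟩
    exact hirrθ θ hθ h1
  have hnil := isNilpotent_of_centralizer_le H hH1 hH2 hC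
  have hsolv : Group.IsSolvable H := inferInstance
  have hcn : (⁅H, H⁆ : Subgroup N).Normal := Subgroup.commutator_normal H H
  have hHH : ⁅H, H⁆ < H := by
    refine lt_of_le_of_ne (Subgroup.commutator_le_self H) ?_
    intro heq
    obtain ⟨n, hn⟩ := (Subgroup.isNilpotent_iff_lowerCentralSeries H).mp hnil
    have hall : ∀ i : ℕ, H.lowerCentralSeries i = H := by
      intro i
      induction i with
      | zero => rfl
      | succ i ih => rw [Subgroup.lowerCentralSeries_succ, ih, heq]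
    rw [hall n] at hn
    exact hH1 hn
  have hfrobA : ∀ A : Subgroup N, A.Normal → A ≤ H →
      ∀ k ∈ H, k ∉ A → ∀ x : N, x * k * x⁻¹ * k⁻¹ ∈ A → x ∈ H := fun A hA hAH =>
    quotient_frob H hC A hAH
  have he1 : 1 ≤ H.index := Nat.one_le_iff_ne_zero.mpr Subgroup.index_ne_zero_of_finite
  by_cases hab : ⁅H, H⁆ = ⊥
  · -- the abelian case
    left
    have hbn : (⊥ : Subgroup N).Normal := inferInstance
    have hdvd := index_dvd_relIndex_sub_one' H ⊥ H
      (comm_mem (le_of_eq hab)) bot_le le_rfl (hfrobA ⊥ hbn bot_le)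
    rw [Subgroup.relIndex_bot_left] at hdvd
    have h2 : 2 ≤ Nat.card H := by
      have hnt : Nontrivial H := (Subgroup.nontrivial_iff_ne_bot H).mpr hH1
      exact Finite.one_lt_card
    have hbig : 2 * H.index + 1 ≤ (⁅H, H⁆ : Subgroup N).relIndex H := by
      rw [hab, Subgroup.relIndex_bot_left]
      obtain ⟨t, ht⟩ := hdvd
      have ht1 : t ≠ 1 := by
        rintro rfl
        apply he
        omega
      have ht0 : t ≠ 0 := by
        rintro rfl
        omega
      have : 2 ≤ t := by omega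
      have : 2 * H.index ≤ H.index * t := by nlinarith
      omega
    have := base H hsolv hirr τ hτ hτ1 hHH hbig
    rwa [hab] at this
  · by_cases hpp : ∃ p m : ℕ, p.Prime ∧ Nat.card H = p ^ m
    · by_cases hbig : 4 * H.index ^ 2 + 1 < (⁅H, H⁆ : Subgroup N).relIndex H
      · -- a large abelianisation
        left
        have hbig' : 2 * H.index + 1 ≤ (⁅H, H⁆ : Subgroup N).relIndex H := by nlinarith
        have hb := base H hsolv hirr τ hτ hτ1 hHH hbig'
        have hbn : (⊥ : Subgroup N).Normal := inferInstance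
        have hres := chain H hnil hirr τ hτ hτ1 ⊥ bot_le ⁅H, H⁆ le_rfl
          (by rw [Subgroup.commutator_bot_left]; exact bot_le) hHH hb
          (by
            intro X hXn _ hXH'
            rw [sup_bot_eq]
            have h1 : 4 * H.index ^ 2 + 2 ≤ X.relIndex H :=
              le_trans hbig (relIndex_le_of_le hXH' hHH.le)
            have := Cfsg.Agent.S1520.numeric H.index 1 (X.relIndex H) le_rfl h1
            simpa using this)
        rwa [Subgroup.commutator_bot_left] at hres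
      · -- the exceptional case
        right
        obtain ⟨p, m, hp, hm⟩ := hpp
        refine ⟨p, hp, ⟨m, hm⟩, ?_, ?_⟩
        · intro hcomm
          exact hab (Subgroup.commutator_self_eq_bot_iff.mpr hcomm)
        · have : (⁅H, H⁆ : Subgroup N).relIndex H ≤ 4 * H.index ^ 2 + 1 := by omega
          exact this
    · -- not of prime power order
      left
      obtain ⟨Q, C, hQn, hCn, hQH, hCH, hCcent, hQ1, hQ2, hCX⟩ :=
        exists_sylow_and_center H hnil hpp
      have hsn : (⁅H, H⁆ ⊔ Q : Subgroup N).Normal := Subgroup.sup_normal _ _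
      have hsH : ⁅H, H⁆ ⊔ Q ≤ H := sup_le hHH.le hQH
      have ha : H.index + 1 ≤ (⁅H, H⁆ ⊔ Q : Subgroup N).relIndex H :=
        succ_index_le_relIndex H (⁅H, H⁆ ⊔ Q) H (comm_mem le_sup_left)
          (lt_of_le_of_ne hsH hQ2) le_rfl (hfrobA _ hsn hsH)
      have hb : H.index + 1 ≤ (⁅H, H⁆ : Subgroup N).relIndex (⁅H, H⁆ ⊔ Q) :=
        succ_index_le_relIndex H ⁅H, H⁆ (⁅H, H⁆ ⊔ Q)
          (comm_mem (Subgroup.commutator_mono le_rfl hsH))
          (lt_of_le_of_ne le_sup_left (fun h => hQ1 (h ▸ le_sup_right))) hsH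
          (hfrobA _ hcn hHH.le)
      have hab2 : (H.index + 1) ^ 2 ≤ (⁅H, H⁆ : Subgroup N).relIndex H := by
        rw [← Subgroup.relIndex_mul_relIndex ⁅H, H⁆ (⁅H, H⁆ ⊔ Q) H le_sup_left hsH, pow_two]
        exact Nat.mul_le_mul hb ha
      have hbig' : 2 * H.index + 1 ≤ (⁅H, H⁆ : Subgroup N).relIndex H := by nlinarith
      have hbase := base H hsolv hirr τ hτ hτ1 hHH hbig'
      -- the common numerical step
      have hnumC : ∀ (C' X : Subgroup N), C'.Normal → C' ≤ H → X.Normal → X ≤ ⁅H, H⁆ →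
          ⁅C', H⁆ ≤ X → ¬ C' ≤ X →
          4 * H.index ^ 2 * (X ⊔ C').relIndex H < (X.relIndex H - 1) ^ 2 := by
        intro C' X hC'n hC'H hXn hXH' hC'X hnot
        have hXH : X ≤ H := hXH'.trans hHH.le
        have hXC'n : (X ⊔ C' : Subgroup N).Normal := Subgroup.sup_normal _ _
        have hXC'H : X ⊔ C' ≤ H := sup_le hXH hC'H
        have hw : H.index + 1 ≤ X.relIndex (X ⊔ C') := by
          apply succ_index_le_relIndex H X (X ⊔ C') _
            (lt_of_le_of_ne le_sup_left (fun h => hnot (h ▸ le_sup_right))) hXC'H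
            (hfrobA X hXn hXH)
          apply comm_mem
          rw [Subgroup.commutator_comm]
          exact commutator_sup_le X C' H X (Subgroup.commutator_le_left X H) hC'X
        have hu : (H.index + 1) ^ 2 ≤ X.relIndex H :=
          le_trans hab2 (relIndex_le_of_le hXH' hHH.le)
        exact numeric_central H.index (X.relIndex H) ((X ⊔ C').relIndex H)
          (X.relIndex (X ⊔ C')) he1
          (by rw [mul_comm]; exact (Subgroup.relIndex_mul_relIndex X (X ⊔ C') H le_sup_left hXC'H).symm)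
          hw hu
      -- first stage: down to `⁅Q, H⁆`
      have hQHn : (⁅Q, H⁆ : Subgroup N).Normal := Subgroup.commutator_normal Q H
      have hQH' : ⁅Q, H⁆ ≤ ⁅H, H⁆ := Subgroup.commutator_mono hQH le_rfl
      have hst1 := chain H hnil hirr τ hτ hτ1 Q hQH ⁅H, H⁆ le_rfl hQH' hHH hbase
        (by
          intro X hXn hQX hXH'
          exact hnumC Q X hQn hQH hXn hXH' hQX (fun h => hQ1 (h.trans hXH')))
      -- second stage: down to `⊥`
      have hCbot : ⁅C, H⁆ = ⊥ := by
        rw [eq_bot_iff, Subgroup.commutator_le]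
        intro c hc h hh
        rw [Subgroup.mem_bot, commutatorElement_eq_one_iff_mul_comm]
        exact hCcent c hc h hh
      have hst2 := chain H hnil hirr τ hτ hτ1 C hCH ⁅Q, H⁆ hQH'
        (by rw [hCbot]; exact bot_le) hHH hst1
        (by
          intro X hXn hCX' hXQ
          exact hnumC C X hCn hCH hXn (hXQ.trans hQH') hCX'
            (hCX X (hXQ.trans (Subgroup.commutator_le_left Q H))))
      rwa [hCbot] at hst2

end Cfsg.Agent.S1535
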