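import Cfsg.Statements.S1160
import Cfsg.Agent.S0126
import Cfsg.Agent.S3062
import Mathlib
-- import your own Cfsg.Agent.* helpers here

set_option autoImplicit false
open Cfsg

namespace Cfsg.Agent.S1160

section norm

variable {P E : Type*} [Group P] [AddCommGroup E] [DistribMulAction P E]

/-- The norm map `e ↦ ∑_{j<n} x^j • e`. -/
def Nm (n : ℕ) (x : P) (e : E) : E := ∑ j ∈ Finset.range n, x ^ j • e

theorem nm_fixed (n : ℕ) (x : P) (hx : x ^ n = 1) (e : E) : x • Nm n x e = Nm n x e := by
  unfold Nm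
  rw [Finset.smul_sum]
  have h1 := Finset.sum_range_succ (fun j => x ^ j • e) n
  have h2 := Finset.sum_range_succ' (fun j => x ^ j • e) n
  simp only [hx, pow_zero, one_smul] at h1 h2
  have h3 : ∑ j ∈ Finset.range n, x • x ^ j • e = ∑ j ∈ Finset.range n, x ^ (j + 1) • e := by
    apply Finset.sum_congr rfl
    intro j _
    rw [smul_smul, pow_succ']
  rw [h3]
  rw [h1] at h2
  exact (add_right_cancel h2).symm

theorem pow_smul_of_fixed (x : P) (e : E) (h : x • e = e) (j : ℕ) : x ^ j • e = e := by
  induction j with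
  | zero => simp
  | succ j ih => rw [pow_succ, mul_smul, h, ih]

theorem nm_of_fixed (n : ℕ) (x : P) (e : E) (h : x • e = e) : Nm n x e = n • e := by
  unfold Nm
  rw [Finset.sum_congr rfl (fun j _ => pow_smul_of_fixed x e h j)]
  simp

theorem smul_nm_comm (n : ℕ) (x y : P) (hxy : Commute x y) (e : E) :
    y • Nm n x e = Nm n x (y • e) := by
  unfold Nm
  rw [Finset.smul_sum]
  apply Finset.sum_congr rfl
  intro j _
  rw [smul_smul, smul_smul, (hxy.pow_left j).eq]

theorem nm_add (n : ℕ) (x : P) (e e' : E) : Nm n x (e + e') = Nm n x e + Nm n x e' := by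
  unfold Nm
  rw [← Finset.sum_add_distrib]
  apply Finset.sum_congr rfl
  intro j _
  rw [smul_add]

theorem nm_sub (n : ℕ) (x : P) (e e' : E) : Nm n x (e - e') = Nm n x e - Nm n x e' := by
  unfold Nm
  rw [← Finset.sum_sub_distrib]
  apply Finset.sum_congr rfl
  intro j _
  rw [smul_sub]

theorem nm_one (n : ℕ) (e : E) : Nm n (1 : P) e = n • e :=
  nm_of_fixed n 1 e (one_smul _ _)

/-- `p`-torsion elements vanish when `E` has exponent `q` coprime to `p`. -/
theorem eq_zero_of_nsmul {p q : ℕ} (hpq : Nat.Coprime p q) (hE : ∀ e : E, q • e = 0) (e : E)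
    (h : p • e = 0) : e = 0 := by
  have h1 : addOrderOf e ∣ p := addOrderOf_dvd_of_nsmul_eq_zero h
  have h2 : addOrderOf e ∣ q := addOrderOf_dvd_of_nsmul_eq_zero (hE e)
  have h3 : addOrderOf e ∣ 1 := by
    have := Nat.dvd_gcd h1 h2
    rwa [hpq] at this
  exact AddMonoid.addOrderOf_eq_one_iff.mp (Nat.dvd_one.mp h3)

end norm

section main

variable {P E : Type*} [Group P] [Finite P] [AddCommGroup E] [DistribMulAction P E] [FaithfulSMul P E]

/-- Lemma A: a central element `z ≠ 1` with `z ^ p = 1` has no nonzero fixed points, under the constant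
stabilizer hypothesis and `p`-torsion-freeness. -/
theorem no_fixed_of_central {p : ℕ} (htor : ∀ e : E, p • e = 0 → e = 0)
    (hconst : ∀ a b : E, a ≠ 0 → b ≠ 0 →
      Nat.card (MulAction.stabilizer P a) = Nat.card (MulAction.stabilizer P b))
    (z : P) (hzc : z ∈ Subgroup.center P) (hz1 : z ≠ 1) (hzp : z ^ p = 1)
    (v : E) (hv : v ≠ 0) (hzv : z • v = v) : False := by
  -- a vector moved by z
  obtain ⟨e, he⟩ : ∃ e : E, z • e ≠ e := by
    by_contra hcon
    push Not at hcon
    apply hz1
    apply FaithfulSMul.eq_of_smul_eq_smul (α := E)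
    intro a
    rw [hcon a, one_smul]
  set w : E := e - z • e with hw
  have hw0 : w ≠ 0 := by
    intro h
    apply he
    rw [hw, sub_eq_zero] at h
    exact h.symm
  have hNw : Nm p z w = 0 := by
    rw [hw, nm_sub, ← smul_nm_comm p z z (Commute.refl z), nm_fixed p z hzp, sub_self]
  have hcomm : ∀ g : P, Commute z g := fun g => (Subgroup.mem_center_iff.mp hzc g).symm
  have hzw : z • w ≠ w := by
    intro h
    have := nm_of_fixed p z w h
    rw [hNw] at this
    exact hw0 (htor w this.symm)
  have hvw : v + w ≠ 0 := by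
    intro h
    apply hzw
    have : w = -v := by
      have h2 : w + v = 0 := by rw [add_comm]; exact h
      exact eq_neg_of_add_eq_zero_left h2
    rw [this, smul_neg, hzv]
  -- stabilizer of v + w
  have hstab : ∀ g : P, g • (v + w) = v + w → g • v = v ∧ g • w = w := by
    intro g hg
    set u : E := g • v - v with hu
    have hu' : u = w - g • w := by
      rw [hu]
      rw [smul_add] at hg
      have : g • v - v - (w - g • w) = 0 := by
        have h2 : g • v + g • w - (v + w) = 0 := sub_eq_zero.mpr hg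
        rw [← h2]; abel
      exact sub_eq_zero.mp this
    have hzu : z • u = u := by
      rw [hu, smul_sub, hzv, smul_smul, (hcomm g).eq, mul_smul, hzv]
    have hNu : Nm p z u = 0 := by
      rw [hu', nm_sub, ← smul_nm_comm p z g (hcomm g), hNw, smul_zero, sub_zero]
    have hu0 : u = 0 := by
      apply htor
      rw [← nm_of_fixed p z u hzu, hNu]
    constructor
    · exact sub_eq_zero.mp (hu ▸ hu0)
    · have : w - g • w = 0 := hu' ▸ hu0
      exact (sub_eq_zero.mp this).symm
  have hle1 : MulAction.stabilizer P (v + w) ≤ MulAction.stabilizer P v := fun g hg =>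
    (hstab g (MulAction.mem_stabilizer_iff.mp hg)).1
  have hle2 : MulAction.stabilizer P (v + w) ≤ MulAction.stabilizer P w := fun g hg =>
    (hstab g (MulAction.mem_stabilizer_iff.mp hg)).2
  have he1 : MulAction.stabilizer P (v + w) = MulAction.stabilizer P v :=
    Subgroup.eq_of_le_of_card_ge hle1 (hconst v (v + w) hv hvw).le
  have he2 : MulAction.stabilizer P (v + w) = MulAction.stabilizer P w :=
    Subgroup.eq_of_le_of_card_ge hle2 (hconst w (v + w) hw0 hvw).le
  have hzmem : z ∈ MulAction.stabilizer P w := by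
    rw [← he2, he1]
    exact MulAction.mem_stabilizer_iff.mpr hzv
  exact hzw (MulAction.mem_stabilizer_iff.mp hzmem)

/-- Lemma B: under the hypotheses, `P` is cyclic. -/
theorem cyclic_of_const {p : ℕ} [hp : Fact p.Prime] (hp2 : p ≠ 2) (hP : IsPGroup p P)
    (htor : ∀ e : E, p • e = 0 → e = 0)
    (hconst : ∀ a b : E, a ≠ 0 → b ≠ 0 →
      Nat.card (MulAction.stabilizer P a) = Nat.card (MulAction.stabilizer P b)) :
    IsCyclic P := by
  by_contra hnc
  obtain ⟨A, hAn, ⟨hAc, hAe⟩, hAcard⟩ := Cfsg.Agent.S0126.result hp2 hP hnc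
  have hp1 : 1 < p := hp.out.one_lt
  have LA : ∀ z : P, z ∈ Subgroup.center P → z ≠ 1 → z ^ p = 1 → ∀ v : E, z • v = v → v = 0 := by
    intro z hzc hz1 hzp v hzv
    by_contra hv
    exact no_fixed_of_central htor hconst z hzc hz1 hzp v hv hzv
  have hAbot : A ≠ ⊥ := by
    intro h
    rw [h, Subgroup.card_bot] at hAcard
    have : 1 < p ^ 2 := Nat.one_lt_pow (by norm_num) hp1
    omega
  obtain ⟨z, hzA, hz1, hzc⟩ := Cfsg.Agent.S3062.exists_ne_one_mem_center_of_normal' hP A hAbot
  have hzp : z ^ p = 1 := hAe z hzA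
  have hcommA : ∀ x ∈ A, ∀ y ∈ A, Commute x y := by
    intro x hx y hy
    have := hAc.is_comm.comm ⟨x, hx⟩ ⟨y, hy⟩
    exact congr_arg Subtype.val this
  -- order facts
  have hord : ∀ y : P, y ≠ 1 → y ^ p = 1 → Nat.card (Subgroup.zpowers y) = p := by
    intro y hy1 hyp
    rw [Nat.card_zpowers]
    exact orderOf_eq_prime hyp hy1
  -- E is nontrivial
  obtain ⟨e0, he0⟩ : ∃ e : E, e ≠ 0 := by
    by_contra hcon
    push Not at hcon
    apply hz1
    apply FaithfulSMul.eq_of_smul_eq_smul (α := E)
    intro a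
    rw [hcon (z • a), hcon ((1 : P) • a)]
  -- a ∈ A outside ⟨z⟩
  obtain ⟨a, haA, haz⟩ : ∃ a ∈ A, a ∉ Subgroup.zpowers z := by
    by_contra hcon
    push Not at hcon
    have hle : A ≤ Subgroup.zpowers z := hcon
    have := Subgroup.card_le_of_le hle
    rw [hAcard, hord z hz1 hzp] at this
    have : p * p ≤ p * 1 := by rw [← pow_two, mul_one]; exact this
    have := Nat.le_of_mul_le_mul_left this hp.out.pos
    omega
  -- some a * z^i has a nonzero fixed vector
  obtain ⟨i, hi⟩ : ∃ i : ℕ, Nm p (a * z ^ i) e0 ≠ 0 := by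
    by_contra hcon
    push Not at hcon
    have hsum : ∑ i ∈ Finset.range p, Nm p (a * z ^ i) e0 = 0 :=
      Finset.sum_eq_zero (fun i _ => hcon i)
    have hsum2 : ∑ i ∈ Finset.range p, Nm p (a * z ^ i) e0 =
        ∑ j ∈ Finset.range p, a ^ j • Nm p (z ^ j) e0 := by
      unfold Nm
      rw [Finset.sum_comm]
      apply Finset.sum_congr rfl
      intro j _
      rw [Finset.smul_sum]
      apply Finset.sum_congr rfl
      intro i _
      have hc : Commute a (z ^ i) := (hcommA a haA z hzA).pow_right i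
      rw [hc.mul_pow, smul_smul, ← pow_mul, ← pow_mul, mul_comm i j]
    have hsum3 : ∑ j ∈ Finset.range p, a ^ j • Nm p (z ^ j) e0 = p • e0 := by
      rw [Finset.sum_eq_single 0]
      · rw [pow_zero, pow_zero, one_smul, nm_one]
      · intro j hj hj0
        have hjp : j < p := Finset.mem_range.mp hj
        have hzj1 : z ^ j ≠ 1 := by
          apply pow_ne_one_of_lt_orderOf hj0
          rw [orderOf_eq_prime hzp hz1]; exact hjp
        have hzjp : (z ^ j) ^ p = 1 := by rw [← pow_mul, mul_comm, pow_mul, hzp, one_pow]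
        have hzjc : z ^ j ∈ Subgroup.center P := Subgroup.pow_mem _ hzc j
        rw [LA (z ^ j) hzjc hzj1 hzjp _ (nm_fixed p (z ^ j) hzjp e0), smul_zero]
      · intro h0
        exact absurd (Finset.mem_range.mpr hp.out.pos) h0
    rw [hsum2, hsum3] at hsum
    exact he0 (htor e0 hsum)
  set x : P := a * z ^ i with hx
  set v₁ : E := Nm p x e0 with hv₁
  have hxA : x ∈ A := A.mul_mem haA (A.pow_mem hzA i)
  have hxp : x ^ p = 1 := hAe x hxA
  have hxv : x • v₁ = v₁ := nm_fixed p x hxp e0
  have hx1 : x ≠ 1 := by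
    intro h
    apply haz
    have : a = (z ^ i)⁻¹ := eq_inv_of_mul_eq_one_left h
    rw [this]
    exact Subgroup.inv_mem _ (Subgroup.pow_mem _ (Subgroup.mem_zpowers z) i)
  -- ⟨x⟩ is not normal
  obtain ⟨g, hg⟩ : ∃ g : P, g * x * g⁻¹ ∉ Subgroup.zpowers x := by
    by_contra hcon
    push Not at hcon
    have hnorm : (Subgroup.zpowers x).Normal := by
      constructor
      intro n hn g
      obtain ⟨k, rfl⟩ := Subgroup.mem_zpowers_iff.mp hn
      have : g * x ^ k * g⁻¹ = (g * x * g⁻¹) ^ k := (conj_zpow (a := g) (b := x) (i := k)).symm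
      rw [this]
      exact Subgroup.zpow_mem _ (hcon g) k
    have hne : Subgroup.zpowers x ≠ ⊥ := by
      intro h
      apply hx1
      have := Subgroup.mem_zpowers x
      rw [h, Subgroup.mem_bot] at this
      exact this
    obtain ⟨y, hyx, hy1, hyc⟩ :=
      Cfsg.Agent.S3062.exists_ne_one_mem_center_of_normal' hP (Subgroup.zpowers x) hne
    have hyA : y ∈ A := (Subgroup.zpowers_le.mpr hxA) hyx
    have hyv : y • v₁ = v₁ := by
      have hle : Subgroup.zpowers x ≤ MulAction.stabilizer P v₁ :=
        Subgroup.zpowers_le.mpr (MulAction.mem_stabilizer_iff.mpr hxv)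
      exact MulAction.mem_stabilizer_iff.mp (hle hyx)
    exact hi (LA y hyc hy1 (hAe y hyA) v₁ hyv)
  set b : P := g * x * g⁻¹ with hb
  have hbA : b ∈ A := hAn.conj_mem x hxA g
  set v₂ : E := g • v₁ with hv₂
  have hv₂0 : v₂ ≠ 0 := by
    intro h
    apply hi
    have := congr_arg (fun e => g⁻¹ • e) h
    simpa [hv₂, smul_smul] using this
  have hbv : b • v₂ = v₂ := by
    rw [hb, hv₂, smul_smul]
    have : g * x * g⁻¹ * g = g * x := by group
    rw [this, mul_smul, hxv]
  -- fixed by x and some y ∈ A outside ⟨x⟩ implies zero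
  have hpair : ∀ y ∈ A, y ∉ Subgroup.zpowers x → ∀ w : E, x • w = w → y • w = w → w = 0 := by
    intro y hyA hyx w hxw hyw
    set K : Subgroup P := A ⊓ MulAction.stabilizer P w with hK
    have hxK : Subgroup.zpowers x ≤ K :=
      Subgroup.zpowers_le.mpr ⟨hxA, MulAction.mem_stabilizer_iff.mpr hxw⟩
    have hyK : y ∈ K := ⟨hyA, MulAction.mem_stabilizer_iff.mpr hyw⟩
    have hKA : K ≤ A := inf_le_left
    have hKcard : Nat.card K ∣ p ^ 2 := hAcard ▸ Subgroup.card_dvd_of_le hKA
    obtain ⟨k, hk2, hk⟩ := (Nat.dvd_prime_pow hp.out).mp hKcard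
    have hpK : p ∣ Nat.card K := (hord x hx1 hxp) ▸ Subgroup.card_dvd_of_le hxK
    have hk' : k = 2 := by
      rcases Nat.lt_or_ge k 2 with hlt | hge
      · exfalso
        interval_cases k
        · rw [hk, pow_zero] at hpK
          exact hp.out.one_lt.ne' (Nat.dvd_one.mp hpK)
        · apply hyx
          have : Subgroup.zpowers x = K :=
            Subgroup.eq_of_le_of_card_ge hxK (by rw [hk, pow_one, hord x hx1 hxp])
          rw [this]; exact hyK
      · omega
    have hKeq : K = A := Subgroup.eq_of_le_of_card_ge hKA (by rw [hk, hk', hAcard])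
    have hzK : z ∈ K := hKeq ▸ hzA
    exact LA z hzc hz1 hzp w (MulAction.mem_stabilizer_iff.mp hzK.2)
  -- norm facts
  have N1 : ∀ y ∈ A, y ∉ Subgroup.zpowers x → ∀ w : E, y • w = w → Nm p x w = 0 := by
    intro y hyA hyx w hyw
    apply hpair y hyA hyx
    · exact nm_fixed p x hxp w
    · rw [smul_nm_comm p x y (hcommA x hxA y hyA), hyw]
  have N2 : ∀ y ∈ Subgroup.zpowers x, y ≠ 1 → ∀ w : E, y • w = w → x • w = w := by
    intro y hyx hy1 w hyw
    have hyA : y ∈ A := (Subgroup.zpowers_le.mpr hxA) hyx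
    have hle : Subgroup.zpowers y ≤ Subgroup.zpowers x := Subgroup.zpowers_le.mpr hyx
    have heq : Subgroup.zpowers y = Subgroup.zpowers x :=
      Subgroup.eq_of_le_of_card_ge hle (by rw [hord x hx1 hxp, hord y hy1 (hAe y hyA)])
    have hxy : x ∈ Subgroup.zpowers y := heq ▸ Subgroup.mem_zpowers x
    have hle2 : Subgroup.zpowers y ≤ MulAction.stabilizer P w :=
      Subgroup.zpowers_le.mpr (MulAction.mem_stabilizer_iff.mpr hyw)
    exact MulAction.mem_stabilizer_iff.mp (hle2 hxy)
  have hbx : b ∉ Subgroup.zpowers x := hg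
  -- the vector v = v₁ + v₂
  have hv0 : v₁ + v₂ ≠ 0 := by
    intro h
    have h2 : v₂ = -v₁ := eq_neg_of_add_eq_zero_right h
    apply hi
    apply hpair b hbA hbx v₁ hxv
    have := hbv
    rw [h2, smul_neg, neg_inj] at this
    exact this
  have hNv : Nm p x (v₁ + v₂) = p • v₁ := by
    rw [nm_add, nm_of_fixed p x v₁ hxv, N1 b hbA hbx v₂ hbv, add_zero]
  have hstab : ∀ h : P, h • (v₁ + v₂) = v₁ + v₂ → h • v₁ = v₁ ∧ h • v₂ = v₂ := by
    intro h hh
    set a' : P := h * x * h⁻¹ with ha'
    set b' : P := h * b * h⁻¹ with hb'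
    have ha'A : a' ∈ A := hAn.conj_mem x hxA h
    have hb'A : b' ∈ A := hAn.conj_mem b hbA h
    have ha'1 : a' ≠ 1 := by
      intro h1
      apply hx1
      have : x = h⁻¹ * a' * h := by rw [ha']; group
      rw [this, h1]; group
    have ha'v : a' • (h • v₁) = h • v₁ := by
      rw [ha', smul_smul]
      have : h * x * h⁻¹ * h = h * x := by group
      rw [this, mul_smul, hxv]
    have hb'v : b' • (h • v₂) = h • v₂ := by
      rw [hb', smul_smul]
      have : h * b * h⁻¹ * h = h * b := by group
      rw [this, mul_smul, hbv]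
    have hsum : h • v₁ + h • v₂ = v₁ + v₂ := by rw [← smul_add]; exact hh
    have hN : Nm p x (h • v₁) + Nm p x (h • v₂) = p • v₁ := by
      rw [← nm_add, hsum, hNv]
    by_cases hcase : a' ∈ Subgroup.zpowers x
    · -- then b' ∉ ⟨x⟩
      have hb'x : b' ∉ Subgroup.zpowers x := by
        intro hb'x
        have hle : Subgroup.zpowers a' ≤ Subgroup.zpowers x := Subgroup.zpowers_le.mpr hcase
        have heq : Subgroup.zpowers a' = Subgroup.zpowers x :=
          Subgroup.eq_of_le_of_card_ge hle (by rw [hord x hx1 hxp, hord a' ha'1 (hAe a' ha'A)])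
        rw [← heq] at hb'x
        obtain ⟨k, hk⟩ := Subgroup.mem_zpowers_iff.mp hb'x
        apply hbx
        have : b = x ^ k := by
          have h1 : a' ^ k = h * x ^ k * h⁻¹ := by rw [ha', conj_zpow]
          have h2 : h * b * h⁻¹ = h * x ^ k * h⁻¹ := by rw [← h1, hk]
          have h3 := mul_right_cancel h2
          exact mul_left_cancel h3
        rw [this]
        exact Subgroup.zpow_mem _ (Subgroup.mem_zpowers x) k
      have hx1' : x • (h • v₁) = h • v₁ := N2 a' hcase ha'1 _ ha'v
      rw [nm_of_fixed p x _ hx1', N1 b' hb'A hb'x _ hb'v, add_zero] at hN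
      have h1 : h • v₁ = v₁ := by
        have : p • (h • v₁ - v₁) = 0 := by rw [smul_sub, hN, sub_self]
        exact sub_eq_zero.mp (htor _ this)
      refine ⟨h1, ?_⟩
      rw [h1] at hsum
      exact add_left_cancel hsum
    · -- a' ∉ ⟨x⟩
      exfalso
      rw [N1 a' ha'A hcase _ ha'v, zero_add] at hN
      have hb'x : b' ∈ Subgroup.zpowers x := by
        by_contra hb'x
        rw [N1 b' hb'A hb'x _ hb'v] at hN
        exact hi (htor v₁ hN.symm)
      have hb'1 : b' ≠ 1 := by
        intro h1
        apply hbx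
        have : b = h⁻¹ * b' * h := by rw [hb']; group
        rw [this, h1]
        have : h⁻¹ * 1 * h = 1 := by group
        rw [this]; exact Subgroup.one_mem _
      have hx2 : x • (h • v₂) = h • v₂ := N2 b' hb'x hb'1 _ hb'v
      rw [nm_of_fixed p x _ hx2] at hN
      have h2 : h • v₂ = v₁ := by
        have : p • (h • v₂ - v₁) = 0 := by rw [smul_sub, hN, sub_self]
        exact sub_eq_zero.mp (htor _ this)
      have h1 : h • v₁ = v₂ := by
        rw [h2] at hsum
        have : h • v₁ + v₁ = v₂ + v₁ := by rw [hsum, add_comm]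
        exact add_right_cancel this
      -- h² fixes v₁, and h has odd order
      have hsq : (h ^ 2) • v₁ = v₁ := by rw [pow_two, mul_smul, h1, h2]
      obtain ⟨m, hm⟩ := (IsPGroup.iff_orderOf.mp hP) h
      have hodd : Odd (orderOf h) := by
        rw [hm]
        exact Odd.pow (hp.out.odd_of_ne_two hp2)
      obtain ⟨t, ht⟩ := hodd
      have hpow : (h ^ 2) ^ (t + 1) = h := by
        rw [← pow_mul]
        have : 2 * (t + 1) = orderOf h + 1 := by omega
        rw [this, pow_succ, pow_orderOf_eq_one, one_mul]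
      have hfix : h • v₁ = v₁ := by
        have := pow_smul_of_fixed (h ^ 2) v₁ hsq (t + 1)
        rwa [hpow] at this
      have hv12 : v₂ = v₁ := by rw [← h1, hfix]
      apply hi
      apply hpair b hbA hbx v₁ hxv
      rw [← hv12]
      exact hbv
  have hle1 : MulAction.stabilizer P (v₁ + v₂) ≤ MulAction.stabilizer P v₁ := fun h hh =>
    MulAction.mem_stabilizer_iff.mpr (hstab h (MulAction.mem_stabilizer_iff.mp hh)).1
  have hle2 : MulAction.stabilizer P (v₁ + v₂) ≤ MulAction.stabilizer P v₂ := fun h hh =>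
    MulAction.mem_stabilizer_iff.mpr (hstab h (MulAction.mem_stabilizer_iff.mp hh)).2
  have he1 : MulAction.stabilizer P (v₁ + v₂) = MulAction.stabilizer P v₁ :=
    Subgroup.eq_of_le_of_card_ge hle1 (hconst v₁ (v₁ + v₂) hi hv0).le
  have he2 : MulAction.stabilizer P (v₁ + v₂) = MulAction.stabilizer P v₂ :=
    Subgroup.eq_of_le_of_card_ge hle2 (hconst v₂ (v₁ + v₂) hv₂0 hv0).le
  have hxmem : x ∈ MulAction.stabilizer P v₂ := by
    rw [← he2, he1]
    exact MulAction.mem_stabilizer_iff.mpr hxv
  exact hv₂0 (hpair b hbA hbx v₂ (MulAction.mem_stabilizer_iff.mp hxmem) hbv)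

end main

/-- Let `p ≠ 2` be prime and `P` a finite `p`-group acting faithfully by additive automorphisms on a finite elementary abelian `q`-group `E` (`q` prime), such that `|P_a|` is the same for all `a ≠ 0`. Then `P` is cyclic and every non-identity element of `P` fixes only `0`. -/
theorem result {P E : Type*} [Group P] [Finite P]
    [AddCommGroup E] [Finite E] [DistribMulAction P E] [FaithfulSMul P E]
    {p q : ℕ} [Fact p.Prime] (hp2 : p ≠ 2) (hP : IsPGroup p P) (hq : q.Prime) (hE : ∀ e : E, q • e = 0)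
    (hconst : ∀ a b : E, a ≠ 0 → b ≠ 0 →
      Nat.card (MulAction.stabilizer P a) = Nat.card (MulAction.stabilizer P b)) :
    IsCyclic P ∧ ∀ g : P, g ≠ 1 → ∀ a : E, g • a = a → a = 0 := by
  have hp : Fact p.Prime := inferInstance
  by_cases hpq : p = q
  · subst hpq
    have htriv : ∀ g : P, g = 1 := by
      intro g
      apply FaithfulSMul.eq_of_smul_eq_smul (α := E)
      intro b
      rw [one_smul]
      by_cases hall : ∀ e : E, e = 0
      · rw [hall (g • b), hall b]
      · push Not at hall
        obtain ⟨e, he⟩ := hall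
        have hdvd : p ∣ Nat.card E := by
          have h1 : addOrderOf e ∣ p := addOrderOf_dvd_of_nsmul_eq_zero (hE e)
          rcases (Nat.dvd_prime hp.out).mp h1 with h | h
          · exact absurd (AddMonoid.addOrderOf_eq_one_iff.mp h) he
          · rw [← h]; exact addOrderOf_dvd_natCard e
        have h0 : (0 : E) ∈ MulAction.fixedPoints P E := fun k => smul_zero k
        obtain ⟨a, haf, ha0⟩ := hP.exists_fixed_point_of_prime_dvd_card_of_fixed_point E hdvd h0
        have ha0' : a ≠ 0 := fun h => ha0 h.symm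
        have hatop : MulAction.stabilizer P a = ⊤ := by
          rw [eq_top_iff]
          intro k _
          exact MulAction.mem_stabilizer_iff.mpr (haf k)
        by_cases hb : b = 0
        · rw [hb, smul_zero]
        · have hcard := hconst b a hb ha0'
          rw [hatop, Subgroup.card_top] at hcard
          have hbtop : MulAction.stabilizer P b = ⊤ := (Subgroup.card_eq_iff_eq_top _).mp hcard
          have : g ∈ MulAction.stabilizer P b := hbtop ▸ Subgroup.mem_top g
          exact MulAction.mem_stabilizer_iff.mp this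
    have hsub : Subsingleton P := ⟨fun a b => by rw [htriv a, htriv b]⟩
    refine ⟨isCyclic_of_subsingleton, ?_⟩
    intro g hg
    exact absurd (htriv g) hg
  · have hcop : Nat.Coprime p q := (Nat.coprime_primes hp.out hq).mpr hpq
    have htor : ∀ e : E, p • e = 0 → e = 0 := fun e h => eq_zero_of_nsmul hcop hE e h
    have hcyc : IsCyclic P := cyclic_of_const hp2 hP htor hconst
    refine ⟨hcyc, ?_⟩
    intro g hg1 a hga
    by_contra ha
    obtain ⟨m, hm⟩ := IsPGroup.iff_orderOf.mp hP g
    have hm0 : m ≠ 0 := by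
      intro h
      rw [h, pow_zero, orderOf_eq_one_iff] at hm
      exact hg1 hm
    have hyp : (g ^ (p ^ (m - 1))) ^ p = 1 := by
      rw [← pow_mul, ← pow_succ, Nat.sub_add_cancel (Nat.pos_of_ne_zero hm0), ← hm, pow_orderOf_eq_one]
    have hy1 : g ^ (p ^ (m - 1)) ≠ 1 := by
      intro h
      have h1 := orderOf_dvd_of_pow_eq_one h
      rw [hm] at h1
      have h2 := (Nat.pow_dvd_pow_iff_le_right hp.out.one_lt).mp h1
      omega
    have hyc : g ^ (p ^ (m - 1)) ∈ Subgroup.center P := by
      rw [Subgroup.mem_center_iff]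
      intro k
      exact (IsCyclic.isMulCommutative (α := P)).is_comm.comm _ _
    have hya : g ^ (p ^ (m - 1)) • a = a := pow_smul_of_fixed g a hga _
    exact no_fixed_of_central htor hconst _ hyc hy1 hyp a ha hya

end Cfsg.Agent.S1160
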