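import Cfsg.Statements.S0673
import Mathlib
-- import your own Cfsg.Agent.* helpers here

set_option autoImplicit false
open Cfsg
open Module Polynomial

namespace Cfsg.Agent.S0673

section general
variable {K V : Type*} [Field K] [AddCommGroup V] [Module K V] [FiniteDimensional K V]

/-- kernels of powers of an endomorphism with at most one-dimensional kernel -/
theorem finrank_ker_pow_le (N : Module.End K V) (h1 : finrank K (LinearMap.ker N) ≤ 1) (k : ℕ) :
    finrank K (LinearMap.ker (N ^ k)) ≤ k := by
  induction k with
  | zero =>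
    rw [pow_zero]
    have : LinearMap.ker (1 : Module.End K V) = ⊥ := LinearMap.ker_id
    rw [this, finrank_bot]
  | succ k ih =>
    set S := LinearMap.ker (N ^ (k + 1)) with hS
    let g : S →ₗ[K] V := (N ^ k).comp S.subtype
    have hrange : LinearMap.range g ≤ LinearMap.ker N := by
      rintro _ ⟨s, rfl⟩
      rw [LinearMap.mem_ker]
      change N ((N ^ k) (s : V)) = 0
      have : (N ^ (k + 1)) (s : V) = 0 := LinearMap.mem_ker.mp s.2
      rw [pow_succ'] at this
      exact this
    have hker : finrank K (LinearMap.ker g) ≤ finrank K (LinearMap.ker (N ^ k)) := by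
      let φ : LinearMap.ker g →ₗ[K] LinearMap.ker (N ^ k) :=
        { toFun := fun x => ⟨((x : S) : V), by
            rw [LinearMap.mem_ker]
            exact LinearMap.mem_ker.mp x.2⟩
          map_add' := fun x y => rfl
          map_smul' := fun c x => rfl }
      apply LinearMap.finrank_le_finrank_of_injective (f := φ)
      intro x y hxy
      apply Subtype.ext
      apply Subtype.ext
      exact congrArg (fun t : LinearMap.ker (N ^ k) => (t : V)) hxy
    have hrn := LinearMap.finrank_range_add_finrank_ker g
    have h2 : finrank K (LinearMap.range g) ≤ finrank K (LinearMap.ker N) :=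
      Submodule.finrank_mono hrange
    omega

end general

section main
variable {p : ℕ} [Fact p.Prime] {K : Type*} [Field K] [CharP K p]

/-- evaluation of a polynomial on `ZMod p` -/
noncomputable def ev : K[X] →ₗ[K] (ZMod p → K) where
  toFun P := fun j => P.eval (ZMod.cast j : K)
  map_add' P Q := by funext j; simp
  map_smul' c P := by funext j; simp

theorem ev_apply (P : K[X]) (j : ZMod p) : ev P j = P.eval (ZMod.cast j : K) := rfl

/-- the difference operator -/
noncomputable def Nop : Module.End K (ZMod p → K) where
  toFun f := fun j => f (j - 1) - f j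
  map_add' f g := by funext j; simp; ring
  map_smul' c f := by funext j; simp; ring

theorem Nop_apply (f : ZMod p → K) (j : ZMod p) : (Nop f : ZMod p → K) j = f (j - 1) - f j := rfl

theorem cast_sub_one (j : ZMod p) : (ZMod.cast (j - 1) : K) = ZMod.cast j - 1 := by
  rw [ZMod.cast_sub (dvd_refl p), ZMod.cast_one (dvd_refl p)]

theorem cast_injective : Function.Injective (ZMod.cast : ZMod p → K) := by
  have := (ZMod.castHom (dvd_refl p) K).injective
  exact this

theorem Nop_ev (P : K[X]) : (Nop (ev P : ZMod p → K)) = ev (taylor (-1 : K) P - P) := by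
  funext j
  rw [Nop_apply, ev_apply, ev_apply, ev_apply, cast_sub_one, eval_sub, taylor_apply, eval_comp]
  simp [sub_eq_add_neg]

theorem degree_taylor_sub_lt (P : K[X]) (r : ℕ) (hP : P.degree < (r + 1 : ℕ)) :
    (taylor (-1 : K) P - P).degree < (r : ℕ) := by
  by_cases h0 : P.natDegree = 0
  · rw [eq_C_of_natDegree_eq_zero h0]
    simp [taylor_apply]
  · have hP0 : P ≠ 0 := by
      rintro rfl
      exact h0 natDegree_zero
    have hT0 : taylor (-1 : K) P ≠ 0 := by
      intro h
      apply hP0
      have := congrArg natDegree h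
      rw [natDegree_taylor] at this
      exact absurd this h0
    have hlt := degree_sub_lt_left (degree_taylor P (-1 : K)) hT0 (leadingCoeff_taylor (-1 : K) P)
    rw [degree_taylor] at hlt
    have hle : P.degree ≤ (r : ℕ) := by
      have := Nat.lt_succ_iff.mp ((natDegree_lt_iff_degree_lt hP0).mpr hP)
      exact degree_le_of_natDegree_le this
    exact lt_of_lt_of_le hlt hle

/-- the space of polynomial functions of degree `< r` -/
noncomputable def Vr (r : ℕ) : Submodule K (ZMod p → K) := Submodule.map ev (degreeLT K r)

theorem mem_Vr (r : ℕ) (f : ZMod p → K) :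
    f ∈ (Vr r : Submodule K (ZMod p → K)) ↔
      ∃ P : K[X], P.degree < r ∧ ∀ j : ZMod p, f j = P.eval (ZMod.cast j : K) := by
  unfold Vr
  rw [Submodule.mem_map]
  constructor
  · rintro ⟨P, hP, rfl⟩
    exact ⟨P, mem_degreeLT.mp hP, fun j => rfl⟩
  · rintro ⟨P, hP, hf⟩
    exact ⟨P, mem_degreeLT.mpr hP, by funext j; exact (hf j).symm⟩

theorem Vr_le_ker (r : ℕ) : (Vr r : Submodule K (ZMod p → K)) ≤ LinearMap.ker (Nop ^ r) := by
  induction r with
  | zero =>
    intro f hf
    rw [mem_Vr] at hf
    obtain ⟨P, hP, hf⟩ := hf
    have hP0 : P = 0 := by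
      rw [← degree_eq_bot]
      have : P.degree < (0 : ℕ) := hP
      rcases h : P.degree with _ | n
      · rfl
      · rw [h] at this
        exact absurd (WithBot.coe_lt_coe.mp this) (Nat.not_lt_zero n)
    have : f = 0 := by
      funext j; rw [hf j, hP0]; simp
    rw [this]
    exact Submodule.zero_mem _
  | succ r ih =>
    intro f hf
    rw [mem_Vr] at hf
    obtain ⟨P, hP, hf⟩ := hf
    have hfP : f = ev P := by funext j; exact hf j
    rw [LinearMap.mem_ker, pow_succ]
    change (Nop ^ r) (Nop f) = 0
    rw [hfP, Nop_ev]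
    have : (ev (taylor (-1 : K) P - P) : ZMod p → K) ∈ (Vr r : Submodule K (ZMod p → K)) := by
      rw [mem_Vr]
      exact ⟨_, degree_taylor_sub_lt P r (by exact_mod_cast hP), fun j => rfl⟩
    exact LinearMap.mem_ker.mp (ih this)

theorem finrank_Vr (r : ℕ) (hr : r ≤ p) : finrank K (Vr r : Submodule K (ZMod p → K)) = r := by
  unfold Vr
  have hinj : Function.Injective ((ev : K[X] →ₗ[K] (ZMod p → K)).domRestrict (degreeLT K r)) := by
    rw [← LinearMap.ker_eq_bot, LinearMap.ker_eq_bot']
    rintro ⟨P, hP⟩ h0
    apply Subtype.ext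
    change P = 0
    have h0' : ∀ j : ZMod p, P.eval (ZMod.cast j : K) = 0 := fun j => congrFun h0 j
    apply eq_zero_of_natDegree_lt_card_of_eval_eq_zero P (cast_injective (p := p) (K := K)) h0'
    rw [ZMod.card]
    by_cases hP0 : P = 0
    · rw [hP0, natDegree_zero]; exact (Fact.out : p.Prime).pos
    · have := (natDegree_lt_iff_degree_lt hP0).mpr (mem_degreeLT.mp hP)
      omega
  have h1 := LinearMap.finrank_range_of_inj hinj
  rw [LinearMap.range_domRestrict] at h1
  rw [h1]
  have := LinearEquiv.finrank_eq (degreeLTEquiv K r)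
  rw [this, Module.finrank_fin_fun]

theorem finrank_ker_Nop : finrank K (LinearMap.ker (Nop : Module.End K (ZMod p → K))) ≤ 1 := by
  have hle : LinearMap.ker (Nop : Module.End K (ZMod p → K)) ≤
      Submodule.span K {fun _ : ZMod p => (1 : K)} := by
    intro f hf
    rw [LinearMap.mem_ker] at hf
    have hstep : ∀ j : ZMod p, f (j - 1) = f j := by
      intro j
      have := congrFun hf j
      rw [Nop_apply] at this
      exact sub_eq_zero.mp this
    have hnat : ∀ n : ℕ, f (n : ZMod p) = f 0 := by
      intro n
      induction n with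
      | zero => simp
      | succ n ih =>
        have := hstep ((n + 1 : ℕ) : ZMod p)
        rw [← this]
        push_cast
        rw [add_sub_cancel_right]
        exact ih
    rw [Submodule.mem_span_singleton]
    refine ⟨f 0, ?_⟩
    funext j
    have := hnat j.val
    rw [ZMod.natCast_zmod_val] at this
    simp [this]
  calc finrank K (LinearMap.ker (Nop : Module.End K (ZMod p → K)))
      ≤ finrank K (Submodule.span K {fun _ : ZMod p => (1 : K)}) := Submodule.finrank_mono hle
    _ ≤ 1 := by
      have := finrank_span_le_card (R := K) ({fun _ : ZMod p => (1 : K)} : Set (ZMod p → K))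
      simpa using this

end main

/-- In characteristic `p`, the translation-invariant subspaces of the space of functions on `ZMod p` are exactly the spaces of polynomial functions of degree less than `r`, one for each `r ≤ p`, of dimension `r`. -/
theorem result {p : ℕ} [Fact p.Prime] {K : Type*} [Field K] [CharP K p] (W : Submodule K (ZMod p → K)) (hW : ∀ f ∈ W, (fun j => f (j - 1)) ∈ W) : ∃ r : ℕ, r ≤ p ∧ Module.finrank K W = r ∧ ∀ f : ZMod p → K, f ∈ W ↔ ∃ P : Polynomial K, P.degree < r ∧ ∀ j : ZMod p, f j = P.eval (ZMod.cast j : K) := by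
  classical
  set r := finrank K W with hr
  have hrp : r ≤ p := by
    have := Submodule.finrank_le W
    rw [Module.finrank_fintype_fun_eq_card, ZMod.card] at this
    exact this
  -- W is invariant under the difference operator
  have hWN : ∀ f ∈ W, (Nop : Module.End K (ZMod p → K)) f ∈ W := by
    intro f hf
    have : (Nop : Module.End K (ZMod p → K)) f = (fun j => f (j - 1)) - f := by
      funext j; rfl
    rw [this]
    exact W.sub_mem (hW f hf) hf
  -- Nop ^ p = 0
  have hker_p : LinearMap.ker ((Nop : Module.End K (ZMod p → K)) ^ p) = ⊤ := by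
    have h1 := Vr_le_ker (p := p) (K := K) p
    have h2 := finrank_Vr (p := p) (K := K) p le_rfl
    have h3 : finrank K (ZMod p → K) = p := by
      rw [Module.finrank_fintype_fun_eq_card, ZMod.card]
    have h4 : (Vr p : Submodule K (ZMod p → K)) = ⊤ := by
      apply Submodule.eq_top_of_finrank_eq
      rw [h2, h3]
    rw [h4] at h1
    exact top_le_iff.mp h1
  -- W ≤ ker (Nop ^ r)
  have hWker : W ≤ LinearMap.ker ((Nop : Module.End K (ZMod p → K)) ^ r) := by
    intro f hf
    have h1 := Module.End.ker_pow_le_ker_pow_finrank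
      ((Nop : Module.End K (ZMod p → K)).restrict hWN) p
    have h2 : (⟨f, hf⟩ : W) ∈ LinearMap.ker
        (((Nop : Module.End K (ZMod p → K)).restrict hWN) ^ p) := by
      rw [LinearMap.mem_ker, Module.End.pow_restrict p hWN]
      apply Subtype.ext
      rw [LinearMap.coe_restrict_apply]
      have : f ∈ LinearMap.ker ((Nop : Module.End K (ZMod p → K)) ^ p) := by
        rw [hker_p]; trivial
      exact LinearMap.mem_ker.mp this
    have h3 := h1 h2
    rw [LinearMap.mem_ker, Module.End.pow_restrict _ hWN] at h3
    have h4 := congrArg Subtype.val h3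
    rw [LinearMap.coe_restrict_apply] at h4
    rw [LinearMap.mem_ker]
    exact h4
  have hVker := Vr_le_ker (p := p) (K := K) r
  have hVr := finrank_Vr (p := p) (K := K) r hrp
  have hkr := finrank_ker_pow_le (Nop : Module.End K (ZMod p → K)) finrank_ker_Nop r
  have hV_eq : (Vr r : Submodule K (ZMod p → K)) =
      LinearMap.ker ((Nop : Module.End K (ZMod p → K)) ^ r) :=
    Submodule.eq_of_le_of_finrank_le hVker (by rw [hVr]; exact hkr)
  have hW_eq : W = LinearMap.ker ((Nop : Module.End K (ZMod p → K)) ^ r) :=
    Submodule.eq_of_le_of_finrank_le hWker (by rw [← hr]; exact hkr)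
  refine ⟨r, hrp, rfl, ?_⟩
  intro f
  rw [← mem_Vr, hV_eq, ← hW_eq]

end Cfsg.Agent.S0673
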