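-- S0036 (helper35): if a Frobenius complement contains an involution, the Frobenius kernel is closed under
-- multiplication (elementary counting argument, no character theory).
import Cfsg.Statements.S0036
import Cfsg.Agent.Lib.Helper35.Frobenius

set_option autoImplicit false
open Cfsg

namespace Cfsg.Agent.S0036

open scoped Pointwise
open Cfsg.Agent.Lib.Helper35

variable {G : Type*} [Group G]

/-- the kernel is closed under conjugation -/
lemma conj_mem_kernel {H : Subgroup G} {k : G} (hk : k ∈ frobeniusKernel H) (a : G) :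
    a * k * a⁻¹ ∈ frobeniusKernel H := by
  rcases hk with rfl | hk
  · left; group
  · right
    intro g hg
    apply hk (a⁻¹ * g)
    rw [mem_conj_smul_iff] at hg ⊢
    convert hg using 1
    group

lemma mem_self_iff_conj_one {H : Subgroup G} {x : G} : x ∈ MulAut.conj (1 : G) • H ↔ x ∈ H := by
  rw [mem_conj_smul_iff]; simp

/-- L1: an involution of `H` times an involution of another conjugate lies in the kernel, and is not 1 -/
lemma invol_mul_mem {H : Subgroup G} (hH : IsFrobeniusComplement H) {s u g : G} (hs : s ∈ H)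
    (hs1 : s ≠ 1) (hs2 : s * s = 1) (hu1 : u ≠ 1) (hu2 : u * u = 1) (hg : g ∉ H)
    (hug : u ∈ MulAut.conj g • H) : s * u ∈ frobeniusKernel H ∧ s * u ≠ 1 := by
  have hsinv : s⁻¹ = s := inv_eq_of_mul_eq_one_left hs2
  have huinv : u⁻¹ = u := inv_eq_of_mul_eq_one_left hu2
  have huH : u ∉ H := by
    intro huH
    have := ti hH hu1 (mem_self_iff_conj_one.mpr huH) hug
    rw [inv_one, one_mul] at this
    exact hg this
  have hne : s * u ≠ 1 := by
    intro h
    apply huH
    have : u = s⁻¹ := (inv_eq_of_mul_eq_one_right h).symm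
    rw [this]
    exact H.inv_mem hs
  refine ⟨?_, hne⟩
  right
  intro a ha
  have ha' : s * u ∈ MulAut.conj (s * a) • H := by
    rw [mem_conj_smul_iff] at ha ⊢
    have h1 := H.inv_mem ha
    convert h1 using 1
    calc (s * a)⁻¹ * (s * u) * (s * a) = a⁻¹ * (s⁻¹ * s) * (u * s) * a := by group
      _ = a⁻¹ * (u⁻¹ * s⁻¹) * a := by rw [inv_mul_cancel, mul_one, huinv, hsinv]
      _ = (a⁻¹ * (s * u) * a)⁻¹ := by group
  have h2 := ti hH hne ha ha'
  have hsa : s ∈ MulAut.conj a • H := by
    rw [mem_conj_smul_iff]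
    convert h2 using 1
    group
  have h3 := ti hH hs1 (mem_self_iff_conj_one.mpr hs) hsa
  rw [inv_one, one_mul] at h3
  -- so a ∈ H and s * u ∈ H
  rw [mem_conj_smul_iff] at ha
  have hsu : s * u ∈ H := by
    have := H.mul_mem (H.mul_mem h3 ha) (H.inv_mem h3)
    convert this using 1
    group
  apply huH
  have := H.mul_mem (H.inv_mem hs) hsu
  convert this using 1
  group

/-- L2: every non-identity element of the kernel is `s * (g s g⁻¹)` for some `g ∉ H` -/
lemma exists_rep [Finite G] {H : Subgroup G} (hH : IsFrobeniusComplement H) {s : G} (hs : s ∈ H)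
    (hs1 : s ≠ 1) (hs2 : s * s = 1) {k : G} (hk : k ∈ frobeniusKernel H) (hk1 : k ≠ 1) :
    ∃ g : G, g ∉ H ∧ k = s * (g * s * g⁻¹) := by
  classical
  have hconj1 : ∀ g : G, g * s * g⁻¹ ≠ 1 := by
    intro g h
    apply hs1
    have : s = g⁻¹ * (g * s * g⁻¹) * g := by group
    rw [this, h]; group
  have hconj2 : ∀ g : G, (g * s * g⁻¹) * (g * s * g⁻¹) = 1 := by
    intro g
    calc (g * s * g⁻¹) * (g * s * g⁻¹) = g * (s * s) * g⁻¹ := by group
      _ = 1 := by rw [hs2]; group
  have hconjmem : ∀ g : G, g * s * g⁻¹ ∈ MulAut.conj g • H := by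
    intro g
    rw [mem_conj_smul_iff]
    convert hs using 1
    group
  have hL1 : ∀ g : G, g ∉ H → s * (g * s * g⁻¹) ∈ frobeniusKernel H ∧ s * (g * s * g⁻¹) ≠ 1 :=
    fun g hg => invol_mul_mem hH hs hs1 hs2 (hconj1 g) (hconj2 g) hg (hconjmem g)
  let f : G ⧸ H → frobeniusKernel H := fun q =>
    if h : q.out ∈ H then ⟨1, Or.inl rfl⟩ else ⟨s * (q.out * s * q.out⁻¹), (hL1 q.out h).1⟩
  have hf : Function.Injective f := by
    intro p q hpq
    by_cases hp : p.out ∈ H <;> by_cases hq : q.out ∈ H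
    · rw [← p.out_eq', ← q.out_eq']
      exact QuotientGroup.eq.mpr (H.mul_mem (H.inv_mem hp) hq)
    · exfalso
      simp only [f, dif_pos hp, dif_neg hq] at hpq
      exact (hL1 q.out hq).2 (congrArg Subtype.val hpq).symm
    · exfalso
      simp only [f, dif_neg hp, dif_pos hq] at hpq
      exact (hL1 p.out hp).2 (congrArg Subtype.val hpq)
    · simp only [f, dif_neg hp, dif_neg hq] at hpq
      have h1 : s * (p.out * s * p.out⁻¹) = s * (q.out * s * q.out⁻¹) := congrArg Subtype.val hpq
      have h2 : p.out * s * p.out⁻¹ = q.out * s * q.out⁻¹ := mul_left_cancel h1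
      have h3 := hconjmem q.out
      rw [← h2] at h3
      have h4 := ti hH (hconj1 p.out) (hconjmem p.out) h3
      rw [← p.out_eq', ← q.out_eq']
      exact QuotientGroup.eq.mpr h4
  have hcard : Nat.card (frobeniusKernel H) ≤ Nat.card (G ⧸ H) := by
    rw [(Cfsg.Agent.S0034.result H hH).1, Subgroup.index_eq_card]
  have hbij := hf.bijective_of_nat_card_le hcard
  obtain ⟨q, hq⟩ := hbij.2 ⟨k, hk⟩
  by_cases hqH : q.out ∈ H
  · exfalso
    simp only [f, dif_pos hqH] at hq
    exact hk1 (congrArg Subtype.val hq).symm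
  · refine ⟨q.out, hqH, ?_⟩
    simp only [f, dif_neg hqH] at hq
    exact (congrArg Subtype.val hq).symm

/-- L3: an involution of `H` inverts the kernel -/
lemma invol_inverts [Finite G] {H : Subgroup G} (hH : IsFrobeniusComplement H) {s : G} (hs : s ∈ H)
    (hs1 : s ≠ 1) (hs2 : s * s = 1) {k : G} (hk : k ∈ frobeniusKernel H) :
    s * k * s⁻¹ = k⁻¹ := by
  have hsinv : s⁻¹ = s := inv_eq_of_mul_eq_one_left hs2
  by_cases hk1 : k = 1
  · rw [hk1]; group
  · obtain ⟨g, -, rfl⟩ := exists_rep hH hs hs1 hs2 hk hk1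
    rw [mul_inv_rev, mul_inv_rev, mul_inv_rev, inv_inv, hsinv]
    have : s * (s * (g * s * g⁻¹)) * s = (s * s) * (g * s * g⁻¹) * s := by group
    rw [this, hs2, one_mul]
    group

/-- L4: the involution of `H` is unique -/
lemma invol_unique [Finite G] {H : Subgroup G} (hH : IsFrobeniusComplement H) {s t : G}
    (hs : s ∈ H) (hs1 : s ≠ 1) (hs2 : s * s = 1) (ht : t ∈ H) (ht1 : t ≠ 1) (ht2 : t * t = 1) :
    s = t := by
  have htinv : t⁻¹ = t := inv_eq_of_mul_eq_one_left ht2
  have hsinv : s⁻¹ = s := inv_eq_of_mul_eq_one_left hs2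
  -- a non-identity element of the kernel
  have hidx : 1 < H.index := Subgroup.one_lt_index_of_ne_top hH.2.1
  rw [← (Cfsg.Agent.S0034.result H hH).1, Nat.card_coe_set_eq] at hidx
  obtain ⟨a, b, ha, hb, hab⟩ := (Set.one_lt_ncard_iff).mp hidx
  obtain ⟨k, hk, hk1⟩ : ∃ k ∈ frobeniusKernel H, k ≠ 1 := by
    by_cases ha1 : a = 1
    · exact ⟨b, hb, fun h => hab (ha1.trans h.symm)⟩
    · exact ⟨a, ha, ha1⟩
  by_contra hst
  have hst1 : s * t ≠ 1 := by
    intro h
    apply hst
    have : s = t⁻¹ := eq_inv_of_mul_eq_one_left h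
    rw [this, htinv]
  have h1 := invol_inverts hH hs hs1 hs2 hk
  have hkinv : k⁻¹ ∈ frobeniusKernel H := by
    rcases hk with rfl | hk
    · left; simp
    · right
      intro g hg
      exact hk g (by simpa using (MulAut.conj g • H).inv_mem hg)
  have h2 := invol_inverts hH ht ht1 ht2 hkinv
  -- s * t commutes with k
  have hcomm : k * (s * t) * k⁻¹ = s * t := by
    have e1 : s * k = k⁻¹ * s := by
      have := congrArg (· * s) h1
      simpa [mul_assoc] using this
    have e2 : t * k⁻¹ = k * t := by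
      have := congrArg (· * t) h2
      simpa [mul_assoc] using this
    calc k * (s * t) * k⁻¹ = k * s * (t * k⁻¹) := by group
      _ = k * s * (k * t) := by rw [e2]
      _ = k * (s * k) * t := by group
      _ = k * (k⁻¹ * s) * t := by rw [e1]
      _ = s * t := by group
  have hmem1 : s * t ∈ MulAut.conj (1 : G) • H := mem_self_iff_conj_one.mpr (H.mul_mem hs ht)
  have hmem2 : s * t ∈ MulAut.conj k • H := by
    rw [mem_conj_smul_iff]
    have : k⁻¹ * (s * t) * k = s * t := by
      calc k⁻¹ * (s * t) * k = k⁻¹ * (k * (s * t) * k⁻¹) * k := by rw [hcomm]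
        _ = s * t := by group
    rw [this]
    exact H.mul_mem hs ht
  have h3 := ti hH hst1 hmem1 hmem2
  rw [inv_one, one_mul] at h3
  rcases hk with rfl | hk
  · exact hk1 rfl
  · exact hk 1 (mem_self_iff_conj_one.mpr h3)

/-- When a Frobenius complement contains an involution, an elementary argument shows the Frobenius kernel is closed under multiplication (hence a subgroup). -/
theorem result {G : Type*} [Group G] [Finite G] (H : Subgroup G) (hH : Cfsg.IsFrobeniusComplement H)
    (t : G) (ht : t ∈ H) (ht1 : t ≠ 1) (ht2 : t * t = 1) :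
    ∀ x ∈ Cfsg.frobeniusKernel H, ∀ y ∈ Cfsg.frobeniusKernel H, x * y ∈ Cfsg.frobeniusKernel H := by
  intro x hx y hy
  by_cases hx1 : x = 1
  · rw [hx1, one_mul]; exact hy
  by_cases hy1 : y = 1
  · rw [hy1, mul_one]; exact hx
  have htinv : t⁻¹ = t := inv_eq_of_mul_eq_one_left ht2
  obtain ⟨b, hb, rfl⟩ := exists_rep hH ht ht1 ht2 hx hx1
  -- conjugate y by b⁻¹
  have hy' : b⁻¹ * y * b⁻¹⁻¹ ∈ frobeniusKernel H := conj_mem_kernel hy b⁻¹
  have hy'1 : b⁻¹ * y * b⁻¹⁻¹ ≠ 1 := by
    intro h
    apply hy1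
    have : y = b * (b⁻¹ * y * b⁻¹⁻¹) * b⁻¹ := by group
    rw [this, h]; group
  obtain ⟨g, hg, hyg⟩ := exists_rep hH ht ht1 ht2 hy' hy'1
  have hy2 : y = (b * t * b⁻¹) * ((b * g) * t * (b * g)⁻¹) := by
    have : y = b * (b⁻¹ * y * b⁻¹⁻¹) * b⁻¹ := by group
    rw [this, hyg]; group
  have hprod : t * (b * t * b⁻¹) * y = t * ((b * g) * t * (b * g)⁻¹) := by
    rw [hy2]
    calc t * (b * t * b⁻¹) * ((b * t * b⁻¹) * ((b * g) * t * (b * g)⁻¹))
        = t * (b * (t * t) * b⁻¹) * ((b * g) * t * (b * g)⁻¹) := by group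
      _ = t * ((b * g) * t * (b * g)⁻¹) := by rw [ht2]; group
  rw [hprod]
  set c := b * g with hc
  have hconj1 : c * t * c⁻¹ ≠ 1 := by
    intro h
    apply ht1
    have : t = c⁻¹ * (c * t * c⁻¹) * c := by group
    rw [this, h]; group
  have hconj2 : (c * t * c⁻¹) * (c * t * c⁻¹) = 1 := by
    calc (c * t * c⁻¹) * (c * t * c⁻¹) = c * (t * t) * c⁻¹ := by group
      _ = 1 := by rw [ht2]; group
  by_cases hcH : c ∈ H
  · -- then the conjugate is an involution of H, hence equal to t
    have hmem : c * t * c⁻¹ ∈ H := H.mul_mem (H.mul_mem hcH ht) (H.inv_mem hcH)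
    have := invol_unique hH hmem hconj1 hconj2 ht ht1 ht2
    rw [this, ht2]
    exact Or.inl rfl
  · have hconjmem : c * t * c⁻¹ ∈ MulAut.conj c • H := by
      rw [mem_conj_smul_iff]
      convert ht using 1
      group
    exact (invol_mul_mem hH ht ht1 ht2 hconj1 hconj2 hcH hconjmem).1

end Cfsg.Agent.S0036
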