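import Mathlib
import Cfsg.Statements.S0493
import Cfsg.Agent.S0144
import Cfsg.Agent.Lib.Helper17.SimpleIndex
import Cfsg.Agent.Lib.Helper17.SylowInter
import Cfsg.Agent.Lib.Helper17.SylowCard
import Cfsg.Agent.Lib.Helper17.Burnside
import Cfsg.Agent.Lib.Helper17.InvolutionParity

set_option autoImplicit false
open Cfsg

namespace Cfsg.Agent.S0493


open Cfsg.Agent.Lib.Helper17

theorem exists_two_prime_form (n : ℕ) (hpos : 0 < n) (hn : n ≤ 100)
    (hex : n ∉ ([1, 60, 84] : List ℕ)) (h4 : n % 4 ≠ 2) :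
    ∃ p q a b : ℕ, p.Prime ∧ q.Prime ∧ n = p ^ a * q ^ b := by
  interval_cases n
  · exact absurd (by decide) hex  -- 1
  · exact ⟨2, 3, 1, 0, by norm_num, by norm_num, by norm_num⟩
  · exact ⟨3, 2, 1, 0, by norm_num, by norm_num, by norm_num⟩
  · exact ⟨2, 3, 2, 0, by norm_num, by norm_num, by norm_num⟩
  · exact ⟨5, 2, 1, 0, by norm_num, by norm_num, by norm_num⟩
  · exact ⟨2, 3, 1, 1, by norm_num, by norm_num, by norm_num⟩
  · exact ⟨7, 2, 1, 0, by norm_num, by norm_num, by norm_num⟩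
  · exact ⟨2, 3, 3, 0, by norm_num, by norm_num, by norm_num⟩
  · exact ⟨3, 2, 2, 0, by norm_num, by norm_num, by norm_num⟩
  · exact ⟨2, 5, 1, 1, by norm_num, by norm_num, by norm_num⟩
  · exact ⟨11, 2, 1, 0, by norm_num, by norm_num, by norm_num⟩
  · exact ⟨2, 3, 2, 1, by norm_num, by norm_num, by norm_num⟩
  · exact ⟨13, 2, 1, 0, by norm_num, by norm_num, by norm_num⟩
  · exact ⟨2, 7, 1, 1, by norm_num, by norm_num, by norm_num⟩
  · exact ⟨3, 5, 1, 1, by norm_num, by norm_num, by norm_num⟩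
  · exact ⟨2, 3, 4, 0, by norm_num, by norm_num, by norm_num⟩
  · exact ⟨17, 2, 1, 0, by norm_num, by norm_num, by norm_num⟩
  · exact ⟨2, 3, 1, 2, by norm_num, by norm_num, by norm_num⟩
  · exact ⟨19, 2, 1, 0, by norm_num, by norm_num, by norm_num⟩
  · exact ⟨2, 5, 2, 1, by norm_num, by norm_num, by norm_num⟩
  · exact ⟨3, 7, 1, 1, by norm_num, by norm_num, by norm_num⟩
  · exact ⟨2, 11, 1, 1, by norm_num, by norm_num, by norm_num⟩
  · exact ⟨23, 2, 1, 0, by norm_num, by norm_num, by norm_num⟩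
  · exact ⟨2, 3, 3, 1, by norm_num, by norm_num, by norm_num⟩
  · exact ⟨5, 2, 2, 0, by norm_num, by norm_num, by norm_num⟩
  · exact ⟨2, 13, 1, 1, by norm_num, by norm_num, by norm_num⟩
  · exact ⟨3, 2, 3, 0, by norm_num, by norm_num, by norm_num⟩
  · exact ⟨2, 7, 2, 1, by norm_num, by norm_num, by norm_num⟩
  · exact ⟨29, 2, 1, 0, by norm_num, by norm_num, by norm_num⟩
  · exact absurd (by decide) h4  -- 30
  · exact ⟨31, 2, 1, 0, by norm_num, by norm_num, by norm_num⟩
  · exact ⟨2, 3, 5, 0, by norm_num, by norm_num, by norm_num⟩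
  · exact ⟨3, 11, 1, 1, by norm_num, by norm_num, by norm_num⟩
  · exact ⟨2, 17, 1, 1, by norm_num, by norm_num, by norm_num⟩
  · exact ⟨5, 7, 1, 1, by norm_num, by norm_num, by norm_num⟩
  · exact ⟨2, 3, 2, 2, by norm_num, by norm_num, by norm_num⟩
  · exact ⟨37, 2, 1, 0, by norm_num, by norm_num, by norm_num⟩
  · exact ⟨2, 19, 1, 1, by norm_num, by norm_num, by norm_num⟩
  · exact ⟨3, 13, 1, 1, by norm_num, by norm_num, by norm_num⟩
  · exact ⟨2, 5, 3, 1, by norm_num, by norm_num, by norm_num⟩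
  · exact ⟨41, 2, 1, 0, by norm_num, by norm_num, by norm_num⟩
  · exact absurd (by decide) h4  -- 42
  · exact ⟨43, 2, 1, 0, by norm_num, by norm_num, by norm_num⟩
  · exact ⟨2, 11, 2, 1, by norm_num, by norm_num, by norm_num⟩
  · exact ⟨3, 5, 2, 1, by norm_num, by norm_num, by norm_num⟩
  · exact ⟨2, 23, 1, 1, by norm_num, by norm_num, by norm_num⟩
  · exact ⟨47, 2, 1, 0, by norm_num, by norm_num, by norm_num⟩
  · exact ⟨2, 3, 4, 1, by norm_num, by norm_num, by norm_num⟩
  · exact ⟨7, 2, 2, 0, by norm_num, by norm_num, by norm_num⟩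
  · exact ⟨2, 5, 1, 2, by norm_num, by norm_num, by norm_num⟩
  · exact ⟨3, 17, 1, 1, by norm_num, by norm_num, by norm_num⟩
  · exact ⟨2, 13, 2, 1, by norm_num, by norm_num, by norm_num⟩
  · exact ⟨53, 2, 1, 0, by norm_num, by norm_num, by norm_num⟩
  · exact ⟨2, 3, 1, 3, by norm_num, by norm_num, by norm_num⟩
  · exact ⟨5, 11, 1, 1, by norm_num, by norm_num, by norm_num⟩
  · exact ⟨2, 7, 3, 1, by norm_num, by norm_num, by norm_num⟩
  · exact ⟨3, 19, 1, 1, by norm_num, by norm_num, by norm_num⟩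
  · exact ⟨2, 29, 1, 1, by norm_num, by norm_num, by norm_num⟩
  · exact ⟨59, 2, 1, 0, by norm_num, by norm_num, by norm_num⟩
  · exact absurd (by decide) hex  -- 60
  · exact ⟨61, 2, 1, 0, by norm_num, by norm_num, by norm_num⟩
  · exact ⟨2, 31, 1, 1, by norm_num, by norm_num, by norm_num⟩
  · exact ⟨3, 7, 2, 1, by norm_num, by norm_num, by norm_num⟩
  · exact ⟨2, 3, 6, 0, by norm_num, by norm_num, by norm_num⟩
  · exact ⟨5, 13, 1, 1, by norm_num, by norm_num, by norm_num⟩
  · exact absurd (by decide) h4  -- 66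
  · exact ⟨67, 2, 1, 0, by norm_num, by norm_num, by norm_num⟩
  · exact ⟨2, 17, 2, 1, by norm_num, by norm_num, by norm_num⟩
  · exact ⟨3, 23, 1, 1, by norm_num, by norm_num, by norm_num⟩
  · exact absurd (by decide) h4  -- 70
  · exact ⟨71, 2, 1, 0, by norm_num, by norm_num, by norm_num⟩
  · exact ⟨2, 3, 3, 2, by norm_num, by norm_num, by norm_num⟩
  · exact ⟨73, 2, 1, 0, by norm_num, by norm_num, by norm_num⟩
  · exact ⟨2, 37, 1, 1, by norm_num, by norm_num, by norm_num⟩
  · exact ⟨3, 5, 1, 2, by norm_num, by norm_num, by norm_num⟩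
  · exact ⟨2, 19, 2, 1, by norm_num, by norm_num, by norm_num⟩
  · exact ⟨7, 11, 1, 1, by norm_num, by norm_num, by norm_num⟩
  · exact absurd (by decide) h4  -- 78
  · exact ⟨79, 2, 1, 0, by norm_num, by norm_num, by norm_num⟩
  · exact ⟨2, 5, 4, 1, by norm_num, by norm_num, by norm_num⟩
  · exact ⟨3, 2, 4, 0, by norm_num, by norm_num, by norm_num⟩
  · exact ⟨2, 41, 1, 1, by norm_num, by norm_num, by norm_num⟩
  · exact ⟨83, 2, 1, 0, by norm_num, by norm_num, by norm_num⟩
  · exact absurd (by decide) hex  -- 84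
  · exact ⟨5, 17, 1, 1, by norm_num, by norm_num, by norm_num⟩
  · exact ⟨2, 43, 1, 1, by norm_num, by norm_num, by norm_num⟩
  · exact ⟨3, 29, 1, 1, by norm_num, by norm_num, by norm_num⟩
  · exact ⟨2, 11, 3, 1, by norm_num, by norm_num, by norm_num⟩
  · exact ⟨89, 2, 1, 0, by norm_num, by norm_num, by norm_num⟩
  · exact absurd (by decide) h4  -- 90
  · exact ⟨7, 13, 1, 1, by norm_num, by norm_num, by norm_num⟩
  · exact ⟨2, 23, 2, 1, by norm_num, by norm_num, by norm_num⟩
  · exact ⟨3, 31, 1, 1, by norm_num, by norm_num, by norm_num⟩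
  · exact ⟨2, 47, 1, 1, by norm_num, by norm_num, by norm_num⟩
  · exact ⟨5, 19, 1, 1, by norm_num, by norm_num, by norm_num⟩
  · exact ⟨2, 3, 5, 1, by norm_num, by norm_num, by norm_num⟩
  · exact ⟨97, 2, 1, 0, by norm_num, by norm_num, by norm_num⟩
  · exact ⟨2, 7, 1, 2, by norm_num, by norm_num, by norm_num⟩
  · exact ⟨3, 11, 2, 1, by norm_num, by norm_num, by norm_num⟩
  · exact ⟨2, 5, 2, 2, by norm_num, by norm_num, by norm_num⟩

theorem not_solvable {G : Type*} [Group G] [Finite G] [IsSimpleGroup G] (hG : ¬ IsCyclic G) :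
    ¬ Group.IsSolvable G := by
  intro hs
  have hc : ∀ a b : G, a * b = b * a := IsSimpleGroup.comm_iff_isSolvable.mpr hs
  have hmc : IsMulCommutative G := ⟨⟨hc⟩⟩
  have hp := prime_card_of_simple_of_comm hmc
  have : Fact (Nat.card G).Prime := ⟨hp⟩
  exact hG (isCyclic_of_prime_card rfl)

theorem not_comm {G : Type*} [Group G] [Finite G] [IsSimpleGroup G] (hG : ¬ IsCyclic G) :
    ¬ IsMulCommutative G := by
  intro hmc
  have hp := prime_card_of_simple_of_comm hmc
  have : Fact (Nat.card G).Prime := ⟨hp⟩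
  exact hG (isCyclic_of_prime_card rfl)

/-- A simple group cannot have a unique Sylow `p`-subgroup forced by arithmetic. -/
theorem false_of_unique_sylow {G : Type*} [Group G] [Finite G] [IsSimpleGroup G]
    (p k m : ℕ) [hp : Fact p.Prime] (h : Nat.card G = p ^ k * m) (hm : ¬ p ∣ m) (hk : 0 < k)
    (hm1 : m ≠ 1) (hd : ∀ d : ℕ, d ∣ m → d % p = 1 → d = 1) : False := by
  have h1 := card_sylow_ne_one_of_simple h hm hk hm1
  have h2 : Nat.card (Sylow p G) ∣ m := card_sylow_dvd_of_card_eq h hm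
  have h3 : Nat.card (Sylow p G) % p = 1 % p := card_sylow_modEq_one p G
  rw [Nat.mod_eq_of_lt hp.out.one_lt] at h3
  exact h1 (hd _ h2 h3)

theorem forall_dvd_of_le (m p : ℕ) (h : ∀ d ≤ m, d ∣ m → d % p = 1 → d = 1) (hm : 0 < m) :
    ∀ d : ℕ, d ∣ m → d % p = 1 → d = 1 :=
  fun d hd => h d (Nat.le_of_dvd hm hd) hd

/-- A non-commutative simple group does not have order `2 * odd`. -/
theorem false_of_card_mod_four {G : Type*} [Group G] [Finite G] [IsSimpleGroup G]
    (hG : ¬ IsMulCommutative G) (h : Nat.card G % 4 = 2) : False := by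
  have : Fact (Nat.Prime 2) := ⟨Nat.prime_two⟩
  have h2 : 2 ∣ Nat.card G := by omega
  obtain ⟨t, ht⟩ := exists_prime_orderOf_dvd_card' 2 h2
  have ht2 : t ^ 2 = 1 := by rw [← ht]; exact pow_orderOf_eq_one t
  have ht1 : t ≠ 1 := by
    intro h1; rw [h1, orderOf_one] at ht; omega
  have key := four_dvd_index_sub_card_fixedBy_of_simple hG (⊥ : Subgroup G) t ht2
  have hempty : IsEmpty (MulAction.fixedBy (G ⧸ (⊥ : Subgroup G)) t) := by
    constructor
    rintro ⟨q, hq⟩
    induction q using QuotientGroup.induction_on with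
    | H g =>
      rw [MulAction.mem_fixedBy, MulAction.Quotient.smul_coe, QuotientGroup.eq,
        Subgroup.mem_bot] at hq
      apply ht1
      have : t⁻¹ = 1 := by
        have h3 : (t • g)⁻¹ * g = g⁻¹ * t⁻¹ * g := by simp [smul_eq_mul, mul_inv_rev]
        rw [h3] at hq
        have : t⁻¹ = g * (g⁻¹ * t⁻¹ * g) * g⁻¹ := by group
        rw [this, hq]; group
      simpa using this
  have h0 : Nat.card (MulAction.fixedBy (G ⧸ (⊥ : Subgroup G)) t) = 0 := Nat.card_of_isEmpty
  rw [Subgroup.index_bot, h0, Nat.sub_zero] at key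
  omega

/-- A finite simple group of order at most 100 that is not cyclic has order 60. -/
theorem result {G : Type*} [Group G] [Finite G] [IsSimpleGroup G]
    (hG : ¬ IsCyclic G) (h : Nat.card G ≤ 100) : Nat.card G = 60 := by
  have hns := not_solvable hG
  have hnc := not_comm hG
  have hpos : 0 < Nat.card G := Nat.card_pos
  by_contra h60
  by_cases h4 : Nat.card G % 4 = 2
  · exact false_of_card_mod_four hnc h4
  by_cases hex : Nat.card G ∈ ([1, 60, 84] : List ℕ)
  · simp only [List.mem_cons, List.not_mem_nil, or_false] at hex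
    rcases hex with h1 | h1 | h1
    · -- order 1
      have : Subsingleton G := (Nat.card_eq_one_iff_unique.mp h1).1
      exact hG inferInstance
    · exact h60 h1
    · have : Fact (Nat.Prime 7) := ⟨by norm_num⟩
      exact false_of_unique_sylow 7 1 12 (by rw [h1]; norm_num) (by decide) (by decide) (by decide)
        (forall_dvd_of_le 12 7 (by decide) (by decide))
  · obtain ⟨p, q, a, b, hp, hq, hn⟩ := exists_two_prime_form _ hpos h hex h4
    exact hns (Cfsg.Agent.S0144.result p q a b hp hq hn)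

end Cfsg.Agent.S0493
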