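import Cfsg.Statements.S0494
import Cfsg.Agent.Lib.Helper17.SimpleIndex
import Cfsg.Agent.Lib.Helper17.SylowInter
import Cfsg.Agent.Lib.Helper17.SylowCard
import Cfsg.Agent.Lib.Helper17.Burnside

set_option autoImplicit false
open Cfsg

namespace Cfsg.Agent.S0494


open Cfsg.Agent.Lib.Helper17

theorem card_alt5 : Nat.card (alternatingGroup (Fin 5)) = 60 := by
  have h := two_mul_card_alternatingGroup (α := Fin 5)
  rw [Fintype.card_perm, Fintype.card_fin] at h
  rw [Nat.card_eq_fintype_card]
  have : (5 : ℕ).factorial = 120 := by decide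
  omega

theorem iso_of_index_five {G : Type*} [Group G] [Finite G] [IsSimpleGroup G]
    (h : Nat.card G = 60) (hG : ¬ IsMulCommutative G) (H : Subgroup G) (hH : H.index = 5) :
    Nonempty (G ≃* alternatingGroup (Fin 5)) := by
  have hne : H ≠ ⊤ := by
    intro ht
    rw [ht, Subgroup.index_top] at hH
    omega
  have key : ∀ n : ℕ, n = 5 → (∃ f : G →* alternatingGroup (Fin n), Function.Injective f) →
      Nonempty (G ≃* alternatingGroup (Fin 5)) := by
    rintro n rfl ⟨f, hf⟩
    have hb : Function.Bijective f :=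
      (Nat.bijective_iff_injective_and_card f).mpr ⟨hf, by rw [h, card_alt5]⟩
    exact ⟨MulEquiv.ofBijective f hb⟩
  exact key _ hH (Cfsg.Agent.S0991.result hG H hne)

theorem exists_index_five {G : Type*} [Group G] [Finite G] [IsSimpleGroup G]
    (h : Nat.card G = 60) (hG : ¬ IsMulCommutative G) : ∃ H : Subgroup G, H.index = 5 := by
  have : Fact (Nat.Prime 2) := ⟨Nat.prime_two⟩
  have h60 : Nat.card G = 2 ^ 2 * 15 := by rw [h]; norm_num
  have hm : ¬ (2 ∣ 15) := by decide
  have hdvd : Nat.card (Sylow 2 G) ∣ 15 := card_sylow_dvd_of_card_eq h60 hm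
  have hne1 : Nat.card (Sylow 2 G) ≠ 1 :=
    card_sylow_ne_one_of_simple h60 hm (by decide) (by decide)
  have hfac := two_mul_card_dvd_factorial_card_sylow_of_simple hG hne1
  rw [h] at hfac
  have hle : Nat.card (Sylow 2 G) ≤ 15 := Nat.le_of_dvd (by decide) hdvd
  -- n_2 ∈ {5, 15}
  have hcases : Nat.card (Sylow 2 G) = 5 ∨ Nat.card (Sylow 2 G) = 15 := by
    generalize Nat.card (Sylow 2 G) = n at *
    interval_cases n <;> simp_all (config := {decide := true})
  rcases hcases with h5 | h15
  · obtain ⟨P⟩ := (Sylow.nonempty : Nonempty (Sylow 2 G))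
    refine ⟨Subgroup.normalizer ((P : Subgroup G) : Set G), ?_⟩
    have h' : Nat.card (Sylow 2 G) = (Subgroup.normalizer ((P : Subgroup G) : Set G)).index :=
      P.card_eq_index_normalizer
    rw [← h', h5]
  · have hmod : ¬ Nat.card (Sylow 2 G) ≡ 1 [MOD 2 ^ 2] := by
      rw [h15]; decide
    obtain ⟨P, R, hPR, hPN, hRN, hcard⟩ := exists_sylow_pair_normalizing_inter hmod
    have hP4 : Nat.card (P : Subgroup G) = 2 ^ 2 := sylow_card_of_card_eq P h60 hm
    have hD2 : Nat.card ((P : Subgroup G) ⊓ (R : Subgroup G) : Subgroup G) = 2 := by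
      rw [hP4] at hcard; omega
    set D : Subgroup G := (P : Subgroup G) ⊓ (R : Subgroup G) with hD
    set M : Subgroup G := Subgroup.normalizer (D : Set G) with hM
    have h3 : 2 + 1 ≤ Nat.card (Sylow 2 M) := succ_le_card_sylow_subgroup M P R hPR hPN hRN
    have h4 : Nat.card (Sylow 2 M) * Nat.card (P : Subgroup G) ∣ Nat.card M :=
      card_sylow_subgroup_mul_card_dvd M P hPN
    rw [hP4] at h4
    have hMdvd : Nat.card M ∣ 60 := h ▸ M.card_subgroup_dvd_card
    have hidx : M.index * Nat.card M = 60 := h ▸ M.index_mul_card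
    -- M ≠ ⊤
    have hMtop : M ≠ ⊤ := by
      intro ht
      have hDn : D.Normal := Subgroup.normalizer_eq_top_iff.mp ht
      rcases hDn.eq_bot_or_eq_top with hb | ht'
      · rw [hb, Subgroup.card_bot] at hD2; omega
      · rw [ht', Subgroup.card_top, h] at hD2; omega
    have hfacM := two_mul_card_dvd_factorial_index_of_simple hG M hMtop
    rw [h] at hfacM
    have hMpos : 0 < Nat.card M := Nat.card_pos
    have hMle : Nat.card M ≤ 60 := Nat.le_of_dvd (by decide) hMdvd
    have hsle : Nat.card (Sylow 2 M) ≤ 15 := by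
      have := Nat.le_of_dvd hMpos h4
      omega
    refine ⟨M, ?_⟩
    have hidxle : M.index ≤ 60 := by
      have : 0 < M.index := Nat.pos_of_ne_zero M.index_ne_zero_of_finite
      nlinarith
    generalize Nat.card (Sylow 2 M) = s at *
    generalize M.index = i at *
    generalize Nat.card M = m at *
    clear hM hD
    have hi5 : 5 ≤ i := by
      by_contra hlt
      push Not at hlt
      interval_cases i <;> simp_all (config := {decide := true})
    have hm12 : m ≤ 12 := by nlinarith
    have hs : s = 3 := by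
      have : s * 4 ≤ m := Nat.le_of_dvd hMpos h4
      omega
    subst hs
    have : m = 12 := by
      have : 12 ≤ m := Nat.le_of_dvd hMpos h4
      omega
    subst this
    omega

/-- A simple group of order 60 is isomorphic to the alternating group of degree 5. -/
theorem result {G : Type*} [Group G] [Finite G] [IsSimpleGroup G]
    (h : Nat.card G = 60) : Nonempty (G ≃* alternatingGroup (Fin 5)) := by
  have hG : ¬ IsMulCommutative G := not_comm_of_simple_of_not_prime (by rw [h]; decide)
  obtain ⟨H, hH⟩ := exists_index_five h hG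
  exact iso_of_index_five h hG H hH

end Cfsg.Agent.S0494
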