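-- Statement S3374 (row 3374).
import Cfsg.Statements.S3374
-- import your own Cfsg.Agent.* helpers here

set_option autoImplicit false
open Cfsg

namespace Cfsg.Agent.S3374

/-! ## 2×2 matrices as quadruples -/

abbrev Q (n : ℕ) := ZMod n × ZMod n × ZMod n × ZMod n

def qmul {n : ℕ} (x y : Q n) : Q n :=
  (x.1 * y.1 + x.2.1 * y.2.2.1, x.1 * y.2.1 + x.2.1 * y.2.2.2,
    x.2.2.1 * y.1 + x.2.2.2 * y.2.2.1, x.2.2.1 * y.2.1 + x.2.2.2 * y.2.2.2)

def qone {n : ℕ} : Q n := (1, 0, 0, 1)

def qdet {n : ℕ} (x : Q n) : ZMod n := x.1 * x.2.2.2 - x.2.1 * x.2.2.1

/-- `det (x - 1)` -/
def qdetI {n : ℕ} (x : Q n) : ZMod n := (x.1 - 1) * (x.2.2.2 - 1) - x.2.1 * x.2.2.1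

theorem qmul_assoc {n : ℕ} (x y z : Q n) : qmul (qmul x y) z = qmul x (qmul y z) := by
  simp only [qmul, Prod.mk.injEq]
  refine ⟨?_, ?_, ?_, ?_⟩ <;> ring

theorem qone_mul {n : ℕ} (x : Q n) : qmul qone x = x := by
  simp [qmul, qone]

theorem qdet_mul {n : ℕ} (x y : Q n) : qdet (qmul x y) = qdet x * qdet y := by
  simp only [qmul, qdet]; ring

/-- generators: `false ↦ S`, `true ↦ T` -/
def gen5 : Bool → Q 5
  | false => (0, 4, 1, 0)
  | true => (1, 1, 0, 1)

def gen11 : Bool → Q 11
  | false => (0, 1, 10, 0)
  | true => (1, 3, 4, 2)

def evalW {n : ℕ} (gen : Bool → Q n) : List Bool → Q n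
  | [] => qone
  | s :: w => qmul (gen s) (evalW gen w)

/-- For every element of `SL(2,5)` a word in `S`, `T` representing it. -/
def wordTable : List (List Bool) := [
  [], [], [], [], [],
  [], [], [], [], [],
  [], [], [], [], [],
  [], [], [], [], [],
  [], [], [], [], [],
  [], [], [], [], [],
  [], [], [], [], [],
  [], [], [], [], [],
  [], [], [], [], [],
  [false, false, false], [true, false, true, false, false, false], [false, true, true, true, false, false], [false, true, true, false, false], [false, true, false, false],
  [], [], [], [], [],
  [], [], [], [], [],
  [true, true, true, false, true, true, false, true, true, true], [true, true, true, false, true, true, false, true], [true, true, true, false, true, true, true, false, true, false], [true, true, true, false, true, true, false, true, true], [true, true, true, false, true, true, false],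
  [], [], [], [], [],
  [], [], [], [], [],
  [], [], [], [], [],
  [], [], [], [], [],
  [], [], [], [], [],
  [true, true, false, true, true, true, false, true, true], [true, true, true, false, true, true, false, false, false], [true, true, false, true, true, true, false, true], [false, true, false, true, true, true, false, true, true, false], [true, true, false, true, true, true, false],
  [], [], [], [], [],
  [], [], [], [], [],
  [false], [false, true], [false, true, true], [false, true, true, true], [true, false, true, false],
  [], [], [], [], [],
  [], [], [], [], [],
  [], [], [], [], [],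
  [], [], [], [], [],
  [], [true, false, true], [], [], [],
  [], [true, false, true, true, false, true], [], [], [],
  [], [false, true, true, false, false, false], [], [], [],
  [], [false, true, false, false, false], [], [], [],
  [], [true], [], [], [],
  [], [], [true, false, true, true], [], [],
  [], [], [], [true, false, true, true, false, true, true], [],
  [], [], [], [], [false, true, true, false, true, false, false],
  [false, true, false, true, false, false], [], [], [], [],
  [], [true, true], [], [], [],
  [], [], [], [true, false, true, true, true], [],
  [true, false, true, true, false, true, true, true], [], [], [], [],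
  [], [], [false, true, true, false, true, true, false, false], [], [],
  [], [], [], [], [false, true, false, true, true, false, false],
  [], [true, true, true], [], [], [],
  [], [], [], [], [true, true, false, true, false],
  [], [], [true, false, true, true, true, false, true, false], [], [],
  [false, true, true, false, true, true, true, false, false], [], [], [], [],
  [], [], [], [false, true, false, true, true, true, false, false], [],
  [], [true, true, true, true], [], [], [],
  [true, false], [], [], [], [],
  [], [], [], [], [true, false, true, true, false],
  [], [], [], [true, false, true, true, false, true, true, false], [],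
  [], [], [false, true, true, false, true, false, false, false], [], [],
  [], [], [], [false, true, true, false, true, true, true, false, true, true], [],
  [], [], [], [true, true, false, true, true, true], [],
  [], [], [], [false, true, false, true, true, true, false, true, true], [],
  [], [], [], [true, false, true, true, true, false, true, true, true], [],
  [], [], [], [true, true, true, false, true, true, false, false], [],
  [], [], [], [false, true, true, false, true, true, true, false], [],
  [], [true, true, false, true], [], [], [],
  [], [], [], [], [false, true, false, true, true, true, false],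
  [], [], [true, false, true, true, true, false, true], [], [],
  [true, true, true, false, false, false], [], [], [], [],
  [], [], [], [true, true, false, true, true, false, true, true, true, false], [],
  [], [], [], [], [true, true, true, false, true, false],
  [false, true, false, true, true, true, false, true, true, true], [], [], [], [],
  [], [true, true, false, true, true, false, false, false], [], [], [],
  [], [], [true, true, true, false, true, true, true, false, false], [], [],
  [], [], [], [false, true, true, false, true, true, true, false, true], [],
  [], [], [true, true, false, true, true], [], [],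
  [], [false, true, false, true, true, true, false, true], [], [], [],
  [true, false, true, true, true, false, true, true], [], [], [], [],
  [], [], [], [], [true, true, true, false, true, false, false],
  [], [], [], [true, false, true, true, false, true, true, true, false], [],
  [true, true, false], [], [], [], [],
  [], [], [false, true, true, false, true, true, false, false, false], [], [],
  [], [], [], [], [true, false, true, true, true, false],
  [], [false, true, false, true, true, false, false, false], [], [], [],
  [], [], [true, true, false, true, true, true, false, true, true, false], [], [],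
  [], [], [true, true, true, false, true, true], [], [],
  [], [], [true, true, false, true, true, true, false, true, false], [], [],
  [], [], [true, true, true, false, true, true, true, false, true], [], [],
  [], [], [true, true, false, true, true, true, false, false], [], [],
  [], [], [false, true, true, true, false, true, true, false], [], [],
  [], [], [], [], [false, true, false, true, true, false],
  [], [true, true, false, true, true, false, true], [], [], [],
  [], [], [], [false, true, true, false, true, true, false], [],
  [true, true, false, false, false], [], [], [], [],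
  [], [], [false, true, true, true, false, true, true, false, true, true], [], [],
  [], [true, true, true, false, true], [], [], [],
  [true, true, false, true, true, false, true, true, true], [], [], [], [],
  [], [], [], [], [true, true, true, false, true, true, true, false],
  [], [], [], [true, true, false, true, true, false, false], [],
  [], [], [true, false, true, true, true, false, true, true, false], [], [],
  [], [], [], [true, true, true, false, true, true, true], [],
  [], [], [], [], [true, true, false, true, true, false],
  [false, true, true, false, true, true, true, false, true, false], [], [], [], [],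
  [], [true, true, true, false, true, false, false, false], [], [], [],
  [], [], [false, true, true, true, false, true, true, false, true], [], [],
  [true, true, true, false], [], [], [], [],
  [], [], [], [true, true, false, true, true, false, true, true], [],
  [], [false, true, true, false, true, true, false, true], [], [], [],
  [], [], [], [], [true, true, false, true, false, false],
  [], [], [], [], [false, false],
  [], [], [], [], [false, true, false],
  [], [], [], [], [false, true, true, false],
  [], [], [], [], [false, true, true, true, false],
  [], [], [], [], [true, false, true, false, false],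
  [], [], [], [], [false, true, false, true, false],
  [], [], [], [false, true, true, false, true, false], [],
  [], [], [false, true, true, true, false, true, false], [], [],
  [], [true, false, true, true, false, false, false], [], [], [],
  [true, false, false, false], [], [], [], [],
  [], [], [], [], [true, true, true, false, false],
  [], [], [false, true, false, true, true, true], [], [],
  [false, true, true, false, true, true, true], [], [], [], [],
  [], [], [], [false, true, true, true, false, true, true, true], [],
  [], [true, true, false, true, false, false, false], [], [], [],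
  [], [], [], [], [true, true, false, false],
  [], [false, true, false, true, true], [], [], [],
  [], [], [], [false, true, true, false, true, true], [],
  [false, true, true, true, false, true, true], [], [], [], [],
  [], [], [true, false, true, true, true, false, false], [], [],
  [], [], [], [], [true, false, false],
  [false, true, false, true], [], [], [], [],
  [], [false, true, true, false, true], [], [], [],
  [], [], [false, true, true, true, false, true], [], [],
  [], [], [], [true, false, true, true, false, false], []]

def word (x : Q 5) : List Bool :=
  wordTable.getD (x.1.val * 125 + x.2.1.val * 25 + x.2.2.1.val * 5 + x.2.2.2.val) []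

/-- The map on quadruples. -/
def F' (x : Q 5) : Q 11 := evalW gen11 (word x)

set_option maxRecDepth 100000 in
theorem word_spec : ∀ a b c d : ZMod 5, a * d - b * c = 1 →
    evalW gen5 (word (a, b, c, d)) = (a, b, c, d) := by
  decide

set_option maxRecDepth 100000 in
theorem F'_gen : ∀ a b c d : ZMod 5, a * d - b * c = 1 → ∀ s : Bool,
    F' (qmul (gen5 s) (a, b, c, d)) = qmul (gen11 s) (F' (a, b, c, d)) := by
  decide

set_option maxRecDepth 100000 in
theorem F'_fpf : ∀ a b c d : ZMod 5, a * d - b * c = 1 → (a, b, c, d) ≠ ((1, 0, 0, 1) : Q 5) →
    qdetI (F' (a, b, c, d)) ≠ 0 := by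
  decide


theorem F'_one : F' ((1, 0, 0, 1) : Q 5) = qone := by decide

theorem qdet_gen5 (s : Bool) : qdet (gen5 s) = 1 := by
  cases s <;> decide

theorem qdet_evalW (w : List Bool) : qdet (evalW gen5 w) = 1 := by
  induction w with
  | nil => simp [evalW, qdet, qone]
  | cons s w ih => rw [evalW, qdet_mul, ih, qdet_gen5, one_mul]

theorem qdet_iff (x : Q 5) : qdet x = 1 ↔ x.1 * x.2.2.2 - x.2.1 * x.2.2.1 = 1 := Iff.rfl

theorem F'_word (w : List Bool) (y : Q 5) (hy : qdet y = 1) :
    F' (qmul (evalW gen5 w) y) = qmul (evalW gen11 w) (F' y) := by
  induction w with
  | nil => simp only [evalW, qone_mul]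
  | cons s w ih =>
    simp only [evalW]
    rw [qmul_assoc, qmul_assoc, ← ih]
    have hdet : qdet (qmul (evalW gen5 w) y) = 1 := by rw [qdet_mul, qdet_evalW, hy, one_mul]
    generalize qmul (evalW gen5 w) y = z at hdet ⊢
    obtain ⟨a, b, c, d⟩ := z
    exact F'_gen a b c d hdet s

theorem F'_mul (x y : Q 5) (hx : qdet x = 1) (hy : qdet y = 1) :
    F' (qmul x y) = qmul (F' x) (F' y) := by
  have hw : evalW gen5 (word x) = x := by
    obtain ⟨a, b, c, d⟩ := x
    exact word_spec a b c d hx
  conv_lhs => rw [← hw]
  rw [F'_word _ _ hy]
  rfl

/-! ## The action on `ZMod 11 × ZMod 11` -/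

abbrev V := ZMod 11 × ZMod 11

instance fact_prime_eleven : Fact (Nat.Prime 11) := ⟨by norm_num⟩

def act (m : Q 11) (v : V) : V := (m.1 * v.1 + m.2.1 * v.2, m.2.2.1 * v.1 + m.2.2.2 * v.2)

theorem act_mul (m m' : Q 11) (v : V) : act (qmul m m') v = act m (act m' v) := by
  simp only [act, qmul, Prod.mk.injEq]
  constructor <;> ring

theorem act_one (v : V) : act qone v = v := by
  simp [act, qone]

theorem act_add (m : Q 11) (v w : V) : act m (v + w) = act m v + act m w := by
  simp only [act, Prod.fst_add, Prod.snd_add, Prod.mk_add_mk, Prod.mk.injEq]
  constructor <;> ring

theorem act_fpf (m : Q 11) (hm : qdetI m ≠ 0) (v : V) (hv : act m v = v) : v = 0 := by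
  obtain ⟨a, b, c, d⟩ := m
  obtain ⟨x, y⟩ := v
  simp only [act, Prod.mk.injEq] at hv
  simp only [qdetI] at hm
  obtain ⟨h1, h2⟩ := hv
  have hx : ((a - 1) * (d - 1) - b * c) * x = 0 := by linear_combination (d - 1) * h1 - b * h2
  have hy : ((a - 1) * (d - 1) - b * c) * y = 0 := by linear_combination (a - 1) * h2 - c * h1
  have hx' := (mul_eq_zero.mp hx).resolve_left hm
  have hy' := (mul_eq_zero.mp hy).resolve_left hm
  rw [hx', hy']; rfl

/-! ## The group `SL(2,5)` -/

abbrev SL25 := Matrix.SpecialLinearGroup (Fin 2) (ZMod 5)

def toQ (g : SL25) : Q 5 := (g.1 0 0, g.1 0 1, g.1 1 0, g.1 1 1)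

theorem toQ_det (g : SL25) : qdet (toQ g) = 1 := by
  have := g.2
  rw [Matrix.det_fin_two] at this
  exact this

theorem toQ_mul (g h : SL25) : toQ (g * h) = qmul (toQ g) (toQ h) := by
  simp only [toQ, qmul, Matrix.SpecialLinearGroup.coe_mul, Matrix.mul_apply, Fin.sum_univ_two]

theorem toQ_one : toQ (1 : SL25) = (1, 0, 0, 1) := by
  simp [toQ]

theorem toQ_injective : Function.Injective toQ := by
  intro g h hgh
  simp only [toQ, Prod.mk.injEq] at hgh
  obtain ⟨h1, h2, h3, h4⟩ := hgh
  apply Subtype.ext
  ext i j
  fin_cases i <;> fin_cases j <;> assumption

def F (g : SL25) : Q 11 := F' (toQ g)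

theorem F_mul (g h : SL25) : F (g * h) = qmul (F g) (F h) := by
  rw [F, toQ_mul, F'_mul _ _ (toQ_det g) (toQ_det h)]; rfl

theorem F_one : F 1 = qone := by
  rw [F, toQ_one, F'_one]

theorem F_fpf (g : SL25) (hg : g ≠ 1) (v : V) (hv : act (F g) v = v) : v = 0 := by
  apply act_fpf (F g) ?_ v hv
  have h1 : toQ g ≠ ((1, 0, 0, 1) : Q 5) := by
    intro h
    apply hg
    apply toQ_injective
    rw [h, toQ_one]
  have h2 := toQ_det g
  rw [F]
  generalize toQ g = z at h1 h2 ⊢
  obtain ⟨a, b, c, d⟩ := z
  exact F'_fpf a b c d h2 h1

/-! ## The Frobenius group -/

abbrev N := Multiplicative V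

def phiFun (g : SL25) : MulAut N where
  toFun n := Multiplicative.ofAdd (act (F g) n.toAdd)
  invFun n := Multiplicative.ofAdd (act (F g⁻¹) n.toAdd)
  left_inv n := by
    change Multiplicative.ofAdd (act (F g⁻¹) (act (F g) n.toAdd)) = n
    rw [← act_mul, ← F_mul, inv_mul_cancel, F_one, act_one]; rfl
  right_inv n := by
    change Multiplicative.ofAdd (act (F g) (act (F g⁻¹) n.toAdd)) = n
    rw [← act_mul, ← F_mul, mul_inv_cancel, F_one, act_one]; rfl
  map_mul' n n' := by
    change Multiplicative.ofAdd (act (F g) (n.toAdd + n'.toAdd)) = _
    rw [act_add]; rfl

def phi : SL25 →* MulAut N :=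
  MonoidHom.mk' phiFun (by
    intro g h
    apply MulEquiv.ext
    intro n
    change Multiplicative.ofAdd (act (F (g * h)) n.toAdd) =
      Multiplicative.ofAdd (act (F g) (act (F h) n.toAdd))
    rw [F_mul, act_mul])

theorem phi_apply (g : SL25) (n : N) : phi g n = Multiplicative.ofAdd (act (F g) n.toAdd) := rfl

theorem phi_fpf (g : SL25) (n : N) (h : phi g n = n) (hn : n ≠ 1) : g = 1 := by
  by_contra hg
  apply hn
  have h1 : act (F g) n.toAdd = n.toAdd := by
    rw [phi_apply] at h
    exact congrArg Multiplicative.toAdd h
  have := F_fpf g hg n.toAdd h1
  exact Multiplicative.toAdd.injective this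

abbrev L := N ⋊[phi] SL25

instance L_finite : Finite L := Finite.of_equiv _ SemidirectProduct.equivProd.symm

def H : Subgroup L := (SemidirectProduct.inr : SL25 →* L).range

theorem mem_H_iff (x : L) : x ∈ H ↔ x.left = 1 := by
  constructor
  · rintro ⟨g, rfl⟩
    rfl
  · intro h
    refine ⟨x.right, ?_⟩
    refine SemidirectProduct.ext ?_ ?_
    · rw [h]; rfl
    · rfl

open scoped Pointwise in
theorem H_frob : Cfsg.IsFrobeniusComplement H := by
  refine ⟨?_, ?_, ?_⟩
  · -- H ≠ ⊥
    intro h
    have hmem : (SemidirectProduct.inr (-1 : SL25) : L) ∈ H := ⟨-1, rfl⟩
    rw [h, Subgroup.mem_bot] at hmem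
    have h2 : (-1 : SL25) = 1 := SemidirectProduct.inr_injective (by rw [hmem, map_one])
    have h3 := congrArg toQ h2
    revert h3
    simp only [toQ]
    decide
  · -- H ≠ ⊤
    intro h
    have hmem : (SemidirectProduct.inl (Multiplicative.ofAdd ((1, 0) : V)) : L) ∈ H := by
      rw [h]; trivial
    rw [mem_H_iff, SemidirectProduct.left_inl] at hmem
    have := congrArg Multiplicative.toAdd hmem
    revert this
    decide
  · intro x hx
    rw [eq_bot_iff]
    intro h hh
    rw [Subgroup.mem_bot]
    obtain ⟨hhH, hhx⟩ := Subgroup.mem_inf.mp hh
    rw [Subgroup.mem_pointwise_smul_iff_inv_smul_mem, MulAut.smul_def, MulAut.conj_inv_apply,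
      mem_H_iff] at hhx
    rw [mem_H_iff] at hhH hx
    -- h = inr a
    have hleft : (x⁻¹ * h * x).left = phi x.right⁻¹ x.left⁻¹ * phi (x.right⁻¹ * h.right) x.left := by
      simp only [SemidirectProduct.mul_left, SemidirectProduct.mul_right,
        SemidirectProduct.inv_left, SemidirectProduct.inv_right, hhH, map_one, mul_one]
    rw [hleft] at hhx
    have h2 : phi h.right x.left = x.left := by
      have h3 : phi (x.right⁻¹ * h.right) x.left = phi x.right⁻¹ x.left := by
        have := eq_inv_of_mul_eq_one_right hhx
        rw [this, ← map_inv, inv_inv]
      rw [map_mul, MulAut.mul_apply] at h3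
      exact (phi x.right⁻¹).injective h3
    have h4 := phi_fpf h.right x.left h2 hx
    refine SemidirectProduct.ext ?_ ?_
    · rw [hhH]; rfl
    · rw [h4]; rfl

/-- SL(2,5) occurs as a Frobenius complement: there is a finite group L with a subgroup H isomorphic to SL(2,5) which is a non-trivial proper subgroup meeting each conjugate gHg⁻¹ with g outside H trivially. -/
theorem result :
    ∃ (L : Type) (_ : Group L) (_ : Finite L) (H : Subgroup L),
      Cfsg.IsFrobeniusComplement H ∧ Nonempty (H ≃* Matrix.SpecialLinearGroup (Fin 2) (ZMod 5)) :=
  ⟨L, inferInstance, L_finite, H, H_frob,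
    ⟨(MonoidHom.ofInjective SemidirectProduct.inr_injective).symm⟩⟩

end Cfsg.Agent.S3374
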