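-- Statement S3377 (row 3377).
import Cfsg.Statements.S3377
-- import your own Cfsg.Agent.* helpers here

set_option autoImplicit false
set_option linter.unusedVariables false
open Cfsg

namespace Cfsg.Agent.S3377

/-! The first part of this file (the sections `a5_generic`, `a5_table`) is machine generated: it
records a Todd–Coxeter derivation of the Cayley graph of `Alt(5)` from the relators. -/

section a5_generic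
variable {M : Type*} [Group M]

theorem path_nil (g : M) : g * 1 = g := mul_one g
theorem path_cons {g g' g'' s w : M} (h : g * s = g') (h' : g' * w = g'') : g * (s * w) = g'' := by
  rw [← mul_assoc, h, h']
theorem deduce {gc ge gf A s B : M} (h1 : gc * A = ge) (h2 : gf * B = gc) (hr : A * (s * B) = 1) :
    ge * s = gf := by
  have h3 : ge * s * B = gc := by rw [← h1, mul_assoc, mul_assoc, hr, mul_one]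
  exact mul_right_cancel (h3.trans h2.symm)
theorem inv_edge {gd gc s : M} (h : gd * s = gc) : gc * s⁻¹ = gd := by rw [← h, mul_inv_cancel_right]
theorem edge_of_inv {ge gf s : M} (h : ge * s⁻¹ = gf) : gf * s = ge := by rw [← h, inv_mul_cancel_right]

end a5_generic

section a5_table
variable {M : Type*} [Group M]

def g0 (X0 X1 : M) : M := 1
def g1 (X0 X1 : M) : M := g0 X0 X1 * X0
def g2 (X0 X1 : M) : M := g0 X0 X1 * X1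
def g3 (X0 X1 : M) : M := g1 X0 X1 * X0
def g4 (X0 X1 : M) : M := g1 X0 X1 * X1
def g5 (X0 X1 : M) : M := g2 X0 X1 * X0
def g6 (X0 X1 : M) : M := g2 X0 X1 * X1
def g7 (X0 X1 : M) : M := g3 X0 X1 * X1
def g8 (X0 X1 : M) : M := g4 X0 X1 * X0
def g9 (X0 X1 : M) : M := g4 X0 X1 * X1
def g10 (X0 X1 : M) : M := g5 X0 X1 * X0
def g11 (X0 X1 : M) : M := g6 X0 X1 * X0
def g12 (X0 X1 : M) : M := g6 X0 X1 * X1
def g13 (X0 X1 : M) : M := g7 X0 X1 * X0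
def g14 (X0 X1 : M) : M := g7 X0 X1 * X1
def g15 (X0 X1 : M) : M := g8 X0 X1 * X0
def g16 (X0 X1 : M) : M := g9 X0 X1 * X0
def g17 (X0 X1 : M) : M := g9 X0 X1 * X1
def g18 (X0 X1 : M) : M := g10 X0 X1 * X1
def g19 (X0 X1 : M) : M := g11 X0 X1 * X0
def g20 (X0 X1 : M) : M := g12 X0 X1 * X0
def g21 (X0 X1 : M) : M := g13 X0 X1 * X0
def g22 (X0 X1 : M) : M := g14 X0 X1 * X0
def g23 (X0 X1 : M) : M := g14 X0 X1 * X1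
def g24 (X0 X1 : M) : M := g15 X0 X1 * X1
def g25 (X0 X1 : M) : M := g16 X0 X1 * X0
def g26 (X0 X1 : M) : M := g17 X0 X1 * X0
def g27 (X0 X1 : M) : M := g18 X0 X1 * X1
def g28 (X0 X1 : M) : M := g19 X0 X1 * X1
def g29 (X0 X1 : M) : M := g21 X0 X1 * X1
def g30 (X0 X1 : M) : M := g22 X0 X1 * X0
def g31 (X0 X1 : M) : M := g23 X0 X1 * X0
def g32 (X0 X1 : M) : M := g24 X0 X1 * X1
def g33 (X0 X1 : M) : M := g25 X0 X1 * X1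
def g34 (X0 X1 : M) : M := g27 X0 X1 * X0
def g35 (X0 X1 : M) : M := g27 X0 X1 * X1
def g36 (X0 X1 : M) : M := g28 X0 X1 * X1
def g37 (X0 X1 : M) : M := g29 X0 X1 * X1
def g38 (X0 X1 : M) : M := g30 X0 X1 * X1
def g39 (X0 X1 : M) : M := g32 X0 X1 * X0
def g40 (X0 X1 : M) : M := g32 X0 X1 * X1
def g41 (X0 X1 : M) : M := g33 X0 X1 * X1
def g42 (X0 X1 : M) : M := g34 X0 X1 * X0
def g43 (X0 X1 : M) : M := g35 X0 X1 * X0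
def g44 (X0 X1 : M) : M := g36 X0 X1 * X0
def g45 (X0 X1 : M) : M := g37 X0 X1 * X0
def g46 (X0 X1 : M) : M := g37 X0 X1 * X1
def g47 (X0 X1 : M) : M := g38 X0 X1 * X1
def g48 (X0 X1 : M) : M := g39 X0 X1 * X0
def g49 (X0 X1 : M) : M := g40 X0 X1 * X0
def g50 (X0 X1 : M) : M := g41 X0 X1 * X0
def g51 (X0 X1 : M) : M := g42 X0 X1 * X1
def g52 (X0 X1 : M) : M := g44 X0 X1 * X0
def g53 (X0 X1 : M) : M := g45 X0 X1 * X0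
def g54 (X0 X1 : M) : M := g46 X0 X1 * X0
def g55 (X0 X1 : M) : M := g47 X0 X1 * X0
def g56 (X0 X1 : M) : M := g50 X0 X1 * X0
def g57 (X0 X1 : M) : M := g51 X0 X1 * X1
def g58 (X0 X1 : M) : M := g52 X0 X1 * X1
def g59 (X0 X1 : M) : M := g56 X0 X1 * X1


theorem rel_0_1 (X0 X1 : M) (hr0 : X0 * (X0 * (X0 * 1)) = 1) (hr1 : X1 * (X1 * (X1 * (X1 * (X1 * 1)))) = 1) (hr2 : X0 * (X1 * (X0 * (X1 * 1))) = 1) : (X0 * 1) * (X0 * (X0 * 1)) = 1 := by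
  simpa only [mul_assoc, mul_one, one_mul] using hr0
theorem rel_0_2 (X0 X1 : M) (hr0 : X0 * (X0 * (X0 * 1)) = 1) (hr1 : X1 * (X1 * (X1 * (X1 * (X1 * 1)))) = 1) (hr2 : X0 * (X1 * (X0 * (X1 * 1))) = 1) : (X0 * (X0 * 1)) * (X0 * (1)) = 1 := by
  simpa only [mul_assoc, mul_one, one_mul] using hr0
theorem rel_1_2 (X0 X1 : M) (hr0 : X0 * (X0 * (X0 * 1)) = 1) (hr1 : X1 * (X1 * (X1 * (X1 * (X1 * 1)))) = 1) (hr2 : X0 * (X1 * (X0 * (X1 * 1))) = 1) : (X1 * (X1 * 1)) * (X1 * (X1 * (X1 * 1))) = 1 := by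
  simpa only [mul_assoc, mul_one, one_mul] using hr1
theorem rel_1_3 (X0 X1 : M) (hr0 : X0 * (X0 * (X0 * 1)) = 1) (hr1 : X1 * (X1 * (X1 * (X1 * (X1 * 1)))) = 1) (hr2 : X0 * (X1 * (X0 * (X1 * 1))) = 1) : (X1 * (X1 * (X1 * 1))) * (X1 * (X1 * 1)) = 1 := by
  simpa only [mul_assoc, mul_one, one_mul] using hr1
theorem rel_2_1 (X0 X1 : M) (hr0 : X0 * (X0 * (X0 * 1)) = 1) (hr1 : X1 * (X1 * (X1 * (X1 * (X1 * 1)))) = 1) (hr2 : X0 * (X1 * (X0 * (X1 * 1))) = 1) : (X0 * 1) * (X1 * (X0 * (X1 * 1))) = 1 := by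
  simpa only [mul_assoc, mul_one, one_mul] using hr2
theorem rel_2_2 (X0 X1 : M) (hr0 : X0 * (X0 * (X0 * 1)) = 1) (hr1 : X1 * (X1 * (X1 * (X1 * (X1 * 1)))) = 1) (hr2 : X0 * (X1 * (X0 * (X1 * 1))) = 1) : (X0 * (X1 * 1)) * (X0 * (X1 * 1)) = 1 := by
  simpa only [mul_assoc, mul_one, one_mul] using hr2
theorem rel_2_3 (X0 X1 : M) (hr0 : X0 * (X0 * (X0 * 1)) = 1) (hr1 : X1 * (X1 * (X1 * (X1 * (X1 * 1)))) = 1) (hr2 : X0 * (X1 * (X0 * (X1 * 1))) = 1) : (X0 * (X1 * (X0 * 1))) * (X1 * (1)) = 1 := by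
  simpa only [mul_assoc, mul_one, one_mul] using hr2

theorem E_0_0 (X0 X1 : M) : g0 X0 X1 * X0 = g1 X0 X1 := rfl
theorem E_0_1 (X0 X1 : M) : g0 X0 X1 * X1 = g2 X0 X1 := rfl
theorem E_1_0 (X0 X1 : M) : g1 X0 X1 * X0 = g3 X0 X1 := rfl
theorem E_1_1 (X0 X1 : M) : g1 X0 X1 * X1 = g4 X0 X1 := rfl
theorem E_2_0 (X0 X1 : M) : g2 X0 X1 * X0 = g5 X0 X1 := rfl
theorem E_2_1 (X0 X1 : M) : g2 X0 X1 * X1 = g6 X0 X1 := rfl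
theorem E_3_1 (X0 X1 : M) : g3 X0 X1 * X1 = g7 X0 X1 := rfl
theorem E_4_0 (X0 X1 : M) : g4 X0 X1 * X0 = g8 X0 X1 := rfl
theorem E_4_1 (X0 X1 : M) : g4 X0 X1 * X1 = g9 X0 X1 := rfl
theorem E_5_0 (X0 X1 : M) : g5 X0 X1 * X0 = g10 X0 X1 := rfl
theorem E_6_0 (X0 X1 : M) : g6 X0 X1 * X0 = g11 X0 X1 := rfl
theorem E_6_1 (X0 X1 : M) : g6 X0 X1 * X1 = g12 X0 X1 := rfl
theorem E_7_0 (X0 X1 : M) : g7 X0 X1 * X0 = g13 X0 X1 := rfl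
theorem E_7_1 (X0 X1 : M) : g7 X0 X1 * X1 = g14 X0 X1 := rfl
theorem E_8_0 (X0 X1 : M) : g8 X0 X1 * X0 = g15 X0 X1 := rfl
theorem E_9_0 (X0 X1 : M) : g9 X0 X1 * X0 = g16 X0 X1 := rfl
theorem E_9_1 (X0 X1 : M) : g9 X0 X1 * X1 = g17 X0 X1 := rfl
theorem E_10_1 (X0 X1 : M) : g10 X0 X1 * X1 = g18 X0 X1 := rfl
theorem E_11_0 (X0 X1 : M) : g11 X0 X1 * X0 = g19 X0 X1 := rfl
theorem E_12_0 (X0 X1 : M) : g12 X0 X1 * X0 = g20 X0 X1 := rfl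
theorem E_13_0 (X0 X1 : M) : g13 X0 X1 * X0 = g21 X0 X1 := rfl
theorem E_14_0 (X0 X1 : M) : g14 X0 X1 * X0 = g22 X0 X1 := rfl
theorem E_14_1 (X0 X1 : M) : g14 X0 X1 * X1 = g23 X0 X1 := rfl
theorem E_15_1 (X0 X1 : M) : g15 X0 X1 * X1 = g24 X0 X1 := rfl
theorem E_16_0 (X0 X1 : M) : g16 X0 X1 * X0 = g25 X0 X1 := rfl
theorem E_17_0 (X0 X1 : M) : g17 X0 X1 * X0 = g26 X0 X1 := rfl
theorem E_18_1 (X0 X1 : M) : g18 X0 X1 * X1 = g27 X0 X1 := rfl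
theorem E_19_1 (X0 X1 : M) : g19 X0 X1 * X1 = g28 X0 X1 := rfl
theorem E_21_1 (X0 X1 : M) : g21 X0 X1 * X1 = g29 X0 X1 := rfl
theorem E_22_0 (X0 X1 : M) : g22 X0 X1 * X0 = g30 X0 X1 := rfl
theorem E_23_0 (X0 X1 : M) : g23 X0 X1 * X0 = g31 X0 X1 := rfl
theorem E_24_1 (X0 X1 : M) : g24 X0 X1 * X1 = g32 X0 X1 := rfl
theorem E_25_1 (X0 X1 : M) : g25 X0 X1 * X1 = g33 X0 X1 := rfl
theorem E_27_0 (X0 X1 : M) : g27 X0 X1 * X0 = g34 X0 X1 := rfl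
theorem E_27_1 (X0 X1 : M) : g27 X0 X1 * X1 = g35 X0 X1 := rfl
theorem E_28_1 (X0 X1 : M) : g28 X0 X1 * X1 = g36 X0 X1 := rfl
theorem E_29_1 (X0 X1 : M) : g29 X0 X1 * X1 = g37 X0 X1 := rfl
theorem E_30_1 (X0 X1 : M) : g30 X0 X1 * X1 = g38 X0 X1 := rfl
theorem E_32_0 (X0 X1 : M) : g32 X0 X1 * X0 = g39 X0 X1 := rfl
theorem E_32_1 (X0 X1 : M) : g32 X0 X1 * X1 = g40 X0 X1 := rfl
theorem E_33_1 (X0 X1 : M) : g33 X0 X1 * X1 = g41 X0 X1 := rfl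
theorem E_34_0 (X0 X1 : M) : g34 X0 X1 * X0 = g42 X0 X1 := rfl
theorem E_35_0 (X0 X1 : M) : g35 X0 X1 * X0 = g43 X0 X1 := rfl
theorem E_36_0 (X0 X1 : M) : g36 X0 X1 * X0 = g44 X0 X1 := rfl
theorem E_37_0 (X0 X1 : M) : g37 X0 X1 * X0 = g45 X0 X1 := rfl
theorem E_37_1 (X0 X1 : M) : g37 X0 X1 * X1 = g46 X0 X1 := rfl
theorem E_38_1 (X0 X1 : M) : g38 X0 X1 * X1 = g47 X0 X1 := rfl
theorem E_39_0 (X0 X1 : M) : g39 X0 X1 * X0 = g48 X0 X1 := rfl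
theorem E_40_0 (X0 X1 : M) : g40 X0 X1 * X0 = g49 X0 X1 := rfl
theorem E_41_0 (X0 X1 : M) : g41 X0 X1 * X0 = g50 X0 X1 := rfl
theorem E_42_1 (X0 X1 : M) : g42 X0 X1 * X1 = g51 X0 X1 := rfl
theorem E_44_0 (X0 X1 : M) : g44 X0 X1 * X0 = g52 X0 X1 := rfl
theorem E_45_0 (X0 X1 : M) : g45 X0 X1 * X0 = g53 X0 X1 := rfl
theorem E_46_0 (X0 X1 : M) : g46 X0 X1 * X0 = g54 X0 X1 := rfl
theorem E_47_0 (X0 X1 : M) : g47 X0 X1 * X0 = g55 X0 X1 := rfl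
theorem E_50_0 (X0 X1 : M) : g50 X0 X1 * X0 = g56 X0 X1 := rfl
theorem E_51_1 (X0 X1 : M) : g51 X0 X1 * X1 = g57 X0 X1 := rfl
theorem E_52_1 (X0 X1 : M) : g52 X0 X1 * X1 = g58 X0 X1 := rfl
theorem E_56_1 (X0 X1 : M) : g56 X0 X1 * X1 = g59 X0 X1 := rfl

theorem E_3_0 (X0 X1 : M) (hr0 : X0 * (X0 * (X0 * 1)) = 1) (hr1 : X1 * (X1 * (X1 * (X1 * (X1 * 1)))) = 1) (hr2 : X0 * (X1 * (X0 * (X1 * 1))) = 1) : g3 X0 X1 * X0 = g0 X0 X1 :=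
  deduce (path_cons (E_0_0 X0 X1) (path_cons (E_1_0 X0 X1) (path_nil (g3 X0 X1)))) (path_nil (g0 X0 X1)) (rel_0_2 X0 X1 hr0 hr1 hr2)
theorem E_10_0 (X0 X1 : M) (hr0 : X0 * (X0 * (X0 * 1)) = 1) (hr1 : X1 * (X1 * (X1 * (X1 * (X1 * 1)))) = 1) (hr2 : X0 * (X1 * (X0 * (X1 * 1))) = 1) : g10 X0 X1 * X0 = g2 X0 X1 :=
  deduce (path_cons (E_2_0 X0 X1) (path_cons (E_5_0 X0 X1) (path_nil (g10 X0 X1)))) (path_nil (g2 X0 X1)) (rel_0_2 X0 X1 hr0 hr1 hr2)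
theorem E_15_0 (X0 X1 : M) (hr0 : X0 * (X0 * (X0 * 1)) = 1) (hr1 : X1 * (X1 * (X1 * (X1 * (X1 * 1)))) = 1) (hr2 : X0 * (X1 * (X0 * (X1 * 1))) = 1) : g15 X0 X1 * X0 = g4 X0 X1 :=
  deduce (path_cons (E_4_0 X0 X1) (path_cons (E_8_0 X0 X1) (path_nil (g15 X0 X1)))) (path_nil (g4 X0 X1)) (rel_0_2 X0 X1 hr0 hr1 hr2)
theorem E_19_0 (X0 X1 : M) (hr0 : X0 * (X0 * (X0 * 1)) = 1) (hr1 : X1 * (X1 * (X1 * (X1 * (X1 * 1)))) = 1) (hr2 : X0 * (X1 * (X0 * (X1 * 1))) = 1) : g19 X0 X1 * X0 = g6 X0 X1 :=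
  deduce (path_cons (E_6_0 X0 X1) (path_cons (E_11_0 X0 X1) (path_nil (g19 X0 X1)))) (path_nil (g6 X0 X1)) (rel_0_2 X0 X1 hr0 hr1 hr2)
theorem E_21_0 (X0 X1 : M) (hr0 : X0 * (X0 * (X0 * 1)) = 1) (hr1 : X1 * (X1 * (X1 * (X1 * (X1 * 1)))) = 1) (hr2 : X0 * (X1 * (X0 * (X1 * 1))) = 1) : g21 X0 X1 * X0 = g7 X0 X1 :=
  deduce (path_cons (E_7_0 X0 X1) (path_cons (E_13_0 X0 X1) (path_nil (g21 X0 X1)))) (path_nil (g7 X0 X1)) (rel_0_2 X0 X1 hr0 hr1 hr2)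
theorem E_25_0 (X0 X1 : M) (hr0 : X0 * (X0 * (X0 * 1)) = 1) (hr1 : X1 * (X1 * (X1 * (X1 * (X1 * 1)))) = 1) (hr2 : X0 * (X1 * (X0 * (X1 * 1))) = 1) : g25 X0 X1 * X0 = g9 X0 X1 :=
  deduce (path_cons (E_9_0 X0 X1) (path_cons (E_16_0 X0 X1) (path_nil (g25 X0 X1)))) (path_nil (g9 X0 X1)) (rel_0_2 X0 X1 hr0 hr1 hr2)
theorem E_30_0 (X0 X1 : M) (hr0 : X0 * (X0 * (X0 * 1)) = 1) (hr1 : X1 * (X1 * (X1 * (X1 * (X1 * 1)))) = 1) (hr2 : X0 * (X1 * (X0 * (X1 * 1))) = 1) : g30 X0 X1 * X0 = g14 X0 X1 :=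
  deduce (path_cons (E_14_0 X0 X1) (path_cons (E_22_0 X0 X1) (path_nil (g30 X0 X1)))) (path_nil (g14 X0 X1)) (rel_0_2 X0 X1 hr0 hr1 hr2)
theorem E_42_0 (X0 X1 : M) (hr0 : X0 * (X0 * (X0 * 1)) = 1) (hr1 : X1 * (X1 * (X1 * (X1 * (X1 * 1)))) = 1) (hr2 : X0 * (X1 * (X0 * (X1 * 1))) = 1) : g42 X0 X1 * X0 = g27 X0 X1 :=
  deduce (path_cons (E_27_0 X0 X1) (path_cons (E_34_0 X0 X1) (path_nil (g42 X0 X1)))) (path_nil (g27 X0 X1)) (rel_0_2 X0 X1 hr0 hr1 hr2)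
theorem E_48_0 (X0 X1 : M) (hr0 : X0 * (X0 * (X0 * 1)) = 1) (hr1 : X1 * (X1 * (X1 * (X1 * (X1 * 1)))) = 1) (hr2 : X0 * (X1 * (X0 * (X1 * 1))) = 1) : g48 X0 X1 * X0 = g32 X0 X1 :=
  deduce (path_cons (E_32_0 X0 X1) (path_cons (E_39_0 X0 X1) (path_nil (g48 X0 X1)))) (path_nil (g32 X0 X1)) (rel_0_2 X0 X1 hr0 hr1 hr2)
theorem E_52_0 (X0 X1 : M) (hr0 : X0 * (X0 * (X0 * 1)) = 1) (hr1 : X1 * (X1 * (X1 * (X1 * (X1 * 1)))) = 1) (hr2 : X0 * (X1 * (X0 * (X1 * 1))) = 1) : g52 X0 X1 * X0 = g36 X0 X1 :=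
  deduce (path_cons (E_36_0 X0 X1) (path_cons (E_44_0 X0 X1) (path_nil (g52 X0 X1)))) (path_nil (g36 X0 X1)) (rel_0_2 X0 X1 hr0 hr1 hr2)
theorem E_53_0 (X0 X1 : M) (hr0 : X0 * (X0 * (X0 * 1)) = 1) (hr1 : X1 * (X1 * (X1 * (X1 * (X1 * 1)))) = 1) (hr2 : X0 * (X1 * (X0 * (X1 * 1))) = 1) : g53 X0 X1 * X0 = g37 X0 X1 :=
  deduce (path_cons (E_37_0 X0 X1) (path_cons (E_45_0 X0 X1) (path_nil (g53 X0 X1)))) (path_nil (g37 X0 X1)) (rel_0_2 X0 X1 hr0 hr1 hr2)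
theorem E_56_0 (X0 X1 : M) (hr0 : X0 * (X0 * (X0 * 1)) = 1) (hr1 : X1 * (X1 * (X1 * (X1 * (X1 * 1)))) = 1) (hr2 : X0 * (X1 * (X0 * (X1 * 1))) = 1) : g56 X0 X1 * X0 = g41 X0 X1 :=
  deduce (path_cons (E_41_0 X0 X1) (path_cons (E_50_0 X0 X1) (path_nil (g56 X0 X1)))) (path_nil (g41 X0 X1)) (rel_0_2 X0 X1 hr0 hr1 hr2)
theorem E_8_1 (X0 X1 : M) (hr0 : X0 * (X0 * (X0 * 1)) = 1) (hr1 : X1 * (X1 * (X1 * (X1 * (X1 * 1)))) = 1) (hr2 : X0 * (X1 * (X0 * (X1 * 1))) = 1) : g8 X0 X1 * X1 = g0 X0 X1 :=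
  deduce (path_cons (E_0_0 X0 X1) (path_cons (E_1_1 X0 X1) (path_cons (E_4_0 X0 X1) (path_nil (g8 X0 X1))))) (path_nil (g0 X0 X1)) (rel_2_3 X0 X1 hr0 hr1 hr2)
theorem E_13_1 (X0 X1 : M) (hr0 : X0 * (X0 * (X0 * 1)) = 1) (hr1 : X1 * (X1 * (X1 * (X1 * (X1 * 1)))) = 1) (hr2 : X0 * (X1 * (X0 * (X1 * 1))) = 1) : g13 X0 X1 * X1 = g1 X0 X1 :=
  deduce (path_cons (E_1_0 X0 X1) (path_cons (E_3_1 X0 X1) (path_cons (E_7_0 X0 X1) (path_nil (g13 X0 X1))))) (path_nil (g1 X0 X1)) (rel_2_3 X0 X1 hr0 hr1 hr2)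
theorem E_5_1 (X0 X1 : M) (hr0 : X0 * (X0 * (X0 * 1)) = 1) (hr1 : X1 * (X1 * (X1 * (X1 * (X1 * 1)))) = 1) (hr2 : X0 * (X1 * (X0 * (X1 * 1))) = 1) : g5 X0 X1 * X1 = g3 X0 X1 :=
  deduce (path_cons (E_2_0 X0 X1) (path_nil (g5 X0 X1))) (path_cons (E_3_0 X0 X1 hr0 hr1 hr2) (path_cons (E_0_1 X0 X1) (path_nil (g2 X0 X1)))) (rel_2_1 X0 X1 hr0 hr1 hr2)
theorem E_11_1 (X0 X1 : M) (hr0 : X0 * (X0 * (X0 * 1)) = 1) (hr1 : X1 * (X1 * (X1 * (X1 * (X1 * 1)))) = 1) (hr2 : X0 * (X1 * (X0 * (X1 * 1))) = 1) : g11 X0 X1 * X1 = g10 X0 X1 :=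
  deduce (path_cons (E_6_0 X0 X1) (path_nil (g11 X0 X1))) (path_cons (E_10_0 X0 X1 hr0 hr1 hr2) (path_cons (E_2_1 X0 X1) (path_nil (g6 X0 X1)))) (rel_2_1 X0 X1 hr0 hr1 hr2)
theorem E_16_1 (X0 X1 : M) (hr0 : X0 * (X0 * (X0 * 1)) = 1) (hr1 : X1 * (X1 * (X1 * (X1 * (X1 * 1)))) = 1) (hr2 : X0 * (X1 * (X0 * (X1 * 1))) = 1) : g16 X0 X1 * X1 = g15 X0 X1 :=
  deduce (path_cons (E_9_0 X0 X1) (path_nil (g16 X0 X1))) (path_cons (E_15_0 X0 X1 hr0 hr1 hr2) (path_cons (E_4_1 X0 X1) (path_nil (g9 X0 X1)))) (rel_2_1 X0 X1 hr0 hr1 hr2)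
theorem E_20_1 (X0 X1 : M) (hr0 : X0 * (X0 * (X0 * 1)) = 1) (hr1 : X1 * (X1 * (X1 * (X1 * (X1 * 1)))) = 1) (hr2 : X0 * (X1 * (X0 * (X1 * 1))) = 1) : g20 X0 X1 * X1 = g19 X0 X1 :=
  deduce (path_cons (E_12_0 X0 X1) (path_nil (g20 X0 X1))) (path_cons (E_19_0 X0 X1 hr0 hr1 hr2) (path_cons (E_6_1 X0 X1) (path_nil (g12 X0 X1)))) (rel_2_1 X0 X1 hr0 hr1 hr2)
theorem E_22_1 (X0 X1 : M) (hr0 : X0 * (X0 * (X0 * 1)) = 1) (hr1 : X1 * (X1 * (X1 * (X1 * (X1 * 1)))) = 1) (hr2 : X0 * (X1 * (X0 * (X1 * 1))) = 1) : g22 X0 X1 * X1 = g21 X0 X1 :=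
  deduce (path_cons (E_14_0 X0 X1) (path_nil (g22 X0 X1))) (path_cons (E_21_0 X0 X1 hr0 hr1 hr2) (path_cons (E_7_1 X0 X1) (path_nil (g14 X0 X1)))) (rel_2_1 X0 X1 hr0 hr1 hr2)
theorem E_26_1 (X0 X1 : M) (hr0 : X0 * (X0 * (X0 * 1)) = 1) (hr1 : X1 * (X1 * (X1 * (X1 * (X1 * 1)))) = 1) (hr2 : X0 * (X1 * (X0 * (X1 * 1))) = 1) : g26 X0 X1 * X1 = g25 X0 X1 :=
  deduce (path_cons (E_17_0 X0 X1) (path_nil (g26 X0 X1))) (path_cons (E_25_0 X0 X1 hr0 hr1 hr2) (path_cons (E_9_1 X0 X1) (path_nil (g17 X0 X1)))) (rel_2_1 X0 X1 hr0 hr1 hr2)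
theorem E_31_1 (X0 X1 : M) (hr0 : X0 * (X0 * (X0 * 1)) = 1) (hr1 : X1 * (X1 * (X1 * (X1 * (X1 * 1)))) = 1) (hr2 : X0 * (X1 * (X0 * (X1 * 1))) = 1) : g31 X0 X1 * X1 = g30 X0 X1 :=
  deduce (path_cons (E_23_0 X0 X1) (path_nil (g31 X0 X1))) (path_cons (E_30_0 X0 X1 hr0 hr1 hr2) (path_cons (E_14_1 X0 X1) (path_nil (g23 X0 X1)))) (rel_2_1 X0 X1 hr0 hr1 hr2)
theorem E_43_1 (X0 X1 : M) (hr0 : X0 * (X0 * (X0 * 1)) = 1) (hr1 : X1 * (X1 * (X1 * (X1 * (X1 * 1)))) = 1) (hr2 : X0 * (X1 * (X0 * (X1 * 1))) = 1) : g43 X0 X1 * X1 = g42 X0 X1 :=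
  deduce (path_cons (E_35_0 X0 X1) (path_nil (g43 X0 X1))) (path_cons (E_42_0 X0 X1 hr0 hr1 hr2) (path_cons (E_27_1 X0 X1) (path_nil (g35 X0 X1)))) (rel_2_1 X0 X1 hr0 hr1 hr2)
theorem E_49_1 (X0 X1 : M) (hr0 : X0 * (X0 * (X0 * 1)) = 1) (hr1 : X1 * (X1 * (X1 * (X1 * (X1 * 1)))) = 1) (hr2 : X0 * (X1 * (X0 * (X1 * 1))) = 1) : g49 X0 X1 * X1 = g48 X0 X1 :=
  deduce (path_cons (E_40_0 X0 X1) (path_nil (g49 X0 X1))) (path_cons (E_48_0 X0 X1 hr0 hr1 hr2) (path_cons (E_32_1 X0 X1) (path_nil (g40 X0 X1)))) (rel_2_1 X0 X1 hr0 hr1 hr2)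
theorem E_54_1 (X0 X1 : M) (hr0 : X0 * (X0 * (X0 * 1)) = 1) (hr1 : X1 * (X1 * (X1 * (X1 * (X1 * 1)))) = 1) (hr2 : X0 * (X1 * (X0 * (X1 * 1))) = 1) : g54 X0 X1 * X1 = g53 X0 X1 :=
  deduce (path_cons (E_46_0 X0 X1) (path_nil (g54 X0 X1))) (path_cons (E_53_0 X0 X1 hr0 hr1 hr2) (path_cons (E_37_1 X0 X1) (path_nil (g46 X0 X1)))) (rel_2_1 X0 X1 hr0 hr1 hr2)
theorem E_12_1 (X0 X1 : M) (hr0 : X0 * (X0 * (X0 * 1)) = 1) (hr1 : X1 * (X1 * (X1 * (X1 * (X1 * 1)))) = 1) (hr2 : X0 * (X1 * (X0 * (X1 * 1))) = 1) : g12 X0 X1 * X1 = g8 X0 X1 :=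
  deduce (path_cons (E_0_1 X0 X1) (path_cons (E_2_1 X0 X1) (path_cons (E_6_1 X0 X1) (path_nil (g12 X0 X1))))) (path_cons (E_8_1 X0 X1 hr0 hr1 hr2) (path_nil (g0 X0 X1))) (rel_1_3 X0 X1 hr0 hr1 hr2)
theorem E_17_1 (X0 X1 : M) (hr0 : X0 * (X0 * (X0 * 1)) = 1) (hr1 : X1 * (X1 * (X1 * (X1 * (X1 * 1)))) = 1) (hr2 : X0 * (X1 * (X0 * (X1 * 1))) = 1) : g17 X0 X1 * X1 = g13 X0 X1 :=
  deduce (path_cons (E_1_1 X0 X1) (path_cons (E_4_1 X0 X1) (path_cons (E_9_1 X0 X1) (path_nil (g17 X0 X1))))) (path_cons (E_13_1 X0 X1 hr0 hr1 hr2) (path_nil (g1 X0 X1))) (rel_1_3 X0 X1 hr0 hr1 hr2)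
theorem E_23_1 (X0 X1 : M) (hr0 : X0 * (X0 * (X0 * 1)) = 1) (hr1 : X1 * (X1 * (X1 * (X1 * (X1 * 1)))) = 1) (hr2 : X0 * (X1 * (X0 * (X1 * 1))) = 1) : g23 X0 X1 * X1 = g5 X0 X1 :=
  deduce (path_cons (E_3_1 X0 X1) (path_cons (E_7_1 X0 X1) (path_cons (E_14_1 X0 X1) (path_nil (g23 X0 X1))))) (path_cons (E_5_1 X0 X1 hr0 hr1 hr2) (path_nil (g3 X0 X1))) (rel_1_3 X0 X1 hr0 hr1 hr2)
theorem E_35_1 (X0 X1 : M) (hr0 : X0 * (X0 * (X0 * 1)) = 1) (hr1 : X1 * (X1 * (X1 * (X1 * (X1 * 1)))) = 1) (hr2 : X0 * (X1 * (X0 * (X1 * 1))) = 1) : g35 X0 X1 * X1 = g11 X0 X1 :=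
  deduce (path_cons (E_10_1 X0 X1) (path_cons (E_18_1 X0 X1) (path_cons (E_27_1 X0 X1) (path_nil (g35 X0 X1))))) (path_cons (E_11_1 X0 X1 hr0 hr1 hr2) (path_nil (g10 X0 X1))) (rel_1_3 X0 X1 hr0 hr1 hr2)
theorem E_40_1 (X0 X1 : M) (hr0 : X0 * (X0 * (X0 * 1)) = 1) (hr1 : X1 * (X1 * (X1 * (X1 * (X1 * 1)))) = 1) (hr2 : X0 * (X1 * (X0 * (X1 * 1))) = 1) : g40 X0 X1 * X1 = g16 X0 X1 :=
  deduce (path_cons (E_15_1 X0 X1) (path_cons (E_24_1 X0 X1) (path_cons (E_32_1 X0 X1) (path_nil (g40 X0 X1))))) (path_cons (E_16_1 X0 X1 hr0 hr1 hr2) (path_nil (g15 X0 X1))) (rel_1_3 X0 X1 hr0 hr1 hr2)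
theorem E_46_1 (X0 X1 : M) (hr0 : X0 * (X0 * (X0 * 1)) = 1) (hr1 : X1 * (X1 * (X1 * (X1 * (X1 * 1)))) = 1) (hr2 : X0 * (X1 * (X0 * (X1 * 1))) = 1) : g46 X0 X1 * X1 = g22 X0 X1 :=
  deduce (path_cons (E_21_1 X0 X1) (path_cons (E_29_1 X0 X1) (path_cons (E_37_1 X0 X1) (path_nil (g46 X0 X1))))) (path_cons (E_22_1 X0 X1 hr0 hr1 hr2) (path_nil (g21 X0 X1))) (rel_1_3 X0 X1 hr0 hr1 hr2)
theorem E_18_0 (X0 X1 : M) (hr0 : X0 * (X0 * (X0 * 1)) = 1) (hr1 : X1 * (X1 * (X1 * (X1 * (X1 * 1)))) = 1) (hr2 : X0 * (X1 * (X0 * (X1 * 1))) = 1) : g18 X0 X1 * X0 = g23 X0 X1 :=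
  deduce (path_cons (E_5_0 X0 X1) (path_cons (E_10_1 X0 X1) (path_nil (g18 X0 X1)))) (path_cons (E_23_1 X0 X1 hr0 hr1 hr2) (path_nil (g5 X0 X1))) (rel_2_2 X0 X1 hr0 hr1 hr2)
theorem E_24_0 (X0 X1 : M) (hr0 : X0 * (X0 * (X0 * 1)) = 1) (hr1 : X1 * (X1 * (X1 * (X1 * (X1 * 1)))) = 1) (hr2 : X0 * (X1 * (X0 * (X1 * 1))) = 1) : g24 X0 X1 * X0 = g12 X0 X1 :=
  deduce (path_cons (E_8_0 X0 X1) (path_cons (E_15_1 X0 X1) (path_nil (g24 X0 X1)))) (path_cons (E_12_1 X0 X1 hr0 hr1 hr2) (path_nil (g8 X0 X1))) (rel_2_2 X0 X1 hr0 hr1 hr2)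
theorem E_28_0 (X0 X1 : M) (hr0 : X0 * (X0 * (X0 * 1)) = 1) (hr1 : X1 * (X1 * (X1 * (X1 * (X1 * 1)))) = 1) (hr2 : X0 * (X1 * (X0 * (X1 * 1))) = 1) : g28 X0 X1 * X0 = g35 X0 X1 :=
  deduce (path_cons (E_11_0 X0 X1) (path_cons (E_19_1 X0 X1) (path_nil (g28 X0 X1)))) (path_cons (E_35_1 X0 X1 hr0 hr1 hr2) (path_nil (g11 X0 X1))) (rel_2_2 X0 X1 hr0 hr1 hr2)
theorem E_29_0 (X0 X1 : M) (hr0 : X0 * (X0 * (X0 * 1)) = 1) (hr1 : X1 * (X1 * (X1 * (X1 * (X1 * 1)))) = 1) (hr2 : X0 * (X1 * (X0 * (X1 * 1))) = 1) : g29 X0 X1 * X0 = g17 X0 X1 :=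
  deduce (path_cons (E_13_0 X0 X1) (path_cons (E_21_1 X0 X1) (path_nil (g29 X0 X1)))) (path_cons (E_17_1 X0 X1 hr0 hr1 hr2) (path_nil (g13 X0 X1))) (rel_2_2 X0 X1 hr0 hr1 hr2)
theorem E_33_0 (X0 X1 : M) (hr0 : X0 * (X0 * (X0 * 1)) = 1) (hr1 : X1 * (X1 * (X1 * (X1 * (X1 * 1)))) = 1) (hr2 : X0 * (X1 * (X0 * (X1 * 1))) = 1) : g33 X0 X1 * X0 = g40 X0 X1 :=
  deduce (path_cons (E_16_0 X0 X1) (path_cons (E_25_1 X0 X1) (path_nil (g33 X0 X1)))) (path_cons (E_40_1 X0 X1 hr0 hr1 hr2) (path_nil (g16 X0 X1))) (rel_2_2 X0 X1 hr0 hr1 hr2)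
theorem E_38_0 (X0 X1 : M) (hr0 : X0 * (X0 * (X0 * 1)) = 1) (hr1 : X1 * (X1 * (X1 * (X1 * (X1 * 1)))) = 1) (hr2 : X0 * (X1 * (X0 * (X1 * 1))) = 1) : g38 X0 X1 * X0 = g46 X0 X1 :=
  deduce (path_cons (E_22_0 X0 X1) (path_cons (E_30_1 X0 X1) (path_nil (g38 X0 X1)))) (path_cons (E_46_1 X0 X1 hr0 hr1 hr2) (path_nil (g22 X0 X1))) (rel_2_2 X0 X1 hr0 hr1 hr2)
theorem E_20_0 (X0 X1 : M) (hr0 : X0 * (X0 * (X0 * 1)) = 1) (hr1 : X1 * (X1 * (X1 * (X1 * (X1 * 1)))) = 1) (hr2 : X0 * (X1 * (X0 * (X1 * 1))) = 1) : g20 X0 X1 * X0 = g24 X0 X1 :=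
  deduce (path_cons (E_12_0 X0 X1) (path_nil (g20 X0 X1))) (path_cons (E_24_0 X0 X1 hr0 hr1 hr2) (path_nil (g12 X0 X1))) (rel_0_1 X0 X1 hr0 hr1 hr2)
theorem E_26_0 (X0 X1 : M) (hr0 : X0 * (X0 * (X0 * 1)) = 1) (hr1 : X1 * (X1 * (X1 * (X1 * (X1 * 1)))) = 1) (hr2 : X0 * (X1 * (X0 * (X1 * 1))) = 1) : g26 X0 X1 * X0 = g29 X0 X1 :=
  deduce (path_cons (E_17_0 X0 X1) (path_nil (g26 X0 X1))) (path_cons (E_29_0 X0 X1 hr0 hr1 hr2) (path_nil (g17 X0 X1))) (rel_0_1 X0 X1 hr0 hr1 hr2)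
theorem E_31_0 (X0 X1 : M) (hr0 : X0 * (X0 * (X0 * 1)) = 1) (hr1 : X1 * (X1 * (X1 * (X1 * (X1 * 1)))) = 1) (hr2 : X0 * (X1 * (X0 * (X1 * 1))) = 1) : g31 X0 X1 * X0 = g18 X0 X1 :=
  deduce (path_cons (E_18_0 X0 X1 hr0 hr1 hr2) (path_cons (E_23_0 X0 X1) (path_nil (g31 X0 X1)))) (path_nil (g18 X0 X1)) (rel_0_2 X0 X1 hr0 hr1 hr2)
theorem E_43_0 (X0 X1 : M) (hr0 : X0 * (X0 * (X0 * 1)) = 1) (hr1 : X1 * (X1 * (X1 * (X1 * (X1 * 1)))) = 1) (hr2 : X0 * (X1 * (X0 * (X1 * 1))) = 1) : g43 X0 X1 * X0 = g28 X0 X1 :=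
  deduce (path_cons (E_28_0 X0 X1 hr0 hr1 hr2) (path_cons (E_35_0 X0 X1) (path_nil (g43 X0 X1)))) (path_nil (g28 X0 X1)) (rel_0_2 X0 X1 hr0 hr1 hr2)
theorem E_49_0 (X0 X1 : M) (hr0 : X0 * (X0 * (X0 * 1)) = 1) (hr1 : X1 * (X1 * (X1 * (X1 * (X1 * 1)))) = 1) (hr2 : X0 * (X1 * (X0 * (X1 * 1))) = 1) : g49 X0 X1 * X0 = g33 X0 X1 :=
  deduce (path_cons (E_33_0 X0 X1 hr0 hr1 hr2) (path_cons (E_40_0 X0 X1) (path_nil (g49 X0 X1)))) (path_nil (g33 X0 X1)) (rel_0_2 X0 X1 hr0 hr1 hr2)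
theorem E_54_0 (X0 X1 : M) (hr0 : X0 * (X0 * (X0 * 1)) = 1) (hr1 : X1 * (X1 * (X1 * (X1 * (X1 * 1)))) = 1) (hr2 : X0 * (X1 * (X0 * (X1 * 1))) = 1) : g54 X0 X1 * X0 = g38 X0 X1 :=
  deduce (path_cons (E_38_0 X0 X1 hr0 hr1 hr2) (path_cons (E_46_0 X0 X1) (path_nil (g54 X0 X1)))) (path_nil (g38 X0 X1)) (rel_0_2 X0 X1 hr0 hr1 hr2)
theorem E_39_1 (X0 X1 : M) (hr0 : X0 * (X0 * (X0 * 1)) = 1) (hr1 : X1 * (X1 * (X1 * (X1 * (X1 * 1)))) = 1) (hr2 : X0 * (X1 * (X0 * (X1 * 1))) = 1) : g39 X0 X1 * X1 = g20 X0 X1 :=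
  deduce (path_cons (E_20_0 X0 X1 hr0 hr1 hr2) (path_cons (E_24_1 X0 X1) (path_cons (E_32_0 X0 X1) (path_nil (g39 X0 X1))))) (path_nil (g20 X0 X1)) (rel_2_3 X0 X1 hr0 hr1 hr2)
theorem E_45_1 (X0 X1 : M) (hr0 : X0 * (X0 * (X0 * 1)) = 1) (hr1 : X1 * (X1 * (X1 * (X1 * (X1 * 1)))) = 1) (hr2 : X0 * (X1 * (X0 * (X1 * 1))) = 1) : g45 X0 X1 * X1 = g26 X0 X1 :=
  deduce (path_cons (E_26_0 X0 X1 hr0 hr1 hr2) (path_cons (E_29_1 X0 X1) (path_cons (E_37_0 X0 X1) (path_nil (g45 X0 X1))))) (path_nil (g26 X0 X1)) (rel_2_3 X0 X1 hr0 hr1 hr2)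
theorem E_34_1 (X0 X1 : M) (hr0 : X0 * (X0 * (X0 * 1)) = 1) (hr1 : X1 * (X1 * (X1 * (X1 * (X1 * 1)))) = 1) (hr2 : X0 * (X1 * (X0 * (X1 * 1))) = 1) : g34 X0 X1 * X1 = g31 X0 X1 :=
  deduce (path_cons (E_27_0 X0 X1) (path_nil (g34 X0 X1))) (path_cons (E_31_0 X0 X1 hr0 hr1 hr2) (path_cons (E_18_1 X0 X1) (path_nil (g27 X0 X1)))) (rel_2_1 X0 X1 hr0 hr1 hr2)
theorem E_44_1 (X0 X1 : M) (hr0 : X0 * (X0 * (X0 * 1)) = 1) (hr1 : X1 * (X1 * (X1 * (X1 * (X1 * 1)))) = 1) (hr2 : X0 * (X1 * (X0 * (X1 * 1))) = 1) : g44 X0 X1 * X1 = g43 X0 X1 :=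
  deduce (path_cons (E_36_0 X0 X1) (path_nil (g44 X0 X1))) (path_cons (E_43_0 X0 X1 hr0 hr1 hr2) (path_cons (E_28_1 X0 X1) (path_nil (g36 X0 X1)))) (rel_2_1 X0 X1 hr0 hr1 hr2)
theorem E_50_1 (X0 X1 : M) (hr0 : X0 * (X0 * (X0 * 1)) = 1) (hr1 : X1 * (X1 * (X1 * (X1 * (X1 * 1)))) = 1) (hr2 : X0 * (X1 * (X0 * (X1 * 1))) = 1) : g50 X0 X1 * X1 = g49 X0 X1 :=
  deduce (path_cons (E_41_0 X0 X1) (path_nil (g50 X0 X1))) (path_cons (E_49_0 X0 X1 hr0 hr1 hr2) (path_cons (E_33_1 X0 X1) (path_nil (g41 X0 X1)))) (rel_2_1 X0 X1 hr0 hr1 hr2)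
theorem E_55_1 (X0 X1 : M) (hr0 : X0 * (X0 * (X0 * 1)) = 1) (hr1 : X1 * (X1 * (X1 * (X1 * (X1 * 1)))) = 1) (hr2 : X0 * (X1 * (X0 * (X1 * 1))) = 1) : g55 X0 X1 * X1 = g54 X0 X1 :=
  deduce (path_cons (E_47_0 X0 X1) (path_nil (g55 X0 X1))) (path_cons (E_54_0 X0 X1 hr0 hr1 hr2) (path_cons (E_38_1 X0 X1) (path_nil (g47 X0 X1)))) (rel_2_1 X0 X1 hr0 hr1 hr2)
theorem E_36_1 (X0 X1 : M) (hr0 : X0 * (X0 * (X0 * 1)) = 1) (hr1 : X1 * (X1 * (X1 * (X1 * (X1 * 1)))) = 1) (hr2 : X0 * (X1 * (X0 * (X1 * 1))) = 1) : g36 X0 X1 * X1 = g39 X0 X1 :=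
  deduce (path_cons (E_19_1 X0 X1) (path_cons (E_28_1 X0 X1) (path_nil (g36 X0 X1)))) (path_cons (E_39_1 X0 X1 hr0 hr1 hr2) (path_cons (E_20_1 X0 X1 hr0 hr1 hr2) (path_nil (g19 X0 X1)))) (rel_1_2 X0 X1 hr0 hr1 hr2)
theorem E_41_1 (X0 X1 : M) (hr0 : X0 * (X0 * (X0 * 1)) = 1) (hr1 : X1 * (X1 * (X1 * (X1 * (X1 * 1)))) = 1) (hr2 : X0 * (X1 * (X0 * (X1 * 1))) = 1) : g41 X0 X1 * X1 = g45 X0 X1 :=
  deduce (path_cons (E_25_1 X0 X1) (path_cons (E_33_1 X0 X1) (path_nil (g41 X0 X1)))) (path_cons (E_45_1 X0 X1 hr0 hr1 hr2) (path_cons (E_26_1 X0 X1 hr0 hr1 hr2) (path_nil (g25 X0 X1)))) (rel_1_2 X0 X1 hr0 hr1 hr2)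
theorem E_47_1 (X0 X1 : M) (hr0 : X0 * (X0 * (X0 * 1)) = 1) (hr1 : X1 * (X1 * (X1 * (X1 * (X1 * 1)))) = 1) (hr2 : X0 * (X1 * (X0 * (X1 * 1))) = 1) : g47 X0 X1 * X1 = g34 X0 X1 :=
  deduce (path_cons (E_30_1 X0 X1) (path_cons (E_38_1 X0 X1) (path_nil (g47 X0 X1)))) (path_cons (E_34_1 X0 X1 hr0 hr1 hr2) (path_cons (E_31_1 X0 X1 hr0 hr1 hr2) (path_nil (g30 X0 X1)))) (rel_1_2 X0 X1 hr0 hr1 hr2)
theorem E_57_1 (X0 X1 : M) (hr0 : X0 * (X0 * (X0 * 1)) = 1) (hr1 : X1 * (X1 * (X1 * (X1 * (X1 * 1)))) = 1) (hr2 : X0 * (X1 * (X0 * (X1 * 1))) = 1) : g57 X0 X1 * X1 = g44 X0 X1 :=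
  deduce (path_cons (E_42_1 X0 X1) (path_cons (E_51_1 X0 X1) (path_nil (g57 X0 X1)))) (path_cons (E_44_1 X0 X1 hr0 hr1 hr2) (path_cons (E_43_1 X0 X1 hr0 hr1 hr2) (path_nil (g42 X0 X1)))) (rel_1_2 X0 X1 hr0 hr1 hr2)
theorem E_51_0 (X0 X1 : M) (hr0 : X0 * (X0 * (X0 * 1)) = 1) (hr1 : X1 * (X1 * (X1 * (X1 * (X1 * 1)))) = 1) (hr2 : X0 * (X1 * (X0 * (X1 * 1))) = 1) : g51 X0 X1 * X0 = g47 X0 X1 :=
  deduce (path_cons (E_34_0 X0 X1) (path_cons (E_42_1 X0 X1) (path_nil (g51 X0 X1)))) (path_cons (E_47_1 X0 X1 hr0 hr1 hr2) (path_nil (g34 X0 X1))) (rel_2_2 X0 X1 hr0 hr1 hr2)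
theorem E_48_1 (X0 X1 : M) (hr0 : X0 * (X0 * (X0 * 1)) = 1) (hr1 : X1 * (X1 * (X1 * (X1 * (X1 * 1)))) = 1) (hr2 : X0 * (X1 * (X0 * (X1 * 1))) = 1) : g48 X0 X1 * X1 = g52 X0 X1 :=
  deduce (path_cons (E_39_0 X0 X1) (path_nil (g48 X0 X1))) (path_cons (E_52_0 X0 X1 hr0 hr1 hr2) (path_cons (E_36_1 X0 X1 hr0 hr1 hr2) (path_nil (g39 X0 X1)))) (rel_2_1 X0 X1 hr0 hr1 hr2)
theorem E_58_0 (X0 X1 : M) (hr0 : X0 * (X0 * (X0 * 1)) = 1) (hr1 : X1 * (X1 * (X1 * (X1 * (X1 * 1)))) = 1) (hr2 : X0 * (X1 * (X0 * (X1 * 1))) = 1) : g58 X0 X1 * X0 = g57 X0 X1 :=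
  deduce (path_cons (E_44_0 X0 X1) (path_cons (E_52_1 X0 X1) (path_nil (g58 X0 X1)))) (path_cons (E_57_1 X0 X1 hr0 hr1 hr2) (path_nil (g44 X0 X1))) (rel_2_2 X0 X1 hr0 hr1 hr2)
theorem E_53_1 (X0 X1 : M) (hr0 : X0 * (X0 * (X0 * 1)) = 1) (hr1 : X1 * (X1 * (X1 * (X1 * (X1 * 1)))) = 1) (hr2 : X0 * (X1 * (X0 * (X1 * 1))) = 1) : g53 X0 X1 * X1 = g56 X0 X1 :=
  deduce (path_cons (E_45_0 X0 X1) (path_nil (g53 X0 X1))) (path_cons (E_56_0 X0 X1 hr0 hr1 hr2) (path_cons (E_41_1 X0 X1 hr0 hr1 hr2) (path_nil (g45 X0 X1)))) (rel_2_1 X0 X1 hr0 hr1 hr2)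
theorem E_55_0 (X0 X1 : M) (hr0 : X0 * (X0 * (X0 * 1)) = 1) (hr1 : X1 * (X1 * (X1 * (X1 * (X1 * 1)))) = 1) (hr2 : X0 * (X1 * (X0 * (X1 * 1))) = 1) : g55 X0 X1 * X0 = g51 X0 X1 :=
  deduce (path_cons (E_47_0 X0 X1) (path_nil (g55 X0 X1))) (path_cons (E_51_0 X0 X1 hr0 hr1 hr2) (path_nil (g47 X0 X1))) (rel_0_1 X0 X1 hr0 hr1 hr2)
theorem E_58_1 (X0 X1 : M) (hr0 : X0 * (X0 * (X0 * 1)) = 1) (hr1 : X1 * (X1 * (X1 * (X1 * (X1 * 1)))) = 1) (hr2 : X0 * (X1 * (X0 * (X1 * 1))) = 1) : g58 X0 X1 * X1 = g50 X0 X1 :=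
  deduce (path_cons (E_48_1 X0 X1 hr0 hr1 hr2) (path_cons (E_52_1 X0 X1) (path_nil (g58 X0 X1)))) (path_cons (E_50_1 X0 X1 hr0 hr1 hr2) (path_cons (E_49_1 X0 X1 hr0 hr1 hr2) (path_nil (g48 X0 X1)))) (rel_1_2 X0 X1 hr0 hr1 hr2)
theorem E_59_1 (X0 X1 : M) (hr0 : X0 * (X0 * (X0 * 1)) = 1) (hr1 : X1 * (X1 * (X1 * (X1 * (X1 * 1)))) = 1) (hr2 : X0 * (X1 * (X0 * (X1 * 1))) = 1) : g59 X0 X1 * X1 = g55 X0 X1 :=
  deduce (path_cons (E_53_1 X0 X1 hr0 hr1 hr2) (path_cons (E_56_1 X0 X1) (path_nil (g59 X0 X1)))) (path_cons (E_55_1 X0 X1 hr0 hr1 hr2) (path_cons (E_54_1 X0 X1 hr0 hr1 hr2) (path_nil (g53 X0 X1)))) (rel_1_2 X0 X1 hr0 hr1 hr2)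
theorem E_59_0 (X0 X1 : M) (hr0 : X0 * (X0 * (X0 * 1)) = 1) (hr1 : X1 * (X1 * (X1 * (X1 * (X1 * 1)))) = 1) (hr2 : X0 * (X1 * (X0 * (X1 * 1))) = 1) : g59 X0 X1 * X0 = g58 X0 X1 :=
  deduce (path_cons (E_50_0 X0 X1) (path_cons (E_56_1 X0 X1) (path_nil (g59 X0 X1)))) (path_cons (E_58_1 X0 X1 hr0 hr1 hr2) (path_nil (g50 X0 X1))) (rel_2_2 X0 X1 hr0 hr1 hr2)
theorem E_57_0 (X0 X1 : M) (hr0 : X0 * (X0 * (X0 * 1)) = 1) (hr1 : X1 * (X1 * (X1 * (X1 * (X1 * 1)))) = 1) (hr2 : X0 * (X1 * (X0 * (X1 * 1))) = 1) : g57 X0 X1 * X0 = g59 X0 X1 :=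
  deduce (path_cons (E_55_0 X0 X1 hr0 hr1 hr2) (path_cons (E_51_1 X0 X1) (path_nil (g57 X0 X1)))) (path_cons (E_59_1 X0 X1 hr0 hr1 hr2) (path_nil (g55 X0 X1))) (rel_2_2 X0 X1 hr0 hr1 hr2)

def gAll (X0 X1 : M) : Fin 60 → M := ![g0 X0 X1, g1 X0 X1, g2 X0 X1, g3 X0 X1, g4 X0 X1, g5 X0 X1, g6 X0 X1, g7 X0 X1, g8 X0 X1, g9 X0 X1, g10 X0 X1, g11 X0 X1, g12 X0 X1, g13 X0 X1, g14 X0 X1, g15 X0 X1, g16 X0 X1, g17 X0 X1, g18 X0 X1, g19 X0 X1, g20 X0 X1, g21 X0 X1, g22 X0 X1, g23 X0 X1, g24 X0 X1, g25 X0 X1, g26 X0 X1, g27 X0 X1, g28 X0 X1, g29 X0 X1, g30 X0 X1, g31 X0 X1, g32 X0 X1, g33 X0 X1, g34 X0 X1, g35 X0 X1, g36 X0 X1, g37 X0 X1, g38 X0 X1, g39 X0 X1, g40 X0 X1, g41 X0 X1, g42 X0 X1, g43 X0 X1, g44 X0 X1, g45 X0 X1, g46 X0 X1, g47 X0 X1, g48 X0 X1, g49 X0 X1, g50 X0 X1, g51 X0 X1, g52 X0 X1, g53 X0 X1, g54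 X0 X1, g55 X0 X1, g56 X0 X1, g57 X0 X1, g58 X0 X1, g59 X0 X1]
def nx0 : Fin 60 → Fin 60 := ![1, 3, 5, 0, 8, 10, 11, 13, 15, 16, 2, 19, 20, 21, 22, 4, 25, 26, 23, 6, 24, 7, 30, 31, 12, 9, 29, 34, 35, 17, 14, 18, 39, 40, 42, 43, 44, 45, 46, 48, 49, 50, 27, 28, 52, 53, 54, 55, 32, 33, 56, 47, 36, 37, 38, 51, 41, 59, 57, 58]
def pv0 : Fin 60 → Fin 60 := ![3, 0, 10, 1, 15, 2, 19, 21, 4, 25, 5, 6, 24, 7, 30, 8, 9, 29, 31, 11, 12, 13, 14, 18, 20, 16, 17, 42, 43, 26, 22, 23, 48, 49, 27, 28, 52, 53, 54, 32, 33, 56, 34, 35, 36, 37, 38, 51, 39, 40, 41, 55, 44, 45, 46, 47, 50, 58, 59, 57]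
def nx1 : Fin 60 → Fin 60 := ![2, 4, 6, 7, 9, 3, 12, 14, 0, 17, 18, 10, 8, 1, 23, 24, 15, 13, 27, 28, 19, 29, 21, 5, 32, 33, 25, 35, 36, 37, 38, 30, 40, 41, 31, 11, 39, 46, 47, 20, 16, 45, 51, 42, 43, 26, 22, 34, 52, 48, 49, 57, 58, 56, 53, 54, 59, 44, 50, 55]
def pv1 : Fin 60 → Fin 60 := ![8, 13, 0, 5, 1, 23, 2, 3, 12, 4, 11, 35, 6, 17, 7, 16, 40, 9, 10, 20, 39, 22, 46, 14, 15, 26, 45, 18, 19, 21, 31, 34, 24, 25, 47, 27, 28, 29, 30, 36, 32, 33, 43, 44, 57, 41, 37, 38, 49, 50, 58, 42, 48, 54, 55, 59, 53, 51, 52, 56]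

theorem stepAll0 (X0 X1 : M) (hr0 : X0 * (X0 * (X0 * 1)) = 1) (hr1 : X1 * (X1 * (X1 * (X1 * (X1 * 1)))) = 1) (hr2 : X0 * (X1 * (X0 * (X1 * 1))) = 1) : ∀ i : Fin 60, gAll X0 X1 i * X0 = gAll X0 X1 (nx0 i) := by
  intro i; fin_cases i
  · exact (E_0_0 X0 X1)
  · exact (E_1_0 X0 X1)
  · exact (E_2_0 X0 X1)
  · exact (E_3_0 X0 X1 hr0 hr1 hr2)
  · exact (E_4_0 X0 X1)
  · exact (E_5_0 X0 X1)
  · exact (E_6_0 X0 X1)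
  · exact (E_7_0 X0 X1)
  · exact (E_8_0 X0 X1)
  · exact (E_9_0 X0 X1)
  · exact (E_10_0 X0 X1 hr0 hr1 hr2)
  · exact (E_11_0 X0 X1)
  · exact (E_12_0 X0 X1)
  · exact (E_13_0 X0 X1)
  · exact (E_14_0 X0 X1)
  · exact (E_15_0 X0 X1 hr0 hr1 hr2)
  · exact (E_16_0 X0 X1)
  · exact (E_17_0 X0 X1)
  · exact (E_18_0 X0 X1 hr0 hr1 hr2)
  · exact (E_19_0 X0 X1 hr0 hr1 hr2)
  · exact (E_20_0 X0 X1 hr0 hr1 hr2)
  · exact (E_21_0 X0 X1 hr0 hr1 hr2)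
  · exact (E_22_0 X0 X1)
  · exact (E_23_0 X0 X1)
  · exact (E_24_0 X0 X1 hr0 hr1 hr2)
  · exact (E_25_0 X0 X1 hr0 hr1 hr2)
  · exact (E_26_0 X0 X1 hr0 hr1 hr2)
  · exact (E_27_0 X0 X1)
  · exact (E_28_0 X0 X1 hr0 hr1 hr2)
  · exact (E_29_0 X0 X1 hr0 hr1 hr2)
  · exact (E_30_0 X0 X1 hr0 hr1 hr2)
  · exact (E_31_0 X0 X1 hr0 hr1 hr2)
  · exact (E_32_0 X0 X1)
  · exact (E_33_0 X0 X1 hr0 hr1 hr2)
  · exact (E_34_0 X0 X1)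
  · exact (E_35_0 X0 X1)
  · exact (E_36_0 X0 X1)
  · exact (E_37_0 X0 X1)
  · exact (E_38_0 X0 X1 hr0 hr1 hr2)
  · exact (E_39_0 X0 X1)
  · exact (E_40_0 X0 X1)
  · exact (E_41_0 X0 X1)
  · exact (E_42_0 X0 X1 hr0 hr1 hr2)
  · exact (E_43_0 X0 X1 hr0 hr1 hr2)
  · exact (E_44_0 X0 X1)
  · exact (E_45_0 X0 X1)
  · exact (E_46_0 X0 X1)
  · exact (E_47_0 X0 X1)
  · exact (E_48_0 X0 X1 hr0 hr1 hr2)
  · exact (E_49_0 X0 X1 hr0 hr1 hr2)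
  · exact (E_50_0 X0 X1)
  · exact (E_51_0 X0 X1 hr0 hr1 hr2)
  · exact (E_52_0 X0 X1 hr0 hr1 hr2)
  · exact (E_53_0 X0 X1 hr0 hr1 hr2)
  · exact (E_54_0 X0 X1 hr0 hr1 hr2)
  · exact (E_55_0 X0 X1 hr0 hr1 hr2)
  · exact (E_56_0 X0 X1 hr0 hr1 hr2)
  · exact (E_57_0 X0 X1 hr0 hr1 hr2)
  · exact (E_58_0 X0 X1 hr0 hr1 hr2)
  · exact (E_59_0 X0 X1 hr0 hr1 hr2)
theorem stepInv0 (X0 X1 : M) (hr0 : X0 * (X0 * (X0 * 1)) = 1) (hr1 : X1 * (X1 * (X1 * (X1 * (X1 * 1)))) = 1) (hr2 : X0 * (X1 * (X0 * (X1 * 1))) = 1) : ∀ i : Fin 60, gAll X0 X1 i * X0⁻¹ = gAll X0 X1 (pv0 i) := by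
  intro i; fin_cases i
  · exact inv_edge (E_3_0 X0 X1 hr0 hr1 hr2)
  · exact inv_edge (E_0_0 X0 X1)
  · exact inv_edge (E_10_0 X0 X1 hr0 hr1 hr2)
  · exact inv_edge (E_1_0 X0 X1)
  · exact inv_edge (E_15_0 X0 X1 hr0 hr1 hr2)
  · exact inv_edge (E_2_0 X0 X1)
  · exact inv_edge (E_19_0 X0 X1 hr0 hr1 hr2)
  · exact inv_edge (E_21_0 X0 X1 hr0 hr1 hr2)
  · exact inv_edge (E_4_0 X0 X1)
  · exact inv_edge (E_25_0 X0 X1 hr0 hr1 hr2)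
  · exact inv_edge (E_5_0 X0 X1)
  · exact inv_edge (E_6_0 X0 X1)
  · exact inv_edge (E_24_0 X0 X1 hr0 hr1 hr2)
  · exact inv_edge (E_7_0 X0 X1)
  · exact inv_edge (E_30_0 X0 X1 hr0 hr1 hr2)
  · exact inv_edge (E_8_0 X0 X1)
  · exact inv_edge (E_9_0 X0 X1)
  · exact inv_edge (E_29_0 X0 X1 hr0 hr1 hr2)
  · exact inv_edge (E_31_0 X0 X1 hr0 hr1 hr2)
  · exact inv_edge (E_11_0 X0 X1)
  · exact inv_edge (E_12_0 X0 X1)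
  · exact inv_edge (E_13_0 X0 X1)
  · exact inv_edge (E_14_0 X0 X1)
  · exact inv_edge (E_18_0 X0 X1 hr0 hr1 hr2)
  · exact inv_edge (E_20_0 X0 X1 hr0 hr1 hr2)
  · exact inv_edge (E_16_0 X0 X1)
  · exact inv_edge (E_17_0 X0 X1)
  · exact inv_edge (E_42_0 X0 X1 hr0 hr1 hr2)
  · exact inv_edge (E_43_0 X0 X1 hr0 hr1 hr2)
  · exact inv_edge (E_26_0 X0 X1 hr0 hr1 hr2)
  · exact inv_edge (E_22_0 X0 X1)
  · exact inv_edge (E_23_0 X0 X1)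
  · exact inv_edge (E_48_0 X0 X1 hr0 hr1 hr2)
  · exact inv_edge (E_49_0 X0 X1 hr0 hr1 hr2)
  · exact inv_edge (E_27_0 X0 X1)
  · exact inv_edge (E_28_0 X0 X1 hr0 hr1 hr2)
  · exact inv_edge (E_52_0 X0 X1 hr0 hr1 hr2)
  · exact inv_edge (E_53_0 X0 X1 hr0 hr1 hr2)
  · exact inv_edge (E_54_0 X0 X1 hr0 hr1 hr2)
  · exact inv_edge (E_32_0 X0 X1)
  · exact inv_edge (E_33_0 X0 X1 hr0 hr1 hr2)
  · exact inv_edge (E_56_0 X0 X1 hr0 hr1 hr2)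
  · exact inv_edge (E_34_0 X0 X1)
  · exact inv_edge (E_35_0 X0 X1)
  · exact inv_edge (E_36_0 X0 X1)
  · exact inv_edge (E_37_0 X0 X1)
  · exact inv_edge (E_38_0 X0 X1 hr0 hr1 hr2)
  · exact inv_edge (E_51_0 X0 X1 hr0 hr1 hr2)
  · exact inv_edge (E_39_0 X0 X1)
  · exact inv_edge (E_40_0 X0 X1)
  · exact inv_edge (E_41_0 X0 X1)
  · exact inv_edge (E_55_0 X0 X1 hr0 hr1 hr2)
  · exact inv_edge (E_44_0 X0 X1)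
  · exact inv_edge (E_45_0 X0 X1)
  · exact inv_edge (E_46_0 X0 X1)
  · exact inv_edge (E_47_0 X0 X1)
  · exact inv_edge (E_50_0 X0 X1)
  · exact inv_edge (E_58_0 X0 X1 hr0 hr1 hr2)
  · exact inv_edge (E_59_0 X0 X1 hr0 hr1 hr2)
  · exact inv_edge (E_57_0 X0 X1 hr0 hr1 hr2)
theorem stepAll1 (X0 X1 : M) (hr0 : X0 * (X0 * (X0 * 1)) = 1) (hr1 : X1 * (X1 * (X1 * (X1 * (X1 * 1)))) = 1) (hr2 : X0 * (X1 * (X0 * (X1 * 1))) = 1) : ∀ i : Fin 60, gAll X0 X1 i * X1 = gAll X0 X1 (nx1 i) := by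
  intro i; fin_cases i
  · exact (E_0_1 X0 X1)
  · exact (E_1_1 X0 X1)
  · exact (E_2_1 X0 X1)
  · exact (E_3_1 X0 X1)
  · exact (E_4_1 X0 X1)
  · exact (E_5_1 X0 X1 hr0 hr1 hr2)
  · exact (E_6_1 X0 X1)
  · exact (E_7_1 X0 X1)
  · exact (E_8_1 X0 X1 hr0 hr1 hr2)
  · exact (E_9_1 X0 X1)
  · exact (E_10_1 X0 X1)
  · exact (E_11_1 X0 X1 hr0 hr1 hr2)
  · exact (E_12_1 X0 X1 hr0 hr1 hr2)
  · exact (E_13_1 X0 X1 hr0 hr1 hr2)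
  · exact (E_14_1 X0 X1)
  · exact (E_15_1 X0 X1)
  · exact (E_16_1 X0 X1 hr0 hr1 hr2)
  · exact (E_17_1 X0 X1 hr0 hr1 hr2)
  · exact (E_18_1 X0 X1)
  · exact (E_19_1 X0 X1)
  · exact (E_20_1 X0 X1 hr0 hr1 hr2)
  · exact (E_21_1 X0 X1)
  · exact (E_22_1 X0 X1 hr0 hr1 hr2)
  · exact (E_23_1 X0 X1 hr0 hr1 hr2)
  · exact (E_24_1 X0 X1)
  · exact (E_25_1 X0 X1)
  · exact (E_26_1 X0 X1 hr0 hr1 hr2)
  · exact (E_27_1 X0 X1)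
  · exact (E_28_1 X0 X1)
  · exact (E_29_1 X0 X1)
  · exact (E_30_1 X0 X1)
  · exact (E_31_1 X0 X1 hr0 hr1 hr2)
  · exact (E_32_1 X0 X1)
  · exact (E_33_1 X0 X1)
  · exact (E_34_1 X0 X1 hr0 hr1 hr2)
  · exact (E_35_1 X0 X1 hr0 hr1 hr2)
  · exact (E_36_1 X0 X1 hr0 hr1 hr2)
  · exact (E_37_1 X0 X1)
  · exact (E_38_1 X0 X1)
  · exact (E_39_1 X0 X1 hr0 hr1 hr2)
  · exact (E_40_1 X0 X1 hr0 hr1 hr2)
  · exact (E_41_1 X0 X1 hr0 hr1 hr2)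
  · exact (E_42_1 X0 X1)
  · exact (E_43_1 X0 X1 hr0 hr1 hr2)
  · exact (E_44_1 X0 X1 hr0 hr1 hr2)
  · exact (E_45_1 X0 X1 hr0 hr1 hr2)
  · exact (E_46_1 X0 X1 hr0 hr1 hr2)
  · exact (E_47_1 X0 X1 hr0 hr1 hr2)
  · exact (E_48_1 X0 X1 hr0 hr1 hr2)
  · exact (E_49_1 X0 X1 hr0 hr1 hr2)
  · exact (E_50_1 X0 X1 hr0 hr1 hr2)
  · exact (E_51_1 X0 X1)
  · exact (E_52_1 X0 X1)
  · exact (E_53_1 X0 X1 hr0 hr1 hr2)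
  · exact (E_54_1 X0 X1 hr0 hr1 hr2)
  · exact (E_55_1 X0 X1 hr0 hr1 hr2)
  · exact (E_56_1 X0 X1)
  · exact (E_57_1 X0 X1 hr0 hr1 hr2)
  · exact (E_58_1 X0 X1 hr0 hr1 hr2)
  · exact (E_59_1 X0 X1 hr0 hr1 hr2)
theorem stepInv1 (X0 X1 : M) (hr0 : X0 * (X0 * (X0 * 1)) = 1) (hr1 : X1 * (X1 * (X1 * (X1 * (X1 * 1)))) = 1) (hr2 : X0 * (X1 * (X0 * (X1 * 1))) = 1) : ∀ i : Fin 60, gAll X0 X1 i * X1⁻¹ = gAll X0 X1 (pv1 i) := by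
  intro i; fin_cases i
  · exact inv_edge (E_8_1 X0 X1 hr0 hr1 hr2)
  · exact inv_edge (E_13_1 X0 X1 hr0 hr1 hr2)
  · exact inv_edge (E_0_1 X0 X1)
  · exact inv_edge (E_5_1 X0 X1 hr0 hr1 hr2)
  · exact inv_edge (E_1_1 X0 X1)
  · exact inv_edge (E_23_1 X0 X1 hr0 hr1 hr2)
  · exact inv_edge (E_2_1 X0 X1)
  · exact inv_edge (E_3_1 X0 X1)
  · exact inv_edge (E_12_1 X0 X1 hr0 hr1 hr2)
  · exact inv_edge (E_4_1 X0 X1)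
  · exact inv_edge (E_11_1 X0 X1 hr0 hr1 hr2)
  · exact inv_edge (E_35_1 X0 X1 hr0 hr1 hr2)
  · exact inv_edge (E_6_1 X0 X1)
  · exact inv_edge (E_17_1 X0 X1 hr0 hr1 hr2)
  · exact inv_edge (E_7_1 X0 X1)
  · exact inv_edge (E_16_1 X0 X1 hr0 hr1 hr2)
  · exact inv_edge (E_40_1 X0 X1 hr0 hr1 hr2)
  · exact inv_edge (E_9_1 X0 X1)
  · exact inv_edge (E_10_1 X0 X1)
  · exact inv_edge (E_20_1 X0 X1 hr0 hr1 hr2)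
  · exact inv_edge (E_39_1 X0 X1 hr0 hr1 hr2)
  · exact inv_edge (E_22_1 X0 X1 hr0 hr1 hr2)
  · exact inv_edge (E_46_1 X0 X1 hr0 hr1 hr2)
  · exact inv_edge (E_14_1 X0 X1)
  · exact inv_edge (E_15_1 X0 X1)
  · exact inv_edge (E_26_1 X0 X1 hr0 hr1 hr2)
  · exact inv_edge (E_45_1 X0 X1 hr0 hr1 hr2)
  · exact inv_edge (E_18_1 X0 X1)
  · exact inv_edge (E_19_1 X0 X1)
  · exact inv_edge (E_21_1 X0 X1)
  · exact inv_edge (E_31_1 X0 X1 hr0 hr1 hr2)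
  · exact inv_edge (E_34_1 X0 X1 hr0 hr1 hr2)
  · exact inv_edge (E_24_1 X0 X1)
  · exact inv_edge (E_25_1 X0 X1)
  · exact inv_edge (E_47_1 X0 X1 hr0 hr1 hr2)
  · exact inv_edge (E_27_1 X0 X1)
  · exact inv_edge (E_28_1 X0 X1)
  · exact inv_edge (E_29_1 X0 X1)
  · exact inv_edge (E_30_1 X0 X1)
  · exact inv_edge (E_36_1 X0 X1 hr0 hr1 hr2)
  · exact inv_edge (E_32_1 X0 X1)
  · exact inv_edge (E_33_1 X0 X1)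
  · exact inv_edge (E_43_1 X0 X1 hr0 hr1 hr2)
  · exact inv_edge (E_44_1 X0 X1 hr0 hr1 hr2)
  · exact inv_edge (E_57_1 X0 X1 hr0 hr1 hr2)
  · exact inv_edge (E_41_1 X0 X1 hr0 hr1 hr2)
  · exact inv_edge (E_37_1 X0 X1)
  · exact inv_edge (E_38_1 X0 X1)
  · exact inv_edge (E_49_1 X0 X1 hr0 hr1 hr2)
  · exact inv_edge (E_50_1 X0 X1 hr0 hr1 hr2)
  · exact inv_edge (E_58_1 X0 X1 hr0 hr1 hr2)
  · exact inv_edge (E_42_1 X0 X1)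
  · exact inv_edge (E_48_1 X0 X1 hr0 hr1 hr2)
  · exact inv_edge (E_54_1 X0 X1 hr0 hr1 hr2)
  · exact inv_edge (E_55_1 X0 X1 hr0 hr1 hr2)
  · exact inv_edge (E_59_1 X0 X1 hr0 hr1 hr2)
  · exact inv_edge (E_53_1 X0 X1 hr0 hr1 hr2)
  · exact inv_edge (E_51_1 X0 X1)
  · exact inv_edge (E_52_1 X0 X1)
  · exact inv_edge (E_56_1 X0 X1)

theorem gAll_surjective (X0 X1 : M) (hr0 : X0 * (X0 * (X0 * 1)) = 1) (hr1 : X1 * (X1 * (X1 * (X1 * (X1 * 1)))) = 1) (hr2 : X0 * (X1 * (X0 * (X1 * 1))) = 1) (hgen : Subgroup.closure ({X0, X1} : Set M) = ⊤) :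
    Function.Surjective (gAll X0 X1) := by
  have key : ∀ m ∈ Submonoid.closure (({X0, X1} : Set M) ∪ ({X0, X1} : Set M)⁻¹),
      ∀ i : Fin 60, ∃ j : Fin 60, gAll X0 X1 i * m = gAll X0 X1 j := by
    intro m hm
    induction hm using Submonoid.closure_induction with
    | mem x hx =>
      intro i
      rcases hx with hx | hx
      · simp only [Set.mem_insert_iff, Set.mem_singleton_iff] at hx
        rcases hx with hx | hx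
        · refine ⟨nx0 i, ?_⟩
          rw [hx]
          exact stepAll0 X0 X1 hr0 hr1 hr2 i
        · refine ⟨nx1 i, ?_⟩
          rw [hx]
          exact stepAll1 X0 X1 hr0 hr1 hr2 i
      · simp only [Set.mem_inv, Set.mem_insert_iff, Set.mem_singleton_iff] at hx
        rcases hx with hx | hx
        · refine ⟨pv0 i, ?_⟩
          rw [← inv_inv x, hx]
          exact stepInv0 X0 X1 hr0 hr1 hr2 i
        · refine ⟨pv1 i, ?_⟩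
          rw [← inv_inv x, hx]
          exact stepInv1 X0 X1 hr0 hr1 hr2 i
    | one => intro i; exact ⟨i, mul_one _⟩
    | mul x y _ _ hx hy =>
      intro i
      obtain ⟨j, hj⟩ := hx i
      obtain ⟨l, hl⟩ := hy j
      exact ⟨l, by rw [← mul_assoc, hj, hl]⟩
  intro m
  have hm : m ∈ Subgroup.closure ({X0, X1} : Set M) := by rw [hgen]; trivial
  rw [← Subgroup.mem_toSubmonoid, Subgroup.closure_toSubmonoid] at hm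
  obtain ⟨j, hj⟩ := key m hm 0
  refine ⟨j, ?_⟩
  rw [← hj]
  exact one_mul m

end a5_table


/-- The relators. -/
abbrev rels : Set (FreeGroup (Fin 2)) :=
  {FreeGroup.of (0 : Fin 2) ^ 3, FreeGroup.of (1 : Fin 2) ^ 5,
    (FreeGroup.of (0 : Fin 2) * FreeGroup.of 1) ^ 2}

abbrev P := PresentedGroup rels

def pX : P := PresentedGroup.of 0
def pY : P := PresentedGroup.of 1

theorem pX_rel : pX * (pX * (pX * 1)) = 1 := by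
  have h : PresentedGroup.mk rels (FreeGroup.of (0 : Fin 2) ^ 3) = 1 :=
    PresentedGroup.one_of_mem (by simp [rels])
  rw [map_pow] at h
  rw [mul_one, ← mul_assoc]
  rw [pow_succ, pow_two] at h
  exact h

theorem pY_rel : pY * (pY * (pY * (pY * (pY * 1)))) = 1 := by
  have h : PresentedGroup.mk rels (FreeGroup.of (1 : Fin 2) ^ 5) = 1 :=
    PresentedGroup.one_of_mem (by simp [rels])
  rw [map_pow] at h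
  rw [mul_one, ← mul_assoc, ← mul_assoc, ← mul_assoc]
  rw [pow_succ, pow_succ, pow_succ, pow_two] at h
  exact h

theorem pXY_rel : pX * (pY * (pX * (pY * 1))) = 1 := by
  have h : PresentedGroup.mk rels ((FreeGroup.of (0 : Fin 2) * FreeGroup.of 1) ^ 2) = 1 :=
    PresentedGroup.one_of_mem (by simp [rels])
  rw [map_pow, map_mul] at h
  rw [mul_one, ← mul_assoc, ← mul_assoc]
  rw [pow_two, ← mul_assoc] at h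
  exact h

theorem p_gen : Subgroup.closure ({pX, pY} : Set P) = ⊤ := by
  have h := PresentedGroup.closure_range_of rels
  have h2 : Set.range (PresentedGroup.of : Fin 2 → P) = {pX, pY} := by
    ext x
    simp only [Set.mem_range, Fin.exists_fin_two, Set.mem_insert_iff, Set.mem_singleton_iff, pX, pY]
    constructor
    · rintro (h | h)
      · exact Or.inl h.symm
      · exact Or.inr h.symm
    · rintro (h | h)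
      · exact Or.inl h.symm
      · exact Or.inr h.symm
  rw [h2] at h
  exact h

theorem p_surj : Function.Surjective (gAll pX pY) :=
  gAll_surjective pX pY pX_rel pY_rel pXY_rel p_gen

instance p_finite : Finite P := Finite.of_surjective _ p_surj

theorem p_card : Nat.card P ≤ 60 := by
  have := Nat.card_le_card_of_surjective _ p_surj
  simpa using this

/-- The generators of `Alt(5)`. -/
def sX : Equiv.Perm (Fin 5) := Equiv.swap 2 3 * Equiv.swap 3 4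
def sY : Equiv.Perm (Fin 5) := Equiv.swap 0 2 * Equiv.swap 2 4 * Equiv.swap 4 1 * Equiv.swap 1 3

theorem sX_mem : sX ∈ alternatingGroup (Fin 5) := by
  rw [Equiv.Perm.mem_alternatingGroup]; decide
theorem sY_mem : sY ∈ alternatingGroup (Fin 5) := by
  rw [Equiv.Perm.mem_alternatingGroup]; decide

def aX : alternatingGroup (Fin 5) := ⟨sX, sX_mem⟩
def aY : alternatingGroup (Fin 5) := ⟨sY, sY_mem⟩

theorem sX_pow : sX ^ 3 = 1 := by decide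
theorem sY_pow : sY ^ 5 = 1 := by decide
theorem sXY_pow : (sX * sY) ^ 2 = 1 := by decide
theorem sX_ne : sX ≠ 1 := by decide
theorem sY_ne : sY ≠ 1 := by decide
theorem sXY_ne : sX * sY ≠ 1 := by decide

theorem aX_pow : aX ^ 3 = 1 := Subtype.ext (by simpa [aX] using sX_pow)
theorem aY_pow : aY ^ 5 = 1 := Subtype.ext (by simpa [aY] using sY_pow)
theorem aXY_pow : (aX * aY) ^ 2 = 1 := Subtype.ext (by simpa [aX, aY] using sXY_pow)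
theorem aX_ne : aX ≠ 1 := fun h => sX_ne (congrArg Subtype.val h)
theorem aY_ne : aY ≠ 1 := fun h => sY_ne (congrArg Subtype.val h)
theorem aXY_ne : aX * aY ≠ 1 := fun h => sXY_ne (congrArg Subtype.val h)

theorem a_rels : ∀ r ∈ rels, FreeGroup.lift ![aX, aY] r = 1 := by
  intro r hr
  simp only [rels, Set.mem_insert_iff, Set.mem_singleton_iff] at hr
  rcases hr with rfl | rfl | rfl
  · simp only [map_pow, FreeGroup.lift_apply_of, Matrix.cons_val_zero]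
    exact aX_pow
  · simp only [map_pow, FreeGroup.lift_apply_of, Matrix.cons_val_one, Matrix.cons_val_zero]
    exact aY_pow
  · simp only [map_pow, map_mul, FreeGroup.lift_apply_of, Matrix.cons_val_one,
      Matrix.cons_val_zero]
    exact aXY_pow

def φ : P →* alternatingGroup (Fin 5) := PresentedGroup.toGroup a_rels

theorem φ_X : φ pX = aX := by
  simp [φ, pX]

theorem φ_Y : φ pY = aY := by
  simp [φ, pY]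

theorem card_A5 : Nat.card (alternatingGroup (Fin 5)) = 60 := by
  rw [nat_card_alternatingGroup]
  simp [Nat.factorial]

theorem φ_surj : Function.Surjective φ := by
  rw [← MonoidHom.range_eq_top]
  set R := φ.range with hR
  have hX : aX ∈ R := ⟨pX, φ_X⟩
  have hY : aY ∈ R := ⟨pY, φ_Y⟩
  have hXY : aX * aY ∈ R := R.mul_mem hX hY
  have o3 : orderOf aX = 3 := by
    have : Fact (Nat.Prime 3) := ⟨by norm_num⟩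
    exact orderOf_eq_prime aX_pow aX_ne
  have o5 : orderOf aY = 5 := by
    have : Fact (Nat.Prime 5) := ⟨by norm_num⟩
    exact orderOf_eq_prime aY_pow aY_ne
  have o2 : orderOf (aX * aY) = 2 := by
    have : Fact (Nat.Prime 2) := ⟨by norm_num⟩
    exact orderOf_eq_prime aXY_pow aXY_ne
  have d3 : 3 ∣ Nat.card R := by
    have := orderOf_dvd_natCard (⟨aX, hX⟩ : R)
    rwa [Subgroup.orderOf_mk, o3] at this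
  have d5 : 5 ∣ Nat.card R := by
    have := orderOf_dvd_natCard (⟨aY, hY⟩ : R)
    rwa [Subgroup.orderOf_mk, o5] at this
  have d2 : 2 ∣ Nat.card R := by
    have := orderOf_dvd_natCard (⟨aX * aY, hXY⟩ : R)
    rwa [Subgroup.orderOf_mk, o2] at this
  have d30 : 30 ∣ Nat.card R := by
    have h6 : 6 ∣ Nat.card R := Nat.Coprime.mul_dvd_of_dvd_of_dvd (by norm_num) d2 d3
    exact Nat.Coprime.mul_dvd_of_dvd_of_dvd (by norm_num) h6 d5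
  have hmul := Subgroup.card_mul_index R
  rw [card_A5] at hmul
  have hidx : R.index = 1 ∨ R.index = 2 := by
    obtain ⟨k, hk⟩ := d30
    rw [hk] at hmul
    have : k * R.index = 2 := by nlinarith
    have hk1 : R.index ∣ 2 := Dvd.intro_left k this
    have := (Nat.dvd_prime Nat.prime_two).mp hk1
    exact this
  rcases hidx with h | h
  · exact Subgroup.index_eq_one.mp h
  · exfalso
    have hn : R.Normal := Subgroup.normal_of_index_eq_two h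
    have : IsSimpleGroup (alternatingGroup (Fin 5)) := alternatingGroup.isSimpleGroup (by simp)
    rcases hn.eq_bot_or_eq_top with hb | ht
    · rw [hb] at d30
      simp at d30
    · rw [ht, Subgroup.index_top] at h
      omega

/-- The alternating group of degree 5 has the presentation ⟨x, y | x³ = 1, y⁵ = 1, (xy)² = 1⟩: the group so presented is isomorphic to Alt(5). -/
theorem result :
    Nonempty (PresentedGroup ({FreeGroup.of (0 : Fin 2) ^ 3, FreeGroup.of (1 : Fin 2) ^ 5,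
        (FreeGroup.of (0 : Fin 2) * FreeGroup.of 1) ^ 2} : Set (FreeGroup (Fin 2))) ≃* alternatingGroup (Fin 5)) := by
  have hbij : Function.Bijective φ :=
    φ_surj.bijective_of_nat_card_le (by rw [card_A5]; exact p_card)
  exact ⟨MulEquiv.ofBijective φ hbij⟩

end Cfsg.Agent.S3377
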