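-- Statement S3378 (row 3378).
import Cfsg.Statements.S3378
import Cfsg.Agent.S3374
import Cfsg.Agent.S3377
import Cfsg.Agent.S0493
import Cfsg.Agent.S0494
import Cfsg.Agent.Lib.Helper57.CardSL
import Cfsg.Agent.Lib.Helper56.SL25Table

set_option autoImplicit false
set_option linter.unusedVariables false
set_option linter.unusedSimpArgs false
open Cfsg
open Cfsg.Agent.Lib.Helper56.SL25

namespace Cfsg.Agent.S3378




/-! ## Part 2: the presentation -/

/-- The relators. -/
abbrev rels : Set (FreeGroup (Fin 3)) :=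
  {FreeGroup.of (0 : Fin 3) ^ 3, FreeGroup.of (1 : Fin 3) ^ 5, FreeGroup.of (2 : Fin 3) ^ 2,
    (FreeGroup.of (2 : Fin 3))⁻¹ * FreeGroup.of 0 * FreeGroup.of 2 * (FreeGroup.of (0 : Fin 3))⁻¹,
    (FreeGroup.of (2 : Fin 3))⁻¹ * FreeGroup.of 1 * FreeGroup.of 2 * (FreeGroup.of (1 : Fin 3))⁻¹,
    (FreeGroup.of (0 : Fin 3) * FreeGroup.of 1) ^ 2 * (FreeGroup.of (2 : Fin 3))⁻¹}

abbrev P := PresentedGroup rels

def pX : P := PresentedGroup.of 0
def pY : P := PresentedGroup.of 1
def pZ : P := PresentedGroup.of 2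

theorem mem0 : FreeGroup.of (0 : Fin 3) ^ 3 ∈ rels := Set.mem_insert _ _
theorem mem1 : FreeGroup.of (1 : Fin 3) ^ 5 ∈ rels := Set.mem_insert_of_mem _ (Set.mem_insert _ _)
theorem mem2 : FreeGroup.of (2 : Fin 3) ^ 2 ∈ rels :=
  Set.mem_insert_of_mem _ (Set.mem_insert_of_mem _ (Set.mem_insert _ _))
theorem mem3 : (FreeGroup.of (2 : Fin 3))⁻¹ * FreeGroup.of 0 * FreeGroup.of 2 *
    (FreeGroup.of (0 : Fin 3))⁻¹ ∈ rels :=
  Set.mem_insert_of_mem _ (Set.mem_insert_of_mem _ (Set.mem_insert_of_mem _ (Set.mem_insert _ _)))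
theorem mem4 : (FreeGroup.of (2 : Fin 3))⁻¹ * FreeGroup.of 1 * FreeGroup.of 2 *
    (FreeGroup.of (1 : Fin 3))⁻¹ ∈ rels :=
  Set.mem_insert_of_mem _ (Set.mem_insert_of_mem _ (Set.mem_insert_of_mem _
    (Set.mem_insert_of_mem _ (Set.mem_insert _ _))))
theorem mem5 : (FreeGroup.of (0 : Fin 3) * FreeGroup.of 1) ^ 2 * (FreeGroup.of (2 : Fin 3))⁻¹ ∈
    rels :=
  Set.mem_insert_of_mem _ (Set.mem_insert_of_mem _ (Set.mem_insert_of_mem _
    (Set.mem_insert_of_mem _ (Set.mem_insert_of_mem _ (Set.mem_singleton _)))))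

theorem p_hr0 : pX * (pX * (pX * 1)) = 1 := by
  have h : PresentedGroup.mk rels (FreeGroup.of (0 : Fin 3) ^ 3) = 1 :=
    PresentedGroup.one_of_mem mem0
  rw [map_pow] at h
  rw [mul_one, ← mul_assoc]
  rw [pow_succ, pow_two] at h
  exact h

theorem p_hr1 : pY * (pY * (pY * (pY * (pY * 1)))) = 1 := by
  have h : PresentedGroup.mk rels (FreeGroup.of (1 : Fin 3) ^ 5) = 1 :=
    PresentedGroup.one_of_mem mem1
  rw [map_pow] at h
  rw [mul_one, ← mul_assoc, ← mul_assoc, ← mul_assoc]
  rw [pow_succ, pow_succ, pow_succ, pow_two] at h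
  exact h

theorem p_hr2 : pZ * (pZ * 1) = 1 := by
  have h : PresentedGroup.mk rels (FreeGroup.of (2 : Fin 3) ^ 2) = 1 :=
    PresentedGroup.one_of_mem mem2
  rw [map_pow] at h
  rw [mul_one]
  rw [pow_two] at h
  exact h

theorem p_hr3 : pZ⁻¹ * (pX * (pZ * (pX⁻¹ * 1))) = 1 := by
  have h := PresentedGroup.one_of_mem mem3
  rw [map_mul, map_mul, map_mul, map_inv, map_inv] at h
  rw [mul_one, ← mul_assoc, ← mul_assoc]
  exact h

theorem p_hr4 : pZ⁻¹ * (pY * (pZ * (pY⁻¹ * 1))) = 1 := by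
  have h := PresentedGroup.one_of_mem mem4
  rw [map_mul, map_mul, map_mul, map_inv, map_inv] at h
  rw [mul_one, ← mul_assoc, ← mul_assoc]
  exact h

theorem p_hr5 : pX * (pY * (pX * (pY * (pZ⁻¹ * 1)))) = 1 := by
  have h := PresentedGroup.one_of_mem mem5
  rw [map_mul, map_pow, map_mul, map_inv, pow_two] at h
  rw [mul_one, ← mul_assoc, ← mul_assoc, ← mul_assoc]
  rw [← mul_assoc] at h
  exact h

theorem p_gen : Subgroup.closure ({pX, pY, pZ} : Set P) = ⊤ := by
  have h := PresentedGroup.closure_range_of rels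
  have h2 : Set.range (PresentedGroup.of : Fin 3 → P) = {pX, pY, pZ} := by
    ext x
    constructor
    · rintro ⟨i, rfl⟩
      fin_cases i
      · exact Or.inl rfl
      · exact Or.inr (Or.inl rfl)
      · exact Or.inr (Or.inr rfl)
    · rintro (rfl | rfl | rfl)
      exacts [⟨0, rfl⟩, ⟨1, rfl⟩, ⟨2, rfl⟩]
  rw [h2] at h
  exact h

theorem p_surj : Function.Surjective (gAll pX pY pZ) :=
  gAll_surjective pX pY pZ p_hr0 p_hr1 p_hr2 p_hr3 p_hr4 p_hr5 p_gen

instance p_finite : Finite P := Finite.of_surjective _ p_surj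

theorem p_card : Nat.card P ≤ 120 := by
  have := Nat.card_le_card_of_surjective _ p_surj
  simpa using this


/-! ### The matrices -/

open Cfsg.Agent.S3374 in
abbrev SL25 := Cfsg.Agent.S3374.SL25

open Cfsg.Agent.S3374

def mX : SL25 := ⟨!![0, 4; 1, 4], by rw [Matrix.det_fin_two_of]; decide⟩
def mY : SL25 := ⟨!![1, 1; 0, 1], by rw [Matrix.det_fin_two_of]; decide⟩
def mZ : SL25 := ⟨!![4, 0; 0, 4], by rw [Matrix.det_fin_two_of]; decide⟩
def mS : SL25 := ⟨!![0, 4; 1, 0], by rw [Matrix.det_fin_two_of]; decide⟩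

theorem toQ_mX : toQ mX = (0, 4, 1, 4) := rfl
theorem toQ_mY : toQ mY = (1, 1, 0, 1) := rfl
theorem toQ_mZ : toQ mZ = (4, 0, 0, 4) := rfl
theorem toQ_mS : toQ mS = (0, 4, 1, 0) := rfl

theorem mX_pow : mX ^ 3 = 1 := by
  apply toQ_injective
  rw [pow_succ, pow_two, toQ_mul, toQ_mul, toQ_one, toQ_mX]
  decide
theorem mY_pow : mY ^ 5 = 1 := by
  apply toQ_injective
  rw [pow_succ, pow_succ, pow_succ, pow_two, toQ_mul, toQ_mul, toQ_mul, toQ_mul, toQ_one, toQ_mY]
  decide
theorem mZ_pow : mZ ^ 2 = 1 := by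
  apply toQ_injective
  rw [pow_two, toQ_mul, toQ_one, toQ_mZ]
  decide
theorem mXZ : mX * mZ = mZ * mX := by
  apply toQ_injective
  rw [toQ_mul, toQ_mul, toQ_mX, toQ_mZ]
  decide
theorem mYZ : mY * mZ = mZ * mY := by
  apply toQ_injective
  rw [toQ_mul, toQ_mul, toQ_mY, toQ_mZ]
  decide
theorem mXY : mX * mY = mS := by
  apply toQ_injective
  rw [toQ_mul, toQ_mX, toQ_mY, toQ_mS]
  decide
theorem mS_sq : mS ^ 2 = mZ := by
  apply toQ_injective
  rw [pow_two, toQ_mul, toQ_mS, toQ_mZ]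
  decide

theorem m_rels : ∀ r ∈ rels, FreeGroup.lift ![mX, mY, mZ] r = 1 := by
  intro r hr
  simp only [rels, Set.mem_insert_iff, Set.mem_singleton_iff] at hr
  rcases hr with rfl | rfl | rfl | rfl | rfl | rfl
  · rw [map_pow, FreeGroup.lift_apply_of]
    exact mX_pow
  · rw [map_pow, FreeGroup.lift_apply_of]
    exact mY_pow
  · rw [map_pow, FreeGroup.lift_apply_of]
    exact mZ_pow
  · rw [map_mul, map_mul, map_mul, map_inv, map_inv, FreeGroup.lift_apply_of,
      FreeGroup.lift_apply_of]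
    show mZ⁻¹ * mX * mZ * mX⁻¹ = 1
    rw [mul_assoc mZ⁻¹, mXZ]; group
  · rw [map_mul, map_mul, map_mul, map_inv, map_inv, FreeGroup.lift_apply_of,
      FreeGroup.lift_apply_of]
    show mZ⁻¹ * mY * mZ * mY⁻¹ = 1
    rw [mul_assoc mZ⁻¹, mYZ]; group
  · rw [map_mul, map_pow, map_mul, map_inv, FreeGroup.lift_apply_of, FreeGroup.lift_apply_of,
      FreeGroup.lift_apply_of]
    show (mX * mY) ^ 2 * mZ⁻¹ = 1
    rw [mXY, mS_sq, mul_inv_cancel]

def φ : P →* SL25 := PresentedGroup.toGroup m_rels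

theorem φ_X : φ pX = mX := by simp [φ, pX]
theorem φ_Y : φ pY = mY := by simp [φ, pY]
theorem φ_Z : φ pZ = mZ := by simp [φ, pZ]

def genSL : Bool → SL25
  | false => mS
  | true => mY

theorem toQ_genSL (s : Bool) : toQ (genSL s) = gen5 s := by
  cases s <;> rfl

def evalSL : List Bool → SL25
  | [] => 1
  | s :: w => genSL s * evalSL w

theorem toQ_evalSL (w : List Bool) : toQ (evalSL w) = evalW gen5 w := by
  induction w with
  | nil => exact toQ_one
  | cons s w ih =>
    show toQ (genSL s * evalSL w) = qmul (gen5 s) (evalW gen5 w)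
    rw [toQ_mul, toQ_genSL, ih]

theorem eq_evalSL (g : SL25) : g = evalSL (word (toQ g)) := by
  apply toQ_injective
  rw [toQ_evalSL]
  have h := toQ_det g
  exact (word_spec _ _ _ _ h).symm

theorem evalSL_mem (R : Subgroup SL25) (hS : mS ∈ R) (hY : mY ∈ R) (w : List Bool) :
    evalSL w ∈ R := by
  induction w with
  | nil => exact R.one_mem
  | cons s w ih =>
    show genSL s * evalSL w ∈ R
    refine R.mul_mem ?_ ih
    cases s
    · exact hS
    · exact hY

theorem φ_surj : Function.Surjective φ := by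
  rw [← MonoidHom.range_eq_top, eq_top_iff]
  intro g _
  rw [eq_evalSL g]
  apply evalSL_mem
  · rw [← mXY]
    exact mul_mem ⟨pX, φ_X⟩ ⟨pY, φ_Y⟩
  · exact ⟨pY, φ_Y⟩

theorem card_SL25 : Nat.card SL25 = 120 := by
  have : Fact (Nat.Prime 5) := ⟨by norm_num⟩
  have h := Cfsg.Agent.Lib.Helper57.card_SL_formula (F := ZMod 5) 2 (by norm_num)
  rw [ZMod.card, Fin.prod_univ_two] at h
  have h' : 4 * Nat.card SL25 = 480 := h
  omega

theorem φ_bij : Function.Bijective φ :=
  φ_surj.bijective_of_nat_card_le (by rw [card_SL25]; exact p_card)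

theorem card_P : Nat.card P = 120 := by
  rw [Nat.card_congr (Equiv.ofBijective φ φ_bij), card_SL25]

theorem part2 : Nonempty (P ≃* SL25) := ⟨MulEquiv.ofBijective φ φ_bij⟩


/-! ## Part 1 -/

section part1

universe u

theorem solvable_of_normal {H : Type u} [Group H] (N : Subgroup H) [N.Normal]
    (h1 : Group.IsSolvable N) (h2 : Group.IsSolvable (H ⧸ N)) : Group.IsSolvable H :=
  (Group.isSolvable_iff_subgroup_quotient N).mpr ⟨h1, h2⟩

theorem solvable_of_card_lt_sixty : ∀ (n : ℕ) (H : Type u) [Group H] [Finite H],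
    Nat.card H = n → n < 60 → Group.IsSolvable H := by
  intro n
  induction n using Nat.strong_induction_on with
  | _ n ih =>
    intro H _ _ hn hlt
    by_cases hsub : Subsingleton H
    · infer_instance
    have hnt : Nontrivial H := not_subsingleton_iff_nontrivial.mp hsub
    by_cases hsimple : IsSimpleGroup H
    · by_cases hc : IsCyclic H
      · exact Group.isSolvable_of_comm (fun a b => (IsCyclic.isMulCommutative (α := H)).is_comm.comm a b)
      · have := Cfsg.Agent.S0493.result hc (by omega)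
        omega
    · have : ∃ N : Subgroup H, N.Normal ∧ N ≠ ⊥ ∧ N ≠ ⊤ := by
        by_contra hcon
        push Not at hcon
        exact hsimple ⟨fun N hN => by
          by_cases h : N = ⊥
          · exact Or.inl h
          · exact Or.inr (hcon N hN h)⟩
      obtain ⟨N, hN, hb, ht⟩ := this
      have hmul := Subgroup.card_mul_index N
      have h1 : Nat.card N ≠ 1 := fun h => hb (Subgroup.card_eq_one.mp h)
      have h2 : N.index ≠ 1 := fun h => ht (Subgroup.index_eq_one.mp h)
      have h3 : 0 < Nat.card N := Nat.card_pos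
      have h4 : 0 < N.index := Nat.pos_of_ne_zero N.index_ne_zero_of_finite
      have h5 : 2 ≤ Nat.card N := by omega
      have h6 : 2 ≤ N.index := by omega
      have sN : Group.IsSolvable N := ih (Nat.card N) (by nlinarith) N rfl (by nlinarith)
      have sQ : Group.IsSolvable (H ⧸ N) :=
        ih N.index (by nlinarith) (H ⧸ N) (Subgroup.index_eq_card N).symm (by nlinarith)
      exact solvable_of_normal N sN sQ

theorem simple_of_card_sixty (H : Type u) [Group H] [Finite H] (hc : Nat.card H = 60)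
    (hns : ¬ Group.IsSolvable H) : IsSimpleGroup H := by
  have hnt : Nontrivial H := by
    rw [← Finite.one_lt_card_iff_nontrivial, hc]; norm_num
  refine ⟨fun N hN => ?_⟩
  by_contra hcon
  push Not at hcon
  obtain ⟨hb, ht⟩ := hcon
  have hmul := Subgroup.card_mul_index N
  have h1 : Nat.card N ≠ 1 := fun h => hb (Subgroup.card_eq_one.mp h)
  have h2 : N.index ≠ 1 := fun h => ht (Subgroup.index_eq_one.mp h)
  have h3 : 0 < Nat.card N := Nat.card_pos
  have h4 : 0 < N.index := Nat.pos_of_ne_zero N.index_ne_zero_of_finite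
  have h5 : 2 ≤ Nat.card N := by omega
  have h6 : 2 ≤ N.index := by omega
  have sN : Group.IsSolvable N := solvable_of_card_lt_sixty (Nat.card N) N rfl (by nlinarith)
  have sQ : Group.IsSolvable (H ⧸ N) :=
    solvable_of_card_lt_sixty N.index (H ⧸ N) (Subgroup.index_eq_card N).symm (by nlinarith)
  exact hns (solvable_of_normal N sN sQ)


theorem q8_invol : ∀ a b : QuaternionGroup 2, a * a = 1 → a ≠ 1 → b * b = 1 → b ≠ 1 → a = b := by
  decide

theorem q8_sq : ∀ a : QuaternionGroup 2, a ≠ 1 →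
    (a * a = 1) ∨ ((a * a) * (a * a) = 1 ∧ a * a ≠ 1) := by decide

theorem card_q8 : Nat.card (QuaternionGroup 2) = 8 := by
  rw [Nat.card_eq_fintype_card, QuaternionGroup.card]

/-- An involution of a quaternion subgroup fixes every point of a set with fewer than 8 points. -/
theorem invol_fixes {G : Type u} [Group G] {Ω : Type*} [MulAction G Ω] [Finite Ω]
    (hΩ : Nat.card Ω < 8) (Q : Subgroup G) (e : Q ≃* QuaternionGroup 2)
    (t : G) (htQ : t ∈ Q) (ht2 : t * t = 1) (ht1 : t ≠ 1) (ω : Ω) : t • ω = ω := by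
  have hcardQ : Nat.card Q = 8 := by rw [Nat.card_congr e.toEquiv, card_q8]
  have hfin : Finite Q := Nat.finite_of_card_ne_zero (by omega)
  have h1 := Subgroup.card_mul_index (MulAction.stabilizer Q ω)
  have h2 : (MulAction.stabilizer Q ω).index = (MulAction.orbit Q ω).ncard :=
    MulAction.index_stabilizer Q ω
  have h3 : (MulAction.orbit Q ω).ncard ≤ Nat.card Ω := by
    rw [← Set.ncard_univ]; exact Set.ncard_le_ncard (Set.subset_univ _)
  have h4 : MulAction.stabilizer Q ω ≠ ⊥ := by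
    intro hS
    rw [hS, Subgroup.card_bot, one_mul] at h1
    rw [hS] at h2
    omega
  obtain ⟨⟨s, hsS⟩, hs1⟩ := (Subgroup.ne_bot_iff_exists_ne_one).mp h4
  have hs1' : s ≠ 1 := fun h => hs1 (Subtype.ext h)
  have hes : e s ≠ 1 := fun h => hs1' (by simpa using h)
  let t' : Q := ⟨t, htQ⟩
  have ht'2 : e t' * e t' = 1 := by
    rw [← map_mul]
    have : t' * t' = 1 := Subtype.ext ht2
    rw [this, map_one]
  have ht'1 : e t' ≠ 1 := by
    intro h
    have : t' = 1 := by simpa using h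
    exact ht1 (congrArg Subtype.val this)
  have key : t' ∈ MulAction.stabilizer Q ω := by
    rcases q8_sq (e s) hes with h | ⟨h, h'⟩
    · have : e t' = e s := q8_invol _ _ ht'2 ht'1 h hes
      rw [e.injective this]
      exact hsS
    · have : e t' = e s * e s := q8_invol _ _ ht'2 ht'1 h h'
      rw [← map_mul] at this
      rw [e.injective this]
      exact mul_mem hsS hsS
  exact key

theorem card_sylow5 {G : Type u} [Group G] [Finite G] (hcard : Nat.card G = 120)
    (hns : ¬ Group.IsSolvable G) : Nat.card (Sylow 5 G) = 6 := by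
  have : Fact (Nat.Prime 5) := ⟨by norm_num⟩
  have P : Sylow 5 G := default
  have hP : Nat.card (P : Subgroup G) = 5 := by
    rw [Sylow.card_eq_multiplicity, hcard]
    have : (120 : ℕ).factorization 5 = 1 := by decide +kernel
    rw [this]; norm_num
  have hidx : (P : Subgroup G).index = 24 := by
    have := Subgroup.card_mul_index (P : Subgroup G)
    rw [hcard, hP] at this
    omega
  have hdvd := Sylow.card_dvd_index P
  rw [hidx] at hdvd
  have hmod := card_sylow_modEq_one 5 G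
  have hle : Nat.card (Sylow 5 G) ≤ 24 := Nat.le_of_dvd (by norm_num) hdvd
  have h16 : Nat.card (Sylow 5 G) = 1 ∨ Nat.card (Sylow 5 G) = 6 := by
    unfold Nat.ModEq at hmod
    generalize Nat.card (Sylow 5 G) = n at *
    interval_cases n <;> simp_all (config := {decide := true})
  rcases h16 with h | h
  · exfalso
    have hsub : Subsingleton (Sylow 5 G) := (Nat.card_eq_one_iff_unique.mp h).1
    have hn : (P : Subgroup G).Normal := Sylow.normal_of_subsingleton P
    apply hns
    have s1 : Group.IsSolvable (P : Subgroup G) :=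
      solvable_of_card_lt_sixty 5 _ hP (by norm_num)
    have s2 : Group.IsSolvable (G ⧸ (P : Subgroup G)) :=
      solvable_of_card_lt_sixty 24 _ (by rw [← Subgroup.index_eq_card, hidx]) (by norm_num)
    exact solvable_of_normal _ s1 s2
  · exact h

/-- The kernel of the action on the Sylow 5-subgroups. -/
def ker5 (G : Type u) [Group G] : Subgroup G := (MulAction.toPermHom G (Sylow 5 G)).ker

theorem mem_ker5 {G : Type u} [Group G] {g : G} : g ∈ ker5 G ↔ ∀ ω : Sylow 5 G, g • ω = ω := by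
  unfold ker5
  rw [MonoidHom.mem_ker]
  constructor
  · intro h ω
    have := congrArg (fun σ : Equiv.Perm (Sylow 5 G) => σ ω) h
    exact this
  · intro h
    apply Equiv.ext
    intro ω
    exact h ω

instance ker5_normal (G : Type u) [Group G] : (ker5 G).Normal := by
  unfold ker5; infer_instance

theorem exists_K {G : Type u} [Group G] [Finite G] (hcard : Nat.card G = 120)
    (hns : ¬ Group.IsSolvable G)
    (hQ : ∀ P : Sylow 2 G, Nonempty ((P : Subgroup G) ≃* QuaternionGroup 2)) :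
    ∃ (K : Subgroup G) (_ : K.Normal), Nat.card K = 2 ∧ (∀ t : G, t * t = 1 → t ∈ K) ∧
      ¬ Group.IsSolvable (G ⧸ K) ∧ Nat.card (G ⧸ K) = 60 := by
  have hp5 : Fact (Nat.Prime 5) := ⟨by norm_num⟩
  have hp2 : Fact (Nat.Prime 2) := ⟨by norm_num⟩
  have h6 := card_sylow5 hcard hns
  have hfinΩ : Finite (Sylow 5 G) := inferInstance
  -- involutions lie in the kernel
  have hinv : ∀ t : G, t * t = 1 → t ∈ ker5 G := by
    intro t ht2
    by_cases ht1 : t = 1
    · rw [ht1]; exact one_mem _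
    rw [mem_ker5]
    intro ω
    have ho : orderOf t = 2 := orderOf_eq_prime (by rw [pow_two]; exact ht2) ht1
    have hpg : IsPGroup 2 (Subgroup.zpowers t) := by
      apply IsPGroup.of_card (n := 1)
      rw [Nat.card_zpowers, ho, pow_one]
    obtain ⟨Q, hle⟩ := hpg.exists_le_sylow
    obtain ⟨e⟩ := hQ Q
    exact invol_fixes (by rw [h6]; norm_num) (Q : Subgroup G) e t
      (hle (Subgroup.mem_zpowers t)) ht2 ht1 ω
  -- there is an involution
  obtain ⟨t, hto⟩ := exists_prime_orderOf_dvd_card' (G := G) 2 (by rw [hcard]; norm_num)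
  have ht2 : t * t = 1 := by
    rw [← pow_two, ← hto]; exact pow_orderOf_eq_one t
  have ht1 : t ≠ 1 := by
    intro h; rw [h, orderOf_one] at hto; omega
  have htK : t ∈ ker5 G := hinv t ht2
  have hKne : Nat.card (ker5 G) ≠ 1 := by
    intro h
    rw [Subgroup.card_eq_one] at h
    rw [h, Subgroup.mem_bot] at htK
    exact ht1 htK
  -- the kernel normalizes a Sylow 5-subgroup
  have P : Sylow 5 G := default
  have hKle : ker5 G ≤ Subgroup.normalizer (P : Set G) := fun g hg =>
    Sylow.smul_eq_iff_mem_normalizer.mp (mem_ker5.mp hg P)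
  have hN : Nat.card (Subgroup.normalizer (P : Set G)) = 20 := by
    have h1 := Subgroup.card_mul_index (Subgroup.normalizer (P : Set G))
    rw [← Sylow.card_eq_index_normalizer, h6, hcard] at h1
    omega
  have hKdvd : Nat.card (ker5 G) ∣ 20 := by
    rw [← hN]; exact Subgroup.card_dvd_of_le hKle
  have hKle20 : Nat.card (ker5 G) ≤ 20 := Nat.le_of_dvd (by norm_num) hKdvd
  have hmul := Subgroup.card_mul_index (ker5 G)
  rw [hcard, Subgroup.index_eq_card] at hmul
  have sK : Group.IsSolvable (ker5 G) := solvable_of_card_lt_sixty _ _ rfl (by omega)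
  have nsQ : ¬ Group.IsSolvable (G ⧸ ker5 G) := fun h => hns (solvable_of_normal _ sK h)
  have hQ60 : 60 ≤ Nat.card (G ⧸ ker5 G) := by
    by_contra hlt
    push Not at hlt
    exact nsQ (solvable_of_card_lt_sixty _ _ rfl hlt)
  have hKpos : 0 < Nat.card (ker5 G) := Nat.card_pos
  have hK2 : Nat.card (ker5 G) = 2 := by
    have : Nat.card (ker5 G) ≤ 2 := by
      by_contra hgt
      push Not at hgt
      nlinarith
    omega
  refine ⟨ker5 G, inferInstance, hK2, hinv, nsQ, ?_⟩
  rw [hK2] at hmul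
  omega


open Cfsg.Agent.S3377 in
theorem a_gen : Subgroup.closure ({aX, aY} : Set (alternatingGroup (Fin 5))) = ⊤ := by
  have h := MonoidHom.map_closure Cfsg.Agent.S3377.φ {Cfsg.Agent.S3377.pX, Cfsg.Agent.S3377.pY}
  rw [Cfsg.Agent.S3377.p_gen, ← MonoidHom.range_eq_map,
    MonoidHom.range_eq_top.mpr Cfsg.Agent.S3377.φ_surj, Set.image_pair,
    Cfsg.Agent.S3377.φ_X, Cfsg.Agent.S3377.φ_Y] at h
  exact h.symm

theorem iso_of_K {G : Type u} [Group G] [Finite G] (hcard : Nat.card G = 120)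
    (K : Subgroup G) [hKn : K.Normal] (hK2 : Nat.card K = 2)
    (hinv : ∀ t : G, t * t = 1 → t ∈ K)
    (hnsQ : ¬ Group.IsSolvable (G ⧸ K)) (hcQ : Nat.card (G ⧸ K) = 60) :
    Nonempty (G ≃* SL25) := by
  have hsimple : IsSimpleGroup (G ⧸ K) := simple_of_card_sixty (G ⧸ K) hcQ hnsQ
  obtain ⟨e⟩ := Cfsg.Agent.S0494.result hcQ
  let f : G →* alternatingGroup (Fin 5) := e.toMonoidHom.comp (QuotientGroup.mk' K)
  have hf_surj : Function.Surjective f :=
    e.surjective.comp (QuotientGroup.mk'_surjective K)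
  have hf_ker : ∀ g : G, f g = 1 ↔ g ∈ K := by
    intro g
    show e (QuotientGroup.mk' K g) = 1 ↔ g ∈ K
    rw [MulEquiv.map_eq_one_iff, QuotientGroup.mk'_apply, QuotientGroup.eq_one_iff]
  -- the central involution
  obtain ⟨y₀, hy₀, huniq⟩ := (Nat.card_eq_two_iff' (1 : K)).mp hK2
  obtain ⟨z, hzK⟩ := y₀
  have hz1 : z ≠ 1 := fun h => hy₀ (Subtype.ext h)
  have hK : ∀ k ∈ K, k = 1 ∨ k = z := by
    intro k hk
    by_cases h1 : k = 1
    · exact Or.inl h1
    · right
      have := huniq ⟨k, hk⟩ (fun h => h1 (congrArg Subtype.val h))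
      exact congrArg Subtype.val this
  have hz2 : z * z = 1 := by
    rcases hK (z * z) (mul_mem hzK hzK) with h | h
    · exact h
    · exfalso; exact hz1 (mul_eq_left.mp h)
  have hKsq : ∀ k ∈ K, k * k = 1 := by
    intro k hk
    rcases hK k hk with rfl | rfl
    · exact mul_one 1
    · exact hz2
  have hzc : ∀ g : G, g * z = z * g := by
    intro g
    rcases hK (g * z * g⁻¹) (hKn.conj_mem z hzK g) with h | h
    · exfalso
      apply hz1
      have : g * z = g := by rw [← mul_inv_eq_one]; rw [← h]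
      exact mul_eq_left.mp this
    · calc g * z = (g * z * g⁻¹) * g := by group
        _ = z * g := by rw [h]
  have hinv' : ∀ t : G, t * t = 1 → t ≠ 1 → t = z := by
    intro t h2 h1
    rcases hK t (hinv t h2) with h | h
    · exact absurd h h1
    · exact h
  have hfz : f z = 1 := (hf_ker z).mpr hzK
  -- lifts
  obtain ⟨x', hx'⟩ := hf_surj Cfsg.Agent.S3377.aX
  obtain ⟨y', hy'⟩ := hf_surj Cfsg.Agent.S3377.aY
  have hfx : f (x' ^ 4) = Cfsg.Agent.S3377.aX := by
    rw [map_pow, hx', pow_succ, Cfsg.Agent.S3377.aX_pow, one_mul]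
  have hfy : f (y' ^ 6) = Cfsg.Agent.S3377.aY := by
    rw [map_pow, hy', pow_succ, Cfsg.Agent.S3377.aY_pow, one_mul]
  have hx3 : (x' ^ 4) ^ 3 = 1 := by
    have hk : x' ^ 3 ∈ K := by
      rw [← hf_ker, map_pow, hx', Cfsg.Agent.S3377.aX_pow]
    have := hKsq _ hk
    calc (x' ^ 4) ^ 3 = (x' ^ 3 * x' ^ 3) * (x' ^ 3 * x' ^ 3) := by group
      _ = 1 := by rw [this, one_mul]
  have hy5 : (y' ^ 6) ^ 5 = 1 := by
    have hk : y' ^ 5 ∈ K := by
      rw [← hf_ker, map_pow, hy', Cfsg.Agent.S3377.aY_pow]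
    have := hKsq _ hk
    calc (y' ^ 6) ^ 5 = (y' ^ 5 * y' ^ 5) * (y' ^ 5 * y' ^ 5) * (y' ^ 5 * y' ^ 5) := by group
      _ = 1 := by rw [this, one_mul, one_mul]
  generalize x' ^ 4 = x at hfx hx3
  generalize y' ^ 6 = y at hfy hy5
  have hfxy : f (x * y) = Cfsg.Agent.S3377.aX * Cfsg.Agent.S3377.aY := by
    rw [map_mul, hfx, hfy]
  have hxy1 : x * y ≠ 1 := by
    intro h
    rw [h, map_one] at hfxy
    exact Cfsg.Agent.S3377.aXY_ne hfxy.symm
  have hxyK : (x * y) ^ 2 ∈ K := by
    rw [← hf_ker, map_pow, hfxy, Cfsg.Agent.S3377.aXY_pow]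
  have hxyz : (x * y) ^ 2 = z := by
    rcases hK _ hxyK with h | h
    · exfalso
      have := hinv' (x * y) (by rw [← pow_two]; exact h) hxy1
      rw [this, hfz] at hfxy
      exact Cfsg.Agent.S3377.aXY_ne hfxy.symm
    · exact h
  -- the homomorphism from the presented group
  have g_rels : ∀ r ∈ rels, FreeGroup.lift ![x, y, z] r = 1 := by
    intro r hr
    simp only [rels, Set.mem_insert_iff, Set.mem_singleton_iff] at hr
    rcases hr with rfl | rfl | rfl | rfl | rfl | rfl
    · rw [map_pow, FreeGroup.lift_apply_of]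
      exact hx3
    · rw [map_pow, FreeGroup.lift_apply_of]
      exact hy5
    · rw [map_pow, FreeGroup.lift_apply_of]
      show z ^ 2 = 1
      rw [pow_two]; exact hz2
    · rw [map_mul, map_mul, map_mul, map_inv, map_inv, FreeGroup.lift_apply_of,
        FreeGroup.lift_apply_of]
      show z⁻¹ * x * z * x⁻¹ = 1
      rw [mul_assoc z⁻¹, hzc x]; group
    · rw [map_mul, map_mul, map_mul, map_inv, map_inv, FreeGroup.lift_apply_of,
        FreeGroup.lift_apply_of]
      show z⁻¹ * y * z * y⁻¹ = 1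
      rw [mul_assoc z⁻¹, hzc y]; group
    · rw [map_mul, map_pow, map_mul, map_inv, FreeGroup.lift_apply_of, FreeGroup.lift_apply_of,
        FreeGroup.lift_apply_of]
      show (x * y) ^ 2 * z⁻¹ = 1
      rw [hxyz, mul_inv_cancel]
  let ψ : P →* G := PresentedGroup.toGroup g_rels
  have ψX : ψ pX = x := by simp [ψ, pX]
  have ψY : ψ pY = y := by simp [ψ, pY]
  have ψZ : ψ pZ = z := by simp [ψ, pZ]
  have ψ_surj : Function.Surjective ψ := by
    rw [← MonoidHom.range_eq_top, eq_top_iff]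
    intro g _
    have hxR : x ∈ ψ.range := ⟨pX, ψX⟩
    have hyR : y ∈ ψ.range := ⟨pY, ψY⟩
    have hzR : z ∈ ψ.range := ⟨pZ, ψZ⟩
    have hmap : Subgroup.map f ψ.range = ⊤ := by
      rw [eq_top_iff, ← a_gen, Subgroup.closure_le]
      intro a ha
      simp only [Set.mem_insert_iff, Set.mem_singleton_iff] at ha
      rcases ha with rfl | rfl
      · exact ⟨x, hxR, hfx⟩
      · exact ⟨y, hyR, hfy⟩
    have : f g ∈ Subgroup.map f ψ.range := by rw [hmap]; trivial
    obtain ⟨h, hhR, hfh⟩ := this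
    have hk : h⁻¹ * g ∈ K := by
      rw [← hf_ker, map_mul, map_inv, hfh, inv_mul_cancel]
    have hkR : h⁻¹ * g ∈ ψ.range := by
      rcases hK _ hk with h1 | h1
      · rw [h1]; exact one_mem _
      · rw [h1]; exact hzR
    have : g = h * (h⁻¹ * g) := by group
    rw [this]
    exact mul_mem hhR hkR
  have ψ_bij : Function.Bijective ψ :=
    ψ_surj.bijective_of_nat_card_le (by rw [hcard]; exact p_card)
  exact ⟨(MulEquiv.ofBijective ψ ψ_bij).symm.trans (MulEquiv.ofBijective φ φ_bij)⟩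

end part1

/-- Every non-solvable group of order 120 whose Sylow 2-subgroups are quaternion of order 8 is isomorphic to SL(2,5), and SL(2,5) has the presentation ⟨x, y, z | x³ = y⁵ = z² = 1, z⁻¹xz = x, z⁻¹yz = y, (xy)² = z⟩. -/
theorem result :
    (∀ (G : Type*) [Group G] [Finite G], Nat.card G = 120 → ¬ Group.IsSolvable G →
      (∀ P : Sylow 2 G, Nonempty ((P : Subgroup G) ≃* QuaternionGroup 2)) →
      Nonempty (G ≃* Matrix.SpecialLinearGroup (Fin 2) (ZMod 5))) ∧
    Nonempty (PresentedGroup ({FreeGroup.of (0 : Fin 3) ^ 3, FreeGroup.of (1 : Fin 3) ^ 5, FreeGroup.of (2 : Fin 3) ^ 2,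
        (FreeGroup.of (2 : Fin 3))⁻¹ * FreeGroup.of 0 * FreeGroup.of 2 * (FreeGroup.of (0 : Fin 3))⁻¹,
        (FreeGroup.of (2 : Fin 3))⁻¹ * FreeGroup.of 1 * FreeGroup.of 2 * (FreeGroup.of (1 : Fin 3))⁻¹,
        (FreeGroup.of (0 : Fin 3) * FreeGroup.of 1) ^ 2 * (FreeGroup.of (2 : Fin 3))⁻¹} : Set (FreeGroup (Fin 3)))
      ≃* Matrix.SpecialLinearGroup (Fin 2) (ZMod 5)) := by
  refine ⟨?_, part2⟩
  intro G _ _ hcard hns hQ
  obtain ⟨K, hKn, hK2, hinv, hnsQ, hcQ⟩ := exists_K hcard hns hQ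
  exact iso_of_K hcard K hK2 hinv hnsQ hcQ

end Cfsg.Agent.S3378
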