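import Cfsg.Statements.S0684
import Mathlib
import Cfsg.Agent.S0041

set_option autoImplicit false
open Cfsg

namespace Cfsg.Agent.S0684

section
variable {p : ℕ} [Fact p.Prime] {V : Type*} [AddCommGroup V] [Module (ZMod p) V]

open scoped IsMulCommutative in
/-- an abelian group of linear maps without nontrivial fixed points is cyclic -/
theorem isCyclic_of_fpf [Finite V] [Nontrivial V] (H : Subgroup (V ≃ₗ[ZMod p] V)) (A : Subgroup H)
    [IsMulCommutative A]
    (hfpf : ∀ h : H, ∀ v : V, v ≠ 0 → (h : V ≃ₗ[ZMod p] V) v = v → h = 1) : IsCyclic A := by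
  have : Finite (V ≃ₗ[ZMod p] V) := Finite.of_injective (fun e => (e : V → V))
    (fun e f h => LinearEquiv.ext (congrFun h))
  let ρ : A →* Module.End ℤ V :=
    { toFun := fun a => (((a : H) : V ≃ₗ[ZMod p] V) : V →ₗ[ZMod p] V).toAddMonoidHom.toIntLinearMap
      map_one' := by
        apply LinearMap.ext
        intro v
        rfl
      map_mul' := by
        intro a b
        apply LinearMap.ext
        intro v
        rfl }
  apply Cfsg.Agent.S0041.cyclic_of_comm ρ
  intro a ha m hm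
  by_contra hm0
  apply ha
  have h1 := hfpf (a : H) m hm0 hm
  exact Subtype.ext h1

/-- a group of linear maps without nontrivial fixed points has order dividing `|W| - 1` for
every invariant subspace `W` -/
theorem card_dvd_of_fpf [Finite V] (H : Subgroup (V ≃ₗ[ZMod p] V)) (A : Subgroup H)
    (hfpf : ∀ h : H, ∀ v : V, v ≠ 0 → (h : V ≃ₗ[ZMod p] V) v = v → h = 1)
    (W : Submodule (ZMod p) V)
    (hinv : ∀ a ∈ A, ∀ v ∈ W, ((a : H) : V ≃ₗ[ZMod p] V) v ∈ W) :
    Nat.card A ∣ p ^ Module.finrank (ZMod p) W - 1 := by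
  classical
  have : Finite (V ≃ₗ[ZMod p] V) := Finite.of_injective (fun e => (e : V → V))
    (fun e f h => LinearEquiv.ext (congrFun h))
  have : Fintype A := Fintype.ofFinite A
  have : Fintype W := Fintype.ofFinite W
  let _ : MulAction A W :=
    { smul := fun a w => ⟨((a : H) : V ≃ₗ[ZMod p] V) w, hinv a a.2 w w.2⟩
      one_smul := fun w => Subtype.ext rfl
      mul_smul := fun a b w => Subtype.ext rfl }
  have hsmul : ∀ (a : A) (w : W), ((a • w : W) : V) = ((a : H) : V ≃ₗ[ZMod p] V) w := fun a w => rfl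
  have : Fintype (MulAction.orbitRel.Quotient A W) := Fintype.ofFinite _
  have hB := MulAction.sum_card_fixedBy_eq_card_orbits_mul_card_group A W
  have h1 : Fintype.card (MulAction.fixedBy W (1 : A)) = Fintype.card W := by
    apply Fintype.card_of_subtype Finset.univ
    intro w
    simp
  have h2 : ∀ a : A, a ≠ 1 → Fintype.card (MulAction.fixedBy W a) = 1 := by
    intro a ha
    rw [Fintype.card_eq_one_iff]
    refine ⟨⟨0, ?_⟩, ?_⟩
    · rw [MulAction.mem_fixedBy]
      apply Subtype.ext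
      rw [hsmul]
      simp
    · rintro ⟨w, hw⟩
      apply Subtype.ext
      rw [MulAction.mem_fixedBy] at hw
      by_contra hw0
      apply ha
      have h3 : ((a : H) : V ≃ₗ[ZMod p] V) (w : V) = (w : V) := by
        rw [← hsmul, hw]
      have h4 : (w : V) ≠ 0 := fun h => hw0 (Subtype.ext h)
      exact Subtype.ext (hfpf (a : H) w h4 h3)
  rw [← Finset.add_sum_erase _ _ (Finset.mem_univ (1 : A)), h1,
    Finset.sum_congr rfl (fun a ha => h2 a (Finset.ne_of_mem_erase ha)), Finset.sum_const,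
    Finset.card_erase_of_mem (Finset.mem_univ _), Finset.card_univ, smul_eq_mul, mul_one] at hB
  have hcardW : Fintype.card W = p ^ Module.finrank (ZMod p) W := by
    rw [Module.card_eq_pow_finrank (K := ZMod p) (V := W), ZMod.card]
  rw [hcardW] at hB
  rw [Nat.card_eq_fintype_card]
  have hApos : 0 < Fintype.card A := Fintype.card_pos
  have hWpos : 0 < p ^ Module.finrank (ZMod p) W := by
    have : 0 < p := (Fact.out : p.Prime).pos
    positivity
  obtain ⟨q, hq⟩ : ∃ q, q = Fintype.card (MulAction.orbitRel.Quotient A W) := ⟨_, rfl⟩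
  rw [← hq] at hB
  have hq1 : 1 ≤ q := by
    by_contra h
    have : q = 0 := by omega
    rw [this] at hB
    omega
  refine ⟨q - 1, ?_⟩
  have : (q - 1 + 1) * Fintype.card A = q * Fintype.card A := by
    rw [Nat.sub_add_cancel hq1]
  have h5 : Fintype.card A * (q - 1) + Fintype.card A = q * Fintype.card A := by
    rw [← this]; ring
  omega

end

/-- Point stabiliser of a sharply doubly transitive group not of semilinear type: a maximal normal abelian subgroup `A` of a linear group `H` that is regular on non-zero vectors and has no irreducible cyclic normal subgroup is cyclic and reducible, and the order of `A` divides `p ^ k - 1` for `k` the dimension of a minimal `A`-invariant subspace. -/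
theorem result {p : ℕ} [Fact p.Prime] {V : Type*} [AddCommGroup V] [Module (ZMod p) V] [Finite V] (H : Subgroup (V ≃ₗ[ZMod p] V)) (hreg : ∀ v w : V, v ≠ 0 → w ≠ 0 → ∃! h : H, (h : V ≃ₗ[ZMod p] V) v = w) (hI : ∀ A : Subgroup H, A.Normal → IsCyclic A → ∃ W : Submodule (ZMod p) V, W ≠ ⊥ ∧ W ≠ ⊤ ∧ ∀ a ∈ A, ∀ v ∈ W, ((a : H) : V ≃ₗ[ZMod p] V) v ∈ W) (A : Subgroup H) (hAn : A.Normal) (hAc : IsMulCommutative A) (hAmax : ∀ B : Subgroup H, B.Normal → IsMulCommutative B → A ≤ B → B = A) : IsCyclic A ∧ ∃ W : Submodule (ZMod p) V, W ≠ ⊥ ∧ W ≠ ⊤ ∧ (∀ a ∈ A, ∀ v ∈ W, ((a : H) : V ≃ₗ[ZMod p] V) v ∈ W) ∧ (∀ W' : Submodule (ZMod p) V, W' ≤ W → (∀ a ∈ A, ∀ v ∈ W', ((a : H) : V ≃ₗ[ZMod p] V) v ∈ W') → W' = ⊥ ∨ W' = W) ∧ Nat.card A ∣ p ^ Module.finrank (ZMod p) W - 1 := by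
  classical
  -- fixed-point-freeness
  have hfpf : ∀ h : H, ∀ v : V, v ≠ 0 → (h : V ≃ₗ[ZMod p] V) v = v → h = 1 := by
    intro h v hv hhv
    obtain ⟨h0, -, huniq⟩ := hreg v v hv hv
    rw [huniq h hhv, huniq 1 (by simp)]
  -- `V` is nontrivial
  have hVnt : Nontrivial V := by
    obtain ⟨W, hW1, hW2, -⟩ := hI ⊥ inferInstance inferInstance
    by_contra hnt
    rw [not_nontrivial_iff_subsingleton] at hnt
    apply hW1
    rw [Submodule.eq_bot_iff]
    intro x _
    exact Subsingleton.elim _ _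
  have hcyc : IsCyclic A := isCyclic_of_fpf H A hfpf
  refine ⟨hcyc, ?_⟩
  obtain ⟨W', hW'1, hW'2, hW'inv⟩ := hI A hAn hcyc
  -- a minimal invariant subspace inside `W'`
  let S : Set (Submodule (ZMod p) V) := {U | U ≠ ⊥ ∧ U ≤ W' ∧
    ∀ a ∈ A, ∀ v ∈ U, ((a : H) : V ≃ₗ[ZMod p] V) v ∈ U}
  have hSne : S.Nonempty := ⟨W', hW'1, le_refl _, hW'inv⟩
  have hwf : WellFounded ((· < ·) : Submodule (ZMod p) V → Submodule (ZMod p) V → Prop) :=
    wellFounded_lt
  obtain ⟨W, hWS, hWmin⟩ := hwf.has_min S hSne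
  obtain ⟨hW1, hW2, hWinv⟩ := hWS
  refine ⟨W, hW1, ?_, hWinv, ?_, card_dvd_of_fpf H A hfpf W hWinv⟩
  · intro h
    apply hW'2
    rw [h] at hW2
    exact top_le_iff.mp hW2
  · intro U hUW hUinv
    by_cases hU : U = ⊥
    · left; exact hU
    · right
      have hUS : U ∈ S := ⟨hU, hUW.trans hW2, hUinv⟩
      have := hWmin U hUS
      rcases eq_or_lt_of_le hUW with h | h
      · exact h
      · exact absurd h this

end Cfsg.Agent.S0684
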