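import Cfsg.Statements.S0685
import Mathlib
import Cfsg.Agent.S0041
-- import your own Cfsg.Agent.* helpers here

set_option autoImplicit false
open Cfsg

namespace Cfsg.Agent.S0685

section setup

variable {p : ℕ} [Fact p.Prime] {V : Type*} [AddCommGroup V] [Module (ZMod p) V]

/-- a subgroup of linear automorphisms acting freely on nonzero vectors: every abelian subgroup
is cyclic -/
theorem isCyclic_of_free [Finite V] [Nontrivial V] (H : Subgroup (V ≃ₗ[ZMod p] V))
    (hfree : ∀ h : H, ∀ v : V, v ≠ 0 → (h : V ≃ₗ[ZMod p] V) v = v → h = 1)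
    (A : Subgroup H) (hAc : IsMulCommutative A) : IsCyclic A := by
  classical
  have : Finite (V ≃ₗ[ZMod p] V) :=
    Finite.of_injective (fun e : V ≃ₗ[ZMod p] V => (e : V → V)) DFunLike.coe_injective
  let _ : CommGroup A :=
    { (inferInstance : Group A) with mul_comm := fun x y => hAc.is_comm.comm x y }
  let ρ : A →* Module.End ℤ V :=
    { toFun := fun a => (((a : H) : V ≃ₗ[ZMod p] V) : V →ₗ[ZMod p] V).toAddMonoidHom.toIntLinearMap
      map_one' := by
        ext v
        simp
      map_mul' := by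
        intro a b
        ext v
        simp }
  apply Cfsg.Agent.S0041.cyclic_of_comm ρ
  intro a ha m hm
  by_contra hm0
  apply ha
  have h1 : (a : H) = 1 := hfree (a : H) m hm0 (by simpa [ρ] using hm)
  exact Subtype.ext h1

end setup

section main

variable {p : ℕ} [Fact p.Prime] {V : Type*} [AddCommGroup V] [Module (ZMod p) V]

/-- a free action of a finite group `A` on a finite set `X` has `|A|` dividing `|X|` -/
theorem card_dvd_of_free {A X : Type*} [Group A] [MulAction A X]
    (hfree : ∀ x : X, MulAction.stabilizer A x = ⊥) : Nat.card A ∣ Nat.card X := by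
  rw [Nat.card_congr (MulAction.selfEquivOrbitsQuotientProd hfree), Nat.card_prod]
  exact dvd_mul_left _ _

/-- If `A` acts freely on the nonzero vectors of an `A`-invariant subspace `W`, then
`|A|` divides `|W| - 1`. -/
theorem card_dvd_card_sub_one [Finite V] (H : Subgroup (V ≃ₗ[ZMod p] V))
    (hfree : ∀ h : H, ∀ v : V, v ≠ 0 → (h : V ≃ₗ[ZMod p] V) v = v → h = 1)
    (A : Subgroup H) (W : Submodule (ZMod p) V)
    (hW : ∀ a ∈ A, ∀ v ∈ W, ((a : H) : V ≃ₗ[ZMod p] V) v ∈ W) :
    Nat.card A ∣ Nat.card W - 1 := by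
  classical
  let X := {w : W // w ≠ 0}
  let act : MulAction A X :=
    { smul := fun a x => ⟨⟨((a : H) : V ≃ₗ[ZMod p] V) (x.1 : V), hW a a.2 _ x.1.2⟩, by
        intro h
        apply x.2
        have h1 : ((a : H) : V ≃ₗ[ZMod p] V) (x.1 : V) = 0 := congrArg Subtype.val h
        have h2 : (x.1 : V) = 0 := by
          have := (((a : H) : V ≃ₗ[ZMod p] V)).map_eq_zero_iff.1 h1
          exact this
        exact Subtype.ext h2⟩
      one_smul := by
        intro x
        apply Subtype.ext
        apply Subtype.ext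
        show (((1 : A) : H) : V ≃ₗ[ZMod p] V) (x.1 : V) = (x.1 : V)
        simp
      mul_smul := by
        intro a b x
        apply Subtype.ext
        apply Subtype.ext
        show (((a * b : A) : H) : V ≃ₗ[ZMod p] V) (x.1 : V) =
          ((a : H) : V ≃ₗ[ZMod p] V) (((b : H) : V ≃ₗ[ZMod p] V) (x.1 : V))
        simp }
  have hfreeX : ∀ x : X, MulAction.stabilizer A x = ⊥ := by
    intro x
    rw [eq_bot_iff]
    intro a ha
    rw [Subgroup.mem_bot]
    have h1 : a • x = x := MulAction.mem_stabilizer_iff.1 ha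
    have h2 : ((a : H) : V ≃ₗ[ZMod p] V) (x.1 : V) = (x.1 : V) :=
      congrArg (fun y : X => ((y.1 : W) : V)) h1
    have hx0 : (x.1 : V) ≠ 0 := fun h => x.2 (Subtype.ext h)
    exact Subtype.ext (hfree (a : H) _ hx0 h2)
  have h1 := card_dvd_of_free hfreeX
  have h2 : Nat.card X = Nat.card W - 1 := by
    have : Fintype W := Fintype.ofFinite W
    rw [Nat.card_eq_fintype_card, Fintype.card_subtype_compl, Fintype.card_subtype_eq,
      Nat.card_eq_fintype_card]
  rw [h2] at h1
  exact h1

/-- In a linear group over the prime field that is regular on non-zero vectors and has no irreducible cyclic normal subgroup, a maximal normal abelian subgroup is properly contained in its centraliser, which is non-abelian. -/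
theorem result {p : ℕ} [Fact p.Prime] {V : Type*} [AddCommGroup V] [Module (ZMod p) V] [Finite V] (H : Subgroup (V ≃ₗ[ZMod p] V)) (hreg : ∀ v w : V, v ≠ 0 → w ≠ 0 → ∃! h : H, (h : V ≃ₗ[ZMod p] V) v = w) (hI : ∀ A : Subgroup H, A.Normal → IsCyclic A → ∃ W : Submodule (ZMod p) V, W ≠ ⊥ ∧ W ≠ ⊤ ∧ ∀ a ∈ A, ∀ v ∈ W, ((a : H) : V ≃ₗ[ZMod p] V) v ∈ W) (A : Subgroup H) (hAn : A.Normal) (hAc : IsMulCommutative A) (hAmax : ∀ B : Subgroup H, B.Normal → IsMulCommutative B → A ≤ B → B = A) : A < Subgroup.centralizer (A : Set H) ∧ ¬ IsMulCommutative (Subgroup.centralizer (A : Set H)) := by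
  classical
  have hfinGL : Finite (V ≃ₗ[ZMod p] V) :=
    Finite.of_injective (fun e : V ≃ₗ[ZMod p] V => (e : V → V)) DFunLike.coe_injective
  -- V is nontrivial
  have hVnt : Nontrivial V := by
    obtain ⟨W, hWb, hWt, _⟩ := hI ⊥ inferInstance inferInstance
    by_contra hnt
    rw [not_nontrivial_iff_subsingleton] at hnt
    apply hWb
    rw [eq_bot_iff]
    intro x _
    rw [Submodule.mem_bot]
    exact Subsingleton.elim _ _
  -- freeness
  have hfree : ∀ h : H, ∀ v : V, v ≠ 0 → (h : V ≃ₗ[ZMod p] V) v = v → h = 1 := by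
    intro h v hv hhv
    obtain ⟨h₀, _, huniq⟩ := hreg v v hv hv
    rw [huniq h hhv, huniq 1 (by simp)]
  have hcyc : IsCyclic A := isCyclic_of_free H hfree A hAc
  have hc' : ∀ x y : A, x * y = y * x := fun x y => hAc.is_comm.comm x y
  have hle : A ≤ Subgroup.centralizer (A : Set H) := by
    intro x hx
    rw [Subgroup.mem_centralizer_iff]
    intro y hy
    exact congrArg Subtype.val (hc' ⟨y, hy⟩ ⟨x, hx⟩)
  have hCn : (Subgroup.centralizer (A : Set H)).Normal := Subgroup.normal_centralizer
  have hkey : A ≠ Subgroup.centralizer (A : Set H) := by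
    intro hAC
    -- a proper invariant subspace, minimal
    obtain ⟨W₀, hW₀b, hW₀t, hW₀⟩ := hI A hAn hcyc
    let S : Set (Submodule (ZMod p) V) := {W | W ≠ ⊥ ∧ W ≤ W₀ ∧
      ∀ a ∈ A, ∀ v ∈ W, ((a : H) : V ≃ₗ[ZMod p] V) v ∈ W}
    have hSne : S.Nonempty := ⟨W₀, hW₀b, le_refl _, hW₀⟩
    have hSfin : S.Finite := Set.toFinite S
    obtain ⟨W, hWS, hWmin⟩ := hSfin.exists_minimalFor (fun W : Submodule (ZMod p) V => Nat.card W)
      S hSne
    obtain ⟨hWb, hWW₀, hWinv⟩ := hWS
    have hWt : W ≠ ⊤ := by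
      intro h
      apply hW₀t
      rw [eq_top_iff, ← h]
      exact hWW₀
    -- nonzero vector in W and a vector outside W
    obtain ⟨w₀, hw₀W, hw₀⟩ := (Submodule.ne_bot_iff W).1 hWb
    obtain ⟨v₁, hv₁⟩ : ∃ v₁ : V, v₁ ∉ W := by
      by_contra hcon
      push Not at hcon
      apply hWt
      rw [eq_top_iff]
      intro x _
      exact hcon x
    have hv₁0 : v₁ ≠ 0 := by
      intro h
      apply hv₁
      rw [h]
      exact W.zero_mem
    obtain ⟨h, hh, _⟩ := hreg w₀ v₁ hw₀ hv₁0
    -- W ∩ hW = 0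
    have hint : ∀ x ∈ W, ∀ y ∈ W, x = (h : V ≃ₗ[ZMod p] V) y → x = 0 := by
      let W' : Submodule (ZMod p) V := W ⊓ W.map ((h : V ≃ₗ[ZMod p] V) : V →ₗ[ZMod p] V)
      have hW'inv : ∀ a ∈ A, ∀ v ∈ W', ((a : H) : V ≃ₗ[ZMod p] V) v ∈ W' := by
        intro a ha v hv
        obtain ⟨hv1, y, hy, hyv⟩ := hv
        refine ⟨hWinv a ha v hv1, ?_⟩
        -- a (h y) = h ((h⁻¹ a h) y)
        have hconj : h⁻¹ * a * h ∈ A := by
          have := hAn.conj_mem a ha h⁻¹
          simpa using this
        refine ⟨((h⁻¹ * a * h : H) : V ≃ₗ[ZMod p] V) y, hWinv _ hconj y hy, ?_⟩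
        rw [← hyv]
        simp
      by_cases hW'b : W' = ⊥
      · intro x hx y hy hxy
        have : x ∈ W' := ⟨hx, y, hy, hxy.symm⟩
        rw [hW'b, Submodule.mem_bot] at this
        exact this
      · exfalso
        have hW'S : W' ∈ S := ⟨hW'b, le_trans inf_le_left hWW₀, hW'inv⟩
        have hcard : Nat.card W ≤ Nat.card W' := by
          have hle' : Nat.card W' ≤ Nat.card W :=
            Nat.card_le_card_of_injective (Submodule.inclusion (inf_le_left : W' ≤ W))
              (Submodule.inclusion_injective _)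
          exact hWmin hW'S hle'
        have hWW' : W ≤ W' := by
          have hinj : Function.Injective (Submodule.inclusion (inf_le_left : W' ≤ W)) :=
            Submodule.inclusion_injective _
          have hbij := hinj.bijective_of_nat_card_le hcard
          intro x hx
          obtain ⟨⟨y, hy⟩, hyx⟩ := hbij.2 ⟨x, hx⟩
          have : y = x := congrArg Subtype.val hyx
          rw [← this]
          exact hy
        -- then W ≤ hW, so h⁻¹ maps W into W injectively, hence onto
        have hsub : ∀ x ∈ W, ((h : V ≃ₗ[ZMod p] V)).symm x ∈ W := by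
          intro x hx
          obtain ⟨_, y, hy, hyx⟩ := hWW' hx
          have hyx' : (h : V ≃ₗ[ZMod p] V) y = x := hyx
          rw [← hyx']
          simpa using hy
        let g : W → W := fun x => ⟨((h : V ≃ₗ[ZMod p] V)).symm x.1, hsub x.1 x.2⟩
        have hginj : Function.Injective g := by
          intro x y hxy
          have h1 : ((h : V ≃ₗ[ZMod p] V)).symm x.1 = ((h : V ≃ₗ[ZMod p] V)).symm y.1 :=
            congrArg Subtype.val hxy
          exact Subtype.ext (((h : V ≃ₗ[ZMod p] V)).symm.injective h1)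
        obtain ⟨⟨x, hx⟩, hgx⟩ := (Finite.injective_iff_surjective.1 hginj) ⟨w₀, hw₀W⟩
        have h1 : ((h : V ≃ₗ[ZMod p] V)).symm x = w₀ := congrArg Subtype.val hgx
        apply hv₁
        rw [← hh, ← h1]
        simpa using hx
    -- |W|^2 ≤ |V|
    have hsq : Nat.card W * Nat.card W ≤ Nat.card V := by
      rw [← Nat.card_prod]
      apply Nat.card_le_card_of_injective (fun xy : W × W => (xy.1 : V) + (h : V ≃ₗ[ZMod p] V) xy.2)
      rintro ⟨x, y⟩ ⟨x', y'⟩ hxy
      simp only at hxy
      have h1 : (x : V) - x' = (h : V ≃ₗ[ZMod p] V) ((y' : V) - y) := by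
        rw [map_sub]
        have := hxy
        calc (x : V) - x' = ((x : V) + (h : V ≃ₗ[ZMod p] V) y) - x' - (h : V ≃ₗ[ZMod p] V) y := by abel
          _ = ((x' : V) + (h : V ≃ₗ[ZMod p] V) y') - x' - (h : V ≃ₗ[ZMod p] V) y := by rw [hxy]
          _ = (h : V ≃ₗ[ZMod p] V) y' - (h : V ≃ₗ[ZMod p] V) y := by abel
      have h2 := hint _ (W.sub_mem x.2 x'.2) _ (W.sub_mem y'.2 y.2) h1
      have h3 : (h : V ≃ₗ[ZMod p] V) ((y' : V) - y) = 0 := by rw [← h1, h2]
      have h4 : (y' : V) - y = 0 := ((h : V ≃ₗ[ZMod p] V)).map_eq_zero_iff.1 h3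
      rw [Prod.mk.injEq]
      exact ⟨Subtype.ext (sub_eq_zero.1 h2), Subtype.ext (sub_eq_zero.1 h4).symm⟩
    -- |A| ∣ |W| - 1
    have hAdvd := card_dvd_card_sub_one H hfree A W hWinv
    have hWcard : 2 ≤ Nat.card W := by
      have hnt : Nontrivial W := ⟨⟨⟨w₀, hw₀W⟩, 0, fun h => hw₀ (congrArg Subtype.val h)⟩⟩
      exact Finite.one_lt_card_iff_nontrivial.2 hnt
    have hAle : Nat.card A ≤ Nat.card W - 1 := Nat.le_of_dvd (by omega) hAdvd
    -- |H| = |V| - 1
    have hHcard : Nat.card H = Nat.card V - 1 := by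
      have hbij : Function.Bijective (fun k : H => (⟨(k : V ≃ₗ[ZMod p] V) w₀, by
          intro h0
          exact hw₀ (((k : V ≃ₗ[ZMod p] V)).map_eq_zero_iff.1 h0)⟩ : {v : V // v ≠ 0})) := by
        constructor
        · intro k k' hkk
          have h1 : (k : V ≃ₗ[ZMod p] V) w₀ = (k' : V ≃ₗ[ZMod p] V) w₀ := congrArg Subtype.val hkk
          have hne : (k' : V ≃ₗ[ZMod p] V) w₀ ≠ 0 := fun h0 =>
            hw₀ (((k' : V ≃ₗ[ZMod p] V)).map_eq_zero_iff.1 h0)
          obtain ⟨_, _, huniq⟩ := hreg w₀ _ hw₀ hne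
          rw [huniq k h1, huniq k' rfl]
        · rintro ⟨v, hv⟩
          obtain ⟨k, hk, _⟩ := hreg w₀ v hw₀ hv
          exact ⟨k, Subtype.ext hk⟩
      rw [Nat.card_congr (Equiv.ofBijective _ hbij)]
      have : Fintype V := Fintype.ofFinite V
      rw [Nat.card_eq_fintype_card, Fintype.card_subtype_compl, Fintype.card_subtype_eq,
        Nat.card_eq_fintype_card]
    -- |H| ≤ |C_H(A)| * |Aut A| ≤ |A|^2
    have hHle : Nat.card H ≤ Nat.card A * Nat.card A := by
      let φ : H →* MulAut A := MulAut.conjNormal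
      have hker : φ.ker = Subgroup.centralizer (A : Set H) := by
        ext k
        rw [MonoidHom.mem_ker, Subgroup.mem_centralizer_iff]
        constructor
        · intro hk a ha
          have h1 : φ k ⟨a, ha⟩ = ⟨a, ha⟩ := by rw [hk]; rfl
          have h2 : k * a * k⁻¹ = a := by
            have := congrArg Subtype.val h1
            simpa [φ, MulAut.conjNormal_apply] using this
          calc a * k = (k * a * k⁻¹) * k := by rw [h2]
            _ = k * a := by group
        · intro hk
          apply MulEquiv.ext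
          intro a
          apply Subtype.ext
          simp only [φ, MulAut.conjNormal_apply, MulAut.one_apply]
          have h2 := hk a a.2
          calc k * (a : H) * k⁻¹ = ((a : H) * k) * k⁻¹ := by rw [h2]
            _ = (a : H) := by group
      have h1 : Nat.card φ.ker * φ.ker.index = Nat.card H := Subgroup.card_mul_index _
      rw [Subgroup.index_ker, hker, ← hAC] at h1
      have h2 : Nat.card φ.range ≤ Nat.card (MulAut A) :=
        Nat.card_le_card_of_injective _ Subtype.coe_injective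
      have h3 : Nat.card (MulAut A) = Nat.totient (Nat.card A) := IsCyclic.card_mulAut (G := A)
      have h4 : Nat.totient (Nat.card A) ≤ Nat.card A := Nat.totient_le _
      rw [← h1]
      exact Nat.mul_le_mul_left _ (le_trans h2 (h3 ▸ h4))
    -- arithmetic contradiction
    have hVpos : 0 < Nat.card V := Nat.card_pos
    have h5 : Nat.card A * Nat.card A ≤ (Nat.card W - 1) * (Nat.card W - 1) :=
      Nat.mul_le_mul hAle hAle
    have h6 : (Nat.card W - 1) * (Nat.card W - 1) + 1 < Nat.card W * Nat.card W := by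
      obtain ⟨q, hq⟩ : ∃ q, Nat.card W = q + 2 := ⟨Nat.card W - 2, by omega⟩
      rw [hq]
      have : q + 2 - 1 = q + 1 := by omega
      rw [this]
      ring_nf
      omega
    omega
  refine ⟨lt_of_le_of_ne hle hkey, ?_⟩
  intro hCc
  exact hkey (hAmax _ hCn hCc hle).symm


end main

end Cfsg.Agent.S0685
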