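import Cfsg.Statements.S0688
import Mathlib
import Cfsg.Agent.S0016
import Cfsg.Agent.S0684
import Cfsg.Agent.S0685

set_option autoImplicit false
open Cfsg

namespace Cfsg.Agent.S0688

open scoped commutatorElement


section GroupPart

variable {H : Type*} [Group H] [Finite H]

omit [Finite H] in
/-- commutativity of a join of two commutative subgroups centralizing each other -/
theorem comm_sup {K L : Subgroup H} (hK : IsMulCommutative K) (hL : IsMulCommutative L)
    (hKL : K ≤ Subgroup.centralizer (L : Set H)) : IsMulCommutative (K ⊔ L : Subgroup H) := by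
  rw [← Subgroup.le_centralizer_iff_isMulCommutative]
  have hLK : L ≤ Subgroup.centralizer (K : Set H) := Subgroup.le_centralizer_iff.mp hKL
  apply sup_le
  · rw [Subgroup.le_centralizer_iff]
    exact sup_le (Subgroup.le_centralizer_iff_isMulCommutative.mpr hK) hLK
  · rw [Subgroup.le_centralizer_iff]
    exact sup_le hKL (Subgroup.le_centralizer_iff_isMulCommutative.mpr hL)


/-- Step 1-5: a minimal nonabelian normal subgroup `N` inside `C_H(A)`, with `[N,N] ≤ A`. -/
theorem exists_min_nonabelian (hsolv : Group.IsSolvable H)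
    (A : Subgroup H) (hAn : A.Normal) (hAc : IsMulCommutative A)
    (hAmax : ∀ B : Subgroup H, B.Normal → IsMulCommutative B → A ≤ B → B = A)
    (hC : ¬ IsMulCommutative (Subgroup.centralizer (A : Set H))) :
    ∃ N : Subgroup H, N.Normal ∧ N ≤ Subgroup.centralizer (A : Set H) ∧ ¬ IsMulCommutative N ∧
      (∀ M : Subgroup H, M.Normal → M ≤ N → ¬ IsMulCommutative M → M = N) ∧ ⁅N, N⁆ ≤ A := by
  have hCn : (Subgroup.centralizer (A : Set H)).Normal := inferInstance
  obtain ⟨N, hN⟩ := exists_minimal_of_wellFoundedLT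
    (fun M : Subgroup H => M.Normal ∧ M ≤ Subgroup.centralizer (A : Set H) ∧ ¬ IsMulCommutative M)
    ⟨_, hCn, le_rfl, hC⟩
  obtain ⟨⟨hNn, hNC, hNna⟩, hNmin⟩ := hN
  have hmin : ∀ M : Subgroup H, M.Normal → M ≤ N → ¬ IsMulCommutative M → M = N := by
    intro M hMn hMN hMna
    exact le_antisymm hMN (hNmin ⟨hMn, hMN.trans hNC, hMna⟩ hMN)
  refine ⟨N, hNn, hNC, hNna, hmin, ?_⟩
  have hNbot : N ≠ ⊥ := by
    rintro rfl
    apply hNna
    exact ⟨⟨fun a b => by
      have ha : a = 1 := Subtype.ext (Subgroup.mem_bot.mp a.2)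
      have hb : b = 1 := Subtype.ext (Subgroup.mem_bot.mp b.2)
      rw [ha, hb]⟩⟩
  have hlt : ⁅N, N⁆ < N := Group.IsSolvable.commutator_lt_of_ne_bot hNbot
  have hN'n : (⁅N, N⁆ : Subgroup H).Normal := Subgroup.commutator_normal N N
  have hN'c : IsMulCommutative (⁅N, N⁆ : Subgroup H) := by
    by_contra h
    exact hlt.ne (hmin _ hN'n hlt.le h)
  have hN'C : ⁅N, N⁆ ≤ Subgroup.centralizer (A : Set H) := hlt.le.trans hNC
  have hsup := comm_sup hN'c hAc hN'C
  have hsupn : (⁅N, N⁆ ⊔ A : Subgroup H).Normal := Subgroup.sup_normal _ _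
  have := hAmax _ hsupn hsup le_sup_right
  rw [← this]
  exact le_sup_left


/-- a class-2 normal nonabelian subgroup contains a nonabelian `q`-subgroup normal in `H` -/
theorem exists_normal_pgroup (N : Subgroup H) (hNn : N.Normal) (hNna : ¬ IsMulCommutative N)
    (hcl : ∀ x ∈ (⁅N, N⁆ : Subgroup H), ∀ y ∈ N, x * y = y * x) :
    ∃ (q : ℕ) (_ : Fact q.Prime) (Q : Subgroup H), Q.Normal ∧ Q ≤ N ∧ IsPGroup q Q ∧
      ¬ IsMulCommutative Q := by
  have hnil : Group.IsNilpotent N := by
    apply Subgroup.isNilpotent_of_ker_le_center (Abelianization.of : N →* Abelianization N)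
    rw [Abelianization.ker_of]
    intro x hx
    rw [Subgroup.mem_center_iff]
    intro y
    apply Subtype.ext
    have hx' : (x : H) ∈ (⁅N, N⁆ : Subgroup H) := by
      rw [← Subgroup.map_subtype_commutator]
      exact Subgroup.mem_map_of_mem _ hx
    exact (hcl _ hx' _ y.2).symm
  have hnorm : ∀ (p : ℕ) (_hp : Fact p.Prime) (P : Sylow p N), (↑P : Subgroup N).Normal :=
    (Group.isNilpotent_of_finite_tfae (G := N)).out 0 3 |>.mp hnil
  obtain ⟨e⟩ := (Group.isNilpotent_of_finite_tfae (G := N)).out 0 4 |>.mp hnil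
  by_contra hcon
  push Not at hcon
  apply hNna
  have hall : ∀ (p : ℕ) (_ : Fact p.Prime) (P : Sylow p N), IsMulCommutative (P : Subgroup N) := by
    intro p hp P
    by_contra hP
    have hPn := hnorm p hp P
    have hchar : (P : Subgroup N).Characteristic := Sylow.characteristic_of_normal P hPn
    have hQn : ((P : Subgroup N).map N.subtype).Normal :=
      ConjAct.normal_of_characteristic_of_normal
    have hQle : (P : Subgroup N).map N.subtype ≤ N := Subgroup.map_subtype_le _
    have hQp : IsPGroup p ((P : Subgroup N).map N.subtype) := P.2.map _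
    have hQc := hcon p hp _ hQn hQle hQp
    apply hP
    refine ⟨⟨fun a b => ?_⟩⟩
    have ha : ((a : N) : H) ∈ (P : Subgroup N).map N.subtype := Subgroup.mem_map_of_mem _ a.2
    have hb : ((b : N) : H) ∈ (P : Subgroup N).map N.subtype := Subgroup.mem_map_of_mem _ b.2
    have := hQc.is_comm.comm ⟨_, ha⟩ ⟨_, hb⟩
    have h2 : ((a : N) : H) * ((b : N) : H) = ((b : N) : H) * ((a : N) : H) :=
      congrArg Subtype.val this
    apply Subtype.ext
    apply Subtype.ext
    exact h2
  refine ⟨⟨fun a b => ?_⟩⟩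
  apply e.symm.injective
  rw [map_mul, map_mul]
  funext p P
  have hp : Fact (p : ℕ).Prime := ⟨Nat.prime_of_mem_primeFactors p.2⟩
  have := (hall p hp P).is_comm.comm (e.symm a p P) (e.symm b p P)
  exact this


/-- if all abelian subgroups are cyclic, a `q`-group has a unique subgroup of order `q` -/
theorem unique_order (hcyc : ∀ B : Subgroup H, IsMulCommutative B → IsCyclic B)
    (q : ℕ) [hq : Fact q.Prime] (hH : IsPGroup q H) :
    ∀ U₁ U₂ : Subgroup H, Nat.card U₁ = q → Nat.card U₂ = q → U₁ = U₂ := by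
  rcases subsingleton_or_nontrivial H with hs | hnt
  · intro U₁ U₂ _ _
    exact Subsingleton.elim _ _
  -- a central element of order `q`
  have hcnt : Nontrivial (Subgroup.center H) := hH.center_nontrivial
  have hdvd : q ∣ Nat.card (Subgroup.center H) := by
    obtain ⟨k, hk⟩ := (hH.to_subgroup (Subgroup.center H)).exists_card_eq
    rw [hk]
    have : k ≠ 0 := by
      rintro rfl
      rw [pow_zero] at hk
      have := (Nat.card_eq_one_iff_unique.mp hk).1
      exact not_subsingleton _ this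
    exact dvd_pow_self q this
  obtain ⟨z, hz⟩ := exists_prime_orderOf_dvd_card' q hdvd
  have hz' : orderOf (z : H) = q := by rw [Subgroup.orderOf_coe, hz]
  have hzc : ∀ g : H, g * (z : H) = (z : H) * g := fun g => Subgroup.mem_center_iff.mp z.2 g
  have key : ∀ U : Subgroup H, Nat.card U = q → U = Subgroup.zpowers (z : H) := by
    intro U hU
    have hUcyc : IsCyclic U := isCyclic_of_prime_card hU
    have hUc : IsMulCommutative U := inferInstance
    have hZc : IsMulCommutative (Subgroup.zpowers (z : H)) := inferInstance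
    have hZU : Subgroup.zpowers (z : H) ≤ Subgroup.centralizer (U : Set H) := by
      rw [Subgroup.zpowers_le]
      rw [Subgroup.mem_centralizer_iff]
      intro g _
      exact hzc g
    have hBc := comm_sup hZc hUc hZU
    have hBcyc := hcyc _ hBc
    have hZn : (Subgroup.zpowers (z : H)).Normal := by
      constructor
      intro n hn g
      obtain ⟨k, rfl⟩ := Subgroup.mem_zpowers_iff.mp hn
      have : g * (z : H) ^ k * g⁻¹ = (z : H) ^ k := by
        have h1 : Commute g ((z : H) ^ k) := (show Commute g (z : H) from hzc g).zpow_right k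
        rw [h1.eq, mul_inv_cancel_right]
      rw [this]
      exact hn
    have hpow : ∀ x : (Subgroup.zpowers (z : H) ⊔ U : Subgroup H), x ^ q = 1 := by
      intro x
      have hx : (x : H) ∈ ((Subgroup.zpowers (z : H) ⊔ U : Subgroup H) : Set H) := x.2
      rw [Subgroup.normal_mul] at hx
      obtain ⟨a, ha, b, hb, hab⟩ := Set.mem_mul.mp hx
      apply Subtype.ext
      rw [Subgroup.coe_pow, Subgroup.coe_one, ← hab]
      obtain ⟨k, rfl⟩ := Subgroup.mem_zpowers_iff.mp ha
      have h1 : Commute ((z : H) ^ k) b := ((show Commute b (z : H) from hzc b).zpow_right k).symm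
      rw [h1.mul_pow]
      have h2 : ((z : H) ^ k) ^ q = 1 := by
        rw [← zpow_natCast, ← zpow_mul, mul_comm, zpow_mul, zpow_natCast, ← hz', pow_orderOf_eq_one,
          one_zpow]
      have h3 : b ^ q = 1 := by
        have : (⟨b, hb⟩ : U) ^ Nat.card U = 1 := pow_card_eq_one'
        rw [hU] at this
        exact congrArg Subtype.val this
      rw [h2, h3, one_mul]
    have hexp : Monoid.exponent (Subgroup.zpowers (z : H) ⊔ U : Subgroup H) ∣ q :=
      Monoid.exponent_dvd_of_forall_pow_eq_one hpow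
    rw [IsCyclic.exponent_eq_card] at hexp
    have hle : Nat.card (Subgroup.zpowers (z : H) ⊔ U : Subgroup H) ≤ q :=
      Nat.le_of_dvd hq.out.pos hexp
    have hZcard : Nat.card (Subgroup.zpowers (z : H)) = q := by
      rw [Nat.card_zpowers, hz']
    have h4 : Subgroup.zpowers (z : H) = Subgroup.zpowers (z : H) ⊔ U :=
      Subgroup.eq_of_le_of_card_ge le_sup_left (by rw [hZcard]; exact hle)
    have h5 : U ≤ Subgroup.zpowers (z : H) := by
      rw [h4]; exact le_sup_right
    exact Subgroup.eq_of_le_of_card_ge h5 (by rw [hZcard, hU])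
  intro U₁ U₂ h1 h2
  rw [key U₁ h1, key U₂ h2]


end GroupPart

section Quat

open QuaternionGroup

/-- a generalized quaternion group of class at most 2 has order at most 8 -/
theorem quat_class_two (m : ℕ) [NeZero m]
    (h : ∀ X Y W : QuaternionGroup m, ⁅X, Y⁆ * W = W * ⁅X, Y⁆) : m ∣ 2 := by
  have hm : ((m : ZMod (2 * m)) + m) = 0 := by
    have : ((2 * m : ℕ) : ZMod (2 * m)) = 0 := ZMod.natCast_self _
    rw [← this]
    push_cast
    ring
  have h1 : (a 1 : QuaternionGroup m)⁻¹ = a (-1) := by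
    apply inv_eq_of_mul_eq_one_right
    rw [a_mul_a, add_neg_cancel, a_zero]
  have h2 : (xa 0 : QuaternionGroup m)⁻¹ = xa m := by
    apply inv_eq_of_mul_eq_one_right
    rw [xa_mul_xa, sub_zero, hm, a_zero]
  have h3 : ⁅(a 1 : QuaternionGroup m), (xa 0 : QuaternionGroup m)⁆ = a 2 := by
    rw [commutatorElement_def, h1, h2, a_mul_xa, xa_mul_a, xa_mul_xa]
    congr 1
    have : (m : ZMod (2 * m)) + m - (0 - 1 + -1) = (m + m) + 2 := by ring
    rw [this, hm, zero_add]
  have h4 := h (a 1) (xa 0) (xa 0)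
  rw [h3, a_mul_xa, xa_mul_a] at h4
  have h5 : (0 : ZMod (2 * m)) - 2 = 0 + 2 := by
    injection h4
  have h6 : ((4 : ℕ) : ZMod (2 * m)) = 0 := by
    have : (4 : ZMod (2 * m)) = (0 + 2) - (0 - 2) := by ring
    push_cast
    rw [this, h5]
    ring
  rw [ZMod.natCast_eq_zero_iff] at h6
  have : 2 * m ∣ 2 * 2 := h6
  exact Nat.dvd_of_mul_dvd_mul_left (by norm_num) this


end Quat

section GroupPart2

variable {H : Type*} [Group H] [Finite H]

/-- a normal quaternion subgroup of order 8 -/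
theorem exists_normal_q8 (hsolv : Group.IsSolvable H)
    (hcyc : ∀ B : Subgroup H, IsMulCommutative B → IsCyclic B)
    (A : Subgroup H) (hAn : A.Normal) (hAc : IsMulCommutative A)
    (hAmax : ∀ B : Subgroup H, B.Normal → IsMulCommutative B → A ≤ B → B = A)
    (hC : ¬ IsMulCommutative (Subgroup.centralizer (A : Set H))) :
    ∃ Q : Subgroup H, Q.Normal ∧ Nonempty (Q ≃* QuaternionGroup 2) := by
  obtain ⟨N, hNn, hNC, hNna, -, hN'⟩ := exists_min_nonabelian hsolv A hAn hAc hAmax hC
  have hcl : ∀ x ∈ (⁅N, N⁆ : Subgroup H), ∀ y ∈ N, x * y = y * x := by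
    intro x hx y hy
    have h1 := Subgroup.mem_centralizer_iff.mp (hNC hy) x (hN' hx)
    exact h1
  obtain ⟨q, hq, Q, hQn, hQN, hQp, hQna⟩ := exists_normal_pgroup N hNn hNna hcl
  refine ⟨Q, hQn, ?_⟩
  -- abelian subgroups of `Q` are cyclic
  have hcycQ : ∀ B : Subgroup Q, IsMulCommutative B → IsCyclic B := by
    intro B hB
    have hinj : Function.Injective Q.subtype := Q.subtype_injective
    have e : B ≃* B.map Q.subtype := B.equivMapOfInjective _ hinj
    have hc : IsMulCommutative (B.map Q.subtype) := by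
      refine ⟨⟨fun x y => ?_⟩⟩
      apply e.symm.injective
      rw [map_mul, map_mul]
      exact hB.is_comm.comm _ _
    have := hcyc _ hc
    exact isCyclic_of_surjective e.symm e.symm.surjective
  have huniq := unique_order hcycQ q hQp
  rcases Cfsg.Agent.S0016.result q hQp huniq with hc | ⟨hq2, n, ⟨e⟩⟩
  · exfalso
    apply hQna
    have := hc
    infer_instance
  · -- class 2 forces order 8
    have hne : NeZero (2 ^ n) := ⟨by positivity⟩
    have hcl2 : ∀ X Y W : QuaternionGroup (2 ^ n), ⁅X, Y⁆ * W = W * ⁅X, Y⁆ := by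
      intro X Y W
      apply e.symm.injective
      rw [map_mul, map_mul, map_commutatorElement]
      apply Subtype.ext
      rw [Subgroup.coe_mul, Subgroup.coe_mul]
      have h1 : ((⁅e.symm X, e.symm Y⁆ : Q) : H) ∈ (⁅N, N⁆ : Subgroup H) := by
        have : ((⁅e.symm X, e.symm Y⁆ : Q) : H) = ⁅((e.symm X : Q) : H), ((e.symm Y : Q) : H)⁆ := by
          simp [commutatorElement_def]
        rw [this]
        exact Subgroup.commutator_mem_commutator (hQN (e.symm X).2) (hQN (e.symm Y).2)
      exact hcl _ h1 _ (hQN (e.symm W).2)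
    have hdvd := quat_class_two (2 ^ n) hcl2
    have hn : n ≤ 1 := by
      by_contra hn
      push Not at hn
      have h1 : 2 ^ 2 ∣ 2 ^ n := pow_dvd_pow 2 hn
      have h2 : 4 ∣ 2 := by
        have : (2 : ℕ) ^ 2 = 4 := by norm_num
        rw [← this]
        exact h1.trans hdvd
      omega
    interval_cases n
    · exfalso
      apply hQna
      have h1 : IsCyclic (QuaternionGroup (2 ^ 0)) := by
        rw [pow_zero]
        exact QuaternionGroup.quaternionGroup_one_isCyclic
      have h2 : IsCyclic Q := isCyclic_of_surjective e.symm e.symm.surjective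
      infer_instance
    · rw [pow_one] at e
      exact ⟨e⟩


end GroupPart2

section Aut

open QuaternionGroup MulAction

/-- a finite inverse-closed set without self-inverse elements has even cardinality -/
theorem even_card_of_inv {Q : Type*} [Group Q] [DecidableEq Q] (O : Finset Q)
    (hinv : ∀ x ∈ O, x⁻¹ ∈ O) (hne : ∀ x ∈ O, x⁻¹ ≠ x) : Even O.card := by
  have h := Finset.sum_involution (s := O) (f := fun _ => (1 : ZMod 2)) (fun x _ => x⁻¹)
    (fun _ _ => by decide) (fun x hx _ => hne x hx) (fun x hx => hinv x hx)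
    (fun x _ => inv_inv x)
  rw [Finset.sum_const, nsmul_eq_mul, mul_one] at h
  exact (ZMod.natCast_eq_zero_iff_even).mp h


/-- the order of a group of automorphisms of `Q₈` containing the inner automorphisms -/
theorem card_aut_q8 (G : Subgroup (MulAut (QuaternionGroup 2)))
    (hi : MulAut.conj (a 1 : QuaternionGroup 2) ∈ G)
    (hj : MulAut.conj (xa 0 : QuaternionGroup 2) ∈ G) :
    Nat.card G = 4 ∨ Nat.card G = 8 ∨ Nat.card G = 12 ∨ Nat.card G = 16 ∨ Nat.card G = 24 := by
  classical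
  have hfin : Finite (MulAut (QuaternionGroup 2)) := inferInstance
  -- element facts
  have F1 : ∀ x : QuaternionGroup 2, x ≠ 1 → x ≠ a 2 → x⁻¹ ≠ x := by decide
  have F2 : (xa 0 : QuaternionGroup 2) * a 1 * (xa 0)⁻¹ = (a 1)⁻¹ := by decide
  have F3 : (a 1 : QuaternionGroup 2) * xa 0 * (a 1)⁻¹ = (xa 0)⁻¹ := by decide
  have F4 : ∀ x : QuaternionGroup 2, ∃ k l : ℕ, x = (a 1) ^ k * (xa 0) ^ l := by
    intro x
    have : ∀ x : QuaternionGroup 2, ∃ k : Fin 4, ∃ l : Fin 2, x = (a 1) ^ (k : ℕ) * (xa 0) ^ (l : ℕ) := by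
      decide
    obtain ⟨k, l, h⟩ := this x
    exact ⟨k, l, h⟩
  have F5 : (a 1 : QuaternionGroup 2) * a 1 = a 2 := by decide
  have F6 : (a 2 : QuaternionGroup 2) * a 2 = 1 := by decide
  have F7 : (a 2 : QuaternionGroup 2) ≠ 1 := by decide
  have F8 : (xa 0 : QuaternionGroup 2) * xa 0 = a 2 := by decide
  have F9 : (xa 0 : QuaternionGroup 2) ≠ a 1 := by decide
  have F10 : (xa 0 : QuaternionGroup 2) ≠ (a 1)⁻¹ := by decide
  have F11 : (a 1 : QuaternionGroup 2)⁻¹ = a 3 := by decide
  have hsmulG : ∀ (g : G) (x : QuaternionGroup 2), g • x = (g : MulAut (QuaternionGroup 2)) x :=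
    fun g x => rfl
  -- no automorphism maps an element of order 4 to `1` or `a 2`
  have hne1 : ∀ (σ : MulAut (QuaternionGroup 2)) (x : QuaternionGroup 2), x * x = a 2 →
      σ x ≠ 1 ∧ σ x ≠ a 2 := by
    intro σ x hx
    constructor
    · intro h
      have : x = 1 := by
        apply σ.injective
        rw [h, map_one]
      rw [this, one_mul] at hx
      exact F7 hx.symm
    · intro h
      have h2 : σ (a 2) = 1 := by rw [← hx, map_mul, h, F6]
      have : (a 2 : QuaternionGroup 2) = 1 := by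
        apply σ.injective
        rw [h2, map_one]
      exact F7 this
  set S := stabilizer G (a 1 : QuaternionGroup 2) with hS
  have hsmulS : ∀ (s : S) (x : QuaternionGroup 2),
      s • x = ((s : G) : MulAut (QuaternionGroup 2)) x := fun s x => rfl
  have h1 : Nat.card G = Nat.card (orbit G (a 1 : QuaternionGroup 2)) * Nat.card S := by
    rw [Subgroup.card_eq_card_quotient_mul_card_subgroup S]
    congr 1
    exact (Nat.card_congr (orbitEquivQuotientStabilizer G (a 1 : QuaternionGroup 2))).symm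
  have h2 : Nat.card S = Nat.card (orbit S (xa 0 : QuaternionGroup 2)) *
      Nat.card (stabilizer S (xa 0 : QuaternionGroup 2)) := by
    rw [Subgroup.card_eq_card_quotient_mul_card_subgroup (stabilizer S (xa 0 : QuaternionGroup 2))]
    congr 1
    exact (Nat.card_congr (orbitEquivQuotientStabilizer S (xa 0 : QuaternionGroup 2))).symm
  have h3 : Nat.card (stabilizer S (xa 0 : QuaternionGroup 2)) = 1 := by
    rw [Nat.card_eq_one_iff_unique]
    refine ⟨⟨?_⟩, ⟨1⟩⟩
    intro s t
    have key : ∀ u : stabilizer S (xa 0 : QuaternionGroup 2), u = 1 := by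
      intro u
      apply Subtype.ext
      apply Subtype.ext
      apply Subtype.ext
      apply MulEquiv.ext
      intro x
      have hu1 : (((u : S) : G) : MulAut (QuaternionGroup 2)) (a 1) = a 1 := (u : S).2
      have hu2 : (((u : S) : G) : MulAut (QuaternionGroup 2)) (xa 0) = xa 0 := u.2
      obtain ⟨k, l, rfl⟩ := F4 x
      simp only [map_mul, map_pow, hu1, hu2]
      rfl
    rw [key s, key t]
  -- first orbit
  have ha : Nat.card (orbit G (a 1 : QuaternionGroup 2)) = 2 ∨
      Nat.card (orbit G (a 1 : QuaternionGroup 2)) = 4 ∨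
      Nat.card (orbit G (a 1 : QuaternionGroup 2)) = 6 := by
    set O : Finset (QuaternionGroup 2) :=
      Finset.univ.filter (fun x => x ∈ orbit G (a 1 : QuaternionGroup 2)) with hO
    have hcard : Nat.card (orbit G (a 1 : QuaternionGroup 2)) = O.card := by
      rw [Nat.card_eq_fintype_card, Fintype.card_subtype]
    have hmemO : ∀ x, x ∈ O ↔ ∃ g : G, (g : MulAut (QuaternionGroup 2)) (a 1) = x := by
      intro x
      rw [hO, Finset.mem_filter]
      simp only [Finset.mem_univ, true_and, mem_orbit_iff, hsmulG]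
    have hsub : O ⊆ Finset.univ.filter (fun x : QuaternionGroup 2 => x ≠ 1 ∧ x ≠ a 2) := by
      intro x hx
      obtain ⟨g, rfl⟩ := (hmemO x).mp hx
      rw [Finset.mem_filter]
      exact ⟨Finset.mem_univ _, hne1 _ _ F5⟩
    have hle : O.card ≤ 6 := by
      have := Finset.card_le_card hsub
      have h6 : (Finset.univ.filter (fun x : QuaternionGroup 2 => x ≠ 1 ∧ x ≠ a 2)).card = 6 := by
        decide
      omega
    have hpos : 0 < O.card := by
      apply Finset.card_pos.mpr
      exact ⟨a 1, (hmemO _).mpr ⟨1, rfl⟩⟩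
    have heven : Even O.card := by
      apply even_card_of_inv
      · intro x hx
        obtain ⟨g, rfl⟩ := (hmemO x).mp hx
        rw [hmemO]
        refine ⟨g * ⟨_, hj⟩, ?_⟩
        rw [Subgroup.coe_mul, MulAut.mul_apply]
        show (g : MulAut (QuaternionGroup 2)) (MulAut.conj (xa 0) (a 1)) = _
        rw [MulAut.conj_apply, F2, map_inv]
      · intro x hx
        obtain ⟨g, rfl⟩ := (hmemO x).mp hx
        have := hne1 (g : MulAut (QuaternionGroup 2)) _ F5
        exact F1 _ this.1 this.2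
    rw [hcard]
    obtain ⟨k, hk⟩ := heven
    omega
  -- second orbit
  have hb : Nat.card (orbit S (xa 0 : QuaternionGroup 2)) = 2 ∨
      Nat.card (orbit S (xa 0 : QuaternionGroup 2)) = 4 := by
    set O : Finset (QuaternionGroup 2) :=
      Finset.univ.filter (fun x => x ∈ orbit S (xa 0 : QuaternionGroup 2)) with hO
    have hcard : Nat.card (orbit S (xa 0 : QuaternionGroup 2)) = O.card := by
      rw [Nat.card_eq_fintype_card, Fintype.card_subtype]
    have hmemO : ∀ x, x ∈ O ↔ ∃ s : S, ((s : G) : MulAut (QuaternionGroup 2)) (xa 0) = x := by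
      intro x
      rw [hO, Finset.mem_filter]
      simp only [Finset.mem_univ, true_and, mem_orbit_iff, hsmulS]
    have hsub : O ⊆ Finset.univ.filter
        (fun x : QuaternionGroup 2 => x ≠ 1 ∧ x ≠ a 2 ∧ x ≠ a 1 ∧ x ≠ a 3) := by
      intro x hx
      obtain ⟨s, rfl⟩ := (hmemO x).mp hx
      rw [Finset.mem_filter]
      have hs1 : ((s : G) : MulAut (QuaternionGroup 2)) (a 1) = a 1 := s.2
      refine ⟨Finset.mem_univ _, (hne1 _ _ F8).1, (hne1 _ _ F8).2, ?_, ?_⟩
      · intro h
        rw [← hs1] at h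
        exact F9 (((s : G) : MulAut (QuaternionGroup 2)).injective h)
      · intro h
        rw [← F11, ← hs1, ← map_inv] at h
        exact F10 (((s : G) : MulAut (QuaternionGroup 2)).injective h)
    have hle : O.card ≤ 4 := by
      have := Finset.card_le_card hsub
      have h4 : (Finset.univ.filter
          (fun x : QuaternionGroup 2 => x ≠ 1 ∧ x ≠ a 2 ∧ x ≠ a 1 ∧ x ≠ a 3)).card = 4 := by
        decide
      omega
    have hpos : 0 < O.card := by
      apply Finset.card_pos.mpr
      exact ⟨xa 0, (hmemO _).mpr ⟨1, rfl⟩⟩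
    have hiS : (⟨_, hi⟩ : G) ∈ S := by
      rw [hS, mem_stabilizer_iff, hsmulG]
      show MulAut.conj (a 1) (a 1) = a 1
      rw [MulAut.conj_apply, mul_inv_cancel_right]
    have heven : Even O.card := by
      apply even_card_of_inv
      · intro x hx
        obtain ⟨s, rfl⟩ := (hmemO x).mp hx
        rw [hmemO]
        refine ⟨s * ⟨_, hiS⟩, ?_⟩
        rw [Subgroup.coe_mul, Subgroup.coe_mul, MulAut.mul_apply]
        show ((s : G) : MulAut (QuaternionGroup 2)) (MulAut.conj (a 1) (xa 0)) = _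
        rw [MulAut.conj_apply, F3, map_inv]
      · intro x hx
        obtain ⟨s, rfl⟩ := (hmemO x).mp hx
        have := hne1 ((s : G) : MulAut (QuaternionGroup 2)) _ F8
        exact F1 _ this.1 this.2
    rw [hcard]
    obtain ⟨k, hk⟩ := heven
    omega
  rw [h1, h2, h3, mul_one]
  rcases ha with ha | ha | ha <;> rcases hb with hb | hb <;> rw [ha, hb] <;> norm_num


theorem card_eq_mul_ker {H : Type*} [Group H] [Finite H] (Q : Subgroup H) [Q.Normal]
    (e : Q ≃* QuaternionGroup 2) :
    ∃ C₀ : Subgroup H, (∀ c ∈ C₀, ∀ q ∈ Q, c * q = q * c) ∧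
      ∃ g : ℕ, (g = 4 ∨ g = 8 ∨ g = 12 ∨ g = 16 ∨ g = 24) ∧ Nat.card H = g * Nat.card C₀ := by
  set φ : H →* MulAut (QuaternionGroup 2) :=
    (MulAut.congr e).toMonoidHom.comp (MulAut.conjNormal (H := Q)) with hφ
  have hconj : ∀ q : Q, φ (q : H) = MulAut.conj (e q) := by
    intro q
    rw [hφ, MonoidHom.comp_apply, MulAut.conjNormal_val]
    apply MulEquiv.ext
    intro x
    show e (MulAut.conj q (e.symm x)) = MulAut.conj (e q) x
    rw [MulAut.conj_apply, MulAut.conj_apply, map_mul, map_mul, map_inv, e.apply_symm_apply]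
  refine ⟨φ.ker, ?_, Nat.card φ.range, ?_, ?_⟩
  · intro c hc q hq
    rw [MonoidHom.mem_ker, hφ, MonoidHom.comp_apply] at hc
    have h1 : MulAut.conjNormal (H := Q) c = 1 := by
      apply (MulAut.congr e).injective
      rw [map_one]
      exact hc
    have h2 : ((MulAut.conjNormal (H := Q) c) ⟨q, hq⟩ : H) = c * q * c⁻¹ :=
      MulAut.conjNormal_apply c ⟨q, hq⟩
    rw [h1] at h2
    have h3 : q = c * q * c⁻¹ := h2
    calc c * q = c * q * c⁻¹ * c := by group
      _ = q * c := by rw [← h3]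
  · apply card_aut_q8
    · refine ⟨((e.symm (a 1) : Q) : H), ?_⟩
      rw [hconj, e.apply_symm_apply]
    · refine ⟨((e.symm (xa 0) : Q) : H), ?_⟩
      rw [hconj, e.apply_symm_apply]
  · rw [← Subgroup.index_ker, mul_comm, Subgroup.card_mul_index]


end Aut

section Linear

variable {p : ℕ} [Fact p.Prime] {V : Type*} [AddCommGroup V] [Module (ZMod p) V]

variable (I J : V →ₗ[ZMod p] V) (a b : ZMod p)

/-- `e = a I + b J` -/
def eM : V →ₗ[ZMod p] V := a • I + b • J
/-- `f = a J - b I` -/
def fM : V →ₗ[ZMod p] V := a • J - b • I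

theorem eM_apply (v : V) : eM I J a b v = a • I v + b • J v := rfl
theorem fM_apply (v : V) : fM I J a b v = a • J v - b • I v := rfl

/-- the `+1`-eigenspace of `e = a I + b J` -/
def eig : Submodule (ZMod p) V :=
  LinearMap.ker (eM I J a b - LinearMap.id)

theorem mem_eig (v : V) : v ∈ eig I J a b ↔ eM I J a b v = v := by
  rw [eig, LinearMap.mem_ker, LinearMap.sub_apply, LinearMap.id_apply, sub_eq_zero]

variable (hII : ∀ v, I (I v) = -v) (hJJ : ∀ v, J (J v) = -v) (hIJ : ∀ v, I (J v) = -J (I v))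
  (hab : a ^ 2 + b ^ 2 = -1)

include hII hJJ hIJ hab in
theorem e_e (v : V) : eM I J a b (eM I J a b v) = v := by
  simp only [eM_apply, map_add, map_smul, hII, hJJ, hIJ]
  have key : (a ^ 2 + b ^ 2) • v = (-1 : ZMod p) • v := by rw [hab]
  linear_combination (norm := module) (-1 : ZMod p) • key

include hII hJJ hIJ hab in
theorem f_f (v : V) : fM I J a b (fM I J a b v) = v := by
  simp only [fM_apply, map_sub, map_smul, hII, hJJ, hIJ]
  have key : (a ^ 2 + b ^ 2) • v = (-1 : ZMod p) • v := by rw [hab]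
  linear_combination (norm := module) (-1 : ZMod p) • key

include hII hJJ hIJ in
theorem e_f (v : V) : eM I J a b (fM I J a b v) = -fM I J a b (eM I J a b v) := by
  simp only [eM_apply, fM_apply, map_sub, map_add, map_smul, hII, hJJ, hIJ]
  module


theorem card_eq_sq_abs [Finite V] (e f : V →ₗ[ZMod p] V) (hee : ∀ v, e (e v) = v)
    (hff : ∀ v, f (f v) = v) (hef : ∀ v, e (f v) = -f (e v)) (h2 : (2 : ZMod p) ≠ 0) :
    Nat.card V = Nat.card (LinearMap.ker (e - LinearMap.id)) *
      Nat.card (LinearMap.ker (e - LinearMap.id)) := by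
  have hmem : ∀ v : V, v ∈ LinearMap.ker (e - LinearMap.id) ↔ e v = v := by
    intro v
    rw [LinearMap.mem_ker, LinearMap.sub_apply, LinearMap.id_apply, sub_eq_zero]
  rw [← Nat.card_prod]
  symm
  apply Nat.card_congr
  have hhalf : ∀ v : V, (2 : ZMod p)⁻¹ • ((2 : ZMod p) • v) = v := by
    intro v
    rw [smul_smul, inv_mul_cancel₀ h2, one_smul]
  refine
    { toFun := fun uw => (uw.1 : V) + f (uw.2 : V)
      invFun := fun v =>
        (⟨(2 : ZMod p)⁻¹ • (v + e v), ?_⟩, ⟨f ((2 : ZMod p)⁻¹ • (v - e v)), ?_⟩)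
      left_inv := ?_
      right_inv := ?_ }
  · rw [hmem, map_smul, map_add, hee, add_comm]
  · rw [hmem, hef, ← map_neg, map_smul, map_sub, hee, ← smul_neg, neg_sub]
  · rintro ⟨⟨u, hu⟩, ⟨w, hw⟩⟩
    rw [hmem] at hu hw
    have h1 : e (u + f w) = u - f w := by
      rw [map_add, hu, hef, hw, sub_eq_add_neg]
    apply Prod.ext
    · apply Subtype.ext
      show (2 : ZMod p)⁻¹ • (u + f w + e (u + f w)) = u
      rw [h1]
      have : u + f w + (u - f w) = (2 : ZMod p) • u := by module
      rw [this, hhalf]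
    · apply Subtype.ext
      show f ((2 : ZMod p)⁻¹ • (u + f w - e (u + f w))) = w
      rw [h1]
      have : u + f w - (u - f w) = (2 : ZMod p) • f w := by module
      rw [this, hhalf, hff]
  · intro v
    show (2 : ZMod p)⁻¹ • (v + e v) + f (f ((2 : ZMod p)⁻¹ • (v - e v))) = v
    rw [hff]
    have : (2 : ZMod p)⁻¹ • (v + e v) + (2 : ZMod p)⁻¹ • (v - e v)
        = (2 : ZMod p)⁻¹ • ((2 : ZMod p) • v) := by module
    rw [this, hhalf]


end Linear

theorem arith (p m c g : ℕ) (hp : p.Prime) (hp2 : p ≠ 2) (hm : 1 ≤ m)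
    (hc : c ∣ p ^ m - 1) (hg : g = 4 ∨ g = 8 ∨ g = 12 ∨ g = 16 ∨ g = 24)
    (h : (p ^ m) ^ 2 - 1 = g * c) :
    m = 1 ∧ (p = 3 ∨ p = 5 ∨ p = 7 ∨ p = 11 ∨ p = 23) := by
  have hp3 : 3 ≤ p := by
    have := hp.two_le
    omega
  obtain ⟨P, hP⟩ : ∃ P, P = p ^ m := ⟨_, rfl⟩
  rw [← hP] at h hc
  have hP3 : 3 ≤ P := by
    rw [hP]
    calc 3 ≤ p := hp3
      _ = p ^ 1 := (pow_one p).symm
      _ ≤ p ^ m := Nat.pow_le_pow_right (by omega) hm
  obtain ⟨r, hr⟩ := hc
  have hfac : P ^ 2 - 1 = (P - 1) * (P + 1) := by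
    obtain ⟨k, rfl⟩ : ∃ k, P = k + 1 := ⟨P - 1, by omega⟩
    simp only [Nat.add_sub_cancel]
    have : (k + 1) ^ 2 = k * (k + 1 + 1) + 1 := by ring
    omega
  have hcpos : 0 < c := by
    rcases Nat.eq_zero_or_pos c with h0 | h0
    · rw [h0, zero_mul] at hr
      omega
    · exact h0
  have hg' : r * (P + 1) = g := by
    rw [hfac, hr] at h
    have : c * (r * (P + 1)) = c * g := by rw [← mul_assoc, h, mul_comm]
    exact Nat.eq_of_mul_eq_mul_left hcpos this
  have hd : (P + 1) ∣ g := ⟨r, by rw [← hg', mul_comm]⟩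
  have hgle : g ≤ 24 := by rcases hg with rfl | rfl | rfl | rfl | rfl <;> norm_num
  have hPle : P ≤ 23 := by
    have := Nat.le_of_dvd (by rcases hg with rfl | rfl | rfl | rfl | rfl <;> norm_num) hd
    omega
  have hcases : P = 3 ∨ P = 5 ∨ P = 7 ∨ P = 11 ∨ P = 15 ∨ P = 23 := by
    clear hfac hg' hr h hP
    interval_cases P <;> rcases hg with rfl | rfl | rfl | rfl | rfl <;> revert hd <;> decide
  rcases hcases with h3 | h3 | h3 | h3 | h3 | h3
  · rw [h3] at hP
    obtain ⟨h1, h2⟩ := (Nat.Prime.pow_eq_iff (by norm_num : Nat.Prime 3)).mp hP.symm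
    exact ⟨h2, Or.inl h1⟩
  · rw [h3] at hP
    obtain ⟨h1, h2⟩ := (Nat.Prime.pow_eq_iff (by norm_num : Nat.Prime 5)).mp hP.symm
    exact ⟨h2, Or.inr (Or.inl h1)⟩
  · rw [h3] at hP
    obtain ⟨h1, h2⟩ := (Nat.Prime.pow_eq_iff (by norm_num : Nat.Prime 7)).mp hP.symm
    exact ⟨h2, Or.inr (Or.inr (Or.inl h1))⟩
  · rw [h3] at hP
    obtain ⟨h1, h2⟩ := (Nat.Prime.pow_eq_iff (by norm_num : Nat.Prime 11)).mp hP.symm
    exact ⟨h2, Or.inr (Or.inr (Or.inr (Or.inl h1)))⟩
  · exfalso
    rw [h3] at hP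
    have hpd : p ∣ 15 := by
      rw [hP]
      exact dvd_pow_self p (by omega)
    have hp35 : p = 3 ∨ p = 5 := by
      have : p ∣ 3 * 5 := hpd
      rcases (Nat.Prime.dvd_mul hp).mp this with h | h
      · left; exact (Nat.prime_dvd_prime_iff_eq hp (by norm_num)).mp h
      · right; exact (Nat.prime_dvd_prime_iff_eq hp (by norm_num)).mp h
    have hm2 : m < 2 := by
      by_contra hm2
      push Not at hm2
      have : p ^ 2 ∣ 15 := by
        rw [hP]
        exact pow_dvd_pow p hm2
      rcases hp35 with rfl | rfl <;> revert this <;> decide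
    have hm1 : m = 1 := by omega
    rw [hm1, pow_one] at hP
    rcases hp35 with rfl | rfl <;> omega
  · rw [h3] at hP
    obtain ⟨h1, h2⟩ := (Nat.Prime.pow_eq_iff (by norm_num : Nat.Prime 23)).mp hP.symm
    exact ⟨h2, Or.inr (Or.inr (Or.inr (Or.inr h1)))⟩


/-- Degrees of the soluble exceptional sharply doubly transitive groups: if a solvable linear group over the prime field is regular on the non-zero vectors of `V` and has no irreducible cyclic normal subgroup, then `V` has 25, 49, 121 or 529 elements. -/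
theorem result {p : ℕ} [Fact p.Prime] {V : Type*} [AddCommGroup V] [Module (ZMod p) V] [Finite V] (H : Subgroup (V ≃ₗ[ZMod p] V)) (hreg : ∀ v w : V, v ≠ 0 → w ≠ 0 → ∃! h : H, (h : V ≃ₗ[ZMod p] V) v = w) (hI : ∀ A : Subgroup H, A.Normal → IsCyclic A → ∃ W : Submodule (ZMod p) V, W ≠ ⊥ ∧ W ≠ ⊤ ∧ ∀ a ∈ A, ∀ v ∈ W, ((a : H) : V ≃ₗ[ZMod p] V) v ∈ W) (hsolv : Group.IsSolvable H) : Nat.card V = 25 ∨ Nat.card V = 49 ∨ Nat.card V = 121 ∨ Nat.card V = 529 := by
  classical
  have hp : p.Prime := Fact.out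
  have hfinGL : Finite (V ≃ₗ[ZMod p] V) := Finite.of_injective (fun e => (e : V → V))
    (fun e f h => LinearEquiv.ext (congrFun h))
  have hfpf : ∀ h : H, ∀ v : V, v ≠ 0 → (h : V ≃ₗ[ZMod p] V) v = v → h = 1 := by
    intro h v hv hhv
    obtain ⟨h0, -, huniq⟩ := hreg v v hv hv
    rw [huniq h hhv, huniq 1 (by simp)]
  have hVnt : Nontrivial V := by
    obtain ⟨W, hW1, hW2, -⟩ := hI ⊥ inferInstance inferInstance
    by_contra hnt
    rw [not_nontrivial_iff_subsingleton] at hnt
    apply hW1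
    rw [Submodule.eq_bot_iff]
    intro x _
    exact Subsingleton.elim _ _
  have hcyc : ∀ B : Subgroup H, IsMulCommutative B → IsCyclic B :=
    fun B hB => Cfsg.Agent.S0684.isCyclic_of_fpf H B hfpf
  -- a maximal normal abelian subgroup
  obtain ⟨A, hA⟩ := exists_maximal_of_wellFoundedGT
    (fun B : Subgroup H => B.Normal ∧ IsMulCommutative B) ⟨⊥, inferInstance, inferInstance⟩
  obtain ⟨⟨hAn, hAc⟩, hAmax'⟩ := hA
  have hAmax : ∀ B : Subgroup H, B.Normal → IsMulCommutative B → A ≤ B → B = A :=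
    fun B hBn hBc hAB => le_antisymm (hAmax' ⟨hBn, hBc⟩ hAB) hAB
  obtain ⟨-, hC⟩ := Cfsg.Agent.S0685.result H hreg hI A hAn hAc hAmax
  obtain ⟨Q, hQn, ⟨e⟩⟩ := exists_normal_q8 hsolv hcyc A hAn hAc hAmax hC
  obtain ⟨C₀, hC₀, g, hg, hcard⟩ := card_eq_mul_ker Q e
  -- the generators
  let ι : QuaternionGroup 2 →* H := Q.subtype.comp e.symm.toMonoidHom
  have hιQ : ∀ x, ι x ∈ Q := fun x => (e.symm x).2
  have hιinj : Function.Injective ι := by
    intro x y hxy
    apply e.symm.injective
    apply Subtype.ext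
    exact hxy
  have r1 : ι (QuaternionGroup.a 1) * ι (QuaternionGroup.a 1) = ι (QuaternionGroup.a 2) := by
    rw [← map_mul]; congr 1
  have r2 : ι (QuaternionGroup.xa 0) * ι (QuaternionGroup.xa 0) = ι (QuaternionGroup.a 2) := by
    rw [← map_mul]; congr 1
  have r3 : ι (QuaternionGroup.a 1) * ι (QuaternionGroup.xa 0)
      = ι (QuaternionGroup.a 2) * (ι (QuaternionGroup.xa 0) * ι (QuaternionGroup.a 1)) := by
    rw [← map_mul, ← map_mul, ← map_mul]; congr 1
  have r4 : ι (QuaternionGroup.a 2) * ι (QuaternionGroup.a 2) = 1 := by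
    rw [← map_mul, ← map_one ι]; congr 1
  have r5 : ι (QuaternionGroup.a 2) ≠ 1 := by
    intro h
    rw [← map_one ι] at h
    have := hιinj h
    revert this
    decide
  -- involutions act as `-1`
  have hneg : ∀ t : H, t ≠ 1 → t * t = 1 → ∀ v : V, (t : V ≃ₗ[ZMod p] V) v = -v := by
    intro t ht1 ht2 v
    have h1 : (t : V ≃ₗ[ZMod p] V) ((t : V ≃ₗ[ZMod p] V) v) = v := by
      have : ((t * t : H) : V ≃ₗ[ZMod p] V) v = v := by rw [ht2]; rfl
      exact this
    have h2 : (t : V ≃ₗ[ZMod p] V) ((t : V ≃ₗ[ZMod p] V) v + v) = (t : V ≃ₗ[ZMod p] V) v + v := by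
      rw [map_add, h1, add_comm]
    have h3 : (t : V ≃ₗ[ZMod p] V) v + v = 0 := by
      by_contra h0
      exact ht1 (hfpf t _ h0 h2)
    exact eq_neg_of_add_eq_zero_left h3
  have hz := hneg _ r5 r4
  -- `p` is odd
  have h2 : (2 : ZMod p) ≠ 0 := by
    intro h0
    obtain ⟨v, hv⟩ := exists_ne (0 : V)
    apply r5
    apply hfpf _ v hv
    rw [hz]
    have : (2 : ZMod p) • v = 0 := by rw [h0, zero_smul]
    rw [two_smul] at this
    exact (eq_neg_of_add_eq_zero_left this).symm
  have hp2 : p ≠ 2 := by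
    rintro rfl
    apply h2
    exact ZMod.natCast_self 2
  -- the linear maps
  let I : V →ₗ[ZMod p] V := ((ι (QuaternionGroup.a 1) : V ≃ₗ[ZMod p] V) : V →ₗ[ZMod p] V)
  let J : V →ₗ[ZMod p] V := ((ι (QuaternionGroup.xa 0) : V ≃ₗ[ZMod p] V) : V →ₗ[ZMod p] V)
  have hII : ∀ v, I (I v) = -v := by
    intro v
    rw [← hz]
    show ((ι (QuaternionGroup.a 1) * ι (QuaternionGroup.a 1) : H) : V ≃ₗ[ZMod p] V) v = _
    rw [r1]
  have hJJ : ∀ v, J (J v) = -v := by
    intro v
    rw [← hz]
    show ((ι (QuaternionGroup.xa 0) * ι (QuaternionGroup.xa 0) : H) : V ≃ₗ[ZMod p] V) v = _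
    rw [r2]
  have hIJ : ∀ v, I (J v) = -J (I v) := by
    intro v
    rw [← hz]
    show ((ι (QuaternionGroup.a 1) * ι (QuaternionGroup.xa 0) : H) : V ≃ₗ[ZMod p] V) v = _
    rw [r3]
    rfl
  obtain ⟨a, b, hab⟩ := ZMod.sq_add_sq p (-1)
  have hVW := card_eq_sq_abs (eM I J a b) (fM I J a b) (e_e I J a b hII hJJ hIJ hab)
    (f_f I J a b hII hJJ hIJ hab) (e_f I J a b hII hJJ hIJ) h2
  set W : Submodule (ZMod p) V := LinearMap.ker (eM I J a b - LinearMap.id) with hW
  have hmemW : ∀ v : V, v ∈ W ↔ eM I J a b v = v := by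
    intro v
    rw [hW, LinearMap.mem_ker, LinearMap.sub_apply, LinearMap.id_apply, sub_eq_zero]
  -- `C₀` preserves `W`
  have hinv : ∀ c ∈ C₀, ∀ v ∈ W, ((c : H) : V ≃ₗ[ZMod p] V) v ∈ W := by
    intro c hc v hv
    rw [hmemW] at hv ⊢
    have c1 : ∀ w : V, I ((c : V ≃ₗ[ZMod p] V) w) = (c : V ≃ₗ[ZMod p] V) (I w) := by
      intro w
      have := hC₀ c hc _ (hιQ (QuaternionGroup.a 1))
      show ((ι (QuaternionGroup.a 1) * c : H) : V ≃ₗ[ZMod p] V) w = _
      rw [← this]
      rfl
    have c2 : ∀ w : V, J ((c : V ≃ₗ[ZMod p] V) w) = (c : V ≃ₗ[ZMod p] V) (J w) := by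
      intro w
      have := hC₀ c hc _ (hιQ (QuaternionGroup.xa 0))
      show ((ι (QuaternionGroup.xa 0) * c : H) : V ≃ₗ[ZMod p] V) w = _
      rw [← this]
      rfl
    have h5 : (c : V ≃ₗ[ZMod p] V) (eM I J a b v)
        = a • (c : V ≃ₗ[ZMod p] V) (I v) + b • (c : V ≃ₗ[ZMod p] V) (J v) := by
      rw [eM_apply, map_add, map_smul, map_smul]
    rw [eM_apply, c1, c2, ← h5, hv]
  have hdvd := Cfsg.Agent.S0684.card_dvd_of_fpf H C₀ hfpf W hinv
  have hWcard : Nat.card W = p ^ Module.finrank (ZMod p) W := by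
    have : Fintype W := Fintype.ofFinite W
    rw [Nat.card_eq_fintype_card, Module.card_eq_pow_finrank (K := ZMod p) (V := W), ZMod.card]
  -- `|H| = |V| - 1`
  have hHcard : Nat.card H = Nat.card V - 1 := by
    obtain ⟨v0, hv0⟩ := exists_ne (0 : V)
    have h1 : Nat.card H = Nat.card {w : V // w ≠ 0} := by
      apply Nat.card_congr
      refine Equiv.ofBijective (fun h => ⟨(h : V ≃ₗ[ZMod p] V) v0, ?_⟩) ⟨?_, ?_⟩
      · intro h0
        apply hv0
        have := (h : V ≃ₗ[ZMod p] V).injective (h0.trans (map_zero _).symm)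
        exact this
      · intro h k hhk
        have h3 : (h : V ≃ₗ[ZMod p] V) v0 = (k : V ≃ₗ[ZMod p] V) v0 := congrArg Subtype.val hhk
        obtain ⟨h0, -, huniq⟩ := hreg v0 _ hv0 (show (k : V ≃ₗ[ZMod p] V) v0 ≠ 0 from by
          intro h0
          apply hv0
          exact (k : V ≃ₗ[ZMod p] V).injective (h0.trans (map_zero _).symm))
        rw [huniq h h3, huniq k rfl]
      · rintro ⟨w, hw⟩
        obtain ⟨h, hh, -⟩ := hreg v0 w hv0 hw
        exact ⟨h, Subtype.ext hh⟩
    rw [h1]
    have : Fintype V := Fintype.ofFinite V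
    rw [Nat.card_eq_fintype_card, Nat.card_eq_fintype_card]
    exact Set.card_ne_eq (0 : V)
  -- the dimension of `W` is positive
  have hm : 1 ≤ Module.finrank (ZMod p) W := by
    by_contra hm
    have hm0 : Module.finrank (ZMod p) W = 0 := by omega
    rw [hm0, pow_zero] at hWcard
    rw [hWcard] at hVW
    have := Finite.one_lt_card (α := V)
    omega
  have hmain : (p ^ Module.finrank (ZMod p) W) ^ 2 - 1 = g * Nat.card C₀ := by
    rw [← hcard, hHcard, hVW, hWcard, pow_two]
  obtain ⟨hm1, hpcases⟩ := arith p _ _ g hp hp2 hm hdvd hg hmain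
  rw [hWcard, hm1, pow_one] at hVW
  rcases hpcases with rfl | rfl | rfl | rfl | rfl
  · -- `p = 3` is impossible
    exfalso
    have hH8 : Nat.card H = 8 := by rw [hHcard, hVW]
    have hord : orderOf (ι (QuaternionGroup.a 1)) = 4 := by
      have : Fact (Nat.Prime 2) := ⟨Nat.prime_two⟩
      have h1 : ¬ (ι (QuaternionGroup.a 1)) ^ 2 ^ 1 = 1 := by
        rw [pow_one, pow_two, r1]; exact r5
      have h2' : (ι (QuaternionGroup.a 1)) ^ 2 ^ (1 + 1) = 1 := by
        have : (ι (QuaternionGroup.a 1)) ^ 2 ^ (1 + 1)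
            = (ι (QuaternionGroup.a 1) * ι (QuaternionGroup.a 1)) *
              (ι (QuaternionGroup.a 1) * ι (QuaternionGroup.a 1)) := by
          norm_num [pow_succ, mul_assoc]
        rw [this, r1, r4]
      exact orderOf_eq_prime_pow h1 h2'
    have hA₀card : Nat.card (Subgroup.zpowers (ι (QuaternionGroup.a 1))) = 4 := by
      rw [Nat.card_zpowers, hord]
    have hidx : (Subgroup.zpowers (ι (QuaternionGroup.a 1))).index = 2 := by
      have := Subgroup.card_mul_index (Subgroup.zpowers (ι (QuaternionGroup.a 1)))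
      rw [hA₀card, hH8] at this
      omega
    have hA₀n : (Subgroup.zpowers (ι (QuaternionGroup.a 1))).Normal :=
      Subgroup.normal_of_index_eq_two hidx
    obtain ⟨W₀, hW₀b, hW₀t, hW₀inv⟩ :=
      hI (Subgroup.zpowers (ι (QuaternionGroup.a 1))) hA₀n inferInstance
    have hd := Cfsg.Agent.S0684.card_dvd_of_fpf H (Subgroup.zpowers (ι (QuaternionGroup.a 1)))
      hfpf W₀ hW₀inv
    rw [hA₀card] at hd
    have hfrV : Module.finrank (ZMod 3) V = 2 := by
      have : Fintype V := Fintype.ofFinite V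
      have h1 : Nat.card V = 3 ^ Module.finrank (ZMod 3) V := by
        rw [Nat.card_eq_fintype_card, Module.card_eq_pow_finrank (K := ZMod 3) (V := V), ZMod.card]
      rw [hVW] at h1
      have h3 : (3 : ℕ) ^ 2 = 3 ^ Module.finrank (ZMod 3) V := by rw [← h1]; norm_num
      exact (Nat.pow_right_injective (by norm_num : 2 ≤ 3) h3).symm
    have h1 : Module.finrank (ZMod 3) W₀ < 2 := by
      rw [← hfrV]; exact Submodule.finrank_lt hW₀t
    have h0 : Module.finrank (ZMod 3) W₀ ≠ 0 := by
      intro h; exact hW₀b (Submodule.finrank_eq_zero.mp h)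
    have h4 : Module.finrank (ZMod 3) W₀ = 1 := by omega
    rw [h4] at hd
    norm_num at hd
  · left; rw [hVW]
  · right; left; rw [hVW]
  · right; right; left; rw [hVW]
  · right; right; right; rw [hVW]

end Cfsg.Agent.S0688
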