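-- Statement S1137: Higman's Theorem on Suzuki 2-groups, first part.
import Cfsg.Statements.S1137
import Cfsg.Agent.Lib.Helper19.SuzMain

set_option autoImplicit false
open Cfsg

namespace Cfsg.Agent.S1137

open Cfsg.Agent.Lib.Helper19.Suz in
/-- In a Suzuki 2-group `P` (a finite non-abelian 2-group with more than one involution admitting a cyclic group of automorphisms regular on its involutions) the involutions are exactly the non-identity central elements, and `Z(P)` is elementary abelian. -/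
theorem result {P : Type*} [Group P] (hP : Cfsg.IsSuzukiTwoGroup P) :
    (∀ x : P, (x ≠ 1 ∧ x * x = 1) ↔ (x ∈ Subgroup.center P ∧ x ≠ 1)) ∧
      ∀ z ∈ Subgroup.center P, z * z = 1 := by
  obtain ⟨hfin, hp, hna, htwo, K, hcyc, hreg⟩ := hP
  have hcomm : ∀ a ∈ K, ∀ b ∈ K, a * b = b * a := by
    intro a ha b hb
    have hc : ∀ x y : ↥K, x * y = y * x := by
      intro x y
      letI := @IsCyclic.commGroup ↥K _ hcyc
      exact mul_comm x y
    have := hc ⟨a, ha⟩ ⟨b, hb⟩
    exact congrArg Subtype.val this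
  have h : SuzHyp P K := by
    refine ⟨hfin, hp, hcomm, ?_, ?_, htwo⟩
    · intro x y hx1 hx2 hy1 hy2
      obtain ⟨k, hk, -⟩ := hreg x y hx1 hx2 hy1 hy2
      exact ⟨k, k.2, hk⟩
    · intro k hk x hx1 hx2 hfix
      obtain ⟨k₀, -, huniq⟩ := hreg x x hx1 hx2 hx1 hx2
      have h1 := huniq ⟨k, hk⟩ hfix
      have h2 := huniq 1 rfl
      have : (⟨k, hk⟩ : ↥K) = 1 := h1.trans h2.symm
      exact congrArg Subtype.val this
  have hna' : ∃ x y : P, x * y ≠ y * x := hna
  have hB := h.center_sq hna'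
  refine ⟨fun x => ⟨fun hx => ⟨h.inv_central hx.1 hx.2, hx.1⟩, fun hx => ⟨hx.2, hB x hx.1⟩⟩, hB⟩

end Cfsg.Agent.S1137
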