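import Cfsg.Statements.S1138
import Cfsg.Agent.Lib.Helper11.SuzOfDef

set_option autoImplicit false
open Cfsg

namespace Cfsg.Agent.S1138

open scoped commutatorElement in
/-- Let `P` be a Suzuki 2-group with `|Z(P)| = q`. Then every square lies in `Z(P)` and `P/Z(P)` is abelian (so elementary abelian), `|P| = q²` or `|P| = q³`, and `P` has exponent 4. -/
theorem result {P : Type*} [Group P] (hP : Cfsg.IsSuzukiTwoGroup P) :
    (∀ x : P, x * x ∈ Subgroup.center P) ∧ (∀ x y : P, x⁻¹ * y⁻¹ * x * y ∈ Subgroup.center P) ∧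
      (Nat.card P = Nat.card (Subgroup.center P) ^ 2 ∨ Nat.card P = Nat.card (Subgroup.center P) ^ 3) ∧
      Monoid.exponent P = 4 := by
  obtain ⟨hinv, hsq, hcomm, hcard⟩ := Cfsg.Agent.Lib.Helper11.SuzH.isSuzuki_facts hP
  refine ⟨hsq, fun x y => ?_, hcard, ?_⟩
  · have := hcomm x⁻¹ y⁻¹
    rw [commutatorElement_def, inv_inv, inv_inv] at this
    exact this
  · have h4 : ∀ x : P, x ^ 4 = 1 := by
      intro x
      rw [show 4 = 2 + 2 by norm_num, pow_add, pow_two]
      exact (hinv (x * x)).mpr (hsq x)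
    have hdvd : Monoid.exponent P ∣ 2 ^ 2 := Monoid.exponent_dvd_of_forall_pow_eq_one h4
    obtain ⟨k, hk, hek⟩ := (Nat.dvd_prime_pow Nat.prime_two).mp hdvd
    have hk' : k = 0 ∨ k = 1 ∨ k = 2 := by omega
    obtain ⟨-, -, ⟨x, y, hxy⟩, -⟩ := hP
    have hexp2 : (∀ x : P, x * x = 1) → False := by
      intro hall
      apply hxy
      have := (hinv x).mp (hall x)
      exact ((Subgroup.mem_center_iff.mp this) y).symm
    rcases hk' with rfl | rfl | rfl
    · exfalso
      apply hexp2
      intro x
      have := Monoid.pow_exponent_eq_one x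
      rw [hek, pow_zero, pow_one] at this
      rw [this, one_mul]
    · exfalso
      apply hexp2
      intro x
      have := Monoid.pow_exponent_eq_one x
      rw [hek, pow_one, pow_two] at this
      exact this
    · rw [hek]; norm_num

end Cfsg.Agent.S1138
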