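import Cfsg.Statements.S4709
import Cfsg.Agent.Lib.Helper78.ExcAbstract
import Cfsg.Agent.Lib.Helper78.ExcConcrete

set_option autoImplicit false
open Cfsg

namespace Cfsg.Agent.S4709

open Cfsg.Agent.Lib.Helper78
open scoped ComplexConjugate

open scoped Classical in
/-- The concrete theorem on exceptional characters in Finset form. -/
theorem main_aux {G : Type*} [Group G] [Finite G] (p : ℕ) [Fact p.Prime] (M : Ideal Cfsg.AlgInt)
    (hM : Cfsg.IsPModular p M) (P : Sylow p G) [hab : IsMulCommutative P] (m : ℕ)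
    (hm2 : m + 1 < Nat.card P)
    (hCN : (Subgroup.centralizer ((P : Subgroup G) : Set G)).relIndex
      (Subgroup.normalizer ((P : Subgroup G) : Set G)) = m)
    (hfrob : ∀ y : G, y ∈ (P : Subgroup G) → y ≠ 1 →
      Subgroup.centralizer ({y} : Set G) ⊓ Subgroup.normalizer ((P : Subgroup G) : Set G) =
        Subgroup.centralizer ((P : Subgroup G) : Set G)) :
    ∃ (δ d : ℤ) (ζ : (↥(P : Subgroup G) →* ℂˣ) → IrrCharacter G) (a : IrrCharacter G → ℤ)
      (Y : Finset (IrrCharacter G)),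
      (δ = 1 ∨ δ = -1) ∧
      (∀ η ∈ Y, η ∈ principalBlock M G) ∧
      (∀ ψ : ↥(P : Subgroup G) →* ℂˣ, ψ ≠ 1 → ζ ψ ∈ Y) ∧
      (∀ η ∈ Y, ∃ ψ : ↥(P : Subgroup G) →* ℂˣ, ψ ≠ 1 ∧ ζ ψ = η) ∧
      (∀ ψ ψ' : ↥(P : Subgroup G) →* ℂˣ, ψ ≠ 1 →
        (∃ n : Subgroup.normalizer ((P : Subgroup G) : Set G),
          ∀ y : ↥(P : Subgroup G), ψ' (n • y) = ψ y) → ζ ψ' = ζ ψ) ∧
      Y.card * m = Nat.card P - 1 ∧
      (∀ χ : IrrCharacter G, (χ : G → ℂ) = (fun _ => 1) → χ ∉ Y) ∧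
      (∀ χ : IrrCharacter G, χ ∉ principalBlock M G → a χ = 0) ∧
      (∀ χ ∈ principalBlock M G, χ ∉ Y → ∀ y : ↥(P : Subgroup G), y ≠ 1 →
        (χ : G → ℂ) y = (a χ : ℂ)) ∧
      (∀ ψ : ↥(P : Subgroup G) →* ℂˣ, ψ ≠ 1 → ∀ y : ↥(P : Subgroup G), y ≠ 1 →
        (ζ ψ : G → ℂ) y = (d : ℂ) + (δ : ℂ) *
          ∑ᶠ ψ' ∈ {ψ' : ↥(P : Subgroup G) →* ℂˣ |
            ∃ n : Subgroup.normalizer ((P : Subgroup G) : Set G),
              ∀ y : ↥(P : Subgroup G), ψ' (n • y) = ψ y}, ((ψ' y : ℂˣ) : ℂ)) ∧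
      ((d - δ) ^ 2 + ((Y.card : ℤ) - 1) * d ^ 2 +
        ∑ χ ∈ Finset.univ.filter (· ∉ Y), a χ ^ 2 = (m : ℤ) + 1) ∧
      (∀ g : G, ¬ p ∣ orderOf g →
        (∀ η ∈ Y, ∀ η' ∈ Y, (η : G → ℂ) g = (η' : G → ℂ) g) ∧
        ∀ η ∈ Y, ((Y.card : ℂ) * (d : ℂ) - (δ : ℂ)) * (η : G → ℂ) g +
          ∑ χ ∈ Finset.univ.filter (· ∉ Y), (a χ : ℂ) * (χ : G → ℂ) g = 0) := by
  classical
  have hp : p.Prime := Fact.out
  let instCG : CommGroup ↥(P : Subgroup G) := IsMulCommutative.instCommGroup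
  have hfinP : Fintype ↥(P : Subgroup G) := Fintype.ofFinite _
  have hfinN : Fintype ↥(Subgroup.normalizer ((P : Subgroup G) : Set G)) := Fintype.ofFinite _
  -- the stabilizer
  obtain ⟨S, hSdef⟩ : ∃ S : Subgroup ↥(Subgroup.normalizer ((P : Subgroup G) : Set G)),
      S = (Subgroup.centralizer ((P : Subgroup G) : Set G)).subgroupOf
        (Subgroup.normalizer ((P : Subgroup G) : Set G)) := ⟨_, rfl⟩
  have hS : ∀ y : ↥(P : Subgroup G), y ≠ 1 →
      ∀ n : ↥(Subgroup.normalizer ((P : Subgroup G) : Set G)), n • y = y ↔ n ∈ S := by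
    intro y hy n
    have hy1 : (y : G) ≠ 1 := fun h => hy (Subtype.ext h)
    rw [hSdef, Subgroup.mem_subgroupOf, ← hfrob y y.2 hy1, Subgroup.mem_inf,
      Subgroup.mem_centralizer_singleton_iff]
    constructor
    · intro h
      have h' : (n : G) * (y : G) * (n : G)⁻¹ = (y : G) := congrArg Subtype.val h
      exact ⟨mul_inv_eq_iff_eq_mul.mp h', n.2⟩
    · rintro ⟨h1, _⟩
      apply Subtype.ext
      show (n : G) * (y : G) * (n : G)⁻¹ = (y : G)
      exact mul_inv_eq_iff_eq_mul.mpr h1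
  have hmcard : Fintype.card ↥(Subgroup.normalizer ((P : Subgroup G) : Set G)) =
      Nat.card S * m := by
    have h1 := Subgroup.card_mul_index S
    have h2 : S.index = m := by
      rw [hSdef]
      exact hCN
    rw [← Nat.card_eq_fintype_card, ← h1, h2]
  have hmA : m + 1 < Fintype.card ↥(P : Subgroup G) := by
    rw [← Nat.card_eq_fintype_card]
    exact hm2
  have hPcard : (Fintype.card ↥(P : Subgroup G) : ℂ) = (Nat.card P : ℂ) := by
    rw [← Nat.card_eq_fintype_card]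
  -- the functions
  obtain ⟨θ, hθ⟩ : ∃ θ : IrrCharacter G → ↥(P : Subgroup G) → ℂ,
      θ = fun χ (y : ↥(P : Subgroup G)) =>
        if χ ∈ principalBlock M G then (χ : G → ℂ) (y : G) else 0 := ⟨_, rfl⟩
  have hθin : ∀ χ : IrrCharacter G, χ ∈ principalBlock M G → ∀ y : ↥(P : Subgroup G),
      θ χ y = (χ : G → ℂ) y := by
    intro χ hχ y
    rw [hθ]
    simp only
    rw [if_pos hχ]
  have hθout : ∀ χ : IrrCharacter G, χ ∉ principalBlock M G → ∀ y : ↥(P : Subgroup G),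
      θ χ y = 0 := by
    intro χ hχ y
    rw [hθ]
    simp only
    rw [if_neg hχ]
  have hsumθ : ∀ (f : IrrCharacter G → ℂ) (y : ↥(P : Subgroup G)),
      ∑ χ : IrrCharacter G, θ χ y * f χ =
        ∑ χ ∈ Finset.univ.filter (fun χ : IrrCharacter G => χ ∈ principalBlock M G),
          (χ : G → ℂ) y * f χ := by
    intro f y
    rw [Finset.sum_filter]
    apply Finset.sum_congr rfl
    intro χ _
    by_cases hχ : χ ∈ principalBlock M G
    · rw [if_pos hχ, hθin χ hχ]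
    · rw [if_neg hχ, hθout χ hχ, zero_mul]
  have hinv : ∀ (χ : IrrCharacter G)
      (n : ↥(Subgroup.normalizer ((P : Subgroup G) : Set G))) (y : ↥(P : Subgroup G)),
      θ χ (n • y) = θ χ y := by
    intro χ n y
    by_cases hχ : χ ∈ principalBlock M G
    · rw [hθin χ hχ, hθin χ hχ]
      show (χ : G → ℂ) ((n : G) * (y : G) * (n : G)⁻¹) = (χ : G → ℂ) y
      exact isClassFunction_irr χ (y : G) (n : G)
    · rw [hθout χ hχ, hθout χ hχ]
  have hint : ∀ (χ : IrrCharacter G) (ψ : ↥(P : Subgroup G) →* ℂˣ),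
      ∃ k : ℤ, gco (θ χ) ψ = (k : ℂ) := by
    intro χ ψ
    by_cases hχ : χ ∈ principalBlock M G
    · have h1 : θ χ = fun y : ↥(P : Subgroup G) => (χ : G → ℂ) (y : G) := by
        funext y
        exact hθin χ hχ y
      rw [h1]
      exact exists_int_gco_restrict (P : Subgroup G) (IsIrrCharacter.isCharacter χ.2) ψ
    · refine ⟨0, ?_⟩
      have h1 : θ χ = fun _ => (0 : ℂ) := by
        funext y
        exact hθout χ hχ y
      rw [h1]
      unfold gco
      simp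
  have hK : ∀ y y' : ↥(P : Subgroup G), y ≠ 1 → y' ≠ 1 →
      ∑ χ : IrrCharacter G, θ χ y * conj (θ χ y') =
        if ∃ n : ↥(Subgroup.normalizer ((P : Subgroup G) : Set G)), n • y = y' then
          (Fintype.card ↥(P : Subgroup G) : ℂ) else 0 := by
    intro y y' hy hy'
    have hsum : ∑ χ : IrrCharacter G, θ χ y * conj (θ χ y') =
        ∑ χ ∈ Finset.univ.filter (fun χ : IrrCharacter G => χ ∈ principalBlock M G),
          (χ : G → ℂ) y * conj ((χ : G → ℂ) y') := by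
      rw [Finset.sum_filter]
      apply Finset.sum_congr rfl
      intro χ _
      by_cases hχ : χ ∈ principalBlock M G
      · rw [if_pos hχ, hθin χ hχ, hθin χ hχ]
      · rw [if_neg hχ, hθout χ hχ, zero_mul]
    have h' := sum_principalBlock_mul_conj hM P hfrob y y' hy hy'
    rw [hsum, hPcard]
    by_cases h : ∃ n : ↥(Subgroup.normalizer ((P : Subgroup G) : Set G)), n • y = y'
    · rw [if_pos h] at h' ⊢
      convert h'
    · rw [if_neg h] at h' ⊢
      convert h'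
  obtain ⟨deg, hdegdef⟩ : ∃ deg : IrrCharacter G → ℤ,
      deg = fun χ : IrrCharacter G => (charDegree (χ : G → ℂ) : ℤ) := ⟨_, rfl⟩
  have hdeg : ∀ χ, 0 < deg χ := by
    intro χ
    rw [hdegdef]
    show (0 : ℤ) < (charDegree (χ : G → ℂ) : ℤ)
    exact_mod_cast IsIrrCharacter.charDegree_pos χ.2
  have hdegval : ∀ χ : IrrCharacter G, (deg χ : ℂ) = (χ : G → ℂ) 1 := by
    intro χ
    rw [hdegdef, IsCharacter.apply_one_eq_charDegree (IsIrrCharacter.isCharacter χ.2)]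
    simp
  have hone : ¬ p ∣ orderOf (1 : G) := by
    rw [orderOf_one]
    exact hp.one_lt.ne' ∘ Nat.dvd_one.mp
  have hdeg0 : ∀ y : ↥(P : Subgroup G), y ≠ 1 →
      ∑ χ : IrrCharacter G, θ χ y * (deg χ : ℂ) = 0 := by
    intro y hy
    have hy1 : (y : G) ≠ 1 := fun h => hy (Subtype.ext h)
    rw [hsumθ, ← sum_principalBlock_mul_pRegular hM P y.2 hy1 hone]
    apply Finset.sum_congr rfl
    intro χ _
    rw [hdegval]
  obtain ⟨δ, d, ζ, a, Y, hδ, hζY, hYsurj, hζR, hYcard, hconst, hX, hval, hnorm, hw⟩ :=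
    exceptional_abstract S hS m hmcard hmA θ hinv hint
      (by intro y y' hy hy'; convert hK y y' hy hy') deg hdeg hdeg0
  -- a nontrivial element of `P`
  obtain ⟨y₀, hy₀⟩ : ∃ y₀ : ↥(P : Subgroup G), y₀ ≠ 1 := by
    by_contra hcon
    push Not at hcon
    have : Fintype.card ↥(P : Subgroup G) ≤ 1 :=
      Fintype.card_le_one_iff.mpr (fun a b => by rw [hcon a, hcon b])
    omega
  have hYB : ∀ η ∈ Y, η ∈ principalBlock M G := by
    intro η hη
    by_contra hnot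
    exact hconst η 0 (hθout η hnot) hη
  refine ⟨δ, d, ζ, a, Y, hδ, hYB, hζY, hYsurj, hζR, ?_, ?_, ?_, ?_, ?_, by convert hnorm, ?_⟩
  · rw [hYcard, ← Nat.card_eq_fintype_card]
  · intro χ hχ hχY
    have hχB : χ ∈ principalBlock M G := hYB χ hχY
    refine hconst χ 1 ?_ hχY
    intro y
    rw [hθin χ hχB, hχ]
  · intro χ hχ
    have hχY : χ ∉ Y := fun h => hχ (hYB χ h)
    have h1 := hX χ hχY y₀ hy₀
    rw [hθout χ hχ] at h1
    exact_mod_cast h1.symm
  · intro χ hχ hχY y hy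
    rw [← hθin χ hχ]
    exact hX χ hχY y hy
  · intro ψ hψ y hy
    rw [← hθin (ζ ψ) (hYB _ (hζY ψ hψ))]
    exact hval ψ hψ y hy
  · intro g hg
    have hwg : ∀ y : ↥(P : Subgroup G), y ≠ 1 →
        ∑ χ : IrrCharacter G, θ χ y * (χ : G → ℂ) g = 0 := by
      intro y hy
      have hy1 : (y : G) ≠ 1 := fun h => hy (Subtype.ext h)
      rw [hsumθ]
      exact sum_principalBlock_mul_pRegular hM P y.2 hy1 hg
    convert hw (fun χ => (χ : G → ℂ) g) hwg

/-- Let p be a prime, M a maximal ideal of the algebraic integers containing p, and G a finite group with a nontrivial abelian Sylow p-subgroup P; put N = N_G(P), C = C_G(P). Suppose N/C is cyclic of order m with 1 < m < #P − 1 (C has index m in N and N is generated by C and one element), and C_G(y) ∩ N = C for every non-identity y ∈ P. Put r = (#P − 1)/m. Then there is s ≤ m such that the principal p-block is the disjoint union of a set X of s characters containing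 the principal character and a set Y of r characters, with integers a_χ ≠ 0 (χ ∈ X), d and a sign δ = ±1, such that: every χ ∈ X takes the value a_χ at every element whose p-part is a non-identity element of P; there is a map ζ from the non-principal linear characters ψ of P onto Y, constant on N-conjugacy classes, with ζ_ψ(z) = d + δ·Σ ψ'(y) for every z whose p-part y is a non-identity element of P, the sum running over the N-conjugates ψ' of ψ; (d − δ)^2 + (r − 1) d^2 + Σ_{χ ∈ X} a_χ^2 = m + 1; all members of Y agree on p-regular elements; and (r d − δ) η(g) + Σ_{χ ∈ X} a_χ χ(g) = 0 for every η ∈ Y and every p-regular g. -/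
theorem result {G : Type*} [Group G] [Finite G] (p : ℕ) [Fact p.Prime] (M : Ideal Cfsg.AlgInt) (hM : Cfsg.IsPModular p M) (P : Sylow p G) (hab : IsMulCommutative P) (hP1 : Nat.card P ≠ 1) (m : ℕ) (hm1 : 1 < m) (hm2 : m + 1 < Nat.card P) (hCN : (Subgroup.centralizer ((P : Subgroup G) : Set G)).relIndex (Subgroup.normalizer ((P : Subgroup G) : Set G)) = m) (hcyc : ∃ g : G, g ∈ Subgroup.normalizer ((P : Subgroup G) : Set G) ∧ Subgroup.centralizer ((P : Subgroup G) : Set G) ⊔ Subgroup.zpowers g = Subgroup.normalizer ((P : Subgroup G) : Set G)) (hfrob : ∀ y : G, y ∈ (P : Subgroup G) → y ≠ 1 → Subgroup.centralizer ({y} : Set G) ⊓ Subgroup.normalizer ((P : Subgroup G) : Set G) = Subgroup.centralizer ((P : Subgroup G) : Set G)) : ∃ (s : ℕ) (X Y : Set (Cfsg.IrrCharacter G)), s ≤ m ∧ Cfsg.principalBlock M G = X ∪ Y ∧ Disjoint X Y ∧ Nat.card X = s ∧ Nat.card Y = (Nat.card P - 1) / m ∧ (∃ χ₁ ∈ X, (χ₁ : G → ℂ) = fun _ => 1)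 ∧ ∃ (a : Cfsg.IrrCharacter G → ℤ) (d δ : ℤ) (ζ : (↥(P : Subgroup G) →* ℂˣ) → Cfsg.IrrCharacter G), (δ = 1 ∨ δ = -1) ∧ (∀ χ ∈ X, a χ ≠ 0 ∧ ∀ z y : G, Cfsg.IsPPart p z y → y ∈ (P : Subgroup G) → y ≠ 1 → (χ : G → ℂ) z = (a χ : ℂ)) ∧ (∀ ψ : ↥(P : Subgroup G) →* ℂˣ, ψ ≠ 1 → ζ ψ ∈ Y) ∧ (∀ η ∈ Y, ∃ ψ : ↥(P : Subgroup G) →* ℂˣ, ψ ≠ 1 ∧ ζ ψ = η) ∧ (∀ ψ ψ' : ↥(P : Subgroup G) →* ℂˣ, ψ ≠ 1 → (∃ n : G, n ∈ Subgroup.normalizer ((P : Subgroup G) : Set G) ∧ ∀ w w' : ↥(P : Subgroup G), (w' : G) = n * w * n⁻¹ → ψ' w' = ψ w) → ζ ψ' = ζ ψ) ∧ (∀ ψ : ↥(P : Subgroup G) →* ℂˣ, ψ ≠ 1 → ∀ (z : G) (y : ↥(P : Subgroup G)), Cfsg.IsPPart p z (y : G) → (y : G) ≠ 1 → (ζ ψ : G → ℂ) z = (d : ℂ) + (δ : ℂ) * ∑ᶠ ψ' ∈ {ψ' : ↥(P : Subgroup G) →* ℂˣ | ∃ n : G, n ∈ Subgroup.normalizer ((P : Subgroup G) : Set G) ∧ ∀ w w' : ↥(P : Subgroup G), (w' : G) = n * w * n⁻¹ → ψ' w' = ψ w}, ((ψ' y : ℂˣ) : ℂ)) ∧ ((d - δ) ^ 2 + ((Nat.card P - 1) / m - 1 : ℤ) * d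 ^ 2 + ∑ᶠ χ ∈ X, a χ ^ 2 = (m : ℤ) + 1) ∧ (∀ η ∈ Y, ∀ η' ∈ Y, ∀ g : G, ¬ p ∣ orderOf g → (η : G → ℂ) g = (η' : G → ℂ) g) ∧ (∀ η ∈ Y, ∀ g : G, ¬ p ∣ orderOf g → ((((Nat.card P - 1) / m : ℕ) : ℂ) * d - δ) * (η : G → ℂ) g + ∑ᶠ χ ∈ X, (a χ : ℂ) * (χ : G → ℂ) g = 0) := by
  classical
  have hp : p.Prime := Fact.out
  have hab' : IsMulCommutative ↥(P : Subgroup G) := hab
  obtain ⟨δ, d, ζ, a, Y, hδ, hYB, hζY, hYsurj, hζR, hYcard, htriv, haout, hX, hval, hnorm,
    hreg⟩ := main_aux p M hM P m hm2 hCN hfrob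
  have hm0 : 0 < m := by omega
  have hYcard' : Y.card = (Nat.card P - 1) / m := by
    rw [← hYcard]
    exact (Nat.mul_div_cancel _ hm0).symm
  have hY2 : 2 ≤ Y.card := by
    by_contra h
    push Not at h
    have h1 : Y.card * m ≤ 1 * m := Nat.mul_le_mul_right m (by omega)
    omega
  -- a nontrivial element of `P`
  obtain ⟨y₀, hy₀P, hy₀1⟩ : ∃ y₀ : G, y₀ ∈ (P : Subgroup G) ∧ y₀ ≠ 1 := by
    by_contra hcon
    push Not at hcon
    apply hP1
    rw [Nat.card_eq_one_iff_unique]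
    exact ⟨⟨fun a b => Subtype.ext ((hcon a a.2).trans (hcon b b.2).symm)⟩, ⟨1⟩⟩
  have haX : ∀ χ ∈ principalBlock M G, χ ∉ Y → a χ ≠ 0 := by
    intro χ hχ hχY h0
    have h1 := hX χ hχ hχY ⟨y₀, hy₀P⟩ (fun h => hy₀1 (congrArg Subtype.val h))
    rw [h0] at h1
    exact principalBlock_apply_ne_zero hM P hχ hy₀P (by simpa using h1)
  -- finsums over `X`
  have hsumX : ∀ {N : Type} [AddCommMonoid N] (f : IrrCharacter G → N),
      (∀ χ, χ ∉ principalBlock M G → f χ = 0) →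
      ∑ᶠ χ ∈ {χ : IrrCharacter G | χ ∈ principalBlock M G ∧ χ ∉ Y}, f χ =
        ∑ χ ∈ Finset.univ.filter (· ∉ Y), f χ := by
    intro N _ f hf
    rw [finsum_mem_eq_sum_filter_of_fintype]
    apply Finset.sum_subset
    · intro χ hχ
      simp only [Finset.mem_filter, Finset.mem_univ, true_and, Set.mem_ofPred_eq] at hχ ⊢
      exact hχ.2
    · intro χ hχ hχ'
      simp only [Finset.mem_filter, Finset.mem_univ, true_and, Set.mem_ofPred_eq] at hχ hχ'
      apply hf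
      intro hB
      exact hχ' ⟨hB, hχ⟩
  have hset : ∀ ψ : ↥(P : Subgroup G) →* ℂˣ,
      {ψ' : ↥(P : Subgroup G) →* ℂˣ | ∃ n : G,
        n ∈ Subgroup.normalizer ((P : Subgroup G) : Set G) ∧
          ∀ w w' : ↥(P : Subgroup G), (w' : G) = n * w * n⁻¹ → ψ' w' = ψ w} =
      {ψ' : ↥(P : Subgroup G) →* ℂˣ |
        ∃ n : Subgroup.normalizer ((P : Subgroup G) : Set G),
          ∀ y : ↥(P : Subgroup G), ψ' (n • y) = ψ y} := by
    intro ψ
    ext ψ'
    simp only [Set.mem_ofPred_eq]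
    constructor
    · rintro ⟨n, hn, h⟩
      exact ⟨⟨n, hn⟩, fun y => h y
        ((⟨n, hn⟩ : ↥(Subgroup.normalizer ((P : Subgroup G) : Set G))) • y) rfl⟩
    · rintro ⟨n, h⟩
      refine ⟨(n : G), n.2, ?_⟩
      intro w w' hw
      have : w' = n • w := Subtype.ext hw
      rw [this]
      exact h w
  have hk : (1 : ℤ) ≤ (Y.card : ℤ) - 1 := by
    have : (2 : ℤ) ≤ (Y.card : ℤ) := by exact_mod_cast hY2
    linarith
  have hpos : 1 ≤ (d - δ) ^ 2 + ((Y.card : ℤ) - 1) * d ^ 2 := by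
    by_cases hd : d = 0
    · rw [hd]
      rcases hδ with h | h <;> rw [h] <;> norm_num
    · have h1 : 1 ≤ d ^ 2 := by
        rw [one_le_sq_iff_one_le_abs]
        exact Int.one_le_abs hd
      have h2 : 1 * 1 ≤ ((Y.card : ℤ) - 1) * d ^ 2 :=
        mul_le_mul hk h1 (by norm_num) (by linarith)
      linarith [sq_nonneg (d - δ)]
  have hcast : ((Nat.card P : ℤ) - 1) / (m : ℤ) = (Y.card : ℤ) := by
    have h1 : 1 ≤ Nat.card P := by omega
    rw [hYcard']
    push_cast [Nat.cast_sub h1]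
    rfl
  refine ⟨Nat.card {χ : IrrCharacter G | χ ∈ principalBlock M G ∧ χ ∉ Y},
    {χ | χ ∈ principalBlock M G ∧ χ ∉ Y}, (Y : Set (IrrCharacter G)), ?_, ?_, ?_, rfl, ?_, ?_,
    a, d, δ, ζ, hδ, ?_, ?_, ?_, ?_, ?_, ?_, ?_, ?_⟩
  · -- s ≤ m
    have h1 : Nat.card {χ : IrrCharacter G | χ ∈ principalBlock M G ∧ χ ∉ Y} =
        (Finset.univ.filter
          (· ∈ {χ : IrrCharacter G | χ ∈ principalBlock M G ∧ χ ∉ Y})).card := by
      rw [Nat.card_eq_fintype_card]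
      exact Fintype.card_subtype _
    have h2 : ((Finset.univ.filter
        (· ∈ {χ : IrrCharacter G | χ ∈ principalBlock M G ∧ χ ∉ Y})).card : ℤ) ≤
        ∑ χ ∈ Finset.univ.filter (· ∉ Y), a χ ^ 2 := by
      rw [Finset.card_eq_sum_ones]
      push_cast
      calc ∑ χ ∈ Finset.univ.filter
            (· ∈ {χ : IrrCharacter G | χ ∈ principalBlock M G ∧ χ ∉ Y}), (1 : ℤ)
          ≤ ∑ χ ∈ Finset.univ.filter
            (· ∈ {χ : IrrCharacter G | χ ∈ principalBlock M G ∧ χ ∉ Y}), a χ ^ 2 := by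
            apply Finset.sum_le_sum
            intro χ hχ
            simp only [Finset.mem_filter, Finset.mem_univ, true_and, Set.mem_ofPred_eq] at hχ
            rw [one_le_sq_iff_one_le_abs]
            exact Int.one_le_abs (haX χ hχ.1 hχ.2)
        _ ≤ ∑ χ ∈ Finset.univ.filter (· ∉ Y), a χ ^ 2 := by
            apply Finset.sum_le_sum_of_subset_of_nonneg
            · intro χ hχ
              simp only [Finset.mem_filter, Finset.mem_univ, true_and, Set.mem_ofPred_eq] at hχ ⊢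
              exact hχ.2
            · intro χ _ _
              exact sq_nonneg _
    rw [h1]
    have h3 : ((Finset.univ.filter
        (· ∈ {χ : IrrCharacter G | χ ∈ principalBlock M G ∧ χ ∉ Y})).card : ℤ) ≤ (m : ℤ) := by
      linarith
    exact_mod_cast h3
  · ext χ
    simp only [Set.mem_union, Set.mem_ofPred_eq, Finset.mem_coe]
    constructor
    · intro h
      by_cases hY : χ ∈ Y
      · exact Or.inr hY
      · exact Or.inl ⟨h, hY⟩
    · rintro (h | h)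
      · exact h.1
      · exact hYB χ h
  · rw [Set.disjoint_left]
    intro χ h1 h2
    exact h1.2 (Finset.mem_coe.mp h2)
  · rw [Nat.card_coe_set_eq, Set.ncard_coe_finset, hYcard']
  · refine ⟨⟨fun _ => 1, Cfsg.Agent.Lib.Helper80.isIrrCharacter_one⟩, ⟨?_, ?_⟩, rfl⟩
    · exact Cfsg.Agent.Lib.Helper74.one_mem_principalBlock hM G
    · exact htriv _ rfl
  · intro χ hχ
    refine ⟨haX χ hχ.1 hχ.2, ?_⟩
    intro z y hzy hyP hy1
    rw [principalBlock_apply_eq_of_isPPart hM P hfrob hχ.1 hzy hyP hy1]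
    exact hX χ hχ.1 hχ.2 ⟨y, hyP⟩ (fun h => hy1 (congrArg Subtype.val h))
  · intro ψ hψ
    exact Finset.mem_coe.mpr (hζY ψ hψ)
  · intro η hη
    exact hYsurj η (Finset.mem_coe.mp hη)
  · rintro ψ ψ' hψ ⟨n, hn, h⟩
    exact hζR ψ ψ' hψ ⟨⟨n, hn⟩, fun y => h y
      ((⟨n, hn⟩ : ↥(Subgroup.normalizer ((P : Subgroup G) : Set G))) • y) rfl⟩
  · intro ψ hψ z y hzy hy1
    rw [principalBlock_apply_eq_of_isPPart hM P hfrob (hYB _ (hζY ψ hψ)) hzy y.2 hy1, hset ψ]
    exact hval ψ hψ y (fun h => hy1 (by rw [h]; rfl))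
  · rw [hsumX (fun χ => a χ ^ 2) (fun χ hχ => by rw [haout χ hχ]; norm_num), hcast]
    exact hnorm
  · intro η hη η' hη' g hg
    exact (hreg g hg).1 η (Finset.mem_coe.mp hη) η' (Finset.mem_coe.mp hη')
  · intro η hη g hg
    rw [hsumX (fun χ => (a χ : ℂ) * (χ : G → ℂ) g)
      (fun χ hχ => by rw [haout χ hχ]; simp), ← hYcard']
    exact (hreg g hg).2 η (Finset.mem_coe.mp hη)

end Cfsg.Agent.S4709
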