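import Cfsg.Statements.S0958
import Cfsg.Agent.S0917
import Cfsg.Agent.Lib.Helper16.BrauerFirst

set_option autoImplicit false
open Cfsg

namespace Cfsg.Agent.S0958

open Cfsg.Agent.Lib.Helper16

/-- Let P be a p-subgroup of the finite group G and H a subgroup with P ⊔ C_G(P) ≤ H ≤ N_G(P); fix a maximal ideal M of the algebraic integers containing p. Then a block B of G is induced by some block of H if and only if some conjugate of P is contained in a defect group of B. -/
theorem result {G : Type*} [Group G] [Finite G] (p : ℕ) [Fact p.Prime] (M : Ideal Cfsg.AlgInt) (hM : Cfsg.IsPModular p M) (P H : Subgroup G) (hP : IsPGroup p P) (hPH : P ⊔ Subgroup.centralizer (P : Set G) ≤ H) (hHN : H ≤ Subgroup.normalizer (P : Set G)) (B : Set (Cfsg.IrrCharacter G)) (hB : Cfsg.IsPBlock M B) : (∃ b : Set (Cfsg.IrrCharacter H), Cfsg.IsInducedBlock M H b B) ↔ ∃ D : Subgroup G, Cfsg.IsDefectGroup p M B D ∧ ∃ x : G, P.map (MulAut.conj x).toMonoidHom ≤ D := by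
  classical
  have hMp : M.IsPrime := isPModular_isPrime hM
  have : Fintype G := Fintype.ofFinite G
  have : Fintype H := Fintype.ofFinite H
  have hPH' : P ≤ H := le_sup_left.trans hPH
  have hCH : Subgroup.centralizer (P : Set G) ≤ H := le_sup_right.trans hPH
  constructor
  · rintro ⟨b, hind⟩
    have hb := hind.1
    obtain ⟨Db, hDb⟩ := exists_isDefectGroup p hb
    have hn : (P.subgroupOf H).Normal := Subgroup.normal_subgroupOf_of_le_normalizer hHN
    have h1 : P.subgroupOf H ≤ Db :=
      normal_pGroup_le_defectGroup hM (P.subgroupOf H) hP.comap_subtype hb hDb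
    obtain ⟨E, hE, hDE⟩ := Cfsg.Agent.S0917.result p M hM H b hb B hB hind Db hDb
    refine ⟨E, hE, 1, ?_⟩
    have h2 : P.map (MulAut.conj (1 : G)).toMonoidHom = P := by
      ext y
      rw [mem_map_conj_iff]
      simp
    rw [h2, ← Subgroup.map_subgroupOf_eq_of_le hPH']
    exact (Subgroup.map_mono h1).trans hDE
  · rintro ⟨D, ⟨g, hg, Q, rfl⟩, x, hx⟩
    have hg' : x⁻¹ * g * x ∈ Subgroup.centralizer (P : Set G) := by
      rw [Subgroup.mem_centralizer_iff]
      intro u hu
      have h1 : x * u * x⁻¹ ∈ P.map (MulAut.conj x).toMonoidHom := by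
        rw [mem_map_conj_iff]
        have : x⁻¹ * (x * u * x⁻¹) * x = u := by group
        rwa [this]
      obtain ⟨q, _, hq⟩ := hx h1
      have h2 : x * u * x⁻¹ ∈ Subgroup.centralizer ({g} : Set G) := by
        rw [← hq]
        exact q.2
      rw [Subgroup.mem_centralizer_singleton_iff] at h2
      calc u * (x⁻¹ * g * x) = x⁻¹ * ((x * u * x⁻¹) * g) * x := by group
        _ = x⁻¹ * (g * (x * u * x⁻¹)) * x := by rw [h2]
        _ = x⁻¹ * g * x * u := by group
    have hcoef : ¬ MemLocalIdeal M (blockCoeff B (x⁻¹ * g * x)) := by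
      have := blockCoeff_conj B g x⁻¹
      rw [inv_inv] at this
      rw [this]
      exact hg.2.1
    exact exists_isInducedBlock_of_coeff hM P H hP hPH' hCH hHN hB _ hg' hcoef

end Cfsg.Agent.S0958
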