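import Cfsg.Statements.S0916
import Mathlib.GroupTheory.Nilpotent
-- import your own Cfsg.Agent.* helpers here

set_option autoImplicit false
open Cfsg

namespace Cfsg.Agent.S0916

variable {G : Type*} [Group G]

/-- Being (the image of) a Sylow `p`-subgroup of `K`, phrased by the order. -/
theorem exists_sylow_map_eq_iff [Finite G] (p : ℕ) [Fact p.Prime] (K P : Subgroup G) :
    (∃ S : Sylow p K, (S : Subgroup K).map K.subtype = P) ↔
      P ≤ K ∧ Nat.card P = p ^ (Nat.card K).factorization p := by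
  constructor
  · rintro ⟨S, rfl⟩
    refine ⟨Subgroup.map_subtype_le _, ?_⟩
    rw [Subgroup.card_subtype, Sylow.card_eq_multiplicity]
  · rintro ⟨hPK, hcard⟩
    have h2 : Nat.card (P.subgroupOf K) = Nat.card P :=
      Nat.card_congr (Subgroup.subgroupOfEquivOfLe hPK).toEquiv
    refine ⟨Sylow.ofCard (P.subgroupOf K) (by rw [h2, hcard]), ?_⟩
    rw [Sylow.coe_ofCard]
    exact Subgroup.map_subgroupOf_eq_of_le hPK

open scoped Pointwise in
/-- Sylow's conjugacy theorem inside a subgroup `K`, phrased for subgroups of `G`. -/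
theorem exists_conj_of_card_eq [Finite G] (p : ℕ) [Fact p.Prime] (K P₁ P₂ : Subgroup G)
    (h₁ : P₁ ≤ K) (h₂ : P₂ ≤ K) (c₁ : Nat.card P₁ = p ^ (Nat.card K).factorization p)
    (c₂ : Nat.card P₂ = p ^ (Nat.card K).factorization p) :
    ∃ z ∈ K, ∀ x ∈ P₁, z * x * z⁻¹ ∈ P₂ := by
  have e₁ : Nat.card (P₁.subgroupOf K) = Nat.card P₁ :=
    Nat.card_congr (Subgroup.subgroupOfEquivOfLe h₁).toEquiv
  have e₂ : Nat.card (P₂.subgroupOf K) = Nat.card P₂ :=
    Nat.card_congr (Subgroup.subgroupOfEquivOfLe h₂).toEquiv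
  set S₁ : Sylow p K := Sylow.ofCard (P₁.subgroupOf K) (by rw [e₁, c₁])
  set S₂ : Sylow p K := Sylow.ofCard (P₂.subgroupOf K) (by rw [e₂, c₂])
  obtain ⟨z, hz⟩ := MulAction.exists_smul_eq K S₁ S₂
  refine ⟨z, z.2, fun x hx => ?_⟩
  have hx1 : (⟨x, h₁ hx⟩ : K) ∈ (S₁ : Subgroup K) := by
    show (⟨x, h₁ hx⟩ : K) ∈ P₁.subgroupOf K
    rw [Subgroup.mem_subgroupOf]
    exact hx
  have hx2 : MulAut.conj z • (⟨x, h₁ hx⟩ : K) ∈ MulAut.conj z • (S₁ : Subgroup K) :=
    Subgroup.smul_mem_pointwise_smul _ _ _ hx1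
  rw [← Sylow.coe_subgroup_smul, hz] at hx2
  have hx3 : MulAut.conj z • (⟨x, h₁ hx⟩ : K) ∈ P₂.subgroupOf K := hx2
  rw [Subgroup.mem_subgroupOf] at hx3
  simpa using hx3

theorem mem_centralizer_conj_iff (P : Subgroup G) (g a : G) :
    a * g * a⁻¹ ∈ Subgroup.centralizer (P : Set G) ↔
      ∀ x ∈ P, a⁻¹ * x * a ∈ Subgroup.centralizer ({g} : Set G) := by
  rw [Subgroup.mem_centralizer_iff]
  refine forall₂_congr (fun x hx => ?_)
  rw [Subgroup.mem_centralizer_singleton_iff]
  constructor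
  · intro h
    calc a⁻¹ * x * a * g = a⁻¹ * (x * (a * g * a⁻¹)) * a := by group
      _ = a⁻¹ * ((a * g * a⁻¹) * x) * a := by rw [h]
      _ = g * (a⁻¹ * x * a) := by group
  · intro h
    calc x * (a * g * a⁻¹) = a * (a⁻¹ * x * a * g) * a⁻¹ := by group
      _ = a * (g * (a⁻¹ * x * a)) * a⁻¹ := by rw [h]
      _ = a * g * a⁻¹ * x := by group

/-- Part (i). -/
theorem part_one [Finite G] (p : ℕ) [Fact p.Prime] (P : Subgroup G) (g : G)
    (hS : ∃ S : Sylow p (Subgroup.centralizer ({g} : Set G)),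
      (S : Subgroup (Subgroup.centralizer ({g} : Set G))).map
        (Subgroup.centralizer ({g} : Set G)).subtype = P) :
    (∃ c : G, IsConj g c ∧ c ∈ Subgroup.centralizer (P : Set G)) ∧
    (∀ c₁ c₂ : G, IsConj g c₁ → IsConj g c₂ → c₁ ∈ Subgroup.centralizer (P : Set G) →
      c₂ ∈ Subgroup.centralizer (P : Set G) →
      ∃ n ∈ Subgroup.normalizer (P : Set G), n * c₁ * n⁻¹ = c₂) := by
  obtain ⟨hPK, hcard⟩ := (exists_sylow_map_eq_iff p _ P).mp hS
  constructor
  · refine ⟨g, IsConj.refl g, ?_⟩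
    rw [Subgroup.mem_centralizer_iff]
    intro x hx
    exact (Subgroup.mem_centralizer_singleton_iff.mp (hPK hx))
  · intro c₁ c₂ h₁ h₂ hc₁ hc₂
    obtain ⟨a, rfl⟩ := isConj_iff.mp h₁
    obtain ⟨b, rfl⟩ := isConj_iff.mp h₂
    rw [mem_centralizer_conj_iff] at hc₁ hc₂
    -- the two conjugates of `P` inside the centralizer of `g`
    set P₁ : Subgroup G := P.map (MulAut.conj a⁻¹).toMonoidHom with hP₁
    set P₂ : Subgroup G := P.map (MulAut.conj b⁻¹).toMonoidHom with hP₂
    have hP₁K : P₁ ≤ Subgroup.centralizer ({g} : Set G) := by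
      rintro _ ⟨x, hx, rfl⟩
      simpa using hc₁ x hx
    have hP₂K : P₂ ≤ Subgroup.centralizer ({g} : Set G) := by
      rintro _ ⟨x, hx, rfl⟩
      simpa using hc₂ x hx
    have k₁ : Nat.card P₁ = Nat.card P :=
      Subgroup.card_map_of_injective (MulAut.conj a⁻¹).injective
    have k₂ : Nat.card P₂ = Nat.card P :=
      Subgroup.card_map_of_injective (MulAut.conj b⁻¹).injective
    obtain ⟨z, hzK, hz⟩ := exists_conj_of_card_eq p _ P₁ P₂ hP₁K hP₂K (by rw [k₁, hcard])
      (by rw [k₂, hcard])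
    refine ⟨b * z * a⁻¹, ?_, ?_⟩
    · have : Finite (P : Set G) := inferInstanceAs (Finite P)
      apply Subgroup.mem_normalizer_fintype
      intro x hx
      have hx1 : a⁻¹ * x * a ∈ P₁ := ⟨x, hx, by simp⟩
      obtain ⟨y, hy, hy'⟩ := hz _ hx1
      have hy'' : b⁻¹ * y * b = z * (a⁻¹ * x * a) * z⁻¹ := by simpa using hy'
      have : b * z * a⁻¹ * x * (b * z * a⁻¹)⁻¹ = y := by
        calc b * z * a⁻¹ * x * (b * z * a⁻¹)⁻¹ = b * (z * (a⁻¹ * x * a) * z⁻¹) * b⁻¹ := by group
          _ = b * (b⁻¹ * y * b) * b⁻¹ := by rw [hy'']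
          _ = y := by group
      rw [this]
      exact hy
    · have hzg : z * g = g * z := Subgroup.mem_centralizer_singleton_iff.mp hzK
      calc b * z * a⁻¹ * (a * g * a⁻¹) * (b * z * a⁻¹)⁻¹ = b * (z * g) * z⁻¹ * b⁻¹ := by group
        _ = b * (g * z) * z⁻¹ * b⁻¹ := by rw [hzg]
        _ = b * g * b⁻¹ := by group

/-- A `p`-subgroup of `G` contained in `K` has order dividing that of a Sylow `p`-subgroup
of `K`. -/
theorem card_dvd_of_le_of_isPGroup [Finite G] (p : ℕ) [Fact p.Prime] (K : Subgroup G)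
    (Q : Subgroup G) (hQ : IsPGroup p Q) (hQK : Q ≤ K) :
    Nat.card Q ∣ p ^ (Nat.card K).factorization p := by
  have hQ' : IsPGroup p (Q.subgroupOf K) := hQ.comap_subtype
  obtain ⟨S', hS'⟩ := hQ'.exists_le_sylow
  have h1 : Nat.card (Q.subgroupOf K) ∣ Nat.card S' := Subgroup.card_dvd_of_le hS'
  have h2 : Nat.card (Q.subgroupOf K) = Nat.card Q :=
    Nat.card_congr (Subgroup.subgroupOfEquivOfLe hQK).toEquiv
  rw [← h2, ← Sylow.card_eq_multiplicity S']
  exact h1

/-- Part (ii). -/
theorem part_two [Finite G] (p : ℕ) [Fact p.Prime] (P : Subgroup G) (hP : IsPGroup p P) (c : G)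
    (hc : c ∈ Subgroup.centralizer (P : Set G))
    (hS : ∃ S : Sylow p (Subgroup.centralizer ({c} : Set G) ⊓ Subgroup.normalizer (P : Set G) :
        Subgroup G),
      (S : Subgroup ↥(Subgroup.centralizer ({c} : Set G) ⊓ Subgroup.normalizer (P : Set G))).map
        (Subgroup.centralizer ({c} : Set G) ⊓ Subgroup.normalizer (P : Set G)).subtype = P) :
    ∃ S : Sylow p (Subgroup.centralizer ({c} : Set G)),
      (S : Subgroup (Subgroup.centralizer ({c} : Set G))).map
        (Subgroup.centralizer ({c} : Set G)).subtype = P := by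
  obtain ⟨hPK', hcard⟩ := (exists_sylow_map_eq_iff p _ P).mp hS
  have hPC : P ≤ Subgroup.centralizer ({c} : Set G) := hPK'.trans inf_le_left
  have hP' : IsPGroup p (P.subgroupOf (Subgroup.centralizer ({c} : Set G))) := hP.comap_subtype
  obtain ⟨Q, hQ⟩ := hP'.exists_le_sylow
  refine ⟨Q, ?_⟩
  set Q' : Subgroup G := (Q : Subgroup (Subgroup.centralizer ({c} : Set G))).map
    (Subgroup.centralizer ({c} : Set G)).subtype with hQ'
  have hQ'C : Q' ≤ Subgroup.centralizer ({c} : Set G) := Subgroup.map_subtype_le _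
  have hQ'p : IsPGroup p Q' := Q.2.map _
  have hPQ' : P ≤ Q' := by
    intro x hx
    refine ⟨⟨x, hPC hx⟩, hQ ?_, rfl⟩
    rw [Subgroup.mem_subgroupOf]
    exact hx
  -- `R = N(P) ⊓ Q'` is a `p`-subgroup of `C(c) ⊓ N(P)` containing `P`, so equals `P`
  set R : Subgroup G := Subgroup.normalizer (P : Set G) ⊓ Q' with hR
  have hRp : IsPGroup p R := hQ'p.to_le inf_le_right
  have hRK' : R ≤ Subgroup.centralizer ({c} : Set G) ⊓ Subgroup.normalizer (P : Set G) :=
    le_inf (inf_le_right.trans hQ'C) inf_le_left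
  have hPR : P ≤ R := le_inf Subgroup.le_normalizer hPQ'
  have hRcard : Nat.card R ∣ Nat.card P := by
    rw [hcard]
    exact card_dvd_of_le_of_isPGroup p _ R hRp hRK'
  have hRP : R = P := by
    symm
    apply Subgroup.eq_of_le_of_card_ge hPR
    exact Nat.le_of_dvd Nat.card_pos hRcard
  -- hence `P` is self-normalizing in the `p`-group `Q'`
  have hnil : Group.IsNilpotent Q' := IsPGroup.isNilpotent hQ'p
  have hself : Subgroup.normalizer ((P.subgroupOf Q' : Subgroup Q') : Set Q') = P.subgroupOf Q' := by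
    rw [← Subgroup.subgroupOf_normalizer_eq hPQ']
    rw [← Subgroup.inf_subgroupOf_right, ← hR, hRP]
  have htop := (normalizerCondition_iff_only_full_group_self_normalizing.mp
    Group.normalizerCondition_of_isNilpotent) _ hself
  rw [Subgroup.subgroupOf_eq_top] at htop
  exact le_antisymm htop hPQ'

/-- Let P be a p-subgroup of the finite group G, C its centralizer and N its normalizer. Say that a conjugacy class (of G, or of N) has defect group P when P is a Sylow p-subgroup of the centralizer (in G, respectively in N) of some element of the class. Then: (i) if the class of g in G has defect group P, the elements of that class lying in C form a single N-class, again with defect group P; (ii) every N-class with defect group P arises this way from exactly one G-class with defect group P. -/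
theorem result {G : Type*} [Group G] [Finite G] (p : ℕ) [Fact p.Prime] (P : Subgroup G) (hP : IsPGroup p P) : (∀ g : G, (∃ S : Sylow p (Subgroup.centralizer ({g} : Set G)), (S : Subgroup (Subgroup.centralizer ({g} : Set G))).map (Subgroup.centralizer ({g} : Set G)).subtype = P) → (∃ c : G, IsConj g c ∧ c ∈ Subgroup.centralizer (P : Set G)) ∧ (∀ c₁ c₂ : G, IsConj g c₁ → IsConj g c₂ → c₁ ∈ Subgroup.centralizer (P : Set G) → c₂ ∈ Subgroup.centralizer (P : Set G) → ∃ n ∈ Subgroup.normalizer (P : Set G), n * c₁ * n⁻¹ = c₂)) ∧ (∀ c : G, c ∈ Subgroup.centralizer (P : Set G) → (∃ S : Sylow p (Subgroup.centralizer ({c} : Set G) ⊓ Subgroup.normalizer (P : Set G) : Subgroup G), (S : Subgroup ↥(Subgroup.centralizer ({c} : Set G) ⊓ Subgroup.normalizer (P : Set G))).map (Subgroup.centralizer ({c} : Set G) ⊓ Subgroup.normalizer (P : Set G)).subtype = P) → ∃ S : Sylow p (Subgroup.centralizer ({c} : Set G)), (S : Subgroup (Subgroup.centralizer ({c} : Set G))).map (Subgroup.centralizer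 ({c} : Set G)).subtype = P) := by
  exact ⟨fun g hS => part_one p P g hS, fun c hc hS => part_two p P hP c hc hS⟩

end Cfsg.Agent.S0916
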