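import Mathlib
import Cfsg.Statements.S0713

set_option autoImplicit false

open Cfsg

namespace Cfsg.Agent.S0713

open Equiv Equiv.Perm MulAction

/-- Sylow conjugacy for elements of order `p` when `p²` does not divide the group order. -/
theorem conj_of_not_sq_dvd {K : Type*} [Group K] [Finite K] {p : ℕ} [hp : Fact p.Prime]
    (hK : ¬ p ^ 2 ∣ Nat.card K) {g g' : K} (hg : orderOf g = p) (hg' : orderOf g' = p) :
    ∃ (u : K) (i : ℤ), u * g' * u⁻¹ = g ^ i := by
  have hdvd : p ∣ Nat.card K := hg ▸ orderOf_dvd_natCard g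
  have hfac : (Nat.card K).factorization p = 1 := by
    have h1 : 1 ≤ (Nat.card K).factorization p :=
      (hp.out.pow_dvd_iff_le_factorization (Nat.card_pos.ne')).mp (by simpa using hdvd)
    have h2 : ¬ 2 ≤ (Nat.card K).factorization p := fun h =>
      hK ((hp.out.pow_dvd_iff_le_factorization (Nat.card_pos.ne')).mpr h)
    omega
  let P : Sylow p K := Sylow.ofCard (Subgroup.zpowers g)
    (by rw [Nat.card_zpowers, hg, hfac, pow_one])
  let P' : Sylow p K := Sylow.ofCard (Subgroup.zpowers g')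
    (by rw [Nat.card_zpowers, hg', hfac, pow_one])
  obtain ⟨u, hu⟩ := MulAction.exists_smul_eq K P' P
  have h1 : u * g' * u⁻¹ ∈ ((u • P' : Sylow p K) : Subgroup K) := by
    rw [Sylow.coe_subgroup_smul]
    refine ⟨g', ?_, rfl⟩
    exact Subgroup.mem_zpowers g'
  rw [hu] at h1
  obtain ⟨i, hi⟩ := Subgroup.mem_zpowers_iff.mp h1
  exact ⟨u, i, hi.symm⟩

variable {α : Type*} [Fintype α] [DecidableEq α]

/-- A permutation commuting with a cycle acts as a power of it on its support. -/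
theorem exists_zpow_of_commute {g c : Perm α} (hgc : g.IsCycle) (hc : Commute c g) :
    ∃ m : ℤ, ∀ a ∈ g.support, c a = (g ^ m) a := by
  obtain ⟨a₀, ha₀, hcyc⟩ := hgc
  have hca₀ : g (c a₀) ≠ c a₀ := by
    intro h
    apply ha₀
    have : c (g a₀) = c a₀ := by
      have := congrArg (fun f : Perm α => f a₀) hc.eq
      simp only [Perm.mul_apply] at this
      rw [this, h]
    exact c.injective this
  obtain ⟨m, hm⟩ := hcyc hca₀
  refine ⟨m, fun a ha => ?_⟩
  obtain ⟨k, hk⟩ := hcyc (mem_support.mp ha)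
  have h1 : Commute c (g ^ k) := hc.zpow_right k
  have h2 : c ((g ^ k) a₀) = (g ^ k) (c a₀) := by
    have := congrArg (fun f : Perm α => f a₀) h1.eq
    simpa only [Perm.mul_apply] using this
  rw [← hk, h2, ← hm, ← Perm.mul_apply, ← Perm.mul_apply, ← zpow_add, ← zpow_add, add_comm]

/-- pairs `(x, σ)` where `σ` fixes `Γ` pointwise and `x` agrees with `σ` off `Γ`. -/
def pairSubgroup (Γ : Finset α) : Subgroup (Perm α × Perm α) where
  carrier := {q | (∀ a ∈ Γ, q.2 a = a) ∧ ∀ d, d ∉ Γ → q.1 d = q.2 d}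
  one_mem' := ⟨fun _ _ => rfl, fun _ _ => rfl⟩
  mul_mem' := by
    rintro ⟨x, σ⟩ ⟨y, τ⟩ ⟨h1, h2⟩ ⟨h3, h4⟩
    refine ⟨fun a ha => ?_, fun d hd => ?_⟩
    · simp only [Prod.snd_mul, Perm.mul_apply] at *
      rw [h3 a ha, h1 a ha]
    · simp only [Prod.snd_mul, Prod.fst_mul, Perm.mul_apply] at *
      have : τ d ∉ Γ := by
        intro h
        have := h3 _ h
        exact hd (τ.injective this ▸ h)
      rw [h4 d hd, h2 _ this]
  inv_mem' := by
    rintro ⟨x, σ⟩ ⟨h1, h2⟩
    simp only [Set.mem_ofPred_eq, Prod.snd_inv, Prod.fst_inv] at *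
    refine ⟨fun a ha => ?_, fun d hd => ?_⟩
    · rw [Perm.inv_eq_iff_eq]; exact (h1 a ha).symm
    · have : σ⁻¹ d ∉ Γ := by
        intro h
        have := h1 _ h
        simp only [Perm.coe_inv, apply_symm_apply] at this
        exact hd (this ▸ h)
      rw [Perm.inv_eq_iff_eq, h2 _ this]
      simp only [Perm.coe_inv, apply_symm_apply]

omit [Fintype α] [DecidableEq α] in
theorem mem_pairSubgroup {Γ : Finset α} {x σ : Perm α} :
    (x, σ) ∈ pairSubgroup Γ ↔ (∀ a ∈ Γ, σ a = a) ∧ ∀ d, d ∉ Γ → x d = σ d := Iff.rfl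

/-- Jordan: `G` is `(n-p)`-fold transitive. -/
theorem multiply_pretransitive (G : Subgroup (Equiv.Perm α)) (hG : MulAction.IsPreprimitive G α)
    {p : ℕ} (hp : p.Prime) (hpn : p + 3 ≤ Fintype.card α) {g : Equiv.Perm α} (hgc : g.IsCycle)
    (hgp : g.support.card = p) (hg : g ∈ G) :
    IsMultiplyPretransitive G α (Fintype.card α - p) := by
  classical
  obtain ⟨m, hm⟩ : ∃ m, Fintype.card α = p + (m + 1) := ⟨Fintype.card α - p - 1, by omega⟩
  have hp2 := hp.two_le
  have hpre : IsMultiplyPreprimitive G α (m + 2) := by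
    apply hG.isMultiplyPreprimitive (s := (g.supportᶜ : Set α))
    · apply Nat.add_left_cancel
      rw [Set.ncard_add_ncard_compl, Set.ncard_coe_finset, hgp, Nat.card_eq_fintype_card, hm]
    · rw [Nat.card_eq_fintype_card]; omega
    have := isPretransitive_of_isCycle_mem hgc hg
    apply IsPreprimitive.of_prime_card
    convert! hp
    rw [Nat.card_eq_fintype_card, Fintype.card_subtype, ← hgp]
    apply congr_arg
    ext x
    simp [SubMulAction.mem_ofFixingSubgroup_iff]
  have : IsMultiplyPretransitive G α (m + 2) := inferInstance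
  rw [show Fintype.card α - p = m + 1 by omega]
  exact isMultiplyPretransitive_of_le (n := m + 2) (by omega)
    (by rw [Nat.card_eq_fintype_card]; omega)

/-- A `|Δ|`-transitive group realizes every permutation of `Δ` (here `Δ = Γᶜ`). -/
theorem exists_agree_off (G : Subgroup (Equiv.Perm α)) (Γ : Finset α)
    (hk : IsMultiplyPretransitive G α (Fintype.card α - Γ.card)) (σ : Perm α) :
    ∃ h ∈ G, ∀ d, d ∉ Γ → h d = σ d := by
  have hcard : (Γᶜ).card = Fintype.card α - Γ.card := Finset.card_compl Γ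
  let e : {x // x ∈ Γᶜ} ≃ Fin (Fintype.card α - Γ.card) := (Γᶜ).equivFinOfCardEq hcard
  let x : Fin (Fintype.card α - Γ.card) ↪ α :=
    e.symm.toEmbedding.trans (Function.Embedding.subtype _)
  let y : Fin (Fintype.card α - Γ.card) ↪ α := x.trans σ.toEmbedding
  obtain ⟨h, hh⟩ := exists_smul_eq G x y
  refine ⟨h, h.2, fun d hd => ?_⟩
  have hd' : d ∈ Γᶜ := Finset.mem_compl.mpr hd
  have h1 := congrArg (fun f : Fin (Fintype.card α - Γ.card) ↪ α => f (e ⟨d, hd'⟩)) hh
  simp only [Function.Embedding.smul_apply] at h1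
  have hx : x (e ⟨d, hd'⟩) = d := by
    simp [x]
  have hy : y (e ⟨d, hd'⟩) = σ d := by
    simp [y, x]
  rw [hx, hy] at h1
  exact h1

theorem not_sq_dvd_factorial {p : ℕ} (hp : p.Prime) : ¬ p ^ 2 ∣ p.factorial := by
  intro h
  obtain ⟨q, rfl⟩ : ∃ q, p = q + 1 := ⟨p - 1, by have := hp.pos; omega⟩
  rw [Nat.factorial_succ, pow_two] at h
  have h2 : (q + 1) ∣ q.factorial := Nat.dvd_of_mul_dvd_mul_left (Nat.succ_pos q) h
  have := (hp.dvd_factorial).mp h2
  omega

theorem exists_normalizing (G : Subgroup (Perm α)) {p : ℕ} (hp : p.Prime) {g : Perm α}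
    (hgc : g.IsCycle) (hgp : g.support.card = p) (hg : g ∈ G)
    (hk : IsMultiplyPretransitive G α (Fintype.card α - g.support.card)) (σ : Perm α)
    (hσ : ∀ a ∈ g.support, σ a = a) :
    ∃ x ∈ G, (x, σ) ∈ pairSubgroup g.support ∧ ∃ i : ℤ, x * g * x⁻¹ = g ^ i := by
  obtain ⟨h, hhG, hh⟩ := exists_agree_off G g.support hk σ
  let R : Subgroup (Perm α) := (ofSubtype : Perm {a // a ∈ g.support} →* Perm α).range
  have hpair : (h, σ) ∈ pairSubgroup g.support := ⟨hσ, hh⟩
  have hsupp : ∀ a, a ∈ g.support → h a ∈ g.support := by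
    intro a ha
    by_contra hcon
    have hinv := (pairSubgroup g.support).inv_mem hpair
    have h1 := hinv.2 _ hcon
    simp only [Prod.fst_inv, Prod.snd_inv, Perm.coe_inv, symm_apply_apply] at h1
    have h2 : σ a = h a := by
      have := congrArg σ h1
      simpa using this
    rw [hσ a ha] at h2
    exact hcon (h2 ▸ ha)
  have hg' : (h * g * h⁻¹).support = g.support := by
    rw [support_conj]
    apply Finset.eq_of_subset_of_card_le
    · intro b hb
      simp only [Finset.mem_map, Equiv.coe_toEmbedding] at hb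
      obtain ⟨a, ha, rfl⟩ := hb
      exact hsupp a ha
    · simp
  have hgR : g ∈ R := mem_range_ofSubtype_iff.mpr (fun a ha => ha)
  have hg'R : h * g * h⁻¹ ∈ R := mem_range_ofSubtype_iff.mpr (by rw [hg']; exact fun a ha => ha)
  have hcardR : Nat.card R = p.factorial := by
    rw [← Nat.card_congr (MonoidHom.ofInjective
      (f := (ofSubtype : Perm {a // a ∈ g.support} →* Perm α)) ofSubtype_injective).toEquiv,
      Nat.card_perm, Nat.card_eq_fintype_card, Fintype.card_coe, hgp]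
  have hK : ¬ p ^ 2 ∣ Nat.card ↥(G ⊓ R) := by
    intro hdiv
    apply not_sq_dvd_factorial hp
    rw [← hcardR]
    exact hdiv.trans (Subgroup.card_dvd_of_le inf_le_right)
  have : Fact p.Prime := ⟨hp⟩
  have ho : orderOf g = p := by rw [hgc.orderOf, hgp]
  have ho' : orderOf (h * g * h⁻¹) = p := by rw [(hgc.conj).orderOf, hg', hgp]
  obtain ⟨u, i, hu⟩ := conj_of_not_sq_dvd hK (g := ⟨g, Subgroup.mem_inf.mpr ⟨hg, hgR⟩⟩)
    (g' := ⟨h * g * h⁻¹,
      Subgroup.mem_inf.mpr ⟨G.mul_mem (G.mul_mem hhG hg) (G.inv_mem hhG), hg'R⟩⟩)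
    (by rw [Subgroup.orderOf_mk]; exact ho) (by rw [Subgroup.orderOf_mk]; exact ho')
  refine ⟨u * h, G.mul_mem (Subgroup.mem_inf.mp u.2).1 hhG, ?_, i, ?_⟩
  · have hu1 : ((u : Perm α), (1 : Perm α)) ∈ pairSubgroup g.support := by
      refine ⟨fun _ _ => rfl, fun d hd => ?_⟩
      have := mem_range_ofSubtype_iff.mp (Subgroup.mem_inf.mp u.2).2
      by_contra hne
      exact hd (this (mem_support.mpr hne))
    have := (pairSubgroup g.support).mul_mem hu1 hpair
    simpa using this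
  · have := congrArg Subtype.val hu
    simp only [Subgroup.coe_mul, Subgroup.coe_inv, Subgroup.coe_zpow] at this
    rw [← this]
    group

/-- Jordan's Theorem: a primitive permutation group of degree `n ≥ 5` containing a `p`-cycle for a prime `p ≤ n - 3` contains the alternating group. -/
theorem result {α : Type*} [Fintype α] [DecidableEq α] (G : Subgroup (Equiv.Perm α)) (hG : MulAction.IsPreprimitive G α) {p : ℕ} (hp : p.Prime) (hn : 5 ≤ Fintype.card α) (hpn : p + 3 ≤ Fintype.card α) {g : Equiv.Perm α} (hgc : g.IsCycle) (hgp : g.support.card = p) (hg : g ∈ G) : alternatingGroup α ≤ G := by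
  have hk := multiply_pretransitive G hG hp hpn hgc hgp hg
  rw [← hgp] at hk
  have hΔ : 3 ≤ (g.supportᶜ).card := by rw [Finset.card_compl, hgp]; omega
  obtain ⟨t, ht, ht3⟩ := Finset.exists_subset_card_eq hΔ
  obtain ⟨d1, d2, d3, h12, h13, h23, rfl⟩ := Finset.card_eq_three.mp ht3
  have hd1 : d1 ∉ g.support := Finset.mem_compl.mp (ht (by simp))
  have hd2 : d2 ∉ g.support := Finset.mem_compl.mp (ht (by simp))
  have hd3 : d3 ∉ g.support := Finset.mem_compl.mp (ht (by simp))
  have hσ : ∀ a ∈ g.support, swap d1 d2 a = a := fun a ha =>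
    swap_apply_of_ne_of_ne (by rintro rfl; exact hd1 ha) (by rintro rfl; exact hd2 ha)
  have hτ : ∀ a ∈ g.support, swap d1 d3 a = a := fun a ha =>
    swap_apply_of_ne_of_ne (by rintro rfl; exact hd1 ha) (by rintro rfl; exact hd3 ha)
  obtain ⟨x, hxG, hxp, i, hxi⟩ := exists_normalizing G hp hgc hgp hg hk _ hσ
  obtain ⟨y, hyG, hyp, j, hyj⟩ := exists_normalizing G hp hgc hgp hg hk _ hτ
  have hcpair : (x⁻¹ * y⁻¹ * x * y, (swap d1 d2)⁻¹ * (swap d1 d3)⁻¹ * swap d1 d2 * swap d1 d3) ∈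
      pairSubgroup g.support := by
    have := mul_mem (mul_mem (mul_mem (inv_mem hxp) (inv_mem hyp)) hxp) hyp
    simpa using this
  have hcomm : Commute (x⁻¹ * y⁻¹ * x * y) g := by
    have h1 : (x * y) * g * (x * y)⁻¹ = g ^ (j * i) := by
      calc x * y * g * (x * y)⁻¹ = x * (y * g * y⁻¹) * x⁻¹ := by group
        _ = x * g ^ j * x⁻¹ := by rw [hyj]
        _ = (x * g * x⁻¹) ^ j := by rw [conj_zpow]
        _ = g ^ (j * i) := by rw [hxi, ← zpow_mul, mul_comm]
    have h2 : (y * x) * g * (y * x)⁻¹ = g ^ (j * i) := by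
      calc y * x * g * (y * x)⁻¹ = y * (x * g * x⁻¹) * y⁻¹ := by group
        _ = y * g ^ i * y⁻¹ := by rw [hxi]
        _ = (y * g * y⁻¹) ^ i := by rw [conj_zpow]
        _ = g ^ (j * i) := by rw [hyj, ← zpow_mul]
    have h3 : (x⁻¹ * y⁻¹ * x * y) * g * (x⁻¹ * y⁻¹ * x * y)⁻¹ = g := by
      have : (x⁻¹ * y⁻¹ * x * y) * g * (x⁻¹ * y⁻¹ * x * y)⁻¹ =
          (y * x)⁻¹ * ((x * y) * g * (x * y)⁻¹) * (y * x) := by group
      rw [this, h1, ← h2]
      group
    exact mul_inv_eq_iff_eq_mul.mp h3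
  obtain ⟨m, hm⟩ := exists_zpow_of_commute hgc hcomm
  have hρ : (x⁻¹ * y⁻¹ * x * y) * g ^ (-m) =
      (swap d1 d2)⁻¹ * (swap d1 d3)⁻¹ * swap d1 d2 * swap d1 d3 := by
    ext a
    by_cases ha : a ∈ g.support
    · rw [Perm.mul_apply, hm _ (zpow_apply_mem_support.mpr ha), ← Perm.mul_apply, ← zpow_add,
        add_neg_cancel, zpow_zero, Perm.one_apply]
      exact (hcpair.1 a ha).symm
    · rw [Perm.mul_apply, zpow_apply_eq_self_of_apply_eq_self (notMem_support.mp ha)]
      exact hcpair.2 a ha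
  have hmem : (swap d1 d2)⁻¹ * (swap d1 d3)⁻¹ * swap d1 d2 * swap d1 d3 ∈ G := by
    rw [← hρ]
    exact G.mul_mem (G.mul_mem (G.mul_mem (G.mul_mem (G.inv_mem hxG) (G.inv_mem hyG)) hxG) hyG)
      (G.zpow_mem hg _)
  have h3c : ((swap d1 d2)⁻¹ * (swap d1 d3)⁻¹ * swap d1 d2 * swap d1 d3).IsThreeCycle := by
    have := (isThreeCycle_swap_mul_swap_same h12 h13 h23).isThreeCycle_sq
    rw [swap_inv, swap_inv]
    rwa [← mul_assoc] at this
  exact alternatingGroup_le_of_isPreprimitive_of_isThreeCycle_mem hG h3c hmem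

end Cfsg.Agent.S0713
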