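import Cfsg.Statements.S3225
import Mathlib.GroupTheory.Transfer
-- import your own Cfsg.Agent.* helpers here

set_option autoImplicit false
open Cfsg

namespace Cfsg.Agent.S3225

/-- The sign character of `S` with kernel `M` (index 2). -/
noncomputable def signHom {G : Type*} [Group G] (S M : Subgroup G)
    (hM : M.relIndex S = 2) : ↥S →* ℤˣ where
  toFun s := by
    classical
    exact if (s : G) ∈ M then 1 else -1
  map_one' := by simp [M.one_mem]
  map_mul' a b := by
    classical
    have h2 : (M.subgroupOf S).index = 2 := hM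
    have key := Subgroup.mul_mem_iff_of_index_two h2 (a := a) (b := b)
    simp only [Subgroup.mem_subgroupOf, Subgroup.coe_mul] at key
    by_cases ha : (a : G) ∈ M <;> by_cases hb : (b : G) ∈ M <;> simp_all

theorem signHom_apply_of_mem {G : Type*} [Group G] (S M : Subgroup G)
    (hM : M.relIndex S = 2) (s : ↥S) (hs : (s : G) ∈ M) : signHom S M hM s = 1 := by
  classical
  simp [signHom, hs]

theorem signHom_apply_of_not_mem {G : Type*} [Group G] (S M : Subgroup G)
    (hM : M.relIndex S = 2) (s : ↥S) (hs : (s : G) ∉ M) : signHom S M hM s = -1 := by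
  classical
  simp [signHom, hs]

/-- A homomorphism to `ℤˣ` from a group without subgroups of index 2 is trivial. -/
theorem hom_trivial {G : Type*} [Group G] (hG : ∀ H : Subgroup G, H.index ≠ 2) (f : G →* ℤˣ)
    (g : G) : f g = 1 := by
  by_contra hne
  apply hG f.ker
  rw [Subgroup.index_eq_two_iff]
  refine ⟨g, fun b => ?_⟩
  have hg : f g = -1 := (Int.units_eq_one_or (f g)).resolve_left hne
  simp only [MonoidHom.mem_ker, map_mul, hg]
  rcases Int.units_eq_one_or (f b) with hb | hb <;> simp [hb, Xor]

/-- The value of the sign character on one factor of the transfer formula. -/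
theorem factor_eq {G : Type*} [Group G] [Finite G] (S M : Subgroup G) (hM : M.relIndex S = 2)
    (n : ℕ) (hn : 1 ≤ n) (hord : ∀ y ∈ S, y ∉ M → 2 ^ (n - 1) < orderOf y)
    (x : G) (hxn : orderOf x = 2 ^ n) (hcon : ∀ g : G, g * x * g⁻¹ ∉ M)
    (k : ℕ) (hkdvd : k ∣ 2 ^ n) (g : G) (hmem : g⁻¹ * x ^ k * g ∈ S) :
    signHom S M hM ⟨g⁻¹ * x ^ k * g, hmem⟩ = (-1 : ℤˣ) ^ k := by
  obtain ⟨j, hjn, hkj⟩ := (Nat.dvd_prime_pow Nat.prime_two).1 hkdvd
  rcases Nat.eq_zero_or_pos j with hj0 | hjpos
  · -- k = 1
    have hk1 : k = 1 := by rw [hkj, hj0, pow_zero]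
    have hgoal : signHom S M hM ⟨g⁻¹ * x ^ k * g, hmem⟩ = -1 := by
      apply signHom_apply_of_not_mem
      have := hcon g⁻¹
      simpa [hk1] using this
    rw [hgoal, hk1, pow_one]
  · -- k even
    have hkeven : Even k := by
      rw [hkj]
      exact (Nat.even_pow.2 ⟨even_two, hjpos.ne'⟩)
    rw [hkeven.neg_one_pow]
    apply signHom_apply_of_mem
    by_contra hnotM
    have hlt := hord _ hmem hnotM
    have hconj : orderOf (g⁻¹ * x ^ k * g) = orderOf (x ^ k) := by
      have h := orderOf_injective (MulAut.conj g⁻¹).toMonoidHom (MulAut.conj g⁻¹).injective (x ^ k)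
      simpa [MulAut.conj_apply] using h
    rw [hconj, orderOf_pow, hxn, hkj, Nat.gcd_eq_right (pow_dvd_pow 2 hjn),
      Nat.pow_div hjn (by norm_num)] at hlt
    have : n - j ≤ n - 1 := by omega
    exact absurd (Nat.pow_le_pow_right (by norm_num : 0 < 2) this) (not_le.2 hlt)

/-- Let G be a finite group of even order with no subgroup of index 2, S a Sylow 2-subgroup of G and M a subgroup of index 2 in S such that, for some n ≥ 1, every element of S outside M has order greater than 2^(n−1). Then every element of S of order 2ⁿ is conjugate in G to an element of M. -/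
theorem result {G : Type*} [Group G] [Finite G] (hev : Even (Nat.card G))
    (hG : ∀ H : Subgroup G, H.index ≠ 2) (S : Sylow 2 G) (M : Subgroup G) (hMS : M ≤ (S : Subgroup G)) (hM : M.relIndex (S : Subgroup G) = 2)
    (n : ℕ) (hn : 1 ≤ n) (hord : ∀ y ∈ (S : Subgroup G), y ∉ M → 2 ^ (n - 1) < orderOf y)
    (x : G) (hx : x ∈ (S : Subgroup G)) (hxn : orderOf x = 2 ^ n) :
    ∃ g : G, g * x * g⁻¹ ∈ M := by
  classical
  by_contra hcon
  push Not at hcon
  have : Fact (Nat.Prime 2) := ⟨Nat.prime_two⟩
  have htriv := hom_trivial hG (MonoidHom.transfer (signHom (S : Subgroup G) M hM)) x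
  let _ : Fintype (Quotient (MulAction.orbitRel (Subgroup.zpowers x) (G ⧸ (S : Subgroup G)))) :=
    Fintype.ofFinite _
  rw [MonoidHom.transfer_eq_prod_quotient_orbitRel_zpowers_quot] at htriv
  -- each factor is (-1)^(minimal period)
  have hfac : ∀ q : Quotient (MulAction.orbitRel (Subgroup.zpowers x) (G ⧸ (S : Subgroup G))),
      signHom (S : Subgroup G) M hM
        ⟨q.out.out⁻¹ * x ^ Function.minimalPeriod (x • ·) q.out * q.out.out,
          QuotientGroup.out_conj_pow_minimalPeriod_mem (S : Subgroup G) x q.out⟩ =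
        (-1 : ℤˣ) ^ Function.minimalPeriod (x • ·) q.out := by
    intro q
    apply factor_eq (S : Subgroup G) M hM n hn hord x hxn hcon
    rw [← hxn, ← MulAction.pow_smul_eq_iff_minimalPeriod_dvd, pow_orderOf_eq_one, one_smul]
  rw [Finset.prod_congr rfl (fun q _ => hfac q), Finset.prod_pow_eq_pow_sum,
    ← Subgroup.index_eq_sum_minimalPeriod] at htriv
  have hodd : Odd (S : Subgroup G).index := by
    have := S.not_dvd_index
    exact Nat.odd_iff.2 (Nat.two_dvd_ne_zero.1 this)
  rw [hodd.neg_one_pow] at htriv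
  exact absurd htriv (by decide)

end Cfsg.Agent.S3225
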