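import Cfsg.Statements.S0932
-- import your own Cfsg.Agent.* helpers here

set_option autoImplicit false
open Cfsg

namespace Cfsg.Agent.S0932

open scoped Classical in
/-- The fibre of `x ↦ x⁻¹ g x` over a conjugate `y` of `g` has as many elements as the
centralizer of `g`. -/
theorem card_fiber_conj {G : Type*} [Group G] [Fintype G] (g y : G) (h : IsConj g y) :
    (Finset.univ.filter (fun x : G => x⁻¹ * g * x = y)).card =
      Nat.card (Subgroup.centralizer ({g} : Set G)) := by
  obtain ⟨c, hc⟩ := isConj_iff.mp h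
  -- `c * g * c⁻¹ = y`; put `x1 = c⁻¹`
  rw [Nat.card_eq_fintype_card, ← Finset.card_univ]
  symm
  refine Finset.card_bij (fun (z : Subgroup.centralizer ({g} : Set G)) _ => (z : G) * c⁻¹) ?_ ?_ ?_
  · intro z _
    simp only [Finset.mem_filter, Finset.mem_univ, true_and]
    have hz := Subgroup.mem_centralizer_singleton_iff.mp z.2
    rw [← hc]
    simp only [mul_inv_rev, inv_inv]
    have : (z : G)⁻¹ * g * (z : G) = g := by
      rw [mul_assoc, ← hz, ← mul_assoc, inv_mul_cancel, one_mul]
    calc c * (z : G)⁻¹ * g * ((z : G) * c⁻¹) = c * ((z : G)⁻¹ * g * (z : G)) * c⁻¹ := by group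
      _ = c * g * c⁻¹ := by rw [this]
  · intro z₁ _ z₂ _ h12
    exact Subtype.ext (mul_right_cancel h12)
  · intro x hx
    simp only [Finset.mem_filter, Finset.mem_univ, true_and] at hx
    refine ⟨⟨x * c, ?_⟩, Finset.mem_univ _, by simp⟩
    rw [Subgroup.mem_centralizer_singleton_iff]
    rw [← hc] at hx
    -- hx : x⁻¹ * g * x = c * g * c⁻¹
    have : g = x * (c * g * c⁻¹) * x⁻¹ := by rw [← hx]; group
    calc x * c * g = x * (c * g * c⁻¹) * x⁻¹ * (x * c) := by group
      _ = g * (x * c) := by rw [← this]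

open scoped Classical in
/-- Summing a function over the conjugates `x⁻¹ g x`, `x ∈ G`, counts each conjugate of `g`
as often as the order of the centralizer of `g`. -/
theorem sum_conj_eq {G : Type*} [Group G] [Fintype G] (f : G → ℂ) (g : G) :
    ∑ x : G, f (x⁻¹ * g * x) =
      (Nat.card (Subgroup.centralizer ({g} : Set G)) : ℂ) *
        ∑ y ∈ Finset.univ.filter (fun y : G => IsConj g y), f y := by
  rw [← Finset.sum_fiberwise_of_maps_to (s := Finset.univ)
    (t := Finset.univ.filter (fun y : G => IsConj g y)) (g := fun x : G => x⁻¹ * g * x)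
    (f := fun x => f (x⁻¹ * g * x))]
  · rw [Finset.mul_sum]
    refine Finset.sum_congr rfl (fun y hy => ?_)
    simp only [Finset.mem_filter, Finset.mem_univ, true_and] at hy
    rw [Finset.sum_congr rfl (g := fun _ => f y)]
    · rw [Finset.sum_const, card_fiber_conj g y hy, nsmul_eq_mul]
    · intro x hx
      simp only [Finset.mem_filter, Finset.mem_univ, true_and] at hx
      rw [hx]
  · intro x _
    simp only [Finset.mem_filter, Finset.mem_univ, true_and]
    rw [isConj_iff]
    exact ⟨x⁻¹, by simp⟩

theorem extendByZero_coe {G : Type*} [Group G] (H : Subgroup G) (ξ : H → ℂ) (h : H) :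
    extendByZero H ξ (h : G) = ξ h := by
  unfold extendByZero
  exact Subtype.val_injective.extend_apply _ _ _

theorem extendByZero_not_mem {G : Type*} [Group G] (H : Subgroup G) (ξ : H → ℂ) (y : G)
    (hy : y ∉ H) : extendByZero H ξ y = 0 := by
  unfold extendByZero
  rw [Function.extend_apply']
  · rfl
  · rintro ⟨h, rfl⟩
    exact hy h.2

open scoped Classical in
/-- A sum over `G` of an extension by zero is a sum over the subgroup. -/
theorem sum_filter_extendByZero {G : Type*} [Group G] [Fintype G] (H : Subgroup G) (ξ : H → ℂ)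
    (g : G) :
    ∑ y ∈ Finset.univ.filter (fun y : G => IsConj g y), extendByZero H ξ y =
      ∑ h ∈ Finset.univ.filter (fun h : H => IsConj g (h : G)), ξ h := by
  symm
  refine Finset.sum_bij_ne_zero (fun (h : H) _ _ => (h : G)) ?_ ?_ ?_ ?_
  · intro h hh _
    simp only [Finset.mem_filter, Finset.mem_univ, true_and] at hh ⊢
    exact hh
  · intro h₁ _ _ h₂ _ _ h12
    exact Subtype.ext h12
  · intro y hy hne
    simp only [Finset.mem_filter, Finset.mem_univ, true_and] at hy
    have hyH : y ∈ H := by
      by_contra hn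
      exact hne (extendByZero_not_mem H ξ y hn)
    refine ⟨⟨y, hyH⟩, ?_, ?_, rfl⟩
    · simp only [Finset.mem_filter, Finset.mem_univ, true_and]
      exact hy
    · rw [← extendByZero_coe H ξ ⟨y, hyH⟩]
      exact hne
  · intro h _ _
    exact (extendByZero_coe H ξ h).symm

open scoped Classical in
theorem indFun_eq {G : Type*} [Group G] [Fintype G] (H : Subgroup G) (ξ : H → ℂ) (g : G) :
    indFun H ξ g = (Nat.card H : ℂ)⁻¹ * ((Nat.card (Subgroup.centralizer ({g} : Set G)) : ℂ) *
      ∑ h ∈ Finset.univ.filter (fun h : H => IsConj g (h : G)), ξ h) := by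
  unfold indFun
  rw [sum_conj_eq (extendByZero H ξ) g, sum_filter_extendByZero]

theorem indFun_one {G : Type*} [Group G] [Fintype G] (H : Subgroup G) (ξ : H → ℂ) :
    indFun H ξ 1 = (Nat.card H : ℂ)⁻¹ * ((Nat.card G : ℂ) * ξ 1) := by
  unfold indFun
  have : ∀ x : G, extendByZero H ξ (x⁻¹ * 1 * x) = ξ 1 := by
    intro x
    have h1 : x⁻¹ * 1 * x = ((1 : H) : G) := by simp
    rw [h1, extendByZero_coe]
  rw [Finset.sum_congr rfl (fun x _ => this x), Finset.sum_const, Finset.card_univ,
    nsmul_eq_mul, ← Nat.card_eq_fintype_card (α := G)]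

/-- Let H be a subgroup of the finite group G and ξ a character of H. For every g ∈ G, the sum of ξ h / ξ 1 over the elements h ∈ H that are conjugate in G to g equals the central character at g of the character of G induced from ξ (class size times value divided by degree). -/
theorem result {G : Type*} [Group G] [Fintype G] (H : Subgroup G) (ξ : H → ℂ) (hξ : Cfsg.IsCharacter H ξ) (g : G) : Cfsg.inducedCentralChar H ξ g = Cfsg.centralChar (Cfsg.indFun H ξ) g := by
  classical
  unfold inducedCentralChar centralChar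
  rw [finsum_mem_eq_sum_of_subset (t := Finset.univ.filter (fun h : H => IsConj g (h : G)))
      _ (by intro x hx; simpa using hx.1) (by intro x hx; simpa using hx),
    indFun_eq, indFun_one]
  have hsd : ∑ i ∈ Finset.univ.filter (fun h : H => IsConj g (h : G)), ξ i / ξ 1 =
      (∑ i ∈ Finset.univ.filter (fun h : H => IsConj g (h : G)), ξ i) / ξ 1 := by
    simp only [div_eq_mul_inv, Finset.sum_mul]
  rw [hsd]
  set S := ∑ h ∈ Finset.univ.filter (fun h : H => IsConj g (h : G)), ξ h with hS
  have hH : (Nat.card H : ℂ) ≠ 0 := by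
    exact_mod_cast Nat.card_pos.ne'
  have hG : (Nat.card G : ℂ) ≠ 0 := by
    exact_mod_cast Nat.card_pos.ne'
  have hidx : ((Subgroup.centralizer ({g} : Set G)).index : ℂ) *
      (Nat.card (Subgroup.centralizer ({g} : Set G)) : ℂ) = (Nat.card G : ℂ) := by
    rw [mul_comm]
    exact_mod_cast (Subgroup.centralizer ({g} : Set G)).card_mul_index
  by_cases h1 : ξ 1 = 0
  · simp [h1]
  · rw [eq_div_iff (by
      simp only [ne_eq, mul_eq_zero, inv_eq_zero, not_or]
      exact ⟨hH, hG, h1⟩)]
    calc S / ξ 1 * ((Nat.card H : ℂ)⁻¹ * ((Nat.card G : ℂ) * ξ 1))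
        = (Nat.card H : ℂ)⁻¹ * ((Nat.card G : ℂ) * S) := by
          field_simp
      _ = (Nat.card H : ℂ)⁻¹ * ((((Subgroup.centralizer ({g} : Set G)).index : ℂ) *
            (Nat.card (Subgroup.centralizer ({g} : Set G)) : ℂ)) * S) := by rw [hidx]
      _ = _ := by ring

end Cfsg.Agent.S0932
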