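import Cfsg.Statements.S0547
import Cfsg.Agent.S0551
import Mathlib

set_option autoImplicit false
open Cfsg

namespace Cfsg.Agent.S0547

/-- A nontrivial normal subgroup of a faithful preprimitive group is pretransitive. -/
theorem isPretransitive_of_normal {G : Type*} [Group G] {Ω : Type*} [MulAction G Ω]
    [FaithfulSMul G Ω] (hprim : MulAction.IsPreprimitive G Ω) (M : Subgroup G) [M.Normal]
    (hM : M ≠ ⊥) : MulAction.IsPretransitive M Ω := by
  apply MulAction.IsQuasiPreprimitive.isPretransitive_of_normal (G := G)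
  intro h
  apply hM
  rw [eq_bot_iff]
  intro m hm
  rw [Subgroup.mem_bot]
  apply FaithfulSMul.eq_of_smul_eq_smul (α := Ω)
  intro ω
  have hω : ω ∈ MulAction.fixedPoints M Ω := by rw [h]; trivial
  have := hω ⟨m, hm⟩
  rw [one_smul]
  exact this

/-- In a faithful action, if an abelian subgroup `M` is pretransitive then point stabilizers in
`M` are trivial. -/
theorem stabilizer_eq_bot_of_abelian {G : Type*} [Group G] {Ω : Type*} [MulAction G Ω]
    [FaithfulSMul G Ω] (M : Subgroup G) (hMc : M ≤ Subgroup.centralizer (M : Set G))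
    (htr : MulAction.IsPretransitive M Ω) (ω : Ω) : MulAction.stabilizer M ω = ⊥ := by
  rw [eq_bot_iff]
  intro m hm
  rw [Subgroup.mem_bot]
  apply Subtype.ext
  apply FaithfulSMul.eq_of_smul_eq_smul (α := Ω)
  intro ω'
  obtain ⟨n, hn⟩ := htr.exists_smul_eq ω ω'
  have hm' : (m : G) • ω = ω := hm
  have hn' : (n : G) • ω = ω' := hn
  have hcomm : (m : G) * (n : G) = (n : G) * (m : G) := (hMc m.2 n n.2).symm
  rw [Subgroup.coe_one, one_smul, ← hn', ← mul_smul, hcomm, mul_smul, hm']

/-- Let a finite solvable group G act faithfully and primitively on a set, and let M be a minimal normal subgroup of G. Then M is transitive with trivial point stabilizers, and the number of points equals the order of M, which is a prime power p ^ d with d ≥ 1. -/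
theorem result {G : Type*} [Group G] [Finite G] [Group.IsSolvable G] {Ω : Type*} [Nonempty Ω] [MulAction G Ω] [FaithfulSMul G Ω] (hprim : MulAction.IsPreprimitive G Ω) (M : Subgroup G) [M.Normal] (hM : M ≠ ⊥) (hmin : ∀ K : Subgroup G, K.Normal → K ≤ M → K = ⊥ ∨ K = M) : MulAction.IsPretransitive M Ω ∧ (∀ ω : Ω, MulAction.stabilizer M ω = ⊥) ∧ ∃ p d : ℕ, p.Prime ∧ 0 < d ∧ Nat.card Ω = p ^ d ∧ Nat.card M = p ^ d := by
  classical
  obtain ⟨hMc, p, hp, hMp⟩ := S0551.minimal_normal_solvable M hM hmin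
  have htr := isPretransitive_of_normal hprim M hM
  have hstab := stabilizer_eq_bot_of_abelian M hMc htr
  refine ⟨htr, hstab, ?_⟩
  have : Fact p.Prime := ⟨hp⟩
  obtain ⟨d, hd⟩ := (IsPGroup.iff_card).mp hMp
  have hdpos : 0 < d := by
    rcases Nat.eq_zero_or_pos d with h0 | h0
    · exfalso
      rw [h0, pow_zero] at hd
      exact hM (Subgroup.card_eq_one.mp hd)
    · exact h0
  refine ⟨p, d, hp, hdpos, ?_, hd⟩
  rw [← hd]
  obtain ⟨ω₀⟩ := ‹Nonempty Ω›
  symm
  apply Nat.card_eq_of_bijective (fun m : M => m • ω₀)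
  constructor
  · intro m n hmn
    have h1 : (n⁻¹ * m) • ω₀ = ω₀ := by
      rw [mul_smul]
      show n⁻¹ • (m • ω₀) = ω₀
      have hmn' : m • ω₀ = n • ω₀ := hmn
      rw [hmn', inv_smul_smul]
    have h2 : n⁻¹ * m ∈ MulAction.stabilizer M ω₀ := h1
    rw [hstab ω₀, Subgroup.mem_bot] at h2
    have : m = n * (n⁻¹ * m) := by group
    rw [this, h2, mul_one]
  · intro ω
    exact htr.exists_smul_eq ω₀ ω

end Cfsg.Agent.S0547
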