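import Cfsg.Statements.S0735
-- import your own Cfsg.Agent.* helpers here

set_option autoImplicit false
open Cfsg

namespace Cfsg.Agent.S0735


open scoped Pointwise

open MulAction in
/-- In a 2-homogeneous action, any 2-set can be moved to any 2-set. -/
theorem pair_smul {G : Type*} [Group G] {α : Type*} [MulAction G α] [DecidableEq α]
    (h2 : IsPretransitive G (Set.powersetCard α 2)) {a b c d : α} (hab : a ≠ b) (hcd : c ≠ d) :
    ∃ g : G, (g • a = c ∧ g • b = d) ∨ (g • a = d ∧ g • b = c) := by
  obtain ⟨g, hg⟩ := exists_smul_eq G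
    (⟨{a, b}, by simp [Finset.card_pair hab]⟩ : Set.powersetCard α 2)
    (⟨{c, d}, by simp [Finset.card_pair hcd]⟩ : Set.powersetCard α 2)
  have h := congrArg Subtype.val hg
  rw [Set.powersetCard.coe_smul] at h
  simp only [Finset.smul_finset_insert, Finset.smul_finset_singleton] at h
  have h1 : g • a ∈ ({c, d} : Finset α) := by rw [← h]; simp
  have h2 : g • b ∈ ({c, d} : Finset α) := by rw [← h]; simp
  have hne : g • a ≠ g • b := fun e => hab (smul_left_cancel g e)
  simp only [Finset.mem_insert, Finset.mem_singleton] at h1 h2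
  refine ⟨g, ?_⟩
  rcases h1 with h1 | h1 <;> rcases h2 with h2 | h2
  · exact absurd (h1.trans h2.symm) hne
  · exact Or.inl ⟨h1, h2⟩
  · exact Or.inr ⟨h1, h2⟩
  · exact absurd (h1.trans h2.symm) hne

open MulAction in
theorem exists_third {α : Type*} [Fintype α] [DecidableEq α] (hα : 3 ≤ Fintype.card α) (a b : α) :
    ∃ c : α, c ≠ a ∧ c ≠ b := by
  by_contra hne
  push Not at hne
  have hsub : (Finset.univ : Finset α) ⊆ {a, b} := by
    intro c _
    by_cases hca : c = a
    · simp [hca]
    · simp [hne c hca]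
  have := Finset.card_le_card hsub
  have h2 : ({a, b} : Finset α).card ≤ 2 := Finset.card_le_two
  rw [Finset.card_univ] at this
  omega

open MulAction in
theorem pretransitive_of_two_homog {G : Type*} [Group G] {α : Type*} [MulAction G α] [Fintype α]
    [DecidableEq α] (h2 : IsPretransitive G (Set.powersetCard α 2)) (hα : 3 ≤ Fintype.card α) :
    IsPretransitive G α := by
  constructor
  intro a b
  by_cases hab : a = b
  · exact ⟨1, by rw [one_smul, hab]⟩
  obtain ⟨c, hca, hcb⟩ := exists_third hα a b
  obtain ⟨g, hg | hg⟩ := pair_smul h2 (Ne.symm hca) (Ne.symm hcb)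
  · exact ⟨g, hg.1⟩
  · exact ⟨g * g, by rw [mul_smul, hg.1, hg.2]⟩

open MulAction in
theorem preprimitive_of_two_homog {G : Type*} [Group G] {α : Type*} [MulAction G α] [Fintype α]
    [DecidableEq α] (h2 : IsPretransitive G (Set.powersetCard α 2)) (hα : 3 ≤ Fintype.card α) :
    IsPreprimitive G α := by
  have := pretransitive_of_two_homog h2 hα
  constructor
  intro B hB
  by_cases hsub : B.Subsingleton
  · exact Or.inl hsub
  right
  rw [Set.not_subsingleton_iff] at hsub
  obtain ⟨a, ha, b, hb, hab⟩ := hsub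
  rw [Set.eq_univ_iff_forall]
  intro c
  by_contra hc
  have hac : a ≠ c := fun h => hc (h ▸ ha)
  obtain ⟨g, hg⟩ := pair_smul h2 hab hac
  have hga : a ∈ g • B := by
    rcases hg with hg | hg
    · rw [← hg.1]; exact Set.smul_mem_smul_set ha
    · rw [← hg.2]; exact Set.smul_mem_smul_set hb
  have hgc : c ∈ g • B := by
    rcases hg with hg | hg
    · rw [← hg.2]; exact Set.smul_mem_smul_set hb
    · rw [← hg.1]; exact Set.smul_mem_smul_set ha
  have heq : g • B = B := by
    rcases hB.smul_eq_or_disjoint g with h | h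
    · exact h
    · exact absurd ha (Set.disjoint_left.mp h hga)
  rw [heq] at hgc
  exact hc hgc

/-- A 2-homogeneous permutation group (transitive on 2-subsets) of even order is doubly transitive; a non-trivial 2-homogeneous group is primitive. -/
theorem result {α : Type*} [Fintype α] [DecidableEq α] (G : Subgroup (Equiv.Perm α)) (h2 : MulAction.IsPretransitive G (Set.powersetCard α 2)) (hα : 3 ≤ Fintype.card α) : (Even (Nat.card G) → MulAction.IsMultiplyPretransitive G α 2) ∧ (G ≠ ⊥ → MulAction.IsPreprimitive G α) := by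
  refine ⟨fun heven => ?_, fun _ => preprimitive_of_two_homog h2 hα⟩
  rw [MulAction.is_two_pretransitive_iff]
  -- an involution in G
  have : Fact (Nat.Prime 2) := ⟨Nat.prime_two⟩
  obtain ⟨t, ht⟩ := exists_prime_orderOf_dvd_card' (G := G) 2 heven.two_dvd
  have ht2 : t * t = 1 := by rw [← sq, ← ht]; exact pow_orderOf_eq_one t
  have ht1 : t ≠ 1 := by
    intro h1; rw [h1, orderOf_one] at ht; omega
  -- t moves some point
  obtain ⟨a, ha⟩ : ∃ a : α, t • a ≠ a := by
    by_contra hall
    push Not at hall
    apply ht1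
    apply Subtype.ext
    ext x
    exact hall x
  have hswap : t • (t • a) = a := by rw [← mul_smul, ht2, one_smul]
  -- from the pair (a, t a) we can reach every ordered pair
  have key : ∀ {c d : α}, c ≠ d → ∃ g : G, g • a = c ∧ g • (t • a) = d := by
    intro c d hcd
    obtain ⟨g, hg | hg⟩ := pair_smul h2 (Ne.symm ha) hcd
    · exact ⟨g, hg⟩
    · exact ⟨g * t, by rw [mul_smul, hg.2], by rw [mul_smul, hswap, hg.1]⟩
  intro a' b' c d hab hcd
  obtain ⟨g1, hg1a, hg1b⟩ := key hab
  obtain ⟨g2, hg2a, hg2b⟩ := key hcd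
  refine ⟨g2 * g1⁻¹, ?_, ?_⟩
  · rw [mul_smul, ← hg1a, inv_smul_smul, hg2a]
  · rw [mul_smul, ← hg1b, inv_smul_smul, hg2b]


end Cfsg.Agent.S0735
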