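import Cfsg.Statements.S0780
import Mathlib
import Cfsg.Agent.S0837
import Cfsg.Agent.S0781
import Cfsg.Agent.S2644
import Cfsg.Agent.Lib.Helper13.Herm
import Cfsg.Agent.Lib.Helper37.UnitaryGen

set_option autoImplicit false
open Cfsg

namespace Cfsg.Agent.S0780

open Matrix Module Cfsg.Agent.S0837 Cfsg.Agent.S0781 Cfsg.Agent.S2644 Cfsg.Agent.Lib.Helper37

/-- for `q ≥ 3` some non-zero element of the field of order `q²` has norm different from `1`. -/
theorem exists_norm_ne_one {F : Type*} [Field F] [Fintype F] {q : ℕ} (hF : Fintype.card F = q ^ 2)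
    (hq : 3 ≤ q) (σ : F →+* F) (hσ : ∀ x, σ x = x ^ q) : ∃ l : F, l ≠ 0 ∧ l * σ l ≠ 1 := by
  classical
  obtain ⟨ζ, hζ⟩ := IsCyclic.exists_generator (α := Fˣ)
  have hord : orderOf ζ = q ^ 2 - 1 := by
    rw [orderOf_eq_card_of_forall_mem_zpowers hζ, Nat.card_eq_fintype_card, Fintype.card_units, hF]
  refine ⟨(ζ : F), ζ.ne_zero, ?_⟩
  intro h1
  rw [hσ, ← pow_succ'] at h1
  have h2 : ζ ^ (q + 1) = 1 := by
    apply Units.ext
    rw [Units.val_pow_eq_pow_val, Units.val_one]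
    exact h1
  have h3 := orderOf_dvd_of_pow_eq_one h2
  rw [hord] at h3
  have h4 := Nat.le_of_dvd (by omega) h3
  have h5 : q ^ 2 = q * q := sq q
  have h6 : 3 * q ≤ q * q := Nat.mul_le_mul_right q hq
  omega

/-- Generation of SU_n(q), n ≥ 3, (n, q) ≠ (3, 2), by unitary transvections: the subgroup generated by the elements whose matrix is x ↦ x + c h(x, v) v with v isotropic is all of SU_n(q). -/
theorem result {F : Type*} [Field F] [Fintype F] {q : ℕ} (hF : Fintype.card F = q ^ 2) (n : ℕ) (hn : 3 ≤ n) (h32 : ¬ (n = 3 ∧ q = 2)) : Subgroup.closure {A : ↥(Cfsg.SU n F q) | ∃ (v : Fin n → F) (c : F), Cfsg.hermForm n F q v v = 0 ∧ ((A : Matrix.SpecialLinearGroup (Fin n) F) : Matrix (Fin n) (Fin n) F) = Cfsg.unitaryTransvection n q v c} = ⊤ := by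
  obtain ⟨σ, hσ, hσ2⟩ := Cfsg.Agent.Lib.Helper13.exists_frob hF
  have hne := frob_ne_id σ hF hσ
  have hq2 : 2 ≤ q := Cfsg.Agent.Lib.Helper13.two_le_of_card_eq_sq hF
  have hcond : n = 3 → ∃ l : F, l ≠ 0 ∧ l * σ l ≠ 1 := by
    intro h3
    have hq3 : 3 ≤ q := by
      by_contra hlt
      exact h32 ⟨h3, by omega⟩
    exact exists_norm_ne_one hF hq3 σ hσ
  set S : Set ↥(Cfsg.SU n F q) := {A : ↥(Cfsg.SU n F q) | ∃ (v : Fin n → F) (c : F),
    Cfsg.hermForm n F q v v = 0 ∧ ((A : Matrix.SpecialLinearGroup (Fin n) F) :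
      Matrix (Fin n) (Fin n) F) = Cfsg.unitaryTransvection n q v c} with hS
  set ι : ↥(Cfsg.SU n F q) →* GL (Fin n) F :=
    Matrix.SpecialLinearGroup.toGL.comp (Cfsg.SU n F q).subtype with hι
  have hιc : ∀ A : ↥(Cfsg.SU n F q), ((ι A : GL (Fin n) F) : Matrix (Fin n) (Fin n) F) =
      ((A : Matrix.SpecialLinearGroup (Fin n) F) : Matrix (Fin n) (Fin n) F) := fun A => rfl
  have hιinj : Function.Injective ι := by
    intro A B hAB
    apply Subtype.ext
    apply Subtype.ext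
    have := congrArg (fun g : GL (Fin n) F => (g : Matrix (Fin n) (Fin n) F)) hAB
    simpa only [hιc] using this
  have hιU : ∀ A : ↥(Cfsg.SU n F q), ι A ∈ UG σ n := by
    intro A x y
    rw [hιc, ← hermForm_eq_hf σ hσ, ← hermForm_eq_hf σ hσ]
    exact A.2 x y
  have hιdet : ∀ A : ↥(Cfsg.SU n F q),
      ((ι A : GL (Fin n) F) : Matrix (Fin n) (Fin n) F).det = 1 := by
    intro A
    rw [hιc]
    exact (A : Matrix.SpecialLinearGroup (Fin n) F).2
  have hle : TG σ n ≤ (Subgroup.closure S).map ι := by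
    unfold TG
    rw [Subgroup.closure_le]
    rintro g ⟨z, c, hz, hc, hg⟩
    have hdet : (tv σ z c).det = 1 := by rw [tv_det, hz, mul_zero, add_zero]
    have hmem : (⟨tv σ z c, hdet⟩ : Matrix.SpecialLinearGroup (Fin n) F) ∈ Cfsg.SU n F q := by
      intro x y
      rw [hermForm_eq_hf σ hσ, hermForm_eq_hf σ hσ]
      show hf σ (tv σ z c *ᵥ x) (tv σ z c *ᵥ y) = hf σ x y
      rw [hf_tv σ hσ2, hc, hz]
      ring
    refine ⟨⟨_, hmem⟩, Subgroup.subset_closure ⟨z, c, ?_, ?_⟩, ?_⟩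
    · rw [hermForm_eq_hf σ hσ]; exact hz
    · show tv σ z c = Cfsg.unitaryTransvection n q z c
      rw [unitaryTransvection_eq_sieg σ hσ]
      rfl
    · apply Units.ext
      rw [hιc, hg]
  rw [eq_top_iff]
  intro A _
  have h1 : ι A ∈ TG σ n := su_gen σ hne hσ2 n (by omega) hcond (ι A) (hιU A) (hιdet A)
  obtain ⟨B, hB, hBA⟩ := hle h1
  rw [← hιinj hBA]
  exact hB

end Cfsg.Agent.S0780
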