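import Cfsg.Statements.S0514
import Mathlib
import Cfsg.Agent.S0071
import Cfsg.Agent.Lib.Helper91.MaxClass2
-- import your own Cfsg.Agent.* helpers here

set_option autoImplicit false
open Cfsg

namespace Cfsg.Agent.S0514

/-- The rotation subgroup of the dihedral group. -/
def rot (n : ℕ) : Subgroup (DihedralGroup n) where
  carrier := {x | ∃ i, x = DihedralGroup.r i}
  mul_mem' := by
    rintro _ _ ⟨i, rfl⟩ ⟨j, rfl⟩
    exact ⟨i + j, DihedralGroup.r_mul_r i j⟩
  one_mem' := ⟨0, DihedralGroup.one_def⟩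
  inv_mem' := by
    rintro _ ⟨i, rfl⟩
    exact ⟨-i, DihedralGroup.inv_r i⟩

theorem mem_rot {n : ℕ} (x : DihedralGroup n) : x ∈ rot n ↔ ∃ i, x = DihedralGroup.r i := Iff.rfl

theorem rot_cyclic (n : ℕ) [NeZero n] : IsCyclic (rot n) := by
  refine ⟨⟨⟨DihedralGroup.r 1, ⟨1, rfl⟩⟩, fun x => ?_⟩⟩
  obtain ⟨x, ⟨i, rfl⟩⟩ := x
  refine ⟨(ZMod.cast i : ℤ), ?_⟩
  apply Subtype.ext
  simp only [Subgroup.coe_zpow]
  rw [DihedralGroup.r_one_zpow, ZMod.intCast_zmod_cast]

theorem not_rot_sq {n : ℕ} (x : DihedralGroup n) (hx : x ∉ rot n) : x * x = 1 := by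
  cases x with
  | r i => exact absurd ⟨i, rfl⟩ hx
  | sr i => exact DihedralGroup.sr_mul_self i

theorem not_rot_mul {n : ℕ} (x y : DihedralGroup n) (hx : x ∉ rot n) (hy : y ∉ rot n) :
    x * y ∈ rot n := by
  cases x with
  | r i => exact absurd ⟨i, rfl⟩ hx
  | sr i =>
    cases y with
    | r j => exact absurd ⟨j, rfl⟩ hy
    | sr j => exact ⟨j - i, DihedralGroup.sr_mul_sr i j⟩

section Lemmas

variable {X : Type*} [Group X]

/-- Index-two step: an odd-order element normalizing a 2-group `H` and centralizing a subgroup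
`K` "of index two" centralizes `H`. -/
theorem lemmaB (g : X) (m : ℕ) (hm : Odd m) (hgm : g ^ m = 1) (H K : Subgroup X) (hKH : K ≤ H)
    (hhalf : ∀ a ∈ H, ∀ b ∈ H, a ∉ K → b ∉ K → a * b ∈ K)
    (hH2 : ∀ h ∈ H, ∃ e : ℕ, h ^ (2 ^ e) = 1)
    (hgH : ∀ h ∈ H, g * h * g⁻¹ ∈ H) (hgK : ∀ k ∈ K, g * k * g⁻¹ = k) :
    ∀ h ∈ H, g * h * g⁻¹ = h := by
  intro s hs
  by_cases hsK : s ∈ K
  · exact hgK s hsK
  have h1 : g * s * g⁻¹ ∉ K := by
    intro hk
    have h2 := hgK _ hk
    have h3 : g * s * g⁻¹ = s := by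
      have e1 : g * s * g⁻¹ = g⁻¹ * (g * (g * s * g⁻¹) * g⁻¹) * g := by group
      rw [e1, h2]; group
    rw [h3] at hk
    exact hsK hk
  have hsinv : s⁻¹ ∉ K := fun h => hsK (by simpa using K.inv_mem h)
  obtain ⟨d, hddef⟩ : ∃ d, d = s⁻¹ * (g * s * g⁻¹) := ⟨_, rfl⟩
  have hd : d ∈ K := by
    rw [hddef]; exact hhalf _ (H.inv_mem hs) _ (hgH s hs) hsinv h1
  have hgd : g * d * g⁻¹ = d := hgK _ hd
  have hsd : g * s * g⁻¹ = s * d := by rw [hddef]; group
  have hpow : ∀ k : ℕ, g ^ k * s * (g ^ k)⁻¹ = s * d ^ k := by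
    intro k
    induction k with
    | zero => simp
    | succ k ih =>
      have e1 : g ^ (k + 1) * s * (g ^ (k + 1))⁻¹ = g * (g ^ k * s * (g ^ k)⁻¹) * g⁻¹ := by
        rw [pow_succ']; group
      rw [e1, ih]
      have e2 : g * (s * d ^ k) * g⁻¹ = (g * s * g⁻¹) * (g * d * g⁻¹) ^ k := by
        rw [conj_pow]; group
      rw [e2, hgd, hsd, pow_succ', mul_assoc]
  have hdm : d ^ m = 1 := by
    have := hpow m
    rw [hgm] at this
    simpa using this.symm
  obtain ⟨e, he⟩ := hH2 _ (hKH hd)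
  have ho1 : orderOf d ∣ m := orderOf_dvd_of_pow_eq_one hdm
  have ho2 : orderOf d ∣ 2 ^ e := orderOf_dvd_of_pow_eq_one he
  have hcop : Nat.Coprime m (2 ^ e) := Nat.Coprime.pow_right _ hm.coprime_two_right
  have ho : orderOf d = 1 := Nat.eq_one_of_dvd_coprimes hcop ho1 ho2
  rw [orderOf_eq_one_iff] at ho
  rw [hsd, ho, mul_one]

/-- An odd-order element normalizing a cyclic 2-group centralizes it. -/
theorem lemmaD (g : X) (m : ℕ) (hm : Odd m) (hgm : g ^ m = 1) :
    ∀ (b : ℕ) (c : X), orderOf c = 2 ^ b → g * c * g⁻¹ ∈ Subgroup.zpowers c → g * c * g⁻¹ = c := by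
  intro b
  induction b with
  | zero =>
    intro c hc _
    rw [pow_zero, orderOf_eq_one_iff] at hc
    rw [hc]; group
  | succ b ih =>
    intro c hc hgc
    obtain ⟨u, hu⟩ := hgc
    simp only at hu
    have hc2 : orderOf (c ^ 2) = 2 ^ b := by
      rw [orderOf_pow' c two_ne_zero, hc, Nat.gcd_eq_right (dvd_pow_self 2 (Nat.succ_ne_zero b)),
        pow_succ, Nat.mul_div_cancel _ (by norm_num)]
    have hgc2 : g * c ^ 2 * g⁻¹ ∈ Subgroup.zpowers (c ^ 2) := by
      refine ⟨u, ?_⟩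
      simp only
      rw [← conj_pow, ← hu, ← zpow_natCast, ← zpow_natCast, ← zpow_mul, ← zpow_mul, mul_comm]
    have ih' := ih (c ^ 2) hc2 hgc2
    refine lemmaB g m hm hgm (Subgroup.zpowers c) (Subgroup.zpowers (c ^ 2))
      (Subgroup.zpowers_le.mpr (Subgroup.pow_mem _ (Subgroup.mem_zpowers c) 2)) ?_ ?_ ?_ ?_ c
      (Subgroup.mem_zpowers c)
    · rintro _ ⟨i, rfl⟩ _ ⟨j, rfl⟩ hi hj
      have hodd : ∀ k : ℤ, c ^ k ∉ Subgroup.zpowers (c ^ 2) → Odd k := by
        intro k hk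
        by_contra hne
        rw [Int.not_odd_iff_even] at hne
        obtain ⟨l, hl⟩ := hne
        apply hk
        refine ⟨l, ?_⟩
        simp only
        rw [hl, ← zpow_natCast, ← zpow_mul]
        congr 1; push_cast; ring
      obtain ⟨k, hk⟩ := hodd i hi
      obtain ⟨l, hl⟩ := hodd j hj
      refine ⟨k + l + 1, ?_⟩
      simp only
      rw [← zpow_add, hk, hl, ← zpow_natCast, ← zpow_mul]
      congr 1; push_cast; ring
    · rintro _ ⟨i, rfl⟩
      refine ⟨b + 1, ?_⟩
      simp only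
      rw [← zpow_natCast, ← zpow_mul, mul_comm, zpow_mul, zpow_natCast, ← hc, pow_orderOf_eq_one,
        one_zpow]
    · rintro _ ⟨i, rfl⟩
      simp only
      rw [← conj_zpow, ← hu, ← zpow_mul]
      exact Subgroup.zpow_mem_zpowers c _
    · rintro _ ⟨i, rfl⟩
      simp only
      rw [← conj_zpow, ih']

end Lemmas

section Main

variable {X : Type*} [Group X]

theorem sq_zpow_of_sq {c : X} (hc : c * c = 1) (k : ℤ) : c ^ k * c ^ k = 1 := by
  rw [← (Commute.refl c).mul_zpow, hc, one_zpow]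

/-- Key: an odd-order element fixing an involution `t` of a subgroup `Q₁` of a dihedral Sylow
2-subgroup and normalizing `Q₁` centralizes `Q₁`. -/
theorem key [Finite X] (P : Sylow 2 X) (n : ℕ) [NeZero n]
    (e : (P : Subgroup X) ≃* DihedralGroup n)
    (Q₁ : Subgroup X) (hQP : Q₁ ≤ (P : Subgroup X)) (t g : X) (ht : orderOf t = 2) (htQ : t ∈ Q₁)
    (hgt : g * t * g⁻¹ = t) (m : ℕ) (hm : Odd m) (hgm : g ^ m = 1)
    (hgQ : ∀ q ∈ Q₁, g * q * g⁻¹ ∈ Q₁) : ∀ q ∈ Q₁, g * q * g⁻¹ = q := by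
  have hf2 : Fact (Nat.Prime 2) := ⟨Nat.prime_two⟩
  have htsq : t ^ 2 = 1 := by rw [← ht]; exact pow_orderOf_eq_one t
  have htt : t * t = 1 := by rw [← sq]; exact htsq
  have ht1 : t ≠ 1 := by
    intro h; rw [h, orderOf_one] at ht; omega
  -- the embedding into the dihedral group
  set ψ : Q₁ →* DihedralGroup n := e.toMonoidHom.comp (Subgroup.inclusion hQP) with hψ
  have hψinj : Function.Injective ψ := by
    rw [hψ]
    exact e.injective.comp (Subgroup.inclusion_injective hQP)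
  set R : Subgroup Q₁ := (rot n).comap ψ with hR
  set R₀ : Subgroup X := R.map Q₁.subtype with hR₀
  have hR₀Q : R₀ ≤ Q₁ := Subgroup.map_subtype_le R
  have hmem : ∀ (x : X) (hx : x ∈ Q₁), x ∈ R₀ ↔ ψ ⟨x, hx⟩ ∈ rot n := by
    intro x hx
    constructor
    · rintro ⟨y, hy, hyx⟩
      have : y = ⟨x, hx⟩ := Subtype.ext hyx
      rw [← this]; exact hy
    · intro h
      exact ⟨⟨x, hx⟩, h, rfl⟩
  -- Q₁ is a 2-group
  have hQ2 : ∀ h ∈ Q₁, ∃ k : ℕ, h ^ (2 ^ k) = 1 := by
    intro h hh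
    obtain ⟨k, hk⟩ := P.isPGroup' ⟨h, hQP hh⟩
    exact ⟨k, by simpa using congrArg Subtype.val hk⟩
  have hsq : ∀ q ∈ Q₁, q ∉ R₀ → q * q = 1 := by
    intro q hq hqR
    rw [hmem q hq] at hqR
    have h1 := not_rot_sq _ hqR
    rw [← map_mul, ← map_one ψ] at h1
    have h2 := hψinj h1
    exact congrArg Subtype.val h2
  have hhalf : ∀ a ∈ Q₁, ∀ b ∈ Q₁, a ∉ R₀ → b ∉ R₀ → a * b ∈ R₀ := by
    intro a ha b hb haR hbR
    rw [hmem a ha] at haR
    rw [hmem b hb] at hbR
    rw [hmem (a * b) (Q₁.mul_mem ha hb)]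
    have := not_rot_mul _ _ haR hbR
    rw [← map_mul] at this
    exact this
  -- R is cyclic
  have hRcyc : IsCyclic R := by
    have := rot_cyclic n
    let φ : R →* rot n := (ψ.comp R.subtype).codRestrict (rot n) (fun y => y.2)
    have hφ : Function.Injective φ := by
      intro a b hab
      have h1 : ψ (a : Q₁) = ψ (b : Q₁) := congrArg Subtype.val hab
      exact Subtype.ext (hψinj h1)
    exact isCyclic_of_injective φ hφ
  obtain ⟨c₀, hc₀⟩ := hRcyc.exists_generator
  have hcQ : ((c₀ : Q₁) : X) ∈ Q₁ := (c₀ : Q₁).2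
  have hcR₀ : ((c₀ : Q₁) : X) ∈ R₀ := ⟨(c₀ : Q₁), c₀.2, rfl⟩
  have hR₀eq : ∀ x, x ∈ R₀ ↔ ∃ k : ℤ, ((c₀ : Q₁) : X) ^ k = x := by
    intro x
    constructor
    · rintro ⟨y, hy, rfl⟩
      obtain ⟨k, hk⟩ := hc₀ ⟨y, hy⟩
      refine ⟨k, ?_⟩
      have := congrArg (fun z : R => ((z : Q₁) : X)) hk
      simpa using this
    · rintro ⟨k, rfl⟩
      exact R₀.zpow_mem hcR₀ k
  obtain ⟨k₀, hk₀⟩ := hQ2 _ hcQ
  obtain ⟨b, -, hb⟩ := (Nat.dvd_prime_pow Nat.prime_two).mp (orderOf_dvd_of_pow_eq_one hk₀)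
  by_cases hbig : ∃ q ∈ R₀, q * q ≠ 1
  · -- R₀ has an element of order > 2
    have hcc : ((c₀ : Q₁) : X) * ((c₀ : Q₁) : X) ≠ 1 := by
      intro h
      obtain ⟨q, hq, hqq⟩ := hbig
      obtain ⟨k, rfl⟩ := (hR₀eq q).mp hq
      exact hqq (sq_zpow_of_sq h k)
    have hgc : g * ((c₀ : Q₁) : X) * g⁻¹ ∈ R₀ := by
      by_contra hne
      have h1 := hsq _ (hgQ _ hcQ) hne
      apply hcc
      have : ((c₀ : Q₁) : X) * ((c₀ : Q₁) : X)
          = g⁻¹ * ((g * ((c₀ : Q₁) : X) * g⁻¹) * (g * ((c₀ : Q₁) : X) * g⁻¹)) * g := by group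
      rw [this, h1]; group
    have hgc' : g * ((c₀ : Q₁) : X) * g⁻¹ ∈ Subgroup.zpowers ((c₀ : Q₁) : X) := by
      obtain ⟨k, hk⟩ := (hR₀eq _).mp hgc
      exact ⟨k, hk⟩
    have hfix := lemmaD g m hm hgm b _ hb hgc'
    refine lemmaB g m hm hgm Q₁ R₀ hR₀Q hhalf hQ2 hgQ ?_
    intro k hk
    obtain ⟨i, rfl⟩ := (hR₀eq k).mp hk
    rw [← conj_zpow, hfix]
  · -- exponent two
    rw [not_exists] at hbig
    have hall : ∀ q ∈ Q₁, q * q = 1 := by
      intro q hq
      by_cases hqR : q ∈ R₀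
      · by_contra hne
        exact hbig q ⟨hqR, hne⟩
      · exact hsq q hq hqR
    have hcomm : ∀ a ∈ Q₁, ∀ b ∈ Q₁, a * b = b * a := by
      intro a ha b hb
      have h1 := hall a ha
      have h2 := hall b hb
      have h3 := hall (a * b) (Q₁.mul_mem ha hb)
      have : a * b = a * (a * b * (a * b)) * b := by rw [h3, mul_one]
      have e2 : a * (a * b * (a * b)) * b = (a * a) * (b * a) * (b * b) := by group
      rw [this, e2, h1, h2, one_mul, mul_one]
    have hcc : ((c₀ : Q₁) : X) * ((c₀ : Q₁) : X) = 1 := hall _ hcQ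
    have hR₀two : ∀ x ∈ R₀, x = 1 ∨ x = ((c₀ : Q₁) : X) := by
      intro x hx
      obtain ⟨k, rfl⟩ := (hR₀eq x).mp hx
      exact Cfsg.Agent.Lib.Helper91.zpow_eq_one_or_self_of_sq (by rw [sq]; exact hcc) k
    have htmem : ∀ x, x ∈ Subgroup.zpowers t ↔ x = 1 ∨ x = t := by
      intro x
      constructor
      · rintro ⟨k, rfl⟩
        exact Cfsg.Agent.Lib.Helper91.zpow_eq_one_or_self_of_sq htsq k
      · rintro (rfl | rfl)
        · exact one_mem _
        · exact Subgroup.mem_zpowers _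
    have hhalf' : ∀ a ∈ Q₁, ∀ b ∈ Q₁, a ∉ Subgroup.zpowers t → b ∉ Subgroup.zpowers t →
        a * b ∈ Subgroup.zpowers t := by
      intro a ha b hb hat hbt
      rw [htmem] at hat hbt ⊢
      rw [not_or] at hat hbt
      by_cases htR : t ∈ R₀
      · -- zpowers t = R₀
        have htc : t = ((c₀ : Q₁) : X) := (hR₀two t htR).resolve_left ht1
        have haR : a ∉ R₀ := by
          intro h
          rcases hR₀two a h with h' | h'
          · exact hat.1 h'
          · exact hat.2 (h'.trans htc.symm)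
        have hbR : b ∉ R₀ := by
          intro h
          rcases hR₀two b h with h' | h'
          · exact hbt.1 h'
          · exact hbt.2 (h'.trans htc.symm)
        rcases hR₀two _ (hhalf a ha b hb haR hbR) with h' | h'
        · exact Or.inl h'
        · exact Or.inr (h'.trans htc.symm)
      · -- t ∉ R₀
        have hval : ∀ x ∈ Q₁, x ≠ 1 → x ≠ t →
            (x ∈ R₀ ∧ x = ((c₀ : Q₁) : X)) ∨ (x ∉ R₀ ∧ x * t = ((c₀ : Q₁) : X)) := by
          intro x hx hx1 hxt
          by_cases hxR : x ∈ R₀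
          · exact Or.inl ⟨hxR, (hR₀two x hxR).resolve_left hx1⟩
          · right
            refine ⟨hxR, ?_⟩
            refine (hR₀two _ (hhalf x hx t htQ hxR htR)).resolve_left ?_
            intro h
            apply hxt
            have : x = (x * t) * t := by rw [mul_assoc, htt, mul_one]
            rw [this, h, one_mul]
        rcases hval a ha hat.1 hat.2 with ⟨_, ha'⟩ | ⟨_, ha'⟩ <;>
          rcases hval b hb hbt.1 hbt.2 with ⟨_, hb'⟩ | ⟨_, hb'⟩
        · left; rw [ha', hb', hcc]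
        · right
          rw [ha', ← hb', hcomm b hb t htQ, mul_assoc, hall b hb, mul_one]
        · right
          rw [hb', ← ha', ← mul_assoc, hall a ha, one_mul]
        · left
          have : a = b := by
            have h1 : a * t = b * t := ha'.trans hb'.symm
            exact mul_right_cancel h1
          rw [this, hall b hb]
    refine lemmaB g m hm hgm Q₁ (Subgroup.zpowers t) (Subgroup.zpowers_le.mpr htQ) hhalf' hQ2 hgQ ?_
    intro k hk
    rcases (htmem k).mp hk with rfl | rfl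
    · group
    · exact hgt

end Main

/-- Auxiliary form for a subgroup `C` all of whose elements commute with `t`. -/
theorem result_aux {X : Type*} [Group X] [Finite X]
    (S : Sylow 2 X) (n : ℕ) (hn : 2 ≤ n) (e : (S : Subgroup X) ≃* DihedralGroup n) (t : X)
    (ht : orderOf t = 2) (C : Subgroup X) (htcomm : ∀ x ∈ C, x * t = t * x) :
    ∃ N : Subgroup C, N.Normal ∧ Odd (Nat.card N) ∧ ∃ k : ℕ, N.index = 2 ^ k := by
  have hf2 : Fact (Nat.Prime 2) := ⟨Nat.prime_two⟩
  have hne : NeZero n := ⟨by omega⟩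
  obtain ⟨PC⟩ : Nonempty (Sylow 2 C) := inferInstance
  have hcrit : ∃ N : Subgroup C, N.Normal ∧ N.IsComplement' (PC : Subgroup C) := by
    rw [Cfsg.Agent.S0071.result PC]
    intro Q hQP g hgN hgodd
    -- translate to X
    have hQ'C : Q.map C.subtype ≤ C := Subgroup.map_subtype_le Q
    have hgt : (g : X) * t * (g : X)⁻¹ = t := by
      rw [htcomm _ g.2, mul_assoc, mul_inv_cancel, mul_one]
    have hodd : Odd (orderOf (g : X)) := by
      rw [Subgroup.orderOf_coe]; exact Nat.Coprime.odd_of_right hgodd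
    -- g normalizes Q'
    have hgQ' : ∀ q ∈ Q.map C.subtype, (g : X) * q * (g : X)⁻¹ ∈ Q.map C.subtype := by
      rintro _ ⟨q, hq, rfl⟩
      have := (Subgroup.mem_normalizer_iff.mp hgN q).mp hq
      exact ⟨g * q * g⁻¹, this, by simp⟩
    -- the 2-group Q₁
    have hQ'2 : IsPGroup 2 (Q.map C.subtype) := by
      have h1 : IsPGroup 2 Q := PC.isPGroup'.to_le hQP
      exact h1.map C.subtype
    have ht2 : IsPGroup 2 (Subgroup.zpowers t) := by
      apply IsPGroup.of_card (n := 1)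
      rw [Nat.card_zpowers, ht, pow_one]
    have hQ'norm : Q.map C.subtype
        ≤ Subgroup.normalizer ((Subgroup.zpowers t : Subgroup X) : Set X) := by
      refine le_trans ?_ (Subgroup.centralizer_le_normalizer _)
      intro q hq
      rw [Subgroup.mem_centralizer_iff]
      rintro _ ⟨i, rfl⟩
      have : Commute t q := (htcomm q (hQ'C hq)).symm
      exact (this.zpow_left i).eq
    have hQ₁2 : IsPGroup 2 (Q.map C.subtype ⊔ Subgroup.zpowers t : Subgroup X) :=
      IsPGroup.to_sup_of_normal_right' hQ'2 ht2 hQ'norm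
    obtain ⟨P', hP'⟩ := hQ₁2.exists_le_sylow
    have e' : (P' : Subgroup X) ≃* DihedralGroup n := (P'.equiv S).trans e
    have hgQ₁ : ∀ q ∈ (Q.map C.subtype ⊔ Subgroup.zpowers t : Subgroup X),
        (g : X) * q * (g : X)⁻¹ ∈ (Q.map C.subtype ⊔ Subgroup.zpowers t : Subgroup X) := by
      have : (Q.map C.subtype ⊔ Subgroup.zpowers t : Subgroup X)
          ≤ (Q.map C.subtype ⊔ Subgroup.zpowers t : Subgroup X).comap
            (MulAut.conj (g : X)).toMonoidHom := by
        apply sup_le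
        · intro q hq
          rw [Subgroup.mem_comap]
          exact Subgroup.mem_sup_left (hgQ' q hq)
        · rw [Subgroup.zpowers_le, Subgroup.mem_comap]
          show (g : X) * t * (g : X)⁻¹ ∈ _
          rw [hgt]
          exact Subgroup.mem_sup_right (Subgroup.mem_zpowers t)
      intro q hq
      exact this hq
    have hkey := key P' n e' (Q.map C.subtype ⊔ Subgroup.zpowers t) hP' t (g : X) ht
      (Subgroup.mem_sup_right (Subgroup.mem_zpowers t)) hgt (orderOf (g : X)) hodd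
      (pow_orderOf_eq_one _) hgQ₁
    rw [Subgroup.mem_centralizer_iff]
    intro q hq
    apply Subtype.ext
    rw [Subgroup.coe_mul, Subgroup.coe_mul]
    have h1 := hkey (q : X) (Subgroup.mem_sup_left ⟨q, hq, rfl⟩)
    calc (q : X) * (g : X) = ((g : X) * (q : X) * (g : X)⁻¹) * (g : X) := by rw [h1]
      _ = (g : X) * (q : X) := by group
  obtain ⟨N, hN, hcompl⟩ := hcrit
  refine ⟨N, hN, ?_, ?_⟩
  · have h1 : (PC : Subgroup C).index = Nat.card N := hcompl.index_eq_card
    have h2 := PC.not_dvd_index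
    rw [h1] at h2
    rw [← Nat.not_even_iff_odd, even_iff_two_dvd]
    exact h2
  · refine ⟨(Nat.card C).factorization 2, ?_⟩
    rw [hcompl.symm.index_eq_card]
    exact PC.card_eq_multiplicity

/-- In a finite group whose Sylow 2-subgroups are dihedral of order at least 4, the centralizer of any involution has a
normal subgroup of odd order whose index in the centralizer is a power of 2. -/
theorem result {X : Type*} [Group X] [Finite X]
    (S : Sylow 2 X) (n : ℕ) (hn : 2 ≤ n) (hS : Nonempty ((S : Subgroup X) ≃* DihedralGroup n)) (t : X)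
    (ht : orderOf t = 2) :
    ∃ N : Subgroup (Subgroup.centralizer ({t} : Set X)), N.Normal ∧ Odd (Nat.card N) ∧ ∃ k : ℕ, N.index = 2 ^ k := by
  obtain ⟨e⟩ := hS
  exact result_aux S n hn e t ht _
    (fun x hx => ((Subgroup.mem_centralizer_iff.mp hx) t (Set.mem_singleton t)).symm)

end Cfsg.Agent.S0514
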