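import Cfsg.Statements.S0788
import Cfsg.Agent.Lib.Helper13.SpinorIndex
import Cfsg.Agent.S0789

set_option autoImplicit false
open Cfsg

namespace Cfsg.Agent.S0788

open Cfsg.Agent.Lib.Helper13

/-- Ω has index 4 in O for q odd: if F is finite of odd characteristic, n ≥ 2 and Q is a quadratic form on F^n with non-degenerate polar form, then the commutator subgroup of the isometry group of Q (the group Ω of our definitions) has index 4 in it. -/
theorem result {F : Type*} [Field F] [Fintype F] (h2 : (2 : F) ≠ 0) {n : ℕ} (hn : 2 ≤ n) (Q : QuadraticForm F (Fin n → F)) (hQ : (QuadraticMap.polarBilin Q).Nondegenerate) : (Cfsg.Omega F ⇑Q).index = 4 := by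
  classical
  have hF : (∀ a b : F, ∃ x : F, x ≠ a ∧ x ≠ b) ∨ Module.finrank F (Fin n → F) ≠ 4 :=
    Or.inl (exists_ne_ne_of_two_ne_zero h2)
  have e : ↥(Cfsg.isometryGroup F ⇑Q) ≃* ↥(isoGroup Q) :=
    ((Cfsg.Agent.S0786.glEquiv n F).subgroupMap (Cfsg.isometryGroup F ⇑Q)).trans
      (MulEquiv.subgroupCongr (Cfsg.Agent.S0789.map_glEquiv_isometryGroup Q))
  change (commutator ↥(Cfsg.isometryGroup F ⇑Q)).index = 4
  rw [Cfsg.Agent.S0789.commutator_index_congr e]
  exact (commutator_isoGroup_eq_ker Q hQ h2 (by rw [Module.finrank_fin_fun]; exact hn) hF).1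

end Cfsg.Agent.S0788
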