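import Mathlib
import Cfsg.Statements.S0799
import Cfsg.Agent.Lib.Helper42.PPrimeMain
import Cfsg.Agent.Lib.Helper41.DicksonSmall
import Cfsg.Agent.Lib.Helper41.DicksonGenericType
import Cfsg.Agent.Lib.Helper46.SL2

set_option autoImplicit false
open Cfsg

namespace Cfsg.Agent.S0799

open Cfsg.Agent.Lib.Helper41 Cfsg.Agent.Lib.Helper42 Cfsg.Agent.Lib.Helper11

/-- Dickson's list, for an abstract group `G` -/
def DList (F : Type*) [Field F] [Fintype F] (p : ℕ) [Fact p.Prime] (G : Type*) [Group G] : Prop :=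
  (∃ k : ℕ, (k ∣ (Fintype.card F + 1) / Nat.gcd 2 (Fintype.card F - 1) ∨
      k ∣ (Fintype.card F - 1) / Nat.gcd 2 (Fintype.card F - 1)) ∧
    ((IsCyclic G ∧ Nat.card G = k) ∨ Nonempty (G ≃* DihedralGroup k))) ∨
  (∃ (P : Sylow p (Matrix.ProjectiveSpecialLinearGroup (Fin 2) F))
    (K : Subgroup (Matrix.ProjectiveSpecialLinearGroup (Fin 2) F)),
    K ≤ Subgroup.normalizer ((P : Subgroup (Matrix.ProjectiveSpecialLinearGroup (Fin 2) F)) :
      Set (Matrix.ProjectiveSpecialLinearGroup (Fin 2) F)) ∧ Nonempty (G ≃* K)) ∨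
  Nonempty (G ≃* alternatingGroup (Fin 4)) ∨ Nonempty (G ≃* Equiv.Perm (Fin 4)) ∨
  Nonempty (G ≃* alternatingGroup (Fin 5)) ∨
  (∃ (K : Type) (_ : Field K) (_ : Fintype K) (m : ℕ), Fintype.card K ^ m = Fintype.card F ∧
    (Nonempty (G ≃* Matrix.ProjectiveSpecialLinearGroup (Fin 2) K) ∨
      Nonempty (G ≃* Matrix.ProjGenLinGroup (Fin 2) K)))

theorem DList.congr {F : Type*} [Field F] [Fintype F] {p : ℕ} [Fact p.Prime]
    {G G' : Type*} [Group G] [Group G'] (e : G ≃* G') (h : DList F p G') : DList F p G := by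
  rcases h with ⟨k, hk, h⟩ | ⟨P, K, hK, ⟨f⟩⟩ | ⟨⟨f⟩⟩ | ⟨⟨f⟩⟩ | ⟨⟨f⟩⟩ | ⟨K, i1, i2, m, hm, h⟩
  · refine Or.inl ⟨k, hk, ?_⟩
    rcases h with ⟨hc, hcard⟩ | ⟨⟨f⟩⟩
    · left
      refine ⟨?_, by rw [Nat.card_congr e.toEquiv, hcard]⟩
      exact isCyclic_of_surjective e.symm e.symm.surjective
    · exact Or.inr ⟨e.trans f⟩
  · exact Or.inr (Or.inl ⟨P, K, hK, ⟨e.trans f⟩⟩)
  · exact Or.inr (Or.inr (Or.inl ⟨e.trans f⟩))
  · exact Or.inr (Or.inr (Or.inr (Or.inl ⟨e.trans f⟩)))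
  · exact Or.inr (Or.inr (Or.inr (Or.inr (Or.inl ⟨e.trans f⟩))))
  · refine Or.inr (Or.inr (Or.inr (Or.inr (Or.inr ⟨K, i1, i2, m, hm, ?_⟩))))
    rcases h with ⟨⟨f⟩⟩ | ⟨⟨f⟩⟩
    · exact Or.inl ⟨e.trans f⟩
    · exact Or.inr ⟨e.trans f⟩

variable {F : Type*} [Field F] [Fintype F]

local notation "SL2" => Matrix.SpecialLinearGroup (Fin 2) F
local notation "PSL2" => Matrix.ProjectiveSpecialLinearGroup (Fin 2) F

/-- the case where the preimage of `H` contains a nontrivial upper unitriangular element -/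
theorem dlist_of_upperU (p : ℕ) [Fact p.Prime] [CharP F p] (H : Subgroup PSL2)
    {t₀ : F} (ht₀0 : t₀ ≠ 0) (ht₀ : upperU t₀ ∈ H.comap prj) : DList F p H := by
  set Ht : Subgroup SL2 := H.comap prj with hHt
  have hmap : Ht.map prj = H := Subgroup.map_comap_eq_self_of_surjective prj_surjective H
  have hZ : Subgroup.center SL2 ≤ Ht := by
    intro z hz
    show prj z ∈ H
    rw [prj_eq_one_iff.mpr hz]; exact H.one_mem
  by_cases hB : Ht ≤ borelSub F
  · obtain ⟨P, K, hK, ⟨e⟩⟩ := clause_b_of_le_borel p Ht hB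
    exact Or.inr (Or.inl ⟨P, K, hK, ⟨(MulEquiv.subgroupCongr hmap.symm).trans e⟩⟩)
  · by_cases hq : 4 ≤ Nat.card (uSet Ht)
    · obtain ⟨K, i1, i2, m, hm, h⟩ := psl_or_pgl_of_not_le_borel_type p Ht hZ hq hB
      refine Or.inr (Or.inr (Or.inr (Or.inr (Or.inr ⟨K, i1, i2, m, hm, ?_⟩))))
      rcases h with ⟨⟨e⟩⟩ | ⟨⟨e⟩⟩
      · exact Or.inl ⟨(MulEquiv.subgroupCongr hmap.symm).trans e⟩
      · exact Or.inr ⟨(MulEquiv.subgroupCongr hmap.symm).trans e⟩
    · rcases clause_ac_of_small p H ht₀0 ht₀ (not_le.mp hq) hB with h | h | h | h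
      · exact Or.inl h
      · exact Or.inr (Or.inr (Or.inl h))
      · exact Or.inr (Or.inr (Or.inr (Or.inl h)))
      · exact Or.inr (Or.inr (Or.inr (Or.inr (Or.inl h))))

theorem dlist (p : ℕ) [Fact p.Prime] [CharP F p] (H : Subgroup PSL2) : DList F p H := by
  classical
  by_cases hp : p ∣ Nat.card H
  · have hfin : Finite SL2 := finite_SL2
    set Ht : Subgroup SL2 := H.comap prj with hHt
    have hdvd : p ∣ Nat.card Ht := by
      refine dvd_trans hp ?_
      exact Subgroup.card_dvd_of_surjective (prj.subgroupComap H)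
        (MonoidHom.subgroupComap_surjective_of_surjective prj H prj_surjective)
    obtain ⟨x, hx⟩ := exists_prime_orderOf_dvd_card' p hdvd
    have hxord : orderOf (x : SL2) = p := by rw [Subgroup.orderOf_coe, hx]
    have hP : IsPGroup p (Subgroup.zpowers (x : SL2)) := by
      apply IsPGroup.of_card (n := 1)
      rw [Nat.card_zpowers, hxord, pow_one]
    obtain ⟨g, hg⟩ := Cfsg.Agent.Lib.Helper46.exists_conj_le_upperU (p := p) _ hP
    obtain ⟨t, ht⟩ := hg (x : SL2) (Subgroup.mem_zpowers _)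
    have ht' : g⁻¹ * (x : SL2) * g = upperU t := ht
    have ht0 : t ≠ 0 := by
      rintro rfl
      rw [upperU_zero] at ht'
      have hx1 : (x : SL2) = 1 := by
        calc (x : SL2) = g * (g⁻¹ * (x : SL2) * g) * g⁻¹ := by group
          _ = 1 := by rw [ht']; group
      rw [hx1, orderOf_one] at hxord
      exact (Fact.out : p.Prime).one_lt.ne hxord
    set H' : Subgroup PSL2 := H.map (MulAut.conj (prj g⁻¹)).toMonoidHom with hH'
    have e : H ≃* H' := H.equivMapOfInjective _ (MulAut.conj (prj g⁻¹)).injective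
    apply DList.congr e
    apply dlist_of_upperU p H' ht0
    show prj (upperU t) ∈ H'
    refine ⟨prj (x : SL2), x.2, ?_⟩
    show prj g⁻¹ * prj (x : SL2) * (prj g⁻¹)⁻¹ = prj (upperU t)
    rw [← ht']
    simp only [map_mul, map_inv, inv_inv]
  · rcases pprime_dickson p hp with h | h | h | h
    · exact Or.inl h
    · exact Or.inr (Or.inr (Or.inl h))
    · exact Or.inr (Or.inr (Or.inr (Or.inl h)))
    · exact Or.inr (Or.inr (Or.inr (Or.inr (Or.inl h))))

/-- Dickson's classification of the subgroups of PSL_2(q), q a power of the prime p, d = gcd(2, q − 1): every subgroup H is (a) cyclic or dihedral with k dividing (q+1)/d or (q−1)/d (cyclic of order k, or dihedral of order 2k), (b) isomorphic to a subgroup of the normaliser of a Sylow p-subgroup, (c) isomorphic to A_4, S_4 or A_5, or (d) isomorphic to PSL_2(K) or PGL_2(K) for a finite field K with |K|^m = q. -/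
theorem result {F : Type*} [Field F] [Fintype F] {q : ℕ} (hF : Fintype.card F = q) (p : ℕ) [Fact p.Prime] [CharP F p] (H : Subgroup (Matrix.ProjectiveSpecialLinearGroup (Fin 2) F)) : (∃ k : ℕ, (k ∣ (q + 1) / Nat.gcd 2 (q - 1) ∨ k ∣ (q - 1) / Nat.gcd 2 (q - 1)) ∧ ((IsCyclic H ∧ Nat.card H = k) ∨ Nonempty (H ≃* DihedralGroup k))) ∨ (∃ (P : Sylow p (Matrix.ProjectiveSpecialLinearGroup (Fin 2) F)) (K : Subgroup (Matrix.ProjectiveSpecialLinearGroup (Fin 2) F)), K ≤ Subgroup.normalizer ((P : Subgroup (Matrix.ProjectiveSpecialLinearGroup (Fin 2) F)) : Set (Matrix.ProjectiveSpecialLinearGroup (Fin 2) F)) ∧ Nonempty (H ≃* K)) ∨ Nonempty (H ≃* alternatingGroup (Fin 4)) ∨ Nonempty (H ≃* Equiv.Perm (Fin 4)) ∨ Nonempty (H ≃* alternatingGroup (Fin 5)) ∨ (∃ (K : Type) (_ : Field K) (_ : Fintype K) (m : ℕ), Fintype.card K ^ m = q ∧ (Nonempty (H ≃* Matrix.ProjectiveSpecialLinearGroup (Fin 2) K) ∨ Nonempty (H ≃* Matrix.ProjGenLinGroup (Fin 2)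 K))) := by
  subst hF
  exact dlist p H

end Cfsg.Agent.S0799
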