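import Cfsg.Statements.S0857
import Cfsg.Agent.Lib.Helper75.GoingDown
open Cfsg.Agent.Lib.Helper75 Cfsg.Agent.Lib.Helper78

set_option autoImplicit false
open Cfsg

namespace Cfsg.Agent.S0857

/-- Let L < K be normal subgroups of the finite group G with no normal subgroup of G strictly between them and with K / L abelian (the commutator subgroup of K lies in L). Let ϑ be an irreducible character of K invariant under conjugation by G. Then the restriction of ϑ to L is irreducible; or it equals e times an irreducible character of L with e ^ 2 equal to the index of L in K; or it is the sum of a family of pairwise distinct irreducible characters of L indexed by a set whose size is the index of L in K. -/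
theorem result {G : Type*} [Group G] [Fintype G] (K L : Subgroup G) [hK : K.Normal] [L.Normal] (hLK : L < K) (hchief : ∀ M : Subgroup G, M.Normal → L ≤ M → M ≤ K → M = L ∨ M = K) (hab : ⁅K, K⁆ ≤ L) (ϑ : K → ℂ) (hϑ : Cfsg.IsIrrCharacter K ϑ) (hinv : ∀ (g : G) (n : K), ϑ ⟨g * n * g⁻¹, hK.conj_mem (n : G) n.2 g⟩ = ϑ n) : Cfsg.IsIrrCharacter L (fun x : L => ϑ ⟨(x : G), hLK.le x.2⟩) ∨ (∃ (φ : L → ℂ) (e : ℕ), Cfsg.IsIrrCharacter L φ ∧ (fun x : L => ϑ ⟨(x : G), hLK.le x.2⟩) = (e : ℂ) • φ ∧ e ^ 2 = L.relIndex K) ∨ (∃ F : Finset (L → ℂ), (∀ φ ∈ F, Cfsg.IsIrrCharacter L φ) ∧ F.card = L.relIndex K ∧ (fun x : L => ϑ ⟨(x : G), hLK.le x.2⟩) = ∑ φ ∈ F, φ) := by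
  classical
  let _ : Fintype K := Fintype.ofFinite K
  let _ : Fintype (L.subgroupOf K) := Fintype.ofFinite _
  have hLKle : L ≤ K := hLK.le
  have hab' : ∀ x y : K, x * y * x⁻¹ * y⁻¹ ∈ L.subgroupOf K := by
    intro x y
    rw [Subgroup.mem_subgroupOf]
    apply hab
    have := Subgroup.commutator_mem_commutator x.2 y.2
    rw [commutatorElement_def] at this
    simpa using this
  have hact : ∀ (g : G) (n : K), n ∈ L.subgroupOf K →
      (MulAut.conjNormal g : MulAut K) n ∈ L.subgroupOf K := by
    intro g n hn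
    rw [Subgroup.mem_subgroupOf] at hn ⊢
    rw [MulAut.conjNormal_apply]
    exact (inferInstance : L.Normal).conj_mem _ hn g
  have hchief' : ∀ M : Subgroup K, L.subgroupOf K ≤ M →
      (∀ (g : G) (m : K), m ∈ M → (MulAut.conjNormal g : MulAut K) m ∈ M) →
      M = L.subgroupOf K ∨ M = ⊤ := by
    intro M hLM hM
    have hnormal : (M.map K.subtype).Normal := by
      constructor
      rintro _ ⟨m, hm, rfl⟩ g
      refine ⟨(MulAut.conjNormal g : MulAut K) m, hM g m hm, ?_⟩
      simp [MulAut.conjNormal_apply]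
    have hL' : L ≤ M.map K.subtype := by
      intro l hl
      exact ⟨⟨l, hLKle hl⟩, hLM (Subgroup.mem_subgroupOf.mpr hl), rfl⟩
    have hK' : M.map K.subtype ≤ K := Subgroup.map_subtype_le M
    have hM' : M = (M.map K.subtype).subgroupOf K := by
      rw [Subgroup.subgroupOf, Subgroup.comap_map_eq_self_of_injective (Subgroup.subtype_injective K)]
    rcases hchief _ hnormal hL' hK' with h | h
    · left; rw [hM', h]
    · right; rw [hM', h, Subgroup.subgroupOf_self]
  have hinv' : ∀ (g : G) (k : K), ϑ ((MulAut.conjNormal g : MulAut K) k) = ϑ k := by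
    intro g k
    exact hinv g k
  have key := going_down (L.subgroupOf K) (MulAut.conjNormal : G →* MulAut K) hab' hact hchief' hϑ hinv'
  let e := Subgroup.subgroupOfEquivOfLe hLKle
  have hres : ∀ f : L.subgroupOf K → ℂ, ∀ x : L, (f ∘ e.symm) x = f (e.symm x) := fun f x => rfl
  have hϑL : (fun x : L => ϑ ⟨(x : G), hLK.le x.2⟩) = (fun n : L.subgroupOf K => ϑ n) ∘ e.symm := by
    funext x
    rfl
  have hinj : Function.Injective (fun f : L.subgroupOf K → ℂ => f ∘ e.symm) := by
    intro f f' h
    funext n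
    have := congrFun h (e n)
    simpa using this
  rcases key with h | ⟨φ, m, hφ, hm, hm2⟩ | ⟨F, hF, hFc, hFs⟩
  · left
    rw [hϑL]
    exact Cfsg.Agent.Lib.Helper81.isIrrCharacter_comp_mulEquiv h e.symm
  · right; left
    refine ⟨φ ∘ e.symm, m, Cfsg.Agent.Lib.Helper81.isIrrCharacter_comp_mulEquiv hφ e.symm, ?_, hm2⟩
    rw [hϑL, hm]
    rfl
  · right; right
    refine ⟨F.image (fun f : L.subgroupOf K → ℂ => f ∘ e.symm), ?_, ?_, ?_⟩
    · intro φ hφ
      obtain ⟨f, hf, rfl⟩ := Finset.mem_image.mp hφ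
      exact Cfsg.Agent.Lib.Helper81.isIrrCharacter_comp_mulEquiv (hF f hf) e.symm
    · rw [Finset.card_image_of_injective _ hinj, hFc]
      rfl
    · rw [hϑL, hFs, Finset.sum_image (fun a _ b _ h => hinj h)]
      funext x
      simp only [Function.comp_apply, Finset.sum_apply]

end Cfsg.Agent.S0857
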