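import Cfsg.Statements.S0526
import Cfsg.Agent.Lib.Helper9.SS

set_option autoImplicit false
open Cfsg

namespace Cfsg.Agent.S0526

open Cfsg.Agent.Lib.Helper9
open scoped commutatorElement

theorem mulAut_comm_of_isCyclic {A : Type*} [Group A] [IsCyclic A] (σ τ : MulAut A) :
    σ * τ = τ * σ := by
  obtain ⟨m, hm⟩ := MonoidHom.map_cyclic σ.toMonoidHom
  obtain ⟨k, hk⟩ := MonoidHom.map_cyclic τ.toMonoidHom
  have h1 : ∀ a, σ a = a ^ m := hm
  have h2 : ∀ a, τ a = a ^ k := hk
  ext a
  simp only [MulAut.mul_apply]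
  rw [h2, h1, h1, h2, ← zpow_mul, ← zpow_mul, mul_comm]

theorem comm_mem_of_cyclic_section {G : Type*} [Group G] (M : Subgroup G) [M.Normal] (g : G)
    (hn : (M ⊔ Subgroup.zpowers g).Normal) (y : G) (hy : y ∈ commutator G) (x : G)
    (hx : x ∈ M ⊔ Subgroup.zpowers g) : ⁅x, y⁆ ∈ M := by
  have hA : (M ⊔ Subgroup.zpowers g).map (QuotientGroup.mk' M) =
      Subgroup.zpowers (QuotientGroup.mk' M g) := by
    rw [Subgroup.map_sup, MonoidHom.map_zpowers, QuotientGroup.map_mk'_self, bot_sup_eq]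
  have hAn : ((M ⊔ Subgroup.zpowers g).map (QuotientGroup.mk' M)).Normal :=
    hn.map _ (QuotientGroup.mk'_surjective M)
  have hAc : IsCyclic ((M ⊔ Subgroup.zpowers g).map (QuotientGroup.mk' M)) := by
    rw [hA]; infer_instance
  let ψ : G →* MulAut ((M ⊔ Subgroup.zpowers g).map (QuotientGroup.mk' M)) :=
    (MulAut.conjNormal).comp (QuotientGroup.mk' M)
  have hker : commutator G ≤ ψ.ker := by
    rw [commutator_def, Subgroup.commutator_le]
    intro a _ b _
    rw [MonoidHom.mem_ker, map_commutatorElement, commutatorElement_eq_one_iff_mul_comm]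
    exact mulAut_comm_of_isCyclic _ _
  have h1 : ψ y = 1 := hker hy
  have h2 := congrArg (fun σ => ((σ ⟨QuotientGroup.mk' M x, Subgroup.mem_map_of_mem _ hx⟩ :
    ((M ⊔ Subgroup.zpowers g).map (QuotientGroup.mk' M))) : G ⧸ M)) h1
  simp only [ψ, MonoidHom.comp_apply, MulAut.conjNormal_apply, MulAut.one_apply] at h2
  apply (QuotientGroup.eq_one_iff (N := M) _).1
  have h3 : QuotientGroup.mk' M ⁅x, y⁆ = 1 := by
    rw [map_commutatorElement, commutatorElement_eq_one_iff_mul_comm]
    rw [mul_inv_eq_iff_eq_mul] at h2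
    exact h2.symm
  exact h3

theorem aux {G : Type*} [Group G] {M : Subgroup G} (h : SSChain (⊥ : Subgroup G) M) :
    ∃ n, M.subgroupOf (commutator G) ≤ Subgroup.upperCentralSeries (commutator G) n := by
  induction h with
  | refl hN => exact ⟨0, by simp⟩
  | @step M g h hn ih =>
    obtain ⟨n, hn'⟩ := ih
    have hM : M.Normal := h.normal_right
    refine ⟨n + 1, ?_⟩
    intro x hx
    rw [Subgroup.mem_upperCentralSeries_succ_iff]
    intro y
    apply hn'
    rw [Subgroup.mem_subgroupOf] at hx ⊢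
    have : ((⁅x, y⁆ : commutator G) : G) = ⁅(x : G), (y : G)⁆ := by
      simp [commutatorElement_def]
    rw [this]
    exact comm_mem_of_cyclic_section M g hn _ y.2 _ hx

/-- In a finite supersolvable group the commutator subgroup is nilpotent. -/
theorem result {G : Type*} [Group G] [Finite G] (hG : Cfsg.IsSupersolvable G) : Group.IsNilpotent (commutator G) := by
  obtain ⟨n, hn⟩ := aux (ssChain_of_isSupersolvable hG)
  refine ⟨n, ?_⟩
  rw [Subgroup.top_subgroupOf] at hn
  exact top_le_iff.1 hn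

end Cfsg.Agent.S0526
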