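import Cfsg.Statements.S0580
import Mathlib
-- import your own Cfsg.Agent.* helpers here

set_option autoImplicit false
open Cfsg

namespace Cfsg.Agent.S0580

/-- Pulling back a coatom of the quotient gives a coatom. -/
theorem isCoatom_comap_mk {G : Type*} [Group G] (N : Subgroup G) [N.Normal]
    (M' : Subgroup (G ⧸ N)) (hM' : IsCoatom M') :
    IsCoatom (M'.comap (QuotientGroup.mk' N)) := by
  have hsurj : Function.Surjective (QuotientGroup.mk' N) := QuotientGroup.mk'_surjective N
  refine ⟨?_, ?_⟩
  · intro htop
    apply hM'.1
    have := congrArg (Subgroup.map (QuotientGroup.mk' N)) htop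
    rw [Subgroup.map_comap_eq_self_of_surjective hsurj, Subgroup.map_top_of_surjective _ hsurj] at this
    exact this
  · intro K hK
    have hNK : N ≤ K := by
      refine le_trans ?_ hK.le
      intro x hx
      rw [Subgroup.mem_comap]
      have : QuotientGroup.mk' N x = 1 := by
        rw [QuotientGroup.mk'_apply, QuotientGroup.eq_one_iff]; exact hx
      rw [this]; exact one_mem _
    have hKeq : (K.map (QuotientGroup.mk' N)).comap (QuotientGroup.mk' N) = K := by
      rw [Subgroup.comap_map_eq_self]
      rw [QuotientGroup.ker_mk']; exact hNK
    have hle : M' ≤ K.map (QuotientGroup.mk' N) := by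
      have := Subgroup.map_mono (f := QuotientGroup.mk' N) hK.le
      rwa [Subgroup.map_comap_eq_self_of_surjective hsurj] at this
    have hne : M' ≠ K.map (QuotientGroup.mk' N) := by
      intro h
      apply hK.ne
      rw [h, hKeq]
    have := hM'.2 _ (lt_of_le_of_ne hle hne)
    rw [← hKeq, this, Subgroup.comap_top]

/-- If `N_G(P) ≤ M` then `[G : M] ≡ 1 mod p`. -/
theorem index_modEq_one_of_normalizer_le {G : Type*} [Group G] [Finite G] {p : ℕ} [Fact p.Prime]
    (P : Sylow p G) (M : Subgroup G) (hM : Subgroup.normalizer (P : Set G) ≤ M) :
    M.index ≡ 1 [MOD p] := by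
  have hPM : (P : Subgroup G) ≤ M := le_trans Subgroup.le_normalizer hM
  have h1 : Nat.card (Sylow p G) = (Subgroup.normalizer (P : Set G)).index :=
    Sylow.card_eq_index_normalizer P
  have h2 : Nat.card (Sylow p M) = (Subgroup.normalizer ((P.subtype hPM : Sylow p M) : Set M)).index :=
    Sylow.card_eq_index_normalizer (P.subtype hPM)
  have h3 : (Subgroup.normalizer ((P.subtype hPM : Sylow p M) : Set M))
      = (Subgroup.normalizer (P : Set G)).subgroupOf M := by
    exact (Subgroup.subgroupOf_normalizer_eq hPM).symm
  have h4 : (Subgroup.normalizer (P : Set G)).relIndex M * M.index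
      = (Subgroup.normalizer (P : Set G)).index := Subgroup.relIndex_mul_index hM
  have h5 : Nat.card (Sylow p M) * M.index = Nat.card (Sylow p G) := by
    rw [h1, h2, h3]; exact h4
  have e1 : Nat.card (Sylow p G) ≡ 1 [MOD p] := card_sylow_modEq_one p G
  have e2 : Nat.card (Sylow p M) ≡ 1 [MOD p] := card_sylow_modEq_one p M
  have e3 : Nat.card (Sylow p M) * M.index ≡ 1 * M.index [MOD p] := Nat.ModEq.mul_right _ e2
  rw [h5, one_mul] at e3
  exact e3.symm.trans e1

theorem main (n : ℕ) : ∀ {G : Type*} [Group G] [Finite G], Nat.card G = n →
    (∀ M : Subgroup G, IsCoatom M → M.index.Prime) → Group.IsSolvable G := by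
  induction n using Nat.strong_induction_on with
  | _ n ih =>
    intro G _ _ hn h
    by_cases htriv : Nat.card G = 1
    · have : Subsingleton G := (Nat.card_eq_one_iff_unique.mp htriv).1
      infer_instance
    · -- largest prime divisor
      have hpos : 0 < Nat.card G := Nat.card_pos
      have hne : (Nat.card G).primeFactors.Nonempty := by
        rw [Nat.nonempty_primeFactors]; omega
      obtain ⟨p, hp, hmax⟩ := Finset.exists_max_image (Nat.card G).primeFactors id hne
      have hpprime : p.Prime := Nat.prime_of_mem_primeFactors hp
      have hpdvd : p ∣ Nat.card G := Nat.dvd_of_mem_primeFactors hp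
      have : Fact p.Prime := ⟨hpprime⟩
      obtain ⟨P⟩ : Nonempty (Sylow p G) := inferInstance
      have hnormal : (P : Subgroup G).Normal := by
        rw [← Subgroup.normalizer_eq_top_iff]
        by_contra hN
        obtain ⟨M, hMco, hNM⟩ := (eq_top_or_exists_le_coatom (Subgroup.normalizer (P : Set G))).resolve_left hN
        have hq := h M hMco
        have hmod := index_modEq_one_of_normalizer_le P M hNM
        have hqdvd : M.index ∣ Nat.card G := Subgroup.index_dvd_card M
        have hqmem : M.index ∈ (Nat.card G).primeFactors :=
          Nat.mem_primeFactors.mpr ⟨hq, hqdvd, by omega⟩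
        have hle : M.index ≤ p := hmax _ hqmem
        -- M.index ≡ 1 mod p with 2 ≤ M.index ≤ p: contradiction
        have h2 : 2 ≤ M.index := hq.two_le
        have hp2 : 2 ≤ p := hpprime.two_le
        rcases lt_or_eq_of_le hle with hlt | heq
        · have h3 : M.index % p = 1 % p := hmod
          rw [Nat.mod_eq_of_lt hlt, Nat.mod_eq_of_lt (by omega)] at h3
          omega
        · have h3 : M.index % p = 1 % p := hmod
          rw [heq, Nat.mod_self, Nat.mod_eq_of_lt (by omega)] at h3
          omega
      have := hnormal
      -- quotient
      have hPcard : 1 < Nat.card (P : Subgroup G) := by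
        have hdvd : p ∣ Nat.card (P : Subgroup G) := by
          rw [Sylow.card_eq_multiplicity]
          exact dvd_pow_self p (by
            have : 0 < (Nat.card G).factorization p :=
              (hpprime.factorization_pos_of_dvd (by omega) hpdvd)
            omega)
        have hPpos : 0 < Nat.card (P : Subgroup G) := Nat.card_pos
        have := Nat.le_of_dvd hPpos hdvd
        have hp2 : 2 ≤ p := hpprime.two_le
        omega
      have hqcard : Nat.card (G ⧸ (P : Subgroup G)) < n := by
        have hmul : Nat.card (P : Subgroup G) * (P : Subgroup G).index = Nat.card G :=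
          Subgroup.card_mul_index _
        rw [Subgroup.index_eq_card] at hmul
        have hqpos : 0 < Nat.card (G ⧸ (P : Subgroup G)) := Nat.card_pos
        rw [← hn, ← hmul]
        nlinarith
      have hquot : Group.IsSolvable (G ⧸ (P : Subgroup G)) := by
        apply ih _ hqcard rfl
        intro M' hM'
        have hco := isCoatom_comap_mk (P : Subgroup G) M' hM'
        have := h _ hco
        rwa [Subgroup.index_comap_of_surjective _ (QuotientGroup.mk'_surjective _)] at this
      have hPsolv : Group.IsSolvable (P : Subgroup G) := by
        have : Group.IsNilpotent (P : Subgroup G) := P.isPGroup'.isNilpotent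
        infer_instance
      exact Group.isSolvable_of_ker_le_range (P : Subgroup G).subtype (QuotientGroup.mk' (P : Subgroup G))
        (by rw [QuotientGroup.ker_mk', Subgroup.range_subtype])

/-- If every maximal subgroup of a finite group has prime index, then the group is solvable. -/
theorem result {G : Type*} [Group G] [Finite G] (h : ∀ M : Subgroup G, IsCoatom M → M.index.Prime) : Group.IsSolvable G := by
  exact main _ rfl h

end Cfsg.Agent.S0580
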