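import Cfsg.Statements.S4802
import Cfsg.Agent.Lib.Helper80.Codegree

set_option autoImplicit false
open Cfsg
open Cfsg.Agent.Lib Cfsg.Agent.Lib.Helper80
open scoped ComplexConjugate

namespace Cfsg.Agent.S4802

universe u

/-- class size times centralizer order -/
theorem ncard_class_mul {G : Type u} [Group G] [Finite G] (g : G) :
    Set.ncard {h : G | IsConj g h} * Nat.card (Subgroup.centralizer ({g} : Set G)) =
      Nat.card G := by
  classical
  let _ : Fintype G := Fintype.ofFinite G
  have h1 : Set.ncard {h : G | IsConj g h} = (Subgroup.centralizer ({g} : Set G)).index := by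
    rw [← Helper78.card_isConj_eq_index g, Set.ncard_eq_toFinset_card']
    congr 1
    ext x
    simp
  rw [h1, mul_comm, Subgroup.card_mul_index]

/-- second orthogonality, real form -/
theorem sum_normSq_eq {G : Type u} [Group G] [Fintype G] (g : G) :
    ∑ χ : IrrCharacter G, Complex.normSq ((χ : G → ℂ) g) =
      (Nat.card (Subgroup.centralizer ({g} : Set G)) : ℝ) := by
  have h := Helper78.second_orthogonality_of_isConj (G := G) (IsConj.refl g)
  apply Complex.ofReal_injective
  push_cast
  rw [← h]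
  apply Finset.sum_congr rfl
  intro χ _
  rw [Complex.mul_conj]

open Classical in
/-- second orthogonality in the quotient, summed over the characters of `G` with `N` in the
kernel -/
theorem sum_normSq_ker_eq {G : Type u} [Group G] [Fintype G] (N : Subgroup G) [N.Normal] (g : G) :
    ∑ χ ∈ Finset.univ.filter
      (fun χ : IrrCharacter G => ∀ n ∈ N, (χ : G → ℂ) n = (χ : G → ℂ) 1),
      Complex.normSq ((χ : G → ℂ) g) =
      (Nat.card (Subgroup.centralizer ({(g : G ⧸ N)} : Set (G ⧸ N))) : ℝ) := by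
  let _ : Fintype (G ⧸ N) := Fintype.ofFinite _
  rw [← Finset.sum_subtype_eq_sum_filter, Finset.subtype_univ,
    ← sum_normSq_eq (G := G ⧸ N) (g : G ⧸ N)]
  symm
  apply Fintype.sum_equiv (Helper77.irrQuotientEquiv N)
  intro ψ
  show _ = Complex.normSq (((Helper77.inflate N ψ : IrrCharacter G) : G → ℂ) g)
  rw [Helper77.inflate_apply]

/-- The class of `g` is the full preimage of the class of its image in `G ⧸ N` if and only if
every irreducible character not containing `N` in its kernel vanishes at `g`. -/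
theorem class_eq_preimage_iff {G : Type u} [Group G] [Finite G] (N : Subgroup G) [N.Normal]
    (g : G) :
    {h : G | IsConj g h} = {h : G | IsConj (g : G ⧸ N) (h : G ⧸ N)} ↔
      ∀ χ : IrrCharacter G, (∃ x ∈ N, (χ : G → ℂ) x ≠ (χ : G → ℂ) 1) → (χ : G → ℂ) g = 0 := by
  classical
  let _ : Fintype G := Fintype.ofFinite G
  -- always: inclusion
  have hsub : {h : G | IsConj g h} ⊆ {h : G | IsConj (g : G ⧸ N) (h : G ⧸ N)} := by
    intro h hh
    exact (QuotientGroup.mk' N).map_isConj hh
  -- cardinalities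
  have hpre : Set.ncard {h : G | IsConj (g : G ⧸ N) (h : G ⧸ N)} =
      Nat.card N * Set.ncard {q : G ⧸ N | IsConj (g : G ⧸ N) q} := by
    rw [← Nat.card_coe_set_eq, ← Nat.card_coe_set_eq]
    exact QuotientGroup.card_preimage_mk N {q : G ⧸ N | IsConj (g : G ⧸ N) q}
  have hG := ncard_class_mul g
  have hQ := ncard_class_mul (g : G ⧸ N)
  have hNQ : Nat.card N * Nat.card (G ⧸ N) = Nat.card G := by
    rw [← Subgroup.index_eq_card, Subgroup.card_mul_index]
  set cG := Nat.card (Subgroup.centralizer ({g} : Set G)) with hcG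
  set cQ := Nat.card (Subgroup.centralizer ({(g : G ⧸ N)} : Set (G ⧸ N))) with hcQ
  have hcGpos : 0 < cG := Nat.card_pos
  have hcQpos : 0 < cQ := Nat.card_pos
  -- the analytic identity
  have hsum := sum_normSq_eq g
  rw [← Finset.sum_filter_add_sum_filter_not Finset.univ
      (fun χ : IrrCharacter G => ∀ n ∈ N, (χ : G → ℂ) n = (χ : G → ℂ) 1),
    sum_normSq_ker_eq N g] at hsum
  replace hsum : (cQ : ℝ) + (∑ χ ∈ Finset.univ.filter
      (fun χ : IrrCharacter G => ¬ ∀ n ∈ N, (χ : G → ℂ) n = (χ : G → ℂ) 1),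
      Complex.normSq ((χ : G → ℂ) g)) = (cG : ℝ) := hsum
  have hzero : (∑ χ ∈ Finset.univ.filter
      (fun χ : IrrCharacter G => ¬ ∀ n ∈ N, (χ : G → ℂ) n = (χ : G → ℂ) 1),
      Complex.normSq ((χ : G → ℂ) g)) = 0 ↔
      ∀ χ : IrrCharacter G, (∃ x ∈ N, (χ : G → ℂ) x ≠ (χ : G → ℂ) 1) → (χ : G → ℂ) g = 0 := by
    rw [Finset.sum_eq_zero_iff_of_nonneg (fun χ _ => Complex.normSq_nonneg _)]
    constructor
    · intro h χ hχ
      have := h χ (Finset.mem_filter.2 ⟨Finset.mem_univ _, by push Not; exact hχ⟩)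
      exact Complex.normSq_eq_zero.1 this
    · intro h χ hχ
      rw [Finset.mem_filter] at hχ
      have h2 := hχ.2
      push Not at h2
      rw [h χ h2]; simp
  rw [← hzero]
  constructor
  · intro heq
    have h1 : Set.ncard {h : G | IsConj g h} =
        Nat.card N * Set.ncard {q : G ⧸ N | IsConj (g : G ⧸ N) q} := by rw [heq, hpre]
    have h2 : cG = cQ := by
      have h3 : Set.ncard {h : G | IsConj g h} * cG = Set.ncard {h : G | IsConj g h} * cQ := by
        rw [hG, h1, ← hNQ, ← hQ]; ring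
      have hpos : 0 < Set.ncard {h : G | IsConj g h} := by
        by_contra h0
        have h0 : Set.ncard {h : G | IsConj g h} = 0 := by omega
        rw [h0, zero_mul] at hG
        have : 0 < Nat.card G := Nat.card_pos
        omega
      exact Nat.eq_of_mul_eq_mul_left hpos h3
    rw [h2] at hsum
    linarith
  · intro h0
    rw [h0, add_zero] at hsum
    have h2 : cG = cQ := by exact_mod_cast hsum.symm
    apply Set.eq_of_subset_of_ncard_le hsub
    rw [hpre]
    have h3 : Nat.card N * Set.ncard {q : G ⧸ N | IsConj (g : G ⧸ N) q} * cG =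
        Set.ncard {h : G | IsConj g h} * cG := by
      rw [hG, ← hNQ, ← hQ, h2]; ring
    exact (Nat.eq_of_mul_eq_mul_right hcGpos h3).le

theorem result {G : Type*} [Group G] [Finite G] (N M : Subgroup G) [N.Normal] [M.Normal] (hNM : N < M) (g : G) (hgM : g ∈ M) (hgN : g ∉ N) : {h : G | IsConj g h} = (M : Set G) \ (N : Set G) ↔ ((∀ χ : Cfsg.IrrCharacter G, (∀ x ∈ N, (χ : G → ℂ) x = (χ : G → ℂ) 1) → ∀ x ∈ M, x ∉ N → ∀ y ∈ M, y ∉ N → (χ : G → ℂ) x = (χ : G → ℂ) y) ∧ (∀ χ : Cfsg.IrrCharacter G, (∃ x ∈ N, (χ : G → ℂ) x ≠ (χ : G → ℂ) 1) → (χ : G → ℂ) g = 0)) := by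
  classical
  let _ : Fintype G := Fintype.ofFinite G
  let _ : Fintype (G ⧸ N) := Fintype.ofFinite _
  rw [← class_eq_preimage_iff N g]
  -- the class of g is inside M \ N
  have hcl : {h : G | IsConj g h} ⊆ (M : Set G) \ (N : Set G) := by
    intro h hh
    obtain ⟨c, hc⟩ := isConj_iff.1 hh
    rw [← hc]
    refine ⟨?_, ?_⟩
    · exact ‹M.Normal›.conj_mem g hgM c
    · intro hn
      apply hgN
      have := ‹N.Normal›.conj_mem _ hn c⁻¹
      simpa [mul_assoc] using this
  -- the preimage of the class of the image is inside M \ N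
  have hpre : {h : G | IsConj (g : G ⧸ N) (h : G ⧸ N)} ⊆ (M : Set G) \ (N : Set G) := by
    intro h hh
    obtain ⟨c, hc⟩ := isConj_iff.1 hh
    obtain ⟨c, rfl⟩ := QuotientGroup.mk_surjective c
    have h1 : ((c * g * c⁻¹ : G) : G ⧸ N) = (h : G ⧸ N) := by
      rw [← hc]; simp
    have h2 : (c * g * c⁻¹)⁻¹ * h ∈ N := QuotientGroup.eq.1 h1
    have h3 : c * g * c⁻¹ ∈ M := ‹M.Normal›.conj_mem g hgM c
    have h4 : h = (c * g * c⁻¹) * ((c * g * c⁻¹)⁻¹ * h) := by group
    refine ⟨?_, ?_⟩
    · rw [h4]; exact M.mul_mem h3 (hNM.le h2)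
    · intro hn
      apply hgN
      have h5 : c * g * c⁻¹ ∈ N := by
        have := N.mul_mem hn (N.inv_mem h2)
        simpa using this
      have := ‹N.Normal›.conj_mem _ h5 c⁻¹
      simpa [mul_assoc] using this
  constructor
  · intro heq
    refine ⟨?_, ?_⟩
    · intro χ _ x hxM hxN y hyM hyN
      have hx : IsConj g x := by
        have : x ∈ {h : G | IsConj g h} := by rw [heq]; exact ⟨hxM, hxN⟩
        exact this
      have hy : IsConj g y := by
        have : y ∈ {h : G | IsConj g h} := by rw [heq]; exact ⟨hyM, hyN⟩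
        exact this
      have hcf := Helper78.isClassFunction_irr χ
      rw [← Helper78.IsClassFunction.eq_of_isConj hcf hx,
        ← Helper78.IsClassFunction.eq_of_isConj hcf hy]
    · apply Set.Subset.antisymm
      · intro h hh; exact (QuotientGroup.mk' N).map_isConj hh
      · rw [heq]; exact hpre
  · rintro ⟨hA, hB⟩
    apply Set.Subset.antisymm hcl
    rw [hB]
    intro y hy
    show IsConj (g : G ⧸ N) (y : G ⧸ N)
    apply Helper78.isConj_of_forall_irr_eq
    intro ψ
    have := hA (Helper77.inflate N ψ) (Helper77.inflate_apply_of_mem N ψ) g hgM hgN y hy.1 hy.2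
    simpa [Helper77.inflate_apply] using this

end Cfsg.Agent.S4802
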