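import Mathlib
import Cfsg.Statements.S0864
import Cfsg.Agent.Lib.Helper4.LinearExt

set_option autoImplicit false
open Cfsg

namespace Cfsg.Agent.S0864

open Cfsg.Agent.Lib Cfsg.Agent.Lib.Helper4

/-- the exponents `k` such that `ϕ ^ k` extends to `G`, as a subgroup of `ℤ`. -/
def extExponents {G : Type*} [Group G] (N : Subgroup G) (ϕ : N →* ℂˣ) : AddSubgroup ℤ where
  carrier := {k | ∃ μ : G →* ℂˣ, ∀ n : N, μ n = ϕ n ^ k}
  zero_mem' := ⟨1, fun n => by simp⟩
  add_mem' := by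
    rintro a b ⟨μ₁, h₁⟩ ⟨μ₂, h₂⟩
    exact ⟨μ₁ * μ₂, fun n => by rw [MonoidHom.mul_apply, h₁, h₂, zpow_add]⟩
  neg_mem' := by
    rintro a ⟨μ, h⟩
    exact ⟨μ⁻¹, fun n => by rw [MonoidHom.inv_apply, h, zpow_neg]⟩

theorem mem_extExponents {G : Type*} [Group G] (N : Subgroup G) (ϕ : N →* ℂˣ) (k : ℤ) :
    k ∈ extExponents N ϕ ↔ ∃ μ : G →* ℂˣ, ∀ n : N, μ n = ϕ n ^ k := Iff.rfl

/-- Let N be a normal subgroup of the finite group G and λ a character of N of degree 1 invariant under conjugation by G. Suppose that for every prime p dividing the order of λ (in the group of functions under pointwise multiplication) there is a subgroup H containing N, of index prime to p and with the index of N in H a power of p, together with a character of H of degree 1 restricting to λ. Then λ is the restriction of a character of G of degree 1. -/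
theorem result {G : Type*} [Group G] [Finite G] (N : Subgroup G) [hN : N.Normal] (lam : N → ℂ) (hlam : Cfsg.IsCharacter N lam ∧ lam 1 = 1) (hinv : ∀ (g : G) (n : N), lam ⟨g * n * g⁻¹, hN.conj_mem (n : G) n.2 g⟩ = lam n) (hsyl : ∀ p : ℕ, p.Prime → p ∣ orderOf lam → ∃ (H : Subgroup G) (hNH : N ≤ H) (ν : H → ℂ), Nat.Coprime H.index p ∧ (∃ k : ℕ, N.relIndex H = p ^ k) ∧ Cfsg.IsCharacter H ν ∧ ν 1 = 1 ∧ ∀ n : N, ν ⟨(n : G), hNH n.2⟩ = lam n) : ∃ μ : G → ℂ, Cfsg.IsCharacter G μ ∧ μ 1 = 1 ∧ ∀ n : N, μ n = lam n := by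
  classical
  obtain ⟨hlamc, hlam1⟩ := hlam
  obtain ⟨ϕ, hϕ⟩ := exists_hom_of_linear hlamc hlam1
  have hoϕ : orderOf lam = orderOf ϕ := by rw [hϕ, orderOf_homToFun]
  -- ϕ has positive order
  have hcardN : ϕ ^ Nat.card N = 1 := by
    ext x
    rw [MonoidHom.pow_apply, ← map_pow, pow_card_eq_one', map_one]
    simp
  have hopos : 0 < orderOf ϕ := by
    apply Nat.pos_of_ne_zero
    intro h0
    have hd : orderOf ϕ ∣ Nat.card N := orderOf_dvd_of_pow_eq_one hcardN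
    rw [h0, zero_dvd_iff] at hd
    exact (Nat.card_pos (α := N)).ne' hd
  set A := extExponents (G := G) N ϕ with hA
  -- the order of ϕ lies in A
  have hoA : (orderOf ϕ : ℤ) ∈ A := by
    rw [hA, mem_extExponents]
    refine ⟨1, fun n => ?_⟩
    have h2 : (ϕ ^ orderOf ϕ) n = (1 : N →* ℂˣ) n := by rw [pow_orderOf_eq_one]
    rw [MonoidHom.pow_apply, MonoidHom.one_apply] at h2
    rw [zpow_natCast, h2, MonoidHom.one_apply]
  -- for each prime p dividing the order, an index prime to p lies in A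
  have hpA : ∀ p : ℕ, p.Prime → p ∣ orderOf ϕ → ∃ m : ℕ, Nat.Coprime m p ∧ (m : ℤ) ∈ A := by
    intro p hp hpo
    rw [← hoϕ] at hpo
    obtain ⟨H, hNH, ν, hcop, -, hνc, hν1, hνN⟩ := hsyl p hp hpo
    obtain ⟨ψ, hψ⟩ := exists_hom_of_linear hνc hν1
    haveI : H.FiniteIndex := ⟨Subgroup.index_ne_zero_of_finite⟩
    have hψN : ∀ (n : G) (hn : n ∈ N), ψ ⟨n, hNH hn⟩ = ϕ ⟨n, hn⟩ := by
      intro n hn
      apply Units.ext
      have := hνN ⟨n, hn⟩
      rw [hψ, hϕ] at this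
      exact this
    have hinvψ : ∀ (g n : G) (hn : n ∈ N),
        ψ ⟨g * n * g⁻¹, hNH (hN.conj_mem n hn g)⟩ = ψ ⟨n, hNH hn⟩ := by
      intro g n hn
      rw [hψN _ (hN.conj_mem n hn g), hψN n hn]
      apply Units.ext
      have := hinv g ⟨n, hn⟩
      rw [hϕ] at this
      exact this
    refine ⟨H.index, hcop, ?_⟩
    rw [hA, mem_extExponents]
    refine ⟨MonoidHom.transfer ψ, fun n => ?_⟩
    rw [transfer_apply_of_mem N H hNH ψ hinvψ n n.2, hψN n n.2, zpow_natCast]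
  -- A is generated by a unit
  obtain ⟨d, hd⟩ := Int.subgroup_cyclic A
  have hmem : ∀ k : ℤ, k ∈ A ↔ d ∣ k := by
    intro k
    rw [hd, ← AddSubgroup.zmultiples_eq_closure, Int.mem_zmultiples_iff]
  have hdo : d ∣ (orderOf ϕ : ℤ) := (hmem _).mp hoA
  have hd1 : d.natAbs = 1 := by
    by_contra hne
    obtain ⟨q, hq, hqd⟩ := Nat.exists_prime_and_dvd hne
    have hqd' : (q : ℤ) ∣ d := Int.natCast_dvd.mpr hqd
    have hqo : q ∣ orderOf ϕ := Int.natCast_dvd_natCast.mp (hqd'.trans hdo)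
    obtain ⟨m, hmq, hmA⟩ := hpA q hq hqo
    have hqm : q ∣ m := Int.natCast_dvd_natCast.mp (hqd'.trans ((hmem _).mp hmA))
    have : q ∣ 1 := by
      rw [← hmq.gcd_eq_one]
      exact Nat.dvd_gcd hqm (dvd_refl q)
    exact hq.one_lt.ne' (Nat.dvd_one.mp this)
  have h1A : (1 : ℤ) ∈ A := by
    rw [hmem]
    exact Int.natAbs_dvd_natAbs.mp (by rw [hd1]; exact one_dvd _)
  rw [hA, mem_extExponents] at h1A
  obtain ⟨μ, hμ⟩ := h1A
  refine ⟨homToFun G μ, isCharacter_homToFun μ, homToFun_one μ, fun n => ?_⟩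
  rw [hϕ, homToFun_apply, homToFun_apply, hμ n, zpow_one]

end Cfsg.Agent.S0864
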