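import Cfsg.Statements.S2157
-- import your own Cfsg.Agent.* helpers here

set_option autoImplicit false
open Cfsg

namespace Cfsg.Agent.S2157
open Cfsg.Lie

/-- iterate `r`-steps from `s` along the chain table -/
def stepK (D : ChevalleyDatum) (r s : ℕ) : ℕ → Option ℕ
  | 0 => some s
  | k+1 => (stepK D r s k).bind fun p => if p < D.nroots then D.chainRoot r p 1 else none

/-- The decidable table check. -/
def chainOK (D : ChevalleyDatum) : Bool :=
  (List.range D.nroots).all fun r =>
    (D.chain.getD r #[]).toList.all fun e =>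
      decide (e.1 < D.nroots) && (e.2.toList.zipIdx.all fun q => stepK D r e.1 (q.2 + 1) == some q.1.1)

variable {F : Type*} [Field F] (D : ChevalleyDatum)

theorem stepK_char (χ : ℕ → Fˣ) (hχ : D.IsRootCharacter χ) (r s : ℕ) (hr : r < D.nroots)
    (_hs : s < D.nroots) : ∀ (k u : ℕ), stepK D r s k = some u → χ u = χ r ^ k * χ s := by
  intro k
  induction k with
  | zero =>
    intro u h
    simp only [stepK, Option.some.injEq] at h
    subst h
    simp
  | succ k ih =>
    intro u h
    simp only [stepK] at h
    rcases hp : stepK D r s k with _ | p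
    · rw [hp] at h; simp at h
    · rw [hp] at h
      simp only [Option.bind_some] at h
      by_cases hpn : p < D.nroots
      · rw [if_pos hpn] at h
        have h1 := hχ.2 r p u hr hpn h
        rw [h1, ih p hp, pow_succ]
        rw [mul_comm (χ r ^ k) (χ r), mul_assoc]
      · rw [if_neg hpn] at h; simp at h

theorem mem_chainCoeff (r s u : ℕ) (km : ℕ × ℤ) (h : km ∈ D.chainCoeff r s u) :
    ∃ e ∈ (D.chain.getD r #[]).toList, e.1 = s ∧ ∃ q ∈ e.2.toList.zipIdx, q.1.1 = u ∧ km = (q.2 + 1, q.1.2) := by
  unfold ChevalleyDatum.chainCoeff at h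
  simp only [List.mem_flatMap, List.mem_filter, List.mem_map, decide_eq_true_eq] at h
  obtain ⟨e, ⟨he, hes⟩, q, ⟨hq, hqu⟩, hkm⟩ := h
  exact ⟨e, he, hes, q, hq, hqu, hkm.symm⟩

theorem chainCoeff_char (hOK : chainOK D = true) (χ : ℕ → Fˣ) (hχ : D.IsRootCharacter χ) (r s u : ℕ)
    (hr : r < D.nroots) (km : ℕ × ℤ) (h : km ∈ D.chainCoeff r s u) :
    χ u = χ r ^ km.1 * χ s := by
  obtain ⟨e, he, hes, q, hq, hqu, hkm⟩ := mem_chainCoeff D r s u km h
  unfold chainOK at hOK
  rw [List.all_eq_true] at hOK
  have h1 := hOK r (List.mem_range.mpr hr)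
  rw [List.all_eq_true] at h1
  have h2 := h1 e he
  rw [Bool.and_eq_true, decide_eq_true_eq, List.all_eq_true] at h2
  obtain ⟨hlt, h3⟩ := h2
  have h4 := h3 q hq
  rw [beq_iff_eq] at h4
  rw [hes] at hlt h4
  rw [hqu] at h4
  rw [hkm]
  exact stepK_char D χ hχ r s hr hlt _ _ h4

theorem conj_xMat (hOK : chainOK D = true) (χ : ℕ → Fˣ) (hχ : D.IsRootCharacter χ)
    (r : Fin D.nroots) (t : F) :
    D.charDiag F χ * D.xMat F r t * D.charDiag F (fun s => (χ s)⁻¹) =
      D.xMat F r ((χ r.val : F) * t) := by
  ext row col
  rw [ChevalleyDatum.charDiag, ChevalleyDatum.charDiag, Matrix.mul_diagonal, Matrix.diagonal_mul]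
  unfold ChevalleyDatum.xMat
  simp only [Matrix.of_apply]
  rcases col with i | s
  · rcases row with i' | u
    · simp
    · simp only [Sum.elim_inr, Sum.elim_inl, mul_one]
      split_ifs with h
      · subst h; ring
      · simp
  · simp only [Sum.elim_inr, Units.val_inv_eq_inv_val]
    have hne : ∀ x : ℕ, (χ x : F) ≠ 0 := fun x => (χ x).ne_zero
    by_cases hsr : s = r
    · simp only [if_pos hsr]
      rcases row with i' | u
      · simp
      · simp only [Sum.elim_inr]
        split_ifs with h
        · subst h; subst hsr; field_simp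
        · simp
    · simp only [if_neg hsr]
      by_cases hneg : s.val = D.negIdx.getD r.val 0
      · simp only [if_pos hneg]
        have hχs : (χ s.val : F) = (χ r.val : F)⁻¹ := by
          have := hχ.1 r.val r.isLt
          unfold ChevalleyDatum.neg at this
          rw [hneg, this, Units.val_inv_eq_inv_val]
        rcases row with i' | u
        · simp only [Sum.elim_inl, one_mul, hχs, inv_inv]
          ring
        · simp only [Sum.elim_inr]
          split_ifs with h1 h2
          · subst h1; field_simp
          · subst h2; rw [hχs, inv_inv]; ring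
          · simp
      · simp only [if_neg hneg]
        rcases row with i' | u
        · simp
        · simp only [Sum.elim_inr]
          rw [mul_add, add_mul]
          congr 1
          · split_ifs with h
            · subst h; field_simp
            · simp
          · rw [← List.sum_map_mul_left, ← List.sum_map_mul_right]
            congr 1
            apply List.map_congr_left
            intro km hkm
            have hc := chainCoeff_char D hOK χ hχ r.val s.val u.val r.isLt km hkm
            have hc' : (χ u.val : F) = (χ r.val : F) ^ km.1 * (χ s.val : F) := by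
              rw [hc]; simp
            rw [hc', mul_pow]
            field_simp

set_option maxRecDepth 100000 in
theorem chainOK_G2 : chainOK chevG2 = true := by decide +kernel

set_option maxRecDepth 100000 in
theorem chainOK_B2 : chainOK chevB2 = true := by decide +kernel

set_option maxRecDepth 100000 in
theorem chainOK_D4 : chainOK chevD4 = true := by decide +kernel

set_option maxRecDepth 100000 in
theorem chainOK_F4 : chainOK chevF4 = true := by decide +kernel

set_option maxRecDepth 100000 in
theorem chainOK_E6 : chainOK chevE6 = true := by decide +kernel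

set_option maxRecDepth 100000 in
theorem chainOK_E7 : chainOK chevE7 = true := by decide +kernel

set_option maxRecDepth 100000 in
theorem chainOK_E8 : chainOK chevE8 = true := by decide +kernel

theorem chainOK_of_mem (D : ChevalleyDatum)
    (hD : D ∈ [chevG2, chevB2, chevD4, chevF4, chevE6, chevE7, chevE8]) : chainOK D = true := by
  simp only [List.mem_cons, List.not_mem_nil, or_false] at hD
  rcases hD with rfl | rfl | rfl | rfl | rfl | rfl | rfl
  · exact chainOK_G2
  · exact chainOK_B2
  · exact chainOK_D4
  · exact chainOK_F4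
  · exact chainOK_E6
  · exact chainOK_E7
  · exact chainOK_E8

/-- In a Chevalley group of type G₂, B₂, D₄, F₄, E₆, E₇ or E₈, for every character `χ` of the root lattice with values in `Fˣ` the diagonal matrix `ĥ(χ)` (identity on the coroot coordinates, `χ(s)` on the coordinate of `e_s`) conjugates each root element `x_r(t)` to `x_r(χ(r) t)`: `ĥ(χ) x_r(t) ĥ(χ)⁻¹ = x_r(χ(r) t)` as matrices, with `ĥ(χ)⁻¹` written as `ĥ(χ⁻¹)`. -/
theorem result {F : Type*} [Field F] (D : Cfsg.Lie.ChevalleyDatum) (hD : D ∈ [Cfsg.Lie.chevG2, Cfsg.Lie.chevB2, Cfsg.Lie.chevD4, Cfsg.Lie.chevF4, Cfsg.Lie.chevE6, Cfsg.Lie.chevE7, Cfsg.Lie.chevE8]) (χ : ℕ → Fˣ) (hχ : D.IsRootCharacter χ) (r : ℕ) (hr : r < D.nroots) (t : F) :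
    D.charDiag F χ * D.x F r t * D.charDiag F (fun s => (χ s)⁻¹) = D.x F r ((χ r : F) * t) := by
  have hOK := chainOK_of_mem D hD
  unfold Cfsg.Lie.ChevalleyDatum.x
  rw [dif_pos hr, dif_pos hr]
  exact conj_xMat D hOK χ hχ ⟨r, hr⟩ t

end Cfsg.Agent.S2157
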