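import Cfsg.Statements.S1080
-- import your own Cfsg.Agent.* helpers here

set_option autoImplicit false
open Cfsg

namespace Cfsg.Agent.S1080

open Cfsg.Lie

theorem xMat_map {F : Type*} [Field F] (D : ChevalleyDatum) (f : F ≃+* F) (r : Fin D.nroots) (t : F) :
    (D.xMat F r t).map f = D.xMat F r (f t) := by
  ext row col
  simp only [Matrix.map_apply, ChevalleyDatum.xMat, Matrix.of_apply]
  rcases col with i | s
  · rcases row with i' | u
    · simp only
      split_ifs <;> simp
    · simp only
      split_ifs <;> simp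
  · simp only
    split_ifs with h1 h2
    · rcases row with i' | u
      · simp
      · simp only
        split_ifs <;> simp
    · rcases row with i' | u
      · simp
      · simp only
        split_ifs <;> simp
    · rcases row with i' | u
      · simp
      · simp only [map_add, map_list_sum, List.map_map]
        congr 1
        · split_ifs <;> simp
        · congr 1
          apply List.map_congr_left
          intro km _
          simp

/-- The automorphism of `GL` induced entrywise by a field automorphism. -/
noncomputable def glMap {F : Type*} [Field F] (D : ChevalleyDatum) (f : F ≃+* F) :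
    GL D.Idx F ≃* GL D.Idx F :=
  Units.mapEquiv (RingEquiv.mapMatrix f).toMulEquiv

theorem glMap_coe {F : Type*} [Field F] (D : ChevalleyDatum) (f : F ≃+* F) (g : GL D.Idx F) :
    ((glMap D f g : GL D.Idx F) : Matrix D.Idx D.Idx F) = (g : Matrix D.Idx D.Idx F).map f := rfl

theorem map_group {F : Type*} [Field F] (D : ChevalleyDatum) (f : F ≃+* F) :
    (D.group F).map ((glMap D f : GL D.Idx F ≃* GL D.Idx F) : GL D.Idx F →* GL D.Idx F) = D.group F := by
  unfold ChevalleyDatum.group
  rw [MonoidHom.map_closure]
  congr 1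
  ext g
  simp only [Set.mem_image, Set.mem_ofPred_eq]
  constructor
  · rintro ⟨g', ⟨r, t, hg'⟩, rfl⟩
    refine ⟨r, f t, ?_⟩
    change ((glMap D f g' : GL D.Idx F) : Matrix D.Idx D.Idx F) = _
    rw [glMap_coe, hg', xMat_map]
  · rintro ⟨r, t, hg⟩
    refine ⟨(glMap D f).symm g, ⟨r, f.symm t, ?_⟩, ?_⟩
    · have h1 : ((glMap D f ((glMap D f).symm g) : GL D.Idx F) : Matrix D.Idx D.Idx F)
          = (((glMap D f).symm g : GL D.Idx F) : Matrix D.Idx D.Idx F).map f := glMap_coe D f _
      rw [MulEquiv.apply_symm_apply, hg] at h1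
      have h2 := xMat_map D f r (f.symm t)
      rw [RingEquiv.apply_symm_apply] at h2
      have h3 : (((glMap D f).symm g : GL D.Idx F) : Matrix D.Idx D.Idx F).map f
          = (D.xMat F r (f.symm t)).map f := by rw [← h1, h2]
      have hinj : Function.Injective (fun M : Matrix D.Idx D.Idx F => M.map f) :=
        Matrix.map_injective f.injective
      exact hinj h3
    · exact MulEquiv.apply_symm_apply _ _

/-- Field automorphisms: for every field automorphism `f` there is a group automorphism sending each `x_r(t)` to `x_r(f t)`. -/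
theorem result {F : Type*} [Field F] (D : Cfsg.Lie.ChevalleyDatum) (hD : D ∈ [Cfsg.Lie.chevG2, Cfsg.Lie.chevB2, Cfsg.Lie.chevD4, Cfsg.Lie.chevF4, Cfsg.Lie.chevE6, Cfsg.Lie.chevE7, Cfsg.Lie.chevE8]) (f : F ≃+* F) :
    ∃ α : ↥(D.group F) ≃* ↥(D.group F), ∀ (g : ↥(D.group F)) (r : ℕ) (t : F), r < D.nroots →
      ((g : GL D.Idx F) : Matrix D.Idx D.Idx F) = D.x F r t → ((α g : GL D.Idx F) : Matrix D.Idx D.Idx F) = D.x F r (f t) := by
  refine ⟨((glMap D f).subgroupMap (D.group F)).trans (MulEquiv.subgroupCongr (map_group D f)), ?_⟩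
  intro g r t hr hg
  change ((glMap D f (g : GL D.Idx F) : GL D.Idx F) : Matrix D.Idx D.Idx F) = _
  rw [glMap_coe, hg, ChevalleyDatum.x, ChevalleyDatum.x, dif_pos hr, dif_pos hr, xMat_map]

end Cfsg.Agent.S1080
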