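import Cfsg.Statements.S1042
import Cfsg.Agent.Lib.Helper18.BN6
import Cfsg.Agent.S1040
-- import your own Cfsg.Agent.* helpers here

set_option autoImplicit false
open Cfsg

namespace Cfsg.Agent.S1042

open Cfsg.Lie Cfsg.Agent.Lib.Helper18

universe u

/-- The (B,N)-pair of the Chevalley group, with the bundle of table facts as a parameter. -/
theorem exists_bnPair {F : Type u} [Field F] (D : ChevalleyDatum)
    (hD : D ∈ [chevG2, chevB2, chevD4, chevF4, chevE6, chevE7, chevE8]) (C : ChevData.{u} D) :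
    ∃ P : Cfsg.BNPair ↥(D.group F),
      P.B = (D.borelSubgroup F).subgroupOf (D.group F) ∧ P.N = (D.monomialSubgroup F).subgroupOf (D.group F) ∧
      P.S = {n : ↥(D.group F) | ∃ i < D.rank, ((n : GL D.Idx F) : Matrix D.Idx D.Idx F) = D.nMat F (D.simple i) 1} := by
  obtain ⟨hBG, hNG, hsup⟩ := Cfsg.Agent.S1043.result (F := F) D hD
  have hBN : D.borelSubgroup F ⊓ D.monomialSubgroup F = D.diagonalSubgroup F :=
    (Cfsg.Agent.S1040.result D hD).2
  have hHB : D.diagonalSubgroup F ≤ D.borelSubgroup F := le_sup_right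
  have hHN : D.diagonalSubgroup F ≤ D.monomialSubgroup F := le_sup_left
  -- elements of `S`
  have hS : ∀ s : ↥(D.group F), (∃ i < D.rank, ((s : GL D.Idx F) : Matrix D.Idx D.Idx F) = D.nMat F (D.simple i) 1) →
      ∃ i < D.rank, (s : GL D.Idx F) = sG hD C i := by
    rintro s ⟨i, hi, hs⟩
    exact ⟨i, hi, Units.ext (by rw [hs, coe_sG hD C i hi])⟩
  refine ⟨Cfsg.BNPair.mk ((D.borelSubgroup F).subgroupOf (D.group F))
    ((D.monomialSubgroup F).subgroupOf (D.group F))
    {n : ↥(D.group F) | ∃ i < D.rank, ((n : GL D.Idx F) : Matrix D.Idx D.Idx F) = D.nMat F (D.simple i) 1}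
    ?_ ?_ ?_ ?_ ?_ ?_ ?_ ?_, rfl, rfl, rfl⟩
  · -- B ⊔ N = ⊤
    rw [← Subgroup.subgroupOf_sup hBG hNG, hsup, Subgroup.subgroupOf_self]
  · -- N normalises B ⊓ N
    intro n hn t ht
    rw [Subgroup.mem_subgroupOf] at hn ⊢
    have ht' : (t : GL D.Idx F) ∈ D.diagonalSubgroup F := by
      rw [← hBN]
      exact ⟨Subgroup.mem_subgroupOf.mp ht.1, Subgroup.mem_subgroupOf.mp ht.2⟩
    obtain ⟨ws, h, hws, hh, hnw⟩ := isWordH_of_mem_monomial hD C _ hn
    apply hHB
    have e : ((n * t * n⁻¹ : ↥(D.group F)) : GL D.Idx F)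
        = nW hD C ws * (h * (t : GL D.Idx F) * h⁻¹) * (nW hD C ws)⁻¹ := by
      push_cast
      rw [hnw]
      group
    rw [e]
    exact nW_conj_H hD C ws _ (mul_mem (mul_mem hh ht') (inv_mem hh))
  · -- S ⊆ N
    intro s hs
    obtain ⟨i, hi, hsi⟩ := hS s hs
    show s ∈ (D.monomialSubgroup F).subgroupOf (D.group F)
    rw [Subgroup.mem_subgroupOf, hsi]
    exact sG_mem_monomial hD C i
  · -- s * s ∈ B
    intro s hs
    obtain ⟨i, hi, hsi⟩ := hS s hs
    rw [Subgroup.mem_subgroupOf]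
    push_cast
    rw [hsi]
    exact hHB (sG_sq_mem hD C i)
  · -- injectivity modulo B
    intro s hs s' hs' hss
    obtain ⟨i, hi, hsi⟩ := hS s hs
    obtain ⟨j, hj, hsj⟩ := hS s' hs'
    rw [Subgroup.mem_subgroupOf] at hss
    push_cast at hss
    rw [hsi, hsj] at hss
    apply Subtype.ext
    rw [hsi, hsj]
    exact sG_inj hD C i j hi hj hss
  · -- closure S ⊔ (B ⊓ N) = N
    apply le_antisymm
    · apply sup_le
      · rw [Subgroup.closure_le]
        intro s hs
        obtain ⟨i, hi, hsi⟩ := hS s hs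
        show s ∈ (D.monomialSubgroup F).subgroupOf (D.group F)
        rw [Subgroup.mem_subgroupOf, hsi]
        exact sG_mem_monomial hD C i
      · exact inf_le_right
    · intro n hn
      rw [Subgroup.mem_subgroupOf] at hn
      obtain ⟨ws, h, hws, hh, hnw⟩ := isWordH_of_mem_monomial hD C _ hn
      have hword : ∀ ws : List ℕ, (∀ i ∈ ws, i < D.rank) → ∃ g : ↥(D.group F),
          g ∈ Subgroup.closure {n : ↥(D.group F) | ∃ i < D.rank,
            ((n : GL D.Idx F) : Matrix D.Idx D.Idx F) = D.nMat F (D.simple i) 1} ∧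
          (g : GL D.Idx F) = nW hD C ws := by
        intro ws
        induction ws with
        | nil => intro _; exact ⟨1, one_mem _, by rw [nW_nil]; rfl⟩
        | cons i ws ih =>
          intro hws
          obtain ⟨g, hg, hgw⟩ := ih fun j hj => hws j (List.mem_cons_of_mem _ hj)
          have hi := hws i List.mem_cons_self
          refine ⟨⟨sG hD C i, hNG (sG_mem_monomial hD C i)⟩ * g, mul_mem (Subgroup.subset_closure ?_) hg, ?_⟩
          · exact ⟨i, hi, coe_sG hD C i hi⟩
          · push_cast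
            rw [hgw, nW_cons]
      obtain ⟨g, hg, hgw⟩ := hword ws hws
      have hn_eq : n = g * ⟨h, hBG (hHB hh)⟩ := by
        apply Subtype.ext
        push_cast
        rw [hgw, hnw]
      rw [hn_eq]
      apply mul_mem (Subgroup.mem_sup_left hg)
      apply Subgroup.mem_sup_right
      exact ⟨Subgroup.mem_subgroupOf.mpr (hHB hh), Subgroup.mem_subgroupOf.mpr (hHN hh)⟩
  · -- the double coset axiom
    intro s hs n hn b hb
    obtain ⟨i, hi, hsi⟩ := hS s hs
    rw [Subgroup.mem_subgroupOf] at hn hb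
    have key := sG_mul_mem_union hD C i hi _ hn _ hb
    rw [← hsi] at key
    rcases key with key | key
    · left
      rw [DoubleCoset.mem_doubleCoset] at key ⊢
      obtain ⟨x, hx, y, hy, hxy⟩ := key
      refine ⟨⟨x, hBG hx⟩, Subgroup.mem_subgroupOf.mpr hx, ⟨y, hBG hy⟩, Subgroup.mem_subgroupOf.mpr hy, ?_⟩
      apply Subtype.ext
      push_cast
      exact hxy
    · right
      rw [DoubleCoset.mem_doubleCoset] at key ⊢
      obtain ⟨x, hx, y, hy, hxy⟩ := key
      refine ⟨⟨x, hBG hx⟩, Subgroup.mem_subgroupOf.mpr hx, ⟨y, hBG hy⟩, Subgroup.mem_subgroupOf.mpr hy, ?_⟩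
      apply Subtype.ext
      push_cast
      exact hxy
  · -- s B s ≠ B
    intro s hs heq
    obtain ⟨i, hi, hsi⟩ := hS s hs
    obtain ⟨b, hb, hnot⟩ := sG_mul_mul_not_mem (F := F) hD C i hi
    have h1 : s * ⟨b, hBG hb⟩ * s ∈ (fun b : ↥(D.group F) => s * b * s) ''
        (((D.borelSubgroup F).subgroupOf (D.group F) : Subgroup ↥(D.group F)) : Set ↥(D.group F)) :=
      ⟨⟨b, hBG hb⟩, Subgroup.mem_subgroupOf.mpr hb, rfl⟩
    rw [heq] at h1
    have h2 := Subgroup.mem_subgroupOf.mp h1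
    push_cast at h2
    rw [hsi] at h2
    exact hnot h2

/-- The Chevalley group has a (B,N)-pair with `B = UH`, `N` the monomial subgroup and the `n_p`, `p` fundamental, as representatives of the distinguished involutions of `W = N/H`. -/
theorem result {F : Type*} [Field F] (D : Cfsg.Lie.ChevalleyDatum) (hD : D ∈ [Cfsg.Lie.chevG2, Cfsg.Lie.chevB2, Cfsg.Lie.chevD4, Cfsg.Lie.chevF4, Cfsg.Lie.chevE6, Cfsg.Lie.chevE7, Cfsg.Lie.chevE8]) :
    ∃ P : Cfsg.BNPair ↥(D.group F),
      P.B = (D.borelSubgroup F).subgroupOf (D.group F) ∧ P.N = (D.monomialSubgroup F).subgroupOf (D.group F) ∧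
      P.S = {n : ↥(D.group F) | ∃ i < D.rank, ((n : GL D.Idx F) : Matrix D.Idx D.Idx F) = D.nMat F (D.simple i) 1} := by
  obtain ⟨C⟩ := nonempty_chevData.{u_1} D hD
  exact exists_bnPair D hD C

end Cfsg.Agent.S1042
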