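import Cfsg.Statements.S4428
import Cfsg.Agent.S4431
import Cfsg.Agent.Lib.Helper77.CenterIrr
import Cfsg.Agent.Lib.Helper77.PRegWeighted
import Cfsg.Agent.Lib.Helper78.SMTBlockPart
import Cfsg.Agent.Lib.Helper78.WBOCor
import Cfsg.Agent.Lib.Helper78.CharMore
import Cfsg.Agent.Lib.Helper75.Clifford

set_option autoImplicit false
open Cfsg

namespace Cfsg.Agent.S4428

open Cfsg.Agent.Lib Cfsg.Agent.Lib.Helper16 Cfsg.Agent.Lib.Helper77 Cfsg.Agent.Lib.Helper78
open scoped ComplexConjugate commutatorElement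

section

variable {p : ℕ} [Fact p.Prime] {M : Ideal AlgInt}

/-- A `p`-power root of unity is congruent to `1` modulo the local ideal. -/
theorem sub_one_memLocalIdeal_of_pow_eq_one (hM : IsPModular p M) {ζ : ℂ} {k : ℕ}
    (hζ : ζ ^ (p ^ k) = 1) : MemLocalIdeal M (ζ - 1) := by
  haveI hMp : M.IsPrime := isPModular_isPrime hM
  have hp : p.Prime := Fact.out
  have hint : IsIntegral ℤ ζ := by
    apply IsIntegral.of_pow (pow_pos hp.pos k)
    rw [hζ]
    exact isIntegral_one
  have hζR : MemLocalRing M ζ := memLocalRing_of_isIntegral hMp.ne_top hint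
  have hxR : MemLocalRing M (ζ - 1) := memLocalRing_sub hζR (memLocalRing_one hMp.ne_top)
  set x : localSubring M := ⟨ζ - 1, hxR⟩ with hx
  obtain ⟨r, hr⟩ := exists_add_pow_prime_pow_eq hp x 1 k
  have h1 : (x + 1) ^ p ^ k = 1 := by
    apply Subtype.ext
    show ((ζ - 1) + 1) ^ p ^ k = 1
    rw [sub_add_cancel, hζ]
  rw [h1, one_pow] at hr
  have hxp : x ^ p ^ k = -((p : localSubring M) * (x * 1 * r)) := by
    have h3 : x ^ p ^ k + (p : localSubring M) * (x * 1 * r) = 0 := by
      calc x ^ p ^ k + (p : localSubring M) * (x * 1 * r)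
          = (x ^ p ^ k + 1 + (p : localSubring M) * x * 1 * r) - 1 := by ring
        _ = 1 - 1 := by rw [← hr]
        _ = 0 := sub_self _
    exact eq_neg_of_add_eq_zero_left h3
  have hpmem : (p : localSubring M) ∈ localIdeal M := by
    rw [mem_localIdeal]
    show MemLocalIdeal M ((p : localSubring M) : ℂ)
    have : ((p : localSubring M) : ℂ) = (p : ℂ) := by simp
    rw [this]
    exact memLocalIdeal_p hM
  have hmem : x ^ p ^ k ∈ localIdeal M := by
    rw [hxp]
    exact (localIdeal M).neg_mem ((localIdeal M).mul_mem_right _ hpmem)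
  have hprime : (localIdeal M).IsPrime := (localIdeal_isMaximal (M := M)).isPrime
  have := hprime.mem_of_pow_mem _ hmem
  exact this

end

section Trunc

variable {K : Type*} [Group K] [Fintype K] {p : ℕ} [Fact p.Prime] {M : Ideal AlgInt}

/-- The `p`-regular truncation `f ↦ q · f · 1_{p-regular}`. -/
noncomputable def trunc (p : ℕ) (q : ℂ) (f : K → ℂ) : K → ℂ :=
  fun x => if p ∣ orderOf x then (0 : ℂ) else q * f x

omit [Fintype K] [Fact p.Prime] in
theorem trunc_sum_smul {ι : Type*} (s : Finset ι) (q : ℂ) (c : ι → ℂ) (f : ι → K → ℂ) :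
    trunc p q (∑ i ∈ s, c i • f i) = ∑ i ∈ s, c i • trunc p q (f i) := by
  funext x
  unfold trunc
  by_cases hx : p ∣ orderOf x
  · simp [hx]
  · simp only [hx, if_false, Finset.sum_apply, Pi.smul_apply, smul_eq_mul, Finset.mul_sum]
    refine Finset.sum_congr rfl fun i _ => ?_
    ring

omit [Fact p.Prime] in
theorem classInner_trunc_sum_smul {ι : Type*} (s : Finset ι) (q : ℂ) (c : ι → ℂ) (f : ι → K → ℂ)
    (ψ : K → ℂ) :
    classInner (trunc p q (∑ i ∈ s, c i • f i)) ψ = ∑ i ∈ s, c i * classInner (trunc p q (f i)) ψ := by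
  rw [trunc_sum_smul, classInner_sum_left]
  refine Finset.sum_congr rfl fun i _ => ?_
  rw [classInner_smul_left]

/-- Weak block orthogonality in truncated form. -/
theorem classInner_trunc_eq_zero (hM : IsPModular p M) (q : ℂ) (ξ ψ : IrrCharacter K)
    (h : ¬ SameBlock M (ξ : K → ℂ) (ψ : K → ℂ)) :
    classInner (trunc p q (ξ : K → ℂ)) (ψ : K → ℂ) = 0 := by
  classical
  unfold trunc
  rw [Cfsg.Agent.S4431.classInner_truncation (p := p), sum_pRegular_mul_conj_eq_zero hM ξ ψ h,
    mul_zero]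

/-- `[ξ̃, ψ]/ψ(1)` is a local integer. -/
theorem memLocalRing_classInner_trunc (hM : IsPModular p M) (ξ ψ : IrrCharacter K) :
    MemLocalRing M (classInner (trunc p ((p ^ (Nat.card K).factorization p : ℕ) : ℂ)
      (ξ : K → ℂ)) (ψ : K → ℂ) / (ψ : K → ℂ) 1) := by
  classical
  haveI hMp : M.IsPrime := isPModular_isPrime hM
  have hp : p.Prime := Fact.out
  have hmK : ¬ p ∣ Nat.card K / p ^ (Nat.card K).factorization p :=
    Nat.not_dvd_ordCompl hp Nat.card_pos.ne'
  have hunit := memLocalRing_inv_natCast hM hmK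
  unfold trunc
  rw [Cfsg.Agent.S4431.classInner_truncation (p := p)]
  have hsum := sum_pRegular_conj_mul p (K := K) (α := (ξ : K → ℂ)) (β := (ψ : K → ℂ))
    (fun g => irr_inv_eq_conj ξ g) (fun g => irr_inv_eq_conj ψ g)
  rw [← hsum]
  have hom := omega_pRegElt p (fun g => conj ((ξ : K → ℂ) g)) (ψ : K → ℂ)
  have hR : MemLocalRing M (omega (ψ : K → ℂ) (pRegElt p (fun g => conj ((ξ : K → ℂ) g)))) := by
    apply omega_memLocalRing ψ (pRegElt_mem_center p (isClassFunction_conj_irr ξ))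
    intro g
    rw [coeff_pRegElt]
    split_ifs
    · exact memLocalRing_zero hMp.ne_top
    · have := Helper79.isIntegral_irr ξ g⁻¹
      rw [irr_inv_eq_conj] at this
      exact memLocalRing_of_isIntegral hMp.ne_top this
  rw [hom] at hR
  have h1 := Cfsg.Agent.S4431.ordProj_div_eq (p := p) (Nat.card K) Nat.card_pos.ne'
  have hG0 : (Nat.card K : ℂ) ≠ 0 := Nat.cast_ne_zero.mpr Nat.card_pos.ne'
  have h2 : (Nat.card K : ℂ)⁻¹ * ((p ^ (Nat.card K).factorization p : ℕ) : ℂ) =
      ((Nat.card K / p ^ (Nat.card K).factorization p : ℕ) : ℂ)⁻¹ := by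
    rw [← h1]; field_simp
  rw [h2, mul_div_assoc]
  exact memLocalRing_mul hunit hR

end Trunc

theorem main {G : Type*} [Group G] [Fintype G] (p : ℕ) [Fact p.Prime] (M : Ideal Cfsg.AlgInt)
    (hM : Cfsg.IsPModular p M) (B : Set (Cfsg.IrrCharacter G))
    (χ : Cfsg.IrrCharacter G) (hχ : χ ∈ B) (h0 : Cfsg.blockHeight p B (χ : G → ℂ) = 0)
    (K : Subgroup G) [Fintype K] (x' : K) (hcomm : ∀ c : K, x' * c = c * x') (k : ℕ)
    (hx'pow : x' ^ (p ^ k) = 1) (b : Set (Cfsg.IrrCharacter K))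
    (hb : Cfsg.IsInducedBlock M K b B) :
    ∃ y : K, ¬ p ∣ orderOf y ∧
      Cfsg.blockPart b (fun c : K => (χ : G → ℂ) ((x' : G) * (c : G))) y ≠ 0 := by
  classical
  have hMp : M.IsPrime := isPModular_isPrime hM
  have hMt := hMp.ne_top
  have hmemZ : ∀ ξ : IrrCharacter K, x' ∈ irrCenter ξ := by
    intro ξ
    rw [mem_irrCenter_iff_commutator]
    intro h
    have h1 : ⁅x', h⁆ = 1 := by
      rw [commutatorElement_eq_one_iff_commute]
      exact hcomm h
    rw [h1]
    exact (irrKer ξ).one_mem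
  set ε : IrrCharacter K → ℂ := fun ξ => irrCenterScalar ξ ⟨x', hmemZ ξ⟩ with hε
  have hεpow : ∀ ξ, ε ξ ^ (p ^ k) = 1 := by
    intro ξ
    show irrCenterScalar ξ ⟨x', hmemZ ξ⟩ ^ (p ^ k) = 1
    rw [← map_pow]
    have h1 : (⟨x', hmemZ ξ⟩ : irrCenter ξ) ^ (p ^ k) = 1 := by
      apply Subtype.ext
      show x' ^ (p ^ k) = 1
      exact hx'pow
    rw [h1, map_one]
  have hεmul : ∀ ξ : IrrCharacter K, ∀ c : K,
      (ξ : K → ℂ) (x' * c) = ε ξ * (ξ : K → ℂ) c :=
    fun ξ c => irr_center_mul ξ ⟨x', hmemZ ξ⟩ c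
  -- the restriction of `χ`
  set χK : K → ℂ := fun c => (χ : G → ℂ) c with hχKdef
  have hχK : IsCharacter K χK :=
    Helper75.isCharacter_res K (Helper80.isCharacter_of_isIrr χ.2)
  set m : IrrCharacter K → ℂ := fun ξ => classInner χK (ξ : K → ℂ) with hmdef
  have hm : ∀ ξ, MemLocalRing M (m ξ) := by
    intro ξ
    obtain ⟨n, hn⟩ := IsCharacter.exists_nat_classInner hχK ξ
    show MemLocalRing M (classInner χK (ξ : K → ℂ))
    rw [hn]
    exact memLocalRing_natCast hMt n
  have hχKsum : χK = ∑ ξ : IrrCharacter K, m ξ • (ξ : K → ℂ) := IsCharacter.eq_sum_irr hχK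
  set ϑ : K → ℂ := fun c => (χ : G → ℂ) ((x' : G) * (c : G)) with hϑdef
  have hϑsum : ϑ = ∑ ξ : IrrCharacter K, (m ξ * ε ξ) • (ξ : K → ℂ) := by
    funext c
    have h1 : ϑ c = χK (x' * c) := rfl
    have h2 := congrFun hχKsum (x' * c)
    rw [h1, h2]
    simp only [Finset.sum_apply, Pi.smul_apply, smul_eq_mul]
    refine Finset.sum_congr rfl fun ξ _ => ?_
    rw [hεmul]
    ring
  have hinner : ∀ ξ : IrrCharacter K, classInner ϑ (ξ : K → ℂ) = m ξ * ε ξ := by
    intro ξ
    rw [hϑsum, classInner_sum_left, Finset.sum_eq_single ξ]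
    · rw [classInner_smul_left, classInner_irr_self ξ.2, mul_one]
    · intro ξ' _ hne
      rw [classInner_smul_left, classInner_irr_ne ξ'.2 ξ.2 (fun h => hne (Subtype.ext h)), mul_zero]
    · intro h
      exact absurd (Finset.mem_univ _) h
  by_contra hcon
  push Not at hcon
  obtain ⟨ψ, hψ⟩ := IsPBlock_nonempty hMt hb.1
  have hnot := (Cfsg.Agent.S4431.result p M hM K b B hb χ ψ hψ).2 hχ h0
  apply hnot
  set q : ℂ := ((p ^ (Nat.card K).factorization p : ℕ) : ℂ) with hq
  change MemLocalIdeal M (classInner (trunc p q χK) (ψ : K → ℂ) / (ψ : K → ℂ) 1)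
  set c : IrrCharacter K → ℂ := fun ξ => if ξ ∈ b then m ξ * ε ξ else 0 with hc
  have hbp : blockPart b ϑ = ∑ ξ : IrrCharacter K, c ξ • (ξ : K → ℂ) := by
    funext y
    rw [blockPart_apply, Finset.sum_filter]
    simp only [Finset.sum_apply, Pi.smul_apply, smul_eq_mul]
    refine Finset.sum_congr rfl fun ξ _ => ?_
    show _ = (if ξ ∈ b then m ξ * ε ξ else 0) * _
    split_ifs with h
    · rw [hinner]
    · rw [zero_mul]
  have htr0 : trunc p q (blockPart b ϑ) = 0 := by
    funext y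
    unfold trunc
    by_cases hy : p ∣ orderOf y
    · simp [hy]
    · simp [hy, hcon y hy]
  have e1 : classInner (trunc p q χK) (ψ : K → ℂ) =
      ∑ ξ : IrrCharacter K, m ξ * classInner (trunc p q (ξ : K → ℂ)) (ψ : K → ℂ) := by
    conv_lhs => rw [hχKsum]
    exact classInner_trunc_sum_smul _ _ _ _ _
  have e2 : (0 : ℂ) =
      ∑ ξ : IrrCharacter K, c ξ * classInner (trunc p q (ξ : K → ℂ)) (ψ : K → ℂ) := by
    rw [← classInner_trunc_sum_smul, ← hbp, htr0, classInner_zero_left]
  have e3 : classInner (trunc p q χK) (ψ : K → ℂ) / (ψ : K → ℂ) 1 =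
      ∑ ξ : IrrCharacter K, (m ξ - c ξ) *
        (classInner (trunc p q (ξ : K → ℂ)) (ψ : K → ℂ) / (ψ : K → ℂ) 1) := by
    rw [e1]
    calc (∑ ξ : IrrCharacter K, m ξ * classInner (trunc p q (ξ : K → ℂ)) (ψ : K → ℂ)) /
          (ψ : K → ℂ) 1
        = ((∑ ξ : IrrCharacter K, m ξ * classInner (trunc p q (ξ : K → ℂ)) (ψ : K → ℂ)) -
            ∑ ξ : IrrCharacter K, c ξ * classInner (trunc p q (ξ : K → ℂ)) (ψ : K → ℂ)) /
          (ψ : K → ℂ) 1 := by rw [← e2, sub_zero]
      _ = _ := by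
          rw [← Finset.sum_sub_distrib, Finset.sum_div]
          refine Finset.sum_congr rfl fun ξ _ => ?_
          ring
  rw [e3]
  apply memLocalIdeal_sum
  intro ξ _
  by_cases hξ : ξ ∈ b
  · have h1 : m ξ - c ξ = m ξ * (1 - ε ξ) := by
      show m ξ - (if ξ ∈ b then m ξ * ε ξ else 0) = _
      rw [if_pos hξ]
      ring
    rw [h1]
    have hε1 : MemLocalIdeal M (1 - ε ξ) := by
      rw [memLocalIdeal_sub_comm]
      exact sub_one_memLocalIdeal_of_pow_eq_one hM (hεpow ξ)
    exact memLocalIdeal_mul_right (memLocalIdeal_mul_left (hm ξ) hε1)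
      (memLocalRing_classInner_trunc hM ξ ψ)
  · have hns : ¬ SameBlock M (ξ : K → ℂ) (ψ : K → ℂ) := by
      intro hs
      apply hξ
      rw [IsPBlock_eq_blockOf hb.1 hψ]
      exact sameBlock_symm hs
    rw [classInner_trunc_eq_zero hM q ξ ψ hns, zero_div, mul_zero]
    exact memLocalIdeal_zero hMt

/-- Let χ be an irreducible character of height zero in the p-block B of the finite group G (relative to a maximal ideal M of the algebraic integers containing p). Let x be a p-element of G with centralizer C, and let b be a block of C that induces B. Form the class function ϑ(c) = χ(x c) on C and its b-part (the sum over ψ ∈ b of the inner product of ϑ with ψ, times ψ). Then the b-part of ϑ does not vanish identically on the p-regular elements of C. (Compare the second main Theorem, which gives vanishing when b does not induce B.) -/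
theorem result {G : Type*} [Group G] [Finite G] (p : ℕ) [Fact p.Prime] (M : Ideal Cfsg.AlgInt) (hM : Cfsg.IsPModular p M) (B : Set (Cfsg.IrrCharacter G)) (hB : Cfsg.IsPBlock M B) (χ : Cfsg.IrrCharacter G) (hχ : χ ∈ B) (h0 : Cfsg.blockHeight p B (χ : G → ℂ) = 0) (x : G) (hx : ∃ k : ℕ, orderOf x = p ^ k) (b : Set (Cfsg.IrrCharacter (Subgroup.centralizer ({x} : Set G)))) (hb : Cfsg.IsInducedBlock M (Subgroup.centralizer ({x} : Set G)) b B) : ∃ y : Subgroup.centralizer ({x} : Set G), ¬ p ∣ orderOf y ∧ Cfsg.blockPart b (fun c : Subgroup.centralizer ({x} : Set G) => (χ : G → ℂ) (x * (c : G))) y ≠ 0 := by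
  classical
  haveI : Fintype G := Fintype.ofFinite G
  haveI : Fintype (Subgroup.centralizer ({x} : Set G)) := Fintype.ofFinite _
  obtain ⟨k, hk⟩ := hx
  have hxK : x ∈ Subgroup.centralizer ({x} : Set G) := Subgroup.mem_centralizer_iff.mpr (by
    intro y hy
    rw [Set.mem_singleton_iff.mp hy])
  have hcomm : ∀ c : Subgroup.centralizer ({x} : Set G),
      (⟨x, hxK⟩ : Subgroup.centralizer ({x} : Set G)) * c = c * ⟨x, hxK⟩ := by
    intro c
    apply Subtype.ext
    show x * (c : G) = (c : G) * x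
    exact Subgroup.mem_centralizer_iff.mp c.2 x rfl
  have hx'pow : (⟨x, hxK⟩ : Subgroup.centralizer ({x} : Set G)) ^ (p ^ k) = 1 := by
    apply Subtype.ext
    show x ^ (p ^ k) = 1
    rw [← hk]
    exact pow_orderOf_eq_one x
  exact main p M hM B χ hχ h0 (Subgroup.centralizer ({x} : Set G)) ⟨x, hxK⟩ hcomm k hx'pow b hb

end Cfsg.Agent.S4428
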