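import Cfsg.Statements.S1452
import Cfsg.Agent.Lib.Helper24.SCN

set_option autoImplicit false
open Cfsg

namespace Cfsg.Agent.S1452

/-- Let p be an odd prime and R a finite p-group containing an elementary abelian subgroup of order p ^ 3. If E is a normal elementary abelian subgroup of R of order p ^ 2, then E ≤ A for some normal subgroup A of R with C_R(A) = A that contains an elementary abelian subgroup of order p ^ 3. -/
theorem result {R : Type*} [Group R] [Finite R] (p : ℕ) [Fact p.Prime] (hp : p ≠ 2) (hR : IsPGroup p R) (hr : ¬ Cfsg.PRankLE p 2 R)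
    (E : Subgroup R) [E.Normal] (hE : Cfsg.IsElementaryAbelian p E) (hE2 : Nat.card E = p ^ 2) :
    ∃ A : Subgroup R, E ≤ A ∧ A.Normal ∧ Subgroup.centralizer (A : Set R) = A ∧ ¬ Cfsg.PRankLE p 2 A := by
  classical
  have hnil : Group.IsNilpotent R := hR.isNilpotent
  -- an elementary abelian subgroup of order `> p ^ 2`
  unfold Cfsg.PRankLE at hr
  rw [not_forall] at hr
  obtain ⟨B₀, hB₀⟩ := hr
  rw [Classical.not_imp, Classical.not_imp, not_le] at hB₀
  obtain ⟨hB₀c, hB₀p, hB₀card⟩ := hB₀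
  -- an element of order `p` of `C_R(E)` outside `E`
  obtain ⟨x, hxB, hxT, hxE⟩ :=
    Cfsg.Agent.Lib.Helper24.exists_mem_centralizer_not_mem p hR E hE2 B₀ hB₀c hB₀card
  have hxp : x ^ p = 1 := hB₀p x hxB
  have hEab : E ≤ Subgroup.centralizer (E : Set R) :=
    Subgroup.le_centralizer_iff_isMulCommutative.mpr hE.1
  -- normal replacement
  obtain ⟨y, hyT, hyE, hyp, hyc⟩ :=
    Cfsg.Agent.Lib.Helper24.normal_replacement p hp hR E hE.2 hEab x hxT hxE hxp
  -- the normal elementary abelian subgroup `B = ⟨E, y⟩`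
  have hBn : (Subgroup.closure ((E : Set R) ∪ {y})).Normal :=
    Cfsg.Agent.Lib.Helper24.adjoin_normal E y hyc
  obtain ⟨hBc, hBp⟩ := Cfsg.Agent.Lib.Helper24.elemAb_adjoin p E hE.1 hE.2 y hyT hyp
  have hBcard : p ^ 2 < Nat.card (Subgroup.closure ((E : Set R) ∪ {y})) := by
    rw [← hE2]; exact Cfsg.Agent.Lib.Helper24.card_lt_card_adjoin E y hyE
  obtain ⟨A, hBA, hAn, hAc⟩ :=
    Cfsg.Agent.Lib.Helper24.exists_normal_self_centralizing (Subgroup.closure ((E : Set R) ∪ {y})) hBc
  refine ⟨A, le_trans (Cfsg.Agent.Lib.Helper24.le_adjoin E y) hBA, hAn, hAc, ?_⟩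
  -- rank of `A`
  intro hrA
  have h1 := hrA ((Subgroup.closure ((E : Set R) ∪ {y})).subgroupOf A) ?_ ?_
  · have h2 : Nat.card ((Subgroup.closure ((E : Set R) ∪ {y})).subgroupOf A) =
        Nat.card (Subgroup.closure ((E : Set R) ∪ {y})) :=
      Nat.card_congr (Subgroup.subgroupOfEquivOfLe hBA).toEquiv
    omega
  · refine IsMulCommutative.of_setLike_mul_comm ?_
    intro a ha b hb
    rw [Subgroup.mem_subgroupOf] at ha hb
    apply Subtype.ext
    simp only [Subgroup.coe_mul]
    exact setLike_mul_comm ha hb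
  · intro a ha
    rw [Subgroup.mem_subgroupOf] at ha
    apply Subtype.ext
    simp only [SubmonoidClass.coe_pow, Subgroup.coe_one]
    exact hBp _ ha

end Cfsg.Agent.S1452
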