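import Cfsg.Statements.S1399
import Cfsg.Agent.Lib.Helper54.UqNine3

set_option autoImplicit false
open Cfsg

namespace Cfsg.Agent.S1399

/-- Let G be a minimal simple group of odd order, L a subgroup contained in exactly one maximal subgroup of G, and K a subgroup of C_G(L) having, for some prime p, an elementary abelian subgroup of order p ^ 2. Then K is contained in exactly one maximal subgroup of G. -/
theorem result {G : Type*} [Group G] [Finite G] (hG : Cfsg.IsMinSimpleOddOrder G)
    (L K : Subgroup G) (hL : Cfsg.InUniqueMaximal L) (hK : K ≤ Subgroup.centralizer (L : Set G)) (hKr : ¬ Cfsg.RankLE 1 K) :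
    Cfsg.InUniqueMaximal K := by
  obtain ⟨M, hM, hLM, hu⟩ := Cfsg.Agent.Lib.Helper54.exists_forall_of_inUniqueMaximal hL
  unfold Cfsg.RankLE at hKr
  push Not at hKr
  obtain ⟨p, hp, hpr⟩ := hKr
  have : Fact p.Prime := ⟨hp⟩
  obtain ⟨B, hBK, hBc, hBexp, hBcard⟩ :=
    Cfsg.Agent.Lib.Helper54.exists_elemAb_of_not_pRankLE p 1 K hpr
  have h93 := Cfsg.Agent.Lib.Helper54.uniqueness_of_centralizing_elemAb hG L M hM hu p B
    (hBK.trans hK) hBc hBexp hBcard
  have hKtop : K ≠ ⊤ := by
    intro hKt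
    by_cases hL1 : L = ⊥
    · exact Cfsg.Agent.Lib.Helper54.not_inUniqueMaximal_bot hG.2.2.1 (hL1 ▸ hL)
    · obtain ⟨⟨l, hlL⟩, hl⟩ := Subgroup.ne_bot_iff_exists_ne_one.mp hL1
      have hl1 : l ≠ 1 := fun h' => hl (Subtype.ext h')
      apply Cfsg.Agent.Lib.Helper54.centralizer_singleton_ne_top hG.2.1 hG.2.2.1 hl1
      rw [eq_top_iff]
      intro g _
      have hg : g ∈ Subgroup.centralizer (L : Set G) := hK (hKt ▸ Subgroup.mem_top g)
      rw [Subgroup.mem_centralizer_singleton_iff]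
      exact (Subgroup.mem_centralizer_iff.mp hg l hlL).symm
  exact Cfsg.Agent.Lib.Helper54.inUniqueMaximal_mono
    (Cfsg.Agent.Lib.Helper54.inUniqueMaximal_of_forall hM h93.1 h93.2) hBK hKtop

end Cfsg.Agent.S1399
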