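import Cfsg.Statements.S1400
import Cfsg.Agent.Lib.Helper54.UqNine4

set_option autoImplicit false
open Cfsg

namespace Cfsg.Agent.S1400

open scoped Pointwise
open Cfsg.Agent.Lib.Helper54

theorem sq_le_of_cube_le {p a b : ℕ} (hp : 0 < p) (h3 : p ^ (2 + 1) ≤ a) (h : a ≤ p * b) :
    p ^ 2 ≤ b := by
  have h1 : p * p ^ 2 ≤ p * b := by
    calc p * p ^ 2 = p ^ (2 + 1) := by ring
      _ ≤ a := h3
      _ ≤ p * b := h
  exact Nat.le_of_mul_le_mul_left h1 hp

/-- Let G be a minimal simple group of odd order, p a prime, A an abelian p-subgroup containing an elementary abelian subgroup of order p ^ 3 and lying in exactly one maximal subgroup, and B a noncyclic p-subgroup whose centralizer contains an elementary abelian subgroup of order p ^ 3. Then B lies in exactly one maximal subgroup of G. -/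
theorem result {G : Type*} [Group G] [Finite G] (hG : Cfsg.IsMinSimpleOddOrder G)
    (p : ℕ) [Fact p.Prime] (A B : Subgroup G) (hAp : IsPGroup p A) (hAc : IsMulCommutative A) (hA3 : ¬ Cfsg.PRankLE p 2 ↥A)
    (hAU : Cfsg.InUniqueMaximal A) (hBp : IsPGroup p B) (hBnc : ¬ IsCyclic B) (hB3 : ¬ Cfsg.PRankLE p 2 ↥(Subgroup.centralizer (B : Set G))) :
    Cfsg.InUniqueMaximal B := by
  have hp : p.Prime := Fact.out
  have hA1 : A ≠ ⊥ := ne_bot_of_not_pRankLE hp.pos hA3
  have hp2 : p ≠ 2 := ne_two_of_dvd_of_odd hG.1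
    ((dvd_card_of_isPGroup_ne_bot hAp hA1).trans (Subgroup.card_subgroup_dvd_card _))
  -- an elementary abelian subgroup of order `p ^ 3` centralizing `B`
  obtain ⟨E₃, hE₃C, hE₃c, hE₃exp, hE₃card⟩ :=
    exists_elemAb_of_not_pRankLE p 2 (Subgroup.centralizer (B : Set G)) hB3
  have hE₃p : IsPGroup p E₃ := isPGroup_of_exponent hE₃exp
  have hBE : IsPGroup p (E₃ ⊔ B : Subgroup G) :=
    IsPGroup.to_sup_of_normal_right' hE₃p hBp (hE₃C.trans (Subgroup.centralizer_le_normalizer _))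
  obtain ⟨PG, hPG⟩ := hBE.exists_le_sylow
  obtain ⟨P₂, hP₂⟩ := hAp.exists_le_sylow
  obtain ⟨g, hg⟩ := MulAction.exists_smul_eq G P₂ PG
  have hA'P : MulAut.conj g • A ≤ (PG : Subgroup G) := by
    rw [← hg, Sylow.smul_def, Sylow.pointwise_smul_def]
    exact conj_smul_le_conj_smul hP₂
  have hA'U := inUniqueMaximal_conj_smul hAU g
  obtain ⟨M', hM', hA'M', hu'⟩ := exists_forall_of_inUniqueMaximal hA'U
  have hA'3 : ¬ Cfsg.PRankLE p 2 ↥(MulAut.conj g • A : Subgroup G) :=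
    fun h => hA3 ((pRankLE_conj_smul_iff g A).mp h)
  have hA'c : ∀ x ∈ MulAut.conj g • A, ∀ y ∈ MulAut.conj g • A, x * y = y * x := by
    intro x hx y hy
    rw [mem_conj_smul_iff] at hx hy
    have h1 := congrArg Subtype.val (hAc.is_comm.comm ⟨_, hx⟩ ⟨_, hy⟩)
    have h2 : g⁻¹ * x * g * (g⁻¹ * y * g) = g⁻¹ * y * g * (g⁻¹ * x * g) := h1
    calc x * y = g * ((g⁻¹ * x * g) * (g⁻¹ * y * g)) * g⁻¹ := by group
      _ = g * ((g⁻¹ * y * g) * (g⁻¹ * x * g)) * g⁻¹ := by rw [h2]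
      _ = y * x := by group
  have hP3 : ¬ Cfsg.PRankLE p 2 ↥(PG : Subgroup G) := fun h => hA'3 (pRankLE_of_le hA'P h)
  obtain ⟨V, hVP, hVc, hVexp, hVcard, -, hVidx⟩ :=
    exists_normal_sq_centralizer (PG : Subgroup G) PG.isPGroup' hP3
  obtain ⟨A₀, hA₀A, hA₀c, hA₀exp, hA₀card⟩ :=
    exists_elemAb_of_not_pRankLE p 2 (MulAut.conj g • A) hA'3
  -- step 1: `C_{A₀}(V)`
  have hA₁card : p ^ 2 ≤ Nat.card ↥(A₀ ⊓ Subgroup.centralizer (V : Set G)) :=
    sq_le_of_cube_le hp.pos hA₀card (hVidx A₀ (hA₀A.trans hA'P))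
  have step1 := uniqueness_of_centralizing_elemAb hG (MulAut.conj g • A) M' hM' hu' p
    (A₀ ⊓ Subgroup.centralizer (V : Set G))
    (by
      intro x hx
      rw [Subgroup.mem_centralizer_iff]
      intro y hy
      exact hA'c y hy x (hA₀A hx.1))
    (fun x hx y hy => hA₀c x hx.1 y hy.1) (fun x hx => hA₀exp x hx.1) hA₁card
  -- step 2: `V`
  have step2 := uniqueness_of_centralizing_elemAb hG (A₀ ⊓ Subgroup.centralizer (V : Set G)) M' hM'
    step1.2 p V
    (by
      intro v hv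
      rw [Subgroup.mem_centralizer_iff]
      intro a ha
      exact (Subgroup.mem_centralizer_iff.mp ha.2 v hv).symm)
    hVc hVexp hVcard.ge
  -- step 3: `C_{E₃}(V)`
  have hE₃P : E₃ ≤ (PG : Subgroup G) := le_sup_left.trans hPG
  have hE₁card : p ^ 2 ≤ Nat.card ↥(E₃ ⊓ Subgroup.centralizer (V : Set G)) :=
    sq_le_of_cube_le hp.pos hE₃card (hVidx E₃ hE₃P)
  have step3 := uniqueness_of_centralizing_elemAb hG V M' hM' step2.2 p
    (E₃ ⊓ Subgroup.centralizer (V : Set G)) inf_le_right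
    (fun x hx y hy => hE₃c x hx.1 y hy.1) (fun x hx => hE₃exp x hx.1) hE₁card
  -- step 4: an elementary abelian subgroup of order `p ^ 2` of `B`
  obtain ⟨B₂, hB₂B, hB₂c, hB₂exp, hB₂card⟩ := exists_elemAb_sq_of_not_isCyclic hp2 B hBp hBnc
  have step4 := uniqueness_of_centralizing_elemAb hG (E₃ ⊓ Subgroup.centralizer (V : Set G)) M' hM'
    step3.2 p B₂
    (by
      intro b hb
      rw [Subgroup.mem_centralizer_iff]
      intro e he
      exact (Subgroup.mem_centralizer_iff.mp (hE₃C he.1) b (hB₂B hb)).symm)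
    hB₂c hB₂exp hB₂card
  -- `B` is proper
  have hBtop : B ≠ ⊤ := by
    intro hBt
    have hE₃1 : E₃ ≠ ⊥ := by
      rintro rfl
      rw [Subgroup.card_bot] at hE₃card
      have : 1 < p ^ (2 + 1) := Nat.one_lt_pow (by norm_num) hp.one_lt
      omega
    obtain ⟨⟨e, heE⟩, he⟩ := Subgroup.ne_bot_iff_exists_ne_one.mp hE₃1
    have he1 : e ≠ 1 := fun h' => he (Subtype.ext h')
    apply centralizer_singleton_ne_top hG.2.1 hG.2.2.1 he1
    rw [eq_top_iff]
    intro x _
    rw [Subgroup.mem_centralizer_singleton_iff]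
    exact (Subgroup.mem_centralizer_iff.mp (hE₃C heE) x (hBt ▸ Subgroup.mem_top x))
  exact inUniqueMaximal_mono (inUniqueMaximal_of_forall hM' step4.1 step4.2) hB₂B hBtop

end Cfsg.Agent.S1400
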