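import Cfsg.Statements.S1402
import Cfsg.Agent.Lib.Helper54.UqFinalB
import Cfsg.Agent.Lib.Helper54.UqFinalC
import Cfsg.Agent.Lib.Helper24.MinSimpleTransfer

set_option autoImplicit false
open Cfsg

namespace Cfsg.Agent.S1402

/-- Let G be a minimal simple group of odd order, p a prime, P a Sylow p-subgroup of G and A a normal subgroup of P with C_P(A) = A containing an elementary abelian subgroup of order p ^ 3. Then A lies in exactly one maximal subgroup of G. -/
theorem result {G : Type*} [Group G] [Finite G] (hG : Cfsg.IsMinSimpleOddOrder G)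
    (p : ℕ) [Fact p.Prime] (P : Sylow p G) (A : Subgroup G) (hA : Cfsg.IsSCN (P : Subgroup G) A) (hA3 : ¬ Cfsg.PRankLE p 2 ↥A) :
    Cfsg.InUniqueMaximal A := by
  have hp : p.Prime := Fact.out
  obtain ⟨hTH, hAp, hAc, -, -⟩ :=
    Cfsg.Agent.Lib.Helper54.scn_transitivity hG p P A hA hA3
  have hP1 : (P : Subgroup G) ≠ ⊥ := by
    intro h
    apply hTH.1
    rw [← le_bot_iff, ← h]
    exact hA.1
  have hTr := Cfsg.Agent.Lib.Helper24.exists_pSubgroup_le_commutator_normalizer hG p P hP1 A
    hA.1 hAc hA.2.1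
  refine Cfsg.Agent.Lib.Helper54.scn_three_unique_of_transfer hG p P A hA hA3 hTr ?_
  intro t _ htp L W T hLs hLodd hAL' hWL hLW hWcop hTW hTt hidx hAT hrank
  exact Cfsg.Agent.Lib.Helper54.le_centralizer_sylow_of_le_commutator p t htp L A W T hLs hLodd
    hAp hAL' hWL hLW hWcop hTW hTt hidx hAT hrank

end Cfsg.Agent.S1402
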