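import Cfsg.Statements.S1398
import Cfsg.Agent.Lib.Helper54.UqNine1
import Cfsg.Agent.S0058

set_option autoImplicit false
open Cfsg

namespace Cfsg.Agent.S1398

/-- Let G be a minimal simple group of odd order, M a maximal subgroup, p a prime, and B a noncyclic elementary abelian p-subgroup of M. If C_G(b) ≤ M for every non-identity b ∈ B, or if every subgroup of G of order coprime to p normalized by B is contained in M, then M is the only maximal subgroup of G containing B. -/
theorem result {G : Type*} [Group G] [Finite G] (hG : Cfsg.IsMinSimpleOddOrder G)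
    (M : Subgroup G) (hM : IsCoatom M) (p : ℕ) [Fact p.Prime] (B : Subgroup G) (hBM : B ≤ M)
    (hBe : Cfsg.IsElementaryAbelian p B) (hBnc : ¬ IsCyclic B)
    (h : (∀ b ∈ B, b ≠ 1 → Subgroup.centralizer ({b} : Set G) ≤ M) ∨
      ∀ Y ∈ Cfsg.invSubgroups ⊤ B (Cfsg.primesNotDvd p), Y ≤ M) :
    Cfsg.InUniqueMaximal B := by
  have hBp : IsPGroup p B := by
    intro b
    refine ⟨1, ?_⟩
    rw [pow_one]
    apply Subtype.ext
    simpa using hBe.2 b b.2
  have hB1 : B ≠ ⊥ := by
    rintro rfl
    exact hBnc inferInstance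
  have hBc : IsMulCommutative B := hBe.1
  apply Cfsg.Agent.Lib.Helper54.inUniqueMaximal_of_forall hM hBM
  apply Cfsg.Agent.Lib.Helper54.uniqueness_of_invariant_le hG M hM p B hBM hBp hB1
  intro Y hY hBY
  rcases h with h | h
  · have hcop : (Nat.card B).Coprime (Nat.card Y) := by
      obtain ⟨j, hj⟩ := hBp.exists_card_eq
      rw [hj]
      exact Nat.Coprime.pow_left j hY.symm
    have hgen := Cfsg.Agent.S0058.result B Y hBnc hBY hcop
    rw [← hgen]
    apply iSup_le
    intro b
    apply iSup_le
    rintro ⟨hbB, hb1⟩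
    exact inf_le_right.trans (h b hbB hb1)
  · apply h
    exact ⟨le_top, Cfsg.Agent.Lib.Helper54.primesNotDvd_of_coprime hY, hBY⟩

end Cfsg.Agent.S1398
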