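import Cfsg.Statements.S1395
import Cfsg.Agent.Lib.Helper54.BGSubnormal

set_option autoImplicit false
open Cfsg

namespace Cfsg.Agent.S1395

open scoped commutatorElement Pointwise
open Cfsg.Agent.Lib.Helper54

variable {G : Type*} [Group G]

/-- If `K` normalizes `H`, every element of `H ⊔ K` is a product `h * k`. -/
theorem exists_mul_of_mem_sup {H K : Subgroup G} (hK : K ≤ Subgroup.normalizer (H : Set G)) {x : G}
    (hx : x ∈ H ⊔ K) : ∃ h ∈ H, ∃ k ∈ K, x = h * k := by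
  let S : Subgroup G :=
    { carrier := {x | ∃ h ∈ H, ∃ k ∈ K, x = h * k}
      one_mem' := ⟨1, H.one_mem, 1, K.one_mem, by simp⟩
      mul_mem' := by
        rintro _ _ ⟨h, hh, k, hk, rfl⟩ ⟨h', hh', k', hk', rfl⟩
        refine ⟨h * (k * h' * k⁻¹), H.mul_mem hh ((Subgroup.mem_normalizer_iff.mp (hK hk) h').mp hh'),
          k * k', K.mul_mem hk hk', by group⟩
      inv_mem' := by
        rintro _ ⟨h, hh, k, hk, rfl⟩
        refine ⟨k⁻¹ * h⁻¹ * k⁻¹⁻¹, (Subgroup.mem_normalizer_iff.mp (hK (K.inv_mem hk)) h⁻¹).mp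
          (H.inv_mem hh), k⁻¹, K.inv_mem hk, by group⟩ }
  have h1 : H ⊔ K ≤ S := by
    apply sup_le
    · intro h hh; exact ⟨h, hh, 1, K.one_mem, by simp⟩
    · intro k hk; exact ⟨1, H.one_mem, k, hk, by simp⟩
  exact h1 hx

/-- The property carried along a subnormal chain from `A`. -/
def Good (A : Subgroup G) (q : ℕ) (B : Subgroup G) : Prop :=
  Cfsg.TransitivityHypothesis B ∧
    Cfsg.primesNotDvd (Nat.card B) = Cfsg.primesNotDvd (Nat.card A) ∧
    Cfsg.maxInvSubgroups ⊤ B {q} ⊆ Cfsg.maxInvSubgroups ⊤ A {q} ∧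
    Cfsg.piCoreOf (Cfsg.primesNotDvd (Nat.card A)) (Subgroup.centralizer (A : Set G)) ⊓
        Subgroup.centralizer (B : Set G) =
      Cfsg.piCoreOf (Cfsg.primesNotDvd (Nat.card A)) (Subgroup.centralizer (B : Set G)) ∧
    (∀ Q₁ ∈ Cfsg.maxInvSubgroups ⊤ B {q}, ∀ Q₂ ∈ Cfsg.maxInvSubgroups ⊤ B {q},
      ∃ k ∈ Cfsg.piCoreOf (Cfsg.primesNotDvd (Nat.card A)) (Subgroup.centralizer (B : Set G)),
        Q₂ = MulAut.conj k • Q₁)

theorem good_step [Finite G] (hs : IsSimpleGroup G)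
    (hsolv : ∀ H : Subgroup G, H ≠ ⊤ → Group.IsSolvable H) (q : ℕ) [Fact q.Prime]
    (A B C : Subgroup G) (hqA : ¬ q ∣ Nat.card A) (hgood : Good A q B) (_hAB : A ≤ B)
    (hBC : B ≤ C) (hCN : C ≤ Subgroup.normalizer (B : Set G)) (hC : C ≠ ⊤)
    (hπ : ∀ r : ℕ, r.Prime → r ∣ Nat.card C → r ∣ Nat.card A) : Good A q C := by
  obtain ⟨hTHB, hπB, hsubB, hKB, htrB⟩ := hgood
  have hqB : ¬ q ∣ Nat.card B := fun h => hqA ((dvd_iff_of_primesNotDvd_eq hπB Fact.out).mp h)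
  have hπ' : ∀ r : ℕ, r.Prime → r ∣ Nat.card C → r ∣ Nat.card B :=
    fun r hr h => (dvd_iff_of_primesNotDvd_eq hπB hr).mpr (hπ r hr h)
  obtain ⟨hTHC, hπC, hsubC, hKC, htrC⟩ := bg_normal_step hs hsolv q B C hqB hTHB
    (by rw [hπB]; exact htrB) hBC hCN hC hπ'
  rw [hπB] at hπC hKC htrC
  refine ⟨hTHC, hπC, hsubC.trans hsubB, ?_, htrC⟩
  rw [← hKC, ← hKB, inf_assoc, inf_eq_right.mpr (Subgroup.centralizer_le hBC)]

theorem good_self (A : Subgroup G) (q : ℕ) (hA : Cfsg.TransitivityHypothesis A)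
    (htr : ∀ Q₁ ∈ Cfsg.maxInvSubgroups ⊤ A {q}, ∀ Q₂ ∈ Cfsg.maxInvSubgroups ⊤ A {q},
      ∃ k ∈ Cfsg.piCoreOf (Cfsg.primesNotDvd (Nat.card A)) (Subgroup.centralizer (A : Set G)),
        Q₂ = MulAut.conj k • Q₁) : Good A q A :=
  ⟨hA, rfl, subset_rfl, inf_eq_left.mpr (piCoreOf_le _ _), htr⟩

theorem good_of_subnormal [Finite G] (hs : IsSimpleGroup G)
    (hsolv : ∀ H : Subgroup G, H ≠ ⊤ → Group.IsSolvable H) (q : ℕ) [Fact q.Prime]
    (A P : Subgroup G) (hqA : ¬ q ∣ Nat.card A) (hP : P ≠ ⊤)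
    (hPπ : ∀ r : ℕ, r.Prime → r ∣ Nat.card P → r ∣ Nat.card A) :
    ∀ B' : Subgroup P, B'.IsSubnormal → A ≤ B'.map P.subtype → Good A q (B'.map P.subtype) →
      Good A q P := by
  intro B' hB'
  induction hB' with
  | top =>
    intro _ h
    rwa [← MonoidHom.range_eq_map, Subgroup.range_subtype] at h
  | step H K h_le hSubn hN ih =>
    intro hAH hgood
    apply ih (hAH.trans (Subgroup.map_mono h_le))
    have hKP : K.map P.subtype ≤ P := Subgroup.map_subtype_le _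
    apply good_step hs hsolv q A (H.map P.subtype) (K.map P.subtype) hqA hgood hAH
      (Subgroup.map_mono h_le)
    · exact (Subgroup.map_mono ((Subgroup.normal_subgroupOf_iff_le_normalizer h_le).mp hN)).trans
        (Subgroup.le_normalizer_map _)
    · intro h
      exact hP (top_le_iff.mp (h ▸ hKP))
    · intro r hr hrd
      exact hPπ r hr (hrd.trans (Subgroup.card_dvd_of_le hKP))


/-- Let G be a minimal simple group of odd order, A a subgroup satisfying the transitivity hypothesis with K = O_{π(A)'}(C_G(A)), q a prime not dividing the order of A, and P a proper subgroup all of whose prime divisors divide the order of A, containing A as a subnormal subgroup, such that any two maximal A-invariant q-subgroups are conjugate under K. Then (a) K ∩ C_G(P) = O_{π(A)'}(C_G(P)); (b) any two maximal P-invariant q-subgroups are conjugate under O_{π(A)'}(C_G(P)); (c) every maximal P-invariant q-subgroup is a maximal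 A-invariant q-subgroup; (d) for every maximal P-invariant q-subgroup Q, P ∩ N_G(P)' ≤ N_G(Q)' and N_G(P) is generated by O_{π(A)'}(C_G(P)) and N_G(P) ∩ N_G(Q). -/
theorem result {G : Type*} [Group G] [Finite G] (hG : Cfsg.IsMinSimpleOddOrder G)
    (A : Subgroup G) (hA : Cfsg.TransitivityHypothesis A) (q : ℕ) (hq : q.Prime) (hqA : ¬ q ∣ Nat.card A)
    (P : Subgroup G) (hP : P ≠ ⊤) (hPπ : (∀ r : ℕ, r.Prime → r ∣ Nat.card P → r ∣ Nat.card A)) (hAP : A ≤ P) (hsn : (A.subgroupOf P).IsSubnormal)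
    (htr : ∀ Q₁ ∈ Cfsg.maxInvSubgroups ⊤ A {q}, ∀ Q₂ ∈ Cfsg.maxInvSubgroups ⊤ A {q}, ∃ k ∈ Cfsg.piCoreOf (Cfsg.primesNotDvd (Nat.card A)) (Subgroup.centralizer (A : Set G)), Q₂ = Q₁.map (MulAut.conj k).toMonoidHom) :
    Cfsg.piCoreOf (Cfsg.primesNotDvd (Nat.card A)) (Subgroup.centralizer (A : Set G)) ⊓ Subgroup.centralizer (P : Set G) = Cfsg.piCoreOf (Cfsg.primesNotDvd (Nat.card A)) (Subgroup.centralizer (P : Set G)) ∧
      (∀ Q₁ ∈ Cfsg.maxInvSubgroups ⊤ P {q}, ∀ Q₂ ∈ Cfsg.maxInvSubgroups ⊤ P {q}, ∃ k ∈ Cfsg.piCoreOf (Cfsg.primesNotDvd (Nat.card A)) (Subgroup.centralizer (P : Set G)), Q₂ = Q₁.map (MulAut.conj k).toMonoidHom) ∧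
      Cfsg.maxInvSubgroups ⊤ P {q} ⊆ Cfsg.maxInvSubgroups ⊤ A {q} ∧
      ∀ Q ∈ Cfsg.maxInvSubgroups ⊤ P {q},
        P ⊓ ⁅Subgroup.normalizer (P : Set G), Subgroup.normalizer (P : Set G)⁆ ≤ ⁅Subgroup.normalizer (Q : Set G), Subgroup.normalizer (Q : Set G)⁆ ∧
        Subgroup.normalizer (P : Set G) = Cfsg.piCoreOf (Cfsg.primesNotDvd (Nat.card A)) (Subgroup.centralizer (P : Set G)) ⊔ (Subgroup.normalizer (P : Set G) ⊓ Subgroup.normalizer (Q : Set G)) := by
  have hq' : Fact q.Prime := ⟨hq⟩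
  obtain ⟨-, hs, hnc, hsolv⟩ := hG
  have hgoodP : Good A q P := by
    apply good_of_subnormal hs hsolv q A P hqA hP hPπ (A.subgroupOf P) hsn
    · rw [Subgroup.map_subgroupOf_eq_of_le hAP]
    · rw [Subgroup.map_subgroupOf_eq_of_le hAP]
      exact good_self A q hA htr
  obtain ⟨hTHP, hπP, hsubP, hKP, htrP⟩ := hgoodP
  refine ⟨hKP, htrP, hsubP, ?_⟩
  intro Q hQ
  set π' : Set ℕ := Cfsg.primesNotDvd (Nat.card A) with hπ'
  set KP : Subgroup G := Cfsg.piCoreOf π' (Subgroup.centralizer (P : Set G)) with hKPdef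
  set N : Subgroup G := Subgroup.normalizer (P : Set G) with hN
  set N₁ : Subgroup G := N ⊓ Subgroup.normalizer (Q : Set G) with hN₁
  obtain ⟨hQq, hPQ⟩ := (mem_invSubgroups_iff P q).mp hQ.1
  have hKPN : KP ≤ N := (piCoreOf_le _ _).trans (Subgroup.centralizer_le_normalizer _)
  have hNKP : N ≤ Subgroup.normalizer (KP : Set G) :=
    normalizer_le_normalizer_piCoreOf_centralizer π' P
  -- decomposition `N = K_P N₁`
  have hdecomp : ∀ g ∈ N, ∃ k ∈ KP, ∃ n ∈ N₁, g = k * n := by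
    intro g hg
    have h1 := conj_mem_maxInvSubgroups' P q hg hQ
    obtain ⟨k, hk, hkg⟩ := htrP Q hQ _ h1
    refine ⟨k, hk, k⁻¹ * g, Subgroup.mem_inf.mpr ⟨N.mul_mem (N.inv_mem (hKPN hk)) hg, ?_⟩,
      by group⟩
    rw [mem_normalizer_iff_conj_smul, map_mul, mul_smul, hkg, map_inv, inv_smul_smul]
  have hPN₁ : P ≤ N₁ := le_inf Subgroup.le_normalizer hPQ
  constructor
  · -- `P ∩ N' ≤ N_G(Q)'`
    set W : Subgroup G := KP ⊔ ⁅N₁, N₁⁆ with hW
    have hKPW : KP ≤ W := le_sup_left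
    have hcommW : ⁅N, N⁆ ≤ W := by
      rw [Subgroup.commutator_le]
      intro g₁ hg₁ g₂ hg₂
      obtain ⟨k₁, hk₁, n₁, hn₁, rfl⟩ := hdecomp g₁ hg₁
      obtain ⟨k₂, hk₂, n₂, hn₂, rfl⟩ := hdecomp g₂ hg₂
      have hn₁N : n₁ ∈ N := hn₁.1
      have h1 : ⁅k₁, k₂ * n₂⁆ ∈ W := by
        apply hKPW
        have : ⁅k₁, k₂ * n₂⁆ = k₁ * ((k₂ * n₂) * k₁⁻¹ * (k₂ * n₂)⁻¹) := by
          rw [commutatorElement_def]; group
        rw [this]
        exact KP.mul_mem hk₁ ((Subgroup.mem_normalizer_iff.mp (hNKP hg₂) k₁⁻¹).mp (KP.inv_mem hk₁))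
      have h2 : ⁅n₁, k₂⁆ ∈ W := by
        apply hKPW
        have : ⁅n₁, k₂⁆ = (n₁ * k₂ * n₁⁻¹) * k₂⁻¹ := by rw [commutatorElement_def]
        rw [this]
        exact KP.mul_mem ((Subgroup.mem_normalizer_iff.mp (hNKP hn₁N) k₂).mp hk₂) (KP.inv_mem hk₂)
      have h3 : ⁅n₁, n₂⁆ ∈ W := le_sup_right (a := KP) (Subgroup.commutator_mem_commutator hn₁ hn₂)
      have h4 : ⁅n₁, k₂ * n₂⁆ ∈ W := by
        rw [commutatorElement_mul_right_eq_mul_conj]
        exact W.mul_mem (W.mul_mem (W.mul_mem h2 (hKPW hk₂)) h3) (W.inv_mem (hKPW hk₂))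
      rw [commutatorElement_mul_left_eq_conj_mul]
      exact W.mul_mem (W.mul_mem (W.mul_mem (hKPW hk₁) h4) (W.inv_mem (hKPW hk₁))) h1
    rintro x ⟨hxP, hxN⟩
    have hcomm_le : ⁅N₁, N₁⁆ ≤ N₁ := Subgroup.commutator_le_self N₁
    obtain ⟨k, hk, n, hn, hxkn⟩ := exists_mul_of_mem_sup
      (hcomm_le.trans (inf_le_left.trans hNKP)) (hcommW hxN)
    have hkN₁ : k ∈ N₁ := by
      have : k = x * n⁻¹ := by rw [hxkn]; group
      rw [this]
      exact N₁.mul_mem (hPN₁ hxP) (N₁.inv_mem (hcomm_le hn))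
    -- `k ^ |P| ∈ N₁'`
    have hkpow : k ^ Nat.card P ∈ ⁅N₁, N₁⁆ := by
      rw [← Subgroup.map_subtype_commutator]
      have hn' : (⟨n, hcomm_le hn⟩ : N₁) ∈ _root_.commutator N₁ := by
        have := hn
        rw [← Subgroup.map_subtype_commutator] at this
        obtain ⟨y, hy, hyn⟩ := this
        have : y = ⟨n, hcomm_le hn⟩ := Subtype.ext hyn
        rw [← this]; exact hy
      have hφn : (Abelianization.of (⟨n, hcomm_le hn⟩ : N₁) : Abelianization N₁) = 1 := by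
        rw [← MonoidHom.mem_ker, Abelianization.ker_of]; exact hn'
      have hxeq : (⟨x, hPN₁ hxP⟩ : N₁) = ⟨k, hkN₁⟩ * ⟨n, hcomm_le hn⟩ := Subtype.ext hxkn
      have hφx : (Abelianization.of (⟨x, hPN₁ hxP⟩ : N₁) : Abelianization N₁) =
          Abelianization.of (⟨k, hkN₁⟩ : N₁) := by
        rw [hxeq, map_mul, hφn, mul_one]
      have hxpow : x ^ Nat.card P = 1 := by
        have h5 : (⟨x, hxP⟩ : P) ^ Nat.card P = 1 := pow_card_eq_one'
        have h6 := congrArg Subtype.val h5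
        rwa [Subgroup.coe_pow, Subgroup.coe_one] at h6
      have hφk : (Abelianization.of ((⟨k, hkN₁⟩ : N₁) ^ Nat.card P) : Abelianization N₁) = 1 := by
        rw [map_pow, ← hφx, ← map_pow]
        have : (⟨x, hPN₁ hxP⟩ : N₁) ^ Nat.card P = 1 := Subtype.ext (by simpa using hxpow)
        rw [this, map_one]
      rw [← MonoidHom.mem_ker, Abelianization.ker_of] at hφk
      exact ⟨_, hφk, by simp⟩
    have hcopk : (orderOf k).Coprime (Nat.card P) := by
      have h1 : (Nat.card KP).Coprime (Nat.card P) := by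
        apply Nat.coprime_of_dvd
        intro r hr hrK hrP
        exact (piCoreOf_isPi π' _ r hr hrK).2 (hPπ r hr hrP)
      have h2 : orderOf k ∣ Nat.card KP := by
        have := orderOf_dvd_natCard (⟨k, hk⟩ : KP)
        rwa [Subgroup.orderOf_mk] at this
      exact Nat.Coprime.coprime_dvd_left h2 h1
    have hkcomm : k ∈ ⁅N₁, N₁⁆ := mem_of_pow_mem_of_coprime hkpow hcopk
    have hxcomm : x ∈ ⁅N₁, N₁⁆ := by rw [hxkn]; exact Subgroup.mul_mem _ hkcomm hn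
    exact Subgroup.commutator_mono inf_le_right inf_le_right hxcomm
  · -- `N = K_P (N ∩ N_G(Q))`
    apply le_antisymm
    · intro g hg
      obtain ⟨k, hk, n, hn, rfl⟩ := hdecomp g hg
      exact Subgroup.mul_mem_sup hk hn
    · exact sup_le hKPN inf_le_left

end Cfsg.Agent.S1395
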