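import Cfsg.Statements.S1453
import Cfsg.Agent.Lib.Helper24.SCN

set_option autoImplicit false
set_option linter.unusedSectionVars false
open Cfsg

namespace Cfsg.Agent.S1453

open scoped commutatorElement
open Cfsg.Agent.Lib.Helper24

/-- `Ω₁(Z(R))`. -/
abbrev omZ (p : ℕ) (R : Type*) [Group R] : Subgroup R :=
  Subgroup.closure {x : R | x ∈ Subgroup.center R ∧ x ^ p = 1}

/-- `Ω₁(Z₂(R))`. -/
abbrev omW (p : ℕ) (R : Type*) [Group R] : Subgroup R :=
  Subgroup.closure {x : R | x ∈ Subgroup.upperCentralSeries R 2 ∧ x ^ p = 1}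

theorem mem_omZ {R : Type*} [Group R] (p : ℕ) (g : R) :
    g ∈ omZ p R ↔ g ∈ Subgroup.center R ∧ g ^ p = 1 := by
  constructor
  · intro hg
    have hle : omZ p R ≤ Subgroup.center R := by
      rw [Subgroup.closure_le]
      intro x hx
      exact hx.1
    refine ⟨hle hg, ?_⟩
    have := (elemAb_closure p {x : R | x ∈ Subgroup.center R ∧ x ^ p = 1} (by
      intro s hs t _
      have := hs.1
      rw [Subgroup.mem_center_iff] at this
      exact (this t).symm) (fun s hs => hs.2)).2
    exact this g hg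
  · intro hg
    exact Subgroup.subset_closure hg

theorem omZ_le_center {R : Type*} [Group R] (p : ℕ) : omZ p R ≤ Subgroup.center R :=
  fun _ hg => ((mem_omZ p _).mp hg).1

theorem mem_Z2 {R : Type*} [Group R] (x : R) :
    x ∈ Subgroup.upperCentralSeries R 2 ↔ ∀ r : R, ⁅x, r⁆ ∈ Subgroup.center R := by
  rw [show (2 : ℕ) = 1 + 1 from rfl, Subgroup.mem_upperCentralSeries_succ_iff,
    Subgroup.upperCentralSeries_one]

/-- If `x ∈ Z₂(R)` and `x ^ p = 1` then all `⁅x, r⁆` lie in `Ω₁(Z(R))`. -/
theorem comm_mem_omZ {R : Type*} [Group R] (p : ℕ) (x : R)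
    (hx : x ∈ Subgroup.upperCentralSeries R 2) (hxp : x ^ p = 1) (r : R) : ⁅x, r⁆ ∈ omZ p R := by
  rw [mem_omZ]
  have hc : ⁅x, r⁆ ∈ Subgroup.center R := (mem_Z2 x).mp hx r
  refine ⟨hc, ?_⟩
  have hc' : ⁅r, x⁆ ∈ Subgroup.center R := by
    rw [← commutatorElement_inv]; exact Subgroup.inv_mem _ hc
  have hcomm : Commute ⁅r, x⁆ x := by
    rw [Subgroup.mem_center_iff] at hc'
    exact (hc' x).symm
  have h1 := commutatorElement_pow_right_of_commute x r hcomm p
  rw [hxp, commutatorElement_one_right] at h1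
  rw [← commutatorElement_inv, inv_pow, ← h1, inv_one]

theorem omW_le_Z2 {R : Type*} [Group R] (p : ℕ) : omW p R ≤ Subgroup.upperCentralSeries R 2 := by
  rw [Subgroup.closure_le]
  intro x hx
  exact hx.1

/-- `Ω₁(Z₂(R))` has exponent `p` for odd `p`. -/
theorem omW_pow {R : Type*} [Group R] (p : ℕ) [Fact p.Prime] (hp : p ≠ 2) (w : R)
    (hw : w ∈ omW p R) : w ^ p = 1 := by
  apply pow_eq_one_of_closure p hp (omZ p R) {x : R | x ∈ Subgroup.upperCentralSeries R 2 ∧ x ^ p = 1}
    (fun c hc => ((mem_omZ p c).mp hc).2) (fun s hs => hs.2)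
    (fun s hs t _ => comm_mem_omZ p s hs.1 hs.2 t) _ w hw
  intro c hc f _
  have := omZ_le_center p hc
  rw [Subgroup.mem_center_iff] at this
  exact (this f).symm

theorem comm_mem_omZ_of_mem_omW {R : Type*} [Group R] (p : ℕ) [Fact p.Prime] (hp : p ≠ 2) (w : R)
    (hw : w ∈ omW p R) (r : R) : ⁅w, r⁆ ∈ omZ p R :=
  comm_mem_omZ p w (omW_le_Z2 p hw) (omW_pow p hp w hw) r

theorem omZ_le_omW {R : Type*} [Group R] (p : ℕ) : omZ p R ≤ omW p R := by
  intro g hg
  rw [mem_omZ] at hg
  apply Subgroup.subset_closure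
  refine ⟨?_, hg.2⟩
  rw [mem_Z2]
  intro r
  have : ⁅g, r⁆ = 1 := by
    rw [commutatorElement_eq_one_iff_mul_comm]
    have h := hg.1
    rw [Subgroup.mem_center_iff] at h
    exact (h r).symm
  rw [this]; exact Subgroup.one_mem _

instance omZ_normal {R : Type*} [Group R] (p : ℕ) : (omZ p R).Normal := by
  constructor
  intro n hn g
  have := omZ_le_center p hn
  rw [Subgroup.mem_center_iff] at this
  have e : g * n * g⁻¹ = n := by rw [this g]; group
  rw [e]; exact hn

/-- `Ω₁(Z₂(R))` is characteristic. -/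
theorem omW_characteristic {R : Type*} [Group R] (p : ℕ) : (omW p R).Characteristic := by
  rw [Subgroup.characteristic_iff_map_le]
  intro φ
  rw [MonoidHom.map_closure, Subgroup.closure_le]
  rintro _ ⟨x, hx, rfl⟩
  apply Subgroup.subset_closure
  constructor
  · have hc : (Subgroup.upperCentralSeries R 2).Characteristic := inferInstance
    have := (Subgroup.characteristic_iff_map_le.mp hc φ)
    exact this ⟨x, hx.1, rfl⟩
  · show (φ x) ^ p = 1
    rw [← map_pow, hx.2, map_one]

section main

variable {R : Type*} [Group R] [Finite R] (p : ℕ) [hpp : Fact p.Prime] (hp : p ≠ 2)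
  (hR : IsPGroup p R) (hr : ¬ Cfsg.PRankLE p 2 R)
  (E : Subgroup R) (hE : Cfsg.IsElementaryAbelian p E) (hE2 : Nat.card E = p ^ 2)
  (hEmax : ∀ B : Subgroup R, Cfsg.IsElementaryAbelian p B → E ≤ B → B = E)

include hE hEmax in
/-- Maximality of `E`: an element of order dividing `p` centralizing `E` lies in `E`. -/
theorem mem_of_centralizes (g : R) (hg : g ∈ Subgroup.centralizer (E : Set R)) (hgp : g ^ p = 1) :
    g ∈ E := by
  have h := elemAb_adjoin p E hE.1 hE.2 g hg hgp
  have := hEmax _ h (le_adjoin E g)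
  rw [← this]
  exact mem_adjoin E g

include hE hEmax in
theorem omZ_le_E : omZ p R ≤ E := by
  intro g hg
  rw [mem_omZ] at hg
  apply mem_of_centralizes p E hE hEmax g _ hg.2
  rw [Subgroup.mem_centralizer_iff]
  intro e _
  have h := hg.1
  rw [Subgroup.mem_center_iff] at h
  exact h e

include hr in
theorem exists_big : ∃ B₀ : Subgroup R, IsMulCommutative B₀ ∧ (∀ b ∈ B₀, b ^ p = 1) ∧
    p ^ 2 < Nat.card B₀ := by
  unfold Cfsg.PRankLE at hr
  rw [not_forall] at hr
  obtain ⟨B₀, hB₀⟩ := hr
  rw [Classical.not_imp, Classical.not_imp, not_le] at hB₀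
  exact ⟨B₀, hB₀⟩

include hR hr in
theorem omZ_ne_bot : omZ p R ≠ ⊥ := by
  obtain ⟨B₀, -, -, hcard⟩ := exists_big p hr
  have hnt : Nontrivial R := by
    by_contra h
    rw [not_nontrivial_iff_subsingleton] at h
    have : Nat.card B₀ ≤ 1 := Finite.card_le_one_iff_subsingleton.mpr inferInstance
    have := hpp.out.one_lt
    have : 1 < p ^ 2 := Nat.one_lt_pow (by norm_num) this
    omega
  have hcn : Nontrivial (Subgroup.center R) := hR.center_nontrivial
  have hcp : IsPGroup p (Subgroup.center R) := hR.to_subgroup _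
  obtain ⟨n, hn⟩ := hcp.exists_card_eq
  have hn0 : n ≠ 0 := by
    rintro rfl
    rw [pow_zero] at hn
    have := Finite.one_lt_card (α := Subgroup.center R)
    omega
  have hdvd : p ∣ Nat.card (Subgroup.center R) := by
    rw [hn]; exact dvd_pow_self p hn0
  obtain ⟨z, hz⟩ := exists_prime_orderOf_dvd_card' (G := Subgroup.center R) p hdvd
  intro hbot
  have hzmem : (z : R) ∈ omZ p R := by
    rw [mem_omZ]
    refine ⟨z.2, ?_⟩
    have : z ^ p = 1 := by rw [← hz]; exact pow_orderOf_eq_one z
    have := congrArg Subtype.val this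
    simpa using this
  rw [hbot, Subgroup.mem_bot] at hzmem
  have : z = 1 := Subtype.ext hzmem
  rw [this, orderOf_one] at hz
  exact hpp.out.one_lt.ne hz

include hr hE hE2 hEmax in
theorem omZ_ne_E : omZ p R ≠ E := by
  intro heq
  obtain ⟨B₀, hB₀c, hB₀p, hcard⟩ := exists_big p hr
  have hBE : B₀ ≤ E := by
    intro b hb
    apply mem_of_centralizes p E hE hEmax b _ (hB₀p b hb)
    rw [Subgroup.mem_centralizer_iff]
    intro e he
    rw [← heq] at he
    have h := omZ_le_center p he
    rw [Subgroup.mem_center_iff] at h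
    exact (h b).symm
  have := Subgroup.card_le_of_le hBE
  omega

include hR hr hE hE2 hEmax in
theorem card_omZ : Nat.card (omZ p R) = p := by
  have hle := omZ_le_E p E hE hEmax
  apply eq_prime_of_dvd_sq hpp.out
  · rw [← hE2]; exact Subgroup.card_dvd_of_le hle
  · intro h
    rw [Subgroup.card_eq_one] at h
    exact omZ_ne_bot p hR hr h
  · intro h
    apply omZ_ne_E p hr E hE hE2 hEmax
    exact Subgroup.eq_of_le_of_card_ge hle (by rw [h, hE2])

include hp hR hr hE hE2 hEmax in
/-- `E` is not contained in `W = Ω₁(Z₂(R))`. -/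
theorem not_E_le_omW : ¬ E ≤ omW p R := by
  intro hEW
  -- then `E` is normal
  have hEn : E.Normal := by
    constructor
    intro e he r
    have h1 : ⁅e, r⁻¹⁆ ∈ omZ p R := comm_mem_omZ_of_mem_omW p hp e (hEW he) r⁻¹
    have h2 : ⁅r, e⁆ ∈ E := by
      have : ⁅r, e⁆ = ⁅e, r⁻¹⁆ := by
        have hc := omZ_le_center p h1
        rw [Subgroup.mem_center_iff] at hc
        have : r * ⁅e, r⁻¹⁆ * r⁻¹ = ⁅e, r⁻¹⁆ := by rw [hc r]; group
        rw [← this]; simp [commutatorElement_def]; group
      rw [this]; exact omZ_le_E p E hE hEmax h1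
    have e' : r * e * r⁻¹ = ⁅r, e⁆ * e := by rw [commutatorElement_def]; group
    rw [e']; exact E.mul_mem h2 he
  obtain ⟨B₀, hB₀c, hB₀p, hcard⟩ := exists_big p hr
  obtain ⟨x, hxB, hxT, hxE⟩ := exists_mem_centralizer_not_mem p hR E hE2 B₀ hB₀c hcard
  exact hxE (mem_of_centralizes p E hE hEmax x hxT (hB₀p x hxB))

include hp hR hr hE hE2 hEmax in
theorem card_omW_le : Nat.card (omW p R) ≤ p ^ 2 := by
  by_contra hcon
  rw [not_le] at hcon
  -- pick `e ∈ E`, `e ∉ Ω₁(Z(R))`
  have hZE := omZ_le_E p E hE hEmax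
  have hne := omZ_ne_E p hr E hE hE2 hEmax
  have hEZ : ¬ E ≤ omZ p R := fun h => hne (le_antisymm hZE h)
  obtain ⟨e, heE, heZ⟩ := SetLike.not_le_iff_exists.mp hEZ
  have hZp := card_omZ p hR hr E hE hE2 hEmax
  -- `E = ⟨Ω₁(Z), e⟩`
  have hEeq : Subgroup.closure (((omZ p R : Subgroup R) : Set R) ∪ {e}) = E := by
    have hle : Subgroup.closure (((omZ p R : Subgroup R) : Set R) ∪ {e}) ≤ E := by
      rw [Subgroup.closure_le]
      rintro g (hg | hg)
      · exact hZE hg
      · rw [Set.mem_singleton_iff] at hg; subst hg; exact heE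
    have hlt := card_lt_card_adjoin (omZ p R) e heZ
    have hd : Nat.card (Subgroup.closure (((omZ p R : Subgroup R) : Set R) ∪ {e})) ∣ p ^ 2 := by
      rw [← hE2]; exact Subgroup.card_dvd_of_le hle
    apply Subgroup.eq_of_le_of_card_ge hle
    rw [hE2]
    by_contra hcon2
    have h1 : Nat.card (Subgroup.closure (((omZ p R : Subgroup R) : Set R) ∪ {e})) ≠ 1 := by
      have := hpp.out.one_lt
      omega
    have h2 : Nat.card (Subgroup.closure (((omZ p R : Subgroup R) : Set R) ∪ {e})) ≠ p ^ 2 := by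
      intro h; rw [h] at hcon2; exact hcon2 le_rfl
    have := eq_prime_of_dvd_sq hpp.out hd h1 h2
    omega
  -- the commutator homomorphism on `W`
  have hdvd := card_dvd_card_centralizer_mul (omW p R) (omZ p R) (omZ_le_center p) e
    (fun w hw => comm_mem_omZ_of_mem_omW p hp w hw e)
  rw [hZp] at hdvd
  -- `C_W(e) ≤ E`
  have hKE : omW p R ⊓ Subgroup.centralizer ({e} : Set R) ≤ E := by
    intro g hg
    obtain ⟨hgW, hge⟩ := Subgroup.mem_inf.mp hg
    apply mem_of_centralizes p E hE hEmax g _ (omW_pow p hp g hgW)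
    rw [← hEeq, centralizer_adjoin]
    refine Subgroup.mem_inf.mpr ⟨?_, hge⟩
    rw [Subgroup.mem_centralizer_iff]
    intro c hc
    have := omZ_le_center p hc
    rw [Subgroup.mem_center_iff] at this
    exact (this g).symm
  have hKd : Nat.card (omW p R ⊓ Subgroup.centralizer ({e} : Set R) : Subgroup R) ∣ p ^ 2 := by
    rw [← hE2]; exact Subgroup.card_dvd_of_le hKE
  have hKpos : 0 < Nat.card (omW p R ⊓ Subgroup.centralizer ({e} : Set R) : Subgroup R) :=
    Nat.card_pos
  have hle := Nat.le_of_dvd (Nat.mul_pos hKpos hpp.out.pos) hdvd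
  have hKgt : p < Nat.card (omW p R ⊓ Subgroup.centralizer ({e} : Set R) : Subgroup R) := by
    by_contra hc
    rw [not_lt] at hc
    have : Nat.card (omW p R ⊓ Subgroup.centralizer ({e} : Set R) : Subgroup R) * p ≤ p * p :=
      Nat.mul_le_mul_right p hc
    have : p * p = p ^ 2 := by ring
    omega
  have hK2 : Nat.card (omW p R ⊓ Subgroup.centralizer ({e} : Set R) : Subgroup R) = p ^ 2 := by
    by_contra hne2
    have h1 : Nat.card (omW p R ⊓ Subgroup.centralizer ({e} : Set R) : Subgroup R) ≠ 1 := by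
      have := hpp.out.one_lt
      omega
    have := eq_prime_of_dvd_sq hpp.out hKd h1 hne2
    omega
  have hKeq : omW p R ⊓ Subgroup.centralizer ({e} : Set R) = E :=
    Subgroup.eq_of_le_of_card_ge hKE (by rw [hK2, hE2])
  apply not_E_le_omW p hp hR hr E hE hE2 hEmax
  rw [← hKeq]; exact inf_le_left

include hp hR hr hE hE2 hEmax in
theorem card_omW_gt : p < Nat.card (omW p R) := by
  have hZE := omZ_le_E p E hE hEmax
  have hne := omZ_ne_E p hr E hE hE2 hEmax
  have hEZ : ¬ E ≤ omZ p R := fun h => hne (le_antisymm hZE h)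
  obtain ⟨e, heE, heZ⟩ := SetLike.not_le_iff_exists.mp hEZ
  have hZab : omZ p R ≤ Subgroup.centralizer ((omZ p R : Subgroup R) : Set R) := by
    intro g hg
    rw [Subgroup.mem_centralizer_iff]
    intro c _
    have := omZ_le_center p hg
    rw [Subgroup.mem_center_iff] at this
    exact this c
  have heT : e ∈ Subgroup.centralizer ((omZ p R : Subgroup R) : Set R) := by
    rw [Subgroup.mem_centralizer_iff]
    intro c hc
    have := omZ_le_center p hc
    rw [Subgroup.mem_center_iff] at this
    exact (this e).symm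
  obtain ⟨y, -, hyZ, hyp, hyc⟩ := normal_replacement p hp hR (omZ p R)
    (fun c hc => ((mem_omZ p c).mp hc).2) hZab e heT heZ (hE.2 e heE)
  have hyW : y ∈ omW p R := by
    apply Subgroup.subset_closure
    refine ⟨?_, hyp⟩
    rw [mem_Z2]
    intro r
    exact omZ_le_center p (hyc r)
  have hlt : Nat.card (omZ p R) < Nat.card (omW p R) := by
    apply card_lt_of_le_of_ne (omZ_le_omW p)
    intro h
    apply hyZ
    rw [h]; exact hyW
  rw [card_omZ p hR hr E hE hE2 hEmax] at hlt
  exact hlt

include hp hR hr hE hE2 hEmax in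
theorem card_omW : Nat.card (omW p R) = p ^ 2 := by
  have h1 := card_omW_le p hp hR hr E hE hE2 hEmax
  have h2 := card_omW_gt p hp hR hr E hE hE2 hEmax
  have hW : IsPGroup p (omW p R) := hR.to_subgroup _
  obtain ⟨n, hn⟩ := hW.exists_card_eq
  rw [hn] at h1 h2 ⊢
  have hp1 := hpp.out.one_lt
  have hn2 : n ≤ 2 := (Nat.pow_le_pow_iff_right hp1).mp h1
  have hn1 : 1 < n := by
    have : p ^ 1 < p ^ n := by simpa using h2
    exact (Nat.pow_lt_pow_iff_right hp1).mp this
  have : n = 2 := by omega
  rw [this]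

include hp hR hr hE hE2 hEmax in
theorem omW_comm : IsMulCommutative (omW p R) := by
  exact IsPGroup.isMulCommutative_of_card_eq_prime_sq (card_omW p hp hR hr E hE hE2 hEmax)

include hp hR hr hE hE2 hEmax in
theorem index_centralizer_omW :
    (Subgroup.centralizer ((omW p R : Subgroup R) : Set R)).index = p := by
  have hcW := card_omW p hp hR hr E hE hE2 hEmax
  have hcZ := card_omZ p hR hr E hE hE2 hEmax
  -- pick `w ∈ W`, `w ∉ Ω₁(Z)`
  have hWZ : ¬ omW p R ≤ omZ p R := by
    intro h
    have := Subgroup.card_le_of_le h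
    rw [hcW, hcZ] at this
    have hp1 := hpp.out.one_lt
    have h3 : p ^ 1 < p ^ 2 := Nat.pow_lt_pow_right hp1 (by norm_num)
    rw [pow_one] at h3
    omega
  obtain ⟨w, hwW, hwZ⟩ := SetLike.not_le_iff_exists.mp hWZ
  -- `W = ⟨Ω₁(Z), w⟩`
  have hWeq : Subgroup.closure (((omZ p R : Subgroup R) : Set R) ∪ {w}) = omW p R := by
    have hle : Subgroup.closure (((omZ p R : Subgroup R) : Set R) ∪ {w}) ≤ omW p R := by
      rw [Subgroup.closure_le]
      rintro g (hg | hg)
      · exact omZ_le_omW p hg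
      · rw [Set.mem_singleton_iff] at hg; subst hg; exact hwW
    have hlt := card_lt_card_adjoin (omZ p R) w hwZ
    have hd : Nat.card (Subgroup.closure (((omZ p R : Subgroup R) : Set R) ∪ {w})) ∣ p ^ 2 := by
      rw [← hcW]; exact Subgroup.card_dvd_of_le hle
    apply Subgroup.eq_of_le_of_card_ge hle
    rw [hcW]
    by_contra hcon2
    have h1 : Nat.card (Subgroup.closure (((omZ p R : Subgroup R) : Set R) ∪ {w})) ≠ 1 := by
      have := hpp.out.one_lt
      omega
    have h2 : Nat.card (Subgroup.closure (((omZ p R : Subgroup R) : Set R) ∪ {w})) ≠ p ^ 2 := by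
      intro h; rw [h] at hcon2; exact hcon2 le_rfl
    have := eq_prime_of_dvd_sq hpp.out hd h1 h2
    omega
  -- `C(W) = C(w)`
  have hcent : Subgroup.centralizer ((omW p R : Subgroup R) : Set R) =
      Subgroup.centralizer ({w} : Set R) := by
    rw [← hWeq, centralizer_adjoin]
    apply inf_eq_right.mpr
    intro g _
    rw [Subgroup.mem_centralizer_iff]
    intro c hc
    have := omZ_le_center p hc
    rw [Subgroup.mem_center_iff] at this
    exact (this g).symm
  rw [hcent]
  have hdvd := card_dvd_card_centralizer_mul (⊤ : Subgroup R) (omZ p R) (omZ_le_center p) w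
    (fun r _ => by
      have h1 : ⁅w, r⁆ ∈ omZ p R := comm_mem_omZ_of_mem_omW p hp w hwW r
      rw [← commutatorElement_inv]
      exact Subgroup.inv_mem _ h1)
  rw [hcZ, top_inf_eq, Subgroup.card_top] at hdvd
  have hmul := (Subgroup.centralizer ({w} : Set R)).card_mul_index
  rw [← hmul] at hdvd
  have hidx : (Subgroup.centralizer ({w} : Set R)).index ∣ p :=
    Nat.dvd_of_mul_dvd_mul_left Nat.card_pos hdvd
  rcases (Nat.dvd_prime hpp.out).mp hidx with h | h
  · exfalso
    rw [Subgroup.index_eq_one] at h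
    apply hwZ
    rw [mem_omZ]
    refine ⟨?_, omW_pow p hp w hwW⟩
    rw [Subgroup.mem_center_iff]
    intro g
    have : g ∈ Subgroup.centralizer ({w} : Set R) := by rw [h]; trivial
    rw [Subgroup.mem_centralizer_singleton_iff] at this
    exact this
  · exact h

include hp hR hr hE hE2 hEmax in
theorem not_E_le_centralizer_omW :
    ¬ E ≤ Subgroup.centralizer ((omW p R : Subgroup R) : Set R) := by
  intro hET
  -- then `W ≤ E` by maximality
  have hWE : omW p R ≤ E := by
    intro w hw
    apply mem_of_centralizes p E hE hEmax w _ (omW_pow p hp w hw)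
    rw [Subgroup.mem_centralizer_iff]
    intro e he
    have := hET he
    rw [Subgroup.mem_centralizer_iff] at this
    exact (this w hw).symm
  have : omW p R = E := Subgroup.eq_of_le_of_card_ge hWE (by
    rw [card_omW p hp hR hr E hE hE2 hEmax, hE2])
  apply not_E_le_omW p hp hR hr E hE hE2 hEmax
  rw [this]

end main

/-- Let p be an odd prime and R a finite p-group with an elementary abelian subgroup of order p ^ 3 and an elementary abelian subgroup E of order p ^ 2 contained in no larger elementary abelian subgroup. Let Z₂ be the second centre of R, W the subgroup generated by the elements of Z₂ of order dividing p, and T = C_R(W). Then E is not contained in T; the elements of order dividing p of the centre of R generate a group of order p; W is elementary abelian of order p ^ 2; and T is characteristic in R of index p. -/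
theorem result {R : Type*} [Group R] [Finite R] (p : ℕ) [Fact p.Prime] (hp : p ≠ 2) (hR : IsPGroup p R) (hr : ¬ Cfsg.PRankLE p 2 R)
    (E : Subgroup R) (hE : Cfsg.IsElementaryAbelian p E) (hE2 : Nat.card E = p ^ 2)
    (hEmax : ∀ B : Subgroup R, Cfsg.IsElementaryAbelian p B → E ≤ B → B = E) :
    ¬ E ≤ Subgroup.centralizer ((Subgroup.closure {x : R | x ∈ Subgroup.upperCentralSeries R 2 ∧ x ^ p = 1} : Subgroup R) : Set R) ∧
      Nat.card ↥(Subgroup.closure {x : R | x ∈ Subgroup.center R ∧ x ^ p = 1}) = p ∧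
      (Cfsg.IsElementaryAbelian p (Subgroup.closure {x : R | x ∈ Subgroup.upperCentralSeries R 2 ∧ x ^ p = 1}) ∧
        Nat.card ↥(Subgroup.closure {x : R | x ∈ Subgroup.upperCentralSeries R 2 ∧ x ^ p = 1}) = p ^ 2) ∧
      (Subgroup.centralizer ((Subgroup.closure {x : R | x ∈ Subgroup.upperCentralSeries R 2 ∧ x ^ p = 1} : Subgroup R) : Set R)).Characteristic ∧
      (Subgroup.centralizer ((Subgroup.closure {x : R | x ∈ Subgroup.upperCentralSeries R 2 ∧ x ^ p = 1} : Subgroup R) : Set R)).index = p := by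
  refine ⟨not_E_le_centralizer_omW p hp hR hr E hE hE2 hEmax, card_omZ p hR hr E hE hE2 hEmax,
    ⟨⟨omW_comm p hp hR hr E hE hE2 hEmax, fun w hw => omW_pow p hp w hw⟩,
      card_omW p hp hR hr E hE hE2 hEmax⟩, ?_, index_centralizer_omW p hp hR hr E hE hE2 hEmax⟩
  have := omW_characteristic (R := R) p
  exact Subgroup.characteristic_centralizer

end Cfsg.Agent.S1453
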