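import Cfsg.Statements.S0539
import Cfsg.Agent.Lib.Helper9.Subnormal

set_option autoImplicit false
open Pointwise
open Cfsg

namespace Cfsg.Agent.S0539

open Cfsg.Agent.Lib.Helper9

theorem isSubnormal_sSup {G : Type*} [Group G] [Finite G] (T : Set (Subgroup G))
    (hT : ∀ U ∈ T, U.IsSubnormal) : (sSup T : Subgroup G).IsSubnormal := by
  classical
  have key : ∀ s : Finset (Subgroup G), (∀ U ∈ s, U.IsSubnormal) →
      (sSup (s : Set (Subgroup G)) : Subgroup G).IsSubnormal := by
    intro s
    induction s using Finset.induction_on with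
    | empty => intro _; simp
    | insert a s ha ih =>
      intro h
      rw [Finset.coe_insert, sSup_insert]
      exact isSubnormal_sup _ G rfl _ _ (h a (Finset.mem_insert_self a s))
        (ih (fun U hU => h U (Finset.mem_insert_of_mem hU)))
  have h1 := key T.toFinite.toFinset (fun U hU => hT U (by simpa using hU))
  rwa [Set.Finite.coe_toFinset] at h1

theorem mem_normalizer_iff_conj_smul_eq {G : Type*} [Group G] (x : G) (W : Subgroup G) :
    x ∈ Subgroup.normalizer (W : Set G) ↔ MulAut.conj x • W = W :=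
  mem_normalizer_iff_map_conj_eq x W

/-- If every element of the subgroup `X` conjugates `W` into itself, then `X` normalizes `W`. -/
theorem le_normalizer_of_forall_conj_smul_le {G : Type*} [Group G] (X W : Subgroup G)
    (h : ∀ x ∈ X, MulAut.conj x • W ≤ W) : X ≤ Subgroup.normalizer (W : Set G) := by
  intro x hx
  rw [mem_normalizer_iff_conj_smul_eq]
  apply le_antisymm (h x hx)
  rw [Subgroup.subset_pointwise_smul_iff, ← map_inv]
  exact h x⁻¹ (X.inv_mem hx)

theorem core {G : Type*} [Group G] (S S₀ : Set (Subgroup G))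
    (hconj : ∀ U ∈ S, ∀ g : G, MulAut.conj g • U ∈ S) (h₀ : S₀ ⊂ S) (H : Subgroup G)
    (hH : H.IsSubnormal) :
    sSup S₀ ≤ H → (S₀ ⊂ {U ∈ S | U ≤ H} →
      ∃ X ∈ S, X ∉ S₀ ∧ X ≤ Subgroup.normalizer ((sSup S₀ : Subgroup G) : Set G)) →
      ∃ X ∈ S, X ∉ S₀ ∧ X ≤ Subgroup.normalizer ((sSup S₀ : Subgroup G) : Set G) := by
  induction hH with
  | top =>
    intro _ hR
    apply hR
    have : {U ∈ S | U ≤ (⊤ : Subgroup G)} = S := by ext U; simp
    rw [this]; exact h₀
  | step H K hle hK hN ih =>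
    intro hWH hR
    apply ih (hWH.trans hle)
    intro hK'
    have hsub : S₀ ⊆ {U ∈ S | U ≤ H} := fun U hU => ⟨h₀.1 hU, (le_sSup hU).trans hWH⟩
    by_cases hstrict : S₀ ⊂ {U ∈ S | U ≤ H}
    · exact hR hstrict
    · have heq : S₀ = {U ∈ S | U ≤ H} := by
        by_contra hne
        exact hstrict (LE.le.ssubset_of_ne hsub hne)
      obtain ⟨X, hXK, hXS₀⟩ := Set.exists_of_ssubset hK'
      refine ⟨X, hXK.1, hXS₀, ?_⟩
      apply le_normalizer_of_forall_conj_smul_le
      intro x hx
      rw [Subgroup.pointwise_smul_subset_iff]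
      apply sSup_le
      intro U hU
      rw [← Subgroup.pointwise_smul_subset_iff]
      apply le_sSup
      rw [heq] at hU ⊢
      refine ⟨hconj U hU.1 x, ?_⟩
      have hxK : x ∈ K := hXK.2 hx
      have hxn : x ∈ Subgroup.normalizer (H : Set G) :=
        (Subgroup.normal_subgroupOf_iff_le_normalizer hle).1 hN hxK
      rw [mem_normalizer_iff_conj_smul_eq] at hxn
      calc MulAut.conj x • U ≤ MulAut.conj x • H :=
            Subgroup.pointwise_smul_le_pointwise_smul_iff.2 hU.2
        _ = H := hxn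

/-- Let S be a family of subnormal subgroups of a finite group that is closed under conjugation, and S₀ a proper subfamily. Then some member of S not in S₀ normalizes the join of S₀. -/
theorem result {G : Type*} [Group G] [Finite G] (S S₀ : Set (Subgroup G)) (hS : ∀ U ∈ S, U.IsSubnormal) (hconj : ∀ U ∈ S, ∀ g : G, MulAut.conj g • U ∈ S) (h₀ : S₀ ⊂ S) : ∃ X ∈ S, X ∉ S₀ ∧ X ≤ Subgroup.normalizer ((sSup S₀ : Subgroup G) : Set G) := by
  have hW : (sSup S₀ : Subgroup G).IsSubnormal :=
    isSubnormal_sSup S₀ (fun U hU => hS U (h₀.1 hU))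
  apply core S S₀ hconj h₀ (sSup S₀) hW le_rfl
  intro hlt
  obtain ⟨X, hX, hXS₀⟩ := Set.exists_of_ssubset hlt
  exact ⟨X, hX.1, hXS₀, hX.2.trans Subgroup.le_normalizer⟩

end Cfsg.Agent.S0539
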