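import Cfsg.Statements.S1444
import Cfsg.Agent.Lib.Helper9.BG36Main
import Cfsg.Agent.Lib.Helper91.BG36Final

set_option autoImplicit false
open Cfsg

namespace Cfsg.Agent.S1444

/-- Let G be a solvable group of odd order, H a normal subgroup of order coprime to its index, R a complement to H in G, and R₀ ≤ R a subgroup of prime order such that every Sylow subgroup of H ∩ C_G(R₀) is cyclic. Then for every prime p the commutator subgroup [H, R] satisfies [H,R] = O_{p',p,p'}([H,R]). -/
theorem result {G : Type*} [Group G] [Finite G] [Group.IsSolvable G] (hodd : Odd (Nat.card G)) (H R R₀ : Subgroup G) [H.Normal] (hHall : (Nat.card H).Coprime H.index)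
    (hR : Subgroup.IsComplement' H R) (hR₀ : R₀ ≤ R) (hR₀p : (Nat.card R₀).Prime) (hZ : IsZGroup ↥(H ⊓ Subgroup.centralizer (R₀ : Set G)))
    (p : ℕ) [Fact p.Prime] :
    Cfsg.PLengthLE p 1 ↥⁅H, R⁆ := by
  have hidx : H.index = Nat.card R := hR.symm.index_eq_card
  have hcop : (Nat.card H).Coprime (Nat.card R) := hidx ▸ hHall
  have : Fact (Nat.card R₀).Prime := ⟨hR₀p⟩
  have hcyc : IsCyclic ↥R₀ := isCyclic_of_prime_card rfl
  obtain ⟨g, hg⟩ := hcyc.exists_generator
  have hord : orderOf (g : G) = Nat.card R₀ := by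
    rw [Subgroup.orderOf_coe]; exact orderOf_eq_card_of_forall_mem_zpowers hg
  have hR₀eq : R₀ = Subgroup.zpowers (g : G) := by
    apply le_antisymm
    · intro y hy
      obtain ⟨k, hk⟩ := Subgroup.mem_zpowers_iff.mp (hg ⟨y, hy⟩)
      rw [Subgroup.mem_zpowers_iff]
      exact ⟨k, by simpa using congrArg Subtype.val hk⟩
    · exact Subgroup.zpowers_le.mpr g.2
  have hcent : Subgroup.centralizer (R₀ : Set G) = Subgroup.centralizer ({(g : G)} : Set G) := by
    conv_lhs => rw [hR₀eq]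
    exact Cfsg.Agent.Lib.Helper9.centralizer_zpowers_eq (g : G)
  have hZ' : IsZGroup ↥(H ⊓ Subgroup.centralizer ({(g : G)} : Set G)) := hcent ▸ hZ
  have hB : Cfsg.Agent.Lib.Helper9.ModuleB :=
    fun G _ _ hodd _ _ _ hp hq hr hpq hpr hqr V W P x hx hVab hVp hWab hWq hP hWV hPV hxV hPW hxW
      hxP hfaith hPncW hCVx hCWx hCPx hPirr hWirr hCVW =>
    Cfsg.Agent.Lib.Helper91.final_case hodd hp hq hr hpq hpr hqr V W P x hx hVab hVp hWab hWq hP
      hWV hPV hxV hPW hxW hxP hfaith hPncW hCVx hCWx hCPx hPirr hWirr hCVW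
  exact Cfsg.Agent.Lib.Helper9.bg36 hB hodd hR₀p H R (g : G)
    (Cfsg.Agent.Lib.Helper9.le_normalizer_of_normal' inferInstance R) hcop (hR₀ g.2) hord hZ'

end Cfsg.Agent.S1444
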