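import Cfsg.Statements.S1448
import Mathlib
import Cfsg.Agent.Lib.Helper24.Blackburn6
import Cfsg.Agent.Lib.Helper24.RankTwoGen
import Cfsg.Agent.Lib.Helper24.RankTwoPrelude
-- import your own Cfsg.Agent.* helpers here

set_option autoImplicit false
open Cfsg

namespace Cfsg.Agent.S1448

open Cfsg.Agent.Lib.Helper24
open scoped commutatorElement


/-- Let G be a finite group, p an odd prime, R a nontrivial p-subgroup with no elementary abelian subgroup of order p ^ 3, and A a subgroup of odd order coprime to p normalizing R with [R, A] = R. Then 3 < p, and either R is abelian or R is generated by two elementwise-commuting subgroups R₁, R₂ with R₁ non-abelian of order p ^ 3 and exponent p, R₂ cyclic, and the elements of R₂ of order dividing p generating exactly [R₁, R₁]. -/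
theorem result {G : Type*} [Group G] [Finite G] (p : ℕ) [Fact p.Prime] (hp : p ≠ 2) (R A : Subgroup G) (hR : IsPGroup p R) (hR1 : R ≠ ⊥) (hr : Cfsg.PRankLE p 2 R)
    (hA : (A ≤ Subgroup.normalizer (R : Set G))) (hcop : (Nat.card A).Coprime p) (hAodd : Odd (Nat.card A)) (hRA : ⁅R, A⁆ = R) :
    3 < p ∧ (IsMulCommutative R ∨ ∃ R₁ R₂ : Subgroup G, R₁ ⊔ R₂ = R ∧ (∀ a ∈ R₁, ∀ b ∈ R₂, a * b = b * a) ∧
        ¬ IsMulCommutative R₁ ∧ Nat.card R₁ = p ^ 3 ∧ Monoid.exponent R₁ = p ∧ IsCyclic R₂ ∧
        Subgroup.closure {x : G | x ∈ R₂ ∧ x ^ p = 1} = ⁅R₁, R₁⁆) := by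
  have hpp : p.Prime := Fact.out
  have hrank : RankLETwo p R := rankLETwo_of_pRankLE p R hr
  -- `3 < p`
  have hp3 : 3 < p := by
    by_contra hlt
    have hp3' : p = 3 := by
      have := hpp.two_le
      omega
    apply hR1
    have hcen : ∀ a ∈ A, ∀ r ∈ R, a * r = r * a := by
      intro a ha r hr'
      apply centralizes_of_rankLETwo_of_coprime_card_GL2 p hp a ?_ R hR hrank (hA ha) r hr'
      have hdvd : orderOf a ∣ Nat.card A := by
        have := orderOf_dvd_natCard (⟨a, ha⟩ : A)
        rwa [Subgroup.orderOf_mk] at this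
      have h2 : (orderOf a).Coprime 2 :=
        Nat.Coprime.coprime_dvd_left hdvd hAodd.coprime_two_right
      have h3 : (orderOf a).Coprime 3 := by
        rw [← hp3']
        exact Nat.Coprime.coprime_dvd_left hdvd hcop
      have h48 : (p ^ 2 - 1) * (p ^ 2 - p) = 2 ^ 4 * 3 := by rw [hp3']; norm_num
      rw [h48]
      exact Nat.Coprime.mul_right (Nat.Coprime.pow_right 4 h2) h3
    rw [← hRA, Subgroup.commutator_eq_bot_iff_le_centralizer]
    intro r hr'
    rw [Subgroup.mem_centralizer_iff]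
    intro a ha
    exact hcen a ha r hr'
  refine ⟨hp3, ?_⟩
  -- the action of `A` on `R`
  let φ : ↥A →* MulAut ↥R := (Subgroup.normalizerMonoidHom R).comp (Subgroup.inclusion hA)
  have hφ : ∀ (a : A) (k : ↥R), ((φ a k : ↥R) : G) = (a : G) * (k : G) * (a : G)⁻¹ :=
    fun a k => rfl
  have hgen : Subgroup.closure {k : ↥R | ∃ a y, k = φ a y * y⁻¹} = ⊤ := by
    rw [eq_top_iff]
    have hle : ⁅R, A⁆ ≤
        (Subgroup.closure {k : ↥R | ∃ a y, k = φ a y * y⁻¹}).map R.subtype := by
      rw [Subgroup.commutator_le]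
      intro k hk a ha
      have h1 : ⁅k, a⁆⁻¹ ∈
          (Subgroup.closure {k : ↥R | ∃ a y, k = φ a y * y⁻¹}).map R.subtype := by
        refine ⟨φ ⟨a, ha⟩ ⟨k, hk⟩ * (⟨k, hk⟩ : ↥R)⁻¹,
          Subgroup.subset_closure ⟨⟨a, ha⟩, ⟨k, hk⟩, rfl⟩, ?_⟩
        rw [commutatorElement_inv, commutatorElement_def]
        simp [hφ]
      have h2 := inv_mem h1
      rwa [inv_inv] at h2
    rintro x -
    have hx : (x : G) ∈ ⁅R, A⁆ := by rw [hRA]; exact x.2
    obtain ⟨y, hy, hyx⟩ := hle hx
    have : y = x := Subtype.ext hyx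
    rw [← this]
    exact hy
  rcases blackburn_core p hp3 hR hr φ hcop hAodd hgen with hcomm | ⟨c, hEC⟩
  · left
    exact ⟨⟨hcomm⟩⟩
  · right
    obtain ⟨h1, h2, h3, h4, h5, h6, h7⟩ := c.conclusion hp hR hEC
    have hinj := R.subtype_injective
    refine ⟨c.E.map R.subtype, c.C.map R.subtype, ?_, ?_, ?_, ?_, ?_, ?_, ?_⟩
    · rw [← Subgroup.map_sup, h1, ← MonoidHom.range_eq_map, Subgroup.range_subtype]
    · rintro _ ⟨a, ha, rfl⟩ _ ⟨b, hb, rfl⟩
      rw [← map_mul, ← map_mul, h2 a ha b hb]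
    · intro hc
      apply h3
      intro a ha b hb
      have h8 := mul_comm' (⟨R.subtype a, Subgroup.mem_map_of_mem _ ha⟩ : ↥(c.E.map R.subtype))
        ⟨R.subtype b, Subgroup.mem_map_of_mem _ hb⟩
      have h9 := congrArg Subtype.val h8
      apply hinj
      simpa using h9
    · rw [Subgroup.card_map_of_injective hinj, h4]
    · have hdvd : Monoid.exponent ↥(c.E.map R.subtype) ∣ p := by
        apply Monoid.exponent_dvd_of_forall_pow_eq_one
        rintro ⟨_, ⟨a, ha, rfl⟩⟩
        apply Subtype.ext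
        rw [Subgroup.coe_pow, Subgroup.coe_one]
        show R.subtype a ^ p = 1
        rw [← map_pow, h5 a ha, map_one]
      rcases (Nat.dvd_prime hpp).mp hdvd with h | h
      · exfalso
        have hss := Monoid.exp_eq_one_iff.mp h
        have hc1 : Nat.card ↥(c.E.map R.subtype) = 1 := Nat.card_eq_one_iff_unique.mpr
          ⟨hss, ⟨1⟩⟩
        rw [Subgroup.card_map_of_injective hinj, h4] at hc1
        have : 1 < p ^ 3 := Nat.one_lt_pow (by norm_num) hpp.one_lt
        omega
      · exact h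
    · have e := Subgroup.equivMapOfInjective c.C R.subtype hinj
      exact isCyclic_of_surjective e e.surjective
    · rw [← Subgroup.map_commutator, ← h7, MonoidHom.map_closure]
      congr 1
      ext x
      constructor
      · rintro ⟨⟨a, ha, rfl⟩, hx⟩
        refine ⟨a, ⟨ha, ?_⟩, rfl⟩
        apply hinj
        rw [map_pow, map_one]
        exact hx
      · rintro ⟨a, ⟨ha, hap⟩, rfl⟩
        refine ⟨Subgroup.mem_map_of_mem _ ha, ?_⟩
        rw [← map_pow, hap, map_one]

end Cfsg.Agent.S1448
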