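import Cfsg.Statements.S1416
import Cfsg.Agent.Lib.Helper51.BGTwelveMain
import Cfsg.Agent.Lib.Helper68.BGElevenFinal
import Cfsg.Agent.S1403
import Cfsg.Agent.S1406
import Cfsg.Agent.S1410
import Cfsg.Agent.S1411
import Cfsg.Agent.S1412

set_option autoImplicit false
open Cfsg

namespace Cfsg.Agent.S1416

/-- Let G be a minimal simple group of odd order, M a maximal subgroup, p a prime and A ≤ M elementary abelian of order p ^ 2. Then C_G(A) ≤ M. If moreover for every subgroup A₀ of A of order p, M is not the unique maximal subgroup containing N_G(A₀), then p ∈ σ(M), M_α = 1 and M_σ is nilpotent. -/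
theorem result {G : Type*} [Group G] [Finite G] (hG : Cfsg.IsMinSimpleOddOrder G)
    (M : Subgroup G) (hM : IsCoatom M) (p : ℕ) [Fact p.Prime] (A : Subgroup G) (hA : (A ≤ M ∧ Cfsg.IsElementaryAbelian p A ∧ Nat.card A = p ^ 2)) :
    Subgroup.centralizer (A : Set G) ≤ M ∧
      ((∀ A₀ : Subgroup G, A₀ ≤ A → Nat.card A₀ = p →
          ¬ (Subgroup.normalizer (A₀ : Set G) ≤ M ∧ ∀ L : Subgroup G, IsCoatom L → Subgroup.normalizer (A₀ : Set G) ≤ L → L = M)) →
        p ∈ Cfsg.sigma M ∧ Cfsg.alphaCore M = ⊥ ∧ Group.IsNilpotent (Cfsg.sigmaCore M)) := by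
  have hU : Cfsg.Agent.Lib.Helper34.UniquenessThm G :=
    fun K hK h1 h3 => Cfsg.Agent.S1403.result hG K hK h1 h3
  have hPL : ∀ (q : ℕ) [Fact q.Prime] (H : Subgroup G), H ≠ ⊤ → Cfsg.PLengthLE q 1 H :=
    fun q _ H hH => Cfsg.Agent.S1410.result hG q H hH
  have h1411 : ∀ (r : ℕ) [Fact r.Prime] (P : Sylow r G), (P : Subgroup G) ≤
      ⁅Subgroup.normalizer ((P : Subgroup G) : Set G),
        Subgroup.normalizer ((P : Subgroup G) : Set G)⁆ := by
    intro r _ P
    obtain ⟨V, hV⟩ := Cfsg.Agent.Lib.Helper68.exists_isComplIn_sylow_normalizer P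
    exact (Cfsg.Agent.S1411.result hG r P V hV).2
  have h1412 : ∀ (r : ℕ) [Fact r.Prime], Cfsg.Agent.Lib.Helper55.BGEleven.S1412Stmt G r :=
    fun r _ S hr => Cfsg.Agent.S1412.result hG r S hr
  have h117 : Cfsg.Agent.Lib.Helper51.BG12.H117 G :=
    fun M p _ A₀ A hexc =>
      Cfsg.Agent.Lib.Helper68.exc_normal hG hU hPL h1411 h1412 M p A₀ A hexc
  exact Cfsg.Agent.Lib.Helper51.BG12.s1416_of hG hU h117 hPL
    (fun M hM X hXM hXα hr => Cfsg.Agent.S1406.result hG M hM X hXM hXα hr) M hM p A hA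

end Cfsg.Agent.S1416
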