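import Cfsg.Statements.S1415
import Cfsg.Agent.S1405
import Cfsg.Agent.Lib.Helper34.SigmaCompl
import Cfsg.Agent.Lib.Helper54.BGTransitivity

set_option autoImplicit false
open Cfsg

namespace Cfsg.Agent.S1415

/-- Let G be a minimal simple group of odd order, M a maximal subgroup and E a complement to M_σ in M. Then the derived subgroup E' is nilpotent; every Hall τ₁(M)-subgroup of E is cyclic; and every Hall τ₃(M)-subgroup E₃ of E is cyclic, contained in E' and normal in E. -/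
theorem result {G : Type*} [Group G] [Finite G] (hG : Cfsg.IsMinSimpleOddOrder G)
    (M : Subgroup G) (hM : IsCoatom M) (E : Subgroup G) (hE : Cfsg.IsComplIn E (Cfsg.sigmaCore M) M) :
    Group.IsNilpotent ↥⁅E, E⁆ ∧
      (∀ E₁ : Subgroup G, Cfsg.IsPiHallOf (Cfsg.tau1 M) E₁ E → IsCyclic E₁) ∧
      ∀ E₃ : Subgroup G, Cfsg.IsPiHallOf (Cfsg.tau3 M) E₃ E → IsCyclic E₃ ∧ E₃ ≤ ⁅E, E⁆ ∧ E ≤ Subgroup.normalizer (E₃ : Set G) := by
  have hodd : Odd (Nat.card G) := hG.1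
  obtain ⟨_, _, hασ, _, hnilα⟩ := Cfsg.Agent.S1405.result hG M hM
  have hSn : M ≤ Subgroup.normalizer ((Cfsg.sigmaCore M : Subgroup G) : Set G) :=
    Cfsg.Agent.Lib.Helper54.le_normalizer_piCoreOf (Cfsg.sigma M) M
  have hnil : Group.IsNilpotent ↥⁅E, E⁆ :=
    Cfsg.Agent.Lib.Helper34.isNilpotent_commutator_of_isComplIn hE
      (Cfsg.piCore (Cfsg.alpha M) ↥M) hασ hnilα
  obtain ⟨h1, h3⟩ := Cfsg.Agent.Lib.Helper34.sigma_compl_structure hodd hE hSn hnil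
    (Cfsg.tau1 M) (Cfsg.tau3 M)
    (fun p hp => ⟨hp.2.2.2.2, hp.2.2.2.1⟩) (fun p hp => ⟨hp.2.2.2, hp.2.2.1⟩)
  exact ⟨hnil, h1, h3⟩

end Cfsg.Agent.S1415
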