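import Cfsg.Statements.S1455
import Cfsg.Agent.S1450
import Cfsg.Agent.Lib.Helper24.OddSolvableStructure
import Cfsg.Agent.Lib.Helper55.Cores
import Cfsg.Agent.Lib.Helper63.PLen3
import Cfsg.Agent.Lib.Helper67.NarrowApply

set_option autoImplicit false
open Cfsg

namespace Cfsg.Agent.S1455

open Cfsg.Agent.Lib.Helper24 Cfsg.Agent.Lib.Helper63 Cfsg.Agent.Lib.Helper67

/-- Let G be a solvable group of odd order, p a prime dividing its order, and S a Sylow p-subgroup of G that is narrow; if S has an elementary abelian subgroup of order p ^ 3 assume also G = O_{p',p,p'}(G). Then every prime dividing the index of O_{p'}(G) is at most p; if p = 3 or p is the smallest prime divisor of #G then G has a normal p-complement; G' has a normal p-complement; every subgroup of G' of order coprime to p lies in O_{p'}(G'); and G' ≤ O_{p',p}(G) with the index of O_{p',p}(G) coprime to p. -/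
theorem result {G : Type*} [Group G] [Finite G] [Group.IsSolvable G] (hodd : Odd (Nat.card G)) (p : ℕ) [Fact p.Prime] (hpG : p ∣ Nat.card G) (S : Sylow p G) (hS : Cfsg.IsNarrow p ↥(S : Subgroup G))
    (hpl : ¬ Cfsg.PRankLE p 2 ↥(S : Subgroup G) → Cfsg.PLengthLE p 1 G) :
    (∀ q : ℕ, q.Prime → q ∣ (Cfsg.pPrimeCore p G).index → q ≤ p) ∧
      ((p = 3 ∨ ∀ q : ℕ, q.Prime → q ∣ Nat.card G → p ≤ q) → Cfsg.HasNormalPComplement p G) ∧
      Cfsg.HasNormalPComplement p ↥(commutator G) ∧
      (∀ L : Subgroup ↥(commutator G), (Nat.card L).Coprime p → L ≤ Cfsg.pPrimeCore p ↥(commutator G)) ∧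
      commutator G ≤ Cfsg.pPrimePCore p G ∧ ((Cfsg.pPrimePCore p G).index).Coprime p := by
  have hpp : Fact p.Prime := inferInstance
  have hp2 : p ≠ 2 := by
    rintro rfl
    exact (Nat.not_even_iff_odd.mpr hodd) (even_iff_two_dvd.mpr hpG)
  by_cases hr : Cfsg.PRankLE p 2 ↥(S : Subgroup G)
  · exact Cfsg.Agent.S1450.result hodd p hpG (pRankLE_of_sylow p 2 S hr)
  have hl := hpl hr
  have hK : (Nat.card (pPrimeCore p G)).Coprime p :=
    Cfsg.Agent.Lib.Helper55.card_pPrimeCore_coprime p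
  have hlq : PLengthLE p 1 (G ⧸ pPrimeCore p G) :=
    Cfsg.Agent.Lib.Helper63.PLengthLE.quotient hl (pPrimeCore p G)
  have hcore : pPrimeCore p (G ⧸ pPrimeCore p G) = ⊥ :=
    Cfsg.Agent.Lib.Helper55.pPrimeCore_quotient_pPrimeCore p
  have hl0 : PLengthLE p 0 ((G ⧸ pPrimeCore p G) ⧸ pCore p (G ⧸ pPrimeCore p G)) :=
    plen_quotient_pCore hlq hcore
  have hidx : ((pCore p (G ⧸ pPrimeCore p G)).index).Coprime p := by
    obtain ⟨V, hV, htop⟩ := (pLengthLE_iff 0).1 hl0
    have h1 := hV.even 0 ⟨0, rfl⟩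
    rw [hV.zero] at h1
    have htop' : V 1 = ⊤ := htop
    rw [show (0 + 1 : ℕ) = 1 from rfl, htop', Subgroup.relIndex_bot_left, Subgroup.card_top] at h1
    rwa [Subgroup.index_eq_card]
  -- the image of S is O_p(G / O_{p'}(G))
  let Sb : Sylow p (G ⧸ pPrimeCore p G) :=
    S.mapSurjective (QuotientGroup.mk'_surjective (pPrimeCore p G))
  have hSb : (Sb : Subgroup (G ⧸ pPrimeCore p G)) =
      (S : Subgroup G).map (QuotientGroup.mk' (pPrimeCore p G)) := rfl
  have hPp : IsPGroup p (pCore p (G ⧸ pPrimeCore p G)) :=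
    Cfsg.Agent.Lib.Helper55.isPGroup_pCore p
  have hPle : pCore p (G ⧸ pPrimeCore p G) ≤ (Sb : Subgroup (G ⧸ pPrimeCore p G)) :=
    hPp.le_sylow_of_normal Sb
  have hSle : (Sb : Subgroup (G ⧸ pPrimeCore p G)) ≤ pCore p (G ⧸ pPrimeCore p G) := by
    rw [← Subgroup.relIndex_eq_one]
    have h1 : (pCore p (G ⧸ pPrimeCore p G)).relIndex (Sb : Subgroup (G ⧸ pPrimeCore p G)) ∣
        (pCore p (G ⧸ pPrimeCore p G)).index := Subgroup.relIndex_dvd_index_of_le hPle
    have h2 : (pCore p (G ⧸ pPrimeCore p G)).relIndex (Sb : Subgroup (G ⧸ pPrimeCore p G)) ∣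
        Nat.card (Sb : Subgroup (G ⧸ pPrimeCore p G)) := Subgroup.relIndex_dvd_card _ _
    obtain ⟨b, hb⟩ := Sb.2.exists_card_eq
    rw [hb] at h2
    have h3 : ((pCore p (G ⧸ pPrimeCore p G)).relIndex
        (Sb : Subgroup (G ⧸ pPrimeCore p G))).Coprime (p ^ b) :=
      Nat.Coprime.pow_right b (Nat.Coprime.coprime_dvd_left h1 hidx)
    exact Nat.Coprime.eq_one_of_dvd h3 h2
  have hSeq : (S : Subgroup G).map (QuotientGroup.mk' (pPrimeCore p G)) =
      pCore p (G ⧸ pPrimeCore p G) := by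
    rw [← hSb]; exact le_antisymm hSle hPle
  -- the embedding
  let ι : ↥(S : Subgroup G) →* G ⧸ pPrimeCore p G :=
    (QuotientGroup.mk' (pPrimeCore p G)).comp (S : Subgroup G).subtype
  have hιrange : ι.range = pCore p (G ⧸ pPrimeCore p G) := by
    rw [← hSeq]
    show ((QuotientGroup.mk' (pPrimeCore p G)).comp (S : Subgroup G).subtype).range = _
    rw [MonoidHom.range_comp, Subgroup.range_subtype]
  have hιinj : Function.Injective ι := by
    rw [injective_iff_map_eq_one]
    intro s hs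
    have h1 : (s : G) ∈ pPrimeCore p G := (QuotientGroup.eq_one_iff (s : G)).mp hs
    have hcop : (Nat.card (S : Subgroup G)).Coprime (Nat.card (pPrimeCore p G)) := by
      obtain ⟨n, hn⟩ := S.2.exists_card_eq
      rw [hn]
      exact Nat.Coprime.pow_left n hK.symm
    have h2 : (S : Subgroup G) ⊓ pPrimeCore p G = ⊥ :=
      disjoint_iff.mp (Subgroup.disjoint_of_coprime_natCard hcop)
    have h3 : (s : G) ∈ (S : Subgroup G) ⊓ pPrimeCore p G := Subgroup.mem_inf.mpr ⟨s.2, h1⟩
    rw [h2, Subgroup.mem_bot] at h3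
    exact Subtype.ext h3
  have hn : ι.range.Normal := by
    rw [hιrange]
    exact Cfsg.Agent.Lib.Helper55.pCore_normal' p
  apply odd_solvable_structure p hodd
  · intro x hx hcop r hr'
    rw [← hιrange] at hr'
    obtain ⟨s, rfl⟩ := hr'
    exact narrow_commutator_centralizes p hp2 S.2 hS hr ι hιinj hn x hx hcop s
  · intro x hxp hlt r hr'
    rw [← hιrange] at hr'
    obtain ⟨s, rfl⟩ := hr'
    exact narrow_prime_gt_centralizes p hp2 S.2 hS hr ι hιinj hn x hxp hlt s

end Cfsg.Agent.S1455
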