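import Cfsg.Statements.S1422
-- import your own Cfsg.Agent.* helpers here
import Cfsg.Agent.Lib.Helper30.BGNonab2
import Cfsg.Agent.S1403
import Cfsg.Agent.S1412
import Cfsg.Agent.S1416
import Cfsg.Agent.S1420

set_option autoImplicit false
open Cfsg

namespace Cfsg.Agent.S1422

/-- Let G be a minimal simple group of odd order, p a prime and P a non-abelian p-subgroup of G. Then P lies in exactly one maximal subgroup of G. -/
theorem result {G : Type*} [Group G] [Finite G] (hG : Cfsg.IsMinSimpleOddOrder G) (p : ℕ) [Fact p.Prime] (P : Subgroup G) (hP : IsPGroup p P) (hPna : ¬ IsMulCommutative P) :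
    Cfsg.InUniqueMaximal P := by
  have hU : Cfsg.Agent.Lib.Helper34.UniquenessThm G :=
    fun K hK h1 h3 => Cfsg.Agent.S1403.result hG K hK h1 h3
  refine Cfsg.Agent.Lib.Helper30.BGNonab2.s1422_of' hG hU ?_ ?_ ?_ ?_ p P hP hPna
  · intro q _ S hr
    exact Cfsg.Agent.S1412.result hG q S hr
  · intro M hM q _ A hAM hAe hAc h
    exact ((Cfsg.Agent.S1416.result hG M hM q A ⟨hAM, hAe, hAc⟩).2 h).2.2
  · intro M hM E hE
    exact (Cfsg.Agent.S1420.result hG M hM E hE).1
  · intro M hM E hE
    exact (Cfsg.Agent.S1420.result hG M hM E hE).2.2.1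

end Cfsg.Agent.S1422
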