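import Cfsg.Statements.S1428
import Cfsg.Agent.S1403
import Cfsg.Agent.S1406
import Cfsg.Agent.S1411
import Cfsg.Agent.S1414
import Cfsg.Agent.S1416
import Cfsg.Agent.S1417
import Cfsg.Agent.S1418
import Cfsg.Agent.S1424
import Cfsg.Agent.S1427
import Cfsg.Agent.Lib.Helper10.BGThirteenFinal
import Cfsg.Agent.Lib.Helper68.BG108

set_option autoImplicit false
open Cfsg

namespace Cfsg.Agent.S1428

/-- Let G be a minimal simple group of odd order, M a maximal subgroup, E a complement to M_σ in M, p ∈ τ₁(M), P ≤ E a subgroup of order p, and R a subgroup of prime order of E ∩ C_G(P). Then M_σ ∩ C_G(P) ≤ M_σ ∩ C_G(R). -/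
theorem result {G : Type*} [Group G] [Finite G] (hG : Cfsg.IsMinSimpleOddOrder G)
    (M : Subgroup G) (hM : IsCoatom M) (E : Subgroup G) (hE : Cfsg.IsComplIn E (Cfsg.sigmaCore M) M) (p : ℕ) (hp : p ∈ Cfsg.tau1 M) (P : Subgroup G) (hPE : P ≤ E) (hP : Nat.card P = p)
    (R : Subgroup G) (hRE : R ≤ E ⊓ Subgroup.centralizer (P : Set G)) (hR : (Nat.card R).Prime) :
    Cfsg.sigmaCore M ⊓ Subgroup.centralizer (P : Set G) ≤ Cfsg.sigmaCore M ⊓ Subgroup.centralizer (R : Set G) := by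
  have hU : Cfsg.Agent.Lib.Helper34.UniquenessThm G :=
    fun K hK h1 h2 => Cfsg.Agent.S1403.result hG K hK h1 h2
  exact Cfsg.Agent.Lib.Helper10.BG13.s1428_of hG hU
    (fun M hM X hXM hXα hr => Cfsg.Agent.S1406.result hG M hM X hXM hXα hr)
    (fun q _ S => by
      obtain ⟨V, hV⟩ := Cfsg.Agent.Lib.Helper68.exists_isComplIn_sylow_normalizer S
      exact (Cfsg.Agent.S1411.result hG q S V hV).2)
    (fun M hM p hp hpM hpβ => ((Cfsg.Agent.S1414.result hG M hM).2.2.2.2 p hp hpM hpβ).1)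
    (fun M hM p _ A hAM hAe hAc => (Cfsg.Agent.S1416.result hG M hM p A ⟨hAM, hAe, hAc⟩).1)
    (fun M hM p _ hp A hA => (Cfsg.Agent.S1417.result hG M hM p hp A hA).1)
    (fun M hM p _ hp A hA => (Cfsg.Agent.S1417.result hG M hM p hp A hA).2.2.2.2.1)
    (fun M hM E hE p _ hp A hA => Cfsg.Agent.S1418.result hG M hM E hE p hp A hA)
    (fun M hM q _ hq X hXq hX1 hXM Mstar hMs hne hNX S hXS =>
      Cfsg.Agent.S1424.result hG M hM q hq X hXq hX1 hXM Mstar hMs hne hNX S hXS)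
    (fun M hM E hE p _ S hS1 hSc => Cfsg.Agent.S1427.result hG M hM E hE p S hS1 hSc)
    M hM E hE p hp P hPE hP R hRE hR

end Cfsg.Agent.S1428
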