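-- Statement S1378 (BG 13.9, the sigma-partition of the primes).  helper34.
import Cfsg.Statements.S1378
import Cfsg.Agent.S1403
import Cfsg.Agent.S1411
import Cfsg.Agent.S1417
import Cfsg.Agent.S1428
import Cfsg.Agent.Lib.Helper97.BGThirteenSix
import Cfsg.Agent.Lib.Helper34.SigmaPartition
import Cfsg.Agent.Lib.Helper51.BGAsymFinal

set_option autoImplicit false
open Cfsg

namespace Cfsg.Agent.S1378

/-- Let G be a minimal simple group of odd order. Then every prime dividing the order of G belongs to σ(M) for some maximal subgroup M, and if σ(M) and σ(N) have a prime in common for maximal subgroups M, N then N is conjugate to M; so the sets σ(M_i) over representatives of the conjugacy classes of maximal subgroups partition the prime divisors of #G. -/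
theorem result {G : Type*} [Group G] [Finite G] (hG : Cfsg.IsMinSimpleOddOrder G) :
    (∀ p : ℕ, p.Prime → p ∣ Nat.card G → ∃ M : Subgroup G, IsCoatom M ∧ p ∈ Cfsg.sigma M) ∧
      ∀ M N : Subgroup G, IsCoatom M → IsCoatom N → (Cfsg.sigma M ∩ Cfsg.sigma N).Nonempty → ∃ g : G, N = M.map (MulAut.conj g).toMonoidHom := by
  have hU : Cfsg.Agent.Lib.Helper34.UniquenessThm G :=
    fun K hK h1 h2 => Cfsg.Agent.S1403.result hG K hK h1 h2
  have h1411 : Cfsg.Agent.Lib.Helper34.SigmaPartition.H1411 G :=
    fun p _ P V hV => Cfsg.Agent.S1411.result hG p P V hV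
  have h1417 : Cfsg.Agent.Lib.Helper34.SigmaPartition.H1417a G :=
    fun M hM p _ hp A hA => (Cfsg.Agent.S1417.result hG M hM p hp A hA).1
  have h1428 : Cfsg.Agent.Lib.Helper97.BGThirteenSix.Stmt1428 G :=
    fun M hM E hE p hp P hPE hP R hR hRp =>
      Cfsg.Agent.S1428.result hG M hM E hE p hp P hPE hP R hR hRp
  have h136 : Cfsg.Agent.Lib.Helper34.SigmaPartition.CentTau1Uniq G := by
    intro M hM E hE p hp P hPE hP X hX hXp L hL hCL
    have : Fact (Nat.card X).Prime := ⟨hXp⟩
    exact (Cfsg.Agent.Lib.Helper97.BGThirteenSix.h6_of hG h1428 M hM E hE p hp P hPE hP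
      (Nat.card X) X rfl hX).1.2 L hL hCL
  have hAS : Cfsg.Agent.Lib.Helper34.SigmaPartition.AsymSpecial G :=
    Cfsg.Agent.Lib.Helper51.BGAsym.asym_special_uncond hG
  exact Cfsg.Agent.Lib.Helper34.SigmaPartition.s1378_of hG hU h1411 h1417 h136 hAS

end Cfsg.Agent.S1378
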