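import Cfsg.Statements.S1425
import Cfsg.Agent.S1403
import Cfsg.Agent.S1416
import Cfsg.Agent.S1417
import Cfsg.Agent.S1418
import Cfsg.Agent.Lib.Helper24.SigmaConj
-- import your own Cfsg.Agent.* helpers here

set_option autoImplicit false
open Cfsg

namespace Cfsg.Agent.S1425

/-- Let G be a minimal simple group of odd order, M a maximal subgroup and Y a nontrivial subgroup of G all of whose prime divisors lie in σ(M). Then gYg⁻¹ ≤ M_σ for some g ∈ G. -/
theorem result {G : Type*} [Group G] [Finite G] (hG : Cfsg.IsMinSimpleOddOrder G)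
    (M : Subgroup G) (hM : IsCoatom M) (Y : Subgroup G) (hY1 : Y ≠ ⊥) (hY : ∀ p : ℕ, p.Prime → p ∣ Nat.card Y → p ∈ Cfsg.sigma M) :
    ∃ g : G, Y.map (MulAut.conj g).toMonoidHom ≤ Cfsg.sigmaCore M := by
  have hU : Cfsg.Agent.Lib.Helper34.UniquenessThm G :=
    fun K hK h1 h2 => Cfsg.Agent.S1403.result hG K hK h1 h2
  exact Cfsg.Agent.Lib.Helper24.s1425_of hG hU
    (fun M hM p _ A hAM hAe hAc => (Cfsg.Agent.S1416.result hG M hM p A ⟨hAM, hAe, hAc⟩).1)
    (fun M hM p _ hp A hAM hAe hAc => (Cfsg.Agent.S1417.result hG M hM p hp A ⟨hAM, hAe, hAc⟩).1)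
    (fun M hM E hE p _ hp A hAE hAe hAc =>
      (Cfsg.Agent.S1418.result hG M hM E hE p hp A ⟨hAE, hAe, hAc⟩).1.1)
    M hM Y hY1 hY

end Cfsg.Agent.S1425
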