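import Cfsg.Statements.S1445
import Cfsg.Agent.Lib.Helper21.PrimeAction2

set_option autoImplicit false
open Cfsg
open scoped commutatorElement

namespace Cfsg.Agent.S1445

/-- Let G be a solvable group of odd order, K a normal subgroup and R a subgroup with G = KR and the orders of K and R coprime. Suppose K ∩ C_G(x) = K ∩ C_G(R) for every non-identity x ∈ R, and F(K) ∩ C_G(R) = 1. Then [K, R] is contained in the Fitting subgroup of K. -/
theorem result {G : Type*} [Group G] [Finite G] [Group.IsSolvable G] (hodd : Odd (Nat.card G)) (K R : Subgroup G) [K.Normal] (hKR : K ⊔ R = ⊤) (hcop : (Nat.card K).Coprime (Nat.card R))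
    (hprime : ∀ x ∈ R, x ≠ 1 → K ⊓ Subgroup.centralizer ({x} : Set G) = (K ⊓ Subgroup.centralizer (R : Set G)))
    (hF : Cfsg.fittingOf K ⊓ Subgroup.centralizer (R : Set G) = ⊥) :
    ⁅K, R⁆ ≤ Cfsg.fittingOf K := by
  classical
  by_cases hR : R = ⊥
  · subst hR
    rw [Subgroup.commutator_bot_right]
    exact bot_le
  have hRcard : Nat.card R ≠ 1 := fun h => hR (Subgroup.card_eq_one.mp h)
  obtain ⟨r, hr, hrR⟩ := Nat.exists_prime_and_dvd hRcard
  have : Fact r.Prime := ⟨hr⟩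
  obtain ⟨x, hx⟩ := exists_prime_orderOf_dvd_card' (G := R) r hrR
  have hxR : (x : G) ∈ R := x.2
  have hxo : orderOf (x : G) = r := by rw [Subgroup.orderOf_coe, hx]
  have hx1 : (x : G) ≠ 1 := by
    intro h
    rw [h, orderOf_one] at hxo
    exact hr.one_lt.ne hxo
  have hX : Nat.card (Subgroup.zpowers (x : G)) = r := by rw [Nat.card_zpowers, hxo]
  have hcopK : ¬ r ∣ Nat.card K := by
    intro h
    have := Nat.dvd_gcd h hrR
    rw [Nat.Coprime.gcd_eq_one hcop] at this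
    exact hr.one_lt.ne' (Nat.dvd_one.mp this)
  have hmemX : (x : G) ∈ Subgroup.zpowers (x : G) := Subgroup.mem_zpowers _
  have hCx : ∀ y : G, y ∈ Subgroup.centralizer ((Subgroup.zpowers (x : G) : Subgroup G) : Set G) →
      y ∈ Subgroup.centralizer ({(x : G)} : Set G) := by
    intro y hy
    rw [Subgroup.mem_centralizer_iff]
    intro h hh
    rw [Set.mem_singleton_iff] at hh
    subst hh
    exact Subgroup.mem_centralizer_iff.mp hy _ hmemX
  have hfix : Cfsg.fittingOf K ⊓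
      Subgroup.centralizer ((Subgroup.zpowers (x : G) : Subgroup G) : Set G) = ⊥ := by
    rw [eq_bot_iff]
    rintro y ⟨hyF, hyC⟩
    have h1 : y ∈ K ⊓ Subgroup.centralizer ({(x : G)} : Set G) :=
      ⟨Cfsg.Agent.Lib.Helper54.fittingOf_le K hyF, hCx y hyC⟩
    rw [hprime _ hxR hx1] at h1
    have h2 : y ∈ Cfsg.fittingOf K ⊓ Subgroup.centralizer (R : Set G) := ⟨hyF, h1.2⟩
    rw [hF] at h2
    exact h2
  have hKs : Group.IsSolvable K := inferInstance
  have hKodd : Odd (Nat.card K) := hodd.of_dvd_nat (Subgroup.card_subgroup_dvd_card K)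
  have key := Cfsg.Agent.Lib.Helper21.comm_mem_fittingOf_of_prime_order K
    (Subgroup.zpowers (x : G)) hKs hKodd hX hcopK hfix
  have hFn : (Cfsg.fittingOf K).Normal := Cfsg.Agent.Lib.Helper21.fittingOf_normal_of_normal K
  rw [Subgroup.commutator_le]
  intro k hk ρ hρ
  have hKtop : Subgroup.normalizer (K : Set G) = ⊤ := Subgroup.normalizer_eq_top _
  have hFtop : Subgroup.normalizer ((Cfsg.fittingOf K : Subgroup G) : Set G) = ⊤ :=
    Subgroup.normalizer_eq_top _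
  have hcopXK : (Nat.card (Subgroup.zpowers (x : G))).Coprime (Nat.card K) := by
    rw [hX]
    exact (Nat.Prime.coprime_iff_not_dvd hr).mpr hcopK
  obtain ⟨c, hc, hkc⟩ := Cfsg.Agent.S0022.result (Subgroup.zpowers (x : G)) K
    (by rw [hKtop]; exact le_top) hcopXK (Or.inr hKs) (Cfsg.fittingOf K)
    (Cfsg.Agent.Lib.Helper54.fittingOf_le K) (by rw [hFtop]; exact le_top)
    (by rw [hFtop]; exact le_top) k hk (by
      intro a ha
      have h1 := key k hk a ha
      have h2 := hFn.conj_mem _ h1 k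
      have e : k * (k⁻¹ * (a * k * a⁻¹)) * k⁻¹ = a * k * a⁻¹ * k⁻¹ := by group
      rwa [e] at h2)
  have hcR : c ∈ Subgroup.centralizer (R : Set G) := by
    have h1 : c ∈ K ⊓ Subgroup.centralizer ({(x : G)} : Set G) := ⟨hc.1, hCx c hc.2⟩
    rw [hprime _ hxR hx1] at h1
    exact h1.2
  have hcρ : ρ * c = c * ρ := Subgroup.mem_centralizer_iff.mp hcR ρ hρ
  have hf : c⁻¹ * k ∈ Cfsg.fittingOf K := by
    have := Subgroup.inv_mem _ hkc
    rwa [mul_inv_rev, inv_inv] at this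
  have h3 : (c⁻¹ * k) * (ρ * (c⁻¹ * k)⁻¹ * ρ⁻¹) ∈ Cfsg.fittingOf K :=
    Subgroup.mul_mem _ hf (hFn.conj_mem _ (Subgroup.inv_mem _ hf) ρ)
  have h4 := hFn.conj_mem _ h3 c
  have hcρ' : c⁻¹ * ρ⁻¹ = ρ⁻¹ * c⁻¹ := by
    rw [← mul_inv_rev, ← mul_inv_rev, hcρ]
  have e : ⁅k, ρ⁆ = c * ((c⁻¹ * k) * (ρ * (c⁻¹ * k)⁻¹ * ρ⁻¹)) * c⁻¹ := by
    rw [commutatorElement_def]
    calc k * ρ * k⁻¹ * ρ⁻¹ = k * ρ * k⁻¹ * c * (c⁻¹ * ρ⁻¹) := by group
      _ = k * ρ * k⁻¹ * c * (ρ⁻¹ * c⁻¹) := by rw [hcρ']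
      _ = c * ((c⁻¹ * k) * (ρ * (c⁻¹ * k)⁻¹ * ρ⁻¹)) * c⁻¹ := by group
  rw [e]
  exact h4

end Cfsg.Agent.S1445
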