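import Cfsg.Statements.S1373
import Cfsg.Agent.S1350
import Cfsg.Agent.S1352
import Cfsg.Agent.S1353
import Cfsg.Agent.S1354
import Cfsg.Agent.S1366
import Cfsg.Agent.S1368
import Cfsg.Agent.S1369
import Cfsg.Agent.S1429
import Cfsg.Agent.S1430
import Cfsg.Agent.Lib.Helper23.BGFrobPrimact
import Cfsg.Agent.Lib.Helper23.BGFourteenC

set_option autoImplicit false
open Cfsg

namespace Cfsg.Agent.S1373

/-- Let G be a minimal simple group of odd order and M a maximal subgroup with standard factorisation M = K U M_σ, K ≠ 1 and U = 1. Then M_σ ∩ C_G(K) has prime order. -/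
theorem result {G : Type*} [Group G] [Finite G] (hG : Cfsg.IsMinSimpleOddOrder G)
    (M : Subgroup G) (hM : IsCoatom M) (K U : Subgroup G) (hKU : Cfsg.IsSigmaDecomposition M K U) (hK1 : K ≠ ⊥) (hU : U = ⊥) :
    (Nat.card ↥(Cfsg.sigmaCore M ⊓ Subgroup.centralizer (K : Set G))).Prime := by
  obtain ⟨Mstar, ⟨hMstar, hKst, hKstH⟩, -⟩ := Cfsg.Agent.S1366.result hG M hM K U hKU hK1
  have h69 := (Cfsg.Agent.S1369.result hG M hM K U hKU hK1 Mstar hMstar hKst hKstH).1
  have hcyc := (Cfsg.Agent.S1368.result hG M hM K U hKU hK1 Mstar hMstar hKst hKstH).2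
  have hKsc : IsCyclic ↥(Cfsg.sigmaCore M ⊓ Subgroup.centralizer (K : Set G)) :=
    Cfsg.Agent.Lib.Helper23.isCyclic_of_le_h23 le_sup_right hcyc
  obtain ⟨Ustar, hUstar⟩ := (Cfsg.Agent.S1352.result hG Mstar hMstar _ hKsc hKstH).1
  have hUs1 : Ustar ≠ ⊥ := by
    rcases h69 with h | h
    · exact absurd hU h
    · exact h Ustar hUstar
  have hKs1 : Cfsg.sigmaCore M ⊓ Subgroup.centralizer (K : Set G) ≠ ⊥ :=
    (Cfsg.Agent.S1354.result hG M hM K hKU.cyclic hKU.hall).1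
  have hsolvM : Group.IsSolvable Mstar := hG.2.2.2 Mstar hMstar.1
  have hsolv : Group.IsSolvable (Cfsg.sigmaCore Mstar) :=
    Cfsg.Agent.Lib.Helper54.isSolvable_of_le (Cfsg.Agent.Lib.Helper23.sigmaCore_le_self_h23 Mstar) hsolvM
  exact (Cfsg.Agent.Lib.Helper23.card_kappaHall_prime_of hsolv
    (Cfsg.Agent.S1350.result hG Mstar hMstar).1 hUstar hKs1 hUs1
    (Cfsg.Agent.S1353.result hG Mstar hMstar _ Ustar hUstar)
    (Cfsg.Agent.S1430.result hG Mstar hMstar _ hKstH hKs1).1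
    (by
      have e : ((Cfsg.sigmaCore M ⊓ Subgroup.centralizer (K : Set G) : Subgroup G) : Set G) =
          ((Cfsg.sigmaCore M : Set G) ⊓ (Subgroup.centralizer (K : Set G) : Set G)) := rfl
      rw [e, ← hKst]; exact hK1)
    (fun hP1 p _ hpM hp S => (Cfsg.Agent.S1429.result hG Mstar hMstar hP1 p hpM hp S).2.1)).1

end Cfsg.Agent.S1373
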