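import Cfsg.Statements.S1355
import Cfsg.Agent.S1350
import Cfsg.Agent.S1351
import Cfsg.Agent.S1352
import Cfsg.Agent.S1403
import Cfsg.Agent.S1415
import Cfsg.Agent.S1426
import Cfsg.Agent.S1437
import Cfsg.Agent.Lib.Helper55.BGElevenD
import Cfsg.Agent.Lib.Helper30.BGNonab
import Cfsg.Agent.Lib.Helper23.BGFifteenA

set_option autoImplicit false
open Cfsg

namespace Cfsg.Agent.S1355

/-- Let G be a minimal simple group of odd order and M a maximal subgroup. Then the largest normal nilpotent Hall subgroup M_F of M is nontrivial and contained in M_σ, M_σ is contained in the derived subgroup M', M' is proper in M, and the image of M' in M/M_F is nilpotent. -/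
theorem result {G : Type*} [Group G] [Finite G] (hG : Cfsg.IsMinSimpleOddOrder G)
    (M : Subgroup G) (hM : IsCoatom M) :
    Cfsg.fittingHallOf M ≠ ⊥ ∧ Cfsg.fittingHallOf M ≤ Cfsg.sigmaCore M ∧ Cfsg.sigmaCore M ≤ ⁅M, M⁆ ∧ ⁅M, M⁆ < M ∧
      Group.IsNilpotent ↥((commutator ↥M).map (QuotientGroup.mk' (Cfsg.fittingHall ↥M))) := by
  have hU : Cfsg.Agent.Lib.Helper34.UniquenessThm G :=
    fun K hK h1 h2 => Cfsg.Agent.S1403.result hG K hK h1 h2
  have hHall := (Cfsg.Agent.S1350.result hG M hM).1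
  have hσ1 := Cfsg.Agent.Lib.Helper55.BGEleven.sigmaCore_ne_bot hG hU M hM
  obtain ⟨E, hE⟩ := Cfsg.Agent.Lib.Helper30.BGNonab.exists_isComplIn M hHall
  have h26 := (Cfsg.Agent.S1426.result hG M hM E hE).2.1
  have h15 := (Cfsg.Agent.S1415.result hG M hM E hE).1
  refine Cfsg.Agent.Lib.Helper23.s1355_of hG.2.1 M hM (hG.2.2.2 M hM.1) hHall hσ1 E hE h26 h15 ?_
  by_cases hnil : Group.IsNilpotent (Cfsg.sigmaCore M)
  · exact Or.inl hnil
  · right
    obtain ⟨K, hK⟩ := (Cfsg.Agent.S1351.result hG M hM).1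
    have hKc := (Cfsg.Agent.S1351.result hG M hM).2 K hK
    obtain ⟨U, hKU⟩ := (Cfsg.Agent.S1352.result hG M hM K hKc hK).1
    have hFnil : Group.IsNilpotent (Cfsg.fittingHallOf M) := by
      have e : ↥(Cfsg.fittingHall ↥M) ≃* ↥((Cfsg.fittingHall ↥M).map M.subtype) :=
        Subgroup.equivMapOfInjective _ _ M.subtype_injective
      have h1 : Group.IsNilpotent ↥(Cfsg.fittingHall ↥M) := Cfsg.Agent.S1474.fittingHall_isNilpotent
      exact Group.nilpotent_of_mulEquiv e
    have hne : Cfsg.fittingHallOf M ≠ Cfsg.sigmaCore M := by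
      intro h; apply hnil; rw [← h]; exact hFnil
    have hFσ := Cfsg.Agent.Lib.Helper23.fittingHallOf_le_sigmaCore hG.2.1 hM hHall
    obtain ⟨-, hM', -, hq, -, -, Q, hQF, hQn, hQp, hQidx, hD⟩ :=
      Cfsg.Agent.S1437.result hG M hM K U hKU hne
    have hQσ : Q ≤ Cfsg.sigmaCore M := hQF.trans hFσ
    refine ⟨hM', Q, hQF, ?_, hQn, ?_, fun D hDc => (hD D hDc).1⟩
    · intro hQ1
      apply hQidx
      have h1 := Cfsg.Agent.Lib.Helper54.card_mul_relIndex hQσ
      rw [hQ1, Subgroup.card_bot, one_mul] at h1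
      rw [hQ1, h1]
      exact Subgroup.card_dvd_of_le inf_le_left
    · have : Fact (Nat.card ↥(Cfsg.sigmaCore M ⊓ Subgroup.centralizer (K : Set G))).Prime := ⟨hq⟩
      obtain ⟨n, hn⟩ := IsPGroup.iff_card.mp hQp
      rw [hn]
      exact Nat.Coprime.pow_left n ((Nat.Prime.coprime_iff_not_dvd hq).mpr hQidx)

end Cfsg.Agent.S1355
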