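import Cfsg.Statements.S1356
import Cfsg.Agent.S1350
import Cfsg.Agent.S1351
import Cfsg.Agent.S1352
import Cfsg.Agent.S1373
import Cfsg.Agent.S1403
import Cfsg.Agent.S1420
import Cfsg.Agent.S1426
import Cfsg.Agent.S1430
import Cfsg.Agent.S1431
import Cfsg.Agent.S1437
import Cfsg.Agent.Lib.Helper30.BGNonab
import Cfsg.Agent.Lib.Helper55.BGElevenD
import Cfsg.Agent.Lib.Helper62.PiHall
import Cfsg.Agent.Lib.Helper97.BGFifteenThreeC
import Cfsg.Agent.Lib.Helper47.BGFifteenTwoG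
import Cfsg.Agent.Lib.Helper23.BGFifteenA
import Cfsg.Agent.Lib.Helper23.BGFifteenC

set_option autoImplicit false
open Cfsg

namespace Cfsg.Agent.S1356

/-- Let G be a minimal simple group of odd order and M a maximal subgroup. Then the second derived subgroup M'' lies in the Fitting subgroup F(M), F(M) is generated by M_F together with C_M(M_F), and if κ(M) is nonempty then F(M) ≤ M'. -/
theorem result {G : Type*} [Group G] [Finite G] (hG : Cfsg.IsMinSimpleOddOrder G)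
    (M : Subgroup G) (hM : IsCoatom M) :
    ⁅⁅M, M⁆, ⁅M, M⁆⁆ ≤ Cfsg.fittingOf M ∧
      Cfsg.fittingOf M = (M ⊓ Subgroup.centralizer (Cfsg.fittingHallOf M : Set G)) ⊔ Cfsg.fittingHallOf M ∧
      ((Cfsg.kappa M).Nonempty → Cfsg.fittingOf M ≤ ⁅M, M⁆) := by
  have hHall := (Cfsg.Agent.S1350.result hG M hM).1
  have hU : Cfsg.Agent.Lib.Helper34.UniquenessThm G :=
    fun K hK h1 h2 => Cfsg.Agent.S1403.result hG K hK h1 h2
  have hσ1 : Cfsg.sigmaCore M ≠ ⊥ := Cfsg.Agent.Lib.Helper55.BGEleven.sigmaCore_ne_bot hG hU M hM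
  obtain ⟨E, hE⟩ := Cfsg.Agent.Lib.Helper30.BGNonab.exists_isComplIn M hHall
  have h20 := (Cfsg.Agent.S1420.result hG M hM E hE).2.1
  have h26 := (Cfsg.Agent.S1426.result hG M hM E hE).2.1
  have hσ' : Cfsg.sigmaCore M ≤ ⁅M, M⁆ := by
    rw [← h26]
    exact Subgroup.commutator_mono (Cfsg.Agent.Lib.Helper23.sigmaCore_le_self_h23 M) hE.1
  have h30 : Cfsg.Agent.Lib.Helper54.Stmt1430 G :=
    fun M hM K hK hK1 => Cfsg.Agent.S1430.result hG M hM K hK hK1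
  have h31 : Cfsg.Agent.Lib.Helper54.Stmt1431 G :=
    fun M hM K hK hK1 => Cfsg.Agent.S1431.result hG M hM K hK hK1
  obtain ⟨X, hXc, -, hX⟩ := Cfsg.Agent.Lib.Helper97.BGFifteenThree.cent_hall_of hG h30 h31 M hM
    (Cfsg.sigmaCore M) le_rfl hσ1 (by rw [Subgroup.relIndex_self]; exact Nat.coprime_one_right _)
  apply Cfsg.Agent.Lib.Helper23.s1356_of hG hM hHall ⟨E, hE, h20⟩ hσ' ⟨X, hXc, hX⟩
  · -- `κ(M) ≠ ∅`: a Hall `κ(M)`-subgroup `K ≠ 1` and the abelian Hall subgroup `U` of S1430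
    rintro ⟨p, hp⟩
    obtain ⟨K, hKH⟩ := Cfsg.Agent.Lib.Helper62.exists_isPiHallOf (Cfsg.kappa M) M
      (hG.2.2.2 M hM.1)
    have hK1 : K ≠ ⊥ := by
      intro hK
      have h1 := Cfsg.Agent.Lib.Helper54.card_mul_relIndex hKH.1
      rw [hK, Subgroup.card_bot, one_mul] at h1
      apply hKH.2.2 p hp.1 hp
      rw [hK, h1]
      exact hp.2.1
    obtain ⟨-, ⟨U, -, hUH, -, hreg⟩, -⟩ := Cfsg.Agent.S1430.result hG M hM K hKH hK1
    exact ⟨K, U, hKH.1, hK1, hUH, hreg⟩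
  · -- the case `M_F ≠ M_σ` (B&G Theorem 15.2)
    intro hne
    obtain ⟨⟨K, hKH⟩, hcyc⟩ := Cfsg.Agent.S1351.result hG M hM
    obtain ⟨U, hKU⟩ := (Cfsg.Agent.S1352.result hG M hM K (hcyc K hKH) hKH).1
    refine ⟨Cfsg.Agent.Lib.Helper47.BG152.derived_two_le_fittingOf hG M hM K U hKU hne
      (fun hK1 hU => Cfsg.Agent.S1373.result hG M hM K U hKU hK1 hU), ?_⟩
    obtain ⟨hUbot, -, hKp, hq, hqF, hqβ, Q, hQF, hMQ, hQp, hQidx, hD⟩ :=
      Cfsg.Agent.S1437.result hG M hM K U hKU hne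
    have hFσ := Cfsg.Agent.Lib.Helper23.fittingHallOf_le_sigmaCore hG.2.1 hM hHall
    have hqσ : Nat.card ↥(Cfsg.sigmaCore M ⊓ Subgroup.centralizer (K : Set G)) ∈ Cfsg.sigma M :=
      hHall.2.1 _ hq (hqF.trans (Subgroup.card_dvd_of_le hFσ))
    have hcard : Nat.card M = Nat.card (Cfsg.sigmaCore M) * Nat.card K := by
      have := Cfsg.Agent.Lib.Helper23.card_eq_of_sigmaDecomposition hHall hKU
      rw [hUbot, Subgroup.card_bot, one_mul] at this
      exact this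
    exact Cfsg.Agent.Lib.Helper23.inf_centralizer_fittingHallOf_le_fittingOf hG hM hHall hKU.hall
      hKp hcard hq rfl hqσ hqβ hQF (hQF.trans hFσ) hMQ hQp hQidx (fun D hDc => (hD D hDc).1)

end Cfsg.Agent.S1356
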