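import Cfsg.Statements.S1357
import Cfsg.Agent.S1350
import Cfsg.Agent.S1426
import Cfsg.Agent.S1437
import Cfsg.Agent.Lib.Helper30.BGNonab
import Cfsg.Agent.Lib.Helper23.BGFifteenA
import Cfsg.Agent.Lib.Helper23.BGFifteenB

set_option autoImplicit false
open Cfsg

namespace Cfsg.Agent.S1357

/-- Let G be a minimal simple group of odd order and M a maximal subgroup with standard factorisation M = K U M_σ. If M_F ≠ M_σ then U = 1, the Fitting subgroup F(M) meets its conjugates by elements outside its normalizer trivially, and K has prime order. -/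
theorem result {G : Type*} [Group G] [Finite G] (hG : Cfsg.IsMinSimpleOddOrder G)
    (M : Subgroup G) (hM : IsCoatom M) (K U : Subgroup G) (hKU : Cfsg.IsSigmaDecomposition M K U) (hne : Cfsg.fittingHallOf M ≠ Cfsg.sigmaCore M) :
    U = ⊥ ∧ Cfsg.IsTISubset (Cfsg.fittingOf M : Set G) ∧ (Nat.card K).Prime := by
  have hHall := (Cfsg.Agent.S1350.result hG M hM).1
  obtain ⟨hU, -, hKp, hq, hqF, hqβ, Q, hQF, hMQ, hQp, hQidx, -⟩ :=
    Cfsg.Agent.S1437.result hG M hM K U hKU hne
  refine ⟨hU, ?_, hKp⟩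
  have hFσ := Cfsg.Agent.Lib.Helper23.fittingHallOf_le_sigmaCore hG.2.1 hM hHall
  have hqσ : Nat.card ↥(Cfsg.sigmaCore M ⊓ Subgroup.centralizer (K : Set G)) ∈ Cfsg.sigma M :=
    hHall.2.1 _ hq (hqF.trans (Subgroup.card_dvd_of_le hFσ))
  obtain ⟨E, hE⟩ := Cfsg.Agent.Lib.Helper30.BGNonab.exists_isComplIn M hHall
  have h26 := (Cfsg.Agent.S1426.result hG M hM E hE).2.2
  exact Cfsg.Agent.Lib.Helper23.isTISubset_fittingOf_of_beta hG hM hHall hq hqσ hqβ hQF
    (hQF.trans hFσ) hMQ hQp hQidx (fun g hg => (h26 g hg).2.1)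

end Cfsg.Agent.S1357
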