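import Cfsg.Statements.S1358
import Cfsg.Agent.Lib.Helper50.SigmaDecomp
import Cfsg.Agent.S1403
import Cfsg.Agent.S1350
import Cfsg.Agent.S1420

set_option autoImplicit false
open Cfsg

namespace Cfsg.Agent.S1358

/-- Let G be a minimal simple group of odd order and M a maximal subgroup with standard factorisation M = K U M_σ. Then for every prime p, every Sylow p-subgroup of U is abelian and has no elementary abelian subgroup of order p ^ 3. -/
theorem result {G : Type*} [Group G] [Finite G] (hG : Cfsg.IsMinSimpleOddOrder G)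
    (M : Subgroup G) (hM : IsCoatom M) (K U : Subgroup G) (hKU : Cfsg.IsSigmaDecomposition M K U) :
    ∀ (p : ℕ), p.Prime → ∀ P : Sylow p U, IsMulCommutative (P : Subgroup U) ∧ Cfsg.PRankLE p 2 (P : Subgroup U) := by
  have h1350 := (Cfsg.Agent.S1350.result hG M hM).1
  have hMs : Group.IsSolvable M := hG.2.2.2 M hM.1
  obtain ⟨E, hE, -⟩ := Cfsg.Agent.Lib.Helper97.BGTwelve.exists_complIn_ge (K := ⊥) hMs h1350 bot_le
    (by
      intro p hp hpd
      rw [Subgroup.card_bot] at hpd
      exact absurd (Nat.dvd_one.mp hpd) hp.one_lt.ne')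
  exact Cfsg.Agent.Lib.Helper50.s1358_of hG
    (fun K hK h1 h2 => Cfsg.Agent.S1403.result hG K hK h1 (Or.inl h2)) M hM K U hKU h1350
    (Cfsg.Agent.S1420.result hG M hM E hE).1

end Cfsg.Agent.S1358
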