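import Cfsg.Statements.S1361
import Cfsg.Agent.Lib.Helper50.SigmaDecomp
import Cfsg.Agent.S1403
import Cfsg.Agent.S1350
import Cfsg.Agent.S1417
import Cfsg.Agent.S1418

set_option autoImplicit false
open Cfsg

namespace Cfsg.Agent.S1361

/-- Let G be a minimal simple group of odd order and M a maximal subgroup with standard factorisation M = K U M_σ. If X is a nontrivial subgroup of U centralizing some non-identity element of M_σ, then C_G(X) ≤ M and M is the unique maximal subgroup of G containing C_G(X). -/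
theorem result {G : Type*} [Group G] [Finite G] (hG : Cfsg.IsMinSimpleOddOrder G)
    (M : Subgroup G) (hM : IsCoatom M) (K U : Subgroup G) (hKU : Cfsg.IsSigmaDecomposition M K U) (X : Subgroup G) (hXU : X ≤ U) (hX : X ≠ ⊥)
    (hXc : Cfsg.sigmaCore M ⊓ Subgroup.centralizer (X : Set G) ≠ ⊥) :
    Subgroup.centralizer (X : Set G) ≤ M ∧ ∀ L : Subgroup G, IsCoatom L → Subgroup.centralizer (X : Set G) ≤ L → L = M := by
  have h1350 := (Cfsg.Agent.S1350.result hG M hM).1
  refine Cfsg.Agent.Lib.Helper50.s1361_of hG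
    (fun K hK h1 h2 => Cfsg.Agent.S1403.result hG K hK h1 (Or.inl h2)) M hM K U hKU h1350
    ?_ ?_ ?_ X hXU hX hXc
  · apply Cfsg.Agent.Lib.Helper97.BGTwelve.tau2_sylow_abelian M
    intro p _ hp A hA P
    exact ((Cfsg.Agent.S1417.result hG M hM p hp A hA).2.1 P).1
  · intro p _ hp A hA
    exact (Cfsg.Agent.S1417.result hG M hM p hp A hA).2.2.2.2.1
  · intro E hE p _ hp A hA
    exact (Cfsg.Agent.S1418.result hG M hM E hE p hp A hA).1.1

end Cfsg.Agent.S1361
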