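import Cfsg.Statements.S1435
import Cfsg.Agent.Lib.Helper24.BGFourteenSixAsm
import Cfsg.Agent.Lib.Helper24.BGKstarCentUniq
import Cfsg.Agent.Lib.Helper65.BGSixE
import Cfsg.Agent.Lib.Helper54.BGFourteenSixE
import Cfsg.Agent.S1378
import Cfsg.Agent.S1430
import Cfsg.Agent.S1431
import Cfsg.Agent.S1432

set_option autoImplicit false
open Cfsg

namespace Cfsg.Agent.S1435

/-- Let G be a minimal simple group of odd order, M a maximal subgroup with standard factorisation M = K U M_σ, K ≠ 1, U ≠ 1, K* = M_σ ∩ C_G(K), M* a maximal subgroup with K = M*_σ ∩ C_G(K*) and K* a Hall κ(M*)-subgroup of M*, r a prime dividing the order of U, R a Sylow r-subgroup of U, and H a maximal subgroup containing N_G(R). Then κ(H) is empty, U ≤ H_σ, M ∩ H = U ⊔ K, H ∩ N_G(U) ⊄ M, K ≤ F(H ∩ M*), and H ∩ M* is a complement to H_σ in H. -/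
theorem result {G : Type*} [Group G] [Finite G] (hG : Cfsg.IsMinSimpleOddOrder G)
    (M : Subgroup G) (hM : IsCoatom M) (K U : Subgroup G) (hKU : Cfsg.IsSigmaDecomposition M K U) (hK1 : K ≠ ⊥) (hU1 : U ≠ ⊥) (Mstar : Subgroup G) (hMstar : IsCoatom Mstar)
    (hKst : K = Cfsg.sigmaCore Mstar ⊓ Subgroup.centralizer ((Cfsg.sigmaCore M ⊓ Subgroup.centralizer (K : Set G)) : Set G))
    (hKstH : Cfsg.IsPiHallOf (Cfsg.kappa Mstar) (Cfsg.sigmaCore M ⊓ Subgroup.centralizer (K : Set G)) Mstar)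
    (r : ℕ) [Fact r.Prime] (hr : r ∣ Nat.card U) (R : Sylow r U) (H : Subgroup G) (hH : IsCoatom H)
    (hNR : Subgroup.normalizer (((R : Subgroup U).map U.subtype : Subgroup G) : Set G) ≤ H) :
    Cfsg.kappa H = ∅ ∧ U ≤ Cfsg.sigmaCore H ∧ M ⊓ H = U ⊔ K ∧ ¬ H ⊓ Subgroup.normalizer (U : Set G) ≤ M ∧
      K ≤ Cfsg.fittingOf (H ⊓ Mstar) ∧ Cfsg.IsComplIn (H ⊓ Mstar) (Cfsg.sigmaCore H) H := by
  have h30 : Cfsg.Agent.Lib.Helper54.Stmt1430 G :=
    fun M hM K hK hK1 => Cfsg.Agent.S1430.result hG M hM K hK hK1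
  have h31 : Cfsg.Agent.Lib.Helper54.Stmt1431 G :=
    fun M hM K hK hK1 => Cfsg.Agent.S1431.result hG M hM K hK hK1
  have h32 : Cfsg.Agent.Lib.Helper22.BGFourteenFour.Stmt1432 G :=
    fun M hM x hx hx1 x' hx' hx'1 hσ => Cfsg.Agent.S1432.result hG M hM x hx hx1 x' hx' hx'1 hσ
  have hSD : Cfsg.Agent.Lib.Helper54.SigmaDisjoint G := by
    intro M L hM hL hconj p hpM hpL
    obtain ⟨g, hg⟩ := (Cfsg.Agent.S1378.result hG).2 M L hM hL ⟨p, hpM, hpL⟩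
    apply hconj g⁻¹
    rw [hg]
    exact Cfsg.Agent.Lib.Helper34.map_conj_inv_map_conj M g
  have hku := Cfsg.Agent.Lib.Helper24.kstarCentUniq hG
  have FM := Cfsg.Agent.Lib.Helper24.BGSixFrame.frameM_of hG h30 h31 hSD M hM K U hKU hK1 hU1 Mstar
    hMstar hKst hKstH
  have FH := Cfsg.Agent.Lib.Helper24.BGSixFrame.frameH_of hG hSD h32 M hM K U hKU hK1 hU1 Mstar
    hMstar hKstH FM r hr R H hH hNR
  obtain ⟨h2, -, h3, h4⟩ := Cfsg.Agent.Lib.Helper24.BGSixFrame.parts_234_of hG h30 h31 hM hMstar hH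
    hKU hK1 hU1 FM FH
  obtain ⟨h5, h6⟩ := Cfsg.Agent.Lib.Helper65.BGSix.step6 hG h30 h31 h32 M Mstar H K U hM hMstar hH
    hKU hU1 hKst hKstH FM FH
  have hE := Cfsg.Agent.Lib.Helper65.BGSix.step6_le hG h30 h31 h32 M Mstar H K U hM hMstar hH
    hKU hU1 hKst hKstH FM FH
  have h1 := Cfsg.Agent.Lib.Helper54.kappa_eq_empty_of_signalizer hG h30 h31 hSD hku M Mstar H K hM
    hMstar hH hKU.hall FM.hp hKst hKstH FM.hNK FM.hCK FH.hKH FH.hHM FH.hpσ FH.hHσMs hE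
  exact ⟨h1, h2, h3, h4, h5, h6⟩

end Cfsg.Agent.S1435
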