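import Cfsg.Statements.S1363
import Cfsg.Agent.Lib.Helper23.BGFourteenB
import Cfsg.Agent.S1350
import Cfsg.Agent.S1430
import Cfsg.Agent.S1366
import Cfsg.Agent.S1435

set_option autoImplicit false
open Cfsg

namespace Cfsg.Agent.S1363

/-- Let G be a minimal simple group of odd order and M a maximal subgroup with standard factorisation M = K U M_σ and K ≠ 1. Then U is abelian and the normalizer of U in G is not contained in M. -/
theorem result {G : Type*} [Group G] [Finite G] (hG : Cfsg.IsMinSimpleOddOrder G)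
    (M : Subgroup G) (hM : IsCoatom M) (K U : Subgroup G) (hKU : Cfsg.IsSigmaDecomposition M K U) (hK1 : K ≠ ⊥) :
    IsMulCommutative U ∧ ¬ Subgroup.normalizer (U : Set G) ≤ M := by
  have h1350 := (Cfsg.Agent.S1350.result hG M hM).1
  have hsolvM : Group.IsSolvable M := hG.2.2.2 M hM.1
  have hsolv : Group.IsSolvable (Cfsg.sigmaCore M) :=
    Cfsg.Agent.Lib.Helper54.isSolvable_of_le (Cfsg.Agent.Lib.Helper23.sigmaCore_le_self_h23 M) hsolvM
  obtain ⟨U₀, hU₀ab, hU₀, hKU₀, -⟩ := (Cfsg.Agent.S1430.result hG M hM K hKU.hall hK1).2.1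
  have hKU' := Cfsg.Agent.Lib.Helper23.isSigmaDecomposition_of_hall h1350 hKU.cyclic hKU.hall hU₀ hKU₀
  have hUab := Cfsg.Agent.Lib.Helper23.isMulCommutative_of_sigmaDecompositions hsolv h1350 hKU hKU' hU₀ab
  obtain ⟨Mstar, ⟨hMs, hKst, hKstH⟩, -⟩ := Cfsg.Agent.S1366.result hG M hM K U hKU hK1
  refine Cfsg.Agent.Lib.Helper23.s1363_of hG.2.1 M K U hM hKU hUab ?_
  intro hU1 r _ hr R H hH hNR
  exact (Cfsg.Agent.S1435.result hG M hM K U hKU hK1 hU1 Mstar hMs hKst hKstH r hr R H hH hNR).2.2.2.1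

end Cfsg.Agent.S1363
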