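import Cfsg.Statements.S1364
import Cfsg.Agent.Lib.Helper23.BGFourteenC
import Cfsg.Agent.S1350
import Cfsg.Agent.S1430
import Cfsg.Agent.S1431
import Cfsg.Agent.S1366
import Cfsg.Agent.S1368
import Cfsg.Agent.S1437

set_option autoImplicit false
open Cfsg

namespace Cfsg.Agent.S1364

/-- Let G be a minimal simple group of odd order, M a maximal subgroup with standard factorisation M = K U M_σ and K ≠ 1, and put K* = M_σ ∩ C_G(K). Then K* is cyclic, nontrivial and contained in M_F, while M_F itself is not cyclic. -/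
theorem result {G : Type*} [Group G] [Finite G] (hG : Cfsg.IsMinSimpleOddOrder G)
    (M : Subgroup G) (hM : IsCoatom M) (K U : Subgroup G) (hKU : Cfsg.IsSigmaDecomposition M K U) (hK1 : K ≠ ⊥) :
    IsCyclic ↥(Cfsg.sigmaCore M ⊓ Subgroup.centralizer (K : Set G)) ∧ (Cfsg.sigmaCore M ⊓ Subgroup.centralizer (K : Set G)) ≠ ⊥ ∧ (Cfsg.sigmaCore M ⊓ Subgroup.centralizer (K : Set G)) ≤ Cfsg.fittingHallOf M ∧ ¬ IsCyclic (Cfsg.fittingHallOf M) := by
  have h1350 := (Cfsg.Agent.S1350.result hG M hM).1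
  have h30 := Cfsg.Agent.S1430.result hG M hM K hKU.hall hK1
  have h31 := Cfsg.Agent.S1431.result hG M hM K hKU.hall hK1
  obtain ⟨Mstar, ⟨hMs, hKst, hKstH⟩, -⟩ := Cfsg.Agent.S1366.result hG M hM K U hKU hK1
  have hZ := (Cfsg.Agent.S1368.result hG M hM K U hKU hK1 Mstar hMs hKst hKstH).2
  have hKs1 := Cfsg.Agent.Lib.Helper23.kstar_ne_bot_of M K hKU.hall.1 hKU.hall.2.1 hK1 h30.1
  refine Cfsg.Agent.Lib.Helper23.s1364_of M K hKU.hall.1
    (Cfsg.Agent.Lib.Helper23.coprime_card_kappa_sigmaCore h1350 hKU.hall.2.1) hZ hKs1 ?_ ?_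
  · intro hne
    have h37 := Cfsg.Agent.S1437.result hG M hM K U hKU hne
    exact ⟨h37.2.2.2.1, h37.2.2.2.2.1⟩
  · intro p hp hpK S
    exact (h31.2.2.1 p hp hpK S).2.2

end Cfsg.Agent.S1364
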