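import Cfsg.Statements.S1365
import Cfsg.Agent.Lib.Helper23.BGFourteenB
import Cfsg.Agent.S1350
import Cfsg.Agent.S1426
import Cfsg.Agent.S1430

set_option autoImplicit false
open Cfsg

namespace Cfsg.Agent.S1365

/-- Let G be a minimal simple group of odd order and M a maximal subgroup with standard factorisation M = K U M_σ and K ≠ 1. Then the derived subgroup of M is generated by U and M_σ, and M_σ ∩ C_G(K) is contained in the second derived subgroup of M. -/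
theorem result {G : Type*} [Group G] [Finite G] (hG : Cfsg.IsMinSimpleOddOrder G)
    (M : Subgroup G) (hM : IsCoatom M) (K U : Subgroup G) (hKU : Cfsg.IsSigmaDecomposition M K U) (hK1 : K ≠ ⊥) :
    ⁅M, M⁆ = U ⊔ Cfsg.sigmaCore M ∧ (Cfsg.sigmaCore M ⊓ Subgroup.centralizer (K : Set G)) ≤ ⁅⁅M, M⁆, ⁅M, M⁆⁆ := by
  have h1350 := (Cfsg.Agent.S1350.result hG M hM).1
  have hsolvM : Group.IsSolvable M := hG.2.2.2 M hM.1
  have hsolv : Group.IsSolvable (Cfsg.sigmaCore M) :=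
    Cfsg.Agent.Lib.Helper54.isSolvable_of_le (Cfsg.Agent.Lib.Helper23.sigmaCore_le_self_h23 M) hsolvM
  obtain ⟨U₀, hU₀ab, hU₀, hKU₀, hreg₀⟩ := (Cfsg.Agent.S1430.result hG M hM K hKU.hall hK1).2.1
  have hKU' := Cfsg.Agent.Lib.Helper23.isSigmaDecomposition_of_hall h1350 hKU.cyclic hKU.hall hU₀ hKU₀
  have hUab := Cfsg.Agent.Lib.Helper23.isMulCommutative_of_sigmaDecompositions hsolv h1350 hKU hKU' hU₀ab
  have hreg := Cfsg.Agent.Lib.Helper23.s1353_of M K U hsolv h1350 hKU (fun _ => ⟨U₀, hU₀, hKU₀, hreg₀⟩)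
  obtain ⟨E, hE⟩ := Cfsg.Agent.Lib.Helper30.BGNonab.exists_isComplIn M h1350
  have h26 := (Cfsg.Agent.S1426.result hG M hM E hE).2.1
  have hσ' : Cfsg.sigmaCore M ≤ ⁅M, M⁆ := by
    rw [← h26]
    exact Subgroup.commutator_mono (Cfsg.Agent.Lib.Helper23.sigmaCore_le_self_h23 M) hE.1
  exact Cfsg.Agent.Lib.Helper23.s1365_of M K U h1350 hKU hK1 hUab hreg hσ'

end Cfsg.Agent.S1365
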