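import Cfsg.Statements.S1372
import Cfsg.Agent.S1350
import Cfsg.Agent.S1353
import Cfsg.Agent.S1354
import Cfsg.Agent.S1429
import Cfsg.Agent.S1430
import Cfsg.Agent.Lib.Helper23.BGFrobPrimact
import Cfsg.Agent.Lib.Helper23.BGFifteenB

set_option autoImplicit false
open Cfsg

namespace Cfsg.Agent.S1372

/-- Let G be a minimal simple group of odd order and M a maximal subgroup with standard factorisation M = K U M_σ, K ≠ 1 and U ≠ 1. Then K has prime order, and the Fitting subgroup F(M) contains M_σ and is a TI-subset of G. -/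
theorem result {G : Type*} [Group G] [Finite G] (hG : Cfsg.IsMinSimpleOddOrder G)
    (M : Subgroup G) (hM : IsCoatom M) (K U : Subgroup G) (hKU : Cfsg.IsSigmaDecomposition M K U) (hK1 : K ≠ ⊥) (hU1 : U ≠ ⊥) :
    (Nat.card K).Prime ∧ Cfsg.IsTISubset (Cfsg.fittingOf M : Set G) ∧ Cfsg.sigmaCore M ≤ Cfsg.fittingOf M := by
  have hHall := (Cfsg.Agent.S1350.result hG M hM).1
  have hreg := Cfsg.Agent.S1353.result hG M hM K U hKU
  have hsolvM : Group.IsSolvable M := hG.2.2.2 M hM.1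
  have hsolv : Group.IsSolvable (Cfsg.sigmaCore M) :=
    Cfsg.Agent.Lib.Helper54.isSolvable_of_le (Cfsg.Agent.Lib.Helper23.sigmaCore_le_self_h23 M) hsolvM
  have h29 : ¬ (∀ q : ℕ, q.Prime → q ∣ Nat.card M → q ∉ Cfsg.sigma M → q ∈ Cfsg.kappa M) →
      ∀ (p : ℕ) [Fact p.Prime], p ∣ Nat.card M → p ∉ Cfsg.sigma M ∪ Cfsg.kappa M → ∀ S : Sylow p M,
        Cfsg.sigmaCore M ⊓ Subgroup.centralizer ((Subgroup.closure
          {x : G | x ∈ (S : Subgroup M).map M.subtype ∧ x ^ p = 1} : Subgroup G) : Set G) = ⊥ :=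
    fun hP1 p _ hpM hp S => (Cfsg.Agent.S1429.result hG M hM hP1 p hpM hp S).2.1
  have hCU := Cfsg.Agent.Lib.Helper23.inf_centralizer_eq_bot_of_sigmaDecomposition hHall hKU hU1 h29
  have hprime := (Cfsg.Agent.Lib.Helper23.card_kappaHall_prime_of hsolv hHall hKU hK1 hU1 hreg
    (Cfsg.Agent.S1430.result hG M hM K hKU.hall hK1).1
    (Cfsg.Agent.S1354.result hG M hM K hKU.cyclic hKU.hall).1 h29).1
  -- `M_σ` is nilpotent: `M` is not of type `P₁` as `U ≠ 1`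
  obtain ⟨p, hp, hpM, hpσ, hpκ⟩ :=
    Cfsg.Agent.Lib.Helper23.exists_prime_not_mem_of_sigmaDecomposition hHall hKU hU1
  have : Fact p.Prime := ⟨hp⟩
  have hP1 : ¬ (∀ q : ℕ, q.Prime → q ∣ Nat.card M → q ∉ Cfsg.sigma M → q ∈ Cfsg.kappa M) :=
    fun h => hpκ (h p hp hpM hpσ)
  obtain ⟨S⟩ : Nonempty (Sylow p M) := inferInstance
  have hnil := (Cfsg.Agent.S1429.result hG M hM hP1 p hpM (fun h => h.elim hpσ hpκ) S).2.2
  obtain ⟨hTI, hle⟩ := Cfsg.Agent.Lib.Helper23.isTISubset_fittingOf_of_typeP2 hG hM hHall hKU hK1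
    hU1 hreg hCU hnil
  exact ⟨hprime, hTI, hle⟩

end Cfsg.Agent.S1372
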