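-- Statement S1379 (Bender–Glauberman: partition of G^# by the sets M~ and the conjugates of Zhat).  helper34.
import Cfsg.Statements.S1379
import Cfsg.Agent.S1366
import Cfsg.Agent.S1367
import Cfsg.Agent.S1369
import Cfsg.Agent.S1374
import Cfsg.Agent.S1375
import Cfsg.Agent.S1378
import Cfsg.Agent.S1425
import Cfsg.Agent.S1430
import Cfsg.Agent.S1431
import Cfsg.Agent.S1432
import Cfsg.Agent.S1433
import Cfsg.Agent.S1434
import Cfsg.Agent.Lib.Helper34.TildePartition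

set_option autoImplicit false
open Cfsg

namespace Cfsg.Agent.S1379

/-- Let G be a minimal simple group of odd order; for a maximal subgroup M write M̃ for the union of the G-conjugates of the cosets x R(x), x ≠ 1 in M_σ. Then M̃ ∩ Ñ = ∅ for non-conjugate maximal M, N; if every maximal subgroup has κ empty, every g ≠ 1 lies in some M̃; and if M = K U M_σ has K ≠ 1 with Ẑ = K K* − (K ∪ K*), then every g ≠ 1 lies in some Ñ or in a conjugate of Ẑ, and no conjugate of an element of Ẑ lies in any Ñ. -/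
theorem result {G : Type*} [Group G] [Finite G] (hG : Cfsg.IsMinSimpleOddOrder G) :
    (∀ M N : Subgroup G, IsCoatom M → IsCoatom N → (∀ g : G, N ≠ M.map (MulAut.conj g).toMonoidHom) → Cfsg.tildeOf M ((Cfsg.sigmaCore M : Set G) \ {1}) ∩ Cfsg.tildeOf N ((Cfsg.sigmaCore N : Set G) \ {1}) = ∅) ∧
      ((∀ M : Subgroup G, IsCoatom M → Cfsg.kappa M = ∅) →
        ∀ g : G, g ≠ 1 → ∃ M : Subgroup G, IsCoatom M ∧ g ∈ Cfsg.tildeOf M ((Cfsg.sigmaCore M : Set G) \ {1})) ∧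
      ∀ (M K U : Subgroup G), IsCoatom M → Cfsg.IsSigmaDecomposition M K U → K ≠ ⊥ →
        (∀ g : G, g ≠ 1 → (∃ N : Subgroup G, IsCoatom N ∧ g ∈ Cfsg.tildeOf N ((Cfsg.sigmaCore N : Set G) \ {1})) ∨
            ∃ y : G, ∃ z ∈ ((↑(K ⊔ (Cfsg.sigmaCore M ⊓ Subgroup.centralizer (K : Set G))) : Set G) \ ((K : Set G) ∪ ↑(Cfsg.sigmaCore M ⊓ Subgroup.centralizer (K : Set G)))), g = y * z * y⁻¹) ∧
        ∀ N : Subgroup G, IsCoatom N → ∀ y : G, ∀ z ∈ ((↑(K ⊔ (Cfsg.sigmaCore M ⊓ Subgroup.centralizer (K : Set G))) : Set G) \ ((K : Set G) ∪ ↑(Cfsg.sigmaCore M ⊓ Subgroup.centralizer (K : Set G)))), y * z * y⁻¹ ∉ Cfsg.tildeOf N ((Cfsg.sigmaCore N : Set G) \ {1}) := by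
  have h78 := Cfsg.Agent.S1378.result hG
  have h78a : Cfsg.Agent.Lib.Helper34.TildePartition.H1378a G := h78.1
  have h78b : Cfsg.Agent.Lib.Helper34.TildePartition.H1378b G := h78.2
  have h25 : Cfsg.Agent.Lib.Helper34.TildePartition.H1425 G :=
    fun M hM Y hY1 hY => Cfsg.Agent.S1425.result hG M hM Y hY1 hY
  have h74 : Cfsg.Agent.Lib.Helper34.TildePartition.H1374 G :=
    fun M hM x hx hx1 => (Cfsg.Agent.S1374.result hG M hM x hx hx1).1
  have h75 : Cfsg.Agent.Lib.Helper34.TildePartition.H1375 G := by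
    intro M hM x hx hx1 hxM
    obtain ⟨N, ⟨hN, hCN⟩, huniq, hNF, hnorm, hcompl, -⟩ :=
      Cfsg.Agent.S1375.result hG M hM x hx hx1 hxM
    exact ⟨N, hN, hCN, huniq, hNF, hnorm, hcompl⟩
  have h32 : Cfsg.Agent.Lib.Helper34.TildePartition.H1432 G :=
    fun M hM x hx hx1 x' hx' hx'1 hσ => Cfsg.Agent.S1432.result hG M hM x hx hx1 x' hx' hx'1 hσ
  have h33 : Cfsg.Agent.Lib.Helper34.TildeEquiv.Stmt1433 G :=
    fun M N hM hN x y hx hy hx1 hy1 hxy => Cfsg.Agent.S1433.result hG M N hM hN x y hx hy hx1 hy1 hxy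
  have h66 : Cfsg.Agent.Lib.Helper34.TildePartition.H1366 G := by
    intro M hM K U hKU hK1
    obtain ⟨Mstar, h1, h2, h3⟩ := (Cfsg.Agent.S1366.result hG M hM K U hKU hK1).exists
    exact ⟨Mstar, h1, h2, h3⟩
  have h67 : Cfsg.Agent.Lib.Helper34.TildePartition.H1367 G := by
    intro M hM K U hKU hK1 Mstar hP
    have h := Cfsg.Agent.S1367.result hG M hM K U hKU hK1 Mstar hP.1 hP.2.1 hP.2.2
    exact ⟨fun X hX hXp => (h.1 X hX hXp).1, fun Y hY hYp => (h.2 Y hY hYp).1⟩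
  have h69 : Cfsg.Agent.Lib.Helper34.TildePartition.H1369 G := by
    intro M hM K U hKU hK1 Mstar hP
    exact (Cfsg.Agent.S1369.result hG M hM K U hKU hK1 Mstar hP.1 hP.2.1 hP.2.2).2
  have h30 : Cfsg.Agent.Lib.Helper34.TildePartition.H1430a G :=
    fun M hM K hK hK1 => (Cfsg.Agent.S1430.result hG M hM K hK hK1).1
  have h31 : Cfsg.Agent.Lib.Helper34.TildePartition.H1431a G :=
    fun M hM K hK hK1 => (Cfsg.Agent.S1431.result hG M hM K hK hK1).1
  have h34 : Cfsg.Agent.Lib.Helper34.TildePartition.H1434c G := by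
    intro M hM K U hKU hK1 Mstar hP x hx hx1 y hy hy1
    exact ((Cfsg.Agent.S1434.result hG M hM K U hKU hK1 Mstar hP.1 hP.2.1 hP.2.2).2.2.1
      x hx hx1 y hy hy1).2.2
  exact Cfsg.Agent.Lib.Helper34.TildePartition.s1379_of hG h78a h78b h25 h74 h75 h32 h33
    h66 h67 h69 h30 h31 h34

end Cfsg.Agent.S1379
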