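import Cfsg.Statements.S1525
import Cfsg.Agent.Lib.Helper3.Dade
-- import your own Cfsg.Agent.* helpers here

set_option autoImplicit false
open Cfsg

namespace Cfsg.Agent.S1525

/-- Under the Dade hypothesis for (A, L, H), let χ be a class function of G and let ψ be a function on L whose value at each a ∈ A is the average of χ over the coset a·H(a). Then (1/|G|) Σ |χ g|² over the elements g of G conjugate into some coset a·H(a) with a ∈ A is at least (1/|L|) Σ_{a ∈ A ∩ L} |ψ a|². -/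
theorem result {G : Type*} [Group G] [Fintype G] (A : Set G) (L : Subgroup G) [Fintype L] (H : G → Subgroup G) (hD : Cfsg.DadeHypothesis A L H) (χ : G → ℂ) (hχ : Cfsg.IsClassFunction G χ) (ψ : L → ℂ) (hψ : ∀ a : L, (a : G) ∈ A → ψ a = (Nat.card (H a) : ℂ)⁻¹ * ∑ᶠ u ∈ (H a : Set G), χ (a * u)) : (Nat.card L : ℝ)⁻¹ * ∑ᶠ a ∈ {a : L | (a : G) ∈ A}, ‖ψ a‖ ^ 2 ≤ (Nat.card G : ℝ)⁻¹ * ∑ᶠ g ∈ {g : G | ∃ a ∈ A, ∃ u ∈ H a, ∃ x : G, x * g * x⁻¹ = a * u}, ‖χ g‖ ^ 2 := by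

  classical
  have hL : (0 : ℝ) < (Nat.card L : ℝ) := by exact_mod_cast Nat.card_pos
  have hG : (0 : ℝ) < (Nat.card G : ℝ) := by exact_mod_cast Nat.card_pos
  -- the indicator of A on L
  set φ : L → ℂ := fun a => if (a : G) ∈ A then 1 else 0 with hφdef
  have hφ : Cfsg.IsClassFunction L φ := by
    intro a l
    simp only [hφdef]
    have h1 : ((l * a * l⁻¹ : L) : G) ∈ A ↔ (a : G) ∈ A := by
      constructor
      · intro h
        have := hD.conj_mem (l⁻¹ : L) (L.inv_mem l.2) _ h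
        have e : ((l⁻¹ : L) : G) * ((l * a * l⁻¹ : L) : G) * ((l⁻¹ : L) : G)⁻¹ = (a : G) := by
          push_cast; group
        rwa [e] at this
      · intro h
        have := hD.conj_mem (l : G) l.2 _ h
        exact_mod_cast this
    by_cases h : (a : G) ∈ A
    · rw [if_pos h, if_pos (h1.mpr h)]
    · rw [if_neg h, if_neg (fun h' => h (h1.mp h'))]
  set D : Set G := {g : G | ∃ a ∈ A, ∃ u ∈ H a, ∃ x : G, x * g * x⁻¹ = a * u} with hDdef
  have hτ : ∀ g : G, Cfsg.dadeIsometry A L H φ g = if g ∈ D then 1 else 0 := by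
    intro g
    by_cases hg : g ∈ D
    · rw [if_pos hg]
      obtain ⟨a, ha, u, hu, x, hx⟩ := hg
      have hrel : Cfsg.Agent.Lib.Helper3.Dade.Rel A L H g ⟨a, hD.subset ha⟩ := ⟨ha, x, u, hu, hx⟩
      rw [Cfsg.Agent.Lib.Helper3.Dade.dade_eq hD hφ hrel]
      simp only [hφdef]
      rw [if_pos ha]
    · rw [if_neg hg]
      apply Cfsg.Agent.Lib.Helper3.Dade.dade_eq_zero
      rintro ⟨a, ha, x, u, hu, hx⟩
      exact hg ⟨a, ha, u, hu, x, hx⟩
  set Φ : G → ℂ := fun g => ((‖χ g‖ ^ 2 : ℝ) : ℂ) with hΦdef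
  have hΦ : Cfsg.IsClassFunction G Φ := by
    intro g h
    simp only [hΦdef]
    rw [hχ g h]
  have key := Cfsg.Agent.Lib.Helper3.Dade.sum_dade_mul hD hφ hΦ
  -- left side of key
  have hleft : ∑ g : G, Cfsg.dadeIsometry A L H φ g * Φ g =
      ((∑ᶠ g ∈ D, ‖χ g‖ ^ 2 : ℝ) : ℂ) := by
    have hfin : D.Finite := Set.toFinite _
    rw [finsum_mem_eq_finite_toFinset_sum _ hfin]
    push_cast
    rw [← Finset.sum_subset (Finset.subset_univ hfin.toFinset)]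
    · refine Finset.sum_congr rfl fun g hg => ?_
      rw [hτ g, if_pos ((Set.Finite.mem_toFinset hfin).mp hg), one_mul]
      simp only [hΦdef]
      push_cast
      rfl
    · intro g _ hg
      rw [hτ g, if_neg (fun h => hg ((Set.Finite.mem_toFinset hfin).mpr h)), zero_mul]
  -- right side of key
  have hHfin : ∀ a : G, (H a : Set G).Finite := fun a => Set.toFinite _
  have hright : ∀ a : L, (a : G) ∈ A →
      (‖ψ a‖ ^ 2 : ℝ) ≤ (Nat.card (H (a : G)) : ℝ)⁻¹ *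
        ∑ u ∈ (hHfin (a : G)).toFinset, ‖χ ((a : G) * u)‖ ^ 2 := by
    intro a ha
    rw [hψ a ha, finsum_mem_eq_finite_toFinset_sum _ (hHfin (a : G))]
    have hcard : (hHfin (a : G)).toFinset.card = Nat.card (H (a : G)) := by
      rw [← Nat.card_eq_card_finite_toFinset (hHfin (a : G))]
      rfl
    have hpos : (0 : ℝ) < (Nat.card (H (a : G)) : ℝ) := by exact_mod_cast Nat.card_pos
    rw [norm_mul, norm_inv, Complex.norm_natCast, mul_pow]
    have h1 : ‖∑ u ∈ (hHfin (a : G)).toFinset, χ ((a : G) * u)‖ ^ 2 ≤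
        (Nat.card (H (a : G)) : ℝ) * ∑ u ∈ (hHfin (a : G)).toFinset, ‖χ ((a : G) * u)‖ ^ 2 := by
      calc ‖∑ u ∈ (hHfin (a : G)).toFinset, χ ((a : G) * u)‖ ^ 2
          ≤ (∑ u ∈ (hHfin (a : G)).toFinset, ‖χ ((a : G) * u)‖) ^ 2 := by
            apply pow_le_pow_left₀ (norm_nonneg _) (norm_sum_le _ _)
        _ ≤ ((hHfin (a : G)).toFinset.card : ℝ) *
            ∑ u ∈ (hHfin (a : G)).toFinset, ‖χ ((a : G) * u)‖ ^ 2 := sq_sum_le_card_mul_sum_sq
        _ = _ := by rw [hcard]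
    calc ((Nat.card (H (a : G)) : ℝ)⁻¹) ^ 2 * ‖∑ u ∈ (hHfin (a : G)).toFinset, χ ((a : G) * u)‖ ^ 2
        ≤ ((Nat.card (H (a : G)) : ℝ)⁻¹) ^ 2 * ((Nat.card (H (a : G)) : ℝ) *
            ∑ u ∈ (hHfin (a : G)).toFinset, ‖χ ((a : G) * u)‖ ^ 2) := by
          apply mul_le_mul_of_nonneg_left h1 (by positivity)
      _ = _ := by field_simp
  have hrsum : ∑ a : L, (if (a : G) ∈ A then
        φ a * ((Nat.card (H (a : G)) : ℂ)⁻¹ * ∑ᶠ u ∈ (H (a : G) : Set G), Φ ((a : G) * u)) else 0) =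
      ((∑ a : L, (if (a : G) ∈ A then (Nat.card (H (a : G)) : ℝ)⁻¹ *
        ∑ u ∈ (hHfin (a : G)).toFinset, ‖χ ((a : G) * u)‖ ^ 2 else 0) : ℝ) : ℂ) := by
    push_cast
    refine Finset.sum_congr rfl fun a _ => ?_
    by_cases ha : (a : G) ∈ A
    · rw [if_pos ha, if_pos ha, finsum_mem_eq_finite_toFinset_sum _ (hHfin (a : G))]
      simp only [hφdef, hΦdef]
      rw [if_pos ha, one_mul]
      push_cast
      rfl
    · rw [if_neg ha, if_neg ha]
      simp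
  rw [hleft, hrsum] at key
  have key' : (Nat.card L : ℝ) * ∑ᶠ g ∈ D, ‖χ g‖ ^ 2 =
      (Nat.card G : ℝ) * ∑ a : L, (if (a : G) ∈ A then (Nat.card (H (a : G)) : ℝ)⁻¹ *
        ∑ u ∈ (hHfin (a : G)).toFinset, ‖χ ((a : G) * u)‖ ^ 2 else 0) := by
    exact_mod_cast key
  have hlhs : ∑ᶠ a ∈ {a : L | (a : G) ∈ A}, ‖ψ a‖ ^ 2 ≤
      ∑ a : L, (if (a : G) ∈ A then (Nat.card (H (a : G)) : ℝ)⁻¹ *
        ∑ u ∈ (hHfin (a : G)).toFinset, ‖χ ((a : G) * u)‖ ^ 2 else 0) := by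
    have hfinA : {a : L | (a : G) ∈ A}.Finite := Set.toFinite _
    rw [finsum_mem_eq_finite_toFinset_sum _ hfinA, ← Finset.sum_filter]
    have hfe : hfinA.toFinset = Finset.univ.filter fun a : L => (a : G) ∈ A := by
      ext a; simp
    rw [hfe]
    apply Finset.sum_le_sum
    intro a ha
    exact hright a (Finset.mem_filter.mp ha).2
  have h2 : (Nat.card G : ℝ)⁻¹ * ∑ᶠ g ∈ D, ‖χ g‖ ^ 2 =
      (Nat.card L : ℝ)⁻¹ * ∑ a : L, (if (a : G) ∈ A then (Nat.card (H (a : G)) : ℝ)⁻¹ *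
        ∑ u ∈ (hHfin (a : G)).toFinset, ‖χ ((a : G) * u)‖ ^ 2 else 0) := by
    rw [inv_mul_eq_iff_eq_mul₀ hG.ne', ← mul_assoc, mul_comm (Nat.card G : ℝ), mul_assoc, ← key',
      ← mul_assoc, inv_mul_cancel₀ hL.ne', one_mul]
  rw [h2]
  exact mul_le_mul_of_nonneg_left hlhs (by positivity)

end Cfsg.Agent.S1525
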