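import Cfsg.Statements.S1370
import Cfsg.Agent.Lib.Helper23.BGFourteenA
import Cfsg.Agent.Lib.Helper23.BGFourteenD
import Cfsg.Agent.S1350
import Cfsg.Agent.S1430
import Cfsg.Agent.S1366
import Cfsg.Agent.S1367
import Cfsg.Agent.S1368
import Cfsg.Agent.S1434

set_option autoImplicit false
open Cfsg

namespace Cfsg.Agent.S1370

/-- Let G be a minimal simple group of odd order, M a maximal subgroup with standard factorisation M = K U M_σ, K ≠ 1, K* = M_σ ∩ C_G(K) and Z the subgroup generated by K and K*. Then the set of elements of Z lying in neither K nor K* is a TI-subset of G, and its set-normalizer in G is exactly Z. -/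
theorem result {G : Type*} [Group G] [Finite G] (hG : Cfsg.IsMinSimpleOddOrder G)
    (M : Subgroup G) (hM : IsCoatom M) (K U : Subgroup G) (hKU : Cfsg.IsSigmaDecomposition M K U) (hK1 : K ≠ ⊥) :
    Cfsg.IsTISubset ((↑(K ⊔ (Cfsg.sigmaCore M ⊓ Subgroup.centralizer (K : Set G))) : Set G) \ ((K : Set G) ∪ ↑(Cfsg.sigmaCore M ⊓ Subgroup.centralizer (K : Set G)))) ∧ Subgroup.normalizer ((↑(K ⊔ (Cfsg.sigmaCore M ⊓ Subgroup.centralizer (K : Set G))) : Set G) \ ((K : Set G) ∪ ↑(Cfsg.sigmaCore M ⊓ Subgroup.centralizer (K : Set G)))) = K ⊔ (Cfsg.sigmaCore M ⊓ Subgroup.centralizer (K : Set G)) := by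
  have h1350 := (Cfsg.Agent.S1350.result hG M hM).1
  have h30 := Cfsg.Agent.S1430.result hG M hM K hKU.hall hK1
  obtain ⟨Mstar, ⟨hMs, hKst, hKstH⟩, -⟩ := Cfsg.Agent.S1366.result hG M hM K U hKU hK1
  have h68 := Cfsg.Agent.S1368.result hG M hM K U hKU hK1 Mstar hMs hKst hKstH
  have h67 := Cfsg.Agent.S1367.result hG M hM K U hKU hK1 Mstar hMs hKst hKstH
  have h34 := Cfsg.Agent.S1434.result hG M hM K U hKU hK1 Mstar hMs hKst hKstH
  have hKs1 := Cfsg.Agent.Lib.Helper23.kstar_ne_bot_of M K hKU.hall.1 hKU.hall.2.1 hK1 h30.1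
  have hcop := Cfsg.Agent.Lib.Helper23.coprime_card_kappa_sigmaCore h1350 hKU.hall.2.1
  have hdisj : K ⊓ (Cfsg.sigmaCore M ⊓ Subgroup.centralizer (K : Set G)) = ⊥ := by
    rw [eq_bot_iff, ← (Subgroup.disjoint_of_coprime_natCard hcop).eq_bot]
    exact inf_le_inf_left _ inf_le_left
  have hZtop : K ⊔ (Cfsg.sigmaCore M ⊓ Subgroup.centralizer (K : Set G)) ≠ ⊤ := by
    rw [← h68.1]
    intro h
    apply hM.1
    rw [eq_top_iff, ← h]
    exact inf_le_left
  exact Cfsg.Agent.Lib.Helper23.isTISubset_zHat hG.2.1 hK1 hKs1 hdisj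
    (fun a ha b hb => (Subgroup.mem_centralizer_iff.mp hb.2) a ha) h68.2 hZtop h68.1
    (fun x hx hx1 y hy hy1 => (h34.2.2.1 x hx hx1 y hy hy1).2.2)
    (fun Y hY hYp => (h67.2 Y hY hYp).2)
    (fun X hX hXp => (h67.1 X hX hXp).2)

end Cfsg.Agent.S1370
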