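import Mathlib
import Cfsg.Statements.S0188
import Cfsg.Agent.Lib.Helper3.IrrBasis
import Cfsg.Agent.Lib.Helper78.CharMore
import Cfsg.Agent.Lib.Helper79.ClassCount
import Cfsg.Agent.Lib.Helper80.CharBasic

set_option autoImplicit false
open Cfsg
open scoped ComplexConjugate

namespace Cfsg.Agent.S0188

/-- the (outer) product of two functions -/
def oprod {G H : Type*} (φ : G → ℂ) (ψ : H → ℂ) : G × H → ℂ := fun x => φ x.1 * ψ x.2

theorem classInner_oprod {G : Type*} [Group G] [Fintype G] {H : Type*} [Group H] [Fintype H]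
    (φ φ' : G → ℂ) (ψ ψ' : H → ℂ) :
    Cfsg.classInner (oprod φ ψ) (oprod φ' ψ') = Cfsg.classInner φ φ' * Cfsg.classInner ψ ψ' := by
  unfold Cfsg.classInner oprod
  rw [Nat.card_prod, Fintype.sum_prod_type]
  have : ∀ (g : G), ∑ h : H, φ g * ψ h * conj (φ' g * ψ' h) =
      (φ g * conj (φ' g)) * ∑ h : H, ψ h * conj (ψ' h) := by
    intro g
    rw [Finset.mul_sum]
    apply Finset.sum_congr rfl
    intro h _
    rw [map_mul]; ring
  simp_rw [this]
  rw [← Finset.sum_mul]
  push_cast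
  rw [mul_inv]
  ring

theorem isCharacter_oprod {G : Type*} [Group G] {H : Type*} [Group H] {φ : G → ℂ} {ψ : H → ℂ}
    (hφ : Cfsg.IsCharacter G φ) (hψ : Cfsg.IsCharacter H ψ) :
    Cfsg.IsCharacter (G × H) (oprod φ ψ) := by
  have h1 := Cfsg.Agent.Lib.Helper80.isCharacter_comp (MonoidHom.fst G H) hφ
  have h2 := Cfsg.Agent.Lib.Helper80.isCharacter_comp (MonoidHom.snd G H) hψ
  exact Cfsg.Agent.Lib.Helper80.isCharacter_mul h1 h2

theorem isIrrCharacter_oprod {G : Type*} [Group G] [Fintype G] {H : Type*} [Group H] [Fintype H]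
    {φ : G → ℂ} {ψ : H → ℂ}
    (hφ : Cfsg.IsIrrCharacter G φ) (hψ : Cfsg.IsIrrCharacter H ψ) :
    Cfsg.IsIrrCharacter (G × H) (oprod φ ψ) := by
  have hc := isCharacter_oprod (Cfsg.Agent.Lib.Helper3.IsIrrCharacter.isCharacter hφ)
    (Cfsg.Agent.Lib.Helper3.IsIrrCharacter.isCharacter hψ)
  rw [Cfsg.Agent.Lib.Helper78.isIrrCharacter_iff_classInner_self hc, classInner_oprod,
    Cfsg.Agent.Lib.Helper78.classInner_irr_self hφ, Cfsg.Agent.Lib.Helper78.classInner_irr_self hψ,
    mul_one]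

/-- The irreducible complex characters of G × H are precisely the functions (g, h) ↦ φ g * ψ h with φ, ψ irreducible characters of G and H. -/
theorem result {G : Type*} [Group G] [Finite G] {H : Type*} [Group H] [Finite H] (θ : G × H → ℂ) : Cfsg.IsIrrCharacter (G × H) θ ↔ ∃ (φ : G → ℂ) (ψ : H → ℂ), Cfsg.IsIrrCharacter G φ ∧ Cfsg.IsIrrCharacter H ψ ∧ θ = fun x => φ x.1 * ψ x.2 := by
  classical
  haveI : Fintype G := Fintype.ofFinite G
  haveI : Fintype H := Fintype.ofFinite H
  haveI : Fintype (Cfsg.IrrCharacter G) := Fintype.ofFinite _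
  haveI : Fintype (Cfsg.IrrCharacter H) := Fintype.ofFinite _
  constructor
  · intro hθ
    -- the delta function at 1 on G × H
    let r : G × H → ℂ := fun x => (∑ φ : Cfsg.IrrCharacter G, (φ : G → ℂ) 1 * (φ : G → ℂ) x.1) *
      (∑ ψ : Cfsg.IrrCharacter H, (ψ : H → ℂ) 1 * (ψ : H → ℂ) x.2)
    have hr : ∀ x : G × H, r x = if x = 1 then (Nat.card (G × H) : ℂ) else 0 := by
      intro x
      simp only [r]
      rw [Cfsg.Agent.Lib.Helper79.delta_eq_sum_irr, Cfsg.Agent.Lib.Helper79.delta_eq_sum_irr]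
      by_cases h1 : x.1 = 1
      · by_cases h2 : x.2 = 1
        · have : x = 1 := Prod.ext h1 h2
          rw [if_pos h1, if_pos h2, if_pos this, Nat.card_prod]; push_cast; ring
        · have : x ≠ 1 := fun h => h2 (by rw [h]; rfl)
          rw [if_neg h2, if_neg this, mul_zero]
      · have : x ≠ 1 := fun h => h1 (by rw [h]; rfl)
        rw [if_neg h1, if_neg this, zero_mul]
    -- ⟨θ, r⟩ = θ 1
    have hcardne : (Nat.card (G × H) : ℂ) ≠ 0 := by
      have : 0 < Nat.card (G × H) := Nat.card_pos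
      exact_mod_cast this.ne'
    have h1 : Cfsg.classInner θ r = θ 1 := by
      unfold Cfsg.classInner
      simp_rw [hr]
      rw [Finset.sum_eq_single (1 : G × H)]
      · rw [if_pos rfl, Complex.conj_natCast]
        field_simp
      · intro x _ hx
        rw [if_neg hx, map_zero, mul_zero]
      · intro h; exact absurd (Finset.mem_univ _) h
    have hθ1 : θ 1 ≠ 0 := by
      obtain ⟨n, ρ, hirr, hρ⟩ := hθ
      have := Cfsg.Agent.Lib.Helper79.irr_apply_one_ne_zero (⟨θ, ⟨n, ρ, hirr, hρ⟩⟩ : Cfsg.IrrCharacter (G × H))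
      exact this
    -- r as a combination of products
    have hr2 : r = ∑ φ : Cfsg.IrrCharacter G, ∑ ψ : Cfsg.IrrCharacter H,
        ((φ : G → ℂ) 1 * (ψ : H → ℂ) 1) • oprod (φ : G → ℂ) (ψ : H → ℂ) := by
      funext x
      simp only [r, Finset.sum_apply, Pi.smul_apply, oprod, smul_eq_mul]
      rw [Finset.sum_mul_sum]
      apply Finset.sum_congr rfl
      intro φ _
      apply Finset.sum_congr rfl
      intro ψ _
      ring
    by_contra hcon
    push_neg at hcon
    have hzero : Cfsg.classInner θ r = 0 := by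
      rw [hr2, Cfsg.Agent.Lib.Helper3.classInner_sum_right]
      apply Finset.sum_eq_zero
      intro φ _
      rw [Cfsg.Agent.Lib.Helper3.classInner_sum_right]
      apply Finset.sum_eq_zero
      intro ψ _
      rw [Cfsg.Agent.Lib.Helper3.classInner_smul_right]
      have hirr := isIrrCharacter_oprod φ.2 ψ.2
      have hne : θ ≠ oprod (φ : G → ℂ) (ψ : H → ℂ) := fun h => hcon _ _ φ.2 ψ.2 h
      rw [Cfsg.Agent.Lib.Helper78.classInner_irr_ne hθ hirr hne, mul_zero]
    rw [h1] at hzero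
    exact hθ1 hzero
  · rintro ⟨φ, ψ, hφ, hψ, rfl⟩
    exact isIrrCharacter_oprod hφ hψ

end Cfsg.Agent.S0188
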