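import Cfsg.Statements.S0924
import Cfsg.Agent.Lib.Helper78.SMTOrtho2
import Cfsg.Agent.S0912
import Cfsg.Agent.S0917

set_option autoImplicit false
open Cfsg

namespace Cfsg.Agent.S0924

/-- Let χ be an irreducible character of the finite group G and g ∈ G, and fix a maximal ideal M of the algebraic integers containing the prime p. If the p-part of g is contained in no defect group of the block of χ, then χ g = 0. -/
theorem result {G : Type*} [Group G] [Finite G] (p : ℕ) [Fact p.Prime] (M : Ideal Cfsg.AlgInt) (hM : Cfsg.IsPModular p M) (χ : Cfsg.IrrCharacter G) (g x : G) (hx : Cfsg.IsPPart p g x) (hD : ∀ D : Subgroup G, Cfsg.IsDefectGroup p M (Cfsg.blockOf M (χ : G → ℂ)) D → x ∉ D) : (χ : G → ℂ) g = 0 := by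
  classical
  haveI := Fintype.ofFinite G
  haveI : M.IsPrime := Cfsg.Agent.Lib.Helper16.isPModular_isPrime hM
  have hMtop : M ≠ ⊤ := (Cfsg.Agent.Lib.Helper16.isPModular_isPrime hM).ne_top
  obtain ⟨y₀, hxy, hcomm, hxord, hy₀⟩ := hx
  haveI : Fintype (Subgroup.centralizer ({x} : Set G)) := Fintype.ofFinite _
  have hB : Cfsg.IsPBlock M (Cfsg.blockOf M (χ : G → ℂ)) :=
    Cfsg.Agent.Lib.Helper16.isPBlock_blockOf χ
  have hχB : χ ∈ Cfsg.blockOf M (χ : G → ℂ) := Cfsg.Agent.Lib.Helper16.self_mem_blockOf hMtop χ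
  have hmem : y₀ ∈ Subgroup.centralizer ({x} : Set G) := by
    rw [Subgroup.mem_centralizer_iff]
    intro s hs
    rw [Set.mem_singleton_iff] at hs
    rw [hs]
    exact hcomm.eq
  have hxH : x ∈ Subgroup.centralizer ({x} : Set G) := by
    rw [Subgroup.mem_centralizer_iff]
    intro s hs
    rw [Set.mem_singleton_iff] at hs
    rw [hs]
  have hy : ¬ p ∣ orderOf (⟨y₀, hmem⟩ : Subgroup.centralizer ({x} : Set G)) := by
    rw [← Subgroup.orderOf_coe]
    exact hy₀
  -- no block of the centralizer induces the block of χ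
  have hno : ∀ ξ₀ : Cfsg.IrrCharacter (Subgroup.centralizer ({x} : Set G)),
      ¬ Cfsg.IsInducedBlock M (Subgroup.centralizer ({x} : Set G))
        (Cfsg.blockOf M (ξ₀ : Subgroup.centralizer ({x} : Set G) → ℂ))
        (Cfsg.blockOf M (χ : G → ℂ)) := by
    intro ξ₀ hind
    have hb : Cfsg.IsPBlock M (Cfsg.blockOf M (ξ₀ : Subgroup.centralizer ({x} : Set G) → ℂ)) :=
      Cfsg.Agent.Lib.Helper16.isPBlock_blockOf ξ₀
    obtain ⟨c, hc⟩ := Cfsg.Agent.Lib.Helper16.exists_isDefectClass (M := M) hb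
    obtain ⟨P⟩ : Nonempty (Sylow p (Subgroup.centralizer ({c} : Set
      (Subgroup.centralizer ({x} : Set G))))) := inferInstance
    have hDb : Cfsg.IsDefectGroup p M
        (Cfsg.blockOf M (ξ₀ : Subgroup.centralizer ({x} : Set G) → ℂ))
        ((P : Subgroup (Subgroup.centralizer ({c} : Set (Subgroup.centralizer ({x} : Set G))))).map
          (Subgroup.centralizer ({c} : Set (Subgroup.centralizer ({x} : Set G)))).subtype) :=
      ⟨c, hc, P, rfl⟩
    obtain ⟨E, hE, hle⟩ := Cfsg.Agent.S0917.result p M hM (Subgroup.centralizer ({x} : Set G))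
      _ hb _ hB hind _ hDb
    have hcore := Cfsg.Agent.S0912.result p M hM _ hb _ hDb
    apply hD E hE
    apply hle
    refine ⟨⟨x, hxH⟩, hcore ?_, rfl⟩
    -- x lies in the p-core of its centralizer
    have hcentral : ∀ d : Subgroup.centralizer ({x} : Set G),
        Commute d (⟨x, hxH⟩ : Subgroup.centralizer ({x} : Set G)) := by
      intro d
      have := d.2
      rw [Subgroup.mem_centralizer_iff] at this
      apply Subtype.ext
      exact (this x (Set.mem_singleton x)).symm
    have hN : (Subgroup.zpowers (⟨x, hxH⟩ : Subgroup.centralizer ({x} : Set G))).Normal := by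
      constructor
      intro n hn d
      obtain ⟨k, rfl⟩ := Subgroup.mem_zpowers_iff.mp hn
      have : d * (⟨x, hxH⟩ : Subgroup.centralizer ({x} : Set G)) ^ k * d⁻¹ =
          (⟨x, hxH⟩ : Subgroup.centralizer ({x} : Set G)) ^ k := by
        rw [((hcentral d).zpow_right k).eq, mul_assoc, mul_inv_cancel, mul_one]
      rw [this]
      exact Subgroup.zpow_mem_zpowers _ k
    have hPG : IsPGroup p (Subgroup.zpowers (⟨x, hxH⟩ : Subgroup.centralizer ({x} : Set G))) := by
      obtain ⟨k, hk⟩ := hxord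
      apply IsPGroup.of_card (n := k)
      rw [Nat.card_zpowers, ← Subgroup.orderOf_coe]
      exact hk
    have hle' : Subgroup.zpowers (⟨x, hxH⟩ : Subgroup.centralizer ({x} : Set G)) ≤
        Cfsg.pCore p (Subgroup.centralizer ({x} : Set G)) := le_sSup ⟨hN, hPG⟩
    exact hle' (Subgroup.mem_zpowers _)
  -- expand χ(x y) over the irreducible characters of the centralizer
  have hψcf := Cfsg.Agent.Lib.Helper78.isClassFunction_twist x
    (Cfsg.Agent.Lib.Helper78.isClassFunction_irr χ)
  have hexp := congrFun (Cfsg.Agent.Lib.Helper78.classFunction_eq_sum_irr hψcf) ⟨y₀, hmem⟩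
  rw [Finset.sum_apply] at hexp
  simp only [Pi.smul_apply, smul_eq_mul] at hexp
  rw [← hxy, hexp]
  have hzero := Cfsg.Agent.Lib.Helper78.sum_eq_zero_of_forall_block (M := M)
    (Set.univ : Set (Cfsg.IrrCharacter (Subgroup.centralizer ({x} : Set G))))
    (fun _ _ _ _ => Set.mem_univ _)
    (fun ξ => Cfsg.classInner (fun c : Subgroup.centralizer ({x} : Set G) =>
        (χ : G → ℂ) (x * (c : G))) (ξ : Subgroup.centralizer ({x} : Set G) → ℂ) *
      (ξ : Subgroup.centralizer ({x} : Set G) → ℂ) ⟨y₀, hmem⟩)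
    (by
      intro ξ₀ _
      have := Cfsg.Agent.S0923.result p M hM x hxord _ hB χ hχB _
        (Cfsg.Agent.Lib.Helper16.isPBlock_blockOf ξ₀) (hno ξ₀) ⟨y₀, hmem⟩ hy
      rw [Cfsg.Agent.Lib.Helper78.blockPart_apply] at this
      exact this)
  simpa using hzero

end Cfsg.Agent.S0924
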