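import Cfsg.Statements.S4434
import Cfsg.Agent.Lib.Helper82.BlockInflation
import Cfsg.Agent.Lib.Helper16.DefectClass
import Cfsg.Agent.Lib.Helper16.Induced
import Cfsg.Agent.S0911
import Cfsg.Agent.S0916
import Cfsg.Agent.S0912
import Cfsg.Agent.Lib.Helper1.PCore
import Cfsg.Agent.Lib.Helper78.DefectOrder

set_option autoImplicit false
open Cfsg

namespace Cfsg.Agent.S4434

open Cfsg.Agent.Lib.Helper16 Cfsg.Agent.Lib.Helper77 Cfsg.Agent.Lib.Helper78 Cfsg.Agent.Lib.Helper82
open scoped ComplexConjugate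

section Aux

variable {G : Type*} [Group G] [Fintype G]

/-- Summing an irreducible character over a coset of a normal subgroup. -/
theorem sum_normal_mul (χ : IrrCharacter G) (N : Subgroup G) [N.Normal] [Fintype N] (g : G) :
    ∑ n : N, (χ : G → ℂ) ((n : G) * g) =
      (∑ n : N, (χ : G → ℂ) (n : G)) * (χ : G → ℂ) g / (χ : G → ℂ) 1 := by
  have hG0 : (Nat.card G : ℂ) ≠ 0 := by exact_mod_cast Nat.card_pos.ne'
  have h1 : ∑ n : N, ∑ a : G, (χ : G → ℂ) (a * (n : G) * a⁻¹ * g) =
      (Nat.card G : ℂ) * ((∑ n : N, (χ : G → ℂ) (n : G)) * (χ : G → ℂ) g / (χ : G → ℂ) 1) := by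
    have h0 : ∀ n : N, ∑ a : G, (χ : G → ℂ) (a * (n : G) * a⁻¹ * g) =
        (Nat.card G : ℂ) * (χ : G → ℂ) (n : G) * (χ : G → ℂ) g / (χ : G → ℂ) 1 :=
      fun n => Cfsg.Agent.Lib.Helper79.irr_sum_conj_mul χ (n : G) g
    rw [Finset.sum_congr rfl (fun n _ => h0 n)]
    rw [Finset.sum_mul, Finset.sum_div, Finset.mul_sum]
    apply Finset.sum_congr rfl
    intro n _
    ring
  have h2 : ∑ n : N, ∑ a : G, (χ : G → ℂ) (a * (n : G) * a⁻¹ * g) =
      (Nat.card G : ℂ) * ∑ n : N, (χ : G → ℂ) ((n : G) * g) := by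
    rw [Finset.sum_comm]
    have : ∀ a : G, ∑ n : N, (χ : G → ℂ) (a * (n : G) * a⁻¹ * g) =
        ∑ n : N, (χ : G → ℂ) ((n : G) * g) := by
      intro a
      rw [← Equiv.sum_comp (MulAut.conjNormal a : N ≃* N).toEquiv
        (fun n : N => (χ : G → ℂ) ((n : G) * g))]
      apply Finset.sum_congr rfl
      intro n _
      simp [MulAut.conjNormal_apply]
    rw [Finset.sum_congr rfl (fun a _ => this a), Finset.sum_const, Finset.card_univ,
      nsmul_eq_mul, Nat.card_eq_fintype_card]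
  rw [h2] at h1
  exact mul_left_cancel₀ hG0 h1

/-- The idempotent coefficient of the set of characters of `G ⧸ N` inflating into `B`. -/
theorem blockCoeff_quotient (N : Subgroup G) [N.Normal] [Fintype N] (B : Set (IrrCharacter G))
    (g : G) :
    blockCoeff {χb : IrrCharacter (G ⧸ N) | inflate N χb ∈ B} (g : G ⧸ N) =
      ∑ n : N, blockCoeff B ((n : G) * g) := by
  classical
  haveI : Fintype (G ⧸ N) := Fintype.ofFinite _
  set S : Set (IrrCharacter (G ⧸ N)) := {χb | inflate N χb ∈ B} with hS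
  set Bfin := Finset.univ.filter (fun χ : IrrCharacter G => χ ∈ B) with hBfin
  set Sfin := Finset.univ.filter (fun χb : IrrCharacter (G ⧸ N) => χb ∈ S) with hSfin
  have hN0 : (Nat.card N : ℂ) ≠ 0 := by exact_mod_cast Nat.card_pos.ne'
  have hG0 : (Nat.card G : ℂ) ≠ 0 := by exact_mod_cast Nat.card_pos.ne'
  have hQ0 : (Nat.card (G ⧸ N) : ℂ) ≠ 0 := by exact_mod_cast Nat.card_pos.ne'
  have hcard : (Nat.card G : ℂ) = (Nat.card (G ⧸ N) : ℂ) * (Nat.card N : ℂ) := by
    have := Subgroup.card_eq_card_quotient_mul_card_subgroup N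
    exact_mod_cast this
  -- right-hand side
  have hR : ∑ n : N, blockCoeff B ((n : G) * g) = (Nat.card G : ℂ)⁻¹ * ((Nat.card N : ℂ) *
      ∑ χ ∈ Bfin.filter (fun χ : IrrCharacter G => ∀ n ∈ N, (χ : G → ℂ) n = (χ : G → ℂ) 1),
        (χ : G → ℂ) 1 * conj ((χ : G → ℂ) g)) := by
    have hterm : ∀ χ : IrrCharacter G, ∑ n : N, (χ : G → ℂ) 1 * conj ((χ : G → ℂ) ((n : G) * g)) =
        if (∀ n ∈ N, (χ : G → ℂ) n = (χ : G → ℂ) 1) then
          (Nat.card N : ℂ) * ((χ : G → ℂ) 1 * conj ((χ : G → ℂ) g)) else 0 := by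
      intro χ
      rw [← Finset.mul_sum, ← map_sum, sum_normal_mul]
      have hχ1 : (χ : G → ℂ) 1 ≠ 0 := Cfsg.Agent.Lib.Helper79.irr_apply_one_ne_zero χ
      have hχreal : conj ((χ : G → ℂ) 1) = (χ : G → ℂ) 1 := by
        rw [IsCharacter.apply_one_eq_charDegree (IsIrrCharacter.isCharacter χ.2),
          Complex.conj_natCast]
      split_ifs with hker
      · have hsum : ∑ n : N, (χ : G → ℂ) (n : G) = (Nat.card N : ℂ) * (χ : G → ℂ) 1 := by
          rw [Finset.sum_congr rfl (fun (n : N) _ => hker (n : G) n.2), Finset.sum_const, Finset.card_univ,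
            nsmul_eq_mul, Nat.card_eq_fintype_card]
        rw [hsum, map_div₀, map_mul, map_mul, hχreal, Complex.conj_natCast]
        field_simp
      · have hsum : ∑ n : N, (χ : G → ℂ) (n : G) = 0 := by
          by_contra hne
          exact hker (forall_mem_eq_of_sum_ne_zero N χ.2 hne)
        rw [hsum, zero_mul, zero_div, map_zero, mul_zero]
    have hstep : ∑ n : N, blockCoeff B ((n : G) * g) = (Nat.card G : ℂ)⁻¹ *
        ∑ χ ∈ Bfin, ∑ n : N, (χ : G → ℂ) 1 * conj ((χ : G → ℂ) ((n : G) * g)) := by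
      rw [Finset.sum_comm, Finset.mul_sum]
      apply Finset.sum_congr rfl
      intro n _
      rw [blockCoeff_eq_sum]
    rw [hstep, Finset.sum_congr rfl (fun χ _ => hterm χ), ← Finset.sum_filter, ← Finset.mul_sum]
  -- left-hand side
  have hL : blockCoeff S (g : G ⧸ N) = (Nat.card (G ⧸ N) : ℂ)⁻¹ *
      ∑ χ ∈ Bfin.filter (fun χ : IrrCharacter G => ∀ n ∈ N, (χ : G → ℂ) n = (χ : G → ℂ) 1),
        (χ : G → ℂ) 1 * conj ((χ : G → ℂ) g) := by
    rw [blockCoeff_eq_sum]
    congr 1
    have himg : Bfin.filter (fun χ : IrrCharacter G => ∀ n ∈ N, (χ : G → ℂ) n = (χ : G → ℂ) 1) =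
        Sfin.image (inflate N) := by
      ext χ
      simp only [hBfin, hSfin, hS, Finset.mem_filter, Finset.mem_univ, true_and,
        Finset.mem_image, Set.mem_setOf_eq]
      constructor
      · rintro ⟨hχB, hker⟩
        exact ⟨deflate N χ hker, by rw [inflate_deflate]; exact hχB, inflate_deflate N χ hker⟩
      · rintro ⟨χb, hχb, rfl⟩
        exact ⟨hχb, inflate_apply_of_mem N χb⟩
    rw [himg, Finset.sum_image (fun a _ b _ h => inflate_injective N h)]
    apply Finset.sum_congr rfl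
    intro χb _
    rw [inflate_apply, inflate_apply, QuotientGroup.mk_one]
  rw [hL, hR, hcard]
  field_simp

/-- A union of blocks whose idempotent coefficient at `x` is not in the local ideal contains a
block with the same property. -/
theorem exists_block_coeff {M : Ideal AlgInt} [hMp : M.IsPrime] (S : Set (IrrCharacter G))
    (hS : ∀ χ ∈ S, ∀ ψ : IrrCharacter G, SameBlock M (χ : G → ℂ) (ψ : G → ℂ) → ψ ∈ S) (x : G)
    (hx : ¬ MemLocalIdeal M (blockCoeff S x)) :
    ∃ χ ∈ S, ¬ MemLocalIdeal M (blockCoeff (blockOf M (χ : G → ℂ)) x) := by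
  classical
  by_contra hcon
  push Not at hcon
  apply hx
  set Sfin := Finset.univ.filter (fun χ : IrrCharacter G => χ ∈ S) with hSfin
  set 𝔅 : Finset (Set (IrrCharacter G)) := Sfin.image (fun χ : IrrCharacter G => blockOf M (χ : G → ℂ)) with h𝔅
  have hmaps : ∀ χ ∈ Sfin, (fun χ : IrrCharacter G => blockOf M (χ : G → ℂ)) χ ∈ 𝔅 :=
    fun χ hχ => Finset.mem_image_of_mem _ hχ
  rw [blockCoeff_eq_sum, ← Finset.sum_fiberwise_of_maps_to hmaps, Finset.mul_sum]
  apply memLocalIdeal_sum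
  intro b hb
  obtain ⟨χ₀, hχ₀, rfl⟩ := Finset.mem_image.mp hb
  have hχ₀S : χ₀ ∈ S := (Finset.mem_filter.mp hχ₀).2
  have hfil : Sfin.filter (fun χ : IrrCharacter G => blockOf M (χ : G → ℂ) =
      blockOf M (χ₀ : G → ℂ)) =
      Finset.univ.filter (fun χ : IrrCharacter G => χ ∈ blockOf M (χ₀ : G → ℂ)) := by
    ext χ
    simp only [hSfin, Finset.mem_filter, Finset.mem_univ, true_and]
    constructor
    · rintro ⟨_, h⟩
      rw [← h]
      exact self_mem_blockOf hMp.ne_top χ
    · intro h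
      exact ⟨hS χ₀ hχ₀S χ (mem_blockOf_iff.mp h), blockOf_eq_of_mem h⟩
  rw [hfil, ← blockCoeff_eq_sum]
  exact hcon χ₀ hχ₀S

end Aux

section Aux2

variable {G : Type*} [Group G]

theorem eq_one_of_pRegular_mul {p : ℕ} (hp : p.Prime) {c y : G} (hcomm : Commute c y)
    {k : ℕ} (hc : orderOf c = p ^ k) (hy : ¬ p ∣ orderOf y) (hcy : ¬ p ∣ orderOf (c * y)) :
    c = 1 := by
  set n := orderOf y * orderOf (c * y) with hn
  have hpn : ¬ p ∣ n := by
    intro h
    rcases hp.dvd_mul.mp h with h | h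
    · exact hy h
    · exact hcy h
  have h1 : (c * y) ^ n = 1 := by
    rw [hn, mul_comm, pow_mul, pow_orderOf_eq_one, one_pow]
  have h2 : y ^ n = 1 := by
    rw [hn, pow_mul, pow_orderOf_eq_one, one_pow]
  rw [hcomm.mul_pow, h2, mul_one] at h1
  have h3 : orderOf c ∣ n := orderOf_dvd_of_pow_eq_one h1
  rw [hc] at h3
  rcases Nat.eq_zero_or_pos k with h0 | h0
  · rw [h0, pow_zero] at hc
    exact orderOf_eq_one_iff.mp hc
  · exfalso
    apply hpn
    exact dvd_trans (dvd_pow_self p h0.ne') h3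

theorem centralizer_conj_eq (g x : G) :
    Subgroup.centralizer ({x * g * x⁻¹} : Set G) =
      (Subgroup.centralizer ({g} : Set G)).map (MulAut.conj x).toMonoidHom := by
  ext y
  rw [mem_map_conj_iff, Subgroup.mem_centralizer_singleton_iff,
    Subgroup.mem_centralizer_singleton_iff]
  constructor
  · intro h
    calc x⁻¹ * y * x * g = x⁻¹ * (y * (x * g * x⁻¹)) * x := by group
      _ = x⁻¹ * ((x * g * x⁻¹) * y) * x := by rw [h]
      _ = g * (x⁻¹ * y * x) := by group
  · intro h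
    calc y * (x * g * x⁻¹) = x * ((x⁻¹ * y * x) * g) * x⁻¹ := by group
      _ = x * (g * (x⁻¹ * y * x)) * x⁻¹ := by rw [h]
      _ = x * g * x⁻¹ * y := by group

/-- A conjugate of a defect group is a defect group. -/
theorem isDefectGroup_conj [Finite G] (p : ℕ) [Fact p.Prime] (M : Ideal AlgInt)
    (B : Set (IrrCharacter G)) (P : Subgroup G) (hP : IsDefectGroup p M B P) (x : G) :
    IsDefectGroup p M B (P.map (MulAut.conj x).toMonoidHom) := by
  classical
  haveI := Fintype.ofFinite G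
  obtain ⟨g, hg, P₀, rfl⟩ := hP
  refine ⟨x * g * x⁻¹, isDefectClass_conj hg x, ?_⟩
  have hcardP : Nat.card ((P₀ : Subgroup (Subgroup.centralizer ({g} : Set G))).map
      (Subgroup.centralizer ({g} : Set G)).subtype) =
      p ^ (Nat.card (Subgroup.centralizer ({g} : Set G))).factorization p := by
    rw [Subgroup.card_map_of_injective (Subgroup.subtype_injective _), Sylow.card_eq_multiplicity]
  have hcardC : Nat.card (Subgroup.centralizer ({x * g * x⁻¹} : Set G)) =
      Nat.card (Subgroup.centralizer ({g} : Set G)) := by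
    rw [centralizer_conj_eq, Subgroup.card_map_of_injective (MulAut.conj x).injective]
  have h := (Cfsg.Agent.S0916.exists_sylow_map_eq_iff p
    (Subgroup.centralizer ({x * g * x⁻¹} : Set G))
    (((P₀ : Subgroup (Subgroup.centralizer ({g} : Set G))).map
      (Subgroup.centralizer ({g} : Set G)).subtype).map (MulAut.conj x).toMonoidHom)).mpr
    ⟨by
      rw [centralizer_conj_eq]
      exact Subgroup.map_mono (Subgroup.map_subtype_le _), by
      rw [Subgroup.card_map_of_injective (MulAut.conj x).injective, hcardP, hcardC]⟩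
  obtain ⟨S, hS⟩ := h
  exact ⟨S, hS.symm⟩

/-- Any two defect groups of a block are conjugate. -/
theorem defectGroups_conj [Finite G] (p : ℕ) [Fact p.Prime] (M : Ideal AlgInt)
    (hM : IsPModular p M) (B : Set (IrrCharacter G)) (hB : IsPBlock M B) (D D' : Subgroup G)
    (hD : IsDefectGroup p M B D) (hD' : IsDefectGroup p M B D') :
    ∃ x : G, D' = D.map (MulAut.conj x).toMonoidHom := by
  classical
  haveI := Fintype.ofFinite G
  haveI hMp := isPModular_isPrime hM
  have hcD := card_defectGroup hM hB hD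
  have hcD' := card_defectGroup hM hB hD'
  obtain ⟨g, hg, P₀, rfl⟩ := hD
  obtain ⟨g', hg', P₀', rfl⟩ := hD'
  obtain ⟨χ, hχ⟩ := IsPBlock_nonempty hMp.ne_top hB
  obtain ⟨x, Q, hxQ⟩ :=
    (Cfsg.Agent.S0911.result p M hM B hB g hg P₀ g').2 ⟨χ, hχ, hg'.2.2 χ hχ⟩
  set D := (P₀ : Subgroup (Subgroup.centralizer ({g} : Set G))).map
    (Subgroup.centralizer ({g} : Set G)).subtype with hDdef
  set D' := (P₀' : Subgroup (Subgroup.centralizer ({g'} : Set G))).map
    (Subgroup.centralizer ({g'} : Set G)).subtype with hD'def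
  set Q' := (Q : Subgroup (Subgroup.centralizer ({g'} : Set G))).map
    (Subgroup.centralizer ({g'} : Set G)).subtype with hQ'def
  have hcQ' : Nat.card Q' = p ^ (Nat.card (Subgroup.centralizer ({g'} : Set G))).factorization p := by
    rw [hQ'def, Subgroup.card_map_of_injective (Subgroup.subtype_injective _),
      Sylow.card_eq_multiplicity]
  have hcD'2 : Nat.card D' = p ^ (Nat.card (Subgroup.centralizer ({g'} : Set G))).factorization p := by
    rw [hD'def, Subgroup.card_map_of_injective (Subgroup.subtype_injective _),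
      Sylow.card_eq_multiplicity]
  obtain ⟨z, -, hz⟩ := Cfsg.Agent.S0916.exists_conj_of_card_eq p
    (Subgroup.centralizer ({g'} : Set G)) Q' D' (Subgroup.map_subtype_le _)
    (Subgroup.map_subtype_le _) hcQ' hcD'2
  refine ⟨z * x, ?_⟩
  symm
  apply Subgroup.eq_of_le_of_card_ge
  · rintro _ ⟨y, hy, rfl⟩
    have h1 : x * y * x⁻¹ ∈ Q' := hxQ ⟨y, hy, by simp⟩
    have h2 := hz _ h1
    have h3 : (MulAut.conj (z * x)).toMonoidHom y = z * (x * y * x⁻¹) * z⁻¹ := by
      simp [MulAut.conj_apply, mul_assoc]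
    rw [h3]
    exact h2
  · have e : Nat.card (D.map (MulAut.conj (z * x)).toMonoidHom) = Nat.card D :=
      Subgroup.card_map_of_injective (MulAut.conj (z * x)).injective
    rw [e, hcD, hcD']

theorem map_conj_map_mk (N : Subgroup G) [N.Normal] (P : Subgroup G) (x : G) :
    (P.map (MulAut.conj x).toMonoidHom).map (QuotientGroup.mk' N) =
      (P.map (QuotientGroup.mk' N)).map (MulAut.conj (x : G ⧸ N)).toMonoidHom := by
  rw [Subgroup.map_map, Subgroup.map_map]
  congr 1

/-- The image of a Sylow subgroup of `C` is a Sylow subgroup of `Cbar` when the index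
`[preimage of Cbar : C]` is prime to `p`. -/
theorem image_sylow [Finite G] (p : ℕ) [Fact p.Prime] (N : Subgroup G) [N.Normal]
    (C : Subgroup G) (Cbar : Subgroup (G ⧸ N))
    (hCH : C ≤ Cbar.comap (QuotientGroup.mk' N)) (P₀ : Sylow p C)
    (hkp : ¬ p ∣ C.relIndex (Cbar.comap (QuotientGroup.mk' N))) :
    (((P₀ : Subgroup C).map C.subtype).map (QuotientGroup.mk' N)) ≤ Cbar ∧
    Nat.card (((P₀ : Subgroup C).map C.subtype).map (QuotientGroup.mk' N)) =
      p ^ (Nat.card Cbar).factorization p := by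
  have hp : p.Prime := Fact.out
  set H := Cbar.comap (QuotientGroup.mk' N) with hH
  set P := (P₀ : Subgroup C).map C.subtype with hP
  have hPC : P ≤ C := Subgroup.map_subtype_le _
  have hNH : N ≤ H := by
    intro n hn
    rw [hH, Subgroup.mem_comap]
    have : (QuotientGroup.mk' N) n = 1 := (QuotientGroup.eq_one_iff n).mpr hn
    rw [this]
    exact one_mem _
  have hHmap : H.map (QuotientGroup.mk' N) = Cbar :=
    Subgroup.map_comap_eq_self_of_surjective (QuotientGroup.mk'_surjective N) Cbar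
  set Pbar := P.map (QuotientGroup.mk' N) with hPbar
  have hPbarC : Pbar ≤ Cbar := by
    rw [← hHmap]
    exact Subgroup.map_mono (hPC.trans hCH)
  have hPpg : IsPGroup p P := P₀.isPGroup'.map _
  have hPbarpg : IsPGroup p Pbar := hPpg.map _
  have hrel1 : P.relIndex C = (P₀ : Subgroup C).index := by
    unfold Subgroup.relIndex
    congr 1
    exact Subgroup.comap_map_eq_self_of_injective (Subgroup.subtype_injective C) _
  have hrelPH : ¬ p ∣ P.relIndex H := by
    rw [← Subgroup.relIndex_mul_relIndex P C H hPC hCH, hrel1]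
    intro hdvd
    rcases hp.dvd_mul.mp hdvd with h1 | h1
    · exact P₀.not_dvd_index h1
    · exact hkp h1
  have hrelbar : ¬ p ∣ Pbar.relIndex Cbar := by
    rw [← hHmap, hPbar, Subgroup.relIndex_map_map, QuotientGroup.ker_mk']
    have hHN : H ⊔ N = H := sup_eq_left.mpr hNH
    rw [hHN]
    intro hdvd
    apply hrelPH
    rw [← Subgroup.relIndex_mul_relIndex P (P ⊔ N) H le_sup_left (sup_le (hPC.trans hCH) hNH)]
    exact dvd_mul_of_dvd_right hdvd _
  refine ⟨hPbarC, ?_⟩
  have hpg' : IsPGroup p (Pbar.subgroupOf Cbar) := hPbarpg.comap_subtype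
  let S' : Sylow p Cbar := hpg'.toSylow hrelbar
  have h1 : Nat.card (S' : Subgroup Cbar) = p ^ (Nat.card Cbar).factorization p :=
    Sylow.card_eq_multiplicity S'
  have h2 : Nat.card (Pbar.subgroupOf Cbar) = Nat.card Pbar :=
    Nat.card_congr (Subgroup.subgroupOfEquivOfLe hPbarC).toEquiv
  rw [← h2]
  exact h1

end Aux2

/-- Let N be a normal p-subgroup of the finite group G and write Ḡ = G/N; fix a maximal ideal M of the algebraic integers containing p. Then every block B of G contains a block B̄ of Ḡ (the inflation of every member of B̄ lies in B) whose defect groups are exactly the images in Ḡ of the defect groups of B. -/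
theorem result {G : Type*} [Group G] [Finite G] (p : ℕ) [Fact p.Prime] (M : Ideal Cfsg.AlgInt) (hM : Cfsg.IsPModular p M) (N : Subgroup G) [N.Normal] (hN : IsPGroup p N) (B : Set (Cfsg.IrrCharacter G)) (hB : Cfsg.IsPBlock M B) : ∃ Bbar : Set (Cfsg.IrrCharacter (G ⧸ N)), Cfsg.IsPBlock M Bbar ∧ (∀ χ ∈ Bbar, ∀ ψ : Cfsg.IrrCharacter G, (ψ : G → ℂ) = (χ : G ⧸ N → ℂ) ∘ QuotientGroup.mk → ψ ∈ B) ∧ ∀ Dbar : Subgroup (G ⧸ N), Cfsg.IsDefectGroup p M Bbar Dbar ↔ ∃ P : Subgroup G, Cfsg.IsDefectGroup p M B P ∧ Dbar = P.map (QuotientGroup.mk' N) := by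
  classical
  haveI := Fintype.ofFinite G
  haveI : Fintype N := Fintype.ofFinite _
  haveI : Fintype (G ⧸ N) := Fintype.ofFinite _
  haveI hMp := isPModular_isPrime hM
  have hp : p.Prime := Fact.out
  obtain ⟨g, hg⟩ := exists_isDefectClass hB
  let P₀ : Sylow p (Subgroup.centralizer ({g} : Set G)) := default
  set P := (P₀ : Subgroup (Subgroup.centralizer ({g} : Set G))).map
    (Subgroup.centralizer ({g} : Set G)).subtype with hP
  have hPdef : IsDefectGroup p M B P := ⟨g, hg, P₀, rfl⟩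
  have hNP : N ≤ P :=
    (Cfsg.Agent.Lib.Helper1.le_pCore inferInstance hN).trans
      (Cfsg.Agent.S0912.result p M hM B hB P hPdef)
  have hNC : N ≤ Subgroup.centralizer ({g} : Set G) := hNP.trans (Subgroup.map_subtype_le _)
  have hgreg : ¬ p ∣ orderOf g := IsDefectClass.not_dvd_orderOf hM hB hg
  set S : Set (IrrCharacter (G ⧸ N)) := {χb | inflate N χb ∈ B} with hS
  -- the coefficient at the image of `g`
  have hcoef : blockCoeff S (g : G ⧸ N) = blockCoeff B g := by
    rw [hS, blockCoeff_quotient, Finset.sum_eq_single (1 : N)]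
    · simp
    · intro n _ hn1
      apply blockCoeff_eq_zero_of_pSingular hM hB
      by_contra hreg
      have hcomm : Commute (n : G) g :=
        (Subgroup.mem_centralizer_singleton_iff.mp (hNC n.2))
      obtain ⟨k, hk⟩ := (IsPGroup.iff_orderOf.mp hN) n
      have hk' : orderOf (n : G) = p ^ k := by rw [Subgroup.orderOf_coe, hk]
      have h1 := eq_one_of_pRegular_mul hp hcomm hk' hgreg hreg
      exact hn1 (Subtype.ext h1)
    · intro h; exact absurd (Finset.mem_univ _) h
  have hSclosed : ∀ χ ∈ S, ∀ ψ : IrrCharacter (G ⧸ N),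
      SameBlock M (χ : G ⧸ N → ℂ) (ψ : G ⧸ N → ℂ) → ψ ∈ S := by
    intro χ hχ ψ h
    have h1 := sameBlock_comp_mk N hMp.ne_top h
    show inflate N ψ ∈ B
    rw [IsPBlock_eq_blockOf hB hχ]
    exact mem_blockOf_iff.mpr h1
  have hnot : ¬ MemLocalIdeal M (blockCoeff S (g : G ⧸ N)) := by
    rw [hcoef]; exact hg.2.1
  obtain ⟨χb, hχbS, hχb⟩ := exists_block_coeff S hSclosed (g : G ⧸ N) hnot
  set Bbar := blockOf M (χb : G ⧸ N → ℂ) with hBbardef
  have hBbar : IsPBlock M Bbar := isPBlock_blockOf χb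
  have hBbarS : ∀ ψ ∈ Bbar, inflate N ψ ∈ B :=
    fun ψ hψ => hSclosed χb hχbS ψ (mem_blockOf_iff.mp hψ)
  -- central characters
  have hωB : ∀ ψ ∈ Bbar,
      ¬ MemLocalIdeal M ((((Subgroup.centralizer ({g} : Set G)).relIndex
        ((Subgroup.centralizer ({(g : G ⧸ N)} : Set (G ⧸ N))).comap (QuotientGroup.mk' N)) : ℕ) : ℂ) *
        centralChar (ψ : G ⧸ N → ℂ) (g : G ⧸ N)) := by
    intro ψ hψ
    have h1 := hg.2.2 (inflate N ψ) (hBbarS ψ hψ)
    have hcoe : (inflate N ψ : G → ℂ) = (ψ : G ⧸ N → ℂ) ∘ (QuotientGroup.mk : G → G ⧸ N) := rfl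
    rw [hcoe, centralChar_comp_mk] at h1
    exact h1
  have hω : ∀ ψ ∈ Bbar, ¬ MemLocalIdeal M (centralChar (ψ : G ⧸ N → ℂ) (g : G ⧸ N)) := by
    intro ψ hψ h'
    exact hωB ψ hψ (memLocalIdeal_mul_left (memLocalRing_natCast hMp.ne_top _) h')
  have hkp : ¬ p ∣ (Subgroup.centralizer ({g} : Set G)).relIndex
      ((Subgroup.centralizer ({(g : G ⧸ N)} : Set (G ⧸ N))).comap (QuotientGroup.mk' N)) := by
    intro hpk
    apply hωB χb (self_mem_blockOf hMp.ne_top χb)
    apply memLocalIdeal_mul_right ((memLocalIdeal_natCast_iff hM _).mpr hpk)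
    exact memLocalRing_of_isIntegral hMp.ne_top
      (Cfsg.Agent.Lib.Helper79.isIntegral_centralChar χb _)
  have hgbar : IsDefectClass M Bbar (g : G ⧸ N) :=
    ⟨blockCoeff_memLocalRing hBbar _, hχb, hω⟩
  -- the image of `P` is a defect group of `Bbar`
  obtain ⟨hPbarC, hPbarcard⟩ := image_sylow p N (Subgroup.centralizer ({g} : Set G))
    (Subgroup.centralizer ({(g : G ⧸ N)} : Set (G ⧸ N))) (centralizer_le_comap N g) P₀ hkp
  obtain ⟨Qs, hQs⟩ := (Cfsg.Agent.S0916.exists_sylow_map_eq_iff p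
    (Subgroup.centralizer ({(g : G ⧸ N)} : Set (G ⧸ N)))
    (P.map (QuotientGroup.mk' N))).mpr ⟨hPbarC, hPbarcard⟩
  have hPbardef : IsDefectGroup p M Bbar (P.map (QuotientGroup.mk' N)) :=
    ⟨(g : G ⧸ N), hgbar, Qs, hQs.symm⟩
  refine ⟨Bbar, hBbar, ?_, ?_⟩
  · intro χ hχ ψ hψ
    have : ψ = inflate N χ := Subtype.ext hψ
    rw [this]
    exact hBbarS χ hχ
  · intro Dbar
    constructor
    · intro hD
      obtain ⟨xbar, hx⟩ := defectGroups_conj p M hM Bbar hBbar _ Dbar hPbardef hD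
      obtain ⟨x, rfl⟩ := QuotientGroup.mk_surjective xbar
      refine ⟨P.map (MulAut.conj x).toMonoidHom, isDefectGroup_conj p M B P hPdef x, ?_⟩
      rw [hx, map_conj_map_mk]
    · rintro ⟨P', hP', rfl⟩
      obtain ⟨x, hx⟩ := defectGroups_conj p M hM B hB P P' hPdef hP'
      rw [hx, map_conj_map_mk]
      exact isDefectGroup_conj p M Bbar _ hPbardef _

end Cfsg.Agent.S4434
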