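import Cfsg.Statements.S0961
import Cfsg.Agent.S0164
import Cfsg.Agent.S0148
import Cfsg.Agent.Lib.Helper78.BlockSums
import Cfsg.Agent.Lib.Helper75.Clifford
import Cfsg.Agent.Lib.Helper34.NormalPComplement
import Cfsg.Agent.Lib.Helper16.PIndex

set_option autoImplicit false
open Cfsg

namespace Cfsg.Agent.S0961

open Cfsg.Agent.Lib

section

variable {E : Type*} [Group E] [Finite E]

/-- An elementary group has a normal `p`-complement for every prime `p`. -/
theorem exists_normal_pComplement_of_isElementary (p q : ℕ) [Fact p.Prime] [Fact q.Prime]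
    (hE : IsElementary q E) :
    ∃ K : Subgroup E, K.Normal ∧ ¬ p ∣ Nat.card K ∧ ∃ k : ℕ, K.index = p ^ k := by
  obtain ⟨x, hxc, hxq, k, hk⟩ := hE
  have hZn : (Subgroup.zpowers x).Normal := by
    constructor
    intro n hn g
    have hnc : n ∈ Subgroup.center E := by
      obtain ⟨i, rfl⟩ := Subgroup.mem_zpowers_iff.mp hn
      exact Subgroup.zpow_mem _ hxc i
    have : g * n * g⁻¹ = n := by
      rw [Subgroup.mem_center_iff] at hnc
      rw [hnc g, mul_inv_cancel_right]
    rwa [this]
  by_cases hpq : p = q
  · subst hpq
    refine ⟨Subgroup.zpowers x, hZn, ?_, k, hk⟩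
    rw [Nat.card_zpowers]
    intro hd
    have := Nat.Coprime.eq_one_of_dvd hxq.symm hd
    exact (Fact.out : p.Prime).one_lt.ne' this
  · obtain ⟨P⟩ : Nonempty (Sylow p E) := inferInstance
    have hPc : (P : Subgroup E) ≤ Subgroup.center E := by
      intro g hg
      have h1 : g ^ (q ^ k) ∈ Subgroup.zpowers x := by
        rw [← hk]
        exact Subgroup.pow_index_mem _ g
      obtain ⟨j, hj⟩ := (P.isPGroup' : IsPGroup p (P : Subgroup E)) ⟨g, hg⟩
      have hj' : g ^ (p ^ j) = 1 := by
        have := congrArg Subtype.val hj
        simpa using this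
      have hcop : (orderOf g).Coprime (q ^ k) := by
        have hd : orderOf g ∣ p ^ j := orderOf_dvd_of_pow_eq_one hj'
        apply Nat.Coprime.coprime_dvd_left hd
        apply Nat.Coprime.pow
        exact (Nat.coprime_primes (Fact.out : p.Prime) (Fact.out : q.Prime)).mpr hpq
      obtain ⟨m, hm⟩ := exists_pow_eq_self_of_coprime hcop.symm
      have h2 : g ∈ Subgroup.zpowers x := by
        rw [← hm]
        exact Subgroup.pow_mem _ h1 m
      obtain ⟨i, rfl⟩ := Subgroup.mem_zpowers_iff.mp h2
      exact Subgroup.zpow_mem _ hxc i
    obtain ⟨K, hKn, hKP⟩ := Helper34.exists_normal_complement_of_sylow_le_center P hPc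
    refine ⟨K, hKn, ?_, ?_⟩
    · have hc := Helper34.card_coprime_of_isComplement' P K hKP
      intro hd
      have := Nat.Coprime.eq_one_of_dvd hc.symm hd
      exact (Fact.out : p.Prime).one_lt.ne' this
    · obtain ⟨n, hn⟩ := P.isPGroup'.exists_card_eq
      exact ⟨n, by rw [hKP.symm.index_eq_card, hn]⟩

end

section

variable {E : Type*} [Group E] [Fintype E]

/-- Inducing the restriction of a class function from a normal subgroup. -/
theorem indFun_res_normal (K : Subgroup E) [hK : K.Normal] [DecidablePred (· ∈ K)] {F : E → ℂ}
    (hF : IsClassFunction E F)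
    (e : E) : indFun K (fun k : K => F k) e = if e ∈ K then (K.index : ℂ) * F e else 0 := by
  classical
  unfold indFun
  by_cases he : e ∈ K
  · rw [if_pos he]
    have h1 : ∀ x ∈ (Finset.univ : Finset E),
        extendByZero K (fun k : K => F k) (x⁻¹ * e * x) = F e := by
      intro x _
      have hmem : x⁻¹ * e * x ∈ K := by
        have := hK.conj_mem e he x⁻¹
        rwa [inv_inv] at this
      rw [Helper78.extendByZero_apply_of_mem K _ hmem]
      have := hF e x⁻¹
      rwa [inv_inv] at this
    rw [Finset.sum_congr rfl h1, Finset.sum_const, Finset.card_univ, nsmul_eq_mul,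
      ← Nat.card_eq_fintype_card, ← Subgroup.card_mul_index K]
    have hK0 : (Nat.card K : ℂ) ≠ 0 := Nat.cast_ne_zero.mpr Nat.card_pos.ne'
    push_cast
    field_simp
  · rw [if_neg he]
    have h1 : ∀ x ∈ (Finset.univ : Finset E),
        extendByZero K (fun k : K => F k) (x⁻¹ * e * x) = 0 := by
      intro x _
      apply Helper78.extendByZero_apply_not_mem
      intro hmem
      apply he
      have := hK.conj_mem _ hmem x
      have h2 : x * (x⁻¹ * e * x) * x⁻¹ = e := by group
      rwa [h2] at this
    rw [Finset.sum_congr rfl h1, Finset.sum_const_zero, mul_zero]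

end

/-- Let χ be an irreducible character of the finite group G and let p ^ a be the largest power of the prime p dividing the order of G. Then the function equal to p ^ a * χ x at elements x of order prime to p and to 0 elsewhere is a generalized character (a difference of characters). -/
theorem result {G : Type*} [Group G] [Finite G] (p : ℕ) [Fact p.Prime] (χ : Cfsg.IrrCharacter G) : Cfsg.IsGeneralizedCharacter G (fun x : G => if p ∣ orderOf x then 0 else ((p ^ (Nat.card G).factorization p : ℕ) : ℂ) * (χ : G → ℂ) x) := by
  classical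
  have : Fintype G := Fintype.ofFinite G
  have hχc : IsCharacter G (χ : G → ℂ) := Helper78.IsIrrCharacter.isCharacter χ.2
  have hχcl : IsClassFunction G (χ : G → ℂ) := Helper3.IsCharacter.isClassFunction hχc
  apply Cfsg.Agent.S0164.result
  · intro g h
    show (if p ∣ orderOf (h * g * h⁻¹) then (0 : ℂ) else _) = if p ∣ orderOf g then 0 else _
    have ho : orderOf (h * g * h⁻¹) = orderOf g := by
      have := MulEquiv.orderOf_eq (MulAut.conj h) g
      simpa [MulAut.conj_apply] using this
    rw [ho, hχcl g h]
  · intro E q hq hE
    haveI : Fact q.Prime := ⟨hq⟩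
    have : Fintype E := Fintype.ofFinite E
    obtain ⟨K, hKn, hKp, k, hk⟩ := exists_normal_pComplement_of_isElementary p q hE
    set F : E → ℂ := fun e => (χ : G → ℂ) e with hF
    have hFc : IsCharacter E F := Helper75.isCharacter_res E hχc
    have hFcl : IsClassFunction E F := Helper3.IsCharacter.isClassFunction hFc
    -- `p ^ k` divides `p ^ a`
    have hka : k ≤ (Nat.card G).factorization p := by
      have h1 : p ^ k ∣ Nat.card G := by
        rw [← hk]
        exact (Subgroup.index_dvd_card K).trans (Subgroup.card_subgroup_dvd_card E)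
      exact (Nat.Prime.pow_dvd_iff_le_factorization (Fact.out : p.Prime) Nat.card_pos.ne').mp h1
    have hind : IsCharacter E (indFun K (fun k' : K => F k')) :=
      Cfsg.Agent.S0148.result K _ (Helper75.isCharacter_res K hFc)
    have hmain : IsCharacter E (((p ^ ((Nat.card G).factorization p - k) : ℕ) : ℂ) •
        indFun K (fun k' : K => F k')) := Helper78.IsCharacter.nsmul hind _
    refine ⟨_, 0, hmain, Helper78.isCharacter_zero, ?_⟩
    funext e
    rw [sub_zero, Pi.smul_apply, smul_eq_mul, indFun_res_normal K hFcl]
    have hreg : (¬ p ∣ orderOf (e : G)) ↔ e ∈ K := by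
      rw [Subgroup.orderOf_coe]
      constructor
      · intro h
        exact Helper16.mem_of_not_dvd_orderOf_of_index K hk h
      · intro h hd
        apply hKp
        have h1 : orderOf (⟨e, h⟩ : K) ∣ Nat.card K := orderOf_dvd_natCard _
        rw [← Subgroup.orderOf_coe] at h1
        exact hd.trans h1
    by_cases he : e ∈ K
    · rw [if_pos he, if_neg (hreg.mpr he), hk]
      have : (Nat.card G).factorization p = ((Nat.card G).factorization p - k) + k := by omega
      conv_lhs => rw [this, pow_add]
      push_cast
      ring
    · rw [if_neg he, mul_zero, if_pos (not_not.mp (fun h => he (hreg.mp h)))]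

end Cfsg.Agent.S0961
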