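import Cfsg.Statements.S4666
import Cfsg.Agent.S0961
import Cfsg.Agent.Lib.Helper78.WBOCor
import Cfsg.Agent.Lib.Helper78.WBORank
import Cfsg.Agent.Lib.Helper16.BrauerCC
import Cfsg.Agent.Lib.Helper79.Schur
import Cfsg.Agent.Lib.Helper79.Integrality

set_option autoImplicit false
open Cfsg

namespace Cfsg.Agent.S4666

open Cfsg.Agent.Lib Cfsg.Agent.Lib.Helper16
open scoped ComplexConjugate

section

variable {G : Type*} [Group G] [Fintype G] {p : ℕ} [Fact p.Prime] {M : Ideal AlgInt}

/-- A rational number with `p`-power denominator that lies in the local ring is an integer. -/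
theorem exists_int_of_pow_mul (hM : IsPModular p M) :
    ∀ (j : ℕ) (m : ℤ) (r : ℂ), (p : ℂ) ^ j * r = m → MemLocalRing M r → ∃ m' : ℤ, r = m' := by
  have hMp : M.IsPrime := isPModular_isPrime hM
  intro j
  induction j with
  | zero =>
    intro m r h _
    exact ⟨m, by simpa using h⟩
  | succ j ih =>
    intro m r h hr
    have h1 : MemLocalIdeal M (m : ℂ) := by
      rw [← h, pow_succ, mul_assoc, mul_comm ((p : ℂ) ^ j), mul_assoc]
      apply memLocalIdeal_mul_right (memLocalIdeal_p hM)
      exact memLocalRing_mul hr (memLocalRing_pow (memLocalRing_natCast hMp.ne_top p) j)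
    obtain ⟨m'', rfl⟩ := (memLocalIdeal_intCast_iff hM m).mp h1
    apply ih m'' r _ hr
    have hp0 : (p : ℂ) ≠ 0 := Nat.cast_ne_zero.mpr (Fact.out : p.Prime).ne_zero
    apply mul_left_cancel₀ hp0
    rw [← mul_assoc, ← pow_succ', h]
    push_cast
    ring

/-- The inner product of a generalized character with a character is an integer. -/
theorem exists_int_classInner {θ ψ : G → ℂ} (hθ : IsGeneralizedCharacter G θ)
    (hψ : IsCharacter G ψ) : ∃ m : ℤ, classInner θ ψ = m := by
  obtain ⟨α, β, hα, hβ, rfl⟩ := hθ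
  obtain ⟨a, ha⟩ := Cfsg.Agent.S0148.exists_nat_classInner_of_isCharacter hα hψ
  obtain ⟨b, hb⟩ := Cfsg.Agent.S0148.exists_nat_classInner_of_isCharacter hβ hψ
  refine ⟨(a : ℤ) - b, ?_⟩
  have : classInner (α - β) ψ = classInner α ψ - classInner β ψ := by
    unfold classInner
    rw [← mul_sub, ← Finset.sum_sub_distrib]
    congr 1
    apply Finset.sum_congr rfl
    intro g _
    rw [Pi.sub_apply, sub_mul]
  rw [this, ha, hb]
  push_cast
  ring

/-- The `p`-regular part of an irreducible character is a class function. -/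
theorem isClassFunction_pRegularPart (φ : IrrCharacter G) :
    IsClassFunction G (pRegularPart p (φ : G → ℂ)) := by
  intro g h
  have ho : orderOf (h * g * h⁻¹) = orderOf g := by
    have := MulEquiv.orderOf_eq (MulAut.conj h) g
    simpa [MulAut.conj_apply] using this
  have hc : (φ : G → ℂ) (h * g * h⁻¹) = (φ : G → ℂ) g := irr_conj φ g h
  by_cases hg : p ∣ orderOf g
  · rw [Helper78.pRegularPart_apply_of_singular p _ hg,
      Helper78.pRegularPart_apply_of_singular p _ (by rwa [ho])]
  · rw [Helper78.pRegularPart_apply_of_regular p _ hg,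
      Helper78.pRegularPart_apply_of_regular p _ (by rwa [ho]), hc]

/-- (P1) characters in different blocks are orthogonal on `p`-regular elements. -/
theorem classInner_pRegularPart_eq_zero (hM : IsPModular p M) {B : Set (IrrCharacter G)}
    (hB : IsPBlock M B) {φ ψ : IrrCharacter G} (hφ : φ ∈ B) (hψ : ψ ∉ B) :
    classInner (pRegularPart p (φ : G → ℂ)) (ψ : G → ℂ) = 0 := by
  classical
  have hMp : M.IsPrime := isPModular_isPrime hM
  have hns : ¬ SameBlock M (φ : G → ℂ) (ψ : G → ℂ) := by
    intro hs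
    apply hψ
    rw [IsPBlock_eq_blockOf hB hφ]
    exact hs
  have h1 := Helper78.sum_pRegular_mul_conj_eq_zero hM φ ψ hns
  unfold classInner
  rw [Finset.sum_filter] at h1
  have h2 : ∑ g : G, pRegularPart p (φ : G → ℂ) g * conj ((ψ : G → ℂ) g) =
      ∑ a : G, if ¬ p ∣ orderOf a then (φ : G → ℂ) a * conj ((ψ : G → ℂ) a) else 0 := by
    apply Finset.sum_congr rfl
    intro g _
    by_cases hg : p ∣ orderOf g
    · rw [Helper78.pRegularPart_apply_of_singular p _ hg, zero_mul, if_neg (not_not.mpr hg)]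
    · rw [Helper78.pRegularPart_apply_of_regular p _ hg, if_pos hg]
  rw [h2, h1, mul_zero]

/-- (P2) `p ^ a` times the `p`-regular inner product is an integer. -/
theorem exists_int_pow_mul_classInner (φ ψ : IrrCharacter G) :
    ∃ m : ℤ, (p : ℂ) ^ (Nat.card G).factorization p *
      classInner (pRegularPart p (φ : G → ℂ)) (ψ : G → ℂ) = m := by
  have h1 := Cfsg.Agent.S0961.result p φ
  have h2 : (fun x : G => if p ∣ orderOf x then (0 : ℂ) else
      ((p ^ (Nat.card G).factorization p : ℕ) : ℂ) * (φ : G → ℂ) x) =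
      ((p : ℂ) ^ (Nat.card G).factorization p) • pRegularPart p (φ : G → ℂ) := by
    funext x
    rw [Pi.smul_apply, smul_eq_mul]
    by_cases hx : p ∣ orderOf x
    · rw [if_pos hx, Helper78.pRegularPart_apply_of_singular p _ hx, mul_zero]
    · rw [if_neg hx, Helper78.pRegularPart_apply_of_regular p _ hx]
      push_cast
      rfl
  rw [h2] at h1
  obtain ⟨m, hm⟩ := exists_int_classInner h1 (Helper78.IsIrrCharacter.isCharacter ψ.2)
  rw [Helper78.classInner_smul_left] at hm
  exact ⟨m, hm⟩

/-- (P3) `p ^ d` times the `p`-regular inner product is a local integer. -/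
theorem memLocalRing_pow_mul_classInner (hM : IsPModular p M) {B : Set (IrrCharacter G)}
    (φ : IrrCharacter G) {ψ : IrrCharacter G} (hψ : ψ ∈ B) :
    MemLocalRing M ((p : ℂ) ^ blockDefect p B *
      classInner (pRegularPart p (φ : G → ℂ)) (ψ : G → ℂ)) := by
  classical
  have hMp : M.IsPrime := isPModular_isPrime hM
  have hp : p.Prime := Fact.out
  set a := (Nat.card G).factorization p with ha
  set c := classInner (pRegularPart p (φ : G → ℂ)) (ψ : G → ℂ) with hc
  -- `c` is real
  obtain ⟨m, hm⟩ := exists_int_pow_mul_classInner (p := p) φ ψ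
  have hp0 : (p : ℂ) ≠ 0 := Nat.cast_ne_zero.mpr hp.ne_zero
  have hcreal : conj c = c := by
    have h1 : c = (m : ℂ) / (p : ℂ) ^ a := by
      rw [eq_div_iff (pow_ne_zero _ hp0), mul_comm]
      exact hm
    rw [h1, map_div₀, map_pow, map_intCast, map_natCast]
  -- the conjugate function
  set f : G → ℂ := fun x => conj (pRegularPart p (φ : G → ℂ) x) with hf
  have hfcl : ∀ g h : G, f (h * g * h⁻¹) = f g := by
    intro g h
    rw [hf]
    simp only
    rw [isClassFunction_pRegularPart φ g h]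
  have hfint : ∀ g : G, MemLocalRing M (f g) := by
    intro g
    apply memLocalRing_of_isIntegral hMp.ne_top
    rw [hf]
    simp only
    apply map_isIntegral_int
    by_cases hg : p ∣ orderOf g
    · rw [Helper78.pRegularPart_apply_of_singular p _ hg]
      exact isIntegral_zero
    · rw [Helper78.pRegularPart_apply_of_regular p _ hg]
      exact Helper79.isIntegral_irr φ g
  have hcen : ofFun f ∈ Subalgebra.center ℂ (MonoidAlgebra ℂ G) := by
    apply mem_center_of_coeff_conj
    intro g h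
    rw [coeff_ofFun, coeff_ofFun, hfcl]
  have hω : MemLocalRing M (omega (ψ : G → ℂ) (ofFun f)) := by
    apply omega_memLocalRing ψ hcen
    intro g
    rw [coeff_ofFun]
    exact hfint g
  rw [omega_ofFun] at hω
  -- `c` in terms of `ω`
  have hdeg : (ψ : G → ℂ) 1 = (charDegree (ψ : G → ℂ) : ℂ) :=
    Helper79.irr_apply_one_eq_charDegree ψ
  have hdeg0 : (charDegree (ψ : G → ℂ) : ℂ) ≠ 0 :=
    Nat.cast_ne_zero.mpr (Helper79.irr_charDegree_pos ψ).ne'
  have hc2 : c = (Nat.card G : ℂ)⁻¹ * ∑ g : G, f g * (ψ : G → ℂ) g := by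
    rw [← hcreal, hc]
    unfold classInner
    rw [map_mul, map_inv₀, Complex.conj_natCast, map_sum]
    congr 1
    apply Finset.sum_congr rfl
    intro g _
    rw [map_mul, Complex.conj_conj]
  -- the degree
  set d := blockDefect p B with hd
  have hdle : a - d ≤ (charDegree (ψ : G → ℂ)).factorization p := by
    have h1 : sInf ((fun χ : IrrCharacter G => (charDegree (χ : G → ℂ)).factorization p) '' B) ≤
        (charDegree (ψ : G → ℂ)).factorization p := Nat.sInf_le ⟨ψ, hψ, rfl⟩
    have h2 : d = a - sInf ((fun χ : IrrCharacter G =>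
        (charDegree (χ : G → ℂ)).factorization p) '' B) := rfl
    omega
  have hdvd : p ^ (a - d) ∣ charDegree (ψ : G → ℂ) :=
    (pow_dvd_pow p hdle).trans (Nat.ordProj_dvd _ p)
  obtain ⟨u, hu⟩ := hdvd
  have hda : d ≤ a := Nat.sub_le _ _
  obtain ⟨n', hn'def⟩ : ∃ n' : ℕ, n' = ordCompl[p] (Nat.card G) := ⟨_, rfl⟩
  have hcard : Nat.card G = p ^ d * p ^ (a - d) * n' := by
    rw [← pow_add, Nat.add_sub_cancel' hda, hn'def]
    exact (Nat.ordProj_mul_ordCompl_eq_self (Nat.card G) p).symm
  have hn' : ¬ p ∣ n' := by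
    rw [hn'def]
    exact Nat.not_dvd_ordCompl hp Nat.card_pos.ne'
  have hn'0 : (n' : ℂ) ≠ 0 := by
    apply Nat.cast_ne_zero.mpr
    intro h0
    apply hn'
    rw [h0]
    exact dvd_zero p
  have hcardC : (Nat.card G : ℂ) = (p : ℂ) ^ d * (p : ℂ) ^ (a - d) * (n' : ℂ) := by
    exact_mod_cast hcard
  have hfinal : (p : ℂ) ^ d * c = (u : ℂ) * (n' : ℂ)⁻¹ *
      ((∑ g : G, f g * (ψ : G → ℂ) g) / (ψ : G → ℂ) 1) := by
    rw [hc2, hdeg, hu, hcardC]
    push_cast
    have hpd : (p : ℂ) ^ d ≠ 0 := pow_ne_zero _ hp0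
    have hpad : (p : ℂ) ^ (a - d) ≠ 0 := pow_ne_zero _ hp0
    have hu0 : (u : ℂ) ≠ 0 := by
      intro h0
      apply hdeg0
      rw [hu]
      push_cast
      rw [h0, mul_zero]
    field_simp
  rw [hfinal]
  exact memLocalRing_mul (memLocalRing_mul (memLocalRing_natCast hMp.ne_top u)
    (memLocalRing_inv_natCast hM hn')) hω

/-- `p ^ d` times the `p`-regular inner product is an integer. -/
theorem exists_int_defect_mul_classInner (hM : IsPModular p M) {B : Set (IrrCharacter G)}
    (φ : IrrCharacter G) {ψ : IrrCharacter G} (hψ : ψ ∈ B) :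
    ∃ m : ℤ, (p : ℂ) ^ blockDefect p B *
      classInner (pRegularPart p (φ : G → ℂ)) (ψ : G → ℂ) = m := by
  obtain ⟨m₁, hm₁⟩ := exists_int_pow_mul_classInner (p := p) φ ψ
  have hda : blockDefect p B ≤ (Nat.card G).factorization p := Nat.sub_le _ _
  apply exists_int_of_pow_mul hM ((Nat.card G).factorization p - blockDefect p B) m₁ _ _
    (memLocalRing_pow_mul_classInner hM φ hψ)
  rw [← mul_assoc, ← pow_add, Nat.sub_add_cancel hda, hm₁]

end

/-- Fix a prime p and a maximal ideal M of the algebraic integers containing p, and a p-block B of the finite group G of defect d. For every integer combination χ of the irreducible characters in B, p^d times the function that agrees with χ on p-regular elements and vanishes elsewhere is again an integer combination of the irreducible characters in B. -/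
theorem result {G : Type*} [Group G] [Fintype G] (p : ℕ) [Fact p.Prime] (M : Ideal Cfsg.AlgInt) (hM : Cfsg.IsPModular p M) (B : Set (Cfsg.IrrCharacter G)) (hB : Cfsg.IsPBlock M B) (χ : G → ℂ) (hχ : (∃ n : Cfsg.IrrCharacter G → ℤ, ∀ g : G, χ g = ∑ᶠ ψ ∈ B, (n ψ : ℂ) * (ψ : G → ℂ) g)) : (∃ n : Cfsg.IrrCharacter G → ℤ, ∀ g : G, (p ^ Cfsg.blockDefect p B : ℂ) * Cfsg.pRegularPart p χ g = ∑ᶠ ψ ∈ B, (n ψ : ℂ) * (ψ : G → ℂ) g) := by
  classical
  obtain ⟨n, hn⟩ := hχ
  set Bf : Finset (IrrCharacter G) := Finset.univ.filter (· ∈ B) with hBf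
  have hmemBf : ∀ ψ, ψ ∈ Bf ↔ ψ ∈ B := by
    intro ψ
    simp [hBf]
  set c : IrrCharacter G → IrrCharacter G → ℂ :=
    fun φ ψ => classInner (pRegularPart p (φ : G → ℂ)) (ψ : G → ℂ) with hc
  -- integers
  have hex : ∀ φ ψ : IrrCharacter G, ∃ m : ℤ, ψ ∈ B →
      (p : ℂ) ^ blockDefect p B * c φ ψ = m := by
    intro φ ψ
    by_cases hψ : ψ ∈ B
    · obtain ⟨m, hm⟩ := exists_int_defect_mul_classInner hM φ hψ
      exact ⟨m, fun _ => hm⟩
    · exact ⟨0, fun h => absurd h hψ⟩
  choose m hm using hex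
  refine ⟨fun ψ => ∑ φ ∈ Bf, n φ * m φ ψ, ?_⟩
  intro g
  rw [Helper78.finsum_mem_eq_sum_filter_univ]
  -- expand `χ`
  have hθ : pRegularPart p χ g = ∑ φ ∈ Bf, (n φ : ℂ) * pRegularPart p (φ : G → ℂ) g := by
    by_cases hg : p ∣ orderOf g
    · rw [Helper78.pRegularPart_apply_of_singular p _ hg]
      symm
      apply Finset.sum_eq_zero
      intro φ _
      rw [Helper78.pRegularPart_apply_of_singular p _ hg, mul_zero]
    · rw [Helper78.pRegularPart_apply_of_regular p _ hg, hn g,
        Helper78.finsum_mem_eq_sum_filter_univ]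
      apply Finset.sum_congr rfl
      intro φ _
      rw [Helper78.pRegularPart_apply_of_regular p _ hg]
  -- completeness
  have hcomp : ∀ φ : IrrCharacter G, pRegularPart p (φ : G → ℂ) g =
      ∑ ψ : IrrCharacter G, c φ ψ * (ψ : G → ℂ) g := by
    intro φ
    have h1 := Helper78.classFunction_eq_sum_irr (isClassFunction_pRegularPart (p := p) φ)
    have h2 := congrFun h1 g
    rw [Finset.sum_apply] at h2
    rw [h2]
    apply Finset.sum_congr rfl
    intro ψ _
    rw [Pi.smul_apply, smul_eq_mul]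
  rw [hθ]
  calc (p ^ blockDefect p B : ℂ) * ∑ φ ∈ Bf, (n φ : ℂ) * pRegularPart p (φ : G → ℂ) g
      = ∑ φ ∈ Bf, ∑ ψ : IrrCharacter G,
          (n φ : ℂ) * ((p : ℂ) ^ blockDefect p B * c φ ψ) * (ψ : G → ℂ) g := by
        rw [Finset.mul_sum]
        apply Finset.sum_congr rfl
        intro φ _
        rw [hcomp φ, Finset.mul_sum, Finset.mul_sum]
        apply Finset.sum_congr rfl
        intro ψ _
        ring
    _ = ∑ ψ : IrrCharacter G, ∑ φ ∈ Bf,
          (n φ : ℂ) * ((p : ℂ) ^ blockDefect p B * c φ ψ) * (ψ : G → ℂ) g := Finset.sum_comm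
    _ = ∑ ψ ∈ Bf, ∑ φ ∈ Bf,
          (n φ : ℂ) * ((p : ℂ) ^ blockDefect p B * c φ ψ) * (ψ : G → ℂ) g := by
        symm
        apply Finset.sum_subset (Finset.subset_univ _)
        intro ψ _ hψ
        rw [hmemBf] at hψ
        apply Finset.sum_eq_zero
        intro φ hφ
        rw [hmemBf] at hφ
        rw [hc]
        simp only
        rw [classInner_pRegularPart_eq_zero hM hB hφ hψ, mul_zero, mul_zero, zero_mul]
    _ = ∑ ψ ∈ Bf, ((∑ φ ∈ Bf, n φ * m φ ψ : ℤ) : ℂ) * (ψ : G → ℂ) g := by
        apply Finset.sum_congr rfl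
        intro ψ hψ
        rw [hmemBf] at hψ
        push_cast
        rw [Finset.sum_mul]
        apply Finset.sum_congr rfl
        intro φ _
        rw [hm φ ψ hψ]

end Cfsg.Agent.S4666
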