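import Cfsg.Statements.S4675
import Cfsg.Agent.S4666
import Cfsg.Agent.Lib.Helper78.WBO
import Cfsg.Agent.Lib.Helper78.DefectOrder
import Cfsg.Agent.Lib.Helper80.CharBasic

set_option autoImplicit false
open Cfsg

namespace Cfsg.Agent.S4675

open Cfsg.Agent.Lib.Helper16 Cfsg.Agent.Lib.Helper78
open scoped ComplexConjugate

section Aux

variable {G : Type*} [Group G] [Fintype G]

/-- A character vanishing on the `p`-singular elements has degree divisible by `|G|_p`. -/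
theorem pow_dvd_of_vanish (p : ℕ) [Fact p.Prime] {Φ : G → ℂ} (hΦ : IsCharacter G Φ)
    (hv : ∀ y : G, p ∣ orderOf y → Φ y = 0) :
    ∃ n : ℕ, Φ 1 = ((n * p ^ (Nat.card G).factorization p : ℕ) : ℂ) := by
  classical
  have hp : p.Prime := Fact.out
  let S : Sylow p G := default
  haveI : Fintype (S : Subgroup G) := Fintype.ofFinite _
  have hres := Cfsg.Agent.Lib.Helper80.isCharacter_restrict (S : Subgroup G) hΦ
  let one : IrrCharacter (S : Subgroup G) := ⟨fun _ => 1, isIrrCharacter_one⟩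
  obtain ⟨n, hn⟩ := IsCharacter.exists_nat_classInner hres one
  refine ⟨n, ?_⟩
  unfold classInner at hn
  have hsum : ∑ s : (S : Subgroup G), Φ (s : G) * conj (one.1 s) = Φ 1 := by
    rw [Finset.sum_eq_single (1 : (S : Subgroup G))]
    · simp [one]
    · intro s _ hs
      have hsing : p ∣ orderOf (s : G) := by
        obtain ⟨k, hk⟩ := (IsPGroup.iff_orderOf.mp S.isPGroup') s
        rw [Subgroup.orderOf_coe, hk]
        rcases Nat.eq_zero_or_pos k with h0 | h0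
        · exfalso
          rw [h0, pow_zero] at hk
          exact hs (orderOf_eq_one_iff.mp hk)
        · exact dvd_pow_self p h0.ne'
      rw [hv _ hsing, zero_mul]
    · intro h; exact absurd (Finset.mem_univ _) h
  rw [hsum] at hn
  have hS : Nat.card (S : Subgroup G) = p ^ (Nat.card G).factorization p :=
    Sylow.card_eq_multiplicity S
  have hS0 : (Nat.card (S : Subgroup G) : ℂ) ≠ 0 := by
    exact_mod_cast Nat.card_pos.ne'
  rw [inv_mul_eq_iff_eq_mul₀ hS0] at hn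
  rw [hn, hS]
  push_cast
  ring

end Aux

/-- Fix a prime p and a maximal ideal M of the algebraic integers containing p. Let B be a p-block of the finite group G with defect group P and p-regular rank one (a single irreducible Brauer character). Then there are a function φ on G that is, on the p-regular elements, an integer combination of the members of B, and natural numbers d_χ (χ ∈ B), such that every χ ∈ B agrees with d_χ·φ on the p-regular elements and Σ_{χ ∈ B} d_χ² equals the order of P (the single Cartan invariant of B is the order of P). -/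
theorem result {G : Type*} [Group G] [Fintype G] (p : ℕ) [Fact p.Prime] (M : Ideal Cfsg.AlgInt) (hM : Cfsg.IsPModular p M) (B : Set (Cfsg.IrrCharacter G)) (hB : Cfsg.IsPBlock M B) (P : Subgroup G) (hP : Cfsg.IsDefectGroup p M B P) (hl : Cfsg.blockRank p B = 1) : ∃ φ : G → ℂ, ∃ d : Cfsg.IrrCharacter G → ℕ, (∃ n : Cfsg.IrrCharacter G → ℤ, ∀ x : G, Cfsg.IsPRegular p x → φ x = ∑ᶠ ψ ∈ B, (n ψ : ℂ) * (ψ : G → ℂ) x) ∧ (∀ χ ∈ B, ∀ x : G, Cfsg.IsPRegular p x → (χ : G → ℂ) x = (d χ : ℂ) * φ x) ∧ ∑ᶠ χ ∈ B, d χ ^ 2 = Nat.card P := by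
  classical
  haveI hMp := isPModular_isPrime hM
  have hp : p.Prime := Fact.out
  set Bfin := Finset.univ.filter (fun ψ : IrrCharacter G => ψ ∈ B) with hBfin
  have hmemB : ∀ ψ, ψ ∈ Bfin ↔ ψ ∈ B := by intro ψ; simp [hBfin]
  have hfinC : ∀ f : IrrCharacter G → ℂ, ∑ᶠ ψ ∈ B, f ψ = ∑ ψ ∈ Bfin, f ψ := by
    intro f
    rw [finsum_mem_eq_sum_of_subset (t := Bfin)
      _ (by intro ψ hψ; simpa [hBfin] using hψ.1) (by intro ψ hψ; simpa [hBfin] using hψ)]
  have hfinN : ∀ f : IrrCharacter G → ℕ, ∑ᶠ ψ ∈ B, f ψ = ∑ ψ ∈ Bfin, f ψ := by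
    intro f
    rw [finsum_mem_eq_sum_of_subset (t := Bfin)
      _ (by intro ψ hψ; simpa [hBfin] using hψ.1) (by intro ψ hψ; simpa [hBfin] using hψ)]
  obtain ⟨χ₀, hχ₀⟩ := IsPBlock_nonempty hMp.ne_top hB
  -- Step 1: proportionality on `p`-regular elements
  set W := Submodule.span ℂ ((fun χ : IrrCharacter G => pRegularPart p (χ : G → ℂ)) '' B) with hW
  have hmem : ∀ χ ∈ B, pRegularPart p (χ : G → ℂ) ∈ W :=
    fun χ hχ => Submodule.subset_span ⟨χ, hχ, rfl⟩
  have hreg1 : IsPRegular p (1 : G) := by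
    unfold IsPRegular
    rw [orderOf_one]
    exact hp.one_lt.ne' ∘ Nat.dvd_one.mp
  have hval : ∀ (χ : IrrCharacter G) (x : G), IsPRegular p x →
      pRegularPart p (χ : G → ℂ) x = (χ : G → ℂ) x := by
    intro χ x hx
    unfold pRegularPart
    rw [if_pos hx]
  have hχ₀1 : (χ₀ : G → ℂ) 1 ≠ 0 := Cfsg.Agent.Lib.Helper79.irr_apply_one_ne_zero χ₀
  have hne0 : (⟨pRegularPart p (χ₀ : G → ℂ), hmem χ₀ hχ₀⟩ : W) ≠ 0 := by
    intro h
    have h1 := congrArg (fun w : W => (w : G → ℂ) 1) h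
    simp only [hval χ₀ 1 hreg1] at h1
    exact hχ₀1 h1
  unfold blockRank at hl
  have hprop := (finrank_eq_one_iff_of_nonzero' _ hne0).mp hl
  have hdeg : ∀ χ : IrrCharacter G, (χ : G → ℂ) 1 = (charDegree (χ : G → ℂ) : ℂ) :=
    fun χ => IsCharacter.apply_one_eq_charDegree (IsIrrCharacter.isCharacter χ.2)
  have hc : ∀ χ ∈ B, ∀ x : G, pRegularPart p (χ : G → ℂ) x =
      (charDegree (χ : G → ℂ) : ℂ) * (pRegularPart p (χ₀ : G → ℂ) x / (χ₀ : G → ℂ) 1) := by
    intro χ hχ x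
    obtain ⟨c, hc⟩ := hprop ⟨_, hmem χ hχ⟩
    have hc' : c • pRegularPart p (χ₀ : G → ℂ) = pRegularPart p (χ : G → ℂ) :=
      congrArg Subtype.val hc
    have h1 := congrFun hc' 1
    rw [Pi.smul_apply, hval χ₀ 1 hreg1, hval χ 1 hreg1, smul_eq_mul] at h1
    have h2 : c = (χ : G → ℂ) 1 / (χ₀ : G → ℂ) 1 := by
      rw [← h1]; field_simp
    rw [← hc', Pi.smul_apply, smul_eq_mul, h2, hdeg χ]
    ring
  -- Step 2: the gcd of the degrees
  set f : IrrCharacter G → ℤ := fun ψ => (charDegree (ψ : G → ℂ) : ℤ) with hf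
  set gz : ℤ := Bfin.gcd f with hgz
  obtain ⟨nb, hnb⟩ := Finset.gcd_eq_sum_mul Bfin f
  have hgz_dvd : ∀ ψ ∈ B, gz ∣ f ψ := fun ψ hψ => Finset.gcd_dvd ((hmemB ψ).mpr hψ)
  have hdpos : ∀ χ : IrrCharacter G, 0 < charDegree (χ : G → ℂ) :=
    fun χ => IsIrrCharacter.charDegree_pos χ.2
  have hgz_ne : gz ≠ 0 := by
    intro h0
    have h1 := (Finset.gcd_eq_zero_iff).mp h0 χ₀ ((hmemB χ₀).mpr hχ₀)
    have h2 := hdpos χ₀
    simp only [hf] at h1
    omega
  have hgz_nonneg : 0 ≤ gz := by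
    have h1 : normalize gz = gz := Finset.normalize_gcd
    exact Int.nonneg_of_normalize_eq_self h1
  set g : ℕ := gz.natAbs with hg
  have hgcast : (g : ℤ) = gz := Int.natAbs_of_nonneg hgz_nonneg
  have hg0 : g ≠ 0 := by
    intro h0
    apply hgz_ne
    rw [← hgcast, h0]; rfl
  set d : IrrCharacter G → ℕ := fun χ => charDegree (χ : G → ℂ) / g with hd
  have hgd : ∀ χ ∈ B, charDegree (χ : G → ℂ) = g * d χ := by
    intro χ hχ
    have h1 := hgz_dvd χ hχ
    rw [← hgcast] at h1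
    have h2 : g ∣ charDegree (χ : G → ℂ) := Int.natCast_dvd_natCast.mp h1
    exact (Nat.mul_div_cancel' h2).symm
  -- Bezout: 1 = ∑ d ψ * nb ψ
  have hbez : (1 : ℤ) = ∑ ψ ∈ Bfin, (d ψ : ℤ) * nb ψ := by
    have h1 : gz = gz * ∑ ψ ∈ Bfin, (d ψ : ℤ) * nb ψ := by
      conv_lhs => rw [hgz, hnb]
      rw [Finset.mul_sum]
      apply Finset.sum_congr rfl
      intro ψ hψ
      have := hgd ψ ((hmemB ψ).mp hψ)
      simp only [hf]
      rw [this, ← hgcast]
      push_cast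
      ring
    have h2 : gz * 1 = gz * ∑ ψ ∈ Bfin, (d ψ : ℤ) * nb ψ := by rw [mul_one]; exact h1
    exact mul_left_cancel₀ hgz_ne h2
  set φ : G → ℂ := fun x => (g : ℂ) * (pRegularPart p (χ₀ : G → ℂ) x / (χ₀ : G → ℂ) 1) with hφ
  -- (b)
  have hb : ∀ χ ∈ B, ∀ x : G, IsPRegular p x → (χ : G → ℂ) x = (d χ : ℂ) * φ x := by
    intro χ hχ x hx
    rw [← hval χ x hx, hc χ hχ x, hgd χ hχ, hφ]
    push_cast
    ring
  -- (a)
  have ha : ∀ x : G, IsPRegular p x → φ x = ∑ᶠ ψ ∈ B, (nb ψ : ℂ) * (ψ : G → ℂ) x := by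
    intro x hx
    rw [hfinC]
    have h1 : ∀ ψ ∈ Bfin, (nb ψ : ℂ) * (ψ : G → ℂ) x =
        (((d ψ : ℤ) * nb ψ : ℤ) : ℂ) * φ x := by
      intro ψ hψ
      rw [hb ψ ((hmemB ψ).mp hψ) x hx]
      push_cast
      ring
    rw [Finset.sum_congr rfl h1, ← Finset.sum_mul, ← Int.cast_sum, ← hbez]
    push_cast
    ring
  refine ⟨φ, d, ⟨nb, ha⟩, hb, ?_⟩
  -- (c): the Cartan invariant
  rw [hfinN]
  set c : ℕ := ∑ χ ∈ Bfin, d χ ^ 2 with hcdef
  set Φ : G → ℂ := ∑ χ ∈ Bfin, (d χ : ℂ) • (χ : G → ℂ) with hΦ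
  have hΦchar : IsCharacter G Φ := by
    apply isCharacter_finset_sum
    intro χ _
    exact IsCharacter.nsmul (IsIrrCharacter.isCharacter χ.2) (d χ)
  have hΦapply : ∀ y : G, Φ y = ∑ χ ∈ Bfin, (d χ : ℂ) * (χ : G → ℂ) y := by
    intro y
    rw [hΦ, Finset.sum_apply]
    apply Finset.sum_congr rfl
    intro χ _
    rw [Pi.smul_apply, smul_eq_mul]
  have hgC : (g : ℂ) ≠ 0 := by exact_mod_cast hg0
  -- vanishing on singular elements
  have hΦsing : ∀ y : G, p ∣ orderOf y → Φ y = 0 := by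
    intro y hy
    have h1 := weak_block_orthogonality_sum hM hB (1 : G) y hreg1 hy
    have h2 : ∑ χ ∈ Bfin, (χ : G → ℂ) y * conj ((χ : G → ℂ) 1) = (g : ℂ) * Φ y := by
      rw [hΦapply, Finset.mul_sum]
      apply Finset.sum_congr rfl
      intro χ hχ
      rw [hdeg χ, Complex.conj_natCast, hgd χ ((hmemB χ).mp hχ)]
      push_cast
      ring
    rw [h2] at h1
    rcases mul_eq_zero.mp h1 with h | h
    · exact absurd h hgC
    · exact h
  -- on regular elements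
  have hΦreg : ∀ x : G, IsPRegular p x → Φ x = (c : ℂ) * φ x := by
    intro x hx
    rw [hΦapply, hcdef]
    push_cast
    rw [Finset.sum_mul]
    apply Finset.sum_congr rfl
    intro χ hχ
    rw [hb χ ((hmemB χ).mp hχ) x hx]
    ring
  -- S4666
  set χ' : G → ℂ := fun y => ∑ᶠ ψ ∈ B, (nb ψ : ℂ) * (ψ : G → ℂ) y with hχ'
  obtain ⟨m, hm⟩ := Cfsg.Agent.S4666.result p M hM B hB χ' ⟨nb, fun _ => rfl⟩
  set dB := blockDefect p B with hdB
  have hkey : ∀ y : G, ∑ ψ ∈ Bfin, ((p : ℂ) ^ dB * (d ψ : ℂ)) * (ψ : G → ℂ) y =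
      ∑ ψ ∈ Bfin, ((c : ℂ) * (m ψ : ℂ)) * (ψ : G → ℂ) y := by
    intro y
    have h1 : ∑ ψ ∈ Bfin, ((p : ℂ) ^ dB * (d ψ : ℂ)) * (ψ : G → ℂ) y = (p : ℂ) ^ dB * Φ y := by
      rw [hΦapply, Finset.mul_sum]
      apply Finset.sum_congr rfl
      intro ψ _
      ring
    have h2 : ∑ ψ ∈ Bfin, ((c : ℂ) * (m ψ : ℂ)) * (ψ : G → ℂ) y =
        (c : ℂ) * ((p : ℂ) ^ dB * pRegularPart p χ' y) := by
      rw [hm y, hfinC, Finset.mul_sum]
      apply Finset.sum_congr rfl
      intro ψ _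
      ring
    rw [h1, h2]
    by_cases hy : IsPRegular p y
    · have h3 : pRegularPart p χ' y = φ y := by
        unfold pRegularPart
        rw [if_pos hy, ha y hy]
      rw [h3, hΦreg y hy]
      ring
    · have h3 : pRegularPart p χ' y = 0 := by
        unfold pRegularPart
        rw [if_neg hy]
      have hy' : p ∣ orderOf y := by
        unfold IsPRegular at hy
        exact not_not.mp hy
      rw [h3, hΦsing y hy']
      ring
  -- compare coefficients
  have hcoef : ∀ ψ ∈ B, ((p : ℤ) ^ dB * (d ψ : ℤ)) = (c : ℤ) * m ψ := by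
    intro ψ hψ
    set m1 : IrrCharacter G → ℂ := fun ξ => if ξ ∈ B then (p : ℂ) ^ dB * (d ξ : ℂ) else 0 with hm1
    set m2 : IrrCharacter G → ℂ := fun ξ => if ξ ∈ B then (c : ℂ) * (m ξ : ℂ) else 0 with hm2
    have hfun : (∑ ξ : IrrCharacter G, m1 ξ • (ξ : G → ℂ)) =
        ∑ ξ : IrrCharacter G, m2 ξ • (ξ : G → ℂ) := by
      funext y
      rw [Finset.sum_apply, Finset.sum_apply]
      have e1 : ∑ ξ : IrrCharacter G, (m1 ξ • (ξ : G → ℂ)) y =
          ∑ ξ ∈ Bfin, ((p : ℂ) ^ dB * (d ξ : ℂ)) * (ξ : G → ℂ) y := by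
        rw [hBfin, Finset.sum_filter]
        apply Finset.sum_congr rfl
        intro ξ _
        rw [Pi.smul_apply, smul_eq_mul, hm1]
        dsimp only
        split_ifs <;> simp
      have e2 : ∑ ξ : IrrCharacter G, (m2 ξ • (ξ : G → ℂ)) y =
          ∑ ξ ∈ Bfin, ((c : ℂ) * (m ξ : ℂ)) * (ξ : G → ℂ) y := by
        rw [hBfin, Finset.sum_filter]
        apply Finset.sum_congr rfl
        intro ξ _
        rw [Pi.smul_apply, smul_eq_mul, hm2]
        dsimp only
        split_ifs <;> simp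
      rw [e1, e2, hkey y]
    have h1 := congrArg (fun F => classInner F (ψ : G → ℂ)) hfun
    simp only [classInner_nat_combination] at h1
    rw [hm1, hm2] at h1
    dsimp only at h1
    rw [if_pos hψ, if_pos hψ] at h1
    exact_mod_cast h1
  -- c divides p^d
  have hcdvd : c ∣ p ^ dB := by
    have h1 : ((p : ℤ) ^ dB) = (c : ℤ) * ∑ ψ ∈ Bfin, m ψ * nb ψ := by
      calc ((p : ℤ) ^ dB) = (p : ℤ) ^ dB * 1 := (mul_one _).symm
        _ = (p : ℤ) ^ dB * ∑ ψ ∈ Bfin, (d ψ : ℤ) * nb ψ := by rw [← hbez]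
        _ = ∑ ψ ∈ Bfin, ((p : ℤ) ^ dB * (d ψ : ℤ)) * nb ψ := by
            rw [Finset.mul_sum]; apply Finset.sum_congr rfl; intro ψ _; ring
        _ = ∑ ψ ∈ Bfin, ((c : ℤ) * m ψ) * nb ψ := by
            apply Finset.sum_congr rfl; intro ψ hψ; rw [hcoef ψ ((hmemB ψ).mp hψ)]
        _ = (c : ℤ) * ∑ ψ ∈ Bfin, m ψ * nb ψ := by
            rw [Finset.mul_sum]; apply Finset.sum_congr rfl; intro ψ _; ring
    have h2 : (c : ℤ) ∣ ((p ^ dB : ℕ) : ℤ) := by
      push_cast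
      exact ⟨_, h1⟩
    exact Int.natCast_dvd_natCast.mp h2
  obtain ⟨e, hed, hce⟩ := (Nat.dvd_prime_pow hp).mp hcdvd
  -- p^a divides g * c
  obtain ⟨n, hn⟩ := pow_dvd_of_vanish p hΦchar hΦsing
  have hΦ1 : Φ 1 = ((g * c : ℕ) : ℂ) := by
    rw [hΦapply, hcdef]
    push_cast
    rw [Finset.mul_sum]
    apply Finset.sum_congr rfl
    intro χ hχ
    rw [hdeg χ, hgd χ ((hmemB χ).mp hχ)]
    push_cast
    ring
  have hgc : g * c = n * p ^ (Nat.card G).factorization p := by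
    rw [hΦ1] at hn
    exact_mod_cast hn
  -- a height zero character
  have hne : ((fun χ : IrrCharacter G => (charDegree (χ : G → ℂ)).factorization p) '' B).Nonempty :=
    ⟨_, χ₀, hχ₀, rfl⟩
  obtain ⟨χ₁, hχ₁, hχ₁eq⟩ := Nat.sInf_mem hne
  have hdBdef : dB = (Nat.card G).factorization p -
      sInf ((fun χ : IrrCharacter G => (charDegree (χ : G → ℂ)).factorization p) '' B) := rfl
  have hc0 : c ≠ 0 := by rw [hce]; exact pow_ne_zero _ hp.ne_zero
  have hgfac : g.factorization p ≤ (charDegree (χ₁ : G → ℂ)).factorization p := by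
    have h1 : g ∣ charDegree (χ₁ : G → ℂ) := ⟨d χ₁, hgd χ₁ hχ₁⟩
    exact (Nat.factorization_le_iff_dvd hg0 (hdpos χ₁).ne').mpr h1 p
  have hfac : (Nat.card G).factorization p ≤ (g * c).factorization p := by
    apply (hp.pow_dvd_iff_le_factorization (mul_ne_zero hg0 hc0)).mp
    rw [hgc]
    exact dvd_mul_left _ _
  rw [Nat.factorization_mul hg0 hc0, Finsupp.add_apply, hce, hp.factorization_pow,
    Finsupp.single_eq_same] at hfac
  have hed' : e = dB := by
    simp only at hχ₁eq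
    omega
  rw [Cfsg.Agent.Lib.Helper78.card_defectGroup hM hB hP, ← hdB, ← hed', ← hce]

end Cfsg.Agent.S4675
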