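import Cfsg.Statements.S0971
import Cfsg.Agent.Lib.Helper16.BrauerCC
import Cfsg.Agent.Lib.Helper16.PIndex

set_option autoImplicit false
open Cfsg

namespace Cfsg.Agent.S0971

open Cfsg.Agent.Lib.Helper16

/-- For a normal subgroup `N`, the induced central character vanishes outside `N`. -/
theorem inducedCentralChar_of_not_mem {G : Type*} [Group G] (N : Subgroup G) [hN : N.Normal]
    (ξ : N → ℂ) {g : G} (hg : g ∉ N) : inducedCentralChar N ξ g = 0 := by
  unfold inducedCentralChar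
  have : {h : N | IsConj g (h : G)} = ∅ := by
    ext h
    simp only [Set.mem_ofPred_eq, Set.mem_empty_iff_false, iff_false]
    intro hc
    obtain ⟨c, hc⟩ := isConj_iff.mp hc.symm
    apply hg
    rw [← hc]
    exact hN.conj_mem _ h.2 c
  rw [this, finsum_mem_empty]

/-- Let Q be a normal p-subgroup of the finite group G, let N = Q ⊔ C_G(Q) (a normal subgroup) and let b be a block of N relative to a maximal ideal M of the algebraic integers containing p. Then b induces some block of G, and every block B of G containing a character whose restriction to N has a constituent in b is induced by b. -/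
theorem result {G : Type*} [Group G] [Fintype G] (p : ℕ) [Fact p.Prime] (M : Ideal Cfsg.AlgInt) (hM : Cfsg.IsPModular p M) (Q : Subgroup G) [Q.Normal] (hQ : IsPGroup p Q) [Fintype ↥(Q ⊔ Subgroup.centralizer (Q : Set G))] (b : Set (Cfsg.IrrCharacter ↥(Q ⊔ Subgroup.centralizer (Q : Set G)))) (hb : Cfsg.IsPBlock M b) : Cfsg.InducedBlockDefined M (Q ⊔ Subgroup.centralizer (Q : Set G)) b ∧ ∀ B : Set (Cfsg.IrrCharacter G), Cfsg.IsPBlock M B → (∃ χ ∈ B, ∃ θ ∈ b, Cfsg.classInner (fun n : ↥(Q ⊔ Subgroup.centralizer (Q : Set G)) => (χ : G → ℂ) n) (θ : ↥(Q ⊔ Subgroup.centralizer (Q : Set G)) → ℂ) ≠ 0) → Cfsg.IsInducedBlock M (Q ⊔ Subgroup.centralizer (Q : Set G)) b B := by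
  classical
  have hMp : M.IsPrime := isPModular_isPrime hM
  have hNn : (Q ⊔ Subgroup.centralizer (Q : Set G)).Normal := inferInstance
  have key : ∀ B : Set (Cfsg.IrrCharacter G), Cfsg.IsPBlock M B → (∃ χ ∈ B, ∃ θ ∈ b, Cfsg.classInner (fun n : ↥(Q ⊔ Subgroup.centralizer (Q : Set G)) => (χ : G → ℂ) n) (θ : ↥(Q ⊔ Subgroup.centralizer (Q : Set G)) → ℂ) ≠ 0) → Cfsg.IsInducedBlock M (Q ⊔ Subgroup.centralizer (Q : Set G)) b B := by
    rintro B hB ⟨χ, hχ, θ, hθ, hcon⟩
    refine ⟨hb, hB, fun ξ hξ χ' hχ' g => ?_⟩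
    by_cases hg : g ∈ Q ⊔ Subgroup.centralizer (Q : Set G)
    · have h1 := centralChar_eq_inducedCentralChar_of_constituent _ χ θ hcon ⟨g, hg⟩
      simp only at h1
      have h2 : MemLocalIdeal M (inducedCentralChar _ (ξ : ↥(Q ⊔ Subgroup.centralizer (Q : Set G)) → ℂ) g -
          inducedCentralChar _ (θ : ↥(Q ⊔ Subgroup.centralizer (Q : Set G)) → ℂ) g) :=
        inducedCentralChar_congr _ (sameBlock_of_mem hb hξ hθ) g
      have h3 : MemLocalIdeal M (centralChar (χ : G → ℂ) g - centralChar (χ' : G → ℂ) g) :=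
        sameBlock_of_mem hB hχ hχ' g
      rw [← h1] at h2
      exact memLocalIdeal_sub_trans h2 h3
    · rw [inducedCentralChar_of_not_mem _ _ hg, zero_sub, memLocalIdeal_neg_iff]
      apply centralChar_memLocalIdeal_of_normal_pGroup hM Q hQ g _ χ'
      intro x hx hxc
      apply hg
      obtain ⟨c, rfl⟩ := isConj_iff.mp hx
      have h4 : c * g * c⁻¹ ∈ Q ⊔ Subgroup.centralizer (Q : Set G) :=
        (le_sup_right : Subgroup.centralizer (Q : Set G) ≤ _) hxc
      have := hNn.conj_mem _ h4 c⁻¹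
      simpa [mul_assoc] using this
  refine ⟨?_, key⟩
  obtain ⟨θ, hθ⟩ := IsPBlock_nonempty hMp.ne_top hb
  obtain ⟨χ, hχ⟩ := exists_irr_over _ θ
  exact ⟨blockOf M (χ : G → ℂ), key _ ⟨χ, rfl⟩ ⟨χ, self_mem_blockOf hMp.ne_top χ, θ, hθ, hχ⟩⟩

end Cfsg.Agent.S0971
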