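import Cfsg.Statements.S4723
import Cfsg.Agent.Lib.Helper77.InvHeightZero
import Cfsg.Agent.Lib.Helper77.BlockTransport

set_option autoImplicit false
open Cfsg

namespace Cfsg.Agent.S4723

open Cfsg.Agent.Lib Cfsg.Agent.Lib.Helper16 Cfsg.Agent.Lib.Helper77 Cfsg.Agent.Lib.Helper78

theorem charDegree_irrTransport {K H : Type*} [Group K] [Group H] (φ : K ≃* H)
    (χ : IrrCharacter H) :
    charDegree (irrTransport φ χ : K → ℂ) = charDegree (χ : H → ℂ) := by
  unfold charDegree
  rw [irrTransport_apply, map_one]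

theorem blockHeight_irrTransport {K H : Type*} [Group K] [Group H] (p : ℕ) (φ : K ≃* H)
    (b : Set (IrrCharacter H)) (χ : IrrCharacter H) :
    blockHeight p (irrTransport φ '' b) (irrTransport φ χ : K → ℂ) =
      blockHeight p b (χ : H → ℂ) := by
  unfold blockHeight
  rw [charDegree_irrTransport, Set.image_image]
  simp only [charDegree_irrTransport]

/-- Let p be a prime, M a maximal ideal of the algebraic integers containing p, H a normal subgroup of the finite group G and b a p-block of H. Let T be the stabilizer of b in G. Then b contains a character θ of height zero whose own stabilizer in G (the elements g with θ(g h g⁻¹) = θ(h) for all h ∈ H) has index prime to p in T, i.e. contains a Sylow p-subgroup of T. -/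
theorem result {G : Type*} [Group G] [Finite G] (p : ℕ) [Fact p.Prime] (M : Ideal Cfsg.AlgInt) (hM : Cfsg.IsPModular p M) (H : Subgroup G) [H.Normal] (b : Set (Cfsg.IrrCharacter ↥H)) (hb : Cfsg.IsPBlock M b) (T : Subgroup G) (hT : (∀ g : G, g ∈ T ↔ ∀ θ ∈ b, ∀ θ' : Cfsg.IrrCharacter ↥H, (∀ h h' : ↥H, (h' : G) = g * h * g⁻¹ → (θ' : ↥H → ℂ) h' = (θ : ↥H → ℂ) h) → θ' ∈ b)) : ∃ θ ∈ b, Cfsg.blockHeight p b (θ : ↥H → ℂ) = 0 ∧ ∃ S : Subgroup G, S ≤ T ∧ (∀ g : G, g ∈ S ↔ (g ∈ T ∧ ∀ h h' : ↥H, (h' : G) = g * h * g⁻¹ → (θ : ↥H → ℂ) h' = (θ : ↥H → ℂ) h)) ∧ ¬ p ∣ S.relIndex T := by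
  classical
  haveI : Fintype G := Fintype.ofFinite G
  have hHn : H.Normal := inferInstance
  have hMp : M.IsPrime := isPModular_isPrime hM
  have hMt : M ≠ ⊤ := hMp.ne_top
  -- `H ≤ T`
  have hHT : H ≤ T := by
    intro h₀ hh₀
    rw [hT]
    intro θ hθ θ' hθ'
    have : θ' = θ := by
      apply Subtype.ext
      funext k
      have h1 := hθ' (⟨h₀, hh₀⟩⁻¹ * k * ⟨h₀, hh₀⟩) k (by
        simp [mul_assoc])
      rw [h1]
      have h2 := irr_conj θ k (⟨h₀, hh₀⟩⁻¹ : H)
      rw [inv_inv] at h2
      exact h2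
    rw [this]
    exact hθ
  haveI hH'n : (H.subgroupOf T).Normal := Subgroup.normal_subgroupOf
  let φ : ↥(H.subgroupOf T) ≃* ↥H := Subgroup.subgroupOfEquivOfLe hHT
  have hφ : ∀ n : ↥(H.subgroupOf T), ((φ n : H) : G) = ((n : T) : G) := fun n => rfl
  set b' := irrTransport φ '' b with hb'def
  have hb' : IsPBlock M b' := isPBlock_image_irrTransport φ hb
  have hconj : ∀ (g : T) (θ : IrrCharacter H),
      conjIrrN (H.subgroupOf T) g (irrTransport φ θ) = irrTransport φ (conjIrrN H (g : G) θ) := by
    intro g θ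
    apply Subtype.ext
    funext n
    rw [conjIrrN_apply, irrTransport_apply, irrTransport_apply, conjIrrN_apply]
    congr 1
  have hinv : ∀ g : T, ∀ θ' ∈ b', conjIrrN (H.subgroupOf T) g θ' ∈ b' := by
    rintro g _ ⟨θ, hθ, rfl⟩
    rw [hconj]
    refine ⟨_, ?_, rfl⟩
    have hg' : ((g : G))⁻¹ ∈ T := T.inv_mem g.2
    refine (hT _).mp hg' θ hθ (conjIrrN H (g : G) θ) ?_
    intro h h' hh'
    rw [conjIrrN_apply]
    refine congrArg (θ : H → ℂ) (Subtype.ext ?_)
    show (g : G) * (h' : G) * (g : G)⁻¹ = (h : G)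
    rw [hh']
    group
  obtain ⟨θ', hθ'b, hht, hidx⟩ :=
    exists_heightZero_inertia (H.subgroupOf T) p M hM b' hb' hinv
  obtain ⟨θ, hθ, rfl⟩ := hθ'b
  refine ⟨θ, hθ, ?_, ?_⟩
  · rw [← blockHeight_irrTransport p φ b θ]
    exact hht
  · refine ⟨Helper75.inertia H (θ : H → ℂ) ⊓ T, inf_le_right, ?_, ?_⟩
    · intro g
      rw [Subgroup.mem_inf, Helper75.mem_inertia, and_comm]
      apply and_congr_right
      intro _
      constructor
      · intro h k k' hk
        have := congrFun h k
        rw [Helper75.conjFun_apply] at this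
        rw [← this]
        refine congrArg (θ : H → ℂ) (Subtype.ext ?_)
        exact hk
      · intro h
        funext k
        rw [Helper75.conjFun_apply]
        exact h k _ rfl
    · have hsub : (Helper75.inertia H (θ : H → ℂ) ⊓ T).subgroupOf T =
          Helper75.inertia (H.subgroupOf T) (irrTransport φ θ : ↥(H.subgroupOf T) → ℂ) := by
        ext g
        rw [Subgroup.mem_subgroupOf, Subgroup.mem_inf, Helper75.mem_inertia, Helper75.mem_inertia]
        constructor
        · rintro ⟨h, -⟩
          have h1 := congrArg (fun f : H → ℂ => f ∘ φ) h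
          have h2 := congrArg Subtype.val (hconj g θ)
          change Helper75.conjFun (H.subgroupOf T) g (irrTransport φ θ : ↥(H.subgroupOf T) → ℂ) = _ at h2
          rw [h2]
          funext n
          rw [irrTransport_apply, irrTransport_apply]
          exact congrFun h (φ n)
        · intro h
          refine ⟨?_, g.2⟩
          have h2 := congrArg Subtype.val (hconj g θ)
          change Helper75.conjFun (H.subgroupOf T) g (irrTransport φ θ : ↥(H.subgroupOf T) → ℂ) = _ at h2
          rw [h2] at h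
          funext k
          have := congrFun h (φ.symm k)
          rw [irrTransport_apply, irrTransport_apply, MulEquiv.apply_symm_apply] at this
          exact this
      rw [Subgroup.relIndex, hsub]
      exact hidx

end Cfsg.Agent.S4723
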