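import Cfsg.Statements.S4437
import Cfsg.Agent.Lib.Helper77.ExtFirstMain
import Cfsg.Agent.S0920
import Cfsg.Agent.S0917
import Cfsg.Agent.S0971

set_option autoImplicit false
set_option linter.style.haveILetI false
open Cfsg

namespace Cfsg.Agent.S4437

open Cfsg.Agent.Lib Cfsg.Agent.Lib.Helper16 Cfsg.Agent.Lib.Helper77 Cfsg.Agent.Lib.Helper78

/-- The local step: inside a subgroup `Nn` containing `P C_G(P)` in which `P` is normal, the block
`β` of `Nn` covering `b` induces `B`, and has defect group `P` iff `p ∤ |T : H|`. -/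
theorem aux {G : Type*} [Group G] [Fintype G] (p : ℕ) [Fact p.Prime] (M : Ideal Cfsg.AlgInt)
    (hM : Cfsg.IsPModular p M) (P : Subgroup G) (hP : IsPGroup p P) (Nn : Subgroup G)
    (hPN : P ≤ Nn) (hCN : Subgroup.centralizer (P : Set G) ≤ Nn)
    [hQn : (P.subgroupOf Nn).Normal]
    (H : Subgroup G) [Fintype H]
    (hH : H = P ⊔ Subgroup.centralizer (P : Set G)) (b : Set (Cfsg.IrrCharacter H))
    (hb : Cfsg.IsPBlock M b) (hdef : blockDefect p b = (Nat.card P).factorization p)
    (B : Set (Cfsg.IrrCharacter G))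
    (hind : Cfsg.IsInducedBlock M H b B) (T : Subgroup G)
    (hT : ∀ g : G, g ∈ T ↔ (g ∈ Nn ∧ ∀ θ ∈ b, ∀ θ' : Cfsg.IrrCharacter H,
      (∀ h h' : H, (h' : G) = g * h * g⁻¹ → (θ' : H → ℂ) h' = (θ : H → ℂ) h) → θ' ∈ b)) :
    ∃ β : Set (IrrCharacter Nn), IsPBlock M β ∧ IsInducedBlock M Nn β B ∧
      (IsDefectGroup p M β (P.subgroupOf Nn) ↔ ¬ p ∣ H.relIndex T) := by
  classical
  haveI hMp := isPModular_isPrime hM
  have hpp : p.Prime := Fact.out
  haveI : Fintype Nn := Fintype.ofFinite _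
  have hQp : IsPGroup p (P.subgroupOf Nn) := hP.comap_subtype
  have hHN : H ≤ Nn := by rw [hH]; exact sup_le hPN hCN
  have hTN : T ≤ Nn := fun g hg => ((hT g).mp hg).1
  have hL : (P.subgroupOf Nn) ⊔ Subgroup.centralizer ((P.subgroupOf Nn : Subgroup Nn) : Set Nn) =
      H.subgroupOf Nn := by
    rw [hH, Subgroup.subgroupOf_sup hPN hCN]
    congr 1
    ext c
    rw [Subgroup.mem_subgroupOf, Subgroup.mem_centralizer_iff, Subgroup.mem_centralizer_iff]
    constructor
    · intro h y hy
      have := h ⟨y, hPN hy⟩ (by rw [SetLike.mem_coe, Subgroup.mem_subgroupOf]; exact hy)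
      exact congrArg Subtype.val this
    · intro h y hy
      apply Subtype.ext
      exact h (y : G) (Subgroup.mem_subgroupOf.mp hy)
  haveI : Fintype ↥((P.subgroupOf Nn) ⊔
      Subgroup.centralizer ((P.subgroupOf Nn : Subgroup Nn) : Set Nn)) := Fintype.ofFinite _
  let φ : ↥((P.subgroupOf Nn) ⊔
      Subgroup.centralizer ((P.subgroupOf Nn : Subgroup Nn) : Set Nn)) ≃* ↥H :=
    (MulEquiv.subgroupCongr hL).trans (Subgroup.subgroupOfEquivOfLe hHN)
  have hφ : ∀ x, ((φ x : H) : G) = ((x : Nn) : G) := fun x => rfl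
  have hφs : ∀ h : H, (((φ.symm h : _) : Nn) : G) = (h : G) := by
    intro h
    rw [← hφ, MulEquiv.apply_symm_apply]
  have hb₁ : IsPBlock M (irrTransport φ '' b) := isPBlock_image_irrTransport φ hb
  have hdef₁ : blockDefect p (irrTransport φ '' b) =
      (Nat.card (P.subgroupOf Nn)).factorization p := by
    rw [blockDefect_image_irrTransport, hdef,
      Nat.card_congr (Subgroup.subgroupOfEquivOfLe hPN).toEquiv]
  -- the stabilizer
  have hT₁ : ∀ g : Nn, g ∈ T.subgroupOf Nn ↔ ∀ θ ∈ irrTransport φ '' b,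
      ∀ θ' : IrrCharacter ↥((P.subgroupOf Nn) ⊔
        Subgroup.centralizer ((P.subgroupOf Nn : Subgroup Nn) : Set Nn)),
      (∀ h h' : ↥((P.subgroupOf Nn) ⊔
        Subgroup.centralizer ((P.subgroupOf Nn : Subgroup Nn) : Set Nn)),
        (h' : Nn) = g * h * g⁻¹ → (θ' : _ → ℂ) h' = (θ : _ → ℂ) h) → θ' ∈ irrTransport φ '' b := by
    intro g
    rw [Subgroup.mem_subgroupOf, hT]
    constructor
    · rintro ⟨-, h⟩ _ ⟨θ, hθ, rfl⟩ θ₁' hθ₁'
      rw [mem_image_irrTransport_iff]
      apply h θ hθ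
      intro k k' hk
      rw [irrTransport_apply]
      have := hθ₁' (φ.symm k) (φ.symm k') (by
        apply Subtype.ext
        show (((φ.symm k' : _) : Nn) : G) = (g : G) * (((φ.symm k : _) : Nn) : G) * ((g : G))⁻¹
        rw [hφs, hφs, hk])
      rw [this, irrTransport_apply, MulEquiv.apply_symm_apply]
    · intro h
      refine ⟨g.2, ?_⟩
      intro θ hθ θ' hθ'
      have := h (irrTransport φ θ) ⟨θ, hθ, rfl⟩ (irrTransport φ θ') (by
        intro k k' hk
        rw [irrTransport_apply, irrTransport_apply]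
        apply hθ'
        rw [hφ, hφ, hk]
        rfl)
      obtain ⟨θ'', hθ'', heq⟩ := this
      rw [← irrTransport_injective φ heq]
      exact hθ''
  -- the covering block
  obtain ⟨θ₀, hθ₀⟩ := IsPBlock_nonempty hMp.ne_top hb₁
  obtain ⟨χf, hχirr, hover⟩ := Helper80.exists_irr_over' _ θ₀.2
  have hβ : IsPBlock M (blockOf M χf) := isPBlock_blockOf ⟨χf, hχirr⟩
  have hcov : ∃ χ ∈ blockOf M χf, ∃ θ ∈ irrTransport φ '' b,
      classInner (fun n : ↥((P.subgroupOf Nn) ⊔
        Subgroup.centralizer ((P.subgroupOf Nn : Subgroup Nn) : Set Nn)) => (χ : Nn → ℂ) n)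
        (θ : _ → ℂ) ≠ 0 :=
    ⟨⟨χf, hχirr⟩, self_mem_blockOf hMp.ne_top ⟨χf, hχirr⟩, θ₀, hθ₀, hover⟩
  have h971 := (Cfsg.Agent.S0971.result p M hM (P.subgroupOf Nn) hQp _ hb₁).2 _ hβ hcov
  refine ⟨blockOf M χf, hβ, isInducedBlock_trans_transport Nn H _ φ hφ h971 hind, ?_⟩
  rw [isDefectGroup_iff_not_dvd_relIndex_stab hM (P.subgroupOf Nn) hQp _ rfl _ hb₁ hdef₁
    (T.subgroupOf Nn) hT₁ _ hβ hcov, hL, Subgroup.relIndex_subgroupOf hTN]

/-- Let P be a p-subgroup of the finite group G, H = P·C_G(P), and b a block of H (relative to a maximal ideal M of the algebraic integers containing p) having P as a defect group; let B be the block of G induced by b. Let T be the stabilizer of b in N_G(P): the elements g of N_G(P) such that the g-conjugate of every member of b is again a member of b. Then B has defect group P if and only if p does not divide the index of H in T. -/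
theorem result {G : Type*} [Group G] [Fintype G] (p : ℕ) [Fact p.Prime] (M : Ideal Cfsg.AlgInt) (hM : Cfsg.IsPModular p M) (P : Subgroup G) (hP : IsPGroup p P) (H : Subgroup G) [Fintype H] (hH : H = P ⊔ Subgroup.centralizer (P : Set G)) (b : Set (Cfsg.IrrCharacter H)) (hb : Cfsg.IsPBlock M b) (hbP : Cfsg.IsDefectGroup p M b (P.subgroupOf H)) (B : Set (Cfsg.IrrCharacter G)) (hind : Cfsg.IsInducedBlock M H b B) (T : Subgroup G) (hT : ∀ g : G, g ∈ T ↔ (g ∈ Subgroup.normalizer (P : Set G) ∧ ∀ θ ∈ b, ∀ θ' : Cfsg.IrrCharacter H, (∀ h h' : H, (h' : G) = g * h * g⁻¹ → (θ' : H → ℂ) h' = (θ : H → ℂ) h) → θ' ∈ b)) : Cfsg.IsDefectGroup p M B P ↔ ¬ p ∣ H.relIndex T := by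
  classical
  haveI hMp := isPModular_isPrime hM
  have hpp : p.Prime := Fact.out
  have hPN : P ≤ Subgroup.normalizer (P : Set G) := Subgroup.le_normalizer
  have hCN : Subgroup.centralizer (P : Set G) ≤ Subgroup.normalizer (P : Set G) :=
    Subgroup.centralizer_le_normalizer _
  haveI hQn : (P.subgroupOf (Subgroup.normalizer (P : Set G))).Normal :=
    Subgroup.normal_in_normalizer
  have hPH : P ≤ H := by rw [hH]; exact le_sup_left
  have hB : IsPBlock M B := hind.2.1
  have hcardP : Nat.card P = p ^ blockDefect p b := by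
    rw [← card_defectGroup hM hb hbP]
    exact (Nat.card_congr (Subgroup.subgroupOfEquivOfLe hPH).toEquiv).symm
  have hdef : blockDefect p b = (Nat.card P).factorization p := by
    rw [hcardP, Nat.Prime.factorization_pow hpp]
    simp
  obtain ⟨β, hβ, hβB, hiff⟩ := aux p M hM P hP (Subgroup.normalizer (P : Set G)) hPN hCN H hH b hb
    hdef B hind T hT
  rw [← hiff]
  have hQp : IsPGroup p (P.subgroupOf (Subgroup.normalizer (P : Set G))) := hP.comap_subtype
  constructor
  · intro hBP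
    obtain ⟨E, hE⟩ := exists_isDefectGroup p hβ
    have hQE : P.subgroupOf (Subgroup.normalizer (P : Set G)) ≤ E :=
      normal_pGroup_le_defectGroup hM _ hQp hβ hE
    obtain ⟨E', hE', hle⟩ := Cfsg.Agent.S0917.result p M hM _ β hβ B hB hβB E hE
    have h1 : Nat.card E' = Nat.card P := by
      rw [card_defectGroup hM hB hE', card_defectGroup hM hB hBP]
    have h2 : Nat.card E ≤ Nat.card E' := by
      rw [← Subgroup.card_subtype (Subgroup.normalizer (P : Set G)) E]
      exact Nat.le_of_dvd Nat.card_pos (Subgroup.card_dvd_of_le hle)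
    have h3 : Nat.card (P.subgroupOf (Subgroup.normalizer (P : Set G))) = Nat.card P :=
      Nat.card_congr (Subgroup.subgroupOfEquivOfLe hPN).toEquiv
    have hEQ : P.subgroupOf (Subgroup.normalizer (P : Set G)) = E :=
      Subgroup.eq_of_le_of_card_ge hQE (by rw [h3, ← h1]; exact h2)
    rw [hEQ]
    exact hE
  · intro hβQ
    obtain ⟨B', hB', hB'P, hind'⟩ := (Cfsg.Agent.S0920.result p M hM P hP).1 β hβ hβQ
    rw [Helper78.isInducedBlock_unique hβB hind']
    exact hB'P

end Cfsg.Agent.S4437
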