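import Cfsg.Statements.S4729
import Cfsg.Agent.Lib.Helper78.FiniteOrderSpectral
import Cfsg.Agent.Lib.Helper78.CharValues
import Cfsg.Agent.Lib.Helper16.LocalRing

set_option autoImplicit false
open Cfsg

namespace Cfsg.Agent.S4729

open Cfsg.Agent.Lib.Helper78 Cfsg.Agent.Lib.Helper16

/-- Characters in the principal block are congruent to their degree at elements of `p'`-class
size. -/
theorem principalBlock_apply_sub_apply_one {G : Type*} [Group G] [Finite G] {p : ℕ}
    {M : Ideal AlgInt} (hM : IsPModular p M) {χ : IrrCharacter G}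
    (hχ : χ ∈ principalBlock M G) {g : G}
    (hg : ¬ p ∣ (Subgroup.centralizer ({g} : Set G)).index) :
    MemLocalIdeal M ((χ : G → ℂ) g - (χ : G → ℂ) 1) := by
  have hMp := isPModular_isPrime hM
  have hchar := IsIrrCharacter.isCharacter χ.2
  have h : MemLocalIdeal M (centralChar (fun _ : G => (1 : ℂ)) g - centralChar (χ : G → ℂ) g) :=
    hχ g
  unfold centralChar at h
  have h1 : (χ : G → ℂ) 1 ≠ 0 := IsIrrCharacter.apply_one_ne_zero χ.2
  have hR1 : MemLocalRing M ((χ : G → ℂ) 1) :=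
    memLocalRing_of_isIntegral hMp.ne_top (IsCharacter.isIntegral hchar 1)
  have hRg : MemLocalRing M ((χ : G → ℂ) g) :=
    memLocalRing_of_isIntegral hMp.ne_top (IsCharacter.isIntegral hchar g)
  have h2 := memLocalIdeal_mul_right h hR1
  have h3 : (((Subgroup.centralizer ({g} : Set G)).index : ℂ) * 1 / 1 -
      ((Subgroup.centralizer ({g} : Set G)).index : ℂ) * (χ : G → ℂ) g / (χ : G → ℂ) 1) *
        (χ : G → ℂ) 1 =
      ((Subgroup.centralizer ({g} : Set G)).index : ℂ) * ((χ : G → ℂ) 1 - (χ : G → ℂ) g) := by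
    field_simp
  rw [h3] at h2
  rcases (memLocalIdeal_mul_iff (memLocalRing_natCast hMp.ne_top _)
    (memLocalRing_sub hR1 hRg)).mp h2 with h4 | h4
  · exact absurd ((memLocalIdeal_natCast_iff hM _).mp h4) hg
  · exact memLocalIdeal_sub_comm.mp h4

/-- The determinant of a representation of a perfect group is trivial. -/
theorem det_eq_one_of_perfect {G : Type*} [Group G] (hperf : commutator G = ⊤) {V : Type*}
    [AddCommGroup V] [Module ℂ V] (ρ : Representation ℂ G V) (g : G) :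
    LinearMap.det (ρ g) = 1 := by
  have h1 : g ∈ ((LinearMap.det.comp ρ : G →* ℂ).toHomUnits).ker := by
    apply Abelianization.commutator_subset_ker
    rw [hperf]
    exact Subgroup.mem_top g
  have h2 := MonoidHom.mem_ker.mp h1
  have h3 := congrArg Units.val h2
  rw [MonoidHom.coe_toHomUnits] at h3
  simpa using h3

open Finset in
/-- Main claim: a `p'`-element centralizing a Sylow `p`-subgroup is trivial. -/
theorem eq_one_of_mem_centralizer {G : Type*} [Group G] [Finite G] (p : ℕ) [Fact p.Prime]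
    (M : Ideal AlgInt) (hM : IsPModular p M) (hperf : commutator G = ⊤) (P : Sylow p G)
    (χ : IrrCharacter G) (hχ : χ ∈ principalBlock M G)
    (hfaith : ∀ g : G, (χ : G → ℂ) g = (χ : G → ℂ) 1 → g = 1)
    (hdeg : charDegree (χ : G → ℂ) < 2 * p) {x : G}
    (hx : x ∈ Subgroup.centralizer ((P : Subgroup G) : Set G)) (hxp : ¬ p ∣ orderOf x) :
    x = 1 := by
  by_contra hx1
  have hp : p.Prime := Fact.out
  have hMp := isPModular_isPrime hM
  obtain ⟨d, ρ, hirr, hρ⟩ := χ.2
  obtain ⟨n, hn⟩ : ∃ n, n = orderOf x := ⟨_, rfl⟩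
  have hn0 : 0 < n := hn ▸ orderOf_pos x
  have hnC : (n : ℂ) ≠ 0 := by exact_mod_cast hn0.ne'
  have hpn : ¬ p ∣ n := hn ▸ hxp
  obtain ⟨A, hAdef⟩ : ∃ A : Module.End ℂ (Fin d → ℂ), A = ρ x := ⟨_, rfl⟩
  have hApow : ∀ j : ℕ, A ^ j = ρ (x ^ j) := by
    intro j
    rw [hAdef, map_pow]
  have hA : A ^ n = 1 := by
    rw [hApow, hn, pow_orderOf_eq_one, map_one]
  have htr : ∀ j : ℕ, LinearMap.trace ℂ (Fin d → ℂ) (A ^ j) = (χ : G → ℂ) (x ^ j) := by
    intro j
    rw [hApow, ← hρ]
    rfl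
  -- roots of unity
  obtain ⟨ζ, hζ⟩ : ∃ ζ : ℂ, IsPrimitiveRoot ζ n := ⟨_, Complex.isPrimitiveRoot_exp n hn0.ne'⟩
  have hζ0 : ζ ≠ 0 := hζ.ne_zero hn0.ne'
  have hξ : IsPrimitiveRoot ζ⁻¹ n := hζ.inv
  have hζξ : ζ * ζ⁻¹ = 1 := mul_inv_cancel₀ hζ0
  have hξn : ζ⁻¹ ^ n = 1 := hξ.pow_eq_one
  have hξint : ∀ e : ℕ, MemLocalRing M (ζ⁻¹ ^ e) := by
    intro e
    exact memLocalRing_of_isIntegral hMp.ne_top ((hξ.isIntegral hn0).pow e)
  -- the degree
  have hchar := IsIrrCharacter.isCharacter χ.2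
  have hχ1 : (χ : G → ℂ) 1 = (d : ℂ) := by
    have := htr 0
    rw [pow_zero, pow_zero] at this
    rw [← this]
    simp
  have hd : d = charDegree (χ : G → ℂ) := by
    have h1 := IsCharacter.apply_one_eq_charDegree hchar
    rw [hχ1] at h1
    exact_mod_cast h1
  have hd2 : d < 2 * p := hd ▸ hdeg
  -- congruences
  have hcong : ∀ j : ℕ, MemLocalIdeal M ((χ : G → ℂ) (x ^ j) - (χ : G → ℂ) 1) := by
    intro j
    apply principalBlock_apply_sub_apply_one hM hχ
    intro hdvd
    have hle : (P : Subgroup G) ≤ Subgroup.centralizer ({x ^ j} : Set G) := by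
      intro a ha
      rw [Subgroup.mem_centralizer_singleton_iff]
      have hxa : a * x = x * a := (Subgroup.mem_centralizer_iff.mp hx) a ha
      exact ((Commute.pow_right hxa j).eq)
    have h1 : (Subgroup.centralizer ({x ^ j} : Set G)).index ∣ (P : Subgroup G).index :=
      Subgroup.index_dvd_of_le hle
    exact P.not_dvd_index (hdvd.trans h1)
  -- the idempotents and multiplicities
  have hidem : ∀ k, IsIdempotentElem (specIdem A n ζ⁻¹ k) :=
    fun k => specIdem_isIdempotentElem hn0 hA hξn hζξ k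
  obtain ⟨m, hm⟩ : ∃ m : ℕ → ℕ,
      m = fun k => Module.finrank ℂ (LinearMap.range (specIdem A n ζ⁻¹ k)) := ⟨_, rfl⟩
  have hmtr : ∀ k, (m k : ℂ) = (n : ℂ)⁻¹ * ∑ j ∈ range n, ζ⁻¹ ^ (j * k) * (χ : G → ℂ) (x ^ j) := by
    intro k
    rw [hm]
    simp only
    rw [← exists_nat_trace_of_isIdempotentElem (hidem k), trace_specIdem]
    congr 1
    apply Finset.sum_congr rfl
    intro j _
    rw [htr]
  have hmzero : ∀ k, m k = 0 → specIdem A n ζ⁻¹ k = 0 := by
    intro k hk
    rw [hm] at hk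
    exact eq_zero_of_finrank_range_eq_zero hk
  have hsum_m : ∑ k ∈ range n, m k = d := by
    have h1 := congrArg (LinearMap.trace ℂ (Fin d → ℂ)) (sum_specIdem (A := A) hn0 hξ)
    rw [map_sum] at h1
    have h2 : ∀ k ∈ range n, LinearMap.trace ℂ (Fin d → ℂ) (specIdem A n ζ⁻¹ k) = (m k : ℂ) := by
      intro k _
      rw [hm]
      exact exists_nat_trace_of_isIdempotentElem (hidem k)
    rw [Finset.sum_congr rfl h2] at h1
    have h3 : LinearMap.trace ℂ (Fin d → ℂ) 1 = (d : ℂ) := by simp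
    rw [h3] at h1
    exact_mod_cast h1
  have hdvd : ∀ k, k < n → k ≠ 0 → p ∣ m k := by
    intro k hk hk0
    have h1 : (m k : ℂ) = (n : ℂ)⁻¹ * ∑ j ∈ range n,
        ζ⁻¹ ^ (j * k) * ((χ : G → ℂ) (x ^ j) - (χ : G → ℂ) 1) := by
      rw [hmtr k]
      congr 1
      simp only [mul_sub, Finset.sum_sub_distrib]
      rw [← Finset.sum_mul]
      have h2 : ∑ j ∈ range n, ζ⁻¹ ^ (j * k) = 0 := by
        have h3 := sum_pow_mul_eq hξ hk
        rw [if_neg hk0] at h3
        rw [← h3]
        apply Finset.sum_congr rfl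
        intro j _
        rw [mul_comm]
      rw [h2, zero_mul, sub_zero]
    have h4 : MemLocalIdeal M (m k : ℂ) := by
      rw [h1]
      apply memLocalIdeal_mul_left (memLocalRing_inv_natCast hM hpn)
      apply memLocalIdeal_sum
      intro j _
      exact memLocalIdeal_mul_left (hξint _) (hcong j)
    exact (memLocalIdeal_natCast_iff hM _).mp h4
  -- `A ≠ 1`
  have hA1 : A ≠ 1 := by
    intro h
    apply hx1
    apply hfaith
    have := htr 1
    rw [pow_one, pow_one, h] at this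
    rw [← this, hχ1]
    simp
  -- a nontrivial eigenvalue
  obtain ⟨k₀, hk₀n, hk₀0, hk₀⟩ : ∃ k₀, k₀ < n ∧ k₀ ≠ 0 ∧ specIdem A n ζ⁻¹ k₀ ≠ 0 := by
    by_contra hcon
    push Not at hcon
    apply hA1
    have h1 := sum_specIdem (A := A) hn0 hξ
    rw [Finset.sum_eq_single_of_mem 0 (Finset.mem_range.mpr hn0)
      (fun k hk hk0 => hcon k (Finset.mem_range.mp hk) hk0)] at h1
    have h2 := mul_specIdem hA hξn hζξ 0
    rw [h1, pow_zero, one_smul, mul_one] at h2
    exact h2
  have hmk₀ : m k₀ ≠ 0 := fun h => hk₀ (hmzero k₀ h)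
  have hpk₀ : p ≤ m k₀ := Nat.le_of_dvd (Nat.pos_of_ne_zero hmk₀) (hdvd k₀ hk₀n hk₀0)
  have hothers : ∀ k, k < n → k ≠ 0 → k ≠ k₀ → m k = 0 := by
    intro k hk hk0 hkk₀
    by_contra hne
    have hpk : p ≤ m k := Nat.le_of_dvd (Nat.pos_of_ne_zero hne) (hdvd k hk hk0)
    have h1 : m k₀ + m k ≤ ∑ k ∈ range n, m k := by
      have hsub : ({k₀, k} : Finset ℕ) ⊆ range n := by
        intro a ha
        rw [Finset.mem_insert, Finset.mem_singleton] at ha
        rcases ha with rfl | rfl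
        · exact Finset.mem_range.mpr hk₀n
        · exact Finset.mem_range.mpr hk
      have := Finset.sum_le_sum_of_subset (f := m) hsub
      rwa [Finset.sum_pair (Ne.symm hkk₀)] at this
    omega
  have hmk₀p : m k₀ = p := by
    obtain ⟨c, hc⟩ := hdvd k₀ hk₀n hk₀0
    have h1 : m k₀ ≤ d := by
      rw [← hsum_m]
      exact Finset.single_le_sum (f := m) (fun _ _ => Nat.zero_le _) (Finset.mem_range.mpr hk₀n)
    have hc1 : c = 1 := by
      rcases c with _ | _ | c
      · omega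
      · rfl
      · exfalso
        have : p * (c + 1 + 1) = p * c + 2 * p := by ring
        omega
    rw [hc, hc1, mul_one]
  -- the shape of `A`
  have hsum2 : specIdem A n ζ⁻¹ 0 + specIdem A n ζ⁻¹ k₀ = 1 := by
    rw [← sum_specIdem (A := A) hn0 hξ]
    symm
    apply Finset.sum_eq_add 0 k₀ (Ne.symm hk₀0)
    · intro k hk hne
      exact hmzero k (hothers k (Finset.mem_range.mp hk) hne.1 hne.2)
    · intro h
      exact absurd (Finset.mem_range.mpr hn0) h
    · intro h
      exact absurd (Finset.mem_range.mpr hk₀n) h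
  have hAshape : A = 1 + (ζ ^ k₀ - 1) • specIdem A n ζ⁻¹ k₀ := by
    have h1 : A = A * (specIdem A n ζ⁻¹ 0 + specIdem A n ζ⁻¹ k₀) := by rw [hsum2, mul_one]
    rw [mul_add, mul_specIdem hA hξn hζξ 0, mul_specIdem hA hξn hζξ k₀, pow_zero, one_smul] at h1
    have h2 : specIdem A n ζ⁻¹ 0 = 1 - specIdem A n ζ⁻¹ k₀ := eq_sub_of_add_eq hsum2
    rw [h2] at h1
    exact h1.trans (by module)
  have hdet : LinearMap.det A = (ζ ^ k₀) ^ p := by
    rw [hAshape, det_one_add_smul_of_isIdempotentElem (hidem k₀)]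
    have : Module.finrank ℂ (LinearMap.range (specIdem A n ζ⁻¹ k₀)) = p := by
      have := hmk₀p
      rw [hm] at this
      exact this
    rw [this]
    congr 1
    ring
  have hdet1 : LinearMap.det A = 1 := by
    rw [hAdef]
    exact det_eq_one_of_perfect hperf ρ x
  rw [hdet1, ← pow_mul] at hdet
  have h1 : n ∣ k₀ * p := hζ.dvd_of_pow_eq_one _ hdet.symm
  have hcop : Nat.Coprime n p := (Nat.Coprime.symm ((Nat.Prime.coprime_iff_not_dvd hp).mpr hpn))
  have h2 : n ∣ k₀ := hcop.dvd_of_dvd_mul_right h1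
  have h3 := Nat.le_of_dvd (Nat.pos_of_ne_zero hk₀0) h2
  omega

/-- Let p be a prime, M a maximal ideal of the algebraic integers containing p, G a finite perfect group and P a Sylow p-subgroup. If the principal p-block of G contains a faithful irreducible character of degree less than 2p, then the centralizer of P is a p-group. -/
theorem result {G : Type*} [Group G] [Finite G] (p : ℕ) [Fact p.Prime] (M : Ideal Cfsg.AlgInt) (hM : Cfsg.IsPModular p M) (hperf : commutator G = ⊤) (P : Sylow p G) (χ : Cfsg.IrrCharacter G) (hχ : χ ∈ Cfsg.principalBlock M G) (hfaith : ∀ g : G, (χ : G → ℂ) g = (χ : G → ℂ) 1 → g = 1) (hdeg : Cfsg.charDegree (χ : G → ℂ) < 2 * p) : IsPGroup p ↥(Subgroup.centralizer ((P : Subgroup G) : Set G)) := by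
  have hp : p.Prime := Fact.out
  intro g
  obtain ⟨e, n', hn', hN⟩ := Nat.exists_eq_pow_mul_and_not_dvd (orderOf_pos (g : G)).ne' p hp.ne_one
  refine ⟨e, ?_⟩
  have hmem : ((g ^ p ^ e : ↥(Subgroup.centralizer ((P : Subgroup G) : Set G))) : G) ∈
      Subgroup.centralizer ((P : Subgroup G) : Set G) := (g ^ p ^ e).2
  have hord : ¬ p ∣ orderOf ((g ^ p ^ e : ↥(Subgroup.centralizer ((P : Subgroup G) : Set G))) : G) := by
    rw [Subgroup.coe_pow, orderOf_pow' _ (pow_ne_zero e hp.pos.ne'), hN,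
      Nat.gcd_eq_right (Dvd.intro _ rfl), Nat.mul_div_cancel_left _ (pow_pos hp.pos e)]
    exact hn'
  have h1 := eq_one_of_mem_centralizer p M hM hperf P χ hχ hfaith hdeg hmem hord
  exact Subtype.ext h1

end Cfsg.Agent.S4729
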