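import Cfsg.Statements.S3224
import Cfsg.Agent.Lib.Helper73.Taussky

set_option autoImplicit false
open Cfsg

namespace Cfsg.Agent.S3224

open scoped commutatorElement

/-- Involutions of a cyclic group of order `2 ^ m`. -/
theorem eq_pow_of_sq_eq_one {S : Type*} [Group S] [Finite S] {a y : S} {m : ℕ}
    (ha : orderOf a = 2 ^ (m + 1)) (hy : y ∈ Subgroup.zpowers a) (hy2 : y * y = 1) (hy1 : y ≠ 1) :
    y = a ^ 2 ^ m := by
  classical
  rw [mem_zpowers_iff_mem_range_orderOf, Finset.mem_image] at hy
  obtain ⟨j, hj, rfl⟩ := hy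
  rw [Finset.mem_range, ha] at hj
  have h1 : a ^ (2 * j) = 1 := by
    rw [two_mul, pow_add]; exact hy2
  have h2 : 2 ^ (m + 1) ∣ 2 * j := by
    rw [← ha]; exact orderOf_dvd_of_pow_eq_one h1
  rw [pow_succ, mul_comm] at h2
  have h3 : 2 ^ m ∣ j := Nat.dvd_of_mul_dvd_mul_left (by norm_num) h2
  obtain ⟨k, rfl⟩ := h3
  have hk : k < 2 := by
    rw [pow_succ] at hj
    have : 0 < 2 ^ m := pow_pos (by norm_num) m
    nlinarith
  interval_cases k
  · exfalso; apply hy1; simp
  · simp

/-- The commutator subgroup lies in every subgroup of index two. -/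
theorem commutator_le_of_index_two {S : Type*} [Group S] (K : Subgroup S) (hK : K.index = 2) :
    commutator S ≤ K := by
  have hn : K.Normal := Subgroup.normal_of_index_eq_two hK
  have hcard : Nat.card (S ⧸ K) = 2 := by rw [← Subgroup.index_eq_card]; exact hK
  have : Fact (Nat.Prime 2) := ⟨Nat.prime_two⟩
  have hcyc : IsCyclic (S ⧸ K) := isCyclic_of_prime_card hcard
  let _ : CommGroup (S ⧸ K) := IsCyclic.commGroup
  have := Abelianization.commutator_subset_ker (QuotientGroup.mk' K)
  rwa [QuotientGroup.ker_mk'] at this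

/-- The index of the centralizer of `x` is at most the order of the commutator subgroup. -/
theorem card_quotient_centralizer_le {S : Type*} [Group S] [Finite S] (x : S) :
    Nat.card (S ⧸ Subgroup.centralizer ({x} : Set S)) ≤ Nat.card (commutator S) := by
  have hwd : ∀ g h : S, (QuotientGroup.leftRel (Subgroup.centralizer ({x} : Set S))) g h →
      (⟨⁅g, x⁆, by
        rw [commutator_def]
        exact Subgroup.commutator_mem_commutator (Subgroup.mem_top g) (Subgroup.mem_top x)⟩ :
          commutator S) =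
      ⟨⁅h, x⁆, by
        rw [commutator_def]
        exact Subgroup.commutator_mem_commutator (Subgroup.mem_top h) (Subgroup.mem_top x)⟩ := by
    intro g h hgh
    rw [QuotientGroup.leftRel_apply, Subgroup.mem_centralizer_iff] at hgh
    have h1 := hgh x rfl
    apply Subtype.ext
    show ⁅g, x⁆ = ⁅h, x⁆
    rw [commutatorElement_def, commutatorElement_def]
    have h2 : h * x * h⁻¹ = g * x * g⁻¹ := by
      calc h * x * h⁻¹ = g * ((g⁻¹ * h) * x) * h⁻¹ := by group
        _ = g * (x * (g⁻¹ * h)) * h⁻¹ := by rw [h1]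
        _ = g * x * g⁻¹ := by group
    rw [h2]
  apply Nat.card_le_card_of_injective
    (fun q : S ⧸ Subgroup.centralizer ({x} : Set S) => Quotient.liftOn' q
      (fun g => (⟨⁅g, x⁆, by
        rw [commutator_def]
        exact Subgroup.commutator_mem_commutator (Subgroup.mem_top g) (Subgroup.mem_top x)⟩ :
          commutator S)) hwd)
  intro q₁ q₂
  refine Quotient.inductionOn₂' q₁ q₂ ?_
  intro g h hgh
  simp only [Quotient.liftOn'_mk''] at hgh
  have h1 : ⁅g, x⁆ = ⁅h, x⁆ := congrArg Subtype.val hgh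
  apply Quotient.sound'
  rw [QuotientGroup.leftRel_apply, Subgroup.mem_centralizer_iff]
  intro y hy
  rw [Set.mem_singleton_iff] at hy
  subst hy
  rw [commutatorElement_def, commutatorElement_def] at h1
  have h2 : g * y * g⁻¹ = h * y * h⁻¹ := by
    calc g * y * g⁻¹ = (g * y * g⁻¹ * y⁻¹) * y := by group
      _ = (h * y * h⁻¹ * y⁻¹) * y := by rw [h1]
      _ = h * y * h⁻¹ := by group
  calc y * (g⁻¹ * h) = g⁻¹ * (g * y * g⁻¹) * h := by group
    _ = g⁻¹ * (h * y * h⁻¹) * h := by rw [h2]
    _ = g⁻¹ * h * y := by group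

/-- A finite 2-group containing an involution whose centralizer has order 4 is dihedral, quasi-dihedral (semidihedral), or of order 4. -/
theorem result {S : Type*} [Group S] [Finite S] (hS : IsPGroup 2 S)
    (x : S) (hx : orderOf x = 2) (hC : Nat.card ↥(Subgroup.centralizer ({x} : Set S)) = 4) :
    (∃ n : ℕ, Nonempty (S ≃* DihedralGroup n)) ∨ Cfsg.IsQuasiDihedral S ∨ Nat.card S = 4 := by
  have : Fact (Nat.Prime 2) := ⟨Nat.prime_two⟩
  obtain ⟨n, hn⟩ := IsPGroup.iff_card.mp hS
  by_cases h4 : Nat.card S = 4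
  · right; right; exact h4
  have hx1 : x ≠ 1 := by
    rintro rfl
    rw [orderOf_one] at hx
    omega
  have hxx : x * x = 1 := by
    rw [← pow_two, ← hx]; exact pow_orderOf_eq_one x
  have hmemC : ∀ g, g ∈ Subgroup.centralizer ({x} : Set S) ↔ g * x = x * g := by
    intro g
    rw [Subgroup.mem_centralizer_iff]
    constructor
    · intro h; exact (h x rfl).symm
    · intro h y hy
      rw [Set.mem_singleton_iff] at hy
      subst hy
      exact h.symm
  have hdvd : 4 ∣ 2 ^ n := by
    rw [← hn, ← hC]; exact Subgroup.card_subgroup_dvd_card _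
  have hn3 : 3 ≤ n := by
    by_contra hlt
    rw [not_le] at hlt
    interval_cases n
    · omega
    · omega
    · exact h4 (by rw [hn]; norm_num)
  have hna : ∃ u v : S, u * v ≠ v * u := by
    by_contra hab
    push Not at hab
    apply h4
    have htop : Subgroup.centralizer ({x} : Set S) = ⊤ := by
      rw [eq_top_iff]
      intro g _
      rw [hmemC]
      exact hab g x
    rw [← hC, htop, Subgroup.card_top]
  have hnc : ¬ IsMulCommutative S := by
    intro h
    obtain ⟨u, v, huv⟩ := hna
    exact huv (h.is_comm.comm u v)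
  have hidx_gt : 2 < (commutator S).index :=
    Cfsg.Agent.Lib.Helper73.two_lt_index_of_forall_index_two_le hS hnc _
      (fun K hK => commutator_le_of_index_two K hK)
  have hidx_le : (commutator S).index ≤ 4 := by
    have h1 := Subgroup.card_eq_card_quotient_mul_card_subgroup
      (Subgroup.centralizer ({x} : Set S))
    have h2 := card_quotient_centralizer_le x
    have h3 := Subgroup.index_mul_card (commutator S)
    rw [hC] at h1
    have hpos : 0 < Nat.card (commutator S) := Nat.card_pos
    by_contra hcon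
    rw [not_le] at hcon
    nlinarith
  have hidx : (commutator S).index = 4 := by
    have hd : (commutator S).index ∣ 2 ^ n := hn ▸ Subgroup.index_dvd_card (commutator S)
    obtain ⟨k, -, hk⟩ := (Nat.dvd_prime_pow Nat.prime_two).mp hd
    rw [hk] at hidx_gt hidx_le ⊢
    have hk2 : k = 2 := by
      rcases k with _ | _ | _ | k
      · simp at hidx_gt
      · simp at hidx_gt
      · rfl
      · exfalso
        have : 2 ^ 3 ≤ 2 ^ (k + 1 + 1 + 1) := Nat.pow_le_pow_right (by norm_num) (by omega)
        omega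
    rw [hk2]; norm_num
  obtain ⟨a, ha⟩ :=
    Cfsg.Agent.Lib.Helper73.exists_orderOf_of_index_commutator_four n S hn hna hidx
  obtain ⟨m, rfl⟩ : ∃ m, n = m + 2 := ⟨n - 2, by omega⟩
  have hoa : orderOf a = 2 ^ (m + 1) := by
    have h1 : 2 * orderOf a = 2 * 2 ^ (m + 1) := by rw [ha]; ring
    omega
  have hm1 : 1 ≤ m := by omega
  have hcardA : Nat.card (Subgroup.zpowers a) = 2 ^ (m + 1) := by rw [Nat.card_zpowers, hoa]
  have hidxA : (Subgroup.zpowers a).index = 2 := by
    have h1 := Subgroup.index_mul_card (Subgroup.zpowers a)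
    rw [hcardA, hn] at h1
    have h2 : 2 ^ (m + 2) = 2 * 2 ^ (m + 1) := by ring
    rw [h2] at h1
    exact Nat.eq_of_mul_eq_mul_right (pow_pos (by norm_num) _) h1
  have hAn : (Subgroup.zpowers a).Normal := Subgroup.normal_of_index_eq_two hidxA
  have hAcomm : ∀ u ∈ Subgroup.zpowers a, ∀ v ∈ Subgroup.zpowers a, u * v = v * u := by
    intro u hu v hv
    obtain ⟨i, rfl⟩ := Subgroup.mem_zpowers_iff.mp hu
    obtain ⟨j, rfl⟩ := Subgroup.mem_zpowers_iff.mp hv
    exact ((Commute.refl a).zpow_zpow i j).eq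
  have hxA : x ∉ Subgroup.zpowers a := by
    intro hxA
    have hAC : Subgroup.zpowers a ≤ Subgroup.centralizer ({x} : Set S) :=
      fun u hu => (hmemC u).mpr (hAcomm u hu x hxA)
    have hle := Subgroup.card_le_of_le hAC
    rw [hcardA, hC] at hle
    have hm : m = 1 := by
      by_contra hne
      have h2 : 2 ^ 3 ≤ 2 ^ (m + 1) := Nat.pow_le_pow_right (by norm_num) (by omega)
      omega
    subst hm
    have hAeqC : Subgroup.zpowers a = Subgroup.centralizer ({x} : Set S) :=
      Subgroup.eq_of_le_of_card_ge hAC (by rw [hcardA, hC]; norm_num)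
    have hne : Subgroup.zpowers a ≠ ⊤ := by
      intro h
      rw [h, Subgroup.index_top] at hidxA
      omega
    obtain ⟨g, hg⟩ : ∃ g, g ∉ Subgroup.zpowers a := by
      by_contra h
      push Not at h
      exact hne (eq_top_iff.mpr fun g _ => h g)
    have h1 : x = a ^ 2 ^ 1 := eq_pow_of_sq_eq_one hoa hxA hxx hx1
    have hgx : g * x * g⁻¹ ∈ Subgroup.zpowers a := hAn.conj_mem x hxA g
    have h2 : g * x * g⁻¹ = a ^ 2 ^ 1 := by
      apply eq_pow_of_sq_eq_one hoa hgx
      · calc g * x * g⁻¹ * (g * x * g⁻¹) = g * (x * x) * g⁻¹ := by group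
          _ = 1 := by rw [hxx]; group
      · intro h
        apply hx1
        calc x = g⁻¹ * (g * x * g⁻¹) * g := by group
          _ = 1 := by rw [h]; group
    apply hg
    rw [hAeqC, hmemC]
    calc g * x = (g * x * g⁻¹) * g := by group
      _ = x * g := by rw [h2, ← h1]
  have hxa : x * a * x⁻¹ ∈ Subgroup.zpowers a := hAn.conj_mem a (Subgroup.mem_zpowers a) x
  have hcomm_a : a * (x * a * x⁻¹) = (x * a * x⁻¹) * a :=
    hAcomm a (Subgroup.mem_zpowers a) _ hxa
  have hbA : a * (x * a * x⁻¹) ∈ Subgroup.zpowers a :=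
    Subgroup.mul_mem _ (Subgroup.mem_zpowers a) hxa
  have hbC : a * (x * a * x⁻¹) ∈ Subgroup.centralizer ({x} : Set S) := by
    rw [hmemC]
    have h1 : x * (a * (x * a * x⁻¹)) * x⁻¹ = a * (x * a * x⁻¹) := by
      calc x * (a * (x * a * x⁻¹)) * x⁻¹ = (x * a * x⁻¹) * ((x * x) * a * (x * x)⁻¹) := by group
        _ = (x * a * x⁻¹) * a := by rw [hxx]; group
        _ = a * (x * a * x⁻¹) := hcomm_a.symm
    calc a * (x * a * x⁻¹) * x = (x * (a * (x * a * x⁻¹)) * x⁻¹) * x := by rw [h1]
      _ = x * (a * (x * a * x⁻¹)) := by group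
  have hDcard : Nat.card (Subgroup.zpowers a ⊓ Subgroup.centralizer ({x} : Set S) : Subgroup S) = 1 ∨
      Nat.card (Subgroup.zpowers a ⊓ Subgroup.centralizer ({x} : Set S) : Subgroup S) = 2 := by
    have hne : Subgroup.zpowers a ⊓ Subgroup.centralizer ({x} : Set S) ≠
        Subgroup.centralizer ({x} : Set S) := by
      intro h
      apply hxA
      have h1 : x ∈ Subgroup.zpowers a ⊓ Subgroup.centralizer ({x} : Set S) := by
        rw [h]; exact (hmemC x).mpr rfl
      exact h1.1
    have h1 := Subgroup.card_dvd_of_le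
      (inf_le_right : Subgroup.zpowers a ⊓ Subgroup.centralizer ({x} : Set S) ≤
        Subgroup.centralizer ({x} : Set S))
    rw [hC] at h1
    have h2 : Nat.card (Subgroup.zpowers a ⊓ Subgroup.centralizer ({x} : Set S) : Subgroup S) ≠ 4 := by
      intro h
      exact hne (Subgroup.eq_of_le_of_card_ge inf_le_right (by rw [h, hC]))
    have h3 : Nat.card (Subgroup.zpowers a ⊓ Subgroup.centralizer ({x} : Set S) : Subgroup S) ∈
        Nat.divisors 4 := Nat.mem_divisors.mpr ⟨h1, by norm_num⟩
    have h4' : Nat.divisors 4 = {1, 2, 4} := by decide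
    rw [h4'] at h3
    simp only [Finset.mem_insert, Finset.mem_singleton] at h3
    rcases h3 with h | h | h
    · left; exact h
    · right; exact h
    · exact absurd h h2
  by_cases hb1 : a * (x * a * x⁻¹) = 1
  · left
    have hc : x * a * x⁻¹ = a⁻¹ := (inv_eq_of_mul_eq_one_right hb1).symm
    have hgen := Cfsg.Agent.Lib.Helper73.zpowers_sup_zpowers_eq_top a x
      (by rw [hn, hoa]; ring) hxA
    obtain ⟨e⟩ := Cfsg.Agent.Lib.Helper73.dihedral_equiv a x (2 ^ (m + 1)) (by positivity)
      (by rw [← hoa]; exact pow_orderOf_eq_one a) (by rw [pow_two]; exact hxx) hc hgen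
      (by rw [hn]; ring)
    exact ⟨2 ^ (m + 1), ⟨e.symm⟩⟩
  · right; left
    have hbD : a * (x * a * x⁻¹) ∈
        Subgroup.zpowers a ⊓ Subgroup.centralizer ({x} : Set S) := ⟨hbA, hbC⟩
    have hbb : a * (x * a * x⁻¹) * (a * (x * a * x⁻¹)) = 1 := by
      have h1 : (⟨a * (x * a * x⁻¹), hbD⟩ :
          (Subgroup.zpowers a ⊓ Subgroup.centralizer ({x} : Set S) : Subgroup S)) ^
          Nat.card (Subgroup.zpowers a ⊓ Subgroup.centralizer ({x} : Set S) : Subgroup S) = 1 :=
        pow_card_eq_one'
      have h2 := congrArg Subtype.val h1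
      rw [Subgroup.coe_pow, Subgroup.coe_one] at h2
      rcases hDcard with h | h
      · rw [h, pow_one] at h2; exact absurd h2 hb1
      · rw [h, pow_two] at h2; exact h2
    have hbz : a * (x * a * x⁻¹) = a ^ 2 ^ m := eq_pow_of_sq_eq_one hoa hbA hbb hb1
    have hrel : x * a * x⁻¹ = a ^ (2 ^ m - 1) := by
      have h2 : a ^ 2 ^ m = a * a ^ (2 ^ m - 1) := by
        rw [← pow_succ']
        congr 1
        have : 1 ≤ 2 ^ m := Nat.one_le_two_pow
        omega
      exact mul_left_cancel (hbz.trans h2)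
    have hm2 : 2 ≤ m := by
      by_contra hlt
      have hm : m = 1 := by omega
      subst hm
      have h1 : x * a * x⁻¹ = a := by rw [hrel]; norm_num
      have haC : a ∈ Subgroup.centralizer ({x} : Set S) := by
        rw [hmemC]
        calc a * x = (x * a * x⁻¹) * x := by rw [h1]
          _ = x * a := by group
      have haD : a ∈ Subgroup.zpowers a ⊓ Subgroup.centralizer ({x} : Set S) :=
        ⟨Subgroup.mem_zpowers a, haC⟩
      have h2 := orderOf_dvd_natCard (⟨a, haD⟩ :
        (Subgroup.zpowers a ⊓ Subgroup.centralizer ({x} : Set S) : Subgroup S))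
      rw [Subgroup.orderOf_mk, hoa] at h2
      have h3 := Nat.le_of_dvd (by rcases hDcard with h | h <;> omega) h2
      rcases hDcard with h | h <;> rw [h] at h3 <;> norm_num at h3
    refine ⟨m + 1, by omega, by rw [hn], a, x, hoa, hx, ?_⟩
    rw [hrel, Nat.add_sub_cancel]

end Cfsg.Agent.S3224
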