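import Cfsg.Statements.S0111
-- import your own Cfsg.Agent.* helpers here

set_option autoImplicit false
open Cfsg

namespace Cfsg.Agent.S0111

/-- A fixed-point-free involution on a set of size `2k`, `k` odd, is an odd permutation. -/
theorem sign_fpf_involution {α : Type*} [Fintype α] [DecidableEq α] (σ : Equiv.Perm α)
    (h2 : orderOf σ = 2) (hfix : ∀ x, σ x ≠ x) (k : ℕ) (hk : Fintype.card α = 2 * k)
    (hodd : Odd k) : Equiv.Perm.sign σ = -1 := by
  obtain ⟨n, hn⟩ := Equiv.Perm.cycleType_prime_order (σ := σ) (by rw [h2]; exact Nat.prime_two)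
  rw [h2] at hn
  have hsupp : σ.support = Finset.univ := by
    ext x
    simp [Equiv.Perm.mem_support, hfix x]
  have hs : σ.cycleType.sum = Fintype.card α := by
    rw [Equiv.Perm.sum_cycleType, hsupp, Finset.card_univ]
  have hs2 : σ.cycleType.sum = (n + 1) * 2 := by
    rw [hn, Multiset.sum_replicate, smul_eq_mul]
  have hc : Multiset.card σ.cycleType = n + 1 := by
    rw [hn, Multiset.card_replicate]
  have hkn : n + 1 = k := by omega
  rw [Equiv.Perm.sign_of_cycleType, hs, hc, hk, hkn]
  have : (2 * k + k) = 2 * k + k := rfl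
  rw [pow_add, pow_mul]
  simp [hodd.neg_one_pow]

/-- The Thompson transfer lemma states that an involution of a Sylow 2-subgroup P lying outside a subgroup Q of index 2 in P either lies outside some normal subgroup of index 2 in G or is conjugate to an element of Q. -/
theorem result {G : Type*} [Group G] [Finite G] (P : Sylow 2 G) (Q : Subgroup G) (hQP : Q ≤ (P : Subgroup G)) (hQi : Q.relIndex (P : Subgroup G) = 2) (u : G) (hu : orderOf u = 2) (huP : u ∈ (P : Subgroup G)) (huQ : u ∉ Q) : (∃ M : Subgroup G, M.Normal ∧ M.index = 2 ∧ u ∉ M) ∨ ∃ g : G, g * u * g⁻¹ ∈ Q := by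
  classical
  have : Fintype (G ⧸ Q) := Fintype.ofFinite _
  let φ : G →* Equiv.Perm (G ⧸ Q) := MulAction.toPermHom G (G ⧸ Q)
  by_cases hfix : ∃ x : G ⧸ Q, u • x = x
  · right
    obtain ⟨x, hx⟩ := hfix
    induction x using QuotientGroup.induction_on with
    | H g =>
      rw [MulAction.Quotient.smul_mk, QuotientGroup.eq] at hx
      refine ⟨g⁻¹, ?_⟩
      have h1 := Q.inv_mem hx
      have h2 : ((u • g)⁻¹ * g)⁻¹ = g⁻¹ * u * g⁻¹⁻¹ := by
        rw [smul_eq_mul]; group
      rw [h2] at h1
      exact h1
  · left
    rw [not_exists] at hfix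
    have huu : u * u = 1 := by
      have := pow_orderOf_eq_one u
      rwa [hu, sq] at this
    have hσ2 : orderOf (φ u) = 2 := by
      refine orderOf_eq_prime ?_ ?_
      · rw [← map_pow, sq, huu, map_one]
      · intro h
        have := hfix (QuotientGroup.mk 1)
        apply this
        have h3 : (φ u) (QuotientGroup.mk 1) = (QuotientGroup.mk 1 : G ⧸ Q) := by rw [h]; rfl
        exact h3
    have hfix' : ∀ x, (φ u) x ≠ x := fun x => hfix x
    have hidx : Q.index = 2 * (P : Subgroup G).index := by
      rw [← Subgroup.relIndex_mul_index hQP, hQi]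
    have hcard : Fintype.card (G ⧸ Q) = 2 * (P : Subgroup G).index := by
      rw [← hidx, Subgroup.index_eq_card, Nat.card_eq_fintype_card]
    have : Fact (Nat.Prime 2) := ⟨Nat.prime_two⟩
    have hPodd : Odd (P : Subgroup G).index := by
      rw [← Nat.not_even_iff_odd, even_iff_two_dvd]
      exact P.not_dvd_index
    have hsign : Equiv.Perm.sign (φ u) = -1 :=
      sign_fpf_involution (φ u) hσ2 hfix' _ hcard hPodd
    let f : G →* ℤˣ := (Equiv.Perm.sign).comp φ
    refine ⟨f.ker, MonoidHom.normal_ker f, ?_, ?_⟩
    · rw [Subgroup.index_ker]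
      have hdvd : Nat.card f.range ∣ Nat.card ℤˣ := Subgroup.card_subgroup_dvd_card _
      have h2 : Nat.card ℤˣ = 2 := by
        rw [Nat.card_eq_fintype_card]; rfl
      rw [h2] at hdvd
      rcases (Nat.dvd_prime Nat.prime_two).mp hdvd with h1 | h1
      · exfalso
        have hbot : f.range = ⊥ := Subgroup.card_eq_one.mp h1
        have hmem : f u ∈ f.range := ⟨u, rfl⟩
        rw [hbot, Subgroup.mem_bot] at hmem
        have : f u = -1 := hsign
        rw [this] at hmem
        exact absurd hmem (by decide)
      · exact h1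
    · intro hmem
      rw [MonoidHom.mem_ker] at hmem
      have : f u = -1 := hsign
      rw [this] at hmem
      exact absurd hmem (by decide)

end Cfsg.Agent.S0111
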