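import Cfsg.Statements.S0948
import Cfsg.Agent.S0947
import Cfsg.Agent.Lib.Helper74.KleinCentral
import Cfsg.Agent.Lib.Helper74.SubgroupAvg
import Cfsg.Agent.Lib.Helper74.PrincipalSMT
import Cfsg.Agent.Lib.Helper74.PrincipalNonvanish
import Cfsg.Agent.Lib.Helper78.WBO
import Cfsg.Agent.Lib.Helper78.BlockSums
import Cfsg.Agent.Lib.Helper16.LocalRing

set_option autoImplicit false
open Cfsg

namespace Cfsg.Agent.S0948

open Cfsg.Agent.Lib.Helper74 Cfsg.Agent.Lib.Helper78 Cfsg.Agent.Lib.Helper16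
open scoped ComplexConjugate

theorem sum_eq_three {α : Type*} [DecidableEq α] (s : Finset α) (i j k : α) (hi : i ∈ s)
    (hj : j ∈ s.erase i) (hk : (s.erase i).erase j = {k}) (f : α → ℂ) :
    ∑ a ∈ s, f a = f i + f j + f k := by
  rw [← Finset.add_sum_erase s f hi, ← Finset.add_sum_erase (s.erase i) f hj, hk,
    Finset.sum_singleton, add_assoc]

/-- Let the finite group G have a Sylow 2-subgroup P that is a Klein four-group, suppose all involutions of G are conjugate, and fix a maximal ideal M of the algebraic integers containing 2. Then the principal block consists of exactly four irreducible characters, the principal character and ζ₂, ζ₃, ζ₄, and there is a sign ε such that for every involution z: ζ₂ z = 1, ζ₃ z = ε, ζ₄ z = -1; moreover ζ₂ 1 ≡ 1, ζ₃ 1 ≡ ε, ζ₄ 1 ≡ -1 (mod 4), and 1 + ζ₂ y + ε ζ₃ y - ζ₄ y = 0 for every y of odd order. -/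
theorem result {G : Type*} [Group G] [Finite G] (M : Ideal Cfsg.AlgInt) (hM : Cfsg.IsPModular 2 M) (P : Sylow 2 G) (hP : IsKleinFour (P : Subgroup G)) (hone : ∀ s t : G, orderOf s = 2 → orderOf t = 2 → IsConj s t) : ∃ ζ₂ ζ₃ ζ₄ : Cfsg.IrrCharacter G, ∃ ε : ℤ, (ε = 1 ∨ ε = -1) ∧ (ζ₂ : G → ℂ) ≠ (fun _ => 1) ∧ (ζ₃ : G → ℂ) ≠ (fun _ => 1) ∧ ζ₂ ≠ ζ₃ ∧ ζ₂ ≠ ζ₄ ∧ ζ₃ ≠ ζ₄ ∧ Cfsg.principalBlock M G = {χ : Cfsg.IrrCharacter G | (χ : G → ℂ) = (fun _ => 1) ∨ χ = ζ₂ ∨ χ = ζ₃ ∨ χ = ζ₄} ∧ (∀ z : G, orderOf z = 2 → (ζ₂ : G → ℂ) z = 1 ∧ (ζ₃ : G → ℂ) z = (ε : ℂ) ∧ (ζ₄ : G → ℂ) z = -1) ∧ (4 : ℤ) ∣ (Cfsg.charDegree (ζ₂ : G → ℂ) : ℤ) - 1 ∧ (4 : ℤ) ∣ (Cfsg.charDegree (ζ₃ : G → ℂ) : ℤ) - ε ∧ (4 : ℤ) ∣ (Cfsg.charDegree (ζ₄ : G → ℂ) : ℤ) + 1 ∧ ∀ y : G, Odd (orderOf y) → 1 + (ζ₂ : G → ℂ) y + (ε : ℂ) * (ζ₃ : G → ℂ) y - (ζ₄ : G → ℂ) y = 0 := by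
  classical
  have : Fintype G := Fintype.ofFinite G
  have hMp : M.IsPrime := hM.2.1.isPrime
  have hsqP : ∀ a ∈ (P : Subgroup G), a * a = 1 := by
    intro a ha
    have := IsKleinFour.mul_self (⟨a, ha⟩ : (P : Subgroup G))
    exact congrArg Subtype.val this
  have hordP : ∀ a ∈ (P : Subgroup G), a ≠ 1 → orderOf a = 2 := by
    intro a ha ha1
    exact orderOf_eq_prime (by rw [sq]; exact hsqP a ha) ha1
  -- an involution in `P`
  obtain ⟨z, hzP, hz1⟩ : ∃ z ∈ (P : Subgroup G), z ≠ 1 := by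
    have h4 : Nat.card (P : Subgroup G) = 4 := hP.card_four
    have hnt : Nontrivial (P : Subgroup G) := by
      have : Finite (P : Subgroup G) := inferInstance
      rw [← Finite.one_lt_card_iff_nontrivial, h4]
      norm_num
    obtain ⟨a, ha⟩ := exists_ne (1 : (P : Subgroup G))
    exact ⟨a, a.2, fun e => ha (Subtype.ext e)⟩
  have hz2 : orderOf z = 2 := hordP z hzP hz1
  have hHfin : Fintype (Subgroup.centralizer ({z} : Set G)) := Fintype.ofFinite _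
  obtain ⟨k, hk⟩ := exists_index_pPrimeCore_centralizer_of_klein P hP z hzP hz1
  have hfac := factorization_card_centralizer_of_klein P hP z hzP
  have hidx := odd_index_centralizer_of_klein P hP z hzP
  have h947 := (Cfsg.Agent.S0947.result 2 M hM z ⟨1, by rw [hz2, pow_one]⟩ hz1
    (1 : Subgroup.centralizer ({z} : Set G)) (by rw [orderOf_one]; norm_num)).2 ⟨k, hk⟩
  rw [hfac] at h947
  simp only [Subgroup.coe_one, mul_one] at h947
  -- integer values at `z`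
  have hint : ∀ ζ : IrrCharacter G, ∃ n : ℤ, (ζ : G → ℂ) z = n := fun ζ =>
    exists_int_apply_of_orderOf_two (IsIrrCharacter.isCharacter ζ.2) z hz2
  choose n hn using hint
  set F : Finset (IrrCharacter G) :=
    Finset.univ.filter (fun ζ : IrrCharacter G => ζ ∈ principalBlock M G) with hF
  have hmemF : ∀ ζ : IrrCharacter G, ζ ∈ F ↔ ζ ∈ principalBlock M G := by
    intro ζ
    rw [hF, Finset.mem_filter]
    simp
  have hsumF : ∑ ζ ∈ F, (n ζ) ^ 2 = 4 := by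
    rw [finsum_mem_eq_sum_filter_univ] at h947
    have h1 : ∀ ζ : IrrCharacter G, ‖(ζ : G → ℂ) z‖ ^ 2 = ((n ζ : ℤ) : ℝ) ^ 2 := by
      intro ζ
      rw [hn ζ, Complex.norm_intCast, sq_abs]
    simp_rw [h1] at h947
    have h2 : ((∑ ζ ∈ F, (n ζ) ^ 2 : ℤ) : ℝ) = ((4 : ℤ) : ℝ) := by
      push_cast
      rw [hF]
      convert h947 using 1
      norm_num
    exact_mod_cast h2
  -- the principal character
  set χ₁ : IrrCharacter G := ⟨fun _ => 1, isIrrCharacter_one⟩ with hχ₁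
  have hχ₁F : χ₁ ∈ F := (hmemF χ₁).mpr (one_mem_principalBlock hM G)
  have hn1 : n χ₁ = 1 := by
    have := hn χ₁
    have h1 : ((1 : ℤ) : ℂ) = (n χ₁ : ℂ) := by
      rw [← this]
      simp [hχ₁]
    exact_mod_cast h1.symm
  have hn0 : ∀ ζ ∈ F, n ζ ≠ 0 := by
    intro ζ hζ h0
    have := apply_ne_zero_of_mem_principalBlock hM ζ ((hmemF ζ).mp hζ) z hidx
    apply this
    rw [hn ζ, h0, Int.cast_zero]
  set F' : Finset (IrrCharacter G) := F.erase χ₁ with hF'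
  have hsumF' : ∑ ζ ∈ F', (n ζ) ^ 2 = 3 := by
    have := Finset.add_sum_erase F (fun ζ => (n ζ) ^ 2) hχ₁F
    simp only [hn1] at this
    rw [hsumF] at this
    linarith
  have hF'F : ∀ ζ ∈ F', ζ ∈ F := fun ζ hζ => Finset.mem_of_mem_erase hζ
  have hsq : ∀ ζ ∈ F', (n ζ) ^ 2 = 1 := by
    intro ζ hζ
    have h1 : (n ζ) ^ 2 ≤ 3 := by
      rw [← hsumF']
      exact Finset.single_le_sum (f := fun ζ => (n ζ) ^ 2) (fun _ _ => sq_nonneg _) hζ
    have h0 := hn0 ζ (hF'F ζ hζ)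
    have h2 : -2 < n ζ := by nlinarith
    have h3 : n ζ < 2 := by nlinarith
    generalize n ζ = m at *
    interval_cases m <;> simp_all
  have hpm : ∀ ζ ∈ F', n ζ = 1 ∨ n ζ = -1 := by
    intro ζ hζ
    have h1 : (n ζ - 1) * (n ζ + 1) = 0 := by nlinarith [hsq ζ hζ]
    rcases mul_eq_zero.mp h1 with h | h
    · left; omega
    · right; omega
  have hcard : F'.card = 3 := by
    have h1 : ∑ ζ ∈ F', (n ζ) ^ 2 = ∑ _ζ ∈ F', (1 : ℤ) := Finset.sum_congr rfl hsq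
    rw [hsumF', Finset.sum_const, nsmul_eq_mul, mul_one] at h1
    exact_mod_cast h1.symm
  -- degrees
  have hd : ∀ ζ : IrrCharacter G, (ζ : G → ℂ) 1 = (charDegree (ζ : G → ℂ) : ℂ) := fun ζ =>
    IsCharacter.apply_one_eq_charDegree (IsIrrCharacter.isCharacter ζ.2)
  have hdpos : ∀ ζ : IrrCharacter G, 0 < charDegree (ζ : G → ℂ) := fun ζ =>
    IsIrrCharacter.charDegree_pos ζ.2
  have hconjP : ∀ a ∈ (P : Subgroup G), a ≠ 1 → IsConj z a := fun a ha ha1 =>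
    hone z a hz2 (hordP a ha ha1)
  have hdeg : ∀ ζ : IrrCharacter G, (4 : ℤ) ∣ (charDegree (ζ : G → ℂ) : ℤ) - n ζ := fun ζ =>
    four_dvd_degree_sub_of_card_four (IsIrrCharacter.isCharacter ζ.2) (P : Subgroup G)
      hP.card_four z (n ζ) (hn ζ) hconjP
  -- the relation on elements of odd order
  have hrel : ∀ y : G, Odd (orderOf y) →
      1 + ∑ ζ ∈ F', (n ζ : ℂ) * (ζ : G → ℂ) y = 0 := by
    intro y hy
    have hy2 : ¬ 2 ∣ orderOf y := by
      intro h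
      exact (Nat.not_even_iff_odd.mpr hy) (even_iff_two_dvd.mpr h)
    have hz2' : 2 ∣ orderOf z := by rw [hz2]
    have h1 := weak_block_orthogonality_sum hM (isPBlock_principalBlock G M) y z hy2 hz2'
    have h2 := congrArg conj h1
    rw [map_sum, map_zero] at h2
    have h3 : ∀ ζ : IrrCharacter G, conj ((ζ : G → ℂ) z * conj ((ζ : G → ℂ) y)) =
        (n ζ : ℂ) * (ζ : G → ℂ) y := by
      intro ζ
      rw [map_mul, Complex.conj_conj, hn ζ, map_intCast]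
    simp_rw [h3] at h2
    have h2' : ∑ ζ ∈ F, (n ζ : ℂ) * (ζ : G → ℂ) y = 0 := h2
    have h4 := Finset.add_sum_erase F (fun ζ => (n ζ : ℂ) * (ζ : G → ℂ) y) hχ₁F
    have hχ₁y : (χ₁ : G → ℂ) y = 1 := rfl
    simp only [hn1] at h4
    rw [hχ₁y, Int.cast_one, one_mul] at h4
    rw [← h2', ← h4]
  have hrel1 : 1 + ∑ ζ ∈ F', n ζ * (charDegree (ζ : G → ℂ) : ℤ) = 0 := by
    have h1 := hrel 1 (by rw [orderOf_one]; exact odd_one)
    simp_rw [hd] at h1
    exact_mod_cast h1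
  have hdsum : (3 : ℤ) ≤ ∑ ζ ∈ F', (charDegree (ζ : G → ℂ) : ℤ) := by
    have h1 : ∑ _ζ ∈ F', (1 : ℤ) ≤ ∑ ζ ∈ F', (charDegree (ζ : G → ℂ) : ℤ) := by
      apply Finset.sum_le_sum
      intro ζ _
      have := hdpos ζ
      omega
    rw [Finset.sum_const, nsmul_eq_mul, mul_one, hcard] at h1
    exact_mod_cast h1
  obtain ⟨i, hiF', hni⟩ : ∃ i ∈ F', n i = 1 := by
    by_contra hcon
    have hall : ∀ ζ ∈ F', n ζ = -1 := fun ζ hζ =>
      (hpm ζ hζ).resolve_left (fun h => hcon ⟨ζ, hζ, h⟩)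
    have h1 : ∑ ζ ∈ F', n ζ * (charDegree (ζ : G → ℂ) : ℤ) =
        - ∑ ζ ∈ F', (charDegree (ζ : G → ℂ) : ℤ) := by
      rw [← Finset.sum_neg_distrib]
      apply Finset.sum_congr rfl
      intro ζ hζ
      rw [hall ζ hζ]
      ring
    rw [h1] at hrel1
    linarith
  obtain ⟨j, hjF', hnj⟩ : ∃ j ∈ F', n j = -1 := by
    by_contra hcon
    have hall : ∀ ζ ∈ F', n ζ = 1 := fun ζ hζ =>
      (hpm ζ hζ).resolve_right (fun h => hcon ⟨ζ, hζ, h⟩)
    have h1 : ∑ ζ ∈ F', n ζ * (charDegree (ζ : G → ℂ) : ℤ) =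
        ∑ ζ ∈ F', (charDegree (ζ : G → ℂ) : ℤ) := by
      apply Finset.sum_congr rfl
      intro ζ hζ
      rw [hall ζ hζ]
      ring
    rw [h1] at hrel1
    linarith
  have hji : j ≠ i := by
    rintro rfl
    rw [hni] at hnj
    norm_num at hnj
  have hjmem : j ∈ F'.erase i := Finset.mem_erase.mpr ⟨hji, hjF'⟩
  have hcard1 : ((F'.erase i).erase j).card = 1 := by
    rw [Finset.card_erase_of_mem hjmem, Finset.card_erase_of_mem hiF', hcard]
  obtain ⟨k₃, hk₃⟩ := Finset.card_eq_one.mp hcard1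
  have hk₃mem : k₃ ∈ (F'.erase i).erase j := by rw [hk₃]; exact Finset.mem_singleton_self _
  have hk₃j : k₃ ≠ j := (Finset.mem_erase.mp hk₃mem).1
  have hk₃i : k₃ ≠ i := (Finset.mem_erase.mp (Finset.mem_erase.mp hk₃mem).2).1
  have hk₃F' : k₃ ∈ F' := (Finset.mem_erase.mp (Finset.mem_erase.mp hk₃mem).2).2
  have hne1 : ∀ ζ ∈ F', (ζ : G → ℂ) ≠ (fun _ => 1) := by
    intro ζ hζ h
    exact (Finset.mem_erase.mp hζ).1 (Subtype.ext h)
  have hval : ∀ ζ : IrrCharacter G, ∀ t : G, orderOf t = 2 → (ζ : G → ℂ) t = (n ζ : ℂ) := by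
    intro ζ t ht
    obtain ⟨c, hc⟩ := isConj_iff.mp (hone z t hz2 ht)
    rw [← hc, IsCharacter.conj_apply (IsIrrCharacter.isCharacter ζ.2), hn ζ]
  refine ⟨i, k₃, j, n k₃, hpm k₃ hk₃F', hne1 i hiF', hne1 k₃ hk₃F', hk₃i.symm, hji.symm, hk₃j,
    ?_, ?_, ?_, ?_, ?_, ?_⟩
  · -- the principal block
    ext χ
    rw [← hmemF χ]
    simp only [Set.mem_ofPred_eq]
    constructor
    · intro hχ
      by_cases h1 : χ = χ₁
      · left
        rw [h1]
      · right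
        have hχF' : χ ∈ F' := Finset.mem_erase.mpr ⟨h1, hχ⟩
        by_cases h2 : χ = i
        · left; exact h2
        · by_cases h3 : χ = j
          · right; right; exact h3
          · right; left
            have : χ ∈ (F'.erase i).erase j :=
              Finset.mem_erase.mpr ⟨h3, Finset.mem_erase.mpr ⟨h2, hχF'⟩⟩
            rw [hk₃] at this
            exact Finset.mem_singleton.mp this
    · rintro (h | h | h | h)
      · have : χ = χ₁ := Subtype.ext h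
        rw [this]
        exact hχ₁F
      · rw [h]; exact hF'F i hiF'
      · rw [h]; exact hF'F k₃ hk₃F'
      · rw [h]; exact hF'F j hjF'
  · intro t ht
    refine ⟨?_, ?_, ?_⟩
    · rw [hval i t ht, hni, Int.cast_one]
    · rw [hval k₃ t ht]
    · rw [hval j t ht, hnj]
      simp
  · have := hdeg i
    rwa [hni] at this
  · exact hdeg k₃
  · have := hdeg j
    rw [hnj] at this
    simpa using this
  · intro y hy
    have h1 := hrel y hy
    rw [sum_eq_three F' i j k₃ hiF' hjmem hk₃ (fun ζ => (n ζ : ℂ) * (ζ : G → ℂ) y), hni, hnj]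
      at h1
    rw [← h1]
    push_cast
    ring

end Cfsg.Agent.S0948
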