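import Cfsg.Statements.S0946
import Cfsg.Agent.Lib.Helper55.HomocyclicSylow

set_option autoImplicit false
open Cfsg

namespace Cfsg.Agent.S0946

open Cfsg.Agent.Lib.Helper55 Subgroup

/-- Let P be a Sylow 2-subgroup of the finite group G isomorphic to Z/2^m × Z/2^m with m ≥ 1. Then either P has a normal complement in G, or all involutions of G are conjugate. -/
theorem result {G : Type*} [Group G] [Finite G] (P : Sylow 2 G) (m : ℕ) (hm : 1 ≤ m) (e : (P : Subgroup G) ≃* Multiplicative (ZMod (2 ^ m) × ZMod (2 ^ m))) : (∃ N : Subgroup G, N.Normal ∧ Subgroup.IsComplement' N (P : Subgroup G)) ∨ ∀ s t : G, orderOf s = 2 → orderOf t = 2 → IsConj s t := by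
  classical
  obtain ⟨m, rfl⟩ : ∃ m', m = m' + 1 := ⟨m - 1, by omega⟩
  have hfact : Fact (Nat.Prime 2) := ⟨Nat.prime_two⟩
  have hcomm := comm_of_mulEquiv (P : Subgroup G) e
  obtain ⟨t₁, t₂, h₁P, h₂P, h₁2, h₂2, h₁1, h₂1, h12, hdesc⟩ :=
    homocyclic_involutions (P : Subgroup G) m e
  have hM : ∀ t ∈ (P : Subgroup G), t ^ 2 = 1 → t ≠ 1 → ∀ n ∈ normalizer ((P : Subgroup G) : Set G),
      n * t * n⁻¹ = t → n ∈ centralizer ((P : Subgroup G) : Set G) :=
    fun t htP ht2 ht1 n hn hnt => mem_centralizer_of_fix_involution P m e t htP ht2 ht1 n hn hnt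
  by_cases hNC : normalizer ((P : Subgroup G) : Set G) ≤ centralizer ((P : Subgroup G) : Set G)
  · -- Burnside
    left
    exact ⟨_, inferInstance, MonoidHom.ker_transferSylow_isComplement' P hNC⟩
  · right
    obtain ⟨n, hnN, hnC⟩ := SetLike.not_le_iff_exists.mp hNC
    have hn' : ∀ x ∈ (P : Subgroup G), n * x * n⁻¹ ∈ (P : Subgroup G) := by
      intro x hx
      exact (mem_normalizer_iff.mp hnN x).mp hx
    -- the conjugation by n on involutions of P
    have hcases : ∀ t ∈ (P : Subgroup G), t ^ 2 = 1 → t ≠ 1 →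
        (n * t * n⁻¹ = t₁ ∨ n * t * n⁻¹ = t₂ ∨ n * t * n⁻¹ = t₁ * t₂) ∧ n * t * n⁻¹ ≠ t := by
      intro t htP ht2 ht1
      refine ⟨?_, fun h => hnC (hM t htP ht2 ht1 n hnN h)⟩
      have hsq : (n * t * n⁻¹) ^ 2 = 1 := by rw [conj_pow, ht2]; group
      have hne : n * t * n⁻¹ ≠ 1 := fun h => ht1 (conj_eq_one_iff.mp h)
      rcases hdesc _ (hn' t htP) hsq with h | h | h | h
      · exact absurd h hne
      · exact Or.inl h
      · exact Or.inr (Or.inl h)
      · exact Or.inr (Or.inr h)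
    have h3P : t₁ * t₂ ∈ (P : Subgroup G) := mul_mem h₁P h₂P
    have h21 : t₂ * t₁ = t₁ * t₂ := hcomm t₂ h₂P t₁ h₁P
    have h32 : (t₁ * t₂) ^ 2 = 1 := by
      have hc : Commute t₁ t₂ := h21.symm
      rw [hc.mul_pow, h₁2, h₂2, one_mul]
    have h31 : t₁ * t₂ ≠ 1 := by
      intro h
      apply h12
      have : t₁ * t₂ = t₂ * t₂ := by rw [h, ← pow_two, h₂2]
      exact mul_right_cancel this
    have h3ne1 : t₁ * t₂ ≠ t₁ := by
      intro h
      apply h₂1
      have : t₁ * t₂ = t₁ * 1 := by rw [h, mul_one]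
      exact mul_left_cancel this
    have h3ne2 : t₁ * t₂ ≠ t₂ := by
      intro h
      apply h₁1
      have : t₁ * t₂ = 1 * t₂ := by rw [h, one_mul]
      exact mul_right_cancel this
    have hc1 := hcases t₁ h₁P h₁2 h₁1
    have hc2 := hcases t₂ h₂P h₂2 h₂1
    have hc3 := hcases (t₁ * t₂) h3P h32 h31
    have hmul : n * (t₁ * t₂) * n⁻¹ = (n * t₁ * n⁻¹) * (n * t₂ * n⁻¹) := by group
    have hinj : n * t₁ * n⁻¹ ≠ n * t₂ * n⁻¹ := by
      intro h
      exact h12 (mul_left_cancel (mul_right_cancel h))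
    -- all involutions of P are conjugate to t₁
    have hconj : IsConj t₁ t₂ ∧ IsConj t₁ (t₁ * t₂) := by
      rcases hc1.1 with h | h | h
      · exact absurd h hc1.2
      · -- n t₁ n⁻¹ = t₂
        rcases hc2.1 with h' | h' | h'
        · exfalso
          apply hc3.2
          rw [hmul, h, h', h21]
        · exact absurd h' hc2.2
        · refine ⟨isConj_iff.mpr ⟨n, h⟩, ?_⟩
          exact (isConj_iff.mpr ⟨n, h⟩).trans (isConj_iff.mpr ⟨n, h'⟩)
      · -- n t₁ n⁻¹ = t₁ t₂
        rcases hc2.1 with h' | h' | h'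
        · refine ⟨(isConj_iff.mpr ⟨n, h'⟩).symm, isConj_iff.mpr ⟨n, h⟩⟩
        · exact absurd h' hc2.2
        · exfalso
          apply hinj
          rw [h, h']
    -- every involution is conjugate to t₁
    have hall : ∀ s : G, orderOf s = 2 → IsConj s t₁ := by
      intro s hs
      have hs2 : s ^ 2 = 1 := by rw [← hs]; exact pow_orderOf_eq_one s
      have hs1 : s ≠ 1 := by
        intro h; rw [h, orderOf_one] at hs; omega
      have hpg : IsPGroup 2 (Subgroup.zpowers s) := by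
        apply IsPGroup.of_card (n := 1)
        rw [Nat.card_zpowers, hs, pow_one]
      obtain ⟨Q, hQ⟩ := hpg.exists_le_sylow
      obtain ⟨g, hg⟩ := MulAction.exists_smul_eq G Q P
      have h1 : g * s * g⁻¹ ∈ ((g • Q : Sylow 2 G) : Subgroup G) := by
        rw [Sylow.coe_subgroup_smul]
        exact ⟨s, hQ (Subgroup.mem_zpowers s), rfl⟩
      rw [hg] at h1
      have hsq : (g * s * g⁻¹) ^ 2 = 1 := by rw [conj_pow, hs2]; group
      have hne : g * s * g⁻¹ ≠ 1 := fun h => hs1 (conj_eq_one_iff.mp h)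
      have hsc : IsConj s (g * s * g⁻¹) := isConj_iff.mpr ⟨g, rfl⟩
      rcases hdesc _ h1 hsq with h | h | h | h
      · exact absurd h hne
      · rw [h] at hsc; exact hsc
      · rw [h] at hsc; exact hsc.trans hconj.1.symm
      · rw [h] at hsc; exact hsc.trans hconj.2.symm
    intro s t hs ht
    exact (hall s hs).trans (hall t ht).symm

end Cfsg.Agent.S0946
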