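import Cfsg.Statements.S4479
-- import your own Cfsg.Agent.* helpers here

import Mathlib
import Cfsg.Agent.S0925
import Cfsg.Agent.Lib.Helper74.InvolCols
import Cfsg.Agent.Lib.Helper74.KleinCount
import Cfsg.Agent.Lib.Helper74.KleinNoComplement
import Cfsg.Agent.Lib.Helper74.OrderFormulaB
import Cfsg.Agent.Lib.Helper74.PrincipalSMT
import Cfsg.Agent.Lib.Helper78.BlockSums

set_option autoImplicit false
open Cfsg

namespace Cfsg.Agent.S4479

open Cfsg.Agent.Lib.Helper74 Cfsg.Agent.Lib.Helper78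
open scoped ComplexConjugate

/-- An order formula from the principal 2-block. Let G be a finite group of order 4·g₀ with g₀ odd having no normal 2-complement (no normal subgroup of order g₀); let P be a Sylow 2-subgroup, J an involution of P, and fix a maximal ideal M of the algebraic integers containing 2. Suppose the principal 2-block consists of the principal character and three further distinct characters χ₁, χ₂, χ₃ of degrees x₁, x₂, x₃, with χ_i(J) = ε_i = ±1. Then, writing c(J) and c(P) for the orders of the centralizers of J and of P, the order of G equals 8·α·c(J)³/c(P)² with α = x₁x₂x₃ / ((x₁ + ε₁)(x₂ + ε₂)(x₃ + ε₃)). -/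
theorem result {G : Type*} [Group G] [Finite G] (M : Ideal Cfsg.AlgInt) (hM : Cfsg.IsPModular 2 M) (g₀ : ℕ) (hg₀ : Odd g₀) (hG : Nat.card G = 4 * g₀) (hnc : ¬ ∃ N : Subgroup G, N.Normal ∧ Nat.card N = g₀) (P : Sylow 2 G) (J : G) (hJ : J ∈ (P : Subgroup G)) (hJ2 : orderOf J = 2) (χ₁ χ₂ χ₃ : Cfsg.IrrCharacter G) (ε₁ ε₂ ε₃ : ℤ) (hB : Cfsg.principalBlock M G = {χ : Cfsg.IrrCharacter G | (χ : G → ℂ) = (fun _ => 1) ∨ χ = χ₁ ∨ χ = χ₂ ∨ χ = χ₃}) (hdist : (χ₁ : G → ℂ) ≠ (fun _ => 1) ∧ (χ₂ : G → ℂ) ≠ (fun _ => 1) ∧ (χ₃ : G → ℂ) ≠ (fun _ => 1) ∧ χ₁ ≠ χ₂ ∧ χ₁ ≠ χ₃ ∧ χ₂ ≠ χ₃) (hε : (ε₁ = 1 ∨ ε₁ = -1) ∧ (ε₂ = 1 ∨ ε₂ = -1) ∧ (ε₃ = 1 ∨ ε₃ = -1)) (hval : (χ₁ : G → ℂ) J = ε₁ ∧ (χ₂ : G → ℂ) J = ε₂ ∧ (χ₃ : G → ℂ) J = ε₃) : (Nat.card G : ℚ) = 8 * (((Cfsg.charDegree (χ₁ : G → ℂ) : ℚ) * Cfsg.charDegree (χ₂ : G → ℂ) * Cfsg.charDegree (χ₃ : G → ℂ)) / ((Cfsg.charDegree (χ₁ : G → ℂ) + ε₁) * (Cfsg.charDegree (χ₂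 : G → ℂ) + ε₂) * (Cfsg.charDegree (χ₃ : G → ℂ) + ε₃))) * (Nat.card (Subgroup.centralizer ({J} : Set G)) : ℚ) ^ 3 / (Nat.card (Subgroup.centralizer ((P : Subgroup G) : Set G)) : ℚ) ^ 2 := by
  classical
  have : Fact (Nat.Prime 2) := ⟨Nat.prime_two⟩
  have : Fintype G := Fintype.ofFinite G
  have hMp : M.IsPrime := hM.2.1.isPrime
  obtain ⟨hPK, hone⟩ := isKleinFour_and_one_class_of_no_complement g₀ hg₀ hG hnc P
  obtain ⟨hJJ, hJ1⟩ := mul_self_of_orderOf_two hJ2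
  have hJinv : J⁻¹ = J := inv_eq_of_mul_eq_one_left hJJ
  have hJ2' : ∃ k : ℕ, orderOf J = 2 ^ k := ⟨1, by rw [hJ2, pow_one]⟩
  have hB0 : IsPBlock M (principalBlock M G) := isPBlock_principalBlock G M
  obtain ⟨hε₁, hε₂, hε₃⟩ := hε
  obtain ⟨hv₁, hv₂, hv₃⟩ := hval
  obtain ⟨hd₁, hd₂, hd₃, hd₁₂, hd₁₃, hd₂₃⟩ := hdist
  -- local structure
  have : Fintype (Subgroup.centralizer ({J} : Set G)) := Fintype.ofFinite _
  have : Fintype (pPrimeCore 2 (Subgroup.centralizer ({J} : Set G))) := Fintype.ofFinite _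
  have hk := exists_index_pPrimeCore_centralizer_of_klein P hPK J hJ hJ1
  have hfac := factorization_card_centralizer_of_klein P hPK J hJ
  have hcardH : Nat.card (Subgroup.centralizer ({J} : Set G)) =
      Nat.card (pPrimeCore 2 (Subgroup.centralizer ({J} : Set G))) * 4 := by
    obtain ⟨k, hk⟩ := hk
    have := card_eq_card_pPrimeCore_mul (X := Subgroup.centralizer ({J} : Set G)) hk
    rw [hfac] at this
    exact this
  -- the class function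
  have hΨ : IsClassFunction G (conjProdCount J J) := isClassFunction_conjProdCount J J
  have h1reg : ¬ 2 ∣ orderOf (1 : Subgroup.centralizer ({J} : Set G)) := by
    rw [orderOf_one]; norm_num
  have hBtw := principal_blockPart_twist_classFunction hM J hJ2' hΨ
    (1 : Subgroup.centralizer ({J} : Set G)) h1reg
  have hloc := principal_blockPart_one_of_index (H := Subgroup.centralizer ({J} : Set G)) hM hk
    (fun c => conjProdCount J J (J * (c : G)))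
  have hT := sum_conjProdCount_klein P hPK J hJ hJ2 hone
  rw [finsum_eq_sum_of_fintype] at hT
  rw [hloc] at hBtw
  -- the principal block as a finset
  set χ₀ : IrrCharacter G := ⟨fun _ => 1, isIrrCharacter_one⟩ with hχ₀
  have h01 : χ₀ ≠ χ₁ := fun h => hd₁ (by rw [← h])
  have h02 : χ₀ ≠ χ₂ := fun h => hd₂ (by rw [← h])
  have h03 : χ₀ ≠ χ₃ := fun h => hd₃ (by rw [← h])
  have hs : Finset.univ.filter (fun χ : IrrCharacter G => χ ∈ principalBlock M G) =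
      {χ₀, χ₁, χ₂, χ₃} := by
    ext χ
    simp only [Finset.mem_filter, Finset.mem_univ, true_and, Finset.mem_insert,
      Finset.mem_singleton]
    rw [hB]
    simp only [Set.mem_ofPred_eq]
    constructor
    · rintro (h | h | h | h)
      · left; exact Subtype.ext h
      · right; left; exact h
      · right; right; left; exact h
      · right; right; right; exact h
    · rintro (h | h | h | h)
      · left; rw [h]
      · right; left; exact h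
      · right; right; left; exact h
      · right; right; right; exact h
  have hsum4 : ∀ f : IrrCharacter G → ℂ,
      ∑ χ ∈ Finset.univ.filter (fun χ : IrrCharacter G => χ ∈ principalBlock M G), f χ =
        f χ₀ + (f χ₁ + (f χ₂ + f χ₃)) := by
    intro f
    rw [hs, Finset.sum_insert, Finset.sum_insert, Finset.sum_insert, Finset.sum_singleton]
    · simp only [Finset.mem_singleton]; exact hd₂₃
    · simp only [Finset.mem_insert, Finset.mem_singleton, not_or]; exact ⟨hd₁₂, hd₁₃⟩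
    · simp only [Finset.mem_insert, Finset.mem_singleton, not_or]; exact ⟨h01, h02, h03⟩
  -- degrees
  have hdeg : ∀ χ : IrrCharacter G, (χ : G → ℂ) 1 = (charDegree (χ : G → ℂ) : ℂ) :=
    fun χ => IsCharacter.apply_one_eq_charDegree (IsIrrCharacter.isCharacter χ.2)
  have hdpos : ∀ χ : IrrCharacter G, (charDegree (χ : G → ℂ) : ℂ) ≠ 0 := by
    intro χ
    have := IsIrrCharacter.charDegree_pos χ.2
    exact_mod_cast this.ne'
  have hdeg0 : charDegree (χ₀ : G → ℂ) = 1 := by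
    have := hdeg χ₀
    have h1 : (χ₀ : G → ℂ) 1 = 1 := rfl
    rw [h1] at this
    exact_mod_cast this.symm
  -- the relation `1 + ∑ εᵢ xᵢ = 0`
  have hrel : (1 : ℂ) + ((ε₁ : ℂ) * (charDegree (χ₁ : G → ℂ) : ℂ) +
      ((ε₂ : ℂ) * (charDegree (χ₂ : G → ℂ) : ℂ) + (ε₃ : ℂ) * (charDegree (χ₃ : G → ℂ) : ℂ))) = 0 := by
    have h := (Cfsg.Agent.S0925.result (G := G) 2 M hM).2 J 1 J 1
      (isPPart_self one_lt_two hJ2')
      (isPPart_self one_lt_two ⟨0, by rw [orderOf_one, pow_zero]⟩)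
      (fun hc => hJ1 (isConj_one_left.mp hc)) (principalBlock M G) hB0
    rw [finsum_mem_eq_sum_filter_univ, hsum4] at h
    rw [inv_one, hdeg χ₀, hdeg χ₁, hdeg χ₂, hdeg χ₃, hdeg0, hv₁, hv₂, hv₃] at h
    simpa using h
  -- squares of the signs
  have hsq : ∀ ε : ℤ, (ε = 1 ∨ ε = -1) → ((ε : ℂ)) * (ε : ℂ) = 1 := by
    intro ε h
    rcases h with h | h <;> rw [h] <;> norm_num
  -- the inner products
  have hin0 : classInner (conjProdCount J J) (χ₀ : G → ℂ) * (χ₀ : G → ℂ) (J * 1) =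
      (Nat.card G : ℂ) := by
    rw [classInner_conjProdCount_irr]
    have h1 : ∀ g : G, (χ₀ : G → ℂ) g = 1 := fun _ => rfl
    simp [h1]
  have hin : ∀ (χ : IrrCharacter G) (ε : ℤ), (ε = 1 ∨ ε = -1) → (χ : G → ℂ) J = (ε : ℂ) →
      classInner (conjProdCount J J) (χ : G → ℂ) * (χ : G → ℂ) (J * 1) =
        (Nat.card G : ℂ) * ((ε : ℂ) / (charDegree (χ : G → ℂ) : ℂ)) := by
    intro χ ε hε hv
    rw [classInner_conjProdCount_irr, mul_one, hv, hdeg χ, map_div₀, map_mul, map_intCast,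
      Complex.conj_natCast, hsq ε hε]
    ring
  -- main identity
  have hmain : (Nat.card G : ℂ) * (1 + ((ε₁ : ℂ) / (charDegree (χ₁ : G → ℂ) : ℂ) +
      ((ε₂ : ℂ) / (charDegree (χ₂ : G → ℂ) : ℂ) + (ε₃ : ℂ) / (charDegree (χ₃ : G → ℂ) : ℂ)))) *
      (Nat.card (pPrimeCore 2 (Subgroup.centralizer ({J} : Set G))) : ℂ) =
      ∑ c : pPrimeCore 2 (Subgroup.centralizer ({J} : Set G)),
        conjProdCount J J (J * ((c : Subgroup.centralizer ({J} : Set G)) : G)) := by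
    have hKne : (Nat.card (pPrimeCore 2 (Subgroup.centralizer ({J} : Set G))) : ℂ) ≠ 0 := by
      exact_mod_cast (Nat.card_pos (α := pPrimeCore 2 (Subgroup.centralizer ({J} : Set G)))).ne'
    rw [hsum4] at hBtw
    simp only [Subgroup.coe_one] at hBtw
    rw [hin0, hin χ₁ ε₁ hε₁ hv₁, hin χ₂ ε₂ hε₂ hv₂, hin χ₃ ε₃ hε₃ hv₃] at hBtw
    have : (Nat.card G : ℂ) * (1 + ((ε₁ : ℂ) / (charDegree (χ₁ : G → ℂ) : ℂ) +
        ((ε₂ : ℂ) / (charDegree (χ₂ : G → ℂ) : ℂ) + (ε₃ : ℂ) / (charDegree (χ₃ : G → ℂ) : ℂ)))) =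
        (Nat.card (pPrimeCore 2 (Subgroup.centralizer ({J} : Set G))) : ℂ)⁻¹ *
          ∑ c : pPrimeCore 2 (Subgroup.centralizer ({J} : Set G)),
            conjProdCount J J (J * ((c : Subgroup.centralizer ({J} : Set G)) : G)) := by
      rw [hBtw]; ring
    rw [this]
    field_simp
  -- algebra
  have hKne : (Nat.card (pPrimeCore 2 (Subgroup.centralizer ({J} : Set G))) : ℂ) ≠ 0 := by
    exact_mod_cast (Nat.card_pos (α := pPrimeCore 2 (Subgroup.centralizer ({J} : Set G)))).ne'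
  have hcardHC : (Nat.card (Subgroup.centralizer ({J} : Set G)) : ℂ) =
      (Nat.card (pPrimeCore 2 (Subgroup.centralizer ({J} : Set G))) : ℂ) * 4 := by
    exact_mod_cast hcardH
  have hx₁ := hdpos χ₁
  have hx₂ := hdpos χ₂
  have hx₃ := hdpos χ₃
  have hs₁ := hsq ε₁ hε₁
  have hs₂ := hsq ε₂ hε₂
  have hs₃ := hsq ε₃ hε₃
  have h1 : (Nat.card G : ℂ) * (1 + ((ε₁ : ℂ) / (charDegree (χ₁ : G → ℂ) : ℂ) +
      ((ε₂ : ℂ) / (charDegree (χ₂ : G → ℂ) : ℂ) + (ε₃ : ℂ) / (charDegree (χ₃ : G → ℂ) : ℂ)))) *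
      (Nat.card (Subgroup.centralizer ((P : Subgroup G) : Set G)) : ℂ) ^ 2 =
      8 * (Nat.card (Subgroup.centralizer ({J} : Set G)) : ℂ) ^ 3 := by
    apply mul_right_cancel₀ hKne
    calc (Nat.card G : ℂ) * (1 + ((ε₁ : ℂ) / (charDegree (χ₁ : G → ℂ) : ℂ) +
          ((ε₂ : ℂ) / (charDegree (χ₂ : G → ℂ) : ℂ) + (ε₃ : ℂ) / (charDegree (χ₃ : G → ℂ) : ℂ)))) *
          (Nat.card (Subgroup.centralizer ((P : Subgroup G) : Set G)) : ℂ) ^ 2 *
          (Nat.card (pPrimeCore 2 (Subgroup.centralizer ({J} : Set G))) : ℂ) =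
        ((Nat.card G : ℂ) * (1 + ((ε₁ : ℂ) / (charDegree (χ₁ : G → ℂ) : ℂ) +
          ((ε₂ : ℂ) / (charDegree (χ₂ : G → ℂ) : ℂ) + (ε₃ : ℂ) / (charDegree (χ₃ : G → ℂ) : ℂ)))) *
          (Nat.card (pPrimeCore 2 (Subgroup.centralizer ({J} : Set G))) : ℂ)) *
          (Nat.card (Subgroup.centralizer ((P : Subgroup G) : Set G)) : ℂ) ^ 2 := by ring
      _ = 2 * (Nat.card (Subgroup.centralizer ({J} : Set G)) : ℂ) ^ 4 := by rw [hmain, hT]
      _ = 8 * (Nat.card (Subgroup.centralizer ({J} : Set G)) : ℂ) ^ 3 *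
          (Nat.card (pPrimeCore 2 (Subgroup.centralizer ({J} : Set G))) : ℂ) := by
        rw [hcardHC]; ring
  have h3 : (1 + ((ε₁ : ℂ) / (charDegree (χ₁ : G → ℂ) : ℂ) +
      ((ε₂ : ℂ) / (charDegree (χ₂ : G → ℂ) : ℂ) + (ε₃ : ℂ) / (charDegree (χ₃ : G → ℂ) : ℂ)))) *
      ((charDegree (χ₁ : G → ℂ) : ℂ) * (charDegree (χ₂ : G → ℂ) : ℂ) *
        (charDegree (χ₃ : G → ℂ) : ℂ)) =
      ((charDegree (χ₁ : G → ℂ) : ℂ) + (ε₁ : ℂ)) * ((charDegree (χ₂ : G → ℂ) : ℂ) + (ε₂ : ℂ)) *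
        ((charDegree (χ₃ : G → ℂ) : ℂ) + (ε₃ : ℂ)) := by
    field_simp
    linear_combination (-(ε₁ : ℂ) * (ε₂ : ℂ) * (ε₃ : ℂ)) * hrel +
      ((ε₂ : ℂ) * (ε₃ : ℂ) * (charDegree (χ₁ : G → ℂ) : ℂ)) * hs₁ +
      ((ε₁ : ℂ) * (ε₃ : ℂ) * (charDegree (χ₂ : G → ℂ) : ℂ)) * hs₂ +
      ((ε₁ : ℂ) * (ε₂ : ℂ) * (charDegree (χ₃ : G → ℂ) : ℂ)) * hs₃
  have hkey : (Nat.card G : ℂ) * (((charDegree (χ₁ : G → ℂ) : ℂ) + (ε₁ : ℂ)) *
      ((charDegree (χ₂ : G → ℂ) : ℂ) + (ε₂ : ℂ)) * ((charDegree (χ₃ : G → ℂ) : ℂ) + (ε₃ : ℂ))) *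
      (Nat.card (Subgroup.centralizer ((P : Subgroup G) : Set G)) : ℂ) ^ 2 =
      8 * ((charDegree (χ₁ : G → ℂ) : ℂ) * (charDegree (χ₂ : G → ℂ) : ℂ) *
        (charDegree (χ₃ : G → ℂ) : ℂ)) * (Nat.card (Subgroup.centralizer ({J} : Set G)) : ℂ) ^ 3 := by
    rw [← h3]
    linear_combination ((charDegree (χ₁ : G → ℂ) : ℂ) * (charDegree (χ₂ : G → ℂ) : ℂ) *
        (charDegree (χ₃ : G → ℂ) : ℂ)) * h1
  have hkeyZ : (Nat.card G : ℤ) * (((charDegree (χ₁ : G → ℂ) : ℤ) + ε₁) *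
      ((charDegree (χ₂ : G → ℂ) : ℤ) + ε₂) * ((charDegree (χ₃ : G → ℂ) : ℤ) + ε₃)) *
      (Nat.card (Subgroup.centralizer ((P : Subgroup G) : Set G)) : ℤ) ^ 2 =
      8 * ((charDegree (χ₁ : G → ℂ) : ℤ) * (charDegree (χ₂ : G → ℂ) : ℤ) *
        (charDegree (χ₃ : G → ℂ) : ℤ)) * (Nat.card (Subgroup.centralizer ({J} : Set G)) : ℤ) ^ 3 := by
    exact_mod_cast hkey
  have hkeyQ : (Nat.card G : ℚ) * (((charDegree (χ₁ : G → ℂ) : ℚ) + ε₁) *
      ((charDegree (χ₂ : G → ℂ) : ℚ) + ε₂) * ((charDegree (χ₃ : G → ℂ) : ℚ) + ε₃)) *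
      (Nat.card (Subgroup.centralizer ((P : Subgroup G) : Set G)) : ℚ) ^ 2 =
      8 * ((charDegree (χ₁ : G → ℂ) : ℚ) * (charDegree (χ₂ : G → ℂ) : ℚ) *
        (charDegree (χ₃ : G → ℂ) : ℚ)) * (Nat.card (Subgroup.centralizer ({J} : Set G)) : ℚ) ^ 3 := by
    exact_mod_cast hkeyZ
  have hcP : (Nat.card (Subgroup.centralizer ((P : Subgroup G) : Set G)) : ℚ) ≠ 0 := by
    exact_mod_cast (Nat.card_pos (α := Subgroup.centralizer ((P : Subgroup G) : Set G))).ne'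
  have hcJ : (Nat.card (Subgroup.centralizer ({J} : Set G)) : ℚ) ≠ 0 := by
    exact_mod_cast (Nat.card_pos (α := Subgroup.centralizer ({J} : Set G))).ne'
  have hxq : ∀ χ : IrrCharacter G, (charDegree (χ : G → ℂ) : ℚ) ≠ 0 := by
    intro χ
    have := IsIrrCharacter.charDegree_pos χ.2
    exact_mod_cast this.ne'
  have hD : ((charDegree (χ₁ : G → ℂ) : ℚ) + ε₁) *
      ((charDegree (χ₂ : G → ℂ) : ℚ) + ε₂) * ((charDegree (χ₃ : G → ℂ) : ℚ) + ε₃) ≠ 0 := by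
    intro h0
    rw [h0, mul_zero, zero_mul] at hkeyQ
    have : (8 : ℚ) * ((charDegree (χ₁ : G → ℂ) : ℚ) * (charDegree (χ₂ : G → ℂ) : ℚ) *
        (charDegree (χ₃ : G → ℂ) : ℚ)) * (Nat.card (Subgroup.centralizer ({J} : Set G)) : ℚ) ^ 3 ≠ 0 :=
      mul_ne_zero (mul_ne_zero (by norm_num)
        (mul_ne_zero (mul_ne_zero (hxq χ₁) (hxq χ₂)) (hxq χ₃))) (pow_ne_zero 3 hcJ)
    exact this hkeyQ.symm
  have hD12 := (mul_ne_zero_iff.mp hD).1
  have hD3 := (mul_ne_zero_iff.mp hD).2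
  have hD1 := (mul_ne_zero_iff.mp hD12).1
  have hD2 := (mul_ne_zero_iff.mp hD12).2
  rw [eq_div_iff (pow_ne_zero 2 hcP), mul_assoc, div_mul_eq_mul_div, mul_div_assoc',
    eq_div_iff hD]
  linear_combination hkeyQ

end Cfsg.Agent.S4479
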