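import Cfsg.Statements.S0672
import Mathlib
-- import your own Cfsg.Agent.* helpers here

set_option autoImplicit false
open Cfsg
open scoped Pointwise

namespace Cfsg.Agent.S0672

section
variable {G : Type*} [Group G] {K : Type*} [Field K] {Ω : Type*} [Fintype Ω] [DecidableEq Ω]
  [MulAction G Ω]

/-- the linear map attached to a kernel function -/
noncomputable def Psi (c : Ω → Set.powersetCard Ω 2 → K) :
    (Ω → K) →ₗ[K] (Set.powersetCard Ω 2 → K) where
  toFun v s := ∑ z, c z s * v z
  map_add' v w := by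
    funext s
    simp only [Pi.add_apply, mul_add, Finset.sum_add_distrib]
  map_smul' t v := by
    funext s
    simp only [Pi.smul_apply, smul_eq_mul, RingHom.id_apply, Finset.mul_sum]
    apply Finset.sum_congr rfl
    intro z _
    ring

theorem Psi_apply (c : Ω → Set.powersetCard Ω 2 → K) (v : Ω → K) (s : Set.powersetCard Ω 2) :
    Psi c v s = ∑ z, c z s * v z := rfl

theorem Psi_comm (c : Ω → Set.powersetCard Ω 2 → K)
    (hc : ∀ (g : G) (z : Ω) (s : Set.powersetCard Ω 2), c (g • z) (g • s) = c z s)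
    (g : G) (v : Ω → K) :
    Psi c (Cfsg.permRep K G Ω g v) = Cfsg.permRep K G (Set.powersetCard Ω 2) g (Psi c v) := by
  funext s
  change ∑ z, c z s * v (g⁻¹ • z) = ∑ z, c z (g⁻¹ • s) * v z
  rw [← Equiv.sum_comp (MulAction.toPerm g)]
  apply Finset.sum_congr rfl
  intro z _
  change c (g • z) s * v (g⁻¹ • g • z) = _
  rw [inv_smul_smul]
  congr 1
  have := hc g⁻¹ (g • z) s
  rw [inv_smul_smul] at this
  exact this.symm

/-- the main contradiction: an invariant kernel with zero column sums which is not constant in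
the first variable -/
theorem no_kernel
    (h : ∀ f : Representation.IntertwiningMap (Cfsg.permSumZero K G Ω).toRepresentation
      (Cfsg.permRep K G (Set.powersetCard Ω 2)),
      (∀ v : (Cfsg.permSumZero K G Ω).toSubmodule,
        (v : Ω → K) ∈ (Cfsg.permConstants K G Ω).toSubmodule → f v = 0) → f = 0)
    (c : Ω → Set.powersetCard Ω 2 → K)
    (hc : ∀ (g : G) (z : Ω) (s : Set.powersetCard Ω 2), c (g • z) (g • s) = c z s)
    (hsum : ∀ s : Set.powersetCard Ω 2, ∑ z, c z s = 0)
    (s : Set.powersetCard Ω 2) (z z' : Ω) (hne : c z s ≠ c z' s) : False := by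
  let F : (Cfsg.permSumZero K G Ω).toSubmodule →ₗ[K] (Set.powersetCard Ω 2 → K) :=
    (Psi c).comp (Cfsg.permSumZero K G Ω).toSubmodule.subtype
  have hF : ∀ (g : G) (v : (Cfsg.permSumZero K G Ω).toSubmodule),
      F ((Cfsg.permSumZero K G Ω).toRepresentation g v) =
        Cfsg.permRep K G (Set.powersetCard Ω 2) g (F v) := by
    intro g v
    exact Psi_comm c hc g v.1
  let f : Representation.IntertwiningMap (Cfsg.permSumZero K G Ω).toRepresentation
      (Cfsg.permRep K G (Set.powersetCard Ω 2)) :=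
    LinearMap.intertwiningMap_of_isIntertwiningMap _ _ F hF
  have hf0 : f = 0 := by
    apply h f
    intro v hv
    change Psi c v.1 = 0
    have hv' : (v : Ω → K) ∈ Submodule.span K {fun _ : Ω => (1 : K)} := hv
    rw [Submodule.mem_span_singleton] at hv'
    obtain ⟨t, ht⟩ := hv'
    rw [← ht, map_smul]
    have : Psi c (fun _ : Ω => (1 : K)) = 0 := by
      funext s'
      rw [Psi_apply]
      simp only [mul_one]
      exact hsum s'
    rw [this, smul_zero]
  -- evaluate at a difference of two delta functions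
  have hmem : (Pi.single z (1 : K) - Pi.single z' (1 : K) : Ω → K) ∈
      (Cfsg.permSumZero K G Ω).toSubmodule := by
    change ∑ x, (Pi.single z (1 : K) - Pi.single z' (1 : K) : Ω → K) x = 0
    simp [Finset.sum_sub_distrib]
  have hval : f ⟨_, hmem⟩ = 0 := by
    rw [hf0]; rfl
  have hval' : Psi c (Pi.single z (1 : K) - Pi.single z' (1 : K) : Ω → K) = 0 := hval
  have := congrFun hval' s
  rw [Psi_apply] at this
  simp only [Pi.sub_apply, mul_sub, Finset.sum_sub_distrib, Pi.single_apply, mul_ite, mul_one,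
    mul_zero, Finset.sum_ite_eq', Finset.mem_univ, if_true, Pi.zero_apply] at this
  exact hne (sub_eq_zero.mp this)

/-- the action on an explicit pair -/
theorem smul_pair_eq_iff (g : G) (x y : Ω) (hxy : x ≠ y)
    (s : Set.powersetCard Ω 2) (hs : (s : Finset Ω) = {x, y}) :
    g • s = s ↔ ((g • x = x ∧ g • y = y) ∨ (g • x = y ∧ g • y = x)) := by
  rw [← Subtype.coe_inj, Set.powersetCard.coe_smul, hs, Finset.smul_finset_insert,
    Finset.smul_finset_singleton]
  constructor
  · intro h
    have hx : g • x ∈ ({x, y} : Finset Ω) := by rw [← h]; simp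
    have hy : g • y ∈ ({x, y} : Finset Ω) := by rw [← h]; simp
    simp only [Finset.mem_insert, Finset.mem_singleton] at hx hy
    have hinj : g • x ≠ g • y := fun e => hxy (MulAction.injective g e)
    rcases hx with hx | hx <;> rcases hy with hy | hy
    · exact absurd (hx.trans hy.symm) hinj
    · left; exact ⟨hx, hy⟩
    · right; exact ⟨hx, hy⟩
    · exact absurd (hx.trans hy.symm) hinj
  · rintro (⟨h1, h2⟩ | ⟨h1, h2⟩)
    · rw [h1, h2]
    · rw [h1, h2, Finset.pair_comm]

/-- triple transitivity from transitivity of setwise pair stabilisers -/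
theorem three_trans_of_hall [FaithfulSMul G Ω] [Finite G]
    (h2 : MulAction.IsMultiplyPretransitive G Ω 2)
    (heven : ∀ a : Ω, Even (Nat.card (MulAction.stabilizer G a)))
    (hall : ∀ (x y z z' : Ω), x ≠ y → z ≠ x → z ≠ y → z' ≠ x → z' ≠ y →
       ∃ g : G, g • z = z' ∧ ((g • x = x ∧ g • y = y) ∨ (g • x = y ∧ g • y = x))) :
    MulAction.IsMultiplyPretransitive G Ω 3 := by
  have h2' : ∀ {a b c d : Ω}, a ≠ b → c ≠ d → ∃ g : G, g • a = c ∧ g • b = d :=
    MulAction.is_two_pretransitive_iff.mp h2
  -- a swapping element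
  have swap : ∀ y0 y1 y2 : Ω, y0 ≠ y1 → y2 ≠ y0 → y2 ≠ y1 →
      ∃ u : G, u • y2 = y2 ∧ u • y0 = y1 ∧ u • y1 = y0 := by
    intro y0 y1 y2 h01 h20 h21
    haveI : Fact (Nat.Prime 2) := ⟨Nat.prime_two⟩
    obtain ⟨τ, ht2, htne, hty2⟩ : ∃ τ : G, τ * τ = 1 ∧ τ ≠ 1 ∧ τ • y2 = y2 := by
      obtain ⟨t, ht⟩ := exists_prime_orderOf_dvd_card' (G := MulAction.stabilizer G y2) 2
        (heven y2).two_dvd
      refine ⟨(t : G), ?_, ?_, t.2⟩
      · have := pow_orderOf_eq_one t
        rw [ht, pow_two] at this
        exact congrArg Subtype.val this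
      · intro h1
        have : t = 1 := Subtype.ext h1
        rw [this, orderOf_one] at ht
        omega
    obtain ⟨b, hb⟩ : ∃ b : Ω, τ • b ≠ b := by
      by_contra hno
      push Not at hno
      apply htne
      apply FaithfulSMul.eq_of_smul_eq_smul (α := Ω)
      intro a
      rw [hno a, one_smul]
    obtain ⟨c, hcdef⟩ : ∃ c : Ω, c = τ • b := ⟨_, rfl⟩
    have hcb : c ≠ b := by rw [hcdef]; exact hb
    have htc : τ • c = b := by
      rw [hcdef, ← mul_smul, ht2, one_smul]
    have hby2 : y2 ≠ b := by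
      intro e
      apply hb
      rw [← e, hty2]
    have hcy2 : y2 ≠ c := by
      intro e
      apply hby2
      have : τ • y2 = τ • b := by rw [hty2, e, hcdef]
      exact MulAction.injective _ this
    obtain ⟨k1, hk1b, hk1c⟩ := h2' (Ne.symm hcb) h01
    -- t' = k1 τ k1⁻¹
    obtain ⟨t', ht'⟩ : ∃ t' : G, t' = k1 * τ * k1⁻¹ := ⟨_, rfl⟩
    have ht'0 : t' • y0 = y1 := by
      rw [ht', mul_smul, mul_smul, ← hk1b, inv_smul_smul, ← hcdef, hk1c]
    have ht'1 : t' • y1 = y0 := by
      rw [ht', mul_smul, mul_smul, ← hk1c, inv_smul_smul, htc, hk1b]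
    have ht'w : t' • (k1 • y2) = k1 • y2 := by
      rw [ht', mul_smul, mul_smul, inv_smul_smul, hty2]
    have hw0 : k1 • y2 ≠ y0 := by
      rw [← hk1b]
      intro e
      exact hby2 (MulAction.injective _ e)
    have hw1 : k1 • y2 ≠ y1 := by
      rw [← hk1c]
      intro e
      exact hcy2 (MulAction.injective _ e)
    obtain ⟨k2, hk2w, hk2⟩ := hall y0 y1 (k1 • y2) y2 h01 hw0 hw1 h20 h21
    refine ⟨k2 * t' * k2⁻¹, ?_, ?_, ?_⟩
    · rw [mul_smul, mul_smul, ← hk2w, inv_smul_smul, ht'w]
    · rcases hk2 with ⟨e0, e1⟩ | ⟨e0, e1⟩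
      · rw [mul_smul, mul_smul, inv_smul_eq_iff.mpr e0.symm, ht'0, e1]
      · rw [mul_smul, mul_smul, inv_smul_eq_iff.mpr e1.symm, ht'1, e0]
    · rcases hk2 with ⟨e0, e1⟩ | ⟨e0, e1⟩
      · rw [mul_smul, mul_smul, inv_smul_eq_iff.mpr e1.symm, ht'1, e0]
      · rw [mul_smul, mul_smul, inv_smul_eq_iff.mpr e0.symm, ht'0, e1]
  refine ⟨fun x y => ?_⟩
  have hx01 : x 0 ≠ x 1 := fun e => absurd (x.injective e) (by decide)
  have hx02 : x 0 ≠ x 2 := fun e => absurd (x.injective e) (by decide)
  have hx12 : x 1 ≠ x 2 := fun e => absurd (x.injective e) (by decide)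
  have hy01 : y 0 ≠ y 1 := fun e => absurd (y.injective e) (by decide)
  have hy02 : y 0 ≠ y 2 := fun e => absurd (y.injective e) (by decide)
  have hy12 : y 1 ≠ y 2 := fun e => absurd (y.injective e) (by decide)
  obtain ⟨g1, hg10, hg11⟩ := h2' hx01 hy01
  have hw0 : g1 • x 2 ≠ y 0 := by
    rw [← hg10]
    intro e
    exact hx02 (MulAction.injective _ e).symm
  have hw1 : g1 • x 2 ≠ y 1 := by
    rw [← hg11]
    intro e
    exact hx12 (MulAction.injective _ e).symm
  obtain ⟨g2, hg2w, hg2⟩ := hall (y 0) (y 1) (g1 • x 2) (y 2) hy01 hw0 hw1 (Ne.symm hy02)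
    (Ne.symm hy12)
  rcases hg2 with ⟨e0, e1⟩ | ⟨e0, e1⟩
  · refine ⟨g2 * g1, ?_⟩
    ext i
    rw [Function.Embedding.smul_apply]
    fin_cases i
    · change (g2 * g1) • x 0 = y 0
      rw [mul_smul, hg10, e0]
    · change (g2 * g1) • x 1 = y 1
      rw [mul_smul, hg11, e1]
    · change (g2 * g1) • x 2 = y 2
      rw [mul_smul, hg2w]
  · obtain ⟨u, hu2, hu0, hu1⟩ := swap (y 0) (y 1) (y 2) hy01 (Ne.symm hy02) (Ne.symm hy12)
    refine ⟨u * g2 * g1, ?_⟩
    ext i
    rw [Function.Embedding.smul_apply]
    fin_cases i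
    · change (u * g2 * g1) • x 0 = y 0
      rw [mul_smul, mul_smul, hg10, e0, hu1]
    · change (u * g2 * g1) • x 1 = y 1
      rw [mul_smul, mul_smul, hg11, e1, hu0]
    · change (u * g2 * g1) • x 2 = y 2
      rw [mul_smul, mul_smul, hg2w, hu2]

end

/-- Let a finite group act faithfully and doubly transitively with point stabilisers of even order, and let `K` have characteristic `p` dividing the degree. If the heart of the permutation module admits no non-zero equivariant map to the permutation module on unordered pairs (phrased: every intertwining map from the sum-zero functions vanishing on the constants is zero), the action is triply transitive. -/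
theorem result {G : Type*} [Group G] [Finite G] {K : Type*} [Field K] {p : ℕ} [Fact p.Prime] [CharP K p] {Ω : Type*} [Fintype Ω] [DecidableEq Ω] [MulAction G Ω] [FaithfulSMul G Ω] (h2 : MulAction.IsMultiplyPretransitive G Ω 2) (hp : p ∣ Fintype.card Ω) (heven : ∀ a : Ω, Even (Nat.card (MulAction.stabilizer G a))) (h : ∀ f : Representation.IntertwiningMap (Cfsg.permSumZero K G Ω).toRepresentation (Cfsg.permRep K G (Set.powersetCard Ω 2)), (∀ v : (Cfsg.permSumZero K G Ω).toSubmodule, (v : Ω → K) ∈ (Cfsg.permConstants K G Ω).toSubmodule → f v = 0) → f = 0) : MulAction.IsMultiplyPretransitive G Ω 3 := by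
  classical
  apply three_trans_of_hall h2 heven
  by_contra hno
  push Not at hno
  obtain ⟨x, y, z1, z2, hxy, hz1x, hz1y, hz2x, hz2y, hno⟩ := hno
  -- the base pair
  let s1 : Set.powersetCard Ω 2 := ⟨{x, y}, by
    rw [Set.powersetCard.mem_iff]; exact Finset.card_pair hxy⟩
  have hs1 : (s1 : Finset Ω) = {x, y} := rfl
  have hmem_smul : ∀ (g : G) (z : Ω) (s : Set.powersetCard Ω 2), g • z ∈ g • s ↔ z ∈ s := by
    intro g z s
    rw [← Set.powersetCard.mem_coe_iff, ← Set.powersetCard.mem_coe_iff,
      Set.powersetCard.coe_smul, Finset.smul_mem_smul_finset_iff]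
  have hcard2 : ∀ s : Set.powersetCard Ω 2,
      (Finset.univ.filter (fun z : Ω => z ∈ s)).card = 2 := by
    intro s
    have : Finset.univ.filter (fun z : Ω => z ∈ s) = (s : Finset Ω) := by
      ext z
      simp [Set.powersetCard.mem_coe_iff]
    rw [this]
    exact s.2
  by_cases h2K : (2 : K) = 0
  · -- characteristic 2
    refine no_kernel h (fun z s => if z ∈ s then (1 : K) else 0) ?_ ?_ s1 x z1 ?_
    · intro g z s
      simp only [hmem_smul]
    · intro s
      rw [Finset.sum_ite, Finset.sum_const_zero, add_zero, Finset.sum_const, hcard2 s,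
        nsmul_eq_mul, mul_one]
      exact_mod_cast h2K
    · have hx : x ∈ s1 := by
        rw [← Set.powersetCard.mem_coe_iff, hs1]; simp
      have hz : z1 ∉ s1 := by
        rw [← Set.powersetCard.mem_coe_iff, hs1]; simp [hz1x, hz1y]
      simp only [hx, hz, if_true, if_false]
      exact one_ne_zero
  · -- other characteristics
    let R1 : Ω → Set.powersetCard Ω 2 → Prop := fun z s => ∃ g : G, g • z1 = z ∧ g • s1 = s
    have hR1smul : ∀ (g : G) (z : Ω) (s : Set.powersetCard Ω 2), R1 (g • z) (g • s) ↔ R1 z s := by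
      intro g z s
      constructor
      · rintro ⟨k, hk1, hk2⟩
        refine ⟨g⁻¹ * k, ?_, ?_⟩
        · rw [mul_smul, hk1, inv_smul_smul]
        · rw [mul_smul, hk2, inv_smul_smul]
      · rintro ⟨k, hk1, hk2⟩
        refine ⟨g * k, ?_, ?_⟩
        · rw [mul_smul, hk1]
        · rw [mul_smul, hk2]
    let m : Set.powersetCard Ω 2 → ℕ := fun s => (Finset.univ.filter (fun z : Ω => R1 z s)).card
    have hm : ∀ (g : G) (s : Set.powersetCard Ω 2), m (g • s) = m s := by
      intro g s
      symm
      apply Finset.card_bij (fun z _ => g • z)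
      · intro z hz
        simp only [Finset.mem_filter, Finset.mem_univ, true_and] at hz ⊢
        exact (hR1smul g z s).mpr hz
      · intro z _ z' _ e
        exact MulAction.injective g e
      · intro w hw
        simp only [Finset.mem_filter, Finset.mem_univ, true_and] at hw
        refine ⟨g⁻¹ • w, ?_, smul_inv_smul g w⟩
        simp only [Finset.mem_filter, Finset.mem_univ, true_and]
        have := (hR1smul g (g⁻¹ • w) s).mp
        apply this
        rw [smul_inv_smul]
        exact hw
    haveI : MulAction.IsPretransitive G (Set.powersetCard Ω 2) :=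
      Set.powersetCard.isPretransitive_of_isMultiplyPretransitive G h2
    have hm' : ∀ s : Set.powersetCard Ω 2, m s = m s1 := by
      intro s
      obtain ⟨g, hg⟩ := MulAction.exists_smul_eq G s1 s
      rw [← hg, hm]
    refine no_kernel h (fun z s => (if z ∈ s then ((m s1 : ℕ) : K) else 0) +
      (if R1 z s then (-2 : K) else 0)) ?_ ?_ s1 z1 z2 ?_
    · intro g z s
      simp only [hmem_smul, hR1smul]
    · intro s
      rw [Finset.sum_add_distrib, Finset.sum_ite, Finset.sum_const_zero, add_zero,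
        Finset.sum_const, hcard2 s, Finset.sum_ite, Finset.sum_const_zero, add_zero,
        Finset.sum_const]
      change 2 • ((m s1 : ℕ) : K) + (m s) • (-2 : K) = 0
      rw [hm' s, nsmul_eq_mul, nsmul_eq_mul]
      push_cast
      ring
    · have hz1 : z1 ∉ s1 := by
        rw [← Set.powersetCard.mem_coe_iff, hs1]; simp [hz1x, hz1y]
      have hz2 : z2 ∉ s1 := by
        rw [← Set.powersetCard.mem_coe_iff, hs1]; simp [hz2x, hz2y]
      have hR11 : R1 z1 s1 := ⟨1, one_smul _ _, one_smul _ _⟩
      have hR12 : ¬ R1 z2 s1 := by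
        rintro ⟨g, hg1, hg2⟩
        have hh := hno g hg1
        rcases (smul_pair_eq_iff g x y hxy s1 hs1).mp hg2 with ⟨e1, e2⟩ | ⟨e1, e2⟩
        · exact hh.1 e1 e2
        · exact hh.2 e1 e2
      simp only [hz1, hz2, hR11, hR12, if_true, if_false, zero_add, add_zero]
      intro e
      apply h2K
      have : (-2 : K) = 0 := e
      rw [neg_eq_zero] at this
      exact this

end Cfsg.Agent.S0672
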