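import Cfsg.Statements.S0674
import Mathlib
import Cfsg.Agent.Lib.Helper12.PrimeDegree
-- import your own Cfsg.Agent.* helpers here

set_option autoImplicit false
open Cfsg

namespace Cfsg.Agent.S0674

open Module in
/-- Let `G` be a non-solvable transitive permutation group of prime degree `p` and `K` a field of characteristic `p`. Then the heart of the permutation module is irreducible: an invariant subspace containing the constants and contained in the sum-zero functions is one or the other. -/
theorem result {α : Type*} [Fintype α] [DecidableEq α] {p : ℕ} [Fact p.Prime] (hα : Fintype.card α = p) (G : Subgroup (Equiv.Perm α)) [MulAction.IsPretransitive G α] (hG : ¬ Group.IsSolvable G) {K : Type*} [Field K] [CharP K p] (W : Subrepresentation (Cfsg.permRep K G α)) (h₁ : (Cfsg.permConstants K G α).toSubmodule ≤ W.toSubmodule) (h₂ : W.toSubmodule ≤ (Cfsg.permSumZero K G α).toSubmodule) : W = Cfsg.permConstants K G α ∨ W = Cfsg.permSumZero K G α := by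
  classical
  by_contra hne
  push Not at hne
  obtain ⟨hWC, hWS⟩ := hne
  apply hG
  have hp := (Fact.out : p.Prime)
  have hCW : (Cfsg.permConstants K G α).toSubmodule < W.toSubmodule :=
    lt_of_le_of_ne h₁ (fun h => hWC (Subrepresentation.toSubmodule_injective h.symm))
  have hWS' : W.toSubmodule < (Cfsg.permSumZero K G α).toSubmodule :=
    lt_of_le_of_ne h₂ (fun h => hWS (Subrepresentation.toSubmodule_injective h))
  have hC1 : 1 ≤ finrank K (Cfsg.permConstants K G α).toSubmodule := by
    rw [Submodule.one_le_finrank_iff]
    intro hbot
    have hmem : (fun _ : α => (1 : K)) ∈ (Cfsg.permConstants K G α).toSubmodule :=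
      Submodule.subset_span rfl
    rw [hbot, Submodule.mem_bot] at hmem
    have hne : Nonempty α := by
      rw [← Fintype.card_pos_iff, hα]; exact hp.pos
    obtain ⟨a⟩ := hne
    have := congrFun hmem a
    exact one_ne_zero this
  have hSp : finrank K (Cfsg.permSumZero K G α).toSubmodule < p := by
    have hne : (Cfsg.permSumZero K G α).toSubmodule ≠ ⊤ := by
      intro htop
      have hne : Nonempty α := by
        rw [← Fintype.card_pos_iff, hα]; exact hp.pos
      obtain ⟨a⟩ := hne
      have hmem : (Pi.single a 1 : α → K) ∈ (Cfsg.permSumZero K G α).toSubmodule := by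
        rw [htop]; trivial
      have h0 : ∑ x, (Pi.single a 1 : α → K) x = 0 := hmem
      simp at h0
    have := Submodule.finrank_lt hne
    rwa [Module.finrank_fintype_fun_eq_card, hα] at this
  have h1 := Submodule.finrank_lt_finrank_of_lt hCW
  have h2 := Submodule.finrank_lt_finrank_of_lt hWS'
  exact Cfsg.Agent.Lib.Helper12.solvable_of_invariant hα G W.toSubmodule
    (fun g f hf => W.apply_mem_toSubmodule g hf) (by omega) (by omega)

end Cfsg.Agent.S0674
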