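import Cfsg.Statements.S0668
import Mathlib
-- import your own Cfsg.Agent.* helpers here

set_option autoImplicit false
open Cfsg

namespace Cfsg.Agent.S0668

section
variable {G : Type*} [Group G] {K : Type*} [Field K] {Ω₁ Ω₂ : Type*} [Fintype Ω₁] [Fintype Ω₂]
  [MulAction G Ω₁] [MulAction G Ω₂]

/-- the linear map with "matrix" `c` constant on orbits -/
noncomputable def Phi : (MulAction.orbitRel.Quotient G (Ω₁ × Ω₂) → K) →ₗ[K]
    ((Ω₁ → K) →ₗ[K] (Ω₂ → K)) where
  toFun c :=
    { toFun := fun f y => ∑ x, c (Quotient.mk'' (x, y)) * f x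
      map_add' := fun f₁ f₂ => by
        funext y
        simp only [Pi.add_apply, mul_add, Finset.sum_add_distrib]
      map_smul' := fun r f => by
        funext y
        simp only [Pi.smul_apply, smul_eq_mul, RingHom.id_apply, Finset.mul_sum]
        apply Finset.sum_congr rfl
        intro x _
        ring }
  map_add' c₁ c₂ := by
    apply LinearMap.ext
    intro f
    funext y
    simp only [LinearMap.coe_mk, AddHom.coe_mk, Pi.add_apply, LinearMap.add_apply, add_mul,
      Finset.sum_add_distrib]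
  map_smul' r c := by
    apply LinearMap.ext
    intro f
    funext y
    simp only [LinearMap.coe_mk, AddHom.coe_mk, Pi.smul_apply, smul_eq_mul, RingHom.id_apply,
      LinearMap.smul_apply, Finset.mul_sum]
    apply Finset.sum_congr rfl
    intro x _
    ring

theorem Phi_apply (c : MulAction.orbitRel.Quotient G (Ω₁ × Ω₂) → K) (f : Ω₁ → K) (y : Ω₂) :
    Phi c f y = ∑ x, c (Quotient.mk'' (x, y)) * f x := rfl

theorem Phi_single [DecidableEq Ω₁] (c : MulAction.orbitRel.Quotient G (Ω₁ × Ω₂) → K) (x : Ω₁) (y : Ω₂) :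
    Phi c (Pi.single x 1) y = c (Quotient.mk'' (x, y)) := by
  rw [Phi_apply, Finset.sum_eq_single x]
  · simp
  · intro b _ hb
    simp [Pi.single_apply, hb]
  · intro h; exact absurd (Finset.mem_univ _) h

theorem quot_smul (g : G) (x : Ω₁) (y : Ω₂) :
    (Quotient.mk'' (g • x, g • y) : MulAction.orbitRel.Quotient G (Ω₁ × Ω₂)) =
      Quotient.mk'' (x, y) := by
  rw [Quotient.eq'']
  rw [MulAction.orbitRel_apply]
  exact ⟨g, rfl⟩

theorem Phi_mem (c : MulAction.orbitRel.Quotient G (Ω₁ × Ω₂) → K) :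
    Phi c ∈ ((Cfsg.permRep K G Ω₁).linHom (Cfsg.permRep K G Ω₂)).invariants := by
  rw [Representation.mem_invariants]
  intro g
  apply LinearMap.ext
  intro f
  funext y
  rw [Representation.linHom_apply]
  change Phi c ((Cfsg.permRep K G Ω₁) g⁻¹ f) (g⁻¹ • y) = Phi c f y
  rw [Phi_apply, Phi_apply]
  -- reindex by x ↦ g • x
  rw [← Equiv.sum_comp (MulAction.toPerm g⁻¹)]
  apply Finset.sum_congr rfl
  intro x _
  change c (Quotient.mk'' (g⁻¹ • x, g⁻¹ • y)) * f ((g⁻¹)⁻¹ • (g⁻¹ • x)) = _
  rw [quot_smul, inv_inv, smul_inv_smul]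

theorem Phi_injective : Function.Injective
    (Phi (G := G) (K := K) (Ω₁ := Ω₁) (Ω₂ := Ω₂)) := by
  classical
  intro c₁ c₂ h
  funext q
  induction q using Quotient.inductionOn' with | _ p => ?_
  obtain ⟨x, y⟩ := p
  have := congrFun (LinearMap.congr_fun h (Pi.single x 1)) y
  rwa [Phi_single, Phi_single] at this

theorem Phi_surj (T : (Ω₁ → K) →ₗ[K] (Ω₂ → K))
    (hT : T ∈ ((Cfsg.permRep K G Ω₁).linHom (Cfsg.permRep K G Ω₂)).invariants) :
    ∃ c, Phi (G := G) c = T := by
  classical
  rw [Representation.mem_invariants] at hT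
  -- matrix entries are constant on orbits
  have hM : ∀ (g : G) (x : Ω₁) (y : Ω₂), T (Pi.single (g • x) 1) (g • y) = T (Pi.single x 1) y := by
    intro g x y
    have h1 := congrFun (LinearMap.congr_fun (hT g) (Pi.single (g • x) 1)) (g • y)
    rw [Representation.linHom_apply] at h1
    change T ((Cfsg.permRep K G Ω₁) g⁻¹ (Pi.single (g • x) 1)) (g⁻¹ • (g • y)) = _ at h1
    rw [inv_smul_smul] at h1
    rw [← h1]
    have hfun : (Cfsg.permRep K G Ω₁) g⁻¹ (Pi.single (g • x) 1) = (Pi.single x (1 : K) : Ω₁ → K) := by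
      funext z
      change (Pi.single (g • x) (1 : K) : Ω₁ → K) ((g⁻¹)⁻¹ • z) = _
      rw [inv_inv]
      by_cases hz : z = x
      · subst hz; simp
      · have : g • z ≠ g • x := fun h => hz (MulAction.injective g h)
        simp [Pi.single_apply, hz, this]
    rw [hfun]
  let c : MulAction.orbitRel.Quotient G (Ω₁ × Ω₂) → K :=
    Quotient.lift (fun p : Ω₁ × Ω₂ => T (Pi.single p.1 1) p.2) (by
      rintro ⟨x, y⟩ ⟨x', y'⟩ h
      change (x, y) ∈ MulAction.orbit G (x', y') at h
      obtain ⟨g, hg⟩ := h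
      have h1 : x = g • x' := (congrArg Prod.fst hg).symm
      have h2 : y = g • y' := (congrArg Prod.snd hg).symm
      simp only
      rw [h1, h2, hM])
  refine ⟨c, ?_⟩
  apply LinearMap.pi_ext'
  intro x
  apply LinearMap.ext
  intro r
  funext y
  simp only [LinearMap.coe_comp, LinearMap.coe_single, Function.comp_apply]
  have hr : (Pi.single x r : Ω₁ → K) = r • Pi.single x 1 := by
    funext z
    by_cases hz : z = x
    · subst hz; simp
    · simp [Pi.single_apply, hz]
  rw [hr, map_smul, map_smul, Pi.smul_apply, Pi.smul_apply, Phi_single]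
  rfl

end

/-- The equivariant linear maps between the permutation modules of two finite `G`-sets form a space whose dimension is the number of `G`-orbits on the product of the two sets. -/
theorem result {G : Type*} [Group G] {K : Type*} [Field K] {Ω₁ Ω₂ : Type*} [Fintype Ω₁] [Fintype Ω₂] [MulAction G Ω₁] [MulAction G Ω₂] : Module.finrank K ((Cfsg.permRep K G Ω₁).linHom (Cfsg.permRep K G Ω₂)).invariants = Nat.card (MulAction.orbitRel.Quotient G (Ω₁ × Ω₂)) := by
  classical
  have hrange : ((Cfsg.permRep K G Ω₁).linHom (Cfsg.permRep K G Ω₂)).invariants =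
      LinearMap.range (Phi (G := G) (K := K) (Ω₁ := Ω₁) (Ω₂ := Ω₂)) := by
    ext T
    constructor
    · intro hT
      obtain ⟨c, hc⟩ := Phi_surj T hT
      exact ⟨c, hc⟩
    · rintro ⟨c, rfl⟩
      exact Phi_mem c
  rw [hrange, LinearMap.finrank_range_of_inj Phi_injective]
  have : Fintype (MulAction.orbitRel.Quotient G (Ω₁ × Ω₂)) := Fintype.ofFinite _
  rw [Module.finrank_fintype_fun_eq_card, Nat.card_eq_fintype_card]

end Cfsg.Agent.S0668
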