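import Cfsg.Statements.S0670
import Mathlib
-- import your own Cfsg.Agent.* helpers here

set_option autoImplicit false
open Cfsg

namespace Cfsg.Agent.S0670

/-- A finite `p`-group acting linearly in characteristic `p` has a non-zero fixed vector in the
span of the orbit of any non-zero vector. -/
theorem exists_fixed {p : ℕ} [Fact p.Prime] {K : Type*} [Field K] [CharP K p]
    {P : Type*} [Group P] [Finite P] (hP : IsPGroup p P)
    {V : Type*} [AddCommGroup V] [Module K V] (ρ : Representation K P V) (w0 : V) (hw0 : w0 ≠ 0) :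
    ∃ w ∈ Submodule.span K (Set.range fun x : P => ρ x w0), w ≠ 0 ∧ ∀ x : P, ρ x w = w := by
  classical
  have hpV : ∀ v : V, p • v = 0 := by
    intro v
    rw [← Nat.cast_smul_eq_nsmul K, CharP.cast_eq_zero, zero_smul]
  set S : Set V := Set.range fun x : P => ρ x w0 with hS
  let M : AddSubgroup V := AddSubgroup.closure S
  have hSfin : S.Finite := Set.finite_range _
  have hρM : ∀ (x : P) (m : V), m ∈ M → ρ x m ∈ M := by
    intro x m hm
    induction hm using AddSubgroup.closure_induction with
    | mem v hv =>
      obtain ⟨y, rfl⟩ := hv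
      apply AddSubgroup.subset_closure
      refine ⟨x * y, ?_⟩
      simp only [map_mul]
      rfl
    | zero => rw [map_zero]; exact M.zero_mem
    | add a b _ _ ha hb => rw [map_add]; exact M.add_mem ha hb
    | neg a _ ha => rw [map_neg]; exact M.neg_mem ha
  let _inst : MulAction P M :=
    { smul := fun x m => ⟨ρ x m.1, hρM x m.1 m.2⟩
      one_smul := fun m => by
        apply Subtype.ext
        change ρ 1 m.1 = m.1
        rw [map_one]; rfl
      mul_smul := fun x y m => by
        apply Subtype.ext
        change ρ (x * y) m.1 = ρ x (ρ y m.1)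
        rw [map_mul]; rfl }
  have hsmul : ∀ (x : P) (m : M), ((x • m : M) : V) = ρ x m.1 := fun x m => rfl
  have hFG : AddGroup.FG M := by
    rw [AddGroup.fg_iff_addSubgroup_fg]
    exact ⟨hSfin.toFinset, by simp [M]⟩
  have hTor : IsAddTorsion M := by
    intro m
    rw [isOfFinAddOrder_iff_nsmul_eq_zero]
    refine ⟨p, (Fact.out : p.Prime).pos, ?_⟩
    apply Subtype.ext
    simpa using hpV m.1
  have hfin : Finite M := AddCommGroup.finite_of_fg_isAddTorsion M hTor
  have hw0M : w0 ∈ M := by
    apply AddSubgroup.subset_closure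
    exact ⟨1, by simp⟩
  have hpdvd : p ∣ Nat.card M := by
    have h1 : addOrderOf (⟨w0, hw0M⟩ : M) = p := by
      apply addOrderOf_eq_prime
      · apply Subtype.ext
        simpa using hpV w0
      · intro h
        exact hw0 (congrArg Subtype.val h)
    rw [← h1]
    exact addOrderOf_dvd_natCard _
  have h0fix : (0 : M) ∈ MulAction.fixedPoints P M := by
    intro x
    apply Subtype.ext
    rw [hsmul]
    simp
  obtain ⟨b, hb, hb0⟩ := hP.exists_fixed_point_of_prime_dvd_card_of_fixed_point M hpdvd h0fix
  refine ⟨b.1, ?_, ?_, ?_⟩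
  · have hle : M ≤ (Submodule.span K S).toAddSubgroup := by
      rw [AddSubgroup.closure_le]
      exact Submodule.subset_span
    exact hle b.2
  · intro h
    apply hb0
    apply Subtype.ext
    rw [h]; rfl
  · intro x
    have := hb x
    rw [← hsmul, this]

/-- A Sylow `p`-subgroup of a group acting transitively on `p ^ f` points is transitive. -/
theorem sylow_transitive {G : Type*} [Group G] [Finite G] {p f : ℕ} [Fact p.Prime]
    {Ω : Type*} [Fintype Ω] [MulAction G Ω] [MulAction.IsPretransitive G Ω]
    (hcard : Fintype.card Ω = p ^ f) (P : Sylow p G) (a b : Ω) :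
    ∃ x : G, x ∈ (P : Subgroup G) ∧ x • a = b := by
  classical
  have hGa : (MulAction.stabilizer G a).index = p ^ f := by
    rw [MulAction.index_stabilizer_of_transitive, Nat.card_eq_fintype_card, hcard]
  have hcop : Nat.Coprime (p ^ f) (P : Subgroup G).index :=
    Nat.Coprime.pow_left f ((Nat.Prime.coprime_iff_not_dvd Fact.out).mpr P.not_dvd_index)
  -- index computations
  have h1 : ((P : Subgroup G) ⊓ MulAction.stabilizer G a).index =
      (MulAction.stabilizer G a).relIndex (P : Subgroup G) * (P : Subgroup G).index := by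
    rw [← Subgroup.relIndex_mul_index (inf_le_left : (P : Subgroup G) ⊓ MulAction.stabilizer G a ≤ P),
      Subgroup.inf_relIndex_left]
  have h2 : (MulAction.stabilizer G a).index ∣ ((P : Subgroup G) ⊓ MulAction.stabilizer G a).index :=
    Subgroup.index_dvd_of_le inf_le_right
  rw [h1, hGa] at h2
  have h3 : p ^ f ∣ (MulAction.stabilizer G a).relIndex (P : Subgroup G) :=
    hcop.dvd_of_dvd_mul_right h2
  -- the orbit of a under P
  have h4 : (MulAction.stabilizer G a).relIndex (P : Subgroup G) =
      (MulAction.orbit (P : Subgroup G) a).ncard := by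
    rw [← MulAction.index_stabilizer]
    rfl
  rw [h4] at h3
  have h5 : (MulAction.orbit (P : Subgroup G) a).ncard ≤ p ^ f := by
    rw [← hcard, ← Nat.card_eq_fintype_card, ← Set.ncard_univ]
    exact Set.ncard_le_ncard (Set.subset_univ _)
  have hpos : 0 < (MulAction.orbit (P : Subgroup G) a).ncard := by
    rw [Set.ncard_pos]
    exact MulAction.nonempty_orbit a
  have h6 : (MulAction.orbit (P : Subgroup G) a).ncard = p ^ f :=
    le_antisymm h5 (Nat.le_of_dvd hpos h3)
  have h7 : MulAction.orbit (P : Subgroup G) a = Set.univ := by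
    apply Set.eq_of_subset_of_ncard_le (Set.subset_univ _)
    rw [h6, Set.ncard_univ, Nat.card_eq_fintype_card, hcard]
  have : b ∈ MulAction.orbit (P : Subgroup G) a := by rw [h7]; trivial
  obtain ⟨x, hx⟩ := this
  exact ⟨x.1, x.2, hx⟩

/-- In characteristic `p`, the permutation module of a transitive action of degree `p ^ f` has the line of constant functions as its only irreducible submodule: every non-zero subrepresentation contains it. -/
theorem result {G : Type*} [Group G] [Finite G] {K : Type*} [Field K] {p f : ℕ} [Fact p.Prime] [CharP K p] {Ω : Type*} [Fintype Ω] [MulAction G Ω] [MulAction.IsPretransitive G Ω] (hf : 1 ≤ f) (hcard : Fintype.card Ω = p ^ f) (W : Subrepresentation (Cfsg.permRep K G Ω)) (hW : W.toSubmodule ≠ ⊥) : (Cfsg.permConstants K G Ω).toSubmodule ≤ W.toSubmodule := by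
  classical
  obtain ⟨w0, hw0W, hw0⟩ := (Submodule.ne_bot_iff _).mp hW
  obtain ⟨P⟩ : Nonempty (Sylow p G) := inferInstance
  let ρ : Representation K (P : Subgroup G) (Ω → K) :=
    (Cfsg.permRep K G Ω).comp (P : Subgroup G).subtype
  obtain ⟨w, hwspan, hwne, hwfix⟩ := exists_fixed (p := p) (K := K) P.isPGroup' ρ w0 hw0
  have hwW : w ∈ W.toSubmodule := by
    have hle : Submodule.span K (Set.range fun x : (P : Subgroup G) => ρ x w0) ≤ W.toSubmodule := by
      rw [Submodule.span_le]
      rintro _ ⟨x, rfl⟩
      exact W.apply_mem_toSubmodule (x : G) hw0W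
    exact hle hwspan
  -- w is constant
  have hconst : ∀ a b : Ω, w a = w b := by
    intro a b
    obtain ⟨x, hx, hxab⟩ := sylow_transitive hcard P a b
    have := congrFun (hwfix ⟨x, hx⟩) b
    change w (x⁻¹ • b) = w b at this
    rw [← hxab, inv_smul_smul] at this
    rw [← hxab]
    exact this
  have hΩ : Nonempty Ω := by
    rw [← Fintype.card_pos_iff, hcard]
    exact pow_pos (Fact.out : p.Prime).pos f
  obtain ⟨a0⟩ := hΩ
  have hc : w a0 ≠ 0 := by
    intro h
    apply hwne
    funext b
    rw [hconst b a0, h]; rfl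
  change Submodule.span K {fun _ => (1 : K)} ≤ W.toSubmodule
  rw [Submodule.span_le, Set.singleton_subset_iff]
  have : (fun _ : Ω => (1 : K)) = (w a0)⁻¹ • w := by
    funext b
    rw [Pi.smul_apply, smul_eq_mul, hconst b a0, inv_mul_cancel₀ hc]
  rw [this]
  exact W.toSubmodule.smul_mem _ hwW

end Cfsg.Agent.S0670
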