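import Cfsg.Statements.S0671
import Mathlib
import Cfsg.Agent.S0668
import Cfsg.Agent.S0670
-- import your own Cfsg.Agent.* helpers here

set_option autoImplicit false
open Cfsg

namespace Cfsg.Agent.S0671

open Cfsg.Agent.S0668 (Phi Phi_apply Phi_single quot_smul)

section
variable {G : Type*} [Group G] {K : Type*} [Field K] {Ω : Type*} [Fintype Ω] [MulAction G Ω]

theorem permRep_apply (g : G) (f : Ω → K) (x : Ω) :
    Cfsg.permRep K G Ω g f x = f (g⁻¹ • x) := rfl

/-- `Phi c` commutes with the group action -/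
theorem Phi_comm (c : MulAction.orbitRel.Quotient G (Ω × Ω) → K) (g : G) (f : Ω → K) :
    Phi c (Cfsg.permRep K G Ω g f) = Cfsg.permRep K G Ω g (Phi c f) := by
  funext y
  rw [permRep_apply, Phi_apply, Phi_apply]
  rw [← Equiv.sum_comp (MulAction.toPerm g)]
  apply Finset.sum_congr rfl
  intro x _
  rw [permRep_apply]
  change c (Quotient.mk'' (g • x, y)) * f (g⁻¹ • g • x) = _
  rw [inv_smul_smul]
  congr 2
  have := quot_smul (G := G) g⁻¹ (g • x) y
  rw [inv_smul_smul] at this
  exact this.symm

/-- the constant function `1` is fixed -/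
theorem permRep_one_fun (g : G) : Cfsg.permRep K G Ω g (fun _ => (1 : K)) = fun _ => (1 : K) := by
  funext y
  rfl

end

/-- If the heart of the permutation module in characteristic `p` of a transitive action of degree `p ^ f` has no trivial composition factor, the action is doubly transitive. The hypothesis is phrased without composition series: no invariant subspaces `W < W'` between the constants and the sum-zero functions with trivial action on the quotient. -/
theorem result {G : Type*} [Group G] [Finite G] {K : Type*} [Field K] {p f : ℕ} [Fact p.Prime] [CharP K p] {Ω : Type*} [Fintype Ω] [MulAction G Ω] [MulAction.IsPretransitive G Ω] (hf : 1 ≤ f) (hcard : Fintype.card Ω = p ^ f) (h : ∀ W W' : Subrepresentation (Cfsg.permRep K G Ω), (Cfsg.permConstants K G Ω).toSubmodule ≤ W.toSubmodule → W.toSubmodule < W'.toSubmodule → W'.toSubmodule ≤ (Cfsg.permSumZero K G Ω).toSubmodule → ∃ g : G, ∃ v ∈ W'.toSubmodule, Cfsg.permRep K G Ω g v - v ∉ W.toSubmodule) : MulAction.IsMultiplyPretransitive G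 Ω 2 := by
  classical
  by_contra hnot
  rw [MulAction.is_two_pretransitive_iff] at hnot
  push Not at hnot
  obtain ⟨a, b, c, d, hab, hcd, hno⟩ := hnot
  -- notation
  set ρ := Cfsg.permRep K G Ω with hρ
  set S := (Cfsg.permSumZero K G Ω) with hS
  set C := (Cfsg.permConstants K G Ω) with hC
  have memS : ∀ f : Ω → K, f ∈ S.toSubmodule ↔ ∑ x, f x = 0 := fun f => Iff.rfl
  have memC : ∀ f : Ω → K, f ∈ C.toSubmodule ↔ ∃ t : K, t • (fun _ : Ω => (1 : K)) = f := by
    intro f
    change f ∈ Submodule.span K {fun _ => (1 : K)} ↔ _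
    rw [Submodule.mem_span_singleton]
  -- the two orbitals
  let q1 : MulAction.orbitRel.Quotient G (Ω × Ω) := Quotient.mk'' (a, b)
  let q2 : MulAction.orbitRel.Quotient G (Ω × Ω) := Quotient.mk'' (c, d)
  have hq12 : q1 ≠ q2 := by
    intro heq
    have h1 : (a, b) ∈ MulAction.orbit G (c, d) := by
      have := Quotient.eq''.mp heq
      exact (MulAction.orbitRel_apply).mp this
    obtain ⟨g, hg⟩ := h1
    have e1 : g • c = a := congrArg Prod.fst hg
    have e2 : g • d = b := congrArg Prod.snd hg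
    exact hno g⁻¹ (by rw [← e1, inv_smul_smul]) (by rw [← e2, inv_smul_smul])
  let c1 : MulAction.orbitRel.Quotient G (Ω × Ω) → K := fun q => if q = q1 then 1 else 0
  let Φ : (Ω → K) →ₗ[K] (Ω → K) := Phi c1
  have hΦcomm : ∀ (g : G) (f : Ω → K), Φ (ρ g f) = ρ g (Φ f) := fun g f => Phi_comm c1 g f
  -- Φ 1 is constant
  have hΦ1 : ∀ y : Ω, Φ (fun _ => (1 : K)) y = Φ (fun _ => (1 : K)) a := by
    intro y
    obtain ⟨g, hg⟩ := MulAction.exists_smul_eq G y a
    have e := congrFun (hΦcomm g⁻¹ (fun _ => (1 : K))) y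
    rw [permRep_one_fun, permRep_apply, inv_inv, hg] at e
    exact e
  set k : K := Φ (fun _ => (1 : K)) a with hk
  let φ : (Ω → K) →ₗ[K] (Ω → K) := Φ - k • LinearMap.id
  have hφapply : ∀ f : Ω → K, φ f = Φ f - k • f := fun f => rfl
  have hφ1 : φ (fun _ => (1 : K)) = 0 := by
    funext y
    rw [hφapply, Pi.sub_apply, Pi.smul_apply, hΦ1 y, smul_eq_mul, mul_one, Pi.zero_apply, sub_self]
  have hφcomm : ∀ (g : G) (f : Ω → K), φ (ρ g f) = ρ g (φ f) := by
    intro g f
    rw [hφapply, hφapply, hΦcomm, map_sub, map_smul]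
  -- the constant function 1 lies in S
  have hcardK : ((Fintype.card Ω : ℕ) : K) = 0 := by
    rw [hcard, Nat.cast_pow, CharP.cast_eq_zero K p, zero_pow (by omega)]
  have h1S : (fun _ : Ω => (1 : K)) ∈ S.toSubmodule := by
    rw [memS]
    simp [hcardK]
  -- φ is non-zero on S
  obtain ⟨g0, hg0⟩ := MulAction.exists_smul_eq G d b
  set x' := g0 • c with hx'
  have hx'q : (Quotient.mk'' (x', b) : MulAction.orbitRel.Quotient G (Ω × Ω)) = q2 := by
    rw [← hg0]
    exact quot_smul g0 c d
  have hx'b : x' ≠ b := by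
    rw [← hg0]
    intro h
    exact hcd (MulAction.injective g0 h)
  let f0 : Ω → K := Pi.single a 1 - Pi.single x' 1
  have hf0S : f0 ∈ S.toSubmodule := by
    rw [memS]
    simp [f0, Finset.sum_sub_distrib]
  have hφf0 : φ f0 b = 1 := by
    rw [hφapply]
    simp only [f0, map_sub, Pi.sub_apply, Pi.smul_apply, smul_eq_mul]
    change Phi c1 (Pi.single a 1) b - Phi c1 (Pi.single x' 1) b -
      k * ((Pi.single a (1 : K) : Ω → K) b - (Pi.single x' (1 : K) : Ω → K) b) = 1
    rw [Phi_single, Phi_single, hx'q]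
    have e1 : c1 (Quotient.mk'' (a, b)) = 1 := if_pos rfl
    have e2 : c1 q2 = 0 := if_neg (Ne.symm hq12)
    rw [e1, e2, Pi.single_apply, Pi.single_apply, if_neg (Ne.symm hab), if_neg (Ne.symm hx'b)]
    ring
  -- the three subrepresentations
  let Wsub : Subrepresentation ρ :=
    { toSubmodule := S.toSubmodule ⊓ LinearMap.ker φ
      apply_mem_toSubmodule := by
        intro g v hv
        refine ⟨S.apply_mem_toSubmodule g hv.1, ?_⟩
        have hv2 : φ v = 0 := LinearMap.mem_ker.mp hv.2
        apply LinearMap.mem_ker.mpr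
        rw [hφcomm, hv2, map_zero] }
  let W'sub : Subrepresentation ρ :=
    { toSubmodule := S.toSubmodule ⊓ Submodule.comap φ C.toSubmodule
      apply_mem_toSubmodule := by
        intro g v hv
        refine ⟨S.apply_mem_toSubmodule g hv.1, ?_⟩
        apply Submodule.mem_comap.mpr
        rw [hφcomm]
        exact C.apply_mem_toSubmodule g (Submodule.mem_comap.mp hv.2) }
  let Isub : Subrepresentation ρ :=
    { toSubmodule := Submodule.map φ S.toSubmodule
      apply_mem_toSubmodule := by
        rintro g _ ⟨v, hv, rfl⟩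
        exact ⟨ρ g v, S.apply_mem_toSubmodule g hv, hφcomm g v⟩ }
  have hIne : Isub.toSubmodule ≠ ⊥ := by
    intro hbot
    have : φ f0 ∈ Isub.toSubmodule := ⟨f0, hf0S, rfl⟩
    rw [hbot, Submodule.mem_bot] at this
    have := congrFun this b
    rw [hφf0] at this
    exact one_ne_zero this
  have hCI : C.toSubmodule ≤ Isub.toSubmodule := Cfsg.Agent.S0670.result hf hcard Isub hIne
  have h1C : (fun _ : Ω => (1 : K)) ∈ C.toSubmodule := by
    rw [memC]; exact ⟨1, one_smul _ _⟩
  obtain ⟨f1, hf1S, hf1⟩ := hCI h1C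
  -- apply the hypothesis
  have hCW : C.toSubmodule ≤ Wsub.toSubmodule := by
    intro v hv
    obtain ⟨t, rfl⟩ := (memC v).mp hv
    refine ⟨S.toSubmodule.smul_mem t h1S, ?_⟩
    apply LinearMap.mem_ker.mpr
    rw [map_smul, hφ1, smul_zero]
  have hWW' : Wsub.toSubmodule < W'sub.toSubmodule := by
    refine lt_of_le_of_ne ?_ ?_
    · intro v hv
      refine ⟨hv.1, ?_⟩
      have hv2 : φ v = 0 := LinearMap.mem_ker.mp hv.2
      apply Submodule.mem_comap.mpr
      rw [hv2]
      exact C.toSubmodule.zero_mem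
    · intro heq
      have hf1W' : f1 ∈ W'sub.toSubmodule := by
        refine ⟨hf1S, ?_⟩
        apply Submodule.mem_comap.mpr
        rw [hf1]
        exact h1C
      rw [← heq] at hf1W'
      have h0 : φ f1 = 0 := LinearMap.mem_ker.mp hf1W'.2
      rw [hf1] at h0
      have h00 := congrFun h0 a
      exact one_ne_zero h00
  have hW'S : W'sub.toSubmodule ≤ S.toSubmodule := inf_le_left
  obtain ⟨g, v, hv, hvW⟩ := h Wsub W'sub hCW hWW' hW'S
  apply hvW
  refine ⟨S.toSubmodule.sub_mem (S.apply_mem_toSubmodule g hv.1) hv.1, ?_⟩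
  apply LinearMap.mem_ker.mpr
  rw [map_sub, hφcomm]
  obtain ⟨t, ht⟩ := (memC _).mp (Submodule.mem_comap.mp hv.2)
  rw [← ht, map_smul, permRep_one_fun, sub_self]

end Cfsg.Agent.S0671
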