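import Cfsg.Statements.S0675
import Mathlib
import Cfsg.Agent.Lib.Helper12.PrimeDegree
import Cfsg.Agent.S0671
import Cfsg.Agent.S0674
-- import your own Cfsg.Agent.* helpers here

set_option autoImplicit false
open Cfsg

namespace Cfsg.Agent.S0675

theorem aff2 : ∀ g : Equiv.Perm (ZMod 2), ∃ a b : ZMod 2, ∀ j, g j = a * j + b := by decide
theorem aff3 : ∀ g : Equiv.Perm (ZMod 3), ∃ a b : ZMod 3, ∀ j, g j = a * j + b := by decide

/-- transfer of solvability from an affine image -/
theorem solvable_of_equiv_affine {α : Type*} {n : ℕ} (e : α ≃ ZMod n)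
    (G : Subgroup (Equiv.Perm α))
    (haff : ∀ g : Equiv.Perm (ZMod n), ∃ a b : ZMod n, ∀ j, g j = a * j + b) :
    Group.IsSolvable G := by
  let c : Equiv.Perm α ≃* Equiv.Perm (ZMod n) := e.permCongrHom
  haveI : Group.IsSolvable (G.map (c : Equiv.Perm α →* Equiv.Perm (ZMod n))) :=
    Cfsg.Agent.Lib.Helper12.solvable_of_affine _ (fun g _ => haff g)
  exact Group.isSolvable_of_isSolvable_injective (f := (c.subgroupMap G).toMonoidHom)
    (c.subgroupMap G).injective

theorem small_solvable {α : Type*} [Fintype α] (G : Subgroup (Equiv.Perm α))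
    (h : Fintype.card α = 2 ∨ Fintype.card α = 3) : Group.IsSolvable G := by
  rcases h with h | h
  · exact solvable_of_equiv_affine (Fintype.equivOfCardEq (by rw [h, ZMod.card])) G aff2
  · exact solvable_of_equiv_affine (Fintype.equivOfCardEq (by rw [h, ZMod.card])) G aff3

/-- Burnside's Theorem on permutation groups of prime degree: a transitive permutation group of prime degree that is not solvable is doubly transitive. -/
theorem result {α : Type*} [Fintype α] [DecidableEq α] (hα : (Fintype.card α).Prime) (G : Subgroup (Equiv.Perm α)) [MulAction.IsPretransitive G α] : Group.IsSolvable G ∨ MulAction.IsMultiplyPretransitive G α 2 := by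
  classical
  by_cases hsolv : Group.IsSolvable G
  · left; exact hsolv
  right
  obtain ⟨p, hp⟩ : ∃ p : ℕ, Fintype.card α = p := ⟨_, rfl⟩
  rw [hp] at hα
  haveI : Fact p.Prime := ⟨hα⟩
  have hp5 : 5 ≤ p := by
    by_contra hlt
    push Not at hlt
    apply hsolv
    apply small_solvable G
    rw [hp]
    have h2 := hα.two_le
    interval_cases p
    · left; rfl
    · right; rfl
    · exfalso; exact absurd hα (by norm_num)
  apply Cfsg.Agent.S0671.result (K := ZMod p) (p := p) (f := 1) le_rfl (by rw [pow_one, hp])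
  intro W W' hCW hWW' hW'S
  have hW := Cfsg.Agent.S0674.result hp G hsolv W hCW (hWW'.le.trans hW'S)
  have hW' := Cfsg.Agent.S0674.result hp G hsolv W' (hCW.trans hWW'.le) hW'S
  have hWC : W = Cfsg.permConstants (ZMod p) G α := by
    rcases hW with h | h
    · exact h
    · exfalso
      rw [h] at hWW'
      exact absurd hW'S (not_le_of_gt hWW')
  have hW'S' : W' = Cfsg.permSumZero (ZMod p) G α := by
    rcases hW' with h | h
    · exfalso
      rw [h] at hWW'
      exact absurd hCW (not_le_of_gt hWW')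
    · exact h
  rw [hWC, hW'S']
  obtain ⟨σ, ι, hι⟩ := Cfsg.Agent.Lib.Helper12.exists_cycle_param hp G
  -- distinct points
  have hne : ∀ i j : ZMod p, i ≠ j → ι i ≠ ι j := fun i j h e => h (ι.injective e)
  have h01 : (0 : ZMod p) ≠ 1 := by
    intro h
    have := congrArg ZMod.val h
    rw [ZMod.val_zero, ZMod.val_one] at this
    omega
  have hval : ∀ k : ℕ, k < p → ((k : ZMod p)).val = k := fun k hk => ZMod.val_natCast_of_lt hk
  have hneq : ∀ a b : ℕ, a < p → b < p → a ≠ b → ((a : ZMod p)) ≠ (b : ZMod p) := by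
    intro a b ha hb hab h
    apply hab
    rw [← hval a ha, ← hval b hb, h]
  have hσ1 : (σ : Equiv.Perm α) (ι ((0 : ℕ) : ZMod p)) = ι ((1 : ℕ) : ZMod p) := by
    rw [← hι]; congr 1; push_cast; ring
  have hσ2 : (σ : Equiv.Perm α) (ι ((1 : ℕ) : ZMod p)) = ι ((2 : ℕ) : ZMod p) := by
    rw [← hι]; congr 1; push_cast; ring
  obtain ⟨a0, ha0⟩ : ∃ a0, a0 = ι ((0 : ℕ) : ZMod p) := ⟨_, rfl⟩
  obtain ⟨a1, ha1⟩ : ∃ a1, a1 = ι ((1 : ℕ) : ZMod p) := ⟨_, rfl⟩
  obtain ⟨a2, ha2⟩ : ∃ a2, a2 = ι ((2 : ℕ) : ZMod p) := ⟨_, rfl⟩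
  obtain ⟨a3, ha3⟩ : ∃ a3, a3 = ι ((3 : ℕ) : ZMod p) := ⟨_, rfl⟩
  have d01 : a0 ≠ a1 := by rw [ha0, ha1]; exact hne _ _ (hneq 0 1 (by omega) (by omega) (by omega))
  have d02 : a0 ≠ a2 := by rw [ha0, ha2]; exact hne _ _ (hneq 0 2 (by omega) (by omega) (by omega))
  have d03 : a0 ≠ a3 := by rw [ha0, ha3]; exact hne _ _ (hneq 0 3 (by omega) (by omega) (by omega))
  have d13 : a1 ≠ a3 := by rw [ha1, ha3]; exact hne _ _ (hneq 1 3 (by omega) (by omega) (by omega))
  have d23 : a2 ≠ a3 := by rw [ha2, ha3]; exact hne _ _ (hneq 2 3 (by omega) (by omega) (by omega))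
  have d12 : a1 ≠ a2 := by rw [ha1, ha2]; exact hne _ _ (hneq 1 2 (by omega) (by omega) (by omega))
  rw [← ha0, ← ha1] at hσ1
  rw [← ha1, ← ha2] at hσ2
  have hinv1 : (σ⁻¹ : G) • a1 = a0 := by
    rw [inv_smul_eq_iff]; exact hσ1.symm
  have hinv2 : (σ⁻¹ : G) • a2 = a1 := by
    rw [inv_smul_eq_iff]; exact hσ2.symm
  refine ⟨σ, (Pi.single a0 1 - Pi.single a1 1 : α → ZMod p), ?_, ?_⟩
  · change ∑ x, (Pi.single a0 (1 : ZMod p) - Pi.single a1 (1 : ZMod p) : α → ZMod p) x = 0
    simp [Finset.sum_sub_distrib]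
  · intro hmem
    have hmem' : (Cfsg.permRep (ZMod p) G α σ (Pi.single a0 1 - Pi.single a1 1 : α → ZMod p) -
        (Pi.single a0 1 - Pi.single a1 1 : α → ZMod p)) ∈
        Submodule.span (ZMod p) {fun _ : α => (1 : ZMod p)} := hmem
    rw [Submodule.mem_span_singleton] at hmem'
    obtain ⟨t, ht⟩ := hmem'
    have hrep : ∀ (f : α → ZMod p) (x : α), Cfsg.permRep (ZMod p) G α σ f x = f (σ⁻¹ • x) :=
      fun f x => rfl
    -- evaluate at a3 and a0
    have e3 := congrFun ht a3
    have e0 := congrFun ht a0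
    simp only [Pi.smul_apply, smul_eq_mul, mul_one, Pi.sub_apply, hrep] at e3 e0
    have hs3a0 : (σ⁻¹ : G) • a3 ≠ a0 := by
      intro h
      have h' : (σ⁻¹ : G) • a3 = (σ⁻¹ : G) • a1 := h.trans hinv1.symm
      exact d13 (MulAction.injective _ h').symm
    have hs3a1 : (σ⁻¹ : G) • a3 ≠ a1 := by
      intro h
      have h' : (σ⁻¹ : G) • a3 = (σ⁻¹ : G) • a2 := h.trans hinv2.symm
      exact d23 (MulAction.injective _ h').symm
    have hs0a0 : (σ⁻¹ : G) • a0 ≠ a0 := by
      intro h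
      have h' : (σ⁻¹ : G) • a0 = (σ⁻¹ : G) • a1 := h.trans hinv1.symm
      exact d01 (MulAction.injective _ h')
    have hs0a1 : (σ⁻¹ : G) • a0 ≠ a1 := by
      intro h
      have h' : (σ⁻¹ : G) • a0 = (σ⁻¹ : G) • a2 := h.trans hinv2.symm
      exact d02 (MulAction.injective _ h')
    rw [Pi.single_apply, Pi.single_apply, Pi.single_apply, Pi.single_apply,
      if_neg hs3a0, if_neg hs3a1, if_neg (Ne.symm d03), if_neg (Ne.symm d13)] at e3
    rw [Pi.single_apply, Pi.single_apply, Pi.single_apply, Pi.single_apply,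
      if_neg hs0a0, if_neg hs0a1, if_pos rfl, if_neg d01] at e0
    have ht0 : t = 0 := by simpa using e3
    rw [ht0] at e0
    have : (1 : ZMod p) = 0 := by
      have := e0
      simp at this
    exact one_ne_zero this

end Cfsg.Agent.S0675
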