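import Cfsg.Statements.S0676
import Mathlib
import Cfsg.Agent.Lib.Helper12.PrimeDegree
import Cfsg.Agent.Lib.Helper12.PrimeDegree2
import Cfsg.Agent.S0672
import Cfsg.Agent.S0674
import Cfsg.Agent.S0675
-- import your own Cfsg.Agent.* helpers here

set_option autoImplicit false
open Cfsg
open scoped Pointwise

namespace Cfsg.Agent.S0676

set_option maxHeartbeats 800000 in
open MulAction in
/-- A non-solvable transitive permutation group of prime degree `p` whose Sylow `p`-normaliser has even order is triply transitive. -/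
theorem result {α : Type*} [Fintype α] [DecidableEq α] {p : ℕ} [Fact p.Prime] (hα : Fintype.card α = p) (G : Subgroup (Equiv.Perm α)) [MulAction.IsPretransitive G α] (hG : ¬ Group.IsSolvable G) (P : Sylow p G) (heven : Even (Nat.card (Subgroup.normalizer ((P : Subgroup G) : Set G)))) : MulAction.IsMultiplyPretransitive G α 3 := by
  classical
  have hp := (Fact.out : p.Prime)
  have hp5 : 5 ≤ p := by
    by_contra hlt
    push Not at hlt
    apply hG
    apply Cfsg.Agent.S0675.small_solvable G
    rw [hα]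
    have h2 := hp.two_le
    interval_cases p
    · left; rfl
    · right; rfl
    · exfalso; exact absurd hp (by norm_num)
  have hp2 : p ≠ 2 := by omega
  have h2ne : (2 : ZMod p) ≠ 0 := by
    intro h2
    have : ((2 : ℕ) : ZMod p) = 0 := by exact_mod_cast h2
    rw [ZMod.natCast_eq_zero_iff] at this
    exact hp2 ((Nat.prime_dvd_prime_iff_eq hp Nat.prime_two).mp this)
  have h2t : IsMultiplyPretransitive G α 2 := by
    rcases Cfsg.Agent.S0675.result (by rw [hα]; exact hp) G with h | h
    · exact absurd h hG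
    · exact h
  have hcardG : ∀ a : α, Nat.card G = p * Nat.card (stabilizer G a) := by
    intro a
    have h1 := MulAction.index_stabilizer_of_transitive G a
    have h2 := (stabilizer G a).card_mul_index
    have hα' : Nat.card α = p := by rw [Nat.card_eq_fintype_card, hα]
    rw [h1, hα'] at h2
    rw [← h2, mul_comm]
  have hevenG : Even (Nat.card G) := by
    have hdvd := Subgroup.card_subgroup_dvd_card (Subgroup.normalizer ((P : Subgroup G) : Set G))
    exact (even_iff_two_dvd.mpr (heven.two_dvd.trans hdvd))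
  have hstab_even : ∀ a : α, Even (Nat.card (stabilizer G a)) := by
    intro a
    rw [hcardG a] at hevenG
    rcases Nat.even_mul.mp hevenG with h | h
    · exfalso
      have := (Nat.Prime.even_iff hp).mp h
      exact hp2 this
    · exact h
  apply Cfsg.Agent.S0672.result (K := ZMod p) (p := p) h2t (by rw [hα]) hstab_even
  intro f hf
  -- notation
  obtain ⟨a00⟩ : Nonempty α := by
    rw [← Fintype.card_pos_iff, hα]; exact hp.pos
  -- the Sylow subgroup has order p
  have hPcard : Nat.card P = p := by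
    rw [Sylow.card_eq_multiplicity, hcardG a00]
    have hm0 : Nat.card (stabilizer G a00) ≠ 0 := Nat.card_pos.ne'
    have hdvd : Nat.card G ∣ (p).factorial := by
      have := Subgroup.card_subgroup_dvd_card G
      rwa [Nat.card_eq_fintype_card (α := Equiv.Perm α), Fintype.card_perm, hα] at this
    have hnd : ¬ p ∣ Nat.card (stabilizer G a00) := by
      intro hd
      rw [hcardG a00] at hdvd
      have h1 : p * Nat.card (stabilizer G a00) ∣ p * (p - 1).factorial := by
        rwa [Nat.mul_factorial_pred hp.pos.ne']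
      have h2 := (Nat.mul_dvd_mul_iff_left hp.pos).mp h1
      have h3 := hd.trans h2
      rw [hp.dvd_factorial] at h3
      omega
    rw [Nat.factorization_mul hp.ne_zero hm0, Finsupp.add_apply, hp.factorization_self,
      Nat.factorization_eq_zero_of_not_dvd hnd, pow_one]
  have : IsCyclic P := isCyclic_of_prime_card hPcard
  obtain ⟨gP, hgP⟩ := IsCyclic.exists_generator (α := P)
  have hordg : orderOf gP = p := by
    rw [orderOf_eq_card_of_forall_mem_zpowers hgP, hPcard]
  obtain ⟨σG, hσG⟩ : ∃ σG : G, σG = (gP : G) := ⟨_, rfl⟩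
  obtain ⟨s, hs⟩ : ∃ s : Equiv.Perm α, s = (σG : Equiv.Perm α) := ⟨_, rfl⟩
  have hords : orderOf s = p := by
    rw [hs, Subgroup.orderOf_coe, hσG, Subgroup.orderOf_coe, hordg]
  obtain ⟨ι, hι⟩ := Cfsg.Agent.Lib.Helper12.cycle_param hα s hords
  -- the involution
  have : Fact (Nat.Prime 2) := ⟨Nat.prime_two⟩
  obtain ⟨tN, htN⟩ := exists_prime_orderOf_dvd_card'
    (G := Subgroup.normalizer ((P : Subgroup G) : Set G)) 2 heven.two_dvd
  obtain ⟨tG, htG⟩ : ∃ tG : G, tG = (tN : G) := ⟨_, rfl⟩
  have htG2 : tG * tG = 1 := by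
    have := pow_orderOf_eq_one tN
    rw [htN, pow_two] at this
    rw [htG]
    exact congrArg Subtype.val this
  have htG1 : tG ≠ 1 := by
    intro h1
    have : tN = 1 := Subtype.ext (by rw [← htG, h1]; rfl)
    rw [this, orderOf_one] at htN
    omega
  have htGinv : tG⁻¹ = tG := inv_eq_of_mul_eq_one_right htG2
  -- conjugation of the generator
  obtain ⟨k, hk⟩ : ∃ k : ℕ, tG * σG = σG ^ k * tG := by
    have hmemN : tG ∈ Subgroup.normalizer ((P : Subgroup G) : Set G) := by
      rw [htG]; exact tN.2
    have hconj : tG * σG * tG⁻¹ ∈ (P : Subgroup G) := by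
      rw [Subgroup.mem_normalizer_iff] at hmemN
      exact (hmemN σG).mp (by rw [hσG]; exact gP.2)
    have hz : (⟨tG * σG * tG⁻¹, hconj⟩ : P) ∈ Subgroup.zpowers gP := hgP _
    have hfo : IsOfFinOrder gP := isOfFinOrder_of_finite gP
    rw [← hfo.mem_powers_iff_mem_zpowers, Submonoid.mem_powers_iff] at hz
    obtain ⟨k, hk⟩ := hz
    refine ⟨k, ?_⟩
    have hk' := congrArg (fun z : P => (z : G)) hk
    simp only [Subgroup.coe_pow] at hk'
    rw [← hσG] at hk'
    rw [hk']
    group
  obtain ⟨tP, htP⟩ : ∃ tP : Equiv.Perm α, tP = (tG : Equiv.Perm α) := ⟨_, rfl⟩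
  have htP2 : tP * tP = 1 := by
    rw [htP, ← Subgroup.coe_mul, htG2]; rfl
  have htP1 : tP ≠ 1 := by
    intro h1
    apply htG1
    apply Subtype.ext
    rw [← htP, h1]; rfl
  have hkP : tP * s = s ^ k * tP := by
    rw [htP, hs, ← Subgroup.coe_mul, hk]
    rfl
  obtain ⟨c, hc⟩ := Cfsg.Agent.Lib.Helper12.involution_normalizing hp2 s tP ι hι htP2 htP1 k hkP
  -- the coordinate function
  obtain ⟨x, hx⟩ : ∃ x : α → ZMod p, ∀ a, x a = ι.symm a := ⟨fun a => ι.symm a, fun _ => rfl⟩
  have hxι : ∀ j, x (ι j) = j := by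
    intro j; rw [hx, Equiv.symm_apply_apply]
  have hxS : x ∈ (Cfsg.permSumZero (ZMod p) G α).toSubmodule := by
    change ∑ a, x a = 0
    have h1 : ∑ a, x a = ∑ j : ZMod p, j := by
      rw [← Equiv.sum_comp ι]
      exact Finset.sum_congr rfl (fun j _ => hxι j)
    rw [h1]
    have h2 : ∑ j : ZMod p, j = ∑ j : ZMod p, -j :=
      (Equiv.sum_comp (Equiv.neg (ZMod p)) (fun j => j)).symm
    rw [Finset.sum_neg_distrib] at h2
    have h3 : (2 : ZMod p) * ∑ j : ZMod p, j = 0 := by linear_combination h2
    rcases mul_eq_zero.mp h3 with h | h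
    · exact absurd h h2ne
    · exact h
  have h1S : (fun _ : α => (1 : ZMod p)) ∈ (Cfsg.permSumZero (ZMod p) G α).toSubmodule := by
    change ∑ _a : α, (1 : ZMod p) = 0
    simp [hα]
  have h1C : (fun _ : α => (1 : ZMod p)) ∈ (Cfsg.permConstants (ZMod p) G α).toSubmodule :=
    Submodule.subset_span rfl
  obtain ⟨xS, hxSv⟩ : ∃ xS : (Cfsg.permSumZero (ZMod p) G α).toSubmodule, (xS : α → ZMod p) = x :=
    ⟨⟨x, hxS⟩, rfl⟩
  obtain ⟨oneS, honeSv⟩ : ∃ oneS : (Cfsg.permSumZero (ZMod p) G α).toSubmodule,
      (oneS : α → ZMod p) = fun _ => 1 := ⟨⟨_, h1S⟩, rfl⟩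
  have hf1 : f oneS = 0 := hf oneS (by rw [honeSv]; exact h1C)
  -- the action on x
  have hrep : ∀ (g : G) (u : α → ZMod p) (a : α),
      Cfsg.permRep (ZMod p) G α g u a = u (g⁻¹ • a) := fun g u a => rfl
  have hσx : Cfsg.permRep (ZMod p) G α σG x = x - (fun _ => 1) := by
    funext a
    obtain ⟨j, rfl⟩ := ι.surjective a
    rw [hrep, Pi.sub_apply, hxι]
    have : σG⁻¹ • ι j = ι (j - 1) := by
      rw [inv_smul_eq_iff]
      have hsm : σG • ι (j - 1) = s (ι (j - 1)) := by rw [hs]; rfl
      rw [hsm, ← hι, sub_add_cancel]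
    rw [this, hxι]
  have htx : Cfsg.permRep (ZMod p) G α tG x = -x + c • (fun _ => 1) := by
    funext a
    obtain ⟨j, rfl⟩ := ι.surjective a
    rw [hrep, Pi.add_apply, Pi.neg_apply, Pi.smul_apply, hxι, htGinv]
    have hsm : tG • ι j = tP (ι j) := by rw [htP]; rfl
    rw [hsm, hc, hxι]
    simp
  -- f x
  obtain ⟨y, hy⟩ : ∃ y : Set.powersetCard α 2 → ZMod p, y = f xS := ⟨_, rfl⟩
  have hfσ : Cfsg.permRep (ZMod p) G (Set.powersetCard α 2) σG y = y := by
    have h := Representation.IntertwiningMap.isIntertwining _ _ f σG xS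
    have : (Cfsg.permSumZero (ZMod p) G α).toRepresentation σG xS = xS - oneS := by
      apply Subtype.ext
      change Cfsg.permRep (ZMod p) G α σG (xS : α → ZMod p) = (xS : α → ZMod p) - (oneS : α → ZMod p)
      rw [hxSv, honeSv]
      exact hσx
    rw [this, map_sub, hf1, sub_zero] at h
    rw [hy]
    exact h.symm
  have hft : Cfsg.permRep (ZMod p) G (Set.powersetCard α 2) tG y = -y := by
    have h := Representation.IntertwiningMap.isIntertwining _ _ f tG xS
    have : (Cfsg.permSumZero (ZMod p) G α).toRepresentation tG xS = -xS + c • oneS := by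
      apply Subtype.ext
      change Cfsg.permRep (ZMod p) G α tG (xS : α → ZMod p) =
        -(xS : α → ZMod p) + c • (oneS : α → ZMod p)
      rw [hxSv, honeSv]
      exact htx
    rw [this, map_add, map_neg, map_smul, hf1, smul_zero, add_zero] at h
    rw [hy]
    exact h.symm
  have hrep2 : ∀ (g : G) (u : Set.powersetCard α 2 → ZMod p) (s' : Set.powersetCard α 2),
      Cfsg.permRep (ZMod p) G (Set.powersetCard α 2) g u s' = u (g⁻¹ • s') := fun g u s' => rfl
  have hyσ : ∀ s' : Set.powersetCard α 2, y (σG • s') = y s' := by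
    intro s'
    have := congrFun hfσ (σG • s')
    rw [hrep2, inv_smul_smul] at this
    exact this.symm
  have hyσn : ∀ (n : ℕ) (s' : Set.powersetCard α 2), y (σG ^ n • s') = y s' := by
    intro n
    induction n with
    | zero => intro s'; rw [pow_zero, one_smul]
    | succ n ih =>
      intro s'
      rw [pow_succ, mul_smul, ih, hyσ]
  have hyt : ∀ s' : Set.powersetCard α 2, y (tG • s') = - y s' := by
    intro s'
    have := congrFun hft s'
    rw [hrep2, htGinv, Pi.neg_apply] at this
    exact this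
  have hy0 : y = 0 := by
    funext s'
    obtain ⟨a, b, hab, hs'⟩ := Finset.card_eq_two.mp s'.2
    obtain ⟨i, rfl⟩ := ι.surjective a
    obtain ⟨j, rfl⟩ := ι.surjective b
    have hsmul : ∀ g : G, ((g • s' : Set.powersetCard α 2) : Finset α) = {g • ι i, g • ι j} := by
      intro g
      have h0 : ((g • s' : Set.powersetCard α 2) : Finset α) = g • (s' : Finset α) :=
        Set.powersetCard.coe_smul
      rw [h0, hs', Finset.smul_finset_insert, Finset.smul_finset_singleton]
    have hpow : ∀ (n : ℕ) (z : ZMod p), σG ^ n • ι z = ι (z + n) := by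
      intro n z
      have := Cfsg.Agent.Lib.Helper12.cycle_param_pow s ι hι n z
      rw [← this, hs]
      rfl
    have heq : tG • s' = σG ^ (c - i - j).val • s' := by
      apply Subtype.ext
      rw [hsmul, hsmul, hpow, hpow, ZMod.natCast_zmod_val]
      have hsm : ∀ z, tG • ι z = tP (ι z) := by intro z; rw [htP]; rfl
      rw [hsm, hsm, hc, hc, Finset.pair_comm]
      have e1 : ι (-j + c) = ι (i + (c - i - j)) := by congr 1; ring
      have e2 : ι (-i + c) = ι (j + (c - i - j)) := by congr 1; ring
      rw [e1, e2]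
    have h1 := hyt s'
    rw [heq, hyσn] at h1
    have h2 : (2 : ZMod p) * y s' = 0 := by linear_combination h1
    rcases mul_eq_zero.mp h2 with h | h
    · exact absurd h h2ne
    · exact h
  -- the kernel as a subrepresentation
  let W : Subrepresentation (Cfsg.permRep (ZMod p) G α) :=
    { toSubmodule := (LinearMap.ker f.toLinearMap).map
        (Cfsg.permSumZero (ZMod p) G α).toSubmodule.subtype
      apply_mem_toSubmodule := by
        intro g v hv
        rw [Submodule.mem_map] at hv ⊢
        obtain ⟨u, hu, rfl⟩ := hv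
        refine ⟨(Cfsg.permSumZero (ZMod p) G α).toRepresentation g u, ?_, rfl⟩
        rw [LinearMap.mem_ker] at hu ⊢
        change f ((Cfsg.permSumZero (ZMod p) G α).toRepresentation g u) = 0
        have h := Representation.IntertwiningMap.isIntertwining _ _ f g u
        have hu' : f u = 0 := hu
        rw [hu', map_zero] at h
        exact h }
  have hWmem : ∀ v : α → ZMod p, v ∈ W.toSubmodule ↔
      ∃ hv : v ∈ (Cfsg.permSumZero (ZMod p) G α).toSubmodule, f ⟨v, hv⟩ = 0 := by
    intro v
    constructor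
    · intro hv
      have hv' : v ∈ (LinearMap.ker f.toLinearMap).map
        (Cfsg.permSumZero (ZMod p) G α).toSubmodule.subtype := hv
      rw [Submodule.mem_map] at hv'
      obtain ⟨u, hu, rfl⟩ := hv'
      exact ⟨u.2, LinearMap.mem_ker.mp hu⟩
    · rintro ⟨hv, hfv⟩
      have : v ∈ (LinearMap.ker f.toLinearMap).map
          (Cfsg.permSumZero (ZMod p) G α).toSubmodule.subtype := by
        rw [Submodule.mem_map]
        exact ⟨⟨v, hv⟩, LinearMap.mem_ker.mpr hfv, rfl⟩
      exact this
  have hCS : (Cfsg.permConstants (ZMod p) G α).toSubmodule ≤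
      (Cfsg.permSumZero (ZMod p) G α).toSubmodule := by
    intro v hv
    have hv' : v ∈ Submodule.span (ZMod p) {fun _ : α => (1 : ZMod p)} := hv
    rw [Submodule.mem_span_singleton] at hv'
    obtain ⟨r, rfl⟩ := hv'
    exact Submodule.smul_mem _ r h1S
  have h₁ : (Cfsg.permConstants (ZMod p) G α).toSubmodule ≤ W.toSubmodule := by
    intro v hv
    rw [hWmem]
    exact ⟨hCS hv, hf ⟨v, hCS hv⟩ hv⟩
  have h₂ : W.toSubmodule ≤ (Cfsg.permSumZero (ZMod p) G α).toSubmodule := by
    intro v hv
    obtain ⟨hv', -⟩ := (hWmem v).mp hv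
    exact hv'
  rcases Cfsg.Agent.S0674.result hα G hG W h₁ h₂ with hW | hW
  · exfalso
    have hxW : x ∈ W.toSubmodule := by
      rw [hWmem]
      refine ⟨hxS, ?_⟩
      have : (⟨x, hxS⟩ : (Cfsg.permSumZero (ZMod p) G α).toSubmodule) = xS :=
        Subtype.ext hxSv.symm
      rw [this, ← hy, hy0]
    rw [hW] at hxW
    have hx' : x ∈ Submodule.span (ZMod p) {fun _ : α => (1 : ZMod p)} := hxW
    rw [Submodule.mem_span_singleton] at hx'
    obtain ⟨r, hr⟩ := hx'
    have e0 := congrFun hr (ι 0)
    have e1 := congrFun hr (ι 1)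
    rw [hxι] at e0 e1
    simp only [Pi.smul_apply, smul_eq_mul, mul_one] at e0 e1
    rw [e0] at e1
    exact zero_ne_one e1
  · apply Representation.IntertwiningMap.ext
    apply LinearMap.ext
    intro v
    have hvW : (v : α → ZMod p) ∈ W.toSubmodule := by
      rw [hW]; exact v.2
    obtain ⟨hv', hfv⟩ := (hWmem _).mp hvW
    exact hfv

end Cfsg.Agent.S0676
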