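import Cfsg.Statements.S4702
import Cfsg.Agent.S0727
import Cfsg.Agent.S0683
import Cfsg.Agent.S0682
import Cfsg.Agent.S0265
-- import your own Cfsg.Agent.* helpers here

set_option autoImplicit false
open Cfsg

namespace Cfsg.Agent.S4702

open scoped MatrixGroups

/-- the degree of a sharply 3-transitive group of odd degree is `2^a + 1` -/
theorem card_eq {α : Type*} [Fintype α] [DecidableEq α] (hm : 3 ≤ Fintype.card α)
    (hodd : Odd (Fintype.card α)) (G : Subgroup (Equiv.Perm α))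
    (T3 : ∀ a b c a' b' c' : α, a ≠ b → a ≠ c → b ≠ c → a' ≠ b' → a' ≠ c' → b' ≠ c' →
      ∃ g ∈ G, g a = a' ∧ g b = b' ∧ g c = c')
    (S3 : ∀ g ∈ G, ∀ a b c : α, a ≠ b → a ≠ c → b ≠ c → g a = a → g b = b → g c = c → g = 1) :
    ∃ a : ℕ, 1 ≤ a ∧ Fintype.card α = 2 ^ a + 1 := by
  classical
  have hne : Nonempty α := by
    rw [← Fintype.card_pos_iff]; omega
  obtain ⟨inf⟩ := hne
  have hβcard : Fintype.card {x : α // x ≠ inf} + 1 = Fintype.card α := by
    have := Fintype.card_congr (Equiv.optionSubtypeNe inf)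
    rw [Fintype.card_option] at this
    omega
  have hres : ∀ g : Equiv.Perm α, g inf = inf → ∀ x : α, g x ≠ inf ↔ x ≠ inf := by
    intro g hg x
    rw [not_iff_not]
    constructor
    · intro h
      apply g.injective
      rw [h, hg]
    · intro h
      rw [h, hg]
  let H : Subgroup (Equiv.Perm {x : α // x ≠ inf}) :=
    { carrier := {σ | ∃ g ∈ G, g inf = inf ∧ ∀ x : {x : α // x ≠ inf}, (σ x : α) = g x}
      one_mem' := ⟨1, G.one_mem, rfl, fun x => rfl⟩
      mul_mem' := by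
        rintro σ₁ σ₂ ⟨g₁, hg₁, h₁, h₁'⟩ ⟨g₂, hg₂, h₂, h₂'⟩
        refine ⟨g₁ * g₂, G.mul_mem hg₁ hg₂, by simp [h₁, h₂], fun x => ?_⟩
        simp [h₁', h₂']
      inv_mem' := by
        rintro σ ⟨g, hg, h, h'⟩
        refine ⟨g⁻¹, G.inv_mem hg, ?_, fun x => ?_⟩
        · rw [Equiv.Perm.inv_eq_iff_eq]; exact h.symm
        · rw [Equiv.Perm.eq_inv_iff_eq, ← h']; simp }
  have hHres : ∀ g ∈ G, ∀ hg : g inf = inf, g.subtypePerm (hres g hg) ∈ H := by
    intro g hgG hg
    exact ⟨g, hgG, hg, fun x => rfl⟩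
  have h2H : MulAction.IsMultiplyPretransitive H {x : α // x ≠ inf} 2 := by
    rw [MulAction.is_two_pretransitive_iff]
    intro a b c d hab hcd
    obtain ⟨g, hgG, hg0, hga, hgb⟩ := T3 inf a b inf c d (Ne.symm a.2) (Ne.symm b.2)
      (fun h => hab (Subtype.ext h)) (Ne.symm c.2) (Ne.symm d.2) (fun h => hcd (Subtype.ext h))
    refine ⟨⟨g.subtypePerm (hres g hg0), hHres g hgG hg0⟩, ?_, ?_⟩
    · apply Subtype.ext
      exact hga
    · apply Subtype.ext
      exact hgb
  have hsharpH : ∀ x : Fin 2 ↪ {x : α // x ≠ inf}, MulAction.stabilizer H x = ⊥ := by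
    intro x
    rw [eq_bot_iff]
    rintro ⟨σ, hσ⟩ hs
    rw [Subgroup.mem_bot]
    rw [MulAction.mem_stabilizer_iff] at hs
    have h0 : σ (x 0) = x 0 := DFunLike.congr_fun hs 0
    have h1 : σ (x 1) = x 1 := DFunLike.congr_fun hs 1
    obtain ⟨g, hgG, hg0, hgx⟩ := hσ
    have hne01 : x 0 ≠ x 1 := fun h => by simpa using x.injective h
    have hg1 : g = 1 := S3 g hgG inf (x 0) (x 1) (Ne.symm (x 0).2) (Ne.symm (x 1).2)
      (fun h => hne01 (Subtype.ext h)) hg0 (by rw [← hgx, h0]) (by rw [← hgx, h1])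
    apply Subtype.ext
    ext y
    show ((σ y : {x : α // x ≠ inf}) : α) = y
    rw [hgx, hg1]
    rfl
  obtain ⟨nf, -⟩ := Cfsg.Agent.S0683.result H hsharpH (by omega)
  obtain ⟨p, j, hp, hj, hcard, -, -⟩ := @Cfsg.Agent.S0682.result {x : α // x ≠ inf} nf _
  rw [Nat.card_eq_fintype_card] at hcard
  have heven : Even (p ^ j) := by
    rw [← hcard]
    obtain ⟨r, hr⟩ := hodd
    exact ⟨r, by omega⟩
  have hp2 : p = 2 := by
    have := (Nat.Prime.even_iff hp).1 ((Nat.even_pow.1 heven).1)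
    exact this
  refine ⟨j, hj, ?_⟩
  rw [← hβcard, hcard, hp2]

/-- in characteristic 2, `SL(2,F) ≃* PGL(2,F)` -/
theorem sl_equiv_pgl (F : Type) [Field F] [Fintype F] (a : ℕ) (hF : Fintype.card F = 2 ^ a) :
    Nonempty (Matrix.SpecialLinearGroup (Fin 2) F ≃* Matrix.ProjGenLinGroup (Fin 2) F) := by
  classical
  -- characteristic 2
  have h2 : (2 : F) = 0 := by
    obtain ⟨p, hp⟩ := CharP.exists F
    have hpp : p.Prime := by
      have := CharP.char_is_prime F p
      exact this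
    have : Fact p.Prime := ⟨hpp⟩
    obtain ⟨n, -, hn⟩ := FiniteField.card F p
    rw [hF] at hn
    have hdvd : p ∣ 2 ^ a := by rw [hn]; exact dvd_pow_self p n.pos.ne'
    have hp2 : p = 2 := (Nat.prime_dvd_prime_iff_eq hpp Nat.prime_two).1 (hpp.dvd_of_dvd_pow hdvd)
    subst hp2
    exact_mod_cast CharP.cast_eq_zero F 2
  have hinj : Function.Injective (Matrix.SpecialLinearGroup.toPGL (n := Fin 2) (R := F)) := by
    rw [← MonoidHom.ker_eq_bot_iff, Matrix.SpecialLinearGroup.toPGL_ker, eq_bot_iff]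
    intro A hA
    rw [Matrix.SpecialLinearGroup.mem_center_iff] at hA
    obtain ⟨r, hr, hrA⟩ := hA
    rw [Subgroup.mem_bot]
    have hr1 : r = 1 := by
      rw [Fintype.card_fin] at hr
      have : (r - 1) ^ 2 = 0 := by
        have : (r - 1) ^ 2 = r ^ 2 - 2 * r + 1 := by ring
        rw [this, hr, h2]; ring_nf; exact h2
      have := pow_eq_zero_iff (two_ne_zero) |>.1 this
      exact sub_eq_zero.1 this
    apply Subtype.ext
    rw [← hrA, hr1]
    simp
  have hcard : Nat.card (Matrix.SpecialLinearGroup (Fin 2) F)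
      = Nat.card (Matrix.ProjGenLinGroup (Fin 2) F) := (Cfsg.Agent.S0265.result (F := F) 2).symm
  have hfin : Finite (Matrix.ProjGenLinGroup (Fin 2) F) := by
    apply Nat.finite_of_card_ne_zero
    rw [← hcard]
    exact Nat.card_pos.ne'
  have hbij : Function.Bijective (Matrix.SpecialLinearGroup.toPGL (n := Fin 2) (R := F)) :=
    (Nat.bijective_iff_injective_and_card _).2 ⟨hinj, hcard⟩
  exact ⟨MulEquiv.ofBijective _ hbij⟩

/-- Let G be a triply transitive permutation group on a finite set of odd size m ≥ 3 in which only the identity fixes three or more points. Then m = 2^a + 1 for some a ≥ 1 and G is isomorphic to SL(2, 2^a). -/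
theorem result {α : Type*} [Fintype α] [DecidableEq α] (hm : 3 ≤ Fintype.card α) (hodd : Odd (Fintype.card α)) (G : Subgroup (Equiv.Perm α)) (h3 : MulAction.IsMultiplyPretransitive G α 3) (hfix : ∀ g : G, 3 ≤ Nat.card (MulAction.fixedBy α g) → g = 1) : ∃ a : ℕ, 1 ≤ a ∧ Fintype.card α = 2 ^ a + 1 ∧ ∃ (F : Type) (_ : Field F) (_ : Fintype F), Fintype.card F = 2 ^ a ∧ Nonempty (G ≃* Matrix.SpecialLinearGroup (Fin 2) F) := by
  classical
  have hsharp : ∀ x : Fin 3 ↪ α, MulAction.stabilizer G x = ⊥ := by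
    intro x
    rw [eq_bot_iff]
    intro g hg
    rw [Subgroup.mem_bot]
    apply hfix g
    rw [MulAction.mem_stabilizer_iff] at hg
    have hfixed : ∀ i : Fin 3, x i ∈ MulAction.fixedBy α g := by
      intro i
      rw [MulAction.mem_fixedBy]
      exact DFunLike.congr_fun hg i
    have hinj : Function.Injective (fun i : Fin 3 => (⟨x i, hfixed i⟩ : MulAction.fixedBy α g)) := by
      intro i j hij
      exact x.injective (congrArg Subtype.val hij)
    have := Nat.card_le_card_of_injective _ hinj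
    rwa [Nat.card_eq_fintype_card, Fintype.card_fin] at this
  have T3 := Cfsg.Agent.S0727.T3_of G h3
  have S3 := Cfsg.Agent.S0727.S3_of G hsharp
  obtain ⟨a, ha, hcard⟩ := card_eq hm hodd G T3 S3
  obtain ⟨F, fF, ftF, hFcard, ⟨e⟩⟩ := Cfsg.Agent.S0727.result ha hcard G h3 hsharp
  obtain ⟨e'⟩ := @sl_equiv_pgl F fF ftF a hFcard
  exact ⟨a, ha, hcard, F, fF, ftF, hFcard, ⟨e.trans e'.symm⟩⟩

end Cfsg.Agent.S4702
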