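import Cfsg.Statements.S4706
import Cfsg.Agent.S0676
import Cfsg.Agent.S4702
import Cfsg.Agent.Lib.Helper78.PrimeDegSharp
import Cfsg.Agent.Lib.Helper78.PrimeDegSolvable
-- import your own Cfsg.Agent.* helpers here

set_option autoImplicit false
open Cfsg

namespace Cfsg.Agent.S4706

/-- Let p > 2 be a prime and G a permutation group on p letters whose Sylow p-subgroup P has normalizer of order 2p. Then either P is normal in G, or p − 1 = 2^a for some a and G is isomorphic to SL(2, 2^a). -/
theorem result {α : Type*} [Fintype α] [DecidableEq α] {p : ℕ} [Fact p.Prime] (hp : 2 < p) (hα : Fintype.card α = p) (G : Subgroup (Equiv.Perm α)) (P : Sylow p G) (hN : Nat.card (Subgroup.normalizer ((P : Subgroup G) : Set G)) = 2 * p) : (P : Subgroup G).Normal ∨ ∃ (a : ℕ) (F : Type) (_ : Field F) (_ : Fintype F), p = 2 ^ a + 1 ∧ Fintype.card F = 2 ^ a ∧ Nonempty (G ≃* Matrix.SpecialLinearGroup (Fin 2) F) := by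
  classical
  have hpr : p.Prime := Fact.out
  -- `G` contains a `p`-cycle, hence is transitive
  have hdvd : p ∣ Nat.card G := by
    have h1 : p ∣ Nat.card (Subgroup.normalizer ((P : Subgroup G) : Set G)) := by
      rw [hN]
      exact dvd_mul_left p 2
    exact h1.trans (Subgroup.card_subgroup_dvd_card _)
  obtain ⟨σ, hσ⟩ := exists_prime_orderOf_dvd_card' p hdvd
  have hords : orderOf (σ : Equiv.Perm α) = p := by rw [Subgroup.orderOf_coe, hσ]
  obtain ⟨ι, hι⟩ := Cfsg.Agent.Lib.Helper12.cycle_param hα (σ : Equiv.Perm α) hords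
  have htrans : MulAction.IsPretransitive G α := by
    constructor
    intro x y
    obtain ⟨j, rfl⟩ := ι.surjective x
    obtain ⟨j', rfl⟩ := ι.surjective y
    refine ⟨σ ^ (j' - j).val, ?_⟩
    show ((σ ^ (j' - j).val : G) : Equiv.Perm α) (ι j) = ι j'
    rw [Subgroup.coe_pow, Cfsg.Agent.Lib.Helper12.cycle_param_pow _ ι hι, ZMod.natCast_zmod_val]
    congr 1
    ring
  by_cases hsolv : Group.IsSolvable G
  · left
    exact Cfsg.Agent.Lib.Helper78.sylow_normal_of_isSolvable hα G hsolv P
  · right
    have h3 : MulAction.IsMultiplyPretransitive G α 3 :=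
      Cfsg.Agent.S0676.result hα G hsolv P (by rw [hN]; exact even_two_mul p)
    have hfix := Cfsg.Agent.Lib.Helper78.eq_one_of_three_le_card_fixedBy hp hα G h3 P hN
    have hodd : Odd (Fintype.card α) := by
      rw [hα]
      exact hpr.odd_of_ne_two (by omega)
    obtain ⟨a, _, hcard, F, fF, ftF, hFcard, hiso⟩ :=
      Cfsg.Agent.S4702.result (by omega) hodd G h3 hfix
    exact ⟨a, F, fF, ftF, by rw [← hα, hcard], hFcard, hiso⟩

end Cfsg.Agent.S4706
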