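import Cfsg.Statements.S4825
import Cfsg.Agent.S0925
import Cfsg.Agent.Lib.Helper75.Clifford
import Cfsg.Agent.Lib.Helper76.PRegular
import Cfsg.Agent.Lib.Helper79.Integrality

set_option autoImplicit false
open Cfsg

namespace Cfsg.Agent.S4825


/-- `classInner` does not depend on the `Fintype` instance -/
theorem classInner_inst {G : Type*} [Group G] (i1 i2 : Fintype G) (a b : G → ℂ) :
    @Cfsg.classInner G _ i1 a b = @Cfsg.classInner G _ i2 a b := by
  have : i1 = i2 := Subsingleton.elim _ _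
  subst this; rfl

open Cfsg.Agent.Lib.Helper16 Cfsg.Agent.Lib.Helper75 Cfsg.Agent.Lib.Helper79 in
open scoped ComplexConjugate in
/-- an induced function from a normal subgroup vanishes off it -/
theorem indFun_eq_zero_of_not_mem {G : Type*} [Group G] [Fintype G] (N : Subgroup G) [hN : N.Normal]
    (θ : N → ℂ) {u : G} (hu : u ∉ N) : Cfsg.indFun N θ u = 0 := by
  unfold Cfsg.indFun
  have h0 : ∀ x : G, Cfsg.extendByZero N θ (x⁻¹ * u * x) = 0 := by
    intro x
    apply extendByZero_of_not_mem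
    intro hmem
    apply hu
    have := hN.conj_mem _ hmem x
    simpa [mul_assoc] using this
  simp [h0]

open Cfsg.Agent.Lib.Helper16 Cfsg.Agent.Lib.Helper75 Cfsg.Agent.Lib.Helper79 in
open scoped ComplexConjugate in
/-- the key congruence: the sum of the squares of the degrees of the members of `B` over `θ`
is divisible by `p`, when some `p`-element lies outside `N`. -/
theorem key {G : Type*} [Group G] [Fintype G] (p : ℕ) [Fact p.Prime] (M : Ideal Cfsg.AlgInt)
    (hM : Cfsg.IsPModular p M) (B : Set (Cfsg.IrrCharacter G)) (hB : Cfsg.IsPBlock M B)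
    (N : Subgroup G) [hN : N.Normal] [Fintype N] (θ : Cfsg.IrrCharacter N)
    (x : G) (hx : ∃ k : ℕ, orderOf x = p ^ k) (hxN : x ∉ N)
    (T : Finset (Cfsg.IrrCharacter G))
    (hT : ∀ χ, χ ∈ T ↔ χ ∈ B ∧ Cfsg.classInner (fun n : N => (χ : G → ℂ) n) (θ : N → ℂ) ≠ 0) :
    p ∣ ∑ χ ∈ T, Cfsg.charDegree (χ : G → ℂ) ^ 2 := by
  classical
  have hMp : M.IsPrime := isPModular_isPrime hM
  have hMtop : M ≠ ⊤ := hMp.ne_top
  have hp : p.Prime := hM.1
  set ϑ : G → ℂ := Cfsg.indFun N (θ : N → ℂ) with hϑ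
  have hcf : Cfsg.IsClassFunction G ϑ := isClassFunction_indFun N _
  have hxx : Cfsg.IsPPart p x x := by
    refine ⟨1, mul_one x, Commute.one_right x, hx, ?_⟩
    rw [orderOf_one]
    exact hp.one_lt.ne' ∘ Nat.dvd_one.mp
  have hvan : ∀ u z : G, Cfsg.IsPPart p u z → IsConj x z → ϑ u = 0 := by
    intro u z huz hxz
    apply indFun_eq_zero_of_not_mem
    intro huN
    have hz : z ∈ N := by
      have := Cfsg.Agent.Lib.Helper78.isPPart_mem_zpowers huz
      exact (Subgroup.zpowers_le.mpr huN) this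
    obtain ⟨c, hc⟩ := isConj_iff.mp hxz
    apply hxN
    have : x = c⁻¹ * z * c⁻¹⁻¹ := by rw [← hc]; group
    rw [this]
    exact hN.conj_mem z hz c⁻¹
  have h0 := (Cfsg.Agent.S0925.result p M hM).1 ϑ hcf x hx hvan B hB x x hxx (IsConj.refl x)
  -- unfold the block part
  unfold Cfsg.blockPart at h0
  simp only [classInner_inst (Fintype.ofFinite G) ‹Fintype G›] at h0
  rw [finsum_mem_eq_finite_toFinset_sum _ (Set.toFinite B)] at h0
  -- the constant `c`
  set c : ℂ := ∑ φ ∈ conjOrbit (G := G) N (θ : N → ℂ), ((φ : N → ℂ) 1) with hc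
  have hcreal : conj c = c := by
    rw [hc, map_sum]
    apply Finset.sum_congr rfl
    intro φ _
    rw [irr_apply_one_eq_charDegree, Complex.conj_natCast]
  -- the coefficient identity
  have hcoef : ∀ χ : Cfsg.IrrCharacter G,
      c * Cfsg.classInner ϑ (χ : G → ℂ) =
        if Cfsg.classInner (fun n : N => (χ : G → ℂ) n) (θ : N → ℂ) ≠ 0 then
          (Cfsg.charDegree (χ : G → ℂ) : ℂ) else 0 := by
    intro χ
    have hχcf : Cfsg.IsClassFunction G (χ : G → ℂ) :=
      Cfsg.Agent.Lib.Helper78.IsCharacter.isClassFunction (Cfsg.Agent.Lib.Helper78.IsIrrCharacter.isCharacter χ.2)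
    rw [hϑ, frobenius_reciprocity N (θ : N → ℂ) hχcf,
      ← Cfsg.Agent.Lib.Helper78.classInner_conj_symm]
    split_ifs with hne
    · have h1 := clifford_finset N χ.2 θ.2 hne
      have h2 := congrFun h1 1
      simp only [Pi.smul_apply, Finset.sum_apply, smul_eq_mul] at h2
      rw [← hc] at h2
      have h3 : (χ : G → ℂ) 1 = (Cfsg.charDegree (χ : G → ℂ) : ℂ) :=
        irr_apply_one_eq_charDegree χ
      have h4 : (χ : G → ℂ) ((1 : N) : G) = (χ : G → ℂ) 1 := by simp
      rw [h4, h3] at h2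
      have h5 := congrArg conj h2
      rw [Complex.conj_natCast, map_mul, hcreal] at h5
      rw [h5]; ring
    · push Not at hne
      rw [hne]; simp
  -- multiply `h0` by `c`
  have h1 : ∑ χ ∈ (Set.toFinite B).toFinset,
      (if Cfsg.classInner (fun n : N => (χ : G → ℂ) n) (θ : N → ℂ) ≠ 0 then
          (Cfsg.charDegree (χ : G → ℂ) : ℂ) else 0) * (χ : G → ℂ) x = 0 := by
    have := congrArg (fun z => c * z) h0
    simp only [mul_zero, Finset.mul_sum] at this
    refine Eq.trans (Finset.sum_congr rfl ?_) this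
    intro χ _
    rw [← hcoef χ]; ring
  have h2 : ∑ χ ∈ T, (Cfsg.charDegree (χ : G → ℂ) : ℂ) * (χ : G → ℂ) x = 0 := by
    rw [← h1]
    have hsub : T ⊆ (Set.toFinite B).toFinset := by
      intro χ hχ
      rw [Set.Finite.mem_toFinset]
      exact ((hT χ).mp hχ).1
    rw [← Finset.sum_subset hsub]
    · apply Finset.sum_congr rfl
      intro χ hχ
      rw [if_pos ((hT χ).mp hχ).2]
    · intro χ hχB hχT
      rw [Set.Finite.mem_toFinset] at hχB
      have : ¬ (Cfsg.classInner (fun n : N => (χ : G → ℂ) n) (θ : N → ℂ) ≠ 0) := by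
        intro h
        exact hχT ((hT χ).mpr ⟨hχB, h⟩)
      rw [if_neg this, zero_mul]
  -- congruence
  have h3 : Cfsg.MemLocalIdeal M
      (∑ χ ∈ T, (Cfsg.charDegree (χ : G → ℂ) : ℂ) *
        ((χ : G → ℂ) 1 - (χ : G → ℂ) x)) := by
    apply memLocalIdeal_sum
    intro χ _
    apply memLocalIdeal_mul_left (memLocalRing_natCast hMtop _)
    have := Cfsg.Agent.Lib.Helper76.memLocalIdeal_irr_sub_pPart p M hM χ x x hxx
    rw [inv_mul_cancel] at this
    exact memLocalIdeal_sub_comm.mp this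
  have h4 : (∑ χ ∈ T, (Cfsg.charDegree (χ : G → ℂ) : ℂ) *
        ((χ : G → ℂ) 1 - (χ : G → ℂ) x)) =
      ((∑ χ ∈ T, Cfsg.charDegree (χ : G → ℂ) ^ 2 : ℕ) : ℂ) := by
    simp only [mul_sub, Finset.sum_sub_distrib, h2, sub_zero]
    push_cast
    apply Finset.sum_congr rfl
    intro χ _
    rw [irr_apply_one_eq_charDegree]; ring
  rw [h4] at h3
  exact (memLocalIdeal_natCast_iff hM _).mp h3

/-- Let p be a prime, G a finite group with Sylow p-subgroup P, M a maximal ideal of the algebraic integers containing p, and B a p-block of G with defect group P. Let N be a normal subgroup of G not containing P and θ an irreducible character of N. Then the number of irreducible characters in B of degree prime to p lying over θ (having θ as a constituent on restriction to N) is either 0 or at least 2, and when p ≤ 3 it is divisible by p. -/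
theorem result {G : Type*} [Group G] [Fintype G] (p : ℕ) [Fact p.Prime] (P : Sylow p G) (M : Ideal Cfsg.AlgInt) (hM : Cfsg.IsPModular p M) (B : Set (Cfsg.IrrCharacter G)) (hB : Cfsg.IsPBlock M B) (hBP : Cfsg.IsDefectGroup p M B P) (N : Subgroup G) [N.Normal] [Fintype N] (hPN : ¬ (P : Subgroup G) ≤ N) (θ : Cfsg.IrrCharacter N) :
    (Nat.card {χ : Cfsg.IrrCharacter G // χ ∈ B ∧ ¬ p ∣ Cfsg.charDegree (χ : G → ℂ) ∧ Cfsg.classInner (fun n : N => (χ : G → ℂ) n) (θ : N → ℂ) ≠ 0} = 0 ∨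
      2 ≤ Nat.card {χ : Cfsg.IrrCharacter G // χ ∈ B ∧ ¬ p ∣ Cfsg.charDegree (χ : G → ℂ) ∧ Cfsg.classInner (fun n : N => (χ : G → ℂ) n) (θ : N → ℂ) ≠ 0}) ∧
    (p ≤ 3 → p ∣ Nat.card {χ : Cfsg.IrrCharacter G // χ ∈ B ∧ ¬ p ∣ Cfsg.charDegree (χ : G → ℂ) ∧ Cfsg.classInner (fun n : N => (χ : G → ℂ) n) (θ : N → ℂ) ≠ 0}) := by
  classical
  have hp : p.Prime := Fact.out
  obtain ⟨x, hxP, hxN⟩ := SetLike.not_le_iff_exists.mp hPN
  have hx : ∃ k : ℕ, orderOf x = p ^ k := by
    obtain ⟨k, hk⟩ := (IsPGroup.iff_orderOf.mp P.isPGroup') ⟨x, hxP⟩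
    exact ⟨k, by rw [← hk, Subgroup.orderOf_mk]⟩
  set T : Finset (Cfsg.IrrCharacter G) := Finset.univ.filter (fun χ : Cfsg.IrrCharacter G =>
    χ ∈ B ∧ Cfsg.classInner (fun n : N => (χ : G → ℂ) n) (θ : N → ℂ) ≠ 0) with hTdef
  set S : Finset (Cfsg.IrrCharacter G) :=
    T.filter (fun χ : Cfsg.IrrCharacter G => ¬ p ∣ Cfsg.charDegree (χ : G → ℂ)) with hSdef
  have hkey := key p M hM B hB N θ x hx hxN T (by intro χ; simp [hTdef])
  have hS : p ∣ ∑ χ ∈ S, Cfsg.charDegree (χ : G → ℂ) ^ 2 := by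
    rw [← Finset.sum_filter_add_sum_filter_not T
      (fun χ : Cfsg.IrrCharacter G => ¬ p ∣ Cfsg.charDegree (χ : G → ℂ))] at hkey
    have h2 : p ∣ ∑ χ ∈ T.filter (fun χ : Cfsg.IrrCharacter G =>
        ¬ ¬ p ∣ Cfsg.charDegree (χ : G → ℂ)), Cfsg.charDegree (χ : G → ℂ) ^ 2 :=
      Finset.dvd_sum (fun χ hχ => by
        have := (Finset.mem_filter.mp hχ).2
        push Not at this
        exact dvd_pow this two_ne_zero)
    exact (Nat.dvd_add_left h2).mp hkey
  have hcard : Nat.card {χ : Cfsg.IrrCharacter G // χ ∈ B ∧ ¬ p ∣ Cfsg.charDegree (χ : G → ℂ) ∧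
      Cfsg.classInner (fun n : N => (χ : G → ℂ) n) (θ : N → ℂ) ≠ 0} = S.card := by
    rw [Nat.card_eq_fintype_card, Fintype.card_subtype]
    congr 1
    ext χ
    simp only [hSdef, hTdef, Finset.mem_filter, Finset.mem_univ, true_and]
    tauto
  rw [hcard]
  refine ⟨?_, ?_⟩
  · by_contra h
    push Not at h
    have h1 : S.card = 1 := by omega
    obtain ⟨χ, hχ⟩ := Finset.card_eq_one.mp h1
    have hmem : χ ∈ S := by rw [hχ]; simp
    rw [hχ, Finset.sum_singleton] at hS
    exact (Finset.mem_filter.mp hmem).2 (hp.dvd_of_dvd_pow hS)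
  · intro hp3
    have hp23 : p = 2 ∨ p = 3 := by
      have := hp.two_le
      omega
    have hsq : ∀ d : ℕ, ¬ p ∣ d → d ^ 2 % p = 1 := by
      intro d hd
      rcases hp23 with rfl | rfl
      · have : d % 2 = 1 := by omega
        rw [Nat.pow_mod, this]
      · have : d % 3 = 1 ∨ d % 3 = 2 := by omega
        rcases this with h | h <;> rw [Nat.pow_mod, h]
    have hmod : (∑ χ ∈ S, Cfsg.charDegree (χ : G → ℂ) ^ 2) % p = S.card % p := by
      rw [Finset.sum_nat_mod]
      have h1 : ∀ χ ∈ S, Cfsg.charDegree (χ : G → ℂ) ^ 2 % p = 1 :=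
        fun χ hχ => hsq _ (Finset.mem_filter.mp hχ).2
      rw [Finset.sum_congr rfl h1]
      simp only [Finset.sum_const, smul_eq_mul, mul_one]
    rw [Nat.dvd_iff_mod_eq_zero] at hS ⊢
    rw [← hmod]; exact hS

end Cfsg.Agent.S4825
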