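import Cfsg.Statements.S1026
import Cfsg.Agent.Lib.Helper18.UFactTabs

set_option autoImplicit false
open Cfsg

namespace Cfsg.Agent.S1026

open Cfsg.Lie Cfsg.Agent.Lib.Helper18

theorem mem_posRoots (D : ChevalleyDatum) (r : ℕ) : r ∈ D.posRoots ↔ D.IsPosRoot r := by
  unfold ChevalleyDatum.posRoots
  rw [List.mem_filter, List.mem_range, decide_eq_true_eq]
  exact ⟨fun h => h.2, fun h => ⟨h.1, h⟩⟩

theorem posRoots_sorted (D : ChevalleyDatum) : D.posRoots.Pairwise (· < ·) := by
  unfold ChevalleyDatum.posRoots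
  exact List.Pairwise.filter _ List.pairwise_lt_range

theorem posRoots_nodup (D : ChevalleyDatum) : D.posRoots.Nodup :=
  (posRoots_sorted D).imp (fun h => Nat.ne_of_lt h)

universe u

/-- Every element of `U` is the ordered product over the positive roots, with unique coefficients. -/
theorem exists_unique_coeffs {F : Type u} [Field F] (D : ChevalleyDatum)
    (hD : D ∈ [chevG2, chevB2, chevD4, chevF4, chevE6, chevE7, chevE8]) (g : GL D.Idx F)
    (hg : g ∈ D.posUnipotent F) :
    ∃! t : ℕ → F, (∀ r, ¬ D.IsPosRoot r → t r = 0) ∧ g = prodL hD D.posRoots t := by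
  obtain ⟨C⟩ := nonempty_chevData.{u} D hD
  obtain ⟨L⟩ := nonempty_levelData D hD
  obtain ⟨t0, ht0⟩ := exists_prodL hD C L D.posRoots (fun r hr => (mem_posRoots D r).mp hr) (posRoots_nodup D)
    (fun r hr => (mem_posRoots D r).mpr hr) g hg
  refine ⟨fun r => if D.IsPosRoot r then t0 r else 0, ⟨?_, ?_⟩, ?_⟩
  · intro r hr
    simp only [if_neg hr]
  · rw [ht0]
    apply prodL_congr
    intro r hr
    simp only [if_pos ((mem_posRoots D r).mp hr)]
  · rintro t' ⟨h1, h2⟩
    have h3 := prodL_injective hD (lexOK_of_mem D hD) (bezOK_of_mem D hD) D.posRoots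
      (fun r hr => (mem_posRoots D r).mp hr) (posRoots_sorted D) t' t0 (h2.symm.trans ht0)
    funext r
    by_cases hr : D.IsPosRoot r
    · simp only [if_pos hr]
      exact h3 r ((mem_posRoots D r).mpr hr)
    · simp only [if_neg hr]
      exact h1 r hr

/-- Every element of `U` has a unique expression `∏_{r ∈ Φ⁺} x_r(t_r)`, the product over the positive roots in increasing index order (the coefficient family `t`, supported on the positive roots, exists and is unique); and conversely every such ordered product is the matrix of an element of `U`. -/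
theorem result {F : Type*} [Field F] (D : Cfsg.Lie.ChevalleyDatum) (hD : D ∈ [Cfsg.Lie.chevG2, Cfsg.Lie.chevB2, Cfsg.Lie.chevD4, Cfsg.Lie.chevF4, Cfsg.Lie.chevE6, Cfsg.Lie.chevE7, Cfsg.Lie.chevE8]) :
    (∀ g : GL D.Idx F, g ∈ D.posUnipotent F →
      ∃! t : ℕ → F, (∀ r, ¬ D.IsPosRoot r → t r = 0) ∧
        (g : Matrix D.Idx D.Idx F) = D.wordMat F (D.posRoots.map fun r => (r, t r))) ∧
    (∀ t : ℕ → F, ∃ g : GL D.Idx F, g ∈ D.posUnipotent F ∧
      (g : Matrix D.Idx D.Idx F) = D.wordMat F (D.posRoots.map fun r => (r, t r))) := by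
  constructor
  · intro g hg
    obtain ⟨t, ⟨h1, h2⟩, h3⟩ := exists_unique_coeffs D hD g hg
    refine ⟨t, ⟨h1, ?_⟩, ?_⟩
    · rw [h2, coe_prodL]
    · rintro t' ⟨h4, h5⟩
      apply h3 t' ⟨h4, ?_⟩
      apply Units.ext
      rw [h5, coe_prodL]
  · intro t
    exact ⟨prodL hD D.posRoots t,
      prodL_mem_posUnipotent hD D.posRoots (fun r hr => (mem_posRoots D r).mp hr) t, coe_prodL hD _ t⟩

end Cfsg.Agent.S1026
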