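import Cfsg.Statements.S1027
import Cfsg.Agent.S1026

set_option autoImplicit false
open Cfsg

namespace Cfsg.Agent.S1027

open Cfsg.Lie Cfsg.Agent.Lib.Helper18

theorem isPosRoot_iff_mem_Ico (D : ChevalleyDatum)
    (hD : D ∈ [chevG2, chevB2, chevD4, chevF4, chevE6, chevE7, chevE8]) (r : ℕ) :
    D.IsPosRoot r ↔ r ∈ Finset.Ico (D.nroots / 2) D.nroots := by
  rw [isPosRoot_iff hD, Finset.mem_Ico]
  tauto

theorem finite_posRoot (D : ChevalleyDatum)
    (hD : D ∈ [chevG2, chevB2, chevD4, chevF4, chevE6, chevE7, chevE8]) : Finite {r // D.IsPosRoot r} :=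
  Finite.of_equiv _ (Equiv.subtypeEquivRight (isPosRoot_iff_mem_Ico D hD)).symm

theorem card_posRoot (D : ChevalleyDatum)
    (hD : D ∈ [chevG2, chevB2, chevD4, chevF4, chevE6, chevE7, chevE8]) :
    Nat.card {r // D.IsPosRoot r} = D.nroots / 2 := by
  rw [Nat.card_congr (Equiv.subtypeEquivRight (isPosRoot_iff_mem_Ico D hD)), Nat.card_eq_fintype_card,
    Fintype.card_coe, Nat.card_Ico]
  have := nroots_even hD
  omega

universe u

/-- The coefficient family extended by zero. -/
noncomputable def ext {F : Type u} [Field F] (D : ChevalleyDatum) (t : {r // D.IsPosRoot r} → F) : ℕ → F :=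
  fun r => if h : D.IsPosRoot r then t ⟨r, h⟩ else 0

theorem card_posUnipotent {F : Type u} [Field F] [Fintype F] (D : ChevalleyDatum)
    (hD : D ∈ [chevG2, chevB2, chevD4, chevF4, chevE6, chevE7, chevE8]) :
    Nat.card (D.posUnipotent F) = Fintype.card F ^ (D.nroots / 2) := by
  obtain ⟨C⟩ := nonempty_chevData.{u} D hD
  obtain ⟨L⟩ := nonempty_levelData D hD
  have hmem : ∀ r ∈ D.posRoots, D.IsPosRoot r := fun r hr => (Cfsg.Agent.S1026.mem_posRoots D r).mp hr
  let f : ({r // D.IsPosRoot r} → F) → ↥(D.posUnipotent F) := fun t =>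
    ⟨prodL hD D.posRoots (ext D t), prodL_mem_posUnipotent hD D.posRoots hmem _⟩
  have hinj : Function.Injective f := by
    intro t t' h
    have h1 : prodL hD D.posRoots (ext D t) = prodL hD D.posRoots (ext D t') := congrArg Subtype.val h
    have h2 := prodL_injective hD (lexOK_of_mem D hD) (bezOK_of_mem D hD) D.posRoots hmem
      (Cfsg.Agent.S1026.posRoots_sorted D) _ _ h1
    funext ⟨r, hr⟩
    have h3 := h2 r ((Cfsg.Agent.S1026.mem_posRoots D r).mpr hr)
    unfold ext at h3
    rwa [dif_pos hr, dif_pos hr] at h3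
  have hsurj : Function.Surjective f := by
    rintro ⟨g, hg⟩
    obtain ⟨t0, ht0⟩ := exists_prodL hD C L D.posRoots hmem (Cfsg.Agent.S1026.posRoots_nodup D)
      (fun r hr => (Cfsg.Agent.S1026.mem_posRoots D r).mpr hr) g hg
    refine ⟨fun r => t0 r.1, ?_⟩
    apply Subtype.ext
    show prodL hD D.posRoots (ext D fun r => t0 r.1) = g
    rw [ht0]
    apply prodL_congr
    intro r hr
    unfold ext
    rw [dif_pos (hmem r hr)]
  haveI := finite_posRoot D hD
  rw [← Nat.card_congr (Equiv.ofBijective f ⟨hinj, hsurj⟩), Nat.card_fun, card_posRoot D hD,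
    Nat.card_eq_fintype_card]

/-- For the subgroup `U` generated by the root elements `x_r(t)` of the positive roots `r`: `|U| = q^N` over a field with `q` elements, where `N` is the number of positive roots (half the number of roots). -/
theorem result {F : Type*} [Field F] [Fintype F] (D : Cfsg.Lie.ChevalleyDatum) (hD : D ∈ [Cfsg.Lie.chevG2, Cfsg.Lie.chevB2, Cfsg.Lie.chevD4, Cfsg.Lie.chevF4, Cfsg.Lie.chevE6, Cfsg.Lie.chevE7, Cfsg.Lie.chevE8]) :
    Nat.card (D.posUnipotent F) = Fintype.card F ^ (D.nroots / 2) :=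
  card_posUnipotent D hD

end Cfsg.Agent.S1027
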