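import Cfsg.Statements.S2158
-- import your own Cfsg.Agent.* helpers here
import Cfsg.Agent.Lib.Helper18.Order2

set_option autoImplicit false
open Cfsg

namespace Cfsg.Agent.S2158

open Cfsg.Lie Cfsg.Agent.Lib.Helper18 Cfsg.Agent.Lib.Helper17

universe u

/-- The entry of `x_r(t)` in the row of `e_r` and the column of `e_{-r}` is `-t²`. -/
theorem x_apply_root_negroot {F : Type u} [Field F] (D : ChevalleyDatum)
    (hD : D ∈ [chevG2, chevB2, chevD4, chevF4, chevE6, chevE7, chevE8]) (r : ℕ) (hr : r < D.nroots) (t : F) :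
    D.x F r t (Sum.inr ⟨r, hr⟩) (Sum.inr ⟨D.neg r, neg_lt_nroots D hD r hr⟩) = -(t ^ 2) := by
  have hev := nroots_even hD
  have hneg : D.neg r = D.nroots - 1 - r := negIdx_eq_sub hD r hr
  have hne : D.neg r ≠ r := by omega
  unfold ChevalleyDatum.x
  rw [dif_pos hr]
  unfold ChevalleyDatum.xMat
  simp only [Matrix.of_apply]
  rw [if_neg (fun h => hne (congrArg Fin.val h))]
  rw [if_pos (show D.neg r = D.negIdx.getD r 0 from rfl)]
  rw [if_neg (fun h => hne (congrArg Fin.val h).symm), if_pos trivial]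

/-- The matrices of the elements of `B` are upper triangular for the weight `chevWeight`. -/
theorem borel_depth_zero {F : Type u} [Field F] (D : ChevalleyDatum)
    (hD : D ∈ [chevG2, chevB2, chevD4, chevF4, chevE6, chevE7, chevE8]) (b : GL D.Idx F)
    (hb : b ∈ D.borelSubgroup F) : Depth (chevWeight D) 0 (b : Matrix D.Idx D.Idx F) := by
  obtain ⟨u, hu, h, hh, rfl⟩ := (mem_borel_iff D hD b).mp hb
  obtain ⟨c, -, hc⟩ := Cfsg.Agent.S1034.mem_diagonalSubgroup_torus D hD h hh
  have h1 : Depth (chevWeight D) 1 ((u : Matrix D.Idx D.Idx F) - 1) :=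
    posUnipotent_le_chevUT (posOK_of_mem D hD) hu
  rw [Units.val_mul, hc]
  exact (depth_zero_of_sub_one _ _ h1).mul (depth_zero_diagonal _ _)

theorem main {F : Type u} [Field F] (D : ChevalleyDatum)
    (hD : D ∈ [chevG2, chevB2, chevD4, chevF4, chevE6, chevE7, chevE8]) (χ : ℕ → Fˣ) (g : GL D.Idx F)
    (hg : g ∈ D.group F) (hgχ : (g : Matrix D.Idx D.Idx F) = D.charDiag F χ) :
    g ∈ D.diagonalSubgroup F := by
  obtain ⟨C⟩ := nonempty_chevData.{u} D hD
  obtain ⟨L⟩ := nonempty_levelData D hD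
  obtain ⟨b, hb, n, hn, u, hu, hgbnu⟩ := exists_bruhat_form hD C L g hg
  have huU : u ∈ D.posUnipotent F := closure_UnegSet_le D n hu
  have huB : u ∈ D.borelSubgroup F := borel_of_posUnipotent _ huU
  -- `g` and its inverse are diagonal
  have hg0 : Depth (chevWeight D) 0 (g : Matrix D.Idx D.Idx F) := by
    rw [hgχ]; exact depth_zero_diagonal _ _
  have hginv : ((g⁻¹ : GL D.Idx F) : Matrix D.Idx D.Idx F) = D.charDiag F (fun r => (χ r)⁻¹) := by
    apply Units.inv_eq_of_mul_eq_one_right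
    rw [hgχ]
    unfold ChevalleyDatum.charDiag
    rw [Matrix.diagonal_mul_diagonal, ← Matrix.diagonal_one]
    congr 1
    funext j
    rcases j with k | s
    · simp
    · simp
  have hginv0 : Depth (chevWeight D) 0 ((g⁻¹ : GL D.Idx F) : Matrix D.Idx D.Idx F) := by
    rw [hginv]; exact depth_zero_diagonal _ _
  -- `n` and its inverse are upper triangular
  have hn0 : Depth (chevWeight D) 0 (n : Matrix D.Idx D.Idx F) := by
    have e : n = b⁻¹ * g * u⁻¹ := by rw [hgbnu]; group
    rw [e, Units.val_mul, Units.val_mul]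
    exact ((borel_depth_zero D hD _ (inv_mem hb)).mul hg0).mul (borel_depth_zero D hD _ (inv_mem huB))
  have hninv0 : Depth (chevWeight D) 0 ((n⁻¹ : GL D.Idx F) : Matrix D.Idx D.Idx F) := by
    have e : n⁻¹ = u * g⁻¹ * b := by rw [hgbnu]; group
    rw [e, Units.val_mul, Units.val_mul]
    exact ((borel_depth_zero D hD _ huB).mul hginv0).mul (borel_depth_zero D hD _ hb)
  -- hence `n` sends positive roots to positive roots, and lies in `H`
  have hnH : n ∈ D.diagonalSubgroup F := by
    apply mem_diagonal_of_conj_pos hD C n hn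
    intro r hr
    obtain ⟨ws, h, hws, hh, hnw⟩ := isWordH_of_mem_monomial hD C n hn
    obtain ⟨t₁, ht₁, h2⟩ := word_conj_xG hD C ws hws h hh r hr.1 (1 : F)
    rw [← hnw] at h2
    have hr'lt := wordRootF_lt C ws hws r hr.1
    refine ⟨wordRootF C.tabs ws r, t₁, ?_, h2⟩
    rw [isPosRoot_iff hD]
    refine ⟨hr'lt, ?_⟩
    by_contra hlt
    have hlt' : wordRootF C.tabs ws r < D.nroots / 2 := by omega
    have hx1 : Depth (chevWeight D) 1 ((xG hD r (1 : F) : Matrix D.Idx D.Idx F) - 1) :=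
      posUnipotent_le_chevUT (posOK_of_mem D hD) (xG_mem_posUnipotent hD r 1 hr)
    have hd : Depth (chevWeight D) 1
        ((xG hD (wordRootF C.tabs ws r) t₁ : Matrix D.Idx D.Idx F) - 1) := by
      have e : (xG hD (wordRootF C.tabs ws r) t₁ : Matrix D.Idx D.Idx F) - 1
          = (n : Matrix D.Idx D.Idx F) * ((xG hD r (1 : F) : Matrix D.Idx D.Idx F) - 1)
            * ((n⁻¹ : GL D.Idx F) : Matrix D.Idx D.Idx F) := by
        rw [← h2, Units.val_mul, Units.val_mul, mul_sub, sub_mul, mul_one, ← Units.val_mul n n⁻¹,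
          mul_inv_cancel, Units.val_one]
      rw [e]
      have := (hn0.mul hx1).mul hninv0
      simpa using this
    have hev := nroots_even hD
    have hneg : D.neg (wordRootF C.tabs ws r) = D.nroots - 1 - wordRootF C.tabs ws r :=
      negIdx_eq_sub hD _ hr'lt
    have hentry := hd (Sum.inr ⟨wordRootF C.tabs ws r, hr'lt⟩)
      (Sum.inr ⟨D.neg (wordRootF C.tabs ws r), neg_lt_nroots D hD _ hr'lt⟩) (by
        rw [chevWeight_inr, chevWeight_inr]
        simp only
        split_ifs <;> omega)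
    rw [Matrix.sub_apply, Matrix.one_apply_ne (by
      intro h
      have := congrArg (fun x : D.Idx => Sum.elim (fun _ => 0) (fun s : Fin D.nroots => s.val) x) h
      simp only [Sum.elim_inr] at this
      omega), sub_zero, coe_xG, x_apply_root_negroot D hD _ hr'lt] at hentry
    have : t₁ = 0 := by
      have h3 : t₁ ^ 2 = 0 := neg_eq_zero.mp hentry
      exact pow_eq_zero_iff (two_ne_zero) |>.mp h3
    exact ht₁ one_ne_zero this
  -- so `g` lies in `B`
  have hgB : g ∈ D.borelSubgroup F := by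
    rw [hgbnu]
    exact mul_mem (mul_mem hb (borel_of_diagonal _ hnH)) huB
  obtain ⟨u₁, hu₁, h₁, hh₁, hg1⟩ := (mem_borel_iff D hD g).mp hgB
  obtain ⟨c, -, hc⟩ := Cfsg.Agent.S1034.mem_diagonalSubgroup_torus D hD h₁⁻¹ (inv_mem hh₁)
  have hu₁d : (u₁ : Matrix D.Idx D.Idx F) = Matrix.diagonal
      (fun j => Sum.elim (fun _ => (1 : F)) (fun r : Fin D.nroots => (χ r.val : F)) j * torusFun D c j) := by
    have e : u₁ = g * h₁⁻¹ := by rw [← hg1]; group
    rw [e, Units.val_mul, hgχ, hc]
    unfold ChevalleyDatum.charDiag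
    rw [Matrix.diagonal_mul_diagonal]
  have hu₁1 : (u₁ : Matrix D.Idx D.Idx F) = 1 :=
    eq_one_of_depth_of_diagonal _ _ (posUnipotent_le_chevUT (posOK_of_mem D hD) hu₁) _ hu₁d
  have hu₁e : u₁ = 1 := Units.ext hu₁1
  rw [← hg1, hu₁e, one_mul]
  exact hh₁

/-- In a Chevalley group of type G₂, B₂, D₄, F₄, E₆, E₇ or E₈ over any field, an element of the group whose matrix is the diagonal matrix `ĥ(χ)` of a character `χ` of the root lattice already lies in the diagonal subgroup H (the non-trivial inclusion of the statement that the group meets the group of all such diagonal matrices in H). -/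
theorem result {F : Type*} [Field F] (D : Cfsg.Lie.ChevalleyDatum) (hD : D ∈ [Cfsg.Lie.chevG2, Cfsg.Lie.chevB2, Cfsg.Lie.chevD4, Cfsg.Lie.chevF4, Cfsg.Lie.chevE6, Cfsg.Lie.chevE7, Cfsg.Lie.chevE8]) (χ : ℕ → Fˣ) (hχ : D.IsRootCharacter χ) (g : GL D.Idx F) (hg : g ∈ D.group F)
    (hgχ : (g : Matrix D.Idx D.Idx F) = D.charDiag F χ) : g ∈ D.diagonalSubgroup F :=
  main D hD χ g hg hgχ

end Cfsg.Agent.S2158
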