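import Cfsg.Statements.S1051
-- import your own Cfsg.Agent.* helpers here
import Cfsg.Agent.S1043
import Cfsg.Agent.S1037
import Cfsg.Agent.S1038

set_option autoImplicit false
open Cfsg

namespace Cfsg.Agent.S1051

open Cfsg.Lie Cfsg.Agent.Lib.Helper18

variable {F : Type*} [Field F]

/-- An element all of whose conjugates under the Chevalley group lie in `B` lies in `H`. -/
theorem mem_diagonal_of_conj_mem_borel (D : ChevalleyDatum)
    (hD : D ∈ [chevG2, chevB2, chevD4, chevF4, chevE6, chevE7, chevE8]) (g : GL D.Idx F)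
    (key : ∀ y : GL D.Idx F, y ∈ D.group F → y * g * y⁻¹ ∈ D.borelSubgroup F) :
    g ∈ D.diagonalSubgroup F := by
  obtain ⟨n, hnN, hnV⟩ := Cfsg.Agent.S1053.result (F := F) D hD
  have hnG : n ∈ D.group F := (Cfsg.Agent.S1043.result D hD).2.1 hnN
  have hgB : g ∈ D.borelSubgroup F := by simpa using key 1 (one_mem _)
  have h1 : n⁻¹ * g * n ∈ D.borelSubgroup F := by simpa using key n⁻¹ (inv_mem hnG)
  have hHN : D.diagonalSubgroup F ≤ D.monomialSubgroup F := le_sup_left
  have hnorm := (Subgroup.normal_subgroupOf_iff_le_normalizer hHN).mp (Cfsg.Agent.S1038.result D hD)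
  have h2 : g ∈ D.negUnipotent F ⊔ D.diagonalSubgroup F := by
    obtain ⟨u, hu, h, hh, huh⟩ := (mem_borel_iff D hD _).mp h1
    have e : g = (n * u * n⁻¹) * (n * h * n⁻¹) := by
      have : n * (u * h) * n⁻¹ = g := by rw [huh]; group
      rw [← this]; group
    rw [e]
    apply mul_mem (Subgroup.mem_sup_left _) (Subgroup.mem_sup_right _)
    · rw [← hnV]
      exact ⟨u, hu, rfl⟩
    · exact (Subgroup.mem_normalizer_iff.mp (hnorm hnN) h).mp hh
  rw [← (Cfsg.Agent.S1037.result D hD).2]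
  exact ⟨hgB, h2⟩

/-- The inverse of the unit with matrix `x_r(t)` has matrix `x_r(-t)`. -/
theorem coe_inv_of_x (D : ChevalleyDatum)
    (hD : D ∈ [chevG2, chevB2, chevD4, chevF4, chevE6, chevE7, chevE8]) (r : ℕ) (t : F)
    (y : GL D.Idx F) (hy : (y : Matrix D.Idx D.Idx F) = D.x F r t) :
    ((y⁻¹ : GL D.Idx F) : Matrix D.Idx D.Idx F) = D.x F r (-t) := by
  rw [Matrix.coe_units_inv, hy]
  exact Matrix.inv_eq_right_inv (Cfsg.Agent.S1043.x_mul_x_neg D hD r t)

/-- `⋂_g g B g⁻¹ = 1`: the normal core of `B` in the Chevalley group is trivial. -/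
theorem result {F : Type*} [Field F] (D : Cfsg.Lie.ChevalleyDatum) (hD : D ∈ [Cfsg.Lie.chevG2, Cfsg.Lie.chevB2, Cfsg.Lie.chevD4, Cfsg.Lie.chevF4, Cfsg.Lie.chevE6, Cfsg.Lie.chevE7, Cfsg.Lie.chevE8]) : ((D.borelSubgroup F).subgroupOf (D.group F)).normalCore = ⊥ := by
  rw [eq_bot_iff]
  intro g hg
  rw [Subgroup.mem_bot]
  -- every element of the core lies in H
  have hcoreH : ∀ g' ∈ ((D.borelSubgroup F).subgroupOf (D.group F)).normalCore,
      (g' : GL D.Idx F) ∈ D.diagonalSubgroup F := by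
    intro g' hg'
    apply mem_diagonal_of_conj_mem_borel D hD
    intro y hy
    have := hg' ⟨y, hy⟩
    rw [Subgroup.mem_subgroupOf] at this
    exact this
  have hgH := hcoreH g hg
  obtain ⟨c, hc, hgc⟩ := Cfsg.Agent.S1034.mem_diagonalSubgroup_torus D hD _ hgH
  have hsign := signOK_of_mem D hD
  -- all characters are trivial on g
  have hχ : ∀ (r : ℕ) (hr : r < D.nroots), torusFun D c (Sum.inr ⟨r, hr⟩) = 1 := by
    intro r hr
    obtain ⟨y, hyG, hy⟩ := Cfsg.Agent.S1043.exists_unit_x (F := F) D hD r 1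
    have hconj : (⟨y, hyG⟩ : ↥(D.group F)) * g * (⟨y, hyG⟩ : ↥(D.group F))⁻¹
        ∈ ((D.borelSubgroup F).subgroupOf (D.group F)).normalCore :=
      (Subgroup.normalCore_normal _).conj_mem g hg _
    have h1 : y * (g : GL D.Idx F) * y⁻¹ ∈ D.diagonalSubgroup F := hcoreH _ hconj
    have hk : y * (g : GL D.Idx F) * y⁻¹ * (g : GL D.Idx F)⁻¹ ∈ D.diagonalSubgroup F :=
      mul_mem h1 (inv_mem hgH)
    have hkm : ((y * (g : GL D.Idx F) * y⁻¹ * (g : GL D.Idx F)⁻¹ : GL D.Idx F) : Matrix D.Idx D.Idx F)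
        = D.x F r (1 - torusFun D c (Sum.inr ⟨r, hr⟩)) := by
      rw [Units.val_mul, Units.val_mul, Units.val_mul, hy, coe_inv_of_x D hD r 1 y hy,
        mul_assoc (D.x F r 1), hgc, torus_mul_x D hD c hc r hr (-1), mul_assoc, mul_assoc, ← hgc,
        ← Units.val_mul, mul_inv_cancel, Units.val_one, mul_one, Cfsg.Agent.S1023.result D hD r hr]
      congr 1
      ring
    -- the element k lies in U ∩ H or in V ∩ B, hence is trivial
    have hk1 : y * (g : GL D.Idx F) * y⁻¹ * (g : GL D.Idx F)⁻¹ = 1 := by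
      by_cases hpos : D.nroots / 2 ≤ r
      · have hkU : y * (g : GL D.Idx F) * y⁻¹ * (g : GL D.Idx F)⁻¹ ∈ D.posUnipotent F :=
          Subgroup.subset_closure ⟨r, _, isPosRoot_of_ge D hsign r hr hpos, hkm⟩
        have : y * (g : GL D.Idx F) * y⁻¹ * (g : GL D.Idx F)⁻¹
            ∈ D.posUnipotent F ⊓ D.diagonalSubgroup F := ⟨hkU, hk⟩
        rw [(Cfsg.Agent.S1036.result D hD).2, Subgroup.mem_bot] at this
        exact this
      · have hkV : y * (g : GL D.Idx F) * y⁻¹ * (g : GL D.Idx F)⁻¹ ∈ D.negUnipotent F :=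
          Subgroup.subset_closure ⟨r, _, isNegRoot_of_lt D hsign r hr (by omega), hkm⟩
        have : y * (g : GL D.Idx F) * y⁻¹ * (g : GL D.Idx F)⁻¹
            ∈ D.borelSubgroup F ⊓ D.negUnipotent F := ⟨Subgroup.mem_sup_right hk, hkV⟩
        rw [(Cfsg.Agent.S1037.result D hD).1, Subgroup.mem_bot] at this
        exact this
    rw [hk1, Units.val_one] at hkm
    have := (Cfsg.Agent.S1024.result D hD r hr _).mp hkm.symm
    exact (sub_eq_zero.mp this).symm
  apply Subtype.ext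
  apply Units.ext
  show (g : GL D.Idx F).1 = 1
  rw [hgc, ← Matrix.diagonal_one]
  congr 1
  funext j
  rcases j with k | s
  · rfl
  · exact hχ s.1 s.2

end Cfsg.Agent.S1051
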