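import Cfsg.Statements.S1052
import Cfsg.Agent.Lib.Helper18.PerfCert
import Cfsg.Agent.Lib.Helper18.TorusHom
import Cfsg.Agent.S1032
-- import your own Cfsg.Agent.* helpers here

set_option autoImplicit false
open Cfsg

namespace Cfsg.Agent.S1052

open Cfsg.Lie Cfsg.Agent.Lib.Helper18

universe u

/-- In characteristic 2, over a field with more than two elements: if every root has a Cartan integer `±1` or `±2`
with some fundamental root, every root element is a commutator with an element of `H`. -/
theorem xG_mem_commImage_of_cartan {F : Type u} [Field F] (D : ChevalleyDatum)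
    (hD : D ∈ [chevG2, chevB2, chevD4, chevF4, chevE6, chevE7, chevE8])
    (hcart : ∀ s < D.nroots, ∃ i < D.rank, D.cartan i s = 1 ∨ D.cartan i s = -1 ∨ D.cartan i s = 2 ∨ D.cartan i s = -2)
    (h2 : (2 : F) = 0) (c : F) (hc0 : c ≠ 0) (hc1 : c ≠ 1) :
    ∀ r < D.nroots, ∀ t : F, xG hD r t ∈ commImage D F := by
  intro s hs t'
  obtain ⟨i, hi, hA⟩ := hcart s hs
  have hsq : c ^ 2 ≠ 1 := by
    intro h
    have h3 : (c + 1) ^ 2 = 0 := by
      have : (c + 1) ^ 2 = c ^ 2 + 2 * c + 1 := by ring
      rw [this, h, h2, zero_mul, add_zero]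
      have : (1 : F) + 1 = 2 := by norm_num
      rw [this, h2]
    have h4 : c + 1 = 0 := pow_eq_zero_iff (by norm_num) |>.mp h3
    have h5 : c = -1 := eq_neg_of_add_eq_zero_left h4
    have h6 : (-1 : F) = 1 := by
      have : (1 : F) + 1 = 0 := by rw [← h2]; norm_num
      exact neg_eq_of_add_eq_zero_left this
    exact hc1 (h5.trans h6)
  have hne : c ^ (D.cartan i s) ≠ 1 := by
    rcases hA with h | h | h | h <;> rw [h]
    · simpa using hc1
    · rw [zpow_neg, zpow_one]
      intro h'
      exact hc1 (inv_eq_one.mp h')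
    · exact_mod_cast hsq
    · rw [zpow_neg]
      intro h'
      exact hsq (by exact_mod_cast inv_eq_one.mp h')
  have hne' : c ^ (D.cartan i s) - 1 ≠ 0 := sub_ne_zero.mpr hne
  obtain ⟨g, hg⟩ := exists_unit_hMat_simple D hD i hi c hc0
  have hp : D.simple i < D.nroots := simple_lt' D hD i hi
  have hgH : g ∈ D.diagonalSubgroup F := Subgroup.subset_closure ⟨D.simple i, c, hp, hc0, hg⟩
  have hgG : g ∈ D.group F := Cfsg.Agent.S1043.diagonal_le_group D hD hgH
  have hconj : ∀ t : F, g * xG hD s t * g⁻¹ = xG hD s (c ^ (D.cartan i s) * t) := by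
    intro t
    rw [mul_inv_eq_iff_eq_mul]
    apply Units.ext
    rw [Units.val_mul, Units.val_mul, coe_xG, coe_xG, hg]
    exact Cfsg.Agent.S1032.result D hD i s hi hs c hc0 t
  have key := commutator_mem_commImage g (xG hD s (t' / (c ^ (D.cartan i s) - 1))) hgG (xG_mem_group hD s _)
  rw [hconj, xG_inv, xG_mul] at key
  have e : c ^ (D.cartan i s) * (t' / (c ^ (D.cartan i s) - 1)) + -(t' / (c ^ (D.cartan i s) - 1)) = t' := by
    field_simp
    ring
  rw [e] at key
  exact key

/-- `G = G'` for every type G₂, B₂, D₄, F₄, E₆, E₇, E₈ over every field, except G₂ and B₂ over the field with two elements. -/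
theorem result {F : Type*} [Field F] (D : Cfsg.Lie.ChevalleyDatum) (hD : D ∈ [Cfsg.Lie.chevG2, Cfsg.Lie.chevB2, Cfsg.Lie.chevD4, Cfsg.Lie.chevF4, Cfsg.Lie.chevE6, Cfsg.Lie.chevE7, Cfsg.Lie.chevE8]) (h2 : D = Cfsg.Lie.chevG2 ∨ D = Cfsg.Lie.chevB2 → ∃ a : F, a ≠ 0 ∧ a ≠ 1) :
    commutator ↥(D.group F) = ⊤ := by
  simp only [List.mem_cons, List.not_mem_nil, or_false] at hD
  rcases hD with rfl | rfl | rfl | rfl | rfl | rfl | rfl
  · by_cases h : (2 : F) = 0
    · obtain ⟨a, ha0, ha1⟩ := h2 (Or.inl rfl)
      exact commutator_eq_top_of_forall (by simp) (xG_mem_commImage_of_cartan chevG2 (by simp) (by decide) h a ha0 ha1)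
    · exact commutator_eq_top_of_forall (by simp)
        (xG_mem_commImage_of_perfOK (by simp) chevData_G2.{u_1} perfCert_G2 true perfOK_G2 (fun _ => h))
  · by_cases h : (2 : F) = 0
    · obtain ⟨a, ha0, ha1⟩ := h2 (Or.inr rfl)
      exact commutator_eq_top_of_forall (by simp) (xG_mem_commImage_of_cartan chevB2 (by simp) (by decide) h a ha0 ha1)
    · exact commutator_eq_top_of_forall (by simp)
        (xG_mem_commImage_of_perfOK (by simp) chevData_B2.{u_1} perfCert_B2 true perfOK_B2 (fun _ => h))
  · exact commutator_eq_top_of_forall (by simp)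
      (xG_mem_commImage_of_perfOK (by simp) chevData_D4.{u_1} perfCert_D4 false perfOK_D4 (by simp))
  · exact commutator_eq_top_of_forall (by simp)
      (xG_mem_commImage_of_perfOK (by simp) chevData_F4.{u_1} perfCert_F4 false perfOK_F4 (by simp))
  · exact commutator_eq_top_of_forall (by simp)
      (xG_mem_commImage_of_perfOK (by simp) chevData_E6.{u_1} perfCert_E6 false perfOK_E6 (by simp))
  · exact commutator_eq_top_of_forall (by simp)
      (xG_mem_commImage_of_perfOK (by simp) chevData_E7.{u_1} perfCert_E7 false perfOK_E7 (by simp))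
  · exact commutator_eq_top_of_forall (by simp)
      (xG_mem_commImage_of_perfOK (by simp) chevData_E8.{u_1} perfCert_E8 false perfOK_E8 (by simp))

end Cfsg.Agent.S1052
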