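import Cfsg.Statements.S1099
-- import your own Cfsg.Agent.* helpers here
import Cfsg.Agent.Lib.Helper91.ExcAut
import Cfsg.Agent.S1055
import Cfsg.Agent.S2158

set_option autoImplicit false
open Cfsg

namespace Cfsg.Agent.S1099

open Cfsg.Lie Cfsg.Agent.Lib.Helper18 Cfsg.Agent.Lib.Helper91.ChevGen Cfsg.Agent.Lib.Helper91.ExcAut

universe u

/-- The coordinates of the short-root ideal (`h_a` and the short root vectors), and those of the quotient (`h_b`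
and the long root vectors), matched by the graph symmetry. -/
def g2Blocks : Blocks chevG2 7 where
  eI := ![Sum.inl ⟨0, by decide⟩, Sum.inr ⟨2, by decide⟩, Sum.inr ⟨3, by decide⟩, Sum.inr ⟨4, by decide⟩,
    Sum.inr ⟨7, by decide⟩, Sum.inr ⟨8, by decide⟩, Sum.inr ⟨9, by decide⟩]
  eJ := ![Sum.inl ⟨1, by decide⟩, Sum.inr ⟨0, by decide⟩, Sum.inr ⟨1, by decide⟩, Sum.inr ⟨5, by decide⟩,
    Sum.inr ⟨6, by decide⟩, Sum.inr ⟨10, by decide⟩, Sum.inr ⟨11, by decide⟩]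
  bij := by decide

set_option maxRecDepth 100000 in
theorem zero_chk : ∀ r ∈ [4, 5, 6, 7], ∀ j i : Fin 7,
    zeroChk chevG2 3 r (code chevG2 (g2Blocks.eI i)) (code chevG2 (g2Blocks.eJ j)) = true := by
  decide +kernel

set_option maxRecDepth 100000 in
theorem eq_chk : ∀ q ∈ [((7 : ℕ), (6 : ℕ), (3 : ℕ)), (6, 7, 1), (4, 5, 3), (5, 4, 1)], ∀ i j : Fin 7,
    eqChk chevG2 3 q.1 q.2.1 q.2.2 (code chevG2 (g2Blocks.eJ j)) (code chevG2 (g2Blocks.eJ i))
      (code chevG2 (g2Blocks.eI j)) (code chevG2 (g2Blocks.eI i)) = true := by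
  decide +kernel

theorem hD2 : chevG2 ∈ [chevG2, chevB2, chevD4, chevF4, chevE6, chevE7, chevE8] := by simp

theorem main {K : Type u} [Field K] [CharP K 3] (hperf : ∀ x : K, ∃ y : K, y ^ 3 = x) :
    ∃ α : ↥(chevG2.group K) ≃* ↥(chevG2.group K), ∀ (g : ↥(chevG2.group K)) (t : K),
      (((g : GL chevG2.Idx K) : Matrix _ _ K) = chevG2.x K 7 t →
        ((α g : GL chevG2.Idx K) : Matrix _ _ K) = chevG2.x K 6 (t ^ 3)) ∧
      (((g : GL chevG2.Idx K) : Matrix _ _ K) = chevG2.x K 6 t →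
        ((α g : GL chevG2.Idx K) : Matrix _ _ K) = chevG2.x K 7 t) ∧
      (((g : GL chevG2.Idx K) : Matrix _ _ K) = chevG2.x K 4 t →
        ((α g : GL chevG2.Idx K) : Matrix _ _ K) = chevG2.x K 5 (t ^ 3)) ∧
      (((g : GL chevG2.Idx K) : Matrix _ _ K) = chevG2.x K 5 t →
        ((α g : GL chevG2.Idx K) : Matrix _ _ K) = chevG2.x K 4 t) := by
  have h3 : ((3 : ℕ) : K) = 0 := CharP.cast_eq_zero K 3
  have h3' : (3 : K) = 0 := by exact_mod_cast h3
  have pair : ∀ q ∈ [((7 : ℕ), (6 : ℕ), (3 : ℕ)), (6, 7, 1), (4, 5, 3), (5, 4, 1)], ∀ t : K,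
      (xG hD2 q.1 t, xG hD2 q.2.1 (t ^ q.2.2)) ∈ g2Blocks.rel K := by
    intro q hq t
    have hq' : q.1 ∈ [4, 5, 6, 7] ∧ q.2.1 ∈ [4, 5, 6, 7] ∧ q.1 < chevG2.nroots ∧ q.2.1 < chevG2.nroots := by
      simp only [List.mem_cons, List.not_mem_nil, or_false] at hq
      rcases hq with rfl | rfl | rfl | rfl <;> decide
    exact g2Blocks.pair_mem_rel hD2 3 h3 q.1 q.2.1 hq'.2.2.1 hq'.2.2.2 q.2.2 (zero_chk _ hq'.1)
      (zero_chk _ hq'.2.1) (eq_chk q hq) t
  have mem : ∀ (r : ℕ) (t : K), r < chevG2.nroots → xG hD2 r t ∈ chevG2.group K :=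
    fun r t hr => xG_mem_group hD2 r hr t
  have h1 : ∀ x ∈ fundSet chevG2 K, ∃ y ∈ chevG2.group K, (x, y) ∈ g2Blocks.rel K := by
    rintro x ⟨i, t, hi, hx | hx⟩
    · change i < 2 at hi
      interval_cases i
      · rw [eq_xG hD2 x 7 t hx]
        exact ⟨_, mem 6 _ (by decide), pair (7, 6, 3) (by simp) t⟩
      · rw [eq_xG hD2 x 6 t hx]
        exact ⟨_, mem 7 _ (by decide), pair (6, 7, 1) (by simp) t⟩
    · change i < 2 at hi
      interval_cases i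
      · rw [eq_xG hD2 x 4 t hx]
        exact ⟨_, mem 5 _ (by decide), pair (4, 5, 3) (by simp) t⟩
      · rw [eq_xG hD2 x 5 t hx]
        exact ⟨_, mem 4 _ (by decide), pair (5, 4, 1) (by simp) t⟩
  have h2 : ∀ y ∈ fundSet chevG2 K, ∃ x ∈ chevG2.group K, (x, y) ∈ g2Blocks.rel K := by
    rintro y ⟨i, s, hi, hy | hy⟩
    · change i < 2 at hi
      interval_cases i
      · rw [eq_xG hD2 y 7 s hy]
        refine ⟨_, mem 6 s (by decide), ?_⟩
        have := pair (6, 7, 1) (by simp) s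
        rwa [pow_one] at this
      · rw [eq_xG hD2 y 6 s hy]
        obtain ⟨t, rfl⟩ := hperf s
        exact ⟨_, mem 7 t (by decide), pair (7, 6, 3) (by simp) t⟩
    · change i < 2 at hi
      interval_cases i
      · rw [eq_xG hD2 y 4 s hy]
        refine ⟨_, mem 5 s (by decide), ?_⟩
        have := pair (5, 4, 1) (by simp) s
        rwa [pow_one] at this
      · rw [eq_xG hD2 y 5 s hy]
        obtain ⟨t, rfl⟩ := hperf s
        exact ⟨_, mem 4 t (by decide), pair (4, 5, 3) (by simp) t⟩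
  -- every element of the group leaves the short-root ideal invariant
  have hBT : ∀ g ∈ chevG2.group K, g2Blocks.IsBT (g : Matrix chevG2.Idx chevG2.Idx K) := by
    intro g hg
    obtain ⟨y, -, hr⟩ := g2Blocks.exists_rel_left hD2 h1 g hg
    exact ((g2Blocks.mem_rel_iff _).mp hr).1
  -- simplicity
  have hF : ∃ a : K, a ≠ 0 ∧ a ≠ 1 := by
    refine ⟨2, ?_, ?_⟩
    · intro h
      exact one_ne_zero (by linear_combination h3' - h : (1 : K) = 0)
    · intro h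
      exact one_ne_zero (by linear_combination h : (1 : K) = 0)
  have hs : IsSimpleGroup ↥(chevG2.group K) := (Cfsg.Agent.S1055.result hF).1
  have hI : ∀ g ∈ chevG2.group K, g2Blocks.bI (g : Matrix chevG2.Idx chevG2.Idx K) = 1 → g = 1 := by
    apply Blocks.faithful_of_simple g2Blocks.bI g2Blocks.bI_one
      (fun g _ h hh => by rw [Units.val_mul]; exact Blocks.bI_mul (hBT h hh))
      (xG hD2 7 1) (mem 7 1 (by decide))
    intro h
    have e := congrFun (congrFun h (4 : Fin 7)) (3 : Fin 7)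
    have key : chevG2.x K 7 1 (g2Blocks.eI 4) (g2Blocks.eI 3) = -((1 : K) ^ 2) :=
      Cfsg.Agent.S2158.x_apply_root_negroot (F := K) chevG2 hD2 7 (by decide) (1 : K)
    rw [Blocks.bI, Matrix.submatrix_apply, coe_xG, key, Matrix.one_apply_ne (by decide)] at e
    simp at e
  have hJ : ∀ g ∈ chevG2.group K, g2Blocks.bJ (g : Matrix chevG2.Idx chevG2.Idx K) = 1 → g = 1 := by
    apply Blocks.faithful_of_simple g2Blocks.bJ g2Blocks.bJ_one
      (fun g hg h _ => by rw [Units.val_mul]; exact Blocks.bJ_mul (hBT g hg))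
      (xG hD2 6 1) (mem 6 1 (by decide))
    intro h
    have e := congrFun (congrFun h (4 : Fin 7)) (3 : Fin 7)
    have key : chevG2.x K 6 1 (g2Blocks.eJ 4) (g2Blocks.eJ 3) = -((1 : K) ^ 2) :=
      Cfsg.Agent.S2158.x_apply_root_negroot (F := K) chevG2 hD2 6 (by decide) (1 : K)
    rw [Blocks.bJ, Matrix.submatrix_apply, coe_xG, key, Matrix.one_apply_ne (by decide)] at e
    simp at e
  obtain ⟨α, hα⟩ := g2Blocks.exists_aut hD2 h1 h2 hI hJ
  refine ⟨α, fun g t => ⟨?_, ?_, ?_, ?_⟩⟩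
  · intro hg
    have e : (g : GL chevG2.Idx K) = xG hD2 7 t := eq_xG hD2 _ 7 t hg
    rw [hα g ⟨xG hD2 6 (t ^ 3), mem 6 _ (by decide)⟩ (by rw [e]; exact pair (7, 6, 3) (by simp) t)]
    rfl
  · intro hg
    have e : (g : GL chevG2.Idx K) = xG hD2 6 t := eq_xG hD2 _ 6 t hg
    rw [hα g ⟨xG hD2 7 t, mem 7 _ (by decide)⟩ (by
      rw [e]
      have := pair (6, 7, 1) (by simp) t
      rwa [pow_one] at this)]
    rfl
  · intro hg
    have e : (g : GL chevG2.Idx K) = xG hD2 4 t := eq_xG hD2 _ 4 t hg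
    rw [hα g ⟨xG hD2 5 (t ^ 3), mem 5 _ (by decide)⟩ (by rw [e]; exact pair (4, 5, 3) (by simp) t)]
    rfl
  · intro hg
    have e : (g : GL chevG2.Idx K) = xG hD2 5 t := eq_xG hD2 _ 5 t hg
    rw [hα g ⟨xG hD2 4 t, mem 4 _ (by decide)⟩ (by
      rw [e]
      have := pair (5, 4, 1) (by simp) t
      rwa [pow_one] at this)]
    rfl

/-- Graph automorphism of G₂ in characteristic 3 (K perfect): `x_a(t) ↦ x_b(t³)`, `x_b(t) ↦ x_a(t)`, `x_{-a}(t) ↦ x_{-b}(t³)`, `x_{-b}(t) ↦ x_{-a}(t)` extend to an automorphism of the group. -/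
theorem result {K : Type*} [Field K] [CharP K 3] (hperf : ∀ x : K, ∃ y : K, y ^ 3 = x) :
    ∃ α : ↥(Cfsg.Lie.chevG2.group K) ≃* ↥(Cfsg.Lie.chevG2.group K), ∀ (g : ↥(Cfsg.Lie.chevG2.group K)) (t : K),
      (((g : GL Cfsg.Lie.chevG2.Idx K) : Matrix _ _ K) = Cfsg.Lie.chevG2.x K Cfsg.Lie.g2a t →
        ((α g : GL Cfsg.Lie.chevG2.Idx K) : Matrix _ _ K) = Cfsg.Lie.chevG2.x K Cfsg.Lie.g2b (t ^ 3)) ∧
      (((g : GL Cfsg.Lie.chevG2.Idx K) : Matrix _ _ K) = Cfsg.Lie.chevG2.x K Cfsg.Lie.g2b t →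
        ((α g : GL Cfsg.Lie.chevG2.Idx K) : Matrix _ _ K) = Cfsg.Lie.chevG2.x K Cfsg.Lie.g2a t) ∧
      (((g : GL Cfsg.Lie.chevG2.Idx K) : Matrix _ _ K) = Cfsg.Lie.chevG2.x K Cfsg.Lie.g2ma t →
        ((α g : GL Cfsg.Lie.chevG2.Idx K) : Matrix _ _ K) = Cfsg.Lie.chevG2.x K Cfsg.Lie.g2mb (t ^ 3)) ∧
      (((g : GL Cfsg.Lie.chevG2.Idx K) : Matrix _ _ K) = Cfsg.Lie.chevG2.x K Cfsg.Lie.g2mb t →
        ((α g : GL Cfsg.Lie.chevG2.Idx K) : Matrix _ _ K) = Cfsg.Lie.chevG2.x K Cfsg.Lie.g2ma t) :=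
  main hperf

end Cfsg.Agent.S1099
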