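import Cfsg.Statements.S1098
-- import your own Cfsg.Agent.* helpers here
import Cfsg.Agent.Lib.Helper91.ExcAut2

set_option autoImplicit false
open Cfsg

namespace Cfsg.Agent.S1098

open Cfsg.Lie Cfsg.Agent.Lib.Helper18 Cfsg.Agent.Lib.Helper91.ChevGen Cfsg.Agent.Lib.Helper91.ExcAut

universe u

/-- Type B₂: the coordinates of the short-root ideal and of the quotient, matched by the graph symmetry. -/
def b2Blocks : Blocks chevB2 5 where
  eI := ![Sum.inl ⟨0, by decide⟩, Sum.inr ⟨1, by decide⟩, Sum.inr ⟨2, by decide⟩, Sum.inr ⟨5, by decide⟩, Sum.inr ⟨6, by decide⟩]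
  eJ := ![Sum.inl ⟨1, by decide⟩, Sum.inr ⟨0, by decide⟩, Sum.inr ⟨3, by decide⟩, Sum.inr ⟨4, by decide⟩, Sum.inr ⟨7, by decide⟩]
  bij := by decide

/-- Type F₄: the coordinates of the short-root ideal and of the quotient, matched by the graph symmetry. -/
def f4Blocks : Blocks chevF4 26 where
  eI := ![Sum.inl ⟨1, by decide⟩, Sum.inl ⟨0, by decide⟩, Sum.inr ⟨3, by decide⟩, Sum.inr ⟨7, by decide⟩, Sum.inr ⟨8, by decide⟩, Sum.inr ⟨9, by decide⟩, Sum.inr ⟨11, by decide⟩, Sum.inr ⟨18, by decide⟩, Sum.inr ⟨10, by decide⟩, Sum.inr ⟨12, by decide⟩, Sum.inr ⟨19, by decide⟩, Sum.inr ⟨13, by decide⟩, Sum.inr ⟨20, by decide⟩, Sum.inr ⟨14, by decide⟩, Sum.inr ⟨33, by decide⟩, Sum.inr ⟨27, by decide⟩, Sum.inr ⟨34, by decide⟩, Sum.inr ⟨28, by decide⟩, Sum.inr ⟨35, by decide⟩, Sum.inr ⟨37, by decide⟩, Sum.inr ⟨29, by decide⟩, Sum.inr ⟨36, by decide⟩, Sum.inr ⟨38, by decide⟩, Sum.inr ⟨39, by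 decide⟩, Sum.inr ⟨40, by decide⟩, Sum.inr ⟨44, by decide⟩]
  eJ := ![Sum.inl ⟨2, by decide⟩, Sum.inl ⟨3, by decide⟩, Sum.inr ⟨0, by decide⟩, Sum.inr ⟨1, by decide⟩, Sum.inr ⟨2, by decide⟩, Sum.inr ⟨4, by decide⟩, Sum.inr ⟨5, by decide⟩, Sum.inr ⟨6, by decide⟩, Sum.inr ⟨15, by decide⟩, Sum.inr ⟨16, by decide⟩, Sum.inr ⟨17, by decide⟩, Sum.inr ⟨21, by decide⟩, Sum.inr ⟨22, by decide⟩, Sum.inr ⟨23, by decide⟩, Sum.inr ⟨24, by decide⟩, Sum.inr ⟨25, by decide⟩, Sum.inr ⟨26, by decide⟩, Sum.inr ⟨30, by decide⟩, Sum.inr ⟨31, by decide⟩, Sum.inr ⟨32, by decide⟩, Sum.inr ⟨41, by decide⟩, Sum.inr ⟨42, by decide⟩, Sum.inr ⟨43, by decide⟩, Sum.inr ⟨45, by decide⟩, Sum.inr ⟨46, by decide⟩, Sum.inr ⟨47, by decide⟩]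
  bij := by decide +kernel

set_option maxRecDepth 100000 in
theorem b2_chk : ChkAll chevB2 b2Blocks 2 [(1, 2), (0, 1)] := by
  unfold ChkAll
  decide +kernel

set_option maxRecDepth 100000 in
theorem f4_chk : ChkAll chevF4 f4Blocks 2 [(3, 2), (2, 2), (1, 1), (0, 1)] := by
  unfold ChkAll
  decide +kernel

theorem mainB2 {K : Type u} [Field K] [CharP K 2] (hperf : ∀ x : K, ∃ y : K, y ^ 2 = x) :
    ∃ α : ↥(chevB2.group K) ≃* ↥(chevB2.group K), ∀ (g : ↥(chevB2.group K)) (i : ℕ) (t : K), i < chevB2.rank →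
      (((g : GL chevB2.Idx K) : Matrix chevB2.Idx chevB2.Idx K) = chevB2.x K (chevB2.simple i) t →
        ((α g : GL chevB2.Idx K) : Matrix chevB2.Idx chevB2.Idx K)
          = chevB2.x K (chevB2.simple (([(1, 2), (0, 1)] : List (ℕ × ℕ)).getD i (0, 1)).1)
              (t ^ (([(1, 2), (0, 1)] : List (ℕ × ℕ)).getD i (0, 1)).2)) ∧
      (((g : GL chevB2.Idx K) : Matrix chevB2.Idx chevB2.Idx K) = chevB2.x K (chevB2.neg (chevB2.simple i)) t →
        ((α g : GL chevB2.Idx K) : Matrix chevB2.Idx chevB2.Idx K)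
          = chevB2.x K (chevB2.neg (chevB2.simple (([(1, 2), (0, 1)] : List (ℕ × ℕ)).getD i (0, 1)).1))
              (t ^ (([(1, 2), (0, 1)] : List (ℕ × ℕ)).getD i (0, 1)).2)) :=
  exists_graph_aut (F := K) (by simp) chevData_B2.{u} [0, 1] dynkinOK_B2 b2Blocks 2 (CharP.cast_eq_zero K 2) hperf
    [(1, 2), (0, 1)] (by decide) (by decide) (by decide) b2_chk
    5 (by decide) (by decide) 2 3 rfl rfl 4 (by decide) (by decide) 2 3 rfl rfl

theorem mainF4 {K : Type u} [Field K] [CharP K 2] (hperf : ∀ x : K, ∃ y : K, y ^ 2 = x) :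
    ∃ α : ↥(chevF4.group K) ≃* ↥(chevF4.group K), ∀ (g : ↥(chevF4.group K)) (i : ℕ) (t : K), i < chevF4.rank →
      (((g : GL chevF4.Idx K) : Matrix chevF4.Idx chevF4.Idx K) = chevF4.x K (chevF4.simple i) t →
        ((α g : GL chevF4.Idx K) : Matrix chevF4.Idx chevF4.Idx K)
          = chevF4.x K (chevF4.simple (([(3, 2), (2, 2), (1, 1), (0, 1)] : List (ℕ × ℕ)).getD i (0, 1)).1)
              (t ^ (([(3, 2), (2, 2), (1, 1), (0, 1)] : List (ℕ × ℕ)).getD i (0, 1)).2)) ∧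
      (((g : GL chevF4.Idx K) : Matrix chevF4.Idx chevF4.Idx K) = chevF4.x K (chevF4.neg (chevF4.simple i)) t →
        ((α g : GL chevF4.Idx K) : Matrix chevF4.Idx chevF4.Idx K)
          = chevF4.x K (chevF4.neg (chevF4.simple (([(3, 2), (2, 2), (1, 1), (0, 1)] : List (ℕ × ℕ)).getD i (0, 1)).1))
              (t ^ (([(3, 2), (2, 2), (1, 1), (0, 1)] : List (ℕ × ℕ)).getD i (0, 1)).2)) :=
  exists_graph_aut (F := K) (by simp) chevData_F4.{u} [0, 1, 2, 3] dynkinOK_F4 f4Blocks 2 (CharP.cast_eq_zero K 2)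
    hperf [(3, 2), (2, 2), (1, 1), (0, 1)] (by decide) (by decide) (by decide) f4_chk
    33 (by decide) (by decide) 13 14 rfl rfl 24 (by decide) (by decide) 13 14 rfl rfl

/-- Graph automorphisms in characteristic 2 (K perfect): for B₂ (a short, b long) `x_a(t) ↦ x_b(t²)`, `x_b(t) ↦ x_a(t)`, and for F₄ (p₁, p₂ short, p₃, p₄ long) `x_{p₁}(t) ↦ x_{p₄}(t²)`, `x_{p₂}(t) ↦ x_{p₃}(t²)`, `x_{p₃}(t) ↦ x_{p₂}(t)`, `x_{p₄}(t) ↦ x_{p₁}(t)`, likewise on the negatives, extend to an automorphism of the group. -/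
theorem result {K : Type*} [Field K] [CharP K 2] (hperf : ∀ x : K, ∃ y : K, y ^ 2 = x)
    (p : Cfsg.Lie.ChevalleyDatum × List (ℕ × ℕ))
    (hp : p ∈ [(Cfsg.Lie.chevB2, [(1, 2), (0, 1)]), (Cfsg.Lie.chevF4, [(3, 2), (2, 2), (1, 1), (0, 1)])]) :
    ∃ α : ↥(p.1.group K) ≃* ↥(p.1.group K), ∀ (g : ↥(p.1.group K)) (i : ℕ) (t : K), i < p.1.rank →
      (((g : GL p.1.Idx K) : Matrix p.1.Idx p.1.Idx K) = p.1.x K (p.1.simple i) t →
        ((α g : GL p.1.Idx K) : Matrix p.1.Idx p.1.Idx K) = p.1.x K (p.1.simple (p.2.getD i (0, 1)).1) (t ^ (p.2.getD i (0, 1)).2)) ∧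
      (((g : GL p.1.Idx K) : Matrix p.1.Idx p.1.Idx K) = p.1.x K (p.1.neg (p.1.simple i)) t →
        ((α g : GL p.1.Idx K) : Matrix p.1.Idx p.1.Idx K) = p.1.x K (p.1.neg (p.1.simple (p.2.getD i (0, 1)).1)) (t ^ (p.2.getD i (0, 1)).2)) := by
  simp only [List.mem_cons, List.not_mem_nil, or_false] at hp
  rcases hp with rfl | rfl
  · exact mainB2 hperf
  · exact mainF4 hperf

end Cfsg.Agent.S1098
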