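import Cfsg.Statements.S1122
import Cfsg.Agent.Lib.Helper19.RankOneInvol

set_option autoImplicit false
open Cfsg

namespace Cfsg.Agent.S1122

open Cfsg.Agent.Lib.Helper19

section

variable {G Ω : Type*} [Group G] [MulAction G Ω] {a : Ω} {t : G} {Q : Subgroup G}

/-- involutions not fixing `a` -/
def J (G : Type*) {Ω : Type*} [Group G] [MulAction G Ω] (a : Ω) : Set G :=
  {u | u ≠ 1 ∧ u * u = 1 ∧ u ∉ MulAction.stabilizer G a}

theorem t_cancel (hS : Cfsg.IsRankOneSetup G Ω a t Q) (x : G) : t * (t * x) = x := by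
  rw [← mul_assoc, hS.mul_self, one_mul]

theorem f1_mem (hS : Cfsg.IsRankOneSetup G Ω a t Q) {x k : G} (hx : x ∈ Q)
    (hk : k ∈ Cfsg.invertedBy (roD G a t) t) : x * (t * k) * x⁻¹ ∈ J G a := by
  obtain ⟨hkD, hkt⟩ := hk
  rw [ro_tinv hS] at hkt
  have hsq : x * (t * k) * x⁻¹ * (x * (t * k) * x⁻¹) = 1 := by
    have : t * k * (t * k) = 1 := by
      calc t * k * (t * k) = (t * k * t) * k := by group
        _ = 1 := by rw [hkt, inv_mul_cancel]
    calc x * (t * k) * x⁻¹ * (x * (t * k) * x⁻¹) = x * (t * k * (t * k)) * x⁻¹ := by group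
      _ = 1 := by rw [this]; group
  have hmove : (x * (t * k) * x⁻¹) • a = x • (t • a) := by
    rw [mul_smul, mul_smul, mul_smul, ro_Q_fix hS (Q.inv_mem hx), MulAction.mem_stabilizer_iff.1 hkD.1]
  have hnot : x * (t * k) * x⁻¹ ∉ MulAction.stabilizer G a := by
    rw [MulAction.mem_stabilizer_iff, hmove]
    exact ro_Q_smul_ne hS hx (ro_ta_ne hS)
  refine ⟨?_, hsq, hnot⟩
  intro h
  apply hnot
  rw [h]
  exact Subgroup.one_mem _

theorem f2_mem (hS : Cfsg.IsRankOneSetup G Ω a t Q) {x s : G} (hx : x ∈ Q)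
    (hs : s ∈ Cfsg.involutionsIn (MulAction.stabilizer G a : Set G)) : x * (t * s * t) * x⁻¹ ∈ J G a := by
  obtain ⟨hsa, hs1, hs2⟩ := hs
  have htt := hS.mul_self
  have hsq : x * (t * s * t) * x⁻¹ * (x * (t * s * t) * x⁻¹) = 1 := by
    have : t * s * t * (t * s * t) = 1 := by
      calc t * s * t * (t * s * t) = t * s * (t * t) * s * t := by group
        _ = t * (s * s) * t := by rw [htt]; group
        _ = 1 := by rw [hs2, mul_one, htt]
    calc x * (t * s * t) * x⁻¹ * (x * (t * s * t) * x⁻¹) = x * (t * s * t * (t * s * t)) * x⁻¹ := by group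
      _ = 1 := by rw [this]; group
  have hsQ : s ∈ Q := ro_invol_mem_Q hS hsa hs2
  have hnot : x * (t * s * t) * x⁻¹ ∉ MulAction.stabilizer G a := by
    rw [MulAction.mem_stabilizer_iff]
    intro h
    rw [mul_smul, mul_smul, ro_Q_fix hS (Q.inv_mem hx)] at h
    have h1 : (t * s * t) • a = a := by
      have : x⁻¹ • (x • ((t * s * t) • a)) = x⁻¹ • a := by rw [h]
      rwa [smul_smul, inv_mul_cancel, one_smul, ro_Q_fix hS (Q.inv_mem hx)] at this
    have h2 : s • (t • a) = t • a := by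
      have e : s • (t • a) = t • ((t * s * t) • a) := by
        rw [smul_smul, smul_smul]
        congr 1
        simp [mul_assoc, t_cancel hS]
      rw [e, h1]
    exact ro_ta_ne hS ((ro_Q_fix_iff hS hsQ hs1 (t • a)).1 h2)
  refine ⟨?_, hsq, hnot⟩
  intro h
  apply hnot
  rw [h]
  exact Subgroup.one_mem _

/-- first parametrisation of `J` -/
theorem f1_bij (hS : Cfsg.IsRankOneSetup G Ω a t Q) :
    Function.Bijective (fun p : Q × ↥(Cfsg.invertedBy (roD G a t) t) =>
      (⟨(p.1 : G) * (t * (p.2 : G)) * (p.1 : G)⁻¹, f1_mem hS p.1.2 p.2.2⟩ : ↥(J G a))) := by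
  constructor
  · rintro ⟨⟨x, hx⟩, ⟨k, hk⟩⟩ ⟨⟨x', hx'⟩, ⟨k', hk'⟩⟩ h
    have h' : x * (t * k) * x⁻¹ = x' * (t * k') * x'⁻¹ := congrArg Subtype.val h
    have hm : ∀ {y l : G}, y ∈ Q → l ∈ Cfsg.invertedBy (roD G a t) t →
        (y * (t * l) * y⁻¹) • a = y • (t • a) := by
      intro y l hy hl
      rw [mul_smul, mul_smul, mul_smul, ro_Q_fix hS (Q.inv_mem hy), MulAction.mem_stabilizer_iff.1 hl.1.1]
    have h1 : x • (t • a) = x' • (t • a) := by
      rw [← hm hx hk, ← hm hx' hk', h']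
    obtain ⟨z, _, hz⟩ := ro_regular hS (ro_ta_ne hS) (ro_Q_smul_ne hS hx' (ro_ta_ne hS))
    have e1 : (⟨x, hx⟩ : Q) = ⟨x', hx'⟩ := by
      rw [hz ⟨x, hx⟩ h1, hz ⟨x', hx'⟩ rfl]
    have e1' : x = x' := congrArg Subtype.val e1
    subst e1'
    have e2 : k = k' := by
      have := mul_left_cancel (mul_right_cancel h')
      exact mul_left_cancel this
    subst e2
    rfl
  · rintro ⟨u, hu1, hu2, hua⟩
    have hua' : u • a ≠ a := fun h => hua (MulAction.mem_stabilizer_iff.2 h)
    obtain ⟨x, hx, hxc⟩ := ro_Q_trans hS hua'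
    have hui : u⁻¹ = u := inv_eq_of_mul_eq_one_left hu2
    have hxinv : x⁻¹ • (u • a) = t • a := by
      rw [← hxc, smul_smul, inv_mul_cancel, one_smul]
    have huu : u • (u • a) = a := by rw [smul_smul, hu2, one_smul]
    have hk : t * (x⁻¹ * u * x) ∈ Cfsg.invertedBy (roD G a t) t := by
      refine ⟨⟨MulAction.mem_stabilizer_iff.2 ?_, MulAction.mem_stabilizer_iff.2 ?_⟩, ?_⟩
      · rw [mul_smul, mul_smul, mul_smul, ro_Q_fix hS hx, hxinv, ro_tta hS]
      · rw [mul_smul, mul_smul, mul_smul, hxc, huu,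
          ro_Q_fix hS (Q.inv_mem hx)]
      · rw [ro_tinv hS]
        have : (t * (x⁻¹ * u * x))⁻¹ = x⁻¹ * u⁻¹ * x * t⁻¹ := by group
        rw [this, hui, ro_tinv hS]
        simp [mul_assoc, t_cancel hS]
    refine ⟨(⟨x, hx⟩, ⟨t * (x⁻¹ * u * x), hk⟩), ?_⟩
    apply Subtype.ext
    simp only
    simp [mul_assoc, t_cancel hS]

variable [Finite G]

/-- second parametrisation of `J` -/
theorem f2_bij (hS : Cfsg.IsRankOneSetup G Ω a t Q) :
    Function.Bijective (fun p : Q × ↥(Cfsg.involutionsIn (MulAction.stabilizer G a : Set G)) =>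
      (⟨(p.1 : G) * (t * (p.2 : G) * t) * (p.1 : G)⁻¹, f2_mem hS p.1.2 p.2.2⟩ : ↥(J G a))) := by
  have hfix : ∀ {y r : G}, y ∈ Q → r ∈ Cfsg.involutionsIn (MulAction.stabilizer G a : Set G) →
      (y * (t * r * t) * y⁻¹) • (y • (t • a)) = y • (t • a) := by
    intro y r hy hr
    have hra : r • a = a := MulAction.mem_stabilizer_iff.1 hr.1
    have e : (y * (t * r * t) * y⁻¹) • (y • (t • a)) = (y * t * r * (t * t)) • a := by
      rw [smul_smul, smul_smul]
      congr 1
      group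
    rw [e, hS.mul_self, mul_one, mul_smul, hra, mul_smul]
  constructor
  · rintro ⟨⟨x, hx⟩, ⟨s, hs⟩⟩ ⟨⟨x', hx'⟩, ⟨s', hs'⟩⟩ h
    have h' : x * (t * s * t) * x⁻¹ = x' * (t * s' * t) * x'⁻¹ := congrArg Subtype.val h
    obtain ⟨hu1, hu2, _⟩ := f2_mem hS hx hs
    obtain ⟨c, hc⟩ := ro_invol_fix hS hu1 hu2
    have h1 : x • (t • a) = c := (hc _).1 (hfix hx hs)
    have h2 : x' • (t • a) = c := by
      apply (hc _).1
      rw [h']
      exact hfix hx' hs'
    obtain ⟨z, _, hz⟩ := ro_regular hS (ro_ta_ne hS) (ro_Q_smul_ne hS hx' (ro_ta_ne hS))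
    have e1 : (⟨x, hx⟩ : Q) = ⟨x', hx'⟩ := by
      rw [hz ⟨x, hx⟩ (h1.trans h2.symm), hz ⟨x', hx'⟩ rfl]
    have e1' : x = x' := congrArg Subtype.val e1
    subst e1'
    have e2 : s = s' := by
      have := mul_left_cancel (mul_right_cancel h')
      exact mul_left_cancel (mul_right_cancel this)
    subst e2
    rfl
  · rintro ⟨u, hu1, hu2, hua⟩
    obtain ⟨c, hc⟩ := ro_invol_fix hS hu1 hu2
    have huc : u • c = c := (hc c).2 rfl
    have hca : c ≠ a := by
      intro h
      apply hua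
      rw [MulAction.mem_stabilizer_iff, ← h]
      exact huc
    obtain ⟨x, hx, hxc⟩ := ro_Q_trans hS hca
    have hxinv : x⁻¹ • c = t • a := by
      rw [← hxc, smul_smul, inv_mul_cancel, one_smul]
    have hs : t * (x⁻¹ * u * x) * t ∈ Cfsg.involutionsIn (MulAction.stabilizer G a : Set G) := by
      refine ⟨?_, ?_, ?_⟩
      · show t * (x⁻¹ * u * x) * t ∈ MulAction.stabilizer G a
        rw [MulAction.mem_stabilizer_iff, mul_smul, mul_smul, mul_smul, mul_smul, hxc, huc, hxinv,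
          ro_tta hS]
      · intro h
        apply hu1
        have h3 : x⁻¹ * u * x = 1 := by
          have : x⁻¹ * u * x = t * (t * (x⁻¹ * u * x) * t) * t := by
            simp [mul_assoc, t_cancel hS, hS.mul_self]
          rw [this, h, mul_one, hS.mul_self]
        calc u = x * (x⁻¹ * u * x) * x⁻¹ := by group
          _ = 1 := by rw [h3]; group
      · have : t * (x⁻¹ * u * x) * t * (t * (x⁻¹ * u * x) * t) = t * (x⁻¹ * (u * u) * x) * t := by
          simp [mul_assoc, t_cancel hS]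
        rw [this, hu2]
        simp [hS.mul_self]
    refine ⟨(⟨x, hx⟩, ⟨t * (x⁻¹ * u * x) * t, hs⟩), ?_⟩
    apply Subtype.ext
    simp only
    simp [mul_assoc, t_cancel hS, hS.mul_self]

theorem card_eq (hS : Cfsg.IsRankOneSetup G Ω a t Q) :
    Nat.card (Cfsg.invertedBy (roD G a t) t) = Nat.card (Cfsg.involutionsIn (MulAction.stabilizer G a : Set G)) := by
  have h1 := Nat.card_eq_of_bijective _ (f1_bij hS)
  have h2 := Nat.card_eq_of_bijective _ (f2_bij hS)
  rw [Nat.card_prod] at h1 h2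
  have h3 : Nat.card Q * Nat.card (Cfsg.invertedBy (roD G a t) t) =
      Nat.card Q * Nat.card (Cfsg.involutionsIn (MulAction.stabilizer G a : Set G)) := h1.trans h2.symm
  exact Nat.eq_of_mul_eq_mul_left Nat.card_pos h3

/-- transitivity of `K` on the involutions of `G_a` -/
theorem trans_K (hS : Cfsg.IsRankOneSetup G Ω a t Q) {s s' : G}
    (hs : s ∈ Cfsg.involutionsIn (MulAction.stabilizer G a : Set G))
    (hs' : s' ∈ Cfsg.involutionsIn (MulAction.stabilizer G a : Set G)) :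
    ∃ k ∈ Cfsg.invertedBy (roD G a t) t, k⁻¹ * s * k = s' := by
  obtain ⟨hsa, hs1, hs2⟩ := hs
  -- u = t s' t is an involution outside G_a
  have hu := f2_mem hS (Q.one_mem) hs'
  simp only [one_mul, inv_one, mul_one] at hu
  obtain ⟨hu1, hu2, hua⟩ := hu
  obtain ⟨m, hm⟩ := ro_odd_order hS hsa hs1 hs2 hua hu1 hu2
  have hm' : (s * (t * s' * t)) ^ (2 * m + 1) = 1 := by
    rw [← hm, pow_orderOf_eq_one]
  obtain ⟨hw2, hwc⟩ := dih_invol_of_odd hs2 hu2 hm'
  set w := (s * (t * s' * t)) ^ m * s with hw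
  have hwi : w⁻¹ = w := inv_eq_of_mul_eq_one_left hw2
  rw [hwi] at hwc
  -- w maps a to t • a
  have hsa' : s • a = a := MulAction.mem_stabilizer_iff.1 hsa
  have hs'a : s' • a = a := MulAction.mem_stabilizer_iff.1 hs'.1
  have hs'Q : s' ∈ Q := ro_invol_mem_Q hS hs'.1 hs'.2.2
  have hwa : w • a = t • a := by
    -- t s' t fixes w • a
    have h1 : (t * s' * t) • (w • a) = w • a := by
      rw [← hwc, smul_smul]
      have : w * s * w * w = w * s * (w * w) := by group
      rw [this, hw2, mul_one, mul_smul, hsa']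
    -- so s' fixes t • w • a
    have h2 : s' • (t • (w • a)) = t • (w • a) := by
      have e : s' • (t • (w • a)) = t • ((t * s' * t) • (w • a)) :=
        calc s' • (t • (w • a)) = (s' * t) • (w • a) := (mul_smul _ _ _).symm
          _ = (t * (t * s' * t)) • (w • a) := by
            congr 1
            simp [mul_assoc, t_cancel hS]
          _ = t • ((t * s' * t) • (w • a)) := mul_smul _ _ _
      rw [e, h1]
    have h3 : t • (w • a) = a := (ro_Q_fix_iff hS hs'Q hs'.2.1 _).1 h2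
    calc w • a = t • (t • (w • a)) := by rw [smul_smul, hS.mul_self, one_smul]
      _ = t • a := by rw [h3]
  have hwb : w • (t • a) = a := by
    rw [← hwa, smul_smul, hw2, one_smul]
  refine ⟨w * t, ⟨⟨MulAction.mem_stabilizer_iff.2 ?_, MulAction.mem_stabilizer_iff.2 ?_⟩, ?_⟩, ?_⟩
  · rw [mul_smul, hwb]
  · rw [mul_smul, ro_tta hS, hwa]
  · rw [ro_tinv hS]
    have : (w * t)⁻¹ = t⁻¹ * w⁻¹ := by group
    rw [this, ro_tinv hS, hwi]
    simp [mul_assoc, hS.mul_self]
  · have : (w * t)⁻¹ = t⁻¹ * w⁻¹ := by group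
    rw [this, ro_tinv hS, hwi]
    calc t * w * s * (w * t) = t * (w * s * w) * t := by group
      _ = t * (t * s' * t) * t := by rw [hwc]
      _ = s' := by simp [mul_assoc, t_cancel hS, hS.mul_self]

end

/-- In the rank-one set-up (`G` finite and doubly transitive on `Ω`, `t` an involution moving `a`, `Q` normal in `G_a` with `G_a = Q D`, `Q ⊓ D = 1` for the two-point stabiliser `D = G_a ⊓ G_{t • a}`, `|Q|` even, `|D|` odd), with `K` the set of elements of `D` inverted by `t`: `|K|` is the number of involutions of `G_a`, and for each involution `s` of `G_a` the `K`-conjugates of `s` are all the involutions of `G_a`. -/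
theorem result {G Ω : Type*} [Group G] [Finite G] [MulAction G Ω] {a : Ω} {t : G} {Q : Subgroup G}
    (hS : Cfsg.IsRankOneSetup G Ω a t Q) :
    Nat.card (Cfsg.invertedBy (MulAction.stabilizer G a ⊓ MulAction.stabilizer G (t • a)) t) = Nat.card (Cfsg.involutionsIn (MulAction.stabilizer G a : Set G)) ∧
      ∀ s ∈ Cfsg.involutionsIn (MulAction.stabilizer G a : Set G), ∀ s' ∈ Cfsg.involutionsIn (MulAction.stabilizer G a : Set G),
        ∃ k ∈ Cfsg.invertedBy (MulAction.stabilizer G a ⊓ MulAction.stabilizer G (t • a)) t, k⁻¹ * s * k = s' := by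
  exact ⟨card_eq hS, fun s hs s' hs' => trans_K hS hs hs'⟩

end Cfsg.Agent.S1122
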