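import Cfsg.Statements.S1128
import Cfsg.Agent.Lib.Helper19.RankOneFix

set_option autoImplicit false
open Cfsg

namespace Cfsg.Agent.S1128

open Cfsg.Agent.Lib.Helper19

/-- if `k` inverts `x` then so does every odd power of `k`. -/
theorem odd_pow_inverts {G : Type*} [Group G] {k x : G} (h : k * x * k⁻¹ = x⁻¹) (j : ℕ) :
    k ^ (2 * j + 1) * x * (k ^ (2 * j + 1))⁻¹ = x⁻¹ := by
  induction j with
  | zero => simpa using h
  | succ j ih =>
    have e1 : 2 * (j + 1) + 1 = (2 * j + 1) + 1 + 1 := by ring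
    have e2 : k * x⁻¹ * k⁻¹ = x := by
      have : k * x⁻¹ * k⁻¹ = (k * x * k⁻¹)⁻¹ := by group
      rw [this, h, inv_inv]
    calc k ^ (2 * (j + 1) + 1) * x * (k ^ (2 * (j + 1) + 1))⁻¹
        = k * (k * (k ^ (2 * j + 1) * x * (k ^ (2 * j + 1))⁻¹) * k⁻¹) * k⁻¹ := by
          rw [e1, pow_succ', pow_succ']; group
      _ = k * (k * x⁻¹ * k⁻¹) * k⁻¹ := by rw [ih]
      _ = x⁻¹ := by rw [e2, h]

/-- In the rank-one set-up (`G` finite and doubly transitive on `Ω`, `t` an involution moving `a`, `Q` normal in `G_a` with `G_a = Q D`, `Q ⊓ D = 1` for the two-point stabiliser `D = G_a ⊓ G_{t • a}`, `|Q|` even, `|D|` odd), with the action faithful and `G` containing two distinct commuting involutions: every non-identity element of `D` inverted by `t` acts fixed-point-freely on `Q`. -/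
theorem result {G Ω : Type*} [Group G] [Finite G] [MulAction G Ω] [FaithfulSMul G Ω] {a : Ω} {t : G} {Q : Subgroup G}
    (hS : Cfsg.IsRankOneSetup G Ω a t Q)
    (h2 : ∃ x y : G, x ≠ 1 ∧ y ≠ 1 ∧ x ≠ y ∧ x * x = 1 ∧ y * y = 1 ∧ x * y = y * x)
    (x : G) (hx : x ∈ Cfsg.invertedBy (MulAction.stabilizer G a ⊓ MulAction.stabilizer G (t • a)) t) (hx1 : x ≠ 1) :
    Q ⊓ Subgroup.centralizer {x} = ⊥ := by
  have hxD : x ∈ roD G a t := hx.1
  have hxt : t * x * t⁻¹ = x⁻¹ := hx.2
  rw [Subgroup.eq_bot_iff_forall]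
  rintro q ⟨hqQ, hqC⟩
  by_contra hq1
  have hqx : x * q = q * x := (Subgroup.mem_centralizer_iff.1 hqC) x (Set.mem_singleton x)
  -- X = {x} fixes a, t • a and q • (t • a)
  have hX : ({x} : Set G) ⊆ (roD G a t : Set G) := by
    intro y hy
    rw [Set.mem_singleton_iff] at hy
    rw [hy]
    exact hxD
  have hxb : x • (t • a) = t • a := MulAction.mem_stabilizer_iff.1 hxD.2
  have he : q • (t • a) ∈ fixSet Ω ({x} : Set G) := by
    intro y hy
    rw [Set.mem_singleton_iff] at hy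
    rw [hy, smul_smul, hqx, mul_smul, hxb]
  have hea : q • (t • a) ≠ a := ro_Q_smul_ne hS hqQ (ro_ta_ne hS)
  have heb : q • (t • a) ≠ t • a := by
    intro h
    exact hq1 (ro_Q_free hS hqQ (ro_ta_ne hS) h)
  obtain ⟨h, hhC, hh2, hha⟩ := fix_lemmaE hS hX he hea heb
  have hhx : x * h = h * x := (Subgroup.mem_centralizer_iff.1 hhC) x (Set.mem_singleton x)
  have hhi : h⁻¹ = h := inv_eq_of_mul_eq_one_left hh2
  have hhb : h • (t • a) = a := by rw [← hha, smul_smul, hh2, one_smul]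
  -- k0 = t h lies in D and inverts x
  have hk0D : t * h ∈ roD G a t := by
    refine ⟨MulAction.mem_stabilizer_iff.2 ?_, MulAction.mem_stabilizer_iff.2 ?_⟩
    · rw [mul_smul, hha, ro_tta hS]
    · rw [mul_smul, hhb]
  have hk0x : (t * h) * x * (t * h)⁻¹ = x⁻¹ := by
    have e : h * x * h⁻¹ = x := by rw [← hhx]; group
    calc (t * h) * x * (t * h)⁻¹ = t * (h * x * h⁻¹) * t⁻¹ := by group
      _ = x⁻¹ := by rw [e, hxt]
  -- odd powers of k0 also invert x
  have hpow : ∀ j : ℕ, (t * h) ^ (2 * j + 1) * x * ((t * h) ^ (2 * j + 1))⁻¹ = x⁻¹ :=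
    fun j => odd_pow_inverts hk0x j
  obtain ⟨j, hj⟩ := hS.odd_card
  have hk0pow : (t * h) ^ (2 * j + 1) = 1 := by
    have h0 : (⟨t * h, hk0D⟩ : roD G a t) ^ Nat.card (roD G a t) = 1 := pow_card_eq_one'
    have := congrArg Subtype.val h0
    rw [hj] at this
    simpa using this
  have hxx : x = x⁻¹ := by
    have := hpow j
    rw [hk0pow] at this
    simpa using this
  have hx2 : x * x = 1 := by
    calc x * x = x * x⁻¹ := by rw [← hxx]
      _ = 1 := mul_inv_cancel x
  exact hx1 (ro_D_sq_eq_one hS hxD hx2)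

end Cfsg.Agent.S1128
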