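import Cfsg.Statements.S1123
import Cfsg.Agent.Lib.Helper19.RankOneInvol

set_option autoImplicit false
open Cfsg

namespace Cfsg.Agent.S1123

open Cfsg.Agent.Lib.Helper19

/-- In the rank-one set-up (`G` finite and doubly transitive on `Ω`, `t` an involution moving `a`, `Q` normal in `G_a` with `G_a = Q D`, `Q ⊓ D = 1` for the two-point stabiliser `D = G_a ⊓ G_{t • a}`, `|Q|` even, `|D|` odd), there is a unique pair `(s, r)` with `s` an involution of `G_a`, `r ∈ Q` and `t s t = r⁻¹ t r`. -/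
theorem result {G Ω : Type*} [Group G] [Finite G] [MulAction G Ω] {a : Ω} {t : G} {Q : Subgroup G}
    (hS : Cfsg.IsRankOneSetup G Ω a t Q) :
    ∃! p : G × G, p.1 ∈ Cfsg.involutionsIn (MulAction.stabilizer G a : Set G) ∧ p.2 ∈ Q ∧
      t * p.1 * t = p.2⁻¹ * t * p.2 := by
  have htt := hS.mul_self
  have hti := ro_tinv hS
  -- the fixed point of t
  obtain ⟨c, hc⟩ := ro_invol_fix hS hS.ne_one hS.mul_self
  have htc : t • c = c := (hc c).2 rfl
  have hca : c ≠ a := by
    intro h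
    apply hS.not_mem
    rw [MulAction.mem_stabilizer_iff, ← h]
    exact htc
  obtain ⟨⟨r, hrQ⟩, hr, hru⟩ := ro_regular hS (ro_ta_ne hS) hca
  simp only at hr
  have hrinv : r⁻¹ • c = t • a := by
    rw [← hr, smul_smul, inv_mul_cancel, one_smul]
  set s := t * (r⁻¹ * t * r) * t with hs
  have hsa : s • a = a := by
    rw [hs, mul_smul, mul_smul, mul_smul, mul_smul, hr, htc, hrinv, ro_tta hS]
  have ht1 : ∀ x : G, t * (t * x) = x := by
    intro x; rw [← mul_assoc, htt, one_mul]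
  have hs2 : s * s = 1 := by
    simp [hs, mul_assoc, ht1, htt]
  have hst : t * s * t = r⁻¹ * t * r := by
    simp [hs, mul_assoc, ht1, htt]
  have hs1 : s ≠ 1 := by
    intro h
    apply hS.ne_one
    have h1 : r⁻¹ * t * r = 1 := by
      rw [← hst, h, mul_one, htt]
    calc t = r * (r⁻¹ * t * r) * r⁻¹ := by group
      _ = 1 := by rw [h1]; group
  refine ⟨(s, r), ⟨⟨MulAction.mem_stabilizer_iff.2 hsa, hs1, hs2⟩, hrQ, hst⟩, ?_⟩
  rintro ⟨s', r'⟩ ⟨⟨hs'a, _, _⟩, hr'Q, he⟩
  simp only at hs'a hr'Q he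
  have hs'a' : s' • a = a := MulAction.mem_stabilizer_iff.1 hs'a
  -- r'⁻¹ t r' fixes t • a
  have h1 : (r'⁻¹ * t * r') • (t • a) = t • a := by
    rw [← he, mul_smul, mul_smul, ro_tta hS, hs'a']
  have h2 : t • (r' • (t • a)) = r' • (t • a) := by
    have e : t • (r' • (t • a)) = r' • ((r'⁻¹ * t * r') • (t • a)) := by
      simp [smul_smul, mul_assoc]
    rw [e, h1]
  have h3 : r' • (t • a) = c := (hc _).1 h2
  have h4 := hru ⟨r', hr'Q⟩ h3
  have h5 : r' = r := congrArg Subtype.val h4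
  have h6 : s' = s := by
    have : s' = t * (t * s' * t) * t := by
      simp [mul_assoc, ht1, htt]
    rw [this, he, h5]
  rw [h5, h6]

end Cfsg.Agent.S1123
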