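import Cfsg.Statements.S1127
import Cfsg.Agent.Lib.Helper19.RankOneInvol
import Cfsg.Agent.S1122
import Cfsg.Agent.S1123

set_option autoImplicit false
open Cfsg

namespace Cfsg.Agent.S1127

open Cfsg.Agent.Lib.Helper19

section

variable {G Ω : Type*} [Group G] [MulAction G Ω] {a : Ω} {t : G} {Q : Subgroup G}

/-- involutions swapping `a` and `t • a` -/
def T (G : Type*) {Ω : Type*} [Group G] [MulAction G Ω] (a : Ω) (t : G) : Set G :=
  {w | w * w = 1 ∧ w • a = t • a}

theorem t_mem_T (hS : Cfsg.IsRankOneSetup G Ω a t Q) : t ∈ T G a t := ⟨hS.mul_self, rfl⟩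

theorem setup_of_mem_T (hS : Cfsg.IsRankOneSetup G Ω a t Q) {w : G} (hw : w ∈ T G a t) :
    Cfsg.IsRankOneSetup G Ω a w Q := by
  obtain ⟨hw2, hwa⟩ := hw
  refine ⟨hS.two_transitive, hw2, ?_, ?_, hS.le, hS.conj_mem, ?_, ?_, hS.even_card, ?_⟩
  · rintro rfl
    rw [one_smul] at hwa
    exact ro_ta_ne hS hwa.symm
  · rw [MulAction.mem_stabilizer_iff, hwa]
    exact ro_ta_ne hS
  · rw [hwa]; exact hS.inf_eq_bot
  · rw [hwa]; exact hS.sup_eq
  · rw [hwa]; exact hS.odd_card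

/-- the structure relation between `w ∈ T` and an involution of `G_a` -/
def Rel (Q : Subgroup G) (a : Ω) (w s : G) : Prop :=
  s ∈ Cfsg.involutionsIn (MulAction.stabilizer G a : Set G) ∧ ∃ r ∈ Q, w * s * w = r⁻¹ * w * r

theorem T_conj (_hS : Cfsg.IsRankOneSetup G Ω a t Q) {w d : G} (hd : d ∈ roD G a t) (hw : w ∈ T G a t) :
    d * w * d⁻¹ ∈ T G a t := by
  obtain ⟨hw2, hwa⟩ := hw
  constructor
  · calc d * w * d⁻¹ * (d * w * d⁻¹) = d * (w * w) * d⁻¹ := by group
      _ = 1 := by rw [hw2]; group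
  · have h1 : d⁻¹ • a = a := MulAction.mem_stabilizer_iff.1 (Subgroup.inv_mem _ hd.1)
    have h2 : d • (t • a) = t • a := MulAction.mem_stabilizer_iff.1 hd.2
    rw [mul_smul, mul_smul, h1, hwa, h2]

theorem rel_conj (hS : Cfsg.IsRankOneSetup G Ω a t Q) {w s d : G} (hd : d ∈ roD G a t)
    (h : Rel Q a w s) : Rel Q a (d * w * d⁻¹) (d * s * d⁻¹) := by
  obtain ⟨⟨hsa, hs1, hs2⟩, r, hr, he⟩ := h
  refine ⟨⟨?_, ?_, ?_⟩, d * r * d⁻¹, hS.conj_mem d hd.1 r hr, ?_⟩
  · exact Subgroup.mul_mem _ (Subgroup.mul_mem _ hd.1 hsa) (Subgroup.inv_mem _ hd.1)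
  · intro h1
    apply hs1
    calc s = d⁻¹ * (d * s * d⁻¹) * d := by group
      _ = 1 := by rw [h1]; group
  · calc d * s * d⁻¹ * (d * s * d⁻¹) = d * (s * s) * d⁻¹ := by group
      _ = 1 := by rw [hs2]; group
  · calc d * w * d⁻¹ * (d * s * d⁻¹) * (d * w * d⁻¹) = d * (w * s * w) * d⁻¹ := by group
      _ = d * (r⁻¹ * w * r) * d⁻¹ := by rw [he]
      _ = (d * r * d⁻¹)⁻¹ * (d * w * d⁻¹) * (d * r * d⁻¹) := by group

theorem mem_T_iff (hS : Cfsg.IsRankOneSetup G Ω a t Q) (w : G) :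
    w ∈ T G a t ↔ ∃ k ∈ Cfsg.invertedBy (roD G a t) t, w = t * k := by
  have htt := hS.mul_self
  have ht1 : ∀ x : G, t * (t * x) = x := by
    intro x; rw [← mul_assoc, htt, one_mul]
  constructor
  · rintro ⟨hw2, hwa⟩
    have hwi : w⁻¹ = w := inv_eq_of_mul_eq_one_left hw2
    have hwb : w • (t • a) = a := by rw [← hwa, smul_smul, hw2, one_smul]
    refine ⟨t * w, ⟨⟨MulAction.mem_stabilizer_iff.2 ?_, MulAction.mem_stabilizer_iff.2 ?_⟩, ?_⟩, ?_⟩
    · rw [mul_smul, hwa, ro_tta hS]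
    · rw [mul_smul, hwb]
    · rw [ro_tinv hS]
      have : (t * w)⁻¹ = w⁻¹ * t⁻¹ := by group
      rw [this, hwi, ro_tinv hS]
      simp [ht1]
    · simp [ht1]
  · rintro ⟨k, ⟨hkD, hkt⟩, rfl⟩
    rw [ro_tinv hS] at hkt
    constructor
    · calc t * k * (t * k) = (t * k * t) * k := by group
        _ = 1 := by rw [hkt, inv_mul_cancel]
    · rw [mul_smul, MulAction.mem_stabilizer_iff.1 hkD.1]

theorem card_T (hS : Cfsg.IsRankOneSetup G Ω a t Q) :
    Nat.card (T G a t) = Nat.card (Cfsg.invertedBy (roD G a t) t) := by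
  symm
  let f : ↥(Cfsg.invertedBy (roD G a t) t) → ↥(T G a t) :=
    fun k => ⟨t * (k : G), (mem_T_iff hS _).2 ⟨k, k.2, rfl⟩⟩
  apply Nat.card_eq_of_bijective f
  constructor
  · rintro ⟨k, hk⟩ ⟨k', hk'⟩ h
    have : t * k = t * k' := congrArg Subtype.val h
    exact Subtype.ext (mul_left_cancel this)
  · rintro ⟨w, hw⟩
    obtain ⟨k, hk, rfl⟩ := (mem_T_iff hS w).1 hw
    exact ⟨⟨k, hk⟩, rfl⟩

variable [Finite G]

theorem rel_exists_unique (hS : Cfsg.IsRankOneSetup G Ω a t Q) {w : G} (hw : w ∈ T G a t) :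
    ∃! s, Rel Q a w s := by
  obtain ⟨⟨s, r⟩, ⟨h1, h2, h3⟩, huniq⟩ := Cfsg.Agent.S1123.result (setup_of_mem_T hS hw)
  refine ⟨s, ⟨h1, r, h2, h3⟩, ?_⟩
  rintro s' ⟨h1', r', h2', h3'⟩
  have := huniq (s', r') ⟨h1', h2', h3'⟩
  exact congrArg Prod.fst this

theorem rel_surj (hS : Cfsg.IsRankOneSetup G Ω a t Q) {s : G}
    (hs : s ∈ Cfsg.involutionsIn (MulAction.stabilizer G a : Set G)) : ∃ w ∈ T G a t, Rel Q a w s := by
  obtain ⟨s0, hs0, _⟩ := rel_exists_unique hS (t_mem_T hS)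
  obtain ⟨k, hk, hke⟩ := (Cfsg.Agent.S1122.result hS).2 s0 hs0.1 s hs
  have hkD : k⁻¹ ∈ roD G a t := Subgroup.inv_mem _ hk.1
  refine ⟨k⁻¹ * t * k⁻¹⁻¹, T_conj hS hkD (t_mem_T hS), ?_⟩
  have := rel_conj hS hkD hs0
  rw [inv_inv] at this ⊢
  rwa [hke] at this

theorem rel_inj (hS : Cfsg.IsRankOneSetup G Ω a t Q) {w w' s : G} (hw : w ∈ T G a t) (hw' : w' ∈ T G a t)
    (h : Rel Q a w s) (h' : Rel Q a w' s) : w = w' := by
  classical
  let f : ↥(T G a t) → ↥(Cfsg.involutionsIn (MulAction.stabilizer G a : Set G)) :=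
    fun w => ⟨Classical.choose (rel_exists_unique hS w.2).exists,
      (Classical.choose_spec (rel_exists_unique hS w.2).exists).1⟩
  have hf : ∀ (w : ↥(T G a t)) (s : G), Rel Q a w s → (f w : G) = s := by
    intro w s hs
    have h1 := Classical.choose_spec (rel_exists_unique hS w.2).exists
    exact (rel_exists_unique hS w.2).unique h1 hs
  have hsurj : Function.Surjective f := by
    rintro ⟨s, hs⟩
    obtain ⟨w, hw, hr⟩ := rel_surj hS hs
    exact ⟨⟨w, hw⟩, Subtype.ext (hf ⟨w, hw⟩ s hr)⟩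
  have hcard : Nat.card (T G a t) ≤ Nat.card (Cfsg.involutionsIn (MulAction.stabilizer G a : Set G)) := by
    rw [card_T hS]
    exact le_of_eq (Cfsg.Agent.S1122.result hS).1
  have hbij := hsurj.bijective_of_nat_card_le hcard
  have e : f ⟨w, hw⟩ = f ⟨w', hw'⟩ := by
    apply Subtype.ext
    rw [hf ⟨w, hw⟩ s h, hf ⟨w', hw'⟩ s h']
  exact congrArg Subtype.val (hbij.1 e)

omit [Finite G] in
theorem comm_of_mem_cent {x y : G} (h : y ∈ Subgroup.centralizer {x}) : x * y = y * x :=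
  (Subgroup.mem_centralizer_iff.1 h) x (Set.mem_singleton x)

omit [Finite G] in
theorem mem_cent_of_comm {x y : G} (h : x * y = y * x) : y ∈ Subgroup.centralizer {x} := by
  rw [Subgroup.mem_centralizer_iff]
  intro z hz
  rw [Set.mem_singleton_iff] at hz
  rw [hz, h]

/-- the key statement: for `w ∈ T` related to `s`, `C_D(w) = C_D(s)`. -/
theorem cent_eq (hS : Cfsg.IsRankOneSetup G Ω a t Q) {w s : G} (hw : w ∈ T G a t) (h : Rel Q a w s) :
    roD G a t ⊓ Subgroup.centralizer {w} = roD G a t ⊓ Subgroup.centralizer {s} := by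
  apply le_antisymm
  · rintro d ⟨hd, hdw⟩
    refine ⟨hd, ?_⟩
    have hc : w * d = d * w := comm_of_mem_cent hdw
    have h1 := rel_conj hS hd h
    have e : d * w * d⁻¹ = w := by rw [← hc]; group
    rw [e] at h1
    have h2 := (rel_exists_unique hS hw).unique h1 h
    apply mem_cent_of_comm
    calc s * d = (d * s * d⁻¹) * d := by rw [h2]
      _ = d * s := by group
  · rintro d ⟨hd, hds⟩
    refine ⟨hd, ?_⟩
    have hc : s * d = d * s := comm_of_mem_cent hds
    have h1 := rel_conj hS hd h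
    have e : d * s * d⁻¹ = s := by rw [← hc]; group
    rw [e] at h1
    have h2 := rel_inj hS (T_conj hS hd hw) hw h1 h
    apply mem_cent_of_comm
    calc w * d = (d * w * d⁻¹) * d := by rw [h2]
      _ = d * w := by group

end

/-- In the rank-one set-up (`G` finite and doubly transitive on `Ω`, `t` an involution moving `a`, `Q` normal in `G_a` with `G_a = Q D`, `Q ⊓ D = 1` for the two-point stabiliser `D = G_a ⊓ G_{t • a}`, `|Q|` even, `|D|` odd): if `s` is an involution of `G_a` and `r ∈ Q` satisfy `t s t = r⁻¹ t r`, then `C_D(t) = C_D(s)`; moreover `C_D(t) ⊓ C_D(K) = C_D(I ∩ G_a)`, where `K` is the set of elements of `D` inverted by `t` and `I ∩ G_a` the set of involutions of `G_a`. -/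
theorem result {G Ω : Type*} [Group G] [Finite G] [MulAction G Ω] {a : Ω} {t : G} {Q : Subgroup G}
    (hS : Cfsg.IsRankOneSetup G Ω a t Q) :
    (∀ s r : G, s ∈ Cfsg.involutionsIn (MulAction.stabilizer G a : Set G) → r ∈ Q → t * s * t = r⁻¹ * t * r →
        (MulAction.stabilizer G a ⊓ MulAction.stabilizer G (t • a)) ⊓ Subgroup.centralizer {t} = (MulAction.stabilizer G a ⊓ MulAction.stabilizer G (t • a)) ⊓ Subgroup.centralizer {s}) ∧
      (MulAction.stabilizer G a ⊓ MulAction.stabilizer G (t • a)) ⊓ Subgroup.centralizer {t} ⊓ Subgroup.centralizer (Cfsg.invertedBy (MulAction.stabilizer G a ⊓ MulAction.stabilizer G (t • a)) t) =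
        (MulAction.stabilizer G a ⊓ MulAction.stabilizer G (t • a)) ⊓ Subgroup.centralizer (Cfsg.involutionsIn (MulAction.stabilizer G a : Set G)) := by
  refine ⟨fun s r hs hr he => cent_eq hS (t_mem_T hS) ⟨hs, r, hr, he⟩, ?_⟩
  apply le_antisymm
  · rintro d ⟨⟨hd, hdt⟩, hdK⟩
    refine ⟨hd, Subgroup.mem_centralizer_iff.2 (fun s hs => ?_)⟩
    obtain ⟨w, hw, hr⟩ := rel_surj hS hs
    obtain ⟨k, hk, rfl⟩ := (mem_T_iff hS w).1 hw
    have h1 : t * d = d * t := comm_of_mem_cent hdt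
    have h2 : k * d = d * k := (Subgroup.mem_centralizer_iff.1 hdK) k hk
    have h3 : d ∈ roD G a t ⊓ Subgroup.centralizer {t * k} := by
      refine ⟨hd, mem_cent_of_comm ?_⟩
      calc t * k * d = t * (k * d) := by group
        _ = t * (d * k) := by rw [h2]
        _ = (t * d) * k := by group
        _ = d * t * k := by rw [h1]
        _ = d * (t * k) := by group
    rw [cent_eq hS hw hr] at h3
    exact comm_of_mem_cent h3.2
  · rintro d ⟨hd, hdI⟩
    have hcomm : ∀ w ∈ T G a t, w * d = d * w := by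
      intro w hw
      obtain ⟨s, hs, _⟩ := rel_exists_unique hS hw
      have h1 : d ∈ roD G a t ⊓ Subgroup.centralizer {s} := by
        refine ⟨hd, mem_cent_of_comm ?_⟩
        exact (Subgroup.mem_centralizer_iff.1 hdI) s hs.1
      rw [← cent_eq hS hw hs] at h1
      exact comm_of_mem_cent h1.2
    have h1 : t * d = d * t := hcomm t (t_mem_T hS)
    refine ⟨⟨hd, mem_cent_of_comm h1⟩, Subgroup.mem_centralizer_iff.2 (fun k hk => ?_)⟩
    have h2 : t * k * d = d * (t * k) := hcomm (t * k) ((mem_T_iff hS _).2 ⟨k, hk, rfl⟩)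
    have h3 : t * (k * d) = t * (d * k) := by
      calc t * (k * d) = t * k * d := by group
        _ = d * (t * k) := h2
        _ = (d * t) * k := by group
        _ = (t * d) * k := by rw [h1]
        _ = t * (d * k) := by group
    exact mul_left_cancel h3

end Cfsg.Agent.S1127
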