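import Cfsg.Agent.Lib.Helper61.ChevJ.Basic

set_option autoImplicit false
open Cfsg

namespace Cfsg.Agent.S1047

open Cfsg.Lie Cfsg.Agent.Lib.Helper18 Cfsg.Agent.Lib.Helper61.ChevJ

universe u

variable {F : Type u} [Field F] {D : ChevalleyDatum}

/-- The group generated by `H` and the root subgroups of `Φ⁺ ∪ Φ_J`. -/
def leviGen (D : ChevalleyDatum) (F : Type u) [Field F] (J : Set ℕ) : Subgroup (GL D.Idx F) :=
  D.diagonalSubgroup F ⊔
    Subgroup.closure {g : GL D.Idx F | ∃ (r : ℕ) (t : F), (D.IsPosRoot r ∨ D.InRootSub J r) ∧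
      (g : Matrix D.Idx D.Idx F) = D.x F r t}

theorem xG_mem_leviGen (hD : D ∈ [chevG2, chevB2, chevD4, chevF4, chevE6, chevE7, chevE8]) (J : Set ℕ) (r : ℕ)
    (t : F) (hr : D.IsPosRoot r ∨ D.InRootSub J r) : xG hD r t ∈ leviGen D F J :=
  Subgroup.mem_sup_right (Subgroup.subset_closure ⟨r, t, hr, rfl⟩)

theorem sG_mem_parabolic (hD : D ∈ [chevG2, chevB2, chevD4, chevF4, chevE6, chevE7, chevE8])
    (C : ChevData.{u} D) (J : Set ℕ) (i : ℕ) (hi : i < D.rank) (hiJ : i ∈ J) :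
    sG (F := F) hD C i ∈ D.parabolicSubgroup F J :=
  Subgroup.mem_sup_right (Subgroup.subset_closure ⟨i, hiJ, hi, coe_sG hD C i hi⟩)

theorem nW_mem_parabolic (hD : D ∈ [chevG2, chevB2, chevD4, chevF4, chevE6, chevE7, chevE8])
    (C : ChevData.{u} D) (J : Set ℕ) (ws : List ℕ) (hws : ∀ i ∈ ws, i < D.rank ∧ i ∈ J) :
    nW (F := F) hD C ws ∈ D.parabolicSubgroup F J := by
  induction ws with
  | nil => exact one_mem _
  | cons i ws ih =>
    rw [nW_cons]
    exact mul_mem (sG_mem_parabolic hD C J i (hws i List.mem_cons_self).1 (hws i List.mem_cons_self).2)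
      (ih fun j hj => hws j (List.mem_cons_of_mem _ hj))

theorem posUnipotent_le_parabolic (J : Set ℕ) : D.posUnipotent F ≤ D.parabolicSubgroup F J :=
  le_trans le_sup_left (le_sup_left : D.borelSubgroup F ≤ D.parabolicSubgroup F J)

theorem diagonal_le_parabolic (J : Set ℕ) : D.diagonalSubgroup F ≤ D.parabolicSubgroup F J :=
  le_trans le_sup_right (le_sup_left : D.borelSubgroup F ≤ D.parabolicSubgroup F J)

/-- The root elements of the roots of `Φ_J` lie in `P_J`. -/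
theorem xG_mem_parabolic (hD : D ∈ [chevG2, chevB2, chevD4, chevF4, chevE6, chevE7, chevE8])
    (X : JData.{u} D) (J : Set ℕ) (r : ℕ) (hr : D.InRootSub J r) (t : F) :
    xG hD r t ∈ D.parabolicSubgroup F J := by
  obtain ⟨ws, j, hws, hj, hjJ, hw⟩ := X.exists_jword J r hr
  have hws' : ∀ i ∈ ws, i < D.rank := fun i hi => (hws i hi).1
  have hp := X.C.simple_lt j hj
  have hpos : D.IsPosRoot (D.simple j) := (isPosRoot_iff hD _).mpr ⟨hp, X.C.half_le_simple j hj⟩
  have h1 := nW_conj_xG (F := F) hD X.C ws hws' (D.simple j) hp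
    ((wordSignF X.C.tabs ws (D.simple j) : F) * t)
  rw [hw] at h1
  have h2 : ((wordSignF X.C.tabs ws (D.simple j) : ℤ) : F) * ((wordSignF X.C.tabs ws (D.simple j) : F) * t) = t := by
    rcases wordSignF_cases X.C.tabs ws (D.simple j) with h | h <;> rw [h] <;> simp
  rw [h2] at h1
  rw [← h1]
  have hn := nW_mem_parabolic (F := F) hD X.C J ws hws
  exact mul_mem (mul_mem hn (posUnipotent_le_parabolic J (xG_mem_posUnipotent hD _ _ hpos))) (inv_mem hn)

theorem main (hD : D ∈ [chevG2, chevB2, chevD4, chevF4, chevE6, chevE7, chevE8]) (J : Set ℕ) :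
    D.parabolicSubgroup F J = leviGen D F J := by
  obtain ⟨X⟩ := nonempty_jData.{u} D hD
  apply le_antisymm
  · unfold ChevalleyDatum.parabolicSubgroup ChevalleyDatum.borelSubgroup
    refine sup_le (sup_le ?_ le_sup_left) ?_
    · unfold ChevalleyDatum.posUnipotent
      rw [Subgroup.closure_le]
      rintro g ⟨r, t, hr, hg⟩
      rw [eq_xG hD g r t hg]
      exact xG_mem_leviGen hD J r t (Or.inl hr)
    · rw [Subgroup.closure_le]
      rintro g ⟨j, hjJ, hj, hg⟩
      have hp := X.C.simple_lt j hj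
      have hg' : g = nG hD (D.simple j) hp := Units.ext hg
      rw [hg', nG_eq_xG hD _ hp]
      have h1 := X.inRootSub_simple J j hj hjJ
      exact mul_mem (mul_mem (xG_mem_leviGen hD J _ _ (Or.inr h1))
        (xG_mem_leviGen hD J _ _ (Or.inr (X.inRootSub_neg J _ h1)))) (xG_mem_leviGen hD J _ _ (Or.inr h1))
  · unfold leviGen
    refine sup_le (diagonal_le_parabolic J) ?_
    rw [Subgroup.closure_le]
    rintro g ⟨r, t, hr | hr, hg⟩
    · rw [eq_xG hD g r t hg]
      exact posUnipotent_le_parabolic J (xG_mem_posUnipotent hD r t hr)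
    · rw [eq_xG hD g r t hg]
      exact xG_mem_parabolic hD X J r hr t

/-- `P_J = ⟨H, X_r : r ∈ Φ⁺ ∪ Φ_J⟩`. -/
theorem result {F : Type*} [Field F] (D : Cfsg.Lie.ChevalleyDatum) (hD : D ∈ [Cfsg.Lie.chevG2, Cfsg.Lie.chevB2, Cfsg.Lie.chevD4, Cfsg.Lie.chevF4, Cfsg.Lie.chevE6, Cfsg.Lie.chevE7, Cfsg.Lie.chevE8]) (J : Set ℕ) :
    D.parabolicSubgroup F J = D.diagonalSubgroup F ⊔
      Subgroup.closure {g : GL D.Idx F | ∃ (r : ℕ) (t : F), (D.IsPosRoot r ∨ D.InRootSub J r) ∧ (g : Matrix D.Idx D.Idx F) = D.x F r t} := by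
  exact main hD J

end Cfsg.Agent.S1047
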