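import Cfsg.Statements.S1048
-- import your own Cfsg.Agent.* helpers here
import Cfsg.Agent.S1047
import Cfsg.Agent.Lib.Helper61.ChevJ.Norm
import Cfsg.Agent.Lib.Helper61.ChevJ.Grade

set_option autoImplicit false
open Cfsg

namespace Cfsg.Agent.S1048

open Cfsg.Lie Cfsg.Agent.Lib.Helper18 Cfsg.Agent.Lib.Helper61.ChevJ

universe u

variable {F : Type u} [Field F] {D : ChevalleyDatum}

theorem levi_le_parabolic (hD : D ∈ [chevG2, chevB2, chevD4, chevF4, chevE6, chevE7, chevE8]) (X : JData.{u} D)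
    (J : Set ℕ) : D.leviSubgroup F J ≤ D.parabolicSubgroup F J := by
  unfold ChevalleyDatum.leviSubgroup
  refine sup_le (Cfsg.Agent.S1047.diagonal_le_parabolic J) ?_
  rw [Subgroup.closure_le]
  rintro g ⟨r, t, hr, hg⟩
  rw [eq_xG hD g r t hg]
  exact Cfsg.Agent.S1047.xG_mem_parabolic hD X J r hr t

theorem sup_eq_parabolic (hD : D ∈ [chevG2, chevB2, chevD4, chevF4, chevE6, chevE7, chevE8]) (X : JData.{u} D)
    (J : Set ℕ) : D.unipotentRadical F J ⊔ D.leviSubgroup F J = D.parabolicSubgroup F J := by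
  apply le_antisymm
  · exact sup_le (le_trans (unipotentRadical_le_posUnipotent J) (Cfsg.Agent.S1047.posUnipotent_le_parabolic J))
      (levi_le_parabolic hD X J)
  · rw [Cfsg.Agent.S1047.main hD J]
    unfold Cfsg.Agent.S1047.leviGen
    refine sup_le (le_trans le_sup_left le_sup_right) ?_
    rw [Subgroup.closure_le]
    rintro g ⟨r, t, hr, hg⟩
    rw [eq_xG hD g r t hg]
    by_cases hin : D.InRootSub J r
    · exact Subgroup.mem_sup_right (Subgroup.mem_sup_right (Subgroup.subset_closure ⟨r, t, hin, rfl⟩))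
    · rcases hr with hr | hr
      · exact Subgroup.mem_sup_left (xG_mem_UJ hD J r t hr hin)
      · exact absurd hr hin

theorem main (hD : D ∈ [chevG2, chevB2, chevD4, chevF4, chevE6, chevE7, chevE8]) (J : Set ℕ) :
    D.parabolicSubgroup F J ≤ Subgroup.normalizer (D.unipotentRadical F J : Set (GL D.Idx F)) ∧
      D.unipotentRadical F J ⊔ D.leviSubgroup F J = D.parabolicSubgroup F J ∧
      D.unipotentRadical F J ⊓ D.leviSubgroup F J = ⊥ := by
  obtain ⟨X⟩ := nonempty_jData.{u} D hD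
  exact ⟨parabolic_le_normalizer hD X J, sup_eq_parabolic hD X J, X.unipotentRadical_inf_levi hD J⟩

/-- `U_J ⊴ P_J`, `P_J = U_J L_J` and `U_J ∩ L_J = 1` (Levi decomposition of the standard parabolic subgroup). -/
theorem result {F : Type*} [Field F] (D : Cfsg.Lie.ChevalleyDatum) (hD : D ∈ [Cfsg.Lie.chevG2, Cfsg.Lie.chevB2, Cfsg.Lie.chevD4, Cfsg.Lie.chevF4, Cfsg.Lie.chevE6, Cfsg.Lie.chevE7, Cfsg.Lie.chevE8]) (J : Set ℕ) :
    D.parabolicSubgroup F J ≤ Subgroup.normalizer (D.unipotentRadical F J : Set (GL D.Idx F)) ∧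
      D.unipotentRadical F J ⊔ D.leviSubgroup F J = D.parabolicSubgroup F J ∧
      D.unipotentRadical F J ⊓ D.leviSubgroup F J = ⊥ := by
  exact main hD J

end Cfsg.Agent.S1048
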