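import Cfsg.Statements.S1101
-- import your own Cfsg.Agent.* helpers here
import Cfsg.Agent.Lib.Helper61.ChevJ.G2ReeFix

set_option autoImplicit false
open Cfsg

namespace Cfsg.Agent.S1101

open Cfsg.Lie Cfsg.Agent.Lib.Helper18 Cfsg.Agent.Lib.Helper61.ChevJ.G2Short
  Cfsg.Agent.Lib.Helper61.ChevJ.G2Char3 Cfsg.Agent.Lib.Helper61.ChevJ.G2ReeFix

universe u

/-- A field with `3^k` elements, `k ≥ 1`, has characteristic three. -/
theorem charP_three {K : Type u} [Field K] [Fintype K] {k : ℕ} (hK : Fintype.card K = 3 ^ k) :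
    CharP K 3 := by
  obtain ⟨p, hp⟩ := CharP.exists K
  haveI := hp
  have hpp : p.Prime := by
    rcases CharP.char_is_prime_or_zero K p with h | h
    · exact h
    · exfalso
      subst h
      haveI : CharZero K := CharP.charP_to_charZero K
      exact not_finite K
  haveI := Fact.mk hpp
  obtain ⟨n, -, hn⟩ := FiniteField.card K p
  have h1 : p ∣ 3 ^ k := by
    rw [← hK, hn]
    exact dvd_pow_self p n.ne_zero
  have h2 : p ∣ 3 := hpp.dvd_of_dvd_pow h1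
  have h3 : p = 3 := (Nat.prime_dvd_prime_iff_eq hpp Nat.prime_three).mp h2
  subst h3
  exact hp

theorem main {K : Type u} [Field K] [Fintype K] {m : ℕ} (hK : Fintype.card K = 3 ^ (2 * m + 1)) :
    (∀ g : GL chevG2.Idx K, g ∈ chevG2.posUnipotent K ⊓ twistedG2 K (3 ^ m) ↔
      ∃ t u v : K, (g : Matrix chevG2.Idx chevG2.Idx K) = chevG2.wordMat K (reeWordU (3 ^ m) t u v)) ∧
    Nat.card ↥(chevG2.posUnipotent K ⊓ twistedG2 K (3 ^ m)) = (3 ^ (2 * m + 1)) ^ 3 := by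
  haveI : CharP K 3 := charP_three hK
  let f : K →+* K := iterateFrobenius K 3 m
  have hf : ∀ x : K, f x = x ^ 3 ^ m := fun x => iterateFrobenius_def 3 m x
  have hq : ∀ x : K, (f (f x)) ^ 3 = x := by
    intro x
    rw [hf, hf, ← pow_mul, ← pow_mul]
    have e : 3 ^ m * (3 ^ m * 3) = Fintype.card K := by
      rw [hK]
      ring
    rw [e, FiniteField.pow_card]
  have key : ∀ g : GL chevG2.Idx K, g ∈ chevG2.posUnipotent K ⊓ twistedG2 K (3 ^ m) ↔
      ∃ t u v : K, g = wordG hG2 (reeWordU (3 ^ m) t u v) := by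
    intro g
    constructor
    · rintro ⟨hU, hT⟩
      exact fixed_U f (3 ^ m) hf hq g hU (twisted_le_fixSub f (3 ^ m) hf hq hT)
    · rintro ⟨t, u, v, rfl⟩
      exact ⟨wordG_reeWordU_mem_U _ t u v, wordG_reeWordU_mem_twisted _ t u v⟩
  refine ⟨?_, ?_⟩
  · intro g
    rw [key]
    constructor
    · rintro ⟨t, u, v, rfl⟩
      exact ⟨t, u, v, coe_wordG hG2 _⟩
    · rintro ⟨t, u, v, h⟩
      refine ⟨t, u, v, ?_⟩
      apply Units.ext
      rw [h, coe_wordG]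
  · let φ : K × K × K → ↥(chevG2.posUnipotent K ⊓ twistedG2 K (3 ^ m)) := fun p =>
      ⟨wordG hG2 (reeWordU (3 ^ m) p.1 p.2.1 p.2.2), (key _).mpr ⟨p.1, p.2.1, p.2.2, rfl⟩⟩
    have hφ : Function.Bijective φ := by
      constructor
      · rintro ⟨t, u, v⟩ ⟨t', u', v'⟩ h
        have h' := congrArg Subtype.val h
        obtain ⟨h1, h2, h3⟩ := reeWordU_inj (3 ^ m) t u v t' u' v' h'
        rw [h1, h2, h3]
      · rintro ⟨g, hg⟩
        obtain ⟨t, u, v, rfl⟩ := (key g).mp hg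
        exact ⟨(t, u, v), rfl⟩
    rw [← Nat.card_congr (Equiv.ofBijective φ hφ), Nat.card_prod, Nat.card_prod, Nat.card_eq_fintype_card, hK]
    ring

/-- For ²G₂ over `K` with `|K| = 3^(2m+1)`, `θ = 3^m`: `U¹ = G¹ ∩ U` consists exactly of the elements `x_a(t^θ) x_b(t) x_{a+b}(t^{θ+1}+u^θ) x_{2a+b}(t^{2θ+1}+v^θ) x_{3a+b}(u) x_{3a+2b}(v)`, `t, u, v ∈ K`, and it has `|K|³` elements. -/
theorem result {K : Type*} [Field K] [Fintype K] {m : ℕ} (hK : Fintype.card K = 3 ^ (2 * m + 1)) :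
    (∀ g : GL Cfsg.Lie.chevG2.Idx K, g ∈ Cfsg.Lie.chevG2.posUnipotent K ⊓ Cfsg.Lie.twistedG2 K (3 ^ m) ↔
      ∃ t u v : K, (g : Matrix Cfsg.Lie.chevG2.Idx Cfsg.Lie.chevG2.Idx K) = Cfsg.Lie.chevG2.wordMat K (Cfsg.Lie.reeWordU (3 ^ m) t u v)) ∧
    Nat.card ↥(Cfsg.Lie.chevG2.posUnipotent K ⊓ Cfsg.Lie.twistedG2 K (3 ^ m)) = (3 ^ (2 * m + 1)) ^ 3 := by
  exact main hK

end Cfsg.Agent.S1101
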