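import Cfsg.Statements.S0268
import Mathlib
-- import your own Cfsg.Agent.* helpers here

set_option autoImplicit false
open Cfsg

namespace Cfsg.Agent.S0268

theorem two_ne_zero_of_odd_card {F : Type*} [Field F] [Fintype F] (hF : Odd (Fintype.card F)) : (2 : F) ≠ 0 := by
  have h : ringChar F ≠ 2 := by
    intro h
    have := FiniteField.even_card_iff_char_two.mp h
    rcases hF with ⟨k, hk⟩
    omega
  exact Ring.two_ne_zero h


/-- For q odd, -1 is the unique involution of SL_2(q). -/
theorem result {F : Type*} [Field F] [Fintype F] (hF : Odd (Fintype.card F)) (g : Matrix.SpecialLinearGroup (Fin 2) F) (h1 : g ≠ 1) (h2 : g * g = 1) : (g : Matrix (Fin 2) (Fin 2) F) = -1 := by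
  have h20 := two_ne_zero_of_odd_card hF
  have hdet := g.det_coe
  rw [Matrix.det_fin_two] at hdet
  have hm : (g : Matrix (Fin 2) (Fin 2) F) * g = 1 := by
    have := congrArg (fun x : Matrix.SpecialLinearGroup (Fin 2) F => (x : Matrix (Fin 2) (Fin 2) F)) h2
    simpa using this
  have e00 := congrFun (congrFun hm 0) 0
  have e01 := congrFun (congrFun hm 0) 1
  have e10 := congrFun (congrFun hm 1) 0
  have e11 := congrFun (congrFun hm 1) 1
  simp [Matrix.mul_apply, Fin.sum_univ_two] at e00 e01 e10 e11
  set a := (g : Matrix (Fin 2) (Fin 2) F) 0 0 with ha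
  set b := (g : Matrix (Fin 2) (Fin 2) F) 0 1 with hb
  set c := (g : Matrix (Fin 2) (Fin 2) F) 1 0 with hc
  set d := (g : Matrix (Fin 2) (Fin 2) F) 1 1 with hd
  by_cases hs : a + d = 0
  · exfalso
    have hd' : d = -a := by linear_combination hs
    apply h20
    rw [hd'] at hdet e11
    linear_combination (-1 : F) * e00 + (-1 : F) * hdet
  · have hb0 : b = 0 := by
      have : b * (a + d) = 0 := by linear_combination e01
      rcases mul_eq_zero.mp this with h | h
      · exact h
      · exact absurd h hs
    have hc0 : c = 0 := by
      have : c * (a + d) = 0 := by linear_combination e10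
      rcases mul_eq_zero.mp this with h | h
      · exact h
      · exact absurd h hs
    rw [hb0, hc0] at hdet e00 e11
    simp at hdet e00 e11
    have had : a = d := by
      have ha0 : a ≠ 0 := by
        intro h; rw [h] at hdet; simp at hdet
      apply mul_left_cancel₀ ha0
      rw [e00, hdet]
    have ha1 : a = 1 ∨ a = -1 := by
      have : (a - 1) * (a + 1) = 0 := by linear_combination e00
      rcases mul_eq_zero.mp this with h | h
      · left; linear_combination h
      · right; linear_combination h
    rcases ha1 with h | h
    · exfalso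
      apply h1
      ext i j
      fin_cases i <;> fin_cases j <;> simp 
      · rw [← ha, h]
      · rw [← hb, hb0]
      · rw [← hc, hc0]
      · rw [← hd, ← had, h]
    · ext i j
      fin_cases i <;> fin_cases j <;> simp
      · rw [← ha, h]
      · rw [← hb, hb0]
      · rw [← hc, hc0]
      · rw [← hd, ← had, h]

end Cfsg.Agent.S0268
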