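import Cfsg.Statements.S0276
import Mathlib
-- import your own Cfsg.Agent.* helpers here
import Cfsg.Agent.Lib.Helper5.PSL2Small
import Cfsg.Agent.S0268

set_option autoImplicit false
open Cfsg

namespace Cfsg.Agent.S0276

open Matrix Matrix.SpecialLinearGroup Cfsg.Agent.Lib.Helper5
open scoped MatrixGroups

variable {F : Type*} [Field F]

/-- Cayley–Hamilton for `2 × 2` matrices of determinant one. -/
theorem cayley_two (M : Matrix (Fin 2) (Fin 2) F) (h : M.det = 1) :
    M * M = M.trace • M - 1 := by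
  rw [det_fin_two] at h
  ext i j
  fin_cases i <;> fin_cases j <;>
    simp [Matrix.mul_apply, Fin.sum_univ_two, Matrix.trace_fin_two] <;>
    first | ring1 | linear_combination -h

/-- If `M ∈ SL_2(F)` has `M⁴ = -1` then `2` is a square in `F`. -/
theorem isSquare_two_of_pow_four (h2 : (2 : F) ≠ 0) (M : Matrix (Fin 2) (Fin 2) F) (h : M.det = 1)
    (h4 : (M * M) * (M * M) = -1) : IsSquare (2 : F) := by
  have hN : (M * M).det = 1 := by rw [det_mul, h, mul_one]
  have h1 := cayley_two (M * M) hN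
  rw [h4] at h1
  have h3 : (M * M).trace • (M * M) = 0 := by
    have : (M * M).trace • (M * M) = -1 + 1 := by rw [h1]; abel
    rw [this]; simp
  have htr : (M * M).trace = 0 := by
    rcases smul_eq_zero.mp h3 with h0 | h0
    · exact h0
    · exfalso
      rw [h0, det_zero] at hN
      exact zero_ne_one hN
  have h5 := cayley_two M h
  rw [h5, trace_sub, trace_smul, trace_one, smul_eq_mul] at htr
  simp only [Fintype.card_fin, Nat.cast_ofNat] at htr
  exact ⟨M.trace, by linear_combination -htr⟩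

theorem mem_center_of_coe_eq_neg_one (z : SL(2, F)) (hz : z.1 = -1) :
    z ∈ Subgroup.center SL(2, F) := by
  rw [Subgroup.mem_center_iff]
  intro g
  apply Subtype.ext
  change g.1 * z.1 = z.1 * g.1
  rw [hz]; simp

variable [Fintype F]

/-- In `PSL_2(q)`, `q` odd with `2` a non-square, an element with `x⁴ = 1` has `x² = 1`. -/
theorem psl_sq_eq_one (hodd : Odd (Fintype.card F)) (hns : ¬ IsSquare (2 : F))
    (x : Matrix.ProjectiveSpecialLinearGroup (Fin 2) F) (hx : (x * x) * (x * x) = 1) : x * x = 1 := by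
  have h2 : (2 : F) ≠ 0 := Cfsg.Agent.S0268.two_ne_zero_of_odd_card hodd
  obtain ⟨g, rfl⟩ := QuotientGroup.mk_surjective x
  have hc : (g * g) * (g * g) ∈ Subgroup.center SL(2, F) := by
    rw [← QuotientGroup.eq_one_iff]; exact hx
  obtain ⟨r, hr, hrs⟩ := Matrix.SpecialLinearGroup.mem_center_iff.mp hc
  rw [Fintype.card_fin] at hr
  have hr' : r = 1 ∨ r = -1 := by
    have : (r - 1) * (r + 1) = 0 := by linear_combination hr
    rcases mul_eq_zero.mp this with h | h
    · left; exact sub_eq_zero.mp h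
    · right; exact eq_neg_of_add_eq_zero_left h
  have hmem : g * g ∈ Subgroup.center SL(2, F) := by
    rcases hr' with rfl | rfl
    · have h1 : (g * g) * (g * g) = 1 := by
        apply Subtype.ext
        rw [← hrs, map_one]; rfl
      by_cases hg : g * g = 1
      · rw [hg]; exact Subgroup.one_mem _
      · exact mem_center_of_coe_eq_neg_one _ (Cfsg.Agent.S0268.result hodd (g * g) hg h1)
    · exfalso
      apply hns
      apply isSquare_two_of_pow_four h2 g.1 g.2
      have : ((g * g) * (g * g)).1 = -1 := by rw [← hrs, map_neg, map_one]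
      exact this
  exact (QuotientGroup.eq_one_iff _).mpr hmem


/-- For q = 3 or 5 mod 8 the Sylow 2-subgroups of PSL_2(q) are elementary abelian of order 4. -/
theorem result {F : Type*} [Field F] [Fintype F] {q : ℕ} (hF : Fintype.card F = q) (hq : q % 8 = 3 ∨ q % 8 = 5) (P : Sylow 2 (Matrix.ProjectiveSpecialLinearGroup (Fin 2) F)) : IsKleinFour (P : Subgroup (Matrix.ProjectiveSpecialLinearGroup (Fin 2) F)) := by
  have hodd : Odd (Fintype.card F) := by
    rw [hF, Nat.odd_iff]; omega
  have h2 : (2 : F) ≠ 0 := Cfsg.Agent.S0268.two_ne_zero_of_odd_card hodd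
  have hns : ¬ IsSquare (2 : F) := by
    rw [FiniteField.isSquare_two_iff, hF]; omega
  -- the order of PSL_2(q)
  have hcard := card_PSL2_mul (F := F)
  rw [card_center_SL2_of_two_ne_zero h2, hF] at hcard
  have hq2 : 2 ≤ q := by rw [← hF]; exact Fintype.one_lt_card
  obtain ⟨m, hm, hmodd⟩ : ∃ m, Nat.card (Matrix.ProjectiveSpecialLinearGroup (Fin 2) F) = 4 * m ∧ ¬ 2 ∣ m := by
    obtain ⟨t, ht⟩ : ∃ t, q = t + 1 := ⟨q - 1, by omega⟩
    have hsq : q ^ 2 - 1 = (q - 1) * (q + 1) := by
      rw [ht]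
      have : (t + 1) ^ 2 = (t + 1 + 1) * t + 1 := by ring
      rw [this]; simp [mul_comm]
    rw [hsq] at hcard
    rcases hq with h | h
    · obtain ⟨a, ha⟩ : ∃ a, q = 8 * a + 3 := ⟨q / 8, by omega⟩
      have e1 : q - 1 = 2 * (4 * a + 1) := by omega
      have e2 : q + 1 = 4 * (2 * a + 1) := by omega
      rw [e1, e2] at hcard
      refine ⟨q * ((4 * a + 1) * (2 * a + 1)), ?_, ?_⟩
      · have : Nat.card (Matrix.ProjectiveSpecialLinearGroup (Fin 2) F) * 2 =
            (4 * (q * ((4 * a + 1) * (2 * a + 1)))) * 2 := by rw [hcard]; ring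
        exact Nat.eq_of_mul_eq_mul_right (by norm_num) this
      · rw [Nat.Prime.dvd_mul Nat.prime_two, Nat.Prime.dvd_mul Nat.prime_two]
        omega
    · obtain ⟨a, ha⟩ : ∃ a, q = 8 * a + 5 := ⟨q / 8, by omega⟩
      have e1 : q - 1 = 4 * (2 * a + 1) := by omega
      have e2 : q + 1 = 2 * (4 * a + 3) := by omega
      rw [e1, e2] at hcard
      refine ⟨q * ((2 * a + 1) * (4 * a + 3)), ?_, ?_⟩
      · have : Nat.card (Matrix.ProjectiveSpecialLinearGroup (Fin 2) F) * 2 =
            (4 * (q * ((2 * a + 1) * (4 * a + 3)))) * 2 := by rw [hcard]; ring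
        exact Nat.eq_of_mul_eq_mul_right (by norm_num) this
      · rw [Nat.Prime.dvd_mul Nat.prime_two, Nat.Prime.dvd_mul Nat.prime_two]
        omega
  have hm0 : m ≠ 0 := by rintro rfl; exact hmodd (dvd_zero 2)
  have hPcard : Nat.card (P : Subgroup (Matrix.ProjectiveSpecialLinearGroup (Fin 2) F)) = 4 := by
    rw [P.card_eq_multiplicity, hm, Nat.factorization_mul (by norm_num) hm0, Finsupp.add_apply,
      Nat.factorization_eq_zero_of_not_dvd hmodd]
    have : (4 : ℕ) = 2 ^ 2 := by norm_num
    rw [this, Nat.Prime.factorization_pow Nat.prime_two]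
    simp
  have hsq : ∀ x : (P : Subgroup (Matrix.ProjectiveSpecialLinearGroup (Fin 2) F)), x ^ 2 = 1 := by
    intro x
    have h4 : x ^ 4 = 1 := by rw [← hPcard]; exact pow_card_eq_one'
    have h4' : ((x : Matrix.ProjectiveSpecialLinearGroup (Fin 2) F) * x) * (x * x) = 1 := by
      have := congrArg Subtype.val h4
      rw [Subgroup.coe_pow, Subgroup.coe_one] at this
      have e : ((x : Matrix.ProjectiveSpecialLinearGroup (Fin 2) F) * x) * (x * x) =
          (x : Matrix.ProjectiveSpecialLinearGroup (Fin 2) F) ^ 4 := by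
        simp only [pow_succ, pow_zero, one_mul, mul_assoc]
      rw [e]; exact this
    have := psl_sq_eq_one hodd hns _ h4'
    apply Subtype.ext
    rw [Subgroup.coe_pow, Subgroup.coe_one, pow_two]
    exact this
  refine ⟨hPcard, ?_⟩
  have hdvd : Monoid.exponent (P : Subgroup (Matrix.ProjectiveSpecialLinearGroup (Fin 2) F)) ∣ 2 :=
    Monoid.exponent_dvd_of_forall_pow_eq_one hsq
  rcases (Nat.dvd_prime Nat.prime_two).mp hdvd with h1 | h1
  · exfalso
    rw [Monoid.exp_eq_one_iff] at h1
    have := Nat.card_eq_one_iff_unique.mpr ⟨h1, ⟨1⟩⟩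
    omega
  · exact h1

end Cfsg.Agent.S0276
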