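import Cfsg.Statements.S0807
import Mathlib
import Cfsg.Agent.Lib.Helper41.SL2Basic
import Cfsg.Agent.Lib.Helper41.SL2Conj
import Cfsg.Agent.Lib.Helper41.SL2Trace
import Cfsg.Agent.Lib.Helper5.PSL2Small

set_option autoImplicit false
open Cfsg

namespace Cfsg.Agent.S0807

open Cfsg.Agent.Lib.Helper41

/-- ordered pairs of distinct non-base points in a 4-element type -/
theorem card_pairs_of_card_four (X : Type*) [Finite X] (x₀ : X) (h : Nat.card X = 4) :
    Nat.card {p : X × X // p.1 ≠ x₀ ∧ p.2 ≠ x₀ ∧ p.1 ≠ p.2} = 6 := by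
  classical
  let e₀ : X ≃ Fin 4 := Finite.equivFinOfCardEq h
  let e : X ≃ Fin 4 := e₀.trans (Equiv.swap (e₀ x₀) 0)
  have he : e x₀ = 0 := by simp [e]
  have key : {p : X × X // p.1 ≠ x₀ ∧ p.2 ≠ x₀ ∧ p.1 ≠ p.2} ≃
      {p : Fin 4 × Fin 4 // p.1 ≠ 0 ∧ p.2 ≠ 0 ∧ p.1 ≠ p.2} := by
    refine (Equiv.prodCongr e e).subtypeEquiv ?_
    rintro ⟨x, y⟩
    simp only [Equiv.prodCongr_apply, Prod.map_fst, Prod.map_snd, ne_eq]
    rw [← he, e.apply_eq_iff_eq, e.apply_eq_iff_eq, e.apply_eq_iff_eq]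
  rw [Nat.card_congr key, Nat.card_eq_fintype_card]
  decide

section klein

variable {G : Type*} [Group G]

/-- the four-group generated by two commuting involutions -/
def fourGroup (a b : G) (ha : a * a = 1) (hb : b * b = 1) (hab : a * b = b * a) : Subgroup G where
  carrier := {1, a, b, a * b}
  one_mem' := by simp
  mul_mem' := by
    have h1 : a * (a * b) = b := by rw [← mul_assoc, ha, one_mul]
    have h2 : b * a = a * b := hab.symm
    have h3 : b * (a * b) = a := by rw [← mul_assoc, h2, mul_assoc, hb, mul_one]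
    have h4 : a * b * a = b := by rw [mul_assoc, h2, h1]
    have h5 : a * b * b = a := by rw [mul_assoc, hb, mul_one]
    have h6 : a * b * (a * b) = 1 := by rw [mul_assoc, h3, ha]
    rintro x y (rfl | rfl | rfl | rfl) (rfl | rfl | rfl | rfl) <;>
      simp [ha, hb, h1, h2, h3, h4, h5, h6]
  inv_mem' := by
    have ia : a⁻¹ = a := inv_eq_of_mul_eq_one_left ha
    have ib : b⁻¹ = b := inv_eq_of_mul_eq_one_left hb
    rintro x (rfl | rfl | rfl | rfl)
    · simp
    · simp [ia]
    · simp [ib]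
    · simp [mul_inv_rev, ia, ib, hab]

theorem mem_fourGroup (a b : G) (ha : a * a = 1) (hb : b * b = 1) (hab : a * b = b * a) (x : G) :
    x ∈ fourGroup a b ha hb hab ↔ x = 1 ∨ x = a ∨ x = b ∨ x = a * b := Iff.rfl

theorem ncard_four (a b : G) (ha : a * a = 1) (ha1 : a ≠ 1) (hb1 : b ≠ 1)
    (hne : a ≠ b) : ({1, a, b, a * b} : Set G).ncard = 4 := by
  have hab1 : a * b ≠ 1 := by
    intro h
    apply hne
    have : a * b = a * a := by rw [h, ha]
    exact (mul_left_cancel this).symm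
  have haba : a * b ≠ a := by
    intro h
    apply hb1
    have : a * b = a * 1 := by rw [h, mul_one]
    exact mul_left_cancel this
  have habb : a * b ≠ b := by
    intro h
    apply ha1
    have : a * b = 1 * b := by rw [h, one_mul]
    exact mul_right_cancel this
  rw [Set.ncard_insert_of_notMem, Set.ncard_insert_of_notMem, Set.ncard_insert_of_notMem,
    Set.ncard_singleton]
  · simp only [Set.mem_singleton_iff]; exact fun h => habb h.symm
  · simp only [Set.mem_insert_iff, Set.mem_singleton_iff, not_or]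
    exact ⟨hne, fun h => haba h.symm⟩
  · simp only [Set.mem_insert_iff, Set.mem_singleton_iff, not_or]
    exact ⟨fun h => ha1 h.symm, fun h => hb1 h.symm, fun h => hab1 h.symm⟩

theorem fourGroup_isKleinFour (a b : G) (ha : a * a = 1) (hb : b * b = 1) (hab : a * b = b * a)
    (ha1 : a ≠ 1) (hb1 : b ≠ 1) (hne : a ≠ b) : IsKleinFour (fourGroup a b ha hb hab) := by
  have hcard : Nat.card (fourGroup a b ha hb hab) = 4 := by
    show Nat.card ({1, a, b, a * b} : Set G) = 4
    rw [Nat.card_coe_set_eq]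
    exact ncard_four a b ha ha1 hb1 hne
  refine ⟨hcard, ?_⟩
  have hdvd : Monoid.exponent (fourGroup a b ha hb hab) ∣ 2 := by
    apply Monoid.exponent_dvd_of_forall_pow_eq_one
    rintro ⟨x, hx⟩
    apply Subtype.ext
    rw [Subgroup.coe_pow, Subgroup.coe_one, pow_two]
    rcases hx with rfl | rfl | rfl | rfl
    · simp
    · exact ha
    · exact hb
    · rw [mul_assoc, ← mul_assoc b, hab.symm, mul_assoc, hb, mul_one, ha]
  have hne1 : Monoid.exponent (fourGroup a b ha hb hab) ≠ 1 := by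
    intro h
    rw [Monoid.exp_eq_one_iff] at h
    have := @Nat.card_of_subsingleton _ (1 : fourGroup a b ha hb hab) h
    omega
  rcases (Nat.dvd_prime Nat.prime_two).mp hdvd with h | h
  · exact absurd h hne1
  · exact h

/-- a Klein four-subgroup containing two distinct non-identity elements is determined by them -/
theorem klein_carrier (V : Subgroup G) [hV : IsKleinFour V] (a b : G) (ha : a ∈ V) (hb : b ∈ V)
    (ha1 : a ≠ 1) (hb1 : b ≠ 1) (hne : a ≠ b) : (V : Set G) = {1, a, b, a * b} := by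
  have haa : a * a = 1 := by
    have := IsKleinFour.mul_self (⟨a, ha⟩ : V)
    exact congrArg Subtype.val this
  have hfin : (V : Set G).Finite := by
    have : Finite V := Nat.finite_of_card_ne_zero (by rw [hV.card_four]; norm_num)
    exact Set.toFinite _
  symm
  apply Set.eq_of_subset_of_ncard_le _ _ hfin
  · rintro x (rfl | rfl | rfl | rfl)
    · exact V.one_mem
    · exact ha
    · exact hb
    · exact V.mul_mem ha hb
  · rw [ncard_four a b haa ha1 hb1 hne, ← Nat.card_coe_set_eq]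
    exact hV.card_four.le

end klein
section count

variable {G : Type*} [Group G]

/-- ordered pairs of distinct commuting involutions -/
def PairSet (G : Type*) [Group G] : Set (G × G) :=
  {p | p.1 ≠ 1 ∧ p.2 ≠ 1 ∧ p.1 ≠ p.2 ∧ p.1 * p.1 = 1 ∧ p.2 * p.2 = 1 ∧ p.1 * p.2 = p.2 * p.1}

theorem six_mul_card_klein [Finite G] :
    6 * Nat.card {V : Subgroup G // IsKleinFour V} = Nat.card (PairSet G) := by
  classical
  let T := Σ V : {V : Subgroup G // IsKleinFour V},
    {p : V.1 × V.1 // p.1 ≠ 1 ∧ p.2 ≠ 1 ∧ p.1 ≠ p.2}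
  have hT : Nat.card T = 6 * Nat.card {V : Subgroup G // IsKleinFour V} := by
    haveI : Fintype {V : Subgroup G // IsKleinFour V} := Fintype.ofFinite _
    rw [Nat.card_sigma]
    have : ∀ V : {V : Subgroup G // IsKleinFour V},
        Nat.card {p : V.1 × V.1 // p.1 ≠ 1 ∧ p.2 ≠ 1 ∧ p.1 ≠ p.2} = 6 := by
      intro V
      haveI := V.2
      exact card_pairs_of_card_four V.1 1 (IsKleinFour.card_four)
    rw [Finset.sum_congr rfl (fun V _ => this V), Finset.sum_const, Finset.card_univ,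
      smul_eq_mul, Nat.card_eq_fintype_card, mul_comm]
  rw [← hT]
  let g : T → PairSet G := fun t => ⟨(t.2.1.1.1, t.2.1.2.1), by
    obtain ⟨⟨V, hV⟩, ⟨⟨x, y⟩, hx, hy, hxy⟩⟩ := t
    haveI := hV
    refine ⟨?_, ?_, ?_, ?_, ?_, ?_⟩
    · exact fun h => hx (Subtype.ext h)
    · exact fun h => hy (Subtype.ext h)
    · exact fun h => hxy (Subtype.ext h)
    · exact congrArg Subtype.val (IsKleinFour.mul_self x)
    · exact congrArg Subtype.val (IsKleinFour.mul_self y)
    · have := (IsKleinFour.isMulCommutative (G := V)).is_comm.comm x y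
      exact congrArg Subtype.val this⟩
  have hg : Function.Bijective g := by
    constructor
    · rintro ⟨⟨V, hV⟩, ⟨⟨x, y⟩, hx, hy, hxy⟩⟩ ⟨⟨V', hV'⟩, ⟨⟨x', y'⟩, hx', hy', hxy'⟩⟩ h
      have h1 : (x : G) = x' := congrArg (fun p : PairSet G => p.1.1) h
      have h2 : (y : G) = y' := congrArg (fun p : PairSet G => p.1.2) h
      have hVV : V = V' := by
        apply SetLike.coe_injective
        haveI := hV
        haveI := hV'
        rw [klein_carrier V x y x.2 y.2 (fun h => hx (Subtype.ext h))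
          (fun h => hy (Subtype.ext h)) (fun h => hxy (Subtype.ext h)),
          klein_carrier V' x' y' x'.2 y'.2 (fun h => hx' (Subtype.ext h))
          (fun h => hy' (Subtype.ext h)) (fun h => hxy' (Subtype.ext h)), h1, h2]
      subst hVV
      have ex : x = x' := Subtype.ext h1
      have ey : y = y' := Subtype.ext h2
      subst ex ey
      rfl
    · rintro ⟨⟨a, b⟩, ha1, hb1, hne, ha, hb, hab⟩
      simp only at ha1 hb1 hne ha hb hab
      refine ⟨⟨⟨fourGroup a b ha hb hab, fourGroup_isKleinFour a b ha hb hab ha1 hb1 hne⟩,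
        ⟨(⟨a, Or.inr (Or.inl rfl)⟩, ⟨b, Or.inr (Or.inr (Or.inl rfl))⟩), ?_, ?_, ?_⟩⟩, rfl⟩
      · exact fun h => ha1 (congrArg Subtype.val h)
      · exact fun h => hb1 (congrArg Subtype.val h)
      · exact fun h => hne (congrArg Subtype.val h)
  exact Nat.card_congr (Equiv.ofBijective g hg)

end count

section general

theorem card_sigma_const {α : Type*} {β : α → Type*} [Finite α] [∀ a, Finite (β a)] (k : ℕ)
    (h : ∀ a, Nat.card (β a) = k) : Nat.card (Σ a, β a) = Nat.card α * k := by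
  haveI : Fintype α := Fintype.ofFinite α
  rw [Nat.card_sigma, Finset.sum_congr rfl (fun a _ => h a), Finset.sum_const, Finset.card_univ,
    smul_eq_mul, Nat.card_eq_fintype_card]

theorem card_preimage_const_fibre {A B : Type*} [Finite A] [Finite B] (f : A → B) (k : ℕ)
    (hf : ∀ b, Nat.card {a // f a = b} = k) (X : Set B) :
    Nat.card (f ⁻¹' X) = Nat.card X * k := by
  have e := Equiv.sigmaSubtypeFiberEquivSubtype f (p := fun a => f a ∈ X) (q := fun b => b ∈ X)
    (fun _ => Iff.rfl)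
  have h1 : Nat.card (f ⁻¹' X) = Nat.card {a // f a ∈ X} := rfl
  rw [h1, ← Nat.card_congr e]
  exact card_sigma_const k (fun y => hf y.1)

theorem card_of_const_fibre {A B : Type*} [Finite A] [Finite B] (f : A → B) (k : ℕ)
    (hf : ∀ b, Nat.card {a // f a = b} = k) : Nat.card A = Nat.card B * k := by
  rw [← Nat.card_congr (Equiv.sigmaFiberEquiv f)]
  exact card_sigma_const k hf

end general

section lift

variable {F : Type*} [Field F]

abbrev SL2 (F : Type*) [Field F] := Matrix.SpecialLinearGroup (Fin 2) F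
abbrev PSL2 (F : Type*) [Field F] := Matrix.ProjectiveSpecialLinearGroup (Fin 2) F

/-- the projection `SL₂ → PSL₂` -/
def proj : SL2 F → PSL2 F := fun A => QuotientGroup.mk A

theorem card_fibre_proj [Finite F] (a : PSL2 F) :
    Nat.card {A : SL2 F // proj A = a} = Nat.card (Subgroup.center (SL2 F)) := by
  have e := QuotientGroup.preimageMkEquivSubgroupProdSet (Subgroup.center (SL2 F)) ({a} : Set (PSL2 F))
  have h1 : Nat.card {A : SL2 F // proj A = a} =
      Nat.card ((QuotientGroup.mk : SL2 F → PSL2 F) ⁻¹' ({a} : Set (PSL2 F))) := rfl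
  rw [h1, Nat.card_congr e, Nat.card_prod, Nat.card_coe_set_eq, Set.ncard_singleton, mul_one]

theorem card_fibre_proj_pair [Finite F] (ab : PSL2 F × PSL2 F) :
    Nat.card {p : SL2 F × SL2 F // Prod.map proj proj p = ab} =
      Nat.card (Subgroup.center (SL2 F)) * Nat.card (Subgroup.center (SL2 F)) := by
  obtain ⟨a, b⟩ := ab
  have e : {p : SL2 F × SL2 F // Prod.map proj proj p = (a, b)} ≃
      {A : SL2 F // proj A = a} × {B : SL2 F // proj B = b} :=
    { toFun := fun p => (⟨p.1.1, congrArg Prod.fst p.2⟩, ⟨p.1.2, congrArg Prod.snd p.2⟩)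
      invFun := fun q => ⟨(q.1.1, q.2.1), Prod.ext q.1.2 q.2.2⟩
      left_inv := fun _ => rfl
      right_inv := fun _ => rfl }
  rw [Nat.card_congr e, Nat.card_prod, card_fibre_proj, card_fibre_proj]

theorem proj_mul (A B : SL2 F) : proj (A * B) = proj A * proj B := rfl

theorem proj_ne_one_of_tr2_zero (h2 : (2 : F) ≠ 0) (A : SL2 F) (h : tr2 A = 0) : proj A ≠ 1 := by
  intro h1
  unfold proj at h1
  rw [mk_eq_one_iff] at h1
  unfold tr2 at h
  rcases h1 with h1 | h1
  · rw [h1] at h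
    simp only [Matrix.one_apply_eq] at h
    apply h2
    linear_combination h
  · rw [h1] at h
    simp only [Matrix.neg_apply, Matrix.one_apply_eq] at h
    apply h2
    linear_combination -h

theorem proj_mul_self_of_tr2_zero (A : SL2 F) (h : tr2 A = 0) : proj A * proj A = 1 := by
  rw [← proj_mul]
  unfold proj
  rw [mk_eq_one_iff]
  right
  rw [Matrix.SpecialLinearGroup.coe_mul, cayley_hamilton, h, zero_smul, zero_sub]

theorem proj_eq_one_of_smul (A : SL2 F) (α γ : F) (hα : α ≠ 0)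
    (h : α • A.1 = γ • (1 : Matrix (Fin 2) (Fin 2) F)) : proj A = 1 := by
  have hA : A.1 = (α⁻¹ * γ) • (1 : Matrix (Fin 2) (Fin 2) F) := by
    rw [mul_smul, ← h, smul_smul, inv_mul_cancel₀ hα, one_smul]
  unfold proj
  rw [QuotientGroup.eq_one_iff]
  exact mem_center_of_scalar A _ hA

theorem tr2_zero_of_invol (A : SL2 F) (h1 : proj A ≠ 1) (hAA : proj A * proj A = 1) :
    tr2 A = 0 := by
  by_contra ht
  rw [← proj_mul] at hAA
  unfold proj at hAA
  rw [mk_eq_one_iff, Matrix.SpecialLinearGroup.coe_mul, cayley_hamilton] at hAA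
  rcases hAA with h | h
  · exact h1 (proj_eq_one_of_smul A (tr2 A) 2 ht (by
      have : tr2 A • A.1 = (1 : Matrix (Fin 2) (Fin 2) F) + 1 := sub_eq_iff_eq_add.mp h
      rw [this]; module))
  · exact h1 (proj_eq_one_of_smul A (tr2 A) 0 ht (by
      have : tr2 A • A.1 = (-1 : Matrix (Fin 2) (Fin 2) F) + 1 := sub_eq_iff_eq_add.mp h
      rw [this]; module))

/-- the lifted set of pairs -/
def Ptil (F : Type*) [Field F] : Set (SL2 F × SL2 F) :=
  {p | tr2 p.1 = 0 ∧ tr2 p.2 = 0 ∧ tr2 (p.1 * p.2) = 0}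

end lift

section lift2

variable {F : Type*} [Field F]

theorem Ptil_eq_preimage (h2 : (2 : F) ≠ 0) :
    Ptil F = Prod.map proj proj ⁻¹' PairSet (PSL2 F) := by
  ext ⟨A, B⟩
  simp only [Ptil, PairSet, Set.mem_setOf_eq, Set.mem_preimage, Prod.map_fst, Prod.map_snd]
  constructor
  · rintro ⟨hA, hB, hAB⟩
    have a1 := proj_ne_one_of_tr2_zero h2 A hA
    have b1 := proj_ne_one_of_tr2_zero h2 B hB
    have ab1 := proj_ne_one_of_tr2_zero h2 (A * B) hAB
    have aa := proj_mul_self_of_tr2_zero A hA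
    have bb := proj_mul_self_of_tr2_zero B hB
    have abab := proj_mul_self_of_tr2_zero (A * B) hAB
    rw [proj_mul] at ab1 abab
    refine ⟨a1, b1, ?_, aa, bb, ?_⟩
    · intro h
      apply ab1
      rw [h]
      exact bb
    · -- a b = b a
      have ia : (proj A)⁻¹ = proj A := inv_eq_of_mul_eq_one_left aa
      have ib : (proj B)⁻¹ = proj B := inv_eq_of_mul_eq_one_left bb
      have iab : (proj A * proj B)⁻¹ = proj A * proj B := inv_eq_of_mul_eq_one_left abab
      rw [mul_inv_rev, ia, ib] at iab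
      exact iab.symm
  · rintro ⟨a1, b1, hne, aa, bb, hcomm⟩
    have hA := tr2_zero_of_invol A a1 aa
    have hB := tr2_zero_of_invol B b1 bb
    refine ⟨hA, hB, ?_⟩
    apply tr2_zero_of_invol
    · rw [proj_mul]
      intro h
      apply hne
      have : proj A * proj B = proj B * proj B := by rw [h, bb]
      exact mul_right_cancel this
    · rw [proj_mul]
      calc proj A * proj B * (proj A * proj B) = proj A * (proj B * proj A) * proj B := by group
        _ = proj A * (proj A * proj B) * proj B := by rw [hcomm]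
        _ = (proj A * proj A) * (proj B * proj B) := by group
        _ = 1 := by rw [aa, bb, one_mul]

theorem card_Ptil_eq [Finite F] (h2 : (2 : F) ≠ 0) :
    Nat.card (Ptil F) = Nat.card (PairSet (PSL2 F)) * 4 := by
  haveI : Fintype F := Fintype.ofFinite F
  rw [Ptil_eq_preimage h2]
  have hc := Cfsg.Agent.Lib.Helper5.card_center_SL2_of_two_ne_zero h2
  have := card_preimage_const_fibre (Prod.map (proj (F := F)) proj) 4 (fun ab => by
    rw [card_fibre_proj_pair ab]
    rw [hc]) (PairSet (PSL2 F))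
  exact this

end lift2

section count2

variable {F : Type*} [Field F]

theorem tr2_weylW : tr2 (weylW : SL2 F) = 0 := by
  simp [tr2, coe_weylW]

theorem tr2_weylW_mul (X : SL2 F) : tr2 (weylW * X) = X.1 0 1 - X.1 1 0 := by
  unfold tr2
  rw [Matrix.SpecialLinearGroup.coe_mul, coe_weylW]
  simp [Matrix.mul_apply, Fin.sum_univ_two]
  ring

/-- the centralizer of the Weyl element, as a set -/
def Cset (F : Type*) [Field F] : Set (SL2 F) := {c | c * weylW = weylW * c}

/-- trace-zero elements whose product with the Weyl element has trace zero -/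
def Kset (F : Type*) [Field F] : Set (SL2 F) := {B | tr2 B = 0 ∧ tr2 (weylW * B) = 0}

theorem mem_Cset_iff (c : SL2 F) : c ∈ Cset F ↔ c.1 0 0 = c.1 1 1 ∧ c.1 0 1 = -c.1 1 0 := by
  show c * weylW = weylW * c ↔ _
  rw [Matrix.SpecialLinearGroup.ext_iff]
  simp only [Matrix.SpecialLinearGroup.coe_mul, coe_weylW]
  simp only [Fin.forall_fin_two, Matrix.mul_apply, Fin.sum_univ_two]
  simp
  constructor
  · rintro ⟨⟨h1, h2⟩, h3, h4⟩
    exact ⟨h3.symm, h1⟩
  · rintro ⟨h1, h2⟩
    refine ⟨⟨h2, ?_⟩, h1.symm, ?_⟩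
    · rw [h1]
    · rw [h2]

theorem mem_Kset_iff (B : SL2 F) : B ∈ Kset F ↔ B.1 1 1 = -B.1 0 0 ∧ B.1 0 1 = B.1 1 0 := by
  show tr2 B = 0 ∧ tr2 (weylW * B) = 0 ↔ _
  rw [tr2_weylW_mul]
  unfold tr2
  constructor
  · rintro ⟨h1, h2⟩
    exact ⟨by linear_combination h1, by linear_combination h2⟩
  · rintro ⟨h1, h2⟩
    exact ⟨by linear_combination h1, by linear_combination h2⟩

theorem mul_mem_Kset (c B : SL2 F) (hc : c ∈ Cset F) (hB : B ∈ Kset F) : c * B ∈ Kset F := by
  rw [mem_Cset_iff] at hc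
  rw [mem_Kset_iff] at hB ⊢
  rw [Matrix.SpecialLinearGroup.coe_mul]
  simp only [Matrix.mul_apply, Fin.sum_univ_two]
  obtain ⟨c1, c2⟩ := hc
  obtain ⟨b1, b2⟩ := hB
  constructor
  · rw [b1, b2, c1, c2]; ring
  · rw [b1, b2, c1, c2]; ring

theorem mul_inv_mem_Cset (B B₀ : SL2 F) (hB : B ∈ Kset F) (hB₀ : B₀ ∈ Kset F) :
    B * B₀⁻¹ ∈ Cset F := by
  rw [mem_Kset_iff] at hB hB₀
  rw [mem_Cset_iff, Matrix.SpecialLinearGroup.coe_mul, coe_inv_eq]
  simp only [Matrix.mul_apply, Fin.sum_univ_two]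
  obtain ⟨c1, c2⟩ := hB₀
  obtain ⟨b1, b2⟩ := hB
  simp
  constructor
  · rw [b1, b2, c1, c2]; ring
  · rw [b1, b2, c1, c2]; ring

theorem card_Kset_eq (B₀ : SL2 F) (hB₀ : B₀ ∈ Kset F) : Nat.card (Kset F) = Nat.card (Cset F) := by
  apply Nat.card_congr
  exact
    { toFun := fun B => ⟨B.1 * B₀⁻¹, mul_inv_mem_Cset B.1 B₀ B.2 hB₀⟩
      invFun := fun c => ⟨c.1 * B₀, mul_mem_Kset c.1 B₀ c.2 hB₀⟩
      left_inv := fun B => by
        apply Subtype.ext
        show B.1 * B₀⁻¹ * B₀ = B.1
        group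
      right_inv := fun c => by
        apply Subtype.ext
        show c.1 * B₀ * B₀⁻¹ = c.1
        group }

theorem exists_mem_Kset [Finite F] : ∃ B₀ : SL2 F, B₀ ∈ Kset F := by
  haveI : CharP F (ringChar F) := ringChar.charP F
  haveI : NeZero (ringChar F) := ⟨CharP.char_ne_zero_of_finite F (ringChar F)⟩
  obtain ⟨a, b, hab⟩ := CharP.sq_add_sq F (ringChar F) (-1)
  have hdet : (!![(a : F), (b : F); (b : F), -(a : F)]).det = 1 := by
    rw [Matrix.det_fin_two_of]
    push_cast at hab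
    linear_combination -hab
  let B₀ : SL2 F := ⟨!![(a : F), (b : F); (b : F), -(a : F)], hdet⟩
  refine ⟨B₀, ?_⟩
  rw [mem_Kset_iff]
  show (!![(a : F), (b : F); (b : F), -(a : F)]) 1 1 = -(!![(a : F), (b : F); (b : F), -(a : F)]) 0 0 ∧
    (!![(a : F), (b : F); (b : F), -(a : F)]) 0 1 = (!![(a : F), (b : F); (b : F), -(a : F)]) 1 0
  simp

end count2

section count3

variable {F : Type*} [Field F]

theorem tr2_conj' (g X : SL2 F) : tr2 (g⁻¹ * X * g) = tr2 X := by
  have := tr2_conj g⁻¹ X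
  rwa [inv_inv] at this

theorem exists_conj_weylW [Fintype F] (h2 : (2 : F) ≠ 0) (A : SL2 F) (hA : tr2 A = 0) :
    ∃ g : SL2 F, g * weylW * g⁻¹ = A := by
  have h4 : (tr2 (weylW : SL2 F)) ^ 2 ≠ 4 := by
    rw [tr2_weylW]
    intro h
    apply h2
    have : (2 : F) * 2 = 0 := by linear_combination -h
    exact (mul_self_eq_zero.mp this)
  have := isConj_of_tr2_eq (weylW : SL2 F) A h4 (by rw [tr2_weylW, hA])
  rwa [isConj_iff] at this

instance finite_SL2 [Finite F] : Finite (SL2 F) := by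
  classical
  haveI : Fintype F := Fintype.ofFinite F
  exact Finite.of_fintype _

theorem card_SL2_eq [Fintype F] (h2 : (2 : F) ≠ 0) :
    Nat.card (SL2 F) = Nat.card {A : SL2 F // tr2 A = 0} * Nat.card (Cset F) := by
  let f : SL2 F → {A : SL2 F // tr2 A = 0} := fun g =>
    ⟨g * weylW * g⁻¹, by rw [tr2_conj]; exact tr2_weylW⟩
  apply card_of_const_fibre f
  intro A
  obtain ⟨g₀, hg₀⟩ := exists_conj_weylW h2 A.1 A.2
  apply Nat.card_congr
  exact
    { toFun := fun g => ⟨g₀⁻¹ * g.1, by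
        have h : g.1 * weylW * g.1⁻¹ = g₀ * weylW * g₀⁻¹ :=
          (congrArg Subtype.val g.2).trans hg₀.symm
        show g₀⁻¹ * g.1 * weylW = weylW * (g₀⁻¹ * g.1)
        calc g₀⁻¹ * g.1 * weylW = g₀⁻¹ * (g.1 * weylW * g.1⁻¹) * g.1 := by group
          _ = g₀⁻¹ * (g₀ * weylW * g₀⁻¹) * g.1 := by rw [h]
          _ = weylW * (g₀⁻¹ * g.1) := by group⟩
      invFun := fun c => ⟨g₀ * c.1, by
        have hc : c.1 * weylW = weylW * c.1 := c.2
        apply Subtype.ext
        show g₀ * c.1 * weylW * (g₀ * c.1)⁻¹ = A.1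
        rw [← hg₀]
        calc g₀ * c.1 * weylW * (g₀ * c.1)⁻¹ = g₀ * (c.1 * weylW) * c.1⁻¹ * g₀⁻¹ := by group
          _ = g₀ * (weylW * c.1) * c.1⁻¹ * g₀⁻¹ := by rw [hc]
          _ = g₀ * weylW * g₀⁻¹ := by group⟩
      left_inv := fun g => by
        apply Subtype.ext
        show g₀ * (g₀⁻¹ * g.1) = g.1
        group
      right_inv := fun c => by
        apply Subtype.ext
        show g₀⁻¹ * (g₀ * c.1) = c.1
        group }

theorem card_Ptil_sigma [Fintype F] (h2 : (2 : F) ≠ 0) :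
    Nat.card (Ptil F) = Nat.card {A : SL2 F // tr2 A = 0} * Nat.card (Kset F) := by
  let f : Ptil F → {A : SL2 F // tr2 A = 0} := fun p => ⟨p.1.1, p.2.1⟩
  apply card_of_const_fibre f
  intro A
  obtain ⟨g₀, hg₀⟩ := exists_conj_weylW h2 A.1 A.2
  have hW : (weylW : SL2 F) = g₀⁻¹ * A.1 * g₀ := by rw [← hg₀]; group
  apply Nat.card_congr
  exact
    { toFun := fun p => ⟨g₀⁻¹ * p.1.1.2 * g₀, by
        have hA : p.1.1.1 = A.1 := congrArg Subtype.val p.2
        obtain ⟨-, hB, hAB⟩ := p.1.2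
        refine ⟨by rw [tr2_conj']; exact hB, ?_⟩
        have : weylW * (g₀⁻¹ * p.1.1.2 * g₀) = g₀⁻¹ * (p.1.1.1 * p.1.1.2) * g₀ := by
          rw [hW, hA]; group
        rw [this, tr2_conj']
        exact hAB⟩
      invFun := fun B => ⟨⟨(A.1, g₀ * B.1 * g₀⁻¹), by
        obtain ⟨hB, hWB⟩ := B.2
        refine ⟨A.2, by show tr2 (g₀ * B.1 * g₀⁻¹) = 0; rw [tr2_conj]; exact hB, ?_⟩
        show tr2 (A.1 * (g₀ * B.1 * g₀⁻¹)) = 0
        have : A.1 * (g₀ * B.1 * g₀⁻¹) = g₀ * (weylW * B.1) * g₀⁻¹ := by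
          rw [← hg₀]; group
        rw [this, tr2_conj]
        exact hWB⟩, Subtype.ext rfl⟩
      left_inv := fun p => by
        have hA : p.1.1.1 = A.1 := congrArg Subtype.val p.2
        apply Subtype.ext
        apply Subtype.ext
        apply Prod.ext
        · exact hA.symm
        · show g₀ * (g₀⁻¹ * p.1.1.2 * g₀) * g₀⁻¹ = p.1.1.2
          group
      right_inv := fun B => by
        apply Subtype.ext
        show g₀⁻¹ * (g₀ * B.1 * g₀⁻¹) * g₀ = B.1
        group }

theorem card_Ptil_eq_card_SL2 [Fintype F] (h2 : (2 : F) ≠ 0) :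
    Nat.card (Ptil F) = Nat.card (SL2 F) := by
  obtain ⟨B₀, hB₀⟩ := exists_mem_Kset (F := F)
  rw [card_Ptil_sigma h2, card_SL2_eq h2, card_Kset_eq B₀ hB₀]

end count3

theorem two_ne_zero_of_odd_card {F : Type*} [Field F] [Fintype F] (hodd : Odd (Fintype.card F)) :
    (2 : F) ≠ 0 := by
  intro h
  have h' : ((2 : ℕ) : F) = 0 := by exact_mod_cast h
  have hch : ringChar F = 2 := CharP.ringChar_of_prime_eq_zero Nat.prime_two h'
  have := FiniteField.even_card_of_char_two hch
  rw [Nat.odd_iff] at hodd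
  omega


/-- For q odd, twelve times the number of Klein four-subgroups of PSL_2(q) equals the order of PSL_2(q). -/
theorem result {F : Type*} [Field F] [Fintype F] {q : ℕ} (hF : Fintype.card F = q) (hodd : Odd q) : 12 * Nat.card {V : Subgroup (Matrix.ProjectiveSpecialLinearGroup (Fin 2) F) // IsKleinFour V} = Nat.card (Matrix.ProjectiveSpecialLinearGroup (Fin 2) F) := by
  subst hF
  have h2 : (2 : F) ≠ 0 := two_ne_zero_of_odd_card hodd
  have h6 := six_mul_card_klein (G := PSL2 F)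
  have h4 := card_Ptil_eq (F := F) h2
  have hS := card_Ptil_eq_card_SL2 (F := F) h2
  have hc := Cfsg.Agent.Lib.Helper5.card_center_SL2_of_two_ne_zero h2
  have hq := Subgroup.card_eq_card_quotient_mul_card_subgroup (Subgroup.center (SL2 F))
  rw [hc] at hq
  have hq' : Nat.card (SL2 F) = Nat.card (PSL2 F) * 2 := hq
  show 12 * Nat.card {V : Subgroup (PSL2 F) // IsKleinFour V} = Nat.card (PSL2 F)
  omega


end Cfsg.Agent.S0807
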