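import Cfsg.Statements.S0808
import Mathlib
import Cfsg.Agent.S0807

set_option autoImplicit false
open Cfsg

namespace Cfsg.Agent.S0808

open Cfsg.Agent.Lib.Helper41 Cfsg.Agent.S0807

section general

variable {G : Type*} [Group G]

theorem isKleinFour_map_conj (V : Subgroup G) [hV : IsKleinFour V] (g : G) :
    IsKleinFour (V.map (MulAut.conj g).toMonoidHom) := by
  have e : V ≃* V.map (MulAut.conj g).toMonoidHom :=
    V.equivMapOfInjective _ (MulAut.conj g).injective
  refine ⟨?_, ?_⟩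
  · rw [← Nat.card_congr e.toEquiv]; exact hV.card_four
  · rw [← Monoid.exponent_eq_of_mulEquiv e]; exact hV.exponent_two

theorem map_conj_mul (V : Subgroup G) (g h : G) :
    V.map (MulAut.conj (g * h)).toMonoidHom =
      (V.map (MulAut.conj h).toMonoidHom).map (MulAut.conj g).toMonoidHom := by
  rw [Subgroup.map_map]
  congr 1
  ext x
  simp [mul_assoc]

theorem map_conj_one (V : Subgroup G) : V.map (MulAut.conj (1 : G)).toMonoidHom = V := by
  ext x
  simp

theorem mem_normalizer_iff_map (V : Subgroup G) (g : G) :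
    g ∈ Subgroup.normalizer (V : Set G) ↔ V.map (MulAut.conj g).toMonoidHom = V :=
  Subgroup.mem_normalizer_iff_map_conj_eq

/-- conjugacy class of a subgroup -/
def cls (V : Subgroup G) : Set (Subgroup G) := {W | ∃ g : G, W = V.map (MulAut.conj g).toMonoidHom}

theorem card_cls_mul [Finite G] (V : Subgroup G) :
    Nat.card (cls V) * Nat.card (Subgroup.normalizer (V : Set G)) = Nat.card G := by
  let f : G → cls V := fun g => ⟨V.map (MulAut.conj g).toMonoidHom, g, rfl⟩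
  symm
  apply card_of_const_fibre f
  rintro ⟨W, g₀, rfl⟩
  apply Nat.card_congr
  exact
    { toFun := fun g => ⟨g₀⁻¹ * g.1, by
        have h : V.map (MulAut.conj g.1).toMonoidHom = V.map (MulAut.conj g₀).toMonoidHom :=
          congrArg Subtype.val g.2
        rw [mem_normalizer_iff_map, map_conj_mul, h, ← map_conj_mul, inv_mul_cancel, map_conj_one]⟩
      invFun := fun n => ⟨g₀ * n.1, by
        apply Subtype.ext
        show V.map (MulAut.conj (g₀ * n.1)).toMonoidHom = V.map (MulAut.conj g₀).toMonoidHom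
        rw [map_conj_mul, (mem_normalizer_iff_map V n.1).mp n.2]⟩
      left_inv := fun g => by
        apply Subtype.ext
        show g₀ * (g₀⁻¹ * g.1) = g.1
        group
      right_inv := fun n => by
        apply Subtype.ext
        show g₀⁻¹ * (g₀ * n.1) = n.1
        group }

theorem conj_of_sylow [Finite G] (V W : Subgroup G) (hV : Nat.card V = 4) (hW : Nat.card W = 4)
    (h : (Nat.card G).factorization 2 = 2) : ∃ g : G, W = V.map (MulAut.conj g).toMonoidHom := by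
  haveI : Fact (Nat.Prime 2) := ⟨Nat.prime_two⟩
  let P : Sylow 2 G := Sylow.ofCard V (by rw [hV, h]; norm_num)
  let Q : Sylow 2 G := Sylow.ofCard W (by rw [hW, h]; norm_num)
  obtain ⟨g, hg⟩ := MulAction.exists_smul_eq G P Q
  refine ⟨g, ?_⟩
  have h1 := congrArg Sylow.toSubgroup hg
  rw [Sylow.coe_subgroup_smul] at h1
  have h2 : (Q : Subgroup G) = W := rfl
  have h3 : (P : Subgroup G) = V := rfl
  rw [h2, h3] at h1
  rw [← h1]
  rfl

end general

section ringlemmas

variable {R : Type*} [Ring R]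

theorem comm_case_mp (a b x : R) (hab : a * b = -(b * a)) (hxa : x * a = -(a * x))
    (hxb : x * b = b * x) : (x * b) * a = a * (x * b) ∧ (x * b) * b = b * (x * b) := by
  have hba : b * a = -(a * b) := by rw [hab, neg_neg]
  constructor
  · calc x * b * a = x * (b * a) := by rw [mul_assoc]
      _ = -(x * a * b) := by rw [hba, mul_neg, mul_assoc]
      _ = a * (x * b) := by rw [hxa, neg_mul, neg_neg, mul_assoc]
  · calc x * b * b = b * x * b := by rw [hxb]
      _ = b * (x * b) := by rw [mul_assoc]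

theorem comm_case_pm (a b x : R) (hab : a * b = -(b * a)) (hxa : x * a = a * x)
    (hxb : x * b = -(b * x)) : (x * a) * a = a * (x * a) ∧ (x * a) * b = b * (x * a) := by
  constructor
  · calc x * a * a = a * x * a := by rw [hxa]
      _ = a * (x * a) := by rw [mul_assoc]
  · calc x * a * b = x * (a * b) := by rw [mul_assoc]
      _ = -(x * b * a) := by rw [hab, mul_neg, mul_assoc]
      _ = b * (x * a) := by rw [hxb, neg_mul, neg_neg, mul_assoc]

theorem comm_case_mm (a b x : R) (hab : a * b = -(b * a)) (hxa : x * a = -(a * x))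
    (hxb : x * b = -(b * x)) :
    (x * (a * b)) * a = a * (x * (a * b)) ∧ (x * (a * b)) * b = b * (x * (a * b)) := by
  have hba : b * a = -(a * b) := by rw [hab, neg_neg]
  have hax : a * x = -(x * a) := by rw [hxa, neg_neg]
  have hbx : b * x = -(x * b) := by rw [hxb, neg_neg]
  constructor
  · calc x * (a * b) * a = x * (a * (b * a)) := by simp only [mul_assoc]
      _ = -(x * a * (a * b)) := by rw [hba, mul_neg, mul_neg, mul_assoc]
      _ = a * (x * (a * b)) := by rw [← mul_assoc a x, hax, neg_mul]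
  · calc x * (a * b) * b = x * a * b * b := by simp only [mul_assoc]
      _ = -(x * (b * a)) * b := by rw [hba, mul_neg, neg_neg, mul_assoc x a b]
      _ = -(x * b * a * b) := by rw [neg_mul, mul_assoc x b a]
      _ = b * (x * (a * b)) := by
        rw [← mul_assoc b x, hbx, neg_mul, mul_assoc (x * b) a b]

end ringlemmas

section cent

variable {F : Type*} [Field F]

theorem proj_inv (A : SL2 F) : proj A⁻¹ = (proj A)⁻¹ := rfl

theorem proj_one : proj (1 : SL2 F) = 1 := rfl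

/-- an element commuting with the Weyl element and with an element of `Kset` is `±1` -/
theorem comm_weylW_Kset (h2 : (2 : F) ≠ 0) (h B : SL2 F) (hW : h * weylW = weylW * h)
    (hB : B ∈ Kset F) (hhB : h * B = B * h) : proj h = 1 := by
  have hc := (mem_Cset_iff h).mp hW
  have hk := (mem_Kset_iff B).mp hB
  obtain ⟨c1, c2⟩ := hc
  obtain ⟨k1, k2⟩ := hk
  have hdetB := sl2_det B
  have hdeth := sl2_det h
  rw [Matrix.SpecialLinearGroup.ext_iff] at hhB
  have e00 := hhB 0 0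
  have e01 := hhB 0 1
  simp only [Matrix.SpecialLinearGroup.coe_mul, Matrix.mul_apply, Fin.sum_univ_two] at e00 e01
  rw [k1, k2] at hdetB
  rw [k2, c2] at e00
  rw [k1, k2, c1, c2] at e01
  have q1 : h.1 1 0 * B.1 1 0 = 0 := by
    have : (2 : F) * (h.1 1 0 * B.1 1 0) = 0 := by linear_combination -e00
    rcases mul_eq_zero.mp this with h | h
    · exact absurd h h2
    · exact h
  have q2 : h.1 1 0 * B.1 0 0 = 0 := by
    have : (2 : F) * (h.1 1 0 * B.1 0 0) = 0 := by linear_combination e01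
    rcases mul_eq_zero.mp this with h | h
    · exact absurd h h2
    · exact h
  have q0 : h.1 1 0 = 0 := by
    linear_combination (-h.1 1 0) * hdetB - B.1 0 0 * q2 - B.1 1 0 * q1
  have p1 : (h.1 1 1 - 1) * (h.1 1 1 + 1) = 0 := by
    rw [c1, c2, q0] at hdeth
    linear_combination hdeth
  unfold proj
  rw [mk_eq_one_iff]
  rcases mul_eq_zero.mp p1 with hp | hp
  · left
    ext i j
    fin_cases i <;> fin_cases j
    · show h.1 0 0 = 1
      rw [c1]; linear_combination hp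
    · show h.1 0 1 = 0
      rw [c2, q0, neg_zero]
    · show h.1 1 0 = 0
      exact q0
    · show h.1 1 1 = 1
      linear_combination hp
  · right
    ext i j
    fin_cases i <;> fin_cases j
    · show h.1 0 0 = -1
      rw [c1]; linear_combination hp
    · show h.1 0 1 = -0
      rw [c2, q0]
    · show h.1 1 0 = -0
      rw [q0, neg_zero]
    · show h.1 1 1 = -1
      linear_combination hp

/-- an element of `SL₂` commuting with both members of a pair in `Ptil` is central -/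
theorem comm_pair [Fintype F] (h2 : (2 : F) ≠ 0) (A B h : SL2 F) (hAB : (A, B) ∈ Ptil F)
    (hA : h * A = A * h) (hB : h * B = B * h) : proj h = 1 := by
  obtain ⟨tA, tB, tAB⟩ := hAB
  simp only at tA tB tAB
  obtain ⟨g₀, hg₀⟩ := exists_conj_weylW h2 A tA
  have hWA : (weylW : SL2 F) = g₀⁻¹ * A * g₀ := by rw [← hg₀]; group
  have key := comm_weylW_Kset h2 (g₀⁻¹ * h * g₀) (g₀⁻¹ * B * g₀) ?_ ?_ ?_
  · rw [proj_mul, proj_mul, proj_inv] at key
    calc proj h = proj g₀ * ((proj g₀)⁻¹ * proj h * proj g₀) * (proj g₀)⁻¹ := by group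
      _ = 1 := by rw [key]; group
  · rw [hWA]
    calc g₀⁻¹ * h * g₀ * (g₀⁻¹ * A * g₀) = g₀⁻¹ * (h * A) * g₀ := by group
      _ = g₀⁻¹ * (A * h) * g₀ := by rw [hA]
      _ = g₀⁻¹ * A * g₀ * (g₀⁻¹ * h * g₀) := by group
  · refine ⟨by rw [tr2_conj']; exact tB, ?_⟩
    have : weylW * (g₀⁻¹ * B * g₀) = g₀⁻¹ * (A * B) * g₀ := by rw [hWA]; group
    rw [this, tr2_conj']
    exact tAB
  · calc g₀⁻¹ * h * g₀ * (g₀⁻¹ * B * g₀) = g₀⁻¹ * (h * B) * g₀ := by group
      _ = g₀⁻¹ * (B * h) * g₀ := by rw [hB]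
      _ = g₀⁻¹ * B * g₀ * (g₀⁻¹ * h * g₀) := by group

theorem sl2_ext_mul (X Y Z W : SL2 F) (h : X.1 * Y.1 = Z.1 * W.1) : X * Y = Z * W := by
  apply Subtype.ext
  rw [Matrix.SpecialLinearGroup.coe_mul, Matrix.SpecialLinearGroup.coe_mul]
  exact h

theorem proj_comm_cases (X A : SL2 F) (h : proj X * proj A = proj A * proj X) :
    X.1 * A.1 = A.1 * X.1 ∨ X.1 * A.1 = -(A.1 * X.1) := by
  rw [← proj_mul, ← proj_mul] at h
  unfold proj at h
  rw [mk_eq_mk_iff, Matrix.SpecialLinearGroup.coe_mul, Matrix.SpecialLinearGroup.coe_mul] at h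
  exact h

theorem centralizer_pair [Fintype F] (h2 : (2 : F) ≠ 0) (a b g : PSL2 F)
    (hab : (a, b) ∈ PairSet (PSL2 F)) (hga : g * a = a * g) (hgb : g * b = b * g) :
    g = 1 ∨ g = a ∨ g = b ∨ g = a * b := by
  obtain ⟨A, hA⟩ : ∃ A : SL2 F, proj A = a := QuotientGroup.mk_surjective a
  obtain ⟨B, hB⟩ : ∃ B : SL2 F, proj B = b := QuotientGroup.mk_surjective b
  obtain ⟨X, hX⟩ : ∃ X : SL2 F, proj X = g := QuotientGroup.mk_surjective g
  subst hA hB hX
  have hP : (A, B) ∈ Ptil F := by rw [Ptil_eq_preimage h2]; exact hab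
  obtain ⟨ha1, hb1, hne, haa, hbb, hcomm⟩ := hab
  simp only at ha1 hb1 hne haa hbb hcomm
  obtain ⟨tA, tB, tAB⟩ := hP
  simp only at tA tB tAB
  have hAA : A.1 * A.1 = -1 := by rw [cayley_hamilton, tA, zero_smul, zero_sub]
  have hBB : B.1 * B.1 = -1 := by rw [cayley_hamilton, tB, zero_smul, zero_sub]
  have hABAB : A.1 * B.1 * (A.1 * B.1) = -1 := by
    have := cayley_hamilton (A * B)
    rw [tAB, zero_smul, zero_sub, Matrix.SpecialLinearGroup.coe_mul] at this
    exact this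
  have hanti' : B.1 * A.1 = -(A.1 * B.1) := by
    calc B.1 * A.1 = (A.1 * A.1) * (B.1 * A.1) * (B.1 * B.1) := by rw [hAA, hBB]; simp
      _ = A.1 * (A.1 * B.1 * (A.1 * B.1)) * B.1 := by simp only [mul_assoc]
      _ = -(A.1 * B.1) := by rw [hABAB]; simp
  have hanti : A.1 * B.1 = -(B.1 * A.1) := by rw [hanti', neg_neg]
  have ia : (proj A)⁻¹ = proj A := inv_eq_of_mul_eq_one_left haa
  have ib : (proj B)⁻¹ = proj B := inv_eq_of_mul_eq_one_left hbb
  have hPt : (A, B) ∈ Ptil F := ⟨tA, tB, tAB⟩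
  rcases proj_comm_cases X A hga with hxa | hxa <;> rcases proj_comm_cases X B hgb with hxb | hxb
  · left
    exact comm_pair h2 A B X hPt (sl2_ext_mul _ _ _ _ hxa) (sl2_ext_mul _ _ _ _ hxb)
  · right; left
    obtain ⟨c1, c2⟩ := comm_case_pm A.1 B.1 X.1 hanti hxa hxb
    have := comm_pair h2 A B (X * A) hPt
      (sl2_ext_mul _ _ _ _ (by rw [Matrix.SpecialLinearGroup.coe_mul]; exact c1))
      (sl2_ext_mul _ _ _ _ (by rw [Matrix.SpecialLinearGroup.coe_mul]; exact c2))
    rw [proj_mul] at this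
    rw [← ia]
    exact eq_inv_of_mul_eq_one_left this
  · right; right; left
    obtain ⟨c1, c2⟩ := comm_case_mp A.1 B.1 X.1 hanti hxa hxb
    have := comm_pair h2 A B (X * B) hPt
      (sl2_ext_mul _ _ _ _ (by rw [Matrix.SpecialLinearGroup.coe_mul]; exact c1))
      (sl2_ext_mul _ _ _ _ (by rw [Matrix.SpecialLinearGroup.coe_mul]; exact c2))
    rw [proj_mul] at this
    rw [← ib]
    exact eq_inv_of_mul_eq_one_left this
  · right; right; right
    obtain ⟨c1, c2⟩ := comm_case_mm A.1 B.1 X.1 hanti hxa hxb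
    have := comm_pair h2 A B (X * (A * B)) hPt
      (sl2_ext_mul _ _ _ _ (by
        rw [Matrix.SpecialLinearGroup.coe_mul, Matrix.SpecialLinearGroup.coe_mul]; exact c1))
      (sl2_ext_mul _ _ _ _ (by
        rw [Matrix.SpecialLinearGroup.coe_mul, Matrix.SpecialLinearGroup.coe_mul]; exact c2))
    rw [proj_mul, proj_mul] at this
    have h3 : proj X = (proj A * proj B)⁻¹ := eq_inv_of_mul_eq_one_left this
    rw [h3, mul_inv_rev, ia, ib, hcomm]

end cent

section normbound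

theorem card_le_of_fibre_le {A B : Type*} [Finite A] [Finite B] (f : A → B) (k : ℕ)
    (hf : ∀ b, Nat.card {a // f a = b} ≤ k) : Nat.card A ≤ Nat.card B * k := by
  haveI : Fintype B := Fintype.ofFinite B
  rw [← Nat.card_congr (Equiv.sigmaFiberEquiv f), Nat.card_sigma]
  calc ∑ b, Nat.card {a // f a = b} ≤ ∑ _b : B, k := Finset.sum_le_sum (fun b _ => hf b)
    _ = Nat.card B * k := by
      rw [Finset.sum_const, Finset.card_univ, smul_eq_mul, Nat.card_eq_fintype_card]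

variable {F : Type*} [Field F]

theorem card_normalizer_le [Fintype F] (h2 : (2 : F) ≠ 0) (V : Subgroup (PSL2 F))
    [hV : IsKleinFour V] : Nat.card (Subgroup.normalizer (V : Set (PSL2 F))) ≤ 24 := by
  have h6 := card_pairs_of_card_four V 1 hV.card_four
  have hne : Nonempty {p : V × V // p.1 ≠ 1 ∧ p.2 ≠ 1 ∧ p.1 ≠ p.2} := by
    have : 0 < Nat.card {p : V × V // p.1 ≠ 1 ∧ p.2 ≠ 1 ∧ p.1 ≠ p.2} := by rw [h6]; norm_num
    exact (Nat.card_pos_iff.mp this).1
  obtain ⟨⟨⟨x, y⟩, hx, hy, hxy⟩⟩ := hne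
  simp only at hx hy hxy
  have hab : ((x : PSL2 F), (y : PSL2 F)) ∈ PairSet (PSL2 F) := by
    refine ⟨?_, ?_, ?_, ?_, ?_, ?_⟩
    · exact fun h => hx (Subtype.ext h)
    · exact fun h => hy (Subtype.ext h)
    · exact fun h => hxy (Subtype.ext h)
    · exact congrArg Subtype.val (IsKleinFour.mul_self x)
    · exact congrArg Subtype.val (IsKleinFour.mul_self y)
    · have := (IsKleinFour.isMulCommutative (G := V)).is_comm.comm x y
      exact congrArg Subtype.val this
  let f : Subgroup.normalizer (V : Set (PSL2 F)) → {p : V × V // p.1 ≠ 1 ∧ p.2 ≠ 1 ∧ p.1 ≠ p.2} :=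
    fun n => ⟨(⟨n.1 * x.1 * n.1⁻¹, (Subgroup.mem_normalizer_iff.mp n.2 x.1).mp x.2⟩,
      ⟨n.1 * y.1 * n.1⁻¹, (Subgroup.mem_normalizer_iff.mp n.2 y.1).mp y.2⟩), by
      refine ⟨?_, ?_, ?_⟩
      · intro h
        have h' : n.1 * x.1 * n.1⁻¹ = 1 := congrArg Subtype.val h
        rw [conj_eq_one_iff] at h'
        exact hx (Subtype.ext h')
      · intro h
        have h' : n.1 * y.1 * n.1⁻¹ = 1 := congrArg Subtype.val h
        rw [conj_eq_one_iff] at h'
        exact hy (Subtype.ext h')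
      · intro h
        have h' : n.1 * x.1 * n.1⁻¹ = n.1 * y.1 * n.1⁻¹ := congrArg Subtype.val h
        have h'' : x.1 = y.1 := mul_left_cancel (mul_right_cancel h')
        exact hxy (Subtype.ext h'')⟩
  have key := card_le_of_fibre_le f 4 ?_
  · rw [h6] at key
    omega
  intro t
  rcases isEmpty_or_nonempty {n // f n = t} with he | ⟨⟨n₀, hn₀⟩⟩
  · rw [Nat.card_of_isEmpty]; norm_num
  · have hZ : ({1, x.1, y.1, x.1 * y.1} : Set (PSL2 F)).ncard = 4 :=
      ncard_four x.1 y.1 hab.2.2.2.1 hab.1 hab.2.1 hab.2.2.1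
    let ι : {n // f n = t} → ({1, x.1, y.1, x.1 * y.1} : Set (PSL2 F)) := fun n =>
      ⟨n₀.1⁻¹ * n.1.1, by
        have e : f n.1 = f n₀ := n.2.trans hn₀.symm
        have e1 : n.1.1 * x.1 * n.1.1⁻¹ = n₀.1 * x.1 * n₀.1⁻¹ :=
          congrArg (fun t : {p : V × V // p.1 ≠ 1 ∧ p.2 ≠ 1 ∧ p.1 ≠ p.2} => (t.1.1 : PSL2 F)) e
        have e2 : n.1.1 * y.1 * n.1.1⁻¹ = n₀.1 * y.1 * n₀.1⁻¹ :=
          congrArg (fun t : {p : V × V // p.1 ≠ 1 ∧ p.2 ≠ 1 ∧ p.1 ≠ p.2} => (t.1.2 : PSL2 F)) e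
        apply centralizer_pair h2 x.1 y.1 _ hab
        · calc n₀.1⁻¹ * n.1.1 * x.1 = n₀.1⁻¹ * (n.1.1 * x.1 * n.1.1⁻¹) * n.1.1 := by group
            _ = n₀.1⁻¹ * (n₀.1 * x.1 * n₀.1⁻¹) * n.1.1 := by rw [e1]
            _ = x.1 * (n₀.1⁻¹ * n.1.1) := by group
        · calc n₀.1⁻¹ * n.1.1 * y.1 = n₀.1⁻¹ * (n.1.1 * y.1 * n.1.1⁻¹) * n.1.1 := by group
            _ = n₀.1⁻¹ * (n₀.1 * y.1 * n₀.1⁻¹) * n.1.1 := by rw [e2]
            _ = y.1 * (n₀.1⁻¹ * n.1.1) := by group⟩
    have hι : Function.Injective ι := by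
      intro n n' h
      have h' : n₀.1⁻¹ * n.1.1 = n₀.1⁻¹ * n'.1.1 := congrArg Subtype.val h
      exact Subtype.ext (Subtype.ext (mul_left_cancel h'))
    calc Nat.card {n // f n = t} ≤ Nat.card ({1, x.1, y.1, x.1 * y.1} : Set (PSL2 F)) :=
          Nat.card_le_card_of_injective ι hι
      _ = 4 := by rw [Nat.card_coe_set_eq, hZ]

end normbound

section arith

theorem arith35 (n q : ℕ) (h : n * 2 = q * (q ^ 2 - 1)) (hq : q % 8 = 3 ∨ q % 8 = 5) :
    ∃ m, Odd m ∧ n = 4 * m := by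
  rcases hq with hq | hq
  · obtain ⟨k, rfl⟩ : ∃ k, q = 8 * k + 3 := ⟨q / 8, by omega⟩
    have e : (8 * k + 3) ^ 2 - 1 = 8 * (8 * k ^ 2 + 6 * k + 1) := by
      have : (8 * k + 3) ^ 2 = 8 * (8 * k ^ 2 + 6 * k + 1) + 1 := by ring
      omega
    rw [e] at h
    refine ⟨(8 * k + 3) * (8 * k ^ 2 + 6 * k + 1), ?_, ?_⟩
    · exact Nat.odd_mul.mpr ⟨⟨4 * k + 1, by ring⟩, ⟨4 * k ^ 2 + 3 * k, by ring⟩⟩
    · have : n * 2 = (4 * ((8 * k + 3) * (8 * k ^ 2 + 6 * k + 1))) * 2 := by rw [h]; ring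
      exact Nat.eq_of_mul_eq_mul_right two_pos this
  · obtain ⟨k, rfl⟩ : ∃ k, q = 8 * k + 5 := ⟨q / 8, by omega⟩
    have e : (8 * k + 5) ^ 2 - 1 = 8 * (8 * k ^ 2 + 10 * k + 3) := by
      have : (8 * k + 5) ^ 2 = 8 * (8 * k ^ 2 + 10 * k + 3) + 1 := by ring
      omega
    rw [e] at h
    refine ⟨(8 * k + 5) * (8 * k ^ 2 + 10 * k + 3), ?_, ?_⟩
    · exact Nat.odd_mul.mpr ⟨⟨4 * k + 2, by ring⟩, ⟨4 * k ^ 2 + 5 * k + 1, by ring⟩⟩
    · have : n * 2 = (4 * ((8 * k + 5) * (8 * k ^ 2 + 10 * k + 3))) * 2 := by rw [h]; ring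
      exact Nat.eq_of_mul_eq_mul_right two_pos this

theorem arith17 (n q : ℕ) (h : n * 2 = q * (q ^ 2 - 1)) (hq : q % 8 = 1 ∨ q % 8 = 7) :
    8 ∣ n := by
  rcases hq with hq | hq
  · obtain ⟨k, rfl⟩ : ∃ k, q = 8 * k + 1 := ⟨q / 8, by omega⟩
    have e : (8 * k + 1) ^ 2 - 1 = 16 * (4 * k ^ 2 + k) := by
      have : (8 * k + 1) ^ 2 = 16 * (4 * k ^ 2 + k) + 1 := by ring
      omega
    rw [e] at h
    refine ⟨(8 * k + 1) * (4 * k ^ 2 + k), ?_⟩
    have : n * 2 = (8 * ((8 * k + 1) * (4 * k ^ 2 + k))) * 2 := by rw [h]; ring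
    exact Nat.eq_of_mul_eq_mul_right two_pos this
  · obtain ⟨k, rfl⟩ : ∃ k, q = 8 * k + 7 := ⟨q / 8, by omega⟩
    have e : (8 * k + 7) ^ 2 - 1 = 16 * (4 * k ^ 2 + 7 * k + 3) := by
      have : (8 * k + 7) ^ 2 = 16 * (4 * k ^ 2 + 7 * k + 3) + 1 := by ring
      omega
    rw [e] at h
    refine ⟨(8 * k + 7) * (4 * k ^ 2 + 7 * k + 3), ?_⟩
    have : n * 2 = (8 * ((8 * k + 7) * (4 * k ^ 2 + 7 * k + 3))) * 2 := by rw [h]; ring
    exact Nat.eq_of_mul_eq_mul_right two_pos this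

theorem fact2 (m : ℕ) (hm : Odd m) : (4 * m).factorization 2 = 2 := by
  have h4 : (4 : ℕ) = 2 ^ 2 := by norm_num
  have hm0 : m ≠ 0 := by
    rintro rfl
    exact absurd hm (by decide)
  rw [h4, Nat.factorization_mul (by norm_num) hm0, Nat.Prime.factorization_pow Nat.prime_two]
  have : m.factorization 2 = 0 := by
    apply Nat.factorization_eq_zero_of_not_dvd
    rw [Nat.odd_iff] at hm
    omega
  simp [this]

end arith

section final

variable {G : Type*} [Group G]

theorem cls_subset (V : Subgroup G) (hV : IsKleinFour V) :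
    cls V ⊆ {W : Subgroup G | IsKleinFour W} := by
  rintro W ⟨g, rfl⟩
  exact isKleinFour_map_conj V g

theorem cls_disjoint (V V' : Subgroup G) (h : V' ∉ cls V) : Disjoint (cls V) (cls V') := by
  rw [Set.disjoint_left]
  rintro U ⟨g, hg⟩ ⟨g', hg'⟩
  apply h
  refine ⟨g'⁻¹ * g, ?_⟩
  rw [map_conj_mul, ← hg, hg', ← map_conj_mul, inv_mul_cancel, map_conj_one]

/-- the abstract counting argument -/
theorem two_classes [Finite G] (K : ℕ) (hK : Nat.card {V : Subgroup G // IsKleinFour V} = K)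
    (h12 : 12 * K = Nat.card G)
    (h8 : ∀ V : Subgroup G, IsKleinFour V → 8 ∣ Nat.card (Subgroup.normalizer (V : Set G)))
    (h24 : ∀ V : Subgroup G, IsKleinFour V → Nat.card (Subgroup.normalizer (V : Set G)) ≤ 24) :
    ∃ V₁ V₂ : Subgroup G, IsKleinFour V₁ ∧ IsKleinFour V₂ ∧
      (¬ ∃ g : G, V₂ = V₁.map (MulAut.conj g).toMonoidHom) ∧
      ∀ W : Subgroup G, IsKleinFour W → (∃ g : G, W = V₁.map (MulAut.conj g).toMonoidHom) ∨
        (∃ g : G, W = V₂.map (MulAut.conj g).toMonoidHom) := by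
  have hn : 0 < Nat.card G := Nat.card_pos
  have hKpos : 0 < K := by omega
  have hKS : ({W : Subgroup G | IsKleinFour W}).ncard = K := by
    rw [← hK]; rfl
  have hfin : ({W : Subgroup G | IsKleinFour W}).Finite := Set.toFinite _
  have hne : Nonempty {V : Subgroup G // IsKleinFour V} := by
    have : 0 < Nat.card {V : Subgroup G // IsKleinFour V} := by rw [hK]; exact hKpos
    exact (Nat.card_pos_iff.mp this).1
  obtain ⟨⟨V₁, hV₁⟩⟩ := hne
  have hc : ∀ V : Subgroup G, IsKleinFour V →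
      (cls V).ncard * Nat.card (Subgroup.normalizer (V : Set G)) = Nat.card G := by
    intro V _
    rw [← card_cls_mul V]; rfl
  -- a second class
  have hV₂ : ∃ V₂ : Subgroup G, IsKleinFour V₂ ∧ V₂ ∉ cls V₁ := by
    by_contra hcon
    push Not at hcon
    have heq : cls V₁ = {W : Subgroup G | IsKleinFour W} :=
      Set.Subset.antisymm (cls_subset V₁ hV₁) (fun W hW => hcon W hW)
    have h1 := hc V₁ hV₁
    rw [heq, hKS, ← h12, mul_comm 12 K] at h1
    have h2 : Nat.card (Subgroup.normalizer (V₁ : Set G)) = 12 :=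
      Nat.eq_of_mul_eq_mul_left hKpos h1
    have h3 := h8 V₁ hV₁
    rw [h2] at h3
    omega
  obtain ⟨V₂, hV₂, hnot⟩ := hV₂
  refine ⟨V₁, V₂, hV₁, hV₂, hnot, ?_⟩
  intro W hW
  by_contra hcon
  push Not at hcon
  obtain ⟨hW1, hW2⟩ := hcon
  have hW1' : W ∉ cls V₁ := fun ⟨g, hg⟩ => hW1 g hg
  have hW2' : W ∉ cls V₂ := fun ⟨g, hg⟩ => hW2 g hg
  have d12 := cls_disjoint V₁ V₂ hnot
  have d13 := cls_disjoint V₁ W hW1'
  have d23 := cls_disjoint V₂ W hW2'
  have hsub : cls V₁ ∪ cls V₂ ∪ cls W ⊆ {W : Subgroup G | IsKleinFour W} :=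
    Set.union_subset (Set.union_subset (cls_subset V₁ hV₁) (cls_subset V₂ hV₂)) (cls_subset W hW)
  have hle := Set.ncard_le_ncard hsub hfin
  rw [Set.ncard_union_eq (Set.disjoint_union_left.mpr ⟨d13, d23⟩) (Set.toFinite _) (Set.toFinite _),
    Set.ncard_union_eq d12 (Set.toFinite _) (Set.toFinite _), hKS] at hle
  have b1 : Nat.card G ≤ (cls V₁).ncard * 24 := by
    rw [← hc V₁ hV₁]; exact Nat.mul_le_mul_left _ (h24 V₁ hV₁)
  have b2 : Nat.card G ≤ (cls V₂).ncard * 24 := by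
    rw [← hc V₂ hV₂]; exact Nat.mul_le_mul_left _ (h24 V₂ hV₂)
  have b3 : Nat.card G ≤ (cls W).ncard * 24 := by
    rw [← hc W hW]; exact Nat.mul_le_mul_left _ (h24 W hW)
  omega

end final

theorem card_psl_two_mul {F : Type*} [Field F] [Fintype F] (h2 : (2 : F) ≠ 0) :
    Nat.card (PSL2 F) * 2 = Fintype.card F * (Fintype.card F ^ 2 - 1) := by
  have := Cfsg.Agent.Lib.Helper5.card_PSL2_mul (F := F)
  rwa [Cfsg.Agent.Lib.Helper5.card_center_SL2_of_two_ne_zero h2] at this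


/-- Conjugacy classes of four-groups in PSL_2(q), q odd: if q ≡ 3 or 5 (mod 8) all Klein four-subgroups are conjugate; if q ≡ 1 or 7 (mod 8) there are two Klein four-subgroups which are not conjugate, and every Klein four-subgroup is conjugate to one of them. -/
theorem result {F : Type*} [Field F] [Fintype F] {q : ℕ} (hF : Fintype.card F = q) (hodd : Odd q) : ((q % 8 = 3 ∨ q % 8 = 5) → ∀ V W : Subgroup (Matrix.ProjectiveSpecialLinearGroup (Fin 2) F), IsKleinFour V → IsKleinFour W → ∃ g : Matrix.ProjectiveSpecialLinearGroup (Fin 2) F, W = V.map (MulAut.conj g).toMonoidHom) ∧ ((q % 8 = 1 ∨ q % 8 = 7) → ∃ V₁ V₂ : Subgroup (Matrix.ProjectiveSpecialLinearGroup (Fin 2) F), IsKleinFour V₁ ∧ IsKleinFour V₂ ∧ (¬ ∃ g : Matrix.ProjectiveSpecialLinearGroup (Fin 2) F, V₂ = V₁.map (MulAut.conj g).toMonoidHom) ∧ ∀ W : Subgroup (Matrix.ProjectiveSpecialLinearGroup (Fin 2) F), IsKleinFour W → (∃ g : Matrix.ProjectiveSpecialLinearGroup (Fin 2) F, W = V₁.map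 (MulAut.conj g).toMonoidHom) ∨ (∃ g : Matrix.ProjectiveSpecialLinearGroup (Fin 2) F, W = V₂.map (MulAut.conj g).toMonoidHom)) := by
  subst hF
  have h2 : (2 : F) ≠ 0 := two_ne_zero_of_odd_card hodd
  have hcard := card_psl_two_mul h2
  haveI : Finite (PSL2 F) := inferInstance
  constructor
  · intro hq V W hV hW
    obtain ⟨m, hm, hn⟩ := arith35 _ _ hcard hq
    exact conj_of_sylow V W hV.card_four hW.card_four (by rw [hn]; exact fact2 m hm)
  · intro hq
    have h8 : 8 ∣ Nat.card (PSL2 F) := arith17 _ _ hcard hq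
    have h12 := Cfsg.Agent.S0807.result (F := F) rfl hodd
    haveI : Fact (Nat.Prime 2) := ⟨Nat.prime_two⟩
    exact two_classes (G := PSL2 F) _ rfl h12
      (fun V hV => Sylow.prime_pow_dvd_card_normalizer (p := 2) (n := 2) h8 hV.card_four)
      (fun V hV => by haveI := hV; exact card_normalizer_le h2 V)


end Cfsg.Agent.S0808
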