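import Cfsg.Statements.S0118
import Cfsg.Agent.Lib.Helper29.ZJE6
import Cfsg.Agent.Lib.Helper11.NoSL2Stable
import Cfsg.Agent.Lib.Helper64.MinSimpleOdd

set_option autoImplicit false
open Cfsg

namespace Cfsg.Agent.S0118

open Cfsg.Agent.Lib.Helper29 Cfsg.Agent.Lib.Helper11 Cfsg.Agent.Lib.Helper33

/-- no section isomorphic to `SL₂(p)` gives `p`-stability (elementary form) of all sections -/
theorem secProp_ecn_of_noSL2 {G : Type*} [Group G] [Finite G] {p : ℕ} [Fact p.Prime] (hp : p ≠ 2)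
    (hno : ¬ InvolvesSL2 p G) : SecProp (ECN p) G := by
  intro K Y _ φ hφ
  have : Finite Y := Finite.of_surjective φ hφ
  apply ecn_of_nps
  apply isNormalizerPStable_of_noSL2 hp
  intro h
  exact hno (InvolvesSL2.of_subgroup (InvolvesSL2.of_surjective φ hφ h))

/-- Glauberman's ZJ-Theorem, in the case of groups with no section isomorphic to SL(2,p), p odd: conjugation of subsets of a Sylow p-subgroup P inside P is always induced from the normalizer of Z(J(P)). -/
theorem result {G : Type*} [Group G] [Finite G] {p : ℕ} [Fact p.Prime] (hp : p ≠ 2) (hfree : ¬ ∃ (H K : Subgroup G) (hK : (K.subgroupOf H).Normal), Nonempty ((H ⧸ K.subgroupOf H) ≃* Matrix.SpecialLinearGroup (Fin 2) (ZMod p))) (P : Sylow p G) (A : Set G) (hA : A ⊆ (P : Set G)) (g : G) (hAg : (fun a => g⁻¹ * a * g) '' A ⊆ (P : Set G)) : ∃ n ∈ Subgroup.normalizer (Cfsg.centerThompsonOf p (P : Subgroup G) : Set G), ∀ a ∈ A, n⁻¹ * a * n = g⁻¹ * a * g := by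
  have hno : ¬ InvolvesSL2 p G := by
    rintro ⟨D, f, hf⟩
    obtain ⟨K', L, hL, -, he⟩ := exists_section_of_surj' (⊤ : Subgroup G) D le_top f hf
    exact hfree ⟨K', L, hL, he⟩
  have hsec := secProp_ecn_of_noSL2 hp hno
  have hg : (fun a => g⁻¹ * a * g⁻¹⁻¹) '' A ⊆ ((P : Subgroup G) : Set G) := by
    rintro _ ⟨a, ha, rfl⟩
    have := hAg ⟨a, ha, rfl⟩
    simpa using this
  obtain ⟨x, hx, hxa⟩ := Cfsg.Agent.Lib.Helper64.controls_of_secProp (zjeFun p)
    (isCharPFunctor_zjeFun p) (fun Y _ _ hs hc T => zjeFun_normal hp Y hs hc T) hsec P A hA g⁻¹ hg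
  rw [inducedFunctor_zjeFun] at hx
  refine ⟨x⁻¹, Subgroup.inv_mem _ hx, ?_⟩
  intro a ha
  have := hxa a ha
  rw [inv_inv] at this ⊢
  exact this.symm

end Cfsg.Agent.S0118
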