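import Cfsg.Statements.S1140
-- import your own Cfsg.Agent.* helpers here

set_option autoImplicit false
open Cfsg

namespace Cfsg.Agent.S1140

section
variable {F : Type*} [Field F] [Fintype F] [CharP F 2]

/-- The `ZMod 2`-algebra structure. -/
noncomputable abbrev alg2 (F : Type*) [Field F] [CharP F 2] : Algebra (ZMod 2) F := ZMod.algebra F 2

attribute [local instance] alg2

noncomputable instance fintypeAlgHom2 : Fintype (F →ₐ[ZMod 2] F) := Fintype.ofFinite _

theorem card_algHom : Fintype.card (F →ₐ[ZMod 2] F) = Module.finrank (ZMod 2) F := by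
  have h := FiniteField.bijective_frobeniusAlgHom_pow (ZMod 2) F
  have := Fintype.card_of_bijective h
  rw [Fintype.card_fin] at this
  exact this.symm

theorem span_top : Submodule.span F (Set.range (AlgHom.toLinearMap : (F →ₐ[ZMod 2] F) → F →ₗ[ZMod 2] F)) = ⊤ := by
  apply LinearIndependent.span_eq_top_of_card_eq_finrank' (linearIndependent_algHom_toLinearMap (ZMod 2) F F)
  rw [card_algHom, Module.finrank_linearMap_self]

/-- the basis of `F →ₗ[ZMod 2] F` over `F` given by the automorphisms -/
noncomputable def autBasis : Module.Basis (F →ₐ[ZMod 2] F) F (F →ₗ[ZMod 2] F) :=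
  Module.Basis.mk (linearIndependent_algHom_toLinearMap (ZMod 2) F F) span_top.ge

theorem autBasis_apply (σ : F →ₐ[ZMod 2] F) : autBasis σ = σ.toLinearMap := by
  simp [autBasis]

/-- every additive map is a combination of automorphisms -/
theorem additive_eq_sum (f : F →+ F) (x : F) :
    f x = ∑ σ : F →ₐ[ZMod 2] F, autBasis.repr (f.toZModLinearMap 2) σ * σ x := by
  have h := autBasis.sum_repr (f.toZModLinearMap 2)
  have h2 := congrArg (fun g : F →ₗ[ZMod 2] F => g x) h
  simp only [LinearMap.sum_apply, LinearMap.smul_apply, autBasis_apply, AlgHom.toLinearMap_apply,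
    smul_eq_mul, AddMonoidHom.coe_toZModLinearMap] at h2
  exact h2.symm

/-- coefficient function of a biadditive map, additive in the first variable -/
noncomputable def coeffHom (B : F →+ F →+ F) (τ : F →ₐ[ZMod 2] F) : F →+ F where
  toFun x := autBasis.repr ((B x).toZModLinearMap 2) τ
  map_zero' := by
    have : (B 0).toZModLinearMap 2 = 0 := by ext y; simp
    rw [this]; simp
  map_add' x y := by
    have : (B (x + y)).toZModLinearMap 2 = (B x).toZModLinearMap 2 + (B y).toZModLinearMap 2 := by
      ext z; simp
    rw [this]; simp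

theorem biadditive_eq_sum (B : F →+ F →+ F) (x y : F) :
    B x y = ∑ p : (F →ₐ[ZMod 2] F) × (F →ₐ[ZMod 2] F),
      autBasis.repr ((coeffHom B p.2).toZModLinearMap 2) p.1 * (p.1 x * p.2 y) := by
  rw [additive_eq_sum (B x) y, Fintype.sum_prod_type_right]
  apply Finset.sum_congr rfl
  intro τ _
  have h1 : autBasis.repr ((B x).toZModLinearMap 2) τ = coeffHom B τ x := rfl
  rw [h1, additive_eq_sum (coeffHom B τ) x, Finset.sum_mul]
  apply Finset.sum_congr rfl
  intro σ _
  ring

/-- algebra homs are ring automorphisms -/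
noncomputable def toRingEquiv (σ : F →ₐ[ZMod 2] F) : F ≃+* F :=
  RingEquiv.ofBijective (σ : F →+* F)
    ((Finite.injective_iff_bijective).1 (σ : F →+* F).injective)

theorem toRingEquiv_apply (σ : F →ₐ[ZMod 2] F) (x : F) : toRingEquiv σ x = σ x := rfl

theorem toRingEquiv_injective : Function.Injective (toRingEquiv : (F →ₐ[ZMod 2] F) → F ≃+* F) := by
  intro σ τ h
  ext x
  have := congrArg (fun e : F ≃+* F => e x) h
  simpa [toRingEquiv_apply] using this


omit [Fintype F] [CharP F 2] in
/-- transfer of a sum over algebra homs to a sum over ring automorphisms -/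
theorem sum_transfer {ι κ : Type*} [Fintype ι] [DecidableEq κ] [Nonempty ι] (e : ι → κ)
    (he : Function.Injective e) (c : ι → F) (g : κ → F) :
    ∑ k ∈ Finset.univ.image e, c (Function.invFun e k) * g k = ∑ i, c i * g (e i) := by
  rw [Finset.sum_image (fun i _ j _ h => he h)]
  apply Finset.sum_congr rfl
  intro i _
  rw [Function.leftInverse_invFun he i]

end


/-- For a finite field `F` of characteristic 2, the automorphisms of `F`, viewed as additive maps `F → F`, are linearly independent over `F` (acting on values) every additive endomorphism of `F` is an `F`-linear combination of them, and every biadditive map `F → F → F` is an `F`-combination of the maps `(x, y) ↦ σ(x) τ(y)`. -/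
theorem result {F : Type*} [Field F] [Fintype F] [CharP F 2] :
    LinearIndependent F (fun σ : F ≃+* F => ((σ : F →+* F) : F → F)) ∧
      (∀ f : F →+ F, ∃ (s : Finset (F ≃+* F)) (c : (F ≃+* F) → F), ∀ x : F, f x = ∑ σ ∈ s, c σ * σ x) ∧
      ∀ B : F →+ F →+ F, ∃ (s : Finset ((F ≃+* F) × (F ≃+* F))) (c : (F ≃+* F) × (F ≃+* F) → F),
        ∀ x y : F, B x y = ∑ p ∈ s, c p * (p.1 x * p.2 y) := by
  classical
  let _ : Algebra (ZMod 2) F := alg2 F
  have : Nonempty (F →ₐ[ZMod 2] F) := ⟨AlgHom.id _ _⟩
  refine ⟨?_, ?_, ?_⟩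
  · exact (linearIndependent_monoidHom F F).comp
      (fun σ : F ≃+* F => ((σ : F →+* F) : F →* F))
      (fun σ τ h => RingEquiv.ext (fun x => DFunLike.congr_fun h x))
  · intro f
    refine ⟨Finset.univ.image toRingEquiv,
      fun τ => autBasis.repr (f.toZModLinearMap 2) (Function.invFun toRingEquiv τ), fun x => ?_⟩
    rw [sum_transfer toRingEquiv toRingEquiv_injective
      (fun σ => autBasis.repr (f.toZModLinearMap 2) σ) (fun τ => τ x)]
    exact additive_eq_sum f x
  · intro B
    have hinj : Function.Injective (Prod.map (toRingEquiv (F := F)) (toRingEquiv (F := F))) :=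
      toRingEquiv_injective.prodMap toRingEquiv_injective
    refine ⟨Finset.univ.image (Prod.map toRingEquiv toRingEquiv),
      fun p => (fun q : (F →ₐ[ZMod 2] F) × (F →ₐ[ZMod 2] F) =>
        autBasis.repr ((coeffHom B q.2).toZModLinearMap 2) q.1)
        (Function.invFun (Prod.map toRingEquiv toRingEquiv) p), fun x y => ?_⟩
    rw [sum_transfer (Prod.map toRingEquiv toRingEquiv) hinj
      (fun q : (F →ₐ[ZMod 2] F) × (F →ₐ[ZMod 2] F) =>
        autBasis.repr ((coeffHom B q.2).toZModLinearMap 2) q.1)
      (fun p : (F ≃+* F) × (F ≃+* F) => p.1 x * p.2 y)]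
    exact biadditive_eq_sum B x y

end Cfsg.Agent.S1140
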