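import Cfsg.Statements.S0099
import Cfsg.Agent.Lib.Helper2.CentralSplit

set_option autoImplicit false
open Cfsg

namespace Cfsg.Agent.S0099

open Cfsg.Agent.Lib.Helper2.CentralSplit
open scoped commutatorElement

theorem cclass_of {E : Type*} [Group E] (h : Cfsg.IsExtraspecial 2 E) : CClass 2 E where
  cardZ := h.2
  comm := fun a b => by
    rw [← h.1.2.2, commutator_def]
    exact Subgroup.commutator_mem_commutator (Subgroup.mem_top a) (Subgroup.mem_top b)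

theorem exists_center_ne_one {E : Type*} [Group E] [Finite E]
    (hE : CClass 2 E) : ∃ z : E, z ∈ Subgroup.center E ∧ z ≠ 1 := by
  have h1 : 1 < Nat.card (Subgroup.center E) := by rw [hE.cardZ]; norm_num
  have : Nontrivial (Subgroup.center E) := Finite.one_lt_card_iff_nontrivial.mp h1
  obtain ⟨z, hz⟩ := exists_ne (1 : Subgroup.center E)
  exact ⟨z, z.2, fun h => hz (Subtype.ext h)⟩

section Two
variable {E : Type*} [Group E] [Finite E] (hE : CClass 2 E) {z : E}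
  (hz : z ∈ Subgroup.center E) (hz1 : z ≠ 1)
include hE hz hz1

theorem center_cases {w : E} (hw : w ∈ Subgroup.center E) : w = 1 ∨ w = z := by
  obtain ⟨a, ha⟩ := exists_zp_eq hE hz hz1 hw
  have hlt : a.val < 2 := ZMod.val_lt a
  rcases Nat.lt_succ_iff_lt_or_eq.mp hlt with h | h
  · left
    have : a.val = 0 := by omega
    rw [← ha, this, pow_zero]
  · right
    rw [← ha, h, pow_one]

omit hz1 in
theorem z_inv : z⁻¹ = z := by
  have h : z ^ 2 = 1 := center_pow_eq_one hE hz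
  rw [inv_eq_iff_mul_eq_one, ← pow_two, h]

omit [Finite E] hz hz1 in
theorem sq_mul (a b : E) : (a * b) ^ 2 = a ^ 2 * b ^ 2 * ⁅b, a⁆ := by
  have hc : ∀ g : E, Commute ⁅b, a⁆ g := fun g =>
    (Subgroup.mem_center_iff.mp (hE.comm b a) g).symm
  have e1 : (a * b) ^ 2 = a * ⁅b, a⁆ * a * b * b := by
    simp only [commutatorElement_def, pow_two]; group
  rw [e1, ← (hc a).eq, (hc (a ^ 2 * b ^ 2)).eq.symm, pow_two, pow_two]
  group

/-- `HasPair z k`: there are `x y` with `⁅x, y⁆ = z` and `x ^ 2 = y ^ 2 = z ^ k`. -/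
def HasPair (z : E) (k : ℕ) : Prop := ∃ x y : E, ⁅x, y⁆ = z ∧ x ^ 2 = z ^ k ∧ y ^ 2 = z ^ k

theorem hasPair_cases (hne : Subgroup.center E ≠ ⊤) : HasPair z 0 ∨ HasPair z 1 := by
  obtain ⟨x, y, hxy⟩ := exists_comm_eq hE hz hne
  have hyx : ⁅y, x⁆ = z := by rw [← commutatorElement_inv, hxy, z_inv hE hz]
  have hzz : z * z = 1 := by rw [← pow_two]; exact center_pow_eq_one hE hz
  rcases center_cases hE hz hz1 (pow_mem_center hE x) with hx | hx <;>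
    rcases center_cases hE hz hz1 (pow_mem_center hE y) with hy | hy
  · left; exact ⟨x, y, hxy, by rw [hx, pow_zero], by rw [hy, pow_zero]⟩
  · left
    refine ⟨x, x * y, ?_, by rw [hx, pow_zero], ?_⟩
    · rw [comm_mul_right hE.comm, commutatorElement_self, one_mul, hxy]
    · rw [sq_mul hE, hx, hy, hyx, one_mul, hzz, pow_zero]
  · left
    refine ⟨x * y, y, ?_, ?_, by rw [hy, pow_zero]⟩
    · rw [comm_mul_left hE.comm, commutatorElement_self, mul_one, hxy]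
    · rw [sq_mul hE, hx, hy, hyx, mul_one, hzz, pow_zero]
  · right; exact ⟨x, y, hxy, by rw [hx, pow_one], by rw [hy, pow_one]⟩

theorem hasPair_zero_of_ne_eight (hne : Subgroup.center E ≠ ⊤) (h8 : Nat.card E ≠ 8) :
    HasPair z 0 := by
  rcases hasPair_cases hE hz hz1 hne with h | ⟨x, y, hxy, hx, hy⟩
  · exact h
  · rw [pow_one] at hx hy
    have hC := cclass_C hE hz hz1 hxy
    have hcard := card_eq hE hz hz1 hxy
    have hCne : Subgroup.center (Subgroup.centralizer ({x, y} : Set E)) ≠ ⊤ := by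
      intro h
      have h2 := card_of_center_eq_top hC h
      apply h8
      rw [hcard, h2]
    have hζ := zeta_mem_center (x := x) (y := y) hz
    have hζ1 := zeta_ne_one (x := x) (y := y) hz hz1
    obtain ⟨u, v, huv⟩ := exists_comm_eq hC hζ hCne
    have hzz : z * z = 1 := by rw [← pow_two]; exact center_pow_eq_one hE hz
    have hex : ∃ w : Subgroup.centralizer ({x, y} : Set E), (w : E) ^ 2 = z := by
      rcases center_cases hC hζ hζ1 (pow_mem_center hC u) with hu | hu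
      · rcases center_cases hC hζ hζ1 (pow_mem_center hC v) with hv | hv
        · refine ⟨u * v, ?_⟩
          have h1 := sq_mul hC u v
          have hvu : ⁅v, u⁆ = ⟨z, center_le_C hz⟩ := by
            rw [← commutatorElement_inv, huv, z_inv hC hζ]
          rw [hu, hv, hvu, one_mul, one_mul] at h1
          have := congrArg Subtype.val h1
          simpa using this
        · refine ⟨v, ?_⟩
          have := congrArg Subtype.val hv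
          simpa using this
      · refine ⟨u, ?_⟩
        have := congrArg Subtype.val hu
        simpa using this
    obtain ⟨w, hw⟩ := hex
    have hwC := mem_C_iff.mp w.2
    have hxw : ⁅x, (w : E)⁆ = 1 := commutatorElement_eq_one_iff_mul_comm.mpr hwC.1
    have hwx : ⁅(w : E), x⁆ = 1 := commutatorElement_eq_one_iff_mul_comm.mpr hwC.1.symm
    have hyw : ⁅y, (w : E)⁆ = 1 := commutatorElement_eq_one_iff_mul_comm.mpr hwC.2
    have hwy : ⁅(w : E), y⁆ = 1 := commutatorElement_eq_one_iff_mul_comm.mpr hwC.2.symm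
    refine ⟨x * w, y * w, ?_, ?_, ?_⟩
    · rw [comm_mul_left hE.comm, comm_mul_right hE.comm, comm_mul_right hE.comm, hxy, hxw, hwy,
        commutatorElement_self, mul_one, mul_one, mul_one]
    · rw [sq_mul hE, hx, hw, hwx, mul_one, hzz, pow_zero]
    · rw [sq_mul hE, hy, hw, hwy, mul_one, hzz, pow_zero]

end Two

theorem iso_of_card_eight {E₁ : Type*} {E₂ : Type*} [Group E₁] [Group E₂] [Finite E₁] [Finite E₂]
    (h₁ : CClass 2 E₁) (h₂ : CClass 2 E₂)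
    {z₁ : E₁} (hz₁ : z₁ ∈ Subgroup.center E₁) (hz₁1 : z₁ ≠ 1)
    {z₂ : E₂} (hz₂ : z₂ ∈ Subgroup.center E₂) (hz₂1 : z₂ ≠ 1)
    (hc₁ : Nat.card E₁ = 8) (hc₂ : Nat.card E₂ = 8) (k : ℕ)
    (hp₁ : HasPair z₁ k) (hp₂ : HasPair z₂ k) : ∃ φ : E₁ ≃* E₂, φ z₁ = z₂ := by
  obtain ⟨x₁, y₁, hxy₁, hx₁, hy₁⟩ := hp₁
  obtain ⟨x₂, y₂, hxy₂, hx₂, hy₂⟩ := hp₂
  have hC₁ := cclass_C h₁ hz₁ hz₁1 hxy₁
  have hC₂ := cclass_C h₂ hz₂ hz₂1 hxy₂
  have hcard₁ := card_eq h₁ hz₁ hz₁1 hxy₁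
  have hcard₂ := card_eq h₂ hz₂ hz₂1 hxy₂
  have hk₁ : Nat.card (Subgroup.centralizer ({x₁, y₁} : Set E₁)) = 2 := by omega
  have hk₂ : Nat.card (Subgroup.centralizer ({x₂, y₂} : Set E₂)) = 2 := by omega
  obtain ⟨ψ, hψ⟩ := iso_abelian hC₁ hC₂ (center_eq_top_of_card hC₁ hk₁)
    (center_eq_top_of_card hC₂ hk₂) (zeta_mem_center (x := x₁) (y := y₁) hz₁)
    (zeta_ne_one hz₁ hz₁1) (zeta_mem_center (x := x₂) (y := y₂) hz₂) (zeta_ne_one hz₂ hz₂1)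
  exact iso_step h₁ h₂ hz₁ hz₁1 hxy₁ hz₂ hz₂1 hxy₂ k k hx₁ hx₂ hy₁ hy₂ ψ hψ


theorem main_aux (n : ℕ) : ∀ (E₁ : Type*) (E₂ : Type*) (E₃ : Type*) [Group E₁] [Group E₂] [Group E₃]
    [Finite E₁] [Finite E₂] [Finite E₃],
    CClass 2 E₁ → CClass 2 E₂ → CClass 2 E₃ →
    Nat.card E₁ = n → Nat.card E₂ = n → Nat.card E₃ = n →
    ∀ z₁ : E₁, z₁ ∈ Subgroup.center E₁ → z₁ ≠ 1 → ∀ z₂ : E₂, z₂ ∈ Subgroup.center E₂ → z₂ ≠ 1 →
    ∀ z₃ : E₃, z₃ ∈ Subgroup.center E₃ → z₃ ≠ 1 →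
    (∃ φ : E₁ ≃* E₂, φ z₁ = z₂) ∨ (∃ φ : E₂ ≃* E₃, φ z₂ = z₃) ∨ (∃ φ : E₁ ≃* E₃, φ z₁ = z₃) := by
  induction n using Nat.strong_induction_on with
  | _ n ih =>
  intro E₁ E₂ E₃ _ _ _ _ _ _ h₁ h₂ h₃ hc₁ hc₂ hc₃ z₁ hz₁ hz₁1 z₂ hz₂ hz₂1 z₃ hz₃ hz₃1
  by_cases htop : Subgroup.center E₁ = ⊤
  · -- abelian case
    have hn : n = 2 := by rw [← hc₁]; exact card_of_center_eq_top h₁ htop
    have htop₂ : Subgroup.center E₂ = ⊤ := center_eq_top_of_card h₂ (by rw [hc₂, hn])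
    exact Or.inl (iso_abelian h₁ h₂ htop htop₂ hz₁ hz₁1 hz₂ hz₂1)
  · have hn2 : n ≠ 2 := by
      intro h
      exact htop (center_eq_top_of_card h₁ (by rw [hc₁, h]))
    have htop₂ : Subgroup.center E₂ ≠ ⊤ := by
      intro h
      apply hn2
      rw [← hc₂]
      exact card_of_center_eq_top h₂ h
    have htop₃ : Subgroup.center E₃ ≠ ⊤ := by
      intro h
      apply hn2
      rw [← hc₃]
      exact card_of_center_eq_top h₃ h
    by_cases h8 : n = 8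
    · -- order eight: pigeonhole on the two types
      have hA₁ := hasPair_cases h₁ hz₁ hz₁1 htop
      have hA₂ := hasPair_cases h₂ hz₂ hz₂1 htop₂
      have hA₃ := hasPair_cases h₃ hz₃ hz₃1 htop₃
      have e₁ : Nat.card E₁ = 8 := by rw [hc₁, h8]
      have e₂ : Nat.card E₂ = 8 := by rw [hc₂, h8]
      have e₃ : Nat.card E₃ = 8 := by rw [hc₃, h8]
      rcases hA₁ with a₁ | a₁ <;> rcases hA₂ with a₂ | a₂ <;> rcases hA₃ with a₃ | a₃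
      · exact Or.inl (iso_of_card_eight h₁ h₂ hz₁ hz₁1 hz₂ hz₂1 e₁ e₂ _ a₁ a₂)
      · exact Or.inl (iso_of_card_eight h₁ h₂ hz₁ hz₁1 hz₂ hz₂1 e₁ e₂ _ a₁ a₂)
      · exact Or.inr (Or.inr (iso_of_card_eight h₁ h₃ hz₁ hz₁1 hz₃ hz₃1 e₁ e₃ _ a₁ a₃))
      · exact Or.inr (Or.inl (iso_of_card_eight h₂ h₃ hz₂ hz₂1 hz₃ hz₃1 e₂ e₃ _ a₂ a₃))
      · exact Or.inr (Or.inl (iso_of_card_eight h₂ h₃ hz₂ hz₂1 hz₃ hz₃1 e₂ e₃ _ a₂ a₃))
      · exact Or.inr (Or.inr (iso_of_card_eight h₁ h₃ hz₁ hz₁1 hz₃ hz₃1 e₁ e₃ _ a₁ a₃))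
      · exact Or.inl (iso_of_card_eight h₁ h₂ hz₁ hz₁1 hz₂ hz₂1 e₁ e₂ _ a₁ a₂)
      · exact Or.inl (iso_of_card_eight h₁ h₂ hz₁ hz₁1 hz₂ hz₂1 e₁ e₂ _ a₁ a₂)
    · -- larger order: all three split off a dihedral factor
      obtain ⟨x₁, y₁, hxy₁, hx₁, hy₁⟩ :=
        hasPair_zero_of_ne_eight h₁ hz₁ hz₁1 htop (by rw [hc₁]; exact h8)
      obtain ⟨x₂, y₂, hxy₂, hx₂, hy₂⟩ :=
        hasPair_zero_of_ne_eight h₂ hz₂ hz₂1 htop₂ (by rw [hc₂]; exact h8)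
      obtain ⟨x₃, y₃, hxy₃, hx₃, hy₃⟩ :=
        hasPair_zero_of_ne_eight h₃ hz₃ hz₃1 htop₃ (by rw [hc₃]; exact h8)
      have hC₁ := cclass_C h₁ hz₁ hz₁1 hxy₁
      have hC₂ := cclass_C h₂ hz₂ hz₂1 hxy₂
      have hC₃ := cclass_C h₃ hz₃ hz₃1 hxy₃
      have hcard₁ := card_eq h₁ hz₁ hz₁1 hxy₁
      have hcard₂ := card_eq h₂ hz₂ hz₂1 hxy₂
      have hcard₃ := card_eq h₃ hz₃ hz₃1 hxy₃
      have hpos : 0 < Nat.card (Subgroup.centralizer ({x₁, y₁} : Set E₁)) := Nat.card_pos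
      have hlt : Nat.card (Subgroup.centralizer ({x₁, y₁} : Set E₁)) < n := by omega
      have hk₂ : Nat.card (Subgroup.centralizer ({x₂, y₂} : Set E₂)) =
          Nat.card (Subgroup.centralizer ({x₁, y₁} : Set E₁)) := by omega
      have hk₃ : Nat.card (Subgroup.centralizer ({x₃, y₃} : Set E₃)) =
          Nat.card (Subgroup.centralizer ({x₁, y₁} : Set E₁)) := by omega
      rcases ih _ hlt (Subgroup.centralizer ({x₁, y₁} : Set E₁))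
        (Subgroup.centralizer ({x₂, y₂} : Set E₂)) (Subgroup.centralizer ({x₃, y₃} : Set E₃))
        hC₁ hC₂ hC₃ rfl hk₂ hk₃
        ⟨z₁, center_le_C hz₁⟩ (zeta_mem_center hz₁) (zeta_ne_one hz₁ hz₁1)
        ⟨z₂, center_le_C hz₂⟩ (zeta_mem_center hz₂) (zeta_ne_one hz₂ hz₂1)
        ⟨z₃, center_le_C hz₃⟩ (zeta_mem_center hz₃) (zeta_ne_one hz₃ hz₃1)
        with ⟨ψ, hψ⟩ | ⟨ψ, hψ⟩ | ⟨ψ, hψ⟩
      · exact Or.inl (iso_step h₁ h₂ hz₁ hz₁1 hxy₁ hz₂ hz₂1 hxy₂ 0 0 hx₁ hx₂ hy₁ hy₂ ψ hψ)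
      · exact Or.inr (Or.inl (iso_step h₂ h₃ hz₂ hz₂1 hxy₂ hz₃ hz₃1 hxy₃ 0 0 hx₂ hx₃ hy₂ hy₃ ψ hψ))
      · exact Or.inr (Or.inr (iso_step h₁ h₃ hz₁ hz₁1 hxy₁ hz₃ hz₃1 hxy₃ 0 0 hx₁ hx₃ hy₁ hy₃ ψ hψ))

/-- Among three extraspecial 2-groups of equal order, some two are isomorphic. -/
theorem result {E₁ : Type*} {E₂ : Type*} {E₃ : Type*} [Group E₁] [Group E₂] [Group E₃] [Finite E₁] [Finite E₂] [Finite E₃] (h₁ : Cfsg.IsExtraspecial 2 E₁) (h₂ : Cfsg.IsExtraspecial 2 E₂) (h₃ : Cfsg.IsExtraspecial 2 E₃) (h12 : Nat.card E₁ = Nat.card E₂) (h23 : Nat.card E₂ = Nat.card E₃) : Nonempty (E₁ ≃* E₂) ∨ Nonempty (E₂ ≃* E₃) ∨ Nonempty (E₁ ≃* E₃) := by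
  have c₁ := cclass_of h₁
  have c₂ := cclass_of h₂
  have c₃ := cclass_of h₃
  obtain ⟨z₁, hz₁, hz₁1⟩ := exists_center_ne_one c₁
  obtain ⟨z₂, hz₂, hz₂1⟩ := exists_center_ne_one c₂
  obtain ⟨z₃, hz₃, hz₃1⟩ := exists_center_ne_one c₃
  rcases main_aux (Nat.card E₁) E₁ E₂ E₃ c₁ c₂ c₃ rfl h12.symm (h23.symm.trans h12.symm)
    z₁ hz₁ hz₁1 z₂ hz₂ hz₂1 z₃ hz₃ hz₃1 with ⟨φ, _⟩ | ⟨φ, _⟩ | ⟨φ, _⟩
  · exact Or.inl ⟨φ⟩
  · exact Or.inr (Or.inl ⟨φ⟩)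
  · exact Or.inr (Or.inr ⟨φ⟩)

end Cfsg.Agent.S0099
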