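-- S3781 (helper63): P. Hall's lemma on lower central factors of a normal subgroup inside γ_n(G).
import Cfsg.Statements.S3781

set_option autoImplicit false
open Cfsg

namespace Cfsg.Agent.S3781

variable {G : Type*} [Group G]

theorem le_iff_map_mk_eq_bot (M : Subgroup G) [M.Normal] (X : Subgroup G) :
    X ≤ M ↔ X.map (QuotientGroup.mk' M) = ⊥ := by
  rw [Subgroup.map_eq_bot_iff, QuotientGroup.ker_mk']

/-- Three subgroups lemma, modulo a normal subgroup. -/
theorem three_subgroups (M : Subgroup G) [M.Normal] {H₁ H₂ H₃ : Subgroup G}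
    (h1 : ⁅⁅H₂, H₃⁆, H₁⁆ ≤ M) (h2 : ⁅⁅H₃, H₁⁆, H₂⁆ ≤ M) : ⁅⁅H₁, H₂⁆, H₃⁆ ≤ M := by
  rw [le_iff_map_mk_eq_bot, Subgroup.map_commutator, Subgroup.map_commutator] at h1 h2 ⊢
  exact Subgroup.commutator_commutator_eq_bot_of_rotate h1 h2

theorem sup_commutator_le (M : Subgroup G) [M.Normal] {H K L : Subgroup G}
    (h1 : ⁅H, L⁆ ≤ M) (h2 : ⁅K, L⁆ ≤ M) : ⁅H ⊔ K, L⁆ ≤ M := by
  rw [le_iff_map_mk_eq_bot, Subgroup.map_commutator,
    Subgroup.commutator_eq_bot_iff_le_centralizer] at h1 h2 ⊢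
  rw [Subgroup.map_sup]
  exact sup_le h1 h2

/-- iterated commutator with the whole group -/
def cc (X : Subgroup G) : ℕ → Subgroup G
  | 0 => X
  | k + 1 => ⁅cc X k, ⊤⁆

@[simp] theorem cc_zero (X : Subgroup G) : cc X 0 = X := rfl
theorem cc_succ (X : Subgroup G) (k : ℕ) : cc X (k + 1) = ⁅cc X k, ⊤⁆ := rfl

theorem cc_normal (X : Subgroup G) [hX : X.Normal] : ∀ k, (cc X k).Normal
  | 0 => hX
  | k + 1 => by
    have := cc_normal X k
    rw [cc_succ]; infer_instance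

theorem cc_mono {X Y : Subgroup G} (h : X ≤ Y) : ∀ k, cc X k ≤ cc Y k
  | 0 => h
  | k + 1 => Subgroup.commutator_mono (cc_mono h k) le_rfl

theorem cc_succ' (X : Subgroup G) : ∀ k, cc X (k + 1) = cc ⁅X, ⊤⁆ k
  | 0 => rfl
  | k + 1 => by rw [cc_succ, cc_succ' X k, ← cc_succ]

theorem cc_le (X : Subgroup G) [hX : X.Normal] : ∀ k, cc X k ≤ X
  | 0 => le_rfl
  | k + 1 => by
    have := cc_normal X k
    rw [cc_succ]
    exact le_trans (Subgroup.commutator_le_left _ _) (cc_le X k)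

theorem cc_top : ∀ k, cc (⊤ : Subgroup G) k = (⊤ : Subgroup G).lowerCentralSeries k
  | 0 => rfl
  | k + 1 => by rw [cc_succ, cc_top k, Subgroup.lowerCentralSeries_succ]

/-- `[X, γ_{k+1}(G)] ≤ [X, G, ..., G]` (`k+1` times), for normal `X`. -/
theorem comm_lcs_le (k : ℕ) : ∀ (X : Subgroup G) [X.Normal],
    ⁅X, (⊤ : Subgroup G).lowerCentralSeries k⁆ ≤ cc X (k + 1) := by
  induction k with
  | zero => intro X _; exact le_rfl
  | succ k ih =>
    intro X hX
    have hn : (cc X (k + 2)).Normal := cc_normal X _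
    rw [Subgroup.lowerCentralSeries_succ, Subgroup.commutator_comm]
    apply three_subgroups
    · -- ⁅⁅⊤, X⁆, L k⁆
      rw [Subgroup.commutator_comm ⊤ X, cc_succ' X (k + 1)]
      exact ih ⁅X, ⊤⁆
    · -- ⁅⁅X, L k⁆, ⊤⁆
      rw [cc_succ X (k + 1)]
      exact Subgroup.commutator_mono (ih X) le_rfl

theorem le_of_sup_eq (c : ℕ) (hc : (⊤ : Subgroup G).lowerCentralSeries c = ⊥)
    (X A : Subgroup G) [hX : X.Normal] [hA : A.Normal] (h : ⁅X, ⊤⁆ ⊔ A = X) : X ≤ A := by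
  have key : ∀ k, X ≤ (⊤ : Subgroup G).lowerCentralSeries k ⊔ A := by
    intro k
    induction k with
    | zero => simp
    | succ k ih =>
      have hn : ((⊤ : Subgroup G).lowerCentralSeries (k + 1) ⊔ A).Normal := inferInstance
      have h1 : ⁅X, ⊤⁆ ≤ (⊤ : Subgroup G).lowerCentralSeries (k + 1) ⊔ A := by
        refine le_trans (Subgroup.commutator_mono ih le_rfl) ?_
        apply sup_commutator_le
        · rw [Subgroup.lowerCentralSeries_succ]; exact le_sup_left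
        · exact le_trans (Subgroup.commutator_le_left _ _) le_sup_right
      calc X = ⁅X, ⊤⁆ ⊔ A := h.symm
        _ ≤ (⊤ : Subgroup G).lowerCentralSeries (k + 1) ⊔ A := sup_le h1 le_sup_right
  have := key c
  rwa [hc, bot_sup_eq] at this

theorem relIndex_pow [Finite G] {p : ℕ} [Fact p.Prime] (hG : IsPGroup p G) (A X : Subgroup G) :
    ∃ j, A.relIndex X = p ^ j :=
  (hG.to_subgroup X).index (A.subgroupOf X)

theorem cc_le_of_relIndex_lt [Finite G] {p : ℕ} [hp : Fact p.Prime] (hG : IsPGroup p G)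
    (c : ℕ) (hc : (⊤ : Subgroup G).lowerCentralSeries c = ⊥) (A : Subgroup G) [hA : A.Normal]
    (m : ℕ) : ∀ (X : Subgroup G) [X.Normal], A ≤ X → A.relIndex X < p ^ (m + 1) →
      cc X m ≤ A := by
  induction m with
  | zero =>
    intro X hX hAX hlt
    obtain ⟨j, hj⟩ := relIndex_pow hG A X
    have hj0 : j = 0 := by
      by_contra hne
      have : p ^ 1 ≤ p ^ j := Nat.pow_le_pow_right hp.out.pos (Nat.one_le_iff_ne_zero.2 hne)
      rw [hj, zero_add] at hlt
      omega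
    rw [hj0, pow_zero] at hj
    exact Subgroup.relIndex_eq_one.1 hj
  | succ m ih =>
    intro X hX hAX hlt
    have hYn : (⁅X, ⊤⁆ ⊔ A).Normal := inferInstance
    have hAY : A ≤ ⁅X, ⊤⁆ ⊔ A := le_sup_right
    have hYX : ⁅X, ⊤⁆ ⊔ A ≤ X := sup_le (Subgroup.commutator_le_left _ _) hAX
    by_cases hY : ⁅X, ⊤⁆ ⊔ A = X
    · exact le_trans (cc_le X _) (le_of_sup_eq c hc X A hY)
    · have hmul : A.relIndex (⁅X, ⊤⁆ ⊔ A) * (⁅X, ⊤⁆ ⊔ A).relIndex X = A.relIndex X :=
        Subgroup.relIndex_mul_relIndex _ _ _ hAY hYX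
      obtain ⟨j, hj⟩ := relIndex_pow hG (⁅X, ⊤⁆ ⊔ A) X
      have hj0 : j ≠ 0 := by
        intro h0
        rw [h0, pow_zero] at hj
        exact hY (le_antisymm hYX (Subgroup.relIndex_eq_one.1 hj))
      have hpj : p ≤ (⁅X, ⊤⁆ ⊔ A).relIndex X := by
        rw [hj]
        calc p = p ^ 1 := (pow_one p).symm
          _ ≤ p ^ j := Nat.pow_le_pow_right hp.out.pos (Nat.one_le_iff_ne_zero.2 hj0)
      have hlt' : A.relIndex (⁅X, ⊤⁆ ⊔ A) < p ^ (m + 1) := by
        by_contra hcon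
        push Not at hcon
        have : p ^ (m + 1) * p ≤ A.relIndex X := by
          rw [← hmul]
          exact Nat.mul_le_mul hcon hpj
        rw [← pow_succ] at this
        omega
      have h1 := ih (⁅X, ⊤⁆ ⊔ A) hAY hlt'
      rw [cc_succ' X m]
      exact le_trans (cc_mono le_sup_left m) h1

/-- Let G be a finite p-group and n ≥ 1, and write γ_1(G) = G, γ_{k+1}(G) = [γ_k(G), G], and likewise γ_k(N) for a subgroup N. Let N be a normal subgroup of G contained in γ_n(G). If i > 1 and γ_{i+1}(N) ≠ 1, then |γ_i(N) : γ_{i+1}(N)| ≥ p^n. -/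
theorem result {G : Type*} [Group G] [Finite G] {p : ℕ} [Fact p.Prime] (hG : IsPGroup p G) (n : ℕ) (hn : 1 ≤ n) (N : Subgroup G) [N.Normal] (hN : N ≤ (⊤ : Subgroup G).lowerCentralSeries (n - 1)) (i : ℕ) (hi : 1 < i) (hne : N.lowerCentralSeries i ≠ ⊥) : p ^ n ≤ (N.lowerCentralSeries i).relIndex (N.lowerCentralSeries (i - 1)) := by
  by_contra hlt
  push Not at hlt
  apply hne
  have hnil : Group.IsNilpotent G := hG.isNilpotent
  obtain ⟨c, hc⟩ := Subgroup.nilpotent_iff_lowerCentralSeries.1 hnil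
  obtain ⟨i', rfl⟩ : ∃ i', i = i' + 1 := ⟨i - 1, by omega⟩
  obtain ⟨n', rfl⟩ : ∃ n', n = n' + 1 := ⟨n - 1, by omega⟩
  simp only [Nat.add_sub_cancel] at hlt hN
  have hAn : (N.lowerCentralSeries (i' + 1)).Normal := inferInstance
  have hBn : (N.lowerCentralSeries i').Normal := inferInstance
  have hAB : N.lowerCentralSeries (i' + 1) ≤ N.lowerCentralSeries i' :=
    N.lowerCentralSeries_antitone (Nat.le_succ i')
  have h1 : cc (N.lowerCentralSeries i') n' ≤ N.lowerCentralSeries (i' + 1) :=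
    cc_le_of_relIndex_lt hG c hc _ n' _ hAB hlt
  have h2 : N.lowerCentralSeries (i' + 1) ≤ ⁅N.lowerCentralSeries (i' + 1), ⊤⁆ := by
    calc N.lowerCentralSeries (i' + 1) = ⁅N.lowerCentralSeries i', N⁆ := rfl
      _ ≤ ⁅N.lowerCentralSeries i', (⊤ : Subgroup G).lowerCentralSeries n'⁆ :=
          Subgroup.commutator_mono le_rfl hN
      _ ≤ cc (N.lowerCentralSeries i') (n' + 1) := comm_lcs_le n' _
      _ = ⁅cc (N.lowerCentralSeries i') n', ⊤⁆ := rfl
      _ ≤ ⁅N.lowerCentralSeries (i' + 1), ⊤⁆ := Subgroup.commutator_mono h1 le_rfl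
  have h3 : ⁅N.lowerCentralSeries (i' + 1), ⊤⁆ ⊔ ⊥ = N.lowerCentralSeries (i' + 1) := by
    rw [sup_bot_eq]
    exact le_antisymm (Subgroup.commutator_le_left _ _) h2
  have := le_of_sup_eq c hc (N.lowerCentralSeries (i' + 1)) ⊥ h3
  exact le_bot_iff.1 this

end Cfsg.Agent.S3781
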