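-- S3766 (helper63): F(N) is the set of elements of N centralizing all chief factors of G (below F(N)).
import Cfsg.Statements.S3766
import Cfsg.Agent.Lib.Helper1.Fitting
import Cfsg.Agent.S3781

set_option autoImplicit false
open Cfsg

namespace Cfsg.Agent.S3766

open Cfsg.Agent.S3781 (sup_commutator_le)
open scoped commutatorElement

variable {G : Type*} [Group G]

/-- chief factor predicate (as in the statement) -/
def IsChief (U V : Subgroup G) : Prop :=
  U.Normal ∧ V.Normal ∧ V < U ∧
    ∀ W : Subgroup G, W.Normal → V ≤ W → W ≤ U → W = V ∨ W = U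

/-- A normal nilpotent subgroup centralizes every chief factor. -/
theorem comm_le_of_chief {F U V : Subgroup G} [hF : F.Normal] (c : ℕ)
    (hc : F.lowerCentralSeries c = ⊥) (h : IsChief U V) : ⁅U, F⁆ ≤ V := by
  obtain ⟨hU, hV, hlt, hmax⟩ := h
  have hWn : (V ⊔ ⁅U, F⁆).Normal := inferInstance
  have h1 : ⁅U, F⁆ ≤ U := Subgroup.commutator_le_left _ _
  rcases hmax (V ⊔ ⁅U, F⁆) hWn le_sup_left (sup_le hlt.le h1) with h | h
  · rw [← h]; exact le_sup_right
  · exfalso
    have key : ∀ k, U ≤ V ⊔ F.lowerCentralSeries k := by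
      intro k
      induction k with
      | zero =>
        rw [← h]
        exact sup_le le_sup_left (le_trans (Subgroup.commutator_le_right _ _) le_sup_right)
      | succ k ih =>
        have hn : (V ⊔ F.lowerCentralSeries (k + 1)).Normal := inferInstance
        have h2 : ⁅U, F⁆ ≤ V ⊔ F.lowerCentralSeries (k + 1) := by
          refine le_trans (Subgroup.commutator_mono ih le_rfl) ?_
          apply sup_commutator_le
          · exact le_trans (Subgroup.commutator_le_left _ _) le_sup_left
          · rw [Subgroup.lowerCentralSeries_succ]; exact le_sup_right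
        calc U = V ⊔ ⁅U, F⁆ := h.symm
          _ ≤ V ⊔ F.lowerCentralSeries (k + 1) := sup_le le_sup_left h2
    have h3 := key c
    rw [hc, sup_bot_eq] at h3
    exact absurd h3 (not_le_of_gt hlt)

theorem exists_chief_below [Finite G] (A : Subgroup G) [hA : A.Normal] (hA1 : A ≠ ⊥) :
    ∃ B : Subgroup G, IsChief A B := by
  have hwf : WellFounded ((· > ·) : Subgroup G → Subgroup G → Prop) := wellFounded_gt
  let S : Set (Subgroup G) := {K | K.Normal ∧ K < A}
  have hne : S.Nonempty := ⟨⊥, inferInstance, bot_lt_iff_ne_bot.2 hA1⟩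
  obtain ⟨B, hB, hmax⟩ := hwf.has_min S hne
  refine ⟨B, hA, hB.1, hB.2, fun W hW hBW hWA => ?_⟩
  by_cases hWA' : W = A
  · right; exact hWA'
  · left
    have hWS : W ∈ S := ⟨hW, lt_of_le_of_ne hWA hWA'⟩
    have h1 := hmax W hWS
    exact ((eq_or_lt_of_le hBW).resolve_right h1).symm

/-- iterated commutator with `M` -/
def cm (M A : Subgroup G) : ℕ → Subgroup G
  | 0 => A
  | k + 1 => ⁅cm M A k, M⁆

theorem cm_succ (M A : Subgroup G) (k : ℕ) : cm M A (k + 1) = ⁅cm M A k, M⁆ := rfl

theorem cm_mono (M : Subgroup G) {A A' : Subgroup G} (h : A ≤ A') : ∀ k, cm M A k ≤ cm M A' k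
  | 0 => h
  | k + 1 => Subgroup.commutator_mono (cm_mono M h k) le_rfl

theorem cm_succ' (M A : Subgroup G) : ∀ k, cm M A (k + 1) = cm M ⁅A, M⁆ k
  | 0 => rfl
  | k + 1 => by rw [cm_succ, cm_succ' M A k, ← cm_succ]

theorem exists_cm_eq_bot [Finite G] {F M : Subgroup G}
    (hcent : ∀ U V : Subgroup G, IsChief U V → U ≤ F → ⁅U, M⁆ ≤ V) :
    ∀ (n : ℕ) (A : Subgroup G), A.Normal → Nat.card A = n → A ≤ F → ∃ j, cm M A j = ⊥ := by
  intro n
  induction n using Nat.strong_induction_on with
  | _ n ih =>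
    intro A hA hcard hAF
    by_cases hA1 : A = ⊥
    · exact ⟨0, hA1⟩
    · obtain ⟨B, hch⟩ := exists_chief_below A hA1
      have hBn : B.Normal := hch.2.1
      have hlt : B < A := hch.2.2.1
      have hcardlt : Nat.card B < n := by
        by_contra hcon
        push Not at hcon
        rw [← hcard] at hcon
        exact hlt.ne (Subgroup.eq_of_le_of_card_ge hlt.le hcon)
      obtain ⟨j, hj⟩ := ih (Nat.card B) hcardlt B hBn rfl (hlt.le.trans hAF)
      refine ⟨j + 1, ?_⟩
      rw [cm_succ']
      have h1 := cm_mono M (hcent A B hch hAF) j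
      rw [hj] at h1
      exact le_bot_iff.1 h1

theorem lcs_le_cm {F M : Subgroup G} (h : ⁅M, M⁆ ≤ F) :
    ∀ k, M.lowerCentralSeries (k + 1) ≤ cm M F k
  | 0 => h
  | k + 1 => by
    rw [Subgroup.lowerCentralSeries_succ, cm_succ]
    exact Subgroup.commutator_mono (lcs_le_cm h k) le_rfl

theorem le_FN (N M : Subgroup G) [N.Normal] [hM : M.Normal] (hMN : M ≤ N)
    (hnil : Group.IsNilpotent M) : M ≤ (Cfsg.fittingSubgroup ↥N).map N.subtype := by
  have h1 : (M.subgroupOf N).Normal := inferInstance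
  have h2 : Group.IsNilpotent (M.subgroupOf N) :=
    (Group.isNilpotent_congr (Subgroup.subgroupOfEquivOfLe hMN)).2 hnil
  have h3 : M.subgroupOf N ≤ Cfsg.fittingSubgroup ↥N := le_sSup ⟨h1, h2⟩
  intro x hx
  have hx' : (⟨x, hMN hx⟩ : N) ∈ M.subgroupOf N := Subgroup.mem_subgroupOf.2 hx
  exact ⟨⟨x, hMN hx⟩, h3 hx', rfl⟩

/-- the subgroup of elements of `N` centralizing all chief factors below `F` -/
def DD (N F : Subgroup G) [hN : N.Normal] : Subgroup G where
  carrier := {x | x ∈ N ∧ ∀ U V : Subgroup G, IsChief U V → U ≤ F → ∀ u ∈ U, ⁅u, x⁆ ∈ V}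
  one_mem' := by
    refine ⟨N.one_mem, fun U V h _ u _ => ?_⟩
    rw [commutatorElement_one_right]
    exact V.one_mem
  mul_mem' := by
    rintro x y ⟨hxN, hx⟩ ⟨hyN, hy⟩
    refine ⟨N.mul_mem hxN hyN, fun U V h hUF u hu => ?_⟩
    have hV : V.Normal := h.2.1
    have e : ⁅u, x⁆ * x * ⁅u, y⁆ * x⁻¹ = ⁅u, x⁆ * (x * ⁅u, y⁆ * x⁻¹) := by group
    rw [commutatorElement_mul_right_eq_mul_conj, e]
    exact V.mul_mem (hx U V h hUF u hu) (hV.conj_mem _ (hy U V h hUF u hu) x)
  inv_mem' := by
    rintro x ⟨hxN, hx⟩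
    refine ⟨N.inv_mem hxN, fun U V h hUF u hu => ?_⟩
    have hV : V.Normal := h.2.1
    rw [commutatorElement_inv_right]
    have h1 : ⁅x, u⁆ ∈ V := by
      rw [← commutatorElement_inv]
      exact V.inv_mem (hx U V h hUF u hu)
    have := hV.conj_mem _ h1 x⁻¹
    simpa using this

theorem mem_DD (N F : Subgroup G) [hN : N.Normal] (x : G) :
    x ∈ DD N F ↔ x ∈ N ∧ ∀ U V : Subgroup G, IsChief U V → U ≤ F → ∀ u ∈ U, ⁅u, x⁆ ∈ V :=
  Iff.rfl

instance DD_normal (N F : Subgroup G) [hN : N.Normal] : (DD N F).Normal := by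
  constructor
  rintro x ⟨hxN, hx⟩ t
  refine ⟨hN.conj_mem x hxN t, fun U V h hUF u hu => ?_⟩
  have hU : U.Normal := h.1
  have hV : V.Normal := h.2.1
  have h1 : t⁻¹ * u * t ∈ U := by
    have := hU.conj_mem u hu t⁻¹
    simpa using this
  have h2 : ⁅t⁻¹ * u * t, x⁆ ∈ V := hx U V h hUF _ h1
  have h3 : ⁅u, t * x * t⁻¹⁆ = t * ⁅t⁻¹ * u * t, x⁆ * t⁻¹ := by
    rw [conjugate_commutatorElement]
    congr 1
    group
  rw [h3]
  exact hV.conj_mem _ h2 t

theorem DD_le (N F : Subgroup G) [hN : N.Normal] : DD N F ≤ N := fun _ hx => hx.1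

theorem comm_DD_le (N F : Subgroup G) [hN : N.Normal] {U V : Subgroup G} (h : IsChief U V)
    (hUF : U ≤ F) : ⁅U, DD N F⁆ ≤ V := by
  rw [Subgroup.commutator_le]
  intro u hu x hx
  exact hx.2 U V h hUF u hu

/-- Let G be a finite solvable group and N a normal subgroup of G. Call a pair V < U of normal subgroups of G a chief factor of G when no normal subgroup of G lies strictly between them; an element g centralizes the chief factor U/V when u g u⁻¹ g⁻¹ ∈ V for all u ∈ U. Then an element of G lies in the Fitting subgroup F(N) if and only if it lies in N and centralizes every chief factor of G; and also if and only if it lies in N and centralizes every chief factor U/V of G with U ≤ F(N). -/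
theorem result {G : Type*} [Group G] [Finite G] (hG : Group.IsSolvable G) (N : Subgroup G) [N.Normal] (g : G) : (g ∈ (Cfsg.fittingSubgroup ↥N).map N.subtype ↔ g ∈ N ∧ ∀ U V : Subgroup G, (U.Normal ∧ V.Normal ∧ V < U ∧ ∀ W : Subgroup G, W.Normal → V ≤ W → W ≤ U → W = V ∨ W = U) → ∀ u ∈ U, u * g * u⁻¹ * g⁻¹ ∈ V) ∧ (g ∈ (Cfsg.fittingSubgroup ↥N).map N.subtype ↔ g ∈ N ∧ ∀ U V : Subgroup G, (U.Normal ∧ V.Normal ∧ V < U ∧ ∀ W : Subgroup G, W.Normal → V ≤ W → W ≤ U → W = V ∨ W = U) → U ≤ (Cfsg.fittingSubgroup ↥N).map N.subtype → ∀ u ∈ U, u * g * u⁻¹ * g⁻¹ ∈ V) := by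
  have hcharF : (Cfsg.fittingSubgroup ↥N).Characteristic :=
    Cfsg.Agent.Lib.Helper1.fittingSubgroup_characteristic
  have hFn : ((Cfsg.fittingSubgroup ↥N).map N.subtype).Normal :=
    ConjAct.normal_of_characteristic_of_normal
  have hFN : (Cfsg.fittingSubgroup ↥N).map N.subtype ≤ N := Subgroup.map_subtype_le _
  -- nilpotency of F
  obtain ⟨c, hc⟩ : ∃ c, ((Cfsg.fittingSubgroup ↥N).map N.subtype).lowerCentralSeries c = ⊥ := by
    have hnil : Group.IsNilpotent (Cfsg.fittingSubgroup ↥N) :=
      Cfsg.Agent.Lib.Helper1.fittingSubgroup_isNilpotent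
    obtain ⟨c, hc⟩ := (Subgroup.isNilpotent_iff_lowerCentralSeries _).1 hnil
    refine ⟨c, ?_⟩
    rw [← Subgroup.map_lowerCentralSeries, hc, Subgroup.map_bot]
  set F : Subgroup G := (Cfsg.fittingSubgroup ↥N).map N.subtype with hF
  -- forward direction
  have fwd : ∀ x ∈ F, x ∈ N ∧ ∀ U V : Subgroup G, IsChief U V → ∀ u ∈ U, ⁅u, x⁆ ∈ V := by
    intro x hx
    refine ⟨hFN hx, fun U V h u hu => ?_⟩
    exact comm_le_of_chief c hc h (Subgroup.commutator_mem_commutator hu hx)
  have hFD : F ≤ DD N F := fun x hx =>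
    ⟨(fwd x hx).1, fun U V h _ u hu => (fwd x hx).2 U V h u hu⟩
  -- backward direction
  have bwd : DD N F ≤ F := by
    obtain ⟨s, hs⟩ := hG.solvable
    have key : ∀ k j, j + k = s → DD N F ⊓ derivedSeries G j ≤ F := by
      intro k
      induction k with
      | zero =>
        intro j hj
        rw [add_zero] at hj
        rw [hj, hs, inf_bot_eq]
        exact bot_le
      | succ k ih =>
        intro j hj
        have h1 : DD N F ⊓ derivedSeries G (j + 1) ≤ F := ih (j + 1) (by omega)
        have hXn : (DD N F ⊓ derivedSeries G j).Normal := inferInstance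
        have hXX : ⁅DD N F ⊓ derivedSeries G j, DD N F ⊓ derivedSeries G j⁆ ≤ F := by
          refine le_trans (le_inf ?_ ?_) h1
          · exact le_trans (Subgroup.commutator_mono inf_le_left inf_le_left)
              (Subgroup.commutator_le_self _)
          · rw [derivedSeries_succ]
            exact Subgroup.commutator_mono inf_le_right inf_le_right
        have hMn : ((DD N F ⊓ derivedSeries G j) ⊔ F).Normal := inferInstance
        have hXM : ⁅DD N F ⊓ derivedSeries G j, (DD N F ⊓ derivedSeries G j) ⊔ F⁆ ≤ F := by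
          rw [Subgroup.commutator_comm]
          apply sup_commutator_le
          · exact hXX
          · exact Subgroup.commutator_le_left _ _
        have hMM : ⁅(DD N F ⊓ derivedSeries G j) ⊔ F, (DD N F ⊓ derivedSeries G j) ⊔ F⁆ ≤ F := by
          apply sup_commutator_le
          · exact hXM
          · exact Subgroup.commutator_le_left _ _
        have hMD : (DD N F ⊓ derivedSeries G j) ⊔ F ≤ DD N F := sup_le inf_le_left hFD
        have hcent : ∀ U V : Subgroup G, IsChief U V → U ≤ F →
            ⁅U, (DD N F ⊓ derivedSeries G j) ⊔ F⁆ ≤ V := fun U V h hUF =>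
          le_trans (Subgroup.commutator_mono le_rfl hMD) (comm_DD_le N F h hUF)
        obtain ⟨j', hj'⟩ := exists_cm_eq_bot hcent (Nat.card F) F hFn rfl le_rfl
        have hlcs : ((DD N F ⊓ derivedSeries G j) ⊔ F).lowerCentralSeries (j' + 1) = ⊥ := by
          have := lcs_le_cm hMM j'
          rw [hj'] at this
          exact le_bot_iff.1 this
        have hnil : Group.IsNilpotent ↥((DD N F ⊓ derivedSeries G j) ⊔ F) :=
          (Subgroup.isNilpotent_iff_lowerCentralSeries _).2 ⟨_, hlcs⟩
        have hMN : (DD N F ⊓ derivedSeries G j) ⊔ F ≤ N := hMD.trans (DD_le N F)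
        have := le_FN N _ hMN hnil
        exact le_trans le_sup_left this
    have h0 := key s 0 (by omega)
    rw [derivedSeries_zero, inf_top_eq] at h0
    exact h0
  constructor
  · constructor
    · intro hg
      refine ⟨(fwd g hg).1, fun U V h u hu => ?_⟩
      have := (fwd g hg).2 U V h u hu
      rwa [commutatorElement_def] at this
    · rintro ⟨hgN, hg⟩
      apply bwd
      refine ⟨hgN, fun U V h _ u hu => ?_⟩
      rw [commutatorElement_def]
      exact hg U V h u hu
  · constructor
    · intro hg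
      refine ⟨(fwd g hg).1, fun U V h _ u hu => ?_⟩
      have := (fwd g hg).2 U V h u hu
      rwa [commutatorElement_def] at this
    · rintro ⟨hgN, hg⟩
      apply bwd
      refine ⟨hgN, fun U V h hUF u hu => ?_⟩
      rw [commutatorElement_def]
      exact hg U V h hUF u hu

end Cfsg.Agent.S3766
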