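import Cfsg.Statements.S0956
import Cfsg.Agent.Lib.Helper78.PGroupIdemLocal
import Cfsg.Agent.Lib.Helper78.OrbitSum
import Cfsg.Agent.Lib.Helper78.WBO
import Cfsg.Agent.Lib.Helper16.BrauerHom
import Cfsg.Agent.Lib.Helper16.DefectClass
import Cfsg.Agent.S0911

set_option autoImplicit false
open Cfsg

namespace Cfsg.Agent.S0956

open Cfsg.Agent.Lib.Helper78 Cfsg.Agent.Lib.Helper16 MonoidAlgebra

section Aux

variable {G : Type*} [Group G] [Fintype G] {M : Ideal AlgInt}

open scoped Classical in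
/-- Step 1: a coset `x (P ∩ C_G(D))` with `x ∈ C_G(D)` over which the idempotent coefficients of
`B` do not sum to an element of the local ideal. -/
theorem exists_coset_sum {p : ℕ} [Fact p.Prime] (hM : IsPModular p M) (χB : IrrCharacter G)
    (D : Subgroup G) (hD : IsPGroup p D) (c₀ : G) (hc₀ : c₀ ∈ Subgroup.centralizer (D : Set G))
    (hcoef : ¬ MemLocalIdeal M (blockCoeff (blockOf M (χB : G → ℂ)) c₀))
    (P : Subgroup G) (hP : IsPGroup p P) :
    ∃ x ∈ Subgroup.centralizer (D : Set G),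
      ¬ MemLocalIdeal M (∑ y ∈ Finset.univ.filter
        (fun y : G => x⁻¹ * y ∈ P ⊓ Subgroup.centralizer (D : Set G)),
        blockCoeff (blockOf M (χB : G → ℂ)) y) := by
  have hMp := isPModular_isPrime hM
  haveI : Fintype (Subgroup.centralizer (D : Set G)) := Fintype.ofFinite _
  obtain ⟨e, he⟩ : ∃ e, e = blockIdem M χB := ⟨_, rfl⟩
  have heR : CoeffsInRing M (e : MonoidAlgebra ℂ G) := fun x => he ▸ blockIdem_mem χB x
  have hCN : Subgroup.centralizer (D : Set G) ≤ Subgroup.normalizer (D : Set G) :=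
    Subgroup.centralizer_le_normalizer _
  have hEc : brP D (Subgroup.centralizer (D : Set G)) (e : MonoidAlgebra ℂ G) ∈
      Subalgebra.center ℂ (MonoidAlgebra ℂ (Subgroup.centralizer (D : Set G))) :=
    brP_mem_center D _ hCN e.2
  have hER : CoeffsInRing M (brP D (Subgroup.centralizer (D : Set G)) (e : MonoidAlgebra ℂ G)) :=
    brP_coeffsInRing D _ heR
  have hee : (e : MonoidAlgebra ℂ G) * (e : MonoidAlgebra ℂ G) = (e : MonoidAlgebra ℂ G) := by
    rw [he]
    exact congrArg Subtype.val (blockIdem_mul_self (M := M) χB)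
  have hEE : CoeffsInIdeal M
      (brP D (Subgroup.centralizer (D : Set G)) (e : MonoidAlgebra ℂ G) *
        brP D (Subgroup.centralizer (D : Set G)) (e : MonoidAlgebra ℂ G) -
        brP D (Subgroup.centralizer (D : Set G)) (e : MonoidAlgebra ℂ G)) := by
    have h1 := brP_mul_coeffsInIdeal hM D (Subgroup.centralizer (D : Set G)) hD le_rfl
      e.2 e.2 heR heR
    rw [hee] at h1
    have h2 := h1.neg
    rw [neg_sub] at h2
    exact h2
  have hEcoeff : ∀ h : Subgroup.centralizer (D : Set G),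
      (brP D (Subgroup.centralizer (D : Set G)) (e : MonoidAlgebra ℂ G)).coeff h =
        blockCoeff (blockOf M (χB : G → ℂ)) (h : G) := by
    intro h
    rw [coeff_brP, if_pos h.2, he, coeff_blockIdem]
  have hE0 : ¬ CoeffsInIdeal M
      (brP D (Subgroup.centralizer (D : Set G)) (e : MonoidAlgebra ℂ G)) := by
    intro h
    apply hcoef
    have := h ⟨c₀, hc₀⟩
    rw [hEcoeff] at this
    exact this
  obtain ⟨R, hRdef⟩ : ∃ R : Subgroup (Subgroup.centralizer (D : Set G)),
      R = (P ⊓ Subgroup.centralizer (D : Set G)).subgroupOf (Subgroup.centralizer (D : Set G)) :=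
    ⟨_, rfl⟩
  haveI : Fintype R := Fintype.ofFinite _
  have hR : IsPGroup p R := by
    rw [hRdef]
    exact (hP.to_le inf_le_left).comap_subtype
  obtain ⟨x, hx⟩ := exists_coeff_mul_subgroupSum_not_memLocalIdeal hM _ hEc hER hEE hE0 R hR
  refine ⟨(x : G), x.2, ?_⟩
  intro hmem
  apply hx
  rw [Finset.mul_sum, coeff_sum, Finsupp.finsetSum_apply]
  simp only [coeff_mul_single_apply, mul_one, hEcoeff]
  convert hmem using 1
  -- reindex `r ↦ x r⁻¹`
  apply Finset.sum_bij (fun (r : R) _ => (x : G) * (((r : Subgroup.centralizer (D : Set G)) : G))⁻¹)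
  · intro r _
    rw [Finset.mem_filter]
    refine ⟨Finset.mem_univ _, ?_⟩
    rw [inv_mul_cancel_left]
    have hr : (r : Subgroup.centralizer (D : Set G)) ∈
        (P ⊓ Subgroup.centralizer (D : Set G)).subgroupOf (Subgroup.centralizer (D : Set G)) := by
      rw [← hRdef]; exact r.2
    rw [Subgroup.mem_subgroupOf] at hr
    exact (P ⊓ Subgroup.centralizer (D : Set G)).inv_mem hr
  · intro r₁ _ r₂ _ h
    have h1 : (((r₁ : Subgroup.centralizer (D : Set G)) : G))⁻¹ =
        (((r₂ : Subgroup.centralizer (D : Set G)) : G))⁻¹ := mul_left_cancel h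
    exact Subtype.ext (Subtype.ext (inv_injective h1))
  · intro y hy
    rw [Finset.mem_filter] at hy
    have hy2 := hy.2
    have hmemC : ((x : G)⁻¹ * y)⁻¹ ∈ Subgroup.centralizer (D : Set G) :=
      (Subgroup.centralizer (D : Set G)).inv_mem hy2.2
    refine ⟨⟨⟨((x : G)⁻¹ * y)⁻¹, hmemC⟩, ?_⟩, Finset.mem_univ _, ?_⟩
    · rw [hRdef, Subgroup.mem_subgroupOf]
      exact (P ⊓ Subgroup.centralizer (D : Set G)).inv_mem hy2
    · show (x : G) * (((x : G)⁻¹ * y)⁻¹)⁻¹ = y
      rw [inv_inv, mul_inv_cancel_left]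
  · intro r _
    rfl

omit [Fintype G] in
theorem mem_map_conj_iff (P : Subgroup G) (x g : G) :
    g ∈ P.map (MulAut.conj x).toMonoidHom ↔ x⁻¹ * g * x ∈ P := by
  constructor
  · rintro ⟨u, hu, rfl⟩
    have : x⁻¹ * ((MulAut.conj x).toMonoidHom u) * x = u := by
      show x⁻¹ * (x * u * x⁻¹) * x = u
      group
    rw [this]
    exact hu
  · intro h
    refine ⟨x⁻¹ * g * x, h, ?_⟩
    show x * (x⁻¹ * g * x) * x⁻¹ = g
    group

omit [Fintype G] in
theorem conj_mem_centralizer_of_mem_normalizer (D : Subgroup G) {t y : G}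
    (ht : t ∈ Subgroup.normalizer (D : Set G)) (hy : y ∈ Subgroup.centralizer (D : Set G)) :
    t * y * t⁻¹ ∈ Subgroup.centralizer (D : Set G) := by
  rw [Subgroup.mem_centralizer_iff] at hy ⊢
  intro d hd
  have ht' : t⁻¹ ∈ Subgroup.normalizer (D : Set G) := Subgroup.inv_mem _ ht
  rw [Subgroup.mem_normalizer_iff] at ht'
  have hd' : t⁻¹ * d * t⁻¹⁻¹ ∈ D := (ht' d).mp hd
  have h1 := hy _ hd'
  calc d * (t * y * t⁻¹) = t * ((t⁻¹ * d * t⁻¹⁻¹) * y) * t⁻¹ := by group
    _ = t * (y * (t⁻¹ * d * t⁻¹⁻¹)) * t⁻¹ := by rw [h1]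
    _ = t * y * t⁻¹ * d := by group

omit [Fintype G] in
theorem mem_normalizer_of_conj_mem (D : Subgroup G) {q : G}
    (h1 : ∀ d ∈ D, q * d * q⁻¹ ∈ D) (h2 : ∀ d ∈ D, q⁻¹ * d * q ∈ D) :
    q ∈ Subgroup.normalizer (D : Set G) := by
  rw [Subgroup.mem_normalizer_iff]
  intro d
  constructor
  · exact h1 d
  · intro h
    have := h2 _ h
    have e : q⁻¹ * (q * d * q⁻¹) * q = d := by group
    rw [e] at this
    exact this

theorem card_le_card_sylow {K : Type*} [Group K] [Finite K] {p : ℕ} [Fact p.Prime]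
    (T : Subgroup K) (hT : IsPGroup p T) (S : Sylow p K) : Nat.card T ≤ Nat.card S := by
  obtain ⟨S', hS'⟩ := hT.exists_le_sylow
  calc Nat.card T ≤ Nat.card S' := Subgroup.card_le_of_le hS'
    _ = Nat.card S := by
      rw [Sylow.card_eq_multiplicity S', Sylow.card_eq_multiplicity S]

end Aux

/-- Let D be a defect group of a block of the finite group G (relative to a maximal ideal M of the algebraic integers containing the prime p) and P a Sylow p-subgroup containing D. Then there is an element x of order prime to p such that D is a Sylow p-subgroup of the centralizer of x and D = P ∩ x P x⁻¹. -/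
theorem result {G : Type*} [Group G] [Finite G] (p : ℕ) [Fact p.Prime] (M : Ideal Cfsg.AlgInt) (hM : Cfsg.IsPModular p M) (B : Set (Cfsg.IrrCharacter G)) (hB : Cfsg.IsPBlock M B) (D : Subgroup G) (hD : Cfsg.IsDefectGroup p M B D) (P : Sylow p G) (hDP : D ≤ P) : ∃ x : G, ¬ p ∣ orderOf x ∧ (∃ S : Sylow p (Subgroup.centralizer ({x} : Set G)), (S : Subgroup (Subgroup.centralizer ({x} : Set G))).map (Subgroup.centralizer ({x} : Set G)).subtype = D) ∧ (P : Subgroup G) ⊓ (P : Subgroup G).map (MulAut.conj x).toMonoidHom = D := by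
  classical
  haveI : Fintype G := Fintype.ofFinite G
  have hMp := isPModular_isPrime hM
  have hB' := hB
  obtain ⟨χB, rfl⟩ := hB
  obtain ⟨c₀, hc₀, S₀, hS₀⟩ := hD
  have hDp : IsPGroup p D := by
    rw [hS₀]; exact S₀.isPGroup'.map _
  have hPp : IsPGroup p (P : Subgroup G) := P.isPGroup'
  -- `c₀` centralizes `D`
  have hc₀C : c₀ ∈ Subgroup.centralizer (D : Set G) := by
    rw [Subgroup.mem_centralizer_iff]
    intro d hd
    rw [hS₀] at hd
    obtain ⟨d', _, rfl⟩ := hd
    have := d'.2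
    rw [Subgroup.mem_centralizer_singleton_iff] at this
    exact this
  obtain ⟨x, hxC, hxsum⟩ := exists_coset_sum hM χB D hDp c₀ hc₀C hc₀.2.1 (P : Subgroup G) hPp
  have hxD : ∀ d ∈ D, x⁻¹ * d * x = d := by
    intro d hd
    rw [Subgroup.mem_centralizer_iff] at hxC
    have := hxC d hd
    calc x⁻¹ * d * x = x⁻¹ * (d * x) := by group
      _ = x⁻¹ * (x * d) := by rw [this]
      _ = d := by group
  obtain ⟨Q, hQdef⟩ : ∃ Q : Subgroup G,
      Q = (P : Subgroup G) ⊓ (P : Subgroup G).map (MulAut.conj x).toMonoidHom := ⟨_, rfl⟩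
  obtain ⟨T, hTdef⟩ : ∃ T : Subgroup G, T = Q ⊓ Subgroup.normalizer (D : Set G) := ⟨_, rfl⟩
  have hTP : T ≤ (P : Subgroup G) := by
    rw [hTdef, hQdef]; exact inf_le_left.trans inf_le_left
  have hQP : Q ≤ (P : Subgroup G) := by
    rw [hQdef]; exact inf_le_left
  have hTp : IsPGroup p T := hPp.to_le hTP
  have hQp : IsPGroup p Q := hPp.to_le hQP
  have hDQ : D ≤ Q := by
    rw [hQdef]
    apply le_inf hDP
    intro d hd
    rw [mem_map_conj_iff, hxD d hd]
    exact hDP hd
  have hDT : D ≤ T := by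
    rw [hTdef]
    exact le_inf hDQ Subgroup.le_normalizer
  -- `T` stabilises the coset
  have hs : ∀ t ∈ T, ∀ y ∈ Finset.univ.filter
      (fun y : G => x⁻¹ * y ∈ (P : Subgroup G) ⊓ Subgroup.centralizer (D : Set G)),
      t * y * t⁻¹ ∈ Finset.univ.filter
        (fun y : G => x⁻¹ * y ∈ (P : Subgroup G) ⊓ Subgroup.centralizer (D : Set G)) := by
    intro t ht y hy
    rw [Finset.mem_filter] at hy ⊢
    refine ⟨Finset.mem_univ _, ?_⟩
    obtain ⟨hyP, hyC⟩ := Subgroup.mem_inf.mp hy.2
    rw [hTdef] at ht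
    obtain ⟨htQ, htN⟩ := Subgroup.mem_inf.mp ht
    rw [hQdef] at htQ
    obtain ⟨htP, htPx⟩ := Subgroup.mem_inf.mp htQ
    rw [mem_map_conj_iff] at htPx
    rw [Subgroup.mem_inf]
    constructor
    · have e : x⁻¹ * (t * y * t⁻¹) = (x⁻¹ * t * x) * (x⁻¹ * y) * t⁻¹ := by group
      rw [e]
      exact Subgroup.mul_mem _ (Subgroup.mul_mem _ htPx hyP) (Subgroup.inv_mem _ htP)
    · have hyC' : y ∈ Subgroup.centralizer (D : Set G) := by
        have e : y = x * (x⁻¹ * y) := by group
        rw [e]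
        exact Subgroup.mul_mem _ hxC hyC
      exact Subgroup.mul_mem _ (Subgroup.inv_mem _ hxC)
        (conj_mem_centralizer_of_mem_normalizer D htN hyC')
  obtain ⟨y, hy, hyfix, hycoef⟩ := exists_fixed_of_sum_not_memLocalIdeal hM T hTp _ hs
    (blockCoeff (blockOf M (χB : G → ℂ))) (fun g h => blockCoeff_conj _ g h)
    (fun g => blockCoeff_memLocalRing hB' g) hxsum
  rw [Finset.mem_filter] at hy
  obtain ⟨hyP, hyC⟩ := Subgroup.mem_inf.mp hy.2
  have hyC' : y ∈ Subgroup.centralizer (D : Set G) := by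
    have e : y = x * (x⁻¹ * y) := by group
    rw [e]
    exact Subgroup.mul_mem _ hxC hyC
  -- (i) `y` is `p`-regular
  have hyreg : ¬ p ∣ orderOf y := by
    intro hdvd
    apply hycoef
    have h1 := weak_block_orthogonality hM hB' 1 y
      (by rw [orderOf_one]; exact (Fact.out : p.Prime).one_lt.ne' ∘ Nat.dvd_one.mp) hdvd
    have h2 : blockCoeff (blockOf M (χB : G → ℂ)) y = 0 := by
      unfold blockCoeff
      rw [h1, mul_zero]
    rw [h2]
    exact memLocalIdeal_zero hMp.ne_top
  -- (ii) min-max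
  obtain ⟨u, Q', hQ'⟩ := (Cfsg.Agent.S0911.result p M hM _ hB' c₀ hc₀ S₀ y).1
    (blockCoeff_memLocalRing hB' y) hycoef
  rw [← hS₀] at hQ'
  have hcardQ' : Nat.card Q' ≤ Nat.card D := by
    have h1 : Nat.card ((Q' : Subgroup (Subgroup.centralizer ({y} : Set G))).map
        (Subgroup.centralizer ({y} : Set G)).subtype) = Nat.card Q' :=
      Nat.card_congr ((Q' : Subgroup (Subgroup.centralizer ({y} : Set G))).equivMapOfInjective _
        (Subgroup.subtype_injective _)).toEquiv.symm
    have h2 : Nat.card (D.map (MulAut.conj u).toMonoidHom) = Nat.card D :=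
      Nat.card_congr (D.equivMapOfInjective _ (MulAut.conj u).injective).toEquiv.symm
    rw [← h1, ← h2]
    exact Subgroup.card_le_of_le hQ'
  -- (iii) `T` centralizes `y`, so `|T| ≤ |D|`
  have hTy : T ≤ Subgroup.centralizer ({y} : Set G) := by
    intro t ht
    rw [Subgroup.mem_centralizer_singleton_iff]
    have := hyfix t ht
    calc t * y = t * y * t⁻¹ * t := by group
      _ = y * t := by rw [this]
  have hcardT : Nat.card T ≤ Nat.card D := by
    have h1 : Nat.card (T.subgroupOf (Subgroup.centralizer ({y} : Set G))) = Nat.card T :=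
      Nat.card_congr (Subgroup.subgroupOfEquivOfLe hTy).toEquiv
    rw [← h1]
    exact (card_le_card_sylow _ (hTp.comap_subtype) Q').trans hcardQ'
  have hTD : D = T := Subgroup.eq_of_le_of_card_ge hDT hcardT
  -- (v) `Q = D` by the normalizer condition in the `p`-group `Q`
  have hQD : Q ≤ D := by
    haveI : Group.IsNilpotent Q := hQp.isNilpotent
    by_contra hnot
    have hlt : D.subgroupOf Q < ⊤ := by
      rw [lt_top_iff_ne_top]
      intro h
      exact hnot (Subgroup.subgroupOf_eq_top.mp h)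
    have hnc := Group.normalizerCondition_of_isNilpotent (G := Q) _ hlt
    obtain ⟨q, hqN, hqD⟩ := SetLike.exists_of_lt hnc
    have hqN' : q⁻¹ ∈ Subgroup.normalizer ((D.subgroupOf Q : Subgroup Q) : Set Q) :=
      Subgroup.inv_mem _ hqN
    have hqT : (q : G) ∈ T := by
      rw [hTdef]
      refine Subgroup.mem_inf.mpr ⟨q.2, ?_⟩
      apply mem_normalizer_of_conj_mem
      · intro d hd
        have h1 := (Subgroup.mem_normalizer_iff.mp hqN ⟨d, hDQ hd⟩).mp
          (Subgroup.mem_subgroupOf.mpr hd)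
        exact Subgroup.mem_subgroupOf.mp h1
      · intro d hd
        have h1 := (Subgroup.mem_normalizer_iff.mp hqN' ⟨d, hDQ hd⟩).mp
          (Subgroup.mem_subgroupOf.mpr hd)
        have h2 := Subgroup.mem_subgroupOf.mp h1
        simpa using h2
    rw [← hTD] at hqT
    exact hqD (Subgroup.mem_subgroupOf.mpr hqT)
  -- (vi) the Sylow intersection
  have hmap : (P : Subgroup G).map (MulAut.conj y).toMonoidHom =
      (P : Subgroup G).map (MulAut.conj x).toMonoidHom := by
    ext g
    rw [mem_map_conj_iff, mem_map_conj_iff]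
    have e1 : y⁻¹ * g * y = (x⁻¹ * y)⁻¹ * (x⁻¹ * g * x) * (x⁻¹ * y) := by group
    have e2 : x⁻¹ * g * x = (x⁻¹ * y) * (y⁻¹ * g * y) * (x⁻¹ * y)⁻¹ := by group
    constructor
    · intro h
      rw [e2]
      exact Subgroup.mul_mem _ (Subgroup.mul_mem _ hyP h) (Subgroup.inv_mem _ hyP)
    · intro h
      rw [e1]
      exact Subgroup.mul_mem _ (Subgroup.mul_mem _ (Subgroup.inv_mem _ hyP) h) hyP
  -- (vii) `D` is a Sylow subgroup of the centralizer of `y`
  have hDy : D ≤ Subgroup.centralizer ({y} : Set G) := by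
    intro d hd
    rw [Subgroup.mem_centralizer_singleton_iff]
    rw [Subgroup.mem_centralizer_iff] at hyC'
    exact hyC' d hd
  obtain ⟨S, hS⟩ := (hDp.comap_subtype :
    IsPGroup p (D.subgroupOf (Subgroup.centralizer ({y} : Set G)))).exists_le_sylow
  have hcardS : Nat.card S ≤ Nat.card (D.subgroupOf (Subgroup.centralizer ({y} : Set G))) := by
    have h1 : Nat.card (D.subgroupOf (Subgroup.centralizer ({y} : Set G))) = Nat.card D :=
      Nat.card_congr (Subgroup.subgroupOfEquivOfLe hDy).toEquiv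
    rw [h1, Sylow.card_eq_multiplicity S, ← Sylow.card_eq_multiplicity Q']
    exact hcardQ'
  have hSD : D.subgroupOf (Subgroup.centralizer ({y} : Set G)) = S :=
    Subgroup.eq_of_le_of_card_ge hS hcardS
  refine ⟨y, hyreg, ⟨S, ?_⟩, ?_⟩
  · rw [← hSD, Subgroup.subgroupOf_map_subtype]
    exact inf_eq_left.mpr hDy
  · rw [hmap, ← hQdef]
    exact le_antisymm hQD hDQ

end Cfsg.Agent.S0956
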