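import Cfsg.Statements.S4510
import Cfsg.Agent.Lib.Helper78.BlockCount

set_option autoImplicit false
open Cfsg

namespace Cfsg.Agent.S4510

/-- Let G be a finite group, p a prime, M a maximal ideal of the algebraic integers containing p, and call the defect of a conjugacy class the exponent of p in the order of the centralizer of its elements. Two irreducible characters lying in p-blocks of defect exactly d lie in the same block if and only if their central characters (class size times χ(x)/χ(1)) agree modulo the local ideal at M at every p-regular element x whose class has defect exactly d. -/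
theorem result {G : Type*} [Group G] [Finite G] (p : ℕ) [Fact p.Prime] (M : Ideal Cfsg.AlgInt) (hM : Cfsg.IsPModular p M) (d : ℕ) (χ ψ : Cfsg.IrrCharacter G) (hχ : Cfsg.blockDefect p (Cfsg.blockOf M (χ : G → ℂ)) = d) (hψ : Cfsg.blockDefect p (Cfsg.blockOf M (ψ : G → ℂ)) = d) : Cfsg.SameBlock M (χ : G → ℂ) (ψ : G → ℂ) ↔ ∀ x : G, ¬ p ∣ orderOf x → (Nat.card (Subgroup.centralizer ({x} : Set G))).factorization p = d → Cfsg.MemLocalIdeal M (Cfsg.centralChar (χ : G → ℂ) x - Cfsg.centralChar (ψ : G → ℂ) x) := by
  classical
  let _ : Fintype G := Fintype.ofFinite G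
  have hMp : M.IsPrime := Cfsg.Agent.Lib.Helper16.isPModular_isPrime hM
  have hp : p.Prime := Fact.out
  constructor
  · intro h x _ _
    exact h x
  · intro h
    by_contra hnot
    -- the block of `χ`
    have hB : Cfsg.IsPBlock M (Cfsg.blockOf M (χ : G → ℂ)) := ⟨χ, rfl⟩
    have hB' : Cfsg.IsPBlock M (Cfsg.blockOf M (ψ : G → ℂ)) := ⟨ψ, rfl⟩
    have hχmem : χ ∈ Cfsg.blockOf M (χ : G → ℂ) :=
      Cfsg.Agent.Lib.Helper16.self_mem_blockOf hMp.ne_top χ
    have hψmem : ψ ∈ Cfsg.blockOf M (ψ : G → ℂ) :=
      Cfsg.Agent.Lib.Helper16.self_mem_blockOf hMp.ne_top ψ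
    have hψnot : ψ ∉ Cfsg.blockOf M (χ : G → ℂ) := hnot
    have h1 := Cfsg.Agent.Lib.Helper78.sum_conjClasses_blockCoeff_mul_centralChar
      (Cfsg.blockOf M (χ : G → ℂ)) hχmem
    have h0 := Cfsg.Agent.Lib.Helper78.sum_conjClasses_blockCoeff_mul_centralChar_of_not_mem
      (Cfsg.blockOf M (χ : G → ℂ)) hψnot
    have hsub : ∑ c : ConjClasses G, Cfsg.blockCoeff (Cfsg.blockOf M (χ : G → ℂ)) (Quotient.out c) *
        (Cfsg.centralChar (χ : G → ℂ) (Quotient.out c) -
          Cfsg.centralChar (ψ : G → ℂ) (Quotient.out c)) = 1 := by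
      simp only [mul_sub, Finset.sum_sub_distrib]
      rw [h1, h0, sub_zero]
    have hring : ∀ (φ : Cfsg.IrrCharacter G) (x : G),
        Cfsg.MemLocalRing M (Cfsg.centralChar (φ : G → ℂ) x) := fun φ x =>
      Cfsg.Agent.Lib.Helper16.memLocalRing_of_isIntegral hMp.ne_top
        (Cfsg.Agent.Lib.Helper79.isIntegral_centralChar φ x)
    have hmem : Cfsg.MemLocalIdeal M (1 : ℂ) := by
      rw [← hsub]
      apply Cfsg.Agent.Lib.Helper16.memLocalIdeal_sum
      intro c _
      set x := Quotient.out c with hx
      by_cases hf : Cfsg.MemLocalIdeal M (Cfsg.blockCoeff (Cfsg.blockOf M (χ : G → ℂ)) x)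
      · exact Cfsg.Agent.Lib.Helper16.memLocalIdeal_mul_right hf
          (Cfsg.Agent.Lib.Helper16.memLocalRing_sub (hring χ x) (hring ψ x))
      · apply Cfsg.Agent.Lib.Helper16.memLocalIdeal_mul_left
          (Cfsg.Agent.Lib.Helper16.blockCoeff_memLocalRing hB x)
        -- `x` is `p`-regular
        have hreg : ¬ p ∣ orderOf x := by
          intro hdiv
          apply hf
          have h2 := Cfsg.Agent.Lib.Helper78.weak_block_orthogonality hM hB (1 : G) x
            (by simp [hp.one_lt.ne']) hdiv
          have h3 : Cfsg.blockCoeff (Cfsg.blockOf M (χ : G → ℂ)) x = 0 := by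
            unfold Cfsg.blockCoeff
            rw [h2, mul_zero]
          rw [h3]
          exact Cfsg.Agent.Lib.Helper16.memLocalIdeal_zero hMp.ne_top
        have hle := Cfsg.Agent.Lib.Helper78.factorization_card_centralizer_le_blockDefect hM hB hf
        rw [hχ] at hle
        rcases Nat.lt_or_ge ((Nat.card (Subgroup.centralizer ({x} : Set G))).factorization p) d
          with hlt | hge
        · have hωχ : Cfsg.MemLocalIdeal M (Cfsg.centralChar (χ : G → ℂ) x) := by
            by_contra hc
            have := Cfsg.Agent.Lib.Helper78.blockDefect_le_factorization_card_centralizer hM hB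
              hχmem hc
            rw [hχ] at this
            omega
          have hωψ : Cfsg.MemLocalIdeal M (Cfsg.centralChar (ψ : G → ℂ) x) := by
            by_contra hc
            have := Cfsg.Agent.Lib.Helper78.blockDefect_le_factorization_card_centralizer hM hB'
              hψmem hc
            rw [hψ] at this
            omega
          exact Cfsg.Agent.Lib.Helper16.memLocalIdeal_sub hωχ hωψ
        · exact h x hreg (le_antisymm hle hge)
    exact Cfsg.Agent.Lib.Helper16.one_not_memLocalIdeal hmem

end Cfsg.Agent.S4510
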