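import Cfsg.Statements.S0063
-- import your own Cfsg.Agent.* helpers here

set_option autoImplicit false
open Cfsg

namespace Cfsg.Agent.S0063


theorem aux {p : ℕ} [Fact p.Prime] : ∀ (m : ℕ), 1 < m → ∀ (G : Type*) [Group G] [Finite G],
    Nat.card G = p ^ m → Group.nilpotencyClass G ≤ m - 1 := by
  have hp : p.Prime := Fact.out
  intro m
  induction m using Nat.strong_induction_on with
  | _ m ih =>
    intro hm G _ _ hG
    have hPG : IsPGroup p G := IsPGroup.of_card hG
    have : Nontrivial G := by
      rw [← Finite.one_lt_card_iff_nontrivial, hG]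
      exact Nat.one_lt_pow (by omega) hp.one_lt
    have hnil : Group.IsNilpotent G := hPG.isNilpotent
    have hZnt : Nontrivial (Subgroup.center G) := hPG.center_nontrivial
    obtain ⟨k, hk⟩ := IsPGroup.iff_card.mp (hPG.to_subgroup (Subgroup.center G))
    have hk0 : k ≠ 0 := by
      intro h0
      rw [h0, pow_zero] at hk
      have : Subsingleton (Subgroup.center G) := (Nat.card_eq_one_iff_unique.mp hk).1
      exact not_subsingleton _ this
    have hcard : Nat.card (G ⧸ Subgroup.center G) * Nat.card (Subgroup.center G) = Nat.card G := by
      rw [← Subgroup.index_eq_card]; exact Subgroup.index_mul_card _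
    have hkm : k ≤ m := by
      have : p ^ k ∣ p ^ m := by rw [← hk, ← hG]; exact Subgroup.card_subgroup_dvd_card _
      exact (Nat.pow_dvd_pow_iff_le_right hp.one_lt).mp this
    have hq : Nat.card (G ⧸ Subgroup.center G) = p ^ (m - k) := by
      rw [hk, hG] at hcard
      have hpos : 0 < p ^ k := pow_pos hp.pos k
      apply Nat.eq_of_mul_eq_mul_right hpos
      rw [hcard, ← pow_add, Nat.sub_add_cancel hkm]
    rw [Group.nilpotencyClass_eq_quotient_center_plus_one]
    by_cases h2 : 1 < m - k
    · have := ih (m - k) (by omega) h2 (G ⧸ Subgroup.center G) hq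
      omega
    · -- quotient is cyclic, so G is commutative, contradiction unless class ≤ 1
      have hcyc : IsCyclic (G ⧸ Subgroup.center G) := by
        have hmk : m - k = 0 ∨ m - k = 1 := by omega
        rcases hmk with h0 | h1
        · rw [h0, pow_zero] at hq
          have : Subsingleton (G ⧸ Subgroup.center G) := (Nat.card_eq_one_iff_unique.mp hq).1
          infer_instance
        · rw [h1, pow_one] at hq
          exact isCyclic_of_prime_card hq
      have hc : IsMulCommutative G :=
        MonoidHom.isMulCommutative_of_isCyclic_of_ker_le_center (QuotientGroup.mk' (Subgroup.center G))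
          (QuotientGroup.ker_mk' _).le
      have h1 : Group.nilpotencyClass G ≤ 1 := Group.IsNilpotent.nilpotencyClass_le_one_iff.mpr hc
      rw [Group.nilpotencyClass_eq_quotient_center_plus_one] at h1
      omega

/-- A finite group of prime-power order p ^ m with m > 1 is nilpotent of class at most m - 1. -/
theorem result {G : Type*} [Group G] [Finite G] (p m : ℕ) [Fact p.Prime]
    (hG : Nat.card G = p ^ m) (hm : 1 < m) : Group.nilpotencyClass G ≤ m - 1 := by
  exact aux m hm G hG

end Cfsg.Agent.S0063
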