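import Cfsg.Statements.S0233
import Mathlib
-- import your own Cfsg.Agent.* helpers here

set_option autoImplicit false
open Cfsg

namespace Cfsg.Agent.S0233

section aux
variable {G : Type*} [Group G]

/-- The extended centralizer `C*(x) = {g | g x g⁻¹ = x ∨ g x g⁻¹ = x⁻¹}`. -/
def extCentralizer (x : G) : Subgroup G where
  carrier := {g | g * x * g⁻¹ = x ∨ g * x * g⁻¹ = x⁻¹}
  one_mem' := by left; simp
  mul_mem' := by
    intro a b ha hb
    have e : a * b * x * (a * b)⁻¹ = a * (b * x * b⁻¹) * a⁻¹ := by group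
    rcases hb with hb | hb
    · rcases ha with ha | ha
      · left; rw [e, hb, ha]
      · right; rw [e, hb, ha]
    · have e2 : a * x⁻¹ * a⁻¹ = (a * x * a⁻¹)⁻¹ := by group
      rcases ha with ha | ha
      · right; rw [e, hb, e2, ha]
      · left; rw [e, hb, e2, ha, inv_inv]
  inv_mem' := by
    intro a ha
    rcases ha with ha | ha
    · left
      calc a⁻¹ * x * a⁻¹⁻¹ = a⁻¹ * (a * x * a⁻¹) * a⁻¹⁻¹ := by rw [ha]
        _ = x := by group
    · right
      have h1 : a * x⁻¹ * a⁻¹ = x := by
        calc a * x⁻¹ * a⁻¹ = (a * x * a⁻¹)⁻¹ := by group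
          _ = x := by rw [ha, inv_inv]
      calc a⁻¹ * x * a⁻¹⁻¹ = a⁻¹ * (a * x⁻¹ * a⁻¹) * a := by rw [h1]; group
        _ = x⁻¹ := by group

theorem mem_extCentralizer {x g : G} :
    g ∈ extCentralizer x ↔ g * x * g⁻¹ = x ∨ g * x * g⁻¹ = x⁻¹ := Iff.rfl

theorem mem_centralizer_singleton {x g : G} :
    g ∈ Subgroup.centralizer ({x} : Set G) ↔ g * x * g⁻¹ = x := by
  rw [Subgroup.mem_centralizer_iff]
  constructor
  · intro h
    have h1 := h x rfl
    calc g * x * g⁻¹ = (g * x) * g⁻¹ := by group
      _ = (x * g) * g⁻¹ := by rw [h1]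
      _ = x := by group
  · intro h y hy
    rw [Set.mem_singleton_iff] at hy
    subst hy
    calc y * g = (g * y * g⁻¹) * g := by rw [h]
      _ = g * y := by group

theorem centralizer_le_extCentralizer (x : G) :
    Subgroup.centralizer ({x} : Set G) ≤ extCentralizer x := by
  intro g hg
  exact Or.inl (mem_centralizer_singleton.mp hg)

/-- If some `s₀` inverts `x` and `x ≠ x⁻¹` then `C(x)` has index `2` in `C*(x)`. -/
theorem relIndex_extCentralizer {x s₀ : G} (hs₀ : s₀ * x * s₀⁻¹ = x⁻¹) (hx : x ≠ x⁻¹) :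
    (Subgroup.centralizer ({x} : Set G)).relIndex (extCentralizer x) = 2 := by
  rw [Subgroup.relIndex_eq_two_iff]
  refine ⟨s₀, Or.inr hs₀, ?_⟩
  intro b hb
  have e : b * s₀ * x * (b * s₀)⁻¹ = b * (s₀ * x * s₀⁻¹) * b⁻¹ := by group
  have e2 : b * x⁻¹ * b⁻¹ = (b * x * b⁻¹)⁻¹ := by group
  rcases hb with hb | hb
  · -- b centralizes x
    refine Or.inr ⟨mem_centralizer_singleton.mpr hb, ?_⟩
    intro h
    rw [mem_centralizer_singleton, e, hs₀, e2, hb] at h
    exact hx h.symm
  · refine Or.inl ⟨?_, ?_⟩
    · rw [mem_centralizer_singleton, e, hs₀, e2, hb, inv_inv]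
    · intro h
      rw [mem_centralizer_singleton, hb] at h
      exact hx h.symm

theorem card_mul_relIndex {H K : Subgroup G} (hHK : H ≤ K) :
    Nat.card H * H.relIndex K = Nat.card K := by
  have h1 := Subgroup.card_mul_index (H.subgroupOf K)
  have h2 : Nat.card (H.subgroupOf K) = Nat.card H :=
    Nat.card_congr (Subgroup.subgroupOfEquivOfLe hHK).toEquiv
  rw [h2] at h1
  exact h1

end aux

section count
open Classical

variable {G : Type*} [Group G] [Fintype G]

/-- The finset of involutions. -/
noncomputable def invs (G : Type*) [Group G] [Fintype G] : Finset G :=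
  Finset.univ.filter (fun t : G => orderOf t = 2)

theorem mem_invs {t : G} : t ∈ invs G ↔ orderOf t = 2 := by
  unfold invs; simp

theorem invs_sq {t : G} (ht : t ∈ invs G) : t * t = 1 := by
  have h := pow_orderOf_eq_one t
  rw [mem_invs.mp ht, sq] at h
  exact h

theorem invs_ne_one {t : G} (ht : t ∈ invs G) : t ≠ 1 := by
  intro h
  rw [mem_invs, h, orderOf_one] at ht
  omega

theorem invs_inv {t : G} (ht : t ∈ invs G) : t⁻¹ = t :=
  inv_eq_of_mul_eq_one_left (invs_sq ht)

/-- Number of ordered pairs of involutions with product `x`. -/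
noncomputable def beta (x : G) : ℕ :=
  ((invs G ×ˢ invs G).filter (fun p => p.1 * p.2 = x)).card

theorem mem_fiber {x : G} {p : G × G} :
    p ∈ (invs G ×ˢ invs G).filter (fun p => p.1 * p.2 = x) ↔
      p.1 ∈ invs G ∧ p.2 ∈ invs G ∧ p.1 * p.2 = x := by
  rw [Finset.mem_filter, Finset.mem_product, and_assoc]

theorem sum_beta : ∑ x : G, beta x = (invs G).card ^ 2 := by
  have h := Finset.card_eq_sum_card_fiberwise (f := fun p : G × G => p.1 * p.2)
    (s := invs G ×ˢ invs G) (t := Finset.univ) (by intro p _; simp)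
  rw [Finset.card_product] at h
  rw [sq, h]
  rfl

/-- Finset version of the cardinality of a subgroup. -/
theorem card_subgroup_eq (H : Subgroup G) :
    Nat.card H = (Finset.univ.filter (fun g : G => g ∈ H)).card := by
  rw [Nat.card_eq_fintype_card, Fintype.card_subtype]

/-- The first component determines a pair in a fibre. -/
theorem fst_injOn (x : G) :
    Set.InjOn (Prod.fst : G × G → G)
      ((invs G ×ˢ invs G).filter (fun p => p.1 * p.2 = x) : Finset (G × G)) := by
  intro p hp q hq hpq
  rw [Finset.mem_coe, mem_fiber] at hp hq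
  have h1 : p.1 * p.2 = q.1 * q.2 := hp.2.2.trans hq.2.2.symm
  rw [hpq] at h1
  exact Prod.ext hpq (mul_left_cancel h1)

theorem beta_one_le : beta (1 : G) ≤ (invs G).card := by
  unfold beta
  refine Finset.card_le_card_of_injOn Prod.fst ?_ (fst_injOn 1)
  intro p hp
  rw [Finset.mem_coe, mem_fiber] at hp
  exact hp.1

/-- For an involution `x`: `β(x) + 2 ≤ |C(x)|`. -/
theorem beta_involution {x : G} (hx : x ∈ invs G) :
    beta x + 2 ≤ Nat.card (Subgroup.centralizer ({x} : Set G)) := by
  rw [card_subgroup_eq]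
  have hx1 : x ≠ 1 := invs_ne_one hx
  have h1mem : (1 : G) ∈ Finset.univ.filter (fun g : G => g ∈ Subgroup.centralizer ({x} : Set G)) := by
    simp
  have hxmem : x ∈ (Finset.univ.filter
      (fun g : G => g ∈ Subgroup.centralizer ({x} : Set G))).erase 1 := by
    rw [Finset.mem_erase]
    refine ⟨hx1, ?_⟩
    rw [Finset.mem_filter]
    refine ⟨Finset.mem_univ _, ?_⟩
    rw [mem_centralizer_singleton]; group
  have hle : beta x ≤ (((Finset.univ.filter
      (fun g : G => g ∈ Subgroup.centralizer ({x} : Set G))).erase 1).erase x).card := by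
    unfold beta
    refine Finset.card_le_card_of_injOn Prod.fst ?_ (fst_injOn x)
    intro p hp
    rw [Finset.mem_coe, mem_fiber] at hp
    obtain ⟨hs, ht, hst⟩ := hp
    have hss := invs_sq hs
    have htt := invs_sq ht
    have hxx := invs_sq hx
    rw [← hst] at hxx
    rw [Finset.mem_coe, Finset.mem_erase, Finset.mem_erase, Finset.mem_filter]
    refine ⟨?_, invs_ne_one hs, Finset.mem_univ _, ?_⟩
    · intro h
      have h2 : p.1 * p.2 = p.1 * 1 := by rw [hst, mul_one]; exact h.symm
      exact invs_ne_one ht (mul_left_cancel h2)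
    · rw [mem_centralizer_singleton, ← hst]
      -- s (s t) s⁻¹ = s t, using (st)² = 1
      have hsinv : p.1⁻¹ = p.1 := invs_inv hs
      rw [hsinv]
      calc p.1 * (p.1 * p.2) * p.1 = (p.1 * p.1) * p.2 * p.1 := by group
        _ = p.2 * p.1 := by rw [hss, one_mul]
        _ = (p.1 * p.1) * (p.2 * p.1) * (p.2 * p.2) := by rw [hss, htt, one_mul, mul_one]
        _ = p.1 * (p.1 * p.2 * (p.1 * p.2)) * p.2 := by group
        _ = p.1 * p.2 := by rw [hxx, mul_one]
  rw [Finset.card_erase_of_mem hxmem, Finset.card_erase_of_mem h1mem] at hle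
  have h2 : 2 ≤ (Finset.univ.filter
      (fun g : G => g ∈ Subgroup.centralizer ({x} : Set G))).card := by
    have := Finset.card_pos.mpr ⟨x, hxmem⟩
    rw [Finset.card_erase_of_mem h1mem] at this
    omega
  omega

/-- For `x` which is neither `1` nor an involution: either `β(x) = 0`, or `x` is inverted by some
element, `x ≠ x⁻¹`, and `β(x) ≤ |C(x)|`. -/
theorem beta_noninvolution {x : G} (hx1 : x ≠ 1) (hx2 : x ∉ invs G) :
    beta x = 0 ∨ (∃ s₀ : G, s₀ * x * s₀⁻¹ = x⁻¹) ∧ x ≠ x⁻¹ ∧
      beta x ≤ Nat.card (Subgroup.centralizer ({x} : Set G)) := by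
  by_cases hempty : (invs G ×ˢ invs G).filter (fun p => p.1 * p.2 = x) = ∅
  · left; unfold beta; rw [hempty, Finset.card_empty]
  · right
    obtain ⟨p₀, hp₀⟩ := Finset.nonempty_iff_ne_empty.mpr hempty
    rw [mem_fiber] at hp₀
    obtain ⟨hs₀, ht₀, hst₀⟩ := hp₀
    have key : ∀ p : G × G, p.1 ∈ invs G → p.2 ∈ invs G → p.1 * p.2 = x →
        p.1 * x * p.1⁻¹ = x⁻¹ := by
      intro p hs ht hst
      rw [invs_inv hs, ← hst]
      have hss := invs_sq hs
      have e : (p.1 * p.2)⁻¹ = p.2 * p.1 := by
        rw [mul_inv_rev, invs_inv hs, invs_inv ht]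
      rw [e]
      calc p.1 * (p.1 * p.2) * p.1 = (p.1 * p.1) * p.2 * p.1 := by group
        _ = p.2 * p.1 := by rw [hss, one_mul]
    have hxne : x ≠ x⁻¹ := by
      intro h
      have h2 : x * x = 1 := by
        calc x * x = x * x⁻¹ := by rw [← h]
          _ = 1 := mul_inv_cancel x
      have h3 : orderOf x ∣ 2 := orderOf_dvd_of_pow_eq_one (by rw [sq]; exact h2)
      rcases (Nat.dvd_prime Nat.prime_two).mp h3 with h4 | h4
      · exact hx1 (orderOf_eq_one_iff.mp h4)
      · exact hx2 (mem_invs.mpr h4)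
    have hs₀x := key p₀ hs₀ ht₀ hst₀
    refine ⟨⟨p₀.1, hs₀x⟩, hxne, ?_⟩
    rw [card_subgroup_eq]
    unfold beta
    refine Finset.card_le_card_of_injOn (fun p => p₀.1⁻¹ * p.1) ?_ ?_
    · intro p hp
      rw [Finset.mem_coe, mem_fiber] at hp
      obtain ⟨hs, ht, hst⟩ := hp
      have hsx := key p hs ht hst
      rw [Finset.mem_coe, Finset.mem_filter]
      refine ⟨Finset.mem_univ _, ?_⟩
      rw [mem_centralizer_singleton]
      calc p₀.1⁻¹ * p.1 * x * (p₀.1⁻¹ * p.1)⁻¹ = p₀.1⁻¹ * (p.1 * x * p.1⁻¹) * p₀.1 := by group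
        _ = p₀.1⁻¹ * (p₀.1 * x * p₀.1⁻¹) * p₀.1 := by rw [hsx, hs₀x]
        _ = x := by group
    · intro p hp q hq hpq
      have h1 : p.1 = q.1 := mul_left_cancel hpq
      exact fst_injOn x hp hq h1

/-- An involution is not central when the centre has odd order. -/
theorem centralizer_ne_top_of_odd_center (hZ : Odd (Nat.card (Subgroup.center G))) {x : G}
    (hx : x ∈ invs G) : Subgroup.centralizer ({x} : Set G) ≠ ⊤ := by
  intro h
  rw [Subgroup.centralizer_eq_top_iff_subset] at h
  have hxc : x ∈ Subgroup.center G := h rfl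
  have h1 : orderOf (⟨x, hxc⟩ : Subgroup.center G) ∣ Nat.card (Subgroup.center G) :=
    orderOf_dvd_natCard _
  rw [Subgroup.orderOf_mk, mem_invs.mp hx] at h1
  rw [← Nat.not_even_iff_odd] at hZ
  exact hZ (even_iff_two_dvd.mpr h1)

/-- The core counting inequality of Brauer and Fowler. -/
theorem core (hno2 : ∀ H : Subgroup G, H.index ≠ 2) (hZ : Odd (Nat.card (Subgroup.center G)))
    (m : ℕ) (hm : ∀ K : Subgroup G, K ≠ ⊤ → m ≤ K.index) :
    2 * m * (invs G).card ^ 2 + 2 * m * (invs G).card
      ≤ Fintype.card G * (Fintype.card G + (invs G).card) := by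
  have hpt : ∀ x : G, 2 * m * beta x + (if x ∈ invs G then 4 * m else 0)
      ≤ Fintype.card G + (if x = 1 then 2 * m * (invs G).card else 0)
        + (if x ∈ invs G then Fintype.card G else 0) := by
    intro x
    by_cases hx1 : x = 1
    · subst hx1
      have h1 : (1 : G) ∉ invs G := fun h => invs_ne_one h rfl
      rw [if_neg h1, if_pos rfl, if_neg h1]
      have h2 : 2 * m * beta (1 : G) ≤ 2 * m * (invs G).card :=
        Nat.mul_le_mul_left _ beta_one_le
      omega
    · rw [if_neg hx1]
      by_cases hx2 : x ∈ invs G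
      · rw [if_pos hx2, if_pos hx2]
        have h1 := beta_involution hx2
        have h2 := hm _ (centralizer_ne_top_of_odd_center hZ hx2)
        have h3 := Subgroup.card_mul_index (Subgroup.centralizer ({x} : Set G))
        rw [Nat.card_eq_fintype_card (α := G)] at h3
        have h4 : m * (beta x + 2) ≤ Fintype.card G := by
          calc m * (beta x + 2)
              ≤ (Subgroup.centralizer ({x} : Set G)).index
                  * Nat.card (Subgroup.centralizer ({x} : Set G)) := Nat.mul_le_mul h2 h1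
            _ = Fintype.card G := by rw [mul_comm, h3]
        nlinarith
      · rw [if_neg hx2, if_neg hx2]
        rcases beta_noninvolution hx1 hx2 with h0 | ⟨⟨s₀, hs₀⟩, hxne, hle⟩
        · rw [h0]; omega
        · have hrel := relIndex_extCentralizer hs₀ hxne
          have hcard := card_mul_relIndex (centralizer_le_extCentralizer x)
          rw [hrel] at hcard
          have hne : extCentralizer x ≠ ⊤ := by
            intro htop
            apply hno2 (Subgroup.centralizer ({x} : Set G))
            rw [← Subgroup.relIndex_top_right, ← htop]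
            exact hrel
          have h2 := hm _ hne
          have h3 := Subgroup.card_mul_index (extCentralizer x)
          rw [Nat.card_eq_fintype_card (α := G)] at h3
          have h4 : m * (2 * beta x) ≤ Fintype.card G := by
            calc m * (2 * beta x)
                ≤ (extCentralizer x).index * Nat.card (extCentralizer x) := by
                  refine Nat.mul_le_mul h2 ?_
                  rw [← hcard]; omega
              _ = Fintype.card G := by rw [mul_comm, h3]
          nlinarith
  have hsum := Finset.sum_le_sum (s := Finset.univ) (fun x _ => hpt x)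
  have hL : ∑ x : G, (2 * m * beta x + (if x ∈ invs G then 4 * m else 0))
      = 2 * m * (invs G).card ^ 2 + 4 * m * (invs G).card := by
    rw [Finset.sum_add_distrib, ← Finset.mul_sum, sum_beta, Finset.sum_ite_mem,
      Finset.univ_inter, Finset.sum_const, smul_eq_mul]
    ring
  have hR : ∑ x : G, (Fintype.card G + (if x = 1 then 2 * m * (invs G).card else 0)
        + (if x ∈ invs G then Fintype.card G else 0))
      = Fintype.card G * Fintype.card G + 2 * m * (invs G).card
        + (invs G).card * Fintype.card G := by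
    rw [Finset.sum_add_distrib, Finset.sum_add_distrib, Finset.sum_const, Finset.card_univ,
      smul_eq_mul, Finset.sum_ite_eq', if_pos (Finset.mem_univ _), Finset.sum_ite_mem,
      Finset.univ_inter, Finset.sum_const, smul_eq_mul]
  rw [hL, hR] at hsum
  nlinarith

end count

/-- Let G be a finite group of even order with exactly n involutions whose centre has odd order, and put a = |G|/n. Then G has a proper subgroup H with |G : H| = 2 or |G : H| < a(a+1)/2; over ℕ the latter reads 2·|G:H|·n² < |G|·(|G| + n). -/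
theorem result {G : Type*} [Group G] [Finite G] (heven : Even (Nat.card G)) (hZ : Odd (Nat.card (Subgroup.center G))) : ∃ H : Subgroup G, H ≠ ⊤ ∧ (H.index = 2 ∨ 2 * H.index * (Nat.card {t : G // orderOf t = 2}) ^ 2 < Nat.card G * (Nat.card G + Nat.card {t : G // orderOf t = 2})) := by
  classical
  have : Fintype G := Fintype.ofFinite G
  have : Fact (Nat.Prime 2) := ⟨Nat.prime_two⟩
  by_cases h2 : ∃ H : Subgroup G, H.index = 2
  · obtain ⟨H, hH⟩ := h2
    refine ⟨H, ?_, Or.inl hH⟩
    intro h
    rw [h, Subgroup.index_top] at hH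
    omega
  · rw [not_exists] at h2
    have hG2 : 2 ≤ Nat.card G := by
      obtain ⟨k, hk⟩ := heven
      have := Nat.card_pos (α := G)
      omega
    have hbot : (⊥ : Subgroup G) ≠ ⊤ := by
      intro h
      have h1 : Nat.card (⊥ : Subgroup G) = Nat.card (⊤ : Subgroup G) := by rw [h]
      rw [Subgroup.card_bot, Subgroup.card_top] at h1
      omega
    have hP : ∃ m, ∃ H : Subgroup G, H ≠ ⊤ ∧ H.index = m := ⟨_, ⊥, hbot, rfl⟩
    obtain ⟨H, hHne, hHm⟩ := Nat.find_spec hP
    have hmin : ∀ K : Subgroup G, K ≠ ⊤ → Nat.find hP ≤ K.index :=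
      fun K hK => Nat.find_min' hP ⟨K, hK, rfl⟩
    refine ⟨H, hHne, Or.inr ?_⟩
    have hcore := core h2 hZ (Nat.find hP) hmin
    have hn : 0 < (invs G).card := by
      obtain ⟨t, ht⟩ := exists_prime_orderOf_dvd_card' 2 (even_iff_two_dvd.mp heven)
      exact Finset.card_pos.mpr ⟨t, mem_invs.mpr ht⟩
    have hmpos : 0 < H.index := Nat.pos_of_ne_zero Subgroup.index_ne_zero_of_finite
    have hcardn : Nat.card {t : G // orderOf t = 2} = (invs G).card := by
      rw [Nat.card_eq_fintype_card, Fintype.card_subtype]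
      rfl
    rw [hcardn, Nat.card_eq_fintype_card, hHm]
    rw [← hHm] at hcore ⊢
    nlinarith

end Cfsg.Agent.S0233
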