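import Mathlib
import Cfsg.Statements.S0212
import Cfsg.Agent.Lib.Helper4.Invol
import Cfsg.Agent.Lib.Helper4.Conj
import Cfsg.Agent.S0233

set_option autoImplicit false
open Cfsg

namespace Cfsg.Agent.S0212

open Cfsg.Agent.Lib.Helper4

/-- A simple group embeds in the symmetric group on the cosets of a proper subgroup. -/
theorem card_le_factorial_index {G : Type*} [Group G] [Finite G] [IsSimpleGroup G]
    (H : Subgroup G) (hH : H ≠ ⊤) : Nat.card G ≤ Nat.factorial H.index := by
  classical
  have hker : (MulAction.toPermHom G (G ⧸ H)).ker = ⊥ := by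
    have hn : (MulAction.toPermHom G (G ⧸ H)).ker.Normal := inferInstance
    rcases hn.eq_bot_or_eq_top with h | h
    · exact h
    · exfalso
      apply hH
      rw [← Subgroup.normalCore_eq_ker] at h
      exact top_le_iff.mp (h ▸ Subgroup.normalCore_le H)
  have hinj : Function.Injective (MulAction.toPermHom G (G ⧸ H)) :=
    (MonoidHom.ker_eq_bot_iff _).mp hker
  have h1 := Nat.card_le_card_of_injective _ hinj
  haveI : Fintype (G ⧸ H) := Fintype.ofFinite _
  rw [Nat.card_eq_fintype_card (α := Equiv.Perm (G ⧸ H)), Fintype.card_perm,
    ← Nat.card_eq_fintype_card, ← Subgroup.index_eq_card] at h1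
  exact h1

/-- The Brauer–Fowler bound: if G is a finite simple group and t an involution of G whose centralizer has order n, then |G| ≤ (2n^2)!. -/
theorem result {G : Type*} [Group G] [Finite G] [IsSimpleGroup G] (t : G) (ht : orderOf t = 2) : Nat.card G ≤ Nat.factorial (2 * (Nat.card (Subgroup.centralizer ({t} : Set G))) ^ 2) := by
  classical
  set n := Nat.card (Subgroup.centralizer ({t} : Set G)) with hn
  have hnpos : 0 < n := Nat.card_pos
  -- trivial case: center is everything
  have hcn : (Subgroup.center G).Normal := inferInstance
  rcases hcn.eq_bot_or_eq_top with hbot | htop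
  · -- center trivial
    have hZ : Odd (Nat.card (Subgroup.center G)) := by
      rw [hbot, Subgroup.card_bot]; exact odd_one
    have heven : Even (Nat.card G) := by
      have := orderOf_dvd_natCard t
      rw [ht] at this
      exact even_iff_two_dvd.mpr this
    obtain ⟨H, hH, hidx⟩ := Cfsg.Agent.S0233.result heven hZ
    have hle := card_le_factorial_index H hH
    refine hle.trans (Nat.factorial_le ?_)
    rcases hidx with h2 | hlt
    · rw [h2]
      have : 1 ≤ n ^ 2 := Nat.one_le_pow _ _ hnpos
      omega
    · set tc := Nat.card {u : G // orderOf u = 2} with htc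
      -- class of t consists of involutions
      have hclass : Nat.card {v : G // IsConj t v} ≤ tc := by
        apply Nat.card_le_card_of_injective
          (fun v : {v : G // IsConj t v} => (⟨v.1, by
            obtain ⟨c, hc⟩ := isConj_iff.mp v.2
            rw [← hc]; exact orderOf_conj_two c ht⟩ : {u : G // orderOf u = 2}))
        intro a b hab
        apply Subtype.ext
        have := congrArg (fun w : {u : G // orderOf u = 2} => w.1) hab
        exact this
      have hG : Nat.card G ≤ tc * n := by
        rw [← card_isConj_mul_card_centralizer t]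
        exact Nat.mul_le_mul_right _ hclass
      have htcpos : 0 < tc := by
        have : 0 < Nat.card {v : G // IsConj t v} := by
          haveI : Nonempty {v : G // IsConj t v} := ⟨⟨t, IsConj.refl t⟩⟩
          exact Nat.card_pos
        omega
      -- 2 idx tc^2 < n(n+1) tc^2
      have h3 : Nat.card G * (Nat.card G + tc) ≤ (tc * n) * (tc * n + tc) :=
        Nat.mul_le_mul hG (Nat.add_le_add_right hG tc)
      have h4 : 2 * H.index * tc ^ 2 < (n * (n + 1)) * tc ^ 2 := by
        calc 2 * H.index * tc ^ 2 < Nat.card G * (Nat.card G + tc) := hlt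
          _ ≤ (tc * n) * (tc * n + tc) := h3
          _ = (n * (n + 1)) * tc ^ 2 := by ring
      have h5 : 2 * H.index < n * (n + 1) := by
        exact Nat.lt_of_mul_lt_mul_right h4
      have h6 : n * (n + 1) ≤ 2 * n ^ 2 := by nlinarith
      nlinarith
  · -- G abelian: the centralizer is everything
    have hC : Subgroup.centralizer ({t} : Set G) = ⊤ := by
      rw [eq_top_iff, ← htop]
      exact Subgroup.center_le_centralizer _
    have hnG : n = Nat.card G := by
      rw [hn, hC, Subgroup.card_top]
    rw [← hnG]
    have h1 : n ≤ 2 * n ^ 2 := by nlinarith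
    exact h1.trans (Nat.self_le_factorial _)

end Cfsg.Agent.S0212
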