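import Cfsg.Statements.S3430
import Cfsg.Agent.Lib.Helper99.HeringGeneral

set_option autoImplicit false
open Cfsg

namespace Cfsg.Agent.S3430

open Cfsg.Agent.Lib.Helper99

/-- the case `n = 2` -/
lemma case_two (q : ℕ) (hq : 2 ≤ q)
    (h1 : ¬ ∃ s t : ℕ, t ≤ 1 ∧ q + 1 = 2 ^ s * 3 ^ t) :
    ∃ p : ℕ, p.Prime ∧ p ∣ q ^ 2 - 1 ∧ ¬ p ∣ q - 1 ∧ (3 < p ∨ p ^ 2 ∣ q ^ 2 - 1) := by
  have hfac : q ^ 2 - 1 = (q + 1) * (q - 1) := by
    obtain ⟨r, rfl⟩ : ∃ r, q = r + 1 := ⟨q - 1, by omega⟩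
    have : (r + 1) ^ 2 = (r + 1 + 1) * r + 1 := by ring
    rw [this]
    simp
  have hdvd : q + 1 ∣ q ^ 2 - 1 := Dvd.intro _ hfac.symm
  -- a prime dividing q+1 and q-1 is 2
  have hcommon : ∀ p : ℕ, p ∣ q + 1 → p ∣ q - 1 → p ∣ 2 := by
    intro p h1 h2
    have : q + 1 = (q - 1) + 2 := by omega
    rw [this] at h1
    exact (Nat.dvd_add_right h2).mp h1
  obtain ⟨s, M1, hM1, hq1⟩ := Nat.exists_eq_pow_mul_and_not_dvd (by omega : q + 1 ≠ 0) 2 (by norm_num)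
  have hM10 : M1 ≠ 0 := by
    rintro rfl
    simp at hq1
  obtain ⟨t, M2, hM2, hq2⟩ := Nat.exists_eq_pow_mul_and_not_dvd hM10 3 (by norm_num)
  have hM2two : ¬ 2 ∣ M2 := fun h => hM1 (hq2 ▸ Dvd.dvd.mul_left h _)
  by_cases hM21 : M2 = 1
  · -- q + 1 = 2^s * 3^t
    rw [hM21, mul_one] at hq2
    rw [hq2] at hq1
    have ht : 2 ≤ t := by
      by_contra hlt
      exact h1 ⟨s, t, by omega, hq1⟩
    have h9 : 3 ^ 2 ∣ q + 1 := by
      rw [hq1]
      exact Dvd.dvd.mul_left (pow_dvd_pow 3 ht) _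
    refine ⟨3, Nat.prime_three, ?_, ?_, Or.inr (h9.trans hdvd)⟩
    · exact ((dvd_pow_self 3 (by norm_num)).trans h9).trans hdvd
    · intro h
      have := hcommon 3 ((dvd_pow_self 3 (by norm_num)).trans h9) h
      omega
  · obtain ⟨p, hp, hpM⟩ := Nat.exists_prime_and_dvd hM21
    have hp2 : p ≠ 2 := by rintro rfl; exact hM2two hpM
    have hp3 : p ≠ 3 := by rintro rfl; exact hM2 hpM
    have hpq : p ∣ q + 1 := by
      rw [hq1, hq2]
      exact Dvd.dvd.mul_left (Dvd.dvd.mul_left hpM _) _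
    refine ⟨p, hp, hpq.trans hdvd, ?_, Or.inl ?_⟩
    · intro h
      have := hcommon p hpq h
      exact hp2 ((Nat.prime_dvd_prime_iff_eq hp Nat.prime_two).mp this)
    · have h2 := hp.two_le
      by_contra hle
      have : p = 2 ∨ p = 3 := by omega
      rcases this with h | h
      · exact hp2 h
      · exact hp3 h

/-- from a large primitive divisor to a large Zsigmondy prime -/
lemma of_large (q n m : ℕ) (hq : 2 ≤ q) (hn : 3 ≤ n) (hm : m ∣ q ^ n - 1)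
    (hcop : ∀ i, 1 ≤ i → i < n → Nat.Coprime m (q ^ i - 1)) (hlarge : 3 * n + 1 ≤ m) :
    ∃ p : ℕ, p.Prime ∧ p ∣ q ^ n - 1 ∧ (∀ i : ℕ, 1 ≤ i → i < n → ¬ p ∣ q ^ i - 1) ∧
      (n + 1 < p ∨ p ^ 2 ∣ q ^ n - 1) := by
  have hprim : ∀ p : ℕ, p.Prime → p ∣ m → ∀ i : ℕ, 1 ≤ i → i < n → ¬ p ∣ q ^ i - 1 := by
    intro p hp hpm i hi hin hd
    have := Nat.Coprime.eq_one_of_dvd ((hcop i hi hin).coprime_dvd_left hpm) hd
    exact hp.ne_one this
  by_cases hex : ∃ p : ℕ, p.Prime ∧ p ∣ m ∧ n + 1 < p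
  · obtain ⟨p, hp, hpm, hlt⟩ := hex
    exact ⟨p, hp, hpm.trans hm, hprim p hp hpm, Or.inl hlt⟩
  · push Not at hex
    have hall : ∀ {d : ℕ}, d.Prime → d ∣ m → d = n + 1 := by
      intro d hd hdm
      have hle := hex d hd hdm
      have hmod : d % n = 1 % n := Cfsg.Agent.S4422.result q n d hq (by omega) (hdm.trans hm)
        (fun i hi hin => (hcop i hi hin).coprime_dvd_left hdm)
      rw [Nat.mod_eq_of_lt (by omega : 1 < n)] at hmod
      have hdiv := Nat.div_add_mod d n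
      rw [hmod] at hdiv
      have h2 := hd.two_le
      have hj : 1 ≤ d / n := by
        by_contra hlt
        have : d / n = 0 := Nat.lt_one_iff.mp (Nat.not_le.mp hlt)
        rw [this, mul_zero] at hdiv
        omega
      have : n * 1 ≤ n * (d / n) := Nat.mul_le_mul_left _ hj
      omega
    have hm0 : m ≠ 0 := by omega
    have hpow := Nat.eq_prime_pow_of_unique_prime_dvd hm0 hall
    set j := m.primeFactorsList.length with hj
    have hj2 : 2 ≤ j := by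
      by_contra hlt
      have : j = 0 ∨ j = 1 := by omega
      rcases this with h0 | h1
      · rw [h0, pow_zero] at hpow; omega
      · rw [h1, pow_one] at hpow; omega
    have hp0 : (n + 1).Prime := by
      obtain ⟨d, hd, hdm⟩ := Nat.exists_prime_and_dvd (by omega : m ≠ 1)
      have := hall hd hdm
      rwa [this] at hd
    have hsq : (n + 1) ^ 2 ∣ m := by
      rw [hpow]
      exact pow_dvd_pow _ hj2
    have hdm : (n + 1) ∣ m := (dvd_pow_self _ (by norm_num)).trans hsq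
    exact ⟨n + 1, hp0, hdm.trans hm, hprim _ hp0 hdm, Or.inr (hsq.trans hm)⟩

/-- Let q, n ≥ 2 be integers. Unless (n = 2 and q + 1 = 2^s·3^t for some s ≥ 0 and t ≤ 1), or (q = 2 and n ∈ {4, 6, 10, 12, 18}), or (q = 3 and n ∈ {4, 6}), or (q, n) = (5, 6), there is a prime p dividing q^n − 1 but no q^i − 1 with 1 ≤ i < n (a primitive prime divisor), such that p > n + 1 or p² divides q^n − 1. -/
theorem result (q n : ℕ) (hq : 2 ≤ q) (hn : 2 ≤ n)
    (h1 : ¬ (n = 2 ∧ ∃ s t : ℕ, t ≤ 1 ∧ q + 1 = 2 ^ s * 3 ^ t))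
    (h2 : ¬ (q = 2 ∧ (n = 4 ∨ n = 6 ∨ n = 10 ∨ n = 12 ∨ n = 18)))
    (h3 : ¬ (q = 3 ∧ (n = 4 ∨ n = 6))) (h4 : ¬ (q = 5 ∧ n = 6)) :
    ∃ p : ℕ, p.Prime ∧ p ∣ q ^ n - 1 ∧ (∀ i : ℕ, 1 ≤ i → i < n → ¬ p ∣ q ^ i - 1) ∧ (n + 1 < p ∨ p ^ 2 ∣ q ^ n - 1) := by
  rcases Nat.lt_or_ge n 3 with hn3 | hn3
  · have hn2 : n = 2 := by omega
    subst hn2
    obtain ⟨p, hp, hd, hnd, hbig⟩ := case_two q hq (fun h => h1 ⟨rfl, h⟩)
    refine ⟨p, hp, hd, ?_, hbig⟩
    intro i hi hi2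
    have : i = 1 := by omega
    subst this
    simpa using hnd
  · by_cases hE : (q, n) ∈ heringExc
    · simp only [heringExc, List.mem_cons, Prod.mk.injEq, List.not_mem_nil, or_false] at hE
      rcases hE with ⟨rfl, rfl⟩ | ⟨rfl, rfl⟩ | ⟨rfl, rfl⟩ | ⟨rfl, rfl⟩ | ⟨rfl, rfl⟩ | ⟨rfl, rfl⟩ |
        ⟨rfl, rfl⟩ | ⟨rfl, rfl⟩ | ⟨rfl, rfl⟩ | ⟨rfl, rfl⟩ | ⟨rfl, rfl⟩ | ⟨rfl, rfl⟩ | ⟨rfl, rfl⟩
      · exact absurd ⟨rfl, by norm_num⟩ h2
      · exact absurd ⟨rfl, by norm_num⟩ h2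
      · exact absurd ⟨rfl, by norm_num⟩ h2
      · exact absurd ⟨rfl, by norm_num⟩ h2
      · exact absurd ⟨rfl, by norm_num⟩ h2
      · exact absurd ⟨rfl, by norm_num⟩ h3
      · exact absurd ⟨rfl, by norm_num⟩ h3
      · exact absurd ⟨rfl, rfl⟩ h4
      · exact ⟨7, by norm_num, by decide +kernel, by decide +kernel, Or.inl (by norm_num)⟩
      · exact ⟨17, by norm_num, by decide +kernel, by decide +kernel, Or.inl (by norm_num)⟩
      · exact ⟨41, by norm_num, by decide +kernel, by decide +kernel, Or.inl (by norm_num)⟩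
      · exact ⟨7, by norm_num, by decide +kernel, by decide +kernel, Or.inl (by norm_num)⟩
      · exact ⟨13, by norm_num, by decide +kernel, by decide +kernel, Or.inl (by norm_num)⟩
    · obtain ⟨m, hm, hcop, hlarge⟩ := primitive_part_ge q n hq hn3 hE
      exact of_large q n m hq hn3 hm hcop hlarge

end Cfsg.Agent.S3430
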