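import Cfsg.Statements.S3360
import Mathlib
import Cfsg.Agent.Lib.Helper12.SemilinField
import Cfsg.Agent.Lib.Helper2.HuppertDefs
import Cfsg.Agent.Lib.Helper2.HuppertMain
import Cfsg.Agent.Lib.Helper66.HupGeneral
import Cfsg.Agent.Lib.Helper76.HuppertZS
import Cfsg.Agent.Lib.Helper12.HuppertD2b
import Cfsg.Agent.Lib.Helper12.Huppert26A
import Cfsg.Agent.Lib.Helper12.Huppert26B
import Cfsg.Agent.Lib.Helper76.HuppertM26S3
import Cfsg.Agent.Lib.Helper77.HuppertD2c

set_option autoImplicit false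
open Cfsg

namespace Cfsg.Agent.S3360

open Module Cfsg.Agent.Lib.Helper2.Huppert
open Cfsg.Agent.Lib.Helper77.HuppertD2c (card_dvd_of_class_two)
open Cfsg.Agent.Lib.Helper12.Huppert (pCore_seven_ne_bot pCore_three_ne_bot good_26)
open Cfsg.Agent.Lib.Helper76.HuppertM26 (card_pCore_seven)
open Cfsg.Agent.Lib.Helper66.HupGeneral (card_sub_one_dvd)
open Cfsg.Agent.Lib.Helper76.HuppertZS (exists_good_prime)
open Cfsg.Agent.Lib.Helper12.Huppert (exists_class_two)


/-- The arithmetic of the two-dimensional case. -/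
theorem sq_mem_of_dvd {q : ℕ} [Fact q.Prime] (hq2 : q ≠ 2) (N m : ℕ)
    (hm : m = 4 ∨ m = 8 ∨ m = 12 ∨ m = 16 ∨ m = 24)
    (h1 : q ^ 2 - 1 ∣ N) (h2 : N ∣ m * (q - 1)) :
    q ^ 2 ∈ ({9, 25, 49, 121, 529, 81} : Set ℕ) := by
  have hq : q.Prime := Fact.out
  have hq3 : 3 ≤ q := by
    have := hq.two_le
    omega
  have h3 : q ^ 2 - 1 = (q + 1) * (q - 1) := by
    obtain ⟨k, rfl⟩ : ∃ k, q = k + 1 := ⟨q - 1, by omega⟩
    simp only [Nat.add_sub_cancel]
    have : (k + 1) ^ 2 = (k + 1 + 1) * k + 1 := by ring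
    rw [this, Nat.add_sub_cancel]
  have h4 : (q + 1) * (q - 1) ∣ m * (q - 1) := h3 ▸ h1.trans h2
  have h5 : q + 1 ∣ m := Nat.dvd_of_mul_dvd_mul_right (by omega) h4
  have hmpos : 0 < m := by rcases hm with rfl | rfl | rfl | rfl | rfl <;> norm_num
  have h6 : q + 1 ≤ m := Nat.le_of_dvd hmpos h5
  have hq24 : q ≤ 23 := by rcases hm with rfl | rfl | rfl | rfl | rfl <;> omega
  simp only [Set.mem_insert_iff, Set.mem_singleton_iff]
  interval_cases q <;> first | omega | (exfalso; revert hq; decide)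

section Aux

variable {q : ℕ} [Fact q.Prime] {V : Type*} [AddCommGroup V] [Module (ZMod q) V] [Finite V]
  [Nontrivial V] {G : Type*} [Group G] [Finite G]

/-- An irreducible abelian normal subgroup gives the semilinear structure. -/
theorem semilinear_of_good (ρ : G →* (V ≃ₗ[ZMod q] V)) (hρ : Function.Injective ρ)
    (hgood : Good ρ) :
    ∃ (F : Type) (_ : Field F) (_ : Fintype F) (e : V ≃+ F),
        ∀ g : G, ∃ (a : F) (σ : F ≃+* F), ∀ v : V, e (ρ g v) = a * σ (e v) := by
  classical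
  obtain ⟨A, hAn, hAc, hAirr⟩ := hgood
  set H : Subgroup (V ≃ₗ[ZMod q] V) := ρ.range with hH
  let ε : G ≃* H := MonoidHom.ofInjective hρ
  have hε : ∀ g : G, ((ε g : H) : V ≃ₗ[ZMod q] V) = ρ g := fun g => rfl
  let A' : Subgroup H := A.map ε.toMonoidHom
  have hA'n : A'.Normal := hAn.map ε.toMonoidHom ε.surjective
  have hA'c : IsMulCommutative A' := by
    refine ⟨⟨?_⟩⟩
    rintro ⟨_, a, ha, rfl⟩ ⟨_, b, hb, rfl⟩
    apply Subtype.ext
    show ε.toMonoidHom a * ε.toMonoidHom b = ε.toMonoidHom b * ε.toMonoidHom a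
    rw [← map_mul, ← map_mul, hAc a ha b hb]
  have hA'irr : ∀ W : Submodule (ZMod q) V,
      (∀ a ∈ A', ∀ v ∈ W, ((a : H) : V ≃ₗ[ZMod q] V) v ∈ W) → W = ⊥ ∨ W = ⊤ := by
    intro W hW
    apply hAirr W
    intro a ha v hv
    have := hW (ε a) ⟨a, ha, rfl⟩ v hv
    rwa [hε] at this
  obtain ⟨F, instF, instFT, e, he⟩ :=
    Cfsg.Agent.Lib.Helper12.SemilinField.exists_semilinear H A' hA'n hA'c hA'irr
  refine ⟨F, instF, instFT, e, ?_⟩
  intro g
  obtain ⟨a, σ, hσ⟩ := he (ε g)
  exact ⟨a, σ, fun v => hσ v⟩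

omit [Finite G] [Nontrivial V] in
/-- Dimension one. -/
theorem good_of_finrank_one (ρ : G →* (V ≃ₗ[ZMod q] V)) (hdim : finrank (ZMod q) V = 1) :
    Good ρ := by
  have hfd : FiniteDimensional (ZMod q) V := Module.Finite.of_finite
  refine ⟨⊥, inferInstance, ?_, ?_⟩
  · intro a ha b hb
    rw [Subgroup.mem_bot] at ha hb
    rw [ha, hb]
  · intro W _
    have hle : finrank (ZMod q) ↥W ≤ 1 := hdim ▸ Submodule.finrank_le W
    rcases Nat.le_one_iff_eq_zero_or_eq_one.mp hle with h | h
    · left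
      exact Submodule.finrank_eq_zero.mp h
    · right
      apply Submodule.eq_top_of_finrank_eq
      rw [h, hdim]

end Aux

/-- **Huppert's theorem**, in the form: an irreducible abelian normal subgroup exists, unless
`|V|` is exceptional. -/
theorem good_or_card
    (q : ℕ) [Fact q.Prime] {V : Type*} [AddCommGroup V] [Module (ZMod q) V] [Finite V] [Nontrivial V]
    {G : Type*} [Group G] [Finite G] (hsol : Group.IsSolvable G)
    (ρ : G →* (V ≃ₗ[ZMod q] V)) (hρ : Function.Injective ρ)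
    (htrans : ∀ v w : V, v ≠ 0 → w ≠ 0 → ∃ g : G, ρ g v = w) :
    Good ρ ∨ Nat.card V ∈ ({9, 25, 49, 121, 529, 81} : Set ℕ) := by
  classical
  have hq : q.Prime := Fact.out
  have hfd : FiniteDimensional (ZMod q) V := Module.Finite.of_finite
  have htr : Trans ρ := htrans
  have hcardV : Nat.card V = q ^ finrank (ZMod q) V := card_eq_pow
  have hn1 : 1 ≤ finrank (ZMod q) V := finrank_pos' (q := q) (V := V)
  rcases Nat.lt_or_ge (finrank (ZMod q) V) 3 with hlt | hge
  · have h12 : finrank (ZMod q) V = 1 ∨ finrank (ZMod q) V = 2 := by omega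
    rcases h12 with h1 | h2
    · exact Or.inl (good_of_finrank_one ρ h1)
    · by_cases hg : Good ρ
      · exact Or.inl hg
      · right
        obtain ⟨B, hBn, hB, x, hx, y, hy, hxy⟩ := exists_class_two ρ h2 htr hsol hg
        obtain ⟨hq2, m, hm, hdvd⟩ := card_dvd_of_class_two ρ hρ h2 B hB x y hx hy hxy
        have horb := card_sub_one_dvd ρ htr
        rw [hcardV, h2] at horb
        rw [hcardV, h2]
        exact sq_mem_of_dvd hq2 (Nat.card G) m hm horb hdvd
  · by_cases h34 : q = 3 ∧ finrank (ZMod q) V = 4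
    · right
      have h81 : Nat.card V = 81 := by
        rw [hcardV, h34.2]
        have h3 := h34.1
        calc q ^ 4 = 3 ^ 4 := congrArg (· ^ 4) h3
          _ = 81 := by norm_num
      rw [h81]
      simp
    by_cases h26 : q = 2 ∧ finrank (ZMod q) V = 6
    · left
      have hL := pCore_seven_ne_bot ρ hρ htr hsol h26.1 h26.2
      have hL7 := card_pCore_seven ρ hρ htr h26.1 h26.2 hL
      have hT := pCore_three_ne_bot ρ hρ htr hsol h26.1 h26.2 hL7
      exact good_26 ρ hρ htr h26.1 h26.2 hL7 hT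
    · left
      obtain ⟨r, hr, hdvd, hprim, hcond⟩ :=
        exists_good_prime q (finrank (ZMod q) V) hq hge h34 h26
      exact good_of_prime ρ hρ htr hsol r hr hdvd hprim hcond

/-- Let q be a prime and V a non-trivial finite vector space over the field with q elements, and let G be a finite solvable group acting faithfully and linearly on V and transitively on the non-zero vectors. Then either V can be identified with the additive group of a finite field F in such a way that every element of G acts as x ↦ a·σ(x) for some a ∈ F and some field automorphism σ, or the number of elements of V is one of 3^2, 5^2, 7^2, 11^2, 23^2, 3^4. -/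
theorem result
    (q : ℕ) [Fact q.Prime] {V : Type*} [AddCommGroup V] [Module (ZMod q) V] [Finite V] [Nontrivial V]
    {G : Type*} [Group G] [Finite G] (hsol : Group.IsSolvable G)
    (ρ : G →* (V ≃ₗ[ZMod q] V)) (hρ : Function.Injective ρ)
    (htrans : ∀ v w : V, v ≠ 0 → w ≠ 0 → ∃ g : G, ρ g v = w) :
    (∃ (F : Type) (_ : Field F) (_ : Fintype F) (e : V ≃+ F),
        ∀ g : G, ∃ (a : F) (σ : F ≃+* F), ∀ v : V, e (ρ g v) = a * σ (e v)) ∨
    Nat.card V ∈ ({9, 25, 49, 121, 529, 81} : Set ℕ) := by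
  rcases good_or_card q hsol ρ hρ htrans with h | h
  · exact Or.inl (semilinear_of_good ρ hρ h)
  · exact Or.inr h

end Cfsg.Agent.S3360
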