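import Cfsg.Statements.S1205
import Cfsg.Agent.Lib.Helper20.QDFusion5

set_option autoImplicit false
open Cfsg

namespace Cfsg.Agent.S1205

open Cfsg.Agent.Lib.Helper20 Cfsg.Agent.Lib.Helper20.QD Cfsg.Agent.Lib.Helper20.QDF

section

variable {G : Type*} [Group G] [Finite G] (S : Sylow 2 G) {n : ℕ} {x y : (S : Subgroup G)}

/-- Identification of `S ∩ K`. -/
theorem K1_inter (d : Data (S : Subgroup G) n x y) (K : Subgroup G) [K.Normal] (hK : K.index = 2)
    (hY : (y : G) ∉ K) (hVW : IsConj ((f x n (qt n) : (S : Subgroup G)) : G) ((f x n 1 * y : (S : Subgroup G)) : G)) :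
    K.subgroupOf (S : Subgroup G) = M2 d := by
  have hidx := index_subgroupOf_of_index_two (S : Subgroup G) K hK (fun h => hY (h y.2))
  have hW : ((f x n 1 * y : (S : Subgroup G)) : G) ∈ K := (mem_iff_of_isConj hK hVW).mp (V_mem_of_index_two S d K hK)
  rcases index_two_cases d _ hidx with h | h | h
  · exfalso
    have : f x n 1 * y ∈ K.subgroupOf (S : Subgroup G) := Subgroup.mem_subgroupOf.mpr hW
    rw [h] at this
    exact xy_not_mem_M1 d this
  · exact h
  · exfalso
    have : y ∈ M3 d := y_mem_M3 d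
    rw [← h] at this
    exact hY (Subgroup.mem_subgroupOf.mp this)

theorem no_index_two_K (d : Data (S : Subgroup G) n x y) (K : Subgroup G) [K.Normal]
    (hK : K.index = 2) (hKS : K.subgroupOf (S : Subgroup G) = M2 d)
    (hVW : IsConj ((f x n (qt n) : (S : Subgroup G)) : G) ((f x n 1 * y : (S : Subgroup G)) : G)) (H : Subgroup K) : H.index ≠ 2 := by
  intro hH
  have hn := d.hn
  obtain ⟨e3, he3⟩ := qt_even (n := n) hn
  have hmem : ∀ s : (S : Subgroup G), (s : G) ∈ K ↔ s ∈ M2 d := by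
    intro s; rw [← hKS]; exact Subgroup.mem_subgroupOf.symm
  have hVK : ((f x n (qt n) : (S : Subgroup G)) : G) ∈ K :=
    (hmem _).mpr ((mem_M2 d _).mpr (Or.inl ⟨e3, by rw [he3]⟩))
  have hxK : (x : G) ∉ K := fun h => x_not_mem_M2 d ((hmem x).mp h)
  have htK : ∀ j, ((f x n (2 * j + 1) * y : (S : Subgroup G)) : G) ∈ K :=
    fun j => (hmem _).mpr ((mem_M2 d _).mpr (Or.inr ⟨j, rfl⟩))
  have hA : ∀ j, IsConj (⟨_, hVK⟩ : K) ⟨_, htK j⟩ := by
    intro j
    have h1 : IsConj ((f x n (qt n) : (S : Subgroup G)) : G) ((f x n (2 * j + 1) * y : (S : Subgroup G)) : G) := hVW.trans (isConj_coe (conjP_odd d j))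
    obtain ⟨g, hg⟩ := isConj_iff.mp h1
    have hxV : (x : G) * ((f x n (qt n) : (S : Subgroup G)) : G) * (x : G)⁻¹ = ((f x n (qt n) : (S : Subgroup G)) : G) := by
      have := congrArg Subtype.val (conj_f_f d (qt n) 1)
      rw [f_one d] at this
      simpa using this
    exact isConj_in_K hK hVK (htK j) hxK hxV hg
  by_cases hv : (⟨_, hVK⟩ : K) ∈ H
  · apply false_of_sylow_le S K H hH
    apply subgroupOf_le_of_forall
    intro s hs
    have hsM := (hmem s).mp hs
    have hodd : ∀ j, (⟨_, htK j⟩ : K) ∈ H := fun j => (mem_iff_of_isConj hH (hA j)).mp hv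
    rcases (mem_M2 d s).mp hsM with ⟨j, hj⟩ | ⟨j, hj⟩
    · have e : (⟨(s : G), hs⟩ : K) = ⟨_, htK j⟩ * (⟨_, htK 0⟩ : K)⁻¹ := by
        apply Subtype.ext
        show (s : G) = ((f x n (2 * j + 1) * y : (S : Subgroup G)) : G) * (((f x n (2 * 0 + 1) * y : (S : Subgroup G)) : G))⁻¹
        rw [hj, feven_eq_mul d j]
        simp
      rw [e]; exact mul_mem (hodd j) (inv_mem (hodd 0))
    · have e0 : (s : G) = ((f x n (2 * j + 1) * y : (S : Subgroup G)) : G) := by rw [hj]
      have e : (⟨(s : G), hs⟩ : K) = ⟨_, htK j⟩ := Subtype.ext e0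
      rw [e]; exact hodd j
  · have h0 : (⟨_, htK 0⟩ : K) ∉ H := fun h => hv ((mem_iff_of_isConj hH (hA 0)).mpr h)
    have hprod : (⟨_, hVK⟩ : K) * ⟨_, htK 0⟩ ∈ H := by
      rw [Subgroup.mul_mem_iff_of_index_two hH]
      exact ⟨fun h => absurd h hv, fun h => absurd h h0⟩
    have e : (⟨_, hVK⟩ : K) * ⟨_, htK 0⟩ = ⟨_, htK e3⟩ := by
      apply Subtype.ext
      show ((f x n (qt n) : (S : Subgroup G)) : G) * ((f x n (2 * 0 + 1) * y : (S : Subgroup G)) : G) = ((f x n (2 * e3 + 1) * y : (S : Subgroup G)) : G)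
      rw [← Subgroup.coe_mul, f_mul_fy d]
      congr 3
      rw [he3]; ring
    rw [e] at hprod
    exact hv ((mem_iff_of_isConj hH (hA e3)).mpr hprod)

theorem mem_W0 (d : Data (S : Subgroup G) n x y) (a : G) :
    a ∈ (Subgroup.center (S : Subgroup G)).map (S : Subgroup G).subtype ↔
      a = 1 ∨ a = ((f x n (hf n) : (S : Subgroup G)) : G) := by
  constructor
  · rintro ⟨s, hs, rfl⟩
    rcases Cfsg.Agent.S1193.center_cases d s hs with h | h
    · left; rw [h]; rfl
    · right; rw [h]; rfl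
  · rintro (rfl | rfl)
    · exact one_mem _
    · exact ⟨f x n (hf n), Cfsg.Agent.S1193.z_mem_center d, rfl⟩

theorem weakly_closed (d : Data (S : Subgroup G) n x y)
    (hZY : ¬ IsConj ((f x n (hf n) : (S : Subgroup G)) : G) (y : G)) :
    Cfsg.IsWeaklyClosed ((Subgroup.center (S : Subgroup G)).map (S : Subgroup G).subtype)
      (S : Subgroup G) := by
  refine ⟨Subgroup.map_subtype_le _, fun g hg => ?_⟩
  have hZW : ((f x n (hf n) : (S : Subgroup G)) : G) ∈
      (Subgroup.center (S : Subgroup G)).map (S : Subgroup G).subtype :=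
    (mem_W0 S d _).mpr (Or.inr rfl)
  have h1 : g * ((f x n (hf n) : (S : Subgroup G)) : G) * g⁻¹ ∈ (S : Subgroup G) :=
    hg (conj_mem_map_conj hZW)
  have h2 : g * ((f x n (hf n) : (S : Subgroup G)) : G) * g⁻¹ = ((f x n (hf n) : (S : Subgroup G)) : G) := by
    have ho : orderOf (⟨_, h1⟩ : (S : Subgroup G)) = 2 := by
      rw [Subgroup.orderOf_mk, orderOf_conj', orderOf_Z S d]
    rcases involP d _ ho with h | h
    · exact congrArg Subtype.val h
    · exfalso; apply hZY
      have h3 := isConj_coe h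
      exact (isConj_of_conj_eq (g := g) rfl).trans h3.symm
  ext a
  rw [mem_map_conj, mem_W0 S d, mem_W0 S d]
  constructor
  · rintro (h | h)
    · left
      have : a = g * (g⁻¹ * a * g) * g⁻¹ := by group
      rw [this, h]; group
    · right
      have : a = g * (g⁻¹ * a * g) * g⁻¹ := by group
      rw [this, h, h2]
  · rintro (rfl | rfl)
    · left; group
    · right
      calc g⁻¹ * ((f x n (hf n) : (S : Subgroup G)) : G) * g
          = g⁻¹ * (g * ((f x n (hf n) : (S : Subgroup G)) : G) * g⁻¹) * g := by rw [h2]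
        _ = ((f x n (hf n) : (S : Subgroup G)) : G) := by group

end


/-- Let G be a finite group with quasi-dihedral Sylow 2-subgroup S, T a Klein four-subgroup and Q a quaternion subgroup of order 8 of S, with |N_G(T) : C_G(T)| = 2 and |N_G(Q) : Q C_G(Q)| = 6. Then G has a normal subgroup K of index 2 whose Sylow 2-subgroups are generalized quaternion and which has no subgroup of index 2; the centre of S is weakly closed in S; and G has exactly two classes of involutions and one class of elements of order 4. -/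
theorem result {G : Type*} [Group G] [Finite G] (S : Sylow 2 G) (hS : Cfsg.IsQuasiDihedral (S : Subgroup G)) (T : Subgroup G) (hT : IsKleinFour T) (hTS : T ≤ S) (Q : Subgroup G) (hQS : Q ≤ S) (eQ : Q ≃* QuaternionGroup 2) (h₁ : (Subgroup.centralizer (T : Set G)).relIndex (Subgroup.normalizer (T : Set G)) = 2) (h₂ : (Q ⊔ Subgroup.centralizer (Q : Set G)).relIndex (Subgroup.normalizer (Q : Set G)) = 6) : (∃ K : Subgroup G, K.Normal ∧ K.index = 2 ∧ (∀ P : Sylow 2 ↥K, ∃ m : ℕ, 1 ≤ m ∧ Nonempty ((P : Subgroup ↥K) ≃* QuaternionGroup (2 ^ m))) ∧ (∀ H : Subgroup ↥K, H.index ≠ 2)) ∧ Cfsg.IsWeaklyClosed ((Subgroup.center (S : Subgroup G)).map (S : Subgroup G).subtype) (S : Subgroup G) ∧ Nat.card {C : ConjClasses G // ∃ t : G, orderOf t = 2 ∧ ConjClasses.mk t = C} = 2 ∧ Nat.card {C : ConjClasses G // ∃ t : G, orderOf t = 4 ∧ ConjClasses.mk t = C} = 1 := by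
  obtain ⟨n, x, y, d⟩ := exists_data hS
  have hZY : ¬ IsConj ((f x n (hf n) : (S : Subgroup G)) : G) (y : G) :=
    fun h => rT_ne_two_of_conj S d T hT hTS h h₁
  have hVW := conj_V_W_of_six S d Q hQS eQ h₂
  obtain ⟨K, hKn, hKi, hYK⟩ := exists_K1 S d hZY
  have hKS := K1_inter S d K hKi hYK hVW
  refine ⟨⟨K, hKn, hKi, ?_, no_index_two_K S d K hKi hKS hVW⟩, weakly_closed S d hZY,
    card_invol_two S d hZY, card_order4_one S d hVW⟩
  intro P
  refine ⟨n - 2, by have := d.hn; omega, ?_⟩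
  obtain ⟨e1⟩ := sylow_iso_of_normal S K P
  obtain ⟨e2⟩ := M2_iso d
  exact ⟨(e1.trans (MulEquiv.subgroupCongr hKS)).trans e2⟩

end Cfsg.Agent.S1205
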