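import Cfsg.Statements.S1196
import Cfsg.Agent.Lib.Helper38.WreathedMore
-- import your own Cfsg.Agent.* helpers here

set_option autoImplicit false
open Cfsg
open Cfsg.Agent.Lib.Helper38

namespace Cfsg.Agent.S1196


variable {S : Type*} [Group S] {x y z : S} {n : ℕ}

/-- coordinates on `A` -/
noncomputable def coordHom (h : IsWr x y z n) :
    h.A →* Multiplicative (ZMod (2 ^ n) × ZMod (2 ^ n)) :=
  MonoidHom.mk' (fun s => Multiplicative.ofAdd ((h.nf s.1).1, (h.nf s.1).2.1)) (by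
    rintro ⟨_, i, j, rfl⟩ ⟨_, k, l, rfl⟩
    simp only [Subgroup.coe_mul]
    rw [h.al_mul_al, h.nf_al, h.nf_al, h.nf_al, ← ofAdd_add]
    simp only [Prod.mk_add_mk]
    push_cast
    rfl)

theorem coordHom_al (h : IsWr x y z n) (i j : ℤ) :
    coordHom h ⟨al x y i j, h.al_mem_A i j⟩ =
      Multiplicative.ofAdd ((i : ZMod (2 ^ n)), (j : ZMod (2 ^ n))) := by
  show Multiplicative.ofAdd ((h.nf (al x y i j)).1, (h.nf (al x y i j)).2.1) = _
  rw [h.nf_al]

theorem coordHom_bijective (h : IsWr x y z n) : Function.Bijective (coordHom h) := by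
  constructor
  · rintro ⟨_, i, j, rfl⟩ ⟨_, k, l, rfl⟩ he
    rw [coordHom_al, coordHom_al] at he
    have he' := Multiplicative.ofAdd.injective he
    rw [Prod.mk.injEq] at he'
    apply Subtype.ext
    show al x y i j = al x y k l
    rw [h.al_eq_al_iff]
    constructor
    · have := (ZMod.intCast_eq_intCast_iff_dvd_sub k i (2 ^ n)).mp he'.1.symm
      exact_mod_cast this
    · have := (ZMod.intCast_eq_intCast_iff_dvd_sub l j (2 ^ n)).mp he'.2.symm
      exact_mod_cast this
  · intro p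
    obtain ⟨i, hi⟩ := ZMod.intCast_surjective (Multiplicative.toAdd p).1
    obtain ⟨j, hj⟩ := ZMod.intCast_surjective (Multiplicative.toAdd p).2
    refine ⟨⟨al x y i j, h.al_mem_A i j⟩, ?_⟩
    rw [coordHom_al, hi, hj]
    rfl

theorem A_isMulCommutative (h : IsWr x y z n) : IsMulCommutative h.A :=
  ⟨⟨fun a b => Subtype.ext (h.A_comm a.2 b.2)⟩⟩

theorem four_le (h : IsWr x y z n) : 4 ≤ 2 ^ n := by
  have h2 : 2 ^ 2 ≤ 2 ^ n := Nat.pow_le_pow_right (by norm_num) h.hn
  omega

theorem eq_A_of_comm (h : IsWr x y z n) (U : Subgroup S) (hU : IsMulCommutative U)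
    (hc : Nat.card U = 2 ^ (2 * n)) : U = h.A := by
  have := h.finite
  by_cases hUA : U ≤ h.A
  · exact Subgroup.eq_of_le_of_card_ge hUA (by rw [hc, h.card_A])
  · exfalso
    obtain ⟨u, huU, huA⟩ := SetLike.not_le_iff_exists.mp hUA
    obtain ⟨k, l, rfl⟩ := h.notMem_A huA
    have hle : U ⊓ h.A ≤ Subgroup.center S := by
      rintro s ⟨hsU, i, j, rfl⟩
      rw [h.al_mem_center_iff]
      have h1 : (⟨al x y i j, hsU⟩ : U) * ⟨al x y k l * z, huU⟩ =
          ⟨al x y k l * z, huU⟩ * ⟨al x y i j, hsU⟩ := hU.is_comm.comm _ _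
      have h2 := congrArg Subtype.val h1
      simp only [Subgroup.coe_mul] at h2
      rwa [h.al_comm_alz_iff] at h2
    have h1 : Nat.card (U ⊓ h.A : Subgroup S) ≤ 2 ^ n := by
      rw [← h.card_center]; exact Subgroup.card_le_of_le hle
    have h2 : (⊥ : Subgroup S).relIndex (U ⊓ h.A) * (U ⊓ h.A).relIndex U =
        (⊥ : Subgroup S).relIndex U := Subgroup.relIndex_mul_relIndex _ _ _ bot_le inf_le_left
    rw [Subgroup.relIndex_bot_left, Subgroup.relIndex_bot_left, Subgroup.inf_relIndex_left] at h2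
    have h3 : h.A.relIndex U ∣ 2 := by
      have := h.A_normal
      have h4 := Subgroup.relIndex_dvd_index_of_normal (H := h.A) (K := U)
      rwa [h.A_index] at h4
    have h5 : h.A.relIndex U ≤ 2 := Nat.le_of_dvd (by norm_num) h3
    have h6 : 2 ^ (2 * n) = 2 ^ n * 2 ^ n := by rw [two_mul, pow_add]
    have h7 := four_le h
    rw [hc, h6] at h2
    have h8 : 2 ^ n * 2 ^ n ≤ 2 ^ n * 2 := by
      rw [← h2]; exact Nat.mul_le_mul h1 h5
    have h9 : 2 ^ n ≤ 2 := Nat.le_of_mul_le_mul_left h8 (by positivity)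
    omega

/-- A wreathed 2-group S of order 2^(2n+1) has a unique commutative subgroup of order 2^(2n), and this subgroup is isomorphic to the direct product of two cyclic groups of order 2^n. -/
theorem result {S : Type*} [Group S] [Finite S] (hS : Cfsg.IsWreathed S) (n : ℕ) (hn : Nat.card S = 2 ^ (2 * n + 1)) : (∃! U : Subgroup S, IsMulCommutative U ∧ Nat.card U = 2 ^ (2 * n)) ∧ ∀ U : Subgroup S, IsMulCommutative U → Nat.card U = 2 ^ (2 * n) → Nonempty (U ≃* Multiplicative (ZMod (2 ^ n) × ZMod (2 ^ n))) := by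
  obtain ⟨x, y, z, h⟩ := exists_isWr_of_card hS n hn
  refine ⟨⟨h.A, ⟨A_isMulCommutative h, h.card_A⟩, ?_⟩, ?_⟩
  · rintro U ⟨hU, hc⟩
    exact eq_A_of_comm h U hU hc
  · intro U hU hc
    have := eq_A_of_comm h U hU hc
    subst this
    exact ⟨MulEquiv.ofBijective (coordHom h) (coordHom_bijective h)⟩

end Cfsg.Agent.S1196
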