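import Cfsg.Statements.S1202
import Cfsg.Agent.Lib.Helper20.WrSC2

set_option autoImplicit false
open Cfsg

namespace Cfsg.Agent.S1202

open Cfsg.Agent.Lib.Helper38 Cfsg.Agent.Lib.Helper20.OddAut Cfsg.Agent.Lib.Helper20.WrSC


/-- Let S be a wreathed 2-group of order 2^(2n+1) and X a subgroup with C_S(X) ≤ X such that Aut(X) is not a 2-group. Then |N_S(X) : X| = 2, and either X is the commutative subgroup of order 2^(2n), or X = Q·Z(S) for some subgroup Q ≅ Q₈; in the latter case any two such subgroups are conjugate in S. -/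
theorem result {S : Type*} [Group S] [Finite S] (hS : Cfsg.IsWreathed S) (n : ℕ) (hn : Nat.card S = 2 ^ (2 * n + 1)) (X : Subgroup S) (hC : Subgroup.centralizer (X : Set S) ≤ X) (hA : ¬ IsPGroup 2 (MulAut X)) : X.relIndex (Subgroup.normalizer (X : Set S)) = 2 ∧ ((IsMulCommutative X ∧ Nat.card X = 2 ^ (2 * n)) ∨ ∃ Q : Subgroup S, Nonempty (Q ≃* QuaternionGroup 2) ∧ X = Q ⊔ Subgroup.center S) ∧ ∀ X' : Subgroup S, Subgroup.centralizer (X' : Set S) ≤ X' → ¬ IsPGroup 2 (MulAut X') → ¬ IsMulCommutative X → ¬ IsMulCommutative X' → ∃ s : S, X.map (MulAut.conj s).toMonoidHom = X' := by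
  obtain ⟨x, y, z, h⟩ := exists_isWr_of_card hS n hn
  have hfin : ∀ Y : Subgroup S, Finite (MulAut Y) := fun Y =>
    Finite.of_injective (fun e : MulAut Y => (e : Y → Y)) DFunLike.coe_injective
  have := hfin X
  obtain ⟨α, m, hm, hα, hne⟩ := exists_odd_of_not_isPGroup hA
  rcases classify h X hC α m hm hα hne with hXA | ⟨c, hc, hX⟩
  · subst hXA
    have := h.A_normal
    refine ⟨?_, Or.inl ⟨⟨⟨fun a b => Subtype.ext (h.A_comm a.2 b.2)⟩⟩, h.card_A⟩, ?_⟩
    · rw [Subgroup.normalizer_eq_top, Subgroup.relIndex_top_right, h.A_index]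
    · intro X' _ _ hnc
      exact absurd ⟨⟨fun a b => Subtype.ext (h.A_comm a.2 b.2)⟩⟩ hnc
  · refine ⟨relIndex_normalizer h X c hX, Or.inr (exists_quaternion h X c hc hX), ?_⟩
    intro X' hC' hA' _ hnc'
    have := hfin X'
    obtain ⟨α', m', hm', hα', hne'⟩ := exists_odd_of_not_isPGroup hA'
    rcases classify h X' hC' α' m' hm' hα' hne' with hXA' | ⟨c', hc', hX'⟩
    · subst hXA'
      exact absurd ⟨⟨fun a b => Subtype.ext (h.A_comm a.2 b.2)⟩⟩ hnc'
    · exact conj_eq h X X' c c' hc hc' hX hX'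

end Cfsg.Agent.S1202
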