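import Cfsg.Statements.S4023
import Mathlib
import Cfsg.Agent.Lib.Helper67.EqualOrderConj
import Cfsg.Agent.Lib.Helper51.UniqueOrderP

set_option autoImplicit false
open Cfsg

namespace Cfsg.Agent.S4023

open Cfsg.Agent.Lib.Helper67

/-- A group of order `p ^ k`, `k ≤ 2`, is commutative. -/
theorem comm_of_card_le_sq {H : Type*} [Group H] [Finite H] {p : ℕ} [hp : Fact p.Prime] {k : ℕ}
    (hk : k ≤ 2) (hcard : Nat.card H = p ^ k) : ∀ a b : H, a * b = b * a := by
  interval_cases k
  · rw [pow_zero] at hcard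
    have : Subsingleton H := (Nat.card_eq_one_iff_unique.1 hcard).1
    intro a b; rw [Subsingleton.elim a 1, Subsingleton.elim b 1]
  · rw [pow_one] at hcard
    have : Fact (Nat.card H).Prime := ⟨by rw [hcard]; exact hp.out⟩
    have hc : IsCyclic H := isCyclic_of_prime_card rfl
    intro a b
    obtain ⟨g, hg⟩ := hc.exists_generator
    obtain ⟨i, hi⟩ := Subgroup.mem_zpowers_iff.1 (hg a)
    obtain ⟨j, hj⟩ := Subgroup.mem_zpowers_iff.1 (hg b)
    rw [← hi, ← hj, ← zpow_add, ← zpow_add, add_comm]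
  · exact (IsPGroup.isMulCommutative_of_card_eq_prime_sq hcard).is_comm.comm

/-- commutativity of a join -/
theorem comm_sup_of_comm {Q : Type*} [Group Q] (H K : Subgroup Q)
    (hH : ∀ x ∈ H, ∀ y ∈ H, x * y = y * x) (hK : ∀ x ∈ K, ∀ y ∈ K, x * y = y * x)
    (hHK : ∀ x ∈ H, ∀ y ∈ K, x * y = y * x) : ∀ x ∈ H ⊔ K, ∀ y ∈ H ⊔ K, x * y = y * x := by
  -- elements of H ∪ K centralize H ⊔ K
  have h1 : ∀ x, (x ∈ H ∨ x ∈ K) → H ⊔ K ≤ Subgroup.centralizer {x} := by
    intro x hx
    apply sup_le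
    · intro h hh
      rw [Subgroup.mem_centralizer_iff]
      intro w hw
      rw [Set.mem_singleton_iff] at hw
      subst hw
      rcases hx with hx | hx
      · exact hH w hx h hh
      · exact (hHK h hh w hx).symm
    · intro k hk
      rw [Subgroup.mem_centralizer_iff]
      intro w hw
      rw [Set.mem_singleton_iff] at hw
      subst hw
      rcases hx with hx | hx
      · exact hHK w hx k hk
      · exact hK w hx k hk
  intro x hx y hy
  have h2 : H ⊔ K ≤ Subgroup.centralizer {y} := by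
    apply sup_le
    · intro h hh
      have := h1 h (Or.inl hh) hy
      rw [Subgroup.mem_centralizer_iff] at this ⊢
      intro w hw
      rw [Set.mem_singleton_iff] at hw
      subst hw
      exact (this h rfl).symm
    · intro k hk
      have := h1 k (Or.inr hk) hy
      rw [Subgroup.mem_centralizer_iff] at this ⊢
      intro w hw
      rw [Set.mem_singleton_iff] at hw
      subst hw
      exact (this k rfl).symm
  have := h2 hx
  rw [Subgroup.mem_centralizer_iff] at this
  exact (this y rfl).symm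

/-- An element of the second centre outside the centre. -/
theorem exists_second_center {Q : Type*} [Group Q] [Finite Q] {p : ℕ} [Fact p.Prime]
    (hQ : IsPGroup p Q) (hnc : ∃ a b : Q, a * b ≠ b * a) :
    ∃ x : Q, x ∉ Subgroup.center Q ∧ ∀ g : Q, x * g * x⁻¹ * g⁻¹ ∈ Subgroup.center Q := by
  obtain ⟨a, b, hab⟩ := hnc
  have ha : a ∉ Subgroup.center Q := by
    intro h
    exact hab ((Subgroup.mem_center_iff.1 h b).symm)
  have hnt : Nontrivial (Q ⧸ Subgroup.center Q) := by
    refine ⟨⟨QuotientGroup.mk a, 1, ?_⟩⟩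
    intro h
    exact ha ((QuotientGroup.eq_one_iff a).1 h)
  have hQq : IsPGroup p (Q ⧸ Subgroup.center Q) := hQ.to_quotient _
  have hcnt := hQq.center_nontrivial
  obtain ⟨c, hc⟩ := exists_ne (1 : Subgroup.center (Q ⧸ Subgroup.center Q))
  obtain ⟨x, hx⟩ := QuotientGroup.mk_surjective (c : Q ⧸ Subgroup.center Q)
  refine ⟨x, ?_, ?_⟩
  · intro hxZ
    apply hc
    apply Subtype.ext
    rw [← hx]
    exact (QuotientGroup.eq_one_iff x).2 hxZ
  · intro g
    rw [← QuotientGroup.eq_one_iff]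
    have hcomm := Subgroup.mem_center_iff.1 c.2 (QuotientGroup.mk g)
    rw [QuotientGroup.mk_mul, QuotientGroup.mk_mul, QuotientGroup.mk_mul, QuotientGroup.mk_inv,
      QuotientGroup.mk_inv, hx, ← hcomm]
    group

/-- In a finite group, `g H g⁻¹ ⊆ H` implies `g ∈ N(H)`. -/
theorem mem_normalizer_of_conj_mem {Q : Type*} [Group Q] [Finite Q] (H : Subgroup Q) (g : Q)
    (h : ∀ x ∈ H, g * x * g⁻¹ ∈ H) : g ∈ Subgroup.normalizer (H : Set Q) := by
  rw [Subgroup.mem_normalizer_iff]
  intro x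
  refine ⟨h x, fun hx => ?_⟩
  let f : H → H := fun w => ⟨g * w * g⁻¹, h w w.2⟩
  have hf : Function.Injective f := by
    intro a b hab
    have := congrArg Subtype.val hab
    simp only [f] at this
    apply Subtype.ext
    exact mul_left_cancel (mul_right_cancel this)
  obtain ⟨w, hw⟩ := Finite.surjective_of_injective hf ⟨g * x * g⁻¹, hx⟩
  have := congrArg Subtype.val hw
  simp only [f] at this
  have hwx : (w : Q) = x := mul_left_cancel (mul_right_cancel this)
  rw [← hwx]; exact w.2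

theorem card_zpowers_le_of_pow_eq_one {Q : Type*} [Group Q] {p : ℕ} [hp : Fact p.Prime] (x : Q)
    (hx : x ^ p = 1) : Nat.card (Subgroup.zpowers x) ≤ p := by
  rw [Nat.card_zpowers]
  exact Nat.le_of_dvd hp.out.pos (orderOf_dvd_of_pow_eq_one hx)

/-- A non-commutative `p`-group of exponent `p` has a non-commutative subgroup of order `p ^ 3`. -/
theorem exists_noncomm_cube {Q : Type*} [Group Q] [Finite Q] {p : ℕ} [hp : Fact p.Prime]
    (hQ : IsPGroup p Q) (hexp : ∀ x : Q, x ^ p = 1) (hnc : ∃ a b : Q, a * b ≠ b * a) :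
    ∃ H : Subgroup Q, Nat.card H = p ^ 3 ∧ ∃ a ∈ H, ∃ b ∈ H, a * b ≠ b * a := by
  obtain ⟨x, hxZ, hxc⟩ := exists_second_center hQ hnc
  have : ∃ y : Q, y * x ≠ x * y := by
    by_contra hcon
    push Not at hcon
    exact hxZ (Subgroup.mem_center_iff.2 hcon)
  obtain ⟨y, hy⟩ := this
  obtain ⟨z, hz⟩ : ∃ z : Q, z = x * y * x⁻¹ * y⁻¹ := ⟨_, rfl⟩
  have hzZ : z ∈ Subgroup.center Q := hz ▸ hxc y
  have hzc : ∀ g : Q, g * z = z * g := Subgroup.mem_center_iff.1 hzZ
  have hzn : (Subgroup.zpowers z).Normal := by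
    constructor
    intro c hc g
    have hcZ : c ∈ Subgroup.center Q := (Subgroup.zpowers_le.2 hzZ) hc
    rw [Subgroup.mem_center_iff.1 hcZ g, mul_inv_cancel_right]; exact hc
  obtain ⟨H₁, hH₁⟩ : ∃ H₁ : Subgroup Q, H₁ = Subgroup.zpowers x ⊔ Subgroup.zpowers z := ⟨_, rfl⟩
  have hH₁card : Nat.card H₁ ≤ p * p := by
    rw [hH₁]
    calc Nat.card (Subgroup.zpowers x ⊔ Subgroup.zpowers z : Subgroup Q)
        ≤ Nat.card (Subgroup.zpowers x) * Nat.card (Subgroup.zpowers z) :=
          card_sup_le_of_le_normalizer _ _ Subgroup.le_normalizer_of_normal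
      _ ≤ p * p := Nat.mul_le_mul (card_zpowers_le_of_pow_eq_one x (hexp x))
          (card_zpowers_le_of_pow_eq_one z (hexp z))
  have hxH₁ : x ∈ H₁ := hH₁ ▸ Subgroup.mem_sup_left (Subgroup.mem_zpowers x)
  have hzH₁ : z ∈ H₁ := hH₁ ▸ Subgroup.mem_sup_right (Subgroup.mem_zpowers z)
  have hyN : y ∈ Subgroup.normalizer (H₁ : Set Q) := by
    apply mem_normalizer_of_conj_mem
    have hle : H₁ ≤ H₁.comap (MulAut.conj y).toMonoidHom := by
      rw [hH₁]
      apply sup_le
      · rw [Subgroup.zpowers_le, Subgroup.mem_comap, ← hH₁]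
        show y * x * y⁻¹ ∈ H₁
        have : y * x * y⁻¹ = z⁻¹ * x := by rw [hz]; group
        rw [this]
        exact H₁.mul_mem (H₁.inv_mem hzH₁) hxH₁
      · rw [Subgroup.zpowers_le, Subgroup.mem_comap, ← hH₁]
        show y * z * y⁻¹ ∈ H₁
        rw [hzc y, mul_inv_cancel_right]; exact hzH₁
    intro w hw
    exact hle hw
  obtain ⟨H₂, hH₂⟩ : ∃ H₂ : Subgroup Q, H₂ = Subgroup.zpowers y ⊔ H₁ := ⟨_, rfl⟩
  have hH₂card : Nat.card H₂ ≤ p * (p * p) := by
    rw [hH₂]
    calc Nat.card (Subgroup.zpowers y ⊔ H₁ : Subgroup Q)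
        ≤ Nat.card (Subgroup.zpowers y) * Nat.card H₁ :=
          card_sup_le_of_le_normalizer _ _ (Subgroup.zpowers_le.2 hyN)
      _ ≤ p * (p * p) := Nat.mul_le_mul (card_zpowers_le_of_pow_eq_one y (hexp y)) hH₁card
  have hxH₂ : x ∈ H₂ := hH₂ ▸ Subgroup.mem_sup_right hxH₁
  have hyH₂ : y ∈ H₂ := hH₂ ▸ Subgroup.mem_sup_left (Subgroup.mem_zpowers y)
  refine ⟨H₂, ?_, y, hyH₂, x, hxH₂, hy⟩
  obtain ⟨k, hk⟩ := IsPGroup.iff_card.1 (hQ.to_subgroup H₂)
  have hk3 : k ≤ 3 := by
    have : p ^ k ≤ p ^ 3 := by rw [← hk]; calc Nat.card H₂ ≤ p * (p * p) := hH₂card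
      _ = p ^ 3 := by ring
    exact (Nat.pow_le_pow_iff_right hp.out.one_lt).1 this
  have hk2 : ¬ k ≤ 2 := by
    intro hk2
    have := comm_of_card_le_sq hk2 hk ⟨y, hyH₂⟩ ⟨x, hxH₂⟩
    exact hy (congrArg Subtype.val this)
  have : k = 3 := by omega
  rw [hk, this]

/-- Shrink a commutative subgroup of order at least `p ^ 3` to one of order `p ^ 3`. -/
theorem exists_comm_cube_of_le {Q : Type*} [Group Q] [Finite Q] {p : ℕ} [Fact p.Prime]
    (A : Subgroup Q) (hA : ∀ a ∈ A, ∀ b ∈ A, a * b = b * a) {j : ℕ} (hj : 3 ≤ j)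
    (hcard : Nat.card A = p ^ j) :
    ∃ A₃ : Subgroup Q, Nat.card A₃ = p ^ 3 ∧ ∀ a ∈ A₃, ∀ b ∈ A₃, a * b = b * a := by
  have hdvd : p ^ 3 ∣ Nat.card A := by rw [hcard]; exact pow_dvd_pow p hj
  obtain ⟨K, hK⟩ := Sylow.exists_subgroup_card_pow_prime p hdvd
  refine ⟨K.map A.subtype, ?_, ?_⟩
  · rw [Subgroup.card_map_of_injective A.subtype_injective, hK]
  · intro a ha b hb
    exact hA a (Subgroup.map_subtype_le K ha) b (Subgroup.map_subtype_le K hb)

/-- Extend a commutative subgroup of order at least `p ^ 2` by a centralizing element. -/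
theorem comm_extend {Q : Type*} [Group Q] [Finite Q] {p : ℕ} [hp : Fact p.Prime]
    (hQ : IsPGroup p Q) (M : Subgroup Q) (hM : ∀ a ∈ M, ∀ b ∈ M, a * b = b * a) {m : ℕ}
    (hm : 2 ≤ m) (hcard : Nat.card M = p ^ m) (y : Q) (hyM : y ∉ M)
    (hy : ∀ a ∈ M, y * a = a * y) :
    ∃ A₃ : Subgroup Q, Nat.card A₃ = p ^ 3 ∧ ∀ a ∈ A₃, ∀ b ∈ A₃, a * b = b * a := by
  have hA : ∀ a ∈ Subgroup.zpowers y ⊔ M, ∀ b ∈ Subgroup.zpowers y ⊔ M, a * b = b * a := by
    apply comm_sup_of_comm _ _ _ hM
    · intro a ha b hb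
      obtain ⟨i, rfl⟩ := Subgroup.mem_zpowers_iff.1 ha
      exact (show Commute y b from hy b hb).zpow_left i
    · intro a ha b hb
      obtain ⟨i, rfl⟩ := Subgroup.mem_zpowers_iff.1 ha
      obtain ⟨j, rfl⟩ := Subgroup.mem_zpowers_iff.1 hb
      rw [← zpow_add, ← zpow_add, add_comm]
  obtain ⟨j, hj⟩ := IsPGroup.iff_card.1 (hQ.to_subgroup (Subgroup.zpowers y ⊔ M))
  have hlt : Nat.card M < Nat.card (Subgroup.zpowers y ⊔ M : Subgroup Q) := by
    by_contra hcon
    push Not at hcon
    have h1 : M = Subgroup.zpowers y ⊔ M := Subgroup.eq_of_le_of_card_ge le_sup_right hcon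
    apply hyM
    rw [h1]
    exact Subgroup.mem_sup_left (Subgroup.mem_zpowers y)
  rw [hcard, hj] at hlt
  have hmj : m < j := (Nat.pow_lt_pow_iff_right hp.out.one_lt).1 hlt
  exact exists_comm_cube_of_le _ hA (by omega) hj

/-- A non-commutative `p`-group of exponent `p` and order at least `p ^ 4` has a commutative
subgroup of order `p ^ 3`. -/
theorem exists_comm_cube {Q : Type*} [Group Q] [Finite Q] {p : ℕ} [hp : Fact p.Prime]
    (hQ : IsPGroup p Q) (hexp : ∀ x : Q, x ^ p = 1) (hnc : ∃ a b : Q, a * b ≠ b * a) {n : ℕ}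
    (hn : 4 ≤ n) (hcard : Nat.card Q = p ^ n) :
    ∃ A : Subgroup Q, Nat.card A = p ^ 3 ∧ ∀ a ∈ A, ∀ b ∈ A, a * b = b * a := by
  obtain ⟨c, hc⟩ := IsPGroup.iff_card.1 (hQ.to_subgroup (Subgroup.center Q))
  have hZcomm : ∀ a ∈ Subgroup.center Q, ∀ b ∈ Subgroup.center Q, a * b = b * a :=
    fun a ha b _ => (Subgroup.mem_center_iff.1 ha b).symm
  obtain ⟨x, hxZ, hxc⟩ := exists_second_center hQ hnc
  by_cases hc2 : 2 ≤ c
  · exact comm_extend hQ (Subgroup.center Q) hZcomm hc2 hc x hxZ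
      (fun a ha => (Subgroup.mem_center_iff.1 ha x))
  · push Not at hc2
    -- M = ⟨x⟩ Z
    obtain ⟨M, hMdef⟩ : ∃ M : Subgroup Q, M = Subgroup.zpowers x ⊔ Subgroup.center Q := ⟨_, rfl⟩
    have hMcomm : ∀ a ∈ M, ∀ b ∈ M, a * b = b * a := by
      rw [hMdef]
      apply comm_sup_of_comm _ _ _ hZcomm
      · intro a ha b hb
        exact (Subgroup.mem_center_iff.1 hb a)
      · intro a ha b hb
        obtain ⟨i, rfl⟩ := Subgroup.mem_zpowers_iff.1 ha
        obtain ⟨j, rfl⟩ := Subgroup.mem_zpowers_iff.1 hb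
        rw [← zpow_add, ← zpow_add, add_comm]
    have hMle : Nat.card M ≤ p * p := by
      rw [hMdef]
      calc Nat.card (Subgroup.zpowers x ⊔ Subgroup.center Q : Subgroup Q)
          ≤ Nat.card (Subgroup.zpowers x) * Nat.card (Subgroup.center Q) :=
            card_sup_le_of_le_normalizer _ _ Subgroup.le_normalizer_of_normal
        _ ≤ p * p := by
            apply Nat.mul_le_mul (card_zpowers_le_of_pow_eq_one x (hexp x))
            rw [hc]
            calc p ^ c ≤ p ^ 1 := Nat.pow_le_pow_right hp.out.pos (by omega)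
              _ = p := pow_one p
    obtain ⟨m, hm⟩ := IsPGroup.iff_card.1 (hQ.to_subgroup M)
    have hxM : x ∈ M := hMdef ▸ Subgroup.mem_sup_left (Subgroup.mem_zpowers x)
    have hZM : Subgroup.center Q ≤ M := hMdef ▸ le_sup_right
    -- |Z| < |M|
    have hlt : Nat.card (Subgroup.center Q) < Nat.card M := by
      by_contra hcon
      push Not at hcon
      have h1 : Subgroup.center Q = M := Subgroup.eq_of_le_of_card_ge hZM hcon
      exact hxZ (h1 ▸ hxM)
    have hcpos : 1 ≤ c := by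
      by_contra h0
      have : c = 0 := by omega
      rw [this, pow_zero] at hc
      have hbot : Subgroup.center Q = ⊥ := Subgroup.card_eq_one.1 hc
      have := hxc x
      -- not needed: centre nontrivial because Q is a nontrivial p-group
      have hnt : Nontrivial Q := by
        obtain ⟨a, b, hab⟩ := hnc
        exact ⟨⟨a * b, b * a, hab⟩⟩
      have := hQ.center_nontrivial
      rw [hbot] at this
      exact not_nontrivial _ this
    have hm2 : 2 ≤ m := by
      rw [hc, hm] at hlt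
      have := (Nat.pow_lt_pow_iff_right hp.out.one_lt).1 hlt
      omega
    -- the homomorphism g ↦ [x, g]
    let φ : Q →* Q := MonoidHom.mk' (fun g => x * g * x⁻¹ * g⁻¹) (by
      intro g h
      have hh := Subgroup.mem_center_iff.1 (hxc h)
      calc x * (g * h) * x⁻¹ * (g * h)⁻¹ = x * g * x⁻¹ * ((x * h * x⁻¹ * h⁻¹) * g⁻¹) := by group
        _ = x * g * x⁻¹ * (g⁻¹ * (x * h * x⁻¹ * h⁻¹)) := by rw [hh g⁻¹]
        _ = x * g * x⁻¹ * g⁻¹ * (x * h * x⁻¹ * h⁻¹) := by group)
    have hφ : ∀ g, φ g = x * g * x⁻¹ * g⁻¹ := fun g => rfl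
    have hrange : φ.range ≤ Subgroup.center Q := by
      rintro _ ⟨g, rfl⟩
      rw [hφ]; exact hxc g
    have hcardeq : Nat.card φ.ker * Nat.card φ.range = Nat.card Q := by
      rw [← Subgroup.index_ker, Subgroup.card_mul_index]
    have hrangele : Nat.card φ.range ≤ p := by
      calc Nat.card φ.range ≤ Nat.card (Subgroup.center Q) := Subgroup.card_le_of_le hrange
        _ = p ^ c := hc
        _ ≤ p ^ 1 := Nat.pow_le_pow_right hp.out.pos (by omega)
        _ = p := pow_one p
    have hkerge : p ^ 3 ≤ Nat.card φ.ker := by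
      have h1 : p ^ n ≤ Nat.card φ.ker * p := by
        rw [← hcard, ← hcardeq]; exact Nat.mul_le_mul_left _ hrangele
      have h2 : p ^ 3 * p ≤ Nat.card φ.ker * p := by
        calc p ^ 3 * p = p ^ 4 := by ring
          _ ≤ p ^ n := Nat.pow_le_pow_right hp.out.pos hn
          _ ≤ _ := h1
      exact Nat.le_of_mul_le_mul_right h2 hp.out.pos
    -- an element of the kernel outside M
    have hnotle : ¬ φ.ker ≤ M := by
      intro hle
      have := Subgroup.card_le_of_le hle
      have h3 : p * p < p ^ 3 := by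
        calc p * p = p ^ 2 := by ring
          _ < p ^ 3 := Nat.pow_lt_pow_right hp.out.one_lt (by norm_num)
      omega
    obtain ⟨y, hyker, hyM⟩ := SetLike.not_le_iff_exists.1 hnotle
    have hyx : y * x = x * y := by
      have h1 : x * y * x⁻¹ * y⁻¹ = 1 := by
        have := MonoidHom.mem_ker.1 hyker
        rwa [hφ] at this
      have h2 : x * y = y * x := by
        calc x * y = (x * y * x⁻¹ * y⁻¹) * (y * x) := by group
          _ = y * x := by rw [h1, one_mul]
      exact h2.symm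
    refine comm_extend hQ M hMcomm hm2 hm y hyM ?_
    intro a ha
    have hle : M ≤ Subgroup.centralizer {y} := by
      rw [hMdef]
      apply sup_le
      · rw [Subgroup.zpowers_le, Subgroup.mem_centralizer_iff]
        intro w hw
        rw [Set.mem_singleton_iff] at hw
        subst hw
        exact hyx
      · intro z hz
        rw [Subgroup.mem_centralizer_iff]
        intro w hw
        rw [Set.mem_singleton_iff] at hw
        subst hw
        exact (Subgroup.mem_center_iff.1 hz w)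
    have := Subgroup.mem_centralizer_iff.1 (hle ha) y rfl
    exact this

/-- A generalized quaternion group of order at least `16` cannot be a subgroup whose `2`-subgroups
of order `8` are all conjugate. -/
theorem quaternion_false {G : Type*} [Group G] [Finite G]
    (hC : ∀ H K : Subgroup G, IsPGroup 2 H → IsPGroup 2 K → Nat.card H = Nat.card K →
      ∃ g : G, K = H.map (MulAut.conj g).toMonoidHom)
    (P : Subgroup G) (m : ℕ) [NeZero m] (hm : 4 ∣ m) (e : ↥P ≃* QuaternionGroup m) : False := by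
  have hm0 : m ≠ 0 := NeZero.ne m
  obtain ⟨t, ht⟩ := hm
  have ht0 : t ≠ 0 := by rintro rfl; exact hm0 (by rw [ht])
  -- the cyclic subgroup of order 8
  obtain ⟨a₁, ha₁⟩ : ∃ a₁ : ↥P, a₁ = e.symm (QuaternionGroup.a 1) := ⟨_, rfl⟩
  have ha₁ord : orderOf (a₁ : G) = 2 * m := by
    rw [Subgroup.orderOf_coe, ha₁, MulEquiv.orderOf_eq, QuaternionGroup.orderOf_a_one]
  obtain ⟨c, hc⟩ : ∃ c : G, c = (a₁ : G) ^ t := ⟨_, rfl⟩
  have hcord : orderOf c = 8 := by
    rw [hc, orderOf_pow_of_dvd ht0, ha₁ord, ht]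
    · rw [show 2 * (4 * t) = 8 * t by ring]
      exact Nat.mul_div_cancel _ (Nat.pos_of_ne_zero ht0)
    · rw [ha₁ord, ht]; exact ⟨8, by ring⟩
  have hC8card : Nat.card (Subgroup.zpowers c) = 2 ^ 3 := by
    rw [Nat.card_zpowers, hcord]; norm_num
  have hC8p : IsPGroup 2 (Subgroup.zpowers c) := IsPGroup.of_card hC8card
  -- the element of order 4 outside
  obtain ⟨b₁, hb₁⟩ : ∃ b₁ : ↥P, b₁ = e.symm (QuaternionGroup.xa 0) := ⟨_, rfl⟩
  have hb₁ord : orderOf b₁ = 4 := by
    rw [hb₁, MulEquiv.orderOf_eq, QuaternionGroup.orderOf_xa]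
  have hBcard : Nat.card (Subgroup.zpowers b₁) = 2 ^ 2 := by
    rw [Nat.card_zpowers, hb₁ord]; norm_num
  have hPcard : Nat.card ↥P = 4 * m := by
    rw [Nat.card_congr e.toEquiv, Nat.card_eq_fintype_card, QuaternionGroup.card]
  have hdvd : 2 ^ 3 ∣ Nat.card ↥P := by
    rw [hPcard, ht]; exact ⟨2 * t, by ring⟩
  obtain ⟨K₀, hK₀card, hBK₀⟩ := Sylow.exists_subgroup_card_pow_prime_le 2 hdvd
    (Subgroup.zpowers b₁) hBcard (by norm_num)
  have hKcard : Nat.card (K₀.map P.subtype) = 2 ^ 3 := by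
    rw [Subgroup.card_map_of_injective P.subtype_injective, hK₀card]
  have hKp : IsPGroup 2 (K₀.map P.subtype) := IsPGroup.of_card hKcard
  obtain ⟨g, hg⟩ := hC _ _ hC8p hKp (hC8card.trans hKcard.symm)
  have hb₁K : (b₁ : G) ∈ K₀.map P.subtype :=
    ⟨b₁, hBK₀ (Subgroup.mem_zpowers b₁), rfl⟩
  rw [hg] at hb₁K
  obtain ⟨w, hw, hwb⟩ := hb₁K
  rw [SetLike.mem_coe, ← mem_powers_iff_mem_zpowers, Submonoid.mem_powers_iff] at hw
  obtain ⟨j, rfl⟩ := hw
  obtain ⟨k, hk⟩ : ∃ k : G, k = g * c * g⁻¹ := ⟨_, rfl⟩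
  have hkb : k ^ j = b₁ := by
    rw [← hwb, hk]
    show _ = g * c ^ j * g⁻¹
    rw [conj_pow]
  have hkord : orderOf k = 8 := by
    have hs : SemiconjBy g c k := by unfold SemiconjBy; rw [hk]; group
    rw [← hs.orderOf_eq, hcord]
  have hkK : k ∈ K₀.map P.subtype := by
    rw [hg]
    exact ⟨c, Subgroup.mem_zpowers c, by rw [hk]; rfl⟩
  -- j is even
  have hjeven : Even j := by
    by_contra hodd
    rw [Nat.not_even_iff_odd] at hodd
    have hcop : (orderOf k).Coprime j := by
      rw [hkord, show (8 : ℕ) = 2 ^ 3 by norm_num]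
      exact Nat.Coprime.pow_left 3 (Nat.coprime_two_left.2 hodd)
    have := hcop.orderOf_pow
    rw [hkb, Subgroup.orderOf_coe, hb₁ord, hkord] at this
    norm_num at this
  obtain ⟨i, hi⟩ := hjeven
  -- b₁ is a square in P
  have hkiK : k ^ i ∈ K₀.map P.subtype := Subgroup.pow_mem _ hkK i
  obtain ⟨h, hh, hhk⟩ := hkiK
  have hsq : h * h = b₁ := by
    apply Subtype.ext
    rw [Subgroup.coe_mul]
    have : (h : G) = k ^ i := hhk
    rw [this, ← pow_add, ← hi, hkb]
  have hsq' : e h * e h = QuaternionGroup.xa 0 := by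
    rw [← map_mul, hsq, hb₁, MulEquiv.apply_symm_apply]
  obtain ⟨q, hq⟩ : ∃ q, q = e h := ⟨_, rfl⟩
  rw [← hq] at hsq'
  cases q with
  | a u => rw [QuaternionGroup.a_mul_a] at hsq'; cases hsq'
  | xa u => rw [QuaternionGroup.xa_mul_xa] at hsq'; cases hsq'

/-- A non-commutative `p`-group of exponent `p` in which subgroups of equal order are
simultaneously commutative or not has order `p ^ 3`. -/
theorem card_eq_cube {Q : Type*} [Group Q] [Finite Q] {p : ℕ} [hp : Fact p.Prime]
    (hQ : IsPGroup p Q) (hexp : ∀ x : Q, x ^ p = 1) (hnc : ∃ a b : Q, a * b ≠ b * a)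
    (hiso : ∀ H K : Subgroup Q, Nat.card H = Nat.card K → (∀ a ∈ H, ∀ b ∈ H, a * b = b * a) →
      (∀ a ∈ K, ∀ b ∈ K, a * b = b * a)) : Nat.card Q = p ^ 3 := by
  obtain ⟨n, hn⟩ := IsPGroup.iff_card.1 hQ
  obtain ⟨N₃, hN₃card, a, ha, b, hb, hab⟩ := exists_noncomm_cube hQ hexp hnc
  have hn3 : 3 ≤ n := by
    have h1 : Nat.card N₃ ≤ Nat.card Q := Subgroup.card_le_card_group N₃
    rw [hN₃card, hn] at h1
    exact (Nat.pow_le_pow_iff_right hp.out.one_lt).1 h1
  by_cases h3 : n = 3
  · rw [hn, h3]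
  · exfalso
    obtain ⟨A₃, hA₃card, hA₃comm⟩ := exists_comm_cube hQ hexp hnc (by omega : 4 ≤ n) hn
    exact hab (hiso A₃ N₃ (hA₃card.trans hN₃card.symm) hA₃comm a ha b hb)

/-- Let p be a prime and G a finite group in which any two p-subgroups of the same order are conjugate, with Sylow p-subgroup P. Then P is cyclic, or elementary abelian, or p = 2 and P is a quaternion group of order 8, or p is odd and P is non-abelian of order p³ and exponent p. -/
theorem result {G : Type*} [Group G] [Finite G]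
    {p : ℕ} [Fact p.Prime] (hC : ∀ H K : Subgroup G, IsPGroup p H → IsPGroup p K → Nat.card H = Nat.card K →
      ∃ g : G, K = H.map (MulAut.conj g).toMonoidHom) (P : Sylow p G) :
    IsCyclic P ∨ Cfsg.IsElementaryAbelian p (P : Subgroup G) ∨
      (p = 2 ∧ Nonempty ((P : Subgroup G) ≃* QuaternionGroup 2)) ∨
      (p ≠ 2 ∧ ¬ IsMulCommutative P ∧ Nat.card P = p ^ 3 ∧ Monoid.exponent P = p) := by
  have hp : Fact p.Prime := inferInstance
  by_cases hu : ∀ H K : Subgroup ↥(P : Subgroup G), Nat.card H = p → Nat.card K = p → H = K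
  · -- unique subgroup of order p
    rcases Cfsg.Agent.Lib.Helper51.cyclic_or_quaternion_of_uniqueOrderP p P.2 hu with
      h | ⟨hp2, n, ⟨e⟩⟩
    · exact Or.inl h
    · subst hp2
      rcases n with _ | _ | n
      · left
        have hc : IsCyclic (QuaternionGroup (2 ^ 0)) := QuaternionGroup.quaternionGroup_one_isCyclic
        exact isCyclic_of_surjective e.symm e.symm.surjective
      · right; right; left
        exact ⟨rfl, ⟨e⟩⟩
      · exfalso
        have : NeZero (2 ^ (n + 1 + 1)) := ⟨by positivity⟩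
        exact quaternion_false hC (P : Subgroup G) (2 ^ (n + 1 + 1)) ⟨2 ^ n, by ring⟩ e
  · push Not at hu
    obtain ⟨H, K, hH, hK, hne⟩ := hu
    obtain ⟨E₀, hE₀card, hE₀exp, hE₀comm⟩ := exists_elementary_sq_of_ne P.2 hH hK hne
    have hEcard : Nat.card (E₀.map (P : Subgroup G).subtype) = p ^ 2 := by
      rw [Subgroup.card_map_of_injective (Subgroup.subtype_injective _), hE₀card]
    have hexp : ∀ x ∈ (P : Subgroup G), x ^ p = 1 := by
      apply pow_eq_one_of_conj_sq (P : Subgroup G) P.2 (E₀.map (P : Subgroup G).subtype)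
      · rintro _ ⟨e, he, rfl⟩
        rw [← map_pow, hE₀exp e he, map_one]
      · intro x hx hxord
        have hxcard : Nat.card (Subgroup.zpowers x) = p ^ 2 := by rw [Nat.card_zpowers, hxord]
        exact hC _ _ (IsPGroup.of_card hEcard) (IsPGroup.of_card hxcard) (hEcard.trans hxcard.symm)
    have hexp' : ∀ x : ↥(P : Subgroup G), x ^ p = 1 := by
      intro x
      apply Subtype.ext
      rw [Subgroup.coe_pow]
      exact hexp x x.2
    by_cases hcomm : ∀ a b : ↥(P : Subgroup G), a * b = b * a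
    · right; left
      exact ⟨⟨⟨hcomm⟩⟩, hexp⟩
    · right; right; right
      push Not at hcomm
      refine ⟨?_, ?_, ?_, ?_⟩
      · rintro rfl
        obtain ⟨a, b, hab⟩ := hcomm
        apply hab
        have ha := hexp' a
        have hb := hexp' b
        have hab' := hexp' (a * b)
        have h1 : a⁻¹ = a := by rw [inv_eq_iff_mul_eq_one, ← pow_two]; exact ha
        have h2 : b⁻¹ = b := by rw [inv_eq_iff_mul_eq_one, ← pow_two]; exact hb
        have h3 : (a * b)⁻¹ = a * b := by rw [inv_eq_iff_mul_eq_one, ← pow_two]; exact hab'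
        calc a * b = (a * b)⁻¹ := h3.symm
          _ = b⁻¹ * a⁻¹ := mul_inv_rev _ _
          _ = b * a := by rw [h1, h2]
      · intro hcm
        obtain ⟨a, b, hab⟩ := hcomm
        exact hab (hcm.is_comm.comm a b)
      · apply card_eq_cube P.2 hexp' hcomm
        intro H K hcard hHc a ha b hb
        have hH'p : IsPGroup p (H.map (P : Subgroup G).subtype) :=
          (P.2.to_subgroup H).map _
        have hK'p : IsPGroup p (K.map (P : Subgroup G).subtype) :=
          (P.2.to_subgroup K).map _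
        have hcard' : Nat.card (H.map (P : Subgroup G).subtype) =
            Nat.card (K.map (P : Subgroup G).subtype) := by
          rw [Subgroup.card_map_of_injective (Subgroup.subtype_injective _),
            Subgroup.card_map_of_injective (Subgroup.subtype_injective _), hcard]
        obtain ⟨g, hg⟩ := hC _ _ hH'p hK'p hcard'
        have haK : (a : G) ∈ K.map (P : Subgroup G).subtype := ⟨a, ha, rfl⟩
        have hbK : (b : G) ∈ K.map (P : Subgroup G).subtype := ⟨b, hb, rfl⟩
        rw [hg] at haK hbK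
        obtain ⟨_, ⟨a₀, ha₀, rfl⟩, haeq⟩ := haK
        obtain ⟨_, ⟨b₀, hb₀, rfl⟩, hbeq⟩ := hbK
        have h0 := hHc a₀ ha₀ b₀ hb₀
        apply Subtype.ext
        rw [Subgroup.coe_mul, Subgroup.coe_mul, ← haeq, ← hbeq, ← map_mul, ← map_mul, ← map_mul,
          ← map_mul, h0]
      · have hdvd : Monoid.exponent ↥(P : Subgroup G) ∣ p :=
          Monoid.exponent_dvd_of_forall_pow_eq_one hexp'
        rcases (Nat.Prime.eq_one_or_self_of_dvd hp.out _ hdvd) with h1 | h1
        · exfalso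
          have : Subsingleton ↥(P : Subgroup G) := Monoid.exp_eq_one_iff.1 h1
          obtain ⟨a, b, hab⟩ := hcomm
          exact hab (by rw [Subsingleton.elim a 1, Subsingleton.elim b 1])
        · exact h1

end Cfsg.Agent.S4023
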