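import Cfsg.Statements.S1190
import Cfsg.Agent.Lib.Helper20.QuasiDihedral
import Cfsg.Agent.Lib.Helper20.ConjMap

set_option autoImplicit false
open Cfsg

namespace Cfsg.Agent.S1190

open Cfsg.Agent.Lib.Helper20 Cfsg.Agent.Lib.Helper20.QD

variable {S : Type*} [Group S] {n : ℕ} {x y : S}

/-- Involutions of a quasi-dihedral group. -/
theorem invol_char [Finite S] (d : Data S n x y) (t : S) (ht : t * t = 1) (ht1 : t ≠ 1) :
    t = f x n (hf n) ∨ ∃ k, t = f x n (2 * k) * y := by
  have ho : orderOf t = 2 := orderOf_eq_two_iff.mpr ⟨ht, ht1⟩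
  rcases normal_form d t with ⟨i, rfl⟩ | ⟨i, rfl⟩
  · left; rw [(orderOf_f_eq_two_iff d i).mp ho]
  · right
    rcases even_or_odd i with ⟨j, rfl⟩ | ⟨j, rfl⟩
    · exact ⟨j, rfl⟩
    · rw [orderOf_fy_odd d] at ho; omega

/-- `f (2k) y * f (2k') y = f (2k - 2k')`. -/
theorem fy_even_mul (d : Data S n x y) (k k' : ZMod (2 ^ n)) :
    (f x n (2 * k) * y) * (f x n (2 * k') * y) = f x n (2 * k - 2 * k') := by
  rw [fy_mul_fy d]; congr 1
  have := two_mul_hf (n := n) (by have := d.hn; omega)
  unfold ep; linear_combination k' * this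

/-- The explicit Klein four-subgroups. -/
def kset (x y : S) (n : ℕ) (k : ZMod (2 ^ n)) : Set S :=
  {1, f x n (hf n), f x n (2 * k) * y, f x n (2 * k + hf n) * y}

theorem mem_kset {k : ZMod (2 ^ n)} {t : S} : t ∈ kset x y n k ↔
    t = 1 ∨ t = f x n (hf n) ∨ t = f x n (2 * k) * y ∨ t = f x n (2 * k + hf n) * y := by
  unfold kset; simp only [Set.mem_insert_iff, Set.mem_singleton_iff]

/-- Every Klein four-subgroup is one of the explicit ones. -/
theorem klein_char [Finite S] (d : Data S n x y) (T : Subgroup S) (hT : IsKleinFour T) :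
    ∃ k, (T : Set S) = kset x y n k := by
  have hn := d.hn
  have hsq : ∀ t ∈ T, t * t = 1 := by
    intro t ht
    have := IsKleinFour.mul_self (⟨t, ht⟩ : T)
    exact congrArg Subtype.val this
  have hcard : (T : Set S).ncard = 4 := by
    rw [← Nat.card_coe_set_eq]; exact IsKleinFour.card_four
  -- some element outside {1, z}
  have h1 : ∃ t ∈ T, t ≠ 1 ∧ t ≠ f x n (hf n) := by
    by_contra hc
    push_neg at hc
    have hsub : (T : Set S) ⊆ {1, f x n (hf n)} := by
      intro t ht
      by_cases h : t = 1
      · left; exact h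
      · right; exact hc t ht h
    have := Set.ncard_le_ncard hsub (Set.toFinite _)
    have h2 : ({1, f x n (hf n)} : Set S).ncard ≤ 2 := by
      refine (Set.ncard_insert_le _ _).trans ?_
      rw [Set.ncard_singleton]
    omega
  obtain ⟨t₁, ht₁T, ht₁1, ht₁z⟩ := h1
  rcases invol_char d t₁ (hsq t₁ ht₁T) ht₁1 with h | ⟨k, hk⟩
  · exact absurd h ht₁z
  refine ⟨k, ?_⟩
  -- T ⊆ kset
  have hsub : (T : Set S) ⊆ kset x y n k := by
    intro t ht
    rw [mem_kset]
    by_cases h1 : t = 1
    · left; exact h1
    rcases invol_char d t (hsq t ht) h1 with h | ⟨k', hk'⟩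
    · right; left; exact h
    · right; right
      -- t * t₁ ∈ T is f (2k' - 2k), an element of square one
      have hprod : t * t₁ ∈ T := mul_mem ht ht₁T
      rw [hk', hk, fy_even_mul d] at hprod
      have h2 := hsq _ hprod
      rw [← f_add d, f_eq_one_iff d] at h2
      have h3 : 2 * (2 * k' - 2 * k) = 0 := by linear_combination h2
      rcases (two_mul_eq_zero_iff (by omega) _).mp h3 with h4 | h4
      · left; rw [hk']; congr 2; linear_combination h4
      · right; rw [hk']; congr 2; linear_combination h4
  apply Set.eq_of_subset_of_ncard_le hsub _ (Set.toFinite _)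
  rw [hcard]
  unfold kset
  refine (Set.ncard_insert_le _ _).trans ?_
  refine (Nat.succ_le_succ (Set.ncard_insert_le _ _)).trans ?_
  refine (Nat.succ_le_succ (Nat.succ_le_succ (Set.ncard_insert_le _ _))).trans ?_
  rw [Set.ncard_singleton]

/-- conjugation by `f j` maps `kset k` to `kset (k + j * (1 + q) ...)`. We only need: conjugating
`f (2k) y` and `f (2k + h) y` by `f ((k' - k) (1 + q))`. -/
theorem conj_kset (d : Data S n x y) (k k' : ZMod (2 ^ n)) (i : ZMod (2 ^ n)) :
    f x n ((k' - k) * (1 + qt n)) * (f x n (2 * k + i) * y) * (f x n ((k' - k) * (1 + qt n)))⁻¹ =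
      f x n (2 * k' + i) * y := by
  rw [conj_f_fy d]; congr 2
  have := two_sub_hf_mul (n := n) d.hn
  linear_combination (k' - k) * this

/-- `z` is central. -/
theorem z_central [Finite S] (d : Data S n x y) (g : S) :
    g * f x n (hf n) * g⁻¹ = f x n (hf n) := by
  have hn := d.hn
  rcases normal_form d g with ⟨i, rfl⟩ | ⟨i, rfl⟩
  · exact conj_f_f d _ _
  · rw [conj_fy_f d]; congr 1
    have h1 := hf_mul_hf (n := n) (by omega)
    have h2 := two_mul_hf (n := n) (by omega)
    unfold ep; linear_combination h1 - h2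

/-- The centralizer of `a = f (2k) y`. -/
theorem cent_a [Finite S] (d : Data S n x y) (k : ZMod (2 ^ n)) (s : S)
    (hs : s * (f x n (2 * k) * y) * s⁻¹ = f x n (2 * k) * y) : s ∈ kset x y n k := by
  have hn := d.hn
  rw [mem_kset]
  have hfy_inj : ∀ a b : ZMod (2 ^ n), f x n a * y = f x n b * y → a = b := by
    intro a b h
    exact f_injective d (mul_right_cancel h)
  rcases normal_form d s with ⟨j, rfl⟩ | ⟨j, rfl⟩
  · rw [conj_f_fy d] at hs
    have h1 := hfy_inj _ _ hs
    have h2 : (2 - hf n) * j = 0 := by linear_combination h1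
    have h3 : 2 * j = 0 := by
      have := two_sub_hf_mul (n := n) hn
      linear_combination (1 + qt n) * h2 - j * this
    rcases (two_mul_eq_zero_iff (by omega) _).mp h3 with h4 | h4
    · left; rw [h4, f_zero d]
    · right; left; rw [h4]
  · rw [conj_fy_fy d] at hs
    have h1 := hfy_inj _ _ hs
    have h2 : (2 - hf n) * (j - 2 * k) = 0 := by
      unfold ep at h1; linear_combination h1
    have h3 : 2 * (j - 2 * k) = 0 := by
      have := two_sub_hf_mul (n := n) hn
      linear_combination (1 + qt n) * h2 - (j - 2 * k) * this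
    rcases (two_mul_eq_zero_iff (by omega) _).mp h3 with h4 | h4
    · right; right; left; congr 2; linear_combination h4
    · right; right; right; congr 2; linear_combination h4

/-- `kset k` is commutative: its elements centralize `a`. -/
theorem kset_comm_a [Finite S] (d : Data S n x y) (k : ZMod (2 ^ n)) (s : S) (hs : s ∈ kset x y n k) :
    s * (f x n (2 * k) * y) * s⁻¹ = f x n (2 * k) * y := by
  have hn := d.hn
  rw [mem_kset] at hs
  rcases hs with rfl | rfl | rfl | rfl
  · group
  · rw [conj_f_fy d]; congr 2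
    have h1 := hf_mul_hf (n := n) (by omega)
    have h2 := two_mul_hf (n := n) (by omega)
    linear_combination h2 - h1
  · group
  · rw [conj_fy_fy d]; congr 2
    have h1 := hf_mul_hf (n := n) (by omega)
    have h2 := two_mul_hf (n := n) (by omega)
    unfold ep; linear_combination h2 - h1

theorem map_conj_eq_of_forall [Finite S] (T T' : Subgroup S) (hcard : Nat.card T' ≤ Nat.card T) (g : S)
    (h : ∀ t ∈ T, g * t * g⁻¹ ∈ T') : T.map (MulAut.conj g).toMonoidHom = T' := by
  apply Subgroup.eq_of_le_of_card_ge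
  · intro u hu
    rw [mem_map_conj] at hu
    have := h _ hu
    have e : g * (g⁻¹ * u * g) * g⁻¹ = u := by group
    rwa [e] at this
  · rw [card_map_conj]; exact hcard

theorem mem_of_kset [Finite S] {T : Subgroup S} {k : ZMod (2 ^ n)} (hT : (T : Set S) = kset x y n k)
    {t : S} : t ∈ T ↔ t ∈ kset x y n k := by
  rw [← hT]; rfl

theorem qt_ne_zero (hn : 3 ≤ n) : qt n ≠ 0 := by
  intro h
  have := two_mul_qt (n := n) (by omega)
  rw [h, mul_zero] at this
  exact hf_ne_zero (by omega) this.symm

theorem qt_ne_hf (hn : 3 ≤ n) : qt n ≠ hf n := by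
  intro h
  have h1 := two_mul_qt (n := n) (by omega)
  have h2 := two_mul_hf (n := n) (by omega)
  rw [h, h2] at h1
  exact hf_ne_zero (by omega) h1.symm

theorem part1 [Finite S] (d : Data S n x y) (T₁ T₂ : Subgroup S) (h₁ : IsKleinFour T₁)
    (h₂ : IsKleinFour T₂) : ∃ s : S, T₁.map (MulAut.conj s).toMonoidHom = T₂ := by
  obtain ⟨k₁, hk₁⟩ := klein_char d T₁ h₁
  obtain ⟨k₂, hk₂⟩ := klein_char d T₂ h₂
  refine ⟨f x n ((k₂ - k₁) * (1 + qt n)), ?_⟩
  apply map_conj_eq_of_forall
  · rw [h₁.card_four, h₂.card_four]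
  · intro t ht
    rw [mem_of_kset hk₁, mem_kset] at ht
    rw [mem_of_kset hk₂, mem_kset]
    rcases ht with rfl | rfl | rfl | rfl
    · left; group
    · right; left; exact z_central d _
    · right; right; left
      have := conj_kset d k₁ k₂ 0
      simpa using this
    · right; right; right
      exact conj_kset d k₁ k₂ (hf n)

theorem part2 [Finite S] (d : Data S n x y) (T : Subgroup S) (hT : IsKleinFour T) :
    Subgroup.centralizer (T : Set S) = T ∧ T.relIndex (Subgroup.normalizer (T : Set S)) = 2 := by
  have hn := d.hn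
  obtain ⟨k, hk⟩ := klein_char d T hT
  have haT : f x n (2 * k) * y ∈ T := by
    rw [mem_of_kset hk, mem_kset]; right; right; left; rfl
  have hcent : ∀ s : S, s * (f x n (2 * k) * y) * s⁻¹ = f x n (2 * k) * y ↔ s ∈ T := by
    intro s
    rw [mem_of_kset hk]
    exact ⟨cent_a d k s, kset_comm_a d k s⟩
  constructor
  · apply le_antisymm
    · intro s hs
      rw [Subgroup.mem_centralizer_iff] at hs
      have := hs _ haT
      rw [← hcent]
      rw [← this]; group
    · intro s hs
      rw [Subgroup.mem_centralizer_iff]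
      intro t ht
      have hc := (IsKleinFour.isMulCommutative (G := T)).is_comm.comm ⟨t, ht⟩ ⟨s, hs⟩
      exact congrArg Subtype.val hc
  · -- f q normalizes T
    have hq2 : (2 - hf n) * qt n = hf n := by
      have h1 := two_mul_qt (n := n) (by omega)
      have h2 := hf_mul_qt (n := n) hn
      linear_combination h1 - h2
    have hqN : f x n (qt n) ∈ Subgroup.normalizer (T : Set S) := by
      rw [← map_conj_eq_iff_mem_normalizer]
      apply map_conj_eq_of_forall _ _ le_rfl
      intro t ht
      rw [mem_of_kset hk, mem_kset] at ht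
      rw [mem_of_kset hk, mem_kset]
      rcases ht with rfl | rfl | rfl | rfl
      · left; group
      · right; left; exact z_central d _
      · right; right; right
        rw [conj_f_fy d, hq2]
      · right; right; left
        rw [conj_f_fy d, hq2]; congr 2
        have := two_mul_hf (n := n) (by omega)
        linear_combination this
    have hqT : f x n (qt n) ∉ T := by
      rw [mem_of_kset hk, mem_kset]
      rintro (h | h | h | h)
      · exact qt_ne_zero hn ((f_eq_one_iff d _).mp h)
      · exact qt_ne_hf hn (f_injective d h)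
      · exact f_mul_y_ne_f d _ _ h.symm
      · exact f_mul_y_ne_f d _ _ h.symm
    -- conjugating a by f q gives z a
    have hqa : f x n (qt n) * (f x n (2 * k) * y) * (f x n (qt n))⁻¹ = f x n (2 * k + hf n) * y := by
      rw [conj_f_fy d, hq2]
    have hza : f x n (2 * k + hf n) * y = f x n (hf n) * (f x n (2 * k) * y) := by
      rw [f_mul_fy d]; congr 2; ring
    rw [Subgroup.relIndex, Subgroup.index_eq_two_iff]
    refine ⟨⟨f x n (qt n), hqN⟩, ?_⟩
    rintro ⟨b, hb⟩
    simp only [Subgroup.mem_subgroupOf, Subgroup.coe_mul]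
    -- b a b⁻¹ ∈ T
    have hbab : b * (f x n (2 * k) * y) * b⁻¹ ∈ T :=
      (Subgroup.mem_normalizer_iff.mp hb _).mp haT
    rw [mem_of_kset hk, mem_kset] at hbab
    rcases hbab with h | h | h | h
    · exfalso
      have : f x n (2 * k) * y = 1 := by
        have e : f x n (2 * k) * y = b⁻¹ * (b * (f x n (2 * k) * y) * b⁻¹) * b := by group
        rw [e, h]; group
      exact fy_ne_one d _ this
    · exfalso
      have : f x n (2 * k) * y = f x n (hf n) := by
        have e : f x n (2 * k) * y = b⁻¹ * (b * (f x n (2 * k) * y) * b⁻¹) * b⁻¹⁻¹ := by group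
        rw [e, h, z_central d]
      exact f_mul_y_ne_f d _ _ this
    · -- b centralizes a, so b ∈ T
      have hbT : b ∈ T := (hcent b).mp h
      right
      refine ⟨hbT, ?_⟩
      intro hc
      apply hqT
      have e : f x n (qt n) = b⁻¹ * (b * f x n (qt n)) := by group
      rw [e]; exact mul_mem (inv_mem hbT) hc
    · -- b a b⁻¹ = z a
      left
      constructor
      · rw [← hcent]
        calc b * f x n (qt n) * (f x n (2 * k) * y) * (b * f x n (qt n))⁻¹
            = b * (f x n (qt n) * (f x n (2 * k) * y) * (f x n (qt n))⁻¹) * b⁻¹ := by group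
          _ = b * (f x n (hf n) * (f x n (2 * k) * y)) * b⁻¹ := by rw [hqa, hza]
          _ = (b * f x n (hf n) * b⁻¹) * (b * (f x n (2 * k) * y) * b⁻¹) := by group
          _ = f x n (hf n) * (f x n (hf n) * (f x n (2 * k) * y)) := by rw [z_central d, h, hza]
          _ = f x n (2 * k) * y := by rw [← mul_assoc, fhf_mul_self d, one_mul]
      · intro hbT
        have := (hcent b).mpr hbT
        rw [h] at this
        have h3 := f_injective d (mul_right_cancel this)
        have : hf n = 0 := by linear_combination h3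
        exact hf_ne_zero (by omega) this


/-- In a quasi-dihedral 2-group S, any two Klein four-subgroups are conjugate, and every Klein four-subgroup T satisfies C_S(T) = T and |N_S(T) : T| = 2. -/
theorem result {S : Type*} [Group S] [Finite S] (hS : Cfsg.IsQuasiDihedral S) : (∀ T₁ T₂ : Subgroup S, IsKleinFour T₁ → IsKleinFour T₂ → ∃ s : S, T₁.map (MulAut.conj s).toMonoidHom = T₂) ∧ (∀ T : Subgroup S, IsKleinFour T → Subgroup.centralizer (T : Set S) = T ∧ T.relIndex (Subgroup.normalizer (T : Set S)) = 2) := by
  obtain ⟨n, x, y, d⟩ := exists_data hS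
  exact ⟨fun T₁ T₂ h₁ h₂ => part1 d T₁ T₂ h₁ h₂, fun T hT => part2 d T hT⟩

end Cfsg.Agent.S1190
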