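import Cfsg.Statements.S1193
import Cfsg.Agent.Lib.Helper20.QDSub
import Cfsg.Agent.Lib.Helper1.PGroupMax
import Cfsg.Agent.S1190

set_option autoImplicit false
open Cfsg

namespace Cfsg.Agent.S1193

open Cfsg.Agent.Lib.Helper20 Cfsg.Agent.Lib.Helper20.QD
open scoped commutatorElement

variable {S : Type*} [Group S] {n : ℕ} {x y : S}

theorem two_ne_hf (hn : 3 ≤ n) : (2 : ZMod (2 ^ n)) ≠ hf n := by
  intro h2
  have h3 := two_mul_hf (n := n) (by omega)
  rw [← h2] at h3
  have h4 : ((4 : ℕ) : ZMod (2 ^ n)) = 0 := by push_cast; linear_combination h3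
  rw [ZMod.natCast_eq_zero_iff] at h4
  have h5 : 2 ^ 3 ≤ 2 ^ n := Nat.pow_le_pow_right (by norm_num) hn
  have := Nat.le_of_dvd (by norm_num) h4
  omega

theorem mem_Phi_iff_deg [Finite S] (d : Data S n x y) (s : S) : s ∈ Phi d ↔ deg d s = 0 := by
  unfold Phi M1 M3
  rw [Subgroup.mem_inf, mem_K, mem_K]
  have key : ∀ v : ZMod 2 × ZMod 2, (0 * v.1 + 1 * v.2 = 0 ∧ 1 * v.1 + 0 * v.2 = 0) ↔ v = 0 := by
    decide
  exact key _

theorem commutator_le_Phi [Finite S] (d : Data S n x y) : commutator S ≤ Phi d := by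
  rw [commutator_def, Subgroup.commutator_le]
  intro g₁ _ g₂ _
  rw [mem_Phi_iff_deg, commutatorElement_def, deg_mul, deg_mul, deg_mul, deg_inv, deg_inv]
  have key : ∀ u v : ZMod 2 × ZMod 2, u + v + u + v = 0 := by decide
  exact key _ _

theorem Phi_le_commutator [Finite S] (d : Data S n x y) : Phi d ≤ commutator S := by
  intro s hs
  rw [mem_Phi] at hs
  obtain ⟨j, rfl⟩ := hs
  have h : ⁅y, f x n (-(1 + qt n) * j)⁆ = f x n (2 * j) := by
    rw [commutatorElement_def, y_conj_f d, ← f_neg d, ← f_add d]; congr 1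
    have := two_sub_hf_mul (n := n) d.hn
    unfold ep; linear_combination j * this
  rw [← h, commutator_def]
  exact Subgroup.commutator_mem_commutator (Subgroup.mem_top _) (Subgroup.mem_top _)

theorem commutator_eq_Phi [Finite S] (d : Data S n x y) : commutator S = Phi d :=
  le_antisymm (commutator_le_Phi d) (Phi_le_commutator d)

theorem frattini_eq_Phi [Finite S] (d : Data S n x y) : frattini S = Phi d := by
  have hp : IsPGroup 2 S := IsPGroup.of_card d.card
  have : Fact (Nat.Prime 2) := ⟨Nat.prime_two⟩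
  apply le_antisymm
  · unfold Phi
    exact le_inf (frattini_le_coatom (isCoatom_of_index_two (M1_index d)))
      (frattini_le_coatom (isCoatom_of_index_two (M3_index d)))
  · unfold frattini Order.radical
    refine le_iInf₂ ?_
    intro M hM
    exact Phi_le_of_index_two d M (Cfsg.Agent.Lib.Helper1.coatom_index_of_isPGroup hp hM)

theorem center_cases [Finite S] (d : Data S n x y) (s : S) (hs : s ∈ Subgroup.center S) :
    s = 1 ∨ s = f x n (hf n) := by
  have hn := d.hn
  rw [Subgroup.mem_center_iff] at hs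
  rcases normal_form d s with ⟨i, rfl⟩ | ⟨i, rfl⟩
  · have h1 : y * f x n i * y⁻¹ = f x n i := by rw [hs y]; group
    rw [y_conj_f d] at h1
    have h2 := f_injective d h1
    have h3 : 2 * i = 0 := by
      have := two_sub_hf_mul (n := n) hn
      unfold ep at h2
      linear_combination (-(1 + qt n)) * h2 - i * this
    rcases (two_mul_eq_zero_iff (by omega) _).mp h3 with h | h
    · left; rw [h, f_zero d]
    · right; rw [h]
  · exfalso
    have h1 : f x n 1 * (f x n i * y) * (f x n 1)⁻¹ = f x n i * y := by rw [hs (f x n 1)]; group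
    rw [conj_f_fy d] at h1
    have h2 := f_injective d (mul_right_cancel h1)
    apply two_ne_hf hn
    linear_combination h2

theorem z_mem_center [Finite S] (d : Data S n x y) : f x n (hf n) ∈ Subgroup.center S := by
  rw [Subgroup.mem_center_iff]
  intro g
  have := Cfsg.Agent.S1190.z_central d g
  calc g * f x n (hf n) = (g * f x n (hf n) * g⁻¹) * g := by group
    _ = f x n (hf n) * g := by rw [this]

theorem center_card [Finite S] (d : Data S n x y) : Nat.card (Subgroup.center S) = 2 := by
  rw [Nat.card_eq_two_iff' (1 : Subgroup.center S)]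
  refine ⟨⟨f x n (hf n), z_mem_center d⟩, ?_, ?_⟩
  · intro h
    exact fhf_ne_one d (congrArg Subtype.val h)
  · rintro ⟨s, hs⟩ hne
    rcases center_cases d s hs with h | h
    · exact absurd (Subtype.ext h) hne
    · exact Subtype.ext h

theorem closure_invol_eq_M3 [Finite S] (d : Data S n x y) :
    Subgroup.closure {t : S | orderOf t = 2} = M3 d := by
  have hn := d.hn
  apply le_antisymm
  · rw [Subgroup.closure_le]
    intro t ht
    have ht' : orderOf t = 2 := ht
    rw [QD.orderOf_eq_two_iff] at ht'
    show t ∈ M3 d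
    rw [mem_M3]
    rcases Cfsg.Agent.S1190.invol_char d t ht'.1 ht'.2 with h | ⟨k, hk⟩
    · left; refine ⟨qt n, ?_⟩
      rw [h, two_mul_qt (by omega)]
    · right; exact ⟨k, hk⟩
  · intro s hs
    rw [mem_M3] at hs
    have hy : y ∈ Subgroup.closure {t : S | orderOf t = 2} := Subgroup.subset_closure d.oy
    have hfy : ∀ j, f x n (2 * j) * y ∈ Subgroup.closure {t : S | orderOf t = 2} :=
      fun j => Subgroup.subset_closure (orderOf_fy_even d j)
    rcases hs with ⟨j, rfl⟩ | ⟨j, rfl⟩
    · have : f x n (2 * j) = (f x n (2 * j) * y) * y := by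
        rw [mul_assoc, y_mul_self d, mul_one]
      rw [this]
      exact mul_mem (hfy j) hy
    · exact hfy j


/-- Let S be quasi-dihedral of order 2^(n+1). Then S' = Φ(S) is cyclic of order 2^(n-1), the centre of S has order 2, and the subgroup generated by the involutions of S is dihedral of order 2^n. -/
theorem result {S : Type*} [Group S] [Finite S] (hS : Cfsg.IsQuasiDihedral S) (n : ℕ) (hn : Nat.card S = 2 ^ (n + 1)) : commutator S = frattini S ∧ IsCyclic (commutator S) ∧ Nat.card (commutator S) = 2 ^ (n - 1) ∧ Nat.card (Subgroup.center S) = 2 ∧ Nonempty (↥(Subgroup.closure {x : S | orderOf x = 2}) ≃* DihedralGroup (2 ^ (n - 1))) := by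
  obtain ⟨n', x, y, d⟩ := exists_data hS
  have hnn : n' = n := by
    have h := d.card
    rw [hn] at h
    have := Nat.pow_right_injective (le_refl 2) h
    omega
  subst hnn
  refine ⟨?_, ?_, ?_, center_card d, ?_⟩
  · rw [commutator_eq_Phi d, frattini_eq_Phi d]
  · rw [commutator_eq_Phi d]; exact Phi_isCyclic d
  · rw [commutator_eq_Phi d]; exact Phi_card d
  · rw [closure_invol_eq_M3 d]; exact M3_iso d

end Cfsg.Agent.S1193
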