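import Cfsg.Statements.S1191
import Cfsg.Agent.Lib.Helper20.QuasiDihedral
import Cfsg.Agent.Lib.Helper20.ConjMap
import Cfsg.Agent.S1190

set_option autoImplicit false
open Cfsg

namespace Cfsg.Agent.S1191

open Cfsg.Agent.Lib.Helper20 Cfsg.Agent.Lib.Helper20.QD

theorem q8a : ∀ g : QuaternionGroup 2, g ^ 4 = 1 := by decide
theorem q8b : ∀ g : QuaternionGroup 2, g * g = 1 → g = 1 ∨ g = QuaternionGroup.a 2 := by decide
theorem q8d : ∀ t : QuaternionGroup 2, t * t ≠ 1 → ∃ u, u * t ≠ t * u := by decide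
theorem q8e : (QuaternionGroup.a 1 : QuaternionGroup 2) * QuaternionGroup.a 1 ≠ 1 := by decide
theorem q8f : (QuaternionGroup.a 2 : QuaternionGroup 2) ≠ 1 ∧
    (QuaternionGroup.a 2 : QuaternionGroup 2) * QuaternionGroup.a 2 = 1 := by decide

theorem q8_facts {Q : Type*} [Group Q] (e : Q ≃* QuaternionGroup 2) :
    (∀ g : Q, g ^ 4 = 1) ∧ (∃ z : Q, z ≠ 1 ∧ z * z = 1 ∧ (∀ g : Q, g * g = 1 → g = 1 ∨ g = z)) ∧
    (∀ t : Q, t * t ≠ 1 → ∃ u, u * t ≠ t * u) ∧ ∃ g : Q, g * g ≠ 1 := by
  refine ⟨?_, ⟨e.symm (QuaternionGroup.a 2), ?_, ?_, ?_⟩, ?_, ⟨e.symm (QuaternionGroup.a 1), ?_⟩⟩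
  · intro g; apply e.injective; rw [map_pow, map_one]; exact q8a _
  · intro h
    have := congrArg e h
    rw [e.apply_symm_apply, map_one] at this
    exact q8f.1 this
  · apply e.injective; rw [map_mul, e.apply_symm_apply, map_one]; exact q8f.2
  · intro g hg
    have := congrArg e hg
    rw [map_mul, map_one] at this
    rcases q8b _ this with h | h
    · left; apply e.injective; rw [h, map_one]
    · right; apply e.injective; rw [h, e.apply_symm_apply]
  · intro t ht
    have : e t * e t ≠ 1 := by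
      intro h; apply ht; apply e.injective; rw [map_mul, h, map_one]
    obtain ⟨u, hu⟩ := q8d _ this
    refine ⟨e.symm u, ?_⟩
    intro h; apply hu
    have := congrArg e h
    rwa [map_mul, map_mul, e.apply_symm_apply] at this
  · intro h
    have := congrArg e h
    rw [map_mul, e.apply_symm_apply, map_one] at this
    exact q8e this

variable {S : Type*} [Group S] {n : ℕ} {x y : S}

theorem four_mul_eq_zero_iff (hn : 3 ≤ n) (j : ZMod (2 ^ n)) :
    4 * j = 0 ↔ j = 0 ∨ j = hf n ∨ j = qt n ∨ j = qt n + hf n := by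
  have e : (4 : ZMod (2 ^ n)) * j = 2 * (2 * j) := by ring
  rw [e, two_mul_eq_zero_iff (by omega), two_mul_eq_zero_iff (by omega),
    two_mul_eq_hf_iff (by omega)]
  tauto

theorem four_mul_hf (hn : 3 ≤ n) : 4 * hf n = 0 := by
  have := two_mul_hf (n := n) (by omega)
  linear_combination 2 * this

theorem sq_eq_z_of_order_four [Finite S] (d : Data S n x y) (g : S) (h4 : g ^ 4 = 1)
    (h2 : g * g ≠ 1) : g * g = f x n (hf n) := by
  have hn := d.hn
  rcases normal_form d g with ⟨j, rfl⟩ | ⟨j, rfl⟩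
  · rw [f_pow d, f_eq_one_iff d] at h4
    push_cast at h4
    have : 2 * (j + j) = 0 := by linear_combination h4
    rw [← f_add d] at h2 ⊢
    rcases (two_mul_eq_zero_iff (by omega) _).mp this with h | h
    · exfalso; apply h2; rw [h, f_zero d]
    · rw [h]
  · rw [fy_mul_self d] at h2 ⊢
    rcases even_or_odd j with ⟨k, rfl⟩ | ⟨k, rfl⟩
    · exfalso; apply h2; rw [hf_mul_even (by omega), f_zero d]
    · rw [hf_mul_odd (by omega)]

/-- `Q` is the quaternion subgroup `Q_i`. -/
def IsQ (x y : S) (n : ℕ) (i : ZMod (2 ^ n)) (Q : Subgroup S) : Prop :=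
  ∀ s, s ∈ Q ↔ (∃ j, 4 * j = 0 ∧ s = f x n j) ∨ (∃ j, 4 * j = 0 ∧ s = f x n (i + j) * y)

theorem IsQ.f_mem {i : ZMod (2 ^ n)} {Q : Subgroup S} (d : Data S n x y) (h : IsQ x y n i Q)
    (m : ZMod (2 ^ n)) : f x n m ∈ Q ↔ 4 * m = 0 := by
  rw [h]
  constructor
  · rintro (⟨j, hj, e⟩ | ⟨j, hj, e⟩)
    · rw [f_injective d e]; exact hj
    · exact absurd e.symm (f_mul_y_ne_f d _ _)
  · intro hm; left; exact ⟨m, hm, rfl⟩

theorem IsQ.fy_mem {i : ZMod (2 ^ n)} {Q : Subgroup S} (d : Data S n x y) (h : IsQ x y n i Q)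
    (m : ZMod (2 ^ n)) : f x n m * y ∈ Q ↔ 4 * (m - i) = 0 := by
  rw [h]
  constructor
  · rintro (⟨j, hj, e⟩ | ⟨j, hj, e⟩)
    · exact absurd e (f_mul_y_ne_f d _ _)
    · have := f_injective d (mul_right_cancel e)
      rw [this]; linear_combination hj
  · intro hm; right
    exact ⟨m - i, hm, by congr 2; ring⟩

theorem z_comm [Finite S] (d : Data S n x y) (g : S) : g * f x n (hf n) = f x n (hf n) * g := by
  have := Cfsg.Agent.S1190.z_central d g
  calc g * f x n (hf n) = (g * f x n (hf n) * g⁻¹) * g := by group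
    _ = f x n (hf n) * g := by rw [this]

theorem ep_mul_hf (hn : 3 ≤ n) : ep n * hf n = hf n := by
  have h1 := hf_mul_hf (n := n) (by omega)
  have h2 := two_mul_hf (n := n) (by omega)
  unfold ep; linear_combination h1 - h2

theorem quat_char [Finite S] (d : Data S n x y) (Q : Subgroup S)
    (hQ : Nonempty (Q ≃* QuaternionGroup 2)) : ∃ k, IsQ x y n (2 * k + 1) Q := by
  have hn := d.hn
  obtain ⟨e⟩ := hQ
  obtain ⟨h4, ⟨z', hz1, hzz, hzu⟩, hnc, ⟨g, hg⟩⟩ := q8_facts e
  have hgz : (g : S) * g = f x n (hf n) := by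
    apply sq_eq_z_of_order_four d
    · have := congrArg Subtype.val (h4 g)
      simpa using this
    · intro h; apply hg; exact Subtype.ext h
  have hzQ : f x n (hf n) ∈ Q := by rw [← hgz]; exact (g * g).2
  have hinv : ∀ s ∈ Q, s * s = 1 → s = 1 ∨ s = f x n (hf n) := by
    intro s hs hss
    have h1 := hzu ⟨s, hs⟩ (Subtype.ext hss)
    have h2 := hzu ⟨_, hzQ⟩ (Subtype.ext (fhf_mul_self d))
    rcases h2 with h2 | h2
    · exfalso; exact fhf_ne_one d (congrArg Subtype.val h2)
    · rcases h1 with h1 | h1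
      · left; exact congrArg Subtype.val h1
      · right; rw [← h2] at h1; exact congrArg Subtype.val h1
  have hnoeven : ∀ k, f x n (2 * k) * y ∉ Q := by
    intro k hk
    have hss : (f x n (2 * k) * y) * (f x n (2 * k) * y) = 1 := by
      rw [fy_mul_self d, hf_mul_even (by omega), f_zero d]
    rcases hinv _ hk hss with h | h
    · exact fy_ne_one d _ h
    · exact f_mul_y_ne_f d _ _ h
  have hfj : ∀ j, f x n j ∈ Q → 4 * j = 0 := by
    intro j hj
    have := congrArg Subtype.val (h4 ⟨_, hj⟩)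
    simp only [Subgroup.coe_pow, Subgroup.coe_one] at this
    rw [f_pow d, f_eq_one_iff d] at this
    push_cast at this; exact this
  have ht : ∃ i, f x n i * y ∈ Q := by
    obtain ⟨u, hu⟩ := hnc g hg
    by_contra hc
    push Not at hc
    have hall : ∀ s : Q, ∃ j, (s : S) = f x n j := by
      intro s
      rcases normal_form d (s : S) with h | ⟨i, hi⟩
      · exact h
      · exfalso; apply hc i; rw [← hi]; exact s.2
    obtain ⟨j1, h1⟩ := hall u
    obtain ⟨j2, h2⟩ := hall g
    apply hu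
    apply Subtype.ext
    show (u : S) * g = g * u
    rw [h1, h2, ← f_add d, ← f_add d, add_comm]
  obtain ⟨i, hi⟩ := ht
  rcases even_or_odd i with ⟨k, rfl⟩ | ⟨k, rfl⟩
  · exact absurd hi (hnoeven k)
  refine ⟨k, ?_⟩
  have hsub : ∀ s ∈ Q, (∃ j, 4 * j = 0 ∧ s = f x n j) ∨
      (∃ j, 4 * j = 0 ∧ s = f x n (2 * k + 1 + j) * y) := by
    intro s hs
    rcases normal_form d s with ⟨j, rfl⟩ | ⟨j, rfl⟩
    · left; exact ⟨j, hfj j hs, rfl⟩
    · right
      have h1 : (f x n j * y) * (f x n (2 * k + 1) * y)⁻¹ ∈ Q := mul_mem hs (inv_mem hi)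
      rw [fy_inv d, fy_mul_fy d] at h1
      have e1 : j + ep n * -(ep n * (2 * k + 1)) = j - (2 * k + 1) := by
        have := ep_mul_ep (n := n) (by omega)
        linear_combination (-(2 * k + 1)) * this
      rw [e1] at h1
      refine ⟨j - (2 * k + 1), hfj _ h1, ?_⟩
      congr 2; ring
  have hq : f x n (qt n) ∈ Q := by
    have htt : (⟨_, hi⟩ : Q) * ⟨_, hi⟩ ≠ 1 := by
      intro h
      have := congrArg Subtype.val h
      simp only [Subgroup.coe_mul, Subgroup.coe_one] at this
      rw [fy_mul_self d, hf_mul_odd (by omega)] at this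
      exact fhf_ne_one d this
    obtain ⟨u, hu⟩ := hnc _ htt
    have hu' : (u : S) * (f x n (2 * k + 1) * y) ≠ (f x n (2 * k + 1) * y) * u := by
      intro h; apply hu; exact Subtype.ext h
    have hqh : f x n (qt n + hf n) ∈ Q → f x n (qt n) ∈ Q := by
      intro h
      have := mul_mem h hzQ
      rw [← f_add d] at this
      have e2 : qt n + hf n + hf n = qt n := by
        have := two_mul_hf (n := n) (by omega); linear_combination this
      rwa [e2] at this
    rcases hsub u u.2 with ⟨j, hj4, huj⟩ | ⟨j, hj4, huj⟩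
    · rcases (four_mul_eq_zero_iff hn j).mp hj4 with h | h | h | h
      · exfalso; apply hu'; rw [huj, h, f_zero d]; group
      · exfalso; apply hu'; rw [huj, h]; exact (z_comm d _).symm
      · rw [← h, ← huj]; exact u.2
      · apply hqh; rw [← h, ← huj]; exact u.2
    · have h1 : (u : S) * (f x n (2 * k + 1) * y)⁻¹ ∈ Q := mul_mem u.2 (inv_mem hi)
      rw [huj, fy_inv d, fy_mul_fy d] at h1
      have e1 : 2 * k + 1 + j + ep n * -(ep n * (2 * k + 1)) = j := by
        have := ep_mul_ep (n := n) (by omega)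
        linear_combination (-(2 * k + 1)) * this
      rw [e1] at h1
      rcases (four_mul_eq_zero_iff hn j).mp hj4 with h | h | h | h
      · exfalso; apply hu'; rw [huj, h, add_zero]
      · exfalso; apply hu'; rw [huj, h, fy_mul_fy d, fy_mul_fy d]; congr 1
        have := ep_mul_hf (n := n) hn
        linear_combination -this
      · rw [← h]; exact h1
      · apply hqh; rw [← h]; exact h1
  have hfj' : ∀ j, 4 * j = 0 → f x n j ∈ Q := by
    intro j hj
    rcases (four_mul_eq_zero_iff hn j).mp hj with h | h | h | h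
    · rw [h, f_zero d]; exact one_mem _
    · rw [h]; exact hzQ
    · rw [h]; exact hq
    · rw [h, f_add d]; exact mul_mem hq hzQ
  intro s
  constructor
  · exact hsub s
  · rintro (⟨j, hj, rfl⟩ | ⟨j, hj, rfl⟩)
    · exact hfj' j hj
    · have : f x n (2 * k + 1 + j) * y = f x n j * (f x n (2 * k + 1) * y) := by
        rw [← mul_assoc, ← f_add d]; congr 2; ring
      rw [this]; exact mul_mem (hfj' j hj) hi

theorem part1 [Finite S] (d : Data S n x y) (Q₁ Q₂ : Subgroup S)
    (h₁ : Nonempty (Q₁ ≃* QuaternionGroup 2)) (h₂ : Nonempty (Q₂ ≃* QuaternionGroup 2)) :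
    ∃ s : S, Q₁.map (MulAut.conj s).toMonoidHom = Q₂ := by
  have hn := d.hn
  obtain ⟨k₁, hk₁⟩ := quat_char d Q₁ h₁
  obtain ⟨k₂, hk₂⟩ := quat_char d Q₂ h₂
  obtain ⟨e₁⟩ := h₁
  obtain ⟨e₂⟩ := h₂
  refine ⟨f x n ((k₂ - k₁) * (1 + qt n)), ?_⟩
  apply Cfsg.Agent.S1190.map_conj_eq_of_forall
  · rw [Nat.card_congr e₁.toEquiv, Nat.card_congr e₂.toEquiv]
  · intro t ht
    rcases normal_form d t with ⟨j, rfl⟩ | ⟨j, rfl⟩
    · rw [conj_f_f d]
      rw [hk₁.f_mem d] at ht
      rw [hk₂.f_mem d]; exact ht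
    · rw [conj_f_fy d]
      rw [hk₁.fy_mem d] at ht
      rw [hk₂.fy_mem d]
      have := two_sub_hf_mul (n := n) hn
      linear_combination ht + 4 * (k₂ - k₁) * this

theorem centralizer_cases [Finite S] (d : Data S n x y) (Q : Subgroup S) (k : ZMod (2 ^ n))
    (hk : IsQ x y n (2 * k + 1) Q) (s : S) (hs : s ∈ Subgroup.centralizer (Q : Set S)) :
    s = 1 ∨ s = f x n (hf n) := by
  have hn := d.hn
  rw [Subgroup.mem_centralizer_iff] at hs
  have hiQ : f x n (2 * k + 1) * y ∈ Q := by rw [hk.fy_mem d]; ring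
  have hqQ : f x n (qt n) ∈ Q := by
    rw [hk.f_mem d]
    have := two_mul_qt (n := n) (by omega)
    have h2 := two_mul_hf (n := n) (by omega)
    linear_combination 2 * this + h2
  rcases normal_form d s with ⟨m, rfl⟩ | ⟨m, rfl⟩
  · have h1 : f x n m * (f x n (2 * k + 1) * y) * (f x n m)⁻¹ = f x n (2 * k + 1) * y := by
      rw [← hs _ hiQ]; group
    rw [conj_f_fy d] at h1
    have h2 := f_injective d (mul_right_cancel h1)
    have h3 : 2 * m = 0 := by
      have := two_sub_hf_mul (n := n) hn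
      linear_combination (1 + qt n) * h2 - m * this
    rcases (two_mul_eq_zero_iff (by omega) _).mp h3 with h | h
    · left; rw [h, f_zero d]
    · right; rw [h]
  · exfalso
    have h1 : (f x n m * y) * f x n (qt n) * (f x n m * y)⁻¹ = f x n (qt n) := by
      rw [← hs _ hqQ]; group
    rw [conj_fy_f d] at h1
    have h2 := f_injective d h1
    have h3 : hf n = 0 := by
      have h4 := two_mul_qt (n := n) (by omega)
      have h5 := hf_mul_qt (n := n) hn
      unfold ep at h2
      linear_combination h5 - h2 - h4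
    exact hf_ne_zero (by omega) h3

theorem part2a [Finite S] (d : Data S n x y) (Q : Subgroup S) (k : ZMod (2 ^ n))
    (hk : IsQ x y n (2 * k + 1) Q) :
    Subgroup.centralizer (Q : Set S) = (Subgroup.center Q).map Q.subtype := by
  have hn := d.hn
  have h1Q : (1 : S) ∈ Q := one_mem _
  have hzQ : f x n (hf n) ∈ Q := by
    rw [hk.f_mem d]; exact four_mul_hf hn
  ext s
  constructor
  · intro hs
    rw [Subgroup.mem_map]
    rcases centralizer_cases d Q k hk s hs with rfl | rfl
    · exact ⟨1, one_mem _, rfl⟩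
    · refine ⟨⟨_, hzQ⟩, ?_, rfl⟩
      rw [Subgroup.mem_center_iff]
      intro g
      apply Subtype.ext
      exact z_comm d g
  · intro hs
    rw [Subgroup.mem_map] at hs
    obtain ⟨c, hc, rfl⟩ := hs
    rw [Subgroup.mem_center_iff] at hc
    rw [Subgroup.mem_centralizer_iff]
    intro t ht
    have := congrArg Subtype.val (hc ⟨t, ht⟩)
    exact this

theorem xor_lemma (hn : 3 ≤ n) (v : ZMod (2 ^ n)) (hv : 2 * v = 0) :
    Xor (v + hf n = 0) (v = 0) := by
  have h0 := hf_ne_zero (n := n) (by omega)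
  rcases (two_mul_eq_zero_iff (by omega) _).mp hv with h | h
  · right
    refine ⟨h, ?_⟩
    rw [h, zero_add]; exact h0
  · left
    refine ⟨?_, ?_⟩
    · rw [h]
      have := two_mul_hf (n := n) (by omega)
      linear_combination this
    · rw [h]; exact h0

theorem part2b [Finite S] (d : Data S n x y) (Q : Subgroup S) (k : ZMod (2 ^ n))
    (hk : IsQ x y n (2 * k + 1) Q) :
    Q.relIndex (Subgroup.normalizer (Q : Set S)) = 2 := by
  have hn := d.hn
  obtain ⟨e3, he3⟩ := qt_even (n := n) hn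
  have h2q := two_mul_qt (n := n) (by omega)
  have h2h := two_mul_hf (n := n) (by omega)
  have hhq := hf_mul_qt (n := n) hn
  have h4e : 4 * e3 = hf n := by linear_combination h2q - 2 * he3
  have hhe : 4 * (hf n * e3) = 0 := by linear_combination 2 * hhq - 2 * hf n * he3
  have hiQ : f x n (2 * k + 1) * y ∈ Q := by rw [hk.fy_mem d]; ring
  -- `a = f e3` normalizes `Q`
  have ha : f x n e3 ∈ Subgroup.normalizer (Q : Set S) := by
    rw [← map_conj_eq_iff_mem_normalizer]
    apply Cfsg.Agent.S1190.map_conj_eq_of_forall _ _ le_rfl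
    intro t ht
    rcases normal_form d t with ⟨j, rfl⟩ | ⟨j, rfl⟩
    · rw [conj_f_f d]; exact ht
    · rw [conj_f_fy d]
      rw [hk.fy_mem d] at ht ⊢
      linear_combination ht + 2 * h4e - hhe + h2h
  -- elements of the normalizer
  have hN : ∀ b ∈ Subgroup.normalizer (Q : Set S),
      (∃ m, 8 * m = 0 ∧ b = f x n m) ∨ (∃ m, 8 * (m - (2 * k + 1)) = 0 ∧ b = f x n m * y) := by
    intro b hb
    have h1 := (Subgroup.mem_normalizer_iff.mp hb (f x n (2 * k + 1) * y)).mp hiQ
    rcases normal_form d b with ⟨m, rfl⟩ | ⟨m, rfl⟩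
    · left
      refine ⟨m, ?_, rfl⟩
      rw [conj_f_fy d, hk.fy_mem d] at h1
      linear_combination h1 + 2 * m * h2h
    · right
      refine ⟨m, ?_, rfl⟩
      rw [conj_fy_fy d, hk.fy_mem d] at h1
      unfold ep at h1
      linear_combination h1 + 2 * (m - (2 * k + 1)) * h2h
  rw [Subgroup.relIndex, Subgroup.index_eq_two_iff]
  refine ⟨⟨f x n e3, ha⟩, ?_⟩
  rintro ⟨b, hb⟩
  rw [Subgroup.mem_subgroupOf, Subgroup.mem_subgroupOf]
  show Xor (b * f x n e3 ∈ Q) (b ∈ Q)
  rcases hN b hb with ⟨m, hm, rfl⟩ | ⟨m, hm, rfl⟩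
  · rw [← f_add d, hk.f_mem d, hk.f_mem d]
    have e : 4 * (m + e3) = 4 * m + hf n := by linear_combination h4e
    rw [e]
    exact xor_lemma hn _ (by linear_combination hm)
  · rw [fy_mul_f d, hk.fy_mem d, hk.fy_mem d]
    have e : 4 * (m + ep n * e3 - (2 * k + 1)) = 4 * (m - (2 * k + 1)) + hf n := by
      unfold ep
      linear_combination hhe - h4e - h2h
    rw [e]
    exact xor_lemma hn _ (by linear_combination hm)


/-- In a quasi-dihedral 2-group S, any two subgroups isomorphic to the quaternion group of order 8 are conjugate, and each such subgroup Q satisfies C_S(Q) = Z(Q) and |N_S(Q) : Q| = 2. -/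
theorem result {S : Type*} [Group S] [Finite S] (hS : Cfsg.IsQuasiDihedral S) : (∀ Q₁ Q₂ : Subgroup S, Nonempty (Q₁ ≃* QuaternionGroup 2) → Nonempty (Q₂ ≃* QuaternionGroup 2) → ∃ s : S, Q₁.map (MulAut.conj s).toMonoidHom = Q₂) ∧ (∀ Q : Subgroup S, Nonempty (Q ≃* QuaternionGroup 2) → Subgroup.centralizer (Q : Set S) = (Subgroup.center Q).map Q.subtype ∧ Q.relIndex (Subgroup.normalizer (Q : Set S)) = 2) := by
  obtain ⟨n, x, y, d⟩ := exists_data hS
  refine ⟨fun Q₁ Q₂ h₁ h₂ => part1 d Q₁ Q₂ h₁ h₂, fun Q hQ => ?_⟩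
  obtain ⟨k, hk⟩ := quat_char d Q hQ
  exact ⟨part2a d Q k hk, part2b d Q k hk⟩

end Cfsg.Agent.S1191
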