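import Cfsg.Statements.S1049
-- import your own Cfsg.Agent.* helpers here
import Cfsg.Agent.S1047
import Cfsg.Agent.Lib.Helper61.ChevJ.Norm
import Cfsg.Agent.Lib.Helper6.BNParabolic
import Cfsg.Agent.S1042

set_option autoImplicit false
open Cfsg

namespace Cfsg.Agent.S1049

open Cfsg.Lie Cfsg.Agent.Lib.Helper18 Cfsg.Agent.Lib.Helper61.ChevJ Cfsg.Agent.Lib.Helper6

universe u

variable {F : Type u} [Field F] {D : ChevalleyDatum}

theorem parabolic_le_group (hD : D ∈ [chevG2, chevB2, chevD4, chevF4, chevE6, chevE7, chevE8]) (C : ChevData.{u} D)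
    (J : Set ℕ) : D.parabolicSubgroup F J ≤ D.group F := by
  obtain ⟨hBG, hNG, -⟩ := Cfsg.Agent.S1043.result (F := F) D hD
  unfold ChevalleyDatum.parabolicSubgroup
  refine sup_le hBG ?_
  rw [Subgroup.closure_le]
  rintro g ⟨j, -, hj, hg⟩
  have hg' : g = sG hD C j := Units.ext (by rw [hg, coe_sG hD C j hj])
  rw [hg']
  exact hNG (sG_mem_monomial hD C j)

/-- The normaliser of `U_J` in the Chevalley group lies in `P_J`. -/
theorem normalizer_le_parabolic (hD : D ∈ [chevG2, chevB2, chevD4, chevF4, chevE6, chevE7, chevE8])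
    (X : JData.{u} D) (J : Set ℕ) (g : GL D.Idx F)
    (hgN : g ∈ Subgroup.normalizer (D.unipotentRadical F J : Set (GL D.Idx F))) (hgG : g ∈ D.group F) :
    g ∈ D.parabolicSubgroup F J := by
  obtain ⟨hBG, hNG, -⟩ := Cfsg.Agent.S1043.result (F := F) D hD
  obtain ⟨P, hPB, hPN, hPS⟩ := Cfsg.Agent.S1042.exists_bnPair (F := F) D hD X.C
  set M : Subgroup ↥(D.group F) :=
    (Subgroup.normalizer (D.unipotentRadical F J : Set (GL D.Idx F))).subgroupOf (D.group F) with hMdef
  have hBM : P.B ≤ M := by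
    intro b hb
    rw [hPB, Subgroup.mem_subgroupOf] at hb
    rw [hMdef, Subgroup.mem_subgroupOf]
    exact parabolic_le_normalizer hD X J (le_sup_left (a := D.borelSubgroup F) hb)
  have hM := eq_parabolic_of_B_le P hBM
  have hle : M ≤ (D.parabolicSubgroup F J).subgroupOf (D.group F) := by
    rw [hM]
    unfold Cfsg.BNPair.parabolic
    refine sup_le ?_ ?_
    · intro b hb
      rw [hPB, Subgroup.mem_subgroupOf] at hb
      rw [Subgroup.mem_subgroupOf]
      exact le_sup_left (a := D.borelSubgroup F) hb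
    · rw [Subgroup.closure_le]
      rintro s ⟨hsS, hsM⟩
      rw [hPS] at hsS
      obtain ⟨i, hi, hs⟩ := hsS
      have hsi : (s : GL D.Idx F) = sG hD X.C i := Units.ext (by rw [hs, coe_sG hD X.C i hi])
      show s ∈ (D.parabolicSubgroup F J).subgroupOf (D.group F)
      rw [Subgroup.mem_subgroupOf, hsi]
      by_cases hiJ : i ∈ J
      · exact Cfsg.Agent.S1047.sG_mem_parabolic hD X.C J i hi hiJ
      · exfalso
        have hp := X.C.simple_lt i hi
        have hpge := X.C.half_le_simple i hi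
        have hn := X.C.nroots_eq
        have hev := X.C.heven
        have hpos : D.IsPosRoot (D.simple i) := (isPosRoot_iff hD _).mpr ⟨hp, hpge⟩
        have hxU : xG hD (D.simple i) (1 : F) ∈ D.unipotentRadical F J :=
          xG_mem_UJ hD J _ _ hpos (X.not_inRootSub_simple J i hi hiJ)
        rw [hMdef, Subgroup.mem_subgroupOf, hsi, Subgroup.mem_normalizer_iff] at hsM
        have h1 := (hsM (xG hD (D.simple i) (1 : F))).mp hxU
        rw [sG_conj_xG_simple hD X.C i hi] at h1
        refine xG_neg_not_mem_borel hD _ ?_ ?_ _ ?_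
          (borel_of_posUnipotent _ (unipotentRadical_le_posUnipotent J h1))
        · unfold FastDatum.neg; omega
        · unfold FastDatum.neg; omega
        · exact mul_ne_zero (X.C.eta_ne_zero i _) one_ne_zero
  have hgM : (⟨g, hgG⟩ : ↥(D.group F)) ∈ M := by
    rw [hMdef, Subgroup.mem_subgroupOf]
    exact hgN
  have := hle hgM
  rwa [Subgroup.mem_subgroupOf] at this

theorem main (hD : D ∈ [chevG2, chevB2, chevD4, chevF4, chevE6, chevE7, chevE8]) (J : Set ℕ) :
    Subgroup.normalizer (D.unipotentRadical F J : Set (GL D.Idx F)) ⊓ D.group F = D.parabolicSubgroup F J := by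
  obtain ⟨X⟩ := nonempty_jData.{u} D hD
  apply le_antisymm
  · intro g hg
    rw [Subgroup.mem_inf] at hg
    exact normalizer_le_parabolic hD X J g hg.1 hg.2
  · exact le_inf (parabolic_le_normalizer hD X J) (parabolic_le_group hD X.C J)

/-- `N_G(U_J) = P_J`: the normaliser of `U_J` inside the Chevalley group is the standard parabolic subgroup. -/
theorem result {F : Type*} [Field F] (D : Cfsg.Lie.ChevalleyDatum) (hD : D ∈ [Cfsg.Lie.chevG2, Cfsg.Lie.chevB2, Cfsg.Lie.chevD4, Cfsg.Lie.chevF4, Cfsg.Lie.chevE6, Cfsg.Lie.chevE7, Cfsg.Lie.chevE8]) (J : Set ℕ) (hJ : ∀ j ∈ J, j < D.rank) :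
    Subgroup.normalizer (D.unipotentRadical F J : Set (GL D.Idx F)) ⊓ D.group F = D.parabolicSubgroup F J := by
  exact main hD J

end Cfsg.Agent.S1049
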