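import Cfsg.Statements.S1201
import Cfsg.Agent.Lib.Helper38.WreathedInv
-- import your own Cfsg.Agent.* helpers here

set_option autoImplicit false
open Cfsg
open Cfsg.Agent.Lib.Helper38

namespace Cfsg.Agent.S1201

theorem comm_of_center {G : Type*} [Group G] {t t' c : G} (ht : t ∈ Subgroup.center G)
    (ht' : t' ∈ Subgroup.center G) : (t * c) * (t' * c) = (t' * c) * (t * c) := by
  rw [Subgroup.mem_center_iff] at ht ht'
  calc t * c * (t' * c) = t * (c * t') * c := by group
    _ = t * (t' * c) * c := by rw [ht' c]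
    _ = (t * t') * c * c := by group
    _ = (t' * t) * c * c := by rw [ht' t]
    _ = t' * (t * c) * c := by group
    _ = t' * (c * t) * c := by rw [ht c]
    _ = (t' * c) * (t * c) := by group

/-- If X is a non-commutative subgroup of a wreathed 2-group S, then Z(X) ≤ Z(S). -/
theorem result {S : Type*} [Group S] [Finite S] (hS : Cfsg.IsWreathed S) (X : Subgroup S) (hX : ¬ IsMulCommutative X) : (Subgroup.center X).map X.subtype ≤ Subgroup.center S := by
  obtain ⟨n, x, y, z, h⟩ := exists_isWr hS
  rintro _ ⟨⟨c, hcX⟩, hc, rfl⟩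
  rw [SetLike.mem_coe, Subgroup.mem_center_iff] at hc
  have hcomm : ∀ v ∈ X, v * c = c * v := by
    intro v hv
    have := hc ⟨v, hv⟩
    exact congrArg Subtype.val this
  simp only [Subgroup.coe_subtype]
  by_cases hXA : X ≤ h.A
  · exfalso; apply hX
    exact ⟨⟨fun a b => Subtype.ext (h.A_comm (hXA a.2) (hXA b.2))⟩⟩
  · obtain ⟨u, huX, huA⟩ := SetLike.not_le_iff_exists.mp hXA
    obtain ⟨k, l, rfl⟩ := h.notMem_A huA
    rcases h.exists_rep c with ⟨i, j, rfl⟩ | ⟨i, j, rfl⟩
    · rw [h.al_mem_center_iff]
      have := hcomm _ huX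
      rw [eq_comm, h.al_comm_alz_iff] at this; exact this
    · exfalso; apply hX
      have key : ∀ v ∈ X, v ∈ Subgroup.center S ∨
          ∃ t ∈ Subgroup.center S, v = t * (al x y i j * z) := by
        intro v hv
        rcases h.exists_rep v with ⟨p, q, rfl⟩ | ⟨p, q, rfl⟩
        · left
          rw [h.al_mem_center_iff]
          have := hcomm _ hv
          rw [h.al_comm_alz_iff] at this; exact this
        · right
          refine ⟨al x y p q * z * (al x y i j * z)⁻¹, ?_, by group⟩
          have hvc : al x y p q * z * (al x y i j * z)⁻¹ ∈ X := X.mul_mem hv (X.inv_mem hcX)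
          rw [h.alz_inv, h.alz_mul_alz] at hvc ⊢
          rw [h.al_mem_center_iff]
          have := hcomm _ hvc
          rw [h.al_comm_alz_iff] at this; exact this
      refine ⟨⟨fun a b => Subtype.ext ?_⟩⟩
      show a.1 * b.1 = b.1 * a.1
      rcases key a a.2 with ha | ⟨t, ht, ha⟩
      · exact ((Subgroup.mem_center_iff.mp ha) b.1).symm
      · rcases key b b.2 with hb | ⟨t', ht', hb⟩
        · exact (Subgroup.mem_center_iff.mp hb) a.1
        · rw [ha, hb]; exact comm_of_center ht ht'
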