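import Cfsg.Statements.S1199
import Cfsg.Agent.Lib.Helper38.WreathedMore
-- import your own Cfsg.Agent.* helpers here

set_option autoImplicit false
open Cfsg
open Cfsg.Agent.Lib.Helper38

namespace Cfsg.Agent.S1199

variable {S : Type*} [Group S] {x y z : S} {n : ℕ}

theorem K_eq (h : IsWr x y z n) : 2 * 2 ^ (n - 1) = 2 ^ n := by
  have hn := h.hn
  have : n = (n - 1) + 1 := by omega
  conv_rhs => rw [this, pow_succ]
  ring

theorem dvd_of_zmod_eq (h : IsWr x y z n) {a b : ℤ}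
    (hab : (a : ZMod (2 * 2 ^ (n - 1))) = (b : ZMod (2 * 2 ^ (n - 1)))) :
    ((2 ^ n : ℕ) : ℤ) ∣ a - b := by
  have := (ZMod.intCast_eq_intCast_iff_dvd_sub b a (2 * 2 ^ (n - 1))).mp hab.symm
  rwa [K_eq h] at this

theorem zmod_eq_of_dvd (h : IsWr x y z n) {a b : ℤ} (hd : ((2 ^ n : ℕ) : ℤ) ∣ a - b) :
    (a : ZMod (2 * 2 ^ (n - 1))) = (b : ZMod (2 * 2 ^ (n - 1))) := by
  rw [← K_eq h] at hd
  exact ((ZMod.intCast_eq_intCast_iff_dvd_sub b a (2 * 2 ^ (n - 1))).mpr hd).symm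

/-- the embedding of the generalized quaternion group, as a function -/
def qf (x y z : S) (n : ℕ) : QuaternionGroup (2 ^ (n - 1)) → S
  | .a i => al x y ((i.val : ℕ) : ℤ) (-((i.val : ℕ) : ℤ))
  | .xa i => al x y (((2 ^ (n - 1) : ℕ) : ℤ) - ((i.val : ℕ) : ℤ)) ((i.val : ℕ) : ℤ) * z

theorem val_cast (i : ZMod (2 * 2 ^ (n - 1))) :
    ((((i.val : ℕ) : ℤ)) : ZMod (2 * 2 ^ (n - 1))) = i := by
  rw [Int.cast_natCast, ZMod.natCast_zmod_val]

theorem twoM_zero : (2 : ZMod (2 * 2 ^ (n - 1))) * (2 : ZMod (2 * 2 ^ (n - 1))) ^ (n - 1) = 0 := by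
  have : ((2 * 2 ^ (n - 1) : ℕ) : ZMod (2 * 2 ^ (n - 1))) = 0 := ZMod.natCast_self _
  push_cast at this
  exact this

theorem qf_mul (h : IsWr x y z n) (g₁ g₂ : QuaternionGroup (2 ^ (n - 1))) :
    qf x y z n (g₁ * g₂) = qf x y z n g₁ * qf x y z n g₂ := by
  have h2M := @twoM_zero n
  rcases g₁ with i | i <;> rcases g₂ with j | j
  · rw [QuaternionGroup.a_mul_a]
    simp only [qf]
    rw [h.al_mul_al, h.al_eq_al_iff]
    constructor <;> apply dvd_of_zmod_eq h <;> push_cast <;> simp only [ZMod.natCast_zmod_val] <;> ring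
  · rw [QuaternionGroup.a_mul_xa]
    simp only [qf]
    rw [h.al_mul_alz, h.alz_eq_alz_iff]
    constructor <;> apply dvd_of_zmod_eq h <;> push_cast <;> simp only [ZMod.natCast_zmod_val] <;> ring
  · rw [QuaternionGroup.xa_mul_a]
    simp only [qf]
    rw [h.alz_mul_al, h.alz_eq_alz_iff]
    constructor <;> apply dvd_of_zmod_eq h <;> push_cast <;> simp only [ZMod.natCast_zmod_val] <;> ring
  · rw [QuaternionGroup.xa_mul_xa]
    simp only [qf]
    rw [h.alz_mul_alz, h.al_eq_al_iff]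
    constructor <;> apply dvd_of_zmod_eq h <;> push_cast <;> simp only [ZMod.natCast_zmod_val]
    · ring
    · linear_combination (-1 : ZMod (2 * 2 ^ (n - 1))) * h2M

/-- the embedding of the generalized quaternion group -/
def qhom (h : IsWr x y z n) : QuaternionGroup (2 ^ (n - 1)) →* S :=
  MonoidHom.mk' (qf x y z n) (qf_mul h)

theorem qhom_a (h : IsWr x y z n) (i : ZMod (2 * 2 ^ (n - 1))) :
    qhom h (.a i) = al x y ((i.val : ℕ) : ℤ) (-((i.val : ℕ) : ℤ)) := rfl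

theorem qhom_xa (h : IsWr x y z n) (i : ZMod (2 * 2 ^ (n - 1))) :
    qhom h (.xa i) =
      al x y (((2 ^ (n - 1) : ℕ) : ℤ) - ((i.val : ℕ) : ℤ)) ((i.val : ℕ) : ℤ) * z := rfl

theorem qhom_injective (h : IsWr x y z n) : Function.Injective (qhom h) := by
  rw [injective_iff_map_eq_one]
  rintro (i | i) hi
  · rw [qhom_a, h.al_eq_one_iff] at hi
    have h1 : ((((i.val : ℕ) : ℤ)) : ZMod (2 * 2 ^ (n - 1))) = ((0 : ℤ) : ZMod (2 * 2 ^ (n - 1))) :=
      zmod_eq_of_dvd h (by simpa using hi.1)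
    rw [val_cast, Int.cast_zero] at h1
    rw [h1]; rfl
  · rw [qhom_xa] at hi
    exact absurd hi (h.alz_ne_one _ _)

/-- the generalized quaternion subgroup -/
def Q (h : IsWr x y z n) : Subgroup S := (qhom h).range

theorem al_mem_Q (h : IsWr x y z n) {p q : ℤ} (hpq : ((2 ^ n : ℕ) : ℤ) ∣ p + q) :
    al x y p q ∈ Q h := by
  refine ⟨.a (p : ZMod (2 * 2 ^ (n - 1))), ?_⟩
  rw [qhom_a, h.al_eq_al_iff]
  have h1 : ((2 ^ n : ℕ) : ℤ) ∣
      ((((p : ZMod (2 * 2 ^ (n - 1))).val : ℕ) : ℤ)) - p := by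
    apply dvd_of_zmod_eq h
    rw [val_cast]
  refine ⟨h1, ?_⟩
  have e : -((((p : ZMod (2 * 2 ^ (n - 1))).val : ℕ) : ℤ)) - q =
      -(((((p : ZMod (2 * 2 ^ (n - 1))).val : ℕ) : ℤ)) - p) - (p + q) := by ring
  rw [e]
  exact dvd_sub ((dvd_neg).mpr h1) hpq

theorem alz_mem_Q (h : IsWr x y z n) {p q : ℤ}
    (hpq : ((2 ^ n : ℕ) : ℤ) ∣ p + q - ((2 ^ (n - 1) : ℕ) : ℤ)) :
    al x y p q * z ∈ Q h := by
  refine ⟨.xa (q : ZMod (2 * 2 ^ (n - 1))), ?_⟩
  rw [qhom_xa, h.alz_eq_alz_iff]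
  have h1 : ((2 ^ n : ℕ) : ℤ) ∣
      ((((q : ZMod (2 * 2 ^ (n - 1))).val : ℕ) : ℤ)) - q := by
    apply dvd_of_zmod_eq h
    rw [val_cast]
  refine ⟨?_, h1⟩
  have e : ((2 ^ (n - 1) : ℕ) : ℤ) - ((((q : ZMod (2 * 2 ^ (n - 1))).val : ℕ) : ℤ)) - p =
      -(((((q : ZMod (2 * 2 ^ (n - 1))).val : ℕ) : ℤ)) - q) -
        (p + q - ((2 ^ (n - 1) : ℕ) : ℤ)) := by ring
  rw [e]
  exact dvd_sub ((dvd_neg).mpr h1) hpq

theorem card_Q (h : IsWr x y z n) : Nat.card (Q h) = 2 ^ (n + 1) := by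
  unfold Q
  rw [Nat.card_congr (MonoidHom.ofInjective (qhom_injective h)).toEquiv.symm,
    Nat.card_eq_fintype_card, QuaternionGroup.card]
  have := K_eq h
  rw [pow_succ]; omega

/-- `Q` is generalized quaternion -/
noncomputable def Q_equiv (h : IsWr x y z n) : Q h ≃* QuaternionGroup (2 ^ (n - 1)) :=
  (MonoidHom.ofInjective (qhom_injective h)).symm

theorem four_le (h : IsWr x y z n) : 4 ≤ 2 ^ n := by
  have h2 : 2 ^ 2 ≤ 2 ^ n := Nat.pow_le_pow_right (by norm_num) h.hn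
  omega

theorem pow_four_of {G : Type*} [Group G] (c w : G) (hwc : w * c = c⁻¹ * w)
    (hcen : ∀ g, g * (c * c) = (c * c) * g) : c ^ 4 = 1 := by
  have e1 : w * (c * c) = c⁻¹ * c⁻¹ * w := by
    calc w * (c * c) = (w * c) * c := by group
      _ = (c⁻¹ * w) * c := by rw [hwc]
      _ = c⁻¹ * (w * c) := by group
      _ = c⁻¹ * (c⁻¹ * w) := by rw [hwc]
      _ = c⁻¹ * c⁻¹ * w := by group
  have e2 := hcen w
  have e3 : c * c = c⁻¹ * c⁻¹ := mul_right_cancel (e2.symm.trans e1)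
  calc c ^ 4 = (c * c) * (c * c) := by rw [show (4 : ℕ) = 2 + 2 from rfl, pow_add, pow_two]
    _ = (c⁻¹ * c⁻¹) * (c * c) := by rw [← e3]
    _ = 1 := by group

theorem key (h : IsWr x y z n) (c w : S) (hc : orderOf c = 2 ^ n)
    (hw : w * w = c ^ (2 ^ (n - 1))) (hwc : w * c = c⁻¹ * w) : c ∈ Q h ∧ w ∈ Q h := by
  have hcM : c ^ (2 ^ (n - 1)) ≠ 1 := by
    apply pow_ne_one_of_lt_orderOf (by positivity)
    rw [hc]; exact Nat.pow_lt_pow_right (by norm_num) (by have := h.hn; omega)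
  have hNM := h.N_eq
  rcases h.exists_rep c with ⟨p, q, rfl⟩ | ⟨p, q, rfl⟩
  · rcases h.exists_rep w with ⟨k, l, rfl⟩ | ⟨k, l, rfl⟩
    · exfalso
      rw [h.al_inv, h.al_mul_al, h.al_mul_al, h.al_eq_al_iff] at hwc
      have h1 : al x y p q ^ 2 = 1 := by
        rw [h.al_pow, h.al_eq_one_iff]
        obtain ⟨h1, h2⟩ := hwc
        constructor
        · have e : p * ((2 : ℕ) : ℤ) = k + p - (-p + k) := by push_cast; ring
          rw [e]; exact h1
        · have e : q * ((2 : ℕ) : ℤ) = l + q - (-q + l) := by push_cast; ring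
          rw [e]; exact h2
      have h2 := orderOf_dvd_of_pow_eq_one h1
      rw [hc] at h2
      have h3 := Nat.le_of_dvd (by norm_num) h2
      have h4 := four_le h
      omega
    · rw [h.al_inv, h.alz_mul_al, h.al_mul_alz, h.alz_eq_alz_iff] at hwc
      have hpq : ((2 ^ n : ℕ) : ℤ) ∣ p + q := by
        have e : k + q - (-p + k) = p + q := by ring
        rw [← e]; exact hwc.1
      refine ⟨al_mem_Q h hpq, ?_⟩
      rw [h.alz_mul_alz, h.al_pow, h.al_eq_al_iff] at hw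
      apply alz_mem_Q h
      rcases Int.even_or_odd' p with ⟨p', rfl | rfl⟩
      · exfalso; apply hcM
        rw [h.al_pow, h.al_eq_one_iff]
        constructor
        · exact ⟨p', by rw [hNM]; ring⟩
        · obtain ⟨t, ht⟩ := hpq
          have hq : q = -(2 * p') + ((2 ^ n : ℕ) : ℤ) * t := by linarith
          rw [hq]
          exact ⟨-p' + ((2 ^ (n - 1) : ℕ) : ℤ) * t, by rw [hNM]; ring⟩
      · have e : k + l - ((2 ^ (n - 1) : ℕ) : ℤ) =
            (k + l - (2 * p' + 1) * ((2 ^ (n - 1) : ℕ) : ℤ)) + ((2 ^ n : ℕ) : ℤ) * p' := by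
          rw [hNM]; ring
        rw [e]; exact dvd_add hw.1 (dvd_mul_right _ _)
  · have hcc : al x y p q * z * (al x y p q * z) = al x y (p + q) (p + q) := by
      rw [h.alz_mul_alz, add_comm q p]
    have hcen : al x y (p + q) (p + q) ∈ Subgroup.center S := by
      rw [h.al_mem_center_iff]; simp
    have h4 : (al x y p q * z) ^ 4 = 1 := by
      apply pow_four_of _ w hwc
      intro g
      rw [hcc]; exact (Subgroup.mem_center_iff.mp hcen g)
    have h5 := orderOf_dvd_of_pow_eq_one h4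
    rw [hc] at h5
    have hn2 : n = 2 := by
      have h6 : 2 ^ n ∣ 2 ^ 2 := h5
      rw [Nat.pow_dvd_pow_iff_le_right (by norm_num)] at h6
      have := h.hn; omega
    subst hn2
    have e4 : ((2 ^ 2 : ℕ) : ℤ) = 4 := by norm_num
    have e2 : ((2 ^ (2 - 1) : ℕ) : ℤ) = 2 := by norm_num
    have e2' : 2 ^ (2 - 1) = 2 := by norm_num
    rw [e2', pow_two, hcc] at hcM
    rw [Ne, h.al_eq_one_iff, e4] at hcM
    have h4' : al x y (p + q) (p + q) * al x y (p + q) (p + q) = 1 := by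
      rw [← hcc, ← h4]
      generalize al x y p q * z = c
      rw [show (4 : ℕ) = 2 + 2 from rfl, pow_add, pow_two]
    rw [h.al_mul_al, h.al_eq_one_iff, e4] at h4'
    have hs : (4 : ℤ) ∣ p + q - 2 := by
      have h6 := h4'.1
      have h7 : ¬ (4 : ℤ) ∣ p + q := fun hh => hcM ⟨hh, hh⟩
      omega
    refine ⟨alz_mem_Q h (by rw [e4, e2]; exact hs), ?_⟩
    rw [e2', pow_two, hcc] at hw
    rcases h.exists_rep w with ⟨k, l, rfl⟩ | ⟨k, l, rfl⟩
    · rw [h.al_mul_al, h.al_eq_al_iff, e4] at hw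
      rw [h.alz_inv, h.al_mul_alz, h.alz_mul_al, h.alz_eq_alz_iff, e4] at hwc
      apply al_mem_Q h
      rw [e4]
      obtain ⟨hw1, hw2⟩ := hw
      obtain ⟨hwc1, hwc2⟩ := hwc
      omega
    · rw [h.alz_mul_alz, h.al_eq_al_iff, e4] at hw
      apply alz_mem_Q h
      rw [e4, e2]
      obtain ⟨hw1, hw2⟩ := hw
      omega

theorem eq_Q (h : IsWr x y z n) (Y : Subgroup S) (hcard : Nat.card Y = 2 ^ (n + 1))
    (e : Y ≃* QuaternionGroup (2 ^ (n - 1))) : Y = Q h := by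
  have := h.finite
  apply Subgroup.eq_of_le_of_card_ge
  · have hc : orderOf ((e.symm (.a 1) : Y) : S) = 2 ^ n := by
      rw [Subgroup.orderOf_coe, MulEquiv.orderOf_eq e.symm, QuaternionGroup.orderOf_a_one, K_eq h]
    have hw : ((e.symm (.xa 0) : Y) : S) * (e.symm (.xa 0) : Y) =
        ((e.symm (.a 1) : Y) : S) ^ (2 ^ (n - 1)) := by
      have h1 : (e.symm (.xa 0) : Y) * e.symm (.xa 0) = (e.symm (.a 1)) ^ (2 ^ (n - 1)) := by
        rw [← map_mul, ← map_pow, QuaternionGroup.xa_mul_xa, QuaternionGroup.a_one_pow]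
        simp
      have h2 := congrArg Subtype.val h1
      simpa using h2
    have hwc : ((e.symm (.xa 0) : Y) : S) * (e.symm (.a 1) : Y) =
        ((e.symm (.a 1) : Y) : S)⁻¹ * (e.symm (.xa 0) : Y) := by
      have h1 : (e.symm (.a 1) : Y) * (e.symm (.xa 0) * e.symm (.a 1)) = e.symm (.xa 0) := by
        rw [← map_mul, ← map_mul]
        simp
      have h2 := congrArg Subtype.val h1
      simp only [Subgroup.coe_mul] at h2
      exact eq_inv_mul_of_mul_eq h2
    obtain ⟨hcQ, hwQ⟩ := key h _ _ hc hw hwc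
    intro s hs
    have hse : (⟨s, hs⟩ : Y) = e.symm (e ⟨s, hs⟩) := (e.symm_apply_apply _).symm
    rcases he : e ⟨s, hs⟩ with i | i
    · have h1 : (QuaternionGroup.a i : QuaternionGroup (2 ^ (n - 1))) =
          (QuaternionGroup.a 1) ^ (i.val) := by
        rw [QuaternionGroup.a_one_pow, ZMod.natCast_zmod_val]
      have h2 : (⟨s, hs⟩ : Y) = (e.symm (.a 1)) ^ i.val := by rw [hse, he, h1, map_pow]
      have h3 := congrArg Subtype.val h2
      simp only [Subgroup.coe_pow] at h3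
      rw [h3]; exact Subgroup.pow_mem _ hcQ _
    · have h1 : (QuaternionGroup.xa i : QuaternionGroup (2 ^ (n - 1))) =
          QuaternionGroup.xa 0 * (QuaternionGroup.a 1) ^ (i.val) := by
        rw [QuaternionGroup.a_one_pow, ZMod.natCast_zmod_val, QuaternionGroup.xa_mul_a, zero_add]
      have h2 : (⟨s, hs⟩ : Y) = e.symm (.xa 0) * (e.symm (.a 1)) ^ i.val := by
        rw [hse, he, h1, map_mul, map_pow]
      have h3 := congrArg Subtype.val h2
      simp only [Subgroup.coe_mul, Subgroup.coe_pow] at h3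
      rw [h3]; exact Subgroup.mul_mem _ hwQ (Subgroup.pow_mem _ hcQ _)
  · rw [hcard, card_Q h]

theorem normal_of_unique {G : Type*} [Group G] (Y : Subgroup G)
    (hY : ∀ g : G, Y.map (MulAut.conj g).toMonoidHom = Y) : Y.Normal := by
  constructor
  intro s hs g
  have h1 : g * s * g⁻¹ ∈ Y.map (MulAut.conj g).toMonoidHom :=
    ⟨s, hs, by simp [MulAut.conj_apply]⟩
  rwa [hY g] at h1

/-- A wreathed 2-group S of order 2^(2n+1) has exactly one subgroup of order 2^(n+1) isomorphic to a generalized quaternion group, and that subgroup is normal in S. -/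
theorem result {S : Type*} [Group S] [Finite S] (hS : Cfsg.IsWreathed S) (n : ℕ) (hn : Nat.card S = 2 ^ (2 * n + 1)) : (∃! Y : Subgroup S, Nat.card Y = 2 ^ (n + 1) ∧ Nonempty (Y ≃* QuaternionGroup (2 ^ (n - 1)))) ∧ ∀ Y : Subgroup S, Nat.card Y = 2 ^ (n + 1) → Nonempty (Y ≃* QuaternionGroup (2 ^ (n - 1))) → Y.Normal := by
  obtain ⟨x, y, z, h⟩ := exists_isWr_of_card hS n hn
  refine ⟨⟨Q h, ⟨card_Q h, ⟨Q_equiv h⟩⟩, ?_⟩, ?_⟩
  · rintro Y ⟨hc, ⟨e⟩⟩
    exact eq_Q h Y hc e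
  · rintro Y hc ⟨e⟩
    apply normal_of_unique
    intro g
    have hY := eq_Q h Y hc e
    have e' : Y ≃* Y.map (MulAut.conj g).toMonoidHom :=
      Y.equivMapOfInjective _ (MulAut.conj g).injective
    have hc' : Nat.card (Y.map (MulAut.conj g).toMonoidHom) = 2 ^ (n + 1) := by
      rw [← Nat.card_congr e'.toEquiv, hc]
    rw [eq_Q h _ hc' (e'.symm.trans e), ← hY]

end Cfsg.Agent.S1199
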