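import Cfsg.Statements.S1397
import Cfsg.Agent.Lib.Helper54.UqEight
import Cfsg.Agent.Lib.Helper54.UqNine3

set_option autoImplicit false
open Cfsg

namespace Cfsg.Agent.S1397

open scoped Pointwise
open Cfsg.Agent.Lib.Helper54 Cfsg.Agent.Lib.Helper97

/-- If `F(M)` is a `p`-group then `O_{p'}(M) = 1`. -/
theorem relK_eq_bot_of_isPGroup_fittingOf {G : Type*} [Group G] [Finite G] (M : Subgroup G)
    (hMs : Group.IsSolvable M) (p : ℕ) [Fact p.Prime] (hFp : IsPGroup p ↥(Cfsg.fittingOf M)) :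
    relK p M = ⊥ := by
  have hKC : relK p M ≤ Subgroup.centralizer (Cfsg.fittingOf M : Set G) := by
    intro k hk
    rw [Subgroup.mem_centralizer_iff]
    intro f hf
    have hfN : f ∈ Subgroup.normalizer (relK p M : Set G) :=
      le_normalizer_relK p M (fittingOf_le M hf)
    have hkN : k ∈ Subgroup.normalizer (Cfsg.fittingOf M : Set G) :=
      le_normalizer_fittingOf M (relK_le p M hk)
    have h1 : f * k⁻¹ * f⁻¹ ∈ relK p M :=
      (Subgroup.mem_normalizer_iff.mp hfN k⁻¹).mp (inv_mem hk)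
    have h2 : k * f * k⁻¹ ∈ Cfsg.fittingOf M := (Subgroup.mem_normalizer_iff.mp hkN f).mp hf
    have hwK : k * f * k⁻¹ * f⁻¹ ∈ relK p M := by
      have e : k * f * k⁻¹ * f⁻¹ = k * (f * k⁻¹ * f⁻¹) := by group
      rw [e]
      exact mul_mem hk h1
    have hwF : k * f * k⁻¹ * f⁻¹ ∈ Cfsg.fittingOf M := mul_mem h2 (inv_mem hf)
    have hw := eq_one_of_mem_pGroup_of_mem_coprime hFp (card_relK_coprime p M) hwF hwK
    have e2 : f * k = (k * f * k⁻¹ * f⁻¹)⁻¹ * (k * f) := by group
    rw [e2, hw, inv_one, one_mul]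
  rw [Subgroup.eq_bot_iff_forall]
  intro k hk
  have hkF : k ∈ Cfsg.fittingOf M := inf_centralizer_fittingOf_le hMs ⟨relK_le p M hk, hKC hk⟩
  exact eq_one_of_mem_pGroup_of_mem_coprime hFp (card_relK_coprime p M) hkF hk

/-- A normal `p`-subgroup of `M` lies in every Sylow `p`-subgroup of `M`. -/
theorem le_sylow_of_normal {G : Type*} [Group G] [Finite G] (M : Subgroup G) (p : ℕ)
    [Fact p.Prime] (P₀ : Sylow p M) (F : Subgroup G) (hFM : F ≤ M) (hFp : IsPGroup p F)
    (hMF : M ≤ Subgroup.normalizer (F : Set G)) : F ≤ (P₀ : Subgroup M).map M.subtype := by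
  obtain ⟨P₁, hFP₁⟩ := exists_sylow_map_ge hFM hFp
  obtain ⟨k, -, hk⟩ := exists_conj_sylow M P₁ P₀
  have h1 : MulAut.conj (k : G) • F = F := mem_normalizer_iff_conj_smul.mp (hMF k.2)
  rw [← h1, ← hk]
  exact conj_smul_le_conj_smul hFP₁

theorem two_le_card_primeFactors {n p : ℕ} (hp : p.Prime) (hn : n ≠ 0) (hpn : p ∣ n)
    (h : ¬ ∃ k : ℕ, n = p ^ k) : 2 ≤ n.primeFactors.card := by
  have hex : ∃ r : ℕ, r.Prime ∧ r ∣ n ∧ r ≠ p := by
    by_contra hcon
    push Not at hcon
    apply h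
    exact ⟨_, Nat.eq_prime_pow_of_unique_prime_dvd hn (fun {d} hd hdn => hcon d hd hdn)⟩
  obtain ⟨r, hr, hrn, hrp⟩ := hex
  have hsub : ({p, r} : Finset ℕ) ⊆ n.primeFactors := by
    intro x hx
    rw [Finset.mem_insert, Finset.mem_singleton] at hx
    rcases hx with rfl | rfl
    · exact Nat.mem_primeFactors.mpr ⟨hp, hpn, hn⟩
    · exact Nat.mem_primeFactors.mpr ⟨hr, hrn, hn⟩
  have := Finset.card_le_card hsub
  rwa [Finset.card_pair (Ne.symm hrp)] at this

/-- Let G be a minimal simple group of odd order, M a maximal subgroup, p a prime and A₀ an elementary abelian p-subgroup of F(M) of order at least p ^ 3 that is maximal among elementary abelian p-subgroups of F(M). (a) If F(M) is not a p-group, then F(M) ∩ C_G(A₀) lies in exactly one maximal subgroup of G. (b) If F(M) is a p-group and P is a Sylow p-subgroup of M, then p does not divide the index of P in G, and every normal self-centralizing subgroup A of P containing an elementary abelian subgroup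 of order p ^ 3 is contained in F(M) and lies in exactly one maximal subgroup of G. -/
theorem result {G : Type*} [Group G] [Finite G] (hG : Cfsg.IsMinSimpleOddOrder G)
    (M : Subgroup G) (hM : IsCoatom M) (p : ℕ) [Fact p.Prime] (A₀ : Subgroup G)
    (hA₀ : A₀ ≤ Cfsg.fittingOf M) (hA₀e : Cfsg.IsElementaryAbelian p A₀) (hA₀3 : p ^ 3 ≤ Nat.card A₀)
    (hA₀max : ∀ B : Subgroup G, B ≤ Cfsg.fittingOf M → Cfsg.IsElementaryAbelian p B → A₀ ≤ B → B = A₀) :
    (¬ IsPGroup p ↥(Cfsg.fittingOf M) → Cfsg.InUniqueMaximal (Cfsg.fittingOf M ⊓ Subgroup.centralizer (A₀ : Set G))) ∧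
      (IsPGroup p ↥(Cfsg.fittingOf M) → ∀ P : Sylow p M,
        ¬ p ∣ ((P : Subgroup M).map M.subtype).index ∧
        ∀ A : Subgroup G, Cfsg.IsSCN ((P : Subgroup M).map M.subtype) A → ¬ Cfsg.PRankLE p 2 ↥A →
          A ≤ Cfsg.fittingOf M ∧ Cfsg.InUniqueMaximal A) := by
  have hp : p.Prime := Fact.out
  have hs : IsSimpleGroup G := hG.2.1
  have hMs : Group.IsSolvable M := hG.2.2.2 M hM.1
  have hMo := odd_card_subgroup hG.1 M
  have hA₀p : IsPGroup p A₀ := isPGroup_of_exponent hA₀e.2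
  have hA₀1 : A₀ ≠ ⊥ := by
    rintro rfl
    rw [Subgroup.card_bot] at hA₀3
    have : 1 < p ^ 3 := Nat.one_lt_pow (by norm_num) hp.one_lt
    omega
  have hF1 : Cfsg.fittingOf M ≠ ⊥ := ne_bot_of_le_ne_bot hA₀1 hA₀
  have hpF : p ∣ Nat.card (Cfsg.fittingOf M) :=
    (dvd_card_of_isPGroup_ne_bot hA₀p hA₀1).trans (Subgroup.card_dvd_of_le hA₀)
  have hA₀c : ∀ x ∈ A₀, ∀ y ∈ A₀, x * y = y * x := by
    intro x hx y hy
    exact congrArg Subtype.val (hA₀e.1.is_comm.comm ⟨x, hx⟩ ⟨y, hy⟩)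
  constructor
  · intro hFnp
    have hA₀C : A₀ ≤ Subgroup.centralizer (A₀ : Set G) := by
      intro x hx
      rw [Subgroup.mem_centralizer_iff]
      intro y hy
      exact hA₀c y hy x hx
    have hA₀X : A₀ ≤ Cfsg.fittingOf M ⊓ Subgroup.centralizer (A₀ : Set G) := le_inf hA₀ hA₀C
    have hCX : Cfsg.fittingOf M ⊓ Subgroup.centralizer
        ((Cfsg.fittingOf M ⊓ Subgroup.centralizer (A₀ : Set G) : Subgroup G) : Set G) ≤
        Cfsg.fittingOf M ⊓ Subgroup.centralizer (A₀ : Set G) :=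
      inf_le_inf_left _ (Subgroup.centralizer_le hA₀X)
    have hZX : Cfsg.fittingOf M ⊓ Subgroup.centralizer (Cfsg.fittingOf M : Set G) ≤
        Cfsg.fittingOf M ⊓ Subgroup.centralizer (A₀ : Set G) :=
      inf_le_inf_left _ (Subgroup.centralizer_le hA₀)
    have hF2 : 2 ≤ (Nat.card (Cfsg.fittingOf M)).primeFactors.card := by
      apply two_le_card_primeFactors hp Nat.card_pos.ne' hpF
      rintro ⟨k, hk⟩
      exact hFnp (IsPGroup.of_card hk)
    obtain ⟨hTH, hπ⟩ := transitivityHypothesis_of_fittingOf hG M hM hF2 _ inf_le_left hCX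
    have hA₀ZX : A₀ ≤ (Cfsg.fittingOf M ⊓ Subgroup.centralizer (A₀ : Set G)) ⊓
        Subgroup.centralizer
          ((Cfsg.fittingOf M ⊓ Subgroup.centralizer (A₀ : Set G) : Subgroup G) : Set G) := by
      refine le_inf hA₀X ?_
      intro x hx
      rw [Subgroup.mem_centralizer_iff]
      intro y hy
      exact (Subgroup.mem_centralizer_iff.mp hy.2 x hx).symm
    have hZ : ¬ Cfsg.RankLE 2 ↥((Cfsg.fittingOf M ⊓ Subgroup.centralizer (A₀ : Set G)) ⊓
        Subgroup.centralizer
          ((Cfsg.fittingOf M ⊓ Subgroup.centralizer (A₀ : Set G) : Subgroup G) : Set G)) := by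
      intro h
      refine not_pRankLE_of_elemAb hA₀ZX hA₀c hA₀e.2 ?_ (h p hp)
      calc p ^ 2 < p ^ 3 := Nat.pow_lt_pow_right hp.one_lt (by norm_num)
        _ ≤ Nat.card A₀ := hA₀3
    have hinvX := invariant_eq_bot_of_fittingOf hG M hM hF1 _ hTH inf_le_left
      (fun r hr h => (hπ r hr).mpr h)
      (fun q hq hqX => Cfsg.Agent.S1393.result hG _ hTH hZ q hq hqX)
    apply inUniqueMaximal_of_forall hM (inf_le_left.trans (fittingOf_le M))
    intro L hL hXL
    apply fitting_overgroup_unique hG.2.2.2 M hM hF2 _ hZX ?_ L hL hXL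
    rintro Y ⟨-, hYπ, hXY⟩
    apply hinvX Y ?_ hXY
    exact (Nat.Coprime.coprime_dvd_right (Subgroup.card_dvd_of_le inf_le_left)
      (coprime_of_primesNotDvd hYπ)).symm
  · intro hFp P₀
    have hK : relK p M = ⊥ := relK_eq_bot_of_isPGroup_fittingOf M hMs p hFp
    have hPp : IsPGroup p ((P₀ : Subgroup M).map M.subtype) := P₀.isPGroup'.map _
    have hPM : (P₀ : Subgroup M).map M.subtype ≤ M := Subgroup.map_subtype_le _
    have hFP : Cfsg.fittingOf M ≤ (P₀ : Subgroup M).map M.subtype :=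
      le_sylow_of_normal M p P₀ _ (fittingOf_le M) hFp (le_normalizer_fittingOf M)
    have hP1 : (P₀ : Subgroup M).map M.subtype ≠ ⊥ := ne_bot_of_le_ne_bot hF1 hFP
    have hp2 : p ≠ 2 := ne_two_of_dvd_of_odd hG.1
      (hpF.trans (Subgroup.card_subgroup_dvd_card _))
    have hMN := le_normalizer_zL_of_relK_eq_bot hp2 M hMs hMo P₀ hK
    have hNZ := normalizer_eq_of_coatom hM ((zL_le _).trans hPM) (zL_ne_bot _ hPp hP1) hMN
    have hNP : Subgroup.normalizer (((P₀ : Subgroup M).map M.subtype : Subgroup G) : Set G) ≤ M :=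
      (normalizer_le_normalizer_zL _).trans hNZ.le
    have hmax : ∀ Q : Subgroup G, IsPGroup p Q → (P₀ : Subgroup M).map M.subtype ≤ Q →
        Q = (P₀ : Subgroup M).map M.subtype :=
      fun Q hQ hPQ => eq_of_isPGroup_ge_of_normalizer_le M P₀ hNP hQ hPQ
    obtain ⟨PG, hPG⟩ := exists_sylow_eq _ hPp hmax
    constructor
    · rw [← hPG]
      exact PG.not_dvd_index
    · intro A hscn hA3
      have hscn' : Cfsg.IsSCN (PG : Subgroup G) A := hPG.symm ▸ hscn
      obtain ⟨hTH, hAp, hAc, hπ, htr⟩ := scn_transitivity hG p PG A hscn' hA3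
      have hAc' : ∀ x ∈ A, ∀ y ∈ A, x * y = y * x := by
        intro x hx y hy
        exact congrArg Subtype.val (hAc.is_comm.comm ⟨x, hx⟩ ⟨y, hy⟩)
      have hAR : A ≤ relR p M := le_relR_of_normal_abelian M hMs hMo P₀ A hscn.1 hAc' hscn.2.1
      have hRF : relR p M ≤ Cfsg.fittingOf M := by
        have h1 : Cfsg.pPrimeCore p ↥M = ⊥ :=
          (Subgroup.map_eq_bot_iff_of_injective _ M.subtype_injective).mp hK
        unfold relR
        rw [pPrimePCore_eq_pCore_of_pPrimeCore_eq_bot p h1]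
        exact pcOf_le_fittingOf p M
      have hAF := hAR.trans hRF
      refine ⟨hAF, ?_⟩
      have hpA : p ∣ Nat.card A := dvd_card_of_isPGroup_ne_bot hAp hTH.1
      have hPπ : ∀ r : ℕ, r.Prime → r ∣ Nat.card (Cfsg.fittingOf M) → r ∣ Nat.card A := by
        intro r hr hrF
        obtain ⟨j, hj⟩ := hFp.exists_card_eq
        rw [hj] at hrF
        have := (Nat.prime_dvd_prime_iff_eq hr hp).mp (hr.dvd_of_dvd_pow hrF)
        rw [this]
        exact hpA
      have hinvA := invariant_eq_bot_of_fittingOf hG M hM hF1 A hTH hAF hPπ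
        (fun q hq hqA => htr q hq (by rintro rfl; exact hqA hpA))
      apply inUniqueMaximal_of_forall hM (hAF.trans (fittingOf_le M))
      apply uniqueness_of_invariant_le hG M hM p A (hAF.trans (fittingOf_le M)) hAp hTH.1
      intro Y hY hAY
      have hcop : (Nat.card A).Coprime (Nat.card Y) := by
        obtain ⟨j, hj⟩ := hAp.exists_card_eq
        rw [hj]
        exact Nat.Coprime.pow_left j hY.symm
      rw [hinvA Y hcop hAY]
      exact bot_le

end Cfsg.Agent.S1397
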