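import Cfsg.Statements.S1401
import Cfsg.Agent.S1397
import Cfsg.Agent.S1399
import Cfsg.Agent.S1400

set_option autoImplicit false
open Cfsg

namespace Cfsg.Agent.S1401

open scoped Pointwise
open Cfsg.Agent.Lib.Helper54

/-- Let G be a minimal simple group of odd order, p a prime, and M a maximal subgroup whose Fitting subgroup contains an elementary abelian subgroup of order p ^ 3. Then every abelian p-subgroup of G containing an elementary abelian subgroup of order p ^ 3 lies in exactly one maximal subgroup of G. -/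
theorem result {G : Type*} [Group G] [Finite G] (hG : Cfsg.IsMinSimpleOddOrder G)
    (M : Subgroup G) (hM : IsCoatom M) (p : ℕ) [Fact p.Prime] (hF : ¬ Cfsg.PRankLE p 2 ↥(Cfsg.fittingOf M))
    (A : Subgroup G) (hAp : IsPGroup p A) (hAc : IsMulCommutative A) (hA3 : ¬ Cfsg.PRankLE p 2 ↥A) :
    Cfsg.InUniqueMaximal A := by
  have hp : p.Prime := Fact.out
  have hAc' : ∀ x ∈ A, ∀ y ∈ A, x * y = y * x := by
    intro x hx y hy
    exact congrArg Subtype.val (hAc.is_comm.comm ⟨x, hx⟩ ⟨y, hy⟩)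
  -- `A` is noncyclic and `C_G(A)` has rank at least three
  have hAnc : ¬ IsCyclic A := by
    intro hcyc
    obtain ⟨B₃, hB₃A, -, hB₃exp, hB₃card⟩ := exists_elemAb_of_not_pRankLE p 2 A hA3
    have h1 : IsCyclic (B₃.subgroupOf A) := inferInstance
    have h2 : IsCyclic B₃ := (Subgroup.subgroupOfEquivOfLe hB₃A).isCyclic.mp h1
    refine not_isCyclic_of_elemAb hp hB₃exp ?_ h2
    calc p ^ 2 ≤ p ^ (2 + 1) := Nat.pow_le_pow_right hp.pos (by norm_num)
      _ ≤ Nat.card B₃ := hB₃card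
  have hAC3 : ¬ Cfsg.PRankLE p 2 ↥(Subgroup.centralizer (A : Set G)) := by
    intro h
    apply hA3
    refine pRankLE_of_le ?_ h
    intro x hx
    rw [Subgroup.mem_centralizer_iff]
    intro y hy
    exact hAc' y hy x hx
  -- a maximal elementary abelian subgroup of `F(M)` of order at least `p ^ 3`
  obtain ⟨E, hEF, hEc, hEexp, hEcard⟩ := exists_elemAb_of_not_pRankLE p 2 (Cfsg.fittingOf M) hF
  have hEe : Cfsg.IsElementaryAbelian p E := by
    refine ⟨⟨⟨?_⟩⟩, hEexp⟩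
    rintro ⟨x, hx⟩ ⟨y, hy⟩
    exact Subtype.ext (hEc x hx y hy)
  have hne : ({B : Subgroup G | B ≤ Cfsg.fittingOf M ∧ Cfsg.IsElementaryAbelian p B ∧ E ≤ B}).Nonempty :=
    ⟨E, hEF, hEe, le_rfl⟩
  obtain ⟨A₀, ⟨hA₀F, hA₀e, hEA₀⟩, hA₀max'⟩ := Set.exists_max_image _
    (fun B : Subgroup G => Nat.card B) (Set.toFinite _) hne
  have hA₀3 : p ^ 3 ≤ Nat.card A₀ := hEcard.trans (Subgroup.card_le_of_le hEA₀)
  have hA₀max : ∀ B : Subgroup G, B ≤ Cfsg.fittingOf M → Cfsg.IsElementaryAbelian p B → A₀ ≤ B →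
      B = A₀ := by
    intro B hBF hBe hA₀B
    exact (Subgroup.eq_of_le_of_card_ge hA₀B (hA₀max' B ⟨hBF, hBe, hEA₀.trans hA₀B⟩)).symm
  have hA₀c : ∀ x ∈ A₀, ∀ y ∈ A₀, x * y = y * x := by
    intro x hx y hy
    exact congrArg Subtype.val (hA₀e.1.is_comm.comm ⟨x, hx⟩ ⟨y, hy⟩)
  have hA₀p : IsPGroup p A₀ := isPGroup_of_exponent hA₀e.2
  have hlt : p ^ 2 < Nat.card A₀ :=
    lt_of_lt_of_le (Nat.pow_lt_pow_right hp.one_lt (by norm_num)) hA₀3
  have hA₀r3 : ¬ Cfsg.PRankLE p 2 ↥A₀ := not_pRankLE_of_elemAb le_rfl hA₀c hA₀e.2 hlt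
  have h81 := Cfsg.Agent.S1397.result hG M hM p A₀ hA₀F hA₀e hA₀3 hA₀max
  by_cases hFp : IsPGroup p ↥(Cfsg.fittingOf M)
  · -- `F(M)` is a `p`-group
    obtain ⟨P₀⟩ : Nonempty (Sylow p M) := inferInstance
    have hPp : IsPGroup p ((P₀ : Subgroup M).map M.subtype) := P₀.isPGroup'.map _
    have hFP : Cfsg.fittingOf M ≤ (P₀ : Subgroup M).map M.subtype :=
      Cfsg.Agent.S1397.le_sylow_of_normal M p P₀ _ (fittingOf_le M) hFp (le_normalizer_fittingOf M)
    have hP3 : ¬ Cfsg.PRankLE p 2 ↥((P₀ : Subgroup M).map M.subtype) :=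
      fun h => hF (pRankLE_of_le hFP h)
    have hA₀1 : A₀ ≠ ⊥ := ne_bot_of_not_pRankLE hp.pos hA₀r3
    have hp2 : p ≠ 2 := ne_two_of_dvd_of_odd hG.1
      ((dvd_card_of_isPGroup_ne_bot hA₀p hA₀1).trans (Subgroup.card_subgroup_dvd_card _))
    obtain ⟨A₁, hscn, hA₁3⟩ := exists_scn_three hp2 _ hPp hP3
    obtain ⟨-, hA₁U⟩ := (h81.2 hFp P₀).2 A₁ hscn hA₁3
    have hA₁p : IsPGroup p A₁ := hPp.to_le hscn.1
    have hA₁c : IsMulCommutative A₁ := by
      refine ⟨⟨?_⟩⟩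
      rintro ⟨x, hx⟩ ⟨y, hy⟩
      apply Subtype.ext
      have h1 : y ∈ (P₀ : Subgroup M).map M.subtype ⊓ Subgroup.centralizer (A₁ : Set G) := by
        rw [hscn.2.2]; exact hy
      exact (Subgroup.mem_centralizer_iff.mp h1.2 x hx)
    exact Cfsg.Agent.S1400.result hG p A₁ A hA₁p hA₁c hA₁3 hA₁U hAp hAnc hAC3
  · -- `F(M)` is not a `p`-group
    have hXU := h81.1 hFp
    have hA₀CX : A₀ ≤ Subgroup.centralizer
        ((Cfsg.fittingOf M ⊓ Subgroup.centralizer (A₀ : Set G) : Subgroup G) : Set G) := by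
      intro x hx
      rw [Subgroup.mem_centralizer_iff]
      intro y hy
      exact (Subgroup.mem_centralizer_iff.mp hy.2 x hx).symm
    have hA₀r1 : ¬ Cfsg.RankLE 1 ↥A₀ := by
      intro h
      refine not_pRankLE_of_elemAb (le_refl A₀) hA₀c hA₀e.2 ?_ (h p hp)
      calc p ^ 1 < p ^ 3 := Nat.pow_lt_pow_right hp.one_lt (by norm_num)
        _ ≤ Nat.card A₀ := hA₀3
    have hA₀U := Cfsg.Agent.S1399.result hG _ A₀ hXU hA₀CX hA₀r1
    exact Cfsg.Agent.S1400.result hG p A₀ A hA₀p hA₀e.1 hA₀r3 hA₀U hAp hAnc hAC3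

end Cfsg.Agent.S1401
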