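import Cfsg.Statements.S1456
import Cfsg.Agent.S1453
import Cfsg.Agent.Lib.Helper24.FittingStructure2
import Cfsg.Agent.Lib.Helper24.RankTwoGen
import Cfsg.Agent.Lib.Helper24.RankTwoPrelude
import Cfsg.Agent.Lib.Helper55.Cores
import Cfsg.Agent.Lib.Helper67.NarrowApply

set_option autoImplicit false
open Cfsg

namespace Cfsg.Agent.S1456

open scoped commutatorElement
open Cfsg.Agent.Lib.Helper24 Cfsg.Agent.Lib.Helper67

/-- In a `p`-group of rank at least three, an elementary abelian subgroup that is maximal under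
inclusion has order at least `p ^ 2`. -/
theorem sq_le_card_of_max {P : Type*} [Group P] [Finite P] (p : ℕ) [hp : Fact p.Prime]
    (hP : IsPGroup p P) (hr : ¬ Cfsg.PRankLE p 2 P) (E : Subgroup P)
    (hE : Cfsg.IsElementaryAbelian p E)
    (hEmax : ∀ B : Subgroup P, Cfsg.IsElementaryAbelian p B → E ≤ B → B = E) :
    p ^ 2 ≤ Nat.card E := by
  by_contra hcon
  rw [not_le] at hcon
  obtain ⟨B₀, hB₀c, hB₀e, hB₀card⟩ := Cfsg.Agent.S1453.exists_big p hr
  have hEp : IsPGroup p E := hP.to_subgroup E
  obtain ⟨j, hj⟩ := hEp.exists_card_eq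
  have hj1 : j ≤ 1 := by
    by_contra h
    rw [not_le] at h
    have : p ^ 2 ≤ p ^ j := Nat.pow_le_pow_right hp.out.pos h
    rw [← hj] at this
    omega
  have hEle : Nat.card E ≤ p := by
    rw [hj]
    calc p ^ j ≤ p ^ 1 := Nat.pow_le_pow_right hp.out.pos hj1
      _ = p := pow_one p
  have hnt : Nontrivial P := by
    rw [← Finite.one_lt_card_iff_nontrivial]
    have h1 : 1 ≤ p ^ 2 := Nat.one_le_pow _ _ hp.out.pos
    have h2 : Nat.card B₀ ≤ Nat.card P := Subgroup.card_le_card_group B₀
    omega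
  have hZnt : Nontrivial (Subgroup.center P) := hP.center_nontrivial
  have hZp : IsPGroup p (Subgroup.center P) := hP.to_subgroup _
  obtain ⟨k, hk⟩ := hZp.exists_card_eq
  have hk0 : k ≠ 0 := by
    intro h0
    rw [h0, pow_zero] at hk
    have : Subsingleton (Subgroup.center P) := (Nat.card_eq_one_iff_unique.mp hk).1
    exact not_nontrivial _ hZnt
  have hdvd : p ∣ Nat.card (Subgroup.center P) := by rw [hk]; exact dvd_pow_self p hk0
  obtain ⟨z, hz⟩ := exists_prime_orderOf_dvd_card' p hdvd
  have hzc : (z : P) ∈ Subgroup.center P := z.2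
  have hzp : (z : P) ^ p = 1 := by
    have := pow_orderOf_eq_one z
    rw [hz] at this
    have := congrArg Subtype.val this
    simpa using this
  have hzE : (z : P) ∈ E := by
    apply Cfsg.Agent.S1453.mem_of_centralizes p E hE hEmax (z : P) _ hzp
    rw [Subgroup.mem_centralizer_iff]
    intro e _
    rw [Subgroup.mem_center_iff] at hzc
    exact hzc e
  have hzord : orderOf (z : P) = p := by rw [Subgroup.orderOf_coe]; exact hz
  have hzle : Subgroup.zpowers (z : P) ≤ E := by
    rw [Subgroup.zpowers_le]; exact hzE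
  have hEeq : Subgroup.zpowers (z : P) = E :=
    Subgroup.eq_of_le_of_card_ge hzle (by rw [Nat.card_zpowers, hzord]; exact hEle)
  have hEcen : E ≤ Subgroup.center P := by
    rw [← hEeq, Subgroup.zpowers_le]; exact hzc
  have hB₀E : B₀ ≤ E := by
    intro b hb
    apply Cfsg.Agent.S1453.mem_of_centralizes p E hE hEmax b _ (hB₀e b hb)
    rw [Subgroup.mem_centralizer_iff]
    intro e he
    have := hEcen he
    rw [Subgroup.mem_center_iff] at this
    exact (this b).symm
  have h1 : Nat.card B₀ ≤ Nat.card E := Subgroup.card_le_of_le hB₀E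
  have h2 : p ≤ p ^ 2 := by
    calc p = p ^ 1 := (pow_one p).symm
      _ ≤ p ^ 2 := Nat.pow_le_pow_right hp.out.pos (by norm_num)
  omega

/-- Let G be a solvable group of odd order, p a prime, and E an elementary abelian p-subgroup of the Fitting subgroup F(G) such that F(G) ∩ C_G(E) has no elementary abelian subgroup of order q ^ 3 for any prime q. Then the derived subgroup of G is contained in F(G). -/
theorem result {G : Type*} [Group G] [Finite G] [Group.IsSolvable G] (hodd : Odd (Nat.card G)) (p : ℕ) [Fact p.Prime] (E : Subgroup G) (hE : E ≤ Cfsg.fittingSubgroup G) (hEe : Cfsg.IsElementaryAbelian p E)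
    (hr : Cfsg.RankLE 2 ↥(Cfsg.fittingSubgroup G ⊓ Subgroup.centralizer (E : Set G))) :
    commutator G ≤ Cfsg.fittingSubgroup G := by
  classical
  have hpp : Fact p.Prime := inferInstance
  have hEp : IsPGroup p E := by
    intro e
    refine ⟨1, ?_⟩
    apply Subtype.ext
    rw [pow_one, Subgroup.coe_pow, Subgroup.coe_one]
    exact hEe.2 e e.2
  have hEP : E ≤ pCore p G := le_pCore_of_le_fittingSubgroup p E hEp hE
  -- `O_2(G) = 1`
  have h2 : ∀ y ∈ pCore 2 G, y = 1 := by
    intro y hy
    have : Fact (Nat.Prime 2) := ⟨Nat.prime_two⟩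
    apply eq_one_of_mem_of_isPGroup_of_coprime 2 (pCore 2 G)
      (Cfsg.Agent.Lib.Helper55.isPGroup_pCore 2) y hy
    have h1 : orderOf y ∣ Nat.card G := orderOf_dvd_natCard y
    have h3 : Odd (orderOf y) := Odd.of_dvd_nat hodd h1
    exact Nat.coprime_two_right.mpr h3
  have hsolv : Group.IsSolvable (⊤ : Subgroup G) :=
    Group.isSolvable_of_isSolvable_injective (Subgroup.subtype_injective _)
  have hoddtop : Odd (Nat.card (⊤ : Subgroup G)) := by
    rw [Subgroup.card_top]; exact hodd
  -- the rank two argument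
  have hrank2 : ∀ q : ℕ, q.Prime → q ≠ 2 → RankLETwo q (pCore q G) →
      ∀ x ∈ commutator G, (orderOf x).Coprime q → ∀ y ∈ pCore q G, x * y = y * x := by
    intro q hq hq2 hrk x hx hcop y hy
    have : Fact q.Prime := ⟨hq⟩
    refine centralizes_of_rankLETwo q hq2 ⊤ hoddtop _
      (Cfsg.Agent.Lib.Helper55.isPGroup_pCore q) hrk ?_ x ?_ hcop y hy
    · rw [Subgroup.normalizer_eq_top]
    · rw [← commutator_def]; exact hx
  have hFC : ∀ q : ℕ, q.Prime →
      RankLETwo q (fittingSubgroup G ⊓ Subgroup.centralizer (E : Set G)) :=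
    fun q hq => rankLETwo_of_pRankLE q _ (hr q hq)
  apply commutator_le_fittingSubgroup_of_centralizes
  intro q hq x hx hcop y hy
  have hqf : Fact q.Prime := ⟨hq⟩
  by_cases hq2 : q = 2
  · subst hq2
    rw [h2 y hy, mul_one, one_mul]
  by_cases hqp : q = p
  · subst hqp
    by_cases hrk : RankLETwo q (pCore q G)
    · exact hrank2 q hq hq2 hrk x hx hcop y hy
    · -- the narrow case
      have hPp : IsPGroup q ↥(pCore q G) := Cfsg.Agent.Lib.Helper55.isPGroup_pCore q
      have hrP : ¬ Cfsg.PRankLE q 2 ↥(pCore q G) :=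
        fun h => hrk (rankLETwo_of_pRankLE q (pCore q G) h)
      -- a maximal elementary abelian subgroup containing E
      let 𝒮 : Set (Subgroup ↥(pCore q G)) :=
        {B | Cfsg.IsElementaryAbelian q B ∧ E.subgroupOf (pCore q G) ≤ B}
      have h𝒮fin : 𝒮.Finite := Set.toFinite _
      have hE0 : E.subgroupOf (pCore q G) ∈ 𝒮 := by
        refine ⟨⟨⟨⟨?_⟩⟩, ?_⟩, le_rfl⟩
        · rintro ⟨⟨a, haP⟩, ha⟩ ⟨⟨b, hbP⟩, hb⟩
          rw [Subgroup.mem_subgroupOf] at ha hb
          apply Subtype.ext
          apply Subtype.ext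
          show a * b = b * a
          have := hEe.1.is_comm.comm (⟨a, ha⟩ : E) ⟨b, hb⟩
          exact congrArg Subtype.val this
        · rintro ⟨a, haP⟩ ha
          rw [Subgroup.mem_subgroupOf] at ha
          apply Subtype.ext
          rw [Subgroup.coe_pow, Subgroup.coe_one]
          exact hEe.2 a ha
      obtain ⟨Es, hEs𝒮, hEsmax⟩ := h𝒮fin.exists_maximal ⟨_, hE0⟩
      obtain ⟨hEsE, hEEs⟩ := hEs𝒮
      have hEmax : ∀ B : Subgroup ↥(pCore q G), Cfsg.IsElementaryAbelian q B → Es ≤ B → B = Es :=
        fun B hB hle => le_antisymm (hEsmax ⟨hB, hEEs.trans hle⟩ hle) hle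
      have hge : q ^ 2 ≤ Nat.card Es := sq_le_card_of_max q hPp hrP Es hEsE hEmax
      have hle : Nat.card Es ≤ q ^ 2 := by
        have hcard : Nat.card (Es.map (pCore q G).subtype) = Nat.card Es :=
          Subgroup.card_map_of_injective (Subgroup.subtype_injective _)
        rw [← hcard]
        apply hFC q hq (Es.map (pCore q G).subtype)
        · rintro _ ⟨b, hb, rfl⟩
          refine Subgroup.mem_inf.mpr ⟨pCore_le_fittingSubgroup q b.2, ?_⟩
          rw [Subgroup.mem_centralizer_iff]
          intro e he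
          have heP : e ∈ pCore q G := hEP he
          have he' : (⟨e, heP⟩ : ↥(pCore q G)) ∈ Es := hEEs (Subgroup.mem_subgroupOf.mpr he)
          have := hEsE.1.is_comm.comm (⟨⟨e, heP⟩, he'⟩ : Es) ⟨b, hb⟩
          exact congrArg (fun t : Es => ((t : ↥(pCore q G)) : G)) this
        · rintro _ ⟨a, ha, rfl⟩ _ ⟨b, hb, rfl⟩
          have := hEsE.1.is_comm.comm (⟨a, ha⟩ : Es) ⟨b, hb⟩
          exact congrArg (fun t : Es => ((t : ↥(pCore q G)) : G)) this
        · rintro _ ⟨a, ha, rfl⟩
          have := hEsE.2 a ha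
          have := congrArg Subtype.val this
          simpa using this
      have hcard : Nat.card Es = q ^ 2 := le_antisymm hle hge
      have hn : (pCore q G).subtype.range.Normal := by
        rw [Subgroup.range_subtype]
        exact Cfsg.Agent.Lib.Helper55.pCore_normal' q
      have := verbalPow_centralizes_of_maxElemAb q hq2 hPp hrP Es hEsE hcard hEmax
        (pCore q G).subtype (Subgroup.subtype_injective _) hn x
        (commutator_le_verbalPow' G _ hx) hcop ⟨y, hy⟩
      exact this
  · -- q ≠ p : O_q(G) ≤ F(G) ∩ C(E) has rank at most two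
    apply hrank2 q hq hq2 _ x hx hcop y hy
    apply (hFC q hq).mono
    intro z hz
    refine Subgroup.mem_inf.mpr ⟨pCore_le_fittingSubgroup q hz, ?_⟩
    rw [Subgroup.mem_centralizer_iff]
    intro e he
    exact (pCore_commute q p hqp z hz e (hEP he)).symm

end Cfsg.Agent.S1456
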