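import Cfsg.Statements.S0610
import Cfsg.Agent.S0028
import Cfsg.Agent.S1324
import Cfsg.Agent.Lib.Helper54.Coprime
import Cfsg.Agent.Lib.Helper31.PPrimeLocal
import Cfsg.Agent.Lib.Helper31.Diagonal
import Cfsg.Agent.Lib.Helper97.CoprimeQuot

set_option autoImplicit false
open Cfsg
open scoped commutatorElement

namespace Cfsg.Agent.S0610


variable {G : Type*} [Group G]

/-- The `p'`-core of `H`, viewed in `G`. -/
def coreL (p : ℕ) (H : Subgroup G) : Subgroup G := (pPrimeCore p ↥H).map H.subtype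

theorem coreL_le (p : ℕ) (H : Subgroup G) : coreL p H ≤ H := Subgroup.map_subtype_le _

theorem coreL_card_coprime [Finite G] (p : ℕ) (H : Subgroup G) :
    (Nat.card (coreL p H)).Coprime p := by
  unfold coreL
  rw [Subgroup.card_map_of_injective H.subtype_injective]
  exact Cfsg.Agent.Lib.Helper1.pPrimeCore_card_coprime p

theorem le_normalizer_coreL (p : ℕ) (H : Subgroup G) :
    H ≤ Subgroup.normalizer ((coreL p H : Subgroup G) : Set G) :=
  Subgroup.le_normalizer.trans
    (Cfsg.Agent.Lib.Helper31.normalizer_le_normalizer_map_subtype_of_characteristic _)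

theorem centralizer_coreL_le {p : ℕ} {H : Subgroup G}
    (hS1 : Subgroup.centralizer (pPrimeCore p ↥H : Set ↥H) ≤ pPrimeCore p ↥H) :
    H ⊓ Subgroup.centralizer ((coreL p H : Subgroup G) : Set G) ≤ coreL p H := by
  intro x hx
  obtain ⟨hxH, hxC⟩ := Subgroup.mem_inf.mp hx
  have h1 : (⟨x, hxH⟩ : ↥H) ∈ Subgroup.centralizer (pPrimeCore p ↥H : Set ↥H) := by
    rw [Subgroup.mem_centralizer_iff]
    intro y hy
    apply Subtype.ext
    rw [Subgroup.mem_centralizer_iff] at hxC
    exact hxC (y : G) ⟨y, hy, rfl⟩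
  exact ⟨⟨x, hxH⟩, hS1 h1, rfl⟩

/-- A best offender inside a faithful group is elementary abelian. -/
theorem isElementaryAbelian_of_bestOffender {p : ℕ} {V H A : Subgroup G}
    (hf : H ⊓ Subgroup.centralizer (V : Set G) = ⊥) (hAH : A ≤ H)
    (hA : IsBestOffenderOn p V A) : IsElementaryAbelian p A := by
  obtain ⟨-, hcomm, hpow⟩ := hA
  constructor
  · refine ⟨⟨fun a b => ?_⟩⟩
    have hm : ⁅(a : G), (b : G)⁆ ∈ H := by
      rw [commutatorElement_def]
      exact H.mul_mem (H.mul_mem (H.mul_mem (hAH a.2) (hAH b.2)) (H.inv_mem (hAH a.2)))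
        (H.inv_mem (hAH b.2))
    have h1 : ⁅(a : G), (b : G)⁆ ∈ H ⊓ Subgroup.centralizer (V : Set G) :=
      ⟨hm, hcomm (Subgroup.commutator_mem_commutator a.2 b.2)⟩
    rw [hf, Subgroup.mem_bot, commutatorElement_eq_one_iff_mul_comm] at h1
    exact Subtype.ext h1
  · intro a ha
    have h1 : a ^ p ∈ H ⊓ Subgroup.centralizer (V : Set G) :=
      ⟨H.pow_mem (hAH ha) p, hpow a ha⟩
    rw [hf, Subgroup.mem_bot] at h1
    exact h1


theorem isPGroup_of_isElementaryAbelian {p : ℕ} {A : Subgroup G} (hA : IsElementaryAbelian p A) :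
    IsPGroup p A := by
  intro a
  refine ⟨1, ?_⟩
  rw [pow_one]
  exact Subtype.ext (by simpa using hA.2 a.1 a.2)

/-- If `A` centralizes `V₀` and `M` normalizes `V₀`, then `⁅M, A⁆` centralizes `V₀`. -/
theorem commutator_le_centralizer_of_centralizes {V₀ M A : Subgroup G}
    (hM : M ≤ Subgroup.normalizer (V₀ : Set G)) (hA : A ≤ Subgroup.centralizer (V₀ : Set G)) :
    ⁅M, A⁆ ≤ Subgroup.centralizer (V₀ : Set G) := by
  rw [Subgroup.commutator_le]
  intro l hl a ha
  rw [Subgroup.mem_centralizer_iff]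
  intro v hv
  have hl' : l⁻¹ ∈ Subgroup.normalizer (V₀ : Set G) := inv_mem (hM hl)
  have h1 : l⁻¹ * v * l ∈ V₀ := by
    have := (Subgroup.mem_normalizer_iff.mp hl' v).mp hv
    rwa [inv_inv] at this
  have hAc := hA ha
  rw [Subgroup.mem_centralizer_iff] at hAc
  have h2 : (l⁻¹ * v * l) * a = a * (l⁻¹ * v * l) := hAc _ h1
  have h3 : v * a = a * v := hAc v hv
  have h3' : v * a⁻¹ = a⁻¹ * v := by
    rw [eq_inv_mul_iff_mul_eq, ← mul_assoc, ← h3, mul_assoc, mul_inv_cancel, mul_one]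
  have h4 : v * (l * a * l⁻¹) = (l * a * l⁻¹) * v := by
    calc v * (l * a * l⁻¹) = l * ((l⁻¹ * v * l) * a) * l⁻¹ := by group
      _ = l * (a * (l⁻¹ * v * l)) * l⁻¹ := by rw [h2]
      _ = (l * a * l⁻¹) * v := by group
  rw [commutatorElement_def]
  calc v * (l * a * l⁻¹ * a⁻¹) = (v * (l * a * l⁻¹)) * a⁻¹ := by group
    _ = (l * a * l⁻¹) * (v * a⁻¹) := by rw [h4]; group
    _ = l * a * l⁻¹ * a⁻¹ * v := by rw [h3']; group

open Cfsg.Agent.Lib.Helper54 in
/-- **Key step.** A best offender of order at least `p²` has a hyperplane which is again a best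
offender with the same value of `|A| |C_V(A)|`. -/
theorem exists_hyperplane [Finite G] {p : ℕ} [Fact p.Prime] (V H : Subgroup G)
    (hV : IsElementaryAbelian p V) (hHV : H ≤ Subgroup.normalizer (V : Set G))
    (hf : H ⊓ Subgroup.centralizer (V : Set G) = ⊥)
    (hS1 : Subgroup.centralizer (pPrimeCore p ↥H : Set ↥H) ≤ pPrimeCore p ↥H)
    (A : Subgroup G) (hAH : A ≤ H) (hA : IsBestOffenderOn p V A) (hA2 : p ^ 2 ≤ Nat.card A) :
    ∃ A₀ : Subgroup G, A₀ ≤ A ∧ A₀.relIndex A = p ∧ IsBestOffenderOn p V A₀ ∧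
      Nat.card A₀ * Nat.card ↥(V ⊓ Subgroup.centralizer (A₀ : Set G)) =
        Nat.card A * Nat.card ↥(V ⊓ Subgroup.centralizer (A : Set G)) := by
  have hp : p.Prime := Fact.out
  set L := coreL p H with hL
  have hAel := isElementaryAbelian_of_bestOffender hf hAH hA
  have hAp : IsPGroup p A := isPGroup_of_isElementaryAbelian hAel
  have hVp : IsPGroup p V := isPGroup_of_isElementaryAbelian hV
  have hLc : (Nat.card L).Coprime p := coreL_card_coprime p H
  have hLH : L ≤ H := coreL_le p H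
  have hAL : A ≤ Subgroup.normalizer (L : Set G) := hAH.trans (le_normalizer_coreL p H)
  have hLnd : ¬ p ∣ Nat.card L := (Nat.Prime.coprime_iff_not_dvd hp).mp hLc.symm
  have hgen := Cfsg.Agent.S1324.result p A L hAel hA2 hLnd hAL
  have hALbot : A ⊓ L = ⊥ := Cfsg.Agent.Lib.Helper97.inf_eq_bot_of_isPGroup_of_coprime hAp hLc
  obtain ⟨k, hk⟩ := Cfsg.Agent.S1324.card_eq_pow hAel
  -- a hyperplane `A₀` with `[C_L(A₀), A] ≠ 1`
  have hex : ∃ B : Subgroup G, B ≤ A ∧ B.relIndex A = p ∧
      ⁅L ⊓ Subgroup.centralizer (B : Set G), A⁆ ≠ ⊥ := by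
    by_contra hcon
    push Not at hcon
    have hLA : L ≤ Subgroup.centralizer (A : Set G) := by
      rw [hgen]
      apply iSup_le
      rintro ⟨B, hBA, hBp⟩
      simp only
      by_cases hBeq : B.relIndex A = p
      · have := hcon B hBA hBeq
        rw [Subgroup.commutator_eq_bot_iff_le_centralizer] at this
        exact this
      · have hdvd : B.relIndex A ∣ Nat.card A := Subgroup.relIndex_dvd_card B A
        rw [hk] at hdvd
        obtain ⟨j, hj, hjeq⟩ := (Nat.dvd_prime_pow hp).mp hdvd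
        have hj0 : j = 0 := by
          by_contra hj0
          have hj1 : 1 ≤ j := Nat.one_le_iff_ne_zero.mpr hj0
          have h1 : p ^ 1 ≤ p ^ j := Nat.pow_le_pow_right hp.pos hj1
          rw [pow_one, ← hjeq] at h1
          exact hBeq (le_antisymm hBp h1)
        rw [hj0, pow_zero] at hjeq
        have hAB : A ≤ B := Subgroup.relIndex_eq_one.mp hjeq
        exact inf_le_right.trans (Subgroup.centralizer_le (by exact_mod_cast hAB))
    have hAL' : A ≤ Subgroup.centralizer (L : Set G) := Subgroup.le_centralizer_iff.mp hLA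
    have hAL2 : A ≤ L := fun a ha => centralizer_coreL_le hS1 ⟨hAH ha, hAL' ha⟩
    have hAbot : A = ⊥ := by
      rw [eq_bot_iff, ← hALbot]
      exact le_inf le_rfl hAL2
    rw [hAbot, Subgroup.card_bot] at hA2
    have : 1 < p ^ 2 := Nat.one_lt_pow (by norm_num) hp.one_lt
    omega
  obtain ⟨A₀, hA₀A, hA₀p, hne⟩ := hex
  set C₀ := L ⊓ Subgroup.centralizer (A₀ : Set G) with hC₀
  set L₀ := ⁅C₀, A⁆ with hL₀
  set V₀ := V ⊓ Subgroup.centralizer (A₀ : Set G) with hV₀
  set W := V ⊓ Subgroup.centralizer (A : Set G) with hW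
  -- `A` centralizes `A₀`
  have hAcA₀ : A ≤ Subgroup.centralizer (A₀ : Set G) := by
    intro a ha
    rw [Subgroup.mem_centralizer_iff]
    intro b hb
    have := hAel.1.is_comm.comm ⟨b, hA₀A hb⟩ ⟨a, ha⟩
    exact congrArg Subtype.val this
  have hAnC : A ≤ Subgroup.normalizer
      ((Subgroup.centralizer (A₀ : Set G) : Subgroup G) : Set G) :=
    hAcA₀.trans Subgroup.le_normalizer
  have hAC₀ : A ≤ Subgroup.normalizer (C₀ : Set G) := le_normalizer_inf hAL hAnC
  have hL₀C₀ : L₀ ≤ C₀ := Cfsg.Agent.Lib.Helper31.commutator_le_of_le_normalizer hAC₀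
  have hL₀L : L₀ ≤ L := hL₀C₀.trans inf_le_left
  have hL₀H : L₀ ≤ H := hL₀L.trans hLH
  have hL₀c : (Nat.card L₀).Coprime p :=
    Nat.Coprime.coprime_dvd_left (Subgroup.card_dvd_of_le hL₀L) hLc
  have hA₀p' : IsPGroup p A₀ := hAp.to_le hA₀A
  have hA₀L₀ : A₀ ≤ Subgroup.centralizer (L₀ : Set G) :=
    Subgroup.le_centralizer_iff.mp (hL₀C₀.trans inf_le_right)
  -- (3) `L₀` does not centralize `V₀`
  have h3 : ¬ V₀ ≤ Subgroup.centralizer (L₀ : Set G) := by
    intro hcon
    have := Cfsg.Agent.S0028.result p A₀ L₀ V hA₀p' hL₀c hVp hA₀L₀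
      ((hA₀A.trans hAH).trans hHV) (hL₀H.trans hHV) hcon
    have hbot : L₀ ≤ H ⊓ Subgroup.centralizer (V : Set G) := le_inf hL₀H this
    rw [hf, le_bot_iff] at hbot
    exact hne hbot
  -- (4) `A` does not centralize `V₀`
  have hC₀V₀ : C₀ ≤ Subgroup.normalizer (V₀ : Set G) :=
    le_normalizer_inf ((inf_le_left.trans hLH).trans hHV)
      (inf_le_right.trans Subgroup.le_normalizer)
  have h4 : ¬ A ≤ Subgroup.centralizer (V₀ : Set G) := by
    intro hcon
    exact h3 (Subgroup.le_centralizer_iff.mp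
      (commutator_le_centralizer_of_centralizes hC₀V₀ hcon))
  -- (5) `W < V₀`
  have hWV₀ : W ≤ V₀ :=
    inf_le_inf_left V (Subgroup.centralizer_le (by exact_mod_cast hA₀A))
  have hWne : ¬ V₀ ≤ W := by
    intro hcon
    exact h4 (Subgroup.le_centralizer_iff.mp (hcon.trans inf_le_right))
  have hV₀p : IsPGroup p V₀ := hVp.to_le inf_le_left
  have hcard1 : p * Nat.card W ≤ Nat.card V₀ := by
    have h1 := card_mul_relIndex hWV₀
    obtain ⟨m, hm⟩ := IsPGroup.iff_card.mp hV₀p
    have hdvd : W.relIndex V₀ ∣ Nat.card V₀ := Subgroup.relIndex_dvd_card W V₀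
    rw [hm] at hdvd
    obtain ⟨j, hj, hjeq⟩ := (Nat.dvd_prime_pow hp).mp hdvd
    have hj0 : j ≠ 0 := by
      intro hj0
      rw [hj0, pow_zero] at hjeq
      exact hWne (Subgroup.relIndex_eq_one.mp hjeq)
    have hpj : p ≤ W.relIndex V₀ := by
      rw [hjeq]
      calc p = p ^ 1 := (pow_one p).symm
        _ ≤ p ^ j := Nat.pow_le_pow_right hp.pos (Nat.one_le_iff_ne_zero.mpr hj0)
    calc p * Nat.card W = Nat.card W * p := mul_comm _ _
      _ ≤ Nat.card W * W.relIndex V₀ := Nat.mul_le_mul_left _ hpj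
      _ = Nat.card V₀ := h1
  have hcardA : Nat.card A₀ * p = Nat.card A := by
    have := card_mul_relIndex hA₀A
    rwa [hA₀p] at this
  have hbo := hA.1 A₀ hA₀A
  have hcard2 : Nat.card A₀ * Nat.card V₀ = Nat.card A * Nat.card W := by
    apply le_antisymm hbo
    rw [← hcardA, mul_assoc]
    exact Nat.mul_le_mul_left _ hcard1
  refine ⟨A₀, hA₀A, hA₀p, ⟨?_, ?_, ?_⟩, hcard2⟩
  · intro B hB
    rw [hcard2]
    exact hA.1 B (hB.trans hA₀A)
  · exact (Subgroup.commutator_mono hA₀A hA₀A).trans hA.2.1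
  · intro a ha
    exact hA.2.2 a (hA₀A ha)


open Cfsg.Agent.Lib.Helper54 in
theorem prime_mul_card_le [Finite G] {p : ℕ} [Fact p.Prime] {W U : Subgroup G}
    (hU : IsPGroup p U) (hWU : W ≤ U) (hne : ¬ U ≤ W) : p * Nat.card W ≤ Nat.card U := by
  have hp : p.Prime := Fact.out
  have h1 := card_mul_relIndex hWU
  obtain ⟨m, hm⟩ := IsPGroup.iff_card.mp hU
  have hdvd : W.relIndex U ∣ Nat.card U := Subgroup.relIndex_dvd_card W U
  rw [hm] at hdvd
  obtain ⟨j, hj, hjeq⟩ := (Nat.dvd_prime_pow hp).mp hdvd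
  have hj0 : j ≠ 0 := by
    intro hj0
    rw [hj0, pow_zero] at hjeq
    exact hne (Subgroup.relIndex_eq_one.mp hjeq)
  have hpj : p ≤ W.relIndex U := by
    rw [hjeq]
    calc p = p ^ 1 := (pow_one p).symm
      _ ≤ p ^ j := Nat.pow_le_pow_right hp.pos (Nat.one_le_iff_ne_zero.mpr hj0)
  calc p * Nat.card W = Nat.card W * p := mul_comm _ _
    _ ≤ Nat.card W * W.relIndex U := Nat.mul_le_mul_left _ hpj
    _ = Nat.card U := h1

theorem inf_centralizer_bot (V : Subgroup G) :
    V ⊓ Subgroup.centralizer (((⊥ : Subgroup G) : Subgroup G) : Set G) = V := by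
  apply le_antisymm inf_le_left
  refine le_inf le_rfl ?_
  intro v _
  rw [Subgroup.mem_centralizer_iff]
  intro b hb
  have : b = 1 := by simpa using hb
  rw [this, one_mul, mul_one]

/-- The main count, by induction on `|A|`. -/
theorem card_mul_card_eq [Finite G] {p : ℕ} [Fact p.Prime] (V H : Subgroup G)
    (hV : IsElementaryAbelian p V) (hHV : H ≤ Subgroup.normalizer (V : Set G))
    (hf : H ⊓ Subgroup.centralizer (V : Set G) = ⊥)
    (hS1 : Subgroup.centralizer (pPrimeCore p ↥H : Set ↥H) ≤ pPrimeCore p ↥H) :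
    ∀ n : ℕ, ∀ A : Subgroup G, A ≤ H → IsBestOffenderOn p V A → Nat.card A = n →
      Nat.card A * Nat.card ↥(V ⊓ Subgroup.centralizer (A : Set G)) = Nat.card V := by
  have hp : p.Prime := Fact.out
  intro n
  induction n using Nat.strong_induction_on with
  | _ n ih =>
    intro A hAH hA hn
    by_cases hA2 : p ^ 2 ≤ Nat.card A
    · obtain ⟨A₀, hA₀A, hA₀p, hA₀bo, hcard⟩ := exists_hyperplane V H hV hHV hf hS1 A hAH hA hA2
      have h1 := Cfsg.Agent.Lib.Helper54.card_mul_relIndex hA₀A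
      rw [hA₀p] at h1
      have hlt : Nat.card A₀ < n := by
        rw [← hn, ← h1]
        have : 0 < Nat.card A₀ := Nat.card_pos
        have h2 := hp.two_le
        nlinarith
      rw [← hcard]
      exact ih _ hlt A₀ (hA₀A.trans hAH) hA₀bo rfl
    · push Not at hA2
      have hAel := isElementaryAbelian_of_bestOffender hf hAH hA
      obtain ⟨k, hk⟩ := Cfsg.Agent.S1324.card_eq_pow hAel
      have hk1 : k < 2 := by
        by_contra hcon
        push Not at hcon
        have := Nat.pow_le_pow_right hp.pos hcon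
        omega
      have hVp : IsPGroup p V := isPGroup_of_isElementaryAbelian hV
      interval_cases k
      · -- `A = ⊥`
        rw [pow_zero] at hk
        have hAbot : A = ⊥ := Subgroup.card_eq_one.mp hk
        rw [hAbot, inf_centralizer_bot, Subgroup.card_bot, one_mul]
      · rw [pow_one] at hk
        have h1 := hA.1 ⊥ bot_le
        rw [inf_centralizer_bot, Subgroup.card_bot, one_mul] at h1
        have hne : ¬ V ≤ V ⊓ Subgroup.centralizer (A : Set G) := by
          intro hcon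
          have hAV : A ≤ Subgroup.centralizer (V : Set G) :=
            Subgroup.le_centralizer_iff.mp (hcon.trans inf_le_right)
          have hAbot : A ≤ H ⊓ Subgroup.centralizer (V : Set G) := le_inf hAH hAV
          rw [hf, le_bot_iff] at hAbot
          rw [hAbot, Subgroup.card_bot] at hk
          exact hp.one_lt.ne hk
        have h2 := prime_mul_card_le hVp (inf_le_left : V ⊓ Subgroup.centralizer (A : Set G) ≤ V) hne
        rw [hk] at h1 ⊢
        exact le_antisymm h2 h1

/-- In a faithful group generated by best offenders with a self-centralizing p'-core, every nontrivial best offender A has order exactly |V : C_V(A)|. -/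
theorem result {G : Type*} [Group G] [Finite G] {p : ℕ} [Fact p.Prime] (V H : Subgroup G) (hV : Cfsg.IsElementaryAbelian p V) (hHV : H ≤ Subgroup.normalizer (V : Set G)) (hf : H ⊓ Subgroup.centralizer (V : Set G) = ⊥) (hS1 : Subgroup.centralizer (Cfsg.pPrimeCore p ↥H : Set ↥H) ≤ Cfsg.pPrimeCore p ↥H) (hS3 : H = ⨆ A : {A : Subgroup G // A ≤ H ∧ Cfsg.IsBestOffenderOn p V A}, (A : Subgroup G)) (hH1 : H ≠ ⊥) (A : Subgroup G) (hAH : A ≤ H) (hA : Cfsg.IsBestOffenderOn p V A) (hA1 : A ≠ ⊥) : Nat.card A * Nat.card ↥(V ⊓ Subgroup.centralizer (A : Set G)) = Nat.card V := by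
  exact card_mul_card_eq V H hV hHV hf hS1 _ A hAH hA rfl

end Cfsg.Agent.S0610
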