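import Cfsg.Statements.S0611
import Cfsg.Agent.S0610

set_option autoImplicit false
open Cfsg
open scoped commutatorElement

namespace Cfsg.Agent.S0611


variable {G : Type*} [Group G]

theorem conj_mem_of_mem_normalizer {V : Subgroup G} {a v : G}
    (ha : a ∈ Subgroup.normalizer (V : Set G)) (hv : v ∈ V) : a * v * a⁻¹ ∈ V :=
  (Subgroup.mem_normalizer_iff.mp ha v).mp hv

theorem comm_mem_of_mem_normalizer {V : Subgroup G} {a v : G}
    (ha : a ∈ Subgroup.normalizer (V : Set G)) (hv : v ∈ V) : ⁅v, a⁆ ∈ V := by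
  have h1 : a * v⁻¹ * a⁻¹ ∈ V := conj_mem_of_mem_normalizer ha (V.inv_mem hv)
  have h2 : ⁅v, a⁆ = v * (a * v⁻¹ * a⁻¹) := by rw [commutatorElement_def]; group
  rw [h2]
  exact V.mul_mem hv h1

/-- The commutator map `v ↦ [v, a]` on an abelian subgroup `V` normalised by `a`. -/
def commHom (V : Subgroup G) (hVc : ∀ x ∈ V, ∀ y ∈ V, x * y = y * x) (a : G)
    (ha : a ∈ Subgroup.normalizer (V : Set G)) : ↥V →* ↥V where
  toFun v := ⟨⁅(v : G), a⁆, comm_mem_of_mem_normalizer ha v.2⟩
  map_one' := by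
    apply Subtype.ext
    simp
  map_mul' v w := by
    apply Subtype.ext
    have h1 : a * (v : G)⁻¹ * a⁻¹ ∈ V := conj_mem_of_mem_normalizer ha (V.inv_mem v.2)
    have h2 : ⁅(w : G), a⁆ ∈ V := comm_mem_of_mem_normalizer ha w.2
    have h3 := hVc _ h2 _ h1
    show ⁅(v : G) * (w : G), a⁆ = ⁅(v : G), a⁆ * ⁅(w : G), a⁆
    calc ⁅(v : G) * (w : G), a⁆ = (v : G) * (⁅(w : G), a⁆ * (a * (v : G)⁻¹ * a⁻¹)) := by
          rw [commutatorElement_def, commutatorElement_def]; group
      _ = (v : G) * ((a * (v : G)⁻¹ * a⁻¹) * ⁅(w : G), a⁆) := by rw [h3]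
      _ = ⁅(v : G), a⁆ * ⁅(w : G), a⁆ := by
          rw [commutatorElement_def, commutatorElement_def]; group

theorem comm_pow_mem {V W : Subgroup G} {a : G} (ha : a ∈ Subgroup.normalizer (V : Set G))
    (hW : ∀ v ∈ V, ⁅v, a⁆ ∈ W) : ∀ i : ℕ, ∀ v ∈ V, ⁅v, a ^ i⁆ ∈ W := by
  intro i
  induction i with
  | zero =>
    intro v _
    simp
  | succ i ih =>
    intro v hv
    have h1 : ⁅v, a ^ (i + 1)⁆ = ⁅v, a⁆ * ⁅a * v * a⁻¹, a ^ i⁆ := by
      rw [commutatorElement_def, commutatorElement_def, commutatorElement_def]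
      group
    rw [h1]
    exact W.mul_mem (hW v hv) (ih _ (conj_mem_of_mem_normalizer ha hv))


/-- `|[V, ⟨a⟩]| · |C_V(⟨a⟩)| = |V|` for `V` abelian normalised by `a` of finite order. -/
theorem card_comm_mul_card_cent [Finite G] (V : Subgroup G)
    (hVc : ∀ x ∈ V, ∀ y ∈ V, x * y = y * x) (a : G)
    (ha : a ∈ Subgroup.normalizer (V : Set G)) :
    Nat.card ↥(⁅V, Subgroup.zpowers a⁆) *
      Nat.card ↥(V ⊓ Subgroup.centralizer ((Subgroup.zpowers a : Subgroup G) : Set G)) =
      Nat.card V := by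
  set f := commHom V hVc a ha with hf
  -- the image
  have hrange : (f.range).map V.subtype = ⁅V, Subgroup.zpowers a⁆ := by
    apply le_antisymm
    · rintro _ ⟨_, ⟨v, rfl⟩, rfl⟩
      exact Subgroup.commutator_mem_commutator v.2 (Subgroup.mem_zpowers a)
    · rw [Subgroup.commutator_le]
      intro v hv b hb
      have hfin : IsOfFinOrder a := isOfFinOrder_of_finite a
      rw [← hfin.mem_powers_iff_mem_zpowers] at hb
      obtain ⟨i, rfl⟩ := hb
      refine comm_pow_mem (W := (f.range).map V.subtype) ha ?_ i v hv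
      intro w hw
      exact ⟨f ⟨w, hw⟩, ⟨⟨w, hw⟩, rfl⟩, rfl⟩
  have hker : (f.ker).map V.subtype =
      V ⊓ Subgroup.centralizer ((Subgroup.zpowers a : Subgroup G) : Set G) := by
    ext x
    constructor
    · rintro ⟨v, hv, rfl⟩
      have hv0 : f v = 1 := MonoidHom.mem_ker.mp hv
      have hv' : ⁅(v : G), a⁆ = 1 := congrArg Subtype.val hv0
      rw [commutatorElement_eq_one_iff_mul_comm] at hv'
      refine Subgroup.mem_inf.mpr ⟨v.2, ?_⟩
      rw [Subgroup.mem_centralizer_iff]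
      intro b hb
      obtain ⟨i, rfl⟩ := Subgroup.mem_zpowers_iff.mp hb
      exact ((Commute.zpow_right (show Commute (v : G) a from hv') i).eq).symm
    · intro hx
      obtain ⟨hxV, hxC⟩ := Subgroup.mem_inf.mp hx
      refine ⟨⟨x, hxV⟩, MonoidHom.mem_ker.mpr ?_, rfl⟩
      apply Subtype.ext
      show ⁅x, a⁆ = 1
      rw [commutatorElement_eq_one_iff_mul_comm]
      rw [Subgroup.mem_centralizer_iff] at hxC
      exact (hxC a (Subgroup.mem_zpowers a)).symm
  rw [← hrange, ← hker, Subgroup.card_map_of_injective V.subtype_injective,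
    Subgroup.card_map_of_injective V.subtype_injective]
  rw [← Subgroup.index_ker f, mul_comm]
  exact Subgroup.card_mul_index f.ker

/-- Minimal nontrivially-acting best offenders in such a faithful group have order p, commutator [V, B] of order p and fixed points of index p. -/
theorem result {G : Type*} [Group G] [Finite G] {p : ℕ} [Fact p.Prime] (V H : Subgroup G) (hV : Cfsg.IsElementaryAbelian p V) (hHV : H ≤ Subgroup.normalizer (V : Set G)) (hf : H ⊓ Subgroup.centralizer (V : Set G) = ⊥) (hS1 : Subgroup.centralizer (Cfsg.pPrimeCore p ↥H : Set ↥H) ≤ Cfsg.pPrimeCore p ↥H) (hS3 : H = ⨆ A : {A : Subgroup G // A ≤ H ∧ Cfsg.IsBestOffenderOn p V A}, (A : Subgroup G)) (hH1 : H ≠ ⊥) (A : Subgroup G) (hAH : A ≤ H) (hA : Cfsg.IsBestOffenderOn p V A) (hAV : ⁅V, A⁆ ≠ ⊥) (hmin : ∀ B : Subgroup G, B ≤ A → Cfsg.IsBestOffenderOn p V B → ⁅V, B⁆ ≠ ⊥ → B = A) : Nat.card A = p ∧ Nat.card ↥(⁅V, A⁆) = p ∧ ((V ⊓ Subgroup.centralizer (A : Set G))).relIndex V = p := by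
  have hp : p.Prime := Fact.out
  have hAel := Cfsg.Agent.S0610.isElementaryAbelian_of_bestOffender hf hAH hA
  have hcount := Cfsg.Agent.S0610.card_mul_card_eq V H hV hHV hf hS1 _ A hAH hA rfl
  -- faithful action
  have hfaith : ∀ B : Subgroup G, B ≤ H → ⁅V, B⁆ = ⊥ → B = ⊥ := by
    intro B hBH hB
    rw [Subgroup.commutator_eq_bot_iff_le_centralizer] at hB
    have h1 : B ≤ H ⊓ Subgroup.centralizer (V : Set G) :=
      le_inf hBH (Subgroup.le_centralizer_iff.mp hB)
    rwa [hf, le_bot_iff] at h1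
  -- Step 1
  have hcardA : Nat.card A = p := by
    by_cases hA2 : p ^ 2 ≤ Nat.card A
    · exfalso
      obtain ⟨A₀, hA₀A, hA₀p, hA₀bo, -⟩ :=
        Cfsg.Agent.S0610.exists_hyperplane V H hV hHV hf hS1 A hAH hA hA2
      have h1 := Cfsg.Agent.Lib.Helper54.card_mul_relIndex hA₀A
      rw [hA₀p] at h1
      by_cases hc : ⁅V, A₀⁆ = ⊥
      · have hbot := hfaith A₀ (hA₀A.trans hAH) hc
        rw [hbot, Subgroup.card_bot, one_mul] at h1
        rw [← h1] at hA2
        have := hp.one_lt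
        nlinarith
      · have heq := hmin A₀ hA₀A hA₀bo hc
        rw [heq, Subgroup.relIndex_self] at hA₀p
        exact hp.one_lt.ne hA₀p
    · push Not at hA2
      obtain ⟨k, hk⟩ := Cfsg.Agent.S1324.card_eq_pow hAel
      have hk1 : k < 2 := by
        by_contra hcon
        push Not at hcon
        have := Nat.pow_le_pow_right hp.pos hcon
        omega
      interval_cases k
      · exfalso
        rw [pow_zero] at hk
        have hAbot : A = ⊥ := Subgroup.card_eq_one.mp hk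
        apply hAV
        rw [hAbot, Subgroup.commutator_bot_right]
      · rw [hk, pow_one]
  have hcpos : 0 < Nat.card ↥(V ⊓ Subgroup.centralizer (A : Set G)) := Nat.card_pos
  -- Step 3
  have hrel : ((V ⊓ Subgroup.centralizer (A : Set G))).relIndex V = p := by
    have h1 := Cfsg.Agent.Lib.Helper54.card_mul_relIndex
      (inf_le_left : V ⊓ Subgroup.centralizer (A : Set G) ≤ V)
    rw [← hcount, hcardA, mul_comm] at h1
    exact Nat.eq_of_mul_eq_mul_right hcpos h1
  refine ⟨hcardA, ?_, hrel⟩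
  -- Step 2
  have hAne : A ≠ ⊥ := by
    intro h
    apply hAV
    rw [h, Subgroup.commutator_bot_right]
  obtain ⟨⟨a, haA⟩, ha1'⟩ := (Subgroup.ne_bot_iff_exists_ne_one.mp hAne)
  have ha1 : a ≠ 1 := fun h => ha1' (Subtype.ext h)
  have hza : Subgroup.zpowers a = A := by
    have hle : Subgroup.zpowers a ≤ A := (Subgroup.zpowers_le).mpr haA
    apply Subgroup.eq_of_le_of_card_ge hle
    have hd : Nat.card (Subgroup.zpowers a) ∣ Nat.card A := Subgroup.card_dvd_of_le hle
    rw [hcardA] at hd ⊢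
    rcases (Nat.dvd_prime hp).mp hd with h | h
    · exfalso
      rw [Subgroup.card_eq_one, Subgroup.zpowers_eq_bot] at h
      exact ha1 h
    · exact h.ge
  have hVc : ∀ x ∈ V, ∀ y ∈ V, x * y = y * x := by
    intro x hx y hy
    have h := hV.1
    exact congrArg Subtype.val (h.is_comm.comm (⟨x, hx⟩ : ↥V) ⟨y, hy⟩)
  have h2 := card_comm_mul_card_cent V hVc a (hHV (hAH haA))
  rw [hza, ← hcount, hcardA] at h2
  exact Nat.eq_of_mul_eq_mul_right hcpos h2

end Cfsg.Agent.S0611
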