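import Cfsg.Statements.S0612
import Cfsg.Agent.S0610

set_option autoImplicit false
open Cfsg
open scoped commutatorElement

namespace Cfsg.Agent.S0612


open Cfsg.Agent.S0610

variable {G : Type*} [Group G]

/-- A subgroup of index at most `p` in a `p`-group has index `p` or is everything. -/
theorem relIndex_cases [Finite G] {p : ℕ} [Fact p.Prime] {A B : Subgroup G}
    (hAel : IsElementaryAbelian p A) (hBp : B.relIndex A ≤ p) :
    B.relIndex A = p ∨ A ≤ B := by
  have hp : p.Prime := Fact.out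
  obtain ⟨k, hk⟩ := Cfsg.Agent.S1324.card_eq_pow hAel
  by_cases hBeq : B.relIndex A = p
  · exact Or.inl hBeq
  · right
    have hdvd : B.relIndex A ∣ Nat.card A := Subgroup.relIndex_dvd_card B A
    rw [hk] at hdvd
    obtain ⟨j, hj, hjeq⟩ := (Nat.dvd_prime_pow hp).mp hdvd
    have hj0 : j = 0 := by
      by_contra hj0
      have hj1 : 1 ≤ j := Nat.one_le_iff_ne_zero.mpr hj0
      have h1 : p ^ 1 ≤ p ^ j := Nat.pow_le_pow_right hp.pos hj1
      rw [pow_one, ← hjeq] at h1
      exact hBeq (le_antisymm hBp h1)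
    rw [hj0, pow_zero] at hjeq
    exact Subgroup.relIndex_eq_one.mp hjeq

theorem abelian_le_centralizer {p : ℕ} {A B : Subgroup G} (hAel : IsElementaryAbelian p A)
    (hBA : B ≤ A) : A ≤ Subgroup.centralizer (B : Set G) := by
  intro a ha
  rw [Subgroup.mem_centralizer_iff]
  intro b hb
  have := hAel.1.is_comm.comm ⟨b, hBA hb⟩ ⟨a, ha⟩
  exact congrArg Subtype.val this

open Cfsg.Agent.Lib.Helper54 in
/-- A "good" hyperplane of a best offender is a best offender. -/
theorem good_hyperplane [Finite G] {p : ℕ} [Fact p.Prime] (V H : Subgroup G)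
    (hV : IsElementaryAbelian p V) (hHV : H ≤ Subgroup.normalizer (V : Set G))
    (hf : H ⊓ Subgroup.centralizer (V : Set G) = ⊥)
    (A : Subgroup G) (hAH : A ≤ H) (hA : IsBestOffenderOn p V A)
    (A₀ : Subgroup G) (hA₀A : A₀ ≤ A) (hA₀p : A₀.relIndex A = p)
    (hne : ⁅coreL p H ⊓ Subgroup.centralizer (A₀ : Set G), A⁆ ≠ ⊥) :
    IsBestOffenderOn p V A₀ := by
  have hp : p.Prime := Fact.out
  set L := coreL p H with hL
  have hAel := isElementaryAbelian_of_bestOffender hf hAH hA
  have hAp : IsPGroup p A := isPGroup_of_isElementaryAbelian hAel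
  have hVp : IsPGroup p V := isPGroup_of_isElementaryAbelian hV
  have hLc : (Nat.card L).Coprime p := coreL_card_coprime p H
  have hLH : L ≤ H := coreL_le p H
  have hAL : A ≤ Subgroup.normalizer (L : Set G) := hAH.trans (le_normalizer_coreL p H)
  set C₀ := L ⊓ Subgroup.centralizer (A₀ : Set G) with hC₀
  set L₀ := ⁅C₀, A⁆ with hL₀
  set V₀ := V ⊓ Subgroup.centralizer (A₀ : Set G) with hV₀
  set W := V ⊓ Subgroup.centralizer (A : Set G) with hW
  have hAcA₀ : A ≤ Subgroup.centralizer (A₀ : Set G) := abelian_le_centralizer hAel hA₀A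
  have hAnC : A ≤ Subgroup.normalizer
      ((Subgroup.centralizer (A₀ : Set G) : Subgroup G) : Set G) :=
    hAcA₀.trans Subgroup.le_normalizer
  have hAC₀ : A ≤ Subgroup.normalizer (C₀ : Set G) := le_normalizer_inf hAL hAnC
  have hL₀C₀ : L₀ ≤ C₀ := Cfsg.Agent.Lib.Helper31.commutator_le_of_le_normalizer hAC₀
  have hL₀L : L₀ ≤ L := hL₀C₀.trans inf_le_left
  have hL₀H : L₀ ≤ H := hL₀L.trans hLH
  have hL₀c : (Nat.card L₀).Coprime p :=
    Nat.Coprime.coprime_dvd_left (Subgroup.card_dvd_of_le hL₀L) hLc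
  have hA₀p' : IsPGroup p A₀ := hAp.to_le hA₀A
  have hA₀L₀ : A₀ ≤ Subgroup.centralizer (L₀ : Set G) :=
    Subgroup.le_centralizer_iff.mp (hL₀C₀.trans inf_le_right)
  have h3 : ¬ V₀ ≤ Subgroup.centralizer (L₀ : Set G) := by
    intro hcon
    have := Cfsg.Agent.S0028.result p A₀ L₀ V hA₀p' hL₀c hVp hA₀L₀
      ((hA₀A.trans hAH).trans hHV) (hL₀H.trans hHV) hcon
    have hbot : L₀ ≤ H ⊓ Subgroup.centralizer (V : Set G) := le_inf hL₀H this
    rw [hf, le_bot_iff] at hbot
    exact hne hbot
  have hC₀V₀ : C₀ ≤ Subgroup.normalizer (V₀ : Set G) :=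
    le_normalizer_inf ((inf_le_left.trans hLH).trans hHV)
      (inf_le_right.trans Subgroup.le_normalizer)
  have h4 : ¬ A ≤ Subgroup.centralizer (V₀ : Set G) := by
    intro hcon
    exact h3 (Subgroup.le_centralizer_iff.mp
      (commutator_le_centralizer_of_centralizes hC₀V₀ hcon))
  have hWV₀ : W ≤ V₀ :=
    inf_le_inf_left V (Subgroup.centralizer_le (by exact_mod_cast hA₀A))
  have hWne : ¬ V₀ ≤ W := by
    intro hcon
    exact h4 (Subgroup.le_centralizer_iff.mp (hcon.trans inf_le_right))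
  have hV₀p : IsPGroup p V₀ := hVp.to_le inf_le_left
  have hcard1 : p * Nat.card W ≤ Nat.card V₀ := prime_mul_card_le hV₀p hWV₀ hWne
  have hcardA : Nat.card A₀ * p = Nat.card A := by
    have := card_mul_relIndex hA₀A
    rwa [hA₀p] at this
  have hbo := hA.1 A₀ hA₀A
  have hcard2 : Nat.card A₀ * Nat.card V₀ = Nat.card A * Nat.card W := by
    apply le_antisymm hbo
    rw [← hcardA, mul_assoc]
    exact Nat.mul_le_mul_left _ hcard1
  refine ⟨?_, ?_, ?_⟩
  · intro B hB
    rw [hcard2]
    exact hA.1 B (hB.trans hA₀A)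
  · exact (Subgroup.commutator_mono hA₀A hA₀A).trans hA.2.1
  · intro a ha
    exact hA.2.2 a (hA₀A ha)

/-- A subgroup contained in all good hyperplanes is trivial. -/
theorem inter_good [Finite G] {p : ℕ} [Fact p.Prime] (H : Subgroup G)
    (hS1 : Subgroup.centralizer (pPrimeCore p ↥H : Set ↥H) ≤ pPrimeCore p ↥H)
    (A : Subgroup G) (hAH : A ≤ H) (hAel : IsElementaryAbelian p A)
    (hA2 : p ^ 2 ≤ Nat.card A) (D : Subgroup G) (hDA : D ≤ A)
    (hD : ∀ B : Subgroup G, B ≤ A → B.relIndex A = p →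
      ⁅coreL p H ⊓ Subgroup.centralizer (B : Set G), A⁆ ≠ ⊥ → D ≤ B) : D = ⊥ := by
  have hp : p.Prime := Fact.out
  set L := coreL p H with hL
  have hAp : IsPGroup p A := isPGroup_of_isElementaryAbelian hAel
  have hLc : (Nat.card L).Coprime p := coreL_card_coprime p H
  have hAL : A ≤ Subgroup.normalizer (L : Set G) := hAH.trans (le_normalizer_coreL p H)
  have hLnd : ¬ p ∣ Nat.card L := (Nat.Prime.coprime_iff_not_dvd hp).mp hLc.symm
  have hgen := Cfsg.Agent.S1324.result p A L hAel hA2 hLnd hAL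
  have hALbot : A ⊓ L = ⊥ := Cfsg.Agent.Lib.Helper97.inf_eq_bot_of_isPGroup_of_coprime hAp hLc
  have hAD : Subgroup.centralizer (A : Set G) ≤ Subgroup.centralizer (D : Set G) :=
    Subgroup.centralizer_le (by exact_mod_cast hDA)
  have hLD : L ≤ Subgroup.centralizer (D : Set G) := by
    rw [hgen]
    apply iSup_le
    rintro ⟨B, hBA, hBp⟩
    simp only
    rcases relIndex_cases hAel hBp with hBeq | hAB
    · by_cases hgood : ⁅L ⊓ Subgroup.centralizer (B : Set G), A⁆ = ⊥
      · rw [Subgroup.commutator_eq_bot_iff_le_centralizer] at hgood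
        exact hgood.trans hAD
      · have hDB := hD B hBA hBeq hgood
        exact inf_le_right.trans (Subgroup.centralizer_le (by exact_mod_cast hDB))
    · exact inf_le_right.trans
        ((Subgroup.centralizer_le (by exact_mod_cast hAB)).trans hAD)
  have hDL' : D ≤ Subgroup.centralizer (L : Set G) := Subgroup.le_centralizer_iff.mp hLD
  have hDL2 : D ≤ L := fun a ha => centralizer_coreL_le hS1 ⟨hAH (hDA ha), hDL' ha⟩
  rw [eq_bot_iff, ← hALbot]
  exact le_inf hDA hDL2


/-- The subgroup generated by the best offenders of order `p` inside `A`. -/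
def tv (p : ℕ) (V A : Subgroup G) : Subgroup G :=
  ⨆ B : {B : Subgroup G // B ≤ A ∧ IsBestOffenderOn p V B ∧ Nat.card B = p}, (B : Subgroup G)

theorem tv_le (p : ℕ) (V A : Subgroup G) : tv p V A ≤ A := by
  apply iSup_le
  rintro ⟨B, hBA, -, -⟩
  exact hBA

theorem tv_mono (p : ℕ) (V : Subgroup G) {A₀ A : Subgroup G} (h : A₀ ≤ A) :
    tv p V A₀ ≤ tv p V A := by
  apply iSup_le
  rintro ⟨B, hBA, hB1, hB2⟩
  exact le_iSup (fun B : {B : Subgroup G // B ≤ A ∧ IsBestOffenderOn p V B ∧ Nat.card B = p} =>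
    (B : Subgroup G)) ⟨B, hBA.trans h, hB1, hB2⟩

open Cfsg.Agent.Lib.Helper54 in
/-- Every best offender is generated by best offenders of order `p`. -/
theorem le_tv [Finite G] {p : ℕ} [Fact p.Prime] (V H : Subgroup G)
    (hV : IsElementaryAbelian p V) (hHV : H ≤ Subgroup.normalizer (V : Set G))
    (hf : H ⊓ Subgroup.centralizer (V : Set G) = ⊥)
    (hS1 : Subgroup.centralizer (pPrimeCore p ↥H : Set ↥H) ≤ pPrimeCore p ↥H) :
    ∀ n : ℕ, ∀ A : Subgroup G, A ≤ H → IsBestOffenderOn p V A → Nat.card A = n →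
      A ≤ tv p V A := by
  have hp : p.Prime := Fact.out
  intro n
  induction n using Nat.strong_induction_on with
  | _ n ih =>
    intro A hAH hA hn
    have hAel := isElementaryAbelian_of_bestOffender hf hAH hA
    by_cases hA2 : p ^ 2 ≤ Nat.card A
    · by_contra hcon
      -- every good hyperplane contains `tv A`
      have hD : ∀ B : Subgroup G, B ≤ A → B.relIndex A = p →
          ⁅coreL p H ⊓ Subgroup.centralizer (B : Set G), A⁆ ≠ ⊥ → tv p V A ≤ B := by
        intro B hBA hBp hgood
        have hBbo := good_hyperplane V H hV hHV hf A hAH hA B hBA hBp hgood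
        have h1 := card_mul_relIndex hBA
        rw [hBp] at h1
        have hlt : Nat.card B < n := by
          rw [← hn, ← h1]
          have : 0 < Nat.card B := Nat.card_pos
          have h2 := hp.two_le
          nlinarith
        have hBtv : B ≤ tv p V A := (ih _ hlt B (hBA.trans hAH) hBbo rfl).trans (tv_mono p V hBA)
        have hmul := Subgroup.relIndex_mul_relIndex B (tv p V A) A hBtv (tv_le p V A)
        rw [hBp] at hmul
        have hdvd : (tv p V A).relIndex A ∣ p := Dvd.intro_left _ hmul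
        rcases (Nat.dvd_prime hp).mp hdvd with h | h
        · exact absurd (Subgroup.relIndex_eq_one.mp h) hcon
        · rw [h] at hmul
          have h1' : B.relIndex (tv p V A) = 1 := by
            have := hp.pos
            nlinarith
          exact Subgroup.relIndex_eq_one.mp h1'
      have hbot := inter_good H hS1 A hAH hAel hA2 (tv p V A) (tv_le p V A) hD
      -- but a good hyperplane exists
      obtain ⟨A₀, hA₀A, hA₀p, hA₀bo, -⟩ := exists_hyperplane V H hV hHV hf hS1 A hAH hA hA2
      have h1 := card_mul_relIndex hA₀A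
      rw [hA₀p] at h1
      have hlt : Nat.card A₀ < n := by
        rw [← hn, ← h1]
        have : 0 < Nat.card A₀ := Nat.card_pos
        have h2 := hp.two_le
        nlinarith
      have hA₀tv : A₀ ≤ tv p V A :=
        (ih _ hlt A₀ (hA₀A.trans hAH) hA₀bo rfl).trans (tv_mono p V hA₀A)
      rw [hbot, le_bot_iff] at hA₀tv
      rw [hA₀tv, Subgroup.card_bot, one_mul] at h1
      rw [← h1] at hA2
      have := hp.one_lt
      nlinarith
    · push Not at hA2
      obtain ⟨k, hk⟩ := Cfsg.Agent.S1324.card_eq_pow hAel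
      have hk1 : k < 2 := by
        by_contra hcon
        push Not at hcon
        have := Nat.pow_le_pow_right hp.pos hcon
        omega
      interval_cases k
      · rw [pow_zero] at hk
        have hAbot : A = ⊥ := Subgroup.card_eq_one.mp hk
        rw [hAbot]
        exact bot_le
      · rw [pow_one] at hk
        exact le_iSup (fun B : {B : Subgroup G // B ≤ A ∧ IsBestOffenderOn p V B ∧
          Nat.card B = p} => (B : Subgroup G)) ⟨A, le_rfl, hA, hk⟩


theorem iSup_cons {k : ℕ} (B₀ : Subgroup G) (Bs : Fin k → Subgroup G) :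
    ⨆ i, (Fin.cons B₀ Bs : Fin (k + 1) → Subgroup G) i = B₀ ⊔ ⨆ i, Bs i := by
  apply le_antisymm
  · apply iSup_le
    intro i
    refine Fin.cases ?_ ?_ i
    · rw [Fin.cons_zero]
      exact le_sup_left
    · intro j
      rw [Fin.cons_succ]
      exact (le_iSup Bs j).trans le_sup_right
  · apply sup_le
    · have := le_iSup (Fin.cons B₀ Bs : Fin (k + 1) → Subgroup G) 0
      rwa [Fin.cons_zero] at this
    · apply iSup_le
      intro j
      have := le_iSup (Fin.cons B₀ Bs : Fin (k + 1) → Subgroup G) j.succ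
      rwa [Fin.cons_succ] at this

/-- Adding a new factor, centralizing and disjoint from the old ones, keeps independence. -/
theorem indep_cons {k : ℕ} (B₀ : Subgroup G) (Bs : Fin k → Subgroup G)
    (hB₀ : B₀ ≤ Subgroup.centralizer ((⨆ i, Bs i : Subgroup G) : Set G))
    (hind : iSupIndep Bs) (hdisj : B₀ ⊓ ⨆ i, Bs i = ⊥) :
    iSupIndep (Fin.cons B₀ Bs : Fin (k + 1) → Subgroup G) := by
  rw [iSupIndep_def]
  intro i
  refine Fin.cases ?_ ?_ i
  · rw [Fin.cons_zero, disjoint_iff, eq_bot_iff, ← hdisj]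
    refine inf_le_inf_left _ ?_
    apply iSup_le
    intro j
    apply iSup_le
    intro hj
    obtain ⟨j', rfl⟩ := Fin.exists_succ_eq.mpr hj
    rw [Fin.cons_succ]
    exact le_iSup Bs j'
  · intro i'
    rw [Fin.cons_succ]
    set C : Subgroup G := ⨆ (j : Fin k) (_ : j ≠ i'), Bs j with hC
    have hCle : C ≤ ⨆ i, Bs i := by
      apply iSup_le
      intro j
      apply iSup_le
      intro _
      exact le_iSup Bs j
    have hle : (⨆ (j : Fin (k + 1)) (_ : j ≠ i'.succ),
        (Fin.cons B₀ Bs : Fin (k + 1) → Subgroup G) j) ≤ B₀ ⊔ C := by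
      apply iSup_le
      intro j
      apply iSup_le
      refine Fin.cases ?_ ?_ j
      · intro _
        rw [Fin.cons_zero]
        exact le_sup_left
      · intro j' hj'
        rw [Fin.cons_succ]
        have hne : j' ≠ i' := fun h => hj' (by rw [h])
        refine le_trans ?_ le_sup_right
        exact le_iSup₂ (f := fun (j : Fin k) (_ : j ≠ i') => Bs j) j' hne
    refine Disjoint.mono_right hle ?_
    rw [disjoint_iff, eq_bot_iff]
    intro x hx
    obtain ⟨hx1, hx2⟩ := Subgroup.mem_inf.mp hx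
    have hB₀C : B₀ ≤ Subgroup.normalizer (C : Set G) :=
      (hB₀.trans (Subgroup.centralizer_le (by exact_mod_cast hCle))).trans
        (Subgroup.centralizer_le_normalizer _)
    have hx3 : x ∈ ((B₀ ⊔ C : Subgroup G) : Set G) := hx2
    rw [Subgroup.coe_mul_of_left_le_normalizer_right B₀ C hB₀C] at hx3
    obtain ⟨b, hb, c, hc, hbc⟩ := hx3
    simp only at hbc
    subst hbc
    have hbS : b ∈ ⨆ i, Bs i := by
      have h1 : b * c ∈ ⨆ i, Bs i := (le_iSup Bs i') hx1
      have h2 : c ∈ ⨆ i, Bs i := hCle hc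
      have := (⨆ i, Bs i).mul_mem h1 ((⨆ i, Bs i).inv_mem h2)
      simpa using this
    have hb1 : b = 1 := by
      have : b ∈ B₀ ⊓ ⨆ i, Bs i := Subgroup.mem_inf.mpr ⟨hb, hbS⟩
      rw [hdisj] at this
      exact Subgroup.mem_bot.mp this
    rw [hb1, one_mul] at hx1 ⊢
    have hd := (iSupIndep_def.mp hind i')
    rw [disjoint_iff] at hd
    rw [← hd]
    exact Subgroup.mem_inf.mpr ⟨hx1, hc⟩


/-- The conclusion of the statement, as a predicate on `A`. -/
def Decomp (p : ℕ) (V A : Subgroup G) : Prop :=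
  ∃ (k : ℕ) (B : Fin k → Subgroup G), (∀ i, B i ≤ A ∧ IsBestOffenderOn p V (B i) ∧
    ⁅V, B i⁆ ≠ ⊥ ∧ ∀ C : Subgroup G, C ≤ B i → IsBestOffenderOn p V C → ⁅V, C⁆ ≠ ⊥ → C = B i) ∧
    iSupIndep B ∧ ⨆ i, B i = A

theorem minimal_of_card_prime [Finite G] {p : ℕ} [Fact p.Prime] {V H B : Subgroup G}
    (hf : H ⊓ Subgroup.centralizer (V : Set G) = ⊥) (hBH : B ≤ H) (hB : Nat.card B = p) :
    ⁅V, B⁆ ≠ ⊥ ∧ ∀ C : Subgroup G, C ≤ B → IsBestOffenderOn p V C → ⁅V, C⁆ ≠ ⊥ → C = B := by
  have hp : p.Prime := Fact.out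
  constructor
  · intro hc
    rw [Subgroup.commutator_eq_bot_iff_le_centralizer] at hc
    have h1 : B ≤ H ⊓ Subgroup.centralizer (V : Set G) :=
      le_inf hBH (Subgroup.le_centralizer_iff.mp hc)
    rw [hf, le_bot_iff] at h1
    rw [h1, Subgroup.card_bot] at hB
    exact hp.one_lt.ne hB
  · intro C hCB _ hCV
    apply Subgroup.eq_of_le_of_card_ge hCB
    have hd : Nat.card C ∣ Nat.card B := Subgroup.card_dvd_of_le hCB
    rw [hB] at hd ⊢
    rcases (Nat.dvd_prime hp).mp hd with h | h
    · exfalso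
      apply hCV
      rw [Subgroup.card_eq_one.mp h, Subgroup.commutator_bot_right]
    · exact h.ge

open Cfsg.Agent.Lib.Helper54 in
theorem decomp [Finite G] {p : ℕ} [Fact p.Prime] (V H : Subgroup G)
    (hV : IsElementaryAbelian p V) (hHV : H ≤ Subgroup.normalizer (V : Set G))
    (hf : H ⊓ Subgroup.centralizer (V : Set G) = ⊥)
    (hS1 : Subgroup.centralizer (pPrimeCore p ↥H : Set ↥H) ≤ pPrimeCore p ↥H) :
    ∀ n : ℕ, ∀ A : Subgroup G, A ≤ H → IsBestOffenderOn p V A → Nat.card A = n →
      Decomp p V A := by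
  have hp : p.Prime := Fact.out
  intro n
  induction n using Nat.strong_induction_on with
  | _ n ih =>
    intro A hAH hA hn
    have hAel := isElementaryAbelian_of_bestOffender hf hAH hA
    by_cases hA2 : p ^ 2 ≤ Nat.card A
    · obtain ⟨A₀, hA₀A, hA₀p, hA₀bo, -⟩ := exists_hyperplane V H hV hHV hf hS1 A hAH hA hA2
      have h1 := card_mul_relIndex hA₀A
      rw [hA₀p] at h1
      have hlt : Nat.card A₀ < n := by
        rw [← hn, ← h1]
        have : 0 < Nat.card A₀ := Nat.card_pos
        have h2 := hp.two_le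
        nlinarith
      obtain ⟨k, Bs, hBs, hind, hsup⟩ := ih _ hlt A₀ (hA₀A.trans hAH) hA₀bo rfl
      -- a best offender of order `p` outside `A₀`
      have hex : ∃ B₀ : Subgroup G, B₀ ≤ A ∧ IsBestOffenderOn p V B₀ ∧ Nat.card B₀ = p ∧
          ¬ B₀ ≤ A₀ := by
        by_contra hcon
        push Not at hcon
        have h2 : tv p V A ≤ A₀ := by
          apply iSup_le
          rintro ⟨B, hBA, hB1, hB2⟩
          exact hcon B hBA hB1 hB2
        have h3 : A ≤ A₀ := (le_tv V H hV hHV hf hS1 _ A hAH hA rfl).trans h2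
        rw [Subgroup.relIndex_eq_one.mpr h3] at hA₀p
        exact hp.one_lt.ne hA₀p
      obtain ⟨B₀, hB₀A, hB₀bo, hB₀p, hB₀n⟩ := hex
      have hdisj : B₀ ⊓ A₀ = ⊥ := by
        have hd : Nat.card ↥(B₀ ⊓ A₀) ∣ Nat.card B₀ := Subgroup.card_dvd_of_le inf_le_left
        rw [hB₀p] at hd
        rcases (Nat.dvd_prime hp).mp hd with h | h
        · exact Subgroup.card_eq_one.mp h
        · exfalso
          have : B₀ ⊓ A₀ = B₀ :=
            Subgroup.eq_of_le_of_card_ge inf_le_left (by rw [h, hB₀p])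
          exact hB₀n (this ▸ inf_le_right)
      have hjoin : B₀ ⊔ A₀ = A := by
        apply le_antisymm (sup_le hB₀A hA₀A)
        have hmul := Subgroup.relIndex_mul_relIndex A₀ (B₀ ⊔ A₀) A le_sup_right
          (sup_le hB₀A hA₀A)
        rw [hA₀p] at hmul
        have hdvd : (B₀ ⊔ A₀).relIndex A ∣ p := Dvd.intro_left _ hmul
        rcases (Nat.dvd_prime hp).mp hdvd with h | h
        · exact Subgroup.relIndex_eq_one.mp h
        · exfalso
          rw [h] at hmul
          have h1' : A₀.relIndex (B₀ ⊔ A₀) = 1 := by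
            have := hp.pos
            nlinarith
          exact hB₀n (le_sup_left.trans (Subgroup.relIndex_eq_one.mp h1'))
      refine ⟨k + 1, Fin.cons B₀ Bs, ?_, ?_, ?_⟩
      · intro i
        refine Fin.cases ?_ ?_ i
        · rw [Fin.cons_zero]
          have := minimal_of_card_prime hf (hB₀A.trans hAH) hB₀p
          exact ⟨hB₀A, hB₀bo, this.1, this.2⟩
        · intro j
          rw [Fin.cons_succ]
          obtain ⟨h1, h2, h3, h4⟩ := hBs j
          exact ⟨h1.trans hA₀A, h2, h3, h4⟩
      · apply indep_cons B₀ Bs _ hind (by rw [hsup]; exact hdisj)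
        rw [hsup]
        exact hB₀A.trans (abelian_le_centralizer hAel hA₀A)
      · rw [iSup_cons, hsup]
        exact hjoin
    · push Not at hA2
      obtain ⟨k, hk⟩ := Cfsg.Agent.S1324.card_eq_pow hAel
      have hk1 : k < 2 := by
        by_contra hcon
        push Not at hcon
        have := Nat.pow_le_pow_right hp.pos hcon
        omega
      interval_cases k
      · rw [pow_zero] at hk
        have hAbot : A = ⊥ := Subgroup.card_eq_one.mp hk
        refine ⟨0, fun i => i.elim0, fun i => i.elim0, fun i => i.elim0, ?_⟩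
        rw [hAbot, iSup_of_empty]
      · rw [pow_one] at hk
        refine ⟨1, fun _ => A, fun _ => ?_, ?_, ?_⟩
        · have := minimal_of_card_prime hf hAH hk
          exact ⟨le_rfl, hA, this.1, this.2⟩
        · rw [iSupIndep_def]
          intro i
          have : (⨆ (j : Fin 1) (_ : j ≠ i), A) = ⊥ := by
            apply le_antisymm _ bot_le
            apply iSup_le
            intro j
            apply iSup_le
            intro hj
            exact absurd (Subsingleton.elim j i) hj
          rw [this]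
          exact disjoint_bot_right
        · exact iSup_const

/-- In such a faithful group every nontrivial best offender decomposes as a direct product of minimal nontrivially-acting best offenders. -/
theorem result {G : Type*} [Group G] [Finite G] {p : ℕ} [Fact p.Prime] (V H : Subgroup G) (hV : Cfsg.IsElementaryAbelian p V) (hHV : H ≤ Subgroup.normalizer (V : Set G)) (hf : H ⊓ Subgroup.centralizer (V : Set G) = ⊥) (hS1 : Subgroup.centralizer (Cfsg.pPrimeCore p ↥H : Set ↥H) ≤ Cfsg.pPrimeCore p ↥H) (hS3 : H = ⨆ A : {A : Subgroup G // A ≤ H ∧ Cfsg.IsBestOffenderOn p V A}, (A : Subgroup G)) (hH1 : H ≠ ⊥) (A : Subgroup G) (hAH : A ≤ H) (hA : Cfsg.IsBestOffenderOn p V A) (hA1 : A ≠ ⊥) : ∃ (k : ℕ) (B : Fin k → Subgroup G), (∀ i, B i ≤ A ∧ Cfsg.IsBestOffenderOn p V (B i) ∧ ⁅V, B i⁆ ≠ ⊥ ∧ ∀ C : Subgroup G, C ≤ B i → Cfsg.IsBestOffenderOn p V C → ⁅V, C⁆ ≠ ⊥ → C = B i) ∧ iSupIndep B ∧ ⨆ i, B i = A := by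
  exact decomp V H hV hHV hf hS1 _ A hAH hA rfl

end Cfsg.Agent.S0612
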