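import Cfsg.Statements.S0615
import Cfsg.Agent.Lib.Helper72.Wielandt
import Cfsg.Agent.Lib.Helper97.Cores2
import Cfsg.Agent.Lib.Helper54.Coprime

set_option autoImplicit false
open Cfsg
open scoped commutatorElement Pointwise

namespace Cfsg.Agent.S0615


open Cfsg.Agent.Lib.Helper72 Cfsg.Agent.Lib.Helper97

variable {G : Type*} [Group G]

/-! ### Conjugation -/

theorem mem_conj_smul {x a : G} {A : Subgroup G} :
    a ∈ MulAut.conj x • A ↔ x⁻¹ * a * x ∈ A := by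
  rw [Subgroup.mem_pointwise_smul_iff_inv_smul_mem, MulAut.smul_def, ← map_inv,
    MulAut.conj_apply, inv_inv]

theorem conj_mem_conj_smul {x a : G} {A : Subgroup G} (ha : a ∈ A) :
    x * a * x⁻¹ ∈ MulAut.conj x • A := by
  rw [mem_conj_smul]
  have : x⁻¹ * (x * a * x⁻¹) * x = a := by group
  rwa [this]

theorem conj_smul_commutator (x : G) (A B : Subgroup G) :
    MulAut.conj x • ⁅A, B⁆ = ⁅MulAut.conj x • A, MulAut.conj x • B⁆ := by
  simp only [Subgroup.pointwise_smul_def]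
  exact Subgroup.map_commutator _ _ _

theorem card_conj_smul (x : G) (A : Subgroup G) :
    Nat.card (MulAut.conj x • A : Subgroup G) = Nat.card A :=
  (Nat.card_congr (Subgroup.equivSMul (MulAut.conj x) A).toEquiv).symm

theorem conj_smul_le_normalizer {x : G} {Y A : Subgroup G}
    (h : Y ≤ Subgroup.normalizer (A : Set G)) :
    MulAut.conj x • Y ≤ Subgroup.normalizer ((MulAut.conj x • A : Subgroup G) : Set G) := by
  simp only [Subgroup.pointwise_smul_def]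
  exact (Subgroup.map_mono h).trans (Subgroup.le_normalizer_map _)

theorem smul_commutator' (α : MulAut G) (A B : Subgroup G) :
    α • ⁅A, B⁆ = ⁅α • A, α • B⁆ := by
  simp only [Subgroup.pointwise_smul_def]
  exact Subgroup.map_commutator _ _ _

theorem card_smul' (α : MulAut G) (A : Subgroup G) :
    Nat.card (α • A : Subgroup G) = Nat.card A :=
  (Nat.card_congr (Subgroup.equivSMul α A).toEquiv).symm

theorem smul_le_normalizer (α : MulAut G) {Y A : Subgroup G}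
    (h : Y ≤ Subgroup.normalizer (A : Set G)) :
    α • Y ≤ Subgroup.normalizer ((α • A : Subgroup G) : Set G) := by
  simp only [Subgroup.pointwise_smul_def]
  exact (Subgroup.map_mono h).trans (Subgroup.le_normalizer_map _)

theorem card_sup_mul_card_inf [Finite G] {M K : Subgroup G}
    (h : M ≤ Subgroup.normalizer (K : Set G)) :
    Nat.card (M ⊔ K : Subgroup G) * Nat.card (M ⊓ K : Subgroup G) = Nat.card M * Nat.card K := by
  have h1 := Cfsg.Agent.Lib.Helper54.relIndex_sup_of_le_normalizer h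
  have h2 := Cfsg.Agent.Lib.Helper54.card_mul_relIndex (le_sup_right : K ≤ M ⊔ K)
  have h3 := Cfsg.Agent.Lib.Helper54.card_mul_relIndex (inf_le_left : M ⊓ K ≤ M)
  have h4 : (M ⊓ K).relIndex M = K.relIndex M := by
    rw [inf_comm]; exact Subgroup.inf_relIndex_right K M
  rw [h1] at h2
  rw [h4] at h3
  rw [← h2, ← h3]
  ring

/-! ### Commutators and normalizers -/

theorem commutator_le_of_le_normalizer {U X : Subgroup G}
    (h : X ≤ Subgroup.normalizer (U : Set G)) : ⁅U, X⁆ ≤ U := by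
  rw [Subgroup.commutator_le]
  intro l hl a ha
  have h1 : a * l⁻¹ * a⁻¹ ∈ U := (Subgroup.mem_normalizer_iff.mp (h ha) l⁻¹).mp (U.inv_mem hl)
  have h2 : ⁅l, a⁆ = l * (a * l⁻¹ * a⁻¹) := by
    simp only [commutatorElement_def]; group
  rw [h2]
  exact U.mul_mem hl h1

theorem le_normalizer_of_commutator_le {U X : Subgroup G} (h : ⁅U, X⁆ ≤ U) :
    X ≤ Subgroup.normalizer (U : Set G) := by
  have key : ∀ k ∈ X, ∀ a ∈ U, k * a * k⁻¹ ∈ U := by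
    intro k hk a ha
    have h1 : ⁅a⁻¹, k⁆ ∈ U := h (Subgroup.commutator_mem_commutator (U.inv_mem ha) hk)
    rw [commutatorElement_def] at h1
    have : k * a * k⁻¹ = a * (a⁻¹ * k * a⁻¹⁻¹ * k⁻¹) := by group
    rw [this]
    exact U.mul_mem ha h1
  intro k hk
  rw [Subgroup.mem_normalizer_iff]
  intro a
  constructor
  · exact key k hk a
  · intro ha
    have := key k⁻¹ (X.inv_mem hk) _ ha
    have h2 : k⁻¹ * (k * a * k⁻¹) * k⁻¹⁻¹ = a := by group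
    rwa [h2] at this

theorem le_normalizer_commutator {A B Y : Subgroup G}
    (hA : Y ≤ Subgroup.normalizer (A : Set G)) (hB : Y ≤ Subgroup.normalizer (B : Set G)) :
    Y ≤ Subgroup.normalizer ((⁅A, B⁆ : Subgroup G) : Set G) := by
  intro y hy
  rw [Subgroup.mem_normalizer_iff_map_conj_eq, Subgroup.map_commutator,
    Subgroup.mem_normalizer_iff_map_conj_eq.mp (hA hy),
    Subgroup.mem_normalizer_iff_map_conj_eq.mp (hB hy)]

theorem le_normalizer_of_forall_conj_mem {X C : Subgroup G}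
    (h : ∀ x ∈ X, ∀ c ∈ C, x * c * x⁻¹ ∈ C) : X ≤ Subgroup.normalizer (C : Set G) := by
  intro k hk
  rw [Subgroup.mem_normalizer_iff]
  intro a
  constructor
  · exact h k hk a
  · intro ha
    have := h k⁻¹ (X.inv_mem hk) _ ha
    have h2 : k⁻¹ * (k * a * k⁻¹) * k⁻¹⁻¹ = a := by group
    rwa [h2] at this

theorem conj_mem_of_le_normalizer {X U : Subgroup G} (h : X ≤ Subgroup.normalizer (U : Set G))
    {x u : G} (hx : x ∈ X) (hu : u ∈ U) : x * u * x⁻¹ ∈ U :=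
  (Subgroup.mem_normalizer_iff.mp (h hx) u).mp hu

theorem conj_mem_of_le_normalizer' {X U : Subgroup G} (h : X ≤ Subgroup.normalizer (U : Set G))
    {x u : G} (hx : x ∈ X) (hu : u ∈ U) : x⁻¹ * u * x ∈ U := by
  have := conj_mem_of_le_normalizer h (X.inv_mem hx) hu
  rwa [inv_inv] at this

theorem le_normalizer_centralizer {X U : Subgroup G} (h : X ≤ Subgroup.normalizer (U : Set G)) :
    X ≤ Subgroup.normalizer ((Subgroup.centralizer (U : Set G) : Subgroup G) : Set G) := by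
  apply le_normalizer_of_forall_conj_mem
  intro x hx c hc
  rw [Subgroup.mem_centralizer_iff] at hc ⊢
  intro u hu
  have hu' : x⁻¹ * u * x ∈ U := conj_mem_of_le_normalizer' h hx hu
  have h1 := hc _ hu'
  calc u * (x * c * x⁻¹) = x * ((x⁻¹ * u * x) * c) * x⁻¹ := by group
    _ = x * (c * (x⁻¹ * u * x)) * x⁻¹ := by rw [h1]
    _ = x * c * x⁻¹ * u := by group

theorem le_normalizer_inf {X A B : Subgroup G} (hA : X ≤ Subgroup.normalizer (A : Set G))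
    (hB : X ≤ Subgroup.normalizer (B : Set G)) :
    X ≤ Subgroup.normalizer ((A ⊓ B : Subgroup G) : Set G) := by
  apply le_normalizer_of_forall_conj_mem
  intro x hx c hc
  exact Subgroup.mem_inf.mpr ⟨conj_mem_of_le_normalizer hA hx (Subgroup.mem_inf.mp hc).1,
    conj_mem_of_le_normalizer hB hx (Subgroup.mem_inf.mp hc).2⟩

theorem comm_mem_right {V X : Subgroup G} {v x : G} (hv : v ∈ V) (hx : x ∈ X) :
    ⁅x, v⁆ ∈ ⁅V, X⁆ := by
  have h1 : ⁅x, v⁆ = ⁅v, x⁆⁻¹ := by simp only [commutatorElement_def]; group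
  rw [h1]
  exact Subgroup.inv_mem _ (Subgroup.commutator_mem_commutator hv hx)

/-- The kernel of the action on `V / S`, inside the normalizer of `S`. -/
def sectKer (V S : Subgroup G) : Subgroup G where
  carrier := {g | g ∈ Subgroup.normalizer (S : Set G) ∧ ∀ v ∈ V, ⁅v, g⁆ ∈ S}
  one_mem' := by
    refine ⟨Subgroup.one_mem _, fun v _ => ?_⟩
    simp
  mul_mem' := by
    rintro g h ⟨hg1, hg2⟩ ⟨hh1, hh2⟩
    refine ⟨Subgroup.mul_mem _ hg1 hh1, fun v hv => ?_⟩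
    have h1 : ⁅v, g * h⁆ = ⁅v, g⁆ * (g * ⁅v, h⁆ * g⁻¹) := by
      simp only [commutatorElement_def]; group
    rw [h1]
    exact S.mul_mem (hg2 v hv) ((Subgroup.mem_normalizer_iff.mp hg1 _).mp (hh2 v hv))
  inv_mem' := by
    rintro g ⟨hg1, hg2⟩
    refine ⟨Subgroup.inv_mem _ hg1, fun v hv => ?_⟩
    have h1 : ⁅v, g⁻¹⁆ = g⁻¹ * (⁅v, g⁆)⁻¹ * g⁻¹⁻¹ := by
      simp only [commutatorElement_def]; group
    rw [h1]
    exact (Subgroup.mem_normalizer_iff.mp (Subgroup.inv_mem _ hg1) _).mp (S.inv_mem (hg2 v hv))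

theorem le_sectKer {V S X : Subgroup G} (hX : X ≤ Subgroup.normalizer (S : Set G))
    (h : ⁅V, X⁆ ≤ S) : X ≤ sectKer V S :=
  fun _ hx => ⟨hX hx, fun _ hv => h (Subgroup.commutator_mem_commutator hv hx)⟩

theorem commutator_le_of_le_sectKer {V S X : Subgroup G} (h : X ≤ sectKer V S) : ⁅V, X⁆ ≤ S := by
  rw [Subgroup.commutator_le]
  intro v hv x hx
  exact (h hx).2 v hv

/-! ### Stabilizers of chains are `p`-groups -/

theorem isPGroup_of_stab {p : ℕ} {V U K : Subgroup G} (hVp : ∀ v ∈ V, v ^ p = 1) (hUV : U ≤ V)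
    (h1 : ⁅V, K⁆ ≤ U) (h2 : K ≤ Subgroup.centralizer (U : Set G))
    (hK : K ⊓ Subgroup.centralizer (V : Set G) = ⊥) : IsPGroup p K := by
  rintro ⟨k, hk⟩
  refine ⟨1, ?_⟩
  rw [pow_one]
  apply Subtype.ext
  show k ^ p = 1
  have hmem : k ^ p ∈ K ⊓ Subgroup.centralizer (V : Set G) := by
    refine Subgroup.mem_inf.mpr ⟨K.pow_mem hk p, ?_⟩
    rw [Subgroup.mem_centralizer_iff]
    intro v hv
    set u := ⁅k, v⁆ with hu
    have huU : u ∈ U := h1 (comm_mem_right hv hk)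
    have hku : u * k = k * u := (Subgroup.mem_centralizer_iff.mp (h2 hk)) u huU
    have hkv : k * v = u * v * k := by rw [hu, commutatorElement_def]; group
    have key : ∀ n : ℕ, k ^ n * v = u ^ n * v * k ^ n := by
      intro n
      induction n with
      | zero => simp
      | succ n ih =>
        have hkun : k * u ^ n = u ^ n * k := ((Commute.pow_right (show Commute k u from hku.symm)) n).eq
        calc k ^ (n + 1) * v = k * (k ^ n * v) := by rw [pow_succ']; group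
          _ = k * (u ^ n * v * k ^ n) := by rw [ih]
          _ = (k * u ^ n) * v * k ^ n := by group
          _ = u ^ n * (k * v) * k ^ n := by rw [hkun]; group
          _ = u ^ n * (u * v * k) * k ^ n := by rw [hkv]
          _ = u ^ (n + 1) * v * k ^ (n + 1) := by rw [pow_succ, pow_succ']; group
    have := key p
    rw [hVp u (hUV huU), one_mul] at this
    exact this.symm
  rw [hK] at hmem
  exact Subgroup.mem_bot.mp hmem

/-! ### Trivial `O_p` -/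

theorem eq_bot_of_normal_pgroup {p : ℕ} {E X C : Subgroup G} (hOp : pCore p ↥E = ⊥)
    (hX : RelSN X E) (hCX : C ≤ X) (hN : X ≤ Subgroup.normalizer (C : Set G))
    (hC : IsPGroup p C) : C = ⊥ := by
  have h1 := le_map_pCore_of_normal_subgroupOf hCX
    (Subgroup.normal_subgroupOf_of_le_normalizer hN) hC
  have h2 := map_pCore_le_map_pCore_of_isSubnormal p hX.le hX.isSubnormal_subgroupOf
  rw [hOp, Subgroup.map_bot] at h2
  exact le_bot_iff.mp (h1.trans h2)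

theorem pCore_eq_bot_of_relSN {p : ℕ} {E M : Subgroup G} (hOp : pCore p ↥E = ⊥)
    (hM : RelSN M E) : pCore p ↥M = ⊥ := by
  have h2 := map_pCore_le_map_pCore_of_isSubnormal p hM.le hM.isSubnormal_subgroupOf
  rw [hOp, Subgroup.map_bot, le_bot_iff] at h2
  exact (Subgroup.map_eq_bot_iff_of_injective _ M.subtype_injective).mp h2


/-! ### The configuration -/

/-- The hypotheses of the statement, for the ordered pair `(E₁, E₂)`. -/
structure Hyp (p : ℕ) (V E E₁ E₂ : Subgroup G) : Prop where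
  hV : IsElementaryAbelian p V
  hEV : E ≤ Subgroup.normalizer (V : Set G)
  hf : E ⊓ Subgroup.centralizer (V : Set G) = ⊥
  hgen : E = E₁ ⊔ E₂
  hs₁ : RelSN E₁ E
  hs₂ : RelSN E₂ E
  hOp : pCore p ↥E = ⊥
  hirr₁ : ∀ U : Subgroup G, U ≤ ⁅V, E₁⁆ → E₁ ≤ Subgroup.normalizer (U : Set G) →
    U = ⊥ ∨ U = ⁅V, E₁⁆
  hirr₂ : ∀ U : Subgroup G, U ≤ ⁅V, E₂⁆ → E₂ ≤ Subgroup.normalizer (U : Set G) →
    U = ⊥ ∨ U = ⁅V, E₂⁆
  h12 : ¬ ⁅V, E₁⁆ ≤ ⁅V, E₂⁆
  h21 : ¬ ⁅V, E₂⁆ ≤ ⁅V, E₁⁆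
  hc₁ : 2 < Nat.card E₁
  hc₂ : 2 < Nat.card E₂

namespace Hyp

variable {p : ℕ} {V E E₁ E₂ : Subgroup G}

theorem symm (h : Hyp p V E E₁ E₂) : Hyp p V E E₂ E₁ :=
  { hV := h.hV, hEV := h.hEV, hf := h.hf, hgen := by rw [h.hgen, sup_comm], hs₁ := h.hs₂,
    hs₂ := h.hs₁, hOp := h.hOp, hirr₁ := h.hirr₂, hirr₂ := h.hirr₁, h12 := h.h21, h21 := h.h12,
    hc₁ := h.hc₂, hc₂ := h.hc₁ }

theorem le₁ (h : Hyp p V E E₁ E₂) : E₁ ≤ E := h.hs₁.le
theorem le₂ (h : Hyp p V E E₁ E₂) : E₂ ≤ E := h.hs₂.le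

theorem hE₁V (h : Hyp p V E E₁ E₂) : E₁ ≤ Subgroup.normalizer (V : Set G) := h.le₁.trans h.hEV

theorem W₁_le (h : Hyp p V E E₁ E₂) : ⁅V, E₁⁆ ≤ V := commutator_le_of_le_normalizer h.hE₁V

theorem E₁_norm_W₁ (h : Hyp p V E E₁ E₂) :
    E₁ ≤ Subgroup.normalizer ((⁅V, E₁⁆ : Subgroup G) : Set G) :=
  le_normalizer_commutator h.hE₁V Subgroup.le_normalizer

/-- `E₁` normalizes every subgroup between `[V, E₁]` and `V`. -/
theorem norm_of_ge (h : Hyp p V E E₁ E₂) {U : Subgroup G} (h1 : ⁅V, E₁⁆ ≤ U) (h2 : U ≤ V) :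
    E₁ ≤ Subgroup.normalizer (U : Set G) :=
  le_normalizer_of_commutator_le ((Subgroup.commutator_mono h2 le_rfl).trans h1)

theorem S_le (h : Hyp p V E E₁ E₂) : ⁅V, E₁⁆ ⊔ ⁅V, E₂⁆ ≤ V := sup_le h.W₁_le h.symm.W₁_le

theorem S_norm (h : Hyp p V E E₁ E₂) :
    E ≤ Subgroup.normalizer ((⁅V, E₁⁆ ⊔ ⁅V, E₂⁆ : Subgroup G) : Set G) := by
  conv_lhs => rw [h.hgen]
  exact sup_le (h.norm_of_ge le_sup_left h.S_le) (h.symm.norm_of_ge le_sup_right h.S_le)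

theorem comm_V_E (h : Hyp p V E E₁ E₂) : ⁅V, E⁆ = ⁅V, E₁⁆ ⊔ ⁅V, E₂⁆ := by
  apply le_antisymm
  · apply commutator_le_of_le_sectKer
    conv_lhs => rw [h.hgen]
    exact sup_le (le_sectKer (h.le₁.trans h.S_norm) le_sup_left)
      (le_sectKer (h.le₂.trans h.S_norm) le_sup_right)
  · exact sup_le (Subgroup.commutator_mono le_rfl h.le₁) (Subgroup.commutator_mono le_rfl h.le₂)

theorem hVp (h : Hyp p V E E₁ E₂) : ∀ v ∈ V, v ^ p = 1 := h.hV.2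

theorem hVc (h : Hyp p V E E₁ E₂) : ∀ x ∈ V, ∀ y ∈ V, x * y = y * x := by
  intro x hx y hy
  exact congrArg Subtype.val (h.hV.1.is_comm.comm (⟨x, hx⟩ : ↥V) ⟨y, hy⟩)

/-- `E₁` acts faithfully on `[V, E₁]`. -/
theorem faithful₁ (h : Hyp p V E E₁ E₂) :
    E₁ ⊓ Subgroup.centralizer ((⁅V, E₁⁆ : Subgroup G) : Set G) = ⊥ := by
  set C := E₁ ⊓ Subgroup.centralizer ((⁅V, E₁⁆ : Subgroup G) : Set G) with hC
  have hCE₁ : C ≤ E₁ := inf_le_left
  have hpg : IsPGroup p C := by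
    apply isPGroup_of_stab h.hVp h.W₁_le (Subgroup.commutator_mono le_rfl hCE₁) inf_le_right
    rw [eq_bot_iff, ← h.hf]
    exact inf_le_inf_right _ (hCE₁.trans h.le₁)
  have hN : E₁ ≤ Subgroup.normalizer (C : Set G) :=
    le_normalizer_inf Subgroup.le_normalizer (le_normalizer_centralizer h.E₁_norm_W₁)
  exact eq_bot_of_normal_pgroup h.hOp h.hs₁ hCE₁ hN hpg


theorem hE₁V' (h : Hyp p V E E₁ E₂) : E₂ ≤ Subgroup.normalizer (V : Set G) := h.symm.hE₁V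

/-- Everything follows once `E₁` and `E₂` commute. -/
theorem rest (h : Hyp p V E E₁ E₂) (hc : ⁅E₁, E₂⁆ = ⊥) :
    E₁ ⊓ E₂ = ⊥ ∧ ⁅V, E₁⁆ ⊓ ⁅V, E₂⁆ = ⊥ ∧ ⁅V, E⁆ = ⁅V, E₁⁆ ⊔ ⁅V, E₂⁆ := by
  have h12c : E₁ ≤ Subgroup.centralizer (E₂ : Set G) :=
    Subgroup.commutator_eq_bot_iff_le_centralizer.mp hc
  have h21c : E₂ ≤ Subgroup.centralizer (E₁ : Set G) := Subgroup.le_centralizer_iff.mp h12c
  have hE₂E₁ : E₂ ≤ Subgroup.normalizer (E₁ : Set G) :=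
    h21c.trans (Subgroup.centralizer_le_normalizer _)
  have hE₁E₂ : E₁ ≤ Subgroup.normalizer (E₂ : Set G) :=
    h12c.trans (Subgroup.centralizer_le_normalizer _)
  have hE₂W₁ : E₂ ≤ Subgroup.normalizer ((⁅V, E₁⁆ : Subgroup G) : Set G) :=
    le_normalizer_commutator h.hE₁V' hE₂E₁
  have hinf : ⁅V, E₁⁆ ⊓ ⁅V, E₂⁆ = ⊥ := by
    rcases h.hirr₂ (⁅V, E₁⁆ ⊓ ⁅V, E₂⁆) inf_le_right
      (le_normalizer_inf hE₂W₁ h.symm.E₁_norm_W₁) with h1 | h1
    · exact h1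
    · exact absurd (h1 ▸ inf_le_left) h.h21
  refine ⟨?_, hinf, h.comm_V_E⟩
  have hE₂cW₁ : E₂ ≤ Subgroup.centralizer ((⁅V, E₁⁆ : Subgroup G) : Set G) := by
    have h1 : ⁅⁅V, E₁⁆, E₂⁆ ≤ ⁅V, E₁⁆ ⊓ ⁅V, E₂⁆ :=
      le_inf (commutator_le_of_le_normalizer hE₂W₁) (Subgroup.commutator_mono h.W₁_le le_rfl)
    rw [hinf, le_bot_iff, Subgroup.commutator_eq_bot_iff_le_centralizer] at h1
    exact Subgroup.le_centralizer_iff.mp h1
  set K := E₁ ⊓ E₂ with hK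
  have hpg : IsPGroup p K := by
    apply isPGroup_of_stab h.hVp h.W₁_le (Subgroup.commutator_mono le_rfl inf_le_left)
      (inf_le_right.trans hE₂cW₁)
    rw [eq_bot_iff, ← h.hf]
    exact inf_le_inf_right _ (inf_le_left.trans h.le₁)
  have hN : E ≤ Subgroup.normalizer (K : Set G) := by
    conv_lhs => rw [h.hgen]
    exact sup_le (le_normalizer_inf Subgroup.le_normalizer hE₁E₂)
      (le_normalizer_inf hE₂E₁ Subgroup.le_normalizer)
  exact eq_bot_of_normal_pgroup h.hOp (RelSN.refl E) (inf_le_left.trans h.le₁) hN hpg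


end Hyp

theorem le_normalizer_commutator_left (L A : Subgroup G) :
    L ≤ Subgroup.normalizer ((⁅L, A⁆ : Subgroup G) : Set G) := by
  rw [Subgroup.commutator_def, Subgroup.le_normalizer_closure_iff]
  rintro l hl _ ⟨l', hl', a, ha, rfl⟩
  rw [← Subgroup.commutator_def]
  have h1 : l * ⁅l', a⁆ * l⁻¹ = ⁅l * l', a⁆ * ⁅l, a⁆⁻¹ := by
    simp only [commutatorElement_def]; group
  rw [h1]
  exact Subgroup.mul_mem _ (Subgroup.commutator_mem_commutator (L.mul_mem hl hl') ha)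
    (Subgroup.inv_mem _ (Subgroup.commutator_mem_commutator hl ha))

theorem le_normalizer_sectKer {V S Y : Subgroup G} (hV : Y ≤ Subgroup.normalizer (V : Set G))
    (hS : Y ≤ Subgroup.normalizer (S : Set G)) :
    Y ≤ Subgroup.normalizer ((sectKer V S : Subgroup G) : Set G) := by
  apply le_normalizer_of_forall_conj_mem
  rintro y hy g ⟨hg1, hg2⟩
  refine ⟨Subgroup.mul_mem _ (Subgroup.mul_mem _ (hS hy) hg1) (Subgroup.inv_mem _ (hS hy)), ?_⟩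
  intro v hv
  have h1 : ⁅v, y * g * y⁻¹⁆ = y * ⁅y⁻¹ * v * y, g⁆ * y⁻¹ := by
    simp only [commutatorElement_def]; group
  rw [h1]
  exact conj_mem_of_le_normalizer hS hy (hg2 _ (conj_mem_of_le_normalizer' hV hy hv))

namespace Hyp

variable {p : ℕ} {V E E₁ E₂ : Subgroup G}

/-- **Case A**: `E₂` normalizes `[V, E₁]`. -/
theorem caseA (h : Hyp p V E E₁ E₂)
    (hE₂W₁ : E₂ ≤ Subgroup.normalizer ((⁅V, E₁⁆ : Subgroup G) : Set G)) : ⁅E₁, E₂⁆ = ⊥ := by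
  have hinf : ⁅V, E₁⁆ ⊓ ⁅V, E₂⁆ = ⊥ := by
    rcases h.hirr₂ (⁅V, E₁⁆ ⊓ ⁅V, E₂⁆) inf_le_right
      (le_normalizer_inf hE₂W₁ h.symm.E₁_norm_W₁) with h1 | h1
    · exact h1
    · exact absurd (h1 ▸ inf_le_left) h.h21
  have hE₂cW₁ : E₂ ≤ Subgroup.centralizer ((⁅V, E₁⁆ : Subgroup G) : Set G) := by
    have h1 : ⁅⁅V, E₁⁆, E₂⁆ ≤ ⁅V, E₁⁆ ⊓ ⁅V, E₂⁆ :=
      le_inf (commutator_le_of_le_normalizer hE₂W₁) (Subgroup.commutator_mono h.W₁_le le_rfl)
    rw [hinf, le_bot_iff, Subgroup.commutator_eq_bot_iff_le_centralizer] at h1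
    exact Subgroup.le_centralizer_iff.mp h1
  set K := ⁅E₁, E₂⁆ with hK
  have hKE : K ≤ E := by
    rw [hK, Subgroup.commutator_le]
    intro a ha b hb
    rw [commutatorElement_def]
    exact E.mul_mem (E.mul_mem (E.mul_mem (h.le₁ ha) (h.le₂ hb)) (E.inv_mem (h.le₁ ha)))
      (E.inv_mem (h.le₂ hb))
  -- `K` centralizes `[V, E₁]`
  have hKc : K ≤ Subgroup.centralizer ((⁅V, E₁⁆ : Subgroup G) : Set G) := by
    have h1 : ⁅E₁, E₂⁆ ≤ ⁅E₁, Subgroup.centralizer ((⁅V, E₁⁆ : Subgroup G) : Set G)⁆ :=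
      Subgroup.commutator_mono le_rfl hE₂cW₁
    refine h1.trans ?_
    rw [Subgroup.commutator_comm]
    exact commutator_le_of_le_normalizer (le_normalizer_centralizer h.E₁_norm_W₁)
  -- `K` acts trivially on `V / [V, E₁]`
  have hKs : K ≤ sectKer V ⁅V, E₁⁆ := by
    have h1 : E₁ ≤ sectKer V ⁅V, E₁⁆ := le_sectKer h.E₁_norm_W₁ le_rfl
    have h2 : ⁅E₁, E₂⁆ ≤ ⁅sectKer V ⁅V, E₁⁆, E₂⁆ := Subgroup.commutator_mono h1 le_rfl
    exact h2.trans (commutator_le_of_le_normalizer (le_normalizer_sectKer h.hE₁V' hE₂W₁))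
  have hpg : IsPGroup p K := by
    apply isPGroup_of_stab h.hVp h.W₁_le (commutator_le_of_le_sectKer hKs) hKc
    rw [eq_bot_iff, ← h.hf]
    exact inf_le_inf_right _ hKE
  have hN : E ≤ Subgroup.normalizer (K : Set G) := by
    conv_lhs => rw [h.hgen]
    refine sup_le (le_normalizer_commutator_left E₁ E₂) ?_
    rw [hK, Subgroup.commutator_comm]
    exact le_normalizer_commutator_left E₂ E₁
  exact eq_bot_of_normal_pgroup h.hOp (RelSN.refl E) hKE hN hpg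

end Hyp


/-- The induction hypothesis. -/
def IH (p : ℕ) (V : Subgroup G) (n : ℕ) : Prop :=
  ∀ m < n, ∀ E E₁ E₂ : Subgroup G, Hyp p V E E₁ E₂ → Nat.card E = m → ⁅E₁, E₂⁆ = ⊥

theorem card_sup_conj_lt [Finite G] {E E₁ : Subgroup G} (hs : RelSN E₁ E) (hne : E₁ ≠ E) {x : G}
    (hx : x ∈ E) : Nat.card (E₁ ⊔ MulAut.conj x • E₁ : Subgroup G) < Nat.card E := by
  have hsub : (E₁.subgroupOf E).IsSubnormal := hs.isSubnormal_subgroupOf
  have hne' : E₁.subgroupOf E ≠ ⊤ := by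
    intro h
    rw [Subgroup.subgroupOf_eq_top] at h
    exact hne (le_antisymm hs.le h)
  obtain ⟨K, hKn, hEK, hKlt⟩ := hsub.exists_normal_and_le_and_lt_top_of_ne hne'
  have hle : E₁ ⊔ MulAut.conj x • E₁ ≤ K.map E.subtype := by
    apply sup_le
    · intro a ha
      exact ⟨⟨a, hs.le ha⟩, hEK (by simpa [Subgroup.mem_subgroupOf] using ha), rfl⟩
    · intro a ha
      rw [mem_conj_smul] at ha
      have hb : (⟨x⁻¹ * a * x, hs.le ha⟩ : ↥E) ∈ K :=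
        hEK (by simpa [Subgroup.mem_subgroupOf] using ha)
      have := hKn.conj_mem _ hb ⟨x, hx⟩
      refine ⟨_, this, ?_⟩
      simp only [Subgroup.subtype_apply, Subgroup.coe_mul, Subgroup.coe_inv]
      group
  calc Nat.card (E₁ ⊔ MulAut.conj x • E₁ : Subgroup G)
      ≤ Nat.card (K.map E.subtype) := Subgroup.card_le_of_le hle
    _ = Nat.card K := Subgroup.card_map_of_injective E.subtype_injective
    _ < Nat.card E := by
        have h1 : Nat.card K ≤ Nat.card E := K.card_le_card_group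
        rcases h1.lt_or_eq with h | h
        · exact h
        · exact absurd (K.card_eq_iff_eq_top.mp h) hKlt.ne

namespace Hyp

variable {p : ℕ} {V E E₁ E₂ : Subgroup G}

theorem E₁_ne (h : Hyp p V E E₁ E₂) : E₁ ≠ E := by
  intro heq
  apply h.h21
  have := Subgroup.commutator_mono (le_refl V) h.le₂
  rwa [← heq] at this

theorem conj_W₁ (h : Hyp p V E E₁ E₂) {x : G} (hx : x ∈ E) :
    ⁅V, MulAut.conj x • E₁⁆ = MulAut.conj x • ⁅V, E₁⁆ := by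
  rw [smul_commutator', conj_smul_eq_of_mem_normalizer (h.hEV hx)]

theorem key_IH [Finite G] (h : Hyp p V E E₁ E₂) (ih : IH p V (Nat.card E)) {x : G} (hx : x ∈ E)
    (hmove : MulAut.conj x • ⁅V, E₁⁆ ≠ ⁅V, E₁⁆) :
    E₁ ≤ Subgroup.centralizer ((MulAut.conj x • ⁅V, E₁⁆ : Subgroup G) : Set G) ∧
      ⁅V, E₁⁆ ⊓ MulAut.conj x • ⁅V, E₁⁆ = ⊥ := by
  set α := MulAut.conj x with hα
  set M := E₁ ⊔ α • E₁ with hM
  have hxE₁ : α • E₁ ≤ E := Subgroup.conj_smul_le_of_le h.le₁ ⟨x, hx⟩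
  have hME : M ≤ E := sup_le h.le₁ hxE₁
  have hsx : RelSN (α • E₁) E := by
    have := h.hs₁.smul x
    rwa [Subgroup.conj_smul_eq_self_of_mem hx] at this
  have hWx := h.conj_W₁ hx
  have hcard : Nat.card (α • ⁅V, E₁⁆ : Subgroup G) = Nat.card ↥(⁅V, E₁⁆) := card_smul' α _
  have hM' : Hyp p V M E₁ (α • E₁) :=
    { hV := h.hV
      hEV := hME.trans h.hEV
      hf := by
        rw [eq_bot_iff, ← h.hf]
        exact inf_le_inf_right _ hME
      hgen := rfl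
      hs₁ := h.hs₁.restrict le_sup_left hME
      hs₂ := hsx.restrict le_sup_right hME
      hOp := pCore_eq_bot_of_relSN h.hOp (RelSN.sup h.hs₁ hsx)
      hirr₁ := h.hirr₁
      hirr₂ := by
        intro U hU hN
        rw [hWx] at hU ⊢
        have hU' : α⁻¹ • U ≤ ⁅V, E₁⁆ := by
          rw [Subgroup.pointwise_smul_subset_iff, inv_inv]
          exact hU
        have hN' : E₁ ≤ Subgroup.normalizer ((α⁻¹ • U : Subgroup G) : Set G) := by
          have := smul_le_normalizer α⁻¹ hN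
          rwa [inv_smul_smul] at this
        rcases h.hirr₁ _ hU' hN' with h1 | h1
        · left
          rw [← smul_inv_smul α U, h1, Subgroup.smul_bot]
        · right
          rw [← smul_inv_smul α U, h1]
      h12 := by
        rw [hWx]
        intro hle
        exact hmove (Subgroup.eq_of_le_of_card_ge hle hcard.le).symm
      h21 := by
        rw [hWx]
        intro hle
        exact hmove (Subgroup.eq_of_le_of_card_ge hle hcard.ge)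
      hc₁ := h.hc₁
      hc₂ := by rw [card_smul']; exact h.hc₁ }
  have hlt : Nat.card M < Nat.card E := card_sup_conj_lt h.hs₁ h.E₁_ne hx
  have hcomm : ⁅E₁, α • E₁⁆ = ⊥ := ih _ hlt M E₁ (α • E₁) hM' rfl
  obtain ⟨-, hinf, -⟩ := hM'.rest hcomm
  rw [hWx] at hinf
  refine ⟨?_, hinf⟩
  have h12c : E₁ ≤ Subgroup.centralizer ((α • E₁ : Subgroup G) : Set G) :=
    Subgroup.commutator_eq_bot_iff_le_centralizer.mp hcomm
  have hN : E₁ ≤ Subgroup.normalizer ((α • ⁅V, E₁⁆ : Subgroup G) : Set G) := by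
    rw [← hWx]
    exact le_normalizer_commutator h.hE₁V (h12c.trans (Subgroup.centralizer_le_normalizer _))
  have h1 : ⁅α • ⁅V, E₁⁆, E₁⁆ ≤ ⁅V, E₁⁆ ⊓ α • ⁅V, E₁⁆ := by
    refine le_inf (Subgroup.commutator_mono ?_ le_rfl) (commutator_le_of_le_normalizer hN)
    rw [← hWx]
    exact commutator_le_of_le_normalizer (hxE₁.trans h.hEV)
  rw [hinf, le_bot_iff, Subgroup.commutator_eq_bot_iff_le_centralizer] at h1
  exact Subgroup.le_centralizer_iff.mp h1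

end Hyp


namespace Hyp

variable {p : ℕ} {V E E₁ E₂ : Subgroup G}

theorem norm_of_le_V (h : Hyp p V E E₁ E₂) {A B : Subgroup G} (hA : A ≤ V) (hB : B ≤ V) :
    A ≤ Subgroup.normalizer (B : Set G) := by
  refine le_trans ?_ (Subgroup.centralizer_le_normalizer _)
  intro a ha
  rw [Subgroup.mem_centralizer_iff]
  intro b hb
  exact h.hVc b (hB hb) a (hA ha)

theorem conj_W₁_le_S (h : Hyp p V E E₁ E₂) {x : G} (hx : x ∈ E) :
    MulAut.conj x • ⁅V, E₁⁆ ≤ ⁅V, E₁⁆ ⊔ ⁅V, E₂⁆ := by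
  have h1 : MulAut.conj x • ⁅V, E₁⁆ ≤ MulAut.conj x • (⁅V, E₁⁆ ⊔ ⁅V, E₂⁆) :=
    Subgroup.pointwise_smul_le_pointwise_smul_iff.mpr le_sup_left
  rwa [conj_smul_eq_of_mem_normalizer (h.S_norm hx)] at h1

/-- A moving conjugate forces `|W₁| · |W₁ ∩ W₂| ≤ |W₂|`. -/
theorem card_ineq [Finite G] (h : Hyp p V E E₁ E₂) (ih : IH p V (Nat.card E)) {x : G}
    (hx : x ∈ E) (hmove : MulAut.conj x • ⁅V, E₁⁆ ≠ ⁅V, E₁⁆) :
    Nat.card ↥(⁅V, E₁⁆) * Nat.card ↥(⁅V, E₁⁆ ⊓ ⁅V, E₂⁆) ≤ Nat.card ↥(⁅V, E₂⁆) := by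
  obtain ⟨-, hinf⟩ := h.key_IH ih hx hmove
  have hWxS := h.conj_W₁_le_S hx
  have hWxV : MulAut.conj x • ⁅V, E₁⁆ ≤ V := hWxS.trans h.S_le
  have h1 := card_sup_mul_card_inf (h.norm_of_le_V h.W₁_le hWxV)
  rw [hinf, Subgroup.card_bot, mul_one, card_smul'] at h1
  have h2 := card_sup_mul_card_inf (h.norm_of_le_V h.W₁_le h.symm.W₁_le)
  have h3 : Nat.card ↥(⁅V, E₁⁆ ⊔ MulAut.conj x • ⁅V, E₁⁆) ≤ Nat.card ↥(⁅V, E₁⁆ ⊔ ⁅V, E₂⁆) :=
    Subgroup.card_le_of_le (sup_le le_sup_left hWxS)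
  rw [h1] at h3
  have hpos : 0 < Nat.card ↥(⁅V, E₁⁆) := Nat.card_pos
  have h4 : Nat.card ↥(⁅V, E₁⁆) * (Nat.card ↥(⁅V, E₁⁆) * Nat.card ↥(⁅V, E₁⁆ ⊓ ⁅V, E₂⁆)) ≤
      Nat.card ↥(⁅V, E₁⁆) * Nat.card ↥(⁅V, E₂⁆) := by
    rw [← h2, ← mul_assoc]
    exact Nat.mul_le_mul_right _ h3
  exact Nat.le_of_mul_le_mul_left h4 hpos

theorem inf_fix_eq_bot (h : Hyp p V E E₁ E₂) {y : G}
    (hdisj : ⁅V, E₂⁆ ⊓ MulAut.conj y • ⁅V, E₂⁆ = ⊥) :
    ((⁅V, E₁⁆ ⊔ ⁅V, E₂⁆) ⊓ Subgroup.centralizer ({y} : Set G)) ⊓ ⁅V, E₂⁆ = ⊥ := by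
  rw [eq_bot_iff]
  intro a ha
  obtain ⟨ha1, ha2⟩ := Subgroup.mem_inf.mp ha
  obtain ⟨-, ha3⟩ := Subgroup.mem_inf.mp ha1
  rw [Subgroup.mem_centralizer_iff] at ha3
  have h1 : y * a = a * y := ha3 y rfl
  have h2 : a = y * a * y⁻¹ := by rw [h1]; group
  have h3 : a ∈ MulAut.conj y • ⁅V, E₂⁆ := by
    rw [h2]
    exact conj_mem_conj_smul ha2
  rw [← hdisj]
  exact Subgroup.mem_inf.mpr ⟨ha2, h3⟩

/-- The fixed points of a moving `y ∈ E₁` on `S` are exactly the moved conjugate of `W₁`. -/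
theorem fix_eq [Finite G] (h : Hyp p V E E₁ E₂)
    (hq : Nat.card ↥(⁅V, E₂⁆) = Nat.card ↥(⁅V, E₁⁆))
    (hS : Nat.card ↥(⁅V, E₁⁆ ⊔ ⁅V, E₂⁆) = Nat.card ↥(⁅V, E₁⁆) * Nat.card ↥(⁅V, E₁⁆))
    {x y : G} (hx : x ∈ E) (hy : y ∈ E₁)
    (hcent : E₁ ≤ Subgroup.centralizer ((MulAut.conj x • ⁅V, E₁⁆ : Subgroup G) : Set G))
    (hdisj : ⁅V, E₂⁆ ⊓ MulAut.conj y • ⁅V, E₂⁆ = ⊥) :
    MulAut.conj x • ⁅V, E₁⁆ =
      (⁅V, E₁⁆ ⊔ ⁅V, E₂⁆) ⊓ Subgroup.centralizer ({y} : Set G) := by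
  set Cy := (⁅V, E₁⁆ ⊔ ⁅V, E₂⁆) ⊓ Subgroup.centralizer ({y} : Set G) with hCy
  have hle : MulAut.conj x • ⁅V, E₁⁆ ≤ Cy := by
    refine le_inf (h.conj_W₁_le_S hx) ?_
    intro a ha
    rw [Subgroup.mem_centralizer_iff]
    intro z hz
    rw [Set.mem_singleton_iff] at hz
    subst hz
    exact ((Subgroup.mem_centralizer_iff.mp (hcent hy)) a ha).symm
  apply Subgroup.eq_of_le_of_card_ge hle
  rw [card_smul']
  have hCyV : Cy ≤ V := inf_le_left.trans h.S_le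
  have h1 := card_sup_mul_card_inf (h.norm_of_le_V hCyV h.symm.W₁_le)
  rw [h.inf_fix_eq_bot hdisj, Subgroup.card_bot, mul_one, hq] at h1
  have h2 : Nat.card ↥(Cy ⊔ ⁅V, E₂⁆) ≤ Nat.card ↥(⁅V, E₁⁆ ⊔ ⁅V, E₂⁆) :=
    Subgroup.card_le_of_le (sup_le inf_le_left le_sup_right)
  rw [h1, hS] at h2
  have hpos : 0 < Nat.card ↥(⁅V, E₁⁆) := Nat.card_pos
  exact Nat.le_of_mul_le_mul_right h2 hpos

/-- An element of `E₁` normalizing `W₂` is trivial, once `W₁ ≤ W₂ W'` with `E₁` centralizing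
`W'`. -/
theorem triv_of_norm (h : Hyp p V E E₁ E₂) (hinf : ⁅V, E₁⁆ ⊓ ⁅V, E₂⁆ = ⊥) {W' : Subgroup G}
    (hW'V : W' ≤ V) (hS' : ⁅V, E₁⁆ ≤ ⁅V, E₂⁆ ⊔ W')
    (hcent : E₁ ≤ Subgroup.centralizer (W' : Set G)) {t : G} (ht : t ∈ E₁)
    (htn : t ∈ Subgroup.normalizer ((⁅V, E₂⁆ : Subgroup G) : Set G)) : t = 1 := by
  have hmem : t ∈ E₁ ⊓ Subgroup.centralizer ((⁅V, E₁⁆ : Subgroup G) : Set G) := by
    refine Subgroup.mem_inf.mpr ⟨ht, ?_⟩
    rw [Subgroup.mem_centralizer_iff]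
    intro w hw
    have hw' : w ∈ ((⁅V, E₂⁆ ⊔ W' : Subgroup G) : Set G) := hS' hw
    rw [Subgroup.coe_mul_of_left_le_normalizer_right _ _
      (h.norm_of_le_V h.symm.W₁_le hW'V)] at hw'
    obtain ⟨a, ha, b, hb, hab⟩ := hw'
    simp only at hab
    have htb : b * t = t * b := (Subgroup.mem_centralizer_iff.mp (hcent ht)) b hb
    have h1 : ⁅t, w⁆ ∈ ⁅V, E₁⁆ := comm_mem_right (h.W₁_le hw) ht
    have h2 : ⁅t, w⁆ = (t * a * t⁻¹) * a⁻¹ := by
      have htb' : t * b * t⁻¹ = b := by rw [← htb]; group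
      calc ⁅t, w⁆ = (t * a * t⁻¹) * (t * b * t⁻¹) * b⁻¹ * a⁻¹ := by
            rw [← hab, commutatorElement_def]; group
        _ = (t * a * t⁻¹) * a⁻¹ := by rw [htb']; group
    have h3 : ⁅t, w⁆ ∈ ⁅V, E₂⁆ := by
      rw [h2]
      exact Subgroup.mul_mem _ ((Subgroup.mem_normalizer_iff.mp htn a).mp ha)
        (Subgroup.inv_mem _ ha)
    have h4 : ⁅t, w⁆ ∈ ⁅V, E₁⁆ ⊓ ⁅V, E₂⁆ := Subgroup.mem_inf.mpr ⟨h1, h3⟩
    rw [hinf, Subgroup.mem_bot, commutatorElement_eq_one_iff_mul_comm] at h4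
    exact h4.symm
  rw [h.faithful₁] at hmem
  exact Subgroup.mem_bot.mp hmem

end Hyp


namespace Hyp

variable {p : ℕ} {V E E₁ E₂ : Subgroup G}

/-- **Case B** is contradictory. -/
theorem caseB [Finite G] (h : Hyp p V E E₁ E₂) (ih : IH p V (Nat.card E)) {x₀ : G}
    (hx₀ : x₀ ∈ E₂) (hmx : MulAut.conj x₀ • ⁅V, E₁⁆ ≠ ⁅V, E₁⁆) {y₀ : G} (hy₀ : y₀ ∈ E₁)
    (hmy : MulAut.conj y₀ • ⁅V, E₂⁆ ≠ ⁅V, E₂⁆) : False := by
  have i1 := h.card_ineq ih (h.le₂ hx₀) hmx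
  have i2 := h.symm.card_ineq ih (h.le₁ hy₀) hmy
  rw [inf_comm] at i2
  set q₁ := Nat.card ↥(⁅V, E₁⁆) with hq₁
  set q₂ := Nat.card ↥(⁅V, E₂⁆) with hq₂
  set c := Nat.card ↥(⁅V, E₁⁆ ⊓ ⁅V, E₂⁆) with hc
  have hq₁pos : 0 < q₁ := Nat.card_pos
  have hq₂pos : 0 < q₂ := Nat.card_pos
  have hcpos : 0 < c := Nat.card_pos
  have hc1 : c = 1 := by
    by_contra hne
    have hc2 : 2 ≤ c := by omega
    have h1 : q₁ * 2 ≤ q₂ := le_trans (Nat.mul_le_mul_left _ hc2) i1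
    have h2 : q₂ * 2 ≤ q₁ := le_trans (Nat.mul_le_mul_left _ hc2) i2
    omega
  rw [hc1, mul_one] at i1 i2
  have hq : q₂ = q₁ := le_antisymm i2 i1
  have hinf : ⁅V, E₁⁆ ⊓ ⁅V, E₂⁆ = ⊥ := Subgroup.card_eq_one.mp hc1
  have hS : Nat.card ↥(⁅V, E₁⁆ ⊔ ⁅V, E₂⁆) = q₁ * q₁ := by
    have := card_sup_mul_card_inf (h.norm_of_le_V h.W₁_le h.symm.W₁_le)
    rw [hinf, Subgroup.card_bot, mul_one] at this
    rw [this, ← hq₂, hq]
  obtain ⟨hcx, hix⟩ := h.key_IH ih (h.le₂ hx₀) hmx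
  obtain ⟨hcy, hiy⟩ := h.symm.key_IH ih (h.le₁ hy₀) hmy
  have hfix := h.fix_eq hq hS (h.le₂ hx₀) hy₀ hcx hiy
  set W' := MulAut.conj x₀ • ⁅V, E₁⁆ with hW'
  have hW'S : W' ≤ ⁅V, E₁⁆ ⊔ ⁅V, E₂⁆ := h.conj_W₁_le_S (h.le₂ hx₀)
  have hW'V : W' ≤ V := hW'S.trans h.S_le
  have hW'W₂ : W' ⊓ ⁅V, E₂⁆ = ⊥ := by
    rw [hfix]
    exact h.inf_fix_eq_bot hiy
  have hS' : ⁅V, E₁⁆ ⊔ ⁅V, E₂⁆ = ⁅V, E₂⁆ ⊔ W' := by
    symm
    apply Subgroup.eq_of_le_of_card_ge (sup_le le_sup_right hW'S)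
    have := card_sup_mul_card_inf (h.norm_of_le_V h.symm.W₁_le hW'V)
    rw [inf_comm, hW'W₂, Subgroup.card_bot, mul_one, hW', card_smul', ← hq₁, ← hq₂, hq] at this
    rw [hS, this]
  have htriv : ∀ t ∈ E₁, t ∈ Subgroup.normalizer ((⁅V, E₂⁆ : Subgroup G) : Set G) → t = 1 :=
    fun t ht htn => h.triv_of_norm hinf hW'V (le_sup_left.trans hS'.le) hcx ht htn
  -- all nontrivial elements of `E₁` move `W₂` to the same place
  have hmoved : ∀ y ∈ E₁, y ≠ 1 → MulAut.conj y • ⁅V, E₂⁆ =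
      (⁅V, E₂⁆ ⊔ ⁅V, E₁⁆) ⊓ Subgroup.centralizer ({x₀} : Set G) := by
    intro y hy hy1
    have hmy' : MulAut.conj y • ⁅V, E₂⁆ ≠ ⁅V, E₂⁆ := by
      intro heq
      exact hy1 (htriv y hy (mem_normalizer_of_conj_smul_le heq.le))
    obtain ⟨hcy', -⟩ := h.symm.key_IH ih (h.le₁ hy) hmy'
    have hS₂ : Nat.card ↥(⁅V, E₂⁆ ⊔ ⁅V, E₁⁆) = q₂ * q₂ := by
      rw [sup_comm, hS, hq]
    exact h.symm.fix_eq hq.symm hS₂ (h.le₁ hy) hx₀ hcy' hix
  have huniq : ∀ y ∈ E₁, ∀ y' ∈ E₁, y ≠ 1 → y' ≠ 1 → y = y' := by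
    intro y hy y' hy' hy1 hy'1
    have h1 := hmoved y hy hy1
    have h2 := hmoved y' hy' hy'1
    have h3 : MulAut.conj (y'⁻¹ * y) • ⁅V, E₂⁆ = ⁅V, E₂⁆ := by
      rw [map_mul, mul_smul, h1, ← h2, map_inv, inv_smul_smul]
    have h4 := htriv (y'⁻¹ * y) (E₁.mul_mem (E₁.inv_mem hy') hy)
      (mem_normalizer_of_conj_smul_le h3.le)
    calc y = y' * (y'⁻¹ * y) := by group
      _ = y' := by rw [h4, mul_one]
  -- hence `|E₁| ≤ 2`
  have hc₁ := h.hc₁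
  haveI : Fintype ↥E₁ := Fintype.ofFinite _
  rw [Nat.card_eq_fintype_card] at hc₁
  obtain ⟨a, b, d, hab, had, hbd⟩ := Fintype.two_lt_card_iff.mp hc₁
  have hu : ∀ y y' : ↥E₁, y ≠ 1 → y' ≠ 1 → y = y' := by
    intro y y' hy hy'
    apply Subtype.ext
    exact huniq y y.2 y' y'.2 (fun hh => hy (Subtype.ext hh)) (fun hh => hy' (Subtype.ext hh))
  by_cases ha : a = 1
  · have hb : b ≠ 1 := fun hb => hab (ha.trans hb.symm)
    have hd : d ≠ 1 := fun hd => had (ha.trans hd.symm)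
    exact hbd (hu b d hb hd)
  · by_cases hb : b = 1
    · have hd : d ≠ 1 := fun hd => hbd (hb.trans hd.symm)
      exact had (hu a d ha hd)
    · exact hab (hu a b ha hb)

end Hyp

/-- The main claim, by induction on `|E|`. -/
theorem main [Finite G] (p : ℕ) (V : Subgroup G) :
    ∀ n : ℕ, ∀ E E₁ E₂ : Subgroup G, Hyp p V E E₁ E₂ → Nat.card E = n → ⁅E₁, E₂⁆ = ⊥ := by
  intro n
  induction n using Nat.strong_induction_on with
  | _ n ih =>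
    intro E E₁ E₂ h hn
    have ih' : IH p V (Nat.card E) := by
      rw [hn]
      exact ih
    by_cases h1 : E₂ ≤ Subgroup.normalizer ((⁅V, E₁⁆ : Subgroup G) : Set G)
    · exact h.caseA h1
    by_cases h2 : E₁ ≤ Subgroup.normalizer ((⁅V, E₂⁆ : Subgroup G) : Set G)
    · rw [Subgroup.commutator_comm]
      exact h.symm.caseA h2
    exfalso
    obtain ⟨x₀, hx₀, hx₀n⟩ := SetLike.not_le_iff_exists.mp h1
    obtain ⟨y₀, hy₀, hy₀n⟩ := SetLike.not_le_iff_exists.mp h2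
    refine h.caseB ih' hx₀ ?_ hy₀ ?_
    · intro heq
      exact hx₀n (mem_normalizer_of_conj_smul_le heq.le)
    · intro heq
      exact hy₀n (mem_normalizer_of_conj_smul_le heq.le)

/-- Two subnormal subgroups acting irreducibly on their incomparable commutator modules, in a faithful group with trivial largest normal p-subgroup, generate their direct product, and the commutator module splits accordingly. -/
theorem result {G : Type*} [Group G] [Finite G] {p : ℕ} [Fact p.Prime] (V E E₁ E₂ : Subgroup G) (hV : Cfsg.IsElementaryAbelian p V) (hEV : E ≤ Subgroup.normalizer (V : Set G)) (hf : E ⊓ Subgroup.centralizer (V : Set G) = ⊥) (hgen : E = E₁ ⊔ E₂) (hs₁ : (E₁.subgroupOf E).IsSubnormal) (hs₂ : (E₂.subgroupOf E).IsSubnormal) (hOp : Cfsg.pCore p ↥E = ⊥) (hirr₁ : (∀ U : Subgroup G, U ≤ ⁅V, E₁⁆ → E₁ ≤ Subgroup.normalizer (U : Set G) → U = ⊥ ∨ U = ⁅V, E₁⁆)) (hirr₂ : (∀ U : Subgroup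 G, U ≤ ⁅V, E₂⁆ → E₂ ≤ Subgroup.normalizer (U : Set G) → U = ⊥ ∨ U = ⁅V, E₂⁆)) (h12 : ¬ ⁅V, E₁⁆ ≤ ⁅V, E₂⁆) (h21 : ¬ ⁅V, E₂⁆ ≤ ⁅V, E₁⁆) (hc₁ : 2 < Nat.card E₁) (hc₂ : 2 < Nat.card E₂) : ⁅E₁, E₂⁆ = ⊥ ∧ E₁ ⊓ E₂ = ⊥ ∧ ⁅V, E₁⁆ ⊓ ⁅V, E₂⁆ = ⊥ ∧ ⁅V, E⁆ = ⁅V, E₁⁆ ⊔ ⁅V, E₂⁆ := by
  have hE₁E : E₁ ≤ E := by rw [hgen]; exact le_sup_left
  have hE₂E : E₂ ≤ E := by rw [hgen]; exact le_sup_right
  have h : Hyp p V E E₁ E₂ :=
    { hV := hV, hEV := hEV, hf := hf, hgen := hgen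
      hs₁ := relSN_of_isSubnormal_subgroupOf hE₁E hs₁
      hs₂ := relSN_of_isSubnormal_subgroupOf hE₂E hs₂
      hOp := hOp, hirr₁ := hirr₁, hirr₂ := hirr₂, h12 := h12, h21 := h21, hc₁ := hc₁, hc₂ := hc₂ }
  have hc := main p V _ E E₁ E₂ h rfl
  exact ⟨hc, h.rest hc⟩

end Cfsg.Agent.S0615
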