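import Mathlib
import Cfsg.Statements.S0613
import Cfsg.Agent.S0611
import Cfsg.Agent.S0599
import Cfsg.Agent.Lib.Helper54.Coprime
import Cfsg.Agent.Lib.Lead.Offender.TransPair
import Cfsg.Agent.Lib.Lead.Offender.Pair
import Cfsg.Agent.Lib.Lead.Offender.PairSL2
-- import your own Cfsg.Agent.* helpers here

set_option autoImplicit false
open Cfsg
open scoped commutatorElement

namespace Cfsg.Agent.S0613


open Cfsg.Agent.Lib.Lead.Offender

variable {G : Type*} [Group G]

/-- A `p`-subgroup of `L ⊔ A` (`L` a normalized `p'`-group, `A` of order `p`) has order dividing `p`. -/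
theorem card_dvd_of_isPGroup_le_sup [Finite G] {p : ℕ} [Fact p.Prime] {L A P : Subgroup G}
    (hAL : A ≤ Subgroup.normalizer (L : Set G)) (hA : Nat.card A = p)
    (hL : (Nat.card L).Coprime p) (hP : IsPGroup p P) (hPLA : P ≤ L ⊔ A) : Nat.card P ∣ p := by
  have hdisj : L ⊓ A = ⊥ := by
    apply (Subgroup.disjoint_of_coprime_natCard ?_).eq_bot
    rw [hA]; exact hL
  have h1 := Cfsg.Agent.Lib.Helper54.card_sup_of_le_normalizer hAL hdisj
  have h2 : Nat.card P ∣ Nat.card (L ⊔ A : Subgroup G) := Subgroup.card_dvd_of_le hPLA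
  rw [h1, hA] at h2
  obtain ⟨k, hk⟩ := hP.exists_card_eq
  have h3 : (Nat.card P).Coprime (Nat.card L) := by
    rw [hk]; exact (Nat.Coprime.pow_left k hL.symm)
  exact h3.dvd_of_dvd_mul_left h2

/-- a subgroup of a group of prime order is trivial or everything -/
theorem eq_bot_or_eq_of_le_of_card_prime [Finite G] {p : ℕ} [Fact p.Prime] {A C : Subgroup G}
    (hA : Nat.card A = p) (hC : C ≤ A) : C = ⊥ ∨ C = A := by
  have hpp : p.Prime := Fact.out
  have h1 : Nat.card C ∣ p := hA ▸ Subgroup.card_dvd_of_le hC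
  rcases (Nat.dvd_prime hpp).mp h1 with h | h
  · left; exact Subgroup.card_eq_one.mp h
  · right
    exact Subgroup.eq_of_le_of_card_ge hC (by rw [hA, h])

/-- a subgroup of prime order is generated by one element -/
theorem exists_zpowers_eq_of_card_prime [Finite G] {p : ℕ} [Fact p.Prime] {A : Subgroup G}
    (hA : Nat.card A = p) : ∃ a ∈ A, A = Subgroup.zpowers a := by
  have hAcyc : IsCyclic ↥A := isCyclic_of_prime_card hA
  obtain ⟨⟨a, haA⟩, hagen⟩ := hAcyc.exists_generator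
  refine ⟨a, haA, ?_⟩
  apply le_antisymm
  · intro y hy
    obtain ⟨k, hk⟩ := Subgroup.mem_zpowers_iff.mp (hagen ⟨y, hy⟩)
    rw [Subgroup.mem_zpowers_iff]
    exact ⟨k, by have := congrArg Subtype.val hk; simpa using this⟩
  · rw [Subgroup.zpowers_le]; exact haA

/-- in a finite group, membership in `zpowers` gives a natural exponent -/
theorem exists_pow_eq_of_mem_zpowers [Finite G] {u y : G} (h : y ∈ Subgroup.zpowers u) :
    ∃ n : ℕ, u ^ n = y := by
  rw [← (isOfFinOrder_of_finite u).mem_powers_iff_mem_zpowers] at h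
  exact (Submonoid.mem_powers_iff _ _).mp h
/-- A minimal nontrivially-acting best offender and a conjugate of it under a non-centralizing element of the p'-core generate SL(2, p) acting naturally on a plane, and p is 2 or 3. -/
theorem result {G : Type*} [Group G] [Finite G] {p : ℕ} [Fact p.Prime] (V H : Subgroup G) (hV : Cfsg.IsElementaryAbelian p V) (hHV : H ≤ Subgroup.normalizer (V : Set G)) (hf : H ⊓ Subgroup.centralizer (V : Set G) = ⊥) (hS1 : Subgroup.centralizer (Cfsg.pPrimeCore p ↥H : Set ↥H) ≤ Cfsg.pPrimeCore p ↥H) (hS3 : H = ⨆ A : {A : Subgroup G // A ≤ H ∧ Cfsg.IsBestOffenderOn p V A}, (A : Subgroup G)) (hH1 : H ≠ ⊥) (A : Subgroup G) (hAH : A ≤ H) (hA : Cfsg.IsBestOffenderOn p V A) (hAV : ⁅V, A⁆ ≠ ⊥) (hmin : ∀ B : Subgroup G, B ≤ A → Cfsg.IsBestOffenderOn p V B → ⁅V, B⁆ ≠ ⊥ → B = A) (x : G) (hx : x ∈ ((Cfsg.pPrimeCore p ↥H).map H.subtype)) (hxA : x ∉ Subgroup.centralizer (A : Set G)) : (p = 2 ∨ p = 3) ∧ Nat.card ↥(⁅V, A ⊔ A.map (MulAut.conj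 x).toMonoidHom⁆) = p ^ 2 ∧ (A ⊔ A.map (MulAut.conj x).toMonoidHom) ⊓ Subgroup.centralizer ((⁅V, A ⊔ A.map (MulAut.conj x).toMonoidHom⁆ : Subgroup G) : Set G) = ⊥ ∧ Nonempty (↥(A ⊔ A.map (MulAut.conj x).toMonoidHom) ≃* Matrix.SpecialLinearGroup (Fin 2) (ZMod p)) := by
  have hpp : p.Prime := Fact.out
  obtain ⟨hAcard, hUcard, hrel⟩ := Cfsg.Agent.S0611.result V H hV hHV hf hS1 hS3 hH1 A hAH hA hAV hmin
  set L := Cfsg.Agent.S0610.coreL p H with hLdef
  have hxL : x ∈ L := hx
  have hLH : L ≤ H := Cfsg.Agent.S0610.coreL_le p H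
  have hLcop : (Nat.card L).Coprime p := Cfsg.Agent.S0610.coreL_card_coprime p H
  have hHL : H ≤ Subgroup.normalizer (L : Set G) := Cfsg.Agent.S0610.le_normalizer_coreL p H
  have hxH : x ∈ H := hLH hxL
  set B := A.map (MulAut.conj x).toMonoidHom with hBdef
  set E := A ⊔ B with hEdef
  have hVc : ∀ v ∈ V, ∀ w ∈ V, v * w = w * v := by
    intro v hv w hw
    have := hV.1.1.comm ⟨v, hv⟩ ⟨w, hw⟩
    exact congrArg Subtype.val this
  have hAV' : A ≤ Subgroup.normalizer (V : Set G) := hAH.trans hHV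
  have hBH : B ≤ H := by
    rintro _ ⟨a, ha, rfl⟩
    exact H.mul_mem (H.mul_mem hxH (hAH ha)) (H.inv_mem hxH)
  have hBV' : B ≤ Subgroup.normalizer (V : Set G) := hBH.trans hHV
  have hEH : E ≤ H := sup_le hAH hBH
  -- `A` centralizes `[V, A]`
  have hAquad : A ≤ Subgroup.centralizer ((⁅V, A⁆ : Subgroup G) : Set G) := by
    obtain ⟨h1, -, h3⟩ := Cfsg.Agent.S0599.result V A hV hAV' hA V le_rfl
    have := hmin _ inf_le_left h1 (h3 hAV)
    exact (inf_eq_left.mp this)
  -- a generator of `A`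
  have hAcyc : IsCyclic ↥A := isCyclic_of_prime_card hAcard
  obtain ⟨⟨a, haA⟩, hagen⟩ := hAcyc.exists_generator
  have hAz : A = Subgroup.zpowers a := by
    apply le_antisymm
    · intro y hy
      obtain ⟨k, hk⟩ := Subgroup.mem_zpowers_iff.mp (hagen ⟨y, hy⟩)
      rw [Subgroup.mem_zpowers_iff]
      exact ⟨k, by have := congrArg Subtype.val hk; simpa using this⟩
    · rw [Subgroup.zpowers_le]; exact haA
  set b := x * a * x⁻¹ with hbdef
  have hBz : B = Subgroup.zpowers b := by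
    rw [hBdef, hAz, MonoidHom.map_zpowers]
    rfl
  have hbB : b ∈ B := by rw [hBz]; exact Subgroup.mem_zpowers b
  have hBcard : Nat.card B = p := by
    rw [hBdef, Subgroup.card_map_of_injective (MulAut.conj x).injective, hAcard]
  have ha1 : a ≠ 1 := by
    intro h
    rw [h, Subgroup.zpowers_one_eq_bot] at hAz
    rw [hAz, Subgroup.card_bot] at hAcard
    exact hpp.one_lt.ne hAcard
  have hba : b ≠ a := by
    intro h
    apply hxA
    rw [hAz, Subgroup.mem_centralizer_iff]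
    intro y hy
    obtain ⟨k, rfl⟩ := Subgroup.mem_zpowers_iff.mp hy
    have h1 : x * a = a * x := by
      calc x * a = (x * a * x⁻¹) * x := by group
        _ = a * x := by rw [← hbdef, h]
    exact ((Commute.zpow_right (show Commute x a from h1) k).eq).symm
  have haH : a ∈ H := hAH haA
  have hALn : A ≤ Subgroup.normalizer (L : Set G) := hAH.trans hHL
  have hcL : b * a⁻¹ ∈ L := by
    have h1 : a * x⁻¹ * a⁻¹ ∈ L :=
      (Subgroup.mem_normalizer_iff.mp (hHL haH) _).mp (L.inv_mem hxL)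
    have h2 : b * a⁻¹ = x * (a * x⁻¹ * a⁻¹) := by rw [hbdef]; group
    rw [h2]
    exact L.mul_mem hxL h1
  have hLA : L ⊓ A = ⊥ := by
    apply (Subgroup.disjoint_of_coprime_natCard ?_).eq_bot
    rw [hAcard]; exact hLcop
  have hELA : E ≤ L ⊔ A := by
    apply sup_le le_sup_right
    rw [hBz, Subgroup.zpowers_le]
    have h2 : b = (b * a⁻¹) * a := by group
    rw [h2]
    exact Subgroup.mul_mem _ (Subgroup.mem_sup_left hcL) (Subgroup.mem_sup_right haA)
  have hAB : A ⊓ B = ⊥ := by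
    rcases eq_bot_or_eq_of_le_of_card_prime hAcard (inf_le_left : A ⊓ B ≤ A) with h | h
    · exact h
    · exfalso
      have h1 : A ≤ B := inf_eq_left.mp h
      have h2 : A = B := Subgroup.eq_of_le_of_card_ge h1 (by rw [hAcard, hBcard])
      have h3 : b * a⁻¹ ∈ L ⊓ A := ⟨hcL, A.mul_mem (h2 ▸ hbB) (A.inv_mem haA)⟩
      rw [hLA, Subgroup.mem_bot] at h3
      exact hba (mul_inv_eq_one.mp h3)
  -- the commutators
  set U := ⁅V, A⁆ with hUdef
  set U' := ⁅V, B⁆ with hU'def
  have hxV : x ∈ Subgroup.normalizer (V : Set G) := hHV hxH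
  have hVmap : V.map (MulAut.conj x).toMonoidHom = V :=
    Subgroup.mem_normalizer_iff_map_conj_eq.mp hxV
  have hU'map : U' = U.map (MulAut.conj x).toMonoidHom := by
    rw [hUdef, Subgroup.map_commutator, hVmap]
  have hU'card : Nat.card U' = p := by
    rw [hU'map, Subgroup.card_map_of_injective (MulAut.conj x).injective, hUcard]
  have hEV' : E ≤ Subgroup.normalizer (V : Set G) := hEH.trans hHV
  set W := ⁅V, E⁆ with hWdef
  have hWeq : W = U ⊔ U' := commutator_sup_eq hAV' hBV'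
  have hWV : W ≤ V := by
    rw [hWdef, Subgroup.commutator_le]
    intro v hv e he
    exact Cfsg.Agent.S0611.comm_mem_of_mem_normalizer (hEV' he) hv
  have hUW : U ≤ W := by rw [hWeq]; exact le_sup_left
  have hU'W : U' ≤ W := by rw [hWeq]; exact le_sup_right
  have hBquad : B ≤ Subgroup.centralizer ((U' : Subgroup G) : Set G) := by
    rintro _ ⟨a', ha', rfl⟩
    rw [Subgroup.mem_centralizer_iff]
    intro u' hu'
    rw [hU'map] at hu'
    obtain ⟨u, hu, rfl⟩ := hu'
    have h1 : u * a' = a' * u := Subgroup.mem_centralizer_iff.mp (hAquad ha') u hu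
    show (MulAut.conj x) u * (MulAut.conj x) a' = (MulAut.conj x) a' * (MulAut.conj x) u
    rw [← map_mul, ← map_mul, h1]
  have hEW : E ≤ Subgroup.normalizer ((W : Subgroup G) : Set G) := by
    intro e he
    rw [Subgroup.mem_normalizer_iff_map_conj_eq, hWdef, Subgroup.map_commutator,
      Subgroup.mem_normalizer_iff_map_conj_eq.mp (hEV' he),
      Subgroup.mem_normalizer_iff_map_conj_eq.mp (Subgroup.le_normalizer he)]
  -- the kernel of the action on `W`
  have hCexp : ∀ c ∈ E ⊓ Subgroup.centralizer ((W : Subgroup G) : Set G), c ^ p = 1 := by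
    intro c hc
    have h1 : c ^ p ∈ Subgroup.centralizer (V : Set G) := by
      apply pow_mem_centralizer_of_stabilizes (W := W) (fun w hw => hV.2 w (hWV hw)) hc.2
      intro v hv
      have h2 : ⁅c, v⁆ = (⁅v, c⁆)⁻¹ := (commutatorElement_inv v c).symm
      rw [h2]
      exact W.inv_mem (Subgroup.commutator_mem_commutator hv hc.1)
    have h3 : c ^ p ∈ H ⊓ Subgroup.centralizer (V : Set G) := ⟨H.pow_mem (hEH hc.1) p, h1⟩
    rw [hf, Subgroup.mem_bot] at h3
    exact h3
  have hC : E ⊓ Subgroup.centralizer ((W : Subgroup G) : Set G) = ⊥ := by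
    set C := E ⊓ Subgroup.centralizer ((W : Subgroup G) : Set G) with hCdef
    have hCp : IsPGroup p C := by
      intro g
      refine ⟨1, ?_⟩
      apply Subtype.ext
      rw [pow_one, Subgroup.coe_pow, Subgroup.coe_one]
      exact hCexp g g.2
    have hEC : E ≤ Subgroup.normalizer ((C : Subgroup G) : Set G) := by
      intro e he
      exact Subgroup.inf_normalizer_le_normalizer_inf
        ⟨Subgroup.le_normalizer he, normalizer_le_normalizer_centralizer W (hEW he)⟩
    have hCE : C ≤ E := inf_le_left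
    have hCA : C ≤ A := by
      have h1 : IsPGroup p (C ⊔ A : Subgroup G) :=
        hCp.to_sup_of_normal_left' (IsPGroup.of_card (n := 1) (by rw [hAcard, pow_one]))
          ((le_sup_left : A ≤ E).trans hEC)
      have h2 : Nat.card (C ⊔ A : Subgroup G) ∣ p :=
        card_dvd_of_isPGroup_le_sup hALn hAcard hLcop h1
          (sup_le (hCE.trans hELA) le_sup_right)
      have h3 : (C ⊔ A : Subgroup G) = A := by
        symm
        apply Subgroup.eq_of_le_of_card_ge le_sup_right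
        rw [hAcard]
        exact Nat.le_of_dvd hpp.pos h2
      rw [← h3]; exact le_sup_left
    have hCB : C ≤ B := by
      have h1 : IsPGroup p (C ⊔ B : Subgroup G) :=
        hCp.to_sup_of_normal_left' (IsPGroup.of_card (n := 1) (by rw [hBcard, pow_one]))
          ((le_sup_right : B ≤ E).trans hEC)
      have h2 : Nat.card (C ⊔ B : Subgroup G) ∣ p :=
        card_dvd_of_isPGroup_le_sup hALn hAcard hLcop h1
          (sup_le (hCE.trans hELA) ((le_sup_right : B ≤ E).trans hELA))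
      have h3 : (C ⊔ B : Subgroup G) = B := by
        symm
        apply Subgroup.eq_of_le_of_card_ge le_sup_right
        rw [hBcard]
        exact Nat.le_of_dvd hpp.pos h2
      rw [← h3]; exact le_sup_left
    rw [eq_bot_iff, ← hAB]
    exact le_inf hCA hCB
  -- `U ≠ U'`
  have haE : a ∈ E := (le_sup_left : A ≤ E) haA
  have hbE : b ∈ E := (le_sup_right : B ≤ E) hbB
  have hUU' : U ≠ U' := by
    intro h
    have hW : W = U := by rw [hWeq, ← h, sup_idem]
    have h1 : a ∈ E ⊓ Subgroup.centralizer ((W : Subgroup G) : Set G) := by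
      refine ⟨haE, ?_⟩
      rw [hW]
      exact hAquad haA
    rw [hC, Subgroup.mem_bot] at h1
    exact ha1 h1
  have hUU'inf : U ⊓ U' = ⊥ := by
    rcases eq_bot_or_eq_of_le_of_card_prime hUcard (inf_le_left : U ⊓ U' ≤ U) with h | h
    · exact h
    · exfalso
      have h1 : U ≤ U' := inf_eq_left.mp h
      exact hUU' (Subgroup.eq_of_le_of_card_ge h1 (by rw [hUcard, hU'card]))
  have hUV : U ≤ V := hUW.trans hWV
  have hU'V : U' ≤ V := hU'W.trans hWV
  have hWcard : Nat.card W = p ^ 2 := by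
    have h1 : U' ≤ Subgroup.normalizer ((U : Subgroup G) : Set G) := by
      refine le_trans ?_ (Subgroup.centralizer_le_normalizer (U : Set G))
      intro u' hu'
      rw [Subgroup.mem_centralizer_iff]
      intro u hu
      exact hVc u (hUV hu) u' (hU'V hu')
    rw [hWeq, Cfsg.Agent.Lib.Helper54.card_sup_of_le_normalizer h1 hUU'inf, hUcard, hU'card, sq]
  -- generators of `U`, `U'`
  obtain ⟨u, huU, hUz⟩ := exists_zpowers_eq_of_card_prime hUcard
  obtain ⟨u', hu'U', hU'z⟩ := exists_zpowers_eq_of_card_prime hU'card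
  -- centralizing `u` and `u'` means centralizing `W`
  have hcentW : ∀ g : G, g * u = u * g → g * u' = u' * g →
      g ∈ Subgroup.centralizer ((W : Subgroup G) : Set G) := by
    intro g hgu hgu'
    have h1 : Subgroup.zpowers g ≤ Subgroup.centralizer ((W : Subgroup G) : Set G) := by
      rw [Subgroup.le_centralizer_iff, hWeq]
      apply sup_le
      · rw [hUz, Subgroup.zpowers_le, Subgroup.mem_centralizer_iff]
        intro y hy
        obtain ⟨k, rfl⟩ := Subgroup.mem_zpowers_iff.mp hy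
        exact ((Commute.zpow_left (show Commute g u from hgu) k).eq)
      · rw [hU'z, Subgroup.zpowers_le, Subgroup.mem_centralizer_iff]
        intro y hy
        obtain ⟨k, rfl⟩ := Subgroup.mem_zpowers_iff.mp hy
        exact ((Commute.zpow_left (show Commute g u' from hgu') k).eq)
    exact h1 (Subgroup.mem_zpowers g)
  have hau : a * u = u * a := (Subgroup.mem_centralizer_iff.mp (hAquad haA) u huU).symm
  have hbu' : b * u' = u' * b := (Subgroup.mem_centralizer_iff.mp (hBquad hbB) u' hu'U').symm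
  have hu'V : u' ∈ V := hU'V hu'U'
  -- `[a, u'] = u ^ s`
  have hcomm1 : ⁅a, u'⁆ ∈ U := by
    have h2 : ⁅a, u'⁆ = (⁅u', a⁆)⁻¹ := (commutatorElement_inv u' a).symm
    rw [h2]
    exact U.inv_mem (Subgroup.commutator_mem_commutator hu'V haA)
  obtain ⟨s, hs⟩ := exists_pow_eq_of_mem_zpowers (hUz ▸ hcomm1)
  set w₁ := u ^ s with hw₁def
  have hw₁U : w₁ ∈ U := U.pow_mem huU s
  have hw₁1 : w₁ ≠ 1 := by
    intro h
    rw [h] at hs
    have h3 : a * u' = u' * a := (commutatorElement_eq_one_iff_mul_comm.mp hs.symm)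
    have h4 : a ∈ E ⊓ Subgroup.centralizer ((W : Subgroup G) : Set G) := ⟨haE, hcentW a hau h3⟩
    rw [hC, Subgroup.mem_bot] at h4
    exact ha1 h4
  have hu'1 : u' ≠ 1 := by
    intro h
    rw [h, Subgroup.zpowers_one_eq_bot] at hU'z
    rw [hU'z, Subgroup.card_bot] at hU'card
    exact hpp.one_lt.ne hU'card
  have haw₁ : a * w₁ * a⁻¹ = w₁ := by
    have := Subgroup.mem_centralizer_iff.mp (hAquad haA) w₁ hw₁U
    rw [← this]; group
  have haw₂ : a * u' * a⁻¹ = w₁ * u' := by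
    rw [hs, commutatorElement_def]; group
  have hbw₂ : b * u' * b⁻¹ = u' := by rw [hbu']; group
  -- `[b, w₁] = u' ^ t`
  have hcomm2 : ⁅b, w₁⁆ ∈ U' := by
    have h2 : ⁅b, w₁⁆ = (⁅w₁, b⁆)⁻¹ := (commutatorElement_inv w₁ b).symm
    rw [h2]
    exact U'.inv_mem (Subgroup.commutator_mem_commutator (hUV hw₁U) hbB)
  obtain ⟨t, ht⟩ := exists_pow_eq_of_mem_zpowers (hU'z ▸ hcomm2)
  have hbw₁ : b * w₁ * b⁻¹ = w₁ * u' ^ t := by
    have h3 : u' ^ t * w₁ = w₁ * u' ^ t := hVc _ (V.pow_mem hu'V t) _ (hUV hw₁U)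
    rw [← h3, ht, commutatorElement_def]; group
  have hUw₁ : U = Subgroup.zpowers w₁ := by
    rcases eq_bot_or_eq_of_le_of_card_prime hUcard
      (show Subgroup.zpowers w₁ ≤ U by rw [Subgroup.zpowers_le]; exact hw₁U) with h | h
    · exfalso
      rw [Subgroup.zpowers_eq_bot] at h
      exact hw₁1 h
    · exact h.symm
  have htp : ¬ p ∣ t := by
    intro hdvd
    obtain ⟨k, hk⟩ := hdvd
    have h3 : u' ^ t = 1 := by rw [hk, pow_mul, hV.2 u' hu'V, one_pow]
    rw [h3] at ht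
    have h4 : b * w₁ = w₁ * b := commutatorElement_eq_one_iff_mul_comm.mp ht.symm
    have h5 : b * u = u * b := by
      have h6 : u ∈ Subgroup.zpowers w₁ := hUw₁ ▸ huU
      obtain ⟨k', hk'⟩ := Subgroup.mem_zpowers_iff.mp h6
      rw [← hk']
      exact ((Commute.zpow_right (show Commute b w₁ from h4) k').eq)
    have h7 : b ∈ E ⊓ Subgroup.centralizer ((W : Subgroup G) : Set G) := ⟨hbE, hcentW b h5 hbu'⟩
    rw [hC, Subgroup.mem_bot] at h7
    apply ha1
    have h8 : x * a * x⁻¹ = 1 := h7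
    calc a = x⁻¹ * (x * a * x⁻¹) * x := by group
      _ = 1 := by rw [h8]; group
  have hEgen : E = Subgroup.zpowers a ⊔ Subgroup.zpowers b := by rw [hEdef, hAz, hBz]
  obtain ⟨φ, hφa, hφb⟩ := sl2_of_transvection_pair_subgroup W E
    (fun v hv w hw => hVc v (hWV hv) w (hWV hw)) (fun w hw => hV.2 w (hWV hw)) hWcard hEW hC a b
    haE hbE hEgen w₁ u' (hUW hw₁U) (hU'W hu'U') hw₁1 hu'1 t htp haw₁ haw₂ hbw₁ hbw₂
  refine ⟨?_, hWcard, hC, ⟨φ⟩⟩
  by_contra hp23
  push Not at hp23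
  obtain ⟨hp2, hp3⟩ := hp23
  -- commutators of elements of `L ⊔ A` lie in `L`
  have hcommL : ∀ e ∈ L ⊔ A, ∀ f ∈ L ⊔ A, ⁅e, f⁆ ∈ L := by
    intro e he f hf'
    have hcoe := Subgroup.coe_mul_of_right_le_normalizer_left L A hALn
    have he' : e ∈ ((L ⊔ A : Subgroup G) : Set G) := he
    have hf'' : f ∈ ((L ⊔ A : Subgroup G) : Set G) := hf'
    rw [hcoe] at he' hf''
    obtain ⟨l₁, hl₁, a₁, ha₁, rfl⟩ := he'
    obtain ⟨l₂, hl₂, a₂, ha₂, rfl⟩ := hf''
    have hl₁ : l₁ ∈ L := hl₁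
    have hl₂ : l₂ ∈ L := hl₂
    have ha₁ : a₁ ∈ A := ha₁
    have ha₂ : a₂ ∈ A := ha₂
    have hcomm : a₁ * a₂ * a₁⁻¹ = a₂ := by
      have h1 : a₁ * a₂ = a₂ * a₁ := by
        rw [hAz] at ha₁ ha₂
        obtain ⟨i, rfl⟩ := Subgroup.mem_zpowers_iff.mp ha₁
        obtain ⟨j, rfl⟩ := Subgroup.mem_zpowers_iff.mp ha₂
        rw [← zpow_add, ← zpow_add, add_comm]
      rw [h1]; group
    have h2 : ⁅l₁ * a₁, l₂ * a₂⁆ =
        l₁ * (a₁ * l₂ * a₁⁻¹) * ((a₁ * a₂ * a₁⁻¹) * l₁⁻¹ * (a₁ * a₂ * a₁⁻¹)⁻¹) *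
          ((a₁ * a₂ * a₁⁻¹) * a₂⁻¹) * l₂⁻¹ := by
      rw [commutatorElement_def]; group
    rw [h2, hcomm]
    have h3 : a₁ * l₂ * a₁⁻¹ ∈ L := (Subgroup.mem_normalizer_iff.mp (hALn ha₁) _).mp hl₂
    have h4 : a₂ * l₁⁻¹ * a₂⁻¹ ∈ L :=
      (Subgroup.mem_normalizer_iff.mp (hALn ha₂) _).mp (L.inv_mem hl₁)
    have h5 : a₂ * a₂⁻¹ ∈ L := by rw [mul_inv_cancel]; exact L.one_mem
    exact L.mul_mem (L.mul_mem (L.mul_mem (L.mul_mem hl₁ h3) h4) h5) (L.inv_mem hl₂)
  set N' : Subgroup (Matrix.SpecialLinearGroup (Fin 2) (ZMod p)) :=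
    (L.subgroupOf E).map φ.toMonoidHom with hN'def
  have hcomm : ⁅(⊤ : Subgroup (Matrix.SpecialLinearGroup (Fin 2) (ZMod p))), ⊤⁆ ≤ N' := by
    rw [Subgroup.commutator_le]
    intro g _ h _
    obtain ⟨e, rfl⟩ := φ.surjective g
    obtain ⟨f, rfl⟩ := φ.surjective h
    refine ⟨⁅e, f⁆, ?_, ?_⟩
    · show ⁅e, f⁆ ∈ L.subgroupOf E
      rw [Subgroup.mem_subgroupOf]
      exact hcommL (e : G) (hELA e.2) (f : G) (hELA f.2)
    · show φ ⁅e, f⁆ = ⁅φ e, φ f⁆
      exact map_commutatorElement φ e f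
  have hu := uMat_one_mem_of_commutator_le hp2 hp3 N' hcomm
  obtain ⟨n, hn, hn'⟩ := hu
  have hn'' : φ n = φ ⟨a, haE⟩ := by rw [hφa]; exact hn'
  have hna : n = ⟨a, haE⟩ := φ.injective hn''
  rw [hna] at hn
  have haL : a ∈ L := by
    have := Subgroup.mem_subgroupOf.mp hn
    exact this
  have h9 : a ∈ L ⊓ A := ⟨haL, haA⟩
  rw [hLA, Subgroup.mem_bot] at h9
  exact ha1 h9

end Cfsg.Agent.S0613
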