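import Mathlib
import Cfsg.Statements.S0206
import Cfsg.Agent.Lib.Helper4.Dihedral

set_option autoImplicit false
open Cfsg

namespace Cfsg.Agent.S0206

open Cfsg.Agent.Lib.Helper4

variable {G : Type*} [Group G]

/-- powers indexed by `ZMod (orderOf a)` -/
noncomputable def zp (a : G) (i : ZMod (orderOf a)) : G := a ^ (i.cast : ℤ)

theorem zp_intCast (a : G) (k : ℤ) : zp a (k : ZMod (orderOf a)) = a ^ k := by
  unfold zp
  rw [ZMod.coe_intCast, zpow_mod_orderOf]

theorem zp_add (a : G) (i j : ZMod (orderOf a)) : zp a (i + j) = zp a i * zp a j := by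
  have : i + j = (((i.cast : ℤ) + (j.cast : ℤ) : ℤ) : ZMod (orderOf a)) := by
    rw [Int.cast_add, ZMod.intCast_zmod_cast, ZMod.intCast_zmod_cast]
  rw [this, zp_intCast, zpow_add]; rfl

theorem zp_sub (a : G) (i j : ZMod (orderOf a)) : zp a (j - i) = zp a j * (zp a i)⁻¹ := by
  have : j - i = (((j.cast : ℤ) - (i.cast : ℤ) : ℤ) : ZMod (orderOf a)) := by
    rw [Int.cast_sub, ZMod.intCast_zmod_cast, ZMod.intCast_zmod_cast]
  rw [this, zp_intCast, zpow_sub]; rfl

theorem zp_zero (a : G) : zp a 0 = 1 := by
  have := zp_intCast a 0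
  simpa using this

theorem zp_one (a : G) : zp a 1 = a := by
  have := zp_intCast a 1
  simpa using this

theorem zp_eq_one (a : G) (i : ZMod (orderOf a)) (h : zp a i = 1) : i = 0 := by
  unfold zp at h
  rw [← orderOf_dvd_iff_zpow_eq_one] at h
  rw [← ZMod.intCast_zmod_cast i]
  exact (ZMod.intCast_zmod_eq_zero_iff_dvd _ _).mpr h

theorem zp_mem_zpowers (a : G) (i : ZMod (orderOf a)) : zp a i ∈ Subgroup.zpowers a :=
  Subgroup.zpow_mem_zpowers a _

/-- the map from the dihedral group -/
noncomputable def toFun' (x y : G) : DihedralGroup (orderOf (x * y)) → G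
  | DihedralGroup.r i => zp (x * y) i
  | DihedralGroup.sr i => x * zp (x * y) i

theorem zp_mul_x {x y : G} (hx : x * x = 1) (hy : y * y = 1) (i : ZMod (orderOf (x * y))) :
    zp (x * y) i * x = x * (zp (x * y) i)⁻¹ := by
  unfold zp
  rw [← zpow_neg, invol_mul_zpow hx hy, neg_neg]

theorem toFun'_mul {x y : G} (hx : x * x = 1) (hy : y * y = 1)
    (a b : DihedralGroup (orderOf (x * y))) :
    toFun' x y (a * b) = toFun' x y a * toFun' x y b := by
  cases a with
  | r i =>
    cases b with
    | r j => simp only [DihedralGroup.r_mul_r, toFun', zp_add]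
    | sr j =>
      simp only [DihedralGroup.r_mul_sr, toFun', zp_sub]
      rw [← mul_assoc (zp (x * y) i) x, zp_mul_x hx hy, mul_assoc]
      congr 1
      -- zp j * (zp i)⁻¹ = (zp i)⁻¹ * zp j : powers commute
      unfold zp
      rw [← zpow_neg, ← zpow_add, ← zpow_add, add_comm]
  | sr i =>
    cases b with
    | r j => simp only [DihedralGroup.sr_mul_r, toFun', zp_add, mul_assoc]
    | sr j =>
      simp only [DihedralGroup.sr_mul_sr, toFun', zp_sub]
      rw [mul_assoc, ← mul_assoc (zp (x * y) i), zp_mul_x hx hy, mul_assoc, ← mul_assoc x x, hx,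
        one_mul]
      unfold zp
      rw [← zpow_neg, ← zpow_add, ← zpow_add, add_comm]

/-- Two distinct involutions x, y of a finite group generate a subgroup isomorphic to the dihedral group of order 2·|xy|. -/
theorem result {G : Type*} [Group G] [Finite G] (x y : G) (hx : orderOf x = 2) (hy : orderOf y = 2) (hxy : x ≠ y) : Nonempty (↥(Subgroup.closure ({x, y} : Set G)) ≃* DihedralGroup (orderOf (x * y))) := by
  have hx2 := mul_self_of_orderOf_two hx
  have hy2 := mul_self_of_orderOf_two hy
  let f : DihedralGroup (orderOf (x * y)) →* G := MonoidHom.mk' (toFun' x y) (toFun'_mul hx2 hy2)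
  have hinj : Function.Injective f := by
    rw [injective_iff_map_eq_one]
    intro a ha
    cases a with
    | r i =>
      have : zp (x * y) i = 1 := ha
      rw [zp_eq_one _ i this]; rfl
    | sr i =>
      exfalso
      have h1 : x * zp (x * y) i = 1 := ha
      have h2 : x = (zp (x * y) i)⁻¹ := eq_inv_of_mul_eq_one_left h1
      have hmem : (zp (x * y) i)⁻¹ ∈ Subgroup.zpowers (x * y) :=
        Subgroup.inv_mem _ (zp_mem_zpowers _ _)
      rw [← h2] at hmem
      exact x_not_mem_zpowers hx hy hmem
  have hrange : f.range = Subgroup.closure ({x, y} : Set G) := by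
    apply le_antisymm
    · rintro _ ⟨a, rfl⟩
      cases a with
      | r i => exact zpow_mem_closure_pair x y _
      | sr i =>
        exact Subgroup.mul_mem _ (x_mem_closure_pair x y) (zpow_mem_closure_pair x y _)
    · rw [Subgroup.closure_le]
      intro z hz
      rcases hz with rfl | hz
      · refine ⟨DihedralGroup.sr 0, ?_⟩
        show z * zp (z * y) 0 = z
        rw [zp_zero, mul_one]
      · rw [Set.mem_singleton_iff] at hz
        subst hz
        refine ⟨DihedralGroup.sr 1, ?_⟩
        show x * zp (x * z) 1 = z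
        rw [zp_one, ← mul_assoc, hx2, one_mul]
  exact ⟨((MonoidHom.ofInjective hinj).trans (MulEquiv.subgroupCongr hrange)).symm⟩

end Cfsg.Agent.S0206
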