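import Cfsg.Statements.S1304
import Mathlib.Tactic.Group

set_option autoImplicit false
open Cfsg

namespace Cfsg.Agent.S1304

theorem comm_central_left {X : Type*} [Group X] (z a b : X) (hz : ∀ g : X, g * z = z * g) :
    (z * a) * b * (z * a)⁻¹ * b⁻¹ = a * b * a⁻¹ * b⁻¹ := by
  calc (z * a) * b * (z * a)⁻¹ * b⁻¹ = z * (a * b * a⁻¹) * z⁻¹ * b⁻¹ := by group
    _ = (a * b * a⁻¹) * z * z⁻¹ * b⁻¹ := by rw [hz (a * b * a⁻¹)]
    _ = a * b * a⁻¹ * b⁻¹ := by group

theorem comm_central_right {X : Type*} [Group X] (z a b : X) (hz : ∀ g : X, g * z = z * g) :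
    a * (z * b) * a⁻¹ * (z * b)⁻¹ = a * b * a⁻¹ * b⁻¹ := by
  calc a * (z * b) * a⁻¹ * (z * b)⁻¹ = (a * z) * (b * a⁻¹ * b⁻¹) * z⁻¹ := by group
    _ = (z * a) * (b * a⁻¹ * b⁻¹) * z⁻¹ := by rw [hz a]
    _ = z * (a * (b * a⁻¹ * b⁻¹)) * z⁻¹ := by group
    _ = (a * (b * a⁻¹ * b⁻¹)) * z * z⁻¹ := by rw [hz (a * (b * a⁻¹ * b⁻¹))]
    _ = a * b * a⁻¹ * b⁻¹ := by group

theorem fix_comm {X : Type*} [Group X] (α : X ≃* X)
    (h : ∀ x : X, α x * x⁻¹ ∈ Subgroup.center X) (a b : X) :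
    α (a * b * a⁻¹ * b⁻¹) = a * b * a⁻¹ * b⁻¹ := by
  have ha := h a
  have hb := h b
  rw [Subgroup.mem_center_iff] at ha hb
  have e1 : α a = (α a * a⁻¹) * a := by group
  have e2 : α b = (α b * b⁻¹) * b := by group
  rw [map_mul, map_mul, map_mul, map_inv, map_inv, e1, comm_central_left _ _ _ ha, e2,
    comm_central_right _ _ _ hb]

/-- Let X be a perfect group and α an automorphism of X with α(x) x⁻¹ central for every x. Then α is the identity. -/
theorem result {X : Type*} [Group X] (hperf : commutator X = ⊤) (α : X ≃* X) (h : ∀ x : X, α x * x⁻¹ ∈ Subgroup.center X) : ∀ x : X, α x = x := by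
  have hle : commutator X ≤ (α.toMonoidHom.eqLocus (MonoidHom.id X)) := by
    rw [commutator_eq_closure, Subgroup.closure_le]
    rintro x ⟨p, q, rfl⟩
    exact fix_comm α h p q
  intro x
  have := hle (hperf ▸ Subgroup.mem_top x)
  exact this

end Cfsg.Agent.S1304
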