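import Cfsg.Statements.S0373
import Cfsg.Agent.Lib.Helper7.M24Mem

set_option autoImplicit false
open Cfsg

namespace Cfsg.Agent.S0373

/-- Table: `qrWord t ∘ cubeTwist` as a sum of generators (list of translates, plus all-ones flag). -/
def tblC : ZMod 23 → List (ZMod 23) × Bool := fun t =>
  match t.val with
  | 0 => ([0], false)
  | 1 => ([1, 16], false)
  | 2 => ([3, 16], false)
  | 3 => ([8, 12], false)
  | 4 => ([2, 3], false)
  | 5 => ([0, 17, 19], false)
  | 6 => ([8, 13], false)
  | 7 => ([0, 14, 21], false)
  | 8 => ([2, 9], false)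
  | 9 => ([4, 6], false)
  | 10 => ([0, 5, 19], false)
  | 11 => ([0, 10, 15], false)
  | 12 => ([1, 13], false)
  | 13 => ([12, 18], false)
  | 14 => ([0, 14, 17], false)
  | 15 => ([0, 20, 21], false)
  | 16 => ([6, 9], false)
  | 17 => ([0, 11, 15], false)
  | 18 => ([4, 18], false)
  | 19 => ([0, 7, 20], false)
  | 20 => ([0, 5, 11], false)
  | 21 => ([0, 7, 22], false)
  | _ => ([0, 10, 22], false)

set_option maxRecDepth 100000 in
theorem cubeTwist_tbl : ∀ t : ZMod 23, ∀ i : GolayPt, qrWord t (cubeTwistFun i) =
    ((tblC t).1.map (fun s => qrWord s i)).sum + (if (tblC t).2 then 1 else 0) := by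
  decide

theorem qrWord_mem (s : ZMod 23) : qrWord s ∈ golayCode :=
  Submodule.subset_span (Or.inl ⟨s, rfl⟩)

theorem one_mem_golay : (1 : GolayPt → ZMod 2) ∈ golayCode :=
  Submodule.subset_span (Or.inr rfl)

theorem list_sum_mem (l : List (ZMod 23)) :
    (fun i => (l.map (fun s => qrWord s i)).sum) ∈ golayCode := by
  induction l with
  | nil => exact golayCode.zero_mem
  | cons a l ih =>
    have : (fun i => ((a :: l).map (fun s => qrWord s i)).sum)
        = qrWord a + (fun i => (l.map (fun s => qrWord s i)).sum) := by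
      funext i; simp
    rw [this]
    exact golayCode.add_mem (qrWord_mem a) ih


/-- The cube-twist permutation (squares t ↦ t^3/9, non-squares t ↦ 9t^3, extra point fixed) lies in the group of the length-24 code. -/
theorem result : Cfsg.cubeTwist ∈ Cfsg.M24 := by
  apply Cfsg.Agent.Lib.Helper7.mem_M24_of_forall_qrWord
  intro t
  have : (fun i => qrWord t (cubeTwist i))
      = (fun i => ((tblC t).1.map (fun s => qrWord s i)).sum) + (if (tblC t).2 then 1 else 0) := by
    funext i
    have h0 : cubeTwist i = cubeTwistFun i := rfl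
    rw [h0, cubeTwist_tbl t i]
    by_cases h : (tblC t).2 <;> simp [h]
  rw [this]
  refine golayCode.add_mem (list_sum_mem _) ?_
  by_cases h : (tblC t).2
  · simp only [h, if_true]; exact one_mem_golay
  · simp only [h]; exact golayCode.zero_mem

end Cfsg.Agent.S0373
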