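import Cfsg.Statements.S1550
-- import your own Cfsg.Agent.* helpers here
import Cfsg.Agent.Lib.Helper26.GolayLike

set_option autoImplicit false
open Cfsg

namespace Cfsg.Agent.S1550

open Cfsg.Agent.Lib.Helper26 Cfsg.Agent.Lib.Helper93

open Classical in
/-- the light words of the coset of `ind T` -/
noncomputable def lightCoset (T : Finset GolayPt) : Finset (GolayPt → ZMod 2) :=
  Finset.univ.filter fun u => u - ind T ∈ golayCode ∧ hammingNorm u ≤ 4

theorem mem_lightCoset (T : Finset GolayPt) (u : GolayPt → ZMod 2) :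
    u ∈ lightCoset T ↔ u - ind T ∈ golayCode ∧ hammingNorm u ≤ 4 := by
  simp [lightCoset]

/-- the sextet of a tetrad -/
noncomputable def sextetOf (T : Finset GolayPt) : Finset (Finset GolayPt) :=
  (lightCoset T).image supp

theorem ind_union_of_disjoint {s t : Finset GolayPt} (h : Disjoint s t) :
    ind (s ∪ t) = ind s + ind t := by
  funext i
  simp only [ind, Finset.mem_union, Pi.add_apply]
  by_cases hs : i ∈ s
  · have ht : i ∉ t := Finset.disjoint_left.1 h hs
    simp [hs, ht]
  · by_cases ht : i ∈ t <;> simp [hs, ht]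

theorem sextetOf_mem (T : Finset GolayPt) (hT : T.card = 4) :
    sextetOf T ∈ sextets ∧ T ∈ sextetOf T := by
  obtain ⟨hmem, h6, h4, hd, _⟩ :=
    golayCode_isGolayLike.sextet_of_tetrad T hT (lightCoset T) (mem_lightCoset T)
  refine ⟨⟨?_, ?_, ?_⟩, ?_⟩
  · rw [sextetOf, Finset.card_image_of_injective _ supp_injective, h6]
  · intro t ht
    rw [sextetOf, Finset.mem_image] at ht
    obtain ⟨u, hu, rfl⟩ := ht
    rw [← hammingNorm_eq_card_supp, h4 u hu]
  · intro t ht u hu htu
    rw [sextetOf, Finset.mem_image] at ht hu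
    obtain ⟨a, ha, rfl⟩ := ht
    obtain ⟨b, hb, rfl⟩ := hu
    have hab : a ≠ b := fun e => htu (by rw [e])
    have hdis := hd a ha b hb hab
    rw [mem_octads_iff_exists]
    refine ⟨a + b, ?_, ?_, ?_⟩
    · have h1 := ((mem_lightCoset T a).1 ha).1
      have h2 := ((mem_lightCoset T b).1 hb).1
      have : a + b = (a - ind T) - (b - ind T) := by
        rw [← sub_eq_add_zmod2]; abel
      rw [this]; exact golayCode.sub_mem h1 h2
    · rw [supp_add, hdis.symmDiff_eq_sup, Finset.sup_eq_union]
    · rw [Finset.card_union_of_disjoint hdis, ← hammingNorm_eq_card_supp, ← hammingNorm_eq_card_supp,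
        h4 a ha, h4 b hb]
  · rw [sextetOf, Finset.mem_image]
    exact ⟨ind T, hmem, supp_ind T⟩

theorem sextet_unique (T : Finset GolayPt) (hT : T.card = 4) (S : Finset (Finset GolayPt))
    (hS : S ∈ sextets) (hTS : T ∈ S) : S = sextetOf T := by
  obtain ⟨hS6, hS4, hSoct⟩ := hS
  have h6 : (sextetOf T).card = 6 := (sextetOf_mem T hT).1.1
  apply Finset.eq_of_subset_of_card_le
  · intro t' ht'
    by_cases he : t' = T
    · rw [he]; exact (sextetOf_mem T hT).2
    · have hoct := hSoct T hTS t' ht' (Ne.symm he)
      rw [mem_octads_iff_exists] at hoct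
      obtain ⟨c, hc, hsupp, h8⟩ := hoct
      have h4' : t'.card = 4 := hS4 t' ht'
      have hdis : Disjoint T t' := by
        rw [Finset.disjoint_iff_inter_eq_empty, ← Finset.card_eq_zero]
        have := Finset.card_union_add_card_inter T t'
        omega
      have hc' : c = ind T + ind t' := by
        rw [← ind_union_of_disjoint hdis, ← hsupp, ind_supp]
      rw [sextetOf, Finset.mem_image]
      refine ⟨ind t', ?_, supp_ind t'⟩
      rw [mem_lightCoset]
      refine ⟨?_, ?_⟩
      · rw [sub_eq_add_zmod2, add_comm, ← hc']; exact hc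
      · rw [hammingNorm_eq_card_supp, supp_ind, h4']
  · rw [h6, hS6]

/-- Every 4-element set of the 24 points is a tetrad of exactly one sextet, and the sextets number 1771. -/
theorem result : (∀ t : Finset Cfsg.GolayPt, t.card = 4 → ∃! S : Finset (Finset Cfsg.GolayPt), S ∈ Cfsg.sextets ∧ t ∈ S) ∧ Cfsg.sextets.ncard = 1771 := by
  classical
  have huniq : ∀ t : Finset GolayPt, t.card = 4 →
      ∃! S : Finset (Finset GolayPt), S ∈ sextets ∧ t ∈ S := by
    intro t ht
    refine ⟨sextetOf t, sextetOf_mem t ht, ?_⟩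
    rintro S ⟨hS, htS⟩
    exact sextet_unique t ht S hS htS
  refine ⟨huniq, ?_⟩
  -- counting
  set Sx : Finset (Finset (Finset GolayPt)) := Finset.univ.filter (fun S => S ∈ sextets) with hSx
  set P4 : Finset (Finset GolayPt) := Finset.powersetCard 4 Finset.univ with hP4
  have hncard : sextets.ncard = Sx.card := by
    rw [← Set.ncard_coe_finset]
    congr 1
    ext S; simp [hSx]
  have hcount := Finset.sum_card_bipartiteAbove_eq_sum_card_bipartiteBelow
    (s := Sx) (t := P4) (fun (S : Finset (Finset GolayPt)) (t : Finset GolayPt) => t ∈ S)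
  have hL : ∑ S ∈ Sx, (Finset.bipartiteAbove (fun (S : Finset (Finset GolayPt))
      (t : Finset GolayPt) => t ∈ S) P4 S).card = 6 * Sx.card := by
    rw [Finset.sum_const_nat (m := 6), mul_comm]
    intro S hS
    rw [hSx, Finset.mem_filter] at hS
    have hS' := hS.2
    have : Finset.bipartiteAbove (fun (S : Finset (Finset GolayPt)) (t : Finset GolayPt) => t ∈ S)
        P4 S = S := by
      ext t
      simp only [Finset.bipartiteAbove, Finset.mem_filter, hP4, Finset.mem_powersetCard,
        Finset.subset_univ, true_and]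
      constructor
      · exact fun h => h.2
      · exact fun h => ⟨hS'.2.1 t h, h⟩
    rw [this, hS'.1]
  have hR : ∑ t ∈ P4, (Finset.bipartiteBelow (fun (S : Finset (Finset GolayPt))
      (t : Finset GolayPt) => t ∈ S) Sx t).card = P4.card := by
    rw [Finset.card_eq_sum_ones]
    apply Finset.sum_congr rfl
    intro t ht
    rw [hP4, Finset.mem_powersetCard] at ht
    obtain ⟨S, ⟨hS, htS⟩, hu⟩ := huniq t ht.2
    rw [Finset.card_eq_one]
    refine ⟨S, ?_⟩
    ext S'
    simp only [Finset.bipartiteBelow, Finset.mem_filter, hSx, Finset.mem_univ, true_and,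
      Finset.mem_singleton]
    constructor
    · intro h; exact hu S' h
    · rintro rfl; exact ⟨hS, htS⟩
  rw [hL, hR, hP4, Finset.card_powersetCard, Finset.card_univ, card_golayPt] at hcount
  have : Nat.choose 24 4 = 10626 := by decide
  rw [this] at hcount
  rw [hncard]; omega

end Cfsg.Agent.S1550
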