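import Cfsg.Statements.S0354
import Cfsg.Agent.Lib.Helper6.Steiner

set_option autoImplicit false
open Cfsg

namespace Cfsg.Agent.S0354

/-- In an S(5, 8, 24), each block is disjoint from exactly 30 blocks. -/
theorem result {α : Type*} [Fintype α] [DecidableEq α] (hα : Fintype.card α = 24) {B : Set (Finset α)} (hB : Cfsg.IsSteinerSystem 5 8 B) {b : Finset α} (hb : b ∈ B) : {c : Finset α | c ∈ B ∧ Disjoint b c}.ncard = 30 := by
  have lam : ∀ (j l : ℕ), j ≤ 5 → l * (8 - j).choose (5 - j) = (24 - j).choose (5 - j) →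
      ∀ J : Finset α, J.card = j → (Cfsg.Agent.Lib.Helper6.blocksThrough B J).card = l := by
    intro j l hj hl J hJ
    have h := Cfsg.Agent.Lib.Helper6.card_blocksThrough_mul hB J (by omega)
    rw [hα, hJ] at h
    have hpos : 0 < (8 - j).choose (5 - j) := Nat.choose_pos (by omega)
    exact Nat.eq_of_mul_eq_mul_right hpos (h.trans hl.symm)
  have e0 := Cfsg.Agent.Lib.Helper6.sum_choose_inter hB hb 0 759 (lam 0 759 (by omega) (by decide))
  have e1 := Cfsg.Agent.Lib.Helper6.sum_choose_inter hB hb 1 253 (lam 1 253 (by omega) (by decide))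
  have e2 := Cfsg.Agent.Lib.Helper6.sum_choose_inter hB hb 2 77 (lam 2 77 (by omega) (by decide))
  have e3 := Cfsg.Agent.Lib.Helper6.sum_choose_inter hB hb 3 21 (lam 3 21 (by omega) (by decide))
  have e4 := Cfsg.Agent.Lib.Helper6.sum_choose_inter hB hb 4 5 (lam 4 5 (by omega) (by decide))
  have c0 : Nat.choose 8 0 = 1 := by decide
  have c1 : Nat.choose 8 1 = 8 := by decide
  have c2 : Nat.choose 8 2 = 28 := by decide
  have c3 : Nat.choose 8 3 = 56 := by decide
  have c4 : Nat.choose 8 4 = 70 := by decide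
  rw [c0] at e0; rw [c1] at e1; rw [c2] at e2; rw [c3] at e3; rw [c4] at e4
  set 𝒞 := (Cfsg.Agent.Lib.Helper6.blocksOf B).erase b with h𝒞
  have hpt : ∀ d ∈ 𝒞, (if (b ∩ d).card = 0 then 1 else 0) + (b ∩ d).card.choose 1 +
      (b ∩ d).card.choose 3 = (b ∩ d).card.choose 0 + (b ∩ d).card.choose 2 +
      (b ∩ d).card.choose 4 := by
    intro d hd
    rw [h𝒞, Finset.mem_erase, Cfsg.Agent.Lib.Helper6.mem_blocksOf] at hd
    have hlt := Cfsg.Agent.Lib.Helper6.card_inter_lt hB hb hd.2 (Ne.symm hd.1)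
    generalize (b ∩ d).card = f at hlt ⊢
    interval_cases f <;> decide
  have hsum := Finset.sum_congr rfl hpt
  simp only [Finset.sum_add_distrib] at hsum
  have hcard : (𝒞.filter (fun d => (b ∩ d).card = 0)).card = 30 := by
    rw [Finset.card_filter]
    omega
  have hset : {c : Finset α | c ∈ B ∧ Disjoint b c} =
      ((𝒞.filter (fun d => (b ∩ d).card = 0) : Finset (Finset α)) : Set (Finset α)) := by
    ext c
    simp only [Set.mem_ofPred_eq, Finset.coe_filter, h𝒞, Finset.mem_erase, Cfsg.Agent.Lib.Helper6.mem_blocksOf,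
      Finset.card_eq_zero, Finset.disjoint_iff_inter_eq_empty]
    constructor
    · rintro ⟨h1, h2⟩
      refine ⟨⟨?_, h1⟩, h2⟩
      rintro rfl
      rw [Finset.inter_self] at h2
      have := hB.1 c h1
      rw [h2] at this
      simp at this
    · rintro ⟨⟨_, h1⟩, h2⟩
      exact ⟨h1, h2⟩
  rw [hset, Set.ncard_coe_finset, hcard]

end Cfsg.Agent.S0354
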