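import Cfsg.Statements.S1557
-- import your own Cfsg.Agent.* helpers here
import Cfsg.Agent.Lib.Helper26.GolayLike
import Cfsg.Agent.S0354

set_option autoImplicit false
open Cfsg

namespace Cfsg.Agent.S1557

open Cfsg.Agent.Lib.Helper26

theorem octad_card {o : Finset GolayPt} (ho : o ∈ octads) : o.card = 8 := ho.2

theorem compl_union_mem {o o' : Finset GolayPt} (ho : o ∈ octads) (ho' : o' ∈ octads)
    (hd : Disjoint o o') : (o ∪ o')ᶜ ∈ octads := by
  have h1 := (mem_octads_iff o).1 ho
  have h2 := (mem_octads_iff o').1 ho'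
  have hsd : o ∪ o' = setOf (maskOfSet o ^^^ maskOfSet o') := by
    rw [setOf_xor, setOf_maskOfSet, setOf_maskOfSet, hd.symmDiff_eq_sup, Finset.sup_eq_union]
  have hc : (o ∪ o')ᶜ = setOf (maskOfSet o ^^^ maskOfSet o' ^^^ fullMask) := by
    rw [setOf_xor_fullMask, ← hsd]
  have hcode : isCode (maskOfSet o ^^^ maskOfSet o' ^^^ fullMask) = true :=
    isCode_xor (isCode_xor h1.1 h2.1) isCode_fullMask
  rw [hc, setOf_mem_octads_iff (isCode_lt hcode)]
  refine ⟨hcode, ?_⟩
  rw [← card_setOf, ← hc, Finset.card_compl, Finset.card_union_of_disjoint hd, octad_card ho,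
    octad_card ho', card_golayPt]

theorem octad_nonempty {o : Finset GolayPt} (ho : o ∈ octads) : o.Nonempty := by
  rw [← Finset.card_pos, octad_card ho]; norm_num

theorem ne_of_disjoint_octads {o o' : Finset GolayPt} (ho : o ∈ octads) (hd : Disjoint o o') :
    o ≠ o' := by
  rintro rfl
  rw [disjoint_self] at hd
  have := octad_nonempty ho
  rw [hd] at this
  simp at this

/-- the third octad of a trio -/
theorem third_eq {o o' x : Finset GolayPt} (ho : o ∈ octads) (ho' : o' ∈ octads) (hx : x ∈ octads)
    (hd : Disjoint o o') (h1 : Disjoint x o) (h2 : Disjoint x o') : x = (o ∪ o')ᶜ := by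
  apply Finset.eq_of_subset_of_card_le
  · intro p hp
    rw [Finset.mem_compl, Finset.mem_union, not_or]
    exact ⟨fun h => Finset.disjoint_left.1 h1 hp h, fun h => Finset.disjoint_left.1 h2 hp h⟩
  · rw [octad_card hx, octad_card (compl_union_mem ho ho' hd)]

/-- If two octads are disjoint then the complement of their union is an octad; and there are exactly 3795 trios. -/
theorem result : (∀ o o' : Finset Cfsg.GolayPt, o ∈ Cfsg.octads → o' ∈ Cfsg.octads → Disjoint o o' → (o ∪ o')ᶜ ∈ Cfsg.octads) ∧ Cfsg.trios.ncard = 3795 := by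
  classical
  refine ⟨fun o o' ho ho' hd => compl_union_mem ho ho' hd, ?_⟩
  set O : Finset (Finset GolayPt) := Finset.univ.filter (fun o => o ∈ octads) with hO
  have hOmem : ∀ o, o ∈ O ↔ o ∈ octads := fun o => by simp [hO]
  have hOcard : O.card = 759 := by
    rw [← ncard_octads, ← Set.ncard_coe_finset]
    congr 1
    ext o; simp [hO]
  set Tr : Finset (Finset (Finset GolayPt)) := Finset.univ.filter (fun T => T ∈ trios) with hTr
  have hncard : trios.ncard = Tr.card := by
    rw [← Set.ncard_coe_finset]
    congr 1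
    ext T; simp [hTr]
  set Pairs : Finset (Finset GolayPt × Finset GolayPt) :=
    (O ×ˢ O).filter (fun p => Disjoint p.1 p.2) with hPairs
  -- number of ordered disjoint pairs
  have hPcard : Pairs.card = 759 * 30 := by
    rw [hPairs, Finset.card_filter, Finset.sum_product]
    rw [← hOcard, Finset.card_eq_sum_ones, Finset.sum_mul]
    apply Finset.sum_congr rfl
    intro o ho
    rw [one_mul, ← Finset.card_filter]
    have h30 := Cfsg.Agent.S0354.result card_golayPt octads_isSteiner ((hOmem o).1 ho)
    rw [← h30, ← Set.ncard_coe_finset]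
    congr 1
    ext c
    simp [hOmem]
  have hcount := Finset.sum_card_bipartiteAbove_eq_sum_card_bipartiteBelow
    (s := Tr) (t := Pairs)
    (fun (T : Finset (Finset GolayPt)) (p : Finset GolayPt × Finset GolayPt) => p.1 ∈ T ∧ p.2 ∈ T)
  have hL : ∑ T ∈ Tr, (Finset.bipartiteAbove (fun (T : Finset (Finset GolayPt))
      (p : Finset GolayPt × Finset GolayPt) => p.1 ∈ T ∧ p.2 ∈ T) Pairs T).card = 6 * Tr.card := by
    rw [Finset.sum_const_nat (m := 6), mul_comm]
    intro T hT
    rw [hTr, Finset.mem_filter] at hT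
    obtain ⟨h3, hoct, hdis⟩ := hT.2
    have : Finset.bipartiteAbove (fun (T : Finset (Finset GolayPt))
        (p : Finset GolayPt × Finset GolayPt) => p.1 ∈ T ∧ p.2 ∈ T) Pairs T = T.offDiag := by
      ext p
      simp only [Finset.bipartiteAbove, Finset.mem_filter, hPairs, Finset.mem_product, hOmem,
        Finset.mem_offDiag]
      constructor
      · rintro ⟨⟨⟨h1, _⟩, hd⟩, h3, h4⟩
        exact ⟨h3, h4, ne_of_disjoint_octads h1 hd⟩
      · rintro ⟨h1, h2, hne⟩
        exact ⟨⟨⟨hoct _ h1, hoct _ h2⟩, hdis _ h1 _ h2 hne⟩, h1, h2⟩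
    rw [this, Finset.offDiag_card, h3]
  have hR : ∑ p ∈ Pairs, (Finset.bipartiteBelow (fun (T : Finset (Finset GolayPt))
      (p : Finset GolayPt × Finset GolayPt) => p.1 ∈ T ∧ p.2 ∈ T) Tr p).card = Pairs.card := by
    rw [Finset.card_eq_sum_ones]
    apply Finset.sum_congr rfl
    rintro ⟨o, o'⟩ hp
    simp only [hPairs, Finset.mem_filter, Finset.mem_product, hOmem] at hp
    obtain ⟨⟨ho, ho'⟩, hd⟩ := hp
    have hx := compl_union_mem ho ho' hd
    have hxo : Disjoint (o ∪ o')ᶜ o := by
      rw [Finset.disjoint_left]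
      intro p hp hpo
      rw [Finset.mem_compl, Finset.mem_union, not_or] at hp
      exact hp.1 hpo
    have hxo' : Disjoint (o ∪ o')ᶜ o' := by
      rw [Finset.disjoint_left]
      intro p hp hpo
      rw [Finset.mem_compl, Finset.mem_union, not_or] at hp
      exact hp.2 hpo
    have hne1 : o ≠ o' := ne_of_disjoint_octads ho hd
    have hne2 : (o ∪ o')ᶜ ≠ o := ne_of_disjoint_octads hx hxo
    have hne3 : (o ∪ o')ᶜ ≠ o' := ne_of_disjoint_octads hx hxo'
    rw [Finset.card_eq_one]
    refine ⟨{o, o', (o ∪ o')ᶜ}, ?_⟩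
    ext T
    simp only [Finset.bipartiteBelow, Finset.mem_filter, hTr, Finset.mem_univ, true_and,
      Finset.mem_singleton]
    constructor
    · rintro ⟨⟨h3, hoct, hdis⟩, h1, h2⟩
      -- T has a third element
      have hsub : ({o, o'} : Finset (Finset GolayPt)) ⊆ T := by
        intro y hy
        rw [Finset.mem_insert, Finset.mem_singleton] at hy
        rcases hy with rfl | rfl
        · exact h1
        · exact h2
      have hc2 : ({o, o'} : Finset (Finset GolayPt)).card = 2 := Finset.card_pair hne1
      have hdiff : (T \ {o, o'}).card = 1 := by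
        rw [Finset.card_sdiff_of_subset hsub, h3, hc2]
      obtain ⟨x, hx'⟩ := Finset.card_eq_one.1 hdiff
      have hxT : x ∈ T ∧ x ∉ ({o, o'} : Finset (Finset GolayPt)) := by
        rw [← Finset.mem_sdiff, hx']; exact Finset.mem_singleton_self x
      have hxne : x ≠ o ∧ x ≠ o' := by
        have := hxT.2
        rw [Finset.mem_insert, Finset.mem_singleton, not_or] at this
        exact this
      have hxeq : x = (o ∪ o')ᶜ :=
        third_eq ho ho' (hoct x hxT.1) hd (hdis x hxT.1 o h1 hxne.1) (hdis x hxT.1 o' h2 hxne.2)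
      have hT : T = {o, o'} ∪ (T \ {o, o'}) := by
        rw [Finset.union_sdiff_of_subset hsub]
      rw [hT, hx', hxeq]
      ext y
      simp only [Finset.mem_union, Finset.mem_insert, Finset.mem_singleton]
      exact or_assoc
    · rintro rfl
      refine ⟨⟨?_, ?_, ?_⟩, by simp, by simp⟩
      · rw [Finset.card_insert_of_notMem, Finset.card_pair (Ne.symm hne3)]
        rw [Finset.mem_insert, Finset.mem_singleton, not_or]
        exact ⟨hne1, Ne.symm hne2⟩
      · intro y hy
        simp only [Finset.mem_insert, Finset.mem_singleton] at hy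
        rcases hy with rfl | rfl | rfl
        · exact ho
        · exact ho'
        · exact hx
      · intro y hy z hz hyz
        simp only [Finset.mem_insert, Finset.mem_singleton] at hy hz
        rcases hy with rfl | rfl | rfl <;> rcases hz with rfl | rfl | rfl
        · exact absurd rfl hyz
        · exact hd
        · exact hxo.symm
        · exact hd.symm
        · exact absurd rfl hyz
        · exact hxo'.symm
        · exact hxo
        · exact hxo'
        · exact absurd rfl hyz
  rw [hL, hR, hPcard] at hcount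
  rw [hncard]; omega

end Cfsg.Agent.S1557
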