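import Cfsg.Statements.S5394
-- import your own Cfsg.Agent.* helpers here
import Cfsg.Agent.Lib.Helper93.M24Extra

set_option autoImplicit false
open Cfsg

namespace Cfsg.Agent.S5394


open Cfsg.Agent.Lib.Helper7 Cfsg.Agent.Lib.Helper93
open scoped Pointwise

/-! ### Tables of chain elements -/

/-- table of the level-`i` chain element for the orbit point `q` -/
def uT (i q : ℕ) : List ℕ := chainT.getD ((lookupT.getD i []).getD q 0) idT

theorem exists_chain_elem' {i q : ℕ} (hi : i < 7) (hq : q < 24) (h : orbitOK i q = true) :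
    ∃ u ∈ M24, Matches u (uT i q) ∧ (∀ j < i, u (bp j) = bp j) ∧ u (pt q) = bp i := by
  have hgood := chain_check i hi q hq h
  unfold uT
  generalize (lookupT.getD i []).getD q 0 = k at hgood
  have hm : Matches (chainP.getD k 1) (chainT.getD k idT) :=
    forall₂_getD chain_match matches_one k
  generalize chainT.getD k idT = t at hgood hm
  refine ⟨chainP.getD k 1, genH_le_M24 (chainP_mem_genH k), hm, ?_, ?_⟩
  · intro j hj
    simp only [goodT, Bool.and_eq_true, List.all_eq_true, List.mem_range, beq_iff_eq] at hgood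
    unfold bp
    exact matches_apply hm (baseL_lt j) (baseL_lt j) (hgood.1 j hj)
  · simp only [goodT, Bool.and_eq_true, beq_iff_eq] at hgood
    unfold bp
    exact matches_apply hm hq (baseL_lt i) hgood.2

/-- one sifting step, keeping the table -/
theorem sift_step {i : ℕ} (hi : i < 7) {s : Equiv.Perm GolayPt} (hs : s ∈ M24)
    (hfix : ∀ j < i, s (bp j) = bp j) :
    ∃ q, q < 24 ∧ orbitOK i q = true ∧ ∃ u ∈ M24, Matches u (uT i q) ∧
      ∀ j < i + 1, (u * s) (bp j) = bp j := by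
  refine ⟨idx (s (bp i)), idx_lt _, orbitOK_of_fixes hs hi hfix, ?_⟩
  obtain ⟨u, hu, hum, hufix, huq⟩ := exists_chain_elem' hi (idx_lt (s (bp i)))
    (orbitOK_of_fixes hs hi hfix)
  rw [pt_idx] at huq
  refine ⟨u, hu, hum, fun j hj => ?_⟩
  rw [Equiv.Perm.mul_apply]
  by_cases hji : j < i
  · rw [hfix j hji, hufix j hji]
  · have : j = i := by omega
    subst this
    exact huq

/-! ### Words in the generators -/

/-- table of a word in the three generators -/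
def wordT (w : List ℕ) : List ℕ := w.foldl (fun t si => compT t (gensT.getD si idT)) idT

/-- the permutation given by a word in the three generators -/
noncomputable def wordP (w : List ℕ) : Equiv.Perm GolayPt :=
  w.foldl (fun k si => k * gensP.getD si 1) 1

theorem word_aux (w : List ℕ) : ∀ (k : Equiv.Perm GolayPt) (t : List ℕ), k ∈ M24 → Matches k t →
    (w.foldl (fun k si => k * gensP.getD si 1) k ∈ M24 ∧
      Matches (w.foldl (fun k si => k * gensP.getD si 1) k)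
        (w.foldl (fun t si => compT t (gensT.getD si idT)) t)) := by
  induction w with
  | nil => intro k t hk hm; exact ⟨hk, hm⟩
  | cons si w ih =>
    intro k t hk hm
    simp only [List.foldl_cons]
    apply ih
    · exact M24.mul_mem hk (genH_le_M24 (getD_mem_of_forall gensP_mem_genH si))
    · exact matches_mul hm (forall₂_getD gens_match matches_one si)

theorem wordP_mem (w : List ℕ) : wordP w ∈ M24 := (word_aux w 1 idT M24.one_mem matches_one).1

theorem wordP_matches (w : List ℕ) : Matches (wordP w) (wordT w) :=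
  (word_aux w 1 idT M24.one_mem matches_one).2

/-! ### Boolean checks on tables -/

def isInvolT (c : List ℕ) : Bool := (List.range 24).all fun i => c.getD (c.getD i 0) 0 == i

def eqT (a b : List ℕ) : Bool := (List.range 24).all fun i => a.getD i 0 == b.getD i 0

def fixIs (c : List ℕ) (m : ℕ) : Bool :=
  (List.range 24).all fun i => (m.testBit i) == (c.getD i 0 == i)

theorem eq_of_eqT {x y : Equiv.Perm GolayPt} {a b : List ℕ} (hx : Matches x a) (hy : Matches y b)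
    (h : eqT a b = true) : x = y := by
  apply Equiv.ext
  intro p
  apply idx_injective
  rw [hx p, hy p]
  simp only [eqT, List.all_eq_true, List.mem_range, beq_iff_eq] at h
  exact h _ (idx_lt p)

theorem isInvolT_of {g : Equiv.Perm GolayPt} {c : List ℕ} (hm : Matches g c) (hg : g * g = 1) :
    isInvolT c = true := by
  simp only [isInvolT, List.all_eq_true, List.mem_range, beq_iff_eq]
  intro i hi
  have h1 := hm (pt i)
  have h2 := hm (g (pt i))
  rw [idx_pt hi] at h1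
  rw [h1] at h2
  rw [← h2, ← Equiv.Perm.mul_apply, hg, Equiv.Perm.one_apply, idx_pt hi]

theorem fix_iff_of_fixIs {g : Equiv.Perm GolayPt} {c : List ℕ} {m : ℕ} (hm : Matches g c)
    (h : fixIs c m = true) (p : GolayPt) : g p = p ↔ p ∈ setOf m := by
  simp only [fixIs, List.all_eq_true, List.mem_range, beq_iff_eq] at h
  have h1 := h _ (idx_lt p)
  rw [mem_setOf, h1, ← hm p]
  simp only [beq_iff_eq]
  exact ⟨fun e => by rw [e], fun e => idx_injective e⟩

/-! ### The data -/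

/-- table of an element exchanging `∞, 0` and `1, 2` -/
def HT : List ℕ := compT (uT 3 16) (compT (uT 2 11) (compT (uT 1 0) (uT 0 0)))

theorem HT_spec : HT.getD 23 0 = 0 ∧ HT.getD 0 0 = 23 ∧ HT.getD 1 0 = 2 ∧ HT.getD 2 0 = 1 := by
  decide +kernel

theorem exists_H : ∃ H ∈ M24, Matches H HT := by
  obtain ⟨u0, h0, m0, _, _⟩ := exists_chain_elem' (i := 0) (q := 0) (by decide) (by decide) (by decide)
  obtain ⟨u1, h1, m1, _, _⟩ := exists_chain_elem' (i := 1) (q := 0) (by decide) (by decide) (by decide)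
  obtain ⟨u2, h2, m2, _, _⟩ := exists_chain_elem' (i := 2) (q := 11) (by decide) (by decide) (by decide)
  obtain ⟨u3, h3, m3, _, _⟩ := exists_chain_elem' (i := 3) (q := 16) (by decide) (by decide) (by decide)
  exact ⟨u3 * (u2 * (u1 * u0)), M24.mul_mem h3 (M24.mul_mem h2 (M24.mul_mem h1 h0)),
    matches_mul m3 (matches_mul m2 (matches_mul m1 m0))⟩

/-- the candidate tables for involutions exchanging `∞, 0` and `1, 2` -/
def cands : List (List ℕ) :=
  ((List.range 24).filter (orbitOK 4)).flatMap fun q4 =>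
  ((List.range 24).filter (orbitOK 5)).flatMap fun q5 =>
  ((List.range 24).filter (orbitOK 6)).map fun q6 =>
    compT (uT 6 q6) (compT (uT 5 q5) (compT (uT 4 q4) HT))

/-- word of the representative fixing an octad pointwise -/
def wA : List ℕ := [0, 2, 0, 2, 0, 2]

/-- mask of the fixed points of the representative -/
def mA : ℕ := 0xa800c7

/-- conjugating words -/
def conjWords : List (List ℕ) :=
  [[0, 0, 2, 2, 0, 2, 0, 0, 1, 2, 2, 2],
   [0, 0, 1, 0, 0, 1, 0, 2, 0, 1, 0, 2, 2],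
   [0, 0, 2, 0, 1, 0, 0, 0, 0, 2, 0, 2],
   [0, 0, 1, 2, 0, 2, 0, 0, 1, 0, 0, 1, 0, 1],
   [0, 2, 0, 0, 2, 2, 0, 2, 0, 2, 2, 0],
   [0, 0, 1, 2, 0, 1, 0, 0, 2, 0, 2, 2, 0, 0],
   [0, 0, 2, 2, 0, 0, 0, 2, 2, 0],
   [0, 0, 0, 2, 0, 1, 0, 2, 0, 0, 1, 0, 2],
   [0, 1, 2, 0, 0, 0, 2, 2, 0, 0, 1, 2, 0],
   [0, 0, 0, 0, 0, 2, 0, 1, 2, 2],
   [0, 0, 1, 2, 0, 1, 0, 1, 2, 0, 0],
   [0, 0, 0, 0, 0, 1, 2, 2, 2, 0, 2, 0, 2, 2],
   [0, 2, 0, 2, 0, 2, 2, 2, 2, 0, 1, 0, 2, 0],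
   [0, 2, 0, 0, 2, 0, 2, 0, 0, 1, 0, 2],
   [0, 2, 0, 2, 0, 0, 0, 2, 2, 2, 0, 1, 0],
   [0, 0, 1, 0, 0, 0, 1, 0, 0, 2, 0],
   [0, 0, 0, 0, 1, 0, 2, 2, 0, 0, 0, 0],
   [0, 1, 0, 2, 2, 0, 0, 1, 0],
   [0, 2, 0, 1, 0, 2, 2, 0, 1, 2, 0],
   [0, 0, 2, 0, 1, 2, 0, 2, 2, 0],
   [0, 0, 1, 0, 0, 0, 2, 0, 2, 0, 0, 0, 2],
   [0, 1, 0, 2, 2, 0, 1, 2, 2, 0, 2, 2, 2],
   [0, 0, 0, 0, 1, 0, 2, 0, 0, 2, 2, 2],
   [0, 0, 1, 2, 0, 2, 2, 0, 2, 2, 0, 0, 0],
   [0, 0, 0, 1, 2, 0, 2, 2, 0, 0, 2, 0, 2, 0],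
   [0, 1, 0, 2, 0, 0, 0, 1, 0, 1, 2, 2],
   [0, 0, 2, 0, 2, 2, 0, 2, 2, 2],
   [0, 2, 0, 1, 2, 0, 2, 0, 0, 2, 0, 1],
   [0, 0, 2, 0, 2, 2, 2, 2, 0, 0, 1],
   [0, 0, 2, 0, 0, 1, 0, 2, 0, 0, 2, 0, 1, 0],
   [0, 0, 1, 0, 0, 0, 2, 2, 0, 0, 1, 2, 2, 0],
   [0, 0, 2, 2, 0, 0, 0, 0, 2, 0, 0, 0, 1, 2],
   [2, 0, 1, 0, 2, 2, 2, 0, 2, 0],
   [1, 0, 1, 0, 0, 2, 2, 2, 0],
   [0, 0, 0, 0, 0, 2, 0, 2, 0, 1, 0, 0, 2, 2],
   [0, 1, 2, 0, 0, 0, 0, 1, 0, 1, 2, 0, 2],
   [0, 1, 2, 0, 0, 0, 2, 2, 0, 1, 0, 2, 2],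
   [0, 0, 1, 0, 0, 1, 2, 2, 0, 0, 2, 0, 0],
   [0, 2, 0, 1, 0, 2, 2, 2, 0, 0],
   [1, 0, 0, 2, 2, 0, 0, 1, 0, 0],
   [0, 1, 2, 0, 0, 1, 2, 0, 2, 2],
   [1, 0, 0, 1, 2, 0, 0, 1, 0],
   [0, 0, 2, 0, 0, 1, 2, 0, 0, 2, 2, 0, 1],
   [0, 0, 0, 0, 2, 2, 0, 1, 0, 2, 2, 0, 0, 2],
   [0, 2, 2, 0, 2, 0, 1, 0, 2, 0, 0],
   [0, 0, 1, 2, 0, 2, 0, 0, 1],
   [0, 2, 0, 0, 2, 2, 2, 0, 2, 0, 1, 2],
   [0, 2, 0, 2, 0, 1, 0, 0, 0, 1, 0, 0, 0],
   [0, 1, 0, 2, 0, 0, 0, 0, 1, 2, 0],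
   [0, 0, 0, 2, 2, 2, 0, 1, 2, 2, 0],
   [0, 0, 0, 0, 0, 2, 2, 2, 0, 0, 1],
   [0, 0, 2, 0, 0, 0, 0, 1, 0, 0],
   [0, 0, 0, 2, 0, 2, 2, 2, 0, 2, 0, 0],
   [0, 2, 2, 2, 0, 0, 2, 0, 1, 0, 1, 2, 2],
   [0, 1, 2, 2, 2, 2, 0, 1, 0, 0, 2, 0, 1],
   [0, 0, 1, 0, 2, 2, 2, 0, 0, 0, 0, 0, 0],
   [0, 0, 1, 0, 2, 0, 1, 0, 0, 0, 1, 2],
   [0, 2, 0, 2, 2, 2, 2, 0, 0, 0, 0],
   [0, 1, 2, 2, 2, 0, 1, 0, 1, 2, 0, 1],
   [0, 2, 2, 2, 0, 0, 0, 1, 2, 0, 1, 0],
   [1, 0, 2, 0, 0, 1, 0, 0, 1, 2, 0, 1],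
   [0, 0, 0, 0, 1, 0, 2, 2, 2, 2],
   [0, 1, 0, 0, 0, 1, 2, 0, 2, 2, 2],
   [0, 0, 0, 1, 0, 2, 0, 0, 0, 0, 0],
   [0, 1, 2, 0, 0, 2, 2, 0, 0, 2, 0, 1],
   [0, 1, 2, 0, 0, 2, 2, 0, 0, 2, 0, 2],
   [0, 0, 0, 0, 0, 0, 0, 2, 0, 0, 2, 0, 0],
   [0, 0, 2, 0, 0, 2, 2, 0, 0, 0, 1, 2],
   [0, 0, 0, 0, 2, 2, 0, 1, 0, 0, 1],
   [0, 2, 2, 0, 0, 2, 0, 0, 1, 2, 0, 0, 2],
   [0, 0, 0, 1, 0, 0, 0, 1, 2, 2, 0, 0],
   [0, 0, 1, 2, 2, 2, 0, 2, 0, 2, 0, 0, 2, 0],
   [0, 1, 2, 0, 2, 2, 0, 0, 1, 0, 2, 0, 0],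
   [0, 0, 0, 1, 2, 2, 0, 2, 0, 0, 1],
   [0, 0, 0, 1, 0, 2, 0, 1, 0, 2, 0, 2, 0, 0],
   [0, 1, 0, 0, 1, 2, 2, 2, 0, 2, 0, 1, 0, 2]]

def conjOK (c rep w : List ℕ) : Bool := eqT (compT (wordT w) c) (compT rep (wordT w))

theorem big_check : ∀ c ∈ cands, isInvolT c = true →
    (conjWords.any (conjOK c (wordT wA)) || conjWords.any (conjOK c (wordT [1]))) = true := by
  decide +kernel

theorem repA_check : isInvolT (wordT wA) = true ∧ fixIs (wordT wA) mA = true ∧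
    isOctadMask mA = true ∧ isInvolT (wordT [1]) = true ∧ fixIs (wordT [1]) 0 = true := by
  decide +kernel

/-! ### Semantics -/

theorem mul_self_of_isInvolT {g : Equiv.Perm GolayPt} {c : List ℕ} (hm : Matches g c)
    (h : isInvolT c = true) : g * g = 1 := by
  simp only [isInvolT, List.all_eq_true, List.mem_range, beq_iff_eq] at h
  apply Equiv.ext
  intro p
  apply idx_injective
  rw [Equiv.Perm.mul_apply, hm (g p), hm p, Equiv.Perm.one_apply]
  exact h _ (idx_lt p)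

theorem mem_cands {g : Equiv.Perm GolayPt} (hg : g ∈ M24) (hgg : g * g = 1)
    (h0 : g (bp 0) = bp 1) (h1 : g (bp 1) = bp 0) (h2 : g (bp 2) = bp 3) (h3 : g (bp 3) = bp 2) :
    ∃ t ∈ cands, Matches g t := by
  obtain ⟨H, hH, hHm⟩ := exists_H
  obtain ⟨e23, e0, e1, e2⟩ := HT_spec
  have H1 : H (bp 1) = bp 0 := matches_apply hHm (i := 0) (j := 23) (by decide) (by decide) e0
  have H0 : H (bp 0) = bp 1 := matches_apply hHm (i := 23) (j := 0) (by decide) (by decide) e23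
  have H3 : H (bp 3) = bp 2 := matches_apply hHm (i := 2) (j := 1) (by decide) (by decide) e2
  have H2 : H (bp 2) = bp 3 := matches_apply hHm (i := 1) (j := 2) (by decide) (by decide) e1
  have hs : H * g ∈ M24 := M24.mul_mem hH hg
  have hfix4 : ∀ j < 4, (H * g) (bp j) = bp j := by
    intro j hj
    rw [Equiv.Perm.mul_apply]
    have : j = 0 ∨ j = 1 ∨ j = 2 ∨ j = 3 := by omega
    rcases this with rfl | rfl | rfl | rfl
    · rw [h0, H1]
    · rw [h1, H0]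
    · rw [h2, H3]
    · rw [h3, H2]
  obtain ⟨q4, hq4, ok4, u4, hu4, m4, hfix5⟩ := sift_step (i := 4) (by decide) hs hfix4
  obtain ⟨q5, hq5, ok5, u5, hu5, m5, hfix6⟩ := sift_step (i := 5) (by decide)
    (M24.mul_mem hu4 hs) hfix5
  obtain ⟨q6, hq6, ok6, u6, hu6, m6, hfix7⟩ := sift_step (i := 6) (by decide)
    (M24.mul_mem hu5 (M24.mul_mem hu4 hs)) hfix6
  have hone : u6 * (u5 * (u4 * (H * g))) = 1 :=
    eq_one_of_fixes_base (M24.mul_mem hu6 (M24.mul_mem hu5 (M24.mul_mem hu4 hs))) hfix7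
  have hX : u6 * (u5 * (u4 * H)) = g := by
    have e : (u6 * (u5 * (u4 * H))) * g = 1 := by
      rw [← hone]; simp only [mul_assoc]
    calc u6 * (u5 * (u4 * H)) = (u6 * (u5 * (u4 * H))) * (g * g) := by rw [hgg, mul_one]
      _ = ((u6 * (u5 * (u4 * H))) * g) * g := by simp only [mul_assoc]
      _ = g := by rw [e, one_mul]
  refine ⟨compT (uT 6 q6) (compT (uT 5 q5) (compT (uT 4 q4) HT)), ?_, ?_⟩
  · simp only [cands, List.mem_flatMap, List.mem_filter, List.mem_map, List.mem_range]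
    exact ⟨q4, ⟨hq4, ok4⟩, q5, ⟨hq5, ok5⟩, q6, ⟨hq6, ok6⟩, rfl⟩
  · rw [← hX]
    exact matches_mul m6 (matches_mul m5 (matches_mul m4 hHm))

theorem exists_two_cycles {g : Equiv.Perm GolayPt} (hg : g ∈ M24) (hne : g ≠ 1) :
    ∃ a c : GolayPt, g a ≠ a ∧ g c ≠ c ∧ c ≠ a ∧ c ≠ g a := by
  by_contra hcon
  push Not at hcon
  obtain ⟨a, ha⟩ : ∃ a, g a ≠ a := by
    by_contra h
    push Not at h
    exact hne (Equiv.ext h)
  apply hne
  apply eq_one_of_fixes_compl hg [a, g a] (by simp [ha.symm]) (by simp)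
  intro p hp
  by_contra hpne
  simp only [List.mem_cons, List.not_mem_nil, or_false, not_or] at hp
  exact hp.2 (hcon a p ha hpne hp.1)

theorem base_nodup : [bp 0, bp 1, bp 2, bp 3].Nodup := by decide

theorem classify {g : Equiv.Perm GolayPt} (hg : g ∈ M24) (h2 : orderOf g = 2) :
    (∃ k ∈ M24, k * g * k⁻¹ = wordP wA) ∨ (∃ k ∈ M24, k * g * k⁻¹ = wordP [1]) := by
  have hgg : g * g = 1 := by
    rw [← pow_two, ← h2]; exact pow_orderOf_eq_one g
  have hne : g ≠ 1 := by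
    intro h; rw [h, orderOf_one] at h2; omega
  obtain ⟨a, c, ha, hc, hca, hcb⟩ := exists_two_cycles hg hne
  have hgga : g (g a) = a := by
    rw [← Equiv.Perm.mul_apply, hgg, Equiv.Perm.one_apply]
  have hggc : g (g c) = c := by
    rw [← Equiv.Perm.mul_apply, hgg, Equiv.Perm.one_apply]
  have hda : g c ≠ a := by
    intro h; apply hcb; rw [← h, hggc]
  have hdb : g c ≠ g a := by
    intro h; exact hca (g.injective h)
  have hl : [a, g a, c, g c].Nodup := by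
    simp only [List.nodup_cons, List.mem_cons, List.not_mem_nil, or_false, not_or,
      List.nodup_nil, and_true, not_false_eq_true]
    exact ⟨⟨ha.symm, hca.symm, hda.symm⟩, ⟨hcb.symm, hdb.symm⟩, hc.symm⟩
  obtain ⟨z, hz, hzl⟩ := exists_M24_map_list [a, g a, c, g c] [bp 0, bp 1, bp 2, bp 3] hl
    base_nodup rfl (by simp)
  have z0 : z a = bp 0 := hzl 0 (by simp)
  have z1 : z (g a) = bp 1 := hzl 1 (by simp)
  have z2 : z c = bp 2 := hzl 2 (by simp)
  have z3 : z (g c) = bp 3 := hzl 3 (by simp)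
  have hzi : ∀ p q, z p = q → z⁻¹ q = p := by
    intro p q h; rw [← h]; simp
  have hg' : z * g * z⁻¹ ∈ M24 := M24.mul_mem (M24.mul_mem hz hg) (M24.inv_mem hz)
  have hgg' : (z * g * z⁻¹) * (z * g * z⁻¹) = 1 := by
    calc (z * g * z⁻¹) * (z * g * z⁻¹) = z * (g * g) * z⁻¹ := by group
      _ = 1 := by rw [hgg]; group
  obtain ⟨t, ht, hmt⟩ := mem_cands hg' hgg'
    (by simp only [Equiv.Perm.mul_apply]; rw [hzi _ _ z0, z1])
    (by simp only [Equiv.Perm.mul_apply]; rw [hzi _ _ z1, hgga, z0])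
    (by simp only [Equiv.Perm.mul_apply]; rw [hzi _ _ z2, z3])
    (by simp only [Equiv.Perm.mul_apply]; rw [hzi _ _ z3, hggc, z2])
  have hinv := isInvolT_of hmt hgg'
  have hbig := big_check t ht hinv
  have key : ∀ rep : List ℕ, conjWords.any (conjOK t (wordT rep)) = true →
      ∃ k ∈ M24, k * g * k⁻¹ = wordP rep := by
    intro rep hany
    rw [List.any_eq_true] at hany
    obtain ⟨w, _, hw⟩ := hany
    have e : wordP w * (z * g * z⁻¹) = wordP rep * wordP w :=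
      eq_of_eqT (matches_mul (wordP_matches w) hmt)
        (matches_mul (wordP_matches rep) (wordP_matches w)) hw
    refine ⟨wordP w * z, M24.mul_mem (wordP_mem w) hz, ?_⟩
    calc wordP w * z * g * (wordP w * z)⁻¹ = (wordP w * (z * g * z⁻¹)) * (wordP w)⁻¹ := by group
      _ = wordP rep := by rw [e]; group
  rw [Bool.or_eq_true] at hbig
  rcases hbig with h | h
  · exact Or.inl (key wA h)
  · exact Or.inr (key [1] h)

theorem fixA : (Finset.univ.filter fun p => wordP wA p = p) = setOf mA := by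
  ext p
  rw [Finset.mem_filter]
  simp only [Finset.mem_univ, true_and]
  exact fix_iff_of_fixIs (wordP_matches wA) repA_check.2.1 p

theorem fixA_mem : (Finset.univ.filter fun p => wordP wA p = p) ∈ octads := by
  rw [fixA]; exact setOf_mem_octads repA_check.2.2.1

theorem fixB (p : GolayPt) : wordP [1] p ≠ p := by
  intro h
  have := (fix_iff_of_fixIs (wordP_matches [1]) repA_check.2.2.2.2 p).mp h
  rw [setOf_zero] at this
  exact absurd this (Finset.notMem_empty p)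

theorem orderA : orderOf (wordP wA) = 2 := by
  have : Fact (Nat.Prime 2) := ⟨Nat.prime_two⟩
  apply orderOf_eq_prime
  · rw [pow_two]; exact mul_self_of_isInvolT (wordP_matches wA) repA_check.1
  · intro h
    have h1 := fixA
    rw [h] at h1
    have h2 : (Finset.univ.filter fun p : GolayPt => (1 : Equiv.Perm GolayPt) p = p) = Finset.univ := by
      simp
    rw [h2] at h1
    have h3 := congrArg Finset.card h1
    rw [card_setOf] at h3
    revert h3
    decide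

theorem orderB : orderOf (wordP [1]) = 2 := by
  have : Fact (Nat.Prime 2) := ⟨Nat.prime_two⟩
  apply orderOf_eq_prime
  · rw [pow_two]; exact mul_self_of_isInvolT (wordP_matches [1]) repA_check.2.2.2.1
  · intro h
    exact fixB none (by rw [h]; rfl)

/-- fixed points of a conjugate -/
theorem fix_conj (k g : Equiv.Perm GolayPt) :
    (Finset.univ.filter fun p => (k * g * k⁻¹) p = p) = k • (Finset.univ.filter fun p => g p = p) := by
  ext p
  rw [mem_perm_smul_finset, Finset.mem_filter, Finset.mem_filter]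
  simp only [Finset.mem_univ, true_and, Equiv.Perm.mul_apply]
  have hk : k⁻¹ p = k.symm p := rfl
  rw [hk]
  constructor
  · intro h
    have := congrArg k.symm h
    simpa using this
  · intro h
    rw [h]; simp


/-- The automorphism group of the length-24 code built from the squares modulo 23 has exactly two conjugacy classes of involutions: an involution either fixes exactly the eight points of an octad or has no fixed points, both kinds occur, and any two involutions of the same kind are conjugate in the group. -/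
theorem result : (∀ g ∈ Cfsg.M24, orderOf g = 2 → (Finset.univ.filter fun p => g p = p) ∈ Cfsg.octads ∨ ∀ p, g p ≠ p) ∧ (∃ g ∈ Cfsg.M24, orderOf g = 2 ∧ (Finset.univ.filter fun p => g p = p) ∈ Cfsg.octads) ∧ (∃ g ∈ Cfsg.M24, orderOf g = 2 ∧ ∀ p, g p ≠ p) ∧ ∀ g ∈ Cfsg.M24, ∀ h ∈ Cfsg.M24, orderOf g = 2 → orderOf h = 2 → ((∀ p, g p ≠ p) ↔ (∀ p, h p ≠ p)) → ∃ k ∈ Cfsg.M24, k * g * k⁻¹ = h := by
  have conjA : ∀ g ∈ M24, ∀ k ∈ M24, k * g * k⁻¹ = wordP wA →
      (Finset.univ.filter fun p => g p = p) ∈ octads := by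
    intro g _ k hk h
    have h1 := fix_conj k g
    rw [h] at h1
    have h2 : (Finset.univ.filter fun p => g p = p) =
        k⁻¹ • (Finset.univ.filter fun p => wordP wA p = p) := by
      rw [h1, inv_smul_smul]
    rw [h2]
    exact smul_mem_octads (M24.inv_mem hk) fixA_mem
  have conjB : ∀ g ∈ M24, ∀ k ∈ M24, k * g * k⁻¹ = wordP [1] → ∀ p, g p ≠ p := by
    intro g _ k _ h p hp
    apply fixB (k p)
    rw [← h]
    simp [hp]
  have notboth : ∀ g : Equiv.Perm GolayPt, (Finset.univ.filter fun p => g p = p) ∈ octads →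
      ¬ (∀ p, g p ≠ p) := by
    intro g ho hfpf
    have hcard : (Finset.univ.filter fun p => g p = p).card = 8 := ho.2
    have hempty : (Finset.univ.filter fun p => g p = p) = ∅ := by
      apply Finset.filter_eq_empty_iff.mpr
      intro p _
      exact hfpf p
    rw [hempty] at hcard
    simp at hcard
  refine ⟨?_, ⟨wordP wA, wordP_mem wA, orderA, fixA_mem⟩, ⟨wordP [1], wordP_mem [1], orderB, fixB⟩, ?_⟩
  · intro g hg h2
    rcases classify hg h2 with ⟨k, hk, h⟩ | ⟨k, hk, h⟩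
    · exact Or.inl (conjA g hg k hk h)
    · exact Or.inr (conjB g hg k hk h)
  · intro g hg h hh og oh hiff
    have fin : ∀ (R : Equiv.Perm GolayPt) (k1 k2 : Equiv.Perm GolayPt), k1 ∈ M24 → k2 ∈ M24 →
        k1 * g * k1⁻¹ = R → k2 * h * k2⁻¹ = R → ∃ k ∈ M24, k * g * k⁻¹ = h := by
      intro R k1 k2 hk1 hk2 e1 e2
      refine ⟨k2⁻¹ * k1, M24.mul_mem (M24.inv_mem hk2) hk1, ?_⟩
      calc k2⁻¹ * k1 * g * (k2⁻¹ * k1)⁻¹ = k2⁻¹ * (k1 * g * k1⁻¹) * k2 := by group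
        _ = k2⁻¹ * (k2 * h * k2⁻¹) * k2 := by rw [e1, e2]
        _ = h := by group
    rcases classify hg og with ⟨k1, hk1, e1⟩ | ⟨k1, hk1, e1⟩ <;>
      rcases classify hh oh with ⟨k2, hk2, e2⟩ | ⟨k2, hk2, e2⟩
    · exact fin _ k1 k2 hk1 hk2 e1 e2
    · exfalso
      exact notboth g (conjA g hg k1 hk1 e1) (hiff.mpr (conjB h hh k2 hk2 e2))
    · exfalso
      exact notboth h (conjA h hh k2 hk2 e2) (hiff.mp (conjB g hg k1 hk1 e1))
    · exact fin _ k1 k2 hk1 hk2 e1 e2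

end Cfsg.Agent.S5394
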