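import Cfsg.Statements.S1477
import Cfsg.Agent.Lib.Helper52.NilpSub
-- import your own Cfsg.Agent.* helpers here

set_option autoImplicit false
open Cfsg

namespace Cfsg.Agent.S1477

open Cfsg.Agent.Lib.Helper52

section Aux

variable {G : Type*} [Group G] [Finite G]

omit [Finite G] in
/-- In a CN-group, the centralizer of a non-identity central element of a maximal nilpotent
subgroup `H` is `H`. -/
theorem centralizer_eq_of_central (hCN : Cfsg.IsCNGroup G) (H : Subgroup G)
    (hmax : ∀ L : Subgroup G, Group.IsNilpotent L → H ≤ L → L = H) {z : G} (hz1 : z ≠ 1)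
    (hzc : ∀ h ∈ H, z * h = h * z) : Subgroup.centralizer ({z} : Set G) = H := by
  apply hmax _ (hCN z hz1)
  intro h hh
  rw [Subgroup.mem_centralizer_singleton_iff]
  exact (hzc h hh).symm

/-- `r'`-elements centralizing a non-identity element of `H` lie in `H`, when `r ∣ |H|`. -/
theorem mem_of_coprime_of_mem_centralizer (hCN : Cfsg.IsCNGroup G) (H : Subgroup G)
    (hH : Group.IsNilpotent H)
    (hmax : ∀ L : Subgroup G, Group.IsNilpotent L → H ≤ L → L = H) {x : G} (hx : x ∈ H)
    (hx1 : x ≠ 1) (r : ℕ) [hr : Fact r.Prime] (hrH : r ∣ Nat.card H) {y : G}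
    (hy : y ∈ Subgroup.centralizer ({x} : Set G)) (hyr : (orderOf y).Coprime r) : y ∈ H := by
  obtain ⟨u, huH, huo, huc⟩ := exists_central_orderOf_eq_prime H hH r hrH
  have hu1 : u ≠ 1 := by
    intro h
    rw [h, orderOf_one] at huo
    exact hr.out.one_lt.ne huo
  have huL : u ∈ Subgroup.centralizer ({x} : Set G) := by
    rw [Subgroup.mem_centralizer_singleton_iff]; exact huc x hx
  have hcomm := comm_of_coprime_of_mem_nilpotent _ (hCN x hx1) hy huL (by rw [huo]; exact hyr)
  rw [← centralizer_eq_of_central hCN H hmax hu1 huc, Subgroup.mem_centralizer_singleton_iff]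
  exact hcomm

omit [Finite G] in
theorem mem_map_conj_iff (H : Subgroup G) (g y : G) :
    y ∈ H.map (MulAut.conj g).toMonoidHom ↔ g⁻¹ * y * g ∈ H := by
  constructor
  · rintro ⟨h, hh, rfl⟩
    have : g⁻¹ * ((MulAut.conj g).toMonoidHom h) * g = h := by
      simp [MulAut.conj_apply, mul_assoc]
    rw [this]; exact hh
  · intro h
    exact ⟨g⁻¹ * y * g, h, by simp [MulAut.conj_apply, mul_assoc]⟩

omit [Finite G] in
theorem orderOf_conj' (g y : G) : orderOf (g⁻¹ * y * g) = orderOf y := by
  have := MulEquiv.orderOf_eq (MulAut.conj g⁻¹) y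
  simpa [MulAut.conj_apply] using this

theorem part1 (hCN : Cfsg.IsCNGroup G) (H : Subgroup G) (hH : Group.IsNilpotent H)
    (hmax : ∀ L : Subgroup G, Group.IsNilpotent L → H ≤ L → L = H) :
    (Nat.card H).Coprime H.index := by
  apply Nat.coprime_of_dvd
  intro p hp hpH hpI
  have : Fact p.Prime := ⟨hp⟩
  obtain ⟨P, hPH, hP, hPmem⟩ := exists_pSubgroup_of_nilpotent H hH p
  obtain ⟨S, hPS⟩ := hP.exists_le_sylow
  obtain ⟨u, huH, huo, huc⟩ := exists_central_orderOf_eq_prime H hH p hpH
  have hu1 : u ≠ 1 := by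
    intro h
    rw [h, orderOf_one] at huo
    exact hp.one_lt.ne huo
  have huS : u ∈ (S : Subgroup G) := hPS (hPmem u huH 1 (by rw [huo, pow_one]))
  have hnt : Nontrivial (S : Subgroup G) :=
    ⟨⟨⟨u, huS⟩, 1, fun h => hu1 (congrArg Subtype.val h)⟩⟩
  have hcnt := S.isPGroup'.center_nontrivial
  obtain ⟨w, hw⟩ := exists_ne (1 : Subgroup.center (S : Subgroup G))
  have hw1 : ((w : (S : Subgroup G)) : G) ≠ 1 := by
    intro h1
    apply hw
    ext
    exact h1
  have hwc : ∀ y ∈ (S : Subgroup G), ((w : (S : Subgroup G)) : G) * y = y * ((w : (S : Subgroup G)) : G) := by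
    intro y hy
    have := (Subgroup.mem_center_iff.mp w.2) ⟨y, hy⟩
    exact (congrArg Subtype.val this).symm
  have hwH : ((w : (S : Subgroup G)) : G) ∈ H := by
    rw [← centralizer_eq_of_central hCN H hmax hu1 huc, Subgroup.mem_centralizer_singleton_iff]
    exact hwc u huS
  obtain ⟨k, hk⟩ := (IsPGroup.iff_orderOf.mp S.isPGroup') (w : (S : Subgroup G))
  rw [← Subgroup.orderOf_coe] at hk
  have hwcH : ∀ h ∈ H, ((w : (S : Subgroup G)) : G) * h = h * ((w : (S : Subgroup G)) : G) :=
    central_of_comm_pElements H hH p hwH hk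
      (fun h hh k' hk' => hwc h (hPS (hPmem h hh k' hk')))
  have hSH : (S : Subgroup G) ≤ H := by
    have e := centralizer_eq_of_central hCN H hmax hw1 hwcH
    intro s hs
    rw [← e, Subgroup.mem_centralizer_singleton_iff]
    exact (hwc s hs).symm
  exact S.not_dvd_index (hpI.trans (Subgroup.index_dvd_of_le hSH))

theorem part2 (hCN : Cfsg.IsCNGroup G) (H : Subgroup G) (hH : Group.IsNilpotent H)
    (hmax : ∀ L : Subgroup G, Group.IsNilpotent L → H ≤ L → L = H)
    (hnpp : ¬ IsPrimePow (Nat.card H)) (g : G)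
    (hg : H.map (MulAut.conj g).toMonoidHom ≠ H) :
    H ⊓ H.map (MulAut.conj g).toMonoidHom = ⊥ := by
  by_contra hne
  rw [Subgroup.eq_bot_iff_forall] at hne
  push Not at hne
  obtain ⟨x, hx, hx1⟩ := hne
  obtain ⟨hxH, hxHg⟩ := Subgroup.mem_inf.mp hx
  have hox : orderOf x ≠ 1 := by rwa [Ne, orderOf_eq_one_iff]
  obtain ⟨p, hp, hpx⟩ := Nat.exists_prime_and_dvd hox
  have : Fact p.Prime := ⟨hp⟩
  set x' := x ^ (orderOf x / p) with hx'def
  have hx'o : orderOf x' = p := orderOf_pow_orderOf_div (orderOf_pos x).ne' hpx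
  have hx'1 : x' ≠ 1 := by
    intro h
    rw [h, orderOf_one] at hx'o
    exact hp.one_lt.ne hx'o
  have hx'H : x' ∈ H := H.pow_mem hxH _
  have hx'Hg : x' ∈ H.map (MulAut.conj g).toMonoidHom := Subgroup.pow_mem _ hxHg _
  have hpH : p ∣ Nat.card H := by
    rw [← hx'o]; exact Subgroup.orderOf_dvd_natCard H hx'H
  obtain ⟨q, hq, hqH, hqp⟩ : ∃ q, q.Prime ∧ q ∣ Nat.card H ∧ q ≠ p := by
    by_contra hcon
    push Not at hcon
    apply hnpp
    rw [isPrimePow_iff_unique_prime_dvd]
    exact ⟨p, ⟨hp, hpH⟩, fun r hr => hcon r hr.1 hr.2⟩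
  have : Fact q.Prime := ⟨hq⟩
  obtain ⟨z, hzH, hzo, hzc⟩ := exists_central_orderOf_eq_prime H hH q hqH
  have hz1 : z ≠ 1 := by
    intro h
    rw [h, orderOf_one] at hzo
    exact hq.one_lt.ne hzo
  have hx''H : g⁻¹ * x' * g ∈ H := (mem_map_conj_iff H g x').mp hx'Hg
  have hx''1 : g⁻¹ * x' * g ≠ 1 := by
    intro h
    apply hx'1
    have : x' = g * (g⁻¹ * x' * g) * g⁻¹ := by group
    rw [this, h]; group
  have hqp' : q.Coprime p := (Nat.coprime_primes hq hp).mpr hqp
  have hCl1 : ∀ y ∈ Subgroup.centralizer ({x'} : Set G), (orderOf y).Coprime p → y ∈ H :=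
    fun y hy hyp => mem_of_coprime_of_mem_centralizer hCN H hH hmax hx'H hx'1 p hpH hy hyp
  have hCl2 : ∀ y ∈ Subgroup.centralizer ({x'} : Set G), (orderOf y).Coprime p →
      y ∈ H.map (MulAut.conj g).toMonoidHom := by
    intro y hy hyp
    rw [mem_map_conj_iff]
    apply mem_of_coprime_of_mem_centralizer hCN H hH hmax hx''H hx''1 p hpH
    · rw [Subgroup.mem_centralizer_singleton_iff] at hy ⊢
      calc g⁻¹ * y * g * (g⁻¹ * x' * g) = g⁻¹ * (y * x') * g := by group
        _ = g⁻¹ * (x' * y) * g := by rw [hy]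
        _ = g⁻¹ * x' * g * (g⁻¹ * y * g) := by group
    · rw [orderOf_conj']; exact hyp
  have hcommHg : ∀ a b : G, a ∈ H.map (MulAut.conj g).toMonoidHom →
      b ∈ H.map (MulAut.conj g).toMonoidHom → (orderOf a).Coprime (orderOf b) → a * b = b * a := by
    intro a b ha hb hab
    rw [mem_map_conj_iff] at ha hb
    have := comm_of_coprime_of_mem_nilpotent H hH ha hb (by rw [orderOf_conj', orderOf_conj']; exact hab)
    have e : a * b = g * ((g⁻¹ * a * g) * (g⁻¹ * b * g)) * g⁻¹ := by group
    rw [e, this]; group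
  have hzC : z ∈ Subgroup.centralizer ({x'} : Set G) :=
    Subgroup.mem_centralizer_singleton_iff.mpr (hzc x' hx'H)
  have hzHg : z ∈ H.map (MulAut.conj g).toMonoidHom := hCl2 z hzC (by rw [hzo]; exact hqp')
  have hle' : H.map (MulAut.conj g).toMonoidHom ≤ Subgroup.centralizer ({z} : Set G) := by
    apply le_of_forall_primePow_order_mem
    intro h' hh' r k hr hk
    rw [Subgroup.mem_centralizer_singleton_iff]
    by_cases hrq : r = q
    · subst hrq
      have hcop : (orderOf h').Coprime p := by rw [hk]; exact Nat.Coprime.pow_left k hqp'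
      have h1 : h' * x' = x' * h' := hcommHg h' x' hh' hx'Hg (by rw [hx'o]; exact hcop)
      have h2 : h' ∈ Subgroup.centralizer ({x'} : Set G) :=
        Subgroup.mem_centralizer_singleton_iff.mpr h1
      have h3 : h' ∈ H := hCl1 h' h2 hcop
      exact (hzc h' h3).symm
    · exact hcommHg h' z hh' hzHg (by
        rw [hk, hzo]; exact Nat.Coprime.pow_left k ((Nat.coprime_primes hr hq).mpr hrq))
  have hle : H.map (MulAut.conj g).toMonoidHom ≤ H := by
    have e := centralizer_eq_of_central hCN H hmax hz1 hzc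
    intro y hy
    have := hle' hy
    rw [e] at this
    exact this
  apply hg
  exact Subgroup.eq_of_le_of_card_ge hle
    (by rw [Subgroup.card_map_of_injective (MulAut.conj g).injective])

theorem part3 (hCN : Cfsg.IsCNGroup G) (H : Subgroup G) (hH : Group.IsNilpotent H)
    (hmax : ∀ L : Subgroup G, Group.IsNilpotent L → H ≤ L → L = H)
    (hTI : ∀ g : G, H.map (MulAut.conj g).toMonoidHom ≠ H →
      H ⊓ H.map (MulAut.conj g).toMonoidHom = ⊥) (x : G) (hx : x ∈ H) (hx1 : x ≠ 1) :
    Subgroup.centralizer ({x} : Set G) ≤ H := by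
  apply le_of_forall_primePow_order_mem
  intro c hc q k hq hck
  have : Fact q.Prime := ⟨hq⟩
  by_cases hex : ∃ p, p.Prime ∧ p ∣ Nat.card H ∧ p ≠ q
  · obtain ⟨p, hp, hpH, hpq⟩ := hex
    have : Fact p.Prime := ⟨hp⟩
    exact mem_of_coprime_of_mem_centralizer hCN H hH hmax hx hx1 p hpH hc
      (by rw [hck]; exact Nat.Coprime.pow_left k ((Nat.coprime_primes hq hp).mpr hpq.symm))
  · push Not at hex
    have hcard : Nat.card H = q ^ (Nat.card H).primeFactorsList.length :=
      Nat.eq_prime_pow_of_unique_prime_dvd Nat.card_pos.ne' (fun hd hdv => hex _ hd hdv)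
    have hHq : IsPGroup q H := IsPGroup.of_card hcard
    have hcH : H.map (MulAut.conj c).toMonoidHom = H := by
      by_contra hne
      have hbot := hTI c hne
      have hxin : x ∈ H ⊓ H.map (MulAut.conj c).toMonoidHom := by
        refine Subgroup.mem_inf.mpr ⟨hx, ?_⟩
        rw [mem_map_conj_iff]
        rw [Subgroup.mem_centralizer_singleton_iff] at hc
        have : c⁻¹ * x * c = x := by rw [mul_assoc, ← hc, inv_mul_cancel_left]
        rw [this]; exact hx
      rw [hbot, Subgroup.mem_bot] at hxin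
      exact hx1 hxin
    have hcN : Subgroup.zpowers c ≤ Subgroup.normalizer (H : Set G) := by
      rw [Subgroup.zpowers_le, Subgroup.mem_normalizer_iff]
      intro h
      constructor
      · intro hh
        have : c * h * c⁻¹ ∈ H.map (MulAut.conj c).toMonoidHom := by
          rw [mem_map_conj_iff]
          have : c⁻¹ * (c * h * c⁻¹) * c = h := by group
          rw [this]; exact hh
        rwa [hcH] at this
      · intro hh
        rw [← hcH, mem_map_conj_iff] at hh
        have : c⁻¹ * (c * h * c⁻¹) * c = h := by group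
        rwa [this] at hh
    have hzc : IsPGroup q (Subgroup.zpowers c) :=
      IsPGroup.of_card (n := k) (by rw [Nat.card_zpowers, hck])
    have hsup : IsPGroup q (Subgroup.zpowers c ⊔ H : Subgroup G) :=
      IsPGroup.to_sup_of_normal_right' hzc hHq hcN
    have hnil : Group.IsNilpotent (Subgroup.zpowers c ⊔ H : Subgroup G) := hsup.isNilpotent
    have e := hmax _ hnil le_sup_right
    have : c ∈ (Subgroup.zpowers c ⊔ H : Subgroup G) :=
      (le_sup_left : Subgroup.zpowers c ≤ _) (Subgroup.mem_zpowers c)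
    rwa [e] at this

end Aux

/-- Let G be a finite group in which every non-identity element has nilpotent centralizer, and H a nilpotent subgroup not properly contained in any nilpotent subgroup. Then the order of H is coprime to its index; if the order of H is not a prime power then H ∩ gHg⁻¹ = 1 whenever gHg⁻¹ ≠ H; and if H ∩ gHg⁻¹ = 1 whenever gHg⁻¹ ≠ H, then C_G(x) ≤ H for every non-identity x ∈ H. -/
theorem result {G : Type*} [Group G] [Finite G] (hCN : Cfsg.IsCNGroup G) (H : Subgroup G) (hH : Group.IsNilpotent H)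
    (hmax : ∀ L : Subgroup G, Group.IsNilpotent L → H ≤ L → L = H) :
    (Nat.card H).Coprime H.index ∧
      (¬ IsPrimePow (Nat.card H) → Nat.card H ≠ 1 → ∀ g : G, H.map (MulAut.conj g).toMonoidHom ≠ H → H ⊓ H.map (MulAut.conj g).toMonoidHom = ⊥) ∧
      ((∀ g : G, H.map (MulAut.conj g).toMonoidHom ≠ H → H ⊓ H.map (MulAut.conj g).toMonoidHom = ⊥) → ∀ x ∈ H, x ≠ 1 → Subgroup.centralizer ({x} : Set G) ≤ H) := by
  refine ⟨part1 hCN H hH hmax, fun hnpp _ g hg => part2 hCN H hH hmax hnpp g hg,
    fun hTI x hx hx1 => part3 hCN H hH hmax hTI x hx hx1⟩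

end Cfsg.Agent.S1477
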