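import Cfsg.Statements.S1484
import Mathlib
import Cfsg.Agent.Lib.Helper64.CNMaximal4

set_option autoImplicit false
open Cfsg

namespace Cfsg.Agent.S1484

/-- Let G be a minimal simple group of odd order in which every non-identity element has nilpotent centralizer, and M₁, …, M_k maximal subgroups, pairwise non-conjugate, such that every maximal subgroup is conjugate to some M_i. Let H_i be the largest normal nilpotent Hall subgroup of M_i. Then the orders of the H_i are pairwise coprime, their product is the order of G, and every element of G is conjugate to an element of some H_i. -/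
theorem result {G : Type*} [Group G] [Finite G] (hG : Cfsg.IsMinSimpleOddOrder G) (hCN : Cfsg.IsCNGroup G) (k : ℕ) (Mrep : Fin k → Subgroup G) (hmax : ∀ i, IsCoatom (Mrep i))
    (hnc : ∀ i j, i ≠ j → ∀ g : G, Mrep j ≠ (Mrep i).map (MulAut.conj g).toMonoidHom) (hall : ∀ M : Subgroup G, IsCoatom M → ∃ i, ∃ g : G, M = (Mrep i).map (MulAut.conj g).toMonoidHom) :
    (∀ i j, i ≠ j → (Nat.card (Cfsg.fittingHallOf (Mrep i))).Coprime (Nat.card (Cfsg.fittingHallOf (Mrep j)))) ∧
      ∏ i, Nat.card (Cfsg.fittingHallOf (Mrep i)) = Nat.card G ∧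
      ∀ x : G, ∃ i, ∃ g : G, g * x * g⁻¹ ∈ Cfsg.fittingHallOf (Mrep i) := by
  open Cfsg.Agent.Lib.Helper64 in
  have hsimple : IsSimpleGroup G := hG.2.1
  have hnt : Nontrivial G := hsimple.toNontrivial
  have hF := fun i => coatom_fittingHallOf hG hCN (Mrep i) (hmax i)
  -- (1) pairwise coprime
  have h1 : ∀ i j, i ≠ j → (Nat.card (Cfsg.fittingHallOf (Mrep i))).Coprime
      (Nat.card (Cfsg.fittingHallOf (Mrep j))) := by
    intro i j hij
    obtain ⟨hnili, -, hnormi, hmaxi⟩ := hF i
    obtain ⟨hnilj, -, hnormj, hmaxj⟩ := hF j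
    rcases Cfsg.Agent.Lib.Helper54.cn_maxNilpotent_conj_or_coprime hCN _ _ ⟨hnili, hmaxi⟩ ⟨hnilj, hmaxj⟩
      with ⟨g, hg⟩ | hc
    · exfalso
      apply hnc i j hij g
      rw [← hnormj, hg, ← Subgroup.map_equiv_normalizer_eq, hnormi]
    · exact hc
  -- (3) every element is conjugate into some `H i`
  have h3 : ∀ x : G, ∃ i, ∃ g : G, g * x * g⁻¹ ∈ Cfsg.fittingHallOf (Mrep i) := by
    intro x
    obtain ⟨M, hM, hxM⟩ := exists_coatom_mem_fittingHallOf hG hCN x
    obtain ⟨i, g, hMi⟩ := hall M hM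
    rw [hMi, fittingHallOf_map_conj hG hCN (Mrep i) (hmax i) g] at hxM
    obtain ⟨y, hy, hyx⟩ := hxM
    refine ⟨i, g⁻¹, ?_⟩
    have : g⁻¹ * x * g⁻¹⁻¹ = y := by
      rw [← hyx]
      simp [MulAut.conj_apply, mul_assoc]
    rw [this]
    exact hy
  refine ⟨h1, ?_, h3⟩
  -- (2) the product formula
  have hcop : ∀ i, (Nat.card (Cfsg.fittingHallOf (Mrep i))).Coprime (Cfsg.fittingHallOf (Mrep i)).index := by
    intro i
    obtain ⟨hnili, -, -, hmaxi⟩ := hF i
    exact (Cfsg.Agent.S1477.result hCN _ hnili hmaxi).1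
  have hdvd : ∀ i, Nat.card (Cfsg.fittingHallOf (Mrep i)) ∣ Nat.card G :=
    fun i => Subgroup.card_subgroup_dvd_card _
  have hprod_dvd : ∀ t : Finset (Fin k), ∏ i ∈ t, Nat.card (Cfsg.fittingHallOf (Mrep i)) ∣ Nat.card G := by
    classical
    intro t
    induction t using Finset.induction_on with
    | empty => simp
    | insert a t ha ih =>
      rw [Finset.prod_insert ha]
      apply Nat.Coprime.mul_dvd_of_dvd_of_dvd _ (hdvd a) ih
      apply Nat.Coprime.prod_right
      intro j hj
      apply h1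
      rintro rfl
      exact ha hj
  have hpos : ∏ i, Nat.card (Cfsg.fittingHallOf (Mrep i)) ≠ 0 := by
    apply Finset.prod_ne_zero_iff.mpr
    intro i _
    exact Nat.card_pos.ne'
  apply Nat.dvd_antisymm (hprod_dvd Finset.univ)
  rw [← Nat.factorization_prime_le_iff_dvd Nat.card_pos.ne' hpos]
  intro p hp
  by_cases hpG : p ∣ Nat.card G
  · have : Fact p.Prime := ⟨hp⟩
    obtain ⟨x, hx⟩ := exists_prime_orderOf_dvd_card' (G := G) p hpG
    obtain ⟨i, g, hmem⟩ := h3 x
    have hord : orderOf (g * x * g⁻¹) = p := by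
      rw [← hx]
      have : g * x * g⁻¹ = MulAut.conj g x := by simp [MulAut.conj_apply]
      rw [this, MulEquiv.orderOf_eq]
    have hpi : p ∣ Nat.card (Cfsg.fittingHallOf (Mrep i)) := by
      rw [← hord]
      exact Subgroup.orderOf_dvd_natCard _ hmem
    have hpidx : ¬ p ∣ (Cfsg.fittingHallOf (Mrep i)).index := by
      intro h
      have := Nat.dvd_gcd hpi h
      rw [hcop i] at this
      exact hp.one_lt.ne' (Nat.dvd_one.mp this)
    have hfac : (Nat.card G).factorization p = (Nat.card (Cfsg.fittingHallOf (Mrep i))).factorization p := by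
      rw [← Subgroup.card_mul_index (Cfsg.fittingHallOf (Mrep i)),
        Nat.factorization_mul Nat.card_pos.ne' Subgroup.index_ne_zero_of_finite]
      simp [Nat.factorization_eq_zero_of_not_dvd hpidx]
    rw [hfac]
    exact (Nat.factorization_le_iff_dvd Nat.card_pos.ne' hpos).mpr
      (Finset.dvd_prod_of_mem _ (Finset.mem_univ i)) p
  · rw [Nat.factorization_eq_zero_of_not_dvd hpG]
    exact Nat.zero_le _

end Cfsg.Agent.S1484
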