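import Cfsg.Statements.S1526
import Cfsg.Agent.S1524
import Cfsg.Agent.Lib.Helper52.CohTILinear
import Cfsg.Agent.Lib.Helper52.FrobSetup

set_option autoImplicit false
set_option linter.style.haveILetI false
open Cfsg

namespace Cfsg.Agent.S1526

/-- Let G be a finite group of odd order and (L i, H i), i in a finite index type with at least two elements, pairs of subgroups with H i a nontrivial proper normal subgroup of L i such that every non-identity element of H i has its centraliser within L i contained in H i (L i is a Frobenius group with kernel H i), the orders of the H i pairwise coprime, and the underlying set of each H i a TI-subset of G with normaliser L i. If every non-identity element of G is conjugate to an element of some H i, we reach a contradiction. -/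
theorem result {G : Type*} [Group G] [Finite G] (hodd : Odd (Nat.card G)) {ι : Type*} [Fintype ι] (hι : 2 ≤ Fintype.card ι) (L H : ι → Subgroup G) (hHL : ∀ i, H i < L i) (hH1 : ∀ i, H i ≠ ⊥) (hHn : ∀ i, ∀ x ∈ L i, ∀ h ∈ H i, x * h * x⁻¹ ∈ H i) (hfrob : ∀ i, ∀ h ∈ H i, h ≠ 1 → L i ⊓ Subgroup.centralizer ({h} : Set G) ≤ H i) (hcop : ∀ i j, i ≠ j → Nat.Coprime (Nat.card (H i)) (Nat.card (H j))) (hTI : ∀ i, Cfsg.IsTISubset (H i : Set G) ∧ Subgroup.normalizer (H i : Set G) = L i) (hcover : ∀ g : G, g ≠ 1 → ∃ i, ∃ x : G, x * g * x⁻¹ ∈ H i) : False := by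
  classical
  haveI : Fintype G := Fintype.ofFinite G
  haveI : ∀ i, Fintype ↥(Subgroup.normalizer (H i : Set G)) := fun i => Fintype.ofFinite _
  haveI : Nonempty ι := by
    rw [← Fintype.card_pos_iff]
    omega
  have hN : ∀ i, Subgroup.normalizer (H i : Set G) = L i := fun i => (hTI i).2
  have hTI' : ∀ i, ∀ g : G, g ∉ Subgroup.normalizer (H i : Set G) → ∀ k ∈ H i,
      g * k * g⁻¹ ∈ H i → k = 1 := fun i => (hTI i).1
  have hC : ∀ i, ∀ k ∈ H i, k ≠ 1 → Subgroup.centralizer ({k} : Set G) ≤ H i := by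
    intro i k hk hk1 g hg
    have hg' := Subgroup.mem_centralizer_singleton_iff.mp hg
    have hgN : g ∈ Subgroup.normalizer (H i : Set G) := by
      by_contra hgN
      apply hk1
      apply hTI' i g hgN k hk
      have : g * k * g⁻¹ = k := by rw [hg']; group
      rw [this]
      exact hk
    apply hfrob i k hk hk1
    rw [hN i] at hgN
    exact Subgroup.mem_inf.mpr ⟨hgN, hg⟩
  have hlt : ∀ i, H i < Subgroup.normalizer (H i : Set G) := fun i => by
    rw [hN i]
    exact hHL i
  have hsetup := fun i => Cfsg.Agent.Lib.Helper52.frobenius_kernel_setup (H i) (L i) (hHL i)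
    (hH1 i) (hHn i) (hfrob i)
  have hcoh : ∀ i, IsCoherent (Cfsg.Agent.Lib.Helper74.tifnS (H i))
      ({1}ᶜ : Set ↥(Subgroup.normalizer (H i : Set G)))
      (fun α : ↥(Subgroup.normalizer (H i : Set G)) → ℂ =>
        indFun (Subgroup.normalizer (H i : Set G)) α) := by
    intro i
    obtain ⟨hnil, W, hWL, hW1, hinf, hsup, hfpf⟩ := hsetup i
    have hoddL : Odd (Nat.card ↥(Subgroup.normalizer (H i : Set G))) :=
      Odd.of_dvd_nat hodd (Subgroup.card_subgroup_dvd_card _)
    have h := Cfsg.Agent.S1524.result (H i) (Subgroup.normalizer (H i : Set G)) W hoddL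
      Subgroup.le_normalizer (by rw [hN i]; exact hWL) (hH1 i) hW1 hnil
      (by rw [hN i]; exact hHn i) hinf (by rw [hN i]; exact hsup) hfpf (hTI i).1 rfl
    rw [Cfsg.Agent.Lib.Helper52.inducedIrrAbove_eq_tifnS (hC i)] at h
    exact h
  have hlin : ∀ i, ∃ ζ : Cfsg.Agent.Lib.Helper52.RelChar (H i),
      (ζ.1 : ↥(Subgroup.normalizer (H i : Set G)) → ℂ) 1 =
        (((H i).subgroupOf (Subgroup.normalizer (H i : Set G))).index : ℂ) := fun i =>
    Cfsg.Agent.Lib.Helper52.exists_relChar_degree_index (hC i) (hH1 i) (hsetup i).1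
  have hcard1 : ∀ i, 1 < Nat.card (H i) := fun i =>
    (Subgroup.one_lt_card_iff_ne_bot (H i)).mpr (hH1 i)
  have hnf : ∀ i j, i ≠ j → ∀ g : G, ∀ k ∈ H i, g * k * g⁻¹ ∈ H j → k = 1 := by
    intro i j hij g k hk hgk
    have h1 : orderOf k ∣ Nat.card (H i) := by
      have := orderOf_dvd_natCard (⟨k, hk⟩ : H i)
      rwa [Subgroup.orderOf_mk] at this
    have h2 : orderOf k ∣ Nat.card (H j) := by
      have := orderOf_dvd_natCard (⟨g * k * g⁻¹, hgk⟩ : H j)
      rw [Subgroup.orderOf_mk] at this
      have h3 : orderOf (g * k * g⁻¹) = orderOf k := by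
        have := orderOf_injective (MulAut.conj g).toMonoidHom (MulAut.conj g).injective k
        simpa using this
      rwa [h3] at this
    have h4 := Nat.dvd_gcd h1 h2
    rw [Nat.Coprime.gcd_eq_one (hcop i j hij)] at h4
    exact orderOf_eq_one_iff.mp (Nat.dvd_one.mp h4)
  have hcard : ∀ i j, i ≠ j → Nat.card (H i) ≠ Nat.card (H j) := by
    intro i j hij h
    have h1 := hcop i j hij
    rw [h, Nat.coprime_self] at h1
    have := hcard1 j
    omega
  exact Cfsg.Agent.Lib.Helper52.no_coherent_TI_partition hodd H hH1 hTI' hlt hC hcoh hlin hnf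
    hcard hcover

end Cfsg.Agent.S1526
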