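import Cfsg.Statements.S1527
-- import your own Cfsg.Agent.* helpers here
import Mathlib
-- import your own Cfsg.Agent.* helpers here

set_option autoImplicit false
open Cfsg

namespace Cfsg.Agent.S1527

theorem card_ne_eq (α : Type*) [Finite α] (a : α) : Nat.card {x : α // x ≠ a} = Nat.card α - 1 := by
  classical
  have := Fintype.ofFinite α
  rw [Nat.card_eq_fintype_card, Nat.card_eq_fintype_card]
  simp [Fintype.card_subtype_compl]

theorem orderOf_conj_eq {G : Type*} [Group G] (a x : G) : orderOf (a * x * a⁻¹) = orderOf x := by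
  have h : SemiconjBy a x (a * x * a⁻¹) := by
    unfold SemiconjBy; group
  exact (h.orderOf_eq).symm

theorem conj_eq_one {G : Type*} [Group G] {a x : G} (h : a * x * a⁻¹ = 1) : x = 1 := by
  have h2 := congrArg (fun t => a⁻¹ * t * a) h
  simpa [mul_assoc] using h2

/-- Let G be a finite group and H i (i in a finite index type) subgroups of pairwise coprime orders, each of whose underlying sets is a TI-subset of G, such that every non-identity element of G is conjugate to an element of some H i. Then Nat.card G − 1 = Σ_i [G : N_G(H i)] · (Nat.card (H i) − 1). -/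
theorem result {G : Type*} [Group G] [Finite G] {ι : Type*} [Fintype ι] (H : ι → Subgroup G) (hcop : ∀ i j, i ≠ j → Nat.Coprime (Nat.card (H i)) (Nat.card (H j))) (hTI : ∀ i, Cfsg.IsTISubset (H i : Set G)) (hcover : ∀ g : G, g ≠ 1 → ∃ i, ∃ x : G, x * g * x⁻¹ ∈ H i) : Nat.card G - 1 = ∑ i, (Subgroup.normalizer (H i : Set G)).index * (Nat.card (H i) - 1) := by
  classical
  -- the parametrising type
  let β : ι → Type _ := fun i => (G ⧸ Subgroup.normalizer (H i : Set G)) × {h : H i // h ≠ 1}
  let f : (Σ i, β i) → {g : G // g ≠ 1} := fun x =>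
    ⟨(Quotient.out x.2.1 : G) * (x.2.2.1 : G) * (Quotient.out x.2.1 : G)⁻¹, by
      intro h
      apply x.2.2.2
      exact Subtype.ext (conj_eq_one h)⟩
  have hf : Function.Bijective f := by
    constructor
    · rintro ⟨i, c, h⟩ ⟨j, c', h'⟩ hEq
      have hEq' : (Quotient.out c : G) * (h.1 : G) * (Quotient.out c : G)⁻¹ =
          (Quotient.out c' : G) * (h'.1 : G) * (Quotient.out c' : G)⁻¹ := congrArg Subtype.val hEq
      generalize ha : (Quotient.out c : G) = a at hEq'
      generalize hb : (Quotient.out c' : G) = b at hEq'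
      have hg1 : a * (h.1 : G) * a⁻¹ ≠ 1 := by
        intro h1
        exact h.2 (Subtype.ext (conj_eq_one h1))
      -- i = j
      have hij : i = j := by
        by_contra hne
        have h1 : orderOf (a * (h.1 : G) * a⁻¹) ∣ Nat.card (H i) := by
          rw [orderOf_conj_eq, Subgroup.orderOf_coe]
          exact orderOf_dvd_natCard _
        have h2 : orderOf (a * (h.1 : G) * a⁻¹) ∣ Nat.card (H j) := by
          rw [hEq', orderOf_conj_eq, Subgroup.orderOf_coe]
          exact orderOf_dvd_natCard _
        have := Nat.eq_one_of_dvd_coprimes (hcop i j hne) h1 h2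
        exact hg1 (orderOf_eq_one_iff.1 this)
      subst hij
      -- b⁻¹ a normalises
      have hconj : (b⁻¹ * a) * (h.1 : G) * (b⁻¹ * a)⁻¹ = (h'.1 : G) := by
        have h2 := congrArg (fun t => b⁻¹ * t * b) hEq'
        simp only [mul_assoc, inv_mul_cancel_left, inv_mul_cancel, mul_one] at h2
        simp only [mul_inv_rev, inv_inv, mul_assoc]
        exact h2
      have hmem : b⁻¹ * a ∈ Subgroup.normalizer (H i : Set G) := by
        by_contra hnot
        have := hTI i (b⁻¹ * a) hnot (h.1 : G) h.1.2 (by rw [hconj]; exact h'.1.2)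
        exact h.2 (Subtype.ext this)
      have hcc : c' = c := by
        rw [← QuotientGroup.out_eq' c, ← QuotientGroup.out_eq' c', ha, hb]
        exact QuotientGroup.eq.2 hmem
      subst hcc
      have hab : a = b := by rw [← ha, ← hb]
      subst hab
      have hh : h = h' := by
        apply Subtype.ext; apply Subtype.ext
        have h2 := congrArg (fun t => a⁻¹ * t * a) hEq'
        simpa [mul_assoc] using h2
      subst hh
      rfl
    · rintro ⟨g, hg1⟩
      obtain ⟨i, x, hx⟩ := hcover g hg1
      obtain ⟨n, hn⟩ := QuotientGroup.mk_out_eq_mul (Subgroup.normalizer (H i : Set G)) x⁻¹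
      generalize hc : ((x⁻¹ : G) : G ⧸ Subgroup.normalizer (H i : Set G)) = c at hn
      have hmem : (Quotient.out c : G)⁻¹ * g * (Quotient.out c : G) ∈ H i := by
        rw [hn]
        have hn' : (n : G)⁻¹ ∈ Subgroup.normalizer (H i : Set G) := inv_mem n.2
        have := (Subgroup.mem_set_normalizer_iff.1 hn' (x * g * x⁻¹)).1 hx
        simpa [mul_assoc] using this
      have hne : (⟨(Quotient.out c : G)⁻¹ * g * (Quotient.out c : G), hmem⟩ : H i) ≠ 1 := by
        intro h1
        apply hg1
        have h2 : (Quotient.out c : G)⁻¹ * g * (Quotient.out c : G) = 1 := congrArg Subtype.val h1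
        have h3 := congrArg (fun t => (Quotient.out c : G) * t * (Quotient.out c : G)⁻¹) h2
        simpa [mul_assoc] using h3
      refine ⟨⟨i, c, ⟨⟨_, hmem⟩, hne⟩⟩, ?_⟩
      apply Subtype.ext
      simp [f, mul_assoc]
  have hcard := Nat.card_congr (Equiv.ofBijective f hf)
  rw [card_ne_eq G 1] at hcard
  rw [← hcard, Nat.card_sigma]
  apply Finset.sum_congr rfl
  intro i _
  simp only [β]
  rw [Nat.card_prod, card_ne_eq, Subgroup.index_eq_card]

end Cfsg.Agent.S1527
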