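import Cfsg.Statements.S1471
import Cfsg.Agent.Lib.Helper99.NormPair

set_option autoImplicit false
open Cfsg

namespace Cfsg.Agent.S1471

/-- Let p and q be odd primes with (p^q − 1)/(p − 1) coprime to p − 1. Then there are at least two elements a of the field with p ^ q elements such that both a and 2 − a have norm 1 to the prime field. -/
theorem result (p q : ℕ) [Fact p.Prime] [Fact q.Prime] (hp : p ≠ 2) (hq : q ≠ 2) (hA : Nat.Coprime ((p ^ q - 1) / (p - 1)) (p - 1)) :
    2 ≤ Set.ncard {a : GaloisField p q | Algebra.norm (ZMod p) a = 1 ∧ Algebra.norm (ZMod p) (2 - a) = 1} := by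
  classical
  have hpp : p.Prime := Fact.out
  have hqp : q.Prime := Fact.out
  obtain rfl | hq3 := eq_or_ne q 3
  · obtain ⟨t, ht0, ht1, ht2⟩ := Cfsg.Agent.Lib.Helper99.NormPair.exists_cubic_elt p hp
    have hsub : ({1, 1 + t} : Set (GaloisField p 3)) ⊆
        {a : GaloisField p 3 | Algebra.norm (ZMod p) a = 1 ∧ Algebra.norm (ZMod p) (2 - a) = 1} := by
      intro a ha
      rcases ha with rfl | rfl
      · refine ⟨map_one _, ?_⟩
        have : (2 : GaloisField p 3) - 1 = 1 := by ring
        rw [this]; exact map_one _
      · refine ⟨ht1, ?_⟩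
        have : (2 : GaloisField p 3) - (1 + t) = 1 - t := by ring
        rw [this]; exact ht2
    have hne : (1 : GaloisField p 3) ≠ 1 + t := by
      intro h
      apply ht0
      have : (1 : GaloisField p 3) + 0 = 1 + t := by rw [add_zero]; exact h
      exact (add_left_cancel this).symm
    calc 2 = ({1, 1 + t} : Set (GaloisField p 3)).ncard := (Set.ncard_pair hne).symm
      _ ≤ _ := Set.ncard_le_ncard hsub (Set.toFinite _)
  · have hq5 : 4 ≤ q := by
      have h2 := hqp.two_le
      by_contra hlt
      push Not at hlt
      have : q = 2 ∨ q = 3 := by omega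
      rcases this with h | h
      · exact hq h
      · exact hq3 h
    have hp3 : 3 ≤ p := by
      have h2 := hpp.two_le
      omega
    haveI : Fintype (GaloisField p q) := Fintype.ofFinite _
    have hcard : Fintype.card (GaloisField p q) = p ^ q := by
      rw [Fintype.card_eq_nat_card, GaloisField.card p q hqp.ne_zero]
    have h2 : (2 : GaloisField p q) ≠ 0 := by
      intro h
      have h' : ((2 : ℕ) : GaloisField p q) = 0 := by exact_mod_cast h
      rw [CharP.cast_eq_zero_iff (GaloisField p q) p] at h'
      exact hp ((Nat.prime_dvd_prime_iff_eq hpp Nat.prime_two).mp h')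
    have hmain := Cfsg.Agent.Lib.Helper99.NormPair.two_le_card (p := p) (F := GaloisField p q)
      h2 hp3 q hq5 hcard
    have hset : {a : GaloisField p q | Algebra.norm (ZMod p) a = 1 ∧
        Algebra.norm (ZMod p) (2 - a) = 1} =
        ↑(Finset.univ.filter (fun a : GaloisField p q =>
          Algebra.norm (ZMod p) a = 1 ∧ Algebra.norm (ZMod p) (2 - a) = 1)) := by
      ext a
      simp
    rw [hset, Set.ncard_coe_finset]
    exact hmain

end Cfsg.Agent.S1471
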