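import Cfsg.Statements.S0432
-- import your own Cfsg.Agent.* helpers here

set_option autoImplicit false
open Cfsg
open scoped Pointwise

namespace Cfsg.Agent.S0432

/-- Coordinate permutations from the code's group preserve the lattice. -/
theorem result (σ : Equiv.Perm Cfsg.GolayPt) (hσ : σ ∈ Cfsg.M24) (x : Cfsg.GolayPt → ℤ) (hx : x ∈ Cfsg.leechLattice) : (fun i => x (σ i)) ∈ Cfsg.leechLattice := by
  let f : (GolayPt → ℤ) →+ (GolayPt → ℤ) :=
    { toFun := fun x i => x (σ i), map_zero' := rfl, map_add' := fun _ _ => rfl }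
  change f x ∈ leechLattice
  have hle : leechLattice ≤ AddSubgroup.comap f leechLattice := by
    unfold leechLattice
    rw [AddSubgroup.closure_le]
    intro y hy
    apply AddSubgroup.subset_closure
    obtain ⟨m, h1, h2, h3⟩ := hy
    refine ⟨m, fun i => h1 (σ i), ?_, fun k => ?_⟩
    · have : ∑ i, f y i = ∑ i, y i := Equiv.sum_comp σ y
      rw [this]; exact h2
    · have hσ' : σ⁻¹ ∈ M24 := inv_mem hσ
      have hstab := MulAction.mem_stabilizer_iff.mp hσ'
      rw [← hstab]
      refine ⟨_, h3 k, ?_⟩
      ext i
      simp only [Finset.mem_filter, Finset.mem_univ, true_and]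
      constructor
      · intro hi
        obtain ⟨j, hj, rfl⟩ := Finset.mem_smul_finset.mp hi
        simp only [Finset.mem_filter, Finset.mem_univ, true_and] at hj
        change y (σ (σ⁻¹ j)) ≡ k [ZMOD 4]
        simpa using hj
      · intro hi
        refine Finset.mem_smul_finset.mpr ⟨σ i, ?_, ?_⟩
        · simp only [Finset.mem_filter, Finset.mem_univ, true_and]; exact hi
        · simp
  exact hle hx

end Cfsg.Agent.S0432
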