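import Cfsg.Statements.S0433
import Cfsg.Agent.Lib.Helper7.GolayFacts
import Cfsg.Agent.Lib.Helper7.LeechSet

set_option autoImplicit false
open Cfsg

namespace Cfsg.Agent.S0433

open Cfsg.Agent.Lib.Helper7

/-- The number of common points of two codewords is even. -/
theorem even_card_inter (v a : GolayPt → ZMod 2) (hv : v ∈ golayCode) (ha : a ∈ golayCode) :
    Even ((support₂ v).filter fun i => a i = 1).card := by
  have h := golay_orth v a hv ha
  rw [Cfsg.Agent.Lib.Helper93.dot_eq_card_inter] at h
  rw [ZMod.natCast_eq_zero_iff_even] at h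
  have e : (support₂ v).filter (fun i => a i = 1) =
      Cfsg.Agent.Lib.Helper93.supp v ∩ Cfsg.Agent.Lib.Helper93.supp a := by
    ext i
    simp only [support₂, Cfsg.Agent.Lib.Helper93.supp, Finset.mem_filter, Finset.mem_univ,
      true_and, Finset.mem_inter]
    rw [zmod2_ne_zero_iff (a i)]
  rw [e]
  exact h

theorem sum_mod4 (v a : GolayPt → ZMod 2) (hv : v ∈ golayCode) (ha : a ∈ golayCode)
    (x : GolayPt → ℤ) (m : ℤ)
    (hx : ∀ i, x i ≡ m + 2 * (if a i = 1 then 1 else 0) [ZMOD 4]) :
    (4 : ℤ) ∣ ∑ i ∈ support₂ v, x i := by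
  have h1 : (4 : ℤ) ∣ ∑ i ∈ support₂ v, (x i - (m + 2 * (if a i = 1 then 1 else 0))) := by
    apply Finset.dvd_sum
    intro i _
    exact (Int.modEq_iff_dvd.mp (hx i).symm)
  rw [Finset.sum_sub_distrib, Finset.sum_add_distrib, Finset.sum_const, ← Finset.mul_sum,
    Finset.sum_boole] at h1
  obtain ⟨r, hr⟩ := golay_doubly_even hv
  obtain ⟨s, hs⟩ := even_card_inter v a hv ha
  rw [hr, hs] at h1
  obtain ⟨t, ht⟩ := h1
  refine ⟨t + r * m + s, ?_⟩
  simp only [nsmul_eq_mul] at ht
  push_cast at ht
  linarith

/-- Sign changes on the support of a codeword preserve the lattice. -/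
theorem result (c : Finset Cfsg.GolayPt) (hc : c ∈ Cfsg.supports (Cfsg.golayCode : Set (Cfsg.GolayPt → ZMod 2))) (x : Cfsg.GolayPt → ℤ) (hx : x ∈ Cfsg.leechLattice) : (fun i => if i ∈ c then -x i else x i) ∈ Cfsg.leechLattice := by
  rw [mem_leechLattice_iff] at hx ⊢
  obtain ⟨v, hv, rfl⟩ := hc
  obtain ⟨m, h1, h2, h3⟩ := hx
  have hvi : ∀ i, i ∈ support₂ v ↔ v i = 1 := by
    intro i
    simp only [support₂, Finset.mem_filter, Finset.mem_univ, true_and]
    exact zmod2_ne_zero_iff (v i)
  obtain ⟨a, ha, hai⟩ := exists_word_of_mem_supports (h3 (m + 2))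
  have hxa : ∀ i, x i ≡ m + 2 * (if a i = 1 then 1 else 0) [ZMOD 4] := by
    intro i
    have e1 := h1 i
    have e2 := hai i
    by_cases h : a i = 1
    · rw [if_pos h]
      have := e2.mp h
      simp only [Int.ModEq] at this ⊢
      omega
    · rw [if_neg h]
      have : ¬ (x i ≡ m + 2 [ZMOD 4]) := fun h' => h (e2.mpr h')
      simp only [Int.ModEq] at this e1 ⊢
      omega
  have h4 := sum_mod4 v a hv ha x m hxa
  refine ⟨m, fun i => ?_, ?_, fun k => ?_⟩
  · have := h1 i
    simp only [Int.ModEq] at this ⊢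
    split_ifs <;> omega
  · have e : ∑ i, (if i ∈ support₂ v then -x i else x i) =
        ∑ i, x i - 2 * ∑ i ∈ support₂ v, x i := by
      have : ∀ i, (if i ∈ support₂ v then -x i else x i) =
          x i - 2 * (if i ∈ support₂ v then x i else 0) := by
        intro i; split_ifs <;> ring
      simp only [this]
      rw [Finset.sum_sub_distrib, ← Finset.mul_sum, Finset.sum_ite_mem, Finset.univ_inter]
    rw [e]
    obtain ⟨t, ht⟩ := h4
    rw [ht]
    simp only [Int.ModEq] at h2 ⊢
    omega
  · by_cases hm : m ≡ 0 [ZMOD 2]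
    · -- all coordinates even: negation does nothing mod 4
      obtain ⟨b, hb, hbi⟩ := exists_word_of_mem_supports (h3 k)
      refine mem_supports_of_word b hb (fun i => ?_)
      rw [hbi i]
      have := h1 i
      simp only [Int.ModEq] at this hm ⊢
      split_ifs <;> omega
    · by_cases hk : k ≡ m [ZMOD 2]
      · obtain ⟨b, hb, hbi⟩ := exists_word_of_mem_supports (h3 k)
        refine mem_supports_of_word (b + v) (golayCode.add_mem hb hv) (fun i => ?_)
        have e1 := h1 i
        have e2 := hbi i
        have e3 := hvi i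
        simp only [Pi.add_apply]
        rcases zmod2_cases (b i) with h | h <;> rcases zmod2_cases (v i) with h' | h' <;>
          simp only [h, h', Int.ModEq] at * <;>
          simp [zmod2_one_add_one] at e2 e3 ⊢ <;> simp [e3] <;> omega
      · refine mem_supports_of_word 0 golayCode.zero_mem (fun i => ?_)
        have e1 := h1 i
        simp only [Int.ModEq, Pi.zero_apply] at *
        constructor
        · intro h; simp at h
        · intro h; split_ifs at h <;> omega

end Cfsg.Agent.S0433
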