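import Cfsg.Statements.S0393
import Mathlib
import Cfsg.Prelude.Def_Spor_Conway
import Cfsg.Agent.Lib.Helper7.GolayFacts
import Cfsg.Agent.Lib.Helper7.LeechSet

set_option autoImplicit false
open Cfsg

namespace Cfsg.Agent.S0393

open Cfsg.Agent.Lib.Helper7

section general

/-- relative index through a homomorphism -/
theorem relIndex_eq_card_map {G A : Type*} [AddCommGroup G] [AddCommGroup A] (f : G →+ A)
    (H K : AddSubgroup G) (hker : ∀ x ∈ K, f x = 0 ↔ x ∈ H) :
    H.relIndex K = Nat.card (K.map f) := by
  have h1 : (f.comp K.subtype).ker = H.addSubgroupOf K := by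
    ext x
    rw [AddMonoidHom.mem_ker, AddSubgroup.mem_addSubgroupOf]
    exact hker x.1 x.2
  have h2 : (f.comp K.subtype).range = K.map f := by
    rw [AddMonoidHom.range_comp, AddSubgroup.range_subtype]
  rw [AddSubgroup.relIndex, ← h1, AddSubgroup.index_ker, h2]

end general

section layers

/-- vectors with all coordinates divisible by `n` -/
def divLat (n : ℤ) : AddSubgroup (GolayPt → ℤ) where
  carrier := {x | ∀ i, n ∣ x i}
  zero_mem' := fun i => dvd_zero n
  add_mem' := fun ha hb i => dvd_add (ha i) (hb i)
  neg_mem' := fun ha i => (dvd_neg.mpr (ha i))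

theorem mem_divLat (n : ℤ) (x : GolayPt → ℤ) : x ∈ divLat n ↔ ∀ i, n ∣ x i := Iff.rfl

/-- reduction modulo `n` -/
def redHom (n : ℕ) : (GolayPt → ℤ) →+ (GolayPt → ZMod n) where
  toFun := fun x i => (x i : ZMod n)
  map_zero' := by ext i; simp
  map_add' := by intro x y; ext i; simp

theorem redHom_apply (n : ℕ) (x : GolayPt → ℤ) (i : GolayPt) : redHom n x i = (x i : ZMod n) := rfl

theorem redHom_eq_zero_iff (n : ℕ) (x : GolayPt → ℤ) : redHom n x = 0 ↔ x ∈ divLat n := by
  rw [mem_divLat, funext_iff]
  apply forall_congr'
  intro i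
  rw [redHom_apply, Pi.zero_apply, ZMod.intCast_zmod_eq_zero_iff_dvd]

theorem redHom_surjective (n : ℕ) [NeZero n] : Function.Surjective (redHom n) := by
  intro y
  refine ⟨fun i => ((y i).val : ℤ), ?_⟩
  ext i
  rw [redHom_apply]
  simp

theorem card_GolayPt : Nat.card GolayPt = 24 := by
  rw [Nat.card_eq_fintype_card]
  rfl

theorem index_divLat_eight : (divLat 8).index = 8 ^ 24 := by
  have h1 : divLat 8 = (redHom 8).ker := by
    ext x
    rw [AddMonoidHom.mem_ker, redHom_eq_zero_iff]
    rfl
  rw [h1, AddSubgroup.index_ker, AddMonoidHom.range_eq_top.mpr (redHom_surjective 8),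
    AddSubgroup.card_top, Nat.card_fun, Nat.card_zmod, card_GolayPt]

theorem divLat_eight_le : divLat 8 ≤ leechLattice := by
  intro x hx
  apply AddSubgroup.subset_closure
  rw [mem_divLat] at hx
  refine Cfsg.Spor.mem_leechSet_of_const_mod_four x 0 0 (by decide) (fun i => ?_) ?_
  · obtain ⟨c, hc⟩ := hx i
    rw [hc, Int.ModEq]
    omega
  · have : (8 : ℤ) ∣ ∑ i, x i := Finset.dvd_sum (fun i _ => hx i)
    obtain ⟨c, hc⟩ := this
    rw [hc, Int.ModEq]
    omega

/-- the even part of the lattice -/
def lamE : AddSubgroup (GolayPt → ℤ) := leechLattice ⊓ divLat 2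

/-- the part of the lattice divisible by 4 -/
def lam4 : AddSubgroup (GolayPt → ℤ) := leechLattice ⊓ divLat 4

theorem lamE_le : lamE ≤ leechLattice := inf_le_left

theorem lam4_le_lamE : lam4 ≤ lamE := by
  intro x hx
  refine ⟨hx.1, fun i => ?_⟩
  exact dvd_trans (by norm_num) (hx.2 i)

theorem divLat_eight_le_lam4 : divLat 8 ≤ lam4 := by
  intro x hx
  refine ⟨divLat_eight_le hx, fun i => ?_⟩
  exact dvd_trans (by norm_num) (hx i)

end layers

section step1

/-- parity of the coordinate at the extra point -/
def parHom : (GolayPt → ℤ) →+ ZMod 2 where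
  toFun := fun x => (x none : ZMod 2)
  map_zero' := by simp
  map_add' := by intro x y; simp

theorem parHom_apply (x : GolayPt → ℤ) : parHom x = (x none : ZMod 2) := rfl

theorem relIndex_lamE : lamE.relIndex leechLattice = 2 := by
  rw [relIndex_eq_card_map parHom lamE leechLattice]
  · have htop : leechLattice.map parHom = ⊤ := by
      rw [eq_top_iff]
      intro y _
      rcases zmod2_cases y with rfl | rfl
      · exact AddSubgroup.zero_mem _
      · refine ⟨Cfsg.Spor.vecV, AddSubgroup.subset_closure Cfsg.Spor.vecV_mem_leechSet, ?_⟩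
        rw [parHom_apply]
        decide
    rw [htop, AddSubgroup.card_top, Nat.card_zmod]
  · intro x hx
    rw [parHom_apply, ZMod.intCast_zmod_eq_zero_iff_dvd]
    constructor
    · intro h2
      refine ⟨hx, fun i => ?_⟩
      rw [mem_leechLattice_iff] at hx
      obtain ⟨m, h1, -, -⟩ := hx
      have e1 := h1 none
      have e2 := h1 i
      rw [Int.ModEq] at e1 e2
      obtain ⟨c, hc⟩ := h2
      push_cast at hc
      omega
    · intro h
      exact_mod_cast h.2 none

end step1

section step2

/-- the vector with `2` on the support of a word -/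
def twoVec (a : GolayPt → ZMod 2) : GolayPt → ℤ := fun i => if a i = 1 then 2 else 0

theorem twoVec_mem (a : GolayPt → ZMod 2) (ha : a ∈ golayCode) : twoVec a ∈ lamE := by
  refine ⟨?_, fun i => ?_⟩
  · show twoVec a ∈ leechLattice
    rw [mem_leechLattice_iff]
    refine ⟨0, fun i => ?_, ?_, fun k => ?_⟩
    · unfold twoVec; split_ifs <;> decide
    · have hsum : ∑ i, twoVec a i = 2 * ((support₂ a).card : ℤ) := by
        unfold twoVec
        rw [Finset.sum_ite, Finset.sum_const_zero, add_zero, Finset.sum_const, nsmul_eq_mul, mul_comm]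
        congr 2
        unfold support₂
        congr 1
        ext i
        simp only [Finset.mem_filter, Finset.mem_univ, true_and]
        exact (zmod2_ne_zero_iff (a i)).symm
      obtain ⟨r, hr⟩ := golay_doubly_even ha
      rw [hsum, hr, Int.ModEq]
      push_cast
      omega
    · by_cases h2 : k ≡ 2 [ZMOD 4]
      · refine mem_supports_of_word a ha (fun i => ?_)
        unfold twoVec
        rw [Int.ModEq] at h2 ⊢
        by_cases h : a i = 1
        · rw [if_pos h]; simp only [h, true_iff]; omega
        · rw [if_neg h]; simp only [h, false_iff]; omega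
      · by_cases h0 : k ≡ 0 [ZMOD 4]
        · refine mem_supports_of_word (a + 1) (golayCode.add_mem ha golay_one_mem) (fun i => ?_)
          unfold twoVec
          rw [Int.ModEq] at h0 ⊢
          rcases zmod2_cases (a i) with h | h
          · simp only [Pi.add_apply, Pi.one_apply, h, zero_add, true_iff]
            rw [if_neg (by decide)]; omega
          · simp only [Pi.add_apply, Pi.one_apply, h, zmod2_one_add_one, if_true]
            constructor
            · intro h'; exact absurd h' (by decide)
            · intro h'; omega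
        · refine mem_supports_of_word 0 golayCode.zero_mem (fun i => ?_)
          unfold twoVec
          rw [Int.ModEq] at h0 h2 ⊢
          simp only [Pi.zero_apply]
          constructor
          · intro h'; exact absurd h' (by decide)
          · intro h'; split_ifs at h' <;> omega
  · unfold twoVec; split_ifs <;> norm_num

theorem redHom4_twoVec_injective (a b : GolayPt → ZMod 2)
    (h : redHom 4 (twoVec a) = redHom 4 (twoVec b)) : a = b := by
  funext i
  have hi := congrFun h i
  rw [redHom_apply, redHom_apply] at hi
  unfold twoVec at hi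
  rcases zmod2_cases (a i) with ha | ha <;> rcases zmod2_cases (b i) with hb | hb <;>
    rw [ha, hb] at hi ⊢ <;> revert hi <;> decide

theorem relIndex_lam4 : lam4.relIndex lamE = 4096 := by
  rw [relIndex_eq_card_map (redHom 4) lam4 lamE]
  · rw [← golay_card]
    symm
    refine Nat.card_congr (Equiv.ofBijective
      (fun a : golayCode => (⟨redHom 4 (twoVec a.1), ⟨twoVec a.1, twoVec_mem a.1 a.2, rfl⟩⟩ :
        lamE.map (redHom 4))) ⟨?_, ?_⟩)
    · intro a b hab
      apply Subtype.ext
      exact redHom4_twoVec_injective a.1 b.1 (congrArg Subtype.val hab)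
    · rintro ⟨y, x, hx, rfl⟩
      have hxL : x ∈ leechLattice := hx.1
      rw [mem_leechLattice_iff] at hxL
      obtain ⟨m, h1, -, h3⟩ := hxL
      obtain ⟨a, ha, hai⟩ := exists_word_of_mem_supports (h3 2)
      refine ⟨⟨a, ha⟩, ?_⟩
      apply Subtype.ext
      show redHom 4 (twoVec a) = redHom 4 x
      funext i
      rw [redHom_apply, redHom_apply]
      have e2 : (2 : ℤ) ∣ x i := hx.2 i
      have e3 := hai i
      rw [Int.ModEq] at e3
      unfold twoVec
      by_cases h : a i = 1
      · rw [if_pos h]
        have := e3.mp h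
        have h4 : x i = 2 + 4 * ((x i - 2) / 4) := by omega
        rw [h4]
        push_cast
        have : (4 : ZMod 4) = 0 := by decide
        rw [this, zero_mul, add_zero]
      · rw [if_neg h]
        have hn : ¬ (x i % 4 = 2 % 4) := fun h' => h (e3.mpr h')
        have h4 : x i = 4 * (x i / 4) := by omega
        rw [h4]
        push_cast
        have : (4 : ZMod 4) = 0 := by decide
        rw [this, zero_mul]
  · intro x hx
    rw [redHom_eq_zero_iff]
    constructor
    · intro h
      exact ⟨hx.1, h⟩
    · intro h
      exact h.2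

end step2

section step3

/-- the vector with `4` on the support of a word -/
def fourVec (t : GolayPt → ZMod 2) : GolayPt → ℤ := fun i => if t i = 1 then 4 else 0

/-- the sum of the coordinates of a binary word -/
def sumHom : (GolayPt → ZMod 2) →+ ZMod 2 where
  toFun := fun t => ∑ i, t i
  map_zero' := by simp
  map_add' := by intro x y; simp [Finset.sum_add_distrib]

theorem sumHom_apply (t : GolayPt → ZMod 2) : sumHom t = ∑ i, t i := rfl

theorem card_ker_sumHom : Nat.card sumHom.ker = 2 ^ 23 := by
  have hsurj : Function.Surjective sumHom := by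
    intro y
    refine ⟨fun i => if i = none then y else 0, ?_⟩
    rw [sumHom_apply, Finset.sum_ite_eq' Finset.univ none (fun _ => y)]
    simp
  have h1 : sumHom.ker.index = 2 := by
    rw [AddSubgroup.index_ker, AddMonoidHom.range_eq_top.mpr hsurj, AddSubgroup.card_top,
      Nat.card_zmod]
  have h2 := AddSubgroup.index_mul_card sumHom.ker
  rw [h1, Nat.card_fun, Nat.card_zmod, card_GolayPt] at h2
  omega

theorem zmod2_sum_eq_card (t : GolayPt → ZMod 2) :
    ∑ i, t i = (((Finset.univ.filter fun i => t i = 1).card : ℕ) : ZMod 2) := by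
  have : ∀ i, t i = if t i = 1 then 1 else 0 := by
    intro i
    rcases zmod2_cases (t i) with h | h <;> simp [h]
  rw [Finset.sum_congr rfl (fun i _ => this i), Finset.sum_boole]

theorem sum_fourVec (t : GolayPt → ZMod 2) :
    ∑ i, fourVec t i = 4 * ((Finset.univ.filter fun i => t i = 1).card : ℤ) := by
  unfold fourVec
  rw [Finset.sum_ite, Finset.sum_const_zero, add_zero, Finset.sum_const, nsmul_eq_mul, mul_comm]

theorem fourVec_mem (t : GolayPt → ZMod 2) (ht : t ∈ sumHom.ker) : fourVec t ∈ lam4 := by
  refine ⟨?_, fun i => ?_⟩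
  · apply AddSubgroup.subset_closure
    refine Cfsg.Spor.mem_leechSet_of_const_mod_four (fourVec t) 0 0 (by decide) (fun i => ?_) ?_
    · unfold fourVec; split_ifs <;> decide
    · rw [AddMonoidHom.mem_ker, sumHom_apply, zmod2_sum_eq_card,
        ZMod.natCast_eq_zero_iff_even] at ht
      obtain ⟨r, hr⟩ := ht
      rw [sum_fourVec, hr, Int.ModEq]
      push_cast
      omega
  · unfold fourVec; split_ifs <;> norm_num

theorem redHom8_fourVec_injective (a b : GolayPt → ZMod 2)
    (h : redHom 8 (fourVec a) = redHom 8 (fourVec b)) : a = b := by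
  funext i
  have hi := congrFun h i
  rw [redHom_apply, redHom_apply] at hi
  unfold fourVec at hi
  rcases zmod2_cases (a i) with ha | ha <;> rcases zmod2_cases (b i) with hb | hb <;>
    rw [ha, hb] at hi ⊢ <;> revert hi <;> decide

theorem relIndex_divLat_eight : (divLat 8).relIndex lam4 = 2 ^ 23 := by
  rw [relIndex_eq_card_map (redHom 8) (divLat 8) lam4]
  · rw [← card_ker_sumHom]
    symm
    refine Nat.card_congr (Equiv.ofBijective
      (fun t : sumHom.ker => (⟨redHom 8 (fourVec t.1), ⟨fourVec t.1, fourVec_mem t.1 t.2, rfl⟩⟩ :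
        lam4.map (redHom 8))) ⟨?_, ?_⟩)
    · intro a b hab
      apply Subtype.ext
      exact redHom8_fourVec_injective a.1 b.1 (congrArg Subtype.val hab)
    · rintro ⟨y, x, hx, rfl⟩
      have hxL : x ∈ leechLattice := hx.1
      have hx4 : ∀ i, (4 : ℤ) ∣ x i := hx.2
      rw [mem_leechLattice_iff] at hxL
      obtain ⟨m, h1, h2, -⟩ := hxL
      -- the word `t i = (x i / 4) mod 2`
      set t : GolayPt → ZMod 2 := fun i => ((x i / 4 : ℤ) : ZMod 2) with ht
      have hm : m % 2 = 0 := by
        have e1 := h1 none
        obtain ⟨c, hc⟩ := hx4 none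
        rw [Int.ModEq] at e1
        omega
      have hsum8 : (8 : ℤ) ∣ ∑ i, x i := by
        rw [Int.ModEq] at h2
        omega
      have hxi : ∀ i, x i = 4 * (x i / 4) := by
        intro i
        obtain ⟨c, hc⟩ := hx4 i
        omega
      have hsum2 : (2 : ℤ) ∣ ∑ i, x i / 4 := by
        have : ∑ i, x i = 4 * ∑ i, x i / 4 := by
          rw [Finset.mul_sum]
          exact Finset.sum_congr rfl (fun i _ => hxi i)
        rw [this] at hsum8
        omega
      have htker : t ∈ sumHom.ker := by
        rw [AddMonoidHom.mem_ker, sumHom_apply]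
        have : ∑ i, t i = ((∑ i, x i / 4 : ℤ) : ZMod 2) := by
          push_cast
          rfl
        rw [this, ZMod.intCast_zmod_eq_zero_iff_dvd]
        exact_mod_cast hsum2
      refine ⟨⟨t, htker⟩, ?_⟩
      apply Subtype.ext
      show redHom 8 (fourVec t) = redHom 8 x
      funext i
      rw [redHom_apply, redHom_apply]
      unfold fourVec
      have hti : t i = ((x i / 4 : ℤ) : ZMod 2) := rfl
      by_cases h : t i = 1
      · rw [if_pos h]
        rw [hti] at h
        have hodd : (x i / 4) % 2 = 1 := by
          have := (ZMod.intCast_eq_intCast_iff_dvd_sub (x i / 4) 1 2).mp (by exact_mod_cast h)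
          omega
        have h8 : x i = 4 + 8 * ((x i - 4) / 8) := by
          have := hxi i
          omega
        rw [h8]
        push_cast
        have : (8 : ZMod 8) = 0 := by decide
        rw [this, zero_mul, add_zero]
      · rw [if_neg h]
        rw [hti] at h
        have heven : (x i / 4) % 2 = 0 := by
          rcases zmod2_cases ((x i / 4 : ℤ) : ZMod 2) with h0 | h1'
          · have := (ZMod.intCast_zmod_eq_zero_iff_dvd (x i / 4) 2).mp h0
            omega
          · exact absurd h1' h
        have h8 : x i = 8 * (x i / 8) := by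
          have := hxi i
          omega
        rw [h8]
        push_cast
        have : (8 : ZMod 8) = 0 := by decide
        rw [this, zero_mul]
  · intro x hx
    rw [redHom_eq_zero_iff]
    rfl

end step3

/-- The lattice has index 2^36 in ℤ^24 (unimodular at scale 1/8). -/
theorem result : Cfsg.leechLattice.index = 2 ^ 36 := by
  have h0 := index_divLat_eight
  have h1 := AddSubgroup.relIndex_mul_index divLat_eight_le
  have h2 := AddSubgroup.relIndex_mul_relIndex (H := divLat 8) (K := lam4) (L := leechLattice)
    divLat_eight_le_lam4 (le_trans lam4_le_lamE lamE_le)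
  have h3 := AddSubgroup.relIndex_mul_relIndex (H := lam4) (K := lamE) (L := leechLattice)
    lam4_le_lamE lamE_le
  rw [relIndex_lam4, relIndex_lamE] at h3
  rw [relIndex_divLat_eight, ← h3] at h2
  rw [← h2, h0] at h1
  have : (2 : ℕ) ^ 23 * (4096 * 2) * Cfsg.leechLattice.index = 2 ^ 23 * (4096 * 2) * 2 ^ 36 := by
    rw [h1]; norm_num
  exact Nat.eq_of_mul_eq_mul_left (by norm_num) this

end Cfsg.Agent.S0393
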