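import Cfsg.Statements.S1567
import Cfsg.Agent.Lib.Helper8.LeechGen

set_option autoImplicit false
open Cfsg

namespace Cfsg.Agent.S1567

open Cfsg.Agent.Lib.Helper8 Cfsg.Agent.Lib.Helper7 Cfsg.Agent.S0393

theorem sub_mem_leech (i : Cfsg.GolayPt) :
    (Pi.single i (4 : ℤ) - Pi.single none (4 : ℤ) : Cfsg.GolayPt → ℤ) ∈ Cfsg.leechLattice := by
  apply AddSubgroup.subset_closure
  refine Cfsg.Spor.mem_leechSet_of_const_mod_four _ 0 0 (by decide) (fun k => ?_) ?_
  · simp only [Pi.sub_apply, Pi.single_apply]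
    split_ifs <;> decide
  · rw [Finset.sum_congr rfl (fun k _ => Pi.sub_apply _ _ k), Finset.sum_sub_distrib,
      Finset.sum_pi_single', Finset.sum_pi_single']
    simp

theorem sqNorm_sub_single : ∀ i : Cfsg.GolayPt, i ≠ none →
    Cfsg.sqNorm (Pi.single i (4 : ℤ) - Pi.single none (4 : ℤ) : Cfsg.GolayPt → ℤ) = 32 := by
  decide +kernel

theorem add_mem_leech :
    (Pi.single none (4 : ℤ) + Pi.single (some 0) (4 : ℤ) : Cfsg.GolayPt → ℤ) ∈ Cfsg.leechLattice := by
  have : (Pi.single none (4 : ℤ) + Pi.single (some 0) (4 : ℤ) : Cfsg.GolayPt → ℤ) = Cfsg.Spor.vecU := by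
    funext k
    simp only [Pi.add_apply, Pi.single_apply, Cfsg.Spor.vecU]
    by_cases h1 : k = none
    · subst h1; simp
    · by_cases h2 : k = some 0
      · subst h2; simp
      · simp [h1, h2]
  rw [this]
  exact AddSubgroup.subset_closure Cfsg.Spor.vecU_mem_leechSet

theorem sqNorm_add_single :
    Cfsg.sqNorm (Pi.single none (4 : ℤ) + Pi.single (some 0) (4 : ℤ) : Cfsg.GolayPt → ℤ) = 32 := by
  decide +kernel

theorem sqNorm_vOdd : Cfsg.sqNorm vOdd = 32 := by decide +kernel

theorem sqNorm_twoVec (a : Cfsg.GolayPt → ZMod 2) :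
    Cfsg.sqNorm (twoVec a) = 4 * ((Cfsg.support₂ a).card : ℤ) := by
  have h : ∀ i, twoVec a i ^ 2 = 2 * twoVec a i := by
    intro i; unfold twoVec; split_ifs <;> norm_num
  unfold Cfsg.sqNorm
  rw [Finset.sum_congr rfl fun i _ => h i, ← Finset.mul_sum, sum_twoVec]
  ring

theorem pc_basis : ∀ b ∈ basisMasks, pc b = 8 := by decide +kernel


/-- The rank-24 lattice is the additive subgroup generated by its 196560 minimal vectors. -/
theorem result : AddSubgroup.closure {x : Cfsg.GolayPt → ℤ | x ∈ Cfsg.leechLattice ∧ Cfsg.sqNorm x = 32} = Cfsg.leechLattice := by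
  apply le_antisymm
  · rw [AddSubgroup.closure_le]
    intro x hx
    exact hx.1
  · apply leech_le_of_gens
    · intro i
      by_cases hi : i = none
      · subst hi
        rw [sub_self]
        exact AddSubgroup.zero_mem _
      · exact AddSubgroup.subset_closure ⟨sub_mem_leech i, sqNorm_sub_single i hi⟩
    · exact AddSubgroup.subset_closure ⟨add_mem_leech, sqNorm_add_single⟩
    · intro b hb
      refine AddSubgroup.subset_closure ⟨lamE_le (twoVec_mem _ (wordOf_basis_mem b hb)), ?_⟩
      rw [sqNorm_twoVec, support₂_wordOf, card_setOf, pc_basis b hb]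
      norm_num
    · exact AddSubgroup.subset_closure ⟨vOdd_mem, sqNorm_vOdd⟩

end Cfsg.Agent.S1567
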