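import Cfsg.Statements.S0396
import Cfsg.Agent.Lib.Helper8.LeechCount

set_option autoImplicit false
open Cfsg

namespace Cfsg.Agent.S0396

open Cfsg.Agent.Lib.Helper8

theorem gO_val : gO 64 = 48576 := by
  unfold gO; rw [theta_one]; decide +kernel

theorem gE_0_val : gE 0 64 = 170064 := by
  unfold gE; rw [theta_zero, theta_two]; decide +kernel

theorem gE_8_val : gE 8 64 = 124928 := by
  unfold gE; rw [theta_zero, theta_two]; decide +kernel

theorem gE_12_val : gE 12 64 = 98304 := by
  unfold gE; rw [theta_zero, theta_two]; decide +kernel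

theorem gE_16_val : gE 16 64 = 65536 := by
  unfold gE; rw [theta_zero, theta_two]; decide +kernel

theorem gE_24_val : gE 24 64 = 0 := by
  unfold gE; rw [theta_zero, theta_two]; decide +kernel


/-- Exactly 398034000 lattice vectors have sum of squares 64. -/
theorem result : {x : Cfsg.GolayPt → ℤ | x ∈ Cfsg.leechLattice ∧ Cfsg.sqNorm x = 64}.ncard = 398034000 := by
  have h := two_mul_leech_count 64 (by norm_num) (by norm_num)
  rw [gO_val, gE_0_val, gE_8_val, gE_12_val, gE_16_val, gE_24_val] at h
  simp only [Nat.cast_ofNat] at h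
  norm_num at h
  omega

end Cfsg.Agent.S0396
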