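import Cfsg.Statements.S5593
import Cfsg.Agent.Lib.Helper8.Co0Orbit

set_option autoImplicit false
open Cfsg

namespace Cfsg.Agent.S5593

open Cfsg.Agent.Lib.Helper8 Cfsg.Agent.Lib.Helper7
open scoped Pointwise


/-- the vector `(5, -3, -3, 1^21)`: `5` at `∞`, `-3` at `0` and `5` -/
def a0 : GolayPt → ℤ := fun j => if j = none then 5 else if j = some 0 ∨ j = some 5 then -3 else 1

theorem a0_mem : a0 ∈ leechLattice := by
  rw [mem_leechLattice_iff]
  exact mem_leechSet_of_test (by decide +kernel)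

def a0L : leechLattice := ⟨a0, a0_mem⟩

/-- the vector `(-3^5, 1^19)` with `-3` at the points `1, 2, 3, 14, 17` -/
def c0 : GolayPt → ℤ :=
  fun j => if j = some 1 ∨ j = some 2 ∨ j = some 3 ∨ j = some 14 ∨ j = some 17 then -3 else 1

theorem xi_a0 : ∀ j, xiFun a0 j = - c0 j := by decide +kernel

theorem c0_mem : c0 ∈ leechLattice := by
  have h := leechLattice.neg_mem (xiFun_mem a0_mem)
  have : - xiFun a0 = c0 := by
    funext j
    rw [Pi.neg_apply, xi_a0, neg_neg]
  rwa [this] at h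

def c0L : leechLattice := ⟨c0, c0_mem⟩

theorem rel_c0_a0 : CoRel c0L a0L := by
  have h1 := coRel_of_mem _ xiPerm_mem a0L
  have h2 := coRel_of_mem _ negPerm_mem (xiPerm a0L)
  have : negPerm (xiPerm a0L) = c0L := by
    apply Subtype.ext
    rw [negPerm_apply]
    funext j
    show - xiFun a0 j = c0 j
    rw [xi_a0, neg_neg]
  rw [this] at h2
  exact (h1.trans h2).symm

/-- shapes of odd vectors of squared norm 64, by the numbers of coordinates `±3` and `±5` -/
theorem odd_shape64 {x : GolayPt → ℤ} (hodd : ∀ j, x j % 2 = 1) (hn : sqNorm x = 64) :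
    (∀ j, x j ^ 2 = 1 ∨ x j ^ 2 = 9 ∨ x j ^ 2 = 25) ∧
    (((Finset.univ.filter fun j => x j ^ 2 = 25).card = 1 ∧
        (Finset.univ.filter fun j => x j ^ 2 = 9).card = 2) ∨
      ((Finset.univ.filter fun j => x j ^ 2 = 25).card = 0 ∧
        (Finset.univ.filter fun j => x j ^ 2 = 9).card = 5)) := by
  classical
  have hge : ∀ j, 1 ≤ x j ^ 2 := by
    intro j
    rcases odd_sq_cases' (x j) (hodd j) with h | h | h | h <;> omega
  have hsum : ∑ j, x j ^ 2 = 64 := hn
  have htot : ∑ j, (x j ^ 2 - 1) = 40 := by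
    rw [Finset.sum_sub_distrib, Finset.sum_const, card_univ_golayPt, hsum]
    norm_num
  have hsmall : ∀ j, x j ^ 2 = 1 ∨ x j ^ 2 = 9 ∨ x j ^ 2 = 25 := by
    intro j
    rcases odd_sq_cases' (x j) (hodd j) with h | h | h | h
    · exact Or.inl h
    · exact Or.inr (Or.inl h)
    · exact Or.inr (Or.inr h)
    · exfalso
      have h1 : x j ^ 2 - 1 ≤ ∑ k, (x k ^ 2 - 1) :=
        Finset.single_le_sum (f := fun k => x k ^ 2 - 1) (fun k _ => by have := hge k; omega)
          (Finset.mem_univ j)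
      omega
  refine ⟨hsmall, ?_⟩
  have hterm : ∀ j, x j ^ 2 - 1 = 8 * (if x j ^ 2 = 9 then 1 else 0) + 24 * (if x j ^ 2 = 25 then 1 else 0) := by
    intro j
    rcases hsmall j with h | h | h <;> rw [h] <;> norm_num
  rw [Finset.sum_congr rfl fun j _ => hterm j, Finset.sum_add_distrib, ← Finset.mul_sum,
    ← Finset.mul_sum, Finset.sum_boole, Finset.sum_boole] at htot
  have h9 : ((Finset.univ.filter fun j => x j ^ 2 = 9).card : ℤ) ≥ 0 := by positivity
  have h25 : ((Finset.univ.filter fun j => x j ^ 2 = 25).card : ℤ) ≥ 0 := by positivity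
  have : ((Finset.univ.filter fun j => x j ^ 2 = 25).card = 1 ∧
        (Finset.univ.filter fun j => x j ^ 2 = 9).card = 2) ∨
      ((Finset.univ.filter fun j => x j ^ 2 = 25).card = 0 ∧
        (Finset.univ.filter fun j => x j ^ 2 = 9).card = 5) := by
    omega
  exact this


theorem inj3 {a b c : GolayPt} (hab : a ≠ b) (hac : a ≠ c) (hbc : b ≠ c) :
    Function.Injective (![a, b, c] : Fin 3 → GolayPt) := by
  intro i j h
  fin_cases i <;> fin_cases j <;> simp_all

/-- the standard 5-tuple -/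
def s5 : Fin 5 → GolayPt := ![some 1, some 2, some 3, some 14, some 17]

theorem s5_inj : Function.Injective s5 := by decide

theorem s5_range : ∀ j : GolayPt, (∃ k : Fin 5, j = s5 k) ↔
    (j = some 1 ∨ j = some 2 ∨ j = some 3 ∨ j = some 14 ∨ j = some 17) := by decide

/-- every odd vector of squared norm 64 is equivalent to `a0` -/
theorem rel_a0_of_odd (v : leechLattice) (hv : sqNorm (v : GolayPt → ℤ) = 64)
    (hodd : ∃ i, (v : GolayPt → ℤ) i % 2 = 1) : CoRel v a0L := by
  classical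
  have hoddall : ∀ j, (v : GolayPt → ℤ) j % 2 = 1 := by
    obtain ⟨m, hm, -, -⟩ := (mem_leechLattice_iff _).1 v.2
    obtain ⟨i, hi⟩ := hodd
    intro j
    have h1 := hm i
    have h2 := hm j
    simp only [Int.ModEq] at h1 h2
    omega
  obtain ⟨v', hrel, h41, hsq⟩ := exists_normalized v hoddall
  refine hrel.trans ?_
  have hoddall' : ∀ j, (v' : GolayPt → ℤ) j % 2 = 1 := fun j => by have := h41 j; omega
  have hv' : sqNorm (v' : GolayPt → ℤ) = 64 := by rw [hrel.sqNorm_eq, hv]
  obtain ⟨y, hy⟩ := v'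
  simp only at h41 hoddall' hv'
  obtain ⟨hsmall, hshape⟩ := odd_shape64 hoddall' hv'
  have hval : ∀ j, y j = if y j ^ 2 = 25 then 5 else if y j ^ 2 = 9 then -3 else 1 := by
    intro j
    rcases hsmall j with h | h | h
    · rw [if_neg (by rw [h]; norm_num), if_neg (by rw [h]; norm_num)]
      exact val_of_sq_one (h41 j) h
    · rw [if_neg (by rw [h]; norm_num), if_pos h]
      exact val_of_sq_nine (h41 j) h
    · rw [if_pos h]
      exact val_of_sq_25 (h41 j) h
  rcases hshape with ⟨h25, h9⟩ | ⟨h25, h9⟩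
  · -- shape (5, -3, -3, 1^21)
    obtain ⟨i0, hi0⟩ := Finset.card_eq_one.1 h25
    obtain ⟨i1, i2, h12, hi12⟩ := Finset.card_eq_two.1 h9
    have m25 : ∀ j, y j ^ 2 = 25 ↔ j = i0 := by
      intro j
      have := Finset.ext_iff.1 hi0 j
      simpa using this
    have m9 : ∀ j, y j ^ 2 = 9 ↔ (j = i1 ∨ j = i2) := by
      intro j
      have := Finset.ext_iff.1 hi12 j
      simpa using this
    have h01 : i0 ≠ i1 := by
      intro h
      have a := (m25 i0).2 rfl
      have b := (m9 i1).2 (Or.inl rfl)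
      rw [h] at a; omega
    have h02 : i0 ≠ i2 := by
      intro h
      have a := (m25 i0).2 rfl
      have b := (m9 i2).2 (Or.inr rfl)
      rw [h] at a; omega
    have hinj1 : Function.Injective (![none, some 0, some 5] : Fin 3 → GolayPt) := by decide
    have hinj2 : Function.Injective (![i0, i1, i2] : Fin 3 → GolayPt) := inj3 h01 h02 h12
    obtain ⟨g, hgM, hgxy⟩ := exists_M24_map_emb (k := 3) (by norm_num) ⟨_, hinj1⟩ ⟨_, hinj2⟩
    have hg0 : g none = i0 := hgxy 0
    have hg1 : g (some 0) = i1 := hgxy 1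
    have hg2 : g (some 5) = i2 := hgxy 2
    have h2 := coRel_of_mem (coordPerm g hgM) (coordPerm_mem g hgM) ⟨y, hy⟩
    have : coordPerm g hgM ⟨y, hy⟩ = a0L := by
      apply Subtype.ext
      rw [coordPerm_apply]
      funext j
      show y (g j) = a0 j
      rw [hval, a0]
      have e1 : (y (g j) ^ 2 = 25) ↔ j = none := by
        rw [m25, ← hg0, g.injective.eq_iff]
      have e2 : (y (g j) ^ 2 = 9) ↔ (j = some 0 ∨ j = some 5) := by
        rw [m9, ← hg1, ← hg2, g.injective.eq_iff, g.injective.eq_iff]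
      simp only [e1, e2]
    rwa [this] at h2
  · -- shape (-3^5, 1^19)
    have hno25 : ∀ j, ¬ y j ^ 2 = 25 := by
      intro j h
      have : j ∈ Finset.univ.filter fun j => y j ^ 2 = 25 := by simp [h]
      rw [Finset.card_eq_zero.1 h25] at this
      simp at this
    let e := (Finset.equivFinOfCardEq h9).symm
    have hinj2 : Function.Injective (fun k : Fin 5 => ((e k : {j // j ∈ Finset.univ.filter fun j => y j ^ 2 = 9}) : GolayPt)) := by
      intro a b hab
      exact e.injective (Subtype.ext hab)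
    obtain ⟨g, hgM, hgxy⟩ := exists_M24_map_emb (k := 5) (by norm_num) ⟨s5, s5_inj⟩ ⟨_, hinj2⟩
    have m9 : ∀ j, y j ^ 2 = 9 ↔ ∃ k : Fin 5, j = g (s5 k) := by
      intro j
      constructor
      · intro h
        have hj : j ∈ Finset.univ.filter fun j => y j ^ 2 = 9 := by simp [h]
        refine ⟨e.symm ⟨j, hj⟩, ?_⟩
        have := hgxy (e.symm ⟨j, hj⟩)
        simp only [Function.Embedding.coeFn_mk, Equiv.apply_symm_apply] at this
        exact this.symm
      · rintro ⟨k, rfl⟩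
        have := hgxy k
        simp only [Function.Embedding.coeFn_mk] at this
        rw [this]
        exact (Finset.mem_filter.1 (e k).2).2
    have h2 := coRel_of_mem (coordPerm g hgM) (coordPerm_mem g hgM) ⟨y, hy⟩
    have : coordPerm g hgM ⟨y, hy⟩ = c0L := by
      apply Subtype.ext
      rw [coordPerm_apply]
      funext j
      show y (g j) = c0 j
      rw [hval, c0, if_neg (hno25 _)]
      have e2 : (y (g j) ^ 2 = 9) ↔ (j = some 1 ∨ j = some 2 ∨ j = some 3 ∨ j = some 14 ∨ j = some 17) := by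
        rw [m9, ← s5_range]
        simp only [g.injective.eq_iff]
      simp only [e2]
    rw [this] at h2
    exact h2.trans rel_c0_a0




/-- If, after a coordinate permutation from `M24`, an even lattice vector is `≡ 2 mod 4` at the
point `2` and `≡ 0 mod 4` at the points `1, 3, ∞`, it is equivalent to a vector with an odd
coordinate. -/
theorem exists_odd_of_pts (v : leechLattice) (g : M24)
    (h2 : (v : GolayPt → ℤ) ((g : Equiv.Perm GolayPt) (some 2)) % 4 = 2)
    (h1 : (v : GolayPt → ℤ) ((g : Equiv.Perm GolayPt) (some 1)) % 4 = 0)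
    (h3 : (v : GolayPt → ℤ) ((g : Equiv.Perm GolayPt) (some 3)) % 4 = 0)
    (h4 : (v : GolayPt → ℤ) ((g : Equiv.Perm GolayPt) none) % 4 = 0) :
    ∃ v' : leechLattice, sqNorm (v' : GolayPt → ℤ) = sqNorm (v : GolayPt → ℤ) ∧
      (∃ i, (v' : GolayPt → ℤ) i % 2 = 1) ∧ CoRel v v' := by
  obtain ⟨x, hx⟩ := v
  simp only at h1 h2 h3 h4
  refine ⟨xiPerm (coordPerm g.1 g.2 ⟨x, hx⟩), ?_, ⟨some 2, ?_⟩,
    (coRel_of_mem _ (coordPerm_mem g.1 g.2) _).trans (coRel_of_mem _ xiPerm_mem _)⟩
  · rw [sqNorm_xiPerm, sqNorm_coordPerm]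
  · rw [xiPerm_apply, coordPerm_apply]
    show xiFun (coordFun g.1 x) (some 2) % 2 = 1
    have htet : tet (some 2) = 0 := by decide
    simp only [xiFun, htet, tetSum_zero_eq, coordFun, sgnT, if_true]
    omega

theorem filter_eq (x : GolayPt → ℤ) :
    (Finset.univ.filter fun i => x i ≡ 2 [ZMOD 4]) = Finset.univ.filter fun i => x i % 4 = 2 := by
  refine Finset.filter_congr fun i _ => ?_
  simp [Int.ModEq]

/-- every even vector of squared norm 64 with a coordinate `≡ 2 mod 4` is equivalent to an odd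
one -/
theorem exists_odd_of_two64 (v : leechLattice) (hv : sqNorm (v : GolayPt → ℤ) = 64)
    (hev : ∀ j, (v : GolayPt → ℤ) j % 2 = 0) (h2 : ∃ i, (v : GolayPt → ℤ) i % 4 = 2) :
    ∃ v' : leechLattice, sqNorm (v' : GolayPt → ℤ) = 64 ∧ (∃ i, (v' : GolayPt → ℤ) i % 2 = 1) ∧
      CoRel v v' := by
  classical
  obtain ⟨i1, hi1⟩ := h2
  obtain ⟨m, -, -, h3⟩ := (mem_leechLattice_iff _).1 v.2
  have hSs := h3 2
  rw [filter_eq] at hSs
  obtain ⟨S, hSdef⟩ : ∃ S : Finset GolayPt,
    S = Finset.univ.filter fun i => (v : GolayPt → ℤ) i % 4 = 2 := ⟨_, rfl⟩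
  rw [← hSdef] at hSs
  have hmemS : ∀ j, j ∈ S ↔ (v : GolayPt → ℤ) j % 4 = 2 := by
    intro j; rw [hSdef, Finset.mem_filter]; simp
  have hne : S.Nonempty := ⟨i1, (hmemS i1).2 hi1⟩
  have hcard := eight_le_card_of_mem_supports hSs hne
  have hge : ∀ j ∈ S, 4 ≤ (v : GolayPt → ℤ) j ^ 2 := by
    intro j hj
    have := (hmemS j).1 hj
    have : (v : GolayPt → ℤ) j ≤ -2 ∨ 2 ≤ (v : GolayPt → ℤ) j := by omega
    rcases this with h | h <;> nlinarith
  have hle : 4 * (S.card : ℤ) ≤ 64 := by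
    have h1 : ∑ _j ∈ S, (4 : ℤ) ≤ ∑ j ∈ S, (v : GolayPt → ℤ) j ^ 2 := Finset.sum_le_sum hge
    have h2 : ∑ j ∈ S, (v : GolayPt → ℤ) j ^ 2 ≤ ∑ j, (v : GolayPt → ℤ) j ^ 2 :=
      Finset.sum_le_sum_of_subset_of_nonneg (Finset.subset_univ S) fun j _ _ => sq_nonneg _
    rw [Finset.sum_const] at h1
    simp only [nsmul_eq_mul] at h1
    have h3' : ∑ j, (v : GolayPt → ℤ) j ^ 2 = 64 := hv
    linarith
  obtain ⟨w, hw, hwS⟩ := hSs
  have hcases : S.card = 8 ∨ S.card = 12 ∨ S.card = 16 := by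
    have := Cfsg.Agent.Lib.Helper26.card_support₂_cases hw
    rw [hwS] at this
    have h16 : S.card ≤ 16 := by
      have : (S.card : ℤ) ≤ 16 := by omega
      exact_mod_cast this
    omega
  have hSs : S ∈ supports (golayCode : Set (GolayPt → ZMod 2)) := ⟨w, hw, hwS⟩
  have hz : ∀ j, j ∉ S → (v : GolayPt → ℤ) j % 4 = 0 := by
    intro j hj
    have h1 := hev j
    have h2 : ¬ (v : GolayPt → ℤ) j % 4 = 2 := fun h => hj ((hmemS j).2 h)
    omega
  rcases hcases with h8 | h12 | h16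
  · have hSoct : S ∈ octads := ⟨hSs, h8⟩
    obtain ⟨g, hg⟩ := exists_M24_smul_octad O0_mem hSoct
    have hin : ∀ k ∈ O0, (g : Equiv.Perm GolayPt) k ∈ S := fun k hk => by
      rw [← hg]; exact Finset.smul_mem_smul_finset hk
    have hout : ∀ k, k ∉ O0 → (g : Equiv.Perm GolayPt) k ∉ S := by
      intro k hk h
      rw [← hg, Finset.mem_smul_finset] at h
      obtain ⟨k', hk', hkk⟩ := h
      exact hk ((g : Equiv.Perm GolayPt).injective hkk ▸ hk')
    obtain ⟨v', e1, e2, e3⟩ := exists_odd_of_pts v g ((hmemS _).1 (hin _ (by decide)))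
      (hz _ (hout _ (by decide))) (hz _ (hout _ (by decide))) (hz _ (hout _ (by decide)))
    exact ⟨v', by rw [e1, hv], e2, e3⟩
  · have hSdod : S ∈ dodecads := ⟨hSs, h12⟩
    obtain ⟨g, hg⟩ := exists_M24_smul_dodecad D0_mem hSdod
    have hin : ∀ k ∈ D0, (g : Equiv.Perm GolayPt) k ∈ S := fun k hk => by
      rw [← hg]; exact Finset.smul_mem_smul_finset hk
    have hout : ∀ k, k ∉ D0 → (g : Equiv.Perm GolayPt) k ∉ S := by
      intro k hk h
      rw [← hg, Finset.mem_smul_finset] at h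
      obtain ⟨k', hk', hkk⟩ := h
      exact hk ((g : Equiv.Perm GolayPt).injective hkk ▸ hk')
    obtain ⟨v', e1, e2, e3⟩ := exists_odd_of_pts v g ((hmemS _).1 (hin _ (by decide)))
      (hz _ (hout _ (by decide))) (hz _ (hout _ (by decide))) (hz _ (hout _ (by decide)))
    exact ⟨v', by rw [e1, hv], e2, e3⟩
  · -- the complement is an octad
    have hcompl : Sᶜ ∈ octads := by
      refine ⟨⟨w + 1, golayCode.add_mem hw golay_one_mem, ?_⟩, ?_⟩
      · rw [← hwS]
        ext j
        simp only [support₂, Finset.mem_filter, Finset.mem_univ, true_and, Finset.mem_compl,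
          Pi.add_apply, Pi.one_apply, not_not]
        rcases zmod2_cases (w j) with h | h <;> simp [h, zmod2_one_add_one]
      · rw [Finset.card_compl, h16]; rfl
    obtain ⟨g, hg⟩ := exists_M24_smul_octad O1_mem hcompl
    have hin : ∀ k ∈ O1, (g : Equiv.Perm GolayPt) k ∉ S := fun k hk => by
      have : (g : Equiv.Perm GolayPt) k ∈ Sᶜ := by
        rw [← hg]; exact Finset.smul_mem_smul_finset hk
      exact Finset.mem_compl.1 this
    have hout : ∀ k, k ∉ O1 → (g : Equiv.Perm GolayPt) k ∈ S := by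
      intro k hk
      by_contra h
      have h' : (g : Equiv.Perm GolayPt) k ∈ g • O1 := by rw [hg]; exact Finset.mem_compl.2 h
      rw [Finset.mem_smul_finset] at h'
      obtain ⟨k', hk', hkk⟩ := h'
      exact hk ((g : Equiv.Perm GolayPt).injective hkk ▸ hk')
    obtain ⟨v', e1, e2, e3⟩ := exists_odd_of_pts v g ((hmemS _).1 (hout _ (by decide)))
      (hz _ (hin _ (by decide))) (hz _ (hin _ (by decide))) (hz _ (hin _ (by decide)))
    exact ⟨v', by rw [e1, hv], e2, e3⟩


theorem sq_of_four' (a : ℤ) (h : a % 4 = 0) : a = 0 ∨ a ^ 2 = 16 ∨ a ^ 2 = 64 ∨ 144 ≤ a ^ 2 := by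
  have : a ≤ -12 ∨ a = -8 ∨ a = -4 ∨ a = 0 ∨ a = 4 ∨ a = 8 ∨ 12 ≤ a := by omega
  rcases this with h | rfl | rfl | rfl | rfl | rfl | h
  · right; right; right; nlinarith
  · right; right; left; norm_num
  · right; left; norm_num
  · left; rfl
  · right; left; norm_num
  · right; right; left; norm_num
  · right; right; right; nlinarith

/-- shapes of vectors of squared norm 64 with all coordinates divisible by 4 -/
theorem four_shape64 {x : GolayPt → ℤ} (h4 : ∀ j, x j % 4 = 0) (hn : sqNorm x = 64) :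
    (∀ j, x j = 0 ∨ x j ^ 2 = 16 ∨ x j ^ 2 = 64) ∧
    (((Finset.univ.filter fun j => x j ^ 2 = 16).card = 4 ∧
        (Finset.univ.filter fun j => x j ^ 2 = 64).card = 0) ∨
      ((Finset.univ.filter fun j => x j ^ 2 = 16).card = 0 ∧
        (Finset.univ.filter fun j => x j ^ 2 = 64).card = 1)) := by
  classical
  have hsum : ∑ j, x j ^ 2 = 64 := hn
  have hsmall : ∀ j, x j = 0 ∨ x j ^ 2 = 16 ∨ x j ^ 2 = 64 := by
    intro j
    rcases sq_of_four' (x j) (h4 j) with h | h | h | h
    · exact Or.inl h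
    · exact Or.inr (Or.inl h)
    · exact Or.inr (Or.inr h)
    · exfalso
      have h1 : x j ^ 2 ≤ ∑ k, x k ^ 2 :=
        Finset.single_le_sum (f := fun k => x k ^ 2) (fun k _ => sq_nonneg _) (Finset.mem_univ j)
      omega
  refine ⟨hsmall, ?_⟩
  have hterm : ∀ j, x j ^ 2 = 16 * (if x j ^ 2 = 16 then 1 else 0) + 64 * (if x j ^ 2 = 64 then 1 else 0) := by
    intro j
    rcases hsmall j with h | h | h <;> rw [h] <;> norm_num
  rw [Finset.sum_congr rfl fun j _ => hterm j, Finset.sum_add_distrib, ← Finset.mul_sum,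
    ← Finset.mul_sum, Finset.sum_boole, Finset.sum_boole] at hsum
  have h9 : ((Finset.univ.filter fun j => x j ^ 2 = 16).card : ℤ) ≥ 0 := Int.natCast_nonneg _
  have h25 : ((Finset.univ.filter fun j => x j ^ 2 = 64).card : ℤ) ≥ 0 := Int.natCast_nonneg _
  have : ((Finset.univ.filter fun j => x j ^ 2 = 16).card = 4 ∧
        (Finset.univ.filter fun j => x j ^ 2 = 64).card = 0) ∨
      ((Finset.univ.filter fun j => x j ^ 2 = 16).card = 0 ∧
        (Finset.univ.filter fun j => x j ^ 2 = 64).card = 1) := by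
    omega
  exact this

theorem even_of_mem {x : GolayPt → ℤ} (hx : x ∈ leechLattice) (h : ∃ i, x i % 2 = 0) :
    ∀ j, x j % 2 = 0 := by
  obtain ⟨m, hm, -, -⟩ := (mem_leechLattice_iff _).1 hx
  obtain ⟨i, hi⟩ := h
  intro j
  have h1 := hm i
  have h2 := hm j
  simp only [Int.ModEq] at h1 h2
  omega

/-- every vector of squared norm 64 with a coordinate `≡ 2 mod 4` is equivalent to `a0` -/
theorem rel_a0_of_two (v : leechLattice) (hv : sqNorm (v : GolayPt → ℤ) = 64)
    (h2 : ∃ i, (v : GolayPt → ℤ) i % 4 = 2) : CoRel v a0L := by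
  have hev : ∀ j, (v : GolayPt → ℤ) j % 2 = 0 := by
    obtain ⟨i, hi⟩ := h2
    exact even_of_mem v.2 ⟨i, by omega⟩
  obtain ⟨v', e1, e2, e3⟩ := exists_odd_of_two64 v hv hev h2
  exact e3.trans (rel_a0_of_odd v' e1 e2)

/-- the standard 4-tuple -/
def s4 : Fin 4 → GolayPt := ![some 2, some 0, some 4, some 5]

theorem s4_inj : Function.Injective s4 := by decide

theorem s4_range : ∀ j : GolayPt, (∃ k : Fin 4, j = s4 k) ↔
    (j = some 2 ∨ j = some 0 ∨ j = some 4 ∨ j = some 5) := by decide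

theorem val_of_sq_16 {a : ℤ} (h : a ^ 2 = 16) : a = 4 ∨ a = -4 := by
  have h' : (a - 4) * (a + 4) = 0 := by ring_nf; omega
  rcases mul_eq_zero.1 h' with h' | h'
  · left; omega
  · right; omega

theorem val_of_sq_64 {a : ℤ} (h : a ^ 2 = 64) : a = 8 ∨ a = -8 := by
  have h' : (a - 8) * (a + 8) = 0 := by ring_nf; omega
  rcases mul_eq_zero.1 h' with h' | h'
  · left; omega
  · right; omega

/-- shape `(±4^4, 0^20)` -/
theorem rel_a0_of_16 (v : leechLattice) (hv : sqNorm (v : GolayPt → ℤ) = 64)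
    (h4 : ∀ j, (v : GolayPt → ℤ) j % 4 = 0) (h16 : ∃ i, (v : GolayPt → ℤ) i ^ 2 = 16) :
    CoRel v a0L := by
  classical
  obtain ⟨y, hy⟩ := v
  simp only at hv h4 h16
  obtain ⟨hsmall, hshape⟩ := four_shape64 h4 hv
  have hc16 : (Finset.univ.filter fun j => y j ^ 2 = 16).card = 4 := by
    rcases hshape with ⟨h, -⟩ | ⟨h, -⟩
    · exact h
    · exfalso
      obtain ⟨i, hi⟩ := h16
      have : i ∈ Finset.univ.filter fun j => y j ^ 2 = 16 := by simp [hi]
      rw [Finset.card_eq_zero.1 h] at this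
      simp at this
  let e := (Finset.equivFinOfCardEq hc16).symm
  have hinj2 : Function.Injective (fun k : Fin 4 => ((e k : {j // j ∈ Finset.univ.filter fun j => y j ^ 2 = 16}) : GolayPt)) := by
    intro a b hab
    exact e.injective (Subtype.ext hab)
  obtain ⟨g, hgM, hgxy⟩ := exists_M24_map_emb (k := 4) (by norm_num) ⟨s4, s4_inj⟩ ⟨_, hinj2⟩
  have m16 : ∀ j, y j ^ 2 = 16 ↔ ∃ k : Fin 4, j = g (s4 k) := by
    intro j
    constructor
    · intro h
      have hj : j ∈ Finset.univ.filter fun j => y j ^ 2 = 16 := by simp [h]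
      refine ⟨e.symm ⟨j, hj⟩, ?_⟩
      have := hgxy (e.symm ⟨j, hj⟩)
      simp only [Function.Embedding.coeFn_mk, Equiv.apply_symm_apply] at this
      exact this.symm
    · rintro ⟨k, rfl⟩
      have := hgxy k
      simp only [Function.Embedding.coeFn_mk] at this
      rw [this]
      exact (Finset.mem_filter.1 (e k).2).2
  have e2 : ∀ j, (y (g j) ^ 2 = 16) ↔ (j = some 2 ∨ j = some 0 ∨ j = some 4 ∨ j = some 5) := by
    intro j
    rw [m16, ← s4_range]
    simp only [g.injective.eq_iff]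
  have hzero : ∀ j, ¬ (j = some 2 ∨ j = some 0 ∨ j = some 4 ∨ j = some 5) → y (g j) = 0 := by
    intro j hj
    rcases hsmall (g j) with h | h | h
    · exact h
    · exact absurd ((e2 j).1 h) hj
    · exfalso
      rcases hshape with ⟨-, h0⟩ | ⟨h0, -⟩
      · have : g j ∈ Finset.univ.filter fun j => y j ^ 2 = 64 := by simp [h]
        rw [Finset.card_eq_zero.1 h0] at this
        simp at this
      · omega
  have y1 : y (g (some 1)) = 0 := hzero _ (by decide)
  have y3 : y (g (some 3)) = 0 := hzero _ (by decide)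
  have y4 : y (g none) = 0 := hzero _ (by decide)
  have y2 : y (g (some 2)) = 4 ∨ y (g (some 2)) = -4 := val_of_sq_16 ((e2 _).2 (Or.inl rfl))
  have hrel : CoRel ⟨y, hy⟩ (xiPerm (coordPerm g hgM ⟨y, hy⟩)) :=
    (coRel_of_mem _ (coordPerm_mem g hgM) _).trans (coRel_of_mem _ xiPerm_mem _)
  refine hrel.trans (rel_a0_of_two _ ?_ ⟨some 2, ?_⟩)
  · rw [sqNorm_xiPerm, sqNorm_coordPerm]; exact hv
  · rw [xiPerm_apply, coordPerm_apply]
    show xiFun (coordFun g y) (some 2) % 4 = 2
    have htet : tet (some 2) = 0 := by decide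
    simp only [xiFun, htet, tetSum_zero_eq, coordFun, sgnT, if_true, y1, y3, y4]
    rcases y2 with h | h <;> rw [h] <;> norm_num

/-- shape `(±8, 0^23)` -/
theorem rel_a0_of_64 (v : leechLattice) (hv : sqNorm (v : GolayPt → ℤ) = 64)
    (h4 : ∀ j, (v : GolayPt → ℤ) j % 4 = 0) (h64 : ∃ i, (v : GolayPt → ℤ) i ^ 2 = 64) :
    CoRel v a0L := by
  classical
  obtain ⟨y, hy⟩ := v
  simp only at hv h4 h64
  obtain ⟨hsmall, hshape⟩ := four_shape64 h4 hv
  obtain ⟨i0, hi0⟩ := h64
  have hc64 : (Finset.univ.filter fun j => y j ^ 2 = 64).card = 1 ∧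
      (Finset.univ.filter fun j => y j ^ 2 = 16).card = 0 := by
    rcases hshape with ⟨-, h⟩ | ⟨h, h'⟩
    · exfalso
      have : i0 ∈ Finset.univ.filter fun j => y j ^ 2 = 64 := by simp [hi0]
      rw [Finset.card_eq_zero.1 h] at this
      simp at this
    · exact ⟨h', h⟩
  obtain ⟨i1, hi1⟩ := Finset.card_eq_one.1 hc64.1
  have m64 : ∀ j, y j ^ 2 = 64 ↔ j = i1 := by
    intro j
    have := Finset.ext_iff.1 hi1 j
    simpa using this
  have hi01 : i1 = i0 := ((m64 i0).1 hi0).symm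
  have hzero : ∀ j, j ≠ i0 → y j = 0 := by
    intro j hj
    rcases hsmall j with h | h | h
    · exact h
    · exfalso
      have : j ∈ Finset.univ.filter fun j => y j ^ 2 = 16 := by simp [h]
      rw [Finset.card_eq_zero.1 hc64.2] at this
      simp at this
    · exact absurd (((m64 j).1 h).trans hi01) hj
  have hinj1 : Function.Injective (![some 2] : Fin 1 → GolayPt) := by decide
  have hinj2 : Function.Injective (![i0] : Fin 1 → GolayPt) := by
    intro a b _; exact Subsingleton.elim a b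
  obtain ⟨g, hgM, hgxy⟩ := exists_M24_map_emb (k := 1) (by norm_num) ⟨_, hinj1⟩ ⟨_, hinj2⟩
  have hg2 : g (some 2) = i0 := hgxy 0
  have hne : ∀ j, j ≠ some 2 → y (g j) = 0 := by
    intro j hj
    apply hzero
    rw [← hg2]
    exact fun h => hj (g.injective h)
  have y1 : y (g (some 1)) = 0 := hne _ (by decide)
  have y3 : y (g (some 3)) = 0 := hne _ (by decide)
  have y4 : y (g none) = 0 := hne _ (by decide)
  have y2 : y (g (some 2)) = 8 ∨ y (g (some 2)) = -8 := by rw [hg2]; exact val_of_sq_64 hi0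
  have hrel : CoRel ⟨y, hy⟩ (xiPerm (coordPerm g hgM ⟨y, hy⟩)) :=
    (coRel_of_mem _ (coordPerm_mem g hgM) _).trans (coRel_of_mem _ xiPerm_mem _)
  have hv' : sqNorm ((xiPerm (coordPerm g hgM ⟨y, hy⟩) : leechLattice) : GolayPt → ℤ) = 64 := by
    rw [sqNorm_xiPerm, sqNorm_coordPerm]; exact hv
  have hval : ((xiPerm (coordPerm g hgM ⟨y, hy⟩) : leechLattice) : GolayPt → ℤ) (some 2) ^ 2 = 16 := by
    rw [xiPerm_apply, coordPerm_apply]
    show xiFun (coordFun g y) (some 2) ^ 2 = 16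
    have htet : tet (some 2) = 0 := by decide
    simp only [xiFun, htet, tetSum_zero_eq, coordFun, sgnT, if_true, y1, y3, y4]
    rcases y2 with h | h <;> rw [h] <;> norm_num
  refine hrel.trans ?_
  generalize xiPerm (coordPerm g hgM ⟨y, hy⟩) = v' at hv' hval
  by_cases h2 : ∃ i, (v' : GolayPt → ℤ) i % 4 = 2
  · exact rel_a0_of_two v' hv' h2
  · have hev : ∀ j, (v' : GolayPt → ℤ) j % 2 = 0 := by
      refine even_of_mem v'.2 ⟨some 2, ?_⟩
      rcases val_of_sq_16 hval with h | h <;> rw [h] <;> norm_num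
    refine rel_a0_of_16 v' hv' (fun j => ?_) ⟨some 2, hval⟩
    have h1 := hev j
    have h3 : ¬ (v' : GolayPt → ℤ) j % 4 = 2 := fun h => h2 ⟨j, h⟩
    omega

/-- `Co0` is transitive on the vectors of squared norm 64 -/
theorem rel_a0 (v : leechLattice) (hv : sqNorm (v : GolayPt → ℤ) = 64) : CoRel v a0L := by
  by_cases hodd : ∃ i, (v : GolayPt → ℤ) i % 2 = 1
  · exact rel_a0_of_odd v hv hodd
  by_cases h2 : ∃ i, (v : GolayPt → ℤ) i % 4 = 2
  · exact rel_a0_of_two v hv h2
  have h4 : ∀ j, (v : GolayPt → ℤ) j % 4 = 0 := by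
    intro j
    have h1 : ¬ (v : GolayPt → ℤ) j % 2 = 1 := fun h => hodd ⟨j, h⟩
    have h3 : ¬ (v : GolayPt → ℤ) j % 4 = 2 := fun h => h2 ⟨j, h⟩
    omega
  obtain ⟨hsmall, hshape⟩ := four_shape64 h4 hv
  have hex : ∃ i, (v : GolayPt → ℤ) i ≠ 0 := by
    by_contra hcon
    push Not at hcon
    have : sqNorm (v : GolayPt → ℤ) = 0 := by
      unfold sqNorm
      apply Finset.sum_eq_zero
      intro j _
      rw [hcon j]; norm_num
    omega
  obtain ⟨i, hi⟩ := hex
  rcases hsmall i with h | h | h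
  · exact absurd h hi
  · exact rel_a0_of_16 v hv h4 ⟨i, h⟩
  · exact rel_a0_of_64 v hv h4 ⟨i, h⟩

/-- The automorphism group of the Leech lattice acts transitively on the congruence classes modulo twice the lattice of the vectors of sum of squares 64 (customary norm 8): for any two such vectors some automorphism carries the first to a vector congruent to the second. -/
theorem result (v w : ↥Cfsg.leechLattice) (hv : Cfsg.sqNorm (v : Cfsg.GolayPt → ℤ) = 64) (hw : Cfsg.sqNorm (w : Cfsg.GolayPt → ℤ) = 64) :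
    ∃ g : ↥Cfsg.Co0, ∃ z ∈ Cfsg.leechLattice, ((g • v : ↥Cfsg.leechLattice) : Cfsg.GolayPt → ℤ) - (w : Cfsg.GolayPt → ℤ) = 2 • z := by
  obtain ⟨g, hg⟩ := (rel_a0 v hv).trans (rel_a0 w hw).symm
  exact ⟨g, 0, leechLattice.zero_mem, by rw [hg]; simp⟩

end Cfsg.Agent.S5593
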