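import Cfsg.Statements.S0400
import Cfsg.Agent.Lib.Helper8.XiAut
import Cfsg.Agent.Lib.Helper8.Co0Basic
import Cfsg.Agent.Lib.Helper7.M24Trans
import Cfsg.Agent.Lib.Helper26.GolayBitsWeights

set_option autoImplicit false
open Cfsg

namespace Cfsg.Agent.S0400

open Cfsg.Agent.Lib.Helper8 Cfsg.Agent.Lib.Helper7


/-- equivalence under the automorphism group -/
def Rel (v w : leechLattice) : Prop := ∃ g : Co0, g • v = w

theorem Rel.refl (v : leechLattice) : Rel v v := ⟨1, one_smul _ _⟩

theorem Rel.symm {v w : leechLattice} (h : Rel v w) : Rel w v := by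
  obtain ⟨g, rfl⟩ := h
  exact ⟨g⁻¹, inv_smul_smul g v⟩

theorem Rel.trans {u v w : leechLattice} (h1 : Rel u v) (h2 : Rel v w) : Rel u w := by
  obtain ⟨g, rfl⟩ := h1
  obtain ⟨g', rfl⟩ := h2
  exact ⟨g' * g, mul_smul g' g u⟩

theorem rel_of_mem (g : Equiv.Perm leechLattice) (hg : g ∈ Co0) (v : leechLattice) : Rel v (g v) :=
  ⟨⟨g, hg⟩, rfl⟩

theorem odd_sq_cases (v : ℤ) (hv : v % 2 = 1) : v ^ 2 = 1 ∨ v ^ 2 = 9 ∨ 25 ≤ v ^ 2 := by
  have : v ≤ -5 ∨ v = -3 ∨ v = -1 ∨ v = 1 ∨ v = 3 ∨ 5 ≤ v := by omega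
  rcases this with h | rfl | rfl | rfl | rfl | h
  · right; right; nlinarith
  · right; left; norm_num
  · left; norm_num
  · left; norm_num
  · right; left; norm_num
  · right; right; nlinarith

theorem card_univ_golay : (Finset.univ : Finset GolayPt).card = 24 := by rfl

/-- an odd vector of squared norm 32 has one coordinate `±3` and all others `±1` -/
theorem odd_shape {x : GolayPt → ℤ} (hodd : ∀ j, x j % 2 = 1) (hn : sqNorm x = 32) :
    ∃ i0, x i0 ^ 2 = 9 ∧ ∀ j, j ≠ i0 → x j ^ 2 = 1 := by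
  classical
  have hge : ∀ j, 1 ≤ x j ^ 2 := by
    intro j
    rcases odd_sq_cases (x j) (hodd j) with h | h | h <;> omega
  have hsum : ∑ j, x j ^ 2 = 32 := hn
  have hex : ∃ i0, x i0 ^ 2 ≠ 1 := by
    by_contra hcon
    rw [not_exists] at hcon
    have : ∑ j, x j ^ 2 = ∑ _j : GolayPt, (1 : ℤ) := by
      refine Finset.sum_congr rfl fun j _ => ?_
      by_contra h'
      exact hcon j h'
    rw [Finset.sum_const, card_univ_golay] at this
    simp only [nsmul_eq_mul, mul_one] at this
    omega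
  obtain ⟨i0, hi0⟩ := hex
  have e1 := Finset.add_sum_erase Finset.univ (fun j => x j ^ 2) (Finset.mem_univ i0)
  have c1 : (Finset.univ.erase i0).card = 23 := by
    rw [Finset.card_erase_of_mem (Finset.mem_univ i0), card_univ_golay]
  have hz : ∑ j ∈ Finset.univ.erase i0, (x j ^ 2 - 1) = 9 - x i0 ^ 2 := by
    rw [Finset.sum_sub_distrib, Finset.sum_const, c1]
    simp only [nsmul_eq_mul, mul_one]
    push_cast
    omega
  have hnn : 0 ≤ ∑ j ∈ Finset.univ.erase i0, (x j ^ 2 - 1) :=
    Finset.sum_nonneg fun j _ => by have := hge j; omega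
  have h9 : x i0 ^ 2 = 9 := by
    rcases odd_sq_cases (x i0) (hodd i0) with h | h | h
    · exact absurd h hi0
    · exact h
    · omega
  refine ⟨i0, h9, fun j hj => ?_⟩
  rw [h9] at hz
  have hz0 : ∑ j ∈ Finset.univ.erase i0, (x j ^ 2 - 1) = 0 := by omega
  rw [Finset.sum_eq_zero_iff_of_nonneg (fun j _ => by have := hge j; omega)] at hz0
  have := hz0 j (Finset.mem_erase.2 ⟨hj, Finset.mem_univ j⟩)
  omega

/-- the minimal vector `(-3, 1^23)` as a lattice element -/
def vOddL : leechLattice := ⟨vOdd, vOdd_mem⟩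

/-- every minimal vector with an odd coordinate is equivalent to `(-3, 1^23)` -/
theorem rel_vOdd_of_odd (v : leechLattice) (hv : sqNorm (v : GolayPt → ℤ) = 32)
    (hodd : ∃ i, (v : GolayPt → ℤ) i % 2 = 1) : Rel v vOddL := by
  classical
  obtain ⟨x, hx⟩ := v
  simp only at hv hodd
  obtain ⟨m, hm, -, h3⟩ := (mem_leechLattice_iff x).1 hx
  have hoddall : ∀ j, x j % 2 = 1 := by
    obtain ⟨i, hi⟩ := hodd
    intro j
    have h1 := hm i
    have h2 := hm j
    simp only [Int.ModEq] at h1 h2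
    omega
  obtain ⟨i0, hi0, hrest⟩ := odd_shape hoddall hv
  -- sign change on the coordinates congruent to 3 mod 4
  obtain ⟨C, hCdef⟩ : ∃ C : Finset GolayPt, C = Finset.univ.filter fun i => x i ≡ 3 [ZMOD 4] :=
    ⟨_, rfl⟩
  have hCs : C ∈ supports (golayCode : Set (GolayPt → ZMod 2)) := by rw [hCdef]; exact h3 3
  have hmemC : ∀ j, j ∈ C ↔ x j % 4 = 3 := by
    intro j
    rw [hCdef, Finset.mem_filter]
    simp [Int.ModEq]
  obtain ⟨y, hy⟩ : ∃ y : GolayPt → ℤ, y = signFun C x := ⟨_, rfl⟩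
  have hy1 : ∀ j, y j % 4 = 1 ∧ y j ^ 2 = x j ^ 2 := by
    intro j
    have := hoddall j
    rw [hy]
    simp only [signFun, hmemC]
    split_ifs with h
    · constructor
      · omega
      · ring
    · constructor
      · omega
      · rfl
  have hyval : ∀ j, y j = if j = i0 then -3 else 1 := by
    intro j
    obtain ⟨ha, hb⟩ := hy1 j
    by_cases hj : j = i0
    · rw [if_pos hj]
      rw [hj] at ha hb
      rw [hi0] at hb
      have : y i0 = 3 ∨ y i0 = -3 := by
        have h' : (y i0 - 3) * (y i0 + 3) = 0 := by ring_nf; omega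
        rcases mul_eq_zero.1 h' with h' | h'
        · left; omega
        · right; omega
      rw [hj]
      rcases this with h | h <;> omega
    · rw [if_neg hj]
      rw [hrest j hj] at hb
      have : y j = 1 ∨ y j = -1 := by
        have h' : (y j - 1) * (y j + 1) = 0 := by ring_nf; omega
        rcases mul_eq_zero.1 h' with h' | h'
        · left; omega
        · right; omega
      rcases this with h | h <;> omega
  -- move `i0` to `none`
  have := M24_isPretransitive
  obtain ⟨g, hg⟩ := MulAction.exists_smul_eq M24 (none : GolayPt) i0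
  have hg' : (g : Equiv.Perm GolayPt) none = i0 := hg
  have h1 := rel_of_mem (signPerm C hCs) (signPerm_mem C hCs) ⟨x, hx⟩
  have h2 := rel_of_mem (coordPerm g.1 g.2) (coordPerm_mem g.1 g.2) (signPerm C hCs ⟨x, hx⟩)
  refine (h1.trans h2).trans ?_
  have : coordPerm g.1 g.2 (signPerm C hCs ⟨x, hx⟩) = vOddL := by
    apply Subtype.ext
    rw [coordPerm_apply, signPerm_apply]
    funext j
    show signFun C x ((g : Equiv.Perm GolayPt) j) = vOdd j
    rw [← hy]
    rw [hyval, vOdd]
    by_cases hj : j = none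
    · rw [hj, hg', if_pos rfl, if_pos rfl]
    · rw [if_neg hj, if_neg]
      intro h
      apply hj
      apply (g : Equiv.Perm GolayPt).injective
      rw [h, hg']
  rw [this]
  exact Rel.refl _

/-- the standard octad, meeting the sextet of `ξ` in `3+1+1+1+1+1` points -/
def O0 : Finset GolayPt :=
  {some 0, some 2, some 13, some 14, some 15, some 16, some 17, some 20}

theorem O0_mem : O0 ∈ octads := by
  rw [Cfsg.Agent.Lib.Helper26.mem_octads_iff]
  decide +kernel

theorem tetSum_zero_eq (y : GolayPt → ℤ) :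
    tetSum y 0 = y (some 1) + y (some 2) + y (some 3) + y none := by
  have h : (Finset.univ.filter fun j : GolayPt => tet j = 0) = {some 1, some 2, some 3, none} := by
    decide
  unfold tetSum
  rw [h, Finset.sum_insert (by decide), Finset.sum_insert (by decide),
    Finset.sum_insert (by decide), Finset.sum_singleton]
  ring

theorem sqNorm_xiPerm (v : leechLattice) :
    sqNorm ((xiPerm v : leechLattice) : GolayPt → ℤ) = sqNorm (v : GolayPt → ℤ) :=
  xiPerm_mem.2 v

theorem sqNorm_coordPerm (σ : Equiv.Perm GolayPt) (hσ : σ ∈ M24) (v : leechLattice) :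
    sqNorm ((coordPerm σ hσ v : leechLattice) : GolayPt → ℤ) = sqNorm (v : GolayPt → ℤ) :=
  (coordPerm_mem σ hσ).2 v

/-- every minimal vector with a coordinate `≡ 2 mod 4` is equivalent to one with an odd coordinate -/
theorem exists_odd_of_two (v : leechLattice) (hv : sqNorm (v : GolayPt → ℤ) = 32)
    (h2 : ∃ i, (v : GolayPt → ℤ) i % 4 = 2) :
    ∃ v' : leechLattice, sqNorm (v' : GolayPt → ℤ) = 32 ∧ (∃ i, (v' : GolayPt → ℤ) i % 2 = 1) ∧
      Rel v v' := by
  classical
  obtain ⟨x, hx⟩ := v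
  simp only at hv h2
  obtain ⟨m, hm, -, h3⟩ := (mem_leechLattice_iff x).1 hx
  obtain ⟨i1, hi1⟩ := h2
  obtain ⟨S, hSdef⟩ : ∃ S : Finset GolayPt, S = Finset.univ.filter fun i => x i ≡ 2 [ZMOD 4] :=
    ⟨_, rfl⟩
  have hSs : S ∈ supports (golayCode : Set (GolayPt → ZMod 2)) := by rw [hSdef]; exact h3 2
  have hmemS : ∀ j, j ∈ S ↔ x j % 4 = 2 := by
    intro j
    rw [hSdef, Finset.mem_filter]
    simp [Int.ModEq]
  have hne : S.Nonempty := ⟨i1, (hmemS i1).2 hi1⟩
  have hcard := eight_le_card_of_mem_supports hSs hne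
  have hge : ∀ j ∈ S, 4 ≤ x j ^ 2 := by
    intro j hj
    have := (hmemS j).1 hj
    have : x j ≤ -2 ∨ 2 ≤ x j := by omega
    rcases this with h | h <;> nlinarith
  have hsplit := Finset.sum_add_sum_compl S (fun j => x j ^ 2)
  have hsum : ∑ j, x j ^ 2 = 32 := hv
  have hA : ∑ j ∈ S, (x j ^ 2 - 4) = ∑ j ∈ S, x j ^ 2 - 4 * (S.card : ℤ) := by
    rw [Finset.sum_sub_distrib, Finset.sum_const]
    simp only [nsmul_eq_mul]; ring
  have hAnn : 0 ≤ ∑ j ∈ S, (x j ^ 2 - 4) :=
    Finset.sum_nonneg fun j hj => by have := hge j hj; omega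
  have hBnn : 0 ≤ ∑ j ∈ Sᶜ, x j ^ 2 := Finset.sum_nonneg fun j _ => sq_nonneg _
  have hcard8 : S.card = 8 := by
    have : (8 : ℤ) ≤ (S.card : ℤ) := by exact_mod_cast hcard
    have h' : (S.card : ℤ) = 8 := by omega
    exact_mod_cast h'
  have hA0 : ∑ j ∈ S, (x j ^ 2 - 4) = 0 := by
    have : (8 : ℤ) ≤ (S.card : ℤ) := by exact_mod_cast hcard
    omega
  have hB0 : ∑ j ∈ Sᶜ, x j ^ 2 = 0 := by
    have : (8 : ℤ) ≤ (S.card : ℤ) := by exact_mod_cast hcard
    omega
  rw [Finset.sum_eq_zero_iff_of_nonneg (fun j hj => by have := hge j hj; omega)] at hA0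
  rw [Finset.sum_eq_zero_iff_of_nonneg (fun j _ => sq_nonneg _)] at hB0
  have hin : ∀ j ∈ S, x j ^ 2 = 4 := fun j hj => by have := hA0 j hj; omega
  have hout : ∀ j, j ∉ S → x j = 0 := by
    intro j hj
    have := hB0 j (Finset.mem_compl.2 hj)
    exact pow_eq_zero_iff (two_ne_zero) |>.1 this
  have hSoct : S ∈ octads := ⟨hSs, hcard8⟩
  obtain ⟨g, hg⟩ := exists_M24_smul_octad O0_mem hSoct
  have hgmem : ∀ k, (g : Equiv.Perm GolayPt) k ∈ S ↔ k ∈ O0 := by
    intro k
    rw [← hg]
    constructor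
    · intro h
      rw [Finset.mem_smul_finset] at h
      obtain ⟨k', hk', hkk⟩ := h
      have : k' = k := (g : Equiv.Perm GolayPt).injective hkk
      rwa [← this]
    · intro h
      exact Finset.smul_mem_smul_finset h
  refine ⟨xiPerm (coordPerm g.1 g.2 ⟨x, hx⟩), ?_, ⟨some 2, ?_⟩,
    (rel_of_mem _ (coordPerm_mem g.1 g.2) _).trans (rel_of_mem _ xiPerm_mem _)⟩
  · rw [sqNorm_xiPerm, sqNorm_coordPerm]; exact hv
  · rw [xiPerm_apply, coordPerm_apply]
    show xiFun (coordFun g.1 x) (some 2) % 2 = 1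
    have htet : tet (some 2) = 0 := by decide
    simp only [xiFun, htet, tetSum_zero_eq, coordFun]
    have e1 : x ((g : Equiv.Perm GolayPt) (some 1)) = 0 :=
      hout _ (fun h => by have := (hgmem _).1 h; revert this; decide)
    have e3 : x ((g : Equiv.Perm GolayPt) (some 3)) = 0 :=
      hout _ (fun h => by have := (hgmem _).1 h; revert this; decide)
    have e4 : x ((g : Equiv.Perm GolayPt) none) = 0 :=
      hout _ (fun h => by have := (hgmem _).1 h; revert this; decide)
    have e2 : x ((g : Equiv.Perm GolayPt) (some 2)) ^ 2 = 4 :=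
      hin _ ((hgmem _).2 (by decide))
    rw [e1, e3, e4]
    have : x ((g : Equiv.Perm GolayPt) (some 2)) = 2 ∨ x ((g : Equiv.Perm GolayPt) (some 2)) = -2 := by
      have h' : (x ((g : Equiv.Perm GolayPt) (some 2)) - 2) * (x ((g : Equiv.Perm GolayPt) (some 2)) + 2) = 0 := by
        ring_nf; omega
      rcases mul_eq_zero.1 h' with h' | h'
      · left; omega
      · right; omega
    rcases this with h | h <;> rw [h] <;> simp [sgnT]

theorem sq_of_four (a : ℤ) (h : a % 4 = 0) : a = 0 ∨ a ^ 2 = 16 ∨ 64 ≤ a ^ 2 := by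
  have : a ≤ -8 ∨ a = -4 ∨ a = 0 ∨ a = 4 ∨ 8 ≤ a := by omega
  rcases this with h | rfl | rfl | rfl | h
  · right; right; nlinarith
  · right; left; norm_num
  · left; rfl
  · right; left; norm_num
  · right; right; nlinarith

/-- every minimal vector with all coordinates divisible by 4 is equivalent to one with a
coordinate `≡ 2 mod 4` -/
theorem exists_two_of_four (v : leechLattice) (hv : sqNorm (v : GolayPt → ℤ) = 32)
    (h4 : ∀ i, (v : GolayPt → ℤ) i % 4 = 0) :
    ∃ v' : leechLattice, sqNorm (v' : GolayPt → ℤ) = 32 ∧ (∃ i, (v' : GolayPt → ℤ) i % 4 = 2) ∧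
      Rel v v' := by
  classical
  obtain ⟨x, hx⟩ := v
  simp only at hv h4
  have hsum : ∑ j, x j ^ 2 = 32 := hv
  have hnn : ∀ j, 0 ≤ x j ^ 2 := fun j => sq_nonneg _
  -- first nonzero coordinate
  have hex1 : ∃ i, x i ≠ 0 := by
    by_contra hcon
    rw [not_exists] at hcon
    have : ∑ j, x j ^ 2 = 0 := Finset.sum_eq_zero fun j _ => by
      have := not_not.1 (hcon j); rw [this]; norm_num
    omega
  obtain ⟨i, hi⟩ := hex1
  have e1 := Finset.add_sum_erase Finset.univ (fun j => x j ^ 2) (Finset.mem_univ i)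
  have hnn1 : 0 ≤ ∑ j ∈ Finset.univ.erase i, x j ^ 2 := Finset.sum_nonneg fun j _ => hnn j
  have hi16 : x i ^ 2 = 16 := by
    rcases sq_of_four (x i) (h4 i) with h | h | h
    · exact absurd h hi
    · exact h
    · omega
  -- second nonzero coordinate
  have hex2 : ∃ j ∈ Finset.univ.erase i, x j ≠ 0 := by
    by_contra hcon
    rw [not_exists] at hcon
    have : ∑ j ∈ Finset.univ.erase i, x j ^ 2 = 0 := Finset.sum_eq_zero fun j hj => by
      have := not_not.1 (fun h => hcon j ⟨hj, h⟩); rw [this]; norm_num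
    omega
  obtain ⟨j, hj, hjne⟩ := hex2
  have e2 := Finset.add_sum_erase (Finset.univ.erase i) (fun k => x k ^ 2) hj
  have hnn2 : 0 ≤ ∑ k ∈ (Finset.univ.erase i).erase j, x k ^ 2 :=
    Finset.sum_nonneg fun k _ => hnn k
  have hj16 : x j ^ 2 = 16 := by
    rcases sq_of_four (x j) (h4 j) with h | h | h
    · exact absurd h hjne
    · exact h
    · omega
  have hrest0 : ∑ k ∈ (Finset.univ.erase i).erase j, x k ^ 2 = 0 := by omega
  rw [Finset.sum_eq_zero_iff_of_nonneg (fun k _ => hnn k)] at hrest0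
  have hij : j ≠ i := Finset.ne_of_mem_erase hj
  have hout : ∀ k, k ≠ i → k ≠ j → x k = 0 := by
    intro k hki hkj
    have := hrest0 k (Finset.mem_erase.2 ⟨hkj, Finset.mem_erase.2 ⟨hki, Finset.mem_univ k⟩⟩)
    exact pow_eq_zero_iff (two_ne_zero) |>.1 this
  -- move (none, some 0) to (i, j)
  have hinj1 : Function.Injective (![none, some 0] : Fin 2 → GolayPt) := by decide
  have hinj2 : Function.Injective (![i, j] : Fin 2 → GolayPt) := by
    intro a b hab
    fin_cases a <;> fin_cases b <;> simp_all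
  obtain ⟨g, hgM, hgxy⟩ := exists_M24_map_emb (k := 2) (by norm_num) ⟨_, hinj1⟩ ⟨_, hinj2⟩
  have hg0 : g none = i := hgxy 0
  have hg1 : g (some 0) = j := hgxy 1
  refine ⟨xiPerm (coordPerm g hgM ⟨x, hx⟩), ?_, ⟨none, ?_⟩,
    (rel_of_mem _ (coordPerm_mem g hgM) _).trans (rel_of_mem _ xiPerm_mem _)⟩
  · rw [sqNorm_xiPerm, sqNorm_coordPerm]; exact hv
  · rw [xiPerm_apply, coordPerm_apply]
    show xiFun (coordFun g x) none % 4 = 2
    have htet : tet none = 0 := by decide
    simp only [xiFun, htet, tetSum_zero_eq, coordFun]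
    have hk : ∀ k : GolayPt, k ≠ none → k ≠ some 0 → x (g k) = 0 := by
      intro k h1 h2
      apply hout
      · intro h; apply h1; apply g.injective; rw [h, hg0]
      · intro h; apply h2; apply g.injective; rw [h, hg1]
    rw [hk (some 1) (by decide) (by decide), hk (some 2) (by decide) (by decide),
      hk (some 3) (by decide) (by decide), hg0]
    have : x i = 4 ∨ x i = -4 := by
      have h' : (x i - 4) * (x i + 4) = 0 := by ring_nf; omega
      rcases mul_eq_zero.1 h' with h' | h'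
      · left; omega
      · right; omega
    rcases this with h | h <;> rw [h] <;> simp [sgnT]


/-- every minimal vector is equivalent to `(-3, 1^23)` -/
theorem rel_vOdd (v : leechLattice) (hv : sqNorm (v : GolayPt → ℤ) = 32) : Rel v vOddL := by
  by_cases h1 : ∃ i, (v : GolayPt → ℤ) i % 2 = 1
  · exact rel_vOdd_of_odd v hv h1
  · rw [not_exists] at h1
    by_cases h2 : ∃ i, (v : GolayPt → ℤ) i % 4 = 2
    · obtain ⟨v', hv', hodd', hrel⟩ := exists_odd_of_two v hv h2
      exact hrel.trans (rel_vOdd_of_odd v' hv' hodd')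
    · rw [not_exists] at h2
      have h4 : ∀ i, (v : GolayPt → ℤ) i % 4 = 0 := by
        intro i
        have := h1 i
        have := h2 i
        omega
      obtain ⟨v', hv', htwo', hrel⟩ := exists_two_of_four v hv h4
      obtain ⟨v'', hv'', hodd'', hrel'⟩ := exists_odd_of_two v' hv' htwo'
      exact (hrel.trans hrel').trans (rel_vOdd_of_odd v'' hv'' hodd'')

/-- Automorphisms of the lattice act transitively on vectors of sum of squares 32. -/
theorem result (v w : Cfsg.leechLattice) (hv : Cfsg.sqNorm (v : Cfsg.GolayPt → ℤ) = 32) (hw : Cfsg.sqNorm (w : Cfsg.GolayPt → ℤ) = 32) : ∃ g : Cfsg.Co0, g • v = w := by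
  exact (rel_vOdd v hv).trans (rel_vOdd w hw).symm

end Cfsg.Agent.S0400
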