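import Cfsg.Statements.S0401
import Cfsg.Agent.Lib.Helper8.Co0Orbit

set_option autoImplicit false
open Cfsg

namespace Cfsg.Agent.S0401

open Cfsg.Agent.Lib.Helper8 Cfsg.Agent.Lib.Helper7
open scoped Pointwise


/-- the vector `(5, 1^23)` -/
def u5 : GolayPt → ℤ := fun j => if j = none then 5 else 1

theorem u5_mem : u5 ∈ leechLattice := by
  rw [mem_leechLattice_iff]
  exact mem_leechSet_of_test (by decide +kernel)

/-- `(5, 1^23)` as a lattice element -/
def u5L : leechLattice := ⟨u5, u5_mem⟩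

/-- the vector `(-3, -3, -3, 1^21)` with `-3` at the points `1, 2, 3` -/
def b0 : GolayPt → ℤ := fun j => if j = some 1 ∨ j = some 2 ∨ j = some 3 then -3 else 1

theorem xi_u5 : ∀ j, xiFun u5 j = - b0 j := by decide +kernel

theorem b0_mem : b0 ∈ leechLattice := by
  have h := leechLattice.neg_mem (xiFun_mem u5_mem)
  have : - xiFun u5 = b0 := by
    funext j
    rw [Pi.neg_apply, xi_u5, neg_neg]
  rwa [this] at h

/-- `(-3, -3, -3, 1^21)` as a lattice element -/
def b0L : leechLattice := ⟨b0, b0_mem⟩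

theorem rel_b0_u5 : CoRel b0L u5L := by
  have h1 := coRel_of_mem _ xiPerm_mem u5L
  have h2 := coRel_of_mem _ negPerm_mem (xiPerm u5L)
  have : negPerm (xiPerm u5L) = b0L := by
    apply Subtype.ext
    rw [negPerm_apply]
    funext j
    show - xiFun u5 j = b0 j
    rw [xi_u5, neg_neg]
  rw [this] at h2
  exact (h1.trans h2).symm

/-- shapes of odd vectors of squared norm 48 -/
theorem odd_shape48 {x : GolayPt → ℤ} (hodd : ∀ j, x j % 2 = 1) (hn : sqNorm x = 48) :
    (∃ i0, x i0 ^ 2 = 25 ∧ ∀ j, j ≠ i0 → x j ^ 2 = 1) ∨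
    (∃ i1 i2 i3, i1 ≠ i2 ∧ i1 ≠ i3 ∧ i2 ≠ i3 ∧ x i1 ^ 2 = 9 ∧ x i2 ^ 2 = 9 ∧ x i3 ^ 2 = 9 ∧
      ∀ j, j ≠ i1 → j ≠ i2 → j ≠ i3 → x j ^ 2 = 1) := by
  classical
  have hge : ∀ j, 1 ≤ x j ^ 2 := by
    intro j
    rcases odd_sq_cases' (x j) (hodd j) with h | h | h | h <;> omega
  have hsum : ∑ j, x j ^ 2 = 48 := hn
  -- general tool: on a finset `s` with `∑ (x²-1) = 0`, all squares are one
  have hzero : ∀ s : Finset GolayPt, ∑ j ∈ s, (x j ^ 2 - 1) = 0 → ∀ j ∈ s, x j ^ 2 = 1 := by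
    intro s hs j hj
    rw [Finset.sum_eq_zero_iff_of_nonneg (fun j _ => by have := hge j; omega)] at hs
    have := hs j hj
    omega
  have hpos : ∀ s : Finset GolayPt, ∑ j ∈ s, (x j ^ 2 - 1) ≠ 0 → ∃ j ∈ s, x j ^ 2 ≠ 1 := by
    intro s hs
    by_contra hcon
    rw [not_exists] at hcon
    apply hs
    refine Finset.sum_eq_zero fun j hj => ?_
    have : x j ^ 2 = 1 := by
      by_contra h'
      exact hcon j ⟨hj, h'⟩
    omega
  have hnn : ∀ s : Finset GolayPt, 0 ≤ ∑ j ∈ s, (x j ^ 2 - 1) := fun s =>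
    Finset.sum_nonneg fun j _ => by have := hge j; omega
  have htot : ∑ j ∈ (Finset.univ : Finset GolayPt), (x j ^ 2 - 1) = 24 := by
    rw [Finset.sum_sub_distrib, Finset.sum_const, card_univ_golayPt, hsum]
    norm_num
  obtain ⟨i1, hi1m, hi1⟩ := hpos Finset.univ (by rw [htot]; norm_num)
  have e1 := Finset.add_sum_erase Finset.univ (fun j => x j ^ 2 - 1) hi1m
  have n1 := hnn (Finset.univ.erase i1)
  rcases odd_sq_cases' (x i1) (hodd i1) with h | h | h | h
  · exact absurd h hi1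
  · -- x i1 ^ 2 = 9
    right
    obtain ⟨i2, hi2m, hi2⟩ := hpos (Finset.univ.erase i1) (by omega)
    have e2 := Finset.add_sum_erase (Finset.univ.erase i1) (fun j => x j ^ 2 - 1) hi2m
    have n2 := hnn ((Finset.univ.erase i1).erase i2)
    have h2 : x i2 ^ 2 = 9 := by
      rcases odd_sq_cases' (x i2) (hodd i2) with h' | h' | h' | h'
      · exact absurd h' hi2
      · exact h'
      · omega
      · omega
    obtain ⟨i3, hi3m, hi3⟩ := hpos ((Finset.univ.erase i1).erase i2) (by omega)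
    have e3 := Finset.add_sum_erase ((Finset.univ.erase i1).erase i2) (fun j => x j ^ 2 - 1) hi3m
    have n3 := hnn (((Finset.univ.erase i1).erase i2).erase i3)
    have h3 : x i3 ^ 2 = 9 := by
      rcases odd_sq_cases' (x i3) (hodd i3) with h' | h' | h' | h'
      · exact absurd h' hi3
      · exact h'
      · omega
      · omega
    have hrest := hzero (((Finset.univ.erase i1).erase i2).erase i3) (by omega)
    refine ⟨i1, i2, i3, (Finset.ne_of_mem_erase hi2m).symm,
      (Finset.ne_of_mem_erase (Finset.mem_of_mem_erase hi3m)).symm,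
      (Finset.ne_of_mem_erase hi3m).symm, h, h2, h3, fun j hj1 hj2 hj3 => ?_⟩
    exact hrest j (Finset.mem_erase.2 ⟨hj3, Finset.mem_erase.2 ⟨hj2, Finset.mem_erase.2
      ⟨hj1, Finset.mem_univ j⟩⟩⟩)
  · -- x i1 ^ 2 = 25
    left
    have hrest := hzero (Finset.univ.erase i1) (by omega)
    exact ⟨i1, h, fun j hj => hrest j (Finset.mem_erase.2 ⟨hj, Finset.mem_univ j⟩)⟩
  · omega

/-- every odd vector of squared norm 48 is equivalent to `(5, 1^23)` -/
theorem rel_u5_of_odd (v : leechLattice) (hv : sqNorm (v : GolayPt → ℤ) = 48)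
    (hodd : ∃ i, (v : GolayPt → ℤ) i % 2 = 1) : CoRel v u5L := by
  classical
  have hoddall : ∀ j, (v : GolayPt → ℤ) j % 2 = 1 := by
    obtain ⟨m, hm, -, -⟩ := (mem_leechLattice_iff _).1 v.2
    obtain ⟨i, hi⟩ := hodd
    intro j
    have h1 := hm i
    have h2 := hm j
    simp only [Int.ModEq] at h1 h2
    omega
  obtain ⟨v', hrel, h41, hsq⟩ := exists_normalized v hoddall
  refine hrel.trans ?_
  have hoddall' : ∀ j, (v' : GolayPt → ℤ) j % 2 = 1 := fun j => by have := h41 j; omega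
  have hv' : sqNorm (v' : GolayPt → ℤ) = 48 := by rw [hrel.sqNorm_eq, hv]
  obtain ⟨y, hy⟩ := v'
  simp only at h41 hoddall' hv'
  rcases odd_shape48 hoddall' hv' with ⟨i0, hi0, hrest⟩ | ⟨i1, i2, i3, h12, h13, h23, e1, e2, e3, hrest⟩
  · -- shape (5, 1^23)
    have hyval : ∀ j, y j = if j = i0 then 5 else 1 := by
      intro j
      by_cases hj : j = i0
      · rw [if_pos hj, hj]; exact val_of_sq_25 (h41 i0) hi0
      · rw [if_neg hj]; exact val_of_sq_one (h41 j) (hrest j hj)
    have := M24_isPretransitive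
    obtain ⟨g, hg⟩ := MulAction.exists_smul_eq M24 (none : GolayPt) i0
    have hg' : (g : Equiv.Perm GolayPt) none = i0 := hg
    have h2 := coRel_of_mem (coordPerm g.1 g.2) (coordPerm_mem g.1 g.2) ⟨y, hy⟩
    have : coordPerm g.1 g.2 ⟨y, hy⟩ = u5L := by
      apply Subtype.ext
      rw [coordPerm_apply]
      funext j
      show y ((g : Equiv.Perm GolayPt) j) = u5 j
      rw [hyval, u5]
      by_cases hj : j = none
      · rw [hj, hg', if_pos rfl, if_pos rfl]
      · rw [if_neg hj, if_neg]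
        intro h
        apply hj
        apply (g : Equiv.Perm GolayPt).injective
        rw [h, hg']
    rwa [this] at h2
  · -- shape (-3^3, 1^21)
    have hyval : ∀ j, y j = if j = i1 ∨ j = i2 ∨ j = i3 then -3 else 1 := by
      intro j
      by_cases hj : j = i1 ∨ j = i2 ∨ j = i3
      · rw [if_pos hj]
        rcases hj with rfl | rfl | rfl
        · exact val_of_sq_nine (h41 _) e1
        · exact val_of_sq_nine (h41 _) e2
        · exact val_of_sq_nine (h41 _) e3
      · rw [if_neg hj]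
        rw [not_or, not_or] at hj
        exact val_of_sq_one (h41 j) (hrest j hj.1 hj.2.1 hj.2.2)
    have hinj1 : Function.Injective (![some 1, some 2, some 3] : Fin 3 → GolayPt) := by decide
    have hinj2 : Function.Injective (![i1, i2, i3] : Fin 3 → GolayPt) := by
      intro a b hab
      fin_cases a <;> fin_cases b <;> simp_all
    obtain ⟨g, hgM, hgxy⟩ := exists_M24_map_emb (k := 3) (by norm_num) ⟨_, hinj1⟩ ⟨_, hinj2⟩
    have hg1 : g (some 1) = i1 := hgxy 0
    have hg2 : g (some 2) = i2 := hgxy 1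
    have hg3 : g (some 3) = i3 := hgxy 2
    have h2 := coRel_of_mem (coordPerm g hgM) (coordPerm_mem g hgM) ⟨y, hy⟩
    have : coordPerm g hgM ⟨y, hy⟩ = b0L := by
      apply Subtype.ext
      rw [coordPerm_apply]
      funext j
      show y (g j) = b0 j
      rw [hyval, b0]
      have hiff : (g j = i1 ∨ g j = i2 ∨ g j = i3) ↔ (j = some 1 ∨ j = some 2 ∨ j = some 3) := by
        rw [← hg1, ← hg2, ← hg3]
        simp only [g.injective.eq_iff]
      simp only [hiff]
    rw [this] at h2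
    exact h2.trans rel_b0_u5



/-- an even lattice vector of squared norm 48 has a coordinate `≡ 2 mod 4` -/
theorem exists_two_of_even48 {x : GolayPt → ℤ} (hx : x ∈ leechLattice) (hn : sqNorm x = 48)
    (hev : ∀ j, x j % 2 = 0) : ∃ i, x i % 4 = 2 := by
  by_contra hcon
  rw [not_exists] at hcon
  have h4 : ∀ j, x j % 4 = 0 := fun j => by have := hev j; have := hcon j; omega
  obtain ⟨m, hm, hs, -⟩ := (mem_leechLattice_iff x).1 hx
  have hm2 : m % 2 = 0 := by
    have := hm none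
    have := hev none
    simp only [Int.ModEq] at *
    omega
  have hz : ∀ j, x j = 4 * (x j / 4) := fun j => by have := h4 j; omega
  have hc : ∀ j, ∃ c : ℤ, (x j / 4) ^ 2 = x j / 4 + 2 * c := by
    intro j
    obtain ⟨c, hc⟩ := Int.even_mul_pred_self (x j / 4)
    exact ⟨c, by linear_combination hc⟩
  choose c hc using hc
  have hS : ∑ j, x j = 4 * ∑ j, x j / 4 := by
    rw [Finset.mul_sum]
    exact Finset.sum_congr rfl fun j _ => hz j
  have hQ : ∑ j, x j ^ 2 = 16 * ∑ j, x j / 4 + 32 * ∑ j, c j := by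
    rw [Finset.mul_sum, Finset.mul_sum, ← Finset.sum_add_distrib]
    refine Finset.sum_congr rfl fun j _ => ?_
    have h1 := hz j
    have h2 := hc j
    calc x j ^ 2 = (4 * (x j / 4)) ^ 2 := by rw [← h1]
      _ = 16 * (x j / 4) ^ 2 := by ring
      _ = 16 * (x j / 4) + 32 * c j := by rw [h2]; ring
  have hn' : ∑ j, x j ^ 2 = 48 := hn
  simp only [Int.ModEq] at hs
  rw [hS] at hs
  rw [hQ] at hn'
  omega

theorem filter_eq (x : GolayPt → ℤ) :
    (Finset.univ.filter fun i => x i ≡ 2 [ZMOD 4]) = Finset.univ.filter fun i => x i % 4 = 2 := by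
  refine Finset.filter_congr fun i _ => ?_
  simp [Int.ModEq]

/-- every even vector of squared norm 48 is equivalent to an odd one -/
theorem exists_odd_of_even48 (v : leechLattice) (hv : sqNorm (v : GolayPt → ℤ) = 48)
    (hev : ∀ j, (v : GolayPt → ℤ) j % 2 = 0) :
    ∃ v' : leechLattice, sqNorm (v' : GolayPt → ℤ) = 48 ∧ (∃ i, (v' : GolayPt → ℤ) i % 2 = 1) ∧
      CoRel v v' := by
  classical
  obtain ⟨i1, hi1⟩ := exists_two_of_even48 v.2 hv hev
  obtain ⟨m, -, -, h3⟩ := (mem_leechLattice_iff _).1 v.2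
  have hSs := h3 2
  rw [filter_eq] at hSs
  obtain ⟨S, hSdef⟩ : ∃ S : Finset GolayPt,
    S = Finset.univ.filter fun i => (v : GolayPt → ℤ) i % 4 = 2 := ⟨_, rfl⟩
  rw [← hSdef] at hSs
  have hne : S.Nonempty := ⟨i1, by rw [hSdef, Finset.mem_filter]; exact ⟨Finset.mem_univ _, hi1⟩⟩
  have hcard := eight_le_card_of_mem_supports hSs hne
  have hge : ∀ j ∈ S, 4 ≤ (v : GolayPt → ℤ) j ^ 2 := by
    intro j hj
    rw [hSdef, Finset.mem_filter] at hj
    have : (v : GolayPt → ℤ) j ≤ -2 ∨ 2 ≤ (v : GolayPt → ℤ) j := by omega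
    rcases this with h | h <;> nlinarith
  have hle : 4 * (S.card : ℤ) ≤ 48 := by
    have h1 : ∑ _j ∈ S, (4 : ℤ) ≤ ∑ j ∈ S, (v : GolayPt → ℤ) j ^ 2 := Finset.sum_le_sum hge
    have h2 : ∑ j ∈ S, (v : GolayPt → ℤ) j ^ 2 ≤ ∑ j, (v : GolayPt → ℤ) j ^ 2 :=
      Finset.sum_le_sum_of_subset_of_nonneg (Finset.subset_univ S) fun j _ _ => sq_nonneg _
    rw [Finset.sum_const] at h1
    simp only [nsmul_eq_mul] at h1
    have h3' : ∑ j, (v : GolayPt → ℤ) j ^ 2 = 48 := hv
    linarith
  have hcases : S.card = 8 ∨ S.card = 12 := by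
    obtain ⟨w, hw, hwS⟩ := hSs
    have := Cfsg.Agent.Lib.Helper26.card_support₂_cases hw
    rw [hwS] at this
    have h12 : S.card ≤ 12 := by
      have : (S.card : ℤ) ≤ 12 := by omega
      exact_mod_cast this
    omega
  rcases hcases with h8 | h12
  · have hSoct : S ∈ octads := ⟨hSs, h8⟩
    obtain ⟨g, hg⟩ := exists_M24_smul_octad O0_mem hSoct
    obtain ⟨v', h1, h2, h3'⟩ := exists_odd_of_smul v hev O0 (by decide) (by decide) (by decide)
      (by decide) g (by rw [hg, hSdef])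
    exact ⟨v', by rw [h1, hv], h2, h3'⟩
  · have hSdod : S ∈ dodecads := ⟨hSs, h12⟩
    obtain ⟨g, hg⟩ := exists_M24_smul_dodecad D0_mem hSdod
    obtain ⟨v', h1, h2, h3'⟩ := exists_odd_of_smul v hev D0 (by decide) (by decide) (by decide)
      (by decide) g (by rw [hg, hSdef])
    exact ⟨v', by rw [h1, hv], h2, h3'⟩


/-- every vector of squared norm 48 is equivalent to `(5, 1^23)` -/
theorem rel_u5 (v : leechLattice) (hv : sqNorm (v : GolayPt → ℤ) = 48) : CoRel v u5L := by
  by_cases h1 : ∃ i, (v : GolayPt → ℤ) i % 2 = 1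
  · exact rel_u5_of_odd v hv h1
  · rw [not_exists] at h1
    have hev : ∀ j, (v : GolayPt → ℤ) j % 2 = 0 := fun j => by have := h1 j; omega
    obtain ⟨v', hv', hodd', hrel⟩ := exists_odd_of_even48 v hv hev
    exact hrel.trans (rel_u5_of_odd v' hv' hodd')

/-- Automorphisms of the lattice act transitively on vectors of sum of squares 48. -/
theorem result (v w : Cfsg.leechLattice) (hv : Cfsg.sqNorm (v : Cfsg.GolayPt → ℤ) = 48) (hw : Cfsg.sqNorm (w : Cfsg.GolayPt → ℤ) = 48) : ∃ g : Cfsg.Co0, g • v = w := by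
  exact (rel_u5 v hv).trans (rel_u5 w hw).symm

end Cfsg.Agent.S0401
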