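import Cfsg.Statements.S0397
import Cfsg.Agent.Lib.Helper8.CrossStab
import Cfsg.Agent.Lib.Helper8.Co0Orbit
import Cfsg.Agent.S5593
import Cfsg.Agent.S0396

set_option autoImplicit false
open Cfsg

namespace Cfsg.Agent.S0397

open Cfsg.Agent.Lib.Helper8 Cfsg.Agent.Lib.Helper7
open scoped Pointwise

/-- the 48 vectors of the standard cross as lattice vectors -/
def T : Set leechLattice := {v | (v : GolayPt → ℤ) ∈ stdCross}

/-- `± 8 e_i` -/
def crossVec (p : GolayPt × Bool) : leechLattice := if p.2 then b8 p.1 else -b8 p.1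

theorem crossVec_val (p : GolayPt × Bool) :
    (crossVec p : GolayPt → ℤ) = Pi.single p.1 (if p.2 then 8 else -8) := by
  obtain ⟨i, b⟩ := p
  cases b
  · show -e8 i = Pi.single i (-8)
    rw [e8_eq_single, Pi.single_neg]
  · show e8 i = Pi.single i 8
    rw [e8_eq_single]

theorem T_eq_range : T = Set.range crossVec := by
  ext v
  constructor
  · rintro ⟨i, s, hs, hv⟩
    rcases hs with rfl | rfl
    · refine ⟨(i, true), Subtype.ext ?_⟩
      rw [crossVec_val, hv]; rfl
    · refine ⟨(i, false), Subtype.ext ?_⟩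
      rw [crossVec_val, hv]; rfl
  · rintro ⟨p, rfl⟩
    show (crossVec p : GolayPt → ℤ) ∈ stdCross
    rw [crossVec_val]
    refine ⟨p.1, _, ?_, rfl⟩
    cases p.2 <;> simp

theorem crossVec_injective : Function.Injective crossVec := by
  rintro ⟨i, b⟩ ⟨j, b'⟩ h
  have h1 := congrArg (fun v : leechLattice => (v : GolayPt → ℤ)) h
  simp only [crossVec_val] at h1
  have h2 := congrFun h1 i
  rw [Pi.single_eq_same] at h2
  have hij : i = j := by
    by_contra hne
    rw [Pi.single_eq_of_ne hne] at h2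
    cases b <;> simp at h2
  subst hij
  rw [Pi.single_eq_same] at h2
  cases b <;> cases b' <;> simp at h2 ⊢

theorem ncard_T : T.ncard = 48 := by
  rw [T_eq_range, ← Set.image_univ, Set.ncard_image_of_injective _ crossVec_injective,
    Set.ncard_univ, Nat.card_prod, Nat.card_eq_fintype_card, Nat.card_eq_fintype_card]
  rfl

theorem T_finite : T.Finite := by
  rw [T_eq_range]
  exact Set.finite_range _

/-- the stabiliser of the standard cross -/
def NN : Subgroup Co0 := MulAction.stabilizer Co0 T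

theorem mem_NN (g : Co0) : g ∈ NN ↔ PresCross g := by
  unfold NN
  rw [MulAction.mem_stabilizer_set_iff_smul_set_subset T_finite, Set.smul_set_subset_iff]
  rfl

theorem card_NN : Nat.card NN = 4096 * 244823040 := by
  rw [← card_presCross]
  exact Nat.card_congr (Equiv.subtypeEquivRight mem_NN)

/-- the base vector `8 e_∞` -/
def v0 : leechLattice := b8 none

theorem v0_mem_T : v0 ∈ T := e8_mem_stdCross none

theorem orbit_NN : MulAction.orbit NN v0 = T := by
  ext u
  constructor
  · rintro ⟨g, rfl⟩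
    exact (mem_NN g.1).1 g.2 v0 v0_mem_T
  · rintro ⟨i, s, hs, hu⟩
    obtain ⟨σ, hσM, hσ⟩ := exists_M24_map_emb (k := 1) (by norm_num)
      ⟨![none], fun a b _ => Subsingleton.elim a b⟩ ⟨![i], fun a b _ => Subsingleton.elim a b⟩
    have hσ0 : σ none = i := hσ 0
    rcases hs with rfl | rfl
    · refine ⟨⟨monoCo0 σ hσM ∅ Cfsg.Spor.empty_mem_supports_golayCode,
        (mem_NN _).2 (presCross_monoCo0 _ _ _ _)⟩, Subtype.ext ?_⟩
      show ((monoCo0 σ hσM ∅ _ • v0 : leechLattice) : GolayPt → ℤ) = _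
      rw [monoCo0_apply, hu]
      show signedPerm σ ∅ (e8 none) = _
      rw [e8_eq_single, signedPerm_single, hσ0]
      simp
    · refine ⟨⟨monoCo0 σ hσM Finset.univ Cfsg.Spor.univ_mem_supports_golayCode,
        (mem_NN _).2 (presCross_monoCo0 _ _ _ _)⟩, Subtype.ext ?_⟩
      show ((monoCo0 σ hσM Finset.univ _ • v0 : leechLattice) : GolayPt → ℤ) = _
      rw [monoCo0_apply, hu]
      show signedPerm σ Finset.univ (e8 none) = _
      rw [e8_eq_single, signedPerm_single, hσ0]
      simp

/-- `4 e_j - 4 e_∞` is a lattice vector -/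
theorem four_sub_mem (j : GolayPt) :
    (fun k => (if k = j then (4 : ℤ) else 0) - (if k = none then 4 else 0)) ∈ leechLattice := by
  apply AddSubgroup.subset_closure
  refine Cfsg.Spor.mem_leechSet_of_const_mod_four _ 0 0 (by decide) (fun k => ?_) ?_
  · simp only [Int.ModEq]
    split_ifs <;> decide
  · rw [Finset.sum_sub_distrib, Finset.sum_ite_eq', Finset.sum_ite_eq']
    simp

theorem e8_sub_mem_L2 (j : GolayPt) : e8 j - e8 none ∈ L2 := by
  rw [mem_L2]
  refine ⟨_, four_sub_mem j, ?_⟩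
  funext k
  simp only [e8, Pi.sub_apply, Pi.smul_apply, nsmul_eq_mul, Nat.cast_ofNat]
  split_ifs <;> norm_num

theorem two_smul_mem_L2 {x : GolayPt → ℤ} (hx : x ∈ leechLattice) : 2 • x ∈ L2 :=
  mem_L2.2 ⟨x, hx, rfl⟩

/-- a norm-64 lattice vector congruent to `8 e_∞` modulo `2Λ` lies in the standard cross -/
theorem mem_stdCross_of_cong {y : GolayPt → ℤ} (hy : y ∈ leechLattice) (hn : sqNorm y = 64)
    (hc : y - e8 none ∈ L2) : y ∈ stdCross := by
  by_contra hcon
  have hne : ∀ j, y ≠ e8 j ∧ y ≠ -e8 j := by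
    intro j
    constructor
    · intro h
      exact hcon ⟨j, 8, Or.inl rfl, by rw [h, e8_eq_single]⟩
    · intro h
      exact hcon ⟨j, -8, Or.inr rfl, by rw [h, e8_eq_single, Pi.single_neg]⟩
  have hzero : ∀ j, y j = 0 := by
    intro j
    have hcj : e8 j - y ∈ L2 := by
      have h1 := L2.sub_mem (e8_sub_mem_L2 j) hc
      have : e8 j - e8 none - (y - e8 none) = e8 j - y := by abel
      rwa [this] at h1
    have := pair_lemma (e8_mem j) hy hcj (by rw [sqNorm_e8]) (by omega) (hne j).1 (hne j).2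
    have hd := this.2.2
    unfold dotInt at hd
    rw [Finset.sum_eq_single j] at hd
    · simp only [e8, if_true] at hd
      omega
    · intro k _ hk
      simp [e8, hk]
    · intro h; exact absurd (Finset.mem_univ j) h
  have : sqNorm y = 0 := by
    unfold sqNorm
    apply Finset.sum_eq_zero
    intro j _
    rw [hzero j]; norm_num
  omega

/-- elements of `Co0` preserve congruence modulo `2Λ` -/
theorem smul_sub_mem_L2 (g : Co0) {a b : leechLattice}
    (h : (a : GolayPt → ℤ) - (b : GolayPt → ℤ) ∈ L2) :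
    ((g • a : leechLattice) : GolayPt → ℤ) - ((g • b : leechLattice) : GolayPt → ℤ) ∈ L2 := by
  obtain ⟨z, hz, hab⟩ := mem_L2.1 h
  have e : a = b + (2 : ℕ) • (⟨z, hz⟩ : leechLattice) := by
    apply Subtype.ext
    show (a : GolayPt → ℤ) = (b : GolayPt → ℤ) + 2 • z
    rw [← hab]; abel
  have e2 : g • a = g • b + (2 : ℕ) • (g • (⟨z, hz⟩ : leechLattice)) := by
    rw [e, co0_smul_add]
    congr 1
    have := map_nsmul (toAddHom g.1 g.2) 2 (⟨z, hz⟩ : leechLattice)
    exact this
  rw [e2]
  show ((g • b : leechLattice) : GolayPt → ℤ) + 2 • ((g • (⟨z, hz⟩ : leechLattice) : leechLattice) : GolayPt → ℤ)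
    - ((g • b : leechLattice) : GolayPt → ℤ) ∈ L2
  rw [add_sub_cancel_left]
  exact two_smul_mem_L2 (g • (⟨z, hz⟩ : leechLattice)).2

theorem T_sub_mem_L2 {u : leechLattice} (hu : u ∈ T) :
    (u : GolayPt → ℤ) - (v0 : GolayPt → ℤ) ∈ L2 := by
  obtain ⟨i, s, hs, hu⟩ := hu
  show (u : GolayPt → ℤ) - e8 none ∈ L2
  rw [hu]
  rcases hs with rfl | rfl
  · rw [← e8_eq_single]
    exact e8_sub_mem_L2 i
  · have h1 := L2.sub_mem (e8_sub_mem_L2 i) (two_smul_mem_L2 (e8_mem i))
    have : e8 i - e8 none - 2 • e8 i = Pi.single i (-8) - e8 none := by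
      rw [Pi.single_neg, ← e8_eq_single i]
      abel
    rwa [this] at h1

theorem stab_le : MulAction.stabilizer Co0 v0 ≤ NN := by
  intro g hg
  rw [MulAction.mem_stabilizer_iff] at hg
  rw [mem_NN]
  intro u hu
  apply mem_stdCross_of_cong (g • u).2
  · rw [co0_sqNorm]
    obtain ⟨i, s, hs, hu⟩ := hu
    rw [hu]
    rcases hs with rfl | rfl
    · rw [← e8_eq_single, sqNorm_e8]
    · have : (Pi.single i (-8) : GolayPt → ℤ) = - e8 i := by rw [e8_eq_single, Pi.single_neg]
      rw [this, sqNorm_neg', sqNorm_e8]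
  · have := smul_sub_mem_L2 g (T_sub_mem_L2 hu)
    rwa [hg] at this

theorem orbit_Co0 : MulAction.orbit Co0 v0 = {v : leechLattice | sqNorm (v : GolayPt → ℤ) = 64} := by
  ext v
  constructor
  · rintro ⟨g, rfl⟩
    show sqNorm ((g • v0 : leechLattice) : GolayPt → ℤ) = 64
    rw [co0_sqNorm]
    exact sqNorm_e8 none
  · intro hv
    have h1 := Cfsg.Agent.S5593.rel_a0 v hv
    have h2 := Cfsg.Agent.S5593.rel_a0 v0 (sqNorm_e8 none)
    obtain ⟨g, hg⟩ := h2.trans h1.symm
    exact ⟨g, hg⟩

theorem ncard_norm64 : {v : leechLattice | sqNorm (v : GolayPt → ℤ) = 64}.ncard = 398034000 := by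
  rw [← Cfsg.Agent.S0396.result, ← Set.ncard_image_of_injective _ Subtype.val_injective]
  congr 1
  ext x
  constructor
  · rintro ⟨v, hv, rfl⟩
    exact ⟨v.2, hv⟩
  · rintro ⟨hx, hn⟩
    exact ⟨⟨x, hx⟩, hn, rfl⟩

/-- The automorphism group of the lattice has order 8315553613086720000 = 2^22·3^9·5^4·7^2·11·13·23. -/
theorem result : Nat.card Cfsg.Co0 = 8315553613086720000 := by
  have h1 := Subgroup.card_mul_index (MulAction.stabilizer Co0 v0)
  rw [MulAction.index_stabilizer, orbit_Co0, ncard_norm64] at h1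
  have key : (MulAction.stabilizer Co0 v0).subgroupOf NN = MulAction.stabilizer NN v0 := by
    ext; rfl
  have h2 := Subgroup.card_mul_index ((MulAction.stabilizer Co0 v0).subgroupOf NN)
  rw [Nat.card_congr (Subgroup.subgroupOfEquivOfLe stab_le).toEquiv, key,
    MulAction.index_stabilizer, orbit_NN, ncard_T, card_NN] at h2
  have h3 : Nat.card (MulAction.stabilizer Co0 v0) = 20891566080 := by
    have : Nat.card (MulAction.stabilizer Co0 v0) * 48 = 20891566080 * 48 := by
      rw [h2]
    exact Nat.eq_of_mul_eq_mul_right (by norm_num) this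
  rw [h3] at h1
  rw [← h1]

end Cfsg.Agent.S0397
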