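import Cfsg.Statements.S0398
import Cfsg.Agent.Lib.Helper8.Co0Basic

set_option autoImplicit false
open Cfsg

namespace Cfsg.Agent.S0398

open Cfsg.Agent.Lib.Helper8

theorem co0_map_neg (g : Equiv.Perm leechLattice) (hg : g ∈ Co0) (v : leechLattice) :
    g (-v) = -g v := (toAddHom g hg).map_neg v

theorem signPerm_b8 (C : Finset GolayPt)
    (hC : C ∈ supports (golayCode : Set (GolayPt → ZMod 2))) (i : GolayPt) (hi : i ∈ C) :
    signPerm C hC (b8 i) = -b8 i := by
  apply Subtype.ext
  funext k
  show signFun C (e8 i) k = -(e8 i k)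
  unfold signFun e8
  by_cases hk : k ∈ C
  · rw [if_pos hk]
  · have hki : k ≠ i := fun h => hk (h ▸ hi)
    rw [if_neg hk, if_neg hki, neg_zero]

/-- a central element maps `8 e_i` to `± 8 e_i` -/
theorem central_b8 (z : Co0) (hz : z ∈ Subgroup.center Co0) (i : GolayPt) :
    z.1 (b8 i) = b8 i ∨ z.1 (b8 i) = -b8 i := by
  set y : GolayPt → ℤ := ((z.1 (b8 i) : leechLattice) : GolayPt → ℤ) with hy
  have h0 : ∀ j, j ≠ i → y j = 0 := by
    intro j hji
    obtain ⟨C, hC, hiC, hjC⟩ := exists_separating i j (Ne.symm hji)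
    have hcomm := Subgroup.mem_center_iff.mp hz ⟨signPerm C hC, signPerm_mem C hC⟩
    have h1 := congrArg (fun g : Co0 => ((g.1 (b8 i) : leechLattice) : GolayPt → ℤ) j) hcomm
    simp only [Subgroup.coe_mul, Equiv.Perm.mul_apply] at h1
    rw [signPerm_b8 C hC i hiC, co0_map_neg z.1 z.2, signPerm_apply] at h1
    simp only [signFun, if_neg hjC] at h1
    change y j = -(y j) at h1
    omega
  have hn : sqNorm y = 64 := by
    rw [hy, z.2.2 (b8 i)]
    exact sqNorm_e8 i
  have hn' : y i ^ 2 = 64 := by
    rw [← hn]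
    unfold sqNorm
    rw [Finset.sum_eq_single i]
    · intro j _ hji
      rw [h0 j hji]; rfl
    · intro h; exact absurd (Finset.mem_univ i) h
  have h8 : y i = 8 ∨ y i = -8 := by
    have : (y i - 8) * (y i + 8) = 0 := by ring_nf; rw [hn']; ring
    rcases mul_eq_zero.mp this with h | h
    · left; omega
    · right; omega
  rcases h8 with h | h
  · left
    apply Subtype.ext
    funext k
    show y k = e8 i k
    unfold e8
    by_cases hk : k = i
    · rw [if_pos hk, hk, h]
    · rw [if_neg hk, h0 k hk]
  · right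
    apply Subtype.ext
    funext k
    show y k = -(e8 i k)
    unfold e8
    by_cases hk : k = i
    · rw [if_pos hk, hk, h]
    · rw [if_neg hk, h0 k hk, neg_zero]

theorem coordPerm_b8 (π : Equiv.Perm GolayPt) (hπ : π ∈ M24) (i j : GolayPt) (hij : π j = i) :
    coordPerm π hπ (b8 i) = b8 j := by
  apply Subtype.ext
  funext k
  show e8 i (π k) = e8 j k
  unfold e8
  by_cases hk : k = j
  · rw [if_pos hk, if_pos (by rw [hk, hij])]
  · rw [if_neg hk, if_neg]
    intro h
    apply hk
    apply π.injective
    rw [h, hij]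

/-- the sign is the same for all coordinates -/
theorem central_sign (z : Co0) (hz : z ∈ Subgroup.center Co0) :
    (∀ j, z.1 (b8 j) = b8 j) ∨ (∀ j, z.1 (b8 j) = -b8 j) := by
  have key : ∀ j, ∃ π ∈ M24, π j = (none : GolayPt) := by
    intro j
    let x : Fin 1 ↪ GolayPt := ⟨![j], fun a b _ => Subsingleton.elim a b⟩
    let y : Fin 1 ↪ GolayPt := ⟨![none], fun a b _ => Subsingleton.elim a b⟩
    obtain ⟨g, hg, hgxy⟩ := Cfsg.Agent.Lib.Helper7.exists_M24_map_emb (k := 1) (by decide) x y
    exact ⟨g, hg, hgxy 0⟩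
  have move : ∀ j, ∀ π (hπ : π ∈ M24), π j = (none : GolayPt) →
      z.1 (b8 j) = coordPerm π hπ (z.1 (b8 none)) := by
    intro j π hπ hj
    have hcomm := Subgroup.mem_center_iff.mp hz ⟨coordPerm π hπ, coordPerm_mem π hπ⟩
    have h1 := congrArg (fun g : Co0 => g.1 (b8 none)) hcomm
    simp only [Subgroup.coe_mul, Equiv.Perm.mul_apply] at h1
    rw [coordPerm_b8 π hπ none j hj] at h1
    exact h1.symm
  rcases central_b8 z hz none with h | h
  · left
    intro j
    obtain ⟨π, hπ, hj⟩ := key j
    rw [move j π hπ hj, h, coordPerm_b8 π hπ none j hj]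
  · right
    intro j
    obtain ⟨π, hπ, hj⟩ := key j
    rw [move j π hπ hj, h, co0_map_neg _ (coordPerm_mem π hπ), coordPerm_b8 π hπ none j hj]

theorem eight_smul_cancel (v w : leechLattice) (h : (8 : ℤ) • v = (8 : ℤ) • w) : v = w := by
  apply Subtype.ext
  funext k
  have h1 := congrArg (fun u : leechLattice => (u : GolayPt → ℤ) k) h
  simp only [AddSubgroup.coe_zsmul, Pi.smul_apply, smul_eq_mul] at h1
  omega

/-- a central element is `1` or `-1` -/
theorem central_cases (z : Co0) (hz : z ∈ Subgroup.center Co0) :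
    (∀ x, z.1 x = x) ∨ (∀ x, z.1 x = -x) := by
  rcases central_sign z hz with h | h
  · left
    intro x
    apply eight_smul_cancel
    have h1 : (8 : ℤ) • z.1 x = toAddHom z.1 z.2 ((8 : ℤ) • x) := by
      rw [map_zsmul]; rfl
    rw [h1, eight_smul_eq_sum x, map_sum]
    apply Finset.sum_congr rfl
    intro j _
    rw [map_zsmul, toAddHom_apply, h j]
  · right
    intro x
    apply eight_smul_cancel
    have h1 : (8 : ℤ) • z.1 x = toAddHom z.1 z.2 ((8 : ℤ) • x) := by
      rw [map_zsmul]; rfl
    rw [h1, smul_neg, eight_smul_eq_sum x, map_sum, ← Finset.sum_neg_distrib]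
    apply Finset.sum_congr rfl
    intro j _
    rw [map_zsmul, toAddHom_apply, h j, smul_neg]

/-- negation as an element of `Co0` -/
def negCo0 : Co0 := ⟨negPerm, negPerm_mem⟩

theorem negCo0_mem_center : negCo0 ∈ Subgroup.center Co0 := by
  rw [Subgroup.mem_center_iff]
  intro g
  apply Subtype.ext
  apply Equiv.ext
  intro v
  show g.1 (negPerm v) = negPerm (g.1 v)
  rw [negPerm_apply, negPerm_apply, co0_map_neg g.1 g.2]

theorem negCo0_ne_one : (1 : Co0) ≠ negCo0 := by
  intro h
  have h1 := congrArg (fun g : Co0 => ((g.1 (b8 none) : leechLattice) : GolayPt → ℤ) none) h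
  simp only [negCo0, negPerm_apply] at h1
  change e8 none none = -(e8 none none) at h1
  unfold e8 at h1
  simp at h1

theorem center_eq : ((Subgroup.center Co0 : Subgroup Co0) : Set Co0) = {1, negCo0} := by
  ext z
  simp only [SetLike.mem_coe, Set.mem_insert_iff, Set.mem_singleton_iff]
  constructor
  · intro hz
    rcases central_cases z hz with h | h
    · left
      apply Subtype.ext
      apply Equiv.ext
      intro v
      exact h v
    · right
      apply Subtype.ext
      apply Equiv.ext
      intro v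
      exact h v
  · rintro (rfl | rfl)
    · exact Subgroup.one_mem _
    · exact negCo0_mem_center

/-- The centre of the lattice's automorphism group has order 2. -/
theorem result : Nat.card (Subgroup.center Cfsg.Co0) = 2 := by
  have h1 : Nat.card (Subgroup.center Co0) =
      Set.ncard ({1, negCo0} : Set Co0) := by
    rw [← center_eq]; rfl
  rw [h1, Set.ncard_pair negCo0_ne_one]

end Cfsg.Agent.S0398
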