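import Mathlib
import Cfsg.Statements.S3958
import Cfsg.Agent.Lib.Helper66.Hopf

set_option autoImplicit false
open Cfsg

namespace Cfsg.Agent.S3958

open Cfsg.Agent.Lib.Helper66

universe u v

/-- Let `σ : Γ →* Q` be a finite stem extension of the finite group `Q` with `Γ` of trivial Schur multiplier. Then `σ` is a Schur covering group of `Q`: for every finite stem extension `τ : Δ →* Q` with `Δ` in the same universe as `Q`, the kernel of `τ` is a homomorphic image of the kernel of `σ`. -/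
theorem result {Q : Type u} [Group Q] [Finite Q] {Γ : Type v} [Group Γ] [Finite Γ] (σ : Γ →* Q) (hσ : Cfsg.IsStemExtension σ) (hΓ : Cfsg.HasCyclicSchurMultiplier Γ 1) (Δ : Type u) [Group Δ] [Finite Δ] (τ : Δ →* Q) (hτ : Cfsg.IsStemExtension τ) : ∃ π : σ.ker →* τ.ker, Function.Surjective π := by
  -- the pullback
  let P : Subgroup (Γ × Δ) := (σ.comp (MonoidHom.fst Γ Δ)).eqLocus (τ.comp (MonoidHom.snd Γ Δ))
  have hP : ∀ a : ↥P, σ (a : Γ × Δ).1 = τ (a : Γ × Δ).2 := fun a => a.2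
  let pr1 : ↥P →* Γ := (MonoidHom.fst Γ Δ).comp P.subtype
  let pr2 : ↥P →* Δ := (MonoidHom.snd Γ Δ).comp P.subtype
  have hpr1 : Function.Surjective pr1 := fun g => by
    obtain ⟨d, hd⟩ := hτ.1 (σ g)
    exact ⟨⟨(g, d), hd.symm⟩, rfl⟩
  have hpr2 : Function.Surjective pr2 := fun d => by
    obtain ⟨g, hg⟩ := hσ.1 (τ d)
    exact ⟨⟨(g, d), hg⟩, rfl⟩
  have hpr1c : pr1.ker ≤ Subgroup.center ↥P := by
    intro a ha
    have ha1 : (a : Γ × Δ).1 = 1 := ha
    have ha2 : (a : Γ × Δ).2 ∈ Subgroup.center Δ := by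
      apply hτ.2.1
      rw [MonoidHom.mem_ker, ← hP a, ha1, map_one]
    rw [Subgroup.mem_center_iff]
    intro b
    apply Subtype.ext
    apply Prod.ext
    · show (b : Γ × Δ).1 * (a : Γ × Δ).1 = (a : Γ × Δ).1 * (b : Γ × Δ).1
      rw [ha1, one_mul, mul_one]
    · show (b : Γ × Δ).2 * (a : Γ × Δ).2 = (a : Γ × Δ).2 * (b : Γ × Δ).2
      exact Subgroup.mem_center_iff.1 ha2 _
  have hbot : commutator ↥P ⊓ pr1.ker = ⊥ :=
    commutator_inf_ker_eq_bot_of_trivial_multiplier hΓ pr1 hpr1 hpr1c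
  -- images of the commutator subgroup
  have hmap1 : (commutator ↥P).map pr1 = commutator Γ := by
    rw [commutator_def, Subgroup.map_commutator, ← MonoidHom.range_eq_map,
      MonoidHom.range_eq_top.2 hpr1, commutator_def]
  have hmap2 : (commutator ↥P).map pr2 = commutator Δ := by
    rw [commutator_def, Subgroup.map_commutator, ← MonoidHom.range_eq_map,
      MonoidHom.range_eq_top.2 hpr2, commutator_def]
  -- the subgroup of P' over ker σ
  let R : Subgroup ↥P := commutator ↥P ⊓ σ.ker.comap pr1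
  let f : ↥R →* ↥σ.ker := (pr1.comp R.subtype).codRestrict σ.ker (fun x => x.2.2)
  have hfinj : Function.Injective f := by
    rw [injective_iff_map_eq_one]
    intro x hx
    have h1 : pr1 (x : ↥P) = 1 := congrArg Subtype.val hx
    have h2 : (x : ↥P) ∈ commutator ↥P ⊓ pr1.ker := ⟨x.2.1, h1⟩
    rw [hbot, Subgroup.mem_bot] at h2
    exact Subtype.ext h2
  have hfsurj : Function.Surjective f := by
    rintro ⟨g, hg⟩
    have hg' : g ∈ (commutator ↥P).map pr1 := by rw [hmap1]; exact hσ.2.2 hg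
    obtain ⟨x, hx, rfl⟩ := hg'
    exact ⟨⟨x, hx, hg⟩, rfl⟩
  let e : ↥R ≃* ↥σ.ker := MulEquiv.ofBijective f ⟨hfinj, hfsurj⟩
  let g : ↥R →* ↥τ.ker := (pr2.comp R.subtype).codRestrict τ.ker (fun x => by
    rw [MonoidHom.mem_ker]
    show τ ((x : ↥P) : Γ × Δ).2 = 1
    rw [← hP]
    exact x.2.2)
  have hgsurj : Function.Surjective g := by
    rintro ⟨k, hk⟩
    have hk' : k ∈ (commutator ↥P).map pr2 := by rw [hmap2]; exact hτ.2.2 hk
    obtain ⟨x, hx, rfl⟩ := hk'
    refine ⟨⟨x, hx, ?_⟩, rfl⟩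
    show pr1 x ∈ σ.ker
    rw [MonoidHom.mem_ker]
    show σ (x : Γ × Δ).1 = 1
    rw [hP]
    exact hk
  exact ⟨g.comp e.symm.toMonoidHom, hgsurj.comp e.symm.surjective⟩

end Cfsg.Agent.S3958
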