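import Cfsg.Statements.S1634
import Cfsg.Agent.Lib.Helper27.McL2Trans

set_option autoImplicit false
open Cfsg

namespace Cfsg.Agent.S1634

open Cfsg.Agent.Lib.Helper7 Cfsg.Agent.Lib.Helper8 Cfsg.Agent.Lib.Helper27 Cfsg.Spor

/-- membership in the configuration, transported to the standard frame -/
theorem mem_iff_std2 {v w : leechLattice} {g : Co0} (hgv : g • v = leechU) (hgw : g • w = wL)
    (x : leechLattice) :
    (sqNorm (x : GolayPt → ℤ) = 32 ∧ dotInt (v : GolayPt → ℤ) (x : GolayPt → ℤ) = 0 ∧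
      dotInt (w : GolayPt → ℤ) (x : GolayPt → ℤ) = 16) ↔
      ((g • x : leechLattice) : GolayPt → ℤ) ∈ F2 := by
  have e1 : dotInt vecU ((g • x : leechLattice) : GolayPt → ℤ)
      = dotInt (v : GolayPt → ℤ) (x : GolayPt → ℤ) := by
    rw [← co0_dotInt g v x, hgv]; rfl
  have e2 : dotInt wF ((g • x : leechLattice) : GolayPt → ℤ)
      = dotInt (w : GolayPt → ℤ) (x : GolayPt → ℤ) := by
    rw [← co0_dotInt g w x, hgw]; rfl
  unfold F2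
  rw [Set.mem_setOf_eq, e1, e2, co0_sqNorm]
  constructor
  · rintro ⟨h1, h2, h3⟩
    exact ⟨(g • x).2, h1, h2, h3⟩
  · rintro ⟨-, h1, h2, h3⟩
    exact ⟨h1, h2, h3⟩

theorem ncard_std2 : {y : leechLattice | (y : GolayPt → ℤ) ∈ F2}.ncard = 2025 := by
  rw [← ncard_F2, ← Set.ncard_image_of_injective _ Subtype.val_injective]
  congr 1
  ext x
  simp only [Set.mem_image, Set.mem_setOf_eq]
  constructor
  · rintro ⟨y, hy, rfl⟩
    exact hy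
  · intro hx
    exact ⟨⟨x, hx.1⟩, hx, rfl⟩

theorem ncard_lvl (d : ℤ) : {y : leechLattice | (y : GolayPt → ℤ) ∈ H2 d}.ncard = (H2 d).ncard := by
  rw [← Set.ncard_image_of_injective _ Subtype.val_injective]
  congr 1
  ext x
  simp only [Set.mem_image, Set.mem_setOf_eq]
  constructor
  · rintro ⟨y, hy, rfl⟩
    exact hy
  · intro hx
    exact ⟨⟨x, hx.1.1⟩, hx, rfl⟩

/-- the stabiliser of the standard triple preserves the level sets -/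
theorem smul_mem_H2 {k : Co0} (h1 : k • leechU = leechU) (h2 : k • wL = wL) (h3 : k • yU = yU)
    {d : ℤ} {z : leechLattice} (hz : (z : GolayPt → ℤ) ∈ H2 d) :
    ((k • z : leechLattice) : GolayPt → ℤ) ∈ H2 d := by
  obtain ⟨⟨-, hn, hv, hw⟩, hd⟩ := hz
  refine ⟨⟨(k • z).2, by rw [co0_sqNorm]; exact hn, ?_, ?_⟩, ?_⟩
  · have := co0_dotInt k leechU z
    rw [h1, leechU_coe] at this
    rw [this]; exact hv
  · have := co0_dotInt k wL z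
    rw [h2, wL_coe] at this
    rw [this]; exact hw
  · have := co0_dotInt k yU z
    rw [h3] at this
    rw [this]; exact hd

/-- the orbit of the triple stabiliser through a point of a level set -/
theorem orbit_eq {v w x : leechLattice} {g : Co0} (hgv : g • v = leechU) (hgw : g • w = wL)
    (hgx : g • x = yU) (d : ℤ)
    (T : ∀ y y' : leechLattice, (y : GolayPt → ℤ) ∈ H2 d → (y' : GolayPt → ℤ) ∈ H2 d →
      ∃ k : Co0, k • leechU = leechU ∧ k • wL = wL ∧ k • yU = yU ∧ k • y = y')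
    (z : leechLattice) (hz : (z : GolayPt → ℤ) ∈ H2 d) :
    MulAction.orbit ↥(MulAction.stabilizer ↥Co0 v ⊓ MulAction.stabilizer ↥Co0 w ⊓
      MulAction.stabilizer ↥Co0 x) (g⁻¹ • z)
      = (fun y : leechLattice => g⁻¹ • y) '' {y : leechLattice | (y : GolayPt → ℤ) ∈ H2 d} := by
  ext a
  rw [MulAction.mem_orbit_iff]
  constructor
  · rintro ⟨⟨h, hh⟩, rfl⟩
    rw [Subgroup.mem_inf, Subgroup.mem_inf, MulAction.mem_stabilizer_iff,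
      MulAction.mem_stabilizer_iff, MulAction.mem_stabilizer_iff] at hh
    obtain ⟨⟨hv, hw⟩, hx⟩ := hh
    refine ⟨(g * h * g⁻¹) • z, ?_, ?_⟩
    · apply smul_mem_H2 _ _ _ hz
      · rw [mul_smul, mul_smul, ← hgv, inv_smul_smul, hv]
      · rw [mul_smul, mul_smul, ← hgw, inv_smul_smul, hw]
      · rw [mul_smul, mul_smul, ← hgx, inv_smul_smul, hx]
    · show g⁻¹ • ((g * h * g⁻¹) • z) = h • (g⁻¹ • z)
      rw [mul_smul, mul_smul, inv_smul_smul]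
  · rintro ⟨y, hy, rfl⟩
    obtain ⟨k, k1, k2, k3, k4⟩ := T z y hz hy
    have hmem : g⁻¹ * k * g ∈ MulAction.stabilizer ↥Co0 v ⊓ MulAction.stabilizer ↥Co0 w ⊓
        MulAction.stabilizer ↥Co0 x := by
      rw [Subgroup.mem_inf, Subgroup.mem_inf, MulAction.mem_stabilizer_iff,
        MulAction.mem_stabilizer_iff, MulAction.mem_stabilizer_iff]
      refine ⟨⟨?_, ?_⟩, ?_⟩
      · rw [mul_smul, mul_smul, hgv, k1, inv_smul_eq_iff, hgv]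
      · rw [mul_smul, mul_smul, hgw, k2, inv_smul_eq_iff, hgw]
      · rw [mul_smul, mul_smul, hgx, k3, inv_smul_eq_iff, hgx]
    refine ⟨⟨g⁻¹ * k * g, hmem⟩, ?_⟩
    show (g⁻¹ * k * g) • (g⁻¹ • z) = g⁻¹ • y
    rw [mul_smul, mul_smul, smul_inv_smul, k4]

/-- a point of a nonempty level set, as a lattice element -/
theorem exists_lvl (d : ℤ) (hd : 0 < (H2 d).ncard) : ∃ z : leechLattice, (z : GolayPt → ℤ) ∈ H2 d := by
  obtain ⟨x, hx⟩ := (Set.ncard_pos (Set.finite_of_ncard_pos hd)).1 hd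
  exact ⟨⟨x, hx.1.1⟩, hx⟩

/-- The McLaughlin group acts on 2025 points (minimal vectors orthogonal to v with customary inner product 2 with w) transitively with rank 4 and subdegrees 1, 330, 462, 1232. -/
theorem result (v w : ↥Cfsg.leechLattice) (hv : Cfsg.sqNorm (v : Cfsg.GolayPt → ℤ) = 32) (hw : Cfsg.sqNorm (w : Cfsg.GolayPt → ℤ) = 32) (hvw : Cfsg.dotInt (v : Cfsg.GolayPt → ℤ) (w : Cfsg.GolayPt → ℤ) = -8) : {x : ↥Cfsg.leechLattice | Cfsg.sqNorm (x : Cfsg.GolayPt → ℤ) = 32 ∧ Cfsg.dotInt (v : Cfsg.GolayPt → ℤ) (x : Cfsg.GolayPt → ℤ) = 0 ∧ Cfsg.dotInt (w : Cfsg.GolayPt → ℤ) (x : Cfsg.GolayPt → ℤ) = 16}.ncard = 2025 ∧ (∀ x ∈ {x : ↥Cfsg.leechLattice | Cfsg.sqNorm (x : Cfsg.GolayPt → ℤ) = 32 ∧ Cfsg.dotInt (v : Cfsg.GolayPt → ℤ) (x : Cfsg.GolayPt → ℤ) = 0 ∧ Cfsg.dotInt (w : Cfsg.GolayPt → ℤ) (x : Cfsg.GolayPt → ℤ) = 16}, ∀ x' ∈ {x : ↥Cfsg.leechLattice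 | Cfsg.sqNorm (x : Cfsg.GolayPt → ℤ) = 32 ∧ Cfsg.dotInt (v : Cfsg.GolayPt → ℤ) (x : Cfsg.GolayPt → ℤ) = 0 ∧ Cfsg.dotInt (w : Cfsg.GolayPt → ℤ) (x : Cfsg.GolayPt → ℤ) = 16}, ∃ g : ↥Cfsg.Co0, g • v = v ∧ g • w = w ∧ g • x = x') ∧ ∀ x ∈ {x : ↥Cfsg.leechLattice | Cfsg.sqNorm (x : Cfsg.GolayPt → ℤ) = 32 ∧ Cfsg.dotInt (v : Cfsg.GolayPt → ℤ) (x : Cfsg.GolayPt → ℤ) = 0 ∧ Cfsg.dotInt (w : Cfsg.GolayPt → ℤ) (x : Cfsg.GolayPt → ℤ) = 16}, ∃ y₁ ∈ {x : ↥Cfsg.leechLattice | Cfsg.sqNorm (x : Cfsg.GolayPt → ℤ) = 32 ∧ Cfsg.dotInt (v : Cfsg.GolayPt → ℤ) (x : Cfsg.GolayPt → ℤ) = 0 ∧ Cfsg.dotInt (w : Cfsg.GolayPt → ℤ) (x : Cfsg.GolayPt → ℤ) = 16}, ∃ y₂ ∈ {x : ↥Cfsg.leechLattice | Cfsg.sqNorm (x : Cfsg.GolayPt → ℤ) = 32 ∧ Cfsg.dotInt (v : Cfsg.GolayPt → ℤ) (x : Cfsg.GolayPt → ℤ) = 0 ∧ Cfsg.dotInt (w : Cfsg.GolayPt → ℤ) (x : Cfsg.GolayPt → ℤ) = 16}, ∃ y₃ ∈ {x : ↥Cfsg.leechLattice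 | Cfsg.sqNorm (x : Cfsg.GolayPt → ℤ) = 32 ∧ Cfsg.dotInt (v : Cfsg.GolayPt → ℤ) (x : Cfsg.GolayPt → ℤ) = 0 ∧ Cfsg.dotInt (w : Cfsg.GolayPt → ℤ) (x : Cfsg.GolayPt → ℤ) = 16}, (MulAction.orbit ↥(MulAction.stabilizer ↥Cfsg.Co0 v ⊓ MulAction.stabilizer ↥Cfsg.Co0 w ⊓ MulAction.stabilizer ↥Cfsg.Co0 x) y₁).ncard = 330 ∧ (MulAction.orbit ↥(MulAction.stabilizer ↥Cfsg.Co0 v ⊓ MulAction.stabilizer ↥Cfsg.Co0 w ⊓ MulAction.stabilizer ↥Cfsg.Co0 x) y₂).ncard = 462 ∧ (MulAction.orbit ↥(MulAction.stabilizer ↥Cfsg.Co0 v ⊓ MulAction.stabilizer ↥Cfsg.Co0 w ⊓ MulAction.stabilizer ↥Cfsg.Co0 x) y₃).ncard = 1232 := by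
  refine ⟨?_, ?_, ?_⟩
  · obtain ⟨g, hgv, hgw⟩ := exists_to_std2_pair v w hv hw hvw
    rw [← ncard_std2, ← Set.ncard_image_of_injective _ (MulAction.injective g)]
    congr 1
    ext y
    simp only [Set.mem_image, Set.mem_setOf_eq]
    constructor
    · rintro ⟨x, hx, rfl⟩
      exact (mem_iff_std2 hgv hgw x).1 hx
    · intro hy
      refine ⟨g⁻¹ • y, (mem_iff_std2 hgv hgw _).2 ?_, smul_inv_smul g y⟩
      rw [smul_inv_smul]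
      exact hy
  · intro x hx x' hx'
    obtain ⟨g, g1, g2, g3⟩ := exists_to_std2 v w x hv hw hvw hx.1 hx.2.1 hx.2.2
    obtain ⟨g', g1', g2', g3'⟩ := exists_to_std2 v w x' hv hw hvw hx'.1 hx'.2.1 hx'.2.2
    refine ⟨g'⁻¹ * g, ?_, ?_, ?_⟩
    · rw [mul_smul, g1, inv_smul_eq_iff, g1']
    · rw [mul_smul, g2, inv_smul_eq_iff, g2']
    · rw [mul_smul, g3, inv_smul_eq_iff, g3']
  · intro x hx
    obtain ⟨g, g1, g2, g3⟩ := exists_to_std2 v w x hv hw hvw hx.1 hx.2.1 hx.2.2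
    obtain ⟨z0, hz0⟩ := exists_lvl 0 (by rw [ncard_H2_0]; norm_num)
    obtain ⟨z16, hz16⟩ := exists_lvl 16 (by rw [ncard_H2_16]; norm_num)
    obtain ⟨z8, hz8⟩ := exists_lvl 8 (by rw [ncard_H2_8]; norm_num)
    have hP : ∀ (d : ℤ) (z : leechLattice), (z : GolayPt → ℤ) ∈ H2 d →
        (sqNorm ((g⁻¹ • z : leechLattice) : GolayPt → ℤ) = 32 ∧
          dotInt (v : GolayPt → ℤ) ((g⁻¹ • z : leechLattice) : GolayPt → ℤ) = 0 ∧
          dotInt (w : GolayPt → ℤ) ((g⁻¹ • z : leechLattice) : GolayPt → ℤ) = 16) := by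
      intro d z hz
      rw [mem_iff_std2 g1 g2, smul_inv_smul]
      exact hz.1
    refine ⟨g⁻¹ • z0, hP 0 z0 hz0, g⁻¹ • z16, hP 16 z16 hz16, g⁻¹ • z8, hP 8 z8 hz8, ?_, ?_, ?_⟩
    · rw [orbit_eq g1 g2 g3 0 std2_trans0 z0 hz0,
        Set.ncard_image_of_injective _ (MulAction.injective g⁻¹), ncard_lvl, ncard_H2_0]
    · rw [orbit_eq g1 g2 g3 16 std2_trans16 z16 hz16,
        Set.ncard_image_of_injective _ (MulAction.injective g⁻¹), ncard_lvl, ncard_H2_16]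
    · rw [orbit_eq g1 g2 g3 8 std2_trans8 z8 hz8,
        Set.ncard_image_of_injective _ (MulAction.injective g⁻¹), ncard_lvl, ncard_H2_8]

end Cfsg.Agent.S1634
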