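import Cfsg.Statements.S1691
-- import your own Cfsg.Agent.* helpers here

set_option autoImplicit false
open Cfsg

namespace Cfsg.Agent.S1691

open Cfsg.Spor Cfsg.Spor.Fi24

/-- the relators of the presentation -/
abbrev rels : Set (FreeGroup Gen) := coxRelators edges ∪ {r | r ∈ extra}

/-- the sign map on generators -/
def sgn : Gen → Multiplicative (ZMod 2) := fun _ => Multiplicative.ofAdd 1

lemma sgn_sq : (Multiplicative.ofAdd (1 : ZMod 2)) * Multiplicative.ofAdd 1 = 1 := by decide

lemma sgn_rel : ∀ r ∈ rels, FreeGroup.lift sgn r = 1 := by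
  rintro r (⟨x, _, y, _, rfl⟩ | hr)
  · simp [sgn, sgn_sq]
  · simp only [extra, List.mem_cons, List.not_mem_nil, or_false, Set.mem_ofPred_eq] at hr
    rcases hr with rfl | rfl
    · simp only [map_mul, map_inv, map_pow, FreeGroup.lift_apply_of, sgn]
      decide
    · simp only [map_mul, map_pow, FreeGroup.lift_apply_of, sgn]
      decide

/-- the sign homomorphism -/
noncomputable def sgnHom : Fi24 →* Multiplicative (ZMod 2) := PresentedGroup.toGroup sgn_rel

/-- image of a generator in the presented group -/
noncomputable def gen (x : Gen) : Fi24 := PresentedGroup.of x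

lemma sgnHom_gen (x : Gen) : sgnHom (gen x) = Multiplicative.ofAdd 1 := by
  simp [sgnHom, gen, sgn]

lemma mem_nodes (x : Gen) : x ∈ coxNodes edges := by
  cases x <;> decide

lemma gen_sq (x : Gen) : gen x * gen x = 1 := by
  have h : (FreeGroup.of x * FreeGroup.of x) ^ coxLabel edges x x ∈ rels :=
    Or.inl ⟨x, mem_nodes x, x, mem_nodes x, rfl⟩
  have h2 := (PresentedGroup.one_of_mem h)
  simpa [coxLabel, gen, PresentedGroup.of] using h2

lemma gen_rel (x y : Gen) : (gen x * gen y) ^ coxLabel edges x y = 1 := by
  have h : (FreeGroup.of x * FreeGroup.of y) ^ coxLabel edges x y ∈ rels :=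
    Or.inl ⟨x, mem_nodes x, y, mem_nodes y, rfl⟩
  have h2 := (PresentedGroup.one_of_mem h)
  simpa [gen, PresentedGroup.of] using h2

/-- image in the abelianization -/
noncomputable def agen (x : Gen) : Abelianization Fi24 := Abelianization.of (gen x)

lemma agen_sq (x : Gen) : agen x * agen x = 1 := by
  rw [agen, ← map_mul, gen_sq, map_one]

lemma agen_eq_of_three (x y : Gen) (h : coxLabel edges x y = 3) : agen x = agen y := by
  have h1 : (agen x * agen y) ^ 3 = 1 := by
    rw [agen, agen, ← map_mul, ← map_pow, ← h, gen_rel, map_one]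
  have h2 : (agen x * agen y) ^ 3 = (agen x * agen x) * (agen y * agen y) * (agen x * agen y) := by
    rw [pow_succ, pow_succ, pow_one]
    simp only [mul_assoc, mul_left_comm, mul_comm]
  rw [h2, agen_sq, agen_sq, one_mul, one_mul] at h1
  calc agen x = agen x * (agen y * agen y) := by rw [agen_sq, mul_one]
    _ = (agen x * agen y) * agen y := by rw [mul_assoc]
    _ = agen y := by rw [h1, one_mul]

lemma agen_eq_d (x : Gen) : agen x = agen Gen.d := by
  have lk := agen_eq_of_three Gen.l Gen.k (by decide)
  have ka := agen_eq_of_three Gen.k Gen.a (by decide)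
  have ab := agen_eq_of_three Gen.a Gen.b (by decide)
  have bc := agen_eq_of_three Gen.b Gen.c (by decide)
  have cd := agen_eq_of_three Gen.c Gen.d (by decide)
  have de := agen_eq_of_three Gen.d Gen.e (by decide)
  have dh := agen_eq_of_three Gen.d Gen.h (by decide)
  have ef := agen_eq_of_three Gen.e Gen.f (by decide)
  have fg := agen_eq_of_three Gen.f Gen.g (by decide)
  have gj := agen_eq_of_three Gen.g Gen.j (by decide)
  have hi := agen_eq_of_three Gen.h Gen.i (by decide)
  cases x
  · rw [lk, ka, ab, bc, cd]
  · rw [ka, ab, bc, cd]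
  · rw [ab, bc, cd]
  · rw [bc, cd]
  · rw [cd]
  · rfl
  · rw [← de]
  · rw [← ef, ← de]
  · rw [← fg, ← ef, ← de]
  · rw [← gj, ← fg, ← ef, ← de]
  · rw [← dh]
  · rw [← hi, ← dh]

/-- the induced map on the abelianization -/
noncomputable def asgn : Abelianization Fi24 →* Multiplicative (ZMod 2) := Abelianization.lift sgnHom

lemma asgn_agen (x : Gen) : asgn (agen x) = Multiplicative.ofAdd 1 := by
  simp [asgn, agen, sgnHom_gen]

/-- the projection from the free group to the abelianization -/
noncomputable def proj : FreeGroup Gen →* Abelianization Fi24 :=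
  (Abelianization.of).comp (PresentedGroup.mk rels)

lemma proj_of (x : Gen) : proj (FreeGroup.of x) = agen x := rfl

lemma proj_cases (w : FreeGroup Gen) : proj w = 1 ∨ proj w = agen Gen.d := by
  induction w using FreeGroup.induction_on with
  | C1 => left; exact map_one _
  | of x => right; rw [proj_of]; exact agen_eq_d x
  | inv_of x ih =>
    right
    rw [map_inv, proj_of]
    have h1 := agen_sq x
    rw [← agen_eq_d x]
    exact (eq_inv_of_mul_eq_one_left h1).symm
  | mul x y ihx ihy =>
    rw [map_mul]
    rcases ihx with hx | hx <;> rcases ihy with hy | hy <;> rw [hx, hy]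
    · left; simp
    · right; simp
    · right; simp
    · left; exact agen_sq _

/-- every element of the abelianization is `1` or the common image of the generators -/
lemma abel_cases (z : Abelianization Fi24) : z = 1 ∨ z = agen Gen.d := by
  obtain ⟨g, rfl⟩ := QuotientGroup.mk_surjective z
  obtain ⟨w, rfl⟩ := QuotientGroup.mk_surjective g
  exact proj_cases w

lemma agen_d_ne_one : agen Gen.d ≠ 1 := by
  intro h
  have := asgn_agen Gen.d
  rw [h, map_one] at this
  exact absurd this (by decide)

/-- The commutator subgroup of the presented group Fi₂₄ has index 2 (the presented group is Fi₂₄′:2 with Fi₂₄′ its derived subgroup). -/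
theorem result : (commutator Cfsg.Spor.Fi24).index = 2 := by
  have key : Nat.card (Abelianization Fi24) = 2 := by
    rw [Nat.card_eq_two_iff]
    refine ⟨1, agen Gen.d, agen_d_ne_one.symm, ?_⟩
    ext z
    simp only [Set.mem_insert_iff, Set.mem_singleton_iff, Set.mem_univ, iff_true]
    exact abel_cases z
  exact key

end Cfsg.Agent.S1691
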