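import Cfsg.Statements.S0291
import Mathlib
-- import your own Cfsg.Agent.* helpers here
import Cfsg.Agent.Lib.Helper5.QuadCount

set_option autoImplicit false
open Cfsg

namespace Cfsg.Agent.S0291

open Matrix

/-- For q odd, the form x_0^2 + sum_{i<m} x_i y_i on F^(2m+1) has exactly q^(2m) zeros. -/
theorem result {F : Type*} [Field F] [Fintype F] {q : ℕ} (hF : Fintype.card F = q) (hodd : Odd q) (m : ℕ) : Nat.card {v : Unit ⊕ (Fin m ⊕ Fin m) → F // Cfsg.quadFormOdd m F v = 0} = q ^ (2 * m) := by
  subst hF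
  let e : {v : Unit ⊕ (Fin m ⊕ Fin m) → F // Cfsg.quadFormOdd m F v = 0} ≃
      {p : (Fin m → F) × (Fin m → F) × F // p.1 ⬝ᵥ p.2.1 + (fun w : F => w ^ 2) p.2.2 = 0} :=
    { toFun := fun v => ⟨(fun i => v.1 (Sum.inr (Sum.inl i)), fun i => v.1 (Sum.inr (Sum.inr i)), v.1 (Sum.inl ())), by
        have := v.2
        simp only [Cfsg.quadFormOdd] at this
        simp only [dotProduct]
        rw [add_comm]; exact this⟩
      invFun := fun p => ⟨Sum.elim (fun _ => p.1.2.2) (Sum.elim p.1.1 p.1.2.1), by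
        have := p.2
        simp only [dotProduct] at this
        simp only [Cfsg.quadFormOdd, Sum.elim_inl, Sum.elim_inr]
        rw [add_comm]; exact this⟩
      left_inv := fun v => by
        apply Subtype.ext
        funext i
        rcases i with i | i | i <;> rfl
      right_inv := fun p => rfl }
  rw [Nat.card_congr e, Cfsg.Agent.Lib.Helper5.card_hyperbolic_add m (fun w : F => w ^ 2)]
  have hZ : Nat.card {w : F // (fun w : F => w ^ 2) w = 0} = 1 := by
    rw [Nat.card_eq_one_iff_unique]
    refine ⟨⟨fun a b => Subtype.ext ?_⟩, ⟨⟨0, by simp⟩⟩⟩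
    have ha : a.1 = 0 := by simpa using a.2
    have hb : b.1 = 0 := by simpa using b.2
    rw [ha, hb]
  rw [hZ, mul_one, Nat.card_eq_fintype_card]
  have hq : 1 ≤ Fintype.card F := Fintype.card_pos
  have h1 : 1 ≤ Fintype.card F ^ m := Nat.one_le_pow _ _ hq
  rcases Nat.eq_zero_or_pos m with h0 | h0
  · subst h0; simp
  · have h3 : Fintype.card F ^ (m - 1) * Fintype.card F = Fintype.card F ^ m := by
      rw [← pow_succ]; congr 1; omega
    rw [h3, two_mul, pow_add, Nat.sub_mul, one_mul]
    have h4 : Fintype.card F ^ m ≤ Fintype.card F ^ m * Fintype.card F ^ m :=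
      Nat.le_mul_of_pos_left _ h1
    omega

end Cfsg.Agent.S0291
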