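import Cfsg.Statements.S0283
import Mathlib
import Cfsg.Agent.S0837
import Cfsg.Agent.S0781
import Cfsg.Agent.S2644
import Cfsg.Agent.S0780
import Cfsg.Agent.Lib.Helper13.Herm
import Cfsg.Agent.Lib.Helper37.UnitaryGen
import Cfsg.Agent.Lib.Helper37.UnitarySimple

set_option autoImplicit false
open Cfsg

namespace Cfsg.Agent.S0283

open Matrix Module Cfsg.Agent.S0837 Cfsg.Agent.S0781 Cfsg.Agent.S2644 Cfsg.Agent.Lib.Helper37

/-- PSU_n(q) is simple for n at least 3 and (n, q) other than (3, 2). -/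
theorem result {F : Type*} [Field F] [Fintype F] {q : ℕ} (hF : Fintype.card F = q ^ 2) (n : ℕ) (hn : 3 ≤ n) (h : ¬ (n = 3 ∧ q = 2)) : IsSimpleGroup (Cfsg.PSU n F q) := by
  obtain ⟨σ, hσ, hσ2⟩ := Cfsg.Agent.Lib.Helper13.exists_frob hF
  have hne := frob_ne_id σ hF hσ
  have hq2 : 2 ≤ q := Cfsg.Agent.Lib.Helper13.two_le_of_card_eq_sq hF
  have hq3 : n = 3 → 3 ≤ q := by
    intro h3
    by_contra hlt
    exact h ⟨h3, by omega⟩
  have hcond : n = 3 → ∃ l : F, l ≠ 0 ∧ l * σ l ≠ 1 := fun h3 =>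
    Cfsg.Agent.S0780.exists_norm_ne_one hF (hq3 h3) σ hσ
  have hq : 4 ≤ n ∨ ∃ l : F, l ≠ 0 ∧ l * σ l ≠ 1 := by
    rcases Nat.lt_or_ge n 4 with h4 | h4
    · exact Or.inr (hcond (by omega))
    · exact Or.inl h4
  set ι : ↥(Cfsg.SU n F q) →* GL (Fin n) F :=
    Matrix.SpecialLinearGroup.toGL.comp (Cfsg.SU n F q).subtype with hι
  have hιc : ∀ A : ↥(Cfsg.SU n F q), ((ι A : GL (Fin n) F) : Matrix (Fin n) (Fin n) F) =
      ((A : Matrix.SpecialLinearGroup (Fin n) F) : Matrix (Fin n) (Fin n) F) := fun A => rfl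
  have hιinj : Function.Injective ι := by
    intro A B hAB
    apply Subtype.ext
    apply Subtype.ext
    have := congrArg (fun g : GL (Fin n) F => (g : Matrix (Fin n) (Fin n) F)) hAB
    simpa only [hιc] using this
  have hιU : ∀ A : ↥(Cfsg.SU n F q), ι A ∈ UG σ n := by
    intro A x y
    rw [hιc, ← hermForm_eq_hf σ hσ, ← hermForm_eq_hf σ hσ]
    exact A.2 x y
  have hιdet : ∀ A : ↥(Cfsg.SU n F q),
      ((ι A : GL (Fin n) F) : Matrix (Fin n) (Fin n) F).det = 1 := by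
    intro A
    rw [hιc]
    exact (A : Matrix.SpecialLinearGroup (Fin n) F).2
  have hTG : ∀ A : ↥(Cfsg.SU n F q), ι A ∈ TG σ n := fun A =>
    su_gen σ hne hσ2 n (by omega) hcond (ι A) (hιU A) (hιdet A)
  have hex : ∀ t ∈ TG σ n, ∃ A : ↥(Cfsg.SU n F q), ι A = t := by
    have hle : TG σ n ≤ ι.range := by
      unfold TG
      rw [Subgroup.closure_le]
      rintro g ⟨z, c, hz, hc, hg⟩
      have hdet : (tv σ z c).det = 1 := by rw [tv_det, hz, mul_zero, add_zero]
      have hmem : (⟨tv σ z c, hdet⟩ : Matrix.SpecialLinearGroup (Fin n) F) ∈ Cfsg.SU n F q := by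
        intro x y
        rw [hermForm_eq_hf σ hσ, hermForm_eq_hf σ hσ]
        show hf σ (tv σ z c *ᵥ x) (tv σ z c *ᵥ y) = hf σ x y
        rw [hf_tv σ hσ2, hc, hz]
        ring
      refine ⟨⟨_, hmem⟩, ?_⟩
      apply Units.ext
      rw [hιc, hg]
    intro t ht
    exact hle ht
  have hperf : commutator ↥(Cfsg.SU n F q) = ⊤ := by
    rw [eq_top_iff, ← Cfsg.Agent.S0780.result hF n hn h, Subgroup.closure_le]
    rintro A ⟨v, c, hv, hA⟩
    have hmem := Cfsg.Agent.S0781.result hF n (by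
      rcases Nat.lt_or_ge n 4 with h4 | h4
      · exact Or.inr ⟨by omega, hq3 (by omega)⟩
      · exact Or.inl h4) A v c hv hA
    rw [SetLike.mem_coe, commutator_eq_closure]
    exact Subgroup.subset_closure hmem
  have hnt : Nontrivial ↥(Cfsg.SU n F q) := by
    obtain ⟨u, v, hp⟩ := exists_HP σ hne hσ2 (n := n) (by omega)
    obtain ⟨ε, hε, hε0⟩ := exists_trace_zero_ne σ hne hσ2
    obtain ⟨A, hA⟩ := hex (tvGL σ u ε hp.uu) (tvGL_mem σ u ε hp.uu hε0)
    refine ⟨⟨A, 1, ?_⟩⟩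
    intro h1
    have h2 : ((ι A : GL (Fin n) F) : Matrix (Fin n) (Fin n) F) *ᵥ v = v := by
      rw [h1, map_one, Units.val_one, one_mulVec]
    rw [hA] at h2
    have h3 : tv σ u ε *ᵥ v = v := h2
    rw [tv_mulVec, hp.vu, mul_one] at h3
    have h4 : ε • u = 0 := by
      have := congrArg (fun z => z - v) h3
      simpa using this
    rcases smul_eq_zero.mp h4 with h5 | h5
    · exact hε h5
    · exact hp.ne_zero h5
  exact simple_center_quot σ ι hne hσ2 hn hq hιinj hTG hex hperf hnt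

end Cfsg.Agent.S0283
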