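import Cfsg.Statements.S1756
-- import your own Cfsg.Agent.* helpers here

set_option autoImplicit false
open Cfsg

namespace Cfsg.Agent.S1756

open Classical in
/-- sign function: `1 ↦ 1`, everything else `↦ -1`. -/
noncomputable def eps {Q : Type*} [Group Q] (c : Q) : ℤ := if c = 1 then 1 else -1

section
variable {Q : Type*} [Group Q]

theorem eps_one : eps (1 : Q) = 1 := by simp [eps]

theorem eps_cases (c : Q) : eps c = 1 ∨ eps c = -1 := by
  unfold eps; split_ifs <;> simp

theorem eps_eq_one_iff (c : Q) : eps c = 1 ↔ c = 1 := by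
  unfold eps; split_ifs with h <;> simp [h]

theorem eps_eq_neg_one_iff (c : Q) : eps c = -1 ↔ c ≠ 1 := by
  unfold eps; split_ifs with h <;> simp [h]

theorem center_unique (hcard : Nat.card (Subgroup.center Q) = 2) {a b : Q}
    (ha : a ∈ Subgroup.center Q) (hb : b ∈ Subgroup.center Q) (ha1 : a ≠ 1) (hb1 : b ≠ 1) :
    a = b := by
  obtain ⟨y, _, huniq⟩ := (Nat.card_eq_two_iff' (1 : Subgroup.center Q)).mp hcard
  have h1 := huniq ⟨a, ha⟩ (by
    intro h; exact ha1 (congrArg Subtype.val h))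
  have h2 := huniq ⟨b, hb⟩ (by
    intro h; exact hb1 (congrArg Subtype.val h))
  exact congrArg Subtype.val (h1.trans h2.symm)

theorem center_mul_self (hcard : Nat.card (Subgroup.center Q) = 2) {a : Q}
    (ha : a ∈ Subgroup.center Q) : a * a = 1 := by
  by_contra h
  by_cases ha1 : a = 1
  · apply h; rw [ha1, mul_one]
  · have := center_unique hcard (Subgroup.mul_mem _ ha ha) ha h ha1
    apply ha1
    calc a = a⁻¹ * (a * a) := by group
      _ = a⁻¹ * a := by rw [this]
      _ = 1 := by group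

theorem eps_mul (hcard : Nat.card (Subgroup.center Q) = 2) {a b : Q}
    (ha : a ∈ Subgroup.center Q) (hb : b ∈ Subgroup.center Q) :
    eps (a * b) = eps a * eps b := by
  by_cases ha1 : a = 1
  · subst ha1; simp [eps_one]
  by_cases hb1 : b = 1
  · subst hb1; simp [eps_one]
  have hab : a = b := center_unique hcard ha hb ha1 hb1
  subst hab
  rw [center_mul_self hcard ha, eps_one, (eps_eq_neg_one_iff a).mpr ha1]
  norm_num

theorem eps_inj (hcard : Nat.card (Subgroup.center Q) = 2) {a b : Q}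
    (ha : a ∈ Subgroup.center Q) (hb : b ∈ Subgroup.center Q) (h : eps a = eps b) : a = b := by
  by_cases ha1 : a = 1
  · subst ha1
    rw [eps_one] at h
    exact ((eps_eq_one_iff b).mp h.symm).symm
  · have hb1 : b ≠ 1 := by
      rw [(eps_eq_neg_one_iff a).mpr ha1] at h
      exact (eps_eq_neg_one_iff b).mp h.symm
    exact center_unique hcard ha hb ha1 hb1

theorem sum_eq_zero_of_neg_one [Fintype Q] (ψ : Q → ℤ) (hmul : ∀ a b, ψ (a * b) = ψ a * ψ b)
    (y₀ : Q) (h : ψ y₀ = -1) : ∑ y, ψ y = 0 := by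
  have h1 : ∑ y, ψ y = ∑ y, ψ (y₀ * y) := (Equiv.sum_comp (Equiv.mulLeft y₀) ψ).symm
  simp only [hmul, h] at h1
  rw [← Finset.mul_sum] at h1
  linarith

/-- the "central difference" of a multiplicative map is multiplicative -/
theorem central_diff_mul (α : Q →* Q) (hα : ∀ y, y⁻¹ * α y ∈ Subgroup.center Q) (y y' : Q) :
    (y * y')⁻¹ * α (y * y') = (y⁻¹ * α y) * (y'⁻¹ * α y') := by
  have hk := Subgroup.mem_center_iff.mp (hα y)
  have h1 := hk y'⁻¹
  calc (y * y')⁻¹ * α (y * y') = y'⁻¹ * (y⁻¹ * α y) * α y' := by rw [map_mul]; group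
    _ = (y⁻¹ * α y) * y'⁻¹ * α y' := by rw [h1]
    _ = _ := by group

end

theorem central_aut_inner {Q : Type*} [Group Q] [Finite Q]
    (hcomm : ∀ a b : Q, a * b * a⁻¹ * b⁻¹ ∈ Subgroup.center Q)
    (hcard : Nat.card (Subgroup.center Q) = 2)
    (σ : Q →* Q) (hσ : ∀ y, y⁻¹ * σ y ∈ Subgroup.center Q)
    (hσZ : ∀ y ∈ Subgroup.center Q, σ y = y) :
    ∃ q₀ : Q, ∀ y, σ y = q₀ * y * q₀⁻¹ := by
  classical
  have : Fintype Q := Fintype.ofFinite Q
  have hFcen : ∀ y q : Q, y⁻¹ * (q * y * q⁻¹) ∈ Subgroup.center Q := by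
    intro y q
    have := hcomm y⁻¹ q
    rw [inv_inv] at this
    have h2 : y⁻¹ * (q * y * q⁻¹) = y⁻¹ * q * y * q⁻¹ := by group
    rw [h2]; exact this
  -- χ and F
  set χ : Q → ℤ := fun y => eps (y⁻¹ * σ y) with hχ
  set F : Q → Q → ℤ := fun y q => eps (y⁻¹ * (q * y * q⁻¹)) with hF
  have hχmul : ∀ y y', χ (y * y') = χ y * χ y' := by
    intro y y'
    simp only [hχ]
    rw [central_diff_mul σ hσ, eps_mul hcard (hσ y) (hσ y')]
  have hFmul : ∀ q y y', F (y * y') q = F y q * F y' q := by
    intro q y y'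
    simp only [hF]
    have := central_diff_mul (MulAut.conj q).toMonoidHom (fun y => hFcen y q) y y'
    simp only [MulEquiv.coe_toMonoidHom, MulAut.conj_apply] at this
    rw [this, eps_mul hcard (hFcen y q) (hFcen y' q)]
  have hFmulq : ∀ y q q', F y (q * q') = F y q * F y q' := by
    intro y q q'
    simp only [hF]
    rw [← eps_mul hcard (hFcen y q) (hFcen y q')]
    congr 1
    have hk := Subgroup.mem_center_iff.mp (hFcen y q')
    have h1 := hk q⁻¹
    calc y⁻¹ * (q * q' * y * (q * q')⁻¹)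
        = y⁻¹ * q * y * ((y⁻¹ * (q' * y * q'⁻¹)) * q⁻¹) := by group
      _ = y⁻¹ * q * y * (q⁻¹ * (y⁻¹ * (q' * y * q'⁻¹))) := by rw [h1]
      _ = _ := by group
  -- values
  have hFone : ∀ y ∈ Subgroup.center Q, ∀ q, F y q = 1 := by
    intro y hy q
    simp only [hF]
    rw [eps_eq_one_iff]
    have := Subgroup.mem_center_iff.mp hy q
    calc y⁻¹ * (q * y * q⁻¹) = y⁻¹ * (y * q) * q⁻¹ := by rw [this]; group
      _ = 1 := by group
  have hχone : ∀ y ∈ Subgroup.center Q, χ y = 1 := by
    intro y hy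
    simp only [hχ]
    rw [eps_eq_one_iff, hσZ y hy]; group
  have hFsum : ∀ y, y ∉ Subgroup.center Q → ∑ q, F y q = 0 := by
    intro y hy
    rw [Subgroup.mem_center_iff] at hy
    push Not at hy
    obtain ⟨q₀, hq₀⟩ := hy
    apply sum_eq_zero_of_neg_one (fun q => F y q) (fun a b => hFmulq y a b) q₀
    simp only [hF]
    rw [eps_eq_neg_one_iff]
    intro h
    apply hq₀
    calc q₀ * y = y * (y⁻¹ * (q₀ * y * q₀⁻¹)) * q₀ := by group
      _ = y * q₀ := by rw [h]; group
  -- the double sum is positive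
  have hS1 : (0 : ℤ) < ∑ y, ∑ q, χ y * F y q := by
    have hterm : ∀ y, (0 : ℤ) ≤ ∑ q, χ y * F y q := by
      intro y
      rw [← Finset.mul_sum]
      by_cases hy : y ∈ Subgroup.center Q
      · rw [hχone y hy, one_mul]
        apply Finset.sum_nonneg
        intro q _
        rw [hFone y hy q]; norm_num
      · rw [hFsum y hy, mul_zero]
    have h1 : ∑ q, χ 1 * F 1 q ≤ ∑ y, ∑ q, χ y * F y q :=
      Finset.single_le_sum (f := fun y => ∑ q, χ y * F y q) (fun y _ => hterm y)
        (Finset.mem_univ 1)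
    have h2 : (0 : ℤ) < ∑ q, χ 1 * F 1 q := by
      have : ∀ q, χ 1 * F 1 q = 1 := by
        intro q
        rw [hχone 1 (Subgroup.one_mem _), hFone 1 (Subgroup.one_mem _) q]; norm_num
      simp only [this, Finset.sum_const, Finset.card_univ, nsmul_eq_mul, mul_one]
      exact_mod_cast Fintype.card_pos
    linarith
  -- hence some q works
  have hex : ∃ q, ∀ y, χ y * F y q ≠ -1 := by
    by_contra hcon
    push Not at hcon
    have : ∑ y, ∑ q, χ y * F y q = 0 := by
      rw [Finset.sum_comm]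
      apply Finset.sum_eq_zero
      intro q _
      obtain ⟨y₀, hy₀⟩ := hcon q
      apply sum_eq_zero_of_neg_one (fun y => χ y * F y q) _ y₀ hy₀
      intro a b
      show χ (a * b) * F (a * b) q = χ a * F a q * (χ b * F b q)
      rw [hχmul, hFmul]; ring
    linarith
  obtain ⟨q, hq⟩ := hex
  refine ⟨q, fun y => ?_⟩
  have h1 := hq y
  have hχF : χ y = F y q := by
    rcases eps_cases (y⁻¹ * σ y) with h | h <;>
    rcases eps_cases (y⁻¹ * (q * y * q⁻¹)) with h' | h' <;>
    simp only [hχ, hF] at h1 ⊢ <;> rw [h, h'] at * <;> norm_num at h1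
  simp only [hχ, hF] at hχF
  have := eps_inj hcard (hσ y) (hFcen y q) hχF
  calc σ y = y * (y⁻¹ * σ y) := by group
    _ = y * (y⁻¹ * (q * y * q⁻¹)) := by rw [this]
    _ = _ := by group

theorem diff_central {Q : Type*} [Group Q] [Finite Q]
    (hcomm : ∀ a b : Q, a * b * a⁻¹ * b⁻¹ ∈ Subgroup.center Q)
    (hcard : Nat.card (Subgroup.center Q) = 2)
    (σ : Q →* Q) (hσ2 : ∀ y, σ (σ y) = y) (R : Subgroup Q) (hR : ∀ y, y ∈ R ↔ σ y = y)
    (hidx : R.index ≤ 2) :
    (∀ y ∈ Subgroup.center Q, σ y = y) ∧ ∀ y, y⁻¹ * σ y ∈ Subgroup.center Q := by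
  -- σ preserves the centre
  have hσcen : ∀ c ∈ Subgroup.center Q, σ c ∈ Subgroup.center Q := by
    intro c hc
    rw [Subgroup.mem_center_iff] at hc ⊢
    intro g
    have := hc (σ g)
    calc g * σ c = σ (σ g) * σ c := by rw [hσ2]
      _ = σ (σ g * c) := by rw [map_mul]
      _ = σ (c * σ g) := by rw [this]
      _ = σ c * g := by rw [map_mul, hσ2]
  have hσinj : ∀ a, σ a = 1 → a = 1 := by
    intro a ha
    have := hσ2 a
    rw [ha, map_one] at this
    exact this.symm
  have hZ : ∀ y ∈ Subgroup.center Q, σ y = y := by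
    intro y hy
    by_cases hy1 : y = 1
    · rw [hy1, map_one]
    · exact center_unique hcard (hσcen y hy) hy (fun h => hy1 (hσinj y h)) hy1
  refine ⟨hZ, ?_⟩
  -- c(y) commutes with R
  have hcR : ∀ y, ∀ r ∈ R, (y⁻¹ * σ y) * r = r * (y⁻¹ * σ y) := by
    intro y r hr
    have hr' : σ r = r := (hR r).mp hr
    have hk := hZ _ (hcomm y r)
    rw [map_mul, map_mul, map_mul, map_inv, map_inv, hr'] at hk
    -- hk : σ y * r * (σ y)⁻¹ * r⁻¹ = y * r * y⁻¹ * r⁻¹
    have h2 : σ y * r * (σ y)⁻¹ = y * r * y⁻¹ := by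
      calc σ y * r * (σ y)⁻¹ = (σ y * r * (σ y)⁻¹ * r⁻¹) * r := by group
        _ = (y * r * y⁻¹ * r⁻¹) * r := by rw [hk]
        _ = _ := by group
    calc (y⁻¹ * σ y) * r = y⁻¹ * (σ y * r * (σ y)⁻¹) * σ y := by group
      _ = y⁻¹ * (y * r * y⁻¹) * σ y := by rw [h2]
      _ = _ := by group
  intro y
  by_cases hyR : y ∈ R
  · rw [(hR y).mp hyR]
    simp
  · -- index is exactly 2
    have hidx2 : R.index = 2 := by
      have h0 : R.index ≠ 0 := Subgroup.index_ne_zero_of_finite
      have h1 : R.index ≠ 1 := by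
        intro h
        rw [Subgroup.index_eq_one] at h
        apply hyR; rw [h]; exact Subgroup.mem_top y
      omega
    set c := y⁻¹ * σ y with hc
    -- it suffices to find an element w ∉ R commuting with c
    have key : ∀ w, w ∉ R → w * c = c * w → c ∈ Subgroup.center Q := by
      intro w hw hwc
      rw [Subgroup.mem_center_iff]
      intro g
      by_cases hg : g ∈ R
      · exact (hcR y g hg).symm
      · have hwg : w⁻¹ * g ∈ R := by
          rw [Subgroup.mul_mem_iff_of_index_two hidx2]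
          constructor
          · intro h; exact absurd (R.inv_mem_iff.mp h) hw
          · intro h; exact absurd h hg
        have h3 := hcR y _ hwg
        calc g * c = w * ((w⁻¹ * g) * c) := by group
          _ = w * (c * (w⁻¹ * g)) := by rw [← h3]
          _ = (w * c) * (w⁻¹ * g) := by group
          _ = (c * w) * (w⁻¹ * g) := by rw [hwc]
          _ = c * g := by group
    by_cases hcR' : c ∈ R
    · -- c fixed by σ; c * c = 1; c commutes with y
      have hσc : σ c = c := (hR c).mp hcR'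
      have hσy : σ y = y * c := by rw [hc]; group
      have hcc : c * c = 1 := by
        have := hσ2 y
        rw [hσy, map_mul, hσc, hσy] at this
        calc c * c = y⁻¹ * (y * c * c) := by group
          _ = y⁻¹ * y := by rw [this]
          _ = 1 := by group
      have hyy : σ (y * y) = y * y :=
        (hR _).mp (Subgroup.mul_self_mem_of_index_two hidx2 y)
      rw [map_mul, hσy] at hyy
      have hyc : y * c = c * y := by
        calc y * c = (c * c) * (y * c) := by rw [hcc, one_mul]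
          _ = c * y⁻¹ * ((y * c) * (y * c)) := by group
          _ = c * y⁻¹ * (y * y) := by rw [hyy]
          _ = c * y := by group
      exact key y hyR hyc
    · exact key c hcR' rfl


/-- Let Q be an extraspecial 2-subgroup of the finite group G (special with centre of order 2) and t an involution of G normalizing Q such that the centralizer of t in Q has index at most 2 in Q. Then t lies in the product of Q with the centralizer of Q. -/
theorem result {G : Type*} [Group G] [Finite G] (Q : Subgroup G)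
    (hQ : Cfsg.IsExtraspecial 2 ↥Q) (t : G) (ht : orderOf t = 2) (htN : t ∈ Subgroup.normalizer (Q : Set G))
    (hi : (Subgroup.centralizer ({t} : Set G) ⊓ Q).relIndex Q ≤ 2) :
    t ∈ Q ⊔ Subgroup.centralizer (Q : Set G) := by
  obtain ⟨⟨_, _, hcommZ⟩, hcard⟩ := hQ
  -- t⁻¹ = t
  have htt : t * t = 1 := by
    have := pow_orderOf_eq_one t
    rwa [ht, pow_two] at this
  have htinv : t⁻¹ = t := by
    calc t⁻¹ = t⁻¹ * (t * t) := by rw [htt, mul_one]
      _ = t := by group
  have hconj : ∀ y ∈ Q, t * y * t⁻¹ ∈ Q := by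
    intro y hy
    exact ((Subgroup.mem_normalizer_iff.mp htN) y).mp hy
  -- the automorphism induced by t
  let σ : ↥Q →* ↥Q :=
    { toFun := fun y => ⟨t * (y : G) * t⁻¹, hconj y y.2⟩
      map_one' := by
        apply Subtype.ext
        show t * (1 : G) * t⁻¹ = 1
        group
      map_mul' := by
        intro a b
        apply Subtype.ext
        show t * ((a : G) * (b : G)) * t⁻¹ = (t * (a : G) * t⁻¹) * (t * (b : G) * t⁻¹)
        group }
  have hσval : ∀ y : ↥Q, ((σ y : ↥Q) : G) = t * (y : G) * t⁻¹ := fun y => rfl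
  have hσ2 : ∀ y, σ (σ y) = y := by
    intro y
    apply Subtype.ext
    rw [hσval, hσval, htinv]
    calc t * (t * (y : G) * t) * t = (t * t) * (y : G) * (t * t) := by group
      _ = (y : G) := by rw [htt, one_mul, mul_one]
  have hcomm : ∀ a b : ↥Q, a * b * a⁻¹ * b⁻¹ ∈ Subgroup.center ↥Q := by
    intro a b
    rw [← hcommZ, commutator_def]
    exact Subgroup.commutator_mem_commutator (Subgroup.mem_top a) (Subgroup.mem_top b)
  -- the fixed subgroup
  set R : Subgroup ↥Q := (Subgroup.centralizer ({t} : Set G) ⊓ Q).subgroupOf Q with hRdef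
  have hR : ∀ y : ↥Q, y ∈ R ↔ σ y = y := by
    intro y
    rw [hRdef, Subgroup.mem_subgroupOf, Subgroup.mem_inf, Subgroup.mem_centralizer_iff]
    constructor
    · rintro ⟨h, _⟩
      apply Subtype.ext
      rw [hσval]
      have := h t rfl
      calc t * (y : G) * t⁻¹ = (y : G) * t * t⁻¹ := by rw [this]
        _ = (y : G) := by group
    · intro h
      refine ⟨?_, y.2⟩
      intro x hx
      rw [Set.mem_singleton_iff] at hx
      subst hx
      have h2 : x * (y : G) * x⁻¹ = (y : G) := by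
        rw [← hσval, h]
      calc x * (y : G) = (x * (y : G) * x⁻¹) * x := by group
        _ = (y : G) * x := by rw [h2]
  have hidx : R.index ≤ 2 := hi
  obtain ⟨hZ, hcen⟩ := diff_central hcomm hcard σ hσ2 R hR hidx
  obtain ⟨q₀, hq₀⟩ := central_aut_inner hcomm hcard σ hcen hZ
  -- t = q₀ * (q₀⁻¹ * t)
  have hdecomp : t = (q₀ : G) * ((q₀ : G)⁻¹ * t) := by group
  rw [hdecomp]
  apply Subgroup.mul_mem_sup q₀.2
  rw [Subgroup.mem_centralizer_iff]
  intro y hy
  have := congrArg Subtype.val (hq₀ ⟨y, hy⟩)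
  rw [hσval] at this
  have h3 : t * y * t⁻¹ = (q₀ : G) * y * (q₀ : G)⁻¹ := this
  calc y * ((q₀ : G)⁻¹ * t) = (q₀ : G)⁻¹ * ((q₀ : G) * y * (q₀ : G)⁻¹) * t := by group
    _ = (q₀ : G)⁻¹ * (t * y * t⁻¹) * t := by rw [h3]
    _ = (q₀ : G)⁻¹ * t * y := by group

end Cfsg.Agent.S1756
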