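import Mathlib
import Cfsg.Statements.S4413
import Cfsg.Agent.S1756

set_option autoImplicit false
open Cfsg
open scoped commutatorElement

namespace Cfsg.Agent.S4413

/-- Elementwise package for an extraspecial 2-group with centre `{1, z}`. -/
structure ES (P : Type*) [Group P] (z : P) : Prop where
  z1 : z ≠ 1
  zz : z * z = 1
  zc : ∀ x : P, x * z = z * x
  comm : ∀ a b : P, a * b = b * a ∨ a * b = z * (b * a)
  cent : ∀ x : P, (∀ y, y * x = x * y) → x = 1 ∨ x = z

theorem exists_ES {P : Type*} [Group P] [Finite P] (hex : Cfsg.IsExtraspecial 2 P) :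
    ∃ z : P, ES P z := by
  obtain ⟨⟨_, _, hcomm⟩, hcard⟩ := hex
  obtain ⟨⟨z, hzc⟩, hz1, hzu⟩ := (Nat.card_eq_two_iff' (1 : Subgroup.center P)).mp hcard
  have hz1' : z ≠ 1 := fun h => hz1 (Subtype.ext h)
  have hall : ∀ c : P, c ∈ Subgroup.center P → c = 1 ∨ c = z := by
    intro c hc
    by_cases h : c = 1
    · exact Or.inl h
    · right
      have := hzu ⟨c, hc⟩ (fun h' => h (congrArg Subtype.val h'))
      exact congrArg Subtype.val this
  have hzc' : ∀ x : P, x * z = z * x := fun x => (Subgroup.mem_center_iff.mp hzc x)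
  refine ⟨z, hz1', ?_, hzc', ?_, ?_⟩
  · rcases hall (z * z) (Subgroup.mul_mem _ hzc hzc) with h | h
    · exact h
    · exfalso; apply hz1'
      have : z * z = z * 1 := by rw [h, mul_one]
      exact mul_left_cancel this
  · intro a b
    have hmem : a * b * a⁻¹ * b⁻¹ ∈ Subgroup.center P := by
      rw [← hcomm]
      have : ⁅a, b⁆ ∈ commutator P := by
        rw [commutator_def]
        exact Subgroup.commutator_mem_commutator (Subgroup.mem_top _) (Subgroup.mem_top _)
      simpa [commutatorElement_def] using this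
    rcases hall _ hmem with h | h
    · left
      have : a * b = (a * b * a⁻¹ * b⁻¹) * (b * a) := by group
      rw [this, h, one_mul]
    · right
      have : a * b = (a * b * a⁻¹ * b⁻¹) * (b * a) := by group
      rw [this, h]
  · intro x hx
    apply hall
    rw [Subgroup.mem_center_iff]
    intro y
    exact hx y

namespace ES

variable {P : Type*} [Group P] {z : P}

theorem zinv (h : ES P z) : z⁻¹ = z := inv_eq_of_mul_eq_one_left h.zz

theorem zc' (h : ES P z) (x w : P) : x * (z * w) = z * (x * w) := by
  rw [← mul_assoc, h.zc, mul_assoc]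

theorem zz' (h : ES P z) (w : P) : z * (z * w) = w := by
  rw [← mul_assoc, h.zz, one_mul]

/-- Squares are central. -/
theorem sq (h : ES P z) (x : P) : x * x = 1 ∨ x * x = z := by
  apply h.cent
  intro y
  rcases h.comm x y with hxy | hxy
  · calc y * (x * x) = (y * x) * x := by rw [mul_assoc]
      _ = (x * y) * x := by rw [hxy]
      _ = x * (y * x) := by rw [mul_assoc]
      _ = x * (x * y) := by rw [hxy]
      _ = x * x * y := by rw [mul_assoc]
  · have hyx : y * x = z * (x * y) := by
      rw [hxy, h.zz']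
    calc y * (x * x) = (y * x) * x := by rw [mul_assoc]
      _ = z * (x * y) * x := by rw [hyx]
      _ = z * (x * (y * x)) := by simp only [mul_assoc]
      _ = z * (x * (z * (x * y))) := by rw [hyx]
      _ = x * x * y := by rw [h.zc', h.zz', mul_assoc]

theorem comm_symm (h : ES P z) {a b : P} (hab : a * b = z * (b * a)) : b * a = z * (a * b) := by
  rw [hab, h.zz']

theorem ne_of_anti (h : ES P z) {a b : P} (hab : a * b = z * (b * a)) : a * b ≠ b * a := by
  intro h'
  rw [h'] at hab
  have : (1 : P) * (b * a) = z * (b * a) := by rw [one_mul]; exact hab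
  exact h.z1 (mul_right_cancel this).symm

/-- Non-commuting pairs anticommute. -/
theorem anti_of_ne (h : ES P z) {a b : P} (hab : a * b ≠ b * a) : a * b = z * (b * a) := by
  rcases h.comm a b with h' | h'
  · exact absurd h' hab
  · exact h'

theorem noncentral (h : ES P z) {w : P} (hw1 : w ≠ 1) (hwz : w ≠ z) : ∃ a, a * w ≠ w * a := by
  by_contra hcon
  push Not at hcon
  rcases h.cent w hcon with h' | h'
  exacts [hw1 h', hwz h']

theorem centralizer_index (h : ES P z) {w : P} (hw1 : w ≠ 1) (hwz : w ≠ z) :
    (Subgroup.centralizer {w}).index = 2 := by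
  obtain ⟨a, ha⟩ := h.noncentral hw1 hwz
  rw [Subgroup.index_eq_two_iff]
  refine ⟨a, fun b => ?_⟩
  simp only [Subgroup.mem_centralizer_singleton_iff]
  by_cases hb : b * w = w * b
  · right
    refine ⟨hb, ?_⟩
    intro hba
    apply ha
    have : b * (a * w) = b * (w * a) := by
      rw [← mul_assoc, hba, ← mul_assoc, ← mul_assoc, hb]
    exact mul_left_cancel this
  · left
    refine ⟨?_, hb⟩
    have hb' := h.anti_of_ne hb
    have ha' := h.anti_of_ne ha
    calc b * a * w = b * (a * w) := mul_assoc _ _ _
      _ = b * (z * (w * a)) := by rw [ha']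
      _ = z * (b * w * a) := by rw [h.zc', mul_assoc]
      _ = z * (z * (w * b) * a) := by rw [hb']
      _ = w * (b * a) := by simp only [mul_assoc, h.zz']

/-- For an involution `x` and `y` anticommuting with it, `(y x)^2 = z y^2`. -/
theorem sq_mul_anti (h : ES P z) {x y : P} (hx : x * x = 1) (hyx : y * x = z * (x * y)) :
    (y * x) * (y * x) = z * (y * y) := by
  calc (y * x) * (y * x) = z * (x * y) * (y * x) := by rw [hyx]
    _ = z * (x * ((y * y) * x)) := by simp only [mul_assoc]
    _ = z * (y * y) := by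
        rcases h.sq y with h1 | h1
        · rw [h1, one_mul, hx]
        · rw [h1, h.zc', hx, mul_one]

end ES

section Count

variable {P : Type*} [Group P] [Finite P] {z : P}

theorem card_finset_le (A : Subgroup P) (T : Finset P) (hT : ∀ t ∈ T, t ∈ A) :
    T.card ≤ Nat.card A := by
  classical
  have : Fintype P := Fintype.ofFinite P
  rw [Nat.card_eq_fintype_card, Fintype.card_subtype]
  apply Finset.card_le_card
  intro t ht
  simp [hT t ht]

theorem card_le_finset (A : Subgroup P) (T : Finset P) (hT : ∀ a ∈ A, a ∈ T) :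
    Nat.card A ≤ T.card := by
  classical
  have : Fintype P := Fintype.ofFinite P
  rw [Nat.card_eq_fintype_card, Fintype.card_subtype]
  apply Finset.card_le_card
  intro t ht
  simp only [Finset.mem_filter, Finset.mem_univ, true_and] at ht
  exact hT t ht

theorem card_five {x y : P} (h : ES P z) (hx1 : x ≠ 1) (hxz : x ≠ z)
    (hy1 : y ≠ 1) (hyz : y ≠ z) (hyx : y ≠ x) (hyxz : y ≠ x * z) :
    letI : DecidableEq P := Classical.decEq P
    ({1, z, x, x * z, y} : Finset P).card = 5 := by
  classical
  have h1 : (1 : P) ≠ z := h.z1.symm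
  have h2 : (1 : P) ≠ x := hx1.symm
  have h3 : (1 : P) ≠ x * z := by
    intro h'
    apply hxz
    have : x * z = z * z := by rw [← h', h.zz]
    exact mul_right_cancel this
  have h4 : (1 : P) ≠ y := hy1.symm
  have h5 : z ≠ x := hxz.symm
  have h6 : z ≠ x * z := by
    intro h'
    apply hx1
    have : 1 * z = x * z := by rw [one_mul]; exact h'
    exact (mul_right_cancel this).symm
  have h7 : z ≠ y := hyz.symm
  have h8 : x ≠ x * z := by
    intro h'
    apply h.z1
    have : x * 1 = x * z := by rw [mul_one]; exact h'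
    exact (mul_left_cancel this).symm
  have h9 : x ≠ y := hyx.symm
  have h10 : x * z ≠ y := hyxz.symm
  rw [Finset.card_insert_of_notMem, Finset.card_insert_of_notMem, Finset.card_insert_of_notMem,
    Finset.card_insert_of_notMem, Finset.card_singleton]
  · simp [h10]
  · simp [h8, h9]
  · simp [h5, h6, h7]
  · simp [h1, h2, h3, h4]

theorem eq_or_of_commute (h : ES P z)
    (hminus : ∀ A : Subgroup P, Cfsg.IsElementaryAbelian 2 A → Nat.card ↥A ≤ 4)
    {x y : P} (hx : x * x = 1) (hx1 : x ≠ 1) (hxz : x ≠ z) (hy : y * y = 1) (hy1 : y ≠ 1)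
    (hyz : y ≠ z) (hxy : x * y = y * x) : y = x ∨ y = x * z := by
  classical
  by_contra hcon
  push Not at hcon
  obtain ⟨hyx, hyxz⟩ := hcon
  set S : Set P := {x, y, z} with hSdef
  have hS : ∀ a ∈ S, ∀ b ∈ S, a * b = b * a := by
    intro a ha b hb
    simp only [hSdef, Set.mem_insert_iff, Set.mem_singleton_iff] at ha hb
    rcases ha with rfl | rfl | rfl <;> rcases hb with rfl | rfl | rfl <;>
      first | rfl | exact hxy | exact hxy.symm | exact h.zc _ | exact (h.zc _).symm
  have hcomm : ∀ a ∈ Subgroup.closure S, ∀ b ∈ Subgroup.closure S, a * b = b * a := by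
    intro a ha b hb
    letI := Subgroup.closureCommGroupOfComm hS
    have := mul_comm (⟨a, ha⟩ : Subgroup.closure S) ⟨b, hb⟩
    exact congrArg Subtype.val this
  have hA : Cfsg.IsElementaryAbelian 2 (Subgroup.closure S) := by
    refine ⟨⟨⟨fun a b => Subtype.ext (hcomm a.1 a.2 b.1 b.2)⟩⟩, ?_⟩
    intro a ha
    rw [pow_two]
    induction ha using Subgroup.closure_induction with
    | mem a ha =>
      simp only [hSdef, Set.mem_insert_iff, Set.mem_singleton_iff] at ha
      rcases ha with rfl | rfl | rfl
      exacts [hx, hy, h.zz]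
    | one => simp
    | mul a b ha hb iha ihb =>
      calc a * b * (a * b) = a * (b * a) * b := by simp only [mul_assoc]
        _ = a * (a * b) * b := by rw [hcomm b hb a ha]
        _ = (a * a) * (b * b) := by simp only [mul_assoc]
        _ = 1 := by rw [iha, ihb, one_mul]
    | inv a ha iha =>
      have : a⁻¹ = a := inv_eq_of_mul_eq_one_left iha
      rw [this, iha]
  have hle := hminus _ hA
  have hge : ({1, z, x, x * z, y} : Finset P).card ≤ Nat.card (Subgroup.closure S) := by
    apply card_finset_le
    intro t ht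
    simp only [Finset.mem_insert, Finset.mem_singleton] at ht
    have hxS : x ∈ Subgroup.closure S := Subgroup.subset_closure (by simp [hSdef])
    have hyS : y ∈ Subgroup.closure S := Subgroup.subset_closure (by simp [hSdef])
    have hzS : z ∈ Subgroup.closure S := Subgroup.subset_closure (by simp [hSdef])
    rcases ht with rfl | rfl | rfl | rfl | rfl
    exacts [Subgroup.one_mem _, hzS, hxS, Subgroup.mul_mem _ hxS hzS, hyS]
  have h5 := card_five h hx1 hxz hy1 hyz hyx hyxz
  omega

theorem card_centralizer (h : ES P z) (h32 : Nat.card P = 32) {w : P} (hw1 : w ≠ 1)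
    (hwz : w ≠ z) : Nat.card (Subgroup.centralizer {w}) = 16 := by
  have h1 := Subgroup.card_mul_index (Subgroup.centralizer {w})
  rw [h.centralizer_index hw1 hwz, h32] at h1
  omega

theorem exists_invol (h : ES P z) (h32 : Nat.card P = 32) :
    ∃ x : P, x * x = 1 ∧ x ≠ 1 ∧ x ≠ z := by
  classical
  have : Fintype P := Fintype.ofFinite P
  by_contra hcon
  push Not at hcon
  -- some w outside {1, z}
  have hw : ∃ w : P, w ≠ 1 ∧ w ≠ z := by
    by_contra hw
    push Not at hw
    have hle : Nat.card (⊤ : Subgroup P) ≤ ({1, z} : Finset P).card := by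
      apply card_le_finset
      intro a _
      simp only [Finset.mem_insert, Finset.mem_singleton]
      by_cases ha : a = 1
      · exact Or.inl ha
      · exact Or.inr (hw a ha)
    have h2 : ({1, z} : Finset P).card ≤ 2 := Finset.card_le_two
    rw [Subgroup.card_top, h32] at hle
    omega
  obtain ⟨w, hw1, hwz⟩ := hw
  have hww : w * w = z := by
    rcases h.sq w with h' | h'
    · exact absurd (hcon w h' hw1) hwz
    · exact h'
  have hC := card_centralizer h h32 hw1 hwz
  have hy : ∃ y ∈ Subgroup.centralizer {w}, y ∉ ({1, z, w, w * z} : Finset P) := by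
    by_contra hy
    push Not at hy
    have hle := card_le_finset (Subgroup.centralizer {w}) ({1, z, w, w * z} : Finset P) hy
    have h4 : ({1, z, w, w * z} : Finset P).card ≤ 4 := Finset.card_le_four
    omega
  obtain ⟨y, hyC, hyT⟩ := hy
  simp only [Finset.mem_insert, Finset.mem_singleton, not_or] at hyT
  obtain ⟨hy1, hyz, hyw, hywz⟩ := hyT
  rw [Subgroup.mem_centralizer_singleton_iff] at hyC
  have hyy : y * y = z := by
    rcases h.sq y with h' | h'
    · exact absurd (hcon y h' hy1) hyz
    · exact h'
  have hsq : (w * y) * (w * y) = 1 := by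
    calc (w * y) * (w * y) = w * (y * w) * y := by simp only [mul_assoc]
      _ = w * (w * y) * y := by rw [hyC]
      _ = (w * w) * (y * y) := by simp only [mul_assoc]
      _ = 1 := by rw [hww, hyy, h.zz]
  have hne1 : w * y ≠ 1 := by
    intro h'
    apply hywz
    have : w * y = w * (w * z) := by rw [h', ← mul_assoc, hww, h.zz]
    exact mul_left_cancel this
  have hnez : w * y ≠ z := by
    intro h'
    apply hyw
    have : w * y = w * w := by rw [h', hww]
    exact mul_left_cancel this
  exact hnez (hcon _ hsq hne1)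

theorem card_invol (h : ES P z) (h32 : Nat.card P = 32)
    (hminus : ∀ A : Subgroup P, Cfsg.IsElementaryAbelian 2 A → Nat.card ↥A ≤ 4) :
    Nat.card {x : P // x * x = 1 ∧ x ≠ 1 ∧ x ≠ z} = 10 := by
  classical
  have : Fintype P := Fintype.ofFinite P
  obtain ⟨x0, hx0, hx01, hx0z⟩ := exists_invol h h32
  have hcardP : (Finset.univ : Finset P).card = 32 := by
    rw [Finset.card_univ, ← Nat.card_eq_fintype_card, h32]
  -- the centralizer part
  have hCcard : (Finset.univ.filter (fun y : P => y * x0 = x0 * y)).card = 16 := by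
    rw [← card_centralizer h h32 hx01 hx0z, Nat.card_eq_fintype_card, Fintype.card_subtype]
    congr 1
    ext y
    simp [Subgroup.mem_centralizer_singleton_iff]
  have hUcard : (Finset.univ.filter (fun y : P => ¬ y * x0 = x0 * y)).card = 16 := by
    have := Finset.card_filter_add_card_filter_not (s := (Finset.univ : Finset P))
      (fun y : P => y * x0 = x0 * y)
    rw [hCcard, hcardP] at this
    omega
  set U := Finset.univ.filter (fun y : P => ¬ y * x0 = x0 * y) with hU
  have hnc : ∀ y : P, ¬ y * x0 = x0 * y → ¬ (y * x0) * x0 = x0 * (y * x0) := by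
    intro y hy hcon
    apply hy
    have h1 : (y * x0) * x0 = y := by rw [mul_assoc, hx0, mul_one]
    rw [h1] at hcon
    calc y * x0 = x0 * (y * x0) * x0 := by rw [← hcon]
      _ = x0 * y := by rw [mul_assoc, mul_assoc, hx0, mul_one]
  have hsplit := Finset.card_filter_add_card_filter_not (s := U) (fun y : P => y * y = 1)
  have hbij : (U.filter (fun y : P => y * y = 1)).card = (U.filter (fun y : P => ¬ y * y = 1)).card := by
    apply Finset.card_nbij' (fun y => y * x0) (fun y => y * x0)
    · intro y hy
      simp only [hU, Finset.coe_filter, Finset.mem_filter, Finset.mem_univ, true_and,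
        Set.mem_setOf_eq] at hy ⊢
      refine ⟨hnc y hy.1, ?_⟩
      rw [h.sq_mul_anti hx0 (h.anti_of_ne hy.1), hy.2, mul_one]
      exact h.z1
    · intro y hy
      simp only [hU, Finset.coe_filter, Finset.mem_filter, Finset.mem_univ, true_and,
        Set.mem_setOf_eq] at hy ⊢
      refine ⟨hnc y hy.1, ?_⟩
      have hyy : y * y = z := by
        rcases h.sq y with h' | h'
        · exact absurd h' hy.2
        · exact h'
      rw [h.sq_mul_anti hx0 (h.anti_of_ne hy.1), hyy, h.zz]
    · intro y _
      simp only [mul_assoc, hx0, mul_one]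
    · intro y _
      simp only [mul_assoc, hx0, mul_one]
  have hU0 : (U.filter (fun y : P => y * y = 1)).card = 8 := by
    rw [hUcard] at hsplit
    omega
  -- describe the set of noncentral involutions
  have hx0zsq : (x0 * z) * (x0 * z) = 1 := by
    calc (x0 * z) * (x0 * z) = x0 * (z * x0) * z := by simp only [mul_assoc]
      _ = x0 * (x0 * z) * z := by rw [h.zc x0]
      _ = (x0 * x0) * (z * z) := by simp only [mul_assoc]
      _ = 1 := by rw [hx0, h.zz, one_mul]
  have hx0z1 : x0 * z ≠ 1 := by
    intro h'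
    apply hx0z
    have : x0 * z = z * z := by rw [h', h.zz]
    exact mul_right_cancel this
  have hx0zz : x0 * z ≠ z := by
    intro h'
    apply hx01
    have : x0 * z = 1 * z := by rw [h', one_mul]
    exact mul_right_cancel this
  have hx0x0z : x0 ≠ x0 * z := by
    intro h'
    apply h.z1
    have : x0 * 1 = x0 * z := by rw [mul_one]; exact h'
    exact (mul_left_cancel this).symm
  have hI : Finset.univ.filter (fun x : P => x * x = 1 ∧ x ≠ 1 ∧ x ≠ z)
      = insert x0 (insert (x0 * z) (U.filter (fun y : P => y * y = 1))) := by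
    ext a
    simp only [Finset.mem_filter, Finset.mem_univ, true_and, Finset.mem_insert, hU]
    constructor
    · rintro ⟨ha, ha1, haz⟩
      by_cases hc : a * x0 = x0 * a
      · rcases eq_or_of_commute h hminus hx0 hx01 hx0z ha ha1 haz hc.symm with h' | h'
        · exact Or.inl h'
        · exact Or.inr (Or.inl h')
      · exact Or.inr (Or.inr ⟨hc, ha⟩)
    · rintro (rfl | rfl | ⟨hc, ha⟩)
      · exact ⟨hx0, hx01, hx0z⟩
      · exact ⟨hx0zsq, hx0z1, hx0zz⟩
      · refine ⟨ha, ?_, ?_⟩
        · rintro rfl
          exact hc (by rw [one_mul, mul_one])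
        · rintro rfl
          exact hc (h.zc x0).symm
  rw [Nat.card_eq_fintype_card, Fintype.card_subtype, hI, Finset.card_insert_of_notMem,
    Finset.card_insert_of_notMem, hU0]
  · simp only [hU, Finset.mem_filter, Finset.mem_univ, true_and, not_and]
    intro hc
    exfalso
    apply hc
    rw [mul_assoc, ← h.zc x0, ← mul_assoc]
  · simp only [Finset.mem_insert, hU, Finset.mem_filter, Finset.mem_univ, true_and, not_or, not_and]
    refine ⟨hx0x0z, ?_⟩
    intro hc
    exact absurd trivial hc

end Count

section Four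

variable {P : Type*} [Group P] {z : P}

theorem xz_sq (h : ES P z) {x : P} (hx : x * x = 1) : (x * z) * (x * z) = 1 := by
  calc (x * z) * (x * z) = x * (z * x) * z := by simp only [mul_assoc]
    _ = x * (x * z) * z := by rw [h.zc x]
    _ = (x * x) * (z * z) := by simp only [mul_assoc]
    _ = 1 := by rw [hx, h.zz, one_mul]

theorem xz_ne_one (h : ES P z) {x : P} (hxz : x ≠ z) : x * z ≠ 1 := by
  intro h'
  apply hxz
  have : x * z = z * z := by rw [h', h.zz]
  exact mul_right_cancel this

theorem xz_ne_z (_h : ES P z) {x : P} (hx1 : x ≠ 1) : x * z ≠ z := by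
  intro h'
  apply hx1
  have : x * z = 1 * z := by rw [h', one_mul]
  exact mul_right_cancel this

theorem x_ne_xz (h : ES P z) (x : P) : x ≠ x * z := by
  intro h'
  apply h.z1
  have : x * 1 = x * z := by rw [mul_one]; exact h'
  exact (mul_left_cancel this).symm

/-- The four-group `{1, z, x, x z}` of a (possibly central) involution `x`. -/
def four (h : ES P z) (x : P) (hx : x * x = 1) : Subgroup P where
  carrier := {1, z, x, x * z}
  one_mem' := by simp
  mul_mem' := by
    have hx' : ∀ w : P, x * (x * w) = w := fun w => by rw [← mul_assoc, hx, one_mul]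
    intro a b ha hb
    simp only [Set.mem_insert_iff, Set.mem_singleton_iff] at ha hb ⊢
    rcases ha with ha | ha | ha | ha <;> rcases hb with hb | hb | hb | hb <;> rw [ha, hb] <;>
      simp [mul_assoc, h.zc x, h.zc', h.zz, h.zz', hx, hx']
  inv_mem' := by
    have hxi : x⁻¹ = x := inv_eq_of_mul_eq_one_left hx
    have hxzi : (x * z)⁻¹ = x * z := inv_eq_of_mul_eq_one_left (xz_sq h hx)
    intro a ha
    simp only [Set.mem_insert_iff, Set.mem_singleton_iff] at ha ⊢
    rcases ha with ha | ha | ha | ha <;> rw [ha]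
    · simp
    · simp [h.zinv]
    · simp [hxi]
    · simp [hxzi]

theorem mem_four (h : ES P z) (x : P) (hx : x * x = 1) (a : P) :
    a ∈ four h x hx ↔ a = 1 ∨ a = z ∨ a = x ∨ a = x * z := Iff.rfl

end Four

/-- The "singular points": elementary abelian subgroups of order four containing the centre. -/
def Sig (P : Type*) [Group P] : Type _ :=
  {A : Subgroup P // Subgroup.center P ≤ A ∧ Nat.card A = 4 ∧ ∀ a ∈ A, a * a = 1}

section Action

variable {P : Type*} [Group P]

theorem smul_aux (φ : MulAut P) (A : Sig P) :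
    Subgroup.center P ≤ A.1.map φ.toMonoidHom ∧ Nat.card (A.1.map φ.toMonoidHom) = 4 ∧
      ∀ a ∈ A.1.map φ.toMonoidHom, a * a = 1 := by
  refine ⟨?_, ?_, ?_⟩
  · have hchar : (Subgroup.center P).Characteristic := inferInstance
    have := Subgroup.characteristic_iff_map_eq.mp hchar φ
    calc Subgroup.center P = (Subgroup.center P).map φ.toMonoidHom := this.symm
      _ ≤ A.1.map φ.toMonoidHom := Subgroup.map_mono A.2.1
  · rw [Subgroup.card_map_of_injective φ.injective]
    exact A.2.2.1
  · rintro _ ⟨b, hb, rfl⟩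
    have := A.2.2.2 b hb
    simp only [MulEquiv.coe_toMonoidHom]
    rw [← map_mul, this, map_one]

noncomputable instance sigAction : MulAction (MulAut P) (Sig P) where
  smul φ A := ⟨A.1.map φ.toMonoidHom, smul_aux φ A⟩
  one_smul A := by
    apply Subtype.ext
    show A.1.map (1 : MulAut P).toMonoidHom = A.1
    ext x
    simp [Subgroup.mem_map]
  mul_smul φ ψ A := by
    apply Subtype.ext
    show A.1.map (φ * ψ).toMonoidHom = (A.1.map ψ.toMonoidHom).map φ.toMonoidHom
    ext x
    simp [Subgroup.mem_map]

theorem mem_smul (φ : MulAut P) (A : Sig P) (x : P) :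
    x ∈ (φ • A).1 ↔ ∃ a ∈ A.1, φ a = x := by
  show x ∈ A.1.map φ.toMonoidHom ↔ _
  simp [Subgroup.mem_map]

theorem apply_mem_smul (φ : MulAut P) (A : Sig P) {a : P} (ha : a ∈ A.1) : φ a ∈ (φ • A).1 :=
  (mem_smul φ A _).mpr ⟨a, ha, rfl⟩

end Action

section SigCount

variable {P : Type*} [Group P] [Finite P] {z : P}

theorem z_mem_sig (h : ES P z) (A : Sig P) : z ∈ A.1 :=
  A.2.1 (Subgroup.mem_center_iff.mpr (fun y => h.zc y))

omit [Finite P] in
theorem card_four (h : ES P z) {x : P} (hx1 : x ≠ 1) (hxz : x ≠ z) :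
    letI : DecidableEq P := Classical.decEq P
    ({1, z, x, x * z} : Finset P).card = 4 := by
  classical
  have h1 : (1 : P) ≠ z := h.z1.symm
  have h2 : (1 : P) ≠ x := hx1.symm
  have h3 : (1 : P) ≠ x * z := (xz_ne_one h hxz).symm
  have h5 : z ≠ x := hxz.symm
  have h6 : z ≠ x * z := (xz_ne_z h hx1).symm
  have h8 : x ≠ x * z := x_ne_xz h x
  rw [Finset.card_insert_of_notMem, Finset.card_insert_of_notMem, Finset.card_insert_of_notMem,
    Finset.card_singleton]
  · simp [h8]
  · simp [h5, h6]
  · simp [h1, h2, h3]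

theorem sig_mem_iff (h : ES P z) (A : Sig P) {x : P} (hxA : x ∈ A.1) (hx1 : x ≠ 1) (hxz : x ≠ z)
    (a : P) : a ∈ A.1 ↔ a = 1 ∨ a = z ∨ a = x ∨ a = x * z := by
  classical
  have : Fintype P := Fintype.ofFinite P
  constructor
  · intro ha
    have hT : ({1, z, x, x * z} : Finset P) = Finset.univ.filter (fun a => a ∈ A.1) := by
      apply Finset.eq_of_subset_of_card_le
      · intro t ht
        simp only [Finset.mem_insert, Finset.mem_singleton] at ht
        simp only [Finset.mem_filter, Finset.mem_univ, true_and]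
        rcases ht with rfl | rfl | rfl | rfl
        exacts [one_mem _, z_mem_sig h A, hxA, mul_mem hxA (z_mem_sig h A)]
      · rw [card_four h hx1 hxz, ← Fintype.card_subtype, ← Nat.card_eq_fintype_card]
        exact A.2.2.1.le
    have hmem : a ∈ Finset.univ.filter (fun a => a ∈ A.1) := by simp [ha]
    rw [← hT] at hmem
    simpa using hmem
  · rintro (rfl | rfl | rfl | rfl)
    exacts [one_mem _, z_mem_sig h A, hxA, mul_mem hxA (z_mem_sig h A)]

theorem sig_exists (h : ES P z) (A : Sig P) : ∃ x ∈ A.1, x ≠ 1 ∧ x ≠ z := by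
  classical
  by_contra hcon
  push Not at hcon
  have hle : Nat.card A.1 ≤ ({1, z} : Finset P).card := by
    apply card_le_finset
    intro a ha
    simp only [Finset.mem_insert, Finset.mem_singleton]
    by_cases ha1 : a = 1
    · exact Or.inl ha1
    · exact Or.inr (hcon a ha ha1)
  have h2 : ({1, z} : Finset P).card ≤ 2 := Finset.card_le_two
  have := A.2.2.1
  omega

theorem sig_ext (h : ES P z) {A B : Sig P} {x : P} (hxA : x ∈ A.1) (hxB : x ∈ B.1)
    (hx1 : x ≠ 1) (hxz : x ≠ z) : A = B :=
  Subtype.ext (Subgroup.ext fun a =>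
    (sig_mem_iff h A hxA hx1 hxz a).trans (sig_mem_iff h B hxB hx1 hxz a).symm)

/-- The singular point of a noncentral involution. -/
def fourSig (h : ES P z) (x : P) (hx : x * x = 1) (hx1 : x ≠ 1) (hxz : x ≠ z) : Sig P :=
  ⟨four h x hx, by
    classical
    refine ⟨?_, ?_, ?_⟩
    · intro c hc
      rw [mem_four]
      rcases h.cent c (fun y => Subgroup.mem_center_iff.mp hc y) with h' | h'
      · exact Or.inl h'
      · exact Or.inr (Or.inl h')
    · apply le_antisymm
      · rw [← card_four h hx1 hxz]
        apply card_le_finset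
        intro a ha
        simpa [mem_four] using ha
      · rw [← card_four h hx1 hxz]
        apply card_finset_le
        intro a ha
        simpa [mem_four] using ha
    · intro a ha
      rw [mem_four] at ha
      rcases ha with rfl | rfl | rfl | rfl
      exacts [one_mul 1, h.zz, hx, xz_sq h hx]⟩

theorem self_mem_fourSig (h : ES P z) (x : P) (hx : x * x = 1) (hx1 : x ≠ 1) (hxz : x ≠ z) :
    x ∈ (fourSig h x hx hx1 hxz).1 := by
  show x ∈ four h x hx
  rw [mem_four]; exact Or.inr (Or.inr (Or.inl rfl))

theorem card_sig (h : ES P z) (h32 : Nat.card P = 32)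
    (hminus : ∀ A : Subgroup P, Cfsg.IsElementaryAbelian 2 A → Nat.card ↥A ≤ 4) :
    Nat.card (Sig P) = 5 := by
  classical
  have : Fintype P := Fintype.ofFinite P
  have : Finite (Sig P) := by unfold Sig; infer_instance
  have : Fintype (Sig P) := Fintype.ofFinite _
  let I := {x : P // x * x = 1 ∧ x ≠ 1 ∧ x ≠ z}
  have hI : Fintype.card I = 10 := by
    rw [← Nat.card_eq_fintype_card]; exact card_invol h h32 hminus
  let f : I → Sig P := fun x => fourSig h x.1 x.2.1 x.2.2.1 x.2.2.2
  have hfib : ∀ A : Sig P, (Finset.univ.filter (fun x : I => f x = A)).card = 2 := by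
    intro A
    obtain ⟨x, hxA, hx1, hxz⟩ := sig_exists h A
    have hxx : x * x = 1 := A.2.2.2 x hxA
    rw [Finset.card_eq_two]
    refine ⟨⟨x, hxx, hx1, hxz⟩, ⟨x * z, xz_sq h hxx, xz_ne_one h hxz, xz_ne_z h hx1⟩, ?_, ?_⟩
    · intro h'
      exact x_ne_xz h x (congrArg Subtype.val h')
    · ext y
      simp only [Finset.mem_filter, Finset.mem_univ, true_and, Finset.mem_insert,
        Finset.mem_singleton]
      constructor
      · intro hy
        have hyA : y.1 ∈ A.1 := by
          rw [← hy]; exact self_mem_fourSig h y.1 y.2.1 y.2.2.1 y.2.2.2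
        rcases (sig_mem_iff h A hxA hx1 hxz y.1).mp hyA with h' | h' | h' | h'
        · exact absurd h' y.2.2.1
        · exact absurd h' y.2.2.2
        · exact Or.inl (Subtype.ext h')
        · exact Or.inr (Subtype.ext h')
      · rintro (rfl | rfl)
        · exact sig_ext h (self_mem_fourSig h x hxx hx1 hxz) hxA hx1 hxz
        · exact sig_ext h (self_mem_fourSig h (x * z) _ _ _)
            (mul_mem hxA (z_mem_sig h A)) (xz_ne_one h hxz) (xz_ne_z h hx1)
  have hsum := Finset.card_eq_sum_card_fiberwise (f := f) (s := Finset.univ) (t := Finset.univ)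
    (fun x _ => Finset.mem_univ _)
  simp only [hfib, Finset.sum_const, smul_eq_mul, Finset.card_univ] at hsum
  rw [hI] at hsum
  rw [Nat.card_eq_fintype_card]
  omega

end SigCount

section Tau

variable {P : Type*} [Group P] {z : P}

open Classical in
/-- The "transvection" attached to an element `a` with `a² = z`. -/
noncomputable def tauFun (a x : P) : P := if x * a = a * x then x else x * a

theorem tauFun_comm {a x : P} (hx : x * a = a * x) : tauFun a x = x := by
  unfold tauFun; rw [if_pos hx]

theorem tauFun_anti {a x : P} (hx : ¬ x * a = a * x) : tauFun a x = x * a := by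
  unfold tauFun; rw [if_neg hx]

theorem tauFun_mul (h : ES P z) {a : P} (ha : a * a = z) (x y : P) :
    tauFun a (x * y) = tauFun a x * tauFun a y := by
  by_cases hx : x * a = a * x <;> by_cases hy : y * a = a * y
  · have hxy : (x * y) * a = a * (x * y) := by
      rw [mul_assoc, hy, ← mul_assoc, hx, mul_assoc]
    rw [tauFun_comm hx, tauFun_comm hy, tauFun_comm hxy]
  · have hxy : ¬ (x * y) * a = a * (x * y) := by
      intro hcon
      apply hy
      have : x * (y * a) = x * (a * y) := by
        rw [← mul_assoc, hcon, ← mul_assoc, ← mul_assoc, hx]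
      exact mul_left_cancel this
    rw [tauFun_comm hx, tauFun_anti hy, tauFun_anti hxy, mul_assoc]
  · have hxy : ¬ (x * y) * a = a * (x * y) := by
      intro hcon
      apply hx
      have : (x * a) * y = (a * x) * y := by
        rw [mul_assoc, ← hy, ← mul_assoc, hcon, mul_assoc]
      exact mul_right_cancel this
    rw [tauFun_anti hx, tauFun_comm hy, tauFun_anti hxy, mul_assoc, hy, ← mul_assoc]
  · have hx' := h.anti_of_ne hx
    have hy' := h.anti_of_ne hy
    have hxy : (x * y) * a = a * (x * y) := by
      calc (x * y) * a = x * (y * a) := mul_assoc _ _ _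
        _ = x * (z * (a * y)) := by rw [hy']
        _ = z * ((x * a) * y) := by rw [h.zc', mul_assoc]
        _ = z * (z * (a * x) * y) := by rw [hx']
        _ = a * (x * y) := by simp only [mul_assoc, h.zz']
    rw [tauFun_anti hx, tauFun_anti hy, tauFun_comm hxy]
    have hay : a * y = z * (y * a) := h.comm_symm hy'
    calc x * y = x * (y * (z * z)) := by rw [h.zz, mul_one]
      _ = x * (z * (y * (a * a))) := by rw [ha, h.zc' y z]
      _ = x * ((z * (y * a)) * a) := by simp only [mul_assoc]
      _ = x * ((a * y) * a) := by rw [hay]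
      _ = x * a * (y * a) := by simp only [mul_assoc]

variable [Finite P]

/-- `tauFun a` as an automorphism. -/
noncomputable def tau (h : ES P z) {a : P} (ha : a * a = z) : MulAut P :=
  MulEquiv.ofBijective (MonoidHom.mk' (tauFun a) (tauFun_mul h ha)) (by
    have hinj : Function.Injective (MonoidHom.mk' (tauFun a) (tauFun_mul h ha)) := by
      rw [injective_iff_map_eq_one]
      intro x hx
      simp only [MonoidHom.mk'_apply] at hx
      by_cases hc : x * a = a * x
      · rwa [tauFun_comm hc] at hx
      · exfalso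
        rw [tauFun_anti hc] at hx
        apply hc
        have hxa : x = a⁻¹ := eq_inv_of_mul_eq_one_left hx
        rw [hxa, inv_mul_cancel, mul_inv_cancel]
    exact ⟨hinj, Finite.surjective_of_injective hinj⟩)

theorem tau_apply (h : ES P z) {a : P} (ha : a * a = z) (x : P) : tau h ha x = tauFun a x := rfl

end Tau

section Main

variable {P : Type*} [Group P] [Finite P] {z : P}

/-- Two noncentral involutions in different singular points anticommute. -/
theorem anti_of_ne_sig (h : ES P z)
    (hminus : ∀ A : Subgroup P, Cfsg.IsElementaryAbelian 2 A → Nat.card ↥A ≤ 4)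
    {A : Sig P} {x y : P} (hxA : x ∈ A.1) (hx1 : x ≠ 1) (hxz : x ≠ z)
    (hy : y * y = 1) (hy1 : y ≠ 1) (hyz : y ≠ z) (hyA : y ∉ A.1) : x * y = z * (y * x) := by
  apply h.anti_of_ne
  intro hc
  apply hyA
  have hxx : x * x = 1 := A.2.2.2 x hxA
  rcases eq_or_of_commute h hminus hxx hx1 hxz hy hy1 hyz hc with h' | h'
  · rw [h']; exact hxA
  · rw [h']; exact mul_mem hxA (z_mem_sig h A)

theorem exists_swap (h : ES P z)
    (hminus : ∀ A : Subgroup P, Cfsg.IsElementaryAbelian 2 A → Nat.card ↥A ≤ 4)
    (A B : Sig P) (hAB : A ≠ B) :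
    ∃ τ : MulAut P, τ • A = B ∧ τ • B = A ∧ ∀ C : Sig P, C ≠ A → C ≠ B → τ • C = C := by
  obtain ⟨x, hxA, hx1, hxz⟩ := sig_exists h A
  obtain ⟨y, hyB, hy1, hyz⟩ := sig_exists h B
  have hxx : x * x = 1 := A.2.2.2 x hxA
  have hyy : y * y = 1 := B.2.2.2 y hyB
  have hyA : y ∉ A.1 := fun hyA => hAB (sig_ext h hyA hyB hy1 hyz)
  have hxy : x * y = z * (y * x) := anti_of_ne_sig h hminus hxA hx1 hxz hyy hy1 hyz hyA
  have hyx : y * x = z * (x * y) := h.comm_symm hxy
  have hx' : ∀ w : P, x * (x * w) = w := fun w => by rw [← mul_assoc, hxx, one_mul]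
  have hy' : ∀ w : P, y * (y * w) = w := fun w => by rw [← mul_assoc, hyy, one_mul]
  have ha : (x * y) * (x * y) = z := by
    calc (x * y) * (x * y) = x * ((y * x) * y) := by simp only [mul_assoc]
      _ = x * ((z * (x * y)) * y) := by rw [hyx]
      _ = z := by simp only [mul_assoc, h.zc', hx', hyy, mul_one, hxx]
  refine ⟨tau h ha, ?_, ?_, ?_⟩
  · -- τ x = y
    have h1 : x * (x * y) = y := hx' y
    have h2 : (x * y) * x = z * y := by
      rw [mul_assoc, hyx, h.zc', hx']
    have hne : ¬ x * (x * y) = (x * y) * x := by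
      rw [h1, h2]
      intro hcon
      have : 1 * y = z * y := by rw [one_mul]; exact hcon
      exact h.z1 (mul_right_cancel this).symm
    have hτx : tau h ha x = y := by
      rw [tau_apply, tauFun_anti hne, h1]
    have : y ∈ (tau h ha • A).1 := by
      have := apply_mem_smul (tau h ha) A hxA
      rwa [hτx] at this
    exact sig_ext h this hyB hy1 hyz
  · -- τ y = z x
    have h1 : y * (x * y) = z * x := by
      rw [← mul_assoc, hyx, mul_assoc, mul_assoc, hyy, mul_one]
    have h2 : (x * y) * y = x := by rw [mul_assoc, hyy, mul_one]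
    have hne : ¬ y * (x * y) = (x * y) * y := by
      rw [h1, h2]
      intro hcon
      have : z * x = 1 * x := by rw [one_mul]; exact hcon
      exact h.z1 (mul_right_cancel this)
    have hτy : tau h ha y = z * x := by
      rw [tau_apply, tauFun_anti hne, h1]
    have hmem : z * x ∈ (tau h ha • B).1 := by
      have := apply_mem_smul (tau h ha) B hyB
      rwa [hτy] at this
    have hzxA : z * x ∈ A.1 := mul_mem (z_mem_sig h A) hxA
    have hzx1 : z * x ≠ 1 := by
      rw [← h.zc]; exact xz_ne_one h hxz
    have hzxz : z * x ≠ z := by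
      rw [← h.zc]; exact xz_ne_z h hx1
    exact sig_ext h hmem hzxA hzx1 hzxz
  · intro C hCA hCB
    obtain ⟨w, hwC, hw1, hwz⟩ := sig_exists h C
    have hww : w * w = 1 := C.2.2.2 w hwC
    have hwA : w ∉ A.1 := fun hwA => hCA (sig_ext h hwC hwA hw1 hwz)
    have hwB : w ∉ B.1 := fun hwB => hCB (sig_ext h hwC hwB hw1 hwz)
    have hxw : x * w = z * (w * x) := anti_of_ne_sig h hminus hxA hx1 hxz hww hw1 hwz hwA
    have hyw : y * w = z * (w * y) := anti_of_ne_sig h hminus hyB hy1 hyz hww hw1 hwz hwB
    have hwx : w * x = z * (x * w) := h.comm_symm hxw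
    have hwy : w * y = z * (y * w) := h.comm_symm hyw
    have hc : w * (x * y) = (x * y) * w := by
      calc w * (x * y) = (w * x) * y := (mul_assoc _ _ _).symm
        _ = z * (x * (w * y)) := by rw [hwx]; simp only [mul_assoc]
        _ = z * (x * (z * (y * w))) := by rw [hwy]
        _ = (x * y) * w := by simp only [mul_assoc, h.zc', h.zz']
    have hτw : tau h ha w = w := by
      rw [tau_apply, tauFun_comm hc]
    have : w ∈ (tau h ha • C).1 := by
      have := apply_mem_smul (tau h ha) C hwC
      rwa [hτw] at this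
    exact sig_ext h this hwC hw1 hwz

theorem inner_smul (h : ES P z) (q : P) (A : Sig P) : MulAut.conj q • A = A := by
  obtain ⟨x, hxA, hx1, hxz⟩ := sig_exists h A
  have hmem := apply_mem_smul (MulAut.conj q) A hxA
  rw [MulAut.conj_apply] at hmem
  rcases h.comm q x with hc | hc
  · have : q * x * q⁻¹ = x := by rw [hc, mul_assoc, mul_inv_cancel, mul_one]
    rw [this] at hmem
    exact sig_ext h hmem hxA hx1 hxz
  · have : q * x * q⁻¹ = z * x := by
      rw [hc, mul_assoc, mul_assoc, mul_inv_cancel, mul_one]
    rw [this] at hmem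
    have hzxA : z * x ∈ A.1 := mul_mem (z_mem_sig h A) hxA
    have hzx1 : z * x ≠ 1 := by
      rw [← h.zc]; exact xz_ne_one h hxz
    have hzxz : z * x ≠ z := by
      rw [← h.zc]; exact xz_ne_z h hx1
    exact sig_ext h hmem hzxA hzx1 hzxz

theorem closure_invol (h : ES P z) (h32 : Nat.card P = 32)
    (hminus : ∀ A : Subgroup P, Cfsg.IsElementaryAbelian 2 A → Nat.card ↥A ≤ 4) :
    Subgroup.closure {x : P | x * x = 1 ∧ x ≠ 1 ∧ x ≠ z} = ⊤ := by
  classical
  set M := Subgroup.closure {x : P | x * x = 1 ∧ x ≠ 1 ∧ x ≠ z} with hM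
  have hIM : ∀ x : P, x * x = 1 → x ≠ 1 → x ≠ z → x ∈ M := fun x h1 h2 h3 =>
    Subgroup.subset_closure ⟨h1, h2, h3⟩
  -- two distinct singular points
  have hcard := card_sig h h32 hminus
  have : Finite (Sig P) := Nat.finite_of_card_ne_zero (by omega)
  have hnt : Nontrivial (Sig P) := by
    rw [← Finite.one_lt_card_iff_nontrivial]; omega
  obtain ⟨A, B, hAB⟩ := exists_pair_ne (Sig P)
  obtain ⟨x, hxA, hx1, hxz⟩ := sig_exists h A
  obtain ⟨y, hyB, hy1, hyz⟩ := sig_exists h B
  have hxx : x * x = 1 := A.2.2.2 x hxA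
  have hyy : y * y = 1 := B.2.2.2 y hyB
  have hyA : y ∉ A.1 := fun hyA => hAB (sig_ext h hyA hyB hy1 hyz)
  have hxy : x * y = z * (y * x) := anti_of_ne_sig h hminus hxA hx1 hxz hyy hy1 hyz hyA
  have hxM := hIM x hxx hx1 hxz
  have hyM := hIM y hyy hy1 hyz
  have hzM : z ∈ M := by
    have : z = (x * y) * (y * x)⁻¹ := by
      rw [hxy, mul_assoc, mul_inv_cancel, mul_one]
    rw [this]
    exact mul_mem (mul_mem hxM hyM) (inv_mem (mul_mem hyM hxM))
  have hsqM : ∀ w : P, w * w = 1 → w ∈ M := by
    intro w hw
    by_cases hw1 : w = 1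
    · rw [hw1]; exact one_mem _
    by_cases hwz : w = z
    · rw [hwz]; exact hzM
    exact hIM w hw hw1 hwz
  by_contra hne
  obtain ⟨g, hg⟩ : ∃ g : P, g ∉ M := by
    by_contra hcon
    push Not at hcon
    exact hne (eq_top_iff.mpr fun a _ => hcon a)
  -- elements outside M commute with all noncentral involutions
  have hout : ∀ w : P, w ∉ M → ∀ v : P, v * v = 1 → v ≠ 1 → v ≠ z → w * v = v * w := by
    intro w hw v hvv hv1 hvz
    by_contra hc
    have hanti := h.anti_of_ne hc
    have hwsq : w * w = z := by
      rcases h.sq w with h' | h'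
      · exact absurd (hsqM w h') hw
      · exact h'
    have : (w * v) * (w * v) = 1 := by
      rw [h.sq_mul_anti hvv hanti, hwsq, h.zz]
    have hwv := hsqM _ this
    apply hw
    have : w = (w * v) * v⁻¹ := by rw [mul_assoc, mul_inv_cancel, mul_one]
    rw [this]
    exact mul_mem hwv (inv_mem (hIM v hvv hv1 hvz))
  obtain ⟨w, hw⟩ := h.noncentral hx1 hxz
  by_cases hwM : w ∈ M
  · have hgw : g * w ∉ M := by
      intro hcon
      apply hg
      have : g = (g * w) * w⁻¹ := by rw [mul_assoc, mul_inv_cancel, mul_one]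
      rw [this]
      exact mul_mem hcon (inv_mem hwM)
    have h1 := hout (g * w) hgw x hxx hx1 hxz
    have h2 := hout g hg x hxx hx1 hxz
    apply hw
    have : g * (w * x) = g * (x * w) := by
      rw [← mul_assoc, h1, ← mul_assoc, ← h2, mul_assoc]
    exact mul_left_cancel this
  · exact hw (hout w hwM x hxx hx1 hxz)

theorem mem_range_conj_of_fix (h : ES P z) (h32 : Nat.card P = 32)
    (hminus : ∀ A : Subgroup P, Cfsg.IsElementaryAbelian 2 A → Nat.card ↥A ≤ 4)
    (hcard : Nat.card (Subgroup.center P) = 2)
    (φ : MulAut P) (hφ : ∀ A : Sig P, φ • A = A) :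
    φ ∈ (MulAut.conj : P →* MulAut P).range := by
  have hzcen : z ∈ Subgroup.center P := Subgroup.mem_center_iff.mpr (fun y => h.zc y)
  have hcen : ∀ c : P, c = 1 ∨ c = z → c ∈ Subgroup.center P := by
    rintro c (rfl | rfl)
    exacts [one_mem _, hzcen]
  -- φ z = z
  have hφz : φ z = z := by
    have hc : ∀ y : P, y * φ z = φ z * y := by
      intro y
      have : y = φ (φ.symm y) := (φ.apply_symm_apply y).symm
      rw [this, ← map_mul, ← map_mul, h.zc]
    rcases h.cent _ hc with h' | h'
    · exfalso
      apply h.z1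
      have : φ z = φ 1 := by rw [h', map_one]
      exact φ.injective this
    · exact h'
  -- noncentral involutions move inside their coset
  have hinv : ∀ x : P, x * x = 1 → x ≠ 1 → x ≠ z → x⁻¹ * φ x ∈ Subgroup.center P := by
    intro x hxx hx1 hxz
    have hmem := apply_mem_smul φ (fourSig h x hxx hx1 hxz) (self_mem_fourSig h x hxx hx1 hxz)
    rw [hφ] at hmem
    have hxi : x⁻¹ = x := inv_eq_of_mul_eq_one_left hxx
    rcases (mem_four h x hxx (φ x)).mp hmem with h' | h' | h' | h'
    · exfalso; apply hx1
      have : φ x = φ 1 := by rw [h', map_one]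
      exact φ.injective this
    · exfalso; apply hxz
      have : φ x = φ z := by rw [h', hφz]
      exact φ.injective this
    · rw [h', inv_mul_cancel]; exact one_mem _
    · rw [h', ← mul_assoc, inv_mul_cancel, one_mul]; exact hzcen
  have hall : ∀ y : P, y⁻¹ * φ y ∈ Subgroup.center P := by
    intro y
    have hy : y ∈ Subgroup.closure {x : P | x * x = 1 ∧ x ≠ 1 ∧ x ≠ z} := by
      rw [closure_invol h h32 hminus]; exact Subgroup.mem_top _
    induction hy using Subgroup.closure_induction with
    | mem a ha => exact hinv a ha.1 ha.2.1 ha.2.2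
    | one => simp
    | mul a b _ _ iha ihb =>
      have : (a * b)⁻¹ * φ (a * b) = (a⁻¹ * φ a) * (b⁻¹ * φ b) := by
        rw [map_mul, mul_inv_rev]
        have hc := Subgroup.mem_center_iff.mp iha b⁻¹
        calc b⁻¹ * a⁻¹ * (φ a * φ b) = (b⁻¹ * (a⁻¹ * φ a)) * φ b := by simp only [mul_assoc]
          _ = ((a⁻¹ * φ a) * b⁻¹) * φ b := by rw [hc]
          _ = (a⁻¹ * φ a) * (b⁻¹ * φ b) := by simp only [mul_assoc]
      rw [this]
      exact mul_mem iha ihb
    | inv a _ iha =>
      have : (a⁻¹)⁻¹ * φ a⁻¹ = (a⁻¹ * φ a)⁻¹ := by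
        rw [map_inv, mul_inv_rev, inv_inv]
        have hc := Subgroup.mem_center_iff.mp (inv_mem iha) a
        rw [mul_inv_rev, inv_inv] at hc
        -- hc : a * ((φ a)⁻¹ * a) = (φ a)⁻¹ * a * a
        have : a * (φ a)⁻¹ = (a * ((φ a)⁻¹ * a)) * a⁻¹ := by
          simp only [mul_assoc, mul_inv_cancel, mul_one]
        rw [this, hc]
        simp only [mul_assoc, mul_inv_cancel, mul_one]
      rw [this]
      exact inv_mem iha
  have hcomm : ∀ a b : P, a * b * a⁻¹ * b⁻¹ ∈ Subgroup.center P := by
    intro a b
    apply hcen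
    rcases h.comm a b with hc | hc
    · left
      rw [hc]; group
    · right
      rw [hc]
      simp only [mul_assoc, mul_inv_cancel, mul_one]
  obtain ⟨q₀, hq₀⟩ := Cfsg.Agent.S1756.central_aut_inner hcomm hcard φ.toMonoidHom hall
    (by
      intro y hy
      rcases h.cent y (fun w => Subgroup.mem_center_iff.mp hy w) with h' | h'
      · rw [h']; simp
      · rw [h']; exact hφz)
  refine ⟨q₀, ?_⟩
  ext y
  rw [MulAut.conj_apply]
  exact (hq₀ y).symm

end Main

/-- Let P be an extraspecial 2-group of order 32 with no elementary abelian subgroup of order 8 (the central product of a dihedral and a quaternion group of order 8). Then the inner automorphism group of P has order 16 and the outer automorphism group Aut(P)/Inn(P) is isomorphic to the symmetric group of degree 5; in particular Aut(P) has order 1920. -/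
theorem result {P : Type*} [Group P] [Finite P]
    (hex : Cfsg.IsExtraspecial 2 P) (h32 : Nat.card P = 32)
    (hminus : ∀ A : Subgroup P, Cfsg.IsElementaryAbelian 2 A → Nat.card ↥A ≤ 4)
    [(MulAut.conj : P →* MulAut P).range.Normal] :
    Nat.card ↥(MulAut.conj : P →* MulAut P).range = 16 ∧ Nat.card (MulAut P) = 1920 ∧
      Nonempty ((MulAut P ⧸ (MulAut.conj : P →* MulAut P).range) ≃* Equiv.Perm (Fin 5)) := by
  classical
  obtain ⟨z, h⟩ := exists_ES hex
  have hcardZ : Nat.card (Subgroup.center P) = 2 := hex.2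
  -- inner automorphisms
  have hker : (MulAut.conj : P →* MulAut P).ker = Subgroup.center P := by
    ext g
    rw [MonoidHom.mem_ker, Subgroup.mem_center_iff]
    constructor
    · intro hg y
      have := congrArg (fun f : MulAut P => f y) hg
      simp only [MulAut.conj_apply, MulAut.one_apply] at this
      calc y * g = (g * y * g⁻¹) * g := by rw [this]
        _ = g * y := by simp only [mul_assoc, inv_mul_cancel, mul_one]
    · intro hg
      ext y
      rw [MulAut.conj_apply, MulAut.one_apply, ← hg y, mul_assoc, mul_inv_cancel, mul_one]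
  have hinn : Nat.card ↥(MulAut.conj : P →* MulAut P).range = 16 := by
    rw [← Subgroup.index_ker, hker]
    have := Subgroup.card_mul_index (Subgroup.center P)
    rw [hcardZ, h32] at this
    omega
  -- the action on singular points
  let ρ : MulAut P →* Equiv.Perm (Sig P) := MulAction.toPermHom (MulAut P) (Sig P)
  have hρ : ∀ (φ : MulAut P) (A : Sig P), ρ φ A = φ • A := fun _ _ => rfl
  have hkerρ : ρ.ker = (MulAut.conj : P →* MulAut P).range := by
    ext φ
    rw [MonoidHom.mem_ker]
    constructor
    · intro hφ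
      apply mem_range_conj_of_fix h h32 hminus hcardZ
      intro A
      rw [← hρ, hφ]; rfl
    · rintro ⟨q, rfl⟩
      ext A
      rw [hρ, inner_smul h q A]; rfl
  have hcardS : Nat.card (Sig P) = 5 := card_sig h h32 hminus
  have : Finite (Sig P) := Nat.finite_of_card_ne_zero (by omega)
  have hsurj : Function.Surjective ρ := by
    rw [← MonoidHom.range_eq_top, eq_top_iff, ← Equiv.Perm.closure_isSwap, Subgroup.closure_le]
    rintro σ ⟨A, B, hAB, rfl⟩
    obtain ⟨τ, hτA, hτB, hτC⟩ := exists_swap h hminus A B hAB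
    refine ⟨τ, ?_⟩
    ext C
    rw [hρ, Equiv.swap_apply_def]
    split_ifs with h1 h2
    · rw [h1, hτA]
    · rw [h2, hτB]
    · exact hτC C h1 h2
  have e : (MulAut P ⧸ (MulAut.conj : P →* MulAut P).range) ≃* Equiv.Perm (Fin 5) :=
    ((QuotientGroup.quotientMulEquivOfEq hkerρ.symm).trans
      (QuotientGroup.quotientKerEquivOfSurjective ρ hsurj)).trans
      (Finite.equivFinOfCardEq hcardS).permCongrHom
  refine ⟨hinn, ?_, ⟨e⟩⟩
  rw [Subgroup.card_eq_card_quotient_mul_card_subgroup (MulAut.conj : P →* MulAut P).range,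
    hinn, Nat.card_congr e.toEquiv, Nat.card_eq_fintype_card, Fintype.card_perm, Fintype.card_fin]
  rfl

end Cfsg.Agent.S4413
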