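import Cfsg.Statements.S4487
import Cfsg.Agent.Lib.Helper82.BlockInflation
import Cfsg.Agent.Lib.Helper82.NormalPSupport
import Cfsg.Agent.Lib.Helper1.PCore

set_option autoImplicit false
open Cfsg

namespace Cfsg.Agent.S4487

set_option linter.style.haveILetI false

open Cfsg.Agent.Lib.Helper16 Cfsg.Agent.Lib.Helper78 Cfsg.Agent.Lib.Helper82

/-- Let G be a finite group and p a prime such that G has no non-trivial normal subgroup of order prime to p and C_G(O_p(G)) ≤ O_p(G). Then G has a single p-block: any two irreducible characters lie in the same block relative to every maximal ideal M of the algebraic integers containing p. -/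
theorem result {G : Type*} [Group G] [Finite G] (p : ℕ) [Fact p.Prime] (M : Ideal Cfsg.AlgInt) (hM : Cfsg.IsPModular p M) (hcore : Cfsg.pPrimeCore p G = ⊥) (hconstr : Subgroup.centralizer ((Cfsg.pCore p G) : Set G) ≤ Cfsg.pCore p G) (χ ψ : Cfsg.IrrCharacter G) : Cfsg.SameBlock M (χ : G → ℂ) (ψ : G → ℂ) := by
  classical
  haveI : Fintype G := Fintype.ofFinite G
  haveI := isPModular_isPrime hM
  have hMtop : M ≠ ⊤ := (isPModular_isPrime hM).ne_top
  have hp : p.Prime := Fact.out
  haveI hPn : (pCore p G).Normal := Cfsg.Agent.Lib.Helper1.pCore_normal p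
  have hPp : IsPGroup p (pCore p G) := Cfsg.Agent.Lib.Helper1.pCore_isPGroup p
  apply sameBlock_of_forall_support hM χ ψ
  intro g
  by_cases hg : p ∣ orderOf g
  · left
    rw [blockCoeff_eq_zero_of_pSingular hM (isPBlock_blockOf χ) g hg]
    exact memLocalIdeal_zero hMtop
  by_cases hgc : g ∈ Subgroup.centralizer (pCore p G : Set G)
  · right
    -- `g` is a `p`-regular element of a `p`-group
    have hgP : g ∈ pCore p G := hconstr hgc
    obtain ⟨k, hk⟩ := hPp ⟨g, hgP⟩
    have hk' : g ^ (p ^ k) = 1 := by
      have := congrArg Subtype.val hk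
      simpa using this
    have h1 : orderOf g ∣ p ^ k := orderOf_dvd_of_pow_eq_one hk'
    obtain ⟨j, _, hj⟩ := (Nat.dvd_prime_pow hp).mp h1
    have hj0 : j = 0 := by
      by_contra hne
      apply hg
      rw [hj]
      exact dvd_pow_self p hne
    rw [hj0, pow_zero, orderOf_eq_one_iff] at hj
    subst hj
    have e : centralChar (χ : G → ℂ) 1 - centralChar (ψ : G → ℂ) 1 = 0 := by
      unfold centralChar
      have h1 : (χ : G → ℂ) 1 ≠ 0 := Cfsg.Agent.Lib.Helper79.irr_apply_one_ne_zero χ
      have h2 : (ψ : G → ℂ) 1 ≠ 0 := Cfsg.Agent.Lib.Helper79.irr_apply_one_ne_zero ψ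
      rw [mul_div_assoc, mul_div_assoc, div_self h1, div_self h2, sub_self]
    rw [e]
    exact memLocalIdeal_zero hMtop
  · left
    exact blockCoeff_memLocalIdeal_of_not_mem_centralizer hM (pCore p G) hPp (isPBlock_blockOf χ) g hgc

end Cfsg.Agent.S4487
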