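import Cfsg.Statements.S2364
-- import your own Cfsg.Agent.* helpers here
import Mathlib
import Cfsg.Agent.Lib.Helper40.SylowSL

set_option autoImplicit false
open Cfsg

namespace Cfsg.Agent.S2364

open Module

section fpf
variable {F : Type*} [Field F] [Fintype F] {W : Type*} [AddCommGroup W] [Module F W]
  [FiniteDimensional F W]

/-- fixed-point-free action of an element of prime order `r`: `q ^ dim ≡ 1 mod r` -/
theorem pow_finrank_modEq_one (r : ℕ) [Fact r.Prime] (S : Module.End F W) (hS : S ^ r = 1)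
    (hfix : ∀ v, S v = v → v = 0) : Fintype.card F ^ Module.finrank F W ≡ 1 [MOD r] := by
  classical
  have : Finite W := Module.finite_of_finite F
  have : Fintype W := Fintype.ofFinite W
  let f : Function.End W := fun v => S v
  have hf : (f : Function.End W) ^ r ^ 1 = (1 : Function.End W) := by
    rw [pow_one]
    funext v
    have h1 : ((f : Function.End W) ^ r) v = f^[r] v := rfl
    have h2 : (S ^ r) v = (⇑S)^[r] v := Module.End.pow_apply S r v
    rw [h1]
    change (⇑S)^[r] v = v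
    rw [← h2, hS]
    rfl
  have h1 := Equiv.Perm.card_fixedPoints_modEq (p := r) (n := 1) hf
  have h2 : Fintype.card (Function.fixedPoints f) = 1 := by
    rw [Fintype.card_eq_one_iff]
    refine ⟨⟨0, map_zero S⟩, ?_⟩
    rintro ⟨v, hv⟩
    exact Subtype.ext (hfix v hv)
  rw [h2, Module.card_eq_pow_finrank (K := F) (V := W)] at h1
  exact h1

/-- submodule version -/
theorem pow_finrank_submodule_modEq_one (r : ℕ) [Fact r.Prime] (S : Module.End F W)
    (hS : S ^ r = 1) (hfix : ∀ v, S v = v → v = 0) (U : Submodule F W)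
    (hU : ∀ v ∈ U, S v ∈ U) : Fintype.card F ^ Module.finrank F U ≡ 1 [MOD r] := by
  apply pow_finrank_modEq_one r (S.restrict hU)
  · rw [Module.End.pow_restrict r hU]
    apply LinearMap.ext
    intro v
    apply Subtype.ext
    rw [LinearMap.restrict_apply]
    simp only [hS, Module.End.one_apply]
  · intro v hv
    apply Subtype.ext
    apply hfix
    have := congrArg Subtype.val hv
    exact this

/-- an invariant nonzero submodule has dimension at least two, if `r ∤ q - 1` -/
theorem two_le_finrank_of_invariant (r : ℕ) [Fact r.Prime] (hrq : ¬ r ∣ Fintype.card F - 1)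
    (S : Module.End F W)
    (hS : S ^ r = 1) (hfix : ∀ v, S v = v → v = 0) (U : Submodule F W)
    (hU : ∀ v ∈ U, S v ∈ U) (hU0 : U ≠ ⊥) : 2 ≤ Module.finrank F U := by
  have h1 := pow_finrank_submodule_modEq_one r S hS hfix U hU
  have h2 : Module.finrank F U ≠ 0 := fun h => hU0 (Submodule.finrank_eq_zero.mp h)
  by_contra hlt
  have h3 : Module.finrank F U = 1 := by omega
  rw [h3, pow_one] at h1
  apply hrq
  exact (Nat.modEq_iff_dvd' Fintype.card_pos).mp h1.symm

/-- whole-module version -/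
theorem two_le_finrank_of_fpf (r : ℕ) [Fact r.Prime] (hrq : ¬ r ∣ Fintype.card F - 1)
    (S : Module.End F W) (hS : S ^ r = 1) (hfix : ∀ v, S v = v → v = 0)
    (hW : Module.finrank F W ≠ 0) : 2 ≤ Module.finrank F W := by
  have h1 := pow_finrank_modEq_one r S hS hfix
  by_contra hlt
  have h3 : Module.finrank F W = 1 := by omega
  rw [h3, pow_one] at h1
  apply hrq
  exact (Nat.modEq_iff_dvd' Fintype.card_pos).mp h1.symm

/-- Case B: a nilpotent nonzero endomorphism commuting with a fixed-point-free `S`. -/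
theorem exists_dim_of_fpf_nilpotent (r : ℕ) [Fact r.Prime] (hrq : ¬ r ∣ Fintype.card F - 1)
    (S N : Module.End F W) (hS : S ^ r = 1) (hfix : ∀ v, S v = v → v = 0)
    (hN : IsNilpotent N) (hN0 : N ≠ 0) (hSN : Commute S N) :
    ∃ j, 2 ≤ j ∧ j + 2 ≤ Module.finrank F W ∧ Fintype.card F ^ j ≡ 1 [MOD r] := by
  have hker : ∀ v ∈ LinearMap.ker N, S v ∈ LinearMap.ker N := by
    intro v hv
    rw [LinearMap.mem_ker] at hv ⊢
    have h1 : N (S v) = S (N v) := by
      rw [← Module.End.mul_apply, ← Module.End.mul_apply, hSN.eq]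
    rw [h1, hv, map_zero]
  have hrange : ∀ v ∈ LinearMap.range N, S v ∈ LinearMap.range N := by
    rintro v ⟨w, rfl⟩
    refine ⟨S w, ?_⟩
    rw [← Module.End.mul_apply, ← Module.End.mul_apply, hSN.eq]
  have hrange0 : LinearMap.range N ≠ ⊥ := by
    intro h
    exact hN0 (LinearMap.range_eq_bot.mp h)
  have hker0 : LinearMap.ker N ≠ ⊥ := by
    intro h
    obtain ⟨k, hk⟩ := hN
    have hinj : Function.Injective N := LinearMap.ker_eq_bot.mp h
    have hinjk : Function.Injective (⇑(N ^ k)) := by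
      rw [Module.End.coe_pow]
      exact hinj.iterate k
    apply hN0
    apply LinearMap.ext
    intro v
    apply hinjk
    rw [hk, LinearMap.zero_apply, LinearMap.zero_apply]
  have h1 := two_le_finrank_of_invariant r hrq S hS hfix _ hker hker0
  have h2 := two_le_finrank_of_invariant r hrq S hS hfix _ hrange hrange0
  have h3 := LinearMap.finrank_range_add_finrank_ker N
  refine ⟨Module.finrank F (LinearMap.ker N), h1, by omega, ?_⟩
  exact pow_finrank_submodule_modEq_one r S hS hfix _ hker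

/-- The main linear algebra statement. -/
theorem exists_dim_of_commuting (r : ℕ) [Fact r.Prime] (hrq : ¬ r ∣ Fintype.card F - 1)
    (hrF : (r : F) ≠ 0)
    (S N : Module.End F W) (hS : S ^ r = 1) (hS1 : S ≠ 1)
    (hN : IsNilpotent N) (hN0 : N ≠ 0) (hSN : Commute S N) :
    ∃ j, 2 ≤ j ∧ j + 2 ≤ Module.finrank F W ∧ Fintype.card F ^ j ≡ 1 [MOD r] := by
  classical
  set P := LinearMap.ker (S - 1) with hP
  set R := LinearMap.range (S - 1) with hR
  have hmemP : ∀ v, v ∈ P ↔ S v = v := by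
    intro v
    rw [hP, LinearMap.mem_ker, LinearMap.sub_apply, Module.End.one_apply, sub_eq_zero]
  -- disjointness
  have hdisj : Disjoint P R := by
    rw [Submodule.disjoint_def]
    intro v hvP hvR
    have hT : (∑ i ∈ Finset.range r, S ^ i) * (S - 1) = 0 := by
      rw [geom_sum_mul, hS, sub_self]
    obtain ⟨w, rfl⟩ := hvR
    have h1 : (∑ i ∈ Finset.range r, S ^ i) ((S - 1) w) = 0 := by
      rw [← Module.End.mul_apply, hT, LinearMap.zero_apply]
    have hSv := (hmemP _).mp hvP
    have h2 : ∀ i : ℕ, (S ^ i) ((S - 1) w) = (S - 1) w := by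
      intro i
      induction i with
      | zero => rfl
      | succ i ih => rw [pow_succ, Module.End.mul_apply, hSv, ih]
    rw [LinearMap.sum_apply, Finset.sum_congr rfl (fun i _ => h2 i), Finset.sum_const,
      Finset.card_range, ← Nat.cast_smul_eq_nsmul F] at h1
    rcases smul_eq_zero.mp h1 with h | h
    · exact absurd h hrF
    · exact h
  have hdim : Module.finrank F R + Module.finrank F P = Module.finrank F W :=
    LinearMap.finrank_range_add_finrank_ker (S - 1)
  have hsup : P ⊔ R = ⊤ := Submodule.eq_top_of_disjoint P R (by omega) hdisj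
  -- invariance
  have hSR : ∀ v ∈ R, S v ∈ R := by
    rintro v ⟨w, rfl⟩
    refine ⟨S w, ?_⟩
    simp only [LinearMap.sub_apply, Module.End.one_apply, map_sub]
  have hcomm : Commute (S - 1) N := (hSN.sub_left (Commute.one_left N))
  have hNR : ∀ v ∈ R, N v ∈ R := by
    rintro v ⟨w, rfl⟩
    refine ⟨N w, ?_⟩
    rw [← Module.End.mul_apply, ← Module.End.mul_apply, hcomm.eq]
  have hNP : ∀ v ∈ P, N v ∈ P := by
    intro v hv
    rw [hP, LinearMap.mem_ker] at hv ⊢
    rw [← Module.End.mul_apply, hcomm.eq, Module.End.mul_apply, hv, map_zero]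
  have hSRpow : (S.restrict hSR) ^ r = 1 := by
    rw [Module.End.pow_restrict r hSR]
    apply LinearMap.ext
    intro v
    apply Subtype.ext
    rw [LinearMap.restrict_apply]
    simp only [hS, Module.End.one_apply]
  have hSRfix : ∀ v : R, (S.restrict hSR) v = v → v = 0 := by
    intro v hv
    have h1 : S v.1 = v.1 := congrArg Subtype.val hv
    have h2 : v.1 ∈ P := (hmemP _).mpr h1
    apply Subtype.ext
    exact Submodule.disjoint_def.mp hdisj v.1 h2 v.2
  have hR0 : Module.finrank F R ≠ 0 := by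
    intro h
    have h1 : R = ⊥ := Submodule.finrank_eq_zero.mp h
    apply hS1
    have h2 : S - 1 = 0 := LinearMap.range_eq_bot.mp h1
    exact sub_eq_zero.mp h2
  by_cases hcase : N.restrict hNR = 0
  · -- `N` vanishes on `R`
    have hNRz : ∀ v ∈ R, N v = 0 := by
      intro v hv
      have := congrArg (fun f : Module.End F R => (f ⟨v, hv⟩ : W)) hcase
      exact this
    have hP2 : 2 ≤ Module.finrank F P := by
      by_contra hlt
      have hle : Module.finrank F P ≤ 1 := by omega
      obtain ⟨v₀, hv₀⟩ := finrank_le_one_iff.mp hle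
      apply hN0
      apply LinearMap.ext
      intro v
      have hv : v ∈ P ⊔ R := by rw [hsup]; trivial
      obtain ⟨a, ha, b, hb, rfl⟩ := Submodule.mem_sup.mp hv
      rw [map_add, hNRz b hb, add_zero, LinearMap.zero_apply]
      obtain ⟨c₁, hc₁⟩ := hv₀ ⟨a, ha⟩
      obtain ⟨c₂, hc₂⟩ := hv₀ ⟨N v₀.1, hNP _ v₀.2⟩
      have hc₂' : N v₀.1 = c₂ • v₀.1 := (congrArg Subtype.val hc₂).symm
      have hc₁' : a = c₁ • v₀.1 := (congrArg Subtype.val hc₁).symm
      obtain ⟨k, hk⟩ := hN
      have hpow : ∀ i : ℕ, (N ^ i) v₀.1 = c₂ ^ i • v₀.1 := by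
        intro i
        induction i with
        | zero => simp
        | succ i ih => rw [pow_succ, Module.End.mul_apply, hc₂', map_smul, ih, smul_smul, pow_succ']
      have h3 := hpow k
      rw [hk, LinearMap.zero_apply] at h3
      rcases smul_eq_zero.mp h3.symm with h | h
      · have hc0 : c₂ = 0 := IsNilpotent.eq_zero ⟨k, h⟩
        rw [hc₁', map_smul, hc₂', hc0, zero_smul, smul_zero]
      · rw [hc₁', h, smul_zero, map_zero]
    have h2 := two_le_finrank_of_fpf r hrq (S.restrict hSR) hSRpow hSRfix hR0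
    exact ⟨Module.finrank F R, h2, by omega, pow_finrank_modEq_one r _ hSRpow hSRfix⟩
  · -- `N` nonzero on `R`
    have hnil : IsNilpotent (N.restrict hNR) := by
      obtain ⟨k, hk⟩ := hN
      refine ⟨k, ?_⟩
      rw [Module.End.pow_restrict k hNR]
      apply LinearMap.ext
      intro v
      apply Subtype.ext
      rw [LinearMap.restrict_apply]
      simp only [hk, LinearMap.zero_apply, ZeroMemClass.coe_zero]
    have hc : Commute (S.restrict hSR) (N.restrict hNR) := by
      apply LinearMap.ext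
      intro v
      apply Subtype.ext
      change S (N v.1) = N (S v.1)
      rw [← Module.End.mul_apply, ← Module.End.mul_apply, hSN.eq]
    obtain ⟨j, hj2, hjle, hj⟩ := exists_dim_of_fpf_nilpotent r hrq (S.restrict hSR)
      (N.restrict hNR) hSRpow hSRfix hnil hcase hc
    have hle : Module.finrank F R ≤ Module.finrank F W := Submodule.finrank_le R
    exact ⟨j, hj2, by omega, hj⟩

end fpf

section mat
variable {F : Type*} [Field F] [Fintype F]

/-- matrix form of the linear algebra statement -/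
theorem exists_dim_of_commuting_matrix (r : ℕ) [Fact r.Prime] (hrq : ¬ r ∣ Fintype.card F - 1)
    (hrF : (r : F) ≠ 0) {n : ℕ} (S N : Matrix (Fin n) (Fin n) F) (hS : S ^ r = 1) (hS1 : S ≠ 1)
    (k : ℕ) (hN : N ^ k = 0) (hN0 : N ≠ 0) (hSN : S * N = N * S) :
    ∃ j, 2 ≤ j ∧ j + 2 ≤ n ∧ Fintype.card F ^ j ≡ 1 [MOD r] := by
  have key := exists_dim_of_commuting (W := Fin n → F) r hrq hrF (Matrix.toLinAlgEquiv' S)
    (Matrix.toLinAlgEquiv' N) (by rw [← map_pow, hS, map_one])
    (fun h => hS1 (by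
      apply (Matrix.toLinAlgEquiv' (R := F) (n := Fin n)).injective
      rw [h, map_one]))
    ⟨k, by rw [← map_pow, hN, map_zero]⟩
    (fun h => hN0 (by
      apply (Matrix.toLinAlgEquiv' (R := F) (n := Fin n)).injective
      rw [h, map_zero]))
    (by
      change _ * _ = _ * _
      rw [← map_mul, ← map_mul, hSN])
  rw [Module.finrank_fin_fun] at key
  exact key

open scoped MatrixGroups in
/-- `q ^ j - 1` divides the order of `SL_{k+1}(q)` for `2 ≤ j ≤ k + 1` -/
theorem pow_sub_one_dvd_card_SL (k j : ℕ) (hj2 : 2 ≤ j) (hjk : j ≤ k + 1) :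
    (Fintype.card F ^ j - 1) ∣ Nat.card (Matrix.SpecialLinearGroup (Fin (k + 1)) F) := by
  have h1 := Cfsg.Agent.Lib.Helper40.card_GL_eq_card_SL_mul (F := F) k
  rw [Matrix.card_GL_field, Fin.prod_univ_castSucc] at h1
  simp only [Fin.val_castSucc, Fin.val_last] at h1
  set q := Fintype.card F with hq
  have hq1 : 1 ≤ q := Fintype.card_pos
  have h2 : q ^ (k + 1) - q ^ k = q ^ k * (q - 1) := by
    rw [Nat.mul_sub, mul_one, ← pow_succ]
  rw [h2, ← mul_assoc] at h1
  have hq2 : 2 ≤ q := Fintype.one_lt_card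
  have h3 : (∏ i : Fin k, (q ^ (k + 1) - q ^ (i : ℕ))) * q ^ k =
      Nat.card (Matrix.SpecialLinearGroup (Fin (k + 1)) F) :=
    Nat.eq_of_mul_eq_mul_right (by omega) h1
  rw [← h3]
  apply dvd_mul_of_dvd_left
  have hi : k + 1 - j < k := by omega
  have h4 : q ^ (k + 1) - q ^ (k + 1 - j) = q ^ (k + 1 - j) * (q ^ j - 1) := by
    rw [Nat.mul_sub, mul_one, ← pow_add]
    congr 2
    omega
  have h5 : (q ^ j - 1) ∣ q ^ (k + 1) - q ^ ((⟨k + 1 - j, hi⟩ : Fin k) : ℕ) := by
    change (q ^ j - 1) ∣ q ^ (k + 1) - q ^ (k + 1 - j)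
    rw [h4]
    exact dvd_mul_left _ _
  exact h5.trans (Finset.dvd_prod_of_mem (fun i : Fin k => q ^ (k + 1) - q ^ (i : ℕ))
    (Finset.mem_univ _))

open scoped MatrixGroups in
theorem char_dvd_card_SL (p : ℕ) [Fact p.Prime] [CharP F p] (k : ℕ) (hk : 1 ≤ k) :
    p ∣ Nat.card (Matrix.SpecialLinearGroup (Fin (k + 1)) F) := by
  have h1 := Cfsg.Agent.Lib.Helper40.card_GL_eq_card_SL_mul (F := F) k
  rw [Matrix.card_GL_field, Fin.prod_univ_castSucc] at h1
  simp only [Fin.val_castSucc, Fin.val_last] at h1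
  set q := Fintype.card F with hq
  have hq1 : 1 ≤ q := Fintype.card_pos
  have h2 : q ^ (k + 1) - q ^ k = q ^ k * (q - 1) := by
    rw [Nat.mul_sub, mul_one, ← pow_succ]
  rw [h2, ← mul_assoc] at h1
  have hq2 : 2 ≤ q := Fintype.one_lt_card
  have h3 : (∏ i : Fin k, (q ^ (k + 1) - q ^ (i : ℕ))) * q ^ k =
      Nat.card (Matrix.SpecialLinearGroup (Fin (k + 1)) F) :=
    Nat.eq_of_mul_eq_mul_right (by omega) h1
  rw [← h3]
  apply dvd_mul_of_dvd_right
  have hpq : p ∣ q := by
    have : (q : F) = 0 := by rw [hq]; exact Nat.cast_card_eq_zero F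
    exact (CharP.cast_eq_zero_iff F p q).mp this
  exact hpq.trans (dvd_pow_self q (by omega))

end mat

section grp
open scoped MatrixGroups
open Matrix
variable {F : Type*} [Field F]

theorem sl_mem_center_iff_smul {n : ℕ} (A : Matrix.SpecialLinearGroup (Fin n) F) :
    A ∈ Subgroup.center (Matrix.SpecialLinearGroup (Fin n) F) ↔
      ∃ c : F, (A : Matrix (Fin n) (Fin n) F) = c • 1 := by
  rw [Matrix.SpecialLinearGroup.mem_center_iff]
  constructor
  · rintro ⟨c, _, hc⟩
    refine ⟨c, ?_⟩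
    rw [← hc, Matrix.smul_one_eq_diagonal]
    rfl
  · rintro ⟨c, hc⟩
    refine ⟨c, ?_, ?_⟩
    · have h1 : (A : Matrix (Fin n) (Fin n) F).det = 1 := A.2
      rw [hc, Matrix.det_smul, Matrix.det_one, mul_one] at h1
      exact h1
    · rw [hc, Matrix.smul_one_eq_diagonal]
      rfl

end grp


open Matrix in

/-- Let F be a finite field of characteristic p, n ≥ 4, and let a, b be commuting elements of PSL(n, F) with a of order p. Then every prime divisor of the order of b divides the order of SL(n − 2, F). -/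
theorem result {F : Type*} [Field F] [Fintype F] (p : ℕ) [Fact p.Prime] [CharP F p] (n : ℕ) (hn : 4 ≤ n)
    (a b : Matrix.ProjectiveSpecialLinearGroup (Fin n) F) (ha : orderOf a = p) (hab : Commute a b) :
    (orderOf b).primeFactors ⊆ (Nat.card (Matrix.SpecialLinearGroup (Fin (n - 2)) F)).primeFactors := by
  classical
  obtain ⟨m, rfl⟩ : ∃ m, n = m + 4 := ⟨n - 4, by omega⟩
  have hn2 : m + 4 - 2 = (m + 1) + 1 := by omega
  rw [hn2]
  intro r hr
  rw [Nat.mem_primeFactors] at hr ⊢
  obtain ⟨hrp, hrb, hb0⟩ := hr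
  have hpp : p.Prime := Fact.out
  refine ⟨hrp, ?_, Nat.card_pos.ne'⟩
  have : Fact r.Prime := ⟨hrp⟩
  by_cases hrpp : r = p
  · rw [hrpp]
    exact char_dvd_card_SL p (m + 1) (by omega)
  by_cases hrq : r ∣ Fintype.card F - 1
  · refine dvd_trans (hrq.trans ?_) (pow_sub_one_dvd_card_SL (m + 1) 2 le_rfl (by omega))
    exact Nat.sub_one_dvd_pow_sub_one (Fintype.card F) 2
  -- main case
  set b' := b ^ (orderOf b / r) with hb'
  have hb'o : orderOf b' = r := orderOf_pow_orderOf_div hb0 hrb
  have hab' : Commute a b' := hab.pow_right _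
  obtain ⟨A, hA⟩ := QuotientGroup.mk_surjective a
  obtain ⟨B, hB⟩ := QuotientGroup.mk_surjective b'
  set MA : Matrix (Fin (m + 4)) (Fin (m + 4)) F := (A : Matrix (Fin (m + 4)) (Fin (m + 4)) F)
    with hMA
  set MB : Matrix (Fin (m + 4)) (Fin (m + 4)) F := (B : Matrix (Fin (m + 4)) (Fin (m + 4)) F)
    with hMB
  have hdetA : MA.det = 1 := A.2
  have hdetB : MB.det = 1 := B.2
  have hMB0 : MB ≠ 0 := by
    intro h
    rw [h, Matrix.det_zero] at hdetB
    exact zero_ne_one hdetB
  -- `A ^ p` is scalar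
  obtain ⟨α, hα⟩ : ∃ α : F, MA ^ p = α • 1 := by
    have h1 : (QuotientGroup.mk (A ^ p) : Matrix.ProjectiveSpecialLinearGroup (Fin (m + 4)) F) = 1 := by
      rw [QuotientGroup.mk_pow, hA, ← ha, pow_orderOf_eq_one]
    rw [QuotientGroup.eq_one_iff, sl_mem_center_iff_smul] at h1
    obtain ⟨c, hc⟩ := h1
    exact ⟨c, by rw [← hc]; rfl⟩
  -- `A` is not scalar
  have hAns : ∀ c : F, MA ≠ c • 1 := by
    intro c hc
    have h1 : A ∈ Subgroup.center (Matrix.SpecialLinearGroup (Fin (m + 4)) F) :=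
      (sl_mem_center_iff_smul A).mpr ⟨c, hc⟩
    have h2 : a = 1 := by
      rw [← hA]
      exact (QuotientGroup.eq_one_iff A).mpr h1
    rw [h2, orderOf_one] at ha
    exact hpp.one_lt.ne ha
  -- `B ^ r` is scalar
  obtain ⟨β, hβ⟩ : ∃ β : F, MB ^ r = β • 1 := by
    have h1 : (QuotientGroup.mk (B ^ r) : Matrix.ProjectiveSpecialLinearGroup (Fin (m + 4)) F) = 1 := by
      rw [QuotientGroup.mk_pow, hB, ← hb'o, pow_orderOf_eq_one]
    rw [QuotientGroup.eq_one_iff, sl_mem_center_iff_smul] at h1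
    obtain ⟨c, hc⟩ := h1
    exact ⟨c, by rw [← hc]; rfl⟩
  have hBns : ∀ c : F, MB ≠ c • 1 := by
    intro c hc
    have h1 : B ∈ Subgroup.center (Matrix.SpecialLinearGroup (Fin (m + 4)) F) :=
      (sl_mem_center_iff_smul B).mpr ⟨c, hc⟩
    have h2 : b' = 1 := by
      rw [← hB]
      exact (QuotientGroup.eq_one_iff B).mpr h1
    rw [h2, orderOf_one] at hb'o
    exact hrp.one_lt.ne hb'o
  -- commutation up to a scalar
  obtain ⟨γ, hγ⟩ : ∃ γ : F, MB * MA = γ • (MA * MB) := by
    have h1 : (QuotientGroup.mk (A * B) : Matrix.ProjectiveSpecialLinearGroup (Fin (m + 4)) F) =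
        QuotientGroup.mk (B * A) := by
      rw [QuotientGroup.mk_mul, QuotientGroup.mk_mul, hA, hB]
      exact hab'.eq
    rw [QuotientGroup.eq, sl_mem_center_iff_smul] at h1
    obtain ⟨c, hc⟩ := h1
    refine ⟨c, ?_⟩
    have h2 : B * A = (A * B) * ((A * B)⁻¹ * (B * A)) := by group
    have h3 := congrArg (fun X : Matrix.SpecialLinearGroup (Fin (m + 4)) F =>
      (X : Matrix (Fin (m + 4)) (Fin (m + 4)) F)) h2
    change MB * MA = (MA * MB) * _ at h3
    rw [h3, hc, Matrix.mul_smul, Matrix.mul_one]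
  -- the `p`-th root of `α`
  have hα0 : α ≠ 0 := by
    intro h0
    have h1 := congrArg Matrix.det hα
    rw [Matrix.det_pow, hdetA, one_pow, h0, zero_smul, Matrix.det_zero] at h1
    exact one_ne_zero h1
  obtain ⟨α₀, hα₀⟩ : ∃ α₀ : F, α₀ ^ p = α := by
    have hsurj : Function.Surjective (frobenius F p) :=
      Finite.injective_iff_surjective.mp (frobenius_inj F p)
    obtain ⟨x, hx⟩ := hsurj α
    exact ⟨x, hx⟩
  have hα₀0 : α₀ ≠ 0 := by
    intro h0
    rw [h0, zero_pow hpp.ne_zero] at hα₀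
    exact hα0 hα₀.symm
  set N : Matrix (Fin (m + 4)) (Fin (m + 4)) F := MA - α₀ • 1 with hN
  have hNp : N ^ p = 0 := by
    have hc : Commute MA (α₀ • (1 : Matrix (Fin (m + 4)) (Fin (m + 4)) F)) :=
      Commute.smul_right (Commute.one_right _) _
    rw [hN, sub_pow_char_of_commute p hc, hα, smul_pow, one_pow, hα₀, sub_self]
  have hN0 : N ≠ 0 := by
    intro h0
    exact hAns α₀ (sub_eq_zero.mp h0)
  -- `γ = 1`
  have hγ1 : γ = 1 := by
    set c : F := (γ - 1) * α₀ with hc
    set M' : Matrix (Fin (m + 4)) (Fin (m + 4)) F := γ • N + c • 1 with hM'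
    have h1 : M' * MB = MB * N := by
      rw [hM', hN, Matrix.add_mul, Matrix.smul_mul, Matrix.smul_mul, Matrix.one_mul,
        Matrix.sub_mul, Matrix.smul_mul, Matrix.one_mul, Matrix.mul_sub, Matrix.mul_smul,
        Matrix.mul_one, hγ, hc, smul_sub, smul_smul]
      have e : ((γ - 1) * α₀) • MB = (γ * α₀) • MB - α₀ • MB := by
        rw [← sub_smul]
        congr 1
        ring
      rw [e]
      abel
    have h2 : ∀ i : ℕ, M' ^ i * MB = MB * N ^ i := by
      intro i
      induction i with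
      | zero => simp
      | succ i ih => rw [pow_succ, Matrix.mul_assoc, h1, ← Matrix.mul_assoc, ih, Matrix.mul_assoc,
          ← pow_succ]
    have h3 := h2 p
    rw [hNp, Matrix.mul_zero] at h3
    have hcomm : Commute (γ • N) (c • (1 : Matrix (Fin (m + 4)) (Fin (m + 4)) F)) :=
      Commute.smul_right (Commute.one_right _) _
    rw [hM', add_pow_char_of_commute p hcomm, smul_pow, hNp, smul_zero, zero_add, smul_pow,
      one_pow, Matrix.smul_mul, Matrix.one_mul] at h3
    rcases smul_eq_zero.mp h3 with h | h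
    · have hc0 : c = 0 := IsNilpotent.eq_zero ⟨p, h⟩
      rw [hc] at hc0
      rcases mul_eq_zero.mp hc0 with h' | h'
      · exact sub_eq_zero.mp h'
      · exact absurd h' hα₀0
    · exact absurd h hMB0
  rw [hγ1, one_smul] at hγ
  -- the `r`-th root of `β`
  have hβ0 : β ≠ 0 := by
    intro h0
    have h1 := congrArg Matrix.det hβ
    rw [Matrix.det_pow, hdetB, one_pow, h0, zero_smul, Matrix.det_zero] at h1
    exact one_ne_zero h1
  obtain ⟨β₀, hβ₀⟩ : ∃ β₀ : F, β₀ ^ r = β := by
    have hcop : (Nat.card Fˣ).Coprime r := by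
      rw [Nat.card_units, Nat.card_eq_fintype_card, Nat.coprime_comm]
      exact (Nat.Prime.coprime_iff_not_dvd hrp).mpr hrq
    obtain ⟨x, hx⟩ := (powCoprime hcop).surjective (Units.mk0 β hβ0)
    refine ⟨(x : F), ?_⟩
    have := congrArg Units.val hx
    simpa using this
  have hβ₀0 : β₀ ≠ 0 := by
    intro h0
    rw [h0, zero_pow hrp.ne_zero] at hβ₀
    exact hβ0 hβ₀.symm
  set S : Matrix (Fin (m + 4)) (Fin (m + 4)) F := β₀⁻¹ • MB with hS
  have hSr : S ^ r = 1 := by
    rw [hS, smul_pow, hβ, smul_smul, ← hβ₀, inv_pow, inv_mul_cancel₀ (pow_ne_zero _ hβ₀0), one_smul]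
  have hS1 : S ≠ 1 := by
    intro h1
    apply hBns β₀
    have h2 := congrArg (fun X => β₀ • X) h1
    simp only [hS, smul_smul, mul_inv_cancel₀ hβ₀0, one_smul] at h2
    exact h2
  have hSN : S * N = N * S := by
    rw [hS, hN, Matrix.smul_mul, Matrix.mul_smul, Matrix.mul_sub, Matrix.sub_mul, hγ,
      Matrix.mul_smul, Matrix.smul_mul, Matrix.mul_one, Matrix.one_mul]
  have hrF : (r : F) ≠ 0 := by
    intro h0
    have h1 := (CharP.cast_eq_zero_iff F p r).mp h0
    exact hrpp ((Nat.prime_dvd_prime_iff_eq hpp hrp).mp h1).symm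
  obtain ⟨j, hj2, hjn, hj⟩ := exists_dim_of_commuting_matrix r hrq hrF S N hSr hS1 p hNp hN0 hSN
  have hdvd : r ∣ Fintype.card F ^ j - 1 :=
    (Nat.modEq_iff_dvd' (Nat.one_le_pow _ _ Fintype.card_pos)).mp hj.symm
  exact hdvd.trans (pow_sub_one_dvd_card_SL (m + 1) j hj2 (by omega))

end Cfsg.Agent.S2364
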