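import Cfsg.Statements.S2476
-- import your own Cfsg.Agent.* helpers here
import Mathlib
import Cfsg.Agent.Lib.Helper40.PSLOrders
import Cfsg.Agent.Lib.Helper40.Singer

set_option autoImplicit false
set_option linter.style.haveILetI false
set_option linter.unusedSectionVars false
open Cfsg

namespace Cfsg.Agent.S2476

open Cfsg.Agent.Lib.Helper40 Module Polynomial

section poly
variable {F : Type*} [Field F] [Fintype F]

/-- Cayley–Hamilton consequence -/
theorem pow_eq_smul_of_charpoly_dvd {n : ℕ} (X : Matrix (Fin n) (Fin n) F) (N : ℕ) (c : F)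
    (h : X.charpoly ∣ (Polynomial.X ^ N - Polynomial.C c)) : X ^ N = c • 1 := by
  obtain ⟨f, hf⟩ := h
  have h1 := congrArg (Polynomial.aeval X) hf
  rw [map_mul, Matrix.aeval_self_charpoly, zero_mul, map_sub, map_pow, Polynomial.aeval_X,
    Polynomial.aeval_C, sub_eq_zero] at h1
  rw [h1, Algebra.algebraMap_eq_smul_one]

/-- the root of an irreducible monic polynomial over a finite field: norm formula -/
theorem root_pow_geom (g : F[X]) (hg : Irreducible g) (hm : g.Monic) :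
    haveI := Fact.mk hg
    (AdjoinRoot.root g) ^ (∑ i ∈ Finset.range g.natDegree, Fintype.card F ^ i) =
      algebraMap F (AdjoinRoot g) ((-1) ^ g.natDegree * g.coeff 0) := by
  haveI := Fact.mk hg
  have hg0 : g ≠ 0 := hg.ne_zero
  let pb := AdjoinRoot.powerBasis hg0
  haveI : Module.Finite F (AdjoinRoot g) := PowerBasis.finite pb
  haveI : Finite (AdjoinRoot g) := Module.finite_of_finite F
  have h1 := FiniteField.algebraMap_norm_eq_pow_sum (K := F) (L := AdjoinRoot g)
    (x := AdjoinRoot.root g)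
  have h2 : finrank F (AdjoinRoot g) = g.natDegree := by
    rw [PowerBasis.finrank pb, AdjoinRoot.powerBasis_dim]
  have h3 : Algebra.norm F (AdjoinRoot.root g) = (-1) ^ g.natDegree * g.coeff 0 := by
    have h4 := Algebra.PowerBasis.norm_gen_eq_coeff_zero_minpoly pb
    rw [AdjoinRoot.powerBasis_gen, AdjoinRoot.powerBasis_dim, AdjoinRoot.minpoly_root hg0,
      hm.leadingCoeff, inv_one, map_one, mul_one] at h4
    exact h4
  rw [h2, h3, Nat.card_eq_fintype_card] at h1
  exact h1.symm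

/-- finiteness of `AdjoinRoot` over a finite field -/
theorem finite_adjoinRoot (g : F[X]) (hg : Irreducible g) : Finite (AdjoinRoot g) := by
  have hg0 : g ≠ 0 := hg.ne_zero
  haveI : Module.Finite F (AdjoinRoot g) := PowerBasis.finite (AdjoinRoot.powerBasis hg0)
  exact Module.finite_of_finite F

/-- irreducible cubic with constant term `-1` -/
theorem irred3_dvd (g : F[X]) (hg : Irreducible g) (hm : g.Monic) (hdeg : g.natDegree = 3)
    (h0 : g.coeff 0 = -1) (d N : ℕ) (hd : d ∣ Fintype.card F - 1)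
    (hN : d * N = Fintype.card F ^ 2 + Fintype.card F + 1) :
    ∃ c : F, g ∣ (X ^ N - C c : F[X]) := by
  haveI := Fact.mk hg
  haveI := finite_adjoinRoot g hg
  have h1 := root_pow_geom g hg hm
  rw [hdeg, h0] at h1
  have h2 : ∑ i ∈ Finset.range 3, Fintype.card F ^ i = d * N := by
    rw [hN, Finset.sum_range_succ, Finset.sum_range_succ, Finset.sum_range_one]
    ring
  rw [h2] at h1
  have h3 : ((-1 : F) ^ 3 * -1) = 1 := by ring
  rw [h3, map_one] at h1
  obtain ⟨e, he⟩ := hd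
  have h4 : (AdjoinRoot.root g ^ N) ^ (Fintype.card F - 1) = 1 := by
    rw [he, ← pow_mul, ← mul_assoc, mul_comm N d, pow_mul, h1, one_pow]
  obtain ⟨c, hc⟩ := exists_algebraMap_eq_of_pow_card_sub_one (F := F) (AdjoinRoot.root g ^ N) h4
  refine ⟨c, ?_⟩
  rw [← AdjoinRoot.mk_eq_zero, map_sub, map_pow, AdjoinRoot.mk_X, AdjoinRoot.mk_C, sub_eq_zero]
  exact hc.symm

/-- irreducible quadratic -/
theorem irred2_dvd (g : F[X]) (hg : Irreducible g) (hm : g.Monic) (hdeg : g.natDegree = 2)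
    (k : ℕ) :
    g ∣ (X ^ ((Fintype.card F + 1) * k) - C (g.coeff 0 ^ k) : F[X]) := by
  haveI := Fact.mk hg
  haveI := finite_adjoinRoot g hg
  have h1 := root_pow_geom g hg hm
  rw [hdeg] at h1
  have h2 : ∑ i ∈ Finset.range 2, Fintype.card F ^ i = Fintype.card F + 1 := by
    rw [Finset.sum_range_succ, Finset.sum_range_one]
    ring
  rw [h2] at h1
  have h3 : ((-1 : F) ^ 2 * g.coeff 0) = g.coeff 0 := by ring
  rw [h3] at h1
  rw [← AdjoinRoot.mk_eq_zero, map_sub, map_pow, AdjoinRoot.mk_X, AdjoinRoot.mk_C, sub_eq_zero,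
    pow_mul, h1, map_pow]
  rfl


theorem X_sub_C_dvd_pow (y : F) (N : ℕ) : (X - C y : F[X]) ∣ X ^ N - C (y ^ N) := by
  rw [Polynomial.dvd_iff_isRoot]
  simp

theorem X_sub_C_pow_char_dvd (p : ℕ) [Fact p.Prime] [CharP F p] (x : F) (k : ℕ) :
    ((X - C x) ^ p : F[X]) ∣ X ^ (p * k) - C (x ^ (p * k)) := by
  have h1 : ((X - C x) ^ p : F[X]) = X ^ p - C (x ^ p) := by
    rw [sub_pow_char (R := F[X]) (p := p) X (C x), ← C_pow]
  have h2 : (X ^ (p * k) - C (x ^ (p * k)) : F[X]) = (X ^ p) ^ k - (C (x ^ p)) ^ k := by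
    rw [← pow_mul, ← C_pow, ← pow_mul]
  rw [h1, h2]
  exact sub_dvd_pow_sub_pow _ _ k

theorem isCoprime_X_sub_C {x y : F} (h : x ≠ y) : IsCoprime (X - C x : F[X]) (X - C y) :=
  Polynomial.isCoprime_X_sub_C_of_isUnit_sub (sub_ne_zero.mpr h).isUnit

/-- distinct eigenvalues -/
theorem split_distinct (a b c : F) (hab : a ≠ b) (hac : a ≠ c) (hbc : b ≠ c) (habc : a * b * c = 1) :
    ((X - C a) * (X - C b) * (X - C c) : F[X]) ∣ X ^ (Fintype.card F - 1) - C 1 := by
  have ha : a ≠ 0 := by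
    rintro rfl
    simp at habc
  have hb : b ≠ 0 := by
    rintro rfl
    simp at habc
  have hc : c ≠ 0 := by
    rintro rfl
    simp at habc
  have h1 := X_sub_C_dvd_pow a (Fintype.card F - 1)
  have h2 := X_sub_C_dvd_pow b (Fintype.card F - 1)
  have h3 := X_sub_C_dvd_pow c (Fintype.card F - 1)
  rw [FiniteField.pow_card_sub_one_eq_one _ ha] at h1
  rw [FiniteField.pow_card_sub_one_eq_one _ hb] at h2
  rw [FiniteField.pow_card_sub_one_eq_one _ hc] at h3
  have h4 : IsCoprime ((X - C a) * (X - C b) : F[X]) (X - C c) :=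
    IsCoprime.mul_left (isCoprime_X_sub_C hac) (isCoprime_X_sub_C hbc)
  exact h4.mul_dvd ((isCoprime_X_sub_C hab).mul_dvd h1 h2) h3

/-- a repeated eigenvalue, `p` odd or the third eigenvalue different -/
theorem split_repeated (p : ℕ) [Fact p.Prime] [CharP F p] (x y : F) (hxy : x * x * y = 1)
    (d k : ℕ) (hd : d ∣ 3) (hk : d * k = Fintype.card F - 1) (h : x ≠ y ∨ 3 ≤ p) :
    ((X - C x) * (X - C x) * (X - C y) : F[X]) ∣ X ^ (p * k) - C (x ^ (p * k)) := by
  have hp2 : 2 ≤ p := (Fact.out : p.Prime).two_le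
  have hx : x ≠ 0 := by
    rintro rfl
    simp at hxy
  have h1 := X_sub_C_pow_char_dvd p x k
  rcases eq_or_ne x y with rfl | hne
  · have hp3 : 3 ≤ p := by
      rcases h with h | h
      · exact absurd rfl h
      · exact h
    have h2 : ((X - C x) * (X - C x) * (X - C x) : F[X]) = (X - C x) ^ 3 := by ring
    rw [h2]
    exact (pow_dvd_pow _ hp3).trans h1
  · have h2 : ((X - C x) * (X - C x) : F[X]) = (X - C x) ^ 2 := by ring
    rw [h2]
    have h3 : ((X - C x) ^ 2 : F[X]) ∣ X ^ (p * k) - C (x ^ (p * k)) :=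
      (pow_dvd_pow _ hp2).trans h1
    have h4 := X_sub_C_dvd_pow y (p * k)
    have h5 : y ^ (p * k) = x ^ (p * k) := by
      obtain ⟨d', hd'⟩ := hd
      have h6 : x ^ (3 * (p * k)) = 1 := by
        have : 3 * (p * k) = (Fintype.card F - 1) * (d' * p) := by
          rw [← hk, hd']
          ring
        rw [this, pow_mul, FiniteField.pow_card_sub_one_eq_one _ hx, one_pow]
      have h7 : x ^ (p * k) * x ^ (p * k) * y ^ (p * k) = 1 := by
        rw [← mul_pow, ← mul_pow, hxy, one_pow]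
      have h8 : x ^ (p * k) * x ^ (p * k) * x ^ (p * k) = 1 := by
        rw [← pow_add, ← pow_add, ← h6]
        congr 1
        ring
      have h9 : x ^ (p * k) * x ^ (p * k) ≠ 0 := mul_ne_zero (pow_ne_zero _ hx) (pow_ne_zero _ hx)
      exact mul_left_cancel₀ h9 (h7.trans h8.symm)
    rw [h5] at h4
    exact ((isCoprime_X_sub_C hne).pow_left).mul_dvd h3 h4

/-- triple eigenvalue in characteristic two -/
theorem split_triple_two [CharP F 2] (x : F) :
    ((X - C x) * (X - C x) * (X - C x) : F[X]) ∣ X ^ 4 - C (x ^ 4) := by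
  haveI : Fact (Nat.Prime 2) := ⟨Nat.prime_two⟩
  have h1 : ((X - C x) ^ 4 : F[X]) = X ^ 4 - C (x ^ 4) := by
    have h2 : ((X - C x) ^ 2 : F[X]) = X ^ 2 - C (x ^ 2) := by
      rw [sub_pow_char (R := F[X]) (p := 2) X (C x), ← C_pow]
    have h3 : ((X ^ 2 - C (x ^ 2)) ^ 2 : F[X]) = (X ^ 2) ^ 2 - C ((x ^ 2) ^ 2) := by
      rw [sub_pow_char (R := F[X]) (p := 2) (X ^ 2) (C (x ^ 2)), ← C_pow]
    have : ((X - C x) ^ 4 : F[X]) = ((X - C x) ^ 2) ^ 2 := by ring
    rw [this, h2, h3, ← pow_mul, ← pow_mul]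
  rw [← h1]
  exact ⟨X - C x, by ring⟩

/-- repeated eigenvalue, all cases -/
theorem split_repeated_main (p : ℕ) [Fact p.Prime] [CharP F p] (x y : F) (hxy : x * x * y = 1)
    (d k : ℕ) (hd : d ∣ 3) (hk : d * k = Fintype.card F - 1) :
    ∃ (N : ℕ) (c : F), ((X - C x) * (X - C x) * (X - C y) : F[X]) ∣ X ^ N - C c ∧
      (N = p * k ∨ (p = 2 ∧ N = 4)) := by
  by_cases h : x ≠ y ∨ 3 ≤ p
  · exact ⟨p * k, _, split_repeated p x y hxy d k hd hk h, Or.inl rfl⟩
  · push Not at h
    obtain ⟨h1, h2⟩ := h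
    have hp2 : 2 ≤ p := (Fact.out : p.Prime).two_le
    have hp : p = 2 := by omega
    subst hp
    subst h1
    exact ⟨4, _, split_triple_two x, Or.inr ⟨rfl, rfl⟩⟩

theorem sq_sub_one_eq (q : ℕ) (hq : 1 ≤ q) : q ^ 2 - 1 = (q + 1) * (q - 1) := by
  obtain ⟨t, rfl⟩ : ∃ t, q = t + 1 := ⟨q - 1, by omega⟩
  simp only [Nat.add_sub_cancel]
  have : (t + 1) ^ 2 = (t + 1 + 1) * t + 1 := by ring
  rw [this, Nat.add_sub_cancel]

theorem arith_d (q d : ℕ) (hq : 1 ≤ q) (hd3 : d ∣ 3) (hdq : d ∣ q - 1) :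
    d ∣ q ^ 2 + q + 1 ∧ d ∣ q + 2 := by
  have h1 : q ^ 2 + q + 1 = (q - 1) * (q + 2) + 3 := by
    obtain ⟨t, rfl⟩ : ∃ t, q = t + 1 := ⟨q - 1, by omega⟩
    simp only [Nat.add_sub_cancel]
    ring
  have h2 : q + 2 = (q - 1) + 3 := by omega
  constructor
  · rw [h1]
    exact dvd_add (hdq.mul_right _) hd3
  · rw [h2]
    exact dvd_add hdq hd3

/-- the main polynomial statement -/
theorem poly_main (p : ℕ) [Fact p.Prime] [CharP F p] (χ : F[X]) (hm : χ.Monic)
    (hdeg : χ.natDegree = 3) (h0 : χ.coeff 0 = -1) (d : ℕ) (hd3 : d ∣ 3)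
    (hdq : d ∣ Fintype.card F - 1) :
    ∃ (N : ℕ) (c : F), χ ∣ X ^ N - C c ∧
      (N = (Fintype.card F ^ 2 + Fintype.card F + 1) / d ∨ N = (Fintype.card F ^ 2 - 1) / d ∨
        N = Fintype.card F - 1 ∨ N = p * (Fintype.card F - 1) / d ∨ (p = 2 ∧ N = 4)) := by
  set q := Fintype.card F with hq
  have hq1 : 1 ≤ q := Fintype.card_pos
  have hdpos : 0 < d := Nat.pos_of_dvd_of_pos hd3 (by norm_num)
  obtain ⟨hdN1, hdq2⟩ := arith_d q d hq1 hd3 hdq
  obtain ⟨k, hk⟩ := hdq
  have hkd : (q - 1) / d = k := by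
    rw [hk]
    exact Nat.mul_div_cancel_left k hdpos
  by_cases hroot : ∃ a, χ.IsRoot a
  swap
  · -- irreducible cubic
    have hroots : χ.roots = 0 := by
      apply Multiset.eq_zero_of_forall_notMem
      intro a ha
      exact hroot ⟨a, (Polynomial.mem_roots hm.ne_zero).mp ha⟩
    have hirr : Irreducible χ :=
      (hm.irreducible_iff_roots_eq_zero_of_degree_le_three (by omega) (by omega)).mpr hroots
    obtain ⟨c, hc⟩ := irred3_dvd χ hirr hm hdeg h0 d ((q ^ 2 + q + 1) / d) ⟨k, hk⟩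
      (Nat.mul_div_cancel' hdN1)
    exact ⟨_, c, hc, Or.inl rfl⟩
  obtain ⟨a, ha⟩ := hroot
  have hχ : (X - C a) * (χ /ₘ (X - C a)) = χ := mul_divByMonic_eq_iff_isRoot.mpr ha
  set g := χ /ₘ (X - C a) with hg
  have hgm : g.Monic := (monic_X_sub_C a).of_mul_monic_left (by rw [hχ]; exact hm)
  have hgdeg : g.natDegree = 2 := by
    rw [hg, natDegree_divByMonic _ (monic_X_sub_C a), hdeg, natDegree_X_sub_C]
  have hg0 : a * g.coeff 0 = 1 := by
    have h1 := congrArg (fun f : F[X] => f.coeff 0) hχ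
    simp only [mul_coeff_zero, h0, coeff_sub, coeff_X_zero, coeff_C_zero, zero_sub] at h1
    linear_combination -h1
  have ha0 : a ≠ 0 := by
    rintro rfl
    simp at hg0
  by_cases hroot2 : ∃ b, g.IsRoot b
  swap
  · -- linear times irreducible quadratic
    have hroots : g.roots = 0 := by
      apply Multiset.eq_zero_of_forall_notMem
      intro b hb
      exact hroot2 ⟨b, (Polynomial.mem_roots hgm.ne_zero).mp hb⟩
    have hirr : Irreducible g :=
      (hgm.irreducible_iff_roots_eq_zero_of_degree_le_three (by omega) (by omega)).mpr hroots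
    have h1 := irred2_dvd g hirr hgm hgdeg k
    have h2 := X_sub_C_dvd_pow a ((q + 1) * k)
    have h3 : a ^ ((q + 1) * k) = g.coeff 0 ^ k := by
      obtain ⟨e, he⟩ := hdq2
      have h4 : a ^ ((q + 1) * k) * a ^ k = 1 := by
        rw [← pow_add]
        have : (q + 1) * k + k = (q - 1) * e := by
          have : (q + 1) * k + k = (q + 2) * k := by ring
          rw [this, he, hk]
          ring
        rw [this, pow_mul, FiniteField.pow_card_sub_one_eq_one _ ha0, one_pow]
      have h5 : g.coeff 0 ^ k * a ^ k = 1 := by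
        rw [← mul_pow, mul_comm, hg0, one_pow]
      exact mul_right_cancel₀ (pow_ne_zero k ha0) (h4.trans h5.symm)
    rw [h3] at h2
    have hcop : IsCoprime (X - C a : F[X]) g := by
      rw [(irreducible_X_sub_C a).coprime_iff_not_dvd, dvd_iff_isRoot]
      intro h
      exact hroot2 ⟨a, h⟩
    refine ⟨(q + 1) * k, g.coeff 0 ^ k, ?_, Or.inr (Or.inl ?_)⟩
    · rw [← hχ]
      exact hcop.mul_dvd h2 h1
    · symm
      apply Nat.div_eq_of_eq_mul_right hdpos
      rw [sq_sub_one_eq q hq1, hk]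
      ring
  -- split case
  obtain ⟨b, hb⟩ := hroot2
  have hg2 : (X - C b) * (g /ₘ (X - C b)) = g := mul_divByMonic_eq_iff_isRoot.mpr hb
  set h := g /ₘ (X - C b) with hh
  have hhm : h.Monic := (monic_X_sub_C b).of_mul_monic_left (by rw [hg2]; exact hgm)
  have hhdeg : h.natDegree = 1 := by
    rw [hh, natDegree_divByMonic _ (monic_X_sub_C b), hgdeg, natDegree_X_sub_C]
  have hh2 := hhm.eq_X_add_C hhdeg
  set c' := -h.coeff 0 with hc'
  have hh3 : h = X - C c' := by
    rw [hh2, hc', map_neg, sub_neg_eq_add]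
  have hprod : χ = (X - C a) * (X - C b) * (X - C c') := by
    rw [← hχ, ← hg2, hh3]
    ring
  have habc : a * b * c' = 1 := by
    have h1 := congrArg (fun f : F[X] => f.coeff 0) hprod
    simp only [mul_coeff_zero, h0, coeff_sub, coeff_X_zero, coeff_C_zero, zero_sub] at h1
    linear_combination h1
  have hN4 : p * (q - 1) / d = p * k := by
    rw [hk, ← mul_assoc, mul_comm p d, mul_assoc]
    exact Nat.mul_div_cancel_left _ hdpos
  by_cases hab : a = b
  · subst hab
    obtain ⟨N, c, h1, h2⟩ := split_repeated_main p a c' habc d k hd3 hk.symm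
    refine ⟨N, c, hprod ▸ h1, ?_⟩
    rcases h2 with h2 | h2
    · exact Or.inr (Or.inr (Or.inr (Or.inl (h2.trans hN4.symm))))
    · exact Or.inr (Or.inr (Or.inr (Or.inr h2)))
  by_cases hac : a = c'
  · have hprod2 : χ = (X - C a) * (X - C a) * (X - C b) := by
      rw [hprod, ← hac]
      ring
    have habc2 : a * a * b = 1 := by
      rw [← habc, ← hac]
      ring
    obtain ⟨N, c, h1, h2⟩ := split_repeated_main p a b habc2 d k hd3 hk.symm
    refine ⟨N, c, hprod2 ▸ h1, ?_⟩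
    rcases h2 with h2 | h2
    · exact Or.inr (Or.inr (Or.inr (Or.inl (h2.trans hN4.symm))))
    · exact Or.inr (Or.inr (Or.inr (Or.inr h2)))
  by_cases hbc : b = c'
  · have hprod2 : χ = (X - C b) * (X - C b) * (X - C a) := by
      rw [hprod, ← hbc]
      ring
    have habc2 : b * b * a = 1 := by
      rw [← habc, ← hbc]
      ring
    obtain ⟨N, c, h1, h2⟩ := split_repeated_main p b a habc2 d k hd3 hk.symm
    refine ⟨N, c, hprod2 ▸ h1, ?_⟩
    rcases h2 with h2 | h2
    · exact Or.inr (Or.inr (Or.inr (Or.inl (h2.trans hN4.symm))))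
    · exact Or.inr (Or.inr (Or.inr (Or.inr h2)))
  exact ⟨q - 1, 1, hprod ▸ split_distinct a b c' hab hac hbc habc, Or.inr (Or.inr (Or.inl rfl))⟩

end poly

section exist
variable {F : Type*} [Field F] [Fintype F]

open scoped MatrixGroups

/-- the centre of `SL_3(q)` has exponent `gcd(3, q - 1)` -/
theorem dvd_orderOf_mk (X : Matrix.SpecialLinearGroup (Fin 3) F) (M : ℕ)
    (h : M * Nat.gcd 3 (Fintype.card F - 1) ∣ orderOf X) :
    M ∣ orderOf (QuotientGroup.mk X : Matrix.ProjectiveSpecialLinearGroup (Fin 3) F) := by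
  set o := orderOf (QuotientGroup.mk X : Matrix.ProjectiveSpecialLinearGroup (Fin 3) F) with ho
  set d := Nat.gcd 3 (Fintype.card F - 1) with hd
  have hdpos : 0 < d := Nat.gcd_pos_of_pos_left _ (by norm_num)
  have h1 : (QuotientGroup.mk X : Matrix.ProjectiveSpecialLinearGroup (Fin 3) F) ^ o = 1 :=
    pow_orderOf_eq_one _
  rw [mk_pow_eq_one_iff] at h1
  obtain ⟨c, hc⟩ := h1
  have hdet : c ^ 3 = 1 := by
    have h2 := congrArg Matrix.det hc
    rw [Matrix.det_pow, X.2, one_pow, Matrix.det_smul, Matrix.det_one, mul_one,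
      Fintype.card_fin] at h2
    exact h2.symm
  have hc0 : c ≠ 0 := by
    rintro rfl
    simp at hdet
  have hcd : c ^ d = 1 := by
    rw [hd, pow_gcd_eq_one]
    exact ⟨hdet, FiniteField.pow_card_sub_one_eq_one c hc0⟩
  have h3 : X ^ (o * d) = 1 := by
    apply Subtype.ext
    rw [Matrix.SpecialLinearGroup.coe_pow, pow_mul, hc, _root_.smul_pow, one_pow, hcd, one_smul]
    rfl
  have h4 : orderOf X ∣ o * d := orderOf_dvd_of_pow_eq_one h3
  exact Nat.dvd_of_mul_dvd_mul_right hdpos (h.trans h4)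

/-- every divisor of a divisor of an element order is an element order -/
theorem exists_orderOf_of_dvd {G : Type*} [Group G] [Finite G] (g : G) (M m : ℕ)
    (hM : M ∣ orderOf g) (hm : m ∣ M) : ∃ x : G, orderOf x = m :=
  ⟨g ^ (orderOf g / m), orderOf_pow_orderOf_div (orderOf_pos g).ne' (hm.trans hM)⟩

/-- block diagonal embedding of `2 × 2` and `1 × 1` -/
def emb (A : Matrix (Fin 2) (Fin 2) F) (δ : F) : Matrix (Fin 3) (Fin 3) F :=
  !![A 0 0, A 0 1, 0; A 1 0, A 1 1, 0; 0, 0, δ]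

theorem emb_mul (A B : Matrix (Fin 2) (Fin 2) F) (δ ε : F) :
    emb A δ * emb B ε = emb (A * B) (δ * ε) := by
  ext i j
  fin_cases i <;> fin_cases j <;>
    simp [emb, Matrix.mul_apply, Fin.sum_univ_three, Fin.sum_univ_two]

theorem emb_one : emb (1 : Matrix (Fin 2) (Fin 2) F) 1 = 1 := by
  ext i j
  fin_cases i <;> fin_cases j <;> simp [emb]

theorem emb_pow (A : Matrix (Fin 2) (Fin 2) F) (δ : F) (i : ℕ) :
    emb A δ ^ i = emb (A ^ i) (δ ^ i) := by
  induction i with
  | zero => rw [pow_zero, pow_zero, pow_zero, emb_one]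
  | succ i ih => rw [pow_succ, ih, emb_mul, ← pow_succ, ← pow_succ]

theorem emb_det (A : Matrix (Fin 2) (Fin 2) F) (δ : F) : (emb A δ).det = A.det * δ := by
  rw [Matrix.det_fin_three, Matrix.det_fin_two]
  simp [emb]
  ring

theorem emb_eq_smul_one (A : Matrix (Fin 2) (Fin 2) F) (δ c : F) (h : emb A δ = c • 1) :
    A = c • 1 ∧ δ = c := by
  constructor
  · ext i j
    fin_cases i <;> fin_cases j
    · have := congrFun (congrFun h 0) 0
      simpa [emb] using this
    · have := congrFun (congrFun h 0) 1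
      simpa [emb] using this
    · have := congrFun (congrFun h 1) 0
      simpa [emb] using this
    · have := congrFun (congrFun h 1) 1
      simpa [emb] using this
  · have := congrFun (congrFun h 2) 2
    simpa [emb] using this

/-- from `GL` with determinant one to `SL` -/
theorem exists_SL_of_det_one {n : ℕ} (g : GL (Fin n) F)
    (h : (g : Matrix (Fin n) (Fin n) F).det = 1) :
    ∃ g' : Matrix.SpecialLinearGroup (Fin n) F, orderOf g' = orderOf g ∧
      (g' : Matrix (Fin n) (Fin n) F) = g := by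
  let g' : Matrix.SpecialLinearGroup (Fin n) F := ⟨(g : Matrix (Fin n) (Fin n) F), h⟩
  refine ⟨g', ?_, rfl⟩
  have h5 : Matrix.SpecialLinearGroup.toGL g' = g := by
    ext
    rfl
  rw [← orderOf_injective Matrix.SpecialLinearGroup.toGL
    Matrix.SpecialLinearGroup.toGL_injective g', h5]

/-- the block embedding `GL_2 → SL_3` -/
theorem exists_SL3_of_GL2 (g : GL (Fin 2) F) :
    ∃ X : Matrix.SpecialLinearGroup (Fin 3) F, orderOf g ∣ orderOf X ∧
      (X : Matrix (Fin 3) (Fin 3) F) =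
        emb (g : Matrix (Fin 2) (Fin 2) F) ((g : Matrix (Fin 2) (Fin 2) F).det)⁻¹ := by
  have hdet0 : (g : Matrix (Fin 2) (Fin 2) F).det ≠ 0 :=
    (Matrix.isUnits_det_units g).ne_zero
  have hdet : (emb (g : Matrix (Fin 2) (Fin 2) F) ((g : Matrix (Fin 2) (Fin 2) F).det)⁻¹).det = 1 := by
    rw [emb_det, mul_inv_cancel₀ hdet0]
  refine ⟨⟨_, hdet⟩, ?_, rfl⟩
  apply orderOf_dvd_of_pow_eq_one
  set X : Matrix.SpecialLinearGroup (Fin 3) F := ⟨_, hdet⟩ with hX
  have h1 : X ^ orderOf X = 1 := pow_orderOf_eq_one X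
  have h2 := congrArg (fun Y : Matrix.SpecialLinearGroup (Fin 3) F => (Y : Matrix (Fin 3) (Fin 3) F)) h1
  simp only [Matrix.SpecialLinearGroup.coe_pow, Matrix.SpecialLinearGroup.coe_one] at h2
  have h3 : (X : Matrix (Fin 3) (Fin 3) F) =
      emb (g : Matrix (Fin 2) (Fin 2) F) ((g : Matrix (Fin 2) (Fin 2) F).det)⁻¹ := rfl
  rw [h3, emb_pow] at h2
  have h4 := (emb_eq_smul_one _ _ (1 : F) (h2.trans (one_smul F 1).symm)).1
  rw [one_smul] at h4
  apply Units.ext
  rw [Units.val_pow_eq_pow_val, h4]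
  rfl

/-- elements of order `q^2 + q + 1` -/
theorem exists_A1 (p : ℕ) [Fact p.Prime] [CharP F p] :
    ∃ X : Matrix.SpecialLinearGroup (Fin 3) F,
      orderOf X = Fintype.card F ^ 2 + Fintype.card F + 1 := by
  set q := Fintype.card F with hq
  have hq2 : 2 ≤ q := Fintype.one_lt_card
  obtain ⟨g, hg⟩ := exists_orderOf_GL (F := F) p 3 3 (by norm_num) le_rfl (q ^ 3 - 1) dvd_rfl
  have hfac : q ^ 3 - 1 = (q - 1) * (q ^ 2 + q + 1) := by
    obtain ⟨t, ht⟩ : ∃ t, q = t + 1 := ⟨q - 1, by omega⟩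
    rw [ht]
    simp only [Nat.add_sub_cancel]
    have : (t + 1) ^ 3 = t * ((t + 1) ^ 2 + (t + 1) + 1) + 1 := by ring
    rw [this, Nat.add_sub_cancel]
  have hq1 : q - 1 ≠ 0 := by omega
  have hord : orderOf (g ^ (q - 1)) = q ^ 2 + q + 1 := by
    rw [orderOf_pow_of_dvd hq1 (by rw [hg, hfac]; exact dvd_mul_right _ _), hg, hfac]
    exact Nat.mul_div_cancel_left _ (by omega)
  have hdet : ((g ^ (q - 1) : GL (Fin 3) F) : Matrix (Fin 3) (Fin 3) F).det = 1 := by
    have hdet0 : (g : Matrix (Fin 3) (Fin 3) F).det ≠ 0 := (Matrix.isUnits_det_units g).ne_zero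
    rw [Units.val_pow_eq_pow_val, Matrix.det_pow]
    exact FiniteField.pow_card_sub_one_eq_one _ hdet0
  obtain ⟨X, hX, _⟩ := exists_SL_of_det_one (g ^ (q - 1)) hdet
  exact ⟨X, hX.trans hord⟩

/-- a generator of the multiplicative group -/
theorem exists_gen : ∃ a : F, a ≠ 0 ∧ ∀ i : ℕ, a ^ i = 1 → (Fintype.card F - 1) ∣ i := by
  obtain ⟨g, hg⟩ := IsCyclic.exists_generator (α := Fˣ)
  have hog : orderOf g = Fintype.card F - 1 := by
    rw [orderOf_eq_card_of_forall_mem_zpowers hg, Nat.card_units, Nat.card_eq_fintype_card]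
  refine ⟨(g : F), g.ne_zero, ?_⟩
  intro i hi
  rw [← hog]
  apply orderOf_dvd_of_pow_eq_one
  apply Units.ext
  rw [Units.val_pow_eq_pow_val, hi]
  rfl

/-- elements of order divisible by `q - 1` in `PSL_3(q)` -/
theorem exists_A3 :
    ∃ x : Matrix.ProjectiveSpecialLinearGroup (Fin 3) F, (Fintype.card F - 1) ∣ orderOf x := by
  obtain ⟨a, ha0, ha⟩ := exists_gen (F := F)
  have hdet : (emb (Matrix.diagonal ![a, a⁻¹]) 1).det = 1 := by
    rw [emb_det, Matrix.det_diagonal, Fin.prod_univ_two]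
    simp [ha0]
  let X : Matrix.SpecialLinearGroup (Fin 3) F := ⟨_, hdet⟩
  refine ⟨QuotientGroup.mk X, ?_⟩
  apply ha
  have h1 : (QuotientGroup.mk X : Matrix.ProjectiveSpecialLinearGroup (Fin 3) F) ^
      orderOf (QuotientGroup.mk X : Matrix.ProjectiveSpecialLinearGroup (Fin 3) F) = 1 :=
    pow_orderOf_eq_one _
  rw [mk_pow_eq_one_iff] at h1
  obtain ⟨c, hc⟩ := h1
  have h2 : (X : Matrix (Fin 3) (Fin 3) F) = emb (Matrix.diagonal ![a, a⁻¹]) 1 := rfl
  rw [h2, emb_pow] at hc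
  obtain ⟨h3, h4⟩ := emb_eq_smul_one _ _ _ hc
  rw [one_pow] at h4
  rw [← h4, one_smul, Matrix.diagonal_pow] at h3
  have h5 := congrFun (congrFun h3 0) 0
  simpa using h5

/-- powers of a Jordan block -/
theorem jordan_pow (a : F) (i : ℕ) :
    (!![a, 1; 0, a] : Matrix (Fin 2) (Fin 2) F) ^ i = !![a ^ i, (i : F) * a ^ (i - 1); 0, a ^ i] := by
  induction i with
  | zero =>
    ext k l
    fin_cases k <;> fin_cases l <;> simp
  | succ i ih =>
    rw [pow_succ, ih]
    ext k l
    fin_cases k <;> fin_cases l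
    · simp [Matrix.mul_apply, Fin.sum_univ_two, pow_succ]
    · simp only [Matrix.mul_apply, Fin.sum_univ_two]
      simp
      rcases Nat.eq_zero_or_pos i with rfl | hi
      · simp
      · have : a ^ i = a ^ (i - 1) * a := by
          rw [← pow_succ, Nat.sub_add_cancel hi]
        rw [this]
        ring
    · simp [Matrix.mul_apply, Fin.sum_univ_two]
    · simp [Matrix.mul_apply, Fin.sum_univ_two, pow_succ]

/-- elements of order divisible by `p (q - 1)` in `SL_3(q)` -/
theorem exists_A4 (p : ℕ) [Fact p.Prime] [CharP F p] :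
    ∃ X : Matrix.SpecialLinearGroup (Fin 3) F, p * (Fintype.card F - 1) ∣ orderOf X := by
  obtain ⟨a, ha0, ha⟩ := exists_gen (F := F)
  have hdet : (!![a, 1; 0, a] : Matrix (Fin 2) (Fin 2) F).det ≠ 0 := by
    rw [Matrix.det_fin_two]
    simp [ha0]
  let g : GL (Fin 2) F := Matrix.GeneralLinearGroup.mkOfDetNeZero _ hdet
  obtain ⟨X, hX, _⟩ := exists_SL3_of_GL2 g
  refine ⟨X, dvd_trans ?_ hX⟩
  have h1 : g ^ orderOf g = 1 := pow_orderOf_eq_one g
  have h2 : ((g : Matrix (Fin 2) (Fin 2) F)) ^ orderOf g = 1 := by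
    have := congrArg Units.val h1
    rw [Units.val_pow_eq_pow_val] at this
    exact this
  have h3 : (g : Matrix (Fin 2) (Fin 2) F) = !![a, 1; 0, a] := rfl
  rw [h3, jordan_pow] at h2
  have h4 : a ^ orderOf g = 1 := by
    have := congrFun (congrFun h2 0) 0
    simpa using this
  have h5 : ((orderOf g : ℕ) : F) * a ^ (orderOf g - 1) = 0 := by
    have := congrFun (congrFun h2 0) 1
    simpa using this
  have h6 : ((orderOf g : ℕ) : F) = 0 := by
    rcases mul_eq_zero.mp h5 with h | h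
    · exact h
    · exact absurd h (pow_ne_zero _ ha0)
  have h7 : p ∣ orderOf g := (CharP.cast_eq_zero_iff F p _).mp h6
  have h8 : (Fintype.card F - 1) ∣ orderOf g := ha _ h4
  have hcop : p.Coprime (Fintype.card F - 1) := by
    obtain ⟨n, hp, hn⟩ := FiniteField.card F p
    rw [Nat.Prime.coprime_iff_not_dvd hp]
    intro h
    have h9 : p ∣ Fintype.card F := by
      rw [hn]
      exact dvd_pow_self p n.ne_zero
    have h10 : 1 ≤ Fintype.card F := Fintype.card_pos
    have h11 : p ∣ 1 := by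
      have := (Nat.dvd_sub h9 h)
      rwa [Nat.sub_sub_self h10] at this
    exact hp.one_lt.ne' (Nat.dvd_one.mp h11)
  exact hcop.mul_dvd_of_dvd_of_dvd h7 h8

/-- an element of order four in characteristic two -/
theorem exists_A5 [CharP F 2] :
    ∃ x : Matrix.ProjectiveSpecialLinearGroup (Fin 3) F, orderOf x = 4 := by
  have hdet : (!![1, 1, 0; 0, 1, 1; 0, 0, 1] : Matrix (Fin 3) (Fin 3) F).det = 1 := by
    rw [Matrix.det_fin_three]
    simp
  let J : Matrix.SpecialLinearGroup (Fin 3) F := ⟨_, hdet⟩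
  have hJ : (J : Matrix (Fin 3) (Fin 3) F) = !![1, 1, 0; 0, 1, 1; 0, 0, 1] := rfl
  have h2 : (2 : F) = 0 := by
    have := CharP.cast_eq_zero F 2
    simpa using this
  have hJ2 : (J : Matrix (Fin 3) (Fin 3) F) ^ 2 = !![1, 0, 1; 0, 1, 0; 0, 0, 1] := by
    rw [hJ, pow_two]
    ext k l
    fin_cases k <;> fin_cases l <;> simp [Matrix.mul_apply, Fin.sum_univ_three]
    · rw [one_add_one_eq_two, h2]
    · rw [one_add_one_eq_two, h2]
  have hJ4 : (J : Matrix (Fin 3) (Fin 3) F) ^ 4 = 1 := by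
    have : (J : Matrix (Fin 3) (Fin 3) F) ^ 4 = ((J : Matrix (Fin 3) (Fin 3) F) ^ 2) ^ 2 := by
      rw [← pow_mul]
    rw [this, hJ2, pow_two]
    ext k l
    fin_cases k <;> fin_cases l <;> simp [Matrix.mul_apply, Fin.sum_univ_three]
    rw [one_add_one_eq_two, h2]
  refine ⟨QuotientGroup.mk J, ?_⟩
  have key := orderOf_eq_prime_pow (x := (QuotientGroup.mk J :
    Matrix.ProjectiveSpecialLinearGroup (Fin 3) F)) (p := 2) (n := 1) ?_ ?_
  · simpa using key
  · rw [pow_one, mk_pow_eq_one_iff]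
    rintro ⟨c, hc⟩
    rw [hJ2] at hc
    have := congrFun (congrFun hc 0) 2
    simp at this
  · rw [mk_pow_eq_one_iff]
    refine ⟨1, ?_⟩
    rw [one_smul]
    exact hJ4

end exist


/-- The set of element orders of PSL(3,q): let F be a finite field of characteristic p with q elements and d = gcd(3, q − 1). The orders of elements of PSL(3,F) are exactly the divisors of (q² + q + 1)/d, of (q² − 1)/d, of q − 1, of p(q − 1)/d, and, when p = 2, of 4. -/
theorem result {F : Type*} [Field F] [Fintype F] (p : ℕ) [Fact p.Prime] [CharP F p] :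
    Set.range (orderOf : Matrix.ProjectiveSpecialLinearGroup (Fin 3) F → ℕ) =
      {m : ℕ | m ∣ (Fintype.card F ^ 2 + Fintype.card F + 1) / Nat.gcd 3 (Fintype.card F - 1) ∨
        m ∣ (Fintype.card F ^ 2 - 1) / Nat.gcd 3 (Fintype.card F - 1) ∨ m ∣ Fintype.card F - 1 ∨
        m ∣ p * (Fintype.card F - 1) / Nat.gcd 3 (Fintype.card F - 1) ∨ (p = 2 ∧ m ∣ 4)} := by
  set q := Fintype.card F with hq
  set d := Nat.gcd 3 (q - 1) with hd
  have hq1 : 1 ≤ q := Fintype.card_pos
  have hd3 : d ∣ 3 := Nat.gcd_dvd_left _ _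
  have hdq : d ∣ q - 1 := Nat.gcd_dvd_right _ _
  obtain ⟨hdN1, hdq2⟩ := arith_d q d hq1 hd3 hdq
  have hdN2 : d ∣ q ^ 2 - 1 := by
    rw [sq_sub_one_eq q hq1]
    exact hdq.mul_left _
  have hdN4 : d ∣ p * (q - 1) := hdq.mul_left _
  ext m
  simp only [Set.mem_range, Set.mem_ofPred_eq]
  constructor
  · rintro ⟨x, rfl⟩
    obtain ⟨X, rfl⟩ := QuotientGroup.mk_surjective x
    have hm : (X : Matrix (Fin 3) (Fin 3) F).charpoly.Monic := Matrix.charpoly_monic _
    have hdeg : (X : Matrix (Fin 3) (Fin 3) F).charpoly.natDegree = 3 := by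
      rw [Matrix.charpoly_natDegree_eq_dim, Fintype.card_fin]
    have h0 : (X : Matrix (Fin 3) (Fin 3) F).charpoly.coeff 0 = -1 := by
      have h1 := Matrix.det_eq_sign_charpoly_coeff (X : Matrix (Fin 3) (Fin 3) F)
      rw [X.2, Fintype.card_fin] at h1
      linear_combination h1
    obtain ⟨N, c, hdvd, hN⟩ := poly_main p _ hm hdeg h0 d hd3 hdq
    have h1 := pow_eq_smul_of_charpoly_dvd _ N c hdvd
    have h2 : (QuotientGroup.mk X : Matrix.ProjectiveSpecialLinearGroup (Fin 3) F) ^ N = 1 := by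
      rw [mk_pow_eq_one_iff]
      exact ⟨c, h1⟩
    have h3 := orderOf_dvd_of_pow_eq_one h2
    rcases hN with rfl | rfl | rfl | rfl | ⟨hp2, rfl⟩
    · exact Or.inl h3
    · exact Or.inr (Or.inl h3)
    · exact Or.inr (Or.inr (Or.inl h3))
    · exact Or.inr (Or.inr (Or.inr (Or.inl h3)))
    · exact Or.inr (Or.inr (Or.inr (Or.inr ⟨hp2, h3⟩)))
  · rintro (h | h | h | h | ⟨hp2, h⟩)
    · obtain ⟨X, hX⟩ := exists_A1 (F := F) p
      have h1 := dvd_orderOf_mk X ((q ^ 2 + q + 1) / d) (by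
        rw [hX, Nat.div_mul_cancel hdN1])
      exact exists_orderOf_of_dvd _ _ m h1 h
    · have : Fact (Nat.Prime p) := inferInstance
      obtain ⟨g, hg⟩ := exists_orderOf_GL (F := F) p 2 2 (by norm_num) le_rfl (q ^ 2 - 1) dvd_rfl
      obtain ⟨X, hX, _⟩ := exists_SL3_of_GL2 g
      have h1 := dvd_orderOf_mk X ((q ^ 2 - 1) / d) (by
        rw [Nat.div_mul_cancel hdN2, ← hg]
        exact hX)
      exact exists_orderOf_of_dvd _ _ m h1 h
    · obtain ⟨x, hx⟩ := exists_A3 (F := F)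
      exact exists_orderOf_of_dvd x _ m hx h
    · obtain ⟨X, hX⟩ := exists_A4 (F := F) p
      have h1 := dvd_orderOf_mk X (p * (q - 1) / d) (by
        rw [Nat.div_mul_cancel hdN4]
        exact hX)
      exact exists_orderOf_of_dvd _ _ m h1 h
    · subst hp2
      obtain ⟨x, hx⟩ := exists_A5 (F := F)
      exact exists_orderOf_of_dvd x 4 m (by rw [hx]) h

end Cfsg.Agent.S2476
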