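import Cfsg.Statements.S0992
import Cfsg.Agent.Lib.Helper17.Burnside
import Mathlib.Tactic.IntervalCases
import Mathlib.Tactic.NormNum.Prime

set_option autoImplicit false
open Cfsg

namespace Cfsg.Agent.S0992

open Cfsg.Agent.Lib.Helper17 Subgroup

/-- Let G be a non-abelian finite simple group of even order not divisible by 8, and T a Sylow 2-subgroup. Then T is a Klein four-group and the centralizer of T has index 3 in the normalizer of T. -/
theorem result {G : Type*} [Group G] [Finite G] [IsSimpleGroup G] (hG : ¬ IsMulCommutative G) (h2 : Even (Nat.card G)) (h8 : ¬ 8 ∣ Nat.card G) (T : Sylow 2 G) : IsKleinFour ↥(T : Subgroup G) ∧ (Subgroup.centralizer ((T : Subgroup G) : Set G)).relIndex (Subgroup.normalizer ((T : Subgroup G) : Set G)) = 3 := by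
  have : Fact (Nat.Prime 2) := ⟨Nat.prime_two⟩
  have hdvd : 2 ∣ Nat.card G := even_iff_two_dvd.1 h2
  have hnle := not_normalizer_le_centralizer_of_simple hG T hdvd
  have hmin : (Nat.card G).minFac = 2 := (Nat.minFac_eq_two_iff _).2 hdvd
  have hncyc : ¬ IsCyclic (T : Subgroup G) := fun hc =>
    hnle (IsCyclic.normalizer_le_centralizer hmin hc)
  obtain ⟨k, hk⟩ := IsPGroup.iff_card.mp T.isPGroup'
  have hk2 : k ≤ 2 := by
    by_contra hcon
    have h3 : 3 ≤ k := by omega
    apply h8
    have h4 : (2 : ℕ) ^ 3 ∣ 2 ^ k := pow_dvd_pow 2 h3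
    have h5 : Nat.card (T : Subgroup G) ∣ Nat.card G := (T : Subgroup G).card_subgroup_dvd_card
    rw [hk] at h5
    exact (by norm_num : (8 : ℕ) = 2 ^ 3) ▸ h4.trans h5
  have hk1 : 1 ≤ k := by
    have h5 := T.dvd_card_of_dvd_card hdvd
    rw [hk] at h5
    by_contra hcon
    have : k = 0 := by omega
    rw [this, pow_zero] at h5
    exact absurd (Nat.dvd_one.1 h5) (by norm_num)
  have hkne : k ≠ 1 := by
    intro h1
    rw [h1, pow_one] at hk
    exact hncyc (isCyclic_of_prime_card hk)
  have hk' : k = 2 := by omega
  have hcard : Nat.card (T : Subgroup G) = 4 := by rw [hk, hk']; norm_num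
  have hexp : Monoid.exponent (T : Subgroup G) = 2 := by
    have h1 : Monoid.exponent (T : Subgroup G) ∣ 2 := by
      apply Monoid.exponent_dvd_of_forall_pow_eq_one
      intro x
      have hx4 : orderOf x ∣ 4 := hcard ▸ orderOf_dvd_natCard x
      have hxne : orderOf x ≠ 4 := by
        intro h
        exact hncyc (isCyclic_of_orderOf_eq_card x (h.trans hcard.symm))
      have hle : orderOf x ≤ 4 := Nat.le_of_dvd (by norm_num) hx4
      have hx2 : orderOf x ∣ 2 := by
        generalize orderOf x = e at *
        interval_cases e <;> omega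
      exact orderOf_dvd_iff_pow_eq_one.1 hx2
    have h3 : Monoid.exponent (T : Subgroup G) ≠ 1 := by
      intro h
      have hs : Subsingleton (T : Subgroup G) := Monoid.exp_eq_one_iff.1 h
      have : Nat.card (T : Subgroup G) = 1 := Nat.card_unique
      omega
    rcases (Nat.dvd_prime Nat.prime_two).1 h1 with h | h
    · exact (h3 h).elim
    · exact h
  have hK : IsKleinFour (T : Subgroup G) := ⟨hcard, hexp⟩
  refine ⟨hK, ?_⟩
  have hcomm : IsMulCommutative (T : Subgroup G) := IsKleinFour.isMulCommutative
  have hTC : (T : Subgroup G) ≤ centralizer ((T : Subgroup G) : Set G) := Subgroup.le_centralizer _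
  have hCN : centralizer ((T : Subgroup G) : Set G) ≤ normalizer ((T : Subgroup G) : Set G) :=
    Subgroup.centralizer_le_normalizer _
  have hmul := Subgroup.relIndex_mul_relIndex _ _ _ hTC hCN
  have hTN : (T : Subgroup G).relIndex (normalizer ((T : Subgroup G) : Set G)) ∣ (T : Subgroup G).index :=
    Subgroup.relIndex_dvd_index_of_le Subgroup.le_normalizer
  have hodd : ¬ 2 ∣ (T : Subgroup G).index := T.not_dvd_index
  have hr_odd : ¬ 2 ∣ (centralizer ((T : Subgroup G) : Set G)).relIndex (normalizer ((T : Subgroup G) : Set G)) := by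
    intro h
    apply hodd
    refine Dvd.dvd.trans ?_ hTN
    rw [← hmul]
    exact Dvd.dvd.mul_left h _
  have hr_dvd : (centralizer ((T : Subgroup G) : Set G)).relIndex (normalizer ((T : Subgroup G) : Set G)) ∣ 24 := by
    have := relIndex_centralizer_normalizer_dvd_factorial (T : Subgroup G)
    rw [hcard] at this
    exact this
  have hr_ne : (centralizer ((T : Subgroup G) : Set G)).relIndex (normalizer ((T : Subgroup G) : Set G)) ≠ 1 := by
    intro h
    exact hnle (Subgroup.relIndex_eq_one.1 h)
  have hle : (centralizer ((T : Subgroup G) : Set G)).relIndex (normalizer ((T : Subgroup G) : Set G)) ≤ 24 :=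
    Nat.le_of_dvd (by norm_num) hr_dvd
  generalize (centralizer ((T : Subgroup G) : Set G)).relIndex (normalizer ((T : Subgroup G) : Set G)) = e at *
  interval_cases e <;> omega

end Cfsg.Agent.S0992
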