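import Cfsg.Statements.S3277
import Cfsg.Agent.Lib.Helper17.SelfCentKlein
import Cfsg.Agent.Lib.Helper17.SmallNormal

set_option autoImplicit false
open Cfsg

namespace Cfsg.Agent.S3277

/-- Let G be a finite group containing an involution whose centralizer is elementary abelian of order 4. If G has no normal 2-complement and no normal elementary abelian 2-subgroup of order 2 or 4, then G is isomorphic to the alternating group of degree 5 (that is, to PSL(2, 5)). -/
theorem result {G : Type*} [Group G] [Finite G] (x : G) (hx : orderOf x = 2)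
    (hC4 : Nat.card ↥(Subgroup.centralizer ({x} : Set G)) = 4) (hCe : ∀ c ∈ Subgroup.centralizer ({x} : Set G), c ^ 2 = 1)
    (hnc : ¬ Cfsg.HasNormalPComplement 2 G)
    (hne : ∀ E : Subgroup G, E.Normal → Cfsg.IsElementaryAbelian 2 E → Nat.card ↥E ≠ 2 ∧ Nat.card ↥E ≠ 4) :
    Nonempty (G ≃* ↥(alternatingGroup (Fin 5))) := by
  have : Fact (Nat.Prime 2) := ⟨Nat.prime_two⟩
  have hVp : IsPGroup 2 ↥(Subgroup.centralizer ({x} : Set G)) :=
    IsPGroup.of_card (n := 2) (by rw [hC4]; norm_num)
  obtain ⟨P, hVP⟩ := hVp.exists_le_sylow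
  by_cases h4 : Nat.card (P : Subgroup G) = 4
  · have hPV : (P : Subgroup G) = Subgroup.centralizer ({x} : Set G) :=
      (Subgroup.eq_of_le_of_card_ge hVP (by rw [h4, hC4])).symm
    apply Cfsg.Agent.Lib.Helper17.iso_alt5_of_self_centralizing_sylow x hx hC4 hnc P hPV
    intro hPn
    have hE : Cfsg.IsElementaryAbelian 2 (P : Subgroup G) := by
      rw [hPV]
      refine ⟨⟨⟨fun a b => ?_⟩⟩, hCe⟩
      apply Subtype.ext
      show (a : G) * (b : G) = (b : G) * (a : G)
      have ha := hCe a.1 a.2
      have hb := hCe b.1 b.2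
      have hab := hCe (a.1 * b.1) (mul_mem a.2 b.2)
      rw [pow_two] at ha hb hab
      have hainv : (a : G)⁻¹ = a := inv_eq_of_mul_eq_one_left ha
      have hbinv : (b : G)⁻¹ = b := inv_eq_of_mul_eq_one_left hb
      have h1 : (a : G) * b = ((a : G) * b)⁻¹ := (inv_eq_of_mul_eq_one_left hab).symm
      rw [mul_inv_rev, hainv, hbinv] at h1
      exact h1
    exact (hne _ hPn hE).2 h4
  · exfalso
    obtain ⟨E, hEn, hEe, hcard⟩ :=
      Cfsg.Agent.Lib.Helper17.exists_small_normal_elementary_abelian x hx hC4 hCe P hVP h4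
    rcases hcard with h | h
    · exact (hne E hEn hEe).1 h
    · exact (hne E hEn hEe).2 h

end Cfsg.Agent.S3277
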