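import Cfsg.Statements.S0721
import Mathlib
-- import your own Cfsg.Agent.* helpers here

set_option autoImplicit false
open Cfsg

namespace Cfsg.Agent.S0721

/-- internal direct product of two disjoint normal subgroups -/
theorem sup_equiv_prod {G : Type*} [Group G] (K L : Subgroup G) (hK : K.Normal) (hL : L.Normal)
    (h : Disjoint K L) : Nonempty ((K ⊔ L : Subgroup G) ≃* K × L) := by
  have comm : ∀ (k : K) (l : L), Commute (K.subtype k) (L.subtype l) := fun k l =>
    Subgroup.commute_of_normal_of_disjoint K L hK hL h k.1 l.1 k.2 l.2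
  let f := MonoidHom.noncommCoprod K.subtype L.subtype comm
  have hinj : Function.Injective f := by
    rw [MonoidHom.noncommCoprod_injective]
    refine ⟨Subtype.coe_injective, Subtype.coe_injective, ?_⟩
    rw [Subgroup.range_subtype, Subgroup.range_subtype]
    exact h
  have hrange : f.range = K ⊔ L := by
    rw [MonoidHom.noncommCoprod_range, Subgroup.range_subtype, Subgroup.range_subtype]
  exact ⟨((MonoidHom.ofInjective hinj).trans (MulEquiv.subgroupCongr hrange)).symm⟩

/-- `(Fin m → T) × T ≃* (Fin (m+1) → T)` -/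
theorem pi_succ_equiv (T : Type*) [Group T] (m : ℕ) :
    Nonempty (((Fin m → T) × T) ≃* (Fin (m + 1) → T)) := by
  refine ⟨{ toFun := fun p => Fin.snoc (α := fun _ => T) p.1 p.2
            invFun := fun f => (fun i => f i.castSucc, f (Fin.last m))
            left_inv := fun p => by
              ext i
              · simp
              · simp
            right_inv := fun f => by
              funext i
              refine Fin.lastCases ?_ (fun j => ?_) i
              · simp
              · simp
            map_mul' := fun p q => by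
              funext i
              refine Fin.lastCases ?_ (fun j => ?_) i
              · simp
              · simp }⟩


section abstract
variable {G : Type*} [Group G]

/-- images of a minimal normal subgroup under automorphisms are minimal normal -/
theorem minimal_map (T : Subgroup G) (hTn : T.Normal)
    (hTmin : ∀ S : Subgroup G, S.Normal → S ≤ T → S = ⊥ ∨ S = T) (φ : MulAut G) :
    (T.map (φ : G ≃* G).toMonoidHom).Normal ∧
      ∀ S : Subgroup G, S.Normal → S ≤ T.map (φ : G ≃* G).toMonoidHom →
        S = ⊥ ∨ S = T.map (φ : G ≃* G).toMonoidHom := by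
  refine ⟨hTn.map _ (φ : G ≃* G).surjective, ?_⟩
  intro S hS hST
  have hS' : (S.comap (φ : G ≃* G).toMonoidHom).Normal := hS.comap _
  have hle : S.comap (φ : G ≃* G).toMonoidHom ≤ T := by
    intro x hx
    obtain ⟨t, ht, hxt⟩ := hST hx
    have : t = x := (φ : G ≃* G).injective hxt
    rw [← this]; exact ht
  rcases hTmin _ hS' hle with h | h
  · left
    rw [eq_bot_iff]
    intro s hs
    have h1 : (φ : G ≃* G).symm s ∈ S.comap (φ : G ≃* G).toMonoidHom := by
      rw [Subgroup.mem_comap]
      simpa using hs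
    rw [h, Subgroup.mem_bot] at h1
    rw [Subgroup.mem_bot]
    have := congrArg (φ : G ≃* G) h1
    simpa using this
  · right
    apply le_antisymm hST
    rintro _ ⟨t, ht, rfl⟩
    rw [← h] at ht
    exact ht

/-- two minimal normal subgroups are equal or disjoint -/
theorem eq_or_disjoint (T U : Subgroup G) (hTn : T.Normal) (hUn : U.Normal) (hT : T ≠ ⊥)
    (hTmin : ∀ S : Subgroup G, S.Normal → S ≤ T → S = ⊥ ∨ S = T)
    (hUmin : ∀ S : Subgroup G, S.Normal → S ≤ U → S = ⊥ ∨ S = U) :
    T = U ∨ Disjoint T U := by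
  rcases hTmin (T ⊓ U) (Subgroup.normal_inf_normal T U) inf_le_left with h | h
  · right; exact disjoint_iff.mpr h
  · left
    have hTU : T ≤ U := by rw [← h]; exact inf_le_right
    exact (hUmin T hTn hTU).resolve_left hT

variable [Finite G] [Nontrivial G] (A : Subgroup (MulAut G))
  (hinn : ∀ g : G, MulAut.conj g ∈ A)
  (hmin : ∀ K : Subgroup G, (∀ φ ∈ A, K.map (φ : G ≃* G).toMonoidHom ≤ K) → K = ⊥ ∨ K = ⊤)

include hmin in
/-- a subgroup containing all `A`-images of a non-trivial subgroup `T` is everything -/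
theorem eq_top_of_images_le (T : Subgroup G) (hT : T ≠ ⊥) (K : Subgroup G)
    (hK : ∀ φ ∈ A, T.map (φ : G ≃* G).toMonoidHom ≤ K) : K = ⊤ := by
  let K' : Subgroup G :=
    { carrier := {x | ∀ ψ ∈ A, (ψ : G ≃* G) x ∈ K}
      one_mem' := fun ψ _ => by rw [map_one]; exact K.one_mem
      mul_mem' := fun {x y} hx hy ψ hψ => by rw [map_mul]; exact K.mul_mem (hx ψ hψ) (hy ψ hψ)
      inv_mem' := fun {x} hx ψ hψ => by rw [map_inv]; exact K.inv_mem (hx ψ hψ) }
  have hTK' : T ≤ K' := fun t ht ψ hψ => hK ψ hψ ⟨t, ht, rfl⟩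
  have hinv : ∀ φ ∈ A, K'.map (φ : G ≃* G).toMonoidHom ≤ K' := by
    rintro φ hφ _ ⟨x, hx, rfl⟩ ψ hψ
    have := hx (ψ * φ) (A.mul_mem hψ hφ)
    simpa using this
  have hK'top : K' = ⊤ := by
    rcases hmin K' hinv with h | h
    · exfalso
      apply hT
      rw [eq_bot_iff, ← h]
      exact hTK'
    · exact h
  rw [eq_top_iff]
  intro x _
  have hx : x ∈ K' := by rw [hK'top]; trivial
  have := hx 1 A.one_mem
  simpa using this

include hinn hmin in
theorem main_abstract :
    ∃ (T : Subgroup G) (m : ℕ), IsSimpleGroup T ∧ 0 < m ∧ Nonempty (G ≃* (Fin m → T)) := by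
  classical
  -- Step 1: a minimal normal subgroup
  have hwf : WellFounded ((· < ·) : Subgroup G → Subgroup G → Prop) := wellFounded_lt
  obtain ⟨T, ⟨hTn, hTne⟩, hTmin'⟩ := hwf.has_min {K : Subgroup G | K.Normal ∧ K ≠ ⊥}
    ⟨⊤, Subgroup.normal_top, top_ne_bot⟩  -- may need tweak
  have hTmin : ∀ S : Subgroup G, S.Normal → S ≤ T → S = ⊥ ∨ S = T := by
    intro S hS hST
    by_cases hS0 : S = ⊥
    · exact Or.inl hS0
    · right
      have := hTmin' S ⟨hS, hS0⟩
      exact eq_of_le_of_not_lt hST this
  -- Step 4: T ⊔ C(T) = ⊤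
  have hZn : (Subgroup.centralizer (T : Set G)).Normal := Subgroup.normal_centralizer
  have hTZ : T ⊔ Subgroup.centralizer (T : Set G) = ⊤ := by
    apply eq_top_of_images_le A hmin T hTne
    intro φ hφ
    obtain ⟨hUn, hUmin⟩ := minimal_map T hTn hTmin φ
    rcases eq_or_disjoint T _ hTn hUn hTne hTmin hUmin with h | h
    · rw [← h]; exact le_sup_left
    · refine le_trans ?_ le_sup_right
      intro u hu
      rw [Subgroup.mem_centralizer_iff]
      intro t ht
      exact (Subgroup.commute_of_normal_of_disjoint T _ hTn hUn h t u ht hu).eq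
  have hTnt : Nontrivial T := (Subgroup.nontrivial_iff_ne_bot T).mpr hTne
  have hTsimple : IsSimpleGroup T := by
    refine ⟨fun S hS => ?_⟩
    have hS'n : (S.map T.subtype).Normal := by
      constructor
      rintro _ ⟨s, hs, rfl⟩ g
      have hg : g ∈ ((T ⊔ Subgroup.centralizer (T : Set G) : Subgroup G) : Set G) := by
        rw [hTZ]; trivial
      rw [Subgroup.normal_mul] at hg
      obtain ⟨t, ht, z, hz, rfl⟩ := hg
      have hz' := Subgroup.mem_centralizer_iff.mp hz
      have hzs : z * (s : G) * z⁻¹ = s := by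
        have := hz' (s : G) s.2
        rw [← this]; group
      have e : (t * z) * (T.subtype s) * (t * z)⁻¹ = t * (s : G) * t⁻¹ := by
        change (t * z) * (s : G) * (t * z)⁻¹ = _
        have : (t * z) * (s : G) * (t * z)⁻¹ = t * (z * (s : G) * z⁻¹) * t⁻¹ := by group
        rw [this, hzs]
      change (t * z) * (T.subtype s) * (t * z)⁻¹ ∈ _
      rw [e]
      have := hS.conj_mem s hs ⟨t, ht⟩
      exact ⟨_, this, rfl⟩
    have hS'le : S.map T.subtype ≤ T := by
      rintro _ ⟨s, _, rfl⟩
      exact s.2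
    rcases hTmin _ hS'n hS'le with h | h
    · left
      rw [eq_bot_iff]
      intro s hs
      have : T.subtype s ∈ S.map T.subtype := ⟨s, hs, rfl⟩
      rw [h, Subgroup.mem_bot] at this
      rw [Subgroup.mem_bot]
      exact Subtype.ext this
    · right
      rw [eq_top_iff]
      intro t _
      have : (t : G) ∈ S.map T.subtype := by rw [h]; exact t.2
      obtain ⟨s, hs, hst⟩ := this
      have : s = t := Subtype.ext hst
      rw [← this]; exact hs
  -- Step 5: maximal direct product of copies of T
  have hwf' : WellFounded ((· > ·) : Subgroup G → Subgroup G → Prop) := wellFounded_gt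
  obtain ⟨K, ⟨hKn, m, ⟨eK⟩⟩, hKmax⟩ := hwf'.has_min
    {K : Subgroup G | K.Normal ∧ ∃ m : ℕ, Nonempty (K ≃* (Fin m → T))}
    ⟨⊥, Subgroup.normal_bot, 0, ⟨MulEquiv.ofUnique⟩⟩
  have hKtop : K = ⊤ := by
    apply eq_top_of_images_le A hmin T hTne
    intro φ hφ
    by_contra hnot
    obtain ⟨hUn, hUmin⟩ := minimal_map T hTn hTmin φ
    set U := T.map (φ : G ≃* G).toMonoidHom with hU
    have hdisj : Disjoint K U := by
      rw [disjoint_iff]
      rcases hUmin (K ⊓ U) (Subgroup.normal_inf_normal K U) inf_le_right with h | h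
      · exact h
      · exfalso
        apply hnot
        rw [← h]; exact inf_le_left
    obtain ⟨e1⟩ := sup_equiv_prod K U hKn hUn hdisj
    have eU : U ≃* T := (MulEquiv.subgroupMap (φ : G ≃* G) T).symm
    obtain ⟨e2⟩ := pi_succ_equiv T m
    have e3 : (K ⊔ U : Subgroup G) ≃* (Fin (m + 1) → T) :=
      (e1.trans (MulEquiv.prodCongr eK eU)).trans e2
    have hKUn : (K ⊔ U).Normal := Subgroup.sup_normal K U
    have hlt : K < K ⊔ U := by
      refine lt_of_le_of_ne le_sup_left ?_
      intro h
      apply hnot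
      rw [h]; exact le_sup_right
    exact hKmax (K ⊔ U) ⟨hKUn, m + 1, ⟨e3⟩⟩ hlt
  have eG : G ≃* (Fin m → T) := by
    have e0 : G ≃* (⊤ : Subgroup G) := Subgroup.topEquiv.symm
    have e1 : (⊤ : Subgroup G) ≃* K := MulEquiv.subgroupCongr hKtop.symm
    exact (e0.trans e1).trans eK
  refine ⟨T, m, hTsimple, ?_, ⟨eG⟩⟩
  rcases Nat.eq_zero_or_pos m with h0 | h0
  · exfalso
    subst h0
    have : Subsingleton G := eG.toEquiv.subsingleton
    exact not_subsingleton G this
  · exact h0

end abstract

/-- A minimal normal subgroup of a finite group is isomorphic to a direct power `T ^ m` of a simple group `T` (possibly of prime order). -/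
theorem result {H : Type*} [Group H] [Finite H] (N : Subgroup H) [N.Normal] (hN : N ≠ ⊥) (hmin : ∀ M : Subgroup H, M.Normal → M ≤ N → M = ⊥ ∨ M = N) : ∃ (T : Type) (_ : Group T) (m : ℕ), IsSimpleGroup T ∧ 0 < m ∧ Nonempty (N ≃* (Fin m → T)) := by
  classical
  have hNnt : Nontrivial N := (Subgroup.nontrivial_iff_ne_bot N).mpr hN
  let A : Subgroup (MulAut N) := (MulAut.conjNormal : H →* MulAut N).range
  have hinn : ∀ g : N, MulAut.conj g ∈ A := by
    intro g
    refine ⟨(g : H), ?_⟩
    ext x
    simp [MulAut.conjNormal_apply]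
  have hminA : ∀ K : Subgroup N, (∀ φ ∈ A, K.map (φ : N ≃* N).toMonoidHom ≤ K) → K = ⊥ ∨ K = ⊤ := by
    intro K hK
    have hKn : (K.map N.subtype).Normal := by
      constructor
      rintro _ ⟨k, hk, rfl⟩ h
      have := hK (MulAut.conjNormal h) ⟨h, rfl⟩ ⟨k, hk, rfl⟩
      refine ⟨_, this, ?_⟩
      simp [MulAut.conjNormal_apply]
    have hKle : K.map N.subtype ≤ N := by
      rintro _ ⟨k, _, rfl⟩
      exact k.2
    rcases hmin _ hKn hKle with h | h
    · left
      rw [eq_bot_iff]
      intro k hk
      have : N.subtype k ∈ K.map N.subtype := ⟨k, hk, rfl⟩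
      rw [h, Subgroup.mem_bot] at this
      rw [Subgroup.mem_bot]
      exact Subtype.ext this
    · right
      rw [eq_top_iff]
      intro n _
      have : (n : H) ∈ K.map N.subtype := by rw [h]; exact n.2
      obtain ⟨k, hk, hkn⟩ := this
      have : k = n := Subtype.ext hkn
      rw [← this]; exact hk
  obtain ⟨T, m, hTs, hm, ⟨e⟩⟩ := main_abstract A hinn hminA
  -- move T to universe 0
  have hTfin : Finite T := inferInstance
  have hTcount : Countable T := inferInstance
  have hsmall : Small.{0} T := Countable.toSmall T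
  let eT' : Shrink.{0} T ≃* T := Shrink.mulEquiv
  have hTnt : Nontrivial (Shrink.{0} T) := inferInstance
  have hsimple : IsSimpleGroup (Shrink.{0} T) :=
    IsSimpleGroup.isSimpleGroup_of_surjective eT'.symm.toMonoidHom eT'.symm.surjective
  refine ⟨Shrink.{0} T, inferInstance, m, hsimple, hm, ⟨e.trans ?_⟩⟩
  exact MulEquiv.piCongrRight (fun _ => eT'.symm)

end Cfsg.Agent.S0721
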