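import Cfsg.Statements.S0173
import Cfsg.Agent.Lib.Helper81.BrauerPerm
import Cfsg.Agent.Lib.Helper81.IrrTwist
import Cfsg.Agent.Lib.Helper74.RealCount

set_option autoImplicit false
open Cfsg

namespace Cfsg.Agent.S0173

open scoped ComplexConjugate

section aux

variable {G : Type*} [Group G]

theorem isConj_map_iff_of_isConj (α : G ≃* G) {g x : G} (hc : IsConj g x) :
    IsConj g (α g) ↔ IsConj x (α x) := by
  obtain ⟨c, hx⟩ := isConj_iff.mp hc
  have h1 : IsConj (α g) (α x) := isConj_iff.mpr ⟨α c, by rw [← hx]; simp⟩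
  constructor
  · intro h; exact (hc.symm.trans h).trans h1
  · intro h; exact (hc.trans h).trans h1.symm

theorem class_fixed_iff (α : G ≃* G) (g : G) :
    ConjClasses.map α.toMonoidHom (ConjClasses.mk g) = ConjClasses.mk g ↔ IsConj g (α g) := by
  show ConjClasses.mk (α g) = ConjClasses.mk g ↔ _
  rw [ConjClasses.mk_eq_mk_iff_isConj]
  exact isConj_comm

variable [Fintype G]

open Classical in
/-- Class-side count of fixed classes. -/
theorem sum_fixed_card_centralizer (α : G ≃* G) :
    ∑ g : G, (if IsConj g (α g) then (Nat.card (Subgroup.centralizer ({g} : Set G)) : ℂ) else 0)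
      = (Nat.card G : ℂ) *
        (Nat.card {C : ConjClasses G // ConjClasses.map α.toMonoidHom C = C} : ℂ) := by
  rw [← Finset.sum_fiberwise (s := Finset.univ) (g := (ConjClasses.mk : G → ConjClasses G))]
  have h1 : ∀ C : ConjClasses G,
      ∑ x ∈ Finset.univ.filter (fun x : G => ConjClasses.mk x = C),
        (if IsConj x (α x) then (Nat.card (Subgroup.centralizer ({x} : Set G)) : ℂ) else 0)
      = if ConjClasses.map α.toMonoidHom C = C then (Nat.card G : ℂ) else 0 := by
    intro C
    obtain ⟨g, rfl⟩ := ConjClasses.mk_surjective C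
    by_cases hg : IsConj g (α g)
    · rw [if_pos ((class_fixed_iff α g).mpr hg),
        ← Cfsg.Agent.Lib.Helper74.sum_card_centralizer_class g]
      refine Finset.sum_congr rfl (fun x hx => ?_)
      simp only [Finset.mem_filter, Finset.mem_univ, true_and] at hx
      have hc : IsConj g x := (ConjClasses.mk_eq_mk_iff_isConj.mp hx).symm
      rw [if_pos ((isConj_map_iff_of_isConj α hc).mp hg)]
    · rw [if_neg (fun h => hg ((class_fixed_iff α g).mp h))]
      apply Finset.sum_eq_zero
      intro x hx
      simp only [Finset.mem_filter, Finset.mem_univ, true_and] at hx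
      have hc : IsConj g x := (ConjClasses.mk_eq_mk_iff_isConj.mp hx).symm
      rw [if_neg]
      intro hx'
      exact hg ((isConj_map_iff_of_isConj α hc).mpr hx')
  simp only [h1]
  rw [Finset.sum_ite, Finset.sum_const_zero, add_zero, Finset.sum_const, nsmul_eq_mul, mul_comm]
  congr 1
  rw [Nat.card_eq_fintype_card, Fintype.card_subtype]

open Classical in
theorem card_pairs_eq_sum (α : G ≃* G) :
    (Nat.card {p : G × G // p.2 * p.1 * p.2⁻¹ = α p.1} : ℂ) =
      ∑ g : G, (if IsConj g (α g) then (Nat.card (Subgroup.centralizer ({g} : Set G)) : ℂ)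
        else 0) := by
  have e : {p : G × G // p.2 * p.1 * p.2⁻¹ = α p.1} ≃ Σ y : G, {k : G // k * y * k⁻¹ = α y} :=
    { toFun := fun p => ⟨p.1.1, ⟨p.1.2, p.2⟩⟩
      invFun := fun q => ⟨(q.1, q.2.1), q.2.2⟩
      left_inv := fun p => rfl
      right_inv := fun q => rfl }
  rw [Nat.card_congr e, Nat.card_sigma]
  push_cast
  refine Finset.sum_congr rfl fun y _ => ?_
  by_cases h : IsConj y (α y)
  · rw [if_pos h, Cfsg.Agent.Lib.Helper81.card_conjugators_of_isConj h]
  · rw [if_neg h]
    have : IsEmpty {k : G // k * y * k⁻¹ = α y} :=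
      ⟨fun k => h (isConj_iff.mpr ⟨k.1, k.2⟩)⟩
    simp

end aux


/-- Brauer's permutation lemma for a single automorphism: the number of conjugacy classes mapped to themselves equals the number of irreducible complex characters χ with χ ∘ α = χ. -/
theorem result {G : Type*} [Group G] [Finite G] (α : G ≃* G) : Nat.card {C : ConjClasses G // ConjClasses.map α.toMonoidHom C = C} = Nat.card {χ : Cfsg.IrrCharacter G // (χ : G → ℂ) ∘ α = (χ : G → ℂ)} := by
  classical
  cases nonempty_fintype G
  let a : Cfsg.IrrCharacter G → Cfsg.IrrCharacter G := fun χ =>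
    ⟨(χ : G → ℂ) ∘ α.symm, Cfsg.Agent.Lib.Helper81.isIrrCharacter_comp_mulEquiv χ.2 α.symm⟩
  have hab : ∀ (χ : Cfsg.IrrCharacter G) (y : G), (a χ : G → ℂ) (α y) = (χ : G → ℂ) y := by
    intro χ y
    simp [a]
  have h1 := Cfsg.Agent.Lib.Helper81.brauer_perm_count a α α.bijective hab
  rw [card_pairs_eq_sum α, sum_fixed_card_centralizer α, mul_comm] at h1
  have hG : (Nat.card G : ℂ) ≠ 0 := by
    have : Nat.card G ≠ 0 := Nat.card_pos.ne'
    exact_mod_cast this
  have h2 := mul_left_cancel₀ hG h1
  have h3 : Nat.card {χ : Cfsg.IrrCharacter G // a χ = χ} =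
      Nat.card {C : ConjClasses G // ConjClasses.map α.toMonoidHom C = C} := by
    exact_mod_cast h2
  rw [← h3]
  apply Nat.card_congr
  refine Equiv.subtypeEquivRight fun χ => ?_
  constructor
  · intro h
    have h' : (χ : G → ℂ) ∘ α.symm = (χ : G → ℂ) := congrArg Subtype.val h
    funext g
    have := congrFun h' (α g)
    simp only [Function.comp_apply, MulEquiv.symm_apply_apply] at this
    simp only [Function.comp_apply]
    exact this.symm
  · intro h
    apply Subtype.ext
    show (χ : G → ℂ) ∘ α.symm = (χ : G → ℂ)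
    funext g
    have := congrFun h (α.symm g)
    simp only [Function.comp_apply, MulEquiv.apply_symm_apply] at this
    simp only [Function.comp_apply]
    exact this.symm

end Cfsg.Agent.S0173
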