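import Cfsg.Statements.S1536
import Cfsg.Agent.S0173
import Cfsg.Agent.Lib.Helper76.CoprimeFix

set_option autoImplicit false
open Cfsg

namespace Cfsg.Agent.S1536

/-- Let H be a normal subgroup of the finite group M whose order is coprime to its index. For x ∈ M: some non-principal irreducible character of H is unchanged under h ↦ θ(x h x⁻¹) if and only if some non-identity element of H commutes with x. -/
theorem result {M : Type*} [Group M] [Finite M] (H : Subgroup M) [hN : H.Normal] (hHall : Nat.Coprime (Nat.card H) H.index) (x : M) : (∃ θ : H → ℂ, Cfsg.IsIrrCharacter H θ ∧ θ ≠ (fun _ => 1) ∧ (fun h : H => θ ⟨x * h * x⁻¹, hN.conj_mem h h.2 x⟩) = θ) ↔ ∃ h ∈ H, h ≠ 1 ∧ x * h = h * x := by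
  classical
  have : Fintype H := Fintype.ofFinite H
  set α : H ≃* H := MulAut.conjNormal x with hα
  have hαc : ∀ h : H, α h = ⟨x * h * x⁻¹, hN.conj_mem h h.2 x⟩ := fun h =>
    Subtype.ext (MulAut.conjNormal_apply x h)
  have hcount := Cfsg.Agent.S0173.result α
  have h1irr : Cfsg.IsIrrCharacter H (fun _ : H => (1 : ℂ)) :=
    Cfsg.Agent.Lib.Helper78.isIrrCharacter_one
  let χ1 : Cfsg.IrrCharacter H := ⟨fun _ => 1, h1irr⟩
  have hχ1fix : (χ1 : H → ℂ) ∘ α = (χ1 : H → ℂ) := rfl
  have hmap : ∀ a : H, ConjClasses.map α.toMonoidHom (ConjClasses.mk a) =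
      ConjClasses.mk (α a) := fun a => rfl
  have hC1fix : ConjClasses.map α.toMonoidHom (ConjClasses.mk (1 : H)) = ConjClasses.mk 1 := by
    rw [hmap, map_one]
  constructor
  · rintro ⟨θ, hθirr, hθ1, hθfix⟩
    let χθ : Cfsg.IrrCharacter H := ⟨θ, hθirr⟩
    have hχθfix : (χθ : H → ℂ) ∘ α = (χθ : H → ℂ) := by
      funext h
      have := congrFun hθfix h
      simp only [Function.comp_apply]
      rw [hαc h]
      exact this
    have hne : (⟨χθ, hχθfix⟩ : {χ : Cfsg.IrrCharacter H // (χ : H → ℂ) ∘ α = (χ : H → ℂ)}) ≠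
        ⟨χ1, hχ1fix⟩ := by
      intro h
      apply hθ1
      have h2 := congrArg (fun z => ((z.1 : Cfsg.IrrCharacter H) : H → ℂ)) h
      exact h2
    have hnt : Nontrivial {χ : Cfsg.IrrCharacter H // (χ : H → ℂ) ∘ α = (χ : H → ℂ)} :=
      ⟨⟨_, _, hne⟩⟩
    have h2 : 1 < Nat.card {χ : Cfsg.IrrCharacter H // (χ : H → ℂ) ∘ α = (χ : H → ℂ)} :=
      Finite.one_lt_card_iff_nontrivial.mpr hnt
    rw [← hcount] at h2
    have hnt' := Finite.one_lt_card_iff_nontrivial.mp h2
    obtain ⟨C, hC⟩ := exists_ne (⟨ConjClasses.mk (1 : H), hC1fix⟩ :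
      {C : ConjClasses H // ConjClasses.map α.toMonoidHom C = C})
    obtain ⟨c, hc⟩ := ConjClasses.exists_rep C.1
    have hc1 : c ≠ 1 := by
      intro h
      apply hC
      apply Subtype.ext
      rw [← hc, h]
    have hfix := C.2
    rw [← hc, hmap, ConjClasses.mk_eq_mk_iff_isConj] at hfix
    obtain ⟨k, hk⟩ := isConj_iff.mp hfix
    have hk' : x * (c : M) * x⁻¹ = (k⁻¹ : H) * (c : M) * ((k⁻¹ : H) : M)⁻¹ := by
      have h3 := congrArg (fun z : H => (z : M)) hk
      simp only [Subgroup.coe_mul, Subgroup.coe_inv] at h3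
      have h4 : ((α c : H) : M) = x * (c : M) * x⁻¹ := by
        rw [hαc c]
      rw [h4] at h3
      simp only [Subgroup.coe_inv, inv_inv]
      calc x * (c : M) * x⁻¹ = (k : M)⁻¹ * ((k : M) * (x * (c : M) * x⁻¹) * (k : M)⁻¹) * (k : M) := by
            group
        _ = (k : M)⁻¹ * (c : M) * (k : M) := by rw [h3]
    have hc1' : (c : M) ≠ 1 := fun h => hc1 (Subtype.ext h)
    exact Cfsg.Agent.Lib.Helper76.exists_commuting_of_conj_class H hHall x (c : M) c.2 hc1'
      ⟨((k⁻¹ : H) : M), (k⁻¹ : H).2, hk'⟩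
  · rintro ⟨h, hh, h1, hcomm⟩
    have hChfix : ConjClasses.map α.toMonoidHom (ConjClasses.mk (⟨h, hh⟩ : H)) =
        ConjClasses.mk ⟨h, hh⟩ := by
      rw [hmap]
      congr 1
      rw [hαc]
      apply Subtype.ext
      change x * h * x⁻¹ = h
      rw [hcomm]; group
    have hne : (⟨ConjClasses.mk (⟨h, hh⟩ : H), hChfix⟩ :
        {C : ConjClasses H // ConjClasses.map α.toMonoidHom C = C}) ≠
        ⟨ConjClasses.mk (1 : H), hC1fix⟩ := by
      intro h2
      have h3 := congrArg Subtype.val h2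
      simp only at h3
      rw [ConjClasses.mk_eq_mk_iff_isConj, isConj_one_left] at h3
      exact h1 (congrArg Subtype.val h3)
    have hnt : Nontrivial {C : ConjClasses H // ConjClasses.map α.toMonoidHom C = C} :=
      ⟨⟨_, _, hne⟩⟩
    have h2 : 1 < Nat.card {C : ConjClasses H // ConjClasses.map α.toMonoidHom C = C} :=
      Finite.one_lt_card_iff_nontrivial.mpr hnt
    rw [hcount] at h2
    have hnt' := Finite.one_lt_card_iff_nontrivial.mp h2
    obtain ⟨χ, hχ⟩ := exists_ne (⟨χ1, hχ1fix⟩ :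
      {χ : Cfsg.IrrCharacter H // (χ : H → ℂ) ∘ α = (χ : H → ℂ)})
    refine ⟨(χ.1 : H → ℂ), χ.1.2, ?_, ?_⟩
    · intro h3
      apply hχ
      apply Subtype.ext
      apply Subtype.ext
      exact h3
    · funext g
      have := congrFun χ.2 g
      simp only [Function.comp_apply] at this
      rw [hαc g] at this
      exact this

end Cfsg.Agent.S1536
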