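import Cfsg.Statements.S1755
import Cfsg.Agent.Lib.Helper29.Iso

set_option autoImplicit false
open Cfsg

namespace Cfsg.Agent.S1755

open Cfsg.Agent.Lib.Helper29

/-- In a finite cyclic group, any two elements of order 2 are equal. -/
theorem cyclic_unique_involution {A : Type*} [Group A] [Finite A] [IsCyclic A] (x y : A)
    (hx : orderOf x = 2) (hy : orderOf y = 2) : x = y := by
  classical
  have : Fintype A := Fintype.ofFinite A
  by_contra hne
  have hle := IsCyclic.card_pow_eq_one_le (α := A) (n := 2) (by norm_num)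
  have hx1 : x ≠ 1 := by
    rintro rfl; simp at hx
  have hy1 : y ≠ 1 := by
    rintro rfl; simp at hy
  have hsub : ({1, x, y} : Finset A) ⊆ Finset.univ.filter (fun a : A => a ^ 2 = 1) := by
    intro a ha
    simp only [Finset.mem_insert, Finset.mem_singleton] at ha
    simp only [Finset.mem_filter, Finset.mem_univ, true_and]
    rcases ha with rfl | rfl | rfl
    · simp
    · rw [← hx]; exact pow_orderOf_eq_one _
    · rw [← hy]; exact pow_orderOf_eq_one _
  have hcard : ({1, x, y} : Finset A).card = 3 := by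
    rw [Finset.card_insert_of_notMem, Finset.card_insert_of_notMem, Finset.card_singleton]
    · simpa using hne
    · simp only [Finset.mem_insert, Finset.mem_singleton, not_or]
      exact ⟨hx1.symm, hy1.symm⟩
  have := Finset.card_le_card hsub
  omega

/-- In a 2-group of symplectic type, every involution of a characteristic abelian subgroup
equals any given central involution. -/
theorem char_abelian_involution {Q : Type*} [Group Q] [Finite Q] (hQ : IsOfSymplecticType Q)
    (B : Subgroup Q) (hBc : B.Characteristic) (hBa : IsMulCommutative ↥B) (zQ : Q)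
    (hz : orderOf zQ = 2) (hzc : zQ ∈ Subgroup.center Q) :
    ∀ b ∈ B, orderOf b = 2 → b = zQ := by
  intro b hb hb2
  have hBcyc : IsCyclic ↥B := hQ.2 B hBc hBa
  -- b is central in Q
  have hbc : b ∈ Subgroup.center Q := by
    rw [Subgroup.mem_center_iff]
    intro q
    have hmap : B.map (MulAut.conj q).toMonoidHom = B :=
      Subgroup.characteristic_iff_map_eq.mp hBc (MulAut.conj q)
    have hmem : q * b * q⁻¹ ∈ B := by
      rw [← hmap]; exact ⟨b, hb, rfl⟩
    have hord : orderOf (q * b * q⁻¹) = 2 := by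
      rw [← hb2]
      exact orderOf_injective (MulAut.conj q).toMonoidHom (MulAut.conj q).injective b
    have heq : (⟨q * b * q⁻¹, hmem⟩ : B) = ⟨b, hb⟩ := by
      apply cyclic_unique_involution
      · rw [← hord]; exact Subgroup.orderOf_mk _ _
      · rw [← hb2]; exact Subgroup.orderOf_mk _ _
    have h3 : q * b * q⁻¹ = b := congrArg Subtype.val heq
    have : q * b * q⁻¹ * q = b * q := by rw [h3]
    rw [← this]; group
  -- the centre is a characteristic abelian subgroup, so cyclic
  have hZcyc : IsCyclic ↥(Subgroup.center Q) :=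
    hQ.2 (Subgroup.center Q) inferInstance inferInstance
  have heq : (⟨b, hbc⟩ : Subgroup.center Q) = ⟨zQ, hzc⟩ := by
    apply cyclic_unique_involution
    · rw [← hb2]; exact Subgroup.orderOf_mk _ _
    · rw [← hz]; exact Subgroup.orderOf_mk _ _
  exact congrArg Subtype.val heq

/-- Every nonidentity element of a characteristic abelian subgroup has the central involution as
a specific power. -/
theorem char_abelian_pow {Q : Type*} [Group Q] [Finite Q] (hQ : IsOfSymplecticType Q)
    (B : Subgroup Q) (hBc : B.Characteristic) (hBa : IsMulCommutative ↥B) (zQ : Q)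
    (hz : orderOf zQ = 2) (hzc : zQ ∈ Subgroup.center Q) :
    ∀ b ∈ B, b ≠ 1 → b ^ (orderOf b / 2) = zQ := by
  intro b hb hb1
  have : Fact (Nat.Prime 2) := ⟨Nat.prime_two⟩
  obtain ⟨k, hk⟩ := (IsPGroup.iff_orderOf.mp hQ.1) b
  have hk0 : k ≠ 0 := by
    rintro rfl
    rw [pow_zero, orderOf_eq_one_iff] at hk
    exact hb1 hk
  have hdvd : 2 ∣ orderOf b := by
    rw [hk]; exact dvd_pow_self 2 hk0
  have hne : orderOf b ≠ 0 := by
    rw [hk]; positivity
  exact char_abelian_involution hQ B hBc hBa zQ hz hzc _ (B.pow_mem hb _)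
    (orderOf_pow_orderOf_div hne hdvd)


open scoped IsMulCommutative in
theorem center_le_fitting (C : Type*) [Group C] : Subgroup.center C ≤ Cfsg.fittingSubgroup C := by
  apply le_sSup
  exact ⟨inferInstance, inferInstance⟩

theorem main {G : Type*} [Group G] [Finite G] (z : G) (hz : orderOf z = 2)
    (C : Subgroup G) (hC : C = Subgroup.centralizer ({z} : Set G))
    (Q : Subgroup ↥C) (hQn : Q.Normal) (hzQ' : ∀ h : z ∈ C, (⟨z, h⟩ : ↥C) ∈ Q)
    (hQ : Cfsg.IsOfSymplecticType ↥Q)
    (B : Subgroup ↥Q) (hBc : B.Characteristic) (hBa : IsMulCommutative ↥B) (g : G)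
    (B' : Subgroup G) (hB' : B' = (B.map Q.subtype).map C.subtype) :
    B'.map (MulAut.conj g).toMonoidHom = B' ∨ B'.map (MulAut.conj g).toMonoidHom ⊓ B' = ⊥ := by
  have hzC : z ∈ C := by
    rw [hC, Subgroup.mem_centralizer_iff]
    intro x hx
    rw [Set.mem_singleton_iff] at hx
    rw [hx]
  -- zC is central in C
  have hzcen : (⟨z, hzC⟩ : ↥C) ∈ Subgroup.center ↥C := by
    rw [Subgroup.mem_center_iff]
    rintro ⟨c, hc⟩
    apply Subtype.ext
    show c * z = z * c
    rw [hC, Subgroup.mem_centralizer_iff] at hc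
    exact (hc z rfl).symm
  have hzQ : (⟨z, hzC⟩ : ↥C) ∈ Q := hzQ' hzC
  have hzQord : orderOf (⟨⟨z, hzC⟩, hzQ⟩ : ↥Q) = 2 := by
    rw [← hz, Subgroup.orderOf_mk, Subgroup.orderOf_mk]
  have hzQcen : (⟨⟨z, hzC⟩, hzQ⟩ : ↥Q) ∈ Subgroup.center ↥Q := by
    rw [Subgroup.mem_center_iff]
    intro q
    apply Subtype.ext
    rw [Subgroup.mem_center_iff] at hzcen
    exact hzcen q
  have hpow := char_abelian_pow hQ B hBc hBa _ hzQord hzQcen
  -- elements of B'
  have hmemB' : ∀ x : G, x ∈ B' ↔ ∃ b : ↥Q, b ∈ B ∧ ((b : ↥C) : G) = x := by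
    intro x
    rw [hB']
    constructor
    · rintro ⟨c, ⟨b, hb, rfl⟩, rfl⟩
      exact ⟨b, hb, rfl⟩
    · rintro ⟨b, hb, rfl⟩
      exact ⟨(b : ↥C), ⟨b, hb, rfl⟩, rfl⟩
  have hpow' : ∀ x ∈ B', x ≠ 1 → x ^ (orderOf x / 2) = z := by
    intro x hx hx1
    obtain ⟨b, hb, rfl⟩ := (hmemB' x).mp hx
    have hb1 : b ≠ 1 := by
      rintro rfl
      exact hx1 rfl
    have := hpow b hb hb1
    rw [Subgroup.orderOf_coe, Subgroup.orderOf_coe]
    have h2 : (((b ^ (orderOf b / 2) : ↥Q) : ↥C) : G) = z := by rw [this]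
    simpa using h2
  by_cases hbot : B'.map (MulAut.conj g).toMonoidHom ⊓ B' = ⊥
  · exact Or.inr hbot
  · left
    rw [Subgroup.eq_bot_iff_forall] at hbot
    push Not at hbot
    obtain ⟨x, ⟨⟨x', hx', hxx'⟩, hxB⟩, hx1⟩ := hbot
    have hxx'' : g * x' * g⁻¹ = x := hxx'
    have hx'1 : x' ≠ 1 := by
      rintro rfl
      apply hx1
      rw [← hxx'']; group
    have hord : orderOf x = orderOf x' := by
      rw [← hxx']
      exact orderOf_injective (MulAut.conj g).toMonoidHom (MulAut.conj g).injective x'
    have h1 := hpow' x hxB hx1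
    have h2 := hpow' x' hx' hx'1
    -- g centralizes z
    have hgz : g * z * g⁻¹ = z := by
      rw [← h2, ← hord]
      have : g * x' ^ (orderOf x / 2) * g⁻¹ = (g * x' * g⁻¹) ^ (orderOf x / 2) := by
        rw [conj_pow]
      rw [this, hxx'', h1, hord, h2]
    have hgC : g ∈ C := by
      rw [hC, Subgroup.mem_centralizer_iff]
      intro y hy
      rw [Set.mem_singleton_iff] at hy
      subst hy
      have : g * y * g⁻¹ * g = y * g := by rw [hgz]
      rw [← this]; group
    -- the automorphism of Q induced by g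
    set ψ : MulAut ↥Q := MulAut.conjNormal (⟨g, hgC⟩ : ↥C) with hψ
    have hψB : B.map ψ.toMonoidHom = B := Subgroup.characteristic_iff_map_eq.mp hBc ψ
    have hψval : ∀ b : ↥Q, (((ψ b : ↥Q) : ↥C) : G) = g * ((b : ↥C) : G) * g⁻¹ := by
      intro b
      rw [hψ, MulAut.conjNormal_apply]
      rfl
    apply le_antisymm
    · rintro y ⟨y', hy', rfl⟩
      obtain ⟨b, hb, rfl⟩ := (hmemB' y').mp hy'
      rw [hmemB']
      refine ⟨ψ b, ?_, ?_⟩
      · rw [← hψB]; exact ⟨b, hb, rfl⟩
      · exact hψval b
    · intro y hy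
      obtain ⟨b, hb, rfl⟩ := (hmemB' y).mp hy
      rw [← hψB] at hb
      obtain ⟨b₀, hb₀, rfl⟩ := hb
      refine ⟨((b₀ : ↥C) : G), (hmemB' _).mpr ⟨b₀, hb₀, rfl⟩, ?_⟩
      exact (hψval b₀).symm


/-- Let G be a finite group and let z be an involution of G such that Q, the generalized Fitting subgroup of the centralizer C of z, is a 2-group of symplectic type (every characteristic abelian subgroup of Q is cyclic). Let B be a characteristic abelian subgroup of Q, viewed as a subgroup of G. Then for every g in G, the conjugate of B by g either equals B or meets B trivially. -/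
theorem result {G : Type*} [Group G] [Finite G] (z : G) (hz : orderOf z = 2) (hQ : Cfsg.IsOfSymplecticType ↥(Cfsg.generalizedFittingSubgroup ↥(Subgroup.centralizer ({z} : Set G))))
    (B : Subgroup ↥(Cfsg.generalizedFittingSubgroup ↥(Subgroup.centralizer ({z} : Set G)))) (hBc : B.Characteristic) (hBa : IsMulCommutative ↥B) (g : G) :
    ((B.map (Cfsg.generalizedFittingSubgroup ↥(Subgroup.centralizer ({z} : Set G))).subtype).map (Subgroup.centralizer ({z} : Set G)).subtype).map (MulAut.conj g).toMonoidHom =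
        (B.map (Cfsg.generalizedFittingSubgroup ↥(Subgroup.centralizer ({z} : Set G))).subtype).map (Subgroup.centralizer ({z} : Set G)).subtype ∨
      ((B.map (Cfsg.generalizedFittingSubgroup ↥(Subgroup.centralizer ({z} : Set G))).subtype).map (Subgroup.centralizer ({z} : Set G)).subtype).map (MulAut.conj g).toMonoidHom ⊓
        (B.map (Cfsg.generalizedFittingSubgroup ↥(Subgroup.centralizer ({z} : Set G))).subtype).map (Subgroup.centralizer ({z} : Set G)).subtype = ⊥ := by
  refine main z hz _ rfl _ (generalizedFittingSubgroup_normal _) ?_ hQ B hBc hBa g _ rfl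
  intro h
  have hzcen : (⟨z, h⟩ : ↥(Subgroup.centralizer ({z} : Set G))) ∈
      Subgroup.center ↥(Subgroup.centralizer ({z} : Set G)) := by
    rw [Subgroup.mem_center_iff]
    rintro ⟨c, hc⟩
    apply Subtype.ext
    show c * z = z * c
    rw [Subgroup.mem_centralizer_iff] at hc
    exact (hc z rfl).symm
  exact le_sup_right (a := Cfsg.layer _) (center_le_fitting _ hzcen)

end Cfsg.Agent.S1755
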