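import Cfsg.Statements.S3264
-- import your own Cfsg.Agent.* helpers here
import Cfsg.Agent.S3947

set_option autoImplicit false
open Cfsg

namespace Cfsg.Agent.S3264

universe u

/-- the statement of the second maximizer lemma of Wielandt (S3947), as a hypothesis -/
def MaximizerStatement : Prop :=
  ∀ {G : Type u} [Group G] [Finite G] (A : Subgroup G),
    Subgroup.normalClosure (A : Set G) = ⊤ → A ≠ ⊤ →
    sSup {H : Subgroup G | A ≤ H ∧ H ≠ ⊤ ∧
        Subgroup.normalClosure ((A.subgroupOf H : Subgroup ↥H) : Set ↥H) = ⊤} = ⊤ ∨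
      ∃! M : Subgroup G, IsCoatom M ∧ A ≤ M

section basic

variable {H : Type*} [Group H]

/-- the odd-product relation on the conjugates of `x` -/
def Rel (x a b : H) : Prop := IsConj x a ∧ IsConj x b ∧ Odd (orderOf (a * b))

theorem orderOf_conj' (g a : H) : orderOf (g * a * g⁻¹) = orderOf a :=
  (MulAut.conj g).orderOf_eq a

theorem isConj_conj {x a : H} (g : H) (h : IsConj x a) : IsConj x (g * a * g⁻¹) :=
  h.trans (isConj_iff.mpr ⟨g, rfl⟩)

theorem rel_conj {x a b : H} (g : H) (h : Rel x a b) : Rel x (g * a * g⁻¹) (g * b * g⁻¹) := by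
  refine ⟨isConj_conj g h.1, isConj_conj g h.2.1, ?_⟩
  have : g * a * g⁻¹ * (g * b * g⁻¹) = g * (a * b) * g⁻¹ := by group
  rw [this, orderOf_conj']
  exact h.2.2

theorem rel_symm {x a b : H} (h : Rel x a b) : Rel x b a := by
  refine ⟨h.2.1, h.1, ?_⟩
  have : b * a = a⁻¹ * (a * b) * a⁻¹⁻¹ := by group
  rw [this, orderOf_conj']
  exact h.2.2

/-- reachability in the odd-product graph -/
def Reach (x : H) : H → H → Prop := Relation.ReflTransGen (Rel x)

theorem reach_conj {x a b : H} (g : H) (h : Reach x a b) : Reach x (g * a * g⁻¹) (g * b * g⁻¹) := by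
  induction h with
  | refl => exact Relation.ReflTransGen.refl
  | tail _ hbc ih => exact ih.tail (rel_conj g hbc)

theorem reach_symm {x a b : H} (h : Reach x a b) : Reach x b a := by
  induction h with
  | refl => exact Relation.ReflTransGen.refl
  | tail _ hbc ih => exact Relation.ReflTransGen.head (rel_symm hbc) ih

/-- the stabilizer of the component of `x` -/
def St (x : H) : Subgroup H where
  carrier := {g | Reach x x (g * x * g⁻¹)}
  one_mem' := by
    show Reach x x (1 * x * 1⁻¹)
    simp only [one_mul, inv_one, mul_one]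
    exact Relation.ReflTransGen.refl
  mul_mem' := by
    intro g h hg hh
    show Reach x x (g * h * x * (g * h)⁻¹)
    have h1 : Reach x (g * x * g⁻¹) (g * (h * x * h⁻¹) * g⁻¹) := reach_conj g hh
    have h2 : g * (h * x * h⁻¹) * g⁻¹ = g * h * x * (g * h)⁻¹ := by group
    rw [h2] at h1
    exact Relation.ReflTransGen.trans hg h1
  inv_mem' := by
    intro g hg
    show Reach x x (g⁻¹ * x * g⁻¹⁻¹)
    have h1 : Reach x (g⁻¹ * x * g⁻¹⁻¹) (g⁻¹ * (g * x * g⁻¹) * g⁻¹⁻¹) := reach_conj g⁻¹ hg
    have h2 : g⁻¹ * (g * x * g⁻¹) * g⁻¹⁻¹ = x := by group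
    rw [h2] at h1
    exact reach_symm h1

theorem mem_St {x g : H} : g ∈ St x ↔ Reach x x (g * x * g⁻¹) := Iff.rfl

theorem self_mem_St (x : H) : x ∈ St x := by
  rw [mem_St]
  have : x * x * x⁻¹ = x := by group
  rw [this]
  exact Relation.ReflTransGen.refl

theorem reach_of_St_eq_top {x : H} (h : St x = ⊤) {y : H} (hy : IsConj x y) : Reach x x y := by
  obtain ⟨c, rfl⟩ := isConj_iff.mp hy
  have : c ∈ St x := by rw [h]; trivial
  exact this

end basic

section dihedral

open Pointwise

variable {H : Type*} [Group H]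

theorem mem_normalizer_of_invol {g : H} (hg : g * g = 1) (L : Subgroup H)
    (h : ∀ l ∈ L, g * l * g⁻¹ ∈ L) : g ∈ Subgroup.normalizer (L : Set H) := by
  rw [Subgroup.mem_normalizer_iff]
  intro l
  refine ⟨h l, fun h2 => ?_⟩
  have h3 := h _ h2
  have h4 : g * (g * l * g⁻¹) * g⁻¹ = (g * g) * l * (g * g)⁻¹ := by group
  rw [h4, hg] at h3
  simpa using h3

theorem mem_zpowers_invol {x a : H} (hx : x * x = 1) (ha : a ∈ Subgroup.zpowers x) : a = 1 ∨ a = x := by
  obtain ⟨k, rfl⟩ := Subgroup.mem_zpowers_iff.mp ha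
  have h2 : x ^ (2 : ℤ) = 1 := by
    rw [zpow_two]; exact hx
  rcases Int.even_or_odd' k with ⟨m, hm | hm⟩
  · left
    rw [hm, zpow_mul, h2, one_zpow]
  · right
    rw [hm, zpow_add, zpow_mul, h2, one_zpow, one_mul, zpow_one]

theorem odd_orderOf_mul_of_gen [Finite H] {x y : H} (hx : x * x = 1) (hy : y * y = 1) (hy1 : y ≠ 1)
    (hgen : Subgroup.closure ({x, y} : Set H) = ⊤)
    (hnc : Subgroup.normalClosure ({x} : Set H) = ⊤) : Odd (orderOf (x * y)) := by
  set r : H := x * y with hr
  have hxi : x⁻¹ = x := inv_eq_of_mul_eq_one_right hx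
  have hyi : y⁻¹ = y := inv_eq_of_mul_eq_one_right hy
  have hri : r⁻¹ = y * x := by rw [hr, mul_inv_rev, hxi, hyi]
  have h1 : x * r * x⁻¹ = r⁻¹ := by
    rw [hri, hr, hxi]
    calc x * (x * y) * x = (x * x) * y * x := by group
      _ = y * x := by rw [hx, one_mul]
  have h2 : y * r * y⁻¹ = r⁻¹ := by
    rw [hri, hr, hyi]
    calc y * (x * y) * y = y * x * (y * y) := by group
      _ = y * x := by rw [hy, mul_one]
  set P : Subgroup H := Subgroup.zpowers (r ^ 2) with hP
  have conjP : ∀ g : H, g * r * g⁻¹ = r⁻¹ → ∀ l ∈ P, g * l * g⁻¹ ∈ P := by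
    intro g hg l hl
    obtain ⟨k, rfl⟩ := Subgroup.mem_zpowers_iff.mp hl
    have e1 : g * (r ^ 2) ^ k * g⁻¹ = ((g * r * g⁻¹) ^ 2) ^ k := by
      have : ∀ z : H, g * z * g⁻¹ = MulAut.conj g z := fun z => by simp [MulAut.conj_apply]
      rw [this, this, map_zpow, map_pow]
    rw [e1, hg, inv_pow, inv_zpow]
    exact P.inv_mem (Subgroup.zpow_mem_zpowers _ k)
  have hPn : P.Normal := by
    rw [← Subgroup.normalizer_eq_top_iff, eq_top_iff, ← hgen, Subgroup.closure_le]
    intro g hg
    rcases hg with rfl | rfl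
    · exact mem_normalizer_of_invol hx P (conjP _ h1)
    · exact mem_normalizer_of_invol hy P (conjP _ h2)
  set L : Subgroup H := Subgroup.zpowers x ⊔ P with hL
  have hxL : x ∈ L := (le_sup_left : Subgroup.zpowers x ≤ L) (Subgroup.mem_zpowers x)
  have hPL : P ≤ L := le_sup_right
  have hyx : y * x * y⁻¹ = (r ^ 2)⁻¹ * x := by
    rw [hyi, pow_two, mul_inv_rev, hri]
    calc y * x * y = y * x * y * (x * x) := by rw [hx, mul_one]
      _ = y * x * (y * x) * x := by group
  have hLn : L.Normal := by
    rw [← Subgroup.normalizer_eq_top_iff, eq_top_iff, ← hgen, Subgroup.closure_le]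
    intro g hg
    rcases hg with rfl | rfl
    · exact Subgroup.le_normalizer hxL
    · apply mem_normalizer_of_invol hy
      intro l hl
      have h3 : L.map (MulAut.conj g).toMonoidHom ≤ L := by
        rw [hL, Subgroup.map_sup, MonoidHom.map_zpowers]
        refine sup_le ?_ ?_
        · rw [Subgroup.zpowers_le]
          show MulAut.conj g x ∈ _
          rw [MulAut.conj_apply, hyx]
          exact L.mul_mem (L.inv_mem (hPL (Subgroup.mem_zpowers _))) hxL
        · exact (le_of_eq (Subgroup.Normal.map_conj_eq (H := P) g)).trans hPL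
      have h4 : (MulAut.conj g).toMonoidHom l ∈ L.map (MulAut.conj g).toMonoidHom :=
        Subgroup.mem_map_of_mem _ hl
      have h5 := h3 h4
      simpa [MulAut.conj_apply] using h5
  have hLtop : L = ⊤ := by
    rw [eq_top_iff, ← hnc]
    exact Subgroup.normalClosure_le_normal (Set.singleton_subset_iff.mpr hxL)
  have hrL : r ∈ L := by rw [hLtop]; trivial
  have hmul : ((Subgroup.zpowers x ⊔ P : Subgroup H) : Set H) = (Subgroup.zpowers x : Set H) * (P : Set H) :=
    Subgroup.mul_normal _ _
  have hrL' : r ∈ ((Subgroup.zpowers x ⊔ P : Subgroup H) : Set H) := hrL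
  rw [hmul] at hrL'
  obtain ⟨a, ha, b, hb, hab⟩ := Set.mem_mul.mp hrL'
  obtain ⟨j, rfl⟩ := Subgroup.mem_zpowers_iff.mp hb
  rcases mem_zpowers_invol hx ha with h | h
  · -- r = (r^2)^j
    rw [h, one_mul] at hab
    have h3 : r ^ (2 * j - 1) = 1 := by
      rw [zpow_sub, zpow_mul, zpow_one]
      have : r ^ (2 : ℤ) = r ^ 2 := by norm_cast
      rw [this, hab, mul_inv_cancel]
    have h4 : (orderOf r : ℤ) ∣ 2 * j - 1 := orderOf_dvd_iff_zpow_eq_one.mpr h3
    rw [← Nat.not_even_iff_odd]
    intro he
    have h5 : (2 : ℤ) ∣ 2 * j - 1 := by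
      have : (2 : ℤ) ∣ (orderOf r : ℤ) := by exact_mod_cast he.two_dvd
      exact this.trans h4
    omega
  · -- r = x * (r^2)^j
    exfalso
    rw [h] at hab
    have hbr : (r ^ 2) ^ j ∈ Subgroup.zpowers r := by
      have : r ^ 2 ∈ Subgroup.zpowers r := Subgroup.pow_mem _ (Subgroup.mem_zpowers r) 2
      exact Subgroup.zpow_mem _ this j
    have hxr : x ∈ Subgroup.zpowers r := by
      have : x = r * ((r ^ 2) ^ j)⁻¹ := eq_mul_inv_iff_mul_eq.mpr hab
      rw [this]
      exact Subgroup.mul_mem _ (Subgroup.mem_zpowers r) (Subgroup.inv_mem _ hbr)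
    obtain ⟨k, hk⟩ := Subgroup.mem_zpowers_iff.mp hxr
    have hcomm : x * r = r * x := by
      rw [← hk]
      exact ((Commute.refl r).zpow_left k).eq
    have h3 : r = r⁻¹ := by
      rw [← h1, hcomm, mul_inv_cancel_right]
    have h4 : r ^ 2 = 1 := by
      rw [pow_two]
      nth_rewrite 2 [h3]
      exact mul_inv_cancel r
    rw [h4, one_zpow, mul_one] at hab
    apply hy1
    have : x * y = x * 1 := by rw [mul_one, ← hr, ← hab]
    exact mul_left_cancel this

end dihedral

section main

theorem rel_coe {H : Type*} [Group H] {K : Subgroup H} {x a b : K} (h : Rel x a b) :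
    Rel (x : H) (a : H) (b : H) := by
  have key : ∀ c : K, IsConj x c → IsConj (x : H) (c : H) := by
    intro c hc
    obtain ⟨d, hd⟩ := isConj_iff.mp hc
    exact isConj_iff.mpr ⟨(d : H), by rw [← hd]; rfl⟩
  refine ⟨key a h.1, key b h.2.1, ?_⟩
  have : (a : H) * (b : H) = ((a * b : K) : H) := rfl
  rw [this, Subgroup.orderOf_coe]
  exact h.2.2

theorem St_eq_top (hW : MaximizerStatement.{u}) : ∀ (n : ℕ) (H : Type u) [Group H] [Finite H],
    Nat.card H = n → ∀ x : H, orderOf x = 2 → Subgroup.normalClosure ({x} : Set H) = ⊤ → St x = ⊤ := by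
  intro n
  induction n using Nat.strong_induction_on with
  | _ n ih =>
  intro H _ _ hn x hx hnc
  have hxx : x * x = 1 := by rw [← pow_two, ← hx, pow_orderOf_eq_one]
  set A : Subgroup H := Subgroup.zpowers x with hA
  have hAnc : Subgroup.normalClosure (A : Set H) = ⊤ := by
    rw [eq_top_iff, ← hnc]
    exact Subgroup.normalClosure_mono (Set.singleton_subset_iff.mpr (Subgroup.mem_zpowers x))
  by_cases hAtop : A = ⊤
  · rw [eq_top_iff]
    intro g _
    have hg : g ∈ A := by rw [hAtop]; trivial
    obtain ⟨k, rfl⟩ := Subgroup.mem_zpowers_iff.mp hg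
    rw [mem_St]
    have : x ^ k * x * (x ^ k)⁻¹ = x := by
      have hc : Commute (x ^ k) x := (Commute.refl x).zpow_left k
      rw [hc.eq, mul_inv_cancel_right]
    rw [this]
    exact Relation.ReflTransGen.refl
  · rcases hW A hAnc hAtop with h1 | ⟨M, ⟨hM, hAM⟩, huniq⟩
    · rw [eq_top_iff, ← h1]
      apply sSup_le
      rintro K ⟨hAK, hKtop, hKnc⟩
      intro k hk
      have hxK : x ∈ K := hAK (Subgroup.mem_zpowers x)
      have hcard : Nat.card K < n := by
        rw [← hn]
        refine lt_of_le_of_ne (Subgroup.card_le_card_group K) (fun h => hKtop ?_)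
        exact (Subgroup.card_eq_iff_eq_top K).mp h
      have hx' : orderOf (⟨x, hxK⟩ : K) = 2 := by
        rw [← hx, ← Subgroup.orderOf_coe]
      have hnc' : Subgroup.normalClosure ({(⟨x, hxK⟩ : K)} : Set K) = ⊤ := by
        rw [eq_top_iff, ← hKnc]
        apply Subgroup.normalClosure_le_normal
        intro a ha
        have ha' : (a : H) ∈ A := ha
        obtain ⟨m, hm⟩ := Subgroup.mem_zpowers_iff.mp ha'
        have : a = (⟨x, hxK⟩ : K) ^ m := by
          apply Subtype.ext
          rw [Subgroup.coe_zpow]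
          exact hm.symm
        rw [this]
        exact Subgroup.zpow_mem _ (Subgroup.subset_normalClosure (Set.mem_singleton _)) m
      have h2 := ih (Nat.card K) hcard K rfl ⟨x, hxK⟩ hx' hnc'
      have hk' : (⟨k, hk⟩ : K) ∈ St (⟨x, hxK⟩ : K) := by rw [h2]; trivial
      rw [mem_St] at hk' ⊢
      exact Relation.ReflTransGen.lift (fun a : K => (a : H)) (fun a b hab => rel_coe hab) _ _ hk'
    · have hex : ∃ g : H, g * x * g⁻¹ ∉ M := by
        by_contra hcon
        push Not at hcon
        apply hM.1
        rw [eq_top_iff, ← hnc]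
        unfold Subgroup.normalClosure
        rw [Subgroup.closure_le]
        intro z hz
        obtain ⟨b, hb, hbz⟩ := Group.mem_conjugatesOfSet_iff.mp hz
        rw [Set.mem_singleton_iff] at hb
        subst hb
        obtain ⟨c, rfl⟩ := isConj_iff.mp hbz
        exact hcon c
      obtain ⟨g, hg⟩ := hex
      set y : H := g * x * g⁻¹ with hy
      have hyy : y * y = 1 := by
        rw [hy]
        calc g * x * g⁻¹ * (g * x * g⁻¹) = g * (x * x) * g⁻¹ := by group
          _ = 1 := by rw [hxx]; group
      have hy1 : y ≠ 1 := fun h => hg (by rw [h]; exact M.one_mem)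
      have hgen : Subgroup.closure ({x, y} : Set H) = ⊤ := by
        by_contra hne
        obtain ⟨M', hM', hle⟩ := (eq_top_or_exists_le_coatom _).resolve_left hne
        have hAM' : A ≤ M' := by
          rw [hA, Subgroup.zpowers_le]
          exact hle (Subgroup.subset_closure (Set.mem_insert _ _))
        have hMM : M' = M := huniq M' ⟨hM', hAM'⟩
        apply hg
        rw [← hMM]
        exact hle (Subgroup.subset_closure (Set.mem_insert_of_mem _ (Set.mem_singleton _)))
      have hodd := odd_orderOf_mul_of_gen hxx hyy hy1 hgen hnc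
      have hxy : Reach x x y :=
        Relation.ReflTransGen.single ⟨IsConj.refl x, isConj_iff.mpr ⟨g, rfl⟩, hodd⟩
      have hySt : y ∈ St x := by
        rw [mem_St]
        have h3 : Reach x (y * x * y⁻¹) (y * y * y⁻¹) := reach_conj y hxy
        rw [mul_inv_cancel_right] at h3
        exact Relation.ReflTransGen.trans hxy (reach_symm h3)
      rw [eq_top_iff, ← hgen, Subgroup.closure_le]
      intro z hz
      rcases hz with rfl | rfl
      · exact self_mem_St _
      · exact hySt

theorem connected_of (hW : MaximizerStatement.{u}) {G : Type u} [Group G] [Finite G] [IsSimpleGroup G]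
    (t : G) (ht : orderOf t = 2) :
    (SimpleGraph.fromRel fun x y : {x : G // IsConj t x} => Odd (orderOf (x.1 * y.1))).Connected := by
  have ht1 : t ≠ 1 := by
    intro h
    rw [h, orderOf_one] at ht
    omega
  have hnc : Subgroup.normalClosure ({t} : Set G) = ⊤ := by
    rcases (Subgroup.normalClosure_normal (s := ({t} : Set G))).eq_bot_or_eq_top with h | h
    · exfalso
      apply ht1
      have : t ∈ Subgroup.normalClosure ({t} : Set G) := Subgroup.subset_normalClosure (Set.mem_singleton t)
      rw [h, Subgroup.mem_bot] at this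
      exact this
    · exact h
  have hSt := St_eq_top hW (Nat.card G) G rfl t ht hnc
  have key : ∀ a b : G, Reach t a b → ∀ (ha : IsConj t a) (hb : IsConj t b),
      (SimpleGraph.fromRel fun x y : {x : G // IsConj t x} => Odd (orderOf (x.1 * y.1))).Reachable
        ⟨a, ha⟩ ⟨b, hb⟩ := by
    intro a b hab
    induction hab with
    | refl => intro ha hb; exact SimpleGraph.Reachable.refl _
    | @tail b c _ hbc ih =>
      intro ha hc
      have hb : IsConj t b := hbc.1
      refine (ih ha hb).trans ?_
      by_cases hbc' : b = c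
      · subst hbc'
        exact SimpleGraph.Reachable.refl _
      · apply SimpleGraph.Adj.reachable
        rw [SimpleGraph.fromRel_adj]
        refine ⟨fun h => hbc' (congrArg Subtype.val h), Or.inl hbc.2.2⟩
  have : Nonempty {x : G // IsConj t x} := ⟨⟨t, IsConj.refl t⟩⟩
  refine ⟨fun u v => ?_⟩
  have hu : Reach t t u.1 := reach_of_St_eq_top hSt u.2
  have hv : Reach t t v.1 := reach_of_St_eq_top hSt v.2
  exact key _ _ (Relation.ReflTransGen.trans (reach_symm hu) hv) u.2 v.2

end main

/-- Let G be a non-abelian finite simple group and X a conjugacy class of involutions of G. Form the graph on X in which two distinct involutions are joined when their product has odd order. Then this graph is connected. (By the Baer–Suzuki Theorem the graph has at least one edge; connectedness is the stronger statement.) -/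
theorem result {G : Type*} [Group G] [Finite G] [IsSimpleGroup G]
    (hG : ¬ IsMulCommutative G) (t : G) (ht : orderOf t = 2) :
    (SimpleGraph.fromRel fun x y : {x : G // IsConj t x} => Odd (orderOf (x.1 * y.1))).Connected :=
  connected_of (fun A h1 h2 => Cfsg.Agent.S3947.result A h1 h2) t ht

end Cfsg.Agent.S3264
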