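import Cfsg.Statements.S1949
import Mathlib.GroupTheory.Sylow
import Mathlib.Algebra.Group.End
import Mathlib.GroupTheory.Commutator.Basic
import Cfsg.Prelude.Def_KGroupFacts
import Cfsg.Prelude.Def_Transfer
import Cfsg.Agent.Lib.Helper51.GCritical
-- import your own Cfsg.Agent.* helpers here

set_option autoImplicit false
open Cfsg

namespace Cfsg.Agent.S1949

open scoped commutatorElement
open Cfsg.Agent.Lib.Helper51

variable {P : Type*} [Group P] {p : ℕ} [Fact p.Prime]

/-- a `p'`-automorphism fixing `Ω(C)` pointwise fixes `C` pointwise. -/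
theorem aut_fix_of_fix_omegaSub (hP : IsPGroup p P) (α : MulAut P) (hα : (orderOf α).Coprime p)
    {C : Subgroup P} (hcl : ∀ x ∈ C, ∀ y ∈ C, ∀ z ∈ C, Commute ⁅x, y⁆ z)
    (hpw : ∀ x ∈ C, ∀ z ∈ C, Commute (x ^ p) z)
    (hCα : ∀ x ∈ C, α x ∈ C) (hCα' : ∀ x ∈ C, α⁻¹ x ∈ C)
    (hfix : ∀ d ∈ omegaSub p C hcl hpw, α d = d) : ∀ x ∈ C, α x = x := by
  -- the centre of `C`
  set Z : Subgroup P := C ⊓ Subgroup.centralizer (C : Set P) with hZ
  have hZab : ∀ x ∈ Z, ∀ y ∈ Z, Commute x y := fun x hx y hy =>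
    ((Subgroup.mem_centralizer_iff.mp hx.2) y hy.1).symm
  have hZα : ∀ x ∈ Z, α x ∈ Z := by
    intro x hx
    refine ⟨hCα x hx.1, ?_⟩
    change α x ∈ Subgroup.centralizer (C : Set P)
    rw [Subgroup.mem_centralizer_iff]
    intro c hc
    have h1 := (Subgroup.mem_centralizer_iff.mp hx.2) _ (hCα' c hc)
    have h2 := congrArg α h1
    rw [map_mul, map_mul] at h2
    simpa using h2
  have hZfix0 : ∀ z ∈ Z, z ^ p = 1 → α z = z := by
    intro z hz hzp
    apply hfix
    refine ⟨hz.1, ?_⟩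
    obtain ⟨k, hk⟩ := dvd_smallExp p
    rw [hk, pow_mul, hzp, one_pow]
  have hZfix := aut_fix_abelian_of_fix_omega hP α hα Z hZab hZα hZfix0
  intro x hx
  -- `x ^ e ∈ Z`
  have hxe : x ^ smallExp p ∈ Z := by
    obtain ⟨k, hk⟩ := dvd_smallExp p
    rw [hk, pow_mul]
    refine Z.pow_mem ⟨C.pow_mem hx p, ?_⟩ k
    change x ^ p ∈ Subgroup.centralizer (C : Set P)
    rw [Subgroup.mem_centralizer_iff]
    intro c hc
    exact ((hpw x hx c hc).eq).symm
  have h1 : α (x ^ smallExp p) = x ^ smallExp p := hZfix _ hxe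
  have hw : x⁻¹ * α x ∈ omegaSub p C hcl hpw := by
    refine ⟨C.mul_mem (C.inv_mem hx) (hCα x hx), ?_⟩
    rw [mul_pow_smallExp hcl hpw (C.inv_mem hx) (hCα x hx), ← map_pow, h1, inv_pow, inv_mul_cancel]
  exact aut_fix_of_fix_comm hP α hα x (hfix _ hw)

/-- an element of `D` centralizing the maximal abelian subgroup `A` of `D` lies in `A`. -/
theorem mem_of_maximal_abelian {A D : Subgroup P} (hAD : A ≤ D) (hA : IsMulCommutative ↥A)
    (hmax : ∀ B : Subgroup P, A ≤ B → B ≤ D → IsMulCommutative ↥B → B = A) {w : P} (hwD : w ∈ D)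
    (hw : w ∈ Subgroup.centralizer (A : Set P)) : w ∈ A := by
  have hAA : A ≤ Subgroup.centralizer (A : Set P) := by
    intro a ha
    rw [Subgroup.mem_centralizer_iff]
    intro b hb
    have := mul_comm' (⟨b, hb⟩ : ↥A) ⟨a, ha⟩
    exact congrArg Subtype.val this
  set B : Subgroup P := A ⊔ Subgroup.zpowers w with hB
  have hwz : Subgroup.zpowers w ≤ Subgroup.centralizer (A : Set P) := by
    rw [Subgroup.zpowers_le]; exact hw
  have hzz : Subgroup.zpowers w ≤ Subgroup.centralizer ((Subgroup.zpowers w : Subgroup P) : Set P) := by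
    intro a ha
    rw [Subgroup.mem_centralizer_iff]
    intro b hb
    obtain ⟨i, rfl⟩ := Subgroup.mem_zpowers_iff.mp ha
    obtain ⟨j, rfl⟩ := Subgroup.mem_zpowers_iff.mp hb
    exact ((Commute.refl w).zpow_zpow j i).eq
  have hBA : B ≤ Subgroup.centralizer (A : Set P) := sup_le hAA hwz
  have hBz : B ≤ Subgroup.centralizer ((Subgroup.zpowers w : Subgroup P) : Set P) :=
    sup_le (Subgroup.le_centralizer_iff.mp hwz) hzz
  have hBB : B ≤ Subgroup.centralizer (B : Set P) :=
    sup_le (Subgroup.le_centralizer_iff.mp hBA) (Subgroup.le_centralizer_iff.mp hBz)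
  have hBcomm : IsMulCommutative ↥B := by
    refine ⟨⟨fun a b => ?_⟩⟩
    apply Subtype.ext
    have := (Subgroup.mem_centralizer_iff.mp (hBB b.2)) a.1 a.2
    simpa using this
  have hBD : B ≤ D := sup_le hAD (by rw [Subgroup.zpowers_le]; exact hwD)
  have := hmax B le_sup_left hBD hBcomm
  rw [← this]
  exact (le_sup_right : Subgroup.zpowers w ≤ B) (Subgroup.mem_zpowers w)

/-- Let P be a finite p-group and G a group of automorphisms of P containing the inner automorphisms. Then there is a G-invariant subgroup D of P, contained in the subgroup generated by the elements x⁻¹α(x) with x in P and α in O^p(G), of exponent dividing p when p is odd and dividing 4 when p = 2, with [D, P] ≤ Z(D), such that every automorphism in G of order prime to p that fixes D elementwise is the identity; moreover every maximal abelian subgroup A of D is normal in P and every automorphism in G fixing A elementwise has p-power order. -/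
theorem result {P : Type*} [Group P] [Finite P] {p : ℕ} [Fact p.Prime] (hP : IsPGroup p P)
    (G : Subgroup (MulAut P)) (hG : Cfsg.Inn P ≤ G) :
    ∃ D : Subgroup P,
      (∀ α ∈ G, D.map α.toMonoidHom = D) ∧
      D ≤ Subgroup.closure {y : P | ∃ α ∈ Cfsg.pResidual p ↥G, ∃ x : P, y = x⁻¹ * (α : MulAut P) x} ∧
      (∀ d ∈ D, d ^ p = 1 ∨ (p = 2 ∧ d ^ 4 = 1)) ∧
      ⁅D, (⊤ : Subgroup P)⁆ ≤ D ⊓ Subgroup.centralizer (D : Set P) ∧
      (∀ α ∈ G, (orderOf α).Coprime p → (∀ d ∈ D, α d = d) → α = 1) ∧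
      ∀ A : Subgroup P, A ≤ D → IsMulCommutative ↥A →
        (∀ B : Subgroup P, A ≤ B → B ≤ D → IsMulCommutative ↥B → B = A) →
        A.Normal ∧ ∀ α ∈ G, (∀ a ∈ A, α a = a) → ∃ k : ℕ, orderOf α = p ^ k := by
  classical
  have hp : p.Prime := Fact.out
  set Q : Subgroup P :=
    Subgroup.closure {y : P | ∃ α ∈ Cfsg.pResidual p ↥G, ∃ x : P, y = x⁻¹ * (α : MulAut P) x} with hQdef
  -- `O^p(G)` is normal in `G`
  have hRn : ∀ β : ↥G, ∀ α ∈ Cfsg.pResidual p ↥G, β * α * β⁻¹ ∈ Cfsg.pResidual p ↥G := by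
    intro β α hα
    unfold Cfsg.pResidual at hα ⊢
    induction hα using Subgroup.closure_induction with
    | mem x hx =>
      apply Subgroup.subset_closure
      change Nat.Coprime (orderOf (β * x * β⁻¹)) p
      have : orderOf (β * x * β⁻¹) = orderOf x := by
        have := orderOf_injective (MulAut.conj β).toMonoidHom (MulAut.conj β).injective x
        simpa using this
      rw [this]; exact hx
    | one => simp
    | mul x y _ _ hx hy =>
      have : β * (x * y) * β⁻¹ = (β * x * β⁻¹) * (β * y * β⁻¹) := by group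
      rw [this]; exact Subgroup.mul_mem _ hx hy
    | inv x _ hx =>
      have : β * x⁻¹ * β⁻¹ = (β * x * β⁻¹)⁻¹ := by group
      rw [this]; exact Subgroup.inv_mem _ hx
  have hQinv : GInv G Q := by
    intro β hβ x hx
    have hle : Q ≤ Q.comap β.toMonoidHom := by
      rw [hQdef, Subgroup.closure_le]
      rintro y ⟨α, hα, x, rfl⟩
      change β (x⁻¹ * (α : MulAut P) x) ∈ Subgroup.closure _
      apply Subgroup.subset_closure
      refine ⟨⟨β, hβ⟩ * α * ⟨β, hβ⟩⁻¹, hRn ⟨β, hβ⟩ α hα, β x, ?_⟩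
      simp
    exact hle hx
  -- `p'`-elements of `G` lie in `O^p(G)`
  have hres : ∀ α : MulAut P, ∀ hα : α ∈ G, (orderOf α).Coprime p →
      (⟨α, hα⟩ : ↥G) ∈ Cfsg.pResidual p ↥G := by
    intro α hα hc
    apply Subgroup.subset_closure
    change Nat.Coprime (orderOf (⟨α, hα⟩ : ↥G)) p
    rw [Subgroup.orderOf_mk]
    exact hc
  obtain ⟨C, hCinv, hCQ, hclP, hpw, hCQC⟩ := exists_gCritical hP hG Q hQinv
  have hCn : C.Normal := hCinv.normal hG
  have hcl : ∀ x ∈ C, ∀ y ∈ C, ∀ z ∈ C, Commute ⁅x, y⁆ z := fun x hx y _ z hz => hclP x hx y z hz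
  set D : Subgroup P := omegaSub p C hcl hpw with hD
  have hDC : D ≤ C := fun x hx => hx.1
  have hDinv : GInv G D := by
    intro α hα x hx
    refine ⟨hCinv α hα x hx.1, ?_⟩
    rw [← map_pow, hx.2, map_one]
  have hDn : D.Normal := hDinv.normal hG
  -- (5)
  have h5 : ∀ α ∈ G, (orderOf α).Coprime p → (∀ d ∈ D, α d = d) → α = 1 := by
    intro α hα hc hfix
    have hC1 : ∀ x ∈ C, α x = x :=
      aut_fix_of_fix_omegaSub hP α hc hcl hpw (hCinv α hα) (hCinv α⁻¹ (G.inv_mem hα)) hfix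
    have hQ1 : ∀ q ∈ Q, α q = q := by
      intro q hq
      have h1 : q⁻¹ * α q ∈ Q ⊓ Subgroup.centralizer (C : Set P) :=
        ⟨Q.mul_mem (Q.inv_mem hq) (hQinv α hα q hq), inv_mul_apply_mem_centralizer hCn α hC1 q⟩
      exact aut_fix_of_fix_comm hP α hc q (hC1 _ (hCQC h1))
    ext x
    have h1 : x⁻¹ * α x ∈ Q := by
      apply Subgroup.subset_closure
      exact ⟨⟨α, hα⟩, hres α hα hc, x, rfl⟩
    rw [MulAut.one_apply]
    exact aut_fix_of_fix_comm hP α hc x (hQ1 _ h1)
  have h4 : ⁅D, (⊤ : Subgroup P)⁆ ≤ D ⊓ Subgroup.centralizer (D : Set P) := by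
    rw [Subgroup.commutator_le]
    intro d hd y _
    refine ⟨?_, ?_⟩
    · rw [commutatorElement_def]
      have h1 : y * d⁻¹ * y⁻¹ ∈ D := hDn.conj_mem _ (D.inv_mem hd) y
      have : d * y * d⁻¹ * y⁻¹ = d * (y * d⁻¹ * y⁻¹) := by group
      rw [this]
      exact D.mul_mem hd h1
    · change ⁅d, y⁆ ∈ Subgroup.centralizer (D : Set P)
      rw [Subgroup.mem_centralizer_iff]
      intro z hz
      exact ((hclP d (hDC hd) y z (hDC hz)).eq).symm
  refine ⟨D, fun α hα => hDinv.map_eq hα, hDC.trans hCQ, fun d hd => omegaSub_exponent hd, h4, h5, ?_⟩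
  intro A hAD hA hmax
  have hAn : A.Normal := by
    constructor
    intro a ha g
    have h1 : ⁅g, a⁆ ∈ D ⊓ Subgroup.centralizer (D : Set P) := by
      have : ⁅g, a⁆ = (⁅a, g⁆)⁻¹ := (commutatorElement_inv a g).symm
      rw [this]
      exact Subgroup.inv_mem _ (h4 (Subgroup.commutator_mem_commutator (hAD ha) (Subgroup.mem_top g)))
    have h2 : ⁅g, a⁆ ∈ A :=
      mem_of_maximal_abelian hAD hA hmax h1.1
        ((Subgroup.centralizer_le (show (A : Set P) ⊆ D from hAD)) h1.2)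
    have : g * a * g⁻¹ = ⁅g, a⁆ * a := by rw [commutatorElement_def]; group
    rw [this]
    exact A.mul_mem h2 ha
  refine ⟨hAn, ?_⟩
  intro α hα hfixA
  have hfin : Finite (MulAut P) := inferInstance
  have hord : orderOf α ≠ 0 := (orderOf_pos α).ne'
  obtain ⟨k, m, hm, hkm⟩ := Nat.exists_eq_pow_mul_and_not_dvd hord p hp.ne_one
  set β : MulAut P := α ^ (p ^ k) with hβ
  have hβG : β ∈ G := G.pow_mem hα _
  have hβord : orderOf β = m := by
    rw [hβ, orderOf_pow' α (pow_ne_zero k hp.ne_zero), hkm, Nat.gcd_mul_right_left,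
      Nat.mul_div_cancel_left m (pow_pos hp.pos k)]
  have hβc : (orderOf β).Coprime p := by
    rw [hβord]
    exact ((Nat.Prime.coprime_iff_not_dvd hp).mpr hm).symm
  have hβA : ∀ a ∈ A, β a = a := by
    intro a ha
    have : ∀ n : ℕ, (α ^ n) a = a := by
      intro n
      induction n with
      | zero => simp
      | succ n ih => rw [pow_succ, MulAut.mul_apply, hfixA a ha, ih]
    exact this _
  have hβD : ∀ d ∈ D, β d = d := by
    intro d hd
    have h1 : d⁻¹ * β d ∈ Subgroup.centralizer (A : Set P) := inv_mul_apply_mem_centralizer hAn β hβA d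
    have h2 : d⁻¹ * β d ∈ D := D.mul_mem (D.inv_mem hd) (hDinv β hβG d hd)
    have h3 : d⁻¹ * β d ∈ A := mem_of_maximal_abelian hAD hA hmax h2 h1
    exact aut_fix_of_fix_comm hP β hβc d (hβA _ h3)
  have hβ1 : β = 1 := h5 β hβG hβc hβD
  have hdvd : orderOf α ∣ p ^ k := orderOf_dvd_of_pow_eq_one hβ1
  obtain ⟨j, _, hj⟩ := (Nat.dvd_prime_pow hp).mp hdvd
  exact ⟨j, hj⟩

end Cfsg.Agent.S1949
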