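import Mathlib
import Cfsg.Statements.S3963
import Cfsg.Agent.Lib.Helper66.DihedralGen

set_option autoImplicit false
open Cfsg

namespace Cfsg.Agent.S3963

open Cfsg.Agent.Lib.Helper66

/-- For every `n ≥ 1` the dicyclic (generalized quaternion) group of order `4 n` has trivial Schur multiplier. -/
theorem result (n : ℕ) [NeZero n] : Cfsg.HasCyclicSchurMultiplier (QuaternionGroup n) 1 := by
  apply hasCyclicSchurMultiplier_one_of
  intro Γ _ _ σ hσ
  obtain ⟨c, hcn, hker⟩ := stem_dihedralLike σ hσ (QuaternionGroup.a 1) (QuaternionGroup.xa 0)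
    (quaternion_closure n) (quaternion_rel n) n (quaternion_pow_mem n)
  rw [Subgroup.eq_bot_iff_forall]
  intro w hw
  obtain ⟨k, rfl, -, hak⟩ := hker w hw
  rw [← orderOf_dvd_iff_zpow_eq_one, QuaternionGroup.orderOf_a_one] at hak
  have h2 : (n : ℤ) ∣ k := by
    push_cast at hak
    exact (mul_dvd_mul_iff_left (by norm_num : (2 : ℤ) ≠ 0)).1 hak
  obtain ⟨m, rfl⟩ := h2
  rw [zpow_mul, zpow_natCast, hcn, one_zpow]

end Cfsg.Agent.S3963
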