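import Mathlib
import Cfsg.Statements.S3979
import Cfsg.Agent.Lib.Helper66.SchurBasic

set_option autoImplicit false
open Cfsg

namespace Cfsg.Agent.S3979

open Cfsg.Agent.Lib.Helper66

/-- A finite cyclic group has trivial Schur multiplier: every finite stem extension of it is an isomorphism, said through `HasCyclicSchurMultiplier G 1`. -/
theorem result {G : Type*} [Group G] [Finite G] [IsCyclic G] : Cfsg.HasCyclicSchurMultiplier G 1 := by
  apply hasCyclicSchurMultiplier_one_of
  intro Γ _ _ σ hσ
  obtain ⟨hsurj, hcen, hcomm⟩ := hσ
  -- Γ is commutative since Γ / center is cyclic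
  have hcomm' : ∀ a b : Γ, a * b = b * a := by
    have := MonoidHom.isMulCommutative_of_isCyclic_of_ker_le_center σ hcen
    intro a b; exact mul_comm' a b
  have : commutator Γ = ⊥ := by
    rw [commutator_def, Subgroup.commutator_eq_bot_iff_le_centralizer]
    intro a _
    rw [Subgroup.mem_centralizer_iff]
    intro b _
    exact hcomm' b a
  rw [this] at hcomm
  exact le_bot_iff.1 hcomm

end Cfsg.Agent.S3979
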