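import Cfsg.Statements.S5291
import Cfsg.Agent.Lib.Helper88.FusionNormalCrit
import Cfsg.Agent.Lib.Helper88.FusionAut
import Cfsg.Agent.Lib.Helper85.FusionNormal

set_option autoImplicit false
open Cfsg

namespace Cfsg.Agent.S5291

open Cfsg.FusionSystem
open Cfsg.Agent.Lib.Helper87 Cfsg.Agent.Lib.Helper88

variable {Ω : Type*} [Group Ω] {S : Subgroup Ω}

/-- the image of `P` under an automorphism of `T` (as in the definition of invariance) -/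
def img {T : Subgroup Ω} (α : MulAut T) (P : Subgroup Ω) : Subgroup Ω :=
  (P.subgroupOf T).map (T.subtype.comp α.toMonoidHom)

theorem mem_img {T : Subgroup Ω} (α : MulAut T) (P : Subgroup Ω) (y : Ω) :
    y ∈ img α P ↔ ∃ z : T, (z : Ω) ∈ P ∧ ((α z : T) : Ω) = y := by
  constructor
  · rintro ⟨z, hz, rfl⟩
    exact ⟨z, hz, rfl⟩
  · rintro ⟨z, hz, rfl⟩
    exact ⟨z, hz, rfl⟩

theorem img_le {T : Subgroup Ω} (α : MulAut T) (P : Subgroup Ω) : img α P ≤ T := by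
  intro y hy
  obtain ⟨z, -, rfl⟩ := (mem_img α P y).1 hy
  exact (α z).2

theorem img_sup {T : Subgroup Ω} (α : MulAut T) {A B : Subgroup Ω} (hA : A ≤ T) (hB : B ≤ T) :
    img α (A ⊔ B) = img α A ⊔ img α B := by
  unfold img
  rw [Subgroup.subgroupOf_sup hA hB, Subgroup.map_sup]

theorem img_inv_img {T : Subgroup Ω} (α : MulAut T) {P : Subgroup Ω} (hP : P ≤ T) :
    img α (img α⁻¹ P) = P := by
  ext y
  rw [mem_img]
  constructor
  · rintro ⟨z, hz, rfl⟩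
    obtain ⟨z', hz', hzz'⟩ := (mem_img α⁻¹ P _).1 hz
    have : z = α⁻¹ z' := Subtype.ext hzz'.symm
    rw [this, MulAut.apply_inv_self]
    exact hz'
  · intro hy
    refine ⟨α⁻¹ ⟨y, hP hy⟩, (mem_img α⁻¹ P _).2 ⟨⟨y, hP hy⟩, hy, rfl⟩, ?_⟩
    rw [MulAut.apply_inv_self]

/-- usable form of the invariance condition -/
theorem inv_usable {T : Subgroup Ω} (E : FusionSystem T) (F : FusionSystem S) (hinv : E.IsInvariantIn F)
    {α : MulAut T} (hα : α ∈ F.autGroup T) {P : Subgroup Ω} {φ : P →* Ω} (hφ : φ ∈ E.Hom P) :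
    ∃ χ ∈ E.Hom (img α P), ∀ (z : T) (hz : (z : Ω) ∈ P) (h1 : φ ⟨z, hz⟩ ∈ T) (h2 : ((α z : T) : Ω) ∈ img α P),
      χ ⟨(α z : T), h2⟩ = ((α ⟨φ ⟨z, hz⟩, h1⟩ : T) : Ω) := by
  have hPT : P ≤ T := (E.le_of_mem hφ).1
  obtain ⟨χ, hχ, h⟩ := hinv.2.2.1 P hPT φ hφ α hα
  refine ⟨χ, hχ, fun z hz h1 h2 => ?_⟩
  exact h ⟨z, hz⟩ h1 h2

/-- **Transport of normality** along an automorphism of `T` leaving `E` invariant. -/
theorem isNormal_img {T : Subgroup Ω} (E : FusionSystem T) (F : FusionSystem S) (hinv : E.IsInvariantIn F)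
    {α : MulAut T} (hα : α ∈ F.autGroup T) {R : Subgroup Ω} (hR : E.IsNormal R) :
    E.IsNormal (img α R) := by
  have hα' : α⁻¹ ∈ F.autGroup T := Subgroup.inv_mem _ hα
  refine ⟨img_le α R, fun P ψ hψ => ?_⟩
  have hPT : P ≤ T := (E.le_of_mem hψ).1
  have hψT : ∀ x : P, ψ x ∈ T := (E.le_of_mem hψ).2
  obtain ⟨χ₀, hχ₀, hχ₀e⟩ := inv_usable E F hinv hα' hψ
  obtain ⟨ψ₀, hψ₀, hψ₀1, hψ₀2⟩ := hR.2 _ χ₀ hχ₀
  have hψ₀T : ∀ w, ψ₀ w ∈ T := (E.le_of_mem hψ₀).2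
  obtain ⟨χ', hχ', hχ'e⟩ := inv_usable E F hinv hα hψ₀
  have hsub : img α (img α⁻¹ P ⊔ R) = P ⊔ img α R := by
    rw [img_sup α (img_le α⁻¹ P) hR.1, img_inv_img α hPT]
  -- membership helpers
  have hmemP : ∀ x : P, ((α⁻¹ ⟨x, hPT x.2⟩ : T) : Ω) ∈ img α⁻¹ P ⊔ R :=
    fun x => Subgroup.mem_sup_left ((mem_img α⁻¹ P _).2 ⟨⟨x, hPT x.2⟩, x.2, rfl⟩)
  have hmemR : ∀ r : T, (r : Ω) ∈ R → (r : Ω) ∈ img α⁻¹ P ⊔ R := fun r hr => Subgroup.mem_sup_right hr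
  -- χ' on elements of P
  have hχ'P : ∀ (x : P) (hx : (x : Ω) ∈ img α (img α⁻¹ P ⊔ R)), χ' ⟨x, hx⟩ = ψ x := by
    intro x hx
    have h2 : ((α (α⁻¹ ⟨x, hPT x.2⟩) : T) : Ω) ∈ img α (img α⁻¹ P ⊔ R) := by
      rw [MulAut.apply_inv_self]; exact hx
    have h3 := hχ'e (α⁻¹ ⟨x, hPT x.2⟩) (hmemP x) (hψ₀T _) h2
    have h4 : (⟨(x : Ω), hx⟩ : img α (img α⁻¹ P ⊔ R)) = ⟨((α (α⁻¹ ⟨x, hPT x.2⟩) : T) : Ω), h2⟩ :=
      Subtype.ext (congrArg (fun t : T => (t : Ω)) (MulAut.apply_inv_self _ α ⟨x, hPT x.2⟩).symm)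
    rw [h4, h3]
    have h5 : ψ₀ ⟨((α⁻¹ ⟨x, hPT x.2⟩ : T) : Ω), hmemP x⟩ =
        χ₀ ⟨((α⁻¹ ⟨x, hPT x.2⟩ : T) : Ω), (mem_img α⁻¹ P _).2 ⟨⟨x, hPT x.2⟩, x.2, rfl⟩⟩ :=
      hψ₀1 ⟨_, (mem_img α⁻¹ P _).2 ⟨⟨x, hPT x.2⟩, x.2, rfl⟩⟩
    have h6 := hχ₀e ⟨x, hPT x.2⟩ x.2 (hψT x) ((mem_img α⁻¹ P _).2 ⟨⟨x, hPT x.2⟩, x.2, rfl⟩)
    have h7 : (⟨ψ₀ ⟨((α⁻¹ ⟨x, hPT x.2⟩ : T) : Ω), hmemP x⟩, hψ₀T _⟩ : T) = α⁻¹ ⟨ψ x, hψT x⟩ :=
      Subtype.ext (h5.trans h6)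
    rw [h7, MulAut.apply_inv_self]
  -- χ' on elements α r, r ∈ R
  have hχ'R : ∀ (r : T) (hr : (r : Ω) ∈ R) (hx : ((α r : T) : Ω) ∈ img α (img α⁻¹ P ⊔ R)),
      χ' ⟨(α r : T), hx⟩ = ((α ⟨ψ₀ ⟨r, hmemR r hr⟩, hψ₀T _⟩ : T) : Ω) :=
    fun r hr hx => hχ'e r (hmemR r hr) (hψ₀T _) hx
  have hψ₀R : ∀ (r : T) (hr : (r : Ω) ∈ R), ψ₀ ⟨r, hmemR r hr⟩ ∈ R :=
    fun r hr => hψ₀2.le ⟨_, hr, rfl⟩
  refine ⟨χ'.comp (MulEquiv.subgroupCongr hsub.symm).toMonoidHom,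
    hom_of_eq_on E hsub hχ' (fun x hx hx' => rfl), fun x => ?_, ?_⟩
  · exact hχ'P x (hsub ▸ Subgroup.mem_sup_left x.2)
  · apply le_antisymm
    · rintro _ ⟨y, hy, rfl⟩
      obtain ⟨r, hr, hry⟩ := (mem_img α R _).1 hy
      have hx : ((α r : T) : Ω) ∈ img α (img α⁻¹ P ⊔ R) := by
        rw [hsub, hry]; exact y.2
      have h1 : (χ'.comp (MulEquiv.subgroupCongr hsub.symm).toMonoidHom) y = χ' ⟨(α r : T), hx⟩ := by
        show χ' ⟨(y : Ω), _⟩ = _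
        congr 1
        exact Subtype.ext hry.symm
      rw [h1, hχ'R r hr hx]
      exact (mem_img α R _).2 ⟨_, hψ₀R r hr, rfl⟩
    · intro y hy
      obtain ⟨r, hr, rfl⟩ := (mem_img α R _).1 hy
      obtain ⟨r₀, hr₀, hr₀r⟩ := hψ₀2.ge hr
      have hr₀R : ((r₀ : Ω)) ∈ R := hr₀
      have hr₀T : (r₀ : Ω) ∈ T := hR.1 hr₀R
      have hx : ((α ⟨r₀, hr₀T⟩ : T) : Ω) ∈ img α (img α⁻¹ P ⊔ R) :=
        (mem_img α _ _).2 ⟨⟨r₀, hr₀T⟩, r₀.2, rfl⟩
      have hx' : ((α ⟨r₀, hr₀T⟩ : T) : Ω) ∈ P ⊔ img α R := hsub ▸ hx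
      refine ⟨⟨_, hx'⟩, (mem_img α R _).2 ⟨⟨r₀, hr₀T⟩, hr₀R, rfl⟩, ?_⟩
      show χ' ⟨((α ⟨r₀, hr₀T⟩ : T) : Ω), _⟩ = _
      rw [hχ'R ⟨r₀, hr₀T⟩ hr₀R hx]
      congr 2
      apply Subtype.ext
      exact hr₀r

/-- the subgroup generated by the `F`-conjugates of `R` -/
def star (F : FusionSystem S) (R : Subgroup Ω) : Subgroup Ω :=
  Subgroup.closure {x : Ω | ∃ φ ∈ F.Hom R, ∃ r : R, x = φ r}

theorem star_eq_sSup [Finite S] (F : FusionSystem S) {T : Subgroup Ω} (E : FusionSystem T)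
    (hinv : E.IsInvariantIn F) (hTS : T ≤ S) {R : Subgroup Ω} (hR : E.IsNormal R) :
    star F R = sSup {Q : Subgroup Ω | ∃ α ∈ F.autGroup T, Q = img α R} := by
  apply le_antisymm
  · unfold star
    rw [Subgroup.closure_le]
    rintro _ ⟨φ, hφ, r, rfl⟩
    obtain ⟨α, hα, φ₀, hφ₀, hfac⟩ := hinv.2.2.2 R hR.1 φ hφ
    have hφ₀R : φ₀ r ∈ R := (isNormal_stronglyClosed E hR).2 R le_rfl φ₀ hφ₀ r
    have h1 := hfac r (hR.1 hφ₀R)
    have h2 : φ r ∈ img α R := by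
      rw [h1]
      exact (mem_img α R _).2 ⟨_, hφ₀R, rfl⟩
    have h3 : img α R ≤ sSup {Q : Subgroup Ω | ∃ α ∈ F.autGroup T, Q = img α R} :=
      le_sSup ⟨α, hα, rfl⟩
    exact h3 h2
  · apply sSup_le
    rintro _ ⟨α, hα, rfl⟩
    intro y hy
    obtain ⟨z, hz, rfl⟩ := (mem_img α R _).1 hy
    have hαF : IsIso F (α : T ≃* T) := (mem_autGroup_iff F hTS).1 hα
    have hres : (T.subtype.comp (α : T ≃* T).toMonoidHom).comp (Subgroup.inclusion hR.1) ∈ F.Hom R :=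
      restrict_mem F hαF hR.1
    exact Subgroup.subset_closure ⟨_, hres, ⟨z, hz⟩, rfl⟩

theorem star_isNormal [Finite S] (F : FusionSystem S) {T : Subgroup Ω} (E : FusionSystem T)
    (hinv : E.IsInvariantIn F) (hTS : T ≤ S) {R : Subgroup Ω} (hR : E.IsNormal R) :
    E.IsNormal (star F R) := by
  rw [star_eq_sSup F E hinv hTS hR]
  have hfinT : Finite T := finite_of_le hTS
  apply Cfsg.Agent.Lib.Helper85.isNormal_sSup_of_finite
  · refine (Cfsg.Agent.Lib.Helper85.finite_subgroups_le T).subset ?_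
    rintro _ ⟨α, -, rfl⟩
    exact img_le α R
  · rintro _ ⟨α, hα, rfl⟩
    exact isNormal_img E F hinv hα hR

/-- `R*` is invariant under `Aut_F(T)` -/
theorem star_aut_mem (F : FusionSystem S) {T : Subgroup Ω} (hTsc : F.StronglyClosed T)
    {R : Subgroup Ω} (hRT : R ≤ T) {β : MulAut T} (hβ : β ∈ F.autGroup T) :
    ∀ y (hy : y ∈ star F R) (hyT : y ∈ T), ((β ⟨y, hyT⟩ : T) : Ω) ∈ star F R := by
  have hTS : T ≤ S := hTsc.1
  have hβF : IsIso F (β : T ≃* T) := (mem_autGroup_iff F hTS).1 hβ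
  have hle : star F R ≤ (((star F R).subgroupOf T).comap β.toMonoidHom).map T.subtype := by
    unfold star
    rw [Subgroup.closure_le]
    rintro _ ⟨φ, hφ, r, rfl⟩
    have hφT : ∀ x : R, φ x ∈ T := fun x => hTsc.2 R hRT φ hφ x
    refine ⟨⟨φ r, hφT r⟩, ?_, rfl⟩
    show ((β ⟨φ r, hφT r⟩ : T) : Ω) ∈ Subgroup.closure _
    have hcomp := F.comp_mem hφ hβF hφT
    exact Subgroup.subset_closure ⟨_, hcomp, r, rfl⟩
  intro y hy hyT
  obtain ⟨z, hz, hzy⟩ := hle hy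
  have : z = ⟨y, hyT⟩ := Subtype.ext hzy
  rw [← this]
  exact hz

/-- Let F be a saturated fusion system over a finite p-group S and E a weakly normal subsystem of F over a subgroup T. Suppose a subgroup R of T is normal in E (E = N_E(R)), and let R* be the subgroup of T generated by the images of R under all maps of F with source R. Then R* is normal in F (F = N_F(R*)). -/
theorem result {Ω : Type*} [Group Ω] {S : Subgroup Ω} [Finite S] (p : ℕ) [Fact p.Prime] (hS : IsPGroup p S)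
    (F : Cfsg.FusionSystem S) (hF : F.IsSaturated p)
    {T : Subgroup Ω} (E : Cfsg.FusionSystem T) (hE : E.IsWeaklyNormalIn F p)
    (R : Subgroup Ω) (hR : E.IsNormal R) :
    F.IsNormal (Subgroup.closure {x : Ω | ∃ φ ∈ F.Hom R, ∃ r : R, x = φ r}) := by
  obtain ⟨hEs, -, hsub, hTsc, hinv1, hfr⟩ := hE
  have hinv : E.IsInvariantIn F := ⟨hsub, hTsc, hinv1, hfr⟩
  have hTS : T ≤ S := hTsc.1
  have hRT : R ≤ T := hR.1
  have hstarN : E.IsNormal (star F R) := star_isNormal F E hinv hTS hR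
  have hstarT : star F R ≤ T := hstarN.1
  have hfinstar : Finite (star F R) := finite_of_le (hstarT.trans hTS)
  have hstarsc : E.StronglyClosed (star F R) := isNormal_stronglyClosed E hstarN
  show F.IsNormal (star F R)
  refine isNormal_of_upperCentralSeries F hS hF (star F R) ?_ ?_
  · -- strongly closed in F
    refine ⟨hstarT.trans hTS, fun P hP φ hφ x => ?_⟩
    obtain ⟨α, hα, φ₀, hφ₀, hfac⟩ := hfr P (hP.trans hstarT) φ hφ
    have h1 : φ₀ x ∈ star F R := hstarsc.2 P hP φ₀ hφ₀ x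
    rw [hfac x (hstarT h1)]
    exact star_aut_mem F hTsc hRT hα _ h1 _
  · intro k φ hφ x
    have hle : (Subgroup.upperCentralSeries (star F R) k).map (star F R).subtype ≤ star F R :=
      Subgroup.map_subtype_le _
    obtain ⟨α, hα, φ₀, hφ₀, hfac⟩ := hfr _ (hle.trans hstarT) φ hφ
    -- φ₀ x lies in the k-th term
    obtain ⟨ψ, hψ, hψ1, hψ2⟩ := hstarN.2 _ φ₀ hφ₀
    have hres : ψ.comp (Subgroup.inclusion (le_sup_right :
        star F R ≤ (Subgroup.upperCentralSeries (star F R) k).map (star F R).subtype ⊔ star F R)) ∈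
        E.Hom (star F R) := restrict_mem E hψ le_sup_right
    have hval : ∀ y : star F R, (ψ.comp (Subgroup.inclusion (le_sup_right :
        star F R ≤ (Subgroup.upperCentralSeries (star F R) k).map (star F R).subtype ⊔ star F R))) y ∈
        star F R := fun y => hψ2.le ⟨_, y.2, rfl⟩
    obtain ⟨x', hx', hxx'⟩ := x.2
    have h1 := upperCentralSeries_map_mem _ (E.injective_of_mem hres) hval k hx'
    have h2 : φ₀ x = (ψ.comp (Subgroup.inclusion (le_sup_right :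
        star F R ≤ (Subgroup.upperCentralSeries (star F R) k).map (star F R).subtype ⊔ star F R))) x' := by
      rw [← hψ1 x]
      show ψ _ = ψ _
      congr 1
      exact Subtype.ext hxx'.symm
    have h3 : φ₀ x ∈ (Subgroup.upperCentralSeries (star F R) k).map (star F R).subtype := by
      rw [h2]; exact h1
    -- now apply α
    obtain ⟨w, hw, hwx⟩ := h3
    have hαF : IsIso F (α : T ≃* T) := (mem_autGroup_iff F hTS).1 hα
    have hresα : (T.subtype.comp (α : T ≃* T).toMonoidHom).comp (Subgroup.inclusion hstarT) ∈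
        F.Hom (star F R) := restrict_mem F hαF hstarT
    have hvalα : ∀ y : star F R, ((T.subtype.comp (α : T ≃* T).toMonoidHom).comp
        (Subgroup.inclusion hstarT)) y ∈ star F R :=
      fun y => star_aut_mem F hTsc hRT hα _ y.2 _
    have h4 := upperCentralSeries_map_mem _ (F.injective_of_mem hresα) hvalα k hw
    have h5 : φ₀ x ∈ T := hstarT (hwx ▸ w.2)
    rw [hfac x h5]
    have h6 : ((α ⟨φ₀ x, h5⟩ : T) : Ω) = ((T.subtype.comp (α : T ≃* T).toMonoidHom).comp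
        (Subgroup.inclusion hstarT)) w := by
      show _ = ((α ⟨(w : Ω), _⟩ : T) : Ω)
      congr 2
      exact Subtype.ext hwx.symm
    rw [h6]
    exact h4

end Cfsg.Agent.S5291
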