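import Cfsg.Statements.S1954
-- import your own Cfsg.Agent.* helpers here
import Cfsg.Agent.S5291
import Cfsg.Agent.Lib.Helper88.FusionNormalSubgroup

set_option autoImplicit false
open Cfsg

namespace Cfsg.Agent.S1954

open Cfsg.FusionSystem
open Cfsg.Agent.Lib.Helper87 Cfsg.Agent.Lib.Helper88

/-- Let N be a normal subgroup of the finite group G, P a Sylow p-subgroup of G, and V a subgroup of P ∩ N normal in P ∩ N such that N_N(V) controls strong fusion in P ∩ N with respect to N (whenever a subgroup A of P ∩ N has n A n⁻¹ ≤ P ∩ N for some n in N, then n = h c with h in N_N(V) and c in C_N(A)). Let W be the subgroup generated by the conjugates of V under N_G(P ∩ N). Then N_G(W) controls strong fusion in P with respect to G. -/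
theorem result {G : Type*} [Group G] [Finite G] {p : ℕ} [Fact p.Prime] (N : Subgroup G) [N.Normal] (P : Sylow p G) (V : Subgroup G)
    (hV : V ≤ (P : Subgroup G) ⊓ N) (hVn : ∀ x ∈ (P : Subgroup G) ⊓ N, V.map (MulAut.conj x).toMonoidHom = V)
    (hctrl : ∀ A : Subgroup G, A ≤ (P : Subgroup G) ⊓ N → ∀ n ∈ N, A.map (MulAut.conj n).toMonoidHom ≤ (P : Subgroup G) ⊓ N →
      ∃ h ∈ N ⊓ Subgroup.normalizer (V : Set G), ∃ c ∈ N ⊓ Subgroup.centralizer (A : Set G), n = h * c)
    (W : Subgroup G) (hW : W = Subgroup.closure (⋃ x ∈ Subgroup.normalizer (((P : Subgroup G) ⊓ N : Subgroup G) : Set G),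
      ((V.map (MulAut.conj x).toMonoidHom : Subgroup G) : Set G))) :
    ∀ A : Subgroup G, A ≤ (P : Subgroup G) → ∀ g : G, A.map (MulAut.conj g).toMonoidHom ≤ (P : Subgroup G) →
        ∃ h ∈ Subgroup.normalizer (W : Set G), ∃ c ∈ Subgroup.centralizer (A : Set G), g = h * c := by
  have hS : IsPGroup p (P : Subgroup G) := P.isPGroup'
  have hF := Cfsg.Agent.Lib.Helper85.groupFusionSystem_isSaturated P
  have hE := fusionSystemOfSubgroup_inf_isNormalIn P N
  -- `V` is normal in `F_T(N)`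
  have hVE : (fusionSystemOfSubgroup N ((P : Subgroup G) ⊓ N) inf_le_right).IsNormal V := by
    refine ⟨hV, fun A φ hφ => ?_⟩
    obtain ⟨hAT, hφT, n, hnN, hn⟩ := hφ
    have hAn : A.map (MulAut.conj n).toMonoidHom ≤ (P : Subgroup G) ⊓ N := by
      rintro _ ⟨a, ha, rfl⟩
      have := hφT ⟨a, ha⟩
      rw [hn] at this
      exact this
    obtain ⟨h, ⟨hhN, hhV⟩, c, ⟨hcN, hcA⟩, rfl⟩ := hctrl A hAT n hnN hAn
    have hca : ∀ a ∈ A, h * c * a * (h * c)⁻¹ = h * a * h⁻¹ := by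
      intro a ha
      have h1 : a * c = c * a := Subgroup.mem_centralizer_iff.1 hcA a ha
      calc h * c * a * (h * c)⁻¹ = h * (c * a) * c⁻¹ * h⁻¹ := by group
        _ = h * (a * c) * c⁻¹ * h⁻¹ := by rw [h1]
        _ = h * a * h⁻¹ := by group
    have hhV' : ∀ v ∈ V, h * v * h⁻¹ ∈ V := fun v hv => (Subgroup.mem_normalizer_iff.1 hhV v).1 hv
    have hval : ∀ x : ↥(A ⊔ V), h * (x : G) * h⁻¹ ∈ (P : Subgroup G) ⊓ N := by
      have hmap : (A ⊔ V).map (MulAut.conj h).toMonoidHom ≤ (P : Subgroup G) ⊓ N := by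
        rw [Subgroup.map_sup]
        refine sup_le ?_ ?_
        · rintro _ ⟨a, ha, rfl⟩
          show h * a * h⁻¹ ∈ _
          rw [← hca a ha]
          exact hAn ⟨a, ha, rfl⟩
        · rintro _ ⟨v, hv, rfl⟩
          exact hV (hhV' v hv)
      intro x
      exact hmap ⟨x, x.2, rfl⟩
    refine ⟨conjHom (A ⊔ V) h, ⟨sup_le hAT hV, hval, h, hhN, fun _ => rfl⟩, fun x => ?_, ?_⟩
    · show h * (x : G) * h⁻¹ = φ x
      rw [hn, hca x x.2]
    · ext y
      constructor
      · rintro ⟨z, hz, rfl⟩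
        exact hhV' z hz
      · intro hy
        have hz : h⁻¹ * y * h ∈ V := by
          have := (Subgroup.mem_normalizer_iff.1 (Subgroup.inv_mem _ hhV) y).1 hy
          rwa [inv_inv] at this
        refine ⟨⟨h⁻¹ * y * h, (le_sup_right : V ≤ A ⊔ V) hz⟩, hz, ?_⟩
        show h * (h⁻¹ * y * h) * h⁻¹ = y
        group
  have hstar := Cfsg.Agent.S5291.result p hS (groupFusionSystem (P : Subgroup G)) hF
    (fusionSystemOfSubgroup N ((P : Subgroup G) ⊓ N) inf_le_right) hE.1 V hVE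
  -- identify `W`
  have hWeq : W = Subgroup.closure {x : G | ∃ φ ∈ (groupFusionSystem (P : Subgroup G)).Hom V, ∃ r : V, x = φ r} := by
    rw [hW]
    apply le_antisymm
    · rw [Subgroup.closure_le]
      intro y hy
      simp only [Set.mem_iUnion] at hy
      obtain ⟨x, hx, hy⟩ := hy
      obtain ⟨v, hv, rfl⟩ := hy
      apply Subgroup.subset_closure
      have hxT : ∀ t ∈ (P : Subgroup G) ⊓ N, x * t * x⁻¹ ∈ (P : Subgroup G) ⊓ N :=
        fun t ht => (Subgroup.mem_normalizer_iff.1 hx t).1 ht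
      refine ⟨conjHom V x, ⟨hV.trans inf_le_left, fun r => (hxT r (hV r.2)).1, x, fun _ => rfl⟩, ⟨v, hv⟩, rfl⟩
    · rw [Subgroup.closure_le]
      rintro _ ⟨φ, ⟨-, hφP, g, hg⟩, r, rfl⟩
      -- Frattini: g = x n
      obtain ⟨x, hx, n, hnN, rfl⟩ := frattini_inf P N g
      have hxinv : x⁻¹ ∈ Subgroup.normalizer ((((P : Subgroup G) ⊓ N : Subgroup G)) : Set G) :=
        Subgroup.inv_mem _ hx
      have hnV : V.map (MulAut.conj n).toMonoidHom ≤ (P : Subgroup G) ⊓ N := by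
        rintro _ ⟨v, hv, rfl⟩
        show n * v * n⁻¹ ∈ _
        have h1 : x * n * v * (x * n)⁻¹ ∈ (P : Subgroup G) ⊓ N := by
          refine ⟨?_, ?_⟩
          · have := hφP ⟨v, hv⟩
            rw [hg] at this
            exact this
          · have hnN' : N.Normal := inferInstance
            exact hnN'.conj_mem v (hV hv).2 (x * n)
        have h2 := (Subgroup.mem_normalizer_iff.1 hxinv _).1 h1
        have e : x⁻¹ * (x * n * v * (x * n)⁻¹) * x⁻¹⁻¹ = n * v * n⁻¹ := by group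
        rwa [e] at h2
      obtain ⟨h, ⟨-, hhV⟩, c, ⟨-, hcV⟩, rfl⟩ := hctrl V hV n hnN hnV
      have h1 : (r : G) * c = c * r := Subgroup.mem_centralizer_iff.1 hcV r r.2
      have h2 : h * (r : G) * h⁻¹ ∈ V := (Subgroup.mem_normalizer_iff.1 hhV r).1 r.2
      rw [hg]
      apply Subgroup.subset_closure
      simp only [Set.mem_iUnion]
      refine ⟨x, hx, h * (r : G) * h⁻¹, h2, ?_⟩
      show x * (h * (r : G) * h⁻¹) * x⁻¹ = x * (h * c) * (r : G) * (x * (h * c))⁻¹
      calc x * (h * (r : G) * h⁻¹) * x⁻¹ = x * h * ((r : G) * c) * c⁻¹ * h⁻¹ * x⁻¹ := by group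
        _ = x * h * (c * (r : G)) * c⁻¹ * h⁻¹ * x⁻¹ := by rw [h1]
        _ = x * (h * c) * (r : G) * (x * (h * c))⁻¹ := by group
  rw [← hWeq] at hstar
  -- control of fusion
  intro A hA g hAg
  have hφ : conjHom A g ∈ (groupFusionSystem (P : Subgroup G)).Hom A :=
    ⟨hA, fun x => hAg ⟨x, x.2, rfl⟩, g, fun _ => rfl⟩
  obtain ⟨ψ, ⟨-, -, h, hh⟩, hψA, hψW⟩ := hstar.2 A _ hφ
  have hhW : ∀ w ∈ W, h * w * h⁻¹ ∈ W := by
    intro w hw
    rw [← hψW]
    exact ⟨⟨w, (le_sup_right : W ≤ A ⊔ W) hw⟩, hw, hh _⟩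
  refine ⟨h, ?_, h⁻¹ * g, ?_, by group⟩
  · rw [Subgroup.mem_normalizer_iff]
    intro y
    constructor
    · exact hhW y
    · intro hy
      rw [← hψW] at hy
      obtain ⟨z, hz, hzy⟩ := hy
      rw [hh] at hzy
      have : (z : G) = y := mul_left_cancel (mul_right_cancel hzy)
      rw [← this]
      exact hz
  · rw [Subgroup.mem_centralizer_iff]
    intro a ha
    have h1 := hψA ⟨a, ha⟩
    rw [hh] at h1
    have h2 : h * a * h⁻¹ = g * a * g⁻¹ := h1
    calc a * (h⁻¹ * g) = h⁻¹ * (h * a * h⁻¹) * g := by group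
      _ = h⁻¹ * (g * a * g⁻¹) * g := by rw [h2]
      _ = h⁻¹ * g * a := by group

end Cfsg.Agent.S1954
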