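import Cfsg.Statements.S0652
import Cfsg.Agent.S0651

set_option autoImplicit false
open Cfsg

namespace Cfsg.Agent.S0652

open Cfsg.Agent.Lib.Helper11

theorem mem_image_maxElementaryAbelian {S : Type*} [Group S] [Finite S] (p : ℕ)
    (D U : Subgroup S) :
    U ∈ Set.image (fun A : Subgroup ↥D => A.map D.subtype) (maxElementaryAbelianSubgroups p ↥D) ↔
      U ≤ D ∧ IsElementaryAbelian p U ∧
        ∀ V : Subgroup S, V ≤ D → IsElementaryAbelian p V → Nat.card V ≤ Nat.card U := by
  constructor
  · rintro ⟨A, ⟨⟨hAc, hAp⟩, hAmax⟩, rfl⟩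
    refine ⟨Subgroup.map_subtype_le A, ⟨inferInstance, ?_⟩, ?_⟩
    · rintro _ ⟨a, ha, rfl⟩
      have := hAp a ha
      rw [← map_pow, this, map_one]
    · intro V hVD hVe
      have h1 : Nat.card (V.subgroupOf D) = Nat.card V :=
        Nat.card_congr (Subgroup.subgroupOfEquivOfLe hVD).toEquiv
      have hVe' : IsElementaryAbelian p (V.subgroupOf D) := by
        have := hVe.1
        refine ⟨inferInstance, ?_⟩
        intro a ha
        apply Subtype.ext
        rw [Subgroup.coe_pow, Subgroup.coe_one]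
        exact hVe.2 a.1 ha
      have h2 := hAmax (V.subgroupOf D) hVe'
      rw [h1] at h2
      show Nat.card V ≤ Nat.card (A.map D.subtype)
      rw [Subgroup.card_map_of_injective D.subtype_injective]
      exact h2
  · rintro ⟨hUD, hUe, hUmax⟩
    have hUe' : IsElementaryAbelian p (U.subgroupOf D) := by
      have := hUe.1
      refine ⟨inferInstance, ?_⟩
      intro a ha
      apply Subtype.ext
      rw [Subgroup.coe_pow, Subgroup.coe_one]
      exact hUe.2 a.1 ha
    refine ⟨U.subgroupOf D, ⟨hUe', ?_⟩, Subgroup.map_subgroupOf_eq_of_le hUD⟩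
    intro B' hB'
    have h1 : Nat.card (U.subgroupOf D) = Nat.card U :=
      Nat.card_congr (Subgroup.subgroupOfEquivOfLe hUD).toEquiv
    rw [h1, ← Subgroup.card_map_of_injective (K := B') D.subtype_injective]
    refine hUmax _ (Subgroup.map_subtype_le B') ⟨?_, ?_⟩
    · have := hB'.1
      infer_instance
    · rintro _ ⟨a, ha, rfl⟩
      have := hB'.2 a ha
      rw [← map_pow, this, map_one]

/-- For odd p and D normal in the p-group S, the elementary abelian subgroups of D of largest order satisfy the replacement property for class-2 normal subgroups of S. -/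
theorem result {S : Type*} [Group S] [Finite S] {p : ℕ} [Fact p.Prime] (hS : IsPGroup p S) (hp : p ≠ 2) (D : Subgroup S) [D.Normal] : ∀ (B : Subgroup S) [B.Normal], ⁅⁅B, B⁆, B⁆ = ⊥ → (∃ U ∈ (Set.image (fun A : Subgroup ↥D => A.map D.subtype) (Cfsg.maxElementaryAbelianSubgroups p ↥D)), ⁅B, B⁆ ≤ U ∧ ¬ B ≤ U) → ∃ A ∈ (Set.image (fun A : Subgroup ↥D => A.map D.subtype) (Cfsg.maxElementaryAbelianSubgroups p ↥D)), ⁅B, B⁆ ≤ A ∧ ¬ B ≤ A ∧ B ≤ Subgroup.normalizer (A : Set S) := by
  intro B _ _ hex
  have hB2 : p = 2 → IsMulCommutative B := fun h => absurd h hp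
  apply Cfsg.Agent.S0651.replacement_max hS _ B hB2 _ _ hex
  · intro A hA
    exact ((mem_image_maxElementaryAbelian p D A).mp hA).2.1.1
  · intro A hA b hb hBA hbN hbA
    obtain ⟨hAD, ⟨hAc, hAp⟩, hAmax⟩ := (mem_image_maxElementaryAbelian p D A).mp hA
    rw [mem_image_maxElementaryAbelian]
    refine ⟨Cfsg.Agent.S0651.starA_le_of_normal D A hAD b,
      ⟨starA_isMulCommutative hS A B b hB2 hAc hBA hb hbN, ?_⟩, ?_⟩
    · intro x hx
      have hexp := exponent_starA hS A B b hB2 hAc hBA hb hbN hp
      have hAexp : Monoid.exponent A ∣ p := by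
        apply Monoid.exponent_dvd_of_forall_pow_eq_one
        intro a
        apply Subtype.ext
        rw [Subgroup.coe_pow, Subgroup.coe_one]
        exact hAp a.1 a.2
      have h1 : (⟨x, hx⟩ : starA A b) ^ p = 1 :=
        Monoid.exponent_dvd_iff_forall_pow_eq_one.mp (hexp.trans hAexp) _
      exact congrArg Subtype.val h1
    · intro V hVD hVc
      rw [card_starA hS A B b hB2 hAc hBA hb hbN]
      exact hAmax V hVD hVc

end Cfsg.Agent.S0652
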