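import Cfsg.Statements.S0654
import Cfsg.Agent.S0655
import Cfsg.Agent.S0652
import Cfsg.Agent.Lib.Helper11.ZJ
import Cfsg.Agent.Lib.Helper97.Thompson

set_option autoImplicit false
open Cfsg

namespace Cfsg.Agent.S0654

open Cfsg.Agent.Lib.Helper11

theorem omegaCenterThompson_map_eq_famInf {G : Type*} [Group G] [Finite G] {p : ℕ} [Fact p.Prime]
    (D : Subgroup G) (hD : IsPGroup p D) :
    (omegaCenterThompson p ↥D).map D.subtype =
      famInf (fun A : Subgroup G => IsElementaryAbelian p A) D := by
  rw [← (Cfsg.Agent.S0655.result hD).1]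
  exact map_sInf_eq_famInf (Cfsg.Agent.Lib.Helper97.isElementaryAbelian_bot p) D _
    (fun U => Cfsg.Agent.S0652.mem_image_maxElementaryAbelian p D U)

/-- The ZJ-Theorem for the elementary-abelian Thompson subgroup: for an odd prime p, a finite group G with C_G(O_p(G)) ≤ O_p(G) acting p-stably on its normal p-subgroups, and a Sylow p-subgroup S of G, the subgroup generated by the elements of order dividing p in Z(J_e(S)) is characteristic in G. -/
theorem result {G : Type*} [Group G] [Finite G] {p : ℕ} [Fact p.Prime] (hp : p ≠ 2) (hc : Subgroup.centralizer (Cfsg.pCore p G : Set G) ≤ Cfsg.pCore p G) (hst : ∀ (P : Subgroup G) [P.Normal], IsPGroup p P → Cfsg.IsPStableOn p P) (S : Sylow p G) : ((Cfsg.omegaCenterThompson p ↥(S : Subgroup G)).map (S : Subgroup G).subtype).Characteristic := by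
  rw [omegaCenterThompson_map_eq_famInf _ S.isPGroup']
  exact famInf_characteristic hp (Cfsg.Agent.Lib.Helper97.isElementaryAbelian_bot p)
    (fun A h => h.1)
    (fun φ A h => Cfsg.Agent.Lib.Helper97.isElementaryAbelian_map φ.toMonoidHom h)
    (replClosed_elem hp) hc hst S

end Cfsg.Agent.S0654
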