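import Cfsg.Statements.S3078
import Cfsg.Agent.S0649
import Cfsg.Agent.Lib.Helper11.Replacement2

set_option autoImplicit false
open Cfsg

namespace Cfsg.Agent.S3078

open Cfsg.Agent.Lib.Helper11

theorem omegaOne_map_of_injective {H G : Type*} [Group H] [Group G] (p : ℕ) (f : H →* G)
    (hf : Function.Injective f) (X : Subgroup H) :
    omegaOne p (X.map f) = (omegaOne p X).map f := by
  unfold omegaOne
  rw [MonoidHom.map_closure]
  congr 1
  ext y
  constructor
  · rintro ⟨⟨x, hx, rfl⟩, hp⟩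
    refine ⟨x, ⟨hx, ?_⟩, rfl⟩
    apply hf
    rw [map_pow, hp, map_one]
  · rintro ⟨x, ⟨hx, hp⟩, rfl⟩
    refine ⟨⟨x, hx, rfl⟩, ?_⟩
    rw [← map_pow, hp, map_one]

/-- A replacement Theorem for abelian subgroups of p-groups, p odd. Let G be a finite p-group with p odd, A an abelian subgroup of G, and B a subgroup of nilpotency class at most 2 with [B, B] ≤ A, such that A normalizes B but B does not normalize A. Then there is an abelian subgroup A* of G of the same order as A with A ∩ B strictly contained in A* ∩ B, A* contained in N_G(A) and in the normal closure of A, the exponent of A* dividing the exponent of A, and with the subgroup generated by the elements of order dividing p in A of order at most that of the corresponding subgroup of A* (the rank of A is at most the rank of A*). -/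
theorem result {G : Type*} [Group G] [Finite G] {p : ℕ} [Fact p.Prime] (hp : p ≠ 2) (hG : IsPGroup p G) (A B : Subgroup G) (hA : IsMulCommutative A) (hB2 : ⁅⁅B, B⁆, B⁆ = ⊥) (hBA : ⁅B, B⁆ ≤ A) (hAB : A ≤ Subgroup.normalizer (B : Set G)) (hBnA : ¬ B ≤ Subgroup.normalizer (A : Set G)) : ∃ Astar : Subgroup G, IsMulCommutative Astar ∧ Nat.card Astar = Nat.card A ∧ A ⊓ B < Astar ⊓ B ∧ Astar ≤ Subgroup.normalizer (A : Set G) ∧ Astar ≤ Subgroup.normalClosure (A : Set G) ∧ Monoid.exponent Astar ∣ Monoid.exponent A ∧ Nat.card (Cfsg.omegaOne p A) ≤ Nat.card (Cfsg.omegaOne p Astar) := by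
  have hAG : A ≤ A ⊔ B := le_sup_left
  have hBG : B ≤ A ⊔ B := le_sup_right
  have hBn : (B.subgroupOf (A ⊔ B)).Normal :=
    (Subgroup.normal_subgroupOf_iff_le_normalizer hBG).mpr (sup_le hAB Subgroup.le_normalizer)
  have hS₀ : IsPGroup p ↥(A ⊔ B) := hG.to_subgroup _
  have hA₀ : IsMulCommutative (A.subgroupOf (A ⊔ B)) := inferInstance
  have hB2' : p = 2 → IsMulCommutative (B.subgroupOf (A ⊔ B)) := fun h => absurd h hp
  have hBA₀ : ⁅B.subgroupOf (A ⊔ B), B.subgroupOf (A ⊔ B)⁆ ≤ A.subgroupOf (A ⊔ B) := by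
    rw [Subgroup.commutator_le]
    intro x hx y hy
    rw [Subgroup.mem_subgroupOf] at hx hy ⊢
    exact hBA (Subgroup.commutator_mem_commutator hx hy)
  have hmapA : (A.subgroupOf (A ⊔ B)).map (A ⊔ B).subtype = A := Subgroup.map_subgroupOf_eq_of_le hAG
  have hnot₀ : ¬ B.subgroupOf (A ⊔ B) ≤
      Subgroup.normalizer ((A.subgroupOf (A ⊔ B) : Subgroup ↥(A ⊔ B)) : Set ↥(A ⊔ B)) := by
    intro hle
    apply hBnA
    intro x hx
    have h1 : (⟨x, hBG hx⟩ : ↥(A ⊔ B)) ∈ Subgroup.normalizer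
        ((A.subgroupOf (A ⊔ B) : Subgroup ↥(A ⊔ B)) : Set ↥(A ⊔ B)) :=
      hle (Subgroup.mem_subgroupOf.mpr hx)
    have h2 := Subgroup.le_normalizer_map (A ⊔ B).subtype ⟨_, h1, rfl⟩
    rw [hmapA] at h2
    exact h2
  obtain ⟨b, hb, hbN, hbA⟩ := Cfsg.Agent.S0649.result hS₀ (B.subgroupOf (A ⊔ B)) hB2'
    (A.subgroupOf (A ⊔ B)) hA₀ hBA₀ hnot₀
  have hstarc := starA_isMulCommutative hS₀ (A.subgroupOf (A ⊔ B)) (B.subgroupOf (A ⊔ B)) b hB2'
    hA₀ hBA₀ hb hbN
  have hcard := card_starA hS₀ (A.subgroupOf (A ⊔ B)) (B.subgroupOf (A ⊔ B)) b hB2' hA₀ hBA₀ hb hbN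
  have hlt := inf_lt_starA_inf (A.subgroupOf (A ⊔ B)) (B.subgroupOf (A ⊔ B)) b hBA₀ hb hbA
  have hexp := exponent_starA hS₀ (A.subgroupOf (A ⊔ B)) (B.subgroupOf (A ⊔ B)) b hB2' hA₀ hBA₀
    hb hbN hp
  have homega := card_omegaOne_le_starA hS₀ (A.subgroupOf (A ⊔ B)) (B.subgroupOf (A ⊔ B)) b hB2'
    hA₀ hBA₀ hb hbN hp
  have hle_sup := starA_le_sup (A.subgroupOf (A ⊔ B)) b
  have hsupN := sup_le_normalizer (A.subgroupOf (A ⊔ B)) b hbN
  have hinj : Function.Injective (A ⊔ B).subtype := (A ⊔ B).subtype_injective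
  refine ⟨(starA (A.subgroupOf (A ⊔ B)) b).map (A ⊔ B).subtype, Subgroup.map_isMulCommutative _ _,
    ?_, ?_, ?_, ?_, ?_, ?_⟩
  · rw [Subgroup.card_map_of_injective hinj, hcard]
    exact Nat.card_congr (Subgroup.subgroupOfEquivOfLe hAG).toEquiv
  · refine lt_of_le_of_ne ?_ ?_
    · rintro x ⟨hxA, hxB⟩
      have h1 : (⟨x, hAG hxA⟩ : ↥(A ⊔ B)) ∈ A.subgroupOf (A ⊔ B) ⊓ B.subgroupOf (A ⊔ B) :=
        ⟨Subgroup.mem_subgroupOf.mpr hxA, Subgroup.mem_subgroupOf.mpr hxB⟩
      have h2 := hlt.le h1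
      exact ⟨⟨_, h2.1, rfl⟩, hxB⟩
    · intro heq
      obtain ⟨y, hy1, hy2⟩ := SetLike.exists_of_lt hlt
      apply hy2
      have h3 : (y : G) ∈ (starA (A.subgroupOf (A ⊔ B)) b).map (A ⊔ B).subtype ⊓ B :=
        ⟨⟨y, hy1.1, rfl⟩, Subgroup.mem_subgroupOf.mp hy1.2⟩
      rw [← heq] at h3
      exact ⟨Subgroup.mem_subgroupOf.mpr h3.1, Subgroup.mem_subgroupOf.mpr h3.2⟩
  · have h1 := (Subgroup.map_mono (f := (A ⊔ B).subtype) (hle_sup.trans hsupN)).trans
      (Subgroup.le_normalizer_map (A ⊔ B).subtype)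
    rw [hmapA] at h1
    exact h1
  · refine (Subgroup.map_mono hle_sup).trans ?_
    rw [Subgroup.map_le_iff_le_comap]
    refine sup_le ?_ ?_
    · intro x hx
      rw [Subgroup.mem_comap]
      exact Subgroup.subset_normalClosure (Subgroup.mem_subgroupOf.mp hx)
    · rintro _ ⟨a, ha, rfl⟩
      rw [Subgroup.mem_comap]
      have h1 : (a : G) ∈ Subgroup.normalClosure (A : Set G) :=
        Subgroup.subset_normalClosure (Subgroup.mem_subgroupOf.mp ha)
      have h2 := (Subgroup.normalClosure_normal (s := (A : Set G))).conj_mem _ h1 (b⁻¹ : ↥(A ⊔ B))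
      simpa using h2
  · have e1 : Monoid.exponent ↥((starA (A.subgroupOf (A ⊔ B)) b).map (A ⊔ B).subtype) =
        Monoid.exponent ↥(starA (A.subgroupOf (A ⊔ B)) b) :=
      (Monoid.exponent_eq_of_mulEquiv
        ((starA (A.subgroupOf (A ⊔ B)) b).equivMapOfInjective _ hinj)).symm
    have e2 : Monoid.exponent ↥(A.subgroupOf (A ⊔ B)) = Monoid.exponent ↥A :=
      Monoid.exponent_eq_of_mulEquiv (Subgroup.subgroupOfEquivOfLe hAG)
    rw [e1, ← e2]
    exact hexp
  · rw [omegaOne_map_of_injective p _ hinj, Subgroup.card_map_of_injective hinj]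
    have e3 : omegaOne p A = (omegaOne p (A.subgroupOf (A ⊔ B))).map (A ⊔ B).subtype := by
      rw [← omegaOne_map_of_injective p _ hinj, hmapA]
    rw [e3, Subgroup.card_map_of_injective hinj]
    exact homega

end Cfsg.Agent.S3078
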