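import Cfsg.Statements.S3079
import Cfsg.Agent.S0653
import Cfsg.Agent.S0654
import Cfsg.Agent.S3078
import Cfsg.Agent.Lib.Helper11.ZJ4

set_option autoImplicit false
open Cfsg

namespace Cfsg.Agent.S3079

open Cfsg.Agent.Lib.Helper11

section
variable {G : Type*} [Group G]

/-- restricting the family to subgroups of `D ≤ P`. -/
theorem fam_and_le_eq (good : Subgroup G → Prop) {D P : Subgroup G} (hDP : D ≤ P) :
    fam (fun A => good A ∧ A ≤ D) P = fam good D := by
  ext A
  constructor
  · rintro ⟨_, ⟨hg, hAD⟩, hmax⟩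
    exact ⟨hAD, hg, fun V hVD hV => hmax V (hVD.trans hDP) ⟨hV, hVD⟩⟩
  · rintro ⟨hAD, hg, hmax⟩
    exact ⟨hAD.trans hDP, ⟨hg, hAD⟩, fun V _ hV => hmax V hV.2 hV.1⟩

theorem famInf_and_le_eq (good : Subgroup G → Prop) {D P : Subgroup G} (hDP : D ≤ P) :
    famInf (fun A => good A ∧ A ≤ D) P = famInf good D := by
  unfold famInf
  rw [fam_and_le_eq good hDP]

theorem conj_le_of_stronglyClosed {D P : Subgroup G} (hD : IsStronglyClosed D P) (g : G)
    (A : Subgroup G) (hAD : A ≤ D) (hAP : A.map (MulAut.conj g).toMonoidHom ≤ P) :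
    A.map (MulAut.conj g).toMonoidHom ≤ D := by
  rintro _ ⟨a, ha, rfl⟩
  have h1 : (MulAut.conj g).toMonoidHom a ∈ P := hAP ⟨a, ha, rfl⟩
  exact hD.2 a (hAD ha) g h1

theorem starA_map_le_of_stronglyClosed {D P : Subgroup G} (hD : IsStronglyClosed D P)
    (A : Subgroup ↥P) (b : ↥P) (hA : A.map P.subtype ≤ D) :
    (starA A b).map P.subtype ≤ D := by
  refine (Subgroup.map_mono (starA_le_sup A b)).trans ?_
  rw [Subgroup.map_le_iff_le_comap]
  refine sup_le ?_ ?_
  · intro x hx
    exact hA ⟨x, hx, rfl⟩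
  · rintro _ ⟨a, ha, rfl⟩
    rw [Subgroup.mem_comap]
    have haD : (a : G) ∈ D := hA ⟨a, ha, rfl⟩
    have h1 := hD.2 (a : G) haD ((b : G)⁻¹)
      (by
        have : ((b⁻¹ * a * b⁻¹⁻¹ : ↥P) : G) ∈ P := (b⁻¹ * a * b⁻¹⁻¹ : ↥P).2
        simpa using this)
    simpa using h1

/-- `p`-stability in the normalizer form gives the element-wise stability on normal `p`-subgroups. -/
theorem hst_of_isNormalizerPStable {p : ℕ} (hst : IsNormalizerPStable p G) :
    ∀ (V : Subgroup G) [V.Normal], IsPGroup p V → ∀ a : G, IsPGroup p (Subgroup.zpowers a) →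
      ⁅⁅V, Subgroup.zpowers a⁆, Subgroup.zpowers a⁆ = ⊥ →
      (QuotientGroup.mk a : G ⧸ Subgroup.centralizer (V : Set G)) ∈
        pCore p (G ⧸ Subgroup.centralizer (V : Set G)) := by
  intro V hVn hVp a _ hquad
  have hN : Subgroup.normalizer (V : Set G) = ⊤ := Subgroup.normalizer_eq_top_iff.mpr hVn
  have haN : a ∈ Subgroup.normalizer (V : Set G) := by rw [hN]; trivial
  have h2 := hst V hVp a haN hquad
  have hsurj : Function.Surjective (Subgroup.normalizer (V : Set G)).subtype := by
    intro g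
    exact ⟨⟨g, by rw [hN]; trivial⟩, rfl⟩
  exact (mem_pCore_quotient_iff_of_surjective (p := p) (Subgroup.normalizer (V : Set G)).subtype hsurj
    ((Subgroup.centralizer (V : Set G)).subgroupOf (Subgroup.normalizer (V : Set G)))
    (Subgroup.centralizer (V : Set G)) rfl ⟨a, haN⟩).mp h2

theorem omegaOne_centerThompsonOf_eq (p : ℕ) (D : Subgroup G) :
    omegaOne p (centerThompsonOf p D) = (omegaCenterThompson p ↥D).map D.subtype := by
  have h1 : centerThompsonOf p D =
      (thompsonSubgroup p ↥D ⊓ Subgroup.centralizer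
        ((thompsonSubgroup p ↥D : Subgroup ↥D) : Set ↥D)).map D.subtype := by
    ext x
    constructor
    · rintro ⟨⟨y, hy, rfl⟩, hcen⟩
      have hcen' : D.subtype y ∈ Subgroup.centralizer (thompsonSubgroupOf p D : Set G) := hcen
      refine ⟨y, ⟨hy, Subgroup.mem_centralizer_iff.mpr ?_⟩, rfl⟩
      intro w hw
      apply Subtype.ext
      exact Subgroup.mem_centralizer_iff.mp hcen' (D.subtype w) ⟨w, hw, rfl⟩
    · rintro ⟨y, ⟨hy1, hy2⟩, rfl⟩
      have hy2' : y ∈ Subgroup.centralizer
        ((thompsonSubgroup p ↥D : Subgroup ↥D) : Set ↥D) := hy2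
      refine ⟨⟨y, hy1, rfl⟩, Subgroup.mem_centralizer_iff.mpr ?_⟩
      rintro _ ⟨w, hw, rfl⟩
      exact congrArg Subtype.val (Subgroup.mem_centralizer_iff.mp hy2' w hw)
  rw [h1, Cfsg.Agent.S3078.omegaOne_map_of_injective p _ D.subtype_injective]
  rfl

end

/-- Glauberman's ZJ-Theorem for strongly closed subgroups, p odd. Let G be a finite group that is p-stable in the normalizer form (for every p-subgroup U and g ∈ N_G(U) with [U, g, g] = 1, the image of g lies in O_p(N_G(U)/C_G(U))), with C_G(O_p(G)) ≤ O_p(G), let P be a Sylow p-subgroup and D a subgroup of P strongly closed in P with respect to G. Then Z(J(D)) is normal in G, where J(D) is generated by the abelian subgroups of D of largest order; and so is Ω₁(Z(J_e(D))), where J_e(D) is generated by the elementary abelian subgroups of D of largest order. -/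
theorem result {G : Type*} [Group G] [Finite G] {p : ℕ} [Fact p.Prime] (hp : p ≠ 2) (P : Sylow p G) (D : Subgroup G) (hD : Cfsg.IsStronglyClosed D (P : Subgroup G)) (hst : Cfsg.IsNormalizerPStable p G) (hc : Subgroup.centralizer ((Cfsg.pCore p G : Subgroup G) : Set G) ≤ Cfsg.pCore p G) : (Cfsg.centerThompsonAOf D).Normal ∧ (Cfsg.omegaOne p (Cfsg.centerThompsonOf p D)).Normal := by
  have hDP : D ≤ P := hD.1
  have hDp : IsPGroup p D := P.isPGroup'.to_le hDP
  have hst' := hst_of_isNormalizerPStable hst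
  constructor
  · rw [Cfsg.Agent.S0653.centerThompsonAOf_eq_famInf,
      ← famInf_and_le_eq (fun A : Subgroup G => IsMulCommutative A) hDP]
    apply famInf_normal_rel hp P ⟨isMulCommutative_bot'', bot_le⟩ (fun A h => h.1) ?_ ?_ hc hst'
    · intro g A hA _ hAgP
      have := hA.1
      exact ⟨Subgroup.map_isMulCommutative _ _, conj_le_of_stronglyClosed hD g A hA.2 hAgP⟩
    · intro B A _ b hAc hBA hb hbN hgood
      have hB2 : p = 2 → IsMulCommutative B := fun h => absurd h hp
      have := starA_isMulCommutative P.isPGroup' A B b hB2 hAc hBA hb hbN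
      exact ⟨Subgroup.map_isMulCommutative _ _, starA_map_le_of_stronglyClosed hD A b hgood.2⟩
  · rw [omegaOne_centerThompsonOf_eq, Cfsg.Agent.S0654.omegaCenterThompson_map_eq_famInf D hDp,
      ← famInf_and_le_eq (fun A : Subgroup G => IsElementaryAbelian p A) hDP]
    apply famInf_normal_rel hp P ⟨Cfsg.Agent.Lib.Helper97.isElementaryAbelian_bot p, bot_le⟩
      (fun A h => h.1.1) ?_ ?_ hc hst'
    · intro g A hA _ hAgP
      exact ⟨Cfsg.Agent.Lib.Helper97.isElementaryAbelian_map _ hA.1,
        conj_le_of_stronglyClosed hD g A hA.2 hAgP⟩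
    · intro B A _ b hAc hBA hb hbN hgood
      exact ⟨replClosed_elem hp (P : Subgroup G) P.isPGroup' B A b hAc hBA hb hbN hgood.1,
        starA_map_le_of_stronglyClosed hD A b hgood.2⟩

end Cfsg.Agent.S3079
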