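import Cfsg.Statements.S0082
import Cfsg.Agent.S0075
import Cfsg.Agent.Lib.Helper2.Burnside
import Cfsg.Agent.Lib.Helper88.CoprimeAbelian

set_option autoImplicit false
open Cfsg
open scoped commutatorElement

namespace Cfsg.Agent.S0082


/-- In a finite cyclic group, a subgroup of order `n` is exactly the set of solutions of
`x ^ n = 1`. -/
theorem coe_eq_of_card_eq {C : Type*} [Group C] [Finite C] [IsCyclic C] (D : Subgroup C) (n : ℕ)
    (hD : Nat.card D = n) : (D : Set C) = {x | x ^ n = 1} := by
  classical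
  have : Fintype C := Fintype.ofFinite C
  have hn0 : 0 < n := hD ▸ Nat.card_pos
  apply Set.eq_of_subset_of_ncard_le
  · intro x hx
    show x ^ n = 1
    have h1 : (⟨x, hx⟩ : ↥D) ^ Nat.card ↥D = 1 := pow_card_eq_one'
    rw [hD] at h1
    exact congrArg Subtype.val h1
  · have h2 := IsCyclic.card_pow_eq_one_le (α := C) hn0
    have h3 : ({x : C | x ^ n = 1} : Set C).ncard = (Finset.univ.filter (fun a : C => a ^ n = 1)).card := by
      rw [← Set.ncard_coe_finset]
      congr 1
      ext x
      simp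
    rw [h3]
    refine h2.trans ?_
    rw [← hD]
    exact (Nat.card_coe_set_eq _).le
  · exact Set.toFinite _

/-- Two subgroups of a cyclic `p`-group that meet trivially: one of them is trivial. -/
theorem cyclic_pgroup_disjoint {P : Type*} [Group P] [Finite P] [IsCyclic P] {p : ℕ} [Fact p.Prime]
    (hP : IsPGroup p P) (F C : Subgroup P) (h : F ⊓ C = ⊥) : F = ⊥ ∨ C = ⊥ := by
  have hp : p.Prime := Fact.out
  by_contra hcon
  rw [not_or] at hcon
  obtain ⟨hF, hC⟩ := hcon
  have key : ∀ D : Subgroup P, D ≠ ⊥ → ∃ d ∈ D, orderOf d = p := by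
    intro D hD
    have hDp : IsPGroup p D := hP.to_subgroup D
    have hnt : Nontrivial D := (Subgroup.nontrivial_iff_ne_bot D).mpr hD
    have hdvd : p ∣ Nat.card D := by
      obtain ⟨k, hk⟩ := IsPGroup.iff_card.mp hDp
      have hk0 : k ≠ 0 := by
        rintro rfl
        rw [pow_zero] at hk
        have := Finite.one_lt_card (α := D)
        omega
      rw [hk]; exact dvd_pow_self p hk0
    obtain ⟨d, hd⟩ := exists_prime_orderOf_dvd_card' (G := D) p hdvd
    exact ⟨d, d.2, by rw [Subgroup.orderOf_coe]; exact hd⟩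
  obtain ⟨a, haF, ha⟩ := key F hF
  obtain ⟨b, hbC, hb⟩ := key C hC
  have hza : (Subgroup.zpowers a : Set P) = {x | x ^ p = 1} :=
    coe_eq_of_card_eq _ p (by rw [Nat.card_zpowers, ha])
  have hb1 : b ∈ (Subgroup.zpowers a : Set P) := by
    rw [hza]
    show b ^ p = 1
    rw [← hb]; exact pow_orderOf_eq_one b
  have hbF : b ∈ F := (Subgroup.zpowers_le.mpr haF) hb1
  have hbot : b ∈ F ⊓ C := Subgroup.mem_inf.mpr ⟨hbF, hbC⟩
  rw [h, Subgroup.mem_bot] at hbot
  rw [hbot, orderOf_one] at hb
  exact hp.one_lt.ne hb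

/-- With a cyclic Sylow p-subgroup, either there is a normal p-complement or the elements of order prime to p generate the whole group. -/
theorem result {G : Type*} [Group G] [Finite G] {p : ℕ} [Fact p.Prime] (P : Sylow p G) (hP : IsCyclic P) : Cfsg.HasNormalPComplement p G ∨ Cfsg.pResidual p G = ⊤ := by
  have hp : p.Prime := Fact.out
  have hcommP : IsMulCommutative (P : Subgroup G) := IsCyclic.isMulCommutative
  have hPC : (P : Subgroup G) ≤ Subgroup.centralizer ((P : Subgroup G) : Set G) := by
    intro x hx y hy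
    have := hcommP.is_comm.comm (⟨y, hy⟩ : (P : Subgroup G)) ⟨x, hx⟩
    exact congrArg Subtype.val this
  set A : Subgroup (MulAut (P : Subgroup G)) := (P : Subgroup G).normalizerMonoidHom.range with hA
  -- |A| is coprime to |P|
  have hcardA : Nat.card A = (Subgroup.centralizer ((P : Subgroup G) : Set G)).relIndex
      (Subgroup.normalizer ((P : Subgroup G) : Set G)) := by
    rw [Subgroup.relIndex, Subgroup.index, ← Subgroup.normalizerMonoidHom_ker]
    exact (Nat.card_congr
      (QuotientGroup.quotientKerEquivRange (P : Subgroup G).normalizerMonoidHom).toEquiv).symm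
  have hAdvd : Nat.card A ∣ (P : Subgroup G).index := by
    rw [hcardA]
    exact (Subgroup.relIndex_dvd_of_le_left _ hPC).trans
      (Subgroup.relIndex_dvd_index_of_le Subgroup.le_normalizer)
  have hcop : (Nat.card A).Coprime (Nat.card (P : Subgroup G)) := by
    obtain ⟨k, hk⟩ := IsPGroup.iff_card.mp P.isPGroup'
    rw [hk]
    apply Nat.Coprime.pow_right
    apply Nat.Coprime.coprime_dvd_left hAdvd
    rw [Nat.coprime_comm, hp.coprime_iff_not_dvd]
    exact P.not_dvd_index
  obtain ⟨hinf, hsup⟩ := Cfsg.Agent.Lib.Helper88.coprime_abelian_decomp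
    (fun x y : (P : Subgroup G) => hcommP.is_comm.comm x y) A hcop
  rcases cyclic_pgroup_disjoint P.isPGroup' _ _ hinf with hF | hC
  · right
    have hCtop : Cfsg.Agent.Lib.Helper88.commSub A = ⊤ := by rw [← hsup, hF, bot_sup_eq]
    have hmap : (Cfsg.Agent.Lib.Helper88.commSub A).map (P : Subgroup G).subtype ≤
        ⁅(P : Subgroup G), Subgroup.normalizer ((P : Subgroup G) : Set G)⁆ := by
      rw [Subgroup.map_le_iff_le_comap]
      unfold Cfsg.Agent.Lib.Helper88.commSub
      rw [Subgroup.closure_le]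
      rintro _ ⟨a, ⟨n, rfl⟩, x, rfl⟩
      rw [SetLike.mem_coe, Subgroup.mem_comap]
      have h1 : ((P : Subgroup G).subtype (x⁻¹ * ((P : Subgroup G).normalizerMonoidHom n) x)) =
          ⁅((x : G))⁻¹, (n : G)⁆ := by
        rw [commutatorElement_def]
        have h0 : (((P : Subgroup G).normalizerMonoidHom n) x : G) = (n : G) * x * (n : G)⁻¹ := rfl
        simp only [Subgroup.coe_subtype, Subgroup.coe_mul, Subgroup.coe_inv, h0, inv_inv]
        group
      rw [h1]
      exact Subgroup.commutator_mem_commutator (Subgroup.inv_mem _ x.2) n.2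
    have hPle : (P : Subgroup G) ≤ Cfsg.pResidual p G := by
      have h75 := Cfsg.Agent.S0075.result P hcommP
      have h75' : (P : Subgroup G) ⊓ Cfsg.pResidual p G =
          ⁅(P : Subgroup G), Subgroup.normalizer ((P : Subgroup G) : Set G)⁆ := h75
      intro x hx
      have hx1 : x ∈ (Cfsg.Agent.Lib.Helper88.commSub A).map (P : Subgroup G).subtype := by
        rw [hCtop]; exact ⟨⟨x, hx⟩, Subgroup.mem_top _, rfl⟩
      have hx2 := hmap hx1
      rw [← h75'] at hx2
      exact hx2.2
    have hsup2 : Cfsg.pResidual p G ⊔ (P : Subgroup G) = ⊤ :=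
      Cfsg.Agent.Lib.Helper34.pResidual_sup_eq_top p (P : Subgroup G) P.not_dvd_index
    rw [← hsup2]
    exact (sup_of_le_left hPle).symm
  · left
    apply Cfsg.Agent.Lib.Helper2.hasNormalPComplement_of_normalizer_le_centralizer P
    intro n hn x hx
    have hmem : (⟨x, hx⟩ : (P : Subgroup G))⁻¹ * ((P : Subgroup G).normalizerMonoidHom ⟨n, hn⟩) ⟨x, hx⟩ ∈
        Cfsg.Agent.Lib.Helper88.commSub A :=
      Subgroup.subset_closure ⟨_, ⟨⟨n, hn⟩, rfl⟩, ⟨x, hx⟩, rfl⟩
    rw [hC, Subgroup.mem_bot] at hmem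
    have h2 := congrArg Subtype.val hmem
    simp only [Subgroup.coe_mul, Subgroup.coe_inv, Subgroup.coe_one] at h2
    have h3 : n * x * n⁻¹ = x := by
      have : (((P : Subgroup G).normalizerMonoidHom ⟨n, hn⟩) ⟨x, hx⟩ : G) = n * x * n⁻¹ := rfl
      rw [this] at h2
      exact (inv_mul_eq_one.mp h2).symm
    calc x * n = (n * x * n⁻¹) * n := by rw [h3]
      _ = n * x := by group

end Cfsg.Agent.S0082
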