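import Cfsg.Statements.S4145
import Cfsg.Agent.S0082
import Cfsg.Agent.Lib.Helper34.NormalPComplement

set_option autoImplicit false
open Cfsg

namespace Cfsg.Agent.S4145

section lemmas

variable {G : Type*} [Group G]

/-- A normal subgroup of order prime to `p` and `p`-power index is a normal `p`-complement. -/
theorem hasNormalPComplement_of_normal_hall [Finite G] (p : ℕ) [Fact p.Prime] (K : Subgroup G)
    [K.Normal] (hK : (Nat.card K).Coprime p) (j : ℕ) (hj : K.index = p ^ j) :
    HasNormalPComplement p G := by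
  have hp : p.Prime := Fact.out
  obtain ⟨Q⟩ : Nonempty (Sylow p G) := inferInstance
  refine ⟨Q, K, inferInstance, ?_⟩
  have hcard : Nat.card K * p ^ j = Nat.card G := by rw [← hj]; exact K.card_mul_index
  have hQ : Nat.card (Q : Subgroup G) = p ^ j := by
    rw [Sylow.card_eq_multiplicity, ← hcard]
    congr 1
    rw [Nat.factorization_mul (Nat.card_pos.ne') (pow_pos hp.pos j).ne',
      Nat.Prime.factorization_pow hp]
    simp only [Finsupp.coe_add, Pi.add_apply, Finsupp.single_eq_same]
    rw [Nat.factorization_eq_zero_of_not_dvd, zero_add]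
    exact (Nat.Prime.coprime_iff_not_dvd hp).mp hK.symm
  apply Subgroup.isComplement'_of_coprime
  · rw [hQ]; exact hcard
  · rw [hQ]; exact Nat.Coprime.pow_right j hK

/-- An element of order prime to `p` lies in every normal subgroup of `p`-power index. -/
theorem mem_of_coprime_orderOf [Finite G] (p : ℕ) [Fact p.Prime] (N : Subgroup G) [N.Normal]
    (j : ℕ) (hj : N.index = p ^ j) (g : G) (hg : (orderOf g).Coprime p) : g ∈ N := by
  have h1 : g ^ N.index ∈ N := Subgroup.pow_index_mem N g
  rw [hj] at h1
  have hcop : (p ^ j).Coprime (orderOf g) := (Nat.Coprime.pow_right j hg).symm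
  obtain ⟨m, hm⟩ := exists_pow_eq_self_of_coprime hcop
  rw [← hm]
  exact N.pow_mem h1 m

theorem exists_normal_hall_le [Finite G] (p : ℕ) [Fact p.Prime]
    (P : Sylow p G) (hP : IsCyclic (P : Subgroup G)) (H : Subgroup G) [H.Normal]
    (j : ℕ) (hj : H.index = p ^ j) (hne : H ≠ ⊤) :
    ∃ K : Subgroup G, K.Normal ∧ (Nat.card K).Coprime p ∧ K ≤ H ∧
      ∃ a, Nat.card G = Nat.card K * p ^ a := by
  rcases Cfsg.Agent.S0082.result P hP with h | h
  · obtain ⟨P', N, hN, hc⟩ := h
    haveI := hN
    have hcop := Cfsg.Agent.Lib.Helper34.card_coprime_of_isComplement' P' N hc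
    refine ⟨N, hN, hcop, ?_, ?_⟩
    · intro x hx
      apply mem_of_coprime_orderOf p H j hj
      have : orderOf x ∣ Nat.card N := by
        have := orderOf_dvd_natCard (⟨x, hx⟩ : N)
        rwa [← Subgroup.orderOf_coe] at this
      exact Nat.Coprime.coprime_dvd_left this hcop
    · obtain ⟨a, ha⟩ := IsPGroup.iff_card.mp P'.isPGroup'
      exact ⟨a, by rw [← ha]; exact hc.card_mul_card.symm⟩
  · exfalso
    apply hne
    rw [eq_top_iff, ← h]
    unfold pResidual
    rw [Subgroup.closure_le]
    intro g hg
    exact mem_of_coprime_orderOf p H j hj g hg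

theorem part1 [Finite G] (p : ℕ) [Fact p.Prime]
    (P : Sylow p G) (hP : IsCyclic (P : Subgroup G)) (H : Subgroup G) [H.Normal]
    (h2 : p ∣ H.index) : HasNormalPComplement p H := by
  have hp : p.Prime := Fact.out
  set L : Subgroup G := (P : Subgroup G) ⊔ H with hL
  have hPL : (P : Subgroup G) ≤ L := le_sup_left
  have hHL : H ≤ L := le_sup_right
  -- Sylow of L
  let P₁ : Sylow p L := P.subtype hPL
  have hP₁ : IsCyclic (P₁ : Subgroup L) := by
    rw [Sylow.coe_subtype]
    haveI := hP
    exact isCyclic_of_surjective (Subgroup.subgroupOfEquivOfLe hPL).symm (MulEquiv.surjective _)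
  -- the normal subgroup H₁
  have hidx : (H.subgroupOf L).index = H.relIndex (P : Subgroup G) := by
    show H.relIndex L = _
    rw [hL, Subgroup.relIndex_sup_right]
  obtain ⟨j, hj⟩ : ∃ j, H.relIndex (P : Subgroup G) = p ^ j := by
    obtain ⟨n, hn⟩ := IsPGroup.iff_card.mp P.isPGroup'
    have : H.relIndex (P : Subgroup G) ∣ p ^ n := hn ▸ Subgroup.relIndex_dvd_card H P
    obtain ⟨j, -, hj⟩ := (Nat.dvd_prime_pow hp).mp this
    exact ⟨j, hj⟩
  have hne : H.subgroupOf L ≠ ⊤ := by
    intro htop
    rw [Subgroup.subgroupOf_eq_top] at htop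
    have hPH : (P : Subgroup G) ≤ H := hPL.trans htop
    exact P.not_dvd_index (h2.trans (Subgroup.index_dvd_of_le hPH))
  obtain ⟨K₁, hK₁n, hK₁cop, hK₁le, a, ha⟩ :=
    exists_normal_hall_le p P₁ hP₁ (H.subgroupOf L) j (hidx.trans hj) hne
  -- pull back to H
  let f : H →* L := Subgroup.inclusion hHL
  have hf : Function.Injective f := Subgroup.inclusion_injective hHL
  have hrange : f.range = H.subgroupOf L := Subgroup.inclusion_range hHL
  haveI : (K₁.comap f).Normal := hK₁n.comap f
  have hcardK : Nat.card (K₁.comap f) = Nat.card K₁ := by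
    rw [← Subgroup.card_map_of_injective hf,
      Subgroup.map_comap_eq_self (by rw [hrange]; exact hK₁le)]
  have hdvd : Nat.card H ∣ Nat.card L := Subgroup.card_dvd_of_le hHL
  have hidxK : (K₁.comap f).index ∣ p ^ a := by
    have h3 : (K₁.comap f).index * Nat.card K₁ = Nat.card H := by
      rw [← hcardK]; exact Subgroup.index_mul_card _
    rw [ha, ← h3, mul_comm] at hdvd
    exact Nat.dvd_of_mul_dvd_mul_left Nat.card_pos hdvd
  obtain ⟨i, -, hi⟩ := (Nat.dvd_prime_pow hp).mp hidxK
  exact hasNormalPComplement_of_normal_hall p (K₁.comap f) (hcardK ▸ hK₁cop) i hi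

/-- `p`-solvability lifts from `G ⧸ T` to `G` when `T` is a normal `p`-group or `p'`-group. -/
theorem isPSolvable_of_quotient (p : ℕ) (T : Subgroup G) [T.Normal]
    (hT : (∃ m : ℕ, Nat.card T = p ^ m) ∨ (Nat.card T).Coprime p)
    (h : IsPSolvable p (G ⧸ T)) : IsPSolvable p G := by
  obtain ⟨n, H, h0, hlast, hmono, hnorm, hstep⟩ := h
  let f := QuotientGroup.mk' T
  have hf : Function.Surjective f := QuotientGroup.mk'_surjective T
  refine ⟨n + 1, Fin.cons ⊥ (fun i => (H i).comap f), ?_, ?_, ?_, ?_, ?_⟩
  · rfl
  · have : Fin.last (n + 1) = Fin.succ (Fin.last n) := rfl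
    rw [this, Fin.cons_succ, hlast, Subgroup.comap_top]
  · intro i j hij
    induction i using Fin.cases with
    | zero => rw [Fin.cons_zero]; exact bot_le
    | succ i =>
      induction j using Fin.cases with
      | zero => exact absurd hij (by simp [Fin.succ_ne_zero])
      | succ j =>
        rw [Fin.cons_succ, Fin.cons_succ]
        exact Subgroup.comap_mono (hmono (Fin.succ_le_succ_iff.mp hij))
  · intro i
    induction i using Fin.cases with
    | zero => rw [Fin.cons_zero]; infer_instance
    | succ i => rw [Fin.cons_succ]; exact (hnorm i).comap f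
  · intro i
    induction i using Fin.cases with
    | zero =>
      have e1 : (Fin.castSucc (0 : Fin (n + 1))) = 0 := rfl
      have e2 : (Fin.succ (0 : Fin (n + 1))) = Fin.succ 0 := rfl
      rw [e1, Fin.cons_zero, Fin.cons_succ, Subgroup.relIndex_bot_left, h0]
      have hker : (⊥ : Subgroup (G ⧸ T)).comap f = T := by
        ext x
        simp [f]
      rw [hker]
      exact hT
    | succ i =>
      have e1 : (Fin.castSucc (Fin.succ i)) = Fin.succ (Fin.castSucc i) := rfl
      rw [e1, Fin.cons_succ, Fin.cons_succ, Subgroup.relIndex_comap,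
        Subgroup.map_comap_eq_self_of_surjective hf]
      exact hstep i


theorem isPSolvable_of_subsingleton (p : ℕ) [Subsingleton G] : IsPSolvable p G :=
  ⟨0, fun _ => ⊥, rfl, eq_top_iff.mpr (fun x _ => by rw [Subsingleton.elim x 1]; exact one_mem _),
    monotone_const, fun _ => inferInstance, fun i => i.elim0⟩

theorem isPSolvable_of_coprime_card (p : ℕ) (h : (Nat.card G).Coprime p) : IsPSolvable p G := by
  apply isPSolvable_of_quotient p ⊤ (Or.inr (by rwa [Subgroup.card_top]))
  haveI : Subsingleton (G ⧸ (⊤ : Subgroup G)) := QuotientGroup.subsingleton_quotient_top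
  exact isPSolvable_of_subsingleton p

/-- If `G` has no nontrivial normal `p'`-subgroup, a normal subgroup with a normal `p`-complement is
a `p`-group. -/
theorem isPGroup_of_normal [Finite G] (p : ℕ) [Fact p.Prime]
    (hB : ∀ T : Subgroup G, T.Normal → (Nat.card T).Coprime p → T = ⊥)
    (N : Subgroup G) [hN : N.Normal] (h : HasNormalPComplement p N) : IsPGroup p N := by
  obtain ⟨Q, M, hMn, hM⟩ := h
  haveI := hMn
  have hcop : (Nat.card M).Coprime p :=
    Cfsg.Agent.Lib.Helper34.card_coprime_of_isComplement' Q M hM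
  have hnorm : (M.map N.subtype).Normal := by
    constructor
    intro n hn g
    obtain ⟨m, hm, rfl⟩ := hn
    have hmem : g * (m : G) * g⁻¹ ∈ N := hN.conj_mem _ m.2 g
    refine ⟨⟨g * (m : G) * g⁻¹, hmem⟩, ?_, rfl⟩
    apply Cfsg.Agent.Lib.Helper34.mem_of_coprime_orderOf_of_isComplement' Q M hM
    have h1 : orderOf (⟨g * (m : G) * g⁻¹, hmem⟩ : N) = orderOf m := by
      rw [← Subgroup.orderOf_coe, ← Subgroup.orderOf_coe m]
      exact (MulAut.conj g).orderOf_eq (m : G)
    rw [h1]
    have h2 : orderOf m ∣ Nat.card M := by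
      have := orderOf_dvd_natCard (⟨m, hm⟩ : M)
      rwa [← Subgroup.orderOf_coe] at this
    exact Nat.Coprime.coprime_dvd_left h2 hcop
  have hcard : Nat.card (M.map N.subtype) = Nat.card M :=
    Subgroup.card_map_of_injective N.subtype_injective
  have hbot : M.map N.subtype = ⊥ := hB _ hnorm (hcard ▸ hcop)
  have hMbot : M = ⊥ := (Subgroup.map_eq_bot_iff_of_injective M N.subtype_injective).mp hbot
  rw [hMbot, Subgroup.isComplement'_bot_left] at hM
  intro g
  have hg : g ∈ (Q : Subgroup N) := by rw [hM]; trivial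
  obtain ⟨k, hk⟩ := Q.isPGroup' ⟨g, hg⟩
  exact ⟨k, congrArg Subtype.val hk⟩

/-- A finite group with a cyclic Sylow `p`-subgroup and a central element of order `p` has a normal
`p`-complement. -/
theorem hasNormalPComplement_of_central [Finite G] (p : ℕ) [Fact p.Prime]
    (P : Sylow p G) (hP : IsCyclic (P : Subgroup G)) (z : G) (hz : z ∈ Subgroup.center G)
    (hzo : orderOf z = p) : HasNormalPComplement p G := by
  rcases Cfsg.Agent.S0082.result P hP with h | h
  · exact h
  · exfalso
    letI : CommGroup (P : Subgroup G) := @IsCyclic.commGroup _ _ hP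
    let V : G →* (P : Subgroup G) := MonoidHom.transfer (MonoidHom.id (P : Subgroup G))
    have hker : pResidual p G ≤ V.ker := by
      unfold pResidual
      rw [Subgroup.closure_le]
      intro g hg
      rw [SetLike.mem_coe, MonoidHom.mem_ker]
      have h1 : orderOf (V g) ∣ orderOf g := orderOf_map_dvd V g
      obtain ⟨n, hn⟩ := IsPGroup.iff_card.mp P.isPGroup'
      have h2 : orderOf (V g) ∣ p ^ n := hn ▸ orderOf_dvd_natCard (V g)
      have h3 : orderOf (V g) = 1 :=
        Nat.eq_one_of_dvd_coprimes (Nat.Coprime.pow_right n hg) h1 h2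
      exact orderOf_eq_one_iff.mp h3
    have hVz : V z = 1 := by
      have : z ∈ V.ker := hker (h ▸ Subgroup.mem_top z)
      exact this
    have key : ∀ (k : ℕ) (g₀ : G), g₀⁻¹ * z ^ k * g₀ ∈ (P : Subgroup G) →
        g₀⁻¹ * z ^ k * g₀ = z ^ k := by
      intro k g₀ _
      have hc : z ^ k ∈ Subgroup.center G := Subgroup.pow_mem _ hz k
      rw [mul_assoc, ← Subgroup.mem_center_iff.mp hc g₀, inv_mul_cancel_left]
    have h4 := MonoidHom.transfer_eq_pow (MonoidHom.id (P : Subgroup G)) z key
    have h5 : z ^ (P : Subgroup G).index = 1 := by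
      have := congrArg Subtype.val (h4.symm.trans hVz)
      simpa using this
    have h6 : p ∣ (P : Subgroup G).index := by
      have := orderOf_dvd_of_pow_eq_one h5
      rwa [hzo] at this
    exact P.not_dvd_index h6


universe u

theorem part2 (p : ℕ) [Fact p.Prime] : ∀ (n : ℕ) (G : Type u) [Group G] [Finite G],
    Nat.card G = n → ∀ (P : Sylow p G), IsCyclic (P : Subgroup G) → ∀ (H : Subgroup G) [H.Normal],
    p ∣ Nat.card H → p ∣ H.index → IsPSolvable p G := by
  intro n
  induction n using Nat.strong_induction_on with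
  | _ n ih =>
  intro G _ _ hn P hP H _ h1 h2
  have hp : p.Prime := Fact.out
  by_cases hA : ∃ T : Subgroup G, T.Normal ∧ T ≠ ⊥ ∧ (Nat.card T).Coprime p
  · obtain ⟨T, hTn, hTbot, hTcop⟩ := hA
    haveI := hTn
    let f := QuotientGroup.mk' T
    have hf : Function.Surjective f := QuotientGroup.mk'_surjective T
    have hlt : Nat.card (G ⧸ T) < n := by
      rw [← hn, Subgroup.card_eq_card_quotient_mul_card_subgroup T]
      have h1T : 1 < Nat.card T := (Subgroup.one_lt_card_iff_ne_bot T).mpr hTbot
      have hpos : 0 < Nat.card (G ⧸ T) := Nat.card_pos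
      nlinarith
    apply isPSolvable_of_quotient p T (Or.inr hTcop)
    haveI : (H.map f).Normal := Subgroup.Normal.map inferInstance f hf
    refine ih _ hlt (G ⧸ T) rfl (P.mapSurjective hf) ?_ (H.map f) ?_ ?_
    · -- cyclic
      haveI := hP
      show IsCyclic ((P : Subgroup G).map f)
      exact isCyclic_of_surjective (f.subgroupMap (P : Subgroup G)) (f.subgroupMap_surjective _)
    · -- p ∣ card (H.map f)
      obtain ⟨h, hh⟩ := exists_prime_orderOf_dvd_card' (G := H) p h1
      have hfh : f (h : G) ∈ H.map f := Subgroup.mem_map_of_mem f h.2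
      have ho : orderOf (f (h : G)) = p := by
        have hdvd : orderOf (f (h : G)) ∣ p := by
          have := orderOf_map_dvd f (h : G)
          rwa [Subgroup.orderOf_coe, hh] at this
        rcases (Nat.dvd_prime hp).mp hdvd with h0 | h0
        · exfalso
          rw [orderOf_eq_one_iff] at h0
          have hT : (h : G) ∈ T := (QuotientGroup.eq_one_iff _).mp h0
          have : orderOf (h : G) ∣ Nat.card T := by
            have := orderOf_dvd_natCard (⟨(h : G), hT⟩ : T)
            rwa [← Subgroup.orderOf_coe] at this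
          rw [Subgroup.orderOf_coe, hh] at this
          exact (Nat.Prime.coprime_iff_not_dvd hp).mp hTcop.symm this
        · exact h0
      have := orderOf_dvd_natCard (⟨f (h : G), hfh⟩ : H.map f)
      rwa [← Subgroup.orderOf_coe, ho] at this
    · -- p ∣ (H.map f).index
      rw [Subgroup.index_map, f.range_eq_top_of_surjective hf, Subgroup.index_top, mul_one,
        QuotientGroup.ker_mk']
      have h3 : H.relIndex (H ⊔ T) * (H ⊔ T).index = H.index :=
        Subgroup.relIndex_mul_index le_sup_left
      have h4 : H.relIndex (H ⊔ T) ∣ Nat.card T := by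
        rw [Subgroup.relIndex_sup_left]; exact Subgroup.relIndex_dvd_card H T
      have h5 : ¬ p ∣ H.relIndex (H ⊔ T) := fun hd =>
        (Nat.Prime.coprime_iff_not_dvd hp).mp hTcop.symm (hd.trans h4)
      rw [← h3] at h2
      exact (hp.dvd_mul.mp h2).resolve_left h5
  · -- Case B
    push Not at hA
    have hB : ∀ T : Subgroup G, T.Normal → (Nat.card T).Coprime p → T = ⊥ := by
      intro T hT hc
      by_contra hne
      exact hA T hT hne hc
    have hHp : IsPGroup p H := isPGroup_of_normal p hB H (part1 p P hP H h2)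
    have hHP : H ≤ (P : Subgroup G) := hHp.le_sylow_of_normal P
    set C : Subgroup G := Subgroup.centralizer (H : Set G) with hC
    haveI := hP
    have hcommP : IsMulCommutative (P : Subgroup G) := IsCyclic.isMulCommutative
    have hPC : (P : Subgroup G) ≤ C := by
      intro x hx
      rw [hC, Subgroup.mem_centralizer_iff]
      intro h hh
      have := hcommP.is_comm.comm (⟨h, hHP hh⟩ : (P : Subgroup G)) ⟨x, hx⟩
      exact congrArg Subtype.val this
    obtain ⟨z, hz⟩ := exists_prime_orderOf_dvd_card' (G := H) p h1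
    have hzC : (z : G) ∈ C := hPC (hHP z.2)
    have hCcompl : HasNormalPComplement p C := by
      apply hasNormalPComplement_of_central p (P.subtype hPC) ?_ (⟨(z : G), hzC⟩ : C) ?_ ?_
      · rw [Sylow.coe_subtype]
        exact isCyclic_of_surjective (Subgroup.subgroupOfEquivOfLe hPC).symm
          (MulEquiv.surjective _)
      · rw [Subgroup.mem_center_iff]
        intro g
        apply Subtype.ext
        exact (g.2 z z.2).symm
      · rw [← Subgroup.orderOf_coe]
        show orderOf (z : G) = p
        rw [Subgroup.orderOf_coe]; exact hz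
    have hCp : IsPGroup p C := isPGroup_of_normal p hB C hCcompl
    obtain ⟨m, hm⟩ := IsPGroup.iff_card.mp hCp
    apply isPSolvable_of_quotient p C (Or.inl ⟨m, hm⟩)
    apply isPSolvable_of_coprime_card
    rw [← Subgroup.index_eq_card]
    have : C.index ∣ (P : Subgroup G).index := Subgroup.index_dvd_of_le hPC
    exact Nat.Coprime.coprime_dvd_left this
      ((Nat.Prime.coprime_iff_not_dvd hp).mpr P.not_dvd_index).symm

end lemmas

/-- Let G be a finite group with a cyclic Sylow p-subgroup and H a normal subgroup such that p divides both the order of H and the index of H. Then H has a normal p-complement and G is p-solvable. -/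
theorem result {G : Type*} [Group G] [Finite G] (p : ℕ) [Fact p.Prime]
    (P : Sylow p G) (hP : IsCyclic (P : Subgroup G)) (H : Subgroup G) [H.Normal] (h1 : p ∣ Nat.card H) (h2 : p ∣ H.index) :
    Cfsg.HasNormalPComplement p H ∧ Cfsg.IsPSolvable p G := by
  exact ⟨part1 p P hP H h2, part2 p _ G rfl P hP H h1 h2⟩

end Cfsg.Agent.S4145
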