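import Cfsg.Statements.S3734
import Cfsg.Agent.S0058
import Cfsg.Agent.S0026
-- import your own Cfsg.Agent.* helpers here

set_option autoImplicit false
open Cfsg

namespace Cfsg.Agent.S3734

open Pointwise
open scoped IsMulCommutative
open scoped commutatorElement

section rel
variable {X : Type*} [Group X]

/-- the subgroup of `Q` generated by the centralizers in `Q` of the elements of `A` outside
`A₀`. -/
def genR (A A₀ Q : Subgroup X) : Subgroup X :=
  ⨆ a ∈ {a : X | a ∈ A ∧ a ∉ A₀}, Q ⊓ Subgroup.centralizer {a}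

theorem genR_le (A A₀ Q : Subgroup X) : genR A A₀ Q ≤ Q :=
  iSup₂_le fun _ _ => inf_le_left

theorem genR_mono (A A₀ : Subgroup X) {Q K : Subgroup X} (h : Q ≤ K) :
    genR A A₀ Q ≤ genR A A₀ K :=
  iSup₂_mono fun _ _ => inf_le_inf_right _ h

theorem le_genR (A A₀ Q : Subgroup X) {a : X} (ha : a ∈ A) (ha₀ : a ∉ A₀) :
    Q ⊓ Subgroup.centralizer {a} ≤ genR A A₀ Q :=
  le_iSup₂ (f := fun a (_ : a ∈ {a : X | a ∈ A ∧ a ∉ A₀}) =>
      Q ⊓ Subgroup.centralizer {a}) a ⟨ha, ha₀⟩

theorem conj_mem_inf_centralizer (A Q : Subgroup X) [IsMulCommutative A]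
    (hAQ : A ≤ Subgroup.normalizer (Q : Set X)) {a b : X} (ha : a ∈ A) (hb : b ∈ A) {v : X}
    (hv : v ∈ Q ⊓ Subgroup.centralizer {a}) : b * v * b⁻¹ ∈ Q ⊓ Subgroup.centralizer {a} := by
  refine Subgroup.mem_inf.mpr ⟨(Subgroup.mem_normalizer_iff.mp (hAQ hb) v).mp hv.1, ?_⟩
  rw [Subgroup.mem_centralizer_singleton_iff]
  have h1 : v * a = a * v := Subgroup.mem_centralizer_singleton_iff.mp hv.2
  have h2 : a * b = b * a := by
    have := mul_comm (⟨a, ha⟩ : A) ⟨b, hb⟩
    exact congrArg Subtype.val this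
  calc b * v * b⁻¹ * a = b * v * (b⁻¹ * (a * b) * b⁻¹) := by group
    _ = b * (v * a) * b⁻¹ := by rw [h2]; group
    _ = (b * a) * v * b⁻¹ := by rw [h1]; group
    _ = a * (b * v * b⁻¹) := by rw [← h2]; group

theorem conj_mem_genR (A A₀ Q : Subgroup X) [IsMulCommutative A]
    (hAQ : A ≤ Subgroup.normalizer (Q : Set X)) {b : X} (hb : b ∈ A) {w : X}
    (hw : w ∈ genR A A₀ Q) : b * w * b⁻¹ ∈ genR A A₀ Q := by
  have key : genR A A₀ Q ≤ (genR A A₀ Q).comap (MulAut.conj b).toMonoidHom := by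
    apply iSup₂_le
    intro a ha v hv
    rw [Subgroup.mem_comap]
    have : (MulAut.conj b).toMonoidHom v = b * v * b⁻¹ := rfl
    rw [this]
    exact le_genR A A₀ Q ha.1 ha.2 (conj_mem_inf_centralizer A Q hAQ ha.1 hb hv)
  exact key hw

variable [Finite X]

/-- A fixed point of `e` on the abelianization of `Q` lifts to a fixed point in `Q`. -/
theorem exists_fixed_lift (A Q : Subgroup X) (hAQ : A ≤ Subgroup.normalizer (Q : Set X))
    (hcop : (Nat.card A).Coprime (Nat.card Q)) (e : A) (w : Q)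
    (hfixw : Cfsg.Agent.S0058.phi A Q hAQ e (Abelianization.of w) = Abelianization.of w) :
    ∃ c : Q, (c : X) ∈ Subgroup.centralizer {(e : X)} ∧
      Abelianization.of c = Abelianization.of w := by
  have hpow : ∀ n : ℕ, Cfsg.Agent.S0058.phi A Q hAQ (e ^ n) (Abelianization.of w) =
      Abelianization.of w := by
    intro n
    induction n with
    | zero => simp
    | succ n ih =>
      rw [pow_succ, map_mul]
      show Cfsg.Agent.S0058.phi A Q hAQ (e ^ n)
        (Cfsg.Agent.S0058.phi A Q hAQ e (Abelianization.of w)) = _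
      rw [hfixw, ih]
  have hcomm_mem : ∀ a ∈ Subgroup.zpowers (e : X),
      a * (w : X) * a⁻¹ * (w : X)⁻¹ ∈ (⁅Q, Q⁆ : Subgroup X) := by
    intro a ha
    rw [← mem_powers_iff_mem_zpowers] at ha
    obtain ⟨n, rfl⟩ := ha
    have h1 := hpow n
    rw [Cfsg.Agent.S0058.phi_of] at h1
    have h2 : (Cfsg.Agent.S0055.conjV A Q hAQ (e ^ n) w) * w⁻¹ ∈ commutator Q := by
      rw [← Abelianization.ker_of, MonoidHom.mem_ker, map_mul, h1, map_inv, mul_inv_cancel]
    rw [← Subgroup.map_subtype_commutator]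
    refine ⟨_, h2, ?_⟩
    simp
  obtain ⟨c, hc, hcw⟩ := Cfsg.Agent.S0022.result (Subgroup.zpowers (e : X)) Q
    ((Subgroup.zpowers_le).mpr (hAQ e.2))
    (Nat.Coprime.coprime_dvd_left
      (Subgroup.card_dvd_of_le ((Subgroup.zpowers_le).mpr e.2)) hcop)
    (Or.inl (Group.isSolvable_of_comm (fun a b => mul_comm a b)))
    ⁅Q, Q⁆ (Subgroup.commutator_le_self Q)
    (le_trans (le_inf Subgroup.le_normalizer Subgroup.le_normalizer)
      (Cfsg.Agent.S0058.le_normalizer_commutator' Q Q))
    (le_trans (le_inf ((Subgroup.zpowers_le).mpr (hAQ e.2)) ((Subgroup.zpowers_le).mpr (hAQ e.2)))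
      (Cfsg.Agent.S0058.le_normalizer_commutator' Q Q))
    (w : X) w.2 hcomm_mem
  have hcQ : c ∈ Q := hc.1
  refine ⟨⟨c, hcQ⟩, ?_, ?_⟩
  · rw [Subgroup.mem_centralizer_singleton_iff]
    exact ((Subgroup.mem_centralizer_iff.mp hc.2) (e : X) (Subgroup.mem_zpowers _)).symm
  · have h3 : w⁻¹ * ⟨c, hcQ⟩ ∈ commutator Q := by
      rw [← Subgroup.map_subtype_commutator] at hcw
      obtain ⟨z, hz, hzeq⟩ := hcw
      have : z = w⁻¹ * ⟨c, hcQ⟩ := Subtype.ext (by simpa using hzeq)
      rwa [← this]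
    rw [← Abelianization.ker_of, MonoidHom.mem_ker, map_mul, map_inv] at h3
    exact (inv_mul_eq_one.mp h3).symm

theorem pgroup_rel (A A₀ Q : Subgroup X) [IsMulCommutative A]
    (hA₀Q : A₀ ≤ Subgroup.centralizer (Q : Set X))
    (hnc : ¬ IsCyclic (A ⧸ A₀.subgroupOf A))
    (hAQ : A ≤ Subgroup.normalizer (Q : Set X)) (hcop : (Nat.card A).Coprime (Nat.card Q))
    {q : ℕ} [Fact q.Prime] (hQ : IsPGroup q Q) : Q ≤ genR A A₀ Q := by
  -- the quotient group acting
  have hker : ∀ a ∈ A₀.subgroupOf A, Cfsg.Agent.S0058.phi A Q hAQ a = 1 := by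
    intro a ha
    apply Abelianization.hom_ext
    ext v
    show Cfsg.Agent.S0058.phi A Q hAQ a (Abelianization.of v) = Abelianization.of v
    rw [Cfsg.Agent.S0058.phi_of]
    congr 1
    ext
    rw [Cfsg.Agent.S0055.conjV_coe]
    have := Subgroup.mem_centralizer_iff.mp (hA₀Q (Subgroup.mem_subgroupOf.mp ha)) v v.2
    rw [← this]
    simp
  set E := A ⧸ A₀.subgroupOf A with hE
  set φ : E →* Monoid.End (Abelianization Q) :=
    QuotientGroup.lift (A₀.subgroupOf A) (Cfsg.Agent.S0058.phi A Q hAQ) hker with hφ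
  have hφmk : ∀ a : A, φ (QuotientGroup.mk a) = Cfsg.Agent.S0058.phi A Q hAQ a := fun a => rfl
  obtain ⟨y, hy⟩ := Monoid.exists_orderOf_eq_exponent (G := E) Monoid.ExponentExists.of_finite
  set r := Monoid.exponent E with hr
  have hr0 : 0 < r := Monoid.ExponentExists.of_finite.exponent_pos
  have hrE : r ∣ Nat.card E := Group.exponent_dvd_nat_card
  have hrA : r ∣ Nat.card A := hrE.trans (Subgroup.card_quotient_dvd_card _)
  have hex : ∃ x : E, x ∉ Subgroup.zpowers y := by
    by_contra h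
    push Not at h
    exact hnc ⟨y, h⟩
  obtain ⟨x, hxy⟩ := hex
  have hx : x ^ r = 1 := Monoid.pow_exponent_eq_one x
  set S : Subgroup (Abelianization Q) :=
    ((genR A A₀ Q).subgroupOf Q).map Abelianization.of with hSdef
  have hofsurj : Function.Surjective (Abelianization.of : Q →* Abelianization Q) :=
    QuotientGroup.mk_surjective
  have hcardW : Nat.card (Abelianization Q) ∣ Nat.card Q :=
    Subgroup.card_dvd_of_surjective _ hofsurj
  have hrW : r.Coprime (Nat.card (Abelianization Q)) :=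
    Nat.Coprime.coprime_dvd_left hrA (Nat.Coprime.coprime_dvd_right hcardW hcop)
  have hStop : S = ⊤ := by
    apply Cfsg.Agent.S0058.abstract_gen φ x y r hr0 hrW hx hy hxy S
    · -- invariance
      rintro e w ⟨v, hv, rfl⟩
      obtain ⟨a, rfl⟩ := QuotientGroup.mk_surjective e
      rw [hφmk, Cfsg.Agent.S0058.phi_of]
      refine ⟨_, ?_, rfl⟩
      rw [SetLike.mem_coe, Subgroup.mem_subgroupOf] at hv
      rw [SetLike.mem_coe, Subgroup.mem_subgroupOf]
      exact conj_mem_genR A A₀ Q hAQ a.2 hv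
    · -- fixed points lift
      intro e he wbar hfixw
      obtain ⟨a, rfl⟩ := QuotientGroup.mk_surjective e
      obtain ⟨w, rfl⟩ := hofsurj wbar
      rw [hφmk] at hfixw
      have ha₀ : (a : X) ∉ A₀ := by
        intro h
        apply he
        rw [QuotientGroup.eq_one_iff]
        exact Subgroup.mem_subgroupOf.mpr h
      obtain ⟨c, hc, hcw⟩ := exists_fixed_lift A Q hAQ hcop a w hfixw
      refine ⟨c, ?_, hcw⟩
      rw [SetLike.mem_coe, Subgroup.mem_subgroupOf]
      exact le_genR A A₀ Q a.2 ha₀ (Subgroup.mem_inf.mpr ⟨c.2, hc⟩)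
  -- conclude
  have hsup : (genR A A₀ Q).subgroupOf Q ⊔ commutator Q = ⊤ := by
    rw [eq_top_iff]
    intro v _
    have hv : Abelianization.of v ∈ S := by rw [hStop]; trivial
    obtain ⟨m, hm, hmv⟩ := hv
    have h4 : m⁻¹ * v ∈ commutator Q := by
      rw [← Abelianization.ker_of, MonoidHom.mem_ker, map_mul, map_inv, hmv, inv_mul_cancel]
    have : v = m * (m⁻¹ * v) := by group
    rw [this]
    exact Subgroup.mul_mem _ (Subgroup.mem_sup_left hm) (Subgroup.mem_sup_right h4)
  have htop := Cfsg.Agent.S0058.eq_top_of_sup_commutator_eq_top hQ _ hsup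
  intro v hv
  have : (⟨v, hv⟩ : Q) ∈ (genR A A₀ Q).subgroupOf Q := by rw [htop]; trivial
  exact Subgroup.mem_subgroupOf.mp this

/-- relative version of generation by centralizers. -/
theorem gen_rel (A A₀ K : Subgroup X) [IsMulCommutative A]
    (hA₀K : A₀ ≤ Subgroup.centralizer (K : Set X))
    (hnc : ¬ IsCyclic (A ⧸ A₀.subgroupOf A))
    (hAK : A ≤ Subgroup.normalizer (K : Set X)) (hcop : (Nat.card A).Coprime (Nat.card K)) :
    K ≤ genR A A₀ K := by
  have hsolvA : Group.IsSolvable A := Group.isSolvable_of_comm (fun a b => mul_comm a b)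
  have hle : genR A A₀ K ≤ K := genR_le A A₀ K
  have hK0 : Nat.card K ≠ 0 := Nat.card_pos.ne'
  have hM0 : Nat.card (genR A A₀ K) ≠ 0 := Nat.card_pos.ne'
  have hdvd : Nat.card K ∣ Nat.card (genR A A₀ K) := by
    rw [← Nat.factorization_prime_le_iff_dvd hK0 hM0]
    intro q hq
    have : Fact q.Prime := ⟨hq⟩
    rw [← hq.pow_dvd_iff_le_factorization hM0]
    obtain ⟨P, hP⟩ := Cfsg.Agent.S0023.result A K hAK hcop (Or.inl hsolvA) q
    set Q := (P : Subgroup K).map K.subtype with hQdef
    have hQK : Q ≤ K := Subgroup.map_subtype_le _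
    have hQcard : Nat.card Q = q ^ (Nat.card K).factorization q :=
      Cfsg.Agent.Lib.Helper54.card_map_sylow K P
    have hQp : IsPGroup q Q := P.isPGroup'.map K.subtype
    have hcopQ : (Nat.card A).Coprime (Nat.card Q) :=
      Nat.Coprime.coprime_dvd_right (Subgroup.card_dvd_of_le hQK) hcop
    have h1 : Q ≤ genR A A₀ Q :=
      pgroup_rel A A₀ Q (hA₀K.trans (Subgroup.centralizer_le hQK)) hnc hP hcopQ hQp
    have h2 : Q ≤ genR A A₀ K := h1.trans (genR_mono A A₀ hQK)
    rw [← hQcard]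
    exact Subgroup.card_dvd_of_le h2
  intro k hk
  have hcard : Nat.card ((genR A A₀ K).subgroupOf K) = Nat.card K := by
    rw [Nat.card_congr (Subgroup.subgroupOfEquivOfLe hle).toEquiv]
    exact Nat.dvd_antisymm (Subgroup.card_dvd_of_le hle) hdvd
  have htop : (genR A A₀ K).subgroupOf K = ⊤ := Subgroup.eq_top_of_card_eq _ hcard
  have : (⟨k, hk⟩ : K) ∈ (genR A A₀ K).subgroupOf K := by rw [htop]; trivial
  exact Subgroup.mem_subgroupOf.mp this

end rel

section main
variable {X : Type*} [Group X]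

/-- the subgroup of `G` generated by the centralizers of the subgroups `B` of `A` with cyclic
quotient. -/
def genB (A G : Subgroup X) : Subgroup X :=
  ⨆ B ∈ {B : Subgroup X | B ≤ A ∧ ∃ a ∈ A, B ⊔ Subgroup.zpowers a = A},
    G ⊓ Subgroup.centralizer (B : Set X)

theorem genB_mono (A : Subgroup X) {G K : Subgroup X} (h : G ≤ K) : genB A G ≤ genB A K :=
  iSup₂_mono fun _ _ => inf_le_inf_right _ h

theorem le_genB (A G : Subgroup X) {B : Subgroup X} (hBA : B ≤ A) {a : X} (ha : a ∈ A)
    (hB : B ⊔ Subgroup.zpowers a = A) : G ⊓ Subgroup.centralizer (B : Set X) ≤ genB A G :=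
  le_iSup₂ (f := fun B (_ : B ∈ {B : Subgroup X | B ≤ A ∧ ∃ a ∈ A, B ⊔ Subgroup.zpowers a = A}) =>
      G ⊓ Subgroup.centralizer (B : Set X)) B ⟨hBA, a, ha, hB⟩

/-- `A` abelian normalizes the centralizer of any of its subsets. -/
theorem le_normalizer_centralizer (A : Subgroup X) [IsMulCommutative A] {T : Set X}
    (hT : T ⊆ A) : A ≤ Subgroup.normalizer ((Subgroup.centralizer T : Subgroup X) : Set X) := by
  refine le_trans ?_ Subgroup.le_normalizer
  intro b hb
  rw [Subgroup.mem_centralizer_iff]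
  intro t ht
  have := mul_comm (⟨t, hT ht⟩ : A) ⟨b, hb⟩
  exact congrArg Subtype.val this

variable [Finite X]

theorem part1_aux (A : Subgroup X) [IsMulCommutative A] : ∀ n : ℕ, ∀ G : Subgroup X,
    Nat.card G = n → A ≤ Subgroup.normalizer (G : Set X) → (Nat.card A).Coprime (Nat.card G) →
    G ≤ genB A G := by
  intro n
  induction n using Nat.strong_induction_on with
  | _ n ih =>
    intro G hn hAG hcop
    set A₀ := A ⊓ Subgroup.centralizer (G : Set X) with hA₀
    by_cases hcyc : IsCyclic (A ⧸ A₀.subgroupOf A)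
    · obtain ⟨g, hg⟩ := hcyc.exists_generator
      obtain ⟨a, rfl⟩ := QuotientGroup.mk_surjective g
      have hsup : A₀ ⊔ Subgroup.zpowers (a : X) = A := by
        apply le_antisymm (sup_le inf_le_left ((Subgroup.zpowers_le).mpr a.2))
        intro b hb
        obtain ⟨k, hk⟩ := Subgroup.mem_zpowers_iff.mp (hg (QuotientGroup.mk ⟨b, hb⟩))
        have h1 : ((a ^ k : A) : A ⧸ A₀.subgroupOf A) = ((⟨b, hb⟩ : A) : A ⧸ A₀.subgroupOf A) := by
          rw [← hk]; rfl
        rw [QuotientGroup.eq, Subgroup.mem_subgroupOf] at h1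
        have h2 : b = ((a : X) ^ k) * (((a : X) ^ k)⁻¹ * b) := by group
        rw [h2]
        refine Subgroup.mul_mem _ (Subgroup.mem_sup_right
          (Subgroup.zpow_mem _ (Subgroup.mem_zpowers _) k)) (Subgroup.mem_sup_left ?_)
        have h3 : (((a ^ k)⁻¹ * ⟨b, hb⟩ : A) : X) = ((a : X) ^ k)⁻¹ * b := by simp
        rw [← h3]
        exact h1
      refine le_trans ?_ (le_genB A G inf_le_left a.2 hsup)
      refine le_inf le_rfl ?_
      intro x hx
      rw [Subgroup.mem_centralizer_iff]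
      intro b hb
      exact ((Subgroup.mem_centralizer_iff.mp hb.2) x hx).symm
    · have h1 := gen_rel A A₀ G inf_le_right hcyc hAG hcop
      refine h1.trans (iSup₂_le ?_)
      intro a ha
      set Ga := G ⊓ Subgroup.centralizer {a} with hGa
      have hGaG : Ga ≤ G := inf_le_left
      have hne : Ga ≠ G := by
        intro h
        apply ha.2
        refine Subgroup.mem_inf.mpr ⟨ha.1, ?_⟩
        rw [Subgroup.mem_centralizer_iff]
        intro x hx
        have hx' : x ∈ Ga := by rw [h]; exact hx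
        exact Subgroup.mem_centralizer_singleton_iff.mp hx'.2
      have hlt : Nat.card Ga < n := by
        rw [← hn]
        by_contra hge
        push Not at hge
        exact hne (Subgroup.eq_of_le_of_card_ge hGaG hge)
      have hAGa : A ≤ Subgroup.normalizer (Ga : Set X) :=
        Cfsg.Agent.Lib.Helper54.le_normalizer_inf hAG
          (le_normalizer_centralizer A (Set.singleton_subset_iff.mpr ha.1))
      have hcopa : (Nat.card A).Coprime (Nat.card Ga) :=
        Nat.Coprime.coprime_dvd_right (Subgroup.card_dvd_of_le hGaG) hcop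
      exact (ih (Nat.card Ga) hlt Ga rfl hAGa hcopa).trans (genB_mono A hGaG)

theorem part1 (A G : Subgroup X) [IsMulCommutative A]
    (hAG : A ≤ Subgroup.normalizer (G : Set X)) (hcop : (Nat.card A).Coprime (Nat.card G)) :
    genB A G = G :=
  le_antisymm (iSup₂_le fun _ _ => inf_le_left) (part1_aux A _ G rfl hAG hcop)

end main

section part2
variable {X : Type*} [Group X]

theorem le_normalizer_iSup {ι : Sort*} (K : ι → Subgroup X) (H : Subgroup X)
    (h : ∀ i, H ≤ Subgroup.normalizer ((K i : Subgroup X) : Set X)) :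
    H ≤ Subgroup.normalizer (((⨆ i, K i : Subgroup X)) : Set X) := by
  intro g hg
  rw [Cfsg.Agent.Lib.Helper54.mem_normalizer_iff_conj_smul, Subgroup.pointwise_smul_def]
  change Subgroup.map (MulAut.conj g).toMonoidHom (⨆ i, K i) = ⨆ i, K i
  rw [Subgroup.map_iSup]
  congr 1
  funext i
  have := Cfsg.Agent.Lib.Helper54.mem_normalizer_iff_conj_smul.mp (h i hg)
  rw [Subgroup.pointwise_smul_def] at this
  exact this

variable [Finite X]

theorem part2 (A G : Subgroup X) [IsMulCommutative A]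
    (hAG : A ≤ Subgroup.normalizer (G : Set X)) (hcop : (Nat.card A).Coprime (Nat.card G)) :
    (⨆ B ∈ {B : Subgroup X | B ≤ A ∧ ∃ a ∈ A, B ⊔ Subgroup.zpowers a = A},
      ⁅G ⊓ Subgroup.centralizer (B : Set X), A⁆) = ⁅G, A⁆ := by
  apply le_antisymm
  · exact iSup₂_le fun B _ => Subgroup.commutator_mono inf_le_left le_rfl
  set N := (⨆ B ∈ {B : Subgroup X | B ≤ A ∧ ∃ a ∈ A, B ⊔ Subgroup.zpowers a = A},
      ⁅G ⊓ Subgroup.centralizer (B : Set X), A⁆) with hN
  set C := G ⊓ Subgroup.centralizer (A : Set X) with hC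
  have hsolvA : Group.IsSolvable A := Group.isSolvable_of_comm (fun a b => mul_comm a b)
  have hleN : ∀ B ∈ {B : Subgroup X | B ≤ A ∧ ∃ a ∈ A, B ⊔ Subgroup.zpowers a = A},
      ⁅G ⊓ Subgroup.centralizer (B : Set X), A⁆ ≤ N := fun B hB =>
    le_iSup₂ (f := fun B (_ : B ∈ {B : Subgroup X | B ≤ A ∧
      ∃ a ∈ A, B ⊔ Subgroup.zpowers a = A}) => ⁅G ⊓ Subgroup.centralizer (B : Set X), A⁆) B hB
  have hAGB : ∀ B ∈ {B : Subgroup X | B ≤ A ∧ ∃ a ∈ A, B ⊔ Subgroup.zpowers a = A},
      A ≤ Subgroup.normalizer ((G ⊓ Subgroup.centralizer (B : Set X) : Subgroup X) : Set X) :=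
    fun B hB => Cfsg.Agent.Lib.Helper54.le_normalizer_inf hAG
      (le_normalizer_centralizer A (fun x hx => hB.1 hx))
  -- G = N C
  have hG : G ≤ N ⊔ C := by
    rw [← part1 A G hAG hcop]
    apply iSup₂_le
    intro B hB
    have hcopB : (Nat.card A).Coprime
        (Nat.card (G ⊓ Subgroup.centralizer (B : Set X) : Subgroup X)) :=
      Nat.Coprime.coprime_dvd_right (Subgroup.card_dvd_of_le inf_le_left) hcop
    have h26 := Cfsg.Agent.S0026.result A (G ⊓ Subgroup.centralizer (B : Set X)) (hAGB B hB)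
      hcopB (Or.inl hsolvA)
    rw [← h26]
    exact sup_le_sup (hleN B hB) (inf_le_inf_right _ inf_le_left)
  have hNG : N ≤ G := by
    apply iSup₂_le
    intro B hB
    exact (Subgroup.le_normalizer_iff_commutator_le_left.mp (hAGB B hB)).trans inf_le_left
  -- normalizers
  have hAN : A ≤ Subgroup.normalizer (N : Set X) := by
    apply le_normalizer_iSup
    intro B
    apply le_normalizer_iSup
    intro hB
    exact le_trans (le_inf (hAGB B hB) Subgroup.le_normalizer)
      (Cfsg.Agent.S0058.le_normalizer_commutator' _ A)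
  have hCN : C ≤ Subgroup.normalizer (N : Set X) := by
    apply le_normalizer_iSup
    intro B
    apply le_normalizer_iSup
    intro hB
    refine le_trans (le_inf ?_ ?_) (Cfsg.Agent.S0058.le_normalizer_commutator' _ A)
    · apply Cfsg.Agent.Lib.Helper54.le_normalizer_inf
      · exact inf_le_left.trans Subgroup.le_normalizer
      · refine le_trans inf_le_right (le_trans ?_ Subgroup.le_normalizer)
        exact Subgroup.centralizer_le (fun x hx => hB.1 hx)
    · exact inf_le_right.trans (Subgroup.centralizer_le_normalizer _)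
  have hGN : G ≤ Subgroup.normalizer (N : Set X) :=
    hG.trans (sup_le Subgroup.le_normalizer hCN)
  -- the subgroup T
  let T : Subgroup X :=
    { carrier := {g | g ∈ G ∧ ∀ a ∈ A, ⁅g, a⁆ ∈ N}
      one_mem' := ⟨G.one_mem, fun a _ => by simp⟩
      mul_mem' := by
        rintro g h ⟨hg, hg'⟩ ⟨hh, hh'⟩
        refine ⟨G.mul_mem hg hh, fun a ha => ?_⟩
        have h1 : ⁅g * h, a⁆ = g * ⁅h, a⁆ * g⁻¹ * ⁅g, a⁆ := by
          simp only [commutatorElement_def]; group
        rw [h1]
        exact N.mul_mem ((Subgroup.mem_normalizer_iff.mp (hGN hg) _).mp (hh' a ha)) (hg' a ha)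
      inv_mem' := by
        rintro g ⟨hg, hg'⟩
        refine ⟨G.inv_mem hg, fun a ha => ?_⟩
        have h1 : ⁅g⁻¹, a⁆ = g⁻¹ * ⁅g, a⁆⁻¹ * g⁻¹⁻¹ := by
          simp only [commutatorElement_def]; group
        rw [h1]
        exact (Subgroup.mem_normalizer_iff.mp (hGN (G.inv_mem hg)) _).mp
          (N.inv_mem (hg' a ha)) }
  have hNT : N ≤ T := by
    intro n hn
    refine ⟨hNG hn, fun a ha => ?_⟩
    have h1 : ⁅n, a⁆ = n * (a * n⁻¹ * a⁻¹) := by
      simp only [commutatorElement_def]; group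
    rw [h1]
    exact N.mul_mem hn ((Subgroup.mem_normalizer_iff.mp (hAN ha) _).mp (N.inv_mem hn))
  have hCT : C ≤ T := by
    intro c hc
    refine ⟨hc.1, fun a ha => ?_⟩
    have h1 : a * c = c * a := (Subgroup.mem_centralizer_iff.mp hc.2) a ha
    have h2 : ⁅c, a⁆ = 1 := by
      rw [commutatorElement_eq_one_iff_mul_comm]; exact h1.symm
    rw [h2]
    exact N.one_mem
  have hGT : G ≤ T := hG.trans (sup_le hNT hCT)
  rw [Subgroup.commutator_le]
  intro g hg a ha
  exact (hGT hg).2 a ha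

end part2

/-- Let A and G be subgroups of a finite group with A abelian, A normalizing G and the orders of A and G coprime. Then G is generated by the fixed-point subgroups C_G(B) of those subgroups B of A for which A/B is cyclic (that is, A = ⟨B, a⟩ for some a), and [G, A] is generated by the commutator subgroups [C_G(B), A] over the same subgroups B. -/
theorem result {X : Type*} [Group X] [Finite X] (A G : Subgroup X) (hAab : IsMulCommutative A) (hAG : A ≤ Subgroup.normalizer (G : Set X)) (hcop : (Nat.card A).Coprime (Nat.card G)) : (⨆ B ∈ {B : Subgroup X | B ≤ A ∧ ∃ a ∈ A, B ⊔ Subgroup.zpowers a = A}, G ⊓ Subgroup.centralizer (B : Set X)) = G ∧ (⨆ B ∈ {B : Subgroup X | B ≤ A ∧ ∃ a ∈ A, B ⊔ Subgroup.zpowers a = A}, ⁅G ⊓ Subgroup.centralizer (B : Set X), A⁆) = ⁅G, A⁆ :=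
  ⟨part1 A G hAG hcop, part2 A G hAG hcop⟩

end Cfsg.Agent.S3734
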