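import Cfsg.Statements.S1976
import Cfsg.Agent.S1975
import Mathlib.Order.OrderIsoNat

set_option autoImplicit false
open Cfsg

namespace Cfsg.Agent.S1976

theorem kSeqOdd_antitone {P : Type*} [Group P] : Antitone (Cfsg.kSeqOdd P) :=
  antitone_nat_of_succ_le (fun n => Cfsg.Agent.S1975.kSeqOdd_succ_le n)

theorem kSeqEven_monotone {P : Type*} [Group P] : Monotone (Cfsg.kSeqEven P) := by
  apply monotone_nat_of_le_succ
  intro n
  unfold Cfsg.kSeqEven
  apply sSup_le_sSup
  apply Cfsg.Agent.S1975.lowerFamily_antitone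
  exact Cfsg.Agent.S1975.kSeqOdd_succ_le n

/-- stabilization index for both sequences -/
theorem exists_stable {P : Type*} [Group P] [Finite P] :
    ∃ n : ℕ, ∀ m : ℕ, n ≤ m → Cfsg.kSeqEven P m = Cfsg.kInfLower P ∧ Cfsg.kSeqOdd P m = Cfsg.kInfUpper P := by
  obtain ⟨n1, hn1⟩ := WellFoundedGT.monotone_chain_condition (α := Subgroup P)
    ⟨Cfsg.kSeqEven P, kSeqEven_monotone⟩
  obtain ⟨n2, hn2⟩ := WellFoundedLT.antitone_chain_condition (α := Subgroup P) (kSeqOdd_antitone (P := P))
  simp only [OrderHom.coe_mk] at hn1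
  have hL : Cfsg.kInfLower P = Cfsg.kSeqEven P n1 := by
    unfold Cfsg.kInfLower
    apply le_antisymm
    · apply iSup_le
      intro k
      rcases le_total k n1 with h | h
      · exact kSeqEven_monotone h
      · rw [hn1 k h]
    · exact le_iSup _ n1
  have hU : Cfsg.kInfUpper P = Cfsg.kSeqOdd P n2 := by
    unfold Cfsg.kInfUpper
    apply le_antisymm
    · exact iInf_le _ n2
    · apply le_iInf
      intro k
      rcases le_total k n2 with h | h
      · exact kSeqOdd_antitone h
      · rw [hn2 k h]
  refine ⟨max n1 n2, fun m hm => ⟨?_, ?_⟩⟩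
  · rw [hL, hn1 m (le_trans (le_max_left _ _) hm)]
  · rw [hU, hn2 m (le_trans (le_max_right _ _) hm)]

/-- Let P be a finite p-group. The K-sequence of P is eventually constant on each parity: from some index on, every even-indexed term equals the lower K-infinity subgroup and every odd-indexed term equals the upper K-infinity subgroup. -/
theorem result {P : Type*} [Group P] [Finite P] {p : ℕ} [Fact p.Prime] (hP : IsPGroup p P) : ∃ n : ℕ, ∀ m : ℕ, n ≤ m → Cfsg.kSeqEven P m = Cfsg.kInfLower P ∧ Cfsg.kSeqOdd P m = Cfsg.kInfUpper P := by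
  exact exists_stable

end Cfsg.Agent.S1976
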