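import Cfsg.Statements.S1977
import Cfsg.Agent.Lib.Helper33.KSeq

set_option autoImplicit false
open Cfsg

namespace Cfsg.Agent.S1977

open Cfsg.Agent.Lib.Helper33
open scoped commutatorElement

variable {P : Type*} [Group P]

/-- enlarging a member of the class-two family -/
theorem classTwo_enlarge {B : Subgroup P} (hB : B ∈ Cfsg.classTwoSubgroups P) {x : P}
    (hx : Subgroup.zpowers x ≤ Subgroup.centralizer (B : Set P)) :
    B ⊔ Subgroup.zpowers x ∈ Cfsg.classTwoSubgroups P :=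
  classTwo_sup hB hx (zpowers_le_centralizer_self x)

/-- enlarging a member of the upper-star family -/
theorem upper_enlarge {Q B : Subgroup P} (hB : B ∈ Cfsg.kUpperStarFamily Q) {x : P}
    (hx : Subgroup.zpowers x ≤ Subgroup.centralizer (B : Set P))
    (hxQ : ⁅Subgroup.zpowers x, Q⁆ ≤ B) :
    B ⊔ Subgroup.zpowers x ∈ Cfsg.kUpperStarFamily Q := by
  refine ⟨classTwo_enlarge hB.1 hx, ?_⟩
  have h1 := commutator_sup_le_zOf hx hB.2 hxQ
  exact h1.trans (le_sup_left.trans (sup_le_zOf_sup hx (zpowers_le_centralizer_self x)))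

/-- enlarging a member of the lower-star family -/
theorem lower_enlarge {Q B : Subgroup P} (hB : B ∈ Cfsg.kLowerStarFamily Q) {x : P}
    (hx : Subgroup.zpowers x ≤ Subgroup.centralizer (B : Set P))
    (hxQ : ⁅Subgroup.zpowers x, Q⁆ ≤ B) :
    B ⊔ Subgroup.zpowers x ∈ Cfsg.kLowerStarFamily Q := by
  obtain ⟨hB1, hB2, hB3⟩ := hB
  have hz := sup_le_zOf_sup hx (zpowers_le_centralizer_self x)
  refine ⟨classTwo_enlarge hB1 hx, ?_, ?_⟩
  · -- Q normalizes B ⊔ ⟨x⟩
    apply le_normalizer_of_commutator_le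
    -- ⁅B ⊔ X, Q⁆ ≤ B ⊔ X
    rw [Subgroup.commutator_le]
    intro g hg q hq
    obtain ⟨b, hb, y, hy, rfl⟩ := exists_mul_of_mem_sup_centralizer hx hg
    have h1 : ⁅y, q⁆ ∈ B := hxQ (Subgroup.commutator_mem_commutator hy hq)
    have h2 : ⁅b, q⁆ ∈ B := commutator_le_of_le_normalizer hB2 (Subgroup.commutator_mem_commutator hb hq)
    have e1 : ⁅b * y, q⁆ = b * ⁅y, q⁆ * b⁻¹ * ⁅b, q⁆ := by
      simp only [commutatorElement_def]; group
    rw [e1]
    exact Subgroup.mem_sup_left (B.mul_mem (B.mul_mem (B.mul_mem hb h1) (B.inv_mem hb)) h2)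
  · intro A hA hAQ hBA h1 h2
    have hBA' : B ≤ Subgroup.normalizer (A : Set P) := le_sup_left.trans hBA
    have h1' : ⁅B, ⁅A, A⁆⁆ = ⊥ := by
      rw [eq_bot_iff, ← h1]
      exact Subgroup.commutator_mono le_sup_left le_rfl
    have h2' : ⁅⁅B ⊓ Subgroup.centralizer (B : Set P), A⁆, A⁆ = ⊥ := by
      rw [eq_bot_iff, ← h2]
      exact Subgroup.commutator_mono (Subgroup.commutator_mono (le_sup_left.trans hz) le_rfl) le_rfl
    have h3 := hB3 A hA hAQ hBA' h1' h2'
    have h4 : ⁅Subgroup.zpowers x, A⁆ ≤ B := (Subgroup.commutator_mono le_rfl hAQ).trans hxQ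
    have h5 := commutator_sup_le_zOf hx h3 h4
    exact h5.trans (le_sup_left.trans hz)

/-- Let P be a finite p-group. A member B that is maximal under inclusion in any one of the families used to build the K-sequence of P — the class-two family, the lower-star family relative to an odd-indexed term, or the upper-star family relative to an even-indexed term — contains its centralizer: C_P(B) ≤ B. -/
theorem result {P : Type*} [Group P] [Finite P] {p : ℕ} [Fact p.Prime] (hP : IsPGroup p P) (B : Subgroup P) (𝒦 : Set (Subgroup P)) (h𝒦 : 𝒦 = Cfsg.classTwoSubgroups P ∨ (∃ n, 𝒦 = Cfsg.kLowerStarFamily (Cfsg.kSeqOdd P n)) ∨ ∃ n, 𝒦 = Cfsg.kUpperStarFamily (Cfsg.kSeqEven P n)) (hB : B ∈ 𝒦) (hmax : ∀ C ∈ 𝒦, B ≤ C → C = B) : Subgroup.centralizer (B : Set P) ≤ B := by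
  have : Group.IsNilpotent P := hP.isNilpotent
  by_contra hCB
  -- it suffices to enlarge B inside 𝒦
  have finish : ∀ x : P, x ∉ B → B ⊔ Subgroup.zpowers x ∈ 𝒦 → False := by
    intro x hxB hmem
    have := hmax _ hmem le_sup_left
    apply hxB
    rw [← this]
    exact Subgroup.mem_sup_right (Subgroup.mem_zpowers x)
  rcases h𝒦 with rfl | ⟨n, rfl⟩ | ⟨n, rfl⟩
  · obtain ⟨x, hxB, hxC, _⟩ := exists_enlarging_element (Q := ⊥) (B := B) bot_le hCB
    exact finish x hxB (classTwo_enlarge hB hxC)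
  · obtain ⟨x, hxB, hxC, hxQ⟩ := exists_enlarging_element (Q := Cfsg.kSeqOdd P n) (B := B) hB.2.1 hCB
    exact finish x hxB (lower_enlarge hB hxC hxQ)
  · have hQN : Cfsg.kSeqEven P n ≤ Subgroup.normalizer (B : Set P) :=
      le_normalizer_of_commutator_le (hB.2.trans inf_le_left)
    obtain ⟨x, hxB, hxC, hxQ⟩ := exists_enlarging_element (Q := Cfsg.kSeqEven P n) (B := B) hQN hCB
    exact finish x hxB (upper_enlarge hB hxC hxQ)

end Cfsg.Agent.S1977
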