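import Cfsg.Statements.S1978
import Cfsg.Agent.S1976
import Cfsg.Agent.S1977
import Cfsg.Agent.S1980

set_option autoImplicit false
open Cfsg

namespace Cfsg.Agent.S1978

/-- the join of one of the K-sequence families contains its centralizer -/
theorem centralizer_sSup_le {P : Type*} [Group P] [Finite P] {p : ℕ} [Fact p.Prime] (hP : IsPGroup p P)
    (𝒦 : Set (Subgroup P))
    (h𝒦 : 𝒦 = Cfsg.classTwoSubgroups P ∨ (∃ n, 𝒦 = Cfsg.kLowerStarFamily (Cfsg.kSeqOdd P n)) ∨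
      ∃ n, 𝒦 = Cfsg.kUpperStarFamily (Cfsg.kSeqEven P n))
    (hbot : (⊥ : Subgroup P) ∈ 𝒦) :
    Subgroup.centralizer ((sSup 𝒦 : Subgroup P) : Set P) ≤ sSup 𝒦 := by
  obtain ⟨B, _, hBmax⟩ := Set.Finite.exists_le_maximal (Set.toFinite 𝒦) hbot
  have hB : B ∈ 𝒦 := hBmax.1
  have hmax : ∀ C ∈ 𝒦, B ≤ C → C = B := fun C hC hBC => le_antisymm (hBmax.2 hC hBC) hBC
  have h1 := Cfsg.Agent.S1977.result hP B 𝒦 h𝒦 hB hmax
  have h2 : B ≤ sSup 𝒦 := le_sSup hB
  exact (Subgroup.centralizer_le (fun _ hx => h2 hx)).trans (h1.trans h2)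

/-- Let P be a finite p-group. Each of the two K-infinity subgroups of P contains its own centralizer in P, which in turn contains Z(P); in particular both are nontrivial when P is. -/
theorem result {P : Type*} [Group P] [Finite P] {p : ℕ} [Fact p.Prime] (hP : IsPGroup p P) : Subgroup.centralizer (Cfsg.kInfLower P : Set P) ≤ Cfsg.kInfLower P ∧ Subgroup.center P ≤ Subgroup.centralizer (Cfsg.kInfLower P : Set P) ∧ Subgroup.centralizer (Cfsg.kInfUpper P : Set P) ≤ Cfsg.kInfUpper P ∧ Subgroup.center P ≤ Subgroup.centralizer (Cfsg.kInfUpper P : Set P) := by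
  obtain ⟨n, hn⟩ := Cfsg.Agent.S1976.exists_stable (P := P)
  have hbotN : (⊥ : Subgroup P).Normal := inferInstance
  have hbotC : IsMulCommutative ↥(⊥ : Subgroup P) := ⟨⟨fun a b => Subsingleton.elim _ _⟩⟩
  refine ⟨?_, Subgroup.center_le_centralizer _, ?_, Subgroup.center_le_centralizer _⟩
  · rw [← (hn n le_rfl).1]
    exact centralizer_sSup_le hP _ (Or.inr (Or.inl ⟨n, rfl⟩)) (Cfsg.Agent.S1980.mem_lower ⊥ hbotC _)
  · rw [← (hn (n + 1) (Nat.le_succ n)).2]
    exact centralizer_sSup_le hP _ (Or.inr (Or.inr ⟨n, rfl⟩)) (Cfsg.Agent.S1980.mem_upper ⊥ hbotC _)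

end Cfsg.Agent.S1978
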