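import Cfsg.Statements.S1968
import Cfsg.Agent.Lib.Helper33.WellPlaced

set_option autoImplicit false
open Cfsg

namespace Cfsg.Agent.S1968

open Cfsg.Agent.Lib.Helper33

variable {G : Type*} [Group G] {p : ℕ}

theorem tower_shift (W : Subgroup G → Subgroup G) (S T : Subgroup G) (i : ℕ) :
    Cfsg.functorTower W S (Cfsg.functorTower W S T 1) i = Cfsg.functorTower W S T (i + 1) := by
  induction i with
  | zero => rfl
  | succ i ih => rw [functorTower_succ, ih]; rfl

theorem isWellPlaced_tower_one [Fact p.Prime] (S : Sylow p G) {W : Subgroup G → Subgroup G}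
    (hW : Cfsg.IsConjugacyFunctor p W) {T : Subgroup G}
    (hT : Cfsg.IsWellPlaced p W (S : Subgroup G) T) :
    Cfsg.IsWellPlaced p W (S : Subgroup G)
      (W ((S : Subgroup G) ⊓ Subgroup.normalizer ((T : Subgroup G) : Set G))) := by
  refine ⟨(cf_le hW (S.isPGroup'.to_le inf_le_left)).trans inf_le_left, ?_⟩
  intro i
  have := hT.2 (i + 1)
  rw [← tower_shift] at this
  exact this

/-- a bad pair exists: some well-placed `T ⊇ A` and `x ∈ N_G(T)` moving `A` -/
theorem exists_bad_pair [Finite G] [Fact p.Prime] (S : Sylow p G) (W : Subgroup G → Subgroup G)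
    (hW : Cfsg.IsConjugacyFunctor p W) (A : Subgroup G) (hAS : A ≤ (S : Subgroup G))
    (g : G) (hgA : cj g A ≤ (S : Subgroup G)) (hne : cj g A ≠ A) :
    ∃ T : Subgroup G, Cfsg.IsWellPlaced p W (S : Subgroup G) T ∧ A ≤ T ∧
      ∃ x ∈ Subgroup.normalizer (T : Set G), cj x A ≠ A := by
  by_contra hcon
  push Not at hcon
  have key := alperin_induction S
    (fun P g => (A ≤ P → cj g A = A) ∧ (A ≤ cj g P → cj g⁻¹ A = A))
    {U | Cfsg.IsWellPlaced p W (S : Subgroup G) U}
    (by
      intro P hP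
      obtain ⟨g, hg⟩ := exists_cj_isWellPlaced S hW P hP
      exact ⟨cj g P, hg, ⟨g, rfl⟩, hg.1, hg.2 0⟩)
    (by
      intro P g h _ _ _ h1 h2
      refine ⟨fun hAP => ?_, fun hAP => ?_⟩
      · have e1 := h1.1 hAP
        have hA2 : A ≤ cj g P := by rw [← e1]; exact cj_mono hAP
        rw [cj_mul, e1]
        exact h2.1 hA2
      · rw [cj_mul] at hAP
        have e2 := h2.2 hAP
        have hA2 : A ≤ cj g P := by
          rw [← e2, ← cj_le_cj (g := h), cj_cj_inv]; exact hAP
        have e1 := h1.2 hA2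
        rw [mul_inv_rev, cj_mul, e2, e1])
    (by
      intro P P' g hle _ _ h1
      exact ⟨fun h => h1.1 (h.trans hle), fun h => h1.2 (h.trans (cj_mono hle))⟩)
    (by
      intro P g _ _ h1
      refine ⟨fun h => h1.2 h, fun h => ?_⟩
      rw [cj_inv_cj] at h
      rw [inv_inv]
      exact h1.1 h)
    (by
      intro U hU _ _ _ x hx
      refine ⟨fun hAU => hcon U hU hAU x hx, fun hAU => ?_⟩
      rw [cj_eq_self_of_mem_normalizer hx] at hAU
      exact hcon U hU hAU x⁻¹ (inv_mem hx))
  exact hne ((key A hAS g hgA).1 le_rfl)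

/-- Let p be a prime, G a finite group with Sylow p-subgroup S and W a conjugacy functor for p on G with Z(P) ≤ W(P) for every p-subgroup P. Let A be a subgroup of Z(S) normalized by N_G(W(S)) that is not weakly closed in S with respect to G. Then there is a subgroup T of S, well placed in S with respect to W, such that: A ≤ T; N_G(W(N_S(T))) normalizes A; N_S(T) is a Sylow p-subgroup of N_G(T); A ≤ Z(N_S(T)); and A is not weakly closed in N_S(T) with respect to N_G(T), that is, some N_G(T)-conjugate of A other than A lies in N_S(T). -/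
theorem result {G : Type*} [Group G] [Finite G] {p : ℕ} [Fact p.Prime] (S : Sylow p G) (W : Subgroup G → Subgroup G) (hW : Cfsg.IsConjugacyFunctor p W) (hWZ : ∀ P : Subgroup G, IsPGroup p ↥P → P ⊓ Subgroup.centralizer (P : Set G) ≤ W P) (A : Subgroup G) (hAZ : A ≤ (S : Subgroup G) ⊓ Subgroup.centralizer ((S : Subgroup G) : Set G)) (hAN : Subgroup.normalizer ((W (S : Subgroup G) : Subgroup G) : Set G) ≤ Subgroup.normalizer ((A : Subgroup G) : Set G)) (hnwc : ¬ Cfsg.IsWeaklyClosed A (S : Subgroup G)) : ∃ T : Subgroup G, Cfsg.IsWellPlaced p W (S : Subgroup G) T ∧ A ≤ T ∧ Subgroup.normalizer ((W ((S : Subgroup G) ⊓ Subgroup.normalizer ((T : Subgroup G) : Set G)) : Subgroup G) : Set G) ≤ Subgroup.normalizer ((A : Subgroup G) : Set G) ∧ ¬ p ∣ ((S : Subgroup G) ⊓ Subgroup.normalizer ((T : Subgroup G) : Set G)).relIndex (Subgroup.normalizer ((T : Subgroup G) : Set G)) ∧ A ≤ Subgroup.centralizer (((S : Subgroup G) ⊓ Subgroup.normalizer ((T : Subgroup G) : Set G) : Subgroup G) : Set G) ∧ ∃ g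 ∈ Subgroup.normalizer ((T : Subgroup G) : Set G), A.map (MulAut.conj g).toMonoidHom ≤ (S : Subgroup G) ⊓ Subgroup.normalizer ((T : Subgroup G) : Set G) ∧ A.map (MulAut.conj g).toMonoidHom ≠ A := by
  have hAS : A ≤ (S : Subgroup G) := hAZ.trans inf_le_left
  have hAC : A ≤ Subgroup.centralizer ((S : Subgroup G) : Set G) := hAZ.trans inf_le_right
  -- A is moved by some g
  have hmove : ∃ g : G, cj g A ≤ (S : Subgroup G) ∧ cj g A ≠ A := by
    by_contra hcon
    push Not at hcon
    exact hnwc ⟨hAS, fun g hg => hcon g hg⟩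
  obtain ⟨g, hgA, hne⟩ := hmove
  obtain ⟨T₀, hT₀wp, hAT₀, x₀, hx₀, hx₀A⟩ := exists_bad_pair S W hW A hAS g hgA hne
  -- maximality argument, by strong induction on |S| - |N_S(T)|
  have main : ∀ m : ℕ, ∀ T : Subgroup G, Cfsg.IsWellPlaced p W (S : Subgroup G) T → A ≤ T →
      (∃ x ∈ Subgroup.normalizer (T : Set G), cj x A ≠ A) →
      Nat.card (S : Subgroup G) - Nat.card ((S : Subgroup G) ⊓ Subgroup.normalizer (T : Set G) : Subgroup G) = m →
      ∃ T' : Subgroup G, Cfsg.IsWellPlaced p W (S : Subgroup G) T' ∧ A ≤ T' ∧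
        Subgroup.normalizer ((W ((S : Subgroup G) ⊓ Subgroup.normalizer ((T' : Subgroup G) : Set G)) : Subgroup G) : Set G) ≤ Subgroup.normalizer ((A : Subgroup G) : Set G) ∧
        ∃ x ∈ Subgroup.normalizer (T' : Set G), cj x A ≠ A := by
    intro m
    induction m using Nat.strong_induction_on with
    | _ m ih =>
      intro T hTwp hAT hbad hm
      set R := (S : Subgroup G) ⊓ Subgroup.normalizer (T : Set G) with hR
      have hRp : IsPGroup p R := S.isPGroup'.to_le inf_le_left
      by_cases hN : Subgroup.normalizer ((W R : Subgroup G) : Set G) ≤ Subgroup.normalizer ((A : Subgroup G) : Set G)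
      · exact ⟨T, hTwp, hAT, hN, hbad⟩
      · -- some x₁ ∈ N(W R) moves A
        obtain ⟨x₁, hx₁, hx₁A⟩ := SetLike.not_le_iff_exists.mp hN
        have hx₁A' : cj x₁ A ≠ A := fun h => hx₁A (mem_normalizer_iff_cj_eq.mpr h)
        have hT₁wp : Cfsg.IsWellPlaced p W (S : Subgroup G) (W R) := isWellPlaced_tower_one S hW hTwp
        have hAR : A ≤ R := le_inf hAS (hAT.trans Subgroup.le_normalizer)
        have hAT₁ : A ≤ W R := by
          refine le_trans (le_inf hAR ?_) (hWZ R hRp)
          exact hAC.trans (Subgroup.centralizer_le (fun _ hx => (inf_le_left : R ≤ (S : Subgroup G)) hx))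
        have hRS : R ≠ (S : Subgroup G) := by
          intro h
          apply hN
          rw [h]; exact hAN
        -- |N_S(W R)| > |R|
        have hNN : (S : Subgroup G) ⊓ Subgroup.normalizer (R : Set G) ≤
            (S : Subgroup G) ⊓ Subgroup.normalizer ((W R : Subgroup G) : Set G) :=
          le_inf inf_le_left (inf_le_right.trans (cf_normalizer_le hW hRp))
        have hcard : Nat.card R < Nat.card ((S : Subgroup G) ⊓ Subgroup.normalizer ((W R : Subgroup G) : Set G) : Subgroup G) :=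
          lt_of_lt_of_le (card_lt_card_normalizer_inf S inf_le_left hRS) (Subgroup.card_le_of_le hNN)
        have hle : Nat.card ((S : Subgroup G) ⊓ Subgroup.normalizer ((W R : Subgroup G) : Set G) : Subgroup G) ≤ Nat.card (S : Subgroup G) :=
          Subgroup.card_le_of_le inf_le_left
        exact ih _ (by omega) (W R) hT₁wp hAT₁ ⟨x₁, hx₁, hx₁A'⟩ rfl
  obtain ⟨T, hTwp, hAT, hN, x, hx, hxA⟩ := main _ T₀ hT₀wp hAT₀ ⟨x₀, hx₀, hx₀A⟩ rfl
  refine ⟨T, hTwp, hAT, hN, hTwp.2 0, ?_, x, hx, ?_, hxA⟩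
  · exact hAC.trans (Subgroup.centralizer_le (fun _ hx => (inf_le_left : (S : Subgroup G) ⊓ Subgroup.normalizer (T : Set G) ≤ (S : Subgroup G)) hx))
  · have : cj x A ≤ T := by
      have := cj_mono (g := x) hAT
      rwa [cj_eq_self_of_mem_normalizer hx] at this
    exact this.trans (le_inf hTwp.1 Subgroup.le_normalizer)

end Cfsg.Agent.S1968
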