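import Cfsg.Statements.S0531
import Cfsg.Agent.Lib.Helper9.SS2

set_option autoImplicit false
open Cfsg

namespace Cfsg.Agent.S0531

open Cfsg.Agent.Lib.Helper9

universe u

theorem card_comap_mk' {G : Type u} [Group G] [Finite G] (D : Subgroup G) [D.Normal]
    (H' : Subgroup (G ⧸ D)) :
    Nat.card (H'.comap (QuotientGroup.mk' D)) = Nat.card H' * Nat.card D := by
  have h1 : (H'.comap (QuotientGroup.mk' D)).index = H'.index :=
    Subgroup.index_comap_of_surjective _ (QuotientGroup.mk'_surjective D)
  have h2 := Subgroup.index_mul_card (H'.comap (QuotientGroup.mk' D))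
  have h3 := Subgroup.index_mul_card H'
  have h4 := Subgroup.card_eq_card_quotient_mul_card_subgroup D
  have hpos : 0 < H'.index := Nat.pos_of_ne_zero Subgroup.index_ne_zero_of_finite
  rw [h1, h4, ← h3, mul_assoc] at h2
  exact Nat.eq_of_mul_eq_mul_left hpos h2

theorem aux : ∀ (n : ℕ) (G : Type u) [Group G] [Finite G], Nat.card G = n →
    Cfsg.IsSupersolvable G → Cfsg.HasSubgroupOfEveryOrder G := by
  intro n
  induction n using Nat.strong_induction_on with
  | _ n ih =>
    intro G _ _ hcard hG d hd
    rcases subsingleton_or_nontrivial G with hs | hnt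
    · refine ⟨⊥, ?_⟩
      have : Nat.card G = 1 := Nat.card_eq_one_iff_unique.2 ⟨hs, ⟨1⟩⟩
      rw [this] at hd
      rw [Subgroup.card_bot]
      exact (Nat.dvd_one.1 hd).symm
    obtain ⟨D, hDn, hDp⟩ := exists_normal_prime_card hG
    have hQ := Subgroup.card_eq_card_quotient_mul_card_subgroup D
    have hlt : Nat.card (G ⧸ D) < n := by
      rw [← hcard, hQ]
      have hpos : 0 < Nat.card (G ⧸ D) := Nat.card_pos
      have := hDp.one_lt
      nlinarith
    have hQss := isSupersolvable_quotient hG D
    by_cases hpd : Nat.card D ∣ d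
    · obtain ⟨d', rfl⟩ := hpd
      have hd' : d' ∣ Nat.card (G ⧸ D) := by
        rw [hQ, mul_comm (Nat.card (G ⧸ D))] at hd
        exact Nat.dvd_of_mul_dvd_mul_left hDp.pos hd
      obtain ⟨H', hH'⟩ := ih _ hlt (G ⧸ D) rfl hQss d' hd'
      refine ⟨H'.comap (QuotientGroup.mk' D), ?_⟩
      rw [card_comap_mk', hH', mul_comm]
    · have hcop : (Nat.card D).Coprime d := (Nat.Prime.coprime_iff_not_dvd hDp).2 hpd
      have hd' : d ∣ Nat.card (G ⧸ D) := by
        rw [hQ] at hd
        exact (Nat.Coprime.dvd_of_dvd_mul_right hcop.symm hd)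
      obtain ⟨H', hH'⟩ := ih _ hlt (G ⧸ D) rfl hQss d hd'
      set K := H'.comap (QuotientGroup.mk' D) with hK
      have hKcard : Nat.card K = d * Nat.card D := by rw [card_comap_mk', hH']
      have hDK : D ≤ K := by
        intro x hx
        rw [hK, Subgroup.mem_comap]
        have : QuotientGroup.mk' D x = 1 := (QuotientGroup.eq_one_iff x).2 hx
        rw [this]; exact one_mem _
      have hcardDK : Nat.card (D.subgroupOf K) = Nat.card D :=
        Nat.card_congr (Subgroup.subgroupOfEquivOfLe hDK).toEquiv
      have hidx : (D.subgroupOf K).index = d := by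
        have := Subgroup.index_mul_card (D.subgroupOf K)
        rw [hcardDK, hKcard] at this
        exact Nat.eq_of_mul_eq_mul_right hDp.pos this
      have hcop2 : (Nat.card (D.subgroupOf K)).Coprime (D.subgroupOf K).index := by
        rw [hcardDK, hidx]; exact hcop
      obtain ⟨C, hC⟩ := Subgroup.exists_right_complement'_of_coprime hcop2
      refine ⟨C.map K.subtype, ?_⟩
      rw [Subgroup.card_map_of_injective K.subtype_injective, ← hC.symm.index_eq_card, hidx]

/-- A finite supersolvable group has a subgroup of each order dividing its order. -/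
theorem result {G : Type*} [Group G] [Finite G] (hG : Cfsg.IsSupersolvable G) : Cfsg.HasSubgroupOfEveryOrder G := by
  exact aux _ G rfl hG

end Cfsg.Agent.S0531
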