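import Cfsg.Statements.S1035
import Cfsg.Agent.Lib.Helper18.HCard
-- import your own Cfsg.Agent.* helpers here

set_option autoImplicit false
open Cfsg

namespace Cfsg.Agent.S1035

open Cfsg.Lie Cfsg.Agent.Lib.Helper18

/-- `d · |H| = (q - 1)^rank` over a field with `q` elements, with `d = 1` (G₂, F₄, E₈), `gcd(3, q-1)` (E₆), `gcd(2, q-1)` (E₇, B₂), `gcd(2, q-1)²` (D₄). -/
theorem result {F : Type*} [Field F] [Fintype F] {q : ℕ} (hq : Fintype.card F = q)
    (p : Cfsg.Lie.ChevalleyDatum × ℕ)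
    (hp : p ∈ [(Cfsg.Lie.chevG2, 1), (Cfsg.Lie.chevF4, 1), (Cfsg.Lie.chevE8, 1), (Cfsg.Lie.chevE6, Nat.gcd 3 (q - 1)),
      (Cfsg.Lie.chevE7, Nat.gcd 2 (q - 1)), (Cfsg.Lie.chevB2, Nat.gcd 2 (q - 1)), (Cfsg.Lie.chevD4, Nat.gcd 2 (q - 1) ^ 2)]) :
    p.2 * Nat.card (p.1.diagonalSubgroup F) = (q - 1) ^ p.1.rank := by
  subst hq
  simp only [List.mem_cons, List.not_mem_nil, or_false] at hp
  rcases hp with rfl | rfl | rfl | rfl | rfl | rfl | rfl
  · have h := card_diagonal (F := F) chevG2 (by simp) rootCoeffs_G2 rootComb_G2 _ _ _ _ _ snfCert_G2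
    rw [← h]
    congr 1
    show _ = ∏ j : Fin 2, _
    simp [Fin.prod_univ_succ, snfD_G2]
  · have h := card_diagonal (F := F) chevF4 (by simp) rootCoeffs_F4 rootComb_F4 _ _ _ _ _ snfCert_F4
    rw [← h]
    congr 1
    show _ = ∏ j : Fin 4, _
    simp [Fin.prod_univ_succ, snfD_F4]
  · have h := card_diagonal (F := F) chevE8 (by simp) rootCoeffs_E8 rootComb_E8 _ _ _ _ _ snfCert_E8
    rw [← h]
    congr 1
    show _ = ∏ j : Fin 8, _
    simp [Fin.prod_univ_succ, snfD_E8]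
  · have h := card_diagonal (F := F) chevE6 (by simp) rootCoeffs_E6 rootComb_E6 _ _ _ _ _ snfCert_E6
    rw [← h]
    congr 1
    show _ = ∏ j : Fin 6, _
    simp [Fin.prod_univ_succ, snfD_E6, Nat.gcd_comm]
  · have h := card_diagonal (F := F) chevE7 (by simp) rootCoeffs_E7 rootComb_E7 _ _ _ _ _ snfCert_E7
    rw [← h]
    congr 1
    show _ = ∏ j : Fin 7, _
    simp [Fin.prod_univ_succ, snfD_E7, Nat.gcd_comm]
  · have h := card_diagonal (F := F) chevB2 (by simp) rootCoeffs_B2 rootComb_B2 _ _ _ _ _ snfCert_B2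
    rw [← h]
    congr 1
    show _ = ∏ j : Fin 2, _
    simp [Fin.prod_univ_succ, snfD_B2, Nat.gcd_comm]
  · have h := card_diagonal (F := F) chevD4 (by simp) rootCoeffs_D4 rootComb_D4 _ _ _ _ _ snfCert_D4
    rw [← h]
    congr 1
    show _ = ∏ j : Fin 4, _
    simp [Fin.prod_univ_succ, snfD_D4, Nat.gcd_comm, pow_two]

end Cfsg.Agent.S1035
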