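import Cfsg.Statements.S1059
import Cfsg.Agent.Lib.Helper18.OrderG2
import Cfsg.Agent.S1035
-- import your own Cfsg.Agent.* helpers here

set_option autoImplicit false
open Cfsg

namespace Cfsg.Agent.S1059

open Cfsg.Lie Cfsg.Agent.Lib.Helper18

/-- `|G₂(q)| = q⁶ (q² - 1)(q⁶ - 1)`. -/
theorem result {F : Type*} [Field F] [Fintype F] {q : ℕ} (hq : Fintype.card F = q) : Nat.card ↥(Cfsg.Lie.chevG2.group F) = q ^ 6 * (q ^ 2 - 1) * (q ^ 6 - 1) := by
  subst hq
  have hD : chevG2 ∈ [chevG2, chevB2, chevD4, chevF4, chevE6, chevE7, chevE8] := by simp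
  have hd := Cfsg.Agent.S1035.result (F := F) rfl (chevG2, 1) (by simp)
  have h := order_formula (F := F) hD chevData_G2 _ hd [2, 6] rfl wsum_G2
  rw [show chevG2.nroots / 2 = 6 from rfl] at h
  simp only [List.map_cons, List.map_nil, List.prod_cons, List.prod_nil, mul_one, one_mul] at h
  rw [h]
  simp only [mul_assoc]

end Cfsg.Agent.S1059
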