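import Cfsg.Statements.S1063
import Cfsg.Agent.Lib.Helper18.OrderE6
import Cfsg.Agent.S1035
-- import your own Cfsg.Agent.* helpers here

set_option autoImplicit false
open Cfsg

namespace Cfsg.Agent.S1063

open Cfsg.Lie Cfsg.Agent.Lib.Helper18

/-- `gcd(3, q-1) · |E₆(q)| = q³⁶ (q² - 1)(q⁵ - 1)(q⁶ - 1)(q⁸ - 1)(q⁹ - 1)(q¹² - 1)`. -/
theorem result {F : Type*} [Field F] [Fintype F] {q : ℕ} (hq : Fintype.card F = q) : Nat.gcd 3 (q - 1) * Nat.card ↥(Cfsg.Lie.chevE6.group F) = q ^ 36 * (q ^ 2 - 1) * (q ^ 5 - 1) * (q ^ 6 - 1) * (q ^ 8 - 1) * (q ^ 9 - 1) * (q ^ 12 - 1) := by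
  subst hq
  have hD : chevE6 ∈ [chevG2, chevB2, chevD4, chevF4, chevE6, chevE7, chevE8] := by simp
  have hd := Cfsg.Agent.S1035.result (F := F) rfl (chevE6, Nat.gcd 3 (Fintype.card F - 1)) (by simp)
  have h := order_formula (F := F) hD chevData_E6 _ hd [2, 5, 6, 8, 9, 12] rfl wsum_E6
  rw [show chevE6.nroots / 2 = 36 from rfl] at h
  simp only [List.map_cons, List.map_nil, List.prod_cons, List.prod_nil, mul_one, one_mul] at h
  rw [h]
  simp only [mul_assoc]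

end Cfsg.Agent.S1063
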