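import Cfsg.Statements.S1039
import Cfsg.Agent.Lib.Helper18.Cox2
import Cfsg.Agent.Lib.Helper18.OrderG2
import Cfsg.Agent.Lib.Helper18.OrderB2
import Cfsg.Agent.Lib.Helper18.OrderD4
import Cfsg.Agent.Lib.Helper18.OrderF4
import Cfsg.Agent.Lib.Helper18.OrderE6
import Cfsg.Agent.Lib.Helper18.OrderE7
import Cfsg.Agent.Lib.Helper18.OrderE8
import Cfsg.Agent.Lib.Helper19.CoxG2
import Cfsg.Agent.Lib.Helper19.CoxB2
import Cfsg.Agent.Lib.Helper19.CoxD4
import Cfsg.Agent.Lib.Helper19.CoxF4
import Cfsg.Agent.Lib.Helper19.CoxE6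
import Cfsg.Agent.Lib.Helper19.CoxE7
import Cfsg.Agent.Lib.Helper19.CoxE8
-- import your own Cfsg.Agent.* helpers here

set_option autoImplicit false
open Cfsg

namespace Cfsg.Agent.S1039

open Cfsg.Lie Cfsg.Agent.Lib.Helper18 Cfsg.Agent.Lib.Helper19.Cox

universe u

set_option maxRecDepth 1000000 in
theorem coxRel_G2 : coxRelOK wTabs_G2 chevG2.nroots chevG2.rank (fun i j => repG2.mAt i j) = true := by
  decide +kernel

set_option maxRecDepth 1000000 in
theorem coxCard_G2 : Nat.card (CoxeterMatrix.G₂).Group = evalL (prodLL ([2, 6].map geomL)) 1 := by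
  rw [mainG2.1]
  decide +kernel

theorem cox_G2 {F : Type u} [Field F] :
    ∃ φ : ↥(chevG2.monomialSubgroup F) →* (CoxeterMatrix.G₂).Group, Function.Surjective φ ∧
      φ.ker = (chevG2.diagonalSubgroup F).subgroupOf (chevG2.monomialSubgroup F) ∧
      ∀ (i : Fin chevG2.rank) (g : ↥(chevG2.monomialSubgroup F)),
        ((g : GL chevG2.Idx F) : Matrix chevG2.Idx chevG2.Idx F) = chevG2.nMat F (chevG2.simple i) 1 →
          φ g = (CoxeterMatrix.G₂).simple i := by
  have hD : chevG2 ∈ [chevG2, chevB2, chevD4, chevF4, chevE6, chevE7, chevE8] := by simp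
  have hrel := rel_of_coxRelOK chevData_G2.{u} (fun i j => repG2.mAt i j) coxRel_G2
  refine exists_coxeter_hom (F := F) hD chevData_G2.{u} (CoxeterMatrix.G₂)
    (fun i j => by rw [repG2_matrix i j]; exact hrel i j) (coxCard_G2.trans ?_)
  rw [card_Wgrp, wsum_G2]

set_option maxRecDepth 1000000 in
theorem coxRel_B2 : coxRelOK wTabs_B2 chevB2.nroots chevB2.rank (fun i j => repB2.mAt i j) = true := by
  decide +kernel

set_option maxRecDepth 1000000 in
theorem coxCard_B2 : Nat.card (CoxeterMatrix.B 2).Group = evalL (prodLL ([2, 4].map geomL)) 1 := by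
  rw [mainB2.1]
  decide +kernel

theorem cox_B2 {F : Type u} [Field F] :
    ∃ φ : ↥(chevB2.monomialSubgroup F) →* (CoxeterMatrix.B 2).Group, Function.Surjective φ ∧
      φ.ker = (chevB2.diagonalSubgroup F).subgroupOf (chevB2.monomialSubgroup F) ∧
      ∀ (i : Fin chevB2.rank) (g : ↥(chevB2.monomialSubgroup F)),
        ((g : GL chevB2.Idx F) : Matrix chevB2.Idx chevB2.Idx F) = chevB2.nMat F (chevB2.simple i) 1 →
          φ g = (CoxeterMatrix.B 2).simple i := by
  have hD : chevB2 ∈ [chevG2, chevB2, chevD4, chevF4, chevE6, chevE7, chevE8] := by simp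
  have hrel := rel_of_coxRelOK chevData_B2.{u} (fun i j => repB2.mAt i j) coxRel_B2
  refine exists_coxeter_hom (F := F) hD chevData_B2.{u} (CoxeterMatrix.B 2)
    (fun i j => by rw [repB2_matrix i j]; exact hrel i j) (coxCard_B2.trans ?_)
  rw [card_Wgrp, wsum_B2]

set_option maxRecDepth 1000000 in
theorem coxRel_D4 : coxRelOK wTabs_D4 chevD4.nroots chevD4.rank (fun i j => repD4.mAt i j) = true := by
  decide +kernel

set_option maxRecDepth 1000000 in
theorem coxCard_D4 : Nat.card (Cfsg.Lie.coxeterD4).Group = evalL (prodLL ([2, 4, 4, 6].map geomL)) 1 := by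
  rw [mainD4.1]
  decide +kernel

theorem cox_D4 {F : Type u} [Field F] :
    ∃ φ : ↥(chevD4.monomialSubgroup F) →* (Cfsg.Lie.coxeterD4).Group, Function.Surjective φ ∧
      φ.ker = (chevD4.diagonalSubgroup F).subgroupOf (chevD4.monomialSubgroup F) ∧
      ∀ (i : Fin chevD4.rank) (g : ↥(chevD4.monomialSubgroup F)),
        ((g : GL chevD4.Idx F) : Matrix chevD4.Idx chevD4.Idx F) = chevD4.nMat F (chevD4.simple i) 1 →
          φ g = (Cfsg.Lie.coxeterD4).simple i := by
  have hD : chevD4 ∈ [chevG2, chevB2, chevD4, chevF4, chevE6, chevE7, chevE8] := by simp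
  have hrel := rel_of_coxRelOK chevData_D4.{u} (fun i j => repD4.mAt i j) coxRel_D4
  refine exists_coxeter_hom (F := F) hD chevData_D4.{u} (Cfsg.Lie.coxeterD4)
    (fun i j => by rw [repD4_matrix i j]; exact hrel i j) (coxCard_D4.trans ?_)
  rw [card_Wgrp, wsum_D4]

set_option maxRecDepth 1000000 in
theorem coxRel_F4 : coxRelOK wTabs_F4 chevF4.nroots chevF4.rank (fun i j => repF4.mAt i j) = true := by
  decide +kernel

set_option maxRecDepth 1000000 in
theorem coxCard_F4 : Nat.card (CoxeterMatrix.F₄).Group = evalL (prodLL ([2, 6, 8, 12].map geomL)) 1 := by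
  rw [mainF4.1]
  decide +kernel

theorem cox_F4 {F : Type u} [Field F] :
    ∃ φ : ↥(chevF4.monomialSubgroup F) →* (CoxeterMatrix.F₄).Group, Function.Surjective φ ∧
      φ.ker = (chevF4.diagonalSubgroup F).subgroupOf (chevF4.monomialSubgroup F) ∧
      ∀ (i : Fin chevF4.rank) (g : ↥(chevF4.monomialSubgroup F)),
        ((g : GL chevF4.Idx F) : Matrix chevF4.Idx chevF4.Idx F) = chevF4.nMat F (chevF4.simple i) 1 →
          φ g = (CoxeterMatrix.F₄).simple i := by
  have hD : chevF4 ∈ [chevG2, chevB2, chevD4, chevF4, chevE6, chevE7, chevE8] := by simp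
  have hrel := rel_of_coxRelOK chevData_F4.{u} (fun i j => repF4.mAt i j) coxRel_F4
  refine exists_coxeter_hom (F := F) hD chevData_F4.{u} (CoxeterMatrix.F₄)
    (fun i j => by rw [repF4_matrix i j]; exact hrel i j) (coxCard_F4.trans ?_)
  rw [card_Wgrp, wsum_F4]

set_option maxRecDepth 1000000 in
theorem coxRel_E6 : coxRelOK wTabs_E6 chevE6.nroots chevE6.rank (fun i j => repE6.mAt i j) = true := by
  decide +kernel

set_option maxRecDepth 1000000 in
theorem coxCard_E6 : Nat.card (CoxeterMatrix.E₆).Group = evalL (prodLL ([2, 5, 6, 8, 9, 12].map geomL)) 1 := by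
  rw [mainE6.1]
  decide +kernel

theorem cox_E6 {F : Type u} [Field F] :
    ∃ φ : ↥(chevE6.monomialSubgroup F) →* (CoxeterMatrix.E₆).Group, Function.Surjective φ ∧
      φ.ker = (chevE6.diagonalSubgroup F).subgroupOf (chevE6.monomialSubgroup F) ∧
      ∀ (i : Fin chevE6.rank) (g : ↥(chevE6.monomialSubgroup F)),
        ((g : GL chevE6.Idx F) : Matrix chevE6.Idx chevE6.Idx F) = chevE6.nMat F (chevE6.simple i) 1 →
          φ g = (CoxeterMatrix.E₆).simple i := by
  have hD : chevE6 ∈ [chevG2, chevB2, chevD4, chevF4, chevE6, chevE7, chevE8] := by simp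
  have hrel := rel_of_coxRelOK chevData_E6.{u} (fun i j => repE6.mAt i j) coxRel_E6
  refine exists_coxeter_hom (F := F) hD chevData_E6.{u} (CoxeterMatrix.E₆)
    (fun i j => by rw [repE6_matrix i j]; exact hrel i j) (coxCard_E6.trans ?_)
  rw [card_Wgrp, wsum_E6]

set_option maxRecDepth 1000000 in
theorem coxRel_E7 : coxRelOK wTabs_E7 chevE7.nroots chevE7.rank (fun i j => repE7.mAt i j) = true := by
  decide +kernel

set_option maxRecDepth 1000000 in
theorem coxCard_E7 : Nat.card (CoxeterMatrix.E₇).Group = evalL (prodLL ([2, 6, 8, 10, 12, 14, 18].map geomL)) 1 := by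
  rw [mainE7.1]
  decide +kernel

theorem cox_E7 {F : Type u} [Field F] :
    ∃ φ : ↥(chevE7.monomialSubgroup F) →* (CoxeterMatrix.E₇).Group, Function.Surjective φ ∧
      φ.ker = (chevE7.diagonalSubgroup F).subgroupOf (chevE7.monomialSubgroup F) ∧
      ∀ (i : Fin chevE7.rank) (g : ↥(chevE7.monomialSubgroup F)),
        ((g : GL chevE7.Idx F) : Matrix chevE7.Idx chevE7.Idx F) = chevE7.nMat F (chevE7.simple i) 1 →
          φ g = (CoxeterMatrix.E₇).simple i := by
  have hD : chevE7 ∈ [chevG2, chevB2, chevD4, chevF4, chevE6, chevE7, chevE8] := by simp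
  have hrel := rel_of_coxRelOK chevData_E7.{u} (fun i j => repE7.mAt i j) coxRel_E7
  refine exists_coxeter_hom (F := F) hD chevData_E7.{u} (CoxeterMatrix.E₇)
    (fun i j => by rw [repE7_matrix i j]; exact hrel i j) (coxCard_E7.trans ?_)
  rw [card_Wgrp, wsum_E7]

set_option maxRecDepth 1000000 in
theorem coxRel_E8 : coxRelOK wTabs_E8 chevE8.nroots chevE8.rank (fun i j => repE8.mAt i j) = true := by
  decide +kernel

set_option maxRecDepth 1000000 in
theorem coxCard_E8 : Nat.card (CoxeterMatrix.E₈).Group = evalL (prodLL ([2, 8, 12, 14, 18, 20, 24, 30].map geomL)) 1 := by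
  rw [mainE8.1]
  decide +kernel

theorem cox_E8 {F : Type u} [Field F] :
    ∃ φ : ↥(chevE8.monomialSubgroup F) →* (CoxeterMatrix.E₈).Group, Function.Surjective φ ∧
      φ.ker = (chevE8.diagonalSubgroup F).subgroupOf (chevE8.monomialSubgroup F) ∧
      ∀ (i : Fin chevE8.rank) (g : ↥(chevE8.monomialSubgroup F)),
        ((g : GL chevE8.Idx F) : Matrix chevE8.Idx chevE8.Idx F) = chevE8.nMat F (chevE8.simple i) 1 →
          φ g = (CoxeterMatrix.E₈).simple i := by
  have hD : chevE8 ∈ [chevG2, chevB2, chevD4, chevF4, chevE6, chevE7, chevE8] := by simp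
  have hrel := rel_of_coxRelOK chevData_E8.{u} (fun i j => repE8.mAt i j) coxRel_E8
  refine exists_coxeter_hom (F := F) hD chevData_E8.{u} (CoxeterMatrix.E₈)
    (fun i j => by rw [repE8_matrix i j]; exact hrel i j) (coxCard_E8.trans ?_)
  rw [card_Wgrp, wsum_E8]

/-- `N/H ≅ W`: there is a surjective homomorphism from `N` onto the Coxeter group of the type (Mathlib's Coxeter matrix G₂, B₂, F₄, E₆, E₇, E₈, nodes numbered as the fundamental roots) with kernel `H`, mapping each `n_{p_i}` to the `i`-th simple reflection. -/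
theorem result {F : Type*} [Field F]
    (p : Cfsg.Lie.ChevalleyDatum × (Σ n : ℕ, CoxeterMatrix (Fin n)))
    (hp : p ∈ [(Cfsg.Lie.chevG2, ⟨2, CoxeterMatrix.G₂⟩), (Cfsg.Lie.chevB2, ⟨2, CoxeterMatrix.B 2⟩), (Cfsg.Lie.chevD4, ⟨4, Cfsg.Lie.coxeterD4⟩), (Cfsg.Lie.chevF4, ⟨4, CoxeterMatrix.F₄⟩),
      (Cfsg.Lie.chevE6, ⟨6, CoxeterMatrix.E₆⟩), (Cfsg.Lie.chevE7, ⟨7, CoxeterMatrix.E₇⟩), (Cfsg.Lie.chevE8, ⟨8, CoxeterMatrix.E₈⟩)]) :
    ∃ φ : ↥(p.1.monomialSubgroup F) →* p.2.2.Group, Function.Surjective φ ∧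
      φ.ker = (p.1.diagonalSubgroup F).subgroupOf (p.1.monomialSubgroup F) ∧
      ∀ (i : Fin p.2.1) (g : ↥(p.1.monomialSubgroup F)),
        ((g : GL p.1.Idx F) : Matrix p.1.Idx p.1.Idx F) = p.1.nMat F (p.1.simple i) 1 → φ g = p.2.2.simple i := by
  simp only [List.mem_cons, List.not_mem_nil, or_false] at hp
  rcases hp with rfl | rfl | rfl | rfl | rfl | rfl | rfl
  · exact cox_G2
  · exact cox_B2
  · exact cox_D4
  · exact cox_F4
  · exact cox_E6
  · exact cox_E7
  · exact cox_E8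

end Cfsg.Agent.S1039
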