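-- S2119: Aut(A_n) = S_n for n ≥ 4, n ≠ 6 (helper35).
import Cfsg.Statements.S2119
import Mathlib

set_option autoImplicit false
open Cfsg

namespace Cfsg.Agent.S2119

set_option linter.unusedSectionVars false
set_option linter.unusedVariables false

section Arith
open scoped Nat

-- arithmetic: for k ≥ 2, (m ≥ 1 ∨ k ≥ 3): 2 * 3^(k-1) * k! * m! < (m + 3*k - 3)!
theorem arith_aux (j m : ℕ) (h : 1 ≤ m ∨ 1 ≤ j) :
    2 * 3 ^ (j + 1) * (j + 2)! * m ! < (m + 3 * j + 3)! := by
  induction j with
  | zero =>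
    have hm : 1 ≤ m := by omega
    have h3 : (m + 3)! = (m+3) * (m+2) * (m+1) * m ! := by
      simp [Nat.factorial_succ]; ring
    have h2 : (2 : ℕ)! = 2 := rfl
    simp only [mul_zero, add_zero, zero_add, pow_one, h2, h3]
    have hpos : 0 < m ! := Nat.factorial_pos m
    have : 2 * 3 * 2 < (m + 3) * (m + 2) * (m + 1) := by
      have : 4 * 3 * 2 ≤ (m + 3) * (m + 2) * (m + 1) := by
        apply Nat.mul_le_mul (Nat.mul_le_mul _ _) <;> omega
      omega
    exact Nat.mul_lt_mul_of_pos_right this hpos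
  | succ j ih =>
    by_cases hj : 1 ≤ m ∨ 1 ≤ j
    · have ih' := ih hj
      have e1 : (m + 3 * (j + 1) + 3)! = (m + 3 * j + 6) * (m + 3 * j + 5) * (m + 3 * j + 4) * (m + 3 * j + 3)! := by
        have : m + 3 * (j + 1) + 3 = (m + 3 * j + 3) + 3 := by ring
        rw [this]
        simp [Nat.factorial_succ]; ring
      have e2 : (j + 1 + 2)! = (j + 3) * (j+2)! := by
        simp [Nat.factorial_succ]
      rw [e1, e2, pow_succ]
      have : 3 * (j + 3) ≤ (m + 3 * j + 6) * (m + 3 * j + 5) * (m + 3 * j + 4) := by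
        have : (3 * j + 6) * 2 * 1 ≤ (m + 3 * j + 6) * (m + 3 * j + 5) * (m + 3 * j + 4) := by
          apply Nat.mul_le_mul (Nat.mul_le_mul _ _) <;> omega
        omega
      calc 2 * (3 ^ (j + 1) * 3) * ((j + 3) * (j + 2)!) * m ! 
          = (3 * (j+3)) * (2 * 3 ^ (j + 1) * (j + 2)! * m !) := by ring
        _ < (3 * (j+3)) * (m + 3 * j + 3)! := by
            apply Nat.mul_lt_mul_of_pos_left ih' (by positivity)
        _ ≤ _ := Nat.mul_le_mul_right _ this
    · -- m = 0, j = 0
      have hm : m = 0 := by omega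
      have hj0 : j = 0 := by omega
      subst hm hj0
      decide

theorem arith_main (n k : ℕ) (hn : 7 ≤ n) (hk : 1 ≤ k) (hkn : 3 * (k + 1) ≤ n) :
    2 * ((n - 3 * (k + 1))! * 3 ^ (k + 1) * (k + 1)!) < (n - 3)! * 3 := by
  obtain ⟨j, rfl⟩ : ∃ j, k = j + 1 := ⟨k - 1, by omega⟩
  obtain ⟨m, rfl⟩ : ∃ m, n = m + 3 * (j + 1 + 1) := ⟨n - 3 * (j + 1 + 1), by omega⟩
  have h := arith_aux j m (by omega)
  have e1 : m + 3 * (j + 1 + 1) - 3 * (j + 1 + 1) = m := by omega
  have e2 : m + 3 * (j + 1 + 1) - 3 = m + 3 * j + 3 := by omega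
  rw [e1, e2]
  calc 2 * (m ! * 3 ^ (j + 1 + 1) * (j + 1 + 1)!) = (2 * 3 ^ (j + 1) * (j + 2)! * m !) * 3 := by
        rw [pow_succ 3 (j+1)]; ring
    _ < (m + 3 * j + 3)! * 3 := Nat.mul_lt_mul_of_pos_right h (by norm_num)

end Arith

open Equiv Equiv.Perm Subgroup

section Centralizer
variable {n : ℕ}

/-- cardinality of the centralizer in `A_n` versus in `S_n` -/
lemma card_centralizer_rel (g : alternatingGroup (Fin n)) :
    Nat.card (centralizer {(g : Perm (Fin n))}) =
      (alternatingGroup (Fin n)).relIndex (centralizer {(g : Perm (Fin n))}) *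
      Nat.card (centralizer ({g} : Set (alternatingGroup (Fin n)))) := by
  have h1 := card_mul_index ((alternatingGroup (Fin n)).subgroupOf (centralizer {(g : Perm (Fin n))}))
  have e : ((alternatingGroup (Fin n)).subgroupOf (centralizer {(g : Perm (Fin n))})) ≃
      centralizer ({g} : Set (alternatingGroup (Fin n))) :=
    { toFun := fun x => ⟨⟨x.1.1, x.2⟩, by
        have := x.1.2
        rw [mem_centralizer_singleton_iff] at this
        rw [mem_centralizer_singleton_iff]
        exact Subtype.ext this⟩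
      invFun := fun y => ⟨⟨y.1.1, by
        have := y.2
        rw [mem_centralizer_singleton_iff] at this
        rw [mem_centralizer_singleton_iff]
        exact congrArg Subtype.val this⟩, y.1.2⟩
      left_inv := fun x => rfl
      right_inv := fun y => rfl }
  rw [← h1, Nat.card_congr e, mul_comm]
  rfl

lemma card_centralizer_mulEquiv {G : Type*} [Group G] (f : G ≃* G) (g : G) :
    Nat.card (centralizer ({f g} : Set G)) = Nat.card (centralizer ({g} : Set G)) := by
  symm
  refine Nat.card_congr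
    { toFun := fun x => ⟨f x.1, ?_⟩
      invFun := fun y => ⟨f.symm y.1, ?_⟩
      left_inv := fun x => by simp
      right_inv := fun y => by simp }
  · have := x.2
    rw [mem_centralizer_singleton_iff] at this ⊢
    rw [← map_mul, ← map_mul, this]
  · have := y.2
    rw [mem_centralizer_singleton_iff] at this ⊢
    apply f.injective
    rw [map_mul, map_mul]
    simpa using this

lemma relIndex_alt_eq (C : Subgroup (Perm (Fin n))) (hn : 2 ≤ n) :
    (alternatingGroup (Fin n)).relIndex C = 1 ∨ (alternatingGroup (Fin n)).relIndex C = 2 := by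
  have : Nontrivial (Fin n) := Fin.nontrivial_iff_two_le.mpr hn
  have h := relIndex_dvd_index_of_normal (alternatingGroup (Fin n)) C
  rw [alternatingGroup.index_eq_two] at h
  exact (Nat.dvd_prime Nat.prime_two).mp h


lemma card_centralizer_replicate (g : Perm (Fin n)) (k : ℕ)
    (hg : g.cycleType = Multiset.replicate (k + 1) 3) :
    Nat.card (centralizer {g}) = (n - 3 * (k + 1)).factorial * 3 ^ (k + 1) * (k + 1).factorial := by
  rw [nat_card_centralizer, hg]
  have h1 : (Multiset.replicate (k + 1) 3).toFinset = {3} := by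
    rw [Multiset.toFinset_replicate]; simp
  rw [h1, Finset.prod_singleton, Multiset.count_replicate_self, Multiset.sum_replicate,
    Multiset.prod_replicate, Fintype.card_fin, smul_eq_mul, mul_comm (k + 1) 3]

lemma isThreeCycle_map (hn : 4 ≤ n) (h6 : n ≠ 6) (f : alternatingGroup (Fin n) ≃* alternatingGroup (Fin n))
    (g : alternatingGroup (Fin n)) (hg : IsThreeCycle (g : Perm (Fin n))) :
    IsThreeCycle (f g : Perm (Fin n)) := by
  have ho : orderOf (f g : Perm (Fin n)) = 3 := by
    rw [Subgroup.orderOf_coe, MulEquiv.orderOf_eq, ← Subgroup.orderOf_coe, hg.orderOf]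
  obtain ⟨k, hk⟩ := cycleType_prime_order (σ := (f g : Perm (Fin n))) (by rw [ho]; norm_num)
  rw [ho] at hk
  rcases Nat.eq_zero_or_pos k with rfl | hkpos
  · rw [IsThreeCycle, hk]; rfl
  exfalso
  have hsum : 3 * (k + 1) ≤ n := by
    have := (f g : Perm (Fin n)).sum_cycleType
    rw [hk, Multiset.sum_replicate, smul_eq_mul] at this
    have h2 := Finset.card_le_univ (f g : Perm (Fin n)).support
    rw [Fintype.card_fin] at h2
    omega
  have hn7 : 7 ≤ n := by omega
  have c1 := card_centralizer_replicate (f g : Perm (Fin n)) k hk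
  have c2 := card_centralizer_replicate (g : Perm (Fin n)) 0 (by rw [hg.cycleType]; rfl)
  have r1 := card_centralizer_rel (f g)
  have r2 := card_centralizer_rel g
  rw [card_centralizer_mulEquiv] at r1
  have a := arith_main n k hn7 hkpos hsum
  rcases relIndex_alt_eq (centralizer {(f g : Perm (Fin n))}) (by omega) with h1 | h1 <;>
  rcases relIndex_alt_eq (centralizer {(g : Perm (Fin n))}) (by omega) with h2 | h2 <;>
  · rw [h1] at r1
    rw [h2] at r2
    simp only [zero_add, pow_one, Nat.factorial_one, mul_one] at c2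
    omega


end Centralizer

section ThreeCycle

variable {α : Type*} [DecidableEq α] [Fintype α]

lemma tc_pow3 {s : Perm α} (hs : IsThreeCycle s) (x : α) : s (s (s x)) = x := by
  have h3 : s ^ 3 = 1 := by rw [← hs.orderOf]; exact pow_orderOf_eq_one s
  have := congrArg (fun p : Perm α => p x) h3
  simpa [pow_succ, Perm.mul_apply] using this

lemma tc_ne2 {s : Perm α} (hs : IsThreeCycle s) {x : α} (hx : s x ≠ x) : s (s x) ≠ x := by
  intro h
  have := tc_pow3 hs x
  rw [h] at this
  exact hx this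

lemma tc_supp {s : Perm α} (hs : IsThreeCycle s) {x y : α} (hx : s x ≠ x) (hy : s y ≠ y) :
    y = x ∨ y = s x ∨ y = s (s x) := by
  have hcard := hs.card_support
  have h1 : s (s x) ≠ s x := fun h => hx (s.injective h)
  have h2 : s (s x) ≠ x := tc_ne2 hs hx
  have hsub : ({x, s x, s (s x)} : Finset α) ⊆ s.support := by
    intro z hz
    simp only [Finset.mem_insert, Finset.mem_singleton] at hz
    rw [mem_support]
    rcases hz with rfl | rfl | rfl
    · exact hx
    · exact fun h => hx (s.injective h)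
    · exact fun h => hx (s.injective (s.injective h))
  have hc3 : ({x, s x, s (s x)} : Finset α).card = 3 := by
    rw [Finset.card_insert_of_notMem, Finset.card_insert_of_notMem, Finset.card_singleton]
    · simpa using h1.symm
    · simp only [Finset.mem_insert, Finset.mem_singleton, not_or]
      exact ⟨hx.symm, h2.symm⟩
  have := Finset.eq_of_subset_of_card_le hsub (by rw [hcard, hc3])
  have hy' : y ∈ s.support := mem_support.mpr hy
  rw [← this] at hy'
  simpa using hy'

lemma tc_ext {s t : Perm α} (hs : IsThreeCycle s) (ht : IsThreeCycle t) {a : α}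
    (h1 : s a = t a) (ha : s a ≠ a) (h2 : s (s a) = t (t a)) : s = t := by
  ext y
  by_cases hy : s y = y
  · by_cases hy' : t y = y
    · rw [hy, hy']
    · exfalso
      have ha' : t a ≠ a := h1 ▸ ha
      rcases tc_supp ht ha' hy' with rfl | rfl | rfl
      · exact ha hy
      · rw [← h1] at hy; exact ha (s.injective hy)
      · rw [← h2] at hy
        exact ha (s.injective (s.injective hy))
  · rcases tc_supp hs ha hy with rfl | rfl | rfl
    · exact h1
    · rw [h2, h1]
    · rw [tc_pow3 hs, h2, tc_pow3 ht]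

/-- Fact 1: two 3-cycles whose product is an involution share an oriented edge. -/
lemma tc_fact1 {s t : Perm α} (hs : IsThreeCycle s) (ht : IsThreeCycle t)
    (H : ∀ x, s (t (s (t x))) = x) (N : ∃ x, s (t x) ≠ x) : ∃ a, s a = t a ∧ s a ≠ a := by
  by_contra hneg
  push Not at hneg
  obtain ⟨x, hx⟩ := N
  by_cases htx : t x = x
  · -- Case A
    rw [htx] at hx
    have h := H x
    rw [htx] at h
    -- s (t (s x)) = x = s (s (s x))
    have h' : t (s x) = s (s x) := s.injective (by rw [h, tc_pow3 hs])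
    have := hneg (s x) h'.symm
    exact hx (s.injective this)
  · -- Case B
    have h := H x
    by_cases hsy : s (t x) = t x
    · -- B1
      rw [hsy] at h
      have h1 : s (t (t x)) = t (t (t x)) := by rw [h, tc_pow3 ht]
      have h2 := hneg _ h1
      rw [h] at h2
      -- x = t (t x)
      apply htx
      have := tc_pow3 ht x
      rw [← h2] at this
      exact this
    · -- B2
      have hne : s (t x) ≠ t (t x) := fun h' => hsy (hneg _ h')
      by_cases hts : t (s (t x)) = s (t x)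
      · -- B2a
        rw [hts] at h
        have h1 : s x = t x := by
          have := tc_pow3 hs (t x)
          rw [h] at this
          exact this
        have h2 := hneg x h1
        exact htx (h1 ▸ h2)
      · -- B2b
        rcases tc_supp ht htx hts with h' | h' | h'
        · exact hx h'
        · exact hsy h'
        · exact hne h'

/-- Fact 2. -/
lemma tc_fact2 {s t u : Perm α} (hs : IsThreeCycle s) (ht : IsThreeCycle t) (hu : IsThreeCycle u)
    (hst : s ≠ t) {a : α} (h1 : s a = t a) (ha : s a ≠ a)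
    (hsu : ∃ a', s a' = u a' ∧ s a' ≠ a') (htu : ∃ a'', t a'' = u a'' ∧ t a'' ≠ a'') :
    u a = s a := by
  obtain ⟨a', h2, ha'⟩ := hsu
  obtain ⟨a'', h3, ha''⟩ := htu
  have hta : t a ≠ a := h1 ▸ ha
  have hcd : s (s a) ≠ t (t a) := fun h => hst (tc_ext hs ht h1 ha h)
  rcases tc_supp hs ha ha' with rfl | rfl | rfl
  · exact h2.symm
  · rcases tc_supp ht hta ha'' with rfl | rfl | rfl
    · rw [← h3, h1]
    · -- a' = s a = b, a'' = t a = b
      exfalso
      apply hcd
      rw [h2, h1, ← h3]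
    · -- a' = b, a'' = d = t (t a): u b = c, u d = a
      exfalso
      rw [tc_pow3 ht] at h3
      -- h2 : s (s a) = u (s a); h3 : a = u (t (t a))
      have hub : u (s a) ≠ s a := h2 ▸ ha'
      have hud : u (t (t a)) ≠ t (t a) := by
        rw [← h3]; exact (tc_ne2 ht hta).symm
      rcases tc_supp hu hub hud with h | h | h
      · -- d = b : t (t a) = s a = t a
        rw [h1] at h
        exact hta (t.injective h)
      · exact hcd (by rw [h, h2])
      · -- d = u (u b); u d = a → u (u (u b)) = a → b = a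
        rw [h, tc_pow3 hu] at h3
        exact ha h3.symm
  · rcases tc_supp ht hta ha'' with rfl | rfl | rfl
    · rw [← h3, h1]
    · -- a' = c = s (s a): u c = a; a'' = b = t a : u b = d
      exfalso
      rw [tc_pow3 hs] at h2
      -- h2 : a = u (s (s a)); h3 : t (t a) = u (t a)
      have hub : u (t a) ≠ t a := h3 ▸ ha''
      have huc : u (s (s a)) ≠ s (s a) := by
        rw [← h2]; exact (tc_ne2 hs ha).symm
      rcases tc_supp hu hub huc with h | h | h
      · -- c = b: s (s a) = t a = s a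
        rw [← h1] at h
        exact ha (s.injective h)
      · exact hcd (by rw [h, h3])
      · rw [h, tc_pow3 hu] at h2
        exact hta h2.symm
    · -- a' = c, a'' = d: u c = a = u d
      exfalso
      rw [tc_pow3 hs] at h2
      rw [tc_pow3 ht] at h3
      exact hcd (u.injective (by rw [← h2, ← h3]))


/-- the 3-cycle `x → y → z → x` -/
def c3 (x y z : α) : Perm α := swap x y * swap y z

lemma c3_apply1 {x y z : α} (hxy : x ≠ y) (hxz : x ≠ z) : c3 x y z x = y := by
  simp [c3, swap_apply_of_ne_of_ne hxy hxz]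

lemma c3_apply2 {x y z : α} (hxz : x ≠ z) (hyz : y ≠ z) : c3 x y z y = z := by
  simp [c3, swap_apply_of_ne_of_ne hxz.symm hyz.symm]

lemma c3_apply3 {x y z : α} : c3 x y z z = x := by
  simp [c3]

lemma c3_apply_of_ne {x y z w : α} (h1 : w ≠ x) (h2 : w ≠ y) (h3 : w ≠ z) : c3 x y z w = w := by
  simp [c3, swap_apply_of_ne_of_ne h2 h3, swap_apply_of_ne_of_ne h1 h2]

lemma c3_isThreeCycle {x y z : α} (hxy : x ≠ y) (hxz : x ≠ z) (hyz : y ≠ z) :
    IsThreeCycle (c3 x y z) := by
  have := isThreeCycle_swap_mul_swap_same hxy.symm hyz hxz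
  rwa [swap_comm y x] at this

lemma c3_mem_alt {x y z : α} (hxy : x ≠ y) (hxz : x ≠ z) (hyz : y ≠ z) :
    c3 x y z ∈ alternatingGroup α := (c3_isThreeCycle hxy hxz hyz).mem_alternatingGroup

lemma tc_eq_c3 {u : Perm α} (hu : IsThreeCycle u) {x : α} (hx : u x ≠ x) :
    u = c3 x (u x) (u (u x)) := by
  have h1 : x ≠ u x := hx.symm
  have h2 : x ≠ u (u x) := (tc_ne2 hu hx).symm
  have h3 : u x ≠ u (u x) := fun h => hx (u.injective h.symm)
  apply tc_ext hu (c3_isThreeCycle h1 h2 h3) (a := x)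
  · rw [c3_apply1 h1 h2]
  · exact hx
  · rw [c3_apply1 h1 h2, c3_apply2 h2 h3]

lemma c3_rot {x y z : α} (hxy : x ≠ y) (hxz : x ≠ z) (hyz : y ≠ z) : c3 x y z = c3 y z x := by
  apply tc_ext (c3_isThreeCycle hxy hxz hyz) (c3_isThreeCycle hyz hxy.symm hxz.symm) (a := x)
  · rw [c3_apply1 hxy hxz, c3_apply3]
  · rw [c3_apply1 hxy hxz]; exact hxy.symm
  · rw [c3_apply1 hxy hxz, c3_apply2 hxz hyz, c3_apply3, c3_apply1 hyz hxy.symm]

lemma c3_conj (h : Perm α) (x y z : α) : h * c3 x y z * h⁻¹ = c3 (h x) (h y) (h z) := by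
  simp only [c3, swap_apply_apply]
  group

lemma c3_inv (x y z : α) : (c3 x y z)⁻¹ = c3 z y x := by
  simp [c3, mul_inv_rev, swap_inv, swap_comm]


/-- the generating set `{(p q i)}` -/
def genSet (p q : α) : Set (Perm α) := {g | ∃ i, i ≠ p ∧ i ≠ q ∧ g = c3 p q i}

variable {p q : α}

lemma gen_i (hpq : p ≠ q) {i : α} (hip : i ≠ p) (hiq : i ≠ q) : c3 p q i ∈ closure (genSet p q) :=
  subset_closure ⟨i, hip, hiq, rfl⟩

lemma gen_conj {h : Perm α} (hh : h ∈ closure (genSet p q)) {x y z : α}
    (hc : c3 x y z ∈ closure (genSet p q)) : c3 (h x) (h y) (h z) ∈ closure (genSet p q) := by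
  rw [← c3_conj]
  exact mul_mem (mul_mem hh hc) (inv_mem hh)

lemma gen_q (hpq : p ≠ q) {i j : α} (hip : i ≠ p) (hiq : i ≠ q) (hjp : j ≠ p) (hjq : j ≠ q)
    (hij : i ≠ j) : c3 q i j ∈ closure (genSet p q) := by
  have := gen_conj (gen_i hpq hip hiq) (gen_i hpq hjp hjq)
  rwa [c3_apply1 hpq hip.symm, c3_apply2 hip.symm hiq.symm, c3_apply_of_ne hjp hjq hij.symm] at this

lemma gen_p (hpq : p ≠ q) {i j : α} (hip : i ≠ p) (hiq : i ≠ q) (hjp : j ≠ p) (hjq : j ≠ q)
    (hij : i ≠ j) : c3 p i j ∈ closure (genSet p q) := by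
  -- conj of c3 q j i by c3 p q j gives c3 j p i = c3 p i j
  have := gen_conj (gen_i hpq hjp hjq) (gen_q hpq hjp hjq hip hiq hij.symm)
  rw [c3_apply2 hjp.symm hjq.symm, c3_apply3, c3_apply_of_ne hip hiq hij] at this
  rwa [c3_rot hjp hij.symm hip.symm] at this

lemma gen_none (hpq : p ≠ q) {i j k : α} (hip : i ≠ p) (hiq : i ≠ q) (hjp : j ≠ p) (hjq : j ≠ q)
    (hkp : k ≠ p) (hkq : k ≠ q) (hij : i ≠ j) (hik : i ≠ k) (hjk : j ≠ k) :
    c3 k i j ∈ closure (genSet p q) := by
  have := gen_conj (gen_i hpq hkp hkq) (gen_q hpq hip hiq hjp hjq hij)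
  rwa [c3_apply2 hkp.symm hkq.symm, c3_apply_of_ne hip hiq hik, c3_apply_of_ne hjp hjq hjk] at this

lemma gen_qp (hpq : p ≠ q) {i : α} (hip : i ≠ p) (hiq : i ≠ q) :
    c3 q p i ∈ closure (genSet p q) := by
  have := inv_mem (gen_i hpq hip hiq)
  rw [c3_inv, c3_rot hiq hip hpq.symm] at this
  exact this

/-- 3-cycles starting at `p` -/
lemma gen_key_p (hpq : p ≠ q) {y z : α} (hy : p ≠ y) (hz : p ≠ z) (hyz : y ≠ z) :
    c3 p y z ∈ closure (genSet p q) := by
  by_cases hqy : y = q
  · subst hqy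
    exact gen_i hpq hz.symm hyz.symm
  by_cases hqz : z = q
  · subst hqz
    -- c3 p y q = c3 q p y
    rw [c3_rot hy hz hyz, c3_rot hyz hy.symm hz.symm]
    exact gen_qp hpq hy.symm hqy
  exact gen_p hpq hy.symm hqy hz.symm hqz hyz

/-- 3-cycles not involving `p` -/
lemma gen_key_np (hpq : p ≠ q) {x y z : α} (hx : x ≠ p) (hy : y ≠ p) (hz : z ≠ p)
    (hxy : x ≠ y) (hxz : x ≠ z) (hyz : y ≠ z) :
    c3 x y z ∈ closure (genSet p q) := by
  by_cases hqx : x = q
  · subst hqx
    exact gen_q hpq hy hxy.symm hz hxz.symm hyz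
  by_cases hqy : y = q
  · subst hqy
    rw [c3_rot hxy hxz hyz]
    exact gen_q hpq hz hyz.symm hx hxy hxz.symm
  by_cases hqz : z = q
  · subst hqz
    rw [c3_rot hxy hxz hyz, c3_rot hyz hxy.symm hxz.symm]
    exact gen_q hpq hx hxz hy hyz hxy
  exact gen_none hpq hy hqy hz hqz hx hqx hyz hxy.symm hxz.symm

lemma gen_key (hpq : p ≠ q) {x y z : α} (hxy : x ≠ y) (hxz : x ≠ z) (hyz : y ≠ z) :
    c3 x y z ∈ closure (genSet p q) := by
  by_cases hpx : x = p
  · subst hpx
    exact gen_key_p hpq hxy hxz hyz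
  by_cases hpy : y = p
  · subst hpy
    rw [c3_rot hxy hxz hyz]
    exact gen_key_p hpq hyz hxy.symm hxz.symm
  by_cases hpz : z = p
  · subst hpz
    rw [c3_rot hxy hxz hyz, c3_rot hyz hxy.symm hxz.symm]
    exact gen_key_p hpq hxz.symm hyz.symm hxy
  exact gen_key_np hpq hpx hpy hpz hxy hxz hyz

theorem closure_genSet (hpq : p ≠ q) : closure (genSet p q) = alternatingGroup α := by
  apply le_antisymm
  · rw [closure_le]
    rintro g ⟨i, hip, hiq, rfl⟩
    exact c3_mem_alt hpq hip.symm hiq.symm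
  · rw [← closure_three_cycles_eq_alternating, closure_le]
    intro u hu
    have hu' : IsThreeCycle u := hu
    obtain ⟨x, hx⟩ : ∃ x, u x ≠ x := by
      by_contra hne
      push Not at hne
      have : u = 1 := by ext y; simp [hne y]
      rw [this] at hu'
      exact (IsThreeCycle.ne_one hu') rfl
    rw [SetLike.mem_coe, tc_eq_c3 hu' hx]
    exact gen_key hpq hx.symm (tc_ne2 hu' hx).symm (fun h => hx (u.injective h.symm))


/-- the product of two generators is an involution -/
lemma c3_mul_c3_sq {p q i j : α} (hpq : p ≠ q) (hip : i ≠ p) (hiq : i ≠ q) (hjp : j ≠ p)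
    (hjq : j ≠ q) (hij : i ≠ j) (x : α) :
    c3 p q i (c3 p q j (c3 p q i (c3 p q j x))) = x := by
  by_cases hxp : x = p
  · subst hxp
    rw [c3_apply1 hpq hjp.symm, c3_apply2 hip.symm hiq.symm, c3_apply_of_ne hip hiq hij,
      c3_apply3]
  by_cases hxq : x = q
  · subst hxq
    rw [c3_apply2 hjp.symm hjq.symm, c3_apply_of_ne hjp hjq hij.symm, c3_apply3,
      c3_apply1 hpq hip.symm]
  by_cases hxi : x = i
  · subst hxi
    rw [c3_apply_of_ne hip hiq hij, c3_apply3, c3_apply1 hpq hjp.symm,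
      c3_apply2 hip.symm hiq.symm]
  by_cases hxj : x = j
  · subst hxj
    rw [c3_apply3, c3_apply1 hpq hip.symm, c3_apply2 hjp.symm hjq.symm,
      c3_apply_of_ne hjp hjq hij.symm]
  rw [c3_apply_of_ne hxp hxq hxj, c3_apply_of_ne hxp hxq hxi, c3_apply_of_ne hxp hxq hxj,
    c3_apply_of_ne hxp hxq hxi]


/-- generator as an element of the alternating group -/
def tt (p q i : α) : alternatingGroup α :=
  if h : p ≠ q ∧ i ≠ p ∧ i ≠ q then ⟨c3 p q i, c3_mem_alt h.1 h.2.1.symm h.2.2.symm⟩ else 1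

lemma tt_coe {p q i : α} (hpq : p ≠ q) (hip : i ≠ p) (hiq : i ≠ q) :
    (tt p q i : Perm α) = c3 p q i := by
  simp [tt, hpq, hip, hiq]

theorem exists_conj (f : alternatingGroup α ≃* alternatingGroup α)
    (hf : ∀ g : alternatingGroup α, IsThreeCycle (g : Perm α) → IsThreeCycle (f g : Perm α))
    {p q i0 i1 : α} (hpq : p ≠ q) (h0p : i0 ≠ p) (h0q : i0 ≠ q) (h1p : i1 ≠ p) (h1q : i1 ≠ q)
    (h01 : i0 ≠ i1) :
    ∃ σ : Perm α, ∀ g, f g = MulAut.conjNormal σ g := by
  set s : α → Perm α := fun i => (f (tt p q i) : Perm α) with hs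
  have hs3 : ∀ i, i ≠ p → i ≠ q → IsThreeCycle (s i) := fun i hip hiq =>
    hf _ (by rw [tt_coe hpq hip hiq]; exact c3_isThreeCycle hpq hip.symm hiq.symm)
  have hsinj : ∀ i j, i ≠ p → i ≠ q → j ≠ p → j ≠ q → s i = s j → i = j := by
    intro i j hip hiq hjp hjq h
    have h1 : tt p q i = tt p q j := f.injective (Subtype.ext h)
    have h2 := congrArg (fun g : alternatingGroup α => (g : Perm α) q) h1
    simp only [tt_coe hpq hip hiq, tt_coe hpq hjp hjq] at h2
    rwa [c3_apply2 hip.symm hiq.symm, c3_apply2 hjp.symm hjq.symm] at h2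
  have hH : ∀ i j, i ≠ p → i ≠ q → j ≠ p → j ≠ q → i ≠ j →
      ∀ x, s i (s j (s i (s j x))) = x := by
    intro i j hip hiq hjp hjq hij x
    have e : (tt p q i * tt p q j) * (tt p q i * tt p q j) = 1 := by
      apply Subtype.ext
      ext y
      simp only [Subgroup.coe_mul, tt_coe hpq hip hiq, tt_coe hpq hjp hjq, Perm.mul_apply,
        Subgroup.coe_one, Perm.one_apply]
      exact c3_mul_c3_sq hpq hip hiq hjp hjq hij y
    have := congrArg (fun g => ((f g : alternatingGroup α) : Perm α) x) e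
    simpa [map_mul] using this
  have hN : ∀ i j, i ≠ p → i ≠ q → j ≠ p → j ≠ q → i ≠ j → ∃ x, s i (s j x) ≠ x := by
    intro i j hip hiq hjp hjq hij
    by_contra hne
    push Not at hne
    have h1 : f (tt p q i * tt p q j) = 1 := by
      apply Subtype.ext
      ext x
      simpa [map_mul] using hne x
    have h2 := (MulEquiv.map_eq_one_iff f).mp h1
    have h3 := congrArg (fun g : alternatingGroup α => (g : Perm α) p) h2
    simp only [Subgroup.coe_mul, tt_coe hpq hip hiq, tt_coe hpq hjp hjq, Perm.mul_apply,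
      Subgroup.coe_one, Perm.one_apply, c3_apply1 hpq hjp.symm, c3_apply2 hip.symm hiq.symm] at h3
    exact hip h3
  have hadj : ∀ i j, i ≠ p → i ≠ q → j ≠ p → j ≠ q → i ≠ j → ∃ a, s i a = s j a ∧ s i a ≠ a :=
    fun i j hip hiq hjp hjq hij =>
      tc_fact1 (hs3 i hip hiq) (hs3 j hjp hjq) (hH i j hip hiq hjp hjq hij)
        (hN i j hip hiq hjp hjq hij)
  obtain ⟨a, ha1, ha2⟩ := hadj i0 i1 h0p h0q h1p h1q h01
  obtain ⟨b, hb0⟩ : ∃ b, b = s i0 a := ⟨_, rfl⟩
  have hab : b ≠ a := hb0 ▸ ha2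
  have hb : ∀ i, i ≠ p → i ≠ q → s i a = b := by
    intro i hip hiq
    by_cases h0 : i = i0
    · subst h0; exact hb0.symm
    by_cases h1 : i = i1
    · subst h1; rw [hb0]; exact ha1.symm
    rw [hb0]
    exact tc_fact2 (hs3 i0 h0p h0q) (hs3 i1 h1p h1q) (hs3 i hip hiq)
      (fun h => h01 (hsinj _ _ h0p h0q h1p h1q h)) ha1 ha2
      (hadj i0 i h0p h0q hip hiq (Ne.symm h0)) (hadj i1 i h1p h1q hip hiq (Ne.symm h1))
  have hc_b : ∀ i, i ≠ p → i ≠ q → s i b ≠ b := by
    intro i hip hiq h
    exact hab ((s i).injective (h.trans (hb i hip hiq).symm))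
  have hc_a : ∀ i, i ≠ p → i ≠ q → s i b ≠ a := by
    intro i hip hiq
    have := tc_ne2 (hs3 i hip hiq) (x := a) (by rw [hb i hip hiq]; exact hab)
    rwa [hb i hip hiq] at this
  have hc_inj : ∀ i j, i ≠ p → i ≠ q → j ≠ p → j ≠ q → s i b = s j b → i = j := by
    intro i j hip hiq hjp hjq h
    apply hsinj _ _ hip hiq hjp hjq
    apply tc_ext (hs3 i hip hiq) (hs3 j hjp hjq) (a := a)
    · rw [hb i hip hiq, hb j hjp hjq]
    · rw [hb i hip hiq]; exact hab
    · rw [hb i hip hiq, hb j hjp hjq]; exact h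
  let σ₀ : α → α := fun x => if x = p then a else if x = q then b else s x b
  have hσp : σ₀ p = a := by simp [σ₀]
  have hσq : σ₀ q = b := by simp [σ₀, hpq.symm]
  have hσi : ∀ i, i ≠ p → i ≠ q → σ₀ i = s i b := fun i hip hiq => by simp [σ₀, hip, hiq]
  have hσinj : Function.Injective σ₀ := by
    intro x y hxy
    by_cases hxp : x = p
    · subst hxp
      by_cases hyp : y = x
      · exact hyp.symm
      by_cases hyq : y = q
      · subst hyq; rw [hσp, hσq] at hxy; exact absurd hxy.symm hab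
      · rw [hσp, hσi y hyp hyq] at hxy; exact absurd hxy.symm (hc_a y hyp hyq)
    by_cases hxq : x = q
    · subst hxq
      by_cases hyp : y = p
      · subst hyp; rw [hσp, hσq] at hxy; exact absurd hxy hab
      by_cases hyq : y = x
      · exact hyq.symm
      · rw [hσq, hσi y hyp hyq] at hxy; exact absurd hxy.symm (hc_b y hyp hyq)
    by_cases hyp : y = p
    · subst hyp; rw [hσp, hσi x hxp hxq] at hxy; exact absurd hxy (hc_a x hxp hxq)
    by_cases hyq : y = q
    · subst hyq; rw [hσq, hσi x hxp hxq] at hxy; exact absurd hxy (hc_b x hxp hxq)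
    rw [hσi x hxp hxq, hσi y hyp hyq] at hxy
    exact hc_inj x y hxp hxq hyp hyq hxy
  let σ : Perm α := Equiv.ofBijective σ₀ ⟨hσinj, Finite.surjective_of_injective hσinj⟩
  have hσ : ∀ x, σ x = σ₀ x := fun x => rfl
  have hgen : ∀ i, i ≠ p → i ≠ q → s i = σ * c3 p q i * σ⁻¹ := by
    intro i hip hiq
    rw [c3_conj, hσ, hσ, hσ, hσp, hσq, hσi i hip hiq]
    have := tc_eq_c3 (hs3 i hip hiq) (x := a) (by rw [hb i hip hiq]; exact hab)
    rwa [hb i hip hiq] at this
  refine ⟨σ, ?_⟩
  have key : ∀ x ∈ closure (genSet p q), ∃ h : x ∈ alternatingGroup α,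
      f ⟨x, h⟩ = MulAut.conjNormal σ ⟨x, h⟩ := by
    intro x hx
    induction hx using closure_induction with
    | mem x hx =>
      obtain ⟨i, hip, hiq, rfl⟩ := hx
      refine ⟨c3_mem_alt hpq hip.symm hiq.symm, ?_⟩
      apply Subtype.ext
      rw [MulAut.conjNormal_apply]
      have h1 := hgen i hip hiq
      have h2 : tt p q i = ⟨c3 p q i, c3_mem_alt hpq hip.symm hiq.symm⟩ :=
        Subtype.ext (tt_coe hpq hip hiq)
      rw [← h2, tt_coe hpq hip hiq]
      exact h1
    | one =>
      refine ⟨one_mem _, ?_⟩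
      have : (⟨1, one_mem _⟩ : alternatingGroup α) = 1 := rfl
      rw [this, map_one, map_one]
    | mul x y _ _ hx hy =>
      obtain ⟨h1, e1⟩ := hx
      obtain ⟨h2, e2⟩ := hy
      refine ⟨mul_mem h1 h2, ?_⟩
      have : (⟨x * y, mul_mem h1 h2⟩ : alternatingGroup α) = ⟨x, h1⟩ * ⟨y, h2⟩ := rfl
      rw [this, map_mul, map_mul, e1, e2]
    | inv x _ hx =>
      obtain ⟨h1, e1⟩ := hx
      refine ⟨inv_mem h1, ?_⟩
      have : (⟨x⁻¹, inv_mem h1⟩ : alternatingGroup α) = (⟨x, h1⟩ : alternatingGroup α)⁻¹ := rfl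
      rw [this, map_inv, map_inv, e1]
  intro g
  obtain ⟨h, e⟩ := key g.1 (by rw [closure_genSet hpq]; exact g.2)
  exact e


theorem conjNormal_injective (h4 : 4 ≤ Fintype.card α) :
    Function.Injective (MulAut.conjNormal : Perm α →* MulAut (alternatingGroup α)) := by
  rw [injective_iff_map_eq_one]
  intro π hπ
  by_contra hne
  obtain ⟨x, hx⟩ : ∃ x, π x ≠ x := by
    by_contra h
    push Not at h
    exact hne (by ext y; simp [h y])
  have : 2 ≤ (({x, π x} : Finset α)ᶜ).card := by
    rw [← Nat.add_le_add_iff_left, Finset.card_add_card_compl, Finset.card_pair hx.symm]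
    exact h4
  rw [← Nat.lt_iff_add_one_le, Finset.one_lt_card_iff] at this
  obtain ⟨z, w, hz, hw, hzw⟩ := this
  simp only [Finset.compl_insert, Finset.mem_erase, ← ne_eq, Finset.mem_compl,
    Finset.mem_singleton] at hz hw
  have hxz : x ≠ z := hz.1.symm
  have hxw : x ≠ w := hw.1.symm
  have h1 := congrArg (fun m : MulAut (alternatingGroup α) =>
    ((m ⟨c3 x z w, c3_mem_alt hxz hxw hzw⟩ : alternatingGroup α) : Perm α) (π x)) hπ
  simp only [MulAut.conjNormal_apply, MulAut.one_apply, c3_conj] at h1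
  rw [c3_apply1 (fun h => hxz (π.injective h)) (fun h => hxw (π.injective h)),
    c3_apply_of_ne hx hz.2.symm hw.2.symm] at h1
  exact hxz (π.injective h1).symm


end ThreeCycle

/-- Automorphisms of the alternating groups: for n ≥ 4 with n ≠ 6, every automorphism of the alternating group of degree n is conjugation by a unique permutation, i.e. conjugation induces an isomorphism from the symmetric group of degree n onto the automorphism group of the alternating group (so the outer automorphism group has order 2). -/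
theorem result (n : ℕ) (hn : 4 ≤ n) (h6 : n ≠ 6) : Function.Bijective (MulAut.conjNormal : Equiv.Perm (Fin n) →* MulAut ↥(alternatingGroup (Fin n))) := by
  refine ⟨conjNormal_injective (by rw [Fintype.card_fin]; exact hn), fun f => ?_⟩
  have hf : ∀ g : alternatingGroup (Fin n), IsThreeCycle (g : Perm (Fin n)) →
      IsThreeCycle (f g : Perm (Fin n)) := fun g hg => isThreeCycle_map hn h6 f g hg
  have h01 : (⟨0, by omega⟩ : Fin n) ≠ ⟨1, by omega⟩ := by simp [Fin.ext_iff]
  have h20 : (⟨2, by omega⟩ : Fin n) ≠ ⟨0, by omega⟩ := by simp [Fin.ext_iff]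
  have h21 : (⟨2, by omega⟩ : Fin n) ≠ ⟨1, by omega⟩ := by simp [Fin.ext_iff]
  have h30 : (⟨3, by omega⟩ : Fin n) ≠ ⟨0, by omega⟩ := by simp [Fin.ext_iff]
  have h31 : (⟨3, by omega⟩ : Fin n) ≠ ⟨1, by omega⟩ := by simp [Fin.ext_iff]
  have h23 : (⟨2, by omega⟩ : Fin n) ≠ ⟨3, by omega⟩ := by simp [Fin.ext_iff]
  obtain ⟨σ, hσ⟩ := exists_conj f hf h01 h20 h21 h30 h31 h23
  exact ⟨σ, MulEquiv.ext fun g => (hσ g).symm⟩

end Cfsg.Agent.S2119
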