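import Cfsg.Statements.S2395
import Mathlib
-- import your own Cfsg.Agent.* helpers here

set_option autoImplicit false
open Cfsg

namespace Cfsg.Agent.S2395

open Cfsg.Lie

section general
variable {K : Type*} [Field K] (D : ChevalleyDatum)

/-- image of a generator in the abelianization -/
noncomputable def ab (γ : ℕ) (v : K) : Abelianization (D.SteinbergCover K) :=
  Abelianization.of (D.scGen K γ v)

theorem ab_add (γ : ℕ) (hγ : γ < D.nroots) (v w : K) : ab D γ (v + w) = ab D γ v * ab D γ w := by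
  have hmem : D.stX γ v * D.stX γ w * (D.stX γ (v + w))⁻¹ ∈ D.steinbergRelsAB K := by
    left
    exact ⟨γ, v, w, hγ, rfl⟩
  have h1 := PresentedGroup.one_of_mem hmem
  rw [map_mul, map_mul, map_inv, mul_inv_eq_one] at h1
  unfold ab ChevalleyDatum.scGen
  rw [← h1, map_mul]

theorem ab_word (w : List (ℕ × K)) :
    Abelianization.of (PresentedGroup.mk (D.steinbergRelsAB K) (D.stWord w)) =
      (w.map (fun p => ab D p.1 p.2)).prod := by
  unfold ChevalleyDatum.stWord
  induction w with
  | nil => simp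
  | cons a w ih =>
    rw [List.map_cons, List.prod_cons, map_mul, map_mul, ih, List.map_cons, List.prod_cons]
    rfl

theorem ab_rel (r s : ℕ) (hr : r < D.nroots) (hs : s < D.nroots) (hne : s ≠ r) (hneg : s ≠ D.neg r)
    (t u : K) : ((D.commWord K r s t u).map (fun p => ab D p.1 p.2)).prod = 1 := by
  have hmem : (D.stX s u)⁻¹ * (D.stX r t)⁻¹ * D.stX s u * D.stX r t *
      (D.stWord (D.commWord K r s t u))⁻¹ ∈ D.steinbergRelsAB K := by
    right
    exact ⟨r, s, t, u, hr, hs, hne, hneg, rfl⟩
  have h1 := PresentedGroup.one_of_mem hmem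
  have h2 := congrArg (Abelianization.of (G := D.SteinbergCover K)) h1
  rw [map_one] at h2
  simp only [map_mul, map_inv] at h2
  rw [ab_word] at h2
  have h3 : ∀ a b c : Abelianization (D.SteinbergCover K), a⁻¹ * b⁻¹ * a * b * c⁻¹ = c⁻¹ := by
    intro a b c
    rw [mul_comm a⁻¹ b⁻¹, mul_assoc b⁻¹, inv_mul_cancel, mul_one, inv_mul_cancel, one_mul]
  rw [h3, inv_eq_one] at h2
  exact h2

theorem perfect_of_ab (h : ∀ γ < D.nroots, ∀ v : K, ab D γ v = 1) :
    commutator (D.SteinbergCover K) = ⊤ := by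
  rw [eq_top_iff, ← PresentedGroup.closure_range_of, Subgroup.closure_le]
  rintro _ ⟨⟨⟨γ, hγ⟩, v⟩, rfl⟩
  have h1 := h γ hγ v
  have h2 : D.scGen K γ v = PresentedGroup.of (⟨γ, hγ⟩, v) := by
    unfold ChevalleyDatum.scGen ChevalleyDatum.stX
    rw [dif_pos hγ]
    rfl
  rw [← h2]
  change D.scGen K γ v ∈ (commutator (D.SteinbergCover K) : Subgroup _)
  rw [← Abelianization.ker_of, MonoidHom.mem_ker]
  exact h1

/-- check for a witness pair -/
def goodPair (γ : ℕ) (rs : ℕ × ℕ) : Bool :=
  decide (rs.1 < D.nroots) && decide (rs.2 < D.nroots) && decide (rs.2 ≠ rs.1) &&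
    decide (rs.2 ≠ D.neg rs.1) &&
    (decide (D.commTerms rs.1 rs.2 = [(γ, 1, 1, 1)]) || decide (D.commTerms rs.1 rs.2 = [(γ, -1, 1, 1)]))

theorem ab_of_goodPair (γ : ℕ) (rs : ℕ × ℕ) (h : goodPair D γ rs = true) (v : K) : ab D γ v = 1 := by
  unfold goodPair at h
  simp only [Bool.and_eq_true, Bool.or_eq_true, decide_eq_true_eq] at h
  obtain ⟨⟨⟨⟨h1, h2⟩, h3⟩, h4⟩, h5⟩ := h
  rcases h5 with h5 | h5
  · have := ab_rel D rs.1 rs.2 h1 h2 h3 h4 (-v) 1
    unfold ChevalleyDatum.commWord at this
    rw [h5] at this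
    simpa using this
  · have := ab_rel D rs.1 rs.2 h1 h2 h3 h4 v 1
    unfold ChevalleyDatum.commWord at this
    rw [h5] at this
    simpa using this

theorem perfect_of_wit (W : List (ℕ × ℕ))
    (h : (List.range D.nroots).all (fun γ => goodPair D γ (W.getD γ (0, 0))) = true) :
    commutator (D.SteinbergCover K) = ⊤ := by
  apply perfect_of_ab
  intro γ hγ v
  rw [List.all_eq_true] at h
  exact ab_of_goodPair D γ _ (h γ (List.mem_range.2 hγ)) v

theorem two_term {A : Type*} [CommGroup A] (f1 f2 : K → A)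
    (h1 : ∀ v w, f1 (v + w) = f1 v * f1 w) (h2 : ∀ v w, f2 (v + w) = f2 v * f2 w)
    (c1 c2 : K) (hc1 : c1 ≠ 0) (hc2 : c2 ≠ 0) (x : K) (hx0 : x ≠ 0) (hx1 : x ≠ 1)
    (hrel : ∀ t u, f1 (c1 * (-t) ^ 1 * u ^ 1) * f2 (c2 * (-t) ^ 2 * u ^ 1) = 1) :
    (∀ v, f1 v = 1) ∧ (∀ v, f2 v = 1) := by
  have hf2 : ∀ v, f2 v = 1 := by
    have key : ∀ w, f2 (c2 * x * w) = f2 (c2 * x ^ 2 * w) := by
      intro w
      have e1 := hrel 1 (x * w)
      have e2 := hrel x w
      have e3 : c1 * (-1) ^ 1 * (x * w) ^ 1 = c1 * (-x) ^ 1 * w ^ 1 := by ring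
      rw [e3] at e1
      have e4 : f2 (c2 * (-1) ^ 2 * (x * w) ^ 1) = f2 (c2 * (-x) ^ 2 * w ^ 1) := by
        have := e1.trans e2.symm
        exact mul_left_cancel this
      have e5 : c2 * (-1) ^ 2 * (x * w) ^ 1 = c2 * x * w := by ring
      have e6 : c2 * (-x) ^ 2 * w ^ 1 = c2 * x ^ 2 * w := by ring
      rw [e5, e6] at e4
      exact e4
    intro v
    have hne : c2 * x * (x - 1) ≠ 0 :=
      mul_ne_zero (mul_ne_zero hc2 hx0) (sub_ne_zero.2 hx1)
    have k1 := key (v / (c2 * x * (x - 1)))
    have e7 : c2 * x ^ 2 * (v / (c2 * x * (x - 1))) = c2 * x * (v / (c2 * x * (x - 1))) + v := by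
      field_simp
      ring
    rw [e7, h2] at k1
    have : f2 (c2 * x * (v / (c2 * x * (x - 1)))) * 1 = f2 (c2 * x * (v / (c2 * x * (x - 1)))) * f2 v := by
      rw [mul_one]; exact k1
    exact (mul_left_cancel this).symm
  refine ⟨?_, hf2⟩
  intro v
  have e1 := hrel (-1) (v / c1)
  rw [hf2, mul_one] at e1
  have e2 : c1 * (-(-1 : K)) ^ 1 * (v / c1) ^ 1 = v := by
    field_simp
  rw [e2] at e1
  exact e1

end general

section small
variable {K : Type*} [Field K]

theorem B2_perfect (x : K) (hx0 : x ≠ 0) (hx1 : x ≠ 1) :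
    commutator (chevB2.SteinbergCover K) = ⊤ := by
  have hn : chevB2.nroots = 8 := rfl
  have two : ∀ (r s σ L : ℕ) (c1 c2 : ℤ), r < 8 → s < 8 → σ < 8 → L < 8 → s ≠ r → s ≠ chevB2.neg r →
      chevB2.commTerms r s = [(σ, c1, 1, 1), (L, c2, 2, 1)] → ((c1 : K) ≠ 0) → ((c2 : K) ≠ 0) →
      (∀ v : K, ab chevB2 σ v = 1) ∧ (∀ v : K, ab chevB2 L v = 1) := by
    intro r s σ L c1 c2 hr hs hσ hL hne hneg hct hc1 hc2
    apply two_term (ab chevB2 σ) (ab chevB2 L) (ab_add chevB2 σ hσ) (ab_add chevB2 L hL)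
      (c1 : K) (c2 : K) hc1 hc2 x hx0 hx1
    intro t u
    have := ab_rel chevB2 r s hr hs hne hneg t u
    unfold ChevalleyDatum.commWord at this
    rw [hct] at this
    simpa using this
  have p1 := two 1 4 2 0 1 1 (by norm_num) (by norm_num) (by norm_num) (by norm_num) (by decide) (by decide) (by decide) (by simp) (by simp)
  have p2 := two 1 7 5 3 (-1) 1 (by norm_num) (by norm_num) (by norm_num) (by norm_num) (by decide) (by decide) (by decide) (by simp) (by simp)
  have p3 := two 2 7 6 4 1 (-1) (by norm_num) (by norm_num) (by norm_num) (by norm_num) (by decide) (by decide) (by decide) (by simp) (by simp)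
  have p4 := two 5 4 6 7 (-1) (-1) (by norm_num) (by norm_num) (by norm_num) (by norm_num) (by decide) (by decide) (by decide) (by simp) (by simp)
  have p5 := two 2 3 1 0 1 (-1) (by norm_num) (by norm_num) (by norm_num) (by norm_num) (by decide) (by decide) (by decide) (by simp) (by simp)
  apply perfect_of_ab
  intro γ hγ v
  rw [hn] at hγ
  interval_cases γ
  · exact p1.2 v
  · exact p5.1 v
  · exact p1.1 v
  · exact p2.2 v
  · exact p3.2 v
  · exact p2.1 v
  · exact p3.1 v
  · exact p4.2 v

theorem G2_perfect (x : K) (hx0 : x ≠ 0) (hx1 : x ≠ 1) :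
    commutator (chevG2.SteinbergCover K) = ⊤ := by
  have hn : chevG2.nroots = 12 := rfl
  have l0 : ∀ v : K, ab chevG2 0 v = 1 := ab_of_goodPair chevG2 0 (1, 5) (by decide)
  have l1 : ∀ v : K, ab chevG2 1 v = 1 := ab_of_goodPair chevG2 1 (0, 6) (by decide)
  have l5 : ∀ v : K, ab chevG2 5 v = 1 := ab_of_goodPair chevG2 5 (0, 10) (by decide)
  have l6 : ∀ v : K, ab chevG2 6 v = 1 := ab_of_goodPair chevG2 6 (1, 11) (by decide)
  have l10 : ∀ v : K, ab chevG2 10 v = 1 := ab_of_goodPair chevG2 10 (5, 11) (by decide)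
  have l11 : ∀ v : K, ab chevG2 11 v = 1 := ab_of_goodPair chevG2 11 (6, 10) (by decide)
  have four : ∀ (r s σ1 σ2 L1 L2 : ℕ) (c1 c2 c3 c4 : ℤ), r < 12 → s < 12 → σ1 < 12 → σ2 < 12 →
      s ≠ r → s ≠ chevG2.neg r →
      chevG2.commTerms r s = [(σ1, c1, 1, 1), (σ2, c2, 2, 1), (L1, c3, 3, 1), (L2, c4, 3, 2)] →
      ((c1 : K) ≠ 0) → ((c2 : K) ≠ 0) → (∀ v : K, ab chevG2 L1 v = 1) → (∀ v : K, ab chevG2 L2 v = 1) →
      (∀ v : K, ab chevG2 σ1 v = 1) ∧ (∀ v : K, ab chevG2 σ2 v = 1) := by
    intro r s σ1 σ2 L1 L2 c1 c2 c3 c4 hr hs hσ1 hσ2 hne hneg hct hc1 hc2 hL1 hL2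
    apply two_term (ab chevG2 σ1) (ab chevG2 σ2) (ab_add chevG2 σ1 hσ1) (ab_add chevG2 σ2 hσ2)
      (c1 : K) (c2 : K) hc1 hc2 x hx0 hx1
    intro t u
    have := ab_rel chevG2 r s hr hs hne hneg t u
    unfold ChevalleyDatum.commWord at this
    rw [hct] at this
    simp only [List.map_cons, List.map_nil, List.prod_cons, List.prod_nil, hL1, hL2, mul_one] at this
    simpa using this
  have p1 := four 2 10 7 3 0 5 (-1) 1 1 1 (by norm_num) (by norm_num) (by norm_num) (by norm_num) (by decide) (by decide) (by decide) (by simp) (by simp) l0 l5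
  have p2 := four 2 11 8 4 1 6 (-1) (-1) (-1) (-1) (by norm_num) (by norm_num) (by norm_num) (by norm_num) (by decide) (by decide) (by decide) (by simp) (by simp) l1 l6
  have p3 := four 3 6 4 2 0 1 1 (-1) 1 (-1) (by norm_num) (by norm_num) (by norm_num) (by norm_num) (by decide) (by decide) (by decide) (by simp) (by simp) l0 l1
  have p4 := four 3 11 9 7 5 10 1 1 (-1) 1 (by norm_num) (by norm_num) (by norm_num) (by norm_num) (by decide) (by decide) (by decide) (by simp) (by simp) l5 l10
  apply perfect_of_ab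
  intro γ hγ v
  rw [hn] at hγ
  interval_cases γ
  · exact l0 v
  · exact l1 v
  · exact p3.2 v
  · exact p1.2 v
  · exact p2.2 v
  · exact l5 v
  · exact l6 v
  · exact p1.1 v
  · exact p2.1 v
  · exact p4.1 v
  · exact l10 v
  · exact l11 v

end small

/-- witness pairs for type D4 -/
def witD4 : List (ℕ × ℕ) := [(1,9), (0,14), (0,15), (0,16), (0,17), (1,17), (0,19), (0,20), (0,21), (0,22), (1,20), (1,21), (2,22), (3,22), (1,23), (2,23), (3,23), (4,23), (6,22), (6,23), (7,23), (8,23), (9,23), (14,22)]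

set_option maxRecDepth 100000 in
theorem checkD4 : (List.range chevD4.nroots).all (fun γ => goodPair chevD4 γ (witD4.getD γ (0, 0))) = true := by
  decide

/-- witness pairs for type F4 -/
def witF4 : List (ℕ × ℕ) := [(1,23), (0,24), (0,26), (7,14), (0,31), (0,32), (1,32), (3,33), (3,34), (3,35), (3,36), (3,37), (3,38), (3,39), (3,40), (0,42), (0,43), (1,43), (7,37), (7,38), (7,39), (0,45), (1,45), (0,46), (1,47), (2,46), (2,47), (8,40), (9,40), (10,40), (4,46), (4,47), (5,47), (7,44), (8,44), (9,44), (10,44), (11,44), (12,44), (13,44), (14,44), (15,46), (15,47), (16,47), (33,40), (21,47), (23,47), (24,46)]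

set_option maxRecDepth 100000 in
theorem checkF4 : (List.range chevF4.nroots).all (fun γ => goodPair chevF4 γ (witF4.getD γ (0, 0))) = true := by
  decide

/-- witness pairs for type E6 -/
def witE6 : List (ℕ × ℕ) := [(1,25), (0,46), (0,47), (0,48), (0,49), (0,50), (0,51), (0,52), (0,53), (0,54), (0,55), (1,53), (1,54), (1,55), (2,55), (5,55), (0,61), (0,62), (0,63), (0,64), (0,65), (0,66), (0,67), (0,68), (0,69), (0,70), (1,64), (1,65), (1,66), (2,66), (1,67), (1,68), (1,69), (2,67), (2,68), (3,67), (4,68), (3,69), (4,69), (2,70), (3,70), (4,70), (5,69), (5,70), (6,70), (7,70), (1,71), (2,71), (3,71), (4,71), (5,71), (6,71), (7,71), (8,71), (9,71), (10,71), (16,66), (16,69), (16,70), (17,70), (18,70), (16,71), (17,71), (18,71), (19,71), (20,71), (21,71), (22,71), (23,71), (24,71), (25,71), (46,70)]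

set_option maxRecDepth 100000 in
theorem checkE6 : (List.range chevE6.nroots).all (fun γ => goodPair chevE6 γ (witE6.getD γ (0, 0))) = true := by
  decide

/-- witness pairs for type E7 -/
def witE7 : List (ℕ × ℕ) := [(1,32), (0,93), (0,94), (0,95), (0,96), (0,97), (0,98), (0,99), (0,100), (0,101), (0,102), (0,103), (0,104), (0,105), (0,106), (0,107), (0,108), (0,109), (0,110), (0,111), (0,112), (0,113), (0,114), (0,115), (0,116), (0,117), (0,118), (0,119), (0,120), (0,121), (0,122), (0,123), (0,124), (1,109), (1,110), (1,111), (1,112), (1,113), (1,114), (1,115), (1,116), (1,117), (1,118), (2,115), (2,116), (2,117), (2,118), (3,118), (1,119), (1,120), (1,121), (1,122), (1,123), (2,119), (2,120), (2,121), (2,122), (3,119), (3,120), (3,121), (4,119), (4,120), (5,119), (6,120), (5,121), (6,121), (4,122), (5,122), (6,122), (3,123), (4,123), (5,123), (6,123), (2,124), (3,124), (4,124), (5,124), (6,124), (7,122), (7,123), (8,123), (9,123), (10,123), (7,124), (8,124), (9,124), (10,124), (11,124),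 (12,124), (13,124), (14,124), (15,124), (16,124), (1,125), (2,125), (3,125), (4,125), (5,125), (6,125), (7,125), (8,125), (9,125), (10,125), (11,125), (12,125), (13,125), (14,125), (15,125), (16,125), (17,125), (18,125), (19,125), (20,125), (21,125), (22,125), (23,125), (24,125), (25,125), (26,125), (27,125), (28,125), (29,125), (30,125), (31,125), (32,125), (93,124)]

set_option maxRecDepth 100000 in
theorem checkE7 : (List.range chevE7.nroots).all (fun γ => goodPair chevE7 γ (witE7.getD γ (0, 0))) = true := by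
  decide

/-- witness pairs for type E8 -/
def witE8 : List (ℕ × ℕ) := [(1,119), (0,120), (0,122), (0,125), (0,129), (0,134), (0,140), (0,146), (0,151), (0,155), (0,158), (0,160), (0,161), (1,161), (0,168), (0,173), (0,177), (0,180), (0,182), (0,183), (1,183), (0,187), (0,190), (0,192), (0,193), (1,193), (0,196), (0,198), (0,199), (1,199), (0,201), (0,202), (1,202), (0,203), (1,203), (2,203), (0,206), (0,208), (0,209), (1,209), (0,211), (0,212), (1,212), (0,213), (1,213), (2,213), (0,215), (0,216), (1,216), (0,217), (1,217), (2,217), (0,218), (1,218), (2,218), (3,218), (0,220), (0,221), (1,221), (0,222), (1,222), (2,222), (0,223), (1,223), (2,223), (3,223), (0,224), (1,224), (2,224), (3,224), (4,224), (0,225), (1,225), (2,225), (3,225), (4,225), (5,225), (6,225), (0,227), (0,228), (1,228), (0,229), (1,229), (2,229), (0,230), (1,230), (2,230), (3,230), (0,231), (1,231), (2,231), (3,231), (4,231), (0,232), (1,232), (2,232), (3,232), (4,232), (5,232), (0,233), (1,233), (2,233), (3,233), (4,233),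 (5,233), (0,234), (1,234), (2,234), (3,234), (4,234), (0,235), (1,235), (2,235), (3,235), (0,236), (1,236), (2,236), (0,237), (1,237), (0,238), (1,239), (2,238), (2,239), (3,237), (3,238), (3,239), (4,236), (4,237), (4,238), (4,239), (5,235), (5,236), (5,237), (5,238), (5,239), (6,234), (6,235), (6,236), (6,237), (6,238), (6,239), (7,234), (7,235), (7,236), (7,237), (7,238), (7,239), (8,235), (8,236), (8,237), (8,238), (8,239), (9,236), (9,237), (9,238), (9,239), (10,237), (10,238), (10,239), (11,238), (11,239), (12,239), (14,233), (14,234), (14,235), (14,236), (14,237), (14,238), (14,239), (15,235), (15,236), (15,237), (15,238), (15,239), (16,236), (16,237), (16,238), (16,239), (17,237), (17,238), (17,239), (18,238), (18,239), (19,239), (21,236), (21,237), (21,238), (21,239), (22,237), (22,238), (22,239), (23,238), (23,239), (24,239), (26,237), (26,238), (26,239), (27,238), (27,239), (28,239), (30,238), (30,239), (31,239), (33,239), (36,237), (36,238), (36,239), (37,238), (37,239), (38,239),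 (40,238), (40,239), (41,239), (43,239), (46,238), (46,239), (47,239), (49,239), (52,239), (56,238), (56,239), (57,239), (59,239), (62,239), (66,239), (71,239), (78,238), (78,239), (79,239), (81,239), (84,239), (88,239), (93,239), (99,239), (105,239), (110,239), (114,239), (117,239), (119,239), (120,238)]

set_option maxRecDepth 100000 in
theorem checkE8 : (List.range chevE8.nroots).all (fun γ => goodPair chevE8 γ (witE8.getD γ (0, 0))) = true := by
  decide

/-- The group presented by Steinberg's generators x̄_r(t) subject only to (R1) (additivity) and (R2) (the commutator formula) is perfect, for each of the types G₂, B₂, D₄, F₄, E₆, E₇, E₈ over any field (for types B₂ and G₂ the field must have more than two elements — the cases where the Chevalley group is not simple are set aside). -/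
theorem result {K : Type*} [Field K] (D : Cfsg.Lie.ChevalleyDatum) (hD : D ∈ [Cfsg.Lie.chevG2, Cfsg.Lie.chevB2, Cfsg.Lie.chevD4, Cfsg.Lie.chevF4, Cfsg.Lie.chevE6, Cfsg.Lie.chevE7, Cfsg.Lie.chevE8]) (hK : D ∈ [Cfsg.Lie.chevB2, Cfsg.Lie.chevG2] → ∃ x : K, x ≠ 0 ∧ x ≠ 1) :
    commutator (D.SteinbergCover K) = ⊤ := by
  simp only [List.mem_cons, List.not_mem_nil, or_false] at hD
  rcases hD with rfl | rfl | rfl | rfl | rfl | rfl | rfl
  · obtain ⟨x, hx0, hx1⟩ := hK (by simp)
    exact G2_perfect x hx0 hx1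
  · obtain ⟨x, hx0, hx1⟩ := hK (by simp)
    exact B2_perfect x hx0 hx1
  · exact perfect_of_wit _ witD4 checkD4
  · exact perfect_of_wit _ witF4 checkF4
  · exact perfect_of_wit _ witE6 checkE6
  · exact perfect_of_wit _ witE7 checkE7
  · exact perfect_of_wit _ witE8 checkE8

end Cfsg.Agent.S2395
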