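-- Statement S2397 (Steinberg's Theorem 9: over a finite field (R3) follows from (R1), (R2)).  helper60, project
-- STEINBERG phase 3b (sheet Cfsg/Agent/Lib/Helper60/ST3_MODULES.md); modules by helper35, helper33, helper84; rank one
-- by helper53.
import Cfsg.Statements.S2397
import Cfsg.Agent.Lib.Helper60.T9Main

set_option autoImplicit false
open Cfsg

namespace Cfsg.Agent.S2397

/-- Over a finite field the relators (R3) h̄_r(t₁) h̄_r(t₂) = h̄_r(t₁ t₂) are consequences of (R1) and (R2): for each of the types G₂, B₂, D₄, F₄, E₆, E₇, E₈ (for types B₂ and G₂ the field must have more than two elements — the cases where the Chevalley group is not simple are set aside) the group presented by (R1), (R2) is canonically isomorphic to the one presented by (R1)–(R3), by an isomorphism matching the generators x̄_r(t). -/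
theorem result {K : Type*} [Field K] [Finite K] (D : Cfsg.Lie.ChevalleyDatum) (hD : D ∈ [Cfsg.Lie.chevG2, Cfsg.Lie.chevB2, Cfsg.Lie.chevD4, Cfsg.Lie.chevF4, Cfsg.Lie.chevE6, Cfsg.Lie.chevE7, Cfsg.Lie.chevE8]) (hK : D ∈ [Cfsg.Lie.chevB2, Cfsg.Lie.chevG2] → ∃ x : K, x ≠ 0 ∧ x ≠ 1) :
    ∃ e : D.SteinbergCover K ≃* D.SteinbergGroup K, ∀ (r : ℕ) (t : K), e (D.scGen K r t) = D.stGen K r t :=
  Cfsg.Agent.Lib.Helper84.T9.cover_equiv_of_R3 D K
    (fun r hr t₁ t₂ h₁ h₂ => Cfsg.Agent.Lib.Helper60.T9.cover_R3 hD r hr t₁ t₂ h₁ h₂)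

end Cfsg.Agent.S2397
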