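import Cfsg.Statements.S2727
import Cfsg.Agent.Lib.Helper36.PsoInn
import Cfsg.Agent.Lib.Helper36.MinusFormNondeg

set_option autoImplicit false
open Cfsg

namespace Cfsg.Agent.S2727

/-- Let T = PΩ⁻_{2m+2}(F) with m ≥ 3 and |F| = q odd (form with anisotropic binary part). The image of the special orthogonal group in Aut(T) contains the inner automorphism group T with index 2 when m is even and q ≡ 3 (mod 4), and coincides with it otherwise (the index is 2 exactly when the discriminant of the form is a square). -/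
theorem result {F : Type*} [Field F] [Fintype F] (hodd : Odd (Fintype.card F)) {m : ℕ} (hm : 3 ≤ m) (a b : F) (hab : (∀ z₁ z₂ : F, z₁ ^ 2 + a * z₁ * z₂ + b * z₂ ^ 2 = 0 → z₁ = 0 ∧ z₂ = 0)) :
    ((Even m ∧ Fintype.card F % 4 = 3) → (Cfsg.Inn (Cfsg.POmega F (Cfsg.quadFormMinus m F a b))).relIndex (Cfsg.psoAut F (Cfsg.quadFormMinus m F a b)) = 2) ∧ (¬ (Even m ∧ Fintype.card F % 4 = 3) → (Cfsg.Inn (Cfsg.POmega F (Cfsg.quadFormMinus m F a b))).relIndex (Cfsg.psoAut F (Cfsg.quadFormMinus m F a b)) = 1) := by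
  classical
  have h2 : (2 : F) ≠ 0 := Cfsg.Agent.Lib.Helper13.two_ne_zero_of_odd_card hodd
  have hcard := Cfsg.Agent.Lib.Helper36.card_minus_index m
  have hq : Fintype.card F % 2 = 1 := Nat.odd_iff.mp hodd
  obtain ⟨h1, h0⟩ := Cfsg.Agent.Lib.Helper36.relIndex_Inn_psoAut_of_eq
    (Cfsg.Agent.S0791.minusForm m F a b) (Cfsg.quadFormMinus m F a b)
    (Cfsg.Agent.S0791.minusForm_coe m F a b)
    (Cfsg.Agent.Lib.Helper36.minusForm_nondeg h2 m a b hab) h2 (by rw [hcard]; omega)
    (by rw [hcard]; exact even_two_mul (m + 1))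
  have hiff := Cfsg.Agent.S0791.result (F := F) rfl hodd (m + 1) (by omega) a b hab
  have hpar : (Even m ∧ Fintype.card F % 4 = 3) ↔ Fintype.card F ^ (m + 1) % 4 = 3 := by
    rw [Cfsg.Agent.Lib.Helper36.pow_mod_four_eq_three_iff _ _ hq, Nat.odd_add_one,
      Nat.not_odd_iff_even]
  constructor
  · intro hc
    apply h1
    exact hiff.mpr (hpar.mp hc)
  · intro hc
    apply h0
    intro hneg
    exact hc (hpar.mpr (hiff.mp hneg))

end Cfsg.Agent.S2727
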