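import Cfsg.Statements.S2726
import Cfsg.Agent.Lib.Helper36.PgoPso
import Cfsg.Agent.Lib.Helper36.PgoPsoForms
import Cfsg.Agent.Lib.Helper36.MinusFormNondeg

set_option autoImplicit false
open Cfsg

namespace Cfsg.Agent.S2726

/-- Let T = PΩ⁻_{2m+2}(F) with m ≥ 3 and |F| = q odd (form with anisotropic binary part). Inside Aut(T), the image G̃ of the conformal orthogonal group of the form modulo the image of the special orthogonal group is elementary abelian of order 4. -/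
theorem result {F : Type*} [Field F] [Fintype F] (hodd : Odd (Fintype.card F)) {m : ℕ} (hm : 3 ≤ m) (a b : F) (hab : (∀ z₁ z₂ : F, z₁ ^ 2 + a * z₁ * z₂ + b * z₂ ^ 2 = 0 → z₁ = 0 ∧ z₂ = 0)) :
    (∃ φ : ↥(Cfsg.pgoAut F (Cfsg.quadFormMinus m F a b)) →* Multiplicative (ZMod 2 × ZMod 2), Function.Surjective φ ∧ φ.ker = (Cfsg.psoAut F (Cfsg.quadFormMinus m F a b)).subgroupOf (Cfsg.pgoAut F (Cfsg.quadFormMinus m F a b))) := by
  classical
  have h2 : (2 : F) ≠ 0 := Cfsg.Agent.Lib.Helper13.two_ne_zero_of_odd_card hodd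
  have hcard := Cfsg.Agent.Lib.Helper36.card_minus_index m
  have hchar : ringChar F ≠ 2 := by
    intro h
    apply h2
    have : ((2 : ℕ) : F) = 0 := by
      rw [← h]; exact ringChar.Nat.cast_ringChar
    exact_mod_cast this
  obtain ⟨η, hη⟩ := FiniteField.exists_nonsquare hchar
  have hη0 : η ≠ 0 := by
    rintro rfl
    exact hη IsSquare.zero
  have hodd' : Fintype.card F % 2 = 1 := Nat.odd_iff.mp hodd
  obtain ⟨s, t, hst⟩ := Cfsg.Agent.Lib.Helper36.exists_binary_eq hodd' h2 a b hab η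
  obtain ⟨g₁, hg₁⟩ := Cfsg.Agent.Lib.Helper36.exists_similarity_minus (F := F) m a b s t
    (Units.mk0 η hη0) hst.symm
  exact Cfsg.Agent.Lib.Helper36.exists_hom_pgo_pso_of_eq (Cfsg.Agent.S0791.minusForm m F a b)
    (Cfsg.quadFormMinus m F a b) (Cfsg.Agent.S0791.minusForm_coe m F a b)
    (Cfsg.Agent.Lib.Helper36.minusForm_nondeg h2 m a b hab) h2 (by rw [hcard]; omega) (m + 1) hcard
    ⟨g₁, Units.mk0 η hη0, hη, hg₁⟩

end Cfsg.Agent.S2726
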