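import Cfsg.Statements.S2728
import Cfsg.Agent.Lib.Helper36.PgoInn
import Cfsg.Agent.Lib.Helper36.PgoPsoForms
import Cfsg.Agent.Lib.Helper36.MinusFormNondeg
import Cfsg.Agent.S2726
import Cfsg.Agent.S2727

set_option autoImplicit false
open Cfsg

namespace Cfsg.Agent.S2728

set_option maxHeartbeats 800000 in
/-- Let T = PΩ⁻_{2m+2}(F) with m ≥ 3 and |F| = q odd (form with anisotropic binary part). The image G̃ of the conformal orthogonal group in Aut(T), taken modulo the inner automorphism group T, is dihedral of order 8 when m is even and q ≡ 3 (mod 4), and elementary abelian of order 4 otherwise. -/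
theorem result {F : Type*} [Field F] [Fintype F] (hodd : Odd (Fintype.card F)) {m : ℕ} (hm : 3 ≤ m) (a b : F) (hab : (∀ z₁ z₂ : F, z₁ ^ 2 + a * z₁ * z₂ + b * z₂ ^ 2 = 0 → z₁ = 0 ∧ z₂ = 0)) :
    ((Even m ∧ Fintype.card F % 4 = 3) → (∃ φ : ↥(Cfsg.pgoAut F (Cfsg.quadFormMinus m F a b)) →* DihedralGroup 4, Function.Surjective φ ∧ φ.ker = (Cfsg.Inn (Cfsg.POmega F (Cfsg.quadFormMinus m F a b))).subgroupOf (Cfsg.pgoAut F (Cfsg.quadFormMinus m F a b)))) ∧ (¬ (Even m ∧ Fintype.card F % 4 = 3) → (∃ φ : ↥(Cfsg.pgoAut F (Cfsg.quadFormMinus m F a b)) →* Multiplicative (ZMod 2 × ZMod 2), Function.Surjective φ ∧ φ.ker = (Cfsg.Inn (Cfsg.POmega F (Cfsg.quadFormMinus m F a b))).subgroupOf (Cfsg.pgoAut F (Cfsg.quadFormMinus m F a b)))) := by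
  have h2 : (2 : F) ≠ 0 := Cfsg.Agent.Lib.Helper13.two_ne_zero_of_odd_card hodd
  have hcard := Cfsg.Agent.Lib.Helper36.card_minus_index m
  have hq : Fintype.card F % 2 = 1 := Nat.odd_iff.mp hodd
  constructor
  · intro hc
    classical
    have hchar : ringChar F ≠ 2 := by
      intro h
      apply h2
      have : ((2 : ℕ) : F) = 0 := by
        rw [← h]; exact ringChar.Nat.cast_ringChar
      exact_mod_cast this
    obtain ⟨η, hη⟩ := FiniteField.exists_nonsquare hchar
    have hη0 : η ≠ 0 := by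
      rintro rfl
      exact hη IsSquare.zero
    obtain ⟨s, t, hst⟩ := Cfsg.Agent.Lib.Helper36.exists_binary_eq hq h2 a b hab η
    obtain ⟨g₁, hg₁⟩ := Cfsg.Agent.Lib.Helper36.exists_similarity_minus (F := F) m a b s t
      (Units.mk0 η hη0) hst.symm
    have hiff := Cfsg.Agent.S0791.result (F := F) rfl hodd (m + 1) (by omega) a b hab
    have hpar : (Even m ∧ Fintype.card F % 4 = 3) ↔ Fintype.card F ^ (m + 1) % 4 = 3 := by
      rw [Cfsg.Agent.Lib.Helper36.pow_mod_four_eq_three_iff _ _ hq, Nat.odd_add_one,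
        Nat.not_odd_iff_even]
    have hneg := hiff.mpr (hpar.mp hc)
    exact Cfsg.Agent.Lib.Helper36.exists_hom_pgo_inn_dihedral_of_eq
      (Cfsg.Agent.S0791.minusForm m F a b) (Cfsg.quadFormMinus m F a b)
      (Cfsg.Agent.S0791.minusForm_coe m F a b)
      (Cfsg.Agent.Lib.Helper36.minusForm_nondeg h2 m a b hab) h2 (by rw [hcard]; omega) (m + 1)
      hcard ⟨g₁, Units.mk0 η hη0, hη, hg₁⟩ hneg
  · intro hc
    have hidx := (Cfsg.Agent.S2727.result hodd hm a b hab).2 hc
    have heq := Cfsg.Agent.Lib.Helper36.Inn_eq_psoAut_of_relIndex _ hidx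
    have h26 := Cfsg.Agent.S2726.result hodd hm a b hab
    rw [heq]
    exact h26

end Cfsg.Agent.S2728
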