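import Cfsg.Statements.S0250
import Mathlib
-- import your own Cfsg.Agent.* helpers here
import Cfsg.Agent.Lib.Helper5.PSL2Small

set_option autoImplicit false
open Cfsg

namespace Cfsg.Agent.S0250

open Matrix
open scoped MatrixGroups Nat

/-- SL_2(2) is isomorphic to S_3. -/
theorem result {F : Type*} [Field F] [Fintype F] (hF : Fintype.card F = 2) : Nonempty (Matrix.SpecialLinearGroup (Fin 2) F ≃* Equiv.Perm (Fin 3)) := by
  have h2 : (2 : F) = 0 := by
    have := Nat.cast_card_eq_zero F
    rw [hF] at this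
    exact_mod_cast this
  have hc := Cfsg.Agent.Lib.Helper5.center_SL2_eq_bot_of_two_eq_zero h2
  have hn : Fintype.card F + 1 = 3 := by rw [hF]
  let f : SL(2, F) →* Equiv.Perm (Fin 3) :=
    (Cfsg.Agent.Lib.Helper5.pslToPermFin hn).comp (QuotientGroup.mk' (Subgroup.center SL(2, F)))
  have hf : Function.Injective f := by
    rw [MonoidHom.coe_comp]
    refine (Cfsg.Agent.Lib.Helper5.pslToPermFin_injective hn).comp ?_
    rw [← MonoidHom.ker_eq_bot_iff, QuotientGroup.ker_mk', hc]
  refine Cfsg.Agent.Lib.Helper5.nonempty_mulEquiv_perm_of_injective f hf ?_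
  rw [Cfsg.Agent.Lib.Helper5.card_SL2, hF]
  rfl

end Cfsg.Agent.S0250
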