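import Cfsg.Statements.S0251
import Mathlib
-- import your own Cfsg.Agent.* helpers here
import Cfsg.Agent.Lib.Helper5.PSL2Small

set_option autoImplicit false
open Cfsg

namespace Cfsg.Agent.S0251

open Matrix
open scoped MatrixGroups Nat

/-- PSL_2(3) is isomorphic to A_4. -/
theorem result {F : Type*} [Field F] [Fintype F] (hF : Fintype.card F = 3) : Nonempty (Matrix.ProjectiveSpecialLinearGroup (Fin 2) F ≃* alternatingGroup (Fin 4)) := by
  have h3 : (3 : F) = 0 := by
    have := Nat.cast_card_eq_zero F
    rw [hF] at this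
    exact_mod_cast this
  have h2 : (2 : F) ≠ 0 := by
    intro h
    have : (1 : F) = 0 := by linear_combination h3 - h
    exact one_ne_zero this
  have hc := Cfsg.Agent.Lib.Helper5.card_center_SL2_of_two_ne_zero h2
  have hn : Fintype.card F + 1 = 4 := by rw [hF]
  refine Cfsg.Agent.Lib.Helper5.nonempty_mulEquiv_alternatingGroup_of_injective (by norm_num)
    (Cfsg.Agent.Lib.Helper5.pslToPermFin hn) (Cfsg.Agent.Lib.Helper5.pslToPermFin_injective hn) ?_
  have h := Cfsg.Agent.Lib.Helper5.card_PSL2_mul (F := F)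
  rw [hc, hF] at h
  rw [mul_comm, h]
  rfl

end Cfsg.Agent.S0251
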