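import Cfsg.Statements.S5908
import Cfsg.Agent.Lib.Helper5.UnitaryCenter

set_option autoImplicit false
set_option linter.unusedSectionVars false
open Cfsg
open scoped Matrix Pointwise

namespace Cfsg.Agent.S5908

section mono
variable {F : Type*} [Field F]

/-- Monomial pattern. -/
def IsMono (A : Matrix (Fin 3) (Fin 3) F) (σ : Equiv.Perm (Fin 3)) : Prop :=
  ∀ i j, A i j ≠ 0 ↔ i = σ j

theorem IsMono.mul_apply {A B : Matrix (Fin 3) (Fin 3) F} {τ : Equiv.Perm (Fin 3)}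
    (hB : IsMono B τ) (i j : Fin 3) : (A * B) i j = A i (τ j) * B (τ j) j := by
  rw [Matrix.mul_apply]
  apply Finset.sum_eq_single
  · intro k _ hk
    have : B k j = 0 := by
      by_contra h
      exact hk ((hB k j).mp h)
    rw [this, mul_zero]
  · intro h; exact absurd (Finset.mem_univ _) h

theorem IsMono.mul {A B : Matrix (Fin 3) (Fin 3) F} {σ τ : Equiv.Perm (Fin 3)}
    (hA : IsMono A σ) (hB : IsMono B τ) : IsMono (A * B) (σ * τ) := by
  intro i j
  rw [hB.mul_apply, mul_ne_zero_iff, hA i (τ j), hB (τ j) j]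
  simp

theorem IsMono.unique {A : Matrix (Fin 3) (Fin 3) F} {σ τ : Equiv.Perm (Fin 3)}
    (h1 : IsMono A σ) (h2 : IsMono A τ) : σ = τ := by
  apply Equiv.ext
  intro j
  have := (h1 (σ j) j).mpr rfl
  exact (h2 (σ j) j).mp this

theorem isMono_one : IsMono (1 : Matrix (Fin 3) (Fin 3) F) 1 := by
  intro i j
  rw [Matrix.one_apply]
  by_cases h : i = j <;> simp [h]

theorem IsMono.inv {A B : Matrix (Fin 3) (Fin 3) F} {σ : Equiv.Perm (Fin 3)}
    (hA : IsMono A σ) (hBA : B * A = 1) : IsMono B σ⁻¹ := by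
  intro i j
  -- (B * A) i (σ⁻¹ j) = B i j * A j (σ⁻¹ j)
  have h1 := hA.mul_apply (A := B) i (σ⁻¹ j)
  have hσ : σ (σ⁻¹ j) = j := by simp
  rw [hBA, hσ] at h1
  have h2 : A j (σ⁻¹ j) ≠ 0 := (hA j (σ⁻¹ j)).mpr (by simp)
  rw [Matrix.one_apply] at h1
  constructor
  · intro hB
    by_contra hne
    rw [if_neg hne] at h1
    exact mul_ne_zero hB h2 h1.symm
  · intro hi hB
    rw [if_pos hi, hB, zero_mul] at h1
    exact one_ne_zero h1

/-- A matrix with the identity pattern over the field with four elements has cube one. -/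
theorem IsMono.cube_of_one [Fintype F] (hF : Fintype.card F = 4) {A : Matrix (Fin 3) (Fin 3) F}
    (hA : IsMono A 1) : A ^ 3 = 1 := by
  have hdiag : A = Matrix.diagonal (fun i => A i i) := by
    ext i j
    by_cases h : i = j
    · subst h; simp
    · rw [Matrix.diagonal_apply_ne _ h]
      by_contra hne
      exact h ((hA i j).mp hne)
  rw [hdiag, Matrix.diagonal_pow]
  have : ((fun i => A i i) ^ 3 : Fin 3 → F) = fun _ => 1 := by
    ext i
    simp only [Pi.pow_apply]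
    have hne : A i i ≠ 0 := (hA i i).mpr rfl
    have := FiniteField.pow_card_sub_one_eq_one (A i i) hne
    rwa [hF] at this
  rw [this]
  exact Matrix.diagonal_one

/-- The monomial subgroup of `SU₃`. -/
def Mon (F : Type*) [Field F] : Subgroup (SU 3 F 2) where
  carrier := {g | ∃ σ, IsMono g.1.1 σ}
  mul_mem' := by
    rintro g h ⟨σ, hσ⟩ ⟨τ, hτ⟩
    exact ⟨σ * τ, hσ.mul hτ⟩
  one_mem' := ⟨1, isMono_one⟩
  inv_mem' := by
    rintro g ⟨σ, hσ⟩
    refine ⟨σ⁻¹, hσ.inv ?_⟩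
    have : g⁻¹ * g = 1 := inv_mul_cancel g
    have h2 := congrArg (fun x : SU 3 F 2 => x.1.1) this
    exact h2

theorem mem_Mon (g : SU 3 F 2) : g ∈ Mon F ↔ ∃ σ, IsMono g.1.1 σ := Iff.rfl

/-- The pattern homomorphism. -/
noncomputable def phi (F : Type*) [Field F] : Mon F →* Equiv.Perm (Fin 3) :=
  MonoidHom.mk' (fun g => Classical.choose g.2) (by
    intro g h
    have hg := Classical.choose_spec g.2
    have hh := Classical.choose_spec h.2
    have hgh := Classical.choose_spec (g * h).2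
    exact IsMono.unique hgh (hg.mul hh))

theorem phi_spec (g : Mon F) : IsMono g.1.1.1 (phi F g) := Classical.choose_spec g.2

theorem ker_cube [Fintype F] (hF : Fintype.card F = 4) (g : (phi F).ker) : g ^ 3 = 1 := by
  have h1 : phi F g.1 = 1 := g.2
  have h2 := phi_spec g.1
  rw [h1] at h2
  have h3 := h2.cube_of_one hF
  apply Subtype.ext
  apply Subtype.ext
  apply Subtype.ext
  apply Subtype.ext
  exact h3

theorem card_Mon [Fintype F] (hF : Fintype.card F = 4) :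
    ∃ n m : ℕ, Nat.card (Mon F) = 3 ^ n * m ∧ m ∣ 6 := by
  have : Fact (Nat.Prime 3) := ⟨Nat.prime_three⟩
  have hp : IsPGroup 3 (phi F).ker := by
    intro g
    exact ⟨1, by rw [pow_one]; exact ker_cube hF g⟩
  obtain ⟨n, hn⟩ := (IsPGroup.iff_card).mp hp
  refine ⟨n, Nat.card (phi F).range, ?_, ?_⟩
  · rw [← hn, ← Subgroup.index_ker, Subgroup.card_mul_index]
  · have := Subgroup.card_subgroup_dvd_card (phi F).range
    rw [Nat.card_perm, Nat.card_fin] at this
    exact this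

theorem not_eight_dvd (n m : ℕ) (hm : m ∣ 6) : ¬ 8 ∣ 3 ^ n * m := by
  intro h
  have hc : Nat.Coprime 8 (3 ^ n) := by
    apply Nat.Coprime.pow_right
    decide
  have h8 : 8 ∣ m := hc.dvd_of_dvd_mul_left h
  have : 8 ∣ 6 := dvd_trans h8 hm
  omega

end mono

section field
variable {F : Type*} [Field F] [Fintype F]

theorem two_eq_zero (hF : Fintype.card F = 4) : (2 : F) = 0 := by
  have h4 : ((4 : ℕ) : F) = 0 := by rw [← hF]; exact Nat.cast_card_eq_zero F
  have h22 : (2 : F) * 2 = 0 := by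
    have : ((4 : ℕ) : F) = 2 * 2 := by norm_num
    rw [← this]; exact h4
  exact mul_self_eq_zero.mp h22

theorem add_self (hF : Fintype.card F = 4) (x : F) : x + x = 0 := by
  rw [← two_mul, two_eq_zero hF, zero_mul]

theorem cube_eq_one (hF : Fintype.card F = 4) (x : F) (hx : x ≠ 0) : x ^ 3 = 1 := by
  have := FiniteField.pow_card_sub_one_eq_one x hx
  rwa [hF] at this

/-- An idempotent of the field is `0` or `1`. -/
theorem idem (a : F) (h : a = a ^ 2) : a = 0 ∨ a = 1 := by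
  by_cases ha : a = 0
  · exact Or.inl ha
  · right
    have : a * (a - 1) = 0 := by
      have : a * (a - 1) = a ^ 2 - a := by ring
      rw [this, ← h, sub_self]
    rcases mul_eq_zero.mp this with h1 | h1
    · exact absurd h1 ha
    · exact sub_eq_zero.mp h1

theorem cube_cases (hF : Fintype.card F = 4) (x : F) :
    (x = 0 ∧ x * x ^ 2 = 0) ∨ (x ≠ 0 ∧ x * x ^ 2 = 1) := by
  by_cases hx : x = 0
  · left; exact ⟨hx, by rw [hx, zero_mul]⟩
  · right; exact ⟨hx, by rw [← pow_succ']; exact cube_eq_one hF x hx⟩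

theorem alg (hF : Fintype.card F = 4) (a b c x y w : F)
    (ha : a = 0 ∨ a = 1) (hb : b = 0 ∨ b = 1) (hc : c = 0 ∨ c = 1)
    (R0 : a * a + x * x ^ 2 + y * y ^ 2 = 1)
    (R1 : x ^ 2 * x + b * b + w * w ^ 2 = 1)
    (R2 : y ^ 2 * y + w ^ 2 * w + c * c = 1)
    (E01 : a * x + x * b + y * w ^ 2 = 0)
    (E02 : a * y + x * w + y * c = 0)
    (E12 : x ^ 2 * y + b * w + w * c = 0) :
    (x = 0 ∧ y = 0 ∧ w = 0 ∧ a = 1 ∧ b = 1 ∧ c = 1) ∨
    (x ≠ 0 ∧ y = 0 ∧ w = 0 ∧ a = 0 ∧ b = 0 ∧ c = 1) ∨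
    (x = 0 ∧ y ≠ 0 ∧ w = 0 ∧ a = 0 ∧ b = 1 ∧ c = 0) ∨
    (x = 0 ∧ y = 0 ∧ w ≠ 0 ∧ a = 1 ∧ b = 0 ∧ c = 0) := by
  have h11 : (1 : F) + 1 = 0 := add_self hF 1
  rw [mul_comm (x ^ 2) x] at R1
  rw [mul_comm (y ^ 2) y, mul_comm (w ^ 2) w] at R2
  rcases cube_cases hF x with ⟨hx, hx3⟩ | ⟨hx, hx3⟩ <;>
  rcases cube_cases hF y with ⟨hy, hy3⟩ | ⟨hy, hy3⟩ <;>
  rcases cube_cases hF w with ⟨hw, hw3⟩ | ⟨hw, hw3⟩ <;>
  rw [hx3, hy3] at R0 <;> rw [hx3, hw3] at R1 <;> rw [hy3, hw3] at R2 <;>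
  rcases ha with rfl | rfl <;> rcases hb with rfl | rfl <;> rcases hc with rfl | rfl <;>
  simp [h11] at R0 R1 R2 <;>
  simp_all [add_self hF]

/-- Hermitian involutions over the field with four elements are monomial. -/
theorem pattern (hF : Fintype.card F = 4) (M : Matrix (Fin 3) (Fin 3) F)
    (hH : ∀ i j, M i j = (M j i) ^ 2) (hMM : M * M = 1) :
    ∃ σ : Equiv.Perm (Fin 3), IsMono M σ := by
  have e00 : M 0 0 * M 0 0 + M 0 1 * M 1 0 + M 0 2 * M 2 0 = 1 := by
    have := congrFun (congrFun hMM 0) 0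
    simpa [Matrix.mul_apply, Fin.sum_univ_three] using this
  have e11 : M 1 0 * M 0 1 + M 1 1 * M 1 1 + M 1 2 * M 2 1 = 1 := by
    have := congrFun (congrFun hMM 1) 1
    simpa [Matrix.mul_apply, Fin.sum_univ_three] using this
  have e22 : M 2 0 * M 0 2 + M 2 1 * M 1 2 + M 2 2 * M 2 2 = 1 := by
    have := congrFun (congrFun hMM 2) 2
    simpa [Matrix.mul_apply, Fin.sum_univ_three] using this
  have e01 : M 0 0 * M 0 1 + M 0 1 * M 1 1 + M 0 2 * M 2 1 = 0 := by
    have := congrFun (congrFun hMM 0) 1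
    simpa [Matrix.mul_apply, Fin.sum_univ_three] using this
  have e02 : M 0 0 * M 0 2 + M 0 1 * M 1 2 + M 0 2 * M 2 2 = 0 := by
    have := congrFun (congrFun hMM 0) 2
    simpa [Matrix.mul_apply, Fin.sum_univ_three] using this
  have e12 : M 1 0 * M 0 2 + M 1 1 * M 1 2 + M 1 2 * M 2 2 = 0 := by
    have := congrFun (congrFun hMM 1) 2
    simpa [Matrix.mul_apply, Fin.sum_univ_three] using this
  have h10 := hH 1 0
  have h20 := hH 2 0
  have h21 := hH 2 1
  rw [h10, h20] at e00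
  rw [h10, h21] at e11
  rw [h20, h21] at e22
  rw [h21] at e01
  rw [h10] at e12
  rcases alg hF (M 0 0) (M 1 1) (M 2 2) (M 0 1) (M 0 2) (M 1 2) (idem _ (hH 0 0)) (idem _ (hH 1 1))
    (idem _ (hH 2 2)) e00 e11 e22 e01 e02 e12 with
    ⟨hx, hy, hw, ha, hb, hc⟩ | ⟨hx, hy, hw, ha, hb, hc⟩ | ⟨hx, hy, hw, ha, hb, hc⟩ |
    ⟨hx, hy, hw, ha, hb, hc⟩
  · refine ⟨1, ?_⟩
    intro i j
    fin_cases i <;> fin_cases j <;> simp [h10, h20, h21, hx, hy, hw, ha, hb, hc]
  · refine ⟨Equiv.swap 0 1, ?_⟩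
    intro i j
    fin_cases i <;> fin_cases j <;>
      simp [h10, h20, h21, hx, hy, hw, ha, hb, hc, Equiv.swap_apply_def]
  · refine ⟨Equiv.swap 0 2, ?_⟩
    intro i j
    fin_cases i <;> fin_cases j <;>
      simp [h10, h20, h21, hx, hy, hw, ha, hb, hc, Equiv.swap_apply_def]
  · refine ⟨Equiv.swap 1 2, ?_⟩
    intro i j
    fin_cases i <;> fin_cases j <;>
      simp [h10, h20, h21, hx, hy, hw, ha, hb, hc, Equiv.swap_apply_def]

end field

section main
variable {F : Type*} [Field F] [Fintype F]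

theorem card_PSU (hF : Fintype.card F = 4) : Nat.card (Cfsg.PSU 3 F 2) = 72 := by
  have hF' : Fintype.card F = 2 ^ 2 := by rw [hF]; norm_num
  have h1 := Subgroup.card_eq_card_quotient_mul_card_subgroup (Subgroup.center (Cfsg.SU 3 F 2))
  rw [Cfsg.Agent.Lib.Helper5.card_center_SU hF' (by omega : 1 ≤ 3)] at h1
  have h2 := Cfsg.Agent.Lib.Helper5.card_SU_mul hF' (by omega : 1 ≤ 3)
  rw [h1, Cfsg.Agent.Lib.Helper5.card_GU hF' 3] at h2
  change (2 + 1) * (Nat.card (Cfsg.PSU 3 F 2) * Nat.gcd 3 (2 + 1)) = _ at h2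
  simp [Finset.prod_range_succ] at h2
  omega

theorem mono_of_invol (hF : Fintype.card F = 4) (s : SU 3 F 2) (hs : s * s = 1) :
    ∃ σ, IsMono s.1.1 σ := by
  have hF' : Fintype.card F = 2 ^ 2 := by rw [hF]; norm_num
  have hU : (s.1.1)ᵀ * (s.1.1).map (· ^ 2) = 1 :=
    (Cfsg.Agent.Lib.Helper5.preserves_iff_matrix hF' s.1.1).mp
      (Cfsg.Agent.Lib.Helper5.SU_preserves s)
  have hMM : s.1.1 * s.1.1 = 1 := congrArg (fun x : SU 3 F 2 => x.1.1) hs
  generalize s.1.1 = M at hU hMM ⊢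
  have hTT : Mᵀ * Mᵀ = 1 := by rw [← Matrix.transpose_mul, hMM, Matrix.transpose_one]
  have hmap : M.map (· ^ 2) = Mᵀ := by
    calc M.map (· ^ 2) = (Mᵀ * Mᵀ) * M.map (· ^ 2) := by rw [hTT, one_mul]
      _ = Mᵀ * (Mᵀ * M.map (· ^ 2)) := by rw [mul_assoc]
      _ = Mᵀ := by rw [hU, mul_one]
  have hH : ∀ i j, M i j = (M j i) ^ 2 := by
    intro i j
    have := congrFun (congrFun hmap j) i
    simp only [Matrix.map_apply, Matrix.transpose_apply] at this
    exact this.symm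
  exact pattern hF M hH hMM

theorem invol_mem (hF : Fintype.card F = 4) (g : Cfsg.PSU 3 F 2) (hg : g ^ 2 = 1) :
    g ∈ (Mon F).map (QuotientGroup.mk' (Subgroup.center (SU 3 F 2))) := by
  have hF' : Fintype.card F = 2 ^ 2 := by rw [hF]; norm_num
  obtain ⟨s, rfl⟩ := QuotientGroup.mk_surjective g
  have hz : s ^ 2 ∈ Subgroup.center (SU 3 F 2) := by
    rw [← QuotientGroup.eq_one_iff, QuotientGroup.mk_pow]; exact hg
  have hcardZ : Nat.card (Subgroup.center (SU 3 F 2)) = 3 := by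
    rw [Cfsg.Agent.Lib.Helper5.card_center_SU hF' (by norm_num)]
    rfl
  have hz3 : (s ^ 2) ^ 3 = 1 := by
    have := pow_card_eq_one' (G := Subgroup.center (SU 3 F 2)) (x := ⟨s ^ 2, hz⟩)
    rw [hcardZ] at this
    exact congrArg Subtype.val this
  have hs' : (s ^ 3) * (s ^ 3) = 1 := by
    rw [← pow_add, show 3 + 3 = 2 * 3 by norm_num, pow_mul]; exact hz3
  obtain ⟨σ, hσ⟩ := mono_of_invol hF (s ^ 3) hs'
  refine ⟨s ^ 3, ⟨σ, hσ⟩, ?_⟩
  change ((s ^ 3 : SU 3 F 2) : Cfsg.PSU 3 F 2) = (s : Cfsg.PSU 3 F 2)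
  rw [pow_succ s 2, QuotientGroup.mk_mul, (QuotientGroup.eq_one_iff _).mpr hz, one_mul]

theorem no_compl (hF : Fintype.card F = 4) (H : Subgroup (Cfsg.PSU 3 F 2)) [H.Normal]
    (hH1 : ∀ g : Cfsg.PSU 3 F 2, g ^ 2 = 1 → g ∈ H)
    (hH2 : H ≤ (Mon F).map (QuotientGroup.mk' (Subgroup.center (SU 3 F 2))))
    (X : Subgroup (Cfsg.PSU 3 F 2)) (hX : IsCompl H X) : False := by
  have hcard := card_PSU hF
  have hfin : Finite (Cfsg.PSU 3 F 2) := Nat.finite_of_card_ne_zero (by rw [hcard]; norm_num)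
  have hXinv : ∀ x ∈ X, x ^ 2 = 1 → x = 1 := by
    intro x hx hx2
    have : x ∈ H ⊓ X := ⟨hH1 x hx2, hx⟩
    rw [hX.inf_eq_bot] at this
    exact (Subgroup.mem_bot).mp this
  have hXodd : ¬ 2 ∣ Nat.card X := by
    intro h2
    have : Fact (Nat.Prime 2) := ⟨Nat.prime_two⟩
    obtain ⟨x, hx⟩ := exists_prime_orderOf_dvd_card' 2 h2
    have hx2 : x ^ 2 = 1 := by
      have := pow_orderOf_eq_one x
      rwa [hx] at this
    have := hXinv x.1 x.2 (by exact_mod_cast congrArg Subtype.val hx2)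
    have hx1 : x = 1 := Subtype.ext this
    rw [hx1, orderOf_one] at hx
    omega
  have hmul : (H : Set (Cfsg.PSU 3 F 2)) * (X : Set (Cfsg.PSU 3 F 2)) = Set.univ := by
    rw [← Subgroup.normal_mul, hX.sup_eq_top]; rfl
  have hcompl : Subgroup.IsComplement' H X :=
    Subgroup.isComplement'_of_disjoint_and_mul_eq_univ hX.disjoint hmul
  have hcm := hcompl.card_mul_card
  rw [hcard] at hcm
  have h8 : 8 ∣ Nat.card H := by
    have hc : Nat.Coprime 8 (Nat.card X) := by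
      have : Nat.Coprime 2 (Nat.card X) := (Nat.Prime.coprime_iff_not_dvd Nat.prime_two).mpr hXodd
      exact this.pow_left 3
    apply hc.dvd_of_dvd_mul_right
    rw [hcm]; norm_num
  obtain ⟨n, m, hnm, hm⟩ := card_Mon hF
  have hdvd : Nat.card H ∣ Nat.card (Mon F) :=
    dvd_trans (Subgroup.card_dvd_of_le hH2) (Subgroup.card_map_dvd (Mon F) _)
  rw [hnm] at hdvd
  exact not_eight_dvd n m hm (dvd_trans h8 hdvd)

/-- The subgroup lattice of PSU₃(2) (the solvable group of order 72, realised over the field with 4 elements) is not complemented: some subgroup H has no subgroup X with H ⊔ X = ⊤ and H ⊓ X = ⊥. -/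
theorem result {F : Type*} [Field F] [Fintype F] (hF : Fintype.card F = 4) :
    ¬ ComplementedLattice (Subgroup (Cfsg.PSU 3 F 2)) := by
  intro hcl
  obtain ⟨X, hX⟩ := hcl.exists_isCompl (Subgroup.normalClosure {g : Cfsg.PSU 3 F 2 | g ^ 2 = 1})
  refine no_compl hF (Subgroup.normalClosure {g : Cfsg.PSU 3 F 2 | g ^ 2 = 1}) ?_ ?_ X hX
  · intro g hg
    exact Subgroup.subset_normalClosure hg
  · rw [Subgroup.normalClosure]
    apply (Subgroup.closure_le _).mpr
    intro a ha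
    obtain ⟨b, hb, hab⟩ := Group.mem_conjugatesOfSet_iff.mp ha
    obtain ⟨c, rfl⟩ := isConj_iff.mp hab
    apply invol_mem hF
    have hb2 : b ^ 2 = 1 := hb
    rw [conj_pow, hb2, mul_one, mul_inv_cancel]

end main

end Cfsg.Agent.S5908
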