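import Cfsg.Statements.S0264
import Mathlib
-- import your own Cfsg.Agent.* helpers here
import Cfsg.Agent.Lib.Helper5.SLGen

set_option autoImplicit false
open Cfsg

namespace Cfsg.Agent.S0264

open Matrix Matrix.SpecialLinearGroup
open scoped MatrixGroups commutatorElement

variable {F : Type*} [Field F]

/-- In `GL₂`, conjugating a transvection by `diag(a,1)` or `diag(1,a)` scales it;
so each transvection is a commutator if there is `a ≠ 0, 1`. -/
theorem toGL_transvection_mem_commutator_two {a : F} (ha0 : a ≠ 0) (ha1 : a ≠ 1)
    {i j : Fin 2} (hij : i ≠ j) (c : F) :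
    toGL (transvection hij c) ∈ commutator (GL (Fin 2) F) := by
  have ha1' : a - 1 ≠ 0 := sub_ne_zero.mpr ha1
  -- the diagonal element
  let D0 : GL (Fin 2) F := Matrix.GeneralLinearGroup.mkOfDetNeZero !![a, 0; 0, 1] (by simp [Matrix.det_fin_two, ha0])
  let D1 : GL (Fin 2) F := Matrix.GeneralLinearGroup.mkOfDetNeZero !![1, 0; 0, a] (by simp [Matrix.det_fin_two, ha0])
  set b : F := c / (a - 1) with hb
  have hcb : c = (a - 1) * b := by rw [hb]; field_simp
  have key : ∀ D : GL (Fin 2) F, D * toGL (transvection hij b) = toGL (transvection hij c) * toGL (transvection hij b) * D →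
      toGL (transvection hij c) ∈ commutator (GL (Fin 2) F) := by
    intro D hD
    have : toGL (transvection hij c) = ⁅D, toGL (transvection hij b)⁆ := by
      rw [commutatorElement_def, hD]; group
    rw [this]
    exact Subgroup.commutator_mem_commutator (Subgroup.mem_top _) (Subgroup.mem_top _)
  fin_cases i <;> fin_cases j
  · exact absurd rfl hij
  · apply key D0
    apply Units.ext
    ext r s
    fin_cases r <;> fin_cases s <;>
      simp [D0, Matrix.GeneralLinearGroup.mkOfDetNeZero, transvection_coe, Matrix.mul_apply, Fin.sum_univ_two, Matrix.one_apply, Matrix.single_apply, hcb] <;> ring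
  · apply key D1
    apply Units.ext
    ext r s
    fin_cases r <;> fin_cases s <;>
      simp [D1, Matrix.GeneralLinearGroup.mkOfDetNeZero, transvection_coe, Matrix.mul_apply, Fin.sum_univ_two, Matrix.one_apply, Matrix.single_apply, hcb] <;> ring
  · exact absurd rfl hij


/-- GL_n(F)' = SL_n(F) (as the kernel of det), for every field F and every n, except n = 2 over the field of two elements. -/
theorem result {F : Type*} [Field F] (n : ℕ) (h : n = 2 → ∃ a : F, a ≠ 0 ∧ a ≠ 1) : commutator (Matrix.GeneralLinearGroup (Fin n) F) = (Matrix.GeneralLinearGroup.det : Matrix.GeneralLinearGroup (Fin n) F →* Fˣ).ker := by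
  apply le_antisymm
  · exact Abelianization.commutator_subset_ker _
  · intro g hg
    have hdet : (g : Matrix (Fin n) (Fin n) F).det = 1 := by
      have := MonoidHom.mem_ker.mp hg
      have h2 := congrArg Units.val this
      simpa using h2
    have hg' : g = toGL (⟨g, hdet⟩ : SpecialLinearGroup (Fin n) F) := by
      apply Units.ext; rfl
    rw [hg']
    refine Cfsg.Agent.Lib.Helper5.transvection_induction
      (fun M => toGL M ∈ commutator (Matrix.GeneralLinearGroup (Fin n) F)) (by simp [one_mem])
      (fun i j hij c => ?_) (fun A B hA hB => by simpa using mul_mem hA hB) _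
    by_cases hn3 : 3 ≤ n
    · obtain ⟨k, hki, hkj⟩ := Cfsg.Agent.Lib.Helper5.exists_ne_ne_of_three_le_card (ι := Fin n) (by simpa using hn3) i j
      have := Cfsg.Agent.Lib.Helper5.commutator_transvection_transvection hij (Ne.symm hki) hkj c (1 : F)
      rw [mul_one] at this
      rw [← this, map_commutatorElement]
      exact Subgroup.commutator_mem_commutator (Subgroup.mem_top _) (Subgroup.mem_top _)
    · have hn2 : n = 2 := by
        have h1 : i.val < n := i.isLt
        have h2 : j.val < n := j.isLt
        have h3 : i.val ≠ j.val := fun h => hij (Fin.ext h)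
        omega
      subst hn2
      obtain ⟨a, ha0, ha1⟩ := h rfl
      exact toGL_transvection_mem_commutator_two ha0 ha1 hij c

end Cfsg.Agent.S0264
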