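import Cfsg.Statements.S0298
import Mathlib
-- import your own Cfsg.Agent.* helpers here
import Cfsg.Agent.Lib.Helper5.Adjoint3
import Cfsg.Agent.Lib.Helper5.Adjoint3Ker
import Cfsg.Agent.Lib.Helper5.PSL2Center
import Cfsg.Agent.Lib.Helper5.SL2Sylow
import Cfsg.Agent.Lib.Helper5.OrthOdd
import Cfsg.Agent.S0264
import Cfsg.Agent.S0265

set_option autoImplicit false
open Cfsg

namespace Cfsg.Agent.S0298

open Matrix Cfsg.Agent.Lib.Helper5
open scoped MatrixGroups commutatorElement

variable {F : Type*} [Field F]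

/-- codomain-restricted adjoint map -/
def adjO (F : Type*) [Field F] : GL (Fin 2) F →* Cfsg.isometryGroup F (Cfsg.quadFormOdd 1 F) :=
  (adjGL F).codRestrict _ adjGL_mem

theorem adjO_val (g : GL (Fin 2) F) : (adjO F g).1 = adjGL F g := rfl

theorem adjO_ker : (adjO F).ker = Subgroup.center (GL (Fin 2) F) := by
  ext g
  rw [MonoidHom.mem_ker, ← adj_eq_one_iff, ← adjGL_eq_one_iff]
  constructor
  · intro h; exact congrArg Subtype.val h
  · intro h; exact Subtype.ext h

theorem scalar_neg_one_mulVec (u : I3 → F) :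
    (GeneralLinearGroup.scalar I3 (-1 : Fˣ)).1 *ᵥ u = -u := by
  rw [GeneralLinearGroup.coe_scalar, Matrix.scalar_apply, ← Matrix.smul_one_eq_diagonal,
    Matrix.smul_mulVec, Matrix.one_mulVec]
  simp

/-- the central element `-1` of `O(Q)` -/
def negO (F : Type*) [Field F] : Cfsg.isometryGroup F (Cfsg.quadFormOdd 1 F) :=
  ⟨GeneralLinearGroup.scalar I3 (-1 : Fˣ), by
    intro u v
    change Cfsg.quadFormOdd 1 F ((GeneralLinearGroup.scalar I3 (-1 : Fˣ)).1 *ᵥ u)
      = Cfsg.quadFormOdd 1 F u
    rw [scalar_neg_one_mulVec]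
    simp [Cfsg.quadFormOdd]⟩

theorem negO_mem_center : negO F ∈ Subgroup.center (Cfsg.isometryGroup F (Cfsg.quadFormOdd 1 F)) := by
  rw [Subgroup.mem_center_iff]
  intro g
  apply Subtype.ext
  have hc : GeneralLinearGroup.scalar I3 (-1 : Fˣ) ∈ Subgroup.center (GL I3 F) := by
    rw [GeneralLinearGroup.center_eq_range_scalar]
    exact ⟨_, rfl⟩
  exact Subgroup.mem_center_iff.mp hc g.1

theorem negO_not_mem_range (h2 : (2 : F) ≠ 0) : negO F ∉ (adjO F).range := by
  rintro ⟨g, hg⟩
  apply adj_ne_neg h2 g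
  intro v
  rw [← adjGL_mulVec, ← adjO_val, hg]
  exact scalar_neg_one_mulVec v

theorem adjO_range_index [Fintype F] (hodd : Odd (Fintype.card F)) : (adjO F).range.index = 2 := by
  have h1 : Nat.card (adjO F).range = Nat.card SL(2, F) := by
    rw [Nat.card_congr (QuotientGroup.quotientKerEquivRange (adjO F)).toEquiv.symm, adjO_ker]
    exact Cfsg.Agent.S0265.result 2
  have h2 := (adjO F).range.card_mul_index
  rw [h1, Cfsg.Agent.Lib.Helper5.card_SL2, Cfsg.Agent.Lib.Helper5.card_isometryGroup_odd rfl hodd 1] at h2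
  simp only [one_pow, pow_one, Finset.range_one, Finset.prod_singleton, zero_add, mul_one] at h2
  have hq : 2 ≤ Fintype.card F := Fintype.one_lt_card
  have hpos : 0 < Fintype.card F * (Fintype.card F ^ 2 - 1) := by
    apply Nat.mul_pos (by omega)
    have : 2 ^ 2 ≤ Fintype.card F ^ 2 := Nat.pow_le_pow_left hq 2
    omega
  have : Fintype.card F * (Fintype.card F ^ 2 - 1) * (adjO F).range.index
      = Fintype.card F * (Fintype.card F ^ 2 - 1) * 2 := by
    rw [h2]; ring
  exact Nat.eq_of_mul_eq_mul_left hpos this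

theorem det_ker_eq_range : (Matrix.GeneralLinearGroup.det : GL (Fin 2) F →* Fˣ).ker
    = (Matrix.SpecialLinearGroup.toGL : SL(2, F) →* GL (Fin 2) F).range := by
  ext g
  rw [MonoidHom.mem_ker, MonoidHom.mem_range]
  constructor
  · intro h
    have hd : g.1.det = 1 := by
      have := congrArg Units.val h
      simpa using this
    refine ⟨⟨g.1, hd⟩, ?_⟩
    apply Units.ext
    rfl
  · rintro ⟨A, rfl⟩
    exact Matrix.SpecialLinearGroup.coeToGL_det A

/-- the map `SL₂ → O(Q)` -/
def psiO (F : Type*) [Field F] : SL(2, F) →* Cfsg.isometryGroup F (Cfsg.quadFormOdd 1 F) :=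
  (adjO F).comp Matrix.SpecialLinearGroup.toGL

theorem psiO_ker : (psiO F).ker = Subgroup.center SL(2, F) := by
  ext A
  rw [MonoidHom.mem_ker]
  change adjO F (Matrix.SpecialLinearGroup.toGL A) = 1 ↔ _
  rw [← MonoidHom.mem_ker, adjO_ker]
  constructor
  · intro h
    rw [Subgroup.mem_center_iff]
    intro B
    have := Subgroup.mem_center_iff.mp h (Matrix.SpecialLinearGroup.toGL B)
    rw [← map_mul, ← map_mul] at this
    exact Matrix.SpecialLinearGroup.toGL_injective this
  · intro h
    obtain ⟨r, hr, hA⟩ := Matrix.SpecialLinearGroup.mem_center_iff.mp h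
    rw [Subgroup.mem_center_iff]
    intro g
    apply Units.ext
    change g.1 * A.1 = A.1 * g.1
    rw [← hA]
    exact ((Matrix.scalar_commute (n := Fin 2) r (Commute.all _) g.1).eq).symm


/-- PΩ_3(q) is isomorphic to PSL_2(q) for q odd. -/
theorem result {F : Type*} [Field F] [Fintype F] (hodd : Odd (Fintype.card F)) : Nonempty (Cfsg.POmega F (Cfsg.quadFormOdd 1 F) ≃* Matrix.ProjectiveSpecialLinearGroup (Fin 2) F) := by
  have h2 : (2 : F) ≠ 0 := by
    have h : ringChar F ≠ 2 := by
      intro h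
      have := FiniteField.even_card_iff_char_two.mp h
      rcases hodd with ⟨k, hk⟩
      omega
    exact Ring.two_ne_zero h
  have hΩ : Cfsg.Omega F (Cfsg.quadFormOdd 1 F) = (psiO F).range := by
    change commutator _ = _
    rw [commutator_eq_map_of_index_two (adjO F) (negO F) negO_mem_center (negO_not_mem_range h2)
      (adjO_range_index hodd)]
    rw [Cfsg.Agent.S0264.result 2 (fun _ => ⟨-1, by simp, fun h => h2 (by linear_combination (-1 : F) * h)⟩),
      det_ker_eq_range, MonoidHom.map_range]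
    rfl
  have e1 : Cfsg.Omega F (Cfsg.quadFormOdd 1 F) ≃* Matrix.ProjectiveSpecialLinearGroup (Fin 2) F :=
    (MulEquiv.subgroupCongr hΩ).trans
      ((QuotientGroup.quotientKerEquivRange (psiO F)).symm.trans
        (QuotientGroup.quotientMulEquivOfEq psiO_ker))
  have hc : Subgroup.center (Cfsg.Omega F (Cfsg.quadFormOdd 1 F)) = ⊥ :=
    center_eq_bot_of_mulEquiv e1 (center_PSL2_eq_bot h2)
  exact ⟨((QuotientGroup.quotientMulEquivOfEq hc).trans (QuotientGroup.quotientBot)).trans e1⟩

end Cfsg.Agent.S0298
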