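import Cfsg.Statements.S0289
import Mathlib
-- import your own Cfsg.Agent.* helpers here
import Cfsg.Agent.Lib.Helper5.QuadCount

set_option autoImplicit false
open Cfsg

namespace Cfsg.Agent.S0289

open Matrix

/-- The hyperbolic quadratic form on F^(2m), m at least 1, has q^(2m-1) + q^m - q^(m-1) zeros (that is, (q^m - 1)(q^(m-1) + 1) non-zero isotropic vectors). -/
theorem result {F : Type*} [Field F] [Fintype F] {q : ℕ} (hF : Fintype.card F = q) (m : ℕ) (hm : 1 ≤ m) : Nat.card {v : Fin m ⊕ Fin m → F // Cfsg.quadFormPlus m F v = 0} = q ^ (2 * m - 1) + q ^ m - q ^ (m - 1) := by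
  subst hF
  let e : {v : Fin m ⊕ Fin m → F // Cfsg.quadFormPlus m F v = 0} ≃
      {p : (Fin m → F) × (Fin m → F) × Unit // p.1 ⬝ᵥ p.2.1 + (fun _ : Unit => (0 : F)) p.2.2 = 0} :=
    { toFun := fun v => ⟨(fun i => v.1 (Sum.inl i), fun i => v.1 (Sum.inr i), ()), by
        have := v.2
        simpa [Cfsg.quadFormPlus, dotProduct] using this⟩
      invFun := fun p => ⟨Sum.elim p.1.1 p.1.2.1, by
        have := p.2
        simpa [Cfsg.quadFormPlus, dotProduct] using this⟩
      left_inv := fun v => by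
        apply Subtype.ext
        funext i
        rcases i with i | i <;> rfl
      right_inv := fun p => rfl }
  rw [Nat.card_congr e, Cfsg.Agent.Lib.Helper5.card_hyperbolic_add m (fun _ : Unit => (0 : F))]
  have hZ : Nat.card {w : Unit // (fun _ : Unit => (0 : F)) w = 0} = 1 := by
    rw [Nat.card_eq_one_iff_unique]
    exact ⟨⟨fun a b => Subtype.ext rfl⟩, ⟨⟨(), rfl⟩⟩⟩
  rw [hZ, Nat.card_unique, mul_one, mul_one]
  have hq : 1 ≤ Fintype.card F := Fintype.card_pos
  have h1 : 1 ≤ Fintype.card F ^ m := Nat.one_le_pow _ _ hq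
  have h2 : 1 ≤ Fintype.card F ^ (m - 1) := Nat.one_le_pow _ _ hq
  have h3 : Fintype.card F ^ (2 * m - 1) = Fintype.card F ^ m * Fintype.card F ^ (m - 1) := by
    rw [← pow_add]; congr 1; omega
  rw [h3, Nat.sub_mul, one_mul]
  have h4 : Fintype.card F ^ (m - 1) ≤ Fintype.card F ^ m * Fintype.card F ^ (m - 1) :=
    Nat.le_mul_of_pos_left _ h1
  omega

end Cfsg.Agent.S0289
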