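import Cfsg.Statements.S0299
import Mathlib
-- import your own Cfsg.Agent.* helpers here
import Cfsg.Agent.Lib.Helper5.OmegaPlus4c
import Cfsg.Agent.Lib.Helper5.PSL2Center
import Cfsg.Agent.Lib.Helper5.PSL2Small

set_option autoImplicit false
open Cfsg

namespace Cfsg.Agent.S0299

open Matrix Cfsg.Agent.Lib.Helper5
open scoped MatrixGroups commutatorElement

section general
variable {G H : Type*} [Group G] [Group H]

theorem quotient_center_equiv_of_surjective (f : G →* H) (hf : Function.Surjective f)
    (hker : f.ker ≤ Subgroup.center G) (hH : Subgroup.center H = ⊥) :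
    Nonempty (G ⧸ Subgroup.center G ≃* H) := by
  have hc : Subgroup.center G = f.ker := by
    apply le_antisymm
    · intro x hx
      rw [MonoidHom.mem_ker]
      have : f x ∈ Subgroup.center H := by
        rw [Subgroup.mem_center_iff]
        intro y
        obtain ⟨y', rfl⟩ := hf y
        rw [← map_mul, ← map_mul, Subgroup.mem_center_iff.mp hx y']
      rwa [hH, Subgroup.mem_bot] at this
    · exact hker
  exact ⟨(QuotientGroup.quotientMulEquivOfEq hc).trans (QuotientGroup.quotientKerEquivOfSurjective f hf)⟩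

end general

variable {F : Type*} [Field F]

theorem center_PSL2_eq_bot' : Subgroup.center (Matrix.ProjectiveSpecialLinearGroup (Fin 2) F) = ⊥ := by
  by_cases h2 : (2 : F) = 0
  · have hc := center_SL2_eq_bot_of_two_eq_zero h2
    exact center_eq_bot_of_mulEquiv
      ((QuotientGroup.quotientMulEquivOfEq hc).trans QuotientGroup.quotientBot) hc
  · exact center_PSL2_eq_bot h2

theorem Omega_plus4 [Fintype F] (hF : ∃ a : F, a ≠ 0 ∧ a ≠ 1) :
    Cfsg.Omega F (Cfsg.quadFormPlus 2 F) = (psi0 F).range := by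
  change commutator _ = _
  haveI hnorm : (phi0 F).range.Normal := Subgroup.normal_of_index_eq_two index_range_phi0
  haveI hN : ((psi0 F).range).Normal := by
    rw [← commutator_range_phi0 hF]
    exact Subgroup.commutator_normal _ _
  apply le_antisymm
  · have hcomm : IsMulCommutative (Cfsg.isometryGroup F (Cfsg.quadFormPlus 2 F) ⧸ (psi0 F).range) := by
      rcases index_range_psi0 (F := F) with h | h
      · have h' : Nat.card (Cfsg.isometryGroup F (Cfsg.quadFormPlus 2 F) ⧸ (psi0 F).range) = 2 := h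
        haveI : Fact (Nat.Prime 2) := ⟨Nat.prime_two⟩
        haveI := isCyclic_of_prime_card h'
        infer_instance
      · have h' : Nat.card (Cfsg.isometryGroup F (Cfsg.quadFormPlus 2 F) ⧸ (psi0 F).range) = 2 ^ 2 := h
        haveI : Fact (Nat.Prime 2) := ⟨Nat.prime_two⟩
        exact IsPGroup.isMulCommutative_of_card_eq_prime_sq h'
    exact Subgroup.Normal.quotient_commutative_iff_commutator_le.mp hcomm
  · rw [← commutator_range_phi0 hF, commutator_def]
    exact Subgroup.commutator_mono le_top le_top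

/-- the projection `SL₂ × SL₂ → PSL₂ × PSL₂` -/
def piP (F : Type*) [Field F] : SL(2, F) × SL(2, F) →*
    Matrix.ProjectiveSpecialLinearGroup (Fin 2) F × Matrix.ProjectiveSpecialLinearGroup (Fin 2) F :=
  MonoidHom.prodMap (QuotientGroup.mk' _) (QuotientGroup.mk' _)

theorem piP_surjective : Function.Surjective (piP F) := by
  rintro ⟨a, b⟩
  obtain ⟨x, rfl⟩ := QuotientGroup.mk_surjective a
  obtain ⟨y, rfl⟩ := QuotientGroup.mk_surjective b
  exact ⟨(x, y), rfl⟩

theorem mem_ker_piP (p : SL(2, F) × SL(2, F)) :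
    p ∈ (piP F).ker ↔ p.1 ∈ Subgroup.center SL(2, F) ∧ p.2 ∈ Subgroup.center SL(2, F) := by
  rw [MonoidHom.mem_ker]
  change (QuotientGroup.mk' _ p.1, QuotientGroup.mk' _ p.2) = 1 ↔ _
  rw [Prod.ext_iff]
  simp only [QuotientGroup.mk'_apply, Prod.fst_one, Prod.snd_one, QuotientGroup.eq_one_iff]

theorem psi0_ker_le [Fintype F] : (psi0 F).ker ≤ (piP F).ker := by
  intro p hp
  obtain ⟨r, hr, h1, h2⟩ := (psi0_ker_iff p).mp hp
  rw [mem_ker_piP]
  constructor
  · rw [Matrix.SpecialLinearGroup.mem_center_iff]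
    exact ⟨r, by rw [Fintype.card_fin]; exact hr, h1.symm⟩
  · rw [Matrix.SpecialLinearGroup.mem_center_iff]
    exact ⟨r, by rw [Fintype.card_fin]; exact hr, h2.symm⟩


/-- PΩ^+_4(q) is isomorphic to PSL_2(q) x PSL_2(q) for q at least 3. -/
theorem result {F : Type*} [Field F] [Fintype F] (hF : 3 ≤ Fintype.card F) : Nonempty (Cfsg.POmega F (Cfsg.quadFormPlus 2 F) ≃* Matrix.ProjectiveSpecialLinearGroup (Fin 2) F × Matrix.ProjectiveSpecialLinearGroup (Fin 2) F) := by
  have hF' : ∃ a : F, a ≠ 0 ∧ a ≠ 1 := by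
    classical
    by_contra h
    push_neg at h
    have hsub : (Finset.univ : Finset F) ⊆ {0, 1} := by
      intro a _
      by_cases ha : a = 0
      · simp [ha]
      · simp [h a ha]
    have h1 := Finset.card_le_card hsub
    have h2 : ({0, 1} : Finset F).card ≤ 2 := Finset.card_le_two
    rw [Finset.card_univ] at h1
    omega
  have hΩ := Omega_plus4 hF'
  -- Ω ≃* (SL₂ × SL₂) ⧸ ker ψ
  let e1 : Cfsg.Omega F (Cfsg.quadFormPlus 2 F) ≃* (SL(2, F) × SL(2, F)) ⧸ (psi0 F).ker :=
    (MulEquiv.subgroupCongr hΩ).trans (QuotientGroup.quotientKerEquivRange (psi0 F)).symm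
  let pibar : (SL(2, F) × SL(2, F)) ⧸ (psi0 F).ker →*
      Matrix.ProjectiveSpecialLinearGroup (Fin 2) F × Matrix.ProjectiveSpecialLinearGroup (Fin 2) F :=
    QuotientGroup.lift (psi0 F).ker (piP F) psi0_ker_le
  let f : Cfsg.Omega F (Cfsg.quadFormPlus 2 F) →*
      Matrix.ProjectiveSpecialLinearGroup (Fin 2) F × Matrix.ProjectiveSpecialLinearGroup (Fin 2) F :=
    pibar.comp e1.toMonoidHom
  have hpibar_surj : Function.Surjective pibar := by
    intro y
    obtain ⟨p, rfl⟩ := piP_surjective y
    exact ⟨QuotientGroup.mk p, rfl⟩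
  have hf_surj : Function.Surjective f := hpibar_surj.comp e1.surjective
  have hpibar_ker : pibar.ker ≤ Subgroup.center _ := by
    intro q hq
    obtain ⟨p, rfl⟩ := QuotientGroup.mk_surjective q
    have hp : p ∈ (piP F).ker := by
      rw [MonoidHom.mem_ker] at hq ⊢
      exact hq
    rw [mem_ker_piP] at hp
    rw [Subgroup.mem_center_iff]
    intro q'
    obtain ⟨p', rfl⟩ := QuotientGroup.mk_surjective q'
    rw [← QuotientGroup.mk_mul, ← QuotientGroup.mk_mul]
    congr 1
    apply Prod.ext
    · exact Subgroup.mem_center_iff.mp hp.1 p'.1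
    · exact Subgroup.mem_center_iff.mp hp.2 p'.2
  have hf_ker : f.ker ≤ Subgroup.center _ := by
    intro x hx
    have h1 : e1 x ∈ pibar.ker := by
      rw [MonoidHom.mem_ker] at hx ⊢
      exact hx
    have h2 := hpibar_ker h1
    rw [Subgroup.mem_center_iff] at h2 ⊢
    intro y
    have h3 := h2 (e1 y)
    rw [← map_mul, ← map_mul] at h3
    exact e1.injective h3
  have hcenter : Subgroup.center (Matrix.ProjectiveSpecialLinearGroup (Fin 2) F ×
      Matrix.ProjectiveSpecialLinearGroup (Fin 2) F) = ⊥ := by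
    rw [eq_bot_iff]
    intro x hx
    rw [Subgroup.mem_bot]
    have h1 : x.1 ∈ Subgroup.center (Matrix.ProjectiveSpecialLinearGroup (Fin 2) F) := by
      rw [Subgroup.mem_center_iff]
      intro y
      have := congrArg Prod.fst (Subgroup.mem_center_iff.mp hx (y, 1))
      simpa using this
    have h2 : x.2 ∈ Subgroup.center (Matrix.ProjectiveSpecialLinearGroup (Fin 2) F) := by
      rw [Subgroup.mem_center_iff]
      intro y
      have := congrArg Prod.snd (Subgroup.mem_center_iff.mp hx (1, y))
      simpa using this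
    rw [center_PSL2_eq_bot', Subgroup.mem_bot] at h1 h2
    exact Prod.ext h1 h2
  exact quotient_center_equiv_of_surjective f hf_surj hf_ker hcenter

end Cfsg.Agent.S0299
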