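import Cfsg.Statements.S0300
import Mathlib
-- import your own Cfsg.Agent.* helpers here
import Cfsg.Agent.Lib.Helper5.OmegaMinus4c
import Cfsg.Agent.Lib.Helper5.OmegaMinus4d
import Cfsg.Agent.S0299

set_option autoImplicit false
open Cfsg

namespace Cfsg.Agent.S0300

open Matrix Cfsg.Agent.Lib.Helper5
open scoped MatrixGroups commutatorElement

variable {k K : Type*} [Field k] [Field K] [Fintype K] {q : ℕ} {a b : k}

theorem Omega_minus4 (D : MinusData k K q a b) (hK : Fintype.card K = q ^ 2) [Fintype k]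
    (hk : Fintype.card k = q)
    (hab : ∀ z₁ z₂ : k, z₁ ^ 2 + a * z₁ * z₂ + b * z₂ ^ 2 = 0 → z₁ = 0 ∧ z₂ = 0)
    (hperf : commutator SL(2, K) = ⊤) :
    Cfsg.Omega k (Cfsg.quadFormMinus 1 k a b) = (D.psi1 hK).range := by
  change commutator _ = _
  haveI hnorm : (D.phi1 hK).range.Normal :=
    Subgroup.normal_of_index_eq_two (D.index_range_phi1 hK hk hab)
  haveI hN : ((D.psi1 hK).range).Normal := by
    rw [← D.commutator_range_phi1 hK hperf]
    exact Subgroup.commutator_normal _ _
  apply le_antisymm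
  · have hcomm : IsMulCommutative
        (Cfsg.isometryGroup k (Cfsg.quadFormMinus 1 k a b) ⧸ (D.psi1 hK).range) := by
      rcases D.index_range_psi1 hK hk hab with h | h
      · have h' : Nat.card (Cfsg.isometryGroup k (Cfsg.quadFormMinus 1 k a b) ⧸ (D.psi1 hK).range) = 2 := h
        haveI : Fact (Nat.Prime 2) := ⟨Nat.prime_two⟩
        haveI := isCyclic_of_prime_card h'
        infer_instance
      · have h' : Nat.card (Cfsg.isometryGroup k (Cfsg.quadFormMinus 1 k a b) ⧸ (D.psi1 hK).range)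
            = 2 ^ 2 := h
        haveI : Fact (Nat.Prime 2) := ⟨Nat.prime_two⟩
        exact IsPGroup.isMulCommutative_of_card_eq_prime_sq h'
    exact Subgroup.Normal.quotient_commutative_iff_commutator_le.mp hcomm
  · rw [← D.commutator_range_phi1 hK hperf, commutator_def]
    exact Subgroup.commutator_mono le_top le_top

theorem psi1_ker_le (D : MinusData k K q a b) (hK : Fintype.card K = q ^ 2) :
    (D.psi1 hK).ker ≤ (QuotientGroup.mk' (Subgroup.center SL(2, K))).ker := by
  intro s hs
  obtain ⟨r, hr, h1⟩ := D.psi1_ker_iff hK s hs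
  rw [QuotientGroup.ker_mk', Matrix.SpecialLinearGroup.mem_center_iff]
  exact ⟨r, by rw [Fintype.card_fin]; exact hr, h1.symm⟩

theorem exists_ne_sq_ne_one (hK : 4 ≤ Fintype.card K) : ∃ t : K, t ≠ 0 ∧ t ^ 2 ≠ 1 := by
  classical
  by_contra h
  push_neg at h
  have hsub : (Finset.univ : Finset K) ⊆ {0, 1, -1} := by
    intro t _
    by_cases ht : t = 0
    · simp [ht]
    · have h1 := h t ht
      have : (t - 1) * (t + 1) = 0 := by linear_combination h1
      rcases mul_eq_zero.mp this with h2 | h2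
      · have : t = 1 := by linear_combination h2
        simp [this]
      · have : t = -1 := by linear_combination h2
        simp [this]
  have h1 := Finset.card_le_card hsub
  have h2 : ({0, 1, -1} : Finset K).card ≤ 3 := Finset.card_le_three
  rw [Finset.card_univ] at h1
  omega


/-- PΩ^-_4(q) is isomorphic to PSL_2(q^2). -/
theorem result {F K : Type*} [Field F] [Fintype F] [Field K] [Fintype K] {q : ℕ} (hF : Fintype.card F = q) (hK : Fintype.card K = q ^ 2) (a b : F) (hab : ∀ z₁ z₂ : F, z₁ ^ 2 + a * z₁ * z₂ + b * z₂ ^ 2 = 0 → z₁ = 0 ∧ z₂ = 0) : Nonempty (Cfsg.POmega F (Cfsg.quadFormMinus 1 F a b) ≃* Matrix.ProjectiveSpecialLinearGroup (Fin 2) K) := by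
  obtain ⟨D⟩ := exists_minusData hF hK hab
  have hq := two_le_of_card_eq_sq hK
  have hK4 : 4 ≤ Fintype.card K := by
    rw [hK]
    calc 4 = 2 ^ 2 := by norm_num
      _ ≤ q ^ 2 := Nat.pow_le_pow_left hq 2
  obtain ⟨t, ht0, ht1⟩ := exists_ne_sq_ne_one hK4
  have hperf : commutator SL(2, K) = ⊤ := Matrix.SL2.commutator_eq_top ht0 ht1
  have hΩ := Omega_minus4 D hK hF hab hperf
  let e1 : Cfsg.Omega F (Cfsg.quadFormMinus 1 F a b) ≃* SL(2, K) ⧸ (D.psi1 hK).ker :=
    (MulEquiv.subgroupCongr hΩ).trans (QuotientGroup.quotientKerEquivRange (D.psi1 hK)).symm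
  let pibar : SL(2, K) ⧸ (D.psi1 hK).ker →* Matrix.ProjectiveSpecialLinearGroup (Fin 2) K :=
    QuotientGroup.lift (D.psi1 hK).ker (QuotientGroup.mk' (Subgroup.center SL(2, K))) (psi1_ker_le D hK)
  let f : Cfsg.Omega F (Cfsg.quadFormMinus 1 F a b) →* Matrix.ProjectiveSpecialLinearGroup (Fin 2) K :=
    pibar.comp e1.toMonoidHom
  have hpibar_surj : Function.Surjective pibar := by
    intro y
    obtain ⟨s, rfl⟩ := QuotientGroup.mk_surjective y
    exact ⟨QuotientGroup.mk s, rfl⟩
  have hf_surj : Function.Surjective f := hpibar_surj.comp e1.surjective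
  have hpibar_ker : pibar.ker ≤ Subgroup.center _ := by
    intro x hx
    obtain ⟨s, rfl⟩ := QuotientGroup.mk_surjective x
    have hs : s ∈ Subgroup.center SL(2, K) := by
      rw [MonoidHom.mem_ker] at hx
      have hx' : (QuotientGroup.mk' (Subgroup.center SL(2, K))) s = 1 := hx
      rwa [← MonoidHom.mem_ker, QuotientGroup.ker_mk'] at hx'
    rw [Subgroup.mem_center_iff]
    intro y
    obtain ⟨s', rfl⟩ := QuotientGroup.mk_surjective y
    rw [← QuotientGroup.mk_mul, ← QuotientGroup.mk_mul, Subgroup.mem_center_iff.mp hs s']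
  have hf_ker : f.ker ≤ Subgroup.center _ := by
    intro x hx
    have h1 : e1 x ∈ pibar.ker := by
      rw [MonoidHom.mem_ker] at hx ⊢
      exact hx
    have h2 := hpibar_ker h1
    rw [Subgroup.mem_center_iff] at h2 ⊢
    intro y
    have h3 := h2 (e1 y)
    rw [← map_mul, ← map_mul] at h3
    exact e1.injective h3
  exact Cfsg.Agent.S0299.quotient_center_equiv_of_surjective f hf_surj hf_ker
    Cfsg.Agent.S0299.center_PSL2_eq_bot'

end Cfsg.Agent.S0300
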