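import Cfsg.Statements.S0302
import Mathlib
-- import your own Cfsg.Agent.* helpers here
import Cfsg.Agent.Lib.Helper5.OmegaPlus6c
import Cfsg.Agent.S0249
import Cfsg.Agent.S0299

set_option autoImplicit false
open Cfsg

namespace Cfsg.Agent.S0302

open Matrix Cfsg.Agent.Lib.Helper5
open scoped MatrixGroups commutatorElement

section general
variable {G : Type*} [Group G]

/-- A perfect simple group has trivial centre. -/
theorem center_eq_bot_of_simple_of_perfect [IsSimpleGroup G] (hperf : commutator G = ⊤) :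
    Subgroup.center G = ⊥ := by
  rcases (Subgroup.center G).normal_of_characteristic.eq_bot_or_eq_top with h | h
  · exact h
  · exfalso
    have h1 := (commutator_eq_bot_iff_center_eq_top G).mpr h
    rw [hperf] at h1
    exact top_ne_bot h1

/-- Generic final step: `Ω ≃* S ⧸ ker ψ` surjects onto `S ⧸ Z(S)` with central kernel. -/
theorem nonempty_quotient_center_equiv {S O : Type*} [Group S] [Group O] (ψ : S →* O)
    (Ω : Subgroup O) (hΩ : Ω = ψ.range) (hker : ψ.ker ≤ Subgroup.center S)
    (hZ : Subgroup.center (S ⧸ Subgroup.center S) = ⊥) :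
    Nonempty (Ω ⧸ Subgroup.center Ω ≃* S ⧸ Subgroup.center S) := by
  let e1 : Ω ≃* S ⧸ ψ.ker :=
    (MulEquiv.subgroupCongr hΩ).trans (QuotientGroup.quotientKerEquivRange ψ).symm
  have hker' : ψ.ker ≤ (QuotientGroup.mk' (Subgroup.center S)).ker := by
    rw [QuotientGroup.ker_mk']; exact hker
  let pibar : S ⧸ ψ.ker →* S ⧸ Subgroup.center S :=
    QuotientGroup.lift ψ.ker (QuotientGroup.mk' (Subgroup.center S)) hker'
  let f : Ω →* S ⧸ Subgroup.center S := pibar.comp e1.toMonoidHom
  have hpibar_surj : Function.Surjective pibar := by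
    intro y
    obtain ⟨s, rfl⟩ := QuotientGroup.mk_surjective y
    exact ⟨QuotientGroup.mk s, rfl⟩
  have hf_surj : Function.Surjective f := hpibar_surj.comp e1.surjective
  have hpibar_ker : pibar.ker ≤ Subgroup.center _ := by
    intro x hx
    obtain ⟨s, rfl⟩ := QuotientGroup.mk_surjective x
    have hs : s ∈ Subgroup.center S := by
      rw [MonoidHom.mem_ker] at hx
      have hx' : (QuotientGroup.mk' (Subgroup.center S)) s = 1 := hx
      rwa [← MonoidHom.mem_ker, QuotientGroup.ker_mk'] at hx'
    rw [Subgroup.mem_center_iff]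
    intro y
    obtain ⟨s', rfl⟩ := QuotientGroup.mk_surjective y
    rw [← QuotientGroup.mk_mul, ← QuotientGroup.mk_mul, Subgroup.mem_center_iff.mp hs s']
  have hf_ker : f.ker ≤ Subgroup.center _ := by
    intro x hx
    have h1 : e1 x ∈ pibar.ker := by
      rw [MonoidHom.mem_ker] at hx ⊢
      exact hx
    have h2 := hpibar_ker h1
    rw [Subgroup.mem_center_iff] at h2 ⊢
    intro y
    have h3 := h2 (e1 y)
    rw [← map_mul, ← map_mul] at h3
    exact e1.injective h3
  exact Cfsg.Agent.S0299.quotient_center_equiv_of_surjective f hf_surj hf_ker hZ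

end general

variable {F : Type*} [Field F]

theorem center_PSL4_eq_bot [Fintype F] :
    Subgroup.center (Matrix.ProjectiveSpecialLinearGroup (Fin 4) F) = ⊥ := by
  haveI : IsSimpleGroup (Matrix.ProjectiveSpecialLinearGroup (Fin 4) F) :=
    Cfsg.Agent.S0249.result 4 (by norm_num)
  apply center_eq_bot_of_simple_of_perfect
  have h1 : commutator SL(4, F) = ⊤ :=
    Cfsg.Agent.Lib.Helper5.commutator_SL_eq_top_of_three_le_card (by simp)
  have h2 : (commutator SL(4, F)).map (QuotientGroup.mk' (Subgroup.center SL(4, F)))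
      = commutator (Matrix.ProjectiveSpecialLinearGroup (Fin 4) F) := by
    rw [commutator_def, Subgroup.map_commutator, ← MonoidHom.range_eq_map,
      MonoidHom.range_eq_top.mpr (QuotientGroup.mk'_surjective _), ← commutator_def]
  rw [← h2, h1, ← MonoidHom.range_eq_map, MonoidHom.range_eq_top.mpr (QuotientGroup.mk'_surjective _)]

theorem psi6_ker_le_center : (psi6 F).ker ≤ Subgroup.center SL(4, F) := by
  intro s hs
  obtain ⟨r, hr, h1⟩ := psi6_ker s hs
  rw [Matrix.SpecialLinearGroup.mem_center_iff]
  refine ⟨r, ?_, h1.symm⟩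
  rw [Fintype.card_fin]
  have : r ^ 4 = (r ^ 2) ^ 2 := by ring
  rw [this, hr, one_pow]


/-- PΩ^+_6(q) is isomorphic to PSL_4(q). -/
theorem result {F : Type*} [Field F] [Fintype F] : Nonempty (Cfsg.POmega F (Cfsg.quadFormPlus 3 F) ≃* Matrix.ProjectiveSpecialLinearGroup (Fin 4) F) := by
  exact nonempty_quotient_center_equiv (psi6 F) _ Omega_plus6 psi6_ker_le_center center_PSL4_eq_bot

end Cfsg.Agent.S0302
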