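import Cfsg.Statements.S0301
import Mathlib
-- import your own Cfsg.Agent.* helpers here
import Cfsg.Agent.Lib.Helper5.OmegaOdd5b
import Cfsg.Agent.Lib.Helper5.OrthOdd
import Cfsg.Agent.S0245
import Cfsg.Agent.S0269
import Cfsg.Agent.S0270
import Cfsg.Agent.S0302

set_option autoImplicit false
open Cfsg

namespace Cfsg.Agent.S0301

open Matrix Cfsg.Agent.Lib.Helper5
open scoped MatrixGroups commutatorElement

variable {F : Type*} [Field F]

theorem card_psi5_ker_le (h2 : (2 : F) ≠ 0) : Nat.card (psi5 F).ker ≤ 2 := by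
  classical
  let f : (psi5 F).ker → ({1, -1} : Finset F) := fun p => ⟨p.1.1 (Sum.inl 0) (Sum.inl 0), by
    obtain ⟨r, hr, h1⟩ := psi5_ker h2 p.1 p.2
    rw [h1]
    simp only [Matrix.scalar_apply, Matrix.diagonal_apply_eq, Finset.mem_insert, Finset.mem_singleton]
    have : (r - 1) * (r + 1) = 0 := by linear_combination hr
    rcases mul_eq_zero.mp this with h | h
    · left; linear_combination h
    · right; linear_combination h⟩
  have hf : Function.Injective f := by
    intro p p' h
    have h0 : p.1.1 (Sum.inl 0) (Sum.inl 0) = p'.1.1 (Sum.inl 0) (Sum.inl 0) := congrArg Subtype.val h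
    obtain ⟨r, hr, h1⟩ := psi5_ker h2 p.1 p.2
    obtain ⟨r', hr', h1'⟩ := psi5_ker h2 p'.1 p'.2
    rw [h1, h1'] at h0
    simp only [Matrix.scalar_apply, Matrix.diagonal_apply_eq] at h0
    subst h0
    apply Subtype.ext
    apply Subtype.ext; rw [h1, h1']
  calc Nat.card (psi5 F).ker ≤ Nat.card ({1, -1} : Finset F) := Nat.card_le_card_of_injective f hf
    _ = ({1, -1} : Finset F).card := Nat.card_eq_finsetCard _
    _ ≤ 2 := Finset.card_le_two

theorem psi5_ker_le_center (h2 : (2 : F) ≠ 0) :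
    (psi5 F).ker ≤ Subgroup.center (symplecticGroup (Fin 2) F) := by
  intro g hg
  obtain ⟨r, hr, h1⟩ := psi5_ker h2 g hg
  rw [Subgroup.mem_center_iff]
  intro x
  apply Subtype.ext
  change x.1 * g.1 = g.1 * x.1
  rw [h1]
  exact ((Matrix.scalar_commute (n := Fin 2 ⊕ Fin 2) r (Commute.all _) x.1).eq).symm

/-- The swap of the first hyperbolic pair. -/
def swapMat5 (F : Type*) [Field F] : Matrix I5 I5 F :=
  (Equiv.swap (Sum.inr (Sum.inl 0) : I5) (Sum.inr (Sum.inr 0))).permMatrix F

theorem det_swapMat5 : (swapMat5 F).det = -1 := by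
  unfold swapMat5
  rw [Matrix.det_permutation, Equiv.Perm.sign_swap (by simp)]
  simp

/-- The swap as an element of `O₅`. -/
def swapO5 (F : Type*) [Field F] : Cfsg.isometryGroup F (Cfsg.quadFormOdd 2 F) :=
  ⟨GeneralLinearGroup.mkOfDetNeZero (swapMat5 F) (by rw [det_swapMat5]; simp), by
    intro u v
    change Cfsg.quadFormOdd 2 F (swapMat5 F *ᵥ u) = Cfsg.quadFormOdd 2 F u
    unfold swapMat5
    rw [Matrix.permMatrix_mulVec]
    simp only [Cfsg.quadFormOdd, Fin.sum_univ_two, Function.comp_apply]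
    simp [Equiv.swap_apply_def]
    ring⟩

theorem commutator_O5_ne_top (h2 : (2 : F) ≠ 0) :
    commutator (Cfsg.isometryGroup F (Cfsg.quadFormOdd 2 F)) ≠ ⊤ := by
  intro htop
  let d : Cfsg.isometryGroup F (Cfsg.quadFormOdd 2 F) →* Fˣ :=
    GeneralLinearGroup.det.comp (Subgroup.subtype _)
  have hker : commutator (Cfsg.isometryGroup F (Cfsg.quadFormOdd 2 F)) ≤ d.ker :=
    Abelianization.commutator_subset_ker d
  rw [htop] at hker
  have h1 : d (swapO5 F) = 1 := hker (Subgroup.mem_top _)
  have h3 : ((d (swapO5 F) : Fˣ) : F) = -1 := by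
    rw [← det_swapMat5 (F := F)]
    simp [d, swapO5, GeneralLinearGroup.mkOfDetNeZero]
  rw [h1] at h3
  apply h2
  have : (1 : F) = -1 := by simpa using h3
  linear_combination this

variable [Fintype F]

theorem card_O5 (hodd : Odd (Fintype.card F)) :
    Nat.card (Cfsg.isometryGroup F (Cfsg.quadFormOdd 2 F))
      = 2 * Nat.card (symplecticGroup (Fin 2) F) := by
  rw [Cfsg.Agent.Lib.Helper5.card_isometryGroup_odd rfl hodd 2, Cfsg.Agent.S0245.result rfl 2]
  ring

theorem index_range_psi5 (hodd : Odd (Fintype.card F)) (h2 : (2 : F) ≠ 0) :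
    (psi5 F).range.index = 2 ∨ (psi5 F).range.index = 4 := by
  have h := (psi5 F).range.card_mul_index
  rw [card_O5 hodd] at h
  have h1 : Nat.card (symplecticGroup (Fin 2) F)
      = Nat.card (psi5 F).range * Nat.card (psi5 F).ker := by
    rw [Subgroup.card_eq_card_quotient_mul_card_subgroup (psi5 F).ker,
      Nat.card_congr (QuotientGroup.quotientKerEquivRange (psi5 F)).toEquiv]
  rw [h1] at h
  have hr : 0 < Nat.card (psi5 F).range := Nat.card_pos
  have hk' : 0 < Nat.card (psi5 F).ker := Nat.card_pos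
  have hk2 := card_psi5_ker_le (F := F) h2
  have h3 : Nat.card (psi5 F).range * (psi5 F).range.index
      = Nat.card (psi5 F).range * (2 * Nat.card (psi5 F).ker) := by rw [h]; ring
  have h4 := Nat.eq_of_mul_eq_mul_left hr h3
  rw [h4]
  have : Nat.card (psi5 F).ker = 1 ∨ Nat.card (psi5 F).ker = 2 := by omega
  rcases this with h | h <;> rw [h]
  · left; rfl
  · right; rfl

theorem Omega_odd5 (hodd : Odd (Fintype.card F)) (h2 : (2 : F) ≠ 0) (h3 : 3 ≤ Fintype.card F) :
    Cfsg.Omega F (Cfsg.quadFormOdd 2 F) = (psi5 F).range := by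
  change commutator _ = _
  apply commutator_eq_of_perfect_index
  · rw [MonoidHom.range_eq_map, ← Subgroup.map_commutator, ← commutator_def,
      Cfsg.Agent.S0269.result 2 (Or.inr (Or.inl ⟨rfl, h3⟩))]
  · exact index_range_psi5 hodd h2
  · intro _
    exact commutator_O5_ne_top h2

theorem center_PSp4_eq_bot (h3 : 3 ≤ Fintype.card F) : Subgroup.center (Cfsg.PSp 2 F) = ⊥ := by
  haveI : IsSimpleGroup (Cfsg.PSp 2 F) := Cfsg.Agent.S0270.result 2 le_rfl (fun _ => h3)
  apply Cfsg.Agent.S0302.center_eq_bot_of_simple_of_perfect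
  have h1 : commutator (symplecticGroup (Fin 2) F) = ⊤ :=
    Cfsg.Agent.S0269.result 2 (Or.inr (Or.inl ⟨rfl, h3⟩))
  have h2 : (commutator (symplecticGroup (Fin 2) F)).map
      (QuotientGroup.mk' (Subgroup.center (symplecticGroup (Fin 2) F)))
      = commutator (Cfsg.PSp 2 F) := by
    rw [commutator_def, Subgroup.map_commutator, ← MonoidHom.range_eq_map,
      MonoidHom.range_eq_top.mpr (QuotientGroup.mk'_surjective _), ← commutator_def]
  rw [← h2, h1, ← MonoidHom.range_eq_map, MonoidHom.range_eq_top.mpr (QuotientGroup.mk'_surjective _)]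


/-- PΩ_5(q) is isomorphic to PSp_4(q) for q odd. -/
theorem result {F : Type*} [Field F] [Fintype F] (hodd : Odd (Fintype.card F)) : Nonempty (Cfsg.POmega F (Cfsg.quadFormOdd 2 F) ≃* Cfsg.PSp 2 F) := by
  have h2 : (2 : F) ≠ 0 := by
    have h : ringChar F ≠ 2 := by
      intro h
      have := FiniteField.even_card_iff_char_two.mp h
      rcases hodd with ⟨k, hk⟩
      omega
    exact Ring.two_ne_zero h
  have h3 : 3 ≤ Fintype.card F := by
    have h1 : 1 < Fintype.card F := Fintype.one_lt_card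
    rcases hodd with ⟨k, hk⟩
    omega
  exact Cfsg.Agent.S0302.nonempty_quotient_center_equiv (psi5 F) _ (Omega_odd5 hodd h2 h3)
    (psi5_ker_le_center h2) (center_PSp4_eq_bot h3)

end Cfsg.Agent.S0301
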