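import Cfsg.Statements.S0303
import Mathlib
-- import your own Cfsg.Agent.* helpers here
import Cfsg.Agent.Lib.Helper5.OmegaMinus6d
import Cfsg.Agent.Lib.Helper5.PerfectIndex
import Cfsg.Agent.S0278
import Cfsg.Agent.S0283
import Cfsg.Agent.S0288
import Cfsg.Agent.S0302
import Cfsg.Agent.S0780
import Cfsg.Agent.S0781

set_option autoImplicit false
open Cfsg

namespace Cfsg.Agent.S0303

open Matrix Cfsg.Agent.Lib.Helper5
open scoped MatrixGroups commutatorElement

section aux
variable {k K : Type*} [Field k] [Field K] [Fintype K] [Fintype k] {q : ℕ} {a b : k}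
variable (E : MinusData6 k K q a b)

theorem card_psi_ker_le : Nat.card E.psi.ker ≤ 2 := by
  classical
  let f : E.psi.ker → ({1, -1} : Finset K) := fun p => ⟨p.1.1.1 0 0, by
    obtain ⟨r, hr, h1⟩ := E.psi_ker p.1 p.2
    rw [h1]
    simp only [Matrix.scalar_apply, Matrix.diagonal_apply_eq, Finset.mem_insert, Finset.mem_singleton]
    have : (r - 1) * (r + 1) = 0 := by linear_combination hr
    rcases mul_eq_zero.mp this with h | h
    · left; linear_combination h
    · right; linear_combination h⟩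
  have hf : Function.Injective f := by
    intro p p' h
    have h0 : p.1.1.1 0 0 = p'.1.1.1 0 0 := congrArg Subtype.val h
    obtain ⟨r, hr, h1⟩ := E.psi_ker p.1 p.2
    obtain ⟨r', hr', h1'⟩ := E.psi_ker p'.1 p'.2
    rw [h1, h1'] at h0
    simp only [Matrix.scalar_apply, Matrix.diagonal_apply_eq] at h0
    subst h0
    apply Subtype.ext
    apply Subtype.ext
    apply Subtype.ext; rw [h1, h1']
  calc Nat.card E.psi.ker ≤ Nat.card ({1, -1} : Finset K) := Nat.card_le_card_of_injective f hf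
    _ = ({1, -1} : Finset K).card := Nat.card_eq_finsetCard _
    _ ≤ 2 := Finset.card_le_two

/-- If the kernel is non-trivial, the characteristic is not two. -/
theorem two_ne_zero_of_psi_ker (h : Nat.card E.psi.ker = 2) : (2 : k) ≠ 0 := by
  intro h2k
  have h2 : (2 : K) = 0 := by
    have := congrArg E.φ h2k
    rwa [map_ofNat, map_zero] at this
  have hbot : E.psi.ker = ⊥ := by
    rw [eq_bot_iff]
    intro s hs
    rw [Subgroup.mem_bot]
    obtain ⟨r, hr, h1⟩ := E.psi_ker s hs
    have hr1 : r = 1 := by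
      have : (r - 1) ^ 2 = 0 := by linear_combination hr + (1 - r) * h2
      have := pow_eq_zero_iff (two_ne_zero) |>.mp this
      exact sub_eq_zero.mp this
    apply Subtype.ext
    apply Subtype.ext
    rw [h1, hr1]
    simp
  rw [hbot, Subgroup.card_bot] at h
  omega

/-- The swap of the first hyperbolic pair. -/
def swapMatM (k : Type*) [Field k] : Matrix J6 J6 k :=
  (Equiv.swap (Sum.inl (Sum.inl 0) : J6) (Sum.inl (Sum.inr 0))).permMatrix k

omit [Fintype k] in
theorem det_swapMatM : (swapMatM k).det = -1 := by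
  unfold swapMatM
  rw [Matrix.det_permutation, Equiv.Perm.sign_swap (by simp)]
  simp

/-- The swap as an element of `O⁻₆`. -/
def swapOM (a b : k) : Cfsg.isometryGroup k (Cfsg.quadFormMinus 2 k a b) :=
  ⟨GeneralLinearGroup.mkOfDetNeZero (swapMatM k) (by rw [det_swapMatM]; simp), by
    intro u v
    change Cfsg.quadFormMinus 2 k a b (swapMatM k *ᵥ u) = Cfsg.quadFormMinus 2 k a b u
    unfold swapMatM
    rw [Matrix.permMatrix_mulVec]
    simp only [Cfsg.quadFormMinus, Fin.sum_univ_two, Function.comp_apply]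
    simp [Equiv.swap_apply_def]
    ring⟩

omit [Fintype k] in
theorem commutator_O6m_ne_top (h2 : (2 : k) ≠ 0) :
    commutator (Cfsg.isometryGroup k (Cfsg.quadFormMinus 2 k a b)) ≠ ⊤ := by
  intro htop
  let d : Cfsg.isometryGroup k (Cfsg.quadFormMinus 2 k a b) →* kˣ :=
    GeneralLinearGroup.det.comp (Subgroup.subtype _)
  have hker : commutator (Cfsg.isometryGroup k (Cfsg.quadFormMinus 2 k a b)) ≤ d.ker :=
    Abelianization.commutator_subset_ker d
  rw [htop] at hker
  have h1 : d (swapOM a b) = 1 := hker (Subgroup.mem_top _)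
  have h3 : ((d (swapOM a b) : kˣ) : k) = -1 := by
    rw [← det_swapMatM (k := k)]
    simp [d, swapOM, GeneralLinearGroup.mkOfDetNeZero]
  rw [h1] at h3
  apply h2
  have : (1 : k) = -1 := by simpa using h3
  linear_combination this

include E in
theorem card_O6m (hab : ∀ z₁ z₂ : k, z₁ ^ 2 + a * z₁ * z₂ + b * z₂ ^ 2 = 0 → z₁ = 0 ∧ z₂ = 0) :
    Nat.card (Cfsg.isometryGroup k (Cfsg.quadFormMinus 2 k a b)) = 2 * Nat.card (SU 4 K q) := by
  have h1 := Cfsg.Agent.S0278.result E.hK 4 (by norm_num)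
  have h2 := Cfsg.Agent.S0288.result E.hk 3 (by norm_num) a b hab
  have h2' : Nat.card (Cfsg.isometryGroup k (Cfsg.quadFormMinus 2 k a b))
      = 2 * q ^ (3 * (3 - 1)) * (q ^ 3 + 1) * ∏ i ∈ Finset.range (3 - 1), (q ^ (2 * (i + 1)) - 1) := h2
  rw [h2']
  have hq : 2 ≤ q := two_le_of_card_eq_sq E.hK
  have hpos : 0 < q + 1 := by omega
  apply Nat.eq_of_mul_eq_mul_left hpos
  have h3 : (q + 1) * (2 * Nat.card (SU 4 K q)) = 2 * ((q + 1) * Nat.card (SU 4 K q)) := by ring
  rw [h3, h1]
  simp only [Finset.prod_range_succ, Finset.range_zero, Finset.prod_empty, one_mul]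
  norm_num
  ring

theorem index_range_psi
    (hab : ∀ z₁ z₂ : k, z₁ ^ 2 + a * z₁ * z₂ + b * z₂ ^ 2 = 0 → z₁ = 0 ∧ z₂ = 0) :
    E.psi.range.index = 2 ∨ (E.psi.range.index = 4 ∧ (2 : k) ≠ 0) := by
  have h := E.psi.range.card_mul_index
  rw [card_O6m E hab] at h
  have h1 : Nat.card (SU 4 K q) = Nat.card E.psi.range * Nat.card E.psi.ker := by
    rw [Subgroup.card_eq_card_quotient_mul_card_subgroup E.psi.ker,
      Nat.card_congr (QuotientGroup.quotientKerEquivRange E.psi).toEquiv]
  rw [h1] at h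
  have hr : 0 < Nat.card E.psi.range := Nat.card_pos
  have hk' : 0 < Nat.card E.psi.ker := Nat.card_pos
  have hk2 := card_psi_ker_le E
  have h3 : Nat.card E.psi.range * E.psi.range.index
      = Nat.card E.psi.range * (2 * Nat.card E.psi.ker) := by rw [h]; ring
  have h4 := Nat.eq_of_mul_eq_mul_left hr h3
  rw [h4]
  have : Nat.card E.psi.ker = 1 ∨ Nat.card E.psi.ker = 2 := by omega
  rcases this with h | h
  · left; rw [h]
  · right; exact ⟨by rw [h], two_ne_zero_of_psi_ker E h⟩

omit [Fintype k] in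
theorem commutator_SU4 (hK : Fintype.card K = q ^ 2) : commutator (SU 4 K q) = ⊤ := by
  rw [eq_top_iff, ← Cfsg.Agent.S0780.result hK 4 (by norm_num) (by omega), Subgroup.closure_le]
  rintro A ⟨v, c, hv, hA⟩
  have hmem := Cfsg.Agent.S0781.result hK 4 (Or.inl le_rfl) A v c hv hA
  rw [SetLike.mem_coe, commutator_eq_closure]
  exact Subgroup.subset_closure hmem

theorem Omega_minus6
    (hab : ∀ z₁ z₂ : k, z₁ ^ 2 + a * z₁ * z₂ + b * z₂ ^ 2 = 0 → z₁ = 0 ∧ z₂ = 0) :
    Cfsg.Omega k (Cfsg.quadFormMinus 2 k a b) = E.psi.range := by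
  change commutator _ = _
  apply commutator_eq_of_perfect_index
  · rw [MonoidHom.range_eq_map, ← Subgroup.map_commutator, ← commutator_def,
      commutator_SU4 E.hK]
  · rcases index_range_psi E hab with h | h
    · exact Or.inl h
    · exact Or.inr h.1
  · intro h4
    rcases index_range_psi E hab with h | h
    · rw [h] at h4; omega
    · exact commutator_O6m_ne_top h.2

omit [Fintype k] in
theorem center_PSU4_eq_bot (hK : Fintype.card K = q ^ 2) :
    Subgroup.center (Cfsg.PSU 4 K q) = ⊥ := by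
  haveI : IsSimpleGroup (Cfsg.PSU 4 K q) :=
    Cfsg.Agent.S0283.result hK 4 (by norm_num) (by omega)
  apply Cfsg.Agent.S0302.center_eq_bot_of_simple_of_perfect
  have h1 : commutator (SU 4 K q) = ⊤ := commutator_SU4 hK
  have h2 : (commutator (SU 4 K q)).map (QuotientGroup.mk' (Subgroup.center (SU 4 K q)))
      = commutator (Cfsg.PSU 4 K q) := by
    rw [commutator_def, Subgroup.map_commutator, ← MonoidHom.range_eq_map,
      MonoidHom.range_eq_top.mpr (QuotientGroup.mk'_surjective _), ← commutator_def]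
  rw [← h2, h1, ← MonoidHom.range_eq_map, MonoidHom.range_eq_top.mpr (QuotientGroup.mk'_surjective _)]

end aux

/-- PΩ^-_6(q) is isomorphic to PSU_4(q). -/
theorem result {F K : Type*} [Field F] [Fintype F] [Field K] [Fintype K] {q : ℕ} (hF : Fintype.card F = q) (hK : Fintype.card K = q ^ 2) (a b : F) (hab : ∀ z₁ z₂ : F, z₁ ^ 2 + a * z₁ * z₂ + b * z₂ ^ 2 = 0 → z₁ = 0 ∧ z₂ = 0) : Nonempty (Cfsg.POmega F (Cfsg.quadFormMinus 2 F a b) ≃* Cfsg.PSU 4 K q) := by
  obtain ⟨E⟩ := exists_minusData6 hF hK hab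
  exact Cfsg.Agent.S0302.nonempty_quotient_center_equiv E.psi _ (Omega_minus6 E hab)
    E.psi_ker_le_center (center_PSU4_eq_bot hK)

end Cfsg.Agent.S0303
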