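import Cfsg.Statements.S2618
import Cfsg.Agent.Lib.Helper44.Witt
-- import your own Cfsg.Agent.* helpers here

set_option autoImplicit false
open Cfsg

namespace Cfsg.Agent.S2618

open Module Cfsg.Agent.Lib.Helper44 in
theorem odd_std {F : Type*} [Field F] [Finite F] (m : ℕ) :
    ∀ (V : Type*) [AddCommGroup V] [Module F V] [FiniteDimensional F V] (Q : QuadraticForm F V),
      finrank F V = 2 * m + 1 → (QuadraticMap.polarBilin Q).Nondegenerate →
      ∃ (e f : Fin m → V) (x : V), HypSys Q e f ∧ Q x ≠ 0 ∧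
        ∀ i, QuadraticMap.polar Q (e i) x = 0 ∧ QuadraticMap.polar Q (f i) x = 0 := by
  induction m with
  | zero =>
    intro V _ _ _ Q hV hQ
    have hpos : 0 < finrank F V := by omega
    obtain ⟨x, hx⟩ := (finrank_pos_iff_exists_ne_zero).1 hpos
    refine ⟨Fin.elim0, Fin.elim0, x, ⟨fun i => i.elim0, fun i => i.elim0, fun i => i.elim0⟩, ?_,
      fun i => i.elim0⟩
    intro hQx
    apply hx
    apply hQ.1 x
    intro y
    have hy : y ∈ Submodule.span F {x} := by
      have h1 : finrank F V = 1 := by omega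
      have := (finrank_eq_one_iff_of_nonzero' x hx).1 h1 y
      obtain ⟨c, rfl⟩ := this
      exact Submodule.smul_mem _ _ (Submodule.mem_span_singleton_self x)
    obtain ⟨c, rfl⟩ := Submodule.mem_span_singleton.1 hy
    rw [map_smul, QuadraticMap.polarBilin_apply_apply, QuadraticMap.polar_self, hQx]
    simp
  | succ m ih =>
    intro V _ _ _ Q hV hQ
    obtain ⟨e₀, f₀, W, hQe, hQf, hef, hWnd, hWfr, hWorth⟩ := peel Q hQ (by omega)
    obtain ⟨e, f, x, hs, hx, hxo⟩ := ih W (Q.comp W.subtype) (by omega) hWnd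
    refine ⟨Fin.cons e₀ (fun i => (e i : V)), Fin.cons f₀ (fun i => (f i : V)), (x : V),
      HypSys.cons Q e₀ f₀ hQe hQf hef W hWorth e f hs, by simpa using hx, ?_⟩
    intro i
    refine Fin.cases ?_ (fun i => ?_) i
    · simpa using hWorth _ x.2
    · have := hxo i
      simpa [QuadraticMap.polar] using this


/-- Standard (parabolic) basis of a non-degenerate quadratic space of odd dimension 2m + 1 over a finite field (the non-degeneracy of the polar form forces the characteristic to be odd): there is a basis e_i, f_i (i < m), x with Q(e_i) = Q(f_i) = 0, B(e_i, f_j) = δ_ij (B the polar form), the e's pairwise orthogonal and the f's pairwise orthogonal, x orthogonal to all of them and Q(x) ≠ 0. -/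
theorem result {F V : Type*} [Field F] [Finite F] [AddCommGroup V] [Module F V] [FiniteDimensional F V] {m : ℕ} (hV : Module.finrank F V = 2 * m + 1) (Q : QuadraticForm F V) (hQ : (QuadraticMap.polarBilin Q).Nondegenerate) : ∃ b : Module.Basis (Unit ⊕ (Fin m ⊕ Fin m)) F V, Q (b (Sum.inl ())) ≠ 0 ∧ (∀ i, QuadraticMap.polar ⇑Q (b (Sum.inl ())) (b (Sum.inr (Sum.inl i))) = 0 ∧ QuadraticMap.polar ⇑Q (b (Sum.inl ())) (b (Sum.inr (Sum.inr i))) = 0) ∧ (∀ i, Q (b (Sum.inr (Sum.inl i))) = 0 ∧ Q (b (Sum.inr (Sum.inr i))) = 0) ∧ (∀ i j, QuadraticMap.polar ⇑Q (b (Sum.inr (Sum.inl i))) (b (Sum.inr (Sum.inr j))) = if i = j then 1 else 0) ∧ (∀ i j, QuadraticMap.polar ⇑Q (b (Sum.inr (Sum.inl i))) (b (Sum.inr (Sum.inl j))) = 0 ∧ QuadraticMap.polar ⇑Q (b (Sum.inr (Sum.inr i))) (b (Sum.inr (Sum.inr j))) = 0) := by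
  classical
  obtain ⟨e, f, x, hs, hx, hxo⟩ := odd_std m V Q hV hQ
  have hx0 : x ≠ 0 := by
    rintro rfl; simp at hx
  have hli := Cfsg.Agent.Lib.Helper44.HypSys.linearIndependent Q e f hs (fun _ : Unit => x)
    (LinearIndependent.of_subsingleton () hx0) (fun i _ => hxo i)
  let σ : Unit ⊕ (Fin m ⊕ Fin m) ≃ (Fin m ⊕ Fin m) ⊕ Unit := Equiv.sumComm _ _
  have hli' : LinearIndependent F ((Sum.elim (Sum.elim e f) (fun _ : Unit => x)) ∘ σ) :=
    hli.comp _ σ.injective
  have hcard : Fintype.card (Unit ⊕ (Fin m ⊕ Fin m)) = Module.finrank F V := by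
    simp [hV]; ring
  refine ⟨basisOfLinearIndependentOfCardEqFinrank' _ hli' hcard, ?_⟩
  rw [coe_basisOfLinearIndependentOfCardEqFinrank']
  obtain ⟨h1, h2, h3⟩ := hs
  refine ⟨by simpa [σ] using hx, ?_, ?_, ?_, ?_⟩
  · intro i
    simp only [σ, Function.comp_apply, Equiv.sumComm_apply, Sum.swap_inl, Sum.swap_inr, Sum.elim_inl,
      Sum.elim_inr]
    rw [QuadraticMap.polar_comm, (hxo i).1, QuadraticMap.polar_comm, (hxo i).2]
    exact ⟨rfl, rfl⟩
  · intro i
    simpa [σ] using h1 i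
  · intro i j
    simpa [σ] using h2 i j
  · intro i j
    simpa [σ] using h3 i j

end Cfsg.Agent.S2618
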