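import Cfsg.Statements.S2694
import Cfsg.Agent.Lib.Helper36.AutO.Regimes
import Cfsg.Agent.Lib.Helper44.OddQF
import Cfsg.Agent.Lib.Helper44.POmegaOrder
-- import your own Cfsg.Agent.* helpers here

set_option autoImplicit false
open Cfsg

namespace Cfsg.Agent.S2694

/-- For m ≥ 3 and a finite field F of odd order, the automorphism group of the orthogonal group Ω_{2m+1}(F) (realised as PΩ of the form x₀² + Σ xᵢ yᵢ, whose centre is trivial) is generated by the automorphisms induced by the semisimilarities v ↦ g σ(v) of the form (the image of the projective semisimilarity group); there are no graph or graph-field automorphisms. -/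
theorem result {F : Type*} [Field F] [Fintype F] (hodd : Odd (Fintype.card F)) {m : ℕ} (hm : 3 ≤ m) :
    Cfsg.gammaPOmega F (Cfsg.quadFormOdd m F) = ⊤ := by
  have h2 : (2 : F) ≠ 0 := by
    intro h
    rw [Cfsg.Agent.Lib.Helper44.two_eq_zero_iff_even_card] at h
    rcases hodd with ⟨k, hk⟩
    omega
  have hcard : Fintype.card (Unit ⊕ (Fin m ⊕ Fin m)) = 2 * m + 1 := by
    rw [Fintype.card_sum, Fintype.card_sum, Fintype.card_fin, Fintype.card_unit]; ring
  have hfr : Module.finrank F (Unit ⊕ (Fin m ⊕ Fin m) → F) = 2 * m + 1 := by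
    rw [Module.finrank_fintype_fun_eq_card, hcard]
  have hnd := Cfsg.Agent.Lib.Helper44.oddQF_nondeg m F h2
  rw [← Cfsg.Agent.Lib.Helper44.oddQF_coe]
  by_cases hm4 : 4 ≤ m
  · exact Cfsg.Agent.Lib.Helper36.AutO.gammaPOmega_eq_top (Cfsg.Agent.Lib.Helper44.oddQF m F)
      hnd (by rw [hcard]; omega) _
      (Cfsg.Agent.Lib.Helper36.AutO.regime_of_nine (by rw [hfr]; omega))
  · have hm3 : m = 3 := by omega
    refine Cfsg.Agent.Lib.Helper36.AutO.gammaPOmega_eq_top (Cfsg.Agent.Lib.Helper44.oddQF m F)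
      hnd (by rw [hcard]; omega) 0
      (Cfsg.Agent.Lib.Helper36.AutO.regime_zero_of_ts_le (fun S hS => ?_))
    have h1 := Cfsg.Agent.Lib.Helper36.AutO.two_mul_finrank_le_of_ts hnd hS
    rw [hfr] at h1
    omega

end Cfsg.Agent.S2694
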