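import Mathlib
import Cfsg.Statements.S0292
import Cfsg.Agent.S0286
import Cfsg.Agent.Lib.Helper14.OddTransport
-- import your own Cfsg.Agent.* helpers here

set_option autoImplicit false
open Cfsg

namespace Cfsg.Agent.S0292

open Cfsg.Agent.Lib.Helper14

theorem two_ne_zero_of_odd_card {F : Type*} [Field F] [Fintype F] (hodd : Odd (Fintype.card F)) :
    (2 : F) ≠ 0 := by
  apply Ring.two_ne_zero
  intro h
  have := FiniteField.even_card_iff_char_two.1 h
  rw [Nat.odd_iff] at hodd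
  omega


/-- 2 |PΩ_{2m+1}(q)| = q^(m^2) prod_{i=1}^{m} (q^(2i) - 1), for q odd and m at least 3 (type B_m). -/
theorem result {F : Type*} [Field F] [Fintype F] {q : ℕ} (hF : Fintype.card F = q) (hodd : Odd q) (m : ℕ) (hm : 3 ≤ m) : 2 * Nat.card (Cfsg.POmega F (Cfsg.quadFormOdd m F)) = q ^ (m ^ 2) * ∏ i ∈ Finset.range m, (q ^ (2 * (i + 1)) - 1) := by
  have h2 : (2 : F) ≠ 0 := two_ne_zero_of_odd_card (by rw [hF]; exact hodd)
  have hO := Cfsg.Agent.S0286.result hF hodd m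
  have hidx := index_Omega_quadFormOdd m F h2 (by omega)
  have hcen := center_Omega_quadFormOdd m F h2 (by omega)
  have h1 := Subgroup.card_mul_index (Cfsg.Omega F (Cfsg.quadFormOdd m F))
  have h3 := Subgroup.card_eq_card_quotient_mul_card_subgroup
    (Subgroup.center ↥(Cfsg.Omega F (Cfsg.quadFormOdd m F)))
  have h4 : Nat.card ↥(Subgroup.center ↥(Cfsg.Omega F (Cfsg.quadFormOdd m F))) = 1 := by
    rw [hcen]; exact Subgroup.card_bot
  rw [h4, mul_one] at h3
  rw [hidx, hO, h3] at h1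
  show 2 * Nat.card (↥(Cfsg.Omega F (Cfsg.quadFormOdd m F)) ⧸
    Subgroup.center ↥(Cfsg.Omega F (Cfsg.quadFormOdd m F))) = _
  have h5 : 2 * q ^ (m ^ 2) * ∏ i ∈ Finset.range m, (q ^ (2 * (i + 1)) - 1)
      = 2 * (q ^ (m ^ 2) * ∏ i ∈ Finset.range m, (q ^ (2 * (i + 1)) - 1)) := by ring
  rw [h5] at h1
  omega

end Cfsg.Agent.S0292
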