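import Cfsg.Statements.S0246
import Mathlib
-- import your own Cfsg.Agent.* helpers here
import Cfsg.Agent.Lib.Helper5.SymplecticCenter

set_option autoImplicit false
open Cfsg

namespace Cfsg.Agent.S0246

open Matrix Cfsg.Agent.Lib.Helper5

variable {l : Type*} [DecidableEq l] [Fintype l] {F : Type*} [Field F]

/-- `-1` as an element of the symplectic group. -/
def negOneSp (l : Type*) [DecidableEq l] [Fintype l] (F : Type*) [Field F] : symplecticGroup l F :=
  ⟨-1, neg_one_mem_symplecticGroup⟩

theorem negOneSp_mem_center : negOneSp l F ∈ Subgroup.center (symplecticGroup l F) := by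
  rw [Subgroup.mem_center_iff]
  intro h
  apply Subtype.ext
  simp [negOneSp]

theorem card_center_of_two_eq_zero [Nonempty l] (h2 : (2 : F) = 0) :
    Nat.card (Subgroup.center (symplecticGroup l F)) = 1 := by
  have : Subgroup.center (symplecticGroup l F) = ⊥ := by
    rw [eq_bot_iff]
    intro g hg
    rw [Subgroup.mem_bot]
    apply Subtype.ext
    rcases symplecticGroup_center_eq_one_or_neg_one g hg with h | h
    · exact h
    · rw [h]
      have : (-1 : F) = 1 := by linear_combination -h2
      ext x y
      simp only [Matrix.neg_apply, Matrix.one_apply, Submonoid.coe_one]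
      split_ifs
      · exact this
      · simp
  rw [this, Subgroup.card_bot]

theorem card_center_of_two_ne_zero [Nonempty l] (h2 : (2 : F) ≠ 0) :
    Nat.card (Subgroup.center (symplecticGroup l F)) = 2 := by
  obtain ⟨i⟩ := ‹Nonempty l›
  have h11 : negOneSp l F ≠ 1 := by
    intro h
    have := congrArg (fun k : symplecticGroup l F => (k : Matrix (l ⊕ l) (l ⊕ l) F) (Sum.inl i) (Sum.inl i)) h
    simp [negOneSp] at this
    apply h2
    linear_combination -this
  rw [Nat.card_eq_two_iff]
  refine ⟨1, ⟨negOneSp l F, negOneSp_mem_center⟩, ?_, ?_⟩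
  · intro h
    apply h11
    exact (congrArg Subtype.val h).symm
  · ext A
    simp only [Set.mem_univ, Set.mem_insert_iff, Set.mem_singleton_iff, iff_true]
    have : Nonempty l := ⟨i⟩
    rcases symplecticGroup_center_eq_one_or_neg_one A.1 A.2 with h | h
    · left
      apply Subtype.ext; apply Subtype.ext
      exact h
    · right
      apply Subtype.ext; apply Subtype.ext
      exact h

/-- The centre of Sp_{2m}(q), m at least 1, is {1, -1}: it has order gcd(2, q-1). -/
theorem result {F : Type*} [Field F] [Fintype F] {q : ℕ} (hF : Fintype.card F = q) (m : ℕ) (hm : 1 ≤ m) : Nat.card (Subgroup.center (Matrix.symplecticGroup (Fin m) F)) = Nat.gcd 2 (q - 1) := by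
  subst hF
  have : Nonempty (Fin m) := ⟨⟨0, hm⟩⟩
  by_cases h2 : (2 : F) = 0
  · rw [card_center_of_two_eq_zero h2]
    have : CharP F 2 := CharTwo.of_one_ne_zero_of_two_eq_zero one_ne_zero h2
    have hc : ringChar F = 2 := ringChar.eq F 2
    have he := FiniteField.even_card_iff_char_two.mp hc
    have hq : 2 ≤ Fintype.card F := Fintype.one_lt_card
    have hodd : (Fintype.card F - 1) % 2 = 1 := by omega
    have hnd : ¬ 2 ∣ Fintype.card F - 1 := by omega
    exact (Nat.Coprime.gcd_eq_one ((Nat.Prime.coprime_iff_not_dvd Nat.prime_two).mpr hnd)).symm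
  · rw [card_center_of_two_ne_zero h2]
    have hc : ringChar F ≠ 2 := by
      intro hc
      apply h2
      have : ((ringChar F : ℕ) : F) = 0 := ringChar.Nat.cast_ringChar
      rw [hc] at this
      exact_mod_cast this
    have ho := FiniteField.odd_card_of_char_ne_two hc
    have heven : (Fintype.card F - 1) % 2 = 0 := by omega
    have hd : 2 ∣ Fintype.card F - 1 := Nat.dvd_of_mod_eq_zero heven
    exact (Nat.gcd_eq_left hd).symm

end Cfsg.Agent.S0246
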