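import Cfsg.Statements.S0247
import Mathlib
-- import your own Cfsg.Agent.* helpers here
import Cfsg.Agent.Lib.Helper5.SymplecticOrder

set_option autoImplicit false
open Cfsg

namespace Cfsg.Agent.S0247

open Matrix

/-- Basis vectors of the 4-dim symplectic space inside `F₂^6` (as columns). -/
def U0 : Matrix (Fin 6) (Fin 2 ⊕ Fin 2) (ZMod 2) :=
  Matrix.of fun i x => match x with
    | Sum.inl 0 => if i = 0 ∨ i = 1 then 1 else 0
    | Sum.inl 1 => if i = 3 ∨ i = 4 then 1 else 0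
    | Sum.inr 0 => if i = 1 ∨ i = 2 then 1 else 0
    | Sum.inr 1 => if i = 4 ∨ i = 5 then 1 else 0

def jc0 : Matrix (Fin 6) (Fin 1) (ZMod 2) := Matrix.of fun _ _ => 1
def j1c0 : Matrix (Fin 6) (Fin 1) (ZMod 2) := Matrix.of fun i _ => if i = 0 ∨ i = 1 ∨ i = 2 then 1 else 0
def j2c0 : Matrix (Fin 6) (Fin 1) (ZMod 2) := Matrix.of fun i _ => if i = 3 ∨ i = 4 ∨ i = 5 then 1 else 0

theorem F1_0 : U0 * J (Fin 2) (ZMod 2) * U0ᵀ = 1 + jc0 * j2c0ᵀ + j1c0 * jc0ᵀ := by decide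
theorem F3_0 : U0ᵀ * jc0 = 0 := by decide
theorem F4_0 : U0ᵀ * U0 = J (Fin 2) (ZMod 2) := by decide
theorem JJ_0 : J (Fin 2) (ZMod 2) * J (Fin 2) (ZMod 2) = 1 := by decide
theorem JT_0 : (J (Fin 2) (ZMod 2))ᵀ = J (Fin 2) (ZMod 2) := by decide

section
variable (F : Type*) [Field F] [CharP F 2]

/-- the canonical map `ZMod 2 → F`. -/
noncomputable def cst : ZMod 2 →+* F := ZMod.castHom (dvd_refl 2) F

noncomputable def U : Matrix (Fin 6) (Fin 2 ⊕ Fin 2) F := U0.map (cst F)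
noncomputable def jc : Matrix (Fin 6) (Fin 1) F := jc0.map (cst F)
noncomputable def j1c : Matrix (Fin 6) (Fin 1) F := j1c0.map (cst F)
noncomputable def j2c : Matrix (Fin 6) (Fin 1) F := j2c0.map (cst F)

theorem F1 : U F * J (Fin 2) F * (U F)ᵀ = 1 + jc F * (j2c F)ᵀ + j1c F * (jc F)ᵀ := by
  have := congrArg (fun M => M.map (cst F)) F1_0
  simp only [Matrix.map_mul, transpose_map, map_J] at this
  rw [Matrix.map_add _ (map_add (cst F)), Matrix.map_add _ (map_add (cst F)),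
    Matrix.map_one _ (map_zero _) (map_one _), Matrix.map_mul, Matrix.map_mul, transpose_map,
    transpose_map] at this
  exact this

theorem F3 : (U F)ᵀ * jc F = 0 := by
  have := congrArg (fun M => M.map (cst F)) F3_0
  simp only [Matrix.map_mul, transpose_map] at this
  rw [Matrix.map_zero _ (map_zero _)] at this
  exact this

theorem F3' : (jc F)ᵀ * U F = 0 := by
  have := congrArg Matrix.transpose (F3 F)
  simpa [Matrix.transpose_mul] using this

theorem F4 : (U F)ᵀ * U F = J (Fin 2) F := by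
  have := congrArg (fun M => M.map (cst F)) F4_0
  simp only [Matrix.map_mul, transpose_map, map_J] at this
  exact this

theorem JJ : J (Fin 2) F * J (Fin 2) F = 1 := by
  have := congrArg (fun M => M.map (cst F)) JJ_0
  simp only [Matrix.map_mul, map_J] at this
  rw [Matrix.map_one _ (map_zero _) (map_one _)] at this
  exact this

theorem JT : (J (Fin 2) F)ᵀ = J (Fin 2) F := by
  have := congrArg (fun M => M.map (cst F)) JT_0
  simp only [transpose_map, map_J] at this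
  exact this

theorem jc_apply (i : Fin 6) (k : Fin 1) : jc F i k = 1 := by
  simp [jc, jc0]

end

section perm
variable (F : Type*) [Field F]

/-- Permutation matrix with `Pm σ * e_k = e_{σ k}`. -/
def Pm (σ : Equiv.Perm (Fin 6)) : Matrix (Fin 6) (Fin 6) F :=
  Matrix.of fun i k => if σ k = i then 1 else 0

theorem Pm_mul (σ τ : Equiv.Perm (Fin 6)) : Pm F σ * Pm F τ = Pm F (σ * τ) := by
  ext i k
  simp only [Pm, Matrix.mul_apply, Matrix.of_apply, Equiv.Perm.mul_apply]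
  rw [Finset.sum_eq_single (τ k)]
  · simp only [if_true, mul_one]
    by_cases h : σ (τ k) = i <;> simp [h]
  · intro b _ hb
    simp [Ne.symm hb]
  · simp

theorem Pm_one : Pm F (1 : Equiv.Perm (Fin 6)) = 1 := by
  ext i k
  simp [Pm, Matrix.one_apply, eq_comm]

theorem Pm_transpose (σ : Equiv.Perm (Fin 6)) : (Pm F σ)ᵀ = Pm F σ⁻¹ := by
  ext i k
  simp only [Pm, Matrix.transpose_apply, Matrix.of_apply]
  have : σ⁻¹ k = i ↔ σ i = k := by
    rw [Equiv.Perm.inv_eq_iff_eq, eq_comm]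
  simp only [this]

variable [CharP F 2]

theorem Pm_mul_jc (σ : Equiv.Perm (Fin 6)) : Pm F σ * jc F = jc F := by
  ext i k
  simp only [Pm, Matrix.mul_apply, Matrix.of_apply, jc_apply]
  rw [Finset.sum_eq_single (σ⁻¹ i)]
  · simp
  · intro b _ hb
    have : σ b ≠ i := by
      intro h; apply hb; rw [← h]; simp
    simp [this]
  · simp

theorem jcT_mul_Pm (σ : Equiv.Perm (Fin 6)) : (jc F)ᵀ * Pm F σ = (jc F)ᵀ := by
  have := congrArg Matrix.transpose (Pm_mul_jc F σ⁻¹)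
  rw [Matrix.transpose_mul, Pm_transpose, inv_inv] at this
  exact this

/-- The matrix of `σ` on the symplectic space. -/
noncomputable def Mm (σ : Equiv.Perm (Fin 6)) : Matrix (Fin 2 ⊕ Fin 2) (Fin 2 ⊕ Fin 2) F :=
  J (Fin 2) F * (U F)ᵀ * Pm F σ * U F

theorem Mm_mul (σ τ : Equiv.Perm (Fin 6)) : Mm F σ * Mm F τ = Mm F (σ * τ) := by
  unfold Mm
  have h : J (Fin 2) F * (U F)ᵀ * Pm F σ * U F * (J (Fin 2) F * (U F)ᵀ * Pm F τ * U F) =
      J (Fin 2) F * (U F)ᵀ * Pm F σ * (U F * J (Fin 2) F * (U F)ᵀ) * Pm F τ * U F := by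
    simp only [Matrix.mul_assoc]
  rw [h, F1]
  simp only [Matrix.mul_add, Matrix.add_mul, Matrix.mul_one]
  have t2 : J (Fin 2) F * (U F)ᵀ * Pm F σ * (jc F * (j2c F)ᵀ) * Pm F τ * U F = 0 := by
    have : J (Fin 2) F * (U F)ᵀ * Pm F σ * (jc F * (j2c F)ᵀ) * Pm F τ * U F =
        J (Fin 2) F * ((U F)ᵀ * (Pm F σ * jc F)) * (j2c F)ᵀ * Pm F τ * U F := by
      simp only [Matrix.mul_assoc]
    rw [this, Pm_mul_jc, F3]
    simp
  have t3 : J (Fin 2) F * (U F)ᵀ * Pm F σ * (j1c F * (jc F)ᵀ) * Pm F τ * U F = 0 := by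
    have : J (Fin 2) F * (U F)ᵀ * Pm F σ * (j1c F * (jc F)ᵀ) * Pm F τ * U F =
        J (Fin 2) F * (U F)ᵀ * Pm F σ * j1c F * (((jc F)ᵀ * Pm F τ) * U F) := by
      simp only [Matrix.mul_assoc]
    rw [this, jcT_mul_Pm, F3']
    simp
  rw [t2, t3, add_zero, add_zero, ← Pm_mul]
  simp only [Matrix.mul_assoc]

theorem Mm_one : Mm F (1 : Equiv.Perm (Fin 6)) = 1 := by
  unfold Mm
  rw [Pm_one, Matrix.mul_one, Matrix.mul_assoc, F4, JJ]

theorem Mm_mem (σ : Equiv.Perm (Fin 6)) : Mm F σ ∈ symplecticGroup (Fin 2) F := by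
  rw [SymplecticGroup.mem_iff']
  unfold Mm
  have h : (J (Fin 2) F * (U F)ᵀ * Pm F σ * U F)ᵀ * J (Fin 2) F * (J (Fin 2) F * (U F)ᵀ * Pm F σ * U F) =
      (U F)ᵀ * (Pm F σ)ᵀ * (U F * ((J (Fin 2) F)ᵀ * (J (Fin 2) F * J (Fin 2) F)) * (U F)ᵀ) * Pm F σ * U F := by
    simp only [Matrix.transpose_mul, Matrix.transpose_transpose, Matrix.mul_assoc]
  rw [h, JJ, Matrix.mul_one, JT, F1]
  simp only [Matrix.mul_add, Matrix.add_mul, Matrix.mul_one]
  have t1 : (U F)ᵀ * (Pm F σ)ᵀ * Pm F σ * U F = J (Fin 2) F := by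
    rw [Pm_transpose, Matrix.mul_assoc (U F)ᵀ, Pm_mul, inv_mul_cancel, Pm_one, Matrix.mul_one, F4]
  have t2 : (U F)ᵀ * (Pm F σ)ᵀ * (jc F * (j2c F)ᵀ) * Pm F σ * U F = 0 := by
    have : (U F)ᵀ * (Pm F σ)ᵀ * (jc F * (j2c F)ᵀ) * Pm F σ * U F =
        (U F)ᵀ * ((Pm F σ)ᵀ * jc F) * (j2c F)ᵀ * Pm F σ * U F := by
      simp only [Matrix.mul_assoc]
    rw [this, Pm_transpose, Pm_mul_jc, F3]
    simp
  have t3 : (U F)ᵀ * (Pm F σ)ᵀ * (j1c F * (jc F)ᵀ) * Pm F σ * U F = 0 := by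
    have : (U F)ᵀ * (Pm F σ)ᵀ * (j1c F * (jc F)ᵀ) * Pm F σ * U F =
        (U F)ᵀ * (Pm F σ)ᵀ * j1c F * (((jc F)ᵀ * Pm F σ) * U F) := by
      simp only [Matrix.mul_assoc]
    rw [this, jcT_mul_Pm, F3']
    simp
  rw [t1, t2, t3, add_zero, add_zero]

/-- The homomorphism `S₆ → Sp₄(F)`. -/
noncomputable def MHom : Equiv.Perm (Fin 6) →* symplecticGroup (Fin 2) F where
  toFun σ := ⟨Mm F σ, Mm_mem F σ⟩
  map_one' := Subtype.ext (Mm_one F)
  map_mul' σ τ := Subtype.ext (Mm_mul F σ τ).symm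

theorem Pm_map (σ : Equiv.Perm (Fin 6)) : Pm F σ = (Pm (ZMod 2) σ).map (cst F) := by
  ext i k
  simp only [Pm, Matrix.map_apply, Matrix.of_apply]
  split_ifs <;> simp

/-- The matrix over `ZMod 2`. -/
def Mm0 (σ : Equiv.Perm (Fin 6)) : Matrix (Fin 2 ⊕ Fin 2) (Fin 2 ⊕ Fin 2) (ZMod 2) :=
  J (Fin 2) (ZMod 2) * U0ᵀ * Pm (ZMod 2) σ * U0

theorem Mm_map (σ : Equiv.Perm (Fin 6)) : Mm F σ = (Mm0 σ).map (cst F) := by
  unfold Mm Mm0
  rw [Matrix.map_mul, Matrix.map_mul, Matrix.map_mul, map_J, transpose_map, ← Pm_map]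
  rfl

/-- A 3-cycle. -/
def c3 : Equiv.Perm (Fin 6) := Equiv.swap 0 1 * Equiv.swap 1 2

theorem Mm0_c3 : Mm0 c3 (Sum.inr 0) (Sum.inl 0) = 1 := by decide

theorem c3_mem : c3 ∈ alternatingGroup (Fin 6) := by
  rw [Equiv.Perm.mem_alternatingGroup]
  simp [c3, Equiv.Perm.sign_mul, Equiv.Perm.sign_swap]

theorem MHom_c3_ne_one : MHom F c3 ≠ 1 := by
  intro h
  have h1 := congrArg (fun g : symplecticGroup (Fin 2) F =>
    (g : Matrix (Fin 2 ⊕ Fin 2) (Fin 2 ⊕ Fin 2) F) (Sum.inr 0) (Sum.inl 0)) h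
  simp only [MHom, MonoidHom.coe_mk, OneHom.coe_mk, Submonoid.coe_one] at h1
  rw [Mm_map, Matrix.map_apply, Mm0_c3] at h1
  simp at h1

theorem MHom_injective : Function.Injective (MHom F) := by
  rw [← MonoidHom.ker_eq_bot_iff]
  by_contra hne
  have hnt : Nontrivial (MHom F).ker := (Subgroup.nontrivial_iff_ne_bot _).mpr hne
  have hle := Equiv.Perm.alternatingGroup_le_of_normal (α := Fin 6) (by simp) hnt
  have := hle c3_mem
  rw [MonoidHom.mem_ker] at this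
  exact MHom_c3_ne_one F this

end perm

/-- Sp_4(2) is isomorphic to the symmetric group S_6. -/
theorem result {F : Type*} [Field F] [Fintype F] (hF : Fintype.card F = 2) : Nonempty (Matrix.symplecticGroup (Fin 2) F ≃* Equiv.Perm (Fin 6)) := by
  have h2 : (2 : F) = 0 := by
    have := Nat.cast_card_eq_zero F
    rw [hF] at this
    exact_mod_cast this
  have : CharP F 2 := CharTwo.of_one_ne_zero_of_two_eq_zero one_ne_zero h2
  have hb : Function.Bijective (MHom F) := by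
    rw [Nat.bijective_iff_injective_and_card]
    refine ⟨MHom_injective F, ?_⟩
    rw [Cfsg.Agent.Lib.Helper5.card_symplecticGroup, hF, Nat.card_eq_fintype_card, Fintype.card_perm,
      Fintype.card_fin]
    simp [Finset.prod_range_succ, Nat.factorial]
  exact ⟨(MulEquiv.ofBijective (MHom F) hb).symm⟩

end Cfsg.Agent.S0247
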