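import Cfsg.Statements.S2722
import Cfsg.Agent.Lib.Helper36.PgoPso
import Cfsg.Agent.Lib.Helper36.PgoPsoForms
import Cfsg.Agent.S2168
import Cfsg.Agent.Lib.Helper13.SpinNeg

set_option autoImplicit false
open Cfsg

namespace Cfsg.Agent.S2722

/-- Let T = PΩ⁺_{2m}(F) with m ≥ 4 and |F| = q odd. Inside Aut(T), the image G̃ of the conformal orthogonal group of the form modulo the image of the special orthogonal group is elementary abelian of order 4. -/
theorem result {F : Type*} [Field F] [Fintype F] (hodd : Odd (Fintype.card F)) {m : ℕ} (hm : 4 ≤ m) :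
    (∃ φ : ↥(Cfsg.pgoAut F (Cfsg.quadFormPlus m F)) →* Multiplicative (ZMod 2 × ZMod 2), Function.Surjective φ ∧ φ.ker = (Cfsg.psoAut F (Cfsg.quadFormPlus m F)).subgroupOf (Cfsg.pgoAut F (Cfsg.quadFormPlus m F))) := by
  classical
  have h2 : (2 : F) ≠ 0 := Cfsg.Agent.Lib.Helper13.two_ne_zero_of_odd_card hodd
  have hcard : Fintype.card (Fin m ⊕ Fin m) = 2 * m := by
    rw [Fintype.card_sum, Fintype.card_fin]; ring
  have hchar : ringChar F ≠ 2 := by
    intro h
    apply h2
    have : ((2 : ℕ) : F) = 0 := by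
      rw [← h]; exact ringChar.Nat.cast_ringChar
    exact_mod_cast this
  obtain ⟨η, hη⟩ := FiniteField.exists_nonsquare hchar
  have hη0 : η ≠ 0 := by
    rintro rfl
    exact hη IsSquare.zero
  obtain ⟨g₁, hg₁⟩ := Cfsg.Agent.Lib.Helper36.exists_similarity_plus (F := F) m (Units.mk0 η hη0)
  exact Cfsg.Agent.Lib.Helper36.exists_hom_pgo_pso (Cfsg.Agent.S2168.plusQF m F)
    (Cfsg.Agent.S2168.plusQF_nondeg m F) h2 (by rw [hcard]; omega) m hcard
    ⟨g₁, Units.mk0 η hη0, hη, hg₁⟩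

end Cfsg.Agent.S2722
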