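import Cfsg.Statements.S2723
import Cfsg.Agent.Lib.Helper36.PsoInn
import Cfsg.Agent.S2168
import Cfsg.Agent.S0790
import Cfsg.Agent.Lib.Helper13.SpinNeg

set_option autoImplicit false
open Cfsg

namespace Cfsg.Agent.S2723

/-- Let T = PΩ⁺_{2m}(F) with m ≥ 4 and |F| = q odd. The image of the special orthogonal group in Aut(T) contains the inner automorphism group T with index 1 (they coincide) when m is odd and q ≡ 3 (mod 4), and with index 2 otherwise (the index is 2 exactly when the discriminant of the form is a square). -/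
theorem result {F : Type*} [Field F] [Fintype F] (hodd : Odd (Fintype.card F)) {m : ℕ} (hm : 4 ≤ m) :
    ((Odd m ∧ Fintype.card F % 4 = 3) → (Cfsg.Inn (Cfsg.POmega F (Cfsg.quadFormPlus m F))).relIndex (Cfsg.psoAut F (Cfsg.quadFormPlus m F)) = 1) ∧ (¬ (Odd m ∧ Fintype.card F % 4 = 3) → (Cfsg.Inn (Cfsg.POmega F (Cfsg.quadFormPlus m F))).relIndex (Cfsg.psoAut F (Cfsg.quadFormPlus m F)) = 2) := by
  classical
  have h2 : (2 : F) ≠ 0 := Cfsg.Agent.Lib.Helper13.two_ne_zero_of_odd_card hodd
  have hcard : Fintype.card (Fin m ⊕ Fin m) = 2 * m := by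
    rw [Fintype.card_sum, Fintype.card_fin]; ring
  have hq : Fintype.card F % 2 = 1 := Nat.odd_iff.mp hodd
  obtain ⟨h1, h0⟩ := Cfsg.Agent.Lib.Helper36.relIndex_Inn_psoAut (Cfsg.Agent.S2168.plusQF m F)
    (Cfsg.Agent.S2168.plusQF_nondeg m F) h2 (by rw [hcard]; omega)
    (by rw [hcard]; exact even_two_mul m)
  have hiff := Cfsg.Agent.S0790.result (F := F) rfl hodd m (by omega)
  constructor
  · intro hc
    apply h0
    intro hneg
    have h3 := hiff.mp hneg
    rw [Cfsg.Agent.Lib.Helper36.pow_mod_four_eq_one_iff _ _ hq] at h3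
    exact h3 hc
  · intro hc
    apply h1
    apply hiff.mpr
    rw [Cfsg.Agent.Lib.Helper36.pow_mod_four_eq_one_iff _ _ hq]
    exact hc

end Cfsg.Agent.S2723
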