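import Cfsg.Statements.S2724
import Cfsg.Agent.Lib.Helper36.PgoInn
import Cfsg.Agent.Lib.Helper36.PgoPsoForms
import Cfsg.Agent.S2168
import Cfsg.Agent.S0790
import Cfsg.Agent.S2722
import Cfsg.Agent.S2723

set_option autoImplicit false
open Cfsg

namespace Cfsg.Agent.S2724

/-- Let T = PΩ⁺_{2m}(F) with m ≥ 4 and |F| = q odd. The image G̃ of the conformal orthogonal group in Aut(T), taken modulo the inner automorphism group T, is elementary abelian of order 4 when m is odd and q ≡ 3 (mod 4), and dihedral of order 8 otherwise. -/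
theorem result {F : Type*} [Field F] [Fintype F] (hodd : Odd (Fintype.card F)) {m : ℕ} (hm : 4 ≤ m) :
    ((Odd m ∧ Fintype.card F % 4 = 3) → (∃ φ : ↥(Cfsg.pgoAut F (Cfsg.quadFormPlus m F)) →* Multiplicative (ZMod 2 × ZMod 2), Function.Surjective φ ∧ φ.ker = (Cfsg.Inn (Cfsg.POmega F (Cfsg.quadFormPlus m F))).subgroupOf (Cfsg.pgoAut F (Cfsg.quadFormPlus m F)))) ∧ (¬ (Odd m ∧ Fintype.card F % 4 = 3) → (∃ φ : ↥(Cfsg.pgoAut F (Cfsg.quadFormPlus m F)) →* DihedralGroup 4, Function.Surjective φ ∧ φ.ker = (Cfsg.Inn (Cfsg.POmega F (Cfsg.quadFormPlus m F))).subgroupOf (Cfsg.pgoAut F (Cfsg.quadFormPlus m F)))) := by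
  have h2 : (2 : F) ≠ 0 := Cfsg.Agent.Lib.Helper13.two_ne_zero_of_odd_card hodd
  have hcard : Fintype.card (Fin m ⊕ Fin m) = 2 * m := by
    rw [Fintype.card_sum, Fintype.card_fin]; ring
  have hq : Fintype.card F % 2 = 1 := Nat.odd_iff.mp hodd
  constructor
  · intro hc
    have hidx := (Cfsg.Agent.S2723.result hodd hm).1 hc
    have heq := Cfsg.Agent.Lib.Helper36.Inn_eq_psoAut_of_relIndex _ hidx
    have h22 := Cfsg.Agent.S2722.result hodd hm
    rw [heq]
    exact h22
  · intro hc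
    classical
    have hchar : ringChar F ≠ 2 := by
      intro h
      apply h2
      have : ((2 : ℕ) : F) = 0 := by
        rw [← h]; exact ringChar.Nat.cast_ringChar
      exact_mod_cast this
    obtain ⟨η, hη⟩ := FiniteField.exists_nonsquare hchar
    have hη0 : η ≠ 0 := by
      rintro rfl
      exact hη IsSquare.zero
    obtain ⟨g₁, hg₁⟩ := Cfsg.Agent.Lib.Helper36.exists_similarity_plus (F := F) m (Units.mk0 η hη0)
    have hiff := Cfsg.Agent.S0790.result (F := F) rfl hodd m (by omega)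
    have hneg := hiff.mpr ((Cfsg.Agent.Lib.Helper36.pow_mod_four_eq_one_iff _ _ hq).mpr hc)
    exact Cfsg.Agent.Lib.Helper36.exists_hom_pgo_inn_dihedral (Cfsg.Agent.S2168.plusQF m F)
      (Cfsg.Agent.S2168.plusQF_nondeg m F) h2 (by rw [hcard]; omega) m hcard
      ⟨g₁, Units.mk0 η hη0, hη, hg₁⟩ hneg

end Cfsg.Agent.S2724
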