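import Cfsg.Statements.S4062

set_option autoImplicit false
open Cfsg

namespace Cfsg.Agent.S4062

universe u

/-- elements of the same prime power order are conjugate -/
def PP (Q : Type*) [Group Q] : Prop :=
  ∀ x y : Q, (∃ r k : ℕ, r.Prime ∧ orderOf x = r ^ k) → orderOf x = orderOf y → IsConj x y

/-- an `r`-element of the image lifts to an `r`-element -/
theorem exists_lift {G Q : Type*} [Group G] [Finite G] [Group Q] (f : G →* Q)
    (hf : Function.Surjective f) (r k : ℕ) (hr : r.Prime) (z : Q) (hz : orderOf z = r ^ k) :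
    ∃ y : G, f y = z ∧ ∃ e : ℕ, orderOf y = r ^ e := by
  obtain ⟨y, rfl⟩ := hf z
  have hn : orderOf y ≠ 0 := (orderOf_pos y).ne'
  obtain ⟨e, s, hs, hes⟩ := Nat.exists_eq_pow_mul_and_not_dvd hn r hr.ne_one
  have hcop : Nat.Coprime s (orderOf (f y)) := by
    rw [hz]
    exact Nat.Coprime.pow_right k ((Nat.Prime.coprime_iff_not_dvd hr).mpr hs).symm
  obtain ⟨m, hm⟩ := exists_pow_eq_self_of_coprime hcop
  refine ⟨(y ^ s) ^ m, by rw [map_pow, map_pow]; exact hm, ?_⟩
  have hs0 : s ≠ 0 := by
    rintro rfl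
    exact hs (dvd_zero r)
  have h1 : orderOf (y ^ s) = r ^ e := by
    rw [orderOf_pow_of_dvd hs0 ⟨r ^ e, by rw [hes]; ring⟩, hes]
    exact Nat.mul_div_cancel _ (Nat.pos_of_ne_zero hs0)
  have h2 : orderOf ((y ^ s) ^ m) ∣ r ^ e := by
    rw [← h1]; exact orderOf_pow_dvd m
  obtain ⟨e', -, he'⟩ := (Nat.dvd_prime_pow hr).mp h2
  exact ⟨e', he'⟩

/-- `PP` passes to homomorphic images. -/
theorem PP_of_surjective {G Q : Type*} [Group G] [Finite G] [Group Q] (f : G →* Q)
    (hf : Function.Surjective f) (h : PP G) : PP Q := by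
  intro x y ⟨r, k, hr, hx⟩ hxy
  by_cases hk : k = 0
  · subst hk
    rw [pow_zero] at hx
    have hy : orderOf y = 1 := by rw [← hxy, hx]
    rw [orderOf_eq_one_iff] at hx hy
    rw [hx, hy]
  -- minimal exponent of an r-element lift of an element of order r^k
  have hex : ∃ e : ℕ, ∃ y0 : G, orderOf y0 = r ^ e ∧ orderOf (f y0) = r ^ k := by
    obtain ⟨y0, hy0, e, he⟩ := exists_lift f hf r k hr x hx
    exact ⟨e, y0, he, by rw [hy0]; exact hx⟩
  classical
  let e0 := Nat.find hex
  obtain ⟨y0, hy0, hfy0⟩ := Nat.find_spec hex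
  have key : ∀ z : Q, orderOf z = r ^ k → ∃ z1 : G, f z1 = z ∧ orderOf z1 = r ^ e0 := by
    intro z hz
    obtain ⟨z1, hz1, e1, he1⟩ := exists_lift f hf r k hr z hz
    have hmin : e0 ≤ e1 := Nat.find_min' hex ⟨z1, he1, by rw [hz1]; exact hz⟩
    rcases Nat.eq_or_lt_of_le hmin with heq | hlt
    · exact ⟨z1, hz1, by rw [he1, ← heq]⟩
    · exfalso
      set j := e1 - e0 with hj
      have hj0 : 0 < j := by omega
      have hw : orderOf (z1 ^ r ^ j) = r ^ e0 := by
        rw [orderOf_pow_of_dvd (pow_ne_zero _ hr.ne_zero) (by rw [he1]; exact pow_dvd_pow r (by omega)),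
          he1]
        rw [Nat.pow_div (by omega) hr.pos]
        congr 1; omega
      have hconj : IsConj (z1 ^ r ^ j) y0 := h _ _ ⟨r, e0, hr, hw⟩ (by rw [hw]; exact hy0.symm)
      have hconj' : IsConj (f (z1 ^ r ^ j)) (f y0) := f.map_isConj hconj
      have hord : orderOf (f (z1 ^ r ^ j)) = r ^ k := by
        obtain ⟨c, hc⟩ := isConj_iff.mp hconj'
        rw [← hfy0, ← hc]
        have := (MulAut.conj c).orderOf_eq (f (z1 ^ r ^ j))
        simpa [MulAut.conj_apply] using this.symm
      rw [map_pow, hz1] at hord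
      have hdvd : r ^ j ∣ orderOf z := by
        rw [hz]; exact pow_dvd_pow r (by
          by_contra hlt'
          push Not at hlt'
          -- k < j : then z^(r^j) = 1
          have h1 : z ^ r ^ j = 1 := by
            have : orderOf z ∣ r ^ j := by rw [hz]; exact pow_dvd_pow r hlt'.le
            exact orderOf_dvd_iff_pow_eq_one.mp this
          rw [h1, orderOf_one] at hord
          have : 1 < r ^ k := Nat.one_lt_pow hk hr.one_lt
          omega)
      rw [orderOf_pow_of_dvd (pow_ne_zero _ hr.ne_zero) hdvd, hz] at hord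
      have hlt2 : r ^ k / r ^ j < r ^ k :=
        Nat.div_lt_self (pow_pos hr.pos k) (Nat.one_lt_pow (by omega) hr.one_lt)
      omega
  obtain ⟨x1, hx1, hox1⟩ := key x hx
  obtain ⟨y1, hy1, hoy1⟩ := key y (by rw [← hxy]; exact hx)
  have hc : IsConj x1 y1 := h _ _ ⟨r, e0, hr, hox1⟩ (by rw [hox1, hoy1])
  have := f.map_isConj hc
  rwa [hx1, hy1] at this


/-- a finite commutative `PP`-group has at most two elements -/
theorem card_le_two_of_comm {A : Type*} [Group A] [Finite A] (hcomm : ∀ a b : A, a * b = b * a)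
    (h : PP A) : Nat.card A ≤ 2 := by
  -- conjugate elements are equal
  have hconj : ∀ a b : A, IsConj a b → a = b := by
    intro a b hab
    obtain ⟨c, hc⟩ := isConj_iff.mp hab
    rw [← hc, hcomm c a, mul_inv_cancel_right]
  -- prime power order elements have square one
  have hsq : ∀ a : A, (∃ r k : ℕ, r.Prime ∧ orderOf a = r ^ k) → a * a = 1 := by
    intro a ha
    have h1 : a = a⁻¹ := hconj _ _ (h a a⁻¹ ha (orderOf_inv a).symm)
    calc a * a = a * a⁻¹ := by rw [← h1]
      _ = 1 := mul_inv_cancel a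
  -- the order is a power of two
  have hcard : ∃ j : ℕ, Nat.card A = 2 ^ j := by
    refine ⟨_, Nat.eq_prime_pow_of_unique_prime_dvd Nat.card_pos.ne' ?_⟩
    intro d hd hdvd
    have : Fact d.Prime := ⟨hd⟩
    obtain ⟨a, ha⟩ := exists_prime_orderOf_dvd_card' d hdvd
    have h2 : a * a = 1 := hsq a ⟨d, 1, hd, by rw [ha, pow_one]⟩
    have h3 : orderOf a ∣ 2 := orderOf_dvd_of_pow_eq_one (by rw [pow_two]; exact h2)
    rw [ha] at h3
    exact (Nat.prime_dvd_prime_iff_eq hd Nat.prime_two).mp h3
  obtain ⟨j, hj⟩ := hcard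
  have hpp : ∀ a : A, ∃ r k : ℕ, r.Prime ∧ orderOf a = r ^ k := by
    intro a
    have h1 : orderOf a ∣ 2 ^ j := by rw [← hj]; exact orderOf_dvd_natCard a
    obtain ⟨k, -, hk⟩ := (Nat.dvd_prime_pow Nat.prime_two).mp h1
    exact ⟨2, k, Nat.prime_two, hk⟩
  have hord2 : ∀ a : A, a ≠ 1 → orderOf a = 2 := by
    intro a ha
    exact orderOf_eq_prime (by rw [pow_two]; exact hsq a (hpp a)) ha
  have heq : ∀ a b : A, a ≠ 1 → b ≠ 1 → a = b := by
    intro a b ha hb
    apply hconj
    apply h a b ⟨2, 1, Nat.prime_two, by rw [hord2 a ha, pow_one]⟩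
    rw [hord2 a ha, hord2 b hb]
  by_contra hlt
  push Not at hlt
  have := Fintype.ofFinite A
  rw [Nat.card_eq_fintype_card] at hlt
  obtain ⟨a, b, c, hab, hac, hbc⟩ := Fintype.two_lt_card_iff.mp hlt
  by_cases ha : a = 1
  · subst ha
    exact hbc (heq b c (Ne.symm hab) (Ne.symm hac))
  · by_cases hb : b = 1
    · subst hb
      exact hac (heq a c ha (Ne.symm hbc))
    · exact hab (heq a b ha hb)

/-- the derived subgroup of a finite `PP`-group has index at most two -/
theorem index_commutator_le_two {Q : Type*} [Group Q] [Finite Q] (h : PP Q) :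
    (commutator Q).index ≤ 2 := by
  have h1 : PP (Q ⧸ commutator Q) :=
    PP_of_surjective (QuotientGroup.mk' (commutator Q)) (QuotientGroup.mk'_surjective _) h
  have h2 : ∀ a b : Q ⧸ commutator Q, a * b = b * a := by
    intro a b
    have h3 := mul_comm (G := Abelianization Q) a b
    exact h3
  exact card_le_two_of_comm h2 h1


/-- orbit bound: in an abelian subgroup `N` whose non-identity elements are all conjugate,
there are at most `|Q : N| + 1` elements. -/
theorem card_le_index_add_one {Q : Type*} [Group Q] [Finite Q] (N : Subgroup Q)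
    (hNcomm : ∀ a ∈ N, ∀ b ∈ N, a * b = b * a)
    (hconj : ∀ a ∈ N, ∀ b ∈ N, a ≠ 1 → b ≠ 1 → IsConj a b) :
    Nat.card N ≤ N.index + 1 := by
  classical
  by_cases hbot : N = ⊥
  · subst hbot
    simp
  obtain ⟨a, haN, ha1⟩ := (Subgroup.ne_bot_iff_exists_ne_one (H := N)).mp hbot |>.imp
    (fun a h => h) |> fun ⟨a, ha⟩ => (⟨(a : Q), a.2, fun h => ha (Subtype.ext h)⟩ :
      ∃ a : Q, a ∈ N ∧ a ≠ 1)
  have hc : ∀ b : N, b ≠ 1 → ∃ c : Q, c * a * c⁻¹ = b :=
    fun b hb => isConj_iff.mp (hconj a haN b b.2 ha1 (fun h => hb (Subtype.ext h)))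
  let F : N → Option (Q ⧸ N) := fun b =>
    if hb : b = 1 then none else some ((Classical.choose (hc b hb) : Q) : Q ⧸ N)
  have hF : Function.Injective F := by
    intro b b' hbb
    by_cases hb : b = 1
    · by_cases hb' : b' = 1
      · exact hb.trans hb'.symm
      · simp [F, hb, hb'] at hbb
    · by_cases hb' : b' = 1
      · simp [F, hb, hb'] at hbb
      · simp only [F, hb, hb', dif_neg, not_false_eq_true, Option.some.injEq] at hbb
        have h1 := Classical.choose_spec (hc b hb)
        have h2 := Classical.choose_spec (hc b' hb')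
        set c := Classical.choose (hc b hb)
        set c' := Classical.choose (hc b' hb')
        have h3 : c⁻¹ * c' ∈ N := QuotientGroup.eq.mp hbb
        apply Subtype.ext
        rw [← h1, ← h2]
        have h4 : (c⁻¹ * c') * a = a * (c⁻¹ * c') := hNcomm _ h3 _ haN
        calc c * a * c⁻¹ = c * (a * (c⁻¹ * c')) * (c⁻¹ * c')⁻¹ * c⁻¹ := by group
          _ = c * ((c⁻¹ * c') * a) * (c⁻¹ * c')⁻¹ * c⁻¹ := by rw [h4]
          _ = c' * a * c'⁻¹ := by group
  have h5 := Nat.card_le_card_of_injective F hF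
  rwa [Finite.card_option] at h5

/-- the subgroup generated by the `r`-th powers of elements of `N` -/
def pwr {Q : Type*} [Group Q] (r : ℕ) (N : Subgroup Q) : Subgroup Q :=
  Subgroup.closure {y | ∃ u ∈ N, y = u ^ r}

theorem pwr_le {Q : Type*} [Group Q] (r : ℕ) (N : Subgroup Q) : pwr r N ≤ N := by
  unfold pwr
  rw [Subgroup.closure_le]
  rintro y ⟨u, hu, rfl⟩
  exact N.pow_mem hu r

theorem pow_mem_pwr {Q : Type*} [Group Q] (r : ℕ) (N : Subgroup Q) {u : Q} (hu : u ∈ N) :
    u ^ r ∈ pwr r N := Subgroup.subset_closure ⟨u, hu, rfl⟩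

theorem pwr_normal {Q : Type*} [Group Q] (r : ℕ) (N : Subgroup Q) [hN : N.Normal] :
    (pwr r N).Normal := by
  constructor
  intro n hn g
  have hle : pwr r N ≤ (pwr r N).comap (MulAut.conj g).toMonoidHom := by
    unfold pwr
    rw [Subgroup.closure_le]
    rintro y ⟨u, hu, rfl⟩
    show (MulAut.conj g) (u ^ r) ∈ Subgroup.closure _
    rw [map_pow]
    exact Subgroup.subset_closure ⟨_, by simpa [MulAut.conj_apply] using hN.conj_mem u hu g, rfl⟩
  simpa [MulAut.conj_apply] using hle hn

theorem pwr_ne {Q : Type*} [Group Q] [Finite Q] (r : ℕ) (hr : r.Prime) (N : Subgroup Q)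
    (hNcomm : ∀ a ∈ N, ∀ b ∈ N, a * b = b * a) (hdvd : r ∣ Nat.card N) : pwr r N ≠ N := by
  intro heq
  have : Fact r.Prime := ⟨hr⟩
  obtain ⟨x, hx⟩ := exists_prime_orderOf_dvd_card' (G := N) r hdvd
  have he0 : Monoid.exponent N ≠ 0 := Monoid.exponent_ne_zero_of_finite
  have hre : r ∣ Monoid.exponent N := hx ▸ Monoid.order_dvd_exponent x
  obtain ⟨k, hk⟩ := hre
  have hk0 : k ≠ 0 := by
    rintro rfl
    rw [mul_zero] at hk
    exact he0 hk
  have hall : ∀ y ∈ pwr r N, y ∈ N ∧ y ^ k = 1 := by
    intro y hy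
    unfold pwr at hy
    induction hy using Subgroup.closure_induction with
    | mem y hy =>
      obtain ⟨u, hu, rfl⟩ := hy
      refine ⟨N.pow_mem hu r, ?_⟩
      rw [← pow_mul, ← hk]
      have h1 := Monoid.pow_exponent_eq_one (⟨u, hu⟩ : N)
      exact congrArg Subtype.val h1
    | one => exact ⟨N.one_mem, one_pow k⟩
    | mul a b _ _ ha hb =>
      refine ⟨N.mul_mem ha.1 hb.1, ?_⟩
      have hc : Commute a b := hNcomm a ha.1 b hb.1
      rw [hc.mul_pow, ha.2, hb.2, one_mul]
    | inv a _ ha => exact ⟨N.inv_mem ha.1, by rw [inv_pow, ha.2, inv_one]⟩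
  have hdvd2 : Monoid.exponent N ∣ k := by
    apply Monoid.exponent_dvd_of_forall_pow_eq_one
    intro y
    apply Subtype.ext
    have h1 := (hall (y : Q) (by rw [heq]; exact y.2)).2
    simpa using h1
  have h2 := Nat.le_of_dvd (Nat.pos_of_ne_zero hk0) hdvd2
  have h3 : 2 ≤ r := hr.two_le
  rw [hk] at h2
  nlinarith [Nat.pos_of_ne_zero hk0]

/-- a proper subgroup of `N` has at least twice the index -/
theorem two_mul_index_le {Q : Type*} [Group Q] [Finite Q] (M N : Subgroup Q) (hle : M ≤ N)
    (hne : M ≠ N) : 2 * N.index ≤ M.index := by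
  have h1 := Subgroup.relIndex_mul_index hle
  have h2 : M.relIndex N ≠ 1 := by
    intro h
    exact hne (le_antisymm hle (Subgroup.relIndex_eq_one.mp h))
  have h3 : M.relIndex N ≠ 0 := by
    intro h
    rw [h, zero_mul] at h1
    exact M.index_ne_zero_of_finite h1.symm
  have h4 : 2 ≤ M.relIndex N := by omega
  rw [← h1]
  exact Nat.mul_le_mul_right _ h4

/-- a hom with commuting values kills the derived subgroup -/
theorem commutator_le_ker {Q H : Type*} [Group Q] [Group H] (f : Q →* H)
    (hf : ∀ x y : Q, f x * f y = f y * f x) : commutator Q ≤ f.ker := by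
  rw [commutator_def, Subgroup.commutator_le]
  intro x _ y _
  rw [MonoidHom.mem_ker, map_commutatorElement, commutatorElement_eq_one_iff_mul_comm]
  exact hf x y

/-- groups with at most three elements are commutative -/
theorem comm_of_card_le_three {A : Type*} [Group A] [Finite A] (h : Nat.card A ≤ 3) :
    ∀ a b : A, a * b = b * a := by
  have hpos : 0 < Nat.card A := Nat.card_pos
  have hcyc : IsCyclic A := by
    rcases Nat.lt_or_ge (Nat.card A) 2 with h1 | h1
    · have : Nat.card A = 1 := by omega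
      have := (Nat.card_eq_one_iff_unique.mp this).1
      exact isCyclic_of_subsingleton
    · rcases Nat.lt_or_ge (Nat.card A) 3 with h2 | h2
      · have h3 : Nat.card A = 2 := by omega
        have : Fact (Nat.Prime 2) := ⟨Nat.prime_two⟩
        exact isCyclic_of_prime_card h3
      · have h3 : Nat.card A = 3 := by omega
        have : Fact (Nat.Prime 3) := ⟨Nat.prime_three⟩
        exact isCyclic_of_prime_card h3
  intro a b
  obtain ⟨g, hg⟩ := hcyc.exists_generator
  obtain ⟨i, rfl⟩ := Subgroup.mem_zpowers_iff.mp (hg a)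
  obtain ⟨j, rfl⟩ := Subgroup.mem_zpowers_iff.mp (hg b)
  rw [← zpow_add, ← zpow_add, add_comm]


/-- if `D` centralizes the normal subgroup `N ≤ D` of relative index three then `D` is abelian -/
theorem comm_of_centralizes {Q : Type*} [Group Q] [Finite Q] (D N : Subgroup Q) [hNn : N.Normal]
    (hrel : N.relIndex D = 3)
    (hcent : ∀ d ∈ D, ∀ u ∈ N, d * u = u * d) : ∀ a ∈ D, ∀ b ∈ D, a * b = b * a := by
  have : Fact (Nat.Prime 3) := ⟨Nat.prime_three⟩
  have hcyc : IsCyclic (↥D ⧸ N.subgroupOf D) := isCyclic_of_prime_card (p := 3) hrel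
  have hker : (QuotientGroup.mk' (N.subgroupOf D)).ker ≤ Subgroup.center D := by
    rw [QuotientGroup.ker_mk']
    intro x hx
    rw [Subgroup.mem_center_iff]
    intro y
    apply Subtype.ext
    exact hcent y y.2 x (Subgroup.mem_subgroupOf.mp hx)
  intro a ha b hb
  have h1 := commutative_of_cyclic_center_quotient (QuotientGroup.mk' (N.subgroupOf D)) hker
    ⟨a, ha⟩ ⟨b, hb⟩
  exact congrArg Subtype.val h1

/-- the Klein four case: some element outside `N` centralizes `N` -/
theorem klein_case {Q : Type*} [Group Q] [Finite Q] (hPP : PP Q) (D N : Subgroup Q)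
    [hNn : N.Normal] (hND : N ≤ D) (hDidx : D.index = 2) (hNidx : N.index = 6)
    (hNcard : Nat.card N = 4)
    (hNcomm : ∀ a ∈ N, ∀ b ∈ N, a * b = b * a) (hNexp : ∀ u ∈ N, u * u = 1) :
    ∃ t, t ∉ N ∧ ∀ u ∈ N, t * u = u * t := by
  have hNne : N ≠ ⊥ := by
    intro h
    rw [h] at hNcard
    simp at hNcard
  obtain ⟨a0, ha0N, ha01⟩ : ∃ a : Q, a ∈ N ∧ a ≠ 1 := by
    obtain ⟨a, ha⟩ := (Subgroup.ne_bot_iff_exists_ne_one (H := N)).mp hNne
    exact ⟨a, a.2, fun h => ha (Subtype.ext h)⟩
  have : Fact (Nat.Prime 2) := ⟨Nat.prime_two⟩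
  have hinv : ∀ x : Q, x * x = 1 → x ∈ N := by
    intro x hx
    by_cases hx1 : x = 1
    · rw [hx1]; exact N.one_mem
    have h1 : orderOf x = 2 := orderOf_eq_prime (by rw [pow_two]; exact hx) hx1
    have h2 : orderOf a0 = 2 := orderOf_eq_prime (by rw [pow_two]; exact hNexp a0 ha0N) ha01
    have h3 : IsConj a0 x :=
      hPP a0 x ⟨2, 1, Nat.prime_two, by rw [h2, pow_one]⟩ (by rw [h1, h2])
    obtain ⟨c, hc⟩ := isConj_iff.mp h3
    rw [← hc]
    exact hNn.conj_mem a0 ha0N c
  obtain ⟨g, hg⟩ : ∃ g : Q, g ∉ D := by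
    by_contra hcon
    push Not at hcon
    have h1 : D = ⊤ := (Subgroup.eq_top_iff' D).mpr hcon
    rw [h1, Subgroup.index_top] at hDidx
    omega
  set t := g ^ 3 with ht
  have htD : t ∉ D := by
    intro h
    have h1 : g * g ∈ D := Subgroup.mul_self_mem_of_index_two hDidx g
    have h2 : t = g * g * g := by rw [ht, pow_succ, pow_two]
    rw [h2] at h
    exact hg ((D.mul_mem_cancel_left h1).mp h)
  have htN : t ∉ N := fun h => htD (hND h)
  have hz : t * t ∈ N := by
    have h1 := N.pow_index_mem g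
    rw [hNidx] at h1
    have h2 : t * t = g ^ 6 := by rw [ht, ← pow_add]
    rw [h2]; exact h1
  have hz1 : t * t ≠ 1 := fun h => htN (hinv t h)
  refine ⟨t, htN, ?_⟩
  by_contra hcon
  push Not at hcon
  obtain ⟨a, haN, hta⟩ := hcon
  set z := t * t with hzdef
  set b := t * a * t⁻¹ with hb
  have hbN : b ∈ N := hNn.conj_mem a haN t
  set w := a * b with hw
  have hwN : w ∈ N := N.mul_mem haN hbN
  have htz : t * z = z * t := by rw [hzdef]; group
  have htw : t * w = w * t := by
    have h1 : t * b * t⁻¹ = z * a * z⁻¹ := by rw [hb, hzdef]; group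
    have h2 : z * a * z⁻¹ = a := by rw [hNcomm z hz a haN]; group
    have h3 : t * w * t⁻¹ = b * a := by
      calc t * w * t⁻¹ = (t * a * t⁻¹) * (t * b * t⁻¹) := by rw [hw]; group
        _ = b * a := by rw [h1, h2]
    have h4 : b * a = w := by rw [hw]; exact hNcomm b hbN a haN
    rw [h4] at h3
    calc t * w = t * w * t⁻¹ * t := by group
      _ = w * t := by rw [h3]
  have hw1 : w ≠ 1 := by
    intro h
    apply hta
    have h1 : b = a := by
      have h2 : a * b = a * a := by rw [← hw, h, hNexp a haN]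
      exact mul_left_cancel h2
    calc t * a = t * a * t⁻¹ * t := by group
      _ = a * t := by rw [← hb, h1]
  have hwz : w ≠ z := by
    intro h
    have h1 : (t * a) * (t * a) = 1 := by
      have h2 : (t * a) * (t * a) = b * z * a := by rw [hb, hzdef]; group
      rw [h2, ← h, hw]
      have h3 : b * (a * b) * a = (b * b) * (a * a) := by
        rw [hNcomm a haN b hbN]; group
      rw [h3, hNexp b hbN, hNexp a haN, one_mul]
    have h4 := hinv _ h1
    exact htN ((N.mul_mem_cancel_right haN).mp h4)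
  let C : Subgroup Q := N ⊓ Subgroup.centralizer {t}
  have hCmem : ∀ x, x ∈ C ↔ x ∈ N ∧ x * t = t * x := by
    intro x
    simp only [C, Subgroup.mem_inf, Subgroup.mem_centralizer_singleton_iff]
  have h1C : (1 : Q) ∈ C := C.one_mem
  have hzC : z ∈ C := (hCmem z).mpr ⟨hz, htz.symm⟩
  have hwC : w ∈ C := (hCmem w).mpr ⟨hwN, htw.symm⟩
  have hcard3 : 2 < Nat.card C := by
    have := Fintype.ofFinite C
    rw [Nat.card_eq_fintype_card, Fintype.two_lt_card_iff]
    refine ⟨⟨1, h1C⟩, ⟨z, hzC⟩, ⟨w, hwC⟩, ?_, ?_, ?_⟩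
    · intro h; exact hz1 (congrArg Subtype.val h).symm
    · intro h; exact hw1 (congrArg Subtype.val h).symm
    · intro h; exact hwz (congrArg Subtype.val h).symm
  have hCle : C ≤ N := inf_le_left
  have hdvd : Nat.card C ∣ 4 := hNcard ▸ Subgroup.card_dvd_of_le hCle
  have hC4 : Nat.card C = 4 := by
    have hle : Nat.card C ≤ 4 := Nat.le_of_dvd (by norm_num) hdvd
    have h3 : Nat.card C ≠ 3 := by
      intro h
      rw [h] at hdvd
      omega
    omega
  have hCN : C = N := Subgroup.eq_of_le_of_card_ge hCle (by rw [hC4, hNcard])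
  have haC : a ∈ C := by rw [hCN]; exact haN
  exact hta ((hCmem a).mp haC).2.symm


/-- the second derived subgroup is trivial -/
theorem caseB {Q : Type*} [Group Q] [Finite Q] [Group.IsSolvable Q] (hPP : PP Q)
    (IH : ∀ M : Subgroup Q, M.Normal → M ≠ ⊥ → M.index = 1 ∨ M.index = 2 ∨ M.index = 6)
    (D N : Subgroup Q) (hD : D = commutator Q) (hNdef : N = ⁅D, D⁆)
    (hDidx : D.index = 2) (hN : N ≠ ⊥) : False := by
  have hDn : D.Normal := by rw [hD]; infer_instance
  have hNn : N.Normal := by rw [hNdef]; infer_instance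
  have hDne : D ≠ ⊥ := by
    intro h
    apply hN
    rw [hNdef, h]
    simp
  have hNltD : N < D := by
    rw [hNdef]; exact Group.IsSolvable.commutator_lt_of_ne_bot hDne
  have hND : N ≤ D := hNltD.le
  have hNidx : N.index = 6 := by
    have h1 := two_mul_index_le N D hND hNltD.ne
    rw [hDidx] at h1
    rcases IH N hNn hN with h | h | h <;> omega
  have hN3 : ⁅N, N⁆ = ⊥ := by
    by_contra h3
    have h3n : (⁅N, N⁆).Normal := inferInstance
    have hlt : ⁅N, N⁆ < N := Group.IsSolvable.commutator_lt_of_ne_bot hN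
    have h1 := two_mul_index_le _ N hlt.le hlt.ne
    rw [hNidx] at h1
    rcases IH _ h3n h3 with h | h | h <;> omega
  have hNcomm : ∀ a ∈ N, ∀ b ∈ N, a * b = b * a := by
    intro a ha b hb
    have h1 := Subgroup.commutator_eq_bot_iff_le_centralizer.mp hN3
    exact Subgroup.mem_centralizer_iff.mp (h1 hb) a ha
  have hcard1 : 1 < Nat.card N := N.one_lt_card_iff_ne_bot.mpr hN
  obtain ⟨r, hr, hrdvd⟩ := Nat.exists_prime_and_dvd (by omega : Nat.card N ≠ 1)
  have hpw : pwr r N = ⊥ := by
    by_contra h3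
    have h3n : (pwr r N).Normal := pwr_normal r N
    have h1 := two_mul_index_le _ N (pwr_le r N) (pwr_ne r hr N hNcomm hrdvd)
    rw [hNidx] at h1
    rcases IH _ h3n h3 with h | h | h <;> omega
  have hNexp : ∀ u ∈ N, u ^ r = 1 := by
    intro u hu
    have h1 := pow_mem_pwr r N hu
    rw [hpw] at h1
    exact Subgroup.mem_bot.mp h1
  have hrf : Fact r.Prime := ⟨hr⟩
  have hconj : ∀ a ∈ N, ∀ b ∈ N, a ≠ 1 → b ≠ 1 → IsConj a b := by
    intro a ha b hb ha1 hb1
    have h1 : orderOf a = r := orderOf_eq_prime (hNexp a ha) ha1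
    have h2 : orderOf b = r := orderOf_eq_prime (hNexp b hb) hb1
    exact hPP a b ⟨r, 1, hr, by rw [h1, pow_one]⟩ (by rw [h1, h2])
  have hle7 : Nat.card N ≤ 7 := by
    have h1 := card_le_index_add_one N hNcomm hconj
    rw [hNidx] at h1
    exact h1
  have hq : ∀ q : ℕ, q.Prime → q ∣ Nat.card N → q = r := by
    intro q hqp hqd
    have : Fact q.Prime := ⟨hqp⟩
    obtain ⟨x, hx⟩ := exists_prime_orderOf_dvd_card' (G := N) q hqd
    have h1 : (x : Q) ^ r = 1 := hNexp x x.2
    have h2 : orderOf (x : Q) = q := by rw [Subgroup.orderOf_coe, hx]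
    have h3 : q ∣ r := h2 ▸ orderOf_dvd_of_pow_eq_one h1
    exact (Nat.prime_dvd_prime_iff_eq hqp hr).mp h3
  have hcent : ∀ d ∈ D, ∀ u ∈ N, d * u = u * d := by
    let f : Q →* MulAut N := MulAut.conjNormal
    have hker : ∀ d : Q, d ∈ f.ker → ∀ u ∈ N, d * u = u * d := by
      intro d hd u hu
      have h1 : f d = 1 := hd
      have h2 : f d ⟨u, hu⟩ = ⟨u, hu⟩ := by rw [h1]; rfl
      have h3 : d * u * d⁻¹ = u := by
        have h4 := congrArg Subtype.val h2
        rwa [MulAut.conjNormal_apply] at h4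
      calc d * u = d * u * d⁻¹ * d := by group
        _ = u * d := by rw [h3]
    suffices hcom : ∀ x y : Q, f x * f y = f y * f x by
      intro d hd u hu
      rw [hD] at hd
      exact hker d (commutator_le_ker f hcom hd) u hu
    by_cases hprime : (Nat.card N).Prime
    · have : Fact (Nat.card N).Prime := ⟨hprime⟩
      have hcyc : IsCyclic N := isCyclic_of_prime_card rfl
      intro x y
      apply (IsCyclic.mulAutMulEquiv N).injective
      rw [map_mul, map_mul, mul_comm]
    · have h4 : Nat.card N = 4 ∧ r = 2 := by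
        have h2 : 2 ≤ Nat.card N := hcard1
        interval_cases hc : Nat.card N
        · exact absurd Nat.prime_two hprime
        · exact absurd Nat.prime_three hprime
        · exact ⟨rfl, (hq 2 Nat.prime_two (by norm_num)).symm⟩
        · exact absurd Nat.prime_five hprime
        · exfalso
          have h2 := hq 2 Nat.prime_two (by norm_num)
          have h3 := hq 3 Nat.prime_three (by norm_num)
          omega
        · exact absurd (by norm_num : Nat.Prime 7) hprime
      obtain ⟨hc4, rfl⟩ := h4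
      have hNexp2 : ∀ u ∈ N, u * u = 1 := fun u hu => by rw [← pow_two]; exact hNexp u hu
      obtain ⟨t, htN, htc⟩ := klein_case hPP D N hND hDidx hNidx hc4 hNcomm hNexp2
      have hNker : N ≤ f.ker := by
        intro u hu
        rw [MonoidHom.mem_ker]
        ext v
        rw [MulAut.conjNormal_apply, MulAut.one_apply]
        rw [hNcomm u hu v v.2]; group
      have htker : t ∈ f.ker := by
        rw [MonoidHom.mem_ker]
        ext v
        rw [MulAut.conjNormal_apply, MulAut.one_apply, htc v v.2]; group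
      have hidx : f.ker.index ≤ 3 := by
        have h1 : f.ker.index ∣ 6 := hNidx ▸ Subgroup.index_dvd_of_le hNker
        have h2 : f.ker.index ≠ 6 := by
          intro h
          have h3 := two_mul_index_le N f.ker hNker (fun h => htN (h ▸ htker))
          omega
        have h3 : f.ker.index ≤ 6 := Nat.le_of_dvd (by norm_num) h1
        have h4 : f.ker.index ≠ 4 := by
          intro h; rw [h] at h1; omega
        have h5 : f.ker.index ≠ 5 := by
          intro h; rw [h] at h1; omega
        omega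
      rw [Subgroup.index_ker] at hidx
      have hcomr := comm_of_card_le_three hidx
      intro x y
      have h1 := hcomr ⟨f x, x, rfl⟩ ⟨f y, y, rfl⟩
      exact congrArg Subtype.val h1
  have hrel : N.relIndex D = 3 := by
    have h1 := Subgroup.relIndex_mul_index hND
    rw [hDidx, hNidx] at h1
    omega
  have hDcomm := comm_of_centralizes D N hrel hcent
  apply hN
  rw [hNdef, Subgroup.commutator_eq_bot_iff_le_centralizer]
  intro d hd
  rw [Subgroup.mem_centralizer_iff]
  intro h hh
  exact hDcomm h hh d hd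


/-- the derived subgroup is abelian of index two: the group has six elements -/
theorem caseA {Q : Type*} [Group Q] [Finite Q] (hPP : PP Q)
    (IH : ∀ M : Subgroup Q, M.Normal → M ≠ ⊥ → M.index = 1 ∨ M.index = 2 ∨ M.index = 6)
    (N : Subgroup Q) [hNn : N.Normal] (hNidx : N.index = 2) (hNne : N ≠ ⊥)
    (hNcomm : ∀ a ∈ N, ∀ b ∈ N, a * b = b * a)
    (hnab : ¬ ∀ a b : Q, a * b = b * a) : Nat.card Q = 6 := by
  have hcardQ : Nat.card Q = 2 * Nat.card N := by
    rw [← hNidx]; exact (N.index_mul_card).symm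
  have hcard1 : 1 < Nat.card N := N.one_lt_card_iff_ne_bot.mpr hNne
  -- the elementary abelian case
  have hel : ∀ r : ℕ, r.Prime → (∀ u ∈ N, u ^ r = 1) → Nat.card Q = 6 := by
    intro r hr hNexp
    have hrf : Fact r.Prime := ⟨hr⟩
    have hconj : ∀ a ∈ N, ∀ b ∈ N, a ≠ 1 → b ≠ 1 → IsConj a b := by
      intro a ha b hb ha1 hb1
      have h1 : orderOf a = r := orderOf_eq_prime (hNexp a ha) ha1
      have h2 : orderOf b = r := orderOf_eq_prime (hNexp b hb) hb1
      exact hPP a b ⟨r, 1, hr, by rw [h1, pow_one]⟩ (by rw [h1, h2])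
    have hle3 : Nat.card N ≤ 3 := by
      have h1 := card_le_index_add_one N hNcomm hconj
      rw [hNidx] at h1
      exact h1
    have h23 : Nat.card N = 2 ∨ Nat.card N = 3 := by omega
    rcases h23 with h2 | h3
    · exfalso
      apply hnab
      have : Fact (Nat.Prime 2) := ⟨Nat.prime_two⟩
      exact IsPGroup.commutative_of_card_eq_prime_sq (p := 2) (by rw [hcardQ, h2]; norm_num)
    · rw [hcardQ, h3]
  have claim1 : ∀ r : ℕ, r.Prime → r ∣ Nat.card N → pwr r N ≠ ⊥ →
      r = 3 ∧ (pwr r N).index = 6 := by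
    intro r hr hrd hne
    have hn : (pwr r N).Normal := pwr_normal r N
    have h1 := two_mul_index_le _ N (pwr_le r N) (pwr_ne r hr N hNcomm hrd)
    rw [hNidx] at h1
    have h6 : (pwr r N).index = 6 := by
      rcases IH _ hn hne with h | h | h <;> omega
    refine ⟨?_, h6⟩
    have hrel : (pwr r N).relIndex N = 3 := by
      have h2 := Subgroup.relIndex_mul_index (pwr_le r N)
      rw [hNidx, h6] at h2
      omega
    by_contra hr3
    have hcop : Nat.Coprime r 3 := (Nat.coprime_primes hr Nat.prime_three).mpr hr3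
    apply pwr_ne r hr N hNcomm hrd
    apply le_antisymm (pwr_le r N)
    intro u hu
    have h1 : u ^ r ∈ pwr r N := pow_mem_pwr r N hu
    have h2 : u ^ 3 ∈ pwr r N := by
      have h3 := Subgroup.pow_relIndex_mem (pwr r N) hu
      rwa [hrel] at h3
    obtain ⟨m, -, hm⟩ := Nat.exists_mul_mod_eq_one_of_coprime hcop (by norm_num : 1 < 3)
    have h4 : r * m = 3 * (r * m / 3) + 1 := by
      have h5 := Nat.div_add_mod (r * m) 3
      omega
    have h5 : (u ^ r) ^ m = (u ^ 3) ^ (r * m / 3) * u := by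
      rw [← pow_mul, ← pow_mul, ← pow_succ, ← h4]
    have h6 : u = ((u ^ 3) ^ (r * m / 3))⁻¹ * (u ^ r) ^ m := by
      rw [h5]; group
    rw [h6]
    exact (pwr r N).mul_mem ((pwr r N).inv_mem ((pwr r N).pow_mem h2 _)) ((pwr r N).pow_mem h1 _)
  by_cases hex : ∃ r : ℕ, r.Prime ∧ r ∣ Nat.card N ∧ pwr r N = ⊥
  · obtain ⟨r, hr, hrd, hbot⟩ := hex
    apply hel r hr
    intro u hu
    have h1 := pow_mem_pwr r N hu
    rw [hbot] at h1
    exact Subgroup.mem_bot.mp h1
  · push Not at hex
    exfalso
    have hall3 : ∀ q : ℕ, q.Prime → q ∣ Nat.card N → q = 3 :=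
      fun q hq hqd => (claim1 q hq hqd (hex q hq hqd)).1
    obtain ⟨k, hk⟩ : ∃ k, Nat.card N = 3 ^ k :=
      ⟨_, Nat.eq_prime_pow_of_unique_prime_dvd (by omega) (fun {d} hd hdd => hall3 d hd hdd)⟩
    have hk0 : k ≠ 0 := by
      rintro rfl
      rw [pow_zero] at hk
      omega
    have h3d : 3 ∣ Nat.card N := by rw [hk]; exact dvd_pow_self 3 hk0
    have hMne : pwr 3 N ≠ ⊥ := hex 3 Nat.prime_three h3d
    have hM6 : (pwr 3 N).index = 6 := (claim1 3 Nat.prime_three h3d hMne).2
    have hMn : (pwr 3 N).Normal := pwr_normal 3 N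
    have hMle : pwr 3 N ≤ N := pwr_le 3 N
    have hMcomm : ∀ a ∈ pwr 3 N, ∀ b ∈ pwr 3 N, a * b = b * a :=
      fun a ha b hb => hNcomm a (hMle ha) b (hMle hb)
    have h3M : 3 ∣ Nat.card (pwr 3 N) := by
      have h1 := (pwr 3 N).index_mul_card
      rw [hM6, hcardQ, hk] at h1
      have hM1 : 1 < Nat.card (pwr 3 N) := (pwr 3 N).one_lt_card_iff_ne_bot.mpr hMne
      obtain ⟨j, rfl⟩ : ∃ j, k = j + 1 := ⟨k - 1, by omega⟩
      have h2 : Nat.card (pwr 3 N) = 3 ^ j := by
        rw [pow_succ] at h1
        omega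
      have hj0 : j ≠ 0 := by
        rintro rfl
        rw [pow_zero] at h2
        omega
      rw [h2]
      exact dvd_pow_self 3 hj0
    have hM' : pwr 3 (pwr 3 N) = ⊥ := by
      by_contra h3
      have hn : (pwr 3 (pwr 3 N)).Normal := pwr_normal 3 (pwr 3 N)
      have h1 := two_mul_index_le _ (pwr 3 N) (pwr_le 3 (pwr 3 N))
        (pwr_ne 3 Nat.prime_three (pwr 3 N) hMcomm h3M)
      rw [hM6] at h1
      rcases IH _ hn h3 with h | h | h <;> omega
    obtain ⟨y, hyN, hy3⟩ : ∃ y ∈ N, y ^ 3 ≠ 1 := by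
      by_contra hcon
      push Not at hcon
      apply hMne
      rw [pwr, Subgroup.closure_eq_bot_iff]
      rintro x ⟨u, hu, rfl⟩
      exact hcon u hu
    have hy9 : y ^ 9 = 1 := by
      have h1 : y ^ 3 ∈ pwr 3 N := pow_mem_pwr 3 N hyN
      have h2 : (y ^ 3) ^ 3 ∈ pwr 3 (pwr 3 N) := pow_mem_pwr 3 (pwr 3 N) h1
      rw [hM', Subgroup.mem_bot, ← pow_mul] at h2
      exact h2
    have : Fact (Nat.Prime 3) := ⟨Nat.prime_three⟩
    have hord : orderOf y = 3 ^ (1 + 1) :=
      orderOf_eq_prime_pow (by rw [pow_one]; exact hy3) (by norm_num; exact hy9)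
    have hord2 : orderOf (y ^ 2) = orderOf y := by
      apply Nat.Coprime.orderOf_pow
      rw [hord]
      decide
    obtain ⟨g, hg⟩ := isConj_iff.mp (hPP y (y ^ 2) ⟨3, 1 + 1, Nat.prime_three, hord⟩ hord2.symm)
    have hgg : g * g ∈ N := Subgroup.mul_self_mem_of_index_two hNidx g
    have h1 : (g * g) * y * (g * g)⁻¹ = y ^ 4 := by
      calc (g * g) * y * (g * g)⁻¹ = g * (g * y * g⁻¹) * g⁻¹ := by group
        _ = g * y ^ 2 * g⁻¹ := by rw [hg]
        _ = (g * y * g⁻¹) ^ 2 := by rw [conj_pow]
        _ = (y ^ 2) ^ 2 := by rw [hg]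
        _ = y ^ 4 := by rw [← pow_mul]
    have h2 : (g * g) * y * (g * g)⁻¹ = y := by
      rw [hNcomm _ hgg y hyN]; group
    rw [h2] at h1
    apply hy3
    have h3 : y * 1 = y * y ^ 3 := by rw [mul_one, ← pow_succ']; exact h1
    exact (mul_left_cancel h3).symm

/-- the possible orders -/
theorem main (n : ℕ) : ∀ (Q : Type u) [Group Q] [Finite Q] [Group.IsSolvable Q], PP Q →
    Nat.card Q = n → n = 1 ∨ n = 2 ∨ n = 6 := by
  induction n using Nat.strong_induction_on with
  | _ n ih =>
  intro Q _ _ _ hPP hcard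
  have IH : ∀ M : Subgroup Q, M.Normal → M ≠ ⊥ → M.index = 1 ∨ M.index = 2 ∨ M.index = 6 := by
    intro M hM hMne
    have hlt : M.index < n := by
      have h1 := M.index_mul_card
      rw [hcard] at h1
      have h2 : 1 < Nat.card M := M.one_lt_card_iff_ne_bot.mpr hMne
      have h3 : 0 < M.index := Nat.pos_of_ne_zero M.index_ne_zero_of_finite
      nlinarith
    exact ih M.index hlt (Q ⧸ M) (PP_of_surjective (QuotientGroup.mk' M)
      (QuotientGroup.mk'_surjective M) hPP) rfl
  by_cases hDbot : commutator Q = ⊥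
  · have hcomm : ∀ a b : Q, a * b = b * a := by
      have h1 := (commutator_eq_bot_iff_center_eq_top Q).mp hDbot
      intro a b
      have h2 : b ∈ Subgroup.center Q := by rw [h1]; trivial
      exact (Subgroup.mem_center_iff.mp h2 a)
    have h1 := card_le_two_of_comm hcomm hPP
    have hpos : 0 < Nat.card Q := Nat.card_pos
    omega
  · have hDidx : (commutator Q).index = 2 := by
      have h1 := index_commutator_le_two hPP
      have h2 : (commutator Q).index ≠ 0 := Subgroup.index_ne_zero_of_finite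
      have h3 : (commutator Q).index ≠ 1 := by
        intro h
        rw [Subgroup.index_eq_one] at h
        have hnt : Nontrivial Q := by
          by_contra hnt
          rw [not_nontrivial_iff_subsingleton] at hnt
          exact hDbot (Subsingleton.elim _ _)
        exact (Group.IsSolvable.commutator_lt_top_of_nontrivial Q).ne h
      omega
    by_cases hN : ⁅commutator Q, commutator Q⁆ = ⊥
    · right; right
      rw [← hcard]
      have hnab : ¬ ∀ a b : Q, a * b = b * a := by
        intro hc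
        apply hDbot
        rw [commutator_eq_bot_iff_center_eq_top, Subgroup.eq_top_iff']
        intro b
        rw [Subgroup.mem_center_iff]
        intro a
        exact hc a b
      have hNcomm : ∀ a ∈ commutator Q, ∀ b ∈ commutator Q, a * b = b * a := by
        intro a ha b hb
        have h1 := Subgroup.commutator_eq_bot_iff_le_centralizer.mp hN
        exact Subgroup.mem_centralizer_iff.mp (h1 hb) a ha
      exact caseA hPP IH (commutator Q) hDidx hDbot hNcomm hnab
    · exact (caseB hPP IH (commutator Q) _ rfl rfl hDidx hN).elim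

/-- a non-commutative group with six elements is the symmetric group of degree three -/
theorem perm3_of_card_six {G : Type*} [Group G] [Finite G] (h6 : Nat.card G = 6)
    (hnab : ¬ ∀ a b : G, a * b = b * a) : Nonempty (G ≃* Equiv.Perm (Fin 3)) := by
  have : Fact (Nat.Prime 2) := ⟨Nat.prime_two⟩
  obtain ⟨x, hx⟩ := exists_prime_orderOf_dvd_card' (G := G) 2 (by rw [h6]; norm_num)
  set H := Subgroup.zpowers x with hH
  have hHcard : Nat.card H = 2 := by rw [Nat.card_zpowers, hx]
  have hHidx : H.index = 3 := by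
    have h1 := H.index_mul_card
    rw [hHcard, h6] at h1
    omega
  let f : G →* Equiv.Perm (G ⧸ H) := MulAction.toPermHom G (G ⧸ H)
  have hker : f.ker = ⊥ := by
    rw [← Subgroup.normalCore_eq_ker]
    by_contra hne
    have hle : H.normalCore ≤ H := Subgroup.normalCore_le H
    have hdvd : Nat.card H.normalCore ∣ 2 := hHcard ▸ Subgroup.card_dvd_of_le hle
    have h1 : 1 < Nat.card H.normalCore := H.normalCore.one_lt_card_iff_ne_bot.mpr hne
    have h2 : Nat.card H.normalCore = 2 := by
      have h3 := Nat.le_of_dvd (by norm_num) hdvd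
      omega
    have hEq : H.normalCore = H := Subgroup.eq_of_le_of_card_ge hle (by rw [h2, hHcard])
    have hHn : H.Normal := hEq ▸ Subgroup.normalCore_normal H
    have hxc : ∀ g : G, g * x = x * g := by
      intro g
      have h3 : g * x * g⁻¹ ∈ H := hHn.conj_mem x (Subgroup.mem_zpowers x) g
      have h4 : g * x * g⁻¹ = x := by
        obtain ⟨k, hk⟩ := Subgroup.mem_zpowers_iff.mp h3
        rw [← zpow_mod_orderOf, hx] at hk
        replace hk : x ^ (k % 2) = g * x * g⁻¹ := by exact_mod_cast hk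
        rcases Int.emod_two_eq_zero_or_one k with h | h
        · rw [h] at hk
          exfalso
          have h5 : x = 1 := by
            have h6 : g * x * g⁻¹ = 1 := by rw [← hk]; simp
            have h7 : x = g⁻¹ * (g * x * g⁻¹) * g := by group
            rw [h7, h6]; group
          rw [h5, orderOf_one] at hx
          omega
        · rw [h] at hk
          rw [← hk]; simp
      calc g * x = g * x * g⁻¹ * g := by group
        _ = x * g := by rw [h4]
    have : Fact (Nat.Prime 3) := ⟨Nat.prime_three⟩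
    have hcyc : IsCyclic (G ⧸ H) := isCyclic_of_prime_card (p := 3) hHidx
    apply hnab
    apply commutative_of_cyclic_center_quotient (QuotientGroup.mk' H)
    rw [QuotientGroup.ker_mk']
    intro y hy
    rw [Subgroup.mem_center_iff]
    intro g
    obtain ⟨k, rfl⟩ := Subgroup.mem_zpowers_iff.mp hy
    exact (Commute.zpow_right (hxc g) k).eq
  have hinj : Function.Injective f := (MonoidHom.ker_eq_bot_iff f).mp hker
  have hc3 : Nat.card (G ⧸ H) = 3 := hHidx
  have := Fintype.ofFinite (G ⧸ H)
  have e : (G ⧸ H) ≃ Fin 3 :=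
    Fintype.equivFinOfCardEq (by rw [← Nat.card_eq_fintype_card]; exact hc3)
  let f' : G →* Equiv.Perm (Fin 3) := (e.permCongrHom.toMonoidHom).comp f
  have hinj' : Function.Injective f' := e.permCongrHom.injective.comp hinj
  have hb : Function.Bijective f' := by
    rw [Nat.bijective_iff_injective_and_card]
    refine ⟨hinj', ?_⟩
    rw [h6, Nat.card_eq_fintype_card, Fintype.card_perm, Fintype.card_fin]
    rfl
  exact ⟨MulEquiv.ofBijective f' hb⟩

theorem result {G : Type*} [Group G] [Finite G] [Group.IsSolvable G]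
    (h : ∀ x y : G, orderOf x = orderOf y → IsConj x y) :
    Nat.card G = 1 ∨ Nat.card G = 2 ∨ Nonempty (G ≃* Equiv.Perm (Fin 3)) := by
  have hPP : PP G := fun x y _ hxy => h x y hxy
  rcases main (Nat.card G) G hPP rfl with h1 | h2 | h6
  · left; exact h1
  · right; left; exact h2
  · right; right
    apply perm3_of_card_six h6
    intro hc
    have h1 := card_le_two_of_comm hc hPP
    omega

end Cfsg.Agent.S4062
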