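-- S3761 (helper35): finite nonabelian p-group with a self-centralizing cyclic normal subgroup
import Cfsg.Statements.S3761
import Cfsg.Agent.S0519
import Cfsg.Agent.Lib.Helper54.Coprime

set_option autoImplicit false
open Cfsg

namespace Cfsg.Agent.S3761

open Cfsg.Agent.S0519

section modular

variable {G : Type*} [Group G] [Finite G]

open Subgroup in
/-- the modular situation: `a` of order `p^(k+2)` generating a normal self-centralizing subgroup, `b` of order
`p` outside acting by `a ↦ a^(1+p^(k+1))`, and `M` the centralizer of `a^p`. -/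
theorem modular_analysis {p : ℕ} [hp : Fact p.Prime] {a b : G} {k : ℕ} (hpk : p ≠ 2 ∨ 1 ≤ k)
    (hAn : (zpowers a).Normal) (hcent : centralizer (zpowers a : Set G) ≤ zpowers a)
    (hk : orderOf a = p ^ (k + 2)) (hbp : b ^ p = 1) (hbA : b ∉ zpowers a)
    (hba : b * a * b⁻¹ = a ^ (1 + p ^ (k + 1)))
    (M : Subgroup G) (hM : ∀ g : G, g ∈ M ↔ g * a ^ p = a ^ p * g) :
    (zpowers a).relIndex M = p ∧ IsElementaryAbelian p (Cfsg.omegaOne p M) ∧
      Nat.card ↥(Cfsg.omegaOne p M) = p ^ 2 ∧ (Cfsg.omegaOne p M).Characteristic := by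
  have hp0 : p ≠ 0 := hp.out.ne_zero
  have hact : ∀ y ∈ zpowers a, b * y * b⁻¹ = y * y ^ p ^ (k + 1) := by
    intro y hy
    obtain ⟨i, rfl⟩ := mem_zpowers_iff.mp hy
    rw [← conj_zpow, hba, pow_add, pow_one, (Commute.self_pow a _).mul_zpow, ← zpow_natCast,
      ← zpow_natCast, ← zpow_mul, ← zpow_mul, mul_comm]
  have hpowA : ∀ y ∈ zpowers a, y ^ p ^ (k + 2) = 1 := by
    intro y hy
    obtain ⟨i, rfl⟩ := mem_zpowers_iff.mp hy
    rw [← zpow_natCast, ← zpow_mul, mul_comm, zpow_mul, zpow_natCast, ← hk, pow_orderOf_eq_one,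
      one_zpow]
  have hζp : ∀ y ∈ zpowers a, (y ^ p ^ (k + 1)) ^ p = 1 := by
    intro y hy
    rw [← pow_mul, ← pow_succ]
    exact hpowA y hy
  have hζA : ∀ y ∈ zpowers a, y ^ p ^ (k + 1) ∈ zpowers a := fun y hy => pow_mem hy _
  -- b commutes with ζ y
  have hbζ : ∀ y ∈ zpowers a, Commute b (y ^ p ^ (k + 1)) := by
    intro y hy
    have h1 := hact _ (hζA y hy)
    have h2 : (y ^ p ^ (k + 1)) ^ p ^ (k + 1) = 1 := by
      have h := hζp y hy
      generalize y ^ p ^ (k + 1) = w at h ⊢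
      rw [pow_succ', pow_mul, h, one_pow]
    rw [h2, mul_one] at h1
    have : b * y ^ p ^ (k + 1) = y ^ p ^ (k + 1) * b := by
      calc b * y ^ p ^ (k + 1) = (b * y ^ p ^ (k + 1) * b⁻¹) * b := by group
        _ = y ^ p ^ (k + 1) * b := by rw [h1]
    exact this
  set z := a ^ p ^ (k + 1) with hz
  have hzA : z ∈ zpowers a := npow_mem_zpowers a _
  have hzord : orderOf z = p := by
    rw [hz, orderOf_pow_of_dvd (pow_ne_zero _ hp0) (by rw [hk]; exact pow_dvd_pow p (by omega)),
      hk, pow_succ p (k + 1)]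
    exact Nat.mul_div_cancel_left _ (pow_pos hp.out.pos _)
  have hzp : z ^ p = 1 := by rw [← hzord]; exact pow_orderOf_eq_one z
  have hzb : Commute b z := hbζ a (mem_zpowers a)
  have hza : Commute a z := Commute.self_pow a _
  -- elements of `⟨a⟩` killed by `p` lie in `⟨z⟩`
  have hkill : ∀ y ∈ zpowers a, y ^ p = 1 → y ∈ zpowers z := by
    intro y hy hyp
    by_cases hy1 : y = 1
    · rw [hy1]; exact one_mem _
    · exact mem_zpowers_of_orderOf_eq hy hzA ((orderOf_eq_prime hyp hy1).trans hzord.symm)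
  have hb1 : b ≠ 1 := fun h => hbA (h ▸ one_mem _)
  have hbord : orderOf b = p := orderOf_eq_prime hbp hb1
  have hAM : zpowers a ≤ M := by
    intro y hy
    obtain ⟨i, rfl⟩ := mem_zpowers_iff.mp hy
    rw [hM, ← zpow_natCast, ← zpow_add, ← zpow_add, add_comm]
  have haM : a ∈ M := hAM (mem_zpowers a)
  have hbM : b ∈ M := by
    rw [hM]
    have h1 : b * a ^ p * b⁻¹ = a ^ p := by
      rw [hact (a ^ p) (npow_mem_zpowers a p), ← pow_mul, ← pow_succ', ← hk, pow_orderOf_eq_one,
        mul_one]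
    calc b * a ^ p = (b * a ^ p * b⁻¹) * b := by group
      _ = a ^ p * b := by rw [h1]
  -- conjugation by powers of b
  have hbj : ∀ y ∈ zpowers a, ∀ j : ℕ, b ^ j * y * (b ^ j)⁻¹ = y * (y ^ p ^ (k + 1)) ^ j := by
    intro y hy j
    induction j with
    | zero => simp
    | succ j ih =>
      have hc : b * (y ^ p ^ (k + 1)) ^ j * b⁻¹ = (y ^ p ^ (k + 1)) ^ j := by
        have := ((hbζ y hy).pow_right j).eq
        calc b * (y ^ p ^ (k + 1)) ^ j * b⁻¹ = (b * (y ^ p ^ (k + 1)) ^ j) * b⁻¹ := by group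
          _ = ((y ^ p ^ (k + 1)) ^ j * b) * b⁻¹ := by rw [this]
          _ = (y ^ p ^ (k + 1)) ^ j := by group
      calc b ^ (j + 1) * y * (b ^ (j + 1))⁻¹ = b * (b ^ j * y * (b ^ j)⁻¹) * b⁻¹ := by
            rw [pow_succ']; group
        _ = b * (y * (y ^ p ^ (k + 1)) ^ j) * b⁻¹ := by rw [ih]
        _ = (b * y * b⁻¹) * (b * (y ^ p ^ (k + 1)) ^ j * b⁻¹) := by group
        _ = y * y ^ p ^ (k + 1) * (y ^ p ^ (k + 1)) ^ j := by rw [hact y hy, hc]
        _ = y * (y ^ p ^ (k + 1)) ^ (j + 1) := by rw [pow_succ' (y ^ p ^ (k + 1)) j, mul_assoc]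
  -- coset decomposition of M
  have hMdec : ∀ g ∈ M, ∃ j : ℕ, (b ^ j)⁻¹ * g ∈ zpowers a := by
    intro g hg
    have hga : g * a * g⁻¹ ∈ zpowers a := hAn.conj_mem a (mem_zpowers a) g
    have ht : a⁻¹ * (g * a * g⁻¹) ∈ zpowers a := mul_mem (inv_mem (mem_zpowers a)) hga
    have hcomm : Commute a⁻¹ (g * a * g⁻¹) := by
      obtain ⟨i, hi⟩ := mem_zpowers_iff.mp hga
      rw [← hi]
      exact ((Commute.refl a).zpow_right i).inv_left
    have htp : (a⁻¹ * (g * a * g⁻¹)) ^ p = 1 := by
      rw [hcomm.mul_pow, conj_pow]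
      have : g * a ^ p * g⁻¹ = a ^ p := by
        rw [(hM g).mp hg]; group
      rw [this, inv_pow, inv_mul_cancel]
    obtain ⟨j', hj'⟩ := mem_zpowers_iff.mp (hkill _ ht htp)
    have hmod := zpow_mod_orderOf z j'
    rw [hzord] at hmod
    have h0 : 0 ≤ j' % (p : ℤ) := Int.emod_nonneg j' (by exact_mod_cast hp0)
    obtain ⟨j, hj⟩ : ∃ j : ℕ, j' % (p : ℤ) = j := ⟨(j' % (p : ℤ)).toNat, (Int.toNat_of_nonneg h0).symm⟩
    have hzj : z ^ j = a⁻¹ * (g * a * g⁻¹) := by
      rw [← hj', ← hmod, hj, zpow_natCast]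
    refine ⟨j, ?_⟩
    apply hcent
    apply Cfsg.Agent.S0016.mem_centralizer_zpowers_of_comm
    have h1 := hbj a (mem_zpowers a) j
    rw [← hz, hzj] at h1
    have h2 : b ^ j * a * (b ^ j)⁻¹ = g * a * g⁻¹ := by rw [h1]; group
    calc (b ^ j)⁻¹ * g * a = (b ^ j)⁻¹ * (g * a * g⁻¹) * g := by group
      _ = (b ^ j)⁻¹ * (b ^ j * a * (b ^ j)⁻¹) * g := by rw [h2]
      _ = a * ((b ^ j)⁻¹ * g) := by group
  have hMeq : M = zpowers a ⊔ zpowers b := by
    apply le_antisymm
    · intro g hg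
      obtain ⟨j, hj⟩ := hMdec g hg
      have : g = b ^ j * ((b ^ j)⁻¹ * g) := by group
      rw [this]
      exact mul_mem ((le_sup_right : zpowers b ≤ zpowers a ⊔ zpowers b) (npow_mem_zpowers b j))
        ((le_sup_left : zpowers a ≤ zpowers a ⊔ zpowers b) hj)
    · exact sup_le hAM (zpowers_le.mpr hbM)
  -- the iteration trick
  have hiter : ∀ (t : G) (N : ℕ), t = t ^ N → ∀ i : ℕ, t = t ^ N ^ i := by
    intro t N h i
    induction i with
    | zero => simp
    | succ i ih => rw [pow_succ, pow_mul, ← ih, ← h]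
  -- elements of order dividing p in M
  have hΩ : ∀ x ∈ M, x ^ p = 1 → x ∈ closure ({z, b} : Set G) := by
    intro x hx hxp
    have hzW : z ∈ closure ({z, b} : Set G) := subset_closure (Set.mem_insert _ _)
    have hbW : b ∈ closure ({z, b} : Set G) := subset_closure (Set.mem_insert_of_mem _ rfl)
    obtain ⟨j, hj⟩ := hMdec x hx
    set y := (b ^ j)⁻¹ * x with hy
    have hxe : x = b ^ j * y := by rw [hy]; group
    set ζ := y ^ p ^ (k + 1) with hζ
    have hcj := hbj y hj j
    have hζy : Commute ζ y := (Commute.refl y).pow_left _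
    have hζb : Commute ζ (b ^ j) := ((hbζ y hj).symm).pow_right j
    have hw : y * b ^ j = (ζ ^ j)⁻¹ * b ^ j * y := by
      have h2 : b ^ j * y = y * ζ ^ j * b ^ j := by
        calc b ^ j * y = (b ^ j * y * (b ^ j)⁻¹) * b ^ j := by group
          _ = y * ζ ^ j * b ^ j := by rw [hcj]
      have h3 : (ζ ^ j)⁻¹ * b ^ j * y = (ζ ^ j)⁻¹ * (b ^ j * y) := by group
      rw [h3, h2, ((hζy.pow_left j).eq).symm]
      group
    have hwx : Commute (ζ ^ j)⁻¹ (b ^ j) := (hζb.pow_left j).inv_left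
    have hwy : Commute (ζ ^ j)⁻¹ y := (hζy.pow_left j).inv_left
    have hformula := Cfsg.Agent.Lib.Helper24.mul_pow_of_central_comm (b ^ j) y _ hw hwx hwy p
    rw [← hxe, hxp, ← pow_mul, mul_comm j p, pow_mul, hbp, one_pow, one_mul] at hformula
    -- y^p = (ζ^j)^(choose p 2)
    have hyp : y ^ p = (ζ ^ j) ^ (p.choose 2) := by
      have : y ^ p * ((ζ ^ j)⁻¹) ^ (p.choose 2) = 1 := hformula.symm
      rw [inv_pow] at this
      exact mul_inv_eq_one.mp this
    -- p ∣ p^k * choose p 2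
    have hdvd : p ∣ p ^ k * p.choose 2 := by
      rcases hpk with h | h
      · have h3 : 2 < p := by
          have := hp.out.two_le
          omega
        exact Dvd.dvd.mul_left (hp.out.dvd_choose_self (by norm_num) h3) _
      · exact Dvd.dvd.mul_right (dvd_pow_self p (by omega)) _
    obtain ⟨m, hm⟩ := hdvd
    have hyp1 : y ^ p = 1 := by
      have h1 : y ^ p = (y ^ p) ^ (p * (m * j)) := by
        conv_lhs => rw [hyp, hζ]
        rw [← pow_mul, ← pow_mul, ← pow_mul]
        congr 1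
        calc p ^ (k + 1) * (j * p.choose 2) = p * (p ^ k * p.choose 2) * j := by ring
          _ = p * (p * (m * j)) := by rw [hm]; ring
      have h2 := hiter (y ^ p) _ h1 (k + 1)
      rw [h2, mul_pow, pow_mul, ← pow_mul y, ← pow_succ', hpowA y hj, one_pow]
    have hyz : y ∈ zpowers z := hkill y hj hyp1
    rw [hxe]
    exact mul_mem (pow_mem hbW j) ((zpowers_le.mpr hzW) hyz)
  have hzW : z ∈ closure ({z, b} : Set G) := subset_closure (Set.mem_insert _ _)
  have hbW : b ∈ closure ({z, b} : Set G) := subset_closure (Set.mem_insert_of_mem _ rfl)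
  have hΩeq : Cfsg.omegaOne p M = closure ({z, b} : Set G) := by
    apply le_antisymm
    · rw [Cfsg.omegaOne, closure_le]
      rintro x ⟨hx, hxp⟩
      exact hΩ x hx hxp
    · rw [closure_le]
      rintro x (rfl | rfl)
      · exact subset_closure ⟨hAM hzA, hzp⟩
      · exact subset_closure ⟨hbM, hbp⟩
  have hWcomm : IsMulCommutative (closure ({z, b} : Set G)) := by
    apply Subgroup.isMulCommutative_closure
    intro x hx y hy
    rcases hx with rfl | rfl <;> rcases hy with rfl | rfl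
    · rfl
    · exact hzb.eq.symm
    · exact hzb.eq
    · rfl
  have hWexp : ∀ x ∈ closure ({z, b} : Set G), x ^ p = 1 := by
    intro x hx
    induction hx using Subgroup.closure_induction with
    | mem w hw =>
      rcases hw with rfl | rfl
      · exact hzp
      · exact hbp
    | one => simp
    | mul x y hx hy ihx ihy =>
      have hc : Commute x y := by
        have := hWcomm.is_comm.comm ⟨x, hx⟩ ⟨y, hy⟩
        exact congrArg Subtype.val this
      rw [hc.mul_pow, ihx, ihy, one_mul]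
    | inv x _ ihx => rw [inv_pow, ihx, inv_one]
  have hEA : IsElementaryAbelian p (closure ({z, b} : Set G)) := ⟨hWcomm, hWexp⟩
  have hdisj_b : ∀ x ∈ zpowers a, x ∈ zpowers b → x = 1 := by
    intro x hxa hxb
    by_contra hx1
    have hxp : x ^ p = 1 := by
      obtain ⟨i, rfl⟩ := mem_zpowers_iff.mp hxb
      rw [← zpow_natCast, ← zpow_mul, mul_comm, zpow_mul, zpow_natCast, hbp, one_zpow]
    have hxord : orderOf x = p := orderOf_eq_prime hxp hx1
    have := mem_zpowers_of_orderOf_eq (mem_zpowers b) hxb (hbord.trans hxord.symm)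
    exact hbA ((zpowers_le.mpr hxa) this)
  have hWcard : Nat.card ↥(closure ({z, b} : Set G)) = p ^ 2 := by
    have hWsup : closure ({z, b} : Set G) = zpowers z ⊔ zpowers b := by
      rw [Set.insert_eq, Subgroup.closure_union, zpowers_eq_closure, zpowers_eq_closure]
    rw [hWsup, Cfsg.Agent.Lib.Helper54.card_sup_of_le_normalizer, Nat.card_zpowers, Nat.card_zpowers,
      hzord, hbord, pow_two]
    · rw [zpowers_le, mem_normalizer_iff]
      intro h
      constructor
      · intro hh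
        obtain ⟨i, rfl⟩ := mem_zpowers_iff.mp hh
        have : b * z ^ i * b⁻¹ = z ^ i := by
          have := (hzb.zpow_right i).eq
          calc b * z ^ i * b⁻¹ = (b * z ^ i) * b⁻¹ := by group
            _ = (z ^ i * b) * b⁻¹ := by rw [this]
            _ = z ^ i := by group
        rw [this]; exact zpow_mem (mem_zpowers z) i
      · intro hh
        obtain ⟨i, hi⟩ := mem_zpowers_iff.mp hh
        have : h = z ^ i := by
          have h1 : h = b⁻¹ * (b * h * b⁻¹) * b := by group
          have h2 := (hzb.zpow_right i).eq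
          rw [h1, ← hi]
          calc b⁻¹ * z ^ i * b = b⁻¹ * (z ^ i * b) := by group
            _ = b⁻¹ * (b * z ^ i) := by rw [h2]
            _ = z ^ i := by group
        rw [this]; exact zpow_mem (mem_zpowers z) i
    · rw [eq_bot_iff]
      intro x hx
      rw [mem_inf] at hx
      rw [mem_bot]
      exact hdisj_b x ((zpowers_le.mpr hzA) hx.1) hx.2
  have hrel : (zpowers a).relIndex M = p := by
    rw [hMeq, relIndex_sup_left, ← inf_relIndex_right]
    have : zpowers a ⊓ zpowers b = ⊥ := by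
      rw [eq_bot_iff]
      intro x hx
      rw [mem_inf] at hx
      rw [mem_bot]
      exact hdisj_b x hx.1 hx.2
    rw [this, relIndex_bot_left, Nat.card_zpowers, hbord]
  -- uniqueness of the normal elementary abelian subgroup
  have huniq : ∀ N : Subgroup G, N.Normal → IsElementaryAbelian p N →
      N ≤ closure ({z, b} : Set G) := by
    intro N hN hNEA y hy
    apply hΩ y _ (hNEA.2 y hy)
    rw [hM]
    have hya : y * a * y⁻¹ ∈ zpowers a := hAn.conj_mem a (mem_zpowers a) y
    have htN : y * a * y⁻¹ * a⁻¹ ∈ N := by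
      have h1 : a * y⁻¹ * a⁻¹ ∈ N := hN.conj_mem y⁻¹ (inv_mem hy) a
      have : y * a * y⁻¹ * a⁻¹ = y * (a * y⁻¹ * a⁻¹) := by group
      rw [this]; exact mul_mem hy h1
    have htp : (y * a * y⁻¹ * a⁻¹) ^ p = 1 := hNEA.2 _ htN
    have hcomm : Commute (y * a * y⁻¹) a⁻¹ := by
      obtain ⟨i, hi⟩ := mem_zpowers_iff.mp hya
      rw [← hi]
      exact ((Commute.refl a).zpow_left i).inv_right
    rw [hcomm.mul_pow, conj_pow, inv_pow] at htp
    have h2 : y * a ^ p * y⁻¹ = a ^ p := mul_inv_eq_one.mp htp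
    calc y * a ^ p = (y * a ^ p * y⁻¹) * y := by group
      _ = a ^ p * y := by rw [h2]
  have hWn : (closure ({z, b} : Set G)).Normal := by
    have hMn : M.Normal := by
      constructor
      intro g hg x
      rw [hM] at hg ⊢
      have hxa : x⁻¹ * a * x⁻¹⁻¹ ∈ zpowers a := hAn.conj_mem a (mem_zpowers a) x⁻¹
      obtain ⟨i, hi⟩ := mem_zpowers_iff.mp hxa
      have hc : x⁻¹ * a ^ p * x = (a ^ p) ^ i := by
        have : x⁻¹ * a ^ p * x = (x⁻¹ * a * x⁻¹⁻¹) ^ p := by rw [conj_pow]; group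
        rw [this, ← hi, ← zpow_natCast, ← zpow_natCast, ← zpow_mul, ← zpow_mul, mul_comm]
      have hgc : g * (x⁻¹ * a ^ p * x) = (x⁻¹ * a ^ p * x) * g := by
        rw [hc]
        exact ((show Commute g (a ^ p) from hg).zpow_right i).eq
      calc x * g * x⁻¹ * a ^ p = x * (g * (x⁻¹ * a ^ p * x)) * x⁻¹ := by group
        _ = x * ((x⁻¹ * a ^ p * x) * g) * x⁻¹ := by rw [hgc]
        _ = a ^ p * (x * g * x⁻¹) := by group
    apply closure_normal_of_conj_mem
    intro g w hw
    rcases hw with hw | hw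
    · rw [hw]
      have h1 : g * z * g⁻¹ ∈ zpowers a := hAn.conj_mem z hzA g
      have h2 : orderOf (g * z * g⁻¹) = orderOf z := by
        have := (MulAut.conj g).orderOf_eq z
        rwa [MulAut.conj_apply] at this
      exact (zpowers_le.mpr hzW) (mem_zpowers_of_orderOf_eq h1 hzA h2)
    · rw [Set.mem_singleton_iff.mp hw]
      apply hΩ _ (hMn.conj_mem b hbM g)
      rw [conj_pow, hbp]; group
  rw [hΩeq]
  refine ⟨hrel, hEA, hWcard, ?_⟩
  rw [characteristic_iff_map_le]
  intro φ
  apply huniq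
  · exact hWn.map φ.toMonoidHom φ.surjective
  · refine ⟨?_, ?_⟩
    · exact Subgroup.map_isMulCommutative _ _
    · rintro _ ⟨x, hx, rfl⟩
      show (φ x) ^ p = 1
      rw [← map_pow, hWexp x hx, map_one]

end modular

section two

variable {P : Type*} [Group P] [Finite P]

open Subgroup in
/-- `p = 2`: if the centralizer of the element of order four of `⟨a⟩` lies in `⟨a⟩`, then `⟨a⟩` has index two
and the group is dihedral, generalized quaternion or semidihedral -/
theorem max_class_of_centralizer_le {a : P} {k : ℕ}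
    (hAn : (zpowers a).Normal) (hcent : centralizer (zpowers a : Set P) ≤ zpowers a)
    (hne : zpowers a ≠ ⊤) (hk4 : orderOf a = 4 * 2 ^ k)
    (hP₁ : ∀ x : P, x * a ^ 2 ^ k = a ^ 2 ^ k * x → x ∈ zpowers a) :
    Nat.card P = 2 * (4 * 2 ^ k) ∧ ((∃ m : ℕ, Nonempty (P ≃* DihedralGroup m)) ∨
      (∃ m : ℕ, Nonempty (P ≃* QuaternionGroup m)) ∨ Cfsg.IsQuasiDihedral P) := by
  have : Fact (Nat.Prime 2) := ⟨Nat.prime_two⟩
  have hk : orderOf a = 2 ^ (k + 2) := by rw [hk4]; ring
  have hapow : a ^ (4 * 2 ^ k) = 1 := by rw [← hk4]; exact pow_orderOf_eq_one a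
  -- the element u of order 4
  set u := a ^ 2 ^ k with hu
  have huA : u ∈ zpowers a := npow_mem_zpowers a _
  have huord : orderOf u = 4 := by
    rw [hu, orderOf_pow_of_dvd (by positivity) (by rw [hk4]; exact ⟨4, by ring⟩), hk4]
    exact Nat.mul_div_cancel _ (by positivity)
  have hu4 : u ^ 4 = 1 := by rw [← huord]; exact pow_orderOf_eq_one u
  have hu2 : u * u ≠ 1 := by
    intro h
    have : orderOf u ∣ 2 := orderOf_dvd_of_pow_eq_one (by rw [pow_two]; exact h)
    rw [huord] at this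
    omega
  have huinv : u⁻¹ ≠ u := by
    intro h
    apply hu2
    calc u * u = u⁻¹ * u := by rw [h]
      _ = 1 := inv_mul_cancel u
  -- conjugates of u
  have hconju : ∀ g : P, g * u * g⁻¹ ∈ zpowers u := by
    intro g
    have h1 : g * u * g⁻¹ ∈ zpowers a := hAn.conj_mem u huA g
    have h2 : orderOf (g * u * g⁻¹) = orderOf u := by
      have := (MulAut.conj g).orderOf_eq u
      rwa [MulAut.conj_apply] at this
    exact mem_zpowers_of_orderOf_eq h1 huA h2
  -- elements outside A invert u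
  have hinvu : ∀ g : P, g ∉ zpowers a → g * u * g⁻¹ = u⁻¹ := by
    intro g hg
    obtain ⟨j, hj⟩ := mem_zpowers_iff.mp (hconju g)
    have hmod := zpow_mod_orderOf u j
    rw [huord] at hmod
    have h0 : 0 ≤ j % 4 := Int.emod_nonneg j (by norm_num)
    have h4 : j % 4 < 4 := Int.emod_lt_of_pos j (by norm_num)
    have hord : orderOf (g * u * g⁻¹) = 4 := by
      have := (MulAut.conj g).orderOf_eq u
      rw [MulAut.conj_apply] at this
      rw [this, huord]
    obtain ⟨m, hm⟩ : ∃ m : ℕ, j % 4 = m := ⟨(j % 4).toNat, (Int.toNat_of_nonneg h0).symm⟩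
    have hgu : g * u * g⁻¹ = u ^ m := by
      have hmod' : u ^ (m : ℤ) = u ^ j := by
        rw [← hm]; simpa using hmod
      rw [← hj, ← hmod']; exact zpow_natCast u m
    have hm4 : m < 4 := by omega
    interval_cases m
    · exfalso
      rw [pow_zero] at hgu
      rw [hgu, orderOf_one] at hord
      omega
    · exfalso
      apply hg
      apply hP₁
      rw [pow_one] at hgu
      calc g * u = (g * u * g⁻¹) * g := by group
        _ = u * g := by rw [hgu]
    · exfalso
      have : (g * u * g⁻¹) ^ 2 = 1 := by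
        rw [hgu, ← pow_mul]; exact hu4
      have := orderOf_dvd_of_pow_eq_one this
      rw [hord] at this
      omega
    · rw [hgu]
      apply eq_inv_of_mul_eq_one_left
      rw [← pow_succ]; exact hu4
  have hcoset : ∀ g h : P, g ∉ zpowers a → h ∉ zpowers a → g⁻¹ * h ∈ zpowers a := by
    intro g h hg hh
    apply hP₁
    have h1 := hinvu h hh
    have hg' : g⁻¹ ∉ zpowers a := fun hmem => hg (by simpa using inv_mem hmem)
    have h2 := hinvu g⁻¹ hg'
    have e1 : h * u = u⁻¹ * h := by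
      calc h * u = (h * u * h⁻¹) * h := by group
        _ = u⁻¹ * h := by rw [h1]
    have e2 : g⁻¹ * u⁻¹ = u * g⁻¹ := by
      have h3 : g⁻¹ * u⁻¹ * g⁻¹⁻¹ = u := by
        have : g⁻¹ * u⁻¹ * g⁻¹⁻¹ = (g⁻¹ * u * g⁻¹⁻¹)⁻¹ := by group
        rw [this, h2, inv_inv]
      calc g⁻¹ * u⁻¹ = (g⁻¹ * u⁻¹ * g⁻¹⁻¹) * g⁻¹ := by group
        _ = u * g⁻¹ := by rw [h3]
    calc g⁻¹ * h * u = g⁻¹ * (h * u) := by group
      _ = g⁻¹ * (u⁻¹ * h) := by rw [e1]
      _ = (g⁻¹ * u⁻¹) * h := by group
      _ = u * g⁻¹ * h := by rw [e2]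
      _ = u * (g⁻¹ * h) := by group
  obtain ⟨x, hxA⟩ : ∃ x : P, x ∉ zpowers a := by
    by_contra h
    push Not at h
    exact hne (eq_top_iff.mpr fun y _ => h y)
  have hxinv : x⁻¹ ∉ zpowers a := fun hmem => hxA (by simpa using inv_mem hmem)
  have hxx : x * x ∈ zpowers a := by
    have := hcoset x⁻¹ x hxinv hxA
    simpa using this
  have hnorm : x * a * x⁻¹ ∈ zpowers a := hAn.conj_mem a (mem_zpowers a) x
  have hnc : x * a * x⁻¹ ≠ a := by
    intro h
    apply hxA
    apply hcent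
    apply Cfsg.Agent.S0016.mem_centralizer_zpowers_of_comm
    calc x * a = (x * a * x⁻¹) * x := by group
      _ = a * x := by rw [h]
  obtain ⟨b, hbA, -, hcases⟩ :=
    Cfsg.Agent.Lib.Helper73.cyclic_index_two_core k a x hk4 hnorm hxx hxA hnc
  have hbinvA : b⁻¹ ∉ zpowers a := fun hmem => hbA (by simpa using inv_mem hmem)
  have hall : ∀ y : P, y ∈ zpowers a ∨ b⁻¹ * y ∈ zpowers a := by
    intro y
    by_cases hy : y ∈ zpowers a
    · exact Or.inl hy
    · exact Or.inr (hcoset b y hbA hy)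
  have hidx : (zpowers a).index = 2 := by
    rw [index_eq_two_iff']
    refine ⟨b⁻¹, fun y => ?_⟩
    by_cases hy : y ∈ zpowers a
    · right
      refine ⟨hy, fun h => hbinvA ?_⟩
      have := mul_mem h (inv_mem hy)
      simpa using this
    · left
      exact ⟨hcoset b y hbA hy, hy⟩
  have hcard : Nat.card P = 2 * (4 * 2 ^ k) := by
    rw [← (zpowers a).card_mul_index, hidx, Nat.card_zpowers, hk4]; ring
  have hgen : zpowers a ⊔ zpowers b = ⊤ := by
    rw [eq_top_iff]
    intro y _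
    rcases hall y with h | h
    · exact (le_sup_left : zpowers a ≤ _) h
    · have : y = b * (b⁻¹ * y) := by group
      rw [this]
      exact mul_mem ((le_sup_right : zpowers b ≤ zpowers a ⊔ zpowers b) (mem_zpowers b))
        ((le_sup_left : zpowers a ≤ zpowers a ⊔ zpowers b) h)
  have hb1 : b ≠ 1 := fun h => hbA (h ▸ one_mem _)
  refine ⟨hcard, ?_⟩
  rcases hcases with ⟨hb2, h⟩ | ⟨hb2, h⟩ | ⟨hk1, hb2, h⟩ | ⟨hk1, hb2, h⟩
  · -- dihedral
    left
    obtain ⟨e⟩ := Cfsg.Agent.Lib.Helper73.dihedral_equiv a b (4 * 2 ^ k) (by positivity)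
      hapow hb2 h hgen hcard
    exact ⟨4 * 2 ^ k, ⟨e.symm⟩⟩
  · -- quaternion
    right; left
    refine ⟨2 ^ (k + 1), ?_⟩
    exact Cfsg.Agent.Lib.Helper35.nonempty_mulEquiv_quaternionGroup (2 ^ (k + 1)) a b
      (by rw [hk4]; ring) (by rw [← pow_two, hb2, pow_succ']) h hbA hall
  · -- modular: b centralizes u
    exfalso
    apply hbA
    apply hP₁
    have h1 : b * u * b⁻¹ = u := by
      rw [hu, ← conj_pow, h, ← pow_mul]
      obtain ⟨j, rfl⟩ : ∃ j, k = j + 1 := ⟨k - 1, by omega⟩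
      have : (1 + 2 * 2 ^ (j + 1)) * 2 ^ (j + 1) = 2 ^ (j + 1) + 4 * 2 ^ (j + 1) * 2 ^ j := by ring
      rw [this, pow_add, pow_mul, hapow, one_pow, mul_one]
    calc b * u = (b * u * b⁻¹) * b := by group
      _ = u * b := by rw [h1]
  · -- semidihedral
    right; right
    refine ⟨k + 2, by omega, ?_, a, b, hk, orderOf_eq_prime (p := 2) hb2 hb1, ?_⟩
    · rw [hcard]; ring
    · have : k + 2 - 1 = k + 1 := by omega
      rw [this, h, pow_succ']

open Subgroup in
/-- `p = 2`: if some element outside `⟨a⟩` centralizes the element of order four of `⟨a⟩`, there is an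
involution outside `⟨a⟩` acting on `⟨a⟩` in the modular way -/
theorem exists_modular_two (hP : IsPGroup 2 P) {a : P} {k : ℕ}
    (hAn : (zpowers a).Normal) (hcent : centralizer (zpowers a : Set P) ≤ zpowers a)
    (hk4 : orderOf a = 4 * 2 ^ k)
    (hx₁ : ∃ x₁ : P, x₁ * a ^ 2 ^ k = a ^ 2 ^ k * x₁ ∧ x₁ ∉ zpowers a) :
    ∃ b : P, 1 ≤ k ∧ b ^ 2 = 1 ∧ b ∉ zpowers a ∧ b * a * b⁻¹ = a ^ (1 + 2 * 2 ^ k) := by
  have : Fact (Nat.Prime 2) := ⟨Nat.prime_two⟩
  have hapow : a ^ (4 * 2 ^ k) = 1 := by rw [← hk4]; exact pow_orderOf_eq_one a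
  -- the element u of order 4
  set u := a ^ 2 ^ k with hu
  have huA : u ∈ zpowers a := npow_mem_zpowers a _
  have huord : orderOf u = 4 := by
    rw [hu, orderOf_pow_of_dvd (by positivity) (by rw [hk4]; exact ⟨4, by ring⟩), hk4]
    exact Nat.mul_div_cancel _ (by positivity)
  have hu4 : u ^ 4 = 1 := by rw [← huord]; exact pow_orderOf_eq_one u
  have hu2 : u * u ≠ 1 := by
    intro h
    have : orderOf u ∣ 2 := orderOf_dvd_of_pow_eq_one (by rw [pow_two]; exact h)
    rw [huord] at this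
    omega
  have huinv : u⁻¹ ≠ u := by
    intro h
    apply hu2
    calc u * u = u⁻¹ * u := by rw [h]
      _ = 1 := inv_mul_cancel u
  -- conjugates of u
  have hconju : ∀ g : P, g * u * g⁻¹ ∈ zpowers u := by
    intro g
    have h1 : g * u * g⁻¹ ∈ zpowers a := hAn.conj_mem u huA g
    have h2 : orderOf (g * u * g⁻¹) = orderOf u := by
      have := (MulAut.conj g).orderOf_eq u
      rwa [MulAut.conj_apply] at this
    exact mem_zpowers_of_orderOf_eq h1 huA h2
  obtain ⟨x₁, hx₁u, hx₁A⟩ := hx₁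
  have hUn : (zpowers u).Normal := by
    constructor
    intro n hn g
    obtain ⟨i, rfl⟩ := mem_zpowers_iff.mp hn
    rw [← conj_zpow]
    exact zpow_mem (hconju g) i
  have hP₁n : (centralizer (zpowers u : Set P)).Normal := Subgroup.normal_centralizer
  have hTA : ¬ centralizer (zpowers u : Set P) ≤ zpowers a := by
    intro h
    exact hx₁A (h (Cfsg.Agent.S0016.mem_centralizer_zpowers_of_comm hx₁u))
  obtain ⟨x, hxT, hxA, hxp, hxc⟩ :=
    exists_central_mod hP (zpowers a) (centralizer (zpowers u : Set P)) hTA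
  have hxu : x * u = u * x := ((mem_centralizer_iff.mp hxT) u (mem_zpowers u)).symm
  have hxx : x * x ∈ zpowers a := by rw [← pow_two]; exact hxp
  have hnorm : x * a * x⁻¹ ∈ zpowers a := hAn.conj_mem a (mem_zpowers a) x
  have hnc : x * a * x⁻¹ ≠ a := by
    intro h
    apply hxA
    apply hcent
    apply Cfsg.Agent.S0016.mem_centralizer_zpowers_of_comm
    calc x * a = (x * a * x⁻¹) * x := by group
      _ = a * x := by rw [h]
  obtain ⟨b, hbA, hxb, hcases⟩ :=
    Cfsg.Agent.Lib.Helper73.cyclic_index_two_core k a x hk4 hnorm hxx hxA hnc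
  -- b commutes with u
  obtain ⟨i, hi⟩ := mem_zpowers_iff.mp hxb
  have hbe : b = x * a ^ i := by rw [hi]; group
  have hau : a ^ i * u = u * a ^ i := by
    rw [hu, ← zpow_natCast, ← zpow_add, ← zpow_add, add_comm]
  have hbu : b * u * b⁻¹ = u := by
    rw [hbe]
    calc x * a ^ i * u * (x * a ^ i)⁻¹ = x * (a ^ i * u) * (a ^ i)⁻¹ * x⁻¹ := by group
      _ = x * (u * a ^ i) * (a ^ i)⁻¹ * x⁻¹ := by rw [hau]
      _ = (x * u) * x⁻¹ := by group
      _ = u * x * x⁻¹ := by rw [hxu]
      _ = u := by group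
  have hconj_pow : ∀ e : ℕ, b * a * b⁻¹ = a ^ e → u = u ^ e := by
    intro e he
    have h1 : b * u * b⁻¹ = u ^ e := by
      rw [hu, ← conj_pow, he, ← pow_mul, ← pow_mul, mul_comm]
    rw [← h1, hbu]
  have hinvcase : b * a * b⁻¹ = a⁻¹ → False := by
    intro he
    have h1 : b * u * b⁻¹ = u⁻¹ := by
      rw [hu, ← conj_pow, he, inv_pow]
    rw [hbu] at h1
    exact huinv h1.symm
  rcases hcases with ⟨-, h⟩ | ⟨-, h⟩ | ⟨hk1, hb2, h⟩ | ⟨hk1, -, h⟩
  · exact (hinvcase h).elim
  · exact (hinvcase h).elim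
  · exact ⟨b, hk1, hb2, hbA, h⟩
  · exfalso
    have h1 := hconj_pow _ h
    -- u ^ (2 * 2^k - 1) = u⁻¹
    have h2 : u ^ (2 * 2 ^ k - 1) * u = 1 := by
      rw [← pow_succ]
      have e : 2 * 2 ^ k - 1 + 1 = 2 * 2 ^ k := by
        have : 0 < 2 * 2 ^ k := by positivity
        omega
      rw [e, hu, ← pow_mul]
      obtain ⟨j, rfl⟩ : ∃ j, k = j + 1 := ⟨k - 1, by omega⟩
      have : 2 ^ (j + 1) * (2 * 2 ^ (j + 1)) = 4 * 2 ^ (j + 1) * 2 ^ j := by ring
      rw [this, pow_mul, hapow, one_pow]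
    rw [← h1] at h2
    exact hu2 h2

end two

/-- Let G be a finite non-abelian p-group with a cyclic normal subgroup U of order p^n such that C_G(U) = U. Then either p = 2 and G is dihedral, generalized quaternion or semidihedral of order 2^(n+1); or, writing U₁ for the subgroup generated by the p-th powers of elements of U and M = C_G(U₁), the subgroup U has index p in M and the subgroup Ω₁(M) generated by the elements of M of order dividing p is elementary abelian of order p² and characteristic in G. -/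
theorem result {G : Type*} [Group G] [Finite G] {p : ℕ} [Fact p.Prime] (hG : IsPGroup p G) (hna : ¬ IsMulCommutative G) (U : Subgroup G) [U.Normal] (hU : IsCyclic U) (n : ℕ) (hUn : Nat.card U = p ^ n) (hC : Subgroup.centralizer (U : Set G) = U) : (p = 2 ∧ Nat.card G = 2 ^ (n + 1) ∧ ((∃ m : ℕ, Nonempty (G ≃* DihedralGroup m)) ∨ (∃ m : ℕ, Nonempty (G ≃* QuaternionGroup m)) ∨ Cfsg.IsQuasiDihedral G)) ∨ (U.relIndex (Subgroup.centralizer (Cfsg.powerClosure p 1 U : Set G)) = p ∧ Cfsg.IsElementaryAbelian p (Cfsg.omegaOne p (Subgroup.centralizer (Cfsg.powerClosure p 1 U : Set G))) ∧ Nat.card ↥(Cfsg.omegaOne p (Subgroup.centralizer (Cfsg.powerClosure p 1 U : Set G))) = p ^ 2 ∧ (Cfsg.omegaOne p (Subgroup.centralizer (Cfsg.powerClosure p 1 U : Set G))).Characteristic) := by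
  obtain ⟨⟨a, haU⟩, hgen⟩ := hU.exists_generator
  have hUeq : U = Subgroup.zpowers a := by
    apply le_antisymm
    · intro x hx
      have := hgen ⟨x, hx⟩
      obtain ⟨i, hi⟩ := Subgroup.mem_zpowers_iff.mp this
      rw [Subgroup.mem_zpowers_iff]
      exact ⟨i, by simpa using congrArg Subtype.val hi⟩
    · exact Subgroup.zpowers_le.mpr haU
  subst hUeq
  have hAn : (Subgroup.zpowers a).Normal := inferInstance
  have hcent : Subgroup.centralizer (Subgroup.zpowers a : Set G) ≤ Subgroup.zpowers a := hC.le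
  have hne : Subgroup.zpowers a ≠ ⊤ := by
    intro htop
    apply hna
    have hcyc : IsCyclic G := isCyclic_iff_exists_zpowers_eq_top.mpr ⟨a, htop⟩
    let _ := IsCyclic.commGroup (α := G)
    exact ⟨⟨fun x y => mul_comm x y⟩⟩
  obtain ⟨k, hk⟩ := Cfsg.Agent.S0016.exists_orderOf_eq hG hAn hcent hne
  have hnk : n = k + 2 := by
    rw [Nat.card_zpowers, hk] at hUn
    exact (Nat.pow_right_injective (Fact.out : p.Prime).two_le hUn).symm
  -- the centralizer of the p-th powers
  have hM : ∀ g : G, g ∈ Subgroup.centralizer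
      (Cfsg.powerClosure p 1 (Subgroup.zpowers a) : Set G) ↔ g * a ^ p = a ^ p * g := by
    intro g
    constructor
    · intro hg
      have hmem : a ^ p ∈ Cfsg.powerClosure p 1 (Subgroup.zpowers a) :=
        Subgroup.subset_closure ⟨a, Subgroup.mem_zpowers a, by rw [pow_one]⟩
      exact ((Subgroup.mem_centralizer_iff.mp hg) _ hmem).symm
    · intro hg
      have hle : Cfsg.powerClosure p 1 (Subgroup.zpowers a) ≤ Subgroup.zpowers (a ^ p) := by
        rw [Cfsg.powerClosure, Subgroup.closure_le]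
        rintro y ⟨x, hx, rfl⟩
        obtain ⟨i, rfl⟩ := Subgroup.mem_zpowers_iff.mp hx
        rw [pow_one, SetLike.mem_coe, Subgroup.mem_zpowers_iff]
        exact ⟨i, by rw [← zpow_natCast, ← zpow_natCast, ← zpow_mul, ← zpow_mul, mul_comm]⟩
      rw [Subgroup.mem_centralizer_iff]
      intro h hh
      obtain ⟨i, rfl⟩ := Subgroup.mem_zpowers_iff.mp (hle hh)
      exact ((show Commute g (a ^ p) from hg).zpow_right i).eq.symm
  by_cases hp2 : p = 2
  · subst hp2
    have hk4 : orderOf a = 4 * 2 ^ k := by rw [hk]; ring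
    by_cases hcu : ∀ x : G, x * a ^ 2 ^ k = a ^ 2 ^ k * x → x ∈ Subgroup.zpowers a
    · left
      obtain ⟨hcard, hstr⟩ := max_class_of_centralizer_le hAn hcent hne hk4 hcu
      refine ⟨rfl, ?_, hstr⟩
      rw [hcard, hnk]; ring
    · right
      push Not at hcu
      obtain ⟨b, hk1, hb2, hbA, hba⟩ := exists_modular_two hG hAn hcent hk4 hcu
      exact modular_analysis (Or.inr hk1) hAn hcent hk hb2 hbA
        (by rw [hba, pow_succ' 2 k]) _ hM
  · right
    obtain ⟨x₀, hx₀⟩ : ∃ x : G, x ∉ Subgroup.zpowers a := by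
      by_contra h
      push Not at h
      exact hne (eq_top_iff.mpr fun y _ => h y)
    obtain ⟨x, hx, hxp⟩ := Cfsg.Agent.S0016.exists_pow_p_mem hG _ hx₀
    have hnorm : x * a * x⁻¹ ∈ Subgroup.zpowers a := hAn.conj_mem a (Subgroup.mem_zpowers a) x
    have hnc : x * a * x⁻¹ ≠ a := by
      intro h
      apply hx
      apply hcent
      apply Cfsg.Agent.S0016.mem_centralizer_zpowers_of_comm
      calc x * a = (x * a * x⁻¹) * x := by group
        _ = a * x := by rw [h]
    obtain ⟨b, hbord, hbA, hba⟩ :=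
      Cfsg.Agent.Lib.Helper73.cyclic_index_p_core p hp2 k a x hk hnorm hxp hx hnc
    have hbp : b ^ p = 1 := by rw [← hbord]; exact pow_orderOf_eq_one b
    exact modular_analysis (Or.inl hp2) hAn hcent hk hbp hbA hba _ hM

end Cfsg.Agent.S3761
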