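import Cfsg.Statements.S3762
import Cfsg.Agent.S0093
import Cfsg.Agent.S0012
import Cfsg.Agent.Lib.Helper73.SympMain

set_option autoImplicit false
open Cfsg
open scoped commutatorElement

namespace Cfsg.Agent.S3762

/-- Let G be a finite p-group of symplectic type: every characteristic abelian subgroup of G is cyclic. Then G = E ∗ R is a central product of subgroups E and R (they commute elementwise and generate G) where E is extraspecial or trivial, and R is cyclic, or p = 2 and R is dihedral, semidihedral or generalized quaternion of order at least 16. -/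
theorem result {G : Type*} [Group G] [Finite G] {p : ℕ} [Fact p.Prime] (hG : IsPGroup p G) (hsymp : ∀ A : Subgroup G, A.Characteristic → IsMulCommutative A → IsCyclic A) : ∃ E R : Subgroup G, (∀ e ∈ E, ∀ r ∈ R, e * r = r * e) ∧ E ⊔ R = ⊤ ∧ (E = ⊥ ∨ Cfsg.IsExtraspecial p ↥E) ∧ (IsCyclic R ∨ (p = 2 ∧ 16 ≤ Nat.card R ∧ ((∃ m : ℕ, Nonempty (↥R ≃* DihedralGroup m)) ∨ (∃ m : ℕ, Nonempty (↥R ≃* QuaternionGroup m)) ∨ Cfsg.IsQuasiDihedral ↥R))) := by
  classical
  by_cases hsub : Subsingleton G
  · refine ⟨⊥, ⊤, ?_, ?_, Or.inl rfl, Or.inl ?_⟩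
    · intro e he r _
      rw [Subgroup.mem_bot] at he
      subst he
      simp
    · exact bot_sup_eq ⊤
    · exact isCyclic_of_subsingleton
  · rw [not_subsingleton_iff_nontrivial] at hsub
    obtain ⟨C, hCchar, hC2, hC3, hC4⟩ := Cfsg.Agent.S0093.result hG
    have hCpow : ∀ x ∈ C, x ^ p ∈ Subgroup.centralizer (C : Set G) := by
      intro x hx
      have h1 := (Cfsg.Agent.S0012.result p (hG.to_subgroup C)).2 ⟨x, hx⟩
      have h2 : C.subtype (⟨x, hx⟩ ^ p) ∈ (frattini ↥C).map C.subtype :=
        Subgroup.mem_map_of_mem _ h1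
      have h3 := hC2 h2
      simpa using h3
    have hCcommG : ∀ x ∈ C, ∀ g : G, ⁅x, g⁆ ∈ Subgroup.centralizer (C : Set G) := by
      intro x hx g
      exact (hC3 (Subgroup.commutator_mem_commutator hx (Subgroup.mem_top g))).2
    exact Cfsg.Agent.Lib.Helper73.symp_main hG hsymp C hCpow hCcommG hC4

end Cfsg.Agent.S3762
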