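import Cfsg.Statements.S2167
import Cfsg.Agent.Lib.Helper36.AltEven

set_option autoImplicit false
open Cfsg

namespace Cfsg.Agent.S2167

open Matrix

variable {F : Type*} [Field F] {m : ℕ}

theorem sympForm_add_left (u u' v : Fin m ⊕ Fin m → F) :
    sympForm m F (u + u') v = sympForm m F u v + sympForm m F u' v := by
  unfold sympForm; rw [add_dotProduct]

theorem sympForm_add_right (u v v' : Fin m ⊕ Fin m → F) :
    sympForm m F u (v + v') = sympForm m F u v + sympForm m F u v' := by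
  unfold sympForm; rw [mulVec_add, dotProduct_add]

theorem sympForm_smul_left (c : F) (u v : Fin m ⊕ Fin m → F) :
    sympForm m F (c • u) v = c * sympForm m F u v := by
  unfold sympForm; rw [smul_dotProduct, smul_eq_mul]

theorem sympForm_smul_right (c : F) (u v : Fin m ⊕ Fin m → F) :
    sympForm m F u (c • v) = c * sympForm m F u v := by
  unfold sympForm; rw [mulVec_smul, dotProduct_smul, smul_eq_mul]

theorem sympForm_swap (u v : Fin m ⊕ Fin m → F) :
    sympForm m F v u = - sympForm m F u v := by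
  unfold sympForm
  rw [dotProduct_mulVec, ← mulVec_transpose, J_transpose, neg_mulVec, dotProduct_comm, dotProduct_neg]

theorem sympForm_self (u : Fin m ⊕ Fin m → F) : sympForm m F u u = 0 := by
  unfold sympForm
  have hu : u = Sum.elim (u ∘ Sum.inl) (u ∘ Sum.inr) := by
    ext i; cases i <;> rfl
  rw [Matrix.J, hu, fromBlocks_mulVec]
  simp only [Sum.elim_comp_inl, Sum.elim_comp_inr, zero_mulVec, zero_add, add_zero, neg_mulVec,
    one_mulVec, dotProduct, Fintype.sum_sum_type, Sum.elim_inl, Sum.elim_inr, Pi.neg_apply,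
    Function.comp_apply, mul_neg, Finset.sum_neg_distrib]
  rw [neg_add_eq_zero]
  apply Finset.sum_congr rfl
  intro i _
  ring

theorem sympForm_map (A : Matrix (Fin m ⊕ Fin m) (Fin m ⊕ Fin m) F)
    (hA : A ∈ symplecticGroup (Fin m) F) (u v : Fin m ⊕ Fin m → F) :
    sympForm m F (A *ᵥ u) (A *ᵥ v) = sympForm m F u v := by
  unfold sympForm
  rw [SymplecticGroup.mem_iff'] at hA
  rw [← vecMul_transpose, ← dotProduct_mulVec, mulVec_mulVec, mulVec_mulVec, hA]

/-- The key identity: the cross terms cancel. -/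
theorem cross_cancel (A : Matrix (Fin m ⊕ Fin m) (Fin m ⊕ Fin m) F)
    (hA : A ∈ symplecticGroup (Fin m) F) (hAA : A * A = 1) (u v : Fin m ⊕ Fin m → F) :
    sympForm m F v (A *ᵥ u) = - sympForm m F u (A *ᵥ v) := by
  have h1 : sympForm m F v (A *ᵥ u) = sympForm m F (A *ᵥ v) (A *ᵥ (A *ᵥ u)) :=
    (sympForm_map A hA _ _).symm
  rw [h1, mulVec_mulVec, hAA, one_mulVec, sympForm_swap]

/-- The quadratic map `v ↦ f(v, A v)`. -/
def phi (A : Matrix (Fin m ⊕ Fin m) (Fin m ⊕ Fin m) F) (v : Fin m ⊕ Fin m → F) : F :=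
  sympForm m F v (A *ᵥ v)

theorem phi_add (A : Matrix (Fin m ⊕ Fin m) (Fin m ⊕ Fin m) F)
    (hA : A ∈ symplecticGroup (Fin m) F) (hAA : A * A = 1) (u v : Fin m ⊕ Fin m → F) :
    phi A (u + v) = phi A u + phi A v := by
  unfold phi
  rw [mulVec_add, sympForm_add_left, sympForm_add_right, sympForm_add_right,
    cross_cancel A hA hAA u v]
  ring

theorem phi_smul (A : Matrix (Fin m ⊕ Fin m) (Fin m ⊕ Fin m) F) (c : F) (v : Fin m ⊕ Fin m → F) :
    phi A (c • v) = c ^ 2 * phi A v := by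
  unfold phi
  rw [mulVec_smul, sympForm_smul_left, sympForm_smul_right]
  ring

section
variable [Fintype F] [CharP F 2]

/-- The linear functional `v ↦ sqrt (f(v, A v))`. -/
noncomputable def psi (A : Matrix (Fin m ⊕ Fin m) (Fin m ⊕ Fin m) F)
    (hA : A ∈ symplecticGroup (Fin m) F) (hAA : A * A = 1) : (Fin m ⊕ Fin m → F) →ₗ[F] F where
  toFun v := (frobeniusEquiv F 2).symm (phi A v)
  map_add' u v := by rw [phi_add A hA hAA, map_add]
  map_smul' c v := by
    rw [phi_smul, map_mul, RingHom.id_apply, smul_eq_mul]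
    congr 1
    rw [← frobeniusEquiv_def F 2 c, RingEquiv.symm_apply_apply]

theorem psi_eq_zero_iff (A : Matrix (Fin m ⊕ Fin m) (Fin m ⊕ Fin m) F)
    (hA : A ∈ symplecticGroup (Fin m) F) (hAA : A * A = 1) (v : Fin m ⊕ Fin m → F) :
    psi A hA hAA v = 0 ↔ phi A v = 0 := by
  show (frobeniusEquiv F 2).symm (phi A v) = 0 ↔ _
  exact map_eq_zero_iff _ (RingEquiv.injective _)

theorem card_part (A : Matrix (Fin m ⊕ Fin m) (Fin m ⊕ Fin m) F)
    (hA : A ∈ symplecticGroup (Fin m) F) (hAA : A * A = 1) :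
    Nat.card {v : Fin m ⊕ Fin m → F // phi A v = 0} = Fintype.card F ^ (2 * m) ∨
      Nat.card {v : Fin m ⊕ Fin m → F // phi A v = 0} * Fintype.card F = Fintype.card F ^ (2 * m) := by
  set L := psi A hA hAA with hL
  have hcongr : Nat.card {v : Fin m ⊕ Fin m → F // phi A v = 0} = Nat.card (LinearMap.ker L) := by
    apply Nat.card_congr
    apply Equiv.subtypeEquivRight
    intro v
    rw [LinearMap.mem_ker, hL, psi_eq_zero_iff]
  rw [hcongr, Module.natCard_eq_pow_finrank (K := F) (V := LinearMap.ker L), Nat.card_eq_fintype_card]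
  have hrn : Module.finrank F (LinearMap.range L) + Module.finrank F (LinearMap.ker L) = 2 * m := by
    rw [LinearMap.finrank_range_add_finrank_ker]
    simp [two_mul]
  have hle : Module.finrank F (LinearMap.range L) ≤ 1 := by
    have := Submodule.finrank_le (LinearMap.range L)
    simpa using this
  rcases Nat.le_one_iff_eq_zero_or_eq_one.mp hle with h0 | h1
  · left
    congr 1
    omega
  · right
    rw [← pow_succ]
    congr 1
    omega

theorem even_part (A : Matrix (Fin m ⊕ Fin m) (Fin m ⊕ Fin m) F)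
    (h : ∀ v : Fin m ⊕ Fin m → F, sympForm m F v (A *ᵥ v) = 0) : Even (A - 1).rank := by
  have hJ : IsUnit (J (Fin m) F).det := IsUnit.of_mul_eq_one _ (J_det_mul_J_det (Fin m) F)
  rw [← rank_mul_eq_right_of_isUnit_det (J (Fin m) F) (A - 1) hJ]
  apply Cfsg.Agent.Lib.Helper36.even_rank_of_alt_matrix
  intro x
  have h1 := h x
  have h2 := sympForm_self (m := m) x
  unfold sympForm at h1 h2
  rw [← mulVec_mulVec, sub_mulVec, one_mulVec, mulVec_sub, dotProduct_sub, h1, h2, sub_zero]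

theorem result' (hm : 2 ≤ m) (a : ↥(Matrix.symplecticGroup (Fin m) F)) (ha : orderOf a = 2) :
    (Nat.card {v : Fin m ⊕ Fin m → F // Cfsg.sympForm m F v (Matrix.mulVec ((a : ↥(Matrix.symplecticGroup (Fin m) F)) : Matrix (Fin m ⊕ Fin m) (Fin m ⊕ Fin m) F) v) = 0} = Fintype.card F ^ (2 * m) ∨ Nat.card {v : Fin m ⊕ Fin m → F // Cfsg.sympForm m F v (Matrix.mulVec ((a : ↥(Matrix.symplecticGroup (Fin m) F)) : Matrix (Fin m ⊕ Fin m) (Fin m ⊕ Fin m) F) v) = 0} * Fintype.card F = Fintype.card F ^ (2 * m)) ∧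
    ((∀ v : Fin m ⊕ Fin m → F, Cfsg.sympForm m F v (Matrix.mulVec ((a : ↥(Matrix.symplecticGroup (Fin m) F)) : Matrix (Fin m ⊕ Fin m) (Fin m ⊕ Fin m) F) v) = 0) → Even (((a : ↥(Matrix.symplecticGroup (Fin m) F)) : Matrix (Fin m ⊕ Fin m) (Fin m ⊕ Fin m) F) - 1).rank) := by
  have hA : (a : Matrix (Fin m ⊕ Fin m) (Fin m ⊕ Fin m) F) ∈ symplecticGroup (Fin m) F := a.2
  have hAA : (a : Matrix (Fin m ⊕ Fin m) (Fin m ⊕ Fin m) F) * (a : Matrix (Fin m ⊕ Fin m) (Fin m ⊕ Fin m) F) = 1 := by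
    have h2 : a ^ 2 = 1 := by rw [← ha]; exact pow_orderOf_eq_one a
    have := congrArg (fun b : ↥(Matrix.symplecticGroup (Fin m) F) => (b : Matrix (Fin m ⊕ Fin m) (Fin m ⊕ Fin m) F)) h2
    simpa [pow_two] using this
  exact ⟨card_part _ hA hAA, even_part _⟩

end

/-- For an involution t of the symplectic group Sp_{2m}(F), m ≥ 2, F a finite field of characteristic two (matrices A with A J Aᵀ = J acting on column vectors, alternating form f(u, v) = u ⬝ (J v)): the set V(t) of vectors v with f(v, t v) = 0 has either q^{2m} or q^{2m−1} elements, q the order of F (it is a subspace of codimension at most 1), and if it is the whole space then t − 1 has even rank. -/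
theorem result {F : Type*} [Field F] [Fintype F] [CharP F 2] {m : ℕ} (hm : 2 ≤ m) (a : ↥(Matrix.symplecticGroup (Fin m) F)) (ha : orderOf a = 2) :
    (Nat.card {v : Fin m ⊕ Fin m → F // Cfsg.sympForm m F v (Matrix.mulVec ((a : ↥(Matrix.symplecticGroup (Fin m) F)) : Matrix (Fin m ⊕ Fin m) (Fin m ⊕ Fin m) F) v) = 0} = Fintype.card F ^ (2 * m) ∨ Nat.card {v : Fin m ⊕ Fin m → F // Cfsg.sympForm m F v (Matrix.mulVec ((a : ↥(Matrix.symplecticGroup (Fin m) F)) : Matrix (Fin m ⊕ Fin m) (Fin m ⊕ Fin m) F) v) = 0} * Fintype.card F = Fintype.card F ^ (2 * m)) ∧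
    ((∀ v : Fin m ⊕ Fin m → F, Cfsg.sympForm m F v (Matrix.mulVec ((a : ↥(Matrix.symplecticGroup (Fin m) F)) : Matrix (Fin m ⊕ Fin m) (Fin m ⊕ Fin m) F) v) = 0) → Even (((a : ↥(Matrix.symplecticGroup (Fin m) F)) : Matrix (Fin m ⊕ Fin m) (Fin m ⊕ Fin m) F) - 1).rank) := by
  exact result' hm a ha

end Cfsg.Agent.S2167
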