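import Cfsg.Statements.S2166
import Cfsg.Agent.S2167
import Cfsg.Agent.Lib.Helper13.SympGen
import Cfsg.Agent.Lib.Helper36.SympInvol

set_option autoImplicit false
open Cfsg

namespace Cfsg.Agent.S2166

open Cfsg.Agent.Lib.Helper36 Cfsg.Agent.Lib.Helper13 Matrix Module

section

variable {F : Type*} [Field F] {m : ℕ}

theorem sub_one_mul_self' [CharP F 2] (A : Matrix (Fin m ⊕ Fin m) (Fin m ⊕ Fin m) F)
    (hAA : A * A = 1) : (A - 1) * (A - 1) = 0 := by
  rw [Matrix.sub_mul, Matrix.mul_sub, Matrix.mul_sub, hAA, Matrix.one_mul, Matrix.mul_one,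
    Matrix.one_mul]
  have : (1 : Matrix (Fin m ⊕ Fin m) (Fin m ⊕ Fin m) F) - A = A - 1 := by
    ext i j
    simp only [Matrix.sub_apply]
    rw [CharTwo.sub_eq_add, CharTwo.sub_eq_add, add_comm]
  rw [this, sub_self]

theorem sympForm_symm [CharP F 2] (u v : Fin m ⊕ Fin m → F) :
    sympForm m F u v = sympForm m F v u := by
  rw [Cfsg.Agent.Lib.Helper13.sympForm_swap, CharTwo.neg_eq]

theorem exists_conj_matrix [Fintype F] [CharP F 2]
    (A A' : Matrix (Fin m ⊕ Fin m) (Fin m ⊕ Fin m) F)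
    (hA : A ∈ symplecticGroup (Fin m) F) (hA' : A' ∈ symplecticGroup (Fin m) F)
    (hA2 : A * A = 1) (hA'2 : A' * A' = 1)
    (hrank : (A - 1).rank = (A' - 1).rank)
    (halt : (∀ v, sympForm m F v (A *ᵥ v) = 0) ↔ (∀ v, sympForm m F v (A' *ᵥ v) = 0)) :
    ∃ G ∈ symplecticGroup (Fin m) F, G * A = A' * G := by
  classical
  have hS : ∀ x y, sympBilin m F x y = sympBilin m F y x := fun x y => by
    rw [sympBilin_apply, sympBilin_apply]; exact sympForm_symm x y
  have hAlt : ∀ x, sympBilin m F x x = 0 := fun x => sympForm_self x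
  have hnd := sympBilin_nondegenerate m F
  have key : ∀ (M : Matrix (Fin m ⊕ Fin m) (Fin m ⊕ Fin m) F), M ∈ symplecticGroup (Fin m) F →
      M * M = 1 →
      (∀ x, (M - 1).mulVecLin ((M - 1).mulVecLin x) = 0) ∧
      (∀ x y, sympBilin m F ((M - 1).mulVecLin x) y = sympBilin m F x ((M - 1).mulVecLin y)) ∧
      ((∀ x, sympBilin m F x ((M - 1).mulVecLin x) = 0) ↔ ∀ v, sympForm m F v (M *ᵥ v) = 0) := by
    intro M hM hM2
    refine ⟨?_, ?_, ?_⟩
    · intro x
      simp only [mulVecLin_apply, mulVec_mulVec, sub_one_mul_self' M hM2, zero_mulVec]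
    · intro x y
      have h1 : sympForm m F (M *ᵥ x) y = sympForm m F x (M *ᵥ y) := by
        have h := sympForm_mulVec_of_mem hM x (M *ᵥ y)
        rw [mulVec_mulVec, hM2, one_mulVec] at h
        exact h
      simp only [mulVecLin_apply, sub_mulVec, one_mulVec, sympBilin_apply, sympForm_sub_left,
        sympForm_sub_right, h1]
    · have h1 : ∀ x, sympBilin m F x ((M - 1).mulVecLin x) = sympForm m F x (M *ᵥ x) := by
        intro x
        simp only [mulVecLin_apply, sub_mulVec, one_mulVec, sympBilin_apply, sympForm_sub_right,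
          sympForm_self, sub_zero]
      simp only [h1]
  obtain ⟨hN2, hadj, halt1⟩ := key A hA hA2
  obtain ⟨hN2', hadj', halt1'⟩ := key A' hA' hA'2
  obtain ⟨g, hg1, hg2⟩ := exists_isometry_conj_symp (sympBilin m F) hS hAlt hnd
    (A - 1).mulVecLin (A' - 1).mulVecLin hN2 hN2' hadj hadj' hrank
    (halt1.trans (halt.trans halt1'.symm))
  refine ⟨LinearMap.toMatrix' g, ?_, ?_⟩
  · rw [mem_symplecticGroup_iff]
    intro u v
    rw [LinearMap.toMatrix'_mulVec, LinearMap.toMatrix'_mulVec]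
    exact hg1 u v
  · have e1 : LinearMap.toMatrix' g * (A - 1) = (A' - 1) * LinearMap.toMatrix' g := by
      have hcomp : g ∘ₗ (A - 1).mulVecLin = (A' - 1).mulVecLin ∘ₗ g := LinearMap.ext hg2
      have := congrArg LinearMap.toMatrix' hcomp
      rw [LinearMap.toMatrix'_comp, LinearMap.toMatrix'_comp, ← Matrix.toLin'_apply',
        ← Matrix.toLin'_apply', LinearMap.toMatrix'_toLin', LinearMap.toMatrix'_toLin'] at this
      exact this
    have e4 : A = (A - 1) + 1 := by rw [sub_add_cancel]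
    have e5 : A' = (A' - 1) + 1 := by rw [sub_add_cancel]
    rw [e4, e5, Matrix.mul_add, Matrix.add_mul, e1, Matrix.mul_one, Matrix.one_mul]

end

/-- Conjugacy of involutions in the symplectic group Sp_{2m}(F), F a finite field of characteristic two, m ≥ 2 (Sp taken as the matrices A with A J Aᵀ = J, acting on column vectors, with the alternating form f(u, v) = u ⬝ (J v)). For an involution t write V(t) for the set of vectors v with f(v, t v) = 0 (a subspace). Two involutions a, b are conjugate in Sp_{2m}(F) exactly when a − 1 and b − 1 have the same rank and, in case that rank is even, V(a) and V(b) have the same number of elements. -/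
theorem result {F : Type*} [Field F] [Fintype F] [CharP F 2] {m : ℕ} (hm : 2 ≤ m) (a b : ↥(Matrix.symplecticGroup (Fin m) F)) (ha : orderOf a = 2) (hb : orderOf b = 2) :
    IsConj a b ↔ ((((a : ↥(Matrix.symplecticGroup (Fin m) F)) : Matrix (Fin m ⊕ Fin m) (Fin m ⊕ Fin m) F) - 1).rank = (((b : ↥(Matrix.symplecticGroup (Fin m) F)) : Matrix (Fin m ⊕ Fin m) (Fin m ⊕ Fin m) F) - 1).rank ∧
      (Even (((a : ↥(Matrix.symplecticGroup (Fin m) F)) : Matrix (Fin m ⊕ Fin m) (Fin m ⊕ Fin m) F) - 1).rank → Nat.card {v : Fin m ⊕ Fin m → F // Cfsg.sympForm m F v (Matrix.mulVec ((a : ↥(Matrix.symplecticGroup (Fin m) F)) : Matrix (Fin m ⊕ Fin m) (Fin m ⊕ Fin m) F) v) = 0} = Nat.card {v : Fin m ⊕ Fin m → F // Cfsg.sympForm m F v (Matrix.mulVec ((b : ↥(Matrix.symplecticGroup (Fin m) F)) : Matrix (Fin m ⊕ Fin m) (Fin m ⊕ Fin m) F) v) = 0})) := by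
  classical
  have hAA : ∀ c : ↥(Matrix.symplecticGroup (Fin m) F), orderOf c = 2 →
      (c : Matrix (Fin m ⊕ Fin m) (Fin m ⊕ Fin m) F) * (c : Matrix (Fin m ⊕ Fin m) (Fin m ⊕ Fin m) F) = 1 := by
    intro c hc
    have h2 : c ^ 2 = 1 := by rw [← hc]; exact pow_orderOf_eq_one c
    have := congrArg (fun x : ↥(Matrix.symplecticGroup (Fin m) F) =>
      (x : Matrix (Fin m ⊕ Fin m) (Fin m ⊕ Fin m) F)) h2
    simpa [pow_two] using this
  have hcard : ∀ (M M' : Matrix (Fin m ⊕ Fin m) (Fin m ⊕ Fin m) F),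
      (∀ v, sympForm m F v (M *ᵥ v) = 0) →
      Nat.card {v : Fin m ⊕ Fin m → F // sympForm m F v (M *ᵥ v) = 0} =
        Nat.card {v : Fin m ⊕ Fin m → F // sympForm m F v (M' *ᵥ v) = 0} →
      ∀ v, sympForm m F v (M' *ᵥ v) = 0 := by
    intro M M' hall hc
    by_contra hcon
    push Not at hcon
    obtain ⟨v0, hv0⟩ := hcon
    have h1 : Nat.card {v : Fin m ⊕ Fin m → F // sympForm m F v (M *ᵥ v) = 0} =
        Fintype.card (Fin m ⊕ Fin m → F) := by
      rw [Nat.card_eq_fintype_card]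
      exact Fintype.card_congr (Equiv.subtypeUnivEquiv hall)
    have h2 : Nat.card {v : Fin m ⊕ Fin m → F // sympForm m F v (M' *ᵥ v) = 0} <
        Fintype.card (Fin m ⊕ Fin m → F) := by
      rw [Nat.card_eq_fintype_card]
      exact Fintype.card_subtype_lt hv0
    omega
  constructor
  · intro h
    obtain ⟨c, hc⟩ := isConj_iff.mp h
    rw [mul_inv_eq_iff_eq_mul] at hc
    have hcm : (c : Matrix (Fin m ⊕ Fin m) (Fin m ⊕ Fin m) F) * (a : Matrix (Fin m ⊕ Fin m) (Fin m ⊕ Fin m) F) =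
        (b : Matrix (Fin m ⊕ Fin m) (Fin m ⊕ Fin m) F) * (c : Matrix (Fin m ⊕ Fin m) (Fin m ⊕ Fin m) F) := by
      have := congrArg (fun x : ↥(Matrix.symplecticGroup (Fin m) F) =>
        (x : Matrix (Fin m ⊕ Fin m) (Fin m ⊕ Fin m) F)) hc
      simpa using this
    have hdc : IsUnit (c : Matrix (Fin m ⊕ Fin m) (Fin m ⊕ Fin m) F).det :=
      SymplecticGroup.symplectic_det c.2
    have hrank : ((a : Matrix (Fin m ⊕ Fin m) (Fin m ⊕ Fin m) F) - 1).rank =
        ((b : Matrix (Fin m ⊕ Fin m) (Fin m ⊕ Fin m) F) - 1).rank := by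
      have e1 : ((b : Matrix (Fin m ⊕ Fin m) (Fin m ⊕ Fin m) F) - 1) * (c : Matrix (Fin m ⊕ Fin m) (Fin m ⊕ Fin m) F) =
          (c : Matrix (Fin m ⊕ Fin m) (Fin m ⊕ Fin m) F) * ((a : Matrix (Fin m ⊕ Fin m) (Fin m ⊕ Fin m) F) - 1) := by
        rw [Matrix.sub_mul, Matrix.mul_sub, hcm, Matrix.one_mul, Matrix.mul_one]
      rw [← rank_mul_eq_right_of_isUnit_det _ ((a : Matrix (Fin m ⊕ Fin m) (Fin m ⊕ Fin m) F) - 1) hdc,
        ← e1, rank_mul_eq_left_of_isUnit_det _ _ hdc]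
    refine ⟨hrank, fun _ => ?_⟩
    apply Nat.card_congr
    have hcinv1 := mul_inv_of_mem_symplecticGroup c.2
    have hcinv2 := inv_mul_of_mem_symplecticGroup c.2
    let e : (Fin m ⊕ Fin m → F) ≃ (Fin m ⊕ Fin m → F) :=
      { toFun := fun v => (c : Matrix (Fin m ⊕ Fin m) (Fin m ⊕ Fin m) F) *ᵥ v
        invFun := fun v => (c : Matrix (Fin m ⊕ Fin m) (Fin m ⊕ Fin m) F)⁻¹ *ᵥ v
        left_inv := fun v => by
          show (c : Matrix (Fin m ⊕ Fin m) (Fin m ⊕ Fin m) F)⁻¹ *ᵥ ((c : Matrix (Fin m ⊕ Fin m) (Fin m ⊕ Fin m) F) *ᵥ v) = v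
          rw [mulVec_mulVec, hcinv2, one_mulVec]
        right_inv := fun v => by
          show (c : Matrix (Fin m ⊕ Fin m) (Fin m ⊕ Fin m) F) *ᵥ ((c : Matrix (Fin m ⊕ Fin m) (Fin m ⊕ Fin m) F)⁻¹ *ᵥ v) = v
          rw [mulVec_mulVec, hcinv1, one_mulVec] }
    refine Equiv.subtypeEquiv e ?_
    intro v
    show _ ↔ sympForm m F ((c : Matrix (Fin m ⊕ Fin m) (Fin m ⊕ Fin m) F) *ᵥ v)
      ((b : Matrix (Fin m ⊕ Fin m) (Fin m ⊕ Fin m) F) *ᵥ ((c : Matrix (Fin m ⊕ Fin m) (Fin m ⊕ Fin m) F) *ᵥ v)) = 0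
    rw [mulVec_mulVec, ← hcm, ← mulVec_mulVec, sympForm_mulVec_of_mem c.2]
  · rintro ⟨hrank, hcardeq⟩
    have halt : (∀ v, sympForm m F v ((a : Matrix (Fin m ⊕ Fin m) (Fin m ⊕ Fin m) F) *ᵥ v) = 0) ↔
        (∀ v, sympForm m F v ((b : Matrix (Fin m ⊕ Fin m) (Fin m ⊕ Fin m) F) *ᵥ v) = 0) := by
      constructor
      · intro hall
        have hev := Cfsg.Agent.S2167.even_part _ hall
        exact hcard _ _ hall (hcardeq hev)
      · intro hall
        have hev := Cfsg.Agent.S2167.even_part _ hall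
        rw [← hrank] at hev
        exact hcard _ _ hall (hcardeq hev).symm
    obtain ⟨G, hG, hGconj⟩ := exists_conj_matrix _ _ a.2 b.2 (hAA a ha) (hAA b hb) hrank halt
    rw [isConj_iff]
    refine ⟨⟨G, hG⟩, ?_⟩
    rw [mul_inv_eq_iff_eq_mul]
    apply Subtype.ext
    simp only [Submonoid.coe_mul]
    exact hGconj

end Cfsg.Agent.S2166
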