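import Cfsg.Statements.S2593
import Cfsg.Agent.S2166

set_option autoImplicit false
open Cfsg

namespace Cfsg.Agent.S2593

open Matrix

section

variable {F : Type*} [Field F] {m : ℕ}

/-- The block unitriangular matrix `[1 S; 0 1]`. -/
def tmat (S : Matrix (Fin m) (Fin m) F) : Matrix (Fin m ⊕ Fin m) (Fin m ⊕ Fin m) F :=
  fromBlocks 1 S 0 1

theorem tmat_mem (S : Matrix (Fin m) (Fin m) F) (hS : Sᵀ = S) :
    tmat S ∈ symplecticGroup (Fin m) F := by
  rw [SymplecticGroup.mem_iff]
  unfold tmat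
  rw [Matrix.J, fromBlocks_transpose, fromBlocks_multiply, fromBlocks_multiply]
  simp [hS]

theorem tmat_sq [CharP F 2] (S : Matrix (Fin m) (Fin m) F) : tmat S * tmat S = 1 := by
  unfold tmat
  rw [fromBlocks_multiply]
  have : S + S = 0 := by
    ext i j
    simp [CharTwo.add_self_eq_zero]
  simp [this, fromBlocks_one]

/-- The block matrix `[0 S; 0 0]`. -/
def umat (S : Matrix (Fin m) (Fin m) F) : Matrix (Fin m ⊕ Fin m) (Fin m ⊕ Fin m) F :=
  fromBlocks 0 S 0 0

theorem tmat_sub_one (S : Matrix (Fin m) (Fin m) F) : tmat S - 1 = umat S := by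
  unfold tmat umat
  rw [← fromBlocks_one, sub_eq_add_neg, fromBlocks_neg, fromBlocks_add]
  simp

theorem rank_umat (S : Matrix (Fin m) (Fin m) F) : (umat S).rank = S.rank := by
  apply le_antisymm
  · have h1 : umat S =
        fromRows S (0 : Matrix (Fin m) (Fin m) F) * fromCols (0 : Matrix (Fin m) (Fin m) F) 1 := by
      rw [fromRows_mul_fromCols]
      simp [umat]
    have h2 : fromRows S (0 : Matrix (Fin m) (Fin m) F) =
        fromRows (1 : Matrix (Fin m) (Fin m) F) (0 : Matrix (Fin m) (Fin m) F) * S := by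
      rw [fromRows_mul]
      simp
    rw [h1]
    refine (rank_mul_le_left _ _).trans ?_
    rw [h2]
    exact rank_mul_le_right _ _
  · have h : S = (umat S).submatrix Sum.inl Sum.inr := by
      ext i j
      simp [umat]
    conv_lhs => rw [h]
    exact rank_submatrix_le _ _ _

theorem tmat_rank (S : Matrix (Fin m) (Fin m) F) : (tmat S - 1).rank = S.rank := by
  rw [tmat_sub_one, rank_umat]

theorem tmat_form (S : Matrix (Fin m) (Fin m) F) (v : Fin m ⊕ Fin m → F) :
    sympForm m F v (tmat S *ᵥ v) = (v ∘ Sum.inr) ⬝ᵥ (S *ᵥ (v ∘ Sum.inr)) := by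
  have hv : v = Sum.elim (v ∘ Sum.inl) (v ∘ Sum.inr) := by
    ext i; cases i <;> rfl
  unfold sympForm tmat
  rw [Matrix.J]
  conv_lhs => rw [hv]
  rw [fromBlocks_mulVec, fromBlocks_mulVec]
  simp only [Sum.elim_comp_inl, Sum.elim_comp_inr, zero_mulVec, zero_add, add_zero, neg_mulVec,
    one_mulVec, dotProduct, Fintype.sum_sum_type, Sum.elim_inl, Sum.elim_inr, Pi.neg_apply,
    Pi.add_apply, Function.comp_apply, mul_neg, Finset.sum_neg_distrib]
  rw [neg_add_eq_iff_eq_add, ← Finset.sum_add_distrib]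
  apply Finset.sum_congr rfl
  intro i _
  ring

/-- The diagonal matrix `diag(1^s, 0^(m-s))`. -/
def dvec (s : ℕ) (i : Fin m) : F := if i.val < s then 1 else 0

theorem card_dvec_ne_zero [DecidableEq F] (s : ℕ) (hs : s ≤ m) :
    Fintype.card {i : Fin m // (dvec s i : F) ≠ 0} = s := by
  have e : {i : Fin m // (dvec s i : F) ≠ 0} ≃ Fin s :=
    { toFun := fun i => ⟨i.1.val, by
        have h := i.2
        unfold dvec at h
        by_contra hcon
        exact h (if_neg hcon)⟩
      invFun := fun k => ⟨⟨k.val, lt_of_lt_of_le k.2 hs⟩, by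
        unfold dvec
        rw [if_pos k.2]
        exact one_ne_zero⟩
      left_inv := fun i => by ext; rfl
      right_inv := fun k => by ext; rfl }
  rw [Fintype.card_congr e, Fintype.card_fin]

theorem rank_diagonal_dvec (s : ℕ) (hs : s ≤ m) :
    (diagonal (dvec s : Fin m → F)).rank = s := by
  classical
  rw [rank_diagonal, card_dvec_ne_zero s hs]

/-- The pair-swapping involution `2k ↔ 2k+1` on `Fin m` (fixing the last point if `m` is odd). -/
def pswap (i : Fin m) : Fin m :=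
  if h : 2 * (i.val / 2) + 1 < m then ⟨4 * (i.val / 2) + 1 - i.val, by omega⟩ else i

theorem pswap_val_of_lt (i : Fin m) (h : 2 * (i.val / 2) + 1 < m) :
    (pswap i).val = 4 * (i.val / 2) + 1 - i.val := by
  unfold pswap
  rw [dif_pos h]

theorem pswap_of_not_lt (i : Fin m) (h : ¬ 2 * (i.val / 2) + 1 < m) : pswap i = i := by
  unfold pswap
  rw [dif_neg h]

theorem pswap_involutive : Function.Involutive (pswap : Fin m → Fin m) := by
  intro i
  by_cases h : 2 * (i.val / 2) + 1 < m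
  · have h1 := pswap_val_of_lt i h
    have h2 : 2 * ((pswap i).val / 2) + 1 < m := by rw [h1]; omega
    have h3 := pswap_val_of_lt (pswap i) h2
    ext
    rw [h3, h1]
    omega
  · rw [pswap_of_not_lt i h, pswap_of_not_lt i h]

theorem pswap_ne (s : ℕ) (hs : s ≤ m) (he : Even s) (i : Fin m) (hi : i.val < s) :
    pswap i ≠ i ∧ (pswap i).val < s := by
  obtain ⟨k, hk⟩ := he
  have h : 2 * (i.val / 2) + 1 < m := by omega
  have h1 := pswap_val_of_lt i h
  constructor
  · intro hcon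
    have := congrArg Fin.val hcon
    omega
  · omega

/-- The symmetric matrix with zero diagonal of rank `s` (`s` even). -/
def amat (s : ℕ) : Matrix (Fin m) (Fin m) F :=
  (diagonal (dvec s : Fin m → F)).submatrix id pswap

theorem amat_apply (s : ℕ) (i j : Fin m) :
    (amat s : Matrix (Fin m) (Fin m) F) i j = if i = pswap j then dvec s i else 0 := by
  unfold amat
  rw [submatrix_apply, id, diagonal_apply]

theorem rank_amat (s : ℕ) (hs : s ≤ m) : (amat s : Matrix (Fin m) (Fin m) F).rank = s := by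
  have h : (amat s : Matrix (Fin m) (Fin m) F) =
      (diagonal (dvec s : Fin m → F)).submatrix (Equiv.refl (Fin m))
        (Function.Involutive.toPerm pswap pswap_involutive) := rfl
  rw [h, rank_submatrix, rank_diagonal_dvec s hs]

theorem amat_transpose (s : ℕ) (hs : s ≤ m) (he : Even s) :
    (amat s : Matrix (Fin m) (Fin m) F)ᵀ = amat s := by
  ext i j
  rw [transpose_apply, amat_apply, amat_apply]
  by_cases h1 : j = pswap i
  · have h2 : i = pswap j := by rw [h1, pswap_involutive i]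
    rw [if_pos h1, if_pos h2]
    unfold dvec
    by_cases hi : i.val < s
    · have := (pswap_ne s hs he i hi).2
      rw [← h1] at this
      rw [if_pos hi, if_pos this]
    · have : ¬ j.val < s := by
        intro hj
        have := (pswap_ne s hs he j hj).2
        rw [← h2] at this
        exact hi this
      rw [if_neg hi, if_neg this]
  · have h2 : ¬ i = pswap j := by
      intro h
      apply h1
      rw [h, pswap_involutive j]
    rw [if_neg h1, if_neg h2]

theorem amat_diag (s : ℕ) (hs : s ≤ m) (he : Even s) (i : Fin m) :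
    (amat s : Matrix (Fin m) (Fin m) F) i i = 0 := by
  rw [amat_apply]
  by_cases hi : i.val < s
  · rw [if_neg (fun h => (pswap_ne s hs he i hi).1 h.symm)]
  · unfold dvec
    rw [if_neg hi]
    simp

/-- In characteristic two a symmetric matrix with zero diagonal gives an alternating form. -/
theorem dotProduct_mulVec_self_eq_zero [CharP F 2] (S : Matrix (Fin m) (Fin m) F) (hS : Sᵀ = S)
    (hd : ∀ i, S i i = 0) (y : Fin m → F) : y ⬝ᵥ (S *ᵥ y) = 0 := by
  classical
  have h1 : y ⬝ᵥ (S *ᵥ y) = ∑ p ∈ (Finset.univ : Finset (Fin m × Fin m)), y p.1 * (S p.1 p.2 * y p.2) := by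
    simp only [dotProduct, mulVec, Finset.mul_sum]
    rw [← Finset.sum_product']
    rfl
  rw [h1]
  apply Finset.sum_involution (fun p _ => Prod.swap p)
  · intro p _
    have hsym : S p.2 p.1 = S p.1 p.2 := by
      have := congrFun (congrFun hS p.1) p.2
      rwa [transpose_apply] at this
    simp only [Prod.fst_swap, Prod.snd_swap]
    rw [hsym]
    have : y p.2 * (S p.1 p.2 * y p.1) = y p.1 * (S p.1 p.2 * y p.2) := by ring
    rw [this, CharTwo.add_self_eq_zero]
  · intro p _ hne hcon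
    apply hne
    have h : p.2 = p.1 := by
      have := congrArg Prod.fst hcon
      simpa using this
    rw [h, hd, zero_mul, mul_zero]
  · intro p _
    exact Finset.mem_univ _
  · intro p _
    exact Prod.swap_swap p

/-- The alternating-type predicate of an involution. -/
def TypeA (A : Matrix (Fin m ⊕ Fin m) (Fin m ⊕ Fin m) F) : Prop :=
  ∀ v, sympForm m F v (A *ᵥ v) = 0

theorem coe_mul_self_of_orderOf (g : ↥(symplecticGroup (Fin m) F)) (hg : orderOf g = 2) :
    (g : Matrix (Fin m ⊕ Fin m) (Fin m ⊕ Fin m) F) * (g : Matrix (Fin m ⊕ Fin m) (Fin m ⊕ Fin m) F) = 1 := by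
  have h2 : g ^ 2 = 1 := by rw [← hg]; exact pow_orderOf_eq_one g
  have := congrArg (fun x : ↥(symplecticGroup (Fin m) F) =>
    (x : Matrix (Fin m ⊕ Fin m) (Fin m ⊕ Fin m) F)) h2
  simpa [pow_two] using this

theorem orderOf_eq_two_of (g : ↥(symplecticGroup (Fin m) F))
    (hsq : (g : Matrix (Fin m ⊕ Fin m) (Fin m ⊕ Fin m) F) * (g : Matrix (Fin m ⊕ Fin m) (Fin m ⊕ Fin m) F) = 1)
    (hr : 1 ≤ ((g : Matrix (Fin m ⊕ Fin m) (Fin m ⊕ Fin m) F) - 1).rank) : orderOf g = 2 := by
  have : Fact (Nat.Prime 2) := ⟨Nat.prime_two⟩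
  apply orderOf_eq_prime
  · apply Subtype.ext
    rw [pow_two]
    exact hsq
  · intro h1
    rw [h1] at hr
    simp at hr

theorem rank_pos_of_orderOf (g : ↥(symplecticGroup (Fin m) F)) (hg : orderOf g = 2) :
    1 ≤ ((g : Matrix (Fin m ⊕ Fin m) (Fin m ⊕ Fin m) F) - 1).rank := by
  by_contra hcon
  have h0 : ((g : Matrix (Fin m ⊕ Fin m) (Fin m ⊕ Fin m) F) - 1).rank = 0 := by omega
  unfold Matrix.rank at h0
  rw [Submodule.finrank_eq_zero, LinearMap.range_eq_bot] at h0
  rw [← Matrix.toLin'_apply', LinearEquiv.map_eq_zero_iff] at h0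
  have h1 : g = 1 := by
    apply Subtype.ext
    exact sub_eq_zero.mp h0
  rw [h1, orderOf_one] at hg
  omega

theorem rank_le_of_orderOf [CharP F 2] (g : ↥(symplecticGroup (Fin m) F)) (hg : orderOf g = 2) :
    ((g : Matrix (Fin m ⊕ Fin m) (Fin m ⊕ Fin m) F) - 1).rank ≤ m := by
  have h := Cfsg.Agent.S2166.sub_one_mul_self' _ (coe_mul_self_of_orderOf g hg)
  have h2 := rank_add_rank_le_card_of_mul_eq_zero h
  simp only [Fintype.card_sum, Fintype.card_fin] at h2
  omega

theorem conj_invariants (a b c : ↥(symplecticGroup (Fin m) F)) (h : c * a * c⁻¹ = b) :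
    ((a : Matrix (Fin m ⊕ Fin m) (Fin m ⊕ Fin m) F) - 1).rank =
      ((b : Matrix (Fin m ⊕ Fin m) (Fin m ⊕ Fin m) F) - 1).rank ∧
    (TypeA (a : Matrix (Fin m ⊕ Fin m) (Fin m ⊕ Fin m) F) →
      TypeA (b : Matrix (Fin m ⊕ Fin m) (Fin m ⊕ Fin m) F)) := by
  rw [mul_inv_eq_iff_eq_mul] at h
  have hcm : (c : Matrix (Fin m ⊕ Fin m) (Fin m ⊕ Fin m) F) * (a : Matrix (Fin m ⊕ Fin m) (Fin m ⊕ Fin m) F) =
      (b : Matrix (Fin m ⊕ Fin m) (Fin m ⊕ Fin m) F) * (c : Matrix (Fin m ⊕ Fin m) (Fin m ⊕ Fin m) F) := by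
    have := congrArg (fun x : ↥(symplecticGroup (Fin m) F) =>
      (x : Matrix (Fin m ⊕ Fin m) (Fin m ⊕ Fin m) F)) h
    simpa using this
  have hdc : IsUnit (c : Matrix (Fin m ⊕ Fin m) (Fin m ⊕ Fin m) F).det :=
    SymplecticGroup.symplectic_det c.2
  constructor
  · have e1 : ((b : Matrix (Fin m ⊕ Fin m) (Fin m ⊕ Fin m) F) - 1) * (c : Matrix (Fin m ⊕ Fin m) (Fin m ⊕ Fin m) F) =
        (c : Matrix (Fin m ⊕ Fin m) (Fin m ⊕ Fin m) F) * ((a : Matrix (Fin m ⊕ Fin m) (Fin m ⊕ Fin m) F) - 1) := by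
      rw [Matrix.sub_mul, Matrix.mul_sub, hcm, Matrix.one_mul, Matrix.mul_one]
    rw [← rank_mul_eq_right_of_isUnit_det _ ((a : Matrix (Fin m ⊕ Fin m) (Fin m ⊕ Fin m) F) - 1) hdc,
      ← e1, rank_mul_eq_left_of_isUnit_det _ _ hdc]
  · intro ha v
    -- v = c (c⁻¹ v)
    have hcc : (c : Matrix (Fin m ⊕ Fin m) (Fin m ⊕ Fin m) F) *
        ((c⁻¹ : ↥(symplecticGroup (Fin m) F)) : Matrix (Fin m ⊕ Fin m) (Fin m ⊕ Fin m) F) = 1 := by
      have := congrArg (fun x : ↥(symplecticGroup (Fin m) F) =>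
        (x : Matrix (Fin m ⊕ Fin m) (Fin m ⊕ Fin m) F)) (mul_inv_cancel c)
      exact this
    obtain ⟨w, rfl⟩ : ∃ w, v = (c : Matrix (Fin m ⊕ Fin m) (Fin m ⊕ Fin m) F) *ᵥ w :=
      ⟨((c⁻¹ : ↥(symplecticGroup (Fin m) F)) : Matrix (Fin m ⊕ Fin m) (Fin m ⊕ Fin m) F) *ᵥ v, by
        rw [mulVec_mulVec, hcc, one_mulVec]⟩
    rw [mulVec_mulVec, ← hcm, ← mulVec_mulVec, Cfsg.Agent.S2167.sympForm_map _ c.2]
    exact ha w

theorem exists_nonalt [CharP F 2] (s : ℕ) (hs1 : 1 ≤ s) (hs : s ≤ m) :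
    ∃ g : ↥(symplecticGroup (Fin m) F), orderOf g = 2 ∧
      ((g : Matrix (Fin m ⊕ Fin m) (Fin m ⊕ Fin m) F) - 1).rank = s ∧
      ¬ TypeA (g : Matrix (Fin m ⊕ Fin m) (Fin m ⊕ Fin m) F) := by
  have hmem := tmat_mem (diagonal (dvec s : Fin m → F)) (diagonal_transpose _)
  have hrank : (tmat (diagonal (dvec s : Fin m → F)) - 1).rank = s := by
    rw [tmat_rank, rank_diagonal_dvec s hs]
  refine ⟨⟨_, hmem⟩, ?_, hrank, ?_⟩
  · apply orderOf_eq_two_of
    · exact tmat_sq _
    · show 1 ≤ (tmat (diagonal (dvec s : Fin m → F)) - 1).rank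
      rw [hrank]; exact hs1
  · intro hA
    have h0 : 0 < m := by omega
    have h : sympForm m F (Pi.single (Sum.inr ⟨0, h0⟩) 1)
        (tmat (diagonal (dvec s : Fin m → F)) *ᵥ (Pi.single (Sum.inr ⟨0, h0⟩) 1)) = 0 :=
      hA (Pi.single (Sum.inr ⟨0, h0⟩) 1)
    rw [tmat_form] at h
    have hy : ((Pi.single (Sum.inr ⟨0, h0⟩) 1 : Fin m ⊕ Fin m → F) ∘ Sum.inr) =
        Pi.single (⟨0, h0⟩ : Fin m) 1 := by
      ext j
      simp only [Function.comp_apply, Pi.single_apply, Sum.inr.injEq]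
    rw [hy, single_dotProduct, mulVec_diagonal, one_mul, Pi.single_eq_same, mul_one] at h
    unfold dvec at h
    rw [if_pos (show (⟨0, h0⟩ : Fin m).val < s from hs1)] at h
    exact one_ne_zero h

theorem exists_alt [CharP F 2] (s : ℕ) (hs1 : 1 ≤ s) (hs : s ≤ m) (he : Even s) :
    ∃ g : ↥(symplecticGroup (Fin m) F), orderOf g = 2 ∧
      ((g : Matrix (Fin m ⊕ Fin m) (Fin m ⊕ Fin m) F) - 1).rank = s ∧
      TypeA (g : Matrix (Fin m ⊕ Fin m) (Fin m ⊕ Fin m) F) := by
  have hmem := tmat_mem (amat s : Matrix (Fin m) (Fin m) F) (amat_transpose s hs he)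
  have hrank : (tmat (amat s : Matrix (Fin m) (Fin m) F) - 1).rank = s := by
    rw [tmat_rank, rank_amat s hs]
  refine ⟨⟨_, hmem⟩, ?_, hrank, ?_⟩
  · apply orderOf_eq_two_of
    · exact tmat_sq _
    · show 1 ≤ (tmat (amat s : Matrix (Fin m) (Fin m) F) - 1).rank
      rw [hrank]; exact hs1
  · intro v
    show sympForm m F v (tmat (amat s : Matrix (Fin m) (Fin m) F) *ᵥ v) = 0
    rw [tmat_form]
    exact dotProduct_mulVec_self_eq_zero _ (amat_transpose s hs he) (amat_diag s hs he) _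

end

/-- Number of conjugacy classes of involutions in the symplectic group Sp_2m(F) over a finite field of characteristic two (m ≥ 1): for each s with 1 ≤ s ≤ m there is one class with rank(t − 1) = s if s is odd and two if s is even (according as v ↦ f(v, tv), f the symplectic form, vanishes identically or not), so m + ⌊m/2⌋ classes in all. -/
theorem result {F : Type*} [Field F] [Fintype F] [CharP F 2] {m : ℕ} (hm : 1 ≤ m) : Nat.card {C : ConjClasses ↥(Matrix.symplecticGroup (Fin m) F) // ∃ g : Matrix.symplecticGroup (Fin m) F, ConjClasses.mk g = C ∧ orderOf g = 2} = m + m / 2 := by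
  classical
  have hA : ∀ k : Fin m, ∃ g : ↥(symplecticGroup (Fin m) F), orderOf g = 2 ∧
      ((g : Matrix (Fin m ⊕ Fin m) (Fin m ⊕ Fin m) F) - 1).rank = k.val + 1 ∧
      ¬ TypeA (g : Matrix (Fin m ⊕ Fin m) (Fin m ⊕ Fin m) F) :=
    fun k => exists_nonalt (k.val + 1) (by omega) (by omega)
  have hB : ∀ k : Fin (m / 2), ∃ g : ↥(symplecticGroup (Fin m) F), orderOf g = 2 ∧
      ((g : Matrix (Fin m ⊕ Fin m) (Fin m ⊕ Fin m) F) - 1).rank = 2 * (k.val + 1) ∧
      TypeA (g : Matrix (Fin m ⊕ Fin m) (Fin m ⊕ Fin m) F) :=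
    fun k => exists_alt (2 * (k.val + 1)) (by omega) (by have := k.2; omega) ⟨k.val + 1, by ring⟩
  choose repA hA1 hA2 hA3 using hA
  choose repB hB1 hB2 hB3 using hB
  let rep : Fin m ⊕ Fin (m / 2) → ↥(symplecticGroup (Fin m) F) := Sum.elim repA repB
  have hrep : ∀ x, orderOf (rep x) = 2 := by
    intro x
    cases x with
    | inl k => exact hA1 k
    | inr k => exact hB1 k
  let φ : Fin m ⊕ Fin (m / 2) → {C : ConjClasses ↥(Matrix.symplecticGroup (Fin m) F) //
      ∃ g : Matrix.symplecticGroup (Fin m) F, ConjClasses.mk g = C ∧ orderOf g = 2} :=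
    fun x => ⟨ConjClasses.mk (rep x), rep x, rfl, hrep x⟩
  have hconj : ∀ a b : ↥(symplecticGroup (Fin m) F), IsConj a b →
      ((a : Matrix (Fin m ⊕ Fin m) (Fin m ⊕ Fin m) F) - 1).rank =
        ((b : Matrix (Fin m ⊕ Fin m) (Fin m ⊕ Fin m) F) - 1).rank ∧
      (TypeA (a : Matrix (Fin m ⊕ Fin m) (Fin m ⊕ Fin m) F) ↔
        TypeA (b : Matrix (Fin m ⊕ Fin m) (Fin m ⊕ Fin m) F)) := by
    intro a b hab
    obtain ⟨c, hc⟩ := isConj_iff.mp hab
    have h1 := conj_invariants a b c hc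
    have hc' : c⁻¹ * b * c⁻¹⁻¹ = a := by
      rw [← hc]; group
    have h2 := conj_invariants b a c⁻¹ hc'
    exact ⟨h1.1, h1.2, h2.2⟩
  have hφ : Function.Bijective φ := by
    constructor
    · intro x y hxy
      have h1 : ConjClasses.mk (rep x) = ConjClasses.mk (rep y) := congrArg Subtype.val hxy
      rw [ConjClasses.mk_eq_mk_iff_isConj] at h1
      obtain ⟨hr, ht⟩ := hconj _ _ h1
      cases x with
      | inl k =>
        cases y with
        | inl k' =>
          have : k.val + 1 = k'.val + 1 := by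
            rw [← hA2 k, ← hA2 k']; exact hr
          congr 1
          ext
          omega
        | inr k' =>
          exact absurd (ht.mpr (hB3 k')) (hA3 k)
      | inr k =>
        cases y with
        | inl k' =>
          exact absurd (ht.mp (hB3 k)) (hA3 k')
        | inr k' =>
          have : 2 * (k.val + 1) = 2 * (k'.val + 1) := by
            rw [← hB2 k, ← hB2 k']; exact hr
          congr 1
          ext
          omega
    · rintro ⟨C, g, rfl, hg⟩
      have hr1 := rank_pos_of_orderOf g hg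
      have hr2 := rank_le_of_orderOf g hg
      have hgg := coe_mul_self_of_orderOf g hg
      have key : ∀ x, ((rep x : Matrix (Fin m ⊕ Fin m) (Fin m ⊕ Fin m) F) - 1).rank =
          ((g : Matrix (Fin m ⊕ Fin m) (Fin m ⊕ Fin m) F) - 1).rank →
          (TypeA (rep x : Matrix (Fin m ⊕ Fin m) (Fin m ⊕ Fin m) F) ↔
            TypeA (g : Matrix (Fin m ⊕ Fin m) (Fin m ⊕ Fin m) F)) → φ x = ⟨ConjClasses.mk g, g, rfl, hg⟩ := by
        intro x hx1 hx2
        apply Subtype.ext
        show ConjClasses.mk (rep x) = ConjClasses.mk g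
        rw [ConjClasses.mk_eq_mk_iff_isConj]
        obtain ⟨G0, hG0, hG⟩ := Cfsg.Agent.S2166.exists_conj_matrix
          (rep x : Matrix (Fin m ⊕ Fin m) (Fin m ⊕ Fin m) F)
          (g : Matrix (Fin m ⊕ Fin m) (Fin m ⊕ Fin m) F) (rep x).2 g.2
          (coe_mul_self_of_orderOf _ (hrep x)) hgg hx1 hx2
        rw [isConj_iff]
        refine ⟨⟨G0, hG0⟩, ?_⟩
        rw [mul_inv_eq_iff_eq_mul]
        apply Subtype.ext
        exact hG
      by_cases hT : TypeA (g : Matrix (Fin m ⊕ Fin m) (Fin m ⊕ Fin m) F)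
      · have hev : Even ((g : Matrix (Fin m ⊕ Fin m) (Fin m ⊕ Fin m) F) - 1).rank :=
          Cfsg.Agent.S2167.even_part _ hT
        obtain ⟨r, hr⟩ := hev
        have hk : r - 1 < m / 2 := by omega
        refine ⟨Sum.inr ⟨r - 1, hk⟩, key _ ?_ ?_⟩
        · show ((repB ⟨r - 1, hk⟩ : Matrix (Fin m ⊕ Fin m) (Fin m ⊕ Fin m) F) - 1).rank = _
          rw [hB2]
          show 2 * (r - 1 + 1) = _
          omega
        · exact ⟨fun _ => hT, fun _ => hB3 _⟩
      · have hk : ((g : Matrix (Fin m ⊕ Fin m) (Fin m ⊕ Fin m) F) - 1).rank - 1 < m := by omega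
        refine ⟨Sum.inl ⟨_, hk⟩, key _ ?_ ?_⟩
        · show ((repA ⟨_, hk⟩ : Matrix (Fin m ⊕ Fin m) (Fin m ⊕ Fin m) F) - 1).rank = _
          rw [hA2]
          show _ - 1 + 1 = _
          omega
        · exact ⟨fun h => absurd h (hA3 _), fun h => absurd h hT⟩
  rw [← Nat.card_congr (Equiv.ofBijective φ hφ), Nat.card_sum, Nat.card_fin, Nat.card_fin]

end Cfsg.Agent.S2593
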