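import Cfsg.Statements.S2595
import Cfsg.Agent.S2593
import Cfsg.Agent.S2168
import Cfsg.Agent.Lib.Helper43.OrthInvolClasses

set_option autoImplicit false
open Cfsg

namespace Cfsg.Agent.S2595

open Matrix Cfsg.Agent.Lib.Helper43 Cfsg.Agent.S2593 Cfsg.Agent.S2168

section

variable {F : Type*} [Field F] {m : ℕ}

/-- A matrix of order dividing two as an element of `GL`. -/
def glOfSq (A : Matrix (Fin m ⊕ Fin m) (Fin m ⊕ Fin m) F) (h : A * A = 1) : GL (Fin m ⊕ Fin m) F :=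
  ⟨A, A, h, h⟩

theorem quadFormPlus_eq (v : Fin m ⊕ Fin m → F) :
    Cfsg.quadFormPlus m F v = (v ∘ Sum.inl) ⬝ᵥ (v ∘ Sum.inr) := rfl

theorem tmat_mulVec (S : Matrix (Fin m) (Fin m) F) (v : Fin m ⊕ Fin m → F) :
    tmat S *ᵥ v = Sum.elim (v ∘ Sum.inl + S *ᵥ (v ∘ Sum.inr)) (v ∘ Sum.inr) := by
  have hv : v = Sum.elim (v ∘ Sum.inl) (v ∘ Sum.inr) := by
    ext i; cases i <;> rfl
  unfold tmat
  conv_lhs => rw [hv]
  rw [fromBlocks_mulVec]
  simp

theorem umat_mulVec (S : Matrix (Fin m) (Fin m) F) (v : Fin m ⊕ Fin m → F) :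
    umat S *ᵥ v = Sum.elim (S *ᵥ (v ∘ Sum.inr)) 0 := by
  have hv : v = Sum.elim (v ∘ Sum.inl) (v ∘ Sum.inr) := by
    ext i; cases i <;> rfl
  unfold umat
  conv_lhs => rw [hv]
  rw [fromBlocks_mulVec]
  simp

theorem quadFormPlus_tmat (S : Matrix (Fin m) (Fin m) F) (v : Fin m ⊕ Fin m → F) :
    Cfsg.quadFormPlus m F (tmat S *ᵥ v) =
      Cfsg.quadFormPlus m F v + (v ∘ Sum.inr) ⬝ᵥ (S *ᵥ (v ∘ Sum.inr)) := by
  rw [quadFormPlus_eq, quadFormPlus_eq, tmat_mulVec]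
  simp only [Sum.elim_comp_inl, Sum.elim_comp_inr, add_dotProduct]
  rw [dotProduct_comm (S *ᵥ (v ∘ Sum.inr))]

theorem plusB_umat (S : Matrix (Fin m) (Fin m) F) (v : Fin m ⊕ Fin m → F) :
    plusB m F v (umat S *ᵥ v) = (v ∘ Sum.inr) ⬝ᵥ (S *ᵥ (v ∘ Sum.inr)) := by
  rw [plusB_apply, umat_mulVec]
  simp only [Sum.elim_inl, Sum.elim_inr, Pi.zero_apply, mul_zero, zero_add, dotProduct,
    Function.comp_apply]
  apply Finset.sum_congr rfl
  intro i _
  ring

/-- The matrix swapping `x_i ↔ y_i` for `i < s` (in characteristic two). -/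
def wmat (s : ℕ) : Matrix (Fin m ⊕ Fin m) (Fin m ⊕ Fin m) F :=
  fromBlocks (1 + diagonal (dvec s : Fin m → F)) (diagonal (dvec s : Fin m → F))
    (diagonal (dvec s : Fin m → F)) (1 + diagonal (dvec s : Fin m → F))

/-- The matrix `[D D; D D]`. -/
def dmat (s : ℕ) : Matrix (Fin m ⊕ Fin m) (Fin m ⊕ Fin m) F :=
  fromBlocks (diagonal (dvec s : Fin m → F)) (diagonal (dvec s : Fin m → F))
    (diagonal (dvec s : Fin m → F)) (diagonal (dvec s : Fin m → F))

theorem wmat_sq [CharP F 2] (s : ℕ) : (wmat s : Matrix (Fin m ⊕ Fin m) (Fin m ⊕ Fin m) F) * wmat s = 1 := by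
  unfold wmat
  rw [fromBlocks_multiply]
  set D : Matrix (Fin m) (Fin m) F := diagonal (dvec s : Fin m → F)
  have h2 : ∀ M : Matrix (Fin m) (Fin m) F, M + M = 0 := by
    intro M
    ext i j
    simp [CharTwo.add_self_eq_zero]
  have e1 : (1 + D) * (1 + D) + D * D = 1 + (D + D) + (D * D + D * D) := by noncomm_ring
  have e2 : (1 + D) * D + D * (1 + D) = (D + D) + (D * D + D * D) := by noncomm_ring
  have e3 : D * (1 + D) + (1 + D) * D = (D + D) + (D * D + D * D) := by noncomm_ring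
  have e4 : D * D + (1 + D) * (1 + D) = 1 + (D + D) + (D * D + D * D) := by noncomm_ring
  rw [e1, e2, e3, e4, h2, h2, add_zero, add_zero, add_zero, fromBlocks_one]

theorem wmat_sub_one (s : ℕ) : (wmat s : Matrix (Fin m ⊕ Fin m) (Fin m ⊕ Fin m) F) - 1 = dmat s := by
  unfold wmat dmat
  rw [← fromBlocks_one, sub_eq_add_neg, fromBlocks_neg, fromBlocks_add]
  simp

theorem rank_dmat (s : ℕ) (hs : s ≤ m) : (dmat s : Matrix (Fin m ⊕ Fin m) (Fin m ⊕ Fin m) F).rank = s := by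
  set D : Matrix (Fin m) (Fin m) F := diagonal (dvec s : Fin m → F) with hD
  have hDr : D.rank = s := rank_diagonal_dvec s hs
  apply le_antisymm
  · have h1 : (dmat s : Matrix (Fin m ⊕ Fin m) (Fin m ⊕ Fin m) F) =
        fromRows D D * fromCols (1 : Matrix (Fin m) (Fin m) F) 1 := by
      rw [fromRows_mul_fromCols]
      simp [dmat, hD]
    have h2 : fromRows D D = fromRows (1 : Matrix (Fin m) (Fin m) F) 1 * D := by
      rw [fromRows_mul]
      simp
    rw [h1]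
    refine (rank_mul_le_left _ _).trans ?_
    rw [h2]
    refine (rank_mul_le_right _ _).trans ?_
    rw [hDr]
  · have h : D = (dmat s : Matrix (Fin m ⊕ Fin m) (Fin m ⊕ Fin m) F).submatrix Sum.inl Sum.inl := by
      ext i j
      simp [dmat, hD]
    have h3 : D.rank ≤ (dmat s : Matrix (Fin m ⊕ Fin m) (Fin m ⊕ Fin m) F).rank := by
      conv_lhs => rw [h]
      exact rank_submatrix_le _ _ _
    omega

theorem dmat_mulVec (s : ℕ) (v : Fin m ⊕ Fin m → F) :
    (dmat s : Matrix (Fin m ⊕ Fin m) (Fin m ⊕ Fin m) F) *ᵥ v =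
      Sum.elim (fun i => dvec s i * (v (Sum.inl i) + v (Sum.inr i)))
        (fun i => dvec s i * (v (Sum.inl i) + v (Sum.inr i))) := by
  have hv : v = Sum.elim (v ∘ Sum.inl) (v ∘ Sum.inr) := by
    ext i; cases i <;> rfl
  unfold dmat
  conv_lhs => rw [hv]
  rw [fromBlocks_mulVec]
  ext i
  cases i <;> simp [mulVec_diagonal, mul_add]

theorem wmat_mulVec (s : ℕ) (v : Fin m ⊕ Fin m → F) :
    (wmat s : Matrix (Fin m ⊕ Fin m) (Fin m ⊕ Fin m) F) *ᵥ v = v + dmat s *ᵥ v := by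
  rw [← wmat_sub_one, sub_mulVec, one_mulVec, add_sub_cancel]

theorem quadFormPlus_wmat [CharP F 2] (s : ℕ) (v : Fin m ⊕ Fin m → F) :
    Cfsg.quadFormPlus m F ((wmat s : Matrix (Fin m ⊕ Fin m) (Fin m ⊕ Fin m) F) *ᵥ v) =
      Cfsg.quadFormPlus m F v := by
  rw [wmat_mulVec, dmat_mulVec]
  unfold Cfsg.quadFormPlus
  apply Finset.sum_congr rfl
  intro i _
  simp only [Pi.add_apply, Sum.elim_inl, Sum.elim_inr]
  have hx : v (Sum.inl i) + v (Sum.inl i) = 0 := CharTwo.add_self_eq_zero _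
  have hy : v (Sum.inr i) + v (Sum.inr i) = 0 := CharTwo.add_self_eq_zero _
  unfold dvec
  by_cases h : i.val < s
  · rw [if_pos h]
    linear_combination (v (Sum.inl i) + v (Sum.inr i)) * hx + (v (Sum.inl i) + v (Sum.inr i)) * hy
  · rw [if_neg h]
    ring

theorem plusB_dmat (s : ℕ) (v : Fin m ⊕ Fin m → F) :
    plusB m F v ((dmat s : Matrix (Fin m ⊕ Fin m) (Fin m ⊕ Fin m) F) *ᵥ v) =
      ∑ i : Fin m, dvec s i * (v (Sum.inl i) + v (Sum.inr i)) ^ 2 := by
  rw [plusB_apply, dmat_mulVec]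
  apply Finset.sum_congr rfl
  intro i _
  simp only [Sum.elim_inl, Sum.elim_inr]
  ring

theorem exists_nonalt [CharP F 2] (s : ℕ) (hs1 : 1 ≤ s) (hs : s ≤ m) :
    ∃ g : ↥(Cfsg.isometryGroup F (⇑(plusQF m F))), orderOf g = 2 ∧
      (((g : GL (Fin m ⊕ Fin m) F) : Matrix (Fin m ⊕ Fin m) (Fin m ⊕ Fin m) F) - 1).rank = s ∧
      ¬ OrthTypeA (plusQF m F) ((g : GL (Fin m ⊕ Fin m) F) : Matrix (Fin m ⊕ Fin m) (Fin m ⊕ Fin m) F) := by
  have hmem : glOfSq (wmat s : Matrix (Fin m ⊕ Fin m) (Fin m ⊕ Fin m) F) (wmat_sq s) ∈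
      Cfsg.isometryGroup F (⇑(plusQF m F)) := by
    intro u v
    exact quadFormPlus_wmat s u
  have hrank : ((wmat s : Matrix (Fin m ⊕ Fin m) (Fin m ⊕ Fin m) F) - 1).rank = s := by
    rw [wmat_sub_one, rank_dmat s hs]
  refine ⟨⟨_, hmem⟩, ?_, hrank, ?_⟩
  · apply orth_orderOf_eq_two
    · exact wmat_sq s
    · show 1 ≤ ((wmat s : Matrix (Fin m ⊕ Fin m) (Fin m ⊕ Fin m) F) - 1).rank
      rw [hrank]; exact hs1
  · intro hA
    have h0 : 0 < m := by omega
    have h : QuadraticMap.polar (⇑(plusQF m F)) (Pi.single (Sum.inl ⟨0, h0⟩) 1)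
        (((wmat s : Matrix (Fin m ⊕ Fin m) (Fin m ⊕ Fin m) F) - 1) *ᵥ
          (Pi.single (Sum.inl ⟨0, h0⟩) 1)) = 0 :=
      hA (Pi.single (Sum.inl ⟨0, h0⟩) 1)
    rw [plusQF_polar, wmat_sub_one, plusB_dmat, Finset.sum_eq_single (⟨0, h0⟩ : Fin m)] at h
    · unfold dvec at h
      rw [if_pos (show (⟨0, h0⟩ : Fin m).val < s from hs1)] at h
      simp at h
    · intro i _ hi
      have : (Pi.single (Sum.inl ⟨0, h0⟩) 1 : Fin m ⊕ Fin m → F) (Sum.inl i) = 0 := by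
        rw [Pi.single_apply, if_neg]
        intro hcon
        exact hi (Sum.inl.inj hcon)
      rw [this]
      simp
    · intro hcon
      exact absurd (Finset.mem_univ _) hcon

theorem exists_alt [CharP F 2] (s : ℕ) (hs1 : 1 ≤ s) (hs : s ≤ m) (he : Even s) :
    ∃ g : ↥(Cfsg.isometryGroup F (⇑(plusQF m F))), orderOf g = 2 ∧
      (((g : GL (Fin m ⊕ Fin m) F) : Matrix (Fin m ⊕ Fin m) (Fin m ⊕ Fin m) F) - 1).rank = s ∧
      OrthTypeA (plusQF m F) ((g : GL (Fin m ⊕ Fin m) F) : Matrix (Fin m ⊕ Fin m) (Fin m ⊕ Fin m) F) := by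
  have halt : ∀ y : Fin m → F, y ⬝ᵥ ((amat s : Matrix (Fin m) (Fin m) F) *ᵥ y) = 0 :=
    dotProduct_mulVec_self_eq_zero _ (amat_transpose s hs he) (amat_diag s hs he)
  have hmem : glOfSq (tmat (amat s : Matrix (Fin m) (Fin m) F)) (tmat_sq _) ∈
      Cfsg.isometryGroup F (⇑(plusQF m F)) := by
    intro u v
    show Cfsg.quadFormPlus m F (tmat (amat s : Matrix (Fin m) (Fin m) F) *ᵥ u) = Cfsg.quadFormPlus m F u
    rw [quadFormPlus_tmat, halt, add_zero]
  have hrank : (tmat (amat s : Matrix (Fin m) (Fin m) F) - 1).rank = s := by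
    rw [tmat_rank, rank_amat s hs]
  refine ⟨⟨_, hmem⟩, ?_, hrank, ?_⟩
  · apply orth_orderOf_eq_two
    · exact tmat_sq _
    · show 1 ≤ (tmat (amat s : Matrix (Fin m) (Fin m) F) - 1).rank
      rw [hrank]; exact hs1
  · intro v
    show QuadraticMap.polar (⇑(plusQF m F)) v
      ((tmat (amat s : Matrix (Fin m) (Fin m) F) - 1) *ᵥ v) = 0
    rw [plusQF_polar, tmat_sub_one, plusB_umat, halt]

end

/-- Number of conjugacy classes of involutions in the full orthogonal group O⁺_2m(F) of the hyperbolic quadratic form Σ x_i y_i over a finite field of characteristic two (m ≥ 1): one class for each odd s ≤ m and two for each even s with 2 ≤ s ≤ m, where s = rank(t − 1); in all m + ⌊m/2⌋. -/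
theorem result {F : Type*} [Field F] [Fintype F] [CharP F 2] {m : ℕ} (hm : 1 ≤ m) : Nat.card {C : ConjClasses ↥(Cfsg.isometryGroup F (Cfsg.quadFormPlus m F)) // ∃ g : ↥(Cfsg.isometryGroup F (Cfsg.quadFormPlus m F)), ConjClasses.mk g = C ∧ orderOf g = 2} = m + m / 2 := by
  classical
  have hA : ∀ k : Fin m, ∃ g : ↥(Cfsg.isometryGroup F (⇑(plusQF m F))), orderOf g = 2 ∧
      (((g : GL (Fin m ⊕ Fin m) F) : Matrix (Fin m ⊕ Fin m) (Fin m ⊕ Fin m) F) - 1).rank = k.val + 1 ∧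
      ¬ OrthTypeA (plusQF m F) ((g : GL (Fin m ⊕ Fin m) F) : Matrix (Fin m ⊕ Fin m) (Fin m ⊕ Fin m) F) :=
    fun k => exists_nonalt (k.val + 1) (by omega) (by omega)
  have hB : ∀ k : Fin (m / 2), ∃ g : ↥(Cfsg.isometryGroup F (⇑(plusQF m F))), orderOf g = 2 ∧
      (((g : GL (Fin m ⊕ Fin m) F) : Matrix (Fin m ⊕ Fin m) (Fin m ⊕ Fin m) F) - 1).rank = 2 * (k.val + 1) ∧
      OrthTypeA (plusQF m F) ((g : GL (Fin m ⊕ Fin m) F) : Matrix (Fin m ⊕ Fin m) (Fin m ⊕ Fin m) F) :=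
    fun k => exists_alt (2 * (k.val + 1)) (by omega) (by have := k.2; omega) ⟨k.val + 1, by ring⟩
  choose repA hA1 hA2 hA3 using hA
  choose repB hB1 hB2 hB3 using hB
  let rep : Fin m ⊕ Fin (m / 2) → ↥(Cfsg.isometryGroup F (⇑(plusQF m F))) := Sum.elim repA repB
  have hrep : ∀ x, orderOf (rep x) = 2 := by
    intro x
    cases x with
    | inl k => exact hA1 k
    | inr k => exact hB1 k
  have hcount := card_orth_involution_classes (plusQF m F) (plusQF_nondeg m F) rep hrep ?_ ?_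
  · rw [Nat.card_sum, Nat.card_fin, Nat.card_fin] at hcount
    exact hcount
  · intro x y hr ht
    cases x with
    | inl k =>
      cases y with
      | inl k' =>
        have : k.val + 1 = k'.val + 1 := by
          rw [← hA2 k, ← hA2 k']; exact hr
        congr 1
        ext
        omega
      | inr k' =>
        exact absurd (ht.mpr (hB3 k')) (hA3 k)
    | inr k =>
      cases y with
      | inl k' =>
        exact absurd (ht.mp (hB3 k)) (hA3 k')
      | inr k' =>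
        have : 2 * (k.val + 1) = 2 * (k'.val + 1) := by
          rw [← hB2 k, ← hB2 k']; exact hr
        congr 1
        ext
        omega
  · intro g hg
    have hr1 := orth_rank_pos _ g hg
    have hr2 := orth_rank_le _ g hg
    simp only [Fintype.card_sum, Fintype.card_fin] at hr2
    by_cases hT : OrthTypeA (plusQF m F) ((g : GL (Fin m ⊕ Fin m) F) : Matrix (Fin m ⊕ Fin m) (Fin m ⊕ Fin m) F)
    · have hev := orth_even_rank_of_typeA (plusQF m F) (plusQF_nondeg m F) _ hT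
      obtain ⟨r, hr⟩ := hev
      have hk : r - 1 < m / 2 := by omega
      refine ⟨Sum.inr ⟨r - 1, hk⟩, ?_, ?_⟩
      · show (((repB ⟨r - 1, hk⟩ : GL (Fin m ⊕ Fin m) F) : Matrix (Fin m ⊕ Fin m) (Fin m ⊕ Fin m) F) - 1).rank = _
        rw [hB2]
        show 2 * (r - 1 + 1) = _
        omega
      · exact ⟨fun _ => hT, fun _ => hB3 _⟩
    · have hk : (((g : GL (Fin m ⊕ Fin m) F) : Matrix (Fin m ⊕ Fin m) (Fin m ⊕ Fin m) F) - 1).rank - 1 < m := by
        omega
      refine ⟨Sum.inl ⟨_, hk⟩, ?_, ?_⟩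
      · show (((repA ⟨_, hk⟩ : GL (Fin m ⊕ Fin m) F) : Matrix (Fin m ⊕ Fin m) (Fin m ⊕ Fin m) F) - 1).rank = _
        rw [hA2]
        show _ - 1 + 1 = _
        omega
      · exact ⟨fun h => absurd h (hA3 _), fun h => absurd h hT⟩

end Cfsg.Agent.S2595
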