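import Cfsg.Statements.S2597
import Cfsg.Agent.S2595
import Cfsg.Agent.Lib.Helper43.OmegaSplit

set_option autoImplicit false
open Cfsg

namespace Cfsg.Agent.S2597

open Matrix Module Cfsg.Agent.Lib.Helper43 Cfsg.Agent.Lib.Helper36 Cfsg.Agent.S2168

section

variable {F : Type*} [Field F] [CharP F 2] {m : ℕ}

/-- The fixed space of an involution is not totally singular unless the involution is of alternating
type with `t - 1` of rank `m`. -/
theorem not_ts_fixSp (g : ↥(Cfsg.isometryGroup F (⇑(plusQF m F)))) (hg : orderOf g = 2)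
    (h : ¬ (OrthTypeA (plusQF m F) ((g : GL (Fin m ⊕ Fin m) F) : Matrix (Fin m ⊕ Fin m) (Fin m ⊕ Fin m) F) ∧
      (((g : GL (Fin m ⊕ Fin m) F) : Matrix (Fin m ⊕ Fin m) (Fin m ⊕ Fin m) F) - 1).rank = m)) :
    ¬ IsTS (plusQF m F)
      (fixSp ((g : GL (Fin m ⊕ Fin m) F) : Matrix (Fin m ⊕ Fin m) (Fin m ⊕ Fin m) F).mulVecLin) := by
  intro hts
  set A : Matrix (Fin m ⊕ Fin m) (Fin m ⊕ Fin m) F :=
    ((g : GL (Fin m ⊕ Fin m) F) : Matrix (Fin m ⊕ Fin m) (Fin m ⊕ Fin m) F) with hA
  have hAA : A * A = 1 := orth_coe_mul_self _ g hg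
  have hNN : (A - 1) * (A - 1) = 0 := Cfsg.Agent.Lib.Helper36.sub_one_mul_self_gen A hAA
  by_cases hT : OrthTypeA (plusQF m F) A
  · -- alternating type of rank < m
    have hr2 : 2 * (A - 1).rank ≤ Fintype.card (Fin m ⊕ Fin m) := orth_rank_le _ g hg
    simp only [Fintype.card_sum, Fintype.card_fin] at hr2
    have hlt : (A - 1).rank < m := by
      have hne : (A - 1).rank ≠ m := fun hh => h ⟨hT, hh⟩
      omega
    set W := fixSp A.mulVecLin with hW
    have hsub : (A - 1).mulVecLin = A.mulVecLin - LinearMap.id := by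
      apply LinearMap.ext
      intro v
      simp
    have hrn : finrank F (LinearMap.range (A - 1).mulVecLin) + finrank F W =
        finrank F (Fin m ⊕ Fin m → F) := by
      rw [hW]
      unfold fixSp
      rw [← hsub]
      exact LinearMap.finrank_range_add_finrank_ker _
    have hV : finrank F (Fin m ⊕ Fin m → F) = m + m := by
      rw [Module.finrank_fintype_fun_eq_card]
      simp
    have hle : W ≤ LinearMap.BilinForm.orthogonal (QuadraticMap.polarBilin (plusQF m F)) W := by
      intro x hx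
      rw [LinearMap.BilinForm.mem_orthogonal_iff]
      intro n hn
      exact hts.polar_eq_zero hn hx
    have h1 := Submodule.finrank_mono hle
    rw [LinearMap.BilinForm.finrank_orthogonal (plusQF_nondeg m F)] at h1
    have hrk : finrank F (LinearMap.range (A - 1).mulVecLin) = (A - 1).rank := rfl
    omega
  · -- non-alternating type
    unfold OrthTypeA at hT
    push Not at hT
    obtain ⟨v, hv⟩ := hT
    set u := (A - 1) *ᵥ v with hu
    have hufix : u ∈ fixSp A.mulVecLin := by
      rw [mem_fixSp, mulVecLin_apply]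
      have : A *ᵥ u = u + (A - 1) *ᵥ u := by
        rw [sub_mulVec, one_mulVec, add_sub_cancel]
      rw [this, hu, mulVec_mulVec, hNN, zero_mulVec, add_zero]
    have h1 : (plusQF m F) (A *ᵥ v) = (plusQF m F) v := orth_apply (⇑(plusQF m F)) g v
    have h2 : A *ᵥ v = v + u := by
      rw [hu, sub_mulVec, one_mulVec, add_sub_cancel]
    rw [h2, QuadraticMap.map_add (plusQF m F) v u, hts u hufix, add_zero] at h1
    exact hv (left_eq_add.mp h1.symm)

end

/-- Number of conjugacy classes of involutions in Ω⁺_2m(F) (the commutator subgroup of the orthogonal group of Σ x_i y_i) over a finite field F of characteristic two, m ≥ 1, excluding the case m = 2 over the field of two elements: the involutions of Ω are those with s = rank(t − 1) even, giving two O-classes for each even s with 2 ≤ s ≤ m, each of which is a single Ω-class except that for m even the class with s = m and v ↦ f(v, tv) identically zero splits in two; in all 2⌊m/2⌋ + 1 classes if m is even and 2⌊m/2⌋ if m is odd.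 -/
theorem result {F : Type*} [Field F] [Fintype F] [CharP F 2] {m : ℕ} (hm : 1 ≤ m) (h : Fintype.card F ≠ 2 ∨ m ≠ 2) : Nat.card {C : ConjClasses ↥(Cfsg.Omega F (Cfsg.quadFormPlus m F)) // ∃ g : ↥(Cfsg.Omega F (Cfsg.quadFormPlus m F)), ConjClasses.mk g = C ∧ orderOf g = 2} = 2 * (m / 2) + (if Even m then 1 else 0) := by
  classical
  have hsq : ∀ a : F, IsSquare a := fun a => FiniteField.isSquare_of_char_two (ringChar.eq F 2) a
  have hnd := plusQF_nondeg m F
  have hF : (∀ a b : F, ∃ x : F, x ≠ a ∧ x ≠ b) ∨ Fintype.card (Fin m ⊕ Fin m) ≠ 4 := by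
    rcases h with hF2 | hm2
    · left
      intro x y
      have h3 : 2 < Fintype.card F := by
        have : 1 < Fintype.card F := Fintype.one_lt_card
        omega
      have hlt : ({x, y} : Finset F).card < (Finset.univ : Finset F).card := by
        rw [Finset.card_univ]
        exact lt_of_le_of_lt Finset.card_le_two h3
      obtain ⟨z, _, hz⟩ := Finset.exists_mem_notMem_of_card_lt_card hlt
      rw [Finset.mem_insert, Finset.mem_singleton] at hz
      push Not at hz
      exact ⟨z, hz.1, hz.2⟩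
    · right
      rw [Fintype.card_sum, Fintype.card_fin]
      omega
  have hA : ∀ j : Fin (m / 2), ∃ g : ↥(Cfsg.isometryGroup F (⇑(plusQF m F))), orderOf g = 2 ∧
      (((g : GL (Fin m ⊕ Fin m) F) : Matrix (Fin m ⊕ Fin m) (Fin m ⊕ Fin m) F) - 1).rank = 2 * (j.val + 1) ∧
      ¬ OrthTypeA (plusQF m F) ((g : GL (Fin m ⊕ Fin m) F) : Matrix (Fin m ⊕ Fin m) (Fin m ⊕ Fin m) F) :=
    fun j => Cfsg.Agent.S2595.exists_nonalt (2 * (j.val + 1)) (by omega) (by have := j.2; omega)
  have hB : ∀ j : Fin (m / 2), ∃ g : ↥(Cfsg.isometryGroup F (⇑(plusQF m F))), orderOf g = 2 ∧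
      (((g : GL (Fin m ⊕ Fin m) F) : Matrix (Fin m ⊕ Fin m) (Fin m ⊕ Fin m) F) - 1).rank = 2 * (j.val + 1) ∧
      OrthTypeA (plusQF m F) ((g : GL (Fin m ⊕ Fin m) F) : Matrix (Fin m ⊕ Fin m) (Fin m ⊕ Fin m) F) :=
    fun j => Cfsg.Agent.S2595.exists_alt (2 * (j.val + 1)) (by omega) (by have := j.2; omega)
      ⟨j.val + 1, by ring⟩
  choose repA hA1 hA2 hA3 using hA
  choose repB hB1 hB2 hB3 using hB
  let rep : Fin (m / 2) ⊕ Fin (m / 2) → ↥(Cfsg.isometryGroup F (⇑(plusQF m F))) := Sum.elim repA repB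
  have hrep : ∀ x, orderOf (rep x) = 2 := by
    intro x
    cases x with
    | inl j => exact hA1 j
    | inr j => exact hB1 j
  have heven : ∀ x, Even (((rep x : GL (Fin m ⊕ Fin m) F) :
      Matrix (Fin m ⊕ Fin m) (Fin m ⊕ Fin m) F) - 1).rank := by
    intro x
    cases x with
    | inl j =>
      show Even (((repA j : GL (Fin m ⊕ Fin m) F) : Matrix (Fin m ⊕ Fin m) (Fin m ⊕ Fin m) F) - 1).rank
      rw [hA2]
      exact ⟨j.val + 1, by ring⟩
    | inr j =>
      show Even (((repB j : GL (Fin m ⊕ Fin m) F) : Matrix (Fin m ⊕ Fin m) (Fin m ⊕ Fin m) F) - 1).rank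
      rw [hB2]
      exact ⟨j.val + 1, by ring⟩
  have hinj : ∀ x y, (((rep x : GL (Fin m ⊕ Fin m) F) : Matrix (Fin m ⊕ Fin m) (Fin m ⊕ Fin m) F) - 1).rank =
        (((rep y : GL (Fin m ⊕ Fin m) F) : Matrix (Fin m ⊕ Fin m) (Fin m ⊕ Fin m) F) - 1).rank →
      (OrthTypeA (plusQF m F) ((rep x : GL (Fin m ⊕ Fin m) F) : Matrix (Fin m ⊕ Fin m) (Fin m ⊕ Fin m) F) ↔
        OrthTypeA (plusQF m F) ((rep y : GL (Fin m ⊕ Fin m) F) : Matrix (Fin m ⊕ Fin m) (Fin m ⊕ Fin m) F)) →
      x = y := by
    intro x y hr ht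
    cases x with
    | inl j =>
      cases y with
      | inl j' =>
        have : 2 * (j.val + 1) = 2 * (j'.val + 1) := by
          rw [← hA2 j, ← hA2 j']; exact hr
        congr 1
        ext
        omega
      | inr j' =>
        exact absurd (ht.mpr (hB3 j')) (hA3 j)
    | inr j =>
      cases y with
      | inl j' =>
        exact absurd (ht.mp (hB3 j)) (hA3 j')
      | inr j' =>
        have : 2 * (j.val + 1) = 2 * (j'.val + 1) := by
          rw [← hB2 j, ← hB2 j']; exact hr
        congr 1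
        ext
        omega
  have hsurj : ∀ g : ↥(Cfsg.isometryGroup F (⇑(plusQF m F))), orderOf g = 2 →
      Even (((g : GL (Fin m ⊕ Fin m) F) : Matrix (Fin m ⊕ Fin m) (Fin m ⊕ Fin m) F) - 1).rank →
      ∃ x, (((rep x : GL (Fin m ⊕ Fin m) F) : Matrix (Fin m ⊕ Fin m) (Fin m ⊕ Fin m) F) - 1).rank =
          (((g : GL (Fin m ⊕ Fin m) F) : Matrix (Fin m ⊕ Fin m) (Fin m ⊕ Fin m) F) - 1).rank ∧
        (OrthTypeA (plusQF m F) ((rep x : GL (Fin m ⊕ Fin m) F) : Matrix (Fin m ⊕ Fin m) (Fin m ⊕ Fin m) F) ↔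
          OrthTypeA (plusQF m F) ((g : GL (Fin m ⊕ Fin m) F) : Matrix (Fin m ⊕ Fin m) (Fin m ⊕ Fin m) F)) := by
    intro g hg hge
    have hr1 := orth_rank_pos _ g hg
    have hr2 := orth_rank_le _ g hg
    simp only [Fintype.card_sum, Fintype.card_fin] at hr2
    obtain ⟨r, hr⟩ := hge
    have hk : r - 1 < m / 2 := by omega
    by_cases hT : OrthTypeA (plusQF m F) ((g : GL (Fin m ⊕ Fin m) F) : Matrix (Fin m ⊕ Fin m) (Fin m ⊕ Fin m) F)
    · refine ⟨Sum.inr ⟨r - 1, hk⟩, ?_, ?_⟩
      · show (((repB ⟨r - 1, hk⟩ : GL (Fin m ⊕ Fin m) F) : Matrix (Fin m ⊕ Fin m) (Fin m ⊕ Fin m) F) - 1).rank = _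
        rw [hB2]
        show 2 * (r - 1 + 1) = _
        omega
      · exact ⟨fun _ => hT, fun _ => hB3 _⟩
    · refine ⟨Sum.inl ⟨r - 1, hk⟩, ?_, ?_⟩
      · show (((repA ⟨r - 1, hk⟩ : GL (Fin m ⊕ Fin m) F) : Matrix (Fin m ⊕ Fin m) (Fin m ⊕ Fin m) F) - 1).rank = _
        rw [hA2]
        show 2 * (r - 1 + 1) = _
        omega
      · exact ⟨fun h => absurd h (hA3 _), fun h => absurd h hT⟩
  by_cases hev : Even m
  · -- the class of alternating type with rank `m` splits
    rw [if_pos hev]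
    obtain ⟨m', hm'⟩ := hev
    have hk0 : m / 2 - 1 < m / 2 := by omega
    have h0 : 0 < m := by omega
    have hcount := card_omega_involution_classes_one_split (plusQF m F) hnd hF rep hrep heven hinj
      hsurj (Sum.inr ⟨m / 2 - 1, hk0⟩) ?_ ?_ ?_
    · have harith : Nat.card (Fin (m / 2) ⊕ Fin (m / 2)) + 1 = 2 * (m / 2) + 1 := by
        rw [Nat.card_sum, Nat.card_fin]
        ring
      rw [harith] at hcount
      exact hcount
    · refine ⟨Pi.single (Sum.inl ⟨0, h0⟩) 1 + Pi.single (Sum.inr ⟨0, h0⟩) 1, ?_⟩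
      show Cfsg.quadFormPlus m F _ ≠ 0
      unfold Cfsg.quadFormPlus
      rw [Finset.sum_eq_single (⟨0, h0⟩ : Fin m)]
      · simp
      · intro i _ hi
        have : (Pi.single (Sum.inl ⟨0, h0⟩) 1 + Pi.single (Sum.inr ⟨0, h0⟩) 1 : Fin m ⊕ Fin m → F)
            (Sum.inl i) = 0 := by
          simp [hi]
        rw [this, zero_mul]
      · intro hcon
        exact absurd (Finset.mem_univ _) hcon
    · intro x hx
      apply not_ts_fixSp (rep x) (hrep x)
      rintro ⟨hT, hrk⟩
      cases x with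
      | inl j => exact hA3 j hT
      | inr j =>
        apply hx
        congr 1
        ext
        have : 2 * (j.val + 1) = m := by
          rw [← hB2 j]; exact hrk
        show j.val = m / 2 - 1
        omega
    · intro c hc
      apply centralizer_le_omega (plusQF m F) hnd hF hsq (rep (Sum.inr ⟨m / 2 - 1, hk0⟩)) c
      · exact hB3 _
      · show 2 * (((repB ⟨m / 2 - 1, hk0⟩ : GL (Fin m ⊕ Fin m) F) :
          Matrix (Fin m ⊕ Fin m) (Fin m ⊕ Fin m) F) - 1).rank = _
        rw [hB2, Fintype.card_sum, Fintype.card_fin]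
        show 2 * (2 * (m / 2 - 1 + 1)) = m + m
        omega
      · exact hc
  · -- no class splits
    rw [if_neg hev, add_zero]
    have hcount := card_omega_involution_classes_of_no_split (plusQF m F) hnd hF rep hrep heven hinj
      hsurj ?_
    · have harith : Nat.card (Fin (m / 2) ⊕ Fin (m / 2)) = 2 * (m / 2) := by
        rw [Nat.card_sum, Nat.card_fin]
        ring
      rw [harith] at hcount
      exact hcount
    · intro g hg hge
      apply not_ts_fixSp g hg
      rintro ⟨_, hrk⟩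
      rw [hrk] at hge
      exact hev hge

end Cfsg.Agent.S2597
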