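import Cfsg.Statements.S2577
import Mathlib
import Cfsg.Agent.Lib.Helper40.CharpolyExtra
import Cfsg.Agent.Lib.Helper40.SemisimpleKill

set_option autoImplicit false
open Cfsg

namespace Cfsg.Agent.S2577

open Polynomial Cfsg.Agent.Lib.Helper40

section poly
variable {F : Type*} [Field F]

/-- the split-type characteristic polynomial -/
noncomputable def fS (F : Type*) [Field F] (a n : ℕ) : F[X] := (X + C 1) ^ a * (X - C 1) ^ (n - a)

theorem fS_monic (a n : ℕ) : (fS F a n).Monic :=
  ((monic_X_add_C 1).pow a).mul ((monic_X_sub_C 1).pow (n - a))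

theorem fS_natDegree (a n : ℕ) (ha : a ≤ n) : (fS F a n).natDegree = n := by
  rw [fS, ((monic_X_add_C (1 : F)).pow a).natDegree_mul ((monic_X_sub_C (1 : F)).pow (n - a)),
    (monic_X_add_C (1 : F)).natDegree_pow, (monic_X_sub_C (1 : F)).natDegree_pow,
    natDegree_X_add_C, natDegree_X_sub_C]
  omega

theorem fS_comp_neg (a n : ℕ) (ha : a ≤ n) :
    (-1 : F[X]) ^ n * (fS F a n).comp (-X) = fS F (n - a) n := by
  have hn : n = a + (n - a) := by omega
  have h4 : n - (n - a) = a := by omega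
  rw [fS, fS, mul_comp, pow_comp, pow_comp, add_comp, sub_comp, X_comp, C_comp, h4]
  conv_lhs => rw [hn, pow_add]
  have h5 : n - a + a - a = n - a := by omega
  have e1 : (-1 : F[X]) ^ a * (-X + C 1) ^ a = (X - C 1) ^ a := by
    rw [← mul_pow]; congr 1; ring
  have e2 : (-1 : F[X]) ^ (n - a) * (-X - C 1) ^ (n - a) = (X + C 1) ^ (n - a) := by
    rw [← mul_pow]; congr 1; ring
  rw [← e1, ← e2]
  simp only [Nat.add_sub_cancel_left]
  ring

theorem X_sq_sub_one_eq : (X ^ 2 - C 1 : F[X]) = (X + C 1) * (X - C 1) := by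
  simp only [map_one]; ring

theorem irreducible_X_add_one : Irreducible (X + C (1 : F)) :=
  irreducible_of_degree_eq_one (degree_X_add_C 1)

theorem irreducible_X_sub_one : Irreducible (X - C (1 : F)) :=
  irreducible_of_degree_eq_one (degree_X_sub_C 1)

theorem aeval_of_sq_eq {n : ℕ} (A : Matrix (Fin n) (Fin n) F) (c : F)
    (h : A * A = c • 1) : aeval A (X ^ 2 - C c) = 0 := by
  rw [map_sub, map_pow, aeval_X, aeval_C, sub_eq_zero, pow_two, h, Algebra.algebraMap_eq_smul_one]

theorem prod_two_values {α : Type*} [CommMonoid α] (u v : α) (s : Multiset α)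
    (h : ∀ x ∈ s, x = u ∨ x = v) : ∃ a b : ℕ, s.prod = u ^ a * v ^ b := by
  induction s using Multiset.induction_on with
  | empty => exact ⟨0, 0, by simp⟩
  | cons x s ih =>
    obtain ⟨a, b, hab⟩ := ih (fun y hy => h y (Multiset.mem_cons_of_mem hy))
    rcases h x (Multiset.mem_cons_self x s) with rfl | rfl
    · exact ⟨a + 1, b, by rw [Multiset.prod_cons, hab, pow_succ, mul_comm (x ^ a) x, mul_assoc]⟩
    · exact ⟨a, b + 1, by rw [Multiset.prod_cons, hab, pow_succ, mul_left_comm, mul_comm x]⟩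

/-- a monic polynomial all of whose monic irreducible factors are `u` or `v` -/
theorem eq_pow_mul_pow_of_factors (f : F[X]) (hf : f.Monic) (u v : F[X])
    (h : ∀ m : F[X], m.Monic → Irreducible m → m ∣ f → m = u ∨ m = v) :
    ∃ a b : ℕ, f = u ^ a * v ^ b := by
  classical
  have h1 := prod_normalizedFactors_of_monic hf
  obtain ⟨a, b, hab⟩ := prod_two_values u v (UniqueFactorizationMonoid.normalizedFactors f)
    (fun x hx => h x (monic_of_mem_normalizedFactors hx)
      (UniqueFactorizationMonoid.irreducible_of_normalized_factor x hx)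
      (UniqueFactorizationMonoid.dvd_of_mem_normalizedFactors hx))
  exact ⟨a, b, by rw [← h1, hab]⟩

theorem irreducible_X_sq_sub_C (μ : F) (hμ : ¬ IsSquare μ) : Irreducible (X ^ 2 - C μ : F[X]) := by
  have hm : (X ^ 2 - C μ : F[X]).Monic := monic_X_pow_sub_C μ (by norm_num)
  have hd : (X ^ 2 - C μ : F[X]).natDegree = 2 := natDegree_X_pow_sub_C
  rw [hm.irreducible_iff_roots_eq_zero_of_degree_le_three (by omega) (by omega)]
  apply Multiset.eq_zero_of_forall_notMem
  intro r hr
  rw [mem_roots hm.ne_zero, IsRoot, eval_sub, eval_pow, eval_X, eval_C, sub_eq_zero] at hr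
  exact hμ ⟨r, by rw [← hr, pow_two]⟩

variable [Fintype F]

/-- semisimplicity of a matrix whose square is a nonzero scalar -/
theorem semisimple_of_sq (h2 : (2 : F) ≠ 0) {n : ℕ} (A : Matrix (Fin n) (Fin n) F) (c : F)
    (hc : c ≠ 0) (h : A * A = c • 1) : Module.End.IsSemisimple (Matrix.toLin' A) := by
  have hq1 : 1 ≤ Fintype.card F := Fintype.card_pos
  apply isSemisimple_toLin'_of_pow_eq_one A (2 * (Fintype.card F - 1))
  · rw [Nat.cast_mul, Nat.cast_sub hq1, FiniteField.cast_card_eq_zero]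
    simpa using h2
  · rw [pow_mul, pow_two, h, _root_.smul_pow, one_pow, FiniteField.pow_card_sub_one_eq_one c hc, one_smul]

/-- the characteristic polynomial of an involution matrix -/
theorem charpoly_of_sq_one (h2 : (2 : F) ≠ 0) {n : ℕ} (A : Matrix (Fin n) (Fin n) F)
    (h : A * A = (1 : F) • 1) :
    Module.End.IsSemisimple (Matrix.toLin' A) ∧ ∃ a : ℕ, a ≤ n ∧ A.charpoly = fS F a n := by
  have hss := semisimple_of_sq h2 A 1 one_ne_zero h
  refine ⟨hss, ?_⟩
  obtain ⟨a, b, hab⟩ := eq_pow_mul_pow_of_factors A.charpoly (Matrix.charpoly_monic A)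
    (X + C 1) (X - C 1) (by
      intro m hm hirr hdvd
      have h1 := dvd_of_irreducible_dvd_charpoly A hss (X ^ 2 - C 1) (aeval_of_sq_eq A 1 h) m hm hirr
        hdvd
      rw [X_sq_sub_one_eq] at h1
      rcases hirr.prime.dvd_or_dvd h1 with h3 | h3
      · left
        exact eq_of_monic_irreducible_dvd hm hirr (monic_X_add_C 1) irreducible_X_add_one h3
      · right
        exact eq_of_monic_irreducible_dvd hm hirr (monic_X_sub_C 1) irreducible_X_sub_one h3)
  have hdeg : a + b = n := by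
    have h3 := congrArg natDegree hab
    rw [Matrix.charpoly_natDegree_eq_dim, Fintype.card_fin,
      ((monic_X_add_C (1 : F)).pow a).natDegree_mul ((monic_X_sub_C (1 : F)).pow b),
      (monic_X_add_C (1 : F)).natDegree_pow, (monic_X_sub_C (1 : F)).natDegree_pow,
      natDegree_X_add_C, natDegree_X_sub_C] at h3
    omega
  refine ⟨a, by omega, ?_⟩
  have hb : b = n - a := by omega
  rw [hab, hb, fS]

theorem split_normal_form (h2 : (2 : F) ≠ 0) {n : ℕ} (A : Matrix (Fin n) (Fin n) F) (s : F)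
    (hs : s ≠ 0) (h : A * A = (s * s) • 1) :
    ∃ s' : F, s' ≠ 0 ∧ ∃ a : ℕ, a ≤ n / 2 ∧
      Module.End.IsSemisimple (Matrix.toLin' (s'⁻¹ • A)) ∧ (s'⁻¹ • A).charpoly = fS F a n := by
  have h1 : (s⁻¹ • A) * (s⁻¹ • A) = (1 : F) • 1 := by
    rw [Matrix.smul_mul, Matrix.mul_smul, h, smul_smul, smul_smul]
    congr 1
    field_simp
  obtain ⟨hss, a, ha, hchar⟩ := charpoly_of_sq_one h2 _ h1
  by_cases hle : a ≤ n / 2
  · exact ⟨s, hs, a, hle, hss, hchar⟩
  · have e : (-s)⁻¹ • A = -(s⁻¹ • A) := by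
      rw [inv_neg, neg_smul]
    have h1' : (-(s⁻¹ • A)) * (-(s⁻¹ • A)) = (1 : F) • 1 := by
      rw [Matrix.neg_mul, Matrix.mul_neg, neg_neg, h1]
    refine ⟨-s, neg_ne_zero.mpr hs, n - a, by omega, ?_, ?_⟩
    · rw [e]
      exact semisimple_of_sq h2 _ 1 one_ne_zero h1'
    · rw [e, charpoly_neg, hchar, Fintype.card_fin, fS_comp_neg a n ha]

theorem eq_one_of_charpoly_fS_zero (h2 : (2 : F) ≠ 0) {n : ℕ} (A : Matrix (Fin n) (Fin n) F)
    (hss : Module.End.IsSemisimple (Matrix.toLin' A)) (hchar : A.charpoly = fS F 0 n) :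
    A = 1 := by
  have h1 : Module.End.IsSemisimple (Matrix.toLin' (1 : Matrix (Fin n) (Fin n) F)) :=
    semisimple_of_sq h2 1 1 one_ne_zero (by simp)
  obtain ⟨P, hP⟩ := exists_gl_conj_of_charpoly_eq A 1 hss h1 (by
    rw [hchar, Matrix.charpoly_one, fS, Fintype.card_fin]
    simp)
  rw [Matrix.one_mul] at hP
  have h3 : P⁻¹.val * (P.val * A) = P⁻¹.val * P.val := by rw [hP]
  rwa [← Matrix.mul_assoc, ← Units.val_mul, inv_mul_cancel, Units.val_one, Matrix.one_mul] at h3

theorem nonsplit_normal_form (h2 : (2 : F) ≠ 0) (μ : F) (hμ : ¬ IsSquare μ) {n : ℕ}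
    (A : Matrix (Fin n) (Fin n) F) (h : A * A = μ • 1) :
    Even n ∧ Module.End.IsSemisimple (Matrix.toLin' A) ∧
      A.charpoly = (X ^ 2 - C μ) ^ (n / 2) := by
  have hm : (X ^ 2 - C μ : F[X]).Monic := monic_X_pow_sub_C μ (by norm_num)
  have hd : (X ^ 2 - C μ : F[X]).natDegree = 2 := natDegree_X_pow_sub_C
  have hμ0 : μ ≠ 0 := by
    rintro rfl
    exact hμ ⟨0, by simp⟩
  have hss := semisimple_of_sq h2 A μ hμ0 h
  obtain ⟨a, b, hab⟩ := eq_pow_mul_pow_of_factors A.charpoly (Matrix.charpoly_monic A)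
    (X ^ 2 - C μ) (X ^ 2 - C μ) (by
      intro m hm' hirr hdvd
      have h1 := dvd_of_irreducible_dvd_charpoly A hss (X ^ 2 - C μ) (aeval_of_sq_eq A μ h) m hm'
        hirr hdvd
      left
      exact eq_of_monic_irreducible_dvd hm' hirr hm (irreducible_X_sq_sub_C μ hμ) h1)
  rw [← pow_add] at hab
  have hdeg : 2 * (a + b) = n := by
    have h3 := congrArg natDegree hab
    rw [Matrix.charpoly_natDegree_eq_dim, Fintype.card_fin, hm.natDegree_pow, hd] at h3
    omega
  have hk : n / 2 = a + b := by omega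
  exact ⟨⟨a + b, by omega⟩, hss, by rw [hab, hk]⟩

theorem exists_sq_mul_of_nonsquare (l μ : F) (hl : ¬ IsSquare l)
    (hμ : ¬ IsSquare μ) : ∃ t : F, t ≠ 0 ∧ l = t * t * μ := by
  classical
  have hμ0 : μ ≠ 0 := by
    rintro rfl
    exact hμ ⟨0, by simp⟩
  have hl0 : l ≠ 0 := by
    rintro rfl
    exact hl ⟨0, by simp⟩
  have h1 : quadraticChar F (l * μ) = 1 := by
    rw [map_mul, quadraticChar_neg_one_iff_not_isSquare.mpr hl,
      quadraticChar_neg_one_iff_not_isSquare.mpr hμ]
    norm_num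
  obtain ⟨s, hs⟩ := (quadraticChar_one_iff_isSquare (mul_ne_zero hl0 hμ0)).mp h1
  have hs0 : s ≠ 0 := by
    rintro rfl
    rw [mul_zero] at hs
    exact mul_ne_zero hl0 hμ0 hs
  refine ⟨s * μ⁻¹, mul_ne_zero hs0 (inv_ne_zero hμ0), ?_⟩
  field_simp
  rw [hs]; ring


end poly

section rootmult
variable {F : Type*} [Field F]

theorem fS_rootMultiplicity (h2 : (2 : F) ≠ 0) (a n : ℕ) :
    (fS F a n).rootMultiplicity (-1) = a := by
  have hne : fS F a n ≠ 0 := (fS_monic a n).ne_zero
  rw [fS] at hne ⊢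
  rw [rootMultiplicity_mul hne]
  have h1 : (X + C (1 : F)) = X - C (-1) := by simp
  rw [h1, rootMultiplicity_X_sub_C_pow]
  have h3 : ((X - C (1 : F)) ^ (n - a)).rootMultiplicity (-1) = 0 := by
    apply rootMultiplicity_eq_zero
    rw [IsRoot, eval_pow, eval_sub, eval_X, eval_C]
    apply pow_ne_zero
    intro h
    apply h2
    have : (2 : F) = -(-1 - 1) := by ring
    rw [this, h, neg_zero]
  rw [h3, add_zero]

theorem charpoly_eq_of_conj {n : ℕ} (A B : Matrix (Fin n) (Fin n) F) (P : GL (Fin n) F)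
    (h : P.val * A = B * P.val) : A.charpoly = B.charpoly := by
  have h1 : B = P.val * A * P.val⁻¹ := by
    rw [h, Matrix.mul_assoc, ← Matrix.coe_units_inv, Units.mul_inv, Matrix.mul_one]
  rw [h1, Matrix.charpoly_units_conj]

end rootmult

section quot
variable {F : Type*} [Field F] {n : ℕ}

theorem smul_one_eq_scalar' (c : F) :
    (c • (1 : Matrix (Fin n) (Fin n) F)) = Matrix.scalar (Fin n) c := by
  rw [Matrix.smul_one_eq_diagonal, Matrix.scalar_apply]

theorem mem_center_iff' (g : GL (Fin n) F) :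
    g ∈ Subgroup.center (GL (Fin n) F) ↔ ∃ c : F, g.val = c • 1 := by
  rw [Matrix.GeneralLinearGroup.mem_center_iff_val_mem_range_scalar]
  constructor
  · rintro ⟨c, hc⟩
    exact ⟨c, by rw [← hc, smul_one_eq_scalar']⟩
  · rintro ⟨c, hc⟩
    exact ⟨c, by rw [hc, smul_one_eq_scalar']⟩

theorem orderOf_mk_eq_two_iff (g : GL (Fin n) F) :
    orderOf (QuotientGroup.mk g : GL (Fin n) F ⧸ Subgroup.center (GL (Fin n) F)) = 2 ↔
      (∃ c : F, g.val * g.val = c • 1) ∧ ¬ ∃ c : F, g.val = c • 1 := by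
  have : Fact (Nat.Prime 2) := ⟨Nat.prime_two⟩
  rw [orderOf_eq_prime_iff, ← QuotientGroup.mk_pow, QuotientGroup.eq_one_iff, Ne,
    QuotientGroup.eq_one_iff, mem_center_iff', mem_center_iff', pow_two]
  rfl

theorem exists_of_isConj_mk (g g' : GL (Fin n) F)
    (h : IsConj (QuotientGroup.mk g : GL (Fin n) F ⧸ Subgroup.center (GL (Fin n) F))
      (QuotientGroup.mk g')) :
    ∃ (P : GL (Fin n) F) (c : F), g'.val * P.val = c • (P.val * g.val) := by
  rw [isConj_iff] at h
  obtain ⟨x, hx⟩ := h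
  obtain ⟨P, rfl⟩ := QuotientGroup.mk_surjective x
  rw [← QuotientGroup.mk_inv, ← QuotientGroup.mk_mul, ← QuotientGroup.mk_mul, QuotientGroup.eq,
    mem_center_iff'] at hx
  obtain ⟨c, hc⟩ := hx
  refine ⟨P, c, ?_⟩
  have h1 : g' = (P * g * P⁻¹) * ((P * g * P⁻¹)⁻¹ * g') := by group
  have h2 : g'.val = (P * g * P⁻¹).val * (c • 1) := by
    rw [← hc, ← Units.val_mul, ← h1]
  rw [h2, Matrix.mul_smul, Matrix.mul_one, Matrix.smul_mul, ← Units.val_mul, ← Units.val_mul]
  congr 2
  group

theorem isConj_mk_of (g g' : GL (Fin n) F) (P : GL (Fin n) F) (c : F)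
    (h : g'.val * P.val = c • (P.val * g.val)) :
    IsConj (QuotientGroup.mk g : GL (Fin n) F ⧸ Subgroup.center (GL (Fin n) F))
      (QuotientGroup.mk g') := by
  rw [isConj_iff]
  refine ⟨QuotientGroup.mk P, ?_⟩
  rw [← QuotientGroup.mk_inv, ← QuotientGroup.mk_mul, ← QuotientGroup.mk_mul, QuotientGroup.eq,
    mem_center_iff']
  refine ⟨c, ?_⟩
  have h1 : g'.val = c • (P * g * P⁻¹).val := by
    have : g'.val = g'.val * P.val * P⁻¹.val := by
      rw [Matrix.mul_assoc, ← Units.val_mul, mul_inv_cancel, Units.val_one, Matrix.mul_one]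
    rw [this, h, Matrix.smul_mul, Units.val_mul, Units.val_mul]
  rw [Units.val_mul, h1, Matrix.mul_smul, ← Units.val_mul, inv_mul_cancel, Units.val_one]

/-- the scalars of two projectively conjugate "square-scalar" matrices -/
theorem scalar_rel (hn : 0 < n) (A A' : Matrix (Fin n) (Fin n) F) (P : GL (Fin n) F) (c l l' : F)
    (hA : A * A = l • 1) (hA' : A' * A' = l' • 1) (hrel : A' * P.val = c • (P.val * A)) :
    l' = c ^ 2 * l := by
  have h1 : l' • P.val = (c ^ 2 * l) • P.val := by
    calc l' • P.val = (A' * A') * P.val := by rw [hA', Matrix.smul_mul, Matrix.one_mul]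
      _ = A' * (A' * P.val) := Matrix.mul_assoc _ _ _
      _ = c • (A' * P.val * A) := by rw [hrel, Matrix.mul_smul, ← Matrix.mul_assoc, hrel]
      _ = c • (c • (P.val * (A * A))) := by rw [hrel, Matrix.smul_mul, Matrix.mul_assoc]
      _ = (c ^ 2 * l) • P.val := by
        rw [hA, Matrix.mul_smul, Matrix.mul_one, smul_smul, smul_smul]
        congr 1; ring
  have h2 := congrArg (· * P⁻¹.val) h1
  simp only [Matrix.smul_mul] at h2
  rw [← Units.val_mul, mul_inv_cancel, Units.val_one] at h2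
  have h3 := congrFun (congrFun h2 ⟨0, hn⟩) ⟨0, hn⟩
  simpa using h3

theorem rootMult_scalar (c : F) (n : ℕ) :
    ((X - C c) ^ n).rootMultiplicity (-1) = 0 ∨ ((X - C c) ^ n).rootMultiplicity (-1) = n := by
  by_cases hc : c = -1
  · right; rw [hc, rootMultiplicity_X_sub_C_pow]
  · left
    apply rootMultiplicity_eq_zero
    rw [IsRoot, eval_pow, eval_sub, eval_X, eval_C]
    apply pow_ne_zero
    intro h
    apply hc
    linear_combination -h

theorem charpoly_smul_one (c : F) :
    (c • (1 : Matrix (Fin n) (Fin n) F)).charpoly = (X - C c) ^ n := by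
  rw [Matrix.smul_one_eq_diagonal, Matrix.charpoly_diagonal, Finset.prod_const, Finset.card_univ,
    Fintype.card_fin]


theorem not_scalar_of_charpoly_fS (h2 : (2 : F) ≠ 0) (A : Matrix (Fin n) (Fin n) F) (a : ℕ)
    (ha0 : 0 < a) (han : a < n) (hA : A.charpoly = fS F a n) : ¬ ∃ c : F, A = c • 1 := by
  rintro ⟨c, rfl⟩
  have h3 := fS_rootMultiplicity h2 a n
  rw [← hA, charpoly_smul_one] at h3
  rcases rootMult_scalar c n with h | h <;> omega

end quot

section reps
variable {F : Type*} [Field F]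

theorem dvd_sq_sub_one_of_dvd_fS (a n : ℕ) (m : F[X]) (hirr : Irreducible m)
    (hdvd : m ∣ fS F a n) : m ∣ X ^ 2 - C 1 := by
  have hp : Prime m := hirr.prime
  rw [X_sq_sub_one_eq]
  rw [fS] at hdvd
  rcases hp.dvd_or_dvd hdvd with h | h
  · exact dvd_mul_of_dvd_left (hp.dvd_of_dvd_pow h) _
  · exact dvd_mul_of_dvd_right (hp.dvd_of_dvd_pow h) _

theorem sq_eq_of_aeval {n : ℕ} (A : Matrix (Fin n) (Fin n) F) (c : F)
    (h : aeval A (X ^ 2 - C c) = 0) : A * A = c • 1 := by
  rw [map_sub, map_pow, aeval_X, aeval_C, sub_eq_zero, pow_two] at h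
  rw [h, Algebra.algebraMap_eq_smul_one]

/-- invertible matrix from a matrix squaring to a nonzero scalar -/
noncomputable def glOfSq {n : ℕ} (A : Matrix (Fin n) (Fin n) F) (c : F) (hc : c ≠ 0)
    (h : A * A = c • 1) : GL (Fin n) F :=
  ⟨A, c⁻¹ • A, by rw [Matrix.mul_smul, h, smul_smul, inv_mul_cancel₀ hc, one_smul],
    by rw [Matrix.smul_mul, h, smul_smul, inv_mul_cancel₀ hc, one_smul]⟩

variable [Fintype F]

theorem exists_split_rep (n a : ℕ) (ha : a ≤ n) :
    ∃ R : GL (Fin n) F, Module.End.IsSemisimple (Matrix.toLin' R.val) ∧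
      R.val.charpoly = fS F a n ∧ R.val * R.val = (1 : F) • 1 := by
  obtain ⟨A, hss, hchar, hkill⟩ := exists_matrix_semisimple_charpoly_kill n (fS F a n)
    (fS_monic a n) (fS_natDegree a n ha)
  have hsq : A * A = (1 : F) • 1 := by
    apply sq_eq_of_aeval
    apply hkill
    intro m _ hirr hdvd
    exact dvd_sq_sub_one_of_dvd_fS a n m hirr hdvd
  exact ⟨glOfSq A 1 one_ne_zero hsq, hss, hchar, hsq⟩

theorem exists_nonsplit_rep (μ : F) (hμ : ¬ IsSquare μ) (n : ℕ) (hn : Even n) :
    ∃ B : GL (Fin n) F, Module.End.IsSemisimple (Matrix.toLin' B.val) ∧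
      B.val.charpoly = (X ^ 2 - C μ) ^ (n / 2) ∧ B.val * B.val = μ • 1 := by
  have hm : (X ^ 2 - C μ : F[X]).Monic := monic_X_pow_sub_C μ (by norm_num)
  have hd : (X ^ 2 - C μ : F[X]).natDegree = 2 := natDegree_X_pow_sub_C
  have hμ0 : μ ≠ 0 := by
    rintro rfl
    exact hμ ⟨0, by simp⟩
  obtain ⟨A, hss, hchar, hkill⟩ := exists_matrix_semisimple_charpoly_kill n
    ((X ^ 2 - C μ) ^ (n / 2)) (hm.pow _) (by
      rw [hm.natDegree_pow, hd]
      obtain ⟨k, rfl⟩ := hn
      omega)
  have hsq : A * A = μ • 1 := by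
    apply sq_eq_of_aeval
    apply hkill
    intro m _ hirr hdvd
    exact hirr.prime.dvd_of_dvd_pow hdvd
  exact ⟨glOfSq A μ hμ0 hsq, hss, hchar, hsq⟩


end reps

theorem card_classes_of_reps {G : Type*} [Group G] (P : G → Prop) {I : Type*} [Fintype I]
    (rep : I → G) (h1 : ∀ i, P (rep i)) (h2 : ∀ i j, IsConj (rep i) (rep j) → i = j)
    (h3 : ∀ g, P g → ∃ i, IsConj (rep i) g) :
    Nat.card {C : ConjClasses G // ∃ g, ConjClasses.mk g = C ∧ P g} = Fintype.card I := by
  rw [← Nat.card_eq_fintype_card]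
  symm
  apply Nat.card_congr
  refine Equiv.ofBijective (fun i => ⟨ConjClasses.mk (rep i), rep i, rfl, h1 i⟩) ⟨?_, ?_⟩
  · intro i j hij
    have := congrArg Subtype.val hij
    exact h2 i j (ConjClasses.mk_eq_mk_iff_isConj.mp this)
  · rintro ⟨C, g, rfl, hg⟩
    obtain ⟨i, hi⟩ := h3 g hg
    exact ⟨i, Subtype.ext (ConjClasses.mk_eq_mk_iff_isConj.mpr hi)⟩


/-- Number of conjugacy classes of involutions in PGL_n(q) for q odd and n ≥ 2: there are ⌊n/2⌋ classes represented by diagonal matrices with i entries −1 (1 ≤ i ≤ n/2) and, when n is even, one more class represented by a block-diagonal matrix of 2 × 2 blocks [[0, 1], [μ, 0]] with μ a non-square (a matrix squaring to a scalar but having no eigenvalue in the field); in all ⌊n/2⌋ + 1 classes if n is even and ⌊n/2⌋ if n is odd. -/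
theorem result {F : Type*} [Field F] [Fintype F] {q : ℕ} (hF : Fintype.card F = q) (hq : Odd q) {n : ℕ} (hn : 2 ≤ n) : Nat.card {C : ConjClasses (GL (Fin n) F ⧸ Subgroup.center (GL (Fin n) F)) // ∃ g : GL (Fin n) F ⧸ Subgroup.center (GL (Fin n) F), ConjClasses.mk g = C ∧ orderOf g = 2} = n / 2 + (if Even n then 1 else 0) := by
  classical
  have hchar : ringChar F ≠ 2 := by
    intro h
    have h1 := FiniteField.even_card_iff_char_two.mp h
    rw [hF] at h1
    obtain ⟨k, rfl⟩ := hq
    omega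
  have h2 : (2 : F) ≠ 0 := Ring.two_ne_zero hchar
  have hn0 : 0 < n := by omega
  obtain ⟨μ, hμ⟩ := FiniteField.exists_nonsquare hchar
  have hμ0 : μ ≠ 0 := by
    rintro rfl
    exact hμ ⟨0, by simp⟩
  have hR := exists_split_rep (F := F) n
  choose! R hRss hRchar hRsq using hR
  have hB := exists_nonsplit_rep μ hμ n
  choose! B hBss hBchar hBsq using hB
  have hIev : ∀ j : Fin (if Even n then 1 else 0), Even n := by
    intro j
    by_contra hne
    have h3 := j.isLt
    have h4 : (if Even n then 1 else 0) = 0 := if_neg hne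
    omega
  have key := card_classes_of_reps
    (fun g : GL (Fin n) F ⧸ Subgroup.center (GL (Fin n) F) => orderOf g = 2)
    (I := Fin (n / 2) ⊕ Fin (if Even n then 1 else 0))
    (Sum.elim (fun i => (QuotientGroup.mk (R (i.val + 1)) :
      GL (Fin n) F ⧸ Subgroup.center (GL (Fin n) F))) (fun _ => QuotientGroup.mk B))
    ?_ ?_ ?_
  · rw [key, Fintype.card_sum, Fintype.card_fin, Fintype.card_fin]
  · -- the representatives have order two
    rintro (i | j)
    · have hi := i.isLt
      have hle : i.val + 1 ≤ n := by omega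
      simp only [Sum.elim_inl]
      rw [orderOf_mk_eq_two_iff]
      refine ⟨⟨1, hRsq _ hle⟩, ?_⟩
      exact not_scalar_of_charpoly_fS h2 _ (i.val + 1) (by omega) (by omega) (hRchar _ hle)
    · have hev := hIev j
      simp only [Sum.elim_inr]
      rw [orderOf_mk_eq_two_iff]
      refine ⟨⟨μ, hBsq hev⟩, ?_⟩
      rintro ⟨c, hc⟩
      have h3 := hBsq hev
      rw [hc, Matrix.smul_mul, Matrix.mul_smul, Matrix.mul_one, smul_smul] at h3
      have h4 := congrFun (congrFun h3 ⟨0, hn0⟩) ⟨0, hn0⟩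
      apply hμ
      exact ⟨c, by simpa using h4.symm⟩
  · -- the representatives are pairwise non-conjugate
    rintro (i | j) (i' | j') hconj
    · simp only [Sum.elim_inl] at hconj
      obtain ⟨P, c, hrel⟩ := exists_of_isConj_mk _ _ hconj
      have hi := i.isLt
      have hi' := i'.isLt
      have hle : i.val + 1 ≤ n := by omega
      have hle' : i'.val + 1 ≤ n := by omega
      have hc := scalar_rel hn0 _ _ P c 1 1 (hRsq _ hle) (hRsq _ hle') hrel
      have hc' : (c - 1) * (c + 1) = 0 := by linear_combination -hc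
      congr 1
      apply Fin.ext
      rcases mul_eq_zero.mp hc' with h | h
      · have hc1 : c = 1 := by linear_combination h
        rw [hc1, one_smul] at hrel
        have h3 := charpoly_eq_of_conj _ _ P hrel.symm
        rw [hRchar _ hle, hRchar _ hle'] at h3
        have h4 := congrArg (fun f => rootMultiplicity (-1) f) h3
        simp only [fS_rootMultiplicity h2] at h4
        omega
      · have hc1 : c = -1 := by linear_combination h
        rw [hc1, neg_smul, one_smul, ← Matrix.mul_neg] at hrel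
        have h3 := charpoly_eq_of_conj _ _ P hrel.symm
        rw [charpoly_neg, hRchar _ hle, hRchar _ hle', Fintype.card_fin,
          fS_comp_neg _ _ hle] at h3
        have h4 := congrArg (fun f => rootMultiplicity (-1) f) h3
        simp only [fS_rootMultiplicity h2] at h4
        omega
    · exfalso
      simp only [Sum.elim_inl, Sum.elim_inr] at hconj
      obtain ⟨P, c, hrel⟩ := exists_of_isConj_mk _ _ hconj
      have hi := i.isLt
      have hle : i.val + 1 ≤ n := by omega
      have hc := scalar_rel hn0 _ _ P c 1 μ (hRsq _ hle) (hBsq (hIev j')) hrel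
      exact hμ ⟨c, by rw [hc]; ring⟩
    · exfalso
      simp only [Sum.elim_inl, Sum.elim_inr] at hconj
      obtain ⟨P, c, hrel⟩ := exists_of_isConj_mk _ _ hconj
      have hi' := i'.isLt
      have hle' : i'.val + 1 ≤ n := by omega
      have hc := scalar_rel hn0 _ _ P c μ 1 (hBsq (hIev j)) (hRsq _ hle') hrel
      have hc0 : c ≠ 0 := by
        rintro rfl
        simp at hc
      apply hμ
      refine ⟨c⁻¹, ?_⟩
      field_simp
      linear_combination -hc
    · congr 1
      apply Fin.ext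
      have h3 := j.isLt
      have h4 := j'.isLt
      have h5 : (if Even n then 1 else 0) = 1 := if_pos (hIev j)
      omega
  · -- every element of order two is conjugate to a representative
    intro x hx
    obtain ⟨g, rfl⟩ := QuotientGroup.mk_surjective x
    change orderOf _ = 2 at hx
    rw [orderOf_mk_eq_two_iff] at hx
    obtain ⟨⟨l, hl⟩, hns⟩ := hx
    have hl0 : l ≠ 0 := by
      rintro rfl
      rw [zero_smul] at hl
      have h3 : (g * g).val = 0 := hl
      have h4 : ((g * g)⁻¹ * (g * g)).val = 0 := by rw [Units.val_mul, h3, Matrix.mul_zero]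
      rw [inv_mul_cancel, Units.val_one] at h4
      have h5 := congrFun (congrFun h4 ⟨0, hn0⟩) ⟨0, hn0⟩
      simp at h5
    by_cases hsq : IsSquare l
    · obtain ⟨s, rfl⟩ := hsq
      have hs : s ≠ 0 := by
        rintro rfl
        simp at hl0
      obtain ⟨s', hs', a, ha, hss, hchar⟩ := split_normal_form h2 g.val s hs hl
      have ha0 : a ≠ 0 := by
        rintro rfl
        have h3 := eq_one_of_charpoly_fS_zero h2 _ hss hchar
        apply hns
        refine ⟨s', ?_⟩
        rw [← h3, smul_smul, mul_inv_cancel₀ hs', one_smul]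
      have hle : a ≤ n := le_trans ha (Nat.div_le_self n 2)
      obtain ⟨P, hP⟩ := exists_gl_conj_of_charpoly_eq (s'⁻¹ • g.val) (R a).val hss (hRss a hle)
        (by rw [hchar, hRchar a hle])
      refine ⟨Sum.inl ⟨a - 1, by omega⟩, ?_⟩
      simp only [Sum.elim_inl]
      have ha1 : a - 1 + 1 = a := by omega
      rw [ha1]
      exact (isConj_mk_of g (R a) P s'⁻¹ (by rw [← hP, Matrix.mul_smul])).symm
    · obtain ⟨t, ht0, ht⟩ := exists_sq_mul_of_nonsquare l μ hsq hμ
      have hsq1 : (t⁻¹ • g.val) * (t⁻¹ • g.val) = μ • 1 := by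
        rw [Matrix.smul_mul, Matrix.mul_smul, hl, smul_smul, smul_smul, ht]
        congr 1
        field_simp
      obtain ⟨hev, hss, hchar⟩ := nonsplit_normal_form h2 μ hμ _ hsq1
      obtain ⟨P, hP⟩ := exists_gl_conj_of_charpoly_eq (t⁻¹ • g.val) B.val hss (hBss hev)
        (by rw [hchar, hBchar hev])
      refine ⟨Sum.inr ⟨0, by rw [if_pos hev]; omega⟩, ?_⟩
      simp only [Sum.elim_inr]
      exact (isConj_mk_of g B P t⁻¹ (by rw [← hP, Matrix.mul_smul])).symm

end Cfsg.Agent.S2577
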