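import Cfsg.Statements.S2670
import Mathlib
import Cfsg.Agent.S2577

set_option autoImplicit false
open Cfsg

namespace Cfsg.Agent.S2670

open Polynomial Cfsg.Agent.Lib.Helper40



section poly
variable {F : Type*} [Field F] {ι : Type*} [Fintype ι]

/-- the split polynomial with prescribed roots `z j` of multiplicity `a j` -/
noncomputable def PF (z : ι → F) (a : ι → ℕ) : F[X] := ∏ j, (X - C (z j)) ^ a j

theorem PF_monic (z : ι → F) (a : ι → ℕ) : (PF z a).Monic :=
  monic_prod_of_monic _ _ (fun _ _ => (monic_X_sub_C _).pow _)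

theorem PF_natDegree (z : ι → F) (a : ι → ℕ) : (PF z a).natDegree = ∑ j, a j := by
  rw [PF, natDegree_prod_of_monic _ _ (fun j _ => (monic_X_sub_C _).pow _)]
  apply Finset.sum_congr rfl
  intro j _
  rw [(monic_X_sub_C (z j)).natDegree_pow, natDegree_X_sub_C, mul_one]

theorem PF_roots (z : ι → F) (a : ι → ℕ) :
    (PF z a).roots = ∑ j, a j • ({z j} : Multiset F) := by
  rw [PF, roots_prod _ _ (by
    rw [Finset.prod_ne_zero_iff]
    intro j _
    exact pow_ne_zero _ (X_sub_C_ne_zero _))]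
  rw [Multiset.bind, Multiset.join, ← Finset.sum_eq_multiset_sum]
  apply Finset.sum_congr rfl
  intro j _
  rw [roots_pow, roots_X_sub_C]

theorem PF_rootMultiplicity [DecidableEq F] (z : ι → F) (a : ι → ℕ) (x : F) :
    (PF z a).rootMultiplicity x = ∑ j, if x = z j then a j else 0 := by
  rw [← count_roots, PF_roots, Multiset.count_sum']
  apply Finset.sum_congr rfl
  intro j _
  rw [Multiset.count_nsmul, Multiset.count_singleton]
  split_ifs <;> simp

theorem PF_rootMultiplicity_self (z : ι → F) (hz : Function.Injective z) (a : ι → ℕ) (k : ι) :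
    (PF z a).rootMultiplicity (z k) = a k := by
  classical
  rw [PF_rootMultiplicity, Finset.sum_eq_single k]
  · simp
  · intro j _ hj
    rw [if_neg]
    intro h
    exact hj (hz h).symm
  · intro h
    exact absurd (Finset.mem_univ k) h

theorem PF_rootMultiplicity_of_ne (z : ι → F) (a : ι → ℕ) (x : F) (hx : ∀ j, x ≠ z j) :
    (PF z a).rootMultiplicity x = 0 := by
  classical
  rw [PF_rootMultiplicity]
  apply Finset.sum_eq_zero
  intro j _
  rw [if_neg (hx j)]

theorem PF_injective (z : ι → F) (hz : Function.Injective z) (a a' : ι → ℕ)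
    (h : PF z a = PF z a') : a = a' := by
  funext k
  rw [← PF_rootMultiplicity_self z hz a k, h, PF_rootMultiplicity_self z hz a' k]

theorem PF_scale (z : ι → F) (a : ι → ℕ) (c : F) (hc : c ≠ 0) (n : ℕ) (hsum : ∑ j, a j = n) :
    (C c) ^ n * (PF z a).comp (C c⁻¹ * X) = PF (fun j => c * z j) a := by
  rw [PF, PF, ← hsum, ← Finset.prod_pow_eq_pow_sum, prod_comp, ← Finset.prod_mul_distrib]
  apply Finset.prod_congr rfl
  intro j _
  rw [pow_comp, sub_comp, X_comp, C_comp, ← mul_pow]
  congr 1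
  rw [mul_sub, ← mul_assoc, ← C_mul, mul_inv_cancel₀ hc, C_1, one_mul, ← C_mul]

theorem PF_reindex (z : ι → F) (a : ι → ℕ) (e : ι ≃ ι) : PF (z ∘ e) a = PF z (a ∘ e.symm) := by
  rw [PF, PF]
  apply Fintype.prod_equiv e
  intro j
  simp

theorem exists_dvd_of_irreducible_dvd_PF (z : ι → F) (a : ι → ℕ) (m : F[X]) (hirr : Irreducible m)
    (hdvd : m ∣ PF z a) : ∃ j, m ∣ X - C (z j) := by
  rw [PF] at hdvd
  obtain ⟨j, _, hj⟩ := (hirr.prime.dvd_finsetProd_iff _).mp hdvd
  exact ⟨j, hirr.prime.dvd_of_dvd_pow hj⟩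

theorem prod_family_values {α : Type*} [CommMonoid α] [DecidableEq ι] (u : ι → α) (s : Multiset α)
    (h : ∀ x ∈ s, ∃ j, x = u j) : ∃ a : ι → ℕ, s.prod = ∏ j, u j ^ a j := by
  induction s using Multiset.induction_on with
  | empty => exact ⟨fun _ => 0, by simp⟩
  | cons x s ih =>
    obtain ⟨a, ha⟩ := ih (fun y hy => h y (Multiset.mem_cons_of_mem hy))
    obtain ⟨j₀, rfl⟩ := h x (Multiset.mem_cons_self x s)
    refine ⟨fun j => a j + if j = j₀ then 1 else 0, ?_⟩
    rw [Multiset.prod_cons, ha]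
    simp only [pow_add, Finset.prod_mul_distrib, pow_ite, pow_one, pow_zero,
      Finset.prod_ite_eq', Finset.mem_univ, if_true]
    rw [mul_comm]

/-- a monic polynomial all of whose monic irreducible factors are of the form `X - z j` -/
theorem exists_eq_PF (z : ι → F) (f : F[X]) (hf : f.Monic)
    (h : ∀ m : F[X], m.Monic → Irreducible m → m ∣ f → ∃ j, m = X - C (z j)) :
    ∃ a : ι → ℕ, f = PF z a := by
  classical
  have h1 := prod_normalizedFactors_of_monic hf
  obtain ⟨a, ha⟩ := prod_family_values (fun j => X - C (z j))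
    (UniqueFactorizationMonoid.normalizedFactors f)
    (fun x hx => h x (monic_of_mem_normalizedFactors hx)
      (UniqueFactorizationMonoid.irreducible_of_normalized_factor x hx)
      (UniqueFactorizationMonoid.dvd_of_mem_normalizedFactors hx))
  exact ⟨a, by rw [← h1, ha, PF]⟩

end poly

section charpoly
variable {F : Type*} [Field F]

/-- The characteristic polynomial of `c • A`. -/
theorem charpoly_smul {n : Type*} [Fintype n] [DecidableEq n] (A : Matrix n n F) (c : F)
    (hc : c ≠ 0) :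
    (c • A).charpoly = (C c) ^ Fintype.card n * A.charpoly.comp (C c⁻¹ * X) := by
  have h1 : A.charpoly.comp (C c⁻¹ * X) = ((Polynomial.compRingHom (C c⁻¹ * X : F[X])).mapMatrix
      (Matrix.charmatrix A)).det := by
    rw [← RingHom.map_det]
    rfl
  have h2 : Matrix.charmatrix (c • A) = (C c) • (Polynomial.compRingHom (C c⁻¹ * X : F[X])).mapMatrix
      (Matrix.charmatrix A) := by
    apply Matrix.ext
    intro i j
    simp only [RingHom.mapMatrix_apply, Matrix.map_apply, Matrix.charmatrix_apply,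
      Matrix.smul_apply, Polynomial.coe_compRingHom_apply, smul_eq_mul]
    by_cases hij : i = j
    · subst hij
      simp only [Matrix.diagonal_apply_eq, sub_comp, X_comp, C_comp, map_mul]
      rw [mul_sub, ← mul_assoc, ← C_mul, ← C_mul, mul_inv_cancel₀ hc, C_1, one_mul]
    · simp [hij]
  rw [h1, Matrix.charpoly, h2, Matrix.det_smul]

end charpoly




section matpow
variable {F : Type*} [Field F] {n : ℕ}

theorem orderOf_mk_eq_prime_iff (r : ℕ) (hr : r.Prime) (g : GL (Fin n) F) :
    orderOf (QuotientGroup.mk g : GL (Fin n) F ⧸ Subgroup.center (GL (Fin n) F)) = r ↔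
      (∃ c : F, g.val ^ r = c • 1) ∧ ¬ ∃ c : F, g.val = c • 1 := by
  have : Fact (Nat.Prime r) := ⟨hr⟩
  rw [orderOf_eq_prime_iff, ← QuotientGroup.mk_pow, QuotientGroup.eq_one_iff, Ne,
    QuotientGroup.eq_one_iff, Cfsg.Agent.S2577.mem_center_iff', Cfsg.Agent.S2577.mem_center_iff',
    Units.val_pow_eq_pow_val]

theorem pow_rel (A A' : Matrix (Fin n) (Fin n) F) (P : Matrix (Fin n) (Fin n) F) (c : F)
    (hrel : A' * P = c • (P * A)) (k : ℕ) : A' ^ k * P = c ^ k • (P * A ^ k) := by
  induction k with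
  | zero => simp
  | succ k ih =>
    rw [pow_succ', Matrix.mul_assoc, ih, Matrix.mul_smul, ← Matrix.mul_assoc, hrel, Matrix.smul_mul,
      smul_smul, Matrix.mul_assoc, ← pow_succ', ← pow_succ]

/-- the scalars of two projectively conjugate matrices with scalar `r`-th powers -/
theorem scalar_pow_rel (hn : 0 < n) (r : ℕ) (A A' : Matrix (Fin n) (Fin n) F) (P : GL (Fin n) F)
    (c l l' : F) (hA : A ^ r = l • 1) (hA' : A' ^ r = l' • 1)
    (hrel : A' * P.val = c • (P.val * A)) : l' = c ^ r * l := by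
  have h1 : l' • P.val = (c ^ r * l) • P.val := by
    have := pow_rel A A' P.val c hrel r
    rw [hA, hA', Matrix.smul_mul, Matrix.one_mul, Matrix.mul_smul, Matrix.mul_one, smul_smul] at this
    exact this
  have h2 := congrArg (· * P⁻¹.val) h1
  simp only [Matrix.smul_mul] at h2
  rw [← Units.val_mul, mul_inv_cancel, Units.val_one] at h2
  have h3 := congrFun (congrFun h2 ⟨0, hn⟩) ⟨0, hn⟩
  simpa using h3

theorem pow_eq_of_aeval (r : ℕ) (A : Matrix (Fin n) (Fin n) F) (c : F)
    (h : aeval A (X ^ r - C c) = 0) : A ^ r = c • 1 := by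
  rw [map_sub, map_pow, aeval_X, aeval_C, sub_eq_zero] at h
  rw [h, Algebra.algebraMap_eq_smul_one]

theorem aeval_of_pow_eq (r : ℕ) (A : Matrix (Fin n) (Fin n) F) (c : F)
    (h : A ^ r = c • 1) : aeval A (X ^ r - C c) = 0 := by
  rw [map_sub, map_pow, aeval_X, aeval_C, sub_eq_zero, h, Algebra.algebraMap_eq_smul_one]

/-- invertible matrix from a matrix with a nonzero scalar power -/
noncomputable def glOfPow (r : ℕ) (hr : 0 < r) (A : Matrix (Fin n) (Fin n) F) (c : F) (hc : c ≠ 0)
    (h : A ^ r = c • 1) : GL (Fin n) F :=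
  ⟨A, c⁻¹ • A ^ (r - 1), by
    rw [Matrix.mul_smul, ← pow_succ', Nat.sub_add_cancel hr, h, smul_smul, inv_mul_cancel₀ hc,
      one_smul], by
    rw [Matrix.smul_mul, ← pow_succ, Nat.sub_add_cancel hr, h, smul_smul, inv_mul_cancel₀ hc,
      one_smul]⟩

theorem ne_zero_of_gl_pow (hn : 0 < n) (r : ℕ) (g : GL (Fin n) F) (l : F)
    (h : g.val ^ r = l • 1) : l ≠ 0 := by
  rintro rfl
  rw [zero_smul, ← Units.val_pow_eq_pow_val] at h
  have h4 : ((g ^ r)⁻¹ * (g ^ r)).val = 0 := by rw [Units.val_mul, h, Matrix.mul_zero]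
  rw [inv_mul_cancel, Units.val_one] at h4
  have h5 := congrFun (congrFun h4 ⟨0, hn⟩) ⟨0, hn⟩
  simp at h5

end matpow

section semis
variable {F : Type*} [Field F] [Fintype F] {n : ℕ}

/-- semisimplicity of a matrix whose `r`-th power is a nonzero scalar (`r` prime to the
characteristic) -/
theorem semisimple_of_pow (r : ℕ) (hr : (r : F) ≠ 0) (A : Matrix (Fin n) (Fin n) F) (c : F)
    (hc : c ≠ 0) (h : A ^ r = c • 1) : Module.End.IsSemisimple (Matrix.toLin' A) := by
  have hq1 : 1 ≤ Fintype.card F := Fintype.card_pos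
  apply isSemisimple_toLin'_of_pow_eq_one A (r * (Fintype.card F - 1))
  · rw [Nat.cast_mul, Nat.cast_sub hq1, FiniteField.cast_card_eq_zero]
    simpa using hr
  · rw [pow_mul, h, _root_.smul_pow, one_pow, FiniteField.pow_card_sub_one_eq_one c hc, one_smul]

end semis




section roots
variable {F : Type*} [Field F] (r : ℕ) [NeZero r]

/-- the `r`-th roots of unity indexed by `ZMod r` -/
noncomputable def zf (ζ : F) (j : ZMod r) : F := ζ ^ j.val

theorem pow_mod_of_pow_eq_one (ζ : F) (h : ζ ^ r = 1) (m : ℕ) : ζ ^ (m % r) = ζ ^ m := by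
  conv_rhs => rw [← Nat.div_add_mod m r, pow_add, pow_mul, h, one_pow, one_mul]

theorem zf_add (ζ : F) (h : ζ ^ r = 1) (j k : ZMod r) : zf r ζ (j + k) = zf r ζ j * zf r ζ k := by
  rw [zf, zf, zf, ZMod.val_add, pow_mod_of_pow_eq_one r ζ h, pow_add]

theorem zf_pow (ζ : F) (h : ζ ^ r = 1) (j : ZMod r) : (zf r ζ j) ^ r = 1 := by
  rw [zf, ← pow_mul, mul_comm, pow_mul, h, one_pow]

theorem zf_ne_zero (ζ : F) (h : ζ ^ r = 1) (j : ZMod r) : zf r ζ j ≠ 0 := by
  intro h0
  have := zf_pow r ζ h j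
  rw [h0, zero_pow (NeZero.ne r)] at this
  exact zero_ne_one this

theorem zf_injective (ζ : F) (hζ : IsPrimitiveRoot ζ r) : Function.Injective (zf r ζ) := by
  intro j k h
  have := hζ.pow_inj (ZMod.val_lt j) (ZMod.val_lt k) h
  exact ZMod.val_injective r this

theorem exists_zf_eq (ζ : F) (hζ : IsPrimitiveRoot ζ r) (x : F) (hx : x ^ r = 1) :
    ∃ j, zf r ζ j = x := by
  obtain ⟨i, hi, rfl⟩ := hζ.eq_pow_of_pow_eq_one hx
  refine ⟨(i : ZMod r), ?_⟩
  rw [zf, ZMod.val_natCast, pow_mod_of_pow_eq_one r ζ hζ.pow_eq_one]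

theorem X_sub_C_zf_dvd (ζ : F) (h : ζ ^ r = 1) (j : ZMod r) :
    X - C (zf r ζ j) ∣ X ^ r - C 1 := by
  rw [dvd_iff_isRoot, IsRoot, eval_sub, eval_pow, eval_X, eval_C, zf_pow r ζ h, sub_self]

theorem exists_eq_X_sub_C_zf (ζ : F) (hζ : IsPrimitiveRoot ζ r) (m : F[X]) (hm : m.Monic)
    (hirr : Irreducible m) (hdvd : m ∣ X ^ r - C 1) : ∃ j, m = X - C (zf r ζ j) := by
  rw [C_1, X_pow_sub_one_eq_prod (NeZero.pos r) hζ] at hdvd
  obtain ⟨x, hx, hmx⟩ := (hirr.prime.dvd_finsetProd_iff _).mp hdvd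
  rw [mem_nthRootsFinset (NeZero.pos r)] at hx
  obtain ⟨j, rfl⟩ := exists_zf_eq r ζ hζ x hx
  exact ⟨j, eq_of_monic_irreducible_dvd hm hirr (monic_X_sub_C _)
    (irreducible_of_degree_eq_one (degree_X_sub_C _)) hmx⟩

end roots

section field
variable {F : Type*} [Field F] [Fintype F]

theorem exists_primitiveRoot_of_dvd (r : ℕ) (hr : r.Prime) (hrq : r ∣ Fintype.card F - 1) :
    ∃ ζ : F, IsPrimitiveRoot ζ r := by
  classical
  have : Fact r.Prime := ⟨hr⟩
  have h1 : r ∣ Fintype.card Fˣ := by rwa [Fintype.card_units]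
  obtain ⟨x, hx⟩ := exists_prime_orderOf_dvd_card r h1
  refine ⟨(x : F), ?_⟩
  rw [IsPrimitiveRoot.coe_units_iff, ← hx]
  exact IsPrimitiveRoot.orderOf x

theorem natCast_ne_zero_of_dvd (r : ℕ) (hr : r.Prime) (hrq : r ∣ Fintype.card F - 1) :
    (r : F) ≠ 0 := by
  obtain ⟨p, hp⟩ := CharP.exists F
  have hpp : p.Prime := CharP.char_is_prime F p
  obtain ⟨k, hk⟩ := FiniteField.card F p
  intro h0
  rw [CharP.cast_eq_zero_iff F p] at h0
  have h1 : p ∣ Fintype.card F - 1 := h0.trans hrq
  have h2 : p ∣ Fintype.card F := by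
    rw [hk.2]
    exact dvd_pow_self p k.ne_zero
  have hq1 : 1 ≤ Fintype.card F := Fintype.card_pos
  have h3 : p ∣ 1 := by
    have := (Nat.dvd_sub h2 h1)
    rwa [Nat.sub_sub_self hq1] at this
  exact hpp.one_lt.ne' (Nat.dvd_one.mp h3)

theorem exists_power_class_reps (r : ℕ) (hr : r.Prime) (hrq : r ∣ Fintype.card F - 1) :
    ∃ lam : Fin (r - 1) → F, (∀ i, ∀ s : F, s ^ r ≠ lam i) ∧
      (∀ i i' (c : F), lam i = c ^ r * lam i' → i = i') ∧
      (∀ l : F, l ≠ 0 → (∀ s : F, s ^ r ≠ l) → ∃ i, ∃ c : F, c ≠ 0 ∧ l = c ^ r * lam i) := by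
  classical
  obtain ⟨θ, hθ⟩ := IsCyclic.exists_generator (α := Fˣ)
  have hord : orderOf θ = Fintype.card F - 1 := by
    rw [orderOf_eq_card_of_forall_mem_zpowers hθ, Nat.card_eq_fintype_card, Fintype.card_units]
  have hpow : ∀ x : F, x ≠ 0 → ∃ k : ℕ, x = ((θ ^ k : Fˣ) : F) := by
    intro x hx
    have h1 := hθ (Units.mk0 x hx)
    rw [← mem_powers_iff_mem_zpowers] at h1
    obtain ⟨k, hk⟩ := h1
    refine ⟨k, ?_⟩
    have h2 := congrArg Units.val hk
    simpa using h2.symm
  have hmod : ∀ m m' : ℕ, θ ^ m = θ ^ m' → m % r = m' % r := by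
    intro m m' h
    rw [pow_eq_pow_iff_modEq, hord] at h
    exact h.of_dvd hrq
  have hr2 : 2 ≤ r := hr.two_le
  refine ⟨fun i => ((θ ^ (i.val + 1) : Fˣ) : F), ?_, ?_, ?_⟩
  · intro i s hs
    have hs0 : s ≠ 0 := by
      rintro rfl
      rw [zero_pow hr.ne_zero] at hs
      exact (Units.ne_zero _) hs.symm
    obtain ⟨k, rfl⟩ := hpow s hs0
    rw [← Units.val_pow_eq_pow_val, ← pow_mul] at hs
    have h1 := hmod _ _ (Units.ext hs)
    have hi := i.isLt
    rw [Nat.mul_mod_left, Nat.mod_eq_of_lt (by omega)] at h1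
    omega
  · intro i i' c hc
    have hc0 : c ≠ 0 := by
      rintro rfl
      rw [zero_pow hr.ne_zero, zero_mul] at hc
      exact (Units.ne_zero _) hc
    obtain ⟨k, rfl⟩ := hpow c hc0
    rw [← Units.val_pow_eq_pow_val, ← Units.val_mul, ← pow_mul, ← pow_add] at hc
    have h1 := hmod _ _ (Units.ext hc)
    have hi := i.isLt
    have hi' := i'.isLt
    rw [Nat.add_comm (k * r), Nat.add_mul_mod_self_right, Nat.mod_eq_of_lt (by omega),
      Nat.mod_eq_of_lt (by omega)] at h1
    apply Fin.ext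
    omega
  · intro l hl hnp
    obtain ⟨m, rfl⟩ := hpow l hl
    have hm : m % r ≠ 0 := by
      intro h0
      apply hnp ((θ ^ (m / r) : Fˣ) : F)
      rw [← Units.val_pow_eq_pow_val, ← pow_mul]
      congr 2
      have := Nat.div_add_mod m r
      rw [h0, add_zero] at this
      rw [mul_comm]; exact this
    have hlt : m % r < r := Nat.mod_lt _ hr.pos
    refine ⟨⟨m % r - 1, by omega⟩, ((θ ^ (m / r) : Fˣ) : F), Units.ne_zero _, ?_⟩
    rw [← Units.val_pow_eq_pow_val, ← Units.val_mul, ← pow_mul, ← pow_add]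
    congr 2
    have := Nat.div_add_mod m r
    simp only
    have h5 : m % r - 1 + 1 = m % r := by omega
    rw [h5, mul_comm]
    exact this.symm

end field



section count
variable (n r : ℕ) [NeZero r]

/-- the finset of multiplicity functions -/
noncomputable def Tfin : Finset (ZMod r → ℕ) :=
  (Finset.piAntidiag (Finset.univ : Finset (ZMod r)) n).filter (fun f => ∀ j, f j < n)

/-- multiplicity data: functions `ZMod r → ℕ` with sum `n` and all values `< n` -/
@[ext] structure Adat where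
  /-- the multiplicities -/
  f : ZMod r → ℕ
  sum_eq : ∑ j, f j = n
  lt : ∀ j, f j < n

theorem mem_Tfin (f : ZMod r → ℕ) : f ∈ Tfin n r ↔ (∑ j, f j = n) ∧ ∀ j, f j < n := by
  rw [Tfin, Finset.mem_filter, Finset.mem_piAntidiag]
  simp

/-- `Adat` as the subtype of a finset -/
noncomputable def adatEquiv : Adat n r ≃ {f : ZMod r → ℕ // f ∈ Tfin n r} where
  toFun a := ⟨a.f, (mem_Tfin n r a.f).mpr ⟨a.sum_eq, a.lt⟩⟩
  invFun x := ⟨x.1, ((mem_Tfin n r x.1).mp x.2).1, ((mem_Tfin n r x.1).mp x.2).2⟩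
  left_inv _ := rfl
  right_inv _ := rfl

noncomputable instance : Fintype (Adat n r) := Fintype.ofEquiv _ (adatEquiv n r).symm

theorem card_Adat : Fintype.card (Adat n r) = (Tfin n r).card := by
  rw [Fintype.card_congr (adatEquiv n r), Fintype.card_coe]

theorem card_piAntidiag_univ :
    (Finset.piAntidiag (Finset.univ : Finset (ZMod r)) n).card = (r + n - 1).choose n := by
  classical
  rw [← Finset.map_sym_eq_piAntidiag, Finset.card_map, Finset.sym_univ, Finset.card_univ,
    Sym.card_sym_eq_choose, ZMod.card]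

theorem card_Tfin (hn : 0 < n) : (Tfin n r).card = (n + r - 1).choose (r - 1) - r := by
  classical
  have hr1 : 1 ≤ r := NeZero.one_le
  have h1 : Finset.piAntidiag (Finset.univ : Finset (ZMod r)) n =
      Tfin n r ∪ Finset.univ.image (fun j : ZMod r => Pi.single j n) := by
    ext f
    rw [Finset.mem_union, mem_Tfin, Finset.mem_piAntidiag, Finset.mem_image]
    constructor
    · rintro ⟨hs', -⟩
      have hs : ∑ j, f j = n := hs'
      by_cases hlt : ∀ j, f j < n
      · exact Or.inl ⟨hs, hlt⟩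
      · right
        push Not at hlt
        obtain ⟨j₀, hj₀⟩ := hlt
        refine ⟨j₀, Finset.mem_univ _, ?_⟩
        have h2 : ∑ j, f j = f j₀ + ∑ j ∈ Finset.univ.erase j₀, f j :=
          (Finset.add_sum_erase _ _ (Finset.mem_univ j₀)).symm
        have h3 : ∑ j ∈ Finset.univ.erase j₀, f j = 0 := by omega
        have h4 : f j₀ = n := by omega
        rw [Finset.sum_eq_zero_iff] at h3
        funext j
        by_cases hj : j = j₀
        · subst hj; simp [h4]
        · rw [Pi.single_eq_of_ne hj]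
          exact (h3 j (Finset.mem_erase.mpr ⟨hj, Finset.mem_univ j⟩)).symm
    · rintro (⟨hs, -⟩ | ⟨j₀, -, rfl⟩)
      · exact ⟨hs, fun i _ => Finset.mem_univ i⟩
      · refine ⟨?_, fun i _ => Finset.mem_univ i⟩
        rw [Finset.sum_pi_single']
        simp
  have h2 : Disjoint (Tfin n r) (Finset.univ.image (fun j : ZMod r => Pi.single j n)) := by
    rw [Finset.disjoint_left]
    intro f hf hf'
    rw [mem_Tfin] at hf
    rw [Finset.mem_image] at hf'
    obtain ⟨j₀, -, rfl⟩ := hf'
    have := hf.2 j₀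
    simp at this
  have h3 : (Finset.univ.image (fun j : ZMod r => (Pi.single j n : ZMod r → ℕ))).card = r := by
    rw [Finset.card_image_of_injective, Finset.card_univ, ZMod.card]
    intro j k hjk
    by_contra hne
    have h5 : (Pi.single j n : ZMod r → ℕ) j = (Pi.single k n : ZMod r → ℕ) j := congrFun hjk j
    rw [Pi.single_eq_same, Pi.single_eq_of_ne hne] at h5
    omega
  have h4 := card_piAntidiag_univ n r
  rw [h1, Finset.card_union_of_disjoint h2, h3] at h4
  have h5 : (r + n - 1).choose n = (n + r - 1).choose (r - 1) := by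
    have e1 : r + n - 1 = (r - 1) + n := by omega
    have e2 : n + r - 1 = (r - 1) + n := by omega
    rw [e1, e2, Nat.choose_symm_add]
  omega

/-- the rotation action -/
noncomputable instance : MulAction (Multiplicative (ZMod r)) (Adat n r) where
  smul k a := ⟨fun j => a.f (j - Multiplicative.toAdd k),
    (Fintype.sum_equiv (Equiv.subRight (Multiplicative.toAdd k)) _ _ (fun _ => rfl)).trans
      a.sum_eq, fun _ => a.lt _⟩
  one_smul a := by
    apply Adat.ext
    funext j
    change a.f (j - 0) = a.f j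
    rw [sub_zero]
  mul_smul k k' a := by
    apply Adat.ext
    funext j
    change a.f (j - (Multiplicative.toAdd k + Multiplicative.toAdd k')) =
      a.f (j - Multiplicative.toAdd k - Multiplicative.toAdd k')
    rw [sub_sub]

theorem smul_f (k : Multiplicative (ZMod r)) (a : Adat n r) (j : ZMod r) :
    (k • a).f j = a.f (j - Multiplicative.toAdd k) := rfl

end count

section burnside
variable (n r : ℕ) [hr : Fact r.Prime]

theorem const_of_fixed (a : Adat n r) (k : Multiplicative (ZMod r)) (hk : k ≠ 1)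
    (hfix : k • a = a) (j j' : ZMod r) : a.f j = a.f j' := by
  set t : ZMod r := Multiplicative.toAdd k with ht
  have ht0 : t ≠ 0 := by
    intro h
    apply hk
    rw [← ofAdd_toAdd k, ← ht, h, ofAdd_zero]
  have h1 : ∀ (m : ℕ) (i : ZMod r), a.f (i - m • t) = a.f i := by
    intro m
    induction m with
    | zero => intro i; simp
    | succ m ih =>
      intro i
      have h2 := congrArg (fun b : Adat n r => b.f (i - m • t)) hfix
      simp only [smul_f] at h2
      rw [succ_nsmul, ← sub_sub, h2, ih]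
  have h3 := h1 ((j' - j) * t⁻¹).val j'
  rw [nsmul_eq_mul, ZMod.natCast_zmod_val, mul_assoc, inv_mul_cancel₀ ht0, mul_one] at h3
  rw [← h3]
  congr 1
  ring

theorem card_orbits (hn : 0 < n)
    [Fintype (MulAction.orbitRel.Quotient (Multiplicative (ZMod r)) (Adat n r))] :
    r * Fintype.card (MulAction.orbitRel.Quotient (Multiplicative (ZMod r)) (Adat n r)) =
      Fintype.card (Adat n r) + (r - 1) * (if r ∣ n then 1 else 0) := by
  classical
  have hr2 : 2 ≤ r := hr.out.two_le
  have hB := MulAction.sum_card_fixedBy_eq_card_orbits_mul_card_group (Multiplicative (ZMod r))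
    (Adat n r)
  rw [Fintype.card_multiplicative, ZMod.card] at hB
  rw [mul_comm, ← hB]
  have hfix : ∀ k : Multiplicative (ZMod r), k ≠ 1 →
      Fintype.card (MulAction.fixedBy (Adat n r) k) = if r ∣ n then 1 else 0 := by
    intro k hk
    split_ifs with hdvd
    · rw [Fintype.card_eq_one_iff]
      have hc1 : ∑ _j : ZMod r, n / r = n := by
        rw [Finset.sum_const, Finset.card_univ, ZMod.card, smul_eq_mul]
        exact Nat.mul_div_cancel' hdvd
      have hc2 : ∀ _j : ZMod r, n / r < n := fun _ => Nat.div_lt_self hn (by omega)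
      refine ⟨⟨⟨fun _ => n / r, hc1, hc2⟩, ?_⟩, ?_⟩
      · rw [MulAction.mem_fixedBy]
        apply Adat.ext
        funext j
        rfl
      · rintro ⟨a, ha⟩
        rw [MulAction.mem_fixedBy] at ha
        apply Subtype.ext
        apply Adat.ext
        funext j
        change a.f j = n / r
        have h1 : ∑ i : ZMod r, a.f i = r * a.f j := by
          rw [Finset.sum_congr rfl (fun i _ => const_of_fixed n r a k hk ha i j), Finset.sum_const,
            Finset.card_univ, ZMod.card, smul_eq_mul]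
        have h2 := a.sum_eq
        rw [h1] at h2
        exact (Nat.div_eq_of_eq_mul_right (by omega) h2.symm).symm
    · rw [Fintype.card_eq_zero_iff]
      constructor
      rintro ⟨a, ha⟩
      rw [MulAction.mem_fixedBy] at ha
      apply hdvd
      have h1 : ∑ i : ZMod r, a.f i = r * a.f 0 := by
        rw [Finset.sum_congr rfl (fun i _ => const_of_fixed n r a k hk ha i 0), Finset.sum_const,
          Finset.card_univ, ZMod.card, smul_eq_mul]
      have h2 := a.sum_eq
      rw [h1] at h2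
      exact ⟨_, h2.symm⟩
  rw [← Finset.add_sum_erase Finset.univ _ (Finset.mem_univ (1 : Multiplicative (ZMod r)))]
  congr 1
  · rw [Fintype.card_congr (Equiv.setCongr (MulAction.fixedBy_one_eq_univ _ _))]
    exact Fintype.card_congr (Equiv.Set.univ _)
  · rw [Finset.sum_congr rfl (fun k hk => hfix k (Finset.ne_of_mem_erase hk)), Finset.sum_const,
      Finset.card_erase_of_mem (Finset.mem_univ _), Finset.card_univ, Fintype.card_multiplicative,
      ZMod.card, smul_eq_mul]

end burnside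


section reps
variable {F : Type*} [Field F] [Fintype F] {n : ℕ} (r : ℕ) [NeZero r]

theorem exists_split_rep (ζ : F) (hζ : ζ ^ r = 1) (a : ZMod r → ℕ) (ha : ∑ j, a j = n) :
    ∃ D : GL (Fin n) F, Module.End.IsSemisimple (Matrix.toLin' D.val) ∧
      D.val.charpoly = PF (zf r ζ) a ∧ D.val ^ r = (1 : F) • 1 := by
  obtain ⟨A, hss, hchar, hkill⟩ := exists_matrix_semisimple_charpoly_kill n (PF (zf r ζ) a)
    (PF_monic _ _) ((PF_natDegree _ _).trans ha)
  have hpow : A ^ r = (1 : F) • 1 := by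
    apply pow_eq_of_aeval
    apply hkill
    intro m _ hirr hdvd
    obtain ⟨j, hj⟩ := exists_dvd_of_irreducible_dvd_PF _ _ m hirr hdvd
    exact hj.trans (X_sub_C_zf_dvd r ζ hζ j)
  exact ⟨glOfPow r (NeZero.pos r) A 1 one_ne_zero hpow, hss, hchar, hpow⟩

theorem exists_nonsplit_rep (hr : r.Prime) (l : F) (hl : ∀ s : F, s ^ r ≠ l) (hn : r ∣ n) :
    ∃ B : GL (Fin n) F, Module.End.IsSemisimple (Matrix.toLin' B.val) ∧
      B.val.charpoly = (X ^ r - C l) ^ (n / r) ∧ B.val ^ r = l • 1 := by
  have hm : (X ^ r - C l : F[X]).Monic := monic_X_pow_sub_C l hr.ne_zero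
  have hd : (X ^ r - C l : F[X]).natDegree = r := natDegree_X_pow_sub_C
  have hl0 : l ≠ 0 := by
    rintro rfl
    exact hl 0 (zero_pow hr.ne_zero)
  obtain ⟨A, hss, hchar, hkill⟩ := exists_matrix_semisimple_charpoly_kill n
    ((X ^ r - C l) ^ (n / r)) (hm.pow _) (by
      rw [hm.natDegree_pow, hd]
      exact Nat.div_mul_cancel hn)
  have hpow : A ^ r = l • 1 := by
    apply pow_eq_of_aeval
    apply hkill
    intro m _ hirr hdvd
    exact hirr.prime.dvd_of_dvd_pow hdvd
  exact ⟨glOfPow r (NeZero.pos r) A l hl0 hpow, hss, hchar, hpow⟩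

omit [Fintype F] in
theorem charpoly_scale (ζ : F) (hζ : ζ ^ r = 1) (M : Matrix (Fin n) (Fin n) F) (a : Adat n r)
    (hM : M.charpoly = PF (zf r ζ) a.f) (k : ZMod r) :
    ((zf r ζ k) • M).charpoly = PF (zf r ζ) ((Multiplicative.ofAdd k) • a).f := by
  rw [charpoly_smul M _ (zf_ne_zero r ζ hζ k), hM, Fintype.card_fin,
    PF_scale _ _ _ (zf_ne_zero r ζ hζ k) n a.sum_eq]
  have h1 : (fun j => zf r ζ k * zf r ζ j) = (zf r ζ) ∘ (Equiv.addRight k) := by
    funext j
    rw [Function.comp_apply, Equiv.coe_addRight, zf_add r ζ hζ, mul_comm]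
  rw [h1, PF_reindex]
  congr 1
  funext j
  rw [Function.comp_apply, smul_f]
  congr 1
  simp [sub_eq_add_neg]

theorem eq_smul_one_of_charpoly (M : Matrix (Fin n) (Fin n) F)
    (hss : Module.End.IsSemisimple (Matrix.toLin' M)) (c : F) (hc : c ≠ 0)
    (h : M.charpoly = (X - C c) ^ n) : M = c • 1 := by
  have hq1 : 1 ≤ Fintype.card F := Fintype.card_pos
  have h1 : Module.End.IsSemisimple (Matrix.toLin' (c • (1 : Matrix (Fin n) (Fin n) F))) := by
    apply isSemisimple_toLin'_of_pow_eq_one _ (Fintype.card F - 1)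
    · rw [Nat.cast_sub hq1, FiniteField.cast_card_eq_zero]
      simp
    · rw [_root_.smul_pow, one_pow, FiniteField.pow_card_sub_one_eq_one c hc, one_smul]
  obtain ⟨P, hP⟩ := exists_gl_conj_of_charpoly_eq M (c • 1) hss h1 (by
    rw [h, Cfsg.Agent.S2577.charpoly_smul_one])
  rw [Matrix.smul_mul, Matrix.one_mul] at hP
  have h3 : P⁻¹.val * (P.val * M) = P⁻¹.val * (c • P.val) := by rw [hP]
  rwa [← Matrix.mul_assoc, Matrix.mul_smul, ← Units.val_mul, inv_mul_cancel, Units.val_one,
    Matrix.one_mul] at h3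

omit [Fintype F] in
theorem not_scalar_of_charpoly_PF (ζ : F) (hζ : IsPrimitiveRoot ζ r) (hn : 0 < n)
    (M : Matrix (Fin n) (Fin n) F) (a : Adat n r) (hM : M.charpoly = PF (zf r ζ) a.f) :
    ¬ ∃ c : F, M = c • 1 := by
  rintro ⟨c, rfl⟩
  rw [Cfsg.Agent.S2577.charpoly_smul_one] at hM
  have h1 := congrArg (rootMultiplicity c) hM
  rw [rootMultiplicity_X_sub_C_pow] at h1
  by_cases hc : ∃ j, c = zf r ζ j
  · obtain ⟨j, rfl⟩ := hc
    rw [PF_rootMultiplicity_self _ (zf_injective r ζ hζ)] at h1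
    have := a.lt j
    omega
  · push Not at hc
    rw [PF_rootMultiplicity_of_ne _ _ _ hc] at h1
    omega

theorem split_normal_form (hrF : (r : F) ≠ 0) (ζ : F) (hζ : IsPrimitiveRoot ζ r)
    (A : Matrix (Fin n) (Fin n) F) (hA : A ^ r = (1 : F) • 1) (hns : ¬ ∃ c : F, A = c • 1) :
    ∃ a : Adat n r, Module.End.IsSemisimple (Matrix.toLin' A) ∧ A.charpoly = PF (zf r ζ) a.f := by
  have hss := semisimple_of_pow r hrF A 1 one_ne_zero hA
  obtain ⟨a, ha⟩ := exists_eq_PF (zf r ζ) A.charpoly (Matrix.charpoly_monic A) (by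
    intro m hm hirr hdvd
    have h1 := dvd_of_irreducible_dvd_charpoly A hss (X ^ r - C 1) (aeval_of_pow_eq r A 1 hA) m hm
      hirr hdvd
    exact exists_eq_X_sub_C_zf r ζ hζ m hm hirr h1)
  have hsum : ∑ j, a j = n := by
    have h3 := congrArg natDegree ha
    rw [Matrix.charpoly_natDegree_eq_dim, Fintype.card_fin, PF_natDegree] at h3
    exact h3.symm
  have hlt : ∀ j, a j < n := by
    intro j₀
    by_contra hge
    push Not at hge
    have h2 : ∑ j, a j = a j₀ + ∑ j ∈ Finset.univ.erase j₀, a j :=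
      (Finset.add_sum_erase _ _ (Finset.mem_univ j₀)).symm
    have h3 : ∑ j ∈ Finset.univ.erase j₀, a j = 0 := by omega
    have h4 : a j₀ = n := by omega
    rw [Finset.sum_eq_zero_iff] at h3
    apply hns
    refine ⟨zf r ζ j₀, eq_smul_one_of_charpoly A hss _ (zf_ne_zero r ζ hζ.pow_eq_one j₀) ?_⟩
    rw [ha, PF, Finset.prod_eq_single j₀, h4]
    · intro j _ hj
      rw [h3 j (Finset.mem_erase.mpr ⟨hj, Finset.mem_univ j⟩), pow_zero]
    · intro h
      exact absurd (Finset.mem_univ j₀) h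
  exact ⟨⟨a, hsum, hlt⟩, hss, ha⟩

theorem nonsplit_normal_form (hr : r.Prime) (hrF : (r : F) ≠ 0) (l : F)
    (hl : ∀ s : F, s ^ r ≠ l) (A : Matrix (Fin n) (Fin n) F) (hA : A ^ r = l • 1) :
    r ∣ n ∧ Module.End.IsSemisimple (Matrix.toLin' A) ∧
      A.charpoly = (X ^ r - C l) ^ (n / r) := by
  have hm : (X ^ r - C l : F[X]).Monic := monic_X_pow_sub_C l hr.ne_zero
  have hd : (X ^ r - C l : F[X]).natDegree = r := natDegree_X_pow_sub_C
  have hl0 : l ≠ 0 := by
    rintro rfl
    exact hl 0 (zero_pow hr.ne_zero)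
  have hss := semisimple_of_pow r hrF A l hl0 hA
  obtain ⟨a, b, hab⟩ := Cfsg.Agent.S2577.eq_pow_mul_pow_of_factors A.charpoly
    (Matrix.charpoly_monic A) (X ^ r - C l) (X ^ r - C l) (by
      intro m hm' hirr hdvd
      have h1 := dvd_of_irreducible_dvd_charpoly A hss (X ^ r - C l) (aeval_of_pow_eq r A l hA) m
        hm' hirr hdvd
      left
      exact eq_of_monic_irreducible_dvd hm' hirr hm (X_pow_sub_C_irreducible_of_prime hr hl) h1)
  rw [← pow_add] at hab
  have hdeg : r * (a + b) = n := by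
    have h3 := congrArg natDegree hab
    rw [Matrix.charpoly_natDegree_eq_dim, Fintype.card_fin, hm.natDegree_pow, hd] at h3
    rw [h3, mul_comm]
  have hk : n / r = a + b := by
    rw [← hdeg, Nat.mul_div_cancel_left _ hr.pos]
  exact ⟨⟨a + b, hdeg.symm⟩, hss, by rw [hab, hk]⟩

end reps


/-- Number of conjugacy classes of elements of prime order r in PGL_n(q) = GL_n(q)/scalars when r divides q − 1 (n ≥ 2): the classes of elements with a diagonalisable lift correspond to the orbits of the cyclic rotation on the r-tuples of eigenvalue multiplicities (a_0, …, a_(r−1)) summing to n with every a_j < n, and when r divides n there are r − 1 further classes (lifts acting irreducibly on blocks of size r); in all (C(n+r−1, r−1) − r − [r ∣ n])/r + r·[r ∣ n] classes. -/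
theorem result {F : Type*} [Field F] [Fintype F] {q : ℕ} (hF : Fintype.card F = q) {n r : ℕ} (hn : 2 ≤ n) (hr : r.Prime) (hrq : r ∣ q - 1) : Nat.card {C : ConjClasses (GL (Fin n) F ⧸ Subgroup.center (GL (Fin n) F)) // ∃ g : GL (Fin n) F ⧸ Subgroup.center (GL (Fin n) F), ConjClasses.mk g = C ∧ orderOf g = r} = (Nat.choose (n + r - 1) (r - 1) - r - (if r ∣ n then 1 else 0)) / r + r * (if r ∣ n then 1 else 0) := by
  classical
  subst hF
  have hn0 : 0 < n := by omega
  have : NeZero r := ⟨hr.ne_zero⟩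
  have : Fact r.Prime := ⟨hr⟩
  have hr2 : 2 ≤ r := hr.two_le
  have hrF : (r : F) ≠ 0 := natCast_ne_zero_of_dvd r hr hrq
  obtain ⟨ζ, hζ⟩ := exists_primitiveRoot_of_dvd (F := F) r hr hrq
  have hζ1 : ζ ^ r = 1 := hζ.pow_eq_one
  have hz := zf_injective r ζ hζ
  obtain ⟨lam, hlam1, hlam2, hlam3⟩ := exists_power_class_reps (F := F) r hr hrq
  have hD : ∀ a : Adat n r, ∃ D : GL (Fin n) F, Module.End.IsSemisimple (Matrix.toLin' D.val) ∧
      D.val.charpoly = PF (zf r ζ) a.f ∧ D.val ^ r = (1 : F) • 1 :=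
    fun a => exists_split_rep r ζ hζ1 a.f a.sum_eq
  choose D hDss hDchar hDpow using hD
  have hB : ∀ i : Fin (r - 1), r ∣ n → ∃ B : GL (Fin n) F,
      Module.End.IsSemisimple (Matrix.toLin' B.val) ∧
      B.val.charpoly = (X ^ r - C (lam i)) ^ (n / r) ∧ B.val ^ r = lam i • 1 :=
    fun i hdvd => exists_nonsplit_rep r hr (lam i) (hlam1 i) hdvd
  choose! B hBss hBchar hBpow using hB
  have key := Cfsg.Agent.S2577.card_classes_of_reps
    (fun g : GL (Fin n) F ⧸ Subgroup.center (GL (Fin n) F) => orderOf g = r)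
    (I := MulAction.orbitRel.Quotient (Multiplicative (ZMod r)) (Adat n r) ⊕
      {i : Fin (r - 1) // r ∣ n})
    (Sum.elim (fun ω => (QuotientGroup.mk (D ω.out) :
      GL (Fin n) F ⧸ Subgroup.center (GL (Fin n) F))) (fun i => QuotientGroup.mk (B i.1)))
    ?_ ?_ ?_
  · rw [key, Fintype.card_sum]
    have h1 := card_orbits n r hn0
    rw [card_Adat, card_Tfin n r hn0] at h1
    have h2 : Fintype.card {i : Fin (r - 1) // r ∣ n} = if r ∣ n then r - 1 else 0 := by
      split_ifs with h
      · rw [Fintype.card_subtype, Finset.filter_true_of_mem (fun _ _ => h), Finset.card_univ,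
          Fintype.card_fin]
      · rw [Fintype.card_eq_zero_iff]
        exact ⟨fun x => h x.2⟩
    rw [h2]
    generalize Fintype.card (MulAction.orbitRel.Quotient (Multiplicative (ZMod r)) (Adat n r)) = M
      at h1 ⊢
    generalize (n + r - 1).choose (r - 1) = C at h1 ⊢
    split_ifs at h1 ⊢ with hdvd
    · rw [mul_one] at h1
      have hM : 1 ≤ M := by
        rcases Nat.eq_zero_or_pos M with h | h
        · rw [h, mul_zero] at h1
          omega
        · exact h
      have h3 : C - r - 1 = r * (M - 1) := by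
        rw [Nat.mul_sub, mul_one]
        omega
      rw [h3, Nat.mul_div_cancel_left _ hr.pos]
      omega
    · rw [mul_zero, add_zero] at h1
      rw [Nat.sub_zero, mul_zero, add_zero, add_zero, ← h1, Nat.mul_div_cancel_left _ hr.pos]
  · -- the representatives have order `r`
    rintro (ω | i)
    · simp only [Sum.elim_inl]
      rw [orderOf_mk_eq_prime_iff r hr]
      exact ⟨⟨1, hDpow _⟩, not_scalar_of_charpoly_PF r ζ hζ hn0 _ ω.out (hDchar _)⟩
    · simp only [Sum.elim_inr]
      rw [orderOf_mk_eq_prime_iff r hr]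
      refine ⟨⟨lam i.1, hBpow i.1 i.2⟩, ?_⟩
      rintro ⟨c, hc⟩
      have h3 := hBpow i.1 i.2
      rw [hc, _root_.smul_pow, one_pow] at h3
      have h4 := congrFun (congrFun h3 ⟨0, hn0⟩) ⟨0, hn0⟩
      exact hlam1 i.1 c (by simpa using h4)
  · -- the representatives are pairwise non-conjugate
    rintro (ω | i) (ω' | i') hconj
    · simp only [Sum.elim_inl] at hconj
      obtain ⟨P, c, hrel⟩ := Cfsg.Agent.S2577.exists_of_isConj_mk _ _ hconj
      have hc := scalar_pow_rel hn0 r _ _ P c 1 1 (hDpow _) (hDpow _) hrel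
      have hc1 : c ^ r = 1 := by rw [hc]; ring
      obtain ⟨k, hk⟩ := exists_zf_eq r ζ hζ c hc1
      have h3 : (c • (D ω.out).val).charpoly = (D ω'.out).val.charpoly :=
        Cfsg.Agent.S2577.charpoly_eq_of_conj _ _ P (by rw [Matrix.mul_smul]; exact hrel.symm)
      rw [← hk, charpoly_scale r ζ hζ1 _ ω.out (hDchar _) k, hDchar] at h3
      have h4 := PF_injective _ hz _ _ h3
      congr 1
      rw [← Quotient.out_eq ω, ← Quotient.out_eq ω']
      symm
      apply Quotient.sound
      change ω'.out ∈ MulAction.orbit (Multiplicative (ZMod r)) ω.out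
      rw [MulAction.mem_orbit_iff]
      exact ⟨Multiplicative.ofAdd k, Adat.ext h4⟩
    · exfalso
      simp only [Sum.elim_inl, Sum.elim_inr] at hconj
      obtain ⟨P, c, hrel⟩ := Cfsg.Agent.S2577.exists_of_isConj_mk _ _ hconj
      have hc := scalar_pow_rel hn0 r _ _ P c 1 (lam i'.1) (hDpow _) (hBpow i'.1 i'.2) hrel
      exact hlam1 i'.1 c (by rw [hc]; ring)
    · exfalso
      simp only [Sum.elim_inl, Sum.elim_inr] at hconj
      obtain ⟨P, c, hrel⟩ := Cfsg.Agent.S2577.exists_of_isConj_mk _ _ hconj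
      have hc := scalar_pow_rel hn0 r _ _ P c (lam i.1) 1 (hBpow i.1 i.2) (hDpow _) hrel
      have hc0 : c ≠ 0 := by
        rintro rfl
        rw [zero_pow hr.ne_zero, zero_mul] at hc
        exact one_ne_zero hc
      apply hlam1 i.1 c⁻¹
      rw [inv_pow]
      field_simp
      rw [hc]
    · simp only [Sum.elim_inr] at hconj
      obtain ⟨P, c, hrel⟩ := Cfsg.Agent.S2577.exists_of_isConj_mk _ _ hconj
      have hc := scalar_pow_rel hn0 r _ _ P c (lam i.1) (lam i'.1) (hBpow i.1 i.2)
        (hBpow i'.1 i'.2) hrel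
      congr 1
      exact Subtype.ext (hlam2 i'.1 i.1 c hc).symm
  · -- every element of order `r` is conjugate to a representative
    intro x hx
    obtain ⟨g, rfl⟩ := QuotientGroup.mk_surjective x
    change orderOf _ = r at hx
    rw [orderOf_mk_eq_prime_iff r hr] at hx
    obtain ⟨⟨l, hl⟩, hns⟩ := hx
    have hl0 : l ≠ 0 := ne_zero_of_gl_pow hn0 r g l hl
    by_cases hpw : ∃ s : F, s ^ r = l
    · obtain ⟨s, rfl⟩ := hpw
      have hs : s ≠ 0 := by
        rintro rfl
        rw [zero_pow hr.ne_zero] at hl0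
        exact hl0 rfl
      have hA : (s⁻¹ • g.val) ^ r = (1 : F) • 1 := by
        rw [_root_.smul_pow, hl, smul_smul, inv_pow, inv_mul_cancel₀ (pow_ne_zero _ hs)]
      have hns' : ¬ ∃ c : F, s⁻¹ • g.val = c • 1 := by
        rintro ⟨c, hc⟩
        apply hns
        refine ⟨s * c, ?_⟩
        rw [mul_smul, ← hc, smul_smul, mul_inv_cancel₀ hs, one_smul]
      obtain ⟨a, hss, hchar⟩ := split_normal_form r hrF ζ hζ _ hA hns'
      obtain ⟨k, hk⟩ : ∃ k : Multiplicative (ZMod r),
          k • a = (Quotient.mk (MulAction.orbitRel (Multiplicative (ZMod r)) (Adat n r)) a).out := by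
        have h3 := Quotient.mk_out (s := MulAction.orbitRel (Multiplicative (ZMod r)) (Adat n r)) a
        change _ ∈ MulAction.orbit (Multiplicative (ZMod r)) a at h3
        rwa [MulAction.mem_orbit_iff] at h3
      have hch : ((zf r ζ (Multiplicative.toAdd k)) • (s⁻¹ • g.val)).charpoly =
          (D (Quotient.mk (MulAction.orbitRel (Multiplicative (ZMod r)) (Adat n r)) a).out).val.charpoly := by
        rw [charpoly_scale r ζ hζ1 _ a hchar, hDchar, ← hk]
        rfl
      have hss' : Module.End.IsSemisimple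
          (Matrix.toLin' ((zf r ζ (Multiplicative.toAdd k)) • (s⁻¹ • g.val))) :=
        semisimple_of_pow r hrF _ 1 one_ne_zero (by
          rw [_root_.smul_pow, hA, zf_pow r ζ hζ1, one_smul])
      obtain ⟨P, hP⟩ := exists_gl_conj_of_charpoly_eq _ _ hss' (hDss _) hch
      refine ⟨Sum.inl (Quotient.mk (MulAction.orbitRel (Multiplicative (ZMod r)) (Adat n r)) a), ?_⟩
      simp only [Sum.elim_inl]
      exact (Cfsg.Agent.S2577.isConj_mk_of g (D _) P (zf r ζ (Multiplicative.toAdd k) * s⁻¹) (by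
        rw [← hP, Matrix.mul_smul, Matrix.mul_smul, smul_smul])).symm
    · push Not at hpw
      obtain ⟨i, c, hc0, hc⟩ := hlam3 l hl0 hpw
      have hA : (c⁻¹ • g.val) ^ r = lam i • 1 := by
        rw [_root_.smul_pow, hl, smul_smul, hc, inv_pow, ← mul_assoc,
          inv_mul_cancel₀ (pow_ne_zero _ hc0), one_mul]
      obtain ⟨hdvd, hss, hchar⟩ := nonsplit_normal_form r hr hrF (lam i) (hlam1 i) _ hA
      obtain ⟨P, hP⟩ := exists_gl_conj_of_charpoly_eq (c⁻¹ • g.val) (B i).val hss (hBss i hdvd)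
        (by rw [hchar, hBchar i hdvd])
      refine ⟨Sum.inr ⟨i, hdvd⟩, ?_⟩
      simp only [Sum.elim_inr]
      exact (Cfsg.Agent.S2577.isConj_mk_of g (B i) P c⁻¹ (by rw [← hP, Matrix.mul_smul])).symm

end Cfsg.Agent.S2670
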