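import Cfsg.Statements.S1470
import Mathlib

set_option autoImplicit false
open Cfsg

namespace Cfsg.Agent.S1470

open Polynomial

/-- `(p^q-1)/(p-1)` coprime to `p-1` forces `q` coprime to `p-1`. -/
theorem coprime_q_of_hA (p q : ℕ) (hp2 : 2 ≤ p)
    (hA : Nat.Coprime ((p ^ q - 1) / (p - 1)) (p - 1)) : Nat.Coprime q (p - 1) := by
  have hgeom : (p ^ q - 1) / (p - 1) = ∑ i ∈ Finset.range q, p ^ i := (Nat.geomSum_eq hp2 q).symm
  have hmod : (∑ i ∈ Finset.range q, p ^ i) ≡ q [MOD (p - 1)] := by
    have h1 : p ≡ 1 [MOD (p - 1)] := by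
      have : p = (p - 1) + 1 := by omega
      conv_lhs => rw [this]
      simp [Nat.ModEq]
    have h2 : ∀ i ∈ Finset.range q, p ^ i ≡ 1 [MOD (p - 1)] := by
      intro i _
      simpa using h1.pow i
    have h3 := Nat.ModEq.sum h2 (s := Finset.range q)
    simpa using h3
  unfold Nat.Coprime at hA ⊢
  rw [hgeom] at hA
  rw [← hmod.gcd_eq]
  exact hA

theorem main (p q : ℕ) [hpP : Fact p.Prime] [hqP : Fact q.Prime]
    (hA : Nat.Coprime ((p ^ q - 1) / (p - 1)) (p - 1))
    (E : Set (GaloisField p q))
    (hE : E = {a : GaloisField p q | Algebra.norm (ZMod p) a = 1 ∧ Algebra.norm (ZMod p) (2 - a) = 1})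
    (hinv : ∀ a ∈ E, a⁻¹ ∈ E)
    (h2 : 2 ≤ Set.ncard E) :
    p ≤ q := by
  have hq0 : q ≠ 0 := hqP.out.ne_zero
  have hfr : Module.finrank (ZMod p) (GaloisField p q) = q := GaloisField.finrank p hq0
  have hcop : Nat.Coprime q (p - 1) := coprime_q_of_hA p q hpP.out.two_le hA
  have hmemE : ∀ x : GaloisField p q, x ∈ E ↔ (Algebra.norm (ZMod p) x = 1 ∧ Algebra.norm (ZMod p) (2 - x) = 1) := by
    intro x; rw [hE]; rfl
  -- an element a ≠ 1 of E
  obtain ⟨a, haE, ha1⟩ := Set.exists_ne_of_one_lt_ncard (by omega : 1 < E.ncard) (1 : GaloisField p q)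
  -- a is not in the prime field
  have hrange : a ∉ Set.range (algebraMap (ZMod p) (GaloisField p q)) := by
    rintro ⟨c, rfl⟩
    have hN := ((hmemE _).mp haE).1
    rw [Algebra.norm_algebraMap, hfr] at hN
    have hc0 : c ≠ 0 := by
      rintro rfl
      rw [zero_pow hq0] at hN
      exact zero_ne_one hN
    have hc1 : c ^ (p - 1) = 1 := ZMod.pow_card_sub_one_eq_one hc0
    have hg := pow_gcd_eq_one.mpr ⟨hN, hc1⟩
    rw [hcop, pow_one] at hg
    apply ha1
    rw [hg, map_one]
  set s : GaloisField p q := (a - 1)⁻¹ with hs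
  have ha1' : a - 1 ≠ 0 := sub_ne_zero.mpr ha1
  have hsK : ∀ k : ZMod p, s + algebraMap (ZMod p) (GaloisField p q) k ≠ 0 := by
    intro k hk
    apply hrange
    have h1 : s = algebraMap (ZMod p) (GaloisField p q) (-k) := by
      rw [map_neg]; exact eq_neg_of_add_eq_zero_left hk
    have h2 : a - 1 = algebraMap (ZMod p) (GaloisField p q) ((-k)⁻¹) := by
      rw [map_inv₀, ← h1, hs, inv_inv]
    refine ⟨1 + (-k)⁻¹, ?_⟩
    rw [map_add, map_one, ← h2]
    ring
  have hsn : ∀ n : ℕ, s + (n : GaloisField p q) ≠ 0 := by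
    intro n
    have := hsK (n : ZMod p)
    rwa [map_natCast] at this
  -- symmetric under x ↦ 2 - x
  have hsymm : ∀ x ∈ E, 2 - x ∈ E := by
    intro x hx
    rw [hmemE] at hx ⊢
    refine ⟨hx.2, ?_⟩
    have : (2 : GaloisField p q) - (2 - x) = x := by ring
    rw [this]; exact hx.1
  -- the orbit
  have horbit : ∀ n : ℕ, 1 + (s + (n : GaloisField p q))⁻¹ ∈ E := by
    intro n
    induction n with
    | zero =>
      have : 1 + (s + ((0 : ℕ) : GaloisField p q))⁻¹ = a := by
        rw [Nat.cast_zero, add_zero, hs, inv_inv]; ring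
      rw [this]; exact haE
    | succ n ih =>
      have h1 := hsymm _ (hinv _ ih)
      have ht := hsn n
      have ht' := hsn (n + 1)
      have hb : 1 + (s + (n : GaloisField p q))⁻¹ ≠ 0 := by
        have : 1 + (s + (n : GaloisField p q))⁻¹ = (s + ((n + 1 : ℕ) : GaloisField p q)) / (s + (n : GaloisField p q)) := by
          field_simp
          push_cast
          ring
        rw [this]
        exact div_ne_zero ht' ht
      have : 2 - (1 + (s + (n : GaloisField p q))⁻¹)⁻¹ = 1 + (s + ((n + 1 : ℕ) : GaloisField p q))⁻¹ := by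
        have e1 : 1 + (s + (n : GaloisField p q))⁻¹ = (s + ((n + 1 : ℕ) : GaloisField p q)) / (s + (n : GaloisField p q)) := by
          field_simp
          push_cast
          ring
        rw [e1, inv_div]
        field_simp
        push_cast
        ring
      rw [this] at h1
      exact h1
  -- norms are constant
  have hstep : ∀ n : ℕ, Algebra.norm (ZMod p) (s + ((n + 1 : ℕ) : GaloisField p q)) = Algebra.norm (ZMod p) (s + (n : GaloisField p q)) := by
    intro n
    have h1 := ((hmemE _).mp (horbit n)).1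
    have ht := hsn n
    have : s + ((n + 1 : ℕ) : GaloisField p q) = (1 + (s + (n : GaloisField p q))⁻¹) * (s + (n : GaloisField p q)) := by
      field_simp
      push_cast
      ring
    rw [this, map_mul, h1, one_mul]
  have hconst : ∀ n : ℕ, Algebra.norm (ZMod p) (s + (n : GaloisField p q)) = Algebra.norm (ZMod p) s := by
    intro n
    induction n with
    | zero => simp
    | succ n ih => rw [hstep n, ih]
  have hconstK : ∀ k : ZMod p, Algebra.norm (ZMod p) (algebraMap (ZMod p) (GaloisField p q) k + s) = Algebra.norm (ZMod p) s := by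
    intro k
    have := hconst k.val
    have hk : ((k.val : ℕ) : GaloisField p q) = algebraMap (ZMod p) (GaloisField p q) k := by
      rw [← map_natCast (algebraMap (ZMod p) (GaloisField p q)), ZMod.natCast_zmod_val]
    rw [hk, add_comm] at this
    exact this
  -- the polynomial
  set f : Module.End (ZMod p) (GaloisField p q) := LinearMap.mul (ZMod p) (GaloisField p q) (-s) with hf
  set g : (ZMod p)[X] := f.charpoly with hg
  have hgmonic : g.Monic := LinearMap.charpoly_monic f
  have hgdeg : g.natDegree = q := by rw [hg, LinearMap.charpoly_natDegree, hfr]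
  have hgeval : ∀ k : ZMod p, g.eval k = Algebra.norm (ZMod p) s := by
    intro k
    rw [hg, LinearMap.eval_charpoly, ← hconstK k, Algebra.norm_apply]
    congr 1
    rw [hf]
    ext x
    simp [Algebra.algebraMap_eq_smul_one]
  set c := Algebra.norm (ZMod p) s with hc
  set h : (ZMod p)[X] := g - C c with hh
  have hq1 : 1 ≤ q := Nat.one_le_iff_ne_zero.mpr hq0
  have hhdeg : h.natDegree = q := by rw [hh, natDegree_sub_C, hgdeg]
  have hh0 : h ≠ 0 := by
    intro h0
    rw [h0, natDegree_zero] at hhdeg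
    omega
  have hroots : (Finset.univ : Finset (ZMod p)).val ⊆ h.roots := by
    intro k _
    rw [mem_roots hh0, IsRoot, hh, eval_sub, eval_C, hgeval k, sub_self]
  have := card_le_degree_of_subset_roots hroots
  rw [hhdeg, Finset.card_univ, ZMod.card] at this
  exact this

/-- Let p and q be odd primes with (p^q − 1)/(p − 1) coprime to p − 1, and let E be the set of elements a of the field with p ^ q elements whose norm to the prime field is 1 and for which 2 − a also has norm 1. If a⁻¹ ∈ E for every a ∈ E and E has at least two elements, then p ≤ q. -/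
theorem result (p q : ℕ) [Fact p.Prime] [Fact q.Prime] (hp : p ≠ 2) (hq : q ≠ 2) (hA : Nat.Coprime ((p ^ q - 1) / (p - 1)) (p - 1))
    (hinv : ∀ a ∈ {a : GaloisField p q | Algebra.norm (ZMod p) a = 1 ∧ Algebra.norm (ZMod p) (2 - a) = 1}, a⁻¹ ∈ {a : GaloisField p q | Algebra.norm (ZMod p) a = 1 ∧ Algebra.norm (ZMod p) (2 - a) = 1})
    (h2 : 2 ≤ Set.ncard {a : GaloisField p q | Algebra.norm (ZMod p) a = 1 ∧ Algebra.norm (ZMod p) (2 - a) = 1}) :
    p ≤ q :=
  main p q hA _ rfl hinv h2

end Cfsg.Agent.S1470
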