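import Cfsg.Statements.S5638
import Cfsg.Agent.Lib.Helper93.SLGeneration

set_option autoImplicit false
set_option linter.unusedSectionVars false
set_option linter.deprecated false
open Cfsg

namespace Cfsg.Agent.S5638


open Matrix Cfsg.Geo Cfsg.Agent.Lib.Helper93
open scoped Kronecker

variable {F : Type*} [Field F] [Fintype F]

theorem elem_cases (hq : Fintype.card F = 2) (x : F) : x = 0 ∨ x = 1 := by
  classical
  by_cases hx : x = 0
  · exact Or.inl hx
  · right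
    have hcard : Fintype.card Fˣ = 1 := by rw [Fintype.card_units, hq]
    have hsub : Subsingleton Fˣ := Fintype.card_le_one_iff_subsingleton.1 (by omega)
    have := Subsingleton.elim (Units.mk0 x hx) 1
    have h2 := congrArg Units.val this
    simpa using h2

theorem two_eq_zero (hq : Fintype.card F = 2) : (1 : F) + 1 = 0 := by
  rcases elem_cases hq ((1 : F) + 1) with h | h
  · exact h
  · exfalso
    have : (1 : F) = 0 := by
      have := congrArg (fun t => t - 1) h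
      simpa using this
    exact one_ne_zero this

theorem specialLinear_eq_top (hq : Fintype.card F = 2) (ι : Type) [Fintype ι] [DecidableEq ι] :
    specialLinear ι F = ⊤ := by
  classical
  rw [eq_top_iff]
  intro g _
  have hcard : Fintype.card Fˣ = 1 := by rw [Fintype.card_units, hq]
  have hsub : Subsingleton Fˣ := Fintype.card_le_one_iff_subsingleton.1 (by omega)
  unfold specialLinear
  rw [MonoidHom.mem_ker]
  exact Subsingleton.elim _ _

/-- the matrix of order three -/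
def om (F : Type*) [Field F] : Matrix (Fin 2) (Fin 2) F := !![0, 1; 1, 1]

theorem om_sq : om F * om F = !![1, 1; 1, 1 + 1] := by
  unfold om
  ext i j
  fin_cases i <;> fin_cases j <;> simp [Matrix.mul_apply, Fin.sum_univ_two]

theorem om_cube (hq : Fintype.card F = 2) : om F * om F * om F = 1 := by
  have h2 := two_eq_zero hq
  rw [om_sq]
  unfold om
  ext i j
  fin_cases i <;> fin_cases j <;> simp [Matrix.mul_apply, Fin.sum_univ_two, h2]

theorem claimC (hq : Fintype.card F = 2) (a : Matrix (Fin 2) (Fin 2) F) (hdet : a.det ≠ 0) :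
    a * om F = om F * a ∨ a * om F = om F * om F * a := by
  have h2 := two_eq_zero hq
  rw [Matrix.det_fin_two] at hdet
  rw [om_sq]
  unfold om
  rcases elem_cases hq (a 0 0) with h00 | h00 <;> rcases elem_cases hq (a 0 1) with h01 | h01 <;>
    rcases elem_cases hq (a 1 0) with h10 | h10 <;> rcases elem_cases hq (a 1 1) with h11 | h11 <;>
    simp only [h00, h01, h10, h11, mul_zero, zero_mul, mul_one, sub_zero, sub_self, ne_eq,
      not_true_eq_false, zero_sub, neg_eq_zero, one_ne_zero, not_false_eq_true] at hdet <;>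
    first
    | (left; ext i j; fin_cases i <;> fin_cases j <;>
        (simp [Matrix.mul_apply, Fin.sum_univ_two, h00, h01, h10, h11, h2]; done))
    | (right; ext i j; fin_cases i <;> fin_cases j <;>
        (simp [Matrix.mul_apply, Fin.sum_univ_two, h00, h01, h10, h11, h2]; done))


/-- the subgroup of elements conjugating `x` to `x` or `x⁻¹` -/
def invNormalizer {G : Type*} [Group G] (x : G) : Subgroup G where
  carrier := {g | g * x * g⁻¹ = x ∨ g * x * g⁻¹ = x⁻¹}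
  one_mem' := by left; simp
  mul_mem' := by
    intro a b ha hb
    have key : (a * b) * x * (a * b)⁻¹ = a * (b * x * b⁻¹) * a⁻¹ := by group
    have hinv : a * x⁻¹ * a⁻¹ = (a * x * a⁻¹)⁻¹ := by group
    simp only [Set.mem_setOf_eq] at *
    rw [key]
    rcases hb with hb | hb <;> rcases ha with ha | ha
    · left; rw [hb, ha]
    · right; rw [hb, ha]
    · right; rw [hb, hinv, ha]
    · left; rw [hb, hinv, ha, inv_inv]
  inv_mem' := by
    intro a ha
    have hinv : a * x⁻¹ * a⁻¹ = (a * x * a⁻¹)⁻¹ := by group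
    simp only [Set.mem_setOf_eq] at *
    rcases ha with ha | ha
    · left
      calc a⁻¹ * x * a⁻¹⁻¹ = a⁻¹ * (a * x * a⁻¹) * a := by rw [ha, inv_inv]
        _ = x := by group
    · right
      have h1 : a * x⁻¹ * a⁻¹ = x := by rw [hinv, ha, inv_inv]
      calc a⁻¹ * x * a⁻¹⁻¹ = a⁻¹ * (a * x⁻¹ * a⁻¹) * a := by rw [h1, inv_inv]
        _ = x⁻¹ := by group

theorem mem_invNormalizer_iff {G : Type*} [Group G] (x g : G) :
    g ∈ invNormalizer x ↔ g * x = x * g ∨ g * x = x⁻¹ * g := by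
  show (g * x * g⁻¹ = x ∨ g * x * g⁻¹ = x⁻¹) ↔ _
  rw [mul_inv_eq_iff_eq_mul, mul_inv_eq_iff_eq_mul]

/-- `Ω = ω ⊗ 1` as a matrix -/
def OmM (F : Type*) [Field F] (n₂ : ℕ) : Matrix (Fin 2 × Fin n₂) (Fin 2 × Fin n₂) F :=
  om F ⊗ₖ (1 : Matrix (Fin n₂) (Fin n₂) F)

theorem OmM_mul_OmM (n₂ : ℕ) : OmM F n₂ * OmM F n₂ = (om F * om F) ⊗ₖ (1 : Matrix (Fin n₂) (Fin n₂) F) := by
  unfold OmM
  rw [← Matrix.mul_kronecker_mul, Matrix.one_mul]

theorem OmM_cube (hq : Fintype.card F = 2) (n₂ : ℕ) : OmM F n₂ * OmM F n₂ * OmM F n₂ = 1 := by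
  rw [OmM_mul_OmM]
  unfold OmM
  rw [← Matrix.mul_kronecker_mul, Matrix.one_mul, om_cube hq, Matrix.one_kronecker_one]

/-- `Ω` as an element of `GL` -/
def OmG (hq : Fintype.card F = 2) (n₂ : ℕ) : GL (Fin 2 × Fin n₂) F where
  val := OmM F n₂
  inv := OmM F n₂ * OmM F n₂
  val_inv := by rw [← Matrix.mul_assoc]; exact OmM_cube hq n₂
  inv_val := OmM_cube hq n₂

theorem OmG_val (hq : Fintype.card F = 2) (n₂ : ℕ) :
    ((OmG hq n₂ : GL (Fin 2 × Fin n₂) F) : Matrix _ _ F) = om F ⊗ₖ (1 : Matrix (Fin n₂) (Fin n₂) F) := rfl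

theorem OmG_inv_val (hq : Fintype.card F = 2) (n₂ : ℕ) :
    (((OmG hq n₂)⁻¹ : GL (Fin 2 × Fin n₂) F) : Matrix _ _ F) =
      (om F * om F) ⊗ₖ (1 : Matrix (Fin n₂) (Fin n₂) F) := OmM_mul_OmM n₂

theorem kronecker_le (hq : Fintype.card F = 2) (n₂ : ℕ) :
    kroneckerSubgroup 2 n₂ F ≤ invNormalizer (OmG hq n₂) := by
  intro g hg
  obtain ⟨a, b, hab⟩ := hg
  rw [mem_invNormalizer_iff]
  have hdet : (a : Matrix (Fin 2) (Fin 2) F).det ≠ 0 := a.det_ne_zero
  rcases claimC hq (a : Matrix (Fin 2) (Fin 2) F) hdet with h | h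
  · left
    apply Units.ext
    rw [Units.val_mul, Units.val_mul, hab, OmG_val, ← Matrix.mul_kronecker_mul, ← Matrix.mul_kronecker_mul,
      h, Matrix.mul_one, Matrix.one_mul]
  · right
    apply Units.ext
    rw [Units.val_mul, Units.val_mul, hab, OmG_val, OmG_inv_val, ← Matrix.mul_kronecker_mul,
      ← Matrix.mul_kronecker_mul, h, Matrix.mul_one, Matrix.one_mul]


/-- an elementary transvection that does not normalise `⟨Ω⟩` -/
theorem exists_not_mem (hq : Fintype.card F = 2) (n₂ : ℕ) (j0 j1 : Fin n₂) (hj : j0 ≠ j1) :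
    ∃ g : GL (Fin 2 × Fin n₂) F, g ∉ invNormalizer (OmG hq n₂) := by
  have hne : ((0 : Fin 2), j1) ≠ ((1 : Fin 2), j0) := by
    intro h; have h' := congrArg Prod.fst h; simp at h'
  refine ⟨elemTv ((0 : Fin 2), j1) ((1 : Fin 2), j0) hne 1, ?_⟩
  intro hmem
  rw [mem_invNormalizer_iff] at hmem
  -- evaluate both sides at the basis vector e_(0,j0), coordinate (0,j1)
  have hL : ∀ X : Matrix (Fin 2) (Fin 2) F, X 1 0 = 1 →
      ((((elemTv ((0 : Fin 2), j1) ((1 : Fin 2), j0) hne 1 : GL (Fin 2 × Fin n₂) F) : Matrix _ _ F) *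
        (X ⊗ₖ (1 : Matrix (Fin n₂) (Fin n₂) F))) *ᵥ (Pi.single ((0 : Fin 2), j0) 1)) ((0 : Fin 2), j1) = 1 := by
    intro X hX
    rw [← Matrix.mulVec_mulVec, elemTv_mulVec_apply, Matrix.mulVec_single_one]
    simp only [Matrix.col_apply, Matrix.kroneckerMap_apply, Matrix.one_apply, if_true]
    rw [if_neg (Ne.symm hj), hX]
    simp
  have hR : ∀ X : Matrix (Fin 2) (Fin 2) F,
      (((X ⊗ₖ (1 : Matrix (Fin n₂) (Fin n₂) F)) *
        ((elemTv ((0 : Fin 2), j1) ((1 : Fin 2), j0) hne 1 : GL (Fin 2 × Fin n₂) F) : Matrix _ _ F)) *ᵥ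
          (Pi.single ((0 : Fin 2), j0) 1)) ((0 : Fin 2), j1) = 0 := by
    intro X
    rw [← Matrix.mulVec_mulVec]
    have hfix : ((elemTv ((0 : Fin 2), j1) ((1 : Fin 2), j0) hne 1 : GL (Fin 2 × Fin n₂) F) : Matrix _ _ F) *ᵥ
        (Pi.single ((0 : Fin 2), j0) 1) = Pi.single ((0 : Fin 2), j0) 1 := by
      funext k
      rw [elemTv_mulVec_apply]
      have : (Pi.single ((0 : Fin 2), j0) (1 : F) : Fin 2 × Fin n₂ → F) ((1 : Fin 2), j0) = 0 := by
        rw [Pi.single_apply, if_neg]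
        intro h; have h' := congrArg Prod.fst h; simp at h'
      rw [this]
      simp
    rw [hfix, Matrix.mulVec_single_one]
    simp only [Matrix.col_apply, Matrix.kroneckerMap_apply, Matrix.one_apply]
    rw [if_neg (Ne.symm hj), mul_zero]
  have hom10 : om F 1 0 = 1 := by unfold om; simp
  rcases hmem with h | h
  · have h' := congrArg (fun g : GL (Fin 2 × Fin n₂) F => ((g : Matrix _ _ F) *ᵥ
        (Pi.single ((0 : Fin 2), j0) 1)) ((0 : Fin 2), j1)) h
    simp only [Units.val_mul, OmG_val] at h'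
    rw [hL (om F) hom10, hR] at h'
    exact one_ne_zero h'
  · have h' := congrArg (fun g : GL (Fin 2 × Fin n₂) F => ((g : Matrix _ _ F) *ᵥ
        (Pi.single ((0 : Fin 2), j0) 1)) ((0 : Fin 2), j1)) h
    simp only [Units.val_mul, OmG_val, OmG_inv_val] at h'
    rw [hL (om F) hom10, hR] at h'
    exact one_ne_zero h'

/-- the idempotent `E` and its complement -/
def EE (F : Type*) [Field F] (n₂ : ℕ) (j0 : Fin n₂) : Matrix (Fin n₂) (Fin n₂) F :=
  Matrix.diagonal (fun j => if j = j0 then 1 else 0)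

def EE' (F : Type*) [Field F] (n₂ : ℕ) (j0 : Fin n₂) : Matrix (Fin n₂) (Fin n₂) F :=
  Matrix.diagonal (fun j => if j = j0 then 0 else 1)

theorem EE_mul_EE (n₂ : ℕ) (j0 : Fin n₂) : EE F n₂ j0 * EE F n₂ j0 = EE F n₂ j0 := by
  unfold EE; rw [Matrix.diagonal_mul_diagonal]; congr 1; funext j; split_ifs <;> simp

theorem EE'_mul_EE' (n₂ : ℕ) (j0 : Fin n₂) : EE' F n₂ j0 * EE' F n₂ j0 = EE' F n₂ j0 := by
  unfold EE'; rw [Matrix.diagonal_mul_diagonal]; congr 1; funext j; split_ifs <;> simp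

theorem EE_mul_EE' (n₂ : ℕ) (j0 : Fin n₂) : EE F n₂ j0 * EE' F n₂ j0 = 0 := by
  unfold EE EE'; rw [Matrix.diagonal_mul_diagonal]
  rw [← Matrix.diagonal_zero]; congr 1; funext j; split_ifs <;> simp

theorem EE'_mul_EE (n₂ : ℕ) (j0 : Fin n₂) : EE' F n₂ j0 * EE F n₂ j0 = 0 := by
  unfold EE EE'; rw [Matrix.diagonal_mul_diagonal]
  rw [← Matrix.diagonal_zero]; congr 1; funext j; split_ifs <;> simp

theorem EE_add_EE' (n₂ : ℕ) (j0 : Fin n₂) : EE F n₂ j0 + EE' F n₂ j0 = 1 := by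
  unfold EE EE'; rw [Matrix.diagonal_add, ← Matrix.diagonal_one]; congr 1; funext j; split_ifs <;> simp

/-- the matrix `X ⊗ E + 1 ⊗ E'` -/
def hM (F : Type*) [Field F] (n₂ : ℕ) (j0 : Fin n₂) (X : Matrix (Fin 2) (Fin 2) F) :
    Matrix (Fin 2 × Fin n₂) (Fin 2 × Fin n₂) F :=
  X ⊗ₖ EE F n₂ j0 + (1 : Matrix (Fin 2) (Fin 2) F) ⊗ₖ EE' F n₂ j0

theorem hM_mul_hM (n₂ : ℕ) (j0 : Fin n₂) (X Y : Matrix (Fin 2) (Fin 2) F) :
    hM F n₂ j0 X * hM F n₂ j0 Y = hM F n₂ j0 (X * Y) := by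
  unfold hM
  rw [Matrix.add_mul, Matrix.mul_add, Matrix.mul_add, ← Matrix.mul_kronecker_mul, ← Matrix.mul_kronecker_mul,
    ← Matrix.mul_kronecker_mul, ← Matrix.mul_kronecker_mul, EE_mul_EE, EE'_mul_EE', EE_mul_EE', EE'_mul_EE,
    Matrix.kronecker_zero, Matrix.kronecker_zero, add_zero, zero_add, Matrix.one_mul]

theorem hM_one (n₂ : ℕ) (j0 : Fin n₂) : hM F n₂ j0 1 = 1 := by
  unfold hM
  rw [← Matrix.kronecker_add, EE_add_EE', Matrix.one_kronecker_one]

theorem hM_mul_OmM (n₂ : ℕ) (j0 : Fin n₂) (X : Matrix (Fin 2) (Fin 2) F) (Y : Matrix (Fin 2) (Fin 2) F) :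
    hM F n₂ j0 X * (Y ⊗ₖ (1 : Matrix (Fin n₂) (Fin n₂) F)) =
      (X * Y) ⊗ₖ EE F n₂ j0 + Y ⊗ₖ EE' F n₂ j0 := by
  unfold hM
  rw [Matrix.add_mul, ← Matrix.mul_kronecker_mul, ← Matrix.mul_kronecker_mul, Matrix.mul_one, Matrix.mul_one,
    Matrix.one_mul]

theorem OmM_mul_hM (n₂ : ℕ) (j0 : Fin n₂) (X : Matrix (Fin 2) (Fin 2) F) (Y : Matrix (Fin 2) (Fin 2) F) :
    (Y ⊗ₖ (1 : Matrix (Fin n₂) (Fin n₂) F)) * hM F n₂ j0 X =
      (Y * X) ⊗ₖ EE F n₂ j0 + Y ⊗ₖ EE' F n₂ j0 := by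
  unfold hM
  rw [Matrix.mul_add, ← Matrix.mul_kronecker_mul, ← Matrix.mul_kronecker_mul, Matrix.one_mul, Matrix.one_mul,
    Matrix.mul_one]

/-- the element `ω ⊗ E + 1 ⊗ E'` of GL -/
def hG (hq : Fintype.card F = 2) (n₂ : ℕ) (j0 : Fin n₂) : GL (Fin 2 × Fin n₂) F where
  val := hM F n₂ j0 (om F)
  inv := hM F n₂ j0 (om F * om F)
  val_inv := by rw [hM_mul_hM, ← Matrix.mul_assoc, om_cube hq, hM_one]
  inv_val := by rw [hM_mul_hM, om_cube hq, hM_one]

theorem hG_mem (hq : Fintype.card F = 2) (n₂ : ℕ) (j0 : Fin n₂) :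
    hG hq n₂ j0 ∈ invNormalizer (OmG hq n₂) := by
  rw [mem_invNormalizer_iff]
  left
  apply Units.ext
  rw [Units.val_mul, Units.val_mul, OmG_val]
  show hM F n₂ j0 (om F) * _ = _ * hM F n₂ j0 (om F)
  rw [hM_mul_OmM, OmM_mul_hM]

theorem hG_not_mem (hq : Fintype.card F = 2) (n₂ : ℕ) (j0 j1 : Fin n₂) (hj : j0 ≠ j1) :
    hG hq n₂ j0 ∉ kroneckerSubgroup 2 n₂ F := by
  rintro ⟨a, b, hab⟩
  have hval : ∀ i i' : Fin 2, ∀ j j' : Fin n₂,
      (om F) i i' * EE F n₂ j0 j j' + (1 : Matrix (Fin 2) (Fin 2) F) i i' * EE' F n₂ j0 j j' =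
        (a : Matrix (Fin 2) (Fin 2) F) i i' * (b : Matrix (Fin n₂) (Fin n₂) F) j j' := by
    intro i i' j j'
    have := congrFun (congrFun hab (i, j)) (i', j')
    simpa [hG, hM, Matrix.add_apply, Matrix.kroneckerMap_apply] using this
  have h1 := hval 0 0 j1 j1
  have h2 := hval 0 1 j1 j1
  have h3 := hval 0 1 j0 j0
  simp only [om, EE, EE', Matrix.diagonal_apply_eq, if_neg (Ne.symm hj), if_true, Matrix.one_apply_eq,
    Matrix.of_apply, Matrix.cons_val', Matrix.cons_val_zero, Matrix.cons_val_one, Matrix.empty_val',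
    Matrix.cons_val_fin_one, mul_zero, mul_one, zero_add, add_zero, Matrix.one_apply_ne,
    ne_eq, not_false_eq_true, zero_mul] at h1 h2 h3
  have hb : (b : Matrix (Fin n₂) (Fin n₂) F) j1 j1 ≠ 0 := by
    intro h0; rw [h0, mul_zero] at h1; exact one_ne_zero h1
  have ha : (a : Matrix (Fin 2) (Fin 2) F) 0 1 = 0 := by
    have h2' : (a : Matrix (Fin 2) (Fin 2) F) 0 1 * (b : Matrix (Fin n₂) (Fin n₂) F) j1 j1 = 0 := by
      simpa using h2.symm
    rcases mul_eq_zero.1 h2' with h | h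
    · exact h
    · exact absurd h hb
  rw [ha, zero_mul] at h3
  simp at h3


/-- Over the field with 2 elements, for n = 2 n₂ ≥ 13, the stabiliser in SL_n of a tensor decomposition with factors of dimensions 2 and n₂ (the conjugate by any P of the Kronecker-product subgroup transported along any bijection Fin n ≃ Fin 2 × Fin n₂, intersected with SL_n) is not a maximal subgroup: some subgroup lies strictly between it and SL_n. -/
theorem result {F : Type*} [Field F] [Fintype F] (n : ℕ) (hn : 13 ≤ n) (hq : Fintype.card F = 2) (n₂ : ℕ) (e : Fin n ≃ Fin 2 × Fin n₂) (P : Matrix.GeneralLinearGroup (Fin n) F) : ∃ K : Subgroup (Matrix.GeneralLinearGroup (Fin n) F), Cfsg.Geo.tensorProductSubgroup 2 n₂ e P ⊓ Cfsg.Geo.specialLinear (Fin n) F < K ∧ K < Cfsg.Geo.specialLinear (Fin n) F := by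
  classical
  -- n = 2 * n₂, so n₂ ≥ 2
  have hcard : n = 2 * n₂ := by
    have := Fintype.card_congr e
    simpa using this
  have hn2 : 2 ≤ n₂ := by omega
  let j0 : Fin n₂ := ⟨0, by omega⟩
  let j1 : Fin n₂ := ⟨1, by omega⟩
  have hj : j0 ≠ j1 := by
    intro h; have := congrArg Fin.val h; simp [j0, j1] at this
  -- the transporting isomorphism
  let Φ : GL (Fin 2 × Fin n₂) F →* GL (Fin n) F :=
    (MulAut.conj P).toMonoidHom.comp (Cfsg.Geo.glReindex e.symm).toMonoidHom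
  have hΦinj : Function.Injective Φ := by
    intro x y hxy
    have h1 : (MulAut.conj P) ((Cfsg.Geo.glReindex e.symm) x) = (MulAut.conj P) ((Cfsg.Geo.glReindex e.symm) y) := hxy
    exact (Cfsg.Geo.glReindex e.symm).injective ((MulAut.conj P).injective h1)
  have hΦsurj : Function.Surjective Φ := by
    intro y
    obtain ⟨z, hz⟩ := (MulAut.conj P).surjective y
    obtain ⟨x, hx⟩ := (Cfsg.Geo.glReindex e.symm).surjective z
    exact ⟨x, by show (MulAut.conj P) ((Cfsg.Geo.glReindex e.symm) x) = y; rw [hx, hz]⟩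
  have hT : Cfsg.Geo.tensorProductSubgroup 2 n₂ e P = (Cfsg.Geo.kroneckerSubgroup 2 n₂ F).map Φ := by
    unfold Cfsg.Geo.tensorProductSubgroup
    rw [Subgroup.map_map]
  rw [specialLinear_eq_top hq (Fin n), inf_top_eq, hT]
  refine ⟨(invNormalizer (OmG hq n₂)).map Φ, ?_, ?_⟩
  · rw [Subgroup.map_lt_map_iff_of_injective hΦinj, lt_iff_le_and_ne]
    refine ⟨kronecker_le hq n₂, ?_⟩
    intro heq
    have := hG_mem hq n₂ j0
    rw [← heq] at this
    exact hG_not_mem hq n₂ j0 j1 hj this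
  · rw [← Subgroup.map_top_of_surjective Φ hΦsurj, Subgroup.map_lt_map_iff_of_injective hΦinj,
      lt_top_iff_ne_top]
    intro heq
    obtain ⟨g, hg⟩ := exists_not_mem hq n₂ j0 j1 hj
    rw [heq] at hg
    exact hg (Subgroup.mem_top g)

end Cfsg.Agent.S5638
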