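import Cfsg.Statements.S0562
import Mathlib

set_option autoImplicit false
open Cfsg

namespace Cfsg.Agent.S0562

/-- Let the finite group G be the product HK of subgroups, A normal in H, B normal in K, and L the normalizer of the subgroup generated by A and B. Then every element of L is a product of an element of L ∩ H and an element of L ∩ K. -/
theorem result {G : Type*} [Group G] [Finite G] (H K A B : Subgroup G) (hHK : ∀ g : G, ∃ h ∈ H, ∃ k ∈ K, g = h * k) (hA : A ≤ H) (hAn : (A.subgroupOf H).Normal) (hB : B ≤ K) (hBn : (B.subgroupOf K).Normal) : ∀ g ∈ Subgroup.normalizer ((A ⊔ B : Subgroup G) : Set G), ∃ h ∈ Subgroup.normalizer ((A ⊔ B : Subgroup G) : Set G) ⊓ H, ∃ k ∈ Subgroup.normalizer ((A ⊔ B : Subgroup G) : Set G) ⊓ K, g = h * k := by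
  intro g hg
  obtain ⟨h, hh, k, hk, rfl⟩ := hHK g
  have hAH : H ≤ Subgroup.normalizer (A : Set G) :=
    (Subgroup.normal_subgroupOf_iff_le_normalizer hA).mp hAn
  have hBK : K ≤ Subgroup.normalizer (B : Set G) :=
    (Subgroup.normal_subgroupOf_iff_le_normalizer hB).mp hBn
  set X : Subgroup G := A ⊔ B with hX
  rw [Subgroup.mem_normalizer_iff_map_conj_eq] at hg
  set Y : Subgroup G := X.map (MulAut.conj k).toMonoidHom with hY
  have hYX : Y.map (MulAut.conj h).toMonoidHom = X := by
    rw [hY, Subgroup.map_map]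
    have : (MulAut.conj h).toMonoidHom.comp (MulAut.conj k).toMonoidHom = (MulAut.conj (h * k)).toMonoidHom := by
      ext z
      simp [MulAut.conj_apply, mul_assoc]
    rw [this]
    exact hg
  have hBY : B ≤ Y := by
    intro b hb
    have hk' : k⁻¹ ∈ Subgroup.normalizer (B : Set G) := Subgroup.inv_mem _ (hBK hk)
    have : k⁻¹ * b * k⁻¹⁻¹ ∈ B := (Subgroup.mem_normalizer_iff.mp hk' b).mp hb
    refine ⟨k⁻¹ * b * k⁻¹⁻¹, (le_sup_right : B ≤ X) this, ?_⟩
    simp [MulAut.conj_apply, mul_assoc]
  have hAY : A ≤ Y := by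
    intro a ha
    have h1 : h * a * h⁻¹ ∈ A := (Subgroup.mem_normalizer_iff.mp (hAH hh) a).mp ha
    have h2 : h * a * h⁻¹ ∈ Y.map (MulAut.conj h).toMonoidHom := by
      rw [hYX]; exact (le_sup_left : A ≤ X) h1
    obtain ⟨y, hy, hya⟩ := h2
    have : y = a := by
      have := hya
      simp only [MulEquiv.toMonoidHom_eq_coe, MonoidHom.coe_coe, MulAut.conj_apply] at this
      have h3 : h * y = h * a := mul_right_cancel this
      exact mul_left_cancel h3
    rw [← this]; exact hy
  have hXY : X ≤ Y := sup_le hAY hBY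
  have hcard : Nat.card Y = Nat.card X := by
    rw [hY]
    exact Subgroup.card_map_of_injective (MulAut.conj k).injective
  have hXYeq : X = Y := by
    apply Subgroup.eq_of_le_of_card_ge hXY
    rw [hcard]
  have hkN : k ∈ Subgroup.normalizer (X : Set G) := by
    rw [Subgroup.mem_normalizer_iff_map_conj_eq]
    exact hXYeq.symm
  have hhN : h ∈ Subgroup.normalizer (X : Set G) := by
    rw [Subgroup.mem_normalizer_iff_map_conj_eq]
    rw [← hXYeq] at hYX
    exact hYX
  exact ⟨h, ⟨hhN, hh⟩, k, ⟨hkN, hk⟩, rfl⟩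

end Cfsg.Agent.S0562
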