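import Cfsg.Statements.S0563
import Cfsg.Agent.Lib.Helper71.W51Count
import Cfsg.Agent.Lib.Helper71.SylowNumber

set_option autoImplicit false
open Pointwise
open Cfsg

namespace Cfsg.Agent.S0563

open Cfsg.Agent.Lib.Helper71

universe u

theorem factorized_quot {G : Type u} [Group G] {A B : Subgroup G} (N : Subgroup G) [N.Normal]
    (hAB : ∀ g : G, ∃ a ∈ A, ∃ b ∈ B, g = a * b) :
    ∀ q : G ⧸ N, ∃ a ∈ A.map (QuotientGroup.mk' N), ∃ b ∈ B.map (QuotientGroup.mk' N),
      q = a * b := by
  intro q
  obtain ⟨g, rfl⟩ := QuotientGroup.mk'_surjective N q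
  obtain ⟨a, ha, b, hb, rfl⟩ := hAB g
  exact ⟨_, Subgroup.mem_map_of_mem _ ha, _, Subgroup.mem_map_of_mem _ hb, map_mul _ _ _⟩

theorem card_quot_lt {G : Type u} [Group G] [Finite G] (N : Subgroup G) [N.Normal] (hN : N ≠ ⊥) :
    Nat.card (G ⧸ N) < Nat.card G := by
  rw [Subgroup.card_eq_card_quotient_mul_card_subgroup N]
  have h1 : 1 < Nat.card N := (Subgroup.one_lt_card_iff_ne_bot _).mpr hN
  have h0 : 0 < Nat.card (G ⧸ N) := Nat.card_pos
  nlinarith

theorem arith_eq {x k y k' a b : ℕ} (h : x * k = y * k') (hx : x ∣ a) (hk : k ∣ b) (hy : y ∣ b)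
    (hk' : k' ∣ a) (hab : a.Coprime b) : x = k' := by
  have hxy : x.Coprime y := Nat.Coprime.coprime_dvd_left hx (Nat.Coprime.coprime_dvd_right hy hab)
  have hk'k : k'.Coprime k :=
    Nat.Coprime.coprime_dvd_left hk' (Nat.Coprime.coprime_dvd_right hk hab)
  have h1 : x ∣ k' := by
    apply hxy.dvd_of_dvd_mul_left
    rw [← h]; exact dvd_mul_right x k
  have h2 : k' ∣ x := by
    apply hk'k.dvd_of_dvd_mul_right
    rw [h]; exact dvd_mul_left k' y
  exact Nat.dvd_antisymm h1 h2

/-- A normal subgroup of a group factorized by subgroups of coprime orders is factorized. -/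
theorem fzd_of_normal {G : Type u} [Group G] [Finite G] {A B : Subgroup G}
    (hcop : (Nat.card A).Coprime (Nat.card B))
    (hcard : Nat.card G = Nat.card A * Nat.card B) (N : Subgroup G) [N.Normal] : Fzd A B N := by
  have hAi : A.index = Nat.card B := by
    have h1 := A.card_mul_index
    rw [hcard] at h1
    exact Nat.eq_of_mul_eq_mul_left Nat.card_pos h1
  have hBi : B.index = Nat.card A := by
    have h1 := B.card_mul_index
    rw [hcard, mul_comm (Nat.card A)] at h1
    exact Nat.eq_of_mul_eq_mul_left Nat.card_pos h1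
  have hxk : Nat.card N = Nat.card (A ⊓ N : Subgroup G) * A.relIndex N := by
    have := card_mul_relIndex_of_le (inf_le_right : A ⊓ N ≤ N)
    rw [Subgroup.inf_relIndex_right] at this
    exact this.symm
  have hyk : Nat.card N = Nat.card (B ⊓ N : Subgroup G) * B.relIndex N := by
    have := card_mul_relIndex_of_le (inf_le_right : B ⊓ N ≤ N)
    rw [Subgroup.inf_relIndex_right] at this
    exact this.symm
  have hk : A.relIndex N ∣ Nat.card B := by
    rw [← hAi, ← relIndex_sup_self_of_normal A N]
    exact Subgroup.relIndex_dvd_index_of_le le_sup_left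
  have hk' : B.relIndex N ∣ Nat.card A := by
    rw [← hBi, ← relIndex_sup_self_of_normal B N]
    exact Subgroup.relIndex_dvd_index_of_le le_sup_left
  have hx : Nat.card (A ⊓ N : Subgroup G) ∣ Nat.card A := Subgroup.card_dvd_of_le inf_le_left
  have hy : Nat.card (B ⊓ N : Subgroup G) ∣ Nat.card B := Subgroup.card_dvd_of_le inf_le_left
  have heq := arith_eq (hxk.symm.trans hyk) hx hk hy hk' hcop
  have hcardN : Nat.card N = Nat.card (A ⊓ N : Subgroup G) * Nat.card (B ⊓ N : Subgroup G) := by
    rw [hyk, ← heq, mul_comm]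
  -- the product map is injective, hence bijective
  let f : (A ⊓ N : Subgroup G) × (B ⊓ N : Subgroup G) → N := fun x =>
    ⟨(x.1 : G) * (x.2 : G), mul_mem x.1.2.2 x.2.2.2⟩
  have hdisj : A ⊓ B = ⊥ := (Subgroup.disjoint_of_coprime_natCard hcop).eq_bot
  have hinj : Function.Injective f := by
    rintro ⟨⟨a, ha⟩, ⟨b, hb⟩⟩ ⟨⟨a', ha'⟩, ⟨b', hb'⟩⟩ h
    have h1 : a * b = a' * b' := congrArg Subtype.val h
    have h2 : a'⁻¹ * a ∈ A ⊓ B := by
      refine Subgroup.mem_inf.mpr ⟨mul_mem (inv_mem ha'.1) ha.1, ?_⟩
      have : a'⁻¹ * a = b' * b⁻¹ := by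
        rw [inv_mul_eq_iff_eq_mul, ← mul_assoc, ← h1, mul_inv_cancel_right]
      rw [this]
      exact mul_mem hb'.1 (inv_mem hb.1)
    rw [hdisj, Subgroup.mem_bot, inv_mul_eq_one] at h2
    subst h2
    have h3 : b = b' := mul_left_cancel h1
    subst h3
    rfl
  have hbij : Function.Bijective f := by
    rw [Nat.bijective_iff_injective_and_card]
    exact ⟨hinj, by rw [Nat.card_prod, hcardN]⟩
  intro g hg
  obtain ⟨⟨a, b⟩, hab⟩ := hbij.2 ⟨g, hg⟩
  exact ⟨a, a.2, b, b.2, (congrArg Subtype.val hab).symm⟩

/-- The induction hypothesis gives solvability of proper factorized subgroups. -/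
theorem solvable_of_fzd {G : Type u} [Group G] [Finite G] {A B : Subgroup G}
    (hA : Group.IsNilpotent A) (hB : Group.IsNilpotent B)
    (hcop : (Nat.card A).Coprime (Nat.card B))
    (IH : ∀ m < Nat.card G, ∀ (H : Type u) [Group H] [Finite H] (A B : Subgroup H),
      Nat.card H = m → Group.IsNilpotent A → Group.IsNilpotent B →
      (Nat.card A).Coprime (Nat.card B) → (∀ g : H, ∃ a ∈ A, ∃ b ∈ B, g = a * b) →
      Group.IsSolvable H)
    (X : Subgroup G) (hX : X ≠ ⊤) (hf : Fzd A B X) : Group.IsSolvable X := by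
  have hlt : Nat.card X < Nat.card G := by
    apply lt_of_le_of_ne (Subgroup.card_le_card_group X)
    intro e
    exact hX ((Subgroup.card_eq_iff_eq_top X).mp e)
  have hnA : Group.IsNilpotent ((A ⊓ X).subgroupOf X) :=
    have _ : Group.IsNilpotent (A ⊓ X : Subgroup G) := isNilpotent_of_le inf_le_left
    Group.nilpotent_of_mulEquiv (Subgroup.subgroupOfEquivOfLe (inf_le_right : A ⊓ X ≤ X)).symm
  have hnB : Group.IsNilpotent ((B ⊓ X).subgroupOf X) :=
    have _ : Group.IsNilpotent (B ⊓ X : Subgroup G) := isNilpotent_of_le inf_le_left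
    Group.nilpotent_of_mulEquiv (Subgroup.subgroupOfEquivOfLe (inf_le_right : B ⊓ X ≤ X)).symm
  apply IH _ hlt X ((A ⊓ X).subgroupOf X) ((B ⊓ X).subgroupOf X) rfl hnA hnB
  · rw [card_subgroupOf_eq inf_le_right, card_subgroupOf_eq inf_le_right]
    exact Nat.Coprime.coprime_dvd_left (Subgroup.card_dvd_of_le inf_le_left)
      (Nat.Coprime.coprime_dvd_right (Subgroup.card_dvd_of_le inf_le_left) hcop)
  · rintro ⟨g, hg⟩
    obtain ⟨a, ha, b, hb, rfl⟩ := hf g hg
    exact ⟨⟨a, ha.2⟩, Subgroup.mem_subgroupOf.mpr ha, ⟨b, hb.2⟩, Subgroup.mem_subgroupOf.mpr hb,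
      rfl⟩

theorem solvable_aux : ∀ (n : ℕ) (G : Type u) [Group G] [Finite G] (A B : Subgroup G),
    Nat.card G = n → Group.IsNilpotent A → Group.IsNilpotent B →
    (Nat.card A).Coprime (Nat.card B) → (∀ g : G, ∃ a ∈ A, ∃ b ∈ B, g = a * b) →
    Group.IsSolvable G := by
  intro n
  induction n using Nat.strong_induction_on with
  | _ n IH =>
    intro G _ _ A B hn hA hB hcop hAB
    subst hn
    by_contra hns
    have hdisj : A ⊓ B = ⊥ := (Subgroup.disjoint_of_coprime_natCard hcop).eq_bot
    have hcard : Nat.card G = Nat.card A * Nat.card B := by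
      rw [← Subgroup.card_top (G := G)]
      exact card_eq_mul_of_fact le_top le_top hdisj (fun g _ => hAB g)
    by_cases hsimple : IsSimpleGroup G
    · have hmin : MinCE A B :=
        { nilA := hA
          nilB := hB
          cop := hcop
          fact := hAB
          simple := hsimple
          notsolv := hns
          ih := fun X hX hf => solvable_of_fzd hA hB hcop IH X hX hf }
      exact hmin.false
    · by_cases hnt : Nontrivial G
      · have hex : ∃ N : Subgroup G, N.Normal ∧ N ≠ ⊥ ∧ N ≠ ⊤ := by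
          by_contra hcon
          push Not at hcon
          apply hsimple
          exact ⟨fun H hH => by
            by_cases hb : H = ⊥
            · exact Or.inl hb
            · exact Or.inr (hcon H hH hb)⟩
        obtain ⟨N, hNn, hN1, hNt⟩ := hex
        have hsN : Group.IsSolvable N :=
          solvable_of_fzd hA hB hcop IH N hNt (fzd_of_normal hcop hcard N)
        have hsQ : Group.IsSolvable (G ⧸ N) := by
          apply IH _ (card_quot_lt N hN1) (G ⧸ N)
            (A.map (QuotientGroup.mk' N)) (B.map (QuotientGroup.mk' N)) rfl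
          · exact Group.nilpotent_of_surjective ((QuotientGroup.mk' N).subgroupMap A)
              ((QuotientGroup.mk' N).subgroupMap_surjective A)
          · exact Group.nilpotent_of_surjective ((QuotientGroup.mk' N).subgroupMap B)
              ((QuotientGroup.mk' N).subgroupMap_surjective B)
          · exact Nat.Coprime.coprime_dvd_left (Subgroup.card_map_dvd _ _)
              (Nat.Coprime.coprime_dvd_right (Subgroup.card_map_dvd _ _) hcop)
          · exact factorized_quot N hAB
        apply hns
        apply Group.isSolvable_of_ker_le_range N.subtype (QuotientGroup.mk' N)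
        rw [QuotientGroup.ker_mk', Subgroup.range_subtype]
      · rw [not_nontrivial_iff_subsingleton] at hnt
        exact hns (Group.isSolvable_of_comm (fun a b => Subsingleton.elim _ _))

/-- If a finite group G is the product AB of two nilpotent subgroups of coprime orders, then G is solvable, and for every Sylow p-subgroup P of A and Sylow q-subgroup Q of B the product set PQ is a subgroup. -/
theorem result {G : Type*} [Group G] [Finite G] (A B : Subgroup G) (hA : Group.IsNilpotent A) (hB : Group.IsNilpotent B) (hcop : (Nat.card A).Coprime (Nat.card B)) (hAB : ∀ g : G, ∃ a ∈ A, ∃ b ∈ B, g = a * b) : Group.IsSolvable G ∧ ∀ (p q : ℕ) [Fact p.Prime] [Fact q.Prime] (P : Sylow p A) (Q : Sylow q B), ∃ S : Subgroup G, (S : Set G) = (((P : Subgroup A).map A.subtype : Subgroup G) : Set G) * (((Q : Subgroup B).map B.subtype : Subgroup G) : Set G) := by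
  have hsol : Group.IsSolvable G := solvable_aux _ G A B rfl hA hB hcop hAB
  refine ⟨hsol, ?_⟩
  have hdisj : A ⊓ B = ⊥ := (Subgroup.disjoint_of_coprime_natCard hcop).eq_bot
  have hcard : Nat.card G = Nat.card A * Nat.card B := by
    rw [← Subgroup.card_top (G := G)]
    exact card_eq_mul_of_fact le_top le_top hdisj (fun g _ => hAB g)
  have hAi : A.index = Nat.card B := by
    have h1 := A.card_mul_index
    rw [hcard] at h1
    exact Nat.eq_of_mul_eq_mul_left Nat.card_pos h1
  have hBi : B.index = Nat.card A := by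
    have h1 := B.card_mul_index
    rw [hcard, mul_comm (Nat.card A)] at h1
    exact Nat.eq_of_mul_eq_mul_left Nat.card_pos h1
  have key : ∀ (p : ℕ) [Fact p.Prime] (A B : Subgroup G) [Group.IsNilpotent A]
      (_ : (Nat.card A).Coprime (Nat.card B)) (_ : A.index = Nat.card B) (P : Sylow p A),
      (((P : Subgroup A).map A.subtype).subgroupOf A).Normal ∧
      (Nat.card ((P : Subgroup A).map A.subtype : Subgroup G)).Coprime
        ((P : Subgroup A).map A.subtype).index := by
    intro p hp A B _ hcop hAi P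
    refine ⟨?_, ?_⟩
    · rw [Subgroup.subgroupOf, Subgroup.comap_map_eq_self_of_injective A.subtype_injective]
      infer_instance
    · rw [Subgroup.index_map_subtype, Subgroup.card_map_of_injective A.subtype_injective,
        P.card_eq_multiplicity]
      by_cases hpA : p ∣ Nat.card A
      · apply Nat.Coprime.pow_left
        rw [Nat.Prime.coprime_iff_not_dvd hp.out]
        apply hp.out.not_dvd_mul P.not_dvd_index
        rw [hAi]
        intro hpB
        have := Nat.dvd_gcd hpA hpB
        rw [hcop.gcd_eq_one] at this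
        exact hp.out.one_lt.ne' (Nat.dvd_one.mp this)
      · rw [Nat.factorization_eq_zero_of_not_dvd hpA, pow_zero]
        exact Nat.coprime_one_left _
  intro p q _ _ P Q
  obtain ⟨hn1, hc1⟩ := key p A B hcop hAi P
  obtain ⟨hn2, hc2⟩ := key q B A hcop.symm hBi Q
  obtain ⟨S, hS⟩ := Cfsg.Agent.S0561.result A B ((P : Subgroup A).map A.subtype)
    ((Q : Subgroup B).map B.subtype) hAB (Subgroup.map_subtype_le _) hn1
    (Subgroup.map_subtype_le _) hn2 hc1 hc2 1 1
  rw [map_one, one_smul, one_smul] at hS
  exact ⟨S, hS⟩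

end Cfsg.Agent.S0563
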