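import Mathlib
import Cfsg.Statements.S2505
-- import your own Cfsg.Agent.* helpers here

set_option autoImplicit false
open Cfsg

namespace Cfsg.Agent.S2505

/-- the extremal function: largest product of positive integers with given sum -/
def hh : ℕ → ℕ
  | 0 => 1
  | 1 => 1
  | 2 => 2
  | 3 => 3
  | 4 => 4
  | (n + 5) => 3 * hh (n + 2)

theorem hh_add_five (n : ℕ) : hh (n + 5) = 3 * hh (n + 2) := by
  rw [hh]

theorem hh_add_three {n : ℕ} (hn : 2 ≤ n) : hh (n + 3) = 3 * hh n := by
  obtain ⟨m, rfl⟩ : ∃ m, n = m + 2 := ⟨n - 2, by omega⟩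
  exact hh_add_five m

theorem hh_pos (n : ℕ) : 0 < hh n := by
  induction n using Nat.strong_induction_on with
  | _ n ih =>
    match n with
    | 0 => norm_num [hh]
    | 1 => norm_num [hh]
    | 2 => norm_num [hh]
    | 3 => norm_num [hh]
    | 4 => norm_num [hh]
    | (m + 5) =>
      rw [hh_add_five]
      have := ih (m + 2) (by omega)
      omega

theorem le_hh (n : ℕ) : n ≤ hh n := by
  induction n using Nat.strong_induction_on with
  | _ n ih =>
    match n with
    | 0 => norm_num [hh]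
    | 1 => norm_num [hh]
    | 2 => norm_num [hh]
    | 3 => norm_num [hh]
    | 4 => norm_num [hh]
    | (m + 5) =>
      rw [hh_add_five]
      have := ih (m + 2) (by omega)
      omega

theorem hh_mul_le (a b : ℕ) : hh a * hh b ≤ hh (a + b) := by
  induction' hs : a + b using Nat.strong_induction_on with s ih generalizing a b
  by_cases ha : 5 ≤ a
  · obtain ⟨a', rfl⟩ : ∃ a', a = a' + 5 := ⟨a - 5, by omega⟩
    have e : s = (a' + 2 + b) + 3 := by omega
    rw [e, hh_add_three (n := a' + 2 + b) (by omega), hh_add_five, mul_assoc]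
    exact Nat.mul_le_mul_left 3 (ih (a' + 2 + b) (by omega) (a' + 2) b rfl)
  · by_cases hb : 5 ≤ b
    · obtain ⟨b', rfl⟩ : ∃ b', b = b' + 5 := ⟨b - 5, by omega⟩
      have e : s = (a + (b' + 2)) + 3 := by omega
      rw [e, hh_add_three (n := a + (b' + 2)) (by omega), hh_add_five, mul_left_comm]
      exact Nat.mul_le_mul_left 3 (ih (a + (b' + 2)) (by omega) a (b' + 2) rfl)
    · subst hs
      have ha' : a ≤ 4 := by omega
      have hb' : b ≤ 4 := by omega
      interval_cases a <;> interval_cases b <;> norm_num [hh]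

theorem mul_hh_le {m n : ℕ} (hmn : m ≤ n) : m * hh (n - m) ≤ hh n := by
  calc m * hh (n - m) ≤ hh m * hh (n - m) := Nat.mul_le_mul_right _ (le_hh m)
    _ ≤ hh (m + (n - m)) := hh_mul_le _ _
    _ = hh n := by rw [Nat.add_sub_cancel' hmn]

theorem hh_three_mul (k : ℕ) (hk : 1 ≤ k) : hh (3 * k) = 3 ^ k := by
  induction k with
  | zero => omega
  | succ k ih =>
    rcases Nat.eq_zero_or_pos k with rfl | hk'
    · norm_num [hh]
    · have e : 3 * (k + 1) = 3 * k + 3 := by ring
      rw [e, hh_add_three (by omega), ih hk', pow_succ]; ring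

theorem hh_three_mul_add_one (k : ℕ) (hk : 1 ≤ k) : hh (3 * k + 1) = 4 * 3 ^ (k - 1) := by
  induction k with
  | zero => omega
  | succ k ih =>
    rcases Nat.eq_zero_or_pos k with rfl | hk'
    · norm_num [hh]
    · have e : 3 * (k + 1) + 1 = (3 * k + 1) + 3 := by ring
      rw [e, hh_add_three (by omega), ih hk']
      have : k + 1 - 1 = (k - 1) + 1 := by omega
      rw [this, pow_succ]; ring

theorem hh_three_mul_add_two (k : ℕ) : hh (3 * k + 2) = 2 * 3 ^ k := by
  induction k with
  | zero => norm_num [hh]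
  | succ k ih =>
    have e : 3 * (k + 1) + 2 = (3 * k + 2) + 3 := by ring
    rw [e, hh_add_three (by omega), ih, pow_succ]; ring


open Equiv



/-- restriction of a permutation group to an invariant subset -/
def restr {X : Type} (A : Subgroup (Perm X)) (p : X → Prop)
    (hp : ∀ a ∈ A, ∀ x, p (a x) ↔ p x) : A →* Perm (Subtype p) :=
  MonoidHom.mk' (fun a => (a : Perm X).subtypePerm (hp a a.2)) (by
    intro a b
    ext ⟨x, hx⟩
    rfl)

theorem restr_apply {X : Type} (A : Subgroup (Perm X)) (p : X → Prop)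
    (hp : ∀ a ∈ A, ∀ x, p (a x) ↔ p x) (a : A) (x : Subtype p) :
    ((restr A p hp a) x : X) = (a : Perm X) x := rfl

/-- an abelian transitive permutation group has order at most the degree -/
theorem card_le_of_comm_trans {Y : Type} [Finite Y] (B : Subgroup (Perm Y))
    (hB : ∀ a ∈ B, ∀ b ∈ B, a * b = b * a) (y₀ : Y)
    (htr : ∀ y : Y, ∃ b ∈ B, b y₀ = y) : Nat.card B ≤ Nat.card Y := by
  apply Nat.card_le_card_of_injective (fun b : B => (b : Perm Y) y₀)
  rintro ⟨b, hb⟩ ⟨b', hb'⟩ hbb
  simp only at hbb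
  apply Subtype.ext
  ext y
  obtain ⟨c, hc, rfl⟩ := htr y
  have h1 : b (c y₀) = (b * c) y₀ := rfl
  have h2 : b' (c y₀) = (b' * c) y₀ := rfl
  rw [h1, h2, hB b hb c hc, hB b' hb' c hc, Perm.mul_apply, Perm.mul_apply, hbb]


theorem card_le_hh : ∀ (n : ℕ) (X : Type) [Fintype X] (A : Subgroup (Perm X)),
    (∀ a ∈ A, ∀ b ∈ A, a * b = b * a) → Fintype.card X = n → Nat.card A ≤ hh n := by
  intro n
  induction n using Nat.strong_induction_on with
  | _ n ih =>
    intro X _ A hA hn
    classical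
    rcases isEmpty_or_nonempty X with hX | ⟨⟨x₀⟩⟩
    · have h1 : Nat.card A ≤ 1 := Finite.card_le_one_iff_subsingleton.mpr inferInstance
      exact h1.trans (hh_pos n)
    · let p : X → Prop := fun x => ∃ a ∈ A, a x₀ = x
      have hp : ∀ a ∈ A, ∀ x, p (a x) ↔ p x := by
        intro a ha x
        constructor
        · rintro ⟨b, hb, hbx⟩
          exact ⟨a⁻¹ * b, A.mul_mem (A.inv_mem ha) hb, by simp [Perm.mul_apply, hbx]⟩
        · rintro ⟨b, hb, rfl⟩
          exact ⟨a * b, A.mul_mem ha hb, rfl⟩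
      have hq : ∀ a ∈ A, ∀ x, ¬ p (a x) ↔ ¬ p x := fun a ha x => not_congr (hp a ha x)
      have hinj : Function.Injective (fun a : A =>
          ((⟨restr A p hp a, a, rfl⟩ : (restr A p hp).range),
            (⟨restr A (fun x => ¬ p x) hq a, a, rfl⟩ : (restr A (fun x => ¬ p x) hq).range))) := by
        intro a b hab
        simp only [Prod.mk.injEq] at hab
        have hab1 := congrArg Subtype.val hab.1
        have hab2 := congrArg Subtype.val hab.2
        simp only at hab1 hab2
        apply Subtype.ext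
        ext x
        by_cases hx : p x
        · exact congrArg (fun f => ((f ⟨x, hx⟩ : Subtype p) : X)) hab1
        · exact congrArg (fun f => ((f ⟨x, hx⟩ : Subtype (fun x => ¬ p x)) : X)) hab2
      have h1 : Nat.card A ≤
          Nat.card (restr A p hp).range * Nat.card (restr A (fun x => ¬ p x) hq).range := by
        rw [← Nat.card_prod]
        exact Nat.card_le_card_of_injective _ hinj
      have hx₀ : p x₀ := ⟨1, A.one_mem, rfl⟩
      have h2 : Nat.card (restr A p hp).range ≤ Nat.card (Subtype p) := by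
        apply card_le_of_comm_trans _ _ ⟨x₀, hx₀⟩
        · rintro ⟨y, b, hb, rfl⟩
          exact ⟨restr A p hp ⟨b, hb⟩, ⟨⟨b, hb⟩, rfl⟩, Subtype.ext rfl⟩
        · rintro _ ⟨a, rfl⟩ _ ⟨b, rfl⟩
          rw [← map_mul, ← map_mul]
          congr 1
          exact Subtype.ext (hA a a.2 b b.2)
      have hpos : 1 ≤ Fintype.card (Subtype p) := Fintype.card_pos_iff.mpr ⟨⟨x₀, hx₀⟩⟩
      have hle : Fintype.card (Subtype p) ≤ n := by
        rw [← hn]; exact Fintype.card_subtype_le p
      have h3 : Nat.card (restr A (fun x => ¬ p x) hq).range ≤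
          hh (n - Fintype.card (Subtype p)) := by
        apply ih (n - Fintype.card (Subtype p)) (by omega) (Subtype (fun x => ¬ p x))
        · rintro _ ⟨a, rfl⟩ _ ⟨b, rfl⟩
          rw [← map_mul, ← map_mul]
          congr 1
          exact Subtype.ext (hA a a.2 b b.2)
        · rw [Fintype.card_subtype_compl, hn]
      rw [Nat.card_eq_fintype_card (α := Subtype p)] at h2
      calc Nat.card A ≤ Nat.card (restr A p hp).range *
            Nat.card (restr A (fun x => ¬ p x) hq).range := h1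
        _ ≤ Fintype.card (Subtype p) * hh (n - Fintype.card (Subtype p)) :=
            Nat.mul_le_mul h2 h3
        _ ≤ hh n := mul_hh_le hle



/-- transport an embedded abelian group to `Perm (Fin n)` -/
theorem exists_sub (H : Type) [CommGroup H] [Finite H] (X : Type) [Fintype X]
    (φ : H →* Perm X) (hφ : Function.Injective φ) (n : ℕ) (hn : Fintype.card X = n) :
    ∃ A : Subgroup (Perm (Fin n)), IsMulCommutative A ∧ Nat.card A = Nat.card H := by
  let e : X ≃ Fin n := Fintype.equivFinOfCardEq hn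
  let ψ : H →* Perm (Fin n) := (e.permCongrHom.toMonoidHom).comp φ
  have hψ : Function.Injective ψ := e.permCongrHom.injective.comp hφ
  refine ⟨ψ.range, ?_, ?_⟩
  · refine ⟨⟨?_⟩⟩
    rintro ⟨_, a, rfl⟩ ⟨_, b, rfl⟩
    apply Subtype.ext
    show ψ a * ψ b = ψ b * ψ a
    rw [← map_mul, ← map_mul, mul_comm]
  · exact (Nat.card_congr (MonoidHom.ofInjective hψ).toEquiv).symm

/-- `(Z_3)^k` acting on `k` disjoint triples -/
def tri (k : ℕ) :
    (Fin k → Multiplicative (ZMod 3)) →* Perm (Fin k × Multiplicative (ZMod 3)) :=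
  MonoidHom.mk' (fun f => Equiv.prodShear (Equiv.refl _) (fun i => Equiv.mulLeft (f i))) (by
    intro f g
    ext ⟨i, a⟩
    · simp
    · simp)

theorem tri_injective (k : ℕ) : Function.Injective (tri k) := by
  intro f g hfg
  funext i
  have h1 := congrArg (fun σ : Perm (Fin k × Multiplicative (ZMod 3)) => (σ (i, 1)).2) hfg
  simpa [tri] using h1

/-- regular representation -/
def reg (H : Type) [Group H] : H →* Perm H := MulAction.toPermHom H H

theorem reg_injective (H : Type) [Group H] : Function.Injective (reg H) :=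
  MulAction.toPerm_injective

/-- sum of two embeddings -/
def sumEmb {H₁ H₂ X₁ X₂ : Type} [Group H₁] [Group H₂] (φ₁ : H₁ →* Perm X₁) (φ₂ : H₂ →* Perm X₂) :
    H₁ × H₂ →* Perm (X₁ ⊕ X₂) :=
  (Perm.sumCongrHom X₁ X₂).comp (φ₁.prodMap φ₂)

theorem sumEmb_injective {H₁ H₂ X₁ X₂ : Type} [Group H₁] [Group H₂] (φ₁ : H₁ →* Perm X₁)
    (φ₂ : H₂ →* Perm X₂) (h₁ : Function.Injective φ₁) (h₂ : Function.Injective φ₂) :
    Function.Injective (sumEmb φ₁ φ₂) :=
  Perm.sumCongrHom_injective.comp (Prod.map_injective.mpr ⟨h₁, h₂⟩)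

theorem card_pow3 (k : ℕ) : Nat.card (Fin k → Multiplicative (ZMod 3)) = 3 ^ k := by
  rw [Nat.card_eq_fintype_card, Fintype.card_fun, Fintype.card_fin, Fintype.card_multiplicative,
    ZMod.card]

theorem card_mz (m : ℕ) [NeZero m] : Nat.card (Multiplicative (ZMod m)) = m := by
  rw [Nat.card_eq_fintype_card, Fintype.card_multiplicative, ZMod.card]

theorem exists_three_mul (k : ℕ) :
    ∃ A : Subgroup (Perm (Fin (3 * k))), IsMulCommutative A ∧ Nat.card A = 3 ^ k := by
  obtain ⟨A, hA, hc⟩ := exists_sub _ _ (tri k) (tri_injective k) (3 * k) (by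
    rw [Fintype.card_prod, Fintype.card_fin, Fintype.card_multiplicative, ZMod.card, mul_comm])
  exact ⟨A, hA, by rw [hc, card_pow3]⟩

theorem exists_three_mul_add_one (k : ℕ) (hk : 1 ≤ k) :
    ∃ A : Subgroup (Perm (Fin (3 * k + 1))), IsMulCommutative A ∧
      Nat.card A = 4 * 3 ^ (k - 1) := by
  obtain ⟨A, hA, hc⟩ := exists_sub _ _
    (sumEmb (tri (k - 1)) (reg (Multiplicative (ZMod 4))))
    (sumEmb_injective _ _ (tri_injective (k - 1)) (reg_injective _)) (3 * k + 1) (by
    rw [Fintype.card_sum, Fintype.card_prod, Fintype.card_fin, Fintype.card_multiplicative,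
      ZMod.card, Fintype.card_multiplicative, ZMod.card]
    omega)
  exact ⟨A, hA, by rw [hc, Nat.card_prod, card_pow3, card_mz, mul_comm]⟩

theorem exists_three_mul_add_two (k : ℕ) :
    ∃ A : Subgroup (Perm (Fin (3 * k + 2))), IsMulCommutative A ∧ Nat.card A = 2 * 3 ^ k := by
  obtain ⟨A, hA, hc⟩ := exists_sub _ _
    (sumEmb (tri k) (reg (Multiplicative (ZMod 2))))
    (sumEmb_injective _ _ (tri_injective k) (reg_injective _)) (3 * k + 2) (by
    rw [Fintype.card_sum, Fintype.card_prod, Fintype.card_fin, Fintype.card_multiplicative,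
      ZMod.card, Fintype.card_multiplicative, ZMod.card]
    omega)
  exact ⟨A, hA, by rw [hc, Nat.card_prod, card_pow3, card_mz, mul_comm]⟩

theorem comm_of_isMulCommutative {G : Type*} [Group G] (A : Subgroup G) (hA : IsMulCommutative A) :
    ∀ a ∈ A, ∀ b ∈ A, a * b = b * a := by
  intro a ha b hb
  have := hA.is_comm.comm (⟨a, ha⟩ : A) ⟨b, hb⟩
  exact congrArg Subtype.val this

theorem upper (n : ℕ) (A : Subgroup (Perm (Fin n))) (hA : IsMulCommutative A) :
    Nat.card A ≤ hh n :=
  card_le_hh n (Fin n) A (comm_of_isMulCommutative A hA) (Fintype.card_fin n)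

/-- The largest order of an abelian subgroup of the symmetric group of degree n is 3^k when n = 3k, 4·3^(k−1) when n = 3k + 1, and 2·3^k when n = 3k + 2, for every k ≥ 1. -/
theorem result (k : ℕ) (hk : 1 ≤ k) :
    IsGreatest {c : ℕ | ∃ A : Subgroup (Equiv.Perm (Fin (3 * k))), IsMulCommutative A ∧ Nat.card A = c} (3 ^ k) ∧
    IsGreatest {c : ℕ | ∃ A : Subgroup (Equiv.Perm (Fin (3 * k + 1))), IsMulCommutative A ∧ Nat.card A = c}
      (4 * 3 ^ (k - 1)) ∧
    IsGreatest {c : ℕ | ∃ A : Subgroup (Equiv.Perm (Fin (3 * k + 2))), IsMulCommutative A ∧ Nat.card A = c}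
      (2 * 3 ^ k) := by
  refine ⟨⟨?_, ?_⟩, ⟨?_, ?_⟩, ⟨?_, ?_⟩⟩
  · obtain ⟨A, hA, hc⟩ := exists_three_mul k
    exact ⟨A, hA, hc⟩
  · rintro c ⟨A, hA, rfl⟩
    rw [← hh_three_mul k hk]; exact upper _ A hA
  · obtain ⟨A, hA, hc⟩ := exists_three_mul_add_one k hk
    exact ⟨A, hA, hc⟩
  · rintro c ⟨A, hA, rfl⟩
    rw [← hh_three_mul_add_one k hk]; exact upper _ A hA
  · obtain ⟨A, hA, hc⟩ := exists_three_mul_add_two k
    exact ⟨A, hA, hc⟩
  · rintro c ⟨A, hA, rfl⟩
    rw [← hh_three_mul_add_two k]; exact upper _ A hA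

end Cfsg.Agent.S2505
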