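import Mathlib
import Cfsg.Statements.S2504
import Cfsg.Agent.S2505
-- import your own Cfsg.Agent.* helpers here

set_option autoImplicit false
open Cfsg
open Cfsg.Agent.S2505
open Equiv

namespace Cfsg.Agent.S2504

/-- the extremal function for alternating groups -/
def gg : ℕ → ℕ
  | 0 => 1
  | 1 => 1
  | 2 => 1
  | 3 => 3
  | 4 => 4
  | 5 => 5
  | 6 => 9
  | 7 => 12
  | 8 => 16
  | (n + 9) => 3 * gg (n + 6)

theorem gg_add_nine (n : ℕ) : gg (n + 9) = 3 * gg (n + 6) := by
  rw [gg]

theorem gg_add_three {n : ℕ} (hn : 6 ≤ n) : gg (n + 3) = 3 * gg n := by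
  obtain ⟨m, rfl⟩ : ∃ m, n = m + 6 := ⟨n - 6, by omega⟩
  exact gg_add_nine m

theorem gg_mul_le (a b : ℕ) : gg a * gg b ≤ gg (a + b) := by
  induction' hs : a + b using Nat.strong_induction_on with s ih generalizing a b
  by_cases ha : 9 ≤ a
  · obtain ⟨a', rfl⟩ : ∃ a', a = a' + 9 := ⟨a - 9, by omega⟩
    have e : s = (a' + 6 + b) + 3 := by omega
    rw [e, gg_add_three (n := a' + 6 + b) (by omega), gg_add_nine, mul_assoc]
    exact Nat.mul_le_mul_left 3 (ih (a' + 6 + b) (by omega) (a' + 6) b rfl)
  · by_cases hb : 9 ≤ b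
    · obtain ⟨b', rfl⟩ : ∃ b', b = b' + 9 := ⟨b - 9, by omega⟩
      have e : s = (a + (b' + 6)) + 3 := by omega
      rw [e, gg_add_three (n := a + (b' + 6)) (by omega), gg_add_nine, mul_left_comm]
      exact Nat.mul_le_mul_left 3 (ih (a + (b' + 6)) (by omega) a (b' + 6) rfl)
    · subst hs
      have ha' : a ≤ 8 := by omega
      have hb' : b ≤ 8 := by omega
      interval_cases a <;> interval_cases b <;> decide

theorem le_gg {n : ℕ} (hn : n ≠ 2) : n ≤ gg n := by
  induction n using Nat.strong_induction_on with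
  | _ n ih =>
    by_cases h9 : 9 ≤ n
    · obtain ⟨m, rfl⟩ : ∃ m, n = m + 9 := ⟨n - 9, by omega⟩
      rw [gg_add_nine]
      have := ih (m + 6) (by omega) (by omega)
      omega
    · have : n ≤ 8 := by omega
      interval_cases n <;> first | omega | decide

theorem mul_gg_le {m n : ℕ} (hmn : m ≤ n) (hm : m ≠ 2) : m * gg (n - m) ≤ gg n := by
  calc m * gg (n - m) ≤ gg m * gg (n - m) := Nat.mul_le_mul_right _ (le_gg hm)
    _ ≤ gg (m + (n - m)) := gg_mul_le _ _
    _ = gg n := by rw [Nat.add_sub_cancel' hmn]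

theorem hh_mono_succ (a : ℕ) : hh a ≤ hh (a + 1) := by
  have := hh_mul_le a 1
  simpa [hh] using this

theorem hh_mono {a b : ℕ} (hab : a ≤ b) : hh a ≤ hh b := by
  induction b, hab using Nat.le_induction with
  | base => exact le_rfl
  | succ b _ ih => exact ih.trans (hh_mono_succ b)

theorem hh_le_gg (n : ℕ) : hh n ≤ gg (n + 2) := by
  induction n using Nat.strong_induction_on with
  | _ n ih =>
    by_cases h7 : 7 ≤ n
    · obtain ⟨m, rfl⟩ : ∃ m, n = m + 7 := ⟨n - 7, by omega⟩
      have e1 : m + 7 = (m + 4) + 3 := by omega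
      have e2 : m + 7 + 2 = m + 9 := by omega
      rw [e2, gg_add_nine, e1, hh_add_three (by omega)]
      have := ih (m + 4) (by omega)
      have e3 : m + 4 + 2 = m + 6 := by omega
      rw [e3] at this
      omega
    · have : n ≤ 6 := by omega
      interval_cases n <;> decide

theorem half_mul_hh_le {m n : ℕ} (hmn : m ≤ n) (hm : 2 ≤ m) : (m / 2) * hh (n - m) ≤ gg n := by
  have h4 : hh (n - 2) ≤ gg (n - 2 + 2) := hh_le_gg _
  have h5 : n - 2 + 2 = n := by omega
  rw [h5] at h4
  by_cases hm4 : m < 4
  · have e : m / 2 = 1 := by omega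
    rw [e, one_mul]
    exact (hh_mono (by omega)).trans h4
  · have h1 : m / 2 ≤ hh (m / 2) := le_hh _
    have h2 : hh (m / 2) * hh (n - m) ≤ hh (m / 2 + (n - m)) := hh_mul_le _ _
    have h3 : hh (m / 2 + (n - m)) ≤ hh (n - 2) := hh_mono (by omega)
    calc (m / 2) * hh (n - m) ≤ hh (m / 2) * hh (n - m) := Nat.mul_le_mul_right _ h1
      _ ≤ gg n := h2.trans (h3.trans h4)

theorem gg_three_mul (k : ℕ) (hk : 2 ≤ k) : gg (3 * k) = 3 ^ k := by
  induction k with
  | zero => omega
  | succ k ih =>
    rcases Nat.lt_or_ge k 2 with hk' | hk'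
    · have : k = 1 := by omega
      subst this; decide
    · have e : 3 * (k + 1) = 3 * k + 3 := by ring
      rw [e, gg_add_three (by omega), ih hk', pow_succ]; ring

theorem gg_three_mul_add_one (k : ℕ) (hk : 2 ≤ k) : gg (3 * k + 1) = 4 * 3 ^ (k - 1) := by
  induction k with
  | zero => omega
  | succ k ih =>
    rcases Nat.lt_or_ge k 2 with hk' | hk'
    · have : k = 1 := by omega
      subst this; decide
    · have e : 3 * (k + 1) + 1 = (3 * k + 1) + 3 := by ring
      rw [e, gg_add_three (by omega), ih hk']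
      have : k + 1 - 1 = (k - 1) + 1 := by omega
      rw [this, pow_succ]; ring

theorem gg_three_mul_add_two (k : ℕ) (hk : 2 ≤ k) : gg (3 * k + 2) = 16 * 3 ^ (k - 2) := by
  induction k with
  | zero => omega
  | succ k ih =>
    rcases Nat.lt_or_ge k 2 with hk' | hk'
    · have : k = 1 := by omega
      subst this; decide
    · have e : 3 * (k + 1) + 2 = (3 * k + 2) + 3 := by ring
      rw [e, gg_add_three (by omega), ih hk']
      have : k + 1 - 2 = (k - 2) + 1 := by omega
      rw [this, pow_succ]; ring

theorem gg_pos (n : ℕ) : 0 < gg n := by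
  induction n using Nat.strong_induction_on with
  | _ n ih =>
    by_cases h9 : 9 ≤ n
    · obtain ⟨m, rfl⟩ : ∃ m, n = m + 9 := ⟨n - 9, by omega⟩
      rw [gg_add_nine]
      have := ih (m + 6) (by omega)
      omega
    · have : n ≤ 8 := by omega
      interval_cases n <;> decide



theorem sign_decomp {X : Type} [Fintype X] [DecidableEq X] (A : Subgroup (Perm X)) (p : X → Prop)
    [DecidablePred p] (hp : ∀ a ∈ A, ∀ x, p (a x) ↔ p x)
    (hq : ∀ a ∈ A, ∀ x, ¬ p (a x) ↔ ¬ p x) (a : A) :
    Perm.sign (a : Perm X) =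
      Perm.sign (restr A p hp a) * Perm.sign (restr A (fun x => ¬ p x) hq a) := by
  rw [← Perm.sign_subtypeCongr]
  congr 1
  ext x
  by_cases hx : p x
  · rw [Perm.subtypeCongr.left_apply _ _ hx]; rfl
  · rw [Perm.subtypeCongr.right_apply _ _ hx]; rfl

theorem sign_of_card_two {Y : Type} [Fintype Y] [DecidableEq Y] (hY : Fintype.card Y = 2)
    (r : Perm Y) (hr : r ≠ 1) : Perm.sign r = -1 := by
  have h1 := Perm.two_le_card_support_of_ne_one hr
  have h2 : r.support.card ≤ 2 := by rw [← hY]; exact Finset.card_le_univ _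
  exact (Perm.card_support_eq_two.mp (by omega)).sign_eq

theorem card_le_gg : ∀ (n : ℕ) (X : Type) [Fintype X] [DecidableEq X] (A : Subgroup (Perm X)),
    (∀ a ∈ A, ∀ b ∈ A, a * b = b * a) → (∀ a ∈ A, Perm.sign a = 1) →
    Fintype.card X = n → Nat.card A ≤ gg n := by
  intro n
  induction n using Nat.strong_induction_on with
  | _ n ih =>
    intro X _ _ A hA hev hn
    classical
    rcases isEmpty_or_nonempty X with hX | ⟨⟨x₀⟩⟩
    · have h1 : Nat.card A ≤ 1 := Finite.card_le_one_iff_subsingleton.mpr inferInstance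
      exact h1.trans (gg_pos n)
    · let p : X → Prop := fun x => ∃ a ∈ A, a x₀ = x
      have hp : ∀ a ∈ A, ∀ x, p (a x) ↔ p x := by
        intro a ha x
        constructor
        · rintro ⟨b, hb, hbx⟩
          exact ⟨a⁻¹ * b, A.mul_mem (A.inv_mem ha) hb, by simp [Perm.mul_apply, hbx]⟩
        · rintro ⟨b, hb, rfl⟩
          exact ⟨a * b, A.mul_mem ha hb, rfl⟩
      have hq : ∀ a ∈ A, ∀ x, ¬ p (a x) ↔ ¬ p x := fun a ha x => not_congr (hp a ha x)
      have hsign : ∀ a : A, Perm.sign (restr A p hp a) *
          Perm.sign (restr A (fun x => ¬ p x) hq a) = 1 := by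
        intro a
        rw [← sign_decomp A p hp hq a]; exact hev a a.2
      have hx₀ : p x₀ := ⟨1, A.one_mem, rfl⟩
      have h2 : Nat.card (restr A p hp).range ≤ Fintype.card (Subtype p) := by
        rw [← Nat.card_eq_fintype_card]
        apply card_le_of_comm_trans _ _ ⟨x₀, hx₀⟩
        · rintro ⟨y, b, hb, rfl⟩
          exact ⟨restr A p hp ⟨b, hb⟩, ⟨⟨b, hb⟩, rfl⟩, Subtype.ext rfl⟩
        · rintro _ ⟨a, rfl⟩ _ ⟨b, rfl⟩
          rw [← map_mul, ← map_mul]
          congr 1
          exact Subtype.ext (hA a a.2 b b.2)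
      have hpos : 1 ≤ Fintype.card (Subtype p) := Fintype.card_pos_iff.mpr ⟨⟨x₀, hx₀⟩⟩
      have hle : Fintype.card (Subtype p) ≤ n := by
        rw [← hn]; exact Fintype.card_subtype_le p
      have hBcomm : ∀ a ∈ (restr A (fun x => ¬ p x) hq).range,
          ∀ b ∈ (restr A (fun x => ¬ p x) hq).range, a * b = b * a := by
        rintro _ ⟨a, rfl⟩ _ ⟨b, rfl⟩
        rw [← map_mul, ← map_mul]
        congr 1
        exact Subtype.ext (hA a a.2 b b.2)
      have hcardq : Fintype.card (Subtype (fun x => ¬ p x)) = n - Fintype.card (Subtype p) := by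
        rw [Fintype.card_subtype_compl, hn]
      by_cases hR : ∀ a : A, Perm.sign (restr A p hp a) = 1
      · -- the orbit group is even
        have hm2 : Fintype.card (Subtype p) ≠ 2 := by
          intro h2'
          obtain ⟨⟨y, b, hb, rfl⟩, hy⟩ :=
            Fintype.exists_ne_of_one_lt_card (by omega) (⟨x₀, hx₀⟩ : Subtype p)
          have hne : restr A p hp ⟨b, hb⟩ ≠ 1 := by
            intro h1
            apply hy
            have := congrArg (fun f : Perm (Subtype p) => f ⟨x₀, hx₀⟩) h1
            exact Subtype.ext (congrArg Subtype.val this)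
          have := sign_of_card_two h2' _ hne
          rw [hR] at this
          exact absurd this (by decide)
        have hinj : Function.Injective (fun a : A =>
            ((⟨restr A p hp a, a, rfl⟩ : (restr A p hp).range),
              (⟨restr A (fun x => ¬ p x) hq a, a, rfl⟩ :
                (restr A (fun x => ¬ p x) hq).range))) := by
          intro a b hab
          simp only [Prod.mk.injEq] at hab
          have hab1 := congrArg Subtype.val hab.1
          have hab2 := congrArg Subtype.val hab.2
          simp only at hab1 hab2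
          apply Subtype.ext
          ext x
          by_cases hx : p x
          · exact congrArg (fun f => ((f ⟨x, hx⟩ : Subtype p) : X)) hab1
          · exact congrArg (fun f => ((f ⟨x, hx⟩ : Subtype (fun x => ¬ p x)) : X)) hab2
        have h1 : Nat.card A ≤
            Nat.card (restr A p hp).range * Nat.card (restr A (fun x => ¬ p x) hq).range := by
          rw [← Nat.card_prod]
          exact Nat.card_le_card_of_injective _ hinj
        have h3 : Nat.card (restr A (fun x => ¬ p x) hq).range ≤
            gg (n - Fintype.card (Subtype p)) := by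
          apply ih (n - Fintype.card (Subtype p)) (by omega) (Subtype (fun x => ¬ p x)) _ hBcomm
          · rintro _ ⟨a, rfl⟩
            have := hsign a
            rw [hR a, one_mul] at this
            exact this
          · exact hcardq
        calc Nat.card A ≤ Nat.card (restr A p hp).range *
              Nat.card (restr A (fun x => ¬ p x) hq).range := h1
          _ ≤ Fintype.card (Subtype p) * gg (n - Fintype.card (Subtype p)) :=
              Nat.mul_le_mul h2 h3
          _ ≤ gg n := mul_gg_le hle hm2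
      · -- the orbit group contains an odd permutation
        obtain ⟨a₀, ha₀⟩ := not_forall.mp hR
        have ha₀' : Perm.sign (restr A p hp a₀) = -1 :=
          (Int.units_eq_one_or _).resolve_left ha₀
        have hcardA : Nat.card (restr A (fun x => ¬ p x) hq).ker *
            Nat.card (restr A (fun x => ¬ p x) hq).range = Nat.card A := by
          rw [← Subgroup.index_ker]; exact Subgroup.card_mul_index _
        have h3 : Nat.card (restr A (fun x => ¬ p x) hq).range ≤
            hh (n - Fintype.card (Subtype p)) :=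
          card_le_hh _ (Subtype (fun x => ¬ p x)) _ hBcomm hcardq
        -- the sign character on the orbit group
        let s : (restr A p hp).range →* ℤˣ := Perm.sign.comp (restr A p hp).range.subtype
        have hs2 : 2 ≤ Nat.card s.range := by
          have : Nontrivial s.range := by
            refine ⟨⟨⟨1, s.range.one_mem⟩, ⟨-1, ⟨⟨restr A p hp a₀, a₀, rfl⟩, ha₀'⟩⟩, ?_⟩⟩
            intro h
            have h' : (1 : ℤˣ) = -1 := congrArg Subtype.val h
            exact absurd h' (by decide)
          exact Finite.one_lt_card_iff_nontrivial.mpr this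
        have hsk : Nat.card s.ker * Nat.card s.range = Nat.card (restr A p hp).range := by
          rw [← Subgroup.index_ker]; exact Subgroup.card_mul_index _
        have hker : Nat.card (restr A (fun x => ¬ p x) hq).ker ≤ Nat.card s.ker := by
          apply Nat.card_le_card_of_injective
            (fun a : (restr A (fun x => ¬ p x) hq).ker =>
              (⟨⟨restr A p hp a.1, a.1, rfl⟩, by
                rw [MonoidHom.mem_ker]
                show Perm.sign (restr A p hp a.1) = 1
                have h1 := hsign a.1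
                have h2 : restr A (fun x => ¬ p x) hq a.1 = 1 := a.2
                rw [h2, Perm.sign_one, mul_one] at h1
                exact h1⟩ : s.ker))
          intro a b hab
          have hab1 : restr A p hp a.1 = restr A p hp b.1 := by
            have := congrArg (fun t : s.ker => ((t : (restr A p hp).range) : Perm (Subtype p))) hab
            exact this
          have ha2 : restr A (fun x => ¬ p x) hq a.1 = 1 := a.2
          have hb2 : restr A (fun x => ¬ p x) hq b.1 = 1 := b.2
          apply Subtype.ext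
          apply Subtype.ext
          ext x
          by_cases hx : p x
          · exact congrArg (fun f => ((f ⟨x, hx⟩ : Subtype p) : X)) hab1
          · have := ha2.trans hb2.symm
            exact congrArg (fun f => ((f ⟨x, hx⟩ : Subtype (fun x => ¬ p x)) : X)) this
        have hkpos : 1 ≤ Nat.card s.ker := Nat.card_pos
        have hm : Nat.card s.ker * 2 ≤ Fintype.card (Subtype p) := by
          calc Nat.card s.ker * 2 ≤ Nat.card s.ker * Nat.card s.range :=
                Nat.mul_le_mul_left _ hs2
            _ = Nat.card (restr A p hp).range := hsk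
            _ ≤ Fintype.card (Subtype p) := h2
        have hk2 : Nat.card s.ker ≤ Fintype.card (Subtype p) / 2 := by
          rw [Nat.le_div_iff_mul_le (by norm_num)]; exact hm
        calc Nat.card A = Nat.card (restr A (fun x => ¬ p x) hq).ker *
              Nat.card (restr A (fun x => ¬ p x) hq).range := hcardA.symm
          _ ≤ (Fintype.card (Subtype p) / 2) * hh (n - Fintype.card (Subtype p)) :=
              Nat.mul_le_mul (hker.trans hk2) h3
          _ ≤ gg n := half_mul_hh_le hle (by omega)



theorem exists_alt (H : Type) [CommGroup H] [Finite H] (X : Type) [Fintype X] [DecidableEq X]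
    (φ : H →* Perm X) (hφ : Function.Injective φ) (hev : ∀ h, Perm.sign (φ h) = 1) (n : ℕ)
    (hn : Fintype.card X = n) :
    ∃ A : Subgroup (alternatingGroup (Fin n)), IsMulCommutative A ∧ Nat.card A = Nat.card H := by
  let e : X ≃ Fin n := Fintype.equivFinOfCardEq hn
  let ψ : H →* Perm (Fin n) := (e.permCongrHom.toMonoidHom).comp φ
  have hψ : Function.Injective ψ := e.permCongrHom.injective.comp hφ
  have hmem : ∀ h, ψ h ∈ alternatingGroup (Fin n) := by
    intro h
    rw [Equiv.Perm.mem_alternatingGroup]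
    show Perm.sign (e.permCongr (φ h)) = 1
    rw [Perm.sign_permCongr]; exact hev h
  let ψ' : H →* alternatingGroup (Fin n) := ψ.codRestrict _ hmem
  have hψ' : Function.Injective ψ' := by
    intro a b hab
    apply hψ
    exact congrArg Subtype.val hab
  refine ⟨ψ'.range, ⟨⟨?_⟩⟩, ?_⟩
  · rintro ⟨_, a, rfl⟩ ⟨_, b, rfl⟩
    apply Subtype.ext
    show ψ' a * ψ' b = ψ' b * ψ' a
    rw [← map_mul, ← map_mul, mul_comm]
  · exact (Nat.card_congr (MonoidHom.ofInjective hψ').toEquiv).symm

theorem units_eq_one_of_pow_three (u : ℤˣ) (h3 : u ^ 3 = 1) : u = 1 := by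
  rcases Int.units_eq_one_or u with h | h
  · exact h
  · rw [h] at h3; exact absurd h3 (by decide)

theorem tri_even (k : ℕ) (f : Fin k → Multiplicative (ZMod 3)) : Perm.sign (tri k f) = 1 := by
  apply units_eq_one_of_pow_three
  have h3 : f ^ 3 = 1 := by
    funext i
    simp only [Pi.pow_apply, Pi.one_apply]
    have := pow_card_eq_one' (G := Multiplicative (ZMod 3)) (x := f i)
    rwa [card_mz 3] at this
  rw [← map_pow, ← map_pow, h3, map_one, map_one]

/-- the four-group -/
abbrev V4 : Type := Multiplicative (ZMod 2) × Multiplicative (ZMod 2)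

theorem card_V4 : Nat.card V4 = 4 := by
  rw [Nat.card_prod, card_mz 2]

theorem reg_V4_even (g : V4) : Perm.sign (reg V4 g) = 1 := by
  have h1 : reg V4 g = (Equiv.prodCongrLeft (fun _ : Multiplicative (ZMod 2) => Equiv.mulLeft g.1)) *
      (Equiv.prodCongrRight (fun _ : Multiplicative (ZMod 2) => Equiv.mulLeft g.2)) := by
    ext ⟨u, v⟩ <;> simp [reg, Perm.mul_apply]
  rw [h1, Perm.sign_mul, Perm.sign_prodCongrLeft, Perm.sign_prodCongrRight]
  simp only [Finset.prod_const, Finset.card_univ, Fintype.card_multiplicative, ZMod.card]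
  rw [Int.units_sq, Int.units_sq, one_mul]

theorem sumEmb_even {H₁ H₂ X₁ X₂ : Type} [Group H₁] [Group H₂] [Fintype X₁] [DecidableEq X₁]
    [Fintype X₂] [DecidableEq X₂] (φ₁ : H₁ →* Perm X₁) (φ₂ : H₂ →* Perm X₂)
    (h₁ : ∀ h, Perm.sign (φ₁ h) = 1) (h₂ : ∀ h, Perm.sign (φ₂ h) = 1) (g : H₁ × H₂) :
    Perm.sign (sumEmb φ₁ φ₂ g) = 1 := by
  show Perm.sign (Equiv.sumCongr (φ₁ g.1) (φ₂ g.2)) = 1
  rw [Perm.sign_sumCongr, h₁, h₂, one_mul]

theorem exists_alt_three_mul (k : ℕ) :
    ∃ A : Subgroup (alternatingGroup (Fin (3 * k))), IsMulCommutative A ∧ Nat.card A = 3 ^ k := by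
  obtain ⟨A, hA, hc⟩ := exists_alt _ _ (tri k) (tri_injective k) (tri_even k) (3 * k) (by
    rw [Fintype.card_prod, Fintype.card_fin, Fintype.card_multiplicative, ZMod.card, mul_comm])
  exact ⟨A, hA, by rw [hc, card_pow3]⟩

theorem exists_alt_three_mul_add_one (k : ℕ) (hk : 1 ≤ k) :
    ∃ A : Subgroup (alternatingGroup (Fin (3 * k + 1))), IsMulCommutative A ∧
      Nat.card A = 4 * 3 ^ (k - 1) := by
  obtain ⟨A, hA, hc⟩ := exists_alt _ _
    (sumEmb (tri (k - 1)) (reg V4))
    (sumEmb_injective _ _ (tri_injective (k - 1)) (reg_injective _))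
    (sumEmb_even _ _ (tri_even (k - 1)) reg_V4_even) (3 * k + 1) (by
    rw [Fintype.card_sum, Fintype.card_prod, Fintype.card_fin, Fintype.card_multiplicative,
      ZMod.card, Fintype.card_prod, Fintype.card_multiplicative, ZMod.card]
    omega)
  exact ⟨A, hA, by rw [hc, Nat.card_prod, card_pow3, card_V4, mul_comm]⟩

theorem exists_alt_three_mul_add_two (k : ℕ) (hk : 2 ≤ k) :
    ∃ A : Subgroup (alternatingGroup (Fin (3 * k + 2))), IsMulCommutative A ∧
      Nat.card A = 16 * 3 ^ (k - 2) := by
  obtain ⟨A, hA, hc⟩ := exists_alt _ _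
    (sumEmb (sumEmb (tri (k - 2)) (reg V4)) (reg V4))
    (sumEmb_injective _ _ (sumEmb_injective _ _ (tri_injective (k - 2)) (reg_injective _))
      (reg_injective _))
    (sumEmb_even _ _ (sumEmb_even _ _ (tri_even (k - 2)) reg_V4_even) reg_V4_even)
    (3 * k + 2) (by
    rw [Fintype.card_sum, Fintype.card_sum, Fintype.card_prod, Fintype.card_fin,
      Fintype.card_multiplicative, ZMod.card, Fintype.card_prod, Fintype.card_multiplicative,
      ZMod.card]
    omega)
  exact ⟨A, hA, by rw [hc, Nat.card_prod, Nat.card_prod, card_pow3, card_V4]; ring⟩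

theorem upper (n : ℕ) (A : Subgroup (alternatingGroup (Fin n))) (hA : IsMulCommutative A) :
    Nat.card A ≤ gg n := by
  have hinj : Function.Injective (alternatingGroup (Fin n)).subtype := Subtype.val_injective
  rw [← Subgroup.card_map_of_injective (K := A) hinj]
  apply card_le_gg n (Fin n) _ _ _ (Fintype.card_fin n)
  · rintro _ ⟨a, ha, rfl⟩ _ ⟨b, hb, rfl⟩
    rw [← map_mul, ← map_mul]
    congr 1
    exact comm_of_isMulCommutative A hA a ha b hb
  · rintro _ ⟨a, _, rfl⟩
    exact Equiv.Perm.mem_alternatingGroup.mp a.2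

/-- The largest order of an abelian subgroup of the alternating group of degree n is 3^k when n = 3k, 4·3^(k−1) when n = 3k + 1, and 16·3^(k−2) when n = 3k + 2, for every k ≥ 2 (so for all degrees n ≥ 6). -/
theorem result (k : ℕ) (hk : 2 ≤ k) :
    IsGreatest {c : ℕ | ∃ A : Subgroup (alternatingGroup (Fin (3 * k))), IsMulCommutative A ∧ Nat.card A = c} (3 ^ k) ∧
    IsGreatest {c : ℕ | ∃ A : Subgroup (alternatingGroup (Fin (3 * k + 1))), IsMulCommutative A ∧ Nat.card A = c}
      (4 * 3 ^ (k - 1)) ∧
    IsGreatest {c : ℕ | ∃ A : Subgroup (alternatingGroup (Fin (3 * k + 2))), IsMulCommutative A ∧ Nat.card A = c}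
      (16 * 3 ^ (k - 2)) := by
  refine ⟨⟨?_, ?_⟩, ⟨?_, ?_⟩, ⟨?_, ?_⟩⟩
  · obtain ⟨A, hA, hc⟩ := exists_alt_three_mul k
    exact ⟨A, hA, hc⟩
  · rintro c ⟨A, hA, rfl⟩
    rw [← gg_three_mul k hk]; exact upper _ A hA
  · obtain ⟨A, hA, hc⟩ := exists_alt_three_mul_add_one k (by omega)
    exact ⟨A, hA, hc⟩
  · rintro c ⟨A, hA, rfl⟩
    rw [← gg_three_mul_add_one k hk]; exact upper _ A hA
  · obtain ⟨A, hA, hc⟩ := exists_alt_three_mul_add_two k hk
    exact ⟨A, hA, hc⟩
  · rintro c ⟨A, hA, rfl⟩
    rw [← gg_three_mul_add_two k hk]; exact upper _ A hA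

end Cfsg.Agent.S2504
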