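import Cfsg.Statements.S0327
import Cfsg.Agent.Lib.Helper6.SzGen
import Cfsg.Agent.Lib.Helper6.SzT

set_option autoImplicit false
open Cfsg

namespace Cfsg.Agent.S0327

open Cfsg.Agent.Lib.Helper6 Matrix MulAction

variable {F : Type*} [Field F] {m : ℕ}

theorem smul_coe (g : Sz F m) (p : suzukiOvoid F m) :
    ((g • p : suzukiOvoid F m) : Projectivization F (Fin 4 → F)) =
      (g : SpecialLinearGroup (Fin 4) F) • (p : Projectivization F (Fin 4 → F)) := rfl

/-- An element of the Suzuki group fixing `∞`, `0` and a further point is trivial. -/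
theorem eq_one_of_fix_three [Fintype F] [CharP F 2] (hm : 1 ≤ m)
    (hF : Fintype.card F = 2 ^ (2 * m + 1))
    {g : SpecialLinearGroup (Fin 4) F} (hg : g ∈ Sz F m)
    (hinf : g • suzukiPointInfinity F = suzukiPointInfinity F)
    (hzero : g • suzukiPointZero F = suzukiPointZero F) {x y : F} (hxy : ¬ (x = 0 ∧ y = 0))
    (hfix : g • szPt m x y = szPt m x y) : g = 1 := by
  have hσ : SgSq (F := F) m := sgSq_of_card m hF
  obtain ⟨k, rfl⟩ := eq_szH_of_fix hm hF hg hinf hzero
  rw [szH_smul_pt hσ] at hfix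
  obtain ⟨h1, h2⟩ := szPt_injective m hfix
  have hk : (k : F) = 1 := by
    by_cases hx : x = 0
    · have hy : y ≠ 0 := fun hy => hxy ⟨hx, hy⟩
      have h3 : (k : F) * sg m (k : F) = 1 := by
        have : ((k : F) * sg m (k : F) - 1) * y = 0 := by rw [sub_mul, h2]; ring
        rcases mul_eq_zero.mp this with h | h
        · exact sub_eq_zero.mp h
        · exact absurd h hy
      have h4 : sg m (k : F) * (k : F) ^ 2 = 1 := by
        have := congrArg (sg m) h3
        rwa [map_mul, hσ, map_one] at this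
      calc (k : F) = ((k : F) * sg m (k : F)) * (k : F) := by rw [h3, one_mul]
        _ = sg m (k : F) * (k : F) ^ 2 := by ring
        _ = 1 := h4
    · have : ((k : F) - 1) * x = 0 := by rw [sub_mul, h1]; ring
      rcases mul_eq_zero.mp this with h | h
      · exact sub_eq_zero.mp h
      · exact absurd h hx
  have : k = 1 := Units.ext hk
  rw [this, szH_one]

/-- An involution with a unique fixed point inverts a normal subgroup whose stabiliser of that
point is trivial. -/
theorem inverts_of_unique_fixed {G Ω : Type*} [Group G] [Finite G] [MulAction G Ω]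
    (N : Subgroup G) [hN : N.Normal] (t : G) (p0 : Ω) (ht2 : t * t = 1)
    (hfix : ∀ p : Ω, t • p = p → p = p0) (ht0 : t • p0 = p0)
    (hstab : ∀ n ∈ N, n • p0 = p0 → n = 1) : ∀ n ∈ N, t * n * t⁻¹ = n⁻¹ := by
  have htinv : t⁻¹ = t := inv_eq_of_mul_eq_one_left ht2
  let ψ : N → N := fun n => ⟨(n : G)⁻¹ * (t * n * t⁻¹), N.mul_mem (N.inv_mem n.2)
    (hN.conj_mem _ n.2 t)⟩
  have hinj : Function.Injective ψ := by
    intro n1 n2 h
    have h' : (n1 : G)⁻¹ * (t * n1 * t⁻¹) = (n2 : G)⁻¹ * (t * n2 * t⁻¹) := congrArg Subtype.val h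
    have hu : ((n2 : G) * (n1 : G)⁻¹) * t = t * ((n2 : G) * (n1 : G)⁻¹) := by
      have := congrArg (fun z => (n2 : G) * z * t * (n1 : G)⁻¹) h'
      simp only [mul_assoc, inv_mul_cancel, mul_one, mul_inv_cancel_left, mul_inv_cancel] at this
      simp only [mul_assoc]
      exact this
    have huN : (n2 : G) * (n1 : G)⁻¹ ∈ N := N.mul_mem n2.2 (N.inv_mem n1.2)
    have hfix' : ((n2 : G) * (n1 : G)⁻¹) • p0 = p0 := by
      apply hfix
      rw [← mul_smul, ← hu, mul_smul, ht0]
    have := hstab _ huN hfix'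
    apply Subtype.ext
    have := congrArg (fun z => z * (n1 : G)) this
    simpa using this.symm
  have hsurj := Finite.injective_iff_surjective.mp hinj
  intro n hn
  obtain ⟨n1, hn1⟩ := hsurj ⟨n, hn⟩
  have e : (n1 : G)⁻¹ * (t * n1 * t⁻¹) = n := congrArg Subtype.val hn1
  rw [← e, htinv]
  have e2 : t * ((n1 : G)⁻¹ * (t * n1 * t)) * t = t * (n1 : G)⁻¹ * t * n1 * (t * t) := by
    simp only [mul_assoc]
  rw [e2, ht2, mul_one, _root_.mul_inv_rev, _root_.mul_inv_rev, _root_.mul_inv_rev, htinv,
    inv_inv]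
  simp only [mul_assoc]

/-- The Suzuki group (`m ≥ 1`) is a Zassenhaus group on the `q² + 1` points of the Suzuki–Tits ovoid. -/
theorem result {F : Type*} [Field F] [Fintype F] {m : ℕ} (hm : 1 ≤ m)
    (hF : Fintype.card F = 2 ^ (2 * m + 1)) :
    Cfsg.IsZassenhausGroup (Cfsg.Sz F m) (Cfsg.suzukiOvoid F m) := by
  classical
  have := sz_charP hF
  have hσ : SgSq (F := F) m := sgSq_of_card m hF
  have h2F : (2 : F) = 0 := two_eq_zero'
  have hzmem : suzukiPointZero F ∈ suzukiOvoid F m := by
    rw [← szPt_zero (m := m)]; exact szPt_mem m 0 0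
  let inf' : suzukiOvoid F m := ⟨suzukiPointInfinity F, szInf_mem m⟩
  let zero' : suzukiOvoid F m := ⟨suzukiPointZero F, hzmem⟩
  have hne : inf' ≠ zero' := fun h => szZero_ne_inf' (congrArg Subtype.val h).symm
  have hmap : ∀ a b : suzukiOvoid F m, a ≠ b → ∃ g : Sz F m, g • a = inf' ∧ g • b = zero' := by
    intro a b hab
    obtain ⟨g, hg, h1, h2⟩ := sz_exists_map hσ a.2 b.2 (fun h => hab (Subtype.ext h))
    exact ⟨⟨g, hg⟩, Subtype.ext h1, Subtype.ext h2⟩
  -- three-point stabilisers
  have h3pt : ∀ g : Sz F m, ∀ a b c : suzukiOvoid F m, a ≠ b → b ≠ c → a ≠ c →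
      g • a = a → g • b = b → g • c = c → g = 1 := by
    intro g a b c hab hbc hac ha hb hc
    obtain ⟨g1, h1a, h1b⟩ := hmap a b hab
    have h1a' : g1⁻¹ • inf' = a := by rw [inv_smul_eq_iff, h1a]
    have h1b' : g1⁻¹ • zero' = b := by rw [inv_smul_eq_iff, h1b]
    have hfa : (g1 * g * g1⁻¹) • inf' = inf' := by
      rw [mul_smul, mul_smul, h1a', ha, h1a]
    have hfb : (g1 * g * g1⁻¹) • zero' = zero' := by
      rw [mul_smul, mul_smul, h1b', hb, h1b]
    have hfc : (g1 * g * g1⁻¹) • (g1 • c) = g1 • c := by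
      rw [mul_smul, mul_smul, inv_smul_smul, hc]
    have hc1 : g1 • c ≠ inf' := by
      rw [← h1a]
      exact fun h => hac (smul_left_cancel g1 h).symm
    have hc2 : g1 • c ≠ zero' := by
      rw [← h1b]
      exact fun h => hbc (smul_left_cancel g1 h).symm
    rcases (mem_suzukiOvoid_iff m _).1 (g1 • c).2 with h | ⟨x, y, hxy⟩
    · exact absurd (Subtype.ext h) hc1
    have hxy0 : ¬ (x = 0 ∧ y = 0) := by
      rintro ⟨rfl, rfl⟩
      rw [szPt_zero] at hxy
      exact hc2 (Subtype.ext hxy)
    have hone : ((g1 * g * g1⁻¹ : Sz F m) : SpecialLinearGroup (Fin 4) F) = 1 := by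
      apply eq_one_of_fix_three hm hF (g1 * g * g1⁻¹ : Sz F m).2
        (congrArg Subtype.val hfa) (congrArg Subtype.val hfb) hxy0
      rw [← hxy]
      exact congrArg Subtype.val hfc
    have hone' : g1 * g * g1⁻¹ = 1 := Subtype.ext hone
    have := congrArg (fun z => g1⁻¹ * z * g1) hone'
    simpa [mul_assoc] using this
  have hp10 : szPt m (1 : F) 0 ∈ suzukiOvoid F m := szPt_mem m 1 0
  let p10 : suzukiOvoid F m := ⟨szPt m 1 0, hp10⟩
  have hp10inf : inf' ≠ p10 := fun h => szPt_ne_inf m 1 0 (congrArg Subtype.val h).symm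
  have hp10zero : zero' ≠ p10 := by
    intro h
    have := congrArg Subtype.val h
    rw [show (zero' : Projectivization F (Fin 4 → F)) = szPt m 0 0 from (szPt_zero).symm] at this
    have := (szPt_injective m this).1
    exact zero_ne_one this
  refine ⟨⟨?_⟩, ?_, h3pt, ?_, ?_⟩
  · -- faithful
    intro g1 g2 h
    have : g2⁻¹ * g1 = 1 := by
      apply h3pt _ inf' zero' p10 hne hp10zero hp10inf
      · rw [mul_smul, h, inv_smul_smul]
      · rw [mul_smul, h, inv_smul_smul]
      · rw [mul_smul, h, inv_smul_smul]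
    have := congrArg (fun z => g2 * z) this
    simpa using this
  · -- 2-transitive
    rw [is_two_pretransitive_iff]
    intro a b c d hab hcd
    obtain ⟨g1, h1a, h1b⟩ := hmap a b hab
    obtain ⟨g2, h2c, h2d⟩ := hmap c d hcd
    refine ⟨g2⁻¹ * g1, ?_, ?_⟩
    · rw [mul_smul, h1a, inv_smul_eq_iff, h2c]
    · rw [mul_smul, h1b, inv_smul_eq_iff, h2d]
  · -- a non-identity element fixing two points
    have hcard : 1 < Fintype.card Fˣ := by
      rw [Fintype.card_units, hF]
      have : 2 ^ 3 ≤ 2 ^ (2 * m + 1) := Nat.pow_le_pow_right (by norm_num) (by omega)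
      omega
    obtain ⟨k, hk⟩ := Fintype.exists_ne_of_one_lt_card hcard (1 : Fˣ)
    refine ⟨⟨szH m k, szH_mem hσ k⟩, ?_, inf', zero', hne, ?_, ?_⟩
    · intro h
      apply hk
      apply szH_injective (m := m)
      rw [szH_one]
      exact congrArg Subtype.val h
    · exact Subtype.ext (szH_smul_infPt k)
    · exact Subtype.ext (szH_smul_zeroPt k)
  · -- no regular normal subgroup
    intro N hN hNtr
    by_contra hcon
    push Not at hcon
    have hstab : ∀ n ∈ N, n • inf' = inf' → n = 1 := by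
      intro n hn h
      have : (⟨n, hn⟩ : N) ∈ stabilizer N inf' := h
      rw [hcon inf', Subgroup.mem_bot] at this
      exact congrArg Subtype.val this
    let t : F → Sz F m := fun b => ⟨szT m 0 b, szT_mem hσ 0 b⟩
    have ht0 : ∀ b, t b • inf' = inf' := fun b => Subtype.ext (szT_smul_infPt 0 b)
    have htfix : ∀ b, b ≠ 0 → ∀ p : suzukiOvoid F m, t b • p = p → p = inf' := by
      intro b hb p hp
      rcases (mem_suzukiOvoid_iff m _).1 p.2 with h | ⟨x, y, hxy⟩
      · exact Subtype.ext h
      · exfalso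
        have := congrArg Subtype.val hp
        rw [smul_coe, hxy] at this
        exact szT_zero_left_smul_pt_ne hσ hb x y this
    have htmul : ∀ b c, t b * t c = t (b + c) := by
      intro b c
      apply Subtype.ext
      show szT m 0 b * szT m 0 c = szT m 0 (b + c)
      rw [szT_mul hσ]
      simp
    have ht2 : ∀ b, t b * t b = 1 := by
      intro b
      rw [htmul]
      apply Subtype.ext
      show szT m 0 (b + b) = 1
      have : b + b = 0 := by grind
      rw [this, szT_zero]
    have : Finite (Sz F m) := inferInstance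
    have hinv : ∀ b, b ≠ 0 → ∀ n ∈ N, t b * n * (t b)⁻¹ = n⁻¹ := fun b hb =>
      inverts_of_unique_fixed N (t b) inf' (ht2 b) (htfix b hb) (ht0 b) hstab
    -- pick b ≠ 0, 1
    have hcardF : 2 < Fintype.card F := by
      rw [hF]
      have : 2 ^ 3 ≤ 2 ^ (2 * m + 1) := Nat.pow_le_pow_right (by norm_num) (by omega)
      omega
    obtain ⟨b, hb0, hb1⟩ : ∃ b : F, b ≠ 0 ∧ b ≠ 1 := by
      by_contra hcon'
      push Not at hcon'
      have hsub : (Finset.univ : Finset F) ⊆ {0, 1} := by
        intro x _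
        by_cases hx : x = 0
        · simp [hx]
        · simp [hcon' x hx]
      have := Finset.card_le_card hsub
      have h2 : ({0, 1} : Finset F).card ≤ 2 := Finset.card_le_two
      rw [Finset.card_univ] at this
      omega
    have hb1' : (1 : F) + b ≠ 0 := by
      intro h
      apply hb1
      grind
    -- every element of N is trivial
    have hN1 : ∀ n ∈ N, n = 1 := by
      intro n hn
      have e1 := hinv 1 one_ne_zero n hn
      have e2 := hinv b hb0 n hn
      have e3 := hinv (1 + b) hb1' n hn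
      have e4 : t (1 + b) * n * (t (1 + b))⁻¹ = n := by
        rw [← htmul, _root_.mul_inv_rev]
        calc t 1 * t b * n * ((t b)⁻¹ * (t 1)⁻¹) = t 1 * (t b * n * (t b)⁻¹) * (t 1)⁻¹ := by
              simp only [mul_assoc]
          _ = t 1 * n⁻¹ * (t 1)⁻¹ := by rw [e2]
          _ = (t 1 * n * (t 1)⁻¹)⁻¹ := by
              rw [_root_.mul_inv_rev, _root_.mul_inv_rev, inv_inv]; simp only [mul_assoc]
          _ = n := by rw [e1, inv_inv]
      apply hstab n hn
      apply htfix (1 + b) hb1'
      have e5 : t (1 + b) * n = n * t (1 + b) := by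
        have := congrArg (fun z => z * t (1 + b)) e4
        simpa [mul_assoc] using this
      rw [← mul_smul, e5, mul_smul, ht0]
    obtain ⟨n, hn⟩ := hNtr.exists_smul_eq inf' zero'
    have := hN1 n n.2
    have hn' : (n : Sz F m) • inf' = zero' := hn
    rw [this, one_smul] at hn'
    exact hne hn'

end Cfsg.Agent.S0327
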