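import Cfsg.Statements.S0332
import Cfsg.Agent.S0327
import Cfsg.Agent.Lib.Helper6.ZassCN
import Cfsg.Agent.Lib.Helper6.FpfLinear2
import Cfsg.Agent.Lib.Helper6.SzOrder

set_option autoImplicit false
open Cfsg

namespace Cfsg.Agent.S0332

open Cfsg.Agent.Lib.Helper6 Matrix MulAction

/-- A subgroup whose elements commute pairwise is nilpotent. -/
theorem isNilpotent_of_forall_comm {G : Type*} [Group G] (H : Subgroup G)
    (h : ∀ x ∈ H, ∀ y ∈ H, x * y = y * x) : Group.IsNilpotent H := by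
  letI : CommGroup H :=
    { (inferInstance : Group H) with mul_comm := fun a b => Subtype.ext (h a a.2 b b.2) }
  exact CommGroup.isNilpotent

/-- Two-point stabilisers of the Suzuki group on the ovoid are conjugate to the diagonal torus. -/
theorem exists_conj_szH {F : Type*} [Field F] [Fintype F] [CharP F 2] {m : ℕ} (hm : 1 ≤ m)
    (hF : Fintype.card F = 2 ^ (2 * m + 1)) (a b : suzukiOvoid F m) (hab : a ≠ b) :
    ∃ x : Sz F m, ∀ t : Sz F m, t • a = a → t • b = b →
      ∃ k : Fˣ, ((x * t * x⁻¹ : Sz F m) : SpecialLinearGroup (Fin 4) F) = szH m k := by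
  have hσ : SgSq (F := F) m := sgSq_of_card m hF
  obtain ⟨g, hg, h1, h2⟩ := sz_exists_map hσ a.2 b.2 (fun h => hab (Subtype.ext h))
  refine ⟨⟨g, hg⟩, fun t hta htb => ?_⟩
  have hta' : (t : SpecialLinearGroup (Fin 4) F) • (a : Projectivization F (Fin 4 → F)) = a :=
    congrArg Subtype.val hta
  have htb' : (t : SpecialLinearGroup (Fin 4) F) • (b : Projectivization F (Fin 4 → F)) = b :=
    congrArg Subtype.val htb
  have h1' : g⁻¹ • suzukiPointInfinity F = (a : Projectivization F (Fin 4 → F)) := by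
    rw [inv_smul_eq_iff, h1]
  have h2' : g⁻¹ • suzukiPointZero F = (b : Projectivization F (Fin 4 → F)) := by
    rw [inv_smul_eq_iff, h2]
  apply eq_szH_of_fix hm hF ((⟨g, hg⟩ : Sz F m) * t * (⟨g, hg⟩ : Sz F m)⁻¹).2
  · change (g * (t : SpecialLinearGroup (Fin 4) F) * g⁻¹) • suzukiPointInfinity F = _
    rw [mul_smul, mul_smul, h1', hta', h1]
  · change (g * (t : SpecialLinearGroup (Fin 4) F) * g⁻¹) • suzukiPointZero F = _
    rw [mul_smul, mul_smul, h2', htb', h2]

/-- The Suzuki group is a CN-group: every non-identity element has nilpotent centraliser. -/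
theorem result {F : Type*} [Field F] [Fintype F] {m : ℕ} (hm : 1 ≤ m)
    (hF : Fintype.card F = 2 ^ (2 * m + 1)) : Cfsg.IsCNGroup (Cfsg.Sz F m) := by
  classical
  have := sz_charP hF
  have hσ : SgSq (F := F) m := sgSq_of_card m hF
  obtain ⟨-, -, h3, -, -⟩ := Cfsg.Agent.S0327.result hm hF
  have hcard : Nat.card (suzukiOvoid F m) = 2 ^ ((2 * m + 1) * 2) + 1 := by
    rw [card_suzukiOvoid, hF, ← pow_mul]
  have hodd : Odd (Nat.card (suzukiOvoid F m)) := by
    rw [hcard]
    apply Even.add_one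
    rw [Nat.even_pow]
    exact ⟨even_two, by omega⟩
  have hinv : ∀ a b : suzukiOvoid F m, a ≠ b → ∀ t : Sz F m, t • a = a → t • b = b →
      t * t = 1 → t = 1 := by
    intro a b hab t hta htb ht2
    obtain ⟨x, hx⟩ := exists_conj_szH hm hF a b hab
    obtain ⟨k, hk⟩ := hx t hta htb
    have h4 : (x * t * x⁻¹) * (x * t * x⁻¹) = 1 := by
      have : (x * t * x⁻¹) * (x * t * x⁻¹) = x * (t * t) * x⁻¹ := by group
      rw [this, ht2]; group
    have h5 : szH m (k * k) = szH m 1 := by
      rw [szH_mul, ← hk, szH_one]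
      exact congrArg Subtype.val h4
    have h6 : k * k = 1 := szH_injective h5
    have h7 : (k : F) * (k : F) = 1 := by
      have := congrArg (fun u : Fˣ => (u : F)) h6
      simpa using this
    have h8 : ((k : F) - 1) * ((k : F) - 1) = 0 := by
      have h2F : (2 : F) = 0 := two_eq_zero'
      linear_combination h7 + (1 - (k : F)) * h2F
    have h9 : (k : F) = 1 := by
      rcases mul_self_eq_zero.mp h8 with h
      exact sub_eq_zero.mp h
    have h10 : k = 1 := Units.ext h9
    rw [h10, szH_one] at hk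
    have h11 : x * t * x⁻¹ = 1 := Subtype.ext hk
    have := congrArg (fun z => x⁻¹ * z * x) h11
    simpa [mul_assoc] using this
  have hcomm2 : ∀ a b : suzukiOvoid F m, a ≠ b → ∀ s t : Sz F m, s • a = a → s • b = b →
      t • a = a → t • b = b → s * t = t * s := by
    intro a b hab s t hsa hsb hta htb
    obtain ⟨x, hx⟩ := exists_conj_szH hm hF a b hab
    obtain ⟨k₁, hk₁⟩ := hx s hsa hsb
    obtain ⟨k₂, hk₂⟩ := hx t hta htb
    have h4 : (x * s * x⁻¹) * (x * t * x⁻¹) = (x * t * x⁻¹) * (x * s * x⁻¹) := by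
      apply Subtype.ext
      change ((x * s * x⁻¹ : Sz F m) : SpecialLinearGroup (Fin 4) F) *
        ((x * t * x⁻¹ : Sz F m) : SpecialLinearGroup (Fin 4) F) =
        ((x * t * x⁻¹ : Sz F m) : SpecialLinearGroup (Fin 4) F) *
        ((x * s * x⁻¹ : Sz F m) : SpecialLinearGroup (Fin 4) F)
      rw [hk₁, hk₂, ← szH_mul, ← szH_mul, mul_comm]
    have h5 : x * (s * t) * x⁻¹ = x * (t * s) * x⁻¹ := by
      have e1 : x * (s * t) * x⁻¹ = (x * s * x⁻¹) * (x * t * x⁻¹) := by group
      have e2 : x * (t * s) * x⁻¹ = (x * t * x⁻¹) * (x * s * x⁻¹) := by group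
      rw [e1, e2, h4]
    have := congrArg (fun z => x⁻¹ * z * x) h5
    simpa [mul_assoc] using this
  intro g hg1
  have hcomm : ∀ c ∈ Subgroup.centralizer ({g} : Set (Sz F m)), Commute c g := by
    intro c hc
    exact (Subgroup.mem_centralizer_singleton_iff.mp hc)
  by_cases hfix : ∃ a : suzukiOvoid F m, g • a = a
  · obtain ⟨a, ha⟩ := hfix
    by_cases hfix2 : ∃ b : suzukiOvoid F m, b ≠ a ∧ g • b = b
    · obtain ⟨b, hba, hb⟩ := hfix2
      apply isNilpotent_of_forall_comm
      intro c₁ hc₁ c₂ hc₂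
      obtain ⟨h1a, h1b⟩ := fix_pair_of_commute hodd h3 hinv hg1 (Ne.symm hba) ha hb (hcomm c₁ hc₁)
      obtain ⟨h2a, h2b⟩ := fix_pair_of_commute hodd h3 hinv hg1 (Ne.symm hba) ha hb (hcomm c₂ hc₂)
      exact hcomm2 a b (Ne.symm hba) c₁ c₂ h1a h1b h2a h2b
    · push Not at hfix2
      have hu : ∀ b, g • b = b → b = a := by
        intro b hb
        by_contra hne
        exact hfix2 b hne hb
      have hP : IsPGroup 2 (Subgroup.centralizer ({g} : Set (Sz F m))) := by
        intro c
        obtain ⟨j, hj⟩ := exists_two_pow_of_unique_fixed hcard h3 ha hu (hcomm c.1 c.2)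
        exact ⟨j, Subtype.ext hj⟩
      have : Fact (Nat.Prime 2) := ⟨Nat.prime_two⟩
      exact hP.isNilpotent
  · push Not at hfix
    have ho1 : orderOf g ≠ 1 := fun h => hg1 (orderOf_eq_one_iff.mp h)
    obtain ⟨p, hp, hpo⟩ := Nat.exists_prime_and_dvd ho1
    obtain ⟨hp2, hpΩ, hyord, -⟩ := prime_dvd_card_of_fpf hodd h3 hinv hfix hp hpo
    have := Fact.mk hp
    set y : Sz F m := g ^ (orderOf g / p) with hy
    have hyord' : orderOf (y : SpecialLinearGroup (Fin 4) F) = p := by
      rw [Subgroup.orderOf_coe, hyord]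
    have hpq : p ∣ Fintype.card F ^ 2 + 1 := by
      rw [← card_suzukiOvoid (F := F) m]; exact hpΩ
    apply isNilpotent_of_forall_comm
    intro c₁ hc₁ c₂ hc₂
    have hc₁y : Commute c₁ y := (hcomm c₁ hc₁).pow_right _
    have hc₂y : Commute c₂ y := (hcomm c₂ hc₂).pow_right _
    have e1 : Commute ((c₁ : SpecialLinearGroup (Fin 4) F) : Matrix (Fin 4) (Fin 4) F)
        ((y : SpecialLinearGroup (Fin 4) F) : Matrix (Fin 4) (Fin 4) F) := by
      have := congrArg (fun z : Sz F m => ((z : SpecialLinearGroup (Fin 4) F) : Matrix (Fin 4) (Fin 4) F)) hc₁y.eq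
      exact this
    have e2 : Commute ((c₂ : SpecialLinearGroup (Fin 4) F) : Matrix (Fin 4) (Fin 4) F)
        ((y : SpecialLinearGroup (Fin 4) F) : Matrix (Fin 4) (Fin 4) F) := by
      have := congrArg (fun z : Sz F m => ((z : SpecialLinearGroup (Fin 4) F) : Matrix (Fin 4) (Fin 4) F)) hc₂y.eq
      exact this
    have e3 := sl4_commute_of_commute hp2 hpq (y : SpecialLinearGroup (Fin 4) F) hyord' e1 e2
    apply Subtype.ext
    apply Subtype.ext
    exact e3.eq

end Cfsg.Agent.S0332
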