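import Cfsg.Statements.S0331
import Cfsg.Agent.Lib.Helper6.SzTorus
import Cfsg.Agent.Lib.Helper51.UniqueOrderP

set_option autoImplicit false
open Cfsg

namespace Cfsg.Agent.S0331

open Cfsg.Agent.Lib.Helper6 Matrix

/-- An odd prime does not divide a power of two. -/
theorem not_dvd_two_pow {p : ℕ} (hp : p.Prime) (hp2 : p ≠ 2) (n : ℕ) : ¬ p ∣ 2 ^ n := by
  intro h
  exact hp2 ((Nat.prime_dvd_prime_iff_eq hp Nat.prime_two).mp (hp.dvd_of_dvd_pow h))

/-- The `p`-part of the order of the Suzuki group for `p ∤ q² + 1`. -/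
theorem factorization_card_Sz {p q : ℕ} (hp : p.Prime) (hq : 2 ≤ q) (h1 : ¬ p ∣ q ^ 2)
    (h2 : ¬ p ∣ q ^ 2 + 1) :
    (q ^ 2 * (q ^ 2 + 1) * (q - 1)).factorization p = (q - 1).factorization p := by
  have hq1 : q - 1 ≠ 0 := by omega
  have hq2 : q ^ 2 ≠ 0 := by positivity
  rw [Nat.factorization_mul (by positivity) hq1, Nat.factorization_mul hq2 (by positivity),
    Finsupp.add_apply, Finsupp.add_apply, Nat.factorization_eq_zero_of_not_dvd h1,
    Nat.factorization_eq_zero_of_not_dvd h2, zero_add, zero_add]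

/-- For every odd prime `p` the Sylow `p`-subgroups of the Suzuki group are cyclic. -/
theorem result {F : Type*} [Field F] [Fintype F] {m : ℕ} (hm : 1 ≤ m)
    (hF : Fintype.card F = 2 ^ (2 * m + 1)) {p : ℕ} [Fact p.Prime] (hp : p ≠ 2)
    (P : Sylow p (Cfsg.Sz F m)) : IsCyclic P := by
  have hpp : p.Prime := Fact.out
  have := sz_charP hF
  have hσ : SgSq (F := F) m := sgSq_of_card m hF
  have hcF : Nat.card F = 2 ^ (2 * m + 1) := by rw [Nat.card_eq_fintype_card, hF]
  have hG := card_Sz hm hF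
  by_cases h1 : p ∣ (2 ^ (2 * m + 1)) ^ 2 + 1
  · -- fixed-point-free case
    letI : DistribMulAction (P : Subgroup (Sz F m)) (Fin 4 → F) :=
      DistribMulAction.compHom _ ((Sz F m).subtype.comp (P : Subgroup (Sz F m)).subtype)
    have hV : ∃ v : Fin 4 → F, p • v ≠ 0 := by
      refine ⟨fun _ => 1, fun h => ?_⟩
      have h2 := congrFun h 0
      simp only [Pi.smul_apply, nsmul_one, Pi.zero_apply] at h2
      rw [CharP.cast_eq_zero_iff F 2 p] at h2
      exact hp ((Nat.prime_dvd_prime_iff_eq Nat.prime_two hpp).mp h2).symm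
    have hfpf : ∀ g : (P : Subgroup (Sz F m)), g ≠ 1 → ∀ v : Fin 4 → F, g • v = v → v = 0 := by
      intro g hg v hv
      obtain ⟨k, hk⟩ := (IsPGroup.iff_orderOf.mp P.isPGroup') g
      have hk0 : k ≠ 0 := by
        intro h0
        rw [h0, pow_zero, orderOf_eq_one_iff] at hk
        exact hg hk
      set γ : SpecialLinearGroup (Fin 4) F := ((g : Sz F m) : SpecialLinearGroup (Fin 4) F) with hγ
      have hγord : orderOf γ = p ^ k := by
        rw [hγ, Subgroup.orderOf_coe, Subgroup.orderOf_coe, hk]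
      have hγv : γ • v = v := hv
      have hord : orderOf (γ ^ p ^ (k - 1)) = p := by
        rw [orderOf_pow_of_dvd (pow_ne_zero _ hpp.ne_zero), hγord]
        · obtain ⟨j, rfl⟩ := Nat.exists_eq_succ_of_ne_zero hk0
          rw [Nat.succ_sub_one, pow_succ, Nat.mul_div_cancel_left _ (pow_pos hpp.pos j)]
        · rw [hγord]
          exact pow_dvd_pow p (Nat.sub_le k 1)
      have hfix : γ ^ p ^ (k - 1) • v = v := by
        have h3 : γ ∈ MulAction.stabilizer (SpecialLinearGroup (Fin 4) F) v := hγv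
        exact Subgroup.pow_mem _ h3 _
      refine sl4_fix_eq_zero hp ?_ _ hord v hfix
      rw [hF]; exact h1
    have huniq := uniqueOrderP_of_fpf P.isPGroup' hV hfpf
    rcases Cfsg.Agent.Lib.Helper51.cyclic_or_quaternion_of_uniqueOrderP p P.isPGroup' huniq with h | h
    · exact h
    · exact absurd h.1 hp
  · -- torus case
    have hq2 : ¬ p ∣ (2 ^ (2 * m + 1)) ^ 2 := by
      rw [← pow_mul]; exact not_dvd_two_pow hpp hp _
    have hq : 2 ≤ 2 ^ (2 * m + 1) := by
      calc 2 = 2 ^ 1 := by norm_num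
        _ ≤ 2 ^ (2 * m + 1) := Nat.pow_le_pow_right (by norm_num) (by omega)
    have hfac := factorization_card_Sz hpp hq hq2 h1
    obtain Q : Sylow p (szHsub hσ) := default
    have hQcard : Nat.card Q = p ^ (2 ^ (2 * m + 1) - 1).factorization p := by
      rw [Sylow.card_eq_multiplicity, card_szHsub, hcF]
    set Q' : Subgroup (Sz F m) := (Q : Subgroup (szHsub hσ)).map (szHsub hσ).subtype with hQ'
    have hQ'card : Nat.card Q' = p ^ (2 ^ (2 * m + 1) - 1).factorization p := by
      rw [hQ', Subgroup.card_map_of_injective (Subgroup.subtype_injective _), hQcard]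
    have hQ'p : IsPGroup p Q' := IsPGroup.of_card hQ'card
    obtain ⟨R, hR⟩ := hQ'p.exists_le_sylow
    have hRcard : Nat.card R = p ^ (2 ^ (2 * m + 1) - 1).factorization p := by
      rw [Sylow.card_eq_multiplicity, hG, hfac]
    have hQR : Q' = (R : Subgroup (Sz F m)) :=
      Subgroup.eq_of_le_of_card_ge hR (by rw [hRcard, hQ'card])
    have hcycH := isCyclic_szHsub hσ
    have hcycQ : IsCyclic (Q : Subgroup (szHsub hσ)) := inferInstance
    have hcycQ' : IsCyclic Q' := by
      have e : (Q : Subgroup (szHsub hσ)) ≃* Q' :=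
        (Q : Subgroup (szHsub hσ)).equivMapOfInjective _ (Subgroup.subtype_injective _)
      exact e.isCyclic.mp hcycQ
    have hcycR : IsCyclic (R : Subgroup (Sz F m)) := hQR ▸ hcycQ'
    obtain ⟨g, hg⟩ := MulAction.exists_smul_eq (Sz F m) R P
    have e := Sylow.equivSMul R g
    rw [hg] at e
    exact e.isCyclic.mp hcycR

end Cfsg.Agent.S0331
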