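import Cfsg.Statements.S2241
import Mathlib
import Cfsg.Agent.Lib.Helper6.SzSylow
import Cfsg.Agent.Lib.Helper6.SzGen
import Cfsg.Agent.Lib.Helper6.SzOrder
-- Template for statement S2241 (row 2241; see /opt/grader/pristine/manifest.json for weights).
-- Copy to Cfsg/Agent/S2241.lean and replace the sorry. The statement below is byte-identical to the frozen
-- statement Cfsg.CfsgFrozen.S2241 (Cfsg/Statements/S2241.lean; the theorem Cfsg.kfact3_suzuki_real_two_elements_are_involutions);
-- the grader kernel-checks Cfsg.Agent.S2241.result against that frozen type. Keep the theorem IN THIS FILE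
-- (a `result` declared elsewhere and merely imported here is not credited); helpers may live anywhere
-- under Cfsg/Agent/.
-- import your own Cfsg.Agent.* helpers here

set_option autoImplicit false
set_option linter.unusedSectionVars false
open Cfsg

namespace Cfsg.Agent.S2241

open Cfsg.Agent.Lib.Helper6 Matrix

section

variable {F : Type*} [Field F] [Fintype F] [CharP F 2] {m : ℕ}

/-- An element of order four of the translation subgroup is not conjugate to its inverse. -/
theorem core (hm : 1 ≤ m) (hF : Fintype.card F = 2 ^ (2 * m + 1)) {a b : F} (ha : a ≠ 0)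
    (Y : SpecialLinearGroup (Fin 4) F) (hY : Y ∈ Sz F m)
    (h : Y * szT m a b * Y⁻¹ = (szT m a b)⁻¹) : False := by
  have hσ : SgSq (F := F) m := sgSq_of_card m hF
  have h2 : (2 : F) = 0 := two_eq_zero'
  rw [szT_inv hσ] at h
  have hYg : Y * szT m a b = szT m a (b + sg m a * a) * Y := by
    rw [← h, inv_mul_cancel_right]
  -- `Y` fixes `∞`
  have hinf : Y • suzukiPointInfinity F = suzukiPointInfinity F := by
    have hmem : Y • suzukiPointInfinity F ∈ suzukiOvoid F m := sz_smul_mem hY (szInf_mem m)
    have hfix : szT m a (b + sg m a * a) • (Y • suzukiPointInfinity F) = Y • suzukiPointInfinity F := by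
      rw [← mul_smul, ← hYg, mul_smul, szT_smul_infPt]
    rcases (mem_suzukiOvoid_iff m _).1 hmem with h' | ⟨x, y, h'⟩
    · exact h'
    · exfalso
      rw [h', szT_smul_pt hσ] at hfix
      have := (szPt_injective m hfix).1
      apply ha
      exact left_eq_add.mp this.symm
  obtain ⟨c, d, k, rfl⟩ := exists_eq_szT_mul_szH hm hF hY hinf
  -- apply both sides to the point `(0,0)`
  have hpt := congrArg (fun g : SpecialLinearGroup (Fin 4) F => g • szPt m (0 : F) 0) hYg
  simp only [mul_smul] at hpt
  rw [szT_smul_pt hσ, szH_smul_pt hσ, szT_smul_pt hσ, szH_smul_pt hσ, szT_smul_pt hσ,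
    szT_smul_pt hσ] at hpt
  obtain ⟨e1, e2⟩ := szPt_injective m hpt
  simp only [mul_zero, zero_add, add_zero] at e1 e2
  have hk : (k : F) = 1 := by
    have : (k : F) * a = a := by
      have := e1
      rw [add_comm c a] at this
      exact add_right_cancel this
    exact mul_right_cancel₀ ha (by rw [this, one_mul])
  rw [hk] at e2
  simp only [map_one, mul_one, one_mul] at e2
  -- `σ(c) a = σ(a) c + σ(a) a`
  have e3 : sg m c * a = sg m a * c + sg m a * a := by
    generalize sg m a = A at *
    generalize sg m c = C at *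
    grind
  set u := c / a with hu
  have hc : c = u * a := by rw [hu]; field_simp
  have hA : sg m a ≠ 0 := (map_ne_zero (sg m)).mpr ha
  have e4 : sg m u = u + 1 := by
    rw [hc, map_mul] at e3
    have : sg m a * a * (sg m u) = sg m a * a * (u + 1) := by
      rw [← sub_eq_zero] at e3 ⊢
      rw [← e3]; ring
    exact mul_left_cancel₀ (mul_ne_zero hA ha) this
  have e5 : sg m (sg m u) = u := by
    rw [e4, map_add, map_one, e4]
    grind
  rw [hσ u] at e5
  have e6 : sg m u = u := by
    have : u * (u - 1) = 0 := by rw [← sub_eq_zero] at e5; rw [← e5]; ring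
    rcases mul_eq_zero.mp this with h | h
    · rw [h, map_zero]
    · rw [sub_eq_zero.mp h, map_one]
  rw [e6] at e4
  have : (1 : F) = 0 := left_eq_add.mp e4
  exact one_ne_zero this

end

/-- In the Suzuki group `Sz(q)`, `q = 2^(2m+1)`, a non-identity 2-element is conjugate to its inverse
exactly when it is an involution. -/
theorem result {F : Type*} [Field F] [Fintype F] {m : ℕ} (hm : 1 ≤ m) (hF : Fintype.card F = 2 ^ (2 * m + 1)) (P : Sylow 2 ↥(Cfsg.Sz F m)) (g : ↥(Cfsg.Sz F m)) (hg : g ∈ (P : Subgroup ↥(Cfsg.Sz F m))) (h1 : g ≠ 1) :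
    IsConj g g⁻¹ ↔ orderOf g = 2 := by
  constructor
  · intro hconj
    have hchar := sz_charP hF
    have hσ : SgSq (F := F) m := sgSq_of_card m hF
    have hcardT : Nat.card (szTsub hσ) = 2 ^ (2 * (2 * m + 1)) := by
      rw [card_szTsub, Nat.card_eq_fintype_card, hF, ← pow_mul, mul_comm]
    have hp : IsPGroup 2 (szTsub hσ) := IsPGroup.of_card hcardT
    have hidx : ¬ 2 ∣ (szTsub hσ).index := by
      have h1 := (szTsub hσ).card_mul_index
      have hG := card_Sz hm hF
      have hG' : Nat.card (Sz F m) =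
          2 ^ (2 * (2 * m + 1)) * (((2 ^ (2 * m + 1)) ^ 2 + 1) * (2 ^ (2 * m + 1) - 1)) := by
        rw [hG, pow_mul', mul_assoc]
      rw [hcardT, hG'] at h1
      have hpos : 0 < 2 ^ (2 * (2 * m + 1)) := pow_pos (by norm_num) _
      have hi : (szTsub hσ).index = ((2 ^ (2 * m + 1)) ^ 2 + 1) * (2 ^ (2 * m + 1) - 1) :=
        Nat.eq_of_mul_eq_mul_left hpos h1
      rw [hi]
      have he : Even (2 ^ (2 * m + 1)) := Nat.even_pow.mpr ⟨even_two, by omega⟩
      have ho1 : Odd ((2 ^ (2 * m + 1)) ^ 2 + 1) :=
        Even.add_one (Even.pow_of_ne_zero he (by norm_num))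
      have ho2 : Odd (2 ^ (2 * m + 1) - 1) := Nat.Even.sub_odd Nat.one_le_two_pow he odd_one
      exact (Nat.odd_mul.mpr ⟨ho1, ho2⟩).not_two_dvd_nat
    let Q : Sylow 2 (Sz F m) := hp.toSylow hidx
    obtain ⟨x, hx⟩ := MulAction.exists_smul_eq (Sz F m) P Q
    have hg' : x * g * x⁻¹ ∈ szTsub hσ := by
      have hmem : x * g * x⁻¹ ∈ (Q : Subgroup (Sz F m)) := by
        rw [← hx, Sylow.coe_subgroup_smul]
        exact ⟨g, hg, rfl⟩
      rwa [hp.toSylow_coe hidx] at hmem
    obtain ⟨a, b, hab⟩ := hg'
    by_cases ha : a = 0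
    · have hsq : (x * g * x⁻¹) ^ 2 = 1 := by
        apply Subtype.ext
        rw [Subgroup.coe_pow, hab, ha, sq, szT_mul hσ]
        simp only [add_zero, map_zero, mul_zero]
        have h2 : (2 : F) = 0 := two_eq_zero'
        have : b + b = 0 := by grind
        rw [this, szT_zero]
        rfl
      have hne : x * g * x⁻¹ ≠ 1 := by
        intro h
        apply h1
        have : g = x⁻¹ * (x * g * x⁻¹) * x := by group
        rw [this, h]
        group
      have h2 : orderOf (x * g * x⁻¹) = 2 := orderOf_eq_prime hsq hne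
      rw [← h2]
      exact ((MulAut.conj x).orderOf_eq g).symm
    · exfalso
      obtain ⟨c, hc⟩ := isConj_iff.mp hconj
      have e : (x * c * x⁻¹) * (x * g * x⁻¹) * (x * c * x⁻¹)⁻¹ = (x * g * x⁻¹)⁻¹ := by
        have e1 : (x * c * x⁻¹) * (x * g * x⁻¹) * (x * c * x⁻¹)⁻¹ = x * (c * g * c⁻¹) * x⁻¹ := by
          group
        rw [e1, hc]
        group
      apply core hm hF ha ((x * c * x⁻¹ : Sz F m) : Matrix.SpecialLinearGroup (Fin 4) F)
        (x * c * x⁻¹).2
      rw [← hab]
      have := congrArg (fun z : Sz F m => (z : Matrix.SpecialLinearGroup (Fin 4) F)) e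
      simpa using this
  · intro h
    have : g⁻¹ = g := by
      rw [inv_eq_iff_mul_eq_one, ← sq, ← h, pow_orderOf_eq_one]
    rw [this]

end Cfsg.Agent.S2241
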