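import Cfsg.Statements.S2325
import Cfsg.Agent.Lib.Helper39.SL2Conj

set_option autoImplicit false
open Cfsg

namespace Cfsg.Agent.S2325

open Matrix Polynomial Cfsg.Agent.Lib.Helper39

variable {F : Type*} [Field F]

/-- For `t² ≠ 4` over a finite field of odd order the form `x² + t x y + y²` is universal. -/
theorem norm_universal [Fintype F] (hodd : Fintype.card F % 2 = 1) (h2 : (2 : F) ≠ 0) (t : F)
    (ht : t ^ 2 ≠ 4) (c : F) : ∃ x y : F, x ^ 2 + t * x * y + y ^ 2 = c := by
  have h4 : (4 : F) ≠ 0 := by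
    have : (4 : F) = 2 * 2 := by norm_num
    rw [this]; exact mul_ne_zero h2 h2
  set a : F := 1 - t ^ 2 / 4 with ha
  have ha0 : a ≠ 0 := by
    intro h0
    apply ht
    rw [ha] at h0
    field_simp at h0
    linear_combination -h0
  have hf : degree (X ^ 2 : F[X]) = 2 := degree_X_pow 2
  have hg : degree (C a * X ^ 2 + C 0 * X + C (-c) : F[X]) = 2 := degree_quadratic ha0
  obtain ⟨u, v, huv⟩ := FiniteField.exists_root_sum_quadratic hf hg hodd
  simp only [eval_pow, eval_X, eval_add, eval_mul, eval_C, zero_mul, add_zero] at huv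
  refine ⟨u - t * v / 2, v, ?_⟩
  rw [ha] at huv
  field_simp at huv ⊢
  linear_combination huv

/-- the sign -/
def sgn (b : Bool) : F := if b then 1 else -1

theorem sgn_mul_self (b : Bool) : (sgn b : F) * sgn b = 1 := by
  cases b <;> simp [sgn]

/-- square class representatives -/
def nsq (ε : F) (e : Bool) : F := if e then 1 else ε

theorem upper_conj {s : F} (hs : s * s = 1) {c c' : F} (hc : c ≠ 0)
    (h : IsConj (upperSL2 s hs c) (upperSL2 s hs c')) : ∃ x : F, c' = c * x ^ 2 := by
  obtain ⟨Q, hQ, hQU⟩ := sl2_isConj_iff.mp h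
  rw [upperSL2_val, upperSL2_val, eta2 Q] at hQU
  rw [Matrix.det_fin_two] at hQ
  have e10 := congrFun (congrFun hQU 1) 1
  have e01 := congrFun (congrFun hQU 0) 1
  simp [Matrix.mul_apply, Fin.sum_univ_two] at e10 e01
  have hz : Q 1 0 = 0 := by
    have h0 : Q 1 0 * c = 0 := by linear_combination e10
    rcases mul_eq_zero.mp h0 with h | h
    · exact h
    · exact absurd h hc
  refine ⟨Q 0 0, ?_⟩
  rw [hz] at hQ
  linear_combination -(Q 0 0) * e01 - c' * hQ

/-- The conjugating matrix between the companion matrix of trace `2s` and `upperSL2 s c`. -/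
theorem companion_upper (s c : F) (hs : s * s = 1) :
    companion2 (2 * s) 1 * !![1, 0; -s, -c] = !![1, 0; -s, -c] * !![s, c; 0, s] := by
  ext i j; fin_cases i <;> fin_cases j <;>
    simp [companion2, Matrix.mul_apply, Fin.sum_univ_two] <;>
    first | ring1 | linear_combination hs | linear_combination (2 : F) * hs |
      linear_combination (-1 : F) * hs | linear_combination (-2 : F) * hs

theorem conj_upper {g : Matrix.SpecialLinearGroup (Fin 2) F} (hg : ¬ IsScalar2 g.1) {s : F}
    (hs : s * s = 1) (ht : g.1.trace = 2 * s) {c : F}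
    (hc : ∀ ρ : F, ρ ≠ 0 → ∃ z : F, z ^ 2 * ρ * c = 1) : IsConj (upperSL2 s hs c) g := by
  obtain ⟨P, hP, hAP⟩ := exists_conj_companion2 g.1 hg
  rw [g.2, ht] at hAP
  obtain ⟨z, hz⟩ := hc (-P.det) (neg_ne_zero.mpr hP)
  rw [sl2_isConj_iff]
  refine ⟨z • (P * !![1, 0; -s, -c]), ?_, ?_⟩
  · rw [Matrix.det_smul, Matrix.det_mul, Matrix.det_fin_two_of]
    simp only [Fintype.card_fin]
    linear_combination hz
  · rw [upperSL2_val, Matrix.smul_mul, Matrix.mul_smul, Matrix.mul_assoc, ← companion_upper s c hs,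
      ← Matrix.mul_assoc, ← Matrix.mul_assoc, hAP]

section main

variable [Fintype F]

/-- the parametrisation of classes -/
def Ψ (ε : F) : Bool ⊕ ({t : F // t ≠ 2 ∧ t ≠ -2} ⊕ (Bool × Bool)) →
    ConjClasses (Matrix.SpecialLinearGroup (Fin 2) F)
  | Sum.inl b => ConjClasses.mk (upperSL2 (sgn b) (sgn_mul_self b) 0)
  | Sum.inr (Sum.inl t) => ConjClasses.mk (compSL2 t.1)
  | Sum.inr (Sum.inr (b, e)) => ConjClasses.mk (upperSL2 (sgn b) (sgn_mul_self b) (nsq ε e))

theorem upper_scalar_iff (s : F) (hs : s * s = 1) (c : F) :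
    IsScalar2 (upperSL2 s hs c).1 ↔ c = 0 := by
  simp [IsScalar2, upperSL2_val]

theorem upper_trace (s : F) (hs : s * s = 1) (c : F) : (upperSL2 s hs c).1.trace = 2 * s := by
  simp [upperSL2_val, Matrix.trace_fin_two, two_mul]

theorem sgn_injective (h2 : (2 : F) ≠ 0) : Function.Injective (sgn : Bool → F) := by
  have h11 : (1 : F) ≠ -1 := by
    intro h
    apply h2
    linear_combination h
  intro b b' h
  cases b <;> cases b' <;> simp_all [sgn]

theorem Ψ_injective (h2 : (2 : F) ≠ 0) (ε : F) (hε : ¬ IsSquare ε) :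
    Function.Injective (Ψ ε) := by
  have hε0 : ε ≠ 0 := by
    rintro rfl
    exact hε ⟨0, by simp⟩
  have hnsq : ∀ e, nsq ε e ≠ 0 := by
    intro e; cases e <;> simp [nsq, hε0]
  rintro (b | t | ⟨b, e⟩) (b' | t' | ⟨b', e'⟩) h <;>
    simp only [Ψ, ConjClasses.mk_eq_mk_iff_isConj] at h
  · have h1 := sl2_conj_trace h
    rw [upper_trace, upper_trace] at h1
    have := sgn_injective h2 (mul_left_cancel₀ h2 h1)
    rw [this]
  · exfalso
    have := (sl2_conj_scalar_iff h).mp ((upper_scalar_iff _ _ _).mpr rfl)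
    exact companion2_not_scalar _ _ this
  · exfalso
    have := (sl2_conj_scalar_iff h).mp ((upper_scalar_iff _ _ _).mpr rfl)
    exact hnsq _ ((upper_scalar_iff _ _ _).mp this)
  · exfalso
    have := (sl2_conj_scalar_iff h).mpr ((upper_scalar_iff _ _ _).mpr rfl)
    exact companion2_not_scalar _ _ this
  · have h1 := sl2_conj_trace h
    simp only [compSL2_val, companion2_trace] at h1
    have : t = t' := Subtype.ext h1
    rw [this]
  · exfalso
    have h1 := sl2_conj_trace h
    rw [upper_trace] at h1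
    simp only [compSL2_val, companion2_trace] at h1
    cases b'
    · apply t.2.2
      rw [h1]; simp [sgn]
    · apply t.2.1
      rw [h1]; simp [sgn]
  · exfalso
    have := (sl2_conj_scalar_iff h).mpr ((upper_scalar_iff _ _ _).mpr rfl)
    exact hnsq _ ((upper_scalar_iff _ _ _).mp this)
  · exfalso
    have h1 := sl2_conj_trace h
    rw [upper_trace] at h1
    simp only [compSL2_val, companion2_trace] at h1
    cases b
    · apply t'.2.2
      rw [← h1]; simp [sgn]
    · apply t'.2.1
      rw [← h1]; simp [sgn]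
  · have h1 := sl2_conj_trace h
    rw [upper_trace, upper_trace] at h1
    have hb := sgn_injective h2 (mul_left_cancel₀ h2 h1)
    subst hb
    obtain ⟨x, hx⟩ := upper_conj _ (hnsq e) h
    cases e <;> cases e'
    · rfl
    · exfalso
      simp only [nsq, if_true, Bool.false_eq_true, if_false] at hx
      have hx0 : x ≠ 0 := by
        rintro rfl
        simp at hx
      apply hε
      refine ⟨x⁻¹, ?_⟩
      field_simp
      linear_combination -hx
    · exfalso
      simp only [nsq, if_true, Bool.false_eq_true, if_false] at hx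
      apply hε
      exact ⟨x, by rw [hx]; ring⟩
    · rfl

theorem sq_class [DecidableEq F] (ε : F) (hε : ¬ IsSquare ε) (ρ : F) (hρ : ρ ≠ 0) :
    ∃ e : Bool, ∃ z : F, z ^ 2 * ρ * nsq ε e = 1 := by
  by_cases hsq : IsSquare ρ
  · obtain ⟨w, hw⟩ := hsq
    have hw0 : w ≠ 0 := by
      rintro rfl
      apply hρ; simpa using hw
    refine ⟨true, w⁻¹, ?_⟩
    simp only [nsq, if_true, hw]
    field_simp
  · have h1 : quadraticChar F ρ = -1 := quadraticChar_neg_one_iff_not_isSquare.mpr hsq
    have h2 : quadraticChar F ε = -1 := quadraticChar_neg_one_iff_not_isSquare.mpr hε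
    have hε0 : ε ≠ 0 := by
      rintro rfl
      exact hε ⟨0, by simp⟩
    have h3 : quadraticChar F (ρ * ε) = 1 := by
      rw [map_mul, h1, h2]; norm_num
    obtain ⟨w, hw⟩ := (quadraticChar_one_iff_isSquare (mul_ne_zero hρ hε0)).mp h3
    have hw0 : w ≠ 0 := by
      rintro rfl
      apply mul_ne_zero hρ hε0; simpa using hw
    refine ⟨false, w⁻¹, ?_⟩
    simp only [nsq, Bool.false_eq_true, if_false]
    rw [mul_assoc, hw]
    field_simp

theorem Ψ_surjective (hodd : Fintype.card F % 2 = 1) (h2 : (2 : F) ≠ 0) (ε : F)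
    (hε : ¬ IsSquare ε) : Function.Surjective (Ψ ε) := by
  classical
  intro C
  obtain ⟨g, rfl⟩ := ConjClasses.exists_rep C
  by_cases hs : IsScalar2 g.1
  · obtain ⟨h01, h10, h00⟩ := hs
    have hdet := g.2
    rw [Matrix.det_fin_two, h01, h10, ← h00] at hdet
    have ha : (g.1 0 0 - 1) * (g.1 0 0 + 1) = 0 := by linear_combination hdet
    have hb : ∃ b : Bool, g.1 0 0 = sgn b := by
      rcases mul_eq_zero.mp ha with h | h
      · exact ⟨true, by simp only [sgn, if_true]; linear_combination h⟩
      · exact ⟨false, by simp only [sgn, Bool.false_eq_true, if_false]; linear_combination h⟩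
    obtain ⟨b, hb⟩ := hb
    refine ⟨Sum.inl b, ?_⟩
    simp only [Ψ]
    congr 1
    apply Subtype.ext
    rw [upperSL2_val, eta2 g.1, h01, h10, ← h00, hb]
  · by_cases ht : g.1.trace ≠ 2 ∧ g.1.trace ≠ -2
    · refine ⟨Sum.inr (Sum.inl ⟨g.1.trace, ht⟩), ?_⟩
      simp only [Ψ, ConjClasses.mk_eq_mk_iff_isConj]
      apply sl2_conj_comp_of_norm hs
      intro c _
      apply norm_universal hodd h2
      intro h4
      have : (g.1.trace - 2) * (g.1.trace + 2) = 0 := by linear_combination h4
      rcases mul_eq_zero.mp this with h | h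
      · exact ht.1 (by linear_combination h)
      · exact ht.2 (by linear_combination h)
    · have hb : ∃ b : Bool, g.1.trace = 2 * sgn b := by
        by_cases h : g.1.trace = 2
        · exact ⟨true, by simp [sgn, h]⟩
        · have : g.1.trace = -2 := by
            by_contra h'
            exact ht ⟨h, h'⟩
          exact ⟨false, by simp [sgn, this]⟩
      obtain ⟨b, hb⟩ := hb
      obtain ⟨P, hP, hAP⟩ := exists_conj_companion2 g.1 hs
      obtain ⟨e, z, hz⟩ := sq_class ε hε (-P.det) (neg_ne_zero.mpr hP)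
      refine ⟨Sum.inr (Sum.inr (b, e)), ?_⟩
      simp only [Ψ, ConjClasses.mk_eq_mk_iff_isConj]
      rw [g.2, hb] at hAP
      rw [sl2_isConj_iff]
      refine ⟨z • (P * !![1, 0; -sgn b, -nsq ε e]), ?_, ?_⟩
      · rw [Matrix.det_smul, Matrix.det_mul, Matrix.det_fin_two_of]
        simp only [Fintype.card_fin]
        linear_combination hz
      · rw [upperSL2_val, Matrix.smul_mul, Matrix.mul_smul, Matrix.mul_assoc,
          ← companion_upper _ _ (sgn_mul_self b), ← Matrix.mul_assoc, ← Matrix.mul_assoc, hAP]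

end main

/-- Over a finite field with q elements, q odd, the special linear group SL₂ has exactly q + 4 conjugacy classes. -/
theorem result {F : Type*} [Field F] [Fintype F] (hodd : Odd (Fintype.card F)) :
    Nat.card (ConjClasses (Matrix.SpecialLinearGroup (Fin 2) F)) = Fintype.card F + 4 := by
  classical
  have hodd' : Fintype.card F % 2 = 1 := Nat.odd_iff.mp hodd
  have hchar : ringChar F ≠ 2 := by
    intro h
    have := FiniteField.even_card_iff_char_two.mp h
    omega
  have h2 : (2 : F) ≠ 0 := Ring.two_ne_zero hchar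
  obtain ⟨ε, hε⟩ := FiniteField.exists_nonsquare hchar
  have hbij : Function.Bijective (Ψ ε) := ⟨Ψ_injective h2 ε hε, Ψ_surjective hodd' h2 ε hε⟩
  rw [← Nat.card_congr (Equiv.ofBijective _ hbij), Nat.card_eq_fintype_card]
  have h22 : (2 : F) ≠ -2 := by
    intro h
    apply h2
    have h4 : (2 : F) * 2 = 0 := by linear_combination h
    rcases mul_eq_zero.mp h4 with h | h <;> exact h
  have hcard : Fintype.card {t : F // t ≠ 2 ∧ t ≠ -2} = Fintype.card F - 2 := by
    have e : {t : F // t ≠ 2 ∧ t ≠ -2} ≃ {t : F // ¬ (t = 2 ∨ t = -2)} :=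
      Equiv.subtypeEquivRight (fun t => by simp [not_or])
    rw [Fintype.card_congr e, Fintype.card_subtype_compl]
    congr 1
    rw [Fintype.card_subtype]
    have : (Finset.univ.filter fun t : F => t = 2 ∨ t = -2) = {2, -2} := by
      ext t; simp
    rw [this, Finset.card_pair h22]
  simp only [Fintype.card_sum, Fintype.card_prod, Fintype.card_bool, hcard]
  have : 2 ≤ Fintype.card F := by
    have := Fintype.one_lt_card (α := F)
    omega
  omega

end Cfsg.Agent.S2325
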