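import Cfsg.Statements.S2299
import Cfsg.Agent.Lib.Helper39.SL2OddCount
import Cfsg.Agent.Lib.Helper39.SL2OddDeg
import Cfsg.Agent.Lib.Helper39.DegType

set_option autoImplicit false
open Cfsg

namespace Cfsg.Agent.S2299

/-- Over a finite field F with q elements, q odd, every irreducible complex character of SL₂ has degree 1, q, q + 1, q − 1, (q + 1)/2 or (q − 1)/2; and when q ≥ 5 (so that these six numbers are distinct) there are exactly one irreducible character of degree 1, one of degree q, (q − 3)/2 of degree q + 1, (q − 1)/2 of degree q − 1, two of degree (q + 1)/2 and two of degree (q − 1)/2. -/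
theorem result {F : Type*} [Field F] [Fintype F] (hodd : Odd (Fintype.card F)) :
    (∀ χ : Matrix.SpecialLinearGroup (Fin 2) F → ℂ, Cfsg.IsIrrCharacter (Matrix.SpecialLinearGroup (Fin 2) F) χ →
      χ 1 = 1 ∨ χ 1 = (Fintype.card F : ℂ) ∨ χ 1 = (Fintype.card F : ℂ) + 1 ∨ χ 1 = (Fintype.card F : ℂ) - 1 ∨
        χ 1 = (((Fintype.card F + 1) / 2 : ℕ) : ℂ) ∨ χ 1 = (((Fintype.card F - 1) / 2 : ℕ) : ℂ)) ∧
    (5 ≤ Fintype.card F →
      Nat.card {χ : Cfsg.IrrCharacter (Matrix.SpecialLinearGroup (Fin 2) F) // (χ : Matrix.SpecialLinearGroup (Fin 2) F → ℂ) 1 = 1} = 1 ∧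
      Nat.card {χ : Cfsg.IrrCharacter (Matrix.SpecialLinearGroup (Fin 2) F) // (χ : Matrix.SpecialLinearGroup (Fin 2) F → ℂ) 1 = (Fintype.card F : ℂ)} = 1 ∧
      Nat.card {χ : Cfsg.IrrCharacter (Matrix.SpecialLinearGroup (Fin 2) F) // (χ : Matrix.SpecialLinearGroup (Fin 2) F → ℂ) 1 = (Fintype.card F : ℂ) + 1} = (Fintype.card F - 3) / 2 ∧
      Nat.card {χ : Cfsg.IrrCharacter (Matrix.SpecialLinearGroup (Fin 2) F) // (χ : Matrix.SpecialLinearGroup (Fin 2) F → ℂ) 1 = (Fintype.card F : ℂ) - 1} = (Fintype.card F - 1) / 2 ∧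
      Nat.card {χ : Cfsg.IrrCharacter (Matrix.SpecialLinearGroup (Fin 2) F) // (χ : Matrix.SpecialLinearGroup (Fin 2) F → ℂ) 1 = (((Fintype.card F + 1) / 2 : ℕ) : ℂ)} = 2 ∧
      Nat.card {χ : Cfsg.IrrCharacter (Matrix.SpecialLinearGroup (Fin 2) F) // (χ : Matrix.SpecialLinearGroup (Fin 2) F → ℂ) 1 = (((Fintype.card F - 1) / 2 : ℕ) : ℂ)} = 2) := by
  classical
  obtain ⟨N, hN⟩ := hodd
  have hq : 2 ≤ Fintype.card F := Fintype.one_lt_card
  have hF : ringChar F ≠ 2 := by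
    intro h2
    have := FiniteField.even_card_iff_char_two.mp h2
    omega
  obtain ⟨ψ, hψ⟩ := Cfsg.Agent.Lib.Helper39.exists_primitive_addChar (F := F)
  obtain ⟨ε, hε'⟩ := FiniteField.exists_nonsquare hF
  have hε : quadraticChar F ε = -1 := quadraticChar_neg_one_iff_not_isSquare.mpr hε'
  obtain ⟨m, a, b, hd, -, ht, hT, hS, hP, hHp, hHm, hC11, hC10, hC01⟩ :=
    Cfsg.Agent.Lib.Helper39.sl2_odd_main N hN hψ ε hε
  have hh1 : (Fintype.card F + 1) / 2 = N + 1 := by omega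
  have hh2 : (Fintype.card F - 1) / 2 = N := by omega
  have hqm1 : (Fintype.card F : ℂ) - 1 = ((2 * N : ℕ) : ℂ) := by rw [hN]; push_cast; ring
  have hqp1 : (Fintype.card F : ℂ) + 1 = ((2 * N + 2 : ℕ) : ℂ) := by rw [hN]; push_cast; ring
  have hq0 : (Fintype.card F : ℂ) = ((2 * N + 1 : ℕ) : ℂ) := by rw [hN]
  have h1C : (1 : ℂ) = ((1 : ℕ) : ℂ) := by simp
  rw [hh1, hh2, hqm1, hqp1, hq0]
  have key : ∀ (χ : Cfsg.IrrCharacter (Matrix.SpecialLinearGroup (Fin 2) F)) (k : ℕ),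
      ((χ : Matrix.SpecialLinearGroup (Fin 2) F → ℂ) 1 = (k : ℂ)) ↔
        m χ + N * (a χ + b χ) = k := by
    intro χ k
    rw [hd χ]
    exact Nat.cast_inj
  constructor
  · intro χ hχ
    rw [h1C]
    have hk := key ⟨χ, hχ⟩
    change ∀ k : ℕ, χ 1 = (k : ℂ) ↔ _ at hk
    simp only [hk]
    rcases ht ⟨χ, hχ⟩ with ⟨h1, h2, h3⟩ | ⟨h1, h2, h3⟩ | ⟨h1, h2, h3⟩ | ⟨h1, h2, h3⟩ |
      ⟨h1, h2, h3⟩ | ⟨h1, h2, h3⟩ | ⟨h1, h2, h3⟩ | ⟨h1, h2, h3⟩ <;> rw [h1, h2, h3] <;> omega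
  · intro hq5
    have hN2 : 2 ≤ N := by omega
    have hiff := fun χ : Cfsg.IrrCharacter (Matrix.SpecialLinearGroup (Fin 2) F) =>
      Cfsg.Agent.Lib.Helper39.sl2_odd_deg_iff N hN2 (m χ) (a χ) (b χ) (ht χ)
    have cnt : ∀ (k : ℕ) (P : Cfsg.IrrCharacter (Matrix.SpecialLinearGroup (Fin 2) F) → Prop)
        [DecidablePred P],
        (∀ χ, m χ + N * (a χ + b χ) = k ↔ P χ) →
        (Nat.card {χ : Cfsg.IrrCharacter (Matrix.SpecialLinearGroup (Fin 2) F) //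
          (χ : Matrix.SpecialLinearGroup (Fin 2) F → ℂ) 1 = (k : ℂ)} : ℤ) =
          ∑ χ, (if P χ then (1 : ℤ) else 0) := by
      intro k P _ hP
      rw [← Cfsg.Agent.Lib.Helper39.natCard_subtype_eq_sum_indicator]
      congr 1
      exact Nat.card_congr (Equiv.subtypeEquivRight (fun χ => (key χ k).trans (hP χ)))
    have c1 := cnt 1 _ (fun χ => (hiff χ).1)
    have c2 := cnt (2 * N + 1) _ (fun χ => (hiff χ).2.1)
    have c3 := cnt (2 * N + 2) _ (fun χ => (hiff χ).2.2.1)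
    have c4 := cnt (2 * N) _ (fun χ => (hiff χ).2.2.2.1)
    have c5 := cnt (N + 1) _ (fun χ => (hiff χ).2.2.2.2.1)
    have c6 := cnt N _ (fun χ => (hiff χ).2.2.2.2.2)
    rw [Cfsg.Agent.Lib.Helper39.sum_ite_or _ _ (fun χ h => by
      obtain ⟨⟨-, h1, -⟩, ⟨-, h2, -⟩⟩ := h; omega), hHp, hHm] at c5
    rw [Cfsg.Agent.Lib.Helper39.sum_ite_or _ _ (fun χ h => by
      obtain ⟨⟨-, h1, -⟩, ⟨-, h2, -⟩⟩ := h; omega), hC10, hC01] at c6
    rw [hT] at c1
    simp only [Nat.cast_one] at c1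
    rw [hS] at c2
    rw [hP] at c3
    rw [hC11] at c4
    have hq3 : (Fintype.card F - 3) / 2 = N - 1 := by omega
    rw [hq3]
    refine ⟨by exact_mod_cast c1, by exact_mod_cast c2, ?_, by exact_mod_cast c4,
      by exact_mod_cast c5, by exact_mod_cast c6⟩
    have : ((N - 1 : ℕ) : ℤ) = (N : ℤ) - 1 := by
      rw [Nat.cast_sub (by omega)]; simp
    rw [← this] at c3
    exact_mod_cast c3

end Cfsg.Agent.S2299
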