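import Cfsg.Statements.S2331
import Cfsg.Agent.Lib.Helper39.SL2Conj

set_option autoImplicit false
open Cfsg

namespace Cfsg.Agent.S2331

open Matrix Cfsg.Agent.Lib.Helper39

variable {F : Type*} [Field F]

/-- the parametrisation of classes -/
def Ψ : Option F → ConjClasses (Matrix.SpecialLinearGroup (Fin 2) F)
  | none => ConjClasses.mk 1
  | some t => ConjClasses.mk (compSL2 t)

theorem one_scalar : IsScalar2 ((1 : Matrix.SpecialLinearGroup (Fin 2) F).1) := by
  simp [IsScalar2]

theorem Ψ_injective : Function.Injective (Ψ (F := F)) := by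
  rintro (_ | t) (_ | t') h
  · rfl
  · exfalso
    simp only [Ψ, ConjClasses.mk_eq_mk_iff_isConj] at h
    have := (sl2_conj_scalar_iff h).mp one_scalar
    exact companion2_not_scalar _ _ this
  · exfalso
    simp only [Ψ, ConjClasses.mk_eq_mk_iff_isConj] at h
    have := (sl2_conj_scalar_iff h).mpr one_scalar
    exact companion2_not_scalar _ _ this
  · simp only [Ψ, ConjClasses.mk_eq_mk_iff_isConj] at h
    have h1 := sl2_conj_trace h
    simp only [compSL2_val, companion2_trace] at h1
    rw [h1]

theorem Ψ_surjective [Fintype F] [CharP F 2] : Function.Surjective (Ψ (F := F)) := by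
  intro C
  obtain ⟨g, rfl⟩ := ConjClasses.exists_rep C
  have hchar : ringChar F = 2 := ringChar.eq F 2
  by_cases hs : IsScalar2 g.1
  · refine ⟨none, ?_⟩
    simp only [Ψ]
    congr 1
    obtain ⟨h01, h10, h00⟩ := hs
    have hdet := g.2
    rw [Matrix.det_fin_two, h01, h10, ← h00] at hdet
    have ha : g.1 0 0 = 1 := by
      have h2 : (g.1 0 0 - 1) ^ 2 = 0 := by
        have h3 : (2 : F) = 0 := CharTwo.two_eq_zero
        linear_combination hdet + (1 - g.1 0 0) * h3
      have := pow_eq_zero_iff (two_ne_zero) |>.mp h2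
      linear_combination this
    apply Subtype.ext
    rw [eta2 g.1, h01, h10, ← h00, ha]
    ext i j; fin_cases i <;> fin_cases j <;> simp
  · refine ⟨some g.1.trace, ?_⟩
    simp only [Ψ, ConjClasses.mk_eq_mk_iff_isConj]
    apply sl2_conj_comp_of_norm hs
    intro c _
    obtain ⟨r, hr⟩ := FiniteField.isSquare_of_char_two hchar c
    exact ⟨r, 0, by rw [hr]; ring⟩

/-- Over a finite field with q elements, q even, the special linear group SL₂ has exactly q + 1 conjugacy classes. -/
theorem result {F : Type*} [Field F] [Fintype F] [CharP F 2] :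
    Nat.card (ConjClasses (Matrix.SpecialLinearGroup (Fin 2) F)) = Fintype.card F + 1 := by
  classical
  have hbij : Function.Bijective (Ψ (F := F)) := ⟨Ψ_injective, Ψ_surjective⟩
  rw [← Nat.card_congr (Equiv.ofBijective _ hbij), Nat.card_eq_fintype_card, Fintype.card_option]

end Cfsg.Agent.S2331
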