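import Cfsg.Statements.S2300
import Cfsg.Agent.Lib.Helper39.SL2EvenCount

set_option autoImplicit false
open Cfsg

namespace Cfsg.Agent.S2300

open Cfsg.Agent.Lib.Helper39

theorem natCard_subtype_eq_sum {ι : Type*} [Fintype ι] (P : ι → Prop) [DecidablePred P] :
    (Nat.card {i : ι // P i} : ℤ) = ∑ i, (if P i then (1 : ℤ) else 0) := by
  rw [Nat.card_eq_fintype_card, Fintype.card_subtype, Finset.sum_boole]

/-- Over a finite field F with q elements, q even, every irreducible complex character of SL₂ has degree 1, q − 1, q or q + 1; and when q ≥ 4 (so that these four numbers are distinct) there are exactly one irreducible character of degree 1, one of degree q, (q − 2)/2 of degree q + 1 and q/2 of degree q − 1. -/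
theorem result {F : Type*} [Field F] [Fintype F] [CharP F 2] :
    (∀ χ : Matrix.SpecialLinearGroup (Fin 2) F → ℂ, Cfsg.IsIrrCharacter (Matrix.SpecialLinearGroup (Fin 2) F) χ →
      χ 1 = 1 ∨ χ 1 = (Fintype.card F : ℂ) - 1 ∨ χ 1 = (Fintype.card F : ℂ) ∨ χ 1 = (Fintype.card F : ℂ) + 1) ∧
    (4 ≤ Fintype.card F →
      Nat.card {χ : Cfsg.IrrCharacter (Matrix.SpecialLinearGroup (Fin 2) F) // (χ : Matrix.SpecialLinearGroup (Fin 2) F → ℂ) 1 = 1} = 1 ∧
      Nat.card {χ : Cfsg.IrrCharacter (Matrix.SpecialLinearGroup (Fin 2) F) // (χ : Matrix.SpecialLinearGroup (Fin 2) F → ℂ) 1 = (Fintype.card F : ℂ)} = 1 ∧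
      Nat.card {χ : Cfsg.IrrCharacter (Matrix.SpecialLinearGroup (Fin 2) F) // (χ : Matrix.SpecialLinearGroup (Fin 2) F → ℂ) 1 = (Fintype.card F : ℂ) + 1} = (Fintype.card F - 2) / 2 ∧
      Nat.card {χ : Cfsg.IrrCharacter (Matrix.SpecialLinearGroup (Fin 2) F) // (χ : Matrix.SpecialLinearGroup (Fin 2) F → ℂ) 1 = (Fintype.card F : ℂ) - 1} = Fintype.card F / 2) := by
  classical
  obtain ⟨m, a, hd, ht, hX, hY, hZ, hC⟩ := sl2_even_main (F := F)
  have hq : 2 ≤ Fintype.card F := Fintype.one_lt_card
  have hq1 : ((Fintype.card F - 1 : ℕ) : ℂ) = (Fintype.card F : ℂ) - 1 := by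
    rw [Nat.cast_sub (by omega)]; simp
  have hdeg : ∀ χ : Cfsg.IrrCharacter (Matrix.SpecialLinearGroup (Fin 2) F),
      ((m χ = 0 ∧ a χ = 1) → (χ : Matrix.SpecialLinearGroup (Fin 2) F → ℂ) 1 = (Fintype.card F : ℂ) - 1) ∧
      ((m χ = 1 ∧ a χ = 0) → (χ : Matrix.SpecialLinearGroup (Fin 2) F → ℂ) 1 = 1) ∧
      ((m χ = 1 ∧ a χ = 1) → (χ : Matrix.SpecialLinearGroup (Fin 2) F → ℂ) 1 = (Fintype.card F : ℂ)) ∧
      ((m χ = 2 ∧ a χ = 1) → (χ : Matrix.SpecialLinearGroup (Fin 2) F → ℂ) 1 = (Fintype.card F : ℂ) + 1) := by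
    intro χ
    refine ⟨?_, ?_, ?_, ?_⟩ <;> rintro ⟨h1, h2⟩ <;> rw [hd χ, h1, h2] <;> push_cast [hq1] <;> ring
  constructor
  · intro χ hχ
    rcases ht ⟨χ, hχ⟩ with h | h | h | h
    · right; left; exact (hdeg ⟨χ, hχ⟩).1 h
    · left; exact (hdeg ⟨χ, hχ⟩).2.1 h
    · right; right; left; exact (hdeg ⟨χ, hχ⟩).2.2.1 h
    · right; right; right; exact (hdeg ⟨χ, hχ⟩).2.2.2 h
  · intro hq4
    have hqC : (4 : ℝ) ≤ (Fintype.card F : ℝ) := by exact_mod_cast hq4
    have hne : ∀ (x y : ℝ), x ≠ y → ((x : ℂ) ≠ (y : ℂ)) := fun x y h => by exact_mod_cast h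
    -- the four degrees are distinct
    have e1 : ∀ χ : Cfsg.IrrCharacter (Matrix.SpecialLinearGroup (Fin 2) F),
        ((χ : Matrix.SpecialLinearGroup (Fin 2) F → ℂ) 1 = 1) ↔ (m χ = 1 ∧ a χ = 0) := by
      intro χ
      constructor
      · intro h
        rcases ht χ with h' | h' | h' | h'
        · exfalso
          have := (hdeg χ).1 h'
          rw [h] at this
          have h2 : ((1 : ℝ) : ℂ) = (((Fintype.card F : ℝ) - 1 : ℝ) : ℂ) := by push_cast; exact this
          have h3 : (1 : ℝ) = (Fintype.card F : ℝ) - 1 := by exact_mod_cast h2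
          linarith
        · exact h'
        · exfalso
          have := (hdeg χ).2.2.1 h'
          rw [h] at this
          have h2 : ((1 : ℝ) : ℂ) = (((Fintype.card F : ℝ) : ℝ) : ℂ) := by push_cast; exact this
          have h3 : (1 : ℝ) = (Fintype.card F : ℝ) := by exact_mod_cast h2
          linarith
        · exfalso
          have := (hdeg χ).2.2.2 h'
          rw [h] at this
          have h2 : ((1 : ℝ) : ℂ) = (((Fintype.card F : ℝ) + 1 : ℝ) : ℂ) := by push_cast; exact this
          have h3 : (1 : ℝ) = (Fintype.card F : ℝ) + 1 := by exact_mod_cast h2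
          linarith
      · exact (hdeg χ).2.1
    have eq : ∀ χ : Cfsg.IrrCharacter (Matrix.SpecialLinearGroup (Fin 2) F),
        ((χ : Matrix.SpecialLinearGroup (Fin 2) F → ℂ) 1 = (Fintype.card F : ℂ)) ↔ (m χ = 1 ∧ a χ = 1) := by
      intro χ
      constructor
      · intro h
        rcases ht χ with h' | h' | h' | h'
        · exfalso
          have := (hdeg χ).1 h'
          rw [h] at this
          have h2 : (((Fintype.card F : ℝ) : ℝ) : ℂ) = (((Fintype.card F : ℝ) - 1 : ℝ) : ℂ) := by push_cast; exact this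
          have h3 : (Fintype.card F : ℝ) = (Fintype.card F : ℝ) - 1 := by exact_mod_cast h2
          linarith
        · exfalso
          have := (hdeg χ).2.1 h'
          rw [h] at this
          have h2 : (((Fintype.card F : ℝ) : ℝ) : ℂ) = ((1 : ℝ) : ℂ) := by push_cast; exact this
          have h3 : (Fintype.card F : ℝ) = 1 := by exact_mod_cast h2
          linarith
        · exact h'
        · exfalso
          have := (hdeg χ).2.2.2 h'
          rw [h] at this
          have h2 : (((Fintype.card F : ℝ) : ℝ) : ℂ) = (((Fintype.card F : ℝ) + 1 : ℝ) : ℂ) := by push_cast; exact this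
          have h3 : (Fintype.card F : ℝ) = (Fintype.card F : ℝ) + 1 := by exact_mod_cast h2
          linarith
      · exact (hdeg χ).2.2.1
    have eq1 : ∀ χ : Cfsg.IrrCharacter (Matrix.SpecialLinearGroup (Fin 2) F),
        ((χ : Matrix.SpecialLinearGroup (Fin 2) F → ℂ) 1 = (Fintype.card F : ℂ) + 1) ↔ (m χ = 2 ∧ a χ = 1) := by
      intro χ
      constructor
      · intro h
        rcases ht χ with h' | h' | h' | h'
        · exfalso
          have := (hdeg χ).1 h'
          rw [h] at this
          have h2 : (((Fintype.card F : ℝ) + 1 : ℝ) : ℂ) = (((Fintype.card F : ℝ) - 1 : ℝ) : ℂ) := by push_cast; exact this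
          have h3 : (Fintype.card F : ℝ) + 1 = (Fintype.card F : ℝ) - 1 := by exact_mod_cast h2
          linarith
        · exfalso
          have := (hdeg χ).2.1 h'
          rw [h] at this
          have h2 : (((Fintype.card F : ℝ) + 1 : ℝ) : ℂ) = ((1 : ℝ) : ℂ) := by push_cast; exact this
          have h3 : (Fintype.card F : ℝ) + 1 = 1 := by exact_mod_cast h2
          linarith
        · exfalso
          have := (hdeg χ).2.2.1 h'
          rw [h] at this
          have h2 : (((Fintype.card F : ℝ) + 1 : ℝ) : ℂ) = (((Fintype.card F : ℝ) : ℝ) : ℂ) := by push_cast; exact this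
          have h3 : (Fintype.card F : ℝ) + 1 = (Fintype.card F : ℝ) := by exact_mod_cast h2
          linarith
        · exact h'
      · exact (hdeg χ).2.2.2
    have eqm1 : ∀ χ : Cfsg.IrrCharacter (Matrix.SpecialLinearGroup (Fin 2) F),
        ((χ : Matrix.SpecialLinearGroup (Fin 2) F → ℂ) 1 = (Fintype.card F : ℂ) - 1) ↔ (m χ = 0 ∧ a χ = 1) := by
      intro χ
      constructor
      · intro h
        rcases ht χ with h' | h' | h' | h'
        · exact h'
        · exfalso
          have := (hdeg χ).2.1 h'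
          rw [h] at this
          have h2 : (((Fintype.card F : ℝ) - 1 : ℝ) : ℂ) = ((1 : ℝ) : ℂ) := by push_cast; exact this
          have h3 : (Fintype.card F : ℝ) - 1 = 1 := by exact_mod_cast h2
          linarith
        · exfalso
          have := (hdeg χ).2.2.1 h'
          rw [h] at this
          have h2 : (((Fintype.card F : ℝ) - 1 : ℝ) : ℂ) = (((Fintype.card F : ℝ) : ℝ) : ℂ) := by push_cast; exact this
          have h3 : (Fintype.card F : ℝ) - 1 = (Fintype.card F : ℝ) := by exact_mod_cast h2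
          linarith
        · exfalso
          have := (hdeg χ).2.2.2 h'
          rw [h] at this
          have h2 : (((Fintype.card F : ℝ) - 1 : ℝ) : ℂ) = (((Fintype.card F : ℝ) + 1 : ℝ) : ℂ) := by push_cast; exact this
          have h3 : (Fintype.card F : ℝ) - 1 = (Fintype.card F : ℝ) + 1 := by exact_mod_cast h2
          linarith
      · exact (hdeg χ).1
    have s1 := natCard_subtype_eq_sum (fun χ : Cfsg.IrrCharacter (Matrix.SpecialLinearGroup (Fin 2) F) =>
      (χ : Matrix.SpecialLinearGroup (Fin 2) F → ℂ) 1 = 1)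
    have sq := natCard_subtype_eq_sum (fun χ : Cfsg.IrrCharacter (Matrix.SpecialLinearGroup (Fin 2) F) =>
      (χ : Matrix.SpecialLinearGroup (Fin 2) F → ℂ) 1 = (Fintype.card F : ℂ))
    have sq1 := natCard_subtype_eq_sum (fun χ : Cfsg.IrrCharacter (Matrix.SpecialLinearGroup (Fin 2) F) =>
      (χ : Matrix.SpecialLinearGroup (Fin 2) F → ℂ) 1 = (Fintype.card F : ℂ) + 1)
    have sqm1 := natCard_subtype_eq_sum (fun χ : Cfsg.IrrCharacter (Matrix.SpecialLinearGroup (Fin 2) F) =>
      (χ : Matrix.SpecialLinearGroup (Fin 2) F → ℂ) 1 = (Fintype.card F : ℂ) - 1)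
    rw [Finset.sum_congr rfl (fun χ _ => if_congr (e1 χ) rfl rfl), hX] at s1
    rw [Finset.sum_congr rfl (fun χ _ => if_congr (eq χ) rfl rfl), hY] at sq
    rw [Finset.sum_congr rfl (fun χ _ => if_congr (eq1 χ) rfl rfl)] at sq1
    rw [Finset.sum_congr rfl (fun χ _ => if_congr (eqm1 χ) rfl rfl)] at sqm1
    rw [← sq1] at hZ
    rw [← sqm1] at hC
    refine ⟨by exact_mod_cast s1, by exact_mod_cast sq, ?_, ?_⟩
    · omega
    · omega

end Cfsg.Agent.S2300
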