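import Cfsg.Statements.S2330
import Cfsg.Agent.Lib.Helper39.Mat2

set_option autoImplicit false
open Cfsg

namespace Cfsg.Agent.S2330

open Matrix Cfsg.Agent.Lib.Helper39

variable {F : Type*} [Field F]

/-- scalar element of GL₂ -/
noncomputable def scal (a : Fˣ) : Matrix.GeneralLinearGroup (Fin 2) F :=
  Matrix.GeneralLinearGroup.mkOfDetNeZero !![(a : F), 0; 0, (a : F)] (by simp [Matrix.det_fin_two])

/-- companion element of GL₂ -/
noncomputable def comp (t : F) (d : Fˣ) : Matrix.GeneralLinearGroup (Fin 2) F :=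
  Matrix.GeneralLinearGroup.mkOfDetNeZero (companion2 t (d : F))
    (by rw [companion2_det]; exact d.ne_zero)

theorem scal_val (a : Fˣ) : ((scal a : Matrix.GeneralLinearGroup (Fin 2) F) : Matrix (Fin 2) (Fin 2) F)
    = !![(a : F), 0; 0, (a : F)] := rfl

theorem comp_val (t : F) (d : Fˣ) :
    ((comp t d : Matrix.GeneralLinearGroup (Fin 2) F) : Matrix (Fin 2) (Fin 2) F)
    = companion2 t (d : F) := rfl

theorem scal_central (a : Fˣ) (c : Matrix.GeneralLinearGroup (Fin 2) F) :
    c * scal a * c⁻¹ = scal a := by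
  have : c * scal a = scal a * c := by
    apply Units.ext
    simp only [Units.val_mul, scal_val]
    rw [eta2 (c : Matrix (Fin 2) (Fin 2) F)]
    ext i j; fin_cases i <;> fin_cases j <;> simp [Matrix.mul_apply, Fin.sum_univ_two, mul_comm]
  rw [this, mul_inv_cancel_right]

/-- the parametrisation of classes -/
noncomputable def Ψ : Fˣ ⊕ (F × Fˣ) → ConjClasses (Matrix.GeneralLinearGroup (Fin 2) F)
  | Sum.inl a => ConjClasses.mk (scal a)
  | Sum.inr (t, d) => ConjClasses.mk (comp t d)

theorem conj_trace {g h : Matrix.GeneralLinearGroup (Fin 2) F} (hc : IsConj g h) :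
    (g : Matrix (Fin 2) (Fin 2) F).trace = (h : Matrix (Fin 2) (Fin 2) F).trace := by
  obtain ⟨c, rfl⟩ := isConj_iff.mp hc
  simp only [Units.val_mul]
  rw [Matrix.trace_units_conj]

theorem conj_det {g h : Matrix.GeneralLinearGroup (Fin 2) F} (hc : IsConj g h) :
    (g : Matrix (Fin 2) (Fin 2) F).det = (h : Matrix (Fin 2) (Fin 2) F).det := by
  obtain ⟨c, rfl⟩ := isConj_iff.mp hc
  simp only [Units.val_mul]
  rw [Matrix.det_units_conj]

theorem Ψ_injective : Function.Injective (Ψ (F := F)) := by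
  rintro (a | ⟨t, d⟩) (a' | ⟨t', d'⟩) h
  · simp only [Ψ, ConjClasses.mk_eq_mk_iff_isConj] at h
    obtain ⟨c, hc⟩ := isConj_iff.mp h
    rw [scal_central] at hc
    have := congrArg (fun g : Matrix.GeneralLinearGroup (Fin 2) F =>
      (g : Matrix (Fin 2) (Fin 2) F) 0 0) hc
    simp only [scal_val] at this
    congr 1
    exact Units.ext (by simpa using this)
  · exfalso
    simp only [Ψ, ConjClasses.mk_eq_mk_iff_isConj] at h
    obtain ⟨c, hc⟩ := isConj_iff.mp h
    rw [scal_central] at hc
    have := congrArg (fun g : Matrix.GeneralLinearGroup (Fin 2) F =>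
      (g : Matrix (Fin 2) (Fin 2) F) 1 0) hc
    simp [scal_val, comp_val, companion2] at this
  · exfalso
    simp only [Ψ, ConjClasses.mk_eq_mk_iff_isConj] at h
    obtain ⟨c, hc⟩ := isConj_iff.mp h.symm
    rw [scal_central] at hc
    have := congrArg (fun g : Matrix.GeneralLinearGroup (Fin 2) F =>
      (g : Matrix (Fin 2) (Fin 2) F) 1 0) hc
    simp [scal_val, comp_val, companion2] at this
  · simp only [Ψ, ConjClasses.mk_eq_mk_iff_isConj] at h
    have h1 := conj_trace h
    have h2 := conj_det h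
    simp only [comp_val, companion2_trace, companion2_det] at h1 h2
    have h3 : d = d' := Units.ext h2
    rw [h1, h3]

theorem Ψ_surjective : Function.Surjective (Ψ (F := F)) := by
  intro C
  obtain ⟨g, rfl⟩ := ConjClasses.exists_rep C
  by_cases hs : IsScalar2 (g : Matrix (Fin 2) (Fin 2) F)
  · obtain ⟨h01, h10, h00⟩ := hs
    have hdet := Matrix.GeneralLinearGroup.det_ne_zero g
    rw [Matrix.det_fin_two, h01, h10, ← h00] at hdet
    have ha : (g : Matrix (Fin 2) (Fin 2) F) 0 0 ≠ 0 := by
      intro h0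
      apply hdet
      rw [h0]; ring
    refine ⟨Sum.inl (Units.mk0 _ ha), ?_⟩
    simp only [Ψ]
    congr 1
    apply Units.ext
    rw [scal_val]
    ext i j; fin_cases i <;> fin_cases j <;> simp [h01, h10, ← h00]
  · obtain ⟨P, hP, hAP⟩ := exists_conj_companion2 _ hs
    refine ⟨Sum.inr ((g : Matrix (Fin 2) (Fin 2) F).trace,
      Units.mk0 _ (Matrix.GeneralLinearGroup.det_ne_zero g)), ?_⟩
    simp only [Ψ, ConjClasses.mk_eq_mk_iff_isConj]
    rw [isConj_iff]
    refine ⟨Matrix.GeneralLinearGroup.mkOfDetNeZero P hP, ?_⟩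
    rw [mul_inv_eq_iff_eq_mul]
    apply Units.ext
    simp only [Units.val_mul, comp_val, Units.val_mk0]
    exact hAP.symm

/-- Over a finite field with q elements, the general linear group GL₂ has exactly q² − 1 conjugacy classes. -/
theorem result {F : Type*} [Field F] [Fintype F] :
    Nat.card (ConjClasses (Matrix.GeneralLinearGroup (Fin 2) F)) = Fintype.card F ^ 2 - 1 := by
  classical
  have hbij : Function.Bijective (Ψ (F := F)) := ⟨Ψ_injective, Ψ_surjective⟩
  rw [← Nat.card_congr (Equiv.ofBijective _ hbij), Nat.card_sum, Nat.card_prod,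
    Nat.card_eq_fintype_card, Nat.card_eq_fintype_card, Fintype.card_units]
  have hq : 1 ≤ Fintype.card F := Fintype.card_pos
  obtain ⟨k, hk⟩ := Nat.exists_eq_add_of_le hq
  rw [hk]
  have h1 : 1 + k - 1 = k := by omega
  have h2 : (1 + k) ^ 2 - 1 = k + (1 + k) * k := by
    have : (1 + k) ^ 2 = k + (1 + k) * k + 1 := by ring
    omega
  rw [h1, h2]

end Cfsg.Agent.S2330
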