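import Cfsg.Statements.S2352

set_option autoImplicit false
open Cfsg

namespace Cfsg.Agent.S2352

/-- Free groups are residually finite: a non-trivial element acts non-trivially in some
permutation representation on a finite set (the set of suffixes of a word for it). -/
theorem exists_perm_rep {α : Type*} [DecidableEq α] (w : FreeGroup α) (hw : w ≠ 1) :
    ∃ (S : Finset (FreeGroup α)) (f : α → Equiv.Perm S), FreeGroup.lift f w ≠ 1 := by
  classical
  obtain ⟨L, rfl⟩ : ∃ L, FreeGroup.mk L = w := Quot.exists_rep w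
  let S : Finset (FreeGroup α) := (L.tails.map FreeGroup.mk).toFinset
  have hS : ∀ t : List (α × Bool), t <:+ L → FreeGroup.mk t ∈ S := by
    intro t ht
    simp only [S, List.mem_toFinset, List.mem_map, List.mem_tails]
    exact ⟨t, ht, rfl⟩
  let e : ∀ a : α, {x : S // FreeGroup.of a * x.1 ∈ S} ≃ {y : S // (FreeGroup.of a)⁻¹ * y.1 ∈ S} :=
    fun a =>
    { toFun := fun x => ⟨⟨FreeGroup.of a * x.1.1, x.2⟩, by simp⟩
      invFun := fun y => ⟨⟨(FreeGroup.of a)⁻¹ * y.1.1, y.2⟩, by simp⟩
      left_inv := fun x => by ext; simp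
      right_inv := fun y => by ext; simp }
  let f : α → Equiv.Perm S := fun a => (e a).extendSubtype
  have hf1 : ∀ (a : α) (x : S), FreeGroup.of a * x.1 ∈ S → (f a x).1 = FreeGroup.of a * x.1 := by
    intro a x hx
    have := (e a).extendSubtype_apply_of_mem x hx
    simp only [f]
    rw [this]
    rfl
  have hf2 : ∀ (a : α) (y : S), (FreeGroup.of a)⁻¹ * y.1 ∈ S →
      ((f a)⁻¹ y).1 = (FreeGroup.of a)⁻¹ * y.1 := by
    intro a y hy
    have h3 : (f a)⁻¹ y = ⟨(FreeGroup.of a)⁻¹ * y.1, hy⟩ := by
      rw [Equiv.Perm.inv_eq_iff_eq]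
      ext
      rw [hf1 a ⟨(FreeGroup.of a)⁻¹ * y.1, hy⟩ (by simp)]
      simp
    rw [h3]
  refine ⟨S, f, ?_⟩
  have h1S : (1 : FreeGroup α) ∈ S := by
    simpa [FreeGroup.one_eq_mk] using hS [] (List.nil_suffix)
  have key : ∀ t : List (α × Bool), t <:+ L →
      (FreeGroup.lift f (FreeGroup.mk t) ⟨1, h1S⟩).1 = FreeGroup.mk t := by
    intro t
    induction t with
    | nil =>
      intro ht
      simp [← FreeGroup.one_eq_mk]
    | cons s t ih =>
      intro ht
      have ht' : t <:+ L := (List.suffix_cons s t).trans ht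
      have hmk : FreeGroup.mk (s :: t) = FreeGroup.mk [s] * FreeGroup.mk t := by
        rw [FreeGroup.mul_mk]; rfl
      have hmem := hS _ ht
      rw [hmk] at hmem ⊢
      rw [map_mul, Equiv.Perm.mul_apply]
      have ih' := ih ht'
      set y := FreeGroup.lift f (FreeGroup.mk t) ⟨1, h1S⟩ with hy
      rw [← ih'] at hmem ⊢
      obtain ⟨a, b⟩ := s
      cases b
      · have h1 : FreeGroup.mk [(a, false)] = (FreeGroup.of a)⁻¹ := by
          simp [FreeGroup.of, FreeGroup.inv_mk, FreeGroup.invRev]
        rw [h1] at hmem ⊢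
        rw [map_inv, FreeGroup.lift_apply_of, hf2 a _ hmem]
      · have h1 : FreeGroup.mk [(a, true)] = FreeGroup.of a := rfl
        rw [h1] at hmem ⊢
        rw [FreeGroup.lift_apply_of, hf1 a _ hmem]
  intro h
  have := key L (List.suffix_refl L)
  rw [h] at this
  apply hw
  simpa using this.symm

/-- The symmetric group on a finite set `S` embeds into the alternating group of any degree
`n ≥ 2 |S|` (let it act on two copies of `S`). -/
theorem exists_embed_alt (S : Type*) [Fintype S] [DecidableEq S] (n : ℕ)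
    (hn : 2 * Fintype.card S ≤ n) :
    ∃ φ : Equiv.Perm S →* alternatingGroup (Fin n), Function.Injective φ := by
  classical
  obtain ⟨k, rfl⟩ := Nat.exists_eq_add_of_le hn
  have hcard : Fintype.card ((S ⊕ S) ⊕ Fin k) = Fintype.card (Fin (2 * Fintype.card S + k)) := by
    simp [two_mul]
  let e : (S ⊕ S) ⊕ Fin k ≃ Fin (2 * Fintype.card S + k) := Fintype.equivOfCardEq hcard
  let φ₀ : Equiv.Perm S →* Equiv.Perm (Fin (2 * Fintype.card S + k)) :=
    { toFun := fun σ => e.permCongr (Equiv.sumCongr (Equiv.sumCongr σ σ) (Equiv.refl _))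
      map_one' := by
        ext x
        simp [Equiv.Perm.one_def]
      map_mul' := by
        intro σ τ
        ext x
        simp only [Equiv.permCongr_apply, Equiv.Perm.mul_apply, Equiv.symm_apply_apply]
        rcases e.symm x with (y | y) | y <;> simp }
  have hsign : ∀ σ, φ₀ σ ∈ alternatingGroup (Fin (2 * Fintype.card S + k)) := by
    intro σ
    rw [Equiv.Perm.mem_alternatingGroup]
    change Equiv.Perm.sign (e.permCongr _) = 1
    rw [Equiv.Perm.sign_permCongr, Equiv.Perm.sign_sumCongr, Equiv.Perm.sign_sumCongr]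
    simp [Equiv.Perm.sign_refl]
  refine ⟨φ₀.codRestrict _ hsign, ?_⟩
  intro σ τ h
  have h' : φ₀ σ = φ₀ τ := congrArg Subtype.val h
  ext x
  have := congrArg (fun p : Equiv.Perm (Fin (2 * Fintype.card S + k)) =>
    e.symm (p (e (Sum.inl (Sum.inl x))))) h'
  simpa [φ₀, Equiv.permCongr_apply] using this

/-- A non-trivial law holds in only finitely many alternating groups: for every non-trivial element w of the free group on countably many generators there is N such that for all n ≥ N some substitution of elements of the alternating group of degree n into w is not the identity. -/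
theorem result (w : FreeGroup ℕ) (hw : w ≠ 1) :
    ∃ N : ℕ, ∀ n : ℕ, N ≤ n → ∃ f : ℕ → alternatingGroup (Fin n), FreeGroup.lift f w ≠ 1 := by
  classical
  obtain ⟨S, f, hf⟩ := exists_perm_rep w hw
  refine ⟨2 * Fintype.card S, fun n hn => ?_⟩
  obtain ⟨φ, hφ⟩ := exists_embed_alt S n hn
  refine ⟨fun i => φ (f i), ?_⟩
  have hcomp : FreeGroup.lift (fun i => φ (f i)) = φ.comp (FreeGroup.lift f) := by
    ext i
    simp
  rw [hcomp, MonoidHom.comp_apply]
  intro h
  apply hf
  apply hφ
  rw [h, map_one]

end Cfsg.Agent.S2352
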