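import Cfsg.Statements.S2353

set_option autoImplicit false
open Cfsg

namespace Cfsg.Agent.S2353

open Polynomial Matrix

/-! ## Letters as matrices over `R[X]` -/

/-- positive letter matrix `U(X^n) L(X^n)` -/
noncomputable def Apos (R : Type*) [CommRing R] (n : ℕ) : Matrix (Fin 2) (Fin 2) R[X] :=
  !![1 + X ^ n * X ^ n, X ^ n; X ^ n, 1]

/-- its inverse -/
noncomputable def Aneg (R : Type*) [CommRing R] (n : ℕ) : Matrix (Fin 2) (Fin 2) R[X] :=
  !![1, -X ^ n; -X ^ n, 1 + X ^ n * X ^ n]

section field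

variable {F : Type*} [Field F]

/-- first coordinate dominates by exactly `n` -/
def Dp (n : ℕ) (v : Fin 2 → F[X]) : Prop := v 1 ≠ 0 ∧ (v 0).natDegree = (v 1).natDegree + n

/-- second coordinate dominates by exactly `n` -/
def Dm (n : ℕ) (v : Fin 2 → F[X]) : Prop := v 0 ≠ 0 ∧ (v 1).natDegree = (v 0).natDegree + n

theorem Apos_mulVec (n : ℕ) (v : Fin 2 → F[X]) :
    Apos F n *ᵥ v = ![v 0 + X ^ n * (v 1 + X ^ n * v 0), v 1 + X ^ n * v 0] := by
  funext i; fin_cases i <;> simp [Apos, Matrix.mulVec, dotProduct, Fin.sum_univ_two] <;> ring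

theorem Aneg_mulVec (n : ℕ) (v : Fin 2 → F[X]) :
    Aneg F n *ᵥ v = ![v 0 - X ^ n * v 1, v 1 - X ^ n * (v 0 - X ^ n * v 1)] := by
  funext i; fin_cases i <;> simp [Aneg, Matrix.mulVec, dotProduct, Fin.sum_univ_two] <;> ring

theorem ne_zero_of_natDegree_pos {p : F[X]} (h : 0 < p.natDegree) : p ≠ 0 := by
  rintro rfl; simp at h

/-- key degree lemma: if `x ≠ 0`, `n ≥ 1` and `deg y ≠ deg x + n`, then `y' = y + X^n x` is non-zero
and `x' = x + X^n y'` has degree `deg y' + n`. -/
theorem key_deg {n : ℕ} (hn : 1 ≤ n) {x y : F[X]} (hx : x ≠ 0)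
    (hne : y.natDegree ≠ x.natDegree + n) :
    (y + X ^ n * x) ≠ 0 ∧
      (x + X ^ n * (y + X ^ n * x)).natDegree = (y + X ^ n * x).natDegree + n := by
  have h1 : (X ^ n * x).natDegree = x.natDegree + n := natDegree_X_pow_mul n hx
  have h2 : x.natDegree + n ≤ (y + X ^ n * x).natDegree := by
    rcases lt_or_gt_of_ne hne with h | h
    · rw [natDegree_add_eq_right_of_natDegree_lt (by rw [h1]; exact h), h1]
    · rw [natDegree_add_eq_left_of_natDegree_lt (by rw [h1]; exact h)]
      omega
  have h3 : y + X ^ n * x ≠ 0 := ne_zero_of_natDegree_pos (by omega)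
  refine ⟨h3, ?_⟩
  have h4 : (X ^ n * (y + X ^ n * x)).natDegree = (y + X ^ n * x).natDegree + n :=
    natDegree_X_pow_mul n h3
  rw [natDegree_add_eq_right_of_natDegree_lt (by rw [h4]; omega), h4]

theorem step_pos {n : ℕ} (hn : 1 ≤ n) {v : Fin 2 → F[X]} (h0 : v 0 ≠ 0)
    (hne : (v 1).natDegree ≠ (v 0).natDegree + n) : Dp n (Apos F n *ᵥ v) := by
  rw [Apos_mulVec]
  obtain ⟨h3, h4⟩ := key_deg hn h0 hne
  exact ⟨by simpa using h3, by simpa using h4⟩

theorem step_neg {n : ℕ} (hn : 1 ≤ n) {v : Fin 2 → F[X]} (h1 : v 1 ≠ 0)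
    (hne : (v 0).natDegree ≠ (v 1).natDegree + n) : Dm n (Aneg F n *ᵥ v) := by
  rw [Aneg_mulVec]
  have hx : -(v 1) ≠ 0 := neg_ne_zero.mpr h1
  have hne' : (v 0).natDegree ≠ (-(v 1)).natDegree + n := by rwa [natDegree_neg]
  obtain ⟨h3, h4⟩ := key_deg hn hx hne'
  have e1 : v 0 - X ^ n * v 1 = v 0 + X ^ n * -(v 1) := by ring
  have e2 : v 1 - X ^ n * (v 0 - X ^ n * v 1)
      = -(-(v 1) + X ^ n * (v 0 + X ^ n * -(v 1))) := by ring
  refine ⟨?_, ?_⟩
  · simpa [e1] using h3
  · simp only [cons_val_zero, cons_val_one]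
    rw [e2, natDegree_neg, e1]
    exact h4

end field

/-! ## The generators and words -/

/-- generators in `SL₂(R[X])` -/
noncomputable def gen (R : Type*) [CommRing R] (i : ℕ) : Matrix.SpecialLinearGroup (Fin 2) R[X] :=
  ⟨Apos R (i + 1), by simp [Apos, Matrix.det_fin_two]⟩

theorem gen_val (R : Type*) [CommRing R] (i : ℕ) : (gen R i).1 = Apos R (i + 1) := rfl

theorem gen_inv_val (R : Type*) [CommRing R] (i : ℕ) : ((gen R i)⁻¹).1 = Aneg R (i + 1) := by
  rw [Matrix.SpecialLinearGroup.coe_inv, gen_val, Apos, Aneg, Matrix.adjugate_fin_two_of]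

/-- the matrix of a letter -/
noncomputable def letter (R : Type*) [CommRing R] (s : ℕ × Bool) :
    Matrix.SpecialLinearGroup (Fin 2) R[X] :=
  cond s.2 (gen R s.1) (gen R s.1)⁻¹

theorem lift_mk_cons (R : Type*) [CommRing R] (s : ℕ × Bool) (t : List (ℕ × Bool)) :
    FreeGroup.lift (gen R) (FreeGroup.mk (s :: t)) =
      letter R s * FreeGroup.lift (gen R) (FreeGroup.mk t) := by
  rw [FreeGroup.lift_mk, FreeGroup.lift_mk, List.map_cons, List.prod_cons]
  rfl

section field

variable {F : Type*} [Field F]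

/-- the vector obtained by applying a word to `(1,1)` -/
noncomputable def vec (F : Type*) [Field F] (t : List (ℕ × Bool)) : Fin 2 → F[X] :=
  (FreeGroup.lift (gen F) (FreeGroup.mk t)).1 *ᵥ ![1, 1]

theorem vec_nil : vec F [] = ![1, 1] := by
  simp [vec, ← FreeGroup.one_eq_mk]

theorem vec_cons (s : ℕ × Bool) (t : List (ℕ × Bool)) :
    vec F (s :: t) = (letter F s).1 *ᵥ vec F t := by
  rw [vec, lift_mk_cons, Matrix.SpecialLinearGroup.coe_mul, ← Matrix.mulVec_mulVec]
  rfl

theorem vec_cons_true (i : ℕ) (t : List (ℕ × Bool)) :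
    vec F ((i, true) :: t) = Apos F (i + 1) *ᵥ vec F t := by
  rw [vec_cons]; rfl

theorem vec_cons_false (i : ℕ) (t : List (ℕ × Bool)) :
    vec F ((i, false) :: t) = Aneg F (i + 1) *ᵥ vec F t := by
  rw [vec_cons]
  simp only [letter, cond_false, gen_inv_val]

/-- the invariant -/
def Inv (s : ℕ × Bool) (v : Fin 2 → F[X]) : Prop :=
  if s.2 then Dp (s.1 + 1) v else Dm (s.1 + 1) v

theorem Dp.ne_zero {n : ℕ} (hn : 1 ≤ n) {v : Fin 2 → F[X]} (h : Dp n v) : v 0 ≠ 0 :=
  ne_zero_of_natDegree_pos (by rw [h.2]; omega)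

theorem Dm.ne_zero {n : ℕ} (hn : 1 ≤ n) {v : Fin 2 → F[X]} (h : Dm n v) : v 1 ≠ 0 :=
  ne_zero_of_natDegree_pos (by rw [h.2]; omega)

theorem inv_of_reduced : ∀ (t : List (ℕ × Bool)), FreeGroup.IsReduced t →
    ∀ (s : ℕ × Bool) (t' : List (ℕ × Bool)), t = s :: t' → Inv s (vec F t) := by
  intro t
  induction t with
  | nil => intro _ s t' h; cases h
  | cons a t ih =>
    intro hred s t' h
    obtain ⟨rfl, rfl⟩ := List.cons.inj h
    cases t with
    | nil =>
      obtain ⟨i, b⟩ := a
      cases b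
      · simp only [Inv, Bool.false_eq_true, if_false]
        rw [vec_cons_false, vec_nil]
        apply step_neg (by omega) (by simp)
        simp
      · simp only [Inv, if_true]
        rw [vec_cons_true, vec_nil]
        apply step_pos (by omega) (by simp)
        simp
    | cons a' t'' =>
      rw [FreeGroup.IsReduced, List.isChain_cons_cons] at hred
      have ih' := ih hred.2 a' t'' rfl
      obtain ⟨i, b⟩ := a
      obtain ⟨j, b'⟩ := a'
      have hrel := hred.1
      simp only at hrel
      cases b <;> cases b'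
      · simp only [Inv, Bool.false_eq_true, if_false] at ih' ⊢
        rw [vec_cons_false]
        apply step_neg (by omega) (Dm.ne_zero (by omega) ih')
        rw [ih'.2]; omega
      · simp only [Inv, Bool.false_eq_true, if_false, if_true] at ih' ⊢
        rw [vec_cons_false]
        have hij : i ≠ j := fun h => by simpa using hrel h
        apply step_neg (by omega) ih'.1
        rw [ih'.2]; omega
      · simp only [Inv, Bool.false_eq_true, if_false, if_true] at ih' ⊢
        rw [vec_cons_true]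
        have hij : i ≠ j := fun h => by simpa using hrel h
        apply step_pos (by omega) ih'.1
        rw [ih'.2]; omega
      · simp only [Inv, if_true] at ih' ⊢
        rw [vec_cons_true]
        apply step_pos (by omega) (Dp.ne_zero (by omega) ih')
        rw [ih'.2]; omega

/-! ## Degree bound -/

/-- weight of a word, bounding degrees -/
def wt (t : List (ℕ × Bool)) : ℕ := (t.map fun s => 2 * (s.1 + 1)).sum

theorem mulVec_natDegree_le {M : Matrix (Fin 2) (Fin 2) F[X]} {v : Fin 2 → F[X]} {d e : ℕ}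
    (hM : ∀ i j, (M i j).natDegree ≤ d) (hv : ∀ j, (v j).natDegree ≤ e) (i : Fin 2) :
    ((M *ᵥ v) i).natDegree ≤ d + e := by
  have : (M *ᵥ v) i = M i 0 * v 0 + M i 1 * v 1 := by
    simp [Matrix.mulVec, dotProduct, Fin.sum_univ_two]
  rw [this]
  refine (natDegree_add_le _ _).trans (max_le ?_ ?_)
  · exact natDegree_mul_le.trans (add_le_add (hM i 0) (hv 0))
  · exact natDegree_mul_le.trans (add_le_add (hM i 1) (hv 1))

theorem Apos_natDegree_le (n : ℕ) (i j : Fin 2) : (Apos F n i j).natDegree ≤ 2 * n := by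
  have h1 : (1 + X ^ n * X ^ n : F[X]).natDegree ≤ 2 * n := by
    refine (natDegree_add_le _ _).trans (max_le (by simp) ?_)
    rw [← pow_add]
    exact (natDegree_X_pow_le _).trans (by omega)
  have h2 : (X ^ n : F[X]).natDegree ≤ 2 * n := (natDegree_X_pow_le _).trans (by omega)
  fin_cases i <;> fin_cases j <;> simp [Apos] <;> first | exact h1 | exact h2 | omega

theorem Aneg_natDegree_le (n : ℕ) (i j : Fin 2) : (Aneg F n i j).natDegree ≤ 2 * n := by
  have h1 : (1 + X ^ n * X ^ n : F[X]).natDegree ≤ 2 * n := by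
    refine (natDegree_add_le _ _).trans (max_le (by simp) ?_)
    rw [← pow_add]
    exact (natDegree_X_pow_le _).trans (by omega)
  have h2 : (-X ^ n : F[X]).natDegree ≤ 2 * n := by
    rw [natDegree_neg]; exact (natDegree_X_pow_le _).trans (by omega)
  fin_cases i <;> fin_cases j <;> simp [Aneg] <;> first | exact h1 | exact h2 | omega

theorem vec_natDegree_le (t : List (ℕ × Bool)) : ∀ j, (vec F t j).natDegree ≤ wt t := by
  induction t with
  | nil =>
    intro j
    rw [vec_nil]
    fin_cases j <;> simp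
  | cons s t ih =>
    intro j
    obtain ⟨i, b⟩ := s
    have hwt : wt ((i, b) :: t) = 2 * (i + 1) + wt t := by simp [wt]
    rw [hwt]
    cases b
    · rw [vec_cons_false]
      exact mulVec_natDegree_le (Aneg_natDegree_le _) ih j
    · rw [vec_cons_true]
      exact mulVec_natDegree_le (Apos_natDegree_le _) ih j

/-- For a non-trivial reduced word, the polynomial `vec 0 - vec 1` is non-zero of bounded degree. -/
theorem vec_sub_ne_zero {t : List (ℕ × Bool)} (hred : FreeGroup.IsReduced t) (ht : t ≠ []) :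
    vec F t 0 - vec F t 1 ≠ 0 ∧ (vec F t 0 - vec F t 1).natDegree ≤ wt t := by
  constructor
  · obtain ⟨s, t', rfl⟩ := List.exists_cons_of_ne_nil ht
    have h := inv_of_reduced (F := F) _ hred s t' rfl
    intro h0
    have heq : vec F (s :: t') 0 = vec F (s :: t') 1 := sub_eq_zero.mp h0
    obtain ⟨i, b⟩ := s
    cases b
    · simp only [Inv, Bool.false_eq_true, if_false] at h
      have := h.2
      rw [heq] at this
      omega
    · simp only [Inv, if_true] at h
      have := h.2
      rw [heq] at this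
      omega
  · exact (natDegree_sub_le _ _).trans (max_le (vec_natDegree_le t 0) (vec_natDegree_le t 1))

end field

/-- A non-trivial law holds in PSL_2 over only finitely many finite fields: for every non-trivial element w of the free group on countably many generators there is N such that over every finite field with at least N elements some substitution of elements of PSL_2 into w is not the identity. -/
theorem result (w : FreeGroup ℕ) (hw : w ≠ 1) :
    ∃ N : ℕ, ∀ (F : Type*) [Field F] [Fintype F], N ≤ Fintype.card F →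
      ∃ f : ℕ → Matrix.ProjectiveSpecialLinearGroup (Fin 2) F, FreeGroup.lift f w ≠ 1 := by
  classical
  have hred : FreeGroup.IsReduced w.toWord := FreeGroup.isReduced_toWord
  have hne : w.toWord ≠ [] := fun h => hw (FreeGroup.toWord_eq_nil_iff.mp h)
  have hmk : FreeGroup.mk w.toWord = w := FreeGroup.mk_toWord
  refine ⟨wt w.toWord + 1, fun F _ _ hN => ?_⟩
  obtain ⟨hP, hdeg⟩ := vec_sub_ne_zero (F := F) hred hne
  set P : F[X] := vec F w.toWord 0 - vec F w.toWord 1 with hPdef
  -- choose a point where `P` does not vanish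
  obtain ⟨a, ha⟩ : ∃ a : F, P.eval a ≠ 0 := by
    by_contra hcon
    push Not at hcon
    apply hP
    exact eq_zero_of_natDegree_lt_card_of_eval_eq_zero P (f := id) Function.injective_id hcon
      (by omega)
  let φ : F[X] →+* F := Polynomial.evalRingHom a
  let π : Matrix.SpecialLinearGroup (Fin 2) F →* Matrix.ProjectiveSpecialLinearGroup (Fin 2) F :=
    QuotientGroup.mk' _
  let Φ : Matrix.SpecialLinearGroup (Fin 2) F[X] →* Matrix.ProjectiveSpecialLinearGroup (Fin 2) F :=
    π.comp (Matrix.SpecialLinearGroup.map φ)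
  refine ⟨fun i => Φ (gen F i), ?_⟩
  have hcomp : FreeGroup.lift (fun i => Φ (gen F i)) = Φ.comp (FreeGroup.lift (gen F)) := by
    ext i
    simp
  rw [hcomp, MonoidHom.comp_apply]
  set M := FreeGroup.lift (gen F) w with hM
  intro h1
  have hcen : Matrix.SpecialLinearGroup.map φ M ∈
      Subgroup.center (Matrix.SpecialLinearGroup (Fin 2) F) := by
    have : π (Matrix.SpecialLinearGroup.map φ M) = 1 := h1
    exact (QuotientGroup.eq_one_iff _).mp this
  obtain ⟨r, -, hr⟩ := Matrix.SpecialLinearGroup.mem_center_iff.mp hcen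
  have hentry : ∀ i j, (Matrix.scalar (Fin 2) r) i j = φ (M.1 i j) := by
    intro i j
    rw [hr]
    rfl
  have hvec : ∀ j, vec F w.toWord j = M.1 j 0 + M.1 j 1 := by
    intro j
    rw [vec, hmk, ← hM]
    simp [Matrix.mulVec, dotProduct, Fin.sum_univ_two]
  apply ha
  rw [hPdef, hvec, hvec]
  have e00 := hentry 0 0
  have e01 := hentry 0 1
  have e10 := hentry 1 0
  have e11 := hentry 1 1
  simp [Matrix.scalar_apply] at e00 e01 e10 e11
  have hφ : ∀ p : F[X], p.eval a = φ p := fun p => rfl
  rw [eval_sub, eval_add, eval_add, hφ, hφ, hφ, hφ, ← e00, ← e01, ← e10, ← e11]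
  ring

end Cfsg.Agent.S2353
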