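import Cfsg.Statements.S2540
import Cfsg.Agent.S0249

set_option autoImplicit false
open Cfsg

namespace Cfsg.Agent.S2540


open scoped commutatorElement


theorem comm_central_left {S : Type*} [Group S] {z a b : S} (hz : ∀ g, g * z = z * g) :
    ⁅z * a, b⁆ = ⁅a, b⁆ := by
  calc ⁅z * a, b⁆ = z * (a * b * a⁻¹) * z⁻¹ * b⁻¹ := by rw [commutatorElement_def]; group
    _ = (a * b * a⁻¹) * b⁻¹ := by
        rw [show z * (a * b * a⁻¹) * z⁻¹ = a * b * a⁻¹ from by rw [← hz (a * b * a⁻¹)]; group]
    _ = ⁅a, b⁆ := by rw [commutatorElement_def]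

theorem comm_central_right {S : Type*} [Group S] {z a b : S} (hz : ∀ g, g * z = z * g) :
    ⁅a, z * b⁆ = ⁅a, b⁆ := by
  calc ⁅a, z * b⁆ = (a * z) * (b * a⁻¹ * b⁻¹) * z⁻¹ := by rw [commutatorElement_def]; group
    _ = z * (a * b * a⁻¹ * b⁻¹) * z⁻¹ := by rw [hz a]; group
    _ = a * b * a⁻¹ * b⁻¹ := by rw [← hz (a * b * a⁻¹ * b⁻¹)]; group
    _ = ⁅a, b⁆ := by rw [commutatorElement_def]

/-- abstract: an endomorphism of a perfect group that is the identity modulo the center is the identity -/
theorem endo_eq_id {S : Type*} [Group S] (hperf : commutator S = ⊤) (φ : S →* S)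
    (h : ∀ s, φ s * s⁻¹ ∈ Subgroup.center S) (s : S) : φ s = s := by
  have hle : commutator S ≤ MonoidHom.eqLocus φ (MonoidHom.id S) := by
    rw [commutator_eq_closure, Subgroup.closure_le]
    rintro _ ⟨a, b, rfl⟩
    show φ ⁅a, b⁆ = ⁅a, b⁆
    have ha := Subgroup.mem_center_iff.mp (h a)
    have hb := Subgroup.mem_center_iff.mp (h b)
    have ea : φ a = (φ a * a⁻¹) * a := by simp
    have eb : φ b = (φ b * b⁻¹) * b := by simp
    rw [map_commutatorElement, ea, eb, comm_central_left ha, comm_central_right hb]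
  rw [hperf] at hle
  exact hle (Subgroup.mem_top s)

/-- abstract: normal subgroups of a perfect group with simple central quotient -/
theorem normal_dichotomy {S : Type*} [Group S] (hperf : commutator S = ⊤)
    (hsimple : IsSimpleGroup (S ⧸ Subgroup.center S)) (N : Subgroup S) [hN : N.Normal] :
    N ≤ Subgroup.center S ∨ N = ⊤ := by
  have hmapn : (N.map (QuotientGroup.mk' (Subgroup.center S))).Normal :=
    Subgroup.Normal.map hN _ (QuotientGroup.mk'_surjective _)
  rcases hmapn.eq_bot_or_eq_top with hbot | htop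
  · left
    have := (Subgroup.map_eq_bot_iff N).mp hbot
    rwa [QuotientGroup.ker_mk'] at this
  · right
    have hsup : N ⊔ Subgroup.center S = ⊤ := by
      have := Subgroup.comap_map_eq (QuotientGroup.mk' (Subgroup.center S)) N
      rw [htop, Subgroup.comap_top, QuotientGroup.ker_mk'] at this
      exact this.symm
    have hcomle : commutator S ≤ N :=
      hN.commutator_le_of_self_sup_commutative_eq_top hsup inferInstance
    rw [hperf] at hcomle
    exact top_le_iff.mp hcomle

section
variable {F : Type*} [Field F] {n : ℕ}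

/-- conjugation by an element of `GL` as an endomorphism of `SL` -/
noncomputable def conjSL (g : GL (Fin n) F) :
    Matrix.SpecialLinearGroup (Fin n) F →* Matrix.SpecialLinearGroup (Fin n) F where
  toFun s := ⟨(g : Matrix (Fin n) (Fin n) F) * (s : Matrix (Fin n) (Fin n) F) * ((g⁻¹ : GL (Fin n) F) : Matrix (Fin n) (Fin n) F), by
    rw [Matrix.det_units_conj]; exact s.2⟩
  map_one' := by
    apply Subtype.ext
    simp
  map_mul' a b := by
    apply Subtype.ext
    show (g : Matrix (Fin n) (Fin n) F) * ((a : Matrix (Fin n) (Fin n) F) * (b : Matrix (Fin n) (Fin n) F)) * ((g⁻¹ : GL (Fin n) F) : Matrix (Fin n) (Fin n) F)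
      = ((g : Matrix (Fin n) (Fin n) F) * (a : Matrix (Fin n) (Fin n) F) * ((g⁻¹ : GL (Fin n) F) : Matrix (Fin n) (Fin n) F)) *
        ((g : Matrix (Fin n) (Fin n) F) * (b : Matrix (Fin n) (Fin n) F) * ((g⁻¹ : GL (Fin n) F) : Matrix (Fin n) (Fin n) F))
    have h : ((g⁻¹ : GL (Fin n) F) : Matrix (Fin n) (Fin n) F) * (g : Matrix (Fin n) (Fin n) F) = 1 := Units.inv_mul g
    simp only [Matrix.mul_assoc]
    rw [← Matrix.mul_assoc ((g⁻¹ : GL (Fin n) F) : Matrix (Fin n) (Fin n) F) (g : Matrix (Fin n) (Fin n) F), h, Matrix.one_mul]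

theorem coe_conjSL (g : GL (Fin n) F) (s : Matrix.SpecialLinearGroup (Fin n) F) :
    ((conjSL g s : Matrix.SpecialLinearGroup (Fin n) F) : Matrix (Fin n) (Fin n) F) =
      (g : Matrix (Fin n) (Fin n) F) * (s : Matrix (Fin n) (Fin n) F) * ((g⁻¹ : GL (Fin n) F) : Matrix (Fin n) (Fin n) F) := rfl

theorem toGL_conjSL (g : GL (Fin n) F) (s : Matrix.SpecialLinearGroup (Fin n) F) :
    Matrix.SpecialLinearGroup.toGL (conjSL g s) = g * Matrix.SpecialLinearGroup.toGL s * g⁻¹ := by
  apply Units.ext
  rfl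

theorem scalar_of_conjSL_eq (g : GL (Fin n) F)
    (h : ∀ s : Matrix.SpecialLinearGroup (Fin n) F, conjSL g s = s) :
    ∃ c : F, (g : Matrix (Fin n) (Fin n) F) = c • (1 : Matrix (Fin n) (Fin n) F) := by
  have hcomm : ∀ s : Matrix.SpecialLinearGroup (Fin n) F,
      (g : Matrix (Fin n) (Fin n) F) * (s : Matrix (Fin n) (Fin n) F) = (s : Matrix (Fin n) (Fin n) F) * (g : Matrix (Fin n) (Fin n) F) := by
    intro s
    have h3 : (g : Matrix (Fin n) (Fin n) F) * (s : Matrix (Fin n) (Fin n) F) * ((g⁻¹ : GL (Fin n) F) : Matrix (Fin n) (Fin n) F) = (s : Matrix (Fin n) (Fin n) F) := by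
      rw [← coe_conjSL, h s]
    have hinv : ((g⁻¹ : GL (Fin n) F) : Matrix (Fin n) (Fin n) F) * (g : Matrix (Fin n) (Fin n) F) = 1 := Units.inv_mul g
    calc (g : Matrix (Fin n) (Fin n) F) * (s : Matrix (Fin n) (Fin n) F)
        = (g : Matrix (Fin n) (Fin n) F) * (s : Matrix (Fin n) (Fin n) F) * (((g⁻¹ : GL (Fin n) F) : Matrix (Fin n) (Fin n) F) * (g : Matrix (Fin n) (Fin n) F)) := by
          rw [hinv, Matrix.mul_one]
      _ = ((g : Matrix (Fin n) (Fin n) F) * (s : Matrix (Fin n) (Fin n) F) * ((g⁻¹ : GL (Fin n) F) : Matrix (Fin n) (Fin n) F)) * (g : Matrix (Fin n) (Fin n) F) := by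
          simp only [Matrix.mul_assoc]
      _ = _ := by rw [h3]
  have hscalar : (g : Matrix (Fin n) (Fin n) F) ∈ Set.range (Matrix.scalar (Fin n)) := by
    apply Matrix.mem_range_scalar_of_commute_transvectionStruct
    intro t
    have := hcomm t.toSpecialLinearGroup
    rw [Matrix.TransvectionStruct.toSpecialLinearGroup_coe] at this
    exact this.symm
  obtain ⟨c, hc⟩ := hscalar
  refine ⟨c, ?_⟩
  rw [← hc]
  ext i j
  simp [Matrix.scalar, Matrix.diagonal, Matrix.one_apply]

end

theorem perfect_SL {F : Type*} [Field F] [Fintype F] (n : ℕ) (h2 : 2 ≤ n) (hex : ¬ (n = 2 ∧ Fintype.card F ≤ 3)) :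
    commutator (Matrix.SpecialLinearGroup (Fin n) F) = ⊤ := by
  classical
  rcases Nat.lt_or_ge n 3 with h3 | h3
  · have : n = 2 := by omega
    subst this
    have hcard : 4 ≤ Fintype.card F := by
      by_contra hc
      exact hex ⟨rfl, by omega⟩
    obtain ⟨a, ha⟩ : ∃ a : F, a ∉ ({0, 1, -1} : Finset F) := by
      by_contra hcon
      push Not at hcon
      have hsub : (Finset.univ : Finset F) ⊆ {0, 1, -1} := fun a _ => hcon a
      have := Finset.card_le_card hsub
      have h3 : ({0, 1, -1} : Finset F).card ≤ 3 := Finset.card_le_three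
      rw [Finset.card_univ] at this
      omega
    simp only [Finset.mem_insert, Finset.mem_singleton, not_or] at ha
    refine Matrix.SL2.commutator_eq_top ha.1 ?_
    intro hsq
    rcases sq_eq_one_iff.mp hsq with h | h
    · exact ha.2.1 h
    · exact ha.2.2 h
  · exact Cfsg.Agent.Lib.Helper5.commutator_SL_eq_top_of_three_le_card (by simpa using h3)

theorem simple_PSL {F : Type*} [Field F] [Fintype F] (n : ℕ) (h2 : 2 ≤ n) (hex : ¬ (n = 2 ∧ Fintype.card F ≤ 3)) :
    IsSimpleGroup (Matrix.ProjectiveSpecialLinearGroup (Fin n) F) := by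
  rcases Nat.lt_or_ge n 3 with h3 | h3
  · have : n = 2 := by omega
    subst this
    apply Matrix.ProjectiveSpecialLinearGroup.rank_two_simple
    rw [Nat.card_eq_fintype_card]
    by_contra hc
    exact hex ⟨rfl, by omega⟩
  · exact Cfsg.Agent.S0249.result n h3


/-- Let F be a finite field and n ≥ 1, excluding the case n = 2 with #F ≤ 3. A subgroup of GL_n(F) that is normalized by every element of SL_n(F) either consists of scalar matrices or contains SL_n(F). -/
theorem result {F : Type*} [Field F] [Fintype F] (n : ℕ) (hn : 1 ≤ n) (hex : ¬ (n = 2 ∧ Fintype.card F ≤ 3)) (G : Subgroup (Matrix.GeneralLinearGroup (Fin n) F)) (hG : ∀ s : Matrix.SpecialLinearGroup (Fin n) F, ∀ g ∈ G, (Matrix.SpecialLinearGroup.toGL s) * g * (Matrix.SpecialLinearGroup.toGL s)⁻¹ ∈ G) : (∀ g ∈ G, ∃ c : F, (g : Matrix (Fin n) (Fin n) F) = c • (1 : Matrix (Fin n) (Fin n) F)) ∨ (Matrix.SpecialLinearGroup.toGL : Matrix.SpecialLinearGroup (Fin n) F →* _).range ≤ G := by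
  classical
  rcases Nat.lt_or_ge n 2 with h1 | h2
  · -- n = 1
    have : n = 1 := by omega
    subst this
    left
    intro g _
    refine ⟨(g : Matrix (Fin 1) (Fin 1) F) 0 0, ?_⟩
    ext i j
    have hi : i = 0 := Subsingleton.elim _ _
    have hj : j = 0 := Subsingleton.elim _ _
    subst hi hj
    simp
  · have hsimple := simple_PSL n h2 hex
    have hperf := perfect_SL n h2 hex
    set N : Subgroup (Matrix.SpecialLinearGroup (Fin n) F) := G.comap Matrix.SpecialLinearGroup.toGL with hN
    have hNn : N.Normal := by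
      constructor
      intro x hx s
      rw [hN, Subgroup.mem_comap] at hx ⊢
      rw [map_mul, map_mul, map_inv]
      exact hG s _ hx
    rcases normal_dichotomy hperf hsimple N with hNle | hNtop
    · left
      intro g hg
      apply scalar_of_conjSL_eq
      apply endo_eq_id hperf
      intro s
      apply hNle
      rw [hN, Subgroup.mem_comap, map_mul, toGL_conjSL, map_inv]
      have h1 : Matrix.SpecialLinearGroup.toGL s * g⁻¹ * (Matrix.SpecialLinearGroup.toGL s)⁻¹ ∈ G :=
        hG s _ (G.inv_mem hg)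
      have : g * Matrix.SpecialLinearGroup.toGL s * g⁻¹ * (Matrix.SpecialLinearGroup.toGL s)⁻¹
          = g * (Matrix.SpecialLinearGroup.toGL s * g⁻¹ * (Matrix.SpecialLinearGroup.toGL s)⁻¹) := by
        simp only [mul_assoc]
      rw [this]
      exact G.mul_mem hg h1
    · right
      rintro _ ⟨s, rfl⟩
      have : s ∈ N := hNtop ▸ Subgroup.mem_top s
      exact this


end Cfsg.Agent.S2540
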