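import Cfsg.Statements.S4209
-- import your own Cfsg.Agent.* helpers here
import Cfsg.Agent.Lib.Helper70.HallPetrescu
import Cfsg.Agent.Lib.Helper70.RegularN
import Mathlib

set_option autoImplicit false
open Cfsg

namespace Cfsg.Agent.S4209

open scoped commutatorElement
open Cfsg.Agent.Lib.Helper70

/-- In a group `H` whose `p`-th lower central term (1-indexed) is trivial, `(xy)^p = x^p y^p c` with `c` a product of
`p`-th powers of elements of `H'`. -/
theorem regN_one_top {H : Type*} [Group H] {p : ℕ} [hp : Fact p.Prime]
    (hcl : (⊤ : Subgroup H).lowerCentralSeries (p - 1) = ⊥) (x y : H) :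
    ∃ c ∈ powerClosure p 1 (commutator H), (x * y) ^ p = x ^ p * y ^ p * c := by
  have hHP := hallPetrescu x y p
  have hmem : hpProd x y p (p + 1) ∈ powerClosure p 1 (commutator H) := by
    rw [hpProd]
    apply Subgroup.list_prod_mem
    intro v hv
    obtain ⟨j, hj, rfl⟩ := List.mem_map.mp hv
    rw [List.mem_range] at hj
    have hc0 : hpCoeff x y 0 = 1 := by
      rw [hpCoeff_eq, hpProd, hpOmega]; simp
    have hc1 : hpCoeff x y 1 = 1 := by
      rw [hpCoeff_eq, hpProd, hpOmega]
      simp [hc0]
    rcases Nat.lt_or_ge j 2 with hj2 | hj2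
    · interval_cases j
      · rw [hc0, one_pow]; exact one_mem _
      · rw [hc1, one_pow]; exact one_mem _
    · have hcj := hpCoeff_mem x y j
      unfold lcsFiltration at hcj
      rcases Nat.lt_or_ge j p with hjp | hjp
      · -- p ∣ C(p, j)
        have hdvd : p ∣ p.choose j := hp.out.dvd_choose_self (by omega) hjp
        obtain ⟨m, hm⟩ := hdvd
        have hcomm : hpCoeff x y j ∈ commutator H := by
          rw [← Subgroup.top_lowerCentralSeries_one]
          exact Subgroup.lowerCentralSeries_antitone _ (by omega) hcj
        rw [hm, mul_comm, pow_mul]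
        refine Subgroup.subset_closure ⟨hpCoeff x y j ^ m, pow_mem hcomm m, ?_⟩
        rw [pow_one]
      · have hjeq : j = p := by omega
        subst hjeq
        rw [hcl, Subgroup.mem_bot] at hcj
        rw [hcj, one_pow]; exact one_mem _
  refine ⟨(hpProd x y p (p + 1))⁻¹, inv_mem hmem, ?_⟩
  rw [hHP]; group

/-- A finite `p`-group of nilpotency class less than `p` (the term of index `p - 1` of the lower central series of the whole group, indexed from `0`, is trivial) is a regular `p`-group. -/
theorem result {G : Type*} [Group G] [Finite G] {p : ℕ} [Fact p.Prime] (hG : IsPGroup p G) (hcl : (⊤ : Subgroup G).lowerCentralSeries (p - 1) = ⊥) : Cfsg.IsRegularPGroup p G := by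
  have h1 : RegN p 1 G := by
    intro a b
    set H := Subgroup.closure ({a, b} : Set G) with hH
    have haH : a ∈ H := Subgroup.subset_closure (by simp)
    have hbH : b ∈ H := Subgroup.subset_closure (by simp)
    have hclH : (⊤ : Subgroup H).lowerCentralSeries (p - 1) = ⊥ := by
      have : ((⊤ : Subgroup H).lowerCentralSeries (p - 1)).map H.subtype ≤
          (⊤ : Subgroup G).lowerCentralSeries (p - 1) := by
        rw [Subgroup.top_subtype_lowerCentralSeries]
        exact Subgroup.lowerCentralSeries_mono _ le_top
      rw [hcl, le_bot_iff] at this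
      exact (Subgroup.map_eq_bot_iff_of_injective _ H.subtype_injective).mp this
    obtain ⟨c, hc, hxy⟩ := regN_one_top hclH (⟨a, haH⟩ : H) ⟨b, hbH⟩
    refine ⟨(c : G), ?_, ?_⟩
    · have e1 : ⁅H, H⁆ = (commutator H).map H.subtype := by
        rw [commutator_def, Subgroup.map_commutator, ← MonoidHom.range_eq_map,
          Subgroup.range_subtype]
      rw [e1, powerClosure_map]
      exact ⟨c, hc, rfl⟩
    · have := congrArg Subtype.val hxy
      simpa using this
  exact ⟨hG, fun a b n => RegN.all hG h1 n a b⟩

end Cfsg.Agent.S4209
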