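import Cfsg.Statements.S4762
import Mathlib
import Cfsg.Agent.Lib.Helper80.ItoMichler
import Cfsg.Agent.Lib.Helper77.CenterIrr
import Cfsg.Agent.Lib.Helper75.Ito
import Cfsg.Agent.Lib.Helper90.ESCriterion
import Cfsg.Agent.S0015

set_option autoImplicit false
open Cfsg

namespace Cfsg.Agent.S4762

open Cfsg.Agent.Lib
open scoped ComplexConjugate commutatorElement

universe u

section Gen

variable {G : Type u} [Group G] [Fintype G]

theorem norm_one (χ : IrrCharacter G) :
    ‖(χ : G → ℂ) 1‖ = (charDegree (χ : G → ℂ) : ℝ) := by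
  rw [Helper79.irr_apply_one_eq_charDegree]; simp

theorem center_le_irrCenter (χ : IrrCharacter G) :
    Subgroup.center G ≤ Helper77.irrCenter χ := by
  intro g hg
  rw [Helper77.mem_irrCenter_iff_commutator]
  intro h
  have : ⁅g, h⁆ = 1 := by
    rw [commutatorElement_eq_one_iff_mul_comm]
    exact (Subgroup.mem_center_iff.mp hg h).symm
  rw [this]; exact Subgroup.one_mem _

theorem card_center_mul_sq_le (χ : IrrCharacter G) :
    Nat.card (Subgroup.center G) * (charDegree (χ : G → ℂ)) ^ 2 ≤ Nat.card G := by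
  have h := Helper77.card_mul_sq_le χ (Subgroup.center G)
    (fun z hz => (Helper77.mem_irrCenter χ z).mp (center_le_irrCenter χ hz))
  rw [norm_one] at h
  exact_mod_cast h

theorem deg_eq_one_of_comm_le_ker (χ : IrrCharacter G)
    (h : ∀ a b : G, ⁅a, b⁆ ∈ Helper77.irrKer χ) : charDegree (χ : G → ℂ) = 1 := by
  have htop : Helper77.irrCenter χ = ⊤ := by
    rw [eq_top_iff]; intro g _
    exact (Helper77.mem_irrCenter_iff_commutator χ g).mpr (fun k => h g k)
  have h1 := Helper77.card_irrCenter_mul_sq_le χ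
  rw [htop, Subgroup.card_top, norm_one] at h1
  have hpos := Helper79.irr_charDegree_pos χ
  have hG : (0 : ℝ) < Nat.card G := by exact_mod_cast Nat.card_pos
  have h3 : ((charDegree (χ : G → ℂ) : ℝ)) ^ 2 ≤ 1 := by
    by_contra hcon; push Not at hcon
    nlinarith
  have h4 : (charDegree (χ : G → ℂ)) ^ 2 ≤ 1 := by exact_mod_cast h3
  nlinarith

/-- a character of `p'`-degree is trivial on the derived subgroup of a normal `p`-subgroup -/
theorem apply_eq_of_mem_commutator_of_not_dvd (p : ℕ) [Fact p.Prime] (P : Subgroup G) [P.Normal]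
    (hP : IsPGroup p P) (ψ : IrrCharacter G) (hψ : ¬ p ∣ charDegree (ψ : G → ℂ))
    (x : G) (hx : x ∈ ⁅P, P⁆) : (ψ : G → ℂ) x = (ψ : G → ℂ) 1 := by
  classical
  haveI : Fintype P := Fintype.ofFinite P
  have hres : IsCharacter P (fun h : P => (ψ : G → ℂ) h) :=
    Helper75.isCharacter_res P (Helper78.IsIrrCharacter.isCharacter ψ.2)
  have hsum := Helper78.IsCharacter.eq_sum_irr hres
  rw [← Subgroup.map_subtype_commutator] at hx
  obtain ⟨y, hy, rfl⟩ := hx
  have hterm : ∀ θ : IrrCharacter P,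
      classInner (fun h : P => (ψ : G → ℂ) h) (θ : P → ℂ) • (θ : P → ℂ) y
      = classInner (fun h : P => (ψ : G → ℂ) h) (θ : P → ℂ) • (θ : P → ℂ) 1 := by
    intro θ
    by_cases h0 : classInner (fun h : P => (ψ : G → ℂ) h) (θ : P → ℂ) = 0
    · rw [h0]; simp
    · have hdvd := Helper80.charDegree_dvd_of_over P ψ.2 θ.2 h0
      have hdvd2 := Helper79.irr_charDegree_dvd_card θ
      obtain ⟨k, hk⟩ := IsPGroup.iff_card.mp hP
      rw [hk] at hdvd2
      obtain ⟨j, hj, hj2⟩ := (Nat.dvd_prime_pow (Fact.out)).mp hdvd2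
      have hj0 : j = 0 := by
        by_contra hne
        apply hψ
        refine dvd_trans ?_ hdvd
        rw [hj2]; exact dvd_pow_self p hne
      rw [hj0, pow_zero] at hj2
      have h1 : (θ : P → ℂ) 1 = 1 := by
        rw [Helper79.irr_apply_one_eq_charDegree, hj2]; simp
      rw [Helper77.linear_character_eq_one_of_mem_commutator θ h1 y hy, h1]
  have e1 := congrFun hsum y
  have e2 := congrFun hsum 1
  simp only [Finset.sum_apply, Pi.smul_apply] at e1 e2
  calc (ψ : G → ℂ) (P.subtype y) = (ψ : G → ℂ) (y : G) := rfl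
    _ = _ := e1
    _ = _ := Finset.sum_congr rfl (fun θ _ => hterm θ)
    _ = (ψ : G → ℂ) ((1 : P) : G) := e2.symm
    _ = (ψ : G → ℂ) 1 := by simp

end Gen


theorem card_two_cases {G : Type u} [Group G] (H : Subgroup G) (hH : Nat.card H = 2) :
    ∃ z ∈ H, z ≠ 1 ∧ z * z = 1 ∧ ∀ x ∈ H, x = 1 ∨ x = z := by
  obtain ⟨⟨z, hzH⟩, hz1, hzu⟩ := (Nat.card_eq_two_iff' (1 : H)).mp hH
  have hz1' : z ≠ 1 := fun h => hz1 (Subtype.ext h)
  refine ⟨z, hzH, hz1', ?_, ?_⟩
  · have h1 : orderOf (⟨z, hzH⟩ : H) ∣ 2 := hH ▸ orderOf_dvd_natCard _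
    have h2 : (⟨z, hzH⟩ : H) ^ 2 = 1 := orderOf_dvd_iff_pow_eq_one.mp h1
    have h3 := congrArg Subtype.val h2
    simpa [pow_two] using h3
  · intro x hx
    by_cases h : x = 1
    · exact Or.inl h
    · right
      have := hzu ⟨x, hx⟩ (fun h' => h (congrArg Subtype.val h'))
      exact congrArg Subtype.val this

theorem arith (m d zc e : ℕ) (hm : 0 < m) (hz2 : 2 ≤ zc) (hd2 : 2 ≤ d)
    (h1 : m * d = m + e ^ 2) (h2 : zc * e ^ 2 ≤ m * d) : zc = 2 ∧ d = 2 := by
  obtain ⟨k, rfl⟩ : ∃ k, d = k + 2 := ⟨d - 2, by omega⟩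
  obtain ⟨l, rfl⟩ : ∃ l, zc = l + 2 := ⟨zc - 2, by omega⟩
  have h3 : e ^ 2 = m * (k + 1) := by nlinarith
  rw [h3] at h2
  have h4 : m * ((l + 2) * (k + 1)) ≤ m * (k + 2) := by nlinarith
  have h5 : (l + 2) * (k + 1) ≤ k + 2 := Nat.le_of_mul_le_mul_left h4 hm
  have hl : l = 0 := by
    by_contra hl
    have : 1 ≤ l := by omega
    nlinarith
  subst hl
  have hk : k = 0 := by nlinarith
  subst hk
  exact ⟨rfl, rfl⟩

theorem forward {G : Type u} [Group G] [Finite G] [Group.IsNilpotent G] (p : ℕ) [Fact p.Prime]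
    (h : Nat.card {χ : IrrCharacter G // p ∣ charDegree (χ : G → ℂ)} = 1) :
    p = 2 ∧ IsExtraspecial 2 G := by
  classical
  haveI : Fintype G := Fintype.ofFinite G
  obtain ⟨⟨χ₀, hχ₀⟩, huniq⟩ := Nat.card_eq_one_iff_exists.mp h
  have huniq' : ∀ ψ : IrrCharacter G, p ∣ charDegree (ψ : G → ℂ) → ψ = χ₀ := by
    intro ψ hψ
    exact congrArg Subtype.val (huniq ⟨ψ, hψ⟩)
  have hsyl : ∀ (q : ℕ) [Fact q.Prime] (Q : Sylow q G), (Q : Subgroup G).Normal :=
    ((isNilpotent_of_finite_tfae (G := G)).out 0 3).mp (inferInstance : Group.IsNilpotent G)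
  obtain ⟨P⟩ : Nonempty (Sylow p G) := inferInstance
  haveI hPn : (P : Subgroup G).Normal := hsyl p P
  set D : Subgroup G := ⁅(P : Subgroup G), (P : Subgroup G)⁆ with hD
  haveI hDn : D.Normal := by rw [hD]; infer_instance
  -- Fact 1 : D is not in the kernel of χ₀
  have hD0 : ∃ x ∈ D, (χ₀ : G → ℂ) x ≠ (χ₀ : G → ℂ) 1 := by
    by_contra hcon
    push Not at hcon
    have hall : ∀ ψ : IrrCharacter G, ∀ x ∈ D, (ψ : G → ℂ) x = (ψ : G → ℂ) 1 := by
      intro ψ x hx
      by_cases hψ : p ∣ charDegree (ψ : G → ℂ)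
      · rw [huniq' ψ hψ]; exact hcon x hx
      · exact apply_eq_of_mem_commutator_of_not_dvd p (P : Subgroup G) P.2 ψ hψ x hx
    have hDbot : ∀ x ∈ D, x = 1 := by
      intro x hx
      have := Helper78.isConj_of_forall_irr_eq (g := x) (h := 1) (fun ψ => hall ψ x hx)
      exact isConj_one_left.mp this
    have hab : ∀ a ∈ (P : Subgroup G), ∀ b ∈ (P : Subgroup G), a * b = b * a := by
      intro a ha b hb
      have h1 : ⁅a, b⁆ ∈ D := Subgroup.commutator_mem_commutator ha hb
      exact commutatorElement_eq_one_iff_mul_comm.mp (hDbot _ h1)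
    have hito := Helper75.ito (P : Subgroup G) hab (χ₀ : G → ℂ) χ₀.2
    exact P.not_dvd_index (dvd_trans hχ₀ hito)
  obtain ⟨x₀, hx₀D, hx₀⟩ := hD0
  have hx₀1 : x₀ ≠ 1 := fun h => hx₀ (by rw [h])
  -- Fact 2 : sum of squares over the quotient
  haveI : Fintype (G ⧸ D) := Fintype.ofFinite _
  have hq := Helper78.sum_irr_charDegree_sq (G := G ⧸ D)
  have hG := Helper78.sum_irr_charDegree_sq (G := G)
  have hS : (Finset.univ.filter (fun ψ : IrrCharacter G =>
      ∀ n ∈ D, (ψ : G → ℂ) n = (ψ : G → ℂ) 1)) = Finset.univ.erase χ₀ := by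
    ext ψ
    simp only [Finset.mem_filter, Finset.mem_univ, true_and, Finset.mem_erase, and_true]
    constructor
    · intro hψ heq
      subst heq
      exact hx₀ (hψ x₀ hx₀D)
    · intro hne n hn
      have hψ : ¬ p ∣ charDegree (ψ : G → ℂ) := fun hd => hne (huniq' ψ hd)
      exact apply_eq_of_mem_commutator_of_not_dvd p (P : Subgroup G) P.2 ψ hψ n hn
  have hsum1 : ∑ χ' : IrrCharacter (G ⧸ D), (charDegree (χ' : G ⧸ D → ℂ)) ^ 2 =
      ∑ ψ ∈ Finset.univ.erase χ₀, (charDegree (ψ : G → ℂ)) ^ 2 := by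
    rw [← hS]
    rw [Finset.sum_subtype (Finset.univ.filter (fun ψ : IrrCharacter G =>
      ∀ n ∈ D, (ψ : G → ℂ) n = (ψ : G → ℂ) 1)) (p := fun ψ : IrrCharacter G =>
      ∀ n ∈ D, (ψ : G → ℂ) n = (ψ : G → ℂ) 1) (by intro x; simp)]
    refine Fintype.sum_equiv (Helper77.irrQuotientEquiv D) _ _ ?_
    intro χ'
    rw [← Helper80.charDegree_inflate D χ']
    rfl
  have hsum2 := Finset.add_sum_erase Finset.univ
    (fun ψ : IrrCharacter G => (charDegree (ψ : G → ℂ)) ^ 2) (Finset.mem_univ χ₀)
  have hcard := Subgroup.card_eq_card_quotient_mul_card_subgroup D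
  -- Fact 3
  have hz := card_center_mul_sq_le χ₀
  have hGnt : Nontrivial G := ⟨⟨x₀, 1, hx₀1⟩⟩
  obtain ⟨c, -, hcZ, hc1⟩ := S0015.exists_mem_center_of_normal (⊤ : Subgroup G) (by simp)
  have hz2 : 2 ≤ Nat.card (Subgroup.center G) := by
    have : 1 < Nat.card (Subgroup.center G) := by
      rw [Subgroup.one_lt_card_iff_ne_bot]
      intro hbot
      rw [hbot, Subgroup.mem_bot] at hcZ
      exact hc1 hcZ
    omega
  have hd2 : 2 ≤ Nat.card D := by
    have : 1 < Nat.card D := by
      rw [Subgroup.one_lt_card_iff_ne_bot]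
      intro hbot
      rw [hbot, Subgroup.mem_bot] at hx₀D
      exact hx₀1 hx₀D
    omega
  have hm : 0 < Nat.card (G ⧸ D) := Nat.card_pos
  -- arithmetic
  have harith : Nat.card (Subgroup.center G) = 2 ∧ Nat.card D = 2 := by
    refine arith (Nat.card (G ⧸ D)) (Nat.card D) (Nat.card (Subgroup.center G))
      (charDegree (χ₀ : G → ℂ)) hm hz2 hd2 ?_ ?_
    · rw [← hcard, ← hG, ← hsum2, ← hq, hsum1]
      ring
    · rw [← hcard]; exact hz
  obtain ⟨hzc, hdc⟩ := harith
  -- p = 2
  have hp2 : p = 2 := by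
    have hDp : IsPGroup p D := P.2.to_le (by rw [hD]; exact Subgroup.commutator_le_left _ _)
    obtain ⟨k, hk⟩ := IsPGroup.iff_card.mp hDp
    rw [hdc] at hk
    have hk0 : k ≠ 0 := by
      intro h0; rw [h0, pow_zero] at hk; omega
    have : p ∣ 2 := by rw [hk]; exact dvd_pow_self p hk0
    exact (Nat.prime_dvd_prime_iff_eq (Fact.out) Nat.prime_two).mp this
  subst hp2
  refine ⟨rfl, ?_⟩
  -- G is a 2-group
  have hq2 : ∀ q : ℕ, q.Prime → q ∣ Nat.card G → q = 2 := by
    intro q hq hqd
    haveI : Fact q.Prime := ⟨hq⟩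
    obtain ⟨Q⟩ : Nonempty (Sylow q G) := inferInstance
    haveI hQn : (Q : Subgroup G).Normal := hsyl q Q
    have hQne : (Q : Subgroup G) ≠ ⊥ := Q.ne_bot_of_dvd_card hqd
    obtain ⟨x, hxQ, hxZ, hx1⟩ := S0015.exists_mem_center_of_normal (Q : Subgroup G) hQne
    have ho1 : orderOf x ∣ 2 := by
      have := Subgroup.orderOf_dvd_natCard (Subgroup.center G) hxZ
      rwa [hzc] at this
    have ho2 : orderOf x = 2 := by
      rcases (Nat.dvd_prime Nat.prime_two).mp ho1 with h | h
      · exact absurd (orderOf_eq_one_iff.mp h) hx1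
      · exact h
    obtain ⟨k, hk⟩ := Q.2 ⟨x, hxQ⟩
    have hk' : x ^ (q ^ k) = 1 := by
      have := congrArg Subtype.val hk
      simpa using this
    have h2 : 2 ∣ q ^ k := ho2 ▸ orderOf_dvd_of_pow_eq_one hk'
    have h3 : 2 ∣ q := Nat.Prime.dvd_of_dvd_pow Nat.prime_two h2
    exact ((Nat.prime_dvd_prime_iff_eq Nat.prime_two hq).mp h3).symm
  have hG2 : IsPGroup 2 G := by
    apply IsPGroup.of_card (n := (Nat.card G).primeFactorsList.length)
    exact Nat.eq_prime_pow_of_unique_prime_dvd Nat.card_pos.ne' (fun {d} hd hdd => hq2 d hd hdd)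
  -- P = ⊤
  have hPtop : (P : Subgroup G) = ⊤ := by
    rw [← Subgroup.index_eq_one]
    obtain ⟨n, hn⟩ := IsPGroup.iff_card.mp hG2
    have h1 : (P : Subgroup G).index ∣ 2 ^ n := hn ▸ Subgroup.index_dvd_card _
    obtain ⟨j, -, hj⟩ := (Nat.dvd_prime_pow Nat.prime_two).mp h1
    have hnd := P.not_dvd_index
    rw [hj] at hnd ⊢
    have : j = 0 := by
      by_contra hj0
      exact hnd (dvd_pow_self 2 hj0)
    rw [this, pow_zero]
  have hDcomm : D = commutator G := by
    rw [hD, hPtop, commutator_def]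
  rw [hDcomm] at hdc
  -- the central involution
  obtain ⟨z, hzZ, hz1, hzz, hzall⟩ := card_two_cases (Subgroup.center G) hzc
  have hcomm_le : commutator G ≤ Subgroup.center G := by
    obtain ⟨w, hwC, hw1, hww, hwall⟩ := card_two_cases (commutator G) hdc
    intro c hc
    rw [Subgroup.mem_center_iff]
    intro g
    rcases hwall c hc with rfl | rfl
    · simp
    · have hconj : g * c * g⁻¹ ∈ commutator G :=
        (inferInstance : (commutator G).Normal).conj_mem c hc g
      rcases hwall _ hconj with h | h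
      · exfalso
        apply hw1
        have : g * c = g := by
          have := congrArg (· * g) h
          simpa using this
        simpa using this
      · have := congrArg (· * g) h
        simpa using this
  have hcomm_eq : commutator G = Subgroup.center G :=
    Subgroup.eq_of_le_of_card_ge hcomm_le (by rw [hzc, hdc])
  have hcommel : ∀ a b : G, a * b * a⁻¹ * b⁻¹ = 1 ∨ a * b * a⁻¹ * b⁻¹ = z := by
    intro a b
    apply hzall
    rw [← hcomm_eq, ← commutatorElement_def]
    exact Subgroup.commutator_mem_commutator (Subgroup.mem_top a) (Subgroup.mem_top b)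
  apply Helper90.isExtraspecial_two_of hG2 z hz1
  · intro x
    constructor
    · intro hx; exact hzall x hx
    · rintro (rfl | rfl)
      · exact Subgroup.one_mem _
      · exact hzZ
  · exact hcommel
  · intro a
    apply hzall
    rw [Subgroup.mem_center_iff]
    intro b
    -- c = [a,b] central with c*c = 1
    have hc : a * b * a⁻¹ * b⁻¹ ∈ Subgroup.center G := by
      rcases hcommel a b with h | h
      · rw [h]; exact Subgroup.one_mem _
      · rw [h]; exact hzZ
    have hcc : (a * b * a⁻¹ * b⁻¹) * (a * b * a⁻¹ * b⁻¹) = 1 := by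
      rcases hcommel a b with h | h
      · rw [h]; simp
      · rw [h]; exact hzz
    set c := a * b * a⁻¹ * b⁻¹ with hcdef
    have hab : a * b = c * b * a := by rw [hcdef]; group
    have hca : a * c = c * a := Subgroup.mem_center_iff.mp hc a
    calc b * (a * a) = (c * c) * b * a * a := by rw [hcc]; group
      _ = c * (c * b * a) * a := by group
      _ = c * (a * b) * a := by rw [hab]
      _ = (c * a) * b * a := by group
      _ = (a * c) * b * a := by rw [hca]
      _ = a * (c * b * a) := by group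
      _ = a * (a * b) := by rw [hab]
      _ = a * a * b := by group
  · by_contra hcon
    push Not at hcon
    have : commutator G = ⊥ := by
      rw [commutator_def, Subgroup.commutator_eq_bot_iff_le_centralizer]
      intro g _
      rw [Subgroup.mem_centralizer_iff]
      intro h _
      exact hcon h g
    rw [this] at hdc
    simp at hdc


/-- for a nonlinear irreducible character of an extraspecial 2-group, `2 χ(1)² = |G|` -/
theorem two_mul_deg_sq {G : Type u} [Group G] [Fintype G] (z : G) (hzZ : z ∈ Subgroup.center G)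
    (hzz : z * z = 1) (hzall : ∀ x ∈ Subgroup.center G, x = 1 ∨ x = z) (hz1 : z ≠ 1)
    (hcomm : ∀ a b : G, ⁅a, b⁆ = 1 ∨ ⁅a, b⁆ = z)
    (χ : IrrCharacter G) (hχ : charDegree (χ : G → ℂ) ≠ 1) :
    2 * (charDegree (χ : G → ℂ)) ^ 2 = Nat.card G := by
  classical
  -- z not in the kernel
  have hzker : z ∉ Helper77.irrKer χ := by
    intro hz
    apply hχ
    apply deg_eq_one_of_comm_le_ker
    intro a b
    rcases hcomm a b with h | h
    · rw [h]; exact Subgroup.one_mem _
    · rw [h]; exact hz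
  have hzC : z ∈ Helper77.irrCenter χ := center_le_irrCenter χ hzZ
  set s := Helper77.irrCenterScalar χ ⟨z, hzC⟩ with hs
  have hss : s * s = 1 := by
    rw [hs, ← map_mul]
    have : (⟨z, hzC⟩ : Helper77.irrCenter χ) * ⟨z, hzC⟩ = 1 := Subtype.ext hzz
    rw [this, map_one]
  have hdeg0 : (χ : G → ℂ) 1 ≠ 0 := by
    rw [Helper79.irr_apply_one_eq_charDegree]
    exact_mod_cast (Helper79.irr_charDegree_pos χ).ne'
  have hs1 : s ≠ 1 := by
    intro h1
    apply hzker
    rw [Helper77.mem_irrKer]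
    have := Helper77.irrCenterScalar_apply χ ⟨z, hzC⟩
    rw [← hs, h1] at this
    field_simp at this
    exact this.symm
  have hsneg : s = -1 := by
    have : (s - 1) * (s + 1) = 0 := by ring_nf; rw [pow_two, hss]; ring
    rcases mul_eq_zero.mp this with h | h
    · exact absurd (sub_eq_zero.mp h) hs1
    · exact eq_neg_of_add_eq_zero_left h
  have hmul : ∀ g : G, (χ : G → ℂ) (z * g) = - (χ : G → ℂ) g := by
    intro g
    have := Helper77.irr_center_mul χ ⟨z, hzC⟩ g
    rw [← hs, hsneg] at this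
    simpa using this
  -- vanishing off the centre
  have hvan : ∀ g : G, g ∉ Subgroup.center G → (χ : G → ℂ) g = 0 := by
    intro g hg
    rw [Subgroup.mem_center_iff] at hg
    push Not at hg
    obtain ⟨h, hh⟩ := hg
    have hc : ⁅g, h⁆ = z := by
      rcases hcomm g h with h1 | h1
      · exfalso
        apply hh
        exact (commutatorElement_eq_one_iff_mul_comm.mp h1).symm
      · exact h1
    have hconj : h * g * h⁻¹ = z * g := by
      have hzinv : z⁻¹ = z := inv_eq_of_mul_eq_one_right hzz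
      have h2 : h * g * h⁻¹ = (⁅g, h⁆)⁻¹ * g := by
        rw [commutatorElement_def]; group
      rw [h2, hc, hzinv]
    have hcl := Helper78.isClassFunction_irr χ g h
    rw [hconj, hmul] at hcl
    have : (2 : ℂ) * (χ : G → ℂ) g = 0 := by linear_combination -hcl
    simpa using this
  have hsumsq := Helper77.sum_normSq_irr χ
  have hsplit : ∑ g : G, ‖(χ : G → ℂ) g‖ ^ 2 =
      ‖(χ : G → ℂ) 1‖ ^ 2 + ‖(χ : G → ℂ) z‖ ^ 2 := by
    apply Finset.sum_eq_add (1 : G) z (Ne.symm hz1)
    · intro c _ hc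
      have : c ∉ Subgroup.center G := by
        intro hcZ
        rcases hzall c hcZ with h | h
        · exact hc.1 h
        · exact hc.2 h
      rw [hvan c this]; simp
    · intro h; exact absurd (Finset.mem_univ _) h
    · intro h; exact absurd (Finset.mem_univ _) h
  have hzval : ‖(χ : G → ℂ) z‖ = ‖(χ : G → ℂ) 1‖ := by
    have := hmul 1
    rw [mul_one] at this
    rw [this, norm_neg]
  rw [hsplit, hzval, norm_one] at hsumsq
  have : ((2 * (charDegree (χ : G → ℂ)) ^ 2 : ℕ) : ℝ) = (Nat.card G : ℝ) := by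
    push_cast
    linarith
  exact_mod_cast this

theorem backward {G : Type u} [Group G] [Finite G] (hE : IsExtraspecial 2 G) :
    Nat.card {χ : IrrCharacter G // 2 ∣ charDegree (χ : G → ℂ)} = 1 := by
  classical
  haveI : Fintype G := Fintype.ofFinite G
  obtain ⟨⟨h2, -, hcomm⟩, hz⟩ := hE
  obtain ⟨z, hzZ, hz1, hzz, hzall⟩ := card_two_cases (Subgroup.center G) hz
  have hcommel : ∀ a b : G, ⁅a, b⁆ = 1 ∨ ⁅a, b⁆ = z := by
    intro a b
    apply hzall
    rw [← hcomm]
    exact Subgroup.commutator_mem_commutator (Subgroup.mem_top a) (Subgroup.mem_top b)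
  have hnl : ∀ χ : IrrCharacter G, charDegree (χ : G → ℂ) ≠ 1 →
      2 * (charDegree (χ : G → ℂ)) ^ 2 = Nat.card G :=
    fun χ hχ => two_mul_deg_sq z hzZ hzz hzall hz1 hcommel χ hχ
  -- the degree condition
  have hiff : ∀ χ : IrrCharacter G, 2 ∣ charDegree (χ : G → ℂ) ↔ charDegree (χ : G → ℂ) ≠ 1 := by
    intro χ
    constructor
    · intro hd h1
      rw [h1] at hd
      omega
    · intro hne
      obtain ⟨n, hn⟩ := IsPGroup.iff_card.mp h2
      have hd := Helper79.irr_charDegree_dvd_card χ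
      rw [hn] at hd
      obtain ⟨j, -, hj⟩ := (Nat.dvd_prime_pow Nat.prime_two).mp hd
      rw [hj]
      apply dvd_pow_self
      intro h0
      rw [h0, pow_zero] at hj
      exact hne hj
  -- counting
  have hsum := Helper78.sum_irr_charDegree_sq (G := G)
  have hlin := Helper77.card_linear_characters (G := G)
  have hidx : (commutator G).index * 2 = Nat.card G := by
    rw [← hz, ← hcomm]
    exact (commutator G).index_mul_card
  set L := Finset.univ.filter (fun χ : IrrCharacter G => charDegree (χ : G → ℂ) = 1) with hL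
  set N := Finset.univ.filter (fun χ : IrrCharacter G => ¬ charDegree (χ : G → ℂ) = 1) with hN
  have hLcard : L.card = (commutator G).index := by
    rw [← hlin, Nat.card_eq_fintype_card, Fintype.card_subtype]
    congr 1
    ext χ
    simp only [hL, Finset.mem_filter, Finset.mem_univ, true_and]
    rw [Helper79.irr_apply_one_eq_charDegree]
    exact_mod_cast Iff.rfl
  have hsplit := Finset.sum_filter_add_sum_filter_not Finset.univ
    (fun χ : IrrCharacter G => charDegree (χ : G → ℂ) = 1)
    (fun χ : IrrCharacter G => (charDegree (χ : G → ℂ)) ^ 2)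
  have hLsum : ∑ χ ∈ L, (charDegree (χ : G → ℂ)) ^ 2 = L.card := by
    rw [Finset.card_eq_sum_ones]
    apply Finset.sum_congr rfl
    intro χ hχ
    rw [(Finset.mem_filter.mp hχ).2]; norm_num
  have hNsum : 2 * ∑ χ ∈ N, (charDegree (χ : G → ℂ)) ^ 2 = N.card * Nat.card G := by
    rw [Finset.mul_sum, Finset.card_eq_sum_ones, Finset.sum_mul]
    apply Finset.sum_congr rfl
    intro χ hχ
    rw [hnl χ (Finset.mem_filter.mp hχ).2, one_mul]
  have hNcard : N.card = 1 := by
    have hpos : 0 < Nat.card G := Nat.card_pos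
    have e1 : ∑ χ ∈ L, (charDegree (χ : G → ℂ)) ^ 2 + ∑ χ ∈ N, (charDegree (χ : G → ℂ)) ^ 2
        = Nat.card G := by rw [hsplit]; exact hsum
    rw [hLsum, hLcard] at e1
    have e2 : Nat.card G + N.card * Nat.card G = 2 * Nat.card G := by
      rw [← hNsum]; omega
    have e3 : N.card * Nat.card G = 1 * Nat.card G := by omega
    exact Nat.eq_of_mul_eq_mul_right hpos e3
  rw [Nat.card_eq_fintype_card, Fintype.card_subtype, ← hNcard]
  congr 1
  ext χ
  simp only [hN, Finset.mem_filter, Finset.mem_univ, true_and]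
  exact hiff χ

/-- Let p be a prime and G a finite nilpotent group. Then G has exactly one irreducible complex character of degree divisible by p if and only if p = 2 and G is an extraspecial 2-group. -/
theorem result {G : Type*} [Group G] [Finite G] [Group.IsNilpotent G] (p : ℕ) [Fact p.Prime] : Nat.card {χ : Cfsg.IrrCharacter G // p ∣ Cfsg.charDegree (χ : G → ℂ)} = 1 ↔ (p = 2 ∧ Cfsg.IsExtraspecial 2 G) := by
  constructor
  · exact forward p
  · rintro ⟨rfl, hE⟩
    exact backward hE

end Cfsg.Agent.S4762
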