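import Cfsg.Statements.S2306
import Cfsg.Agent.Lib.Helper41.SL2BorelMackey2
import Cfsg.Agent.Lib.Helper80.CharBasic
import Cfsg.Agent.Lib.Helper78.CharMore
import Cfsg.Agent.S0148

set_option autoImplicit false
open Cfsg

namespace Cfsg.Agent.S2306

open Cfsg.Agent.Lib.Helper41 in
/-- the linear character `b ↦ α(b₁₁)` of the Borel subgroup of `SL₂`, as a homomorphism -/
noncomputable def borelHom {F : Type*} [Field F] (α : MulChar F ℂ) : borelSub F →* ℂ where
  toFun b := α (((b : Matrix.SpecialLinearGroup (Fin 2) F) : Matrix (Fin 2) (Fin 2) F) 0 0)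
  map_one' := by simp
  map_mul' b b' := by
    have h10 : ((b' : Matrix.SpecialLinearGroup (Fin 2) F) : Matrix (Fin 2) (Fin 2) F) 1 0 = 0 :=
      b'.2
    rw [← map_mul]
    congr 1
    simp [Matrix.mul_apply, Fin.sum_univ_two, h10]

open Cfsg.Agent.Lib.Helper41 in
theorem isIrrCharacter_borelHom {F : Type*} [Field F] (α : MulChar F ℂ) :
    Cfsg.IsIrrCharacter (borelSub F)
      (fun b => α (((b : Matrix.SpecialLinearGroup (Fin 2) F) : Matrix (Fin 2) (Fin 2) F) 0 0)) := by
  have h := Cfsg.Agent.Lib.Helper80.isIrrCharacter_of_hom (borelHom α).toHomUnits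
  simpa [MonoidHom.coe_toHomUnits, borelHom] using h

open Cfsg.Agent.Lib.Helper41 in
/-- Over a finite field F, for a multiplicative character α of F, the function induced to SL₂ from the linear character b ↦ α(b₁₁) of the upper triangular subgroup is an irreducible character if and only if α² ≠ 1. -/
theorem result {F : Type*} [Field F] [Fintype F] [DecidableEq F] (α : MulChar F ℂ) :
    Cfsg.IsIrrCharacter (Matrix.SpecialLinearGroup (Fin 2) F) (Cfsg.indFun ((Cfsg.upperTriangularGL 2 F).comap Matrix.SpecialLinearGroup.toGL) (fun b => α (((b : Matrix.SpecialLinearGroup (Fin 2) F) : Matrix (Fin 2) (Fin 2) F) 0 0))) ↔ α ^ 2 ≠ 1 := by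
  classical
  rw [comap_upperTriangularGL_eq]
  have hθ := Cfsg.Agent.Lib.Helper78.IsIrrCharacter.isCharacter (isIrrCharacter_borelHom α)
  have hΘ := Cfsg.Agent.S0148.result (borelSub F) _ hθ
  rw [Cfsg.Agent.Lib.Helper78.isIrrCharacter_iff_classInner_self hΘ, classInner_indFun_borel α α]
  have hiff : α = α⁻¹ ↔ α ^ 2 = 1 := by
    rw [sq, eq_inv_iff_mul_eq_one]
  simp only [if_true]
  by_cases h : α = α⁻¹
  · rw [if_pos h]
    constructor
    · intro h2; norm_num at h2
    · intro h2; exact absurd (hiff.mp h) h2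
  · rw [if_neg h]
    constructor
    · intro _ h2; exact h (hiff.mpr h2)
    · intro _; norm_num

end Cfsg.Agent.S2306
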