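import Cfsg.Statements.S2307
import Cfsg.Agent.Lib.Helper39.SL2Char2

set_option autoImplicit false
set_option linter.style.haveILetI false
open Cfsg

namespace Cfsg.Agent.S2307

open Cfsg.Agent.Lib.Helper39 Cfsg.Agent.Lib.Helper41 in
/-- the two constituents of the principal series of a non-trivial character cannot both be
invariant under all diagonal automorphisms -/
theorem not_all_invariant {F : Type*} [Field F] [Fintype F] [DecidableEq F] (α : MulChar F ℂ)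
    (hα1 : α ≠ 1) {χ₁ χ₂ : Matrix.SpecialLinearGroup (Fin 2) F → ℂ}
    (h₁ : Cfsg.IsIrrCharacter (Matrix.SpecialLinearGroup (Fin 2) F) χ₁)
    (h₂ : Cfsg.IsIrrCharacter (Matrix.SpecialLinearGroup (Fin 2) F) χ₂) (hne : χ₁ ≠ χ₂)
    (hsum : psSL α = χ₁ + χ₂)
    (hinv : ∀ (t : Fˣ) (g : Matrix.SpecialLinearGroup (Fin 2) F),
      χ₁ (conjGL (dT t 1) g) = χ₁ g) : False := by
  have hinv₂ : ∀ (t : Fˣ) (g : Matrix.SpecialLinearGroup (Fin 2) F),
      χ₂ (conjGL (dT t 1) g) = χ₂ g := by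
    intro t g
    have e1 := congrFun hsum (conjGL (dT t 1) g)
    have e2 := congrFun hsum g
    rw [psSL_conj] at e1
    simp only [Pi.add_apply] at e1 e2
    rw [hinv] at e1
    linear_combination e2 - e1
  have hP1 : Cfsg.classInner (psSL α) χ₁ = 1 := by
    rw [hsum, Cfsg.Agent.Lib.Helper78.classInner_add_left,
      Cfsg.Agent.Lib.Helper78.classInner_irr_self h₁,
      Cfsg.Agent.Lib.Helper78.classInner_irr_ne h₂ h₁ (Ne.symm hne)]
    norm_num
  have hP2 : Cfsg.classInner (psSL α) χ₂ = 1 := by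
    rw [hsum, Cfsg.Agent.Lib.Helper78.classInner_add_left,
      Cfsg.Agent.Lib.Helper78.classInner_irr_self h₂,
      Cfsg.Agent.Lib.Helper78.classInner_irr_ne h₁ h₂ hne]
    norm_num
  obtain ⟨n₁, ρ₁, hirr₁, rfl⟩ := h₁
  obtain ⟨n₂, ρ₂, hirr₂, rfl⟩ := h₂
  have ha₁ := fixUS_ne_zero_of_constituent α ρ₁ hirr₁ (by rw [hP1]; exact one_ne_zero)
  have ha₂ := fixUS_ne_zero_of_constituent α ρ₂ hirr₂ (by rw [hP2]; exact one_ne_zero)
  obtain ⟨m₁, hc₁, he₁⟩ := exists_int_char_upperU_of_inv ρ₁ hinv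
  obtain ⟨m₂, hc₂, he₂⟩ := exists_int_char_upperU_of_inv ρ₂ hinv₂
  have hq : 2 ≤ Fintype.card F := Fintype.one_lt_card
  have hd : (Module.finrank ℂ (Fin n₁ → ℂ) : ℤ) + (Module.finrank ℂ (Fin n₂ → ℂ) : ℤ) =
      (Fintype.card F : ℤ) + 1 := by
    have e := congrFun hsum 1
    rw [psSL_one] at e
    simp only [Pi.add_apply, Representation.char_one] at e
    exact_mod_cast e.symm
  have hm : m₁ + m₂ = 1 := by
    have e := congrFun hsum (upperU 1)
    rw [psSL_upperU α 1 one_ne_zero] at e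
    simp only [Pi.add_apply] at e
    rw [hc₁, hc₂] at e
    exact_mod_cast e.symm
  have hd₁ : (1 : ℤ) ≤ (Module.finrank ℂ (Fin n₁ → ℂ) : ℤ) := by
    haveI := Cfsg.Agent.Lib.Helper78.nontrivial_of_isIrreducible ρ₁ hirr₁
    have : 0 < Module.finrank ℂ (Fin n₁ → ℂ) := Module.finrank_pos
    exact_mod_cast this
  have hd₂ : (1 : ℤ) ≤ (Module.finrank ℂ (Fin n₂ → ℂ) : ℤ) := by
    haveI := Cfsg.Agent.Lib.Helper78.nontrivial_of_isIrreducible ρ₂ hirr₂
    have : 0 < Module.finrank ℂ (Fin n₂ → ℂ) := Module.finrank_pos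
    exact_mod_cast this
  have ha₁' : (1 : ℤ) ≤ (fixUS ρ₁ : ℤ) := by
    have : 1 ≤ fixUS ρ₁ := Nat.one_le_iff_ne_zero.mpr ha₁
    exact_mod_cast this
  have ha₂' : (1 : ℤ) ≤ (fixUS ρ₂ : ℤ) := by
    have : 1 ≤ fixUS ρ₂ := Nat.one_le_iff_ne_zero.mpr ha₂
    exact_mod_cast this
  have hq' : (2 : ℤ) ≤ (Fintype.card F : ℤ) := by exact_mod_cast hq
  -- a₁ + a₂ = 2
  have hsumA : (Fintype.card F : ℤ) * ((fixUS ρ₁ : ℤ) + (fixUS ρ₂ : ℤ)) =
      (Fintype.card F : ℤ) * 2 := by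
    have : m₂ = 1 - m₁ := by omega
    subst this
    linear_combination (-1 : ℤ) * he₁ - he₂ + hd
  have hA : (fixUS ρ₁ : ℤ) + (fixUS ρ₂ : ℤ) = 2 :=
    mul_left_cancel₀ (by omega) hsumA
  have hA₁ : (fixUS ρ₁ : ℤ) = 1 := by omega
  have hA₂ : (fixUS ρ₂ : ℤ) = 1 := by omega
  rw [hA₁, mul_one] at he₁
  rw [hA₂, mul_one] at he₂
  have hm₁ : m₁ ≤ 1 := by
    by_contra h
    rw [not_le] at h
    nlinarith
  have hm₂ : m₂ ≤ 1 := by
    by_contra h
    rw [not_le] at h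
    nlinarith
  have hcases : m₁ = 1 ∨ m₂ = 1 := by omega
  -- a linear constituent
  have hlin : ∀ (n : ℕ) (ρ : Representation ℂ (Matrix.SpecialLinearGroup (Fin 2) F) (Fin n → ℂ)),
      Cfsg.classInner (psSL α) ρ.character = 1 →
      (Module.finrank ℂ (Fin n → ℂ) : ℤ) = 1 → False := by
    intro n ρ hP hdeg
    have hdeg' : Module.finrank ℂ (Fin n → ℂ) = 1 := by exact_mod_cast hdeg
    have hone : ρ.character 1 = 1 := by rw [Representation.char_one, hdeg']; simp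
    obtain ⟨μ, hμ⟩ := exists_hom_of_degree_one
      (Cfsg.Agent.Lib.Helper78.isCharacter_of_rep ρ) hone
    apply hα1
    apply eq_one_of_linear_constituent α μ
    rw [← hμ, hP]
    exact one_ne_zero
  rcases hcases with h | h
  · rw [h] at he₁
    exact hlin n₁ ρ₁ hP1 (by linarith)
  · rw [h] at he₂
    exact hlin n₂ ρ₂ hP2 (by linarith)

open Cfsg.Agent.Lib.Helper39 Cfsg.Agent.Lib.Helper41 in
/-- Over a finite field F with q elements, q odd, let α be the multiplicative character of F of order 2. The character of SL₂ induced from the linear character b ↦ α(b₁₁) of the upper triangular subgroup is the sum of two distinct irreducible characters, each of degree (q + 1)/2, which are conjugate under GL₂: some fixed element of GL₂ conjugates the one into the other. -/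
theorem result {F : Type*} [Field F] [Fintype F] [DecidableEq F] (hodd : Odd (Fintype.card F)) (α : MulChar F ℂ)
    (hα : α ^ 2 = 1) (hα1 : α ≠ 1) :
    ∃ χ₁ χ₂ : Matrix.SpecialLinearGroup (Fin 2) F → ℂ, Cfsg.IsIrrCharacter (Matrix.SpecialLinearGroup (Fin 2) F) χ₁ ∧ Cfsg.IsIrrCharacter (Matrix.SpecialLinearGroup (Fin 2) F) χ₂ ∧ χ₁ ≠ χ₂ ∧
      Cfsg.indFun ((Cfsg.upperTriangularGL 2 F).comap Matrix.SpecialLinearGroup.toGL) (fun b => α (((b : Matrix.SpecialLinearGroup (Fin 2) F) : Matrix (Fin 2) (Fin 2) F) 0 0)) = χ₁ + χ₂ ∧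
      χ₁ 1 = (((Fintype.card F + 1) / 2 : ℕ) : ℂ) ∧ χ₂ 1 = (((Fintype.card F + 1) / 2 : ℕ) : ℂ) ∧
      ∃ x : Matrix.GeneralLinearGroup (Fin 2) F, ∀ g h : Matrix.SpecialLinearGroup (Fin 2) F,
        Matrix.SpecialLinearGroup.toGL h = x * Matrix.SpecialLinearGroup.toGL g * x⁻¹ → χ₂ h = χ₁ g := by
  classical
  rw [comap_upperTriangularGL_eq]
  obtain ⟨χ₁, χ₂, h₁, h₂, hne, hsum⟩ :=
    exists_two_irr_of_classInner_eq_two (isCharacter_psSL α) (classInner_psSL_self α hα)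
  have hex : ∃ (t : Fˣ) (g : Matrix.SpecialLinearGroup (Fin 2) F),
      χ₁ (conjGL (dT t 1) g) ≠ χ₁ g := by
    by_contra hall
    push Not at hall
    exact not_all_invariant α hα1 h₁ h₂ hne hsum hall
  obtain ⟨t, g₀, ht⟩ := hex
  have hirrσ : Cfsg.IsIrrCharacter (Matrix.SpecialLinearGroup (Fin 2) F)
      (χ₁ ∘ (conjGL (dT t 1))) :=
    Cfsg.Agent.Lib.Helper81.isIrrCharacter_comp_mulEquiv h₁ (conjGL (dT t 1))
  have hPσ : psSL α ∘ (conjGL (dT t 1)) = psSL α := by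
    funext g
    exact psSL_conj α t g
  have hinner : Cfsg.classInner (χ₁ + χ₂) (χ₁ ∘ (conjGL (dT t 1))) ≠ 0 := by
    rw [← hsum, ← hPσ]
    have := Cfsg.Agent.Lib.Helper75.classInner_comp_equiv (conjGL (dT t 1)).toEquiv (psSL α) χ₁
    have h' : Cfsg.classInner (psSL α ∘ ⇑(conjGL (dT t 1))) (χ₁ ∘ ⇑(conjGL (dT t 1))) =
        Cfsg.classInner (psSL α) χ₁ := this
    rw [h', hsum, Cfsg.Agent.Lib.Helper78.classInner_add_left,
      Cfsg.Agent.Lib.Helper78.classInner_irr_self h₁,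
      Cfsg.Agent.Lib.Helper78.classInner_irr_ne h₂ h₁ (Ne.symm hne)]
    norm_num
  have h2 : χ₁ ∘ (conjGL (dT t 1)) = χ₂ := by
    rcases eq_or_eq_of_classInner_add_ne_zero h₁ h₂ hirrσ hinner with h | h
    · exact absurd (congrFun h g₀) ht
    · exact h
  have hdeg : χ₂ 1 = χ₁ 1 := by
    rw [← h2]; simp
  have hone := congrFun hsum 1
  rw [psSL_one] at hone
  simp only [Pi.add_apply, hdeg] at hone
  obtain ⟨n₁, hn₁⟩ : ∃ n : ℕ, χ₁ 1 = (n : ℂ) := by
    obtain ⟨n, ρ, -, rfl⟩ := h₁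
    exact ⟨_, Representation.char_one ρ⟩
  rw [hn₁] at hone
  have hone' : Fintype.card F + 1 = n₁ + n₁ := by exact_mod_cast hone
  have hn₁' : n₁ = (Fintype.card F + 1) / 2 := by omega
  refine ⟨χ₁, χ₂, h₁, h₂, hne, hsum, ?_, ?_, (dT t 1)⁻¹, ?_⟩
  · rw [hn₁, hn₁']
  · rw [hdeg, hn₁, hn₁']
  · intro g h hgh
    rw [← h2]
    simp only [Function.comp_apply]
    congr 1
    apply toGL_injective
    rw [toGL_conjGL, hgh]
    group

end Cfsg.Agent.S2307
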