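import Cfsg.Statements.S2322
import Cfsg.Agent.Lib.Helper39.SL2Ell

set_option autoImplicit false
open Cfsg

namespace Cfsg.Agent.S2322

/-- Over a finite field F with q elements, q odd: every irreducible complex character of SL₂ of degree q − 1 or (q − 1)/2 vanishes at every diagonal matrix whose diagonal entry a has a² ≠ 1, and every irreducible complex character of degree q + 1 or (q + 1)/2 vanishes at every element with no eigenvector in F². -/
theorem result {F : Type*} [Field F] [Fintype F] (hodd : Odd (Fintype.card F)) (χ : Matrix.SpecialLinearGroup (Fin 2) F → ℂ) (hχ : Cfsg.IsIrrCharacter (Matrix.SpecialLinearGroup (Fin 2) F) χ) (g : Matrix.SpecialLinearGroup (Fin 2) F) :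
    ((χ 1 = (Fintype.card F : ℂ) - 1 ∨ χ 1 = (((Fintype.card F - 1) / 2 : ℕ) : ℂ)) →
      (g : Matrix (Fin 2) (Fin 2) F) 0 1 = 0 → (g : Matrix (Fin 2) (Fin 2) F) 1 0 = 0 → (g : Matrix (Fin 2) (Fin 2) F) 0 0 ^ 2 ≠ 1 → χ g = 0) ∧
    ((χ 1 = (Fintype.card F : ℂ) + 1 ∨ χ 1 = (((Fintype.card F + 1) / 2 : ℕ) : ℂ)) →
      (∀ (c : F) (v : Fin 2 → F), v ≠ 0 → (g : Matrix (Fin 2) (Fin 2) F).mulVec v ≠ c • v) → χ g = 0) := by
  classical
  obtain ⟨n, ρ, hirr, rfl⟩ := hχ
  have hq2 : 2 ≤ Fintype.card F := Fintype.one_lt_card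
  have hodd' := hodd
  obtain ⟨k, hk⟩ := hodd'
  constructor
  · intro hdeg h01 h10 hne
    by_cases hq5 : 5 ≤ Fintype.card F
    · have h0 : Cfsg.Agent.Lib.Helper39.fixUS ρ = 0 := by
        obtain ⟨-, -, h3, -, h5⟩ := Cfsg.Agent.Lib.Helper39.fixUS_of_degree_odd hodd hq5 ρ hirr
        rw [Representation.char_one] at hdeg
        rcases hdeg with hd | hd
        · apply h3
          have : (Module.finrank ℂ (Fin n → ℂ) : ℂ) + 1 = (Fintype.card F : ℂ) := by
            rw [hd]; ring
          exact_mod_cast this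
        · apply h5
          have hd' : Module.finrank ℂ (Fin n → ℂ) = (Fintype.card F - 1) / 2 := by
            exact_mod_cast hd
          omega
      exact Cfsg.Agent.Lib.Helper39.char_regular_diag_eq_zero_SL ρ h0 g h01 h10 hne
    · exfalso
      apply hne
      have hq3 : Fintype.card F = 3 := by omega
      have hdet := Cfsg.Agent.Lib.Helper41.sl2_det g
      rw [h01, zero_mul, sub_zero] at hdet
      have h00 : (g : Matrix (Fin 2) (Fin 2) F) 0 0 ≠ 0 := by
        intro h0; rw [h0, zero_mul] at hdet; exact zero_ne_one hdet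
      have := FiniteField.pow_card_sub_one_eq_one _ h00
      rw [hq3] at this
      exact this
  · intro hdeg hg
    rw [Representation.char_one] at hdeg
    rcases hdeg with hd | hd
    · have hd' : Module.finrank ℂ (Fin n → ℂ) = Fintype.card F + 1 := by exact_mod_cast hd
      have h0 := Cfsg.Agent.Lib.Helper39.fixUS_ne_zero_of_degree_add_one_odd hodd ρ hirr hd'
      rcases Cfsg.Agent.Lib.Helper39.fixUS_cases_SL ρ hirr h0 with
        ⟨α, hα⟩ | h1 | hq' | ⟨-, h2, -⟩
      · rw [hα]; exact Cfsg.Agent.Lib.Helper39.psSL_elliptic α g hg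
      · omega
      · omega
      · omega
    · have hd' : Module.finrank ℂ (Fin n → ℂ) = (Fintype.card F + 1) / 2 := by exact_mod_cast hd
      have hd2 : 2 * Module.finrank ℂ (Fin n → ℂ) = Fintype.card F + 1 := by omega
      by_cases h0 : Cfsg.Agent.Lib.Helper39.fixUS ρ = 0
      · by_cases hq5 : 5 ≤ Fintype.card F
        · exfalso
          have := (Cfsg.Agent.Lib.Helper39.fixUS_of_degree_odd hodd hq5 ρ hirr).2.2.2.1 hd2
          omega
        · have hq3 : Fintype.card F = 3 := by omega
          exact Cfsg.Agent.Lib.Helper39.char_elliptic_of_cusp_three hq3 ρ hirr h0 (by omega) g hg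
      · exact Cfsg.Agent.Lib.Helper39.char_elliptic_of_half ρ hirr h0 hd2 g hg

end Cfsg.Agent.S2322
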