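import Cfsg.Statements.S4765
import Cfsg.Agent.S2299
import Cfsg.Agent.S2300
import Cfsg.Agent.Lib.Helper77.Deflation
import Cfsg.Agent.Lib.Helper39.SL2Char

set_option autoImplicit false
open Cfsg

namespace Cfsg.Agent.S4765


theorem charDegree_eq_of_natCast {G : Type*} [Group G] (χ : G → ℂ) (k : ℕ) (h : χ 1 = (k : ℂ)) :
    Cfsg.charDegree χ = k := by
  unfold Cfsg.charDegree
  rw [h]
  simp

/-- the Steinberg character of `SL₂(q)` is trivial on the centre -/
theorem steinberg_center {F : Type*} [Field F] [Fintype F] [DecidableEq F]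
    {V : Type*} [AddCommGroup V] [Module ℂ V] [FiniteDimensional ℂ V]
    (ρ : Representation ℂ (Matrix.SpecialLinearGroup (Fin 2) F) V) (hρ : ρ.IsIrreducible)
    (hd : Module.finrank ℂ V = Fintype.card F) (z : Matrix.SpecialLinearGroup (Fin 2) F)
    (hz : z ∈ Subgroup.center (Matrix.SpecialLinearGroup (Fin 2) F)) :
    ρ.character z = ρ.character 1 := by
  rw [Cfsg.Agent.Lib.Helper39.steinberg_SL ρ hρ hd z,
    Cfsg.Agent.Lib.Helper39.steinberg_SL ρ hρ hd 1]
  congr 1
  unfold Cfsg.indFun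
  congr 1
  refine Finset.sum_congr rfl (fun x _ => ?_)
  have hzB : z ∈ Cfsg.Agent.Lib.Helper41.borelSub F := by
    rw [Cfsg.Agent.Lib.Helper41.mem_borelSub]
    rcases (Cfsg.Agent.Lib.Helper41.mem_center_iff_pm z).mp hz with h | h <;> rw [h] <;> simp
  have h1 : x⁻¹ * z * x = ((⟨z, hzB⟩ : Cfsg.Agent.Lib.Helper41.borelSub F) :
      Matrix.SpecialLinearGroup (Fin 2) F) := by
    rw [mul_assoc, ← (Subgroup.mem_center_iff.mp hz x), ← mul_assoc, inv_mul_cancel, one_mul]
  have h2 : x⁻¹ * 1 * x = ((1 : Cfsg.Agent.Lib.Helper41.borelSub F) :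
      Matrix.SpecialLinearGroup (Fin 2) F) := by simp
  rw [h1, h2, Cfsg.Agent.Lib.Helper75.extendByZero_coe, Cfsg.Agent.Lib.Helper75.extendByZero_coe]

/-- Let F be a finite field of characteristic p with at least 4 elements. Then PSL(2,F) has exactly one irreducible complex character of degree divisible by p, and its degree is the order of F. -/
theorem result (p : ℕ) [Fact p.Prime] (F : Type*) [Field F] [Fintype F] [CharP F p] (hF : 4 ≤ Fintype.card F) : Nat.card {χ : Cfsg.IrrCharacter (Matrix.ProjectiveSpecialLinearGroup (Fin 2) F) // p ∣ Cfsg.charDegree (χ : Matrix.ProjectiveSpecialLinearGroup (Fin 2) F → ℂ)} = 1 ∧ ∀ χ : Cfsg.IrrCharacter (Matrix.ProjectiveSpecialLinearGroup (Fin 2) F), p ∣ Cfsg.charDegree (χ : Matrix.ProjectiveSpecialLinearGroup (Fin 2) F → ℂ) → Cfsg.charDegree (χ : Matrix.ProjectiveSpecialLinearGroup (Fin 2) F → ℂ) = Fintype.card F := by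
  classical
  have hp := (Fact.out : p.Prime)
  obtain ⟨k, hk⟩ := FiniteField.card F p
  have hpq : p ∣ Fintype.card F := by rw [hk.2]; exact dvd_pow_self p k.ne_zero
  have hq1 : 1 ≤ Fintype.card F := by omega
  -- degrees in `SL₂`
  have hdeg : ∀ χ : Cfsg.IrrCharacter (Matrix.SpecialLinearGroup (Fin 2) F),
      p ∣ Cfsg.charDegree (χ : Matrix.SpecialLinearGroup (Fin 2) F → ℂ) →
      (χ : Matrix.SpecialLinearGroup (Fin 2) F → ℂ) 1 = (Fintype.card F : ℂ) := by
    intro χ hdiv
    have hno : ∀ j : ℕ, (j = 1 ∨ j = Fintype.card F + 1 ∨ j + 1 = Fintype.card F ∨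
        2 * j = Fintype.card F + 1 ∨ 2 * j + 1 = Fintype.card F) →
        (χ : Matrix.SpecialLinearGroup (Fin 2) F → ℂ) 1 = (j : ℂ) → False := by
      intro j hj hχj
      rw [charDegree_eq_of_natCast _ j hχj] at hdiv
      have h1 : ¬ p ∣ 1 := hp.one_lt.ne' ∘ Nat.dvd_one.mp
      rcases hj with h | h | h | h | h
      · rw [h] at hdiv; exact h1 hdiv
      · rw [h] at hdiv; exact h1 ((Nat.dvd_add_right hpq).mp hdiv)
      · rw [← h] at hpq; exact h1 ((Nat.dvd_add_right hdiv).mp hpq)
      · have h2 : p ∣ Fintype.card F + 1 := by rw [← h]; exact Dvd.dvd.mul_left hdiv 2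
        exact h1 ((Nat.dvd_add_right hpq).mp h2)
      · have h2 : p ∣ 2 * j := Dvd.dvd.mul_left hdiv 2
        rw [← h] at hpq
        exact h1 ((Nat.dvd_add_right h2).mp hpq)
    have hqm1 : (Fintype.card F : ℂ) - 1 = ((Fintype.card F - 1 : ℕ) : ℂ) := by
      rw [Nat.cast_sub hq1]; simp
    have hqp1 : (Fintype.card F : ℂ) + 1 = ((Fintype.card F + 1 : ℕ) : ℂ) := by
      push_cast; ring
    by_cases hodd : Odd (Fintype.card F)
    · rcases (Cfsg.Agent.S2299.result hodd).1 χ.1 χ.2 with h | h | h | h | h | h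
      · exact absurd (by rw [h]; simp) (hno 1 (Or.inl rfl))
      · exact h
      · rw [hqp1] at h
        exact absurd h (hno _ (Or.inr (Or.inl rfl)))
      · rw [hqm1] at h
        exact absurd h (hno _ (Or.inr (Or.inr (Or.inl (by omega)))))
      · obtain ⟨N, hN⟩ := hodd
        exact absurd h (hno _ (Or.inr (Or.inr (Or.inr (Or.inl (by omega))))))
      · obtain ⟨N, hN⟩ := hodd
        exact absurd h (hno _ (Or.inr (Or.inr (Or.inr (Or.inr (by omega))))))
    · have heven : Fintype.card F % 2 = 0 := by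
        rcases Nat.even_or_odd (Fintype.card F) with h | h
        · exact Nat.even_iff.mp h
        · exact absurd h hodd
      have h2 : ringChar F = 2 := FiniteField.even_card_iff_char_two.mpr heven
      have : CharP F 2 := by rw [← h2]; exact ringChar.charP F
      rcases (Cfsg.Agent.S2300.result (F := F)).1 χ.1 χ.2 with h | h | h | h
      · exact absurd (by rw [h]; simp) (hno 1 (Or.inl rfl))
      · rw [hqm1] at h
        exact absurd h (hno _ (Or.inr (Or.inr (Or.inl (by omega)))))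
      · exact h
      · rw [hqp1] at h
        exact absurd h (hno _ (Or.inr (Or.inl rfl)))
  -- uniqueness of the character of degree `q`
  have hcard : Nat.card {χ : Cfsg.IrrCharacter (Matrix.SpecialLinearGroup (Fin 2) F) //
      (χ : Matrix.SpecialLinearGroup (Fin 2) F → ℂ) 1 = (Fintype.card F : ℂ)} = 1 := by
    by_cases hodd : Odd (Fintype.card F)
    · have hq5 : 5 ≤ Fintype.card F := by
        obtain ⟨N, hN⟩ := hodd
        omega
      exact ((Cfsg.Agent.S2299.result hodd).2 hq5).2.1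
    · have heven : Fintype.card F % 2 = 0 := by
        rcases Nat.even_or_odd (Fintype.card F) with h | h
        · exact Nat.even_iff.mp h
        · exact absurd h hodd
      have h2 : ringChar F = 2 := FiniteField.even_card_iff_char_two.mpr heven
      have : CharP F 2 := by rw [← h2]; exact ringChar.charP F
      exact ((Cfsg.Agent.S2300.result (F := F)).2 hF).2.1
  obtain ⟨hsub, hne⟩ := Nat.card_eq_one_iff_unique.mp hcard
  obtain ⟨⟨χ₀, h0⟩⟩ := hne
  -- the character of degree `q` is trivial on the centre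
  have hz : ∀ z ∈ Subgroup.center (Matrix.SpecialLinearGroup (Fin 2) F),
      (χ₀ : Matrix.SpecialLinearGroup (Fin 2) F → ℂ) z =
        (χ₀ : Matrix.SpecialLinearGroup (Fin 2) F → ℂ) 1 := by
    intro z hzc
    obtain ⟨χ, n, ρ, hirr, rfl⟩ := χ₀
    change ρ.character 1 = _ at h0
    rw [Representation.char_one] at h0
    have hd : Module.finrank ℂ (Fin n → ℂ) = Fintype.card F := by exact_mod_cast h0
    exact steinberg_center ρ hirr hd z hzc
  let χ₀' : Cfsg.IrrCharacter (Matrix.ProjectiveSpecialLinearGroup (Fin 2) F) :=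
    Cfsg.Agent.Lib.Helper77.deflate (Subgroup.center (Matrix.SpecialLinearGroup (Fin 2) F)) χ₀ hz
  have hinfl : ∀ χ : Cfsg.IrrCharacter (Matrix.ProjectiveSpecialLinearGroup (Fin 2) F),
      (χ : Matrix.ProjectiveSpecialLinearGroup (Fin 2) F → ℂ) 1 =
        (Cfsg.Agent.Lib.Helper77.inflate (Subgroup.center (Matrix.SpecialLinearGroup (Fin 2) F)) χ :
          Matrix.SpecialLinearGroup (Fin 2) F → ℂ) 1 := by
    intro χ
    rw [Cfsg.Agent.Lib.Helper77.inflate_apply, QuotientGroup.mk_one]
  have hdeg' : ∀ χ : Cfsg.IrrCharacter (Matrix.ProjectiveSpecialLinearGroup (Fin 2) F),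
      p ∣ Cfsg.charDegree (χ : Matrix.ProjectiveSpecialLinearGroup (Fin 2) F → ℂ) →
      (χ : Matrix.ProjectiveSpecialLinearGroup (Fin 2) F → ℂ) 1 = (Fintype.card F : ℂ) := by
    intro χ hdiv
    rw [hinfl χ]
    apply hdeg
    unfold Cfsg.charDegree at hdiv ⊢
    rw [← hinfl χ]
    exact hdiv
  have h0' : (χ₀' : Matrix.ProjectiveSpecialLinearGroup (Fin 2) F → ℂ) 1 = (Fintype.card F : ℂ) := by
    have := Cfsg.Agent.Lib.Helper77.deflate_mk
      (Subgroup.center (Matrix.SpecialLinearGroup (Fin 2) F)) χ₀ hz 1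
    rw [QuotientGroup.mk_one] at this
    rw [← h0]
    exact this
  constructor
  · rw [Nat.card_eq_one_iff_unique]
    constructor
    · constructor
      rintro ⟨χ₁, h₁⟩ ⟨χ₂, h₂⟩
      apply Subtype.ext
      apply Cfsg.Agent.Lib.Helper77.inflate_injective
        (Subgroup.center (Matrix.SpecialLinearGroup (Fin 2) F))
      have e₁ := hdeg' χ₁ h₁
      have e₂ := hdeg' χ₂ h₂
      rw [hinfl] at e₁ e₂
      have := @Subsingleton.elim _ hsub ⟨_, e₁⟩ ⟨_, e₂⟩
      exact congrArg Subtype.val this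
    · refine ⟨⟨χ₀', ?_⟩⟩
      rw [charDegree_eq_of_natCast _ _ h0']
      exact hpq
  · intro χ hdiv
    exact charDegree_eq_of_natCast _ _ (hdeg' χ hdiv)

end Cfsg.Agent.S4765
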