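import Mathlib
import Cfsg.Statements.S0236
import Cfsg.Agent.Lib.Helper4.Invol

set_option autoImplicit false
open Cfsg

namespace Cfsg.Agent.S0236

open Cfsg.Agent.Lib.Helper4

/-- If x is an involution, the number of ordered pairs (u, v) of involutions with uv = x, plus one, equals the number of involutions in the centralizer of x. -/
theorem result {G : Type*} [Group G] [Finite G] (x : G) (hx : orderOf x = 2) : Nat.card {p : G × G // orderOf p.1 = 2 ∧ orderOf p.2 = 2 ∧ p.1 * p.2 = x} + 1 = Nat.card {t : G // orderOf t = 2 ∧ Commute t x} := by
  classical
  rw [← Finite.card_option]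
  apply Nat.card_congr
  have hx2 := mul_self_of_orderOf_two hx
  have key : ∀ u v : G, orderOf u = 2 → orderOf v = 2 → u * v = x → Commute u x := by
    intro u v hu hv huv
    have hu2 := mul_self_of_orderOf_two hu
    have hv2 := mul_self_of_orderOf_two hv
    -- (uv)(uv) = 1 so uv = vu
    have h1 : u * v * (u * v) = 1 := by rw [huv, hx2]
    have h2 : u * v = v * u := by
      calc u * v = u * v * (u * v) * (v * u) := by
            simp only [mul_assoc]
            rw [← mul_assoc v v, hv2, one_mul, hu2, mul_one]
        _ = v * u := by rw [h1, one_mul]
    show u * x = x * u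
    rw [← huv, ← mul_assoc, hu2, one_mul, h2, mul_assoc, hu2, mul_one]
  refine
    { toFun := fun o => match o with
        | none => ⟨x, hx, Commute.refl x⟩
        | some p => ⟨p.1.1, p.2.1, key _ _ p.2.1 p.2.2.1 p.2.2.2⟩
      invFun := fun t => if h : t.1 = x then none else some ⟨(t.1, t.1⁻¹ * x), t.2.1, ?_, by simp⟩
      left_inv := ?_
      right_inv := ?_ }
  · obtain ⟨t, ht, htx⟩ := t
    simp only at h ⊢
    have ht2 := mul_self_of_orderOf_two ht
    have hti := inv_eq_self_of_orderOf_two ht
    apply orderOf_two_of
    · rw [hti]
      calc t * x * (t * x) = t * (x * t) * x := by group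
        _ = t * (t * x) * x := by rw [htx.eq]
        _ = (t * t) * (x * x) := by group
        _ = 1 := by rw [ht2, hx2, one_mul]
    · intro h1
      apply h
      have := congrArg (fun z => t * z) h1
      simpa using this.symm
  · intro o
    cases o with
    | none => simp
    | some p =>
      obtain ⟨⟨u, v⟩, hu, hv, huv⟩ := p
      have hne : u ≠ x := by
        intro h
        rw [h] at huv
        have : v = 1 := by
          have := congrArg (fun z => x⁻¹ * z) huv
          simpa using this
        exact ne_one_of_orderOf_two hv this
      simp only [hne, dite_false]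
      congr 1
      apply Subtype.ext
      simp only [Prod.mk.injEq, true_and]
      rw [← huv]; group
  · rintro ⟨t, ht, htx⟩
    by_cases h : t = x
    · simp only [h, dite_true]
    · simp only [h, dite_false]

end Cfsg.Agent.S0236
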