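import Mathlib
import Cfsg.Statements.S0802
import Cfsg.Agent.Lib.Helper41.A4Triple
import Cfsg.Agent.Lib.Helper41.SL2Basic
import Cfsg.Agent.Lib.Helper41.SL2Conj
import Cfsg.Agent.Lib.Helper41.SL2OddMat
import Cfsg.Agent.Lib.Helper41.SL2OddOrder

set_option autoImplicit false
open Cfsg

namespace Cfsg.Agent.S0802

open Cfsg.Agent.Lib.Helper41

/-- the positive direction in odd characteristic: the image of the binary tetrahedral group -/
theorem pos_odd {F : Type*} [Field F] [Fintype F] (p : ℕ) [Fact p.Prime] [CharP F p] (hp : p ≠ 2) :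
    ∃ H : Subgroup (Matrix.ProjectiveSpecialLinearGroup (Fin 2) F),
      Nonempty (H ≃* alternatingGroup (Fin 4)) := by
  classical
  have h2 : (2 : F) ≠ 0 := two_ne_zero_of_char p hp
  obtain ⟨x', y', hxy'⟩ := CharP.sq_add_sq F p (-1)
  set x : F := (x' : F) with hx
  set y : F := (y' : F) with hy
  have hxy : x ^ 2 + y ^ 2 = -1 := by rw [hxy']; simp
  let I : Matrix.SpecialLinearGroup (Fin 2) F :=
    ⟨!![x, y; y, -x], by rw [Matrix.det_fin_two_of]; linear_combination (-1) * hxy⟩
  let K : Matrix.SpecialLinearGroup (Fin 2) F :=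
    ⟨!![y, -x; -x, -y], by rw [Matrix.det_fin_two_of]; linear_combination (-1) * hxy⟩
  let W : Matrix.SpecialLinearGroup (Fin 2) F :=
    ⟨!![(-1 + x + y) / 2, (y - 1 - x) / 2; (y + 1 - x) / 2, (-1 - x - y) / 2], by
      rw [Matrix.det_fin_two_of]; field_simp; linear_combination (-2) * hxy⟩
  have hI : (I : Matrix (Fin 2) (Fin 2) F) = !![x, y; y, -x] := rfl
  have hK : (K : Matrix (Fin 2) (Fin 2) F) = !![y, -x; -x, -y] := rfl
  have hW : (W : Matrix (Fin 2) (Fin 2) F)
      = !![(-1 + x + y) / 2, (y - 1 - x) / 2; (y + 1 - x) / 2, (-1 - x - y) / 2] := rfl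
  have hII : (I : Matrix (Fin 2) (Fin 2) F) * (I : Matrix (Fin 2) (Fin 2) F) = -1 := by
    rw [hI]
    ext i j
    fin_cases i <;> fin_cases j <;> simp [Matrix.mul_apply, Fin.sum_univ_two] <;>
      first | ring1 | linear_combination hxy | linear_combination (-1 : F) * hxy | linear_combination (2 : F) * hxy | linear_combination (-2 : F) * hxy
  have hKK : (K : Matrix (Fin 2) (Fin 2) F) * (K : Matrix (Fin 2) (Fin 2) F) = -1 := by
    rw [hK]
    ext i j
    fin_cases i <;> fin_cases j <;> simp [Matrix.mul_apply, Fin.sum_univ_two] <;>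
      first | ring1 | linear_combination hxy | linear_combination (-1 : F) * hxy | linear_combination (2 : F) * hxy | linear_combination (-2 : F) * hxy
  have hIK : (I : Matrix (Fin 2) (Fin 2) F) * (K : Matrix (Fin 2) (Fin 2) F)
      = - ((K : Matrix (Fin 2) (Fin 2) F) * (I : Matrix (Fin 2) (Fin 2) F)) := by
    rw [hK, hI]
    ext i j
    fin_cases i <;> fin_cases j <;> simp [Matrix.mul_apply, Fin.sum_univ_two] <;>
      first | ring1 | linear_combination hxy | linear_combination (-1 : F) * hxy | linear_combination (2 : F) * hxy | linear_combination (-2 : F) * hxy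
  have hWI : W * I = K * W := by
    apply Subtype.ext
    rw [Matrix.SpecialLinearGroup.coe_mul, Matrix.SpecialLinearGroup.coe_mul, hK, hI, hW]
    ext i j
    fin_cases i <;> fin_cases j <;> simp [Matrix.mul_apply, Fin.sum_univ_two] <;> ring
  let J : Matrix.SpecialLinearGroup (Fin 2) F :=
    ⟨!![0, -1; 1, 0], by rw [Matrix.det_fin_two_of]; ring⟩
  have hJ : (J : Matrix (Fin 2) (Fin 2) F) = !![0, -1; 1, 0] := rfl
  have hWK : W * K = J * W := by
    apply Subtype.ext
    rw [Matrix.SpecialLinearGroup.coe_mul, Matrix.SpecialLinearGroup.coe_mul, hK, hJ, hW]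
    ext i j
    fin_cases i <;> fin_cases j <;> simp [Matrix.mul_apply, Fin.sum_univ_two] <;>
      (try field_simp) <;>
      first | ring1 | linear_combination hxy | linear_combination (-1 : F) * hxy
  have hIKJ : (I * K : Matrix.SpecialLinearGroup (Fin 2) F).1 = - J.1 := by
    rw [Matrix.SpecialLinearGroup.coe_mul, hK, hI, hJ]
    ext i j
    fin_cases i <;> fin_cases j <;> simp [Matrix.mul_apply, Fin.sum_univ_two] <;>
      first | ring1 | linear_combination hxy | linear_combination (-1 : F) * hxy
  have hWtr : tr2 W = -1 := by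
    unfold tr2
    rw [hW]
    simp
    field_simp
    ring
  have hWW : (W : Matrix (Fin 2) (Fin 2) F) * (W : Matrix (Fin 2) (Fin 2) F)
      = - (W : Matrix (Fin 2) (Fin 2) F) - 1 := by
    rw [cayley_hamilton, hWtr]; simp
  have hWWW : W * W * W = 1 := by
    apply Subtype.ext
    rw [Matrix.SpecialLinearGroup.coe_mul, Matrix.SpecialLinearGroup.coe_mul, hWW,
      Matrix.SpecialLinearGroup.coe_one, Matrix.sub_mul, Matrix.neg_mul, hWW, Matrix.one_mul]
    abel
  have : Finite (Matrix.ProjectiveSpecialLinearGroup (Fin 2) F) := by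
    unfold Matrix.ProjectiveSpecialLinearGroup
    infer_instance
  refine exists_a4_of_triple
    (QuotientGroup.mk I : Matrix.ProjectiveSpecialLinearGroup (Fin 2) F)
    (QuotientGroup.mk K) (QuotientGroup.mk W) ?_ ?_ ?_ ?_ ?_ ?_ ?_ ?_ ?_
  · rw [← QuotientGroup.mk_mul, mk_eq_one_iff]; right
    rw [Matrix.SpecialLinearGroup.coe_mul]; exact hII
  · rw [← QuotientGroup.mk_mul, mk_eq_one_iff]; right
    rw [Matrix.SpecialLinearGroup.coe_mul]; exact hKK
  · rw [← QuotientGroup.mk_mul, ← QuotientGroup.mk_mul, mk_eq_mk_iff]; right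
    rw [Matrix.SpecialLinearGroup.coe_mul, Matrix.SpecialLinearGroup.coe_mul]; exact hIK
  · rw [Ne, mk_eq_one_iff]
    rintro (h | h)
    · have h00 := congrFun (congrFun h 0) 0
      have h11 := congrFun (congrFun h 1) 1
      rw [hI] at h00 h11
      simp at h00 h11
      apply h2
      linear_combination (-1 : F) * h00 - h11
    · have h00 := congrFun (congrFun h 0) 0
      have h11 := congrFun (congrFun h 1) 1
      rw [hI] at h00 h11
      simp at h00 h11
      apply h2
      linear_combination h00 - h11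
  · rw [Ne, mk_eq_one_iff]
    rintro (h | h)
    · have h00 := congrFun (congrFun h 0) 0
      have h11 := congrFun (congrFun h 1) 1
      rw [hK] at h00 h11
      simp at h00 h11
      apply h2
      linear_combination (-1 : F) * h00 - h11
    · have h00 := congrFun (congrFun h 0) 0
      have h11 := congrFun (congrFun h 1) 1
      rw [hK] at h00 h11
      simp at h00 h11
      apply h2
      linear_combination h00 - h11
  · rw [Ne, mk_eq_mk_iff]
    rintro (h | h)
    · have h00 := congrFun (congrFun h 0) 0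
      have h01 := congrFun (congrFun h 0) 1
      rw [hI, hK] at h00 h01
      simp at h00 h01
      have : (1 : F) = 0 := by linear_combination hxy - x * h00 - y * h01
      exact one_ne_zero this
    · have h00 := congrFun (congrFun h 0) 0
      have h01 := congrFun (congrFun h 0) 1
      rw [hI, hK] at h00 h01
      simp at h00 h01
      have : (1 : F) = 0 := by linear_combination hxy - x * h00 - y * h01
      exact one_ne_zero this
  · rw [← QuotientGroup.mk_mul, ← QuotientGroup.mk_mul, hWWW]; rfl
  · rw [mul_inv_eq_iff_eq_mul, ← QuotientGroup.mk_mul, ← QuotientGroup.mk_mul, hWI]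
  · rw [mul_inv_eq_iff_eq_mul, ← QuotientGroup.mk_mul, ← QuotientGroup.mk_mul,
      ← QuotientGroup.mk_mul, hWK, QuotientGroup.mk_mul, QuotientGroup.mk_mul _ (I * K) W]
    congr 1
    rw [mk_eq_mk_iff]; right
    rw [hIKJ, neg_neg]

/-- the positive direction in characteristic 2 when `F` contains a primitive cube root of unity -/
theorem pos_two {F : Type*} [Field F] [Fintype F] [CharP F 2] (n : ℕ)
    (hF : Fintype.card F = 2 ^ n) (hn : Even n) :
    ∃ H : Subgroup (Matrix.ProjectiveSpecialLinearGroup (Fin 2) F),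
      Nonempty (H ≃* alternatingGroup (Fin 4)) := by
  classical
  have h2 : (2 : F) = 0 := CharTwo.two_eq_zero
  -- a primitive cube root of unity
  have h3 : 3 ∣ Fintype.card Fˣ := by
    rw [Fintype.card_units, hF]
    obtain ⟨k, rfl⟩ := hn
    rw [← two_mul, pow_mul]
    have h4 : 4 ^ k % 3 = 1 := by rw [Nat.pow_mod]; norm_num
    have h5 : 1 ≤ 4 ^ k := Nat.one_le_pow _ _ (by norm_num)
    norm_num
    omega
  have : Fact (Nat.Prime 3) := ⟨Nat.prime_three⟩
  obtain ⟨u, hu⟩ := exists_prime_orderOf_dvd_card 3 h3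
  have hu3 : u ^ 3 = 1 := by rw [← hu]; exact pow_orderOf_eq_one u
  have hu1 : u ≠ 1 := by
    intro h; rw [h, orderOf_one] at hu; norm_num at hu
  set w : F := (u : F) with hw
  have hw3 : w ^ 3 = 1 := by
    rw [hw, ← Units.val_pow_eq_pow_val, hu3, Units.val_one]
  have hw1 : w ≠ 1 := by
    intro h; apply hu1; exact Units.ext h
  have hww : w ^ 2 + w + 1 = 0 := by
    have : (w - 1) * (w ^ 2 + w + 1) = 0 := by linear_combination hw3
    rcases mul_eq_zero.mp this with h | h
    · exact absurd (sub_eq_zero.mp h) hw1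
    · exact h
  have hw0 : w ≠ 0 := by
    intro h; rw [h] at hww; simp at hww
  let A : Matrix.SpecialLinearGroup (Fin 2) F :=
    ⟨!![1, 1; 0, 1], by rw [Matrix.det_fin_two_of]; ring⟩
  let B : Matrix.SpecialLinearGroup (Fin 2) F :=
    ⟨!![1, w; 0, 1], by rw [Matrix.det_fin_two_of]; ring⟩
  let C : Matrix.SpecialLinearGroup (Fin 2) F :=
    ⟨!![w ^ 2, 0; 0, w], by rw [Matrix.det_fin_two_of]; linear_combination hw3⟩
  have hA : (A : Matrix (Fin 2) (Fin 2) F) = !![1, 1; 0, 1] := rfl
  have hB : (B : Matrix (Fin 2) (Fin 2) F) = !![1, w; 0, 1] := rfl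
  have hC : (C : Matrix (Fin 2) (Fin 2) F) = !![w ^ 2, 0; 0, w] := rfl
  have hAA : A * A = 1 := by
    apply Subtype.ext
    rw [Matrix.SpecialLinearGroup.coe_mul, Matrix.SpecialLinearGroup.coe_one, hA]
    ext i j
    fin_cases i <;> fin_cases j <;> simp [Matrix.mul_apply, Fin.sum_univ_two] <;>
      first | ring1 | linear_combination h2
  have hBB : B * B = 1 := by
    apply Subtype.ext
    rw [Matrix.SpecialLinearGroup.coe_mul, Matrix.SpecialLinearGroup.coe_one, hB]
    ext i j
    fin_cases i <;> fin_cases j <;> simp [Matrix.mul_apply, Fin.sum_univ_two] <;>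
      first | ring1 | linear_combination w * h2
  have hAB : A * B = B * A := by
    apply Subtype.ext
    rw [Matrix.SpecialLinearGroup.coe_mul, Matrix.SpecialLinearGroup.coe_mul, hA, hB]
    ext i j
    fin_cases i <;> fin_cases j <;> simp [Matrix.mul_apply, Fin.sum_univ_two] <;> ring1
  have hCA : C * A = B * C := by
    apply Subtype.ext
    rw [Matrix.SpecialLinearGroup.coe_mul, Matrix.SpecialLinearGroup.coe_mul, hA, hB, hC]
    ext i j
    fin_cases i <;> fin_cases j <;> simp [Matrix.mul_apply, Fin.sum_univ_two] <;> ring1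
  have hCB : C * B = A * B * C := by
    apply Subtype.ext
    rw [Matrix.SpecialLinearGroup.coe_mul, Matrix.SpecialLinearGroup.coe_mul,
      Matrix.SpecialLinearGroup.coe_mul, hA, hB, hC]
    ext i j
    fin_cases i <;> fin_cases j <;> simp [Matrix.mul_apply, Fin.sum_univ_two] <;>
      first | ring1 | (left; linear_combination hww - (w + 1) * h2)
  have hCCC : C * C * C = 1 := by
    apply Subtype.ext
    rw [Matrix.SpecialLinearGroup.coe_mul, Matrix.SpecialLinearGroup.coe_mul,
      Matrix.SpecialLinearGroup.coe_one, hC]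
    ext i j
    fin_cases i <;> fin_cases j <;> simp [Matrix.mul_apply, Fin.sum_univ_two] <;>
      first | ring1 | linear_combination hw3 | linear_combination (w ^ 3 + 1) * hw3
  have : Finite (Matrix.ProjectiveSpecialLinearGroup (Fin 2) F) := by
    unfold Matrix.ProjectiveSpecialLinearGroup
    infer_instance
  refine exists_a4_of_triple
    (QuotientGroup.mk A : Matrix.ProjectiveSpecialLinearGroup (Fin 2) F)
    (QuotientGroup.mk B) (QuotientGroup.mk C) ?_ ?_ ?_ ?_ ?_ ?_ ?_ ?_ ?_
  · rw [← QuotientGroup.mk_mul, hAA]; rfl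
  · rw [← QuotientGroup.mk_mul, hBB]; rfl
  · rw [← QuotientGroup.mk_mul, ← QuotientGroup.mk_mul, hAB]
  · rw [Ne, mk_eq_one_iff]
    rintro (h | h)
    · have h01 := congrFun (congrFun h 0) 1
      rw [hA] at h01
      simp at h01
    · have h01 := congrFun (congrFun h 0) 1
      rw [hA] at h01
      simp at h01
  · rw [Ne, mk_eq_one_iff]
    rintro (h | h)
    · have h01 := congrFun (congrFun h 0) 1
      rw [hB] at h01
      simp at h01
      exact hw0 h01
    · have h01 := congrFun (congrFun h 0) 1
      rw [hB] at h01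
      simp at h01
      exact hw0 h01
  · rw [Ne, mk_eq_mk_iff]
    rintro (h | h)
    · have h01 := congrFun (congrFun h 0) 1
      rw [hA, hB] at h01
      simp at h01
      exact hw1 h01.symm
    · have h01 := congrFun (congrFun h 0) 1
      rw [hA, hB] at h01
      simp at h01
      apply hw1
      linear_combination h01 - h2
  · rw [← QuotientGroup.mk_mul, ← QuotientGroup.mk_mul, hCCC]; rfl
  · rw [mul_inv_eq_iff_eq_mul, ← QuotientGroup.mk_mul, ← QuotientGroup.mk_mul, hCA]
  · rw [mul_inv_eq_iff_eq_mul, ← QuotientGroup.mk_mul, ← QuotientGroup.mk_mul,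
      ← QuotientGroup.mk_mul, hCB]

/-- the negative direction: in characteristic 2 an `A₄` forces a primitive cube root of unity -/
theorem neg_two {F : Type*} [Field F] [Fintype F] [CharP F 2] (n : ℕ)
    (hF : Fintype.card F = 2 ^ n) (hn : Odd n)
    (H : Subgroup (Matrix.ProjectiveSpecialLinearGroup (Fin 2) F))
    (hH : Nonempty (H ≃* alternatingGroup (Fin 4))) : False := by
  classical
  have h2 : (2 : F) = 0 := CharTwo.two_eq_zero
  obtain ⟨t', c', ht1, htt, -, hcomm, hconj⟩ := exists_triple_of_a4 H hH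
  obtain ⟨t, rfl⟩ := QuotientGroup.mk_surjective t'
  obtain ⟨c, rfl⟩ := QuotientGroup.mk_surjective c'
  -- `mk` is injective in characteristic 2
  have hinj : ∀ X Y : Matrix.SpecialLinearGroup (Fin 2) F,
      (QuotientGroup.mk X : Matrix.ProjectiveSpecialLinearGroup (Fin 2) F) = QuotientGroup.mk Y →
        X = Y := by
    intro X Y h
    rcases (mk_eq_mk_iff X Y).mp h with h | h
    · exact Subtype.ext h
    · apply Subtype.ext
      rw [h]
      ext i j
      rw [Matrix.neg_apply, CharTwo.neg_eq]
  set s : Matrix.SpecialLinearGroup (Fin 2) F := c * t * c⁻¹ with hs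
  have ht1' : t ≠ 1 := by
    rintro rfl; exact ht1 rfl
  have htt' : t * t = 1 := hinj _ _ (by simpa using htt)
  have hcomm' : t * s = s * t := hinj _ _ (by simpa [hs] using hcomm)
  have hconj' : c * s * c⁻¹ = t * s := hinj _ _ (by simpa [hs] using hconj)
  have hss : s * s = 1 := by
    rw [hs]
    calc c * t * c⁻¹ * (c * t * c⁻¹) = c * (t * t) * c⁻¹ := by group
      _ = 1 := by rw [htt']; group
  set A : Matrix (Fin 2) (Fin 2) F := (t : Matrix (Fin 2) (Fin 2) F) with hA
  set B : Matrix (Fin 2) (Fin 2) F := (s : Matrix (Fin 2) (Fin 2) F) with hB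
  have hAA : A * A = 1 := by
    rw [hA, ← Matrix.SpecialLinearGroup.coe_mul, htt', Matrix.SpecialLinearGroup.coe_one]
  have hBB : B * B = 1 := by
    rw [hB, ← Matrix.SpecialLinearGroup.coe_mul, hss, Matrix.SpecialLinearGroup.coe_one]
  have hBA : B * A = A * B := by
    rw [hA, hB, ← Matrix.SpecialLinearGroup.coe_mul, ← Matrix.SpecialLinearGroup.coe_mul, hcomm']
  -- `A` is not scalar
  have hAns : ¬ IsScalarMat A := by
    intro hsc
    rcases eq_one_or_tr2_of_isScalarMat t hsc with h | h
    · exact ht1' h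
    · -- trace `-2 = 0`, and scalar: `t = 1` anyway
      obtain ⟨h01, h10, h00⟩ := hsc
      have hd := sl2_det t
      rw [← hA] at hd
      rw [h01, h10, h00] at hd
      have h11 : (A 1 1 + 1) ^ 2 = 0 := by linear_combination hd + (A 1 1 + 1) * h2
      have h11' : A 1 1 = 1 := by
        have := pow_eq_zero_iff (two_ne_zero) |>.mp h11
        linear_combination this - h2
      apply ht1'
      apply sl2_ext
      · rw [← hA, h00, h11']; simp
      · rw [← hA, h01]; simp
      · rw [← hA, h10]; simp
      · rw [← hA, h11']; simp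
  obtain ⟨α, β, hBab⟩ := exists_eq_smul_add B A hAns hBA
  -- `α + β = 1`
  have hsum : α + β + 1 = 0 := by
    have h := hBB
    rw [hBab] at h
    have h' : (α • (1 : Matrix (Fin 2) (Fin 2) F) + β • A) * (α • (1 : Matrix (Fin 2) (Fin 2) F) + β • A)
        = (α ^ 2 + β ^ 2) • (1 : Matrix (Fin 2) (Fin 2) F) + (2 * α * β) • A := by
      simp only [Matrix.add_mul, Matrix.mul_add, Matrix.smul_mul, Matrix.mul_smul, Matrix.one_mul,
        Matrix.mul_one, hAA, smul_smul]
      module
    rw [h', h2, zero_mul, zero_mul, zero_smul, add_zero] at h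
    have h00 := congrFun (congrFun h 0) 0
    simp at h00
    have hsq : (α + β + 1) ^ 2 = 0 := by linear_combination h00 + (α * β + α + β + 1) * h2
    exact pow_eq_zero_iff (two_ne_zero) |>.mp hsq
  -- conjugating by `c`
  have hcjA : cj c A = B := by
    unfold cj
    rw [hA, hB, hs, Matrix.SpecialLinearGroup.coe_mul, Matrix.SpecialLinearGroup.coe_mul]
  have hcjB : cj c B = A * B := by
    unfold cj
    rw [hA, hB, ← Matrix.SpecialLinearGroup.coe_mul, ← Matrix.SpecialLinearGroup.coe_mul,
      ← Matrix.SpecialLinearGroup.coe_mul, hconj']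
  have hcj1 : cj c (1 : Matrix (Fin 2) (Fin 2) F) = 1 := by
    unfold cj
    rw [Matrix.mul_one, coe_mul_coe_inv]
  have hkey : (α + α * β - β) • (1 : Matrix (Fin 2) (Fin 2) F) + (β ^ 2 - α) • A = 0 := by
    have h1 : cj c B = α • (1 : Matrix (Fin 2) (Fin 2) F) + β • B := by
      conv_lhs => rw [hBab]
      unfold cj
      rw [Matrix.mul_add, Matrix.add_mul, Matrix.mul_smul, Matrix.smul_mul, Matrix.mul_smul,
        Matrix.smul_mul]
      have e1 := hcj1
      have e2 := hcjA
      unfold cj at e1 e2
      rw [e1, e2]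
    have h2' : A * B = β • (1 : Matrix (Fin 2) (Fin 2) F) + α • A := by
      conv_lhs => rw [hBab]
      rw [Matrix.mul_add, Matrix.mul_smul, Matrix.mul_smul, Matrix.mul_one, hAA]
      abel
    have h3 : α • (1 : Matrix (Fin 2) (Fin 2) F) + β • B = β • (1 : Matrix (Fin 2) (Fin 2) F) + α • A := by
      rw [← h1, hcjB, h2']
    rw [hBab] at h3
    have h4 : α • (1 : Matrix (Fin 2) (Fin 2) F) + β • (α • (1 : Matrix (Fin 2) (Fin 2) F) + β • A)
        - (β • (1 : Matrix (Fin 2) (Fin 2) F) + α • A) = 0 := sub_eq_zero.mpr h3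
    rw [← h4]
    module
  have hβ : β ^ 2 = α := by
    by_contra hne
    have hne' : β ^ 2 - α ≠ 0 := sub_ne_zero.mpr hne
    apply hAns
    have e01 := congrFun (congrFun hkey 0) 1
    have e10 := congrFun (congrFun hkey 1) 0
    have e00 := congrFun (congrFun hkey 0) 0
    have e11 := congrFun (congrFun hkey 1) 1
    simp at e01 e10 e00 e11
    refine ⟨?_, ?_, ?_⟩
    · rcases e01 with h | h
      · exact absurd h hne'
      · exact h
    · rcases e10 with h | h
      · exact absurd h hne'
      · exact h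
    · have : (β ^ 2 - α) * (A 0 0 - A 1 1) = 0 := by linear_combination e00 - e11
      rcases mul_eq_zero.mp this with h | h
      · exact absurd h hne'
      · exact sub_eq_zero.mp h
  -- `β` is a primitive cube root of unity
  have hββ : β ^ 2 + β + 1 = 0 := by linear_combination hβ + hsum
  have hβ0 : β ≠ 0 := by
    intro h; rw [h] at hββ; simp at hββ
  have hβ3 : β ^ 3 = 1 := by linear_combination (β - 1) * hββ
  have hβ1 : β ≠ 1 := by
    intro h
    rw [h] at hββ
    have : (1 : F) = 0 := by linear_combination hββ - h2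
    exact one_ne_zero this
  let u : Fˣ := Units.mk0 β hβ0
  have hu3 : u ^ 3 = 1 := by
    apply Units.ext
    rw [Units.val_pow_eq_pow_val, Units.val_mk0, hβ3, Units.val_one]
  have hu1 : u ≠ 1 := by
    intro h
    apply hβ1
    have := congrArg Units.val h
    simpa [u] using this
  have hou : orderOf u = 3 := orderOf_eq_prime hu3 hu1
  have hdvd : 3 ∣ Fintype.card Fˣ := by
    rw [← hou]; exact orderOf_dvd_card
  rw [Fintype.card_units, hF] at hdvd
  obtain ⟨k, rfl⟩ := hn
  have h4 : 4 ^ k % 3 = 1 := by rw [Nat.pow_mod]; norm_num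
  have h5 : 2 ^ (2 * k + 1) = 2 * 4 ^ k := by
    rw [pow_succ, pow_mul]; norm_num; ring
  rw [h5] at hdvd
  omega

/-- PSL_2(p^n) has a subgroup isomorphic to A_4 if and only if it is not the case that p = 2 and n is odd. -/
theorem result {F : Type*} [Field F] [Fintype F] (p n : ℕ) [Fact p.Prime] [CharP F p] (hF : Fintype.card F = p ^ n) : (∃ H : Subgroup (Matrix.ProjectiveSpecialLinearGroup (Fin 2) F), Nonempty (H ≃* alternatingGroup (Fin 4))) ↔ ¬ (p = 2 ∧ Odd n) := by
  constructor
  · rintro ⟨H, hH⟩ ⟨hp, hn⟩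
    subst hp
    exact neg_two n hF hn H hH
  · intro h
    by_cases hp : p = 2
    · subst hp
      have hn : Even n := by
        rw [← Nat.not_odd_iff_even]
        exact fun ho => h ⟨rfl, ho⟩
      exact pos_two n hF hn
    · exact pos_odd p hp

end Cfsg.Agent.S0802
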