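import Cfsg.Statements.S5344
-- import your own Cfsg.Agent.* helpers here

set_option autoImplicit false
open Cfsg

namespace Cfsg.Agent.S5344

set_option linter.unusedSimpArgs false

/-- the Coxeter matrix of type `A₃` -/
abbrev M3 : CoxeterMatrix (Fin 3) := CoxeterMatrix.A 3

/-- the rewriting rules in a group with three generators satisfying the `A₃` relations -/
structure Rel {Γ : Type*} [Group Γ] (a b c : Γ) : Prop where
  aa : a * a = 1
  bb : b * b = 1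
  cc : c * c = 1
  ab : (a * b) ^ 3 = 1
  bc : (b * c) ^ 3 = 1
  ac : (a * c) ^ 2 = 1

namespace Rel
variable {Γ : Type*} [Group Γ] {a b c : Γ} (h : Rel a b c)
include h

theorem aa' (x : Γ) : a * (a * x) = x := by rw [← mul_assoc, h.aa, one_mul]
theorem bb' (x : Γ) : b * (b * x) = x := by rw [← mul_assoc, h.bb, one_mul]
theorem cc' (x : Γ) : c * (c * x) = x := by rw [← mul_assoc, h.cc, one_mul]
theorem a_inv : a⁻¹ = a := (eq_inv_of_mul_eq_one_right h.aa).symm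
theorem b_inv : b⁻¹ = b := (eq_inv_of_mul_eq_one_right h.bb).symm
theorem c_inv : c⁻¹ = c := (eq_inv_of_mul_eq_one_right h.cc).symm

theorem ca : c * a = a * c := by
  have h1 := h.ac
  rw [pow_two] at h1
  have h2 : c * a = (a * c)⁻¹ := by
    rw [mul_inv_rev, h.a_inv, h.c_inv]
  have h3 : a * c = (a * c)⁻¹ := eq_inv_of_mul_eq_one_right h1
  rw [h2]
  exact h3.symm

theorem ca' (x : Γ) : c * (a * x) = a * (c * x) := by rw [← mul_assoc, h.ca, mul_assoc]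

theorem bab : b * (a * b) = a * (b * a) := by
  have h1 := h.ab
  simp only [pow_succ, pow_zero, one_mul, mul_assoc] at h1
  have h2 : b * (a * b) = (a * (b * a))⁻¹ :=
    eq_inv_of_mul_eq_one_right (by simpa only [mul_assoc] using h1)
  rw [h2]
  simp only [mul_inv_rev, h.a_inv, h.b_inv, mul_assoc]

theorem bab' (x : Γ) : b * (a * (b * x)) = a * (b * (a * x)) := by
  have := congrArg (· * x) h.bab
  simpa only [mul_assoc] using this

theorem cbc : c * (b * c) = b * (c * b) := by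
  have h1 := h.bc
  simp only [pow_succ, pow_zero, one_mul, mul_assoc] at h1
  have h2 : c * (b * c) = (b * (c * b))⁻¹ :=
    eq_inv_of_mul_eq_one_right (by simpa only [mul_assoc] using h1)
  rw [h2]
  simp only [mul_inv_rev, h.c_inv, h.b_inv, mul_assoc]

theorem cbc' (x : Γ) : c * (b * (c * x)) = b * (c * (b * x)) := by
  have := congrArg (· * x) h.cbc
  simpa only [mul_assoc] using this

theorem cbac : c * (b * (a * c)) = b * (c * (b * a)) := by
  rw [← h.ca, h.cbc']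

theorem cbac' (x : Γ) : c * (b * (a * (c * x))) = b * (c * (b * (a * x))) := by
  have := congrArg (· * x) h.cbac
  simpa only [mul_assoc] using this

end Rel


/-- index types for the normal forms -/
inductive IA | e | a
  deriving DecidableEq

instance : Fintype IA := ⟨{.e, .a}, fun x => by cases x <;> simp⟩
/-- index types for the normal forms -/
inductive IB | e | b | ba
  deriving DecidableEq

instance : Fintype IB := ⟨{.e, .b, .ba}, fun x => by cases x <;> simp⟩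
/-- index types for the normal forms -/
inductive IC | e | c | cb | cba
  deriving DecidableEq

instance : Fintype IC := ⟨{.e, .c, .cb, .cba}, fun x => by cases x <;> simp⟩

/-- first factor of the normal form -/
def eA {Γ : Type*} [Group Γ] (a : Γ) : IA → Γ
  | .e => 1
  | .a => a
/-- second factor of the normal form -/
def eB {Γ : Type*} [Group Γ] (a b : Γ) : IB → Γ
  | .e => 1
  | .b => b
  | .ba => b * a
/-- third factor of the normal form -/
def eC {Γ : Type*} [Group Γ] (a b c : Γ) : IC → Γ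
  | .e => 1
  | .c => c
  | .cb => c * b
  | .cba => c * (b * a)
/-- the normal form word -/
def nfw {Γ : Type*} [Group Γ] (a b c : Γ) (i : IA) (j : IB) (k : IC) : Γ :=
  eA a i * (eB a b j * eC a b c k)

theorem nf_mul_a {Γ : Type*} [Group Γ] {a b c : Γ} (h : Rel a b c) :
    ∀ (i : IA) (j : IB) (k : IC), ∃ i' j' k', nfw a b c i j k * a = nfw a b c i' j' k'
  | .e, .e, .e => ⟨.a, .e, .e, by
      simp only [nfw, eA, eB, eC, mul_assoc, mul_one, one_mul, h.aa, h.bb, h.cc, h.aa', h.bb', h.cc', h.ca, h.ca', h.bab, h.bab', h.cbc, h.cbc', h.cbac, h.cbac']⟩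
  | .e, .e, .c => ⟨.a, .e, .c, by
      simp only [nfw, eA, eB, eC, mul_assoc, mul_one, one_mul, h.aa, h.bb, h.cc, h.aa', h.bb', h.cc', h.ca, h.ca', h.bab, h.bab', h.cbc, h.cbc', h.cbac, h.cbac']⟩
  | .e, .e, .cb => ⟨.e, .e, .cba, by
      simp only [nfw, eA, eB, eC, mul_assoc, mul_one, one_mul, h.aa, h.bb, h.cc, h.aa', h.bb', h.cc', h.ca, h.ca', h.bab, h.bab', h.cbc, h.cbc', h.cbac, h.cbac']⟩
  | .e, .e, .cba => ⟨.e, .e, .cb, by
      simp only [nfw, eA, eB, eC, mul_assoc, mul_one, one_mul, h.aa, h.bb, h.cc, h.aa', h.bb', h.cc', h.ca, h.ca', h.bab, h.bab', h.cbc, h.cbc', h.cbac, h.cbac']⟩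
  | .e, .b, .e => ⟨.e, .ba, .e, by
      simp only [nfw, eA, eB, eC, mul_assoc, mul_one, one_mul, h.aa, h.bb, h.cc, h.aa', h.bb', h.cc', h.ca, h.ca', h.bab, h.bab', h.cbc, h.cbc', h.cbac, h.cbac']⟩
  | .e, .b, .c => ⟨.e, .ba, .c, by
      simp only [nfw, eA, eB, eC, mul_assoc, mul_one, one_mul, h.aa, h.bb, h.cc, h.aa', h.bb', h.cc', h.ca, h.ca', h.bab, h.bab', h.cbc, h.cbc', h.cbac, h.cbac']⟩
  | .e, .b, .cb => ⟨.e, .b, .cba, by
      simp only [nfw, eA, eB, eC, mul_assoc, mul_one, one_mul, h.aa, h.bb, h.cc, h.aa', h.bb', h.cc', h.ca, h.ca', h.bab, h.bab', h.cbc, h.cbc', h.cbac, h.cbac']⟩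
  | .e, .b, .cba => ⟨.e, .b, .cb, by
      simp only [nfw, eA, eB, eC, mul_assoc, mul_one, one_mul, h.aa, h.bb, h.cc, h.aa', h.bb', h.cc', h.ca, h.ca', h.bab, h.bab', h.cbc, h.cbc', h.cbac, h.cbac']⟩
  | .e, .ba, .e => ⟨.e, .b, .e, by
      simp only [nfw, eA, eB, eC, mul_assoc, mul_one, one_mul, h.aa, h.bb, h.cc, h.aa', h.bb', h.cc', h.ca, h.ca', h.bab, h.bab', h.cbc, h.cbc', h.cbac, h.cbac']⟩
  | .e, .ba, .c => ⟨.e, .b, .c, by
      simp only [nfw, eA, eB, eC, mul_assoc, mul_one, one_mul, h.aa, h.bb, h.cc, h.aa', h.bb', h.cc', h.ca, h.ca', h.bab, h.bab', h.cbc, h.cbc', h.cbac, h.cbac']⟩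
  | .e, .ba, .cb => ⟨.e, .ba, .cba, by
      simp only [nfw, eA, eB, eC, mul_assoc, mul_one, one_mul, h.aa, h.bb, h.cc, h.aa', h.bb', h.cc', h.ca, h.ca', h.bab, h.bab', h.cbc, h.cbc', h.cbac, h.cbac']⟩
  | .e, .ba, .cba => ⟨.e, .ba, .cb, by
      simp only [nfw, eA, eB, eC, mul_assoc, mul_one, one_mul, h.aa, h.bb, h.cc, h.aa', h.bb', h.cc', h.ca, h.ca', h.bab, h.bab', h.cbc, h.cbc', h.cbac, h.cbac']⟩
  | .a, .e, .e => ⟨.e, .e, .e, by
      simp only [nfw, eA, eB, eC, mul_assoc, mul_one, one_mul, h.aa, h.bb, h.cc, h.aa', h.bb', h.cc', h.ca, h.ca', h.bab, h.bab', h.cbc, h.cbc', h.cbac, h.cbac']⟩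
  | .a, .e, .c => ⟨.e, .e, .c, by
      simp only [nfw, eA, eB, eC, mul_assoc, mul_one, one_mul, h.aa, h.bb, h.cc, h.aa', h.bb', h.cc', h.ca, h.ca', h.bab, h.bab', h.cbc, h.cbc', h.cbac, h.cbac']⟩
  | .a, .e, .cb => ⟨.a, .e, .cba, by
      simp only [nfw, eA, eB, eC, mul_assoc, mul_one, one_mul, h.aa, h.bb, h.cc, h.aa', h.bb', h.cc', h.ca, h.ca', h.bab, h.bab', h.cbc, h.cbc', h.cbac, h.cbac']⟩
  | .a, .e, .cba => ⟨.a, .e, .cb, by
      simp only [nfw, eA, eB, eC, mul_assoc, mul_one, one_mul, h.aa, h.bb, h.cc, h.aa', h.bb', h.cc', h.ca, h.ca', h.bab, h.bab', h.cbc, h.cbc', h.cbac, h.cbac']⟩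
  | .a, .b, .e => ⟨.a, .ba, .e, by
      simp only [nfw, eA, eB, eC, mul_assoc, mul_one, one_mul, h.aa, h.bb, h.cc, h.aa', h.bb', h.cc', h.ca, h.ca', h.bab, h.bab', h.cbc, h.cbc', h.cbac, h.cbac']⟩
  | .a, .b, .c => ⟨.a, .ba, .c, by
      simp only [nfw, eA, eB, eC, mul_assoc, mul_one, one_mul, h.aa, h.bb, h.cc, h.aa', h.bb', h.cc', h.ca, h.ca', h.bab, h.bab', h.cbc, h.cbc', h.cbac, h.cbac']⟩
  | .a, .b, .cb => ⟨.a, .b, .cba, by
      simp only [nfw, eA, eB, eC, mul_assoc, mul_one, one_mul, h.aa, h.bb, h.cc, h.aa', h.bb', h.cc', h.ca, h.ca', h.bab, h.bab', h.cbc, h.cbc', h.cbac, h.cbac']⟩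
  | .a, .b, .cba => ⟨.a, .b, .cb, by
      simp only [nfw, eA, eB, eC, mul_assoc, mul_one, one_mul, h.aa, h.bb, h.cc, h.aa', h.bb', h.cc', h.ca, h.ca', h.bab, h.bab', h.cbc, h.cbc', h.cbac, h.cbac']⟩
  | .a, .ba, .e => ⟨.a, .b, .e, by
      simp only [nfw, eA, eB, eC, mul_assoc, mul_one, one_mul, h.aa, h.bb, h.cc, h.aa', h.bb', h.cc', h.ca, h.ca', h.bab, h.bab', h.cbc, h.cbc', h.cbac, h.cbac']⟩
  | .a, .ba, .c => ⟨.a, .b, .c, by
      simp only [nfw, eA, eB, eC, mul_assoc, mul_one, one_mul, h.aa, h.bb, h.cc, h.aa', h.bb', h.cc', h.ca, h.ca', h.bab, h.bab', h.cbc, h.cbc', h.cbac, h.cbac']⟩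
  | .a, .ba, .cb => ⟨.a, .ba, .cba, by
      simp only [nfw, eA, eB, eC, mul_assoc, mul_one, one_mul, h.aa, h.bb, h.cc, h.aa', h.bb', h.cc', h.ca, h.ca', h.bab, h.bab', h.cbc, h.cbc', h.cbac, h.cbac']⟩
  | .a, .ba, .cba => ⟨.a, .ba, .cb, by
      simp only [nfw, eA, eB, eC, mul_assoc, mul_one, one_mul, h.aa, h.bb, h.cc, h.aa', h.bb', h.cc', h.ca, h.ca', h.bab, h.bab', h.cbc, h.cbc', h.cbac, h.cbac']⟩

theorem nf_mul_b {Γ : Type*} [Group Γ] {a b c : Γ} (h : Rel a b c) :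
    ∀ (i : IA) (j : IB) (k : IC), ∃ i' j' k', nfw a b c i j k * b = nfw a b c i' j' k'
  | .e, .e, .e => ⟨.e, .b, .e, by
      simp only [nfw, eA, eB, eC, mul_assoc, mul_one, one_mul, h.aa, h.bb, h.cc, h.aa', h.bb', h.cc', h.ca, h.ca', h.bab, h.bab', h.cbc, h.cbc', h.cbac, h.cbac']⟩
  | .e, .e, .c => ⟨.e, .e, .cb, by
      simp only [nfw, eA, eB, eC, mul_assoc, mul_one, one_mul, h.aa, h.bb, h.cc, h.aa', h.bb', h.cc', h.ca, h.ca', h.bab, h.bab', h.cbc, h.cbc', h.cbac, h.cbac']⟩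
  | .e, .e, .cb => ⟨.e, .e, .c, by
      simp only [nfw, eA, eB, eC, mul_assoc, mul_one, one_mul, h.aa, h.bb, h.cc, h.aa', h.bb', h.cc', h.ca, h.ca', h.bab, h.bab', h.cbc, h.cbc', h.cbac, h.cbac']⟩
  | .e, .e, .cba => ⟨.a, .e, .cba, by
      simp only [nfw, eA, eB, eC, mul_assoc, mul_one, one_mul, h.aa, h.bb, h.cc, h.aa', h.bb', h.cc', h.ca, h.ca', h.bab, h.bab', h.cbc, h.cbc', h.cbac, h.cbac']⟩
  | .e, .b, .e => ⟨.e, .e, .e, by
      simp only [nfw, eA, eB, eC, mul_assoc, mul_one, one_mul, h.aa, h.bb, h.cc, h.aa', h.bb', h.cc', h.ca, h.ca', h.bab, h.bab', h.cbc, h.cbc', h.cbac, h.cbac']⟩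
  | .e, .b, .c => ⟨.e, .b, .cb, by
      simp only [nfw, eA, eB, eC, mul_assoc, mul_one, one_mul, h.aa, h.bb, h.cc, h.aa', h.bb', h.cc', h.ca, h.ca', h.bab, h.bab', h.cbc, h.cbc', h.cbac, h.cbac']⟩
  | .e, .b, .cb => ⟨.e, .b, .c, by
      simp only [nfw, eA, eB, eC, mul_assoc, mul_one, one_mul, h.aa, h.bb, h.cc, h.aa', h.bb', h.cc', h.ca, h.ca', h.bab, h.bab', h.cbc, h.cbc', h.cbac, h.cbac']⟩
  | .e, .b, .cba => ⟨.e, .ba, .cba, by
      simp only [nfw, eA, eB, eC, mul_assoc, mul_one, one_mul, h.aa, h.bb, h.cc, h.aa', h.bb', h.cc', h.ca, h.ca', h.bab, h.bab', h.cbc, h.cbc', h.cbac, h.cbac']⟩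
  | .e, .ba, .e => ⟨.a, .ba, .e, by
      simp only [nfw, eA, eB, eC, mul_assoc, mul_one, one_mul, h.aa, h.bb, h.cc, h.aa', h.bb', h.cc', h.ca, h.ca', h.bab, h.bab', h.cbc, h.cbc', h.cbac, h.cbac']⟩
  | .e, .ba, .c => ⟨.e, .ba, .cb, by
      simp only [nfw, eA, eB, eC, mul_assoc, mul_one, one_mul, h.aa, h.bb, h.cc, h.aa', h.bb', h.cc', h.ca, h.ca', h.bab, h.bab', h.cbc, h.cbc', h.cbac, h.cbac']⟩
  | .e, .ba, .cb => ⟨.e, .ba, .c, by
      simp only [nfw, eA, eB, eC, mul_assoc, mul_one, one_mul, h.aa, h.bb, h.cc, h.aa', h.bb', h.cc', h.ca, h.ca', h.bab, h.bab', h.cbc, h.cbc', h.cbac, h.cbac']⟩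
  | .e, .ba, .cba => ⟨.e, .b, .cba, by
      simp only [nfw, eA, eB, eC, mul_assoc, mul_one, one_mul, h.aa, h.bb, h.cc, h.aa', h.bb', h.cc', h.ca, h.ca', h.bab, h.bab', h.cbc, h.cbc', h.cbac, h.cbac']⟩
  | .a, .e, .e => ⟨.a, .b, .e, by
      simp only [nfw, eA, eB, eC, mul_assoc, mul_one, one_mul, h.aa, h.bb, h.cc, h.aa', h.bb', h.cc', h.ca, h.ca', h.bab, h.bab', h.cbc, h.cbc', h.cbac, h.cbac']⟩
  | .a, .e, .c => ⟨.a, .e, .cb, by
      simp only [nfw, eA, eB, eC, mul_assoc, mul_one, one_mul, h.aa, h.bb, h.cc, h.aa', h.bb', h.cc', h.ca, h.ca', h.bab, h.bab', h.cbc, h.cbc', h.cbac, h.cbac']⟩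
  | .a, .e, .cb => ⟨.a, .e, .c, by
      simp only [nfw, eA, eB, eC, mul_assoc, mul_one, one_mul, h.aa, h.bb, h.cc, h.aa', h.bb', h.cc', h.ca, h.ca', h.bab, h.bab', h.cbc, h.cbc', h.cbac, h.cbac']⟩
  | .a, .e, .cba => ⟨.e, .e, .cba, by
      simp only [nfw, eA, eB, eC, mul_assoc, mul_one, one_mul, h.aa, h.bb, h.cc, h.aa', h.bb', h.cc', h.ca, h.ca', h.bab, h.bab', h.cbc, h.cbc', h.cbac, h.cbac']⟩
  | .a, .b, .e => ⟨.a, .e, .e, by
      simp only [nfw, eA, eB, eC, mul_assoc, mul_one, one_mul, h.aa, h.bb, h.cc, h.aa', h.bb', h.cc', h.ca, h.ca', h.bab, h.bab', h.cbc, h.cbc', h.cbac, h.cbac']⟩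
  | .a, .b, .c => ⟨.a, .b, .cb, by
      simp only [nfw, eA, eB, eC, mul_assoc, mul_one, one_mul, h.aa, h.bb, h.cc, h.aa', h.bb', h.cc', h.ca, h.ca', h.bab, h.bab', h.cbc, h.cbc', h.cbac, h.cbac']⟩
  | .a, .b, .cb => ⟨.a, .b, .c, by
      simp only [nfw, eA, eB, eC, mul_assoc, mul_one, one_mul, h.aa, h.bb, h.cc, h.aa', h.bb', h.cc', h.ca, h.ca', h.bab, h.bab', h.cbc, h.cbc', h.cbac, h.cbac']⟩
  | .a, .b, .cba => ⟨.a, .ba, .cba, by
      simp only [nfw, eA, eB, eC, mul_assoc, mul_one, one_mul, h.aa, h.bb, h.cc, h.aa', h.bb', h.cc', h.ca, h.ca', h.bab, h.bab', h.cbc, h.cbc', h.cbac, h.cbac']⟩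
  | .a, .ba, .e => ⟨.e, .ba, .e, by
      simp only [nfw, eA, eB, eC, mul_assoc, mul_one, one_mul, h.aa, h.bb, h.cc, h.aa', h.bb', h.cc', h.ca, h.ca', h.bab, h.bab', h.cbc, h.cbc', h.cbac, h.cbac']⟩
  | .a, .ba, .c => ⟨.a, .ba, .cb, by
      simp only [nfw, eA, eB, eC, mul_assoc, mul_one, one_mul, h.aa, h.bb, h.cc, h.aa', h.bb', h.cc', h.ca, h.ca', h.bab, h.bab', h.cbc, h.cbc', h.cbac, h.cbac']⟩
  | .a, .ba, .cb => ⟨.a, .ba, .c, by
      simp only [nfw, eA, eB, eC, mul_assoc, mul_one, one_mul, h.aa, h.bb, h.cc, h.aa', h.bb', h.cc', h.ca, h.ca', h.bab, h.bab', h.cbc, h.cbc', h.cbac, h.cbac']⟩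
  | .a, .ba, .cba => ⟨.a, .b, .cba, by
      simp only [nfw, eA, eB, eC, mul_assoc, mul_one, one_mul, h.aa, h.bb, h.cc, h.aa', h.bb', h.cc', h.ca, h.ca', h.bab, h.bab', h.cbc, h.cbc', h.cbac, h.cbac']⟩

theorem nf_mul_c {Γ : Type*} [Group Γ] {a b c : Γ} (h : Rel a b c) :
    ∀ (i : IA) (j : IB) (k : IC), ∃ i' j' k', nfw a b c i j k * c = nfw a b c i' j' k'
  | .e, .e, .e => ⟨.e, .e, .c, by
      simp only [nfw, eA, eB, eC, mul_assoc, mul_one, one_mul, h.aa, h.bb, h.cc, h.aa', h.bb', h.cc', h.ca, h.ca', h.bab, h.bab', h.cbc, h.cbc', h.cbac, h.cbac']⟩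
  | .e, .e, .c => ⟨.e, .e, .e, by
      simp only [nfw, eA, eB, eC, mul_assoc, mul_one, one_mul, h.aa, h.bb, h.cc, h.aa', h.bb', h.cc', h.ca, h.ca', h.bab, h.bab', h.cbc, h.cbc', h.cbac, h.cbac']⟩
  | .e, .e, .cb => ⟨.e, .b, .cb, by
      simp only [nfw, eA, eB, eC, mul_assoc, mul_one, one_mul, h.aa, h.bb, h.cc, h.aa', h.bb', h.cc', h.ca, h.ca', h.bab, h.bab', h.cbc, h.cbc', h.cbac, h.cbac']⟩
  | .e, .e, .cba => ⟨.e, .b, .cba, by
      simp only [nfw, eA, eB, eC, mul_assoc, mul_one, one_mul, h.aa, h.bb, h.cc, h.aa', h.bb', h.cc', h.ca, h.ca', h.bab, h.bab', h.cbc, h.cbc', h.cbac, h.cbac']⟩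
  | .e, .b, .e => ⟨.e, .b, .c, by
      simp only [nfw, eA, eB, eC, mul_assoc, mul_one, one_mul, h.aa, h.bb, h.cc, h.aa', h.bb', h.cc', h.ca, h.ca', h.bab, h.bab', h.cbc, h.cbc', h.cbac, h.cbac']⟩
  | .e, .b, .c => ⟨.e, .b, .e, by
      simp only [nfw, eA, eB, eC, mul_assoc, mul_one, one_mul, h.aa, h.bb, h.cc, h.aa', h.bb', h.cc', h.ca, h.ca', h.bab, h.bab', h.cbc, h.cbc', h.cbac, h.cbac']⟩
  | .e, .b, .cb => ⟨.e, .e, .cb, by
      simp only [nfw, eA, eB, eC, mul_assoc, mul_one, one_mul, h.aa, h.bb, h.cc, h.aa', h.bb', h.cc', h.ca, h.ca', h.bab, h.bab', h.cbc, h.cbc', h.cbac, h.cbac']⟩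
  | .e, .b, .cba => ⟨.e, .e, .cba, by
      simp only [nfw, eA, eB, eC, mul_assoc, mul_one, one_mul, h.aa, h.bb, h.cc, h.aa', h.bb', h.cc', h.ca, h.ca', h.bab, h.bab', h.cbc, h.cbc', h.cbac, h.cbac']⟩
  | .e, .ba, .e => ⟨.e, .ba, .c, by
      simp only [nfw, eA, eB, eC, mul_assoc, mul_one, one_mul, h.aa, h.bb, h.cc, h.aa', h.bb', h.cc', h.ca, h.ca', h.bab, h.bab', h.cbc, h.cbc', h.cbac, h.cbac']⟩
  | .e, .ba, .c => ⟨.e, .ba, .e, by
      simp only [nfw, eA, eB, eC, mul_assoc, mul_one, one_mul, h.aa, h.bb, h.cc, h.aa', h.bb', h.cc', h.ca, h.ca', h.bab, h.bab', h.cbc, h.cbc', h.cbac, h.cbac']⟩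
  | .e, .ba, .cb => ⟨.a, .ba, .cb, by
      simp only [nfw, eA, eB, eC, mul_assoc, mul_one, one_mul, h.aa, h.bb, h.cc, h.aa', h.bb', h.cc', h.ca, h.ca', h.bab, h.bab', h.cbc, h.cbc', h.cbac, h.cbac']⟩
  | .e, .ba, .cba => ⟨.a, .ba, .cba, by
      simp only [nfw, eA, eB, eC, mul_assoc, mul_one, one_mul, h.aa, h.bb, h.cc, h.aa', h.bb', h.cc', h.ca, h.ca', h.bab, h.bab', h.cbc, h.cbc', h.cbac, h.cbac']⟩
  | .a, .e, .e => ⟨.a, .e, .c, by
      simp only [nfw, eA, eB, eC, mul_assoc, mul_one, one_mul, h.aa, h.bb, h.cc, h.aa', h.bb', h.cc', h.ca, h.ca', h.bab, h.bab', h.cbc, h.cbc', h.cbac, h.cbac']⟩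
  | .a, .e, .c => ⟨.a, .e, .e, by
      simp only [nfw, eA, eB, eC, mul_assoc, mul_one, one_mul, h.aa, h.bb, h.cc, h.aa', h.bb', h.cc', h.ca, h.ca', h.bab, h.bab', h.cbc, h.cbc', h.cbac, h.cbac']⟩
  | .a, .e, .cb => ⟨.a, .b, .cb, by
      simp only [nfw, eA, eB, eC, mul_assoc, mul_one, one_mul, h.aa, h.bb, h.cc, h.aa', h.bb', h.cc', h.ca, h.ca', h.bab, h.bab', h.cbc, h.cbc', h.cbac, h.cbac']⟩
  | .a, .e, .cba => ⟨.a, .b, .cba, by
      simp only [nfw, eA, eB, eC, mul_assoc, mul_one, one_mul, h.aa, h.bb, h.cc, h.aa', h.bb', h.cc', h.ca, h.ca', h.bab, h.bab', h.cbc, h.cbc', h.cbac, h.cbac']⟩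
  | .a, .b, .e => ⟨.a, .b, .c, by
      simp only [nfw, eA, eB, eC, mul_assoc, mul_one, one_mul, h.aa, h.bb, h.cc, h.aa', h.bb', h.cc', h.ca, h.ca', h.bab, h.bab', h.cbc, h.cbc', h.cbac, h.cbac']⟩
  | .a, .b, .c => ⟨.a, .b, .e, by
      simp only [nfw, eA, eB, eC, mul_assoc, mul_one, one_mul, h.aa, h.bb, h.cc, h.aa', h.bb', h.cc', h.ca, h.ca', h.bab, h.bab', h.cbc, h.cbc', h.cbac, h.cbac']⟩
  | .a, .b, .cb => ⟨.a, .e, .cb, by
      simp only [nfw, eA, eB, eC, mul_assoc, mul_one, one_mul, h.aa, h.bb, h.cc, h.aa', h.bb', h.cc', h.ca, h.ca', h.bab, h.bab', h.cbc, h.cbc', h.cbac, h.cbac']⟩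
  | .a, .b, .cba => ⟨.a, .e, .cba, by
      simp only [nfw, eA, eB, eC, mul_assoc, mul_one, one_mul, h.aa, h.bb, h.cc, h.aa', h.bb', h.cc', h.ca, h.ca', h.bab, h.bab', h.cbc, h.cbc', h.cbac, h.cbac']⟩
  | .a, .ba, .e => ⟨.a, .ba, .c, by
      simp only [nfw, eA, eB, eC, mul_assoc, mul_one, one_mul, h.aa, h.bb, h.cc, h.aa', h.bb', h.cc', h.ca, h.ca', h.bab, h.bab', h.cbc, h.cbc', h.cbac, h.cbac']⟩
  | .a, .ba, .c => ⟨.a, .ba, .e, by
      simp only [nfw, eA, eB, eC, mul_assoc, mul_one, one_mul, h.aa, h.bb, h.cc, h.aa', h.bb', h.cc', h.ca, h.ca', h.bab, h.bab', h.cbc, h.cbc', h.cbac, h.cbac']⟩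
  | .a, .ba, .cb => ⟨.e, .ba, .cb, by
      simp only [nfw, eA, eB, eC, mul_assoc, mul_one, one_mul, h.aa, h.bb, h.cc, h.aa', h.bb', h.cc', h.ca, h.ca', h.bab, h.bab', h.cbc, h.cbc', h.cbac, h.cbac']⟩
  | .a, .ba, .cba => ⟨.e, .ba, .cba, by
      simp only [nfw, eA, eB, eC, mul_assoc, mul_one, one_mul, h.aa, h.bb, h.cc, h.aa', h.bb', h.cc', h.ca, h.ca', h.bab, h.bab', h.cbc, h.cbc', h.cbac, h.cbac']⟩


theorem map_nfw {Γ Γ' : Type*} [Group Γ] [Group Γ'] (f : Γ →* Γ') (a b c : Γ) :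
    ∀ (i : IA) (j : IB) (k : IC), f (nfw a b c i j k) = nfw (f a) (f b) (f c) i j k := by
  intro i j k
  cases i <;> cases j <;> cases k <;> simp only [nfw, eA, eB, eC, map_mul, map_one]

/-- the generators as a function on `Fin 3` -/
def gen {Γ : Type*} (a b c : Γ) : Fin 3 → Γ
  | 0 => a
  | 1 => b
  | 2 => c

theorem isLiftable {Γ : Type*} [Group Γ] {a b c : Γ} (h : Rel a b c) : M3.IsLiftable (gen a b c) := by
  have hba : (b * a) ^ 3 = 1 := by
    simp only [pow_succ, pow_zero, mul_assoc, mul_one, one_mul, h.aa, h.bb, h.cc, h.aa', h.bb', h.cc', h.ca, h.ca', h.bab, h.bab', h.cbc, h.cbc', h.cbac, h.cbac']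
  have hcb : (c * b) ^ 3 = 1 := by
    simp only [pow_succ, pow_zero, mul_assoc, mul_one, one_mul, h.aa, h.bb, h.cc, h.aa', h.bb', h.cc', h.ca, h.ca', h.bab, h.bab', h.cbc, h.cbc', h.cbac, h.cbac']
  have hca : (c * a) ^ 2 = 1 := by
    simp only [pow_succ, pow_zero, mul_assoc, mul_one, one_mul, h.aa, h.bb, h.cc, h.aa', h.bb', h.cc', h.ca, h.ca', h.bab, h.bab', h.cbc, h.cbc', h.cbac, h.cbac']
  intro i i'
  match i, i' with
  | 0, 0 => show (a * a) ^ 1 = 1; rw [pow_one, h.aa]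
  | 0, 1 => exact h.ab
  | 0, 2 => exact h.ac
  | 1, 0 => exact hba
  | 1, 1 => show (b * b) ^ 1 = 1; rw [pow_one, h.bb]
  | 1, 2 => exact h.bc
  | 2, 0 => exact hca
  | 2, 1 => exact hcb
  | 2, 2 => show (c * c) ^ 1 = 1; rw [pow_one, h.cc]

/-- the Coxeter group of type `A₃` -/
abbrev W3 : Type := M3.Group

/-- its Coxeter system -/
noncomputable def cs3 : CoxeterSystem M3 W3 := M3.toCoxeterSystem

theorem relW : Rel (cs3.simple 0) (cs3.simple 1) (cs3.simple 2) where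
  aa := cs3.simple_mul_simple_self 0
  bb := cs3.simple_mul_simple_self 1
  cc := cs3.simple_mul_simple_self 2
  ab := cs3.simple_mul_simple_pow 0 1
  bc := cs3.simple_mul_simple_pow 1 2
  ac := cs3.simple_mul_simple_pow 0 2

theorem exists_nf (w : W3) : ∃ i j k, w = nfw (cs3.simple 0) (cs3.simple 1) (cs3.simple 2) i j k := by
  refine cs3.simple_induction_right
    (p := fun w => ∃ i j k, w = nfw (cs3.simple 0) (cs3.simple 1) (cs3.simple 2) i j k) w ⟨.e, .e, .e, ?_⟩ ?_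
  · simp only [nfw, eA, eB, eC, mul_one]
  · rintro w t ⟨i, j, k, rfl⟩
    match t with
    | 0 =>
      obtain ⟨i', j', k', h⟩ := nf_mul_a relW i j k
      exact ⟨i', j', k', h⟩
    | 1 =>
      obtain ⟨i', j', k', h⟩ := nf_mul_b relW i j k
      exact ⟨i', j', k', h⟩
    | 2 =>
      obtain ⟨i', j', k', h⟩ := nf_mul_c relW i j k
      exact ⟨i', j', k', h⟩

/-- the three adjacent transpositions -/
abbrev pa : Equiv.Perm (Fin 4) := Equiv.swap 0 1
/-- the three adjacent transpositions -/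
abbrev pb : Equiv.Perm (Fin 4) := Equiv.swap 1 2
/-- the three adjacent transpositions -/
abbrev pc : Equiv.Perm (Fin 4) := Equiv.swap 2 3

theorem relP : Rel pa pb pc where
  aa := by decide
  bb := by decide
  cc := by decide
  ab := by decide
  bc := by decide
  ac := by decide

/-- the projection to the symmetric group -/
noncomputable def piHom : W3 →* Equiv.Perm (Fin 4) := cs3.lift ⟨gen pa pb pc, isLiftable relP⟩

theorem piHom_simple (t : Fin 3) : piHom (cs3.simple t) = gen pa pb pc t :=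
  cs3.lift_apply_simple (isLiftable relP) t

theorem piHom_nfw (i : IA) (j : IB) (k : IC) :
    piHom (nfw (cs3.simple 0) (cs3.simple 1) (cs3.simple 2) i j k) = nfw pa pb pc i j k := by
  rw [map_nfw, piHom_simple, piHom_simple, piHom_simple]
  rfl

theorem nfw_perm_eq_one : ∀ (i : IA) (j : IB) (k : IC), nfw pa pb pc i j k = 1 → i = .e ∧ j = .e ∧ k = .e := by
  decide

theorem piHom_injective : Function.Injective piHom := by
  rw [injective_iff_map_eq_one]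
  intro w hw
  obtain ⟨i, j, k, rfl⟩ := exists_nf w
  rw [piHom_nfw] at hw
  obtain ⟨rfl, rfl, rfl⟩ := nfw_perm_eq_one i j k hw
  simp only [nfw, eA, eB, eC, mul_one]

theorem gen_perm_eq : ∀ t : Fin 3, gen pa pb pc t = Equiv.swap t.castSucc t.succ := by
  decide

theorem piHom_surjective : Function.Surjective piHom := by
  rw [← MonoidHom.mrange_eq_top]
  apply top_unique
  rw [← Equiv.Perm.mclosure_swap_castSucc_succ 3, Submonoid.closure_le]
  rintro _ ⟨t, rfl⟩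
  exact ⟨cs3.simple t, by rw [piHom_simple, gen_perm_eq]⟩

/-- the isomorphism -/
noncomputable def piEquiv : W3 ≃* Equiv.Perm (Fin 4) :=
  MulEquiv.ofBijective piHom ⟨piHom_injective, piHom_surjective⟩

theorem piEquiv_symm_gen (t : Fin 3) : piEquiv.symm (gen pa pb pc t) = cs3.simple t := by
  rw [MulEquiv.symm_apply_eq]
  exact (piHom_simple t).symm

set_option maxRecDepth 1000000 in
theorem conj_fact : ∀ (i : IA) (j : IB) (k : IC), nfw pa pb pc i j k ≠ 1 →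
    ∃ (i1 : IA) (j1 : IB) (k1 : IC) (i2 : IA) (j2 : IB) (k2 : IC),
      (nfw pa pb pc i1 j1 k1 * nfw pa pb pc i j k * (nfw pa pb pc i1 j1 k1)⁻¹) *
      (nfw pa pb pc i2 j2 k2 * nfw pa pb pc i j k * (nfw pa pb pc i2 j2 k2)⁻¹) = pa * pc := by
  decide


theorem sq_eq_one_of_orderOf {G : Type*} [Group G] {d : G} (h : orderOf d = 2) : d * d = 1 := by
  rw [← pow_two, ← h, pow_orderOf_eq_one]

theorem cube_of_not_commute {G : Type*} [Group G] {x y : G} (hx : x * x = 1) (hy : y * y = 1)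
    (hxy : ¬ Commute x y) (h : (x * y) ^ 2 = 1 ∨ (x * y) ^ 3 = 1) : (x * y) ^ 3 = 1 := by
  rcases h with h | h
  · exfalso
    apply hxy
    rw [pow_two] at h
    have h1 : x * y = (x * y)⁻¹ := eq_inv_of_mul_eq_one_right h
    have hxi : x⁻¹ = x := (eq_inv_of_mul_eq_one_right hx).symm
    have hyi : y⁻¹ = y := (eq_inv_of_mul_eq_one_right hy).symm
    rw [mul_inv_rev, hxi, hyi] at h1
    exact h1
  · exact h

theorem relG {G : Type*} [Group G] {D : Set G} (hD : Cfsg.IsThreeTranspositionSet D) {a b c : G}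
    (ha : a ∈ D) (hb : b ∈ D) (hc : c ∈ D) (hac' : Commute a c) (hab : ¬ Commute a b)
    (hbc : ¬ Commute b c) : Rel a b c where
  aa := sq_eq_one_of_orderOf (hD.1 a ha)
  bb := sq_eq_one_of_orderOf (hD.1 b hb)
  cc := sq_eq_one_of_orderOf (hD.1 c hc)
  ab := cube_of_not_commute (sq_eq_one_of_orderOf (hD.1 a ha)) (sq_eq_one_of_orderOf (hD.1 b hb)) hab
    (hD.2 a ha b hb)
  bc := cube_of_not_commute (sq_eq_one_of_orderOf (hD.1 b hb)) (sq_eq_one_of_orderOf (hD.1 c hc)) hbc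
    (hD.2 b hb c hc)
  ac := by
    rw [hac'.mul_pow, pow_two, pow_two, sq_eq_one_of_orderOf (hD.1 a ha), sq_eq_one_of_orderOf (hD.1 c hc),
      one_mul]

theorem main {G : Type*} [Group G] {a b c : G} (h : Rel a b c) (hac : a ≠ c) :
    ∃ φ : Equiv.Perm (Fin 4) →* G, Function.Injective φ ∧ φ (Equiv.swap 0 1) = a ∧
      φ (Equiv.swap 1 2) = b ∧ φ (Equiv.swap 2 3) = c := by
  let θ : W3 →* G := cs3.lift ⟨gen a b c, isLiftable h⟩
  have hθ : ∀ t, θ (cs3.simple t) = gen a b c t := fun t => cs3.lift_apply_simple (isLiftable h) t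
  let φ : Equiv.Perm (Fin 4) →* G := θ.comp piEquiv.symm.toMonoidHom
  have hφ : ∀ t : Fin 3, φ (gen pa pb pc t) = gen a b c t := by
    intro t
    show θ (piEquiv.symm (gen pa pb pc t)) = gen a b c t
    rw [piEquiv_symm_gen, hθ]
  refine ⟨φ, ?_, hφ 0, hφ 1, hφ 2⟩
  rw [injective_iff_map_eq_one]
  intro σ hσ
  by_contra hne
  obtain ⟨i, j, k, hw⟩ := exists_nf (piEquiv.symm σ)
  have hσ' : σ = nfw pa pb pc i j k := by
    have := congrArg piEquiv hw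
    rw [MulEquiv.apply_symm_apply] at this
    rw [this]
    exact piHom_nfw i j k
  rw [hσ'] at hne
  obtain ⟨i1, j1, k1, i2, j2, k2, hconj⟩ := conj_fact i j k hne
  rw [← hσ'] at hconj
  have h1 : φ (pa * pc) = 1 := by
    rw [← hconj]
    simp only [map_mul, map_inv, hσ, mul_one, mul_inv_cancel]
  rw [map_mul] at h1
  have h2 : a * c = 1 := by
    have ha : φ pa = a := hφ 0
    have hc : φ pc = c := hφ 2
    rw [ha, hc] at h1
    exact h1
  apply hac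
  have hci : c⁻¹ = c := (eq_inv_of_mul_eq_one_right h.cc).symm
  rw [← hci]
  exact eq_inv_of_mul_eq_one_left h2



/-- In a set of 3-transpositions, let a, b, c be members with a and c different and commuting, while neither a nor c commutes with b (a 3-string). Then there is an injective homomorphism from the symmetric group of degree 4 into the ambient group sending the transpositions (0 1), (1 2), (2 3) to a, b, c; so a, b, c generate a copy of the symmetric group of degree 4 in which they are transpositions. -/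
theorem result {G : Type*} [Group G] {D : Set G} (hD : Cfsg.IsThreeTranspositionSet D) {a b c : G} (ha : a ∈ D) (hb : b ∈ D) (hc : c ∈ D) (hac : a ≠ c) (hac' : Commute a c) (hab : ¬ Commute a b) (hbc : ¬ Commute b c) : ∃ φ : Equiv.Perm (Fin 4) →* G, Function.Injective φ ∧ φ (Equiv.swap 0 1) = a ∧ φ (Equiv.swap 1 2) = b ∧ φ (Equiv.swap 2 3) = c := by
  exact main (relG hD ha hb hc hac' hab hbc) hac

end Cfsg.Agent.S5344
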