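import Mathlib
import Cfsg.Statements.S0803
import Cfsg.Agent.S5344
import Cfsg.Agent.Lib.Helper5.PSL2Small
import Cfsg.Agent.Lib.Helper57.CardSL
import Cfsg.Agent.Lib.Helper41.SL2TracePow
import Cfsg.Agent.Lib.Helper41.SL2OddOrder

set_option autoImplicit false
open Cfsg

namespace Cfsg.Agent.S0803

open Cfsg.Agent.Lib.Helper41

/-- the construction: with `x² + y² = -1` and `r² = 2` the images of `(i + j)/r`, `(j + k)/r`,
`(i - j)/r` satisfy the Coxeter relations of type `A₃` -/
theorem pos_dir {F : Type*} [Field F] (h2 : (2 : F) ≠ 0) (x y r : F)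
    (hxy : x ^ 2 + y ^ 2 = -1) (hr : r ^ 2 = 2) :
    ∃ H : Subgroup (Matrix.ProjectiveSpecialLinearGroup (Fin 2) F),
      Nonempty (H ≃* Equiv.Perm (Fin 4)) := by
  have hr0 : r ≠ 0 := by
    intro h; rw [h] at hr; apply h2; rw [← hr]; ring
  let S1 : Matrix.SpecialLinearGroup (Fin 2) F :=
    ⟨!![x / r, (y - 1) / r; (y + 1) / r, -x / r], by
      rw [Matrix.det_fin_two_of]; field_simp; linear_combination (-1 : F) * hxy - hr⟩
  let S2 : Matrix.SpecialLinearGroup (Fin 2) F :=
    ⟨!![y / r, (-1 - x) / r; (1 - x) / r, -y / r], by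
      rw [Matrix.det_fin_two_of]; field_simp; linear_combination (-1 : F) * hxy - hr⟩
  let S3 : Matrix.SpecialLinearGroup (Fin 2) F :=
    ⟨!![x / r, (y + 1) / r; (y - 1) / r, -x / r], by
      rw [Matrix.det_fin_two_of]; field_simp; linear_combination (-1 : F) * hxy - hr⟩
  have hS1 : (S1 : Matrix (Fin 2) (Fin 2) F) = !![x / r, (y - 1) / r; (y + 1) / r, -x / r] := rfl
  have hS2 : (S2 : Matrix (Fin 2) (Fin 2) F) = !![y / r, (-1 - x) / r; (1 - x) / r, -y / r] := rfl
  have hS3 : (S3 : Matrix (Fin 2) (Fin 2) F) = !![x / r, (y + 1) / r; (y - 1) / r, -x / r] := rfl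
  have t1 : tr2 S1 = 0 := by unfold tr2; rw [hS1]; simp; ring
  have t2 : tr2 S2 = 0 := by unfold tr2; rw [hS2]; simp; ring
  have t3 : tr2 S3 = 0 := by unfold tr2; rw [hS3]; simp; ring
  have t12 : tr2 (S1 * S2) = -1 := by
    rw [tr2_mul, hS1, hS2]; simp; field_simp
    first | linear_combination hr | linear_combination (-1 : F) * hr | linear_combination (2 : F) * hr | linear_combination (-2 : F) * hr
  have t23 : tr2 (S2 * S3) = 1 := by
    rw [tr2_mul, hS2, hS3]; simp; field_simp
    first | linear_combination hr | linear_combination (-1 : F) * hr | linear_combination (2 : F) * hr | linear_combination (-2 : F) * hr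
  have t13 : tr2 (S1 * S3) = 0 := by
    rw [tr2_mul, hS1, hS3]; simp; field_simp
    first | linear_combination hxy | linear_combination (-1 : F) * hxy | linear_combination (2 : F) * hxy | linear_combination (-2 : F) * hxy
  have rel : Cfsg.Agent.S5344.Rel
      (QuotientGroup.mk S1 : Matrix.ProjectiveSpecialLinearGroup (Fin 2) F)
      (QuotientGroup.mk S2) (QuotientGroup.mk S3) :=
    { aa := mk_mul_self_of_tr2_zero S1 t1
      bb := mk_mul_self_of_tr2_zero S2 t2
      cc := mk_mul_self_of_tr2_zero S3 t3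
      ab := by rw [← QuotientGroup.mk_mul]; exact mk_pow_three_of_tr2 _ (Or.inr t12)
      bc := by rw [← QuotientGroup.mk_mul]; exact mk_pow_three_of_tr2 _ (Or.inl t23)
      ac := by rw [← QuotientGroup.mk_mul, pow_two]; exact mk_mul_self_of_tr2_zero _ t13 }
  have hac : (QuotientGroup.mk S1 : Matrix.ProjectiveSpecialLinearGroup (Fin 2) F)
      ≠ QuotientGroup.mk S3 := by
    rw [Ne, mk_eq_mk_iff]
    rintro (h | h)
    · have h01 := congrFun (congrFun h 0) 1
      rw [hS1, hS3] at h01
      simp at h01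
      field_simp at h01
      apply h2
      linear_combination (-1 : F) * h01
    · have h01 := congrFun (congrFun h 0) 1
      have h00 := congrFun (congrFun h 0) 0
      rw [hS1, hS3] at h01 h00
      simp at h01 h00
      field_simp at h01 h00
      have hy : y = 0 := by
        have : 2 * y = 0 := by linear_combination h01
        rcases mul_eq_zero.mp this with h | h
        · exact absurd h h2
        · exact h
      have hx : x = 0 := by
        have : 2 * x = 0 := by linear_combination h00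
        rcases mul_eq_zero.mp this with h | h
        · exact absurd h h2
        · exact h
      rw [hx, hy] at hxy
      norm_num at hxy
  obtain ⟨φ, hφ, -⟩ := Cfsg.Agent.S5344.main rel hac
  exact ⟨φ.range, ⟨(MonoidHom.ofInjective hφ).symm⟩⟩

/-- in characteristic 2 there are no elements of order 4 in `PSL₂(F)` -/
theorem sq_eq_one_of_pow_four_char_two {F : Type*} [Field F] [CharP F 2]
    (x : Matrix.ProjectiveSpecialLinearGroup (Fin 2) F) (h : x ^ 4 = 1) : x ^ 2 = 1 := by
  obtain ⟨g, rfl⟩ := QuotientGroup.mk_surjective x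
  rw [mk_pow_eq_one_iff] at h ⊢
  have h2 : (2 : F) = 0 := CharTwo.two_eq_zero
  have hneg : (-1 : Matrix (Fin 2) (Fin 2) F) = 1 := by
    ext i j
    rw [Matrix.neg_apply, CharTwo.neg_eq]
  have h4 : (g : Matrix (Fin 2) (Fin 2) F) ^ 4 = 1 := by
    rcases h with h | h
    · exact h
    · rw [h, hneg]
  left
  have hGG := cayley_hamilton g
  obtain ⟨t, ht⟩ : ∃ t, t = tr2 g := ⟨_, rfl⟩
  rw [← ht] at hGG
  have e4 : (g : Matrix (Fin 2) (Fin 2) F) ^ 4
      = (t ^ 3 - 2 * t) • (g : Matrix (Fin 2) (Fin 2) F)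
        - (t ^ 2 - 1) • (1 : Matrix (Fin 2) (Fin 2) F) := by
    have : (g : Matrix (Fin 2) (Fin 2) F) ^ 4
        = ((g : Matrix (Fin 2) (Fin 2) F) * (g : Matrix (Fin 2) (Fin 2) F))
          * ((g : Matrix (Fin 2) (Fin 2) F) * (g : Matrix (Fin 2) (Fin 2) F)) := by
      rw [show (4 : ℕ) = 2 + 2 from rfl, pow_add, pow_two]
    rw [this, hGG, Matrix.sub_mul, Matrix.mul_sub, Matrix.mul_sub, Matrix.smul_mul,
      Matrix.mul_smul, hGG, Matrix.one_mul, Matrix.mul_one, Matrix.one_mul]
    module
  rw [h4] at e4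
  have e00 := congrFun (congrFun e4 0) 0
  have e11 := congrFun (congrFun e4 1) 1
  simp only [Matrix.sub_apply, Matrix.smul_apply, Matrix.one_apply_eq, smul_eq_mul, mul_one] at e00 e11
  have htt : t ^ 4 = 0 := by
    have hsum : (g : Matrix (Fin 2) (Fin 2) F) 0 0 + (g : Matrix (Fin 2) (Fin 2) F) 1 1 = t := by
      rw [ht]; rfl
    linear_combination (-1 : F) * e00 - e11 - (t ^ 3 - 2 * t) * hsum + (2 * t ^ 2) * h2
  have ht0 : t = 0 := pow_eq_zero_iff (by norm_num) |>.mp htt
  rw [pow_two, hGG, ht0, zero_smul, zero_sub, hneg]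

/-- `PSL_2(q)` has a subgroup isomorphic to `S_4` iff `q² ≡ 1 (mod 16)`. -/
theorem result {F : Type*} [Field F] [Fintype F] {q : ℕ} (hF : Fintype.card F = q) : (∃ H : Subgroup (Matrix.ProjectiveSpecialLinearGroup (Fin 2) F), Nonempty (H ≃* Equiv.Perm (Fin 4))) ↔ q ^ 2 % 16 = 1 := by
  classical
  subst hF
  constructor
  · rintro ⟨H, ⟨e⟩⟩
    have hcard : Nat.card H = 24 := by
      rw [Nat.card_congr e.toEquiv, Nat.card_eq_fintype_card, Fintype.card_perm, Fintype.card_fin]
      rfl
    rcases Nat.even_or_odd (Fintype.card F) with he | ho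
    · exfalso
      have hchar : ringChar F = 2 := FiniteField.even_card_iff_char_two.mpr (Nat.even_iff.mp he)
      have : CharP F 2 := by rw [← hchar]; exact ringChar.charP F
      let c : Equiv.Perm (Fin 4) := finRotate 4
      have hc4 : c ^ 4 = 1 := by decide
      have hc2 : c ^ 2 ≠ 1 := by decide
      have hx4 : ((e.symm c : H) : Matrix.ProjectiveSpecialLinearGroup (Fin 2) F) ^ 4 = 1 := by
        rw [← Subgroup.coe_pow, ← map_pow, hc4, map_one]; rfl
      have hx2 := sq_eq_one_of_pow_four_char_two _ hx4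
      apply hc2
      apply e.symm.injective
      apply Subtype.ext
      rw [map_pow, map_one, Subgroup.coe_pow]
      exact hx2
    · have h24 : 24 ∣ Nat.card (Matrix.ProjectiveSpecialLinearGroup (Fin 2) F) := by
        rw [← hcard]; exact Subgroup.card_subgroup_dvd_card H
      have hcen : Nat.card (Subgroup.center (Matrix.SpecialLinearGroup (Fin 2) F)) = 2 := by
        rw [Cfsg.Agent.Lib.Helper57.card_center_SL 2 (by norm_num)]
        rcases ho with ⟨k, hk⟩
        rw [hk]
        simp
      have h3 : Nat.card (Matrix.ProjectiveSpecialLinearGroup (Fin 2) F) * 2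
          = Fintype.card F * (Fintype.card F ^ 2 - 1) := by
        have := Cfsg.Agent.Lib.Helper5.card_PSL2_mul (F := F)
        rw [hcen] at this
        exact this
      obtain ⟨j, hj⟩ := h24
      rw [hj] at h3
      set q := Fintype.card F with hq
      have hq1 : 1 ≤ q ^ 2 := Nat.one_le_pow _ _ Fintype.card_pos
      have h5 : q ^ 3 = q + 16 * (3 * j) := by
        have : q * (q ^ 2 - 1) + q = q ^ 3 := by
          have : q ^ 2 - 1 + 1 = q ^ 2 := by omega
          calc q * (q ^ 2 - 1) + q = q * (q ^ 2 - 1 + 1) := by ring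
            _ = q ^ 3 := by rw [this]; ring
        rw [← this, ← h3]; ring
      have h6 : (q % 16) ^ 3 % 16 = q % 16 := by
        rw [← Nat.pow_mod, h5, Nat.add_mul_mod_self_left]
      have h7 : q ^ 2 % 16 = (q % 16) ^ 2 % 16 := Nat.pow_mod _ _ _
      have hodd : (q % 16) % 2 = 1 := by
        rw [Nat.mod_mod_of_dvd q (by norm_num : 2 ∣ 16)]
        exact Nat.odd_iff.mp ho
      have hlt : q % 16 < 16 := Nat.mod_lt _ (by norm_num)
      rw [h7]
      generalize q % 16 = s at h6 hodd hlt
      interval_cases s <;> simp_all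
  · intro h
    set q := Fintype.card F with hq
    have h7 : q ^ 2 % 16 = (q % 16) ^ 2 % 16 := Nat.pow_mod _ _ _
    have h8 : q % 8 = (q % 16) % 8 := (Nat.mod_mod_of_dvd q (by norm_num : 8 ∣ 16)).symm
    have h2' : q % 2 = (q % 16) % 2 := (Nat.mod_mod_of_dvd q (by norm_num : 2 ∣ 16)).symm
    have hlt : q % 16 < 16 := Nat.mod_lt _ (by norm_num)
    rw [h7] at h
    have hq8 : (q % 8 ≠ 3 ∧ q % 8 ≠ 5) ∧ q % 2 = 1 := by
      rw [h8, h2']
      generalize q % 16 = s at h hlt
      interval_cases s <;> simp_all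
    obtain ⟨hq8, hq2⟩ := hq8
    obtain ⟨r, hr⟩ := FiniteField.isSquare_two_iff.mpr hq8
    have hchar : ringChar F ≠ 2 := by
      intro hc
      have := FiniteField.even_card_iff_char_two.mp hc
      omega
    have h2 : (2 : F) ≠ 0 := Ring.two_ne_zero hchar
    have : Fact (ringChar F).Prime := ⟨CharP.char_is_prime F _⟩
    obtain ⟨x', y', hxy'⟩ := CharP.sq_add_sq F (ringChar F) (-1)
    have hxy : (x' : F) ^ 2 + (y' : F) ^ 2 = -1 := by rw [hxy']; simp
    exact pos_dir h2 x' y' r hxy (by rw [hr, pow_two])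

end Cfsg.Agent.S0803
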