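import Cfsg.Statements.S0252
import Mathlib
-- import your own Cfsg.Agent.* helpers here
import Cfsg.Agent.Lib.Helper5.PSL2Small

set_option autoImplicit false
open Cfsg

namespace Cfsg.Agent.S0252

open Matrix
open scoped MatrixGroups Nat

/-- PSL_2(4) is isomorphic to A_5. -/
theorem result {F : Type*} [Field F] [Fintype F] (hF : Fintype.card F = 4) : Nonempty (Matrix.ProjectiveSpecialLinearGroup (Fin 2) F ≃* alternatingGroup (Fin 5)) := by
  have h4 : (4 : F) = 0 := by
    have := Nat.cast_card_eq_zero F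
    rw [hF] at this
    exact_mod_cast this
  have h2 : (2 : F) = 0 := by
    have : (2 : F) ^ 2 = 0 := by rw [← h4]; norm_num
    exact pow_eq_zero_iff two_ne_zero |>.mp this
  have hc := Cfsg.Agent.Lib.Helper5.center_SL2_eq_bot_of_two_eq_zero h2
  have hn : Fintype.card F + 1 = 5 := by rw [hF]
  refine Cfsg.Agent.Lib.Helper5.nonempty_mulEquiv_alternatingGroup_of_injective (by norm_num)
    (Cfsg.Agent.Lib.Helper5.pslToPermFin hn) (Cfsg.Agent.Lib.Helper5.pslToPermFin_injective hn) ?_
  have h := Cfsg.Agent.Lib.Helper5.card_PSL2_mul (F := F)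
  rw [hc, Subgroup.card_bot, mul_one, hF] at h
  rw [h]
  rfl

end Cfsg.Agent.S0252
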