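import Mathlib
import Cfsg.Statements.S0804
import Cfsg.Agent.S0252
import Cfsg.Agent.S0253
import Cfsg.Agent.Lib.Helper5.PSL2Small
import Cfsg.Agent.Lib.Helper41.SL2TracePow
import Cfsg.Agent.Lib.Helper41.SubfieldPSL
import Cfsg.Agent.Lib.Helper41.A5Pres

set_option autoImplicit false
open Cfsg

namespace Cfsg.Agent.S0804

open Cfsg.Agent.Lib.Helper41

/-- `5` is a square in a finite field of odd order `q ≡ ±1 (mod 5)` -/
theorem isSquare_five {F : Type*} [Field F] [Fintype F] (hF2 : ringChar F ≠ 2)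
    (hq : Fintype.card F % 5 = 1 ∨ Fintype.card F % 5 = 4) : IsSquare (5 : F) := by
  have h1 : IsSquare (1 : ZMod 5) := ⟨(1 : ZMod 5), by decide⟩
  have h4 : IsSquare (4 : ZMod 5) := ⟨(2 : ZMod 5), by decide⟩
  have : Fact (Nat.Prime 5) := ⟨by norm_num⟩
  have key : IsSquare ((5 : ℕ) : F) := by
    rw [FiniteField.isSquare_odd_prime_iff hF2 (p := 5) (by norm_num), Ne,
      quadraticChar_neg_one_iff_not_isSquare, not_not]
    have hodd := FiniteField.odd_card_of_char_ne_two hF2
    rw [ZMod.χ₄_nat_eq_if_mod_four]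
    have hq5 : ((Fintype.card F : ℕ) : ZMod 5) = ((Fintype.card F % 5 : ℕ) : ZMod 5) :=
      (ZMod.natCast_mod _ 5).symm
    rw [hq5]
    have hne : ¬ (Fintype.card F % 2 = 0) := by omega
    rw [if_neg hne]
    split_ifs <;> rcases hq with h | h <;> rw [h] <;> norm_num <;> first | exact h1 | exact h4
  simpa using key

/-- the construction in characteristic `≠ 2`: with `x² + y² = -1` and `τ² + τ = 1` -/
theorem pos_odd {F : Type*} [Field F] (h2 : (2 : F) ≠ 0) (x y τ : F)
    (hxy : x ^ 2 + y ^ 2 = -1) (hτ : τ ^ 2 + τ = 1) :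
    ∃ H : Subgroup (Matrix.ProjectiveSpecialLinearGroup (Fin 2) F),
      Nonempty (H ≃* alternatingGroup (Fin 5)) := by
  let A : Matrix.SpecialLinearGroup (Fin 2) F :=
    ⟨!![(-1 + x + y) / 2, (y - 1 - x) / 2; (y + 1 - x) / 2, (-1 - x - y) / 2], by
      rw [Matrix.det_fin_two_of]; field_simp; linear_combination (-2) * hxy⟩
  let B : Matrix.SpecialLinearGroup (Fin 2) F :=
    ⟨!![(τ - (1 + τ) * x) / 2, (-(1 + τ) * y - 1) / 2; (-(1 + τ) * y + 1) / 2, (τ + (1 + τ) * x) / 2], by
      rw [Matrix.det_fin_two_of]; field_simp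
      linear_combination (-(1 + τ) ^ 2) * hxy + 2 * hτ⟩
  have hA : (A : Matrix (Fin 2) (Fin 2) F)
      = !![(-1 + x + y) / 2, (y - 1 - x) / 2; (y + 1 - x) / 2, (-1 - x - y) / 2] := rfl
  have hB : (B : Matrix (Fin 2) (Fin 2) F)
      = !![(τ - (1 + τ) * x) / 2, (-(1 + τ) * y - 1) / 2; (-(1 + τ) * y + 1) / 2, (τ + (1 + τ) * x) / 2] := rfl
  have tA : tr2 A = -1 := by unfold tr2; rw [hA]; simp; field_simp; ring
  have tB : tr2 B = τ := by unfold tr2; rw [hB]; simp; field_simp; ring
  have tAB : tr2 (A * B) = 0 := by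
    rw [tr2_mul, hA, hB]; simp; field_simp
    linear_combination (-2 * (1 + τ)) * hxy
  refine exists_a5_of_pres (QuotientGroup.mk A : Matrix.ProjectiveSpecialLinearGroup (Fin 2) F)
    (QuotientGroup.mk B) (mk_pow_three_of_tr2 A (Or.inr tA)) (mk_pow_five_of_tr2 B ?_) ?_ ?_
  · rw [tB]; exact hτ
  · rw [← QuotientGroup.mk_mul, pow_two]; exact mk_mul_self_of_tr2_zero _ tAB
  · rw [Ne, mk_eq_one_iff]
    rintro (h | h)
    · have h01 := congrFun (congrFun h 0) 1
      have h10 := congrFun (congrFun h 1) 0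
      rw [hA] at h01 h10
      simp at h01 h10
      have h01' := h01.resolve_right h2
      have h10' := h10.resolve_right h2
      have : (2 : F) = 0 := by linear_combination h10' - h01'
      exact h2 this
    · have h01 := congrFun (congrFun h 0) 1
      have h10 := congrFun (congrFun h 1) 0
      rw [hA] at h01 h10
      simp at h01 h10
      have h01' := h01.resolve_right h2
      have h10' := h10.resolve_right h2
      have : (2 : F) = 0 := by linear_combination h10' - h01'
      exact h2 this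

theorem four_pow_mod_five (k : ℕ) : 4 ^ k % 5 = 1 ∨ 4 ^ k % 5 = 4 := by
  induction k with
  | zero => left; rfl
  | succ k ih =>
    rw [pow_succ, Nat.mul_mod]
    rcases ih with h | h <;> rw [h] <;> simp

/-- `q³ ≡ q (mod 5)` and `5 ∤ q` force `q ≡ ±1 (mod 5)` -/
theorem mod_five_of_dvd (q : ℕ) (hq : 1 ≤ q) (h : 5 ∣ q * (q ^ 2 - 1)) (h5 : ¬ 5 ∣ q) :
    q % 5 = 1 ∨ q % 5 = 4 := by
  obtain ⟨j, hj⟩ := h
  have hq1 : 1 ≤ q ^ 2 := Nat.one_le_pow _ _ hq
  have h3 : q ^ 3 = q + 5 * j := by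
    have : q * (q ^ 2 - 1) + q = q ^ 3 := by
      have : q ^ 2 - 1 + 1 = q ^ 2 := by omega
      calc q * (q ^ 2 - 1) + q = q * (q ^ 2 - 1 + 1) := by ring
        _ = q ^ 3 := by rw [this]; ring
    rw [← this, hj]; ring
  have h6 : (q % 5) ^ 3 % 5 = q % 5 := by
    rw [← Nat.pow_mod, h3, Nat.add_mul_mod_self_left]
  have hne : q % 5 ≠ 0 := fun h0 => h5 (Nat.dvd_of_mod_eq_zero h0)
  have hlt : q % 5 < 5 := Nat.mod_lt _ (by norm_num)
  generalize q % 5 = s at h6 hne hlt
  interval_cases s <;> simp_all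

/-- PSL_2(q) has a subgroup isomorphic to A_5 if and only if 5 divides q(q^2 - 1). -/
theorem result {F : Type*} [Field F] [Fintype F] {q : ℕ} (hF : Fintype.card F = q) : (∃ H : Subgroup (Matrix.ProjectiveSpecialLinearGroup (Fin 2) F), Nonempty (H ≃* alternatingGroup (Fin 5))) ↔ 5 ∣ q * (q ^ 2 - 1) := by
  classical
  subst hF
  constructor
  · rintro ⟨H, ⟨e⟩⟩
    have hcard : Nat.card H = 60 := by
      rw [Nat.card_congr e.toEquiv, nat_card_alternatingGroup, Nat.card_eq_fintype_card,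
        Fintype.card_fin]
      rfl
    have h1 : Nat.card H ∣ Nat.card (Matrix.ProjectiveSpecialLinearGroup (Fin 2) F) :=
      Subgroup.card_subgroup_dvd_card H
    rw [← Cfsg.Agent.Lib.Helper5.card_PSL2_mul (F := F)]
    exact Dvd.dvd.mul_right (dvd_trans (by rw [hcard]; norm_num) h1) _
  · intro h
    have hprime : (ringChar F).Prime := CharP.char_is_prime F _
    have : Fact (ringChar F).Prime := ⟨hprime⟩
    obtain ⟨n, -, hn⟩ := FiniteField.card F (ringChar F)
    by_cases h5 : ringChar F = 5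
    · -- characteristic 5
      have : CharP F 5 := by rw [← h5]; exact ringChar.charP F
      have : Fact (Nat.Prime 5) := ⟨by norm_num⟩
      obtain ⟨H, ⟨e⟩⟩ := exists_subgroup_psl_of_ringHom (K := ZMod 5) (F := F)
        (ZMod.castHom (dvd_refl 5) F)
      obtain ⟨e'⟩ := Cfsg.Agent.S0253.result (F := ZMod 5) (ZMod.card 5)
      exact ⟨H, ⟨e.trans e'⟩⟩
    have hnd : ¬ 5 ∣ Fintype.card F := by
      intro hd
      rw [hn] at hd
      have := (Nat.prime_dvd_prime_iff_eq (by norm_num) hprime).mp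
        (Nat.Prime.dvd_of_dvd_pow (by norm_num) hd)
      exact h5 this.symm
    have hmod := mod_five_of_dvd _ Fintype.card_pos h hnd
    by_cases h2 : ringChar F = 2
    · -- characteristic 2
      rw [h2] at hn
      have hneven : Even (n : ℕ) := by
        rw [← Nat.not_odd_iff_even]
        rintro ⟨k, hk⟩
        have e : 2 ^ (2 * k + 1) = 4 ^ k * 2 := by rw [pow_succ, pow_mul]; norm_num
        rw [hn, hk, e] at hmod
        rcases four_pow_mod_five k with h4 | h4 <;> omega
      obtain ⟨m, hm⟩ := hneven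
      have hm1 : 1 ≤ m := by
        have := n.pos
        omega
      have : Fact (Nat.Prime 2) := ⟨Nat.prime_two⟩
      let _ : Fintype (GaloisField 2 2) := Fintype.ofFinite _
      have hK : Fintype.card (GaloisField 2 2) = 4 := by
        rw [← Nat.card_eq_fintype_card, GaloisField.card 2 2 (by norm_num)]
        norm_num
      have hKm : Fintype.card (GaloisField 2 2) ^ m = Fintype.card F := by
        rw [hK, hn, hm, ← two_mul, pow_mul]
        norm_num
      obtain ⟨φ⟩ := exists_ringHom_of_card_pow m hm1 hKm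
      obtain ⟨H, ⟨e⟩⟩ := exists_subgroup_psl_of_ringHom φ
      obtain ⟨e'⟩ := Cfsg.Agent.S0252.result (F := GaloisField 2 2) hK
      exact ⟨H, ⟨e.trans e'⟩⟩
    · -- odd characteristic different from 5
      have h2F : (2 : F) ≠ 0 := Ring.two_ne_zero h2
      obtain ⟨s, hs⟩ := isSquare_five h2 hmod
      obtain ⟨x', y', hxy'⟩ := CharP.sq_add_sq F (ringChar F) (-1)
      have hxy : (x' : F) ^ 2 + (y' : F) ^ 2 = -1 := by rw [hxy']; simp
      refine pos_odd h2F x' y' ((-1 + s) / 2) hxy ?_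
      field_simp
      linear_combination (-1 : F) * hs

end Cfsg.Agent.S0804
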