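import Mathlib
import Cfsg.Statements.S0805
import Cfsg.Agent.S0265
import Cfsg.Agent.Lib.Helper5.PSL2Small
import Cfsg.Agent.Lib.Helper57.CardSL
import Cfsg.Agent.Lib.Helper41.SubfieldPSL

set_option autoImplicit false
open Cfsg

namespace Cfsg.Agent.S0805

open Cfsg.Agent.Lib.Helper41

/-- Subfield subgroups: let F be a finite field of odd order q and K a finite field with |K|^m = q, m ≥ 1. Then PSL_2(F) has a subgroup isomorphic to PSL_2(K), and has a subgroup isomorphic to PGL_2(K) if and only if m is even. -/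
theorem result {F K : Type*} [Field F] [Fintype F] [Field K] [Fintype K] {q : ℕ} (hF : Fintype.card F = q) (hodd : Odd q) (m : ℕ) (hm : 1 ≤ m) (hK : Fintype.card K ^ m = q) : (∃ H : Subgroup (Matrix.ProjectiveSpecialLinearGroup (Fin 2) F), Nonempty (H ≃* Matrix.ProjectiveSpecialLinearGroup (Fin 2) K)) ∧ ((∃ H : Subgroup (Matrix.ProjectiveSpecialLinearGroup (Fin 2) F), Nonempty (H ≃* Matrix.ProjGenLinGroup (Fin 2) K)) ↔ Even m) := by
  classical
  subst hF
  obtain ⟨φ⟩ := exists_ringHom_of_card_pow m hm hK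
  refine ⟨exists_subgroup_psl_of_ringHom φ, ?_, ?_⟩
  · rintro ⟨H, ⟨e⟩⟩
    by_contra hne
    have hmodd : Odd m := Nat.not_even_iff_odd.mp hne
    set r := Fintype.card K with hr
    have hrodd : Odd r := by
      rcases Nat.even_or_odd r with he | ho
      · exfalso
        have : Even (r ^ m) := Nat.even_pow.mpr ⟨he, by omega⟩
        rw [hK] at this
        exact (Nat.not_even_iff_odd.mpr hodd) this
      · exact ho
    have hr3 : 3 ≤ r := by
      have h2 : 2 ≤ r := Fintype.one_lt_card
      rcases hrodd with ⟨k, hk⟩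
      omega
    have h1 : Nat.card H = r * (r ^ 2 - 1) := by
      rw [Nat.card_congr e.toEquiv, Cfsg.Agent.S0265.result, Cfsg.Agent.Lib.Helper5.card_SL2]
    have hcen : Nat.card (Subgroup.center (Matrix.SpecialLinearGroup (Fin 2) F)) = 2 := by
      rw [Cfsg.Agent.Lib.Helper57.card_center_SL 2 (by norm_num)]
      rcases hodd with ⟨k, hk⟩
      rw [hk]
      simp
    have h3 : Nat.card (Matrix.ProjectiveSpecialLinearGroup (Fin 2) F) * 2
        = Fintype.card F * (Fintype.card F ^ 2 - 1) := by
      have := Cfsg.Agent.Lib.Helper5.card_PSL2_mul (F := F)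
      rw [hcen] at this
      exact this
    have h4 : Nat.card H ∣ Nat.card (Matrix.ProjectiveSpecialLinearGroup (Fin 2) F) :=
      Subgroup.card_subgroup_dvd_card H
    apply two_mul_not_dvd_of_odd r m hrodd hr3 hmodd
    rw [hK, ← h3, ← h1, mul_comm]
    exact Nat.mul_dvd_mul_right h4 2
  · intro hm2
    exact exists_subgroup_pgl_of_ringHom φ (exists_sq_of_even_degree φ m hm2 hodd hK)

end Cfsg.Agent.S0805
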