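import Cfsg.Statements.S0307
import Mathlib

set_option autoImplicit false
open Cfsg

namespace Cfsg.Agent.S0307


open Matrix in
/-- kernel of the projection `ZMod N → ZMod d` consists of multiples of `n`, `d = gcd n N`. -/
theorem exists_mul_of_cast_eq_zero (n N : ℕ) [NeZero N] (x : ZMod N)
    (hx : (ZMod.castHom (Nat.gcd_dvd_right n N) (ZMod (Nat.gcd n N)) x) = 0) :
    ∃ y : ZMod N, (n : ZMod N) * y = x := by
  rw [ZMod.castHom_apply, ← ZMod.natCast_val, ZMod.natCast_eq_zero_iff] at hx
  obtain ⟨k, hk⟩ := hx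
  have hbez : ((Nat.gcd n N : ℕ) : ZMod N) = (n : ZMod N) * ((Nat.gcdA n N : ℤ) : ZMod N) := by
    have h := Nat.gcd_eq_gcd_ab n N
    have h2 := congrArg (fun z : ℤ => (z : ZMod N)) h
    simp only [Int.cast_add, Int.cast_mul, Int.cast_natCast, ZMod.natCast_self, zero_mul,
      add_zero] at h2
    exact h2
  refine ⟨((Nat.gcdA n N : ℤ) : ZMod N) * (k : ZMod N), ?_⟩
  rw [← mul_assoc, ← hbez]
  have : x = ((x.val : ℕ) : ZMod N) := (ZMod.natCast_zmod_val x).symm
  rw [this, hk]
  push_cast
  rfl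


/-- PSL_n(q) is normal in PGL_n(q) with cyclic quotient of order gcd(n, q-1): the image of the natural map PSL_n → PGL_n is the kernel of a surjective homomorphism onto the cyclic group of that order. -/
theorem result {F : Type*} [Field F] [Fintype F] {q : ℕ} (hF : Fintype.card F = q) (n : ℕ) (hn : 1 ≤ n) : ∃ g : Matrix.ProjGenLinGroup (Fin n) F →* Multiplicative (ZMod (Nat.gcd n (q - 1))), Function.Surjective g ∧ g.ker = (Matrix.ProjectiveSpecialLinearGroup.toPGL : Matrix.ProjectiveSpecialLinearGroup (Fin n) F →* Matrix.ProjGenLinGroup (Fin n) F).range := by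
  classical
  have hq2 : 2 ≤ q := by
    rw [← hF]; exact Fintype.one_lt_card
  have : NeZero (q - 1) := ⟨by omega⟩
  have : Nonempty (Fin n) := ⟨⟨0, by omega⟩⟩
  have hcard : Nat.card Fˣ = q - 1 := by
    rw [Nat.card_eq_fintype_card, Fintype.card_units, hF]
  obtain ⟨e, -⟩ : ∃ e : Multiplicative (ZMod (q - 1)) ≃* Fˣ, True := by
    rw [← hcard]; exact ⟨zmodCyclicMulEquiv inferInstance, trivial⟩
  set d := Nat.gcd n (q - 1) with hd
  have hdn : d ∣ n := Nat.gcd_dvd_left n (q - 1)
  let π : Multiplicative (ZMod (q - 1)) →* Multiplicative (ZMod d) :=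
    AddMonoidHom.toMultiplicative (ZMod.castHom (Nat.gcd_dvd_right n (q - 1)) (ZMod d)).toAddMonoidHom
  have hπsurj : Function.Surjective π := by
    intro y
    obtain ⟨x, hx⟩ := ZMod.ringHom_surjective (ZMod.castHom (Nat.gcd_dvd_right n (q - 1)) (ZMod d))
      (Multiplicative.toAdd y)
    exact ⟨Multiplicative.ofAdd x, by simp [π, hx]⟩
  let ψ : Fˣ →* Multiplicative (ZMod d) := π.comp e.symm.toMonoidHom
  have hψsurj : Function.Surjective ψ := hπsurj.comp e.symm.surjective
  have hψpow : ∀ u : Fˣ, ψ (u ^ n) = 1 := by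
    intro u
    rw [map_pow]
    have : ∀ z : Multiplicative (ZMod d), z ^ n = 1 := by
      intro z
      rw [← ofAdd_toAdd z, ← ofAdd_nsmul, nsmul_eq_mul, (ZMod.natCast_eq_zero_iff n d).2 hdn,
        zero_mul]
      rfl
    exact this _
  have hψker : ∀ v : Fˣ, ψ v = 1 → ∃ u : Fˣ, v = u ^ n := by
    intro v hv
    have hv' : (ZMod.castHom (Nat.gcd_dvd_right n (q - 1)) (ZMod (Nat.gcd n (q - 1))))
        (Multiplicative.toAdd (e.symm v)) = 0 := by
      have : π (e.symm v) = 1 := hv
      simpa [π] using this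
    obtain ⟨y, hy⟩ := exists_mul_of_cast_eq_zero n (q - 1) _ hv'
    refine ⟨e (Multiplicative.ofAdd y), ?_⟩
    rw [← map_pow, ← ofAdd_nsmul, nsmul_eq_mul, hy, ofAdd_toAdd, MulEquiv.apply_symm_apply]
  let φ : Matrix.GeneralLinearGroup (Fin n) F →* Multiplicative (ZMod d) :=
    ψ.comp Matrix.GeneralLinearGroup.det
  have hφcenter : Subgroup.center (Matrix.GeneralLinearGroup (Fin n) F) ≤ φ.ker := by
    rw [Matrix.GeneralLinearGroup.center_eq_range_scalar]
    rintro _ ⟨u, rfl⟩
    rw [MonoidHom.mem_ker]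
    show ψ (Matrix.GeneralLinearGroup.det (Matrix.GeneralLinearGroup.scalar (Fin n) u)) = 1
    rw [Matrix.GeneralLinearGroup.det_scalar, Fintype.card_fin]
    exact hψpow u
  let g : Matrix.ProjGenLinGroup (Fin n) F →* Multiplicative (ZMod d) :=
    QuotientGroup.lift (Subgroup.center (Matrix.GeneralLinearGroup (Fin n) F)) φ hφcenter
  have hg : ∀ A : Matrix.GeneralLinearGroup (Fin n) F,
      g (Matrix.ProjGenLinGroup.mk A) = ψ (Matrix.GeneralLinearGroup.det A) := fun A => rfl
  refine ⟨g, ?_, ?_⟩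
  · intro y
    obtain ⟨v, hv⟩ := hψsurj y
    obtain ⟨A, hA⟩ := Matrix.GeneralLinearGroup.det_surjective (n := Fin n) v
    exact ⟨Matrix.ProjGenLinGroup.mk A, by rw [hg, hA, hv]⟩
  · ext x
    induction x using Matrix.ProjGenLinGroup.induction_on with | mk A => ?_
    rw [MonoidHom.mem_ker, hg, MonoidHom.mem_range]
    constructor
    · intro h
      obtain ⟨u, hu⟩ := hψker _ h
      -- B = A * scalar u⁻¹ has determinant one
      set B := A * Matrix.GeneralLinearGroup.scalar (Fin n) u⁻¹ with hB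
      have hdetB : Matrix.GeneralLinearGroup.det B = 1 := by
        rw [hB, map_mul, Matrix.GeneralLinearGroup.det_scalar, Fintype.card_fin, hu, inv_pow,
          mul_inv_cancel]
      have hdetB' : (B : Matrix (Fin n) (Fin n) F).det = 1 := by
        have := congrArg Units.val hdetB
        simpa using this
      refine ⟨QuotientGroup.mk (⟨(B : Matrix (Fin n) (Fin n) F), hdetB'⟩ :
        Matrix.SpecialLinearGroup (Fin n) F), ?_⟩
      have h1 : Matrix.SpecialLinearGroup.toGL (⟨(B : Matrix (Fin n) (Fin n) F), hdetB'⟩ :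
          Matrix.SpecialLinearGroup (Fin n) F) = B := Units.ext rfl
      show Matrix.ProjGenLinGroup.mk (Matrix.SpecialLinearGroup.toGL _) = _
      rw [h1, hB, map_mul, Matrix.ProjGenLinGroup.mk_scalar, mul_one]
    · rintro ⟨y, hy⟩
      induction y using QuotientGroup.induction_on with | H S => ?_
      have h1 : Matrix.ProjGenLinGroup.mk (Matrix.SpecialLinearGroup.toGL S) =
          Matrix.ProjGenLinGroup.mk A := hy
      have h2 := congrArg g h1
      rw [hg, hg, Matrix.SpecialLinearGroup.coeToGL_det, map_one] at h2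
      exact h2.symm

end Cfsg.Agent.S0307
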