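import Cfsg.Statements.S4203
-- import your own Cfsg.Agent.* helpers here
import Mathlib

set_option autoImplicit false
open Cfsg

namespace Cfsg.Agent.S4203

universe u

/-! ### `S₄` is solvable -/

theorem isSolvable_alt_fin_four : Group.IsSolvable (alternatingGroup (Fin 4)) := by
  have hα4 : Nat.card (Fin 4) = 4 := by simp
  have h1 : Group.IsSolvable (alternatingGroup.kleinFour (Fin 4)) := by
    have hc := alternatingGroup.kleinFour_card_of_card_eq_four hα4
    have : Fact (Nat.Prime 2) := ⟨Nat.prime_two⟩
    have hp : IsPGroup 2 (alternatingGroup.kleinFour (Fin 4)) :=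
      IsPGroup.of_card (n := 2) (by rw [hc]; norm_num)
    have := hp.isNilpotent
    infer_instance
  refine Group.isSolvable_of_ker_le_range (alternatingGroup.kleinFour (Fin 4)).subtype
    (Abelianization.of (G := alternatingGroup (Fin 4))) ?_
  rw [Abelianization.ker_of, Subgroup.range_subtype, alternatingGroup.kleinFour_eq_commutator hα4]

theorem isSolvable_perm_four : Group.IsSolvable (Equiv.Perm (Fin 4)) := by
  have := isSolvable_alt_fin_four
  refine Group.isSolvable_of_ker_le_range (alternatingGroup (Fin 4)).subtype
    (Equiv.Perm.sign (α := Fin 4)) ?_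
  rw [Subgroup.range_subtype]
  exact le_of_eq rfl

theorem isSolvable_perm_of_card_le_four {β : Type*} [Fintype β] (h : Fintype.card β ≤ 4) :
    Group.IsSolvable (Equiv.Perm β) := by
  have := isSolvable_perm_four
  obtain ⟨ι⟩ : Nonempty (β ↪ Fin 4) :=
    Function.Embedding.nonempty_of_card_le (by rw [Fintype.card_fin]; exact h)
  exact Group.isSolvable_of_isSolvable_injective (Equiv.Perm.viaEmbeddingHom_injective ι)

/-! ### index lemmas -/

section
variable {G : Type*} [Group G] [Finite G]

/-- For a normal subgroup `N` and any subgroup `K`: `|N : N ∩ K| = |KN : K|`. -/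
theorem relIndex_eq_relIndex_sup (N K : Subgroup G) [N.Normal] :
    K.relIndex N = K.relIndex (K ⊔ N) := by
  have a : Nat.card K * K.relIndex (K ⊔ N) = Nat.card (K ⊔ N : Subgroup G) := by
    have := Subgroup.relIndex_mul_relIndex (⊥ : Subgroup G) K (K ⊔ N) bot_le le_sup_left
    simpa [Subgroup.relIndex_bot_left] using this
  have b : Nat.card N * N.relIndex (K ⊔ N) = Nat.card (K ⊔ N : Subgroup G) := by
    have := Subgroup.relIndex_mul_relIndex (⊥ : Subgroup G) N (K ⊔ N) bot_le le_sup_right
    simpa [Subgroup.relIndex_bot_left] using this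
  have b' : N.relIndex (K ⊔ N) = N.relIndex K := Subgroup.relIndex_sup_right K N
  have c : Nat.card (N ⊓ K : Subgroup G) * N.relIndex K = Nat.card K := by
    have := Subgroup.relIndex_mul_relIndex (⊥ : Subgroup G) (N ⊓ K) K bot_le inf_le_right
    simpa [Subgroup.relIndex_bot_left, Subgroup.inf_relIndex_right] using this
  have d : Nat.card (N ⊓ K : Subgroup G) * K.relIndex N = Nat.card N := by
    have := Subgroup.relIndex_mul_relIndex (⊥ : Subgroup G) (N ⊓ K) N bot_le inf_le_left
    simpa [Subgroup.relIndex_bot_left, Subgroup.inf_relIndex_left] using this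
  have hc : 0 < Nat.card (N ⊓ K : Subgroup G) := Nat.card_pos
  have hy : 0 < N.relIndex K := by
    rcases Nat.eq_zero_or_pos (N.relIndex K) with h | h
    · rw [h, mul_zero] at c
      exact absurd c.symm (Nat.card_pos).ne'
    · exact h
  rw [b'] at b
  have e : Nat.card (N ⊓ K : Subgroup G) * N.relIndex K * K.relIndex (K ⊔ N)
      = Nat.card (N ⊓ K : Subgroup G) * K.relIndex N * N.relIndex K := by
    rw [c, d, a, b]
  have e' : (Nat.card (N ⊓ K : Subgroup G) * N.relIndex K) * K.relIndex (K ⊔ N)
      = (Nat.card (N ⊓ K : Subgroup G) * N.relIndex K) * K.relIndex N := by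
    rw [e]; ring
  exact (Nat.eq_of_mul_eq_mul_left (Nat.mul_pos hc hy) e').symm

/-- Sylow counting inside a subgroup `H`. -/
theorem relIndex_normalizer_modEq_one {p : ℕ} [Fact p.Prime] (H Q : Subgroup G) (hQH : Q ≤ H)
    (hc : Nat.card Q = p ^ (Nat.card H).factorization p) :
    (Subgroup.normalizer (Q : Set G)).relIndex H ≡ 1 [MOD p] := by
  have c1 : Nat.card (Q.subgroupOf H) = p ^ (Nat.card H).factorization p := by
    rw [← hc]; exact Nat.card_congr (Subgroup.subgroupOfEquivOfLe hQH).toEquiv
  let S : Sylow p H := Sylow.ofCard (Q.subgroupOf H) c1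
  have h1 := card_sylow_modEq_one p H
  rw [S.card_eq_index_normalizer] at h1
  unfold Subgroup.relIndex
  rw [Subgroup.subgroupOf_normalizer_eq hQH]
  exact h1

/-- existence of a minimal normal subgroup -/
theorem exists_minimal_normal [Nontrivial G] :
    ∃ N : Subgroup G, N.Normal ∧ N ≠ ⊥ ∧ ∀ K : Subgroup G, K.Normal → K ≤ N → K = ⊥ ∨ K = N := by
  let S : Set (Subgroup G) := {R | R.Normal ∧ R ≠ ⊥}
  have hS : S.Nonempty := ⟨⊤, inferInstance, top_ne_bot⟩
  obtain ⟨R, hR, hmin⟩ := (wellFounded_lt (α := Subgroup G)).has_min S hS
  refine ⟨R, hR.1, hR.2, ?_⟩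
  intro M hM hMR
  by_cases hM1 : M = ⊥
  · exact Or.inl hM1
  · right
    exact (eq_or_lt_of_le hMR).resolve_right (hmin M ⟨hM, hM1⟩)

omit [Finite G] in
/-- coatoms of the quotient pull back to coatoms -/
theorem isCoatom_comap (N : Subgroup G) [N.Normal] (M : Subgroup (G ⧸ N)) (hM : IsCoatom M) :
    IsCoatom (M.comap (QuotientGroup.mk' N)) := by
  have hsurj := QuotientGroup.mk'_surjective N
  constructor
  · intro h
    apply hM.1
    rw [← Subgroup.map_comap_eq_self_of_surjective hsurj M, h,
      Subgroup.map_top_of_surjective _ hsurj]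
  · intro K hK
    have hNK : N ≤ K := by
      refine le_trans ?_ hK.le
      intro x hx
      rw [Subgroup.mem_comap]
      have : QuotientGroup.mk' N x = 1 := by
        rw [QuotientGroup.mk'_apply, QuotientGroup.eq_one_iff]; exact hx
      rw [this]; exact M.one_mem
    have hKeq : (K.map (QuotientGroup.mk' N)).comap (QuotientGroup.mk' N) = K := by
      rw [Subgroup.comap_map_eq, QuotientGroup.ker_mk']
      exact sup_eq_left.mpr hNK
    have hle : M ≤ K.map (QuotientGroup.mk' N) := by
      rw [← Subgroup.map_comap_eq_self_of_surjective hsurj M]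
      exact Subgroup.map_mono hK.le
    rcases eq_or_lt_of_le hle with h | h
    · exfalso
      rw [← hKeq, ← h] at hK
      exact lt_irrefl _ hK
    · have := hM.2 _ h
      rw [← hKeq, this]
      simp

end

/-- the arithmetic at the heart of the argument -/
theorem arith (p q i : ℕ) (hp : p.Prime) (hq : q.Prime) (hqp : q ≤ p) (hi : i = q ∨ i = q ^ 2)
    (hmod : i ≡ 1 [MOD p]) : i = 4 := by
  have hp2 := hp.two_le
  have hq2 := hq.two_le
  have hqne : q ≠ p := by
    intro hqe
    have hpi : p ∣ i := by
      rcases hi with h1 | h1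
      · rw [h1, hqe]
      · rw [h1, hqe]; exact dvd_pow_self p two_ne_zero
    have : p ∣ 1 := by
      have h0 : i ≡ 0 [MOD p] := (Nat.modEq_zero_iff_dvd).mpr hpi
      exact (Nat.modEq_zero_iff_dvd).mp (hmod.symm.trans h0)
    exact absurd (Nat.le_of_dvd one_pos this) (by omega)
  have hlt : q < p := lt_of_le_of_ne hqp hqne
  rcases hi with rfl | rfl
  · exfalso
    have := hmod
    unfold Nat.ModEq at this
    rw [Nat.mod_eq_of_lt hlt, Nat.mod_eq_of_lt (by omega)] at this
    omega
  · -- p ∣ q^2 - 1 = (q-1)(q+1)
    have hdvd : p ∣ q ^ 2 - 1 := (Nat.modEq_iff_dvd' (by nlinarith)).mp hmod.symm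
    have hfac : q ^ 2 - 1 = (q - 1) * (q + 1) := by
      obtain ⟨r, rfl⟩ : ∃ r, q = r + 1 := ⟨q - 1, by omega⟩
      simp only [Nat.add_sub_cancel]
      have : (r + 1) ^ 2 = r * (r + 1 + 1) + 1 := by ring
      omega
    rw [hfac] at hdvd
    rcases (Nat.Prime.dvd_mul hp).mp hdvd with h | h
    · exfalso
      have := Nat.le_of_dvd (by omega) h
      omega
    · have hle := Nat.le_of_dvd (by omega) h
      have hpq : p = q + 1 := by omega
      -- q and q+1 both prime → q = 2
      rcases Nat.Prime.eq_two_or_odd hq with h2 | hodd
      · rw [h2]; norm_num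
      · exfalso
        rcases Nat.Prime.eq_two_or_odd hp with h2 | hodd'
        · omega
        · omega

/-- main induction -/
theorem main_aux : ∀ (n : ℕ) (G : Type u) [Group G] [Finite G], Nat.card G ≤ n →
    (∀ M : Subgroup G, IsCoatom M → ∃ p : ℕ, p.Prime ∧ (M.index = p ∨ M.index = p ^ 2)) →
    Group.IsSolvable G := by
  intro n
  induction n with
  | zero =>
    intro G _ _ hc
    have := Nat.card_pos (α := G)
    omega
  | succ n ih =>
    intro G _ _ hcard h
    by_cases htriv : Subsingleton G
    · infer_instance
    rw [not_subsingleton_iff_nontrivial] at htriv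
    obtain ⟨N, hNn, hN1, hNmin⟩ := exists_minimal_normal (G := G)
    have hNcard : 1 < Nat.card N := by
      rw [Finite.one_lt_card_iff_nontrivial]
      exact (Subgroup.nontrivial_iff_ne_bot N).mpr hN1
    -- the quotient is solvable
    have hQ : Group.IsSolvable (G ⧸ N) := by
      apply ih
      · have h1 : Nat.card N * N.index = Nat.card G := N.card_mul_index
        have h2 : N.index = Nat.card (G ⧸ N) := rfl
        have h3 : 0 < N.index := Nat.pos_of_ne_zero Subgroup.index_ne_zero_of_finite
        rw [← h2]
        nlinarith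
      · intro M hM
        obtain ⟨p, hp, hidx⟩ := h _ (isCoatom_comap N M hM)
        rw [Subgroup.index_comap_of_surjective M (QuotientGroup.mk'_surjective N)] at hidx
        exact ⟨p, hp, hidx⟩
    suffices hNs : Group.IsSolvable N from
      Group.isSolvable_of_ker_le_range N.subtype (QuotientGroup.mk' N) (by simp)
    -- largest prime divisor of |N|
    have hpf : (Nat.card N).primeFactors.Nonempty := by
      rw [Nat.nonempty_primeFactors]; exact hNcard
    set p := (Nat.card N).primeFactors.max' hpf with hpdef
    have hpmem : p ∈ (Nat.card N).primeFactors := Finset.max'_mem _ _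
    have hp : p.Prime := Nat.prime_of_mem_primeFactors hpmem
    have hpdvd : p ∣ Nat.card N := Nat.dvd_of_mem_primeFactors hpmem
    have hpmax : ∀ q : ℕ, q.Prime → q ∣ Nat.card N → q ≤ p := by
      intro q hq hqd
      apply Finset.le_max'
      exact Nat.mem_primeFactors.mpr ⟨hq, hqd, (by omega)⟩
    have : Fact p.Prime := ⟨hp⟩
    obtain ⟨P⟩ : Nonempty (Sylow p N) := inferInstance
    set Q : Subgroup G := (P : Subgroup N).map N.subtype with hQdef
    have hQN : Q ≤ N := by
      rw [hQdef]
      intro x hx
      obtain ⟨y, _, rfl⟩ := hx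
      exact y.2
    have hQcard : Nat.card Q = p ^ (Nat.card N).factorization p := by
      rw [hQdef, Subgroup.card_map_of_injective (Subgroup.subtype_injective _)]
      exact P.card_eq_multiplicity
    have hvpos : 0 < (Nat.card N).factorization p :=
      hp.factorization_pos_of_dvd (by omega) hpdvd
    by_cases hQn : Q.Normal
    · -- Q = N, so N is a p-group
      have hQ1 : Q ≠ ⊥ := by
        intro hbot
        rw [hbot, Subgroup.card_bot] at hQcard
        have : 1 < p ^ (Nat.card N).factorization p :=
          Nat.one_lt_pow hvpos.ne' hp.one_lt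
        omega
      have hQeq : Q = N := (hNmin Q hQn hQN).resolve_left hQ1
      have hpg : IsPGroup p N := IsPGroup.of_card (n := (Nat.card N).factorization p) (by
        rw [← hQcard, hQeq])
      have := hpg.isNilpotent
      infer_instance
    · -- maximal subgroup above the normalizer
      have hnorm : Subgroup.normalizer (Q : Set G) ≠ ⊤ := by
        intro htop
        exact hQn (Subgroup.normalizer_eq_top_iff.mp htop)
      obtain ⟨M, hM, hAM⟩ := (eq_top_or_exists_le_coatom _).resolve_left hnorm
      have hfrat : Subgroup.normalizer (Q : Set G) ⊔ N = ⊤ := Sylow.normalizer_sup_eq_top P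
      have hMN : M ⊔ N = ⊤ := by
        rw [eq_top_iff, ← hfrat]
        exact sup_le_sup_right hAM N
      obtain ⟨q, hq, hidx⟩ := h M hM
      have hidxN : M.index = M.relIndex N := by
        rw [relIndex_eq_relIndex_sup N M, hMN, Subgroup.relIndex_top_right]
      -- congruence
      set A := Subgroup.normalizer (Q : Set G) with hA
      set L := N ⊓ M with hL
      have hQA : Q ≤ A := Subgroup.le_normalizer
      have hQL : Q ≤ L := le_inf hQN (hQA.trans hAM)
      have hLN : L ≤ N := inf_le_left
      have c1 : A.relIndex N ≡ 1 [MOD p] := relIndex_normalizer_modEq_one N Q hQN hQcard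
      have hQcardL : Nat.card Q = p ^ (Nat.card L).factorization p := by
        have d1 : Nat.card Q ∣ Nat.card L := Subgroup.card_dvd_of_le hQL
        have d2 : Nat.card L ∣ Nat.card N := Subgroup.card_dvd_of_le hLN
        have hLpos : Nat.card L ≠ 0 := Nat.card_pos.ne'
        have hNpos : Nat.card N ≠ 0 := Nat.card_pos.ne'
        have hQpos : Nat.card Q ≠ 0 := Nat.card_pos.ne'
        have f1 := (Nat.factorization_le_iff_dvd hQpos hLpos).mpr d1 p
        have f2 := (Nat.factorization_le_iff_dvd hLpos hNpos).mpr d2 p
        rw [hQcard, hp.factorization_pow] at f1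
        simp only [Finsupp.single_eq_same] at f1
        rw [hQcard]
        congr 1
        omega
      have c2 : A.relIndex L ≡ 1 [MOD p] := relIndex_normalizer_modEq_one L Q hQL hQcardL
      have hmul : A.relIndex L * L.relIndex N = A.relIndex N := by
        have h1 := Subgroup.relIndex_mul_relIndex (A ⊓ N) L N
          (le_inf inf_le_right (inf_le_left.trans hAM)) hLN
        have e1 : (A ⊓ N).relIndex N = A.relIndex N := Subgroup.inf_relIndex_right A N
        have e2 : (A ⊓ N).relIndex L = A.relIndex L := by
          rw [← Subgroup.inf_relIndex_right (A ⊓ N) L, ← Subgroup.inf_relIndex_right A L]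
          congr 1
          rw [inf_assoc, inf_eq_right.mpr hLN]
        rw [e1, e2] at h1
        exact h1
      have hLrel : L.relIndex N = M.relIndex N := by
        rw [hL]; exact Subgroup.inf_relIndex_left N M
      have c3 : M.index ≡ 1 [MOD p] := by
        rw [hidxN, ← hLrel]
        have : A.relIndex L * L.relIndex N ≡ 1 * L.relIndex N [MOD p] := c2.mul_right _
        rw [one_mul, hmul] at this
        exact this.symm.trans c1
      have hqdvd : q ∣ Nat.card N := by
        have h1 : M.index ∣ Nat.card N := by rw [hidxN]; exact Subgroup.relIndex_dvd_card M N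
        refine dvd_trans ?_ h1
        rcases hidx with h | h
        · rw [h]
        · rw [h]; exact dvd_pow_self q two_ne_zero
      have hqp : q ≤ p := hpmax q hq hqdvd
      have hfour : M.index = 4 := arith p q M.index hp hq hqp hidx c3
      -- G is solvable, hence so is N
      have hGs : Group.IsSolvable G := by
        have := Fintype.ofFinite (G ⧸ M)
        have hcard4 : Fintype.card (G ⧸ M) ≤ 4 := by
          rw [← Nat.card_eq_fintype_card, ← Subgroup.index, hfour]
        have hperm := isSolvable_perm_of_card_le_four hcard4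
        set φ := MulAction.toPermHom G (G ⧸ M) with hφ
        have hker : φ.ker = M.normalCore := (Subgroup.normalCore_eq_ker M).symm
        have hCN : φ.ker ⊓ N = ⊥ := by
          have hn : (φ.ker ⊓ N).Normal := inferInstance
          rcases hNmin _ hn inf_le_right with h0 | h0
          · exact h0
          · exfalso
            have hNM : N ≤ M := by
              have : N ≤ φ.ker := by rw [← h0]; exact inf_le_left
              rw [hker] at this
              exact this.trans (Subgroup.normalCore_le M)
            have : M = ⊤ := by rw [← hMN]; exact (sup_eq_left.mpr hNM).symm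
            exact hM.1 this
        have hCs : Group.IsSolvable φ.ker := by
          apply Group.isSolvable_of_isSolvable_injective
            (f := (QuotientGroup.mk' N).comp φ.ker.subtype)
          rw [injective_iff_map_eq_one]
          intro x hx
          have hx' : (x : G) ∈ N := by
            have : QuotientGroup.mk' N (x : G) = 1 := hx
            rwa [QuotientGroup.mk'_apply, QuotientGroup.eq_one_iff] at this
          have : (x : G) ∈ φ.ker ⊓ N := ⟨x.2, hx'⟩
          rw [hCN, Subgroup.mem_bot] at this
          exact Subtype.ext this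
        exact Group.isSolvable_of_ker_le_range φ.ker.subtype φ (by simp)
      infer_instance

/-- A finite group in which every maximal subgroup has index a prime or the square of a prime is solvable. -/
theorem result {G : Type*} [Group G] [Finite G] (h : ∀ M : Subgroup G, IsCoatom M → ∃ p : ℕ, p.Prime ∧ (M.index = p ∨ M.index = p ^ 2)) : Group.IsSolvable G := by
  exact main_aux (Nat.card G) G le_rfl h

end Cfsg.Agent.S4203
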