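import Cfsg.Statements.S0690
import Cfsg.Agent.Lib.Helper12.ZassMain
import Cfsg.Agent.Lib.Helper15.ZassA

set_option autoImplicit false
open Cfsg

namespace Cfsg.Agent.S0690

/-- perfectness is transported along an isomorphism -/
theorem commutator_eq_top_of_equiv {G H : Type*} [Group G] [Group H] (e : G ≃* H)
    (h : commutator G = ⊤) : commutator H = ⊤ := by
  have h1 : (commutator G).map e.toMonoidHom = commutator H := by
    rw [commutator_def, commutator_def, Subgroup.map_commutator,
      Subgroup.map_top_of_surjective e.toMonoidHom e.surjective]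
  rw [← h1, h, Subgroup.map_top_of_surjective e.toMonoidHom e.surjective]

/-- Zassenhaus: a perfect non-trivial group of fixed-point-free automorphisms of a finite group is isomorphic to `SL(2,5)`. -/
theorem result {K : Type*} [Group K] [Finite K] (G : Subgroup (MulAut K)) (hfpf : ∀ φ ∈ G, φ ≠ 1 → ∀ k : K, φ k = k → k = 1) (hperf : commutator G = ⊤) (hne : G ≠ ⊥) : Nonempty (G ≃* Matrix.SpecialLinearGroup (Fin 2) (ZMod 5)) := by
  obtain ⟨p, hp, V, hV1, hV2, hV3, hV4, X, ⟨e⟩, hfree⟩ :=
    Cfsg.Agent.Lib.Helper15.ZassA.exists_free_linear G hfpf hne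
  have hGnt : Nontrivial G := (Subgroup.nontrivial_iff_ne_bot G).mpr hne
  have hXnt : Nontrivial X := e.symm.toEquiv.nontrivial
  obtain ⟨f⟩ := Cfsg.Agent.Lib.Helper12.ZassLin.linear_sl25 (X := X) hfree
    (commutator_eq_top_of_equiv e hperf) hXnt
  exact ⟨e.trans f⟩

end Cfsg.Agent.S0690
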