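import Mathlib
import Cfsg.Statements.S3867
-- import your own Cfsg.Agent.* helpers here

set_option autoImplicit false
open Cfsg

namespace Cfsg.Agent.S3867

variable {G : Type*} [Group G]

open scoped Pointwise

/-- Frattini: `N_G(PK) = K N_G(P)` for `K` normal and `P` Sylow. -/
lemma normalizer_sup_eq [Finite G] {p : ℕ} [Fact p.Prime] (K : Subgroup G) [hK : K.Normal]
    (P : Sylow p G) :
    Subgroup.normalizer (((P : Subgroup G) ⊔ K : Subgroup G) : Set G)
      = K ⊔ Subgroup.normalizer ((P : Subgroup G) : Set G) := by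
  apply le_antisymm
  · intro g hg
    -- g • P ≤ P ⊔ K
    have hPle : (P : Subgroup G) ≤ (P : Subgroup G) ⊔ K := le_sup_left
    have hgP : ((g • P : Sylow p G) : Subgroup G) ≤ (P : Subgroup G) ⊔ K := by
      intro x hx
      rw [Sylow.coe_subgroup_smul, Subgroup.mem_pointwise_smul_iff_inv_smul_mem] at hx
      have h1 : g⁻¹ * x * g ∈ (P : Subgroup G) ⊔ K := hPle (by simpa [MulAut.conj_inv_apply] using hx)
      have h2 := (Subgroup.mem_normalizer_iff.mp hg (g⁻¹ * x * g)).mp h1
      simpa [mul_assoc] using h2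
    obtain ⟨l, hl⟩ := MulAction.exists_smul_eq ↥((P : Subgroup G) ⊔ K)
      ((g • P).subtype hgP) (P.subtype hPle)
    rw [Sylow.smul_subtype hgP l] at hl
    have hl' : (l : G) • (g • P) = P := Sylow.subtype_injective hl
    rw [← mul_smul, Sylow.smul_eq_iff_mem_normalizer] at hl'
    have hl2 : (l : G)⁻¹ ∈ K ⊔ Subgroup.normalizer ((P : Subgroup G) : Set G) := by
      apply Subgroup.inv_mem
      have : (P : Subgroup G) ⊔ K ≤ K ⊔ Subgroup.normalizer ((P : Subgroup G) : Set G) :=
        sup_le (Subgroup.le_normalizer.trans le_sup_right) le_sup_left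
      exact this l.2
    have : g = (l : G)⁻¹ * ((l : G) * g) := by group
    rw [this]
    exact Subgroup.mul_mem _ hl2 (le_sup_right (a := K) hl')
  · apply sup_le
    · exact (le_sup_right : K ≤ (P : Subgroup G) ⊔ K).trans Subgroup.le_normalizer
    · intro g hg
      have hg' : g⁻¹ ∈ Subgroup.normalizer ((P : Subgroup G) : Set G) := Subgroup.inv_mem _ hg
      rw [Subgroup.mem_normalizer_iff]
      have key : ∀ g : G, g ∈ Subgroup.normalizer ((P : Subgroup G) : Set G) →
          ∀ h ∈ (P : Subgroup G) ⊔ K, g * h * g⁻¹ ∈ (P : Subgroup G) ⊔ K := by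
        intro g hg h hh
        have hh' : h ∈ (((P : Subgroup G) ⊔ K : Subgroup G) : Set G) := hh
        rw [Subgroup.mul_normal] at hh'
        obtain ⟨u, hu, k, hk, rfl⟩ := hh'
        have : g * (u * k) * g⁻¹ = (g * u * g⁻¹) * (g * k * g⁻¹) := by group
        rw [this]
        exact Subgroup.mul_mem _
          (le_sup_left (b := K) ((Subgroup.mem_normalizer_iff.mp hg u).mp hu))
          (le_sup_right (a := (P : Subgroup G)) (hK.conj_mem k hk g))
      intro h
      constructor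
      · exact key g hg h
      · intro hh
        have := key g⁻¹ hg' _ hh
        simpa [mul_assoc] using this

lemma card_sylow_quotient [Finite G] {p : ℕ} [Fact p.Prime] (K : Subgroup G) [K.Normal]
    (P : Sylow p G) :
    Nat.card (Sylow p (G ⧸ K)) = (K ⊔ Subgroup.normalizer ((P : Subgroup G) : Set G)).index := by
  have hπ : Function.Surjective (QuotientGroup.mk' K) := QuotientGroup.mk'_surjective K
  have h0 : Nat.card (Sylow p (G ⧸ K)) =
      (Subgroup.normalizer (((P.mapSurjective hπ : Sylow p (G ⧸ K)) : Subgroup (G ⧸ K)) : Set (G ⧸ K))).index :=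
    Sylow.card_eq_index_normalizer (P.mapSurjective hπ)
  rw [h0, ← Subgroup.index_comap_of_surjective _ hπ]
  congr 1
  rw [Subgroup.comap_normalizer_eq_of_surjective _ hπ]
  rw [Sylow.coe_mapSurjective, Subgroup.comap_map_eq, QuotientGroup.ker_mk']
  exact normalizer_sup_eq K P

lemma relIndex_sup_of_normal [Finite G] (M L : Subgroup G) [M.Normal] :
    L.relIndex (M ⊔ L) = L.relIndex M := by
  -- card computations
  have h1 : M.relIndex (M ⊔ L) * Nat.card M = Nat.card (M ⊔ L : Subgroup G) := by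
    rw [← Subgroup.relIndex_bot_left, ← Subgroup.relIndex_bot_left, mul_comm]
    exact Subgroup.relIndex_mul_relIndex _ _ _ bot_le le_sup_left
  have h2 : M.relIndex L * Nat.card (M ⊓ L : Subgroup G) = Nat.card L := by
    rw [← Subgroup.inf_relIndex_right, ← Subgroup.relIndex_bot_left, ← Subgroup.relIndex_bot_left,
      mul_comm]
    exact Subgroup.relIndex_mul_relIndex _ _ _ bot_le inf_le_right
  have h3 : L.relIndex (M ⊔ L) * Nat.card L = Nat.card (M ⊔ L : Subgroup G) := by
    rw [← Subgroup.relIndex_bot_left, ← Subgroup.relIndex_bot_left, mul_comm]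
    exact Subgroup.relIndex_mul_relIndex _ _ _ bot_le le_sup_right
  have h4 : L.relIndex M * Nat.card (M ⊓ L : Subgroup G) = Nat.card M := by
    rw [← Subgroup.inf_relIndex_right, inf_comm, ← Subgroup.relIndex_bot_left,
      ← Subgroup.relIndex_bot_left, mul_comm]
    exact Subgroup.relIndex_mul_relIndex _ _ _ bot_le inf_le_left
  rw [Subgroup.relIndex_sup_left] at h1
  have hpos1 : 0 < Nat.card L := Nat.card_pos
  have hpos2 : 0 < Nat.card (M ⊓ L : Subgroup G) := Nat.card_pos
  have : L.relIndex (M ⊔ L) * (Nat.card L * Nat.card (M ⊓ L : Subgroup G))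
      = L.relIndex M * (Nat.card L * Nat.card (M ⊓ L : Subgroup G)) := by
    calc L.relIndex (M ⊔ L) * (Nat.card L * Nat.card (M ⊓ L : Subgroup G))
        = (L.relIndex (M ⊔ L) * Nat.card L) * Nat.card (M ⊓ L : Subgroup G) := by ring
      _ = (M.relIndex L * Nat.card M) * Nat.card (M ⊓ L : Subgroup G) := by rw [h3, h1]
      _ = (M.relIndex L * Nat.card (M ⊓ L : Subgroup G)) * Nat.card M := by ring
      _ = Nat.card L * (L.relIndex M * Nat.card (M ⊓ L : Subgroup G)) := by rw [h2, h4]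
      _ = L.relIndex M * (Nat.card L * Nat.card (M ⊓ L : Subgroup G)) := by ring
  exact Nat.eq_of_mul_eq_mul_right (Nat.mul_pos hpos1 hpos2) this

lemma exists_pow_mem_of_mem_sup [Finite G] {p : ℕ} [Fact p.Prime] (M : Subgroup G) [hM : M.Normal]
    (P : Sylow p G) (x : G) (hx : x ∈ (P : Subgroup G) ⊔ M) : ∃ a : ℕ, x ^ (p ^ a) ∈ M := by
  have hx' : x ∈ (((P : Subgroup G) ⊔ M : Subgroup G) : Set G) := hx
  rw [Subgroup.mul_normal] at hx'
  obtain ⟨u, hu, m, hm, rfl⟩ := hx'
  obtain ⟨a, ha⟩ := P.isPGroup' ⟨u, hu⟩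
  refine ⟨a, ?_⟩
  rw [← QuotientGroup.eq_one_iff, QuotientGroup.mk_pow, QuotientGroup.mk_mul,
    (QuotientGroup.eq_one_iff m).mpr hm, mul_one, ← QuotientGroup.mk_pow]
  have : u ^ p ^ a = 1 := by
    have := congrArg Subtype.val ha
    simpa using this
  rw [this]; rfl

lemma sup_inf_sup_eq [Finite G] {p : ℕ} [Fact p.Prime] (M N : Subgroup G) [M.Normal] [N.Normal]
    (hMN : M ⊓ N = ⊥) (P : Sylow p G) :
    ((P : Subgroup G) ⊔ M) ⊓ ((P : Subgroup G) ⊔ N) = P := by
  have hp : IsPGroup p ↥(((P : Subgroup G) ⊔ M) ⊓ ((P : Subgroup G) ⊔ N) : Subgroup G) := by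
    rintro ⟨x, hx1, hx2⟩
    obtain ⟨a, ha⟩ := exists_pow_mem_of_mem_sup M P x hx1
    obtain ⟨b, hb⟩ := exists_pow_mem_of_mem_sup N P x hx2
    refine ⟨a + b, ?_⟩
    apply Subtype.ext
    simp only [Subgroup.coe_pow, Subgroup.coe_one]
    have h1 : x ^ p ^ (a + b) ∈ M := by
      rw [pow_add, pow_mul]; exact M.pow_mem ha _
    have h2 : x ^ p ^ (a + b) ∈ N := by
      rw [pow_add, mul_comm, pow_mul]; exact N.pow_mem hb _
    have : x ^ p ^ (a + b) ∈ M ⊓ N := ⟨h1, h2⟩
    rw [hMN] at this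
    exact Subgroup.mem_bot.mp this
  exact P.3 hp (le_inf le_sup_left le_sup_left)

lemma key_inf [Finite G] {p : ℕ} [Fact p.Prime] (M N : Subgroup G) [hM : M.Normal] [hN : N.Normal]
    (hMN : M ⊓ N = ⊥) (P : Sylow p G) :
    (N ⊔ Subgroup.normalizer ((P : Subgroup G) : Set G)) ⊓ M
      = Subgroup.normalizer ((P : Subgroup G) : Set G) ⊓ M := by
  apply le_antisymm
  · rintro m ⟨hm1, hm2⟩
    refine ⟨?_, hm2⟩
    have hm1' : m ∈ ((N ⊔ Subgroup.normalizer ((P : Subgroup G) : Set G) : Subgroup G) : Set G) := hm1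
    rw [Subgroup.normal_mul] at hm1'
    obtain ⟨n, hn, g, hg, rfl⟩ := hm1'
    -- (n * g) • P = n • P
    have h1 : (n * g) • P = n • P := by
      rw [mul_smul, Sylow.smul_eq_iff_mem_normalizer.mpr hg]
    have hle1 : (((n * g) • P : Sylow p G) : Subgroup G) ≤ (P : Subgroup G) ⊔ M := by
      have hmem : n * g ∈ (P : Subgroup G) ⊔ M := le_sup_right (a := (P : Subgroup G)) hm2
      exact Sylow.smul_le (le_sup_left : (P : Subgroup G) ≤ (P : Subgroup G) ⊔ M) ⟨n * g, hmem⟩
    have hle2 : (((n * g) • P : Sylow p G) : Subgroup G) ≤ (P : Subgroup G) ⊔ N := by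
      rw [h1]
      have hmem : n ∈ (P : Subgroup G) ⊔ N := le_sup_right (a := (P : Subgroup G)) hn
      exact Sylow.smul_le (le_sup_left : (P : Subgroup G) ≤ (P : Subgroup G) ⊔ N) ⟨n, hmem⟩
    have hle : (((n * g) • P : Sylow p G) : Subgroup G) ≤ P := by
      rw [← sup_inf_sup_eq M N hMN P]
      exact le_inf hle1 hle2
    have heq : (n * g) • P = P := Sylow.ext (((n * g) • P).3 P.isPGroup' hle).symm
    exact Sylow.smul_eq_iff_mem_normalizer.mp heq
  · exact inf_le_inf_right _ le_sup_right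

/-- Let M and N be nontrivial normal subgroups of the finite group G with M ⊓ N trivial, and let p be a prime. Writing n(X) for the number of Sylow p-subgroups of a group X, one has n(G) · n(G/MN) = n(G/M) · n(G/N). -/
theorem result {G : Type*} [Group G] [Finite G] (p : ℕ) [Fact p.Prime] (M N : Subgroup G) [M.Normal] [N.Normal] (hM : M ≠ ⊥) (hN : N ≠ ⊥) (hMN : M ⊓ N = ⊥) : Nat.card (Sylow p G) * Nat.card (Sylow p (G ⧸ (M ⊔ N))) = Nat.card (Sylow p (G ⧸ M)) * Nat.card (Sylow p (G ⧸ N)) := by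
  obtain ⟨P⟩ : Nonempty (Sylow p G) := inferInstance
  set L := Subgroup.normalizer ((P : Subgroup G) : Set G) with hL
  have e0 : Nat.card (Sylow p G) = L.index := Sylow.card_eq_index_normalizer P
  rw [card_sylow_quotient (M ⊔ N) P, card_sylow_quotient M P, card_sylow_quotient N P, e0, ← hL]
  have e1 : L.index = L.relIndex (M ⊔ L) * (M ⊔ L).index :=
    (Subgroup.relIndex_mul_index le_sup_right).symm
  have e2 : (N ⊔ L).index = (N ⊔ L).relIndex (M ⊔ (N ⊔ L)) * (M ⊔ (N ⊔ L)).index :=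
    (Subgroup.relIndex_mul_index le_sup_right).symm
  have e3 : L.relIndex (M ⊔ L) = (N ⊔ L).relIndex (M ⊔ (N ⊔ L)) := by
    rw [relIndex_sup_of_normal, relIndex_sup_of_normal, ← Subgroup.inf_relIndex_right,
      ← Subgroup.inf_relIndex_right (N ⊔ L) M, key_inf M N hMN P]
  rw [sup_assoc, e1, e2, e3]
  ring

end Cfsg.Agent.S3867
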