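import Mathlib
import Cfsg.Statements.S0826
import Cfsg.Agent.Lib.Helper5.Symplectic
-- import your own Cfsg.Agent.* helpers here

set_option autoImplicit false
open Cfsg

namespace Cfsg.Agent.S0826

open Matrix Cfsg.Agent.Lib.Helper5

section Basis

variable (m : ℕ)

/-- the point set: `2m + 2` points -/
abbrev X := (Fin m ⊕ Fin m) ⊕ Fin 2

/-- index set of the symplectic basis -/
abbrev I := Fin m ⊕ Fin m

def p (i : Fin m) : X m → ZMod 2
  | Sum.inl (Sum.inl j) => if j = i then 1 else 0
  | Sum.inl (Sum.inr j) => if j = i then 1 else 0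
  | Sum.inr _ => 0

def q (i : Fin m) : X m → ZMod 2
  | Sum.inl (Sum.inl j) => if j < i then 1 else 0
  | Sum.inl (Sum.inr j) => if j ≤ i then 1 else 0
  | Sum.inr k => if k = 0 then 1 else 0

def b : I m → X m → ZMod 2
  | Sum.inl i => p m i
  | Sum.inr i => q m i

variable {m}

theorem sumX (f : X m → ZMod 2) :
    ∑ x, f x = ∑ j, f (Sum.inl (Sum.inl j)) + ∑ j, f (Sum.inl (Sum.inr j)) + f (Sum.inr 0)
      + f (Sum.inr 1) := by
  simp only [Fintype.sum_sum_type, Fin.sum_univ_two]
  ring

theorem add_self2 (x : ZMod 2) : x + x = 0 := CharTwo.add_self_eq_zero x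

theorem eq_of_add_eq_zero2 {x y : ZMod 2} (h : x + y = 0) : x = y := by
  have : x = -y := eq_neg_of_add_eq_zero_left h
  rw [this]; exact CharTwo.neg_eq y

theorem ind_lt_add_le (j i : Fin m) :
    (if j < i then (1 : ZMod 2) else 0) + (if j ≤ i then 1 else 0) = if j = i then 1 else 0 := by
  rcases lt_trichotomy j i with h | h | h
  · simp [h, h.le, h.ne]; decide
  · subst h; simp
  · simp [h.not_gt, h.not_ge, h.ne']

theorem sum_p (i : Fin m) : ∑ x, p m i x = 0 := by
  rw [sumX]
  simp [p, add_self2]

theorem sum_q (i : Fin m) : ∑ x, q m i x = 0 := by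
  rw [sumX]
  simp only [q]
  rw [← Finset.sum_add_distrib]
  simp only [ind_lt_add_le]
  simp [add_self2]

theorem sum_b (c : I m) : ∑ x, b m c x = 0 := by
  cases c with
  | inl i => exact sum_p i
  | inr i => exact sum_q i

end Basis


section Gram

variable {m : ℕ}

theorem ind_mul_min (j i k : Fin m) (hik : i ≤ k) :
    (if j < i then (1 : ZMod 2) else 0) * (if j < k then 1 else 0) +
      (if j ≤ i then 1 else 0) * (if j ≤ k then 1 else 0) = if j = i then 1 else 0 := by
  rcases lt_trichotomy j i with h | h | h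
  · have h1 : j < k := lt_of_lt_of_le h hik
    simp [h, h.le, h.ne, h1, h1.le]; decide
  · subst h
    simp [hik]
  · simp [h.not_gt, h.not_ge, h.ne']

theorem gram_pp (i k : Fin m) : p m i ⬝ᵥ p m k = 0 := by
  rw [dotProduct, sumX]
  simp [p, add_self2]

theorem gram_pq (i k : Fin m) : p m i ⬝ᵥ q m k = if i = k then 1 else 0 := by
  rw [dotProduct, sumX]
  simp only [p, q, ite_mul, one_mul, zero_mul, Finset.sum_ite_eq', Finset.mem_univ, if_true,
    add_zero]
  exact ind_lt_add_le i k

theorem gram_qq (i k : Fin m) : q m i ⬝ᵥ q m k = 0 := by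
  rw [dotProduct, sumX]
  simp only [q]
  rw [← Finset.sum_add_distrib]
  rcases le_total i k with h | h
  · simp only [ind_mul_min _ i k h]
    simp [add_self2]
  · have : ∀ j : Fin m, (if j < i then (1 : ZMod 2) else 0) * (if j < k then 1 else 0) +
        (if j ≤ i then 1 else 0) * (if j ≤ k then 1 else 0) = if j = k then 1 else 0 := by
      intro j
      rw [mul_comm, mul_comm (if j ≤ i then (1 : ZMod 2) else 0)]
      exact ind_mul_min j k i h
    simp only [this]
    simp [add_self2]

theorem gram (c c' : I m) : b m c ⬝ᵥ b m c' = J (Fin m) (ZMod 2) c c' := by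
  cases c with
  | inl i =>
    cases c' with
    | inl k => simp [b, gram_pp, J]
    | inr k =>
      simp only [b, gram_pq, J, Matrix.fromBlocks_apply₁₂, Matrix.neg_apply, Matrix.one_apply]
      split_ifs <;> decide
  | inr i =>
    cases c' with
    | inl k =>
      simp only [b, J, Matrix.fromBlocks_apply₂₁, Matrix.one_apply]
      rw [dotProduct_comm, gram_pq]
      simp [eq_comm]
    | inr k => simp [b, gram_qq, J]

/-- the dual basis is the swapped basis -/
theorem gram_swap (c a : I m) : b m c ⬝ᵥ b m (Sum.swap a) = if c = a then 1 else 0 := by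
  rw [gram]
  cases c with
  | inl i =>
    cases a with
    | inl k => simp [J, Matrix.one_apply]
    | inr k => simp [J]
  | inr i =>
    cases a with
    | inl k => simp [J]
    | inr k => simp [J, Matrix.one_apply]

end Gram


section Expansion

variable {m : ℕ}

/-- a vector of even weight orthogonal to all basis vectors is constant -/
theorem radical (r : X m → ZMod 2) (hsum : ∑ x, r x = 0) (horth : ∀ c, r ⬝ᵥ b m c = 0) :
    ∀ x, r x = r (Sum.inr 0) := by
  have h1 : ∀ i : Fin m, r (Sum.inl (Sum.inl i)) = r (Sum.inl (Sum.inr i)) := by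
    intro i
    have := horth (Sum.inl i)
    rw [dotProduct, sumX] at this
    simp only [b, p, mul_ite, mul_one, mul_zero, Finset.sum_ite_eq', Finset.mem_univ, if_true,
      add_zero] at this
    exact eq_of_add_eq_zero2 this
  have h2 : ∀ i : Fin m, r (Sum.inl (Sum.inl i)) = r (Sum.inr 0) := by
    intro i
    have := horth (Sum.inr i)
    rw [dotProduct, sumX] at this
    simp only [b, q] at this
    rw [← Finset.sum_add_distrib] at this
    have h3 : ∀ j : Fin m, r (Sum.inl (Sum.inl j)) * (if j < i then 1 else 0) +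
        r (Sum.inl (Sum.inr j)) * (if j ≤ i then 1 else 0) =
        if j = i then r (Sum.inl (Sum.inl j)) else 0 := by
      intro j
      rw [← h1 j, ← mul_add, ind_lt_add_le]
      split_ifs <;> simp
    simp only [h3] at this
    simp only [Finset.sum_ite_eq', Finset.mem_univ, if_true] at this
    simp only [if_true, mul_one, Fin.isValue, one_ne_zero, if_false, mul_zero, add_zero] at this
    exact eq_of_add_eq_zero2 this
  have h4 : r (Sum.inr 1) = r (Sum.inr 0) := by
    rw [sumX] at hsum
    have h5 : ∑ j, r (Sum.inl (Sum.inl j)) + ∑ j, r (Sum.inl (Sum.inr j)) = 0 := by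
      simp only [← h1]
      exact add_self2 _
    rw [h5, zero_add] at hsum
    exact (eq_of_add_eq_zero2 hsum).symm
  intro x
  rcases x with (i | i) | k
  · exact h2 i
  · rw [← h1]; exact h2 i
  · fin_cases k
    · rfl
    · exact h4

/-- coordinates of a vector with respect to the symplectic basis -/
def coords (w : X m → ZMod 2) : I m → ZMod 2 := fun a => w ⬝ᵥ b m (Sum.swap a)

/-- linear combination of the basis vectors -/
def comb (t : I m → ZMod 2) : X m → ZMod 2 := fun x => ∑ c, t c * b m c x

theorem dot_comb (w : X m → ZMod 2) (t : I m → ZMod 2) :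
    w ⬝ᵥ comb t = ∑ c, t c * (w ⬝ᵥ b m c) := by
  simp only [dotProduct, comb, Finset.mul_sum]
  rw [Finset.sum_comm]
  apply Finset.sum_congr rfl
  intro c _
  apply Finset.sum_congr rfl
  intro x _
  ring

theorem comb_dot (w : X m → ZMod 2) (t : I m → ZMod 2) :
    comb t ⬝ᵥ w = ∑ c, t c * (b m c ⬝ᵥ w) := by
  rw [dotProduct_comm, dot_comb]
  simp only [dotProduct_comm]

theorem sum_comb (t : I m → ZMod 2) : ∑ x, comb t x = 0 := by
  simp only [comb]
  rw [Finset.sum_comm]
  simp only [← Finset.mul_sum, sum_b, mul_zero, Finset.sum_const_zero]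

theorem coords_comb (t : I m → ZMod 2) : coords (comb t) = t := by
  funext a
  simp only [coords]
  rw [comb_dot]
  simp only [gram_swap, mul_ite, mul_one, mul_zero, Finset.sum_ite_eq', Finset.mem_univ, if_true]

/-- expansion of an even-weight vector in the basis, modulo the all-ones vector -/
theorem expansion (w : X m → ZMod 2) (hw : ∑ x, w x = 0) :
    ∃ ε : ZMod 2, ∀ x, w x = comb (coords w) x + ε := by
  set r : X m → ZMod 2 := fun x => w x + comb (coords w) x with hr
  have hsum : ∑ x, r x = 0 := by
    simp only [hr, Finset.sum_add_distrib, hw, sum_comb, add_zero]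
  have horth : ∀ c, r ⬝ᵥ b m c = 0 := by
    intro c
    have h1 : r = w + comb (coords w) := rfl
    rw [h1, add_dotProduct]
    have h2 : comb (coords w) ⬝ᵥ b m c = coords (comb (coords w)) (Sum.swap c) := by
      simp [coords]
    have h3 : w ⬝ᵥ b m c = coords w (Sum.swap c) := by
      simp [coords]
    rw [h2, coords_comb, h3]
    exact add_self2 _
  have := radical r hsum horth
  refine ⟨r (Sum.inr 0), fun x => ?_⟩
  rw [← this x]
  simp only [hr]
  rw [add_comm (w x), ← add_assoc, add_self2, zero_add]

end Expansion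


section Action

variable {m : ℕ}

/-- permutation action on vectors -/
def act (σ : Equiv.Perm (X m)) (w : X m → ZMod 2) : X m → ZMod 2 := fun x => w (σ.symm x)

theorem act_mul (σ τ : Equiv.Perm (X m)) (w : X m → ZMod 2) :
    act (σ * τ) w = act σ (act τ w) := by
  funext x
  simp [act, Equiv.Perm.mul_def]

theorem act_one (w : X m → ZMod 2) : act 1 w = w := by
  funext x
  rfl

theorem sum_act (σ : Equiv.Perm (X m)) (w : X m → ZMod 2) : ∑ x, act σ w x = ∑ x, w x := by
  simp only [act]
  exact Equiv.sum_comp σ.symm w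

theorem act_dot (σ : Equiv.Perm (X m)) (u w : X m → ZMod 2) : act σ u ⬝ᵥ act σ w = u ⬝ᵥ w := by
  simp only [dotProduct, act]
  exact Equiv.sum_comp σ.symm (fun x => u x * w x)

/-- the matrix of a permutation in the symplectic basis -/
def M (σ : Equiv.Perm (X m)) : Matrix (I m) (I m) (ZMod 2) :=
  fun a c => coords (act σ (b m c)) a

theorem M_mulVec (σ : Equiv.Perm (X m)) (t : I m → ZMod 2) :
    M σ *ᵥ t = coords (act σ (comb t)) := by
  funext a
  simp only [mulVec, dotProduct, M, coords, act, comb]
  simp only [Finset.sum_mul]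
  rw [Finset.sum_comm]
  apply Finset.sum_congr rfl
  intro c _
  apply Finset.sum_congr rfl
  intro x _
  ring

theorem coords_const (ε : ZMod 2) : coords (fun _ : X m => ε) = 0 := by
  funext a
  simp only [coords, dotProduct, Pi.zero_apply]
  rw [← Finset.mul_sum, sum_b, mul_zero]

theorem coords_add (u w : X m → ZMod 2) : coords (u + w) = coords u + coords w := by
  funext a
  simp [coords, add_dotProduct]

/-- key step: acting after reducing to the basis -/
theorem coords_act (σ : Equiv.Perm (X m)) (w : X m → ZMod 2) (hw : ∑ x, w x = 0) :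
    coords (act σ w) = M σ *ᵥ coords w := by
  obtain ⟨ε, hε⟩ := expansion w hw
  rw [M_mulVec]
  have h1 : act σ w = act σ (comb (coords w)) + fun _ => ε := by
    funext x
    simp only [act, Pi.add_apply]
    exact hε _
  rw [h1, coords_add, coords_const, add_zero]

theorem M_mul (σ τ : Equiv.Perm (X m)) : M (σ * τ) = M σ * M τ := by
  ext a c
  have h1 : M (σ * τ) a c = coords (act σ (act τ (b m c))) a := by
    simp only [M, act_mul]
  have hw : ∑ x, act τ (b m c) x = 0 := by rw [sum_act, sum_b]
  rw [h1, coords_act σ _ hw]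
  simp only [mulVec, dotProduct, Matrix.mul_apply, M]

theorem M_one : M (1 : Equiv.Perm (X m)) = 1 := by
  ext a c
  simp only [M, act_one, coords, gram_swap, Matrix.one_apply, eq_comm]

/-- the symplectic form on coordinates is the dot product -/
theorem comb_dot_comb (t t' : I m → ZMod 2) :
    comb t ⬝ᵥ comb t' = sympForm (Fin m) (ZMod 2) t t' := by
  rw [comb_dot]
  simp only [dot_comb, gram]
  simp only [sympForm, dotProduct, mulVec]
  apply Finset.sum_congr rfl
  intro c _
  congr 1
  apply Finset.sum_congr rfl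
  intro c' _
  ring

theorem card_X_zero : ((Fintype.card (X m) : ℕ) : ZMod 2) = 0 := by
  simp only [Fintype.card_sum, Fintype.card_fin]
  have : m + m + 2 = 2 * (m + 1) := by ring
  rw [this]
  push_cast
  have h2 : (2 : ZMod 2) = 0 := by decide
  rw [h2, zero_mul]

theorem form_coords (w w' : X m → ZMod 2) (hw : ∑ x, w x = 0) (hw' : ∑ x, w' x = 0) :
    sympForm (Fin m) (ZMod 2) (coords w) (coords w') = w ⬝ᵥ w' := by
  obtain ⟨ε, hε⟩ := expansion w hw
  obtain ⟨ε', hε'⟩ := expansion w' hw'
  rw [← comb_dot_comb]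
  have h1 : w = comb (coords w) + fun _ => ε := funext hε
  have h2 : w' = comb (coords w') + fun _ => ε' := funext hε'
  conv_rhs => rw [h1, h2]
  rw [add_dotProduct, dotProduct_add, dotProduct_add]
  have e1 : comb (coords w) ⬝ᵥ (fun _ => ε') = 0 := by
    simp only [dotProduct]
    rw [← Finset.sum_mul, sum_comb, zero_mul]
  have e2 : (fun _ : X m => ε) ⬝ᵥ comb (coords w') = 0 := by
    simp only [dotProduct]
    rw [← Finset.mul_sum, sum_comb, mul_zero]
  have e3 : (fun _ : X m => ε) ⬝ᵥ (fun _ => ε') = 0 := by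
    simp only [dotProduct, Finset.sum_const, Finset.card_univ, nsmul_eq_mul, card_X_zero, zero_mul]
  rw [e1, e2, e3]
  ring

theorem M_mem (σ : Equiv.Perm (X m)) : M σ ∈ symplecticGroup (Fin m) (ZMod 2) := by
  rw [mem_symplecticGroup_iff_form]
  intro t t'
  rw [M_mulVec, M_mulVec, form_coords _ _ (by rw [sum_act, sum_comb]) (by rw [sum_act, sum_comb]),
    act_dot, comb_dot_comb]

end Action


section Injective

variable {m : ℕ}

theorem exists_notMem (s : Finset (X m)) (hs : s.card < Fintype.card (X m)) : ∃ z, z ∉ s := by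
  by_contra h
  push Not at h
  have : s = Finset.univ := Finset.eq_univ_iff_forall.mpr h
  rw [this, Finset.card_univ] at hs
  exact lt_irrefl _ hs

/-- if `M σ = 1` then `σ` moves every even-weight vector by a constant -/
theorem act_eq_add_const (σ : Equiv.Perm (X m)) (hσ : M σ = 1) (w : X m → ZMod 2)
    (hw : ∑ x, w x = 0) : ∃ δ : ZMod 2, ∀ x, act σ w x = w x + δ := by
  have h1 : coords (act σ w) = coords w := by
    rw [coords_act σ w hw, hσ, Matrix.one_mulVec]
  obtain ⟨ε, hε⟩ := expansion w hw
  obtain ⟨ε', hε'⟩ := expansion (act σ w) (by rw [sum_act, hw])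
  refine ⟨ε + ε', fun x => ?_⟩
  rw [hε' x, h1, hε x]
  rw [add_assoc, ← add_assoc ε, add_self2, zero_add]

theorem eq_one_of_M_eq_one (hm : 2 ≤ m) (σ : Equiv.Perm (X m)) (hσ : M σ = 1) : σ = 1 := by
  have hcard : 6 ≤ Fintype.card (X m) := by
    simp only [Fintype.card_sum, Fintype.card_fin]
    omega
  ext x
  rw [Equiv.Perm.one_apply]
  by_contra hx
  obtain ⟨y, hy⟩ := exists_notMem ({x, σ x} : Finset (X m))
    (lt_of_le_of_lt Finset.card_le_two (by omega))
  simp only [Finset.mem_insert, Finset.mem_singleton, not_or] at hy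
  obtain ⟨hyx, hyσ⟩ := hy
  obtain ⟨z, hz⟩ := exists_notMem ({x, y, σ x, σ y} : Finset (X m))
    (lt_of_le_of_lt Finset.card_le_four (by omega))
  simp only [Finset.mem_insert, Finset.mem_singleton, not_or] at hz
  obtain ⟨hzx, hzy, hzσx, hzσy⟩ := hz
  set w : X m → ZMod 2 := fun t => (if t = x then 1 else 0) + (if t = y then 1 else 0) with hw
  have hsum : ∑ t, w t = 0 := by
    simp only [hw, Finset.sum_add_distrib, Finset.sum_ite_eq', Finset.mem_univ, if_true]
    decide
  obtain ⟨δ, hδ⟩ := act_eq_add_const σ hσ w hsum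
  have h1 := hδ (σ x)
  simp only [act, hw, Equiv.symm_apply_apply, if_true, hx, if_false] at h1
  have hxy : ¬ x = y := fun h => hyx h.symm
  have hσxy : ¬ σ x = y := fun h => hyσ h.symm
  simp only [hxy, hσxy, if_false, add_zero, zero_add] at h1
  have h2 := hδ z
  simp only [act, hw, hzx, hzy, if_false, add_zero, zero_add] at h2
  have h3 : ¬ σ.symm z = x := fun h => hzσx (by rw [← h]; simp)
  have h4 : ¬ σ.symm z = y := fun h => hzσy (by rw [← h]; simp)
  simp only [h3, h4, if_false, add_zero] at h2
  rw [← h1] at h2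
  exact absurd h2 (by decide)

/-- the homomorphism -/
def hom (m : ℕ) : Equiv.Perm (X m) →* symplecticGroup (Fin m) (ZMod 2) where
  toFun σ := ⟨M σ, M_mem σ⟩
  map_one' := Subtype.ext M_one
  map_mul' σ τ := Subtype.ext (M_mul σ τ)

theorem hom_injective (hm : 2 ≤ m) : Function.Injective (hom m) := by
  rw [injective_iff_map_eq_one]
  intro σ hσ
  apply eq_one_of_M_eq_one hm
  exact congrArg Subtype.val hσ

end Injective


/-- S_2n ≤ Sp_(2n−2)(2) for n ≥ 3: there is an injective homomorphism from the symmetric group on 2n letters into the symplectic group of degree 2n − 2 over the field with two elements. -/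
theorem result (n : ℕ) (hn : 3 ≤ n) : ∃ f : Equiv.Perm (Fin (2 * n)) →* Matrix.symplecticGroup (Fin (n - 1)) (ZMod 2), Function.Injective f := by
  have hcard : Fintype.card (Fin (2 * n)) = Fintype.card (X (n - 1)) := by
    simp only [Fintype.card_sum, Fintype.card_fin]
    omega
  let e : Fin (2 * n) ≃ X (n - 1) := Fintype.equivOfCardEq hcard
  refine ⟨(hom (n - 1)).comp e.permCongrHom.toMonoidHom, ?_⟩
  exact (hom_injective (by omega)).comp e.permCongrHom.injective

end Cfsg.Agent.S0826
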