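import Cfsg.Statements.S2619
-- import your own Cfsg.Agent.* helpers here

set_option autoImplicit false
open Cfsg

namespace Cfsg.Agent.S2619

/-- Over a finite field of characteristic two, given an alternating bilinear form B on a finite-dimensional space, a basis (v_i) and scalars (λ_i), there is exactly one quadratic form whose polar form is B and whose value at each v_i is λ_i. -/
theorem result {F V ι : Type*} [Field F] [Finite F] [CharP F 2] [AddCommGroup V] [Module F V] [Fintype ι] (b : Module.Basis ι F V) (B : LinearMap.BilinForm F V) (hB : B.IsAlt) (c : ι → F) : ∃! Q : QuadraticForm F V, QuadraticMap.polarBilin Q = B ∧ ∀ i, Q (b i) = c i := by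
  classical
  let _ : LinearOrder ι := IsWellOrder.linearOrder WellOrderingRel
  let A : LinearMap.BilinMap F V F := b.constr (S := F) fun i => b.constr (S := F) fun j =>
    if i = j then c i else if i < j then B (b i) (b j) else 0
  have hA : ∀ i j, A (b i) (b j) = if i = j then c i else if i < j then B (b i) (b j) else 0 := by
    intro i j
    simp only [A]
    rw [Module.Basis.constr_basis, Module.Basis.constr_basis]
  have h2 : ∀ x : F, x + x = 0 := fun x => CharTwo.add_self_eq_zero x
  refine ⟨A.toQuadraticMap, ⟨?_, ?_⟩, ?_⟩
  · rw [LinearMap.BilinMap.polarBilin_toQuadraticMap]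
    refine LinearMap.BilinForm.ext_basis b (fun i j => ?_)
    simp only [LinearMap.add_apply, LinearMap.flip_apply, hA]
    obtain h | rfl | h := lt_trichotomy i j
    · simp [h.ne, h, h.ne', h.not_gt]
    · simp [h2, hB.self_eq_zero]
    · simp only [h.ne', h.not_gt, h.ne, h, if_false, if_true, zero_add]
      have := hB.neg_eq (b j) (b i)
      rw [← this, CharTwo.neg_eq]
  · intro i
    rw [LinearMap.BilinMap.toQuadraticMap_apply, hA]; simp
  · rintro Q ⟨hQ1, hQ2⟩
    have hA' : Q.toBilin b = A := by
      refine LinearMap.BilinForm.ext_basis b (fun i j => ?_)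
      rw [QuadraticMap.toBilin_apply, hA, hQ2]
      have : QuadraticMap.polar Q (b i) (b j) = B (b i) (b j) := by
        rw [← hQ1]; rfl
      rw [this]
    rw [← hA', QuadraticMap.toQuadraticMap_toBilin Q b]

end Cfsg.Agent.S2619
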