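import Cfsg.Statements.S5985
import Cfsg.Agent.Lib.Helper44.Elusive1
import Cfsg.Agent.Lib.Helper44.Levi
import Cfsg.Agent.Lib.Helper5.QuadCount
-- import your own Cfsg.Agent.* helpers here

set_option autoImplicit false
open scoped MatrixGroups
open Cfsg

namespace Cfsg.Agent.S5985

open Matrix Module Cfsg.Agent.Lib.Helper44 Cfsg.Agent.Lib.Helper44.Elu

section plus
variable {F : Type*} [Field F] [Fintype F]

/-- count of singular vectors of the plus form -/
theorem card_sing_plus (d : ℕ) :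
    Nat.card {v : Fin d ⊕ Fin d → F // Cfsg.quadFormPlus d F v = 0} =
      Fintype.card F ^ d + (Fintype.card F ^ d - 1) * Fintype.card F ^ (d - 1) := by
  have h := Cfsg.Agent.Lib.Helper5.card_hyperbolic_add (F := F) d (W := Unit) (fun _ => 0)
  let e : {v : Fin d ⊕ Fin d → F // Cfsg.quadFormPlus d F v = 0} ≃
      {p : (Fin d → F) × (Fin d → F) × Unit // p.1 ⬝ᵥ p.2.1 + (fun _ : Unit => (0 : F)) p.2.2 = 0} :=
    { toFun := fun v => ⟨(v.1 ∘ Sum.inl, v.1 ∘ Sum.inr, ()), by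
        have := v.2
        rw [quadFormPlus_eq_dot] at this
        simpa using this⟩
      invFun := fun p => ⟨Sum.elim p.1.1 p.1.2.1, by
        rw [quadFormPlus_eq_dot]
        simpa using p.2⟩
      left_inv := fun v => by
        apply Subtype.ext
        funext i
        rcases i with i | i <;> rfl
      right_inv := fun p => by
        apply Subtype.ext
        rfl }
  rw [Nat.card_congr e, h]
  have h1 : Nat.card {w : Unit // (fun _ : Unit => (0 : F)) w = 0} = 1 := by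
    rw [Nat.card_eq_one_iff_unique]
    exact ⟨⟨fun a b => Subtype.ext rfl⟩, ⟨⟨(), rfl⟩⟩⟩
  rw [h1, Nat.card_unique, mul_one, mul_one]

theorem dvd_of_dvd_points [CharP F 2] (d : ℕ) (hd : 1 ≤ d) (r : ℕ) (hr : r.Prime) (hr2 : r ≠ 2)
    (h : r ∣ Nat.card {W : Submodule F (Fin d ⊕ Fin d → F) //
      Module.finrank F ↥W = 1 ∧ ∃ v ∈ W, Cfsg.quadFormPlus d F v ≠ 0}) :
    r ∣ Fintype.card F ^ d - 1 := by
  classical
  have h1 := card_points_mul (hypQF d F)
  have hZ := card_sing_plus (F := F) d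
  have hNS : Nat.card {v : Fin d ⊕ Fin d → F // hypQF d F v ≠ 0} =
      Fintype.card F ^ (d + d) - Nat.card {v : Fin d ⊕ Fin d → F // Cfsg.quadFormPlus d F v = 0} := by
    rw [Nat.card_eq_fintype_card, Nat.card_eq_fintype_card]
    have := Fintype.card_subtype_compl (fun v : Fin d ⊕ Fin d → F => Cfsg.quadFormPlus d F v = 0)
    rw [Fintype.card_fun, Fintype.card_sum, Fintype.card_fin] at this
    exact this
  obtain ⟨e, _, he⟩ := FiniteField.card F 2
  set q := Fintype.card F with hq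
  have hq2 : 2 ≤ q := by
    rw [he]
    calc 2 = 2 ^ 1 := rfl
      _ ≤ 2 ^ (e : ℕ) := Nat.pow_le_pow_right (by norm_num) e.pos
  obtain ⟨k, hk⟩ : ∃ k, q = k + 1 := ⟨q - 1, by omega⟩
  set a := q ^ (d - 1) with ha
  have hQn : q ^ d = a * q := by
    rw [ha, ← pow_succ]; congr 1; omega
  have hQpos : 1 ≤ q ^ d := Nat.one_le_pow _ _ (by omega)
  obtain ⟨m, hm⟩ : ∃ m, q ^ d = m + 1 := ⟨q ^ d - 1, by omega⟩
  have hNS2 : Nat.card {v : Fin d ⊕ Fin d → F // hypQF d F v ≠ 0} = m * a * k := by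
    rw [hNS, hZ, pow_add, hm, Nat.add_sub_cancel]
    apply Nat.sub_eq_of_eq_add
    have h3 : a * (k + 1) = m + 1 := by rw [← hk, ← hQn, hm]
    calc (m + 1) * (m + 1) = m * (m + 1) + (m + 1) := by ring
      _ = m * (a * (k + 1)) + (m + 1) := by rw [h3]
      _ = m * a * k + (m + 1 + m * a) := by ring
  have hk' : q - 1 = k := by omega
  rw [hk', hNS2] at h1
  have h2 : r ∣ m * a * k := by
    rw [← h1]
    exact Dvd.dvd.mul_right h _
  have hm' : q ^ d - 1 = m := by omega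
  rw [hm']
  rcases (Nat.Prime.dvd_mul hr).mp h2 with h3 | h3
  · rcases (Nat.Prime.dvd_mul hr).mp h3 with h4 | h4
    · exact h4
    · exfalso
      have h5 : r ∣ q := hr.dvd_of_dvd_pow h4
      rw [he] at h5
      have h6 : r ∣ 2 := hr.dvd_of_dvd_pow h5
      exact hr2 ((Nat.prime_dvd_prime_iff_eq hr Nat.prime_two).mp h6)
  · have h4 : q - 1 ∣ q ^ d - 1 := Nat.sub_one_dvd_pow_sub_one q d
    rw [hk', hm'] at h4
    exact dvd_trans h3 h4

/-- the matrix `J - 1` -/
def offD (d : ℕ) (F : Type*) [Field F] : Matrix (Fin d) (Fin d) F :=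
  Matrix.of (fun _ _ => (1 : F)) - 1

theorem offD_mul_self [CharP F 2] (d : ℕ) (hd : Even d) : offD d F * offD d F = 1 := by
  have hJJ : (Matrix.of (fun _ _ => (1 : F)) : Matrix (Fin d) (Fin d) F) *
      Matrix.of (fun _ _ => (1 : F)) = 0 := by
    ext i j
    rw [Matrix.mul_apply]
    simp only [Matrix.of_apply, mul_one, Finset.sum_const, Finset.card_univ, Fintype.card_fin,
      nsmul_eq_mul, Matrix.zero_apply]
    obtain ⟨m, rfl⟩ := hd
    rw [Nat.cast_add, CharTwo.add_self_eq_zero]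
  have hadd : ∀ A : Matrix (Fin d) (Fin d) F, A + A = 0 := by
    intro A; ext i j; exact CharTwo.add_self_eq_zero _
  unfold offD
  have : (Matrix.of (fun _ _ => (1 : F)) - 1 : Matrix (Fin d) (Fin d) F) *
      (Matrix.of (fun _ _ => (1 : F)) - 1) =
      Matrix.of (fun _ _ => (1 : F)) * Matrix.of (fun _ _ => (1 : F)) -
        (Matrix.of (fun _ _ => (1 : F)) + Matrix.of (fun _ _ => (1 : F))) + 1 := by
    noncomm_ring
  rw [this, hJJ, hadd, sub_zero, zero_add]

theorem offD_quad [CharP F 2] (d : ℕ) (w : Fin d → F) : (offD d F *ᵥ w) ⬝ᵥ w = 0 := by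
  have h1 : offD d F *ᵥ w = (fun _ => ∑ j, w j) - w := by
    unfold offD
    rw [Matrix.sub_mulVec, Matrix.one_mulVec]
    congr 1
    funext i
    simp [Matrix.mulVec, dotProduct]
  rw [h1, sub_dotProduct]
  have h2 : (fun _ : Fin d => ∑ j, w j) ⬝ᵥ w = (∑ j, w j) ^ 2 := by
    simp only [dotProduct]
    rw [← Finset.mul_sum, sq]
  have h3 : w ⬝ᵥ w = ∑ j, w j ^ 2 := by
    simp only [dotProduct]
    apply Finset.sum_congr rfl
    intro i _
    rw [sq]
  rw [h2, h3, sum_pow_char 2, sub_self]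

/-- the involution `[[1, J-1],[0,1]]` -/
def invMat (d : ℕ) (F : Type*) [Field F] : Matrix (Fin d ⊕ Fin d) (Fin d ⊕ Fin d) F :=
  Matrix.fromBlocks 1 (offD d F) 0 1

theorem invMat_mul_self [CharP F 2] (d : ℕ) : invMat d F * invMat d F = 1 := by
  unfold invMat
  rw [Matrix.fromBlocks_multiply]
  have hadd : ∀ A : Matrix (Fin d) (Fin d) F, A + A = 0 := by
    intro A; ext i j; exact CharTwo.add_self_eq_zero _
  simp only [mul_one, mul_zero, add_zero, one_mul, zero_mul, zero_add, hadd]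
  exact Matrix.fromBlocks_one

/-- the involution as an element of `GL` -/
def invGL [CharP F 2] (d : ℕ) : GL (Fin d ⊕ Fin d) F :=
  ⟨invMat d F, invMat d F, invMat_mul_self d, invMat_mul_self d⟩

theorem invMat_mulVec (d : ℕ) (v : Fin d ⊕ Fin d → F) :
    invMat d F *ᵥ v = Sum.elim (v ∘ Sum.inl + offD d F *ᵥ (v ∘ Sum.inr)) (v ∘ Sum.inr) := by
  unfold invMat
  rw [Matrix.fromBlocks_mulVec]
  simp

theorem invGL_mem [CharP F 2] (d : ℕ) :
    (invGL d : GL (Fin d ⊕ Fin d) F) ∈ Cfsg.isometryGroup F (Cfsg.quadFormPlus d F) := by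
  apply mem_isometryGroup_of_mulVec
  intro v
  show Cfsg.quadFormPlus d F ((invMat d F).mulVec v) = _
  rw [invMat_mulVec, quadFormPlus_eq_dot, quadFormPlus_eq_dot]
  simp only [Sum.elim_comp_inl, Sum.elim_comp_inr]
  rw [add_dotProduct, offD_quad, add_zero]

theorem invGL_fix [CharP F 2] (d : ℕ) (hd : Even d) (v : Fin d ⊕ Fin d → F)
    (hv : ((invGL d : GL (Fin d ⊕ Fin d) F) : Matrix (Fin d ⊕ Fin d) (Fin d ⊕ Fin d) F) *ᵥ v = v) :
    Cfsg.quadFormPlus d F v = 0 := by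
  change invMat d F *ᵥ v = v at hv
  rw [invMat_mulVec] at hv
  have h1 : v ∘ Sum.inl + offD d F *ᵥ (v ∘ Sum.inr) = v ∘ Sum.inl := by
    have := congrArg (fun u : Fin d ⊕ Fin d → F => u ∘ Sum.inl) hv
    simpa using this
  have h2 : offD d F *ᵥ (v ∘ Sum.inr) = 0 := by
    have := add_left_cancel (a := v ∘ Sum.inl) (b := offD d F *ᵥ (v ∘ Sum.inr)) (c := 0)
      (by rw [h1, add_zero])
    exact this
  have h3 : v ∘ Sum.inr = 0 := by
    have := congrArg (fun u => offD d F *ᵥ u) h2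
    simp only [Matrix.mulVec_mulVec, offD_mul_self d hd, Matrix.one_mulVec, Matrix.mulVec_zero] at this
    exact this
  rw [quadFormPlus_eq_dot, h3, dotProduct_zero]

end plus


/-- Elements of prime order of Ω⁺_n(q), q even, with no fixed nonsingular 1-space. Here `T = PΩ⁺_n(F)`, `n = 2d ≥ 8`, realised through `Ω⁺_n(q)`, the commutator subgroup of the isometry group of `Q = Σ xᵢyᵢ` over the field `F` with `q` elements; an element of `T` of prime order `r` is an element `x` of `Ω⁺_n(q)` with `x^r` scalar and `x` not scalar; `q` is even (so the centre is trivial). Let Ω be the set of 1-dimensional subspaces spanned by a vector `v` with `Q(v) ≠ 0`, and let `r` be a prime dividing their number. Then every element of `T` of order `r` fixes some nonsingular 1-space if and only if `r = 2` and `n ≡ 2 (mod 4)` (that is, `d` is odd). -/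
theorem result {F : Type*} [Field F] [Fintype F] {p : ℕ} [Fact p.Prime] [CharP F p] {q : ℕ} (hq : Fintype.card F = q)
    (hp : p = 2) (d : ℕ) (hd : 4 ≤ d) (r : ℕ) [Fact r.Prime]
    (hrΩ : r ∣ Nat.card {W : Submodule F (Fin d ⊕ Fin d → F) // Module.finrank F ↥W = 1 ∧ ∃ v ∈ W, Cfsg.quadFormPlus d F v ≠ 0}) :
    (∀ x : GL (Fin d ⊕ Fin d) F, x ∈ Cfsg.Geo.omegaGL (Cfsg.quadFormPlus d F) →
      (∃ z : F, ((x ^ r : GL (Fin d ⊕ Fin d) F) : Matrix (Fin d ⊕ Fin d) (Fin d ⊕ Fin d) F) = z • (1 : Matrix (Fin d ⊕ Fin d) (Fin d ⊕ Fin d) F)) →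
      (∀ z : F, (x : Matrix (Fin d ⊕ Fin d) (Fin d ⊕ Fin d) F) ≠ z • (1 : Matrix (Fin d ⊕ Fin d) (Fin d ⊕ Fin d) F)) →
      ∃ W : Submodule F (Fin d ⊕ Fin d → F), (Module.finrank F ↥W = 1 ∧ ∃ v ∈ W, Cfsg.quadFormPlus d F v ≠ 0) ∧ W.map (Matrix.toLin' (x : Matrix (Fin d ⊕ Fin d) (Fin d ⊕ Fin d) F)) ≤ W) ↔ (r = 2 ∧ Odd d) := by
  subst hp
  classical
  have hnd := hypQF_nondeg (m := d) (F := F)
  have hcard : Fintype.card (Fin d ⊕ Fin d) = 2 * d := by
    rw [Fintype.card_sum, Fintype.card_fin]; ring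
  have hι : Fintype.card (Fin d ⊕ Fin d) ≠ 4 := by rw [hcard]; omega
  have hex : ∃ v, hypQF d F v ≠ 0 := by
    refine ⟨hypVec (⟨0, by omega⟩ : Fin d) 1, ?_⟩
    rw [hypQF_hypVec]
    simp
  have hΩ : ∀ x : GL (Fin d ⊕ Fin d) F, x ∈ Cfsg.Geo.omegaGL (Cfsg.quadFormPlus d F) ↔
      x ∈ Cfsg.isometryGroup F (Cfsg.quadFormPlus d F) ∧
        Even ((x : Matrix (Fin d ⊕ Fin d) (Fin d ⊕ Fin d) F) - 1).rank :=
    fun x => mem_omegaGL_iff (hypQF d F) hnd hι x
  have hfix : ∀ x : GL (Fin d ⊕ Fin d) F, x ∈ Cfsg.isometryGroup F (Cfsg.quadFormPlus d F) →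
      ((∃ W : Submodule F (Fin d ⊕ Fin d → F), (Module.finrank F ↥W = 1 ∧
          ∃ v ∈ W, Cfsg.quadFormPlus d F v ≠ 0) ∧
          W.map (Matrix.toLin' (x : Matrix (Fin d ⊕ Fin d) (Fin d ⊕ Fin d) F)) ≤ W) ↔
        ∃ v, Cfsg.quadFormPlus d F v ≠ 0 ∧
          (x : Matrix (Fin d ⊕ Fin d) (Fin d ⊕ Fin d) F) *ᵥ v = v) :=
    fun x hx => fix_point_iff (hypQF d F) x hx
  constructor
  · intro H
    have hr2 : r = 2 := by
      by_contra hne
      have hdvd : r ∣ Fintype.card F ^ d - 1 :=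
        dvd_of_dvd_points d (by omega) r (Fact.out) hne hrΩ
      obtain ⟨g, hgr, hgu⟩ := exists_fpf_matrix (F := F) d (by omega) r hdvd
      have hxiso := leviGL_mem g
      have hfpf : ∀ v, ((leviGL g : GL (Fin d ⊕ Fin d) F) :
          Matrix (Fin d ⊕ Fin d) (Fin d ⊕ Fin d) F) *ᵥ v = v → v = 0 := by
        intro v hv
        change (leviMat g).mulVec v = v at hv
        rw [leviMat_mulVec] at hv
        have h1 : (g : Matrix (Fin d) (Fin d) F) *ᵥ (v ∘ Sum.inl) = v ∘ Sum.inl := by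
          have := congrArg (fun u : Fin d ⊕ Fin d → F => u ∘ Sum.inl) hv
          simpa using this
        have h2 : ((g⁻¹ : GL (Fin d) F) : Matrix (Fin d) (Fin d) F)ᵀ *ᵥ (v ∘ Sum.inr) = v ∘ Sum.inr := by
          have := congrArg (fun u : Fin d ⊕ Fin d → F => u ∘ Sum.inr) hv
          simpa using this
        have hinj : Function.Injective ((g : Matrix (Fin d) (Fin d) F) - 1).mulVec :=
          Matrix.mulVec_injective_iff_isUnit.mpr hgu
        have hinj' : Function.Injective ((g : Matrix (Fin d) (Fin d) F) - 1).vecMul :=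
          Matrix.vecMul_injective_iff_isUnit.mpr hgu
        have h3 : v ∘ Sum.inl = 0 := by
          apply hinj
          rw [Matrix.sub_mulVec, Matrix.one_mulVec, h1, sub_self, Matrix.mulVec_zero]
        have h4 : v ∘ Sum.inr = 0 := by
          apply hinj'
          show (v ∘ Sum.inr) ᵥ* ((g : Matrix (Fin d) (Fin d) F) - 1) = 0 ᵥ* ((g : Matrix (Fin d) (Fin d) F) - 1)
          rw [Matrix.zero_vecMul, Matrix.vecMul_sub, Matrix.vecMul_one]
          rw [Matrix.mulVec_transpose] at h2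
          have h5 := congrArg (fun u => Matrix.vecMul u (g : Matrix (Fin d) (Fin d) F)) h2
          simp only [Matrix.vecMul_vecMul, ← Units.val_mul, inv_mul_cancel, Units.val_one,
            Matrix.vecMul_one] at h5
          rw [← h5, sub_self]
        funext i
        rcases i with i | i
        · exact congrFun h3 i
        · exact congrFun h4 i
      have hxΩ : (leviGL g : GL (Fin d ⊕ Fin d) F) ∈ Cfsg.Geo.omegaGL (Cfsg.quadFormPlus d F) := by
        rw [hΩ]
        refine ⟨hxiso, ?_⟩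
        rw [rank_of_fpf _ hfpf, hcard]
        exact even_two_mul d
      have hxr : ∃ z : F, (((leviGL g : GL (Fin d ⊕ Fin d) F) ^ r : GL (Fin d ⊕ Fin d) F) :
          Matrix (Fin d ⊕ Fin d) (Fin d ⊕ Fin d) F) = z • (1 : Matrix (Fin d ⊕ Fin d) (Fin d ⊕ Fin d) F) := by
        refine ⟨1, ?_⟩
        rw [← map_pow, hgr, map_one, one_smul]
        rfl
      have hxns : ∀ z : F, ((leviGL g : GL (Fin d ⊕ Fin d) F) :
          Matrix (Fin d ⊕ Fin d) (Fin d ⊕ Fin d) F) ≠ z • (1 : Matrix (Fin d ⊕ Fin d) (Fin d ⊕ Fin d) F) := by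
        intro z hz
        have h1 := scalar_isometry_eq_one (hypQF d F) hex _ hxiso z hz
        obtain ⟨v, hv⟩ := hex
        have h2 := hfpf v (by rw [h1, Matrix.one_mulVec])
        rw [h2, map_zero] at hv
        exact hv rfl
      obtain ⟨v, hQv, hxv⟩ := (hfix _ hxiso).mp (H _ hxΩ hxr hxns)
      have h2 := hfpf v hxv
      apply hQv
      rw [h2]
      exact map_zero (hypQF d F)
    refine ⟨hr2, ?_⟩
    by_contra hodd
    have heven : Even d := Nat.not_odd_iff_even.mp hodd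
    have hxiso := invGL_mem (F := F) d
    have hts : ∀ v, ((invGL d : GL (Fin d ⊕ Fin d) F) :
        Matrix (Fin d ⊕ Fin d) (Fin d ⊕ Fin d) F) *ᵥ v = v → hypQF d F v = 0 :=
      fun v hv => invGL_fix d heven v hv
    have hxΩ : (invGL d : GL (Fin d ⊕ Fin d) F) ∈ Cfsg.Geo.omegaGL (Cfsg.quadFormPlus d F) := by
      rw [hΩ]
      refine ⟨hxiso, ?_⟩
      rw [involution_rank (hypQF d F) hnd d hcard _ (invMat_mul_self d) hts]
      exact heven
    have hxr : ∃ z : F, (((invGL d : GL (Fin d ⊕ Fin d) F) ^ r : GL (Fin d ⊕ Fin d) F) :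
        Matrix (Fin d ⊕ Fin d) (Fin d ⊕ Fin d) F) = z • (1 : Matrix (Fin d ⊕ Fin d) (Fin d ⊕ Fin d) F) := by
      refine ⟨1, ?_⟩
      rw [hr2, one_smul, Units.val_pow_eq_pow_val, sq]
      exact invMat_mul_self d
    have hxns : ∀ z : F, ((invGL d : GL (Fin d ⊕ Fin d) F) :
        Matrix (Fin d ⊕ Fin d) (Fin d ⊕ Fin d) F) ≠ z • (1 : Matrix (Fin d ⊕ Fin d) (Fin d ⊕ Fin d) F) := by
      intro z hz
      have h1 := congrFun (congrFun hz (Sum.inl (⟨0, by omega⟩ : Fin d))) (Sum.inr (⟨1, by omega⟩ : Fin d))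
      change invMat d F _ _ = _ at h1
      unfold invMat offD at h1
      simp at h1
    obtain ⟨v, hQv, hxv⟩ := (hfix _ hxiso).mp (H _ hxΩ hxr hxns)
    exact hQv (hts v hxv)
  · rintro ⟨hr2, hodd⟩ x hxΩ ⟨z, hz⟩ hns
    rw [hΩ] at hxΩ
    obtain ⟨hxiso, hev⟩ := hxΩ
    have hx2 : (x : Matrix (Fin d ⊕ Fin d) (Fin d ⊕ Fin d) F) * (x : Matrix (Fin d ⊕ Fin d) (Fin d ⊕ Fin d) F) = 1 := by
      have hx2iso : x ^ r ∈ Cfsg.isometryGroup F (Cfsg.quadFormPlus d F) := Subgroup.pow_mem _ hxiso r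
      have h1 := scalar_isometry_eq_one (hypQF d F) hex (x ^ r) hx2iso z hz
      rwa [hr2, Units.val_pow_eq_pow_val, sq] at h1
    rw [hfix x hxiso]
    by_contra hno
    push Not at hno
    have hts : ∀ v, (x : Matrix (Fin d ⊕ Fin d) (Fin d ⊕ Fin d) F) *ᵥ v = v → hypQF d F v = 0 := by
      intro v hv
      by_contra h
      exact hno v h hv
    have hrank := involution_rank (hypQF d F) hnd d hcard x hx2 hts
    rw [hrank] at hev
    exact (Nat.not_even_iff_odd.mpr hodd) hev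

end Cfsg.Agent.S5985
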