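import Cfsg.Statements.S0768
import Cfsg.Agent.Lib.Helper8.SpPrim

set_option autoImplicit false
open scoped LinearAlgebra.Projectivization
open Cfsg

namespace Cfsg.Agent.S0768

open Matrix Cfsg.Agent.S0765 Cfsg.Agent.Lib.Helper8
open scoped LinearAlgebra.Projectivization

section
variable {F : Type*} [Field F] {m : ℕ}

/-- the symplectic group as invertible matrices -/
def toGL (m : ℕ) (F : Type*) [Field F] :
    Matrix.symplecticGroup (Fin m) F →* Matrix.GeneralLinearGroup (Fin m ⊕ Fin m) F :=
  (Units.map (Matrix.symplecticGroup (Fin m) F).subtype).comp toUnits.toMonoidHom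

theorem toGL_coe (g : Matrix.symplecticGroup (Fin m) F) :
    ((toGL m F g : Matrix.GeneralLinearGroup (Fin m ⊕ Fin m) F) :
      Matrix (Fin m ⊕ Fin m) (Fin m ⊕ Fin m) F) = g.1 := rfl

theorem toGL_mem (g : Matrix.symplecticGroup (Fin m) F) : toGL m F g ∈ Cfsg.spGL m F := by
  intro u v
  exact B_mulVec g.1 g.2 u v

/-- the map into `spGL` -/
def toSpGL (m : ℕ) (F : Type*) [Field F] (g : Matrix.symplecticGroup (Fin m) F) :
    ↥(Cfsg.spGL m F) := ⟨toGL m F g, toGL_mem g⟩

theorem toSpGL_smul (g : Matrix.symplecticGroup (Fin m) F) (P : ℙ F (Fin m ⊕ Fin m → F)) :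
    toSpGL m F g • P = g • P := by
  induction P using Projectivization.ind with | _ v hv =>
  show toGL m F g • Projectivization.mk F v hv = g • Projectivization.mk F v hv
  rw [Projectivization.smul_mk, Projectivization.smul_mk]
  rfl

end

/-- Primitivity: for m ≥ 1 and F finite, the symplectic group of the form sympForm (as a subgroup of the general linear group) acts primitively on the projective space of F^(2m). -/
theorem result {F : Type*} [Field F] [Finite F] (m : ℕ) (hm : 1 ≤ m) : MulAction.IsPreprimitive ↥(Cfsg.spGL m F) (ℙ F (Fin m ⊕ Fin m → F)) := by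
  have := sp_isPreprimitive (F := F) (m := m)
  let f : (ℙ F (Fin m ⊕ Fin m → F)) →ₑ[toSpGL m F] (ℙ F (Fin m ⊕ Fin m → F)) :=
    { toFun := id
      map_smul' := fun g P => (toSpGL_smul g P).symm }
  exact MulAction.IsPreprimitive.of_surjective (f := f) Function.surjective_id

end Cfsg.Agent.S0768
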