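import Cfsg.Statements.S5986
import Cfsg.Agent.Lib.Helper44.Elusive4
import Cfsg.Agent.S5985
-- import your own Cfsg.Agent.* helpers here

set_option autoImplicit false
open scoped MatrixGroups
open Cfsg

namespace Cfsg.Agent.S5986


open Matrix Module Cfsg.Agent.Lib.Helper44 Cfsg.Agent.Lib.Helper44.Elu

section aux
variable {F : Type*} [Field F] [Fintype F] [CharP F 2]

/-- no fixed-point-free isometry of odd prime order `r ∣ q^d + 1` on the plus form -/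
theorem no_fpf_plus (d : ℕ) (hd : 2 ≤ d) (r : ℕ) [hr : Fact r.Prime] (hr2 : r ≠ 2)
    (hdvd : r ∣ Fintype.card F ^ d + 1)
    (x : GL (Fin d ⊕ Fin d) F) (hx : x ∈ Cfsg.isometryGroup F (Cfsg.quadFormPlus d F))
    (hxr : x ^ r = 1)
    (hfpf : ∀ v, (x : Matrix (Fin d ⊕ Fin d) (Fin d ⊕ Fin d) F) *ᵥ v = v → v = 0) : False := by
  classical
  rw [Cfsg.Agent.Lib.Helper13.mem_isometryGroup_iff] at hx
  let T := {v : Fin d ⊕ Fin d → F // Cfsg.quadFormPlus d F v = 0}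
  let f : Function.End T := fun v => ⟨(x : Matrix (Fin d ⊕ Fin d) (Fin d ⊕ Fin d) F) *ᵥ v.1, by
    rw [hx]; exact v.2⟩
  have hpow : ∀ n : ℕ, ∀ v : T, ((f ^ n) v).1 =
      ((x : Matrix (Fin d ⊕ Fin d) (Fin d ⊕ Fin d) F) ^ n) *ᵥ v.1 := by
    intro n
    induction n with
    | zero => intro v; rw [pow_zero, pow_zero, Matrix.one_mulVec]; rfl
    | succ n ih =>
      intro v
      rw [pow_succ', pow_succ']
      show (x : Matrix (Fin d ⊕ Fin d) (Fin d ⊕ Fin d) F) *ᵥ ((f ^ n) v).1 = _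
      rw [ih, Matrix.mulVec_mulVec]
  have hxr' : (x : Matrix (Fin d ⊕ Fin d) (Fin d ⊕ Fin d) F) ^ r = 1 := by
    rw [← Units.val_pow_eq_pow_val, hxr, Units.val_one]
  have hf : f ^ r ^ 1 = 1 := by
    funext v
    apply Subtype.ext
    rw [pow_one, hpow, hxr', Matrix.one_mulVec]
    rfl
  have hmod := Equiv.Perm.card_fixedPoints_modEq (p := r) (n := 1) hf
  have hfix : Fintype.card (Function.fixedPoints f) = 1 := by
    rw [Fintype.card_eq_one_iff]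
    refine ⟨⟨⟨0, by simp [Cfsg.quadFormPlus]⟩, ?_⟩, ?_⟩
    · show f _ = _
      apply Subtype.ext
      show (x : Matrix (Fin d ⊕ Fin d) (Fin d ⊕ Fin d) F) *ᵥ 0 = 0
      rw [Matrix.mulVec_zero]
    · rintro ⟨v, hv⟩
      apply Subtype.ext
      apply Subtype.ext
      have h1 : f v = v := hv
      have h2 := congrArg Subtype.val h1
      exact hfpf v.1 h2
  rw [hfix] at hmod
  have hZ := Cfsg.Agent.S5985.card_sing_plus (F := F) d
  rw [Nat.card_eq_fintype_card] at hZ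
  rw [hZ] at hmod
  obtain ⟨e, _, he⟩ := FiniteField.card F 2
  set q := Fintype.card F with hq
  have hq2 : 2 ≤ q := by
    rw [he]
    calc 2 = 2 ^ 1 := rfl
      _ ≤ 2 ^ (e : ℕ) := Nat.pow_le_pow_right (by norm_num) e.pos
  set A := q ^ (d - 1) with hA
  have hQn : q ^ d = A * q := by
    rw [hA, ← pow_succ]; congr 1; omega
  have hQpos : 1 ≤ q ^ d := Nat.one_le_pow _ _ (by omega)
  obtain ⟨m, hm⟩ : ∃ m, q ^ d = m + 1 := ⟨q ^ d - 1, by omega⟩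
  have hdv : r ∣ m * (A + 1) := by
    have h1 : 1 ≤ q ^ d + (q ^ d - 1) * A := by omega
    have h2 := (Nat.modEq_iff_dvd' h1).mp hmod.symm
    have h3 : q ^ d + (q ^ d - 1) * A - 1 = m * (A + 1) := by
      rw [hm, Nat.add_sub_cancel]
      have : m + 1 + m * A = m * (A + 1) + 1 := by ring
      rw [this, Nat.add_sub_cancel]
    rwa [h3] at h2
  have hr2' : ¬ r ∣ 2 := fun h => hr2 ((Nat.prime_dvd_prime_iff_eq hr.out Nat.prime_two).mp h)
  rw [hm] at hdvd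
  rcases (Nat.Prime.dvd_mul hr.out).mp hdv with h | h
  · apply hr2'
    have := Nat.dvd_sub hdvd h
    have h4 : m + 1 + 1 - m = 2 := by omega
    rwa [h4] at this
  · -- r ∣ A + 1, r ∣ A q + 1 ⇒ r ∣ q - 1 ⇒ r ∣ A - 1
    have h5 : r ∣ (A + 1) * q := Dvd.dvd.mul_right h q
    have h6 : r ∣ (A + 1) * q - (m + 1 + 1) := Nat.dvd_sub h5 hdvd
    have h7 : (A + 1) * q - (m + 1 + 1) = q - 1 := by
      have : (A + 1) * q = A * q + q := by ring
      rw [this, ← hQn, hm]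
      omega
    rw [h7] at h6
    have h8 : q - 1 ∣ A - 1 := Nat.sub_one_dvd_pow_sub_one q (d - 1)
    have h9 : r ∣ A - 1 := dvd_trans h6 h8
    have hApos : 1 ≤ A := Nat.one_le_pow _ _ (by omega)
    apply hr2'
    have := Nat.dvd_sub h h9
    have h4 : A + 1 - (A - 1) = 2 := by omega
    rwa [h4] at this

end aux



/-- Elements of prime order of Ω⁻_n(q), q even, with no fixed nonsingular 1-space. Here `T = PΩ⁻_n(F)`, `n = 2d ≥ 8`, realised through `Ω⁻_n(q)`, the commutator subgroup of the isometry group of `Q = Σ_{i<d−1} xᵢyᵢ + z₁² + a z₁z₂ + b z₂²` with `z₁² + a z₁z₂ + b z₂²` anisotropic, over the field `F` with `q` elements; an element of `T` of prime order `r` is an element `x` of `Ω⁻_n(q)` with `x^r` scalar and `x` not scalar; `q` is even (so the centre is trivial). Let Ω be the set of 1-dimensional subspaces spanned by a vector `v` with `Q(v) ≠ 0`, and let `r` be a prime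 dividing their number. Then every element of `T` of order `r` fixes some nonsingular 1-space if and only if `r = 2`. -/
theorem result {F : Type*} [Field F] [Fintype F] {p : ℕ} [Fact p.Prime] [CharP F p] {q : ℕ} (hq : Fintype.card F = q)
    (hp : p = 2) (d : ℕ) (hd : 4 ≤ d) (a b : F) (hab : ∀ x y : F, x ^ 2 + a * x * y + b * y ^ 2 = 0 → x = 0 ∧ y = 0) (r : ℕ) [Fact r.Prime]
    (hrΩ : r ∣ Nat.card {W : Submodule F ((Fin (d - 1) ⊕ Fin (d - 1)) ⊕ Fin 2 → F) // Module.finrank F ↥W = 1 ∧ ∃ v ∈ W, Cfsg.quadFormMinus (d - 1) F a b v ≠ 0}) :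
    (∀ x : GL ((Fin (d - 1) ⊕ Fin (d - 1)) ⊕ Fin 2) F, x ∈ Cfsg.Geo.omegaGL (Cfsg.quadFormMinus (d - 1) F a b) →
      (∃ z : F, ((x ^ r : GL ((Fin (d - 1) ⊕ Fin (d - 1)) ⊕ Fin 2) F) : Matrix ((Fin (d - 1) ⊕ Fin (d - 1)) ⊕ Fin 2) ((Fin (d - 1) ⊕ Fin (d - 1)) ⊕ Fin 2) F) = z • (1 : Matrix ((Fin (d - 1) ⊕ Fin (d - 1)) ⊕ Fin 2) ((Fin (d - 1) ⊕ Fin (d - 1)) ⊕ Fin 2) F)) →
      (∀ z : F, (x : Matrix ((Fin (d - 1) ⊕ Fin (d - 1)) ⊕ Fin 2) ((Fin (d - 1) ⊕ Fin (d - 1)) ⊕ Fin 2) F) ≠ z • (1 : Matrix ((Fin (d - 1) ⊕ Fin (d - 1)) ⊕ Fin 2) ((Fin (d - 1) ⊕ Fin (d - 1)) ⊕ Fin 2) F)) →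
      ∃ W : Submodule F ((Fin (d - 1) ⊕ Fin (d - 1)) ⊕ Fin 2 → F), (Module.finrank F ↥W = 1 ∧ ∃ v ∈ W, Cfsg.quadFormMinus (d - 1) F a b v ≠ 0) ∧ W.map (Matrix.toLin' (x : Matrix ((Fin (d - 1) ⊕ Fin (d - 1)) ⊕ Fin 2) ((Fin (d - 1) ⊕ Fin (d - 1)) ⊕ Fin 2) F)) ≤ W) ↔ r = 2 := by
  subst hp
  classical
  have hnd := minusQF_nondeg_char_two (F := F) (d - 1) a b hab
  have hcoe : ⇑(minusQF (d - 1) F a b) = Cfsg.quadFormMinus (d - 1) F a b :=
    minusQF_coe (d - 1) F a b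
  have hcard : Fintype.card ((Fin (d - 1) ⊕ Fin (d - 1)) ⊕ Fin 2) = 2 * d := by
    rw [Fintype.card_sum, Fintype.card_sum, Fintype.card_fin, Fintype.card_fin]; omega
  have hι : Fintype.card ((Fin (d - 1) ⊕ Fin (d - 1)) ⊕ Fin 2) ≠ 4 := by rw [hcard]; omega
  have hex : ∃ v, minusQF (d - 1) F a b v ≠ 0 := by
    refine ⟨Pi.single (Sum.inr 0) 1, ?_⟩
    rw [hcoe]
    simp [Cfsg.quadFormMinus]
  have hΩ : ∀ x : GL ((Fin (d - 1) ⊕ Fin (d - 1)) ⊕ Fin 2) F,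
      x ∈ Cfsg.Geo.omegaGL (Cfsg.quadFormMinus (d - 1) F a b) ↔
      x ∈ Cfsg.isometryGroup F (Cfsg.quadFormMinus (d - 1) F a b) ∧
        Even ((x : Matrix ((Fin (d - 1) ⊕ Fin (d - 1)) ⊕ Fin 2) ((Fin (d - 1) ⊕ Fin (d - 1)) ⊕ Fin 2) F) - 1).rank := by
    intro x
    have := mem_omegaGL_iff (minusQF (d - 1) F a b) hnd hι x
    rwa [hcoe] at this
  have hfix : ∀ x : GL ((Fin (d - 1) ⊕ Fin (d - 1)) ⊕ Fin 2) F,
      x ∈ Cfsg.isometryGroup F (Cfsg.quadFormMinus (d - 1) F a b) →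
      ((∃ W : Submodule F ((Fin (d - 1) ⊕ Fin (d - 1)) ⊕ Fin 2 → F), (Module.finrank F ↥W = 1 ∧
          ∃ v ∈ W, Cfsg.quadFormMinus (d - 1) F a b v ≠ 0) ∧
          W.map (Matrix.toLin' (x : Matrix ((Fin (d - 1) ⊕ Fin (d - 1)) ⊕ Fin 2) ((Fin (d - 1) ⊕ Fin (d - 1)) ⊕ Fin 2) F)) ≤ W) ↔
        ∃ v, Cfsg.quadFormMinus (d - 1) F a b v ≠ 0 ∧
          (x : Matrix ((Fin (d - 1) ⊕ Fin (d - 1)) ⊕ Fin 2) ((Fin (d - 1) ⊕ Fin (d - 1)) ⊕ Fin 2) F) *ᵥ v = v) := by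
    intro x hx
    have := fix_point_iff (minusQF (d - 1) F a b) x (by rw [hcoe]; exact hx)
    rwa [hcoe] at this
  constructor
  · intro H
    by_contra hne
    have hdvd : r ∣ Fintype.card F ^ d + 1 :=
      dvd_of_dvd_points_minus d (by omega) a b hab r (Fact.out) hne hrΩ
    rcases exists_fpf_isometry d (by omega) a b hab r hne hdvd with ⟨x, hxiso, hxr, hfpf⟩ | ⟨x, hxiso, hxr, hfpf⟩
    · exact no_fpf_plus d (by omega) r hne hdvd x hxiso hxr hfpf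
    · have hxΩ : x ∈ Cfsg.Geo.omegaGL (Cfsg.quadFormMinus (d - 1) F a b) := by
        rw [hΩ]
        refine ⟨hxiso, ?_⟩
        rw [rank_of_fpf _ hfpf, hcard]
        exact even_two_mul d
      have hxr' : ∃ z : F, ((x ^ r : GL ((Fin (d - 1) ⊕ Fin (d - 1)) ⊕ Fin 2) F) :
          Matrix ((Fin (d - 1) ⊕ Fin (d - 1)) ⊕ Fin 2) ((Fin (d - 1) ⊕ Fin (d - 1)) ⊕ Fin 2) F) =
          z • (1 : Matrix ((Fin (d - 1) ⊕ Fin (d - 1)) ⊕ Fin 2) ((Fin (d - 1) ⊕ Fin (d - 1)) ⊕ Fin 2) F) := by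
        refine ⟨1, ?_⟩
        rw [hxr, one_smul]
        rfl
      have hxns : ∀ z : F, (x : Matrix ((Fin (d - 1) ⊕ Fin (d - 1)) ⊕ Fin 2) ((Fin (d - 1) ⊕ Fin (d - 1)) ⊕ Fin 2) F) ≠
          z • (1 : Matrix ((Fin (d - 1) ⊕ Fin (d - 1)) ⊕ Fin 2) ((Fin (d - 1) ⊕ Fin (d - 1)) ⊕ Fin 2) F) := by
        intro z hz
        have h1 := scalar_isometry_eq_one (minusQF (d - 1) F a b) hex x (by rw [hcoe]; exact hxiso) z hz
        obtain ⟨v, hv⟩ := hex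
        have h2 := hfpf v (by rw [h1, Matrix.one_mulVec])
        rw [h2, map_zero] at hv
        exact hv rfl
      obtain ⟨v, hQv, hxv⟩ := (hfix _ hxiso).mp (H _ hxΩ hxr' hxns)
      have h2 := hfpf v hxv
      apply hQv
      rw [h2, ← hcoe]
      exact map_zero (minusQF (d - 1) F a b)
  · rintro hr2 x hxΩ ⟨z, hz⟩ hns
    rw [hΩ] at hxΩ
    obtain ⟨hxiso, hev⟩ := hxΩ
    have hxiso' : x ∈ Cfsg.isometryGroup F (⇑(minusQF (d - 1) F a b)) := by rw [hcoe]; exact hxiso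
    have hx2 : (x : Matrix ((Fin (d - 1) ⊕ Fin (d - 1)) ⊕ Fin 2) ((Fin (d - 1) ⊕ Fin (d - 1)) ⊕ Fin 2) F) *
        (x : Matrix ((Fin (d - 1) ⊕ Fin (d - 1)) ⊕ Fin 2) ((Fin (d - 1) ⊕ Fin (d - 1)) ⊕ Fin 2) F) = 1 := by
      have hx2iso : x ^ r ∈ Cfsg.isometryGroup F (⇑(minusQF (d - 1) F a b)) := Subgroup.pow_mem _ hxiso' r
      have h1 := scalar_isometry_eq_one (minusQF (d - 1) F a b) hex (x ^ r) hx2iso z hz
      rwa [hr2, Units.val_pow_eq_pow_val, sq] at h1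
    rw [hfix x hxiso]
    by_contra hno
    push Not at hno
    have hts : ∀ v, (x : Matrix ((Fin (d - 1) ⊕ Fin (d - 1)) ⊕ Fin 2) ((Fin (d - 1) ⊕ Fin (d - 1)) ⊕ Fin 2) F) *ᵥ v = v →
        minusQF (d - 1) F a b v = 0 := by
      intro v hv
      by_contra h
      rw [hcoe] at h
      exact hno v h hv
    have hrank := involution_rank (minusQF (d - 1) F a b) hnd d hcard x hx2 hts
    set M : Matrix ((Fin (d - 1) ⊕ Fin (d - 1)) ⊕ Fin 2) ((Fin (d - 1) ⊕ Fin (d - 1)) ⊕ Fin 2) F :=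
      (x : Matrix ((Fin (d - 1) ⊕ Fin (d - 1)) ⊕ Fin 2) ((Fin (d - 1) ⊕ Fin (d - 1)) ⊕ Fin 2) F) - 1 with hM
    have hWts : ∀ w ∈ LinearMap.ker M.mulVecLin, Cfsg.quadFormMinus (d - 1) F a b w = 0 := by
      intro w hw
      rw [LinearMap.mem_ker, Matrix.mulVecLin_apply, hM, Matrix.sub_mulVec, Matrix.one_mulVec,
        sub_eq_zero] at hw
      have := hts w hw
      rwa [hcoe] at this
    have hdim := LinearMap.finrank_range_add_finrank_ker M.mulVecLin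
    rw [Module.finrank_fintype_fun_eq_card, hcard] at hdim
    have hrk : finrank F (LinearMap.range M.mulVecLin) = d := hrank
    have hb := ts_bound_minus (d - 1) a b hab (LinearMap.ker M.mulVecLin) hWts
    omega

end Cfsg.Agent.S5986
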