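import Mathlib
import Cfsg.Statements.S2420
import Cfsg.Agent.Lib.Helper40.BlockCount

set_option autoImplicit false
open scoped MatrixGroups
open Cfsg

namespace Cfsg.Agent.S2420

open Finset Cfsg.Agent.Lib.Helper40

section comb
variable {n : ℕ} (μ : Fin n → ℕ)

/-- prefix sums of the composition -/
def T (c : ℕ) : ℕ := ∑ k ∈ univ.filter (fun k : Fin n => k.val < c), μ k

lemma T_mono : Monotone (T μ) := by
  intro c c' h
  unfold T
  apply Finset.sum_le_sum_of_subset
  intro k hk
  simp only [mem_filter, mem_univ, true_and] at hk ⊢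
  omega

lemma T_zero : T μ 0 = 0 := by
  unfold T
  simp

lemma T_top (hμ : ∑ i, μ i = n) : T μ n = n := by
  unfold T
  rw [Finset.filter_true_of_mem (fun k _ => k.isLt)]
  exact hμ

lemma T_succ (a : Fin n) : T μ (a.val + 1) = T μ a.val + μ a := by
  unfold T
  have : univ.filter (fun k : Fin n => k.val < a.val + 1) =
      insert a (univ.filter (fun k : Fin n => k.val < a.val)) := by
    ext k
    simp only [mem_filter, mem_univ, true_and, mem_insert, Fin.ext_iff]
    omega
  rw [this, Finset.sum_insert (by simp), add_comm]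

lemma compLabel_eq (i : Fin n) :
    compLabel μ i = (univ.filter fun j : Fin n => T μ (j.val + 1) ≤ i.val).card := by
  unfold compLabel T
  congr 1
  apply Finset.filter_congr
  intro j _
  have : univ.filter (fun k : Fin n => k ≤ j) = univ.filter (fun k : Fin n => k.val < j.val + 1) := by
    ext k
    simp only [mem_filter, mem_univ, true_and, Fin.le_def]
    omega
  rw [this]

lemma lt_compLabel_iff (i j : Fin n) : j.val < compLabel μ i ↔ T μ (j.val + 1) ≤ i.val := by
  rw [compLabel_eq]
  apply Fin.lt_card_filter_univ_iff_apply_of_imp (p := fun j : Fin n => T μ (j.val + 1) ≤ i.val)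
  intro a b hba ha
  exact le_trans (T_mono μ (by simp only [Fin.le_def] at hba; omega)) ha

lemma le_compLabel_iff (i : Fin n) (c : ℕ) (hc : c ≤ n) : c ≤ compLabel μ i ↔ T μ c ≤ i.val := by
  rcases Nat.eq_zero_or_pos c with rfl | hpos
  · simp [T_zero]
  · have := lt_compLabel_iff μ i ⟨c - 1, by omega⟩
    simp only at this
    have h1 : c - 1 + 1 = c := by omega
    rw [h1] at this
    rw [← this]
    omega

lemma compLabel_le (i : Fin n) : compLabel μ i ≤ n := by
  unfold compLabel
  exact (Finset.card_filter_le _ _).trans (by simp)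

lemma compLabel_lt (hμ : ∑ i, μ i = n) (i : Fin n) : compLabel μ i < n := by
  by_contra h
  have := (le_compLabel_iff μ i n le_rfl).mp (not_lt.mp h)
  rw [T_top μ hμ] at this
  exact absurd i.isLt (not_lt.mpr this)

lemma compLabel_mono : Monotone (compLabel μ) := by
  intro i i' h
  rw [le_compLabel_iff μ i' _ (compLabel_le μ i)]
  exact le_trans ((le_compLabel_iff μ i _ (compLabel_le μ i)).mp le_rfl) (by exact h)

lemma compLabel_eq_iff (a i : Fin n) :
    compLabel μ i = a.val ↔ T μ a.val ≤ i.val ∧ i.val < T μ (a.val + 1) := by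
  rw [← le_compLabel_iff μ i a.val a.isLt.le, ← not_le, ← le_compLabel_iff μ i (a.val + 1) a.isLt]
  omega

lemma card_fiber (hμ : ∑ i, μ i = n) (a : Fin n) :
    Fintype.card {i : Fin n // compLabel μ i = a.val} = μ a := by
  rw [Fintype.card_subtype]
  have h1 : T μ (a.val + 1) ≤ n := by
    have h0 := T_mono μ (show a.val + 1 ≤ n from a.isLt)
    rwa [T_top μ hμ] at h0
  have h2 : (univ.filter fun i : Fin n => compLabel μ i = a.val) =
      univ.filter fun i : Fin n => T μ a.val ≤ i.val ∧ i.val < T μ (a.val + 1) := by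
    apply Finset.filter_congr
    intro i _
    exact compLabel_eq_iff μ a i
  rw [h2, ← Finset.card_map Fin.valEmbedding]
  have h3 : (univ.filter fun i : Fin n => T μ a.val ≤ i.val ∧ i.val < T μ (a.val + 1)).map
      Fin.valEmbedding = Finset.Ico (T μ a.val) (T μ (a.val + 1)) := by
    ext x
    simp only [mem_map, mem_filter, mem_univ, true_and, Fin.valEmbedding_apply, Finset.mem_Ico]
    constructor
    · rintro ⟨i, hi, rfl⟩
      exact hi
    · intro hx
      exact ⟨⟨x, by omega⟩, hx, rfl⟩
  rw [h3, Nat.card_Ico, T_succ]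
  omega

end comb

section main
variable {F : Type*} [Field F] [Fintype F] {n : ℕ} (μ : Fin n → ℕ) (hμ : ∑ i, μ i = n)

/-- the block labelling with values in `Fin n` -/
def lab (i : Fin n) : Fin n := ⟨compLabel μ i, compLabel_lt μ hμ i⟩

lemma lab_mono : Monotone (lab μ hμ) := fun _ _ h => compLabel_mono μ h

/-- the parabolic subgroup as a set of matrices -/
noncomputable def parabolicEquiv :
    parabolicGL n F μ ≃
      {M : Matrix (Fin n) (Fin n) F // M.BlockTriangular (lab μ hμ) ∧ IsUnit M.det} where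
  toFun g := ⟨(g.1 : Matrix (Fin n) (Fin n) F),
    ⟨fun _ _ h => g.2 h, (Matrix.isUnit_iff_isUnit_det _).mp g.1.isUnit⟩⟩
  invFun M := ⟨((Matrix.isUnit_iff_isUnit_det _).mpr M.2.2).unit, fun _ _ h => M.2.1 h⟩
  left_inv _ := Subtype.ext (Units.ext rfl)
  right_inv _ := Subtype.ext rfl

lemma card_lab_fiber (a : Fin n) : Fintype.card {i : Fin n // lab μ hμ i = a} = μ a := by
  rw [← card_fiber μ hμ a]
  exact Fintype.card_congr (Equiv.subtypeEquivRight (fun i => Fin.ext_iff))

include hμ in
lemma card_parabolic :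
    Nat.card (parabolicGL n F μ) =
      Fintype.card F ^ (∑ i ∈ range n, i) * (Fintype.card F - 1) ^ n *
        ∏ i : Fin n, ∏ j ∈ Finset.range (μ i), ∑ l ∈ Finset.range (j + 1), Fintype.card F ^ l := by
  classical
  have hq1 : 1 ≤ Fintype.card F := Fintype.card_pos
  rw [Nat.card_congr (parabolicEquiv μ hμ), card_blockTri_units]
  have h1 : ∀ a : Fin n,
      Nat.card {B : Matrix {i // lab μ hμ i = a} {i // lab μ hμ i = a} F // IsUnit B.det} =
        Fintype.card F ^ (∑ i ∈ range (μ a), i) * (Fintype.card F - 1) ^ (μ a) *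
          ∏ j ∈ Finset.range (μ a), ∑ l ∈ Finset.range (j + 1), Fintype.card F ^ l := by
    intro a
    rw [card_isUnit_det, card_lab_fiber μ hμ a, gl_eq _ hq1]
  rw [Finset.prod_congr rfl (fun a _ => h1 a), Finset.prod_mul_distrib, Finset.prod_mul_distrib,
    Finset.prod_pow_eq_pow_sum, Finset.prod_pow_eq_pow_sum, hμ]
  have h2 := lt_pairs_split (lab μ hμ) (lab_mono μ hμ)
  rw [card_lt_pairs, Fintype.card_fin] at h2
  have h3 : ∀ a : Fin n,
      Nat.card {p : {i // lab μ hμ i = a} × {i // lab μ hμ i = a} // p.1 < p.2} =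
        ∑ i ∈ range (μ a), i := by
    intro a
    rw [card_lt_pairs, card_lab_fiber μ hμ a]
  rw [Finset.sum_congr rfl (fun a _ => h3 a)] at h2
  rw [h2, pow_add]
  ring

end main

/-- The number of partial flags of a given type: for a composition `μ` of `n` (with `n` parts, zeros allowed) and a field with `q` elements, the index of the standard parabolic subgroup `P_μ` in `GL_n(q)` times `∏_i {μ_i}` equals `{n}`, where `{r}` denotes the product over `k = 1, …, r` of the q-integers `1 + q + ⋯ + q^(k−1)`. -/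
theorem result {F : Type*} [Field F] [Fintype F] {q : ℕ} (hq : Fintype.card F = q) {n : ℕ} (μ : Fin n → ℕ) (hμ : ∑ i, μ i = n) :
    Nat.card (GL (Fin n) F ⧸ Cfsg.parabolicGL n F μ) * ∏ i : Fin n, ∏ j ∈ Finset.range (μ i), ∑ l ∈ Finset.range (j + 1), q ^ l =
      ∏ j ∈ Finset.range n, ∑ l ∈ Finset.range (j + 1), q ^ l := by
  subst hq
  have hq1 : 1 ≤ Fintype.card F := Fintype.card_pos
  have hq2 : 1 < Fintype.card F := Fintype.one_lt_card
  have h1 := Subgroup.index_mul_card (Cfsg.parabolicGL n F μ)
  rw [Subgroup.index_eq_card, card_parabolic μ hμ, Matrix.card_GL_field, gl_eq _ hq1] at h1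
  have hpos : 0 < Fintype.card F ^ (∑ i ∈ range n, i) * (Fintype.card F - 1) ^ n := by
    apply Nat.mul_pos
    · exact pow_pos (by omega) _
    · exact pow_pos (by omega) _
  apply Nat.eq_of_mul_eq_mul_left hpos
  rw [← h1]
  ring

end Cfsg.Agent.S2420
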