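import Cfsg.Statements.S2424
import Mathlib
import Cfsg.Agent.S2420

set_option autoImplicit false
open scoped MatrixGroups
open Cfsg

namespace Cfsg.Agent.S2424

open Finset Polynomial

/-- the `q`-integer `1 + q + ⋯ + q^(r-1)` -/
def qn (q r : ℕ) : ℕ := ∑ l ∈ range r, q ^ l

/-- the `q`-factorial -/
def qf (q r : ℕ) : ℕ := ∏ j ∈ range r, qn q (j + 1)

lemma qn_add (q a b : ℕ) : qn q (a + b) = qn q a + q ^ a * qn q b := by
  unfold qn
  rw [Finset.sum_range_add, Finset.mul_sum]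
  simp only [pow_add]

lemma qn_succ_pos (q j : ℕ) : 0 < qn q (j + 1) := by
  unfold qn
  rw [Finset.sum_range_succ']
  simp

lemma qf_succ (q r : ℕ) : qf q (r + 1) = qf q r * qn q (r + 1) := by
  unfold qf
  rw [Finset.prod_range_succ]

lemma qf_pos (q r : ℕ) : 0 < qf q r := by
  unfold qf
  exact Finset.prod_pos fun j _ => qn_succ_pos q j

/-- the matrix entry `1 / {lam - j}` (zero when `j > lam`) -/
noncomputable def ent (q lam j : ℕ) : ℂ := if j ≤ lam then ((qf q (lam - j) : ℕ) : ℂ)⁻¹ else 0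

lemma key (q lam j : ℕ) :
    ∏ s ∈ range j, (((qn q lam : ℕ) : ℂ) - ((qn q s : ℕ) : ℂ)) =
      (q : ℂ) ^ (∑ s ∈ range j, s) * ((qf q lam : ℕ) : ℂ) * ent q lam j := by
  induction j with
  | zero =>
    have h : ((qf q lam : ℕ) : ℂ) ≠ 0 := Nat.cast_ne_zero.mpr (qf_pos q lam).ne'
    simp [ent, h]
  | succ j ih =>
    rw [Finset.prod_range_succ, ih, Finset.sum_range_succ]
    by_cases h1 : j + 1 ≤ lam
    · have h2 : j ≤ lam := by omega
      obtain ⟨d, hd⟩ : ∃ d, lam = j + (d + 1) := ⟨lam - j - 1, by omega⟩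
      have e1 : lam - j = d + 1 := by omega
      have e2 : lam - (j + 1) = d := by omega
      have hq : ((qn q (d + 1) : ℕ) : ℂ) ≠ 0 := Nat.cast_ne_zero.mpr (qn_succ_pos q d).ne'
      have hf : ((qf q d : ℕ) : ℂ) ≠ 0 := Nat.cast_ne_zero.mpr (qf_pos q d).ne'
      have e3 : ((qn q lam : ℕ) : ℂ) - ((qn q j : ℕ) : ℂ) = (q : ℂ) ^ j * ((qn q (d + 1) : ℕ) : ℂ) := by
        rw [hd, qn_add]; push_cast; ring
      rw [e3]
      simp only [ent, if_pos h1, if_pos h2, e1, e2, qf_succ]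
      push_cast
      field_simp
      ring
    · by_cases h2 : j ≤ lam
      · have e : j = lam := by omega
        subst e
        simp [ent, h1]
      · simp [ent, h1, h2]

lemma sum_sum_range (n : ℕ) : ∑ j ∈ range n, ∑ s ∈ range j, s = n * (n - 1) * (n - 2) / 6 := by
  have h : ∀ n, (∑ j ∈ range n, ∑ s ∈ range j, s) * 6 = n * (n - 1) * (n - 2) := by
    intro n
    induction n with
    | zero => simp
    | succ n ih =>
      rw [Finset.sum_range_succ, add_mul, ih]
      have h2 := Finset.sum_range_id_mul_two n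
      rcases n with _ | _ | m
      · simp
      · simp
      · simp only [Nat.add_sub_cancel] at h2 ⊢
        have : (∑ i ∈ range (m + 1 + 1), i) * 6 = 3 * ((∑ i ∈ range (m + 1 + 1), i) * 2) := by ring
        rw [this, h2]
        have e1 : m + 1 + 1 - 2 = m := by omega
        have e2 : m + 1 + 1 + 1 - 2 = m + 1 := by omega
        rw [e1, e2]
        ring
  exact (Nat.div_eq_of_eq_mul_left (by norm_num) (h n).symm).symm


lemma fixedPointCharacter_one {G : Type*} [Group G] (H : Subgroup G) :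
    Cfsg.fixedPointCharacter H 1 = (Nat.card (G ⧸ H) : ℂ) := by
  unfold Cfsg.fixedPointCharacter
  rw [MulAction.fixedBy_one_eq_univ, Nat.card_congr (Equiv.Set.univ _)]

lemma sum_perm_val {n : ℕ} (κ : Equiv.Perm (Fin n)) : ∑ i : Fin n, (κ i).val = ∑ i : Fin n, i.val :=
  Equiv.sum_comp κ (fun i => i.val)

/-- the index of the parabolic subgroup of type `lam - κ` -/
lemma card_quot {F : Type*} [Field F] [Fintype F] {q : ℕ} (hq : Fintype.card F = q) {n : ℕ}
    (ν : Fin n → ℕ) (hsum : ∑ i, ν i = n) (κ : Equiv.Perm (Fin n))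
    (hκ : ∀ i : Fin n, (κ i).val ≤ ν i + i.val) :
    (Nat.card (GL (Fin n) F ⧸ Cfsg.parabolicGL n F fun i => ν i + i.val - (κ i).val) : ℂ) =
      ((qf q n : ℕ) : ℂ) * ∏ i : Fin n, ent q (ν i + i.val) (κ i).val := by
  have hμ : ∑ i : Fin n, (ν i + i.val - (κ i).val) = n := by
    have h1 : ∑ i : Fin n, (ν i + i.val - (κ i).val) + ∑ i : Fin n, (κ i).val =
        ∑ i : Fin n, (ν i + i.val) := by
      rw [← Finset.sum_add_distrib]
      exact Finset.sum_congr rfl fun i _ => Nat.sub_add_cancel (hκ i)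
    rw [sum_perm_val, Finset.sum_add_distrib, hsum] at h1
    omega
  have h := Cfsg.Agent.S2420.result hq (fun i => ν i + i.val - (κ i).val) hμ
  have h' : (Nat.card (GL (Fin n) F ⧸ Cfsg.parabolicGL n F fun i => ν i + i.val - (κ i).val) : ℂ) *
      ∏ i : Fin n, ((qf q (ν i + i.val - (κ i).val) : ℕ) : ℂ) = ((qf q n : ℕ) : ℂ) := by
    have := congrArg (Nat.cast : ℕ → ℂ) h
    push_cast at this
    simp only [qf, qn]
    push_cast
    exact this
  have hne : ∏ i : Fin n, ((qf q (ν i + i.val - (κ i).val) : ℕ) : ℂ) ≠ 0 :=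
    Finset.prod_ne_zero_iff.mpr fun i _ => Nat.cast_ne_zero.mpr (qf_pos q _).ne'
  have e : ∏ i : Fin n, ent q (ν i + i.val) (κ i).val =
      (∏ i : Fin n, ((qf q (ν i + i.val - (κ i).val) : ℕ) : ℂ))⁻¹ := by
    rw [← Finset.prod_inv_distrib]
    exact Finset.prod_congr rfl fun i _ => by rw [ent, if_pos (hκ i)]
  rw [e, ← h']
  field_simp



/-- Degrees of the partition-indexed irreducible characters of `GL_n(q)`: for `ν` a partition of `n` with `n` non-decreasing parts `ν_0 ≤ ⋯ ≤ ν_{n−1}` (zeros allowed; positions counted from 0) and `λ_i = ν_i + i`, write `Q(r)` for the q-integer `1 + q + ⋯ + q^(r−1)` and `Q!(r)` for `Q(1)Q(2)⋯Q(r)`; then the degree `γ(ν)` of the character satisfies `γ(ν) · q^(n(n−1)(n−2)/6) · ∏_i Q!(λ_i) = Q!(n) · ∏_{i<j} (Q(λ_j) − Q(λ_i))`. For `ν = (1,…,1)` this gives the Steinberg degree `q^(n(n−1)/2)`, for `ν = (0,…,0,n)` degree 1. -/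
theorem result {F : Type*} [Field F] [Fintype F] {q : ℕ} (hq : Fintype.card F = q) {n : ℕ} (ν : Fin n → ℕ) (hmono : Monotone ν) (hsum : ∑ i, ν i = n) :
    Cfsg.unipotentCharacterGL n F ν 1 * (q : ℂ) ^ (n * (n - 1) * (n - 2) / 6) *
        ∏ i : Fin n, ∏ j ∈ Finset.range (ν i + i.val), ((∑ l ∈ Finset.range (j + 1), q ^ l : ℕ) : ℂ) =
      (∏ j ∈ Finset.range n, ((∑ l ∈ Finset.range (j + 1), q ^ l : ℕ) : ℂ)) *
        ∏ i : Fin n, ∏ j ∈ Finset.univ.filter (fun j : Fin n => i < j),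
          (((∑ l ∈ Finset.range (ν j + j.val), q ^ l : ℕ) : ℂ) - ((∑ l ∈ Finset.range (ν i + i.val), q ^ l : ℕ) : ℂ)) := by
  classical
  let A : Matrix (Fin n) (Fin n) ℂ := Matrix.of fun i j => ent q (ν i + i.val) j.val
  have h1 : Cfsg.unipotentCharacterGL n F ν 1 = ((qf q n : ℕ) : ℂ) * A.det := by
    rw [← Matrix.det_transpose, Matrix.det_apply', Finset.mul_sum]
    unfold Cfsg.unipotentCharacterGL
    refine Finset.sum_congr rfl fun κ _ => ?_
    split_ifs with hκ
    · rw [fixedPointCharacter_one, card_quot hq ν hsum κ hκ]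
      simp only [Matrix.transpose_apply, A, Matrix.of_apply]
      ring
    · push Not at hκ
      obtain ⟨i, hi⟩ := hκ
      have h0 : ∏ i : Fin n, A.transpose (κ i) i = 0 := by
        apply Finset.prod_eq_zero (Finset.mem_univ i)
        simp only [Matrix.transpose_apply, A, Matrix.of_apply, ent]
        rw [if_neg (by omega)]
      rw [h0]; ring
  let x : Fin n → ℂ := fun i => ((qn q (ν i + i.val) : ℕ) : ℂ)
  let p : Fin n → ℂ[X] := fun j => ∏ s ∈ range j.val, (X - C ((qn q s : ℕ) : ℂ))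
  have hmonic : ∀ j, (p j).Monic := fun j =>
    Polynomial.monic_prod_of_monic _ _ fun s _ => Polynomial.monic_X_sub_C _
  have hdeg : ∀ j : Fin n, (p j).natDegree = j := by
    intro j
    simp only [p]
    rw [Polynomial.natDegree_prod_of_monic _ _ fun s _ => Polynomial.monic_X_sub_C _,
      Finset.sum_congr rfl (fun s _ => Polynomial.natDegree_X_sub_C _)]
    simp
  have h2 := Matrix.det_eval_matrixOfPolynomials_eq_det_vandermonde x p hdeg hmonic
  rw [Matrix.det_vandermonde] at h2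
  have h3 : (Matrix.of fun i j => (p j).eval (x i)) = Matrix.of fun i j =>
      ((q : ℂ) ^ (∑ s ∈ range j.val, s)) * (((qf q (ν i + i.val) : ℕ) : ℂ) * A i j) := by
    ext i j
    simp only [Matrix.of_apply, p, x, Polynomial.eval_prod, eval_sub, eval_X, eval_C, A]
    rw [key]; ring
  have h4 : (Matrix.of fun i j => (p j).eval (x i)).det =
      (∏ j : Fin n, (q : ℂ) ^ (∑ s ∈ range j.val, s)) *
        ((∏ i : Fin n, ((qf q (ν i + i.val) : ℕ) : ℂ)) * A.det) := by
    rw [h3]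
    have e1 := Matrix.det_mul_row (fun j : Fin n => (q : ℂ) ^ (∑ s ∈ range j.val, s))
      (Matrix.of fun i j => ((qf q (ν i + i.val) : ℕ) : ℂ) * A i j)
    have e2 := Matrix.det_mul_column (fun i : Fin n => ((qf q (ν i + i.val) : ℕ) : ℂ)) A
    rw [e2] at e1
    exact e1
  have h5 : ∏ j : Fin n, (q : ℂ) ^ (∑ s ∈ range j.val, s) = (q : ℂ) ^ (n * (n - 1) * (n - 2) / 6) := by
    rw [Finset.prod_pow_eq_pow_sum, Fin.sum_univ_eq_sum_range (fun j => ∑ s ∈ range j, s) n,
      sum_sum_range]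
  have hqf : ∀ r, ∏ j ∈ range r, ((∑ l ∈ range (j + 1), q ^ l : ℕ) : ℂ) = ((qf q r : ℕ) : ℂ) := by
    intro r
    simp only [qf, qn]
    push_cast
    rfl
  simp only [hqf, Finset.filter_lt_eq_Ioi]
  rw [h1]
  have h6 : ∏ i : Fin n, ∏ j ∈ Ioi i, (((∑ l ∈ range (ν j + j.val), q ^ l : ℕ) : ℂ) -
      ((∑ l ∈ range (ν i + i.val), q ^ l : ℕ) : ℂ)) = ∏ i : Fin n, ∏ j ∈ Ioi i, (x j - x i) := rfl
  rw [h6, h2, h4, h5]
  ring

end Cfsg.Agent.S2424
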