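import Cfsg.Statements.S2326
import Cfsg.Agent.S1027
import Cfsg.Agent.S1042
import Cfsg.Agent.S1034
import Cfsg.Agent.Lib.Helper18.Bruhat1
import Cfsg.Agent.Lib.Helper6.BNParabolic

set_option autoImplicit false
open Cfsg

namespace Cfsg.Agent.S2326

open Cfsg.Lie Cfsg.Agent.Lib.Helper18 Cfsg.Agent.Lib.Helper6

/-- A `p`-subgroup `U` such that every element of its normaliser has its `m`-th power in `U`, with `p ∤ m`,
is a Sylow `p`-subgroup. -/
theorem exists_sylow_of_normalizer_pow {G : Type*} [Group G] [Finite G] (p : ℕ) [Fact p.Prime]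
    (U : Subgroup G) (k m : ℕ) (hU : Nat.card U = p ^ k) (hm : ¬ p ∣ m)
    (hpow : ∀ g ∈ Subgroup.normalizer (U : Set G), g ^ m ∈ U) :
    ∃ P : Sylow p G, (P : Subgroup G) = U := by
  have hmod : Nat.card (Subgroup.normalizer (U : Set G) ⧸ U.subgroupOf (Subgroup.normalizer (U : Set G))) ≡
      Nat.card (G ⧸ U) [MOD p] := Sylow.card_quotient_normalizer_modEq_card_quotient (p := p) hU
  have h1 : ¬ p ∣ Nat.card (Subgroup.normalizer (U : Set G) ⧸
      U.subgroupOf (Subgroup.normalizer (U : Set G))) := by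
    intro hdvd
    obtain ⟨x, hx⟩ := exists_prime_orderOf_dvd_card' (G := Subgroup.normalizer (U : Set G) ⧸
      U.subgroupOf (Subgroup.normalizer (U : Set G))) p hdvd
    obtain ⟨g, rfl⟩ := QuotientGroup.mk_surjective x
    have h2 : ((g : Subgroup.normalizer (U : Set G) ⧸
        U.subgroupOf (Subgroup.normalizer (U : Set G)))) ^ m = 1 := by
      rw [← QuotientGroup.mk_pow, QuotientGroup.eq_one_iff, Subgroup.mem_subgroupOf]
      simpa using hpow g.1 g.2
    have h3 := orderOf_dvd_of_pow_eq_one h2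
    rw [hx] at h3
    exact hm h3
  have h4 : ¬ p ∣ U.index := by
    intro hdvd
    apply h1
    rw [Subgroup.index_eq_card] at hdvd
    exact (Nat.modEq_zero_iff_dvd.mp (hmod.trans (Nat.modEq_zero_iff_dvd.mpr hdvd)))
  exact ⟨(IsPGroup.of_card hU).toSylow h4, rfl⟩

universe u

variable {F : Type u} [Field F]

/-- Elements of `H` have order dividing `q - 1`. -/
theorem diagonal_pow_eq_one [Fintype F] (D : ChevalleyDatum)
    (hD : D ∈ [chevG2, chevB2, chevD4, chevF4, chevE6, chevE7, chevE8]) (h : GL D.Idx F)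
    (hh : h ∈ D.diagonalSubgroup F) : h ^ (Fintype.card F - 1) = 1 := by
  obtain ⟨c, hc, hhc⟩ := Cfsg.Agent.S1034.mem_diagonalSubgroup_torus D hD h hh
  apply Units.ext
  rw [Units.val_pow_eq_pow_val, hhc, Matrix.diagonal_pow, Units.val_one, ← Matrix.diagonal_one]
  congr 1
  funext j
  rw [Pi.pow_apply]
  exact FiniteField.pow_card_sub_one_eq_one _ (torusFun_ne_zero D c hc j)

/-- `B` normalises `U`. -/
theorem borel_le_normalizer (D : ChevalleyDatum)
    (hD : D ∈ [chevG2, chevB2, chevD4, chevF4, chevE6, chevE7, chevE8]) :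
    D.borelSubgroup F ≤ Subgroup.normalizer (D.posUnipotent F : Set (GL D.Idx F)) :=
  sup_le Subgroup.le_normalizer (Cfsg.Agent.S1036.result D hD).1

/-- The normaliser of `U` in the Chevalley group is `B`. -/
theorem normalizer_le_borel (D : ChevalleyDatum)
    (hD : D ∈ [chevG2, chevB2, chevD4, chevF4, chevE6, chevE7, chevE8]) (C : ChevData.{u} D)
    (g : ↥(D.group F))
    (hg : g ∈ Subgroup.normalizer (((D.posUnipotent F).subgroupOf (D.group F) : Subgroup ↥(D.group F)) :
      Set ↥(D.group F))) :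
    (g : GL D.Idx F) ∈ D.borelSubgroup F := by
  obtain ⟨hBG, hNG, -⟩ := Cfsg.Agent.S1043.result (F := F) D hD
  obtain ⟨P, hPB, hPN, hPS⟩ := Cfsg.Agent.S1042.exists_bnPair (F := F) D hD C
  set M : Subgroup ↥(D.group F) := Subgroup.normalizer
    (((D.posUnipotent F).subgroupOf (D.group F) : Subgroup ↥(D.group F)) : Set ↥(D.group F)) with hMdef
  have hBM : P.B ≤ M := by
    intro b hb
    rw [hPB, Subgroup.mem_subgroupOf] at hb
    have hb' := borel_le_normalizer D hD hb
    rw [Subgroup.mem_normalizer_iff] at hb' ⊢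
    intro x
    rw [Subgroup.mem_subgroupOf, Subgroup.mem_subgroupOf]
    have := hb' (x : GL D.Idx F)
    simpa using this
  have hM := eq_parabolic_of_B_le P hBM
  have hempty : {s | s ∈ P.S ∧ s ∈ M} = (∅ : Set ↥(D.group F)) := by
    apply Set.eq_empty_of_forall_notMem
    rintro s ⟨hsS, hsM⟩
    rw [hPS] at hsS
    obtain ⟨i, hi, hs⟩ := hsS
    have hsi : (s : GL D.Idx F) = sG hD C i := Units.ext (by rw [hs, coe_sG hD C i hi])
    have hp := C.simple_lt i hi
    have hpge := C.half_le_simple i hi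
    have hn := C.nroots_eq
    have hev := C.heven
    have hxU : xG hD (D.simple i) (1 : F) ∈ D.posUnipotent F :=
      xG_mem_posUnipotent hD _ _ ((isPosRoot_iff hD _).mpr ⟨hp, hpge⟩)
    have hxG : xG hD (D.simple i) (1 : F) ∈ D.group F := hBG (borel_of_posUnipotent _ hxU)
    rw [Subgroup.mem_normalizer_iff] at hsM
    have h1 := (hsM ⟨xG hD (D.simple i) (1 : F), hxG⟩).mp (Subgroup.mem_subgroupOf.mpr hxU)
    rw [Subgroup.mem_subgroupOf] at h1
    push_cast at h1
    rw [hsi, sG_conj_xG_simple hD C i hi] at h1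
    refine xG_neg_not_mem_borel hD _ ?_ ?_ _ ?_ (borel_of_posUnipotent _ h1)
    · unfold FastDatum.neg; omega
    · unfold FastDatum.neg; omega
    · exact mul_ne_zero (C.eta_ne_zero i _) one_ne_zero
  have hgB : g ∈ P.B := by
    have : g ∈ M := hg
    rw [hM, hempty] at this
    unfold Cfsg.BNPair.parabolic at this
    rwa [Subgroup.closure_empty, sup_bot_eq] at this
  rw [hPB, Subgroup.mem_subgroupOf] at hgB
  exact hgB

theorem main [Fintype F] (p : ℕ) [Fact p.Prime] [CharP F p] (D : ChevalleyDatum)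
    (hD : D ∈ [chevG2, chevB2, chevD4, chevF4, chevE6, chevE7, chevE8]) :
    ∃ P : Sylow p ↥(D.group F),
      (P : Subgroup ↥(D.group F)) = (D.posUnipotent F).subgroupOf (D.group F) := by
  classical
  obtain ⟨C⟩ := nonempty_chevData.{u} D hD
  obtain ⟨hBG, hNG, -⟩ := Cfsg.Agent.S1043.result (F := F) D hD
  have hUG : D.posUnipotent F ≤ D.group F := fun g hg => hBG (borel_of_posUnipotent _ hg)
  obtain ⟨n, hpp, hq⟩ := FiniteField.card F p
  have hcardU : Nat.card ((D.posUnipotent F).subgroupOf (D.group F)) = p ^ ((n : ℕ) * (D.nroots / 2)) := by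
    rw [Nat.card_congr (Subgroup.subgroupOfEquivOfLe hUG).toEquiv, Cfsg.Agent.S1027.card_posUnipotent D hD,
      hq, pow_mul]
  have hm : ¬ p ∣ (Fintype.card F - 1) := by
    intro hdvd
    have h1 : p ∣ Fintype.card F := by
      rw [hq]
      exact dvd_pow_self p n.pos.ne'
    have h2 : 1 ≤ Fintype.card F := Fintype.card_pos
    have h3 : p ∣ 1 := by
      have := Nat.dvd_sub h1 hdvd
      rwa [Nat.sub_sub_self h2] at this
    exact hpp.one_lt.ne' (Nat.dvd_one.mp h3)
  apply exists_sylow_of_normalizer_pow p _ _ _ hcardU hm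
  intro g hg
  have hgB := normalizer_le_borel D hD C g hg
  obtain ⟨u, hu, h, hh, huh⟩ := (mem_borel_iff D hD _).mp hgB
  -- work in the quotient `B / U` inside `GL`
  rw [Subgroup.mem_subgroupOf]
  push_cast
  rw [← huh]
  have hnorm := borel_le_normalizer (F := F) D hD
  -- `(u h)^m ∈ U h^m`
  have key : ∀ m : ℕ, ∃ u' ∈ D.posUnipotent F, (u * h) ^ m = u' * h ^ m := by
    intro m
    induction m with
    | zero => exact ⟨1, one_mem _, by simp⟩
    | succ m ih =>
      obtain ⟨u', hu', e⟩ := ih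
      refine ⟨u' * (h ^ m * u * (h ^ m)⁻¹), mul_mem hu' ?_, ?_⟩
      · have hhm : h ^ m ∈ Subgroup.normalizer (D.posUnipotent F : Set (GL D.Idx F)) :=
          hnorm (borel_of_diagonal _ (pow_mem hh m))
        exact (Subgroup.mem_normalizer_iff.mp hhm u).mp hu
      · rw [pow_succ, e, pow_succ]
        group
  obtain ⟨u', hu', e⟩ := key (Fintype.card F - 1)
  rw [e, diagonal_pow_eq_one D hD h hh, mul_one]
  exact hu'

/-- In a Chevalley group of type G₂, B₂, D₄, F₄, E₆, E₇ or E₈ over a finite field of characteristic p, the subgroup U generated by the positive root elements is a Sylow p-subgroup. -/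
theorem result {F : Type*} [Field F] [Fintype F] (p : ℕ) [Fact p.Prime] [CharP F p] (D : Cfsg.Lie.ChevalleyDatum) (hD : D ∈ [Cfsg.Lie.chevG2, Cfsg.Lie.chevB2, Cfsg.Lie.chevD4, Cfsg.Lie.chevF4, Cfsg.Lie.chevE6, Cfsg.Lie.chevE7, Cfsg.Lie.chevE8]) :
    ∃ P : Sylow p ↥(D.group F), (P : Subgroup ↥(D.group F)) = (D.posUnipotent F).subgroupOf (D.group F) :=
  main p D hD

end Cfsg.Agent.S2326
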