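import Cfsg.Statements.S2328
import Mathlib
-- import your own Cfsg.Agent.* helpers here
import Cfsg.Agent.Lib.Helper5.ChevSt
import Cfsg.Agent.S2326
import Cfsg.Agent.S0165

set_option autoImplicit false
open Cfsg

namespace Cfsg.Agent.S2328


/-- In a Chevalley group of type G₂, B₂, D₄, F₄, E₆, E₇ or E₈ over a finite field of characteristic p, the Steinberg character vanishes at every element whose order is divisible by p (every element that is not semisimple). -/
theorem result {F : Type*} [Field F] [Fintype F] (p : ℕ) [Fact p.Prime] [CharP F p] (D : Cfsg.Lie.ChevalleyDatum) (hD : D ∈ [Cfsg.Lie.chevG2, Cfsg.Lie.chevB2, Cfsg.Lie.chevD4, Cfsg.Lie.chevF4, Cfsg.Lie.chevE6, Cfsg.Lie.chevE7, Cfsg.Lie.chevE8]) (g : ↥(D.group F)) (hg : p ∣ orderOf g) :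
    D.steinbergCharacter F g = 0 := by
  classical
  have hp : p.Prime := Fact.out
  obtain ⟨n, ρ, hirr, hχ⟩ := Cfsg.Agent.Lib.Helper5.ChevSt.steinberg_irr (F := F) D hD
  obtain ⟨f, hpp, hq⟩ := FiniteField.card F p
  obtain ⟨Q, hQ⟩ := Cfsg.Agent.S2326.result (F := F) p D hD
  obtain ⟨hBG, hNG, -⟩ := Cfsg.Agent.S1043.result (F := F) D hD
  have hUG : D.posUnipotent F ≤ D.group F := fun g hg => hBG (Subgroup.mem_sup_left hg)
  have hdeg : n = p ^ ((f : ℕ) * (D.nroots / 2)) := by
    have h1 : ρ.character 1 = (n : ℂ) := by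
      rw [Representation.char_one]
      simp
    rw [hχ, Cfsg.Agent.Lib.Helper5.ChevSt.steinberg_degree D hD, hq] at h1
    rw [pow_mul]
    exact_mod_cast h1.symm
  have hcardU : Nat.card ((D.posUnipotent F).subgroupOf (D.group F)) =
      p ^ ((f : ℕ) * (D.nroots / 2)) := by
    rw [Nat.card_congr (Subgroup.subgroupOfEquivOfLe hUG).toEquiv,
      Cfsg.Agent.S1027.card_posUnipotent D hD, hq, pow_mul]
  have hQcard : Nat.card Q = p ^ ((f : ℕ) * (D.nroots / 2)) := by
    rw [← hcardU, ← hQ]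
  have hfact := Q.card_eq_multiplicity
  have hexp : (Nat.card ↥(D.group F)).factorization p = (f : ℕ) * (D.nroots / 2) :=
    Nat.pow_right_injective hp.two_le (hfact.symm.trans hQcard)
  rw [← hχ]
  haveI := hirr
  apply Cfsg.Agent.S0165.result ρ p ((f : ℕ) * (D.nroots / 2)) hp
  · rw [← hexp]
    exact Nat.ordProj_dvd _ _
  · rw [← hexp]
    exact Nat.pow_succ_factorization_not_dvd Nat.card_pos.ne' hp
  · rw [Module.finrank_fin_fun, hdeg]
  · exact hg

end Cfsg.Agent.S2328
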