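import Cfsg.Statements.S0282
import Mathlib
-- import your own Cfsg.Agent.* helpers here
import Cfsg.Agent.Lib.Helper5.UnitaryCenter
import Cfsg.Agent.S0144

set_option autoImplicit false
open Cfsg

namespace Cfsg.Agent.S0282


/-- PSU_3(2) is a solvable group of order 72. -/
theorem result {F : Type*} [Field F] [Fintype F] (hF : Fintype.card F = 4) : Nat.card (Cfsg.PSU 3 F 2) = 72 ∧ Group.IsSolvable (Cfsg.PSU 3 F 2) := by
  have hF' : Fintype.card F = 2 ^ 2 := by rw [hF]; norm_num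
  have h1 := Subgroup.card_eq_card_quotient_mul_card_subgroup (Subgroup.center (Cfsg.SU 3 F 2))
  rw [Cfsg.Agent.Lib.Helper5.card_center_SU hF' (by omega : 1 ≤ 3)] at h1
  have h2 := Cfsg.Agent.Lib.Helper5.card_SU_mul hF' (by omega : 1 ≤ 3)
  rw [h1, Cfsg.Agent.Lib.Helper5.card_GU hF' 3] at h2
  have hcard : Nat.card (Cfsg.PSU 3 F 2) = 72 := by
    change (2 + 1) * (Nat.card (Cfsg.PSU 3 F 2) * Nat.gcd 3 (2 + 1)) = _ at h2
    simp [Finset.prod_range_succ] at h2
    omega
  haveI : Finite (Cfsg.PSU 3 F 2) := Nat.finite_of_card_ne_zero (by rw [hcard]; norm_num)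
  exact ⟨hcard, Cfsg.Agent.S0144.result 2 3 3 2 Nat.prime_two Nat.prime_three (by rw [hcard]; norm_num)⟩

end Cfsg.Agent.S0282
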