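import Cfsg.Statements.S1597
import Cfsg.Agent.Lib.Helper45.Quartets
import Cfsg.Agent.Lib.Helper7.HexadCount

-- import your own Cfsg.Agent.* helpers here

set_option autoImplicit false
open scoped Pointwise
open Cfsg

namespace Cfsg.Agent.S1597


open Cfsg.Agent.Lib.Helper7 Cfsg.Agent.Lib.Helper45.Quartets
open scoped Classical in
/-- The hexads on a dodecad number 132. -/
theorem ncard_hexadsOn {d : Finset GolayPt} (hd : d ∈ dodecads) : (hexadsOn d).ncard = 132 := by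
  have himg : hexadsOn d = (fun o => o ∩ d) '' octadsMeeting d 6 := by
    ext h
    simp only [hexadsOn, octadsMeeting, Set.mem_ofPred_eq, Set.mem_image]
    constructor
    · rintro ⟨h6, o, ho, rfl⟩
      exact ⟨o, ⟨ho, h6⟩, rfl⟩
    · rintro ⟨o, ⟨ho, h6⟩, rfl⟩
      exact ⟨h6, o, ho, rfl⟩
  have hinj : Set.InjOn (fun o => o ∩ d) (octadsMeeting d 6) := by
    rintro o ⟨ho, h6⟩ o' ⟨ho', _⟩ heq
    simp only at heq
    apply octad_eq_of_five ho ho'
    have hsub : o ∩ d ⊆ o ∩ o' := by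
      intro x hx
      have hx' : x ∈ o' ∩ d := heq ▸ hx
      rw [Finset.mem_inter] at hx hx' ⊢
      exact ⟨hx.1, hx'.1⟩
    have := Finset.card_le_card hsub
    omega
  rw [himg, hinj.ncard_image, ncard_octadsMeeting_six hd]

/-- Two distinct triples of a quartet form a split hexad. -/
theorem pair_of_quartet {d : Finset GolayPt} {Q : Finset (Finset GolayPt)} (hQ : Q ∈ quartets d)
    {t u : Finset GolayPt} (ht : t ∈ Q) (hu : u ∈ Q) (hne : t ≠ u) :
    t.card = 3 ∧ u.card = 3 ∧ Disjoint t u ∧ t ∪ u ∈ hexadsOn d := by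
  obtain ⟨_, h3, hp⟩ := hQ
  have hh := hp t ht u hu hne
  refine ⟨(h3 t ht).1, (h3 u hu).1, ?_, hh⟩
  rw [← Finset.card_union_eq_card_add_card, hh.1, (h3 t ht).1, (h3 u hu).1]

theorem ne_of_pair {t u : Finset GolayPt} (ht : t.card = 3) (htu : Disjoint t u) : t ≠ u := by
  rintro rfl
  rw [disjoint_self, Finset.bot_eq_empty] at htu
  rw [htu] at ht
  simp at ht

open scoped Classical in
theorem ncard_quartets {d : Finset GolayPt} (hd : d ∈ dodecads) : (quartets d).ncard = 220 := by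
  obtain ⟨Hf, hHf⟩ : ∃ Hf : Finset (Finset GolayPt), Hf = Finset.univ.filter (· ∈ hexadsOn d) :=
    ⟨_, rfl⟩
  obtain ⟨Qf, hQf⟩ : ∃ Qf : Finset (Finset (Finset GolayPt)),
    Qf = Finset.univ.filter (· ∈ quartets d) := ⟨_, rfl⟩
  obtain ⟨P, hP⟩ : ∃ P : Finset (Finset GolayPt × Finset GolayPt), P = Finset.univ.filter
    (fun p => p.1.card = 3 ∧ p.2.card = 3 ∧ Disjoint p.1 p.2 ∧ p.1 ∪ p.2 ∈ hexadsOn d) := ⟨_, rfl⟩
  have hHcard : Hf.card = 132 := by
    rw [← ncard_hexadsOn hd, ← Set.ncard_coe_finset]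
    congr 1
    ext h; simp [hHf]
  have hQcard : (quartets d).ncard = Qf.card := by
    rw [← Set.ncard_coe_finset]
    congr 1
    ext h; simp [hQf]
  have memP : ∀ p, p ∈ P ↔ p.1.card = 3 ∧ p.2.card = 3 ∧ Disjoint p.1 p.2 ∧
      p.1 ∪ p.2 ∈ hexadsOn d := fun p => by simp [hP]
  -- count P
  have hPcard : P.card = 2640 := by
    have h1 : (Hf.sigma (fun h => Finset.powersetCard 3 h)).card = P.card := by
      apply Finset.card_bij (fun a _ => (a.2, a.1 \ a.2))
      · rintro ⟨h, t⟩ ha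
        simp only [Finset.mem_sigma, Finset.mem_powersetCard] at ha
        have hh : h ∈ Hf := ha.1
        have hth : t ⊆ h := ha.2.1
        have ht3 : t.card = 3 := ha.2.2
        have hh' : h ∈ hexadsOn d := by simpa [hHf] using hh
        rw [memP]
        refine ⟨ht3, ?_, Finset.disjoint_sdiff, ?_⟩
        · show (h \ t).card = 3
          rw [Finset.card_sdiff_of_subset hth, hh'.1, ht3]
        · show t ∪ h \ t ∈ hexadsOn d
          rw [Finset.union_sdiff_of_subset hth]; exact hh'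
      · rintro ⟨h, t⟩ ha ⟨h', t'⟩ ha' heq
        simp only [Finset.mem_sigma, Finset.mem_powersetCard] at ha ha'
        simp only [Prod.mk.injEq] at heq
        obtain ⟨rfl, h2⟩ := heq
        have e1 : t ⊆ h := ha.2.1
        have e2 : t ⊆ h' := ha'.2.1
        have : h = h' := by
          rw [← Finset.union_sdiff_of_subset e1, ← Finset.union_sdiff_of_subset e2, h2]
        subst this
        rfl
      · rintro ⟨t, u⟩ hp
        rw [memP] at hp
        obtain ⟨ht3, hu3, hdis, hh⟩ := hp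
        refine ⟨⟨t ∪ u, t⟩, ?_, ?_⟩
        · rw [Finset.mem_sigma, Finset.mem_powersetCard]
          exact ⟨by simpa [hHf] using hh, Finset.subset_union_left, ht3⟩
        · simp only [Prod.mk.injEq, true_and]
          exact Finset.union_sdiff_cancel_left hdis
    rw [← h1, Finset.card_sigma]
    have h2 : ∀ h ∈ Hf, (Finset.powersetCard 3 h).card = 20 := by
      intro h hh
      have hh' : h ∈ hexadsOn d := by simpa [hHf] using hh
      rw [Finset.card_powersetCard, hh'.1]; decide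
    rw [Finset.sum_congr rfl h2, Finset.sum_const, hHcard, smul_eq_mul]
  -- double counting
  have hdc := Finset.sum_card_bipartiteAbove_eq_sum_card_bipartiteBelow (s := Qf) (t := P)
    (fun Q p => p.1 ∈ Q ∧ p.2 ∈ Q)
  have hL : ∀ Q ∈ Qf, (Finset.bipartiteAbove (fun Q p => p.1 ∈ Q ∧ p.2 ∈ Q) P Q).card = 12 := by
    intro Q hQ
    have hQ' : Q ∈ quartets d := by simpa [hQf] using hQ
    have : Finset.bipartiteAbove (fun Q p => p.1 ∈ Q ∧ p.2 ∈ Q) P Q = Q.offDiag := by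
      ext ⟨t, u⟩
      rw [Finset.mem_bipartiteAbove, Finset.mem_offDiag, memP]
      constructor
      · rintro ⟨⟨ht3, _, hdis, _⟩, ht, hu⟩
        exact ⟨ht, hu, ne_of_pair ht3 hdis⟩
      · rintro ⟨ht, hu, hne⟩
        exact ⟨pair_of_quartet hQ' ht hu hne, ht, hu⟩
    rw [this, Finset.offDiag_card, hQ'.1]
  have hR : ∀ p ∈ P, (Finset.bipartiteBelow (fun Q p => p.1 ∈ Q ∧ p.2 ∈ Q) Qf p).card = 1 := by
    rintro ⟨t, u⟩ hp
    rw [memP] at hp
    obtain ⟨ht3, hu3, hdis, hh⟩ := hp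
    obtain ⟨Q, ⟨hQ, ht, hu⟩, huniq⟩ := existsUnique_quartet hd ht3 hu3 hdis hh
    rw [Finset.card_eq_one]
    refine ⟨Q, ?_⟩
    ext Q'
    rw [Finset.mem_bipartiteBelow, Finset.mem_singleton]
    constructor
    · rintro ⟨hQ', ht', hu'⟩
      exact huniq Q' ⟨by simpa [hQf] using hQ', ht', hu'⟩
    · rintro rfl
      exact ⟨by simpa [hQf] using hQ, ht, hu⟩
  rw [Finset.sum_congr rfl hL, Finset.sum_congr rfl hR, Finset.sum_const, Finset.sum_const,
    hPcard] at hdc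
  simp only [smul_eq_mul] at hdc
  rw [hQcard]
  omega

/-- A dodecad has 220 quartets and its stabiliser is transitive on them. -/
theorem result (d : Finset Cfsg.GolayPt) (hd : d ∈ Cfsg.dodecads) : (Cfsg.quartets d).ncard = 220 ∧ ∀ Q ∈ Cfsg.quartets d, ∀ Q' ∈ Cfsg.quartets d, ∃ g : Equiv.Perm Cfsg.GolayPt, g ∈ Cfsg.M24 ∧ g • d = d ∧ g • Q = Q' := by

  refine ⟨ncard_quartets hd, ?_⟩
  intro Q hQ Q' hQ'
  obtain ⟨t, ht, u, hu, hne⟩ := Finset.one_lt_card.mp (by rw [hQ.1]; norm_num : 1 < Q.card)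
  obtain ⟨t', ht', u', hu', hne'⟩ := Finset.one_lt_card.mp (by rw [hQ'.1]; norm_num : 1 < Q'.card)
  obtain ⟨ht3, hu3, hdis, hh⟩ := pair_of_quartet hQ ht hu hne
  obtain ⟨ht3', hu3', hdis', hh'⟩ := pair_of_quartet hQ' ht' hu' hne'
  obtain ⟨g1, hg1, hg1d, hg1t, hg1u⟩ := exists_map_std hd ht3 hu3 hdis hh
  obtain ⟨g2, hg2, hg2d, hg2t, hg2u⟩ := exists_map_std hd ht3' hu3' hdis' hh'
  have hgM : g2⁻¹ * g1 ∈ M24 := M24.mul_mem (M24.inv_mem hg2) hg1
  have hgd : (g2⁻¹ * g1) • d = d := by rw [mul_smul, hg1d, ← hg2d, inv_smul_smul]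
  have hgt : (g2⁻¹ * g1) • t = t' := by rw [mul_smul, hg1t, ← hg2t, inv_smul_smul]
  have hgu : (g2⁻¹ * g1) • u = u' := by rw [mul_smul, hg1u, ← hg2u, inv_smul_smul]
  refine ⟨g2⁻¹ * g1, hgM, hgd, ?_⟩
  obtain ⟨Q₀, _, huniq⟩ := existsUnique_quartet hd ht3' hu3' hdis' hh'
  have h1 : (g2⁻¹ * g1) • Q = Q₀ := by
    apply huniq
    refine ⟨?_, ?_, ?_⟩
    · have := smul_mem_quartets hgM hQ
      rwa [hgd] at this
    · rw [← hgt]; exact Finset.smul_mem_smul_finset ht
    · rw [← hgu]; exact Finset.smul_mem_smul_finset hu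
  have h2 : Q' = Q₀ := huniq Q' ⟨hQ', ht', hu'⟩
  rw [h1, h2]

end Cfsg.Agent.S1597
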