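import Mathlib
import Cfsg.Statements.S5185
-- import your own Cfsg.Agent.* helpers here

set_option autoImplicit false
universe u
open Cfsg

namespace Cfsg.Agent.S5185

/-- A finite group with a strongly `p`-embedded subgroup has an element `x` of order `p` and a conjugate of it
outside `⟨x⟩`. -/
theorem exists_two_of_spe {X : Type*} [Group X] [Finite X] {p : ℕ} [hp : Fact p.Prime] (E : Subgroup X)
    (hE : IsStronglyPEmbedded p E) :
    ∃ x g : X, orderOf x = p ∧ g * x * g⁻¹ ∉ Subgroup.zpowers x := by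
  obtain ⟨hdvd, hEtop, P, hP⟩ := hE
  -- an element of order `p` in `P`
  have hPdvd : p ∣ Nat.card (P : Subgroup X) := P.dvd_card_of_dvd_card hdvd
  obtain ⟨x', hx'⟩ := exists_prime_orderOf_dvd_card' p hPdvd
  set x : X := (x' : X) with hx
  have hxo : orderOf x = p := by rw [hx, Subgroup.orderOf_coe, hx']
  have hxP : x ∈ (P : Subgroup X) := x'.2
  set Q : Subgroup X := Subgroup.zpowers x with hQ
  have hQP : Q ≤ P := Subgroup.zpowers_le.mpr hxP
  have hQcard : Nat.card Q = p := by rw [hQ, Nat.card_zpowers, hxo]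
  have hQrank : ¬ PRankLE p (1 - 1) Q := by
    intro h
    have hcomm : IsMulCommutative (⊤ : Subgroup Q) := by
      refine ⟨⟨fun a b => ?_⟩⟩
      apply Subtype.ext
      apply Subtype.ext
      obtain ⟨k, hk⟩ := Subgroup.mem_zpowers_iff.mp a.1.2
      obtain ⟨l, hl⟩ := Subgroup.mem_zpowers_iff.mp b.1.2
      show (a.1.1 : X) * b.1.1 = b.1.1 * a.1.1
      rw [← hk, ← hl, ← zpow_add, ← zpow_add, add_comm]
    have hpow : ∀ a ∈ (⊤ : Subgroup Q), a ^ p = 1 := by
      intro a _
      apply Subtype.ext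
      obtain ⟨k, hk⟩ := Subgroup.mem_zpowers_iff.mp a.2
      show (a : X) ^ p = 1
      rw [← hk, ← zpow_natCast, ← zpow_mul, mul_comm, zpow_mul, zpow_natCast, ← hxo, pow_orderOf_eq_one, one_zpow]
    have := h ⊤ hcomm hpow
    rw [Subgroup.card_top, hQcard] at this
    rw [Nat.sub_self, pow_zero] at this
    have := hp.out.one_lt
    omega
  have hnorm : Subgroup.normalizer (Q : Set X) ≤ E :=
    le_trans (le_iSup (fun Q : {Q : Subgroup X // Q ≤ P ∧ ¬ PRankLE p (1 - 1) Q} =>
      Subgroup.normalizer ((Q : Subgroup X) : Set X)) ⟨Q, hQP, hQrank⟩) hP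
  by_contra hcon
  push Not at hcon
  apply hEtop
  rw [eq_top_iff]
  refine le_trans ?_ hnorm
  intro g _
  apply Subgroup.mem_normalizer_fintype
  intro n hn
  obtain ⟨k, rfl⟩ := Subgroup.mem_zpowers_iff.mp hn
  have h1 : g * x * g⁻¹ ∈ Q := hcon x g hxo
  have : g * x ^ k * g⁻¹ = (g * x * g⁻¹) ^ k := by rw [conj_zpow]
  rw [this]
  exact Subgroup.zpow_mem _ h1 k


open Matrix

section mat

variable {p : ℕ} [hp : Fact p.Prime]

local notation "K" => ZMod p

/-- 2×2 Cayley–Hamilton -/
theorem cayley2 {R : Type*} [CommRing R] (N : Matrix (Fin 2) (Fin 2) R) :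
    N * N = N.trace • N - N.det • (1 : Matrix (Fin 2) (Fin 2) R) := by
  ext i j
  fin_cases i <;> fin_cases j <;>
    simp [Matrix.mul_apply, Fin.sum_univ_two, Matrix.trace_fin_two, Matrix.det_fin_two] <;> ring

/-- an element of `GL₂(𝔽_p)` with `z ^ p = 1`: `N = z - 1` has trace zero and square zero. -/
theorem sq_zero_of_pow (z : GL (Fin 2) K) (hz : z ^ p = 1) :
    ((z : Matrix (Fin 2) (Fin 2) K) - 1) * ((z : Matrix (Fin 2) (Fin 2) K) - 1) = 0 ∧
      Matrix.trace ((z : Matrix (Fin 2) (Fin 2) K) - 1) = 0 := by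
  set N : Matrix (Fin 2) (Fin 2) K := (z : Matrix (Fin 2) (Fin 2) K) - 1 with hN
  have hzp : (z : Matrix (Fin 2) (Fin 2) K) ^ p = 1 := by
    have := congrArg (fun g : GL (Fin 2) K => (g : Matrix (Fin 2) (Fin 2) K)) hz
    simpa using this
  have hNp : N ^ p = 0 := by
    rw [hN, sub_pow_char_of_commute _ (Commute.one_right _), hzp, one_pow, sub_self]
  have hnil : IsNilpotent N := ⟨p, hNp⟩
  have htr : N.trace = 0 := (Matrix.isNilpotent_trace_of_isNilpotent hnil).eq_zero
  have hdet : N.det = 0 := by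
    have : IsNilpotent N.det := ⟨p, by rw [← Matrix.det_pow, hNp, Matrix.det_zero]⟩
    exact this.eq_zero
  refine ⟨?_, htr⟩
  rw [cayley2, htr, hdet, zero_smul, zero_smul, sub_zero]

/-- upper elementary matrix -/
def T12 (a : K) : GL (Fin 2) K :=
  Matrix.GeneralLinearGroup.mkOfDetNeZero !![1, a; 0, 1] (by simp [Matrix.det_fin_two])

/-- lower elementary matrix -/
def T21 (a : K) : GL (Fin 2) K :=
  Matrix.GeneralLinearGroup.mkOfDetNeZero !![1, 0; a, 1] (by simp [Matrix.det_fin_two])

theorem T12_coe (a : K) : ((T12 a : GL (Fin 2) K) : Matrix (Fin 2) (Fin 2) K) = !![1, a; 0, 1] := rfl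
theorem T21_coe (a : K) : ((T21 a : GL (Fin 2) K) : Matrix (Fin 2) (Fin 2) K) = !![1, 0; a, 1] := rfl

theorem gl_ext {A B : GL (Fin 2) K} (h : (A : Matrix (Fin 2) (Fin 2) K) = B) : A = B := Units.ext h

theorem T12_mul (a b : K) : T12 a * T12 b = T12 (a + b) := by
  apply gl_ext
  rw [Units.val_mul, T12_coe, T12_coe, T12_coe]
  ext i j
  fin_cases i <;> fin_cases j <;> simp [Matrix.mul_apply, Fin.sum_univ_two, add_comm]

theorem T21_mul (a b : K) : T21 a * T21 b = T21 (a + b) := by
  apply gl_ext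
  rw [Units.val_mul, T21_coe, T21_coe, T21_coe]
  ext i j
  fin_cases i <;> fin_cases j <;> simp [Matrix.mul_apply, Fin.sum_univ_two, add_comm]

theorem T12_zero : T12 (0 : K) = 1 := by
  apply gl_ext
  rw [T12_coe]
  ext i j
  fin_cases i <;> fin_cases j <;> simp

theorem T21_zero : T21 (0 : K) = 1 := by
  apply gl_ext
  rw [T21_coe]
  ext i j
  fin_cases i <;> fin_cases j <;> simp

theorem T12_pow (a : K) (n : ℕ) : T12 a ^ n = T12 ((n : K) * a) := by
  induction n with
  | zero => simp [T12_zero]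
  | succ n ih => rw [pow_succ, ih, T12_mul]; congr 1; push_cast; ring

theorem T21_pow (a : K) (n : ℕ) : T21 a ^ n = T21 ((n : K) * a) := by
  induction n with
  | zero => simp [T21_zero]
  | succ n ih => rw [pow_succ, ih, T21_mul]; congr 1; push_cast; ring

/-- all upper elementary matrices are powers of `T12 a`, `a ≠ 0` -/
theorem T12_mem_zpowers (a b : K) (ha : a ≠ 0) : T12 b ∈ Subgroup.zpowers (T12 a) := by
  have : T12 b = T12 a ^ (b / a).val := by
    rw [T12_pow, ZMod.natCast_val, ZMod.cast_id', id, div_mul_cancel₀ b ha]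
  rw [this]
  exact Subgroup.npow_mem_zpowers _ _

theorem T21_mem_zpowers (a b : K) (ha : a ≠ 0) : T21 b ∈ Subgroup.zpowers (T21 a) := by
  have : T21 b = T21 a ^ (b / a).val := by
    rw [T21_pow, ZMod.natCast_val, ZMod.cast_id', id, div_mul_cancel₀ b ha]
  rw [this]
  exact Subgroup.npow_mem_zpowers _ _

/-- entries of a 2×2 matrix -/
theorem eta2 (A : Matrix (Fin 2) (Fin 2) K) : A = !![A 0 0, A 0 1; A 1 0, A 1 1] := by
  ext i j; fin_cases i <;> fin_cases j <;> rfl

/-- every element of `SL₂` is a product of elementary matrices -/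
theorem sl2_mem_of_elem (L : Subgroup (GL (Fin 2) K)) (h12 : ∀ a : K, T12 a ∈ L) (h21 : ∀ a : K, T21 a ∈ L)
    (s : Matrix.SpecialLinearGroup (Fin 2) K) : Matrix.SpecialLinearGroup.toGL s ∈ L := by
  have hdet : s.1 0 0 * s.1 1 1 - s.1 0 1 * s.1 1 0 = 1 := by
    have := s.2; rwa [Matrix.det_fin_two] at this
  -- first the case of nonzero lower-left entry
  have key : ∀ (g : GL (Fin 2) K), (g : Matrix (Fin 2) (Fin 2) K) 1 0 ≠ 0 →
      (g : Matrix (Fin 2) (Fin 2) K) 0 0 * (g : Matrix (Fin 2) (Fin 2) K) 1 1 -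
        (g : Matrix (Fin 2) (Fin 2) K) 0 1 * (g : Matrix (Fin 2) (Fin 2) K) 1 0 = 1 → g ∈ L := by
    intro g hc hd
    set a := (g : Matrix (Fin 2) (Fin 2) K) 0 0
    set b := (g : Matrix (Fin 2) (Fin 2) K) 0 1
    set c := (g : Matrix (Fin 2) (Fin 2) K) 1 0
    set d := (g : Matrix (Fin 2) (Fin 2) K) 1 1
    obtain ⟨α, hα⟩ : ∃ α : K, α * c = a - 1 := ⟨(a - 1) / c, div_mul_cancel₀ _ hc⟩
    obtain ⟨β, hβ⟩ : ∃ β : K, β * c = d - 1 := ⟨(d - 1) / c, div_mul_cancel₀ _ hc⟩
    have hb : b = (1 + α * c) * β + α := by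
      apply mul_right_cancel₀ hc
      linear_combination (-1 : K) * hd - (1 + α * c) * hβ - d * hα
    have : g = T12 α * T21 c * T12 β := by
      apply gl_ext
      rw [Units.val_mul, Units.val_mul, T12_coe, T12_coe, T21_coe, eta2 (g : Matrix (Fin 2) (Fin 2) K)]
      ext i j
      fin_cases i <;> fin_cases j
      · simp [Matrix.mul_apply, Fin.sum_univ_two]
        show a = 1 + α * c
        linear_combination -hα
      · simp [Matrix.mul_apply, Fin.sum_univ_two]
        show b = (1 + α * c) * β + α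
        exact hb
      · simp [Matrix.mul_apply, Fin.sum_univ_two]
        rfl
      · simp [Matrix.mul_apply, Fin.sum_univ_two]
        show d = c * β + 1
        linear_combination -hβ
    rw [this]
    exact L.mul_mem (L.mul_mem (h12 _) (h21 _)) (h12 _)
  by_cases hc : s.1 1 0 = 0
  · -- multiply by `T21 1`
    have ha : s.1 0 0 ≠ 0 := by
      intro h0
      rw [h0, hc] at hdet
      simp at hdet
    have h1 : T21 1 * Matrix.SpecialLinearGroup.toGL s ∈ L := by
      apply key
      · simp [T21_coe, Matrix.mul_apply, Fin.sum_univ_two, hc, ha]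
      · simp only [Units.val_mul, T21_coe, Matrix.mul_apply, Fin.sum_univ_two]
        simp [hc]
        rw [hc] at hdet
        linear_combination hdet
    have h2 : Matrix.SpecialLinearGroup.toGL s = (T21 1)⁻¹ * (T21 1 * Matrix.SpecialLinearGroup.toGL s) := by
      group
    rw [h2]
    exact L.mul_mem (L.inv_mem (h21 1)) h1
  · apply key
    · simpa using hc
    · simpa using hdet

/-- entrywise consequences of `z ^ p = 1` -/
theorem entries_of_pow (z : GL (Fin 2) K) (hz : z ^ p = 1) :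
    (z : Matrix (Fin 2) (Fin 2) K) 0 0 + (z : Matrix (Fin 2) (Fin 2) K) 1 1 = 2 ∧
    ((z : Matrix (Fin 2) (Fin 2) K) 0 0 - 1) * ((z : Matrix (Fin 2) (Fin 2) K) 0 0 - 1) +
      (z : Matrix (Fin 2) (Fin 2) K) 0 1 * (z : Matrix (Fin 2) (Fin 2) K) 1 0 = 0 := by
  obtain ⟨h1, h2⟩ := sq_zero_of_pow z hz
  constructor
  · rw [Matrix.trace_fin_two] at h2
    simp only [Matrix.sub_apply, Matrix.one_apply_eq] at h2
    linear_combination h2
  · have := congrFun (congrFun h1 0) 0
    simp only [Matrix.mul_apply, Fin.sum_univ_two, Matrix.sub_apply, Matrix.one_apply_eq, Matrix.zero_apply,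
      Matrix.one_apply_ne (show (0 : Fin 2) ≠ 1 by decide), Matrix.one_apply_ne (show (1 : Fin 2) ≠ 0 by decide),
      sub_zero] at this
    exact this

/-- Core case: `L` contains `T12 1` and another element of order dividing `p` outside `⟨T12 1⟩`. -/
theorem sl2_le_of_T12 (L : Subgroup (GL (Fin 2) K)) (hx : T12 (1 : K) ∈ L) (y : GL (Fin 2) K) (hy : y ∈ L)
    (hyp : y ^ p = 1) (hxy : y ∉ Subgroup.zpowers (T12 (1 : K)))
    (s : Matrix.SpecialLinearGroup (Fin 2) K) : Matrix.SpecialLinearGroup.toGL s ∈ L := by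
  have h12 : ∀ a : K, T12 a ∈ L := fun a =>
    (Subgroup.zpowers_le.mpr hx) (T12_mem_zpowers 1 a one_ne_zero)
  obtain ⟨htr, hsq⟩ := entries_of_pow y hyp
  set a := (y : Matrix (Fin 2) (Fin 2) K) 0 0 with ha
  set b := (y : Matrix (Fin 2) (Fin 2) K) 0 1 with hb
  set c := (y : Matrix (Fin 2) (Fin 2) K) 1 0 with hc
  set d := (y : Matrix (Fin 2) (Fin 2) K) 1 1 with hd
  have hc0 : c ≠ 0 := by
    intro h0
    apply hxy
    rw [h0, mul_zero, add_zero] at hsq
    have ha1 : a = 1 := by
      have : a - 1 = 0 := mul_self_eq_zero.mp hsq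
      linear_combination this
    have hd1 : d = 1 := by linear_combination htr - ha1
    have : y = T12 b := by
      apply gl_ext
      rw [T12_coe, eta2 (y : Matrix (Fin 2) (Fin 2) K), ← ha, ← hb, ← hc, ← hd, ha1, hd1, h0]
    rw [this]
    exact T12_mem_zpowers 1 b one_ne_zero
  -- conjugate `y` into a lower elementary matrix
  obtain ⟨t, ht⟩ : ∃ t : K, t * c = 1 - a := ⟨(1 - a) / c, div_mul_cancel₀ _ hc0⟩
  have hconj : T12 t * y = T21 c * T12 t := by
    apply gl_ext
    rw [Units.val_mul, Units.val_mul, T12_coe, T21_coe, eta2 (y : Matrix (Fin 2) (Fin 2) K)]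
    ext i j
    fin_cases i <;> fin_cases j
    · simp [Matrix.mul_apply, Fin.sum_univ_two]
      show a + t * c = 1
      linear_combination ht
    · simp [Matrix.mul_apply, Fin.sum_univ_two]
      show b + t * d = t
      apply mul_right_cancel₀ hc0
      linear_combination hsq + (1 - a) * ht + (t * c) * htr
    · simp [Matrix.mul_apply, Fin.sum_univ_two]
      rfl
    · simp [Matrix.mul_apply, Fin.sum_univ_two]
      show d = c * t + 1
      linear_combination htr - ht
  have h21c : T21 c ∈ L := by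
    have : T21 c = T12 t * y * (T12 t)⁻¹ := by rw [hconj]; group
    rw [this]
    exact L.mul_mem (L.mul_mem (h12 t) hy) (L.inv_mem (h12 t))
  have h21 : ∀ a : K, T21 a ∈ L := fun a =>
    (Subgroup.zpowers_le.mpr h21c) (T21_mem_zpowers c a hc0)
  exact sl2_mem_of_elem L h12 h21 s

/-- normal form of an element of order `p` -/
theorem exists_conj_T12 (x : GL (Fin 2) K) (hxp : x ^ p = 1) (hx1 : x ≠ 1) :
    ∃ h : GL (Fin 2) K, x * h = h * T12 1 := by
  obtain ⟨htr, hsq⟩ := entries_of_pow x hxp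
  set a := (x : Matrix (Fin 2) (Fin 2) K) 0 0 with ha
  set b := (x : Matrix (Fin 2) (Fin 2) K) 0 1 with hb
  set c := (x : Matrix (Fin 2) (Fin 2) K) 1 0 with hc
  set d := (x : Matrix (Fin 2) (Fin 2) K) 1 1 with hd
  by_cases hc0 : c = 0
  · rw [hc0, mul_zero, add_zero] at hsq
    have ha1 : a = 1 := by
      have : a - 1 = 0 := mul_self_eq_zero.mp hsq
      linear_combination this
    have hd1 : d = 1 := by linear_combination htr - ha1
    have hxb : x = T12 b := by
      apply gl_ext
      rw [T12_coe, eta2 (x : Matrix (Fin 2) (Fin 2) K), ← ha, ← hb, ← hc, ← hd, ha1, hd1, hc0]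
    have hb0 : b ≠ 0 := by
      intro h0
      apply hx1
      rw [hxb, h0]
      apply gl_ext
      rw [T12_coe]
      ext i j
      fin_cases i <;> fin_cases j <;> simp
    refine ⟨Matrix.GeneralLinearGroup.mkOfDetNeZero !![b, 0; 0, 1] (by simpa [Matrix.det_fin_two] using hb0), ?_⟩
    rw [hxb]
    apply gl_ext
    rw [Units.val_mul, Units.val_mul, T12_coe, T12_coe]
    show !![1, b; 0, 1] * !![b, 0; 0, 1] = !![b, 0; 0, 1] * !![1, 1; 0, 1]
    ext i j
    fin_cases i <;> fin_cases j <;> simp [Matrix.mul_apply, Fin.sum_univ_two]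
  · refine ⟨Matrix.GeneralLinearGroup.mkOfDetNeZero !![a - 1, 1; c, 0] (by simpa [Matrix.det_fin_two] using hc0), ?_⟩
    apply gl_ext
    rw [Units.val_mul, Units.val_mul, T12_coe, eta2 (x : Matrix (Fin 2) (Fin 2) K)]
    show !![a, b; c, d] * !![a - 1, 1; c, 0] = !![a - 1, 1; c, 0] * !![1, 1; 0, 1]
    ext i j
    fin_cases i <;> fin_cases j
    · simp [Matrix.mul_apply, Fin.sum_univ_two]
      linear_combination hsq
    · simp [Matrix.mul_apply, Fin.sum_univ_two]
    · simp [Matrix.mul_apply, Fin.sum_univ_two]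
      linear_combination c * htr
    · simp [Matrix.mul_apply, Fin.sum_univ_two]

/-- Two "independent" elements of order `p` in a subgroup `L` of `GL₂(𝔽_p)` force `SL₂(𝔽_p) ≤ L`. -/
theorem sl2_le_of_two (L : Subgroup (GL (Fin 2) K)) (x y : GL (Fin 2) K) (hx : x ∈ L) (hy : y ∈ L)
    (hxo : orderOf x = p) (hyo : orderOf y = p) (hxy : y ∉ Subgroup.zpowers x)
    (s : Matrix.SpecialLinearGroup (Fin 2) K) : Matrix.SpecialLinearGroup.toGL s ∈ L := by
  have hxp : x ^ p = 1 := orderOf_dvd_iff_pow_eq_one.mp (dvd_of_eq hxo)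
  have hyp : y ^ p = 1 := orderOf_dvd_iff_pow_eq_one.mp (dvd_of_eq hyo)
  have hx1 : x ≠ 1 := by
    rintro rfl
    rw [orderOf_one] at hxo
    exact hp.out.one_lt.ne hxo
  obtain ⟨h, hh⟩ := exists_conj_T12 x hxp hx1
  -- `L' = h⁻¹ L h`
  set L' : Subgroup (GL (Fin 2) K) := L.comap (MulAut.conj h).toMonoidHom with hL'
  have hmem : ∀ g, g ∈ L' ↔ h * g * h⁻¹ ∈ L := fun g => Iff.rfl
  have hT : T12 (1 : K) = h⁻¹ * x * h := by rw [mul_assoc, hh]; group
  have h1 : T12 (1 : K) ∈ L' := by
    rw [hmem, hT]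
    have : h * (h⁻¹ * x * h) * h⁻¹ = x := by group
    rw [this]; exact hx
  have h2 : h⁻¹ * y * h ∈ L' := by
    rw [hmem]
    have : h * (h⁻¹ * y * h) * h⁻¹ = y := by group
    rw [this]; exact hy
  have h3 : (h⁻¹ * y * h) ^ p = 1 := by
    have : h⁻¹ * y * h = h⁻¹ * y * h⁻¹⁻¹ := by rw [inv_inv]
    rw [this, conj_pow, hyp]; group
  have h4 : h⁻¹ * y * h ∉ Subgroup.zpowers (T12 (1 : K)) := by
    intro hmem'
    apply hxy
    obtain ⟨k, hk⟩ := Subgroup.mem_zpowers_iff.mp hmem'
    rw [Subgroup.mem_zpowers_iff]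
    refine ⟨k, ?_⟩
    have hx' : x = h * T12 1 * h⁻¹ := by rw [hT]; group
    rw [hx', conj_zpow, hk]; group
  -- the conjugate of `s`
  let s' : Matrix.SpecialLinearGroup (Fin 2) K :=
    ⟨((h⁻¹ : GL (Fin 2) K) : Matrix (Fin 2) (Fin 2) K) * s.1 * ((h : GL (Fin 2) K) : Matrix (Fin 2) (Fin 2) K), by
      have := Matrix.det_units_conj (h⁻¹ : GL (Fin 2) K) s.1
      rw [inv_inv] at this
      rw [this]; exact s.2⟩
  have h5 := sl2_le_of_T12 L' h1 (h⁻¹ * y * h) h2 h3 h4 s'
  rw [hmem] at h5
  have h6 : h * Matrix.SpecialLinearGroup.toGL s' * h⁻¹ = Matrix.SpecialLinearGroup.toGL s := by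
    have : Matrix.SpecialLinearGroup.toGL s' = h⁻¹ * Matrix.SpecialLinearGroup.toGL s * h := by
      apply gl_ext
      rfl
    rw [this]; group
  rwa [h6] at h5

end mat


/-- a `ZMod p`-module of order `p ^ 2` is `(ℤ/p)²` -/
theorem nonempty_addEquiv_of_module {V : Type*} [AddCommGroup V] {p : ℕ} [hp : Fact p.Prime] [Module (ZMod p) V]
    [Finite V] (hcard : Nat.card V = p ^ 2) : Nonempty (V ≃+ (Fin 2 → ZMod p)) := by
  have hfr : Module.finrank (ZMod p) V = 2 := by
    have h1 : Nat.card V = Nat.card (ZMod p) ^ Module.finrank (ZMod p) V :=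
      Module.natCard_eq_pow_finrank (K := ZMod p) (V := V)
    rw [hcard, Nat.card_zmod] at h1
    exact (Nat.pow_right_injective hp.out.two_le h1).symm
  let b := Module.finBasisOfFinrankEq (ZMod p) V hfr
  exact ⟨b.equivFun.toAddEquiv⟩

/-- An elementary abelian group of order `p ^ 2` is isomorphic to `(ℤ/p)²`. -/
theorem nonempty_mulEquiv_of_elementary {H : Type*} [Group H] [Finite H] {p : ℕ} [hp : Fact p.Prime]
    (hcomm : ∀ a b : H, a * b = b * a) (hexp : ∀ h : H, h ^ p = 1) (hcard : Nat.card H = p ^ 2) :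
    Nonempty (H ≃* Multiplicative (Fin 2 → ZMod p)) := by
  let iC : CommGroup H := { (inferInstance : Group H) with mul_comm := hcomm }
  let iA : AddCommGroup (Additive H) := @Additive.addCommGroup H iC
  let iM : Module (ZMod p) (Additive H) := @AddCommGroup.zmodModule p (Additive H) iA (fun x => by
    show Additive.ofMul (x.toMul ^ p) = 0
    rw [hexp]; rfl)
  have iF : Finite (Additive H) := inferInstanceAs (Finite H)
  obtain ⟨e⟩ := @nonempty_addEquiv_of_module (Additive H) iA p hp iM iF hcard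
  exact ⟨AddEquiv.toMultiplicativeRight e⟩



/-- automorphisms of the multiplicative copy of a `ZMod n`-module are the linear automorphisms -/
def mulAutEquivLin (n : ℕ) (V : Type*) [AddCommGroup V] [Module (ZMod n) V] :
    MulAut (Multiplicative V) ≃* (V ≃ₗ[ZMod n] V) where
  toFun α :=
    { toFun := fun v => (α (Multiplicative.ofAdd v)).toAdd
      invFun := fun v => (α.symm (Multiplicative.ofAdd v)).toAdd
      left_inv := fun v => by simp
      right_inv := fun v => by simp
      map_add' := fun v w => by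
        show (α (Multiplicative.ofAdd v * Multiplicative.ofAdd w)).toAdd = _
        rw [map_mul]; rfl
      map_smul' := fun c v => by
        let f : V →+ V :=
          { toFun := fun v => (α (Multiplicative.ofAdd v)).toAdd
            map_zero' := by
              show (α 1).toAdd = 0
              rw [map_one]; rfl
            map_add' := fun v w => by
              show (α (Multiplicative.ofAdd v * Multiplicative.ofAdd w)).toAdd = _
              rw [map_mul]; rfl }
        exact ZMod.map_smul f c v }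
  invFun g :=
    { toFun := fun m => Multiplicative.ofAdd (g m.toAdd)
      invFun := fun m => Multiplicative.ofAdd (g.symm m.toAdd)
      left_inv := fun m => by simp
      right_inv := fun m => by simp
      map_mul' := fun a b => by
        show Multiplicative.ofAdd (g (a.toAdd + b.toAdd)) = _
        rw [map_add]; rfl }
  left_inv α := by ext m; rfl
  right_inv g := by ext v; rfl
  map_mul' α β := by ext v; rfl

/-- `Aut((ℤ/p)²) ≅ GL₂(𝔽_p)` -/
noncomputable def mulAutEquivGL (p : ℕ) [Fact p.Prime] :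
    MulAut (Multiplicative (Fin 2 → ZMod p)) ≃* GL (Fin 2) (ZMod p) :=
  ((mulAutEquivLin p (Fin 2 → ZMod p)).trans
    (LinearMap.GeneralLinearGroup.generalLinearEquiv (ZMod p) (Fin 2 → ZMod p)).symm).trans
      Matrix.GeneralLinearGroup.toLin.symm

/-- Let F be a saturated fusion system over a finite p-group S and H an essential subgroup of order p². Then H is elementary abelian (isomorphic to C_p × C_p) and its F-automorphism group contains a subgroup isomorphic to SL(2,p). -/
theorem result {Ω : Type u} [Group Ω] {S : Subgroup Ω} [Finite S] (p : ℕ) [Fact p.Prime] (hS : IsPGroup p S)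
    (F : Cfsg.FusionSystem S) (hF : F.IsSaturated p) (H : Subgroup Ω) (hH : F.IsEssential p H) (hcard : Nat.card H = p ^ 2) :
    Cfsg.IsElementaryAbelian p H ∧
      ∃ K : Subgroup ↥(F.autGroup H), Nonempty (↥K ≃* Matrix.SpecialLinearGroup (Fin 2) (ZMod p)) := by
  classical
  have hp : p.Prime := Fact.out
  obtain ⟨hcen, hfn, hnorm, E, hE⟩ := hH
  have hHfin : Finite H := Nat.finite_of_card_ne_zero (by rw [hcard]; exact pow_ne_zero 2 hp.ne_zero)
  have hHp : IsPGroup p H := IsPGroup.of_card hcard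
  have hcomm : ∀ a b : H, a * b = b * a := fun a b =>
    (IsPGroup.isMulCommutative_of_card_eq_prime_sq hcard).is_comm.comm a b
  -- the inner automorphism group of `H` is trivial
  have hInn : Cfsg.Inn H = ⊥ := by
    rw [eq_bot_iff]
    rintro _ ⟨g, rfl⟩
    rw [Subgroup.mem_bot]
    ext h
    show ((g * h * g⁻¹ : H) : Ω) = h
    rw [hcomm g h, mul_inv_cancel_right]
  set A := F.autGroup H with hA
  have hNbot : (Cfsg.Inn H).subgroupOf A = ⊥ := by rw [hInn, Subgroup.bot_subgroupOf]
  have : Finite (MulAut H) := Finite.of_injective (fun α : MulAut H => (α : H → H)) DFunLike.coe_injective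
  -- two elements in the quotient
  obtain ⟨x, g, hxo, hxg⟩ := exists_two_of_spe E hE
  -- lift them to `A`
  obtain ⟨a, rfl⟩ := QuotientGroup.mk_surjective x
  obtain ⟨c, rfl⟩ := QuotientGroup.mk_surjective g
  have hπinj : Function.Injective (QuotientGroup.mk' ((Cfsg.Inn H).subgroupOf A)) := by
    rw [← MonoidHom.ker_eq_bot_iff, QuotientGroup.ker_mk', hNbot]
  have hao : orderOf a = p := by
    rw [← hxo]; exact (orderOf_injective (QuotientGroup.mk' ((Cfsg.Inn H).subgroupOf A)) hπinj a).symm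
  have hac : c * a * c⁻¹ ∉ Subgroup.zpowers a := by
    intro hmem
    apply hxg
    obtain ⟨k, hk⟩ := Subgroup.mem_zpowers_iff.mp hmem
    rw [Subgroup.mem_zpowers_iff]
    refine ⟨k, ?_⟩
    have := congrArg (QuotientGroup.mk' ((Cfsg.Inn H).subgroupOf A)) hk
    simpa using this
  -- `H` has exponent `p`
  have hexp : ∀ h : H, h ^ p = 1 := by
    by_contra hne
    push Not at hne
    obtain ⟨h, hh⟩ := hne
    have hdvd : orderOf h ∣ p ^ 2 := by rw [← hcard]; exact orderOf_dvd_natCard h
    obtain ⟨k, hk2, hk⟩ := (Nat.dvd_prime_pow hp).mp hdvd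
    have hk2' : k = 2 := by
      by_contra hk'
      have hk1 : k ≤ 1 := by omega
      apply hh
      apply orderOf_dvd_iff_pow_eq_one.mp
      rw [hk]
      calc p ^ k ∣ p ^ 1 := pow_dvd_pow p hk1
        _ = p := pow_one p
    have hcyc : IsCyclic H := isCyclic_of_orderOf_eq_card h (by rw [hk, hk2', hcard])
    -- then `Aut H` is commutative
    have hAutComm : ∀ α β : MulAut H, α * β = β * α := by
      intro α β
      have e := hcyc.mulAutMulEquiv H
      apply e.injective
      rw [map_mul, map_mul, mul_comm]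
    apply hac
    have : c * a * c⁻¹ = a := by
      apply Subtype.ext
      show (c : MulAut H) * (a : MulAut H) * (c : MulAut H)⁻¹ = a
      rw [hAutComm (c : MulAut H) (a : MulAut H), mul_inv_cancel_right]
    rw [this]
    exact Subgroup.mem_zpowers a
  have helem : Cfsg.IsElementaryAbelian p H := by
    refine ⟨⟨⟨hcomm⟩⟩, fun h hh => ?_⟩
    have := hexp ⟨h, hh⟩
    exact congrArg Subtype.val this
  refine ⟨helem, ?_⟩
  -- identification of `Aut H` with `GL₂(𝔽_p)`
  obtain ⟨e⟩ := nonempty_mulEquiv_of_elementary hcomm hexp hcard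
  set Ψ : MulAut H ≃* GL (Fin 2) (ZMod p) := (MulAut.congr e).trans (mulAutEquivGL p) with hΨ
  set L : Subgroup (GL (Fin 2) (ZMod p)) := A.map Ψ.toMonoidHom with hL
  have hxL : Ψ (a : MulAut H) ∈ L := Subgroup.mem_map_of_mem _ a.2
  have hyL : Ψ ((c * a * c⁻¹ : A) : MulAut H) ∈ L := Subgroup.mem_map_of_mem _ (c * a * c⁻¹).2
  have hxo' : orderOf (Ψ (a : MulAut H)) = p := by
    rw [MulEquiv.orderOf_eq, Subgroup.orderOf_coe, hao]
  have hyo' : orderOf (Ψ ((c * a * c⁻¹ : A) : MulAut H)) = p := by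
    rw [MulEquiv.orderOf_eq, Subgroup.orderOf_coe]
    have hsc : SemiconjBy c a (c * a * c⁻¹) := by
      unfold SemiconjBy; group
    rw [← hsc.orderOf_eq, hao]
  have hxy' : Ψ ((c * a * c⁻¹ : A) : MulAut H) ∉ Subgroup.zpowers (Ψ (a : MulAut H)) := by
    intro hmem
    apply hac
    obtain ⟨k, hk⟩ := Subgroup.mem_zpowers_iff.mp hmem
    rw [Subgroup.mem_zpowers_iff]
    refine ⟨k, ?_⟩
    apply Subtype.ext
    apply Ψ.injective
    rw [← hk, Subgroup.coe_zpow, map_zpow]
  have hSL : ∀ s : Matrix.SpecialLinearGroup (Fin 2) (ZMod p), Matrix.SpecialLinearGroup.toGL s ∈ L :=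
    sl2_le_of_two L _ _ hxL hyL hxo' hyo' hxy'
  -- the embedding of `SL₂(𝔽_p)` into `Aut_F(H)`
  let Φ : Matrix.SpecialLinearGroup (Fin 2) (ZMod p) →* MulAut H :=
    Ψ.symm.toMonoidHom.comp Matrix.SpecialLinearGroup.toGL
  have hΦA : ∀ s, Φ s ∈ A := by
    intro s
    obtain ⟨α, hα, hαs⟩ := hSL s
    have : Φ s = α := by
      show Ψ.symm (Matrix.SpecialLinearGroup.toGL s) = α
      rw [← hαs]; exact Ψ.symm_apply_apply α
    rw [this]; exact hα
  let Φ' : Matrix.SpecialLinearGroup (Fin 2) (ZMod p) →* A := Φ.codRestrict A hΦA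
  have hΦ'inj : Function.Injective Φ' := by
    intro s t hst
    have h1 : Φ s = Φ t := congrArg Subtype.val hst
    have h2 : Matrix.SpecialLinearGroup.toGL s = Matrix.SpecialLinearGroup.toGL t := Ψ.symm.injective h1
    apply Subtype.ext
    have h3 := congrArg (fun g : GL (Fin 2) (ZMod p) => (g : Matrix (Fin 2) (Fin 2) (ZMod p))) h2
    exact h3
  exact ⟨Φ'.range, ⟨(MonoidHom.ofInjective hΦ'inj).symm⟩⟩

end Cfsg.Agent.S5185
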