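import Cfsg.Statements.S0338
import Cfsg.Agent.Lib.Helper6.Zassenhaus

set_option autoImplicit false
open Cfsg

namespace Cfsg.Agent.S0338

open MulAction Cfsg.Agent.Lib.Helper6

/-- A Zassenhaus group of odd degree is a simple group. -/
theorem result {G Ω : Type*} [Group G] [MulAction G Ω] [Fintype Ω]
    (hZ : Cfsg.IsZassenhausGroup G Ω) (hodd : Odd (Fintype.card Ω)) : IsSimpleGroup G := by
  classical
  obtain ⟨g0, hg0, -⟩ := hZ.2.2.2.1
  have : Nontrivial G := ⟨⟨g0, 1, hg0⟩⟩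
  refine ⟨fun N hN => ?_⟩
  by_cases hne : N = ⊥
  · exact Or.inl hne
  right
  have := hZ.1
  have : Finite G := zass_finite hZ
  have h3 := hZ.2.2.1
  -- an element of N swapping two points
  obtain ⟨a, b, hab, -⟩ := zass_exists_two_point hZ N hne
  obtain ⟨w0, hw0N, hw0a, hw0b⟩ := zass_normal_two_transitive hZ N hne hab (Ne.symm hab)
  have hpow : ∀ k : ℕ, w0 ^ (2 * k) • a = a ∧ w0 ^ (2 * k + 1) • a = b := by
    intro k
    induction k with
    | zero => simp [hw0a]
    | succ k ih =>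
      have e1 : w0 ^ (2 * (k + 1)) • a = a := by
        rw [show 2 * (k + 1) = (2 * k + 1) + 1 by ring, pow_succ', mul_smul, ih.2, hw0b]
      refine ⟨e1, ?_⟩
      rw [pow_succ', mul_smul, e1, hw0a]
  have hord_pos : 0 < orderOf w0 := orderOf_pos w0
  have heven : Even (orderOf w0) := by
    by_contra hodd'
    rw [Nat.not_even_iff_odd] at hodd'
    obtain ⟨k, hk⟩ := hodd'
    have := (hpow k).2
    rw [← hk, pow_orderOf_eq_one, one_smul] at this
    exact hab this
  obtain ⟨r, hr⟩ := heven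
  let t := w0 ^ r
  have ht2 : t * t = 1 := by rw [← pow_add, ← hr, pow_orderOf_eq_one]
  have ht1 : t ≠ 1 := pow_ne_one_of_lt_orderOf (by omega) (by omega)
  have htN : t ∈ N := N.pow_mem hw0N r
  -- fixed points of t
  let F := Finset.univ.filter (fun c : Ω => t • c = c)
  have hFodd : Odd F.card := by
    have hσ : (MulAction.toPerm t : Equiv.Perm Ω) ^ 2 ^ 1 = 1 := by
      ext c
      simp [pow_two, ← mul_smul, ht2]
    have : Fact (Nat.Prime 2) := ⟨Nat.prime_two⟩
    have hmod := Equiv.Perm.card_compl_support_modEq (p := 2) (n := 1) hσ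
    have hF : F = (MulAction.toPerm t : Equiv.Perm Ω).supportᶜ := by
      ext c
      simp [F, Equiv.Perm.mem_support]
    rw [hF, Nat.odd_iff, hmod, ← Nat.odd_iff]
    exact hodd
  have hFle : F.card ≤ 2 := by
    by_contra h
    push Not at h
    obtain ⟨c1, c2, c3, h1, h2, h3', h12, h13, h23⟩ := Finset.two_lt_card_iff.mp h
    simp only [F, Finset.mem_filter, Finset.mem_univ, true_and] at h1 h2 h3'
    exact ht1 (h3 t c1 c2 c3 h12 h23 h13 h1 h2 h3')
  have hF1 : F.card = 1 := by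
    obtain ⟨k, hk⟩ := hFodd
    omega
  obtain ⟨a1, ha1⟩ := Finset.card_eq_one.mp hF1
  have hfix : ∀ c, t • c = c ↔ c = a1 := by
    intro c
    have : c ∈ F ↔ c ∈ ({a1} : Finset Ω) := by rw [ha1]
    simpa [F] using this
  -- a moved point
  obtain ⟨b1, hb1⟩ := exists_smul_ne_of_ne_one (Ω := Ω) ht1
  obtain ⟨c1, hc1⟩ : ∃ c1, c1 = t • b1 := ⟨_, rfl⟩
  have htc1 : t • c1 = b1 := by rw [hc1, ← mul_smul, ht2, one_smul]
  have htb1 : t • b1 = c1 := hc1.symm
  have hbc : b1 ≠ c1 := fun h => hb1 (htb1.trans h.symm)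
  have hab1 : a1 ≠ b1 := fun h => hb1 ((hfix b1).mpr h.symm)
  have hac1 : a1 ≠ c1 := fun h => hbc (by
    have := (hfix c1).mpr h.symm
    rw [htc1] at this
    exact this)
  have htinv : t⁻¹ = t := inv_eq_of_mul_eq_one_left ht2
  let H : Subgroup G := stabilizer G b1 ⊓ stabilizer G c1
  have hmemH : ∀ h, h ∈ H ↔ h • b1 = b1 ∧ h • c1 = c1 := fun h => Iff.rfl
  have hconj : ∀ h ∈ H, t * h * t⁻¹ ∈ H := by
    intro h hh
    rw [hmemH] at hh ⊢
    rw [htinv]
    constructor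
    · rw [mul_smul, mul_smul, htb1, hh.2, htc1]
    · rw [mul_smul, mul_smul, htc1, hh.1, htb1]
  let φ : H → H := fun h => ⟨(h : G)⁻¹ * (t * h * t⁻¹), H.mul_mem (H.inv_mem h.2) (hconj h h.2)⟩
  have hφinj : Function.Injective φ := by
    intro h1 h2 h
    have h' : (h1 : G)⁻¹ * (t * h1 * t⁻¹) = (h2 : G)⁻¹ * (t * h2 * t⁻¹) := congrArg Subtype.val h
    have hu : ((h2 : G) * (h1 : G)⁻¹) * t = t * ((h2 : G) * (h1 : G)⁻¹) := by
      have := congrArg (fun z => (h2 : G) * z * t * (h1 : G)⁻¹) h'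
      simp only [mul_assoc, inv_mul_cancel, mul_one, mul_inv_cancel_left, mul_inv_cancel] at this
      simp only [mul_assoc]
      exact this
    have huH : (h2 : G) * (h1 : G)⁻¹ ∈ H := H.mul_mem h2.2 (H.inv_mem h1.2)
    have hua : ((h2 : G) * (h1 : G)⁻¹) • a1 = a1 := by
      rw [← hfix, ← mul_smul, ← hu, mul_smul, (hfix a1).mpr rfl]
    have := h3 _ a1 b1 c1 hab1 hbc hac1 hua ((hmemH _).mp huH).1 ((hmemH _).mp huH).2
    apply Subtype.ext
    have := congrArg (fun z => z * (h1 : G)) this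
    simpa using this.symm
  have hφsurj := Finite.injective_iff_surjective.mp hφinj
  have hHN : ∀ h ∈ H, h ∈ N := by
    intro h hh
    obtain ⟨h1, hh1⟩ := hφsurj ⟨h, hh⟩
    have : (h1 : G)⁻¹ * (t * h1 * t⁻¹) = h := congrArg Subtype.val hh1
    rw [← this]
    have e1 : (h1 : G)⁻¹ * t * ((h1 : G)⁻¹)⁻¹ ∈ N := hN.conj_mem t htN _
    have := N.mul_mem e1 (N.inv_mem htN)
    simpa [mul_assoc] using this
  rw [eq_top_iff]
  intro g _
  obtain ⟨y, hyN, hyb, hyc⟩ := zass_normal_two_transitive hZ N hne (a' := b1) (b' := c1)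
    (c' := g • b1) (d' := g • c1) hbc (fun h => hbc (smul_left_cancel g h))
  have hyg : y⁻¹ * g ∈ H := by
    rw [hmemH]
    constructor
    · rw [mul_smul, ← hyb, inv_smul_smul]
    · rw [mul_smul, ← hyc, inv_smul_smul]
  have := N.mul_mem hyN (hHN _ hyg)
  simpa using this

end Cfsg.Agent.S0338
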