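import Cfsg.Statements.S0325
import Cfsg.Agent.S0327
import Cfsg.Agent.S0338

set_option autoImplicit false
open Cfsg

namespace Cfsg.Agent.S0325

/-- The Suzuki group over a field with `2^(2m+1)` elements, `m ≥ 1`, is a simple group. -/
theorem result {F : Type*} [Field F] [Fintype F] {m : ℕ} (hm : 1 ≤ m)
    (hF : Fintype.card F = 2 ^ (2 * m + 1)) :
    IsSimpleGroup (Cfsg.Sz F m) := by
  have hfin : Finite (suzukiOvoid F m) :=
    (Cfsg.Agent.Lib.Helper6.finite_suzukiOvoid (F := F) (m := m)).to_subtype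
  let _ : Fintype (suzukiOvoid F m) := Fintype.ofFinite _
  apply Cfsg.Agent.S0338.result (Cfsg.Agent.S0327.result hm hF)
  rw [← Nat.card_eq_fintype_card, Cfsg.Agent.Lib.Helper6.card_suzukiOvoid, hF]
  refine ⟨(2 ^ (2 * m + 1)) ^ 2 / 2, ?_⟩
  have : 2 ∣ (2 ^ (2 * m + 1)) ^ 2 := by
    rw [sq, pow_succ]
    exact ⟨2 ^ (2 * m) * (2 ^ (2 * m) * 2), by ring⟩
  omega

end Cfsg.Agent.S0325
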