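import Cfsg.Statements.S1044
import Cfsg.Agent.Lib.Helper18.BN5
-- import your own Cfsg.Agent.* helpers here

set_option autoImplicit false
open Cfsg

namespace Cfsg.Agent.S1044

open Cfsg.Lie Cfsg.Agent.Lib.Helper18

/-- For a fundamental root `p` the set `B ∪ B n_p B` is (the carrier of) a subgroup of the general linear group. -/
theorem result {F : Type*} [Field F] (D : Cfsg.Lie.ChevalleyDatum) (hD : D ∈ [Cfsg.Lie.chevG2, Cfsg.Lie.chevB2, Cfsg.Lie.chevD4, Cfsg.Lie.chevF4, Cfsg.Lie.chevE6, Cfsg.Lie.chevE7, Cfsg.Lie.chevE8]) (i : ℕ) (hi : i < D.rank) (n : GL D.Idx F)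
    (hn : (n : Matrix D.Idx D.Idx F) = D.nMat F (D.simple i) 1) :
    ∃ P : Subgroup (GL D.Idx F), (P : Set (GL D.Idx F)) =
      (D.borelSubgroup F : Set (GL D.Idx F)) ∪ DoubleCoset.doubleCoset n (D.borelSubgroup F : Set (GL D.Idx F)) (D.borelSubgroup F) := by
  obtain ⟨C⟩ := nonempty_chevData.{u_1} D hD
  have hns : n = sG hD C i := by
    apply Units.ext
    rw [hn, coe_sG hD C i hi]
  subst hns
  have hsN : sG (F := F) hD C i ∈ D.monomialSubgroup F := sG_mem_monomial hD C i
  have hsq : sG (F := F) hD C i * sG hD C i ∈ D.borelSubgroup F := borel_of_diagonal _ (sG_sq_mem hD C i)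
  -- the product of two elements of `B s B`
  have key : ∀ b : GL D.Idx F, b ∈ D.borelSubgroup F →
      sG hD C i * b * sG hD C i ∈ (D.borelSubgroup F : Set (GL D.Idx F)) ∪
        DoubleCoset.doubleCoset (sG hD C i) (D.borelSubgroup F : Set (GL D.Idx F)) (D.borelSubgroup F) := by
    intro b hb
    rcases sG_mul_mem_union hD C i hi (sG hD C i) hsN b hb with h | h
    · left
      rw [DoubleCoset.mem_doubleCoset] at h
      obtain ⟨x, hx, y, hy, hxy⟩ := h
      rw [hxy]
      exact mul_mem (mul_mem hx hsq) hy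
    · right
      exact h
  refine ⟨Subgroup.mk (Submonoid.mk (Subsemigroup.mk ((D.borelSubgroup F : Set (GL D.Idx F)) ∪
      DoubleCoset.doubleCoset (sG hD C i) (D.borelSubgroup F : Set (GL D.Idx F)) (D.borelSubgroup F)) ?_)
    (Or.inl (one_mem _))) ?_, rfl⟩
  · intro a b ha hb
    rcases ha with ha | ha
    · rcases hb with hb | hb
      · exact Or.inl (mul_mem ha hb)
      · right
        rw [DoubleCoset.mem_doubleCoset] at hb ⊢
        obtain ⟨x, hx, y, hy, rfl⟩ := hb
        exact ⟨a * x, mul_mem ha hx, y, hy, by group⟩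
    · rw [DoubleCoset.mem_doubleCoset] at ha
      obtain ⟨x, hx, y, hy, rfl⟩ := ha
      rcases hb with hb | hb
      · right
        rw [DoubleCoset.mem_doubleCoset]
        exact ⟨x, hx, y * b, mul_mem hy hb, by group⟩
      · rw [DoubleCoset.mem_doubleCoset] at hb
        obtain ⟨x', hx', y', hy', rfl⟩ := hb
        have e : x * sG hD C i * y * (x' * sG hD C i * y') = x * (sG hD C i * (y * x') * sG hD C i) * y' := by
          group
        rw [e]
        rcases key (y * x') (mul_mem hy hx') with h | h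
        · exact Or.inl (mul_mem (mul_mem hx h) hy')
        · right
          rw [DoubleCoset.mem_doubleCoset] at h ⊢
          obtain ⟨x'', hx'', y'', hy'', h⟩ := h
          rw [h]
          exact ⟨x * x'', mul_mem hx hx'', y'' * y', mul_mem hy'' hy', by group⟩
  · intro a ha
    rcases ha with ha | ha
    · exact Or.inl (inv_mem ha)
    · right
      rw [DoubleCoset.mem_doubleCoset] at ha ⊢
      obtain ⟨x, hx, y, hy, rfl⟩ := ha
      exact ⟨y⁻¹, inv_mem hy, (sG hD C i * sG hD C i)⁻¹ * x⁻¹, mul_mem (inv_mem hsq) (inv_mem hx), by group⟩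

end Cfsg.Agent.S1044
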