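import Cfsg.Statements.S2803
-- import your own Cfsg.Agent.* helpers here
import Cfsg.Agent.Lib.Helper47.PReduced3

set_option autoImplicit false
open Cfsg

namespace Cfsg.Agent.S2803

open Cfsg.Agent.Lib.Helper47

/-- Let L be a finite group and p a prime with C_L(O_p(L)) ≤ O_p(L), T a Sylow p-subgroup, and Y the largest p-reduced normal subgroup of L. Put T_L = C_T(Y) and L_T = N_L(T_L). Then L = L_T · C_L(Y) (elementwise), T_L = O_p(L_T), and Y = Ω₁(Z(T_L)). -/
theorem result {L : Type*} [Group L] [Finite L] {p : ℕ} [Fact p.Prime] (hchar : Subgroup.centralizer (Cfsg.pCore p L : Set L) ≤ Cfsg.pCore p L) (T : Sylow p L) (Y : Subgroup L) (hY : (Cfsg.IsPReducedNormal p Y ∧ ∀ V : Subgroup L, Cfsg.IsPReducedNormal p V → V ≤ Y)) (TL : Subgroup L) (hTL : TL = (T : Subgroup L) ⊓ Subgroup.centralizer (Y : Set L)) : (∀ g : L, ∃ a ∈ Subgroup.normalizer (TL : Set L), ∃ c ∈ Subgroup.centralizer (Y : Set L), g = a * c) ∧ (Cfsg.pCore p ↥(Subgroup.normalizer (TL : Set L))).map (Subgroup.normalizer (TL : Set L)).subtype = TL ∧ Y = Cfsg.omegaOne p (TL ⊓ Subgroup.centralizer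 (TL : Set L)) := by
  obtain ⟨hYred, hYmax⟩ := hY
  obtain ⟨hYn, hYel, hYpr⟩ := (isPReducedNormal_iff p Y).mp hYred
  have hCn : (Subgroup.centralizer (Y : Set L)).Normal := Subgroup.normal_centralizer
  subst hTL
  -- basic containments
  have hYp : IsPGroup p ↥Y := IsElementaryAbelian.isPGroup hYel
  have hYO : Y ≤ Cfsg.pCore p L := le_pCore hYn hYp
  have hOT : Cfsg.pCore p L ≤ (T : Subgroup L) := pCore_le_sylow T
  have hOC : Cfsg.pCore p L ≤ Subgroup.centralizer (Y : Set L) := pCore_le_centralizer_of_pRed hYpr
  have hYC : Y ≤ Subgroup.centralizer (Y : Set L) :=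
    Subgroup.le_centralizer_iff_isMulCommutative.mpr hYel.1
  have hOTL : Cfsg.pCore p L ≤ (T : Subgroup L) ⊓ Subgroup.centralizer (Y : Set L) := le_inf hOT hOC
  have hTLp : IsPGroup p ↥((T : Subgroup L) ⊓ Subgroup.centralizer (Y : Set L)) :=
    T.isPGroup'.to_le inf_le_left
  -- Frattini
  have hfr := normalizer_inf_sup_eq_top T (Subgroup.centralizer (Y : Set L))
  have hTN : (T : Subgroup L) ≤ Subgroup.normalizer
      (((T : Subgroup L) ⊓ Subgroup.centralizer (Y : Set L) : Subgroup L) : Set L) :=
    le_normalizer_inf_of_normal _ _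
  refine ⟨?_, ?_, ?_⟩
  · intro g
    have hg : g ∈ Subgroup.normalizer
        (((T : Subgroup L) ⊓ Subgroup.centralizer (Y : Set L) : Subgroup L) : Set L) ⊔
        Subgroup.centralizer (Y : Set L) := by rw [hfr]; trivial
    rw [Subgroup.mem_sup_of_normal_right] at hg
    obtain ⟨a, ha, c, hc, rfl⟩ := hg
    exact ⟨a, ha, c, hc, rfl⟩
  · show pCoreOf p _ = _
    apply le_antisymm
    · -- Q = O_p(N) ≤ T ∩ C
      apply le_inf
      · exact pCoreOf_le_sylow_of_le T hTN
      · -- D = Q ⊔ C is normal in L and a p-group mod C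
        have hQp := pCoreOf_isPGroup p (Subgroup.normalizer
          (((T : Subgroup L) ⊓ Subgroup.centralizer (Y : Set L) : Subgroup L) : Set L))
        have hDn : (pCoreOf p (Subgroup.normalizer
            (((T : Subgroup L) ⊓ Subgroup.centralizer (Y : Set L) : Subgroup L) : Set L)) ⊔
            Subgroup.centralizer (Y : Set L)).Normal := by
          rw [← Subgroup.normalizer_eq_top_iff, eq_top_iff, ← hfr]
          apply sup_le
          · refine le_trans ?_ (Subgroup.normalizer_inf_normalizer_le_normalizer_sup _ _)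
            apply le_inf
            · exact Subgroup.le_normalizer.trans (normalizer_le_normalizer_pCoreOf p _)
            · exact Subgroup.le_normalizer_of_normal
          · exact le_sup_right.trans Subgroup.le_normalizer
        have := hYpr _ hDn (fun d hd => exists_pow_mem_of_mem_sup hQp hd)
        exact le_sup_left.trans this
    · exact le_pCoreOf Subgroup.le_normalizer le_rfl hTLp
  · -- Y = Ω₁Z(T_L)
    have hTLcY : (T : Subgroup L) ⊓ Subgroup.centralizer (Y : Set L) ≤ Subgroup.centralizer (Y : Set L) :=
      inf_le_right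
    apply le_antisymm
    · intro y hy
      rw [mem_omegaOne_iff_of_comm (isMulCommutative_inf_centralizer _)]
      refine ⟨⟨⟨hOT (hYO hy), hYC hy⟩, ?_⟩, hYel.2 y hy⟩
      exact (Subgroup.le_centralizer_iff.mp hTLcY) hy
    · -- W = Ω₁Z(T_L); V = ⟨W^L⟩ is p-reduced
      set W := Cfsg.omegaOne p (((T : Subgroup L) ⊓ Subgroup.centralizer (Y : Set L)) ⊓
        Subgroup.centralizer ((((T : Subgroup L) ⊓ Subgroup.centralizer (Y : Set L)) : Subgroup L) : Set L))
        with hW
      have hWmem : ∀ w, w ∈ W ↔ w ∈ (((T : Subgroup L) ⊓ Subgroup.centralizer (Y : Set L)) ⊓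
        Subgroup.centralizer ((((T : Subgroup L) ⊓ Subgroup.centralizer (Y : Set L)) : Subgroup L) : Set L)) ∧
          w ^ p = 1 := fun w => mem_omegaOne_iff_of_comm (isMulCommutative_inf_centralizer _)
      have hYW : Y ≤ W := by
        intro y hy
        rw [hWmem]
        refine ⟨⟨⟨hOT (hYO hy), hYC hy⟩, ?_⟩, hYel.2 y hy⟩
        exact (Subgroup.le_centralizer_iff.mp hTLcY) hy
      have hWE : W ≤ Cfsg.omegaOne p (Cfsg.pCore p L ⊓ Subgroup.centralizer (Cfsg.pCore p L : Set L)) := by
        intro w hw
        rw [hWmem] at hw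
        rw [mem_omegaOne_iff_of_comm (isMulCommutative_inf_centralizer _)]
        have hwc : w ∈ Subgroup.centralizer (Cfsg.pCore p L : Set L) :=
          Subgroup.centralizer_le (show (Cfsg.pCore p L : Set L) ⊆ _ from hOTL) hw.1.2
        exact ⟨⟨hchar hwc, hwc⟩, hw.2⟩
      have hEn := omegaOne_center_pCore_normal p L
      have hVE : Subgroup.normalClosure (W : Set L) ≤
          Cfsg.omegaOne p (Cfsg.pCore p L ⊓ Subgroup.centralizer (Cfsg.pCore p L : Set L)) :=
        Subgroup.normalClosure_le_normal hWE
      have hTLW : (T : Subgroup L) ⊓ Subgroup.centralizer (Y : Set L) ≤ Subgroup.centralizer (W : Set L) := by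
        rw [Subgroup.le_centralizer_iff]
        intro w hw
        rw [hWmem] at hw
        exact hw.1.2
      have hVred : Cfsg.IsPReducedNormal p (Subgroup.normalClosure (W : Set L)) := by
        rw [isPReducedNormal_iff]
        refine ⟨Subgroup.normalClosure_normal, ?_, ?_⟩
        · exact IsElementaryAbelian.mono (isElementaryAbelian_omegaOne_center p _) hVE
        · intro D hD hDp
          have hCVn : (Subgroup.centralizer
              ((Subgroup.normalClosure (W : Set L) : Subgroup L) : Set L)).Normal :=
            Subgroup.normal_centralizer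
          have hCVW : Subgroup.centralizer
              ((Subgroup.normalClosure (W : Set L) : Subgroup L) : Set L) ≤
              Subgroup.centralizer (W : Set L) :=
            Subgroup.centralizer_le Subgroup.le_normalClosure
          have hCVY : Subgroup.centralizer
              ((Subgroup.normalClosure (W : Set L) : Subgroup L) : Set L) ≤
              Subgroup.centralizer (Y : Set L) :=
            hCVW.trans (Subgroup.centralizer_le (show (Y : Set L) ⊆ W from hYW))
          have hDC : D ≤ Subgroup.centralizer (Y : Set L) := by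
            apply hYpr D hD
            intro d hd
            obtain ⟨k, hk⟩ := hDp d hd
            exact ⟨k, hCVY hk⟩
          have hsplit := le_inf_sup_inf_sylow hDp T
          have hDW : D ≤ Subgroup.centralizer (W : Set L) := by
            refine hsplit.trans (sup_le (inf_le_right.trans hCVW) ?_)
            refine le_trans ?_ hTLW
            exact le_inf inf_le_right (inf_le_left.trans hDC)
          exact le_centralizer_normalClosure hDW
      exact Subgroup.le_normalClosure.trans (hYmax _ hVred)

end Cfsg.Agent.S2803
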