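import Cfsg.Statements.S2845
-- import your own Cfsg.Agent.* helpers here
import Cfsg.Agent.Lib.Helper47.Large
import Cfsg.Agent.Lib.Helper47.Subnormal
import Cfsg.Agent.Lib.Helper47.Coprime
import Cfsg.Agent.Lib.Helper47.PReduced2

set_option autoImplicit false
open Cfsg

namespace Cfsg.Agent.S2845

open Cfsg.Agent.Lib.Helper47
open scoped commutatorElement Pointwise

variable {H : Type*} [Group H]

/-- Every `p`-subgroup containing the large subgroup `Q` normalizes `Q`. -/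
theorem le_normalizer_of_isLarge [Finite H] {p : ℕ} [Fact p.Prime] {Q : Subgroup H}
    (hL : Cfsg.IsLarge Q) (hQ1 : Q ≠ ⊥) {R : Subgroup H} (hR : IsPGroup p ↥R) (hQR : Q ≤ R) :
    R ≤ Subgroup.normalizer (Q : Set H) := by
  obtain ⟨S, hS⟩ := hR.exists_le_sylow
  have hwc := isWeaklyClosed_of_isLarge hL hQ1 S (hQR.trans hS)
  intro u hu
  rw [Subgroup.mem_normalizer_iff_map_conj_eq]
  apply hwc.2 u
  rintro _ ⟨q, hq, rfl⟩
  have hqS := hS (hQR hq)
  have huS := hS hu
  exact Subgroup.mul_mem _ (Subgroup.mul_mem _ huS hqS) (Subgroup.inv_mem _ huS)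

/-- The centralizer of `O_p(L)` is a `p`-group, for `Q ≤ L` large with `O_p(L) ≠ 1`. -/
theorem isPGroup_centralizer_pCoreOf [Finite H] {p : ℕ} [Fact p.Prime] {Q : Subgroup H}
    (hQp : IsPGroup p ↥Q) (hL : Cfsg.IsLarge Q) {L : Subgroup H} (hQL : Q ≤ L)
    (hP1 : Cfsg.pCoreOf p L ≠ ⊥) :
    IsPGroup p ↥(Subgroup.centralizer (((Cfsg.pCoreOf p L) : Subgroup H) : Set H)) := by
  set P := Cfsg.pCoreOf p L with hP
  set C := Subgroup.centralizer ((P : Subgroup H) : Set H) with hC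
  have hPp : IsPGroup p ↥P := pCoreOf_isPGroup p L
  have hLP : L ≤ Subgroup.normalizer (P : Set H) :=
    Subgroup.le_normalizer.trans (normalizer_le_normalizer_pCoreOf p L)
  have hCQ : C ≤ Subgroup.normalizer (Q : Set H) :=
    centralizer_le_normalizer_of_isLarge hL hQp hPp hP1 (hQL.trans hLP)
  have hLC : L ≤ Subgroup.normalizer (C : Set H) := hLP.trans (normalizer_le_normalizer_centralizer P)
  -- `Q ∩ C ≤ P`
  have hQCP : Q ⊓ C ≤ P := by
    have h1 : Q ⊓ C ≤ L ⊓ C := inf_le_inf_right _ hQL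
    have h2 : L ⊓ C ≤ Subgroup.normalizer ((Q ⊓ C : Subgroup H) : Set H) := by
      intro x hx
      have hxC := (Subgroup.mem_inf.mp hx).2
      rw [Subgroup.mem_normalizer_iff]
      intro u
      have e1 := Subgroup.mem_normalizer_iff.mp (hCQ hxC) u
      have e2 := Subgroup.mem_normalizer_iff.mp (Subgroup.le_normalizer hxC : x ∈ Subgroup.normalizer (C : Set H)) u
      rw [Subgroup.mem_inf, Subgroup.mem_inf, e1, e2]
    have h3 : Q ⊓ C ≤ Cfsg.pCoreOf p (L ⊓ C) := le_pCoreOf h1 h2 (hQp.to_le inf_le_left)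
    have h4 : L ≤ Subgroup.normalizer ((L ⊓ C : Subgroup H) : Set H) := by
      intro x hx
      rw [Subgroup.mem_normalizer_iff]
      intro u
      have e1 := Subgroup.mem_normalizer_iff.mp (Subgroup.le_normalizer hx : x ∈ Subgroup.normalizer (L : Set H)) u
      have e2 := Subgroup.mem_normalizer_iff.mp (hLC hx) u
      rw [Subgroup.mem_inf, Subgroup.mem_inf, e1, e2]
    have h5 : Cfsg.pCoreOf p (L ⊓ C) ≤ P :=
      le_pCoreOf ((pCoreOf_le p _).trans inf_le_left)
        (h4.trans (normalizer_le_normalizer_pCoreOf p _)) (pCoreOf_isPGroup p _)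
    exact h3.trans h5
  apply isPGroup_subgroup_of_forall_coprime_eq_one
  intro x hx hco
  -- `x` centralizes `Q`
  have hxQ : x ∈ Subgroup.centralizer (Q : Set H) := by
    rw [Subgroup.mem_centralizer_iff]
    intro q hq
    have h1 : ⁅q, x⁆ ∈ Q := by
      have h2 : ⁅q, x⁆ = q * (x * q⁻¹ * x⁻¹) := by simp [commutatorElement_def, mul_assoc]
      rw [h2]
      exact Q.mul_mem hq ((Subgroup.mem_normalizer_iff.mp (hCQ hx) _).mp (Q.inv_mem hq))
    have h3 : ⁅q, x⁆ ∈ C := by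
      have h2 : ⁅q, x⁆ = (q * x * q⁻¹) * x⁻¹ := by simp [commutatorElement_def, mul_assoc]
      rw [h2]
      exact C.mul_mem ((Subgroup.mem_normalizer_iff.mp (hLC (hQL hq)) _).mp hx) (C.inv_mem hx)
    have h4 : ⁅q, x⁆ ∈ P := hQCP (Subgroup.mem_inf.mpr ⟨h1, h3⟩)
    have hcomm : Commute ⁅q, x⁆ x := (Subgroup.mem_centralizer_iff.mp hx) _ h4
    exact (commute_of_coprime_of_commutator_commute hPp x hco q h4 hcomm).eq
  have hxQ' : x ∈ Q := hL.1 hxQ
  obtain ⟨k, hk⟩ := hQp ⟨x, hxQ'⟩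
  have hk' : x ^ p ^ k = 1 := by simpa using congrArg Subtype.val hk
  have h1 : orderOf x ∣ p ^ k := orderOf_dvd_of_pow_eq_one hk'
  have h2 : orderOf x = 1 :=
    Nat.eq_one_of_dvd_coprimes (Nat.Coprime.pow_right k hco) (dvd_refl _) h1
  exact orderOf_eq_one_iff.mp h2

/-- transfer: if `C_H(O_p(L)) ∩ L ≤ O_p(L)` in `H` then `L` has characteristic `p`. -/
theorem charP_of_ambient {p : ℕ} {L : Subgroup H}
    (h : Subgroup.centralizer ((Cfsg.pCoreOf p L : Subgroup H) : Set H) ⊓ L ≤ Cfsg.pCoreOf p L) :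
    Subgroup.centralizer (Cfsg.pCore p ↥L : Set ↥L) ≤ Cfsg.pCore p ↥L := by
  intro x hx
  have h1 : (x : H) ∈ Subgroup.centralizer ((Cfsg.pCoreOf p L : Subgroup H) : Set H) := by
    rw [Subgroup.mem_centralizer_iff]
    rintro _ ⟨y, hy, rfl⟩
    have := (Subgroup.mem_centralizer_iff.mp hx) y hy
    exact congrArg Subtype.val this
  obtain ⟨x', hx', hxx⟩ := h (Subgroup.mem_inf.mpr ⟨h1, x.2⟩)
  have : x' = x := Subtype.ext hxx
  rw [← this]; exact hx'

theorem pCoreOf_ne_bot {p : ℕ} {L : Subgroup H} (h : Cfsg.pCore p ↥L ≠ ⊥) :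
    Cfsg.pCoreOf p L ≠ ⊥ := by
  intro h0
  apply h
  unfold Cfsg.pCoreOf at h0
  exact (Subgroup.map_eq_bot_iff_of_injective _ L.subtype_injective).mp h0

/-- `C_H(O_p(L)) ∩ L ≤ O_p(L)`. -/
theorem centralizer_inf_le_pCoreOf [Finite H] {p : ℕ} [Fact p.Prime] {Q : Subgroup H}
    (hQp : IsPGroup p ↥Q) (hL : Cfsg.IsLarge Q) {L : Subgroup H} (hQL : Q ≤ L)
    (hP1 : Cfsg.pCoreOf p L ≠ ⊥) :
    Subgroup.centralizer ((Cfsg.pCoreOf p L : Subgroup H) : Set H) ⊓ L ≤ Cfsg.pCoreOf p L := by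
  have hCp := isPGroup_centralizer_pCoreOf hQp hL hQL hP1
  have hLP : L ≤ Subgroup.normalizer ((Cfsg.pCoreOf p L : Subgroup H) : Set H) :=
    Subgroup.le_normalizer.trans (normalizer_le_normalizer_pCoreOf p L)
  have hLC := hLP.trans (normalizer_le_normalizer_centralizer (Cfsg.pCoreOf p L))
  apply le_pCoreOf inf_le_right _ (hCp.to_le inf_le_left)
  intro x hx
  rw [Subgroup.mem_normalizer_iff]
  intro u
  have e1 := Subgroup.mem_normalizer_iff.mp (hLC hx) u
  have e2 := Subgroup.mem_normalizer_iff.mp (Subgroup.le_normalizer hx : x ∈ Subgroup.normalizer (L : Set H)) u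
  rw [Subgroup.mem_inf, Subgroup.mem_inf, e1, e2]

/-- The weak closure alternative. -/
theorem weakClosure_alt [Finite H] {p : ℕ} [Fact p.Prime] {Q : Subgroup H}
    (hQp : IsPGroup p ↥Q) (hQ1 : Q ≠ ⊥) (hL : Cfsg.IsLarge Q) {L : Subgroup H} (hQL : Q ≤ L) :
    Cfsg.weakClosure Q L = Q ∨
      Subgroup.centralizer (((Cfsg.weakClosure Q L) : Subgroup H) : Set H) = ⊥ := by
  by_cases hU : Subgroup.centralizer (((Cfsg.weakClosure Q L) : Subgroup H) : Set H) = ⊥
  · exact Or.inr hU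
  left
  set W := Cfsg.weakClosure Q L with hW
  set U := Subgroup.centralizer ((W : Subgroup H) : Set H) with hUdef
  have hQW : Q ≤ W := by
    have h1 : Q.map (MulAut.conj (1 : H)).toMonoidHom ≤ L := by rw [map_conj_one]; exact hQL
    have := le_iSup (fun g : {g : H // Q.map (MulAut.conj g).toMonoidHom ≤ L} =>
      Q.map (MulAut.conj (g : H)).toMonoidHom) ⟨1, h1⟩
    rw [map_conj_one] at this
    exact this
  have hUQ : U ≤ Subgroup.centralizer (Q : Set H) := Subgroup.centralizer_le hQW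
  have hNU : Subgroup.normalizer (U : Set H) ≤ Subgroup.normalizer (Q : Set H) := hL.2 U hUQ hU
  have hWN : W ≤ Subgroup.normalizer (Q : Set H) := by
    have h1 : W ≤ Subgroup.centralizer (U : Set H) := Subgroup.le_centralizer_iff.mp le_rfl
    exact (h1.trans (Subgroup.centralizer_le_normalizer _)).trans hNU
  apply le_antisymm _ hQW
  apply iSup_le
  rintro ⟨g, hg⟩
  show Q.map (MulAut.conj g).toMonoidHom ≤ Q
  set Qg := Q.map (MulAut.conj g).toMonoidHom with hQg
  have hQgW : Qg ≤ W := le_iSup (fun g : {g : H // Q.map (MulAut.conj g).toMonoidHom ≤ L} =>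
      Q.map (MulAut.conj (g : H)).toMonoidHom) ⟨g, hg⟩
  have hQgN : Qg ≤ Subgroup.normalizer (Q : Set H) := hQgW.trans hWN
  have hQgp : IsPGroup p ↥Qg := hQp.map _
  have hsup : IsPGroup p ↥(Qg ⊔ Q) := IsPGroup.to_sup_of_normal_right' hQgp hQp hQgN
  obtain ⟨S, hS⟩ := hsup.exists_le_sylow
  have hwc := isWeaklyClosed_of_isLarge hL hQ1 S (le_sup_right.trans hS)
  exact (hwc.2 g (le_sup_left.trans hS)).le

/-- Let Q be a nontrivial large p-subgroup of the finite group H. Then for every subgroup L ≥ Q with O_p(L) ≠ 1, C_H(O_p(L)) is a p-group and L has characteristic p, and either the weak closure L° of Q in L equals Q or C_H(L°) = 1; for every subgroup R of H containing a Sylow p-subgroup of H with O_p(R) ≠ 1, C_H(O_p(R)) ≤ O_p(R); and H has parabolic characteristic p. -/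
theorem result {H : Type*} [Group H] [Finite H] {p : ℕ} [Fact p.Prime] (Q : Subgroup H) (hQp : IsPGroup p ↥Q) (hQ1 : Q ≠ ⊥) (hL : Cfsg.IsLarge Q) : (∀ L : Subgroup H, Q ≤ L → Cfsg.pCore p ↥L ≠ ⊥ → IsPGroup p ↥(Subgroup.centralizer (((Cfsg.pCoreOf p L) : Subgroup H) : Set H)) ∧ Subgroup.centralizer (Cfsg.pCore p ↥L : Set ↥L) ≤ Cfsg.pCore p ↥L ∧ (Cfsg.weakClosure Q L = Q ∨ Subgroup.centralizer (((Cfsg.weakClosure Q L) : Subgroup H) : Set H) = ⊥)) ∧ (∀ R : Subgroup H, Cfsg.IsParabolic p R → Cfsg.pCore p ↥R ≠ ⊥ → Subgroup.centralizer (((Cfsg.pCoreOf p R) : Subgroup H) : Set H) ≤ (Cfsg.pCoreOf p R)) ∧ Cfsg.IsOfParabolicCharacteristic p H := by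
  have hB : ∀ R : Subgroup H, Cfsg.IsParabolic p R → Cfsg.pCore p ↥R ≠ ⊥ → Subgroup.centralizer (((Cfsg.pCoreOf p R) : Subgroup H) : Set H) ≤ (Cfsg.pCoreOf p R) := by
    rintro R ⟨T, hTR⟩ hR1
    obtain ⟨h, hh⟩ := exists_le_map_conj_sylow T hQp
    -- `Q' = Q^{h⁻¹} ≤ T`
    set Q' := Q.map (MulAut.conj h⁻¹).toMonoidHom with hQ'
    have hQ'T : Q' ≤ (T : Subgroup H) := by
      have := Subgroup.map_mono (f := (MulAut.conj h⁻¹).toMonoidHom) hh
      rw [map_conj_map_conj, inv_mul_cancel, map_conj_one] at this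
      exact this
    have hQ'L : Cfsg.IsLarge Q' := isLarge_map_conj hL _
    have hQ'p : IsPGroup p ↥Q' := hQp.map _
    have hP1 := pCoreOf_ne_bot hR1
    have hCp := isPGroup_centralizer_pCoreOf hQ'p hQ'L (hQ'T.trans hTR) hP1
    set C := Subgroup.centralizer (((Cfsg.pCoreOf p R) : Subgroup H) : Set H) with hC
    have hRP : R ≤ Subgroup.normalizer ((Cfsg.pCoreOf p R : Subgroup H) : Set H) :=
      Subgroup.le_normalizer.trans (normalizer_le_normalizer_pCoreOf p R)
    have hRC : R ≤ Subgroup.normalizer (C : Set H) :=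
      hRP.trans (normalizer_le_normalizer_centralizer (Cfsg.pCoreOf p R))
    have hsup : IsPGroup p ↥(C ⊔ (T : Subgroup H)) :=
      IsPGroup.to_sup_of_normal_left' hCp T.2 (hTR.trans hRC)
    have hCT : C ≤ (T : Subgroup H) := by
      have := T.is_maximal' hsup le_sup_right
      rw [← this]; exact le_sup_left
    have hCR : C ≤ R := hCT.trans hTR
    have := centralizer_inf_le_pCoreOf hQ'p hQ'L (hQ'T.trans hTR) hP1
    rw [← hC] at this
    rwa [inf_eq_left.mpr hCR] at this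
  refine ⟨?_, hB, ?_⟩
  · intro L hQL hL1
    have hP1 := pCoreOf_ne_bot hL1
    exact ⟨isPGroup_centralizer_pCoreOf hQp hL hQL hP1,
      charP_of_ambient (centralizer_inf_le_pCoreOf hQp hL hQL hP1),
      weakClosure_alt hQp hQ1 hL hQL⟩
  · intro R₀ hR₀p hR₀1 hpar
    set N := Subgroup.normalizer (R₀ : Set H) with hN
    have h1 : R₀ ≤ Cfsg.pCoreOf p N := le_pCoreOf Subgroup.le_normalizer le_rfl hR₀p
    have hN1 : Cfsg.pCore p ↥N ≠ ⊥ := by
      intro h0
      apply hR₀1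
      have : Cfsg.pCoreOf p N = ⊥ := by unfold Cfsg.pCoreOf; rw [h0]; exact Subgroup.map_bot _
      rw [this] at h1
      exact le_bot_iff.mp h1
    exact charP_of_ambient (inf_le_left.trans (hB N hpar hN1))

end Cfsg.Agent.S2845
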