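import Cfsg.Statements.S1446
import Cfsg.Agent.Lib.Helper24.FrobStab
import Cfsg.Agent.Lib.Helper1.ThompsonFpf
import Cfsg.Agent.S1545
-- import your own Cfsg.Agent.* helpers here

set_option autoImplicit false
open Cfsg

namespace Cfsg.Agent.S1446

/-- Let X be a finite group with subgroups K, R, M such that: K and R are nontrivial, K ∩ R = 1, R normalizes K, no non-identity element of R centralizes a non-identity element of K, K ⊔ R is solvable of odd order; M is nilpotent and nontrivial, normalized by K and by R, with order coprime to that of K ⊔ R, M ∩ C(K) = 1, and M ∩ C(x) = M ∩ C(R) for all non-identity x ∈ R. Then R has prime order p, #M = #(M ∩ C(R)) ^ p, and if M ∩ C(R) is cyclic then [K, K] centralizes M. -/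
theorem result {X : Type*} [Group X] [Finite X] (K R M : Subgroup X) (hK1 : K ≠ ⊥) (hR1 : R ≠ ⊥) (hKR : K ⊓ R = ⊥)
    (hRK : R ≤ Subgroup.normalizer (K : Set X)) (hfrob : ∀ r ∈ R, r ≠ 1 → K ⊓ Subgroup.centralizer ({r} : Set X) = ⊥)
    (hsolv : Group.IsSolvable ↥(K ⊔ R)) (hodd : Odd (Nat.card ↥(K ⊔ R)))
    (hM1 : M ≠ ⊥) (hMn : Group.IsNilpotent M) (hKM : K ≤ Subgroup.normalizer (M : Set X)) (hRM : R ≤ Subgroup.normalizer (M : Set X))
    (hcop : (Nat.card ↥(K ⊔ R)).Coprime (Nat.card M)) (hCK : M ⊓ Subgroup.centralizer (K : Set X) = ⊥)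
    (hpr : ∀ x ∈ R, x ≠ 1 → M ⊓ Subgroup.centralizer ({x} : Set X) = M ⊓ Subgroup.centralizer (R : Set X)) :
    (Nat.card R).Prime ∧ Nat.card M = Nat.card ↥(M ⊓ Subgroup.centralizer (R : Set X)) ^ Nat.card R ∧
      (IsCyclic ↥(M ⊓ Subgroup.centralizer (R : Set X)) → ⁅K, K⁆ ≤ Subgroup.centralizer (M : Set X)) := by
  classical
  have hKle : K ≤ K ⊔ R := le_sup_left
  have hRle : R ≤ K ⊔ R := le_sup_right
  have hcopK : (Nat.card K).Coprime (Nat.card M) :=
    hcop.coprime_dvd_left (Subgroup.card_dvd_of_le hKle)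
  have hcopR : (Nat.card R).Coprime (Nat.card M) :=
    hcop.coprime_dvd_left (Subgroup.card_dvd_of_le hRle)
  have hMsolv : Group.IsSolvable ↥M := inferInstance
  -- the order formula for subgroups of `R`
  have formula : ∀ R0 : Subgroup X, R0 ≤ R → R0 ≠ ⊥ →
      Nat.card M = Nat.card ↥(M ⊓ Subgroup.centralizer (R0 : Set X)) ^ Nat.card R0 := by
    intro R0 hR0 hR01
    have hsup : K ⊔ R0 ≤ K ⊔ R := sup_le_sup_left hR0 K
    have hcop' : Nat.Coprime (Nat.card M) (Nat.card ↥(K ⊔ R0)) :=
      (hcop.coprime_dvd_left (Subgroup.card_dvd_of_le hsup)).symm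
    have hdisj : M ⊓ (K ⊔ R0) = ⊥ := by
      rw [← Subgroup.card_eq_one]
      have h1 : Nat.card ↥(M ⊓ (K ⊔ R0)) ∣ Nat.card M := Subgroup.card_dvd_of_le inf_le_left
      have h2 : Nat.card ↥(M ⊓ (K ⊔ R0)) ∣ Nat.card ↥(K ⊔ R0) :=
        Subgroup.card_dvd_of_le inf_le_right
      exact Nat.eq_one_of_dvd_coprimes hcop' h1 h2
    have h := Cfsg.Agent.S1545.result K R0 M hK1 hR01
      (by rw [eq_bot_iff, ← hKR]; exact inf_le_inf_left K hR0)
      (fun e he u hu => (Subgroup.mem_normalizer_iff.mp (hRK (hR0 he)) u).mp hu)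
      (fun e he he1 u hu hcomm => by
        have hmem : u ∈ K ⊓ Subgroup.centralizer ({e} : Set X) := by
          refine Subgroup.mem_inf.mpr ⟨hu, Subgroup.mem_centralizer_iff.mpr ?_⟩
          intro y hy
          rw [Set.mem_singleton_iff] at hy
          subst hy
          exact hcomm
        rw [hfrob e (hR0 he) he1, Subgroup.mem_bot] at hmem
        exact hmem)
      (fun x hx h hh => by
        have hxN : x ∈ Subgroup.normalizer (M : Set X) := (sup_le hKM hRM) (hsup hx)
        exact (Subgroup.mem_normalizer_iff.mp hxN h).mp hh)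
      hdisj hMsolv hcop'
    have hC1 : Nat.card ↥(M ⊓ Subgroup.centralizer (K : Set X)) = 1 := by
      rw [hCK]; exact Subgroup.card_bot
    have hC2 : Nat.card ↥(M ⊓ Subgroup.centralizer ((K ⊔ R0 : Subgroup X) : Set X)) = 1 := by
      have hle : M ⊓ Subgroup.centralizer ((K ⊔ R0 : Subgroup X) : Set X) ≤
          M ⊓ Subgroup.centralizer (K : Set X) :=
        inf_le_inf_left M (Subgroup.centralizer_le (by exact_mod_cast (le_sup_left : K ≤ K ⊔ R0)))
      rw [hCK, le_bot_iff] at hle
      rw [hle]; exact Subgroup.card_bot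
    rw [hC1, hC2, one_pow, one_mul, mul_one] at h
    exact h
  -- an element of prime order in `R`
  have hcardR : Nat.card R ≠ 1 := fun h => hR1 (Subgroup.card_eq_one.mp h)
  obtain ⟨q, hq, hqdvd⟩ := Nat.exists_prime_and_dvd hcardR
  have hqfact : Fact q.Prime := ⟨hq⟩
  obtain ⟨x, hx⟩ := exists_prime_orderOf_dvd_card' (G := ↥R) q hqdvd
  have hxX : orderOf (x : X) = q := by rw [Subgroup.orderOf_coe]; exact hx
  have hx1 : (x : X) ≠ 1 := by
    intro h1
    rw [h1, orderOf_one] at hxX
    exact hq.one_lt.ne hxX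
  have hR0le : Subgroup.zpowers (x : X) ≤ R := Subgroup.zpowers_le.mpr x.2
  have hR0card : Nat.card ↥(Subgroup.zpowers (x : X)) = q := by rw [Nat.card_zpowers, hxX]
  have hR0ne : Subgroup.zpowers (x : X) ≠ ⊥ := by
    intro h0
    rw [Subgroup.zpowers_eq_bot] at h0
    exact hx1 h0
  have hcent : Subgroup.centralizer ((Subgroup.zpowers (x : X) : Subgroup X) : Set X) =
      Subgroup.centralizer ({(x : X)} : Set X) := by
    rw [Subgroup.zpowers_eq_closure, Subgroup.centralizer_closure]
  have hf1 := formula (Subgroup.zpowers (x : X)) hR0le hR0ne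
  rw [hcent, hpr (x : X) x.2 hx1, hR0card] at hf1
  have hf2 := formula R le_rfl hR1
  -- compare exponents
  have hMcard : 1 < Nat.card M := by
    rw [Subgroup.one_lt_card_iff_ne_bot]; exact hM1
  have hc2 : 2 ≤ Nat.card ↥(M ⊓ Subgroup.centralizer (R : Set X)) := by
    by_contra hlt
    push Not at hlt
    have hpos : 0 < Nat.card ↥(M ⊓ Subgroup.centralizer (R : Set X)) := Nat.card_pos
    have h1 : Nat.card ↥(M ⊓ Subgroup.centralizer (R : Set X)) = 1 := by omega
    rw [h1, one_pow] at hf2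
    omega
  have hqR : q = Nat.card R := by
    apply Nat.pow_right_injective hc2
    show Nat.card ↥(M ⊓ Subgroup.centralizer (R : Set X)) ^ q =
      Nat.card ↥(M ⊓ Subgroup.centralizer (R : Set X)) ^ Nat.card R
    rw [← hf1, ← hf2]
  have hRprime : (Nat.card R).Prime := hqR ▸ hq
  refine ⟨hRprime, hf2, ?_⟩
  intro hcyc
  -- `K` is nilpotent by Thompson's theorem
  have hKnil : Group.IsNilpotent ↥K := by
    have hpow : (Cfsg.Agent.Lib.Helper24.conjOn R K hRK x) ^ q = 1 := by
      rw [← map_pow, ← hx, pow_orderOf_eq_one, map_one]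
    have hφ : ∀ f : ↥K, Cfsg.Agent.Lib.Helper24.conjOn R K hRK x f = f → f = 1 := by
      intro f hf
      have h1 : (x : X) * f * (x : X)⁻¹ = f := by
        have := congrArg Subtype.val hf
        rwa [Cfsg.Agent.Lib.Helper24.conjOn_apply] at this
      have hmem : (f : X) ∈ K ⊓ Subgroup.centralizer {(x : X)} := by
        refine Subgroup.mem_inf.mpr ⟨f.2, Subgroup.mem_centralizer_iff.mpr ?_⟩
        intro y hy
        rw [Set.mem_singleton_iff] at hy
        subst hy
        calc (x : X) * f = (x : X) * f * (x : X)⁻¹ * x := by group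
          _ = f * x := by rw [h1]
      rw [hfrob x x.2 hx1, Subgroup.mem_bot] at hmem
      exact Subtype.ext hmem
    exact Cfsg.Agent.Lib.Helper1.fpf_nilpotent_aux q hq _ ↥K rfl _ hpow hφ
  exact Cfsg.Agent.Lib.Helper24.derived_centralizes_of_cyclic_fixed K R hRK hfrob hRprime hKnil
    (Nat.card M) M rfl hMn hKM hRM hcopK hcopR hcyc

end Cfsg.Agent.S1446
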