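import Cfsg.Statements.S2824
-- import your own Cfsg.Agent.* helpers here
import Cfsg.Agent.Lib.Helper47.PReduced6

set_option autoImplicit false
open Cfsg

namespace Cfsg.Agent.S2824

open Cfsg.Agent.Lib.Helper47

/-- Let H be a finite group, p a prime, T a Sylow p-subgroup, L and M subgroups of characteristic p containing T, Y_L the largest p-reduced normal subgroup of L and T₀ = C_T(Y_L). If M·C_H(Y_L) = L·C_H(Y_L), then L* := N_M(T₀) has Y_{L*} = Y_L and L·C_H(Y_L) = L*·C_H(Y_L). -/
theorem result {H : Type*} [Group H] [Finite H] {p : ℕ} [Fact p.Prime] (T : Sylow p H) (L M : Subgroup H) (hTL : (T : Subgroup H) ≤ L) (hTM : (T : Subgroup H) ≤ M) (hL : Subgroup.centralizer (Cfsg.pCore p ↥L : Set ↥L) ≤ Cfsg.pCore p ↥L) (hM : Subgroup.centralizer (Cfsg.pCore p ↥M : Set ↥M) ≤ Cfsg.pCore p ↥M) (T₀ : Subgroup H) (hT₀ : T₀ = (T : Subgroup H) ⊓ Subgroup.centralizer (((Cfsg.largestPReducedOf p L) : Subgroup H) : Set H)) (hfac : M ⊔ Subgroup.centralizer (((Cfsg.largestPReducedOf p L) : Subgroup H) : Set H)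 = L ⊔ Subgroup.centralizer (((Cfsg.largestPReducedOf p L) : Subgroup H) : Set H)) (Ls : Subgroup H) (hLs : Ls = M ⊓ Subgroup.normalizer ((T₀ : Subgroup H) : Set H)) : (Cfsg.largestPReducedOf p Ls) = (Cfsg.largestPReducedOf p L) ∧ L ⊔ Subgroup.centralizer (((Cfsg.largestPReducedOf p L) : Subgroup H) : Set H) = Ls ⊔ Subgroup.centralizer (((Cfsg.largestPReducedOf p L) : Subgroup H) : Set H) := by
  subst hT₀ hLs
  set YL := Cfsg.largestPReducedOf p L with hYL
  have hLN : L ≤ Subgroup.normalizer (YL : Set H) := le_normalizer_largestPReducedOf p L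
  have hCN : Subgroup.centralizer (YL : Set H) ≤ Subgroup.normalizer (YL : Set H) :=
    Subgroup.centralizer_le_normalizer _
  have hNC : Subgroup.normalizer (YL : Set H) ≤
      Subgroup.normalizer ((Subgroup.centralizer (YL : Set H) : Subgroup H) : Set H) :=
    normalizer_le_normalizer_centralizer _
  have hMN : M ≤ Subgroup.normalizer (YL : Set H) := by
    have : M ≤ L ⊔ Subgroup.centralizer (YL : Set H) := by rw [← hfac]; exact le_sup_left
    exact this.trans (sup_le hLN hCN)
  have hMC : M ≤ Subgroup.normalizer ((Subgroup.centralizer (YL : Set H) : Subgroup H) : Set H) :=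
    hMN.trans hNC
  have hTC : (T : Subgroup H) ≤
      Subgroup.normalizer ((Subgroup.centralizer (YL : Set H) : Subgroup H) : Set H) := hTM.trans hMC
  have hT₀M : (T : Subgroup H) ⊓ Subgroup.centralizer (YL : Set H) ≤ M := inf_le_left.trans hTM
  have hTnT₀ : (T : Subgroup H) ≤ Subgroup.normalizer
      ((((T : Subgroup H) ⊓ Subgroup.centralizer (YL : Set H)) : Subgroup H) : Set H) := by
    refine le_trans ?_ Subgroup.inf_normalizer_le_normalizer_inf
    exact le_inf Subgroup.le_normalizer hTC
  have hTLs : (T : Subgroup H) ≤ M ⊓ Subgroup.normalizer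
      ((((T : Subgroup H) ⊓ Subgroup.centralizer (YL : Set H)) : Subgroup H) : Set H) :=
    le_inf hTM hTnT₀
  -- part 2: Frattini argument in M
  have h2 : L ⊔ Subgroup.centralizer (YL : Set H) = (M ⊓ Subgroup.normalizer
      ((((T : Subgroup H) ⊓ Subgroup.centralizer (YL : Set H)) : Subgroup H) : Set H)) ⊔
      Subgroup.centralizer (YL : Set H) := by
    rw [← hfac]
    apply le_antisymm
    · apply sup_le _ le_sup_right
      intro m hm
      have hn : ((Subgroup.centralizer (YL : Set H)).subgroupOf M).Normal :=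
        Subgroup.normal_subgroupOf_of_le_normalizer hMC
      have hfr := normalizer_inf_sup_eq_top (T.subtype hTM) ((Subgroup.centralizer (YL : Set H)).subgroupOf M)
      have hmem : (⟨m, hm⟩ : ↥M) ∈ Subgroup.normalizer
          ((((T.subtype hTM : Sylow p ↥M) : Subgroup ↥M) ⊓
            (Subgroup.centralizer (YL : Set H)).subgroupOf M : Subgroup ↥M) : Set ↥M) ⊔
          (Subgroup.centralizer (YL : Set H)).subgroupOf M := by rw [hfr]; trivial
      rw [Subgroup.mem_sup_of_normal_right] at hmem
      obtain ⟨a, ha, c, hc, hac⟩ := hmem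
      have heq : ((T.subtype hTM : Sylow p ↥M) : Subgroup ↥M) ⊓
          (Subgroup.centralizer (YL : Set H)).subgroupOf M =
          ((T : Subgroup H) ⊓ Subgroup.centralizer (YL : Set H)).subgroupOf M := by
        rw [Sylow.coe_subtype]
        ext x
        simp [Subgroup.mem_subgroupOf]
      rw [heq, ← Subgroup.subgroupOf_normalizer_eq hT₀M, Subgroup.mem_subgroupOf] at ha
      rw [Subgroup.mem_subgroupOf] at hc
      have hm' : m = (a : H) * (c : H) := by
        have := congrArg Subtype.val hac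
        simpa using this.symm
      rw [hm']
      exact Subgroup.mul_mem_sup ⟨a.2, ha⟩ hc
    · exact sup_le_sup_right inf_le_left _
  refine ⟨?_, h2⟩
  apply le_antisymm
  · -- Y_{L*} ≤ Ω₁Z(T₀) ≤ Y_L
    refine le_trans ?_ (omegaOne_center_centralizer_le_largestPReducedOf T L hTL hL)
    set Ls := M ⊓ Subgroup.normalizer
      ((((T : Subgroup H) ⊓ Subgroup.centralizer (YL : Set H)) : Subgroup H) : Set H) with hLs
    have hT₀O : (T : Subgroup H) ⊓ Subgroup.centralizer (YL : Set H) ≤ Cfsg.pCoreOf p Ls := by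
      apply le_pCoreOf
      · exact le_inf hT₀M Subgroup.le_normalizer
      · exact inf_le_right
      · exact T.isPGroup'.to_le inf_le_left
    have hOT : Cfsg.pCoreOf p Ls ≤ (T : Subgroup H) := pCoreOf_le_sylow_of_le T hTLs
    have hYLT₀ : YL ≤ (T : Subgroup H) ⊓ Subgroup.centralizer (YL : Set H) := by
      apply le_inf
      · exact (largestPReducedOf_le_pCoreOf p L).trans (pCoreOf_le_sylow_of_le T hTL)
      · exact Subgroup.le_centralizer_iff_isMulCommutative.mpr (isElementaryAbelian_largestPReducedOf p L).1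
    intro y hy
    have hy' := largestPReducedOf_le_omegaOne p Ls hy
    rw [mem_omegaOne_center_iff] at hy' ⊢
    obtain ⟨hyO, hyC, hyp⟩ := hy'
    have hyC₀ : y ∈ Subgroup.centralizer ((((T : Subgroup H) ⊓ Subgroup.centralizer (YL : Set H)) : Subgroup H) : Set H) :=
      Subgroup.centralizer_le (show ((((T : Subgroup H) ⊓ Subgroup.centralizer (YL : Set H)) : Subgroup H) : Set H) ⊆ _ from hT₀O) hyC
    have hyCY : y ∈ Subgroup.centralizer (YL : Set H) :=
      Subgroup.centralizer_le (show (YL : Set H) ⊆ _ from hYLT₀) hyC₀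
    exact ⟨Subgroup.mem_inf.mpr ⟨hOT hyO, hyCY⟩, hyC₀, hyp⟩
  · exact largestPReducedOf_le_of_sup_centralizer_eq T _ L hTLs hTL h2.symm

end Cfsg.Agent.S2824
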