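import Cfsg.Statements.S2426
import Mathlib
import Cfsg.Agent.Lib.Helper53.SteinbergSL2
import Cfsg.Agent.Lib.Helper53.SteinbergSL2Iso

set_option autoImplicit false
open Cfsg
open Cfsg.Agent.Lib.Helper53

namespace Cfsg.Agent.S2426

/-- The rank-one Steinberg presentation of `SL₂` over a finite field `K`: generators `x(t)`, `y(t)` (`t ∈ K`; the two opposite root subgroups) subject to additivity `x(t)x(u) = x(t+u)`, `y(t)y(u) = y(t+u)` and, with `w(t) = x(t) y(−t⁻¹) x(t)` and `w'(t) = y(t) x(−t⁻¹) y(t)` for `t ≠ 0`, the relations `w(t) x(u) w(t)⁻¹ = y(−t⁻² u)` and `w'(t) y(u) w'(t)⁻¹ = x(−t⁻² u)`, present `SL₂(K)`, with `x(t) ↦ (1 t; 0 1)` and `y(t) ↦ (1 0; t 1)`. -/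
theorem result {K : Type*} [Field K] [Finite K] :
    ∃ e : PresentedGroup
        ({g : FreeGroup (Bool × K) | ∃ (b : Bool) (t u : K), g = FreeGroup.of (b, t) * FreeGroup.of (b, u) * (FreeGroup.of (b, t + u))⁻¹} ∪
          {g | ∃ (b : Bool) (t u : K), t ≠ 0 ∧
            g = (FreeGroup.of (b, t) * FreeGroup.of (!b, -t⁻¹) * FreeGroup.of (b, t)) * FreeGroup.of (b, u) *
                  (FreeGroup.of (b, t) * FreeGroup.of (!b, -t⁻¹) * FreeGroup.of (b, t))⁻¹ * (FreeGroup.of (!b, -(t⁻¹ ^ 2 * u)))⁻¹})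
        ≃* Matrix.SpecialLinearGroup (Fin 2) K,
      (∀ t : K, ((e (PresentedGroup.of (true, t)) : Matrix (Fin 2) (Fin 2) K)) = !![1, t; 0, 1]) ∧
      (∀ t : K, ((e (PresentedGroup.of (false, t)) : Matrix (Fin 2) (Fin 2) K)) = !![1, 0; t, 1]) := by
  classical
  set rels : Set (FreeGroup (Bool × K)) :=
    ({g : FreeGroup (Bool × K) | ∃ (b : Bool) (t u : K), g = FreeGroup.of (b, t) * FreeGroup.of (b, u) * (FreeGroup.of (b, t + u))⁻¹} ∪
          {g | ∃ (b : Bool) (t u : K), t ≠ 0 ∧
            g = (FreeGroup.of (b, t) * FreeGroup.of (!b, -t⁻¹) * FreeGroup.of (b, t)) * FreeGroup.of (b, u) *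
                  (FreeGroup.of (b, t) * FreeGroup.of (!b, -t⁻¹) * FreeGroup.of (b, t))⁻¹ * (FreeGroup.of (!b, -(t⁻¹ ^ 2 * u)))⁻¹}) with hrels
  -- the images of the generators in SL₂
  let f : Bool × K → Matrix.SpecialLinearGroup (Fin 2) K :=
    fun p => if p.1 then Steinberg.xM p.2 else Steinberg.yM p.2
  have dM : Steinberg.Data (Steinberg.xM : K → _) Steinberg.yM := Steinberg.dataM
  have hf : ∀ r ∈ rels, FreeGroup.lift f r = 1 := by
    intro r hr
    rcases hr with ⟨b, t, u, rfl⟩ | ⟨b, t, u, ht, rfl⟩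
    · cases b
      · simp only [map_mul, map_inv, FreeGroup.lift_apply_of, f]
        simp only [Bool.false_eq_true, if_false]
        rw [dM.addY, mul_inv_cancel]
      · simp only [map_mul, map_inv, FreeGroup.lift_apply_of, f]
        simp only [if_true]
        rw [dM.addX, mul_inv_cancel]
    · cases b
      · simp only [map_mul, map_inv, FreeGroup.lift_apply_of, f, Bool.not_false]
        simp only [Bool.false_eq_true, if_false, if_true]
        have h := dM.relY t u ht
        rw [MulAut.conj_apply] at h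
        unfold Steinberg.W at h
        rw [h, mul_inv_cancel]
      · simp only [map_mul, map_inv, FreeGroup.lift_apply_of, f, Bool.not_true]
        simp only [Bool.false_eq_true, if_false, if_true]
        have h := dM.relX t u ht
        rw [MulAut.conj_apply] at h
        unfold Steinberg.W at h
        rw [h, mul_inv_cancel]
  let π : PresentedGroup rels →* Matrix.SpecialLinearGroup (Fin 2) K := PresentedGroup.toGroup hf
  -- the abstract generators
  let X : K → PresentedGroup rels := fun t => PresentedGroup.of (true, t)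
  let Y : K → PresentedGroup rels := fun t => PresentedGroup.of (false, t)
  have hπX : ∀ t, π (X t) = Steinberg.xM t := fun t => by
    show PresentedGroup.toGroup hf (PresentedGroup.of (true, t)) = _
    rw [PresentedGroup.toGroup.of]
    simp [f]
  have hπY : ∀ t, π (Y t) = Steinberg.yM t := fun t => by
    show PresentedGroup.toGroup hf (PresentedGroup.of (false, t)) = _
    rw [PresentedGroup.toGroup.of]
    simp [f]
  have hadd : ∀ (b : Bool) (t u : K), (PresentedGroup.of (b, t) : PresentedGroup rels) *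
      PresentedGroup.of (b, u) = PresentedGroup.of (b, t + u) := by
    intro b t u
    have hmem : FreeGroup.of (b, t) * FreeGroup.of (b, u) * (FreeGroup.of (b, t + u))⁻¹ ∈ rels :=
      Or.inl ⟨b, t, u, rfl⟩
    have h1 := PresentedGroup.one_of_mem hmem
    rw [map_mul, map_mul, map_inv, mul_inv_eq_one] at h1
    exact h1
  have hrel : ∀ (b : Bool) (t u : K), t ≠ 0 →
      ((PresentedGroup.of (b, t) : PresentedGroup rels) * PresentedGroup.of (!b, -t⁻¹) *
        PresentedGroup.of (b, t)) * PresentedGroup.of (b, u) *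
        ((PresentedGroup.of (b, t) : PresentedGroup rels) * PresentedGroup.of (!b, -t⁻¹) *
        PresentedGroup.of (b, t))⁻¹ = PresentedGroup.of (!b, -(t⁻¹ ^ 2 * u)) := by
    intro b t u ht
    have hmem : (FreeGroup.of (b, t) * FreeGroup.of (!b, -t⁻¹) * FreeGroup.of (b, t)) * FreeGroup.of (b, u) *
                  (FreeGroup.of (b, t) * FreeGroup.of (!b, -t⁻¹) * FreeGroup.of (b, t))⁻¹ * (FreeGroup.of (!b, -(t⁻¹ ^ 2 * u)))⁻¹ ∈ rels :=
      Or.inr ⟨b, t, u, ht, rfl⟩
    have h1 := PresentedGroup.one_of_mem hmem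
    rw [map_mul, map_inv, mul_inv_eq_one] at h1
    simp only [map_mul, map_inv] at h1
    exact h1
  have d : Steinberg.Data X Y := by
    refine ⟨fun t u => hadd true t u, fun t u => hadd false t u, ?_, ?_⟩
    · intro t u ht
      rw [MulAut.conj_apply]
      exact hrel true t u ht
    · intro t u ht
      rw [MulAut.conj_apply]
      exact hrel false t u ht
  have hgen : Subgroup.closure (Set.range X ∪ Set.range Y) = ⊤ := by
    rw [← PresentedGroup.closure_range_of rels]
    congr 1
    ext g
    constructor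
    · rintro (⟨t, rfl⟩ | ⟨t, rfl⟩)
      · exact ⟨(true, t), rfl⟩
      · exact ⟨(false, t), rfl⟩
    · rintro ⟨⟨b, t⟩, rfl⟩
      cases b
      · exact Or.inr ⟨t, rfl⟩
      · exact Or.inl ⟨t, rfl⟩
  have hinj : Function.Injective π := d.injective_of_hom hgen π hπX hπY
  have hsurj : Function.Surjective π := by
    intro M
    have hM := Steinberg.mem_closure_xM_yM M
    have hle : Subgroup.closure (Set.range (Steinberg.xM : K → _) ∪ Set.range (Steinberg.yM : K → _)) ≤
        π.range := by
      rw [Subgroup.closure_le]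
      rintro _ (⟨t, rfl⟩ | ⟨t, rfl⟩)
      · exact ⟨X t, hπX t⟩
      · exact ⟨Y t, hπY t⟩
    exact hle hM
  refine ⟨MulEquiv.ofBijective π ⟨hinj, hsurj⟩, ?_, ?_⟩
  · intro t
    show ((π (X t)) : Matrix (Fin 2) (Fin 2) K) = _
    rw [hπX]
    rfl
  · intro t
    show ((π (Y t)) : Matrix (Fin 2) (Fin 2) K) = _
    rw [hπY]
    rfl

end Cfsg.Agent.S2426
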