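import Cfsg.Statements.S2155
-- import your own Cfsg.Agent.* helpers here
import Cfsg.Agent.Lib.Helper61.ChevJ.Cent
import Cfsg.Agent.Lib.Helper49.FStarCharP
import Cfsg.Agent.S1027

set_option autoImplicit false
open Cfsg

namespace Cfsg.Agent.S2155

open Cfsg.Lie Cfsg.Agent.Lib.Helper18 Cfsg.Agent.Lib.Helper61.ChevJ

universe u

variable {F : Type u} [Field F]

/-- `U` is a `p`-group. -/
theorem isPGroup_posUnipotent [Fintype F] (p : ℕ) [Fact p.Prime] [CharP F p] (D : ChevalleyDatum)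
    (hD : D ∈ [chevG2, chevB2, chevD4, chevF4, chevE6, chevE7, chevE8]) : IsPGroup p (D.posUnipotent F) := by
  obtain ⟨n, hpp, hq⟩ := FiniteField.card F p
  apply IsPGroup.of_card (n := (n : ℕ) * (D.nroots / 2))
  rw [Cfsg.Agent.S1027.card_posUnipotent D hD, hq, pow_mul]

/-- For a proper standard parabolic subgroup `P_J`: `C_{P_J}(O_p(P_J)) ≤ O_p(P_J)`, hence `F*(P_J) = O_p(P_J)`. -/
theorem main [Fintype F] (p : ℕ) [Fact p.Prime] [CharP F p] (D : ChevalleyDatum)
    (hD : D ∈ [chevG2, chevB2, chevD4, chevF4, chevE6, chevE7, chevE8]) (J : Set ℕ)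
    (hJ : ∃ i, i < D.rank ∧ i ∉ J) :
    IsPGroup p ↥(Cfsg.generalizedFittingSubgroup ↥(D.parabolicSubgroup F J)) := by
  classical
  obtain ⟨Y⟩ := nonempty_jData2.{u} D hD
  obtain ⟨i₀, hi₀, hi₀J⟩ := hJ
  have hU := isPGroup_posUnipotent (F := F) p D hD
  have hUJP : D.unipotentRadical F J ≤ D.parabolicSubgroup F J :=
    (unipotentRadical_le_posUnipotent J).trans
      (fun g hg => le_sup_left (a := D.borelSubgroup F) (borel_of_posUnipotent g hg))
  have hN1 : ((D.unipotentRadical F J).subgroupOf (D.parabolicSubgroup F J)).Normal :=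
    Subgroup.normal_subgroupOf_of_le_normalizer (parabolic_le_normalizer hD Y.X J)
  have hN2 : ((centUJ D F J).subgroupOf (D.parabolicSubgroup F J)).Normal :=
    Subgroup.normal_subgroupOf_of_le_normalizer (parabolic_le_normalizer_centUJ hD Y.X J)
  have hp1 : IsPGroup p ((D.unipotentRadical F J).subgroupOf (D.parabolicSubgroup F J)) :=
    (hU.to_le (unipotentRadical_le_posUnipotent J)).comap_subtype
  have hp2 : IsPGroup p ((centUJ D F J).subgroupOf (D.parabolicSubgroup F J)) :=
    (hU.to_le (Y.centUJ_le_posUnipotent hD J i₀ hi₀ hi₀J)).comap_subtype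
  have h1 := Cfsg.Agent.Lib.Helper49.le_pCore_of_normal_of_isPGroup hN1 hp1
  have h2 := Cfsg.Agent.Lib.Helper49.le_pCore_of_normal_of_isPGroup hN2 hp2
  have hcent : Subgroup.centralizer (pCore p ↥(D.parabolicSubgroup F J) : Set ↥(D.parabolicSubgroup F J))
      ≤ pCore p ↥(D.parabolicSubgroup F J) := by
    intro y hy
    apply h2
    rw [Subgroup.mem_subgroupOf, mem_centUJ]
    refine ⟨?_, y.2⟩
    intro z hz
    have hzP : z ∈ D.parabolicSubgroup F J := hUJP hz
    have := (Subgroup.mem_centralizer_iff.mp hy) ⟨z, hzP⟩ (h1 (Subgroup.mem_subgroupOf.mpr hz))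
    exact congrArg Subtype.val this
  rw [(Cfsg.Agent.Lib.Helper49.generalizedFittingSubgroup_eq_pCore_iff (p := p)).mpr hcent]
  exact Cfsg.Agent.Lib.Helper49.isPGroup_pCore p ↥(D.parabolicSubgroup F J)

/-- In a Chevalley group of type G₂, B₂, D₄, F₄, E₆, E₇ or E₈ over a finite field of characteristic p (for types G₂ and B₂ the field is assumed to have at least 3 elements, so that the group is simple), the generalized Fitting subgroup of every proper standard parabolic subgroup P_J is a p-group (P_J is p-constrained with trivial largest normal subgroup of order prime to p). -/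
theorem result {F : Type*} [Field F] [Fintype F] (p : ℕ) [Fact p.Prime] [CharP F p] (D : Cfsg.Lie.ChevalleyDatum) (hD : D ∈ [Cfsg.Lie.chevG2, Cfsg.Lie.chevB2, Cfsg.Lie.chevD4, Cfsg.Lie.chevF4, Cfsg.Lie.chevE6, Cfsg.Lie.chevE7, Cfsg.Lie.chevE8]) (hq : (D = Cfsg.Lie.chevG2 ∨ D = Cfsg.Lie.chevB2) → 3 ≤ Fintype.card F) (J : Set ℕ) (hJ : ∃ i, i < D.rank ∧ i ∉ J) : IsPGroup p ↥(Cfsg.generalizedFittingSubgroup ↥(D.parabolicSubgroup F J)) := by
  exact main p D hD J hJ

end Cfsg.Agent.S2155
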