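import Mathlib
import Cfsg.Statements.S3076
import Cfsg.Agent.Lib.Helper54.PCores
import Cfsg.Agent.Lib.Helper76.SylowNorm

set_option autoImplicit false
open Cfsg

namespace Cfsg.Agent.S3076

section abstract

variable {X : Type*} [Group X] [Finite X] {p : ℕ} [Fact p.Prime]

/-- `H ≤ R` where `R` is the preimage of `O_p(X/C)`. -/
theorem le_R (H C : Subgroup X) [H.Normal] [C.Normal] (hH : IsPGroup p H) :
    H ≤ (pCore p (X ⧸ C)).comap (QuotientGroup.mk' C) := by
  intro h hh
  rw [Subgroup.mem_comap]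
  have hn : (H.map (QuotientGroup.mk' C)).Normal :=
    Subgroup.Normal.map inferInstance _ (QuotientGroup.mk'_surjective C)
  have hp : IsPGroup p (H.map (QuotientGroup.mk' C)) := hH.map _
  exact Cfsg.Agent.Lib.Helper76.le_pCore p _ hn hp (Subgroup.mem_map_of_mem _ hh)

/-- `R / C` is a `p`-group. -/
theorem exists_pow_mem_C (C : Subgroup X) [C.Normal] {r : X}
    (hr : r ∈ (pCore p (X ⧸ C)).comap (QuotientGroup.mk' C)) : ∃ n : ℕ, r ^ p ^ n ∈ C := by
  rw [Subgroup.mem_comap] at hr
  obtain ⟨n, hn⟩ := Cfsg.Agent.Lib.Helper76.pCore_isPGroup (G := X ⧸ C) p ⟨_, hr⟩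
  refine ⟨n, ?_⟩
  have h1 := congrArg Subtype.val hn
  simp only [Subgroup.coe_pow, Subgroup.coe_one] at h1
  rw [← map_pow, QuotientGroup.mk'_apply, QuotientGroup.eq_one_iff] at h1
  exact h1

theorem C_le_R (C : Subgroup X) [C.Normal] :
    C ≤ (pCore p (X ⧸ C)).comap (QuotientGroup.mk' C) := by
  intro c hc
  rw [Subgroup.mem_comap]
  have : QuotientGroup.mk' C c = 1 := by
    rw [QuotientGroup.mk'_apply, QuotientGroup.eq_one_iff]; exact hc
  rw [this]; exact Subgroup.one_mem _


/-- A central normal Hall `p`-subgroup `B` of a normal subgroup `A` has a complement `M` in `A` that is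
normal in `X` (Schur–Zassenhaus; `M` is the set of `p'`-elements of `A`). -/
theorem exists_normal_compl (A B : Subgroup X) (hA : A.Normal) (hBA : B ≤ A) (hB : B.Normal)
    (hBp : IsPGroup p B) (hcomm : ∀ b ∈ B, ∀ a ∈ A, a * b = b * a)
    (hidx : (B.relIndex A).Coprime p) :
    ∃ M : Subgroup X, M.Normal ∧ (Nat.card M).Coprime p ∧ M ≤ A ∧
      ∀ a ∈ A, ∃ b ∈ B, ∃ m ∈ M, a = b * m := by
  have hB'n : (B.subgroupOf A).Normal := inferInstance
  have hB'card : Nat.card (B.subgroupOf A) = Nat.card B :=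
    Nat.card_congr (Subgroup.subgroupOfEquivOfLe hBA).toEquiv
  obtain ⟨k, hk⟩ := IsPGroup.iff_card.mp hBp
  have hcop : Nat.Coprime (Nat.card (B.subgroupOf A)) (B.subgroupOf A).index := by
    rw [hB'card, hk]
    exact (Nat.Coprime.pow_left k (Nat.Coprime.symm hidx))
  obtain ⟨M', hM'⟩ := Subgroup.exists_right_complement'_of_coprime hcop
  set M : Subgroup X := M'.map A.subtype with hM
  have hMA : M ≤ A := Subgroup.map_subtype_le M'
  have hMcard : Nat.card M = B.relIndex A := by
    rw [hM, Subgroup.card_subtype]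
    exact hM'.symm.index_eq_card.symm
  have hdecomp : ∀ y ∈ A, ∃ b ∈ B, ∃ m ∈ M, y = b * m := by
    intro y hy
    obtain ⟨⟨⟨b, hb⟩, ⟨m, hm⟩⟩, hbm, -⟩ := hM'.existsUnique ⟨y, hy⟩
    simp only at hbm
    have hbB : (b : X) ∈ B := by simpa [Subgroup.mem_subgroupOf] using hb
    have hyeq : y = (b : X) * (m : X) := by
      have := congrArg Subtype.val hbm
      simpa using this.symm
    exact ⟨b, hbB, m, ⟨m, hm, rfl⟩, hyeq⟩
  -- every element of `A` of order prime to `p` lies in `M`
  have hmem : ∀ y ∈ A, (orderOf y).Coprime p → y ∈ M := by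
    intro y hy hyo
    obtain ⟨⟨⟨b, hb⟩, ⟨m, hm⟩⟩, hbm, -⟩ := hM'.existsUnique ⟨y, hy⟩
    simp only at hbm
    have hbB : (b : X) ∈ B := by simpa [Subgroup.mem_subgroupOf] using hb
    have hmA : (m : X) ∈ A := m.2
    have hyeq : y = (b : X) * (m : X) := by
      have := congrArg Subtype.val hbm
      simpa using this.symm
    have hc : Commute (b : X) (m : X) := (hcomm _ hbB _ hmA).symm
    have h1 : (b : X) ^ orderOf y * (m : X) ^ orderOf y = 1 := by
      rw [← hc.mul_pow, ← hyeq, pow_orderOf_eq_one]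
    have hbn : (b ^ orderOf y : A) ∈ B.subgroupOf A := Subgroup.pow_mem _ hb _
    have hbn' : (b ^ orderOf y : A) ∈ M' := by
      have : (b ^ orderOf y : A) = (m ^ orderOf y)⁻¹ := by
        apply Subtype.ext
        have := eq_inv_of_mul_eq_one_left h1
        simpa using this
      rw [this]
      exact M'.inv_mem (M'.pow_mem hm _)
    have hb1 : (b ^ orderOf y : A) = 1 := by
      have := hM'.disjoint.le_bot ⟨hbn, hbn'⟩
      simpa using this
    obtain ⟨j, hj⟩ := hBp ⟨(b : X), hbB⟩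
    have hbj : (b : X) ^ p ^ j = 1 := by
      have := congrArg Subtype.val hj
      simpa using this
    have hb1' : (b : X) ^ orderOf y = 1 := by
      have := congrArg Subtype.val hb1
      simpa using this
    have hbone : (b : X) = 1 :=
      Cfsg.Agent.Lib.Helper76.eq_one_of_pow_eq_one_of_coprime p _ _ j hyo hb1' hbj
    rw [hyeq, hbone, one_mul]
    exact ⟨m, hm, rfl⟩
  have hMcop : (Nat.card M).Coprime p := by rw [hMcard]; exact hidx
  have hMn : M.Normal := by
    constructor
    intro x hx g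
    apply hmem
    · exact hA.conj_mem x (hMA hx) g
    · have : orderOf (g * x * g⁻¹) = orderOf x := by
        simpa using orderOf_injective (MulAut.conj g).toMonoidHom (MulAut.conj g).injective x
      rw [this]
      have hd : orderOf x ∣ Nat.card M := by
        have := orderOf_dvd_natCard (⟨x, hx⟩ : M)
        rwa [Subgroup.orderOf_mk] at this
      exact Nat.Coprime.coprime_dvd_left hd hMcop
  exact ⟨M, hMn, hMcop, hMA, hdecomp⟩

/-- `O_{p'}(X)` centralizes the normal `p`-subgroup `H`. -/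
theorem K_le_C (H C : Subgroup X) [H.Normal] (hH : IsPGroup p H)
    (hCdef : ∀ x, x ∈ C ↔ ∀ h ∈ H, x * h = h * x) : pPrimeCore p X ≤ C := by
  intro k hk
  rw [hCdef]
  intro h hh
  have h1 : k * h * k⁻¹ * h⁻¹ ∈ H :=
    H.mul_mem (Subgroup.Normal.conj_mem inferInstance h hh k) (H.inv_mem hh)
  have h2 : k * h * k⁻¹ * h⁻¹ ∈ pPrimeCore p X := by
    have : k * h * k⁻¹ * h⁻¹ = k * (h * k⁻¹ * h⁻¹) := by group
    rw [this]
    exact (pPrimeCore p X).mul_mem hk
      (Subgroup.Normal.conj_mem inferInstance k⁻¹ ((pPrimeCore p X).inv_mem hk) h)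
  have h3 := Cfsg.Agent.Lib.Helper54.eq_one_of_mem_pGroup_of_mem_coprime hH
    (Cfsg.Agent.Lib.Helper54.card_pPrimeCore_coprime p) h1 h2
  have : k * h = (k * h * k⁻¹ * h⁻¹) * (h * k) := by group
  rw [this, h3, one_mul]

/-- A `p`-subgroup of index prime to `p` meets a normal subgroup in a subgroup of index prime to `p`. -/
theorem not_dvd_relIndex_of_normal (S C : Subgroup X) [C.Normal] (hSi : ¬ p ∣ S.index) :
    ¬ p ∣ S.relIndex C := fun h =>
  hSi (dvd_trans h (Cfsg.Agent.Lib.Helper76.relIndex_dvd_index_of_normal_right S C))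


theorem relIndex_C_R (C : Subgroup X) [C.Normal] :
    ∃ a : ℕ, C.relIndex ((pCore p (X ⧸ C)).comap (QuotientGroup.mk' C)) = p ^ a := by
  set R := (pCore p (X ⧸ C)).comap (QuotientGroup.mk' C) with hR
  have : (C.subgroupOf R).Normal := Subgroup.Normal.subgroupOf inferInstance _
  have hp : IsPGroup p (↥R ⧸ C.subgroupOf R) := by
    intro x
    obtain ⟨g, rfl⟩ := QuotientGroup.mk_surjective x
    obtain ⟨n, hn⟩ := exists_pow_mem_C (p := p) C g.2
    refine ⟨n, ?_⟩
    rw [← QuotientGroup.mk_pow, QuotientGroup.eq_one_iff, Subgroup.mem_subgroupOf]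
    simpa using hn
  obtain ⟨a, ha⟩ := IsPGroup.iff_card.mp hp
  exact ⟨a, by rw [Subgroup.relIndex, Subgroup.index_eq_card, ha]⟩

theorem key (H C S : Subgroup X) [H.Normal] [C.Normal]
    (hH : IsPGroup p H) (hS : IsPGroup p S) (hSi : ¬ p ∣ S.index) (hHS : H ≤ S)
    (hCdef : ∀ x, x ∈ C ↔ ∀ h ∈ H, x * h = h * x) :
    (H ≤ (pCore p (X ⧸ C)).comap (QuotientGroup.mk' C) ∧
       ¬ p ∣ H.relIndex ((pCore p (X ⧸ C)).comap (QuotientGroup.mk' C))) ↔
    (S ⊓ C ≤ H ∧ pPrimePCore p X = H ⊔ C) := by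
  set R := (pCore p (X ⧸ C)).comap (QuotientGroup.mk' C) with hR
  have hpp := (Fact.out : p.Prime)
  have hRn : R.Normal := Subgroup.Normal.comap inferInstance _
  have hHR : H ≤ R := le_R H C hH
  have hCR : C ≤ R := C_le_R C
  have hHCR : H ⊔ C ≤ R := sup_le hHR hCR
  have hKC : pPrimeCore p X ≤ C := K_le_C H C hH hCdef
  have hDn : (H ⊔ C).Normal := inferInstance
  have hSC : ¬ p ∣ S.relIndex C := not_dvd_relIndex_of_normal S C hSi
  have hHCS : H ⊓ C ≤ S ⊓ C := inf_le_inf_right C hHS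
  -- L ≤ R
  have hLR : pPrimePCore p X ≤ R := by
    intro g hg
    rw [hR, Subgroup.mem_comap]
    have hn : ((pPrimePCore p X).map (QuotientGroup.mk' C)).Normal :=
      Subgroup.Normal.map inferInstance _ (QuotientGroup.mk'_surjective C)
    have hp : IsPGroup p ((pPrimePCore p X).map (QuotientGroup.mk' C)) := by
      rintro ⟨x, hx⟩
      obtain ⟨l, hl, rfl⟩ := hx
      obtain ⟨n, hn⟩ := Cfsg.Agent.Lib.Helper54.exists_pow_mem_pPrimeCore p hl
      refine ⟨n, ?_⟩
      apply Subtype.ext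
      simp only [Subgroup.coe_pow, Subgroup.coe_one]
      rw [← map_pow, QuotientGroup.mk'_apply, QuotientGroup.eq_one_iff]
      exact hKC hn
    exact Cfsg.Agent.Lib.Helper76.le_pCore p _ hn hp (Subgroup.mem_map_of_mem _ hg)
  constructor
  · rintro ⟨-, hidx⟩
    have hcopR : (H.relIndex R).Coprime p := ((Nat.Prime.coprime_iff_not_dvd hpp).mpr hidx).symm
    -- (a)
    have ha : S ⊓ C ≤ H := by
      have hQS : (S ⊓ C) ⊔ H ≤ S := sup_le inf_le_left hHS
      have hQp : IsPGroup p ((S ⊓ C) ⊔ H : Subgroup X) := hS.to_le hQS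
      obtain ⟨a, hcard⟩ := IsPGroup.iff_card.mp hQp
      have h1 : H.relIndex ((S ⊓ C) ⊔ H) ∣ p ^ a := by
        rw [← hcard]
        exact Dvd.intro_left _ (Cfsg.Agent.Lib.Helper54.card_mul_relIndex (le_sup_right : H ≤ (S ⊓ C) ⊔ H))
      have h2 : H.relIndex ((S ⊓ C) ⊔ H) ∣ H.relIndex R := by
        have hle : (S ⊓ C) ⊔ H ≤ R := sup_le (inf_le_right.trans hCR) hHR
        exact Dvd.intro _ (Subgroup.relIndex_mul_relIndex _ _ _ le_sup_right hle)
      have h3 : H.relIndex ((S ⊓ C) ⊔ H) = 1 :=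
        Nat.eq_one_of_dvd_coprimes (Nat.Coprime.pow_right a hcopR) h2 h1
      have h4 := Subgroup.relIndex_eq_one.mp h3
      exact le_sup_left.trans h4
    refine ⟨ha, ?_⟩
    -- R ≤ H ⊔ C
    have hRD : R ≤ H ⊔ C := by
      obtain ⟨a, hpa⟩ := relIndex_C_R (p := p) C
      have h1 : (H ⊔ C).relIndex R ∣ p ^ a := by
        rw [← hpa]; exact Subgroup.relIndex_dvd_of_le_left _ le_sup_right
      have h2 : (H ⊔ C).relIndex R ∣ H.relIndex R := Subgroup.relIndex_dvd_of_le_left _ le_sup_left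
      exact Subgroup.relIndex_eq_one.mp
        (Nat.eq_one_of_dvd_coprimes (Nat.Coprime.pow_right a hcopR) h2 h1)
    apply le_antisymm (hLR.trans hRD)
    -- H ⊔ C ≤ L
    have hBn : (H ⊓ C).Normal := inferInstance
    have hBidx : ((H ⊓ C).relIndex C).Coprime p := by
      have h1 : (H ⊓ C).relIndex C ∣ (S ⊓ C).relIndex C := by
        have hle : S ⊓ C ≤ H ⊓ C := le_inf ha inf_le_right
        exact Subgroup.relIndex_dvd_of_le_left _ hle
      rw [Subgroup.inf_relIndex_right (H := S)] at h1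
      exact ((Nat.Prime.coprime_iff_not_dvd hpp).mpr (fun h => hSC (dvd_trans h h1))).symm
    obtain ⟨M, hMn, hMcop, hMC, hdec⟩ := exists_normal_compl (p := p) C (H ⊓ C) inferInstance
      inf_le_right hBn (hH.to_le inf_le_left)
      (fun b hb a ha' => ((hCdef a).mp ha') b hb.1) hBidx
    have hMK : M ≤ pPrimeCore p X := Cfsg.Agent.Lib.Helper76.le_pPrimeCore p M hMn hMcop
    apply Cfsg.Agent.Lib.Helper54.le_pPrimePCore p hDn
    intro g hg
    rw [← SetLike.mem_coe, Subgroup.mul_normal] at hg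
    obtain ⟨h, hh, c, hc, rfl⟩ := hg
    obtain ⟨b, hb, m, hm, rfl⟩ := hdec c hc
    have hhb : h * b ∈ H := H.mul_mem hh hb.1
    obtain ⟨n, hn⟩ := hH ⟨h * b, hhb⟩
    have hn' : (h * b) ^ p ^ n = 1 := by
      have := congrArg Subtype.val hn
      simpa using this
    refine ⟨n, ?_⟩
    have hcomm : Commute (h * b) m := ((hCdef m).mp (hMC hm) (h * b) hhb).symm
    have : (h * (b * m)) ^ p ^ n = m ^ p ^ n := by
      rw [← mul_assoc, hcomm.mul_pow, hn', one_mul]
    rw [this]
    exact hMK (M.pow_mem hm _)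
  · rintro ⟨ha, hL⟩
    refine ⟨hHR, ?_⟩
    have hRL : R ≤ pPrimePCore p X := by
      apply Cfsg.Agent.Lib.Helper54.le_pPrimePCore p hRn
      intro r hr
      obtain ⟨j, hj⟩ := exists_pow_mem_C (p := p) C hr
      have hjL : r ^ p ^ j ∈ pPrimePCore p X := by rw [hL]; exact Subgroup.mem_sup_right hj
      obtain ⟨k, hk⟩ := Cfsg.Agent.Lib.Helper54.exists_pow_mem_pPrimeCore p hjL
      refine ⟨j + k, ?_⟩
      rw [pow_add, pow_mul]; exact hk
    have hReq : R = H ⊔ C := le_antisymm (hRL.trans hL.le) hHCR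
    rw [hReq, Cfsg.Agent.Lib.Helper76.relIndex_sup_of_normal H C, ← Subgroup.inf_relIndex_right]
    intro hdvd
    have h1 : (H ⊓ C).relIndex C ∣ (S ⊓ C).relIndex C := by
      have hle : S ⊓ C ≤ H ⊓ C := le_inf ha inf_le_right
      exact Subgroup.relIndex_dvd_of_le_left _ hle
    rw [Subgroup.inf_relIndex_right (H := S)] at h1
    exact hSC (dvd_trans hdvd h1)

end abstract

/-- Let P be a Sylow p-subgroup of the finite group G and H ≤ P a subgroup with N_P(H) a Sylow p-subgroup of N_G(H). Let N be the preimage in N_G(H) of O_p(N_G(H)/C_G(H)). Then H is a Sylow p-subgroup of N if and only if C_P(H) ≤ H and O_{p',p}(N_G(H)) = H·C_G(H). -/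
theorem result {G : Type*} [Group G] [Finite G] {p : ℕ} [Fact p.Prime]
    (P : Sylow p G) (H : Subgroup G) (hHP : H ≤ (P : Subgroup G))
    (hSyl : ¬ p ∣ ((P : Subgroup G) ⊓ Subgroup.normalizer (H : Set G)).relIndex (Subgroup.normalizer (H : Set G)))
    [hC : ((Subgroup.centralizer (H : Set G)).subgroupOf (Subgroup.normalizer (H : Set G))).Normal] :
    (H ≤ ((Cfsg.pCore p (↥(Subgroup.normalizer (H : Set G)) ⧸
              (Subgroup.centralizer (H : Set G)).subgroupOf (Subgroup.normalizer (H : Set G)))).comap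
            (QuotientGroup.mk' _)).map (Subgroup.normalizer (H : Set G)).subtype ∧
      ¬ p ∣ H.relIndex (((Cfsg.pCore p (↥(Subgroup.normalizer (H : Set G)) ⧸
              (Subgroup.centralizer (H : Set G)).subgroupOf (Subgroup.normalizer (H : Set G)))).comap
            (QuotientGroup.mk' _)).map (Subgroup.normalizer (H : Set G)).subtype)) ↔
    ((P : Subgroup G) ⊓ Subgroup.centralizer (H : Set G) ≤ H ∧
      (Cfsg.pPrimePCore p ↥(Subgroup.normalizer (H : Set G))).map (Subgroup.normalizer (H : Set G)).subtype =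
        H ⊔ Subgroup.centralizer (H : Set G)) := by
  classical
  set N : Subgroup G := Subgroup.normalizer (H : Set G) with hN
  set C : Subgroup G := Subgroup.centralizer (H : Set G) with hCdefG
  have hHN : H ≤ N := Subgroup.le_normalizer
  have hCN : C ≤ N := Subgroup.centralizer_le_normalizer _
  have hH'n : (H.subgroupOf N).Normal := Subgroup.normal_in_normalizer
  have hPp : IsPGroup p (P : Subgroup G) := P.isPGroup'
  have hHp : IsPGroup p H := hPp.to_le hHP
  have hH' : IsPGroup p (H.subgroupOf N) := hHp.comap_subtype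
  have hS' : IsPGroup p ((P : Subgroup G).subgroupOf N) := hPp.comap_subtype
  have hSi : ¬ p ∣ ((P : Subgroup G).subgroupOf N).index := by
    have : ((P : Subgroup G).subgroupOf N).index = ((P : Subgroup G) ⊓ N).relIndex N := by
      rw [Subgroup.inf_relIndex_right]; rfl
    rw [this]; exact hSyl
  have hHS : H.subgroupOf N ≤ (P : Subgroup G).subgroupOf N := Subgroup.comap_mono hHP
  have hCdef : ∀ x : N, x ∈ C.subgroupOf N ↔ ∀ h ∈ H.subgroupOf N, x * h = h * x := by
    intro x
    rw [Subgroup.mem_subgroupOf, hCdefG, Subgroup.mem_centralizer_iff]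
    constructor
    · intro hx h hh
      apply Subtype.ext
      have := hx (h : G) (Subgroup.mem_subgroupOf.mp hh)
      simpa using this.symm
    · intro hx g hg
      have := hx ⟨g, hHN hg⟩ (by rw [Subgroup.mem_subgroupOf]; exact hg)
      have := congrArg Subtype.val this
      simpa using this.symm
  have hkey := key (p := p) (H.subgroupOf N) (C.subgroupOf N) ((P : Subgroup G).subgroupOf N)
    hH' hS' hSi hHS hCdef
  have hHmap : (H.subgroupOf N).map N.subtype = H := Subgroup.map_subgroupOf_eq_of_le hHN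
  have hCmap : (C.subgroupOf N).map N.subtype = C := Subgroup.map_subgroupOf_eq_of_le hCN
  have hinj : Function.Injective N.subtype := Subgroup.subtype_injective N
  set R := (Cfsg.pCore p (↥N ⧸ C.subgroupOf N)).comap (QuotientGroup.mk' (C.subgroupOf N)) with hR
  have e1 : H ≤ R.map N.subtype ↔ H.subgroupOf N ≤ R := by
    conv_lhs => rw [← hHmap]
    exact Subgroup.map_le_map_iff_of_injective hinj
  have e2 : H.relIndex (R.map N.subtype) = (H.subgroupOf N).relIndex R := by
    conv_lhs => rw [← hHmap]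
    exact Subgroup.relIndex_map_map_of_injective _ _ hinj
  have e3 : (P : Subgroup G) ⊓ C ≤ H ↔
      (P : Subgroup G).subgroupOf N ⊓ C.subgroupOf N ≤ H.subgroupOf N := by
    constructor
    · intro h x hx
      rw [Subgroup.mem_subgroupOf]
      exact h ⟨Subgroup.mem_subgroupOf.mp hx.1, Subgroup.mem_subgroupOf.mp hx.2⟩
    · intro h g hg
      have hg1 : g ∈ (P : Subgroup G) := hg.1
      have hg2 : g ∈ C := hg.2
      have hmem : (⟨g, hCN hg2⟩ : N) ∈ (P : Subgroup G).subgroupOf N ⊓ C.subgroupOf N :=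
        Subgroup.mem_inf.mpr ⟨Subgroup.mem_subgroupOf.mpr hg1, Subgroup.mem_subgroupOf.mpr hg2⟩
      exact Subgroup.mem_subgroupOf.mp (h hmem)
  have e4 : (Cfsg.pPrimePCore p ↥N).map N.subtype = H ⊔ C ↔
      Cfsg.pPrimePCore p ↥N = H.subgroupOf N ⊔ C.subgroupOf N := by
    conv_lhs => rw [← hHmap, ← hCmap, ← Subgroup.map_sup]
    exact (Subgroup.map_injective hinj).eq_iff
  rw [e1, e2, e3, e4]
  exact hkey

end Cfsg.Agent.S3076
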