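import Cfsg.Statements.S2830
import Mathlib
import Cfsg.Agent.Lib.Helper47.PClosed
-- import your own Cfsg.Agent.* helpers here

set_option autoImplicit false
open Cfsg

namespace Cfsg.Agent.S2830

section Aux

open Cfsg.Agent.Lib.Helper47

variable {K : Type*} [Group K]

/-- `p`-closedness transfers along isomorphisms -/
theorem isPClosed_of_mulEquiv {p : ℕ} {A B : Type*} [Group A] [Group B] (e : A ≃* B)
    (h : Cfsg.IsPClosed p A) : Cfsg.IsPClosed p B := by
  intro P
  have hr : (P : Subgroup B) ≤ e.toMonoidHom.range := by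
    intro x _
    exact ⟨e.symm x, by simp⟩
  have h1 : ((P : Subgroup B).comap e.toMonoidHom).Normal :=
    h (P.comapOfInjective e.toMonoidHom e.injective hr)
  have h2 : ((P : Subgroup B).comap e.toMonoidHom).map e.toMonoidHom = P :=
    Subgroup.map_comap_eq_self_of_surjective e.surjective _
  rw [← h2]
  exact h1.map e.toMonoidHom e.surjective

/-- elements of order prime to `p` in the preimage of a normal `p`-subgroup of the quotient -/
theorem mem_of_coprime_of_mk_mem {p : ℕ} [Fact p.Prime] (C : Subgroup K) [C.Normal]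
    {Y : Subgroup (K ⧸ C)} (hY : IsPGroup p Y) {g : K} (hg : (QuotientGroup.mk' C) g ∈ Y)
    (hco : Nat.Coprime (orderOf g) p) : g ∈ C := by
  obtain ⟨k, hk⟩ := hY ⟨_, hg⟩
  have hk' : ((QuotientGroup.mk' C) g) ^ p ^ k = 1 := by simpa using congrArg Subtype.val hk
  have h2 : orderOf ((QuotientGroup.mk' C) g) ∣ p ^ k := orderOf_dvd_of_pow_eq_one hk'
  have h3 : orderOf ((QuotientGroup.mk' C) g) ∣ orderOf g := orderOf_map_dvd (QuotientGroup.mk' C) g
  have h4 : orderOf ((QuotientGroup.mk' C) g) = 1 :=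
    Nat.eq_one_of_dvd_coprimes (Nat.Coprime.pow_right k hco) h3 h2
  rw [orderOf_eq_one_iff] at h4
  exact (QuotientGroup.eq_one_iff g).mp h4

/-- (C): `O_p(K/C) = 1` -/
theorem pCore_quotient_eq_bot {p : ℕ} [Fact p.Prime] [Finite K] (C : Subgroup K) [C.Normal]
    (hK : Cfsg.IsPIrreducible p K) (hnc : ¬ Cfsg.pResidual p K ≤ C)
    (hO : Cfsg.pCore p K ≤ C) : Cfsg.pCore p (K ⧸ C) = ⊥ := by
  have hYp : IsPGroup p (Cfsg.pCore p (K ⧸ C)) := pCore_isPGroup p (K ⧸ C)
  have hYn : (Cfsg.pCore p (K ⧸ C)).Normal := Subgroup.sSup_normal _ (fun _ h => h.1)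
  set D : Subgroup K := (Cfsg.pCore p (K ⧸ C)).comap (QuotientGroup.mk' C) with hD
  have hDn : D.Normal := hYn.comap _
  -- step 1
  have h1 : ∀ d ∈ D, Nat.Coprime (orderOf d) p → d ∈ C := fun d hd hco =>
    mem_of_coprime_of_mk_mem C hYp hd hco
  -- step 2
  have h2 : Cfsg.IsPClosed p ↥D := by
    by_contra hcl
    have h3 := hK.2 D hDn hcl
    apply hnc
    unfold Cfsg.pResidual at h3 ⊢
    rw [Subgroup.closure_le]
    intro g hg
    exact h1 g (h3 (Subgroup.subset_closure hg)) hg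
  -- step 3, 4
  have hDC : D ≤ C := by
    obtain ⟨T⟩ : Nonempty (Sylow p ↥D) := inferInstance
    have h3 : (T : Subgroup ↥D).map D.subtype ≤ C :=
      (le_pCore_of_le_normal_isPClosed D h2 (Subgroup.map_subtype_le _) (T.isPGroup'.map _)).trans hO
    have h4 := pResidual_sup_sylow T
    have h5 := congrArg (Subgroup.map D.subtype) h4
    rw [Subgroup.map_sup, ← MonoidHom.range_eq_map, Subgroup.range_subtype] at h5
    rw [← h5]
    apply sup_le _ h3
    unfold Cfsg.pResidual
    rw [MonoidHom.map_closure, Subgroup.closure_le]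
    rintro _ ⟨d, hd, rfl⟩
    apply h1 _ d.2
    have : orderOf (d : K) = orderOf d := Subgroup.orderOf_coe d
    rw [this]; exact hd
  rw [eq_bot_iff]
  intro x hx
  obtain ⟨d, rfl⟩ := QuotientGroup.mk'_surjective C x
  rw [Subgroup.mem_bot]
  exact (QuotientGroup.eq_one_iff d).mpr (hDC hx)

end Aux

open Cfsg.Agent.Lib.Helper47 in
/-- Let H act by conjugation on the elementary abelian p-subgroup V of a finite group G (H ≤ N(V)), with H p-irreducible and O^p(H) not centralizing V. Then C_H(V) is p-closed and C_T(V) ≤ O_p(H) for every p-subgroup T of H. If in addition O_p(H) centralizes V, then C_T(V) = T ∩ O_p(H) for every p-subgroup T of H, and V is p-reduced for H: O_p(H/C_H(V)) = 1. -/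
theorem result {G : Type*} [Group G] [Finite G] {p : ℕ} [Fact p.Prime] (V H : Subgroup G) (hV : Cfsg.IsElementaryAbelian p V) (hHV : H ≤ Subgroup.normalizer (V : Set G)) (hH : Cfsg.IsPIrreducible p ↥H) (hnc : ¬ (Cfsg.pResidual p ↥H).map H.subtype ≤ Subgroup.centralizer (V : Set G)) [hn : ((Subgroup.centralizer (V : Set G)).subgroupOf H).Normal] : Cfsg.IsPClosed p ↥(H ⊓ Subgroup.centralizer (V : Set G)) ∧ (∀ T : Subgroup G, T ≤ H → IsPGroup p ↥T → T ⊓ Subgroup.centralizer (V : Set G) ≤ Cfsg.pCoreOf p H) ∧ (Cfsg.pCoreOf p H ≤ Subgroup.centralizer (V : Set G) → (∀ T : Subgroup G, T ≤ H → IsPGroup p ↥T → T ⊓ Subgroup.centralizer (V : Set G) = T ⊓ Cfsg.pCoreOf p H) ∧ Cfsg.pCore p (↥H ⧸ (Subgroup.centralizer (V : Set G)).subgroupOf H) = ⊥) := by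
  set C : Subgroup ↥H := (Subgroup.centralizer (V : Set G)).subgroupOf H with hC
  have hnc' : ¬ Cfsg.pResidual p ↥H ≤ C := by
    intro h
    apply hnc
    rw [Subgroup.map_le_iff_le_comap]
    exact h
  have hA : Cfsg.IsPClosed p ↥C := by
    by_contra h
    exact hnc' (hH.2 C hn h)
  have h2 : ∀ T : Subgroup G, T ≤ H → IsPGroup p ↥T →
      T ⊓ Subgroup.centralizer (V : Set G) ≤ Cfsg.pCoreOf p H := by
    intro T hTH hT x hx
    have hY : (T ⊓ Subgroup.centralizer (V : Set G)).subgroupOf H ≤ Cfsg.pCore p ↥H := by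
      apply le_pCore_of_le_normal_isPClosed C hA
      · intro y hy
        rw [Subgroup.mem_subgroupOf] at hy
        exact Subgroup.mem_subgroupOf.mpr hy.2
      · exact (hT.to_le inf_le_left).comap_subtype
    exact ⟨⟨x, hTH hx.1⟩, hY (Subgroup.mem_subgroupOf.mpr hx), rfl⟩
  refine ⟨?_, h2, ?_⟩
  · have hCe : C = (H ⊓ Subgroup.centralizer (V : Set G)).subgroupOf H := by
      rw [hC, Subgroup.inf_subgroupOf_left]
    have e1 : ↥C ≃* ↥((H ⊓ Subgroup.centralizer (V : Set G)).subgroupOf H) :=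
      MulEquiv.subgroupCongr hCe
    have e2 : ↥((H ⊓ Subgroup.centralizer (V : Set G)).subgroupOf H) ≃*
        ↥(H ⊓ Subgroup.centralizer (V : Set G)) := Subgroup.subgroupOfEquivOfLe inf_le_left
    exact isPClosed_of_mulEquiv (e1.trans e2) hA
  · intro hO
    refine ⟨?_, ?_⟩
    · intro T hTH hT
      apply le_antisymm
      · exact le_inf inf_le_left (h2 T hTH hT)
      · exact le_inf inf_le_left (inf_le_right.trans hO)
    · apply pCore_quotient_eq_bot C hH hnc'
      intro x hx
      rw [hC, Subgroup.mem_subgroupOf]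
      exact hO ⟨x, hx, rfl⟩

end Cfsg.Agent.S2830
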