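import Cfsg.Statements.S2833
-- import your own Cfsg.Agent.* helpers here
import Cfsg.Agent.Lib.Helper47.Commutator

set_option autoImplicit false
open Cfsg

namespace Cfsg.Agent.S2833

open Cfsg.Agent.Lib.Helper47
open scoped commutatorElement Pointwise

variable {G : Type*} [Group G]

/-- If `X` normalizes `V` then `X` normalizes `⁅V, X⁆ ⊔ B` whenever `B ≤ V` is normalized... in the
form: `X ≤ N(A ⊔ B)` where `A = ⁅V, X⁆` and `B ≤ V`. -/
theorem le_normalizer_sup_aux (V X B : Subgroup G) (hB : B ≤ V) :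
    X ≤ Subgroup.normalizer ((⁅V, X⁆ ⊔ B : Subgroup G) : Set G) := by
  rw [Subgroup.le_normalizer_iff]
  intro x hx k hk
  have hxA : x ∈ Subgroup.normalizer ((⁅V, X⁆ : Subgroup G) : Set G) :=
    Subgroup.normalizer_commutator_ge_right V X hx
  -- use closure induction on k ∈ A ⊔ B
  rw [Subgroup.sup_eq_closure] at hk
  induction hk using Subgroup.closure_induction with
  | mem k hk =>
    rcases hk with hk | hk
    · exact Subgroup.mem_sup_left ((Subgroup.mem_normalizer_iff.mp hxA k).mp hk)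
    · have h1 : x * k * x⁻¹ = (⁅k, x⁆)⁻¹ * k := by
        simp [commutatorElement_def, mul_assoc]
      rw [h1]
      exact Subgroup.mul_mem_sup
        (Subgroup.inv_mem _ (Subgroup.commutator_mem_commutator (hB hk) hx)) hk
  | one => simp
  | mul a b _ _ ha hb =>
    have : x * (a * b) * x⁻¹ = (x * a * x⁻¹) * (x * b * x⁻¹) := by group
    rw [this]; exact Subgroup.mul_mem _ ha hb
  | inv a _ ha =>
    have : x * a⁻¹ * x⁻¹ = (x * a * x⁻¹)⁻¹ := by group
    rw [this]; exact Subgroup.inv_mem _ ha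

/-- If `X, Y ≤ N(V)` then `⁅V, X ⊔ Y⁆ ≤ ⁅V, X⁆ ⊔ ⁅V, Y⁆`. -/
theorem commutator_sup_le (V X Y : Subgroup G) (hX : X ≤ Subgroup.normalizer (V : Set G))
    (hY : Y ≤ Subgroup.normalizer (V : Set G)) : ⁅V, X ⊔ Y⁆ ≤ ⁅V, X⁆ ⊔ ⁅V, Y⁆ := by
  have hA : ⁅V, X⁆ ≤ V := Subgroup.le_normalizer_iff_commutator_le_left.mp hX
  have hB : ⁅V, Y⁆ ≤ V := Subgroup.le_normalizer_iff_commutator_le_left.mp hY
  have hXU : X ≤ Subgroup.normalizer ((⁅V, X⁆ ⊔ ⁅V, Y⁆ : Subgroup G) : Set G) :=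
    le_normalizer_sup_aux V X _ hB
  have hYU : Y ≤ Subgroup.normalizer ((⁅V, X⁆ ⊔ ⁅V, Y⁆ : Subgroup G) : Set G) := by
    have := le_normalizer_sup_aux V Y _ hA
    rwa [sup_comm] at this
  have hLU : X ⊔ Y ≤ Subgroup.normalizer ((⁅V, X⁆ ⊔ ⁅V, Y⁆ : Subgroup G) : Set G) := sup_le hXU hYU
  rw [Subgroup.commutator_le]
  intro v hv l hl
  have hl' := hl
  rw [Subgroup.sup_eq_closure] at hl
  revert v
  induction hl using Subgroup.closure_induction with
  | mem l hl =>
    intro v hv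
    rcases hl with hl | hl
    · exact Subgroup.mem_sup_left (Subgroup.commutator_mem_commutator hv hl)
    · exact Subgroup.mem_sup_right (Subgroup.commutator_mem_commutator hv hl)
  | one => intro v _; simp
  | mul a b ha hb iha ihb =>
    intro v hv
    rw [← Subgroup.sup_eq_closure] at ha hb
    have h1 : ⁅v, a * b⁆ = ⁅v, a⁆ * (a * ⁅v, b⁆ * a⁻¹) := by
      simp [commutatorElement_def, mul_assoc]
    rw [h1]
    exact Subgroup.mul_mem _ (iha ha v hv) (conj_mem_of_le_normalizer hLU ha (ihb hb v hv))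
  | inv a ha iha =>
    intro v hv
    rw [← Subgroup.sup_eq_closure] at ha
    have h1 : ⁅v, a⁻¹⁆ = a⁻¹ * (⁅v, a⁆)⁻¹ * a := by
      simp [commutatorElement_def, mul_assoc]
    rw [h1]
    exact conj_mem_of_le_normalizer' hLU ha (Subgroup.inv_mem _ (iha ha v hv))

/-- Let V be a subgroup of a finite group G normalized by the subgroup L, let X ≤ L and g ∈ L with [V, X, X] = 1 and L generated by X and gXg⁻¹. Put W = [V, L]. Then W = [V, X]·[V, gXg⁻¹], C_W(X) = [V, X], and C_W(L) = [V, X] ∩ [V, gXg⁻¹]. -/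
theorem result {G : Type*} [Group G] [Finite G] (V L : Subgroup G) (hLV : L ≤ Subgroup.normalizer (V : Set G)) (X : Subgroup G) (hX : X ≤ L) (g : G) (hg : g ∈ L) (hq : ⁅⁅V, X⁆, X⁆ = ⊥) (hgen : X ⊔ X.map (MulAut.conj g).toMonoidHom = L) (W : Subgroup G) (hW : W = ⁅V, L⁆) : ⁅V, X⁆ ⊔ ⁅V, X.map (MulAut.conj g).toMonoidHom⁆ = W ∧ W ⊓ Subgroup.centralizer (X : Set G) = ⁅V, X⁆ ∧ W ⊓ Subgroup.centralizer (L : Set G) = ⁅V, X⁆ ⊓ ⁅V, X.map (MulAut.conj g).toMonoidHom⁆ := by
  have hgV : g ∈ Subgroup.normalizer (V : Set G) := hLV hg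
  have hXV : X ≤ Subgroup.normalizer (V : Set G) := hX.trans hLV
  have hXgL : X.map (MulAut.conj g).toMonoidHom ≤ L := by rw [← hgen]; exact le_sup_right
  have hXgV : X.map (MulAut.conj g).toMonoidHom ≤ Subgroup.normalizer (V : Set G) := hXgL.trans hLV
  have hA : ⁅V, X⁆ ≤ V := Subgroup.le_normalizer_iff_commutator_le_left.mp hXV
  have hB : ⁅V, X.map (MulAut.conj g).toMonoidHom⁆ ≤ V :=
    Subgroup.le_normalizer_iff_commutator_le_left.mp hXgV
  -- B = A^g
  have hBA : ⁅V, X.map (MulAut.conj g).toMonoidHom⁆ = (⁅V, X⁆).map (MulAut.conj g).toMonoidHom := by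
    rw [Subgroup.map_commutator, map_conj_eq_of_mem_normalizer hgV]
  -- A ≤ C(X), B ≤ C(X^g)
  have hAX : ⁅V, X⁆ ≤ Subgroup.centralizer (X : Set G) :=
    Subgroup.commutator_eq_bot_iff_le_centralizer.mp hq
  have hq' : ⁅⁅V, X.map (MulAut.conj g).toMonoidHom⁆, X.map (MulAut.conj g).toMonoidHom⁆ = ⊥ := by
    rw [hBA, ← Subgroup.map_commutator, hq, Subgroup.map_bot]
  have hBX : ⁅V, X.map (MulAut.conj g).toMonoidHom⁆ ≤
      Subgroup.centralizer ((X.map (MulAut.conj g).toMonoidHom : Subgroup G) : Set G) :=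
    Subgroup.commutator_eq_bot_iff_le_centralizer.mp hq'
  -- part 1
  have h1 : ⁅V, X⁆ ⊔ ⁅V, X.map (MulAut.conj g).toMonoidHom⁆ = W := by
    rw [hW]
    apply le_antisymm
    · exact sup_le (Subgroup.commutator_mono le_rfl hX) (Subgroup.commutator_mono le_rfl hXgL)
    · rw [← hgen]
      exact commutator_sup_le V X _ hXV hXgV
  -- C(X) ⊓ C(X^g) ≤ C(L)
  have hCL : Subgroup.centralizer (X : Set G) ⊓
      Subgroup.centralizer ((X.map (MulAut.conj g).toMonoidHom : Subgroup G) : Set G) ≤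
      Subgroup.centralizer (L : Set G) := by
    rw [← hgen]
    exact centralizer_inf_centralizer_le_centralizer_sup _ _
  -- an element of B centralizing L lies in A
  have hBLA : ∀ b ∈ ⁅V, X.map (MulAut.conj g).toMonoidHom⁆, b ∈ Subgroup.centralizer (L : Set G) →
      b ∈ ⁅V, X⁆ := by
    intro b hb hbL
    rw [hBA, mem_map_conj_iff] at hb
    have hcomm : g * b = b * g := (Subgroup.mem_centralizer_iff.mp hbL) g hg
    have : g⁻¹ * b * g = b := by
      rw [mul_assoc, ← hcomm, inv_mul_cancel_left]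
    rwa [this] at hb
  -- an element of A centralizing L lies in B
  have hALB : ∀ a ∈ ⁅V, X⁆, a ∈ Subgroup.centralizer (L : Set G) →
      a ∈ ⁅V, X.map (MulAut.conj g).toMonoidHom⁆ := by
    intro a ha haL
    rw [hBA, mem_map_conj_iff]
    have hcomm : g * a = a * g := (Subgroup.mem_centralizer_iff.mp haL) g hg
    have : g⁻¹ * a * g = a := by
      rw [mul_assoc, ← hcomm, inv_mul_cancel_left]
    rwa [this]
  -- part 2
  have h2 : W ⊓ Subgroup.centralizer (X : Set G) = ⁅V, X⁆ := by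
    apply le_antisymm
    · rintro w ⟨hwW, hwX⟩
      rw [← h1, sup_comm] at hwW
      -- w = b * a
      have hVA : ⁅V, X.map (MulAut.conj g).toMonoidHom⁆ ≤
          Subgroup.normalizer ((⁅V, X⁆ : Subgroup G) : Set G) :=
        hB.trans (Subgroup.normalizer_commutator_ge_left V X)
      have hmem : w ∈ ((⁅V, X.map (MulAut.conj g).toMonoidHom⁆ ⊔ ⁅V, X⁆ : Subgroup G) : Set G) := hwW
      rw [Subgroup.coe_mul_of_left_le_normalizer_right _ _ hVA] at hmem
      obtain ⟨b, hb, a, ha, rfl⟩ := hmem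
      have hbX : b ∈ Subgroup.centralizer (X : Set G) := by
        have : b = (b * a) * a⁻¹ := by group
        rw [this]
        exact Subgroup.mul_mem _ hwX (Subgroup.inv_mem _ (hAX ha))
      have hbL : b ∈ Subgroup.centralizer (L : Set G) := hCL ⟨hbX, hBX hb⟩
      exact Subgroup.mul_mem _ (hBLA b hb hbL) ha
    · intro a ha
      exact ⟨h1 ▸ Subgroup.mem_sup_left ha, hAX ha⟩
  refine ⟨h1, h2, ?_⟩
  apply le_antisymm
  · rintro w ⟨hwW, hwL⟩
    have hwX : w ∈ Subgroup.centralizer (X : Set G) :=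
      Subgroup.centralizer_le (show (X : Set G) ⊆ L from hX) hwL
    have hwA : w ∈ ⁅V, X⁆ := by
      rw [← h2]; exact ⟨hwW, hwX⟩
    exact ⟨hwA, hALB w hwA hwL⟩
  · rintro w ⟨hwA, hwB⟩
    exact ⟨h1 ▸ Subgroup.mem_sup_left hwA, hCL ⟨hAX hwA, hBX hwB⟩⟩

end Cfsg.Agent.S2833
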