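import Cfsg.Statements.S2823
-- import your own Cfsg.Agent.* helpers here
import Cfsg.Agent.Lib.Helper47.SylowCenter
import Cfsg.Agent.Lib.Helper47.Trace
import Cfsg.Agent.S2833

set_option autoImplicit false
open Cfsg

namespace Cfsg.Agent.S2823

open Cfsg.Agent.Lib.Helper47
open scoped commutatorElement Pointwise

variable {H : Type*} [Group H]

/-- `O^p(L) T = L` in ambient form. -/
theorem opOf_sup_sylow [Finite H] {p : ℕ} [Fact p.Prime] (T : Sylow p H) (L : Subgroup H)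
    (hTL : (T : Subgroup H) ≤ L) : opOf p L ⊔ (T : Subgroup H) = L := by
  have h1 := pResidual_sup_sylow (T.subtype hTL)
  have h2 := congrArg (Subgroup.map L.subtype) h1
  rw [Subgroup.map_sup, Sylow.coe_subtype, Subgroup.subgroupOf_map_subtype, inf_of_le_left hTL,
    ← MonoidHom.range_eq_map, Subgroup.range_subtype] at h2
  exact h2

/-- Every Sylow `p`-subgroup of `L` is an `O^p(L)`-conjugate of `T`. -/
theorem sylow_eq_conj_opOf [Finite H] {p : ℕ} [Fact p.Prime] (T : Sylow p H) (L : Subgroup H)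
    (hTL : (T : Subgroup H) ≤ L) (S : Sylow p ↥L) :
    ∃ r ∈ opOf p L, (S : Subgroup ↥L).map L.subtype = (T : Subgroup H).map (MulAut.conj r).toMonoidHom := by
  obtain ⟨l, hl⟩ := MulAction.exists_smul_eq ↥L (T.subtype hTL) S
  have hn := pResidual_normal p ↥L
  have hl' : l ∈ pResidual p ↥L ⊔ ((T.subtype hTL : Sylow p ↥L) : Subgroup ↥L) := by
    rw [pResidual_sup_sylow]; trivial
  rw [Subgroup.mem_sup_of_normal_left] at hl'
  obtain ⟨r, hr, t, ht, rfl⟩ := hl'
  have ht' : t • (T.subtype hTL) = T.subtype hTL := by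
    rw [Sylow.smul_eq_iff_mem_normalizer]
    exact Subgroup.le_normalizer ht
  rw [mul_smul, ht'] at hl
  refine ⟨(r : H), ⟨r, hr, rfl⟩, ?_⟩
  rw [← hl, sylow_smul_map_subtype, Sylow.coe_subtype, Subgroup.subgroupOf_map_subtype,
    inf_of_le_left hTL]

/-- Let H be a finite group, p a prime, T a Sylow p-subgroup and L a subgroup of characteristic p containing T; let Z_L be the subgroup generated by the Ω₁(Z(S)) over the Sylow p-subgroups S of L and O^p(L) the subgroup generated by the elements of L of order prime to p. Then Z_L = Ω₁(Z(L))·[Z_L, O^p(L)] and [Z_L, L] = [Z_L, O^p(L)]. -/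
theorem result {H : Type*} [Group H] [Finite H] {p : ℕ} [Fact p.Prime] (T : Sylow p H) (L : Subgroup H) (hTL : (T : Subgroup H) ≤ L) (hL : Subgroup.centralizer (Cfsg.pCore p ↥L : Set ↥L) ≤ Cfsg.pCore p ↥L) : Cfsg.sylowCenterClosure p L = (Cfsg.omegaOne p (L ⊓ Subgroup.centralizer ((L : Subgroup H) : Set H))) ⊔ ⁅Cfsg.sylowCenterClosure p L, (Cfsg.pResidual p ↥L).map L.subtype⁆ ∧ ⁅Cfsg.sylowCenterClosure p L, L⁆ = ⁅Cfsg.sylowCenterClosure p L, (Cfsg.pResidual p ↥L).map L.subtype⁆ := by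
  show Cfsg.sylowCenterClosure p L = _ ⊔ ⁅Cfsg.sylowCenterClosure p L, opOf p L⁆ ∧
    ⁅Cfsg.sylowCenterClosure p L, L⁆ = ⁅Cfsg.sylowCenterClosure p L, opOf p L⁆
  set Z := Cfsg.sylowCenterClosure p L with hZ
  set R := opOf p L with hR
  have hZL : Z ≤ L := sylowCenterClosure_le p L
  have hLZ : L ≤ Subgroup.normalizer (Z : Set H) := le_normalizer_sylowCenterClosure p L
  have hZel : Cfsg.IsElementaryAbelian p Z :=
    IsElementaryAbelian.mono (isElementaryAbelian_omegaOne_center p _)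
      (sylowCenterClosure_le_omegaOne_of_charP hL)
  have hZc : Z ≤ Subgroup.centralizer (Z : Set H) :=
    Subgroup.le_centralizer_iff_isMulCommutative.mpr hZel.1
  have hRL : R ≤ L := opOf_le p L
  have hLR : L ≤ Subgroup.normalizer (R : Set H) :=
    Subgroup.le_normalizer.trans (normalizer_le_normalizer_opOf p L)
  have hRT : R ⊔ (T : Subgroup H) = L := opOf_sup_sylow T L hTL
  have hWZ : ⁅Z, R⁆ ≤ Z := Subgroup.le_normalizer_iff_commutator_le_left.mp (hRL.trans hLZ)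
  have hLW : L ≤ Subgroup.normalizer ((⁅Z, R⁆ : Subgroup H) : Set H) :=
    le_trans (le_inf hLZ hLR) (normalizer_inf_normalizer_le_normalizer_commutator Z R)
  have hZ₀Z : Cfsg.omegaOne p ((T : Subgroup H) ⊓ Subgroup.centralizer ((T : Subgroup H) : Set H)) ≤ Z :=
    omegaOne_center_sylow_le_sylowCenterClosure T hTL
  -- Part A: Z ≤ Z₀ ⊔ W
  have hA : Z ≤ Cfsg.omegaOne p ((T : Subgroup H) ⊓ Subgroup.centralizer ((T : Subgroup H) : Set H)) ⊔
      ⁅Z, R⁆ := by
    rw [hZ]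
    unfold Cfsg.sylowCenterClosure
    apply iSup_le
    intro S w hw
    obtain ⟨r, hr, hS⟩ := sylow_eq_conj_opOf T L hTL S
    rw [hS] at hw
    have h1 := conj_mem_omegaOne_center r⁻¹ hw
    have h2 : ((T : Subgroup H).map (MulAut.conj r).toMonoidHom).map (MulAut.conj r⁻¹).toMonoidHom =
        (T : Subgroup H) := by
      ext x
      simp [mem_map_conj_iff, mul_assoc]
    rw [h2] at h1
    have h3 : w = (⁅r⁻¹ * w * r⁻¹⁻¹, r⁆)⁻¹ * (r⁻¹ * w * r⁻¹⁻¹) := by
      simp [commutatorElement_def, mul_assoc]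
    rw [h3, sup_comm]
    exact Subgroup.mul_mem_sup
      (Subgroup.inv_mem _ (Subgroup.commutator_mem_commutator (hZ₀Z h1) hr)) h1
  -- Part B: ⁅Z, L⁆ = W
  have hB : ⁅Z, L⁆ = ⁅Z, R⁆ := by
    apply le_antisymm
    · have h1 : ⁅Z, R ⊔ (T : Subgroup H)⁆ ≤ ⁅Z, R⁆ ⊔ ⁅Z, (T : Subgroup H)⁆ :=
        Cfsg.Agent.S2833.commutator_sup_le Z R _ (hRL.trans hLZ) (hTL.trans hLZ)
      rw [hRT] at h1
      refine h1.trans (sup_le le_rfl ?_)
      rw [Subgroup.commutator_le]
      intro z hz t ht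
      have hz' := hA hz
      have hZ₀W : Cfsg.omegaOne p ((T : Subgroup H) ⊓ Subgroup.centralizer ((T : Subgroup H) : Set H)) ≤
          Subgroup.normalizer ((⁅Z, R⁆ : Subgroup H) : Set H) := hZ₀Z.trans (hZL.trans hLW)
      have hz'' : z ∈ ((Cfsg.omegaOne p ((T : Subgroup H) ⊓ Subgroup.centralizer ((T : Subgroup H) : Set H)) ⊔
          ⁅Z, R⁆ : Subgroup H) : Set H) := hz'
      rw [Subgroup.coe_mul_of_left_le_normalizer_right _ _ hZ₀W] at hz''
      obtain ⟨z₀, hz₀, w, hw, rfl⟩ := hz''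
      have hz₀' := (mem_omegaOne_center_iff.mp hz₀)
      have hcomm : ⁅z₀, t⁆ = 1 := by
        rw [commutatorElement_eq_one_iff_commute]
        exact ((Subgroup.mem_centralizer_iff.mp hz₀'.2.1) t ht).symm
      have h2 : ⁅z₀ * w, t⁆ = z₀ * ⁅w, t⁆ * z₀⁻¹ * ⁅z₀, t⁆ := by
        simp [commutatorElement_def, mul_assoc]
      rw [h2, hcomm, mul_one]
      have hwt : ⁅w, t⁆ ∈ ⁅Z, R⁆ := by
        have h3 : ⁅w, t⁆ = w * (t * w⁻¹ * t⁻¹) := by simp [commutatorElement_def, mul_assoc]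
        rw [h3]
        exact Subgroup.mul_mem _ hw (conj_mem_of_le_normalizer hLW (hTL ht) (Subgroup.inv_mem _ hw))
      exact conj_mem_of_le_normalizer hZ₀W hz₀ hwt
    · exact Subgroup.commutator_mono le_rfl hRL
  -- Part C: Z₀ ≤ Ω₁Z(L) ⊔ W
  have hidx : ¬ p ∣ ((T : Subgroup H).subgroupOf L).index := by
    have := (T.subtype hTL).not_dvd_index
    rwa [Sylow.coe_subtype] at this
  have hC : Cfsg.omegaOne p ((T : Subgroup H) ⊓ Subgroup.centralizer ((T : Subgroup H) : Set H)) ≤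
      Cfsg.omegaOne p (L ⊓ Subgroup.centralizer ((L : Subgroup H) : Set H)) ⊔ ⁅Z, R⁆ := by
    intro z hz
    have hz' := mem_omegaOne_center_iff.mp hz
    have hzT : ∀ t ∈ (T : Subgroup H), t * z * t⁻¹ = z := by
      intro t ht
      have := (Subgroup.mem_centralizer_iff.mp hz'.2.1) t ht
      rw [this, mul_inv_cancel_right]
    obtain ⟨c, hcZ, hcp, hcL, w, hw, rfl⟩ := trace_decomp hLZ hZel.1 hidx (hZ₀Z hz) hz'.2.2 hzT
    rw [hB] at hw
    refine Subgroup.mul_mem_sup ?_ hw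
    rw [mem_omegaOne_center_iff]
    refine ⟨hZL hcZ, ?_, hcp⟩
    rw [Subgroup.mem_centralizer_iff]
    intro l hl
    have := hcL l hl
    calc l * c = (l * c * l⁻¹) * l := by group
      _ = c * l := by rw [this]
  -- Ω₁Z(L) ≤ Z
  have hD : Cfsg.omegaOne p (L ⊓ Subgroup.centralizer ((L : Subgroup H) : Set H)) ≤ Z := by
    refine le_trans ?_ hZ₀Z
    intro c hc
    rw [mem_omegaOne_center_iff] at hc ⊢
    obtain ⟨hcL, hcC, hcp⟩ := hc
    have hcT : c ∈ Subgroup.centralizer ((T : Subgroup H) : Set H) :=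
      Subgroup.centralizer_le (show ((T : Subgroup H) : Set H) ⊆ L from hTL) hcC
    refine ⟨?_, hcT, hcp⟩
    -- c ∈ C_L(O_p(L)) ≤ O_p(L) ≤ T
    have h1 : (⟨c, hcL⟩ : ↥L) ∈ Subgroup.centralizer (Cfsg.pCore p ↥L : Set ↥L) := by
      rw [Subgroup.mem_centralizer_iff]
      intro x _
      apply Subtype.ext
      have := (Subgroup.mem_centralizer_iff.mp hcC) (x : H) x.2
      simpa using this
    have h2 : c ∈ Cfsg.pCoreOf p L := ⟨⟨c, hcL⟩, hL h1, rfl⟩
    exact pCoreOf_le_sylow_of_le T hTL h2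
  refine ⟨?_, hB⟩
  apply le_antisymm
  · exact hA.trans (sup_le hC le_sup_right)
  · exact sup_le hD hWZ

end Cfsg.Agent.S2823
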