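import Cfsg.Statements.S2826
-- import your own Cfsg.Agent.* helpers here
import Cfsg.Agent.S2823

set_option autoImplicit false
open Cfsg

namespace Cfsg.Agent.S2826

open Cfsg.Agent.Lib.Helper47
open scoped commutatorElement Pointwise

/-- Characteristic `p` transfers from `H` to `↥(⊤ : Subgroup H)`. -/
theorem charP_top {H : Type*} [Group H] {p : ℕ}
    (hH : Subgroup.centralizer (Cfsg.pCore p H : Set H) ≤ Cfsg.pCore p H) :
    Subgroup.centralizer (Cfsg.pCore p ↥(⊤ : Subgroup H) : Set ↥(⊤ : Subgroup H)) ≤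
      Cfsg.pCore p ↥(⊤ : Subgroup H) := by
  intro x hx
  have htop := pCoreOf_top p H
  have h1 : (x : H) ∈ Subgroup.centralizer (Cfsg.pCore p H : Set H) := by
    rw [Subgroup.mem_centralizer_iff]
    intro y hy
    have hy' : y ∈ pCoreOf p (⊤ : Subgroup H) := by rw [htop]; exact hy
    obtain ⟨y', hy'', rfl⟩ := hy'
    have := (Subgroup.mem_centralizer_iff.mp hx) y' hy''
    have h2 := congrArg (Subtype.val) this
    simpa using h2
  have h2 : (x : H) ∈ pCoreOf p (⊤ : Subgroup H) := by rw [htop]; exact hH h1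
  obtain ⟨x', hx', hxx⟩ := h2
  have : x' = x := Subtype.ext hxx
  rw [← this]; exact hx'

/-- Let H be a finite group of characteristic p, T a Sylow p-subgroup, and V a normal elementary abelian p-subgroup of H containing Ω₁(Z(T)). Then C_H(Ω₁(Z(T))) = C_H([V, O^p(H)] ∩ Ω₁(Z(T))), O^p(H) being generated by the elements of order prime to p. -/
theorem result {H : Type*} [Group H] [Finite H] {p : ℕ} [Fact p.Prime] (hH : Subgroup.centralizer (Cfsg.pCore p H : Set H) ≤ Cfsg.pCore p H) (T : Sylow p H) (V : Subgroup H) [V.Normal] (hV : Cfsg.IsElementaryAbelian p V) (hZV : (Cfsg.omegaOne p ((T : Subgroup H) ⊓ Subgroup.centralizer (((T : Subgroup H) : Subgroup H) : Set H))) ≤ V) : Subgroup.centralizer ((Cfsg.omegaOne p ((T : Subgroup H) ⊓ Subgroup.centralizer (((T : Subgroup H) : Subgroup H) : Set H))) : Set H) = Subgroup.centralizer (((⁅V, Cfsg.pResidual p H⁆ ⊓ (Cfsg.omegaOne p ((T : Subgroup H) ⊓ Subgroup.centralizer (((T : Subgroup H) : Subgroup H) : Set H))))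 : Subgroup H) : Set H) := by
  set Z₀ := Cfsg.omegaOne p ((T : Subgroup H) ⊓ Subgroup.centralizer (((T : Subgroup H) : Subgroup H) : Set H)) with hZ₀
  have key := (Cfsg.Agent.S2823.result T ⊤ le_top (charP_top hH)).1
  change Cfsg.sylowCenterClosure p ⊤ = _ ⊔ ⁅Cfsg.sylowCenterClosure p ⊤, opOf p ⊤⁆ at key
  set Z := Cfsg.sylowCenterClosure p (⊤ : Subgroup H) with hZ
  set A := Cfsg.omegaOne p ((⊤ : Subgroup H) ⊓ Subgroup.centralizer (((⊤ : Subgroup H)) : Set H)) with hA
  -- Z ≤ V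
  have hZV' : Z ≤ V := by
    rw [hZ]
    unfold Cfsg.sylowCenterClosure
    apply iSup_le
    intro S w hw
    obtain ⟨r, hr, hS⟩ := Cfsg.Agent.S2823.sylow_eq_conj_opOf T ⊤ le_top S
    rw [hS] at hw
    have h1 := conj_mem_omegaOne_center r⁻¹ hw
    have h2 : ((T : Subgroup H).map (MulAut.conj r).toMonoidHom).map (MulAut.conj r⁻¹).toMonoidHom =
        (T : Subgroup H) := by
      ext x
      simp [mem_map_conj_iff, mul_assoc]
    rw [h2] at h1
    have h3 := hZV h1
    have h4 := ‹V.Normal›.conj_mem _ h3 r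
    simpa [mul_assoc] using h4
  have hRle : opOf p (⊤ : Subgroup H) ≤ Cfsg.pResidual p H := by
    rw [opOf_le_iff]
    intro x _ hx
    exact Subgroup.subset_closure hx
  have hWle : ⁅Z, opOf p (⊤ : Subgroup H)⁆ ≤ ⁅V, Cfsg.pResidual p H⁆ :=
    Subgroup.commutator_mono hZV' hRle
  -- A ≤ Z₀
  have hAZ₀ : A ≤ Z₀ := by
    intro a ha
    rw [hA, mem_omegaOne_center_iff] at ha
    rw [hZ₀, mem_omegaOne_center_iff]
    obtain ⟨_, haC, hap⟩ := ha
    refine ⟨?_, Subgroup.centralizer_le (Set.subset_univ _) haC, hap⟩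
    have : a ∈ Subgroup.centralizer (Cfsg.pCore p H : Set H) :=
      Subgroup.centralizer_le (Set.subset_univ _) haC
    exact pCore_le_sylow T (hH this)
  -- A central
  have hAcen : ∀ a ∈ A, ∀ g : H, g * a = a * g := by
    intro a ha g
    rw [hA, mem_omegaOne_center_iff] at ha
    exact (Subgroup.mem_centralizer_iff.mp ha.2.1) g (Subgroup.mem_top g)
  -- Z₀ ≤ A ⊔ W
  have hdec : Z₀ ≤ A ⊔ (⁅V, Cfsg.pResidual p H⁆ ⊓ Z₀) := by
    intro z hz
    have hzZ : z ∈ Z := omegaOne_center_sylow_le_sylowCenterClosure T le_top hz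
    rw [key] at hzZ
    have hAn : A ≤ Subgroup.normalizer ((⁅Z, opOf p (⊤ : Subgroup H)⁆ : Subgroup H) : Set H) := by
      intro a ha
      rw [Subgroup.mem_normalizer_iff]
      intro x
      have : a * x * a⁻¹ = x := by
        rw [← hAcen a ha x, mul_inv_cancel_right]
      rw [this]
    have hz' : z ∈ ((A ⊔ ⁅Z, opOf p (⊤ : Subgroup H)⁆ : Subgroup H) : Set H) := hzZ
    rw [Subgroup.coe_mul_of_left_le_normalizer_right _ _ hAn] at hz'
    obtain ⟨a, ha, b, hb, rfl⟩ := hz'
    refine Subgroup.mul_mem_sup ha (Subgroup.mem_inf.mpr ⟨hWle hb, ?_⟩)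
    have : b = a⁻¹ * (a * b) := by group
    rw [this]
    exact Subgroup.mul_mem _ (Subgroup.inv_mem _ (hAZ₀ ha)) hz
  apply le_antisymm
  · exact Subgroup.centralizer_le (fun x hx => (Subgroup.mem_inf.mp hx).2)
  · intro g hg
    have h1 : g ∈ Subgroup.centralizer ((A : Subgroup H) : Set H) := by
      rw [Subgroup.mem_centralizer_iff]
      intro a ha
      exact (hAcen a ha g).symm
    have h2 := centralizer_inf_centralizer_le_centralizer_sup _ _ (Subgroup.mem_inf.mpr ⟨h1, hg⟩)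
    exact Subgroup.centralizer_le hdec h2

end Cfsg.Agent.S2826
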