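import Cfsg.Statements.S2842
-- import your own Cfsg.Agent.* helpers here
import Cfsg.Agent.Lib.Helper47.WeaklyClosed
import Cfsg.Agent.Lib.Helper47.Coprime
import Cfsg.Agent.Lib.Helper31.CharPLocals
import Cfsg.Agent.S2826

set_option autoImplicit false
open Cfsg

namespace Cfsg.Agent.S2842

open Cfsg.Agent.Lib.Helper49 Cfsg.Agent.Lib.Helper31

/-- A weakly closed subgroup `Q` is the only conjugate of itself inside any `p`-subgroup containing
it. -/
theorem conj_eq_of_weaklyClosed_of_le_pgroup {H : Type*} [Group H] [Finite H] {p : ℕ}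
    [Fact p.Prime] {Q : Subgroup H} (hwc : Cfsg.IsWeaklyClosedSubgroup p Q) {R₀ : Subgroup H}
    (hR₀ : IsPGroup p ↥R₀) (hQR : Q ≤ R₀) {d : H}
    (hd : Q.map (MulAut.conj d).toMonoidHom ≤ R₀) : Q.map (MulAut.conj d).toMonoidHom = Q := by
  obtain ⟨T, hQT, hT⟩ := hwc
  obtain ⟨h, hh⟩ := Cfsg.Agent.Lib.Helper47.exists_le_map_conj_sylow T hR₀
  have hback : ((T : Subgroup H).map (MulAut.conj h).toMonoidHom).map
      (MulAut.conj h⁻¹).toMonoidHom = (T : Subgroup H) := by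
    rw [Cfsg.Agent.Lib.Helper47.map_conj_map_conj, inv_mul_cancel,
      Cfsg.Agent.Lib.Helper47.map_conj_one]
  have h1 : Q.map (MulAut.conj h⁻¹).toMonoidHom ≤ (T : Subgroup H) := by
    rw [← hback]
    exact Subgroup.map_mono (hQR.trans hh)
  have h2 : Q.map (MulAut.conj (h⁻¹ * d)).toMonoidHom ≤ (T : Subgroup H) := by
    rw [← Cfsg.Agent.Lib.Helper47.map_conj_map_conj, ← hback]
    exact Subgroup.map_mono (hd.trans hh)
  have e1 := hT _ h1
  have e2 := hT _ h2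
  have e3 : Q.map (MulAut.conj (h⁻¹ * d)).toMonoidHom = Q.map (MulAut.conj h⁻¹).toMonoidHom := by
    rw [e1, e2]
  have e4 := congrArg (fun V : Subgroup H => V.map (MulAut.conj h).toMonoidHom) e3
  simp only [Cfsg.Agent.Lib.Helper47.map_conj_map_conj] at e4
  rw [mul_inv_cancel, Cfsg.Agent.Lib.Helper47.map_conj_one, ← mul_assoc, mul_inv_cancel,
    one_mul] at e4
  exact e4

/-- A weakly closed subgroup is normal in every `p`-subgroup containing it. -/
theorem le_normalizer_of_weaklyClosed_of_le_pgroup {H : Type*} [Group H] [Finite H] {p : ℕ}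
    [Fact p.Prime] {Q : Subgroup H} (hwc : Cfsg.IsWeaklyClosedSubgroup p Q) {R₀ : Subgroup H}
    (hR₀ : IsPGroup p ↥R₀) (hQR : Q ≤ R₀) : R₀ ≤ Subgroup.normalizer (Q : Set H) := by
  intro r hr
  rw [Subgroup.mem_normalizer_iff_map_conj_eq]
  apply conj_eq_of_weaklyClosed_of_le_pgroup hwc hR₀ hQR
  rintro _ ⟨q, hq, rfl⟩
  exact R₀.mul_mem (R₀.mul_mem hr (hQR hq)) (R₀.inv_mem hr)

/-- The elements normalizing `R` and `Z` and acting trivially on `R` modulo `Z`. -/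
def trivOn {H : Type*} [Group H] (R Z : Subgroup H) : Subgroup H where
  carrier := {x | x ∈ Subgroup.normalizer (R : Set H) ∧ x ∈ Subgroup.normalizer (Z : Set H) ∧
    ∀ r ∈ R, x * r * x⁻¹ * r⁻¹ ∈ Z}
  one_mem' := ⟨Subgroup.one_mem _, Subgroup.one_mem _, fun r _ => by simp⟩
  mul_mem' := by
    rintro x y ⟨hxR, hxZ, hx⟩ ⟨hyR, hyZ, hy⟩
    refine ⟨Subgroup.mul_mem _ hxR hyR, Subgroup.mul_mem _ hxZ hyZ, fun r hr => ?_⟩
    have h1 : x * y * r * (x * y)⁻¹ * r⁻¹ = x * (y * r * y⁻¹ * r⁻¹) * x⁻¹ * (x * r * x⁻¹ * r⁻¹) := by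
      group
    rw [h1]
    exact Z.mul_mem ((Subgroup.mem_normalizer_iff.mp hxZ _).mp (hy r hr)) (hx r hr)
  inv_mem' := by
    rintro x ⟨hxR, hxZ, hx⟩
    refine ⟨Subgroup.inv_mem _ hxR, Subgroup.inv_mem _ hxZ, fun r hr => ?_⟩
    have hr' : x⁻¹ * r * x ∈ R := by
      have := (Subgroup.mem_normalizer_iff.mp (Subgroup.inv_mem _ hxR) r).mp hr
      simpa using this
    have h1 := hx _ hr'
    have h2 : x⁻¹ * r * x⁻¹⁻¹ * r⁻¹ = (x * (x⁻¹ * r * x) * x⁻¹ * (x⁻¹ * r * x)⁻¹)⁻¹ := by group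
    rw [h2]
    exact Z.inv_mem h1

theorem mem_trivOn {H : Type*} [Group H] {R Z : Subgroup H} {x : H} :
    x ∈ trivOn R Z ↔ x ∈ Subgroup.normalizer (R : Set H) ∧ x ∈ Subgroup.normalizer (Z : Set H) ∧
      ∀ r ∈ R, x * r * x⁻¹ * r⁻¹ ∈ Z := Iff.rfl

theorem le_normalizer_trivOn {H : Type*} [Group H] (R Z : Subgroup H) :
    Subgroup.normalizer (R : Set H) ⊓ Subgroup.normalizer (Z : Set H) ≤
      Subgroup.normalizer ((trivOn R Z : Subgroup H) : Set H) := by
  have key : ∀ l ∈ Subgroup.normalizer (R : Set H) ⊓ Subgroup.normalizer (Z : Set H),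
      ∀ x ∈ trivOn R Z, l * x * l⁻¹ ∈ trivOn R Z := by
    rintro l ⟨hlR, hlZ⟩ x ⟨hxR, hxZ, hx⟩
    refine ⟨Subgroup.mul_mem _ (Subgroup.mul_mem _ hlR hxR) (Subgroup.inv_mem _ hlR),
      Subgroup.mul_mem _ (Subgroup.mul_mem _ hlZ hxZ) (Subgroup.inv_mem _ hlZ), fun r hr => ?_⟩
    have hr' : l⁻¹ * r * l ∈ R := by
      have := (Subgroup.mem_normalizer_iff.mp (Subgroup.inv_mem _ hlR) r).mp hr
      simpa using this
    have h1 := hx _ hr'
    have h2 : l * x * l⁻¹ * r * (l * x * l⁻¹)⁻¹ * r⁻¹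
        = l * (x * (l⁻¹ * r * l) * x⁻¹ * (l⁻¹ * r * l)⁻¹) * l⁻¹ := by group
    rw [h2]
    exact (Subgroup.mem_normalizer_iff.mp hlZ _).mp h1
  intro l hl
  rw [Subgroup.mem_normalizer_iff]
  intro x
  constructor
  · exact key l hl x
  · intro hx
    have := key l⁻¹ (Subgroup.inv_mem _ hl) _ hx
    simpa [mul_assoc] using this

theorem centralizer_singleton_eq_centralizer_zpowers {H : Type*} [Group H] (y : H) :
    Subgroup.centralizer ({y} : Set H) =
      Subgroup.centralizer ((Subgroup.zpowers y : Subgroup H) : Set H) := by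
  ext x
  rw [Subgroup.mem_centralizer_singleton_iff, Subgroup.mem_centralizer_iff]
  constructor
  · intro h z hz
    obtain ⟨k, rfl⟩ := Subgroup.mem_zpowers_iff.mp hz
    have hc : Commute x y := h
    exact ((hc.zpow_right k).eq).symm
  · intro h
    exact (h y (Subgroup.mem_zpowers y)).symm

/-- Let Q be a nontrivial p-subgroup of the finite group H that is a weakly closed subgroup with C_H(Q) ≤ Q, and Q ≤ L ≤ H. Suppose H has characteristic p, or more generally that C_H(y) has characteristic p for some nonidentity y ∈ C_{O_p(L)}(Q). Then [Q, C_H(O_p(L))] ≤ Q ∩ O_p(L), C_H(O_p(L)) is a p-group, and L has characteristic p. -/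
theorem result {H : Type*} [Group H] [Finite H] {p : ℕ} [Fact p.Prime] (Q : Subgroup H) (hQp : IsPGroup p ↥Q) (hQ1 : Q ≠ ⊥) (hwc : Cfsg.IsWeaklyClosedSubgroup p Q) (hCQ : Subgroup.centralizer ((Q : Subgroup H) : Set H) ≤ Q) (L : Subgroup H) (hQL : Q ≤ L) (hyp : Subgroup.centralizer (Cfsg.pCore p H : Set H) ≤ Cfsg.pCore p H ∨ ∃ y : H, y ≠ 1 ∧ y ∈ (Cfsg.pCoreOf p L) ⊓ Subgroup.centralizer ((Q : Subgroup H) : Set H) ∧ Subgroup.centralizer (Cfsg.pCore p ↥(Subgroup.centralizer ({y} : Set H)) : Set ↥(Subgroup.centralizer ({y} : Set H))) ≤ Cfsg.pCore p ↥(Subgroup.centralizer ({y} : Set H))) : ⁅Q, Subgroup.centralizer (((Cfsg.pCoreOf p L) : Subgroup H) : Set H)⁆ ≤ Q ⊓ (Cfsg.pCoreOf p L) ∧ IsPGroup p ↥(Subgroup.centralizer (((Cfsg.pCoreOf p L) : Subgroup H) : Set H)) ∧ Subgroup.centralizer (Cfsg.pCore p ↥L : Set ↥L) ≤ Cfsg.pCore p ↥L := by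
  classical
  have hPeq : Cfsg.pCoreOf p L = pCoreIn p L := rfl
  rw [hPeq] at hyp ⊢
  set P : Subgroup H := pCoreIn p L with hP
  set D : Subgroup H := Subgroup.centralizer (P : Set H) with hD
  have hPp : IsPGroup p ↥P := isPGroup_pCoreIn p L
  have hPL : P ≤ L := pCoreIn_le p L
  have hLnP : L ≤ Subgroup.normalizer (P : Set H) := le_normalizer_pCoreIn p L
  have hLnD : L ≤ Subgroup.normalizer (D : Set H) :=
    hLnP.trans (Cfsg.Agent.Lib.Helper49.normalizer_le_normalizer_centralizer P)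
  -- (A) `D` has characteristic `p`
  have hDchar : CharP p D := by
    rcases hyp with h | ⟨y, _, hyPQ, hy⟩
    · have h1 : CharP p (⊤ : Subgroup H) := Cfsg.Agent.S2826.charP_top h
      have h2 := charP_inf_centralizer h1 (le_top : P ≤ ⊤) hPp
      rwa [top_inf_eq] at h2
    · have hyP : y ∈ P := hyPQ.1
      have hy' : CharP p (Subgroup.centralizer ({y} : Set H)) := hy
      rw [centralizer_singleton_eq_centralizer_zpowers] at hy'
      have hzle : Subgroup.zpowers y ≤ P := (Subgroup.zpowers_le).mpr hyP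
      have hzp : IsPGroup p ↥(Subgroup.zpowers y) := hPp.to_le hzle
      have h2 := charP_normalizer_of_charP_centralizer hzp hy'
      exact charP_centralizer_of_le_of_charP hPp hzle h2
  -- `R = O_p(D)`
  set R : Subgroup H := pCoreIn p D with hR
  have hRp : IsPGroup p ↥R := isPGroup_pCoreIn p D
  have hRD : R ≤ D := pCoreIn_le p D
  have hDnR : D ≤ Subgroup.normalizer (R : Set H) := le_normalizer_pCoreIn p D
  have hLnR : L ≤ Subgroup.normalizer (R : Set H) := le_normalizer_pCoreIn_of_le_normalizer hLnD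
  have hQnR : Q ≤ Subgroup.normalizer (R : Set H) := hQL.trans hLnR
  have hQnD : Q ≤ Subgroup.normalizer (D : Set H) := hQL.trans hLnD
  -- `Z = Z(P)`
  set Z : Subgroup H := P ⊓ D with hZ
  have hDcZ : D ≤ Subgroup.centralizer (Z : Set H) := Subgroup.centralizer_le inf_le_left
  have hDnZ : D ≤ Subgroup.normalizer (Z : Set H) :=
    hDcZ.trans (Subgroup.centralizer_le_normalizer _)
  have hDZ : ∀ d ∈ D, ∀ z ∈ Z, Commute d z := by
    intro d hd z hz
    exact ((Subgroup.mem_centralizer_iff.mp (hDcZ hd)) z hz).symm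
  have hZR : Z ≤ R := le_pCoreIn_of_normalized inf_le_right hDnZ (hPp.to_le inf_le_left)
  have hRLZ : R ⊓ L ≤ Z := by
    apply le_inf
    · apply le_pCoreIn_of_normalized inf_le_right
      · intro l hl
        exact mem_normalizer_inf (hLnR hl) (Subgroup.le_normalizer hl)
      · exact hRp.to_le inf_le_left
    · exact inf_le_left.trans hRD
  have hQnZ : Q ≤ Subgroup.normalizer (Z : Set H) := fun q hq =>
    mem_normalizer_inf (hLnP (hQL hq)) (hLnD (hQL hq))
  -- `QR` is a `p`-group, so `Q ⊴ QR`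
  have hQRp : IsPGroup p ↥(Q ⊔ R : Subgroup H) := IsPGroup.to_sup_of_normal_right' hQp hRp hQnR
  have hRnQ : R ≤ Subgroup.normalizer (Q : Set H) :=
    le_sup_right.trans (le_normalizer_of_weaklyClosed_of_le_pgroup hwc hQRp le_sup_left)
  have hQR_Z : ∀ q ∈ Q, ∀ r ∈ R, q * r * q⁻¹ * r⁻¹ ∈ Z := by
    intro q hq r hr
    apply hRLZ
    constructor
    · exact R.mul_mem ((Subgroup.mem_normalizer_iff.mp (hQnR hq) r).mp hr) (R.inv_mem hr)
    · have h1 : r * q⁻¹ * r⁻¹ ∈ Q :=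
        (Subgroup.mem_normalizer_iff.mp (hRnQ hr) _).mp (Q.inv_mem hq)
      have h2 : q * r * q⁻¹ * r⁻¹ = q * (r * q⁻¹ * r⁻¹) := by group
      rw [h2]
      exact hQL (Q.mul_mem hq h1)
  -- the subgroup `K = D ∩ T₀`
  set T₀ : Subgroup H := trivOn R Z with hT₀
  have hQT₀ : Q ≤ T₀ := fun q hq => ⟨hQnR hq, hQnZ hq, hQR_Z q hq⟩
  have hDnT₀ : D ≤ Subgroup.normalizer (T₀ : Set H) := fun d hd =>
    le_normalizer_trivOn R Z ⟨hDnR hd, hDnZ hd⟩
  set K : Subgroup H := D ⊓ T₀ with hK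
  have hKp : IsPGroup p ↥K := by
    apply Cfsg.Agent.Lib.Helper47.isPGroup_subgroup_of_forall_coprime_eq_one
    intro x hx hcop
    apply eq_one_of_charP_of_commute_comm hDchar hx.1 hcop
    intro r hr
    exact hDZ x hx.1 _ (hx.2.2.2 r hr)
  have hKR : K ≤ R := by
    apply le_pCoreIn_of_normalized inf_le_left _ hKp
    intro d hd
    exact mem_normalizer_inf (Subgroup.le_normalizer hd) (hDnT₀ hd)
  have hcommK : ∀ q ∈ Q, ∀ d ∈ D, d * q * d⁻¹ * q⁻¹ ∈ K := by
    intro q hq d hd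
    constructor
    · have h1 : q * d⁻¹ * q⁻¹ ∈ D :=
        (Subgroup.mem_normalizer_iff.mp (hQnD hq) _).mp (D.inv_mem hd)
      have h2 : d * q * d⁻¹ * q⁻¹ = d * (q * d⁻¹ * q⁻¹) := by group
      rw [h2]
      exact D.mul_mem hd h1
    · have h1 : d * q * d⁻¹ ∈ T₀ := (Subgroup.mem_normalizer_iff.mp (hDnT₀ hd) _).mp (hQT₀ hq)
      exact T₀.mul_mem h1 (T₀.inv_mem (hQT₀ hq))
  -- `D` normalizes `Q`
  have hDnQ : D ≤ Subgroup.normalizer (Q : Set H) := by
    intro d hd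
    rw [Subgroup.mem_normalizer_iff_map_conj_eq]
    apply conj_eq_of_weaklyClosed_of_le_pgroup hwc hQRp le_sup_left
    rintro _ ⟨q, hq, rfl⟩
    show d * q * d⁻¹ ∈ Q ⊔ R
    have h2 : d * q * d⁻¹ = (d * q * d⁻¹ * q⁻¹) * q := by group
    rw [h2, sup_comm]
    exact Subgroup.mul_mem_sup (hKR (hcommK q hq d hd)) hq
  -- `D` is a `p`-group
  have hDp : IsPGroup p ↥D := by
    apply Cfsg.Agent.Lib.Helper47.isPGroup_subgroup_of_forall_coprime_eq_one
    intro d hd hcop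
    have hdQ : d ∈ Q := by
      apply hCQ
      rw [Subgroup.mem_centralizer_iff]
      intro q hq
      have hc : d * q * d⁻¹ * q⁻¹ ∈ Z := by
        apply hRLZ
        refine ⟨hKR (hcommK q hq d hd), hQL ?_⟩
        exact Q.mul_mem ((Subgroup.mem_normalizer_iff.mp (hDnQ hd) q).mp hq) (Q.inv_mem hq)
      obtain ⟨k, hk⟩ := hPp ⟨_, (inf_le_left : Z ≤ P) hc⟩
      have hk' : (d * q * d⁻¹ * q⁻¹) ^ (p ^ k) = 1 := by
        simpa using congrArg Subtype.val hk
      exact ((commute_of_coprime_of_commute_comm hcop (hDZ d hd _ hc) hk').eq).symm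
    obtain ⟨k, hk⟩ := hQp ⟨d, hdQ⟩
    have hk' : d ^ (p ^ k) = 1 := by simpa using congrArg Subtype.val hk
    have h1 : orderOf d ∣ p ^ k := orderOf_dvd_of_pow_eq_one hk'
    have h2 : (orderOf d).Coprime (p ^ k) := Nat.Coprime.pow_right k hcop
    have h3 : orderOf d = 1 := Nat.eq_one_of_dvd_coprimes h2 (dvd_refl _) h1
    exact orderOf_eq_one_iff.mp h3
  have hLDP : L ⊓ D ≤ P := by
    apply le_pCoreIn_of_normalized inf_le_left _ (hDp.to_le inf_le_right)
    intro l hl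
    exact mem_normalizer_inf (Subgroup.le_normalizer hl) (hLnD hl)
  refine ⟨?_, hDp, ?_⟩
  · rw [Subgroup.commutator_le]
    intro q hq d hd
    rw [commutatorElement_def]
    have hqQ : q * d * q⁻¹ * d⁻¹ ∈ Q := by
      have h1 : d * q⁻¹ * d⁻¹ ∈ Q :=
        (Subgroup.mem_normalizer_iff.mp (hDnQ hd) _).mp (Q.inv_mem hq)
      have h2 : q * d * q⁻¹ * d⁻¹ = q * (d * q⁻¹ * d⁻¹) := by group
      rw [h2]
      exact Q.mul_mem hq h1
    refine ⟨hqQ, hLDP ⟨hQL hqQ, ?_⟩⟩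
    exact D.mul_mem ((Subgroup.mem_normalizer_iff.mp (hQnD hq) d).mp hd) (D.inv_mem hd)
  · intro x hx
    have h1 : (x : H) ∈ D := (mem_centralizer_pCore_iff x).mp hx
    have h2 : (x : H) ∈ P := hLDP ⟨x.2, h1⟩
    exact (mem_pCoreIn_iff x.2).mp h2

end Cfsg.Agent.S2842
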