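import Mathlib
import Cfsg.Statements.S1293
import Cfsg.Agent.Lib.Helper54.PLocal
import Cfsg.Agent.Lib.Helper34.PComponent
import Cfsg.Agent.Lib.Helper49.FStarCharP
import Cfsg.Agent.Lib.Helper31.CharPLocals
import Cfsg.Agent.Lib.Helper1.Fitting

set_option autoImplicit false
open Cfsg

namespace Cfsg.Agent.S1293

theorem not_isQuasisimple_of_subsingleton {K : Type*} [Group K] [Subsingleton K] :
    ¬ IsQuasisimple K := by
  intro h
  have hnt : Nontrivial (K ⧸ Subgroup.center K) := h.2.toNontrivial
  have hss : Subsingleton (K ⧸ Subgroup.center K) :=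
    Function.Surjective.subsingleton (QuotientGroup.mk'_surjective (Subgroup.center K))
  exact not_subsingleton _ hss

theorem not_isComponent_of_eq_bot {Y : Type*} [Group Y] {K : Subgroup Y} (hK : K = ⊥) :
    ¬ IsComponent K := by
  intro h
  have hss : Subsingleton ↥K := by
    subst hK
    infer_instance
  exact not_isQuasisimple_of_subsingleton h.2

theorem not_isComponent_of_layer_eq_bot {Y : Type*} [Group Y] (h : layer Y = ⊥)
    (K : Subgroup Y) : ¬ IsComponent K := by
  intro hK
  have hle : K ≤ layer Y := le_sSup hK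
  rw [h, le_bot_iff] at hle
  exact not_isComponent_of_eq_bot hle hK

/-- If `O_{p'}(H) = 1` and `H` has no component, then `F*(H) = O_p(H)`. -/
theorem gfs_eq_pCore_gen {H : Type*} [Group H] [Finite H] (p : ℕ) [hp : Fact p.Prime]
    (h1 : pPrimeCore p H = ⊥) (hno : ∀ K : Subgroup H, ¬ IsComponent K) :
    generalizedFittingSubgroup H = pCore p H := by
  have hlayer : layer H = ⊥ := by
    unfold layer
    rw [eq_bot_iff]
    apply sSup_le
    intro K hK
    exact absurd hK (hno K)
  have hfit : fittingSubgroup H ≤ pCore p H := by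
    rw [Cfsg.Agent.Lib.Helper1.fittingSubgroup_eq_iSup_pCore]
    refine iSup_le fun q => ?_
    by_cases hq : (q : ℕ) = p
    · rw [hq]
    · have hqq : Fact (q : ℕ).Prime := ⟨q.2⟩
      have hPG : IsPGroup (q : ℕ) (pCore (q : ℕ) H) := Cfsg.Agent.Lib.Helper1.pCore_isPGroup _
      have hle : pCore (q : ℕ) H ≤ pPrimeCore p H := by
        apply Cfsg.Agent.Lib.Helper1.le_pPrimeCore (Cfsg.Agent.Lib.Helper1.pCore_normal _)
        obtain ⟨n, hn⟩ := hPG.exists_card_eq
        rw [hn]
        apply Nat.Coprime.pow_left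
        rw [Nat.coprime_primes q.2 hp.out]
        exact hq
      rw [h1] at hle
      exact hle.trans bot_le
  apply le_antisymm
  · unfold generalizedFittingSubgroup
    rw [hlayer, bot_sup_eq]
    exact hfit
  · exact (Cfsg.Agent.Lib.Helper31.pCore_le_fittingSubgroup p).trans le_sup_right

/-- Let G be finite with L_{p'}(G) = 1, and H = N_G(P) for a nontrivial p-subgroup P. Then L_{p'}(H) = 1 and O_{p'}(H) ≤ O_{p'}(G). -/
theorem result {G : Type*} [Group G] [Finite G] (p : ℕ) [Fact p.Prime] (hL : Cfsg.pLayer p G = ⊥) (P : Subgroup G) (hP : IsPGroup p ↥P) (hP1 : P ≠ ⊥) : Cfsg.pLayer p ↥(Subgroup.normalizer (P : Set G)) = ⊥ ∧ (Cfsg.pPrimeCore p ↥(Subgroup.normalizer (P : Set G))).map (Subgroup.normalizer (P : Set G)).subtype ≤ Cfsg.pPrimeCore p G := by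
  -- no p-components in G
  have hnoP : ∀ K : Subgroup G, ¬ IsPComponent p K := by
    intro K hK
    have hle : K ≤ pLayer p G := le_sSup hK
    rw [hL, le_bot_iff] at hle
    have hmap : K.map (QuotientGroup.mk' (pPrimeCore p G)) = ⊥ := by
      rw [hle, Subgroup.map_bot]
    exact not_isComponent_of_eq_bot hmap hK.2.1
  -- no components in G / O_{p'}(G)
  have hnoC : ∀ Kbar : Subgroup (G ⧸ pPrimeCore p G), ¬ IsComponent Kbar := by
    intro Kbar hKbar
    obtain ⟨K, hK, -⟩ := Cfsg.Agent.Lib.Helper34.exists_isPComponent_map_eq p hKbar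
    exact hnoP K hK
  -- G is p-constrained
  have hG : IsPConstrained p G := by
    rw [Cfsg.Agent.Lib.Helper54.isPConstrained_iff_centralizer_pCore_le]
    apply Cfsg.Agent.Lib.Helper31.centralizer_le_of_generalizedFittingSubgroup_eq_pCore
    exact gfs_eq_pCore_gen p (Cfsg.Agent.Lib.Helper54.pPrimeCore_quotient_pPrimeCore p) hnoC
  obtain ⟨hV, hH⟩ := Cfsg.Agent.Lib.Helper54.isPConstrained_of_local_aux p hG P
    (Subgroup.normalizer (P : Set G)) hP le_rfl (Subgroup.centralizer_le_normalizer _)
    (Or.inl Subgroup.le_normalizer)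
  constructor
  · -- the p-layer of H is trivial
    rw [Cfsg.Agent.Lib.Helper54.isPConstrained_iff_centralizer_pCore_le] at hH
    have hlay := Cfsg.Agent.Lib.Helper49.layer_eq_bot_of_charP hH
    unfold pLayer
    rw [eq_bot_iff]
    apply sSup_le
    intro K hK
    exact absurd hK.2.1 (not_isComponent_of_layer_eq_bot hlay _)
  · apply hV
    · exact Subgroup.map_subtype_le _
    · exact Cfsg.Agent.Lib.Helper54.le_normalizer_relK p _
    · rw [Subgroup.card_map_of_injective (Subgroup.subtype_injective _)]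
      exact Cfsg.Agent.Lib.Helper54.card_pPrimeCore_coprime p

end Cfsg.Agent.S1293
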