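import Mathlib
import Cfsg.Statements.S0555
-- import your own Cfsg.Agent.* helpers here

set_option autoImplicit false
open Cfsg

namespace Cfsg.Agent.S0555

open scoped commutatorElement

theorem aux_centralizes {Q : Type*} [Group Q] (A : Subgroup Q) [A.Normal]
    [IsCyclic A] (g h : Q) (x : Q) (hx : x ∈ A) :
    (h⁻¹ * g⁻¹ * h * g) * x = x * (h⁻¹ * g⁻¹ * h * g) := by
  obtain ⟨m, hm⟩ := MonoidHom.map_cyclic ((MulAut.conjNormal (H := A) g⁻¹).toMonoidHom)
  have hg : ∀ y ∈ A, g⁻¹ * y * g = y ^ m := by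
    intro y hy
    have := congrArg Subtype.val (hm ⟨y, hy⟩)
    simpa [MulAut.conjNormal_apply] using this
  have key : ∀ y ∈ A, h⁻¹ * (g⁻¹ * y * g) * h = g⁻¹ * (h⁻¹ * y * h) * g := by
    intro y hy
    have hy' : h⁻¹ * y * h ∈ A := by
      have := ‹A.Normal›.conj_mem y hy h⁻¹
      simpa using this
    rw [hg y hy, hg _ hy']
    have : h⁻¹ * y ^ m * h = (MulAut.conj h⁻¹) (y ^ m) := by simp
    rw [this, map_zpow]
    simp
  have hx' : h * (g * x * g⁻¹) * h⁻¹ ∈ A := by
    have h1 := ‹A.Normal›.conj_mem x hx g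
    have h2 := ‹A.Normal›.conj_mem _ h1 h
    simpa using h2
  have := key _ hx'
  have e2 : g⁻¹ * (h⁻¹ * (h * (g * x * g⁻¹) * h⁻¹) * h) * g = x := by group
  rw [e2] at this
  calc (h⁻¹ * g⁻¹ * h * g) * x
      = (h⁻¹ * (g⁻¹ * (h * (g * x * g⁻¹) * h⁻¹) * g) * h) * (h⁻¹ * g⁻¹ * h * g) := by group
    _ = x * (h⁻¹ * g⁻¹ * h * g) := by rw [this]

/-- In a group `Q`, a cyclic normal subgroup is centralized by all commutators. -/
theorem commutator_centralizes_cyclic_normal {Q : Type*} [Group Q] (A : Subgroup Q) [A.Normal]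
    [IsCyclic A] (g h : Q) (x : Q) (hx : x ∈ A) : ⁅g, h⁆ * x = x * ⁅g, h⁆ := by
  have := aux_centralizes A h⁻¹ g⁻¹ x hx
  simpa [commutatorElement_def] using this

theorem commutator_le_centralizer_cyclic_normal {Q : Type*} [Group Q] (A : Subgroup Q) [A.Normal]
    [IsCyclic A] : commutator Q ≤ Subgroup.centralizer (A : Set Q) := by
  rw [commutator_def, Subgroup.commutator_le]
  intro g _ h _
  rw [Subgroup.mem_centralizer_iff]
  intro x hx
  exact (commutator_centralizes_cyclic_normal A g h x hx).symm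

/-- Let i ≥ 1. If in the derived series of a group the quotient of the i-th term by the (i+1)-st and the quotient of the (i+1)-st by the (i+2)-nd are both cyclic, then the (i+1)-st and (i+2)-nd terms coincide. -/
theorem result {G : Type*} [Group G] (i : ℕ) (hi : 1 ≤ i) (h₁ : IsCyclic (↥(derivedSeries G i) ⧸ (derivedSeries G (i + 1)).subgroupOf (derivedSeries G i))) (h₂ : IsCyclic (↥(derivedSeries G (i + 1)) ⧸ (derivedSeries G (i + 2)).subgroupOf (derivedSeries G (i + 1)))) : derivedSeries G (i + 1) = derivedSeries G (i + 2) := by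
  set D := derivedSeries G i with hD
  set A := derivedSeries G (i + 1) with hA
  set B := derivedSeries G (i + 2) with hB
  have hBA : B ≤ A := derivedSeries_antitone G (by omega)
  have hAD : A ≤ D := derivedSeries_antitone G (by omega)
  have hD1 : D ≤ commutator G := by
    have := derivedSeries_antitone G hi
    rwa [derivedSeries_one] at this
  haveI : B.Normal := derivedSeries_normal G (i + 2)
  haveI : A.Normal := derivedSeries_normal G (i + 1)
  let π := QuotientGroup.mk' B
  have hπ : Function.Surjective π := QuotientGroup.mk'_surjective B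
  haveI : (A.map π).Normal := Subgroup.Normal.map inferInstance π hπ
  -- A.map π is cyclic
  haveI : IsCyclic (A.map π) := by
    let f : ↥A ⧸ B.subgroupOf A →* ↥(A.map π) :=
      QuotientGroup.lift (B.subgroupOf A) (π.subgroupMap A) (by
        intro x hx
        rw [Subgroup.mem_subgroupOf] at hx
        apply Subtype.ext
        simp only [MonoidHom.subgroupMap, Subgroup.coe_one]
        exact (QuotientGroup.eq_one_iff _).mpr hx)
    have hf : Function.Surjective f := by
      intro y
      obtain ⟨x, rfl⟩ := MonoidHom.subgroupMap_surjective π A y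
      exact ⟨QuotientGroup.mk x, rfl⟩
    exact isCyclic_of_surjective f hf
  have hcentQ := commutator_le_centralizer_cyclic_normal (A.map π)
  have hcent : ∀ x ∈ D, ∀ a ∈ A, Commute (π x) (π a) := by
    intro x hx a ha
    have h1 : π x ∈ commutator (G ⧸ B) := by
      have : π x ∈ (commutator G).map π := Subgroup.mem_map_of_mem π (hD1 hx)
      rw [commutator_def, Subgroup.map_commutator] at this
      exact Subgroup.commutator_mono le_top le_top this
    have h2 := hcentQ h1
    rw [Subgroup.mem_centralizer_iff] at h2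
    exact (h2 (π a) (Subgroup.mem_map_of_mem π ha)).symm
  obtain ⟨q, hq⟩ := h₁.exists_generator
  obtain ⟨d, rfl⟩ := QuotientGroup.mk_surjective q
  have hdecomp : ∀ x ∈ D, ∃ k : ℤ, ∃ a ∈ A, x = (d : G) ^ k * a := by
    intro x hx
    obtain ⟨k, hk⟩ := Subgroup.mem_zpowers_iff.mp (hq (QuotientGroup.mk ⟨x, hx⟩))
    rw [← QuotientGroup.mk_zpow, QuotientGroup.eq, Subgroup.mem_subgroupOf] at hk
    refine ⟨k, _, hk, ?_⟩
    simp
  apply le_antisymm _ hBA
  rw [hA, derivedSeries_succ, Subgroup.commutator_le]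
  intro x hx y hy
  rw [← QuotientGroup.eq_one_iff, ← QuotientGroup.mk'_apply, map_commutatorElement,
    commutatorElement_eq_one_iff_commute]
  obtain ⟨k, a, ha, rfl⟩ := hdecomp x hx
  obtain ⟨l, a', ha', rfl⟩ := hdecomp y hy
  have hdk : (d : G) ^ k ∈ D := D.zpow_mem d.2 k
  have hdl : (d : G) ^ l ∈ D := D.zpow_mem d.2 l
  rw [map_mul, map_mul]
  have c1 : Commute (π ((d:G)^k)) (π ((d:G)^l)) := by
    rw [map_zpow, map_zpow]
    exact (Commute.refl _).zpow_zpow k l
  have c2 : Commute (π ((d:G)^k)) (π a') := hcent _ hdk _ ha'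
  have c3 : Commute (π a) (π ((d:G)^l)) := (hcent _ hdl _ ha).symm
  have c4 : Commute (π a) (π a') := hcent _ (hAD ha) _ ha'
  exact (c1.mul_right c2).mul_left (c3.mul_right c4)

end Cfsg.Agent.S0555
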