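import Mathlib
import Cfsg.Statements.S4403
import Cfsg.Agent.S4145
import Cfsg.Agent.S1293
import Cfsg.Agent.S0555
import Cfsg.Agent.S1386
import Cfsg.Agent.Lib.Helper48.SPEFStar
import Cfsg.Agent.Lib.Helper49.FStarCharP

set_option autoImplicit false
open Cfsg

namespace Cfsg.Agent.S4403

/-- A perfect group of order divisible by `p` has no normal `p`-complement. -/
theorem not_hasNormalPComplement_of_isPerfect {L : Type*} [Group L] [Finite L] (p : ℕ)
    [Fact p.Prime] [Group.IsPerfect L] (hp : p ∣ Nat.card L) : ¬ HasNormalPComplement p L := by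
  rintro ⟨Q, M, hMn, hc⟩
  have := hMn
  have hidx : M.index = Nat.card Q := hc.symm.index_eq_card
  have hQ1 : (Q : Subgroup L) ≠ ⊥ := Q.ne_bot_of_dvd_card hp
  obtain ⟨k, hk⟩ := Q.isPGroup'.exists_card_eq
  have hcard : Nat.card (L ⧸ M) = p ^ k := by
    rw [← Subgroup.index_eq_card, hidx, hk]
  have hpg : IsPGroup p (L ⧸ M) := IsPGroup.of_card hcard
  have : Group.IsNilpotent (L ⧸ M) := hpg.isNilpotent
  have : Nontrivial (L ⧸ M) := by
    rw [← Finite.one_lt_card_iff_nontrivial, ← Subgroup.index_eq_card, hidx]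
    by_contra h
    apply hQ1
    have h1 : Nat.card (Q : Subgroup L) = 1 := by
      have := Nat.card_pos (α := (Q : Subgroup L))
      omega
    exact Subgroup.card_eq_one.mp h1
  exact Group.IsPerfect.not_isSolvable (G := L ⧸ M) inferInstance

/-- A nontrivial `p`-subgroup contains an element of order `p`. -/
theorem exists_orderOf_eq_of_ne_bot {K : Type*} [Group K] [Finite K] (p : ℕ) [Fact p.Prime]
    {A : Subgroup K} (hAp : IsPGroup p A) (hA1 : A ≠ ⊥) : ∃ a ∈ A, orderOf a = p := by
  obtain ⟨k, hk⟩ := hAp.exists_card_eq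
  have hk0 : k ≠ 0 := by
    rintro rfl
    rw [pow_zero] at hk
    exact hA1 (Subgroup.card_eq_one.mp hk)
  have hdvd : p ∣ Nat.card A := by
    rw [hk]; exact dvd_pow_self p hk0
  obtain ⟨a, ha⟩ := exists_prime_orderOf_dvd_card' p hdvd
  refine ⟨a, a.2, ?_⟩
  rw [← ha]
  exact (Subgroup.orderOf_coe a)

/-- Two nontrivial subgroups of a cyclic `p`-group share an element of order `p`. -/
theorem exists_mem_inf_of_cyclic {K : Type*} [Group K] [Finite K] (p : ℕ) [Fact p.Prime]
    (P : Subgroup K) (hP : IsCyclic P) (hPp : IsPGroup p P) {A B : Subgroup K}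
    (hA : A ≤ P) (hB : B ≤ P) (hA1 : A ≠ ⊥) (hB1 : B ≠ ⊥) :
    ∃ z, z ∈ A ∧ z ∈ B ∧ orderOf z = p := by
  obtain ⟨a, haA, hao⟩ := exists_orderOf_eq_of_ne_bot p (hPp.to_le hA) hA1
  obtain ⟨b, hbB, hbo⟩ := exists_orderOf_eq_of_ne_bot p (hPp.to_le hB) hB1
  refine ⟨b, ?_, hbB, hbo⟩
  have h1 : Nat.card (Subgroup.zpowers (⟨a, hA haA⟩ : P)) = p := by
    rw [Nat.card_zpowers, ← hao]
    exact Subgroup.orderOf_mk a (hA haA)
  have h2 : Nat.card (Subgroup.zpowers (⟨b, hB hbB⟩ : P)) = p := by
    rw [Nat.card_zpowers, ← hbo]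
    exact Subgroup.orderOf_mk b (hB hbB)
  have h3 := Cfsg.Agent.S1386.subgroup_eq_of_card_eq_of_isCyclic
    (Subgroup.zpowers (⟨a, hA haA⟩ : P)) (Subgroup.zpowers (⟨b, hB hbB⟩ : P)) (h1.trans h2.symm)
  have h4 : (⟨b, hB hbB⟩ : P) ∈ Subgroup.zpowers (⟨a, hA haA⟩ : P) := by
    rw [h3]; exact Subgroup.mem_zpowers _
  obtain ⟨n, hn⟩ := Subgroup.mem_zpowers_iff.mp h4
  have h5 : a ^ n = b := by
    have := congrArg Subtype.val hn
    simpa using this
  rw [← h5]
  exact A.zpow_mem haA n

/-- The kernel of reduction `(ZMod N)ˣ → (ZMod p)ˣ` is a `p`-group when `N` is a power of `p`. -/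
theorem isPGroup_ker_unitsMap (p : ℕ) [Fact p.Prime] {N n : ℕ} (hN : N = p ^ n) (hn : 0 < n)
    (hdvd : p ∣ N) : IsPGroup p (ZMod.unitsMap hdvd).ker := by
  have hpp : p.Prime := Fact.out
  have hN0 : NeZero N := ⟨by rw [hN]; exact pow_ne_zero _ hpp.ne_zero⟩
  have hsurj : Function.Surjective (ZMod.unitsMap hdvd) := ZMod.unitsMap_surjective hdvd
  have h1 : Nat.card (ZMod N)ˣ = p ^ (n - 1) * (p - 1) := by
    rw [Nat.card_eq_fintype_card, ZMod.card_units_eq_totient, hN, Nat.totient_prime_pow hpp hn]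
  have h2 : Nat.card (ZMod p)ˣ = p - 1 := by
    rw [Nat.card_eq_fintype_card, ZMod.card_units]
  have h3 : Nat.card (ZMod.unitsMap hdvd).ker * (ZMod.unitsMap hdvd).ker.index =
      Nat.card (ZMod N)ˣ := Subgroup.card_mul_index _
  rw [Subgroup.index_ker, MonoidHom.range_eq_top.mpr hsurj, Subgroup.card_top, h1, h2] at h3
  have hp1 : 0 < p - 1 := by have := hpp.two_le; omega
  have h4 : Nat.card (ZMod.unitsMap hdvd).ker = p ^ (n - 1) := Nat.eq_of_mul_eq_mul_right hp1 h3
  exact IsPGroup.of_card h4

theorem cyclic_quotient {K : Type*} [Group K] [Finite K] (p : ℕ) [Fact p.Prime]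
    (P : Subgroup K) [hPn : P.Normal] (hP : IsCyclic P) (hPp : IsPGroup p P) (hP1 : P ≠ ⊥)
    (hcop : ¬ p ∣ P.index) (hC : Subgroup.centralizer (P : Set K) ≤ P) :
    IsCyclic (K ⧸ P) ∧ P.index ∣ p - 1 := by
  have hpp : p.Prime := Fact.out
  obtain ⟨n, hn⟩ := hPp.exists_card_eq
  have hn0 : 0 < n := by
    rcases Nat.eq_zero_or_pos n with h | h
    · exfalso
      rw [h, pow_zero] at hn
      exact hP1 (Subgroup.card_eq_one.mp hn)
    · exact h
  have hdvd : p ∣ Nat.card P := by rw [hn]; exact dvd_pow_self p hn0.ne'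
  let ψ : K →* (ZMod (Nat.card P))ˣ :=
    (IsCyclic.mulAutMulEquiv P).toMonoidHom.comp (MulAut.conjNormal (H := P))
  let θ : K →* (ZMod p)ˣ := (ZMod.unitsMap hdvd).comp ψ
  have hψ1 : ∀ g : K, ψ g = 1 → g ∈ Subgroup.centralizer (P : Set K) := by
    intro g hg
    have hg' : MulAut.conjNormal (H := P) g = 1 := by
      apply (IsCyclic.mulAutMulEquiv P).injective
      rw [map_one]
      exact hg
    rw [Subgroup.mem_centralizer_iff]
    intro x hx
    have := congrArg (fun f : MulAut P => ((f ⟨x, hx⟩ : P) : K)) hg'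
    simp only [MulAut.conjNormal_apply, MulAut.one_apply] at this
    calc x * g = (g * x * g⁻¹) * g := by rw [this]
      _ = g * x := by group
  have hPcomm : ∀ x ∈ P, ∀ y ∈ P, x * y = y * x := by
    intro x hx y hy
    have hc : IsMulCommutative P := hP.isMulCommutative
    have := hc.is_comm.comm ⟨x, hx⟩ ⟨y, hy⟩
    simpa using congrArg Subtype.val this
  have hker : θ.ker = P := by
    apply le_antisymm
    · intro g hg
      have hu : ψ g ∈ (ZMod.unitsMap hdvd).ker := hg
      have hpg := isPGroup_ker_unitsMap p hn hn0 hdvd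
      obtain ⟨m, hm⟩ := hpg ⟨ψ g, hu⟩
      have hm' : ψ (g ^ p ^ m) = 1 := by
        rw [map_pow]
        simpa using congrArg Subtype.val hm
      have h1 : g ^ p ^ m ∈ P := hC (hψ1 _ hm')
      have h2 : g ^ P.index ∈ P := Subgroup.pow_index_mem P g
      have hcop' : Nat.Coprime (p ^ m) P.index :=
        Nat.Coprime.pow_left m ((Nat.Prime.coprime_iff_not_dvd hpp).mpr hcop)
      have h3 : g ^ (Nat.gcd (p ^ m) P.index : ℤ) ∈ P := by
        rw [Nat.gcd_eq_gcd_ab, zpow_add, zpow_mul, zpow_mul]
        apply P.mul_mem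
        · apply P.zpow_mem; rw [zpow_natCast]; exact h1
        · apply P.zpow_mem; rw [zpow_natCast]; exact h2
      rw [hcop'.gcd_eq_one] at h3
      simpa using h3
    · intro x hx
      rw [MonoidHom.mem_ker]
      have h1 : MulAut.conjNormal (H := P) x = 1 := by
        ext y
        simp only [MulAut.conjNormal_apply, MulAut.one_apply]
        rw [hPcomm x hx y y.2]; group
      show (ZMod.unitsMap hdvd) ((IsCyclic.mulAutMulEquiv P) (MulAut.conjNormal (H := P) x)) = 1
      rw [h1, map_one, map_one]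
  have e1 : K ⧸ P ≃* θ.range :=
    (QuotientGroup.quotientMulEquivOfEq hker.symm).trans (QuotientGroup.quotientKerEquivRange θ)
  constructor
  · exact (MulEquiv.isCyclic e1).mpr inferInstance
  · rw [Subgroup.index_eq_card, Nat.card_congr e1.toEquiv]
    have h2 : Nat.card (ZMod p)ˣ = p - 1 := by
      rw [Nat.card_eq_fintype_card, ZMod.card_units]
    rw [← h2]
    exact Subgroup.card_subgroup_dvd_card _

open Cfsg.Agent.Lib.Helper48 Cfsg.Agent.Lib.Helper22 in
theorem case_component {K : Type*} [Group K] [Finite K] (p : ℕ) [Fact p.Prime]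
    (hO : pPrimeCore p K = ⊥) (P : Sylow p K) (hP : IsCyclic ↥(P : Subgroup K))
    {L : Subgroup K} (hL : IsComponent L) :
    IsSimpleGroup ↥(generalizedFittingSubgroup K) ∧
      ¬ IsMulCommutative ↥(generalizedFittingSubgroup K) ∧
      ¬ p ∣ (generalizedFittingSubgroup K).index := by
  have hpp : p.Prime := Fact.out
  have hne : ∀ M : Subgroup K, IsComponent M → (P : Subgroup K) ⊓ M ≠ ⊥ := fun M hM =>
    sylow_inf_component_ne_bot P hM.1 (component_dvd_card hO hM)
  have hperf : Group.IsPerfect L := hL.2.1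
  -- `O_p(K) = 1`
  have hOp : pCore p K = ⊥ := by
    by_contra hne1
    obtain ⟨z, hz1, hz2, hzo⟩ := exists_mem_inf_of_cyclic p (P : Subgroup K) hP P.isPGroup'
      (Cfsg.Agent.Lib.Helper97.pCore_le_sylow' P) inf_le_left hne1 (hne L hL)
    have hzL : z ∈ L := hz2.2
    have hsol : Group.IsSolvable ↥(pCore p K) := by
      have : Group.IsNilpotent ↥(pCore p K) :=
        (Cfsg.Agent.Lib.Helper97.isPGroup_pCore p K).isNilpotent
      infer_instance
    have hcomm : ⁅L, pCore p K⁆ = ⊥ :=
      component_commutator_eq_bot_of_isSolvable hL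
        (Cfsg.Agent.Lib.Helper97.pCore_normal (G := K) p).isSubnormal hsol
    rw [Subgroup.commutator_eq_bot_iff_le_centralizer] at hcomm
    have hzc : (⟨z, hzL⟩ : L) ∈ Subgroup.center L := by
      rw [Subgroup.mem_center_iff]
      intro y
      have h1 := hcomm y.2
      rw [Subgroup.mem_centralizer_iff] at h1
      have h2 := h1 z hz1
      apply Subtype.ext
      simpa using h2.symm
    obtain ⟨PL, hPL⟩ := Cfsg.Agent.Lib.Helper49.exists_sylow_eq_subgroupOf_of_isSubnormal P hL.1
    have hPLc : IsCyclic ↥(PL : Subgroup L) := by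
      rw [hPL]
      let f : ((P : Subgroup K).subgroupOf L) →* (P : Subgroup K) :=
        { toFun := fun x => ⟨((x : L) : K), x.2⟩
          map_one' := rfl
          map_mul' := fun _ _ => rfl }
      have hf : Function.Injective f := by
        intro x y hxy
        have := congrArg Subtype.val hxy
        exact Subtype.ext (Subtype.ext this)
      exact isCyclic_of_injective f hf
    have hzo' : orderOf (⟨z, hzL⟩ : L) = p := by
      rw [← hzo]; exact Subgroup.orderOf_mk z hzL
    have hnpc := Cfsg.Agent.S4145.hasNormalPComplement_of_central p PL hPLc ⟨z, hzL⟩ hzc hzo'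
    exact not_hasNormalPComplement_of_isPerfect p (component_dvd_card hO hL) hnpc
  -- `F(K) = 1`
  have hF : fittingSubgroup K = ⊥ := by
    rw [Cfsg.Agent.Lib.Helper1.fittingSubgroup_eq_iSup_pCore, eq_bot_iff]
    refine iSup_le fun q => ?_
    by_cases hq : (q : ℕ) = p
    · rw [hq, hOp]
    · have : Fact (q : ℕ).Prime := ⟨q.2⟩
      rw [← hO]
      apply Cfsg.Agent.Lib.Helper97.le_pPrimeCore_of_normal
        (Cfsg.Agent.Lib.Helper97.pCore_normal (q : ℕ))
      obtain ⟨n, hn⟩ := (Cfsg.Agent.Lib.Helper97.isPGroup_pCore (q : ℕ) K).exists_card_eq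
      rw [hn]
      apply Nat.Coprime.pow_left
      exact (Nat.coprime_primes q.2 Fact.out).mpr hq
  have hZL : Subgroup.center L = ⊥ := component_center_eq_bot hF hL
  -- uniqueness of the component
  have huniq : ∀ M : Subgroup K, IsComponent M → M = L := by
    intro M hM
    by_contra hML
    obtain ⟨z, hz1, hz2, hzo⟩ := exists_mem_inf_of_cyclic p (P : Subgroup K) hP P.isPGroup'
      inf_le_left inf_le_left (hne M hM) (hne L hL)
    have hcomm : ⁅M, L⁆ = ⊥ := component_commutator_eq_bot_of_ne hM hL hML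
    rw [Subgroup.commutator_eq_bot_iff_le_centralizer] at hcomm
    have hzc : (⟨z, hz2.2⟩ : L) ∈ Subgroup.center L := by
      rw [Subgroup.mem_center_iff]
      intro y
      have h1 := hcomm hz1.2
      rw [Subgroup.mem_centralizer_iff] at h1
      have h2 := h1 y y.2
      apply Subtype.ext
      simpa using h2
    rw [hZL, Subgroup.mem_bot] at hzc
    have hz : z = 1 := by simpa using congrArg Subtype.val hzc
    rw [hz, orderOf_one] at hzo
    exact hpp.one_lt.ne hzo
  have hFE : generalizedFittingSubgroup K = L := by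
    unfold generalizedFittingSubgroup
    rw [hF, sup_bot_eq]
    apply le_antisymm
    · apply sSup_le
      intro M hM
      rw [huniq M hM]
    · exact component_le_layer hL
  have hsimple : IsSimpleGroup L := component_isSimpleGroup hL hZL
  have key : ∀ H : Subgroup K, H = L → HasNormalPComplement p ↥H → False := by
    rintro H rfl h
    exact not_hasNormalPComplement_of_isPerfect p (component_dvd_card hO hL) h
  refine ⟨?_, ?_, ?_⟩
  · rw [hFE]; exact hsimple
  · rw [hFE]; exact component_not_isMulCommutative hL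
  · intro hdvd
    have hn : (generalizedFittingSubgroup K).Normal :=
      Cfsg.Agent.Lib.Helper29.generalizedFittingSubgroup_normal K
    exact key _ hFE (Cfsg.Agent.S4145.part1 p P hP (generalizedFittingSubgroup K) hdvd)

theorem case_no_component {K : Type*} [Group K] [Finite K] (p : ℕ) [Fact p.Prime]
    (hp : p ∣ Nat.card K) (hO : pPrimeCore p K = ⊥) (P : Sylow p K)
    (hP : IsCyclic ↥(P : Subgroup K)) (hno : ∀ L : Subgroup K, ¬ IsComponent L) :
    (P : Subgroup K).Normal ∧ Subgroup.centralizer ((P : Subgroup K) : Set K) = (P : Subgroup K) ∧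
      (∀ (_ : (P : Subgroup K).Normal), IsCyclic (K ⧸ (P : Subgroup K))) ∧
      (P : Subgroup K).index ∣ p - 1 := by
  have hP1 : (P : Subgroup K) ≠ ⊥ := P.ne_bot_of_dvd_card hp
  have hFs : generalizedFittingSubgroup K = pCore p K :=
    Cfsg.Agent.S1293.gfs_eq_pCore_gen p hO hno
  have hC : Subgroup.centralizer (pCore p K : Set K) ≤ pCore p K :=
    Cfsg.Agent.Lib.Helper49.generalizedFittingSubgroup_eq_pCore_iff.mp hFs
  have hQP : pCore p K ≤ (P : Subgroup K) := Cfsg.Agent.Lib.Helper97.pCore_le_sylow' P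
  have hQc : IsCyclic ↥(pCore p K) := Subgroup.isCyclic_of_le hQP
  have hQn : (pCore p K).Normal := Cfsg.Agent.Lib.Helper97.pCore_normal p
  have hcomm : commutator K ≤ pCore p K :=
    (Cfsg.Agent.S0555.commutator_le_centralizer_cyclic_normal (pCore p K)).trans hC
  have hPn : (P : Subgroup K).Normal := by
    constructor
    intro x hx g
    have h1 : g * x * g⁻¹ * x⁻¹ ∈ commutator K := by
      rw [commutator_def]
      exact Subgroup.commutator_mem_commutator (Subgroup.mem_top g) (Subgroup.mem_top x)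
    have h2 := hQP (hcomm h1)
    have h3 : g * x * g⁻¹ = (g * x * g⁻¹ * x⁻¹) * x := by group
    rw [h3]
    exact (P : Subgroup K).mul_mem h2 hx
  have hPQ : (P : Subgroup K) = pCore p K :=
    le_antisymm (Cfsg.Agent.Lib.Helper97.le_pCore_of_normal hPn P.isPGroup') hQP
  have hCP : Subgroup.centralizer ((P : Subgroup K) : Set K) = (P : Subgroup K) := by
    apply le_antisymm
    · rw [hPQ]; exact hC
    · intro x hx
      rw [Subgroup.mem_centralizer_iff]
      intro y hy
      have hc : IsMulCommutative (P : Subgroup K) := hP.isMulCommutative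
      have := hc.is_comm.comm ⟨y, hy⟩ ⟨x, hx⟩
      simpa using congrArg Subtype.val this
  refine ⟨hPn, hCP, ?_, ?_⟩
  · intro hn
    exact (@cyclic_quotient K _ _ p _ (P : Subgroup K) hn hP P.isPGroup' hP1 P.not_dvd_index
      hCP.le).1
  · exact (@cyclic_quotient K _ _ p _ (P : Subgroup K) hPn hP P.isPGroup' hP1 P.not_dvd_index
      hCP.le).2

/-- Let K be a finite group, p a prime dividing its order with O_{p'}(K) = 1 (no nontrivial normal subgroup of order prime to p), and P a cyclic Sylow p-subgroup of K. Then either P is normal and self-centralizing in K with K/P cyclic of order dividing p − 1 (so K is the semidirect product of P by a group of automorphisms of P of order dividing p − 1), or the generalized Fitting subgroup F*(K) is a non-abelian simple group and p does not divide the index of F*(K) in K. -/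
theorem result {K : Type*} [Group K] [Finite K] (p : ℕ) [Fact p.Prime] (hp : p ∣ Nat.card K) (hO : Cfsg.pPrimeCore p K = ⊥)
    (P : Sylow p K) (hP : IsCyclic ↥(P : Subgroup K)) :
    ((P : Subgroup K).Normal ∧ Subgroup.centralizer ((P : Subgroup K) : Set K) = (P : Subgroup K) ∧
      (∀ (_ : (P : Subgroup K).Normal), IsCyclic (K ⧸ (P : Subgroup K))) ∧ (P : Subgroup K).index ∣ p - 1) ∨
    (IsSimpleGroup ↥(Cfsg.generalizedFittingSubgroup K) ∧ ¬ IsMulCommutative ↥(Cfsg.generalizedFittingSubgroup K) ∧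
      ¬ p ∣ (Cfsg.generalizedFittingSubgroup K).index) := by
  by_cases hex : ∃ L : Subgroup K, IsComponent L
  · right
    obtain ⟨L, hL⟩ := hex
    exact case_component p hO P hP hL
  · left
    push Not at hex
    exact case_no_component p hp hO P hP hex

end Cfsg.Agent.S4403
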