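import Mathlib
import Cfsg.Statements.S1217
import Cfsg.Agent.Lib.Helper38.SylowTwoTypes
-- import your own Cfsg.Agent.* helpers here

set_option autoImplicit false
open scoped MatrixGroups
open Cfsg
open Cfsg.Agent.Lib.Helper38

namespace Cfsg.Agent.S1217

theorem fact2 (e m : ℕ) (hm : Odd m) : (2 ^ e * m).factorization 2 = e := by
  have hm0 : m ≠ 0 := by rintro rfl; simp at hm
  rw [Nat.factorization_mul (by positivity) hm0, Nat.Prime.factorization_pow Nat.prime_two]
  have : m.factorization 2 = 0 := by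
    apply Nat.factorization_eq_zero_of_not_dvd
    exact fun h => (Nat.not_even_iff_odd.mpr hm) (even_iff_two_dvd.mpr h)
  simp [this]

/-- the order of `GL₂(F)` -/
theorem card_GL2 {F : Type*} [Field F] [Fintype F] :
    Nat.card (GL (Fin 2) F) =
      (Fintype.card F ^ 2 - 1) * (Fintype.card F ^ 2 - Fintype.card F) := by
  rw [Matrix.card_GL_field, Fin.prod_univ_two]
  simp

theorem card_sylow {F : Type*} [Field F] [Fintype F] (P : Sylow 2 (GL (Fin 2) F)) (e m : ℕ)
    (hm : Odd m)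
    (h : (Fintype.card F ^ 2 - 1) * (Fintype.card F ^ 2 - Fintype.card F) = 2 ^ e * m) :
    Nat.card (P : Subgroup (GL (Fin 2) F)) = 2 ^ e := by
  have := P.card_eq_multiplicity
  rw [card_GL2, h, fact2 e m hm] at this
  exact this

/-- numerics for `q ≡ 1 mod 4` -/
theorem num_one (q : ℕ) (hq : q % 4 = 1) (hq1 : 1 < q) :
    ∃ a u m : ℕ, 2 ≤ a ∧ Odd u ∧ Odd m ∧ q - 1 = 2 ^ a * u ∧
      (q ^ 2 - 1) * (q ^ 2 - q) = 2 ^ (2 * a + 1) * m := by
  obtain ⟨a, u, hu, hau⟩ := Nat.exists_eq_two_pow_mul_odd (n := q - 1) (by omega)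
  have ha : 2 ≤ a := by
    by_contra hlt
    have : a = 0 ∨ a = 1 := by omega
    obtain ⟨j, hj⟩ := hu
    rcases this with rfl | rfl
    · simp at hau; omega
    · simp at hau; omega
  obtain ⟨v, h2⟩ : ∃ v, q + 1 = 2 * v := ⟨(q + 1) / 2, by omega⟩
  have hv : Odd v := by
    rw [Nat.odd_iff]; omega
  have hqodd : Odd q := by rw [Nat.odd_iff]; omega
  refine ⟨a, u, q * u ^ 2 * v, ha, hu, (hqodd.mul hu.pow).mul hv, hau, ?_⟩
  have e1 : q ^ 2 - 1 = (q - 1) * (q + 1) := by
    have : q ^ 2 = (q - 1) * (q + 1) + 1 := by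
      obtain ⟨r, rfl⟩ : ∃ r, q = r + 1 := ⟨q - 1, by omega⟩
      simp; ring
    omega
  have e2 : q ^ 2 - q = q * (q - 1) := by
    obtain ⟨r, rfl⟩ : ∃ r, q = r + 1 := ⟨q - 1, by omega⟩
    have : (r + 1) ^ 2 = (r + 1) * r + (r + 1) := by ring
    simp only [Nat.add_sub_cancel]
    omega
  rw [e1, e2, hau, h2]
  ring

/-- numerics for `q ≡ 3 mod 4` -/
theorem num_three (q : ℕ) (hq : q % 4 = 3) :
    ∃ k u v m : ℕ, 2 ≤ k ∧ Odd u ∧ Odd v ∧ Odd m ∧ q + 1 = 2 ^ k * v ∧ q - 1 = 2 * u ∧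
      (q ^ 2 - 1) * (q ^ 2 - q) = 2 ^ (k + 2) * m := by
  obtain ⟨k, v, hv, hkv⟩ := Nat.exists_eq_two_pow_mul_odd (n := q + 1) (by omega)
  have hk : 2 ≤ k := by
    by_contra hlt
    have : k = 0 ∨ k = 1 := by omega
    obtain ⟨j, hj⟩ := hv
    rcases this with rfl | rfl
    · simp at hkv; omega
    · simp at hkv; omega
  obtain ⟨u, h2⟩ : ∃ u, q - 1 = 2 * u := ⟨(q - 1) / 2, by omega⟩
  have hu : Odd u := by
    rw [Nat.odd_iff]; omega
  have hqodd : Odd q := by rw [Nat.odd_iff]; omega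
  refine ⟨k, u, v, q * u ^ 2 * v, hk, hu, hv, (hqodd.mul hu.pow).mul hv,
    hkv, h2, ?_⟩
  have e1 : q ^ 2 - 1 = (q - 1) * (q + 1) := by
    have : q ^ 2 = (q - 1) * (q + 1) + 1 := by
      obtain ⟨r, rfl⟩ : ∃ r, q = r + 1 := ⟨q - 1, by omega⟩
      simp; ring
    omega
  have e2 : q ^ 2 - q = q * (q - 1) := by
    obtain ⟨r, rfl⟩ : ∃ r, q = r + 1 := ⟨q - 1, by omega⟩
    have : (r + 1) ^ 2 = (r + 1) * r + (r + 1) := by ring
    simp only [Nat.add_sub_cancel]
    omega
  rw [e1, e2, hkv, h2]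
  ring



variable {F : Type*} [Field F]

/-- diagonal matrices as a homomorphism -/
noncomputable def diagHom : (Fin 2 → Fˣ) →* GL (Fin 2) F :=
  (Units.map (Matrix.diagonalRingHom (Fin 2) F).toMonoidHom).comp
    (MulEquiv.piUnits (ι := Fin 2) (M := fun _ => F)).symm.toMonoidHom

theorem diagHom_val (d : Fin 2 → Fˣ) :
    ((diagHom d : GL (Fin 2) F) : Matrix (Fin 2) (Fin 2) F) = Matrix.diagonal (fun i => (d i : F)) := by
  rfl

theorem diagHom_injective : Function.Injective (diagHom (F := F)) := by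
  intro d e hde
  have h1 := congrArg (fun g : GL (Fin 2) F => (g : Matrix (Fin 2) (Fin 2) F)) hde
  simp only [diagHom_val] at h1
  have h2 := Matrix.diagonal_injective h1
  funext i
  exact Units.ext (congrFun h2 i)

/-- the swap matrix -/
def swapMat : Matrix (Fin 2) (Fin 2) F := !![0, 1; 1, 0]

theorem swapMat_mul_self : (swapMat : Matrix (Fin 2) (Fin 2) F) * swapMat = 1 := by
  ext i j
  fin_cases i <;> fin_cases j <;> simp [swapMat, Matrix.mul_apply, Fin.sum_univ_two]

/-- the swap matrix in `GL₂` -/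
def swapGL : GL (Fin 2) F := ⟨swapMat, swapMat, swapMat_mul_self, swapMat_mul_self⟩

theorem orderOf_swapGL : orderOf (swapGL : GL (Fin 2) F) = 2 := by
  have : Fact (Nat.Prime 2) := ⟨Nat.prime_two⟩
  rw [orderOf_eq_prime_iff]
  constructor
  · apply Units.ext
    rw [pow_two]
    exact swapMat_mul_self
  · intro h
    have h1 := congrArg (fun g : GL (Fin 2) F => (g : Matrix (Fin 2) (Fin 2) F) 0 0) h
    simp [swapGL, swapMat] at h1

theorem swap_conj (ζ : Fˣ) :
    (swapGL : GL (Fin 2) F) * diagHom (Pi.mulSingle 0 ζ) * swapGL⁻¹ = diagHom (Pi.mulSingle 1 ζ) := by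
  apply Units.ext
  ext i j
  have hinv : ((swapGL⁻¹ : GL (Fin 2) F) : Matrix (Fin 2) (Fin 2) F) = swapMat := rfl
  simp only [Units.val_mul, hinv, diagHom_val]
  fin_cases i <;> fin_cases j <;>
    simp [swapGL, swapMat, Matrix.mul_apply, Matrix.diagonal, Pi.mulSingle_apply,
      Matrix.vecHead, Matrix.vecTail]

theorem orderOf_diag_single (i : Fin 2) (ζ : Fˣ) :
    orderOf (diagHom (Pi.mulSingle i ζ) : GL (Fin 2) F) = orderOf ζ := by
  rw [orderOf_injective diagHom diagHom_injective]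
  have hinj : Function.Injective (MonoidHom.mulSingle (fun _ : Fin 2 => Fˣ) i) := by
    intro a b h
    exact Pi.mulSingle_injective i h
  exact orderOf_injective (MonoidHom.mulSingle (fun _ : Fin 2 => Fˣ) i) hinj ζ

theorem diag_inf (ζ : Fˣ) :
    Subgroup.zpowers (diagHom (Pi.mulSingle 0 ζ) : GL (Fin 2) F) ⊓
      Subgroup.zpowers (diagHom (Pi.mulSingle 1 ζ)) = ⊥ := by
  rw [eq_bot_iff]
  rintro w ⟨⟨i, hi⟩, ⟨j, hj⟩⟩
  rw [Subgroup.mem_bot]
  simp only at hi hj
  rw [← map_zpow, ← Pi.mulSingle_zpow] at hi hj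
  have h1 := diagHom_injective (hi.trans hj.symm)
  have h2 := congrFun h1 0
  simp only [Pi.mulSingle_eq_same, ne_eq, zero_ne_one, not_false_eq_true,
    Pi.mulSingle_eq_of_ne] at h2
  rw [← hi, h2]
  simp



/-- existence of a Singer-type element `x₀` of order `q² - 1` and a Frobenius involution `y` in `GL₂(F)` -/
theorem exists_singer_frob {F : Type*} [Field F] [Fintype F] :
    ∃ x₀ y : GL (Fin 2) F, orderOf x₀ = Fintype.card F ^ 2 - 1 ∧ orderOf y = 2 ∧
      y * x₀ * y⁻¹ = x₀ ^ Fintype.card F := by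
  classical
  obtain ⟨p, hp⟩ := CharP.exists F
  have := hp
  have : Fact p.Prime := ⟨CharP.char_is_prime F p⟩
  let K := FiniteField.Extension F p 2
  have hfr : Module.finrank F K = 2 := FiniteField.finrank_extension F p 2
  let b : Module.Basis (Fin 2) F K := Module.finBasisOfFinrankEq F K hfr
  let φ : K →ₐ[F] Matrix (Fin 2) (Fin 2) F := Algebra.leftMulMatrix b
  have hφ : Function.Injective φ := Algebra.leftMulMatrix_injective b
  have : Fintype K := Fintype.ofFinite K
  obtain ⟨ω, hω⟩ := IsCyclic.exists_generator (α := Kˣ)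
  have hωord : orderOf ω = Fintype.card F ^ 2 - 1 := by
    rw [orderOf_eq_card_of_forall_mem_zpowers hω, Nat.card_eq_fintype_card, Fintype.card_units,
      Fintype.card_eq_nat_card, FiniteField.natCard_extension, Nat.card_eq_fintype_card]
  let γ : GL (Fin 2) F := Units.map φ.toRingHom.toMonoidHom ω
  have hγord : orderOf γ = Fintype.card F ^ 2 - 1 := by
    rw [← hωord]
    apply orderOf_injective
    exact Units.map_injective hφ
  -- the Frobenius
  let fr : K →ₐ[F] K := FiniteField.frobeniusAlgHom F K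
  have hfr_ord : orderOf fr = 2 := by
    rw [FiniteField.orderOf_frobeniusAlgHom, hfr]
  let My : Matrix (Fin 2) (Fin 2) F := LinearMap.toMatrix b b fr.toLinearMap
  have hfr2 : fr.toLinearMap ∘ₗ fr.toLinearMap = LinearMap.id := by
    have h1 : fr ^ 2 = 1 := by
      have h0 := pow_orderOf_eq_one fr
      rw [hfr_ord] at h0
      exact h0
    ext v
    have h2 := congrArg (fun σ : K →ₐ[F] K => σ v) h1
    simpa [pow_two] using h2
  have hMy2 : My * My = 1 := by
    rw [← LinearMap.toMatrix_comp b b b, hfr2, LinearMap.toMatrix_id]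
  let y : GL (Fin 2) F := ⟨My, My, hMy2, hMy2⟩
  have hyne : y ≠ 1 := by
    intro h
    have h1 : My = 1 := congrArg (fun g : GL (Fin 2) F => (g : Matrix (Fin 2) (Fin 2) F)) h
    have h2 : fr.toLinearMap = LinearMap.id := by
      apply (LinearMap.toMatrix b b).injective
      rw [LinearMap.toMatrix_id]; exact h1
    have h3 : fr = 1 := by
      ext v
      have := congrArg (fun f : K →ₗ[F] K => f v) h2
      simpa using this
    have h4 : orderOf fr = 1 := by rw [h3, orderOf_one]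
    omega
  have hyord : orderOf y = 2 := by
    have : Fact (Nat.Prime 2) := ⟨Nat.prime_two⟩
    rw [orderOf_eq_prime_iff]
    refine ⟨?_, hyne⟩
    apply Units.ext
    rw [pow_two]
    exact hMy2
  refine ⟨γ, y, hγord, hyord, ?_⟩
  -- the conjugation relation
  have hkey : ∀ a : K, My * φ a = φ (fr a) * My := by
    intro a
    have e1 : φ a = LinearMap.toMatrix b b (Algebra.lmul F K a) := rfl
    have e2 : φ (fr a) = LinearMap.toMatrix b b (Algebra.lmul F K (fr a)) := rfl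
    rw [e1, e2, ← LinearMap.toMatrix_comp b b b, ← LinearMap.toMatrix_comp b b b]
    congr 1
    ext v
    simp
  apply Units.ext
  have hyinv : ((y⁻¹ : GL (Fin 2) F) : Matrix (Fin 2) (Fin 2) F) = My := rfl
  have hγval : (γ : Matrix (Fin 2) (Fin 2) F) = φ (ω : K) := rfl
  have hγpow : ((γ ^ Fintype.card F : GL (Fin 2) F) : Matrix (Fin 2) (Fin 2) F) =
      φ ((ω : K) ^ Fintype.card F) := by
    rw [Units.val_pow_eq_pow_val, hγval, map_pow]
  rw [Units.val_mul, Units.val_mul, hyinv, hγpow, hγval]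
  show My * φ (ω : K) * My = _
  rw [hkey, mul_assoc, hMy2, mul_one]
  rfl

theorem wreathed_case {F : Type*} [Field F] [Fintype F] (P : Sylow 2 (GL (Fin 2) F))
    (hq : Fintype.card F % 4 = 1) : Cfsg.IsWreathed ↥(P : Subgroup (GL (Fin 2) F)) := by
  classical
  have hq1 : 1 < Fintype.card F := Fintype.one_lt_card
  obtain ⟨a, u, m, ha, hu, hm, hau, hcard⟩ := num_one _ hq hq1
  obtain ⟨g, hg⟩ := IsCyclic.exists_ofOrder_eq_natCard (α := Fˣ)
  have hcardU : Nat.card Fˣ = Fintype.card F - 1 := by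
    rw [Nat.card_eq_fintype_card, Fintype.card_units]
  have hu0 : u ≠ 0 := by rintro rfl; simp at hu
  have hζ : orderOf (g ^ u) = 2 ^ a := by
    rw [orderOf_pow_of_dvd hu0 (by rw [hg, hcardU, hau]; exact dvd_mul_left _ _), hg, hcardU, hau,
      Nat.mul_div_cancel _ (Nat.pos_of_ne_zero hu0)]
  refine isWreathed_of_elements P a ha (card_sylow P _ m hm hcard)
    (diagHom (Pi.mulSingle 0 (g ^ u))) (diagHom (Pi.mulSingle 1 (g ^ u))) swapGL ?_ ?_
    (diag_inf _) orderOf_swapGL (swap_conj _)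
  · rw [orderOf_diag_single]; exact hζ
  · rw [← map_mul, ← map_mul, mul_comm]

theorem qd_case {F : Type*} [Field F] [Fintype F] (P : Sylow 2 (GL (Fin 2) F))
    (hq : Fintype.card F % 4 = 3) : Cfsg.IsQuasiDihedral ↥(P : Subgroup (GL (Fin 2) F)) := by
  obtain ⟨k, u, v, m, hk, hu, hv, hm, hkv, h2u, hcard⟩ := num_three _ hq
  obtain ⟨x₀, y, hx₀, hy, hyx⟩ := exists_singer_frob (F := F)
  have hq2 : Fintype.card F ^ 2 - 1 = 2 ^ (k + 1) * (u * v) := by
    have e1 : Fintype.card F ^ 2 - 1 = (Fintype.card F - 1) * (Fintype.card F + 1) := by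
      have : Fintype.card F ^ 2 = (Fintype.card F - 1) * (Fintype.card F + 1) + 1 := by
        obtain ⟨r, hr⟩ : ∃ r, Fintype.card F = r + 1 := ⟨Fintype.card F - 1, by omega⟩
        rw [hr]; simp; ring
      omega
    rw [e1, hkv, h2u]; ring
  have hu0 : u ≠ 0 := by rintro rfl; simp at hu
  have hv0 : v ≠ 0 := by rintro rfl; simp at hv
  have huv : u * v ≠ 0 := Nat.mul_ne_zero hu0 hv0
  have hx : orderOf (x₀ ^ (u * v)) = 2 ^ (k + 1) := by
    rw [orderOf_pow_of_dvd huv (by rw [hx₀, hq2]; exact dvd_mul_left _ _), hx₀, hq2,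
      Nat.mul_div_cancel _ (Nat.pos_of_ne_zero huv)]
  have hconj : y * x₀ ^ (u * v) * y⁻¹ = (x₀ ^ (u * v)) ^ Fintype.card F := by
    have h1 := map_pow (MulAut.conj y) x₀ (u * v)
    simp only [MulAut.conj_apply] at h1
    rw [h1, hyx, ← pow_mul, ← pow_mul, mul_comm]
  have hmod : (x₀ ^ (u * v)) ^ Fintype.card F = (x₀ ^ (u * v)) ^ (2 ^ (k + 1 - 1) - 1) := by
    rw [pow_eq_pow_iff_modEq, hx]
    obtain ⟨j, rfl⟩ := hv
    have e1 : 2 ^ k * (2 * j + 1) = 2 ^ (k + 1) * j + 2 ^ k := by ring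
    have e2 : 0 < 2 ^ k := by positivity
    have e3 : Fintype.card F = (2 ^ k - 1) + 2 ^ (k + 1) * j := by omega
    have e4 : k + 1 - 1 = k := by omega
    rw [e4]
    unfold Nat.ModEq
    conv_lhs => rw [e3]
    rw [Nat.add_mul_mod_self_left]
  exact isQuasiDihedral_of_elements P (k + 1) (by omega) (card_sylow P _ m hm hcard) _ y hx hy
    (hconj.trans hmod)

/-- Let F be a finite field with q elements, q odd, and P a Sylow 2-subgroup of GL(2,F). If q ≡ 3 (mod 4) then P is quasi-dihedral; if q ≡ 1 (mod 4) then P is wreathed. -/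
theorem result {F : Type*} [Field F] [Fintype F] (P : Sylow 2 (GL (Fin 2) F)) : (Fintype.card F % 4 = 3 → Cfsg.IsQuasiDihedral (P : Subgroup (GL (Fin 2) F))) ∧ (Fintype.card F % 4 = 1 → Cfsg.IsWreathed (P : Subgroup (GL (Fin 2) F))) := by
  exact ⟨qd_case P, wreathed_case P⟩

end Cfsg.Agent.S1217
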