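import Cfsg.Statements.S1219
import Mathlib
import Cfsg.Agent.Lib.Helper41.SL2Order

set_option autoImplicit false
open scoped MatrixGroups
open Cfsg

namespace Cfsg.Agent.S1219

open Matrix

section partII

variable {F : Type*} [Field F]

/-- the block matrix `diag((det A)⁻¹, A)` -/
def thetaMat (A : Matrix (Fin 2) (Fin 2) F) : Matrix (Fin 3) (Fin 3) F :=
  !![(A.det)⁻¹, 0, 0; 0, A 0 0, A 0 1; 0, A 1 0, A 1 1]

theorem thetaMat_det (A : Matrix (Fin 2) (Fin 2) F) (hA : A.det ≠ 0) : (thetaMat A).det = 1 := by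
  rw [thetaMat, Matrix.det_fin_three]
  simp
  have h2 : A.det = A 0 0 * A 1 1 - A 0 1 * A 1 0 := Matrix.det_fin_two A
  have h3 : A.det⁻¹ * A.det = 1 := inv_mul_cancel₀ hA
  rw [h2] at h3 ⊢
  linear_combination h3

theorem thetaMat_mul (A B : Matrix (Fin 2) (Fin 2) F) :
    thetaMat (A * B) = thetaMat A * thetaMat B := by
  ext i j
  fin_cases i <;> fin_cases j <;>
    simp [thetaMat, Matrix.mul_apply, Fin.sum_univ_three, Fin.sum_univ_two, mul_comm]

theorem thetaMat_one : thetaMat (1 : Matrix (Fin 2) (Fin 2) F) = 1 := by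
  ext i j
  fin_cases i <;> fin_cases j <;> simp [thetaMat]

/-- the block embedding `GL₂ → SL₃` -/
def theta : GL (Fin 2) F →* Matrix.SpecialLinearGroup (Fin 3) F :=
  MonoidHom.mk' (fun A => ⟨thetaMat (A : Matrix (Fin 2) (Fin 2) F), thetaMat_det _ (by
    have := A.det_ne_zero
    exact this)⟩) (by
    intro A B
    apply Subtype.ext
    show thetaMat ((A * B : GL (Fin 2) F) : Matrix (Fin 2) (Fin 2) F)
      = thetaMat (A : Matrix (Fin 2) (Fin 2) F) * thetaMat (B : Matrix (Fin 2) (Fin 2) F)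
    rw [Units.val_mul, thetaMat_mul])

theorem theta_coe (A : GL (Fin 2) F) :
    ((theta A : Matrix.SpecialLinearGroup (Fin 3) F) : Matrix (Fin 3) (Fin 3) F)
      = thetaMat (A : Matrix (Fin 2) (Fin 2) F) := rfl

/-- the standard involution `diag(1,-1,-1)` -/
def dMat : Matrix (Fin 3) (Fin 3) F := !![1, 0, 0; 0, -1, 0; 0, 0, -1]

def dEl : Matrix.SpecialLinearGroup (Fin 3) F := ⟨dMat, by
  rw [dMat, Matrix.det_fin_three]; simp⟩

theorem dEl_coe : ((dEl : Matrix.SpecialLinearGroup (Fin 3) F) : Matrix (Fin 3) (Fin 3) F) = dMat :=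
  rfl

theorem dMat_mul_self : (dMat : Matrix (Fin 3) (Fin 3) F) * dMat = 1 := by
  ext i j
  fin_cases i <;> fin_cases j <;> simp [dMat, Matrix.mul_apply, Fin.sum_univ_three]

theorem dEl_mul_self : (dEl : Matrix.SpecialLinearGroup (Fin 3) F) * dEl = 1 :=
  Subtype.ext (by rw [Matrix.SpecialLinearGroup.coe_mul, dEl_coe, dMat_mul_self]; rfl)

/-- commuting with `d` means block diagonal -/
theorem commute_dMat (h2 : (2 : F) ≠ 0) (M : Matrix (Fin 3) (Fin 3) F)
    (h : M * dMat = dMat * M) : M 0 1 = 0 ∧ M 0 2 = 0 ∧ M 1 0 = 0 ∧ M 2 0 = 0 := by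
  have e01 := congrFun (congrFun h 0) 1
  have e02 := congrFun (congrFun h 0) 2
  have e10 := congrFun (congrFun h 1) 0
  have e20 := congrFun (congrFun h 2) 0
  simp [dMat, Matrix.mul_apply, Fin.sum_univ_three] at e01 e02 e10 e20
  refine ⟨?_, ?_, ?_, ?_⟩
  · have : (2 : F) * M 0 1 = 0 := by linear_combination -e01
    exact (mul_eq_zero.mp this).resolve_left h2
  · have : (2 : F) * M 0 2 = 0 := by linear_combination -e02
    exact (mul_eq_zero.mp this).resolve_left h2
  · have : (2 : F) * M 1 0 = 0 := by linear_combination e10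
    exact (mul_eq_zero.mp this).resolve_left h2
  · have : (2 : F) * M 2 0 = 0 := by linear_combination e20
    exact (mul_eq_zero.mp this).resolve_left h2

theorem thetaMat_mul_dMat (A : Matrix (Fin 2) (Fin 2) F) :
    thetaMat A * dMat = dMat * thetaMat A := by
  ext i j
  fin_cases i <;> fin_cases j <;> simp [thetaMat, dMat, Matrix.mul_apply, Fin.sum_univ_three]

theorem theta_commute (A : GL (Fin 2) F) : theta A * dEl = dEl * theta A :=
  Subtype.ext (by
    rw [Matrix.SpecialLinearGroup.coe_mul, Matrix.SpecialLinearGroup.coe_mul, theta_coe, dEl_coe,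
      thetaMat_mul_dMat])

/-- the centralizer of `d` in `SL₃` is the image of `theta` -/
theorem exists_theta_eq (h2 : (2 : F) ≠ 0) (h : Matrix.SpecialLinearGroup (Fin 3) F)
    (hc : h * dEl = dEl * h) : ∃ A : GL (Fin 2) F, theta A = h := by
  have hc' : (h : Matrix (Fin 3) (Fin 3) F) * dMat = dMat * (h : Matrix (Fin 3) (Fin 3) F) := by
    have := congrArg (fun x : Matrix.SpecialLinearGroup (Fin 3) F =>
      (x : Matrix (Fin 3) (Fin 3) F)) hc
    simpa [Matrix.SpecialLinearGroup.coe_mul, dEl_coe] using this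
  obtain ⟨h01, h02, h10, h20⟩ := commute_dMat h2 _ hc'
  have hdet := h.2
  rw [Matrix.det_fin_three, h01, h02, h10, h20] at hdet
  set B : Matrix (Fin 2) (Fin 2) F :=
    !![(h : Matrix (Fin 3) (Fin 3) F) 1 1, (h : Matrix (Fin 3) (Fin 3) F) 1 2;
       (h : Matrix (Fin 3) (Fin 3) F) 2 1, (h : Matrix (Fin 3) (Fin 3) F) 2 2] with hB
  have hBdet : B.det = (h : Matrix (Fin 3) (Fin 3) F) 1 1 * (h : Matrix (Fin 3) (Fin 3) F) 2 2
      - (h : Matrix (Fin 3) (Fin 3) F) 1 2 * (h : Matrix (Fin 3) (Fin 3) F) 2 1 := by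
    rw [Matrix.det_fin_two]; simp [hB]
  have hprod : (h : Matrix (Fin 3) (Fin 3) F) 0 0 * B.det = 1 := by
    rw [hBdet]; linear_combination hdet
  have hB0 : B.det ≠ 0 := by
    intro h0; rw [h0, mul_zero] at hprod; exact zero_ne_one hprod
  refine ⟨Matrix.GeneralLinearGroup.mkOfDetNeZero B hB0, Subtype.ext ?_⟩
  rw [theta_coe]
  show thetaMat B = _
  have h00 : (h : Matrix (Fin 3) (Fin 3) F) 0 0 = (B.det)⁻¹ := eq_inv_of_mul_eq_one_left hprod
  ext i j
  fin_cases i <;> fin_cases j <;> simp [thetaMat, hB, h00, h01, h02, h10, h20]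

end partII

section center

variable {F : Type*} [Field F]

theorem center_pow_three {z : Matrix.SpecialLinearGroup (Fin 3) F}
    (hz : z ∈ Subgroup.center (Matrix.SpecialLinearGroup (Fin 3) F)) : z ^ 3 = 1 := by
  obtain ⟨r, hr, hrz⟩ := Matrix.SpecialLinearGroup.mem_center_iff.mp hz
  rw [Fintype.card_fin] at hr
  apply Subtype.ext
  rw [Matrix.SpecialLinearGroup.coe_pow, ← hrz, ← map_pow, hr, map_one]
  rfl

theorem center_eq_one_of_sq {z : Matrix.SpecialLinearGroup (Fin 3) F}
    (hz : z ∈ Subgroup.center (Matrix.SpecialLinearGroup (Fin 3) F)) (h : z * z = 1) : z = 1 := by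
  have h3 := center_pow_three hz
  calc z = z ^ 3 * (z * z)⁻¹ := by group
    _ = 1 := by rw [h3, h, inv_one, one_mul]

end center

section psl

variable {F : Type*} [Field F]

/-- the image of `d` in `PSL₃` -/
def t0 : Matrix.ProjectiveSpecialLinearGroup (Fin 3) F := QuotientGroup.mk dEl

/-- the map `GL₂ → PSL₃` -/
def phi : GL (Fin 2) F →* Matrix.ProjectiveSpecialLinearGroup (Fin 3) F :=
  (QuotientGroup.mk' (Subgroup.center (Matrix.SpecialLinearGroup (Fin 3) F))).comp theta

theorem phi_range (h2 : (2 : F) ≠ 0) :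
    (phi : GL (Fin 2) F →* _).range = Subgroup.centralizer ({t0} : Set (Matrix.ProjectiveSpecialLinearGroup (Fin 3) F)) := by
  ext x
  rw [Subgroup.mem_centralizer_iff]
  constructor
  · rintro ⟨A, rfl⟩ y hy
    rw [Set.mem_singleton_iff] at hy
    subst hy
    show (QuotientGroup.mk dEl : Matrix.ProjectiveSpecialLinearGroup (Fin 3) F)
      * QuotientGroup.mk (theta A) = QuotientGroup.mk (theta A) * QuotientGroup.mk dEl
    rw [← QuotientGroup.mk_mul, ← QuotientGroup.mk_mul, theta_commute]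
  · intro hx
    have hx' := hx t0 rfl
    obtain ⟨h, rfl⟩ := QuotientGroup.mk_surjective x
    -- `d h = h d z` with `z` central
    have h1 : (QuotientGroup.mk (dEl * h) : Matrix.ProjectiveSpecialLinearGroup (Fin 3) F)
        = QuotientGroup.mk (h * dEl) := hx'
    rw [QuotientGroup.eq] at h1
    set z := (dEl * h)⁻¹ * (h * dEl) with hz
    have hzc : ∀ g, g * z = z * g := fun g => Subgroup.mem_center_iff.mp h1 g
    have hhd : h * dEl = dEl * h * z := by rw [hz]; group
    -- `z * z = 1`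
    have e1 : h = h * (z * z) := by
      calc h = h * dEl * dEl := by rw [mul_assoc, dEl_mul_self, mul_one]
        _ = dEl * h * z * dEl := by rw [hhd]
        _ = dEl * (h * dEl) * z := by
            rw [mul_assoc (dEl * h) z dEl, ← hzc dEl]; group
        _ = dEl * (dEl * h * z) * z := by rw [hhd]
        _ = (dEl * dEl) * h * z * z := by group
        _ = h * (z * z) := by rw [dEl_mul_self, one_mul, mul_assoc]
    have hzz : z * z = 1 := by
      have e2 : h * 1 = h * (z * z) := by rw [mul_one]; exact e1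
      exact (mul_left_cancel e2).symm
    have hz1 := center_eq_one_of_sq h1 hzz
    rw [hz1, mul_one] at hhd
    obtain ⟨A, hA⟩ := exists_theta_eq h2 h hhd
    exact ⟨A, by rw [← hA]; rfl⟩

theorem phi_ker :
    (phi : GL (Fin 2) F →* _).ker
      = ((powMonoidHom 3 : Fˣ →* Fˣ).ker).map (Matrix.GeneralLinearGroup.scalar (Fin 2)) := by
  ext A
  rw [MonoidHom.mem_ker, Subgroup.mem_map]
  show (QuotientGroup.mk (theta A) : Matrix.ProjectiveSpecialLinearGroup (Fin 3) F) = 1 ↔ _
  rw [QuotientGroup.eq_one_iff, Matrix.SpecialLinearGroup.mem_center_iff, Fintype.card_fin]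
  constructor
  · rintro ⟨r, hr3, hr⟩
    rw [theta_coe] at hr
    have e11 := congrFun (congrFun hr 1) 1
    have e12 := congrFun (congrFun hr 1) 2
    have e21 := congrFun (congrFun hr 2) 1
    have e22 := congrFun (congrFun hr 2) 2
    simp [thetaMat, Matrix.scalar_apply] at e11 e12 e21 e22
    have hr0 : r ≠ 0 := by
      rintro rfl
      simp at hr3
    refine ⟨Units.mk0 r hr0, ?_, ?_⟩
    · rw [MonoidHom.mem_ker, powMonoidHom_apply]
      apply Units.ext
      simp [hr3]
    · apply Units.ext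
      rw [Matrix.GeneralLinearGroup.coe_scalar, Units.val_mk0]
      ext i j
      fin_cases i <;> fin_cases j
      · simpa [Matrix.scalar_apply] using e11
      · simpa [Matrix.scalar_apply] using e12
      · simpa [Matrix.scalar_apply] using e21
      · simpa [Matrix.scalar_apply] using e22
  · rintro ⟨u, hu, rfl⟩
    rw [MonoidHom.mem_ker, powMonoidHom_apply] at hu
    have hu3 : (u : F) ^ 3 = 1 := by
      have := congrArg Units.val hu
      simpa using this
    refine ⟨(u : F), hu3, ?_⟩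
    rw [theta_coe, Matrix.GeneralLinearGroup.coe_scalar]
    have hdet : ((Matrix.scalar (Fin 2)) (u : F)).det = (u : F) ^ 2 := by
      rw [Matrix.det_fin_two]; simp [Matrix.scalar_apply, sq]
    have hinv : ((u : F) ^ 2)⁻¹ = (u : F) := by
      have hu0 : (u : F) ≠ 0 := u.ne_zero
      field_simp
      linear_combination -hu3
    ext i j
    fin_cases i <;> fin_cases j <;> simp [thetaMat, Matrix.scalar_apply, hinv]

theorem phi_ker_le_center :
    (phi : GL (Fin 2) F →* _).ker ≤ Subgroup.center (GL (Fin 2) F) := by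
  rw [phi_ker, Matrix.GeneralLinearGroup.center_eq_range_scalar]
  rintro _ ⟨u, -, rfl⟩
  exact ⟨u, rfl⟩

theorem card_phi_ker [Fintype F] :
    Nat.card (phi : GL (Fin 2) F →* _).ker = Nat.gcd (Fintype.card F - 1) 3 := by
  have hinj : Function.Injective (Matrix.GeneralLinearGroup.scalar (Fin 2) : Fˣ →* GL (Fin 2) F) := by
    intro u v huv
    have := congrArg (fun A : GL (Fin 2) F => (A : Matrix (Fin 2) (Fin 2) F) 0 0) huv
    simp [Matrix.scalar_apply] at this
    exact Units.ext this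
  rw [phi_ker, Subgroup.card_map_of_injective hinj, IsCyclic.card_powMonoidHom_ker,
    Nat.card_units, Nat.card_eq_fintype_card]

end psl


section partI

variable {F : Type*} [Field F]

/-- (a) an involution of determinant one in odd characteristic has a fixed vector -/
theorem exists_fixed_vector (h2 : (2 : F) ≠ 0) (M : Matrix (Fin 3) (Fin 3) F) (hM : M * M = 1)
    (hdet : M.det = 1) : ∃ v : Fin 3 → F, v ≠ 0 ∧ M *ᵥ v = v := by
  have hdet0 : (M - 1).det = 0 := by
    by_contra hne
    have hu : IsUnit (M - 1) := (Matrix.isUnit_iff_isUnit_det _).mpr (isUnit_iff_ne_zero.mpr hne)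
    have hprod : (M - 1) * (M + 1) = 0 := by
      rw [Matrix.sub_mul, Matrix.mul_add, Matrix.mul_one, Matrix.one_mul, hM]
      abel
    have h1 : M + 1 = 0 := (hu.mul_right_eq_zero).mp hprod
    have h3 : M = -1 := eq_neg_of_add_eq_zero_left h1
    rw [h3, Matrix.det_neg, Matrix.det_one, Fintype.card_fin] at hdet
    apply h2
    linear_combination -hdet
  obtain ⟨v, hv, hv0⟩ := Matrix.exists_mulVec_eq_zero_iff.mpr hdet0
  refine ⟨v, hv, ?_⟩
  rw [Matrix.sub_mulVec, Matrix.one_mulVec, sub_eq_zero] at hv0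
  exact hv0

/-- (b) every non-zero vector is the first column of a matrix of determinant one -/
theorem exists_first_col (v : Fin 3 → F) (hv : v ≠ 0) :
    ∃ P : Matrix.SpecialLinearGroup (Fin 3) F, ∀ i, (P : Matrix (Fin 3) (Fin 3) F) i 0 = v i := by
  by_cases h0 : v 0 = 0
  · by_cases h1 : v 1 = 0
    · have h2' : v 2 ≠ 0 := by
        intro h2'
        apply hv
        ext i
        fin_cases i <;> simp [h0, h1, h2']
      refine ⟨⟨!![0, (v 2)⁻¹, 0; 0, 0, 1; v 2, 0, 0], ?_⟩, ?_⟩
      · rw [Matrix.det_fin_three]; simp [h2']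
      · intro i; fin_cases i <;> simp [h0, h1]
    · refine ⟨⟨!![0, -(v 1)⁻¹, 0; v 1, 0, 0; v 2, 0, 1], ?_⟩, ?_⟩
      · rw [Matrix.det_fin_three]; simp [h1]
      · intro i; fin_cases i <;> simp [h0]
  · refine ⟨⟨!![v 0, 0, 0; v 1, (v 0)⁻¹, 0; v 2, 0, 1], ?_⟩, ?_⟩
    · rw [Matrix.det_fin_three]; simp [h0]
    · intro i; fin_cases i <;> simp

/-- a shear -/
def shearEl (r1 r2 : F) : Matrix.SpecialLinearGroup (Fin 3) F :=
  ⟨!![1, r1, r2; 0, 1, 0; 0, 0, 1], by rw [Matrix.det_fin_three]; simp⟩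

theorem shearEl_coe (r1 r2 : F) :
    ((shearEl r1 r2 : Matrix.SpecialLinearGroup (Fin 3) F) : Matrix (Fin 3) (Fin 3) F)
      = !![1, r1, r2; 0, 1, 0; 0, 0, 1] := rfl

/-- (d) classification of involutions with first column `e₀` -/
theorem step_d (h2 : (2 : F) ≠ 0) (N : Matrix.SpecialLinearGroup (Fin 3) F) (hN : N * N = 1)
    (hN1 : N ≠ 1) (h00 : (N : Matrix (Fin 3) (Fin 3) F) 0 0 = 1)
    (h10 : (N : Matrix (Fin 3) (Fin 3) F) 1 0 = 0) (h20 : (N : Matrix (Fin 3) (Fin 3) F) 2 0 = 0) :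
    ∃ P : Matrix.SpecialLinearGroup (Fin 3) F, N * P = P * dEl := by
  have hNN : (N : Matrix (Fin 3) (Fin 3) F) * (N : Matrix (Fin 3) (Fin 3) F) = 1 := by
    rw [← Matrix.SpecialLinearGroup.coe_mul, hN]; rfl
  have hdet := N.2
  rw [Matrix.det_fin_three, h00, h10, h20] at hdet
  set n01 := (N : Matrix (Fin 3) (Fin 3) F) 0 1 with hn01
  set n02 := (N : Matrix (Fin 3) (Fin 3) F) 0 2 with hn02
  set n11 := (N : Matrix (Fin 3) (Fin 3) F) 1 1 with hn11
  set n12 := (N : Matrix (Fin 3) (Fin 3) F) 1 2 with hn12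
  set n21 := (N : Matrix (Fin 3) (Fin 3) F) 2 1 with hn21
  set n22 := (N : Matrix (Fin 3) (Fin 3) F) 2 2 with hn22
  have e01 := congrFun (congrFun hNN 0) 1
  have e02 := congrFun (congrFun hNN 0) 2
  have e11 := congrFun (congrFun hNN 1) 1
  have e12 := congrFun (congrFun hNN 1) 2
  have e21 := congrFun (congrFun hNN 2) 1
  have e22 := congrFun (congrFun hNN 2) 2
  simp only [Matrix.mul_apply, Fin.sum_univ_three, h00, h10, h20, ← hn01, ← hn02, ← hn11, ← hn12,
    ← hn21, ← hn22] at e01 e02 e11 e12 e21 e22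
  simp at e01 e02 e11 e12 e21 e22
  -- the 2×2 block
  let B : Matrix.SpecialLinearGroup (Fin 2) F := ⟨!![n11, n12; n21, n22], by
    rw [Matrix.det_fin_two]; simp; linear_combination hdet⟩
  have hBB : (B : Matrix (Fin 2) (Fin 2) F) * (B : Matrix (Fin 2) (Fin 2) F) = 1 := by
    show !![n11, n12; n21, n22] * !![n11, n12; n21, n22] = 1
    ext i j
    fin_cases i <;> fin_cases j <;> simp [Matrix.mul_apply, Fin.sum_univ_two]
    · linear_combination e11
    · linear_combination e12
    · linear_combination e21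
    · linear_combination e22
  rcases Cfsg.Agent.Lib.Helper41.eq_one_or_neg_one_of_mul_self h2 B hBB with hB | hB
  · -- `B = 1`: then `N = 1`
    exfalso
    have b11 : n11 = 1 := by simpa [B] using congrFun (congrFun hB 0) 0
    have b12 : n12 = 0 := by simpa [B] using congrFun (congrFun hB 0) 1
    have b21 : n21 = 0 := by simpa [B] using congrFun (congrFun hB 1) 0
    have b22 : n22 = 1 := by simpa [B] using congrFun (congrFun hB 1) 1
    rw [b11, b21] at e01
    rw [b12, b22] at e02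
    have r1 : n01 = 0 := by
      have : (2 : F) * n01 = 0 := by linear_combination e01
      exact (mul_eq_zero.mp this).resolve_left h2
    have r2 : n02 = 0 := by
      have : (2 : F) * n02 = 0 := by linear_combination e02
      exact (mul_eq_zero.mp this).resolve_left h2
    apply hN1
    apply Subtype.ext
    ext i j
    fin_cases i <;> fin_cases j <;>
      simp [h00, h10, h20, ← hn01, ← hn02, ← hn11, ← hn12, ← hn21, ← hn22, r1, r2, b11, b12, b21, b22]
  · -- `B = -1`
    have b11 : n11 = -1 := by simpa [B] using congrFun (congrFun hB 0) 0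
    have b12 : n12 = 0 := by simpa [B] using congrFun (congrFun hB 0) 1
    have b21 : n21 = 0 := by simpa [B] using congrFun (congrFun hB 1) 0
    have b22 : n22 = -1 := by simpa [B] using congrFun (congrFun hB 1) 1
    refine ⟨shearEl (-(n01 / 2)) (-(n02 / 2)), ?_⟩
    apply Subtype.ext
    rw [Matrix.SpecialLinearGroup.coe_mul, Matrix.SpecialLinearGroup.coe_mul, dEl_coe, shearEl_coe]
    have hNeta : (N : Matrix (Fin 3) (Fin 3) F) = !![1, n01, n02; 0, -1, 0; 0, 0, -1] := by
      ext i j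
      fin_cases i <;> fin_cases j <;>
        simp [h00, h10, h20, ← hn01, ← hn02, ← hn11, ← hn12, ← hn21, ← hn22, b11, b12, b21, b22]
    rw [hNeta]
    ext i j
    fin_cases i <;> fin_cases j <;> simp [dMat, Matrix.mul_apply, Fin.sum_univ_three] <;>
      field_simp <;> ring

end partI


section assemble

variable {F : Type*} [Field F]

theorem exists_conj_dEl (h2 : (2 : F) ≠ 0) (g : Matrix.SpecialLinearGroup (Fin 3) F)
    (hg : g * g = 1) (hg1 : g ≠ 1) :
    ∃ P : Matrix.SpecialLinearGroup (Fin 3) F, g * P = P * dEl := by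
  have hgg : (g : Matrix (Fin 3) (Fin 3) F) * (g : Matrix (Fin 3) (Fin 3) F) = 1 := by
    rw [← Matrix.SpecialLinearGroup.coe_mul, hg]; rfl
  obtain ⟨v, hv, hMv⟩ := exists_fixed_vector h2 _ hgg g.2
  obtain ⟨P₁, hP₁⟩ := exists_first_col v hv
  have hP₁v : (P₁ : Matrix (Fin 3) (Fin 3) F) *ᵥ (Pi.single 0 1) = v := by
    rw [Matrix.mulVec_single_one]
    ext i
    exact hP₁ i
  set N := P₁⁻¹ * g * P₁ with hNdef
  have hNN : N * N = 1 := by
    calc N * N = P₁⁻¹ * (g * g) * P₁ := by rw [hNdef]; group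
      _ = 1 := by rw [hg]; group
  have hN1 : N ≠ 1 := by
    intro h
    apply hg1
    calc g = P₁ * N * P₁⁻¹ := by rw [hNdef]; group
      _ = 1 := by rw [h]; group
  have hNe : (N : Matrix (Fin 3) (Fin 3) F) *ᵥ (Pi.single 0 1) = Pi.single 0 1 := by
    have hPinv : ((P₁⁻¹ : Matrix.SpecialLinearGroup (Fin 3) F) : Matrix (Fin 3) (Fin 3) F) *ᵥ v
        = Pi.single 0 1 := by
      rw [← hP₁v, Matrix.mulVec_mulVec, ← Matrix.SpecialLinearGroup.coe_mul, inv_mul_cancel,
        Matrix.SpecialLinearGroup.coe_one, Matrix.one_mulVec]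
    rw [hNdef, Matrix.SpecialLinearGroup.coe_mul, Matrix.SpecialLinearGroup.coe_mul,
      ← Matrix.mulVec_mulVec, ← Matrix.mulVec_mulVec, hP₁v, hMv, hPinv]
  rw [Matrix.mulVec_single_one] at hNe
  have h00 : (N : Matrix (Fin 3) (Fin 3) F) 0 0 = 1 := by
    simpa using congrFun hNe 0
  have h10 : (N : Matrix (Fin 3) (Fin 3) F) 1 0 = 0 := by
    simpa using congrFun hNe 1
  have h20 : (N : Matrix (Fin 3) (Fin 3) F) 2 0 = 0 := by
    simpa using congrFun hNe 2
  obtain ⟨P₂, hP₂⟩ := step_d h2 N hNN hN1 h00 h10 h20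
  refine ⟨P₁ * P₂, ?_⟩
  calc g * (P₁ * P₂) = P₁ * (N * P₂) := by rw [hNdef]; group
    _ = P₁ * P₂ * dEl := by rw [hP₂]; group

theorem exists_involution_lift (t : Matrix.ProjectiveSpecialLinearGroup (Fin 3) F)
    (ht : orderOf t = 2) :
    ∃ g : Matrix.SpecialLinearGroup (Fin 3) F,
      (QuotientGroup.mk g : Matrix.ProjectiveSpecialLinearGroup (Fin 3) F) = t ∧ g * g = 1 ∧ g ≠ 1 := by
  obtain ⟨g₀, rfl⟩ := QuotientGroup.mk_surjective t
  have h1 : (QuotientGroup.mk (g₀ * g₀) : Matrix.ProjectiveSpecialLinearGroup (Fin 3) F) = 1 := by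
    rw [QuotientGroup.mk_mul, ← sq, ← ht, pow_orderOf_eq_one]
  rw [QuotientGroup.eq_one_iff] at h1
  have hzc : ∀ x, x * (g₀ * g₀) = (g₀ * g₀) * x := fun x => Subgroup.mem_center_iff.mp h1 x
  have hz3 := center_pow_three h1
  refine ⟨(g₀ * g₀) * g₀, ?_, ?_, ?_⟩
  · rw [QuotientGroup.mk_mul, (QuotientGroup.eq_one_iff _).mpr h1, one_mul]
  · calc (g₀ * g₀) * g₀ * ((g₀ * g₀) * g₀) = (g₀ * g₀) ^ 3 := by
          simp only [pow_succ, pow_zero, one_mul, mul_assoc]
      _ = 1 := hz3
  · intro h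
    have : (QuotientGroup.mk g₀ : Matrix.ProjectiveSpecialLinearGroup (Fin 3) F) = 1 := by
      have h5 : (QuotientGroup.mk ((g₀ * g₀) * g₀) : Matrix.ProjectiveSpecialLinearGroup (Fin 3) F)
          = QuotientGroup.mk g₀ := by
        rw [QuotientGroup.mk_mul, (QuotientGroup.eq_one_iff _).mpr h1, one_mul]
      rw [← h5, h]; rfl
    rw [this, orderOf_one] at ht
    omega

/-- centralizers of conjugate elements are isomorphic -/
def centralizerConjEquiv {G : Type*} [Group G] (c x : G) :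
    Subgroup.centralizer ({c * x * c⁻¹} : Set G) ≃* Subgroup.centralizer ({x} : Set G) where
  toFun y := ⟨c⁻¹ * y.1 * c, by
    have hy := Subgroup.mem_centralizer_iff.mp y.2 _ rfl
    rw [Subgroup.mem_centralizer_iff]
    intro z hz
    rw [Set.mem_singleton_iff] at hz
    subst hz
    have : z * (c⁻¹ * y.1 * c) = c⁻¹ * (c * z * c⁻¹ * y.1) * c := by group
    rw [this, hy]; group⟩
  invFun y := ⟨c * y.1 * c⁻¹, by
    have hy := Subgroup.mem_centralizer_iff.mp y.2 _ rfl
    rw [Subgroup.mem_centralizer_iff]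
    intro z hz
    rw [Set.mem_singleton_iff] at hz
    subst hz
    have : c * x * c⁻¹ * (c * y.1 * c⁻¹) = c * (x * y.1) * c⁻¹ := by group
    rw [this, hy]; group⟩
  left_inv y := Subtype.ext (by simp only; group)
  right_inv y := Subtype.ext (by simp only; group)
  map_mul' y y' := Subtype.ext (by simp only [Subgroup.coe_mul]; group)

end assemble

/-- Let F be a finite field of odd order q and t an involution of PSL(3,F). Then C(t) is isomorphic to the quotient of GL(2,F) by a central subgroup of order gcd(q−1, 3). -/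
theorem result {F : Type*} [Field F] [Fintype F] (hF : Odd (Fintype.card F)) (t : Matrix.ProjectiveSpecialLinearGroup (Fin 3) F) (ht : orderOf t = 2) : ∃ (Z : Subgroup (GL (Fin 2) F)) (_ : Z.Normal), Z ≤ Subgroup.center (GL (Fin 2) F) ∧ Nat.card Z = Nat.gcd (Fintype.card F - 1) 3 ∧ Nonempty (↥(Subgroup.centralizer ({t} : Set (Matrix.ProjectiveSpecialLinearGroup (Fin 3) F))) ≃* GL (Fin 2) F ⧸ Z) := by
  have h2 : (2 : F) ≠ 0 := by
    intro h
    have hchar : ringChar F = 2 :=
      CharP.ringChar_of_prime_eq_zero Nat.prime_two (by exact_mod_cast h)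
    have := FiniteField.even_card_iff_char_two.mp hchar
    obtain ⟨j, hj⟩ := hF
    omega
  obtain ⟨g, hgt, hgg, hg1⟩ := exists_involution_lift t ht
  obtain ⟨P, hP⟩ := exists_conj_dEl h2 g hgg hg1
  have hconj : t = (QuotientGroup.mk P : Matrix.ProjectiveSpecialLinearGroup (Fin 3) F) * t0
      * (QuotientGroup.mk P)⁻¹ := by
    rw [← hgt, t0, ← QuotientGroup.mk_mul, ← QuotientGroup.mk_inv, ← QuotientGroup.mk_mul]
    congr 1
    calc g = g * P * P⁻¹ := by group
      _ = P * dEl * P⁻¹ := by rw [hP]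
  refine ⟨(phi : GL (Fin 2) F →* _).ker, inferInstance, phi_ker_le_center, card_phi_ker, ?_⟩
  rw [hconj]
  exact ⟨(centralizerConjEquiv _ _).trans ((MulEquiv.subgroupCongr (phi_range h2).symm).trans
    (QuotientGroup.quotientKerEquivRange phi).symm)⟩

end Cfsg.Agent.S1219
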