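import Cfsg.Statements.S0261
import Mathlib
import Cfsg.Agent.Lib.Helper95.QuaternionRecog
import Cfsg.Agent.Lib.Helper41.SL2NsTorusNorm
import Cfsg.Agent.Lib.Helper41.SL2NsTorusCard
import Cfsg.Agent.Lib.Helper41.SL2NsTorusMain
import Cfsg.Agent.Lib.Helper41.SL2TorusCount
import Cfsg.Agent.Lib.Helper5.SL2Sylow

set_option autoImplicit false
open Cfsg

namespace Cfsg.Agent.S0261

open Cfsg.Agent.Lib.Helper41 Cfsg.Agent.Lib.Helper95

/-- A subgroup of `p`-power order whose order is the full `p`-part is isomorphic to every Sylow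
`p`-subgroup. -/
theorem sylow_equiv_of_card {G : Type*} [Group G] [Finite G] (p : ℕ) [Fact p.Prime]
    (H : Subgroup G) (n r : ℕ) (hH : Nat.card H = p ^ n) (hG : Nat.card G = p ^ n * r)
    (hr : ¬ p ∣ r) (P : Sylow p G) : Nonempty ((P : Subgroup G) ≃* H) := by
  have hp : IsPGroup p H := IsPGroup.of_card hH
  have hidx : ¬ p ∣ H.index := by
    have h1 := H.card_mul_index
    rw [hH, hG] at h1
    have hpos : 0 < p ^ n := pow_pos (Fact.out : p.Prime).pos n
    have : H.index = r := Nat.eq_of_mul_eq_mul_left hpos h1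
    rwa [this]
  let Q : Sylow p G := hp.toSylow hidx
  have e1 : (P : Subgroup G) ≃* (Q : Subgroup G) := Sylow.equiv P Q
  have e2 : (Q : Subgroup G) ≃* H := MulEquiv.subgroupCongr (hp.toSylow_coe hidx)
  exact ⟨e1.trans e2⟩

section SL2

variable {F : Type*} [Field F] [Fintype F]

/-- The common part: from an element `x0` of order `N` (`4 ∣ N`) inverted by `w` with `w² = -1`,
where `|SL₂(F)| = N * (2 * s) * c` with `s`, `c` odd. -/
theorem quaternion_of_gens (h2 : (2 : F) ≠ 0)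
    (x0 w : Matrix.SpecialLinearGroup (Fin 2) F) (N s c : ℕ) (hx0 : orderOf x0 = N) (h4 : 4 ∣ N)
    (hcard : Nat.card (Matrix.SpecialLinearGroup (Fin 2) F) = N * (2 * s) * c)
    (hs : Odd s) (hc : Odd c)
    (hw : w * x0 * w⁻¹ = x0⁻¹)
    (hw2 : (w : Matrix (Fin 2) (Fin 2) F) * (w : Matrix (Fin 2) (Fin 2) F) = -1)
    (P : Sylow 2 (Matrix.SpecialLinearGroup (Fin 2) F)) :
    ∃ k : ℕ, 1 ≤ k ∧
      Nonempty ((P : Subgroup (Matrix.SpecialLinearGroup (Fin 2) F)) ≃* QuaternionGroup (2 ^ k)) := by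
  have hN0 : N ≠ 0 := by
    intro h
    have : Nat.card (Matrix.SpecialLinearGroup (Fin 2) F) = 0 := by rw [hcard, h]; simp
    exact Nat.card_pos.ne' this
  obtain ⟨e, m, hm, hNem⟩ := Nat.exists_eq_two_pow_mul_odd hN0
  -- `e ≥ 2`
  have he : 2 ≤ e := by
    by_contra hlt
    push Not at hlt
    obtain ⟨m', rfl⟩ := hm
    interval_cases e
    · rw [hNem] at h4; omega
    · rw [hNem] at h4; omega
  obtain ⟨k, rfl⟩ : ∃ k, e = k + 1 := ⟨e - 1, by omega⟩
  have hk : 1 ≤ k := by omega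
  refine ⟨k, hk, ?_⟩
  have hm0 : m ≠ 0 := by rintro rfl; simp at hNem; exact hN0 hNem
  -- the element of order `2 ^ (k + 1)`
  set x := x0 ^ m with hx
  have hxord : orderOf x = 2 * 2 ^ k := by
    rw [hx, orderOf_pow_of_dvd hm0 (by rw [hx0, hNem]; exact Dvd.intro_left _ rfl), hx0, hNem,
      Nat.mul_div_cancel _ (Nat.pos_of_ne_zero hm0), pow_succ, mul_comm]
  have hwx : w * x * w⁻¹ = x⁻¹ := by
    rw [hx, ← conj_pow, hw, inv_pow]
  -- `x ^ (2 ^ k)` is an involution, hence `-1`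
  have hxk : ((x ^ 2 ^ k : Matrix.SpecialLinearGroup (Fin 2) F) : Matrix (Fin 2) (Fin 2) F) = -1 := by
    have hsq : (x ^ 2 ^ k) * (x ^ 2 ^ k) = 1 := by
      rw [← pow_add, ← two_mul, ← hxord, pow_orderOf_eq_one]
    have hne : x ^ 2 ^ k ≠ 1 := by
      intro h
      have := orderOf_dvd_of_pow_eq_one h
      rw [hxord] at this
      have hpos : 0 < 2 ^ k := pow_pos (by norm_num) k
      have := Nat.le_of_dvd hpos this
      omega
    have hsq' : ((x ^ 2 ^ k : Matrix.SpecialLinearGroup (Fin 2) F) : Matrix (Fin 2) (Fin 2) F)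
        * ((x ^ 2 ^ k : Matrix.SpecialLinearGroup (Fin 2) F) : Matrix (Fin 2) (Fin 2) F) = 1 := by
      rw [← Matrix.SpecialLinearGroup.coe_mul, hsq]; rfl
    rcases eq_one_or_neg_one_of_mul_self h2 _ hsq' with h | h
    · exact absurd (Subtype.ext (by rw [h]; rfl)) hne
    · exact h
  have hw2' : w ^ 2 = x ^ 2 ^ k := by
    apply Subtype.ext
    rw [sq, Matrix.SpecialLinearGroup.coe_mul, hw2, hxk]
  have h2k : 2 ≤ 2 ^ k := by
    calc 2 = 2 ^ 1 := by norm_num
      _ ≤ 2 ^ k := Nat.pow_le_pow_right (by norm_num) hk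
  obtain ⟨eQ⟩ := closure_equiv_quaternionGroup h2k hxord hw2' hwx
  have hcardH : Nat.card (Subgroup.closure ({x, w} : Set (Matrix.SpecialLinearGroup (Fin 2) F)))
      = 2 ^ (k + 2) := by
    rw [card_closure_quaternion h2k hxord hw2' hwx]
    ring
  have hG : Nat.card (Matrix.SpecialLinearGroup (Fin 2) F) = 2 ^ (k + 2) * (m * s * c) := by
    rw [hcard, hNem]; ring
  have hodd : ¬ 2 ∣ m * s * c := by
    have h3 : Odd (m * s * c) := (hm.mul hs).mul hc
    rw [← even_iff_two_dvd]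
    exact Nat.not_even_iff_odd.mpr h3
  obtain ⟨e1⟩ := sylow_equiv_of_card 2 _ (k + 2) (m * s * c) hcardH hG hodd P
  exact ⟨e1.trans eQ⟩

end SL2

/-- For q odd, the Sylow 2-subgroups of SL_2(q) are generalised quaternion. -/
theorem result {F : Type*} [Field F] [Fintype F] (hF : Odd (Fintype.card F)) (P : Sylow 2 (Matrix.SpecialLinearGroup (Fin 2) F)) : ∃ k : ℕ, 1 ≤ k ∧ Nonempty ((P : Subgroup (Matrix.SpecialLinearGroup (Fin 2) F)) ≃* QuaternionGroup (2 ^ k)) := by
  classical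
  have h2 : (2 : F) ≠ 0 := by
    intro h
    have hchar : ringChar F = 2 :=
      CharP.ringChar_of_prime_eq_zero Nat.prime_two (by exact_mod_cast h)
    have := FiniteField.even_card_iff_char_two.mp hchar
    obtain ⟨j, hj⟩ := hF
    omega
  have hcard := Cfsg.Agent.Lib.Helper5.card_SL2 (F := F)
  obtain ⟨j, hj⟩ := hF
  rcases Nat.even_or_odd' j with ⟨i, rfl | rfl⟩
  · -- `q = 4 i + 1`, split torus
    have hq : Fintype.card F = 4 * i + 1 := by omega
    obtain ⟨ζ, hζ⟩ := IsCyclic.exists_generator (α := Fˣ)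
    have hordζ : orderOf ζ = 4 * i := by
      rw [orderOf_eq_card_of_forall_mem_zpowers hζ, Nat.card_units, Nat.card_eq_fintype_card, hq]
      omega
    have hx0 : orderOf (diagHom ζ : Matrix.SpecialLinearGroup (Fin 2) F) = 4 * i := by
      rw [orderOf_injective diagHom diagHom_injective ζ, hordζ]
    have hdiag : IsDiag (diagHom ζ : Matrix.SpecialLinearGroup (Fin 2) F) :=
      ⟨by simp [coe_diagHom], by simp [coe_diagHom]⟩
    refine quaternion_of_gens h2 (diagHom ζ) weylW (4 * i) (2 * i + 1) (4 * i + 1) hx0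
      (Dvd.intro _ rfl) ?_ ⟨i, rfl⟩ ⟨2 * i, by ring⟩
      (isAntidiag_weylW.conj_diag hdiag) isAntidiag_weylW.mul_self P
    rw [hcard, hq]
    have : (4 * i + 1) ^ 2 = 4 * i * (2 * (2 * i + 1)) + 1 := by ring
    rw [this, Nat.add_sub_cancel]
    ring
  · -- `q = 4 i + 3`, non-split torus
    have hq : Fintype.card F = 4 * i + 3 := by omega
    obtain ⟨t, ht⟩ := exists_nonsplit_trace (F := F)
    obtain ⟨Y, hY, hordY⟩ := exists_mem_nsTorus_orderOf ht
    have ht4 : t ^ 2 ≠ 4 := by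
      intro h
      apply not_isSquare_of_nonsplit h2 ht
      exact ⟨0, by rw [h]; ring⟩
    obtain ⟨w, hw⟩ := exists_isQuadInv ht4
    have hx0 : orderOf Y = 4 * (i + 1) := by rw [hordY, hq]; ring
    refine quaternion_of_gens h2 Y w (4 * (i + 1)) (2 * i + 1) (4 * i + 3) hx0
      (Dvd.intro _ rfl) ?_ ⟨i, rfl⟩ ⟨2 * i + 1, by ring⟩
      (hw.conj_quad ((mem_nsTorus_iff t Y).mp hY)) hw.mul_self P
    rw [hcard, hq]
    have : (4 * i + 3) ^ 2 = 4 * (i + 1) * (2 * (2 * i + 1)) + 1 := by ring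
    rw [this, Nat.add_sub_cancel]
    ring

end Cfsg.Agent.S0261
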