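import Cfsg.Statements.S2431
import Mathlib
import Cfsg.Agent.Lib.Helper41.SL2Basic
import Cfsg.Agent.Lib.Helper41.SL2Nonsplit
import Cfsg.Agent.Lib.Helper41.SL2SylowTwo
import Cfsg.Agent.Lib.Helper41.SL2SylowTwoTori
import Cfsg.Agent.Lib.Helper41.DicyclicSylow
import Cfsg.Agent.Lib.Helper41.DicyclicSylow2

set_option autoImplicit false
open Cfsg

namespace Cfsg.Agent.S2431

open Cfsg.Agent.Lib.Helper41

theorem two_ne_zero_of_odd_card {F : Type*} [Field F] [Fintype F] (hodd : Odd (Fintype.card F)) :
    (2 : F) ≠ 0 := by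
  intro h
  have h' : ((2 : ℕ) : F) = 0 := by exact_mod_cast h
  have hchar : ringChar F = 2 := CharP.ringChar_of_prime_eq_zero Nat.prime_two h'
  have := FiniteField.even_card_of_char_two hchar
  rw [Nat.odd_iff] at hodd
  omega

theorem center_eq {F : Type*} [Field F]
    (C : Subgroup (Matrix.SpecialLinearGroup (Fin 2) F))
    (hC : ∀ c : Matrix.SpecialLinearGroup (Fin 2) F, c ∈ C ↔ c = 1 ∨ c = negOne) :
    C = Subgroup.center (Matrix.SpecialLinearGroup (Fin 2) F) := by
  ext c
  rw [hC, mem_center_iff_pm]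
  constructor
  · rintro (rfl | rfl)
    · left; rfl
    · right; exact coe_negOne
  · rintro (h | h)
    · left; exact Subtype.ext h
    · right; exact eq_negOne_of_coe h

/-- Let F be a finite field with q elements, q odd, and S a Sylow 2-subgroup of SL₂ over F. The centraliser of S is the centre of SL₂ (of order 2); S is its own normaliser when q ≡ ±1 mod 8, and has index 3 in its normaliser when q ≡ ±3 mod 8. -/
theorem result {F : Type*} [Field F] [Fintype F] (hodd : Odd (Fintype.card F)) (S : Sylow 2 (Matrix.SpecialLinearGroup (Fin 2) F)) :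
    Subgroup.centralizer ((S : Subgroup (Matrix.SpecialLinearGroup (Fin 2) F)) : Set (Matrix.SpecialLinearGroup (Fin 2) F)) = Subgroup.center (Matrix.SpecialLinearGroup (Fin 2) F) ∧
    ((Fintype.card F % 8 = 1 ∨ Fintype.card F % 8 = 7) →
      Subgroup.normalizer ((S : Subgroup (Matrix.SpecialLinearGroup (Fin 2) F)) : Set (Matrix.SpecialLinearGroup (Fin 2) F)) = (S : Subgroup (Matrix.SpecialLinearGroup (Fin 2) F))) ∧
    ((Fintype.card F % 8 = 3 ∨ Fintype.card F % 8 = 5) →
      Nat.card (Subgroup.normalizer ((S : Subgroup (Matrix.SpecialLinearGroup (Fin 2) F)) : Set (Matrix.SpecialLinearGroup (Fin 2) F))) = 3 * Nat.card S) := by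
  have h2 : (2 : F) ≠ 0 := two_ne_zero_of_odd_card hodd
  have hq1 : 1 ≤ Fintype.card F := Fintype.card_pos
  rw [Nat.odd_iff] at hodd
  by_cases hq : Fintype.card F % 4 = 1
  · have hD := dicyclicTorus_diagSub h2 hq
    obtain ⟨hc, hn8, hn3⟩ := hD.sylow_two_main S
    have hcardA : Nat.card (diagSub F) = Fintype.card F - 1 := card_diagSub
    refine ⟨center_eq _ hc, ?_, ?_⟩
    · intro h8
      apply hn8
      rw [hcardA]
      omega
    · intro h8
      apply hn3
      rw [hcardA]
      omega
  · have hq3 : Fintype.card F % 4 = 3 := by omega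
    obtain ⟨t, ht⟩ := exists_nonsplit_trace (F := F)
    have hD := dicyclicTorus_nsTorus h2 hq3 ht
    obtain ⟨hc, hn8, hn3⟩ := hD.sylow_two_main S
    have hcardA : Nat.card (nsTorus t) = Fintype.card F + 1 := card_nsTorus ht
    refine ⟨center_eq _ hc, ?_, ?_⟩
    · intro h8
      apply hn8
      rw [hcardA]
      omega
    · intro h8
      apply hn3
      rw [hcardA]
      omega

end Cfsg.Agent.S2431
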