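import Cfsg.Statements.S0601
import Cfsg.Agent.Lib.Helper97.PCoreQuot
import Cfsg.Agent.Lib.Helper97.Thompson2

set_option autoImplicit false
open Cfsg

namespace Cfsg.Agent.S0601

open Cfsg.Agent.Lib.Helper97

variable {G : Type*} [Group G]

/-- `Z(S)` as a subgroup of `G`. -/
abbrev zOf (S : Subgroup G) : Subgroup G := S ⊓ Subgroup.centralizer (S : Set G)

theorem omegaOne_mono {p : ℕ} {H K : Subgroup G} (h : H ≤ K) : omegaOne p H ≤ omegaOne p K := by
  unfold omegaOne
  apply Subgroup.closure_mono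
  rintro x ⟨hx, hxp⟩
  exact ⟨h hx, hxp⟩

theorem omegaOne_le {p : ℕ} (H : Subgroup G) : omegaOne p H ≤ H := by
  unfold omegaOne
  rw [Subgroup.closure_le]
  rintro x ⟨hx, _⟩
  exact hx

theorem map_conj_omegaOne_le {p : ℕ} (g : G) (H K : Subgroup G)
    (h : H.map (MulAut.conj g).toMonoidHom ≤ K) :
    (omegaOne p H).map (MulAut.conj g).toMonoidHom ≤ omegaOne p K := by
  unfold omegaOne
  rw [MonoidHom.map_closure, Subgroup.closure_le]
  rintro _ ⟨x, ⟨hx, hxp⟩, rfl⟩
  apply Subgroup.subset_closure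
  refine ⟨h (Subgroup.mem_map_of_mem _ hx), ?_⟩
  rw [← map_pow, hxp, map_one]

theorem map_conj_zOf_le {p : ℕ} [Fact p.Prime] (g : G) (S : Sylow p G) :
    (zOf (S : Subgroup G)).map (MulAut.conj g).toMonoidHom ≤ zOf ((g • S : Sylow p G) : Subgroup G) := by
  rintro _ ⟨x, ⟨hx1, hx2⟩, rfl⟩
  replace hx1 : x ∈ (S : Subgroup G) := hx1
  replace hx2 : x ∈ Subgroup.centralizer ((S : Subgroup G) : Set G) := hx2
  have hsm : ∀ y : G, y ∈ ((g • S : Sylow p G) : Subgroup G) ↔ g⁻¹ * y * g ∈ (S : Subgroup G) := by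
    intro y
    rw [Sylow.coe_subgroup_smul, Subgroup.mem_pointwise_smul_iff_inv_smul_mem]
    simp [MulAut.smul_def]
  refine ⟨?_, ?_⟩
  · show (MulAut.conj g).toMonoidHom x ∈ ((g • S : Sylow p G) : Subgroup G)
    rw [hsm]
    simpa [mul_assoc] using hx1
  · show (MulAut.conj g).toMonoidHom x ∈ Subgroup.centralizer (((g • S : Sylow p G) : Subgroup G) : Set G)
    rw [Subgroup.mem_centralizer_iff]
    intro y hy
    rw [SetLike.mem_coe, hsm] at hy
    have := Subgroup.mem_centralizer_iff.mp hx2 _ hy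
    simp only [MulEquiv.coe_toMonoidHom, MulAut.conj_apply]
    calc y * (g * x * g⁻¹) = g * ((g⁻¹ * y * g) * x) * g⁻¹ := by group
      _ = g * (x * (g⁻¹ * y * g)) * g⁻¹ := by rw [this]
      _ = g * x * g⁻¹ * y := by group

/-- The subgroup `W` of the statement. -/
abbrev bigW (p : ℕ) (G : Type*) [Group G] : Subgroup G :=
  ⨆ S : Sylow p G, omegaOne p (zOf (S : Subgroup G))

theorem bigW_normal {p : ℕ} [Fact p.Prime] : (bigW p G).Normal := by
  have key : ∀ g : G, (bigW p G).map (MulAut.conj g).toMonoidHom ≤ bigW p G := by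
    intro g
    rw [Subgroup.map_iSup]
    refine iSup_le fun S => ?_
    exact le_trans (map_conj_omegaOne_le g _ _ (map_conj_zOf_le g S)) (le_iSup (fun S : Sylow p G => omegaOne p (zOf (S : Subgroup G))) (g • S))
  refine ⟨fun n hn g => ?_⟩
  exact key g ⟨n, hn, rfl⟩

theorem zOf_sylow_le [Finite G] {p : ℕ} [Fact p.Prime]
    (hc : Subgroup.centralizer (pCore p G : Set G) ≤ pCore p G) (S : Sylow p G) :
    zOf (S : Subgroup G) ≤ zOf (pCore p G) := by
  intro x hx
  have hcent : x ∈ Subgroup.centralizer (pCore p G : Set G) :=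
    Subgroup.centralizer_le (pCore_le_sylow' S) hx.2
  exact ⟨hc hcent, hcent⟩

theorem isElementaryAbelian_omegaOne_zOf {p : ℕ} (H : Subgroup G) :
    IsElementaryAbelian p (omegaOne p (zOf H)) := by
  unfold omegaOne
  apply isElementaryAbelian_closure
  · rintro a ⟨ha, _⟩ b ⟨hb, _⟩
    exact (Subgroup.mem_centralizer_iff.mp hb.2 a ha.1)
  · rintro a ⟨_, hap⟩
    exact hap

theorem bigW_le [Finite G] {p : ℕ} [Fact p.Prime]
    (hc : Subgroup.centralizer (pCore p G : Set G) ≤ pCore p G) :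
    bigW p G ≤ omegaOne p (zOf (pCore p G)) :=
  iSup_le fun S => omegaOne_mono (zOf_sylow_le hc S)

theorem bigW_gen {p : ℕ} [Fact p.Prime] :
    bigW p G = ⨆ S : Sylow p G, bigW p G ⊓ Subgroup.centralizer ((S : Subgroup G) : Set G) := by
  apply le_antisymm
  · refine iSup_le fun S => ?_
    refine le_trans ?_ (le_iSup (fun S : Sylow p G => bigW p G ⊓ Subgroup.centralizer ((S : Subgroup G) : Set G)) S)
    refine le_inf (le_iSup (fun S : Sylow p G => omegaOne p (zOf (S : Subgroup G))) S) ?_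
    exact le_trans (omegaOne_le _) inf_le_right
  · exact iSup_le fun S => inf_le_left

/-- When O_p(G) contains its centralizer, the normal closure of Ω₁(Z(S)) is elementary abelian and G has no nontrivial normal p-subgroup modulo its centralizer. -/
theorem result {G : Type*} [Group G] [Finite G] {p : ℕ} [Fact p.Prime] (hc : Subgroup.centralizer (Cfsg.pCore p G : Set G) ≤ Cfsg.pCore p G) : (⨆ S : Sylow p G, Cfsg.omegaOne p (((S : Subgroup G)) ⊓ Subgroup.centralizer ((S : Subgroup G) : Set G))).Normal ∧ Cfsg.IsElementaryAbelian p (⨆ S : Sylow p G, Cfsg.omegaOne p (((S : Subgroup G)) ⊓ Subgroup.centralizer ((S : Subgroup G) : Set G))) ∧ ∀ D : Subgroup G, D.Normal → Subgroup.centralizer ((⨆ S : Sylow p G, Cfsg.omegaOne p (((S : Subgroup G)) ⊓ Subgroup.centralizer ((S : Subgroup G) : Set G)) : Subgroup G) : Set G) ≤ D → (∃ k : ℕ, (Subgroup.centralizer ((⨆ S : Sylow p G, Cfsg.omegaOne p (((S : Subgroup G)) ⊓ Subgroup.centralizer ((S : Subgroup G) : Set G)) : Subgroup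 G) : Set G)).relIndex D = p ^ k) → D = Subgroup.centralizer ((⨆ S : Sylow p G, Cfsg.omegaOne p (((S : Subgroup G)) ⊓ Subgroup.centralizer ((S : Subgroup G) : Set G)) : Subgroup G) : Set G) := by
  have hnormal : (bigW p G).Normal := bigW_normal
  refine ⟨hnormal, ?_, ?_⟩
  · exact isElementaryAbelian_mono (bigW_le hc) (isElementaryAbelian_omegaOne_zOf _)
  · intro D hD hCD hk
    have hbot := pCore_quotient_centralizer_eq_bot (p := p) (bigW p G) bigW_gen
    exact eq_of_pCore_quotient_eq_bot _ hbot D hD hCD hk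

end Cfsg.Agent.S0601
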