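import Cfsg.Statements.S0608
import Cfsg.Agent.Lib.Helper97.Thompson2
import Cfsg.Agent.Lib.Helper47.SylowLemmas

set_option autoImplicit false
open Cfsg

namespace Cfsg.Agent.S0608

open Cfsg.Agent.Lib.Helper97

universe u

variable {G : Type u} [Group G]

/-- `Ω₁(Z(S))`. -/
abbrev omZ (p : ℕ) (S : Subgroup G) : Subgroup G :=
  omegaOne p (S ⊓ Subgroup.centralizer (S : Set G))

theorem mem_sylow_smul_iff {p : ℕ} (g x : G) (S : Sylow p G) :
    x ∈ ((g • S : Sylow p G) : Subgroup G) ↔ g⁻¹ * x * g ∈ (S : Subgroup G) := by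
  rw [Sylow.coe_subgroup_smul, Subgroup.mem_pointwise_smul_iff_inv_smul_mem, MulAut.smul_def,
    ← map_inv, MulAut.conj_apply, inv_inv]

/-- generators of `Ω₁(Z(g • S))` are conjugates of generators of `Ω₁(Z(S))`. -/
theorem conj_mem_gen {p : ℕ} (g x : G) (S : Sylow p G)
    (hx : x ∈ ((g • S : Sylow p G) : Subgroup G) ⊓
      Subgroup.centralizer (((g • S : Sylow p G) : Subgroup G) : Set G)) (hxp : x ^ p = 1) :
    g⁻¹ * x * g ∈ ((S : Subgroup G) ⊓ Subgroup.centralizer ((S : Subgroup G) : Set G)) ∧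
      (g⁻¹ * x * g) ^ p = 1 := by
  refine ⟨⟨(mem_sylow_smul_iff g x S).mp hx.1, ?_⟩, ?_⟩
  · show g⁻¹ * x * g ∈ Subgroup.centralizer ((S : Subgroup G) : Set G)
    rw [Subgroup.mem_centralizer_iff]
    intro s hs
    have hs' : g * s * g⁻¹ ∈ ((g • S : Sylow p G) : Subgroup G) := by
      rw [mem_sylow_smul_iff]
      have : g⁻¹ * (g * s * g⁻¹) * g = s := by group
      rw [this]; exact hs
    have h := Subgroup.mem_centralizer_iff.mp hx.2 _ hs'
    calc s * (g⁻¹ * x * g) = g⁻¹ * ((g * s * g⁻¹) * x) * g := by group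
      _ = g⁻¹ * (x * (g * s * g⁻¹)) * g := by rw [h]
      _ = g⁻¹ * x * g * s := by group
  · have : (g⁻¹ * x * g) ^ p = g⁻¹ * x ^ p * g := by
      have h := map_pow (MulAut.conj g⁻¹) x p
      simp only [MulAut.conj_apply, inv_inv] at h
      exact h.symm
    rw [this, hxp]; group

theorem omZ_smul_le {p : ℕ} (g : G) (S : Sylow p G) :
    omZ p ((g • S : Sylow p G) : Subgroup G) ≤
      (omZ p (S : Subgroup G)).map (MulAut.conj g).toMonoidHom := by
  unfold omZ omegaOne
  rw [Subgroup.closure_le]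
  intro x hx
  obtain ⟨h1, h2⟩ := conj_mem_gen g x S hx.1 hx.2
  refine ⟨g⁻¹ * x * g, Subgroup.subset_closure ⟨h1, h2⟩, ?_⟩
  simp only [MulEquiv.coe_toMonoidHom, MulAut.conj_apply]
  group

/-- `W = ⟨Ω₁(Z(S)) | S ∈ Syl_p(G)⟩`. -/
abbrev bigW (p : ℕ) (G : Type u) [Group G] : Subgroup G :=
  ⨆ S : Sylow p G, omZ p (S : Subgroup G)

theorem bigW_normal (p : ℕ) : (bigW p G).Normal := by
  refine ⟨fun n hn g => ?_⟩
  have h1 : (bigW p G).map (MulAut.conj g).toMonoidHom ≤ bigW p G := by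
    rw [Subgroup.map_iSup]
    refine iSup_le fun S => ?_
    have h := omZ_smul_le g⁻¹ (g • S)
    rw [inv_smul_smul] at h
    have h2 := Subgroup.map_mono (f := (MulAut.conj g).toMonoidHom) h
    rw [Subgroup.map_map] at h2
    have h3 : (MulAut.conj g).toMonoidHom.comp (MulAut.conj g⁻¹).toMonoidHom
        = MonoidHom.id G := by
      ext x; simp; group
    rw [h3, Subgroup.map_id] at h2
    exact h2.trans (le_iSup (fun S : Sylow p G => omZ p (S : Subgroup G)) (g • S))
  have : g * n * g⁻¹ = (MulAut.conj g).toMonoidHom n := by simp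
  rw [this]
  exact h1 (Subgroup.mem_map_of_mem _ hn)

/-- the normalizer of `U` normalizes `J(U)`. -/
theorem normalizer_le_normalizer_thompson [Finite G] {p : ℕ} (U : Subgroup G) {A₀ : Subgroup G}
    (hA₀ : A₀ ∈ maxElementaryAbelianSubgroups p G) (hA₀U : A₀ ≤ U) :
    Subgroup.normalizer (U : Set G) ≤ Subgroup.normalizer (thompsonSubgroupOf p U : Set G) := by
  intro n hn
  rw [thompsonSubgroupOf_eq_sSup U hA₀ hA₀U]
  have key : ∀ m ∈ Subgroup.normalizer (U : Set G),
      (sSup {A | A ∈ maxElementaryAbelianSubgroups p G ∧ A ≤ U}).map (MulAut.conj m).toMonoidHom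
        ≤ sSup {A | A ∈ maxElementaryAbelianSubgroups p G ∧ A ≤ U} := by
    intro m hm
    rw [(Subgroup.gc_map_comap (MulAut.conj m).toMonoidHom).l_sSup]
    refine iSup₂_le fun A hA => ?_
    refine le_sSup ⟨map_mem_maxElementaryAbelian (MulAut.conj m) hA.1, ?_⟩
    have hU : U.map (MulAut.conj m).toMonoidHom = U :=
      Subgroup.mem_normalizer_iff_map_conj_eq.mp hm
    calc A.map (MulAut.conj m).toMonoidHom ≤ U.map (MulAut.conj m).toMonoidHom :=
          Subgroup.map_mono hA.2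
      _ = U := hU
  apply Subgroup.mem_normalizer_fintype
  intro x hx
  have := key n hn (Subgroup.mem_map_of_mem _ hx)
  simpa using this

/-- With trivial p'-core, Thompson factorizability is equivalent to J(G) centralizing the subgroup generated by all Ω₁(Z(S)), S Sylow. -/
theorem result {G : Type*} [Group G] [Finite G] {p : ℕ} [Fact p.Prime] (hO : Cfsg.pPrimeCore p G = ⊥) : Cfsg.IsThompsonFactorizable p G ↔ Cfsg.thompsonSubgroup p G ≤ Subgroup.centralizer ((⨆ S : Sylow p G, Cfsg.omegaOne p (((S : Subgroup G)) ⊓ Subgroup.centralizer ((S : Subgroup G) : Set G)) : Subgroup G) : Set G) := by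
  constructor
  · intro hfact
    rw [thompsonSubgroup_eq_iSup_sylow]
    refine iSup_le fun S => ?_
    rw [Subgroup.le_centralizer_iff]
    refine iSup_le fun S' => ?_
    obtain ⟨g, rfl⟩ := MulAction.exists_smul_eq G S S'
    unfold omegaOne
    rw [Subgroup.closure_le]
    intro x hx
    obtain ⟨h1, h2⟩ := conj_mem_gen g x S hx.1 hx.2
    -- factorize g⁻¹
    obtain ⟨x₀, hx₀, c, hc, n, hn, hg⟩ := hfact S g⁻¹
    rw [hO, Subgroup.mem_bot] at hx₀
    subst hx₀
    have hg' : g = n⁻¹ * c⁻¹ := by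
      have : g = (g⁻¹)⁻¹ := by group
      rw [this, hg]; group
    -- x = n⁻¹ x' n where x' = g⁻¹ x g
    have hcx : c * (g⁻¹ * x * g) = (g⁻¹ * x * g) * c := by
      have := Subgroup.mem_centralizer_iff.mp hc (g⁻¹ * x * g)
        (Subgroup.subset_closure ⟨h1, h2⟩)
      exact this.symm
    have hxeq : x = n⁻¹ * (g⁻¹ * x * g) * n := by
      have e1 : x = g * (g⁻¹ * x * g) * g⁻¹ := by group
      have e2 : c⁻¹ * (g⁻¹ * x * g) * c = g⁻¹ * x * g := by
        calc c⁻¹ * (g⁻¹ * x * g) * c = c⁻¹ * ((g⁻¹ * x * g) * c) := by group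
          _ = c⁻¹ * (c * (g⁻¹ * x * g)) := by rw [hcx]
          _ = g⁻¹ * x * g := by group
      have e3 : g * (g⁻¹ * x * g) * g⁻¹ = n⁻¹ * (c⁻¹ * (g⁻¹ * x * g) * c) * n := by
        nth_rewrite 1 [hg']
        nth_rewrite 3 [hg']
        group
      rw [e2] at e3
      rw [← e3]; exact e1
    rw [SetLike.mem_coe, Subgroup.mem_centralizer_iff]
    intro j hj
    -- n j n⁻¹ ∈ J(S)
    have hnj : n * j * n⁻¹ ∈ thompsonSubgroupOf p (S : Subgroup G) :=
      (Subgroup.mem_normalizer_iff.mp hn j).mp hj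
    have hnjS : n * j * n⁻¹ ∈ (S : Subgroup G) := by
      unfold thompsonSubgroupOf at hnj
      exact Subgroup.map_subtype_le _ hnj
    have hcomm := Subgroup.mem_centralizer_iff.mp h1.2 _ hnjS
    rw [hxeq]
    calc j * (n⁻¹ * (g⁻¹ * x * g) * n) = n⁻¹ * ((n * j * n⁻¹) * (g⁻¹ * x * g)) * n := by group
      _ = n⁻¹ * ((g⁻¹ * x * g) * (n * j * n⁻¹)) * n := by rw [hcomm]
      _ = n⁻¹ * (g⁻¹ * x * g) * n * j := by group
  · intro hJ S g
    have hWn : (bigW p G).Normal := bigW_normal p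
    set C := Subgroup.centralizer ((bigW p G : Subgroup G) : Set G) with hC
    have hCn : C.Normal := Subgroup.normal_centralizer
    obtain ⟨A₀, hA₀, hA₀S⟩ := exists_max_le_sylow S
    have hJS : thompsonSubgroupOf p (S : Subgroup G) ≤ C := by
      refine le_trans ?_ hJ
      rw [thompsonSubgroup_eq_iSup_sylow]
      exact le_iSup (fun S : Sylow p G => thompsonSubgroupOf p (S : Subgroup G)) S
    have hAJ : ∀ A, A ∈ maxElementaryAbelianSubgroups p G → A ≤ (S : Subgroup G) →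
        A ≤ thompsonSubgroupOf p (S : Subgroup G) := by
      intro A hA hAS
      rw [thompsonSubgroupOf_eq_sSup (S : Subgroup G) hA₀ hA₀S]
      exact le_sSup ⟨hA, hAS⟩
    have hA₀C : A₀ ≤ (S : Subgroup G) ⊓ C := le_inf hA₀S ((hAJ A₀ hA₀ hA₀S).trans hJS)
    have hJeq : thompsonSubgroupOf p ((S : Subgroup G) ⊓ C) = thompsonSubgroupOf p (S : Subgroup G) := by
      rw [thompsonSubgroupOf_eq_sSup _ hA₀ hA₀C, thompsonSubgroupOf_eq_sSup _ hA₀ hA₀S]
      congr 1
      ext A
      constructor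
      · rintro ⟨h1, h2⟩; exact ⟨h1, h2.trans inf_le_left⟩
      · rintro ⟨h1, h2⟩; exact ⟨h1, le_inf h2 ((hAJ A h1 h2).trans hJS)⟩
    obtain ⟨P, hP⟩ := Cfsg.Agent.Lib.Helper47.exists_sylow_eq_subgroupOf_of_normal S C
    have hfr := Sylow.normalizer_sup_eq_top P
    have hPmap : (P : Subgroup C).map C.subtype = (S : Subgroup G) ⊓ C := by
      rw [hP, Subgroup.subgroupOf_map_subtype]
    rw [hPmap, sup_comm] at hfr
    have hg : g ∈ ((C ⊔ Subgroup.normalizer (((S : Subgroup G) ⊓ C : Subgroup G) : Set G) :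
        Subgroup G) : Set G) := by
      rw [hfr]; trivial
    rw [Subgroup.normal_mul] at hg
    obtain ⟨c, hc, n, hn, hcn⟩ := hg
    refine ⟨1, Subgroup.one_mem _, c, ?_, n, ?_, ?_⟩
    · have hle : omZ p (S : Subgroup G) ≤ bigW p G :=
        le_iSup (fun S : Sylow p G => omZ p (S : Subgroup G)) S
      exact Subgroup.centralizer_le hle hc
    · have := normalizer_le_normalizer_thompson ((S : Subgroup G) ⊓ C) hA₀ hA₀C hn
      rw [hJeq] at this
      exact this
    · rw [one_mul]; exact hcn.symm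

end Cfsg.Agent.S0608
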