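import Cfsg.Statements.S2941
import Cfsg.Agent.Lib.Helper49.CommNorm

set_option autoImplicit false
open Cfsg

namespace Cfsg.Agent.S2941

open Cfsg.Agent.Lib.Helper49
open scoped commutatorElement


/-- Let G be a finite group of characteristic 2 type in which every 2-local subgroup is solvable and the centralizer of Ω₁(Z(S)) lies in N_G(S) for every Sylow 2-subgroup S, and let T be a nontrivial 2-subgroup and K a J(T)-component (J the Thompson subgroup generated by the elementary abelian 2-subgroups of largest order). If a subgroup Q is normalized by ⟨K, J(T)⟩ and normalizes J(T), then Q normalizes K. -/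
theorem result {G : Type*} [Group G] [Finite G] (hL : Cfsg.IsCharacteristicTwoType G) (hN : ∀ N : Subgroup G, Cfsg.IsTwoLocal N → Group.IsSolvable ↥N)
    (hZ : ∀ S : Sylow 2 G, Subgroup.centralizer (Cfsg.omegaCenterOf (S : Subgroup G) : Set G) ≤ Subgroup.normalizer ((S : Subgroup G) : Set G)) (T : Subgroup G) (hT : IsPGroup 2 ↥T) (hT1 : T ≠ ⊥) (K : Subgroup G) (hK : Cfsg.IsJComponent T K)
    (Q : Subgroup G) (hQ1 : K ⊔ Cfsg.thompsonSubgroupOf 2 T ≤ Subgroup.normalizer (Q : Set G)) (hQ2 : Q ≤ Subgroup.normalizer (Cfsg.thompsonSubgroupOf 2 T : Set G)) :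
    Q ≤ Subgroup.normalizer (K : Set G) := by
  obtain ⟨hodd, hKJ, -, -, -, -⟩ := hK
  set J := Cfsg.thompsonSubgroupOf 2 T with hJdef
  have hJT : J ≤ T := by
    rw [hJdef, Cfsg.thompsonSubgroupOf]
    exact Subgroup.map_subtype_le _
  have hJ2 : IsPGroup 2 J := hT.to_le hJT
  have hJK : J ≤ Subgroup.normalizer (K : Set G) := by
    have := sup_le_normalizer_commutator K J
    rw [hKJ] at this
    exact le_sup_right.trans this
  apply le_normalizer_of_forall_conj_mem
  intro q hq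
  -- stage 1: conjugation by q maps K into K ⊔ J
  have stage1 : K ≤ (K ⊔ J).comap (MulAut.conj q).toMonoidHom := by
    rw [← hKJ, Subgroup.commutator_le]
    intro k hk j hj
    rw [Subgroup.mem_comap, hKJ]
    have hj₁ : q * j * q⁻¹ ∈ J := (Subgroup.mem_normalizer_iff.mp (hQ2 hq) j).mp hj
    have hkN : k ∈ Subgroup.normalizer (Q : Set G) := hQ1 (Subgroup.mem_sup_left hk)
    have hq₁ : k⁻¹ * q * k * q⁻¹ ∈ Q := by
      have : k⁻¹ * q * k⁻¹⁻¹ ∈ Q :=
        (Subgroup.mem_normalizer_iff.mp (Subgroup.inv_mem _ hkN) q).mp hq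
      rw [inv_inv] at this
      exact Q.mul_mem this (Q.inv_mem hq)
    have hj₂ : (k⁻¹ * q * k * q⁻¹) * (q * j * q⁻¹) * (k⁻¹ * q * k * q⁻¹)⁻¹ ∈ J :=
      (Subgroup.mem_normalizer_iff.mp (hQ2 hq₁) _).mp hj₁
    have e : (MulAut.conj q).toMonoidHom ⁅k, j⁆
        = k * ((k⁻¹ * q * k * q⁻¹) * (q * j * q⁻¹) * (k⁻¹ * q * k * q⁻¹)⁻¹) * k⁻¹ * (q * j * q⁻¹)⁻¹ := by
      simp only [MulEquiv.toMonoidHom_eq_coe, MonoidHom.coe_coe, MulAut.conj_apply,
        commutatorElement_def]
      group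
    rw [e]
    have hkS : k ∈ K ⊔ J := Subgroup.mem_sup_left hk
    exact Subgroup.mul_mem _ (Subgroup.mul_mem _ (Subgroup.mul_mem _ hkS (Subgroup.mem_sup_right hj₂))
      (Subgroup.inv_mem _ hkS)) (Subgroup.inv_mem _ (Subgroup.mem_sup_right hj₁))
  -- stage 2
  have stage2 : K ≤ K.comap (MulAut.conj q).toMonoidHom := by
    nth_rewrite 1 [← hodd]
    rw [Subgroup.closure_le]
    rintro g ⟨hgK, hgodd⟩
    show (MulAut.conj q).toMonoidHom g ∈ K
    have h1 : (MulAut.conj q).toMonoidHom g ∈ K ⊔ J := stage1 hgK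
    apply mem_of_mem_sup_of_coprime_orderOf hJ2 hJK h1
    have : orderOf ((MulAut.conj q).toMonoidHom g) = orderOf g := by
      simp only [MulEquiv.toMonoidHom_eq_coe, MonoidHom.coe_coe]
      exact MulEquiv.orderOf_eq _ g
    rw [this]
    exact Nat.Coprime.symm (Nat.coprime_two_left.mpr hgodd)
  intro x hx
  have := stage2 hx
  simpa [MulAut.conj_apply] using this

end Cfsg.Agent.S2941
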