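import Cfsg.Statements.S0263
import Mathlib
-- import your own Cfsg.Agent.* helpers here

set_option autoImplicit false
open Cfsg

namespace Cfsg.Agent.S0263

open Matrix
open scoped MatrixGroups

theorem prod_split (q n : ℕ) :
    ∏ i : Fin n, (q ^ n - q ^ (i : ℕ)) = q ^ (n * (n - 1) / 2) * ∏ i : Fin n, (q ^ (n - (i : ℕ)) - 1) := by
  have h1 : ∀ i : Fin n, q ^ n - q ^ (i : ℕ) = q ^ (i : ℕ) * (q ^ (n - (i : ℕ)) - 1) := by
    intro i
    have hi : (i : ℕ) ≤ n := i.isLt.le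
    rw [Nat.mul_sub, mul_one, ← pow_add, Nat.add_sub_cancel' hi]
  rw [Finset.prod_congr rfl (fun i _ => h1 i), Finset.prod_mul_distrib]
  congr 1
  rw [Finset.prod_pow_eq_pow_sum]
  congr 1
  rw [Fin.sum_univ_eq_sum_range (fun i => i) n, Finset.sum_range_id]

theorem not_dvd_prod (p q n : ℕ) (hp : p.Prime) (hq : 0 < q) (hpq : p ∣ q) :
    ¬ p ∣ ∏ i : Fin n, (q ^ (n - (i : ℕ)) - 1) := by
  rw [Prime.dvd_finsetProd_iff hp.prime]
  rintro ⟨i, _, hi⟩
  have hpos : 0 < n - (i : ℕ) := Nat.sub_pos_of_lt i.isLt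
  have h2 : p ∣ q ^ (n - (i : ℕ)) := dvd_pow hpq hpos.ne'
  have hq1 : 1 ≤ q ^ (n - (i : ℕ)) := Nat.one_le_pow _ _ hq
  have h3 : p ∣ 1 := (Nat.dvd_sub_iff_right hq1 h2).mp hi
  exact hp.one_lt.ne' (Nat.dvd_one.mp h3)

/-- A Sylow p-subgroup of GL_n(q), p the characteristic, has order q^(n(n-1)/2). -/
theorem result {F : Type*} [Field F] [Fintype F] {q : ℕ} (hF : Fintype.card F = q) (p : ℕ) [Fact p.Prime] [CharP F p] (n : ℕ) (P : Sylow p (Matrix.GeneralLinearGroup (Fin n) F)) : Nat.card P = q ^ (n * (n - 1) / 2) := by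
  have hp : p.Prime := Fact.out
  obtain ⟨k, -, hk⟩ := FiniteField.card F p
  rw [hF] at hk
  have hpq : p ∣ q := by rw [hk]; exact dvd_pow_self p k.pos.ne'
  rw [Sylow.card_eq_multiplicity, Matrix.card_GL_field, hF, prod_split]
  have hq0 : q ≠ 0 := by rw [hk]; exact pow_ne_zero _ hp.ne_zero
  have hnd := not_dvd_prod p q n hp (Nat.pos_of_ne_zero hq0) hpq
  have hne : ∏ i : Fin n, (q ^ (n - (i : ℕ)) - 1) ≠ 0 := by
    intro h; rw [h] at hnd; exact hnd (dvd_zero p)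
  rw [Nat.factorization_mul (pow_ne_zero _ hq0) hne]
  simp only [Finsupp.add_apply]
  rw [Nat.factorization_eq_zero_of_not_dvd hnd, add_zero, Nat.factorization_pow]
  simp only [Finsupp.smul_apply, smul_eq_mul]
  rw [hk, Nat.factorization_pow]
  simp only [Finsupp.smul_apply, smul_eq_mul, hp.factorization_self, mul_one]
  rw [← pow_mul, mul_comm]

end Cfsg.Agent.S0263
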