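import Cfsg.Statements.S3196
import Mathlib
import Cfsg.Agent.Lib.Helper96.BaerSuzuki

set_option autoImplicit false
open Cfsg

namespace Cfsg.Agent.S3196

section basics

variable {G : Type*} [Group G]

/-- `X` and `Y` commute elementwise -/
def Comm (X Y : Subgroup G) : Prop := ∀ x ∈ X, ∀ y ∈ Y, x * y = y * x

theorem Comm.symm {X Y : Subgroup G} (h : Comm X Y) : Comm Y X :=
  fun y hy x hx => (h x hx y hy).symm

/-- elements of a join of two elementwise commuting subgroups -/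
theorem exists_mul_of_mem_sup {X Z : Subgroup G} (hc : Comm X Z) {h : G} (hh : h ∈ X ⊔ Z) :
    ∃ x ∈ X, ∃ z ∈ Z, h = x * z := by
  rw [← Subgroup.closure_eq X, ← Subgroup.closure_eq Z, ← Subgroup.closure_union] at hh
  induction hh using Subgroup.closure_induction with
  | mem y hy =>
    rcases hy with hy | hy
    · exact ⟨y, hy, 1, one_mem _, (mul_one y).symm⟩
    · exact ⟨1, one_mem _, y, hy, (one_mul y).symm⟩
  | one => exact ⟨1, one_mem _, 1, one_mem _, (mul_one 1).symm⟩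
  | mul a b _ _ iha ihb =>
    obtain ⟨x₁, hx₁, z₁, hz₁, rfl⟩ := iha
    obtain ⟨x₂, hx₂, z₂, hz₂, rfl⟩ := ihb
    refine ⟨x₁ * x₂, mul_mem hx₁ hx₂, z₁ * z₂, mul_mem hz₁ hz₂, ?_⟩
    have := hc x₂ hx₂ z₁ hz₁
    calc x₁ * z₁ * (x₂ * z₂) = x₁ * (z₁ * x₂) * z₂ := by group
      _ = x₁ * (x₂ * z₁) * z₂ := by rw [this]
      _ = x₁ * x₂ * (z₁ * z₂) := by group
  | inv a _ iha =>
    obtain ⟨x, hx, z, hz, rfl⟩ := iha
    refine ⟨x⁻¹, inv_mem hx, z⁻¹, inv_mem hz, ?_⟩
    have := hc x hx z hz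
    rw [mul_inv_rev]
    have h2 : z⁻¹ * x⁻¹ = (x * z)⁻¹ := by rw [mul_inv_rev]
    rw [h2, this, mul_inv_rev]

variable {p : ℕ} [Fact p.Prime]

theorem exists_zpow_of_card_prime {X : Subgroup G} (hX : Nat.card X = p) {x : G} (hx : x ∈ X)
    (hx1 : x ≠ 1) {y : G} (hy : y ∈ X) : ∃ k : ℤ, x ^ k = y := by
  have h1 : Subgroup.zpowers (⟨x, hx⟩ : X) = ⊤ :=
    zpowers_eq_top_of_prime_card hX (fun h => hx1 (congrArg Subtype.val h))
  have h2 : (⟨y, hy⟩ : X) ∈ Subgroup.zpowers (⟨x, hx⟩ : X) := by rw [h1]; exact Subgroup.mem_top _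
  obtain ⟨k, hk⟩ := Subgroup.mem_zpowers_iff.mp h2
  exact ⟨k, by simpa using congrArg Subtype.val hk⟩

theorem pow_eq_one_of_card_prime {X : Subgroup G} (hX : Nat.card X = p) {x : G} (hx : x ∈ X) :
    x ^ p = 1 := by
  have := pow_card_eq_one' (G := X) (x := ⟨x, hx⟩)
  rw [hX] at this
  simpa using congrArg Subtype.val this

/-- if generators commute, the subgroups commute -/
theorem comm_of_gen {X W : Subgroup G} (hX : Nat.card X = p) (hW : Nat.card W = p) {x w : G}
    (hx : x ∈ X) (hx1 : x ≠ 1) (hw : w ∈ W) (hw1 : w ≠ 1) (h : x * w = w * x) : Comm X W := by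
  intro a ha b hb
  obtain ⟨k, rfl⟩ := exists_zpow_of_card_prime hX hx hx1 ha
  obtain ⟨l, rfl⟩ := exists_zpow_of_card_prime hW hw hw1 hb
  exact ((show Commute x w from h).zpow_zpow k l).eq

/-- a group of prime order is commutative -/
theorem comm_self {X : Subgroup G} (hX : Nat.card X = p) : Comm X X := by
  intro a ha b hb
  by_cases ha1 : a = 1
  · subst ha1; simp
  · obtain ⟨l, rfl⟩ := exists_zpow_of_card_prime hX ha ha1 hb
    exact ((Commute.refl a).zpow_right l).eq

theorem zpowers_eq_of_card_prime {X : Subgroup G} (hX : Nat.card X = p) {x : G} (hx : x ∈ X)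
    (hx1 : x ≠ 1) : Subgroup.zpowers x = X := by
  apply le_antisymm (Subgroup.zpowers_le.mpr hx)
  intro y hy
  obtain ⟨k, rfl⟩ := exists_zpow_of_card_prime hX hx hx1 hy
  exact Subgroup.zpow_mem_zpowers x k

theorem card_zpowers_of_pow_eq_one {h : G} (hp1 : h ^ p = 1) (h1 : h ≠ 1) :
    Nat.card (Subgroup.zpowers h) = p := by
  rw [Nat.card_zpowers]; exact orderOf_eq_prime hp1 h1

theorem isPGroup_zpowers_of_pow_eq_one {c : G} (hc : c ^ p = 1) :
    IsPGroup p (Subgroup.zpowers c) := by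
  rintro ⟨y, hy⟩
  obtain ⟨k, rfl⟩ := Subgroup.mem_zpowers_iff.mp hy
  refine ⟨1, Subtype.ext ?_⟩
  show (c ^ k) ^ p ^ 1 = 1
  rw [pow_one, ← zpow_natCast, ← zpow_mul, mul_comm, zpow_mul, zpow_natCast, hc, one_zpow]

theorem isPGroup_of_card_prime {X : Subgroup G} (hX : Nat.card X = p) : IsPGroup p X :=
  IsPGroup.of_card (n := 1) (by rw [hX, pow_one])

theorem isPGroup_sup_of_comm {X W : Subgroup G} (hX : IsPGroup p X) (hW : IsPGroup p W)
    (h : Comm X W) : IsPGroup p (X ⊔ W : Subgroup G) := by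
  apply IsPGroup.to_sup_of_normal_right' hX hW
  refine le_trans ?_ (Subgroup.centralizer_le_normalizer _)
  intro x hx
  rw [Subgroup.mem_centralizer_iff]
  intro w hw
  exact (h x hx w hw).symm

theorem mem_normalizer_closure {s : Set G} {g : G}
    (h1 : ∀ y ∈ s, g * y * g⁻¹ ∈ Subgroup.closure s)
    (h2 : ∀ y ∈ s, g⁻¹ * y * g ∈ Subgroup.closure s) :
    g ∈ Subgroup.normalizer (Subgroup.closure s : Set G) := by
  rw [Subgroup.mem_normalizer_iff_map_conj_eq, MonoidHom.map_closure]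
  apply le_antisymm
  · rw [Subgroup.closure_le]
    rintro _ ⟨y, hy, rfl⟩
    exact h1 y hy
  · rw [Subgroup.closure_le, ← MonoidHom.map_closure]
    intro y hy
    exact ⟨_, h2 y hy, by simp [mul_assoc]⟩

/-- two elements of order dividing `p` whose commutator is central generate a `p`-group -/
theorem isPGroup_closure_pair (a b : G) (ha : a ^ p = 1) (hb : b ^ p = 1)
    (hca : (a⁻¹ * b⁻¹ * a * b) * a = a * (a⁻¹ * b⁻¹ * a * b))
    (hcb : (a⁻¹ * b⁻¹ * a * b) * b = b * (a⁻¹ * b⁻¹ * a * b)) :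
    IsPGroup p (Subgroup.closure ({a, b} : Set G)) := by
  set c : G := a⁻¹ * b⁻¹ * a * b with hc
  have h1 : b⁻¹ * a * b = a * c := by rw [hc]; group
  have hcp : c ^ p = 1 := by
    have h2 : (b⁻¹ * a * b) ^ p = 1 := by
      have := conj_pow (a := b⁻¹) (b := a) (i := p)
      rw [inv_inv] at this
      rw [this, ha]; group
    rw [h1, (show Commute a c from hca.symm).mul_pow, ha, one_mul] at h2
    exact h2
  have hcb' : c * b⁻¹ = b⁻¹ * c := by
    have : Commute c b := hcb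
    exact this.inv_right.eq
  have hca' : c⁻¹ * a = a * c⁻¹ := by
    have : Commute c a := hca
    exact this.inv_left.eq
  have h3 : b * a * b⁻¹ = a * c⁻¹ := by
    have : b * (a * c) * b⁻¹ = a := by rw [← h1]; group
    have h4 : b * (a * c) * b⁻¹ = b * a * b⁻¹ * c := by
      rw [mul_assoc b (a * c), mul_assoc a c, hcb']; group
    rw [h4] at this
    exact eq_mul_inv_of_mul_eq this
  -- the abelian subgroup generated by a and c
  have hA1 : IsPGroup p (Subgroup.closure ({a, c} : Set G)) := by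
    have : Subgroup.closure ({a, c} : Set G) = Subgroup.zpowers a ⊔ Subgroup.zpowers c := by
      rw [Subgroup.zpowers_eq_closure, Subgroup.zpowers_eq_closure, ← Subgroup.closure_union]
      rfl
    rw [this]
    apply isPGroup_sup_of_comm (isPGroup_zpowers_of_pow_eq_one ha)
      (isPGroup_zpowers_of_pow_eq_one hcp)
    intro x hx y hy
    obtain ⟨k, rfl⟩ := Subgroup.mem_zpowers_iff.mp hx
    obtain ⟨l, rfl⟩ := Subgroup.mem_zpowers_iff.mp hy
    exact ((show Commute a c from hca.symm).zpow_zpow k l).eq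
  have hbn : Subgroup.zpowers b ≤
      Subgroup.normalizer (Subgroup.closure ({a, c} : Set G) : Set G) := by
    rw [Subgroup.zpowers_le]
    apply mem_normalizer_closure
    · intro y hy
      rcases hy with rfl | rfl
      · rw [h3]
        exact mul_mem (Subgroup.subset_closure (by simp))
          (inv_mem (Subgroup.subset_closure (by simp)))
      · have : b * c * b⁻¹ = c := by rw [← hcb]; group
        rw [this]; exact Subgroup.subset_closure (by simp)
    · intro y hy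
      rcases hy with rfl | rfl
      · rw [h1]
        exact mul_mem (Subgroup.subset_closure (by simp)) (Subgroup.subset_closure (by simp))
      · have : b⁻¹ * c * b = c := by rw [mul_assoc, hcb]; group
        rw [this]; exact Subgroup.subset_closure (by simp)
  have hA2 := IsPGroup.to_sup_of_normal_right' (isPGroup_zpowers_of_pow_eq_one hb) hA1 hbn
  apply hA2.to_le
  rw [Subgroup.closure_le]
  intro y hy
  rcases hy with rfl | rfl
  · exact (le_sup_right : _ ≤ Subgroup.zpowers b ⊔ Subgroup.closure ({y, c} : Set G))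
      (Subgroup.subset_closure (by simp))
  · exact (le_sup_left : Subgroup.zpowers y ≤ _) (Subgroup.mem_zpowers y)

end basics

section main

variable {G : Type*} [Group G] [Finite G]

/-- the hypotheses of the statement -/
structure Hyp (p : ℕ) (K : Set (Subgroup G)) : Prop where
  hK : ∀ X ∈ K, Nat.card ↥X = p
  hKc : ∀ X ∈ K, ∀ g : G, X.map (MulAut.conj g).toMonoidHom ∈ K
  hex : ∃ X ∈ K, ∃ Y ∈ K, X ≠ Y ∧ Comm X Y
  ha : ∀ X ∈ K, ∀ Y ∈ K, X ≠ Y → Comm X Y →
    ∀ Z : Subgroup G, Z ≤ X ⊔ Y → Nat.card ↥Z = p → Z ∈ K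
  hb : ∀ X ∈ K, ∀ Y ∈ K, X ≠ Y → Comm X Y →
    ∀ W ∈ K, (X ⊔ Y) ⊓ Subgroup.centralizer (W : Set G) ≠ ⊥

variable {p : ℕ} [Fact p.Prime] {K : Set (Subgroup G)}

omit [Finite G] [Fact p.Prime] in
theorem comm_zpowers_left {h : G} {W : Subgroup G} (hh : ∀ w ∈ W, h * w = w * h) :
    Comm (Subgroup.zpowers h) W := by
  intro a ha w hw
  obtain ⟨k, rfl⟩ := Subgroup.mem_zpowers_iff.mp ha
  exact ((show Commute h w from hh w hw).zpow_left k).eq

omit [Finite G] [Fact p.Prime] in
theorem commute_of_mem_sup {X Y : Subgroup G} {g : G} (hX : ∀ x ∈ X, g * x = x * g)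
    (hY : ∀ y ∈ Y, g * y = y * g) {h : G} (hh : h ∈ X ⊔ Y) : g * h = h * g := by
  have h1 : X ⊔ Y ≤ Subgroup.centralizer ({g} : Set G) := by
    apply sup_le
    · intro x hx
      rw [Subgroup.mem_centralizer_singleton_iff]; exact (hX x hx).symm
    · intro y hy
      rw [Subgroup.mem_centralizer_singleton_iff]; exact (hY y hy).symm
  have := h1 hh
  rw [Subgroup.mem_centralizer_singleton_iff] at this
  exact this.symm

omit [Finite G] in
theorem exists_gen {X : Subgroup G} (hX : Nat.card X = p) : ∃ x ∈ X, x ≠ 1 := by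
  have h1 : X ≠ ⊥ := by
    intro h
    rw [h, Subgroup.card_bot] at hX
    exact (Fact.out : p.Prime).one_lt.ne hX
  obtain ⟨x, hx⟩ := (Subgroup.ne_bot_iff_exists_ne_one (H := X)).mp h1
  exact ⟨x, x.2, fun h => hx (Subtype.ext h)⟩

omit [Finite G] in
/-- every member of `K` centralizes a point of every line -/
theorem pt_of_line (H : Hyp p K) {X Y : Subgroup G} (hX : X ∈ K) (hY : Y ∈ K) (hne : X ≠ Y)
    (hc : Comm X Y) {W : Subgroup G} (hW : W ∈ K) :
    ∃ h : G, h ≠ 1 ∧ h ∈ X ⊔ Y ∧ h ^ p = 1 ∧ (∀ w ∈ W, h * w = w * h) ∧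
      Subgroup.zpowers h ∈ K := by
  have h1 := H.hb X hX Y hY hne hc W hW
  obtain ⟨h, hh⟩ := (Subgroup.ne_bot_iff_exists_ne_one).mp h1
  have hmem : (h : G) ∈ (X ⊔ Y) ⊓ Subgroup.centralizer (W : Set G) := h.2
  have hh1 : (h : G) ≠ 1 := fun h' => hh (Subtype.ext h')
  obtain ⟨x, hx, y, hy, hxy⟩ := exists_mul_of_mem_sup hc hmem.1
  have hp1 : (h : G) ^ p = 1 := by
    rw [hxy, (show Commute x y from hc x hx y hy).mul_pow,
      pow_eq_one_of_card_prime (H.hK X hX) hx, pow_eq_one_of_card_prime (H.hK Y hY) hy, one_mul]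
  refine ⟨h, hh1, hmem.1, hp1, ?_, ?_⟩
  · intro w hw
    exact ((Subgroup.mem_centralizer_iff.mp hmem.2) w hw).symm
  · exact H.ha X hX Y hY hne hc _ (Subgroup.zpowers_le.mpr hmem.1)
      (card_zpowers_of_pow_eq_one hp1 hh1)

omit [Finite G] in
/-- every member of `K` lies on a line -/
theorem line_through (H : Hyp p K) {X : Subgroup G} (hX : X ∈ K) :
    ∃ Y ∈ K, X ≠ Y ∧ Comm X Y := by
  obtain ⟨X₀, hX₀, Y₀, hY₀, hne, hc⟩ := H.hex
  obtain ⟨h, h1, hmem, hp, hcomm, hK'⟩ := pt_of_line H hX₀ hY₀ hne hc hX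
  by_cases hZX : Subgroup.zpowers h = X
  · have hXle : X ≤ X₀ ⊔ Y₀ := by rw [← hZX]; exact Subgroup.zpowers_le.mpr hmem
    by_cases hXX₀ : X = X₀
    · exact ⟨Y₀, hY₀, by rw [hXX₀]; exact hne, by rw [hXX₀]; exact hc⟩
    · refine ⟨X₀, hX₀, hXX₀, ?_⟩
      intro x hx x₀ hx₀
      exact (commute_of_mem_sup (g := x₀) (fun a ha => comm_self (H.hK X₀ hX₀) x₀ hx₀ a ha)
        (fun b hb => hc x₀ hx₀ b hb) (hXle hx)).symm
  · exact ⟨Subgroup.zpowers h, hK', Ne.symm hZX, (comm_zpowers_left hcomm).symm⟩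

omit [Finite G] in
/-- the quadrangle argument: if no member of `K` commutes with all members of `K`, any two
non-commuting members generate a `p`-group. -/
theorem isPGroup_sup_of_not_comm (H : Hyp p K) (hR : ∀ V ∈ K, ∃ U ∈ K, ¬ Comm V U)
    {X W : Subgroup G} (hX : X ∈ K) (hW : W ∈ K) (hXW : ¬ Comm X W) :
    IsPGroup p (X ⊔ W : Subgroup G) := by
  have hXc := H.hK X hX
  have hWc := H.hK W hW
  -- a line through X and the point Z on it centralized by W
  obtain ⟨Y, hY, hXY, hcXY⟩ := line_through H hX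
  obtain ⟨z, hz1, hzXY, hzp, hzW, hZK⟩ := pt_of_line H hX hY hXY hcXY hW
  have hZc : Nat.card (Subgroup.zpowers z) = p := card_zpowers_of_pow_eq_one hzp hz1
  have hzX : ∀ x ∈ X, z * x = x * z := fun x hx =>
    (commute_of_mem_sup (g := x) (fun a ha => comm_self hXc x hx a ha)
      (fun b hb => hcXY x hx b hb) hzXY).symm
  have hZX : Comm (Subgroup.zpowers z) X := comm_zpowers_left hzX
  have hZW : Comm (Subgroup.zpowers z) W := comm_zpowers_left hzW
  have hZZ : Comm (Subgroup.zpowers z) (Subgroup.zpowers z) := comm_self hZc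
  -- Z is not in the radical
  obtain ⟨U, hU, hZU⟩ := hR _ hZK
  have hUc := H.hK U hU
  obtain ⟨u, hu, hu1⟩ := exists_gen hUc
  have hXZ : X ≠ Subgroup.zpowers z := fun h => hXW (h ▸ hZW)
  have hWZ : W ≠ Subgroup.zpowers z := fun h => hXW (by rw [h]; exact hZX.symm)
  obtain ⟨x', hx'1, hx'mem, hx'p, hx'U, hX'K⟩ := pt_of_line H hX hZK hXZ hZX.symm hU
  obtain ⟨w', hw'1, hw'mem, hw'p, hw'U, hW'K⟩ := pt_of_line H hW hZK hWZ hZW.symm hU
  obtain ⟨x₁, hx₁, z₁, hz₁, hx'eq⟩ := exists_mul_of_mem_sup hZX.symm hx'mem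
  obtain ⟨w₁, hw₁, z₂, hz₂, hw'eq⟩ := exists_mul_of_mem_sup hZW.symm hw'mem
  have hx₁1 : x₁ ≠ 1 := by
    intro h
    rw [h, one_mul] at hx'eq
    apply hZU
    refine comm_of_gen hZc hUc hz₁ (hx'eq ▸ hx'1) hu hu1 ?_
    rw [← hx'eq]; exact hx'U u hu
  have hw₁1 : w₁ ≠ 1 := by
    intro h
    rw [h, one_mul] at hw'eq
    apply hZU
    refine comm_of_gen hZc hUc hz₂ (hw'eq ▸ hw'1) hu hu1 ?_
    rw [← hw'eq]; exact hw'U u hu
  -- x' and w' do not commute
  have hx'w' : x' * w' ≠ w' * x' := by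
    intro h
    apply hXW
    refine comm_of_gen hXc hWc hx₁ hx₁1 hw₁ hw₁1 ?_
    rw [hx'eq, hw'eq] at h
    have e1 : z₁ * w₁ = w₁ * z₁ := hZW z₁ hz₁ w₁ hw₁
    have e2 : z₂ * x₁ = x₁ * z₂ := hZX z₂ hz₂ x₁ hx₁
    have e3 : z₁ * z₂ = z₂ * z₁ := hZZ z₁ hz₁ z₂ hz₂
    have l1 : x₁ * z₁ * (w₁ * z₂) = x₁ * w₁ * (z₁ * z₂) := by
      calc x₁ * z₁ * (w₁ * z₂) = x₁ * (z₁ * w₁) * z₂ := by group
        _ = x₁ * (w₁ * z₁) * z₂ := by rw [e1]
        _ = x₁ * w₁ * (z₁ * z₂) := by group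
    have l2 : w₁ * z₂ * (x₁ * z₁) = w₁ * x₁ * (z₁ * z₂) := by
      calc w₁ * z₂ * (x₁ * z₁) = w₁ * (z₂ * x₁) * z₁ := by group
        _ = w₁ * (x₁ * z₂) * z₁ := by rw [e2]
        _ = w₁ * x₁ * (z₂ * z₁) := by group
        _ = w₁ * x₁ * (z₁ * z₂) := by rw [e3]
    rw [l1, l2] at h
    exact mul_right_cancel h
  have hX'c : Nat.card (Subgroup.zpowers x') = p := card_zpowers_of_pow_eq_one hx'p hx'1
  have hW'c : Nat.card (Subgroup.zpowers w') = p := card_zpowers_of_pow_eq_one hw'p hw'1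
  -- the point T = ⟨w' u⟩
  have hW'U : Subgroup.zpowers w' ≠ U := by
    intro h
    have : w' ∈ U := h ▸ Subgroup.mem_zpowers w'
    exact hx'w' (hx'U w' this)
  have hcW'U : Comm (Subgroup.zpowers w') U := comm_zpowers_left hw'U
  have hup : u ^ p = 1 := pow_eq_one_of_card_prime hUc hu
  have htp : (w' * u) ^ p = 1 := by
    rw [(show Commute w' u from hw'U u hu).mul_pow, hw'p, hup, one_mul]
  have ht1 : w' * u ≠ 1 := by
    intro h
    have h2 : w' = u⁻¹ := eq_inv_of_mul_eq_one_left h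
    apply hx'w'
    rw [h2]
    exact hx'U _ (inv_mem hu)
  have hTK : Subgroup.zpowers (w' * u) ∈ K := by
    refine H.ha _ hW'K U hU hW'U hcW'U _ ?_ (card_zpowers_of_pow_eq_one htp ht1)
    rw [Subgroup.zpowers_le]
    exact mul_mem ((le_sup_left : Subgroup.zpowers w' ≤ _) (Subgroup.mem_zpowers w'))
      ((le_sup_right : U ≤ Subgroup.zpowers w' ⊔ U) hu)
  -- the line X'Z
  have hzu : z * u ≠ u * z := fun h =>
    hZU (comm_of_gen hZc hUc (Subgroup.mem_zpowers z) hz1 hu hu1 h)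
  have hcX'U : Comm (Subgroup.zpowers x') U := comm_zpowers_left hx'U
  have hX'Z : Subgroup.zpowers x' ≠ Subgroup.zpowers z := by
    intro h
    have : z ∈ Subgroup.zpowers x' := h ▸ Subgroup.mem_zpowers z
    exact hzu (hcX'U z this u hu)
  have hzx' : z * x' = x' * z :=
    commute_of_mem_sup (g := z) hzX (fun b hb => hZZ z (Subgroup.mem_zpowers z) b hb) hx'mem
  have hcX'Z : Comm (Subgroup.zpowers x') (Subgroup.zpowers z) := by
    apply comm_zpowers_left
    intro b hb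
    obtain ⟨k, rfl⟩ := Subgroup.mem_zpowers_iff.mp hb
    exact ((show Commute z x' from hzx').symm.zpow_right k).eq
  obtain ⟨h₃, h₃1, h₃mem, h₃p, h₃T, -⟩ := pt_of_line H hX'K hZK hX'Z hcX'Z hTK
  obtain ⟨x₃, hx₃, z₃, hz₃, h₃eq⟩ := exists_mul_of_mem_sup hcX'Z h₃mem
  -- commutation relations
  have hX'le : Subgroup.zpowers x' ≤ X ⊔ Subgroup.zpowers z := Subgroup.zpowers_le.mpr hx'mem
  have c1 : Commute z₃ w' :=
    commute_of_mem_sup (g := z₃) (fun a ha => hZW z₃ hz₃ a ha) (fun b hb => hZZ z₃ hz₃ b hb)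
      hw'mem
  have c2 : Commute z₃ x₃ :=
    commute_of_mem_sup (g := z₃) (fun a ha => hZX z₃ hz₃ a ha) (fun b hb => hZZ z₃ hz₃ b hb)
      (hX'le hx₃)
  have c3 : Commute u x₃ := (hcX'U x₃ hx₃ u hu).symm
  have c4 : Commute u w' := (hw'U u hu).symm
  have hcomm := h₃T (w' * u) (Subgroup.mem_zpowers _)
  rw [h₃eq] at hcomm
  have key : x₃⁻¹ * w'⁻¹ * x₃ * w' = u * z₃ * u⁻¹ * z₃⁻¹ := by
    have l1 : x₃ * z₃ * (w' * u) = x₃ * w' * (z₃ * u) := by
      calc x₃ * z₃ * (w' * u) = x₃ * (z₃ * w') * u := by group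
        _ = x₃ * (w' * z₃) * u := by rw [c1.eq]
        _ = x₃ * w' * (z₃ * u) := by group
    have l2 : w' * u * (x₃ * z₃) = w' * x₃ * (u * z₃) := by
      calc w' * u * (x₃ * z₃) = w' * (u * x₃) * z₃ := by group
        _ = w' * (x₃ * u) * z₃ := by rw [c3.eq]
        _ = w' * x₃ * (u * z₃) := by group
    rw [l1, l2] at hcomm
    have l3 : x₃⁻¹ * w'⁻¹ * x₃ * w' = (w' * x₃)⁻¹ * (x₃ * w' * (z₃ * u)) * (z₃ * u)⁻¹ := by group
    rw [l3, hcomm]; group
  have hx₃1 : x₃ ≠ 1 := by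
    intro h
    rw [h] at key h₃eq
    rw [one_mul] at h₃eq
    have h4 : u * z₃ * u⁻¹ * z₃⁻¹ = 1 := by rw [← key]; group
    have h5 : z₃ * u = u * z₃ := by
      have : u * z₃ = (u * z₃ * u⁻¹ * z₃⁻¹) * (z₃ * u) := by group
      rw [this, h4, one_mul]
    exact hZU (comm_of_gen hZc hUc hz₃ (h₃eq ▸ h₃1) hu hu1 h5)
  have hca : (x₃⁻¹ * w'⁻¹ * x₃ * w') * x₃ = x₃ * (x₃⁻¹ * w'⁻¹ * x₃ * w') := by
    rw [key]
    exact (((c3.mul_left c2).mul_left c3.inv_left).mul_left c2.inv_left).eq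
  have hcb : (x₃⁻¹ * w'⁻¹ * x₃ * w') * w' = w' * (x₃⁻¹ * w'⁻¹ * x₃ * w') := by
    rw [key]
    exact (((c4.mul_left c1).mul_left c4.inv_left).mul_left c1.inv_left).eq
  have hx₃p : x₃ ^ p = 1 := pow_eq_one_of_card_prime hX'c hx₃
  have hP := isPGroup_closure_pair x₃ w' hx₃p hw'p hca hcb
  -- Z normalizes this group
  have hZn : Subgroup.zpowers z ≤
      Subgroup.normalizer (Subgroup.closure ({x₃, w'} : Set G) : Set G) := by
    rw [Subgroup.le_normalizer_closure_iff]
    intro h hh g hg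
    have hcg : h * g = g * h := by
      rcases hg with rfl | rfl
      · exact commute_of_mem_sup (g := h) (fun a ha => hZX h hh a ha)
          (fun b hb => hZZ h hh b hb) (hX'le hx₃)
      · exact commute_of_mem_sup (g := h) (fun a ha => hZW h hh a ha)
          (fun b hb => hZZ h hh b hb) hw'mem
    rw [hcg, mul_inv_cancel_right]
    exact Subgroup.subset_closure hg
  have hbig := IsPGroup.to_sup_of_normal_right' (isPGroup_of_card_prime hZc) hP hZn
  apply hbig.to_le
  have hX'eq : Subgroup.zpowers x₃ = Subgroup.zpowers x' :=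
    zpowers_eq_of_card_prime hX'c hx₃ hx₃1
  have hx'in : x' ∈ Subgroup.zpowers z ⊔ Subgroup.closure ({x₃, w'} : Set G) := by
    apply (le_sup_right : Subgroup.closure ({x₃, w'} : Set G) ≤ _)
    have : x' ∈ Subgroup.zpowers x₃ := hX'eq ▸ Subgroup.mem_zpowers x'
    exact (Subgroup.zpowers_le.mpr (Subgroup.subset_closure (by simp))) this
  have hw'in : w' ∈ Subgroup.zpowers z ⊔ Subgroup.closure ({x₃, w'} : Set G) :=
    (le_sup_right : Subgroup.closure ({x₃, w'} : Set G) ≤ _) (Subgroup.subset_closure (by simp))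
  have hZin : Subgroup.zpowers z ≤ Subgroup.zpowers z ⊔ Subgroup.closure ({x₃, w'} : Set G) :=
    le_sup_left
  apply sup_le
  · rw [← zpowers_eq_of_card_prime hXc hx₁ hx₁1, Subgroup.zpowers_le]
    have : x₁ = x' * z₁⁻¹ := by rw [hx'eq]; group
    rw [this]
    exact mul_mem hx'in (inv_mem (hZin hz₁))
  · rw [← zpowers_eq_of_card_prime hWc hw₁ hw₁1, Subgroup.zpowers_le]
    have : w₁ = w' * z₂⁻¹ := by rw [hw'eq]; group
    rw [this]
    exact mul_mem hw'in (inv_mem (hZin hz₂))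

/-- the set of all elements of members of `K` -/
def elts (K : Set (Subgroup G)) : Set G := {g | ∃ X ∈ K, g ∈ X}

omit [Finite G] [Fact p.Prime] in
theorem conj_mem_elts (H : Hyp p K) : ∀ k ∈ elts K, ∀ g : G, g * k * g⁻¹ ∈ elts K := by
  rintro k ⟨X, hX, hk⟩ g
  exact ⟨_, H.hKc X hX g, ⟨k, hk, by simp⟩⟩

/-- a `p`-element normalizing a subgroup of order `p` centralizes it -/
theorem centralizes_of_normalizes {V : Subgroup G} (hV : Nat.card V = p) {g : G}
    (hg : g ∈ Subgroup.normalizer (V : Set G)) (hgp : ∃ k : ℕ, g ^ p ^ k = 1) :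
    ∀ v ∈ V, g * v = v * g := by
  obtain ⟨k, hk⟩ := hgp
  have : IsCyclic V := isCyclic_of_prime_card hV
  set φ : MulAut V := V.normalizerMonoidHom ⟨g, hg⟩ with hφ
  have h1 : φ ^ p ^ k = 1 := by
    rw [hφ, ← map_pow]
    have : (⟨g, hg⟩ : Subgroup.normalizer (V : Set G)) ^ p ^ k = 1 := Subtype.ext (by simpa using hk)
    rw [this, map_one]
  have h2 : orderOf φ ∣ p ^ k := orderOf_dvd_of_pow_eq_one h1
  have h3 : orderOf φ ∣ p - 1 := by
    have := orderOf_dvd_natCard φ
    rwa [IsCyclic.card_mulAut V, hV, Nat.totient_prime Fact.out] at this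
  have hpp : p.Prime := Fact.out
  have h4 : Nat.Coprime (p ^ k) (p - 1) := by
    apply Nat.Coprime.pow_left
    rw [Nat.Prime.coprime_iff_not_dvd hpp]
    intro h
    have := Nat.le_of_dvd (Nat.sub_pos_of_lt hpp.one_lt) h
    have := hpp.one_lt
    omega
  have h5 : orderOf φ = 1 := Nat.eq_one_of_dvd_coprimes h4 h2 h3
  rw [orderOf_eq_one_iff] at h5
  have h6 : (⟨g, hg⟩ : Subgroup.normalizer (V : Set G)) ∈ V.normalizerMonoidHom.ker := by
    rw [MonoidHom.mem_ker]; exact h5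
  rw [Subgroup.normalizerMonoidHom_ker, Subgroup.mem_subgroupOf] at h6
  intro v hv
  exact ((Subgroup.mem_centralizer_iff.mp h6) v hv).symm

/-- in a `p`-group generated by `K`, some member of `K` is central -/
theorem exists_central_member (H : Hyp p K) (hN : IsPGroup p (Subgroup.closure (elts K))) :
    ∃ V ∈ K, ∀ W ∈ K, Comm V W := by
  set N := Subgroup.closure (elts K) with hNdef
  have hKN : ∀ X ∈ K, X ≤ N := fun X hX x hx => Subgroup.subset_closure ⟨X, hX, hx⟩
  have hne : K.Nonempty := by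
    obtain ⟨X, hX, -⟩ := H.hex
    exact ⟨X, hX⟩
  obtain ⟨V, hV, hmax⟩ := Set.exists_max_image K
    (fun V => Nat.card (N ⊓ Subgroup.centralizer (V : Set G) : Subgroup G)) (Set.toFinite K) hne
  have hVc := H.hK V hV
  set C : Subgroup G := N ⊓ Subgroup.centralizer (V : Set G) with hC
  by_cases hCN : N ≤ C
  · refine ⟨V, hV, fun W hW v hv w hw => ?_⟩
    have : w ∈ Subgroup.centralizer (V : Set G) := (hCN (hKN W hW hw)).2
    exact (Subgroup.mem_centralizer_iff.mp this) v hv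
  · exfalso
    have hlt : C < N := lt_of_le_not_ge inf_le_left hCN
    obtain ⟨g, hgN, hgC, hgn⟩ := Cfsg.Agent.Lib.Helper96.exists_normalizing_not_mem hN hlt
    have hgn' : ∀ c ∈ C, g * c * g⁻¹ ∈ C := fun c hc => (Subgroup.mem_normalizer_iff.mp hgn c).mp hc
    have hgn'' : ∀ c ∈ C, g⁻¹ * c * g ∈ C := fun c hc => by
      have := (Subgroup.mem_normalizer_iff.mp (inv_mem hgn) c).mp hc
      rwa [inv_inv] at this
    have hV'K := H.hKc V hV g
    set V' : Subgroup G := V.map (MulAut.conj g).toMonoidHom with hV'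
    have hVC : V ≤ C := by
      intro v hv
      refine Subgroup.mem_inf.mpr ⟨hKN V hV hv, Subgroup.mem_centralizer_iff.mpr ?_⟩
      intro h hh
      exact comm_self hVc h hh v hv
    have hV'C : V' ≤ C := by
      rintro _ ⟨v, hv, rfl⟩
      have := hgn' v (hVC hv)
      simpa using this
    have hV'V : V' ≠ V := by
      intro h
      have hgV : g ∈ Subgroup.normalizer (V : Set G) := by
        rw [Subgroup.mem_normalizer_iff_map_conj_eq]
        exact h
      obtain ⟨k, hk⟩ := hN ⟨g, hgN⟩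
      have hk' : g ^ p ^ k = 1 := by simpa using congrArg Subtype.val hk
      have hcent := centralizes_of_normalizes hVc hgV ⟨k, hk'⟩
      apply hgC
      refine Subgroup.mem_inf.mpr ⟨hgN, Subgroup.mem_centralizer_iff.mpr ?_⟩
      intro v hv
      exact (hcent v hv).symm
    have hcomm : Comm V V' := by
      intro v hv v' hv'
      have : v' ∈ Subgroup.centralizer (V : Set G) := (hV'C hv').2
      exact (Subgroup.mem_centralizer_iff.mp this) v hv
    have hCV : ∀ c ∈ C, ∀ v ∈ V, c * v = v * c := fun c hc v hv =>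
      ((Subgroup.mem_centralizer_iff.mp hc.2) v hv).symm
    have hCV' : ∀ c ∈ C, ∀ v' ∈ V', c * v' = v' * c := by
      rintro c hc _ ⟨v, hv, rfl⟩
      have h1 := hCV _ (hgn'' c hc) v hv
      show c * (g * v * g⁻¹) = g * v * g⁻¹ * c
      have h2 : c * (g * v * g⁻¹) = g * ((g⁻¹ * c * g) * v) * g⁻¹ := by group
      rw [h2, h1]; group
    have hall : ∀ W ∈ K, W ≤ C := by
      intro W hW
      obtain ⟨h, h1, hmem, hp, hcW, hTK⟩ := pt_of_line H hV hV'K (Ne.symm hV'V) hcomm hW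
      have hCT : C ≤ N ⊓ Subgroup.centralizer (Subgroup.zpowers h : Set G) := by
        intro c hc
        refine Subgroup.mem_inf.mpr ⟨hc.1, Subgroup.mem_centralizer_iff.mpr ?_⟩
        intro t ht
        obtain ⟨k, rfl⟩ := Subgroup.mem_zpowers_iff.mp ht
        have : Commute c h := commute_of_mem_sup (g := c) (hCV c hc) (hCV' c hc) hmem
        exact (this.zpow_right k).symm.eq
      have hle := hmax _ hTK
      have heq : C = N ⊓ Subgroup.centralizer (Subgroup.zpowers h : Set G) :=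
        Subgroup.eq_of_le_of_card_ge hCT hle
      rw [heq]
      intro w hw
      refine Subgroup.mem_inf.mpr ⟨hKN W hW hw, Subgroup.mem_centralizer_iff.mpr ?_⟩
      intro t ht
      obtain ⟨k, rfl⟩ := Subgroup.mem_zpowers_iff.mp ht
      exact ((show Commute h w from hcW w hw).zpow_left k).eq
    apply hCN
    rw [hNdef, Subgroup.closure_le]
    rintro x ⟨X, hX, hx⟩
    exact hall X hX hx

/-- if no member of `K` is central, the group generated by `K` is a `p`-group -/
theorem isPGroup_closure_elts (H : Hyp p K) (hR : ∀ V ∈ K, ∃ U ∈ K, ¬ Comm V U) :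
    IsPGroup p (Subgroup.closure (elts K)) := by
  apply Cfsg.Agent.Lib.Helper96.isPGroup_closure_of_pairwise (elts K) (conj_mem_elts H)
  rintro a ⟨X, hX, ha⟩ b ⟨W, hW, hb⟩
  have hle : Subgroup.closure ({a, b} : Set G) ≤ X ⊔ W := by
    rw [Subgroup.closure_le]
    intro y hy
    rcases hy with rfl | rfl
    · exact (le_sup_left : X ≤ X ⊔ W) ha
    · exact (le_sup_right : W ≤ X ⊔ W) hb
  by_cases hc : Comm X W
  · exact (isPGroup_sup_of_comm (isPGroup_of_card_prime (H.hK X hX))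
      (isPGroup_of_card_prime (H.hK W hW)) hc).to_le hle
  · exact (isPGroup_sup_of_not_comm H hR hX hW hc).to_le hle

omit [Finite G] [Fact p.Prime] in
/-- conjugates of a central member are central members -/
theorem rad_conj (H : Hyp p K) {V : Subgroup G} (hV : V ∈ K) (hrad : ∀ W ∈ K, Comm V W) (g : G) :
    V.map (MulAut.conj g).toMonoidHom ∈ K ∧
      ∀ W ∈ K, Comm (V.map (MulAut.conj g).toMonoidHom) W := by
  refine ⟨H.hKc V hV g, ?_⟩
  rintro W hW _ ⟨v, hv, rfl⟩ w hw
  have h1 : g⁻¹ * w * g ∈ W.map (MulAut.conj g⁻¹).toMonoidHom := ⟨w, hw, by simp⟩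
  have h2 := hrad _ (H.hKc W hW g⁻¹) v hv _ h1
  show g * v * g⁻¹ * w = w * (g * v * g⁻¹)
  have h3 : g * v * g⁻¹ * w = g * (v * (g⁻¹ * w * g)) * g⁻¹ := by group
  rw [h3, h2]; group

/-- the normal closure of a central member is a normal `p`-subgroup, elementwise commuting with
all members of `K` -/
theorem normalClosure_props (H : Hyp p K) {V : Subgroup G} (hV : V ∈ K)
    (hrad : ∀ W ∈ K, Comm V W) :
    IsPGroup p (Subgroup.normalClosure (V : Set G)) ∧
      ∀ W ∈ K, ∀ w ∈ W, ∀ m ∈ Subgroup.normalClosure (V : Set G), m * w = w * m := by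
  have hmem : ∀ a ∈ Group.conjugatesOfSet (V : Set G), ∃ V' ∈ K, (∀ W ∈ K, Comm V' W) ∧ a ∈ V' := by
    intro a ha
    rw [Group.mem_conjugatesOfSet_iff] at ha
    obtain ⟨v, hv, hva⟩ := ha
    obtain ⟨g, rfl⟩ := isConj_iff.mp hva
    obtain ⟨h1, h2⟩ := rad_conj H hV hrad g
    exact ⟨_, h1, h2, ⟨v, hv, by simp⟩⟩
  constructor
  · show IsPGroup p (Subgroup.closure (Group.conjugatesOfSet (V : Set G)))
    apply Cfsg.Agent.Lib.Helper96.isPGroup_closure_of_pairwise (Group.conjugatesOfSet (V : Set G))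
    · intro k hk g
      exact Group.conj_mem_conjugatesOfSet hk
    · intro a ha b hb
      obtain ⟨Va, hVa, hrada, haVa⟩ := hmem a ha
      obtain ⟨Vb, hVb, -, hbVb⟩ := hmem b hb
      have hab : a * b = b * a := hrada Vb hVb a haVa b hbVb
      have hc1 : a⁻¹ * b⁻¹ * a * b = 1 := by
        have : a⁻¹ * b⁻¹ * a * b = a⁻¹ * b⁻¹ * (a * b) := by group
        rw [this, hab]; group
      apply isPGroup_closure_pair a b (pow_eq_one_of_card_prime (H.hK Va hVa) haVa)
        (pow_eq_one_of_card_prime (H.hK Vb hVb) hbVb)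
      · rw [hc1, one_mul, mul_one]
      · rw [hc1, one_mul, mul_one]
  · intro W hW w hw m hm
    have hle : Subgroup.normalClosure (V : Set G) ≤ Subgroup.centralizer ({w} : Set G) := by
      show Subgroup.closure (Group.conjugatesOfSet (V : Set G)) ≤ _
      rw [Subgroup.closure_le]
      intro a ha
      obtain ⟨Va, hVa, hrada, haVa⟩ := hmem a ha
      rw [SetLike.mem_coe, Subgroup.mem_centralizer_singleton_iff]
      exact hrada W hW a haVa w hw
    have := hle hm
    rwa [Subgroup.mem_centralizer_singleton_iff] at this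

end main

/-- Let p be a prime and K a set of subgroups of order p of a finite group G, closed under conjugation, such that at least two distinct members of K commute elementwise, and whenever two distinct members X, Y of K commute: every subgroup of order p of the group XY they generate belongs to K, and every member W of K has centralizer meeting XY nontrivially. Then some member V of K commutes elementwise with every member of K and lies in O_p(G); in particular G is not simple. -/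
theorem result {G : Type*} [Group G] [Finite G]
    {p : ℕ} (hp : p.Prime) (K : Set (Subgroup G)) (hK : ∀ X ∈ K, Nat.card ↥X = p)
    (hKc : ∀ X ∈ K, ∀ g : G, X.map (MulAut.conj g).toMonoidHom ∈ K)
    (hex : ∃ X ∈ K, ∃ Y ∈ K, X ≠ Y ∧ ∀ x ∈ X, ∀ y ∈ Y, x * y = y * x)
    (ha : ∀ X ∈ K, ∀ Y ∈ K, X ≠ Y → (∀ x ∈ X, ∀ y ∈ Y, x * y = y * x) →
      ∀ Z : Subgroup G, Z ≤ X ⊔ Y → Nat.card ↥Z = p → Z ∈ K)
    (hb : ∀ X ∈ K, ∀ Y ∈ K, X ≠ Y → (∀ x ∈ X, ∀ y ∈ Y, x * y = y * x) →
      ∀ W ∈ K, (X ⊔ Y) ⊓ Subgroup.centralizer (W : Set G) ≠ ⊥) :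
    (∃ V ∈ K, (∀ W ∈ K, ∀ v ∈ V, ∀ w ∈ W, v * w = w * v) ∧ V ≤ Cfsg.pCore p G) ∧ ¬ IsSimpleGroup G := by
  haveI : Fact p.Prime := ⟨hp⟩
  have H : Hyp p K := ⟨hK, hKc, hex, ha, hb⟩
  obtain ⟨V, hV, hrad⟩ : ∃ V ∈ K, ∀ W ∈ K, Comm V W := by
    by_contra hcon
    have hR : ∀ V ∈ K, ∃ U ∈ K, ¬ Comm V U := by
      intro V hV
      by_contra h
      apply hcon
      refine ⟨V, hV, fun W hW => ?_⟩
      by_contra hVW
      exact h ⟨W, hW, hVW⟩
    obtain ⟨V, hV, h⟩ := exists_central_member H (isPGroup_closure_elts H hR)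
    obtain ⟨W, hW, hnc⟩ := hR V hV
    exact hnc (h W hW)
  obtain ⟨hP, hcent⟩ := normalClosure_props H hV hrad
  refine ⟨⟨V, hV, fun W hW v hv w hw => hrad W hW v hv w hw, ?_⟩, ?_⟩
  · exact le_sSup_of_le (show Subgroup.normalClosure (V : Set G) ∈
      {N : Subgroup G | N.Normal ∧ IsPGroup p N} from ⟨Subgroup.normalClosure_normal, hP⟩)
      Subgroup.le_normalClosure
  · intro hs
    have hM : Subgroup.normalClosure (V : Set G) = ⊤ := by
      rcases hs.eq_bot_or_eq_top_of_normal _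
        (Subgroup.normalClosure_normal (s := (V : Set G))) with h | h
      · exfalso
        obtain ⟨v, hv, hv1⟩ := exists_gen (hK V hV)
        have : v ∈ Subgroup.normalClosure (V : Set G) := Subgroup.le_normalClosure hv
        rw [h, Subgroup.mem_bot] at this
        exact hv1 this
      · exact h
    have htop : ∀ X ∈ K, X = ⊤ := by
      intro X hX
      have hXn : X.Normal := by
        refine ⟨fun n hn g => ?_⟩
        have h1 := hcent X hX n hn g (by rw [hM]; exact Subgroup.mem_top g)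
        rw [h1, mul_inv_cancel_right]
        exact hn
      rcases hs.eq_bot_or_eq_top_of_normal X hXn with h | h
      · exfalso
        obtain ⟨x, hx, hx1⟩ := exists_gen (hK X hX)
        rw [h, Subgroup.mem_bot] at hx
        exact hx1 hx
      · exact h
    obtain ⟨X, hX, Y, hY, hne, -⟩ := hex
    exact hne ((htop X hX).trans (htop Y hY).symm)

end Cfsg.Agent.S3196
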