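import Cfsg.Statements.S2613
import Cfsg.Agent.Lib.Helper44.HypFrame
-- import your own Cfsg.Agent.* helpers here

set_option autoImplicit false
open Cfsg

namespace Cfsg.Agent.S2613

/-- For the hyperbolic form Σ x_j y_j on F^(2m), F finite with q elements, q odd, and 1 ≤ i ≤ m: the involution negating the first i hyperbolic pairs (x_j, y_j ↦ −x_j, −y_j for j < i) and fixing the rest lies in Ω⁺_2m(q) (commutator subgroup of the orthogonal group) if and only if q^i ≡ 1 (mod 4); its (−1)-eigenspace is a hyperbolic 2i-space. -/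
theorem result {F : Type*} [Field F] [Fintype F] {q : ℕ} (hF : Fintype.card F = q) (hq : Odd q) {m : ℕ} (i : ℕ) (hi : 1 ≤ i) (him : i ≤ m) : (∃ g : ↥(Cfsg.isometryGroup F (Cfsg.quadFormPlus m F)), g ∈ Cfsg.Omega F (Cfsg.quadFormPlus m F) ∧ ((g : Matrix.GeneralLinearGroup (Fin m ⊕ Fin m) F) : Matrix (Fin m ⊕ Fin m) (Fin m ⊕ Fin m) F) = Matrix.diagonal (fun k : Fin m ⊕ Fin m => if (Sum.elim (fun j : Fin m => (j : ℕ)) (fun j : Fin m => (j : ℕ)) k) < i then (-1 : F) else 1)) ↔ q ^ i % 4 = 1 := by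
  classical
  subst hF
  let fr : Cfsg.Agent.Lib.Helper44.HypFrame (Cfsg.quadFormPlus m F) m :=
    { e := Sum.inl
      f := Sum.inr
      he := Sum.inl_injective
      hf := Sum.inr_injective
      hef := fun _ _ => Sum.inl_ne_inr
      R := fun _ => 0
      hQ := fun v => by simp [Cfsg.quadFormPlus]
      hR1 := fun _ _ _ => rfl
      hR2 := fun _ => rfl
      hR3 := rfl }
  apply fr.main hq i him
  intro k
  unfold Cfsg.Agent.Lib.Helper44.HypFrame.tFun
  rcases k with j₀ | j₀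
  · by_cases h : (j₀ : ℕ) < i
    · have h1 : ∃ j : Fin m, (j : ℕ) < i ∧ ((Sum.inl j₀ : Fin m ⊕ Fin m) = fr.e j ∨ (Sum.inl j₀ : Fin m ⊕ Fin m) = fr.f j) :=
        ⟨j₀, h, Or.inl rfl⟩
      rw [if_pos h1]
      simp [h]
    · have h1 : ¬ ∃ j : Fin m, (j : ℕ) < i ∧ ((Sum.inl j₀ : Fin m ⊕ Fin m) = fr.e j ∨ (Sum.inl j₀ : Fin m ⊕ Fin m) = fr.f j) := by
        rintro ⟨j, hj, hjk | hjk⟩
        · have : j₀ = j := Sum.inl_injective hjk
          subst this
          exact h hj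
        · exact Sum.inl_ne_inr hjk
      rw [if_neg h1]
      simp [h]
  · by_cases h : (j₀ : ℕ) < i
    · have h1 : ∃ j : Fin m, (j : ℕ) < i ∧ ((Sum.inr j₀ : Fin m ⊕ Fin m) = fr.e j ∨ (Sum.inr j₀ : Fin m ⊕ Fin m) = fr.f j) :=
        ⟨j₀, h, Or.inr rfl⟩
      rw [if_pos h1]
      simp [h]
    · have h1 : ¬ ∃ j : Fin m, (j : ℕ) < i ∧ ((Sum.inr j₀ : Fin m ⊕ Fin m) = fr.e j ∨ (Sum.inr j₀ : Fin m ⊕ Fin m) = fr.f j) := by
        rintro ⟨j, hj, hjk | hjk⟩
        · exact Sum.inr_ne_inl hjk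
        · have : j₀ = j := Sum.inr_injective hjk
          subst this
          exact h hj
      rw [if_neg h1]
      simp [h]

end Cfsg.Agent.S2613
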