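import Cfsg.Statements.S1243

set_option autoImplicit false
open Cfsg
open scoped Pointwise

namespace Cfsg.Agent.S1243

theorem conj_mem_of_smul_eq {G : Type*} [Group G] {p : ℕ} (P Q : Sylow p G) (k : G) (hk : k • P = Q)
    (x : G) (hx : x ∈ (P : Subgroup G)) : k * x * k⁻¹ ∈ (Q : Subgroup G) := by
  rw [← hk]
  have : k * x * k⁻¹ ∈ (MulAut.conj k • (P : Subgroup G)) := by
    rw [Subgroup.mem_pointwise_smul_iff_inv_smul_mem]
    simpa [MulAut.smul_def, mul_assoc] using hx
  exact this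

/-- Let T be a Sylow p-subgroup of the finite group G and W ≤ T a subgroup weakly closed in T. If d and g d g⁻¹ both centralize W, then g d g⁻¹ = h d h⁻¹ for some h ∈ N_G(W). -/
theorem result {G : Type*} [Group G] [Finite G] {p : ℕ} [Fact p.Prime] (T : Sylow p G) (W : Subgroup G) (hW : Cfsg.IsWeaklyClosed W (T : Subgroup G)) (d g : G) (hd : d ∈ Subgroup.centralizer (W : Set G)) (hgd : g * d * g⁻¹ ∈ Subgroup.centralizer (W : Set G)) : ∃ h ∈ Subgroup.normalizer (W : Set G), h * d * h⁻¹ = g * d * g⁻¹ := by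
  obtain ⟨hWT, hwc⟩ := hW
  set e := g * d * g⁻¹ with he
  set C := Subgroup.centralizer ({e} : Set G) with hC
  have hWp : IsPGroup p W := T.isPGroup'.to_le hWT
  have hWC : W ≤ C := by
    intro w hw
    rw [hC, Subgroup.mem_centralizer_iff]
    intro x hx
    rw [Set.mem_singleton_iff] at hx
    subst hx
    exact (hgd w hw).symm
  set Wg := W.map (MulAut.conj g).toMonoidHom with hWg
  have hWgC : Wg ≤ C := by
    rintro _ ⟨w, hw, rfl⟩
    rw [hC, Subgroup.mem_centralizer_iff]
    intro x hx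
    rw [Set.mem_singleton_iff] at hx
    subst hx
    have h1 : w * d = d * w := hd w hw
    simp only [MulEquiv.coe_toMonoidHom, MulAut.conj_apply, he]
    calc g * d * g⁻¹ * (g * w * g⁻¹) = g * (d * w) * g⁻¹ := by group
      _ = g * (w * d) * g⁻¹ := by rw [h1]
      _ = g * w * g⁻¹ * (g * d * g⁻¹) := by group
  have hWgp : IsPGroup p Wg := hWp.map _
  have hp1 : IsPGroup p (W.subgroupOf C) := hWp.comap_subtype
  have hp2 : IsPGroup p (Wg.subgroupOf C) := hWgp.comap_subtype
  obtain ⟨R1, hR1⟩ := hp1.exists_le_sylow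
  obtain ⟨R2, hR2⟩ := hp2.exists_le_sylow
  obtain ⟨c, hc⟩ := MulAction.exists_smul_eq C R2 R1
  obtain ⟨T', hT'⟩ := (R1.isPGroup'.map C.subtype).exists_le_sylow
  obtain ⟨k, hk⟩ := MulAction.exists_smul_eq G T' T
  -- W ≤ T'
  have h1 : ∀ w ∈ W, w ∈ (T' : Subgroup G) := by
    intro w hw
    apply hT'
    refine ⟨⟨w, hWC hw⟩, hR1 ?_, rfl⟩
    simpa [Subgroup.mem_subgroupOf] using hw
  have h2 : ∀ w ∈ W, ((c : G) * g) * w * ((c : G) * g)⁻¹ ∈ (T' : Subgroup G) := by
    intro w hw
    apply hT'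
    have hgw : g * w * g⁻¹ ∈ Wg := ⟨w, hw, by simp⟩
    have h3 : (⟨g * w * g⁻¹, hWgC hgw⟩ : C) ∈ (R2 : Subgroup C) := by
      apply hR2
      simpa [Subgroup.mem_subgroupOf] using hgw
    have h4 := conj_mem_of_smul_eq R2 R1 c hc _ h3
    refine ⟨_, h4, ?_⟩
    simp [mul_assoc]
  have e1 : W.map (MulAut.conj k).toMonoidHom = W := by
    apply hwc
    rintro _ ⟨w, hw, rfl⟩
    exact conj_mem_of_smul_eq T' T k hk _ (h1 w hw)
  have e2 : W.map (MulAut.conj (k * ((c : G) * g))).toMonoidHom = W := by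
    apply hwc
    rintro _ ⟨w, hw, rfl⟩
    have := conj_mem_of_smul_eq T' T k hk _ (h2 w hw)
    simpa [mul_assoc] using this
  have e3 : W.map (MulAut.conj ((c : G) * g)).toMonoidHom = W := by
    have : (W.map (MulAut.conj ((c : G) * g)).toMonoidHom).map (MulAut.conj k).toMonoidHom
        = W.map (MulAut.conj k).toMonoidHom := by
      rw [e1, Subgroup.map_map, ← e2]
      congr 1
      ext x
      simp [mul_assoc]
    exact Subgroup.map_injective (MulAut.conj k).injective this
  refine ⟨(c : G) * g, ?_, ?_⟩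
  · rw [Subgroup.mem_normalizer_iff_map_conj_eq]
    exact e3
  · have hce : e * (c : G) = (c : G) * e := by
      have hcC : (c : G) ∈ Subgroup.centralizer ({e} : Set G) := c.2
      rw [Subgroup.mem_centralizer_iff] at hcC
      exact hcC e rfl
    calc (c : G) * g * d * ((c : G) * g)⁻¹ = (c : G) * e * (c : G)⁻¹ := by rw [he]; group
      _ = e := by rw [← hce]; group

end Cfsg.Agent.S1243
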