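import Cfsg.Statements.S0953
-- import your own Cfsg.Agent.* helpers here
import Cfsg.Agent.Lib.Helper82.NormalSylowBlocks
import Cfsg.Agent.Lib.Helper16.FirstMain
import Cfsg.Agent.Lib.Helper16.BrauerIdem

set_option autoImplicit false
set_option linter.style.haveILetI false
open Cfsg

namespace Cfsg.Agent.S0953

/-- Let P be a Sylow p-subgroup of the finite group G with normalizer N, and fix a maximal ideal M of the algebraic integers containing p. The number of blocks of G having P as a defect group equals the number of conjugacy classes of N consisting of elements of order prime to p that centralize P. -/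
theorem result {G : Type*} [Group G] [Finite G] (p : ℕ) [Fact p.Prime] (M : Ideal Cfsg.AlgInt) (hM : Cfsg.IsPModular p M) (P : Sylow p G) : Nat.card {B : Set (Cfsg.IrrCharacter G) // Cfsg.IsPBlock M B ∧ Cfsg.IsDefectGroup p M B (P : Subgroup G)} = Nat.card {C : ConjClasses (Subgroup.normalizer ((P : Subgroup G) : Set G)) // ∀ n : Subgroup.normalizer ((P : Subgroup G) : Set G), ConjClasses.mk n = C → ¬ p ∣ orderOf n ∧ (n : G) ∈ Subgroup.centralizer ((P : Subgroup G) : Set G)} := by
  classical
  haveI : Fintype G := Fintype.ofFinite G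
  haveI hMp := Cfsg.Agent.Lib.Helper16.isPModular_isPrime hM
  have hp : p.Prime := Fact.out
  set N := Subgroup.normalizer ((P : Subgroup G) : Set G) with hN
  haveI : Fintype N := Fintype.ofFinite N
  have hPN : (P : Subgroup G) ≤ N := Subgroup.le_normalizer
  set Q := (P : Subgroup G).subgroupOf N with hQdef
  haveI hQn : Q.Normal := Subgroup.normal_in_normalizer
  have hQ : IsPGroup p Q := P.2.comap_subtype
  have hidx : ¬ p ∣ Q.index := by
    have h1 : Q.index * N.index = (P : Subgroup G).index :=
      Subgroup.relIndex_mul_index hPN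
    intro h
    exact P.not_dvd_index (h1 ▸ Dvd.dvd.mul_right h _)
  -- Step A: the first main theorem bijection
  have hdefN : ∀ b : Set (IrrCharacter N), IsPBlock M b → IsDefectGroup p M b Q :=
    fun b hb => Cfsg.Agent.Lib.Helper82.isDefectGroup_of_normal_sylow hM Q hQ hidx hb
  have hex : ∀ b : {b : Set (IrrCharacter N) // IsPBlock M b},
      ∃ B : Set (IrrCharacter G), IsPBlock M B ∧ IsDefectGroup p M B (P : Subgroup G) ∧
        IsInducedBlock M N b.1 B := fun b =>
    Cfsg.Agent.Lib.Helper16.firstMain_exists_induced hM (P : Subgroup G) P.2 b.1 b.2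
      (hdefN b.1 b.2)
  choose f hf using hex
  have hA : Nat.card {b : Set (IrrCharacter N) // IsPBlock M b} =
      Nat.card {B : Set (IrrCharacter G) // IsPBlock M B ∧
        IsDefectGroup p M B (P : Subgroup G)} := by
    apply Nat.card_eq_of_bijective
      (fun b => (⟨f b, (hf b).1, (hf b).2.1⟩ : {B : Set (IrrCharacter G) // IsPBlock M B ∧
        IsDefectGroup p M B (P : Subgroup G)}))
    constructor
    · intro b₁ b₂ h
      have h' : f b₁ = f b₂ := congrArg Subtype.val h
      apply Subtype.ext
      have h2 := (hf b₂).2.2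
      rw [← h'] at h2
      exact Cfsg.Agent.Lib.Helper16.firstMain_unique hM (P : Subgroup G) P.2 (f b₁) (hf b₁).1
        b₁.2 (hdefN b₁.1 b₁.2) (hf b₁).2.2 b₂.2 h2
    · rintro ⟨B, hB, hBD⟩
      obtain ⟨b, hb, _, hind⟩ :=
        Cfsg.Agent.Lib.Helper16.firstMain_exists_correspondent hM (P : Subgroup G) P.2 B hB hBD
      refine ⟨⟨b, hb⟩, ?_⟩
      apply Subtype.ext
      exact Cfsg.Agent.Lib.Helper16.isInducedBlock_unique N (hf ⟨b, hb⟩).2.2 hind
  rw [← hA, Cfsg.Agent.Lib.Helper82.card_blocks_eq_card_classes hM Q hQ hidx]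
  apply Nat.card_congr (Equiv.subtypeEquivRight fun C => ?_)
  have key : ∀ n : N, n ∈ Subgroup.centralizer (Q : Set N) ↔
      (n : G) ∈ Subgroup.centralizer ((P : Subgroup G) : Set G) := by
    intro n
    rw [Subgroup.mem_centralizer_iff, Subgroup.mem_centralizer_iff]
    constructor
    · intro h g hg
      have := h ⟨g, hPN hg⟩ (by rw [SetLike.mem_coe, hQdef, Subgroup.mem_subgroupOf]; exact hg)
      exact congrArg Subtype.val this
    · intro h q hq
      rw [SetLike.mem_coe, hQdef, Subgroup.mem_subgroupOf] at hq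
      exact Subtype.ext (h (q : G) hq)
  constructor
  · intro h n hn
    exact ⟨(h n hn).1, (key n).mp (h n hn).2⟩
  · intro h n hn
    exact ⟨(h n hn).1, (key n).mpr (h n hn).2⟩

end Cfsg.Agent.S0953
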