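import Cfsg.Statements.S1967
import Cfsg.Agent.Lib.Helper33.FusionControl2

set_option autoImplicit false
open Cfsg

namespace Cfsg.Agent.S1967

open Cfsg.Agent.Lib.Helper33 in
/-- Let p be a prime, G a finite group with Sylow p-subgroup S and W a conjugacy functor for p on G. Then W controls strong fusion in G if and only if, whenever T ≤ S and g ∈ G satisfy gTg⁻¹ ≤ S, one can write g = n c with n ∈ N_G(W(S)) and c ∈ C_G(T). -/
theorem result {G : Type*} [Group G] [Finite G] {p : ℕ} [Fact p.Prime] (S : Sylow p G) (W : Subgroup G → Subgroup G) (hW : Cfsg.IsConjugacyFunctor p W) : Cfsg.ControlsStrongFusionIn p W ⊤ ↔ ∀ (T : Subgroup G) (g : G), T ≤ (S : Subgroup G) → T.map (MulAut.conj g).toMonoidHom ≤ (S : Subgroup G) → ∃ n ∈ Subgroup.normalizer ((W (S : Subgroup G) : Subgroup G) : Set G), ∃ c ∈ Subgroup.centralizer (T : Set G), g = n * c := by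
  constructor
  · intro h T g hT hgT
    have hfam := controls_iff_family_singleton.mp h
    have h𝓦 : ∀ W' ∈ ({W} : Set (Subgroup G → Subgroup G)), Cfsg.IsConjugacyFunctor p W' := by
      intro W' hW'; rw [Set.mem_singleton_iff.mp hW']; exact hW
    have hgood := good_of_familyControls h𝓦 hfam (sylIn_top S) (T : Set G) g (Subgroup.mem_top g) hT
      (by rw [lc_coe_subgroup]; exact hgT)
    obtain ⟨g', hreach, hagree⟩ := hgood
    rw [stepSet_singleton] at hreach
    have hg' := hreach.mem_of_subgroup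
    refine ⟨g', hg'.2, g'⁻¹ * g, ?_, by group⟩
    rw [Subgroup.mem_centralizer_iff]
    intro a ha
    have := hagree a ha
    calc a * (g'⁻¹ * g) = g'⁻¹ * (g' * a * g'⁻¹) * g := by group
      _ = g'⁻¹ * (g * a * g⁻¹) * g := by rw [this]
      _ = g'⁻¹ * g * a := by group
  · intro h
    refine ⟨(S : Subgroup G), le_top, S.isPGroup', (sylIn_top S).not_dvd, ?_⟩
    intro A x _ hA hxA
    have hT : Subgroup.closure A ≤ (S : Subgroup G) := (Subgroup.closure_le _).mpr hA
    have hxT : (Subgroup.closure A).map (MulAut.conj x).toMonoidHom ≤ (S : Subgroup G) :=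
      lc_subset_subgroup_iff.mp hxA
    obtain ⟨n, hn, c, hc, rfl⟩ := h _ x hT hxT
    refine ⟨n, ⟨Subgroup.mem_top n, hn⟩, ?_⟩
    intro a ha
    rw [Subgroup.mem_centralizer_iff] at hc
    have := hc a (Subgroup.subset_closure ha)
    calc n * a * n⁻¹ = n * (a * c) * c⁻¹ * n⁻¹ := by group
      _ = n * (c * a) * c⁻¹ * n⁻¹ := by rw [this]
      _ = n * c * a * (n * c)⁻¹ := by group

end Cfsg.Agent.S1967
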