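import Cfsg.Statements.S3059
import Mathlib
-- import your own Cfsg.Agent.* helpers here

set_option autoImplicit false
open Cfsg

namespace Cfsg.Agent.S3059

open Subgroup

/-- The classical strongly `p`-embedded hypothesis. -/
def SE {G : Type*} [Group G] (p : ℕ) (H : Subgroup G) : Prop :=
  ∀ g : G, g ∉ H → ¬ p ∣ Nat.card ↥(H ⊓ H.map (MulAut.conj g).toMonoidHom)

/-- Normalizers of nontrivial `p`-subgroups of `H` lie in `H`. -/
theorem normalizer_le_of_se {G : Type*} [Group G] [Finite G] (p : ℕ) [Fact p.Prime]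
    (H : Subgroup G) (hse : SE p H) (Q : Subgroup G) (hQH : Q ≤ H) (hQ : IsPGroup p Q)
    (hQ1 : Q ≠ ⊥) : normalizer (Q : Set G) ≤ H := by
  intro g hg
  by_contra hgH
  apply hse g hgH
  have hle : Q ≤ H ⊓ H.map (MulAut.conj g).toMonoidHom := by
    intro q hq
    refine ⟨hQH hq, ?_⟩
    have hg' : g⁻¹ ∈ normalizer (Q : Set G) := inv_mem hg
    have : g⁻¹ * q * g⁻¹⁻¹ ∈ Q := (mem_normalizer_iff.mp hg' q).mp hq
    refine ⟨g⁻¹ * q * g⁻¹⁻¹, hQH this, ?_⟩
    simp only [MulEquiv.coe_toMonoidHom, MulAut.conj_apply]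
    group
  have hdvd : Nat.card Q ∣ Nat.card ↥(H ⊓ H.map (MulAut.conj g).toMonoidHom) :=
    card_dvd_of_le hle
  have hp : p ∣ Nat.card Q := by
    rcases hQ.card_eq_or_dvd with h | h
    · exact absurd (Subgroup.card_eq_one.mp h) hQ1
    · exact h
  exact hp.trans hdvd

/-- A `p`-subgroup meeting `H` nontrivially lies in `H`. -/
theorem le_of_inf_ne_bot {G : Type*} [Group G] [Finite G] (p : ℕ) [Fact p.Prime]
    (H : Subgroup G) (hse : SE p H) (R : Subgroup G) (hR : IsPGroup p R) (hRH : R ⊓ H ≠ ⊥) :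
    R ≤ H := by
  by_contra hnot
  have hD : IsPGroup p ↥(R ⊓ H) := hR.to_le inf_le_left
  have hN := normalizer_le_of_se p H hse (R ⊓ H) inf_le_right hD hRH
  have : Group.IsNilpotent R := hR.isNilpotent
  have hnc : NormalizerCondition R := Group.normalizerCondition_of_isNilpotent
  have hlt : (R ⊓ H).subgroupOf R < ⊤ := by
    rw [lt_top_iff_ne_top]
    intro h
    apply hnot
    have := subgroupOf_eq_top.mp h
    exact this.trans inf_le_right
  have h2 := hnc _ hlt
  obtain ⟨r, hr1, hr2⟩ := SetLike.exists_of_lt h2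
  rw [← subgroupOf_normalizer_eq (inf_le_left : R ⊓ H ≤ R)] at hr1
  have hr3 : (r : G) ∈ normalizer ((R ⊓ H : Subgroup G) : Set G) := mem_subgroupOf.mp hr1
  have hr4 : (r : G) ∈ H := hN hr3
  apply hr2
  rw [mem_subgroupOf]
  exact ⟨r.2, hr4⟩

/-- The subgroup generated by the `p'`-elements of a normal subgroup is normal. -/
theorem pResidualOf_normal {G : Type*} [Group G] (p : ℕ) (N : Subgroup G) [hN : N.Normal] :
    (closure {g : G | g ∈ N ∧ (orderOf g).Coprime p}).Normal := by
  constructor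
  intro n hn g
  induction hn using closure_induction with
  | mem x hx =>
    apply Subgroup.subset_closure
    refine ⟨hN.conj_mem x hx.1 g, ?_⟩
    have : orderOf (g * x * g⁻¹) = orderOf x := by
      have := orderOf_injective (MulAut.conj g).toMonoidHom (MulAut.conj g).injective x
      simpa using this
    rw [this]; exact hx.2
  | one => simp
  | mul x y _ _ hx hy =>
    have : g * (x * y) * g⁻¹ = (g * x * g⁻¹) * (g * y * g⁻¹) := by group
    rw [this]; exact mul_mem hx hy
  | inv x _ hx =>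
    have : g * x⁻¹ * g⁻¹ = (g * x * g⁻¹)⁻¹ := by group
    rw [this]; exact inv_mem hx

/-- Modulo the subgroup generated by its `p'`-elements, a subgroup is a `p`-group. -/
theorem pow_mem_pResidualOf {G : Type*} [Group G] [Finite G] (p : ℕ) [hp : Fact p.Prime]
    (N : Subgroup G) (n : G) (hn : n ∈ N) :
    ∃ k : ℕ, n ^ (p ^ k) ∈ closure {g : G | g ∈ N ∧ (orderOf g).Coprime p} := by
  refine ⟨(orderOf n).factorization p, Subgroup.subset_closure ⟨pow_mem hn _, ?_⟩⟩
  have hpos : 0 < orderOf n := orderOf_pos n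
  rw [orderOf_pow]
  have hdvd : p ^ (orderOf n).factorization p ∣ orderOf n := Nat.ordProj_dvd _ _
  rw [Nat.gcd_eq_right hdvd]
  exact (Nat.coprime_ordCompl hp.out hpos.ne').symm

/-- Let p be a prime and H a strongly p-embedded subgroup of the finite group G in the classical sense: H is proper, p divides the order of H, and H ∩ gHg⁻¹ has order prime to p for every g outside H. Then for every normal subgroup N of G of order divisible by p, G = H · O^p(N), where O^p(N) is the subgroup generated by the elements of N of order prime to p. -/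
theorem result {G : Type*} [Group G] [Finite G]
    (p : ℕ) [Fact p.Prime] (H : Subgroup G) (hH : H ≠ ⊤) (hpH : p ∣ Nat.card H)
    (hse : ∀ g : G, g ∉ H → ¬ p ∣ Nat.card ↥(H ⊓ H.map (MulAut.conj g).toMonoidHom))
    (N : Subgroup G) [N.Normal] (hN : p ∣ Nat.card N) :
    H ⊔ Subgroup.closure {g : G | g ∈ N ∧ (orderOf g).Coprime p} = ⊤ := by
  have hse' : SE p H := hse
  -- a Sylow p-subgroup of G inside H
  obtain ⟨P₀⟩ : Nonempty (Sylow p H) := inferInstance
  have hP₀ : (P₀ : Subgroup H) ≠ ⊥ := P₀.ne_bot_of_dvd_card hpH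
  have hQp : IsPGroup p ↥((P₀ : Subgroup H).map H.subtype) := P₀.isPGroup'.map _
  obtain ⟨S, hQS⟩ := hQp.exists_le_sylow
  have hSH : (S : Subgroup G) ≤ H := by
    apply le_of_inf_ne_bot p H hse' S S.isPGroup'
    intro h
    apply hP₀
    rw [eq_bot_iff]
    intro x hx
    have h1 : (x : G) ∈ (S : Subgroup G) ⊓ H := ⟨hQS ⟨x, hx, rfl⟩, x.2⟩
    rw [h] at h1
    rw [mem_bot] at h1 ⊢
    exact Subtype.ext h1
  -- an element of order p in N ∩ S
  obtain ⟨n₀, hn₀⟩ := exists_prime_orderOf_dvd_card' p hN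
  have hz : IsPGroup p ↥(zpowers (n₀ : G)) := by
    apply IsPGroup.of_card (n := 1)
    rw [Nat.card_zpowers, pow_one, Subgroup.orderOf_coe, hn₀]
  obtain ⟨S', hS'⟩ := hz.exists_le_sylow
  obtain ⟨g, hg⟩ := MulAction.exists_smul_eq G S' S
  set n : G := g * n₀ * g⁻¹ with hn
  have hnS : n ∈ (S : Subgroup G) := by
    rw [← hg, Sylow.smul_def, Sylow.pointwise_smul_def]
    have : (n₀ : G) ∈ (S' : Subgroup G) := hS' (mem_zpowers _)
    have h2 := Subgroup.smul_mem_pointwise_smul (n₀ : G) (MulAut.conj g) (S' : Subgroup G) this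
    simpa [MulAut.smul_def] using h2
  have hnN : n ∈ N := (inferInstance : N.Normal).conj_mem _ n₀.2 g
  have hn1 : n ≠ 1 := by
    intro h
    have h1 : (n₀ : G) = 1 := by
      have : g⁻¹ * n * g = 1 := by rw [h]; group
      rw [hn] at this
      rw [← this]; group
    have h2 : n₀ = 1 := Subtype.ext h1
    rw [h2, orderOf_one] at hn₀
    exact (Fact.out : p.Prime).one_lt.ne hn₀
  -- a Sylow p-subgroup of N containing S ∩ N
  have hRp : IsPGroup p ↥(((S : Subgroup G) ⊓ N).subgroupOf N) :=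
    (S.isPGroup'.to_le inf_le_left).comap_subtype
  obtain ⟨P₁, hP₁⟩ := hRp.exists_le_sylow
  have hnA : n ∈ (P₁ : Subgroup N).map N.subtype :=
    ⟨⟨n, hnN⟩, hP₁ (mem_subgroupOf.mpr ⟨hnS, hnN⟩), rfl⟩
  have hAp : IsPGroup p ↥((P₁ : Subgroup N).map N.subtype) := P₁.isPGroup'.map _
  have hAne : (P₁ : Subgroup N).map N.subtype ≠ ⊥ := by
    intro h
    rw [h, mem_bot] at hnA
    exact hn1 hnA
  have hAH : (P₁ : Subgroup N).map N.subtype ≤ H := by
    apply le_of_inf_ne_bot p H hse' _ hAp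
    intro h
    have : n ∈ (P₁ : Subgroup N).map N.subtype ⊓ H := ⟨hnA, hSH hnS⟩
    rw [h, mem_bot] at this
    exact hn1 this
  have hNA := normalizer_le_of_se p H hse' _ hAH hAp hAne
  have hfrat := Sylow.normalizer_sup_eq_top P₁
  -- N ≤ H ⊔ O
  set O := closure {g : G | g ∈ N ∧ (orderOf g).Coprime p} with hO
  have hOn : O.Normal := pResidualOf_normal p N
  have hπ : Function.Surjective (QuotientGroup.mk' O) := QuotientGroup.mk'_surjective O
  have hNp : IsPGroup p ↥(N.map (QuotientGroup.mk' O)) := by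
    intro x
    obtain ⟨m, hm, hmx⟩ := x.2
    obtain ⟨k, hk⟩ := pow_mem_pResidualOf p N m hm
    refine ⟨k, ?_⟩
    apply Subtype.ext
    rw [SubgroupClass.coe_pow, ← hmx, ← map_pow]
    exact (QuotientGroup.eq_one_iff _).mpr hk
  have : (N.map (QuotientGroup.mk' O)).Normal :=
    Subgroup.Normal.map inferInstance _ hπ
  have hle := hNp.le_sylow_of_normal (S.mapSurjective hπ)
  have hNle : N ≤ H ⊔ O := by
    intro m hm
    have h1 : (QuotientGroup.mk' O) m ∈ (S.mapSurjective hπ : Subgroup (G ⧸ O)) :=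
      hle ⟨m, hm, rfl⟩
    rw [Sylow.coe_mapSurjective] at h1
    obtain ⟨s, hs, hsm⟩ := h1
    have h2 : s⁻¹ * m ∈ O := by
      have := QuotientGroup.eq.mp hsm
      exact this
    have : m = s * (s⁻¹ * m) := by group
    rw [this]
    exact mul_mem_sup (hSH hs) h2
  rw [eq_top_iff, ← hfrat]
  exact sup_le (hNA.trans le_sup_left) hNle

end Cfsg.Agent.S3059
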