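import Cfsg.Statements.S3056
import Cfsg.Agent.S3059
import Mathlib
-- import your own Cfsg.Agent.* helpers here

set_option autoImplicit false
open Cfsg

namespace Cfsg.Agent.S3056

open Subgroup
open scoped Pointwise

variable {G : Type*} [Group G]

/-- Membership in a conjugate Sylow subgroup. -/
theorem mem_smul_sylow {p : ℕ} (g x : G) (P : Sylow p G) :
    x ∈ (g • P : Sylow p G) ↔ g⁻¹ * x * g ∈ P := by
  change x ∈ (MulAut.conj g • (P : Subgroup G)) ↔ _
  rw [Subgroup.mem_pointwise_smul_iff_inv_smul_mem]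
  simp only [MulAut.smul_def, MulAut.inv_apply, MulAut.conj_symm_apply]
  rfl

/-- Adjacency of Sylow subgroups: distinct with nontrivial intersection. -/
def Adj (p : ℕ) (P Q : Sylow p G) : Prop :=
  P ≠ Q ∧ (P : Subgroup G) ⊓ (Q : Subgroup G) ≠ ⊥

/-- Connectedness of Sylow subgroups. -/
def Conn (p : ℕ) (P Q : Sylow p G) : Prop := Relation.ReflTransGen (Adj p) P Q

theorem inf_ne_bot_iff (A B : Subgroup G) : A ⊓ B ≠ ⊥ ↔ ∃ x, x ≠ 1 ∧ x ∈ A ∧ x ∈ B := by
  rw [Subgroup.ne_bot_iff_exists_ne_one]
  constructor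
  · rintro ⟨⟨x, hxA, hxB⟩, hx⟩
    exact ⟨x, fun h => hx (Subtype.ext h), hxA, hxB⟩
  · rintro ⟨x, hx, hxA, hxB⟩
    exact ⟨⟨x, hxA, hxB⟩, fun h => hx (congrArg Subtype.val h)⟩

theorem adj_symm {p : ℕ} {P Q : Sylow p G} (h : Adj p P Q) : Adj p Q P :=
  ⟨h.1.symm, by rw [inf_comm]; exact h.2⟩

theorem conn_symm {p : ℕ} {P Q : Sylow p G} (h : Conn p P Q) : Conn p Q P :=
  by
  induction h with
  | refl => exact Relation.ReflTransGen.refl
  | tail _ hab ih => exact Relation.ReflTransGen.head (adj_symm hab) ih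

theorem conn_trans {p : ℕ} {P Q R : Sylow p G} (h : Conn p P Q) (h' : Conn p Q R) : Conn p P R :=
  Relation.ReflTransGen.trans h h'

theorem adj_smul {p : ℕ} (g : G) {P Q : Sylow p G} (h : Adj p P Q) : Adj p (g • P) (g • Q) := by
  refine ⟨fun he => h.1 (MulAction.injective g he), ?_⟩
  obtain ⟨x, hx, hxP, hxQ⟩ := (inf_ne_bot_iff _ _).mp h.2
  refine (inf_ne_bot_iff _ _).mpr ⟨g * x * g⁻¹, ?_, ?_, ?_⟩
  · intro h1
    apply hx
    have : x = g⁻¹ * (g * x * g⁻¹) * g := by group
    rw [this, h1]; group
  · have : g * x * g⁻¹ ∈ (g • P : Sylow p G) := by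
      rw [mem_smul_sylow]
      have : g⁻¹ * (g * x * g⁻¹) * g = x := by group
      rw [this]; exact hxP
    exact this
  · have : g * x * g⁻¹ ∈ (g • Q : Sylow p G) := by
      rw [mem_smul_sylow]
      have : g⁻¹ * (g * x * g⁻¹) * g = x := by group
      rw [this]; exact hxQ
    exact this

theorem conn_smul {p : ℕ} (g : G) {P Q : Sylow p G} (h : Conn p P Q) : Conn p (g • P) (g • Q) := by
  induction h with
  | refl => exact Relation.ReflTransGen.refl
  | tail _ hab ih => exact Relation.ReflTransGen.tail ih (adj_smul g hab)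

/-- A connection gives a chain indexed by the naturals. -/
theorem chain_of_conn {p : ℕ} {S T : Sylow p G} (h : Conn p S T) :
    ∃ (n : ℕ) (c : ℕ → Sylow p G), c 0 = S ∧ c n = T ∧ ∀ i < n, Adj p (c i) (c (i + 1)) := by
  induction h with
  | refl => exact ⟨0, fun _ => S, rfl, rfl, fun i hi => absurd hi (Nat.not_lt_zero i)⟩
  | @tail T' T'' _ hab ih =>
    obtain ⟨n, c, h0, hn, hc⟩ := ih
    refine ⟨n + 1, fun i => if i ≤ n then c i else T'', ?_, ?_, ?_⟩
    · simp [h0]
    · simp
    · intro i hi
      by_cases hin : i < n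
      · have h1 : i ≤ n := hin.le
        have h2 : i + 1 ≤ n := hin
        simp only [h1, h2, if_true]
        exact hc i hin
      · have h1 : i = n := by omega
        subst h1
        simp only [le_refl, if_true, Nat.add_one_le_iff, lt_self_iff_false, if_false]
        rw [hn]; exact hab

theorem chainConnected_iff (p : ℕ) :
    Cfsg.IsSylowChainConnected p G ↔ ∀ S T : Sylow p G, Conn p S T := by
  constructor
  · intro h S T
    obtain ⟨n, c, h0, hn, -, hc⟩ := h S T
    have key : ∀ k (hk : k < n + 1), Conn p S (c ⟨k, hk⟩) := by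
      intro k
      induction k with
      | zero =>
        intro hk
        have : (⟨0, hk⟩ : Fin (n + 1)) = 0 := rfl
        rw [this, h0]
        exact Relation.ReflTransGen.refl
      | succ k ih =>
        intro hk
        have hk' : k < n := by omega
        have := hc ⟨k, hk'⟩
        exact Relation.ReflTransGen.tail (ih (by omega)) this
    have := key n (by omega)
    have h2 : (⟨n, by omega⟩ : Fin (n + 1)) = Fin.last n := rfl
    rw [h2, hn] at this
    exact this
  · intro h S T
    by_cases hST : (S : Subgroup G) ⊓ (T : Subgroup G) = ⊥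
    · obtain ⟨n, c, h0, hn, hc⟩ := chain_of_conn (h S T)
      refine ⟨n, fun i => c i.val, ?_, ?_, ?_, ?_⟩
      · simpa using h0
      · simpa using hn
      · intro i; rw [hST]; exact bot_le
      · intro i
        have := hc i.val i.2
        simpa [Adj] using this
    · by_cases hEq : S = T
      · subst hEq
        refine ⟨0, fun _ => S, rfl, rfl, fun _ => inf_le_left, fun i => i.elim0⟩
      · refine ⟨1, ![S, T], rfl, rfl, ?_, ?_⟩
        · intro i
          fin_cases i
          · exact inf_le_left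
          · exact inf_le_right
        · intro i
          fin_cases i
          exact ⟨hEq, hST⟩

/-- A strongly `p`-embedded subgroup contains a nontrivial Sylow `p`-subgroup of `G`. -/
theorem exists_sylow_le [Finite G] (p : ℕ) [Fact p.Prime] (H : Subgroup G)
    (hpH : p ∣ Nat.card H) (hse : S3059.SE p H) :
    ∃ S : Sylow p G, (S : Subgroup G) ≤ H ∧ (S : Subgroup G) ≠ ⊥ := by
  obtain ⟨P₀⟩ : Nonempty (Sylow p H) := inferInstance
  have hP₀ : (P₀ : Subgroup H) ≠ ⊥ := P₀.ne_bot_of_dvd_card hpH
  have hQp : IsPGroup p ↥((P₀ : Subgroup H).map H.subtype) := P₀.isPGroup'.map _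
  obtain ⟨S, hQS⟩ := hQp.exists_le_sylow
  have hne : (S : Subgroup G) ⊓ H ≠ ⊥ := by
    intro h
    apply hP₀
    rw [eq_bot_iff]
    intro x hx
    have h1 : (x : G) ∈ (S : Subgroup G) ⊓ H := ⟨hQS ⟨x, hx, rfl⟩, x.2⟩
    rw [h] at h1
    rw [mem_bot] at h1 ⊢
    exact Subtype.ext h1
  refine ⟨S, S3059.le_of_inf_ne_bot p H hse S S.isPGroup' hne, ?_⟩
  intro h
  apply hne
  rw [h, bot_inf_eq]

theorem le_of_conn [Finite G] (p : ℕ) [Fact p.Prime] (H : Subgroup G) (hse : S3059.SE p H)
    {S T : Sylow p G} (h : Conn p S T) (hS : (S : Subgroup G) ≤ H) : (T : Subgroup G) ≤ H := by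
  induction h with
  | refl => exact hS
  | @tail T' T'' _ hab ih =>
    apply S3059.le_of_inf_ne_bot p H hse _ T''.isPGroup'
    obtain ⟨x, hx, hxT', hxT''⟩ := (inf_ne_bot_iff _ _).mp hab.2
    exact (inf_ne_bot_iff _ _).mpr ⟨x, hx, hxT'', ih hxT'⟩

/-- The stabilizer of the connected component of `S`. -/
def stab (p : ℕ) (S : Sylow p G) : Subgroup G where
  carrier := {g | Conn p (g • S) S}
  one_mem' := by
    show Conn p ((1 : G) • S) S
    rw [one_smul]
    exact Relation.ReflTransGen.refl
  mul_mem' := fun {a b} ha hb => by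
    show Conn p ((a * b) • S) S
    rw [mul_smul]
    exact conn_trans (conn_smul a hb) ha
  inv_mem' := fun {a} ha => by
    show Conn p (a⁻¹ • S) S
    have := conn_smul a⁻¹ ha
    rw [inv_smul_smul] at this
    exact conn_symm this

theorem mem_stab {p : ℕ} (S : Sylow p G) (g : G) : g ∈ stab p S ↔ Conn p (g • S) S := Iff.rfl

theorem le_stab {p : ℕ} (S : Sylow p G) : (S : Subgroup G) ≤ stab p S := by
  intro s hs
  rw [mem_stab]
  have : s • S = S := Sylow.smul_eq_iff_mem_normalizer.mpr (le_normalizer hs)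
  rw [this]
  exact Relation.ReflTransGen.refl

/-- Every element of order `p` of `stab p S` lies in a Sylow subgroup connected to `S`. -/
theorem exists_conn_of_mem_stab [Finite G] {p : ℕ} [Fact p.Prime] (S : Sylow p G) (y : G)
    (hy : y ∈ stab p S) (hyp : orderOf y = p) :
    ∃ Q : Sylow p G, y ∈ Q ∧ Conn p Q S := by
  have hz : IsPGroup p ↥(zpowers (⟨y, hy⟩ : stab p S)) := by
    apply IsPGroup.of_card (n := 1)
    rw [Nat.card_zpowers, pow_one, ← Subgroup.orderOf_coe]
    exact hyp
  obtain ⟨Q, hQ⟩ := hz.exists_le_sylow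
  obtain ⟨h, hh⟩ := MulAction.exists_smul_eq (stab p S) (S.subtype (le_stab S)) Q
  rw [Sylow.smul_subtype] at hh
  refine ⟨(h : G) • S, ?_, h.2⟩
  have h1 : (⟨y, hy⟩ : stab p S) ∈ Q := hQ (mem_zpowers _)
  rw [← hh] at h1
  have h2 := (Sylow.coe_subtype (P := h • S) (Sylow.smul_le (le_stab S) h))
  have h3 : (⟨y, hy⟩ : stab p S) ∈ ((h • S).subtype (Sylow.smul_le (le_stab S) h) : Subgroup (stab p S)) := h1
  rw [h2, mem_subgroupOf] at h3
  exact h3

/-- Let G be a finite group and p a prime. Join two Sylow p-subgroups when they are distinct and meet nontrivially. This graph on the Sylow p-subgroups is disconnected (the Sylow p-subgroups are not chain-connected through nontrivial intersections) if and only if G has a strongly p-embedded subgroup in the classical sense: a proper subgroup H of order divisible by p such that H ∩ gHg⁻¹ has order prime to p for every g outside H. -/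
theorem result {G : Type*} [Group G] [Finite G]
    (p : ℕ) [Fact p.Prime] :
    ¬ Cfsg.IsSylowChainConnected p G ↔
      ∃ H : Subgroup G, H ≠ ⊤ ∧ p ∣ Nat.card H ∧
        ∀ g : G, g ∉ H → ¬ p ∣ Nat.card ↥(H ⊓ H.map (MulAut.conj g).toMonoidHom) := by
  rw [chainConnected_iff]
  constructor
  · intro hnc
    rw [not_forall] at hnc
    obtain ⟨S, hnc⟩ := hnc
    rw [not_forall] at hnc
    obtain ⟨T, hST⟩ := hnc
    obtain ⟨g, hg⟩ := MulAction.exists_smul_eq G S T
    have hSne : (S : Subgroup G) ≠ ⊥ := by
      intro h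
      apply hST
      have : S = T := by
        apply Sylow.ext
        rw [h, eq_comm, eq_bot_iff]
        intro x hx
        have hx' : x ∈ (g • S : Sylow p G) := by rw [hg]; exact hx
        rw [mem_smul_sylow] at hx'
        have hx'' : g⁻¹ * x * g ∈ (S : Subgroup G) := hx'
        rw [h, mem_bot] at hx''
        rw [mem_bot]
        have : x = g * (g⁻¹ * x * g) * g⁻¹ := by group
        rw [this, hx'']; group
      rw [this]
      exact Relation.ReflTransGen.refl
    refine ⟨stab p S, ?_, ?_, ?_⟩
    · intro htop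
      apply hST
      have : g ∈ stab p S := by rw [htop]; trivial
      rw [mem_stab, hg] at this
      exact conn_symm this
    · have h1 : p ∣ Nat.card (S : Subgroup G) := by
        rcases S.isPGroup'.card_eq_or_dvd with h | h
        · exact absurd (Subgroup.card_eq_one.mp h) hSne
        · exact h
      exact h1.trans (card_dvd_of_le (le_stab S))
    · intro k hk hdvd
      apply hk
      obtain ⟨x, hx⟩ := exists_prime_orderOf_dvd_card' p hdvd
      have hxp : orderOf (x : G) = p := by rw [Subgroup.orderOf_coe]; exact hx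
      obtain ⟨hx1, y, hy, hyx⟩ := x.2
      simp only [MulEquiv.coe_toMonoidHom, MulAut.conj_apply] at hyx
      have hyp : orderOf y = p := by
        rw [← hxp, ← hyx]
        have := orderOf_injective (MulAut.conj k).toMonoidHom (MulAut.conj k).injective y
        simpa using this.symm
      obtain ⟨Q, hxQ, hQ⟩ := exists_conn_of_mem_stab S (x : G) hx1 hxp
      obtain ⟨Q', hyQ', hQ'⟩ := exists_conn_of_mem_stab S y hy hyp
      have hxkQ' : (x : G) ∈ (k • Q' : Sylow p G) := by
        rw [mem_smul_sylow, ← hyx]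
        have : k⁻¹ * (k * y * k⁻¹) * k = y := by group
        rw [this]; exact hyQ'
      have hx1' : (x : G) ≠ 1 := by
        intro h
        rw [h, orderOf_one] at hxp
        exact (Fact.out : p.Prime).one_lt.ne hxp
      have hQQ' : Conn p Q (k • Q') := by
        by_cases he : Q = k • Q'
        · rw [he]; exact Relation.ReflTransGen.refl
        · exact Relation.ReflTransGen.single
            ⟨he, (inf_ne_bot_iff _ _).mpr ⟨x, hx1', hxQ, hxkQ'⟩⟩
      rw [mem_stab]
      exact conn_trans (conn_symm (conn_smul k hQ')) (conn_trans (conn_symm hQQ') hQ)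
  · rintro ⟨H, hH, hpH, hse⟩ hconn
    obtain ⟨S, hSH, hSne⟩ := exists_sylow_le p H hpH hse
    obtain ⟨g, hg⟩ : ∃ g : G, g ∉ H := by
      by_contra h
      rw [not_exists] at h
      apply hH
      rw [eq_top_iff]
      intro x _
      by_contra hx
      exact h x hx
    have hgS : ((g • S : Sylow p G) : Subgroup G) ≤ H := le_of_conn p H hse (hconn S (g • S)) hSH
    obtain ⟨h, hh⟩ := MulAction.exists_smul_eq H (S.subtype hSH) ((g • S).subtype hgS)
    rw [Sylow.smul_subtype] at hh
    have h1 : (h : G) • S = g • S := Sylow.subtype_injective hh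
    have h2 : (g⁻¹ * (h : G)) • S = S := by
      rw [mul_smul, h1, inv_smul_smul]
    have h3 : g⁻¹ * (h : G) ∈ normalizer ((S : Subgroup G) : Set G) :=
      Sylow.smul_eq_iff_mem_normalizer.mp h2
    have h4 := S3059.normalizer_le_of_se p H hse S hSH S.isPGroup' hSne h3
    apply hg
    have : g = (h : G) * (g⁻¹ * (h : G))⁻¹ := by group
    rw [this]
    exact H.mul_mem h.2 (H.inv_mem h4)

end Cfsg.Agent.S3056
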