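import Cfsg.Statements.S0852
import Cfsg.Agent.Lib.Helper74.TIFNStar

set_option autoImplicit false
open Cfsg

namespace Cfsg.Agent.S0852

open Cfsg.Agent.Lib.Helper74 Cfsg.Agent.Lib.Helper78 Cfsg.Agent.Lib.Helper75

theorem result {G : Type*} [Group G] [Fintype G] (K : Subgroup G) (hTI : ∀ g : G, g ∉ Subgroup.normalizer (K : Set G) → ∀ k ∈ K, g * k * g⁻¹ ∈ K → k = 1) (hlt : K < Subgroup.normalizer (K : Set G)) (hC : ∀ k ∈ K, k ≠ 1 → Subgroup.centralizer ({k} : Set G) ≤ K) [Fintype ↥(Subgroup.normalizer (K : Set G))] (S : Set (↥(Subgroup.normalizer (K : Set G)) → ℂ)) (hS : S = {χ : ↥(Subgroup.normalizer (K : Set G)) → ℂ | Cfsg.IsIrrCharacter ↥(Subgroup.normalizer (K : Set G)) χ ∧ ∃ k : ↥(Subgroup.normalizer (K : Set G)), (k : G) ∈ K ∧ χ k ≠ χ 1}) (htwo : ∃ χ ∈ S, ∃ ξ ∈ S, χ ≠ ξ) (star : (↥(Subgroup.normalizer (K : Set G)) → ℂ) → (G → ℂ)) (hstar : Cfsg.IsLinearIsometryOn (Cfsg.zspan S) star) (hext : ∀ α ∈ Cfsg.zspanOn S ({1}ᶜ : Set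 ↥(Subgroup.normalizer (K : Set G))), star α = Cfsg.indFun (Subgroup.normalizer (K : Set G)) α) (ψ : G → ℂ) (hψ : Cfsg.IsIrrCharacter G ψ) : (∃ χ ∈ S, ψ = star χ ∨ ψ = -star χ) ↔ ∃ a ∈ K, ∃ b ∈ K, a ≠ 1 ∧ b ≠ 1 ∧ ψ a ≠ ψ b := by
  classical
  have hS' : S = tifnS K := hS
  subst hS'
  have hKN : K ≤ Subgroup.normalizer (K : Set G) := Subgroup.le_normalizer
  constructor
  · rintro ⟨χ, hχ, hψχ⟩
    by_contra hcon
    push Not at hcon
    -- `star χ` is constant on `K#`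
    have hconst : ∀ a ∈ K, ∀ b ∈ K, a ≠ 1 → b ≠ 1 → star χ a = star χ b := by
      intro a ha b hb ha1 hb1
      have := hcon a ha b hb ha1 hb1
      rcases hψχ with h | h
      · rw [h] at this; exact this
      · rw [h] at this
        simpa using this
    -- another member of `S`
    obtain ⟨ξ, hξ, hξχ⟩ : ∃ ξ ∈ tifnS K, ξ ≠ χ := by
      obtain ⟨χ', hχ', ξ', hξ', hne⟩ := htwo
      by_cases h : χ' = χ
      · exact ⟨ξ', hξ', fun h' => hne (h.trans h'.symm)⟩
      · exact ⟨χ', hχ', h⟩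
    obtain ⟨k₀, hk₀, hk₀ne⟩ := hχ.2
    have hk₀1 : k₀ ≠ 1 := fun h => hk₀ne (by rw [h])
    have hk₀1' : (k₀ : G) ≠ 1 := fun h => hk₀1 (Subtype.ext h)
    have h1 : classInner (fun x : ↥(Subgroup.normalizer (K : Set G)) => star χ x) (tifnBeta χ ξ) = 0 := by
      apply classInner_eq_zero_of_const_on_K hC (c := star χ k₀) _ (tifnBeta_mem_zspan hχ hξ)
        (tifnBeta_one hχ hξ)
      intro a ha ha1
      exact hconst a ha k₀ hk₀ (fun h => ha1 (Subtype.ext h)) hk₀1'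
    rw [classInner_res_tifnBeta star hext (star_isClassFunction star hstar hχ) hχ hξ,
      hstar.2.2.1 χ (mem_zspan_of_mem hχ) _ (tifnBeta_mem_zspan hχ hξ),
      classInner_tifnBeta_right, classInner_irr_self hχ.1,
      classInner_irr_ne hχ.1 hξ.1 (fun h => hξχ h.symm), mul_one, mul_zero, sub_zero] at h1
    have := IsIrrCharacter.charDegree_pos hξ.1
    have h2 : (charDegree ξ : ℂ) ≠ 0 := by exact_mod_cast this.ne'
    exact h2 h1
  · rintro ⟨a, ha, b, hb, ha1, hb1, hab⟩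
    by_contra hcon
    push Not at hcon
    -- `ψ` is orthogonal to every `star χ`
    have horth : ∀ χ ∈ tifnS K, classInner ψ (star χ) = 0 := by
      intro χ hχ
      obtain ⟨μ, hμ, h | h⟩ := star_eq_irr_or_neg star hstar hχ
      · rw [h]
        apply classInner_irr_ne hψ hμ
        intro h'
        exact (hcon χ hχ).1 (by rw [h', h])
      · rw [h, Cfsg.Agent.Lib.Helper26.classInner_neg_right, neg_eq_zero]
        apply classInner_irr_ne hψ hμ
        intro h'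
        exact (hcon χ hχ).2 (by rw [h, neg_neg, h'])
    obtain ⟨χ₁, hχ₁, -⟩ := htwo
    have hprop : ∀ χ ∈ tifnS K, ∀ ξ ∈ tifnS K,
        classInner (fun x : ↥(Subgroup.normalizer (K : Set G)) => ψ x) (tifnBeta χ ξ) = 0 := by
      intro χ hχ ξ hξ
      rw [classInner_res_tifnBeta star hext (IsCharacter.isClassFunction
        (IsIrrCharacter.isCharacter hψ)) hχ hξ, classInner_star_tifnBeta_right star hstar hχ hξ,
        horth χ hχ, horth ξ hξ, mul_zero, mul_zero, sub_zero]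
    have hcf : IsClassFunction ↥(Subgroup.normalizer (K : Set G))
        (fun x : ↥(Subgroup.normalizer (K : Set G)) => ψ x) :=
      isClassFunction_res _ (IsCharacter.isClassFunction (IsIrrCharacter.isCharacter hψ))
    have hva := tifn_value_on_K hcf hprop hχ₁ ⟨a, hKN ha⟩ ha (fun h => ha1 (congrArg Subtype.val h))
    have hvb := tifn_value_on_K hcf hprop hχ₁ ⟨b, hKN hb⟩ hb (fun h => hb1 (congrArg Subtype.val h))
    apply hab
    have : ψ a = ψ b := hva.trans hvb.symm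
    exact this

end Cfsg.Agent.S0852
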