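import Cfsg.Statements.S0853
import Cfsg.Agent.Lib.Helper74.TIFNInt

set_option autoImplicit false
open Cfsg

namespace Cfsg.Agent.S0853

open Cfsg.Agent.Lib.Helper74 Cfsg.Agent.Lib.Helper78 Cfsg.Agent.Lib.Helper75

theorem result {G : Type*} [Group G] [Fintype G] (K : Subgroup G) (hTI : ∀ g : G, g ∉ Subgroup.normalizer (K : Set G) → ∀ k ∈ K, g * k * g⁻¹ ∈ K → k = 1) (hlt : K < Subgroup.normalizer (K : Set G)) (hC : ∀ k ∈ K, k ≠ 1 → Subgroup.centralizer ({k} : Set G) ≤ K) [Fintype ↥(Subgroup.normalizer (K : Set G))] (S : Set (↥(Subgroup.normalizer (K : Set G)) → ℂ)) (hS : S = {χ : ↥(Subgroup.normalizer (K : Set G)) → ℂ | Cfsg.IsIrrCharacter ↥(Subgroup.normalizer (K : Set G)) χ ∧ ∃ k : ↥(Subgroup.normalizer (K : Set G)), (k : G) ∈ K ∧ χ k ≠ χ 1}) (htwo : ∃ χ ∈ S, ∃ ξ ∈ S, χ ≠ ξ) (star : (↥(Subgroup.normalizer (K : Set G)) → ℂ) → (G → ℂ)) (hstar : Cfsg.IsLinearIsometryOn (Cfsg.zspan S) star) (hext : ∀ α ∈ Cfsg.zspanOn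 S ({1}ᶜ : Set ↥(Subgroup.normalizer (K : Set G))), star α = Cfsg.indFun (Subgroup.normalizer (K : Set G)) α) : ∃ m : ℤ, ∀ χ ∈ S, ∀ k : ↥(Subgroup.normalizer (K : Set G)), (k : G) ∈ K → k ≠ 1 → star χ k - χ k = (m : ℂ) * χ 1 / ((K.subgroupOf (Subgroup.normalizer (K : Set G))).index : ℂ) := by
  classical
  have hS' : S = tifnS K := hS
  subst hS'
  obtain ⟨χ₁, hχ₁, -⟩ := htwo
  obtain ⟨k₀, hk₀, hk₀ne⟩ := hχ₁.2
  have hk₀1 : k₀ ≠ 1 := fun h => hk₀ne (by rw [h])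
  have F := Cfsg.Agent.Lib.Helper26.irrFacts ↥(Subgroup.normalizer (K : Set G))
  -- the class function `γ = (star χ₁)|_N - χ₁`
  set γ : ↥(Subgroup.normalizer (K : Set G)) → ℂ :=
    (fun x : ↥(Subgroup.normalizer (K : Set G)) => star χ₁ x) - χ₁ with hγdef
  have hcf : IsClassFunction ↥(Subgroup.normalizer (K : Set G)) γ :=
    isClassFunction_sub (isClassFunction_res _ (star_isClassFunction star hstar hχ₁))
      (tifnS_isClassFunction hχ₁)
  have hprop : ∀ χ ∈ tifnS K, ∀ ξ ∈ tifnS K, classInner γ (tifnBeta χ ξ) = 0 := by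
    intro χ hχ ξ hξ
    rw [hγdef, Cfsg.Agent.Lib.Helper26.classInner_sub_left,
      classInner_res_tifnBeta star hext (star_isClassFunction star hstar hχ₁) hχ hξ,
      hstar.2.2.1 χ₁ (mem_zspan_of_mem hχ₁) _ (tifnBeta_mem_zspan hχ hξ), sub_self]
  have hγgen : IsGeneralizedCharacter ↥(Subgroup.normalizer (K : Set G)) γ := by
    obtain ⟨a, b, ha, hb, hab⟩ := hstar.2.2.2 χ₁ (mem_zspan_of_mem hχ₁)
    refine ⟨fun x : ↥(Subgroup.normalizer (K : Set G)) => a x,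
      (fun x : ↥(Subgroup.normalizer (K : Set G)) => b x) + χ₁, isCharacter_res _ ha,
      IsCharacter.add (isCharacter_res _ hb) (IsIrrCharacter.isCharacter hχ₁.1), ?_⟩
    rw [hγdef, hab]
    funext x
    simp only [Pi.sub_apply, Pi.add_apply]
    ring
  have hint : ∀ θ : IrrCharacter ↥(Subgroup.normalizer (K : Set G)),
      ∃ n : ℤ, classInner γ (θ : ↥(Subgroup.normalizer (K : Set G)) → ℂ) = n := fun θ =>
    F.inner_int hγgen (Cfsg.Agent.Lib.Helper26.isGeneralizedCharacter_of_isCharacter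
      (IsIrrCharacter.isCharacter θ.2))
  choose n hn using hint
  obtain ⟨c₁, hc₁⟩ : ∃ c : ℤ, classInner γ χ₁ = c :=
    F.inner_int hγgen (Cfsg.Agent.Lib.Helper26.isGeneralizedCharacter_of_isCharacter
      (IsIrrCharacter.isCharacter hχ₁.1))
  set d₁ : ℕ := charDegree χ₁ with hd₁def
  have hd₁pos : 0 < d₁ := IsIrrCharacter.charDegree_pos hχ₁.1
  set e : ℕ := (K.subgroupOf (Subgroup.normalizer (K : Set G))).index with hedef
  have hepos : 0 < e := Nat.pos_of_ne_zero Subgroup.index_ne_zero_of_finite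
  -- the rational value of `γ` on `K#`
  set r : ℚ := (∑ θ : IrrCharacter ↥(Subgroup.normalizer (K : Set G)),
      if (θ : ↥(Subgroup.normalizer (K : Set G)) → ℂ) ∈ tifnS K then 0
      else (n θ : ℚ) * (charDegree (θ : ↥(Subgroup.normalizer (K : Set G)) → ℂ) : ℚ)) -
    (c₁ : ℚ) / (d₁ : ℚ) * (∑ θ : IrrCharacter ↥(Subgroup.normalizer (K : Set G)),
      if (θ : ↥(Subgroup.normalizer (K : Set G)) → ℂ) ∈ tifnS K then 0
      else ((charDegree (θ : ↥(Subgroup.normalizer (K : Set G)) → ℂ) : ℚ)) ^ 2) with hrdef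
  have hval : ∀ a : ↥(Subgroup.normalizer (K : Set G)), (a : G) ∈ K → a ≠ 1 →
      γ a = ((r : ℚ) : ℂ) := by
    intro a ha ha1
    rw [tifn_value_on_K hcf hprop hχ₁ a ha ha1, hrdef, hc₁]
    simp only [Rat.cast_sub, Rat.cast_mul, Rat.cast_div, Rat.cast_sum,
      apply_ite (Rat.cast : ℚ → ℂ), Rat.cast_zero, Rat.cast_intCast, Rat.cast_natCast,
      Rat.cast_pow, hn]
    rfl
  -- the key relation
  have hkey : ∀ χ ∈ tifnS K, ∀ k : ↥(Subgroup.normalizer (K : Set G)), (k : G) ∈ K → k ≠ 1 →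
      star χ k - χ k = ((charDegree χ : ℚ) * r / (d₁ : ℚ) : ℚ) := by
    intro χ hχ k hk hk1
    have h1 := star_tifnBeta_apply_of_mem star hTI hC hext hχ hχ₁ k hk hk1
    rw [star_tifnBeta_apply star hstar hχ hχ₁, tifnBeta_apply] at h1
    have h2 := hval k hk hk1
    rw [hγdef] at h2
    simp only [Pi.sub_apply] at h2
    have hd₁ne : (d₁ : ℂ) ≠ 0 := by exact_mod_cast hd₁pos.ne'
    push_cast
    field_simp
    rw [← h2]
    linear_combination h1
  set q : ℚ := (e : ℚ) * r / (d₁ : ℚ) with hqdef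
  -- integrality of `q`
  have hqint : ∃ m : ℤ, q = m := by
    haveI : Fintype ↥(K.subgroupOf (Subgroup.normalizer (K : Set G))) := Fintype.ofFinite _
    obtain ⟨φ₁, hφ₁, hχφ⟩ := tifnS_exists_eq_indFun hC hχ₁
    have hφ₁ne : φ₁ ≠ fun _ => 1 := by
      intro h
      apply hk₀ne
      rw [hχφ, h]
      exact indFun_eq_of_forall_eq (K.subgroupOf (Subgroup.normalizer (K : Set G)))
        (K.subgroupOf (Subgroup.normalizer (K : Set G))) le_rfl _ (fun _ _ => rfl) k₀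
        (Subgroup.mem_subgroupOf.mpr hk₀)
    apply rat_isInt_of_forall_mul_degree ↥(K.subgroupOf (Subgroup.normalizer (K : Set G))) q _
      ⟨φ₁, hφ₁⟩ hφ₁ne
    intro φ hφne
    have hmem := indFun_mem_tifnS hC φ.2 hφne
    have h1 := hkey _ hmem k₀ hk₀ hk₀1
    have hdeg := charDegree_indFun_subgroupOf (K := K) (IsIrrCharacter.isCharacter φ.2)
    have hdeg' : charDegree (indFun (K.subgroupOf (Subgroup.normalizer (K : Set G)))
        (φ : ↥(K.subgroupOf (Subgroup.normalizer (K : Set G))) → ℂ)) =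
        e * charDegree (φ : ↥(K.subgroupOf (Subgroup.normalizer (K : Set G))) → ℂ) := by
      exact_mod_cast hdeg
    have h2 : ((q * (charDegree (φ : ↥(K.subgroupOf (Subgroup.normalizer (K : Set G))) → ℂ) : ℚ)
        : ℚ) : ℂ) = star (indFun (K.subgroupOf (Subgroup.normalizer (K : Set G)))
          (φ : ↥(K.subgroupOf (Subgroup.normalizer (K : Set G))) → ℂ)) k₀ -
        indFun (K.subgroupOf (Subgroup.normalizer (K : Set G)))
          (φ : ↥(K.subgroupOf (Subgroup.normalizer (K : Set G))) → ℂ) k₀ := by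
      rw [h1, hdeg', hqdef]
      push_cast
      ring
    have hI : IsIntegral ℤ (((q * (charDegree
        (φ : ↥(K.subgroupOf (Subgroup.normalizer (K : Set G))) → ℂ) : ℚ) : ℚ)) : ℂ) := by
      rw [h2]
      apply IsIntegral.sub
      · obtain ⟨a, b, ha, hb, hab⟩ := hstar.2.2.2 _ (mem_zspan_of_mem hmem)
        rw [hab]
        exact IsIntegral.sub (IsCharacter.isIntegral ha _) (IsCharacter.isIntegral hb _)
      · exact IsCharacter.isIntegral (IsIrrCharacter.isCharacter hmem.1) _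
    obtain ⟨m, hm⟩ := Cfsg.Agent.Lib.Helper3.exists_int_of_isIntegral_ratCast _ hI
    exact ⟨m, hm.symm⟩
  obtain ⟨m, hm⟩ := hqint
  refine ⟨m, ?_⟩
  intro χ hχ k hk hk1
  rw [hkey χ hχ k hk hk1, IsCharacter.apply_one_eq_charDegree (IsIrrCharacter.isCharacter hχ.1)]
  have hm' : ((m : ℚ) : ℂ) = ((q : ℚ) : ℂ) := by rw [hm]
  have hene : (e : ℂ) ≠ 0 := by exact_mod_cast hepos.ne'
  have hd₁ne : (d₁ : ℂ) ≠ 0 := by exact_mod_cast hd₁pos.ne'
  have hm'' : (m : ℂ) = (e : ℂ) * (r : ℂ) / (d₁ : ℂ) := by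
    have : ((m : ℚ) : ℂ) = (m : ℂ) := by push_cast; rfl
    rw [← this, hm', hqdef]
    push_cast
    rfl
  rw [hm'']
  push_cast
  field_simp

end Cfsg.Agent.S0853
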