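import Cfsg.Statements.S3335
import Cfsg.Agent.Lib.Helper55.CarmichaelPerm

set_option autoImplicit false
open Cfsg

namespace Cfsg.Agent.S3335

open Cfsg.Agent.Lib.Helper55 Equiv

/-- A presentation of the alternating group of degree n ≥ 3 on generators x_1, …, x_{n−2} (indexed here by 0, …, n−3): the first generator cubes to 1, every other generator squares to 1, the product of two consecutive generators has order dividing 3, and the product of two generators at distance at least 2 has order dividing 2. The group so presented is isomorphic to the alternating group of degree n. -/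
theorem result (n : ℕ) (hn : 3 ≤ n) :
    Nonempty (PresentedGroup
      ({g : FreeGroup (Fin (n - 2)) | ∃ i : Fin (n - 2), i.val = 0 ∧ g = FreeGroup.of i ^ 3} ∪
       {g | ∃ i : Fin (n - 2), 1 ≤ i.val ∧ g = FreeGroup.of i ^ 2} ∪
       {g | ∃ i j : Fin (n - 2), j.val = i.val + 1 ∧ g = (FreeGroup.of i * FreeGroup.of j) ^ 3} ∪
       {g | ∃ i j : Fin (n - 2), i.val + 1 < j.val ∧ g = (FreeGroup.of i * FreeGroup.of j) ^ 2})
      ≃* alternatingGroup (Fin n)) := by
  classical
  set rels : Set (FreeGroup (Fin (n - 2))) :=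
      ({g : FreeGroup (Fin (n - 2)) | ∃ i : Fin (n - 2), i.val = 0 ∧ g = FreeGroup.of i ^ 3} ∪
       {g | ∃ i : Fin (n - 2), 1 ≤ i.val ∧ g = FreeGroup.of i ^ 2} ∪
       {g | ∃ i j : Fin (n - 2), j.val = i.val + 1 ∧ g = (FreeGroup.of i * FreeGroup.of j) ^ 3} ∪
       {g | ∃ i j : Fin (n - 2), i.val + 1 < j.val ∧ g = (FreeGroup.of i * FreeGroup.of j) ^ 2})
    with hrelsdef
  -- the points of `Fin n`
  let p : ℕ → Fin n := fun i => if h : i < n then ⟨i, h⟩ else ⟨0, by omega⟩
  have hp : ∀ i j, i < n → j < n → p i = p j → i = j := by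
    intro i j hi hj h
    simp only [p, dif_pos hi, dif_pos hj] at h
    exact Fin.mk.inj h
  have hcarmF : IsCarm (carmF p) (n - 2) := isCarm_carmF hp hn
  -- the homomorphism to `Perm (Fin n)`
  let f' : Fin (n - 2) → Perm (Fin n) := fun i => carmF p i.val
  have hrels : ∀ r ∈ rels, FreeGroup.lift f' r = 1 := by
    intro r hr
    rcases hr with ((⟨i, hi, rfl⟩ | ⟨i, hi, rfl⟩) | ⟨i, j, hij, rfl⟩) | ⟨i, j, hij, rfl⟩
    · rw [map_pow, FreeGroup.lift_apply_of]
      show carmF p i.val ^ 3 = 1
      rw [hi]; exact hcarmF.r0 (by have := i.isLt; omega)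
    · rw [map_pow, FreeGroup.lift_apply_of]
      exact hcarmF.r1 i.val hi i.isLt
    · rw [map_pow, map_mul, FreeGroup.lift_apply_of, FreeGroup.lift_apply_of]
      show (carmF p i.val * carmF p j.val) ^ 3 = 1
      rw [hij]; exact hcarmF.r2 i.val (by have := j.isLt; omega)
    · rw [map_pow, map_mul, FreeGroup.lift_apply_of, FreeGroup.lift_apply_of]
      exact hcarmF.r3 i.val j.val hij j.isLt
  let φ : PresentedGroup rels →* Perm (Fin n) := PresentedGroup.toGroup hrels
  -- the abstract side
  let x : ℕ → PresentedGroup rels := fun i =>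
    if h : i < n - 2 then PresentedGroup.of ⟨i, h⟩ else 1
  have hxof : ∀ i : Fin (n - 2), x i.val = PresentedGroup.of i := by
    intro i
    simp only [x, dif_pos i.isLt]
  have hmk : ∀ i : Fin (n - 2), PresentedGroup.mk rels (FreeGroup.of i) = x i.val := by
    intro i; rw [hxof]; rfl
  have hx : IsCarm x (n - 2) := by
    refine ⟨?_, ?_, ?_, ?_⟩
    · intro h0
      have hmem : (FreeGroup.of (⟨0, h0⟩ : Fin (n - 2))) ^ 3 ∈ rels :=
        Or.inl (Or.inl (Or.inl ⟨⟨0, h0⟩, rfl, rfl⟩))
      have := PresentedGroup.one_of_mem hmem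
      rw [map_pow, hmk] at this
      exact this
    · intro i h1 hi
      have hmem : (FreeGroup.of (⟨i, hi⟩ : Fin (n - 2))) ^ 2 ∈ rels :=
        Or.inl (Or.inl (Or.inr ⟨⟨i, hi⟩, h1, rfl⟩))
      have := PresentedGroup.one_of_mem hmem
      rw [map_pow, hmk] at this
      exact this
    · intro i hi
      have hmem : (FreeGroup.of (⟨i, by omega⟩ : Fin (n - 2)) * FreeGroup.of (⟨i + 1, hi⟩ : Fin (n - 2))) ^ 3
          ∈ rels := Or.inl (Or.inr ⟨⟨i, by omega⟩, ⟨i + 1, hi⟩, rfl, rfl⟩)
      have := PresentedGroup.one_of_mem hmem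
      rw [map_pow, map_mul, hmk, hmk] at this
      exact this
    · intro i j hij hj
      have hmem : (FreeGroup.of (⟨i, by omega⟩ : Fin (n - 2)) * FreeGroup.of (⟨j, hj⟩ : Fin (n - 2))) ^ 2
          ∈ rels := Or.inr ⟨⟨i, by omega⟩, ⟨j, hj⟩, hij, rfl⟩
      have := PresentedGroup.one_of_mem hmem
      rw [map_pow, map_mul, hmk, hmk] at this
      exact this
  have htop : carmH x (n - 2) = ⊤ := by
    rw [eq_top_iff, ← PresentedGroup.closure_range_of rels]
    apply Subgroup.closure_mono
    rintro _ ⟨i, rfl⟩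
    exact ⟨i.val, i.isLt, (hxof i).symm⟩
  obtain ⟨hfin, hcard⟩ := hx.card_bound (n - 2) le_rfl
  rw [htop] at hfin hcard
  haveI hPfin : Finite (PresentedGroup rels) := by
    have e : (⊤ : Subgroup (PresentedGroup rels)) ≃ PresentedGroup rels := Subgroup.topEquiv.toEquiv
    exact Finite.of_equiv _ e
  rw [Subgroup.card_top] at hcard
  have hn2 : n - 2 + 2 = n := by omega
  rw [hn2] at hcard
  -- the image
  have hφx : ∀ i, i < n - 2 → φ (x i) = carmF p i := by
    intro i hi
    simp only [x, dif_pos hi]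
    exact PresentedGroup.toGroup.of hrels
  have hrange : φ.range = carmH (carmF p) (n - 2) := by
    rw [MonoidHom.range_eq_map, ← htop]
    unfold carmH
    rw [MonoidHom.map_closure]
    congr 1
    ext g
    constructor
    · rintro ⟨_, ⟨i, hi, rfl⟩, rfl⟩
      exact ⟨i, hi, hφx i hi⟩
    · rintro ⟨i, hi, rfl⟩
      exact ⟨x i, ⟨i, hi, rfl⟩, hφx i hi⟩
  have hlower := carmH_card_lower hp (n - 2) (by omega)
  rw [hn2, ← hrange] at hlower
  -- the image lies in the alternating group
  have hle : φ.range ≤ alternatingGroup (Fin n) := by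
    rw [hrange]
    unfold carmH
    rw [Subgroup.closure_le]
    rintro _ ⟨i, hi, rfl⟩
    rw [SetLike.mem_coe, Equiv.Perm.mem_alternatingGroup]
    exact carmF_sign hp i (by omega)
  haveI : Nontrivial (Fin n) := Fin.nontrivial_iff_two_le.mpr (by omega)
  have hA : 2 * Nat.card (alternatingGroup (Fin n)) = n.factorial := by
    rw [Nat.card_eq_fintype_card, two_mul_card_alternatingGroup, Fintype.card_perm, Fintype.card_fin]
  have h3 : Nat.card φ.range ≤ Nat.card (alternatingGroup (Fin n)) := Subgroup.card_le_of_le hle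
  have h4 : Nat.card φ.range ≤ Nat.card (PresentedGroup rels) :=
    Nat.card_le_card_of_surjective φ.rangeRestrict φ.rangeRestrict_surjective
  have h5 : Nat.card (PresentedGroup rels) ≤ Nat.card φ.range := by omega
  have hbij : Function.Bijective φ.rangeRestrict :=
    Function.Surjective.bijective_of_nat_card_le φ.rangeRestrict_surjective h5
  have hreq : φ.range = alternatingGroup (Fin n) :=
    Subgroup.eq_of_le_of_card_ge hle (by omega)
  exact ⟨(MulEquiv.ofBijective φ.rangeRestrict hbij).trans (MulEquiv.subgroupCongr hreq)⟩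

end Cfsg.Agent.S3335
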