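import Cfsg.Statements.S3370
import Cfsg.Agent.Lib.Helper51.UniqueOrderP
import Cfsg.Agent.Lib.Helper60.GL23
-- import your own Cfsg.Agent.* helpers here

set_option autoImplicit false
open Cfsg

namespace Cfsg.Agent.S3370

set_option linter.unusedSectionVars false
set_option linter.style.haveILetI false

open Cfsg.Agent.Lib.Helper60

/-! ### Number theory -/


/-- Key congruence: if `2^(j+1) ∣ x^2 - 1` then `2^(j+1) ∣ x^(2b+1) - x`. -/
theorem dvd_odd_pow_sub (x : ℤ) (N : ℤ) (b : ℕ) (h : N ∣ x ^ 2 - 1) : N ∣ x ^ (2 * b + 1) - x := by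
  have h1 : x ^ 2 - 1 ∣ (x ^ 2) ^ b - 1 ^ b := sub_dvd_pow_sub_pow (x ^ 2) 1 b
  rw [one_pow] at h1
  have h2 : x ^ (2 * b + 1) - x = x * ((x ^ 2) ^ b - 1) := by
    rw [pow_succ, pow_mul]; ring
  rw [h2]
  exact Dvd.dvd.mul_left (h.trans h1) x

/-- `p^a + 1 = 2^k` with `a` odd forces `a = 1`. -/
theorem exp_one_of_add_one {p a k : ℕ} (hp : 2 ≤ p) (ha : Odd a) (h : p ^ a + 1 = 2 ^ k) : a = 1 := by
  obtain ⟨b, rfl⟩ := ha
  -- p + 1 ∣ 2^k
  have hdvd : p + 1 ∣ 2 ^ k := by
    have := Odd.nat_add_dvd_pow_add_pow p 1 (⟨b, rfl⟩ : Odd (2 * b + 1))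
    rwa [one_pow, h] at this
  obtain ⟨j, hjk, hj⟩ := (Nat.dvd_prime_pow Nat.prime_two).mp hdvd
  -- p is odd
  have hj1 : 1 ≤ j := by
    rcases Nat.eq_zero_or_pos j with h0 | h0
    · rw [h0, pow_zero] at hj; omega
    · exact h0
  -- 2^(j+1) ∣ p^2 - 1
  have hN : ((2 : ℤ) ^ (j + 1)) ∣ (p : ℤ) ^ 2 - 1 := by
    have h1 : ((p : ℤ) ^ 2 - 1) = ((p : ℤ) - 1) * ((p : ℤ) + 1) := by ring
    have h2 : ((p : ℤ) + 1) = 2 ^ j := by exact_mod_cast hj
    have h3 : (2 : ℤ) ∣ (p : ℤ) - 1 := by
      have : (p : ℤ) - 1 = 2 ^ j - 2 := by rw [← h2]; ring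
      rw [this]
      obtain ⟨j', rfl⟩ : ∃ j', j = j' + 1 := ⟨j - 1, by omega⟩
      exact ⟨2 ^ j' - 1, by ring⟩
    rw [h1, h2, pow_succ, mul_comm]
    exact mul_dvd_mul h3 dvd_rfl
  have hN2 := dvd_odd_pow_sub (p : ℤ) _ b hN
  -- 2^k - 2^j divisible by 2^(j+1)
  have h4 : ((2 : ℤ) ^ (j + 1)) ∣ 2 ^ k - 2 ^ j := by
    have h5 : ((2 : ℤ) ^ k - 2 ^ j) = (p : ℤ) ^ (2 * b + 1) - p := by
      have e1 : ((p : ℤ) ^ (2 * b + 1) + 1) = 2 ^ k := by exact_mod_cast h
      have e2 : ((p : ℤ) + 1) = 2 ^ j := by exact_mod_cast hj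
      linarith
    rw [h5]; exact hN2
  -- k = j
  have hkj : k = j := by
    by_contra hne
    have hlt : j + 1 ≤ k := by omega
    have h6 : ((2 : ℤ) ^ (j + 1)) ∣ 2 ^ k := pow_dvd_pow 2 hlt
    have h7 : ((2 : ℤ) ^ (j + 1)) ∣ 2 ^ j := by
      have := dvd_sub h6 h4
      simpa using this
    have h8 : (2 : ℕ) ^ (j + 1) ∣ 2 ^ j := by exact_mod_cast h7
    have := Nat.le_of_dvd (by positivity) h8
    rw [pow_succ] at this
    have : 0 < 2 ^ j := by positivity
    omega
  subst hkj
  -- p^(2b+1) = p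
  have h9 : p ^ (2 * b + 1) = p ^ 1 := by rw [pow_one]; omega
  have := Nat.pow_right_injective hp h9
  omega

/-- `q^k - 1 = 2^a` with `k` odd forces `k = 1`. -/
theorem exp_one_of_sub_one {q k a : ℕ} (hq : 3 ≤ q) (hk : Odd k) (h : q ^ k = 2 ^ a + 1) : k = 1 := by
  obtain ⟨b, rfl⟩ := hk
  have hdvd : q - 1 ∣ 2 ^ a := by
    have h1 := Nat.sub_dvd_pow_sub_pow q 1 (2 * b + 1)
    rw [one_pow, h] at h1
    simpa using h1
  obtain ⟨j, hja, hj⟩ := (Nat.dvd_prime_pow Nat.prime_two).mp hdvd
  have hj1 : 1 ≤ j := by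
    rcases Nat.eq_zero_or_pos j with h0 | h0
    · rw [h0, pow_zero] at hj; omega
    · exact h0
  have hqj : (q : ℤ) = 2 ^ j + 1 := by
    have : q = 2 ^ j + 1 := by omega
    exact_mod_cast this
  have hN : ((2 : ℤ) ^ (j + 1)) ∣ (q : ℤ) ^ 2 - 1 := by
    have h1 : ((q : ℤ) ^ 2 - 1) = ((q : ℤ) + 1) * ((q : ℤ) - 1) := by ring
    have h2 : ((q : ℤ) - 1) = 2 ^ j := by rw [hqj]; ring
    have h3 : (2 : ℤ) ∣ (q : ℤ) + 1 := by
      rw [hqj]
      obtain ⟨j', rfl⟩ : ∃ j', j = j' + 1 := ⟨j - 1, by omega⟩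
      exact ⟨2 ^ j' + 1, by ring⟩
    rw [h1, h2, pow_succ, mul_comm]
    exact mul_dvd_mul h3 dvd_rfl
  have hN2 := dvd_odd_pow_sub (q : ℤ) _ b hN
  have h4 : ((2 : ℤ) ^ (j + 1)) ∣ 2 ^ a - 2 ^ j := by
    have h5 : ((2 : ℤ) ^ a - 2 ^ j) = (q : ℤ) ^ (2 * b + 1) - q := by
      have e1 : ((q : ℤ) ^ (2 * b + 1)) = 2 ^ a + 1 := by exact_mod_cast h
      linarith
    rw [h5]; exact hN2
  have haj : a = j := by
    by_contra hne
    have hlt : j + 1 ≤ a := by omega
    have h6 : ((2 : ℤ) ^ (j + 1)) ∣ 2 ^ a := pow_dvd_pow 2 hlt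
    have h7 : ((2 : ℤ) ^ (j + 1)) ∣ 2 ^ j := by
      have := dvd_sub h6 h4
      simpa using this
    have h8 : (2 : ℕ) ^ (j + 1) ∣ 2 ^ j := by exact_mod_cast h7
    have := Nat.le_of_dvd (by positivity) h8
    rw [pow_succ] at this
    have : 0 < 2 ^ j := by positivity
    omega
  subst haj
  have h9 : q ^ (2 * b + 1) = q ^ 1 := by rw [pow_one]; omega
  have := Nat.pow_right_injective (by omega : 2 ≤ q) h9
  omega

/-- `2^k - 1 = p^a` (`a ≥ 1`, `p ≥ 2`) forces `a = 1`. -/
theorem nt1 {p a k : ℕ} (hp : 2 ≤ p) (ha : 1 ≤ a) (h : 2 ^ k = p ^ a + 1) : a = 1 := by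
  rcases Nat.even_or_odd a with hev | hodd
  · exfalso
    obtain ⟨c, rfl⟩ := hev
    have hc : 1 ≤ c := by omega
    obtain ⟨s, hs⟩ : ∃ s, s = p ^ c := ⟨_, rfl⟩
    have hss : p ^ (c + c) = s * s := by rw [pow_add, hs]
    rw [hss] at h
    have hs2 : 2 ≤ s := by
      rw [hs]
      calc 2 ≤ p := hp
        _ = p ^ 1 := (pow_one p).symm
        _ ≤ p ^ c := Nat.pow_le_pow_right (by omega) hc
    -- k ≥ 2
    have hk : 2 ≤ k := by
      by_contra hk
      have : k = 0 ∨ k = 1 := by omega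
      rcases this with rfl | rfl
      · simp at h
        omega
      · have : s * s ≥ 2 * 2 := Nat.mul_le_mul hs2 hs2
        omega
    obtain ⟨k', rfl⟩ : ∃ k', k = k' + 2 := ⟨k - 2, by omega⟩
    rw [pow_add] at h
    rcases Nat.even_or_odd s with ⟨u, hu⟩ | ⟨u, hu⟩
    · rw [hu] at h
      have : (u + u) * (u + u) = 4 * (u * u) := by ring
      omega
    · rw [hu] at h
      have : (2 * u + 1) * (2 * u + 1) = 4 * (u * u + u) + 1 := by ring
      omega
  · exact exp_one_of_add_one hp hodd h.symm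

/-- `q^k - 1 = 2^a` (`q` an odd prime, `k ≥ 1`) forces `k = 1` or `q = 3, k = 2`. -/
theorem nt2 {q k a : ℕ} (hq : q.Prime) (hq2 : q ≠ 2) (hk : 1 ≤ k) (h : q ^ k = 2 ^ a + 1) :
    k = 1 ∨ (q = 3 ∧ k = 2) := by
  have hq3 : 3 ≤ q := by
    have := hq.two_le
    omega
  rcases Nat.even_or_odd k with hev | hodd
  · right
    obtain ⟨c, rfl⟩ := hev
    have hc : 1 ≤ c := by omega
    obtain ⟨y, hy⟩ : ∃ y, y = q ^ c := ⟨_, rfl⟩
    have hyy : q ^ (c + c) = y * y := by rw [pow_add, hy]
    rw [hyy] at h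
    have hy3 : 3 ≤ y := by
      rw [hy]
      calc 3 ≤ q := hq3
        _ = q ^ 1 := (pow_one q).symm
        _ ≤ q ^ c := Nat.pow_le_pow_right (by omega) hc
    have hfac : (y - 1) * (y + 1) = 2 ^ a := by
      have : (y - 1) * (y + 1) + 1 = y * y := by
        obtain ⟨z, hz⟩ : ∃ z, y = z + 1 := ⟨y - 1, by omega⟩
        rw [hz]
        simp; ring
      omega
    obtain ⟨u, _, hu⟩ := (Nat.dvd_prime_pow Nat.prime_two).mp (Dvd.intro _ hfac)
    obtain ⟨v, _, hv⟩ := (Nat.dvd_prime_pow Nat.prime_two).mp (Dvd.intro_left _ hfac)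
    have huv : 2 ^ v = 2 ^ u + 2 := by omega
    have hu1 : u = 1 := by
      by_contra hne
      rcases Nat.lt_or_ge u 1 with h0 | h2
      · have : u = 0 := by omega
        rw [this] at hu; omega
      · obtain ⟨u', rfl⟩ : ∃ u', u = u' + 2 := ⟨u - 2, by omega⟩
        have hv3 : 3 ≤ v := by
          by_contra hv3
          have : 2 ^ v ≤ 2 ^ 2 := Nat.pow_le_pow_right (by omega) (by omega)
          have : 2 ^ (u' + 2) ≥ 2 ^ 2 := Nat.pow_le_pow_right (by omega) (by omega)
          omega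
        obtain ⟨v', rfl⟩ : ∃ v', v = v' + 2 := ⟨v - 2, by omega⟩
        rw [pow_add, pow_add] at huv
        omega
    rw [hu1] at hu
    have hy3' : y = 3 := by omega
    have hdvd : q ∣ 3 := by
      rw [← hy3', hy]
      exact dvd_pow_self q (by omega)
    have hq' : q = 3 := (Nat.prime_dvd_prime_iff_eq hq Nat.prime_three).mp hdvd
    refine ⟨hq', ?_⟩
    rw [hq'] at hy
    have h1 : 3 ^ c = 3 ^ 1 := by rw [pow_one, ← hy]; exact hy3'
    have := Nat.pow_right_injective (le_refl 2 |>.trans (by norm_num : 2 ≤ 3)) h1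
    omega
  · left
    exact exp_one_of_sub_one hq3 hodd h


/-! ### The plane over the field with three elements -/


section
variable {G : Type*} [Group G] [Finite G] (φ : G →* M3)

/-- The action of `G` on `W3` through `φ`. -/
@[reducible] def actW : MulAction G W3 where
  smul g x := (φ g).mulVec x
  one_smul x := by
    show (φ 1).mulVec x = x
    rw [map_one, Matrix.one_mulVec]
  mul_smul g h x := by
    show (φ (g * h)).mulVec x = (φ g).mulVec ((φ h).mulVec x)
    rw [map_mul, Matrix.mulVec_mulVec]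

theorem phi_pow8 (hG : IsPGroup 2 G) (g : G) : (φ g) ^ 8 = 1 := by
  obtain ⟨k, hk⟩ := hG g
  apply pow8_of_pow _ k
  rw [← map_pow, hk, map_one]

theorem smul_ne_zero' (g : G) {x : W3} (hx : x ≠ 0) : (φ g).mulVec x ≠ 0 := by
  intro h
  apply hx
  have : (φ g⁻¹).mulVec ((φ g).mulVec x) = x := by
    rw [Matrix.mulVec_mulVec, ← map_mul, inv_mul_cancel, map_one, Matrix.one_mulVec]
  rw [← this, h, Matrix.mulVec_zero]

variable (hφ : Function.Injective φ)
  (htr : ∀ x y : W3, x ≠ 0 → y ≠ 0 → ∃ g : G, (φ g).mulVec x = y)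

include htr in
theorem orbit_eq {x : W3} (hx : x ≠ 0) :
    letI := actW φ
    MulAction.orbit G x = {y | y ≠ 0} := by
  letI := actW φ
  ext y
  constructor
  · rintro ⟨g, rfl⟩
    exact smul_ne_zero' φ g hx
  · intro hy
    obtain ⟨g, hg⟩ := htr x y hx hy
    exact ⟨g, hg⟩

include htr in
theorem card_eq {x : W3} (hx : x ≠ 0) :
    letI := actW φ
    8 * Nat.card (MulAction.stabilizer G x) = Nat.card G := by
  letI := actW φ
  have h1 := Nat.card_congr (MulAction.orbitProdStabilizerEquivGroup G x)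
  rw [Nat.card_prod, orbit_eq φ htr hx, card_nonzero] at h1
  exact h1

include hφ in
theorem stab_two (hG : IsPGroup 2 G) {x : W3} (hx : x ≠ 0) (g h : G)
    (hg : (φ g).mulVec x = x) (hh : (φ h).mulVec x = x) : g = 1 ∨ h = 1 ∨ g = h := by
  by_cases hg1 : g = 1
  · exact Or.inl hg1
  by_cases hh1 : h = 1
  · exact Or.inr (Or.inl hh1)
  right; right
  apply hφ
  apply D2 (φ g) (φ h) (phi_pow8 φ hG g) (fun h' => hg1 (hφ (by rw [h', map_one])))
    (phi_pow8 φ hG h) (fun h' => hh1 (hφ (by rw [h', map_one]))) ⟨x, hx, hg, hh⟩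
  rw [← map_mul]
  exact phi_pow8 φ hG (g * h)

include hφ in
theorem card_stab_le (hG : IsPGroup 2 G) {x : W3} (hx : x ≠ 0) :
    letI := actW φ
    Nat.card (MulAction.stabilizer G x) ≤ 2 := by
  letI := actW φ
  classical
  have hinj : Function.Injective (fun s : MulAction.stabilizer G x => decide ((s : G) = 1)) := by
    intro s t hst
    have hs : (φ (s : G)).mulVec x = x := s.2
    have ht : (φ (t : G)).mulVec x = x := t.2
    simp only [decide_eq_decide] at hst
    rcases stab_two φ hφ hG hx s t hs ht with h | h | h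
    · have := hst.mp h
      exact Subtype.ext (h.trans this.symm)
    · have := hst.mpr h
      exact Subtype.ext (this.trans h.symm)
    · exact Subtype.ext h
  have := Nat.card_le_card_of_injective _ hinj
  simpa using this

/-- Involutions without fixed vectors are `-1`. -/
theorem invol_eq {t : G} (ht : t * t = 1) (ht1 : t ≠ 1)
    (hfix : ∀ x : W3, x ≠ 0 → (φ t).mulVec x ≠ x) (hφ : Function.Injective φ) : φ t = -1 := by
  have h1 : φ t * φ t = 1 := by rw [← map_mul, ht, map_one]
  rcases D3 (φ t) h1 with h | h | ⟨x, hx, hxx⟩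
  · exact absurd (hφ (by rw [h, map_one])) ht1
  · exact h
  · exact absurd hxx (hfix x hx)

include hφ htr in
/-- The case `|G| = 8`. -/
theorem case_eight (hG : IsPGroup 2 G) (h8 : Nat.card G = 8) :
    IsCyclic G ∨ Nonempty (G ≃* QuaternionGroup 2) := by
  letI := actW φ
  -- stabilisers are trivial
  have hstab : ∀ x : W3, x ≠ 0 → ∀ g : G, (φ g).mulVec x = x → g = 1 := by
    intro x hx g hg
    have h1 := card_eq φ htr hx
    rw [h8] at h1
    have h2 : Nat.card (MulAction.stabilizer G x) = 1 := by omega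
    have h3 : (⟨g, hg⟩ : MulAction.stabilizer G x) = 1 := by
      have := (Nat.card_eq_one_iff_unique.mp h2).1
      exact Subsingleton.elim _ _
    exact congrArg Subtype.val h3
  -- unique involution
  have hinv : ∀ t : G, t * t = 1 → t ≠ 1 → φ t = -1 := by
    intro t ht ht1
    apply invol_eq φ ht ht1 _ hφ
    intro x hx hxx
    exact ht1 (hstab x hx t hxx)
  have huniq : ∀ H K : Subgroup G, Nat.card H = 2 → Nat.card K = 2 → H = K := by
    have key : ∀ H : Subgroup G, Nat.card H = 2 → ∃ t : G, t * t = 1 ∧ t ≠ 1 ∧ H = Subgroup.zpowers t := by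
      intro H hH
      haveI : Fact (Nat.Prime 2) := ⟨Nat.prime_two⟩
      haveI := isCyclic_of_prime_card hH
      obtain ⟨t, ht⟩ := IsCyclic.exists_generator (α := H)
      have hot : orderOf t = 2 := by
        rw [orderOf_eq_card_of_forall_mem_zpowers ht, hH]
      refine ⟨(t : G), ?_, ?_, ?_⟩
      · have : t ^ 2 = 1 := by rw [← hot]; exact pow_orderOf_eq_one t
        have := congrArg Subtype.val this
        simpa [pow_two] using this
      · intro h1
        have : t = 1 := Subtype.ext h1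
        rw [this, orderOf_one] at hot
        omega
      · ext y
        constructor
        · intro hy
          obtain ⟨k, hk⟩ := ht ⟨y, hy⟩
          refine ⟨k, ?_⟩
          have := congrArg Subtype.val hk
          simpa using this
        · rintro ⟨k, rfl⟩
          exact H.zpow_mem t.2 k
    intro H K hH hK
    obtain ⟨t, ht, ht1, rfl⟩ := key H hH
    obtain ⟨s, hs, hs1, rfl⟩ := key K hK
    have : t = s := hφ ((hinv t ht ht1).trans (hinv s hs hs1).symm)
    rw [this]
  haveI : Fact (Nat.Prime 2) := ⟨Nat.prime_two⟩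
  rcases Cfsg.Agent.Lib.Helper51.cyclic_or_quaternion_of_uniqueOrderP 2 hG huniq with h | ⟨_, n, ⟨e⟩⟩
  · exact Or.inl h
  · right
    have hc := Nat.card_congr e.toEquiv
    haveI : NeZero (2 ^ n) := ⟨by positivity⟩
    rw [h8, Nat.card_eq_fintype_card, QuaternionGroup.card] at hc
    have hn : n = 1 := by
      have h2 : 2 ^ n = 2 ^ 1 := by omega
      exact Nat.pow_right_injective (le_refl 2) h2
    subst hn
    exact ⟨e⟩

include hφ htr in
/-- The case `|G| = 16`. -/
theorem case_sixteen (hG : IsPGroup 2 G) (h16 : Nat.card G = 16) : Cfsg.IsQuasiDihedral G := by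
  classical
  letI := actW φ
  haveI : Fintype G := Fintype.ofFinite G
  haveI : Fact (Nat.Prime 2) := ⟨Nat.prime_two⟩
  have hpow8 : ∀ g : G, g ^ 8 = 1 := fun g => hφ (by rw [map_pow, phi_pow8 φ hG g, map_one])
  -- Step 1: an element with `x₀ ^ 4 ≠ 1`
  have hex : ∃ x₀ : G, x₀ ^ 4 ≠ 1 := by
    by_contra hno
    push Not at hno
    let P : G → Prop := fun g => ∃ x : W3, x ≠ 0 ∧ (φ g).mulVec x = x
    have hsplit := Finset.card_filter_add_card_filter_not
      (s := (Finset.univ : Finset G)) P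
    have hB : (Finset.univ.filter (fun g => ¬ P g)).card ≤ 7 := by
      rw [← D4]
      apply Finset.card_le_card_of_injOn φ
      · intro g hg
        simp only [Finset.coe_filter, Finset.mem_univ, true_and, Set.mem_ofPred_eq] at hg ⊢
        refine ⟨by rw [← map_pow, hno g, map_one], ?_⟩
        intro x hx hxx
        exact hg ⟨x, hx, hxx⟩
      · exact hφ.injOn
    set U : Finset G := R4.biUnion
      (fun r => Finset.univ.filter (fun g : G => g ≠ 1 ∧ (φ g).mulVec r = r)) with hU
    have hA : (Finset.univ.filter P).card ≤ 5 := by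
      have hsub : Finset.univ.filter P ⊆ insert 1 U := by
        intro g hg
        rw [Finset.mem_filter] at hg
        obtain ⟨_, x, hx, hxx⟩ := hg
        by_cases hg1 : g = 1
        · rw [hg1]; exact Finset.mem_insert_self _ _
        · apply Finset.mem_insert_of_mem
          rw [hU, Finset.mem_biUnion]
          rcases D6 x hx with hr | hr
          · exact ⟨x, hr, by rw [Finset.mem_filter]; exact ⟨Finset.mem_univ _, hg1, hxx⟩⟩
          · refine ⟨-x, hr, ?_⟩
            rw [Finset.mem_filter]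
            exact ⟨Finset.mem_univ _, hg1, by rw [Matrix.mulVec_neg, hxx]⟩
      have h1 := Finset.card_le_card hsub
      have h2 := Finset.card_insert_le (1 : G) U
      have h3 : U.card ≤ 4 := by
        calc U.card ≤ ∑ r ∈ R4, (Finset.univ.filter
              (fun g : G => g ≠ 1 ∧ (φ g).mulVec r = r)).card := Finset.card_biUnion_le
          _ ≤ ∑ r ∈ R4, 1 := by
              apply Finset.sum_le_sum
              intro r hr
              rw [Finset.card_le_one]
              intro a ha b hb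
              rw [Finset.mem_filter] at ha hb
              rcases stab_two φ hφ hG (R4_ne r hr) a b ha.2.2 hb.2.2 with h | h | h
              · exact absurd h ha.2.1
              · exact absurd h hb.2.1
              · exact h
          _ = 4 := by simp [R4_card]
      omega
    have hc : Fintype.card G = 16 := by rw [← Nat.card_eq_fintype_card]; exact h16
    rw [Finset.card_univ] at hsplit
    omega
  obtain ⟨x₀, hx₀⟩ := hex
  have hord : orderOf x₀ = 8 := by
    have := orderOf_eq_prime_pow (p := 2) (n := 2) (x := x₀) (by norm_num; exact hx₀)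
      (by norm_num; exact hpow8 x₀)
    simpa using this
  -- `⟨x₀⟩` is normal of index two
  have hidx : (Subgroup.zpowers x₀).index = 2 := by
    have h1 := Subgroup.card_mul_index (Subgroup.zpowers x₀)
    rw [Nat.card_zpowers, hord, h16] at h1
    omega
  haveI hnorm : (Subgroup.zpowers x₀).Normal := Subgroup.normal_of_index_eq_two hidx
  -- a reflection
  have he : (![1, 0] : W3) ≠ 0 := by decide
  have hst : Nat.card (MulAction.stabilizer G (![1, 0] : W3)) = 2 := by
    have := card_eq φ htr he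
    omega
  obtain ⟨t, ht1⟩ : ∃ t : MulAction.stabilizer G (![1, 0] : W3), t ≠ 1 := by
    haveI : Nontrivial (MulAction.stabilizer G (![1, 0] : W3)) := by
      rw [← Finite.one_lt_card_iff_nontrivial, hst]; omega
    exact exists_ne 1
  have htt : (t : G) * t = 1 := by
    have h1 : t ^ Nat.card (MulAction.stabilizer G (![1, 0] : W3)) = 1 := pow_card_eq_one'
    rw [hst, pow_two] at h1
    exact congrArg Subtype.val h1
  have htG1 : (t : G) ≠ 1 := fun h => ht1 (Subtype.ext h)
  have htfix : (φ (t : G)).mulVec ![1, 0] = ![1, 0] := t.2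
  have hB1 : φ (t : G) ≠ 1 := fun h => htG1 (hφ (by rw [h, map_one]))
  have hBm : φ (t : G) ≠ -1 := by
    intro h
    rw [h] at htfix
    exact neg_one_mulVec_ne _ he htfix
  have hBB : φ (t : G) * φ (t : G) = 1 := by rw [← map_mul, htt, map_one]
  have htinv : (t : G)⁻¹ = t := inv_eq_of_mul_eq_one_right htt
  -- conjugation
  have hconj : (t : G) * x₀ * (t : G)⁻¹ ∈ Subgroup.zpowers x₀ :=
    hnorm.conj_mem x₀ (Subgroup.mem_zpowers x₀) t
  obtain ⟨k, hk⟩ := Subgroup.mem_zpowers_iff.mp hconj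
  have hk' : x₀ ^ (k % 8).toNat = (t : G) * x₀ * (t : G)⁻¹ := by
    rw [← hk, ← zpow_natCast, Int.toNat_of_nonneg (Int.emod_nonneg k (by norm_num))]
    have := zpow_mod_orderOf x₀ k
    rw [hord] at this
    exact_mod_cast this
  have hlt : (k % 8).toNat < 8 := by
    have h1 := Int.emod_lt_of_pos k (by norm_num : (0 : ℤ) < 8)
    have h2 := Int.emod_nonneg k (by norm_num : (8 : ℤ) ≠ 0)
    omega
  have hA8 : φ x₀ ^ 8 = 1 := phi_pow8 φ hG x₀
  have hA4 : φ x₀ ^ 4 ≠ 1 := by
    intro h
    apply hx₀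
    apply hφ
    rw [map_pow, h, map_one]
  have hmat : φ (t : G) * φ x₀ * φ (t : G) = φ x₀ ^ ((⟨(k % 8).toNat, hlt⟩ : Fin 8) : ℕ) := by
    show φ (t : G) * φ x₀ * φ (t : G) = φ x₀ ^ (k % 8).toNat
    rw [← map_pow, hk', htinv, map_mul, map_mul]
  have hi := D5 (φ x₀) (φ (t : G)) hA8 hA4 hBB hB1 hBm ⟨(k % 8).toNat, hlt⟩ hmat
  have hi3 : (k % 8).toNat = 3 := by
    have := congrArg Fin.val hi
    simpa using this
  rw [hi3] at hk'
  refine ⟨3, le_refl 3, by rw [h16]; norm_num, x₀, (t : G), by rw [hord]; norm_num, ?_, ?_⟩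
  · exact orderOf_eq_prime (by rw [pow_two]; exact htt) htG1
  · rw [← hk']; norm_num

end


/-! ### The general action -/


section general
variable {q : ℕ} [Fact q.Prime] {V : Type*} [AddCommGroup V] [Module (ZMod q) V] [Finite V]
  {G : Type*} [Group G] [Finite G] (ρ : G →* (V ≃ₗ[ZMod q] V))

/-- The action of `G` on `V` through `ρ`. -/
@[reducible] def actV : MulAction G V where
  smul g v := ρ g v
  one_smul v := by
    show ρ 1 v = v
    rw [map_one]; rfl
  mul_smul g h v := by
    show ρ (g * h) v = ρ g (ρ h v)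
    rw [map_mul]; rfl

variable (hρ : Function.Injective ρ)
  (htrans : ∀ v w : V, v ≠ 0 → w ≠ 0 → ∃ g : G, ρ g v = w)

include htrans in
theorem orbit_eqV {v : V} (hv : v ≠ 0) :
    letI := actV ρ
    MulAction.orbit G v = {w | w ≠ 0} := by
  letI := actV ρ
  ext w
  constructor
  · rintro ⟨g, rfl⟩
    show ρ g v ≠ 0
    intro h
    exact hv ((ρ g).map_eq_zero_iff.mp h)
  · intro hw
    obtain ⟨g, hg⟩ := htrans v w hv hw
    exact ⟨g, hg⟩

theorem card_nonzeroV : Nat.card {w : V | w ≠ 0} = Nat.card V - 1 := by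
  have h1 : {w : V | w ≠ 0} = ({0} : Set V)ᶜ := by ext w; simp
  rw [h1, Nat.card_coe_set_eq, Set.ncard_compl, Set.ncard_singleton]

include htrans in
theorem card_eqV {v : V} (hv : v ≠ 0) :
    letI := actV ρ
    (Nat.card V - 1) * Nat.card (MulAction.stabilizer G v) = Nat.card G := by
  letI := actV ρ
  have h1 := Nat.card_congr (MulAction.orbitProdStabilizerEquivGroup G v)
  rw [Nat.card_prod, orbit_eqV ρ htrans hv, card_nonzeroV] at h1
  exact h1

include hρ in
/-- An element fixing all nonzero vectors is trivial. -/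
theorem eq_one_of_fix {g : G} (h : ∀ w : V, w ≠ 0 → ρ g w = w) : g = 1 := by
  apply hρ
  rw [map_one]
  ext w
  by_cases hw : w = 0
  · rw [hw, map_zero, map_zero]
  · rw [h w hw]; rfl

include hρ htrans in
/-- The case `q = 2`, `|V| - 1 = p`: the group has order `p`. -/
theorem card_of_prime {p : ℕ} [hp : Fact p.Prime] (hG : IsPGroup p G)
    (hV : Nat.card V - 1 = p) : Nat.card G = p := by
  letI := actV ρ
  obtain ⟨v, hv⟩ : ∃ v : V, v ≠ 0 := by
    by_contra hno
    push Not at hno
    have : Nat.card V ≤ 1 := by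
      rw [Finite.card_le_one_iff_subsingleton]
      exact ⟨fun a b => by rw [hno a, hno b]⟩
    have := hp.out.two_le
    omega
  have hce := card_eqV ρ htrans hv
  rw [hV] at hce
  suffices hs : Nat.card (MulAction.stabilizer G v) = 1 by rw [hs, mul_one] at hce; exact hce.symm
  rw [Nat.card_eq_one_iff_unique]
  refine ⟨⟨fun a b => ?_⟩, ⟨1⟩⟩
  suffices key : ∀ g : G, ρ g v = v → g = 1 by
    apply Subtype.ext
    rw [key a a.2, key b b.2]
  intro g hg
  apply eq_one_of_fix ρ hρ
  intro w hw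
  by_cases hwv : w = v
  · rw [hwv]; exact hg
  -- the orbit of `w` under `⟨g⟩`
  have hZ : IsPGroup p (Subgroup.zpowers g) := hG.to_subgroup _
  obtain ⟨n, hn⟩ := hZ.card_orbit w
  have hsub : (MulAction.orbit (Subgroup.zpowers g) w) ⊆ ({0, v} : Set V)ᶜ := by
    rintro _ ⟨⟨z, k, rfl⟩, rfl⟩
    show (g ^ k) • w ∈ ({0, v} : Set V)ᶜ
    rw [Set.mem_compl_iff, Set.mem_insert_iff, Set.mem_singleton_iff, not_or]
    have hgk : ρ (g ^ k) v = v := by
      have : g ^ k ∈ MulAction.stabilizer G v :=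
        Subgroup.zpow_mem _ (show g ∈ MulAction.stabilizer G v from hg) k
      exact this
    constructor
    · intro h
      exact hw ((ρ (g ^ k)).map_eq_zero_iff.mp h)
    · intro h
      apply hwv
      have h2 : ρ (g ^ k) w = ρ (g ^ k) v := h.trans hgk.symm
      exact (ρ (g ^ k)).injective h2
  have hcard : Nat.card (MulAction.orbit (Subgroup.zpowers g) w) ≤ p - 1 := by
    rw [Nat.card_coe_set_eq]
    calc (MulAction.orbit (Subgroup.zpowers g) w).ncard ≤ (({0, v} : Set V)ᶜ).ncard :=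
          Set.ncard_le_ncard hsub (Set.toFinite _)
      _ = Nat.card V - 2 := by
          rw [Set.ncard_compl, Set.ncard_pair (Ne.symm hv)]
      _ = p - 1 := by omega
  have hn0 : n = 0 := by
    by_contra hne
    have h1 : p ^ 1 ≤ p ^ n := Nat.pow_le_pow_right hp.out.pos (by omega)
    rw [pow_one, ← hn] at h1
    have := hp.out.two_le
    omega
  rw [hn0, pow_zero, Nat.card_eq_one_iff_unique] at hn
  have h1 : (⟨g, Subgroup.mem_zpowers g⟩ : Subgroup.zpowers g) • w ∈
      MulAction.orbit (Subgroup.zpowers g) w := MulAction.mem_orbit _ _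
  have h2 : w ∈ MulAction.orbit (Subgroup.zpowers g) w := MulAction.mem_orbit_self _
  have := hn.1.elim ⟨_, h1⟩ ⟨_, h2⟩
  exact congrArg Subtype.val this

end general



section general
variable {q : ℕ} [Fact q.Prime] {V : Type*} [AddCommGroup V] [Module (ZMod q) V] [Finite V]
  {G : Type*} [Group G] [Finite G] (ρ : G →* (V ≃ₗ[ZMod q] V))

variable (hρ : Function.Injective ρ)

include hρ in
/-- The case `|V| = q`: the group is cyclic and acts semiregularly. -/
theorem cyclic_of_card_eq (hV : Nat.card V = q) {v₀ : V} (hv₀ : v₀ ≠ 0) :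
    IsCyclic G ∧ ∀ g : G, ρ g v₀ = v₀ → g = 1 := by
  have hq : Nat.card (ZMod q) = q := Nat.card_zmod q
  have hinj : Function.Injective (fun c : ZMod q => c • v₀) := smul_left_injective (ZMod q) hv₀
  have hbij : Function.Bijective (fun c : ZMod q => c • v₀) :=
    hinj.bijective_of_nat_card_le (by rw [hV, hq])
  have hsurj := hbij.2
  -- the scalar of `g`
  choose c hc using fun g : G => hsurj (ρ g v₀)
  have hc' : ∀ g : G, c g • v₀ = ρ g v₀ := hc
  have hone : c 1 = 1 := by
    apply hinj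
    show c 1 • v₀ = (1 : ZMod q) • v₀
    rw [hc', map_one, one_smul]; rfl
  have hmul : ∀ g h : G, c (g * h) = c g * c h := by
    intro g h
    apply hinj
    show c (g * h) • v₀ = (c g * c h) • v₀
    rw [hc', map_mul]
    show ρ g (ρ h v₀) = _
    rw [← hc' h, map_smul, ← hc' g, smul_smul, mul_comm]
  let χ : G →* ZMod q := { toFun := c, map_one' := hone, map_mul' := hmul }
  have hagree : ∀ g h : G, c g = c h → g = h := by
    intro g h hgh
    apply hρ
    ext w
    obtain ⟨d, rfl⟩ := hsurj w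
    show ρ g (d • v₀) = ρ h (d • v₀)
    rw [map_smul, map_smul, ← hc' g, ← hc' h, hgh]
  have hχ : Function.Injective χ := fun g h hgh => hagree g h hgh
  refine ⟨isCyclic_of_injective_ringHom χ hχ, ?_⟩
  intro g hg
  apply hagree
  rw [hone]
  apply hinj
  show c g • v₀ = (1 : ZMod q) • v₀
  rw [hc', hg, one_smul]

end general



/-! ### The plane: combining the two cases -/

section
variable {G : Type*} [Group G] [Finite G] (φ : G →* M3)

theorem case_nine (hG : IsPGroup 2 G) (hφ : Function.Injective φ)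
    (htr : ∀ x y : W3, x ≠ 0 → y ≠ 0 → ∃ g : G, (φ g).mulVec x = y) :
    (IsCyclic G ∧ Nat.card G = 8) ∨ Nonempty (G ≃* QuaternionGroup 2) ∨
      (Cfsg.IsQuasiDihedral G ∧ Nat.card G = 16) := by
  letI := actW φ
  have he : (![1, 0] : W3) ≠ 0 := by decide
  have h1 := card_eq φ htr he
  have h2 := card_stab_le φ hφ hG he
  have h3 : 0 < Nat.card (MulAction.stabilizer G (![1, 0] : W3)) := Nat.card_pos
  have h4 : Nat.card G = 8 ∨ Nat.card G = 16 := by omega
  rcases h4 with h8 | h16
  · rcases case_eight φ hφ htr hG h8 with h | h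
    · exact Or.inl ⟨h, h8⟩
    · exact Or.inr (Or.inl h)
  · exact Or.inr (Or.inr ⟨case_sixteen φ hφ htr hG h16, h16⟩)

end

/-! ### Transport to coordinates -/

section transport
variable {V : Type*} [AddCommGroup V] [Module (ZMod 3) V]
  {G : Type*} [Group G] (ρ : G →* (V ≃ₗ[ZMod 3] V)) (e : V ≃ₗ[ZMod 3] W3)

/-- The matrix of a linear automorphism in the coordinates `e`. -/
noncomputable def matOf (T : V ≃ₗ[ZMod 3] V) : M3 :=
  LinearMap.toMatrix' ((e.toLinearMap ∘ₗ T.toLinearMap) ∘ₗ e.symm.toLinearMap)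

theorem matOf_mulVec (T : V ≃ₗ[ZMod 3] V) (x : W3) :
    (matOf e T).mulVec x = e (T (e.symm x)) := by
  rw [matOf, ← Matrix.toLin'_apply, Matrix.toLin'_toMatrix']
  rfl

/-- The matrix representation attached to `ρ` and the coordinates `e`. -/
noncomputable def phiOf : G →* M3 where
  toFun g := matOf e (ρ g)
  map_one' := mat_ext (fun x => by
    rw [matOf_mulVec, map_one, Matrix.one_mulVec]
    show e (e.symm x) = x
    exact e.apply_symm_apply x)
  map_mul' g h := mat_ext (fun x => by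
    rw [← Matrix.mulVec_mulVec, matOf_mulVec, matOf_mulVec, matOf_mulVec, map_mul,
      e.symm_apply_apply]
    rfl)

theorem phiOf_mulVec (g : G) (x : W3) : (phiOf ρ e g).mulVec x = e (ρ g (e.symm x)) :=
  matOf_mulVec e (ρ g) x

end transport



/-- Let q be a prime, V a non-trivial finite vector space over the field with q elements, and G a non-trivial finite p-group (p prime) acting faithfully and linearly on V and transitively on the non-zero vectors. Then either q = 2 and G has prime order p = |V| − 1; or p = 2, V has q elements with q = 2^m + 1 and G is cyclic of order 2^m; or p = 2, q = 3, V has 9 elements and G is cyclic of order 8, quaternion of order 8, or semidihedral of order 16. -/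
theorem result (q : ℕ) [Fact q.Prime] {V : Type*} [AddCommGroup V] [Module (ZMod q) V] [Finite V] [Nontrivial V]
    {G : Type*} [Group G] [Finite G] [Nontrivial G] (p : ℕ) [Fact p.Prime] (hG : IsPGroup p G)
    (ρ : G →* (V ≃ₗ[ZMod q] V)) (hρ : Function.Injective ρ)
    (htrans : ∀ v w : V, v ≠ 0 → w ≠ 0 → ∃ g : G, ρ g v = w) :
    (q = 2 ∧ p = Nat.card V - 1 ∧ Nat.card G = p) ∨
    (p = 2 ∧ Nat.card V = q ∧ (∃ m : ℕ, q = 2 ^ m + 1 ∧ Nat.card G = 2 ^ m) ∧ IsCyclic G) ∨
    (p = 2 ∧ q = 3 ∧ Nat.card V = 9 ∧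
      ((IsCyclic G ∧ Nat.card G = 8) ∨ Nonempty (G ≃* QuaternionGroup 2) ∨ (Cfsg.IsQuasiDihedral G ∧ Nat.card G = 16))) := by
  classical
  have hq : q.Prime := Fact.out
  have hp : p.Prime := Fact.out
  have hcardV : Nat.card V = q ^ Module.finrank (ZMod q) V := by
    rw [Module.natCard_eq_pow_finrank (K := ZMod q), Nat.card_zmod]
  obtain ⟨k, hk⟩ : ∃ k, k = Module.finrank (ZMod q) V := ⟨_, rfl⟩
  rw [← hk] at hcardV
  have hV1 : 1 < Nat.card V := Finite.one_lt_card
  have hk1 : 1 ≤ k := by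
    by_contra h
    have : k = 0 := by omega
    rw [this, pow_zero] at hcardV
    omega
  obtain ⟨v, hv⟩ := exists_ne (0 : V)
  have hce := card_eqV ρ htrans hv
  obtain ⟨b, hb⟩ := IsPGroup.iff_card.mp hG
  have hdvd : Nat.card V - 1 ∣ p ^ b := by
    rw [← hb, ← hce]
    exact dvd_mul_right _ _
  obtain ⟨a, _, ha⟩ := (Nat.dvd_prime_pow hp).mp hdvd
  -- `a ≥ 1`
  have ha1 : 1 ≤ a := by
    by_contra h
    have ha0 : a = 0 := by omega
    rw [ha0, pow_zero] at ha
    have hone : Nat.card {w : V | w ≠ 0} = 1 := by rw [card_nonzeroV, ha]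
    rw [Nat.card_eq_one_iff_unique] at hone
    have hall : ∀ w : V, w ≠ 0 → w = v := by
      intro w hw
      have := hone.1.elim (⟨w, hw⟩ : {w : V | w ≠ 0}) ⟨v, hv⟩
      exact congrArg Subtype.val this
    have htriv : ∀ g : G, g = 1 := by
      intro g
      apply eq_one_of_fix ρ hρ
      intro w hw
      have h1 : ρ g w ≠ 0 := fun h => hw ((ρ g).map_eq_zero_iff.mp h)
      rw [hall _ h1, hall w hw]
    obtain ⟨g, hg⟩ := exists_ne (1 : G)
    exact hg (htriv g)
  have hVpos : Nat.card V = p ^ a + 1 := by omega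
  by_cases hq2 : q = 2
  · -- characteristic two
    left
    have h1 : 2 ^ k = p ^ a + 1 := by rw [← hq2, ← hcardV]; exact hVpos
    have ha' : a = 1 := nt1 hp.two_le ha1 h1
    rw [ha', pow_one] at ha
    exact ⟨hq2, ha.symm, card_of_prime ρ hρ htrans hG ha⟩
  · -- odd characteristic
    right
    have hqodd : Odd q := hq.odd_of_ne_two hq2
    have hp2 : p = 2 := by
      have hodd : Odd (q ^ k) := hqodd.pow
      have heven : Even (p ^ a) := by
        have : Odd (p ^ a + 1) := by rw [← hVpos, hcardV]; exact hodd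
        rcases Nat.even_or_odd (p ^ a) with h | h
        · exact h
        · exact absurd (h.add_odd odd_one) (Nat.not_even_iff_odd.mpr this)
      have h2 : 2 ∣ p := Nat.Prime.dvd_of_dvd_pow Nat.prime_two heven.two_dvd
      exact ((Nat.prime_dvd_prime_iff_eq Nat.prime_two hp).mp h2).symm
    subst hp2
    have hqk : q ^ k = 2 ^ a + 1 := by rw [← hcardV]; exact hVpos
    rcases nt2 hq hq2 hk1 hqk with hk' | ⟨hq3, hk2⟩
    · -- `|V| = q`
      left
      rw [hk', pow_one] at hcardV hqk
      obtain ⟨hcyc, hst⟩ := cyclic_of_card_eq ρ hρ hcardV hv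
      refine ⟨rfl, hcardV, ⟨a, hqk, ?_⟩, hcyc⟩
      letI := actV ρ
      have hs : Nat.card (MulAction.stabilizer G v) = 1 := by
        rw [Nat.card_eq_one_iff_unique]
        refine ⟨⟨fun x y => ?_⟩, ⟨1⟩⟩
        apply Subtype.ext
        rw [hst x x.2, hst y y.2]
      rw [hs, mul_one, ha] at hce
      exact hce.symm
    · -- `|V| = 9`
      right
      subst hq3
      rw [hk2] at hcardV hk
      have hc9 : Nat.card V = 9 := by rw [hcardV]; norm_num
      refine ⟨rfl, rfl, hc9, ?_⟩
      have hfr : Module.finrank (ZMod 3) V = Module.finrank (ZMod 3) W3 := by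
        rw [← hk]; simp
      let e : V ≃ₗ[ZMod 3] W3 := LinearEquiv.ofFinrankEq V W3 hfr
      apply case_nine (phiOf ρ e) hG
      · intro g h hgh
        apply hρ
        ext w
        have h1 := congrArg (fun A : M3 => A.mulVec (e w)) hgh
        simp only [phiOf_mulVec, e.symm_apply_apply] at h1
        exact e.injective h1
      · intro x y hx hy
        have hx' : e.symm x ≠ 0 := fun h => hx (e.symm.map_eq_zero_iff.mp h)
        have hy' : e.symm y ≠ 0 := fun h => hy (e.symm.map_eq_zero_iff.mp h)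
        obtain ⟨g, hg⟩ := htrans _ _ hx' hy'
        refine ⟨g, ?_⟩
        rw [phiOf_mulVec, hg, e.apply_symm_apply]

end Cfsg.Agent.S3370
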