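-- Statement S3381 (row 3381).
import Cfsg.Statements.S3381
-- import your own Cfsg.Agent.* helpers here

set_option autoImplicit false
open Cfsg

namespace Cfsg.Agent.S3381

section basic

variable {q : ℕ} [Fact q.Prime] {V : Type*} [AddCommGroup V] [Module (ZMod q) V]
  {G : Type*} [Group G] (ρ : G →* (V ≃ₗ[ZMod q] V))

theorem rho_mul (g h : G) (v : V) : ρ (g * h) v = ρ g (ρ h v) := by
  rw [map_mul]; rfl

theorem rho_one (v : V) : ρ 1 v = v := by
  rw [map_one]; rfl

/-- Two non-identity elements fixing the same non-zero vector coincide. -/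
theorem lemK (hstab : ∀ v : V, v ≠ 0 → Nat.card {g : G // ρ g v = v} = 2)
    (v : V) (hv : v ≠ 0) (g h : G) (hg : g ≠ 1) (hh : h ≠ 1) (hgv : ρ g v = v) (hhv : ρ h v = v) :
    g = h := by
  have h2 := hstab v hv
  rw [Nat.card_eq_two_iff' (⟨1, rho_one ρ v⟩ : {g : G // ρ g v = v})] at h2
  have h3 : (⟨g, hgv⟩ : {g : G // ρ g v = v}) = ⟨h, hhv⟩ := by
    apply h2.unique
    · intro hc; exact hg (congrArg Subtype.val hc)
    · intro hc; exact hh (congrArg Subtype.val hc)
  exact congrArg Subtype.val h3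

theorem lemK2 (hstab : ∀ v : V, v ≠ 0 → Nat.card {g : G // ρ g v = v} = 2)
    (v : V) (hv : v ≠ 0) : ∃ t : G, t ≠ 1 ∧ ρ t v = v := by
  have h2 := hstab v hv
  rw [Nat.card_eq_two_iff' (⟨1, rho_one ρ v⟩ : {g : G // ρ g v = v})] at h2
  obtain ⟨t, ht, -⟩ := h2
  exact ⟨t.1, fun hc => ht (Subtype.ext hc), t.2⟩

theorem lemK3 (hstab : ∀ v : V, v ≠ 0 → Nat.card {g : G // ρ g v = v} = 2)
    (v : V) (hv : v ≠ 0) (t : G) (ht : t ≠ 1) (htv : ρ t v = v) : t * t = 1 := by
  by_contra hc
  have h1 : ρ (t * t) v = v := by rw [rho_mul, htv, htv]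
  have := lemK ρ hstab v hv (t * t) t hc ht h1 htv
  apply ht
  have h2 : t * t = t * 1 := by rw [mul_one]; exact this
  exact mul_left_cancel h2


theorem two_eq_zero_of (hq : q = 2) : (2 : ZMod q) = 0 := by
  have := (ZMod.natCast_eq_zero_iff 2 q).mpr (by rw [hq])
  simpa using this

theorem two_ne_zero_of (hq : q ≠ 2) : (2 : ZMod q) ≠ 0 := by
  intro h
  have h1 : ((2 : ℕ) : ZMod q) = 0 := by simpa using h
  have h2 := (ZMod.natCast_eq_zero_iff 2 q).mp h1
  exact hq ((Nat.prime_dvd_prime_iff_eq (Fact.out : q.Prime) Nat.prime_two).mp h2)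

theorem double_eq_zero (hq : q ≠ 2) (u : V) (h : u + u = 0) : u = 0 := by
  have h1 : (2 : ZMod q) • u = 0 := by rw [two_smul]; exact h
  rcases smul_eq_zero.mp h1 with h2 | h2
  · exact absurd h2 (two_ne_zero_of hq)
  · exact h2

/-- A central involution has no non-zero fixed vector. -/
theorem central_fix_zero (hρ : Function.Injective ρ)
    (hstab : ∀ v : V, v ≠ 0 → Nat.card {g : G // ρ g v = v} = 2)
    (z : G) (hz1 : z ≠ 1) (hzz : z * z = 1) (hzc : z ∈ Subgroup.center G)
    (a : V) (hza : ρ z a = a) : a = 0 := by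
  have hcomm : ∀ g, g * z = z * g := Subgroup.mem_center_iff.mp hzc
  by_contra ha
  -- Claim A
  have claimA : ∀ t : G, t ≠ 1 → t ≠ z → t * t = 1 → ρ t a = -a := by
    intro t ht htz htt
    have hzw : ρ z (a + ρ t a) = a + ρ t a := by
      rw [map_add, ← rho_mul, ← hcomm t, rho_mul, hza]
    have htw : ρ t (a + ρ t a) = a + ρ t a := by
      rw [map_add, ← rho_mul, htt, rho_one, add_comm]
    by_cases hw : a + ρ t a = 0
    · exact (neg_eq_of_add_eq_zero_right hw).symm
    · exact absurd (lemK ρ hstab _ hw t z ht hz1 htw hzw) htz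
  -- it suffices to show that z acts trivially
  have hsuff : (∀ v : V, ρ z v = v) → False := by
    intro h
    apply hz1
    apply hρ
    rw [map_one]
    ext v
    exact h v
  apply hsuff
  by_cases hq : q = 2
  · have hchar : ∀ v : V, v + v = 0 := by
      intro v
      rw [← two_smul (ZMod q), two_eq_zero_of hq, zero_smul]
    intro v
    by_cases hv : v = 0
    · rw [hv, map_zero]
    · obtain ⟨t, ht1, htv⟩ := lemK2 ρ hstab v hv
      by_cases htz : t = z
      · rw [← htz]; exact htv
      · exfalso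
        have hta := claimA t ht1 htz (lemK3 ρ hstab v hv t ht1 htv)
        have : -a = a := neg_eq_of_add_eq_zero_left (hchar a)
        rw [this] at hta
        exact htz (lemK ρ hstab a ha t z ht1 hz1 hta hza)
  · intro v
    by_contra hv
    have hu : v - ρ z v ≠ 0 := by
      rw [sub_ne_zero]; exact fun h => hv h.symm
    set u := v - ρ z v with hudef
    have hzu : ρ z u = -u := by
      rw [hudef, map_sub, ← rho_mul, hzz, rho_one, neg_sub]
    have hneg : -u ≠ u := by
      intro h
      apply hu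
      apply double_eq_zero hq
      nth_rewrite 1 [← h]
      exact neg_add_cancel u
    have hua : u + a ≠ 0 := by
      intro h
      have h1 : u = -a := eq_neg_of_add_eq_zero_left h
      have h2 : ρ z u = u := by rw [h1, map_neg, hza]
      rw [hzu] at h2
      exact hneg h2
    obtain ⟨s, hs1, hsv⟩ := lemK2 ρ hstab (u + a) hua
    have hsz : s ≠ z := by
      intro h
      rw [h, map_add, hzu, hza] at hsv
      exact hneg (add_right_cancel hsv)
    have hss := lemK3 ρ hstab (u + a) hua s hs1 hsv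
    have hsa := claimA s hs1 hsz hss
    have hsu : ρ s u = u + a + a := by
      rw [map_add, hsa] at hsv
      have : ρ s u = u + a - -a := eq_sub_of_add_eq hsv
      rw [this, sub_neg_eq_add]
    have h1 : ρ z (ρ s u) = -(u + a + a) := by
      rw [← rho_mul, ← hcomm s, rho_mul, hzu, map_neg, hsu]
    have h2 : ρ z (ρ s u) = -u + a + a := by
      rw [hsu, map_add, map_add, hzu, hza]
    rw [h1] at h2
    apply ha
    apply double_eq_zero hq
    apply double_eq_zero hq
    have h3 : (a + a) + (a + a) = (-u + a + a) - (-(u + a + a)) := by abel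
    rw [h3, h2, sub_self]

theorem central_neg (hρ : Function.Injective ρ)
    (hstab : ∀ v : V, v ≠ 0 → Nat.card {g : G // ρ g v = v} = 2)
    (z : G) (hz1 : z ≠ 1) (hzz : z * z = 1) (hzc : z ∈ Subgroup.center G)
    (v : V) : ρ z v = -v := by
  have h1 : ρ z (v + ρ z v) = v + ρ z v := by
    rw [map_add, ← rho_mul, hzz, rho_one, add_comm]
  have h2 := central_fix_zero ρ hρ hstab z hz1 hzz hzc _ h1
  exact (neg_eq_of_add_eq_zero_right h2).symm

theorem q_ne_two [Nontrivial V] (hρ : Function.Injective ρ)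
    (hstab : ∀ v : V, v ≠ 0 → Nat.card {g : G // ρ g v = v} = 2)
    (z : G) (hz1 : z ≠ 1) (hzz : z * z = 1) (hzc : z ∈ Subgroup.center G) : q ≠ 2 := by
  intro hq
  obtain ⟨v, hv⟩ := exists_ne (0 : V)
  apply hv
  apply central_fix_zero ρ hρ hstab z hz1 hzz hzc
  rw [central_neg ρ hρ hstab z hz1 hzz hzc]
  apply neg_eq_of_add_eq_zero_left
  rw [← two_smul (ZMod q), two_eq_zero_of hq, zero_smul]


theorem half_double (hq : q ≠ 2) (a : V) : (2 : ZMod q)⁻¹ • (a + a) = a := by
  rw [← two_smul (ZMod q), smul_smul, inv_mul_cancel₀ (two_ne_zero_of hq), one_smul]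

/-- `V` is the direct sum of the fixed spaces of `t` and `t * z`. -/
theorem card_fix_mul (hq : q ≠ 2) (z t : G) (hzneg : ∀ v : V, ρ z v = -v) (htt : t * t = 1) :
    Nat.card {v : V // ρ t v = v} * Nat.card {v : V // ρ (t * z) v = v} = Nat.card V := by
  rw [← Nat.card_prod]
  have hneg : ∀ b : {v : V // ρ (t * z) v = v}, ρ t (b : V) = -(b : V) := by
    intro b
    have := b.2
    rw [rho_mul, hzneg, map_neg] at this
    exact (neg_eq_iff_eq_neg.mp this)
  let f : {v : V // ρ t v = v} × {v : V // ρ (t * z) v = v} → V := fun p => (p.1 : V) + (p.2 : V)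
  have hbij : Function.Bijective f := by
    constructor
    · rintro ⟨a, b⟩ ⟨a', b'⟩ h
      have h0 : (a : V) + (b : V) = (a' : V) + (b' : V) := h
      have h1 : (a : V) - (b : V) = (a' : V) - (b' : V) := by
        have := congrArg (ρ t) h0
        rw [map_add, map_add, a.2, a'.2, hneg b, hneg b'] at this
        rw [sub_eq_add_neg, sub_eq_add_neg]; exact this
      have ha : (a : V) = (a' : V) := by
        have h2 : (a : V) + (a : V) = (a' : V) + (a' : V) := by
          have : (a : V) + (a : V) = ((a : V) + (b : V)) + ((a : V) - (b : V)) := by abel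
          rw [this, h0, h1]; abel
        rw [← half_double hq (a : V), h2, half_double hq]
      have hb : (b : V) = (b' : V) := by
        rw [ha] at h0
        exact add_left_cancel h0
      exact Prod.ext (Subtype.ext ha) (Subtype.ext hb)
    · intro v
      refine ⟨(⟨(2 : ZMod q)⁻¹ • (v + ρ t v), ?_⟩, ⟨(2 : ZMod q)⁻¹ • (v - ρ t v), ?_⟩), ?_⟩
      · rw [map_smul, map_add, ← rho_mul, htt, rho_one, add_comm]
      · rw [rho_mul, hzneg, map_neg, map_smul, map_sub, ← rho_mul, htt, rho_one, ← smul_neg,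
          neg_sub]
      · change (2 : ZMod q)⁻¹ • (v + ρ t v) + (2 : ZMod q)⁻¹ • (v - ρ t v) = v
        rw [← smul_add]
        have : v + ρ t v + (v - ρ t v) = v + v := by abel
        rw [this, half_double hq]
  exact Nat.card_congr (Equiv.ofBijective f hbij)

/-- Fixed spaces of distinct non-identity elements meet trivially. -/
theorem card_fix_mul_le [Finite V] (hstab : ∀ v : V, v ≠ 0 → Nat.card {g : G // ρ g v = v} = 2)
    (s t : G) (hs : s ≠ 1) (ht : t ≠ 1) (hst : s ≠ t) :
    Nat.card {v : V // ρ s v = v} * Nat.card {v : V // ρ t v = v} ≤ Nat.card V := by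
  rw [← Nat.card_prod]
  let f : {v : V // ρ s v = v} × {v : V // ρ t v = v} → V := fun p => (p.1 : V) + (p.2 : V)
  apply Nat.card_le_card_of_injective f
  rintro ⟨a, b⟩ ⟨a', b'⟩ h
  have h0 : (a : V) + (b : V) = (a' : V) + (b' : V) := h
  have h1 : (a : V) - (a' : V) = (b' : V) - (b : V) := by
    rw [sub_eq_sub_iff_add_eq_add, h0, add_comm]
  have hd : (a : V) - (a' : V) = 0 := by
    by_contra hd
    apply hst
    apply lemK ρ hstab _ hd s t hs ht
    · rw [map_sub, a.2, a'.2]
    · rw [h1, map_sub, b.2, b'.2]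
  have ha : (a : V) = (a' : V) := sub_eq_zero.mp hd
  have hb : (b : V) = (b' : V) := by
    rw [ha] at h0
    exact add_left_cancel h0
  exact Prod.ext (Subtype.ext ha) (Subtype.ext hb)

theorem card_fix_conj (g t : G) :
    Nat.card {v : V // ρ (g * t * g⁻¹) v = v} = Nat.card {v : V // ρ t v = v} := by
  symm
  apply Nat.card_congr
  apply Equiv.subtypeEquiv (ρ g).toEquiv
  intro v
  have : ρ (g * t * g⁻¹) ((ρ g) v) = ρ g (ρ t v) := by
    rw [← rho_mul, inv_mul_cancel_right, rho_mul]
  change ρ t v = v ↔ ρ (g * t * g⁻¹) ((ρ g) v) = (ρ g) v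
  rw [this, (ρ g).injective.eq_iff]

/-- For a non-central non-identity element the square of the size of the fixed space is at
most `|V|`. -/
theorem card_fix_sq_le [Finite V] (hstab : ∀ v : V, v ≠ 0 → Nat.card {g : G // ρ g v = v} = 2)
    (t : G) (ht : t ≠ 1) (htc : t ∉ Subgroup.center G) :
    Nat.card {v : V // ρ t v = v} * Nat.card {v : V // ρ t v = v} ≤ Nat.card V := by
  have : ∃ g : G, g * t ≠ t * g := by
    by_contra h
    push Not at h
    exact htc (Subgroup.mem_center_iff.mpr h)
  obtain ⟨g, hg⟩ := this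
  have h1 : g * t * g⁻¹ ≠ 1 := by
    intro h
    apply ht
    have : t = g⁻¹ * (g * t * g⁻¹) * g := by group
    rw [this, h]; group
  have h2 : g * t * g⁻¹ ≠ t := by
    intro h
    apply hg
    have : g * t = (g * t * g⁻¹) * g := by group
    rw [this, h]
  have := card_fix_mul_le ρ hstab (g * t * g⁻¹) t h1 ht h2
  rwa [card_fix_conj] at this

end basic


theorem arith_aux (m : ℕ) (hm : 1 ≤ m) : (m + 1) * (m - 1) + 1 = m * m := by
  obtain ⟨k, rfl⟩ : ∃ k, m = k + 1 := ⟨m - 1, by omega⟩
  simp only [Nat.add_sub_cancel]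
  ring

theorem card_ne_add_one {α : Type*} [Finite α] (p : α → Prop) (a : α) (ha : p a) :
    Nat.card {x : α // p x ∧ x ≠ a} + 1 = Nat.card {x : α // p x} := by
  classical
  have e : {x : α // p x ∧ x ≠ a} ≃ {y : {x : α // p x} // y ≠ ⟨a, ha⟩} :=
    { toFun := fun x => ⟨⟨x.1, x.2.1⟩, fun h => x.2.2 (congrArg Subtype.val h)⟩
      invFun := fun y => ⟨y.1.1, y.1.2, fun h => y.2 (Subtype.ext h)⟩
      left_inv := fun x => rfl
      right_inv := fun y => rfl }
  have := Fintype.ofFinite {x : α // p x}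
  rw [Nat.card_congr e, Nat.card_eq_fintype_card, Nat.card_eq_fintype_card,
    Fintype.card_subtype_compl, Fintype.card_subtype_eq]
  have : 0 < Fintype.card {x : α // p x} := Fintype.card_pos_iff.mpr ⟨⟨a, ha⟩⟩
  omega

/-- Let G be a finite group acting faithfully and linearly on a non-trivial finite vector space V over the field with q elements (q prime) so that every non-zero vector has a stabilizer of order 2, and suppose G has a central involution. Then V has q^(2r) elements for some r and G contains exactly q^r + 1 non-central involutions. -/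
theorem result
    (q : ℕ) [Fact q.Prime] {V : Type*} [AddCommGroup V] [Module (ZMod q) V] [Finite V] [Nontrivial V]
    {G : Type*} [Group G] [Finite G] (ρ : G →* (V ≃ₗ[ZMod q] V)) (hρ : Function.Injective ρ)
    (hstab : ∀ v : V, v ≠ 0 → Nat.card {g : G // ρ g v = v} = 2)
    (z : G) (hz : orderOf z = 2) (hzc : z ∈ Subgroup.center G) :
    ∃ r : ℕ, Nat.card V = q ^ (2 * r) ∧
      Nat.card {g : G // orderOf g = 2 ∧ g ∉ Subgroup.center G} = q ^ r + 1 := by
  have hz1 : z ≠ 1 := by
    intro h; rw [h, orderOf_one] at hz; omega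
  have hzz : z * z = 1 := by
    rw [← pow_two, ← hz, pow_orderOf_eq_one]
  have hq := q_ne_two ρ hρ hstab z hz1 hzz hzc
  have hzneg := central_neg ρ hρ hstab z hz1 hzz hzc
  -- facts about the set T of non-central involutions
  have hT1 : ∀ (v : V) (t : G), v ≠ 0 → t ≠ 1 → ρ t v = v →
      orderOf t = 2 ∧ t ∉ Subgroup.center G := by
    intro v t hv ht htv
    have htt := lemK3 ρ hstab v hv t ht htv
    refine ⟨orderOf_eq_prime (by rw [pow_two, htt]) ht, fun hc => hv ?_⟩
    exact central_fix_zero ρ hρ hstab t ht htt hc v htv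
  have hT0 : ∀ t : G, orderOf t = 2 → t ≠ 1 ∧ t * t = 1 := by
    intro t ht
    refine ⟨fun h => ?_, ?_⟩
    · rw [h, orderOf_one] at ht; omega
    · rw [← pow_two, ← ht, pow_orderOf_eq_one]
  have hT2 : ∀ t : G, orderOf t = 2 → t ∉ Subgroup.center G → ∃ w : V, w ≠ 0 ∧ ρ t w = w := by
    intro t ht htc
    obtain ⟨ht1, htt⟩ := hT0 t ht
    have htz : t ≠ z := fun h => htc (h ▸ hzc)
    have : ∃ v : V, ρ t v ≠ ρ z v := by
      by_contra h
      push Not at h
      apply htz
      apply hρ
      ext v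
      exact h v
    obtain ⟨v, hv⟩ := this
    refine ⟨v + ρ t v, fun h => hv ?_, ?_⟩
    · rw [hzneg]; exact (neg_eq_of_add_eq_zero_right h).symm
    · rw [map_add, ← rho_mul, htt, rho_one, add_comm]
  -- every fixed space of an element of T has the same size m with m * m = |V|
  have hsq : ∀ t : G, orderOf t = 2 → t ∉ Subgroup.center G →
      Nat.card {v : V // ρ t v = v} * Nat.card {v : V // ρ t v = v} = Nat.card V := by
    intro t ht htc
    obtain ⟨ht1, htt⟩ := hT0 t ht
    have htzc : t * z ∉ Subgroup.center G := by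
      intro h
      apply htc
      have := Subgroup.mul_mem _ h hzc
      rwa [mul_assoc, hzz, mul_one] at this
    have htz1 : t * z ≠ 1 := fun h => htzc (h ▸ Subgroup.one_mem _)
    have h1 := card_fix_mul ρ hq z t hzneg htt
    have h2 := card_fix_sq_le ρ hstab t ht1 htc
    have h3 := card_fix_sq_le ρ hstab (t * z) htz1 htzc
    have hpos : 0 < Nat.card {v : V // ρ t v = v} :=
      Nat.card_pos_iff.mpr ⟨⟨⟨0, map_zero _⟩⟩, inferInstance⟩
    have hpos' : 0 < Nat.card {v : V // ρ (t * z) v = v} :=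
      Nat.card_pos_iff.mpr ⟨⟨⟨0, map_zero _⟩⟩, inferInstance⟩
    set a := Nat.card {v : V // ρ t v = v}
    set b := Nat.card {v : V // ρ (t * z) v = v}
    rw [← h1] at h2 h3 ⊢
    have hab : a ≤ b := Nat.le_of_mul_le_mul_left h2 hpos
    have hba : b ≤ a := Nat.le_of_mul_le_mul_right h3 hpos'
    rw [le_antisymm hab hba]
  -- T is nonempty
  obtain ⟨v₀, hv₀⟩ := exists_ne (0 : V)
  obtain ⟨t₀, ht₀1, ht₀v⟩ := lemK2 ρ hstab v₀ hv₀
  obtain ⟨ht₀o, ht₀c⟩ := hT1 v₀ t₀ hv₀ ht₀1 ht₀v
  set m := Nat.card {v : V // ρ t₀ v = v} with hm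
  have hmm : m * m = Nat.card V := hsq t₀ ht₀o ht₀c
  have hall : ∀ t : G, orderOf t = 2 → t ∉ Subgroup.center G →
      Nat.card {v : V // ρ t v = v} = m := by
    intro t ht htc
    have := hsq t ht htc
    rw [← hmm] at this
    exact Nat.mul_self_inj.mp this
  -- m is a power of q
  have hN : Nat.card V = q ^ Module.finrank (ZMod q) V := by
    rw [Module.natCard_eq_pow_finrank (K := ZMod q), Nat.card_zmod]
  have hmdvd : m ∣ q ^ Module.finrank (ZMod q) V := by
    rw [← hN, ← hmm]; exact dvd_mul_right m m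
  obtain ⟨r, -, hr⟩ := (Nat.dvd_prime_pow (Fact.out : q.Prime)).1 hmdvd
  refine ⟨r, ?_, ?_⟩
  · rw [← hmm, hr, two_mul, pow_add]
  -- counting
  have hV1 : 1 < Nat.card V := Finite.one_lt_card
  have hm2 : 2 ≤ m := by
    by_contra h
    have : m ≤ 1 := by omega
    have : m * m ≤ 1 := by nlinarith
    omega
  let T := {g : G // orderOf g = 2 ∧ g ∉ Subgroup.center G}
  let P := Σ t : T, {v : V // ρ (t : G) v = v ∧ v ≠ 0}
  let f : P → {v : V // v ≠ 0} := fun x => ⟨x.2.1, x.2.2.2⟩
  have hf : Function.Bijective f := by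
    constructor
    · rintro ⟨t, v, hv1, hv2⟩ ⟨t', v', hv1', hv2'⟩ h
      have hvv : v = v' := congrArg Subtype.val h
      subst hvv
      have htt' : (t : G) = (t' : G) :=
        lemK ρ hstab v hv2 t t' (hT0 _ t.2.1).1 (hT0 _ t'.2.1).1 hv1 hv1'
      have : t = t' := Subtype.ext htt'
      subst this
      rfl
    · rintro ⟨v, hv⟩
      obtain ⟨t, ht1, htv⟩ := lemK2 ρ hstab v hv
      exact ⟨⟨⟨t, hT1 v t hv ht1 htv⟩, ⟨v, htv, hv⟩⟩, rfl⟩
  have hcardP : Nat.card P = Nat.card T * (m - 1) := by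
    have := Fintype.ofFinite T
    rw [Nat.card_sigma]
    have : ∀ t : T, Nat.card {v : V // ρ (t : G) v = v ∧ v ≠ 0} = m - 1 := by
      intro t
      have h1 := card_ne_add_one (fun v : V => ρ (t : G) v = v) 0 (map_zero _)
      rw [hall t t.2.1 t.2.2] at h1
      omega
    simp only [this, Finset.sum_const, Finset.card_univ, smul_eq_mul, Nat.card_eq_fintype_card]
  have hcardV : Nat.card {v : V // v ≠ 0} + 1 = Nat.card V := by
    have h1 := card_ne_add_one (fun _ : V => True) 0 trivial
    simp only [true_and, Nat.card_subtype_true] at h1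
    exact h1
  have hPV : Nat.card P = Nat.card {v : V // v ≠ 0} := Nat.card_congr (Equiv.ofBijective f hf)
  rw [hPV] at hcardP
  -- now arithmetic: |T| * (m - 1) + 1 = m * m
  rw [← hr]
  change Nat.card T = m + 1
  have h5 : Nat.card T * (m - 1) = (m + 1) * (m - 1) := by
    have := arith_aux m (by omega)
    omega
  exact Nat.eq_of_mul_eq_mul_right (by omega) h5

end Cfsg.Agent.S3381
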