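import Cfsg.Statements.S0738
import Mathlib
-- import your own Cfsg.Agent.* helpers here

set_option autoImplicit false
open Cfsg

namespace Cfsg.Agent.S0738

open MulAction

section General

variable {G : Type*} [Group G] [Fintype G] {X : Type*}

/-- A function-style group action. -/
structure IsAct (act : G → X → X) : Prop where
  one : ∀ x, act 1 x = x
  mul : ∀ g h x, act (g * h) x = act g (act h x)

open Classical in
/-- The elements of a subgroup, as a finset. -/
noncomputable def elems (K : Subgroup G) : Finset G := Finset.univ.filter (· ∈ K)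

theorem mem_elems {K : Subgroup G} {g : G} : g ∈ elems K ↔ g ∈ K := by
  simp [elems]

theorem card_elems (K : Subgroup G) : (elems K).card = Nat.card K := by
  classical
  rw [Nat.card_eq_fintype_card, Fintype.card_subtype]
  rfl

open Classical in
/-- The orbit of a point under a subgroup, as a finset. -/
noncomputable def orb (act : G → X → X) (K : Subgroup G) (v : X) : Finset X :=
  (elems K).image (fun k => act k v)

theorem mem_orb {act : G → X → X} {K : Subgroup G} {v w : X} :
    w ∈ orb act K v ↔ ∃ k ∈ K, act k v = w := by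
  simp [orb, mem_elems]

theorem self_mem_orb {act : G → X → X} (hact : IsAct act) (K : Subgroup G) (v : X) :
    v ∈ orb act K v :=
  mem_orb.mpr ⟨1, K.one_mem, hact.one v⟩

/-- If all orbits in an invariant set have the same size `s`, then `s` divides its size. -/
theorem dvd_card_of_orbits {act : G → X → X} (hact : IsAct act) (K : Subgroup G) (s : ℕ) :
    ∀ (n : ℕ) (V : Finset X), V.card = n → (∀ k ∈ K, ∀ v ∈ V, act k v ∈ V) →
      (∀ v ∈ V, (orb act K v).card = s) → s ∣ V.card := by
  classical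
  intro n
  induction n using Nat.strong_induction_on with
  | _ n ih =>
    intro V hV hinv hs
    rcases V.eq_empty_or_nonempty with rfl | ⟨v, hv⟩
    · simp
    have hO : orb act K v ⊆ V := by
      intro w hw
      obtain ⟨k, hk, rfl⟩ := mem_orb.mp hw
      exact hinv k hk v hv
    have hsum := Finset.card_sdiff_add_card_eq_card hO
    have hOpos : 0 < (orb act K v).card := Finset.card_pos.mpr ⟨v, self_mem_orb hact K v⟩
    have hlt : (V \ orb act K v).card < n := by omega
    have hinv' : ∀ k ∈ K, ∀ w ∈ V \ orb act K v, act k w ∈ V \ orb act K v := by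
      intro k hk w hw
      rw [Finset.mem_sdiff] at hw ⊢
      refine ⟨hinv k hk w hw.1, fun h => hw.2 ?_⟩
      obtain ⟨k', hk', hk'w⟩ := mem_orb.mp h
      refine mem_orb.mpr ⟨k⁻¹ * k', K.mul_mem (K.inv_mem hk) hk', ?_⟩
      rw [hact.mul, hk'w, ← hact.mul, inv_mul_cancel, hact.one]
    have hs' : ∀ w ∈ V \ orb act K v, (orb act K w).card = s := fun w hw =>
      hs w (Finset.mem_sdiff.mp hw).1
    have h1 := ih _ hlt (V \ orb act K v) rfl hinv' hs'
    rw [← hsum]
    exact dvd_add h1 (by rw [hs v hv])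

open Classical in
/-- Orbit-stabiliser, finset form. -/
theorem card_orb_mul {act : G → X → X} (hact : IsAct act) (K : Subgroup G) (v : X) :
    (orb act K v).card * ((elems K).filter (fun k => act k v = v)).card = (elems K).card := by
  classical
  have h1 := Finset.card_eq_sum_card_image (fun k => act k v) (elems K)
  have h2 : ∀ b ∈ (elems K).image (fun k => act k v),
      ((elems K).filter (fun k => act k v = b)).card =
        ((elems K).filter (fun k => act k v = v)).card := by
    intro b hb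
    obtain ⟨k₀, hk₀, rfl⟩ := Finset.mem_image.mp hb
    rw [mem_elems] at hk₀
    refine Finset.card_nbij' (fun k => k₀⁻¹ * k) (fun k => k₀ * k) ?_ ?_ ?_ ?_
    · intro k hk
      simp only [Finset.coe_filter, Set.mem_ofPred_eq, mem_elems] at hk ⊢
      refine ⟨K.mul_mem (K.inv_mem hk₀) hk.1, ?_⟩
      rw [hact.mul, hk.2, ← hact.mul, inv_mul_cancel, hact.one]
    · intro k hk
      simp only [Finset.coe_filter, Set.mem_ofPred_eq, mem_elems] at hk ⊢
      refine ⟨K.mul_mem hk₀ hk.1, ?_⟩
      rw [hact.mul, hk.2]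
    · intro k _
      simp
    · intro k _
      simp
  rw [Finset.sum_congr rfl h2, Finset.sum_const, smul_eq_mul] at h1
  rw [h1]
  rfl

end General

section Main

variable {G Ω : Type*} [Group G] [MulAction G Ω]

/-- The conjugation action. -/
def cj (g y : G) : G := g * y * g⁻¹

theorem isAct_cj : IsAct (cj (G := G)) where
  one := fun x => by simp [cj]
  mul := fun g h x => by simp [cj, mul_assoc]

theorem isAct_smul : IsAct (fun (g : G) (ω : Ω) => g • ω) where
  one := fun x => one_smul G x
  mul := fun g h x => mul_smul g h x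

/-- The working context. -/
structure Ctx (G : Type*) {Ω : Type*} [Group G] [MulAction G Ω] (a b : Ω) (F : Subgroup G) :
    Prop where
  hab : a ≠ b
  h3 : ∀ g : G, ∀ x y z : Ω, x ≠ y → y ≠ z → x ≠ z → g • x = x → g • y = y → g • z = z → g = 1
  fixa : ∀ u ∈ F, u • a = a
  conj : ∀ g : G, g • a = a → ∀ u ∈ F, g * u * g⁻¹ ∈ F
  ex : ∀ y z : Ω, y ≠ a → z ≠ a → ∃ u ∈ F, u • y = z
  uniq : ∀ u ∈ F, ∀ u' ∈ F, ∀ y : Ω, y ≠ a → u • y = u' • y → u = u'

variable {a b : Ω} {F : Subgroup G}

theorem Ctx.smul_ne_a (c : Ctx G a b F) {u : G} (hu : u ∈ F) {y : Ω} (hy : y ≠ a) : u • y ≠ a := by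
  intro h
  apply hy
  have := c.fixa u hu
  rw [← this] at h
  exact smul_left_cancel u h

theorem Ctx.smul_b_ne_b (c : Ctx G a b F) {u : G} (hu : u ∈ F) (hu1 : u ≠ 1) : u • b ≠ b := by
  intro h
  apply hu1
  refine c.uniq u hu 1 F.one_mem b c.hab.symm ?_
  rw [h, one_smul]

theorem mem_H {g : G} : g ∈ stabilizer G a ⊓ stabilizer G b ↔ g • a = a ∧ g • b = b := by
  simp [Subgroup.mem_inf, mem_stabilizer_iff]

/-- The order of the two-point stabiliser divides the size of any set of non-identity elements of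
`F` that is invariant under conjugation by the two-point stabiliser. -/
theorem Ctx.dvd_card [Fintype G] (c : Ctx G a b F) (W : Finset G) (hWF : ∀ w ∈ W, w ∈ F)
    (h1 : (1 : G) ∉ W)
    (hinv : ∀ h : G, h • a = a → h • b = b → ∀ w ∈ W, h * w * h⁻¹ ∈ W) :
    Nat.card ↥(stabilizer G a ⊓ stabilizer G b) ∣ W.card := by
  classical
  set V : Finset Ω := W.image (fun w => w • b) with hV
  have hcard : V.card = W.card := by
    rw [hV]
    refine Finset.card_image_of_injOn ?_
    intro w hw w' hw' h
    exact c.uniq w (hWF w hw) w' (hWF w' hw') b c.hab.symm h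
  rw [← hcard]
  refine dvd_card_of_orbits (isAct_smul (G := G) (Ω := Ω)) (stabilizer G a ⊓ stabilizer G b) _
    V.card V rfl ?_ ?_
  · intro k hk v hv
    obtain ⟨hka, hkb⟩ := mem_H.mp hk
    obtain ⟨w, hw, rfl⟩ := Finset.mem_image.mp hv
    refine Finset.mem_image.mpr ⟨k * w * k⁻¹, hinv k hka hkb w hw, ?_⟩
    rw [mul_smul, mul_smul, inv_smul_eq_iff.mpr hkb.symm]
  · intro v hv
    obtain ⟨w, hw, rfl⟩ := Finset.mem_image.mp hv
    have hw1 : w ≠ 1 := fun h => h1 (h ▸ hw)
    have hva : w • b ≠ a := c.smul_ne_a (hWF w hw) c.hab.symm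
    have hvb : w • b ≠ b := c.smul_b_ne_b (hWF w hw) hw1
    rw [← card_elems]
    unfold orb
    refine Finset.card_image_of_injOn ?_
    intro k hk k' hk' h
    rw [Finset.mem_coe, mem_elems] at hk hk'
    obtain ⟨hka, hkb⟩ := mem_H.mp hk
    obtain ⟨hka', hkb'⟩ := mem_H.mp hk'
    have h' : (k'⁻¹ * k) • (w • b) = w • b := by
      rw [mul_smul, inv_smul_eq_iff]
      exact h
    have : k'⁻¹ * k = 1 := by
      refine c.h3 _ a b (w • b) c.hab hvb.symm hva.symm ?_ ?_ h'
      · rw [mul_smul, hka, inv_smul_eq_iff, hka']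
      · rw [mul_smul, hkb, inv_smul_eq_iff, hkb']
    rw [inv_mul_eq_one] at this
    exact this.symm

theorem num1 {n d s t : ℕ} (hd : 0 < d) (hdn : d ∣ n - 1) (hn : n - 1 ≤ 2 * d) (hdt : d ∣ t)
    (ht0 : 0 < t) (htn : t ≤ n - 1) (hst : s ∣ t) (hsn : s ∣ n) : s = 1 := by
  obtain ⟨m, hm⟩ := hdn
  obtain ⟨k, hk⟩ := hdt
  have hm2 : m ≤ 2 := by
    rw [hm, mul_comm 2 d] at hn
    exact Nat.le_of_mul_le_mul_left hn hd
  have hkm : k ≤ m := by
    rw [hm, hk] at htn
    exact Nat.le_of_mul_le_mul_left htn hd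
  have hk0 : 0 < k := by
    rcases Nat.eq_zero_or_pos k with h | h
    · rw [h, mul_zero] at hk; omega
    · exact h
  have htdvd : t ∣ n - 1 := by
    rw [hm, hk]
    have : k ∣ m := by
      interval_cases m <;> interval_cases k <;> simp
    exact Nat.mul_dvd_mul_left d this
  have h1 : s ∣ n - 1 := hst.trans htdvd
  have h2 : s ∣ n - (n - 1) := Nat.dvd_sub hsn h1
  have h3 : n - (n - 1) = 1 := by omega
  rw [h3] at h2
  exact Nat.dvd_one.mp h2

theorem num2 {n d κ : ℕ} (hd : 0 < d) (hdn : d ∣ n - 1) (hn : n - 1 ≤ 2 * d)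
    (hdκ : d ∣ κ - 1) (hκ2 : 2 ≤ κ) (hκn : κ ∣ n) (hn1 : 1 ≤ n) : κ = n := by
  obtain ⟨m, hm⟩ := hdn
  obtain ⟨k, hk⟩ := hdκ
  have hκle : κ ≤ n := Nat.le_of_dvd hn1 hκn
  have hm2 : m ≤ 2 := by
    rw [hm, mul_comm 2 d] at hn
    exact Nat.le_of_mul_le_mul_left hn hd
  have hkm : k ≤ m := by
    have : κ - 1 ≤ n - 1 := by omega
    rw [hm, hk] at this
    exact Nat.le_of_mul_le_mul_left this hd
  have hk0 : 0 < k := by
    rcases Nat.eq_zero_or_pos k with h | h
    · rw [h, mul_zero] at hk; omega
    · exact h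
  by_cases hkm' : k = m
  · rw [hkm'] at hk
    omega
  · exfalso
    have hk1 : k = 1 := by omega
    have hm2' : m = 2 := by omega
    rw [hk1, mul_one] at hk
    rw [hm2'] at hm
    have hκ : κ = d + 1 := by omega
    have hn' : n = 2 * d + 1 := by omega
    rw [hκ, hn'] at hκn
    have h2 : d + 1 ∣ 2 * (d + 1) := Dvd.intro_left 2 rfl
    have h3 : d + 1 ∣ 2 * (d + 1) - (2 * d + 1) := Nat.dvd_sub h2 hκn
    have h4 : 2 * (d + 1) - (2 * d + 1) = 1 := by omega
    rw [h4] at h3
    have := Nat.dvd_one.mp h3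
    omega

/-- `|F| = |Ω| - 1`. -/
theorem Ctx.card_F [Fintype G] [Fintype Ω] (c : Ctx G a b F) :
    (elems F).card = Fintype.card Ω - 1 := by
  classical
  have h : (elems F).image (fun u => u • b) = Finset.univ.erase a := by
    ext y
    simp only [Finset.mem_image, mem_elems, Finset.mem_erase, Finset.mem_univ, and_true]
    constructor
    · rintro ⟨u, hu, rfl⟩
      exact c.smul_ne_a hu c.hab.symm
    · intro hy
      exact c.ex b y c.hab.symm hy
  rw [← Finset.card_univ, ← Finset.card_erase_of_mem (Finset.mem_univ a), ← h]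
  refine (Finset.card_image_of_injOn ?_).symm
  intro u hu u' hu' h
  rw [Finset.mem_coe, mem_elems] at hu hu'
  exact c.uniq u hu u' hu' b c.hab.symm h

/-- `d ∣ |F| - 1`. -/
theorem Ctx.d_dvd [Fintype G] (c : Ctx G a b F) :
    Nat.card ↥(stabilizer G a ⊓ stabilizer G b) ∣ (elems F).card - 1 := by
  classical
  have h1 : ((elems F).erase 1).card = (elems F).card - 1 :=
    Finset.card_erase_of_mem (mem_elems.mpr F.one_mem)
  rw [← h1]
  refine c.dvd_card _ (fun w hw => mem_elems.mp (Finset.mem_of_mem_erase hw))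
    (Finset.notMem_erase 1 _) ?_
  intro h ha hb w hw
  rw [Finset.mem_erase] at hw ⊢
  refine ⟨fun h1 => hw.1 ?_, mem_elems.mpr (c.conj h ha w (mem_elems.mp hw.2))⟩
  have : w = h⁻¹ * (h * w * h⁻¹) * h := by group
  rw [this, h1]
  group

/-- Every element of `F` is central in `F`. -/
theorem Ctx.central [Fintype G] (c : Ctx G a b F)
    (hd : (elems F).card - 1 ≤ 2 * Nat.card ↥(stabilizer G a ⊓ stabilizer G b))
    {x : G} (hxF : x ∈ F) (hx1 : x ≠ 1) : ∀ f ∈ F, f * x = x * f := by
  classical
  have hFS : F ≤ stabilizer G a := fun u hu => mem_stabilizer_iff.mpr (c.fixa u hu)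
  set U := orb cj (stabilizer G a) x with hU
  have hUF : ∀ w ∈ U, w ∈ F := by
    intro w hw
    obtain ⟨g, hg, rfl⟩ := mem_orb.mp hw
    exact c.conj g (mem_stabilizer_iff.mp hg) x hxF
  have hU1 : (1 : G) ∉ U := by
    intro hw
    obtain ⟨g, hg, h⟩ := mem_orb.mp hw
    apply hx1
    have : x = g⁻¹ * (g * x * g⁻¹) * g := by group
    rw [this]
    change g * x * g⁻¹ = 1 at h
    rw [h]
    group
  have hUinv : ∀ k ∈ stabilizer G a, ∀ w ∈ U, cj k w ∈ U := by
    intro k hk w hw
    obtain ⟨g, hg, rfl⟩ := mem_orb.mp hw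
    refine mem_orb.mpr ⟨k * g, (stabilizer G a).mul_mem hk hg, ?_⟩
    rw [isAct_cj.mul]
  have hdU : Nat.card ↥(stabilizer G a ⊓ stabilizer G b) ∣ U.card := by
    refine c.dvd_card U hUF hU1 ?_
    intro h ha _ w hw
    exact hUinv h (mem_stabilizer_iff.mpr ha) w hw
  have hxU : x ∈ U := self_mem_orb isAct_cj _ x
  have hUpos : 0 < U.card := Finset.card_pos.mpr ⟨x, hxU⟩
  have hUle : U.card ≤ (elems F).card - 1 := by
    rw [← Finset.card_erase_of_mem (mem_elems.mpr F.one_mem)]
    refine Finset.card_le_card ?_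
    intro w hw
    rw [Finset.mem_erase]
    exact ⟨fun h => hU1 (h ▸ hw), mem_elems.mpr (hUF w hw)⟩
  -- class sizes
  set s := (orb cj F x).card with hs
  have hsU : ∀ y ∈ U, (orb cj F y).card = s := by
    intro y hy
    obtain ⟨g, hg, rfl⟩ := mem_orb.mp hy
    have hga : g • a = a := mem_stabilizer_iff.mp hg
    have hga' : g⁻¹ • a = a := by rw [inv_smul_eq_iff, hga]
    have : orb cj F (cj g x) = (orb cj F x).image (cj g) := by
      ext w
      rw [Finset.mem_image, mem_orb]
      constructor
      · rintro ⟨f, hf, rfl⟩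
        refine ⟨cj (g⁻¹ * f * g) x, mem_orb.mpr ⟨g⁻¹ * f * g, ?_, rfl⟩, ?_⟩
        · have := c.conj g⁻¹ hga' f hf
          rwa [inv_inv] at this
        · simp only [cj]
          group
      · rintro ⟨w', hw', rfl⟩
        obtain ⟨f, hf, rfl⟩ := mem_orb.mp hw'
        refine ⟨g * f * g⁻¹, c.conj g hga f hf, ?_⟩
        simp only [cj]
        group
    rw [this, hs]
    refine Finset.card_image_of_injective _ ?_
    intro y y' h
    simp only [cj] at h
    exact mul_left_cancel (mul_right_cancel h)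
  have hsdvdU : s ∣ U.card :=
    dvd_card_of_orbits isAct_cj F s U.card U rfl
      (fun k hk w hw => hUinv k (hFS hk) w hw) hsU
  have hsdvdn : s ∣ (elems F).card := Dvd.intro _ (card_orb_mul isAct_cj F x)
  have hdpos : 0 < Nat.card ↥(stabilizer G a ⊓ stabilizer G b) := Nat.card_pos
  have hs1 : s = 1 := num1 hdpos c.d_dvd hd hdU hUpos hUle hsdvdU hsdvdn
  rw [hs, Finset.card_eq_one] at hs1
  obtain ⟨y, hy⟩ := hs1
  have hxy : x = y := by
    have := self_mem_orb isAct_cj F x
    rw [hy, Finset.mem_singleton] at this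
    exact this
  intro f hf
  have hfx : cj f x ∈ orb cj F x := mem_orb.mpr ⟨f, hf, rfl⟩
  rw [hy, Finset.mem_singleton, ← hxy] at hfx
  simp only [cj] at hfx
  rw [mul_inv_eq_iff_eq_mul] at hfx
  exact hfx

end Main

/-- Let a finite Zassenhaus group of degree `n + 1` have two-point stabilisers of order `d` with `2d ≥ n - 1`. Then a normal subgroup of a point stabiliser acting regularly on the remaining points is elementary abelian, and the degree is a prime power plus one. -/
theorem result {G Ω : Type*} [Group G] [Finite G] [MulAction G Ω] [Fintype Ω] (hZ : Cfsg.IsZassenhausGroup G Ω) {a b : Ω} (hab : a ≠ b) (hd : Fintype.card Ω - 2 ≤ 2 * Nat.card ↥(MulAction.stabilizer G a ⊓ MulAction.stabilizer G b)) (F : Subgroup G) (hFle : F ≤ MulAction.stabilizer G a) (hFn : (F.subgroupOf (MulAction.stabilizer G a)).Normal) (hreg : ∀ y z : Ω, y ≠ a → z ≠ a → ∃! u : F, (u : G) • y = z) : IsMulCommutative F ∧ ∃ p f : ℕ, p.Prime ∧ (∀ u ∈ F, u ^ p = 1) ∧ Fintype.card Ω = p ^ f + 1 := by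
  classical
  have : Fintype G := Fintype.ofFinite G
  obtain ⟨-, -, h3, -, -⟩ := hZ
  have c : Ctx G a b F := by
    refine ⟨hab, h3, fun u hu => mem_stabilizer_iff.mp (hFle hu), ?_, ?_, ?_⟩
    · intro g hg u hu
      have := hFn.conj_mem ⟨u, hFle hu⟩ (Subgroup.mem_subgroupOf.mpr hu)
        ⟨g, mem_stabilizer_iff.mpr hg⟩
      rw [Subgroup.mem_subgroupOf] at this
      simpa using this
    · intro y z hy hz
      obtain ⟨u, hu, -⟩ := hreg y z hy hz
      exact ⟨u, u.2, hu⟩
    · intro u hu u' hu' y hy h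
      have hz : u' • y ≠ a := by
        intro h'
        apply hy
        have h'' := mem_stabilizer_iff.mp (hFle hu')
        rw [← h''] at h'
        exact smul_left_cancel u' h'
      obtain ⟨w, -, hw⟩ := hreg y (u' • y) hy hz
      have e1 := hw ⟨u, hu⟩ h
      have e2 := hw ⟨u', hu'⟩ rfl
      have := e1.trans e2.symm
      exact congrArg Subtype.val this
  set d := Nat.card ↥(MulAction.stabilizer G a ⊓ MulAction.stabilizer G b) with hd_def
  have hn : (elems F).card = Fintype.card Ω - 1 := c.card_F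
  have hN2 : 2 ≤ Fintype.card Ω := by
    have := Finset.card_le_univ ({a, b} : Finset Ω)
    rw [Finset.card_pair hab] at this
    exact this
  have hd' : (elems F).card - 1 ≤ 2 * d := by
    rw [hn]
    have : Fintype.card Ω - 1 - 1 = Fintype.card Ω - 2 := by omega
    rw [this]
    exact hd
  have hdpos : 0 < d := Nat.card_pos
  -- commutativity
  have hcomm : ∀ x ∈ F, ∀ f ∈ F, f * x = x * f := by
    intro x hx f hf
    by_cases hx1 : x = 1
    · rw [hx1, mul_one, one_mul]
    · exact c.central hd' hx hx1 f hf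
  refine ⟨⟨⟨fun u v => Subtype.ext (hcomm v.1 v.2 u.1 u.2)⟩⟩, ?_⟩
  -- exponent
  have hnF : Nat.card F = (elems F).card := (card_elems F).symm
  by_cases hn1 : Nat.card F = 1
  · refine ⟨2, 0, Nat.prime_two, ?_, ?_⟩
    · intro u hu
      have hsub : Subsingleton F := (Nat.card_eq_one_iff_unique.mp hn1).1
      have : (⟨u, hu⟩ : F) = 1 := Subsingleton.elim _ _
      have hu1 : u = 1 := congrArg Subtype.val this
      rw [hu1, one_pow]
    · rw [hnF] at hn1
      omega
  · have hn2 : 2 ≤ Nat.card F := by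
      have : 0 < Nat.card F := Nat.card_pos
      omega
    set p := (Nat.card F).minFac with hp
    have hpp : p.Prime := Nat.minFac_prime hn1
    have hpdvd : p ∣ Nat.card F := Nat.minFac_dvd _
    have : Fact p.Prime := ⟨hpp⟩
    obtain ⟨y, hy⟩ := exists_prime_orderOf_dvd_card' (G := F) p hpdvd
    -- the subgroup of elements of order dividing p
    let K : Subgroup G :=
      { carrier := {z | z ∈ F ∧ z ^ p = 1}
        mul_mem' := by
          rintro z w ⟨hz, hz'⟩ ⟨hw, hw'⟩
          refine ⟨F.mul_mem hz hw, ?_⟩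
          have hcm : Commute z w := (hcomm w hw z hz)
          rw [hcm.mul_pow, hz', hw', one_mul]
        one_mem' := ⟨F.one_mem, one_pow _⟩
        inv_mem' := by
          rintro z ⟨hz, hz'⟩
          exact ⟨F.inv_mem hz, by rw [inv_pow, hz', inv_one]⟩ }
    have hKF : K ≤ F := fun z hz => hz.1
    have hKmem : ∀ z, z ∈ K ↔ z ∈ F ∧ z ^ p = 1 := fun z => Iff.rfl
    have hyK : (y : G) ∈ K := by
      refine ⟨y.2, ?_⟩
      have := pow_orderOf_eq_one y
      rw [hy] at this
      have h2 := congrArg Subtype.val this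
      simpa using h2
    have hy1 : (y : G) ≠ 1 := by
      intro h
      have : y = 1 := Subtype.ext h
      rw [this, orderOf_one] at hy
      exact hpp.one_lt.ne hy
    have hK2 : 2 ≤ (elems K).card := by
      have h1 : ({1, (y : G)} : Finset G) ⊆ elems K := by
        intro z hz
        rw [Finset.mem_insert, Finset.mem_singleton] at hz
        rcases hz with rfl | rfl
        · exact mem_elems.mpr K.one_mem
        · exact mem_elems.mpr hyK
      have := Finset.card_le_card h1
      rwa [Finset.card_pair (Ne.symm hy1)] at this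
    have hKdvd : (elems K).card ∣ (elems F).card := by
      rw [card_elems, card_elems]
      exact Subgroup.card_dvd_of_le hKF
    have hdK : d ∣ (elems K).card - 1 := by
      have h1 : ((elems K).erase 1).card = (elems K).card - 1 :=
        Finset.card_erase_of_mem (mem_elems.mpr K.one_mem)
      rw [← h1]
      refine c.dvd_card _ (fun w hw => hKF (mem_elems.mp (Finset.mem_of_mem_erase hw)))
        (Finset.notMem_erase 1 _) ?_
      intro h ha hb w hw
      rw [Finset.mem_erase] at hw ⊢
      obtain ⟨hw1, hwK⟩ := hw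
      rw [mem_elems] at hwK
      refine ⟨fun h1 => hw1 ?_, mem_elems.mpr ⟨c.conj h ha w hwK.1, ?_⟩⟩
      · have : w = h⁻¹ * (h * w * h⁻¹) * h := by group
        rw [this, h1]
        group
      · rw [conj_pow, hwK.2, mul_one, mul_inv_cancel]
    have hKn : (elems K).card = (elems F).card :=
      num2 hdpos c.d_dvd hd' hdK hK2 hKdvd (by rw [← hnF]; omega)
    have hKeq : K = F := by
      refine Subgroup.eq_of_le_of_card_ge hKF ?_
      rw [← card_elems, ← card_elems, hKn]
    have hexp : ∀ u ∈ F, u ^ p = 1 := by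
      intro u hu
      rw [← hKeq] at hu
      exact hu.2
    have hpg : IsPGroup p F := by
      intro u
      refine ⟨1, ?_⟩
      rw [pow_one]
      exact Subtype.ext (by simpa using hexp u.1 u.2)
    obtain ⟨f, hf⟩ := IsPGroup.iff_card.mp hpg
    refine ⟨p, f, hpp, hexp, ?_⟩
    rw [← hf, hnF, hn]
    omega

end Cfsg.Agent.S0738
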