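import Cfsg.Statements.S0742
import Cfsg.Agent.S0738
import Cfsg.Agent.S0740
import Cfsg.Agent.S0741
import Cfsg.Agent.Lib.Helper25.ZassInv
import Cfsg.Agent.Lib.Helper57.PSLMap
import Cfsg.Agent.Lib.Helper6.ZassPSL6
import Cfsg.Agent.Lib.Helper6.ZassPSL7

set_option autoImplicit false
open Cfsg

namespace Cfsg.Agent.S0742

open Cfsg.Agent.Lib.Helper6.ZassPSL
open scoped MatrixGroups

set_option linter.style.haveILetI false

/-- A finite Zassenhaus group of degree `n + 1` with two-point stabilisers of even order `d` satisfying `2d ≤ n - 1` has `n = p^f` for an odd prime `p` and is isomorphic to `PSL(2, p^f)`. -/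
theorem result {G Ω : Type*} [Group G] [Finite G] [MulAction G Ω] [Fintype Ω] (hZ : Cfsg.IsZassenhausGroup G Ω) {a b : Ω} (hab : a ≠ b) (heven : Even (Nat.card ↥(MulAction.stabilizer G a ⊓ MulAction.stabilizer G b))) (hd : 2 * Nat.card ↥(MulAction.stabilizer G a ⊓ MulAction.stabilizer G b) ≤ Fintype.card Ω - 2) : ∃ (p f : ℕ) (K : Type) (_ : Field K) (_ : Fintype K), p.Prime ∧ p ≠ 2 ∧ Fintype.card K = p ^ f ∧ Fintype.card Ω = p ^ f + 1 ∧ Nonempty (G ≃* Matrix.ProjectiveSpecialLinearGroup (Fin 2) K) := by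
  classical
  have hfaith : FaithfulSMul G Ω := hZ.1
  have hthree := hZ.2.2.1
  set K : Subgroup G := MulAction.stabilizer G a ⊓ MulAction.stabilizer G b with hKdef
  -- the order of `K`
  have h741 := Cfsg.Agent.S0741.result hZ hab heven
  have hcardK : 2 * Nat.card K = Fintype.card Ω - 2 := le_antisymm hd h741
  -- the kernel
  obtain ⟨F, hFle, hFconj, hFfix, hFtr⟩ := exists_kernel hZ hab
  have hFn : (F.subgroupOf (MulAction.stabilizer G a)).Normal := by
    constructor
    intro u hu g
    rw [Subgroup.mem_subgroupOf] at hu ⊢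
    exact hFconj g g.2 u hu
  have hFfree : ∀ u ∈ F, ∀ c : Ω, c ≠ a → u • c = c → u = 1 := by
    intro u hu c hc huc
    by_contra hu1
    exact hc (hFfix u hu hu1 c huc)
  have hreg : ∀ y z : Ω, y ≠ a → z ≠ a → ∃! u : F, (u : G) • y = z := by
    intro y z hy hz
    obtain ⟨u, hu, huy⟩ := hFtr y z hy hz
    refine ⟨⟨u, hu⟩, huy, ?_⟩
    intro u' hu'
    have h1 : ((u : G)⁻¹ * (u' : G)) • y = y := by
      rw [mul_smul, hu', ← huy, inv_smul_smul]
    have := hFfree _ (F.mul_mem (F.inv_mem hu) u'.2) y hy h1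
    apply Subtype.ext
    exact (inv_mul_eq_one.mp this).symm
  obtain ⟨hFcomm, p, f, hp, -, hΩcard⟩ :=
    Cfsg.Agent.S0738.result hZ hab h741 F hFle hFn hreg
  -- the order of `F`
  have hFcard : Nat.card F + 1 = Fintype.card Ω := by
    have hbij : Function.Bijective (fun u : F => (⟨(u : G) • b, by
        intro h
        have h1 : (u : G) • b = (u : G) • a := by rw [h, hFle u.2]
        exact hab (MulAction.injective (u : G) h1).symm⟩ : {c : Ω // c ≠ a})) := by
      constructor
      · intro u u' h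
        have h1 : (u : G) • b = (u' : G) • b := congrArg Subtype.val h
        obtain ⟨w, -, hw⟩ := hreg b ((u' : G) • b) (Ne.symm hab) (by
          intro h
          have h1 : (u' : G) • b = (u' : G) • a := by rw [h, hFle u'.2]
          exact hab (MulAction.injective (u' : G) h1).symm)
        rw [hw u h1, hw u' rfl]
      · rintro ⟨c, hc⟩
        obtain ⟨u, hu, huc⟩ := hFtr b c (Ne.symm hab) hc
        exact ⟨⟨u, hu⟩, Subtype.ext huc⟩
    rw [Nat.card_congr (Equiv.ofBijective _ hbij), Nat.card_eq_fintype_card,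
      Fintype.card_subtype_compl, Fintype.card_subtype_eq]
    have : 0 < Fintype.card Ω := Fintype.card_pos_iff.mpr ⟨a⟩
    omega
  have hΩge : 2 ≤ Fintype.card Ω := Fintype.one_lt_card_iff_nontrivial.mpr ⟨⟨a, b, hab⟩⟩
  have hΩeven : Even (Fintype.card Ω) := by
    refine ⟨Nat.card K + 1, ?_⟩
    omega
  -- the involution
  obtain ⟨-, h740b, h740c⟩ := Cfsg.Agent.S0740.result hZ hab
  obtain ⟨τ, hτ2, hτa, hτb, hτfix⟩ := h740c hΩeven heven
  have hτsq : τ * τ = 1 := by
    rw [← pow_two, ← hτ2, pow_orderOf_eq_one]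
  have hfix2 : ∀ s : G, s ≠ 1 → s * s = 1 → s • a = b → s • b = a →
      Nat.card (MulAction.fixedBy Ω s) ≤ 2 := by
    intro s hs1 hs2 hsa hsb
    have ho : orderOf s = 2 := orderOf_eq_prime (by rw [pow_two, hs2]) hs1
    rcases (h740b s ho hsa hsb).2 hΩeven with h | h <;> rw [h]
    norm_num
  obtain ⟨c₀, hc₀⟩ : ∃ c₀ : Ω, τ • c₀ = c₀ := by
    have hne : Nonempty (MulAction.fixedBy Ω τ) := by
      rw [← Nat.card_pos_iff.trans (and_iff_left_of_imp fun _ => Finite.of_fintype _)]
      omega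
    obtain ⟨⟨c, hc⟩⟩ := hne
    exact ⟨c, hc⟩
  have hinv := inverts_of_fixed hthree hab hcardK τ hτsq hτa hτb c₀ hc₀ hfix2
  have hc₀a : c₀ ≠ a := by
    intro h
    rw [h, hτa] at hc₀
    exact hab hc₀.symm
  have hc₀b : c₀ ≠ b := by
    intro h
    rw [h, hτb] at hc₀
    exact hab hc₀
  obtain ⟨u₁, hu₁F, hu₁⟩ := hFtr b c₀ (Ne.symm hab) hc₀a
  have hu₁1 : u₁ ≠ 1 := by
    intro h
    rw [h, one_smul] at hu₁
    exact hc₀b hu₁.symm
  -- the data
  letI : CommGroup F := { (inferInstance : Group F) with mul_comm := hFcomm.is_comm.comm }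
  let D : ZData G Ω (Additive F) :=
    { a := a
      b := b
      hab := hab
      three := hthree
      tr := fun v => ((Additive.toMul v : F) : G)
      tr_add := fun v w => rfl
      tr_inj := fun v w h => Additive.toMul.injective (Subtype.ext h)
      tr_a := fun v => hFle (Additive.toMul v : F).2
      conj := fun g hg v => ⟨Additive.ofMul ⟨g * ((Additive.toMul v : F) : G) * g⁻¹,
        hFconj g hg _ (Additive.toMul v : F).2⟩, rfl⟩
      reg := fun c hc => by
        obtain ⟨u, hu, huc⟩ := hFtr b c (Ne.symm hab) hc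
        exact ⟨Additive.ofMul ⟨u, hu⟩, huc⟩
      free := fun v c hvc hc => by
        have := hFfree _ (Additive.toMul v : F).2 c hc hvc
        apply Additive.toMul.injective
        apply Subtype.ext
        exact this
      τ := τ
      τ_sq := hτsq
      τ_a := hτa
      τ_b := hτb
      inv := fun k hka hkb => hinv k (Cfsg.Agent.Lib.Helper59.mem_stab2.mpr ⟨hka, hkb⟩)
      v₁ := Additive.ofMul ⟨u₁, hu₁F⟩
      v₁_ne := fun h => hu₁1 (congrArg (fun v : Additive F => ((Additive.toMul v : F) : G)) h)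
      τ_v₁ := by
        show τ • (u₁ • b) = u₁ • b
        rw [hu₁, hc₀] }
  have hDK : D.K = K := rfl
  have hVcard : Nat.card (Additive F) = Nat.card F := Nat.card_congr Additive.toMul
  have hK' : 2 * Nat.card D.K + 1 = Nat.card (Additive F) := by
    rw [hDK, hVcard]
    omega
  have hG : Nat.card G = (Nat.card (Additive F) + 1) * Nat.card (Additive F) * Nat.card D.K := by
    rw [hDK, hVcard, Cfsg.Agent.Lib.Helper25.ZassInv.card_group_eq
      (fun a b c d hab hcd => Cfsg.Agent.Lib.Helper59.zass_two_trans hZ a b c d hab hcd) hab,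
      ← hFcard]
    rfl
  haveI : Finite (Additive F) := Finite.of_equiv F Additive.ofMul
  obtain ⟨C, fC, ftC, hcardC, ⟨iso⟩⟩ := D.exists_iso hK' (by rw [hDK]; exact heven) hG
  -- transfer to a field in `Type`
  haveI : Fact p.Prime := ⟨hp⟩
  have hpf : Nat.card F = p ^ f := by omega
  have hf0 : f ≠ 0 := by
    intro h
    rw [h, pow_zero] at hpf
    have hK1 : 1 ≤ Nat.card K := Nat.card_pos
    obtain ⟨m, hm⟩ := heven
    omega
  letI : Fintype (GaloisField p f) := Fintype.ofFinite _
  have hcardGF : Fintype.card (GaloisField p f) = p ^ f := by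
    rw [← Nat.card_eq_fintype_card, GaloisField.card p f hf0]
  have hcardC' : Fintype.card C = Fintype.card (GaloisField p f) := by
    rw [hcardGF, hcardC, hVcard, hpf]
  let φ : C ≃+* GaloisField p f := FiniteField.ringEquivOfCardEq hcardC'
  refine ⟨p, f, GaloisField p f, inferInstance, inferInstance, hp, ?_, hcardGF, hΩcard,
    ⟨iso.trans (Cfsg.Agent.Lib.Helper57.pslMapEquiv φ)⟩⟩
  -- `p` is odd
  rintro rfl
  have h2 : Nat.card F = 2 * Nat.card K + 1 := by omega
  have h3 : Even (2 ^ f) := (Nat.even_pow.mpr ⟨even_two, hf0⟩)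
  rw [← hpf, h2] at h3
  exact (Nat.not_even_iff_odd.mpr ⟨Nat.card K, rfl⟩) h3

end Cfsg.Agent.S0742
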