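import Cfsg.Statements.S3775
import Mathlib

-- import your own Cfsg.Agent.* helpers here

set_option autoImplicit false
open Cfsg

namespace Cfsg.Agent.S3775


set_option linter.unusedSectionVars false
set_option linter.style.haveILetI false


section general

variable {M : Type*} [CommGroup M] {Γ : Type*} [Group Γ] (ρ : Γ →* MulAut M)

/-- `B` is stable under the action `ρ`. -/
def Inv (B : Subgroup M) : Prop := ∀ γ : Γ, ∀ b ∈ B, ρ γ b ∈ B

variable {ρ}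

lemma act_inv_act (γ : Γ) (a : M) : ρ γ⁻¹ (ρ γ a) = a := by
  have : ρ γ⁻¹ (ρ γ a) = (ρ γ⁻¹ * ρ γ) a := rfl
  rw [this, ← map_mul, inv_mul_cancel, map_one]
  rfl

lemma act_act_inv (γ : Γ) (a : M) : ρ γ (ρ γ⁻¹ a) = a := by
  have : ρ γ (ρ γ⁻¹ a) = (ρ γ * ρ γ⁻¹) a := rfl
  rw [this, ← map_mul, mul_inv_cancel, map_one]
  rfl

lemma Inv.map_eq {B : Subgroup M} (hB : Inv ρ B) (γ : Γ) : B.map (ρ γ).toMonoidHom = B := by
  apply le_antisymm
  · rintro _ ⟨b, hb, rfl⟩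
    exact hB γ b hb
  · intro b hb
    exact ⟨ρ γ⁻¹ b, hB γ⁻¹ b hb, act_act_inv γ b⟩

/-- Restriction of an action to an invariant subgroup. -/
def restrictAct (W : Subgroup M) (hW : Inv ρ W) : Γ →* MulAut ↥W where
  toFun γ :=
    { toFun := fun w => ⟨ρ γ w, hW γ w w.2⟩
      invFun := fun w => ⟨ρ γ⁻¹ w, hW γ⁻¹ w w.2⟩
      left_inv := fun w => Subtype.ext (act_inv_act (ρ := ρ) γ (w : M))
      right_inv := fun w => Subtype.ext (act_act_inv (ρ := ρ) γ (w : M))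
      map_mul' := fun a b => Subtype.ext (map_mul (ρ γ) (a : M) (b : M)) }
  map_one' := by
    ext w
    simp
  map_mul' := fun a b => by
    ext w
    simp

@[simp] lemma restrictAct_apply (W : Subgroup M) (hW : Inv ρ W) (γ : Γ) (w : ↥W) :
    ((restrictAct W hW γ w : ↥W) : M) = ρ γ (w : M) := rfl

/-- The induced action on the quotient by an invariant subgroup. -/
def quotAct (N : Subgroup M) (hN : Inv ρ N) : Γ →* MulAut (M ⧸ N) where
  toFun γ := QuotientGroup.congr N N (ρ γ) (hN.map_eq γ)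
  map_one' := by
    ext x
    induction x using QuotientGroup.induction_on with
    | H a => simp
  map_mul' := fun a b => by
    ext x
    induction x using QuotientGroup.induction_on with
    | H c =>
      show ((ρ (a * b) c : M) : M ⧸ N) = ((ρ a (ρ b c) : M) : M ⧸ N)
      rw [map_mul]
      rfl

@[simp] lemma quotAct_mk (N : Subgroup M) (hN : Inv ρ N) (γ : Γ) (a : M) :
    quotAct N hN γ (a : M ⧸ N) = ((ρ γ a : M) : M ⧸ N) := rfl

theorem exists_invariant_complement [Finite M] [Finite Γ]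
    (hcop : (Nat.card Γ).Coprime (Nat.card M)) (B R : Subgroup M)
    (hB : Inv ρ B) (h1 : B ⊓ R = ⊥) (h2 : B ⊔ R = ⊤) :
    ∃ C : Subgroup M, Inv ρ C ∧ B ⊓ C = ⊥ ∧ B ⊔ C = ⊤ := by
  classical
  have : Fintype Γ := Fintype.ofFinite Γ
  by_cases hM : Nat.card M = 1
  · have : Subsingleton M := (Nat.card_eq_one_iff_unique.mp hM).1
    refine ⟨⊤, fun γ b _ => Subgroup.mem_top _, ?_, ?_⟩
    · rw [inf_top_eq]; exact Subsingleton.elim _ _
    · exact sup_top_eq _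
  have hM1 : 1 < Nat.card M := by
    have : 0 < Nat.card M := Nat.card_pos
    omega
  obtain ⟨m', -, hm'⟩ := Nat.exists_mul_mod_eq_one_of_coprime hcop hM1
  -- the projection onto `B` along `R`
  let f : ↥B × ↥R →* M := (B.subtype).coprod (R.subtype)
  have hf_inj : Function.Injective f := by
    rw [injective_iff_map_eq_one]
    rintro ⟨b, r⟩ hbr
    have hbr' : (b : M) * (r : M) = 1 := hbr
    have hb : (b : M) ∈ B ⊓ R := by
      refine ⟨b.2, ?_⟩
      have : (b : M) = (r : M)⁻¹ := eq_inv_of_mul_eq_one_left hbr'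
      rw [this]
      exact R.inv_mem r.2
    rw [h1, Subgroup.mem_bot] at hb
    have hr : (r : M) = 1 := by rw [hb, one_mul] at hbr'; exact hbr'
    ext
    · exact hb
    · exact hr
  have hf_surj : Function.Surjective f := by
    intro x
    have hx : x ∈ B ⊔ R := by rw [h2]; exact Subgroup.mem_top _
    obtain ⟨b, hb, r, hr, hbr⟩ := Subgroup.mem_sup.mp hx
    exact ⟨(⟨b, hb⟩, ⟨r, hr⟩), hbr⟩
  let e : ↥B × ↥R ≃* M := MulEquiv.ofBijective f ⟨hf_inj, hf_surj⟩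
  let π : M →* M := B.subtype.comp ((MonoidHom.fst ↥B ↥R).comp e.symm.toMonoidHom)
  have hπB : ∀ a, π a ∈ B := fun a => (e.symm a).1.2
  have hπid : ∀ b ∈ B, π b = b := by
    intro b hb
    have : e.symm b = (⟨b, hb⟩, 1) := by
      rw [MulEquiv.symm_apply_eq]
      show b = (b : M) * ((1 : ↥R) : M)
      simp
    show ((e.symm b).1 : M) = b
    rw [this]
  -- the averaged map
  let F : M → M := fun a => (∏ γ : Γ, ρ γ (π (ρ γ⁻¹ a))) ^ m'
  have hFmul : ∀ a b, F (a * b) = F a * F b := by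
    intro a b
    show (∏ γ : Γ, ρ γ (π (ρ γ⁻¹ (a * b)))) ^ m' = _
    simp only [map_mul, Finset.prod_mul_distrib, mul_pow]
    rfl
  let θ : M →* M := MonoidHom.mk' F hFmul
  have hθ : ∀ a, θ a = (∏ γ : Γ, ρ γ (π (ρ γ⁻¹ a))) ^ m' := fun a => rfl
  have hθB : ∀ a, θ a ∈ B := by
    intro a
    rw [hθ]
    apply B.pow_mem
    apply Subgroup.prod_mem
    intro γ _
    exact hB γ _ (hπB _)
  have hθid : ∀ b ∈ B, θ b = b := by
    intro b hb
    rw [hθ]
    have : ∀ γ : Γ, ρ γ (π (ρ γ⁻¹ b)) = b := by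
      intro γ
      rw [hπid _ (hB γ⁻¹ b hb)]
      have : ρ γ (ρ γ⁻¹ b) = (ρ γ * ρ γ⁻¹) b := rfl
      rw [this, ← map_mul, mul_inv_cancel, map_one]
      rfl
    simp only [this, Finset.prod_const, Finset.card_univ, ← pow_mul]
    rw [← Nat.card_eq_fintype_card, ← pow_mod_natCard, hm', pow_one]
  have hθeq : ∀ (δ : Γ) (a : M), θ (ρ δ a) = ρ δ (θ a) := by
    intro δ a
    rw [hθ, hθ, map_pow, map_prod]
    congr 1
    refine Fintype.prod_equiv (Equiv.mulLeft δ⁻¹) _ _ ?_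
    intro γ
    show ρ γ (π (ρ γ⁻¹ (ρ δ a))) = ρ δ (ρ (δ⁻¹ * γ) (π (ρ (δ⁻¹ * γ)⁻¹ a)))
    have e1 : ρ γ⁻¹ (ρ δ a) = ρ (δ⁻¹ * γ)⁻¹ a := by
      have : ρ γ⁻¹ (ρ δ a) = (ρ γ⁻¹ * ρ δ) a := rfl
      rw [this, ← map_mul]
      congr 2
      group
    have e2 : ∀ y, ρ δ (ρ (δ⁻¹ * γ) y) = ρ γ y := by
      intro y
      have : ρ δ (ρ (δ⁻¹ * γ) y) = (ρ δ * ρ (δ⁻¹ * γ)) y := rfl
      rw [this, ← map_mul]
      congr 2
      group
    rw [e1, e2]
  refine ⟨θ.ker, ?_, ?_, ?_⟩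
  · intro δ a ha
    rw [MonoidHom.mem_ker] at ha ⊢
    rw [hθeq, ha, map_one]
  · rw [eq_bot_iff]
    intro b hb
    rw [Subgroup.mem_bot]
    have h3 := hθid b hb.1
    have h4 : θ b = 1 := MonoidHom.mem_ker.mp hb.2
    rw [← h3, h4]
  · rw [eq_top_iff]
    intro a _
    rw [Subgroup.mem_sup]
    refine ⟨θ a, hθB a, (θ a)⁻¹ * a, ?_, by group⟩
    rw [MonoidHom.mem_ker, map_mul, map_inv, hθid _ (hθB a), inv_mul_cancel]


end general

/-- A subgroup `Q` of a finite abelian group of exponent dividing `p ^ n` in which every element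
killed by `p ^ (n - 1)` is a `p`-th power (of an element of `Q`) has a complement. -/
theorem exists_complement_of_pure {M : Type*} [CommGroup M] [Finite M] {p : ℕ} [Fact p.Prime]
    (n : ℕ) (hn : 1 ≤ n) (hexp : ∀ a : M, a ^ p ^ n = 1) (Q : Subgroup M)
    (hQ : ∀ q ∈ Q, q ^ p ^ (n - 1) = 1 → ∃ q₁ ∈ Q, q₁ ^ p = q) :
    ∃ R : Subgroup M, Q ⊓ R = ⊥ ∧ Q ⊔ R = ⊤ := by
  classical
  have hp : p.Prime := Fact.out
  obtain ⟨R, hR, hmax⟩ := Set.exists_max_image {R : Subgroup M | Q ⊓ R = ⊥}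
    (fun R => Nat.card R) (Set.toFinite _) ⟨⊥, inf_bot_eq _⟩
  have hR : Q ⊓ R = ⊥ := hR
  refine ⟨R, hR, ?_⟩
  by_contra hne
  obtain ⟨a, ha, hap⟩ : ∃ a, a ∉ Q ⊔ R ∧ a ^ p ∈ Q ⊔ R := by
    obtain ⟨a₀, ha₀⟩ : ∃ a₀, a₀ ∉ Q ⊔ R := by
      by_contra h
      push Not at h
      exact hne (eq_top_iff.mpr fun x _ => h x)
    have hex : ∃ j, a₀ ^ p ^ j ∈ Q ⊔ R := ⟨n, by rw [hexp]; exact one_mem _⟩
    have hj : a₀ ^ p ^ (Nat.find hex) ∈ Q ⊔ R := Nat.find_spec hex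
    have hj0 : Nat.find hex ≠ 0 := by
      intro h
      rw [h, pow_zero, pow_one] at hj
      exact ha₀ hj
    refine ⟨a₀ ^ p ^ (Nat.find hex - 1), Nat.find_min hex (by omega), ?_⟩
    rw [← pow_mul, ← pow_succ]
    have : Nat.find hex - 1 + 1 = Nat.find hex := by omega
    rw [this]
    exact hj
  obtain ⟨q, hq, r, hr, hqr⟩ := Subgroup.mem_sup.mp hap
  have h1 : q ^ p ^ (n - 1) = 1 := by
    have h2 : (a ^ p) ^ p ^ (n - 1) = 1 := by
      rw [← pow_mul, ← pow_succ', Nat.sub_add_cancel hn, hexp]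
    rw [← hqr, mul_pow] at h2
    have h3 : q ^ p ^ (n - 1) ∈ Q ⊓ R := by
      refine ⟨Q.pow_mem hq _, ?_⟩
      rw [eq_inv_of_mul_eq_one_left h2]
      exact R.inv_mem (R.pow_mem hr _)
    rw [hR, Subgroup.mem_bot] at h3
    exact h3
  obtain ⟨q₁, hq₁, hq₁p⟩ := hQ q hq h1
  have ha'p : (a * q₁⁻¹) ^ p = r := by
    rw [mul_pow, inv_pow, hq₁p, ← hqr, mul_comm q r, mul_inv_cancel_right]
  have ha'n : a * q₁⁻¹ ∉ Q ⊔ R := by
    intro h
    apply ha
    have : a = a * q₁⁻¹ * q₁ := by group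
    rw [this]
    exact (Q ⊔ R).mul_mem h (Subgroup.mem_sup_left hq₁)
  have hlt : R < R ⊔ Subgroup.zpowers (a * q₁⁻¹) := by
    refine lt_of_le_of_ne le_sup_left ?_
    intro h
    apply ha'n
    apply Subgroup.mem_sup_right
    rw [h]
    exact Subgroup.mem_sup_right (Subgroup.mem_zpowers _)
  have hcard : Nat.card R < Nat.card ↥(R ⊔ Subgroup.zpowers (a * q₁⁻¹)) := by
    by_contra hc
    push Not at hc
    exact hlt.ne (Subgroup.eq_of_le_of_card_ge hlt.le hc)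
  have hne' : Q ⊓ (R ⊔ Subgroup.zpowers (a * q₁⁻¹)) ≠ ⊥ := by
    intro h
    have := hmax _ h
    omega
  obtain ⟨x, hx, hx1⟩ : ∃ x ∈ Q ⊓ (R ⊔ Subgroup.zpowers (a * q₁⁻¹)), x ≠ 1 := by
    by_contra h
    push Not at h
    apply hne'
    rw [eq_bot_iff]
    intro x hx
    rw [Subgroup.mem_bot]
    exact h x hx
  obtain ⟨r', hr', z, hz, hrz⟩ := Subgroup.mem_sup.mp hx.2
  obtain ⟨j, rfl⟩ := Subgroup.mem_zpowers_iff.mp hz
  by_cases hpj : (p : ℤ) ∣ j
  · obtain ⟨t, rfl⟩ := hpj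
    have h4 : (a * q₁⁻¹) ^ ((p : ℤ) * t) ∈ R := by
      rw [zpow_mul, zpow_natCast, ha'p]
      exact R.zpow_mem hr _
    have hxR : x ∈ Q ⊓ R := ⟨hx.1, by rw [← hrz]; exact R.mul_mem hr' h4⟩
    rw [hR, Subgroup.mem_bot] at hxR
    exact hx1 hxR
  · have h5 : (a * q₁⁻¹) ^ j ∈ Q ⊔ R := by
      have : (a * q₁⁻¹) ^ j = r'⁻¹ * x := by rw [← hrz]; group
      rw [this]
      exact (Q ⊔ R).mul_mem (Subgroup.mem_sup_right (R.inv_mem hr')) (Subgroup.mem_sup_left hx.1)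
    have h6 : (a * q₁⁻¹) ^ (p : ℤ) ∈ Q ⊔ R := by
      rw [zpow_natCast, ha'p]
      exact Subgroup.mem_sup_right hr
    have hcop : IsCoprime j (p : ℤ) :=
      ((Nat.prime_iff_prime_int.mp hp).coprime_iff_not_dvd.mpr hpj).symm
    obtain ⟨u, v, huv⟩ := hcop
    apply ha'n
    have : a * q₁⁻¹ = ((a * q₁⁻¹) ^ j) ^ u * ((a * q₁⁻¹) ^ (p : ℤ)) ^ v := by
      rw [← zpow_mul, ← zpow_mul, ← zpow_add, mul_comm j u, mul_comm (p : ℤ) v, huv, zpow_one]
    rw [this]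
    exact mul_mem (zpow_mem h5 _) (zpow_mem h6 _)


section main

variable {A : Type*} [CommGroup A] [Finite A] {p : ℕ} [Fact p.Prime]

/-- invariance in the form used in the statement -/
def InvX (X : Subgroup (MulAut A)) (B : Subgroup A) : Prop :=
  ∀ x ∈ X, B.map x.toMonoidHom = B

lemma invX_iff (X : Subgroup (MulAut A)) (B : Subgroup A) :
    InvX X B ↔ Inv (X.subtype) B := by
  constructor
  · intro h γ b hb
    have := h γ.1 γ.2
    rw [← this]
    exact ⟨b, hb, rfl⟩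
  · intro h x hx
    exact h.map_eq ⟨x, hx⟩

theorem irreducible_of_indecomposable (hA : IsPGroup p A) (X : Subgroup (MulAut A))
    (hX : (Nat.card X).Coprime p)
    (hI : ¬ ∃ B C : Subgroup A, B ≠ ⊥ ∧ C ≠ ⊥ ∧ InvX X B ∧ InvX X C ∧ B ⊓ C = ⊥ ∧ B ⊔ C = ⊤)
    (B₁ : Subgroup A) (hB₁ : InvX X B₁) (hexp : ∀ b ∈ B₁, b ^ p = 1) (hne : B₁ ≠ ⊥) :
    ∀ a : A, a ∈ B₁ ↔ a ^ p = 1 := by
  classical
  have hp : p.Prime := Fact.out
  set ρ : ↥X →* MulAut A := X.subtype with hρ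
  have hρa : ∀ (γ : ↥X) (a : A), ρ γ a = (γ : MulAut A) a := fun _ _ => rfl
  have hB₁' : Inv ρ B₁ := (invX_iff X B₁).mp hB₁
  -- coprimality
  have hcop : ∀ (M : Type _) [Group M] [Finite M], IsPGroup p M →
      (Nat.card ↥X).Coprime (Nat.card M) := by
    intro M _ _ hM
    obtain ⟨k, hk⟩ := hM.exists_card_eq
    rw [hk]
    exact Nat.Coprime.pow_right k hX
  -- the exponent
  obtain ⟨k, hk⟩ := hA.exists_card_eq
  have hex : ∃ n, ∀ a : A, a ^ p ^ n = 1 := ⟨k, fun a => by rw [← hk]; exact pow_card_eq_one'⟩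
  set n := Nat.find hex with hn_def
  have hn : ∀ a : A, a ^ p ^ n = 1 := Nat.find_spec hex
  obtain ⟨b₀, hb₀, hb₀1⟩ : ∃ b ∈ B₁, b ≠ 1 := by
    by_contra h
    push Not at h
    exact hne ((Subgroup.eq_bot_iff_forall _).mpr h)
  have hn1 : 1 ≤ n := by
    by_contra h
    have h0 : n = 0 := by omega
    have := hn b₀
    rw [h0, pow_zero, pow_one] at this
    exact hb₀1 this
  obtain ⟨a₀, ha₀⟩ : ∃ a₀ : A, a₀ ^ p ^ (n - 1) ≠ 1 := by
    have := Nat.find_min hex (show n - 1 < n by omega)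
    push Not at this
    exact this
  set φ : A →* A := powMonoidHom (p ^ (n - 1)) with hφ
  have hφa : ∀ a, φ a = a ^ p ^ (n - 1) := fun _ => rfl
  have hφeq : ∀ (γ : ↥X) (a : A), φ (ρ γ a) = ρ γ (φ a) := by
    intro γ a
    rw [hφa, hφa, map_pow]
  set ψ : A →* A := powMonoidHom p with hψ
  have hψa : ∀ a, ψ a = a ^ p := fun _ => rfl
  set W : Subgroup A := φ.range with hW
  have hWne : W ≠ ⊥ := by
    intro h
    have : φ a₀ ∈ W := ⟨a₀, rfl⟩
    rw [h, Subgroup.mem_bot] at this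
    exact ha₀ this
  have hWexp : ∀ w ∈ W, w ^ p = 1 := by
    rintro _ ⟨a, rfl⟩
    rw [hφa, ← pow_mul, ← pow_succ, Nat.sub_add_cancel hn1, hn]
  have hWinv : Inv ρ W := by
    rintro γ _ ⟨a, rfl⟩
    exact ⟨ρ γ a, hφeq γ a⟩
  -- a minimal invariant subgroup of `W`
  obtain ⟨H₁, hH₁mem, hH₁min⟩ := Set.exists_min_image
    {H : Subgroup A | Inv ρ H ∧ H ≠ ⊥ ∧ H ≤ W} (fun H => Nat.card H) (Set.toFinite _)
    ⟨W, hWinv, hWne, le_rfl⟩
  obtain ⟨hH₁inv, hH₁ne, hH₁W⟩ := hH₁mem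
  -- a minimal invariant subgroup mapping onto `H₁`
  obtain ⟨Q, hQmem, hQmin⟩ := Set.exists_min_image
    {Q : Subgroup A | Inv ρ Q ∧ Q.map φ = H₁} (fun Q => Nat.card Q) (Set.toFinite _)
    ⟨H₁.comap φ, by
      refine ⟨?_, ?_⟩
      · intro γ a ha
        rw [Subgroup.mem_comap] at ha ⊢
        rw [hφeq]
        exact hH₁inv γ _ ha
      · rw [Subgroup.map_comap_eq]
        exact inf_eq_right.mpr hH₁W⟩
  obtain ⟨hQinv, hQmap⟩ := hQmem
  have hQmin' : ∀ Q' : Subgroup A, Inv ρ Q' → Q' ≤ Q → Q'.map φ = H₁ → Q' = Q := by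
    intro Q' h1 h2 h3
    exact Subgroup.eq_of_le_of_card_ge h2 (hQmin Q' ⟨h1, h3⟩)
  -- key: elements of `Q` killed by `φ` are `p`-th powers in `Q`
  have hK1 : ∀ k ∈ Q, φ k = 1 → ∃ q₁ ∈ Q, q₁ ^ p = k := by
    set ρQ : ↥X →* MulAut ↥Q := restrictAct Q hQinv with hρQ
    set N : Subgroup ↥Q := (powMonoidHom p : ↥Q →* ↥Q).range with hN
    have hNinv : Inv ρQ N := by
      rintro γ _ ⟨q, rfl⟩
      refine ⟨ρQ γ q, ?_⟩
      show (ρQ γ q) ^ p = ρQ γ (q ^ p)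
      rw [map_pow]
    set ρ₂ : ↥X →* MulAut (↥Q ⧸ N) := quotAct N hNinv with hρ₂
    set B₂ : Subgroup (↥Q ⧸ N) := (Subgroup.comap Q.subtype φ.ker).map (QuotientGroup.mk' N)
      with hB₂
    have hB₂inv : Inv ρ₂ B₂ := by
      rintro γ _ ⟨q, hq, rfl⟩
      have hq' : φ (q : A) = 1 := hq
      refine ⟨ρQ γ q, ?_, rfl⟩
      show φ (ρ γ (q : A)) = 1
      rw [hφeq, hq', map_one]
    have hexp₂ : ∀ m : ↥Q ⧸ N, m ^ p ^ 1 = 1 := by
      intro m
      induction m using QuotientGroup.induction_on with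
      | H q =>
        rw [pow_one]
        show ((q ^ p : ↥Q) : ↥Q ⧸ N) = 1
        rw [QuotientGroup.eq_one_iff]
        exact ⟨q, rfl⟩
    obtain ⟨R₂, hR₂1, hR₂2⟩ := exists_complement_of_pure (p := p) 1 le_rfl hexp₂ B₂ (by
      intro q hq hq1
      rw [Nat.sub_self, pow_zero, pow_one] at hq1
      exact ⟨1, one_mem _, by rw [one_pow, hq1]⟩)
    have hPQ : IsPGroup p (↥Q ⧸ N) := (hA.to_subgroup Q).to_quotient N
    obtain ⟨C₂, hC₂inv, hC₂1, hC₂2⟩ := exists_invariant_complement (ρ := ρ₂)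
      (hcop _ hPQ) B₂ R₂ hB₂inv hR₂1 hR₂2
    set Qs : Subgroup A := (C₂.comap (QuotientGroup.mk' N)).map Q.subtype with hQs
    have hQsle : Qs ≤ Q := Subgroup.map_subtype_le _
    have hQsinv : Inv ρ Qs := by
      rintro γ _ ⟨q, hq, rfl⟩
      have hq' : ((q : ↥Q) : ↥Q ⧸ N) ∈ C₂ := hq
      refine ⟨ρQ γ q, ?_, rfl⟩
      show ((ρQ γ q : ↥Q) : ↥Q ⧸ N) ∈ C₂
      exact hC₂inv γ _ hq'
    have hQsmap : Qs.map φ = H₁ := by
      apply le_antisymm
      · rw [← hQmap]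
        exact Subgroup.map_mono hQsle
      · intro h hh
        rw [← hQmap] at hh
        obtain ⟨q, hq, rfl⟩ := hh
        have hmem : ((⟨q, hq⟩ : ↥Q) : ↥Q ⧸ N) ∈ B₂ ⊔ C₂ := by
          rw [hC₂2]; exact Subgroup.mem_top _
        obtain ⟨b, hb, c, hc, hbc⟩ := Subgroup.mem_sup.mp hmem
        obtain ⟨k', hk', rfl⟩ := hb
        have hk'' : φ (k' : A) = 1 := hk'
        have hc' : ((k'⁻¹ * ⟨q, hq⟩ : ↥Q) : ↥Q ⧸ N) = c := by
          rw [QuotientGroup.mk_mul, QuotientGroup.mk_inv, ← hbc]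
          simp
        refine ⟨((k'⁻¹ * ⟨q, hq⟩ : ↥Q) : A), ⟨k'⁻¹ * ⟨q, hq⟩, ?_, rfl⟩, ?_⟩
        · show ((k'⁻¹ * ⟨q, hq⟩ : ↥Q) : ↥Q ⧸ N) ∈ C₂
          rw [hc']; exact hc
        · show φ ((k' : A)⁻¹ * q) = φ q
          rw [map_mul, map_inv, hk'', inv_one, one_mul]
    have hQsQ : Qs = Q := hQmin' Qs hQsinv hQsle hQsmap
    intro k hkQ hk1
    have h1 : k ∈ Qs := by rw [hQsQ]; exact hkQ
    obtain ⟨q', hq', hq'k⟩ := h1
    have hq'eq : q' = ⟨k, hkQ⟩ := Subtype.ext hq'k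
    have hq'' : ((⟨k, hkQ⟩ : ↥Q) : ↥Q ⧸ N) ∈ C₂ := by
      rw [← hq'eq]; exact hq'
    have h2 : ((⟨k, hkQ⟩ : ↥Q) : ↥Q ⧸ N) ∈ B₂ := by
      exact ⟨⟨k, hkQ⟩, hk1, rfl⟩
    have h3 : ((⟨k, hkQ⟩ : ↥Q) : ↥Q ⧸ N) ∈ B₂ ⊓ C₂ := ⟨h2, hq''⟩
    rw [hC₂1, Subgroup.mem_bot, QuotientGroup.eq_one_iff] at h3
    obtain ⟨q₁, hq₁⟩ := h3
    refine ⟨(q₁ : A), q₁.2, ?_⟩
    have := congrArg (Subtype.val) hq₁
    exact this
  -- `Q` has an invariant complement
  obtain ⟨R, hR1, hR2⟩ := exists_complement_of_pure (p := p) n hn1 hn Q (fun q hq hq1 => hK1 q hq hq1)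
  obtain ⟨C, hCinv, hC1, hC2⟩ := exists_invariant_complement (ρ := ρ) (hcop _ hA) Q R hQinv hR1 hR2
  have hQne : Q ≠ ⊥ := by
    intro h
    apply hH₁ne
    rw [← hQmap, h, Subgroup.map_bot]
  have hCbot : C = ⊥ := by
    by_contra hC
    exact hI ⟨Q, C, hQne, hC, (invX_iff X Q).mpr hQinv, (invX_iff X C).mpr hCinv, hC1, hC2⟩
  have hQtop : Q = ⊤ := by rw [hCbot, sup_bot_eq] at hC2; exact hC2
  -- counting
  have hrange : φ.range = H₁ := by rw [MonoidHom.range_eq_map, ← hQtop, hQmap]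
  have hker_le : φ.ker ≤ ψ.range := by
    intro k hk
    obtain ⟨q₁, -, hq₁⟩ := hK1 k (by rw [hQtop]; exact Subgroup.mem_top _) (MonoidHom.mem_ker.mp hk)
    exact ⟨q₁, hq₁⟩
  have hc1 : Nat.card ψ.ker * Nat.card ψ.range = Nat.card A := by
    rw [← Subgroup.index_ker]; exact Subgroup.card_mul_index _
  have hc2 : Nat.card φ.ker * Nat.card H₁ = Nat.card A := by
    rw [← hrange, ← Subgroup.index_ker]; exact Subgroup.card_mul_index _
  have hc3 : Nat.card φ.ker ≤ Nat.card ψ.range := Subgroup.card_le_of_le hker_le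
  have hc4 : Nat.card ψ.ker ≤ Nat.card H₁ := by
    have hpos : 0 < Nat.card ψ.range := Nat.card_pos
    have : Nat.card ψ.ker * Nat.card ψ.range ≤ Nat.card H₁ * Nat.card ψ.range := by
      rw [hc1, ← hc2, mul_comm]
      exact Nat.mul_le_mul_left _ hc3
    exact Nat.le_of_mul_le_mul_right this hpos
  have hH₁ker : H₁ = ψ.ker := by
    apply Subgroup.eq_of_le_of_card_ge _ hc4
    intro h hh
    rw [MonoidHom.mem_ker, hψa]
    exact hWexp h (hH₁W hh)
  have hB₁le : B₁ ≤ H₁ := by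
    rw [hH₁ker]
    intro b hb
    rw [MonoidHom.mem_ker, hψa]
    exact hexp b hb
  have hB₁eq : B₁ = H₁ :=
    Subgroup.eq_of_le_of_card_ge hB₁le (hH₁min B₁ ⟨hB₁', hne, hB₁le.trans hH₁W⟩)
  intro a
  rw [hB₁eq, hH₁ker, MonoidHom.mem_ker, hψa]

end main

section tail

variable {A : Type*} [CommGroup A] [Finite A] {p : ℕ} [Fact p.Prime]

omit [Finite A] [Fact p.Prime] in
lemma invX_of_forall (X : Subgroup (MulAut A)) (B : Subgroup A)
    (h : ∀ x ∈ X, ∀ b ∈ B, x b ∈ B) : InvX X B := by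
  intro x hx
  apply le_antisymm
  · rintro _ ⟨b, hb, rfl⟩
    exact h x hx b hb
  · intro b hb
    refine ⟨x⁻¹ b, h x⁻¹ (X.inv_mem hx) b hb, ?_⟩
    show x (x⁻¹ b) = b
    have : x (x⁻¹ b) = (x * x⁻¹) b := rfl
    rw [this, mul_inv_cancel]
    rfl

omit [Finite A] [Fact p.Prime] in
lemma InvX.apply_mem {X : Subgroup (MulAut A)} {B : Subgroup A} (h : InvX X B)
    {x : MulAut A} (hx : x ∈ X) {b : A} (hb : b ∈ B) : x b ∈ B := by
  have := h x hx
  rw [← this]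
  exact ⟨b, hb, rfl⟩

omit [Finite A] in
theorem omega_le_of_irreducible (hA : IsPGroup p A) (X : Subgroup (MulAut A))
    (hIII : ∀ B : Subgroup A, InvX X B → (∀ b ∈ B, b ^ p = 1) →
      B = ⊥ ∨ ∀ a : A, a ∈ B ↔ a ^ p = 1) :
    ∀ (i : ℕ) (B : Subgroup A), InvX X B → (i = 0 ∨ ∃ b ∈ B, b ^ p ^ (i - 1) ≠ 1) →
      ∀ a : A, a ^ p ^ i = 1 → a ∈ B := by
  classical
  intro i
  induction i with
  | zero =>
    intro B _ _ a ha
    rw [pow_zero, pow_one] at ha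
    rw [ha]; exact one_mem _
  | succ i ih =>
    intro B hB hb a ha
    obtain ⟨b, hbB, hb1⟩ : ∃ b ∈ B, b ^ p ^ i ≠ 1 := by
      rcases hb with h | h
      · omega
      · simpa using h
    -- step 1
    have h1 : ∀ a : A, a ^ p ^ i = 1 → a ∈ B := by
      apply ih B hB
      by_cases hi : i = 0
      · left; exact hi
      · right
        refine ⟨b, hbB, ?_⟩
        intro h
        apply hb1
        have : i = (i - 1) + 1 := by omega
        rw [this, pow_succ, pow_mul, h, one_pow]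
    -- step 2
    set ψ : A →* A := powMonoidHom p with hψ
    set B₂ : Subgroup A := B.map (powMonoidHom (p ^ i)) ⊓ ψ.ker with hB₂
    have hB₂inv : InvX X B₂ := by
      apply invX_of_forall
      rintro x hx c ⟨⟨b', hb', rfl⟩, hc2⟩
      refine ⟨⟨x b', hB.apply_mem hx hb', ?_⟩, ?_⟩
      · show (x b') ^ p ^ i = x (b' ^ p ^ i)
        rw [map_pow]
      · have hc2' : ((powMonoidHom (p ^ i)) b') ^ p = 1 := hc2
        show (x ((powMonoidHom (p ^ i)) b')) ^ p = 1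
        rw [← map_pow, hc2', map_one]
    have hB₂exp : ∀ c ∈ B₂, c ^ p = 1 := fun c hc => MonoidHom.mem_ker.mp hc.2
    have hB₂ne : B₂ ≠ ⊥ := by
      -- an element of order `p` among the powers of `b ^ p ^ i`
      have hex : ∃ k, (b ^ p ^ i) ^ p ^ k = 1 := hA (b ^ p ^ i)
      have hk := Nat.find_spec hex
      have hk0 : Nat.find hex ≠ 0 := by
        intro h
        rw [h, pow_zero, pow_one] at hk
        exact hb1 hk
      have hk1 : (b ^ p ^ i) ^ p ^ (Nat.find hex - 1) ≠ 1 :=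
        Nat.find_min hex (by omega)
      intro hbot
      have hmem : (b ^ p ^ i) ^ p ^ (Nat.find hex - 1) ∈ B₂ := by
        refine ⟨?_, ?_⟩
        · apply Subgroup.pow_mem
          exact ⟨b, hbB, rfl⟩
        · show ((b ^ p ^ i) ^ p ^ (Nat.find hex - 1)) ^ p = 1
          rw [← pow_mul, ← pow_succ]
          have : Nat.find hex - 1 + 1 = Nat.find hex := by omega
          rw [this]; exact hk
      rw [hbot, Subgroup.mem_bot] at hmem
      exact hk1 hmem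
    have hB₂all : ∀ a : A, a ∈ B₂ ↔ a ^ p = 1 := by
      rcases hIII B₂ hB₂inv hB₂exp with h | h
      · exact absurd h hB₂ne
      · exact h
    -- step 3
    have h3 : a ^ p ^ i ∈ B₂ := by
      rw [hB₂all, ← pow_mul, ← pow_succ]; exact ha
    obtain ⟨b', hb', hb'a⟩ := h3.1
    have hb'a' : b' ^ p ^ i = a ^ p ^ i := hb'a
    have h4 : a * b'⁻¹ ∈ B := by
      apply h1
      rw [mul_pow, inv_pow, hb'a', mul_inv_cancel]
    have : a = a * b'⁻¹ * b' := by group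
    rw [this]
    exact B.mul_mem h4 hb'

end tail



/-- Let A be a finite abelian p-group and X a group of automorphisms of A of order prime to p. Call a subgroup of A invariant when every element of X maps it onto itself. Then the following are equivalent: (i) A is not the direct product of two nontrivial invariant subgroups; (ii) every invariant subgroup of A is one of the subgroups Ω_i(A) = {a : a^(p^i) = 1}; (iii) the subgroup Ω₁(A) of elements of order dividing p has no invariant subgroups other than 1 and itself. -/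
theorem result {A : Type*} [CommGroup A] [Finite A] {p : ℕ} [Fact p.Prime] (hA : IsPGroup p A) (X : Subgroup (MulAut A)) (hX : (Nat.card X).Coprime p) : ((¬ ∃ B C : Subgroup A, B ≠ ⊥ ∧ C ≠ ⊥ ∧ (∀ x ∈ X, B.map x.toMonoidHom = B) ∧ (∀ x ∈ X, C.map x.toMonoidHom = C) ∧ B ⊓ C = ⊥ ∧ B ⊔ C = ⊤) ↔ (∀ B : Subgroup A, (∀ x ∈ X, B.map x.toMonoidHom = B) → ∃ i : ℕ, ∀ a : A, a ∈ B ↔ a ^ p ^ i = 1)) ∧ ((∀ B : Subgroup A, (∀ x ∈ X, B.map x.toMonoidHom = B) → ∃ i : ℕ, ∀ a : A, a ∈ B ↔ a ^ p ^ i = 1) ↔ (∀ B : Subgroup A, (∀ x ∈ X, B.map x.toMonoidHom = B) → (∀ b ∈ B, b ^ p = 1) → B = ⊥ ∨ ∀ a : A, a ∈ B ↔ a ^ p = 1)) := by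

  classical
  have hp : p.Prime := Fact.out
  -- (III) → (II)
  have h32 : (∀ B : Subgroup A, (∀ x ∈ X, B.map x.toMonoidHom = B) → (∀ b ∈ B, b ^ p = 1) →
      B = ⊥ ∨ ∀ a : A, a ∈ B ↔ a ^ p = 1) →
      (∀ B : Subgroup A, (∀ x ∈ X, B.map x.toMonoidHom = B) →
        ∃ i : ℕ, ∀ a : A, a ∈ B ↔ a ^ p ^ i = 1) := by
    intro hIII B hB
    obtain ⟨k, hk⟩ := hA.exists_card_eq
    have hex : ∃ i, ∀ b ∈ B, b ^ p ^ i = 1 :=
      ⟨k, fun b _ => by rw [← hk]; exact pow_card_eq_one'⟩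
    refine ⟨Nat.find hex, fun a => ⟨fun ha => Nat.find_spec hex a ha, ?_⟩⟩
    apply omega_le_of_irreducible hA X hIII (Nat.find hex) B hB
    by_cases h0 : Nat.find hex = 0
    · left; exact h0
    · right
      have := Nat.find_min hex (show Nat.find hex - 1 < Nat.find hex by omega)
      push Not at this
      exact this
  -- (II) → (III)
  have h23 : (∀ B : Subgroup A, (∀ x ∈ X, B.map x.toMonoidHom = B) →
        ∃ i : ℕ, ∀ a : A, a ∈ B ↔ a ^ p ^ i = 1) →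
      (∀ B : Subgroup A, (∀ x ∈ X, B.map x.toMonoidHom = B) → (∀ b ∈ B, b ^ p = 1) →
      B = ⊥ ∨ ∀ a : A, a ∈ B ↔ a ^ p = 1) := by
    intro hII B hB hexp
    obtain ⟨i, hi⟩ := hII B hB
    by_cases hbot : B = ⊥
    · left; exact hbot
    · right
      intro a
      refine ⟨hexp a, fun ha => ?_⟩
      rw [hi]
      have hi0 : i ≠ 0 := by
        rintro rfl
        apply hbot
        rw [eq_bot_iff]
        intro b hb
        have := (hi b).mp hb
        rw [pow_zero, pow_one] at this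
        rw [Subgroup.mem_bot]; exact this
      have : i = (i - 1) + 1 := by omega
      rw [this, pow_succ', pow_mul, ha, one_pow]
  refine ⟨⟨?_, ?_⟩, ⟨h23, h32⟩⟩
  · -- (I) → (II)
    intro hI
    apply h32
    intro B hB hexp
    by_cases hbot : B = ⊥
    · left; exact hbot
    · right
      exact irreducible_of_indecomposable hA X hX hI B hB hexp hbot
  · -- (II) → (I)
    rintro hII ⟨B, C, hBne, hCne, hB, hC, h1, h2⟩
    obtain ⟨i, hi⟩ := hII B hB
    obtain ⟨j, hj⟩ := hII C hC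
    rcases le_total i j with hij | hij
    · apply hBne
      rw [eq_bot_iff, ← h1]
      intro b hb
      refine ⟨hb, ?_⟩
      apply (hj b).mpr
      have := (hi b).mp hb
      have e : j = i + (j - i) := by omega
      rw [e, pow_add, pow_mul, this, one_pow]
    · apply hCne
      rw [eq_bot_iff, ← h1]
      intro c hc
      refine ⟨?_, hc⟩
      apply (hi c).mpr
      have := (hj c).mp hc
      have e : i = j + (i - j) := by omega
      rw [e, pow_add, pow_mul, this, one_pow]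

end Cfsg.Agent.S3775
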