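import Mathlib
import Cfsg.Statements.S3866
-- import your own Cfsg.Agent.* helpers here

set_option autoImplicit false
open Cfsg

namespace Cfsg.Agent.S3866

variable {G : Type*} [Group G]

open scoped commutatorElement

lemma comm_mem (A : Subgroup G) [hn : A.Normal] (x : G) (a : G) (ha : a ∈ A) :
    x * a * x⁻¹ * a⁻¹ ∈ A :=
  A.mul_mem (hn.conj_mem a ha x) (A.inv_mem ha)

lemma hom_prop (A : Subgroup G) [hn : A.Normal] (hA : IsMulCommutative A) (x : G)
    (a b : G) (ha : a ∈ A) (hb : b ∈ A) :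
    x * (a * b) * x⁻¹ * (a * b)⁻¹ = (x * a * x⁻¹ * a⁻¹) * (x * b * x⁻¹ * b⁻¹) := by
  have hc : a * (x * b * x⁻¹ * b⁻¹) = (x * b * x⁻¹ * b⁻¹) * a := by
    have := hA.is_comm.comm ⟨a, ha⟩ ⟨x * b * x⁻¹ * b⁻¹, comm_mem A x b hb⟩
    exact congrArg Subtype.val this
  calc x * (a * b) * x⁻¹ * (a * b)⁻¹
      = (x * a * x⁻¹) * (a⁻¹ * (a * (x * b * x⁻¹ * b⁻¹)) * a⁻¹) := by group
    _ = (x * a * x⁻¹) * (a⁻¹ * ((x * b * x⁻¹ * b⁻¹) * a) * a⁻¹) := by rw [hc]
    _ = (x * a * x⁻¹ * a⁻¹) * (x * b * x⁻¹ * b⁻¹) := by group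

/-- the commutator map `a ↦ [x, a]` as an endomorphism of `A`. -/
def commHom (A : Subgroup G) [A.Normal] (hA : IsMulCommutative A) (x : G) : A →* A where
  toFun a := ⟨x * a * x⁻¹ * (a : G)⁻¹, comm_mem A x a a.2⟩
  map_one' := by
    apply Subtype.ext
    simp
  map_mul' a b := by
    apply Subtype.ext
    simpa using hom_prop A hA x a b a.2 b.2

lemma commHom_apply (A : Subgroup G) [A.Normal] (hA : IsMulCommutative A) (x : G) (a : A) :
    ((commHom A hA x a : A) : G) = x * a * x⁻¹ * (a : G)⁻¹ := rfl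

/-- image of the commutator map as a subgroup of `G` -/
def imSub (A : Subgroup G) [A.Normal] (hA : IsMulCommutative A) (x : G) : Subgroup G :=
  (commHom A hA x).range.map A.subtype

lemma mem_imSub (A : Subgroup G) [A.Normal] (hA : IsMulCommutative A) (x : G) (c : G) :
    c ∈ imSub A hA x ↔ ∃ a ∈ A, x * a * x⁻¹ * a⁻¹ = c := by
  constructor
  · rintro ⟨y, ⟨a, rfl⟩, rfl⟩
    exact ⟨a, a.2, rfl⟩
  · rintro ⟨a, ha, rfl⟩
    exact ⟨commHom A hA x ⟨a, ha⟩, ⟨⟨a, ha⟩, rfl⟩, rfl⟩

lemma imSub_le (A : Subgroup G) [A.Normal] (hA : IsMulCommutative A) (x : G) :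
    imSub A hA x ≤ A := by
  intro c hc
  obtain ⟨a, ha, rfl⟩ := (mem_imSub A hA x c).mp hc
  exact comm_mem A x a ha

lemma imSub_normal (A : Subgroup G) [hn : A.Normal] (hA : IsMulCommutative A) (x : G)
    (hgen : A ⊔ Subgroup.zpowers x = ⊤) : (imSub A hA x).Normal := by
  rw [← Subgroup.normalizer_eq_top_iff, eq_top_iff, ← hgen, sup_le_iff]
  constructor
  · intro a' ha'
    rw [Subgroup.mem_normalizer_iff]
    intro h
    have key : ∀ h ∈ A, a' * h * a'⁻¹ = h := by
      intro h hh
      have := hA.is_comm.comm ⟨a', ha'⟩ ⟨h, hh⟩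
      have h2 : a' * h = h * a' := congrArg Subtype.val this
      rw [h2]; group
    constructor
    · intro hh
      rw [key h (imSub_le A hA x hh)]; exact hh
    · intro hh
      have h1 : a' * h * a'⁻¹ ∈ A := imSub_le A hA x hh
      have h2 : h ∈ A := by
        have := hn.conj_mem _ h1 a'⁻¹
        simpa [mul_assoc] using this
      rw [key h h2] at hh; exact hh
  · rw [Subgroup.zpowers_le]
    rw [Subgroup.mem_normalizer_iff]
    intro h
    constructor
    · intro hh
      obtain ⟨a, ha, rfl⟩ := (mem_imSub A hA x h).mp hh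
      rw [mem_imSub]
      refine ⟨x * a * x⁻¹, hn.conj_mem a ha x, ?_⟩
      group
    · intro hh
      obtain ⟨a, ha, hae⟩ := (mem_imSub A hA x _).mp hh
      rw [mem_imSub]
      refine ⟨x⁻¹ * a * x, ?_, ?_⟩
      · have := hn.conj_mem a ha x⁻¹
        simpa using this
      · have : h = x⁻¹ * (x * h * x⁻¹) * x := by group
        rw [this, ← hae]
        group

lemma commutator_le_imSub (A : Subgroup G) [hn : A.Normal] (hA : IsMulCommutative A) (x : G)
    (hgen : A ⊔ Subgroup.zpowers x = ⊤) : commutator G ≤ imSub A hA x := by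
  have hI : (imSub A hA x).Normal := imSub_normal A hA x hgen
  set I := imSub A hA x with hIdef
  let π := QuotientGroup.mk' I
  let S : Set G := (A : Set G) ∪ {x}
  have hS : Subgroup.closure S = ⊤ := by
    rw [Subgroup.closure_union, Subgroup.closure_eq, ← Subgroup.zpowers_eq_closure, hgen]
  have hS' : Subgroup.closure (π '' S) = ⊤ := by
    rw [← MonoidHom.map_closure, hS, ← MonoidHom.range_eq_map, MonoidHom.range_eq_top]
    exact QuotientGroup.mk'_surjective I
  have hxa : ∀ a ∈ A, π x * π a = π a * π x := by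
    intro a ha
    have h0 : π (x * a * x⁻¹ * a⁻¹) = 1 :=
      (QuotientGroup.eq_one_iff _).mpr ((mem_imSub A hA x _).mpr ⟨a, ha, rfl⟩)
    have h1 : x * a = (x * a * x⁻¹ * a⁻¹) * (a * x) := by group
    calc π x * π a = π (x * a) := (map_mul _ _ _).symm
      _ = π ((x * a * x⁻¹ * a⁻¹) * (a * x)) := by rw [← h1]
      _ = π (x * a * x⁻¹ * a⁻¹) * π (a * x) := map_mul _ _ _
      _ = π a * π x := by rw [h0, one_mul, map_mul]
  have hab : ∀ a ∈ A, ∀ b ∈ A, π a * π b = π b * π a := by
    intro a ha b hb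
    have := hA.is_comm.comm ⟨a, ha⟩ ⟨b, hb⟩
    have h2 : a * b = b * a := congrArg Subtype.val this
    rw [← map_mul, ← map_mul, h2]
  have h1 : ∀ s ∈ π '' S, ∀ t ∈ π '' S, s * t = t * s := by
    rintro _ ⟨s, hs, rfl⟩ _ ⟨t, ht, rfl⟩
    rcases hs with hs | hs <;> rcases ht with ht | ht
    · exact hab s hs t ht
    · rw [Set.mem_singleton_iff] at ht; subst ht
      exact (hxa s hs).symm
    · rw [Set.mem_singleton_iff] at hs; subst hs
      exact hxa t ht
    · rw [Set.mem_singleton_iff] at hs ht; subst hs; subst ht; rfl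
  have h2 : ∀ s ∈ π '' S, ∀ q : G ⧸ I, q * s = s * q := by
    intro s hs q
    have hq : q ∈ Subgroup.closure (π '' S) := by rw [hS']; trivial
    induction hq using Subgroup.closure_induction with
    | mem t ht => exact h1 t ht s hs
    | one => simp
    | mul a b _ _ ha hb => rw [mul_assoc, hb, ← mul_assoc, ha, mul_assoc]
    | inv a _ ha =>
      calc a⁻¹ * s = a⁻¹ * (s * a) * a⁻¹ := by group
        _ = a⁻¹ * (a * s) * a⁻¹ := by rw [ha]
        _ = s * a⁻¹ := by group
  have h3 : ∀ p q : G ⧸ I, p * q = q * p := by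
    intro p q
    have hp : p ∈ Subgroup.closure (π '' S) := by rw [hS']; trivial
    induction hp using Subgroup.closure_induction with
    | mem t ht => exact (h2 t ht q).symm
    | one => simp
    | mul a b _ _ ha hb => rw [mul_assoc, hb, ← mul_assoc, ha, mul_assoc]
    | inv a _ ha =>
      calc a⁻¹ * q = a⁻¹ * (q * a) * a⁻¹ := by group
        _ = a⁻¹ * (a * q) * a⁻¹ := by rw [ha]
        _ = q * a⁻¹ := by group
  rw [commutator_eq_closure, Subgroup.closure_le]
  rintro _ ⟨g₁, g₂, rfl⟩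
  have : π ⁅g₁, g₂⁆ = 1 := by
    rw [map_commutatorElement, commutatorElement_eq_one_iff_mul_comm]
    exact h3 _ _
  exact (QuotientGroup.eq_one_iff _).mp this

/-- Let A be a commutative normal subgroup of the finite group G with G generated by A and an element x. Then a ↦ x a x⁻¹ a⁻¹ is a surjective homomorphism from A onto the commutator subgroup of G whose kernel is the centralizer of x in A; in particular the commutator subgroup has order equal to the index in A of that centralizer. -/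
theorem result {G : Type*} [Group G] [Finite G] (A : Subgroup G) [A.Normal] (hA : IsMulCommutative A) (x : G) (hgen : A ⊔ Subgroup.zpowers x = ⊤) : (∀ a ∈ A, x * a * x⁻¹ * a⁻¹ ∈ commutator G) ∧ (∀ c ∈ commutator G, ∃ a ∈ A, x * a * x⁻¹ * a⁻¹ = c) ∧ (∀ a ∈ A, ∀ b ∈ A, x * (a * b) * x⁻¹ * (a * b)⁻¹ = (x * a * x⁻¹ * a⁻¹) * (x * b * x⁻¹ * b⁻¹)) ∧ Nat.card (commutator G) * Nat.card ↥(A ⊓ Subgroup.centralizer ({x} : Set G)) = Nat.card A := by
  have p1 : ∀ a ∈ A, x * a * x⁻¹ * a⁻¹ ∈ commutator G := by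
    intro a _
    rw [commutator_eq_closure]
    exact Subgroup.subset_closure ⟨x, a, rfl⟩
  have p2 : ∀ c ∈ commutator G, ∃ a ∈ A, x * a * x⁻¹ * a⁻¹ = c := by
    intro c hc
    exact (mem_imSub A hA x c).mp (commutator_le_imSub A hA x hgen hc)
  refine ⟨p1, p2, fun a ha b hb => hom_prop A hA x a b ha hb, ?_⟩
  have hI : imSub A hA x = commutator G := by
    apply le_antisymm
    · intro c hc
      obtain ⟨a, ha, rfl⟩ := (mem_imSub A hA x c).mp hc
      exact p1 a ha
    · exact commutator_le_imSub A hA x hgen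
  have hker : (commHom A hA x).ker = (A ⊓ Subgroup.centralizer ({x} : Set G)).subgroupOf A := by
    ext a
    rw [MonoidHom.mem_ker, Subgroup.mem_subgroupOf, Subgroup.mem_inf,
      Subgroup.mem_centralizer_singleton_iff]
    constructor
    · intro h
      refine ⟨a.2, ?_⟩
      have h1 : x * a * x⁻¹ * (a : G)⁻¹ = 1 := congrArg Subtype.val h
      calc (a : G) * x = (x * a * x⁻¹ * (a : G)⁻¹)⁻¹ * (x * a) := by group
        _ = x * a := by rw [h1]; group
    · rintro ⟨_, h⟩
      apply Subtype.ext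
      rw [commHom_apply, ← h]
      simp
  have hc1 : Nat.card (commutator G) = Nat.card (commHom A hA x).range := by
    rw [← hI]
    exact Subgroup.card_map_of_injective (Subgroup.subtype_injective A)
  have hc2 : Nat.card ↥(A ⊓ Subgroup.centralizer ({x} : Set G)) = Nat.card (commHom A hA x).ker := by
    rw [hker]
    exact (Nat.card_congr (Subgroup.subgroupOfEquivOfLe inf_le_left).toEquiv).symm
  rw [hc1, hc2, ← Subgroup.index_ker, mul_comm]
  exact Subgroup.card_mul_index _

end Cfsg.Agent.S3866
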