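import Mathlib
import Cfsg.Statements.S3967
import Cfsg.Agent.Lib.Helper66.Hopf
import Cfsg.Agent.Lib.Helper66.StemDihedral2
-- import your own Cfsg.Agent.* helpers here

set_option autoImplicit false
open Cfsg

namespace Cfsg.Agent.S3967

open Finset
open Cfsg.Agent.Lib.Helper66
open scoped commutatorElement

/-- the arithmetic of the parameters -/
theorem numbers (m n r l : ℕ) (hm : 0 < m) (hr : 0 < r) (hrn : r ^ n ≡ 1 [MOD m]) :
    ∃ d m₁ r₁ s₁ : ℕ, 0 < d ∧ 0 < m₁ ∧ m = m₁ * d ∧ r = r₁ * d + 1 ∧ Nat.Coprime m₁ r₁ ∧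
      (∑ i ∈ range n, r ^ i) = m₁ * s₁ ∧ m * l / Nat.gcd m (r - 1) = m₁ * l ∧
      Nat.gcd m (r - 1) * Nat.gcd m (∑ i ∈ range n, r ^ i) / m = Nat.gcd d s₁ ∧
      r ^ n = 1 + m * (r₁ * s₁) := by
  set d := Nat.gcd m (r - 1) with hd
  have hd0 : 0 < d := Nat.gcd_pos_of_pos_left _ hm
  obtain ⟨m₁, hm₁⟩ : d ∣ m := Nat.gcd_dvd_left _ _
  obtain ⟨r₁, hr₁⟩ : d ∣ r - 1 := Nat.gcd_dvd_right _ _
  have hm₁0 : 0 < m₁ := by
    rcases Nat.eq_zero_or_pos m₁ with h | h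
    · rw [h, mul_zero] at hm₁; omega
    · exact h
  have hcop : Nat.Coprime m₁ r₁ := by
    have := Nat.coprime_div_gcd_div_gcd (m := m) (n := r - 1) hd0
    rw [← hd] at this
    have e1 : m / d = m₁ := by rw [hm₁]; exact Nat.mul_div_cancel_left _ hd0
    have e2 : (r - 1) / d = r₁ := by rw [hr₁]; exact Nat.mul_div_cancel_left _ hd0
    rw [e1, e2] at this
    exact this
  set s := ∑ i ∈ range n, r ^ i with hs
  -- geometric sum
  have hgeo : (r - 1) * s + 1 = r ^ n := by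
    have h1 : ((r : ℤ) - 1) * (∑ i ∈ range n, (r : ℤ) ^ i) = (r : ℤ) ^ n - 1 := mul_geom_sum _ _
    have h2 : (((r - 1 : ℕ) : ℤ)) = (r : ℤ) - 1 := by
      rw [Nat.cast_sub hr]; simp
    zify
    rw [h2, hs]
    push_cast
    rw [h1]; ring
  have hdvd : m ∣ (r - 1) * s := by
    have h1 : 1 ≤ r ^ n := Nat.one_le_pow _ _ hr
    have h2 := (Nat.modEq_iff_dvd' h1).1 hrn.symm
    have : r ^ n - 1 = (r - 1) * s := by omega
    rw [this] at h2; exact h2
  have hm₁s : m₁ ∣ s := by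
    rw [hm₁, hr₁] at hdvd
    have h1 : d * m₁ ∣ d * (r₁ * s) := by rw [← mul_assoc]; exact hdvd
    have h2 : m₁ ∣ r₁ * s := Nat.dvd_of_mul_dvd_mul_left hd0 h1
    exact hcop.dvd_of_dvd_mul_left h2
  obtain ⟨s₁, hs₁⟩ := hm₁s
  refine ⟨d, m₁, r₁, s₁, hd0, hm₁0, by rw [hm₁, mul_comm], by rw [mul_comm r₁ d, ← hr₁]; omega, hcop, hs₁, ?_, ?_, ?_⟩
  · rw [hm₁, mul_assoc, Nat.mul_div_cancel_left _ hd0]
  · have : d * Nat.gcd m s = m * Nat.gcd d s₁ := by
      rw [hm₁, hs₁, mul_comm d m₁, Nat.gcd_mul_left]; ring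
    rw [this, Nat.mul_div_cancel_left _ hm]
  · rw [← hgeo, hr₁, hs₁, hm₁]; ring

section upper

variable {Γ : Type*} [Group Γ]

/-- finite-group normalizer criterion -/
theorem zpowers_normal_of_generators [Finite Γ] (u : Γ) (S : Set Γ) (hS : Subgroup.closure S = ⊤)
    (h : ∀ g ∈ S, g * u * g⁻¹ ∈ Subgroup.zpowers u) : (Subgroup.zpowers u).Normal := by
  rw [← Subgroup.normalizer_eq_top_iff, eq_top_iff, ← hS, Subgroup.closure_le]
  intro g hg
  have h1 : ∀ x ∈ Subgroup.zpowers u, g * x * g⁻¹ ∈ Subgroup.zpowers u := by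
    rintro _ ⟨k, rfl⟩
    show g * u ^ k * g⁻¹ ∈ _
    rw [dl_conj_zpow]
    exact Subgroup.zpow_mem _ (h g hg) k
  rw [SetLike.mem_coe, Subgroup.mem_normalizer_iff]
  intro x
  refine ⟨h1 x, fun hx => ?_⟩
  let c : Subgroup.zpowers u → Subgroup.zpowers u := fun y => ⟨g * y.1 * g⁻¹, h1 y.1 y.2⟩
  have hinj : Function.Injective c := by
    intro y y' hyy'
    have := congrArg Subtype.val hyy'
    simp only [c] at this
    apply Subtype.ext
    simpa using this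
  obtain ⟨y, hy⟩ := (Finite.injective_iff_surjective.1 hinj) ⟨g * x * g⁻¹, hx⟩
  have := congrArg Subtype.val hy
  simp only [c] at this
  have hxy : y.1 = x := by simpa using this
  rw [← hxy]; exact y.2

/-- two generators and a central subgroup: the commutator subgroup lies in any normal subgroup
containing `[X, A]`. -/
theorem two_gen_commutator_le (A X : Γ) (Z : Subgroup Γ) (hZ : Z ≤ Subgroup.center Γ)
    (hgen : Subgroup.closure ({A, X} ∪ (Z : Set Γ)) = ⊤) (N : Subgroup Γ) [N.Normal]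
    (hc : X * A * X⁻¹ * A⁻¹ ∈ N) : commutator Γ ≤ N := by
  apply commutator_le_of_generators _ _ hgen
  have hcen : ∀ s ∈ (Z : Set Γ), ∀ t : Γ, s * t * s⁻¹ * t⁻¹ ∈ N ∧ t * s * t⁻¹ * s⁻¹ ∈ N := by
    intro s hs t
    have := hZ hs
    rw [Subgroup.mem_center_iff] at this
    constructor
    · have e : s * t * s⁻¹ * t⁻¹ = 1 := by rw [← this t]; group
      rw [e]; exact Subgroup.one_mem _
    · have e : t * s * t⁻¹ * s⁻¹ = 1 := by rw [this t]; group
      rw [e]; exact Subgroup.one_mem _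
  have hone : ∀ s : Γ, s * s * s⁻¹ * s⁻¹ ∈ N := by
    intro s
    have : s * s * s⁻¹ * s⁻¹ = 1 := by group
    rw [this]; exact Subgroup.one_mem _
  rintro s (hs | hs) t (ht | ht)
  · rcases hs with rfl | hs <;> rcases ht with rfl | ht
    · exact hone _
    · rw [Set.mem_singleton_iff] at ht; subst ht
      have : s * t * s⁻¹ * t⁻¹ = (t * s * t⁻¹ * s⁻¹)⁻¹ := by group
      rw [this]
      exact Subgroup.inv_mem _ hc
    · rw [Set.mem_singleton_iff] at hs; subst hs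
      exact hc
    · rw [Set.mem_singleton_iff] at hs ht; subst hs; subst ht
      exact hone _
  · exact (hcen t ht s).2
  · exact (hcen s hs t).1
  · exact (hcen s hs t).1

end upper

section upper2

variable {Γ : Type*} [Group Γ]

/-- relations among the central correction terms -/
theorem central_relations (α β : Γ) (z₁ z₂ z₃ : Subgroup.center Γ) (d m₁ r₁ s₁ l n : ℕ)
    (e1 : α ^ (m₁ * d) = z₁) (e2 : β ^ n = z₂ * α ^ (m₁ * l))
    (e3 : β * α * β⁻¹ = z₃ * α ^ (r₁ * d + 1))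
    (hs : ∑ i ∈ range n, (r₁ * d + 1) ^ i = m₁ * s₁)
    (hpow : (r₁ * d + 1) ^ n = 1 + m₁ * d * (r₁ * s₁)) :
    (z₃ : Γ) ^ (m₁ * d) * (z₁ : Γ) ^ (r₁ * d) = 1 ∧
      (z₃ : Γ) ^ (m₁ * l) * (z₁ : Γ) ^ (r₁ * l) = 1 ∧
      (z₃ : Γ) ^ (m₁ * s₁) * (z₁ : Γ) ^ (r₁ * s₁) = 1 := by
  set r := r₁ * d + 1 with hr
  have c1 : ∀ x : Γ, Commute (z₁ : Γ) x := fun x => (Subgroup.mem_center_iff.1 z₁.2 x).symm
  have c2 : ∀ x : Γ, Commute (z₂ : Γ) x := fun x => (Subgroup.mem_center_iff.1 z₂.2 x).symm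
  have c3 : ∀ x : Γ, Commute (z₃ : Γ) x := fun x => (Subgroup.mem_center_iff.1 z₃.2 x).symm
  -- conjugating powers of α by β
  have hconj : ∀ k : ℕ, β * α ^ k * β⁻¹ = (z₃ : Γ) ^ k * α ^ (r * k) := by
    intro k
    rw [← conj_pow, e3, (c3 _).mul_pow, ← pow_mul]
  refine ⟨?_, ?_, ?_⟩
  · -- conjugate α^m = z₁
    have h1 := hconj (m₁ * d)
    rw [e1] at h1
    have h2 : β * (z₁ : Γ) * β⁻¹ = z₁ := by rw [← (c1 β).eq, mul_inv_cancel_right]
    have hA : α ^ (r * (m₁ * d)) = (z₁ : Γ) ^ (r₁ * d) * z₁ := by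
      rw [mul_comm r, pow_mul α (m₁ * d) r, e1, hr, pow_succ]
    rw [h2, hA] at h1
    -- z₁ = z₃^m * (z₁^(r₁ d) * z₁)
    have h3 : (z₁ : Γ) = ((z₃ : Γ) ^ (m₁ * d) * (z₁ : Γ) ^ (r₁ * d)) * z₁ := by
      rw [mul_assoc]; exact h1
    exact (right_eq_mul.1 h3)
  · -- conjugate α^t
    have h1 := hconj (m₁ * l)
    have hαt : α ^ (m₁ * l) = (z₂ : Γ)⁻¹ * β ^ n := by rw [e2, inv_mul_cancel_left]
    have h2 : β * α ^ (m₁ * l) * β⁻¹ = α ^ (m₁ * l) := by
      rw [hαt]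
      have hc : Commute ((z₂ : Γ)⁻¹) β := (c2 β).inv_left
      calc β * ((z₂ : Γ)⁻¹ * β ^ n) * β⁻¹ = (β * (z₂ : Γ)⁻¹) * β ^ n * β⁻¹ := by group
        _ = ((z₂ : Γ)⁻¹ * β) * β ^ n * β⁻¹ := by rw [hc.eq]
        _ = (z₂ : Γ)⁻¹ * β ^ n := by group
    rw [h2] at h1
    have h3 : r * (m₁ * l) = m₁ * l + (m₁ * d) * (r₁ * l) := by rw [hr]; ring
    have hB : α ^ (r * (m₁ * l)) = α ^ (m₁ * l) * (z₁ : Γ) ^ (r₁ * l) := by
      rw [h3, pow_add, pow_mul α (m₁ * d) (r₁ * l), e1]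
    rw [hB] at h1
    -- α^t = z₃^t * (α^t * z₁^(r₁ l))
    have h4 : α ^ (m₁ * l) = ((z₃ : Γ) ^ (m₁ * l) * (z₁ : Γ) ^ (r₁ * l)) * α ^ (m₁ * l) := by
      rw [mul_assoc, ((c1 _).pow_left _).eq]; exact h1
    exact (right_eq_mul.1 h4)
  · -- iterate conjugation
    have hk : ∀ k : ℕ, β ^ k * α * (β ^ k)⁻¹ =
        (z₃ : Γ) ^ (∑ i ∈ range k, r ^ i) * α ^ (r ^ k) := by
      intro k
      induction k with
      | zero => simp
      | succ k ih =>
        have : β ^ (k + 1) * α * (β ^ (k + 1))⁻¹ = β * (β ^ k * α * (β ^ k)⁻¹) * β⁻¹ := by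
          rw [pow_succ']; group
        rw [this, ih]
        have h5 : β * ((z₃ : Γ) ^ (∑ i ∈ range k, r ^ i) * α ^ r ^ k) * β⁻¹ =
            (z₃ : Γ) ^ (∑ i ∈ range k, r ^ i) * (β * α ^ r ^ k * β⁻¹) := by
          rw [← mul_assoc, (((c3 β).pow_left _).symm).eq]; group
        rw [h5, hconj, ← mul_assoc, ← pow_add, Finset.sum_range_succ, ← pow_succ']
    have h1 := hk n
    have h2 : β ^ n * α * (β ^ n)⁻¹ = α := by
      rw [e2]
      have : Commute ((z₂ : Γ) * α ^ (m₁ * l)) α := (c2 α).mul_left (Commute.pow_self α _)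
      rw [this.eq, mul_inv_cancel_right]
    have hC : α ^ (r ^ n) = α * (z₁ : Γ) ^ (r₁ * s₁) := by
      rw [hpow, pow_add, pow_one, pow_mul α (m₁ * d) (r₁ * s₁), e1]
    rw [h2, hs, hC] at h1
    have h4 : α = ((z₃ : Γ) ^ (m₁ * s₁) * (z₁ : Γ) ^ (r₁ * s₁)) * α := by
      rw [mul_assoc, ((c1 _).pow_left _).eq]; exact h1
    exact (right_eq_mul.1 h4)

end upper2

section upper3

variable {Γ G : Type*} [Group Γ] [Group G]

theorem stem_metacyclic [Finite Γ] (σ : Γ →* G) (hσ : Cfsg.IsStemExtension σ) (a b : G)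
    (hgen : Subgroup.closure ({a, b} : Set G) = ⊤) (d m₁ r₁ s₁ l n : ℕ)
    (hcop : Nat.Coprime m₁ r₁) (hd : 0 < d)
    (hrel1 : a ^ (m₁ * d) = 1) (hrel2 : b ^ n = a ^ (m₁ * l))
    (hrel3 : b * a * b⁻¹ = a ^ (r₁ * d + 1))
    (hs : ∑ i ∈ range n, (r₁ * d + 1) ^ i = m₁ * s₁)
    (hpow : (r₁ * d + 1) ^ n = 1 + m₁ * d * (r₁ * s₁))
    (hord : ∀ k : ℤ, a ^ k = 1 → ((m₁ * d : ℕ) : ℤ) ∣ k) :
    ∃ w : Γ, w ^ l = 1 ∧ w ^ d = 1 ∧ w ^ s₁ = 1 ∧ ∀ z ∈ σ.ker, z ∈ Subgroup.zpowers w := by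
  obtain ⟨hsurj, hcen, hcomm⟩ := hσ
  obtain ⟨α, rfl⟩ := hsurj a
  obtain ⟨β, rfl⟩ := hsurj b
  set r := r₁ * d + 1 with hr
  -- the central correction terms
  have hz₁ : α ^ (m₁ * d) ∈ σ.ker := by rw [MonoidHom.mem_ker, map_pow]; exact hrel1
  have hz₂ : β ^ n * (α ^ (m₁ * l))⁻¹ ∈ σ.ker := by
    rw [MonoidHom.mem_ker, map_mul, map_inv, map_pow, map_pow, hrel2, mul_inv_cancel]
  have hz₃ : β * α * β⁻¹ * (α ^ r)⁻¹ ∈ σ.ker := by
    rw [MonoidHom.mem_ker, map_mul, map_inv, map_pow, map_mul, map_mul, map_inv, hrel3,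
      mul_inv_cancel]
  obtain ⟨z₁, hz₁def⟩ : ∃ z : Subgroup.center Γ, (z : Γ) = α ^ (m₁ * d) := ⟨⟨_, hcen hz₁⟩, rfl⟩
  obtain ⟨z₂, hz₂def⟩ : ∃ z : Subgroup.center Γ, (z : Γ) = β ^ n * (α ^ (m₁ * l))⁻¹ :=
    ⟨⟨_, hcen hz₂⟩, rfl⟩
  obtain ⟨z₃, hz₃def⟩ : ∃ z : Subgroup.center Γ, (z : Γ) = β * α * β⁻¹ * (α ^ r)⁻¹ :=
    ⟨⟨_, hcen hz₃⟩, rfl⟩
  have e1 : α ^ (m₁ * d) = z₁ := hz₁def.symm
  have e2 : β ^ n = z₂ * α ^ (m₁ * l) := by
    rw [hz₂def, inv_mul_cancel_right]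
  have e3 : β * α * β⁻¹ = z₃ * α ^ r := by
    rw [hz₃def, inv_mul_cancel_right]
  obtain ⟨R1, R3, R2⟩ := central_relations α β z₁ z₂ z₃ d m₁ r₁ s₁ l n e1 e2 e3 hs hpow
  have c3 : ∀ x : Γ, Commute (z₃ : Γ) x := fun x => (Subgroup.mem_center_iff.1 z₃.2 x).symm
  -- u = [β, α]
  set u : Γ := (z₃ : Γ) * α ^ (r₁ * d) with hu
  have hu' : β * α * β⁻¹ * α⁻¹ = u := by
    rw [e3, hu, hr, pow_succ, mul_assoc, mul_inv_cancel_right]
  -- w = u ^ m₁
  have c1 : ∀ x : Γ, Commute (z₁ : Γ) x := fun x => (Subgroup.mem_center_iff.1 z₁.2 x).symm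
  set w : Γ := (z₃ : Γ) ^ m₁ * (z₁ : Γ) ^ r₁ with hwdef
  have hw : u ^ m₁ = w := by
    have hexp : r₁ * d * m₁ = (m₁ * d) * r₁ := by ring
    rw [hu, (c3 _).mul_pow, ← pow_mul, hexp, pow_mul α (m₁ * d) r₁, e1]
  have hwpow : ∀ k : ℕ, w ^ k = (z₃ : Γ) ^ (m₁ * k) * (z₁ : Γ) ^ (r₁ * k) := by
    intro k
    rw [hwdef, ((c3 _).pow_left m₁).mul_pow, ← pow_mul, ← pow_mul]
  have hwl : w ^ l = 1 := by rw [hwpow]; exact R3
  have hwd : w ^ d = 1 := by rw [hwpow]; exact R1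
  have hws : w ^ s₁ = 1 := by rw [hwpow]; exact R2
  -- generation
  have hgen' : Subgroup.closure ({α, β} ∪ (σ.ker : Set Γ)) = ⊤ := by
    rw [eq_top_iff]
    intro g _
    have hg : σ g ∈ Subgroup.map σ (Subgroup.closure ({α, β} : Set Γ)) := by
      rw [MonoidHom.map_closure]
      have : (σ '' ({α, β} : Set Γ)) = {σ α, σ β} := by
        rw [Set.image_pair]
      rw [this, hgen]; trivial
    obtain ⟨h, hh, hhg⟩ := hg
    have hk : g * h⁻¹ ∈ σ.ker := by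
      rw [MonoidHom.mem_ker, map_mul, map_inv, hhg]; group
    have : g = (g * h⁻¹) * h := by group
    rw [this]
    apply Subgroup.mul_mem
    · exact Subgroup.subset_closure (Or.inr hk)
    · exact Subgroup.closure_mono Set.subset_union_left hh
  -- normality of ⟨u⟩
  haveI : (Subgroup.zpowers u).Normal := by
    apply zpowers_normal_of_generators u _ hgen'
    rintro g ((rfl | hg) | hg)
    · -- α commutes with u
      have : Commute g u := ((c3 g).symm).mul_right (Commute.self_pow g _)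
      rw [this.eq, mul_inv_cancel_right]
      exact Subgroup.mem_zpowers u
    · rw [Set.mem_singleton_iff] at hg; subst hg
      -- β u β⁻¹ = u ^ r
      have : g * u * g⁻¹ = u ^ r := by
        rw [hu]
        have h1 : g * ((z₃ : Γ) * α ^ (r₁ * d)) * g⁻¹ = (z₃ : Γ) * (g * α ^ (r₁ * d) * g⁻¹) := by
          rw [← mul_assoc, ((c3 g).symm).eq]; group
        rw [h1, ← conj_pow, e3, (c3 _).mul_pow, (c3 _).mul_pow, ← pow_mul, ← mul_assoc,
          ← pow_succ', ← pow_mul, mul_comm r]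
      rw [this]
      exact Subgroup.pow_mem _ (Subgroup.mem_zpowers u) r
    · have := hcen hg
      rw [Subgroup.mem_center_iff] at this
      rw [← this u, mul_inv_cancel_right]
      exact Subgroup.mem_zpowers u
  have hcomm_le : commutator Γ ≤ Subgroup.zpowers u :=
    two_gen_commutator_le α β σ.ker hcen hgen' _ (by rw [hu']; exact Subgroup.mem_zpowers u)
  refine ⟨w, hwl, hwd, hws, ?_⟩
  · intro z hz
    obtain ⟨k, hk⟩ := hcomm_le (hcomm hz)
    have hk : u ^ k = z := hk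
    -- image in G
    have h1 : σ u = (σ α) ^ (r₁ * d) := by
      rw [hu, map_mul, map_pow]
      have : σ (z₃ : Γ) = 1 := by rw [hz₃def]; exact MonoidHom.mem_ker.1 hz₃
      rw [this, one_mul]
    have h2 : (σ α) ^ ((r₁ * d : ℕ) * k) = 1 := by
      rw [zpow_mul, zpow_natCast, ← h1, ← map_zpow, hk]; exact MonoidHom.mem_ker.1 hz
    have h3 := hord _ h2
    -- m₁ ∣ k
    have h4 : (m₁ : ℤ) ∣ k := by
      have h5 : ((m₁ : ℤ) * d) ∣ (r₁ : ℤ) * k * d := by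
        have : ((r₁ * d : ℕ) : ℤ) * k = (r₁ : ℤ) * k * d := by push_cast; ring
        rw [← this]; exact_mod_cast h3
      have hd' : (d : ℤ) ≠ 0 := by exact_mod_cast hd.ne'
      have h6 : (m₁ : ℤ) ∣ (r₁ : ℤ) * k := (mul_dvd_mul_iff_right hd').1 h5
      have hc : IsCoprime (m₁ : ℤ) (r₁ : ℤ) := Nat.isCoprime_iff_coprime.2 hcop
      exact hc.dvd_of_dvd_mul_left h6
    obtain ⟨k', rfl⟩ := h4
    refine ⟨k', ?_⟩
    show w ^ k' = z
    rw [← hw, ← hk, zpow_mul, zpow_natCast]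

end upper3

section model

/-- parameters of the model: `m = m₁ d`, `r = r₁ d + 1`, `t = m₁ l`, `g ∣ d, l, s₁` -/
structure Params where
  (d m₁ r₁ s₁ l n g : ℕ)
  (hd : 0 < d) (hm₁ : 0 < m₁) (hn : 0 < n) (hg : 0 < g)
  (hgd : g ∣ d) (hgl : g ∣ l) (hgs : g ∣ s₁)
  (hcop : Nat.Coprime m₁ r₁)
  (hs : ∑ i ∈ range n, (r₁ * d + 1) ^ i = m₁ * s₁)
  (hpow : (r₁ * d + 1) ^ n = 1 + m₁ * d * (r₁ * s₁))

namespace Params

variable (P : Params)

abbrev m : ℕ := P.m₁ * P.d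
abbrev r : ℕ := P.r₁ * P.d + 1
abbrev t : ℕ := P.m₁ * P.l
abbrev M : ℕ := P.m * P.g

theorem hm : 0 < P.m := Nat.mul_pos P.hm₁ P.hd
theorem hM : 0 < P.M := Nat.mul_pos P.hm P.hg

instance : NeZero P.M := ⟨P.hM.ne'⟩
instance : NeZero P.g := ⟨P.hg.ne'⟩
instance : NeZero P.n := ⟨P.hn.ne'⟩

/-- the additive group `ℤ/mg × ℤ/g` -/
abbrev A : Type := ZMod P.M × ZMod P.g

/-- reduction `ℤ/mg → ℤ/g` -/
def cst : ZMod P.M →+* ZMod P.g := ZMod.castHom (dvd_mul_left P.g P.m) (ZMod P.g)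

theorem cst_natCast (k : ℕ) : P.cst (k : ZMod P.M) = (k : ZMod P.g) := map_natCast _ _

theorem g_dvd_m : P.g ∣ P.m := Dvd.dvd.mul_left P.hgd _

/-- `M ∣ k → (k : ZMod M) = 0` helpers -/
theorem natCast_M_eq_zero (k : ℕ) (h : P.M ∣ k) : (k : ZMod P.M) = 0 :=
  (ZMod.natCast_eq_zero_iff _ _).2 h

theorem natCast_g_eq_zero (k : ℕ) (h : P.g ∣ k) : (k : ZMod P.g) = 0 :=
  (ZMod.natCast_eq_zero_iff _ _).2 h

theorem r_pow_n : ((P.r : ℕ) : ZMod P.M) ^ P.n = 1 := by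
  have h1 : ((P.r ^ P.n : ℕ) : ZMod P.M) = ((1 + P.m₁ * P.d * (P.r₁ * P.s₁) : ℕ) : ZMod P.M) := by
    rw [P.hpow]
  rw [Nat.cast_pow] at h1
  rw [h1, Nat.cast_add, Nat.cast_one, P.natCast_M_eq_zero, add_zero]
  obtain ⟨c, hc⟩ := P.hgs
  exact ⟨P.r₁ * c, by rw [hc]; ring⟩

/-- the inverse of `r` -/
def r' : ZMod P.M := ((P.r : ℕ) : ZMod P.M) ^ (P.n - 1)

theorem r_mul_r' : ((P.r : ℕ) : ZMod P.M) * P.r' = 1 := by
  rw [r', ← pow_succ', Nat.sub_add_cancel P.hn, P.r_pow_n]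

/-- the automorphism `(i, j) ↦ (r i, j + i)` -/
def phi₀ : P.A ≃+ P.A where
  toFun x := (((P.r : ℕ) : ZMod P.M) * x.1, x.2 + P.cst x.1)
  invFun x := (P.r' * x.1, x.2 - P.cst (P.r' * x.1))
  left_inv x := by
    apply Prod.ext
    · show P.r' * (((P.r : ℕ) : ZMod P.M) * x.1) = x.1
      rw [← mul_assoc, mul_comm P.r', P.r_mul_r', one_mul]
    · show x.2 + P.cst x.1 - P.cst (P.r' * (((P.r : ℕ) : ZMod P.M) * x.1)) = x.2
      rw [← mul_assoc, mul_comm P.r', P.r_mul_r', one_mul, add_sub_cancel_right]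
  right_inv x := by
    apply Prod.ext
    · show ((P.r : ℕ) : ZMod P.M) * (P.r' * x.1) = x.1
      rw [← mul_assoc, P.r_mul_r', one_mul]
    · show x.2 - P.cst (P.r' * x.1) + P.cst (P.r' * x.1) = x.2
      rw [sub_add_cancel]
  map_add' x y := by
    apply Prod.ext
    · show ((P.r : ℕ) : ZMod P.M) * (x.1 + y.1) = _
      rw [mul_add]; rfl
    · show x.2 + y.2 + P.cst (x.1 + y.1) = (x.2 + P.cst x.1) + (y.2 + P.cst y.1)
      rw [map_add]; ring

theorem phi₀_apply (x : P.A) : P.phi₀ x = (((P.r : ℕ) : ZMod P.M) * x.1, x.2 + P.cst x.1) := rfl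

/-- the group `N` -/
abbrev N : Type := Multiplicative P.A

/-- the automorphism of `N` -/
def phi : MulAut P.N := AddEquiv.toMultiplicative P.phi₀

theorem phi_apply (x : P.A) : P.phi (Multiplicative.ofAdd x) =
    Multiplicative.ofAdd (((P.r : ℕ) : ZMod P.M) * x.1, x.2 + P.cst x.1) := rfl

/-- iterates of `phi` -/
theorem phi_pow (k : ℕ) (x : P.A) :
    (P.phi ^ k) (Multiplicative.ofAdd x) = Multiplicative.ofAdd (((P.r : ℕ) : ZMod P.M) ^ k * x.1,
      x.2 + P.cst (((∑ i ∈ range k, P.r ^ i : ℕ) : ZMod P.M) * x.1)) := by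
  induction k with
  | zero => simp
  | succ k ih =>
    rw [pow_succ', MulAut.mul_apply, ih, phi_apply]
    congr 1
    apply Prod.ext
    · show ((P.r : ℕ) : ZMod P.M) * (((P.r : ℕ) : ZMod P.M) ^ k * x.1) = _
      rw [← mul_assoc, ← pow_succ']
    · show x.2 + P.cst (((∑ i ∈ range k, P.r ^ i : ℕ) : ZMod P.M) * x.1) +
        P.cst (((P.r : ℕ) : ZMod P.M) ^ k * x.1) =
        x.2 + P.cst (((∑ i ∈ range (k + 1), P.r ^ i : ℕ) : ZMod P.M) * x.1)
      have : ((∑ i ∈ range (k + 1), P.r ^ i : ℕ) : ZMod P.M) =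
          ((∑ i ∈ range k, P.r ^ i : ℕ) : ZMod P.M) + ((P.r : ℕ) : ZMod P.M) ^ k := by
        rw [Finset.sum_range_succ, Nat.cast_add, Nat.cast_pow]
      rw [this, add_mul, map_add, add_assoc]

theorem phi_pow_n : P.phi ^ P.n = 1 := by
  apply MulEquiv.ext
  intro x
  show (P.phi ^ P.n) (Multiplicative.ofAdd (Multiplicative.toAdd x)) = x
  rw [phi_pow, P.r_pow_n, one_mul, P.hs, map_mul, Nat.cast_mul, map_mul, P.cst_natCast,
    P.cst_natCast, P.natCast_g_eq_zero _ P.hgs, mul_zero, zero_mul, add_zero]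
  rfl

end Params

end model

namespace Params

variable (P : Params)

/-- the model extension group -/
abbrev E : Type := P.N ⋊[zpowersHom (MulAut P.N) P.phi] Multiplicative ℤ

def αN : P.N := Multiplicative.ofAdd ((1 : ZMod P.M), (0 : ZMod P.g))
def αE : P.E := SemidirectProduct.inl P.αN
def βE : P.E := SemidirectProduct.inr (Multiplicative.ofAdd (1 : ℤ))

theorem αN_zpow (k : ℤ) : P.αN ^ k = Multiplicative.ofAdd ((k : ZMod P.M), (0 : ZMod P.g)) := by
  rw [αN, ← ofAdd_zsmul]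
  congr 1
  apply Prod.ext
  · show k • (1 : ZMod P.M) = k
    rw [zsmul_eq_mul, mul_one]
  · show k • (0 : ZMod P.g) = 0
    rw [smul_zero]

theorem αN_pow (k : ℕ) : P.αN ^ k = Multiplicative.ofAdd ((k : ZMod P.M), (0 : ZMod P.g)) := by
  rw [← zpow_natCast, αN_zpow]; simp

theorem αE_zpow (k : ℤ) : P.αE ^ k =
    SemidirectProduct.inl (Multiplicative.ofAdd ((k : ZMod P.M), (0 : ZMod P.g))) := by
  rw [αE, ← map_zpow, αN_zpow]

theorem αE_pow (k : ℕ) : P.αE ^ k =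
    SemidirectProduct.inl (Multiplicative.ofAdd ((k : ZMod P.M), (0 : ZMod P.g))) := by
  rw [αE, ← map_pow, αN_pow]

theorem βE_zpow (k : ℤ) : P.βE ^ k = SemidirectProduct.inr (Multiplicative.ofAdd k) := by
  rw [βE, ← map_zpow, ← ofAdd_zsmul, smul_eq_mul, mul_one]

theorem βE_conj (x : P.N) : P.βE * SemidirectProduct.inl x * P.βE⁻¹ =
    (SemidirectProduct.inl (P.phi x) : P.E) := by
  rw [βE, ← map_inv, ← SemidirectProduct.inl_aut]
  congr 1

theorem βE_pow_n_conj (x : P.N) : P.βE ^ P.n * SemidirectProduct.inl x * (P.βE ^ P.n)⁻¹ =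
    (SemidirectProduct.inl x : P.E) := by
  rw [← zpow_natCast, βE_zpow, ← map_inv, ← SemidirectProduct.inl_aut]
  congr 1
  show ((zpowersHom (MulAut P.N)) P.phi (Multiplicative.ofAdd (P.n : ℤ))) x = x
  rw [zpowersHom_apply, toAdd_ofAdd, zpow_natCast, P.phi_pow_n]
  rfl

/-- criterion for centrality in `E` -/
theorem mem_center_E (e : P.E) (h1 : ∀ x : P.N, e * SemidirectProduct.inl x = SemidirectProduct.inl x * e)
    (h2 : e * P.βE = P.βE * e) : e ∈ Subgroup.center P.E := by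
  rw [Subgroup.mem_center_iff]
  intro g
  rw [← SemidirectProduct.inl_left_mul_inr_right g]
  have hr : (SemidirectProduct.inr g.right : P.E) = P.βE ^ (Multiplicative.toAdd g.right) := by
    rw [βE_zpow]; rfl
  have hc : Commute e (P.βE ^ (Multiplicative.toAdd g.right)) := (show Commute e P.βE from h2).zpow_right _
  rw [hr, mul_assoc, ← hc.eq, ← mul_assoc, ← h1, mul_assoc]

/-- `inl x` is central when `phi` fixes `x` -/
theorem inl_mem_center (x : P.N) (hx : P.phi x = x) :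
    (SemidirectProduct.inl x : P.E) ∈ Subgroup.center P.E := by
  apply mem_center_E
  · intro y
    rw [← map_mul, ← map_mul, mul_comm]
  · have := P.βE_conj x
    rw [hx, mul_inv_eq_iff_eq_mul] at this
    exact this.symm

/-- elements of the form `(k m, j)` are fixed by `phi` -/
theorem phi_fix (k : ℤ) (j : ZMod P.g) :
    P.phi (Multiplicative.ofAdd ((k : ZMod P.M) * ((P.m : ℕ) : ZMod P.M), j)) =
      Multiplicative.ofAdd ((k : ZMod P.M) * ((P.m : ℕ) : ZMod P.M), j) := by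
  rw [phi_apply]
  congr 1
  apply Prod.ext
  · show ((P.r : ℕ) : ZMod P.M) * ((k : ZMod P.M) * ((P.m : ℕ) : ZMod P.M)) = _
    have h0 : ((P.r₁ * P.d * P.m : ℕ) : ZMod P.M) = 0 := by
      apply P.natCast_M_eq_zero
      obtain ⟨c, hc⟩ := P.hgd
      exact ⟨P.r₁ * c, by rw [hc]; ring⟩
    have h1 : ((P.r : ℕ) : ZMod P.M) * ((P.m : ℕ) : ZMod P.M) = ((P.m : ℕ) : ZMod P.M) := by
      have : (P.r * P.m : ℕ) = P.r₁ * P.d * P.m + P.m := by ring
      rw [← Nat.cast_mul, this, Nat.cast_add, h0, zero_add]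
    rw [mul_left_comm, h1]
  · show j + P.cst ((k : ZMod P.M) * ((P.m : ℕ) : ZMod P.M)) = j
    rw [map_mul, P.cst_natCast, P.natCast_g_eq_zero _ P.g_dvd_m, mul_zero, add_zero]

/-- `ν = α ^ t` is fixed by `phi` -/
theorem phi_nu : P.phi (Multiplicative.ofAdd (((P.t : ℕ) : ZMod P.M), (0 : ZMod P.g))) =
    Multiplicative.ofAdd (((P.t : ℕ) : ZMod P.M), (0 : ZMod P.g)) := by
  rw [phi_apply]
  congr 1
  apply Prod.ext
  · show ((P.r : ℕ) : ZMod P.M) * ((P.t : ℕ) : ZMod P.M) = _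
    have h0 : ((P.m * P.r₁ * P.l : ℕ) : ZMod P.M) = 0 := by
      apply P.natCast_M_eq_zero
      obtain ⟨c, hc⟩ := P.hgl
      exact ⟨P.r₁ * c, by rw [hc]; ring⟩
    have : (P.r * P.t : ℕ) = P.m * P.r₁ * P.l + P.t := by ring
    rw [← Nat.cast_mul, this, Nat.cast_add, h0, zero_add]
  · show (0 : ZMod P.g) + P.cst ((P.t : ℕ) : ZMod P.M) = 0
    rw [P.cst_natCast, P.natCast_g_eq_zero _ (Dvd.dvd.mul_left P.hgl _), add_zero]

end Params

namespace Params

variable (P : Params)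

/-- the central subgroup `{(k m, j)}` of `N` -/
def N₀ : Subgroup P.N :=
  AddSubgroup.toSubgroup ((AddSubgroup.zmultiples ((P.m : ℕ) : ZMod P.M)).prod ⊤)

theorem mem_N₀ (x : P.N) : x ∈ P.N₀ ↔
    ∃ k : ℤ, (Multiplicative.toAdd x).1 = (k : ZMod P.M) * ((P.m : ℕ) : ZMod P.M) := by
  show Multiplicative.toAdd x ∈ (AddSubgroup.zmultiples ((P.m : ℕ) : ZMod P.M)).prod ⊤ ↔ _
  rw [AddSubgroup.mem_prod, AddSubgroup.mem_zmultiples_iff]
  constructor
  · rintro ⟨⟨k, hk⟩, _⟩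
    exact ⟨k, by rw [← hk, zsmul_eq_mul]⟩
  · rintro ⟨k, hk⟩
    exact ⟨⟨k, by rw [hk, zsmul_eq_mul]⟩, AddSubgroup.mem_top _⟩

theorem phi_fix_of_mem (x : P.N) (hx : x ∈ P.N₀) : P.phi x = x := by
  obtain ⟨k, hk⟩ := (P.mem_N₀ x).1 hx
  have : x = Multiplicative.ofAdd ((k : ZMod P.M) * ((P.m : ℕ) : ZMod P.M),
      (Multiplicative.toAdd x).2) := by
    rw [← hk]; rfl
  rw [this]; exact P.phi_fix k _

/-- the central element `β ^ n α ^ (-t)` -/
def zE : P.E := P.βE ^ P.n * (P.αE ^ P.t)⁻¹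

theorem αE_pow_t_mem_center : P.αE ^ P.t ∈ Subgroup.center P.E := by
  rw [αE_pow]; exact P.inl_mem_center _ P.phi_nu

theorem zE_mem_center : P.zE ∈ Subgroup.center P.E := by
  have hc : (P.αE ^ P.t)⁻¹ ∈ Subgroup.center P.E := Subgroup.inv_mem _ P.αE_pow_t_mem_center
  apply mem_center_E
  · intro x
    have h1 : P.βE ^ P.n * SemidirectProduct.inl x = SemidirectProduct.inl x * P.βE ^ P.n := by
      have := P.βE_pow_n_conj x
      rw [mul_inv_eq_iff_eq_mul] at this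
      exact this
    rw [zE, mul_assoc, ← Subgroup.mem_center_iff.1 hc, ← mul_assoc, h1, mul_assoc]
  · rw [zE, mul_assoc, ← Subgroup.mem_center_iff.1 hc, ← mul_assoc, ← pow_succ, pow_succ', mul_assoc]

/-- the central subgroup of `E` by which we divide -/
def ZE : Subgroup P.E := (P.N₀.map SemidirectProduct.inl) ⊔ Subgroup.zpowers P.zE

theorem ZE_le_center : P.ZE ≤ Subgroup.center P.E := by
  apply sup_le
  · rintro _ ⟨x, hx, rfl⟩
    exact P.inl_mem_center x (P.phi_fix_of_mem x hx)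
  · rw [Subgroup.zpowers_le]; exact P.zE_mem_center

instance ZE_normal : P.ZE.Normal := normal_of_le_center _ P.ZE_le_center

theorem inl_mem_ZE (x : P.N) (hx : x ∈ P.N₀) : (SemidirectProduct.inl x : P.E) ∈ P.ZE :=
  Subgroup.mem_sup_left ⟨x, hx, rfl⟩

theorem zE_mem_ZE : P.zE ∈ P.ZE := Subgroup.mem_sup_right (Subgroup.mem_zpowers _)

/-- elements of `ZE` lying in `N` lie in `N₀` -/
theorem mem_N₀_of_inl_mem_ZE (x : P.N) (hx : (SemidirectProduct.inl x : P.E) ∈ P.ZE) : x ∈ P.N₀ := by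
  haveI : (Subgroup.zpowers P.zE).Normal :=
    normal_of_le_center _ (by rw [Subgroup.zpowers_le]; exact P.zE_mem_center)
  obtain ⟨y, ⟨x₀, hx₀, rfl⟩, z, ⟨c, rfl⟩, hyz⟩ := Subgroup.mem_sup_of_normal_right.1 hx
  have hyz : SemidirectProduct.inl x₀ * P.zE ^ c = (SemidirectProduct.inl x : P.E) := hyz
  have h1 := congrArg SemidirectProduct.rightHom hyz
  simp only [map_mul, map_zpow, SemidirectProduct.rightHom_inl, one_mul] at h1
  have h2 : SemidirectProduct.rightHom P.zE = Multiplicative.ofAdd (P.n : ℤ) := by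
    rw [zE, map_mul, map_inv, map_pow, map_pow, αE, βE, SemidirectProduct.rightHom_inl,
      SemidirectProduct.rightHom_inr, one_pow, inv_one, mul_one, ← ofAdd_nsmul]
    simp
  rw [h2, ← ofAdd_zsmul] at h1
  have h3 : c • (P.n : ℤ) = 0 := h1
  have hc : c = 0 := by
    rw [smul_eq_mul] at h3
    rcases mul_eq_zero.1 h3 with h | h
    · exact h
    · exfalso; have := P.hn; omega
  rw [hc, zpow_zero, mul_one] at hyz
  have := SemidirectProduct.inl_injective hyz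
  rw [← this]; exact hx₀

end Params

/-- the relations of the metacyclic group -/
def rels (m n t r : ℕ) : Set (FreeGroup Bool) :=
  {FreeGroup.of true ^ m, (FreeGroup.of false) ^ n * (FreeGroup.of true ^ t)⁻¹,
    FreeGroup.of false * FreeGroup.of true * (FreeGroup.of false)⁻¹ * (FreeGroup.of true ^ r)⁻¹}

/-- the metacyclic group -/
abbrev MG (m n t r : ℕ) : Type := PresentedGroup (rels m n t r)

section presented

variable (m n t r : ℕ)

def ga : MG m n t r := PresentedGroup.of true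
def gb : MG m n t r := PresentedGroup.of false

theorem ga_pow : ga m n t r ^ m = 1 := by
  have : PresentedGroup.mk (rels m n t r) (FreeGroup.of true ^ m) = 1 :=
    PresentedGroup.one_of_mem (by simp [rels])
  rw [map_pow] at this
  exact this

theorem gb_pow : gb m n t r ^ n = ga m n t r ^ t := by
  have : PresentedGroup.mk (rels m n t r)
      ((FreeGroup.of false) ^ n * (FreeGroup.of true ^ t)⁻¹) = 1 :=
    PresentedGroup.one_of_mem (by simp [rels])
  rw [map_mul, map_inv, map_pow, map_pow, mul_inv_eq_one] at this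
  exact this

theorem gb_conj : gb m n t r * ga m n t r * (gb m n t r)⁻¹ = ga m n t r ^ r := by
  have : PresentedGroup.mk (rels m n t r)
      (FreeGroup.of false * FreeGroup.of true * (FreeGroup.of false)⁻¹ *
        (FreeGroup.of true ^ r)⁻¹) = 1 :=
    PresentedGroup.one_of_mem (by simp [rels])
  rw [map_mul, map_inv, map_pow, map_mul, map_mul, map_inv, mul_inv_eq_one] at this
  exact this

theorem closure_ga_gb : Subgroup.closure ({ga m n t r, gb m n t r} : Set (MG m n t r)) = ⊤ := by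
  rw [← PresentedGroup.closure_range_of]
  congr 1
  ext x
  constructor
  · rintro (rfl | rfl)
    · exact ⟨true, rfl⟩
    · exact ⟨false, rfl⟩
  · rintro ⟨b, rfl⟩
    cases b
    · right; rfl
    · left; rfl

end presented

/-- the hom `ℤ/M → G`, `k ↦ x ^ k` -/
noncomputable def zmodPowHom {G : Type*} [Group G] (x : G) (M : ℕ) (hx : x ^ M = 1) :
    Multiplicative (ZMod M) →* G :=
  AddMonoidHom.toMultiplicativeLeft (ZMod.lift M ⟨zmultiplesHom (Additive G) (Additive.ofMul x), by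
    show (M : ℤ) • Additive.ofMul x = 0
    rw [natCast_zsmul]
    show Additive.ofMul (x ^ M) = 0
    rw [hx]; rfl⟩)

theorem zmodPowHom_intCast {G : Type*} [Group G] (x : G) (M : ℕ) (hx : x ^ M = 1) (k : ℤ) :
    zmodPowHom x M hx (Multiplicative.ofAdd (k : ZMod M)) = x ^ k := by
  show Additive.toMul (ZMod.lift M _ (k : ZMod M)) = x ^ k
  rw [ZMod.lift_coe]
  rfl

/-- compatibility of a hom with powers of an automorphism and conjugation -/
theorem compat_zpow {N G : Type*} [Group N] [Group G] (f : N →* G) (φ : MulAut N) (b : G)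
    (h1 : ∀ x, f (φ x) = b * f x * b⁻¹) (k : ℤ) (x : N) :
    f ((φ ^ k) x) = b ^ k * f x * (b ^ k)⁻¹ := by
  induction k using Int.induction_on generalizing x with
  | zero => simp
  | succ k ih =>
    rw [zpow_add_one, MulAut.mul_apply, ih, h1, zpow_add_one]; group
  | pred k ih =>
    have h2 : ∀ y, f (φ⁻¹ y) = b⁻¹ * f y * b := by
      intro y
      have := h1 (φ⁻¹ y)
      rw [MulAut.apply_inv_self] at this
      rw [this]; group
    rw [zpow_sub_one, MulAut.mul_apply, ih, h2, zpow_sub_one]; group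

namespace Params

variable (P : Params)

/-- the presented group attached to the parameters -/
abbrev G : Type := MG P.m P.n P.t P.r

abbrev a : P.G := ga P.m P.n P.t P.r
abbrev b : P.G := gb P.m P.n P.t P.r

theorem a_pow_M : P.a ^ P.M = 1 := by
  rw [pow_mul, ga_pow, one_pow]

/-- `N → G`, `(i, j) ↦ a ^ i` -/
noncomputable def f₁ : P.N →* P.G :=
  (zmodPowHom P.a P.M P.a_pow_M).comp
    (AddMonoidHom.toMultiplicative (AddMonoidHom.fst (ZMod P.M) (ZMod P.g)))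

theorem f₁_apply (k : ℤ) (j : ZMod P.g) :
    P.f₁ (Multiplicative.ofAdd ((k : ZMod P.M), j)) = P.a ^ k :=
  zmodPowHom_intCast P.a P.M P.a_pow_M k

theorem f₁_phi (x : P.N) : P.f₁ (P.phi x) = P.b * P.f₁ x * P.b⁻¹ := by
  obtain ⟨k, hk⟩ := ZMod.intCast_surjective (Multiplicative.toAdd x).1
  have hx : x = Multiplicative.ofAdd ((k : ZMod P.M), (Multiplicative.toAdd x).2) := by
    rw [hk]; rfl
  rw [hx, phi_apply, f₁_apply]
  have : ((P.r : ℕ) : ZMod P.M) * (k : ZMod P.M) = (((P.r : ℤ) * k : ℤ) : ZMod P.M) := by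
    push_cast; rfl
  show P.f₁ (Multiplicative.ofAdd (((P.r : ℕ) : ZMod P.M) * (k : ZMod P.M), _)) = _
  rw [this, f₁_apply, zpow_mul, zpow_natCast, ← gb_conj, conj_zpow]

/-- the central extension `E → G` -/
noncomputable def xi : P.E →* P.G :=
  SemidirectProduct.lift P.f₁ (zpowersHom P.G P.b) (by
    intro k
    apply MonoidHom.ext
    intro x
    show P.f₁ ((zpowersHom (MulAut P.N) P.phi k) x) = (zpowersHom P.G P.b k) * P.f₁ x * (zpowersHom P.G P.b k)⁻¹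
    rw [zpowersHom_apply, zpowersHom_apply]
    exact compat_zpow P.f₁ P.phi P.b P.f₁_phi _ x)

theorem xi_inl (x : P.N) : P.xi (SemidirectProduct.inl x) = P.f₁ x := SemidirectProduct.lift_inl _ _ _ x

theorem xi_αE : P.xi P.αE = P.a := by
  rw [αE, xi_inl, αN]
  have := P.f₁_apply 1 0
  rw [Int.cast_one, zpow_one] at this
  exact this

theorem xi_βE : P.xi P.βE = P.b := by
  rw [βE, xi, SemidirectProduct.lift_inr, zpowersHom_apply, toAdd_ofAdd, zpow_one]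

theorem xi_surjective : Function.Surjective P.xi := by
  rw [← MonoidHom.range_eq_top, eq_top_iff, ← closure_ga_gb P.m P.n P.t P.r, Subgroup.closure_le]
  rintro x (rfl | rfl)
  · exact ⟨P.αE, P.xi_αE⟩
  · exact ⟨P.βE, P.xi_βE⟩

/-- generators of `G` map to the classes of `αE`, `βE` -/
def etaFun : Bool → P.E ⧸ P.ZE := fun x => if x then QuotientGroup.mk P.αE else QuotientGroup.mk P.βE

theorem αE_pow_m_mem : P.αE ^ P.m ∈ P.ZE := by
  rw [αE_pow]
  apply P.inl_mem_ZE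
  rw [mem_N₀]
  exact ⟨1, by simp⟩

theorem rel3_mem : P.βE * P.αE * P.βE⁻¹ * (P.αE ^ P.r)⁻¹ ∈ P.ZE := by
  rw [αE, βE_conj, ← map_pow, ← map_inv, ← map_mul]
  apply P.inl_mem_ZE
  rw [mem_N₀]
  refine ⟨0, ?_⟩
  rw [αN_pow, αN, phi_apply]
  show (((P.r : ℕ) : ZMod P.M) * 1 + -((P.r : ℕ) : ZMod P.M)) = _
  simp

/-- `G → E / ZE` -/
noncomputable def eta : P.G →* P.E ⧸ P.ZE :=
  PresentedGroup.toGroup (f := P.etaFun) (by
    rintro x (rfl | rfl | rfl)
    · rw [map_pow, FreeGroup.lift_apply_of]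
      show (QuotientGroup.mk P.αE : P.E ⧸ P.ZE) ^ P.m = 1
      rw [← QuotientGroup.mk_pow, QuotientGroup.eq_one_iff]
      exact P.αE_pow_m_mem
    · rw [map_mul, map_inv, map_pow, map_pow, FreeGroup.lift_apply_of, FreeGroup.lift_apply_of]
      show (QuotientGroup.mk P.βE : P.E ⧸ P.ZE) ^ P.n * ((QuotientGroup.mk P.αE) ^ P.t)⁻¹ = 1
      rw [← QuotientGroup.mk_pow, ← QuotientGroup.mk_pow, ← QuotientGroup.mk_inv,
        ← QuotientGroup.mk_mul, QuotientGroup.eq_one_iff]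
      exact P.zE_mem_ZE
    · rw [map_mul, map_inv, map_pow, map_mul, map_mul, map_inv, FreeGroup.lift_apply_of,
        FreeGroup.lift_apply_of]
      show (QuotientGroup.mk P.βE : P.E ⧸ P.ZE) * QuotientGroup.mk P.αE * (QuotientGroup.mk P.βE)⁻¹ *
        ((QuotientGroup.mk P.αE) ^ P.r)⁻¹ = 1
      rw [← QuotientGroup.mk_pow, ← QuotientGroup.mk_inv, ← QuotientGroup.mk_inv,
        ← QuotientGroup.mk_mul, ← QuotientGroup.mk_mul, ← QuotientGroup.mk_mul,
        QuotientGroup.eq_one_iff]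
      exact P.rel3_mem)

theorem eta_a : P.eta P.a = QuotientGroup.mk P.αE := by
  show PresentedGroup.toGroup _ (PresentedGroup.of true) = _
  rw [PresentedGroup.toGroup.of]; rfl

theorem eta_b : P.eta P.b = QuotientGroup.mk P.βE := by
  show PresentedGroup.toGroup _ (PresentedGroup.of false) = _
  rw [PresentedGroup.toGroup.of]; rfl

theorem eta_xi : P.eta.comp P.xi = QuotientGroup.mk' P.ZE := by
  apply SemidirectProduct.hom_ext
  · apply MonoidHom.ext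
    intro x
    show P.eta (P.xi (SemidirectProduct.inl x)) = QuotientGroup.mk (SemidirectProduct.inl x)
    obtain ⟨k, hk⟩ := ZMod.intCast_surjective (Multiplicative.toAdd x).1
    have hx : x = Multiplicative.ofAdd ((k : ZMod P.M), (0 : ZMod P.g)) *
        Multiplicative.ofAdd ((0 : ZMod P.M), (Multiplicative.toAdd x).2) := by
      rw [← ofAdd_add, hk]
      show x = Multiplicative.ofAdd ((Multiplicative.toAdd x).1 + 0, 0 + (Multiplicative.toAdd x).2)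
      rw [add_zero, zero_add]; rfl
    rw [xi_inl]
    conv_lhs => rw [hx, map_mul, f₁_apply]
    have h0 : P.f₁ (Multiplicative.ofAdd ((0 : ZMod P.M), (Multiplicative.toAdd x).2)) = 1 := by
      have := P.f₁_apply 0 (Multiplicative.toAdd x).2
      rw [Int.cast_zero, zpow_zero] at this
      exact this
    rw [h0, mul_one, map_zpow, eta_a, ← QuotientGroup.mk_zpow, αE_zpow]
    conv_rhs => rw [hx, map_mul, QuotientGroup.mk_mul]
    have h1 : (QuotientGroup.mk (SemidirectProduct.inl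
        (Multiplicative.ofAdd ((0 : ZMod P.M), (Multiplicative.toAdd x).2))) : P.E ⧸ P.ZE) = 1 := by
      rw [QuotientGroup.eq_one_iff]
      apply P.inl_mem_ZE
      rw [mem_N₀]
      exact ⟨0, by simp⟩
    rw [h1, mul_one]
  · apply MonoidHom.ext_mint
    show P.eta (P.xi P.βE) = QuotientGroup.mk P.βE
    rw [xi_βE, eta_b]

theorem xi_ker_le_ZE : P.xi.ker ≤ P.ZE := by
  intro x hx
  have h1 : P.eta (P.xi x) = 1 := by rw [MonoidHom.mem_ker.1 hx, map_one]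
  have h2 : P.eta (P.xi x) = QuotientGroup.mk x := congrArg (fun f : P.E →* P.E ⧸ P.ZE => f x) P.eta_xi
  rw [h2, QuotientGroup.eq_one_iff] at h1
  exact h1

theorem xi_ker_le_center : P.xi.ker ≤ Subgroup.center P.E := P.xi_ker_le_ZE.trans P.ZE_le_center

/-- `a` has order exactly `m` -/
theorem a_zpow_eq_one (k : ℤ) (hk : P.a ^ k = 1) : ((P.m : ℕ) : ℤ) ∣ k := by
  have h1 : P.eta (P.a ^ k) = 1 := by rw [hk, map_one]
  rw [map_zpow, eta_a, ← QuotientGroup.mk_zpow, QuotientGroup.eq_one_iff, αE_zpow] at h1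
  obtain ⟨c, hc⟩ := (P.mem_N₀ _).1 (P.mem_N₀_of_inl_mem_ZE _ h1)
  have hc' : (k : ZMod P.M) = ((c * (P.m : ℕ) : ℤ) : ZMod P.M) := by
    rw [Int.cast_mul, Int.cast_natCast]; exact hc
  rw [ZMod.intCast_eq_intCast_iff_dvd_sub] at hc'
  have h2 : ((P.m : ℕ) : ℤ) ∣ c * (P.m : ℕ) - k := by
    refine Dvd.dvd.trans ?_ hc'
    exact ⟨(P.g : ℤ), by push_cast; ring⟩
  have h3 : ((P.m : ℕ) : ℤ) ∣ c * (P.m : ℕ) := Dvd.intro_left c rfl
  have := (Int.dvd_iff_dvd_of_dvd_sub h2).1 h3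
  exact this

end Params

namespace Params

variable (P : Params)

/-- the witness in `E' ∩ ker ξ` -/
def wE : P.E := ⁅P.βE, P.αE⁆ ^ P.m₁

theorem wE_mem_commutator : P.wE ∈ commutator P.E := by
  rw [commutator_def]
  exact Subgroup.pow_mem _ (Subgroup.commutator_mem_commutator (Subgroup.mem_top _)
    (Subgroup.mem_top _)) _

theorem wE_mem_ker : P.wE ∈ P.xi.ker := by
  rw [MonoidHom.mem_ker, wE, map_pow, map_commutatorElement, xi_αE, xi_βE, commutatorElement_def,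
    gb_conj]
  have : P.a ^ P.r * P.a⁻¹ = P.a ^ (P.r₁ * P.d) := by
    show P.a ^ (P.r₁ * P.d + 1) * P.a⁻¹ = _
    rw [pow_succ, mul_inv_cancel_right]
  rw [this, ← pow_mul]
  have : P.r₁ * P.d * P.m₁ = P.m * P.r₁ := by ring
  rw [this, pow_mul, ga_pow, one_pow]

theorem comm_eq : ⁅P.βE, P.αE⁆ = (SemidirectProduct.inl
    (Multiplicative.ofAdd (((P.r₁ * P.d : ℕ) : ZMod P.M), (1 : ZMod P.g))) : P.E) := by
  rw [commutatorElement_def, αE, βE_conj, ← map_inv, ← map_mul]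
  congr 1
  rw [αN, phi_apply, ← ofAdd_neg, ← ofAdd_add]
  congr 1
  apply Prod.ext
  · show ((P.r : ℕ) : ZMod P.M) * 1 + -1 = ((P.r₁ * P.d : ℕ) : ZMod P.M)
    have : ((P.r : ℕ) : ZMod P.M) = ((P.r₁ * P.d : ℕ) : ZMod P.M) + 1 := by
      show ((P.r₁ * P.d + 1 : ℕ) : ZMod P.M) = _
      rw [Nat.cast_add, Nat.cast_one]
    rw [this]; ring
  · show (0 : ZMod P.g) + P.cst 1 + -0 = 1
    rw [map_one]; ring

theorem wE_pow (k : ℕ) : P.wE ^ k = (SemidirectProduct.inl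
    (Multiplicative.ofAdd (((k * P.m₁ * (P.r₁ * P.d) : ℕ) : ZMod P.M), ((k * P.m₁ : ℕ) : ZMod P.g))) :
      P.E) := by
  rw [wE, comm_eq, ← pow_mul, ← map_pow, ← ofAdd_nsmul]
  congr 2
  apply Prod.ext
  · show (P.m₁ * k) • ((P.r₁ * P.d : ℕ) : ZMod P.M) = _
    rw [nsmul_eq_mul, mul_comm P.m₁ k]
    push_cast; ring
  · show (P.m₁ * k) • (1 : ZMod P.g) = _
    rw [nsmul_eq_mul, mul_one, mul_comm]

theorem dvd_of_wE_pow (k : ℕ) (hk : P.wE ^ k = 1) : P.g ∣ k := by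
  rw [wE_pow] at hk
  have h1 := SemidirectProduct.inl_injective (hk.trans (map_one _).symm)
  have h2 : (((k * P.m₁ * (P.r₁ * P.d) : ℕ) : ZMod P.M), ((k * P.m₁ : ℕ) : ZMod P.g)) = (0, 0) :=
    Multiplicative.ofAdd.injective h1
  have h3 : P.M ∣ k * P.m₁ * (P.r₁ * P.d) := (ZMod.natCast_eq_zero_iff _ _).1 (congrArg Prod.fst h2)
  have h4 : P.g ∣ k * P.m₁ := (ZMod.natCast_eq_zero_iff _ _).1 (congrArg Prod.snd h2)
  have h5 : P.g ∣ k * P.r₁ := by
    have : P.m * P.g ∣ P.m * (k * P.r₁) := by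
      have e : k * P.m₁ * (P.r₁ * P.d) = P.m * (k * P.r₁) := by ring
      rw [← e]; exact h3
    exact Nat.dvd_of_mul_dvd_mul_left P.hm this
  have h6 : P.g ∣ Nat.gcd (k * P.m₁) (k * P.r₁) := Nat.dvd_gcd h4 h5
  rw [Nat.gcd_mul_left, P.hcop, mul_one] at h6
  exact h6

theorem g_dvd_orderOf_wE : P.g ∣ orderOf P.wE := P.dvd_of_wE_pow _ (pow_orderOf_eq_one _)

/-- `G` is finite -/
theorem finite_G : Finite P.G := by
  let F : P.N × ZMod P.n → P.G := fun x => P.f₁ x.1 * P.b ^ x.2.val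
  apply Finite.of_surjective F
  intro y
  obtain ⟨e, rfl⟩ := P.xi_surjective y
  rw [← SemidirectProduct.inl_left_mul_inr_right e, map_mul, xi_inl]
  set k : ℤ := Multiplicative.toAdd e.right with hk
  have hr : P.xi (SemidirectProduct.inr e.right) = P.b ^ k := by
    rw [xi, SemidirectProduct.lift_inr, zpowersHom_apply]
  rw [hr]
  -- b ^ k = (a ^ t) ^ (k / n) * b ^ (k % n)
  have hsplit : P.b ^ k = P.a ^ ((P.t : ℤ) * (k / (P.n : ℤ))) * P.b ^ (((k : ZMod P.n).val : ℕ)) := by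
    have h1 : k = (P.n : ℤ) * (k / (P.n : ℤ)) + k % (P.n : ℤ) := by
      rw [add_comm]; exact (Int.emod_add_mul_ediv k P.n).symm
    have h2 : (((k : ZMod P.n).val : ℕ) : ℤ) = k % (P.n : ℤ) := ZMod.val_intCast k
    conv_lhs => rw [h1]
    rw [zpow_add, zpow_mul, zpow_natCast, gb_pow, ← h2, zpow_natCast, zpow_mul, zpow_natCast]
  refine ⟨(e.left * Multiplicative.ofAdd (((((P.t : ℤ) * (k / (P.n : ℤ)) : ℤ)) : ZMod P.M), (0 : ZMod P.g)),
    (k : ZMod P.n)), ?_⟩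
  show P.f₁ (e.left * _) * P.b ^ ((k : ZMod P.n).val) = _
  rw [map_mul, f₁_apply, hsplit, mul_assoc]

end Params

namespace Params

variable (P : Params)

/-- the kernel of a finite stem extension of `G` is cyclic, killed by `g` -/
theorem stem_ker (hg : P.g = Nat.gcd P.l (Nat.gcd P.d P.s₁)) {Γ : Type*} [Group Γ] [Finite Γ]
    (σ : Γ →* P.G) (hσ : Cfsg.IsStemExtension σ) :
    ∃ w : Γ, w ^ P.g = 1 ∧ σ.ker ≤ Subgroup.zpowers w := by
  obtain ⟨w, h1, h2, h3, h4⟩ := stem_metacyclic σ hσ P.a P.b (closure_ga_gb _ _ _ _) P.d P.m₁ P.r₁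
    P.s₁ P.l P.n P.hcop P.hd (ga_pow _ _ _ _) (gb_pow _ _ _ _) (gb_conj _ _ _ _) P.hs P.hpow
    P.a_zpow_eq_one
  refine ⟨w, ?_, h4⟩
  rw [hg, pow_gcd_eq_one, pow_gcd_eq_one]
  exact ⟨h1, h2, h3⟩

theorem main (hg : P.g = Nat.gcd P.l (Nat.gcd P.d P.s₁)) :
    Cfsg.HasCyclicSchurMultiplier P.G P.g := by
  haveI := P.finite_G
  have hρ : Function.Surjective (PresentedGroup.mk (rels P.m P.n P.t P.r)) :=
    PresentedGroup.mk_surjective _
  set ρ : FreeGroup Bool →* P.G := PresentedGroup.mk (rels P.m P.n P.t P.r) with hρdef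
  haveI := finite_hopfM ρ
  -- lower bound
  have hlow : P.g ∣ Nat.card ↥(hopfM ρ) := by
    obtain ⟨β, _, hβM⟩ := exists_lift_central ρ hρ P.xi P.xi_surjective P.xi_ker_le_center
    have hw : P.wE ∈ commutator P.E ⊓ P.xi.ker := ⟨P.wE_mem_commutator, P.wE_mem_ker⟩
    rw [← hβM] at hw
    obtain ⟨y, hy, hyw⟩ := hw
    have h1 : orderOf P.wE ∣ orderOf y := by rw [← hyw]; exact orderOf_map_dvd β y
    have h2 : orderOf y ∣ Nat.card ↥(hopfM ρ) := by
      rw [← Subgroup.orderOf_mk y hy]; exact orderOf_dvd_natCard _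
    exact P.g_dvd_orderOf_wE.trans (h1.trans h2)
  -- cyclic kernels
  have hsurj : ∀ (Γ : Type) [Group Γ] [Finite Γ] (σ : Γ →* P.G), Cfsg.IsStemExtension σ →
      ∃ π : Multiplicative (ZMod P.g) →* σ.ker, Function.Surjective π := by
    intro Γ _ _ σ hσ
    obtain ⟨w, hw, hker⟩ := P.stem_ker hg σ hσ
    haveI : IsCyclic ↥σ.ker := Subgroup.isCyclic_of_le hker
    apply exists_surjective_zmod_of_isCyclic
    rintro ⟨z, hz⟩
    apply Subtype.ext
    obtain ⟨k, rfl⟩ := hker hz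
    show (w ^ k) ^ P.g = 1
    rw [← zpow_natCast, ← zpow_mul, mul_comm, zpow_mul, zpow_natCast, hw, one_zpow]
  refine ⟨?_, hsurj⟩
  obtain ⟨Γ, _, _, σ, hσ, ⟨e⟩⟩ := exists_cover ρ hρ
  refine ⟨Γ, inferInstance, inferInstance, σ, hσ, ?_⟩
  obtain ⟨π, hπ⟩ := hsurj Γ σ hσ
  have hcard : Nat.card ↥σ.ker = Nat.card ↥(hopfM ρ) := Nat.card_congr e.toEquiv
  have hle : Nat.card (Multiplicative (ZMod P.g)) ≤ Nat.card ↥σ.ker := by
    have h1 : Nat.card (Multiplicative (ZMod P.g)) = P.g := Nat.card_zmod P.g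
    rw [h1, hcard]
    exact Nat.le_of_dvd Nat.card_pos hlow
  exact ⟨(MulEquiv.ofBijective π (hπ.bijective_of_nat_card_le hle)).symm⟩

end Params

/-- Let `m, n ≥ 1`, `r ≥ 1` with `r ^ n ≡ 1 (mod m)`, and `l` a natural number; put `d = gcd(m, r - 1)`, `t = m l / d` and `h = d · gcd(m, 1 + r + ⋯ + r^(n-1)) / m`. The group presented by generators `a, b` and relations `a ^ m = 1`, `b ^ n = a ^ t`, `b a b⁻¹ = a ^ r` (a metacyclic group of order `m n`) has Schur multiplier cyclic of order `gcd(l, h)`. -/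
theorem result (m n r l : ℕ) (hm : 0 < m) (hn : 0 < n) (hr : 0 < r) (hrn : r ^ n ≡ 1 [MOD m]) : Cfsg.HasCyclicSchurMultiplier (PresentedGroup ({FreeGroup.of true ^ m, (FreeGroup.of false) ^ n * (FreeGroup.of true ^ (m * l / Nat.gcd m (r - 1)))⁻¹, FreeGroup.of false * FreeGroup.of true * (FreeGroup.of false)⁻¹ * (FreeGroup.of true ^ r)⁻¹} : Set (FreeGroup Bool))) (Nat.gcd l (Nat.gcd m (r - 1) * Nat.gcd m (∑ i ∈ Finset.range n, r ^ i) / m)) := by
  obtain ⟨d, m₁, r₁, s₁, hd, hm₁, hmeq, hreq, hcop, hs, ht, hh, hpow⟩ := numbers m n r l hm hr hrn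
  rw [ht, hh]
  subst hmeq
  subst hreq
  let P : Params :=
    { d := d, m₁ := m₁, r₁ := r₁, s₁ := s₁, l := l, n := n, g := Nat.gcd l (Nat.gcd d s₁)
      hd := hd, hm₁ := hm₁, hn := hn
      hg := Nat.gcd_pos_of_pos_right _ (Nat.gcd_pos_of_pos_left _ hd)
      hgd := (Nat.gcd_dvd_right l _).trans (Nat.gcd_dvd_left d s₁)
      hgl := Nat.gcd_dvd_left l _
      hgs := (Nat.gcd_dvd_right l _).trans (Nat.gcd_dvd_right d s₁)
      hcop := hcop, hs := hs, hpow := hpow }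
  exact P.main rfl

end Cfsg.Agent.S3967
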