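import Cfsg.Statements.S0105
-- import your own Cfsg.Agent.* helpers here

set_option autoImplicit false
open Cfsg

namespace Cfsg.Agent.S0105

open scoped IsMulCommutative

section norm
variable {G : Type*} [Group G] (H : Subgroup G) [hH : IsMulCommutative H]

/-- The conjugation action of `N(H)/H` on the abelian subgroup `H`. -/
noncomputable def quotAction :
    (↥(Subgroup.normalizer (H : Set G)) ⧸ H.subgroupOf (Subgroup.normalizer (H : Set G))) →*
      MulAut H :=
  QuotientGroup.lift _ H.normalizerMonoidHom (by
    intro y hy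
    rw [Subgroup.normalizerMonoidHom_ker, Subgroup.mem_subgroupOf]
    exact H.le_centralizer (Subgroup.mem_subgroupOf.mp hy))

theorem quotAction_mk (n : ↥(Subgroup.normalizer (H : Set G))) :
    quotAction H (QuotientGroup.mk n) = H.normalizerMonoidHom n := by
  unfold quotAction
  exact QuotientGroup.lift_mk _ _ n

variable [Fintype (↥(Subgroup.normalizer (H : Set G)) ⧸ H.subgroupOf (Subgroup.normalizer (H : Set G)))]

/-- The norm map of the abelian subgroup `H` with respect to `N(H)/H`. -/
noncomputable def normMap : H →* H where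
  toFun y := ∏ q : (↥(Subgroup.normalizer (H : Set G)) ⧸
    H.subgroupOf (Subgroup.normalizer (H : Set G))), quotAction H q y
  map_one' := by simp
  map_mul' a b := by simp [Finset.prod_mul_distrib]

theorem normMap_apply (y : H) : normMap H y = ∏ q : (↥(Subgroup.normalizer (H : Set G)) ⧸
    H.subgroupOf (Subgroup.normalizer (H : Set G))), quotAction H q y := rfl

theorem normMap_invariant (n : ↥(Subgroup.normalizer (H : Set G))) (y : H) :
    H.normalizerMonoidHom n (normMap H y) = normMap H y := by
  rw [normMap_apply, map_prod]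
  have h1 : ∀ q : (↥(Subgroup.normalizer (H : Set G)) ⧸
      H.subgroupOf (Subgroup.normalizer (H : Set G))),
      H.normalizerMonoidHom n (quotAction H q y) = quotAction H (QuotientGroup.mk n * q) y := by
    intro q
    rw [map_mul, quotAction_mk, MulAut.mul_apply]
  simp_rw [h1]
  exact Equiv.prod_comp (Equiv.mulLeft (QuotientGroup.mk n : (↥(Subgroup.normalizer (H : Set G)) ⧸
    H.subgroupOf (Subgroup.normalizer (H : Set G))))) (fun q => quotAction H q y)

theorem normMap_fixed (y : H) (hy : ∀ n : ↥(Subgroup.normalizer (H : Set G)),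
    H.normalizerMonoidHom n y = y) :
    normMap H y = y ^ Fintype.card (↥(Subgroup.normalizer (H : Set G)) ⧸
      H.subgroupOf (Subgroup.normalizer (H : Set G))) := by
  rw [normMap_apply]
  have h1 : ∀ q : (↥(Subgroup.normalizer (H : Set G)) ⧸
      H.subgroupOf (Subgroup.normalizer (H : Set G))), quotAction H q y = y := by
    intro q
    induction q using QuotientGroup.induction_on with
    | H n => rw [quotAction_mk]; exact hy n
  simp_rw [h1]
  rw [Finset.prod_const, Finset.card_univ]

end norm

/-- With an abelian Sylow p-subgroup P, some quotient of G is isomorphic to the part of P central in N_G(P). -/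
theorem result {G : Type*} [Group G] [Finite G] {p : ℕ} [Fact p.Prime] (P : Sylow p G) (hP : IsMulCommutative P) : ∃ (N : Subgroup G) (hN : N.Normal), Nonempty (G ⧸ N ≃* ((P : Subgroup G) ⊓ Subgroup.centralizer (Subgroup.normalizer (P : Set G) : Set G) : Subgroup G)) := by
  classical
  have hp : p.Prime := Fact.out
  have := hP
  have : Fintype (↥(Subgroup.normalizer ((P : Subgroup G) : Set G)) ⧸
      (P : Subgroup G).subgroupOf (Subgroup.normalizer ((P : Subgroup G) : Set G))) :=
    Fintype.ofFinite _
  -- the transfer and the norm map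
  let T : G →* (P : Subgroup G) := MonoidHom.transfer (MonoidHom.id (P : Subgroup G))
  let ν : (P : Subgroup G) →* (P : Subgroup G) := normMap (P : Subgroup G)
  let e : ℕ := (P : Subgroup G).index * Fintype.card (↥(Subgroup.normalizer ((P : Subgroup G) : Set G)) ⧸
      (P : Subgroup G).subgroupOf (Subgroup.normalizer ((P : Subgroup G) : Set G)))
  -- the values of `ν` are central in the normalizer
  have hνA : ∀ y : (P : Subgroup G), ((ν y : (P : Subgroup G)) : G) ∈
      (P : Subgroup G) ⊓ Subgroup.centralizer (Subgroup.normalizer (P : Set G) : Set G) := by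
    intro y
    refine Subgroup.mem_inf.mpr ⟨(ν y).2, ?_⟩
    rw [Subgroup.mem_centralizer_iff]
    intro n hn
    have h1 := normMap_invariant (P : Subgroup G) ⟨n, hn⟩ y
    have h2 : n * ((ν y : (P : Subgroup G)) : G) * n⁻¹ = ((ν y : (P : Subgroup G)) : G) :=
      congrArg Subtype.val h1
    calc n * ((ν y : (P : Subgroup G)) : G)
        = (n * ((ν y : (P : Subgroup G)) : G) * n⁻¹) * n := by group
      _ = ((ν y : (P : Subgroup G)) : G) * n := by rw [h2]
  -- the composite homomorphism into `A`
  let θ : G →* ((P : Subgroup G) ⊓ Subgroup.centralizer (Subgroup.normalizer (P : Set G) : Set G) :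
      Subgroup G) :=
    MonoidHom.codRestrict ((P : Subgroup G).subtype.comp (ν.comp T)) _ (fun g => hνA (T g))
  -- on `A`, `θ` is the `e`-th power map
  have hθpow : ∀ b : G, b ∈ (P : Subgroup G) ⊓
      Subgroup.centralizer (Subgroup.normalizer (P : Set G) : Set G) → ((θ b : _) : G) = b ^ e := by
    intro b hb
    have hbP : b ∈ (P : Subgroup G) := (Subgroup.mem_inf.mp hb).1
    have hbC := (Subgroup.mem_inf.mp hb).2
    have hpowC : ∀ k : ℕ, b ^ k ∈ Subgroup.centralizer (Subgroup.normalizer (P : Set G) : Set G) :=
      fun k => Subgroup.pow_mem _ hbC k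
    have key : ∀ (k : ℕ) (g₀ : G), g₀⁻¹ * b ^ k * g₀ ∈ (P : Subgroup G) →
        g₀⁻¹ * b ^ k * g₀ = b ^ k := by
      intro k g₀ hk
      obtain ⟨n, hn, hn2⟩ := P.conj_eq_normalizer_conj_of_mem (b ^ k) g₀
        ((P : Subgroup G).pow_mem hbP k) hk
      rw [hn2]
      have h3 := (Subgroup.mem_centralizer_iff.mp (hpowC k)) n hn
      calc n⁻¹ * b ^ k * n = n⁻¹ * (b ^ k * n) := by group
        _ = n⁻¹ * (n * b ^ k) := by rw [h3]
        _ = b ^ k := by group
    have hT : T b = ⟨b ^ (P : Subgroup G).index, MonoidHom.transfer_eq_pow_aux b key⟩ :=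
      MonoidHom.transfer_eq_pow (MonoidHom.id (P : Subgroup G)) b key
    have hfix : ∀ n : ↥(Subgroup.normalizer ((P : Subgroup G) : Set G)),
        (P : Subgroup G).normalizerMonoidHom n
          (⟨b ^ (P : Subgroup G).index, MonoidHom.transfer_eq_pow_aux b key⟩ : (P : Subgroup G))
        = ⟨b ^ (P : Subgroup G).index, MonoidHom.transfer_eq_pow_aux b key⟩ := by
      intro n
      apply Subtype.ext
      show (n : G) * b ^ (P : Subgroup G).index * (n : G)⁻¹ = b ^ (P : Subgroup G).index
      have h3 := (Subgroup.mem_centralizer_iff.mp (hpowC (P : Subgroup G).index)) n n.2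
      calc (n : G) * b ^ (P : Subgroup G).index * (n : G)⁻¹
          = ((n : G) * b ^ (P : Subgroup G).index) * (n : G)⁻¹ := by group
        _ = (b ^ (P : Subgroup G).index * (n : G)) * (n : G)⁻¹ := by rw [h3]
        _ = b ^ (P : Subgroup G).index := by group
    have hν := normMap_fixed (P : Subgroup G) _ hfix
    show (((ν (T b)) : (P : Subgroup G)) : G) = b ^ e
    rw [hT]
    show ((normMap (P : Subgroup G) _ : (P : Subgroup G)) : G) = b ^ e
    rw [hν, Subgroup.coe_pow, ← pow_mul]
  -- `e` is prime to `p`
  have hcop : p.Coprime e := by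
    have h1 : ¬ p ∣ (P : Subgroup G).index := P.not_dvd_index
    have h2 : Fintype.card (↥(Subgroup.normalizer ((P : Subgroup G) : Set G)) ⧸
        (P : Subgroup G).subgroupOf (Subgroup.normalizer ((P : Subgroup G) : Set G)))
        ∣ (P : Subgroup G).index := by
      rw [← Nat.card_eq_fintype_card, ← Subgroup.index_eq_card]
      exact Subgroup.relIndex_dvd_index_of_le Subgroup.le_normalizer
    have h3 : ¬ p ∣ e := by
      intro hd
      rcases (Nat.Prime.dvd_mul hp).mp hd with h | h
      · exact h1 h
      · exact h1 (h.trans h2)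
    exact (Nat.Prime.coprime_iff_not_dvd hp).mpr h3
  -- surjectivity
  have hApg : IsPGroup p ((P : Subgroup G) ⊓
      Subgroup.centralizer (Subgroup.normalizer (P : Set G) : Set G) : Subgroup G) :=
    P.2.to_le inf_le_left
  have hsurj : Function.Surjective θ := by
    intro a
    obtain ⟨b, hb⟩ := (hApg.powEquiv hcop).surjective a
    refine ⟨(b : G), ?_⟩
    apply Subtype.ext
    rw [hθpow b b.2, ← hb]
    rfl
  exact ⟨θ.ker, MonoidHom.normal_ker θ, ⟨QuotientGroup.quotientKerEquivOfSurjective θ hsurj⟩⟩

end Cfsg.Agent.S0105
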