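import Mathlib
import Cfsg.Statements.S0415
import Cfsg.Agent.Lib.Helper38.SharpTrans
-- import your own Cfsg.Agent.* helpers here

set_option autoImplicit false
open Cfsg
open MulAction Cfsg.Agent.Lib.Helper38

namespace Cfsg.Agent.S0415


variable {G α : Type*} [Group G] [MulAction G α] [Fintype α] [DecidableEq α]

/-- fixed points of `t` -/
def fixSet (α : Type*) [MulAction G α] [Fintype α] [DecidableEq α] (t : G) : Finset α := Finset.univ.filter (fun a => t • a = a)

/-- moved points of `t` -/
def movSet (α : Type*) [MulAction G α] [Fintype α] [DecidableEq α] (t : G) : Finset α := Finset.univ.filter (fun a => t • a ≠ a)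

omit [Fintype α] [DecidableEq α] in
theorem apply_of_smul_eq {k : ℕ} {t : G} {σ : Equiv.Perm (Fin k)} {x : Fin k ↪ α}
    (hx : t • x = σ.toEmbedding.trans x) (i : Fin k) : t • x i = x (σ i) := by
  have := DFunLike.congr_fun hx i
  simpa [Function.Embedding.smul_apply] using this

theorem mem_fixSet {t : G} {a : α} : a ∈ fixSet α t ↔ t • a = a := by simp [fixSet]

theorem mem_movSet {t : G} {a : α} : a ∈ movSet α t ↔ t • a ≠ a := by simp [movSet]

theorem card_fix_add_card_mov (t : G) : (fixSet α t).card + (movSet α t).card = Fintype.card α := by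
  rw [fixSet, movSet, Finset.card_filter_add_card_filter_not, Finset.card_univ]

theorem smul_mem_movSet {t : G} (ht : t * t = 1) {a : α} (ha : a ∈ movSet α t) : t • a ∈ movSet α t := by
  rw [mem_movSet] at ha ⊢
  rw [← mul_smul, ht, one_smul]
  exact fun h => ha h.symm

omit [Fintype α] [DecidableEq α] in
theorem injective_vec4 {a b c d : α} (hab : a ≠ b) (hac : a ≠ c) (had : a ≠ d) (hbc : b ≠ c)
    (hbd : b ≠ d) (hcd : c ≠ d) : Function.Injective ![a, b, c, d] := by
  rw [← List.nodup_ofFn]
  simp [hab, hac, had, hbc, hbd, hcd]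

/-- tuples `(a, ta, c, d)` with `c, d` fixed -/
theorem card_T1 (t : G) (ht : t * t = 1) :
    Nat.card {x : Fin 4 ↪ α // t • x = (Equiv.swap (0 : Fin 4) 1).toEmbedding.trans x} =
      (movSet α t).card * ((fixSet α t).card * (fixSet α t).card - (fixSet α t).card) := by
  have e : {x : Fin 4 ↪ α // t • x = (Equiv.swap (0 : Fin 4) 1).toEmbedding.trans x} ≃
      ↥(movSet α t ×ˢ (fixSet α t).offDiag) :=
    { toFun := fun x => ⟨(x.1 0, (x.1 2, x.1 3)), by
        have h0 := apply_of_smul_eq x.2 0
        have h2 := apply_of_smul_eq x.2 2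
        have h3 := apply_of_smul_eq x.2 3
        have e0 : (Equiv.swap (0 : Fin 4) 1) 0 = 1 := by decide
        have e2 : (Equiv.swap (0 : Fin 4) 1) 2 = 2 := by decide
        have e3 : (Equiv.swap (0 : Fin 4) 1) 3 = 3 := by decide
        rw [e0] at h0; rw [e2] at h2; rw [e3] at h3
        simp only [Finset.mem_product, Finset.mem_offDiag, mem_movSet, mem_fixSet]
        refine ⟨?_, h2, h3, ?_⟩
        · rw [h0]
          exact fun h => by simpa using x.1.injective h
        · exact fun h => by simpa using x.1.injective h⟩
      invFun := fun p => ⟨⟨![p.1.1, t • p.1.1, p.1.2.1, p.1.2.2], by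
          have hp := p.2
          simp only [Finset.mem_product, Finset.mem_offDiag, mem_movSet, mem_fixSet] at hp
          obtain ⟨ha, hc, hd, hcd⟩ := hp
          have hta : t • (t • p.1.1) = p.1.1 := by rw [← mul_smul, ht, one_smul]
          apply injective_vec4 (Ne.symm ha)
          · rintro h; rw [h] at ha; exact ha hc
          · rintro h; rw [h] at ha; exact ha hd
          · rintro h; rw [← h, hta] at hc; exact ha hc.symm
          · rintro h; rw [← h, hta] at hd; exact ha hd.symm
          · exact hcd⟩, by
          have hp := p.2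
          simp only [Finset.mem_product, Finset.mem_offDiag, mem_movSet, mem_fixSet] at hp
          obtain ⟨ha, hc, hd, hcd⟩ := hp
          have hta : t • (t • p.1.1) = p.1.1 := by rw [← mul_smul, ht, one_smul]
          ext i
          simp only [Function.Embedding.smul_apply, Function.Embedding.trans_apply,
            Equiv.coe_toEmbedding, Function.Embedding.coeFn_mk]
          fin_cases i
          · rfl
          · exact hta
          · exact hc
          · exact hd⟩
      left_inv := fun x => by
        apply Subtype.ext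
        ext i
        have h0 := apply_of_smul_eq x.2 0
        have e0 : (Equiv.swap (0 : Fin 4) 1) 0 = 1 := by decide
        rw [e0] at h0
        fin_cases i
        · rfl
        · exact h0
        · rfl
        · rfl
      right_inv := fun p => by
        apply Subtype.ext
        rfl }
  rw [Nat.card_congr e, Nat.card_eq_fintype_card, Fintype.card_coe, Finset.card_product,
    Finset.offDiag_card]

/-- pairs `(a, c)` of moved points in different `t`-orbits -/
def pairSet (α : Type*) [MulAction G α] [Fintype α] [DecidableEq α] (t : G) : Finset (α × α) :=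
  (movSet α t ×ˢ movSet α t).filter (fun p => p.2 ≠ p.1 ∧ p.2 ≠ t • p.1)

theorem mem_pairSet {t : G} {p : α × α} :
    p ∈ pairSet α t ↔ t • p.1 ≠ p.1 ∧ t • p.2 ≠ p.2 ∧ p.2 ≠ p.1 ∧ p.2 ≠ t • p.1 := by
  simp [pairSet, mem_movSet, and_assoc]

theorem card_pairSet (t : G) (ht : t * t = 1) :
    (pairSet α t).card = (movSet α t).card * ((movSet α t).card - 2) := by
  rw [pairSet, Finset.card_filter, Finset.sum_product]
  have h1 : ∀ a ∈ movSet α t,
      (∑ c ∈ movSet α t, if (c ≠ a ∧ c ≠ t • a) then 1 else 0) = (movSet α t).card - 2 := by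
    intro a ha
    rw [← Finset.card_filter]
    have h2 : (movSet α t).filter (fun c => c ≠ a ∧ c ≠ t • a) =
        ((movSet α t).erase a).erase (t • a) := by
      ext c
      simp only [Finset.mem_filter, Finset.mem_erase]
      tauto
    have h3 : t • a ∈ (movSet α t).erase a := by
      rw [Finset.mem_erase]
      exact ⟨mem_movSet.1 ha, smul_mem_movSet ht ha⟩
    rw [h2, Finset.card_erase_of_mem h3, Finset.card_erase_of_mem ha]
    omega
  rw [Finset.sum_congr rfl h1, Finset.sum_const, smul_eq_mul]

/-- tuples `(a, ta, c, tc)` -/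
theorem card_T2 (t : G) (ht : t * t = 1) :
    Nat.card {x : Fin 4 ↪ α //
        t • x = (Equiv.swap (0 : Fin 4) 1 * Equiv.swap 2 3).toEmbedding.trans x} =
      (movSet α t).card * ((movSet α t).card - 2) := by
  have e0 : (Equiv.swap (0 : Fin 4) 1 * Equiv.swap 2 3 : Equiv.Perm (Fin 4)) 0 = 1 := by decide
  have e2 : (Equiv.swap (0 : Fin 4) 1 * Equiv.swap 2 3 : Equiv.Perm (Fin 4)) 2 = 3 := by decide
  have e : {x : Fin 4 ↪ α //
      t • x = (Equiv.swap (0 : Fin 4) 1 * Equiv.swap 2 3).toEmbedding.trans x} ≃
      ↥(pairSet α t) :=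
    { toFun := fun x => ⟨(x.1 0, x.1 2), by
        have h0 := apply_of_smul_eq x.2 0
        have h2 := apply_of_smul_eq x.2 2
        rw [e0] at h0; rw [e2] at h2
        rw [mem_pairSet]
        simp only
        refine ⟨?_, ?_, ?_, ?_⟩
        · rw [h0]; exact fun h => by simpa using x.1.injective h
        · rw [h2]; exact fun h => by simpa using x.1.injective h
        · exact fun h => by simpa using x.1.injective h
        · rw [h0]; exact fun h => by simpa using x.1.injective h⟩
      invFun := fun p => ⟨⟨![p.1.1, t • p.1.1, p.1.2, t • p.1.2], by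
          have hp := mem_pairSet.1 p.2
          obtain ⟨ha, hc, hca, hcta⟩ := hp
          have hta : t • (t • p.1.1) = p.1.1 := by rw [← mul_smul, ht, one_smul]
          have htc : t • (t • p.1.2) = p.1.2 := by rw [← mul_smul, ht, one_smul]
          apply injective_vec4 (Ne.symm ha) (Ne.symm hca)
          · rintro h; rw [h, htc] at hcta; exact hcta rfl
          · exact Ne.symm hcta
          · rintro h; exact hca (MulAction.injective t h).symm
          · exact Ne.symm hc⟩, by
          have hta : t • (t • p.1.1) = p.1.1 := by rw [← mul_smul, ht, one_smul]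
          have htc : t • (t • p.1.2) = p.1.2 := by rw [← mul_smul, ht, one_smul]
          ext i
          simp only [Function.Embedding.smul_apply, Function.Embedding.trans_apply,
            Function.Embedding.coeFn_mk]
          fin_cases i
          · rfl
          · exact hta
          · rfl
          · exact htc⟩
      left_inv := fun x => by
        apply Subtype.ext
        ext i
        have h0 := apply_of_smul_eq x.2 0
        have h2 := apply_of_smul_eq x.2 2
        rw [e0] at h0; rw [e2] at h2
        fin_cases i
        · rfl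
        · exact h0
        · rfl
        · exact h2
      right_inv := fun p => by
        apply Subtype.ext
        rfl }
  rw [Nat.card_congr e, Nat.card_eq_fintype_card, Fintype.card_coe, card_pairSet t ht]

/-- an element fixing at least `k` points is trivial -/
theorem eq_one_of_card_fixSet {k : ℕ} (h : Sharp k G α) (t : G) (hk : k ≤ (fixSet α t).card) :
    t = 1 := by
  obtain ⟨y⟩ : Nonempty (Fin k ↪ ↥(fixSet α t)) :=
    Function.Embedding.nonempty_of_card_le (by simpa using hk)
  apply h.eq_one (y.trans (Function.Embedding.subtype _))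
  ext i
  simp only [Function.Embedding.smul_apply, Function.Embedding.trans_apply,
    Function.Embedding.subtype_apply]
  exact mem_fixSet.1 (y i).2

theorem core4 (h : Sharp 4 G α) (hn : 6 ≤ Fintype.card α) :
    Fintype.card α = 6 ∨ Fintype.card α = 11 := by
  obtain ⟨x₀⟩ : Nonempty (Fin 4 ↪ α) :=
    Function.Embedding.nonempty_of_card_le (by simp; omega)
  obtain ⟨t, ht⟩ := h.exists_smul_eq x₀ ((Equiv.swap (0 : Fin 4) 1).toEmbedding.trans x₀)
  have htt : t * t = 1 := mul_self_eq_one_of_smul h t _ (Equiv.swap_mul_self _ _) x₀ ht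
  have e0 : (Equiv.swap (0 : Fin 4) 1) 0 = 1 := by decide
  have e2 : (Equiv.swap (0 : Fin 4) 1) 2 = 2 := by decide
  have e3 : (Equiv.swap (0 : Fin 4) 1) 3 = 3 := by decide
  have h0 := apply_of_smul_eq ht 0
  have h2 := apply_of_smul_eq ht 2
  have h3 := apply_of_smul_eq ht 3
  rw [e0] at h0; rw [e2] at h2; rw [e3] at h3
  -- `2 ≤ f ≤ 3`
  have hf2 : 2 ≤ (fixSet α t).card := by
    have hsub : ({x₀ 2, x₀ 3} : Finset α) ⊆ fixSet α t := by
      intro a ha
      simp only [Finset.mem_insert, Finset.mem_singleton] at ha
      rcases ha with rfl | rfl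
      · exact mem_fixSet.2 h2
      · exact mem_fixSet.2 h3
    have hc : ({x₀ 2, x₀ 3} : Finset α).card = 2 := by
      rw [Finset.card_pair]
      exact fun h => by simpa using x₀.injective h
    calc 2 = ({x₀ 2, x₀ 3} : Finset α).card := hc.symm
      _ ≤ _ := Finset.card_le_card hsub
  have hf3 : (fixSet α t).card ≤ 3 := by
    by_contra hcon
    have h1 := eq_one_of_card_fixSet h t (by omega)
    rw [h1, one_smul] at h0
    simpa using x₀.injective h0
  have hsum := card_fix_add_card_mov (α := α) t
  -- the two counts
  have c1 := card_centralizer_eq h t _ x₀ ht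
  rw [card_T1 t htt] at c1
  have hT2pos : 0 < Nat.card {x : Fin 4 ↪ α //
      t • x = (Equiv.swap (0 : Fin 4) 1 * Equiv.swap 2 3).toEmbedding.trans x} := by
    rw [card_T2 t htt]
    apply Nat.mul_pos <;> omega
  obtain ⟨⟨x₁, hx₁⟩⟩ := (Nat.card_pos_iff.1 hT2pos).1
  have c2 := card_centralizer_eq h t _ x₁ hx₁
  rw [card_T2 t htt, c1] at c2
  have hMpos : 0 < (movSet α t).card := by omega
  have c3 := Nat.eq_of_mul_eq_mul_left hMpos c2
  have hcases : (fixSet α t).card = 2 ∨ (fixSet α t).card = 3 := by omega
  rcases hcases with hf | hf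
  · rw [hf] at c3
    left; omega
  · rw [hf] at c3
    right; omega


section main

/-- Degrees of sharply 4-transitive permutation groups are 4, 5, 6, 11. -/
theorem result {α : Type*} [Fintype α] [DecidableEq α] (G : Subgroup (Equiv.Perm α)) (h4 : 4 ≤ Fintype.card α) [MulAction.IsMultiplyPretransitive G α 4] (hsharp : ∀ x : Fin 4 ↪ α, MulAction.stabilizer G x = ⊥) : Fintype.card α = 4 ∨ Fintype.card α = 5 ∨ Fintype.card α = 6 ∨ Fintype.card α = 11 := by
  have hS : Sharp 4 ↥G α := ⟨inferInstance, hsharp⟩
  by_cases hn : Fintype.card α ≤ 5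
  · have : Fintype.card α = 4 ∨ Fintype.card α = 5 := by omega
    rcases this with h | h
    · exact Or.inl h
    · exact Or.inr (Or.inl h)
  · rcases core4 hS (by omega) with h | h
    · exact Or.inr (Or.inr (Or.inl h))
    · exact Or.inr (Or.inr (Or.inr h))

end main

end Cfsg.Agent.S0415
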