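import Cfsg.Statements.S0736
import Mathlib
-- import your own Cfsg.Agent.* helpers here

set_option autoImplicit false
open Cfsg

namespace Cfsg.Agent.S0736

open scoped Pointwise

/-- Lucas-type congruence: `C(q m + (q-1), q-1) ≡ 1 mod p` for `q = p^a`. -/
theorem choose_pred_modEq_one (p : ℕ) [Fact p.Prime] (a m : ℕ) :
    Nat.choose (p ^ a * m + (p ^ a - 1)) (p ^ a - 1) ≡ 1 [MOD p] := by
  induction a with
  | zero => simp [Nat.ModEq.refl]
  | succ a ih =>
    have hp : 0 < p := (Fact.out : p.Prime).pos
    obtain ⟨Q, hQ⟩ : ∃ Q, p ^ a = Q + 1 := ⟨p ^ a - 1, by have := pow_pos hp a; omega⟩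
    obtain ⟨P, hP⟩ : ∃ P, p = P + 1 := ⟨p - 1, by omega⟩
    rw [hQ] at ih
    have h1 : p ^ (a + 1) - 1 = P + p * Q := by
      rw [pow_succ, hQ]
      have : (Q + 1) * p = p * Q + (P + 1) := by rw [← hP]; ring
      omega
    have h2 : p ^ (a + 1) * m + (p ^ (a + 1) - 1) = P + p * ((Q + 1) * m + Q) := by
      rw [h1, pow_succ, hQ]; ring
    rw [h2, h1]
    have key := Choose.choose_modEq_choose_mod_mul_choose_div_nat
      (n := P + p * ((Q + 1) * m + Q)) (k := P + p * Q) (p := p)
    have hPlt : P < p := by omega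
    rw [Nat.add_mul_mod_self_left, Nat.add_mul_mod_self_left, Nat.mod_eq_of_lt hPlt,
      Nat.add_mul_div_left _ _ hp, Nat.add_mul_div_left _ _ hp, Nat.div_eq_of_lt hPlt,
      Nat.choose_self, one_mul, zero_add, zero_add] at key
    refine key.trans ?_
    simpa using ih

/-- `q = p^a` is coprime to `C(q m + (q-1), q m)`. -/
theorem coprime_choose (p : ℕ) [Fact p.Prime] (a m : ℕ) :
    Nat.Coprime (p ^ a) (Nat.choose (p ^ a * m + (p ^ a - 1)) (p ^ a * m)) := by
  have hp : p.Prime := Fact.out
  have hsymm : Nat.choose (p ^ a * m + (p ^ a - 1)) (p ^ a * m)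
      = Nat.choose (p ^ a * m + (p ^ a - 1)) (p ^ a - 1) := by
    rw [← Nat.choose_symm (Nat.le_add_left _ _), Nat.add_sub_cancel]
  rw [hsymm]
  apply Nat.Coprime.pow_left
  rw [Nat.Prime.coprime_iff_not_dvd hp]
  intro hdvd
  have h1 := choose_pred_modEq_one p a m
  have h0 : Nat.choose (p ^ a * m + (p ^ a - 1)) (p ^ a - 1) ≡ 0 [MOD p] :=
    (Nat.modEq_zero_iff_dvd).2 hdvd
  have : (1 : ℕ) ≡ 0 [MOD p] := h1.symm.trans h0
  have := (Nat.modEq_zero_iff_dvd).1 this
  exact hp.one_lt.ne' (Nat.dvd_one.1 this)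

variable {α : Type*} [DecidableEq α]

/-- counting lemma: if every `k`-subset contains exactly `c` members of a family `S` of
`(k-1)`-sets, then for each `j`-set `Γ`: `#(S ∩ P_{k-1}(Γ)) * (j - (k-1)) = C(j,k) * c`. -/
theorem count_lemma (S : Finset α → Prop) [DecidablePred S] (k c : ℕ) (hk : 1 ≤ k)
    (hc : ∀ B : Finset α, B.card = k → ((B.powersetCard (k - 1)).filter S).card = c)
    (Γ : Finset α) :
    ((Γ.powersetCard (k - 1)).filter S).card * (Γ.card - (k - 1)) = Γ.card.choose k * c := by
  classical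
  have key := Finset.sum_card_bipartiteAbove_eq_sum_card_bipartiteBelow
    (s := (Γ.powersetCard (k - 1)).filter S) (t := Γ.powersetCard k)
    (fun A B : Finset α => A ⊆ B)
  have h1 : ∀ A ∈ (Γ.powersetCard (k - 1)).filter S,
      ((Γ.powersetCard k).bipartiteAbove (fun A B : Finset α => A ⊆ B) A).card
        = Γ.card - (k - 1) := by
    intro A hA
    rw [Finset.mem_filter, Finset.mem_powersetCard] at hA
    unfold Finset.bipartiteAbove
    rw [Finset.card_filter_powersetCard_subset A Γ k hA.1.1 (by omega), hA.1.2]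
    have : k - (k - 1) = 1 := by omega
    rw [this, Nat.choose_one_right]
  have h2 : ∀ B ∈ Γ.powersetCard k,
      (((Γ.powersetCard (k - 1)).filter S).bipartiteBelow (fun A B : Finset α => A ⊆ B) B).card
        = c := by
    intro B hB
    rw [Finset.mem_powersetCard] at hB
    rw [← hc B hB.2]
    congr 1
    ext A
    simp only [Finset.bipartiteBelow, Finset.mem_filter, Finset.mem_powersetCard]
    constructor
    · rintro ⟨⟨⟨_, h2⟩, h3⟩, h4⟩
      exact ⟨⟨h4, h2⟩, h3⟩
    · rintro ⟨⟨h1, h2⟩, h3⟩
      exact ⟨⟨⟨h1.trans hB.1, h2⟩, h3⟩, h1⟩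
  rw [Finset.sum_congr rfl h1, Finset.sum_congr rfl h2, Finset.sum_const, Finset.sum_const,
    smul_eq_mul, smul_eq_mul, Finset.card_powersetCard] at key
  exact key

/-- A `k`-homogeneous permutation group of degree `n`, `k ≥ 2`, with `k + q - 1 ≤ n` for every prime power `q` dividing `k`, is `(k-1)`-homogeneous. -/
theorem result {α : Type*} [Fintype α] [DecidableEq α] (G : Subgroup (Equiv.Perm α)) {k : ℕ} (hk : 2 ≤ k) (hG : MulAction.IsPretransitive G (Set.powersetCard α k)) (hq : ∀ q : ℕ, IsPrimePow q → q ∣ k → k + q - 1 ≤ Fintype.card α) : MulAction.IsPretransitive G (Set.powersetCard α (k - 1)) := by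
  classical
  obtain ⟨p₀, hp₀, hp₀k⟩ := Nat.exists_prime_and_dvd (show k ≠ 1 by omega)
  have hkn : k + 1 ≤ Fintype.card α := by
    have h1 := hq p₀ hp₀.isPrimePow hp₀k
    have h2 := hp₀.two_le
    omega
  -- transitivity on `k`-sets, at the level of finsets
  have htr : ∀ B B' : Finset α, B.card = k → B'.card = k → ∃ g : G, g • B = B' := by
    intro B B' hB hB'
    obtain ⟨g, hg⟩ := MulAction.exists_smul_eq G
      (⟨B, Set.powersetCard.mem_iff.2 hB⟩ : Set.powersetCard α k)
      (⟨B', Set.powersetCard.mem_iff.2 hB'⟩ : Set.powersetCard α k)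
    exact ⟨g, congrArg Subtype.val hg⟩
  have main : ∀ A₀ : Finset α, A₀.card = k - 1 → ∀ A : Finset α, A.card = k - 1 →
      ∃ g : G, g • A₀ = A := by
    intro A₀ hA₀
    let S : Finset α → Prop := fun A => ∃ g : G, g • A₀ = A
    have hSinv : ∀ (g : G) (A : Finset α), S A → S (g • A) := by
      rintro g A ⟨h, rfl⟩
      exact ⟨g * h, mul_smul g h A₀⟩
    have hcinv : ∀ (g : G) (B : Finset α),
        (((g • B).powersetCard (k - 1)).filter S).card
          = ((B.powersetCard (k - 1)).filter S).card := by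
      intro g B
      have himg : (((g • B).powersetCard (k - 1)).filter S)
          = ((B.powersetCard (k - 1)).filter S).image (fun A => g • A) := by
        ext A
        simp only [Finset.mem_filter, Finset.mem_powersetCard, Finset.mem_image]
        constructor
        · rintro ⟨⟨h1, h2⟩, h3⟩
          refine ⟨g⁻¹ • A, ⟨⟨?_, ?_⟩, hSinv g⁻¹ A h3⟩, smul_inv_smul g A⟩
          · exact Finset.subset_smul_finset_iff.1 h1
          · rw [Finset.card_smul_finset]; exact h2
        · rintro ⟨A', ⟨⟨h1, h2⟩, h3⟩, rfl⟩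
          exact ⟨⟨Finset.smul_finset_subset_smul_finset h1,
            by rw [Finset.card_smul_finset]; exact h2⟩, hSinv g A' h3⟩
      rw [himg, Finset.card_image_of_injective _ (MulAction.injective g)]
    -- a `k`-set containing `A₀`
    have hcompl : (Finset.univ \ A₀).Nonempty := by
      rw [← Finset.card_pos, Finset.card_sdiff_of_subset (Finset.subset_univ _), Finset.card_univ,
        hA₀]
      omega
    obtain ⟨x₀, hx₀⟩ := hcompl
    have hx₀' : x₀ ∉ A₀ := (Finset.mem_sdiff.1 hx₀).2
    set B₀ : Finset α := insert x₀ A₀ with hB₀def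
    have hB₀ : B₀.card = k := by
      rw [hB₀def, Finset.card_insert_of_notMem hx₀', hA₀]; omega
    set c : ℕ := ((B₀.powersetCard (k - 1)).filter S).card with hcdef
    have hc : ∀ B : Finset α, B.card = k → ((B.powersetCard (k - 1)).filter S).card = c := by
      intro B hB
      obtain ⟨g, rfl⟩ := htr B₀ B hB₀ hB
      exact hcinv g B₀
    have hcpos : 1 ≤ c := by
      rw [hcdef, Nat.one_le_iff_ne_zero, Finset.card_ne_zero]
      refine ⟨A₀, ?_⟩
      rw [Finset.mem_filter, Finset.mem_powersetCard]
      exact ⟨⟨Finset.subset_insert _ _, hA₀⟩, 1, one_smul _ _⟩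
    have hcle : c ≤ k := by
      rw [hcdef]
      refine (Finset.card_filter_le _ _).trans ?_
      rw [Finset.card_powersetCard, hB₀]
      have : k = (k - 1) + 1 := by omega
      rw [this, Nat.add_sub_cancel, Nat.choose_succ_self_right]
    -- every maximal prime power dividing `k` divides `c`
    have hdiv : ∀ p : ℕ, p.Prime → p ^ (k.factorization p) ∣ c := by
      intro p hp
      by_cases hpk : p ∣ k
      · have : Fact p.Prime := ⟨hp⟩
        set a := k.factorization p with hadef
        have hapos : 0 < a := hp.factorization_pos_of_dvd (by omega) hpk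
        have hqk : p ^ a ∣ k := Nat.ordProj_dvd k p
        obtain ⟨m, hm⟩ := hqk
        have hqpp : IsPrimePow (p ^ a) := hp.isPrimePow.pow hapos.ne'
        have hle := hq (p ^ a) hqpp ⟨m, hm⟩
        obtain ⟨Γ, -, hΓ⟩ := Finset.exists_subset_card_eq (s := (Finset.univ : Finset α))
          (n := k + p ^ a - 1) (by rw [Finset.card_univ]; exact hle)
        have hcount := count_lemma S k c (by omega) hc Γ
        have hqpos : 0 < p ^ a := pow_pos hp.pos a
        have h1 : Γ.card - (k - 1) = p ^ a := by rw [hΓ]; omega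
        have h2 : Γ.card = p ^ a * m + (p ^ a - 1) := by rw [hΓ, hm]; omega
        rw [h1, h2] at hcount
        have hcop := coprime_choose p a m
        rw [← hm] at hcop
        have : p ^ a ∣ (p ^ a * m + (p ^ a - 1)).choose k * c := ⟨_, by rw [← hcount, mul_comm]⟩
        rw [← hm] at this
        exact hcop.dvd_of_dvd_mul_left this
      · rw [Nat.factorization_eq_zero_of_not_dvd hpk, pow_zero]
        exact one_dvd _
    have hkc : k ∣ c := by
      rw [Nat.dvd_iff_prime_pow_dvd_dvd]
      intro p e hp hpe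
      have he : e ≤ k.factorization p := (hp.pow_dvd_iff_le_factorization (by omega)).1 hpe
      exact (pow_dvd_pow p he).trans (hdiv p hp)
    have hck : c = k := le_antisymm hcle (Nat.le_of_dvd (by omega) hkc)
    -- conclusion
    intro A hA
    have hcompl : (Finset.univ \ A).Nonempty := by
      rw [← Finset.card_pos, Finset.card_sdiff_of_subset (Finset.subset_univ _), Finset.card_univ,
        hA]
      omega
    obtain ⟨x, hx⟩ := hcompl
    have hx' : x ∉ A := (Finset.mem_sdiff.1 hx).2
    have hB : (insert x A).card = k := by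
      rw [Finset.card_insert_of_notMem hx', hA]; omega
    have hfull : ((insert x A).powersetCard (k - 1)).filter S = (insert x A).powersetCard (k - 1) := by
      apply Finset.eq_of_subset_of_card_le (Finset.filter_subset _ _)
      rw [hc _ hB, hck, Finset.card_powersetCard, hB]
      have : k = (k - 1) + 1 := by omega
      rw [this, Nat.add_sub_cancel, Nat.choose_succ_self_right]
    have hmem : A ∈ ((insert x A).powersetCard (k - 1)).filter S := by
      rw [hfull, Finset.mem_powersetCard]
      exact ⟨Finset.subset_insert _ _, hA⟩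
    exact (Finset.mem_filter.1 hmem).2
  refine ⟨fun x y => ?_⟩
  obtain ⟨g, hg⟩ := main x.1 (Set.powersetCard.mem_iff.1 x.2) y.1 (Set.powersetCard.mem_iff.1 y.2)
  exact ⟨g, Subtype.ext hg⟩

end Cfsg.Agent.S0736
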