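import Mathlib
import Cfsg.Statements.S0416
import Cfsg.Agent.Lib.Helper38.SharpTrans
import Cfsg.Agent.S0415
-- import your own Cfsg.Agent.* helpers here

set_option autoImplicit false
open Cfsg
open MulAction Cfsg.Agent.Lib.Helper38

namespace Cfsg.Agent.S0416

/-- abstract form: degrees of sharply 5-transitive actions -/
theorem core5 {G α : Type*} [Group G] [MulAction G α] [Fintype α]
    (h : Sharp 5 G α) (hn : 5 ≤ Fintype.card α) :
    Fintype.card α = 5 ∨ Fintype.card α = 6 ∨ Fintype.card α = 7 ∨ Fintype.card α = 12 := by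
  classical
  have hpos : 0 < Fintype.card α := by omega
  obtain ⟨ω⟩ : Nonempty α := Fintype.card_pos_iff.1 hpos
  have hS := Sharp.ofStabilizer (k := 4) h (by rw [Nat.card_eq_fintype_card]; exact hn) ω
  have : Fintype ↥(SubMulAction.ofStabilizer G ω) := Fintype.ofFinite _
  have hc := card_ofStabilizer (G := G) ω
  rw [Nat.card_eq_fintype_card, Nat.card_eq_fintype_card] at hc
  by_cases hle : Fintype.card ↥(SubMulAction.ofStabilizer G ω) ≤ 5
  · omega
  · rcases Cfsg.Agent.S0415.core4 hS (by omega) with h6 | h11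
    · omega
    · omega

/-- Degrees of sharply 5-transitive permutation groups are 5, 6, 7, 12. -/
theorem result {α : Type*} [Fintype α] [DecidableEq α] (G : Subgroup (Equiv.Perm α)) (h5 : 5 ≤ Fintype.card α) [MulAction.IsMultiplyPretransitive G α 5] (hsharp : ∀ x : Fin 5 ↪ α, MulAction.stabilizer G x = ⊥) : Fintype.card α = 5 ∨ Fintype.card α = 6 ∨ Fintype.card α = 7 ∨ Fintype.card α = 12 := by
  exact core5 ⟨inferInstance, hsharp⟩ h5

end Cfsg.Agent.S0416
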