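import Mathlib
import Cfsg.Statements.S0417
import Cfsg.Agent.Lib.Helper38.SharpTrans
import Cfsg.Agent.S0415
import Cfsg.Agent.S0416
-- import your own Cfsg.Agent.* helpers here

set_option autoImplicit false
open Cfsg
open MulAction Cfsg.Agent.Lib.Helper38
open Cfsg.Agent.S0415 (fixSet movSet pairSet mem_fixSet mem_movSet mem_pairSet card_pairSet
  apply_of_smul_eq smul_mem_movSet card_fix_add_card_mov eq_one_of_card_fixSet)

namespace Cfsg.Agent.S0417

section six

variable {G α : Type*} [Group G] [MulAction G α] [Fintype α] [DecidableEq α]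

omit [Fintype α] [DecidableEq α] in
theorem injective_vec6 {a b c d e f : α} (h : [a, b, c, d, e, f].Nodup) :
    Function.Injective ![a, b, c, d, e, f] := by
  rw [← List.nodup_ofFn]
  simpa using h

omit [Fintype α] [DecidableEq α] in
theorem smul_smul_self {t : G} (ht : t * t = 1) (a : α) : t • (t • a) = a := by
  rw [← mul_smul, ht, one_smul]

omit [Fintype α] [DecidableEq α] in
theorem ne_smul_of_smul_ne {t : G} (ht : t * t = 1) {u v : α} (h : u ≠ t • v) : t • u ≠ v := by
  rintro rfl
  exact h (smul_smul_self ht u).symm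

/-- triples `(a, c, e)` of moved points in three different `t`-orbits -/
def tripleSet (α : Type*) [MulAction G α] [Fintype α] [DecidableEq α] (t : G) :
    Finset ((α × α) × α) :=
  (pairSet α t ×ˢ movSet α t).filter
    (fun q => q.2 ≠ q.1.1 ∧ q.2 ≠ t • q.1.1 ∧ q.2 ≠ q.1.2 ∧ q.2 ≠ t • q.1.2)

theorem card_tripleSet (t : G) (ht : t * t = 1) :
    (tripleSet α t).card = (pairSet α t).card * ((movSet α t).card - 4) := by
  rw [tripleSet, Finset.card_filter, Finset.sum_product]
  have h1 : ∀ p ∈ pairSet α t,
      (∑ e ∈ movSet α t, if (e ≠ p.1 ∧ e ≠ t • p.1 ∧ e ≠ p.2 ∧ e ≠ t • p.2) then 1 else 0) =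
        (movSet α t).card - 4 := by
    intro p hp
    obtain ⟨ha, hc, hca, hcta⟩ := mem_pairSet.1 hp
    rw [← Finset.card_filter]
    have h2 : (movSet α t).filter (fun e => e ≠ p.1 ∧ e ≠ t • p.1 ∧ e ≠ p.2 ∧ e ≠ t • p.2) =
        ((((movSet α t).erase p.1).erase (t • p.1)).erase p.2).erase (t • p.2) := by
      ext e
      simp only [Finset.mem_filter, Finset.mem_erase]
      tauto
    have m1 : p.1 ∈ movSet α t := mem_movSet.2 ha
    have m2 : t • p.1 ∈ (movSet α t).erase p.1 := by
      rw [Finset.mem_erase]
      exact ⟨ha, smul_mem_movSet ht m1⟩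
    have m3 : p.2 ∈ ((movSet α t).erase p.1).erase (t • p.1) := by
      simp only [Finset.mem_erase]
      exact ⟨hcta, hca, mem_movSet.2 hc⟩
    have m4 : t • p.2 ∈ (((movSet α t).erase p.1).erase (t • p.1)).erase p.2 := by
      simp only [Finset.mem_erase]
      refine ⟨hc, ?_, ?_, smul_mem_movSet ht (mem_movSet.2 hc)⟩
      · exact fun h => hca (MulAction.injective t h)
      · exact ne_smul_of_smul_ne ht hcta
    rw [h2, Finset.card_erase_of_mem m4, Finset.card_erase_of_mem m3, Finset.card_erase_of_mem m2,
      Finset.card_erase_of_mem m1]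
    omega
  rw [Finset.sum_congr rfl h1, Finset.sum_const, smul_eq_mul]

/-- tuples `(a, ta, c, tc, d, e)` with `d, e` fixed -/
theorem card_T2_6 (t : G) (ht : t * t = 1) :
    Nat.card {x : Fin 6 ↪ α //
        t • x = (Equiv.swap (0 : Fin 6) 1 * Equiv.swap 2 3 : Equiv.Perm (Fin 6)).toEmbedding.trans x} =
      (pairSet α t).card * ((fixSet α t).card * (fixSet α t).card - (fixSet α t).card) := by
  have e0 : (Equiv.swap (0 : Fin 6) 1 * Equiv.swap 2 3 : Equiv.Perm (Fin 6)) 0 = 1 := by decide
  have e2 : (Equiv.swap (0 : Fin 6) 1 * Equiv.swap 2 3 : Equiv.Perm (Fin 6)) 2 = 3 := by decide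
  have e4 : (Equiv.swap (0 : Fin 6) 1 * Equiv.swap 2 3 : Equiv.Perm (Fin 6)) 4 = 4 := by decide
  have e5 : (Equiv.swap (0 : Fin 6) 1 * Equiv.swap 2 3 : Equiv.Perm (Fin 6)) 5 = 5 := by decide
  have e : {x : Fin 6 ↪ α //
      t • x = (Equiv.swap (0 : Fin 6) 1 * Equiv.swap 2 3 : Equiv.Perm (Fin 6)).toEmbedding.trans x} ≃
      ↥(pairSet α t ×ˢ (fixSet α t).offDiag) :=
    { toFun := fun x => ⟨((x.1 0, x.1 2), (x.1 4, x.1 5)), by
        have h0 := apply_of_smul_eq x.2 0
        have h2 := apply_of_smul_eq x.2 2
        have h4 := apply_of_smul_eq x.2 4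
        have h5 := apply_of_smul_eq x.2 5
        rw [e0] at h0; rw [e2] at h2; rw [e4] at h4; rw [e5] at h5
        rw [Finset.mem_product, mem_pairSet, Finset.mem_offDiag, mem_fixSet, mem_fixSet]
        simp only
        refine ⟨⟨?_, ?_, ?_, ?_⟩, h4, h5, ?_⟩
        · rw [h0]; exact fun h => by simpa using x.1.injective h
        · rw [h2]; exact fun h => by simpa using x.1.injective h
        · exact fun h => by simpa using x.1.injective h
        · rw [h0]; exact fun h => by simpa using x.1.injective h
        · exact fun h => by simpa using x.1.injective h⟩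
      invFun := fun p => ⟨⟨![p.1.1.1, t • p.1.1.1, p.1.1.2, t • p.1.1.2, p.1.2.1, p.1.2.2], by
          have hp := p.2
          rw [Finset.mem_product, mem_pairSet, Finset.mem_offDiag, mem_fixSet, mem_fixSet] at hp
          obtain ⟨⟨ha, hc, hca, hcta⟩, hd, he, hde⟩ := hp
          have hta := smul_smul_self ht p.1.1.1
          have htc := smul_smul_self ht p.1.1.2
          -- moved vs fixed
          have hMF : ∀ u v : α, t • u ≠ u → t • v = v → u ≠ v := by
            rintro u v hu hv rfl; exact hu hv
          have hta' : t • (t • p.1.1.1) ≠ t • p.1.1.1 := by rw [hta]; exact Ne.symm ha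
          have htc' : t • (t • p.1.1.2) ≠ t • p.1.1.2 := by rw [htc]; exact Ne.symm hc
          apply injective_vec6
          simp only [List.nodup_cons, List.mem_cons, List.not_mem_nil, or_false, not_or,
            List.nodup_nil, and_true]
          refine ⟨⟨Ne.symm ha, Ne.symm hca, ?_, hMF _ _ ha hd, hMF _ _ ha he⟩,
            ⟨Ne.symm hcta, ?_, hMF _ _ hta' hd, hMF _ _ hta' he⟩,
            ⟨Ne.symm hc, hMF _ _ hc hd, hMF _ _ hc he⟩,
            ⟨hMF _ _ htc' hd, hMF _ _ htc' he⟩, hde, not_false⟩
          · exact Ne.symm (ne_smul_of_smul_ne ht hcta)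
          · exact fun h => hca (MulAction.injective t h).symm⟩, by
          have hp := p.2
          rw [Finset.mem_product, mem_pairSet, Finset.mem_offDiag, mem_fixSet, mem_fixSet] at hp
          obtain ⟨⟨ha, hc, hca, hcta⟩, hd, he, hde⟩ := hp
          have hta := smul_smul_self ht p.1.1.1
          have htc := smul_smul_self ht p.1.1.2
          ext i
          simp only [Function.Embedding.smul_apply, Function.Embedding.trans_apply,
            Function.Embedding.coeFn_mk]
          fin_cases i
          · rfl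
          · exact hta
          · rfl
          · exact htc
          · exact hd
          · exact he⟩
      left_inv := fun x => by
        apply Subtype.ext
        ext i
        have h0 := apply_of_smul_eq x.2 0
        have h2 := apply_of_smul_eq x.2 2
        rw [e0] at h0; rw [e2] at h2
        fin_cases i
        · rfl
        · exact h0
        · rfl
        · exact h2
        · rfl
        · rfl
      right_inv := fun p => by
        apply Subtype.ext
        rfl }
  rw [Nat.card_congr e, Nat.card_eq_fintype_card, Fintype.card_coe, Finset.card_product,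
    Finset.offDiag_card]

theorem mem_tripleSet {t : G} {q : (α × α) × α} :
    q ∈ tripleSet α t ↔ q.1 ∈ pairSet α t ∧ t • q.2 ≠ q.2 ∧ q.2 ≠ q.1.1 ∧ q.2 ≠ t • q.1.1 ∧
      q.2 ≠ q.1.2 ∧ q.2 ≠ t • q.1.2 := by
  simp [tripleSet, mem_movSet, and_assoc]

/-- tuples `(a, ta, c, tc, e, te)` -/
theorem card_T3_6 (t : G) (ht : t * t = 1) :
    Nat.card {x : Fin 6 ↪ α //
        t • x = (Equiv.swap (0 : Fin 6) 1 * Equiv.swap 2 3 * Equiv.swap 4 5 :
          Equiv.Perm (Fin 6)).toEmbedding.trans x} =
      (pairSet α t).card * ((movSet α t).card - 4) := by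
  have e0 : (Equiv.swap (0 : Fin 6) 1 * Equiv.swap 2 3 * Equiv.swap 4 5 :
      Equiv.Perm (Fin 6)) 0 = 1 := by decide
  have e2 : (Equiv.swap (0 : Fin 6) 1 * Equiv.swap 2 3 * Equiv.swap 4 5 :
      Equiv.Perm (Fin 6)) 2 = 3 := by decide
  have e4 : (Equiv.swap (0 : Fin 6) 1 * Equiv.swap 2 3 * Equiv.swap 4 5 :
      Equiv.Perm (Fin 6)) 4 = 5 := by decide
  have e : {x : Fin 6 ↪ α //
      t • x = (Equiv.swap (0 : Fin 6) 1 * Equiv.swap 2 3 * Equiv.swap 4 5 :
        Equiv.Perm (Fin 6)).toEmbedding.trans x} ≃ ↥(tripleSet α t) :=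
    { toFun := fun x => ⟨((x.1 0, x.1 2), x.1 4), by
        have h0 := apply_of_smul_eq x.2 0
        have h2 := apply_of_smul_eq x.2 2
        have h4 := apply_of_smul_eq x.2 4
        rw [e0] at h0; rw [e2] at h2; rw [e4] at h4
        rw [mem_tripleSet, mem_pairSet]
        simp only
        refine ⟨⟨?_, ?_, ?_, ?_⟩, ?_, ?_, ?_, ?_, ?_⟩
        · rw [h0]; exact fun h => by simpa using x.1.injective h
        · rw [h2]; exact fun h => by simpa using x.1.injective h
        · exact fun h => by simpa using x.1.injective h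
        · rw [h0]; exact fun h => by simpa using x.1.injective h
        · rw [h4]; exact fun h => by simpa using x.1.injective h
        · exact fun h => by simpa using x.1.injective h
        · rw [h0]; exact fun h => by simpa using x.1.injective h
        · exact fun h => by simpa using x.1.injective h
        · rw [h2]; exact fun h => by simpa using x.1.injective h⟩
      invFun := fun p => ⟨⟨![p.1.1.1, t • p.1.1.1, p.1.1.2, t • p.1.1.2, p.1.2, t • p.1.2], by
          have hp := p.2
          rw [mem_tripleSet, mem_pairSet] at hp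
          obtain ⟨⟨ha, hc, hca, hcta⟩, he, hea, heta, hec, hetc⟩ := hp
          have inj := MulAction.injective (β := α) t
          apply injective_vec6
          simp only [List.nodup_cons, List.mem_cons, List.not_mem_nil, or_false, not_or,
            List.nodup_nil, and_true]
          refine ⟨⟨Ne.symm ha, Ne.symm hca, Ne.symm (ne_smul_of_smul_ne ht hcta), Ne.symm hea,
              Ne.symm (ne_smul_of_smul_ne ht heta)⟩,
            ⟨Ne.symm hcta, fun h => hca (inj h).symm, Ne.symm heta, fun h => hea (inj h).symm⟩,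
            ⟨Ne.symm hc, Ne.symm hec, Ne.symm (ne_smul_of_smul_ne ht hetc)⟩,
            ⟨Ne.symm hetc, fun h => hec (inj h).symm⟩, Ne.symm he, not_false⟩⟩, by
          ext i
          simp only [Function.Embedding.smul_apply, Function.Embedding.trans_apply,
            Function.Embedding.coeFn_mk]
          fin_cases i
          · rfl
          · exact smul_smul_self ht _
          · rfl
          · exact smul_smul_self ht _
          · rfl
          · exact smul_smul_self ht _⟩
      left_inv := fun x => by
        apply Subtype.ext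
        ext i
        have h0 := apply_of_smul_eq x.2 0
        have h2 := apply_of_smul_eq x.2 2
        have h4 := apply_of_smul_eq x.2 4
        rw [e0] at h0; rw [e2] at h2; rw [e4] at h4
        fin_cases i
        · rfl
        · exact h0
        · rfl
        · exact h2
        · rfl
        · exact h4
      right_inv := fun p => by
        apply Subtype.ext
        rfl }
  rw [Nat.card_congr e, Nat.card_eq_fintype_card, Fintype.card_coe, card_tripleSet t ht]

/-- no sharply 6-transitive action of degree 13 -/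
theorem core6 (h : Sharp 6 G α) : Fintype.card α ≠ 13 := by
  intro hn
  obtain ⟨x₀⟩ : Nonempty (Fin 6 ↪ α) :=
    Function.Embedding.nonempty_of_card_le (by simp; omega)
  obtain ⟨t, ht⟩ := h.exists_smul_eq x₀ ((Equiv.swap (0 : Fin 6) 1).toEmbedding.trans x₀)
  have htt : t * t = 1 := mul_self_eq_one_of_smul h t _ (Equiv.swap_mul_self _ _) x₀ ht
  have e0 : (Equiv.swap (0 : Fin 6) 1) 0 = 1 := by decide
  have e2 : (Equiv.swap (0 : Fin 6) 1) 2 = 2 := by decide
  have e3 : (Equiv.swap (0 : Fin 6) 1) 3 = 3 := by decide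
  have e4 : (Equiv.swap (0 : Fin 6) 1) 4 = 4 := by decide
  have e5 : (Equiv.swap (0 : Fin 6) 1) 5 = 5 := by decide
  have h0 := apply_of_smul_eq ht 0
  have h2 := apply_of_smul_eq ht 2
  have h3 := apply_of_smul_eq ht 3
  have h4 := apply_of_smul_eq ht 4
  have h5 := apply_of_smul_eq ht 5
  rw [e0] at h0; rw [e2] at h2; rw [e3] at h3; rw [e4] at h4; rw [e5] at h5
  -- `4 ≤ f ≤ 5`
  have hf4 : 4 ≤ (fixSet α t).card := by
    have hsub : (Finset.univ.image (fun i : Fin 4 => x₀ (Fin.natAdd 2 i)) : Finset α) ⊆
        fixSet α t := by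
      intro a ha
      rw [Finset.mem_image] at ha
      obtain ⟨i, -, rfl⟩ := ha
      rw [mem_fixSet]
      fin_cases i
      · exact h2
      · exact h3
      · exact h4
      · exact h5
    have hc : (Finset.univ.image (fun i : Fin 4 => x₀ (Fin.natAdd 2 i)) : Finset α).card = 4 := by
      rw [Finset.card_image_of_injective]
      · simp
      · intro i j hij
        have := x₀.injective hij
        exact Fin.natAdd_injective _ _ this
    calc 4 = _ := hc.symm
      _ ≤ _ := Finset.card_le_card hsub
  have hf5 : (fixSet α t).card ≤ 5 := by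
    by_contra hcon
    have h1 := eq_one_of_card_fixSet h t (by omega)
    rw [h1, one_smul] at h0
    simpa using x₀.injective h0
  have hsum := card_fix_add_card_mov (α := α) t
  have hpair := card_pairSet (α := α) t htt
  -- the two counts
  have hT2pos : 0 < Nat.card {x : Fin 6 ↪ α //
      t • x = (Equiv.swap (0 : Fin 6) 1 * Equiv.swap 2 3 :
        Equiv.Perm (Fin 6)).toEmbedding.trans x} := by
    rw [card_T2_6 t htt, hpair]
    apply Nat.mul_pos
    · apply Nat.mul_pos <;> omega
    · have : (fixSet α t).card < (fixSet α t).card * (fixSet α t).card := by nlinarith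
      omega
  obtain ⟨⟨x₁, hx₁⟩⟩ := (Nat.card_pos_iff.1 hT2pos).1
  have c2 := card_centralizer_eq h t _ x₁ hx₁
  rw [card_T2_6 t htt] at c2
  have hT3pos : 0 < Nat.card {x : Fin 6 ↪ α //
      t • x = (Equiv.swap (0 : Fin 6) 1 * Equiv.swap 2 3 * Equiv.swap 4 5 :
        Equiv.Perm (Fin 6)).toEmbedding.trans x} := by
    rw [card_T3_6 t htt, hpair]
    apply Nat.mul_pos
    · apply Nat.mul_pos <;> omega
    · omega
  obtain ⟨⟨x₂, hx₂⟩⟩ := (Nat.card_pos_iff.1 hT3pos).1
  have c3 := card_centralizer_eq h t _ x₂ hx₂
  rw [card_T3_6 t htt, c2] at c3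
  have hPpos : 0 < (pairSet α t).card := by
    rw [hpair]; apply Nat.mul_pos <;> omega
  have c4 := Nat.eq_of_mul_eq_mul_left hPpos c3
  have hcases : (fixSet α t).card = 4 ∨ (fixSet α t).card = 5 := by omega
  rcases hcases with hf | hf
  · rw [hf] at c4; omega
  · rw [hf] at c4; omega

end six

/-- abstract form: degrees of sharply `k`-transitive actions, `k ≥ 6` -/
theorem coreK.{u, v} (k : ℕ) (hk : 6 ≤ k) :
    ∀ (G : Type u) (α : Type v) [Group G] [MulAction G α] [Fintype α],
      Sharp k G α → k ≤ Fintype.card α →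
        Fintype.card α = k ∨ Fintype.card α = k + 1 ∨ Fintype.card α = k + 2 := by
  classical
  induction k, hk using Nat.le_induction with
  | base =>
    intro G α _ _ _ h hn
    have hpos : 0 < Fintype.card α := by omega
    obtain ⟨ω⟩ : Nonempty α := Fintype.card_pos_iff.1 hpos
    have hS := Sharp.ofStabilizer (k := 5) h (by rw [Nat.card_eq_fintype_card]; exact hn) ω
    have : Fintype ↥(SubMulAction.ofStabilizer G ω) := Fintype.ofFinite _
    have hc := card_ofStabilizer (G := G) ω
    rw [Nat.card_eq_fintype_card, Nat.card_eq_fintype_card] at hc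
    have h13 := core6 h
    rcases Cfsg.Agent.S0416.core5 hS (by omega) with h5 | h6 | h7 | h12
    · omega
    · omega
    · omega
    · omega
  | succ k hk ih =>
    intro G α _ _ _ h hn
    have hpos : 0 < Fintype.card α := by omega
    obtain ⟨ω⟩ : Nonempty α := Fintype.card_pos_iff.1 hpos
    have hS := Sharp.ofStabilizer (k := k) h (by rw [Nat.card_eq_fintype_card]; exact hn) ω
    have : Fintype ↥(SubMulAction.ofStabilizer G ω) := Fintype.ofFinite _
    have hc := card_ofStabilizer (G := G) ω
    rw [Nat.card_eq_fintype_card, Nat.card_eq_fintype_card] at hc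
    rcases ih _ _ hS (by omega) with h1 | h1 | h1
    · omega
    · omega
    · omega

/-- For k ≥ 6, sharply k-transitive groups have degree k, k+1 or k+2. -/
theorem result {α : Type*} [Fintype α] [DecidableEq α] (G : Subgroup (Equiv.Perm α)) (k : ℕ) (hk : 6 ≤ k) (hn : k ≤ Fintype.card α) [MulAction.IsMultiplyPretransitive G α k] (hsharp : ∀ x : Fin k ↪ α, MulAction.stabilizer G x = ⊥) : Fintype.card α = k ∨ Fintype.card α = k + 1 ∨ Fintype.card α = k + 2 := by
  exact coreK k hk _ _ ⟨inferInstance, hsharp⟩ hn

end Cfsg.Agent.S0417
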