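import Cfsg.Statements.S1141
import Cfsg.Agent.Lib.Helper5.UnitaryCenter

set_option autoImplicit false
set_option linter.unusedSectionVars false
open Cfsg
open scoped Matrix
open Cfsg.Agent.Lib.Helper5

namespace Cfsg.Agent.S1141

section field
variable {F : Type*} [Field F] [Fintype F] {q : ℕ}

theorem exists_theta (hF : Fintype.card F = q ^ 2) (h2 : (2 : F) = 0) :
    ∃ θ : F, θ + θ ^ q = 1 := by
  have := CharTwo.of_one_ne_zero_of_two_eq_zero (one_ne_zero (α := F)) h2
  obtain ⟨g, hg⟩ := exists_pow_q_ne hF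
  have ht0 : g + g ^ q ≠ 0 := by
    intro h
    apply hg
    have : g ^ q = -g := by linear_combination h
    rw [this]; exact CharTwo.neg_eq g
  have htq : (g + g ^ q) ^ q = g + g ^ q := by
    rw [add_pow_q hF, pow_q_pow_q hF, add_comm]
  refine ⟨g * (g + g ^ q)⁻¹, ?_⟩
  rw [mul_pow, inv_pow, htq, ← add_mul]
  exact mul_inv_cancel₀ ht0

open scoped Classical in
theorem card_fixed (hF : Fintype.card F = q ^ 2) : Nat.card {k : F // k ^ q = k} = q := by
  have h2 := two_le_of_card_eq_sq hF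
  let N : F → {k : F // k ^ q = k} := fun x => ⟨x * x ^ q, norm_pow_q hF x⟩
  have h1 : Fintype.card F = ∑ d : {k : F // k ^ q = k}, Fintype.card {x : F // N x = d} := by
    rw [← Fintype.card_sigma]; exact (Fintype.card_congr (Equiv.sigmaFiberEquiv N)).symm
  have h3 : ∀ d : {k : F // k ^ q = k},
      Fintype.card {x : F // N x = d} = if d.1 = 0 then 1 else q + 1 := by
    intro d
    rw [← Nat.card_eq_fintype_card, ← card_norm_eq hF d.2]
    apply Nat.card_congr
    exact Equiv.subtypeEquivRight (fun x => by simp only [N]; exact Subtype.ext_iff)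
  have h4 : ∀ d : {k : F // k ^ q = k},
      Fintype.card {x : F // N x = d} + (if d = ⟨0, zero_pow (by omega)⟩ then q else 0) = q + 1 := by
    intro d
    rw [h3]
    by_cases hd : d.1 = 0
    · have : d = ⟨0, zero_pow (by omega)⟩ := Subtype.ext hd
      rw [if_pos hd, if_pos this]; ring
    · have : d ≠ ⟨0, zero_pow (by omega)⟩ := fun h => hd (congrArg Subtype.val h)
      rw [if_neg hd, if_neg this]
  have h5 : Fintype.card F + q = Fintype.card {k : F // k ^ q = k} * (q + 1) := by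
    rw [h1]
    have : ∑ d : {k : F // k ^ q = k}, (Fintype.card {x : F // N x = d} +
        (if d = ⟨0, zero_pow (by omega)⟩ then q else 0)) =
        ∑ d : {k : F // k ^ q = k}, (q + 1) := Finset.sum_congr rfl (fun d _ => h4 d)
    rw [Finset.sum_add_distrib, Finset.sum_ite_eq' Finset.univ] at this
    simp only [Finset.mem_univ, if_true, Finset.sum_const, Finset.card_univ, smul_eq_mul] at this
    exact this
  rw [Nat.card_eq_fintype_card]
  rw [hF] at h5
  have h6 : q ^ 2 + q = q * (q + 1) := by ring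
  rw [h6] at h5
  exact (Nat.eq_of_mul_eq_mul_right (by omega) h5).symm

end field

section model
variable {F : Type*} [Field F] [Fintype F] {q : ℕ}

theorem charP_two (h2 : (2 : F) = 0) : CharP F 2 :=
  CharTwo.of_one_ne_zero_of_two_eq_zero one_ne_zero h2

/-- The model group: pairs `(a, b)` with `b + b^q = a^(q+1)`. -/
@[ext] structure Par (hF : Fintype.card F = q ^ 2) (h2 : (2 : F) = 0) where
  a : F
  b : F
  h : b + b ^ q = a * a ^ q

variable {hF : Fintype.card F = q ^ 2} {h2 : (2 : F) = 0}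

instance : Mul (Par hF h2) where
  mul x y := ⟨x.a + y.a, x.b + y.b + x.a * y.a ^ q, by
    have := charP_two h2
    have h1 := x.h
    have h3 := y.h
    simp only [add_pow_q hF, mul_pow, pow_q_pow_q hF]
    grind⟩

instance : One (Par hF h2) where
  one := ⟨0, 0, by
    have := two_le_of_card_eq_sq hF
    simp [zero_pow (by omega : q ≠ 0)]⟩

instance : Inv (Par hF h2) where
  inv x := ⟨x.a, x.b ^ q, by
    have := charP_two h2
    have h1 := x.h
    rw [pow_q_pow_q hF]
    grind⟩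

theorem mul_a (x y : Par hF h2) : (x * y).a = x.a + y.a := rfl
theorem mul_b (x y : Par hF h2) : (x * y).b = x.b + y.b + x.a * y.a ^ q := rfl
theorem one_a : (1 : Par hF h2).a = 0 := rfl
theorem one_b : (1 : Par hF h2).b = 0 := rfl
theorem inv_a (x : Par hF h2) : (x⁻¹).a = x.a := rfl
theorem inv_b (x : Par hF h2) : (x⁻¹).b = x.b ^ q := rfl

instance : Group (Par hF h2) :=
  Group.ofLeftAxioms
    (by
      intro x y z
      have := charP_two h2
      apply Par.ext
      · simp only [mul_a]; ring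
      · simp only [mul_a, mul_b, add_pow_q hF]; ring)
    (by
      intro x
      have := two_le_of_card_eq_sq hF
      apply Par.ext
      · simp only [mul_a, one_a]; ring
      · simp only [mul_b, one_a, one_b]; ring)
    (by
      intro x
      have := charP_two h2
      have h1 := x.h
      apply Par.ext
      · simp only [mul_a, inv_a, one_a]; grind
      · simp only [mul_b, inv_a, inv_b, one_b]; grind)

theorem lift_h (hF : Fintype.card F = q ^ 2) (θ : F) (hθ : θ + θ ^ q = 1) (a : F) :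
    θ * (a * a ^ q) + (θ * (a * a ^ q)) ^ q = a * a ^ q := by
  have hn : (a * a ^ q) ^ q = a * a ^ q := norm_pow_q hF a
  calc θ * (a * a ^ q) + (θ * (a * a ^ q)) ^ q
      = (θ + θ ^ q) * (a * a ^ q) := by rw [mul_pow, hn]; ring
    _ = a * a ^ q := by rw [hθ, one_mul]

/-- An element of the model group with prescribed first coordinate. -/
def lift (hF : Fintype.card F = q ^ 2) (h2 : (2 : F) = 0) (θ : F) (hθ : θ + θ ^ q = 1) (a : F) :
    Par hF h2 :=
  ⟨a, θ * (a * a ^ q), lift_h hF θ hθ a⟩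

theorem mem_center_iff (x : Par hF h2) : x ∈ Subgroup.center (Par hF h2) ↔ x.a = 0 := by
  have := charP_two h2
  have hq := two_le_of_card_eq_sq hF
  rw [Subgroup.mem_center_iff]
  constructor
  · intro h
    by_contra ha
    obtain ⟨g, hg⟩ := exists_pow_q_ne hF
    obtain ⟨θ, hθ⟩ := exists_theta hF h2
    have h1 := congrArg Par.b (h (lift hF h2 θ hθ (x.a * g)))
    simp only [mul_b] at h1
    have hya : (lift hF h2 θ hθ (x.a * g)).a = x.a * g := rfl
    rw [hya] at h1
    have h3 : x.a * x.a ^ q * (g ^ q - g) = 0 := by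
      rw [mul_pow] at h1
      linear_combination -h1
    rcases mul_eq_zero.mp h3 with h4 | h4
    · rcases mul_eq_zero.mp h4 with h5 | h5
      · exact ha h5
      · exact ha (pow_eq_zero_iff (by omega) |>.mp h5)
    · exact hg (sub_eq_zero.mp h4)
  · intro ha g
    apply Par.ext
    · simp only [mul_a]; ring
    · simp only [mul_b, ha, zero_pow (by omega : q ≠ 0)]; ring

theorem fixed_of_center (z : Par hF h2) (hz : z.a = 0) : z.b ^ q = z.b := by
  have := charP_two h2
  have h := z.h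
  rw [hz] at h
  grind

theorem card_center : Nat.card (Subgroup.center (Par hF h2)) = q := by
  have := charP_two h2
  have hq := two_le_of_card_eq_sq hF
  refine (Nat.card_congr ?_).trans (card_fixed hF)
  refine
    { toFun := fun z => ⟨z.1.b, fixed_of_center z.1 ((mem_center_iff z.1).mp z.2)⟩
      invFun := fun k => ⟨⟨0, k.1, by
        have := k.2
        rw [zero_pow (by omega : q ≠ 0)]
        grind⟩, (mem_center_iff _).mpr rfl⟩
      left_inv := ?_
      right_inv := ?_ }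
  · intro z
    apply Subtype.ext
    apply Par.ext
    · exact ((mem_center_iff z.1).mp z.2).symm
    · rfl
  · intro k
    rfl

theorem card_par : Nat.card (Par hF h2) = q ^ 3 := by
  have := charP_two h2
  obtain ⟨θ, hθ⟩ := exists_theta hF h2
  have h1 : Nat.card (F × {k : F // k ^ q = k}) = q ^ 3 := by
    rw [Nat.card_prod, card_fixed hF, Nat.card_eq_fintype_card, hF]; ring
  refine (Nat.card_congr ?_).trans h1
  refine
    { toFun := fun x => ⟨x.a, ⟨x.b + θ * (x.a * x.a ^ q), ?_⟩⟩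
      invFun := fun p => ⟨p.1, p.2.1 + θ * (p.1 * p.1 ^ q), ?_⟩
      left_inv := ?_
      right_inv := ?_ }
  · have h := x.h
    have h3 := lift_h hF θ hθ x.a
    rw [add_pow_q hF]
    grind
  · have h := p.2.2
    have h3 := lift_h hF θ hθ p.1
    rw [add_pow_q hF]
    grind
  · intro x
    apply Par.ext
    · rfl
    · simp only; grind
  · intro p
    apply Prod.ext
    · rfl
    · apply Subtype.ext
      simp only; grind

theorem sq_eq (x : Par hF h2) : (x * x).a = 0 ∧ (x * x).b = x.a * x.a ^ q := by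
  have := charP_two h2
  rw [mul_a, mul_b]
  constructor <;> grind

theorem invol_iff (x : Par hF h2) : (x ≠ 1 ∧ x * x = 1) ↔ (x.a = 0 ∧ x.b ≠ 0) := by
  have := charP_two h2
  have hq := two_le_of_card_eq_sq hF
  constructor
  · rintro ⟨h1, hx⟩
    have h := congrArg Par.b hx
    rw [(sq_eq x).2, one_b] at h
    have ha : x.a = 0 := by
      rcases mul_eq_zero.mp h with h3 | h3
      · exact h3
      · exact pow_eq_zero_iff (by omega) |>.mp h3
    refine ⟨ha, ?_⟩
    intro hb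
    apply h1
    apply Par.ext
    · rw [ha, one_a]
    · rw [hb, one_b]
  · rintro ⟨ha, hb⟩
    constructor
    · intro h
      apply hb
      rw [h, one_b]
    · apply Par.ext
      · rw [(sq_eq x).1, one_a]
      · rw [(sq_eq x).2, one_b, ha, zero_mul]

end model

section auto
variable {F : Type*} [Field F] [Fintype F] {q : ℕ}
variable {hF : Fintype.card F = q ^ 2} {h2 : (2 : F) = 0}

/-- The norm of a unit. -/
def nrm (q : ℕ) (l : Fˣ) : F := l.1 * l.1 ^ q

theorem nrm_fixed (hF : Fintype.card F = q ^ 2) (l : Fˣ) : (nrm q l) ^ q = nrm q l :=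
  norm_pow_q hF l.1

theorem nrm_mul (l l' : Fˣ) : nrm q (l * l') = nrm q l * nrm q l' := by
  unfold nrm
  rw [Units.val_mul, mul_pow]; ring

theorem nrm_one : nrm q (1 : Fˣ) = 1 := by
  unfold nrm
  simp

instance : SMul Fˣ (Par hF h2) where
  smul l x := ⟨nrm q l * x.a, (nrm q l) ^ 2 * x.b, by
    have h1 := x.h
    have h3 := nrm_fixed hF l
    rw [mul_pow, mul_pow, ← pow_mul, mul_comm 2 q, pow_mul, h3]
    linear_combination (nrm q l) ^ 2 * h1⟩

theorem smul_a (l : Fˣ) (x : Par hF h2) : (l • x).a = nrm q l * x.a := rfl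
theorem smul_b (l : Fˣ) (x : Par hF h2) : (l • x).b = (nrm q l) ^ 2 * x.b := rfl

instance : MulDistribMulAction Fˣ (Par hF h2) where
  one_smul x := by
    apply Par.ext
    · rw [smul_a, nrm_one, one_mul]
    · rw [smul_b, nrm_one, one_pow, one_mul]
  mul_smul l l' x := by
    apply Par.ext
    · rw [smul_a, smul_a, smul_a, nrm_mul]; ring
    · rw [smul_b, smul_b, smul_b, nrm_mul]; ring
  smul_mul l x y := by
    apply Par.ext
    · rw [smul_a, mul_a, mul_a, smul_a, smul_a]; ring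
    · rw [smul_b, mul_b, mul_b, smul_b, smul_b, smul_a, smul_a, mul_pow, nrm_fixed hF]; ring
  smul_one l := by
    apply Par.ext
    · rw [smul_a, one_a, mul_zero]
    · rw [smul_b, one_b, mul_zero]

/-- The cyclic group of automorphisms. -/
noncomputable def rho (hF : Fintype.card F = q ^ 2) (h2 : (2 : F) = 0) : Fˣ →* MulAut (Par hF h2) :=
  MulDistribMulAction.toMulAut Fˣ (Par hF h2)

theorem rho_apply (l : Fˣ) (x : Par hF h2) : rho hF h2 l x = l • x := rfl

theorem rho_eq_of_nrm_eq (l l' : Fˣ) (h : nrm q l = nrm q l') : rho hF h2 l = rho hF h2 l' := by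
  apply MulEquiv.ext
  intro x
  rw [rho_apply, rho_apply]
  apply Par.ext
  · rw [smul_a, smul_a, h]
  · rw [smul_b, smul_b, h]

theorem sq_injective (h2 : (2 : F) = 0) : Function.Injective (fun x : F => x ^ 2) := by
  have := charP_two h2
  intro x y hxy
  have h : (x - y) ^ 2 = 0 := by
    have hxy' : x ^ 2 = y ^ 2 := hxy
    grind
  exact sub_eq_zero.mp (pow_eq_zero_iff (by norm_num) |>.mp h)

theorem regular_invol (x y : Par hF h2) (hx1 : x ≠ 1) (hx : x * x = 1) (hy1 : y ≠ 1)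
    (hy : y * y = 1) : ∃! k : (rho hF h2).range, (k : MulAut (Par hF h2)) x = y := by
  have := charP_two h2
  obtain ⟨hxa, hxb⟩ := (invol_iff x).mp ⟨hx1, hx⟩
  obtain ⟨hya, hyb⟩ := (invol_iff y).mp ⟨hy1, hy⟩
  have hxq := fixed_of_center x hxa
  have hyq := fixed_of_center y hya
  -- the ratio and its square root
  obtain ⟨ν, hν⟩ := (Finite.injective_iff_surjective.mp (sq_injective h2)) (y.b * x.b⁻¹)
  have hν2 : ν ^ 2 = y.b * x.b⁻¹ := hν
  have hνq : ν ^ q = ν := by
    apply sq_injective h2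
    show (ν ^ q) ^ 2 = ν ^ 2
    rw [← pow_mul, mul_comm, pow_mul, hν2, mul_pow, inv_pow, hxq, hyq]
  have hν0 : ν ≠ 0 := by
    intro h
    rw [h] at hν2
    have : y.b * x.b⁻¹ ≠ 0 := mul_ne_zero hyb (inv_ne_zero hxb)
    apply this
    rw [← hν2]; ring
  obtain ⟨l0, hl0⟩ := exists_norm_eq hF hνq
  have hl00 : l0 ≠ 0 := by
    intro h
    apply hν0
    have hq := two_le_of_card_eq_sq hF
    rw [← hl0, h, zero_mul]
  have hnrm : nrm q (Units.mk0 l0 hl00) = ν := hl0
  refine ⟨⟨rho hF h2 (Units.mk0 l0 hl00), ⟨_, rfl⟩⟩, ?_, ?_⟩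
  · show rho hF h2 (Units.mk0 l0 hl00) x = y
    rw [rho_apply]
    apply Par.ext
    · rw [smul_a, hxa, hya, mul_zero]
    · rw [smul_b, hnrm, hν2, mul_assoc, inv_mul_cancel₀ hxb, mul_one]
  · rintro ⟨k, l', rfl⟩ hk
    apply Subtype.ext
    show rho hF h2 l' = rho hF h2 (Units.mk0 l0 hl00)
    apply rho_eq_of_nrm_eq
    rw [hnrm]
    apply sq_injective h2
    show (nrm q l') ^ 2 = ν ^ 2
    have hk' : rho hF h2 l' x = y := hk
    rw [rho_apply] at hk'
    have hb := congrArg Par.b hk'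
    rw [smul_b] at hb
    rw [hν2, ← hb, mul_assoc, mul_inv_cancel₀ hxb, mul_one]

end auto

section mats
variable {F : Type*} [Field F] [Fintype F] {q : ℕ}

def Jm : Matrix (Fin 3) (Fin 3) F := !![0, 0, 1; 0, 1, 0; 1, 0, 0]
def Pm (t : F) : Matrix (Fin 3) (Fin 3) F := !![1, 0, t; 1, 0, t + 1; 0, 1, 0]
def Pbm (t : F) : Matrix (Fin 3) (Fin 3) F := !![1, 0, t + 1; 1, 0, t; 0, 1, 0]
def Qm (t : F) : Matrix (Fin 3) (Fin 3) F := !![t + 1, t, 0; 0, 0, 1; 1, 1, 0]
def Qbm (t : F) : Matrix (Fin 3) (Fin 3) F := !![t, t + 1, 0; 0, 0, 1; 1, 1, 0]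
def Um (a b c : F) : Matrix (Fin 3) (Fin 3) F := !![1, a, b; 0, 1, c; 0, 0, 1]

variable (hF : Fintype.card F = q ^ 2) (h2 : (2 : F) = 0) (t : F) (ht : t + t ^ q = 1)

include h2 in
theorem L1 : (Pm t)ᵀ * Pbm t = Jm := by
  have := charP_two h2
  ext i j
  fin_cases i <;> fin_cases j <;>
    simp [Pm, Pbm, Jm, Matrix.mul_apply, Fin.sum_univ_three] <;> grind

include hF h2 ht in
theorem tq : t ^ q = t + 1 := by
  have := charP_two h2
  grind

include hF h2 ht in
theorem tq' : (t + 1) ^ q = t := by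
  have := charP_two h2
  rw [add_pow_q hF, tq hF h2 t ht, one_pow]
  grind

include hF h2 ht in
theorem L1' : (Pm t).map (· ^ q) = Pbm t := by
  have hq := two_le_of_card_eq_sq hF
  have h0 : (0 : F) ^ q = 0 := zero_pow (by omega)
  have e1 := tq hF h2 t ht
  have e2 := tq' hF h2 t ht
  ext i j
  fin_cases i <;> fin_cases j <;> simp [Pm, Pbm, h0, e1, e2]

include hF h2 ht in
theorem L1'' : (Qm t).map (· ^ q) = Qbm t := by
  have hq := two_le_of_card_eq_sq hF
  have h0 : (0 : F) ^ q = 0 := zero_pow (by omega)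
  have e1 := tq hF h2 t ht
  have e2 := tq' hF h2 t ht
  ext i j
  fin_cases i <;> fin_cases j <;> simp [Qm, Qbm, h0, e1, e2]

include h2 in
theorem L2 : (Qm t)ᵀ * Jm * Qbm t = 1 := by
  have := charP_two h2
  ext i j
  fin_cases i <;> fin_cases j <;>
    simp [Qm, Qbm, Jm, Matrix.mul_apply, Fin.sum_univ_three] <;> grind

include h2 in
theorem L3 (a b c e : F) (he : e = b + a * c) : (Um a b c)ᵀ * Jm * Um c e a = Jm := by
  have := charP_two h2
  ext i j
  fin_cases i <;> fin_cases j <;>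
    simp [Um, Jm, Matrix.mul_apply, Fin.sum_univ_three] <;> grind

include h2 in
theorem L4 : Qm t * Pm t = 1 := by
  have := charP_two h2
  ext i j
  fin_cases i <;> fin_cases j <;>
    simp [Qm, Pm, Matrix.mul_apply, Fin.sum_univ_three] <;> grind

include h2 in
theorem L4' : Pm t * Qm t = 1 := by
  have := charP_two h2
  ext i j
  fin_cases i <;> fin_cases j <;>
    simp [Qm, Pm, Matrix.mul_apply, Fin.sum_univ_three] <;> grind

theorem L5 (a b c : F) : (Um a b c).det = 1 := by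
  rw [Matrix.det_fin_three]
  simp [Um]

theorem L6 (a b c a' b' c' : F) :
    Um a b c * Um a' b' c' = Um (a + a') (b + b' + a * c') (c + c') := by
  ext i j
  fin_cases i <;> fin_cases j <;>
    simp [Um, Matrix.mul_apply, Fin.sum_univ_three] <;> ring

include hF in
theorem Um_map (a b c : F) : (Um a b c).map (· ^ q) = Um (a ^ q) (b ^ q) (c ^ q) := by
  have hq := two_le_of_card_eq_sq hF
  have h0 : (0 : F) ^ q = 0 := zero_pow (by omega)
  ext i j
  fin_cases i <;> fin_cases j <;> simp [Um, h0]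

end mats

section embed
variable {F : Type*} [Field F] [Fintype F] {q : ℕ}
variable (hF : Fintype.card F = q ^ 2) (h2 : (2 : F) = 0) (t : F) (ht : t + t ^ q = 1)

/-- The matrix of a model group element. -/
def Mm (x : Par hF h2) : Matrix (Fin 3) (Fin 3) F := Pm t * Um x.a x.b (x.a ^ q) * Qm t

theorem Mm_det (x : Par hF h2) : (Mm hF h2 t x).det = 1 := by
  unfold Mm
  rw [Matrix.det_mul, Matrix.det_mul, L5, mul_one, ← Matrix.det_mul, L4' h2 t, Matrix.det_one]

include ht in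
theorem Mm_map (x : Par hF h2) :
    (Mm hF h2 t x).map (· ^ q) = Pbm t * Um (x.a ^ q) (x.b + x.a * x.a ^ q) x.a * Qbm t := by
  have := charP_two h2
  have e : (fun y : F => y ^ q) = ⇑(conjHom hF) := rfl
  unfold Mm
  rw [e, Matrix.map_mul, Matrix.map_mul, ← e, L1' hF h2 t ht, L1'' hF h2 t ht, Um_map hF]
  have h1 : x.b ^ q = x.b + x.a * x.a ^ q := by
    have := x.h
    grind
  rw [h1, pow_q_pow_q hF]

include ht in
theorem Mm_unit (x : Par hF h2) : (Mm hF h2 t x)ᵀ * (Mm hF h2 t x).map (· ^ q) = 1 := by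
  rw [Mm_map hF h2 t ht]
  unfold Mm
  rw [Matrix.transpose_mul, Matrix.transpose_mul]
  calc (Qm t)ᵀ * ((Um x.a x.b (x.a ^ q))ᵀ * (Pm t)ᵀ) *
        (Pbm t * Um (x.a ^ q) (x.b + x.a * x.a ^ q) x.a * Qbm t)
      = (Qm t)ᵀ * ((Um x.a x.b (x.a ^ q))ᵀ * ((Pm t)ᵀ * Pbm t) *
          Um (x.a ^ q) (x.b + x.a * x.a ^ q) x.a) * Qbm t := by
        simp only [Matrix.mul_assoc]
    _ = (Qm t)ᵀ * Jm * Qbm t := by
        rw [L1 h2 t, L3 h2 x.a x.b (x.a ^ q) (x.b + x.a * x.a ^ q) rfl]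
    _ = 1 := L2 h2 t

theorem Mm_mul (x y : Par hF h2) : Mm hF h2 t (x * y) = Mm hF h2 t x * Mm hF h2 t y := by
  unfold Mm
  calc Pm t * Um (x * y).a (x * y).b ((x * y).a ^ q) * Qm t
      = Pm t * (Um x.a x.b (x.a ^ q) * Um y.a y.b (y.a ^ q)) * Qm t := by
        rw [L6, mul_a, mul_b, add_pow_q hF]
    _ = Pm t * Um x.a x.b (x.a ^ q) * (Qm t * Pm t) * Um y.a y.b (y.a ^ q) * Qm t := by
        rw [L4 h2 t]; simp only [Matrix.mul_assoc, Matrix.one_mul]
    _ = Pm t * Um x.a x.b (x.a ^ q) * Qm t * (Pm t * Um y.a y.b (y.a ^ q) * Qm t) := by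
        simp only [Matrix.mul_assoc]

/-- The embedding of the model group into `SU₃(q)`. -/
noncomputable def Phi : Par hF h2 →* SU 3 F q :=
  MonoidHom.mk'
    (fun x => SUofPreserves (Mm hF h2 t x) (Mm_det hF h2 t x)
      ((preserves_iff_matrix (q := q) hF (Mm hF h2 t x)).mpr (Mm_unit hF h2 t ht x)))
    (by
      intro x y
      apply Subtype.ext
      apply Subtype.ext
      exact Mm_mul hF h2 t x y)

theorem Phi_coe (x : Par hF h2) : (Phi hF h2 t ht x).1.1 = Mm hF h2 t x := rfl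

theorem Phi_injective : Function.Injective (Phi hF h2 t ht) := by
  rw [injective_iff_map_eq_one]
  intro x hx
  have h1 : Mm hF h2 t x = 1 := by
    rw [← Phi_coe hF h2 t ht, hx]; rfl
  have h3 : Um x.a x.b (x.a ^ q) = 1 := by
    calc Um x.a x.b (x.a ^ q) = (Qm t * Pm t) * Um x.a x.b (x.a ^ q) * (Qm t * Pm t) := by
          rw [L4 h2 t, Matrix.one_mul, Matrix.mul_one]
      _ = Qm t * (Pm t * Um x.a x.b (x.a ^ q) * Qm t) * Pm t := by
          simp only [Matrix.mul_assoc]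
      _ = 1 := by
          have : Pm t * Um x.a x.b (x.a ^ q) * Qm t = 1 := h1
          rw [this, Matrix.mul_one, L4 h2 t]
  apply Par.ext
  · have := congrFun (congrFun h3 0) 1
    rw [one_a]
    simpa [Um] using this
  · have := congrFun (congrFun h3 0) 2
    rw [one_b]
    simpa [Um] using this

end embed

section transfer

theorem suzuki_transfer {T₀ T : Type*} [Group T₀] [Group T] (e : T₀ ≃* T)
    (h : IsSuzukiTwoGroup T₀) : IsSuzukiTwoGroup T := by
  obtain ⟨hfin, hp, ⟨x, y, hxy⟩, ⟨u, v, huv, hu1, hu2, hv1, hv2⟩, K, hK, hreg⟩ := h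
  refine ⟨Finite.of_equiv T₀ e.toEquiv, hp.of_equiv e, ⟨e x, e y, ?_⟩,
    ⟨e u, e v, ?_, ?_, ?_, ?_, ?_⟩, K.map (MulAut.congr e).toMonoidHom, ?_, ?_⟩
  · intro h
    apply hxy
    apply e.injective
    rw [map_mul, map_mul]; exact h
  · exact fun h => huv (e.injective h)
  · intro h; apply hu1; apply e.injective; rw [h, map_one]
  · rw [← map_mul, hu2, map_one]
  · intro h; apply hv1; apply e.injective; rw [h, map_one]
  · rw [← map_mul, hv2, map_one]
  · exact isCyclic_of_surjective ((MulAut.congr e).toMonoidHom.subgroupMap K)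
      (MonoidHom.subgroupMap_surjective _ _)
  · intro x y hx1 hx hy1 hy
    have hx1' : e.symm x ≠ 1 := by
      intro h; apply hx1; apply e.symm.injective; rw [h, map_one]
    have hx' : e.symm x * e.symm x = 1 := by rw [← map_mul, hx, map_one]
    have hy1' : e.symm y ≠ 1 := by
      intro h; apply hy1; apply e.symm.injective; rw [h, map_one]
    have hy' : e.symm y * e.symm y = 1 := by rw [← map_mul, hy, map_one]
    obtain ⟨k₀, hk₀, huniq⟩ := hreg (e.symm x) (e.symm y) hx1' hx' hy1' hy'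
    refine ⟨⟨MulAut.congr e k₀.1, Subgroup.mem_map_of_mem _ k₀.2⟩, ?_, ?_⟩
    · show e (k₀.1 (e.symm x)) = y
      rw [hk₀, e.apply_symm_apply]
    · rintro ⟨k', k₀', hk₀', rfl⟩ hk'
      have h3 : e (k₀' (e.symm x)) = y := hk'
      have h4 : k₀' (e.symm x) = e.symm y := by rw [← h3, e.symm_apply_apply]
      have h5 := huniq ⟨k₀', hk₀'⟩ h4
      apply Subtype.ext
      show MulAut.congr e k₀' = MulAut.congr e k₀.1
      rw [← h5]

end transfer

section main
variable {F : Type*} [Field F] [Fintype F] {n : ℕ}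

theorem two_eq_zero (hF : Fintype.card F = (2 ^ n) ^ 2) : (2 : F) = 0 := by
  have h16 : ((Fintype.card F : ℕ) : F) = 0 := Nat.cast_card_eq_zero F
  rw [hF] at h16
  have h : (2 : F) ^ (n * 2) = 0 := by
    rw [pow_mul]
    exact_mod_cast h16
  have hn : n * 2 ≠ 0 := by
    intro h0
    have : n = 0 := by omega
    rw [this] at hF
    have := Fintype.one_lt_card (α := F)
    rw [hF] at this
    norm_num at this
  exact pow_eq_zero_iff hn |>.mp h

theorem suzuki_par (hn : 2 ≤ n) (hF : Fintype.card F = (2 ^ n) ^ 2) (h2 : (2 : F) = 0) :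
    IsSuzukiTwoGroup (Par hF h2) := by
  classical
  have := charP_two h2
  have hq4 : 4 ≤ 2 ^ n := by
    calc 4 = 2 ^ 2 := by norm_num
      _ ≤ 2 ^ n := Nat.pow_le_pow_right (by norm_num) hn
  have hcard : Nat.card (Par hF h2) = (2 ^ n) ^ 3 := card_par
  have hfin : Finite (Par hF h2) := Nat.finite_of_card_ne_zero (by rw [hcard]; positivity)
  obtain ⟨g, hg⟩ := exists_pow_q_ne hF
  obtain ⟨θ, hθ⟩ := exists_theta hF h2
  refine ⟨hfin, IsPGroup.of_card (n := n * 3) (by rw [hcard, pow_mul]),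
    ⟨lift hF h2 θ hθ 1, lift hF h2 θ hθ g, ?_⟩, ?_, (rho hF h2).range, ?_, ?_⟩
  · intro h
    have hb := congrArg Par.b h
    simp only [mul_b] at hb
    have ha1 : (lift hF h2 θ hθ 1).a = 1 := rfl
    have hag : (lift hF h2 θ hθ g).a = g := rfl
    rw [ha1, hag, one_pow, one_mul, mul_one] at hb
    apply hg
    linear_combination hb
  · have h3 : 2 < Fintype.card {k : F // k ^ (2 ^ n) = k} := by
      rw [← Nat.card_eq_fintype_card, card_fixed hF]; omega
    obtain ⟨a, b, c, hab, hac, hbc⟩ := Fintype.two_lt_card_iff.mp h3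
    have key : ∀ k₁ k₂ : {k : F // k ^ (2 ^ n) = k}, k₁ ≠ k₂ → k₁.1 ≠ 0 → k₂.1 ≠ 0 →
        ∃ x y : Par hF h2, x ≠ y ∧ x ≠ 1 ∧ x * x = 1 ∧ y ≠ 1 ∧ y * y = 1 := by
      intro k₁ k₂ h12 h1 h2'
      have hz : ∀ k : {k : F // k ^ (2 ^ n) = k}, k.1 + k.1 ^ (2 ^ n) = 0 * 0 ^ (2 ^ n) := by
        intro k
        rw [k.2, zero_mul]
        grind
      have i1 := (invol_iff (⟨0, k₁.1, hz k₁⟩ : Par hF h2)).mpr ⟨rfl, h1⟩
      have i2 := (invol_iff (⟨0, k₂.1, hz k₂⟩ : Par hF h2)).mpr ⟨rfl, h2'⟩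
      refine ⟨⟨0, k₁.1, hz k₁⟩, ⟨0, k₂.1, hz k₂⟩, ?_, i1.1, i1.2, i2.1, i2.2⟩
      intro h
      apply h12
      apply Subtype.ext
      exact congrArg Par.b h
    by_cases ha : a.1 = 0
    · have hb : b.1 ≠ 0 := fun h => hab (Subtype.ext (ha.trans h.symm))
      have hc : c.1 ≠ 0 := fun h => hac (Subtype.ext (ha.trans h.symm))
      exact key b c hbc hb hc
    · by_cases hb : b.1 = 0
      · have hc : c.1 ≠ 0 := fun h => hbc (Subtype.ext (hb.trans h.symm))
        exact key a c hac ha hc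
      · exact key a b hab ha hb
  · exact isCyclic_of_surjective (rho hF h2).rangeRestrict (rho hF h2).rangeRestrict_surjective
  · intro x y hx1 hx hy1 hy
    exact regular_invol x y hx1 hx hy1 hy

theorem two_adic {a b u v : ℕ} (h : 2 ^ a * u = 2 ^ b * v) (hu : ¬ 2 ∣ u) (hv : ¬ 2 ∣ v) :
    a = b := by
  have cu : Nat.Coprime 2 u := (Nat.Prime.coprime_iff_not_dvd Nat.prime_two).mpr hu
  have cv : Nat.Coprime 2 v := (Nat.Prime.coprime_iff_not_dvd Nat.prime_two).mpr hv
  apply le_antisymm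
  · have h1 : 2 ^ a ∣ 2 ^ b * v := ⟨u, h.symm⟩
    have h3 := (cv.pow_left a).dvd_of_dvd_mul_right h1
    exact (Nat.pow_dvd_pow_iff_le_right (by norm_num)).mp h3
  · have h1 : 2 ^ b ∣ 2 ^ a * u := ⟨v, h⟩
    have h3 := (cu.pow_left b).dvd_of_dvd_mul_right h1
    exact (Nat.pow_dvd_pow_iff_le_right (by norm_num)).mp h3

theorem card_PSU_mul (hF : Fintype.card F = (2 ^ n) ^ 2) :
    Nat.card (Cfsg.PSU 3 F (2 ^ n)) * Nat.gcd 3 (2 ^ n + 1) =
      (2 ^ n) ^ 3 * (((2 ^ n) ^ 2 - 1) * ((2 ^ n) ^ 3 + 1)) := by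
  have h1 := Subgroup.card_eq_card_quotient_mul_card_subgroup
    (Subgroup.center (Cfsg.SU 3 F (2 ^ n)))
  rw [card_center_SU hF (by norm_num)] at h1
  have h3 := card_SU_mul hF (by omega : 1 ≤ 3)
  rw [h1, card_GU hF 3] at h3
  change (2 ^ n + 1) * (Nat.card (Cfsg.PSU 3 F (2 ^ n)) * Nat.gcd 3 (2 ^ n + 1)) = _ at h3
  simp [Finset.prod_range_succ] at h3
  have hpos : 0 < 2 ^ n + 1 := by positivity
  apply Nat.eq_of_mul_eq_mul_left hpos
  rw [h3]
  ring

theorem sylow_card (hn : 1 ≤ n) (hF : Fintype.card F = (2 ^ n) ^ 2)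
    (Q : Sylow 2 (Cfsg.PSU 3 F (2 ^ n))) : Nat.card Q = (2 ^ n) ^ 3 := by
  have : Fact (Nat.Prime 2) := ⟨Nat.prime_two⟩
  have hmulA := card_PSU_mul hF
  have hq2 : 2 ∣ 2 ^ n := dvd_pow_self 2 (by omega)
  have hqpos : 0 < 2 ^ n := by positivity
  have hfin : Finite (Cfsg.PSU 3 F (2 ^ n)) := by
    apply Nat.finite_of_card_ne_zero
    intro h0
    rw [h0, zero_mul] at hmulA
    have h1 : 1 ≤ (2 ^ n) ^ 2 := Nat.one_le_pow _ _ hqpos
    have h3 : 0 < (2 ^ n) ^ 3 * (((2 ^ n) ^ 2 - 1) * ((2 ^ n) ^ 3 + 1)) := by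
      apply Nat.mul_pos (by positivity)
      apply Nat.mul_pos _ (by positivity)
      have : 2 ≤ (2 ^ n) ^ 2 := by
        calc 2 ≤ 2 ^ n := by
              calc 2 = 2 ^ 1 := by norm_num
                _ ≤ 2 ^ n := Nat.pow_le_pow_right (by norm_num) hn
          _ ≤ (2 ^ n) ^ 2 := Nat.le_self_pow (by norm_num) _
      omega
    omega
  obtain ⟨k, hk⟩ := IsPGroup.iff_card.mp Q.isPGroup'
  have hidx : ¬ 2 ∣ (Q : Subgroup (Cfsg.PSU 3 F (2 ^ n))).index := Q.not_dvd_index
  have hmul : Nat.card Q * (Q : Subgroup (Cfsg.PSU 3 F (2 ^ n))).index =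
      Nat.card (Cfsg.PSU 3 F (2 ^ n)) := Subgroup.card_mul_index _
  rw [hk] at hmul ⊢
  have hd : ¬ 2 ∣ Nat.gcd 3 (2 ^ n + 1) := by
    intro h
    have : 2 ∣ 3 := dvd_trans h (Nat.gcd_dvd_left _ _)
    omega
  have hu : ¬ 2 ∣ (Q : Subgroup (Cfsg.PSU 3 F (2 ^ n))).index * Nat.gcd 3 (2 ^ n + 1) := by
    intro h
    rcases (Nat.Prime.dvd_mul Nat.prime_two).mp h with h | h
    · exact hidx h
    · exact hd h
  have hv : ¬ 2 ∣ ((2 ^ n) ^ 2 - 1) * ((2 ^ n) ^ 3 + 1) := by
    have h1 : 2 ∣ (2 ^ n) ^ 2 := dvd_pow hq2 (by norm_num)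
    have h3 : 2 ∣ (2 ^ n) ^ 3 := dvd_pow hq2 (by norm_num)
    have h4 : 1 ≤ (2 ^ n) ^ 2 := Nat.one_le_pow _ _ hqpos
    intro h
    rcases (Nat.Prime.dvd_mul Nat.prime_two).mp h with h | h <;> omega
  have heq : 2 ^ k * ((Q : Subgroup (Cfsg.PSU 3 F (2 ^ n))).index * Nat.gcd 3 (2 ^ n + 1)) =
      2 ^ (n * 3) * (((2 ^ n) ^ 2 - 1) * ((2 ^ n) ^ 3 + 1)) := by
    rw [← mul_assoc, hmul, hmulA, pow_mul]
  rw [two_adic heq hu hv, pow_mul]

end main

section final
variable {F : Type*} [Field F] [Fintype F]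

theorem mk_injective_of_sylow {n : ℕ} (hF : Fintype.card F = (2 ^ n) ^ 2)
    (x : SU 3 F (2 ^ n)) (hx : x ∈ Subgroup.center (SU 3 F (2 ^ n))) (k : ℕ)
    (hk : x ^ (2 ^ k) = 1) : x = 1 := by
  -- the centre has odd order
  have hc := card_center_SU hF (n := 3) (by norm_num)
  have hodd : Nat.Coprime (Nat.card (Subgroup.center (SU 3 F (2 ^ n)))) (2 ^ k) := by
    rw [hc]
    apply Nat.Coprime.pow_right
    have : Nat.gcd 3 (2 ^ n + 1) ∣ 3 := Nat.gcd_dvd_left _ _
    have h3 : Nat.Coprime 3 2 := by decide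
    exact Nat.Coprime.coprime_dvd_left this h3
  have h1 : (⟨x, hx⟩ : Subgroup.center (SU 3 F (2 ^ n))) ^ (2 ^ k) = 1 := Subtype.ext hk
  have h3 : (⟨x, hx⟩ : Subgroup.center (SU 3 F (2 ^ n))) ^
      (Nat.card (Subgroup.center (SU 3 F (2 ^ n)))) = 1 := pow_card_eq_one'
  have h4 := pow_gcd_eq_one.mpr ⟨h3, h1⟩
  rw [hodd, pow_one] at h4
  exact congrArg Subtype.val h4

/-- Let `q = 2^n ≥ 4` and `|F| = q²`. A Sylow 2-subgroup `S` of `PSU₃(q)` has order `q³`, its centre has order `q`, and `S` is a Suzuki 2-group. -/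
theorem result {F : Type*} [Field F] [Fintype F] {n : ℕ} (hn : 2 ≤ n)
    (hF : Fintype.card F = (2 ^ n) ^ 2) (S : Sylow 2 (Cfsg.PSU 3 F (2 ^ n))) :
    Nat.card S = (2 ^ n) ^ 3 ∧ Nat.card (Subgroup.center ↥(S : Subgroup (Cfsg.PSU 3 F (2 ^ n)))) = 2 ^ n ∧
      Cfsg.IsSuzukiTwoGroup ↥(S : Subgroup (Cfsg.PSU 3 F (2 ^ n))) := by
  have : Fact (Nat.Prime 2) := ⟨Nat.prime_two⟩
  have h2 := two_eq_zero hF
  obtain ⟨t, ht⟩ := exists_theta hF h2
  have hn1 : 1 ≤ n := by omega
  have hScard := sylow_card hn1 hF S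
  have hfin : Finite (Cfsg.PSU 3 F (2 ^ n)) := by
    have hSL : Finite (Matrix.SpecialLinearGroup (Fin 3) F) := by
      unfold Matrix.SpecialLinearGroup; infer_instance
    infer_instance
  -- the embedding of the model group into PSU
  have hΨ : Function.Injective
      ((QuotientGroup.mk' (Subgroup.center (SU 3 F (2 ^ n)))).comp (Phi hF h2 t ht)) := by
    rw [injective_iff_map_eq_one]
    intro x hx
    have hx' : Phi hF h2 t ht x ∈ Subgroup.center (SU 3 F (2 ^ n)) := by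
      rw [← QuotientGroup.eq_one_iff]; exact hx
    have hpow : x ^ (2 ^ (n * 3)) = 1 := by
      have h1 : Nat.card (Par hF h2) = 2 ^ (n * 3) := by rw [card_par, pow_mul]
      rw [← h1]; exact pow_card_eq_one'
    have h5 := mk_injective_of_sylow hF (Phi hF h2 t ht x) hx' (n * 3)
      (by rw [← map_pow, hpow, map_one])
    exact Phi_injective hF h2 t ht (h5.trans (map_one _).symm)
  let e₁ := MonoidHom.ofInjective hΨ
  have hR : Nat.card ((QuotientGroup.mk' (Subgroup.center (SU 3 F (2 ^ n)))).comp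
      (Phi hF h2 t ht)).range = (2 ^ n) ^ 3 := by
    rw [← Nat.card_congr e₁.toEquiv]; exact card_par
  have hR2 : IsPGroup 2 ((QuotientGroup.mk' (Subgroup.center (SU 3 F (2 ^ n)))).comp
      (Phi hF h2 t ht)).range := IsPGroup.of_card (n := n * 3) (by rw [hR, pow_mul])
  obtain ⟨Q, hQ⟩ := hR2.exists_le_sylow
  have hRQ : ((QuotientGroup.mk' (Subgroup.center (SU 3 F (2 ^ n)))).comp
      (Phi hF h2 t ht)).range = (Q : Subgroup (Cfsg.PSU 3 F (2 ^ n))) :=
    Subgroup.eq_of_le_of_card_ge hQ (by rw [sylow_card hn1 hF Q, hR])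
  let e₂ := MulEquiv.subgroupCongr hRQ
  let e₃ := Sylow.equiv Q S
  let e := e₁.trans (e₂.trans e₃)
  refine ⟨hScard, ?_, suzuki_transfer e (suzuki_par hn hF h2)⟩
  exact (Nat.card_congr (Subgroup.centerCongr e).toEquiv).symm.trans card_center

end final

end Cfsg.Agent.S1141
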