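import Cfsg.Statements.S4219
-- import your own Cfsg.Agent.* helpers here
import Mathlib

set_option autoImplicit false
open Cfsg
open scoped Pointwise

namespace Cfsg.Agent.S4219

/-- Two subgroups of `H` of full `p`-power order are conjugate under `H`. -/
theorem exists_conj_of_card {G : Type*} [Group G] [Finite G] {p : ℕ} [Fact p.Prime]
    (H Q R : Subgroup G) (hQ : Q ≤ H) (hR : R ≤ H)
    (cQ : Nat.card Q = p ^ (Nat.card H).factorization p)
    (cR : Nat.card R = p ^ (Nat.card H).factorization p) :
    ∃ k ∈ H, ∀ n ∈ R, k * n * k⁻¹ ∈ Q := by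
  have c1 : Nat.card (Q.subgroupOf H) = p ^ (Nat.card H).factorization p := by
    rw [← cQ]; exact Nat.card_congr (Subgroup.subgroupOfEquivOfLe hQ).toEquiv
  have c2 : Nat.card (R.subgroupOf H) = p ^ (Nat.card H).factorization p := by
    rw [← cR]; exact Nat.card_congr (Subgroup.subgroupOfEquivOfLe hR).toEquiv
  let S1 : Sylow p H := Sylow.ofCard (Q.subgroupOf H) c1
  let S2 : Sylow p H := Sylow.ofCard (R.subgroupOf H) c2
  obtain ⟨k, hk⟩ := MulAction.exists_smul_eq H S2 S1
  refine ⟨k, k.2, ?_⟩
  intro n hn
  have hnH : n ∈ H := hR hn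
  have h1 : (⟨n, hnH⟩ : H) ∈ (S2 : Subgroup H) := by
    show (⟨n, hnH⟩ : H) ∈ R.subgroupOf H
    rw [Subgroup.mem_subgroupOf]; exact hn
  have h2 : MulAut.conj k • (⟨n, hnH⟩ : H) ∈ MulAut.conj k • (S2 : Subgroup H) :=
    Subgroup.smul_mem_pointwise_smul _ _ _ h1
  have h3 : MulAut.conj k • (S2 : Subgroup H) = (S1 : Subgroup H) := by
    rw [← hk, Sylow.smul_def]; rfl
  rw [h3] at h2
  have h4 : MulAut.conj k • (⟨n, hnH⟩ : H) ∈ Q.subgroupOf H := h2
  rw [Subgroup.mem_subgroupOf] at h4
  simpa [MulAut.smul_def] using h4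

/-- Witt's lemma for a transitive action. -/
theorem witt {G : Type*} [Group G] [Finite G] {Ω : Type*} [MulAction G Ω]
    [MulAction.IsPretransitive G Ω] (x : Ω) {p : ℕ} [Fact p.Prime]
    (P : Sylow p (MulAction.stabilizer G x)) (a b : Ω)
    (ha : ∀ q ∈ (P : Subgroup (MulAction.stabilizer G x)).map (MulAction.stabilizer G x).subtype,
      q • a = a)
    (hb : ∀ q ∈ (P : Subgroup (MulAction.stabilizer G x)).map (MulAction.stabilizer G x).subtype,
      q • b = b) :
    ∃ g ∈ Subgroup.normalizer ((((P : Subgroup (MulAction.stabilizer G x)).map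
      (MulAction.stabilizer G x).subtype) : Subgroup G) : Set G), g • a = b := by
  set Q : Subgroup G :=
    (P : Subgroup (MulAction.stabilizer G x)).map (MulAction.stabilizer G x).subtype with hQdef
  have cQ : Nat.card Q = p ^ (Nat.card (MulAction.stabilizer G x)).factorization p := by
    rw [hQdef, Subgroup.card_map_of_injective (Subgroup.subtype_injective _)]
    exact P.card_eq_multiplicity
  have cstab : ∀ y : Ω, Nat.card (MulAction.stabilizer G y) =
      Nat.card (MulAction.stabilizer G x) := by
    intro y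
    obtain ⟨g, rfl⟩ := MulAction.exists_smul_eq G x y
    rw [MulAction.stabilizer_smul_eq_stabilizer_map_conj,
      Subgroup.card_map_of_injective (MulAut.conj g).injective]
  obtain ⟨h, hh⟩ := MulAction.exists_smul_eq G a b
  have hQb : Q ≤ MulAction.stabilizer G b := fun q hq => MulAction.mem_stabilizer_iff.mpr (hb q hq)
  set R : Subgroup G := Q.map (MulAut.conj h).toMonoidHom with hRdef
  have cR : Nat.card R = Nat.card Q :=
    Subgroup.card_map_of_injective (MulAut.conj h).injective
  have hRb : R ≤ MulAction.stabilizer G b := by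
    rintro r ⟨q, hq, rfl⟩
    rw [MulAction.mem_stabilizer_iff]
    show (h * q * h⁻¹) • b = b
    rw [← hh, mul_smul, mul_smul, inv_smul_smul, ha q hq]
  obtain ⟨k, hkb, hk⟩ := exists_conj_of_card (p := p) (MulAction.stabilizer G b) Q R hQb hRb
    (by rw [cQ, cstab b]) (by rw [cR, cQ, cstab b])
  refine ⟨k * h, ?_, ?_⟩
  · apply Subgroup.mem_normalizer_fintype
    intro n hn
    have hn' : n ∈ Q := hn
    have : h * n * h⁻¹ ∈ R := ⟨n, hn', rfl⟩
    have h2 := hk _ this
    have e : k * h * n * (k * h)⁻¹ = k * (h * n * h⁻¹) * k⁻¹ := by group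
    rw [e]
    exact h2
  · rw [mul_smul, hh]
    exact MulAction.mem_stabilizer_iff.mp hkb

/-- Let a finite group `G` act `t`-fold transitively on a finite set, let `H` be the stabilizer of `t` distinct points and `P` a Sylow `p`-subgroup of `H`. Then the normalizer of `P` in `G` is `t`-fold transitive on the fixed points of `P`: any `t` distinct fixed points of `P` can be carried to any other `t` distinct fixed points of `P` by an element normalizing `P`. -/
theorem result {G : Type*} [Group G] [Finite G] {α : Type*} [Fintype α] [MulAction G α] {t : ℕ} (hG : MulAction.IsMultiplyPretransitive G α t) (x : Fin t ↪ α) {p : ℕ} [Fact p.Prime] (P : Sylow p (MulAction.stabilizer G x)) (a b : Fin t ↪ α) (ha : ∀ i, a i ∈ MulAction.fixedPoints ((P : Subgroup (MulAction.stabilizer G x)).map (MulAction.stabilizer G x).subtype) α) (hb : ∀ i, b i ∈ MulAction.fixedPoints ((P : Subgroup (MulAction.stabilizer G x)).map (MulAction.stabilizer G x).subtype) α) : ∃ g ∈ Subgroup.normalizer ((((P : Subgroup (MulAction.stabilizer G x)).map (MulAction.stabilizer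 G x).subtype) : Subgroup G) : Set G), g • a = b := by
  have : MulAction.IsPretransitive G (Fin t ↪ α) := hG
  apply witt x P a b
  · intro q hq
    ext i
    have := ha i
    rw [MulAction.mem_fixedPoints] at this
    exact this ⟨q, hq⟩
  · intro q hq
    ext i
    have := hb i
    rw [MulAction.mem_fixedPoints] at this
    exact this ⟨q, hq⟩

end Cfsg.Agent.S4219
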