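import Mathlib
import Cfsg.Statements.S0711

set_option autoImplicit false
open Cfsg

namespace Cfsg.Agent.S0711

open Equiv Equiv.Perm MulAction

variable {α : Type*} [Fintype α] [DecidableEq α]

omit [DecidableEq α] in
/-- In a `k`-transitive group, one can fix `k - 1` points and move one further point anywhere. -/
theorem exists_fixing (G : Subgroup (Perm α)) {k : ℕ} (hkn : k ≤ Fintype.card α)
    (hG : IsMultiplyPretransitive G α k) (T : Finset α) (hT : T.card + 1 ≤ k) {u v : α}
    (hu : u ∉ T) (hv : v ∉ T) : ∃ x ∈ G, (∀ a ∈ T, x a = a) ∧ x u = v := by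
  have h1 : IsMultiplyPretransitive (fixingSubgroup G (T : Set α))
      (SubMulAction.ofFixingSubgroup G (T : Set α)) 1 :=
    SubMulAction.ofFixingSubgroup.isMultiplyPretransitive' (n := k) (T : Set α)
      (by rw [Set.ncard_coe_finset]; exact hT)
      (by rw [ENat.card_eq_coe_fintype_card]; exact_mod_cast hkn)
  rw [is_one_pretransitive_iff] at h1
  obtain ⟨x, hx⟩ := h1.exists_smul_eq
    (⟨u, by rw [SubMulAction.mem_ofFixingSubgroup_iff]; exact_mod_cast hu⟩ :
      SubMulAction.ofFixingSubgroup G (T : Set α))
    ⟨v, by rw [SubMulAction.mem_ofFixingSubgroup_iff]; exact_mod_cast hv⟩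
  refine ⟨x.1.1, x.1.2, fun a ha => ?_, ?_⟩
  · have := (mem_fixingSubgroup_iff G).mp x.2 a (by exact_mod_cast ha)
    exact this
  · exact congrArg Subtype.val hx

/-- Subsets of the support with at most one point mapped outside. -/
theorem exists_good_subset (g : Perm α) (t : ℕ) (ht : t ≤ g.support.card) :
    ∃ T ⊆ g.support, T.card = t ∧ (T.filter (fun a => g a ∉ T)).card ≤ 1 := by
  induction t with
  | zero => exact ⟨∅, by simp, by simp, by simp⟩
  | succ t ih =>
    obtain ⟨T, hTS, hTc, hB⟩ := ih (by omega)
    by_cases hB0 : (T.filter (fun a => g a ∉ T)) = ∅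
    · obtain ⟨u, hu⟩ : (g.support \ T).Nonempty := by
        rw [← Finset.card_pos, Finset.card_sdiff_of_subset hTS]; omega
      obtain ⟨huS, huT⟩ := Finset.mem_sdiff.mp hu
      refine ⟨insert u T, Finset.insert_subset huS hTS, ?_, ?_⟩
      · rw [Finset.card_insert_of_notMem huT, hTc]
      · have hsub : (insert u T).filter (fun a => g a ∉ insert u T) ⊆ {u} := by
          intro a ha
          rw [Finset.mem_filter, Finset.mem_insert] at ha
          rw [Finset.mem_singleton]
          rcases ha.1 with rfl | haT
          · rfl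
          · exfalso
            have : a ∈ T.filter (fun a => g a ∉ T) :=
              Finset.mem_filter.mpr ⟨haT, fun h => ha.2 (Finset.mem_insert_of_mem h)⟩
            rw [hB0] at this
            exact Finset.notMem_empty _ this
        exact (Finset.card_le_card hsub).trans (by simp)
    · obtain ⟨w, hw⟩ := Finset.nonempty_iff_ne_empty.mpr hB0
      have hwT : w ∈ T := (Finset.mem_filter.mp hw).1
      have hgwT : g w ∉ T := (Finset.mem_filter.mp hw).2
      have hgwS : g w ∈ g.support := apply_mem_support.mpr (hTS hwT)
      have hBw : ∀ a ∈ T.filter (fun a => g a ∉ T), a = w := fun a ha =>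
        Finset.card_le_one.mp hB a ha w hw
      refine ⟨insert (g w) T, Finset.insert_subset hgwS hTS, ?_, ?_⟩
      · rw [Finset.card_insert_of_notMem hgwT, hTc]
      · have hsub : (insert (g w) T).filter (fun a => g a ∉ insert (g w) T) ⊆ {g w} := by
          intro a ha
          rw [Finset.mem_filter, Finset.mem_insert] at ha
          rw [Finset.mem_singleton]
          rcases ha.1 with h0 | haT
          · exact h0
          · exfalso
            have h1 : a ∈ T.filter (fun a => g a ∉ T) :=
              Finset.mem_filter.mpr ⟨haT, fun h => ha.2 (Finset.mem_insert_of_mem h)⟩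
            have h2 := hBw a h1
            subst h2
            exact ha.2 (Finset.mem_insert_self _ _)
        exact (Finset.card_le_card hsub).trans (by simp)

omit [Fintype α] [DecidableEq α] in
theorem apply_inv_self' (x : Perm α) (a : α) : x (x⁻¹ a) = a := by simp

omit [Fintype α] [DecidableEq α] in
theorem inv_apply_self' (x : Perm α) (a : α) : x⁻¹ (x a) = a := by simp

/-- Support of the commutator `g⁻¹ * (x g x⁻¹)` when `x` fixes `T` pointwise. -/
theorem support_comm_subset (g x : Perm α) (T : Finset α) (hx : ∀ a ∈ T, x a = a) :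
    (g⁻¹ * (x * g * x⁻¹)).support ⊆
      (g.support \ T.filter (fun a => g a ∈ T)) ∪ (g.support \ T).image x := by
  intro a ha
  rw [mem_support] at ha
  by_contra hcon
  rw [Finset.mem_union, not_or] at hcon
  obtain ⟨h1, h2⟩ := hcon
  apply ha
  simp only [Perm.mul_apply]
  by_cases hga : g a = a
  · have hb : g (x⁻¹ a) = x⁻¹ a := by
      by_contra hne
      by_cases hbT : x⁻¹ a ∈ T
      · have h3 := hx _ hbT
        rw [apply_inv_self'] at h3
        rw [← h3] at hne
        exact hne hga
      · exact h2 (Finset.mem_image.mpr ⟨x⁻¹ a,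
          Finset.mem_sdiff.mpr ⟨mem_support.mpr hne, hbT⟩, apply_inv_self' x a⟩)
    rw [hb, apply_inv_self', Perm.inv_eq_iff_eq, hga]
  · have haT0 : a ∈ T.filter (fun a => g a ∈ T) := by
      by_contra h
      exact h1 (Finset.mem_sdiff.mpr ⟨mem_support.mpr hga, h⟩)
    obtain ⟨haT, hgaT⟩ := Finset.mem_filter.mp haT0
    have h3 : x⁻¹ a = a := by rw [Perm.inv_eq_iff_eq, hx a haT]
    rw [h3, hx _ hgaT, inv_apply_self']

theorem exists_smaller (G : Subgroup (Perm α)) {k : ℕ} (hk : 3 ≤ k) (hkn : k ≤ Fintype.card α)
    (hG : IsMultiplyPretransitive G α k) (g : Perm α) (hg : g ∈ G) (hr4 : 4 ≤ g.support.card)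
    (hsupp : g.support.card < 2 * k - 2) :
    ∃ c ∈ G, c ≠ 1 ∧ c.support.card < g.support.card := by
  by_cases hSuniv : g.support = Finset.univ
  · have hn3 : 2 < Fintype.card α := lt_of_lt_of_le hk hkn
    obtain ⟨a, b, c, hab, hac, hbc⟩ := Fintype.two_lt_card_iff.mp hn3
    obtain ⟨y, hyG, hyT, hyb⟩ := exists_fixing G hkn hG {a} (by simp; omega) (u := b) (v := c)
      (by simpa using hab.symm) (by simpa using hac.symm)
    refine ⟨y, hyG, ?_, ?_⟩
    · rintro rfl; exact hbc hyb
    · apply Finset.card_lt_card
      rw [hSuniv]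
      refine ⟨Finset.subset_univ _, fun h => ?_⟩
      have := h (Finset.mem_univ a)
      rw [mem_support] at this
      exact this (hyT a (by simp))
  · obtain ⟨ε, hε⟩ : ∃ ε, ε ∉ g.support := by
      by_contra h; push Not at h; exact hSuniv (Finset.eq_univ_iff_forall.mpr h)
    obtain ⟨T, hTS, hTc, hB⟩ := exists_good_subset g (min (k - 1) (g.support.card - 1)) (by omega)
    have hsum : (T.filter (fun a => g a ∈ T)).card + (T.filter (fun a => g a ∉ T)).card = T.card :=
      Finset.card_filter_add_card_filter_not _
    have hT₀T : T.filter (fun a => g a ∈ T) ⊆ T := Finset.filter_subset _ _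
    have hcard1 : (g.support \ T.filter (fun a => g a ∈ T)).card =
        g.support.card - (T.filter (fun a => g a ∈ T)).card :=
      Finset.card_sdiff_of_subset (hT₀T.trans hTS)
    have hcard2 : (g.support \ T).card = g.support.card - T.card := Finset.card_sdiff_of_subset hTS
    have hconj : ∀ x : Perm α, g⁻¹ * (x * g * x⁻¹) = 1 → x * g * x⁻¹ = g := by
      intro x h1
      rw [inv_mul_eq_one] at h1
      exact h1.symm
    have hmemG : ∀ x ∈ G, g⁻¹ * (x * g * x⁻¹) ∈ G := fun x hx =>
      G.mul_mem (G.inv_mem hg) (G.mul_mem (G.mul_mem hx hg) (G.inv_mem hx))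
    obtain ⟨u₀, hu₀⟩ : (g.support \ T).Nonempty := by rw [← Finset.card_pos, hcard2]; omega
    by_cases hB0 : T.filter (fun a => g a ∉ T) = ∅
    · obtain ⟨hu₀S, hu₀T⟩ := Finset.mem_sdiff.mp hu₀
      obtain ⟨x, hxG, hxT, hxu⟩ := exists_fixing G hkn hG T (by omega) hu₀T (fun h => hε (hTS h))
      refine ⟨g⁻¹ * (x * g * x⁻¹), hmemG x hxG, fun h1 => ?_, ?_⟩
      · have h2 := congrArg (fun f : Perm α => f ε) (hconj x h1)
        simp only [Perm.mul_apply] at h2
        have hxinv : x⁻¹ ε = u₀ := by rw [Perm.inv_eq_iff_eq, hxu]
        rw [hxinv, notMem_support.mp hε] at h2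
        rw [← hxu] at h2
        exact (mem_support.mp hu₀S) (x.injective h2)
      · rw [hB0, Finset.card_empty, add_zero] at hsum
        calc _ ≤ ((g.support \ T.filter (fun a => g a ∈ T)) ∪ (g.support \ T).image x).card :=
              Finset.card_le_card (support_comm_subset g x T hxT)
          _ ≤ (g.support \ T.filter (fun a => g a ∈ T)).card + ((g.support \ T).image x).card :=
              Finset.card_union_le _ _
          _ ≤ (g.support.card - T.card) + (g.support.card - T.card) := by
              rw [hcard1, hsum]
              have := Finset.card_image_le (s := g.support \ T) (f := x)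
              omega
          _ < g.support.card := by omega
    · obtain ⟨w, hw⟩ := Finset.nonempty_iff_ne_empty.mpr hB0
      have hwT : w ∈ T := (Finset.mem_filter.mp hw).1
      have hgwT : g w ∉ T := (Finset.mem_filter.mp hw).2
      have hgwS : g w ∈ g.support := apply_mem_support.mpr (hTS hwT)
      have hBcard : (T.filter (fun a => g a ∉ T)).card = 1 := by
        have := Finset.card_pos.mpr ⟨w, hw⟩; omega
      have hxinv : ∀ x : Perm α, (∀ a ∈ T, x a = a) → x⁻¹ w = w := fun x hxT => by
        rw [Perm.inv_eq_iff_eq, hxT w hwT]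
      by_cases hex : ∃ v ∈ g.support \ T, v ≠ g w
      · obtain ⟨v, hv, hvu⟩ := hex
        obtain ⟨hvS, hvT⟩ := Finset.mem_sdiff.mp hv
        obtain ⟨x, hxG, hxT, hxu⟩ := exists_fixing G hkn hG T (by omega) hgwT hvT
        refine ⟨g⁻¹ * (x * g * x⁻¹), hmemG x hxG, fun h1 => ?_, ?_⟩
        · have h2 := congrArg (fun f : Perm α => f w) (hconj x h1)
          simp only [Perm.mul_apply] at h2
          rw [hxinv x hxT, hxu] at h2
          exact hvu h2
        · have hsub : (g⁻¹ * (x * g * x⁻¹)).support ⊆
              (g.support \ T.filter (fun a => g a ∈ T)) ∪ ((g.support \ T).erase (g w)).image x := by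
            intro a ha
            rcases Finset.mem_union.mp (support_comm_subset g x T hxT ha) with h | h
            · exact Finset.mem_union_left _ h
            · obtain ⟨b, hb, rfl⟩ := Finset.mem_image.mp h
              by_cases hbu : b = g w
              · subst hbu
                rw [hxu]
                exact Finset.mem_union_left _
                  (Finset.mem_sdiff.mpr ⟨hvS, fun h => hvT (hT₀T h)⟩)
              · exact Finset.mem_union_right _
                  (Finset.mem_image_of_mem _ (Finset.mem_erase.mpr ⟨hbu, hb⟩))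
          have h2 : 1 < (g.support \ T).card :=
            Finset.one_lt_card.mpr ⟨v, hv, g w, Finset.mem_sdiff.mpr ⟨hgwS, hgwT⟩, hvu⟩
          calc _ ≤ _ := Finset.card_le_card hsub
            _ ≤ (g.support \ T.filter (fun a => g a ∈ T)).card +
                (((g.support \ T).erase (g w)).image x).card := Finset.card_union_le _ _
            _ ≤ (g.support.card - (T.filter (fun a => g a ∈ T)).card) +
                (g.support.card - T.card - 1) := by
              rw [hcard1]
              have := Finset.card_image_le (s := (g.support \ T).erase (g w)) (f := x)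
              rw [Finset.card_erase_of_mem (Finset.mem_sdiff.mpr ⟨hgwS, hgwT⟩), hcard2] at this
              omega
            _ < g.support.card := by omega
      · push Not at hex
        obtain ⟨x, hxG, hxT, hxu⟩ := exists_fixing G hkn hG T (by omega) hgwT
          (fun h => hε (hTS h))
        refine ⟨g⁻¹ * (x * g * x⁻¹), hmemG x hxG, fun h1 => ?_, ?_⟩
        · have h2 := congrArg (fun f : Perm α => f w) (hconj x h1)
          simp only [Perm.mul_apply] at h2
          rw [hxinv x hxT, hxu] at h2
          exact hε (h2 ▸ hgwS)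
        · have hST : g.support \ T = {g w} :=
            Finset.eq_singleton_iff_unique_mem.mpr ⟨Finset.mem_sdiff.mpr ⟨hgwS, hgwT⟩, hex⟩
          have h1 : (g.support \ T).card = 1 := by rw [hST]; simp
          calc _ ≤ ((g.support \ T.filter (fun a => g a ∈ T)) ∪ (g.support \ T).image x).card :=
                Finset.card_le_card (support_comm_subset g x T hxT)
            _ ≤ (g.support \ T.filter (fun a => g a ∈ T)).card + ((g.support \ T).image x).card :=
                Finset.card_union_le _ _
            _ ≤ (g.support.card - (T.filter (fun a => g a ∈ T)).card) + 1 := by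
                rw [hcard1, hST]; simp
            _ < g.support.card := by omega

/-- A `k`-transitive permutation group (`k ≥ 3`) with a non-identity element of support smaller than `2k - 2` contains a non-identity element of support at most 3, and therefore contains the alternating group. -/
theorem result {α : Type*} [Fintype α] [DecidableEq α] (G : Subgroup (Equiv.Perm α)) {k : ℕ} (hk : 3 ≤ k) (hkn : k ≤ Fintype.card α) (hG : MulAction.IsMultiplyPretransitive G α k) (g : Equiv.Perm α) (hg : g ∈ G) (hg1 : g ≠ 1) (hsupp : g.support.card < 2 * k - 2) : (∃ h : Equiv.Perm α, h ∈ G ∧ h ≠ 1 ∧ h.support.card ≤ 3) ∧ alternatingGroup α ≤ G := by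
  classical
  have hex : ∃ r, ∃ h ∈ G, h ≠ 1 ∧ h.support.card = r := ⟨_, g, hg, hg1, rfl⟩
  obtain ⟨h, hhG, hh1, hhr⟩ := Nat.find_spec hex
  have hmin : ∀ c ∈ G, c ≠ 1 → Nat.find hex ≤ c.support.card := fun c hc hc1 =>
    Nat.find_min' hex ⟨c, hc, hc1, rfl⟩
  have hle : Nat.find hex ≤ g.support.card := hmin g hg hg1
  have h3 : h.support.card ≤ 3 := by
    by_contra hcon
    push Not at hcon
    obtain ⟨c, hcG, hc1, hclt⟩ := exists_smaller G hk hkn hG h hhG (by omega) (by omega)
    have := hmin c hcG hc1
    omega
  refine ⟨⟨h, hhG, hh1, h3⟩, ?_⟩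
  have h2 : IsMultiplyPretransitive G α 2 :=
    isMultiplyPretransitive_of_le (n := k) (by omega) (by rw [Nat.card_eq_fintype_card]; exact hkn)
  have hprim : IsPreprimitive G α := isPreprimitive_of_is_two_pretransitive h2
  have hne0 : h.support.card ≠ 0 := by
    rw [Ne, Finset.card_eq_zero, support_eq_empty_iff]; exact hh1
  have hne1 := card_support_ne_one h
  rcases (by omega : h.support.card = 2 ∨ h.support.card = 3) with h2 | h3
  · have := subgroup_eq_top_of_isPreprimitive_of_isSwap_mem hprim h (card_support_eq_two.mp h2) hhG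
    rw [this]; exact le_top
  · exact alternatingGroup_le_of_isPreprimitive_of_isThreeCycle_mem hprim
      (card_support_eq_three_iff.mp h3) hhG

end Cfsg.Agent.S0711
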