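import Cfsg.Statements.S1005
import Mathlib
import Cfsg.Agent.Lib.Helper61.Model168

set_option autoImplicit false
open Cfsg

namespace Cfsg.Agent.S1005

open Cfsg.Agent.Lib.Helper61

/-- every code has order 1, 2, 3, 4 or 7 -/
theorem check_orders : (codes.all fun c => c == idc || cpow c 2 == idc || cpow c 3 == idc ||
    cpow c 4 == idc || cpow c 7 == idc) = true := by decide +kernel

theorem check_count2 : (codes.filter (qp 2)).length = 21 := by decide +kernel

theorem check_conj2 : (codes.all fun b => !(qp 2 b) ||
    codes.any fun c => cmul c w6c == cmul b c) = true := by decide +kernel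

theorem w6c_mem : w6c ∈ codes := by decide +kernel

/-- In a simple group of order 168 every element has prime-power order, namely 1, 2, 3, 4 or 7; there are exactly 21
involutions, and all involutions are conjugate. -/
theorem result {G : Type*} [Group G] [Finite G] [IsSimpleGroup G] (h : Nat.card G = 168) : (∀ g : G, orderOf g = 1 ∨ orderOf g = 2 ∨ orderOf g = 3 ∨ orderOf g = 4 ∨ orderOf g = 7) ∧ Nat.card {g : G // orderOf g = 2} = 21 ∧ ∀ s t : G, orderOf s = 2 → orderOf t = 2 → IsConj s t := by
  obtain ⟨C⟩ := exists_coding h
  have : Fact (Nat.Prime 2) := ⟨Nat.prime_two⟩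
  refine ⟨?_, ?_, ?_⟩
  · intro g
    have hall := check_orders
    rw [List.all_eq_true] at hall
    have hg := hall (C.cd g) (C.cd_mem g)
    simp only [Bool.or_eq_true, beq_iff_eq] at hg
    rw [← C.pow_eq_one_iff, ← C.pow_eq_one_iff, ← C.pow_eq_one_iff, ← C.pow_eq_one_iff,
      ← C.eq_one_iff] at hg
    rcases hg with (((hg | hg) | hg) | hg) | hg
    · left; rw [hg, orderOf_one]
    · have hd := orderOf_dvd_of_pow_eq_one hg
      rcases (Nat.dvd_prime Nat.prime_two).mp hd with h1 | h1
      · left; exact h1
      · right; left; exact h1
    · have hd := orderOf_dvd_of_pow_eq_one hg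
      rcases (Nat.dvd_prime Nat.prime_three).mp hd with h1 | h1
      · left; exact h1
      · right; right; left; exact h1
    · have hd := orderOf_dvd_of_pow_eq_one hg
      rcases dvd_four hd with h1 | h1 | h1
      · left; exact h1
      · right; left; exact h1
      · right; right; right; left; exact h1
    · have hd := orderOf_dvd_of_pow_eq_one hg
      rcases (Nat.dvd_prime (by norm_num : Nat.Prime 7)).mp hd with h1 | h1
      · left; exact h1
      · right; right; right; right; exact h1
  · rw [C.card_subtype (fun g => orderOf g = 2) (qp 2) (C.orderOf_prime_iff 2), check_count2]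
  · obtain ⟨w0, hw0⟩ := C.cd_surj w6c w6c_mem
    have key : ∀ s : G, orderOf s = 2 → IsConj w0 s := by
      intro s hs
      rw [C.isConj_iff_any, hw0]
      have hall := check_conj2
      rw [List.all_eq_true] at hall
      have h1 := hall (C.cd s) (C.cd_mem s)
      rw [(C.orderOf_prime_iff 2 s).mp hs] at h1
      simpa using h1
    intro s t hs ht
    exact (key s hs).symm.trans (key t ht)

end Cfsg.Agent.S1005
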