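import Cfsg.Statements.S1006
import Mathlib
import Cfsg.Agent.Lib.Helper61.Model168

set_option autoImplicit false
open Cfsg

namespace Cfsg.Agent.S1006

open Cfsg.Agent.Lib.Helper61

/-- the conjugacy class of a code -/
def cls (a b : ℕ) : Bool := codes.any fun c => cmul c a == cmul b c

/-- a code of order four -/
def o4c : ℕ := 1549030

/-- the code of the inverse of `sig` -/
def sig6c : ℕ := 16135238

theorem check_count3 : (codes.filter (qp 3)).length = 56 := by decide +kernel
theorem check_count4 : (codes.filter q4).length = 42 := by decide +kernel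
theorem check_count7 : (codes.filter (qp 7)).length = 48 := by decide +kernel

theorem check_conj3 : (codes.all fun b => !(qp 3 b) || cls tauc b) = true := by decide +kernel
theorem check_conj4 : (codes.all fun b => !(q4 b) || cls o4c b) = true := by decide +kernel
theorem check_conj7 : (codes.all fun b => !(qp 7 b) || (cls sigc b || cls sig6c b)) = true := by
  decide +kernel

theorem check_class_sig : (codes.filter (cls sigc)).length = 24 := by decide +kernel
theorem check_class_sig6 : (codes.filter (cls sig6c)).length = 24 := by decide +kernel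

theorem check_notconj7 : (codes.all fun a => !(qp 7 a) || !(cls a (cpow a 6))) = true := by
  decide +kernel

theorem tauc_mem : tauc ∈ codes := by decide +kernel
theorem o4c_mem : o4c ∈ codes := by decide +kernel
theorem sigc_mem : sigc ∈ codes := by decide +kernel
theorem sig6c_mem : sig6c ∈ codes := by decide +kernel

theorem isConj_iff_cls {G : Type*} [Group G] (C : Coding G) (a b : G) :
    IsConj a b ↔ cls (C.cd a) (C.cd b) = true := C.isConj_iff_any a b

/-- all elements satisfying `q` are conjugate, given a representative -/
theorem conj_of_check {G : Type*} [Group G] (C : Coding G) (q : ℕ → Bool) (r : ℕ)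
    (hr : r ∈ codes) (hcheck : (codes.all fun b => !(q b) || cls r b) = true) (s t : G)
    (hs : q (C.cd s) = true) (ht : q (C.cd t) = true) : IsConj s t := by
  obtain ⟨w0, hw0⟩ := C.cd_surj r hr
  have key : ∀ s : G, q (C.cd s) = true → IsConj w0 s := by
    intro s hs
    rw [isConj_iff_cls C, hw0]
    rw [List.all_eq_true] at hcheck
    have h1 := hcheck (C.cd s) (C.cd_mem s)
    rw [hs] at h1
    simpa using h1
  exact (key s hs).symm.trans (key t ht)

/-- In a simple group of order 168 there are 56 elements of order 3, all conjugate; 42 elements of order 4, all conjugate; and 48 elements of order 7 falling into two conjugacy classes of size 24, an element of order 7 not being conjugate to its inverse. -/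
theorem result {G : Type*} [Group G] [Finite G] [IsSimpleGroup G] (h : Nat.card G = 168) : Nat.card {g : G // orderOf g = 3} = 56 ∧ (∀ s t : G, orderOf s = 3 → orderOf t = 3 → IsConj s t) ∧ Nat.card {g : G // orderOf g = 4} = 42 ∧ (∀ s t : G, orderOf s = 4 → orderOf t = 4 → IsConj s t) ∧ Nat.card {g : G // orderOf g = 7} = 48 ∧ ∀ x : G, orderOf x = 7 → Nat.card {g : G // IsConj x g} = 24 ∧ ¬ IsConj x x⁻¹ := by
  obtain ⟨C⟩ := exists_coding h
  have : Fact (Nat.Prime 3) := ⟨Nat.prime_three⟩
  have : Fact (Nat.Prime 7) := ⟨by norm_num⟩
  refine ⟨?_, ?_, ?_, ?_, ?_, ?_⟩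
  · rw [C.card_subtype (fun g => orderOf g = 3) (qp 3) (C.orderOf_prime_iff 3), check_count3]
  · intro s t hs ht
    exact conj_of_check C (qp 3) tauc tauc_mem check_conj3 s t
      ((C.orderOf_prime_iff 3 s).mp hs) ((C.orderOf_prime_iff 3 t).mp ht)
  · rw [C.card_subtype (fun g => orderOf g = 4) q4 C.orderOf_four_iff, check_count4]
  · intro s t hs ht
    exact conj_of_check C q4 o4c o4c_mem check_conj4 s t
      ((C.orderOf_four_iff s).mp hs) ((C.orderOf_four_iff t).mp ht)
  · rw [C.card_subtype (fun g => orderOf g = 7) (qp 7) (C.orderOf_prime_iff 7), check_count7]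
  · intro x hx
    have hq := (C.orderOf_prime_iff 7 x).mp hx
    constructor
    · obtain ⟨s1, hs1⟩ := C.cd_surj sigc sigc_mem
      obtain ⟨s2, hs2⟩ := C.cd_surj sig6c sig6c_mem
      have hall := check_conj7
      rw [List.all_eq_true] at hall
      have h1 := hall (C.cd x) (C.cd_mem x)
      rw [hq] at h1
      simp only [Bool.not_true, Bool.false_or, Bool.or_eq_true] at h1
      have hcount : ∀ s : G, IsConj s x → Nat.card {g : G // IsConj x g} =
          (codes.filter (cls (C.cd s))).length := by
        intro s hsx
        rw [← C.card_subtype (fun g => IsConj s g) (cls (C.cd s)) (fun g => isConj_iff_cls C s g)]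
        apply Nat.card_congr
        exact Equiv.subtypeEquivRight (fun g =>
          ⟨fun hxg => hsx.trans hxg, fun hsg => hsx.symm.trans hsg⟩)
      rcases h1 with h1 | h1
      · rw [hcount s1 ((isConj_iff_cls C s1 x).mpr (by rw [hs1]; exact h1)), hs1, check_class_sig]
      · rw [hcount s2 ((isConj_iff_cls C s2 x).mpr (by rw [hs2]; exact h1)), hs2, check_class_sig6]
    · have hinv : x⁻¹ = x ^ 6 := by
        apply inv_eq_of_mul_eq_one_left
        rw [← pow_succ]
        show x ^ 7 = 1
        rw [← hx]
        exact pow_orderOf_eq_one x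
      rw [hinv, isConj_iff_cls C, C.cd_pow]
      have hall := check_notconj7
      rw [List.all_eq_true] at hall
      have h1 := hall (C.cd x) (C.cd_mem x)
      rw [hq] at h1
      simpa using h1

end Cfsg.Agent.S1006
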