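import Cfsg.Statements.S1007
import Mathlib
import Cfsg.Agent.Lib.Helper61.Sub168

set_option autoImplicit false
open Cfsg

namespace Cfsg.Agent.S1007

open Cfsg.Agent.Lib.Helper61

/-- the codes of the two Klein four-subgroups of the Sylow 2-subgroup `T0` -/
def K1 : List ℕ := [16434824, 14432341, 2773435, 4557812]
def K2 : List ℕ := [16434824, 14432341, 7401002, 9272641]

/-- tables of isomorphisms from the symmetric group of degree four onto the normalizers -/
def tab1 : List (ℕ × ℕ) := [(27, 4557812), (30, 8625386), (39, 11789505), (45, 3785173), (54, 13228488), (57, 1549030), (75, 11334694), (78, 14432341), (99, 5786235), (108, 7401002), (114, 9743391), (120, 15226484), (135, 6175624), (141, 1012522), (147, 10687775), (156, 15075221), (177, 2773435), (180, 7810817), (198, 9272641), (201, 4108468), (210, 13011131), (216, 6365030), (225, 1139551), (228, 16434824)]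
def tab2 : List (ℕ × ℕ) := [(27, 9272641), (30, 2337692), (39, 10985779), (45, 7960589), (54, 13727336), (57, 1549030), (75, 11109182), (78, 14432341), (99, 9977674), (108, 4557812), (114, 3507623), (120, 15744169), (135, 10282832), (141, 727804), (147, 10687775), (156, 15526021), (177, 7401002), (180, 5706211), (198, 2773435), (201, 8309777), (210, 13553218), (216, 4346846), (225, 414967), (228, 16434824)]

/-- index of a permutation of four points -/
def pidx (π : Equiv.Perm (Fin 4)) : ℕ :=
  (π 0 : ℕ) + 4 * (π 1 : ℕ) + 16 * (π 2 : ℕ) + 64 * (π 3 : ℕ)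

def kc1 (π : Equiv.Perm (Fin 4)) : ℕ := (tab1.lookup (pidx π)).getD 0
def kc2 (π : Equiv.Perm (Fin 4)) : ℕ := (tab2.lookup (pidx π)).getD 0

/-- the codes of the normalizers -/
def N1 : List ℕ := codes.filter (normChk K1)
def N2 : List ℕ := codes.filter (normChk K2)

theorem kc1_mul : ∀ a b : Equiv.Perm (Fin 4), kc1 (a * b) = cmul (kc1 a) (kc1 b) := by
  decide +kernel
theorem kc2_mul : ∀ a b : Equiv.Perm (Fin 4), kc2 (a * b) = cmul (kc2 a) (kc2 b) := by
  decide +kernel
theorem kc1_inj : Function.Injective kc1 := by decide +kernel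
theorem kc2_inj : Function.Injective kc2 := by decide +kernel
theorem kc1_mem : ∀ a : Equiv.Perm (Fin 4), kc1 a ∈ N1 := by decide +kernel
theorem kc2_mem : ∀ a : Equiv.Perm (Fin 4), kc2 a ∈ N2 := by decide +kernel
theorem kc1_surj : ∀ c ∈ N1, ∃ a : Equiv.Perm (Fin 4), kc1 a = c := by decide +kernel
theorem kc2_surj : ∀ c ∈ N2, ∃ a : Equiv.Perm (Fin 4), kc2 a = c := by decide +kernel

/-- the check characterizing codes of Klein four-subgroups -/
def kleinChk (L : List ℕ) : Bool :=
  L.contains idc && (L.all fun a => L.all fun b => L.contains (cmul a b)) &&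
    (L.all fun a => cmul a a == idc) && ((codes.filter fun c => L.contains c).length == 4)

theorem check_klein : (T0.sublists.all fun L => !(kleinChk L) || (L == K1 || L == K2)) = true := by
  decide +kernel

theorem kleinChk_K1 : kleinChk K1 = true := by decide +kernel
theorem kleinChk_K2 : kleinChk K2 = true := by decide +kernel

theorem K1_sub : ∀ a ∈ K1, a ∈ T0 := by decide +kernel
theorem K2_sub : ∀ a ∈ K2, a ∈ T0 := by decide +kernel

theorem check_nonconj12 :
    (codes.all fun c => K1.any fun a => K2.all fun b => cmul c a != cmul b c) = true := by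
  decide +kernel
theorem check_nonconj21 :
    (codes.all fun c => K2.any fun a => K1.all fun b => cmul c a != cmul b c) = true := by
  decide +kernel

theorem K1_ne_K2 : (2773435 : ℕ) ∈ K1 ∧ (2773435 : ℕ) ∉ K2 := by decide +kernel

section
variable {G : Type*} [Group G]

theorem isKleinFour_of (U : Subgroup G) (hc : Nat.card U = 4) (h2 : ∀ x ∈ U, x * x = 1) :
    IsKleinFour U := by
  refine ⟨hc, ?_⟩
  have hexp : ∀ x : U, x ^ 2 = 1 := by
    intro x
    apply Subtype.ext
    rw [pow_two]
    exact h2 x.1 x.2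
  have hdvd : Monoid.exponent U ∣ 2 := Monoid.exponent_dvd_of_forall_pow_eq_one hexp
  have hne : Monoid.exponent U ≠ 1 := by
    intro h1
    have hsub := Monoid.exp_eq_one_iff.mp h1
    have : Nat.card U ≤ 1 := Finite.card_le_one_iff_subsingleton.mpr hsub
    omega
  rcases (Nat.dvd_prime Nat.prime_two).mp hdvd with h | h
  · exact absurd h hne
  · exact h

/-- a subgroup coded by a list passing `kleinChk` is a Klein four-group -/
theorem isKleinFour_of_chk (C : Coding G) (U : Subgroup G) (L : List ℕ)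
    (hU : ∀ x, x ∈ U ↔ C.cd x ∈ L) (hchk : kleinChk L = true) : IsKleinFour U := by
  simp only [kleinChk, Bool.and_eq_true, List.all_eq_true, beq_iff_eq] at hchk
  obtain ⟨⟨⟨-, -⟩, hsq⟩, hcount⟩ := hchk
  apply isKleinFour_of
  · rw [C.card_of_codes U L hU, hcount]
  · intro x hx
    rw [C.eq_one_iff, C.cd_mul]
    exact hsq _ ((hU x).mp hx)

/-- every Klein four-subgroup of the Sylow 2-subgroup coded by `T0` is coded by `K1` or `K2` -/
theorem klein_cases (C : Coding G) (T U : Subgroup G) (hT : ∀ x, x ∈ T ↔ C.cd x ∈ T0)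
    (hUT : U ≤ T) (hU : IsKleinFour U) :
    (∀ x, x ∈ U ↔ C.cd x ∈ K1) ∨ (∀ x, x ∈ U ↔ C.cd x ∈ K2) := by
  classical
  set LU : List ℕ := T0.filter (fun c => decide (∃ x ∈ U, C.cd x = c)) with hLU
  have hmemLU : ∀ c, c ∈ LU ↔ c ∈ T0 ∧ ∃ x ∈ U, C.cd x = c := by
    intro c
    rw [hLU, List.mem_filter, decide_eq_true_iff]
  have hULU : ∀ x, x ∈ U ↔ C.cd x ∈ LU := by
    intro x
    rw [hmemLU]
    constructor
    · intro hx
      exact ⟨(hT x).mp (hUT hx), x, hx, rfl⟩
    · rintro ⟨-, y, hy, hxy⟩
      rw [← C.cd_inj hxy]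
      exact hy
  have hsubl : LU ∈ T0.sublists := by
    rw [List.mem_sublists]
    exact List.filter_sublist
  have hchk : kleinChk LU = true := by
    simp only [kleinChk, Bool.and_eq_true, List.all_eq_true, beq_iff_eq, List.contains_iff_mem]
    refine ⟨⟨⟨?_, ?_⟩, ?_⟩, ?_⟩
    · rw [← C.cd_one, ← hULU]
      exact U.one_mem
    · intro a ha b hb
      obtain ⟨-, x, hx, rfl⟩ := (hmemLU a).mp ha
      obtain ⟨-, y, hy, rfl⟩ := (hmemLU b).mp hb
      rw [← C.cd_mul, ← hULU]
      exact U.mul_mem hx hy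
    · intro a ha
      obtain ⟨-, x, hx, rfl⟩ := (hmemLU a).mp ha
      rw [← C.cd_mul, ← C.cd_one]
      congr 1
      have h2 : (⟨x, hx⟩ : U) ^ 2 = 1 := by
        rw [← hU.exponent_two]
        exact Monoid.pow_exponent_eq_one _
      have h3 := congrArg Subtype.val h2
      rw [pow_two] at h3
      exact h3
    · have h4 := C.card_of_codes U LU hULU
      rw [hU.card_four] at h4
      rw [← h4]
  have hall := check_klein
  rw [List.all_eq_true] at hall
  have h1 := hall LU hsubl
  rw [hchk] at h1
  simp only [Bool.not_true, Bool.false_or, Bool.or_eq_true, beq_iff_eq] at h1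
  rcases h1 with h1 | h1
  · left; intro x; rw [hULU, h1]
  · right; intro x; rw [hULU, h1]

end

/-- Let G be a simple group of order 168 and T a Sylow 2-subgroup. Then T contains exactly two subgroups that are Klein four-groups; they are not conjugate in G; and the normalizer of every Klein four-subgroup of G is isomorphic to the symmetric group of degree 4. -/
theorem result {G : Type*} [Group G] [Finite G] [IsSimpleGroup G] (h : Nat.card G = 168) (T : Sylow 2 G) : Nat.card {U : Subgroup G // U ≤ (T : Subgroup G) ∧ IsKleinFour ↥U} = 2 ∧ (∀ U W : Subgroup G, U ≤ (T : Subgroup G) → W ≤ (T : Subgroup G) → IsKleinFour ↥U → IsKleinFour ↥W → U ≠ W → ∀ g : G, U.map (MulAut.conj g).toMonoidHom ≠ W) ∧ ∀ U : Subgroup G, IsKleinFour ↥U → Nonempty (↥(Subgroup.normalizer (U : Set G)) ≃* Equiv.Perm (Fin 4)) := by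
  have : Fact (Nat.Prime 2) := ⟨Nat.prime_two⟩
  obtain ⟨C, hT⟩ := exists_coding_sylow2 h T
  refine ⟨?_, ?_, ?_⟩
  · -- the two Klein four-subgroups
    have hcl : ∀ L : List ℕ, kleinChk L = true →
        idc ∈ L ∧ ∀ a ∈ L, ∀ b ∈ L, cmul a b ∈ L := by
      intro L hL
      simp only [kleinChk, Bool.and_eq_true, List.all_eq_true, beq_iff_eq,
        List.contains_iff_mem] at hL
      exact ⟨hL.1.1.1, hL.1.1.2⟩
    set U1 : Subgroup G := C.sub K1 (hcl K1 kleinChk_K1).1 (hcl K1 kleinChk_K1).2 with hU1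
    set U2 : Subgroup G := C.sub K2 (hcl K2 kleinChk_K2).1 (hcl K2 kleinChk_K2).2 with hU2
    have hU1T : U1 ≤ (T : Subgroup G) := fun x hx => (hT x).mpr (K1_sub _ hx)
    have hU2T : U2 ≤ (T : Subgroup G) := fun x hx => (hT x).mpr (K2_sub _ hx)
    have hU1K : IsKleinFour U1 := isKleinFour_of_chk C U1 K1 (fun x => Iff.rfl) kleinChk_K1
    have hU2K : IsKleinFour U2 := isKleinFour_of_chk C U2 K2 (fun x => Iff.rfl) kleinChk_K2
    rw [Nat.card_eq_two_iff]
    refine ⟨⟨U1, hU1T, hU1K⟩, ⟨U2, hU2T, hU2K⟩, ?_, ?_⟩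
    · intro heq
      have h12 : U1 = U2 := congrArg Subtype.val heq
      obtain ⟨g, hg⟩ := C.cd_surj 2773435 (T0_sub' _ (K1_sub _ K1_ne_K2.1))
      have hg1 : g ∈ U1 := by
        show C.cd g ∈ K1
        rw [hg]; exact K1_ne_K2.1
      rw [h12] at hg1
      have hg2 : C.cd g ∈ K2 := hg1
      rw [hg] at hg2
      exact K1_ne_K2.2 hg2
    · rw [Set.eq_univ_iff_forall]
      rintro ⟨U, hUT, hUK⟩
      rcases klein_cases C (T : Subgroup G) U hT hUT hUK with hc | hc
      · left
        apply Subtype.ext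
        apply Subgroup.ext
        intro x
        rw [hc]; rfl
      · right
        rw [Set.mem_singleton_iff]
        apply Subtype.ext
        apply Subgroup.ext
        intro x
        rw [hc]; rfl
  · intro U W hUT hWT hUK hWK hne g hmap
    have key : ∀ (La Lb : List ℕ) (A B : Subgroup G), (∀ x, x ∈ A ↔ C.cd x ∈ La) →
        (∀ x, x ∈ B ↔ C.cd x ∈ Lb) → (∀ a ∈ La, a ∈ codes) →
        (codes.all fun c => La.any fun a => Lb.all fun b => cmul c a != cmul b c) = true →
        A.map (MulAut.conj g).toMonoidHom = B → False := by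
      intro La Lb A B hA hB hLa hchk hAB
      rw [List.all_eq_true] at hchk
      have h1 := hchk (C.cd g) (C.cd_mem g)
      rw [List.any_eq_true] at h1
      obtain ⟨a, ha, h2⟩ := h1
      rw [List.all_eq_true] at h2
      obtain ⟨x, rfl⟩ := C.cd_surj a (hLa a ha)
      have hx : x ∈ A := (hA x).mpr ha
      have hgx : g * x * g⁻¹ ∈ B := by
        rw [← hAB]
        exact ⟨x, hx, by simp [MulAut.conj_apply]⟩
      have h3 := h2 (C.cd (g * x * g⁻¹)) ((hB _).mp hgx)
      rw [bne_iff_ne] at h3
      apply h3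
      rw [← C.cd_mul, ← C.cd_mul]
      congr 1
      group
    rcases klein_cases C (T : Subgroup G) U hT hUT hUK with hc | hc <;>
      rcases klein_cases C (T : Subgroup G) W hT hWT hWK with hd | hd
    · apply hne
      apply Subgroup.ext
      intro x
      rw [hc, hd]
    · exact key K1 K2 U W hc hd (fun a ha => T0_sub' a (K1_sub a ha)) check_nonconj12 hmap
    · exact key K2 K1 U W hc hd (fun a ha => T0_sub' a (K2_sub a ha)) check_nonconj21 hmap
    · apply hne
      apply Subgroup.ext
      intro x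
      rw [hc, hd]
  · intro U hUK
    have hpg : IsPGroup 2 U := IsPGroup.of_card (n := 2) (by rw [hUK.card_four]; norm_num)
    obtain ⟨T', hUT'⟩ := hpg.exists_le_sylow
    obtain ⟨C', hT'⟩ := exists_coding_sylow2 h T'
    rcases klein_cases C' (T' : Subgroup G) U hT' hUT' hUK with hc | hc
    · have hN : ∀ x, x ∈ Subgroup.normalizer (U : Set G) ↔ C'.cd x ∈ N1 := by
        intro x
        rw [C'.mem_normalizer_iff U K1 hc (fun a ha => T0_sub' a (K1_sub a ha)), N1,
          List.mem_filter]
        exact ⟨fun hx => ⟨C'.cd_mem x, hx⟩, fun hx => hx.2⟩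
      exact C'.nonempty_mulEquiv_of_codes _ N1 hN (fun c hc => (List.mem_filter.mp hc).1) kc1
        kc1_inj kc1_mul kc1_mem kc1_surj
    · have hN : ∀ x, x ∈ Subgroup.normalizer (U : Set G) ↔ C'.cd x ∈ N2 := by
        intro x
        rw [C'.mem_normalizer_iff U K2 hc (fun a ha => T0_sub' a (K2_sub a ha)), N2,
          List.mem_filter]
        exact ⟨fun hx => ⟨C'.cd_mem x, hx⟩, fun hx => hx.2⟩
      exact C'.nonempty_mulEquiv_of_codes _ N2 hN (fun c hc => (List.mem_filter.mp hc).1) kc2
        kc2_inj kc2_mul kc2_mem kc2_surj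

end Cfsg.Agent.S1007
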