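import Cfsg.Statements.S1154
-- import your own Cfsg.Agent.* helpers here
import Cfsg.Agent.S1101
import Cfsg.Agent.Lib.Helper20.ReeCount
import Cfsg.Agent.Lib.Helper20.ReeCube

set_option autoImplicit false
open Cfsg

namespace Cfsg.Agent.S1154

open Cfsg.Lie Cfsg.Agent.Lib.Helper18 Cfsg.Agent.Lib.Helper61.ChevJ.G2Short
  Cfsg.Agent.Lib.Helper61.ChevJ.G2Char3


/-- In the small Ree group ²G₂(q), q = 3^(2m+1) with m ≥ 1, realised as G¹ inside the Chevalley group G₂ over the field with q elements (θ the 3^m-th power map), with `U¹ = G¹ ∩ U` (U the positive unipotent subgroup of the ambient G₂): `U¹` has exactly `q² - 1` elements of order 3. -/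
theorem result {K : Type*} [Field K] [Fintype K] {m : ℕ} (hm : 1 ≤ m) (hK : Fintype.card K = 3 ^ (2 * m + 1)) :
    Nat.card {u : ↥(Cfsg.Lie.chevG2.posUnipotent K ⊓ Cfsg.Lie.twistedG2 K (3 ^ m)) // orderOf u = 3} = (3 ^ (2 * m + 1)) ^ 2 - 1 := by
  haveI : CharP K 3 := Cfsg.Agent.S1101.charP_three hK
  obtain ⟨hmem, hcard⟩ := Cfsg.Agent.S1101.result hK
  have hθ : (3 : ℕ) ^ m ≠ 0 := pow_ne_zero _ (by norm_num)
  have key := Cfsg.Agent.Lib.Helper20.ReeCount.count_order_three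
    (U1 := Cfsg.Lie.chevG2.posUnipotent K ⊓ Cfsg.Lie.twistedG2 K (3 ^ m))
    (f := fun p : K × K × K => wordG hG2 (reeWordU (3 ^ m) p.1 p.2.1 p.2.2))
    (fun p => (hmem _).2 ⟨p.1, p.2.1, p.2.2, coe_wordG hG2 _⟩)
    (fun g hg => by
      obtain ⟨t, u, v, h⟩ := (hmem g).1 hg
      refine ⟨(t, u, v), ?_⟩
      apply Units.ext
      rw [h, coe_wordG])
    (by rw [hcard, hK])
    (Cfsg.Agent.Lib.Helper20.ReeCube.reeU_zero (3 ^ m) hθ)
    (fun t u v => Cfsg.Agent.Lib.Helper20.ReeCube.reeU_cube_eq_one_iff (3 ^ m) hθ t u v)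
  rw [key, hK]

end Cfsg.Agent.S1154
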