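import Mathlib
import Cfsg.Statements.S0095

set_option autoImplicit false
open Cfsg

namespace Cfsg.Agent.S0095

open scoped commutatorElement

variable {P : Type*} [Group P]

theorem comm_mul_left_aux {a b q : P} (h : a * ⁅b, q⁆ = ⁅b, q⁆ * a) :
    ⁅a * b, q⁆ = ⁅b, q⁆ * ⁅a, q⁆ := by
  have h1 : ⁅a * b, q⁆ = a * ⁅b, q⁆ * (q * a⁻¹ * q⁻¹) := by
    simp only [commutatorElement_def]; group
  rw [h1, h]; simp only [commutatorElement_def]; group

section Main

variable (hcomm : commutator P = Subgroup.center P)
include hcomm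

theorem comm_mem_center (x y : P) : ⁅x, y⁆ ∈ Subgroup.center P := by
  rw [← hcomm, commutator_def]
  exact Subgroup.commutator_mem_commutator (Subgroup.mem_top _) (Subgroup.mem_top _)

theorem comm_mul_left (a b q : P) : ⁅a * b, q⁆ = ⁅a, q⁆ * ⁅b, q⁆ := by
  have h1 := comm_mem_center hcomm b q
  have h2 := comm_mem_center hcomm a q
  rw [comm_mul_left_aux (Subgroup.mem_center_iff.mp h1 a)]
  exact Subgroup.mem_center_iff.mp h2 _

/-- the commutator map `x ↦ ⁅x, y⁆` as a homomorphism on a subgroup `A` -/
noncomputable def commHom (A : Subgroup P) (y : P) : ↥A →* P :=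
  MonoidHom.mk' (fun x => ⁅(x : P), y⁆) (by
    intro a b
    simp only [Subgroup.coe_mul]
    exact comm_mul_left hcomm a b y)

theorem card_le [Finite P] (A : Subgroup P) (y : P) :
    Nat.card A ≤ Nat.card (Subgroup.center P) *
      Nat.card ↥(A ⊓ Subgroup.centralizer ({y} : Set P)) := by
  set f := commHom hcomm A y with hf
  have hfx : ∀ a : A, f a = ⁅(a : P), y⁆ := fun a => rfl
  have hker : f.ker.map A.subtype = A ⊓ Subgroup.centralizer ({y} : Set P) := by
    ext x
    constructor
    · rintro ⟨a, ha, rfl⟩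
      rw [SetLike.mem_coe, MonoidHom.mem_ker, hfx, commutatorElement_eq_one_iff_mul_comm] at ha
      refine Subgroup.mem_inf.mpr ⟨a.2, Subgroup.mem_centralizer_iff.mpr ?_⟩
      intro g hg
      rw [Set.mem_singleton_iff] at hg
      rw [hg]; exact ha.symm
    · intro hx
      obtain ⟨hxA, hxC⟩ := Subgroup.mem_inf.mp hx
      refine ⟨⟨x, hxA⟩, ?_, rfl⟩
      rw [SetLike.mem_coe, MonoidHom.mem_ker, hfx, commutatorElement_eq_one_iff_mul_comm]
      exact ((Subgroup.mem_centralizer_iff.mp hxC) y rfl).symm
  have hrange : f.range ≤ Subgroup.center P := by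
    rintro _ ⟨a, rfl⟩
    rw [hfx]
    exact comm_mem_center hcomm _ _
  have hcard : Nat.card A = Nat.card f.ker * Nat.card f.range := by
    rw [← Subgroup.index_ker, Subgroup.card_mul_index]
  have h2 : Nat.card f.range ≤ Nat.card (Subgroup.center P) := Subgroup.card_le_of_le hrange
  have h3 : Nat.card ↥(A ⊓ Subgroup.centralizer ({y} : Set P)) = Nat.card f.ker := by
    rw [← hker]
    exact Subgroup.card_map_of_injective A.subtype_injective
  rw [hcard, h3, mul_comm]
  exact Nat.mul_le_mul_right _ h2

theorem mono [Finite P] {p : ℕ} [hp : Fact p.Prime] (hP : IsPGroup p P)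
    (hcard : Nat.card (Subgroup.center P) = p) (W W' : Subgroup P) (hWW' : W ≤ W') :
    Nat.card ↥(Subgroup.centralizer (W : Set P)) * Nat.card W ≤
      Nat.card ↥(Subgroup.centralizer (W' : Set P)) * Nat.card W' := by
  induction' hn : Nat.card W' - Nat.card W using Nat.strong_induction_on with n ih generalizing W
  by_cases hEq : W = W'
  · subst hEq; exact le_rfl
  · have hlt : W < W' := lt_of_le_of_ne hWW' hEq
    obtain ⟨y, hyW', hyW⟩ := SetLike.exists_of_lt hlt
    have hWW₁ : W ≤ W ⊔ Subgroup.zpowers y := le_sup_left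
    have hyW₁ : y ∈ W ⊔ Subgroup.zpowers y :=
      (le_sup_right : Subgroup.zpowers y ≤ W ⊔ Subgroup.zpowers y) (Subgroup.mem_zpowers y)
    have hW₁W' : W ⊔ Subgroup.zpowers y ≤ W' := sup_le hWW' (Subgroup.zpowers_le.mpr hyW')
    have hne : W ≠ W ⊔ Subgroup.zpowers y := fun he => hyW (he ▸ hyW₁)
    have hlt' : Nat.card W < Nat.card ↥(W ⊔ Subgroup.zpowers y) := by
      by_contra hcon
      exact hne (Subgroup.eq_of_le_of_card_ge hWW₁ (not_lt.mp hcon))
    have hle' : Nat.card ↥(W ⊔ Subgroup.zpowers y) ≤ Nat.card W' := Subgroup.card_le_of_le hW₁W'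
    have hcard' : p * Nat.card W ≤ Nat.card ↥(W ⊔ Subgroup.zpowers y) := by
      obtain ⟨m, hm⟩ := (hP.to_subgroup (W ⊔ Subgroup.zpowers y)).exists_card_eq
      obtain ⟨l, hl⟩ := (hP.to_subgroup W).exists_card_eq
      rw [hm, hl] at hlt' ⊢
      have hlm : l < m := (Nat.pow_lt_pow_iff_right hp.out.one_lt).mp hlt'
      rw [← pow_succ']
      exact Nat.pow_le_pow_right hp.out.pos hlm
    have hcent : Subgroup.centralizer (W : Set P) ⊓ Subgroup.centralizer ({y} : Set P) ≤
        Subgroup.centralizer ((W ⊔ Subgroup.zpowers y : Subgroup P) : Set P) := by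
      intro g hg
      obtain ⟨hgW, hgy⟩ := Subgroup.mem_inf.mp hg
      refine Subgroup.mem_centralizer_iff.mpr ?_
      have hsup : W ⊔ Subgroup.zpowers y ≤ Subgroup.centralizer ({g} : Set P) := by
        refine sup_le ?_ (Subgroup.zpowers_le.mpr ?_)
        · intro w hw
          refine Subgroup.mem_centralizer_iff.mpr ?_
          intro g' hg'
          rw [Set.mem_singleton_iff] at hg'
          rw [hg']
          exact ((Subgroup.mem_centralizer_iff.mp hgW) w hw).symm
        · refine Subgroup.mem_centralizer_iff.mpr ?_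
          intro g' hg'
          rw [Set.mem_singleton_iff] at hg'
          rw [hg']
          exact ((Subgroup.mem_centralizer_iff.mp hgy) y rfl).symm
      intro w hw
      exact ((Subgroup.mem_centralizer_iff.mp (hsup hw)) g rfl).symm
    have h1 := card_le hcomm (Subgroup.centralizer (W : Set P)) y
    rw [hcard] at h1
    have h2 := Subgroup.card_le_of_le hcent
    have h3 := ih (Nat.card W' - Nat.card ↥(W ⊔ Subgroup.zpowers y)) (by omega)
      (W ⊔ Subgroup.zpowers y) hW₁W' rfl
    calc Nat.card ↥(Subgroup.centralizer (W : Set P)) * Nat.card W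
        ≤ (p * Nat.card ↥(Subgroup.centralizer (W : Set P) ⊓
            Subgroup.centralizer ({y} : Set P))) * Nat.card W := Nat.mul_le_mul_right _ h1
      _ = Nat.card ↥(Subgroup.centralizer (W : Set P) ⊓
            Subgroup.centralizer ({y} : Set P)) * (p * Nat.card W) := by ring
      _ ≤ Nat.card ↥(Subgroup.centralizer ((W ⊔ Subgroup.zpowers y : Subgroup P) : Set P)) *
            Nat.card ↥(W ⊔ Subgroup.zpowers y) := Nat.mul_le_mul h2 hcard'
      _ ≤ _ := h3

/-- duality: for `Z(P) ≤ W`, `|C_P(W)| * |W| = p * |P|` -/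
theorem dual [Finite P] {p : ℕ} [hp : Fact p.Prime] (hP : IsPGroup p P)
    (hcard : Nat.card (Subgroup.center P) = p) (W : Subgroup P) (hZW : Subgroup.center P ≤ W) :
    Nat.card ↥(Subgroup.centralizer (W : Set P)) * Nat.card W = p * Nat.card P := by
  have h1 := mono hcomm hP hcard (Subgroup.center P) W hZW
  have h2 := mono hcomm hP hcard W ⊤ le_top
  have e1 : Subgroup.centralizer ((Subgroup.center P : Subgroup P) : Set P) = ⊤ := by
    rw [Subgroup.centralizer_eq_top_iff_subset]
  have e2 : Subgroup.centralizer (((⊤ : Subgroup P) : Subgroup P) : Set P) = Subgroup.center P := by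
    rw [Subgroup.coe_top, Subgroup.centralizer_univ]
  rw [e1, Subgroup.card_top, hcard] at h1
  rw [e2, Subgroup.card_top, hcard] at h2
  have : Nat.card P * p = p * Nat.card P := mul_comm _ _
  omega

end Main

/-- The order of an extraspecial p-group is an odd power p^(2n+1) of p with n ≥ 1. -/
theorem result {P : Type*} [Group P] [Finite P] {p : ℕ} [Fact p.Prime] (h : Cfsg.IsExtraspecial p P) : ∃ n : ℕ, 1 ≤ n ∧ Nat.card P = p ^ (2 * n + 1) := by
  obtain ⟨⟨hP, -, hcomm⟩, hcard⟩ := h
  have hp : p.Prime := Fact.out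
  -- a maximal abelian subgroup containing the centre
  have hfin : {W : Subgroup P | Subgroup.center P ≤ W ∧
      W ≤ Subgroup.centralizer (W : Set P)}.Finite := Set.toFinite _
  have hne : {W : Subgroup P | Subgroup.center P ≤ W ∧
      W ≤ Subgroup.centralizer (W : Set P)}.Nonempty := by
    refine ⟨Subgroup.center P, le_rfl, ?_⟩
    intro x hx
    refine Subgroup.mem_centralizer_iff.mpr ?_
    intro y _
    exact (Subgroup.mem_center_iff.mp hx y)
  obtain ⟨W, ⟨hZW, hWab⟩, hmax⟩ := hfin.exists_maximal hne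
  have hCW : Subgroup.centralizer (W : Set P) = W := by
    apply le_antisymm _ hWab
    intro y hy
    have hyc : Subgroup.zpowers y ≤ Subgroup.centralizer (W : Set P) :=
      Subgroup.zpowers_le.mpr hy
    have hab₁ : W ⊔ Subgroup.zpowers y ≤
        Subgroup.centralizer ((W ⊔ Subgroup.zpowers y : Subgroup P) : Set P) := by
      apply sup_le
      · rw [Subgroup.le_centralizer_iff]
        exact sup_le hWab hyc
      · rw [Subgroup.le_centralizer_iff]
        apply sup_le
        · rw [Subgroup.le_centralizer_iff]; exact hyc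
        · rw [Subgroup.zpowers_le]
          refine Subgroup.mem_centralizer_iff.mpr ?_
          rintro _ ⟨k, rfl⟩
          show y ^ k * y = y * y ^ k
          exact (Commute.zpow_self y k).eq
    have := hmax ⟨hZW.trans le_sup_left, hab₁⟩ le_sup_left
    exact this ((le_sup_right : Subgroup.zpowers y ≤ W ⊔ Subgroup.zpowers y)
      (Subgroup.mem_zpowers y))
  have hd := dual hcomm hP hcard W hZW
  rw [hCW] at hd
  obtain ⟨k, hk⟩ := (hP.to_subgroup W).exists_card_eq
  obtain ⟨m, hm⟩ := hP.exists_card_eq
  rw [hk, hm, ← pow_add, ← pow_succ'] at hd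
  have hkm : k + k = m + 1 := Nat.pow_right_injective hp.two_le hd
  -- k ≥ 1 since the centre has order p
  have hk1 : 1 ≤ k := by
    by_contra hk0
    have hk0' : k = 0 := by omega
    rw [hk0', pow_zero] at hk
    have := Subgroup.card_le_of_le hZW
    rw [hcard, hk] at this
    have := hp.two_le
    omega
  -- k ≠ 1 since P is not abelian
  have hk2 : k ≠ 1 := by
    intro hk1'
    have hm1 : m = 1 := by omega
    -- then |P| = p = |Z(P)|, so Z(P) = ⊤, P abelian, commutator trivial
    have htop : Subgroup.center P = ⊤ := by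
      apply (Subgroup.card_eq_iff_eq_top _).mp
      rw [hcard, hm, hm1, pow_one]
    have hcomm_bot : commutator P = ⊥ := by
      rw [commutator_def, Subgroup.commutator_eq_bot_iff_le_centralizer, Subgroup.coe_top,
        Subgroup.centralizer_univ, htop]
    rw [hcomm, htop] at hcomm_bot
    have : Nat.card (⊤ : Subgroup P) = 1 := by rw [hcomm_bot]; exact Subgroup.card_bot
    rw [Subgroup.card_top, hm, hm1, pow_one] at this
    have := hp.two_le
    omega
  refine ⟨k - 1, by omega, ?_⟩
  rw [hm]
  congr 1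
  omega

end Cfsg.Agent.S0095
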