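import Cfsg.Statements.S4730
-- import your own Cfsg.Agent.* helpers here
import Cfsg.Agent.Lib.Helper79.ClassCount
import Cfsg.Agent.Lib.Helper79.Integrality
import Cfsg.Agent.Lib.Helper16.BlockBasic
import Cfsg.Agent.Lib.Helper3.CharValues

set_option autoImplicit false
open Cfsg

namespace Cfsg.Agent.S4730

open Cfsg.Agent.Lib.Helper79 Cfsg.Agent.Lib.Helper16 Cfsg.Agent.Lib.Helper3

/-- Step 1: a faithful irreducible character of `p`-power degree of a group with trivial centre
vanishes at every nontrivial element whose class size is prime to `p`. -/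
theorem vanish {G : Type*} [Group G] [Finite G] (p : ℕ) [Fact p.Prime]
    (hZ : Subgroup.center G = ⊥) (χ : Cfsg.IrrCharacter G)
    (hfaith : ∀ g : G, (χ : G → ℂ) g = (χ : G → ℂ) 1 → g = 1) (n : ℕ)
    (hdeg : Cfsg.charDegree (χ : G → ℂ) = p ^ n) (z : G) (hz1 : z ≠ 1)
    (hidx : ¬ p ∣ (Subgroup.centralizer ({z} : Set G)).index) : (χ : G → ℂ) z = 0 := by
  have hp : p.Prime := Fact.out
  have hcop : Nat.Coprime (Cfsg.charDegree (χ : G → ℂ))
      (Subgroup.centralizer ({z} : Set G)).index := by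
    rw [hdeg]
    exact Nat.Coprime.pow_left n ((Nat.Prime.coprime_iff_not_dvd hp).mpr hidx)
  rcases irr_burnside_coprime χ z hcop with h | h
  · exact h
  exfalso
  obtain ⟨m, ρ, hirr, hχ⟩ := χ.2
  rw [← hχ, charDegree_of_rep ρ] at h
  have hfin : (Module.finrank ℂ (Fin m → ℂ) : ℝ) = (m : ℝ) := by simp
  obtain ⟨ω, hω⟩ := (norm_character_eq_iff ρ z).mp (by rw [hfin]; exact h)
  apply hz1
  have hzc : z ∈ Subgroup.center G := by
    rw [Subgroup.mem_center_iff]
    intro g
    have h1 : ρ (g * z) = ρ (z * g) := by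
      rw [map_mul, map_mul, hω]
      ext v
      simp
    have h2 : ρ ((g * z)⁻¹ * (z * g)) = 1 := by
      rw [map_mul, ← h1, ← map_mul, inv_mul_cancel, map_one]
    have h3 : (χ : G → ℂ) ((g * z)⁻¹ * (z * g)) = (χ : G → ℂ) 1 := by
      rw [← hχ]
      show LinearMap.trace ℂ _ (ρ ((g * z)⁻¹ * (z * g))) = LinearMap.trace ℂ _ (ρ 1)
      rw [h2, map_one ρ]
    have h4 := hfaith _ h3
    have : z * g = g * z := by
      have h5 : (g * z) * ((g * z)⁻¹ * (z * g)) = (g * z) * 1 := by rw [h4]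
      rw [mul_inv_cancel_left, mul_one] at h5
      exact h5
    exact this.symm
  rw [hZ, Subgroup.mem_bot] at hzc
  exact hzc

/-- Steps 2 and 3: if `χ` vanishes on the nontrivial elements of a `p`-subgroup `Z` of order `p ^ b`
all of whose elements have class size prime to `p`, then `p ^ b` divides the degree of every
character in the block of `χ`. -/
theorem le_factorization {G : Type*} [Group G] [Finite G] (p : ℕ) [Fact p.Prime]
    (M : Ideal Cfsg.AlgInt) (hM : Cfsg.IsPModular p M) (χ ψ : Cfsg.IrrCharacter G)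
    (hψ : ψ ∈ Cfsg.blockOf M (χ : G → ℂ)) (Z : Subgroup G) (b : ℕ) (hZcard : Nat.card Z = p ^ b)
    (hvan : ∀ z ∈ Z, z ≠ 1 → (χ : G → ℂ) z = 0)
    (hidx : ∀ z ∈ Z, ¬ p ∣ (Subgroup.centralizer ({z} : Set G)).index) :
    b ≤ (Cfsg.charDegree (ψ : G → ℂ)).factorization p := by
  classical
  have hp : p.Prime := Fact.out
  have hprime : M.IsPrime := isPModular_isPrime hM
  have hne : M ≠ ⊤ := hprime.ne_top
  have := Fintype.ofFinite Z
  set d := Cfsg.charDegree (ψ : G → ℂ) with hd
  have hψ1 : (ψ : G → ℂ) 1 = (d : ℂ) := irr_apply_one_eq_charDegree ψ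
  have hdpos : 0 < d := irr_charDegree_pos ψ
  have hd0 : (d : ℂ) ≠ 0 := by exact_mod_cast hdpos.ne'
  -- values on `Z \ {1}` lie in the local ideal after dividing by the degree
  have hmem : ∀ z ∈ Z, z ≠ 1 → MemLocalIdeal M ((ψ : G → ℂ) z / (ψ : G → ℂ) 1) := by
    intro z hz hz1
    have h1 := hψ z
    have h2 : Cfsg.centralChar (χ : G → ℂ) z = 0 := by
      unfold Cfsg.centralChar
      rw [hvan z hz hz1, mul_zero, zero_div]
    rw [h2, zero_sub, memLocalIdeal_neg_iff] at h1
    have hi := hidx z hz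
    have hi0 : ((Subgroup.centralizer ({z} : Set G)).index : ℂ) ≠ 0 := by
      have : (Subgroup.centralizer ({z} : Set G)).index ≠ 0 := fun h0 => hi (h0 ▸ dvd_zero p)
      exact_mod_cast this
    have h3 := memLocalIdeal_mul_left (memLocalRing_inv_natCast hM hi) h1
    have h4 : ((Subgroup.centralizer ({z} : Set G)).index : ℂ)⁻¹ * Cfsg.centralChar (ψ : G → ℂ) z
        = (ψ : G → ℂ) z / (ψ : G → ℂ) 1 := by
      unfold Cfsg.centralChar
      field_simp
    rwa [h4] at h3
  obtain ⟨m, hm⟩ := sum_subgroup_irr ψ Z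
  -- the sum of the normalized values is `1` modulo the local ideal
  have hsum : ∑ u : Z, (ψ : G → ℂ) (u : G) / (ψ : G → ℂ) 1
      = 1 + ∑ u ∈ (Finset.univ : Finset Z).erase 1, (ψ : G → ℂ) (u : G) / (ψ : G → ℂ) 1 := by
    rw [← Finset.add_sum_erase _ _ (Finset.mem_univ (1 : Z))]
    congr 1
    rw [Subgroup.coe_one, hψ1, div_self hd0]
  have hrest : MemLocalIdeal M
      (∑ u ∈ (Finset.univ : Finset Z).erase 1, (ψ : G → ℂ) (u : G) / (ψ : G → ℂ) 1) := by
    apply memLocalIdeal_sum
    intro u hu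
    have hu1 : u ≠ 1 := (Finset.mem_erase.mp hu).1
    exact hmem u u.2 (fun h => hu1 (Subtype.ext h))
  have hX : ¬ MemLocalIdeal M (((p ^ b * m : ℕ) : ℂ) / (d : ℂ)) := by
    intro hcon
    have e : ((p ^ b * m : ℕ) : ℂ) / (d : ℂ)
        = 1 + ∑ u ∈ (Finset.univ : Finset Z).erase 1, (ψ : G → ℂ) (u : G) / (ψ : G → ℂ) 1 := by
      rw [← hsum, ← Finset.sum_div, hm, hZcard, hψ1]
      push_cast
      rfl
    rw [e] at hcon
    apply one_not_memLocalIdeal (M := M)
    have := memLocalIdeal_sub hcon hrest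
    simpa using this
  by_contra hlt
  push Not at hlt
  apply hX
  set c := d.factorization p with hc
  set d' := d / p ^ c with hd'
  have hdd : p ^ c * d' = d := Nat.ordProj_mul_ordCompl_eq_self d p
  have hd'p : ¬ p ∣ d' := Nat.not_dvd_ordCompl hp hdpos.ne'
  have hd'0 : (d' : ℂ) ≠ 0 := by
    have : d' ≠ 0 := fun h0 => hd'p (h0 ▸ dvd_zero p)
    exact_mod_cast this
  have hp0 : (p : ℂ) ≠ 0 := by exact_mod_cast hp.pos.ne'
  have e : ((p ^ b * m : ℕ) : ℂ) / (d : ℂ)
      = (p : ℂ) * ((p ^ (b - c - 1) * m : ℕ) : ℂ) * ((d' : ℕ) : ℂ)⁻¹ := by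
    have hb : b = c + (b - c - 1) + 1 := by omega
    rw [← hdd]
    push_cast
    conv_lhs => rw [hb]
    field_simp
    ring
  rw [e]
  exact memLocalIdeal_mul_right
    (memLocalIdeal_mul_right (memLocalIdeal_p hM) (memLocalRing_natCast hne _))
    (memLocalRing_inv_natCast hM hd'p)

/-- Let p be a prime, M a maximal ideal of the algebraic integers containing p, and G a finite group with trivial centre, Sylow p-subgroup P of order p^a and centre Z(P) of order p^b. If χ is a faithful irreducible character of G whose degree is a power of p, then the p-block of χ has defect at most a − b; in particular, if P is abelian then χ lies in a block of defect zero. -/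
theorem result {G : Type*} [Group G] [Finite G] (p : ℕ) [Fact p.Prime] (M : Ideal Cfsg.AlgInt) (hM : Cfsg.IsPModular p M) (hZ : Subgroup.center G = ⊥) (P : Sylow p G) (a b : ℕ) (ha : Nat.card P = p ^ a) (hb : Nat.card (Subgroup.center ↥(P : Subgroup G)) = p ^ b) (χ : Cfsg.IrrCharacter G) (hfaith : ∀ g : G, (χ : G → ℂ) g = (χ : G → ℂ) 1 → g = 1) (n : ℕ) (hdeg : Cfsg.charDegree (χ : G → ℂ) = p ^ n) : Cfsg.blockDefect p (Cfsg.blockOf M (χ : G → ℂ)) ≤ a - b ∧ (IsMulCommutative ↥(P : Subgroup G) → Cfsg.blockDefect p (Cfsg.blockOf M (χ : G → ℂ)) = 0) := by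
  classical
  have hp : p.Prime := Fact.out
  have hprime : M.IsPrime := isPModular_isPrime hM
  have hne : M ≠ ⊤ := hprime.ne_top
  set Z : Subgroup G :=
    (Subgroup.center ↥(P : Subgroup G)).map (P : Subgroup G).subtype with hZdef
  have hZcard : Nat.card Z = p ^ b := by
    rw [hZdef, Subgroup.card_map_of_injective (Subgroup.subtype_injective _)]
    exact hb
  have hidx : ∀ z ∈ Z, ¬ p ∣ (Subgroup.centralizer ({z} : Set G)).index := by
    intro z hz
    obtain ⟨z', hz', rfl⟩ := hz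
    have hle : (P : Subgroup G) ≤ Subgroup.centralizer ({((P : Subgroup G).subtype z' : G)} : Set G) := by
      intro x hx
      rw [Subgroup.mem_centralizer_singleton_iff]
      have h1 := Subgroup.mem_center_iff.mp hz' ⟨x, hx⟩
      exact congrArg Subtype.val h1
    intro hd
    exact P.not_dvd_index (hd.trans (Subgroup.index_dvd_of_le hle))
  have hvan : ∀ z ∈ Z, z ≠ 1 → (χ : G → ℂ) z = 0 := fun z hz hz1 =>
    vanish p hZ χ hfaith n hdeg z hz1 (hidx z hz)
  have hall : ∀ ψ ∈ Cfsg.blockOf M (χ : G → ℂ),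
      b ≤ (Cfsg.charDegree (ψ : G → ℂ)).factorization p := fun ψ hψ =>
    le_factorization p M hM χ ψ hψ Z b hZcard hvan hidx
  have ha' : (Nat.card G).factorization p = a := by
    have h1 := P.card_eq_multiplicity
    rw [ha] at h1
    exact (Nat.pow_right_injective hp.two_le h1).symm
  have hsInf : b ≤ sInf ((fun χ' : Cfsg.IrrCharacter G =>
      (Cfsg.charDegree (χ' : G → ℂ)).factorization p) '' Cfsg.blockOf M (χ : G → ℂ)) := by
    have hne' : ((fun χ' : Cfsg.IrrCharacter G =>
        (Cfsg.charDegree (χ' : G → ℂ)).factorization p) '' Cfsg.blockOf M (χ : G → ℂ)).Nonempty :=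
      ⟨_, ⟨χ, self_mem_blockOf hne χ, rfl⟩⟩
    obtain ⟨ψ, hψ, hψe⟩ := Nat.sInf_mem hne'
    rw [← hψe]
    exact hall ψ hψ
  have hdef : Cfsg.blockDefect p (Cfsg.blockOf M (χ : G → ℂ)) ≤ a - b := by
    unfold Cfsg.blockDefect
    rw [ha']
    exact Nat.sub_le_sub_left hsInf a
  refine ⟨hdef, fun hcomm => ?_⟩
  have hc : Subgroup.center ↥(P : Subgroup G) = ⊤ := by
    rw [eq_top_iff]
    intro x _
    rw [Subgroup.mem_center_iff]
    intro g
    exact hcomm.is_comm.comm g x
  have hab : a = b := by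
    rw [hc, Subgroup.card_top] at hb
    have h1 : p ^ a = p ^ b := by rw [← ha, ← hb]
    exact Nat.pow_right_injective hp.two_le h1
  rw [hab, Nat.sub_self] at hdef
  exact Nat.le_zero.mp hdef

end Cfsg.Agent.S4730
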