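import Cfsg.Statements.S0626
-- import your own Cfsg.Agent.* helpers here
import Cfsg.Agent.Lib.Helper97.Ab2

set_option autoImplicit false
open Cfsg

namespace Cfsg.Agent.S0626

/-- For odd p, groups whose Sylow 2-subgroups are abelian are p-stable in the action sense. -/
theorem result {G : Type*} [Group G] [Finite G] {p : ℕ} [Fact p.Prime] (hp : p ≠ 2) (hab : ∀ T : Sylow 2 G, IsMulCommutative T) : Cfsg.IsActionPStable p G := by
  open Cfsg.Agent.Lib.Helper97 in
  exact isActionPStable_of_quadStable (quadStable_of_abelian_sylow_two hp hab)
    (quadStable_of_abelian_sylow_two hp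
      (sylow_comm_of_surjective _ (QuotientGroup.mk'_surjective _) hab))
    (fun S => quadStable_of_abelian_sylow_two hp (sylow_comm_of_subgroup _ hab))

end Cfsg.Agent.S0626
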