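import Cfsg.Statements.S4432
import Cfsg.Agent.S4723
import Cfsg.Agent.S4426
import Cfsg.Agent.S4428
import Cfsg.Agent.Lib.Helper75.IndNormal
import Cfsg.Agent.Lib.Helper77.NormalPair
import Cfsg.Agent.Lib.Helper77.PRegWeighted
import Cfsg.Agent.Lib.Helper78.WBOCor
import Cfsg.Agent.Lib.Helper79.Integrality
import Cfsg.Agent.Lib.Helper79.Schur

set_option autoImplicit false
open Cfsg

namespace Cfsg.Agent.S4432

open Cfsg.Agent.Lib Cfsg.Agent.Lib.Helper16 Cfsg.Agent.Lib.Helper77 Cfsg.Agent.Lib.Helper78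
open scoped ComplexConjugate

section General

variable {K : Type*} [Group K] [Fintype K]

open scoped Classical in
/-- The `p`-regular pairing of two functions. -/
noncomputable def W (p : ℕ) (φ θ : K → ℂ) : ℂ :=
  ∑ x ∈ Finset.univ.filter (fun x : K => ¬ p ∣ orderOf x), φ x * conj (θ x)

theorem W_sum_left (p : ℕ) {ι : Type*} (s : Finset ι) (f : ι → K → ℂ) (θ : K → ℂ) :
    W p (∑ i ∈ s, f i) θ = ∑ i ∈ s, W p (f i) θ := by
  classical
  unfold W
  rw [Finset.sum_comm]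
  refine Finset.sum_congr rfl fun x _ => ?_
  rw [Finset.sum_apply, Finset.sum_mul]

theorem W_smul_left (p : ℕ) (c : ℂ) (φ θ : K → ℂ) : W p (c • φ) θ = c * W p φ θ := by
  classical
  unfold W
  rw [Finset.mul_sum]
  refine Finset.sum_congr rfl fun x _ => ?_
  rw [Pi.smul_apply, smul_eq_mul, mul_assoc]

theorem W_conj_symm (p : ℕ) (φ θ : K → ℂ) : conj (W p φ θ) = W p θ φ := by
  classical
  unfold W
  rw [map_sum]
  refine Finset.sum_congr rfl fun x _ => ?_
  rw [map_mul, Complex.conj_conj, mul_comm]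

theorem classInner_trunc_eq_W (p : ℕ) (φ θ : K → ℂ) :
    classInner (Cfsg.Agent.S4428.trunc p 1 φ) θ = (Nat.card K : ℂ)⁻¹ * W p φ θ := by
  classical
  unfold Cfsg.Agent.S4428.trunc W
  rw [Cfsg.Agent.S4431.classInner_truncation (p := p), mul_one]

variable {p : ℕ} [Fact p.Prime] {M : Ideal AlgInt}

/-- The ratio congruence. -/
theorem ratio_congr (hM : IsPModular p M) {φ : K → ℂ} (hφ : IsClassFunction K φ)
    (hR : ∀ x : K, MemLocalRing M (φ x)) {θ θ' : IrrCharacter K}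
    (h : SameBlock M (θ : K → ℂ) (θ' : K → ℂ)) :
    MemLocalIdeal M (W p φ (θ : K → ℂ) / (θ : K → ℂ) 1 - W p φ (θ' : K → ℂ) / (θ' : K → ℂ) 1) := by
  classical
  haveI hMp : M.IsPrime := isPModular_isPrime hM
  set f : K → ℂ := fun x => φ x⁻¹ with hfdef
  have hf : IsClassFunction K f := by
    intro g x
    simp only [hfdef]
    have : (x * g * x⁻¹)⁻¹ = x * g⁻¹ * x⁻¹ := by group
    rw [this]
    exact hφ g⁻¹ x
  have hfR : ∀ x : K, MemLocalRing M (f x) := fun x => hR x⁻¹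
  have hWeq : ∀ ψ : IrrCharacter K, W p φ (ψ : K → ℂ) =
      ∑ g ∈ Finset.univ.filter (fun g : K => ¬ p ∣ orderOf g), f g * (ψ : K → ℂ) g := by
    intro ψ
    unfold W
    refine Finset.sum_bij' (fun g _ => g⁻¹) (fun g _ => g⁻¹) ?_ ?_ ?_ ?_ ?_
    · intro g hg
      simp only [Finset.mem_filter, Finset.mem_univ, true_and, orderOf_inv] at hg ⊢
      exact hg
    · intro g hg
      simp only [Finset.mem_filter, Finset.mem_univ, true_and, orderOf_inv] at hg ⊢
      exact hg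
    · intro g _
      exact inv_inv g
    · intro g _
      exact inv_inv g
    · intro g _
      simp only [hfdef, inv_inv]
      rw [irr_inv_eq_conj]
  have hz := pRegEltC_mem_centerOrder p (M := M) hf hfR
  have hcon := sameBlock_omegaHom_congr h hz
  rw [omegaHom_apply, omegaHom_apply] at hcon
  change MemLocalIdeal M (omega (θ : K → ℂ) (pRegElt p f) - omega (θ' : K → ℂ) (pRegElt p f)) at hcon
  rw [omega_pRegElt, omega_pRegElt] at hcon
  rw [hWeq θ, hWeq θ']
  exact hcon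

/-- For a height-zero character `ξ` of the block `b`, `W(ξ, ξ)/ξ(1)` is a unit of the local ring. -/
theorem unit_of_height_zero (hM : IsPModular p M) {b : Set (IrrCharacter K)} (hb : IsPBlock M b)
    {ξ : IrrCharacter K} (hξ : ξ ∈ b) (hht : blockHeight p b (ξ : K → ℂ) = 0) :
    ¬ MemLocalIdeal M (W p (ξ : K → ℂ) (ξ : K → ℂ) / (ξ : K → ℂ) 1) := by
  classical
  have hp : p.Prime := Fact.out
  have hmG : ¬ p ∣ Nat.card K / p ^ (Nat.card K).factorization p :=
    Nat.not_dvd_ordCompl hp Nat.card_pos.ne'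
  obtain ⟨n, hn1, hn0, hnv⟩ := ((Cfsg.Agent.S4426.result p M hM b hb ξ hξ).2.mp hht) ξ hξ
  rw [Cfsg.Agent.S4431.classInner_truncation (p := p)] at hn1
  have hD0 : charDegree (ξ : K → ℂ) ≠ 0 := (Helper79.irr_charDegree_pos ξ).ne'
  have hsumG : W p (ξ : K → ℂ) (ξ : K → ℂ) / (ξ : K → ℂ) 1 =
      (n : ℂ) * ((Nat.card K / p ^ (Nat.card K).factorization p : ℕ) : ℂ) /
        (charDegree (ξ : K → ℂ) : ℂ) := by
    unfold W
    rw [Helper79.irr_apply_one_eq_charDegree]
    congr 1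
    have h1 := Cfsg.Agent.S4431.ordProj_div_eq (p := p) (Nat.card K) Nat.card_pos.ne'
    have hm0 : ((Nat.card K / p ^ (Nat.card K).factorization p : ℕ) : ℂ) ≠ 0 := by
      apply Nat.cast_ne_zero.mpr
      intro h0
      apply hmG
      rw [h0]
      exact dvd_zero p
    have hG0 : (Nat.card K : ℂ) ≠ 0 := Nat.cast_ne_zero.mpr Nat.card_pos.ne'
    rw [← hn1]
    have h2 : (Nat.card K : ℂ)⁻¹ * ((p ^ (Nat.card K).factorization p : ℕ) : ℂ) =
        ((Nat.card K / p ^ (Nat.card K).factorization p : ℕ) : ℂ)⁻¹ := by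
      rw [← h1]; field_simp
    rw [h2]
    field_simp
  rw [hsumG]
  exact Cfsg.Agent.S4431.ratio_not_memLocalIdeal (M := M) hM hn0 hD0 hnv hmG

/-- **Key lemma.** -/
theorem key (hM : IsPModular p M) {b : Set (IrrCharacter K)} (hb : IsPBlock M b)
    {ξ₁ : IrrCharacter K} (hξ₁ : ξ₁ ∈ b) (hht : blockHeight p b (ξ₁ : K → ℂ) = 0)
    (X : Finset (IrrCharacter K)) (hXb : ∀ ξ' ∈ X, ξ' ∈ b)
    (hXW : ∀ ξ' ∈ X, W p (ξ' : K → ℂ) (ξ' : K → ℂ) = W p (ξ₁ : K → ℂ) (ξ₁ : K → ℂ))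
    (hX1 : ∀ ξ' ∈ X, (ξ' : K → ℂ) 1 = (ξ₁ : K → ℂ) 1) (hcard : ¬ p ∣ X.card)
    {θ : IrrCharacter K} (hθ : θ ∈ b) :
    ∑ ξ' ∈ X, W p (ξ' : K → ℂ) (θ : K → ℂ) ≠ 0 := by
  classical
  haveI hMp : M.IsPrime := isPModular_isPrime hM
  have hMt : M ≠ ⊤ := hMp.ne_top
  intro hzero
  have hsame : ∀ {α β : IrrCharacter K}, α ∈ b → β ∈ b → SameBlock M (α : K → ℂ) (β : K → ℂ) := by
    intro α β hα hβ
    rw [IsPBlock_eq_blockOf hb hβ] at hα
    exact sameBlock_symm hα
  set Φ : K → ℂ := ∑ ξ' ∈ X, (ξ' : K → ℂ) with hΦ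
  have hΦcl : IsClassFunction K Φ := by
    intro g x
    simp only [hΦ, Finset.sum_apply]
    refine Finset.sum_congr rfl fun ξ' _ => ?_
    exact irr_conj ξ' g x
  have hΦR : ∀ x : K, MemLocalRing M (Φ x) := by
    intro x
    simp only [hΦ, Finset.sum_apply]
    apply memLocalRing_sum
    intro ξ' _
    exact memLocalRing_of_isIntegral hMt (Helper79.isIntegral_irr ξ' x)
  have h1 := ratio_congr (p := p) hM hΦcl hΦR (hsame hθ hξ₁)
  have hWΦθ : W p Φ (θ : K → ℂ) = 0 := by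
    rw [hΦ, W_sum_left]; exact hzero
  rw [hWΦθ, zero_div, zero_sub, memLocalIdeal_neg_iff] at h1
  -- each term
  set u : ℂ := W p (ξ₁ : K → ℂ) (ξ₁ : K → ℂ) / (ξ₁ : K → ℂ) 1 with hu
  have h2 : MemLocalIdeal M (W p Φ (ξ₁ : K → ℂ) / (ξ₁ : K → ℂ) 1 - (X.card : ℂ) * u) := by
    rw [hΦ, W_sum_left, Finset.sum_div]
    have : (X.card : ℂ) * u = ∑ _ξ' ∈ X, u := by
      rw [Finset.sum_const, nsmul_eq_mul]
    rw [this, ← Finset.sum_sub_distrib]
    apply memLocalIdeal_sum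
    intro ξ' hξ'
    have hcl : IsClassFunction K (ξ' : K → ℂ) := fun g x => irr_conj ξ' g x
    have hR : ∀ x : K, MemLocalRing M ((ξ' : K → ℂ) x) := fun x =>
      memLocalRing_of_isIntegral hMt (Helper79.isIntegral_irr ξ' x)
    have h3 := ratio_congr (p := p) hM hcl hR (hsame hξ₁ (hXb ξ' hξ'))
    rw [hXW ξ' hξ', hX1 ξ' hξ'] at h3
    exact h3
  have h3 : MemLocalIdeal M ((X.card : ℂ) * u) := by
    have := memLocalIdeal_sub h1 h2
    rwa [sub_sub_cancel] at this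
  have hinv := memLocalRing_inv_natCast hM hcard
  have h4 := memLocalIdeal_mul_left hinv h3
  have hc0 : (X.card : ℂ) ≠ 0 := by
    apply Nat.cast_ne_zero.mpr
    intro h0
    apply hcard
    rw [h0]
    exact dvd_zero p
  rw [← mul_assoc, inv_mul_cancel₀ hc0, one_mul] at h4
  exact unit_of_height_zero hM hb hξ₁ hht h4

end General

section Normal

open Cfsg.Agent.Lib.Helper75

variable {G : Type*} [Group G] [Fintype G] (N : Subgroup G) [hN : N.Normal] [Fintype N]

omit [Fintype G] in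
theorem W_conjFun (p : ℕ) (g : G) (φ θ : N → ℂ) :
    W p (Helper75.conjFun N g φ) (Helper75.conjFun N g θ) = W p φ θ := by
  classical
  unfold W
  rw [Finset.sum_filter, Finset.sum_filter]
  apply Fintype.sum_equiv (MulAut.conjNormal (H := N) g).toEquiv
  intro n
  have ho : orderOf ((MulAut.conjNormal (H := N) g).toEquiv n) = orderOf n :=
    MulEquiv.orderOf_eq (MulAut.conjNormal (H := N) g) n
  rw [ho]
  rfl

/-- The sum of the pairings of all conjugates. -/
noncomputable def PiSum (p : ℕ) (θ θ' : N → ℂ) : ℂ := ∑ g : G, W p (Helper75.conjFun N g θ) θ'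

theorem PiSum_symm (p : ℕ) (θ θ' : N → ℂ) : conj (PiSum N p θ θ') = PiSum N p θ' θ := by
  classical
  unfold PiSum
  rw [map_sum]
  apply Fintype.sum_equiv (Equiv.inv G)
  intro g
  rw [W_conj_symm, Equiv.inv_apply]
  rw [← W_conjFun N p g⁻¹ θ' (Helper75.conjFun N g θ), conjFun_inv_conjFun]

theorem PiSum_eq_orbit (p : ℕ) {θ : N → ℂ} (hθ : IsIrrCharacter N θ) (θ' : N → ℂ) :
    PiSum N p θ θ' = (Nat.card (inertia N θ) : ℂ) * ∑ φ ∈ conjOrbit N θ, W p (φ : N → ℂ) θ' := by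
  classical
  unfold PiSum
  rw [← W_sum_left, sum_conjFun_eq N hθ, W_smul_left, W_sum_left]

theorem W_res_eq (p : ℕ) (χ : IrrCharacter G) (θ : IrrCharacter N)
    (hover : classInner (fun n : N => (χ : G → ℂ) n) (θ : N → ℂ) ≠ 0) (θ' : N → ℂ) :
    W p (fun n : N => (χ : G → ℂ) n) θ' =
      classInner (fun n : N => (χ : G → ℂ) n) (θ : N → ℂ) *
        ∑ φ ∈ conjOrbit N (θ : N → ℂ), W p (φ : N → ℂ) θ' := by
  classical
  have hcl := clifford_finset N χ.2 θ.2 hover
  conv_lhs => rw [hcl]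
  rw [W_smul_left, W_sum_left]

variable {p : ℕ} [Fact p.Prime] {M : Ideal AlgInt}

/-- **Transfer lemma.** -/
theorem transfer (hM : IsPModular p M) {B : Set (IrrCharacter G)} (hB : IsPBlock M B)
    {χ : IrrCharacter G} (hχ : χ ∈ B) (θ' : IrrCharacter N)
    (hW : W p (fun n : N => (χ : G → ℂ) n) (θ' : N → ℂ) ≠ 0) :
    ∃ χ' ∈ B, classInner (fun n : N => (χ' : G → ℂ) n) (θ' : N → ℂ) ≠ 0 := by
  classical
  haveI hMp : M.IsPrime := isPModular_isPrime hM
  by_contra hcon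
  push Not at hcon
  apply hW
  set τ : G → ℂ := Cfsg.Agent.S4428.trunc p 1 (χ : G → ℂ) with hτ
  have hτcl : IsClassFunction G τ := by
    intro g x
    simp only [hτ, Cfsg.Agent.S4428.trunc]
    rw [orderOf_conj_mul_inv, irr_conj]
  have hfr := frobenius_reciprocity' N (θ' : N → ℂ) hτcl
  have hres : (fun h : N => τ h) = Cfsg.Agent.S4428.trunc p 1 (fun n : N => (χ : G → ℂ) n) := by
    funext h
    simp only [hτ, Cfsg.Agent.S4428.trunc, Subgroup.orderOf_coe]
  rw [hres, classInner_trunc_eq_W p (fun n : N => (χ : G → ℂ) n) (θ' : N → ℂ)] at hfr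
  have hzero : classInner τ (indFun N (θ' : N → ℂ)) = 0 := by
    rw [← classInner_conj_symm]
    have hexp := classFunction_eq_sum_irr (isClassFunction_indFun N (θ' : N → ℂ))
    rw [hexp, classInner_sum_left]
    rw [map_eq_zero]
    apply Finset.sum_eq_zero
    intro χ' _
    rw [classInner_smul_left]
    by_cases hχ' : χ' ∈ B
    · have h1 := hcon χ' hχ'
      have h3 : classInner (indFun N (θ' : N → ℂ)) (χ' : G → ℂ) = 0 := by
        rw [frobenius_reciprocity N (θ' : N → ℂ) (fun g x => irr_conj χ' g x),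
          ← classInner_conj_symm, h1, map_zero]
      rw [h3, zero_mul]
    · have hns : ¬ SameBlock M (χ : G → ℂ) (χ' : G → ℂ) := by
        intro hs
        apply hχ'
        rw [IsPBlock_eq_blockOf hB hχ]
        exact hs
      have h2 := Cfsg.Agent.S4428.classInner_trunc_eq_zero hM 1 χ χ' hns
      have h3 : classInner (χ' : G → ℂ) τ = 0 := by
        rw [← classInner_conj_symm, h2, map_zero]
      rw [h3, mul_zero]
  rw [hzero] at hfr
  have hN0 : (Nat.card N : ℂ)⁻¹ ≠ 0 := inv_ne_zero (Nat.cast_ne_zero.mpr Nat.card_pos.ne')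
  exact (mul_eq_zero.mp hfr.symm).resolve_left hN0

end Normal

section Main

open Cfsg.Agent.Lib.Helper75

variable {G : Type*} [Group G] [Fintype G] (N : Subgroup G) [hN : N.Normal] [Fintype N]

omit [Fintype G] [Fintype N] in
theorem conjIrrN_inv_eq_iff (g : G) (θ : IrrCharacter N) :
    conjIrrN N g⁻¹ θ = θ ↔ conjIrrN N g θ = θ := by
  constructor
  · intro h
    have := congrArg (conjIrrN N g) h
    rw [conjIrrN_conjIrrN_inv] at this
    exact this.symm
  · intro h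
    have := congrArg (conjIrrN N g⁻¹) h
    rw [conjIrrN_inv_conjIrrN] at this
    exact this.symm

/-- The stabilizer of a set of irreducible characters of `N`. -/
def stab (b : Set (IrrCharacter N)) : Subgroup G where
  carrier := {g | ∀ θ ∈ b, conjIrrN N g θ ∈ b ∧ conjIrrN N g⁻¹ θ ∈ b}
  mul_mem' := by
    intro a c ha hc θ hθ
    constructor
    · rw [← conjIrrN_conjIrrN]
      exact (hc _ (ha θ hθ).1).1
    · rw [mul_inv_rev, ← conjIrrN_conjIrrN]
      exact (ha _ (hc θ hθ).2).2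
  one_mem' := by
    intro θ hθ
    rw [inv_one, conjIrrN_one]
    exact ⟨hθ, hθ⟩
  inv_mem' := by
    intro a ha θ hθ
    rw [inv_inv]
    exact ⟨(ha θ hθ).2, (ha θ hθ).1⟩

/-- The conjugation action of `G` on `Irr(N)`. -/
@[instance_reducible]
noncomputable def conjAction : MulAction G (IrrCharacter N) where
  smul g θ := conjIrrN N g⁻¹ θ
  one_smul θ := by
    show conjIrrN N 1⁻¹ θ = θ
    rw [inv_one, conjIrrN_one]
  mul_smul g h θ := by
    show conjIrrN N (g * h)⁻¹ θ = conjIrrN N g⁻¹ (conjIrrN N h⁻¹ θ)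
    rw [conjIrrN_conjIrrN, mul_inv_rev]

/-- Orbit counting for the conjugates of `ξ₁` lying in `b`. -/
theorem card_filter_conjOrbit {M : Ideal AlgInt} [M.IsPrime] (b : Set (IrrCharacter N))
    (hb : IsPBlock M b) (ξ₁ : IrrCharacter N) (hξ₁ : ξ₁ ∈ b) (S : Subgroup G)
    (hS : ∀ g : G, g ∈ S ↔ (g ∈ stab N b ∧ conjIrrN N g ξ₁ = ξ₁)) :
    open scoped Classical in
    ((conjOrbit N (ξ₁ : N → ℂ)).filter (fun ξ' => ξ' ∈ b)).card = S.relIndex (stab N b) := by
  classical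
  letI act : MulAction G (IrrCharacter N) := conjAction N
  have hsmul : ∀ (g : G) (θ : IrrCharacter N), g • θ = conjIrrN N g⁻¹ θ := fun _ _ => rfl
  have hsame : ∀ {α β : IrrCharacter N}, α ∈ b → β ∈ b →
      SameBlock M (α : N → ℂ) (β : N → ℂ) := by
    intro α β hα hβ
    rw [IsPBlock_eq_blockOf hb hβ] at hα
    exact sameBlock_symm hα
  have hmemb : ∀ {α β : IrrCharacter N}, α ∈ b → SameBlock M (α : N → ℂ) (β : N → ℂ) → β ∈ b := by
    intro α β hα h
    rw [IsPBlock_eq_blockOf hb hα]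
    exact h
  have horb : (((conjOrbit N (ξ₁ : N → ℂ)).filter (fun ξ' => ξ' ∈ b) : Finset (IrrCharacter N)) :
      Set (IrrCharacter N)) = MulAction.orbit (stab N b) ξ₁ := by
    ext ξ'
    rw [Finset.mem_coe, Finset.mem_filter, mem_conjOrbit, MulAction.mem_orbit_iff]
    constructor
    · rintro ⟨⟨g, hg⟩, hξ'b⟩
      have hgc : conjIrrN N g ξ₁ = ξ' := Subtype.ext hg
      have hgT : g ∈ stab N b := by
        intro θ hθ
        constructor
        · have := sameBlock_conjIrrN N g (hsame hξ₁ hθ)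
          rw [hgc] at this
          exact hmemb hξ'b this
        · have := sameBlock_conjIrrN N g⁻¹ (hsame hξ'b hθ)
          rw [← hgc, conjIrrN_inv_conjIrrN] at this
          exact hmemb hξ₁ this
      refine ⟨⟨g⁻¹, (stab N b).inv_mem hgT⟩, ?_⟩
      rw [Subgroup.smul_def, hsmul]
      show conjIrrN N (g⁻¹)⁻¹ ξ₁ = ξ'
      rw [inv_inv, hgc]
    · rintro ⟨t, ht⟩
      rw [Subgroup.smul_def, hsmul] at ht
      refine ⟨⟨(t : G)⁻¹, congrArg Subtype.val ht⟩, ?_⟩
      rw [← ht]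
      exact (t.2 ξ₁ hξ₁).2
  have hstab : MulAction.stabilizer (stab N b) ξ₁ = S.subgroupOf (stab N b) := by
    ext t
    rw [MulAction.mem_stabilizer_iff, Subgroup.mem_subgroupOf, hS, Subgroup.smul_def, hsmul,
      conjIrrN_inv_eq_iff]
    constructor
    · intro h
      exact ⟨t.2, h⟩
    · intro h
      exact h.2
  rw [← Set.ncard_coe_finset, horb, ← MulAction.index_stabilizer, hstab]
  rfl

end Main

/-- Let N be a normal subgroup of the finite group G, b a block of N and B a block of G (relative to a maximal ideal M of the algebraic integers containing p) such that B covers b: some member of B has a constituent in b on restriction to N. Then every θ ∈ b is a constituent of the restriction of some χ ∈ B. -/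
theorem result {G : Type*} [Group G] [Fintype G] (p : ℕ) [Fact p.Prime] (M : Ideal Cfsg.AlgInt) (hM : Cfsg.IsPModular p M) (N : Subgroup G) [hN : N.Normal] [Fintype N] (B : Set (Cfsg.IrrCharacter G)) (hB : Cfsg.IsPBlock M B) (b : Set (Cfsg.IrrCharacter N)) (hb : Cfsg.IsPBlock M b) (hcov : (∃ χ ∈ B, ∃ θ ∈ b, Cfsg.classInner (fun n : N => (χ : G → ℂ) n) (θ : N → ℂ) ≠ 0)) (θ : Cfsg.IrrCharacter N) (hθ : θ ∈ b) : ∃ χ ∈ B, Cfsg.classInner (fun n : N => (χ : G → ℂ) n) (θ : N → ℂ) ≠ 0 := by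
  classical
  haveI hMp : M.IsPrime := isPModular_isPrime hM
  have hMt : M ≠ ⊤ := hMp.ne_top
  obtain ⟨χ₀, hχ₀, θ₀, hθ₀, hcon₀⟩ := hcov
  have hsame : ∀ {α β : IrrCharacter N}, α ∈ b → β ∈ b →
      SameBlock M (α : N → ℂ) (β : N → ℂ) := by
    intro α β hα hβ
    rw [IsPBlock_eq_blockOf hb hβ] at hα
    exact sameBlock_symm hα
  have hmemb : ∀ {α β : IrrCharacter N}, α ∈ b → SameBlock M (α : N → ℂ) (β : N → ℂ) → β ∈ b := by
    intro α β hα h
    rw [IsPBlock_eq_blockOf hb hα]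
    exact h
  -- the stabilizer
  have hT : ∀ g : G, g ∈ stab N b ↔ ∀ θ ∈ b, ∀ θ' : Cfsg.IrrCharacter ↥N,
      (∀ h h' : ↥N, (h' : G) = g * h * g⁻¹ → (θ' : ↥N → ℂ) h' = (θ : ↥N → ℂ) h) → θ' ∈ b := by
    intro g
    constructor
    · intro hg θ hθ θ' hrel
      have : θ' = conjIrrN N g⁻¹ θ := by
        apply Subtype.ext
        funext n
        rw [conjIrrN_apply]
        apply hrel
        simp [mul_assoc]
      rw [this]
      exact (hg θ hθ).2
    · intro h θ hθ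
      have h1 : conjIrrN N g⁻¹ θ ∈ b := by
        apply h θ hθ
        intro k k' hk
        rw [conjIrrN_apply]
        refine congrArg (θ : N → ℂ) (Subtype.ext ?_)
        show g⁻¹ * (k' : G) * g⁻¹⁻¹ = (k : G)
        rw [hk]
        group
      refine ⟨?_, h1⟩
      have := sameBlock_conjIrrN N g (hsame h1 hθ)
      rw [conjIrrN_conjIrrN_inv] at this
      exact hmemb hθ this
  obtain ⟨ξ₁, hξ₁, hht, S, -, hS, hidx⟩ := Cfsg.Agent.S4723.result p M hM N b hb (stab N b) hT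
  have hS' : ∀ g : G, g ∈ S ↔ (g ∈ stab N b ∧ conjIrrN N g ξ₁ = ξ₁) := by
    intro g
    rw [hS]
    apply and_congr_right
    intro _
    constructor
    · intro h
      apply Subtype.ext
      funext n
      rw [conjIrrN_apply]
      exact h n _ rfl
    · intro h k k' hk
      have := congrFun (congrArg Subtype.val h) k
      rw [conjIrrN_apply] at this
      rw [← this]
      exact congrArg (ξ₁ : N → ℂ) (Subtype.ext hk)
  set X : Finset (IrrCharacter N) :=
    (Helper75.conjOrbit N (ξ₁ : N → ℂ)).filter (fun ξ' => ξ' ∈ b) with hX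
  have hXcard : X.card = S.relIndex (stab N b) := by
    rw [hX]
    convert card_filter_conjOrbit N b hb ξ₁ hξ₁ S hS'
  have hXmem : ∀ ξ' ∈ X, ξ' ∈ b ∧ ∃ g : G, Helper75.conjFun N g (ξ₁ : N → ℂ) = (ξ' : N → ℂ) := by
    intro ξ' hξ'
    rw [hX, Finset.mem_filter, Helper75.mem_conjOrbit] at hξ'
    exact ⟨hξ'.2, hξ'.1⟩
  have hkey : ∀ θ ∈ b, ∑ ξ' ∈ X, W p (ξ' : N → ℂ) (θ : N → ℂ) ≠ 0 := by
    intro θ hθ
    refine key hM hb hξ₁ hht X (fun ξ' h => (hXmem ξ' h).1) ?_ ?_ ?_ hθ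
    · intro ξ' h
      obtain ⟨g, hg⟩ := (hXmem ξ' h).2
      rw [← hg, W_conjFun]
    · intro ξ' h
      obtain ⟨g, hg⟩ := (hXmem ξ' h).2
      rw [← hg, Helper75.conjFun_apply]
      exact congrArg (ξ₁ : N → ℂ) (Subtype.ext (by simp))
    · rw [hXcard]
      exact hidx
  have horb : ∀ θ ∈ b, ∑ φ ∈ Helper75.conjOrbit N (ξ₁ : N → ℂ), W p (φ : N → ℂ) (θ : N → ℂ) =
      ∑ ξ' ∈ X, W p (ξ' : N → ℂ) (θ : N → ℂ) := by
    intro θ hθ
    rw [hX, Finset.sum_filter]
    refine Finset.sum_congr rfl fun φ _ => ?_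
    split_ifs with h
    · rfl
    · unfold W
      apply sum_pRegular_mul_conj_eq_zero hM φ θ
      intro hs
      exact h (hmemb hθ (sameBlock_symm hs))
  have hI0 : ∀ ψ : N → ℂ, (Nat.card (Helper75.inertia N ψ) : ℂ) ≠ 0 := fun ψ =>
    Nat.cast_ne_zero.mpr Nat.card_pos.ne'
  have hPi : ∀ θ ∈ b, PiSum N p (ξ₁ : N → ℂ) (θ : N → ℂ) ≠ 0 := by
    intro θ hθ
    rw [PiSum_eq_orbit N p ξ₁.2, horb θ hθ]
    exact mul_ne_zero (hI0 _) (hkey θ hθ)
  -- step B: some member of `B` lies over `ξ₁`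
  have hB1 : ∃ χ₁ ∈ B, classInner (fun n : N => (χ₁ : G → ℂ) n) (ξ₁ : N → ℂ) ≠ 0 := by
    apply transfer N hM hB hχ₀ ξ₁
    rw [W_res_eq N p χ₀ θ₀ hcon₀]
    apply mul_ne_zero hcon₀
    have h1 := PiSum_eq_orbit N p θ₀.2 (ξ₁ : N → ℂ)
    have h2 := PiSum_symm N p (ξ₁ : N → ℂ) (θ₀ : N → ℂ)
    intro h0
    rw [h0, mul_zero] at h1
    rw [h1] at h2
    exact hPi θ₀ hθ₀ ((map_eq_zero _).mp h2)
  obtain ⟨χ₁, hχ₁, hcon₁⟩ := hB1
  -- step C
  apply transfer N hM hB hχ₁ θ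
  rw [W_res_eq N p χ₁ ξ₁ hcon₁, horb θ hθ]
  exact mul_ne_zero hcon₁ (hkey θ hθ)

end Cfsg.Agent.S4432
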