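import Cfsg.Statements.S0934
import Cfsg.Agent.Lib.Helper16.Induced

set_option autoImplicit false
open Cfsg

namespace Cfsg.Agent.S0934

open Cfsg.Agent.Lib.Helper16
open scoped ComplexConjugate

/-- Let H be a subgroup of the finite group G and fix a maximal ideal M of the algebraic integers containing the prime p. If the block b of H induces the block B of G and ξ ∈ b, then there is χ ∈ B whose restriction to H has nonzero inner product with ξ. -/
theorem result {G : Type*} [Group G] [Fintype G] (p : ℕ) [Fact p.Prime] (M : Ideal Cfsg.AlgInt) (hM : Cfsg.IsPModular p M) (H : Subgroup G) [Fintype H] (b : Set (Cfsg.IrrCharacter H)) (B : Set (Cfsg.IrrCharacter G)) (hind : Cfsg.IsInducedBlock M H b B) (ξ : Cfsg.IrrCharacter H) (hξ : ξ ∈ b) : ∃ χ ∈ B, Cfsg.classInner (fun h : H => (χ : G → ℂ) h) (ξ : H → ℂ) ≠ 0 := by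
  classical
  have hMp : M.IsPrime := isPModular_isPrime hM
  by_contra hcon
  push Not at hcon
  obtain ⟨χ₀, hχ₀⟩ := IsPBlock_nonempty hMp.ne_top hind.2.1
  have hBeq : B = blockOf M (χ₀ : G → ℂ) := IsPBlock_eq_blockOf hind.2.1 hχ₀
  have h1 := isInducedBlock_congr H hind hξ hχ₀ (blockIdem_mem (M := M) χ₀)
  rw [omegaHom_blockIdem_of_mem χ₀ (hBeq ▸ hχ₀)] at h1
  have h2 : omega (ξ : H → ℂ) (resAlg H (blockIdem M χ₀ : MonoidAlgebra ℂ G)) = 0 := by
    unfold omega
    have hsum : ∑ h : H, (resAlg H (blockIdem M χ₀ : MonoidAlgebra ℂ G)).coeff h * (ξ : H → ℂ) h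
        = 0 := by
      simp only [coeff_resAlg, coeff_blockIdem, ← hBeq, blockCoeff_eq_sum]
      simp only [mul_assoc, Finset.sum_mul]
      rw [← Finset.mul_sum, Finset.sum_comm]
      have hz : ∀ χ ∈ Finset.univ.filter (fun χ : IrrCharacter G => χ ∈ B),
          ∑ h : H, (χ : G → ℂ) 1 * (conj ((χ : G → ℂ) h) * (ξ : H → ℂ) h) = 0 := by
        intro χ hχ
        have hχB : χ ∈ B := (Finset.mem_filter.mp hχ).2
        have h3 := hcon χ hχB
        unfold classInner at h3
        have hH : (Nat.card H : ℂ) ≠ 0 := by exact_mod_cast Nat.card_pos.ne'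
        have h4 : ∑ h : H, (χ : G → ℂ) h * conj ((ξ : H → ℂ) h) = 0 := by
          rcases mul_eq_zero.mp h3 with h5 | h5
          · exact absurd (inv_eq_zero.mp h5) hH
          · exact h5
        rw [← Finset.mul_sum]
        have h6 : ∑ h : H, conj ((χ : G → ℂ) h) * (ξ : H → ℂ) h =
            conj (∑ h : H, (χ : G → ℂ) h * conj ((ξ : H → ℂ) h)) := by
          rw [map_sum]
          refine Finset.sum_congr rfl fun h _ => ?_
          rw [map_mul, Complex.conj_conj]
        rw [h6, h4, map_zero, mul_zero]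
      rw [Finset.sum_congr rfl hz, Finset.sum_const_zero, mul_zero]
    rw [hsum, zero_div]
  rw [h2, zero_sub, memLocalIdeal_neg_iff] at h1
  exact one_not_memLocalIdeal h1

end Cfsg.Agent.S0934
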