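import Cfsg.Statements.S0178
import Mathlib

set_option autoImplicit false
open Cfsg

namespace Cfsg.Agent.S0178

open Module Polynomial

theorem irr_invariant {G V : Type*} [Group G] [AddCommGroup V] [Module ℂ V]
    (ρ : Representation ℂ G V) [ρ.IsIrreducible] (W : Submodule ℂ V)
    (h : ∀ g v, v ∈ W → ρ g v ∈ W) : W = ⊥ ∨ W = ⊤ := by
  let S : Subrepresentation ρ := ⟨W, fun g v hv => h g v hv⟩
  rcases eq_bot_or_eq_top S with h1 | h1
  · left
    have := congrArg Subrepresentation.toSubmodule h1
    exact this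
  · right
    have := congrArg Subrepresentation.toSubmodule h1
    exact this

theorem irr_nontrivial {G V : Type*} [Group G] [AddCommGroup V] [Module ℂ V]
    (ρ : Representation ℂ G V) [ρ.IsIrreducible] : (⊥ : Submodule ℂ V) ≠ ⊤ := by
  intro h
  have : (⊥ : Subrepresentation ρ) ≠ ⊤ := bot_ne_top
  apply this
  apply Subrepresentation.toSubmodule_injective
  exact h

theorem finOrder_isSemisimple {V : Type*} [AddCommGroup V] [Module ℂ V] (f : Module.End ℂ V) (n : ℕ)
    (hn : 0 < n) (hf : f ^ n = 1) : f.IsSemisimple := by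
  have hsep : (X ^ n - C (1 : ℂ)).Separable :=
    separable_X_pow_sub_C (1 : ℂ) (by exact_mod_cast hn.ne') one_ne_zero
  apply Module.End.isSemisimple_of_squarefree_aeval_eq_zero hsep.squarefree
  simp [hf]

/-- common eigenvector for an abelian subgroup -/
theorem exists_common_eigenvector {G : Type*} [Group G] [Finite G] {V : Type*} [AddCommGroup V] [Module ℂ V]
    [FiniteDimensional ℂ V] (ρ : Representation ℂ G V) (hV : (⊥ : Submodule ℂ V) ≠ ⊤) (A : Subgroup G)
    (hA : ∀ a ∈ A, ∀ b ∈ A, a * b = b * a) :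
    ∃ (v : V) (χ : A → ℂ), v ≠ 0 ∧ ∀ a : A, ρ (a : G) v = χ a • v := by
  let f : A → Module.End ℂ V := fun a => ρ (a : G)
  have hmaps : ∀ i j φ, Set.MapsTo (f i) ((f j).maxGenEigenspace φ) ((f j).maxGenEigenspace φ) := by
    intro i j φ
    apply Module.End.mapsTo_maxGenEigenspace_of_comm
    show ρ (j : G) * ρ (i : G) = ρ (i : G) * ρ (j : G)
    rw [← map_mul, ← map_mul, hA _ j.2 _ i.2]
  have htop := Module.End.iSup_iInf_maxGenEigenspace_eq_top_of_forall_mapsTo f hmaps
    (fun i => Module.End.iSup_maxGenEigenspace_eq_top (f i))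
  have hex : ∃ χ : A → ℂ, (⨅ i, (f i).maxGenEigenspace (χ i)) ≠ ⊥ := by
    by_contra hcon
    simp only [not_exists, not_not] at hcon
    apply hV
    rw [← htop]
    simp [hcon]
  obtain ⟨χ, hχ⟩ := hex
  obtain ⟨v, hv, hv0⟩ := (Submodule.ne_bot_iff _).mp hχ
  refine ⟨v, χ, hv0, fun a => ?_⟩
  have hss : (f a).IsFinitelySemisimple := by
    apply Module.End.IsSemisimple.isFinitelySemisimple
    apply finOrder_isSemisimple (f a) (orderOf (a : G)) (orderOf_pos _)
    show ρ (a : G) ^ orderOf (a : G) = 1
    rw [← map_pow, pow_orderOf_eq_one, map_one]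
  have h1 : v ∈ (f a).maxGenEigenspace (χ a) := (Submodule.mem_iInf _).mp hv a
  rw [hss.maxGenEigenspace_eq_eigenspace] at h1
  exact Module.End.mem_eigenspace_iff.mp h1


/-- The degree of an irreducible complex representation of a finite group is at most the index of any abelian subgroup. -/
theorem result {G : Type*} [Group G] [Finite G] {V : Type*} [AddCommGroup V] [Module ℂ V] [FiniteDimensional ℂ V] (ρ : Representation ℂ G V) [ρ.IsIrreducible] (A : Subgroup G) (hA : ∀ a ∈ A, ∀ b ∈ A, a * b = b * a) : Module.finrank ℂ V ≤ A.index := by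
  classical
  obtain ⟨v, χ, hv0, hχ⟩ := exists_common_eigenvector ρ (irr_nontrivial ρ) A hA
  let _ : Fintype (G ⧸ A) := Fintype.ofFinite _
  let b : G ⧸ A → V := fun q => ρ (q.out) v
  let S : Submodule ℂ V := Submodule.span ℂ (Set.range b)
  have hmem : ∀ g : G, ρ g v ∈ S := by
    intro g
    obtain ⟨a, ha⟩ := QuotientGroup.mk_out_eq_mul A g
    have hg : g = (QuotientGroup.mk g : G ⧸ A).out * (a : G)⁻¹ := by rw [ha]; group
    have : ρ g v = χ a⁻¹ • b (QuotientGroup.mk g) := by
      conv_lhs => rw [hg, map_mul, Module.End.mul_apply]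
      have := hχ a⁻¹
      simp only [Subgroup.coe_inv] at this
      rw [this, map_smul]
    rw [this]
    exact S.smul_mem _ (Submodule.subset_span ⟨_, rfl⟩)
  have hinv : ∀ g w, w ∈ S → ρ g w ∈ S := by
    intro g w hw
    have : S.map (ρ g) ≤ S := by
      rw [Submodule.map_span_le]
      rintro _ ⟨q, rfl⟩
      show ρ g (ρ (q.out) v) ∈ S
      rw [← Module.End.mul_apply, ← map_mul]
      exact hmem _
    exact this (Submodule.mem_map_of_mem hw)
  have hStop : S = ⊤ := by
    rcases irr_invariant ρ S hinv with h | h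
    · exfalso
      have : v ∈ S := by
        have := hmem 1
        simpa using this
      rw [h] at this
      exact hv0 (by simpa using this)
    · exact h
  calc Module.finrank ℂ V = Module.finrank ℂ (⊤ : Submodule ℂ V) := (finrank_top ℂ V).symm
    _ = Module.finrank ℂ S := by rw [hStop]
    _ ≤ Fintype.card (G ⧸ A) := finrank_range_le_card b
    _ = A.index := by rw [Subgroup.index, Nat.card_eq_fintype_card]

end Cfsg.Agent.S0178
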