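import Cfsg.Statements.S3744
-- import your own Cfsg.Agent.* helpers here
import Cfsg.Agent.Lib.Helper1.HallDom
import Cfsg.Agent.Lib.Helper76.PCore
import Cfsg.Agent.Lib.Helper97.Cores

set_option autoImplicit false
open Cfsg

namespace Cfsg.Agent.S3744

open Pointwise
open Cfsg.Agent.Lib.Helper1

universe u

/-- A non-trivial `p`-soluble group has a non-trivial normal subgroup that is a `p`-group or a
`p'`-group. -/
lemma exists_normal_p_or_p' {G : Type*} [Group G] [Finite G] [Nontrivial G] {p : ℕ}
    [Fact p.Prime] (hG : IsPSolvable p G) :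
    ∃ M : Subgroup G, M.Normal ∧ M ≠ ⊥ ∧ (IsPGroup p M ∨ (Nat.card M).Coprime p) := by
  by_cases h : pPrimeCore p G = ⊥
  · refine ⟨pCore p G, inferInstance, ?_, Or.inl (Cfsg.Agent.Lib.Helper97.isPGroup_pCore p G)⟩
    intro hbot
    have hc := Cfsg.Agent.Lib.Helper76.centralizer_pCore_le p hG (fun N hN hcop => by
      have := Cfsg.Agent.Lib.Helper76.le_pPrimeCore p N hN hcop
      rwa [h, le_bot_iff] at this)
    rw [hbot] at hc
    have htop : (⊤ : Subgroup G) ≤ ⊥ := by
      refine le_trans ?_ hc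
      intro x _
      rw [Subgroup.mem_centralizer_iff]
      intro y hy
      have : y = 1 := by simpa using hy
      rw [this, one_mul, mul_one]
    obtain ⟨x, hx⟩ := exists_ne (1 : G)
    exact hx (Subgroup.mem_bot.mp (htop (Subgroup.mem_top x)))
  · exact ⟨pPrimeCore p G, inferInstance, h,
      Or.inr (Cfsg.Agent.Lib.Helper76.pPrimeCore_coprime p)⟩

/-- A normal subgroup of order prime to `p` lies in every `p'`-subgroup of `p`-power index. -/
lemma normal_le_of_coprime {G : Type*} [Group G] [Finite G] {p : ℕ} [Fact p.Prime]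
    {M H : Subgroup G} [M.Normal] (hM : (Nat.card M).Coprime p) (hH : (Nat.card H).Coprime p)
    {a : ℕ} (hidx : H.index = p ^ a) : M ≤ H := by
  have h1 : Nat.card (H ⊔ M : Subgroup G) ∣ Nat.card H * Nat.card M :=
    Cfsg.Agent.Lib.Helper76.card_sup_dvd_of_normal H M
  have h2 : (Nat.card (H ⊔ M : Subgroup G)).Coprime p :=
    Nat.Coprime.coprime_dvd_left h1 (Nat.Coprime.mul_left hH hM)
  have h3 : H.relIndex (H ⊔ M) ∣ p ^ a := by
    rw [← hidx]
    exact Subgroup.relIndex_dvd_index_of_le le_sup_left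
  have h4 : H.relIndex (H ⊔ M) ∣ Nat.card (H ⊔ M : Subgroup G) :=
    Subgroup.index_dvd_card _
  have h5 : H.relIndex (H ⊔ M) = 1 := by
    have hc : (Nat.card (H ⊔ M : Subgroup G)).Coprime (p ^ a) := Nat.Coprime.pow_right a h2
    exact Nat.eq_one_of_dvd_coprimes hc h4 h3
  rw [Subgroup.relIndex_eq_one] at h5
  exact le_sup_right.trans h5

lemma isSolvable_of_isPGroup {G : Type*} [Group G] [Finite G] {p : ℕ} [Fact p.Prime]
    (h : IsPGroup p G) : Group.IsSolvable G := by
  haveI : Group.IsNilpotent G := h.isNilpotent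
  infer_instance

/-- Conjugacy and dominance of `p`-complements in `p`-soluble groups. -/
theorem aux (p : ℕ) [Fact p.Prime] : ∀ (k : ℕ) (G : Type u) [Group G] [Finite G],
    IsPSolvable p G → ∀ (m a : ℕ), Nat.card G = k → k = m * p ^ a → m.Coprime p →
    (∀ H K : Subgroup G, Nat.card H = m → Nat.card K = m → ∃ g : G, MulAut.conj g • H = K) ∧
    (∀ K : Subgroup G, (Nat.card K).Coprime p → ∃ H : Subgroup G, Nat.card H = m ∧ K ≤ H) := by
  have hp : p.Prime := Fact.out
  intro k
  induction k using Nat.strong_induction_on with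
  | _ k ih =>
    intro G _ _ hG m a hk hmn hcop
    subst hk
    rcases subsingleton_or_nontrivial G with hsub | hnt
    · have h1 : Nat.card G = 1 := Nat.card_eq_one_iff_unique.mpr ⟨hsub, ⟨1⟩⟩
      rw [h1] at hmn
      have hm1 : m = 1 := Nat.eq_one_of_mul_eq_one_right hmn.symm
      refine ⟨fun H K _ _ => ⟨1, ?_⟩, fun K _ => ⟨⊥, ?_, ?_⟩⟩
      · rw [conj_one_smul]
        exact Subsingleton.elim _ _
      · rw [Subgroup.card_bot, hm1]
      · exact le_of_eq (Subsingleton.elim _ _)
    obtain ⟨M, hMn, hM1, hM⟩ := exists_normal_p_or_p' hG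
    haveI := hMn
    have hMG : Nat.card M * Nat.card (G ⧸ M) = Nat.card G := card_quotient_mul_card M
    have hlt : Nat.card (G ⧸ M) < Nat.card G := card_quotient_lt M hM1
    have hGq : IsPSolvable p (G ⧸ M) :=
      Cfsg.Agent.Lib.Helper76.IsPSolvable_of_surjective p (QuotientGroup.mk' M)
        (QuotientGroup.mk'_surjective M) hG
    let π := QuotientGroup.mk' M
    have hcopn : m.Coprime (p ^ a) := Nat.Coprime.pow_right a hcop
    rcases hM with hMp | hMp'
    · -- `M` is a `p`-group
      obtain ⟨j, hj⟩ := IsPGroup.iff_card.mp hMp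
      have hdvd : p ^ j ∣ m * p ^ a := by rw [← hmn, ← hMG, hj]; exact dvd_mul_right _ _
      have hdvd' : p ^ j ∣ p ^ a :=
        (Nat.Coprime.pow_left j hcop.symm).dvd_of_dvd_mul_left hdvd
      have hja : j ≤ a := (Nat.pow_dvd_pow_iff_le_right hp.one_lt).mp hdvd'
      obtain ⟨a', rfl⟩ := Nat.exists_eq_add_of_le hja
      have hQ : Nat.card (G ⧸ M) = m * p ^ a' := by
        have h1 : p ^ j * Nat.card (G ⧸ M) = p ^ j * (m * p ^ a') := by
          have h0 : p ^ j * Nat.card (G ⧸ M) = Nat.card G := by rw [← hj]; exact hMG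
          rw [h0, hmn, pow_add]; ring
        exact Nat.eq_of_mul_eq_mul_left (pow_pos hp.pos j) h1
      have hcopM : (Nat.card M).Coprime m := by
        rw [hj]; exact Nat.Coprime.pow_left j hcop.symm
      have hMsolv : ∀ L : Subgroup G, Group.IsSolvable (M.subgroupOf L) := fun L =>
        isSolvable_of_isPGroup (hMp.comap_subtype)
      obtain ⟨ihc, ihd⟩ := ih _ hlt (G ⧸ M) hGq m a' rfl hQ hcop
      constructor
      · intro H K hH hK
        obtain ⟨gbar, hgbar⟩ := ihc (H.map π) (K.map π)
          (by rw [card_map_mk'_of_coprime (by rw [hH]; exact hcopM), hH])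
          (by rw [card_map_mk'_of_coprime (by rw [hK]; exact hcopM), hK])
        obtain ⟨g, rfl⟩ := QuotientGroup.mk'_surjective M gbar
        have hsup := sup_eq_sup_of_map_conj_eq H K g hgbar
        set H₁ : Subgroup G := MulAut.conj g • H with hH₁def
        set L : Subgroup G := K ⊔ M with hLdef
        have hH₁L : H₁ ≤ L := by rw [← hsup]; exact le_sup_left
        have hKL : K ≤ L := le_sup_left
        have hML : M ≤ L := le_sup_right
        have hcardH₁ : Nat.card H₁ = m := by rw [hH₁def, card_conj_smul, hH]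
        have hMLn : (M.subgroupOf L).Normal := Subgroup.normal_subgroupOf
        have hc1 : Subgroup.IsComplement' (M.subgroupOf L) (H₁.subgroupOf L) :=
          isComplement'_subgroupOf_sup (by rw [hcardH₁]; exact hcopM) hsup.symm
        have hc2 : Subgroup.IsComplement' (M.subgroupOf L) (K.subgroupOf L) :=
          isComplement'_subgroupOf_sup (by rw [hK]; exact hcopM) rfl
        obtain ⟨l, hl⟩ := exists_conj_eq_of_isComplement' (M.subgroupOf L) (H₁.subgroupOf L)
          (K.subgroupOf L) hc1 hc2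
          (by rw [card_subgroupOf_of_le hML, card_subgroupOf_of_le hH₁L, hcardH₁]; exact hcopM)
          (Or.inl (hMsolv L))
        have := conj_smul_eq_of_subgroupOf hH₁L hKL l hl
        refine ⟨(l : G) * g, ?_⟩
        rw [← conj_smul_conj_smul]
        exact this
      · intro K hK
        have hKπ : K ≤ (K.map π).comap π := Subgroup.le_comap_map _ _
        obtain ⟨Hbar, hHbar, hle⟩ := ihd (K.map π)
          (Nat.Coprime.coprime_dvd_left (Subgroup.card_map_dvd K π) hK)
        set L : Subgroup G := Hbar.comap π with hL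
        have hML : M ≤ L := le_comap_mk'_of_le M Hbar
        have hKL : K ≤ L := hKπ.trans (Subgroup.comap_mono hle)
        have hcardL : Nat.card L = p ^ j * m := by rw [hL, card_comap_mk', hHbar, hj]
        have hMLn : (M.subgroupOf L).Normal := Subgroup.normal_subgroupOf
        have hcardML : Nat.card (M.subgroupOf L) = p ^ j := by
          rw [card_subgroupOf_of_le hML, hj]
        have hidx : (M.subgroupOf L).index = m := by
          have := (M.subgroupOf L).card_mul_index
          rw [hcardML, hcardL] at this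
          exact Nat.eq_of_mul_eq_mul_left (pow_pos hp.pos j) this
        have hcopL : (Nat.card (M.subgroupOf L)).Coprime (M.subgroupOf L).index := by
          rw [hcardML, hidx]
          exact Nat.Coprime.pow_left j hcop.symm
        obtain ⟨C, hC⟩ := Subgroup.exists_right_complement'_of_coprime hcopL
        have hcardC : Nat.card C = m := by rw [← hC.symm.index_eq_card, hidx]
        have hcopK : (Nat.card (M.subgroupOf L)).Coprime (Nat.card (K.subgroupOf L)) := by
          rw [hcardML, card_subgroupOf_of_le hKL]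
          exact Nat.Coprime.pow_left j hK.symm
        obtain ⟨l, hl⟩ := exists_le_conj_of_coprime (M.subgroupOf L) C (K.subgroupOf L) hC hcopK
          (hMsolv L)
        refine ⟨(MulAut.conj l • C).map L.subtype, ?_, ?_⟩
        · rw [Subgroup.card_map_of_injective L.subtype_injective, card_conj_smul, hcardC]
        · intro x hx
          exact ⟨⟨x, hKL hx⟩, hl (Subgroup.mem_subgroupOf.mpr hx), rfl⟩
    · -- `M` is a `p'`-group
      have hdvd : Nat.card M ∣ m * p ^ (a) := by rw [← hmn, ← hMG]; exact dvd_mul_right _ _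
      have hdvd' : Nat.card M ∣ m :=
        (Nat.Coprime.pow_right a hMp').dvd_of_dvd_mul_right hdvd
      obtain ⟨m', hm'⟩ := hdvd'
      have hMpos : 0 < Nat.card M := Nat.card_pos
      have hQ : Nat.card (G ⧸ M) = m' * p ^ a := by
        have h1 : Nat.card M * Nat.card (G ⧸ M) = Nat.card M * (m' * p ^ a) := by
          rw [hMG, hmn, hm', mul_assoc]
        exact Nat.eq_of_mul_eq_mul_left hMpos h1
      have hcop' : m'.Coprime p := Nat.Coprime.coprime_dvd_left ⟨Nat.card M, by rw [hm', mul_comm]⟩ hcop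
      have hidx : ∀ X : Subgroup G, Nat.card X = m → X.index = p ^ a := fun X hX =>
        index_eq_of_card_mul hmn hX
      obtain ⟨ihc, ihd⟩ := ih _ hlt (G ⧸ M) hGq m' a rfl hQ hcop'
      constructor
      · intro H K hH hK
        have hMH : M ≤ H := normal_le_of_coprime hMp' (by rw [hH]; exact hcop) (hidx H hH)
        have hMK : M ≤ K := normal_le_of_coprime hMp' (by rw [hK]; exact hcop) (hidx K hK)
        have hcard : ∀ X : Subgroup G, M ≤ X → Nat.card X = m → Nat.card (X.map π) = m' := by
          intro X hMX hX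
          have := card_eq_card_mul_card_map_of_le hMX
          rw [hX, hm'] at this
          exact (Nat.eq_of_mul_eq_mul_left hMpos this).symm
        obtain ⟨gbar, hgbar⟩ := ihc (H.map π) (K.map π) (hcard H hMH hH) (hcard K hMK hK)
        obtain ⟨g, rfl⟩ := QuotientGroup.mk'_surjective M gbar
        have hsup := sup_eq_sup_of_map_conj_eq H K g hgbar
        rw [sup_of_le_left hMK, sup_of_le_left (le_conj_smul_of_normal hMH g)] at hsup
        exact ⟨g, hsup⟩
      · intro K hK
        have hKπ : K ≤ (K.map π).comap π := Subgroup.le_comap_map _ _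
        obtain ⟨Hbar, hHbar, hle⟩ := ihd (K.map π)
          (Nat.Coprime.coprime_dvd_left (Subgroup.card_map_dvd K π) hK)
        refine ⟨Hbar.comap π, ?_, hKπ.trans (Subgroup.comap_mono hle)⟩
        rw [card_comap_mk', hHbar, hm']

theorem result {G : Type*} [Group G] [Finite G] {p : ℕ} [Fact p.Prime] (hG : Cfsg.IsPSolvable p G) : (∃ H : Subgroup G, (Nat.card H).Coprime p ∧ ∃ n : ℕ, H.index = p ^ n) ∧ (∀ H₁ H₂ : Subgroup G, (Nat.card H₁).Coprime p → (∃ n : ℕ, H₁.index = p ^ n) → (Nat.card H₂).Coprime p → (∃ n : ℕ, H₂.index = p ^ n) → ∃ g : G, H₂ = H₁.map (MulAut.conj g).toMonoidHom) ∧ (∀ U : Subgroup G, (Nat.card U).Coprime p → ∃ H : Subgroup G, (Nat.card H).Coprime p ∧ (∃ n : ℕ, H.index = p ^ n) ∧ ∃ g : G, U.map (MulAut.conj g).toMonoidHom ≤ H) := by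
  have hp : p.Prime := Fact.out
  set a : ℕ := (Nat.card G).factorization p with ha
  set m : ℕ := Nat.card G / p ^ a with hm
  have hmn : Nat.card G = m * p ^ a := by
    rw [hm, ha, mul_comm]
    exact (Nat.ordProj_mul_ordCompl_eq_self (Nat.card G) p).symm
  have hcop : m.Coprime p := (Nat.coprime_ordCompl hp Nat.card_pos.ne').symm
  obtain ⟨hconj, hdom⟩ := aux p (Nat.card G) G hG m a rfl hmn hcop
  -- conversions
  have h1 : ∀ H : Subgroup G, Nat.card H = m → (Nat.card H).Coprime p ∧ ∃ n : ℕ, H.index = p ^ n := by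
    intro H hH
    exact ⟨by rw [hH]; exact hcop, a, index_eq_of_card_mul hmn hH⟩
  have h2 : ∀ H : Subgroup G, (Nat.card H).Coprime p → (∃ n : ℕ, H.index = p ^ n) →
      Nat.card H = m := by
    rintro H hH ⟨n, hn⟩
    have hmul : Nat.card H * p ^ n = m * p ^ a := by
      rw [← hn, H.card_mul_index, hmn]
    apply Nat.dvd_antisymm
    · have : Nat.card H ∣ m * p ^ a := ⟨p ^ n, hmul.symm⟩
      exact (Nat.Coprime.pow_right a hH).dvd_of_dvd_mul_right this
    · have : m ∣ Nat.card H * p ^ n := ⟨p ^ a, hmul⟩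
      exact (Nat.Coprime.pow_right n hcop).dvd_of_dvd_mul_right this
  refine ⟨?_, ?_, ?_⟩
  · obtain ⟨H, hH, -⟩ := hdom ⊥ (by rw [Subgroup.card_bot]; exact Nat.coprime_one_left p)
    exact ⟨H, h1 H hH⟩
  · intro H₁ H₂ hc1 hi1 hc2 hi2
    obtain ⟨g, hg⟩ := hconj H₁ H₂ (h2 H₁ hc1 hi1) (h2 H₂ hc2 hi2)
    exact ⟨g, hg.symm⟩
  · intro U hU
    obtain ⟨H, hH, hUH⟩ := hdom U hU
    obtain ⟨hc, hi⟩ := h1 H hH
    refine ⟨H, hc, hi, 1, ?_⟩
    rintro _ ⟨u, hu, rfl⟩
    simpa using hUH hu

end Cfsg.Agent.S3744
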