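import Cfsg.Statements.S0110
-- import your own Cfsg.Agent.* helpers here

set_option autoImplicit false
open Cfsg
open scoped commutatorElement

namespace Cfsg.Agent.S0110

section aux
variable {G : Type*} [Group G]

/-- If all commutators `g x g⁻¹ x⁻¹` lie in a subgroup `W`, then `[G : C(x)] ≤ |W|`, with strict
inequality when `1 ≠ x ∈ W`. -/
theorem index_centralizer_le [Finite G] (W : Subgroup G) (x : G) (hx : ∀ g : G, g * x * g⁻¹ * x⁻¹ ∈ W) :
    (Subgroup.centralizer ({x} : Set G)).index ≤ Nat.card W ∧
      (x ∈ W → x ≠ 1 → (Subgroup.centralizer ({x} : Set G)).index < Nat.card W) := by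
  classical
  let f : (G ⧸ Subgroup.centralizer ({x} : Set G)) → W := fun q =>
    Quotient.liftOn' q (fun g => (⟨g * x * g⁻¹ * x⁻¹, hx g⟩ : W)) (by
      intro g₁ g₂ h
      rw [QuotientGroup.leftRel_apply, Subgroup.mem_centralizer_iff] at h
      have h1 := h x rfl
      apply Subtype.ext
      show g₁ * x * g₁⁻¹ * x⁻¹ = g₂ * x * g₂⁻¹ * x⁻¹
      calc g₁ * x * g₁⁻¹ * x⁻¹ = g₁ * (x * (g₁⁻¹ * g₂)) * g₂⁻¹ * x⁻¹ := by group
        _ = g₁ * ((g₁⁻¹ * g₂) * x) * g₂⁻¹ * x⁻¹ := by rw [h1]
        _ = g₂ * x * g₂⁻¹ * x⁻¹ := by group)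
  have hf_inj : Function.Injective f := by
    intro q₁ q₂
    induction q₁ using Quotient.inductionOn' with
    | h g₁ =>
      induction q₂ using Quotient.inductionOn' with
      | h g₂ =>
        intro h
        have h' : g₁ * x * g₁⁻¹ * x⁻¹ = g₂ * x * g₂⁻¹ * x⁻¹ := congrArg Subtype.val h
        have h'' : g₁ * x * g₁⁻¹ = g₂ * x * g₂⁻¹ := mul_right_cancel h'
        apply Quotient.sound'
        rw [QuotientGroup.leftRel_apply, Subgroup.mem_centralizer_iff]
        intro y hy
        rw [Set.mem_singleton_iff] at hy
        subst hy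
        calc y * (g₁⁻¹ * g₂) = g₁⁻¹ * (g₁ * y * g₁⁻¹) * g₂ := by group
          _ = g₁⁻¹ * (g₂ * y * g₂⁻¹) * g₂ := by rw [h'']
          _ = g₁⁻¹ * g₂ * y := by group
  have : Fintype (G ⧸ Subgroup.centralizer ({x} : Set G)) := Fintype.ofFinite _
  have : Fintype W := Fintype.ofFinite _
  refine ⟨?_, ?_⟩
  · rw [Subgroup.index_eq_card, Nat.card_eq_fintype_card, Nat.card_eq_fintype_card]
    exact Fintype.card_le_of_injective f hf_inj
  · intro hxW hx1
    have hf_nsurj : ¬ Function.Surjective f := by
      intro hs
      obtain ⟨q, hq⟩ := hs ⟨x⁻¹, W.inv_mem hxW⟩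
      induction q using Quotient.inductionOn' with
      | h g =>
        have h' : g * x * g⁻¹ * x⁻¹ = x⁻¹ := congrArg Subtype.val hq
        apply hx1
        have h2 : g * x * g⁻¹ = 1 := by
          have := mul_right_cancel (b := x⁻¹) (a := g * x * g⁻¹) (c := 1) (by rw [h', one_mul])
          exact this
        calc x = g⁻¹ * (g * x * g⁻¹) * g := by group
          _ = 1 := by rw [h2]; group
    rw [Subgroup.index_eq_card, Nat.card_eq_fintype_card, Nat.card_eq_fintype_card]
    exact Fintype.card_lt_of_injective_not_surjective f hf_inj hf_nsurj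

theorem card_mul_relIndex {H K : Subgroup G} (hHK : H ≤ K) :
    Nat.card H * H.relIndex K = Nat.card K := by
  have h1 := Subgroup.card_mul_index (H.subgroupOf K)
  have h2 : Nat.card (H.subgroupOf K) = Nat.card H :=
    Nat.card_congr (Subgroup.subgroupOfEquivOfLe hHK).toEquiv
  rw [h2] at h1
  exact h1

end aux

/-- In a p-group G, an extraspecial subgroup E with [G, E] ≤ Z(E) satisfies G = E C_G(E). -/
theorem result {G : Type*} [Group G] [Finite G] {p : ℕ} [Fact p.Prime] (hG : IsPGroup p G) (E : Subgroup G) (hE : Cfsg.IsExtraspecial p E) (h : ⁅(⊤ : Subgroup G), E⁆ ≤ E ⊓ Subgroup.centralizer (E : Set G)) : E ⊔ Subgroup.centralizer (E : Set G) = ⊤ := by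
  have hp : p.Prime := Fact.out
  obtain ⟨n, hn⟩ := IsPGroup.iff_card.mp hG
  -- commutators land in `E ⊓ C(E)`
  have hcomm : ∀ g : G, ∀ x ∈ E, g * x * g⁻¹ * x⁻¹ ∈ E ⊓ Subgroup.centralizer (E : Set G) := by
    intro g x hx
    have h1 := Subgroup.commutator_mem_commutator (Subgroup.mem_top g) hx
    rw [commutatorElement_def] at h1
    exact h h1
  -- `E ⊓ C(E)` is the image of the centre of `E`, so it has order `p`
  have hZcard : Nat.card (E ⊓ Subgroup.centralizer (E : Set G) : Subgroup G) = p := by
    rw [← hE.2]
    have hmap : (Subgroup.center E).map E.subtype = E ⊓ Subgroup.centralizer (E : Set G) := by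
      ext x
      rw [Subgroup.mem_map, Subgroup.mem_inf]
      constructor
      · rintro ⟨c, hc, rfl⟩
        refine ⟨c.2, ?_⟩
        rw [Subgroup.mem_centralizer_iff]
        intro y hy
        have h1 := Subgroup.mem_center_iff.mp hc ⟨y, hy⟩
        exact congrArg Subtype.val h1
      · rintro ⟨hxE, hxC⟩
        refine ⟨⟨x, hxE⟩, ?_, rfl⟩
        rw [Subgroup.mem_center_iff]
        intro y
        rw [Subgroup.mem_centralizer_iff] at hxC
        exact Subtype.ext (hxC y y.2)
    rw [← hmap]
    exact Nat.card_congr (Subgroup.equivMapOfInjective _ _ E.subtype_injective).toEquiv.symm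
  -- `E ⊓ C(E)` is central in `G`
  have hZcent : ∀ z ∈ E ⊓ Subgroup.centralizer (E : Set G), Subgroup.centralizer ({z} : Set G) = ⊤ := by
    intro z hz
    by_cases hz1 : z = 1
    · subst hz1
      rw [Subgroup.centralizer_eq_top_iff_subset]
      intro y hy
      rw [Set.mem_singleton_iff] at hy
      subst hy
      exact Subgroup.one_mem _
    · have hlt := (index_centralizer_le _ z (fun g => hcomm g z hz.1)).2 hz hz1
      rw [hZcard] at hlt
      have hdvd : (Subgroup.centralizer ({z} : Set G)).index ∣ p ^ n :=
        hn ▸ Subgroup.index_dvd_card _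
      obtain ⟨k, hk, hik⟩ := (Nat.dvd_prime_pow hp).mp hdvd
      rw [← Subgroup.index_eq_one, hik]
      rw [hik] at hlt
      have hk0 : k = 0 := by
        by_contra hk0
        have h1 : p ^ 1 ≤ p ^ k := Nat.pow_le_pow_right hp.pos (Nat.one_le_iff_ne_zero.mpr hk0)
        rw [pow_one] at h1
        omega
      rw [hk0, pow_zero]
  have hZ'top : Subgroup.centralizer ((E ⊓ Subgroup.centralizer (E : Set G) : Subgroup G) : Set G) = ⊤ := by
    rw [Subgroup.centralizer_eq_top_iff_subset]
    intro z hz
    have h1 := hZcent z hz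
    rw [Subgroup.centralizer_eq_top_iff_subset] at h1
    exact h1 (Set.mem_singleton z)
  -- the inductive bound
  have hind : ∀ m : ℕ, ∀ F : Subgroup G, F ≤ E → Nat.card E - Nat.card F = m →
      (Subgroup.centralizer (F : Set G)).index * p ≤ Nat.card F →
      (Subgroup.centralizer (E : Set G)).index * p ≤ Nat.card E := by
    intro m
    induction m using Nat.strong_induction_on with
    | _ m ih =>
      intro F hFE hm hF
      by_cases hFeq : F = E
      · rw [hFeq] at hF; exact hF
      · have hFlt : F < E := lt_of_le_of_ne hFE hFeq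
        obtain ⟨x, hxE, hxF⟩ := SetLike.exists_of_lt hFlt
        have hFF' : F ≤ F ⊔ Subgroup.zpowers x := le_sup_left
        have hxF' : x ∈ F ⊔ Subgroup.zpowers x :=
          (le_sup_right : Subgroup.zpowers x ≤ F ⊔ Subgroup.zpowers x) (Subgroup.mem_zpowers x)
        have hF'E : F ⊔ Subgroup.zpowers x ≤ E := sup_le hFE ((Subgroup.zpowers_le).mpr hxE)
        have hFneF' : ¬ (F ⊔ Subgroup.zpowers x ≤ F) := fun hle => hxF (hle hxF')
        have hcardF' : p * Nat.card F ≤ Nat.card (F ⊔ Subgroup.zpowers x : Subgroup G) := by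
          have h1 := card_mul_relIndex hFF'
          have hne1 : F.relIndex (F ⊔ Subgroup.zpowers x) ≠ 1 := by
            rw [Ne, Subgroup.relIndex_eq_one]; exact hFneF'
          have hdvd : F.relIndex (F ⊔ Subgroup.zpowers x) ∣ p ^ n :=
            hn ▸ (Dvd.dvd.trans (Subgroup.relIndex_dvd_card F _) (Subgroup.card_subgroup_dvd_card _))
          obtain ⟨k, hk, hrk⟩ := (Nat.dvd_prime_pow hp).mp hdvd
          have hk0 : k ≠ 0 := by
            intro h0; rw [h0, pow_zero] at hrk; exact hne1 hrk
          have hple : p ≤ F.relIndex (F ⊔ Subgroup.zpowers x) := by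
            rw [hrk]
            calc p = p ^ 1 := (pow_one p).symm
              _ ≤ p ^ k := Nat.pow_le_pow_right hp.pos (Nat.one_le_iff_ne_zero.mpr hk0)
          rw [← h1, mul_comm]
          exact Nat.mul_le_mul_left _ hple
        have hcent : Subgroup.centralizer (F : Set G) ⊓ Subgroup.centralizer ({x} : Set G)
            ≤ Subgroup.centralizer ((F ⊔ Subgroup.zpowers x : Subgroup G) : Set G) := by
          intro g hg
          have hle : F ⊔ Subgroup.zpowers x ≤ Subgroup.centralizer ({g} : Set G) := by
            refine sup_le ?_ ((Subgroup.zpowers_le).mpr ?_)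
            · intro y hy
              rw [Subgroup.mem_centralizer_iff]
              intro w hw
              rw [Set.mem_singleton_iff] at hw
              subst hw
              exact ((Subgroup.mem_centralizer_iff.mp hg.1) y hy).symm
            · rw [Subgroup.mem_centralizer_iff]
              intro w hw
              rw [Set.mem_singleton_iff] at hw
              subst hw
              exact ((Subgroup.mem_centralizer_iff.mp hg.2) x rfl).symm
          rw [Subgroup.mem_centralizer_iff]
          intro y hy
          exact (Subgroup.mem_centralizer_iff.mp (hle hy) g rfl).symm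
        have hidx : (Subgroup.centralizer ((F ⊔ Subgroup.zpowers x : Subgroup G) : Set G)).index
            ≤ (Subgroup.centralizer (F : Set G)).index * p := by
          have h1 : (Subgroup.centralizer ((F ⊔ Subgroup.zpowers x : Subgroup G) : Set G)).index
              ≤ (Subgroup.centralizer (F : Set G) ⊓ Subgroup.centralizer ({x} : Set G)).index :=
            Nat.le_of_dvd (Nat.pos_of_ne_zero Subgroup.index_ne_zero_of_finite)
              (Subgroup.index_dvd_of_le hcent)
          have h2 := Subgroup.index_inf_le (H := Subgroup.centralizer (F : Set G))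
            (K := Subgroup.centralizer ({x} : Set G))
          have h3 : (Subgroup.centralizer ({x} : Set G)).index ≤ p := by
            have h4 := (index_centralizer_le _ x (fun g => hcomm g x hxE)).1
            rwa [hZcard] at h4
          calc _ ≤ _ := h1
            _ ≤ _ := h2
            _ ≤ _ := Nat.mul_le_mul_left _ h3
        refine ih (Nat.card E - Nat.card (F ⊔ Subgroup.zpowers x : Subgroup G)) ?_
          (F ⊔ Subgroup.zpowers x) hF'E rfl ?_
        · have h1 : Nat.card F < Nat.card (F ⊔ Subgroup.zpowers x : Subgroup G) := by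
            have h2 : 2 ≤ p := hp.two_le
            have hFpos : 0 < Nat.card F := Nat.card_pos
            nlinarith
          have h2 : Nat.card (F ⊔ Subgroup.zpowers x : Subgroup G) ≤ Nat.card E :=
            Subgroup.card_le_of_le hF'E
          omega
        · calc (Subgroup.centralizer ((F ⊔ Subgroup.zpowers x : Subgroup G) : Set G)).index * p
              ≤ (Subgroup.centralizer (F : Set G)).index * p * p := Nat.mul_le_mul_right _ hidx
            _ ≤ Nat.card F * p := Nat.mul_le_mul_right _ hF
            _ = p * Nat.card F := mul_comm _ _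
            _ ≤ Nat.card (F ⊔ Subgroup.zpowers x : Subgroup G) := hcardF'
  have hbound := hind _ (E ⊓ Subgroup.centralizer (E : Set G)) inf_le_left rfl
    (by rw [hZ'top, Subgroup.index_top, one_mul, hZcard])
  -- `E` is normal
  have hEn : E.Normal := ⟨fun x hx g => by
    have h1 := hcomm g x hx
    have h2 : g * x * g⁻¹ = (g * x * g⁻¹ * x⁻¹) * x := by group
    rw [h2]; exact E.mul_mem h1.1 hx⟩
  have h1 : Nat.card E * E.relIndex (E ⊔ Subgroup.centralizer (E : Set G))
      = Nat.card (E ⊔ Subgroup.centralizer (E : Set G) : Subgroup G) :=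
    card_mul_relIndex le_sup_left
  have h2 : E.relIndex (E ⊔ Subgroup.centralizer (E : Set G))
      = E.relIndex (Subgroup.centralizer (E : Set G)) := Subgroup.relIndex_sup_left _ _
  have h3 : (E ⊓ Subgroup.centralizer (E : Set G)).relIndex (Subgroup.centralizer (E : Set G))
      = E.relIndex (Subgroup.centralizer (E : Set G)) := Subgroup.inf_relIndex_right _ _
  have h4 : Nat.card (E ⊓ Subgroup.centralizer (E : Set G) : Subgroup G)
      * (E ⊓ Subgroup.centralizer (E : Set G)).relIndex (Subgroup.centralizer (E : Set G))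
      = Nat.card (Subgroup.centralizer (E : Set G)) := card_mul_relIndex inf_le_right
  have h5 : Nat.card (Subgroup.centralizer (E : Set G)) * (Subgroup.centralizer (E : Set G)).index
      = Nat.card G := Subgroup.card_mul_index _
  apply Subgroup.eq_top_of_le_card
  have h6 : Nat.card G * p ≤ Nat.card (E ⊔ Subgroup.centralizer (E : Set G) : Subgroup G) * p := by
    calc Nat.card G * p
        = Nat.card (Subgroup.centralizer (E : Set G))
            * ((Subgroup.centralizer (E : Set G)).index * p) := by rw [← h5]; ring
      _ ≤ Nat.card (Subgroup.centralizer (E : Set G)) * Nat.card E :=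
          Nat.mul_le_mul_left _ hbound
      _ = (p * E.relIndex (Subgroup.centralizer (E : Set G))) * Nat.card E := by
          rw [← h4, h3, hZcard]
      _ = Nat.card (E ⊔ Subgroup.centralizer (E : Set G) : Subgroup G) * p := by
          rw [← h1, h2]; ring
  exact Nat.le_of_mul_le_mul_right h6 hp.pos

end Cfsg.Agent.S0110
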