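import Mathlib
import Cfsg.Statements.S3879
import Cfsg.Agent.Lib.Helper64.Metacyclic

set_option autoImplicit false
open Cfsg

namespace Cfsg.Agent.S3879

open Cfsg.Agent.Lib.Helper64

/-- Let p be an odd prime and G a finite metacyclic p-group (G has a cyclic normal subgroup with cyclic quotient). Then the index of the center of G is the square of the order of the derived subgroup: |G : Z(G)| = |G'|². -/
theorem result {G : Type*} [Group G] [Finite G] {p : ℕ} [Fact p.Prime] (hp : p ≠ 2) (hG : IsPGroup p G) (hmc : Cfsg.IsMetacyclic G) : (Subgroup.center G).index = Nat.card ↥(commutator G) ^ 2 := by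
  obtain ⟨N, hNn, a, b, hN, hgen⟩ := exists_gens_of_isMetacyclic hmc
  haveI := hNn
  obtain ⟨h1, h2, _, _⟩ := metacyclic_core hp hG N a b hN hgen
  have h3 := (Subgroup.centralizer (N : Set G)).card_mul_index
  have h4 := (Subgroup.center G).card_mul_index
  rw [h1, h2] at h3
  have hpos : 0 < Nat.card (Subgroup.center G) := Nat.card_pos
  have h5 : Nat.card (Subgroup.center G) * (Subgroup.center G).index =
      Nat.card (Subgroup.center G) * Nat.card ↥(commutator G) ^ 2 := by
    rw [h4, ← h3]; ring
  exact Nat.eq_of_mul_eq_mul_left hpos h5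

end Cfsg.Agent.S3879
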