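import Cfsg.Statements.S3209
import Mathlib

set_option autoImplicit false
open Cfsg

namespace Cfsg.Agent.S3209

section SL2
variable {F : Type*} [Field F]

theorem two_sq_finite [Fintype F] (hF : Fintype.card F % 2 = 1) (x : F) : ∃ a b : F, a ^ 2 + b ^ 2 = x := by
  classical
  let f : Polynomial F := Polynomial.X ^ 2
  let g : Polynomial F := Polynomial.X ^ 2 - Polynomial.C x
  obtain ⟨a, b, hab⟩ : ∃ a b, f.eval a + g.eval b = 0 :=
    FiniteField.exists_root_sum_quadratic (Polynomial.degree_X_pow 2)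
      (Polynomial.degree_X_pow_sub_C (by decide) _) hF
  refine ⟨a, b, ?_⟩
  rw [← sub_eq_zero]
  simpa only [f, g, Polynomial.eval_C, Polynomial.eval_X, Polynomial.eval_pow, Polynomial.eval_sub,
    ← add_sub_assoc] using hab

/-- the matrix `w = [[0,1],[-1,0]]` -/
def wMat : Matrix.SpecialLinearGroup (Fin 2) F := ⟨!![0, 1; -1, 0], by simp [Matrix.det_fin_two]⟩

theorem wMat_sq : ((wMat * wMat : Matrix.SpecialLinearGroup (Fin 2) F) : Matrix (Fin 2) (Fin 2) F) = -1 := by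
  rw [Matrix.SpecialLinearGroup.coe_mul]
  ext i j
  fin_cases i <;> fin_cases j <;> simp [wMat, Matrix.mul_apply, Fin.sum_univ_two]

theorem entries_of_sq (A : Matrix.SpecialLinearGroup (Fin 2) F) (e : F)
    (hA : ((A * A : Matrix.SpecialLinearGroup (Fin 2) F) : Matrix (Fin 2) (Fin 2) F) = e • (1 : Matrix (Fin 2) (Fin 2) F)) :
    A.1 0 0 * A.1 0 0 + A.1 0 1 * A.1 1 0 = e ∧ A.1 0 0 * A.1 0 1 + A.1 0 1 * A.1 1 1 = 0 ∧
    A.1 1 0 * A.1 0 0 + A.1 1 1 * A.1 1 0 = 0 ∧ A.1 1 0 * A.1 0 1 + A.1 1 1 * A.1 1 1 = e ∧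
    A.1 0 0 * A.1 1 1 - A.1 0 1 * A.1 1 0 = 1 := by
  rw [Matrix.SpecialLinearGroup.coe_mul] at hA
  have h00 := congrFun (congrFun hA 0) 0
  have h01 := congrFun (congrFun hA 0) 1
  have h10 := congrFun (congrFun hA 1) 0
  have h11 := congrFun (congrFun hA 1) 1
  simp [Matrix.mul_apply, Fin.sum_univ_two] at h00 h01 h10 h11
  have hdet := A.2
  rw [Matrix.det_fin_two] at hdet
  exact ⟨h00, h01, h10, h11, hdet⟩

theorem sl2_sq_one (h2 : (2 : F) ≠ 0) (A : Matrix.SpecialLinearGroup (Fin 2) F) (hA : A * A = 1) :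
    A = 1 ∨ (A : Matrix (Fin 2) (Fin 2) F) = -1 := by
  have hA' : ((A * A : Matrix.SpecialLinearGroup (Fin 2) F) : Matrix (Fin 2) (Fin 2) F) = (1 : F) • (1 : Matrix (Fin 2) (Fin 2) F) := by
    rw [hA]; simp
  obtain ⟨h00, h01, h10, h11, hdet⟩ := entries_of_sq A 1 hA'
  set a := A.1 0 0
  set b := A.1 0 1
  set c := A.1 1 0
  set d := A.1 1 1
  have hs : a + d ≠ 0 := by
    intro hs
    have hd : d = -a := by linear_combination hs
    apply h2
    rw [hd] at hdet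
    linear_combination (-1 : F) * h00 + (-1 : F) * hdet
  have hb : b = 0 := by
    have : b * (a + d) = 0 := by linear_combination h01
    rcases mul_eq_zero.mp this with h | h
    · exact h
    · exact absurd h hs
  have hc : c = 0 := by
    have : c * (a + d) = 0 := by linear_combination h10
    rcases mul_eq_zero.mp this with h | h
    · exact h
    · exact absurd h hs
  rw [hb, hc] at h00 hdet
  simp at h00 hdet
  have had : d = a := by
    have ha0 : a ≠ 0 := by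
      intro h; rw [h] at h00; simp at h00
    exact mul_left_cancel₀ ha0 (by rw [hdet, h00])
  rcases mul_self_eq_one_iff.mp h00 with h | h
  · left
    apply Subtype.ext
    ext i j
    fin_cases i <;> fin_cases j <;> simp
    · exact h
    · exact hb
    · exact hc
    · show d = 1
      rw [had, h]
  · right
    ext i j
    fin_cases i <;> fin_cases j <;> simp
    · exact h
    · exact hb
    · exact hc
    · show d = -1
      rw [had, h]

theorem sl2_trace_zero (A : Matrix.SpecialLinearGroup (Fin 2) F)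
    (hA : ((A * A : Matrix.SpecialLinearGroup (Fin 2) F) : Matrix (Fin 2) (Fin 2) F) = -1) :
    A.1 1 1 = - A.1 0 0 ∧ A.1 0 0 * A.1 0 0 + A.1 0 1 * A.1 1 0 = -1 := by
  have hA' : ((A * A : Matrix.SpecialLinearGroup (Fin 2) F) : Matrix (Fin 2) (Fin 2) F) = (-1 : F) • (1 : Matrix (Fin 2) (Fin 2) F) := by
    rw [hA]; simp
  obtain ⟨h00, h01, h10, h11, hdet⟩ := entries_of_sq A (-1) hA'
  refine ⟨?_, h00⟩
  have : (A.1 0 0 + A.1 1 1) * (A.1 0 0 + A.1 1 1) = 0 := by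
    linear_combination h00 + h11 + 2 * hdet
  have := mul_self_eq_zero.mp this
  linear_combination this

theorem sl2_conj_w [Fintype F] (hF : Fintype.card F % 2 = 1) (h2 : (2 : F) ≠ 0)
    (A : Matrix.SpecialLinearGroup (Fin 2) F)
    (hA : ((A * A : Matrix.SpecialLinearGroup (Fin 2) F) : Matrix (Fin 2) (Fin 2) F) = -1) :
    ∃ h : Matrix.SpecialLinearGroup (Fin 2) F, h * wMat * h⁻¹ = A := by
  obtain ⟨hd, hab⟩ := sl2_trace_zero A hA
  set a := A.1 0 0 with ha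
  set b := A.1 0 1 with hb
  set c := A.1 1 0 with hc
  set d := A.1 1 1 with hdd
  -- find v with Q v = 1
  have hv : ∃ v₁ v₂ : F, -c * v₁ ^ 2 + 2 * a * v₁ * v₂ + b * v₂ ^ 2 = 1 := by
    by_cases hc0 : c = 0
    · have ha2 : a * a = -1 := by rw [hc0] at hab; simpa using hab
      have ha0 : a ≠ 0 := by
        intro h; rw [h] at ha2; simp at ha2
      refine ⟨(1 - b) / (2 * a), 1, ?_⟩
      rw [hc0]
      field_simp
      ring
    · obtain ⟨s, t, hst⟩ := two_sq_finite hF (-c)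
      refine ⟨(s + a * t) / c, t, ?_⟩
      field_simp
      linear_combination t ^ 2 * hab - hst
  obtain ⟨v₁, v₂, hv⟩ := hv
  let h : Matrix.SpecialLinearGroup (Fin 2) F :=
    ⟨!![v₁, -(a * v₁ + b * v₂); v₂, -(c * v₁ - a * v₂)], by
      rw [Matrix.det_fin_two]
      simp
      linear_combination hv⟩
  refine ⟨h, ?_⟩
  rw [mul_inv_eq_iff_eq_mul]
  apply Subtype.ext
  rw [Matrix.SpecialLinearGroup.coe_mul, Matrix.SpecialLinearGroup.coe_mul]
  have hAeq : (A : Matrix (Fin 2) (Fin 2) F) = !![a, b; c, -a] := by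
    ext i j
    fin_cases i <;> fin_cases j <;> simp [ha, hb, hc]
    rw [← hd]
  rw [hAeq]
  ext i j
  fin_cases i <;> fin_cases j <;> simp [h, wMat, Matrix.mul_apply, Fin.sum_univ_two]
  all_goals first | ring1 | linear_combination v₁ * hab | linear_combination v₂ * hab

end SL2


theorem two_ne_zero_of_odd_card {F : Type*} [Field F] [Fintype F] (hF : Odd (Fintype.card F)) :
    (2 : F) ≠ 0 := by
  intro h
  have h1 : ringChar F ∣ 2 := by
    have := (ringChar.spec F 2).mp (by exact_mod_cast h)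
    exact this
  have hp : (ringChar F).Prime := CharP.char_is_prime F (ringChar F)
  have h2 : ringChar F = 2 := (Nat.prime_dvd_prime_iff_eq hp Nat.prime_two).mp h1
  have h3 := FiniteField.even_card_iff_char_two.mp h2
  rcases hF with ⟨k, hk⟩
  omega

/-- one side: the structure of elements of order dividing 4 in a copy of `SL₂(F)` -/
theorem side {G : Type*} [Group G] {F : Type*} [Field F] [Fintype F] (hF : Odd (Fintype.card F))
    (L : Subgroup G) (e : ↥L ≃* Matrix.SpecialLinearGroup (Fin 2) F) (j : G) (hjL : j ∈ L)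
    (hj2 : j * j = 1) (hj1 : j ≠ 1) :
    (∀ x ∈ L, x * x = 1 → x = 1 ∨ x = j) ∧
    (∃ a ∈ L, a * a = j ∧ ∀ x ∈ L, x * x = j → ∃ g ∈ L, g * a * g⁻¹ = x) := by
  have h2 : (2 : F) ≠ 0 := two_ne_zero_of_odd_card hF
  have hF' : Fintype.card F % 2 = 1 := Nat.odd_iff.mp hF
  set J := e ⟨j, hjL⟩ with hJ
  have hJ2 : J * J = 1 := by
    rw [hJ, ← map_mul]
    have : (⟨j, hjL⟩ : L) * ⟨j, hjL⟩ = 1 := Subtype.ext hj2
    rw [this, map_one]
  have hJ1 : J ≠ 1 := by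
    intro h
    have : (⟨j, hjL⟩ : L) = 1 := e.injective (by rw [← hJ, h, map_one])
    exact hj1 (congrArg Subtype.val this)
  have hJneg : (J : Matrix (Fin 2) (Fin 2) F) = -1 := (sl2_sq_one h2 J hJ2).resolve_left hJ1
  refine ⟨?_, ?_⟩
  · intro x hx hxx
    set X := e ⟨x, hx⟩ with hX
    have hX2 : X * X = 1 := by
      rw [hX, ← map_mul]
      have : (⟨x, hx⟩ : L) * ⟨x, hx⟩ = 1 := Subtype.ext hxx
      rw [this, map_one]
    rcases sl2_sq_one h2 X hX2 with h | h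
    · left
      have : (⟨x, hx⟩ : L) = 1 := e.injective (by rw [← hX, h, map_one])
      exact congrArg Subtype.val this
    · right
      have hXJ : X = J := Subtype.ext (by rw [h, hJneg])
      have : (⟨x, hx⟩ : L) = ⟨j, hjL⟩ := e.injective hXJ
      exact congrArg Subtype.val this
  · refine ⟨(e.symm wMat : L), (e.symm wMat).2, ?_, ?_⟩
    · have h1 : e (e.symm wMat * e.symm wMat) = J := by
        rw [map_mul, MulEquiv.apply_symm_apply]
        exact Subtype.ext (by rw [wMat_sq, hJneg])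
      have h3 : e.symm wMat * e.symm wMat = ⟨j, hjL⟩ := e.injective h1
      exact congrArg Subtype.val h3
    · intro x hx hxx
      set X := e ⟨x, hx⟩ with hX
      have hX2 : X * X = J := by
        rw [hX, ← map_mul, hJ]
        congr 1
        exact Subtype.ext hxx
      have hX2' : ((X * X : Matrix.SpecialLinearGroup (Fin 2) F) : Matrix (Fin 2) (Fin 2) F) = -1 := by
        rw [hX2, hJneg]
      obtain ⟨h, hh⟩ := sl2_conj_w hF' h2 X hX2'
      refine ⟨(e.symm h : L), (e.symm h).2, ?_⟩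
      have h4 : e.symm h * e.symm wMat * (e.symm h)⁻¹ = ⟨x, hx⟩ := by
        apply e.injective
        rw [map_mul, map_mul, map_inv, MulEquiv.apply_symm_apply, MulEquiv.apply_symm_apply, hh]
      exact congrArg Subtype.val h4


/-- Let L₁ ≅ SL₂(q₁) and L₂ ≅ SL₂(q₂), q₁ and q₂ odd, be elementwise-commuting subgroups of a finite group meeting in ⟨j⟩ for an involution j. Then L₁L₂ has exactly two conjugacy classes of involutions: the central involution j, and one further class (there is an involution x ≠ j in L₁L₂, and every involution of L₁L₂ other than j is conjugate to x by an element of L₁L₂). -/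
theorem result {G : Type*} [Group G] [Finite G]
    {F₁ : Type*} [Field F₁] [Fintype F₁] {F₂ : Type*} [Field F₂] [Fintype F₂]
    (hF₁ : Odd (Fintype.card F₁)) (hF₂ : Odd (Fintype.card F₂)) (L₁ L₂ : Subgroup G)
    (e₁ : ↥L₁ ≃* Matrix.SpecialLinearGroup (Fin 2) F₁) (e₂ : ↥L₂ ≃* Matrix.SpecialLinearGroup (Fin 2) F₂)
    (hc : ∀ x ∈ L₁, ∀ y ∈ L₂, x * y = y * x) (j : G) (hj : orderOf j = 2) (hm : L₁ ⊓ L₂ = Subgroup.zpowers j) :
    ∃ x ∈ L₁ ⊔ L₂, orderOf x = 2 ∧ x ≠ j ∧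
      ∀ y ∈ L₁ ⊔ L₂, orderOf y = 2 → y = j ∨ ∃ g ∈ L₁ ⊔ L₂, g * x * g⁻¹ = y := by
  have hj2 : j * j = 1 := by
    have := pow_orderOf_eq_one j
    rwa [hj, pow_two] at this
  have hj1 : j ≠ 1 := by
    intro h; rw [h, orderOf_one] at hj; omega
  have hjinv : j⁻¹ = j := inv_eq_of_mul_eq_one_right hj2
  have hjmem : j ∈ L₁ ⊓ L₂ := by rw [hm]; exact Subgroup.mem_zpowers j
  have hjL₁ : j ∈ L₁ := hjmem.1
  have hjL₂ : j ∈ L₂ := hjmem.2
  have hinter : ∀ z, z ∈ L₁ → z ∈ L₂ → z = 1 ∨ z = j := by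
    intro z hz1 hz2
    have hz : z ∈ Subgroup.zpowers j := by rw [← hm]; exact ⟨hz1, hz2⟩
    obtain ⟨k, hk⟩ := Subgroup.mem_zpowers_iff.mp hz
    have hk' : j ^ (k % 2) = z := by
      have := zpow_mod_orderOf j k
      rw [hj] at this
      rw [← hk]; exact_mod_cast this
    rcases Int.emod_two_eq_zero_or_one k with h0 | h1
    · left; rw [h0, zpow_zero] at hk'; exact hk'.symm
    · right; rw [h1, zpow_one] at hk'; exact hk'.symm
  obtain ⟨hi₁, a₁, ha₁L, ha₁, hconj₁⟩ := side hF₁ L₁ e₁ j hjL₁ hj2 hj1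
  obtain ⟨hi₂, a₂, ha₂L, ha₂, hconj₂⟩ := side hF₂ L₂ e₂ j hjL₂ hj2 hj1
  -- elements of the join are products
  have hprod : ∀ y ∈ L₁ ⊔ L₂, ∃ x₁ ∈ L₁, ∃ x₂ ∈ L₂, y = x₁ * x₂ := by
    intro y hy
    rw [Subgroup.sup_eq_closure] at hy
    induction hy using Subgroup.closure_induction with
    | mem z hz =>
      rcases hz with hz | hz
      · exact ⟨z, hz, 1, L₂.one_mem, by simp⟩
      · exact ⟨1, L₁.one_mem, z, hz, by simp⟩
    | one => exact ⟨1, L₁.one_mem, 1, L₂.one_mem, by simp⟩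
    | mul u v _ _ hu hv =>
      obtain ⟨u₁, hu₁, u₂, hu₂, rfl⟩ := hu
      obtain ⟨v₁, hv₁, v₂, hv₂, rfl⟩ := hv
      refine ⟨u₁ * v₁, L₁.mul_mem hu₁ hv₁, u₂ * v₂, L₂.mul_mem hu₂ hv₂, ?_⟩
      calc u₁ * u₂ * (v₁ * v₂) = u₁ * (u₂ * v₁) * v₂ := by group
        _ = u₁ * (v₁ * u₂) * v₂ := by rw [hc v₁ hv₁ u₂ hu₂]
        _ = u₁ * v₁ * (u₂ * v₂) := by group
    | inv u _ hu =>
      obtain ⟨u₁, hu₁, u₂, hu₂, rfl⟩ := hu
      refine ⟨u₁⁻¹, L₁.inv_mem hu₁, u₂⁻¹, L₂.inv_mem hu₂, ?_⟩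
      rw [mul_inv_rev, hc u₁⁻¹ (L₁.inv_mem hu₁) u₂⁻¹ (L₂.inv_mem hu₂)]
  have hL₁le : L₁ ≤ L₁ ⊔ L₂ := le_sup_left
  have hL₂le : L₂ ≤ L₁ ⊔ L₂ := le_sup_right
  -- a₂ ∉ L₁
  have ha₂notL₁ : a₂ ∉ L₁ := by
    intro h
    rcases hinter a₂ h ha₂L with h1 | h1
    · rw [h1, mul_one] at ha₂; exact hj1 ha₂.symm
    · rw [h1, hj2] at ha₂; exact hj1 ha₂.symm
  refine ⟨a₁ * a₂, (L₁ ⊔ L₂).mul_mem (hL₁le ha₁L) (hL₂le ha₂L), ?_, ?_, ?_⟩
  · apply orderOf_eq_prime
    · rw [pow_two]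
      calc a₁ * a₂ * (a₁ * a₂) = a₁ * (a₂ * a₁) * a₂ := by group
        _ = a₁ * (a₁ * a₂) * a₂ := by rw [hc a₁ ha₁L a₂ ha₂L]
        _ = (a₁ * a₁) * (a₂ * a₂) := by group
        _ = 1 := by rw [ha₁, ha₂, hj2]
    · intro h
      apply ha₂notL₁
      have : a₂ = a₁⁻¹ := by
        calc a₂ = a₁⁻¹ * (a₁ * a₂) := by group
          _ = a₁⁻¹ := by rw [h, mul_one]
      rw [this]; exact L₁.inv_mem ha₁L
  · intro h
    apply ha₂notL₁
    have : a₂ = a₁⁻¹ * j := by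
      calc a₂ = a₁⁻¹ * (a₁ * a₂) := by group
        _ = a₁⁻¹ * j := by rw [h]
    rw [this]; exact L₁.mul_mem (L₁.inv_mem ha₁L) hjL₁
  · intro y hy hyo
    obtain ⟨x₁, hx₁, x₂, hx₂, rfl⟩ := hprod y hy
    have hy2 : x₁ * x₂ * (x₁ * x₂) = 1 := by
      have := pow_orderOf_eq_one (x₁ * x₂)
      rwa [hyo, pow_two] at this
    have hy1 : x₁ * x₂ ≠ 1 := by
      intro h; rw [h, orderOf_one] at hyo; omega
    have hsq : (x₁ * x₁) * (x₂ * x₂) = 1 := by
      calc (x₁ * x₁) * (x₂ * x₂) = x₁ * (x₁ * x₂) * x₂ := by group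
        _ = x₁ * (x₂ * x₁) * x₂ := by rw [hc x₁ hx₁ x₂ hx₂]
        _ = x₁ * x₂ * (x₁ * x₂) := by group
        _ = 1 := hy2
    have hx₁sq : x₁ * x₁ = (x₂ * x₂)⁻¹ := eq_inv_of_mul_eq_one_left hsq
    have hx₁sqL₂ : x₁ * x₁ ∈ L₂ := by rw [hx₁sq]; exact L₂.inv_mem (L₂.mul_mem hx₂ hx₂)
    rcases hinter (x₁ * x₁) (L₁.mul_mem hx₁ hx₁) hx₁sqL₂ with h1 | h1
    · left
      have h2 : x₂ * x₂ = 1 := by rw [h1, one_mul] at hsq; exact hsq
      rcases hi₁ x₁ hx₁ h1 with h3 | h3 <;> rcases hi₂ x₂ hx₂ h2 with h4 | h4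
      · exfalso; apply hy1; rw [h3, h4, mul_one]
      · rw [h3, h4, one_mul]
      · rw [h3, h4, mul_one]
      · exfalso; apply hy1; rw [h3, h4, hj2]
    · right
      have h2 : x₂ * x₂ = j := by
        rw [h1] at hsq
        calc x₂ * x₂ = j⁻¹ * (j * (x₂ * x₂)) := by group
          _ = j := by rw [hsq, mul_one, hjinv]
      obtain ⟨g₁, hg₁, hg₁x⟩ := hconj₁ x₁ hx₁ h1
      obtain ⟨g₂, hg₂, hg₂x⟩ := hconj₂ x₂ hx₂ h2
      refine ⟨g₁ * g₂, (L₁ ⊔ L₂).mul_mem (hL₁le hg₁) (hL₂le hg₂), ?_⟩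
      rw [← hg₁x, ← hg₂x]
      have c1 : g₂ * a₁ = a₁ * g₂ := (hc a₁ ha₁L g₂ hg₂).symm
      have c2 : (g₂ * a₂ * g₂⁻¹) * g₁⁻¹ = g₁⁻¹ * (g₂ * a₂ * g₂⁻¹) :=
        (hc g₁⁻¹ (L₁.inv_mem hg₁) _ (L₂.mul_mem (L₂.mul_mem hg₂ ha₂L) (L₂.inv_mem hg₂))).symm
      calc g₁ * g₂ * (a₁ * a₂) * (g₁ * g₂)⁻¹ = g₁ * (g₂ * a₁) * a₂ * g₂⁻¹ * g₁⁻¹ := by group
        _ = g₁ * (a₁ * g₂) * a₂ * g₂⁻¹ * g₁⁻¹ := by rw [c1]
        _ = g₁ * a₁ * ((g₂ * a₂ * g₂⁻¹) * g₁⁻¹) := by group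
        _ = g₁ * a₁ * (g₁⁻¹ * (g₂ * a₂ * g₂⁻¹)) := by rw [c2]
        _ = g₁ * a₁ * g₁⁻¹ * (g₂ * a₂ * g₂⁻¹) := by group

end Cfsg.Agent.S3209
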