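import Cfsg.Statements.S3210
import Mathlib
import Cfsg.Agent.S3209

set_option autoImplicit false
open Cfsg

namespace Cfsg.Agent.S3210

open Cfsg.Agent.S3209



section SL2
variable {F : Type*} [Field F]

/-- the matrix `u = [[-1,2],[-1,1]]`, a conjugate of `w` -/
def uMat : Matrix.SpecialLinearGroup (Fin 2) F := ⟨!![-1, 2; -1, 1], by
  rw [Matrix.det_fin_two]; simp; ring⟩

theorem uMat_sq : ((uMat * uMat : Matrix.SpecialLinearGroup (Fin 2) F) : Matrix (Fin 2) (Fin 2) F) = -1 := by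
  rw [Matrix.SpecialLinearGroup.coe_mul]
  ext i j
  fin_cases i <;> fin_cases j <;> simp [uMat, Matrix.mul_apply, Fin.sum_univ_two] <;> ring

theorem sl2_central_of_comm (A : Matrix.SpecialLinearGroup (Fin 2) F)
    (hw : A * wMat = wMat * A) (hu : A * uMat = uMat * A) :
    A = 1 ∨ (A : Matrix (Fin 2) (Fin 2) F) = -1 := by
  have hw' := congrArg (fun M : Matrix.SpecialLinearGroup (Fin 2) F => (M : Matrix (Fin 2) (Fin 2) F)) hw
  have hu' := congrArg (fun M : Matrix.SpecialLinearGroup (Fin 2) F => (M : Matrix (Fin 2) (Fin 2) F)) hu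
  simp only [Matrix.SpecialLinearGroup.coe_mul] at hw' hu'
  have w00 := congrFun (congrFun hw' 0) 0
  have w01 := congrFun (congrFun hw' 0) 1
  have u00 := congrFun (congrFun hu' 0) 0
  simp [wMat, uMat, Matrix.mul_apply, Fin.sum_univ_two] at w00 w01 u00
  have hdet := A.2
  rw [Matrix.det_fin_two] at hdet
  set p := A.1 0 0
  set q := A.1 0 1
  set r := A.1 1 0
  set s := A.1 1 1
  have hq : q = 0 := by
    have hr : r = -q := by linear_combination -w00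
    rw [hr] at u00
    linear_combination u00
  have hr : r = 0 := by
    have : r = -q := by linear_combination -w00
    rw [this, hq]; simp
  have hs : s = p := by linear_combination -w01
  rw [hq, hr, hs] at hdet
  simp at hdet
  rcases mul_self_eq_one_iff.mp hdet with h | h
  · left
    apply Subtype.ext
    ext i j
    fin_cases i <;> fin_cases j <;> simp
    · exact h
    · exact hq
    · exact hr
    · show s = 1
      rw [hs, h]
  · right
    ext i j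
    fin_cases i <;> fin_cases j <;> simp
    · exact h
    · exact hq
    · exact hr
    · show s = -1
      rw [hs, h]

end SL2

/-- further facts on one side -/
theorem side2 {G : Type*} [Group G] {F : Type*} [Field F] [Fintype F] (hF : Odd (Fintype.card F))
    (L : Subgroup G) (e : ↥L ≃* Matrix.SpecialLinearGroup (Fin 2) F) (j : G) (hjL : j ∈ L)
    (hj2 : j * j = 1) (hj1 : j ≠ 1) :
    (∀ g ∈ L, (∀ x ∈ L, x * x = j → g * x = x * g) → g = 1 ∨ g = j) ∧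
    (∀ x ∈ L, ∀ x' ∈ L, x * x = j → x' * x' = j → x * x' = x' * x → x' = x ∨ x' = x⁻¹) := by
  obtain ⟨hi, -⟩ := side hF L e j hjL hj2 hj1
  have h2 : (2 : F) ≠ 0 := two_ne_zero_of_odd_card hF
  set J := e ⟨j, hjL⟩ with hJ
  have hJ2 : J * J = 1 := by
    rw [hJ, ← map_mul]
    have : (⟨j, hjL⟩ : L) * ⟨j, hjL⟩ = 1 := Subtype.ext hj2
    rw [this, map_one]
  have hJ1 : J ≠ 1 := by
    intro h
    have : (⟨j, hjL⟩ : L) = 1 := e.injective (by rw [← hJ, h, map_one])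
    exact hj1 (congrArg Subtype.val this)
  have hJneg : (J : Matrix (Fin 2) (Fin 2) F) = -1 := (sl2_sq_one h2 J hJ2).resolve_left hJ1
  have hsq : ∀ M : Matrix.SpecialLinearGroup (Fin 2) F,
      ((M * M : Matrix.SpecialLinearGroup (Fin 2) F) : Matrix (Fin 2) (Fin 2) F) = -1 →
      ((e.symm M : L) : G) * (e.symm M : L) = j := by
    intro M hM
    have h1 : e (e.symm M * e.symm M) = J := by
      rw [map_mul, MulEquiv.apply_symm_apply]
      exact Subtype.ext (by rw [hM, hJneg])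
    have h3 : e.symm M * e.symm M = ⟨j, hjL⟩ := e.injective h1
    exact congrArg Subtype.val h3
  refine ⟨?_, ?_⟩
  · intro g hg hcomm
    set A := e ⟨g, hg⟩ with hA
    have hc : ∀ M : Matrix.SpecialLinearGroup (Fin 2) F,
        ((M * M : Matrix.SpecialLinearGroup (Fin 2) F) : Matrix (Fin 2) (Fin 2) F) = -1 →
        A * M = M * A := by
      intro M hM
      have h1 := hcomm _ (e.symm M).2 (hsq M hM)
      have h3 : (⟨g, hg⟩ : L) * e.symm M = e.symm M * ⟨g, hg⟩ := Subtype.ext h1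
      have h4 := congrArg e h3
      rwa [map_mul, map_mul, MulEquiv.apply_symm_apply] at h4
    rcases sl2_central_of_comm A (hc _ wMat_sq) (hc _ uMat_sq) with h | h
    · left
      have : (⟨g, hg⟩ : L) = 1 := e.injective (by rw [← hA, h, map_one])
      exact congrArg Subtype.val this
    · right
      have hAJ : A = J := Subtype.ext (by rw [h, hJneg])
      have : (⟨g, hg⟩ : L) = ⟨j, hjL⟩ := e.injective hAJ
      exact congrArg Subtype.val this
  · intro x hx x' hx' hxx hxx' hcomm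
    have h1 : (x * x') * (x * x') = 1 := by
      calc (x * x') * (x * x') = x * (x' * x) * x' := by group
        _ = x * (x * x') * x' := by rw [hcomm]
        _ = (x * x) * (x' * x') := by group
        _ = 1 := by rw [hxx, hxx', hj2]
    rcases hi (x * x') (L.mul_mem hx hx') h1 with h | h
    · right
      exact (eq_inv_of_mul_eq_one_right h)
    · left
      rw [← hxx] at h
      exact (mul_left_cancel h)



theorem card_SL_eq_card_ker_det {F : Type*} [Field F] (n : ℕ) :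
    Nat.card (Matrix.SpecialLinearGroup (Fin n) F) =
      Nat.card (Matrix.GeneralLinearGroup.det : Matrix.GeneralLinearGroup (Fin n) F →* Fˣ).ker := by
  have hr : (Matrix.SpecialLinearGroup.toGL : Matrix.SpecialLinearGroup (Fin n) F →* Matrix.GeneralLinearGroup (Fin n) F).range =
      (Matrix.GeneralLinearGroup.det : Matrix.GeneralLinearGroup (Fin n) F →* Fˣ).ker := by
    ext g
    constructor
    · rintro ⟨M, rfl⟩
      rw [MonoidHom.mem_ker]
      apply Units.ext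
      simp
    · intro hg
      have hdet : (g : Matrix (Fin n) (Fin n) F).det = 1 := by
        have := MonoidHom.mem_ker.mp hg
        have h2 := congrArg Units.val this
        simpa using h2
      exact ⟨⟨g, hdet⟩, Units.ext rfl⟩
  rw [← hr]
  exact (Nat.card_range_of_injective Matrix.SpecialLinearGroup.toGL_injective).symm

theorem card_SL2 {F : Type*} [Field F] [Fintype F] :
    Nat.card (Matrix.SpecialLinearGroup (Fin 2) F) = Fintype.card F * (Fintype.card F ^ 2 - 1) := by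
  have h1 := Subgroup.card_mul_index (Matrix.GeneralLinearGroup.det : Matrix.GeneralLinearGroup (Fin 2) F →* Fˣ).ker
  rw [Subgroup.index_ker, MonoidHom.range_eq_top.mpr Matrix.GeneralLinearGroup.det_surjective,
    Subgroup.card_top, ← card_SL_eq_card_ker_det] at h1
  rw [Matrix.card_GL_field, Fin.prod_univ_two] at h1
  simp only [Fin.val_zero, pow_zero, Fin.val_one, pow_one] at h1
  have hu : Nat.card Fˣ = Fintype.card F - 1 := by
    classical
    rw [Nat.card_eq_fintype_card, Fintype.card_units]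
  rw [hu] at h1
  have hq : 2 ≤ Fintype.card F := Fintype.one_lt_card
  set q := Fintype.card F with hq'
  obtain ⟨r, hr⟩ : ∃ r, q = r + 2 := ⟨q - 2, by omega⟩
  rw [hr] at h1 ⊢
  have e1 : r + 2 - 1 = r + 1 := by omega
  have e3 : (r + 2) ^ 2 - (r + 2) = (r + 2) * (r + 1) := by
    have : (r + 2) ^ 2 = (r + 2) * (r + 1) + (r + 2) := by ring
    omega
  rw [e1, e3] at h1
  have hpos : 0 < r + 1 := by positivity
  have : Nat.card (Matrix.SpecialLinearGroup (Fin 2) F) * (r + 1) = (r + 2) * ((r + 2) ^ 2 - 1) * (r + 1) := by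
    rw [h1]; ring
  exact Nat.eq_of_mul_eq_mul_right hpos this

theorem card_eq_of_sl2_equiv {F₁ F₂ : Type*} [Field F₁] [Fintype F₁] [Field F₂] [Fintype F₂]
    (e : Matrix.SpecialLinearGroup (Fin 2) F₁ ≃* Matrix.SpecialLinearGroup (Fin 2) F₂) :
    Fintype.card F₁ = Fintype.card F₂ := by
  have h := Nat.card_congr e.toEquiv
  rw [card_SL2, card_SL2] at h
  have h1 : 2 ≤ Fintype.card F₁ := Fintype.one_lt_card
  have h2 : 2 ≤ Fintype.card F₂ := Fintype.one_lt_card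
  set a := Fintype.card F₁
  set b := Fintype.card F₂
  have mono : ∀ x y : ℕ, 2 ≤ x → x < y → x * (x ^ 2 - 1) < y * (y ^ 2 - 1) := by
    intro x y hx hxy
    have h3 : x ^ 2 - 1 < y ^ 2 - 1 := by
      have : x ^ 2 < y ^ 2 := Nat.pow_lt_pow_left hxy (by norm_num)
      have : 1 ≤ x ^ 2 := Nat.one_le_pow _ _ (by omega)
      omega
    calc x * (x ^ 2 - 1) < y * (x ^ 2 - 1) := by
          apply Nat.mul_lt_mul_of_pos_right hxy
          have : 4 ≤ x ^ 2 := by nlinarith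
          omega
      _ ≤ y * (y ^ 2 - 1) := Nat.mul_le_mul_left _ h3.le
  rcases lt_trichotomy a b with hab | hab | hab
  · exact absurd h (mono a b h1 hab).ne
  · exact hab
  · exact absurd h.symm (mono b a h2 hab).ne


/-- elements of `L` squaring to `j` -/
def Om {G : Type*} [Group G] (L : Subgroup G) (j : G) (x : G) : Prop := x ∈ L ∧ x * x = j

/-- the abstract configuration of two commuting `SL₂`-like subgroups -/
structure Pair {G : Type*} [Group G] (L M : Subgroup G) (j : G) : Prop where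
  hc : ∀ x ∈ L, ∀ y ∈ M, x * y = y * x
  hj2 : j * j = 1
  hj1 : j ≠ 1
  hjL : j ∈ L
  hjM : j ∈ M
  hinter : ∀ z, z ∈ L → z ∈ M → z = 1 ∨ z = j
  hiL : ∀ x ∈ L, x * x = 1 → x = 1 ∨ x = j
  hiM : ∀ x ∈ M, x * x = 1 → x = 1 ∨ x = j
  haL : ∃ a, a ∈ L ∧ a * a = j
  haM : ∃ a, a ∈ M ∧ a * a = j
  hαL : ∀ g ∈ L, (∀ x ∈ L, x * x = j → g * x = x * g) → g = 1 ∨ g = j
  hαM : ∀ g ∈ M, (∀ x ∈ M, x * x = j → g * x = x * g) → g = 1 ∨ g = j
  hβL : ∀ x ∈ L, ∀ x' ∈ L, x * x = j → x' * x' = j → x * x' = x' * x → x' = x ∨ x' = x⁻¹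
  hβM : ∀ x ∈ M, ∀ x' ∈ M, x * x = j → x' * x' = j → x * x' = x' * x → x' = x ∨ x' = x⁻¹

namespace Pair

variable {G : Type*} [Group G] {L M : Subgroup G} {j : G}

theorem symm (h : Pair L M j) : Pair M L j where
  hc := fun x hx y hy => (h.hc y hy x hx).symm
  hj2 := h.hj2
  hj1 := h.hj1
  hjL := h.hjM
  hjM := h.hjL
  hinter := fun z hz1 hz2 => h.hinter z hz2 hz1
  hiL := h.hiM
  hiM := h.hiL
  haL := h.haM
  haM := h.haL
  hαL := h.hαM
  hαM := h.hαL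
  hβL := h.hβM
  hβM := h.hβL

theorem jinv (h : Pair L M j) : j⁻¹ = j := inv_eq_of_mul_eq_one_right h.hj2

theorem hprod (h : Pair L M j) : ∀ y ∈ L ⊔ M, ∃ x₁ ∈ L, ∃ x₂ ∈ M, y = x₁ * x₂ := by
  intro y hy
  rw [Subgroup.sup_eq_closure] at hy
  induction hy using Subgroup.closure_induction with
  | mem z hz =>
    rcases hz with hz | hz
    · exact ⟨z, hz, 1, M.one_mem, by simp⟩
    · exact ⟨1, L.one_mem, z, hz, by simp⟩
  | one => exact ⟨1, L.one_mem, 1, M.one_mem, by simp⟩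
  | mul u v _ _ hu hv =>
    obtain ⟨u₁, hu₁, u₂, hu₂, rfl⟩ := hu
    obtain ⟨v₁, hv₁, v₂, hv₂, rfl⟩ := hv
    refine ⟨u₁ * v₁, L.mul_mem hu₁ hv₁, u₂ * v₂, M.mul_mem hu₂ hv₂, ?_⟩
    calc u₁ * u₂ * (v₁ * v₂) = u₁ * (u₂ * v₁) * v₂ := by group
      _ = u₁ * (v₁ * u₂) * v₂ := by rw [h.hc v₁ hv₁ u₂ hu₂]
      _ = u₁ * v₁ * (u₂ * v₂) := by group
  | inv u _ hu =>
    obtain ⟨u₁, hu₁, u₂, hu₂, rfl⟩ := hu
    refine ⟨u₁⁻¹, L.inv_mem hu₁, u₂⁻¹, M.inv_mem hu₂, ?_⟩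
    rw [mul_inv_rev, h.hc u₁⁻¹ (L.inv_mem hu₁) u₂⁻¹ (M.inv_mem hu₂)]

/-- `Ω_L` and `Ω_M` are disjoint -/
theorem factB (h : Pair L M j) (x : G) : ¬ (Om L j x ∧ Om M j x) := by
  rintro ⟨⟨h1, h2⟩, ⟨h3, -⟩⟩
  rcases h.hinter x h1 h3 with h4 | h4
  · rw [h4, mul_one] at h2; exact h.hj1 h2.symm
  · rw [h4, h.hj2] at h2; exact h.hj1 h2.symm

/-- elements of the product squaring to `j` lie in one of the factors -/
theorem factA (h : Pair L M j) : ∀ y ∈ L ⊔ M, y * y = j → Om L j y ∨ Om M j y := by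
  intro y hy hyy
  obtain ⟨x₁, hx₁, x₂, hx₂, rfl⟩ := h.hprod y hy
  have hsq : (x₁ * x₁) * (x₂ * x₂) = j := by
    calc (x₁ * x₁) * (x₂ * x₂) = x₁ * (x₁ * x₂) * x₂ := by group
      _ = x₁ * (x₂ * x₁) * x₂ := by rw [h.hc x₁ hx₁ x₂ hx₂]
      _ = x₁ * x₂ * (x₁ * x₂) := by group
      _ = j := hyy
  have hx₁sq : x₁ * x₁ = j * (x₂ * x₂)⁻¹ := by rw [← hsq]; group
  have hx₁sqM : x₁ * x₁ ∈ M := by
    rw [hx₁sq]; exact M.mul_mem h.hjM (M.inv_mem (M.mul_mem hx₂ hx₂))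
  rcases h.hinter (x₁ * x₁) (L.mul_mem hx₁ hx₁) hx₁sqM with h1 | h1
  · -- x₁ ∈ {1, j} ⊆ M
    right
    refine ⟨?_, hyy⟩
    rcases h.hiL x₁ hx₁ h1 with h3 | h3
    · rw [h3, one_mul]; exact hx₂
    · rw [h3]; exact M.mul_mem h.hjM hx₂
  · left
    refine ⟨?_, hyy⟩
    have h2 : x₂ * x₂ = 1 := by
      rw [h1] at hsq
      exact mul_left_cancel (a := j) (by rw [hsq, mul_one])
    rcases h.hiM x₂ hx₂ h2 with h3 | h3
    · rw [h3, mul_one]; exact hx₁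
    · rw [h3]; exact L.mul_mem hx₁ h.hjL

/-- `L = C_{LM}(Ω_M)` -/
theorem centY (h : Pair L M j) : ∀ y ∈ L ⊔ M, (∀ x, Om M j x → y * x = x * y) → y ∈ L := by
  intro y hy hcomm
  obtain ⟨l₁, hl₁, l₂, hl₂, rfl⟩ := h.hprod y hy
  have h1 : ∀ x ∈ M, x * x = j → l₂ * x = x * l₂ := by
    intro x hx hxx
    have h2 := hcomm x ⟨hx, hxx⟩
    have h3 : l₁ * x = x * l₁ := h.hc l₁ hl₁ x hx
    calc l₂ * x = l₁⁻¹ * (l₁ * l₂ * x) := by group
      _ = l₁⁻¹ * (x * (l₁ * l₂)) := by rw [h2]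
      _ = l₁⁻¹ * (x * l₁) * l₂ := by group
      _ = l₁⁻¹ * (l₁ * x) * l₂ := by rw [h3]
      _ = x * l₂ := by group
  rcases h.hαM l₂ hl₂ h1 with h2 | h2
  · rw [h2, mul_one]; exact hl₁
  · rw [h2]; exact L.mul_mem hl₁ h.hjL

/-- an element normalizing the configuration -/
def Nm (L M : Subgroup G) (j : G) (m : G) : Prop :=
  m * j * m⁻¹ = j ∧ ∀ y ∈ L ⊔ M, m * y * m⁻¹ ∈ L ⊔ M

theorem Nm.symm {m : G} (hm : Nm L M j m) : Nm M L j m := ⟨hm.1, by rw [sup_comm]; exact hm.2⟩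

theorem conj_sq {m x : G} (hm : m * j * m⁻¹ = j) (hx : x * x = j) :
    (m * x * m⁻¹) * (m * x * m⁻¹) = j := by
  calc (m * x * m⁻¹) * (m * x * m⁻¹) = m * (x * x) * m⁻¹ := by group
    _ = j := by rw [hx, hm]

theorem conj_Om (h : Pair L M j) {m x : G} (hm : Nm L M j m) (hx : Om L j x ∨ Om M j x) :
    Om L j (m * x * m⁻¹) ∨ Om M j (m * x * m⁻¹) := by
  apply h.factA
  · apply hm.2
    rcases hx with hx | hx
    · exact (le_sup_left : L ≤ L ⊔ M) hx.1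
    · exact (le_sup_right : M ≤ L ⊔ M) hx.1
  · rcases hx with hx | hx
    · exact conj_sq hm.1 hx.2
    · exact conj_sq hm.1 hx.2

/-- two commuting elements from different `Ω`'s cannot be conjugated into the same `Ω` -/
theorem not_same (h : Pair L M j) {m x₁ x₂ : G} (h1 : Om L j x₁) (h2 : Om M j x₂) :
    ¬ (Om L j (m * x₁ * m⁻¹) ∧ Om L j (m * x₂ * m⁻¹)) := by
  rintro ⟨⟨h3, h4⟩, ⟨h5, h6⟩⟩
  have hcomm : (m * x₁ * m⁻¹) * (m * x₂ * m⁻¹) = (m * x₂ * m⁻¹) * (m * x₁ * m⁻¹) := by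
    have := h.hc x₁ h1.1 x₂ h2.1
    calc (m * x₁ * m⁻¹) * (m * x₂ * m⁻¹) = m * (x₁ * x₂) * m⁻¹ := by group
      _ = m * (x₂ * x₁) * m⁻¹ := by rw [this]
      _ = (m * x₂ * m⁻¹) * (m * x₁ * m⁻¹) := by group
  have hx₂ : x₂ = x₁ ∨ x₂ = x₁⁻¹ := by
    rcases h.hβL _ h3 _ h5 h4 h6 hcomm with h7 | h7
    · left
      have := mul_right_cancel h7
      exact mul_left_cancel this
    · right
      have h8 : m * x₂ * m⁻¹ = m * x₁⁻¹ * m⁻¹ := by rw [h7]; group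
      have := mul_right_cancel h8
      exact mul_left_cancel this
  apply h.factB x₂
  refine ⟨?_, h2⟩
  rcases hx₂ with h7 | h7
  · rw [h7]; exact h1
  · refine ⟨by rw [h7]; exact L.inv_mem h1.1, h2.2⟩

/-- `m` preserves both `Ω`'s -/
def Pres (L M : Subgroup G) (j : G) (m : G) : Prop :=
  (∀ x, Om L j x → Om L j (m * x * m⁻¹)) ∧ (∀ x, Om M j x → Om M j (m * x * m⁻¹))

/-- `m` swaps the two `Ω`'s -/
def Swap (L M : Subgroup G) (j : G) (m : G) : Prop :=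
  (∀ x, Om L j x → Om M j (m * x * m⁻¹)) ∧ (∀ x, Om M j x → Om L j (m * x * m⁻¹))

theorem dichotomy (h : Pair L M j) {m : G} (hm : Nm L M j m) : Pres L M j m ∨ Swap L M j m := by
  obtain ⟨a₁, ha₁L, ha₁⟩ := h.haL
  obtain ⟨a₂, ha₂M, ha₂⟩ := h.haM
  have hO₁ : Om L j a₁ := ⟨ha₁L, ha₁⟩
  have hO₂ : Om M j a₂ := ⟨ha₂M, ha₂⟩
  rcases h.conj_Om hm (Or.inl hO₁) with h1 | h1
  · left
    have hM : ∀ x, Om M j x → Om M j (m * x * m⁻¹) := by
      intro x hx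
      rcases h.conj_Om hm (Or.inr hx) with h2 | h2
      · exact absurd ⟨h1, h2⟩ (h.not_same hO₁ hx)
      · exact h2
    refine ⟨?_, hM⟩
    intro x hx
    rcases h.conj_Om hm (Or.inl hx) with h2 | h2
    · exact h2
    · exact absurd ⟨hM a₂ hO₂, h2⟩ (h.symm.not_same hO₂ hx)
  · right
    have hM : ∀ x, Om M j x → Om L j (m * x * m⁻¹) := by
      intro x hx
      rcases h.conj_Om hm (Or.inr hx) with h2 | h2
      · exact h2
      · exact absurd ⟨h2, h1⟩ (h.symm.not_same hx hO₁)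
    refine ⟨?_, hM⟩
    intro x hx
    rcases h.conj_Om hm (Or.inl hx) with h2 | h2
    · exact absurd ⟨h2, hM a₂ hO₂⟩ (h.not_same hx hO₂)
    · exact h2

theorem pres_inv (h : Pair L M j) {m : G} (hm' : Nm L M j m⁻¹) (hp : Pres L M j m) :
    Pres L M j m⁻¹ := by
  rcases h.dichotomy hm' with h1 | h1
  · exact h1
  · exfalso
    obtain ⟨a₁, ha₁L, ha₁⟩ := h.haL
    have h2 := h1.1 a₁ ⟨ha₁L, ha₁⟩
    have h3 := hp.2 _ h2
    have h4 : m * (m⁻¹ * a₁ * m⁻¹⁻¹) * m⁻¹ = a₁ := by group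
    rw [h4] at h3
    exact h.factB a₁ ⟨⟨ha₁L, ha₁⟩, h3⟩

theorem swap_inv (h : Pair L M j) {m : G} (hm' : Nm L M j m⁻¹) (hp : Swap L M j m) :
    Swap L M j m⁻¹ := by
  rcases h.dichotomy hm' with h1 | h1
  · exfalso
    obtain ⟨a₁, ha₁L, ha₁⟩ := h.haL
    have h2 := h1.1 a₁ ⟨ha₁L, ha₁⟩
    have h3 := hp.1 _ h2
    have h4 : m * (m⁻¹ * a₁ * m⁻¹⁻¹) * m⁻¹ = a₁ := by group
    rw [h4] at h3
    exact h.factB a₁ ⟨⟨ha₁L, ha₁⟩, h3⟩
  · exact h1

/-- if `m⁻¹` preserves the `Ω`'s then `m` maps `L` into `L` -/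
theorem pres_le (h : Pair L M j) {m : G} (hm : Nm L M j m) (hp : Pres L M j m⁻¹) :
    ∀ l ∈ L, m * l * m⁻¹ ∈ L := by
  intro l hl
  apply h.centY _ (hm.2 l ((le_sup_left : L ≤ L ⊔ M) hl))
  intro x hx
  have h1 := hp.2 x hx
  rw [inv_inv] at h1
  have h2 := h.hc l hl _ h1.1
  calc m * l * m⁻¹ * x = m * (l * (m⁻¹ * x * m)) * m⁻¹ := by group
    _ = m * ((m⁻¹ * x * m) * l) * m⁻¹ := by rw [h2]
    _ = x * (m * l * m⁻¹) := by group

/-- if `m⁻¹` swaps the `Ω`'s then `m` maps `L` into `M` -/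
theorem swap_le (h : Pair L M j) {m : G} (hm : Nm L M j m) (hp : Swap L M j m⁻¹) :
    ∀ l ∈ L, m * l * m⁻¹ ∈ M := by
  intro l hl
  have hY : m * l * m⁻¹ ∈ M ⊔ L := by
    rw [sup_comm]; exact hm.2 l ((le_sup_left : L ≤ L ⊔ M) hl)
  apply h.symm.centY _ hY
  intro x hx
  have h1 := hp.1 x hx
  rw [inv_inv] at h1
  have h2 := h.hc l hl _ h1.1
  calc m * l * m⁻¹ * x = m * (l * (m⁻¹ * x * m)) * m⁻¹ := by group
    _ = m * ((m⁻¹ * x * m) * l) * m⁻¹ := by rw [h2]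
    _ = x * (m * l * m⁻¹) := by group

end Pair


theorem Pair.Pres.symm' {G : Type*} [Group G] {L M : Subgroup G} {j m : G} (h : Pair.Pres L M j m) :
    Pair.Pres M L j m := ⟨h.2, h.1⟩

theorem Pair.Swap.symm' {G : Type*} [Group G] {L M : Subgroup G} {j m : G} (h : Pair.Swap L M j m) :
    Pair.Swap M L j m := ⟨h.2, h.1⟩

theorem map_conj_eq {G : Type*} [Group G] (L K : Subgroup G) (n : G)
    (h1 : ∀ l ∈ L, n * l * n⁻¹ ∈ K) (h2 : ∀ k ∈ K, n⁻¹ * k * n ∈ L) :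
    L.map (MulAut.conj n).toMonoidHom = K := by
  ext x
  constructor
  · rintro ⟨l, hl, rfl⟩
    simpa using h1 l hl
  · intro hx
    refine ⟨n⁻¹ * x * n, h2 x hx, ?_⟩
    simp [MulAut.conj_apply, mul_assoc]


/-- Let G be a finite group with subgroups L₁ ≅ SL₂(q₁) and L₂ ≅ SL₂(q₂), q₁ and q₂ odd prime powers, which commute elementwise and meet in ⟨j⟩ for an involution j, and suppose L₁L₂ has index 2 in C_G(j). Then every element n of C_G(j) outside L₁L₂ either normalizes both L₁ and L₂, or conjugates L₁ onto L₂; in the second case q₁ = q₂ and there is an element n′ of C_G(j) outside L₁L₂ conjugating L₁ onto L₂ with n′² ∈ ⟨j⟩. -/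
theorem result {G : Type*} [Group G] [Finite G]
    {F₁ : Type*} [Field F₁] [Fintype F₁] {F₂ : Type*} [Field F₂] [Fintype F₂]
    (hF₁ : Odd (Fintype.card F₁)) (hF₂ : Odd (Fintype.card F₂)) (L₁ L₂ : Subgroup G)
    (e₁ : ↥L₁ ≃* Matrix.SpecialLinearGroup (Fin 2) F₁) (e₂ : ↥L₂ ≃* Matrix.SpecialLinearGroup (Fin 2) F₂)
    (hc : ∀ x ∈ L₁, ∀ y ∈ L₂, x * y = y * x) (j : G) (hj : orderOf j = 2) (hm : L₁ ⊓ L₂ = Subgroup.zpowers j)
    (hle : L₁ ⊔ L₂ ≤ Subgroup.centralizer ({j} : Set G)) (hi : (L₁ ⊔ L₂).relIndex (Subgroup.centralizer ({j} : Set G)) = 2) (n : G) (hn : n ∈ Subgroup.centralizer ({j} : Set G)) (hn' : n ∉ L₁ ⊔ L₂) :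
    (L₁.map (MulAut.conj n).toMonoidHom = L₁ ∧ L₂.map (MulAut.conj n).toMonoidHom = L₂) ∨
      (L₁.map (MulAut.conj n).toMonoidHom = L₂ ∧ Fintype.card F₁ = Fintype.card F₂ ∧
        ∃ n' ∈ Subgroup.centralizer ({j} : Set G), n' ∉ L₁ ⊔ L₂ ∧ L₁.map (MulAut.conj n').toMonoidHom = L₂ ∧ n' ^ 2 ∈ Subgroup.zpowers j) := by
  have hj2 : j * j = 1 := by
    have := pow_orderOf_eq_one j
    rwa [hj, pow_two] at this
  have hj1 : j ≠ 1 := by
    intro h; rw [h, orderOf_one] at hj; omega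
  have hjmem : j ∈ L₁ ⊓ L₂ := by rw [hm]; exact Subgroup.mem_zpowers j
  have hjL₁ : j ∈ L₁ := hjmem.1
  have hjL₂ : j ∈ L₂ := hjmem.2
  have hinter : ∀ z, z ∈ L₁ → z ∈ L₂ → z = 1 ∨ z = j := by
    intro z hz1 hz2
    have hz : z ∈ Subgroup.zpowers j := by rw [← hm]; exact ⟨hz1, hz2⟩
    obtain ⟨k, hk⟩ := Subgroup.mem_zpowers_iff.mp hz
    have hk' : j ^ (k % 2) = z := by
      have := zpow_mod_orderOf j k
      rw [hj] at this
      rw [← hk]; exact_mod_cast this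
    rcases Int.emod_two_eq_zero_or_one k with h0 | h1
    · left; rw [h0, zpow_zero] at hk'; exact hk'.symm
    · right; rw [h1, zpow_one] at hk'; exact hk'.symm
  obtain ⟨hi₁, a₁, ha₁L, ha₁, -⟩ := side hF₁ L₁ e₁ j hjL₁ hj2 hj1
  obtain ⟨hi₂, a₂, ha₂L, ha₂, -⟩ := side hF₂ L₂ e₂ j hjL₂ hj2 hj1
  obtain ⟨hα₁, hβ₁⟩ := side2 hF₁ L₁ e₁ j hjL₁ hj2 hj1
  obtain ⟨hα₂, hβ₂⟩ := side2 hF₂ L₂ e₂ j hjL₂ hj2 hj1
  have hP : Pair L₁ L₂ j :=
    { hc := hc, hj2 := hj2, hj1 := hj1, hjL := hjL₁, hjM := hjL₂, hinter := hinter, hiL := hi₁,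
      hiM := hi₂, haL := ⟨a₁, ha₁L, ha₁⟩, haM := ⟨a₂, ha₂L, ha₂⟩, hαL := hα₁, hαM := hα₂,
      hβL := hβ₁, hβM := hβ₂ }
  set C := Subgroup.centralizer ({j} : Set G) with hC
  have hYn : ((L₁ ⊔ L₂).subgroupOf C).Normal := Subgroup.normal_of_index_eq_two hi
  have hmemC : ∀ m, m ∈ C ↔ m * j = j * m := fun m => Subgroup.mem_centralizer_singleton_iff
  have hNm : ∀ m ∈ C, Pair.Nm L₁ L₂ j m := by
    intro m hmC
    refine ⟨?_, ?_⟩
    · rw [(hmemC m).mp hmC]; group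
    · intro y hy
      have := hYn.conj_mem ⟨y, hle hy⟩ (Subgroup.mem_subgroupOf.mpr hy) ⟨m, hmC⟩
      simpa [Subgroup.mem_subgroupOf] using this
  have hni : n⁻¹ ∈ C := C.inv_mem hn
  have hL₁Y : L₁ ≤ L₁ ⊔ L₂ := le_sup_left
  have hL₂Y : L₂ ≤ L₁ ⊔ L₂ := le_sup_right
  rcases hP.dichotomy (hNm n hn) with hp | hs
  · left
    have hpi := hP.pres_inv (hNm _ hni) hp
    have hp' : Pair.Pres L₁ L₂ j n⁻¹⁻¹ := by rw [inv_inv]; exact hp
    refine ⟨map_conj_eq L₁ L₁ n (hP.pres_le (hNm n hn) hpi) ?_,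
      map_conj_eq L₂ L₂ n (hP.symm.pres_le (hNm n hn).symm hpi.symm') ?_⟩
    · intro k hk
      have := hP.pres_le (hNm _ hni) hp' k hk
      rwa [inv_inv] at this
    · intro k hk
      have := hP.symm.pres_le (hNm _ hni).symm hp'.symm' k hk
      rwa [inv_inv] at this
  · right
    have hsi := hP.swap_inv (hNm _ hni) hs
    have hs' : Pair.Swap L₁ L₂ j n⁻¹⁻¹ := by rw [inv_inv]; exact hs
    -- the four inclusions
    have ha : ∀ l ∈ L₁, n * l * n⁻¹ ∈ L₂ := hP.swap_le (hNm n hn) hsi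
    have hb : ∀ k ∈ L₂, n⁻¹ * k * n ∈ L₁ := by
      intro k hk
      have := hP.symm.swap_le (hNm _ hni).symm hs'.symm' k hk
      rwa [inv_inv] at this
    have hc' : ∀ k ∈ L₂, n * k * n⁻¹ ∈ L₁ := hP.symm.swap_le (hNm n hn).symm hsi.symm'
    have hd : ∀ l ∈ L₁, n⁻¹ * l * n ∈ L₂ := by
      intro l hl
      have := hP.swap_le (hNm _ hni) hs' l hl
      rwa [inv_inv] at this
    have hmap : L₁.map (MulAut.conj n).toMonoidHom = L₂ := map_conj_eq L₁ L₂ n ha hb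
    refine ⟨hmap, ?_, ?_⟩
    · -- cardinalities
      let f1 : ↥L₁ ≃* ↥(L₁.map (MulAut.conj n).toMonoidHom) := (MulAut.conj n).subgroupMap L₁
      let f2 : ↥(L₁.map (MulAut.conj n).toMonoidHom) ≃* ↥L₂ := MulEquiv.subgroupCongr hmap
      exact card_eq_of_sl2_equiv ((e₁.symm.trans (f1.trans f2)).trans e₂)
    · -- the element n'
      have hnn : n * n ∈ L₁ ⊔ L₂ := by
        have := Subgroup.mul_self_mem_of_index_two hi (⟨n, hn⟩ : C)
        simpa [Subgroup.mem_subgroupOf] using this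
      obtain ⟨y₁, hy₁, y₂, hy₂, hy⟩ := hP.hprod _ hnn
      refine ⟨n * y₁⁻¹, C.mul_mem hn (C.inv_mem (hle (hL₁Y hy₁))), ?_, ?_, ?_⟩
      · intro h
        apply hn'
        have : n = (n * y₁⁻¹) * y₁ := by group
        rw [this]
        exact (L₁ ⊔ L₂).mul_mem h (hL₁Y hy₁)
      · apply map_conj_eq
        · intro l hl
          have h1 : y₁⁻¹ * l * y₁ ∈ L₁ := L₁.mul_mem (L₁.mul_mem (L₁.inv_mem hy₁) hl) hy₁
          have := ha _ h1
          have h2 : n * y₁⁻¹ * l * (n * y₁⁻¹)⁻¹ = n * (y₁⁻¹ * l * y₁) * n⁻¹ := by group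
          rwa [h2]
        · intro k hk
          have h1 := hb k hk
          have h2 : (n * y₁⁻¹)⁻¹ * k * (n * y₁⁻¹) = y₁ * (n⁻¹ * k * n) * y₁⁻¹ := by group
          rw [h2]
          exact L₁.mul_mem (L₁.mul_mem hy₁ h1) (L₁.inv_mem hy₁)
      · rw [pow_two, ← hm]
        -- membership in L₂
        have hz : n⁻¹ * y₁⁻¹ * n ∈ L₂ := hd _ (L₁.inv_mem hy₁)
        have hw : y₂ * (n⁻¹ * y₁⁻¹ * n) ∈ L₂ := L₂.mul_mem hy₂ hz
        have hL₂ : n * y₁⁻¹ * (n * y₁⁻¹) ∈ L₂ := by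
          have h1 : n * y₁⁻¹ * (n * y₁⁻¹) = (n * n) * (n⁻¹ * y₁⁻¹ * n) * y₁⁻¹ := by group
          have h2 : y₁ * (y₂ * (n⁻¹ * y₁⁻¹ * n)) = (y₂ * (n⁻¹ * y₁⁻¹ * n)) * y₁ := hc y₁ hy₁ _ hw
          have h3 : n * y₁⁻¹ * (n * y₁⁻¹) = y₂ * (n⁻¹ * y₁⁻¹ * n) := by
            rw [h1, hy]
            calc y₁ * y₂ * (n⁻¹ * y₁⁻¹ * n) * y₁⁻¹ = (y₁ * (y₂ * (n⁻¹ * y₁⁻¹ * n))) * y₁⁻¹ := by group
              _ = (y₂ * (n⁻¹ * y₁⁻¹ * n)) * y₁ * y₁⁻¹ := by rw [h2]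
              _ = y₂ * (n⁻¹ * y₁⁻¹ * n) := by group
          rw [h3]; exact hw
        refine ⟨?_, hL₂⟩
        -- membership in L₁: conjugate by n'
        set t := n * y₁⁻¹ * (n * y₁⁻¹) with ht
        have h1 : t = (n * y₁⁻¹) * t * (n * y₁⁻¹)⁻¹ := by rw [ht]; group
        have h2 : (n * y₁⁻¹) * t * (n * y₁⁻¹)⁻¹ = n * (y₁⁻¹ * t * y₁) * n⁻¹ := by group
        have h3 : y₁⁻¹ * t * y₁ = t := by
          have := hc y₁⁻¹ (L₁.inv_mem hy₁) t hL₂
          rw [this]; group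
        rw [h1, h2, h3]
        exact hc' t hL₂

end Cfsg.Agent.S3210
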