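import Cfsg.Statements.S0728
import Mathlib
-- import your own Cfsg.Agent.* helpers here

set_option autoImplicit false
open Cfsg

namespace Cfsg.Agent.S0728

/-- an embedding of `Fin 3` from three distinct points -/
def emb3 {α : Type*} (c1 c2 c3 : α) (h12 : c1 ≠ c2) (h13 : c1 ≠ c3) (h23 : c2 ≠ c3) : Fin 3 ↪ α :=
  ⟨![c1, c2, c3], by
    intro i j hij
    fin_cases i <;> fin_cases j <;> first | rfl | (exfalso; simp at hij; tauto)⟩

theorem emb3_0 {α : Type*} (c1 c2 c3 : α) (h12 : c1 ≠ c2) (h13 : c1 ≠ c3) (h23 : c2 ≠ c3) :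
    emb3 c1 c2 c3 h12 h13 h23 0 = c1 := rfl
theorem emb3_1 {α : Type*} (c1 c2 c3 : α) (h12 : c1 ≠ c2) (h13 : c1 ≠ c3) (h23 : c2 ≠ c3) :
    emb3 c1 c2 c3 h12 h13 h23 1 = c2 := rfl
theorem emb3_2 {α : Type*} (c1 c2 c3 : α) (h12 : c1 ≠ c2) (h13 : c1 ≠ c3) (h23 : c2 ≠ c3) :
    emb3 c1 c2 c3 h12 h13 h23 2 = c3 := rfl

/-- In a sharply triply transitive group of even degree at least 6 (degree `q + 1`, `q` odd), a two-point stabiliser has at most one subgroup of order 3. -/
theorem result {α : Type*} [Fintype α] [DecidableEq α] (heven : Even (Fintype.card α)) (h6 : 6 ≤ Fintype.card α) (G : Subgroup (Equiv.Perm α)) (h3 : MulAction.IsMultiplyPretransitive G α 3) (hsharp : ∀ x : Fin 3 ↪ α, MulAction.stabilizer G x = ⊥) {a b : α} (hab : a ≠ b) (A B : Subgroup G) (hA : A ≤ MulAction.stabilizer G a ⊓ MulAction.stabilizer G b) (hB : B ≤ MulAction.stabilizer G a ⊓ MulAction.stabilizer G b) (hA3 : Nat.card A = 3) (hB3 : Nat.card B = 3) : A = B := by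
  classical
  -- sharpness
  have sharp : ∀ (g : G) (c1 c2 c3 : α), c1 ≠ c2 → c1 ≠ c3 → c2 ≠ c3 →
      g • c1 = c1 → g • c2 = c2 → g • c3 = c3 → g = 1 := by
    intro g c1 c2 c3 h12 h13 h23 e1 e2 e3
    have hmem : g ∈ MulAction.stabilizer G (emb3 c1 c2 c3 h12 h13 h23) := by
      rw [MulAction.mem_stabilizer_iff]
      ext i
      fin_cases i
      · exact e1
      · exact e2
      · exact e3
    rw [hsharp] at hmem
    exact Subgroup.mem_bot.mp hmem
  have trans : ∀ (c1 c2 c3 d1 d2 d3 : α), c1 ≠ c2 → c1 ≠ c3 → c2 ≠ c3 → d1 ≠ d2 → d1 ≠ d3 →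
      d2 ≠ d3 → ∃ g : G, g • c1 = d1 ∧ g • c2 = d2 ∧ g • c3 = d3 := by
    intro c1 c2 c3 d1 d2 d3 h12 h13 h23 k12 k13 k23
    obtain ⟨g, hg⟩ := h3.exists_smul_eq (emb3 c1 c2 c3 h12 h13 h23) (emb3 d1 d2 d3 k12 k13 k23)
    refine ⟨g, ?_, ?_, ?_⟩
    · exact congrArg (fun e : Fin 3 ↪ α => e 0) hg
    · exact congrArg (fun e : Fin 3 ↪ α => e 1) hg
    · exact congrArg (fun e : Fin 3 ↪ α => e 2) hg
  -- two elements agreeing on three points are equal
  have agree : ∀ (g h : G) (c1 c2 c3 : α), c1 ≠ c2 → c1 ≠ c3 → c2 ≠ c3 →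
      g • c1 = h • c1 → g • c2 = h • c2 → g • c3 = h • c3 → g = h := by
    intro g h c1 c2 c3 h12 h13 h23 e1 e2 e3
    have : h⁻¹ * g = 1 := by
      apply sharp _ c1 c2 c3 h12 h13 h23
      · rw [mul_smul, e1, inv_smul_smul]
      · rw [mul_smul, e2, inv_smul_smul]
      · rw [mul_smul, e3, inv_smul_smul]
    exact (inv_mul_eq_one.mp this).symm
  -- a third point
  obtain ⟨c, hca, hcb⟩ : ∃ c : α, c ≠ a ∧ c ≠ b := by
    by_contra hno
    push Not at hno
    have : (Finset.univ : Finset α) ⊆ {a, b} := by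
      intro c _
      by_cases h : c = a
      · simp [h]
      · simp [hno c h]
    have := Finset.card_le_card this
    rw [Finset.card_univ] at this
    have h2 : ({a, b} : Finset α).card ≤ 2 := Finset.card_le_two
    omega
  -- key lemma: elements of order 3 in the two-point stabiliser
  have key : ∀ x y : G, x • a = a → x • b = b → y • a = a → y • b = b → x ≠ 1 → y ≠ 1 →
      x ^ 3 = 1 → y ^ 3 = 1 → y = x ∨ y = x⁻¹ := by
    intro x y hxa hxb hya hyb hx1 hy1 hx3 hy3
    -- general facts about an element z of order 3 fixing a, b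
    have facts : ∀ z : G, z • a = a → z • b = b → z ≠ 1 → z ^ 3 = 1 →
        (z • c ≠ c ∧ z • z • c ≠ c ∧ z • z • c ≠ z • c ∧ z • z • z • c = c ∧
          ∀ e : α, z • e = e → e = a ∨ e = b) := by
      intro z hza hzb hz1 hz3
      have hfix : ∀ e : α, z • e = e → e = a ∨ e = b := by
        intro e he
        by_contra hne
        push Not at hne
        exact hz1 (sharp z a b e hab (Ne.symm hne.1) (Ne.symm hne.2) hza hzb he)
      have h3c : z • z • z • c = c := by
        have e3 : z * z * z = z ^ 3 := by rw [pow_succ, pow_two]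
        rw [← mul_smul, ← mul_smul, e3, hz3, one_smul]
      have h1 : z • c ≠ c := by
        intro h
        rcases hfix c h with h | h
        · exact hca h
        · exact hcb h
      have h2 : z • z • c ≠ z • c := by
        intro h
        exact h1 (MulAction.injective z h)
      have h2' : z • z • c ≠ c := by
        intro h
        rw [h] at h3c
        exact h1 h3c
      exact ⟨h1, h2', h2, h3c, hfix⟩
    obtain ⟨x1, x2, x21, x3, xfix⟩ := facts x hxa hxb hx1 hx3
    obtain ⟨y1, y2, y21, y3, yfix⟩ := facts y hya hyb hy1 hy3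
    -- g : (c, xc, x²c) ↦ (c, yc, y²c)
    obtain ⟨g, gc, gxc, gxxc⟩ := trans c (x • c) (x • x • c) c (y • c) (y • y • c)
      (Ne.symm x1) (Ne.symm x2) (Ne.symm x21) (Ne.symm y1) (Ne.symm y2) (Ne.symm y21)
    -- g' : (c, x²c, xc) ↦ (c, yc, y²c)
    obtain ⟨g', g'c, g'xxc, g'xc⟩ := trans c (x • x • c) (x • c) c (y • c) (y • y • c)
      (Ne.symm x2) (Ne.symm x1) x21 (Ne.symm y1) (Ne.symm y2) (Ne.symm y21)
    -- conjugation relations
    have hconj : g * x = y * g := by
      apply agree _ _ c (x • c) (x • x • c) (Ne.symm x1) (Ne.symm x2) (Ne.symm x21)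
      · rw [mul_smul, mul_smul, gxc, gc]
      · rw [mul_smul, mul_smul, gxxc, gxc]
      · rw [mul_smul, mul_smul, x3, gc, gxxc, y3]
    have hx3' : x⁻¹ = x * x := by
      rw [inv_eq_iff_mul_eq_one, ← mul_assoc]
      have e3 : x * x * x = x ^ 3 := by rw [pow_succ, pow_two]
      rw [e3]
      exact hx3
    have hconj' : g' * x⁻¹ = y * g' := by
      apply agree _ _ c (x • c) (x • x • c) (Ne.symm x1) (Ne.symm x2) (Ne.symm x21)
      · rw [mul_smul, mul_smul, hx3', mul_smul, g'xxc, g'c]
      · rw [mul_smul, mul_smul, inv_smul_smul, g'c, g'xc, y3]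
      · rw [mul_smul, mul_smul, inv_smul_smul, g'xc, g'xxc]
    -- g maps fixed points of x to fixed points of y
    have gfix : ∀ (k z : G), k * z = y * k → ∀ e : α, z • e = e → k • e = a ∨ k • e = b := by
      intro k z hk e he
      apply yfix
      rw [← mul_smul, ← hk, mul_smul, he]
    have hxinva : x⁻¹ • a = a := by rw [inv_smul_eq_iff, hxa]
    have hxinvb : x⁻¹ • b = b := by rw [inv_smul_eq_iff, hxb]
    -- case analysis on g
    have swap_or_one : ∀ (k z : G), k * z = y * k → z • a = a → z • b = b → k • c = c →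
        k = 1 ∨ (k • a = b ∧ k • b = a) := by
      intro k z hk hza hzb hkc
      have ha' := gfix k z hk a hza
      have hb' := gfix k z hk b hzb
      have hinj : k • a ≠ k • b := fun h => hab (MulAction.injective k h)
      rcases ha' with ha' | ha'
      · rcases hb' with hb' | hb'
        · exact absurd (ha'.trans hb'.symm) hinj
        · left
          exact sharp k a b c hab (Ne.symm hca) (Ne.symm hcb) ha' hb' hkc
      · rcases hb' with hb' | hb'
        · right; exact ⟨ha', hb'⟩
        · exact absurd (ha'.trans hb'.symm) hinj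
    rcases swap_or_one g x hconj hxa hxb gc with h1 | ⟨hga, hgb⟩
    · left
      rw [h1, one_mul, mul_one] at hconj
      exact hconj.symm
    · rcases swap_or_one g' x⁻¹ hconj' hxinva hxinvb g'c with h1 | ⟨hg'a, hg'b⟩
      · right
        rw [h1, one_mul, mul_one] at hconj'
        exact hconj'.symm
      · exfalso
        have hgg' : g = g' := by
          apply agree _ _ a b c hab (Ne.symm hca) (Ne.symm hcb)
          · rw [hga, hg'a]
          · rw [hgb, hg'b]
          · rw [gc, g'c]
        rw [← hgg'] at hconj'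
        have : g * x = g * x⁻¹ := by rw [hconj, hconj']
        have hxx : x = x⁻¹ := mul_left_cancel this
        rw [hx3'] at hxx
        -- x = x * x ⇒ x = 1
        have : x = 1 := by
          have := congrArg (fun t => x⁻¹ * t) hxx
          simp only [inv_mul_cancel, inv_mul_cancel_left] at this
          exact this.symm
        exact hx1 this
  -- now conclude
  have hprime : Nat.Prime 3 := by norm_num
  haveI : Fact (Nat.Prime 3) := ⟨hprime⟩
  -- non-identity elements
  have exists_ne : ∀ (C : Subgroup G), Nat.card C = 3 → ∃ z ∈ C, z ≠ 1 := by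
    intro C hC
    by_contra hno
    push Not at hno
    have : C = ⊥ := by
      rw [Subgroup.eq_bot_iff_forall]
      exact hno
    rw [this, Subgroup.card_bot] at hC
    omega
  have pow3 : ∀ (C : Subgroup G), Nat.card C = 3 → ∀ z ∈ C, z ^ 3 = 1 := by
    intro C hC z hz
    have := pow_card_eq_one' (G := C) (x := ⟨z, hz⟩)
    rw [hC] at this
    exact congrArg Subtype.val this
  have zp : ∀ (C : Subgroup G), Nat.card C = 3 → ∀ z ∈ C, z ≠ 1 → Subgroup.zpowers z = C := by
    intro C hC z hz hz1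
    apply Subgroup.eq_of_le_of_card_ge
    · rw [Subgroup.zpowers_le]; exact hz
    · rw [hC, Nat.card_zpowers]
      have hdvd : orderOf z ∣ 3 := orderOf_dvd_of_pow_eq_one (pow3 C hC z hz)
      rcases (Nat.dvd_prime hprime).mp hdvd with h | h
      · exact absurd (orderOf_eq_one_iff.mp h) hz1
      · rw [h]
  obtain ⟨x, hxA, hx1⟩ := exists_ne A hA3
  obtain ⟨y, hyB, hy1⟩ := exists_ne B hB3
  have hxs := hA hxA
  have hys := hB hyB
  rw [Subgroup.mem_inf, MulAction.mem_stabilizer_iff, MulAction.mem_stabilizer_iff] at hxs hys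
  rw [← zp A hA3 x hxA hx1, ← zp B hB3 y hyB hy1]
  rcases key x y hxs.1 hxs.2 hys.1 hys.2 hx1 hy1 (pow3 A hA3 x hxA) (pow3 B hB3 y hyB) with h | h
  · rw [h]
  · rw [h, Subgroup.zpowers_inv]

end Cfsg.Agent.S0728
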