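import Cfsg.Statements.S3908
import Mathlib
import Cfsg.Agent.Lib.Helper67.EqualOrderConj
import Cfsg.Agent.Lib.Helper51.UniqueOrderP

set_option autoImplicit false
open Cfsg

namespace Cfsg.Agent.S3908

open Cfsg.Agent.Lib.Helper67

/-- A Sylow `p`-subgroup has a unique subgroup of order `p` or has exponent `p`. -/
theorem unique_or_exponent {G : Type*} [Group G] [Finite G]
    (hB : ∀ A B : Subgroup G, IsMulCommutative ↥A → IsMulCommutative ↥B →
      Nat.card ↥A = Nat.card ↥B → ∃ g : G, B = A.map (MulAut.conj g).toMonoidHom)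
    (p : ℕ) [Fact p.Prime] (P : Sylow p G) :
    (∀ H K : Subgroup ↥(P : Subgroup G), Nat.card H = p → Nat.card K = p → H = K) ∨
      ∀ x ∈ (P : Subgroup G), x ^ p = 1 := by
  by_cases hu : ∀ H K : Subgroup ↥(P : Subgroup G), Nat.card H = p → Nat.card K = p → H = K
  · exact Or.inl hu
  · right
    push Not at hu
    obtain ⟨H, K, hH, hK, hne⟩ := hu
    obtain ⟨E₀, hE₀card, hE₀exp, hE₀comm⟩ := exists_elementary_sq_of_ne P.2 hH hK hne
    apply pow_eq_one_of_conj_sq (P : Subgroup G) P.2 (E₀.map (P : Subgroup G).subtype)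
    · rintro _ ⟨e, he, rfl⟩
      rw [← map_pow, hE₀exp e he, map_one]
    · intro x hx hxord
      have hA : IsMulCommutative ↥(E₀.map (P : Subgroup G).subtype) := by
        refine ⟨⟨fun a b => Subtype.ext ?_⟩⟩
        obtain ⟨a, e, he, rfl⟩ := a
        obtain ⟨b, f, hf, rfl⟩ := b
        show (P : Subgroup G).subtype e * (P : Subgroup G).subtype f =
          (P : Subgroup G).subtype f * (P : Subgroup G).subtype e
        rw [← map_mul, ← map_mul, hE₀comm e he f hf]
      have hBc : IsMulCommutative ↥(Subgroup.zpowers x) := inferInstance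
      apply hB _ _ hA hBc
      rw [Nat.card_zpowers, hxord, Subgroup.card_map_of_injective (Subgroup.subtype_injective _),
        hE₀card]

/-- Let G be a finite group in which any two abelian subgroups of the same order are conjugate. Then a Sylow 2-subgroup of G is cyclic, elementary abelian or generalized quaternion, and for an odd prime p a Sylow p-subgroup of G is cyclic or has exponent dividing p. -/
theorem result {G : Type*} [Group G] [Finite G] (hB : ∀ A B : Subgroup G, IsMulCommutative ↥A → IsMulCommutative ↥B → Nat.card ↥A = Nat.card ↥B → ∃ g : G, B = A.map (MulAut.conj g).toMonoidHom) :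
    (∀ P : Sylow 2 G, IsCyclic ↥(P : Subgroup G) ∨ Cfsg.IsElementaryAbelian 2 (P : Subgroup G) ∨ ∃ k : ℕ, Nonempty (↥(P : Subgroup G) ≃* QuaternionGroup (2 ^ k))) ∧
    ∀ (p : ℕ) [Fact p.Prime], p ≠ 2 → ∀ P : Sylow p G, IsCyclic ↥(P : Subgroup G) ∨ ∀ x ∈ (P : Subgroup G), x ^ p = 1 := by
  constructor
  · intro P
    have : Fact (Nat.Prime 2) := ⟨Nat.prime_two⟩
    rcases unique_or_exponent hB 2 P with hu | hexp
    · rcases Cfsg.Agent.Lib.Helper51.cyclic_or_quaternion_of_uniqueOrderP 2 P.2 hu with h | ⟨_, h⟩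
      · exact Or.inl h
      · exact Or.inr (Or.inr h)
    · right; left
      refine ⟨⟨⟨fun a b => Subtype.ext ?_⟩⟩, hexp⟩
      have ha := hexp a a.2
      have hb := hexp b b.2
      have hab := hexp (a * b) (Subgroup.mul_mem _ a.2 b.2)
      show (a : G) * (b : G) = (b : G) * (a : G)
      have h1 : (a : G)⁻¹ = a := by rw [inv_eq_iff_mul_eq_one, ← pow_two]; exact ha
      have h2 : (b : G)⁻¹ = b := by rw [inv_eq_iff_mul_eq_one, ← pow_two]; exact hb
      have h3 : ((a : G) * b)⁻¹ = a * b := by rw [inv_eq_iff_mul_eq_one, ← pow_two]; exact hab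
      calc (a : G) * b = ((a : G) * b)⁻¹ := h3.symm
        _ = (b : G)⁻¹ * (a : G)⁻¹ := mul_inv_rev _ _
        _ = b * a := by rw [h1, h2]
  · intro p _ hp2 P
    rcases unique_or_exponent hB p P with hu | hexp
    · rcases Cfsg.Agent.Lib.Helper51.cyclic_or_quaternion_of_uniqueOrderP p P.2 hu with h | ⟨h, _⟩
      · exact Or.inl h
      · exact absurd h hp2
    · exact Or.inr hexp

end Cfsg.Agent.S3908
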