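import Cfsg.Statements.S3909
-- import your own Cfsg.Agent.* helpers here

set_option autoImplicit false
open Cfsg

namespace Cfsg.Agent.S3909


/-- Part 1 as a standalone lemma. -/
theorem part1 {G : Type*} [Group G] [Finite G] (hB : ∀ A B : Subgroup G, IsMulCommutative ↥A → IsMulCommutative ↥B → Nat.card ↥A = Nat.card ↥B → ∃ g : G, B = A.map (MulAut.conj g).toMonoidHom) (M : Subgroup G) [M.Normal] :
    ∀ a : G, (∃ m ∈ M, orderOf m = orderOf a) → a ∈ M := by
  rintro a ⟨m, hm, hma⟩
  obtain ⟨g, hg⟩ := hB (Subgroup.zpowers m) (Subgroup.zpowers a) inferInstance inferInstance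
    (by rw [Nat.card_zpowers, Nat.card_zpowers, hma])
  have ha : a ∈ (Subgroup.zpowers m).map (MulAut.conj g).toMonoidHom := by
    rw [← hg]; exact Subgroup.mem_zpowers a
  obtain ⟨x, hx, rfl⟩ := ha
  have hxM : x ∈ M := (Subgroup.zpowers_le.mpr hm) hx
  simpa using ‹M.Normal›.conj_mem x hxM g

/-- Let G be a finite group in which any two abelian subgroups of the same order are conjugate. Let M be a normal subgroup of G. If M contains an element of the same order as a ∈ G, then a ∈ M; and if M is elementary abelian of order p^t with p prime and t ≥ 2, then M is the unique Sylow p-subgroup of G. -/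
theorem result {G : Type*} [Group G] [Finite G] (hB : ∀ A B : Subgroup G, IsMulCommutative ↥A → IsMulCommutative ↥B → Nat.card ↥A = Nat.card ↥B → ∃ g : G, B = A.map (MulAut.conj g).toMonoidHom) (M : Subgroup G) [M.Normal] :
    (∀ a : G, (∃ m ∈ M, orderOf m = orderOf a) → a ∈ M) ∧
    ∀ (p t : ℕ) [Fact p.Prime], 2 ≤ t → Nat.card ↥M = p ^ t → Cfsg.IsElementaryAbelian p M → ∀ P : Sylow p G, (P : Subgroup G) = M := by
  refine ⟨part1 hB M, ?_⟩
  intro p t hp ht hcard hel P
  obtain ⟨hcomm, hexp⟩ := hel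
  -- M is a p-group
  have hMp : IsPGroup p M := IsPGroup.of_card hcard
  -- M ≤ P
  have hMP : M ≤ (P : Subgroup G) := by
    obtain ⟨Q, hQ⟩ := hMp.exists_le_sylow
    obtain ⟨g, rfl⟩ := MulAction.exists_smul_eq G Q P
    intro x hx
    rw [Sylow.smul_def, Sylow.pointwise_smul_def, Subgroup.mem_pointwise_smul_iff_inv_smul_mem]
    apply hQ
    simpa using ‹M.Normal›.conj_mem x hx g⁻¹
  -- a subgroup E of M of order p^2
  have hdvd : p ^ 2 ∣ Nat.card M := by
    rw [hcard]; exact pow_dvd_pow p ht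
  obtain ⟨E', hE'⟩ := Sylow.exists_subgroup_card_pow_prime p hdvd
  set E : Subgroup G := E'.map M.subtype with hE
  have hEcard : Nat.card E = p ^ 2 := by
    rw [hE, Subgroup.card_map_of_injective M.subtype_injective, hE']
  have hEM : E ≤ M := Subgroup.map_subtype_le E'
  have hEcomm : IsMulCommutative E := by
    refine ⟨⟨?_⟩⟩
    rintro ⟨x, hx⟩ ⟨y, hy⟩
    have := hcomm.is_comm.comm ⟨x, hEM hx⟩ ⟨y, hEM hy⟩
    apply Subtype.ext
    simpa using congrArg Subtype.val this
  -- every element of P satisfies x ^ p = 1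
  have hPexp : ∀ x ∈ (P : Subgroup G), x ^ p = 1 := by
    intro x hx
    obtain ⟨k, hk⟩ := (IsPGroup.iff_orderOf.mp P.2) ⟨x, hx⟩
    rw [Subgroup.orderOf_mk] at hk
    by_contra hne
    have hk2 : 2 ≤ k := by
      by_contra hlt
      apply hne
      have : k ≤ 1 := by omega
      have hdiv : orderOf x ∣ p := by
        rw [hk]; exact (pow_dvd_pow p this).trans (by simp)
      exact orderOf_dvd_iff_pow_eq_one.mp hdiv
    set y := x ^ p ^ (k - 2) with hy
    have hyord : orderOf y = p ^ 2 := by
      rw [hy, orderOf_pow_of_dvd (pow_ne_zero _ hp.out.ne_zero) (by rw [hk]; exact pow_dvd_pow p (by omega)), hk]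
      rw [Nat.pow_div (by omega) hp.out.pos]
      congr 1; omega
    obtain ⟨g, hg⟩ := hB E (Subgroup.zpowers y) hEcomm inferInstance
      (by rw [Nat.card_zpowers, hEcard, hyord])
    have hyE : y ∈ E.map (MulAut.conj g).toMonoidHom := by
      rw [← hg]; exact Subgroup.mem_zpowers y
    obtain ⟨e, he, hey⟩ := hyE
    have he1 : e ^ p = 1 := hexp e (hEM he)
    have hy1 : y ^ p = 1 := by
      rw [← hey, ← map_pow, he1, map_one]
    have : orderOf y ∣ p := orderOf_dvd_of_pow_eq_one hy1
    rw [hyord] at this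
    have h2 : p ^ 2 ≤ p := Nat.le_of_dvd hp.out.pos this
    have h3 : p < p ^ 2 := by
      calc p = p ^ 1 := (pow_one p).symm
        _ < p ^ 2 := Nat.pow_lt_pow_right hp.out.one_lt (by norm_num)
    omega
  -- M has an element of order p
  have hpM : p ∣ Nat.card M := by
    rw [hcard]; exact dvd_pow_self p (by omega)
  obtain ⟨m, hm⟩ := exists_prime_orderOf_dvd_card' p hpM
  apply le_antisymm _ hMP
  intro x hx
  by_cases hx1 : x = 1
  · rw [hx1]; exact M.one_mem
  · apply part1 hB M x
    refine ⟨m, m.2, ?_⟩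
    rw [← Subgroup.orderOf_coe] at hm
    rw [hm]
    exact (orderOf_eq_prime (hPexp x hx) hx1).symm

end Cfsg.Agent.S3909
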