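import Cfsg.Statements.S3911
import Cfsg.Agent.S3908
import Cfsg.Agent.S3909
import Cfsg.Agent.Lib.Helper66.BGroupQuot
-- import your own Cfsg.Agent.* helpers here

set_option autoImplicit false
open Cfsg

namespace Cfsg.Agent.S3911

open Cfsg.Agent.Lib.Helper66.BGroupQuot in
/-- Let G be a finite group in which any two abelian subgroups of the same order are conjugate. If M is a normal subgroup of G of odd order, then any two abelian subgroups of G/M of the same order are conjugate in G/M. -/
theorem result {G : Type*} [Group G] [Finite G] (hB : ∀ A B : Subgroup G, IsMulCommutative ↥A → IsMulCommutative ↥B → Nat.card ↥A = Nat.card ↥B → ∃ g : G, B = A.map (MulAut.conj g).toMonoidHom) (M : Subgroup G) [M.Normal] (hM : Odd (Nat.card ↥M)) :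
    ∀ A B : Subgroup (G ⧸ M), IsMulCommutative ↥A → IsMulCommutative ↥B → Nat.card ↥A = Nat.card ↥B →
      ∃ g : G ⧸ M, B = A.map (MulAut.conj g).toMonoidHom := by
  intro Abar Bbar hAc hBc hcard
  have hstar := (Cfsg.Agent.S3909.result hB M).1
  have hsyl := (Cfsg.Agent.S3908.result hB).2
  obtain ⟨A, hA, hAmin⟩ := exists_minLift M Abar
  obtain ⟨B, hB', hBmin⟩ := exists_minLift M Bbar
  have hAc' : ∀ x ∈ A.map (QuotientGroup.mk' M), ∀ y ∈ A.map (QuotientGroup.mk' M),
      x * y = y * x := by
    rw [hA]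
    intro x hx y hy
    have := hAc.is_comm.comm ⟨x, hx⟩ ⟨y, hy⟩
    exact congrArg Subtype.val this
  have hBc' : ∀ x ∈ B.map (QuotientGroup.mk' M), ∀ y ∈ B.map (QuotientGroup.mk' M),
      x * y = y * x := by
    rw [hB']
    intro x hx y hy
    have := hBc.is_comm.comm ⟨x, hx⟩ ⟨y, hy⟩
    exact congrArg Subtype.val this
  have hAcomm := minLift_comm M hstar hsyl hM hAmin hAc'
  have hBcomm := minLift_comm M hstar hsyl hM hBmin hBc'
  have hcardAB : Nat.card ↥A = Nat.card ↥B := by
    apply Nat.eq_of_factorization_eq (Nat.card_pos.ne') (Nat.card_pos.ne')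
    intro p
    by_cases hp : p.Prime
    · have : Fact p.Prime := Fact.mk hp
      rw [minLift_factorization M hstar hsyl hM hAmin hAc' p,
        minLift_factorization M hstar hsyl hM hBmin hBc' p, hA, hB', hcard]
    · rw [Nat.factorization_eq_zero_of_not_prime _ hp, Nat.factorization_eq_zero_of_not_prime _ hp]
  obtain ⟨g, hg⟩ := hB A B ⟨⟨fun x y => hAcomm x y⟩⟩ ⟨⟨fun x y => hBcomm x y⟩⟩ hcardAB
  refine ⟨QuotientGroup.mk' M g, ?_⟩
  rw [← hA, ← hB', hg, Subgroup.map_map, Subgroup.map_map]
  congr 1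

end Cfsg.Agent.S3911
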