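import Cfsg.Statements.S1041
-- import your own Cfsg.Agent.* helpers here

set_option autoImplicit false
open Cfsg

namespace Cfsg.Agent.S1041

open Cfsg.Lie

/-- Every root index of the datum is a positive or a negative root. -/
def PosOrNeg (D : ChevalleyDatum) : Prop := ∀ r < D.nroots, D.IsPosRoot r ∨ D.IsNegRoot r

theorem posOrNeg_G2 : PosOrNeg chevG2 := by unfold PosOrNeg; decide +kernel
theorem posOrNeg_B2 : PosOrNeg chevB2 := by unfold PosOrNeg; decide +kernel
theorem posOrNeg_D4 : PosOrNeg chevD4 := by unfold PosOrNeg; decide +kernel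
theorem posOrNeg_F4 : PosOrNeg chevF4 := by unfold PosOrNeg; decide +kernel
theorem posOrNeg_E6 : PosOrNeg chevE6 := by unfold PosOrNeg; decide +kernel
theorem posOrNeg_E7 : PosOrNeg chevE7 := by unfold PosOrNeg; decide +kernel
theorem posOrNeg_E8 : PosOrNeg chevE8 := by unfold PosOrNeg; decide +kernel

theorem posOrNeg_of_mem (D : ChevalleyDatum)
    (hD : D ∈ [chevG2, chevB2, chevD4, chevF4, chevE6, chevE7, chevE8]) : PosOrNeg D := by
  simp only [List.mem_cons, List.not_mem_nil, or_false] at hD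
  rcases hD with rfl | rfl | rfl | rfl | rfl | rfl | rfl
  · exact posOrNeg_G2
  · exact posOrNeg_B2
  · exact posOrNeg_D4
  · exact posOrNeg_F4
  · exact posOrNeg_E6
  · exact posOrNeg_E7
  · exact posOrNeg_E8

theorem sup_eq_of_posOrNeg {F : Type*} [Field F] (D : ChevalleyDatum) (h : PosOrNeg D) :
    D.posUnipotent F ⊔ D.negUnipotent F = D.group F := by
  unfold ChevalleyDatum.posUnipotent ChevalleyDatum.negUnipotent ChevalleyDatum.group
  rw [← Subgroup.closure_union]
  congr 1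
  ext g
  simp only [Set.mem_union, Set.mem_ofPred_eq]
  constructor
  · rintro (⟨r, t, hr, hg⟩ | ⟨r, t, hr, hg⟩)
    · refine ⟨⟨r, hr.1⟩, t, ?_⟩
      rw [hg, ChevalleyDatum.x, dif_pos hr.1]
    · refine ⟨⟨r, hr.1⟩, t, ?_⟩
      rw [hg, ChevalleyDatum.x, dif_pos hr.1]
  · rintro ⟨r, t, hg⟩
    rcases h r.1 r.2 with hr | hr
    · left
      refine ⟨r.1, t, hr, ?_⟩
      rw [hg, ChevalleyDatum.x, dif_pos r.2]
    · right
      refine ⟨r.1, t, hr, ?_⟩
      rw [hg, ChevalleyDatum.x, dif_pos r.2]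

/-- `U` and `V` generate the whole Chevalley group. -/
theorem result {F : Type*} [Field F] (D : Cfsg.Lie.ChevalleyDatum) (hD : D ∈ [Cfsg.Lie.chevG2, Cfsg.Lie.chevB2, Cfsg.Lie.chevD4, Cfsg.Lie.chevF4, Cfsg.Lie.chevE6, Cfsg.Lie.chevE7, Cfsg.Lie.chevE8]) : D.posUnipotent F ⊔ D.negUnipotent F = D.group F := by
  exact sup_eq_of_posOrNeg D (posOrNeg_of_mem D hD)

end Cfsg.Agent.S1041
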