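import Cfsg.Statements.S1030
import Cfsg.Agent.Lib.Helper17.ChevSL2

set_option autoImplicit false
open Cfsg

namespace Cfsg.Agent.S1030

open Cfsg.Lie Cfsg.Agent.Lib.Helper18 Cfsg.Agent.Lib.Helper17.SL2Pres Cfsg.Agent.Lib.Helper17.ChevSL2
open Cfsg.Agent.Lib.Helper19.NatSL2

theorem rootSubgroup_eq {F : Type*} [Field F] (D : Cfsg.Lie.ChevalleyDatum)
    (hD : D ∈ [chevG2, chevB2, chevD4, chevF4, chevE6, chevE7, chevE8]) (r : ℕ) :
    D.rootSubgroup F r = Subgroup.closure (Set.range fun t : F => xG hD r t) := by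
  unfold ChevalleyDatum.rootSubgroup
  congr 1
  ext g
  constructor
  · rintro ⟨t, ht⟩
    exact ⟨t, (eq_xG hD g r t ht).symm⟩
  · rintro ⟨t, rfl⟩
    exact ⟨t, rfl⟩

/-- There is a homomorphism `SL₂(F) → GL` with image `⟨X_r, X_{-r}⟩` sending `[[1,t],[0,1]]` to `x_r(t)` and `[[1,0],[t,1]]` to `x_{-r}(t)`. -/
theorem result {F : Type*} [Field F] (D : Cfsg.Lie.ChevalleyDatum) (hD : D ∈ [Cfsg.Lie.chevG2, Cfsg.Lie.chevB2, Cfsg.Lie.chevD4, Cfsg.Lie.chevF4, Cfsg.Lie.chevE6, Cfsg.Lie.chevE7, Cfsg.Lie.chevE8]) (r : ℕ) (hr : r < D.nroots) :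
    ∃ φ : Matrix.SpecialLinearGroup (Fin 2) F →* GL D.Idx F,
      φ.range = D.rootSubgroup F r ⊔ D.rootSubgroup F (D.neg r) ∧
      ∀ (g : Matrix.SpecialLinearGroup (Fin 2) F) (t : F),
        ((g : Matrix (Fin 2) (Fin 2) F) = !![1, t; 0, 1] → ((φ g : GL D.Idx F) : Matrix D.Idx D.Idx F) = D.x F r t) ∧
        ((g : Matrix (Fin 2) (Fin 2) F) = !![1, 0; t, 1] → ((φ g : GL D.Idx F) : Matrix D.Idx D.Idx F) = D.x F (D.neg r) t) := by
  obtain ⟨φ, h1, h2⟩ := exists_hom_root (F := F) D hD r hr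
  refine ⟨φ, ?_, fun g t => ⟨fun hg => ?_, fun hg => ?_⟩⟩
  · rw [range_eq φ h1 h2, rootSubgroup_eq D hD r, rootSubgroup_eq D hD (D.neg r)]
  · have : g = uu t := Subtype.ext hg
    rw [this, h1, coe_xG]
  · have : g = yy t := Subtype.ext hg
    rw [this, h2, coe_xG]

end Cfsg.Agent.S1030
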