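import Cfsg.Statements.S1081
import Cfsg.Agent.Lib.Helper18.GAutData
-- import your own Cfsg.Agent.* helpers here

set_option autoImplicit false
open Cfsg

namespace Cfsg.Agent.S1081

open Cfsg.Lie Cfsg.Agent.Lib.Helper18

universe u

/-- The check that the matrix maps the fundamental root vectors and their negatives as the permutation of the nodes,
without signs. -/
def simplesOK (D : ChevalleyDatum) (g : GraphData) : Prop :=
  ∀ i < D.rank, tabRoot g.tab (D.simple i) = D.simple (g.hp.getD i 0) ∧ tabSign g.tab (D.simple i) = 1 ∧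
    tabRoot g.tab (D.neg (D.simple i)) = D.neg (D.simple (g.hp.getD i 0)) ∧
    tabSign g.tab (D.neg (D.simple i)) = 1

instance (D : ChevalleyDatum) (g : GraphData) : Decidable (simplesOK D g) := by
  unfold simplesOK
  infer_instance

theorem graph_aut_exists {F : Type u} [Field F] {D : ChevalleyDatum}
    (hD : D ∈ [chevG2, chevB2, chevD4, chevF4, chevE6, chevE7, chevE8]) (C : ChevData.{u} D)
    (g : GraphData) (hok : g.ok C.T = true) (htab : simplesOK D g) :
    ∃ α : ↥(D.group F) ≃* ↥(D.group F), ∀ (x : ↥(D.group F)) (i : ℕ) (t : F), i < D.rank →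
      (((x : GL D.Idx F) : Matrix D.Idx D.Idx F) = D.x F (D.simple i) t →
        ((α x : GL D.Idx F) : Matrix D.Idx D.Idx F) = D.x F (D.simple (g.hp.getD i 0)) t) ∧
      (((x : GL D.Idx F) : Matrix D.Idx D.Idx F) = D.x F (D.neg (D.simple i)) t →
        ((α x : GL D.Idx F) : Matrix D.Idx D.Idx F) = D.x F (D.neg (D.simple (g.hp.getD i 0))) t) := by
  refine ⟨graphAut hD C g hok, ?_⟩
  intro x i t hi
  obtain ⟨h1, h2, h3, h4⟩ := htab i hi
  have hs : D.simple i < D.nroots := C.simple_lt i hi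
  have hns : D.neg (D.simple i) < D.nroots := neg_lt_nroots D hD _ hs
  constructor
  · intro hx
    rw [graphAut_root hD C g hok x _ hs t hx, h1, h2]
    simp
  · intro hx
    rw [graphAut_root hD C g hok x _ hns t hx, h3, h4]
    simp


/-- Graph automorphisms: for E₆ with ρ = (p₁ p₆)(p₃ p₅) and for D₄ with ρ the 3-cycle on the outer nodes there is a group automorphism sending `x_p(t) ↦ x_{ρ(p)}(t)` and `x_{-p}(t) ↦ x_{-ρ(p)}(t)` for every fundamental root `p`. -/
theorem result {F : Type*} [Field F] (p : Cfsg.Lie.ChevalleyDatum × List ℕ)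
    (hp : p ∈ [(Cfsg.Lie.chevE6, [5, 1, 4, 3, 2, 0]), (Cfsg.Lie.chevD4, [2, 1, 3, 0]), (Cfsg.Lie.chevD4, [3, 1, 0, 2])]) :
    ∃ α : ↥(p.1.group F) ≃* ↥(p.1.group F), ∀ (g : ↥(p.1.group F)) (i : ℕ) (t : F), i < p.1.rank →
      (((g : GL p.1.Idx F) : Matrix p.1.Idx p.1.Idx F) = p.1.x F (p.1.simple i) t →
        ((α g : GL p.1.Idx F) : Matrix p.1.Idx p.1.Idx F) = p.1.x F (p.1.simple (p.2.getD i 0)) t) ∧
      (((g : GL p.1.Idx F) : Matrix p.1.Idx p.1.Idx F) = p.1.x F (p.1.neg (p.1.simple i)) t →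
        ((α g : GL p.1.Idx F) : Matrix p.1.Idx p.1.Idx F) = p.1.x F (p.1.neg (p.1.simple (p.2.getD i 0))) t) := by
  simp only [List.mem_cons, List.not_mem_nil, or_false] at hp
  rcases hp with rfl | rfl | rfl
  · exact graph_aut_exists (by simp) chevData_E6.{u_1} graphData_E6_514320 graphData_E6_514320_ok (by decide +kernel)
  · exact graph_aut_exists (by simp) chevData_D4.{u_1} graphData_D4_2130 graphData_D4_2130_ok (by decide +kernel)
  · exact graph_aut_exists (by simp) chevData_D4.{u_1} graphData_D4_3102 graphData_D4_3102_ok (by decide +kernel)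

end Cfsg.Agent.S1081
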