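import Cfsg.Statements.S5522
import Cfsg.Agent.Lib.Helper7.M12General
import Cfsg.Agent.Lib.Helper92.M24Trans

set_option autoImplicit false
open Cfsg

namespace Cfsg.Agent.S5522
open Cfsg.Agent.Lib.Helper7 Cfsg.Agent.Lib.Helper92
open scoped Pointwise

/-- Mask of the dodecad of squares. -/
def dsqMask : ℕ := 0x5335f

theorem squareDodecad_eq : Spor.squareDodecad = Cfsg.Agent.Lib.Helper7.setOf dsqMask := by
  unfold Spor.squareDodecad
  rw [← wordOf_qrMask' 0, support₂_wordOf]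
  rfl

theorem dsq_mem_dodecads : Cfsg.Agent.Lib.Helper7.setOf dsqMask ∈ dodecads :=
  setOf_mem_dodecads (by decide +kernel)

theorem mem_M11_iff {g : Equiv.Perm GolayPt} :
    g ∈ Spor.M11 ↔ g ∈ stabM24 (Cfsg.Agent.Lib.Helper7.setOf dsqMask) ∧ g (pt 0) = pt 0 := by
  unfold Spor.M11 Spor.M12
  rw [squareDodecad_eq, Subgroup.mem_inf, MulAction.mem_stabilizer_iff]
  rfl

/-- A permutation of prime-power order with an invariant set whose size is prime to `p` fixes a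
point of the set. -/
theorem exists_fixed_in (g : Equiv.Perm GolayPt) (p : ℕ) [Fact p.Prime] (hg : g ^ p = 1)
    (s : Finset GolayPt) (hs : ∀ x, x ∈ s ↔ g x ∈ s) (hcard : ¬ p ∣ s.card) :
    ∃ a ∈ s, g a = a := by
  have hs' : ∀ x, (g x ∈ s) ↔ (x ∈ s) := fun x => (hs x).symm
  have h1 : (g.subtypePerm (p := fun x => x ∈ s) hs') ^ p ^ 1 = 1 := by
    rw [pow_one]
    ext ⟨x, hx⟩
    simp [Equiv.Perm.subtypePerm_pow, hg]
  have h2 : ¬ p ∣ Fintype.card {x // x ∈ s} := by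
    rw [Fintype.card_coe]; exact hcard
  obtain ⟨⟨a, ha⟩, hfix⟩ := Equiv.Perm.exists_fixed_point_of_prime h2 h1
  refine ⟨a, ha, ?_⟩
  have := congrArg Subtype.val hfix
  simpa using this

/-- Words in the stabilizer of the dodecad of squares mapping the points `0,1,2,3,4` to `0,1,3,2,z`. -/
def candInvTab : List (List ℕ) :=
  [[],
   [],
   [],
   [],
   [1, 1, 2, 0, 4, 2, 0, 3, 3, 2, 1, 3, 0, 2, 0, 0, 0, 2, 3, 3, 2, 2, 3, 2, 1, 3, 0, 2, 0, 0, 0, 2, 3, 3, 2, 4, 2, 3, 2, 1, 3, 0, 2, 0, 0, 0, 2, 3, 2, 1, 3, 0, 2, 0, 0, 0, 2, 3, 2, 1, 3, 0, 2, 0, 0, 0, 2, 3, 3, 3],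
   [],
   [3, 2, 1, 3, 0, 2, 0, 0, 0, 2, 1, 1, 2, 0, 4, 2, 0, 3, 4, 3, 4, 3, 2, 1, 3, 0, 2, 0, 0, 0, 2, 1, 1, 2, 0, 4, 2, 0, 3, 1, 1, 2, 0, 4, 2, 0, 3, 3, 2, 1, 3, 0, 2, 0, 0, 0, 2, 3, 3, 3, 3, 2, 1, 3, 0, 2, 0, 0, 0, 2],
   [],
   [3, 2, 1, 3, 0, 2, 0, 0, 0, 2, 1, 1, 2, 0, 4, 2, 0, 3, 3, 3, 2, 4, 2, 3, 2, 1, 3, 0, 2, 0, 0, 0, 2, 1, 1, 2, 0, 4, 2, 0, 3, 1, 1, 2, 0, 4, 2, 0, 3, 3, 3, 3],
   [3, 2, 1, 3, 0, 2, 0, 0, 0, 2, 3, 2, 1, 3, 0, 2, 0, 0, 0, 2, 3, 3, 2, 4, 2, 1, 1, 2, 0, 4, 2, 0, 3, 3, 2, 1, 3, 0, 2, 0, 0, 0, 2, 3, 2, 1, 3, 0, 2, 0, 0, 0, 2, 3, 3, 3],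
   [],
   [],
   [3, 3, 2, 4, 2, 3, 2, 1, 3, 0, 2, 0, 0, 0, 2, 3, 3, 2, 2, 1, 1, 2, 0, 4, 2, 0, 3, 1, 1, 2, 0, 4, 2, 0, 3, 3, 2, 1, 3, 0, 2, 0, 0, 0, 2, 3, 2, 1, 3, 0, 2, 0, 0, 0, 2, 1, 1, 2, 0, 4, 2, 0, 3],
   [3, 3, 2, 4, 2, 1, 1, 2, 0, 4, 2, 0, 3, 4, 3, 4, 1, 1, 2, 0, 4, 2, 0, 3, 1, 1, 2, 0, 4, 2, 0, 3, 3, 2, 1, 3, 0, 2, 0, 0, 0, 2, 3, 2, 1, 3, 0, 2, 0, 0, 0, 2, 3, 2, 1, 3, 0, 2, 0, 0, 0, 2, 4, 3, 4],
   [],
   [],
   [1, 1, 2, 0, 4, 2, 0, 3, 3, 2, 1, 3, 0, 2, 0, 0, 0, 2, 1, 1, 2, 0, 4, 2, 0, 3, 1, 1, 2, 0, 4, 2, 0, 3, 1, 1, 2, 0, 4, 2, 0, 3, 3, 3, 2, 4, 2, 1, 1, 2, 0, 4, 2, 0, 3, 3, 3, 3],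
   [],
   [3, 3, 3, 3, 2, 1, 3, 0, 2, 0, 0, 0, 2, 1, 1, 2, 0, 4, 2, 0, 3, 3, 3, 2, 4, 2, 3, 2, 1, 3, 0, 2, 0, 0, 0, 2, 1, 1, 2, 0, 4, 2, 0, 3, 3, 3, 2, 4, 2, 3, 2, 1, 3, 0, 2, 0, 0, 0, 2],
   [],
   [],
   [],
   [],
   []]

/-- Words in the stabilizer of the dodecad of squares mapping the points `0,1,2,3,4` to `0,1,2,4,z`. -/
def candThreeTab : List (List ℕ) :=
  [[],
   [],
   [],
   [],
   [],
   [],
   [3, 2, 1, 3, 0, 2, 0, 0, 0, 2, 3, 3, 2, 4, 2, 3, 2, 1, 3, 0, 2, 0, 0, 0, 2, 3, 3, 2, 4, 2, 1, 1, 2, 0, 4, 2, 0, 3, 1, 1, 2, 0, 4, 2, 0, 3, 1, 1, 2, 0, 4, 2, 0, 3, 3, 2, 1, 3, 0, 2, 0, 0, 0, 2, 3, 3, 2, 2],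
   [],
   [4, 3, 4, 3, 2, 1, 3, 0, 2, 0, 0, 0, 2, 1, 1, 2, 0, 4, 2, 0, 3, 3, 3, 3, 3, 2, 1, 3, 0, 2, 0, 0, 0, 2, 3, 3, 3, 1, 1, 2, 0, 4, 2, 0, 3, 3, 3, 2, 4, 2],
   [3, 3, 2, 4, 2, 1, 1, 2, 0, 4, 2, 0, 3, 1, 1, 2, 0, 4, 2, 0, 3, 3, 2, 1, 3, 0, 2, 0, 0, 0, 2, 1, 1, 2, 0, 4, 2, 0, 3, 3, 2, 1, 3, 0, 2, 0, 0, 0, 2, 3, 3, 2, 4, 2, 3, 2, 1, 3, 0, 2, 0, 0, 0, 2, 3, 3, 3],
   [],
   [],
   [1, 1, 2, 0, 4, 2, 0, 3, 3, 3, 2, 4, 2, 1, 1, 2, 0, 4, 2, 0, 3, 1, 1, 2, 0, 4, 2, 0, 3, 3, 2, 1, 3, 0, 2, 0, 0, 0, 2, 1, 1, 2, 0, 4, 2, 0, 3, 3, 3, 2, 2, 1, 1, 2, 0, 4, 2, 0, 3, 4, 3, 4],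
   [4, 3, 4, 1, 1, 2, 0, 4, 2, 0, 3, 3, 2, 1, 3, 0, 2, 0, 0, 0, 2, 4, 3, 4, 1, 1, 2, 0, 4, 2, 0, 3, 3, 2, 1, 3, 0, 2, 0, 0, 0, 2, 1, 1, 2, 0, 4, 2, 0, 3, 3, 3, 2, 4, 2],
   [],
   [],
   [1, 1, 2, 0, 4, 2, 0, 3, 3, 3, 2, 2, 3, 2, 1, 3, 0, 2, 0, 0, 0, 2, 1, 1, 2, 0, 4, 2, 0, 3, 3, 2, 1, 3, 0, 2, 0, 0, 0, 2, 3, 3, 2, 4, 2, 1, 1, 2, 0, 4, 2, 0, 3, 3, 2, 1, 3, 0, 2, 0, 0, 0, 2, 3, 3, 2, 4, 2],
   [],
   [3, 2, 1, 3, 0, 2, 0, 0, 0, 2, 3, 3, 3, 1, 1, 2, 0, 4, 2, 0, 3, 3, 2, 1, 3, 0, 2, 0, 0, 0, 2, 4, 3, 4, 3, 2, 1, 3, 0, 2, 0, 0, 0, 2, 1, 1, 2, 0, 4, 2, 0, 3, 3, 3, 2, 4, 2],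
   [],
   [],
   [],
   [],
   []]

/-- The five standard points `0,1,2,3,4` of the dodecad of squares. -/
def stdEmb : Fin 5 ↪ GolayPt := ⟨fun i => pt i.val, by
  intro i j h
  have := congrArg idx h
  rw [idx_pt (by omega), idx_pt (by omega)] at this
  exact Fin.ext this⟩

theorem stdEmb_mem : ∀ i, stdEmb i ∈ Cfsg.Agent.Lib.Helper7.setOf dsqMask := by
  intro i
  rw [mem_setOf]
  show dsqMask.testBit (idx (pt i.val)) = true
  rw [idx_pt (by omega)]
  revert i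
  decide

/-- An element of the stabilizer of the dodecad of squares agreeing with a word of that
stabilizer on the five standard points is that word. -/
theorem identify {g : Equiv.Perm GolayPt}
    (hg : g ∈ stabM24 (Cfsg.Agent.Lib.Helper7.setOf dsqMask)) (w : List ℕ)
    (hw : ∀ j < 24, dsqMask.testBit j = true → dsqMask.testBit (m24Eval w j) = true)
    (hagree : ∀ i < 5, g (pt i) = pt (m24Eval w i)) : g = m24Word w := by
  have hwmem : m24Word w ∈ stabM24 (Cfsg.Agent.Lib.Helper7.setOf dsqMask) := by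
    rw [mem_stabM24]
    exact ⟨m24Word_mem w, m24Word_smul_setOf w dsqMask dsqMask rfl hw⟩
  let y : Fin 5 ↪ GolayPt := stdEmb.trans g.toEmbedding
  have hy : ∀ i, y i ∈ Cfsg.Agent.Lib.Helper7.setOf dsqMask := by
    intro i
    show g (stdEmb i) ∈ _
    rw [apply_mem_of_mem_stabM24 hg]
    exact stdEmb_mem i
  obtain ⟨k, _, huniq⟩ := existsUnique_stabM24_map dsq_mem_dodecads stdEmb y stdEmb_mem hy
  have h1 : g = k := huniq g ⟨hg, fun i => rfl⟩
  have h2 : m24Word w = k := by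
    apply huniq
    refine ⟨hwmem, ?_⟩
    intro i
    show m24Word w (pt i.val) = g (pt i.val)
    rw [hagree i.val i.isLt, m24Word_apply_pt w (by omega)]
  rw [h1, h2]

/-- The set `D`: the dodecad of squares as the set of a mask. -/
abbrev D : Finset GolayPt := Cfsg.Agent.Lib.Helper7.setOf dsqMask

/-- An embedding of `Fin 5` from a duplicate-free list of five points. -/
def emb5 (l : List GolayPt) (hl : l.length = 5) (hn : l.Nodup) : Fin 5 ↪ GolayPt :=
  ⟨fun i => l.get (i.cast hl.symm), by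
    intro i j h
    have := (List.Nodup.get_inj_iff hn).mp h
    exact Fin.ext (by simpa using congrArg Fin.val this)⟩

/-- Move five distinct points of `D` to the standard points by an element of the stabilizer. -/
theorem exists_to_std (l : List GolayPt) (hl : l.length = 5) (hn : l.Nodup) (hD : ∀ q ∈ l, q ∈ D) :
    ∃ h ∈ stabM24 D, ∀ i : Fin 5, h (l.get (i.cast hl.symm)) = pt i.val := by
  obtain ⟨h, ⟨hh, hmap⟩, _⟩ := existsUnique_stabM24_map dsq_mem_dodecads (emb5 l hl hn) stdEmb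
    (fun i => hD _ (List.get_mem _ _)) stdEmb_mem
  exact ⟨h, hh, hmap⟩

/-- The indices of the points of `D` other than `0,1,2,3`. -/
def invZs : List ℕ := [4, 6, 8, 9, 12, 13, 16, 18]

/-- The indices of the points of `D` other than `0,1,2,3,4`. -/
def threeZs : List ℕ := [6, 8, 9, 12, 13, 16, 18]

theorem mem_invZs : ∀ z < 24, dsqMask.testBit z = true → z ∉ [0, 1, 2, 3] → z ∈ invZs := by
  decide

theorem mem_threeZs : ∀ z < 24, dsqMask.testBit z = true → z ∉ [0, 1, 2, 3, 4] → z ∈ threeZs := by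
  decide

set_option maxRecDepth 100000 in
theorem candInv_ok1 : ∀ z ∈ invZs,
    (∀ j < 24, dsqMask.testBit j = true →
      dsqMask.testBit (m24Eval (candInvTab.getD z []) j) = true) := by
  decide +kernel

set_option maxRecDepth 100000 in
theorem candInv_ok2 : ∀ z ∈ invZs,
    m24Eval (candInvTab.getD z []) 0 = 0 ∧ m24Eval (candInvTab.getD z []) 1 = 1 ∧
    m24Eval (candInvTab.getD z []) 2 = 3 ∧ m24Eval (candInvTab.getD z []) 3 = 2 ∧
    m24Eval (candInvTab.getD z []) 4 = z := by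
  decide +kernel

set_option maxRecDepth 100000 in
theorem candInv_ok3 : ∀ z ∈ invZs,
    ((∃ j < 24, m24Eval (candInvTab.getD z [] ++ candInvTab.getD z []) j ≠ j) ∨
      ∃ q < 24, dsqMask.testBit q = false ∧ m24Eval (candInvTab.getD z []) q = q) := by
  decide +kernel

set_option maxRecDepth 100000 in
theorem candThree_ok1 : ∀ z ∈ threeZs,
    (∀ j < 24, dsqMask.testBit j = true →
      dsqMask.testBit (m24Eval (candThreeTab.getD z []) j) = true) := by
  decide +kernel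

set_option maxRecDepth 100000 in
theorem candThree_ok2 : ∀ z ∈ threeZs,
    m24Eval (candThreeTab.getD z []) 0 = 0 ∧ m24Eval (candThreeTab.getD z []) 1 = 1 ∧
    m24Eval (candThreeTab.getD z []) 2 = 2 ∧ m24Eval (candThreeTab.getD z []) 3 = 4 ∧
    m24Eval (candThreeTab.getD z []) 4 = z := by
  decide +kernel

set_option maxRecDepth 100000 in
theorem candThree_ok3 : ∀ z ∈ threeZs,
    ((∃ j < 24, m24Eval (candThreeTab.getD z [] ++ candThreeTab.getD z [] ++
        candThreeTab.getD z []) j ≠ j) ∨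
      ∃ q < 24, dsqMask.testBit q = false ∧ m24Eval (candThreeTab.getD z []) q = q) := by
  decide +kernel

theorem m24Word_append' (w1 w2 : List ℕ) : m24Word (w1 ++ w2) = m24Word w1 * m24Word w2 := by
  simp [m24Word]

/-- Common end of the two arguments: the conjugate `g' = h g h⁻¹` is a word `w`, which either
contradicts the order or has a fixed point off `D`; pull the fixed point back. -/
theorem finish {g h : Equiv.Perm GolayPt} (hh : h ∈ stabM24 D) (w : List ℕ)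
    (hgw : h * g * h⁻¹ = m24Word w) (q : ℕ) (hq : q < 24) (hqD : dsqMask.testBit q = false)
    (hfix : m24Eval w q = q) : ∃ y, y ∉ D ∧ g y = y := by
  refine ⟨h⁻¹ (pt q), ?_, ?_⟩
  · intro hy
    have h1 : h (h⁻¹ (pt q)) ∈ D := (apply_mem_of_mem_stabM24 hh _).mpr hy
    have h2 : h (h⁻¹ (pt q)) = pt q := by simp
    rw [h2, mem_setOf, idx_pt hq, hqD] at h1
    exact absurd h1 (by decide)
  · have h1 : (h * g * h⁻¹) (pt q) = pt q := by
      rw [hgw, m24Word_apply_pt w hq, hfix]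
    rw [Equiv.Perm.mul_apply, Equiv.Perm.mul_apply] at h1
    have := congrArg (fun y => h⁻¹ y) h1
    simpa using this

theorem D_card : D.card = 12 := by
  rw [card_setOf]; decide

theorem conj_apply {g h : Equiv.Perm GolayPt} {x : GolayPt} {i : ℕ} (hx : h x = pt i) :
    (h * g * h⁻¹) (pt i) = h (g x) := by
  rw [Equiv.Perm.mul_apply, Equiv.Perm.mul_apply, ← hx]
  simp

theorem exists_moved {g : Equiv.Perm GolayPt} (hg : g ∈ stabM24 D) (hne : g ≠ 1) :
    ∃ c ∈ D, g c ≠ c := by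
  by_contra hcon
  push Not at hcon
  apply hne
  have := identify hg [] (by intro j _ h; exact h)
    (by intro i hi; rw [m24Eval_nil]; exact hcon _ (stdEmb_mem ⟨i, hi⟩))
  rw [this, m24Word_nil]

/-- The conjugate of `g` by `h`, both in the stabilizer, is the word `w` when it agrees with it on
the standard points. -/
theorem conj_identify {g h : Equiv.Perm GolayPt} (hg : g ∈ stabM24 D) (hh : h ∈ stabM24 D)
    (w : List ℕ)
    (hw : ∀ j < 24, dsqMask.testBit j = true → dsqMask.testBit (m24Eval w j) = true)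
    (hagree : ∀ i < 5, (h * g * h⁻¹) (pt i) = pt (m24Eval w i)) :
    h * g * h⁻¹ = m24Word w :=
  identify ((stabM24 D).mul_mem ((stabM24 D).mul_mem hh hg) ((stabM24 D).inv_mem hh)) w hw hagree

theorem inv_case {g : Equiv.Perm GolayPt} (hg : g ∈ stabM24 D) (h0 : g (pt 0) = pt 0)
    (h2 : g ^ 2 = 1) (hne : g ≠ 1) : ∃ y, y ∉ D ∧ g y = y := by
  have hgg : ∀ x, g (g x) = x := by
    intro x
    have := congrArg (fun f : Equiv.Perm GolayPt => f x) h2
    simpa [pow_two] using this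
  have hD : ∀ x, g x ∈ D ↔ x ∈ D := fun x => apply_mem_of_mem_stabM24 hg x
  have hp0 : pt 0 ∈ D := stdEmb_mem 0
  have : Fact (Nat.Prime 2) := ⟨Nat.prime_two⟩
  obtain ⟨a, haD, hga⟩ := exists_fixed_in g 2 h2 (D.erase (pt 0)) (by
      intro x
      rw [Finset.mem_erase, Finset.mem_erase, hD]
      constructor
      · rintro ⟨h1, h2⟩; exact ⟨fun e => h1 (g.injective (e.trans h0.symm)), h2⟩
      · rintro ⟨h1, h2⟩; exact ⟨fun e => h1 (by rw [e, h0]), h2⟩)
    (by rw [Finset.card_erase_of_mem hp0, D_card]; decide)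
  rw [Finset.mem_erase] at haD
  obtain ⟨ha0, haD⟩ := haD
  obtain ⟨c, hcD, hgc⟩ := exists_moved hg hne
  have hc0 : c ≠ pt 0 := fun e => hgc (by rw [e, h0])
  have hca : c ≠ a := fun e => hgc (by rw [e, hga])
  have hc'D : g c ∈ D := (hD c).mpr hcD
  have hc'0 : g c ≠ pt 0 := fun e => hc0 (g.injective (e.trans h0.symm))
  have hc'a : g c ≠ a := fun e => hca (g.injective (e.trans hga.symm))
  obtain ⟨e, heD, he⟩ : ∃ e ∈ D, e ∉ ({pt 0, a, c, g c} : Finset GolayPt) := by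
    apply Finset.exists_mem_notMem_of_card_lt_card
    calc _ ≤ 4 := Finset.card_le_four
      _ < _ := by rw [D_card]; decide
  simp only [Finset.mem_insert, Finset.mem_singleton, not_or] at he
  obtain ⟨he0, hea, hec, hec'⟩ := he
  have he0 : e ≠ pt 0 := he0
  have hea : e ≠ a := hea
  have hec : e ≠ c := hec
  have hec' : e ≠ g c := hec'
  obtain ⟨h, hh, hmap⟩ := exists_to_std [pt 0, a, c, g c, e] rfl
    (by
      simp only [List.nodup_cons, List.mem_cons, List.not_mem_nil, or_false, not_or,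
        List.nodup_nil, and_true, not_false_eq_true]
      exact ⟨⟨ha0.symm, hc0.symm, hc'0.symm, he0.symm⟩, ⟨hca.symm, hc'a.symm, hea.symm⟩,
        ⟨hgc.symm, hec.symm⟩, hec'.symm⟩)
    (by
      intro q hq
      simp only [List.mem_cons, List.not_mem_nil, or_false] at hq
      rcases hq with rfl | rfl | rfl | rfl | rfl <;> assumption)
  have m0 : h (pt 0) = pt 0 := hmap 0
  have m1 : h a = pt 1 := hmap 1
  have m2 : h c = pt 2 := hmap 2
  have m3 : h (g c) = pt 3 := hmap 3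
  have m4 : h e = pt 4 := hmap 4
  have hhD : ∀ x, h x ∈ D ↔ x ∈ D := fun x => apply_mem_of_mem_stabM24 hh x
  -- the image of the fifth point
  set z := idx (h (g e)) with hz
  have hzlt : z < 24 := idx_lt _
  have hzpt : h (g e) = pt z := (pt_idx _).symm
  have hzD : dsqMask.testBit z = true := by
    have : h (g e) ∈ D := (hhD _).mpr ((hD _).mpr heD)
    exact mem_setOf.mp this
  have hzn : z ∉ [0, 1, 2, 3] := by
    simp only [List.mem_cons, List.not_mem_nil, or_false, not_or]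
    refine ⟨?_, ?_, ?_, ?_⟩
    · intro hz0
      rw [hz0, ← m0] at hzpt
      exact he0 (g.injective ((h.injective hzpt).trans h0.symm))
    · intro hz0
      rw [hz0, ← m1] at hzpt
      exact hea (g.injective ((h.injective hzpt).trans hga.symm))
    · intro hz0
      rw [hz0, ← m2] at hzpt
      exact hec' (g.injective ((h.injective hzpt).trans (hgg c).symm))
    · intro hz0
      rw [hz0, ← m3] at hzpt
      exact hec (g.injective (h.injective hzpt))
  have hzmem := mem_invZs z hzlt hzD hzn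
  obtain ⟨e0, e1, e2, e3, e4⟩ := candInv_ok2 z hzmem
  have hgw : h * g * h⁻¹ = m24Word (candInvTab.getD z []) := by
    apply conj_identify hg hh _ (candInv_ok1 z hzmem)
    intro i hi
    interval_cases i
    · rw [conj_apply m0, h0, m0, e0]
    · rw [conj_apply m1, hga, m1, e1]
    · rw [conj_apply m2, m3, e2]
    · rw [conj_apply m3, hgg, m2, e3]
    · rw [conj_apply m4, hzpt, e4]
  rcases candInv_ok3 z hzmem with ⟨j, hj, hjne⟩ | ⟨q, hq, hqD, hfix⟩
  · exfalso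
    apply hjne
    have h1 : m24Word (candInvTab.getD z [] ++ candInvTab.getD z []) = 1 := by
      rw [m24Word_append', ← hgw]
      have : h * g * h⁻¹ * (h * g * h⁻¹) = h * (g * g) * h⁻¹ := by group
      rw [this, ← pow_two, h2]
      simp
    have h3 := m24Word_apply_pt (candInvTab.getD z [] ++ candInvTab.getD z []) hj
    rw [h1, Equiv.Perm.one_apply] at h3
    have h4 := congrArg idx h3
    rw [idx_pt hj, idx_pt (m24Eval_lt _ hj)] at h4
    exact h4.symm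
  · exact finish hh _ hgw q hq hqD hfix

theorem three_case {g : Equiv.Perm GolayPt} (hg : g ∈ stabM24 D) (h0 : g (pt 0) = pt 0)
    (h3 : g ^ 3 = 1) (hne : g ≠ 1) : ∃ y, y ∉ D ∧ g y = y := by
  have hggg : ∀ x, g (g (g x)) = x := by
    intro x
    have := congrArg (fun f : Equiv.Perm GolayPt => f x) h3
    simpa [pow_succ] using this
  have hD : ∀ x, g x ∈ D ↔ x ∈ D := fun x => apply_mem_of_mem_stabM24 hg x
  have hp0 : pt 0 ∈ D := stdEmb_mem 0
  have : Fact (Nat.Prime 3) := ⟨Nat.prime_three⟩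
  obtain ⟨a, haD, hga⟩ := exists_fixed_in g 3 h3 (D.erase (pt 0)) (by
      intro x
      rw [Finset.mem_erase, Finset.mem_erase, hD]
      constructor
      · rintro ⟨h1, h2⟩; exact ⟨fun e => h1 (g.injective (e.trans h0.symm)), h2⟩
      · rintro ⟨h1, h2⟩; exact ⟨fun e => h1 (by rw [e, h0]), h2⟩)
    (by rw [Finset.card_erase_of_mem hp0, D_card]; decide)
  have haD' := haD
  rw [Finset.mem_erase] at haD
  obtain ⟨ha0, haD⟩ := haD
  obtain ⟨b, hbD, hgb⟩ := exists_fixed_in g 3 h3 ((D.erase (pt 0)).erase a) (by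
      intro x
      rw [Finset.mem_erase, Finset.mem_erase, Finset.mem_erase, Finset.mem_erase, hD]
      constructor
      · rintro ⟨h1, h2, h4⟩
        exact ⟨fun e => h1 (g.injective (e.trans hga.symm)),
          fun e => h2 (g.injective (e.trans h0.symm)), h4⟩
      · rintro ⟨h1, h2, h4⟩
        exact ⟨fun e => h1 (by rw [e, hga]), fun e => h2 (by rw [e, h0]), h4⟩)
    (by rw [Finset.card_erase_of_mem haD', Finset.card_erase_of_mem hp0, D_card]; decide)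
  rw [Finset.mem_erase, Finset.mem_erase] at hbD
  obtain ⟨hba, hb0, hbD⟩ := hbD
  obtain ⟨c, hcD, hgc⟩ := exists_moved hg hne
  have hc0 : c ≠ pt 0 := fun e => hgc (by rw [e, h0])
  have hca : c ≠ a := fun e => hgc (by rw [e, hga])
  have hcb : c ≠ b := fun e => hgc (by rw [e, hgb])
  have hc'D : g c ∈ D := (hD c).mpr hcD
  have hc'0 : g c ≠ pt 0 := fun e => hc0 (g.injective (e.trans h0.symm))
  have hc'a : g c ≠ a := fun e => hca (g.injective (e.trans hga.symm))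
  have hc'b : g c ≠ b := fun e => hcb (g.injective (e.trans hgb.symm))
  obtain ⟨h, hh, hmap⟩ := exists_to_std [pt 0, a, b, c, g c] rfl
    (by
      simp only [List.nodup_cons, List.mem_cons, List.not_mem_nil, or_false, not_or,
        List.nodup_nil, and_true, not_false_eq_true]
      exact ⟨⟨ha0.symm, hb0.symm, hc0.symm, hc'0.symm⟩, ⟨hba.symm, hca.symm, hc'a.symm⟩,
        ⟨hcb.symm, hc'b.symm⟩, hgc.symm⟩)
    (by
      intro q hq
      simp only [List.mem_cons, List.not_mem_nil, or_false] at hq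
      rcases hq with rfl | rfl | rfl | rfl | rfl <;> assumption)
  have m0 : h (pt 0) = pt 0 := hmap 0
  have m1 : h a = pt 1 := hmap 1
  have m2 : h b = pt 2 := hmap 2
  have m3 : h c = pt 3 := hmap 3
  have m4 : h (g c) = pt 4 := hmap 4
  have hhD : ∀ x, h x ∈ D ↔ x ∈ D := fun x => apply_mem_of_mem_stabM24 hh x
  set z := idx (h (g (g c))) with hz
  have hzlt : z < 24 := idx_lt _
  have hzpt : h (g (g c)) = pt z := (pt_idx _).symm
  have hzD : dsqMask.testBit z = true := by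
    have : h (g (g c)) ∈ D := (hhD _).mpr ((hD _).mpr hc'D)
    exact mem_setOf.mp this
  have hzn : z ∉ [0, 1, 2, 3, 4] := by
    simp only [List.mem_cons, List.not_mem_nil, or_false, not_or]
    refine ⟨?_, ?_, ?_, ?_, ?_⟩
    · intro hz0
      rw [hz0, ← m0] at hzpt
      exact hc'0 (g.injective ((h.injective hzpt).trans h0.symm))
    · intro hz0
      rw [hz0, ← m1] at hzpt
      exact hc'a (g.injective ((h.injective hzpt).trans hga.symm))
    · intro hz0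
      rw [hz0, ← m2] at hzpt
      exact hc'b (g.injective ((h.injective hzpt).trans hgb.symm))
    · intro hz0
      rw [hz0, ← m3] at hzpt
      have h5 : g (g c) = c := h.injective hzpt
      have h6 := hggg c
      rw [h5] at h6
      exact hgc h6
    · intro hz0
      rw [hz0, ← m4] at hzpt
      exact hgc (g.injective (h.injective hzpt))
  have hzmem := mem_threeZs z hzlt hzD hzn
  obtain ⟨e0, e1, e2, e3, e4⟩ := candThree_ok2 z hzmem
  have hgw : h * g * h⁻¹ = m24Word (candThreeTab.getD z []) := by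
    apply conj_identify hg hh _ (candThree_ok1 z hzmem)
    intro i hi
    interval_cases i
    · rw [conj_apply m0, h0, m0, e0]
    · rw [conj_apply m1, hga, m1, e1]
    · rw [conj_apply m2, hgb, m2, e2]
    · rw [conj_apply m3, m4, e3]
    · rw [conj_apply m4, hzpt, e4]
  rcases candThree_ok3 z hzmem with ⟨j, hj, hjne⟩ | ⟨q, hq, hqD, hfix⟩
  · exfalso
    apply hjne
    have h1 : m24Word (candThreeTab.getD z [] ++ candThreeTab.getD z [] ++
        candThreeTab.getD z []) = 1 := by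
      rw [m24Word_append', m24Word_append', ← hgw]
      have : h * g * h⁻¹ * (h * g * h⁻¹) * (h * g * h⁻¹) = h * (g * g * g) * h⁻¹ := by group
      have h3' : g * g * g = 1 := by rw [← h3, pow_succ, pow_two]
      rw [this, h3']
      simp
    have h4 := m24Word_apply_pt (candThreeTab.getD z [] ++ candThreeTab.getD z [] ++
        candThreeTab.getD z []) hj
    rw [h1, Equiv.Perm.one_apply] at h4
    have h5 := congrArg idx h4
    rw [idx_pt hj, idx_pt (m24Eval_lt _ hj)] at h5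
    exact h5.symm
  · exact finish hh _ hgw q hq hqD hfix

theorem result (g : Equiv.Perm Cfsg.GolayPt) (hg : g ∈ Cfsg.Spor.M11) (hord : (orderOf g).Prime) :
    ∃ x : Cfsg.GolayPt, x ∉ Cfsg.Spor.squareDodecad ∧ g x = x := by
  rw [squareDodecad_eq]
  rw [mem_M11_iff] at hg
  obtain ⟨hgD, h0⟩ := hg
  have hne : g ≠ 1 := by
    intro e
    rw [e, orderOf_one] at hord
    exact Nat.not_prime_one hord
  have hpow : g ^ orderOf g = 1 := pow_orderOf_eq_one g
  by_cases h2 : orderOf g = 2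
  · rw [h2] at hpow
    exact inv_case hgD h0 hpow hne
  by_cases h3 : orderOf g = 3
  · rw [h3] at hpow
    exact three_case hgD h0 hpow hne
  -- other primes do not divide 12
  have : Fact (orderOf g).Prime := ⟨hord⟩
  have hD : ∀ x, g x ∈ D ↔ x ∈ D := fun x => apply_mem_of_mem_stabM24 hgD x
  obtain ⟨y, hy, hgy⟩ := exists_fixed_in g (orderOf g) hpow Dᶜ (by
      intro x
      rw [Finset.mem_compl, Finset.mem_compl, hD])
    (by
      rw [Finset.card_compl, D_card]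
      have hcard : Fintype.card GolayPt = 24 := by decide
      rw [hcard]
      intro hdvd
      have h12 : (12 : ℕ) = 2 ^ 2 * 3 := by norm_num
      have h24 : (24 - 12 : ℕ) = 12 := by norm_num
      rw [h24, h12] at hdvd
      rcases (Nat.Prime.dvd_mul hord).mp hdvd with h | h
      · exact h2 ((Nat.prime_dvd_prime_iff_eq hord Nat.prime_two).mp (hord.dvd_of_dvd_pow h))
      · exact h3 ((Nat.prime_dvd_prime_iff_eq hord Nat.prime_three).mp h))
  exact ⟨y, Finset.mem_compl.mp hy, hgy⟩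

end Cfsg.Agent.S5522
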