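import Cfsg.Statements.S2034
import Cfsg.Agent.S5522
import Cfsg.Agent.Lib.Helper92.M9Data
import Cfsg.Agent.Lib.Helper92.StemSub

set_option autoImplicit false
open Cfsg

namespace Cfsg.Agent.S2034
open Cfsg.Agent.Lib.Helper7 Cfsg.Agent.Lib.Helper92 Cfsg.Agent.S5522
  Cfsg.Agent.Lib.Helper92.StemSub Cfsg.Agent.Lib.Helper66

/-! ### Words in `M11` -/

/-- The word stabilizes the dodecad of squares and fixes `0`. -/
def WordOK (w : List ℕ) : Prop :=
  (∀ j < 24, dsqMask.testBit j = true → dsqMask.testBit (m24Eval w j) = true) ∧ m24Eval w 0 = 0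

theorem word_mem {w : List ℕ} (hw : WordOK w) : m24Word w ∈ Spor.M11 := by
  rw [mem_M11_iff, mem_stabM24]
  refine ⟨⟨m24Word_mem w, m24Word_smul_setOf w dsqMask dsqMask rfl hw.1⟩, ?_⟩
  rw [m24Word_apply_pt w (by norm_num), hw.2]

theorem card_M11 : Nat.card ↥Spor.M11 = 7920 := by
  have h := card_stabM24Pt dsq_mem_dodecads (p := pt 0) (by rw [mem_setOf]; decide)
  have heq : (Spor.M11 : Subgroup (Equiv.Perm GolayPt)) = stabM24Pt D (pt 0) := by
    ext g
    rw [mem_M11_iff, mem_stabM24Pt]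
  rw [heq]
  exact h

/-- The element of `M11` given by a word. -/
noncomputable def g (w : List ℕ) (hw : WordOK w) : ↥Spor.M11 := ⟨m24Word w, word_mem hw⟩

/-- Two words act in the same way on the 24 points. -/
def EvalEq (u v : List ℕ) : Prop := ∀ j < 24, m24Eval u j = m24Eval v j

instance (u v : List ℕ) : Decidable (EvalEq u v) := by unfold EvalEq; infer_instance
instance (w : List ℕ) : Decidable (WordOK w) := by unfold WordOK; infer_instance

theorem g_pow (w : List ℕ) (hw : WordOK w) (k : ℕ) :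
    ((g w hw ^ k : ↥Spor.M11) : Equiv.Perm GolayPt) = m24Word (M9.pw w k) := by
  rw [Subgroup.coe_pow, M9.m24Word_pw]
  rfl

theorem g_pow_eq_one {w : List ℕ} (hw : WordOK w) {k : ℕ} (h : EvalEq (M9.pw w k) []) :
    g w hw ^ k = 1 := by
  apply Subtype.ext
  rw [g_pow, M9.m24Word_eq_of_eval h]
  rfl

theorem g_pow_ne_one {w : List ℕ} (hw : WordOK w) {k : ℕ} (h : ¬ EvalEq (M9.pw w k) []) :
    g w hw ^ k ≠ 1 := by
  intro h1
  apply h
  have h2 := congrArg Subtype.val h1
  rw [g_pow] at h2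
  exact M9.eval_eq_of_m24Word_eq (h2.trans (by rfl))

theorem g_conj {a b : List ℕ} (ha : WordOK a) (hb : WordOK b) {r : ℕ}
    (h : EvalEq (b ++ a) (M9.pw a r ++ b)) : g b hb * g a ha * (g b hb)⁻¹ = g a ha ^ r := by
  rw [mul_inv_eq_iff_eq_mul]
  apply Subtype.ext
  rw [Subgroup.coe_mul, Subgroup.coe_mul, g_pow]
  show m24Word b * m24Word a = m24Word (M9.pw a r) * m24Word b
  rw [← M9.m24Word_append'', ← M9.m24Word_append'']
  exact M9.m24Word_eq_of_eval h

/-! ### The explicit words -/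

/-- An element of order 8. -/
def va : List ℕ := [3,2,1,3,0,2,0,0,0,2,3,2,1,3,0,2,0,0,0,2,1,1,2,0,4,2,0,3,3,2,1,3,0,2,0,0,0,2,3,3,2,4,2]

/-- An involution inverting-and-squaring `va`: together they generate a semidihedral group. -/
def vb : List ℕ := [3,3,2,2,3,2,1,3,0,2,0,0,0,2,3,3,2,4,2,3,2,1,3,0,2,0,0,0,2,1,1,2,0,4,2,0,3]

/-- An element of order 11. -/
def vt : List ℕ := [3,2,1,3,0,2,0,0,0,2,3,2,1,3,0,2,0,0,0,2,3,2,1,3,0,2,0,0,0,2,3,3,3]

/-- An element of order 3. -/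
def vc : List ℕ := [1,1,2,0,4,2,0,3,3,3,2,4,2,1,1,2,0,4,2,0,3,3,2,1,3,0,2,0,0,0,2,3,2,1,3,0,2,0,0,0,2,3,3,2,4,2,1,1,2,0,4,2,0,3,3,3,2,4,2]

/-- An element of order 6 inverting `vc`. -/
def vd : List ℕ := [1,1,2,0,4,2,0,3,3,2,1,3,0,2,0,0,0,2,3,3,2,2,3,2,1,3,0,2,0,0,0,2]

/-- An element of order 5. -/
def vf : List ℕ := [3,2,1,3,0,2,0,0,0,2,1,1,2,0,4,2,0,3,1,1,2,0,4,2,0,3,1,1,2,0,4,2,0,3,3,3,2,4,2,1,1,2,0,4,2,0,3,1,1,2,0,4,2,0,3,1,1,2,0,4,2,0,3]

theorem va_ok : WordOK va := by decide +kernel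
theorem vb_ok : WordOK vb := by decide +kernel
theorem vt_ok : WordOK vt := by decide +kernel
theorem vc_ok : WordOK vc := by decide +kernel
theorem vd_ok : WordOK vd := by decide +kernel
theorem vf_ok : WordOK vf := by decide +kernel

theorem va_8 : EvalEq (M9.pw va 8) [] := by decide +kernel
theorem va_4 : ¬ EvalEq (M9.pw va 4) [] := by decide +kernel
theorem vb_2 : EvalEq (M9.pw vb 2) [] := by decide +kernel
theorem vb_1 : ¬ EvalEq (M9.pw vb 1) [] := by decide +kernel
theorem vba : EvalEq (vb ++ va) (M9.pw va 3 ++ vb) := by decide +kernel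
theorem vt_11 : EvalEq (M9.pw vt 11) [] := by decide +kernel
theorem vt_1 : ¬ EvalEq (M9.pw vt 1) [] := by decide +kernel
theorem vc_3 : EvalEq (M9.pw vc 3) [] := by decide +kernel
theorem vc_1 : ¬ EvalEq (M9.pw vc 1) [] := by decide +kernel
theorem vd_6 : EvalEq (M9.pw vd 6) [] := by decide +kernel
theorem vd_3 : ¬ EvalEq (M9.pw vd 3) [] := by decide +kernel
theorem vd_2 : ¬ EvalEq (M9.pw vd 2) [] := by decide +kernel
theorem vdc : EvalEq (vd ++ vc) (M9.pw vc 2 ++ vd) := by decide +kernel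
theorem vf_5 : EvalEq (M9.pw vf 5) [] := by decide +kernel
theorem vf_1 : ¬ EvalEq (M9.pw vf 1) [] := by decide +kernel

/-! ### Orders -/

theorem order_a : orderOf (g va va_ok) = 8 := by
  have : Fact (Nat.Prime 2) := ⟨by norm_num⟩
  exact orderOf_eq_prime_pow (p := 2) (n := 2) (g_pow_ne_one va_ok va_4) (g_pow_eq_one va_ok va_8)

theorem order_b : orderOf (g vb vb_ok) = 2 := by
  have : Fact (Nat.Prime 2) := ⟨by norm_num⟩
  refine orderOf_eq_prime (g_pow_eq_one vb_ok vb_2) ?_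
  have := g_pow_ne_one vb_ok vb_1
  rwa [pow_one] at this

theorem order_t : orderOf (g vt vt_ok) = 11 := by
  have : Fact (Nat.Prime 11) := ⟨by norm_num⟩
  refine orderOf_eq_prime (g_pow_eq_one vt_ok vt_11) ?_
  have := g_pow_ne_one vt_ok vt_1
  rwa [pow_one] at this

theorem order_c : orderOf (g vc vc_ok) = 3 := by
  have : Fact (Nat.Prime 3) := ⟨by norm_num⟩
  refine orderOf_eq_prime (g_pow_eq_one vc_ok vc_3) ?_
  have := g_pow_ne_one vc_ok vc_1
  rwa [pow_one] at this

theorem order_f : orderOf (g vf vf_ok) = 5 := by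
  have : Fact (Nat.Prime 5) := ⟨by norm_num⟩
  refine orderOf_eq_prime (g_pow_eq_one vf_ok vf_5) ?_
  have := g_pow_ne_one vf_ok vf_1
  rwa [pow_one] at this

theorem order_d : orderOf (g vd vd_ok) = 6 := by
  refine orderOf_eq_of_pow_and_pow_div_prime (by norm_num) (g_pow_eq_one vd_ok vd_6) ?_
  intro p hp hdvd
  have hle : p ≤ 6 := Nat.le_of_dvd (by norm_num) hdvd
  interval_cases p
  · exact absurd hp (by norm_num)
  · exact absurd hp (by norm_num)
  · exact g_pow_ne_one vd_ok vd_3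
  · exact g_pow_ne_one vd_ok vd_2
  · exact absurd hp (by norm_num)
  · exact absurd hdvd (by norm_num)
  · exact absurd hp (by norm_num)

/-! ### The four subgroups -/

/-- A semidihedral Sylow 2-subgroup. -/
noncomputable def U2 : Subgroup ↥Spor.M11 := Subgroup.closure {g va va_ok, g vb vb_ok}

/-- A subgroup `C3 × S3`. -/
noncomputable def U3 : Subgroup ↥Spor.M11 := Subgroup.closure {g vc vc_ok, g vd vd_ok}

theorem rel_ba : g vb vb_ok * g va va_ok * (g vb vb_ok)⁻¹ = g va va_ok ^ 3 := g_conj va_ok vb_ok vba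

theorem rel_dc : g vd vd_ok * g vc vc_ok * (g vd vd_ok)⁻¹ = g vc vc_ok ^ 2 := g_conj vc_ok vd_ok vdc

theorem U2_mult : HasCyclicSchurMultiplier ↥U2 1 := by
  refine closure_pair_multiplier (g va va_ok) (g vb vb_ok) 2 4 1 1 0 2 (by norm_num) (by norm_num)
    ?_ rel_ba (by decide) (by norm_num) order_a (Or.inr rfl)
  rw [Nat.mul_zero, pow_zero]
  exact g_pow_eq_one vb_ok vb_2

theorem U3_mult : HasCyclicSchurMultiplier ↥U3 1 := by
  refine closure_pair_multiplier (g vc vc_ok) (g vd vd_ok) 1 3 1 21 0 6 (by norm_num) (by norm_num)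
    ?_ rel_dc (by decide) (by norm_num) order_c (Or.inl rfl)
  rw [Nat.mul_zero, pow_zero]
  exact g_pow_eq_one vd_ok vd_6

theorem U2_card : Nat.card ↥U2 = 16 := by
  have hne : g vb vb_ok * g va va_ok * (g vb vb_ok)⁻¹ ≠ g va va_ok := by
    rw [rel_ba]
    intro h
    have h2 : g va va_ok ^ 2 = 1 := by
      have : g va va_ok ^ 2 * g va va_ok = 1 * g va va_ok := by rw [← pow_succ, h, one_mul]
      exact mul_right_cancel this
    have := orderOf_dvd_of_pow_eq_one h2
    rw [order_a] at this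
    omega
  have h := closure_pair_card (g va va_ok) (g vb vb_ok) 3 rel_ba
    (disjoint_zpowers_of_prime _ _ 2 (by norm_num) order_b (notMem_zpowers_of_conj_ne _ _ hne).1)
  rw [order_a, order_b] at h
  exact h

theorem U3_card : Nat.card ↥U3 = 18 := by
  have hne : g vd vd_ok * g vc vc_ok * (g vd vd_ok)⁻¹ ≠ g vc vc_ok := by
    rw [rel_dc]
    intro h
    have h2 : g vc vc_ok ^ 1 = 1 := by
      have : g vc vc_ok ^ 1 * g vc vc_ok = 1 * g vc vc_ok := by rw [← pow_succ, h, one_mul]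
      exact mul_right_cancel this
    have := orderOf_dvd_of_pow_eq_one h2
    rw [order_c] at this
    omega
  have h := closure_pair_card (g vc vc_ok) (g vd vd_ok) 2 rel_dc
    (disjoint_zpowers_of_prime _ _ 3 (by norm_num) order_c
      (notMem_zpowers_of_conj_ne _ _ hne).2).symm
  rw [order_c, order_d] at h
  exact h

theorem index_of_card (U : Subgroup ↥Spor.M11) (c i : ℕ) (hc : Nat.card ↥U = c) (h : c * i = 7920)
    (hc0 : 0 < c) : U.index = i := by
  have h1 := Subgroup.card_mul_index U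
  rw [hc, card_M11, ← h] at h1
  exact Nat.eq_of_mul_eq_mul_left hc0 h1

/-- The Schur multiplier of `M11` is trivial. -/
theorem result : Cfsg.HasCyclicSchurMultiplier ↥Cfsg.Spor.M11 1 := by
  apply hasCyclicSchurMultiplier_one_of
  intro Γ _ _ σ hσ
  rw [Subgroup.eq_bot_iff_forall]
  intro z hz
  have h2 : z ^ 495 = 1 := by
    have := pow_index_eq_one_of_trivial σ hσ U2 U2_mult z hz
    rwa [index_of_card U2 16 495 U2_card (by norm_num) (by norm_num)] at this
  have h3 : z ^ 440 = 1 := by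
    have := pow_index_eq_one_of_trivial σ hσ U3 U3_mult z hz
    rwa [index_of_card U3 18 440 U3_card (by norm_num) (by norm_num)] at this
  have h5 : z ^ 1584 = 1 := by
    have := pow_index_eq_one_of_trivial σ hσ (Subgroup.zpowers (g vf vf_ok))
      Cfsg.Agent.S3979.result z hz
    rwa [index_of_card _ 5 1584 (by rw [Nat.card_zpowers, order_f]) (by norm_num)
      (by norm_num)] at this
  have h11 : z ^ 720 = 1 := by
    have := pow_index_eq_one_of_trivial σ hσ (Subgroup.zpowers (g vt vt_ok))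
      Cfsg.Agent.S3979.result z hz
    rwa [index_of_card _ 11 720 (by rw [Nat.card_zpowers, order_t]) (by norm_num)
      (by norm_num)] at this
  have h55 : z ^ (Nat.gcd 495 440) = 1 := pow_gcd_eq_one.mpr ⟨h2, h3⟩
  have h11' : z ^ (Nat.gcd (Nat.gcd 495 440) 1584) = 1 := pow_gcd_eq_one.mpr ⟨h55, h5⟩
  have h1 : z ^ (Nat.gcd (Nat.gcd (Nat.gcd 495 440) 1584) 720) = 1 :=
    pow_gcd_eq_one.mpr ⟨h11', h11⟩
  have hg : Nat.gcd (Nat.gcd (Nat.gcd 495 440) 1584) 720 = 1 := by decide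
  rwa [hg, pow_one] at h1

end Cfsg.Agent.S2034
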