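import Cfsg.Statements.S5601
-- import your own Cfsg.Agent.* helpers here
import Cfsg.Agent.Lib.Helper93.M24Extra
import Cfsg.Agent.S5394

set_option autoImplicit false
open scoped Pointwise
open Cfsg

namespace Cfsg.Agent.S5601


open Cfsg.Agent.Lib.Helper7 Cfsg.Agent.Lib.Helper93 Cfsg.Agent.S5394
open scoped Pointwise

/-! ### The data -/

/-- table of an element mapping `0 ↦ ∞ ↦ 1 ↦ 0`, `3 ↦ 2` (inverse of the pattern on base points) -/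
def HT3 : List ℕ := compT (uT 3 12) (compT (uT 2 16) (compT (uT 1 22) (uT 0 0)))

theorem HT3_spec : HT3.getD 0 0 = 23 ∧ HT3.getD 1 0 = 0 ∧ HT3.getD 23 0 = 1 ∧ HT3.getD 3 0 = 2 := by
  decide +kernel

theorem exists_H3 : ∃ H ∈ M24, Matches H HT3 := by
  obtain ⟨u0, h0, m0, _, _⟩ := exists_chain_elem' (i := 0) (q := 0) (by decide) (by decide) (by decide)
  obtain ⟨u1, h1, m1, _, _⟩ := exists_chain_elem' (i := 1) (q := 22) (by decide) (by decide) (by decide)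
  obtain ⟨u2, h2, m2, _, _⟩ := exists_chain_elem' (i := 2) (q := 16) (by decide) (by decide) (by decide)
  obtain ⟨u3, h3, m3, _, _⟩ := exists_chain_elem' (i := 3) (q := 12) (by decide) (by decide) (by decide)
  exact ⟨u3 * (u2 * (u1 * u0)), M24.mul_mem h3 (M24.mul_mem h2 (M24.mul_mem h1 h0)),
    matches_mul m3 (matches_mul m2 (matches_mul m1 m0))⟩

/-- squares of the elements of the relevant coset of the four-point stabilizer -/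
def cands3 : List (List ℕ) :=
  ((List.range 24).filter (orbitOK 4)).flatMap fun q4 =>
  ((List.range 24).filter (orbitOK 5)).flatMap fun q5 =>
  ((List.range 24).filter (orbitOK 6)).map fun q6 =>
    compT (compT (uT 6 q6) (compT (uT 5 q5) (compT (uT 4 q4) HT3)))
      (compT (uT 6 q6) (compT (uT 5 q5) (compT (uT 4 q4) HT3)))

def isOrd3T (c : List ℕ) : Bool :=
  (List.range 24).all fun i => c.getD (c.getD (c.getD i 0) 0) 0 == i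

/-- word of the representative with six fixed points -/
def w3A : List ℕ := [0, 2, 0, 2]

/-- word of the fixed-point-free representative -/
def w3B : List ℕ := [0, 1]

/-- mask of the fixed points of the first representative -/
def m3A : ℕ := 0xb00818

/-- conjugating words, one for each member of `cands3` (empty if not of order three) -/
def wordsFor : List (List ℕ) :=
  [[0, 0, 1, 0, 0, 0, 2, 2, 0, 2, 2, 2, 0, 0], [0, 0, 0, 1, 0, 2, 2, 2, 0, 1, 2, 2, 2, 2, 0],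
   [1, 0, 1, 2, 0, 1, 0, 2, 0, 1, 2, 2, 0, 2], [], [], [2, 2, 0, 2, 0, 0, 0, 1, 2, 0, 1, 0, 2, 0, 0],
   [1, 0, 0, 2, 2, 0, 0, 0, 2, 0, 0, 2, 0, 0, 0], [], [], [0, 1, 0, 1, 2, 2, 0, 0, 2, 0, 2, 2, 0, 1],
   [], [], [], [], [0, 0, 1, 0, 2, 2, 0, 1, 0, 0, 1, 0, 0, 2, 2], [],
   [0, 2, 0, 0, 0, 1, 0, 0, 2, 2, 0, 1], [], [], [], [], [], [],
   [1, 0, 2, 0, 0, 0, 2, 0, 0, 0, 0, 1, 2], [], [], [], [2, 2, 0, 2, 0, 0, 0, 1, 2, 0, 0, 2, 2, 0, 0],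
   [], [], [], [], [], [], [0, 0, 2, 0, 2, 0, 1, 2, 2, 2, 2, 0, 0], [], [], [], [], [], [], [], [],
   [1, 0, 1, 2, 0, 0, 1, 0, 2, 2, 0, 1, 2], [], [], [], [], [], [], [], [],
   [1, 2, 0, 2, 0, 0, 0, 1, 0, 0, 1, 0], [], [], [1, 0, 0, 0, 2, 0, 1, 0, 2, 2, 0, 0, 0, 0, 1], [], [],
   [], [0, 1, 0, 2, 2, 0, 0, 2, 0, 2, 2, 0], [0, 1, 0, 0, 1, 2, 0, 0, 2, 2, 2], [], [],
   [1, 0, 1, 0, 2, 2, 0, 0, 0, 2, 0, 0, 0, 0, 0], [], [], [2, 0, 1, 0, 2, 0, 0, 0, 2, 0, 0, 1, 2], [],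
   [], [], [], [], [], [], [], [], [], [], [], [], [], [], [],
   [0, 0, 2, 0, 1, 2, 2, 0, 0, 1, 0, 2, 2, 2], [], [], [2, 0, 0, 0, 0, 0, 0, 2, 0, 0, 0, 1, 2, 2, 0],
   [], [0, 1, 0, 2, 0, 0, 1, 0, 1, 2, 2, 2, 0, 0], [], [], [], [],
   [2, 0, 1, 0, 0, 1, 0, 1, 2, 0, 0, 0, 0], [0, 0, 2, 0, 1, 0, 0, 2, 0, 2, 2, 2, 0, 2, 2, 2],
   [2, 0, 2, 2, 0, 0, 1, 0, 2, 2, 0, 0, 1, 2, 2, 0, 1], [], [0, 0, 2, 0, 1, 0, 0, 0, 1, 2, 2, 0, 2, 2],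
   [], [], [2, 2, 0, 0, 1, 0, 0, 2, 0, 0, 2, 2, 2, 0, 0], [], [],
   [0, 0, 2, 0, 0, 0, 0, 0, 2, 2, 0, 1, 0, 2, 0], [], [], [], [], [], [], [],
   [0, 0, 2, 0, 1, 0, 1, 2, 0, 2, 2, 0, 2, 0], [], [0, 0, 1, 0, 2, 0, 1, 2, 2, 2, 0, 1, 0, 0, 1], [],
   [], [2, 0, 1, 2, 0, 0, 1, 2, 0, 1, 0], [2, 2, 0, 2, 2, 0, 2, 0, 0, 2, 0, 1, 2, 2], [],
   [1, 0, 0, 0, 1, 0, 2, 2, 2, 0], [], [], [], [], [], [],
   [1, 0, 2, 0, 0, 1, 2, 0, 0, 0, 0, 0, 0, 0, 2], [], [0, 0, 0, 0, 2, 0, 1, 0, 0, 2, 2, 0, 1, 0, 0], [],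
   [], [], [], [], [], [0, 0, 2, 2, 0, 1, 0, 0, 1, 0, 0, 0, 2], [], [], [],
   [0, 1, 0, 2, 0, 0, 0, 1, 2, 0, 2], [], [], [], [], [2, 0, 2, 0, 1, 2, 0, 2, 0, 1, 0, 0], [],
   [1, 0, 2, 0, 1, 2, 0, 0, 1, 0, 2, 0, 2, 0], [], [], [],
   [1, 0, 0, 2, 0, 1, 0, 0, 2, 2, 0, 2, 0, 2, 2], [], [], [0, 1, 0, 2, 0, 0, 1, 0, 1, 2, 0, 2, 2, 2],
   [], [], [], [1, 2, 0, 0, 2, 2, 0, 1, 0, 0, 0, 1, 0, 0],
   [0, 2, 0, 0, 0, 1, 2, 2, 0, 0, 0, 0, 1, 2, 0, 1], [], [1, 0, 2, 0, 1, 2, 2, 0, 0, 2, 0, 0, 0], [],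
   [], [], [], [1, 0, 0, 0, 0, 2, 2, 2, 0], [], [2, 2, 0, 1, 2, 0, 0, 0, 0, 1, 0, 2, 0, 0, 1], [], [],
   [1, 0, 2, 2, 2, 0, 1, 2, 2, 0, 2, 0], [], [], [], [], [], [], [], [], [], [],
   [2, 0, 2, 2, 2, 0, 1, 2, 0, 0, 1, 0, 0, 1, 0], [], [], [], [], [],
   [0, 1, 0, 0, 0, 1, 0, 0, 0, 1, 2, 2, 2, 0, 0], [], [], [], [], [1, 2, 2, 0, 1, 2, 0, 2, 0, 0],
   [0, 0, 0, 2, 0, 1, 2, 0, 0, 1, 0, 2, 2, 0, 2], [], [2, 0, 2, 2, 0, 2, 2, 2, 0, 1, 2, 0, 1, 2],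
   [2, 2, 2, 0, 2, 2, 0, 2, 0, 0, 2, 2, 2, 0], [], [], [], [], [], [],
   [1, 2, 0, 2, 2, 2, 0, 2, 2, 2, 0, 0, 0, 0, 1], [], [0, 2, 0, 1, 0, 2, 0, 2, 2, 0, 2, 2, 2, 0, 1],
   [1, 2, 2, 2, 0, 2, 2, 0, 0, 0, 0, 0, 1, 0], [], [], [], [], [],
   [2, 0, 1, 2, 2, 2, 0, 2, 0, 0, 0, 0, 0, 0], [], [], [], [], [], [], [], [],
   [2, 0, 1, 0, 2, 0, 0, 2, 2, 0, 1, 0, 0, 0], [], [], [], [1, 0, 0, 0, 1, 0, 0, 1, 0, 0, 1, 2], [], [],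
   [], [], [], [], [], [], [1, 0, 0, 1, 0, 0, 1, 2, 0, 1, 0, 0, 1, 0, 2, 0], [], [], [],
   [2, 0, 1, 0, 1, 2, 0, 0, 0, 2, 0, 1, 0, 1], [], [2, 2, 0, 1, 2, 0, 0, 0, 1, 0, 0, 1, 2, 2, 2, 2], [],
   [1, 0, 0, 2, 0, 2, 0, 2, 2, 0, 0, 2, 0, 0], [1, 0, 1, 0, 0, 2, 2, 2, 2, 0, 0, 0, 2], [],
   [0, 0, 0, 1, 2, 2, 0, 2, 2, 0, 0, 1, 2, 0, 2], [], [], [], [],
   [1, 0, 2, 2, 2, 0, 1, 0, 0, 1, 0, 0, 1], [], [2, 0, 0, 1, 2, 2, 0, 0, 1, 0, 2, 2, 2],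
   [1, 0, 0, 1, 2, 2, 2, 0, 2, 0, 2, 0, 1, 0], [], [], [], [], [],
   [2, 0, 1, 0, 1, 2, 2, 0, 1, 2, 2, 0, 2], [], [], [], [], [], [], [], [],
   [0, 1, 0, 0, 0, 0, 1, 0, 0, 2, 0, 2], [], [], [], [], [], [],
   [0, 0, 0, 1, 2, 0, 0, 2, 0, 2, 0, 2, 2, 0, 1, 0, 2], [], [], [], [], [], [], [], [],
   [0, 0, 0, 1, 2, 0, 1, 0, 2, 2, 2, 0, 1, 2], [0, 0, 2, 0, 0, 1, 2, 0, 0, 2, 2, 2, 0, 2, 0, 0], [], [],
   [], [], [2, 0, 2, 2, 0, 0, 0, 1, 2, 2, 0, 0, 2], [2, 2, 2, 0, 2, 2, 0, 1, 2, 0, 0, 1, 2, 2, 2], [],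
   [], [], [], [0, 0, 2, 0, 0, 0, 1, 0, 1, 2, 2, 0, 1, 2], [2, 0, 2, 0, 2, 0, 0, 1, 0, 2, 2], [], [],
   [], [], [2, 0, 2, 0, 2, 0, 0, 1, 0, 2, 2], [2, 0, 2, 2, 0, 0, 0, 1, 2, 2, 0, 0, 2], [], [], [], [],
   [2, 2, 2, 0, 2, 2, 0, 1, 2, 0, 0, 1, 2, 2, 2], [], [0, 0, 2, 0, 0, 0, 1, 0, 1, 2, 2, 0, 1, 2], [],
   [0, 0, 2, 0, 0, 0, 1, 0, 1, 2, 2, 0, 1, 2], [], [], [],
   [2, 2, 2, 0, 2, 2, 0, 1, 2, 0, 0, 1, 2, 2, 2], [], [], [],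
   [2, 2, 2, 0, 2, 2, 0, 1, 2, 0, 0, 1, 2, 2, 2], [], [], [2, 0, 2, 2, 0, 0, 0, 1, 2, 2, 0, 0, 2], [],
   [], [2, 0, 2, 0, 2, 0, 0, 1, 0, 2, 2], [], [], [0, 0, 2, 0, 0, 0, 1, 0, 1, 2, 2, 0, 1, 2], [],
   [2, 0, 2, 2, 0, 0, 0, 1, 2, 2, 0, 0, 2], [], [], [2, 0, 2, 0, 2, 0, 0, 1, 0, 2, 2], [], [],
   [0, 0, 0, 2, 0, 0, 1, 0, 0, 2, 0, 0, 1], [], [], [], [0, 0, 1, 0, 2, 0, 0, 0, 0, 0, 0, 0, 0, 2, 2],
   [], [0, 0, 1, 0, 2, 0, 1, 2, 2, 0, 0, 2, 2, 0, 2], [], [], [], [2, 0, 2, 2, 0, 0, 1, 2, 0, 2, 0, 1],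
   [], [2, 0, 2, 2, 0, 0, 1, 2, 0, 2, 0, 1], [], [], [], [0, 0, 0, 2, 0, 0, 1, 0, 0, 2, 0, 0, 1], [],
   [0, 0, 1, 0, 2, 0, 0, 0, 0, 0, 0, 0, 0, 2, 2], [], [0, 0, 1, 0, 2, 0, 1, 2, 2, 0, 0, 2, 2, 0, 2], [],
   [], [], [], [0, 0, 1, 0, 2, 0, 1, 2, 2, 0, 0, 2, 2, 0, 2],
   [0, 0, 1, 0, 2, 0, 0, 0, 0, 0, 0, 0, 0, 2, 2], [], [], [],
   [0, 0, 1, 0, 2, 0, 0, 0, 0, 0, 0, 0, 0, 2, 2], [], [], [0, 0, 0, 2, 0, 0, 1, 0, 0, 2, 0, 0, 1], [],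
   [], [2, 0, 2, 2, 0, 0, 1, 2, 0, 2, 0, 1], [], [], [0, 0, 1, 0, 2, 0, 1, 2, 2, 0, 0, 2, 2, 0, 2], [],
   [0, 0, 0, 2, 0, 0, 1, 0, 0, 2, 0, 0, 1], [], [], [2, 0, 2, 2, 0, 0, 1, 2, 0, 2, 0, 1], [], [], [],
   [2, 0, 1, 2, 0, 2, 0, 2, 2, 2, 2, 0, 1, 0, 0], [], [], [], [], [],
   [0, 0, 0, 2, 0, 0, 2, 0, 0, 1, 2, 0, 2, 0], [], [], [], [], [], [], [],
   [2, 0, 1, 0, 1, 2, 0, 0, 1, 0, 0, 0], [0, 0, 2, 0, 2, 0, 1, 0, 2, 0, 0, 0],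
   [0, 0, 2, 2, 2, 0, 2, 0, 1, 2, 0, 1, 2, 0], [], [], [2, 2, 2, 0, 1, 0, 2, 2, 0, 0, 1, 0, 1, 2],
   [0, 0, 0, 0, 1, 2, 2, 2, 2, 0, 1, 2, 2, 0, 0], [], [], [], [], [], [], [], [], [], [],
   [2, 2, 0, 0, 1, 0, 2, 0, 0, 1, 2, 0, 2, 0], [0, 0, 2, 2, 0, 1, 0, 0, 0, 0, 0, 2, 2, 0, 0, 1], [], [],
   [2, 0, 0, 1, 0, 0, 1, 2, 0, 2, 2, 0], [], [], [], [], [], [],
   [1, 0, 0, 0, 2, 2, 2, 2, 0, 2, 0, 0, 0, 0], [], [], [], [0, 1, 0, 0, 0, 0, 1, 0, 1, 2, 2, 2, 2], [],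
   [2, 2, 0, 2, 2, 2, 2, 0, 1, 0, 0, 0, 1, 2], [1, 0, 1, 0, 0, 2, 0, 0, 0, 2, 2], [], [],
   [1, 0, 2, 2, 2, 0, 1, 0, 0, 1, 0], [], [], [], [1, 0, 2, 0, 0, 2, 0, 2, 0, 0, 2, 2, 2],
   [2, 0, 2, 0, 1, 2, 0, 1, 2, 2, 2, 2, 0], [], [], [], [2, 0, 2, 2, 0, 0, 1, 2, 0, 2], [], [], [], [],
   [], [], [], [], [], [], [], [], [2, 0, 2, 0, 0, 1, 0, 1, 2, 0, 0, 2, 2, 2], [],
   [1, 0, 2, 2, 2, 0, 2, 0, 1, 0, 0, 2, 0, 2], [0, 0, 1, 2, 0, 1, 2, 0, 2, 2, 0, 0], [], [], [],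
   [1, 0, 1, 0, 0, 0, 0, 0, 2, 2, 2], [], [1, 0, 0, 2, 0, 2, 2, 0, 0, 0, 0, 0, 1, 2, 2], [], [], [], [],
   [], [], [0, 2, 0, 2, 2, 0, 1, 2, 2, 2, 0, 1, 2, 2, 2, 2], [], [], [], [], [],
   [2, 0, 0, 0, 0, 0, 1, 0, 0, 1, 0, 0], [], [], [2, 0, 2, 0, 2, 0, 2, 0, 0, 1, 0, 0, 2, 2, 0], [], [],
   [0, 0, 1, 2, 0, 0, 0, 2, 0, 1, 2, 2, 0, 0], [1, 0, 2, 0, 2, 2, 2, 2, 0, 2, 2, 2, 0, 0, 1, 0],
   [0, 0, 2, 0, 0, 1, 2, 0, 2, 0, 2, 2, 0, 0], [], [], [], [], [], [], [],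
   [0, 2, 2, 0, 0, 0, 0, 0, 2, 0, 0, 1, 0, 1], [], [], [], [0, 0, 2, 0, 0, 2, 0, 0, 1, 0, 0, 0, 0, 0],
   [], [0, 1, 0, 2, 2, 0, 0, 0, 0, 0, 1, 0, 0, 2, 0], [], [], [], [], [], [],
   [1, 0, 1, 0, 0, 0, 2, 2, 0, 1, 2, 2], [], [], [], [], [], [], [], [],
   [0, 1, 0, 0, 0, 0, 1, 0, 0, 2, 0, 2, 0, 1], [], [1, 0, 2, 0, 1, 0, 0, 0, 0, 0, 0, 1, 2], [], [], [],
   [], [1, 2, 2, 0, 0, 1, 2, 2, 2, 2, 0], [], [], [], [1, 0, 2, 2, 0, 1, 0, 2, 0, 1, 0, 1, 2, 0], [],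
   [], [], [0, 0, 1, 2, 2, 0, 2, 0, 2, 2, 0, 2], [], [0, 2, 0, 2, 2, 2, 2, 0, 0, 0, 1, 2, 0, 0, 1], [],
   [2, 2, 2, 2, 0, 0, 2, 0, 0, 0, 2, 0, 2, 0, 0], [], [], [], [],
   [1, 2, 0, 0, 0, 1, 2, 0, 1, 0, 0, 2, 0, 0], [], [1, 0, 0, 1, 2, 0, 0, 1, 0, 2, 2, 0, 0, 2], [], [],
   [], [], [1, 0, 2, 2, 0, 2, 0, 2, 0, 0, 0, 2, 0, 0], [], [], [], [], [], [], [], [], [], [], [],
   [1, 2, 2, 0, 0, 2, 0, 2, 0, 0, 0, 2, 2, 2, 2], [], [], [0, 0, 0, 2, 0, 0, 1, 0, 0, 2, 0], [],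
   [0, 1, 0, 0, 1, 0, 2, 2, 0, 2, 2, 0, 0, 1, 2], [], [], [], [], [],
   [0, 2, 0, 0, 1, 2, 0, 2, 0, 2, 0, 0, 1, 2, 2], [], [2, 0, 1, 2, 0, 2, 0, 2, 2, 0, 2],
   [2, 0, 2, 0, 0, 0, 0, 1, 0, 0, 2, 0, 1, 0, 2], [], [], [],
   [0, 0, 2, 0, 0, 0, 1, 0, 1, 2, 2, 0, 1, 2, 0, 1], [], [1, 2, 2, 0, 2, 2, 2, 0, 0, 2, 2, 0, 0], [],
   [], [], [1, 0, 0, 2, 2, 0, 2, 2, 0, 1], [], [1, 0, 0, 2, 2, 0, 2, 2, 0, 1], [], [], [],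
   [2, 0, 2, 0, 0, 0, 0, 1, 0, 0, 2, 0, 1, 0, 2], [], [0, 0, 2, 0, 0, 0, 1, 0, 1, 2, 2, 0, 1, 2, 0, 1],
   [], [], [], [], [1, 2, 2, 0, 2, 2, 2, 0, 0, 2, 2, 0, 0], [], [1, 2, 2, 0, 2, 2, 2, 0, 0, 2, 2, 0, 0],
   [], [], [], [0, 0, 2, 0, 0, 0, 1, 0, 1, 2, 2, 0, 1, 2, 0, 1],
   [0, 0, 2, 0, 0, 0, 1, 0, 1, 2, 2, 0, 1, 2, 0, 1], [], [],
   [2, 0, 2, 0, 0, 0, 0, 1, 0, 0, 2, 0, 1, 0, 2], [], [], [1, 0, 0, 2, 2, 0, 2, 2, 0, 1], [], [],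
   [1, 2, 2, 0, 2, 2, 2, 0, 0, 2, 2, 0, 0], [], [], [], [],
   [2, 0, 2, 0, 0, 0, 0, 1, 0, 0, 2, 0, 1, 0, 2], [], [], [1, 0, 0, 2, 2, 0, 2, 2, 0, 1], [], [], [],
   [], [], [], [1, 2, 2, 0, 0, 1, 2, 2, 2, 2, 0, 0, 1], [1, 0, 0, 0, 1, 2, 0, 2, 2, 2, 0, 2, 2], [],
   [0, 0, 1, 0, 0, 0, 2, 2, 0, 2, 2, 2, 0, 0, 0, 1], [0, 1, 0, 0, 0, 0, 2, 2, 0, 1, 0, 1, 2, 0, 0], [],
   [], [], [], [], [], [], [], [0, 2, 2, 2, 0, 0, 1, 2, 0, 0, 2, 0], [], [], [], [], [], [],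
   [1, 0, 0, 0, 1, 0, 0, 1, 0, 0, 1, 2, 0, 1], [1, 2, 2, 0, 2, 2, 2, 2, 0, 0, 0, 2, 2],
   [0, 0, 1, 0, 0, 2, 0, 2, 2, 2, 0, 0, 0, 1, 0], [], [], [], [0, 0, 1, 0, 0, 1, 2, 0, 1, 2, 2, 0, 1],
   [], [], [], [], [], [2, 0, 2, 0, 1, 2, 0, 2, 2, 0, 0, 1, 0, 2],
   [0, 0, 1, 0, 2, 0, 0, 0, 2, 0, 1, 2, 0, 1, 2, 0], [], [], [], [], [], [], [],
   [2, 2, 0, 0, 0, 0, 0, 2, 0, 1, 0, 0, 2, 0], [], [], [0, 0, 2, 0, 2, 0, 0, 0, 0, 1, 2, 0, 1, 0], [],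
   [], [], [], [], [1, 2, 2, 2, 0, 0, 0, 0, 2, 0, 0, 0, 1, 0], [], [], [],
   [0, 0, 1, 2, 0, 1, 0, 0, 0, 2, 0, 2, 2, 2, 0], [], [], [0, 0, 2, 0, 0, 2, 0, 1, 0, 1, 2, 2, 0, 1],
   [], [2, 0, 0, 1, 2, 0, 2, 2, 0, 0, 0, 1, 0, 1], [], [], [], [],
   [0, 1, 0, 2, 0, 0, 2, 2, 2, 0, 1, 2, 0, 1, 2], [2, 2, 0, 2, 0, 0, 0, 1, 0, 0, 0, 2, 0, 1], [],
   [1, 0, 2, 2, 2, 0, 1, 0, 0, 0, 1, 2, 0], [], [], [], [], [], [], [], [],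
   [1, 0, 2, 0, 1, 2, 0, 0, 0, 2, 0, 2], [], [1, 0, 1, 2, 0, 0, 0, 1, 0, 0, 0, 2, 0, 2],
   [1, 0, 0, 2, 0, 1, 2, 2, 0, 1, 0, 0, 2, 0, 2], [], [], [], [], [], [], [],
   [2, 0, 1, 2, 2, 0, 2, 2, 0, 0, 0, 1, 2, 0, 2], [], [], [], [], [], [], [], [], [], [], [], [], [],
   [], [], [1, 0, 1, 0, 2, 0, 2, 2, 0, 2, 0, 0, 0, 0, 0], [], [1, 0, 1, 0, 1, 2, 0, 1, 2, 0, 0, 2], [],
   [], [], [], [], [1, 2, 2, 2, 0, 2, 0, 0, 1, 0, 0, 2, 2], [], [], [],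
   [2, 0, 1, 2, 0, 0, 2, 2, 2, 0, 2, 0, 0, 2], [0, 2, 2, 0, 1, 2, 0, 0, 0, 0, 1, 0, 1], [], [], [], [],
   [], [], [0, 1, 0, 2, 0, 0, 0, 0, 1, 2, 2, 0, 0, 2], [],
   [2, 2, 2, 2, 0, 1, 0, 0, 0, 1, 2, 2, 0, 1, 2], [], [0, 0, 0, 2, 0, 2, 2, 0, 1, 0, 0, 2, 2, 0, 1, 2],
   [1, 0, 0, 2, 0, 2, 2, 2, 0, 2, 0, 0, 1], [2, 0, 0, 1, 2, 0, 2, 2, 0, 0], [], [], [], [],
   [1, 0, 2, 0, 0, 0, 1, 0, 0, 0, 2, 0, 1], [], [0, 0, 1, 2, 0, 2, 0, 0, 0, 2, 0, 0, 1, 2], [], [], [],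
   [], [], [0, 0, 1, 2, 0, 0, 1, 0, 1, 2, 0, 0, 1, 0, 2, 2], [], [], [], [], [], [],
   [0, 1, 0, 0, 1, 2, 0, 2, 0, 0, 2, 2, 0], [], [], [], [0, 2, 2, 0, 1, 2, 2, 2, 0, 1, 0, 1, 2, 0], [],
   [], [], [], [0, 0, 1, 2, 0, 1, 2, 0, 0, 2, 2, 2, 0, 1], [], [],
   [1, 2, 2, 0, 1, 2, 0, 2, 0, 0, 0, 1, 0, 1], [], [], [],
   [2, 0, 0, 0, 1, 0, 1, 2, 0, 2, 2, 0, 0, 1, 0], [], [], [1, 0, 2, 2, 0, 0, 0, 0, 2, 0, 0, 0, 1],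
   [0, 0, 1, 0, 0, 0, 0, 0, 0, 2, 0, 0, 0, 1, 2], [1, 0, 0, 0, 0, 0, 0, 1, 0, 0, 0, 1, 2, 0, 0], [], [],
   [], [], [1, 0, 0, 2, 2, 2, 0, 0, 0, 0, 0, 0], [], [0, 2, 0, 0, 0, 2, 0, 0, 0, 2, 2, 2, 0, 0, 2], [],
   [], [], [1, 2, 0, 2, 2, 2, 0, 1, 0, 2, 2, 2], [], [], [], [], [1, 2, 2, 0, 1, 2, 0, 0, 0, 2, 2, 0],
   [0, 1, 0, 0, 1, 2, 0, 1, 2, 0, 1, 0, 0, 2], [1, 0, 0, 0, 2, 0, 1, 0, 2, 2, 0, 0, 0],
   [1, 2, 2, 0, 1, 2, 2, 2, 0, 0, 2, 0, 2], [1, 2, 2, 0, 0, 1, 0, 1, 2, 0, 0],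
   [1, 0, 0, 2, 0, 2, 2, 2, 2, 0, 1, 0, 2], [1, 2, 0, 0, 2, 0, 0, 2, 2, 2, 2, 0, 0, 2, 0],
   [0, 0, 0, 0, 2, 0, 0, 0, 2, 0, 1, 0, 0, 2], [1, 0, 2, 0, 0, 0, 2, 2, 2, 2, 0, 0, 2, 2],
   [0, 1, 0, 2, 2, 0, 2, 2, 0, 0, 1, 0], [1, 2, 2, 0, 1, 2, 2, 2, 0, 0, 2, 0, 2],
   [1, 0, 2, 0, 0, 0, 2, 2, 2, 2, 0, 0, 2, 2], [1, 0, 1, 0, 0, 0, 0, 2, 2, 0, 0],
   [1, 0, 1, 0, 0, 0, 0, 2, 2, 0, 0], [1, 0, 1, 0, 0, 0, 0, 2, 2, 0, 0],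
   [0, 0, 0, 0, 2, 0, 0, 0, 2, 0, 1, 0, 0, 2], [1, 2, 2, 0, 1, 2, 0, 2, 0, 0, 0, 1],
   [1, 2, 2, 0, 0, 1, 0, 0, 0, 2, 2, 2, 0, 0, 0], [0, 1, 0, 2, 2, 0, 2, 2, 0, 0, 1, 0],
   [1, 0, 0, 0, 2, 0, 1, 0, 2, 2, 0, 0, 0], [1, 2, 0, 0, 2, 0, 0, 2, 2, 2, 2, 0, 0, 2, 0],
   [0, 1, 0, 2, 2, 0, 2, 2, 0, 0, 1, 0], [1, 0, 1, 0, 2, 0, 1, 0, 0, 0, 0, 0, 1, 2],
   [0, 0, 0, 0, 2, 0, 0, 0, 2, 0, 1, 0, 0, 2], [2, 2, 0, 2, 0, 2, 0, 1, 2, 0, 2, 0, 0, 2],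
   [0, 1, 0, 0, 1, 2, 0, 1, 2, 0, 1, 0, 0, 2], [1, 2, 2, 0, 1, 2, 2, 2, 0, 0, 2, 0, 2],
   [1, 2, 0, 0, 2, 0, 0, 2, 2, 2, 2, 0, 0, 2, 0], [1, 2, 2, 0, 1, 2, 0, 0, 0, 2, 2, 0],
   [2, 0, 2, 2, 0, 0, 1, 2, 0, 2, 0, 1, 0, 1], [1, 2, 2, 0, 0, 1, 0, 0, 0, 2, 2, 2, 0, 0, 0],
   [1, 2, 2, 0, 0, 1, 0, 1, 2, 0, 0], [2, 0, 2, 2, 0, 0, 1, 2, 0, 2, 0, 1, 0, 1],
   [2, 2, 0, 2, 0, 2, 0, 1, 2, 0, 2, 0, 0, 2], [1, 2, 2, 0, 1, 2, 0, 0, 0, 2, 2, 0],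
   [1, 2, 2, 0, 1, 2, 0, 2, 0, 0, 0, 1], [1, 0, 0, 0, 2, 0, 1, 0, 2, 2, 0, 0, 0],
   [2, 0, 2, 2, 0, 0, 1, 2, 0, 2, 0, 1, 0, 1], [1, 0, 0, 2, 0, 2, 2, 2, 2, 0, 1, 0, 2],
   [1, 0, 2, 0, 0, 0, 2, 2, 2, 2, 0, 0, 2, 2], [2, 2, 0, 2, 0, 2, 0, 1, 2, 0, 2, 0, 0, 2],
   [1, 2, 2, 0, 0, 1, 0, 1, 2, 0, 0], [1, 0, 1, 0, 2, 0, 1, 0, 0, 0, 0, 0, 1, 2],
   [1, 2, 2, 0, 0, 1, 0, 0, 0, 2, 2, 2, 0, 0, 0], [1, 0, 0, 2, 0, 2, 2, 2, 2, 0, 1, 0, 2],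
   [1, 2, 2, 0, 1, 2, 0, 2, 0, 0, 0, 1], [0, 1, 0, 0, 1, 2, 0, 1, 2, 0, 1, 0, 0, 2],
   [1, 0, 1, 0, 2, 0, 1, 0, 0, 0, 0, 0, 1, 2], [], [0, 0, 2, 2, 0, 2, 0, 2, 0, 1, 2, 2, 0, 0, 1, 0, 0],
   [0, 0, 1, 0, 1, 2, 0, 2, 2, 0, 2, 2, 2, 0], [], [], [1, 2, 2, 0, 0, 1, 0, 1, 2, 0, 0, 0, 1], [], [],
   [], [1, 0, 0, 2, 2, 0, 0, 1, 0, 2, 2, 0, 0, 1, 0], [], [], [], [],
   [0, 0, 2, 2, 0, 0, 0, 0, 0, 2, 0, 0, 2, 2, 2], [], [], [], [], [], [], [], [], [], [],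
   [1, 0, 0, 0, 2, 2, 0, 1, 0, 1, 2, 0, 1, 2, 2], [], [1, 0, 0, 2, 0, 0, 1, 0, 1, 2, 2, 2, 0, 2, 0], [],
   [], [], [], [], [1, 0, 2, 2, 0, 0, 0, 0, 2, 0, 0, 0, 1, 0, 1], [1, 0, 0, 2, 0, 1, 0, 2, 0, 1, 2], [],
   [], [], [], [1, 0, 1, 0, 0, 2, 2, 2, 0, 2, 0, 1, 0, 2, 0], [], [], [],
   [0, 0, 0, 0, 2, 2, 2, 2, 0, 1, 2, 0, 0, 1, 0, 0], [2, 0, 1, 0, 2, 0, 1, 2, 0, 2, 2, 2, 0, 2, 2, 0],
   [], [], [], [], [0, 0, 2, 2, 2, 0, 0, 0, 2, 0, 0, 0, 0, 2, 0], [], [],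
   [2, 0, 2, 0, 0, 2, 0, 1, 0, 2, 0], [], [], [0, 0, 1, 2, 0, 0, 0, 2, 2, 2, 2, 0, 2, 0], [], [], [],
   [], [], [], [], [0, 0, 0, 2, 2, 2, 2, 0, 0, 0, 1, 0, 0, 1], [],
   [0, 1, 0, 2, 0, 2, 0, 2, 0, 0, 1, 2, 0, 0], [], [], [0, 0, 2, 0, 0, 2, 0, 0, 0, 1, 2, 2, 2],
   [0, 0, 0, 0, 2, 0, 1, 0, 2, 0, 2, 0, 0, 2, 0], [], [0, 1, 0, 0, 0, 1, 2, 0, 2, 0], [], [], [], [],
   [], [], [0, 0, 2, 0, 2, 0, 0, 0, 0, 1, 0, 0, 2], [], [2, 0, 2, 0, 2, 2, 2, 0, 1, 2, 0, 0, 0, 1], [],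
   [], [], [], [], [], [0, 0, 2, 0, 0, 0, 1, 0, 1, 2, 2, 2, 2, 0], [], [], [],
   [2, 2, 2, 0, 1, 2, 0, 0, 1, 0, 2], [], [], [], []]

def checkOne (c w : List ℕ) : Bool :=
  !isOrd3T c || conjOK c (wordT w3A) w || conjOK c (wordT w3B) w

theorem zip_check : (cands3.zip wordsFor).all (fun p => checkOne p.1 p.2) = true ∧
    cands3.length = wordsFor.length := by
  decide +kernel

theorem exists_of_zip {α β : Type*} : ∀ (cs : List α) (ws : List β), cs.length = ws.length →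
    ∀ c ∈ cs, ∃ w, (c, w) ∈ cs.zip ws := by
  intro cs
  induction cs with
  | nil => intro ws _ c hc; simp at hc
  | cons a cs ih =>
    intro ws hlen c hc
    cases ws with
    | nil => simp at hlen
    | cons b ws =>
      simp only [List.length_cons, add_left_inj] at hlen
      rw [List.mem_cons] at hc
      rcases hc with rfl | hc
      · exact ⟨b, by simp⟩
      · obtain ⟨w, hw⟩ := ih ws hlen c hc
        exact ⟨w, by simp [hw]⟩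

theorem big_check3 : ∀ c ∈ cands3, isOrd3T c = true →
    ∃ w, conjOK c (wordT w3A) w = true ∨ conjOK c (wordT w3B) w = true := by
  intro c hc hord
  obtain ⟨w, hw⟩ := exists_of_zip cands3 wordsFor zip_check.2 c hc
  have h := zip_check.1
  rw [List.all_eq_true] at h
  have h1 := h (c, w) hw
  simp only [checkOne, hord, Bool.not_true, Bool.false_or, Bool.or_eq_true] at h1
  exact ⟨w, h1⟩

theorem rep3_check : isOrd3T (wordT w3A) = true ∧ fixIs (wordT w3A) m3A = true ∧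
    pc m3A = 6 ∧ isOrd3T (wordT w3B) = true ∧ fixIs (wordT w3B) 0 = true := by
  decide +kernel

/-! ### Semantics -/

theorem isOrd3T_of {g : Equiv.Perm GolayPt} {c : List ℕ} (hm : Matches g c) (hg : g * g * g = 1) :
    isOrd3T c = true := by
  simp only [isOrd3T, List.all_eq_true, List.mem_range, beq_iff_eq]
  intro i hi
  have h1 := hm (pt i)
  have h2 := hm (g (pt i))
  have h3 := hm (g (g (pt i)))
  rw [idx_pt hi] at h1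
  rw [h1] at h2
  rw [h2] at h3
  have : g (g (g (pt i))) = pt i := by
    have := congrArg (fun f : Equiv.Perm GolayPt => f (pt i)) hg
    simpa [Equiv.Perm.mul_apply] using this
  rw [← h3, this, idx_pt hi]

theorem cube_of_isOrd3T {g : Equiv.Perm GolayPt} {c : List ℕ} (hm : Matches g c)
    (h : isOrd3T c = true) : g * g * g = 1 := by
  simp only [isOrd3T, List.all_eq_true, List.mem_range, beq_iff_eq] at h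
  apply Equiv.ext
  intro p
  apply idx_injective
  rw [Equiv.Perm.mul_apply, Equiv.Perm.mul_apply, hm (g (g p)), hm (g p), hm p, Equiv.Perm.one_apply]
  exact h _ (idx_lt p)

theorem mem_cands3 {g : Equiv.Perm GolayPt} (hg : g ∈ M24) (hggg : g * g * g = 1)
    (h0 : g (bp 0) = bp 1) (h1 : g (bp 1) = bp 2) (h2 : g (bp 2) = bp 0) (h3 : g (bp 3) = bp 4) :
    ∃ t ∈ cands3, Matches g t := by
  obtain ⟨H, hH, hHm⟩ := exists_H3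
  obtain ⟨e0, e1, e23, e3⟩ := HT3_spec
  have H1 : H (bp 1) = bp 0 := matches_apply hHm (i := 0) (j := 23) (by decide) (by decide) e0
  have H2 : H (bp 2) = bp 1 := matches_apply hHm (i := 1) (j := 0) (by decide) (by decide) e1
  have H0 : H (bp 0) = bp 2 := matches_apply hHm (i := 23) (j := 1) (by decide) (by decide) e23
  have H4 : H (bp 4) = bp 3 := matches_apply hHm (i := 3) (j := 2) (by decide) (by decide) e3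
  have hs : H * g ∈ M24 := M24.mul_mem hH hg
  have hfix4 : ∀ j < 4, (H * g) (bp j) = bp j := by
    intro j hj
    rw [Equiv.Perm.mul_apply]
    have : j = 0 ∨ j = 1 ∨ j = 2 ∨ j = 3 := by omega
    rcases this with rfl | rfl | rfl | rfl
    · rw [h0, H1]
    · rw [h1, H2]
    · rw [h2, H0]
    · rw [h3, H4]
  obtain ⟨q4, hq4, ok4, u4, hu4, m4, hfix5⟩ := sift_step (i := 4) (by decide) hs hfix4
  obtain ⟨q5, hq5, ok5, u5, hu5, m5, hfix6⟩ := sift_step (i := 5) (by decide)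
    (M24.mul_mem hu4 hs) hfix5
  obtain ⟨q6, hq6, ok6, u6, hu6, m6, hfix7⟩ := sift_step (i := 6) (by decide)
    (M24.mul_mem hu5 (M24.mul_mem hu4 hs)) hfix6
  have hone : u6 * (u5 * (u4 * (H * g))) = 1 :=
    eq_one_of_fixes_base (M24.mul_mem hu6 (M24.mul_mem hu5 (M24.mul_mem hu4 hs))) hfix7
  have e : (u6 * (u5 * (u4 * H))) * g = 1 := by
    rw [← hone]; simp only [mul_assoc]
  have hX : (u6 * (u5 * (u4 * H))) * (u6 * (u5 * (u4 * H))) = g := by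
    have hinv : u6 * (u5 * (u4 * H)) = g * g := by
      calc u6 * (u5 * (u4 * H)) = (u6 * (u5 * (u4 * H))) * (g * g * g) := by rw [hggg, mul_one]
        _ = ((u6 * (u5 * (u4 * H))) * g) * (g * g) := by simp only [mul_assoc]
        _ = g * g := by rw [e, one_mul]
    rw [hinv]
    calc g * g * (g * g) = (g * g * g) * g := by simp only [mul_assoc]
      _ = g := by rw [hggg, one_mul]
  have mX : Matches (u6 * (u5 * (u4 * H))) (compT (uT 6 q6) (compT (uT 5 q5) (compT (uT 4 q4) HT3))) :=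
    matches_mul m6 (matches_mul m5 (matches_mul m4 hHm))
  refine ⟨compT (compT (uT 6 q6) (compT (uT 5 q5) (compT (uT 4 q4) HT3)))
      (compT (uT 6 q6) (compT (uT 5 q5) (compT (uT 4 q4) HT3))), ?_, ?_⟩
  · simp only [cands3, List.mem_flatMap, List.mem_filter, List.mem_map, List.mem_range]
    exact ⟨q4, ⟨hq4, ok4⟩, q5, ⟨hq5, ok5⟩, q6, ⟨hq6, ok6⟩, rfl⟩
  · rw [← hX]
    exact matches_mul mX mX

theorem exists_cycles3 {g : Equiv.Perm GolayPt} (hg : g ∈ M24) (hggg : g * g * g = 1)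
    (hne : g ≠ 1) :
    ∃ a d : GolayPt, g a ≠ a ∧ g d ≠ d ∧ d ≠ a ∧ d ≠ g a ∧ d ≠ g (g a) := by
  have h3 : ∀ p, g (g (g p)) = p := by
    intro p
    have := congrArg (fun f : Equiv.Perm GolayPt => f p) hggg
    simpa [Equiv.Perm.mul_apply] using this
  by_contra hcon
  push Not at hcon
  obtain ⟨a, ha⟩ : ∃ a, g a ≠ a := by
    by_contra h
    push Not at h
    exact hne (Equiv.ext h)
  have hab : g a ≠ g (g a) := fun h => ha (g.injective h).symm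
  have hac : a ≠ g (g a) := by
    intro h
    apply ha
    have := h3 a
    rw [← h] at this
    exact this
  apply hne
  apply eq_one_of_fixes_compl hg [a, g a, g (g a)] (by simp [ha.symm, hab, hac]) (by simp)
  intro p hp
  by_contra hpne
  simp only [List.mem_cons, List.not_mem_nil, or_false, not_or] at hp
  exact hp.2.2 (hcon a p ha hpne hp.1 hp.2.1)

theorem base_nodup5 : [bp 0, bp 1, bp 2, bp 3, bp 4].Nodup := by decide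

theorem classify3 {g : Equiv.Perm GolayPt} (hg : g ∈ M24) (h3o : orderOf g = 3) :
    (∃ k ∈ M24, k * g * k⁻¹ = wordP w3A) ∨ (∃ k ∈ M24, k * g * k⁻¹ = wordP w3B) := by
  have hggg : g * g * g = 1 := by
    have := pow_orderOf_eq_one g
    rw [h3o, pow_succ, pow_two] at this
    exact this
  have hne : g ≠ 1 := by
    intro h; rw [h, orderOf_one] at h3o; omega
  have h3 : ∀ p, g (g (g p)) = p := by
    intro p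
    have := congrArg (fun f : Equiv.Perm GolayPt => f p) hggg
    simpa [Equiv.Perm.mul_apply] using this
  obtain ⟨a, d, ha, hd, hda, hdb, hdc⟩ := exists_cycles3 hg hggg hne
  have hab : g a ≠ g (g a) := fun h => ha (g.injective h).symm
  have hac : a ≠ g (g a) := by
    intro h
    apply ha
    have := h3 a
    rw [← h] at this
    exact this
  have hea : g d ≠ a := by
    intro h
    apply hdc
    have := h3 d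
    rw [h] at this
    exact this.symm
  have heb : g d ≠ g a := fun h => hda (g.injective h)
  have hec : g d ≠ g (g a) := fun h => hdb (g.injective h)
  have hl : [a, g a, g (g a), d, g d].Nodup := by
    simp only [List.nodup_cons, List.mem_cons, List.not_mem_nil, or_false, not_or,
      List.nodup_nil, and_true, not_false_eq_true]
    exact ⟨⟨ha.symm, hac, hda.symm, hea.symm⟩, ⟨hab, hdb.symm, heb.symm⟩,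
      ⟨hdc.symm, hec.symm⟩, hd.symm⟩
  obtain ⟨z, hz, hzl⟩ := exists_M24_map_list [a, g a, g (g a), d, g d]
    [bp 0, bp 1, bp 2, bp 3, bp 4] hl base_nodup5 rfl (by simp)
  have z0 : z a = bp 0 := hzl 0 (by simp)
  have z1 : z (g a) = bp 1 := hzl 1 (by simp)
  have z2 : z (g (g a)) = bp 2 := hzl 2 (by simp)
  have z3 : z d = bp 3 := hzl 3 (by simp)
  have z4 : z (g d) = bp 4 := hzl 4 (by simp)
  have hzi : ∀ p q, z p = q → z⁻¹ q = p := by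
    intro p q h; rw [← h]; simp
  have hg' : z * g * z⁻¹ ∈ M24 := M24.mul_mem (M24.mul_mem hz hg) (M24.inv_mem hz)
  have hggg' : (z * g * z⁻¹) * (z * g * z⁻¹) * (z * g * z⁻¹) = 1 := by
    calc (z * g * z⁻¹) * (z * g * z⁻¹) * (z * g * z⁻¹) = z * (g * g * g) * z⁻¹ := by group
      _ = 1 := by rw [hggg]; group
  obtain ⟨t, ht, hmt⟩ := mem_cands3 hg' hggg'
    (by simp only [Equiv.Perm.mul_apply]; rw [hzi _ _ z0, z1])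
    (by simp only [Equiv.Perm.mul_apply]; rw [hzi _ _ z1, z2])
    (by simp only [Equiv.Perm.mul_apply]; rw [hzi _ _ z2, h3, z0])
    (by simp only [Equiv.Perm.mul_apply]; rw [hzi _ _ z3, z4])
  have hord := isOrd3T_of hmt hggg'
  have hbig := big_check3 t ht hord
  obtain ⟨w, hbig⟩ := hbig
  have key : ∀ rep : List ℕ, conjOK t (wordT rep) w = true →
      ∃ k ∈ M24, k * g * k⁻¹ = wordP rep := by
    intro rep hw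
    have e : wordP w * (z * g * z⁻¹) = wordP rep * wordP w :=
      eq_of_eqT (matches_mul (wordP_matches w) hmt)
        (matches_mul (wordP_matches rep) (wordP_matches w)) hw
    refine ⟨wordP w * z, M24.mul_mem (wordP_mem w) hz, ?_⟩
    calc wordP w * z * g * (wordP w * z)⁻¹ = (wordP w * (z * g * z⁻¹)) * (wordP w)⁻¹ := by group
      _ = wordP rep := by rw [e]; group
  rcases hbig with h | h
  · exact Or.inl (key w3A h)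
  · exact Or.inr (key w3B h)

theorem fix3A : (Finset.univ.filter fun p => wordP w3A p = p) = setOf m3A := by
  ext p
  rw [Finset.mem_filter]
  simp only [Finset.mem_univ, true_and]
  exact fix_iff_of_fixIs (wordP_matches w3A) rep3_check.2.1 p

theorem card_fix3A : (Finset.univ.filter fun p => wordP w3A p = p).card = 6 := by
  rw [fix3A, card_setOf]; exact rep3_check.2.2.1

theorem fix3B (p : GolayPt) : wordP w3B p ≠ p := by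
  intro h
  have := (fix_iff_of_fixIs (wordP_matches w3B) rep3_check.2.2.2.2 p).mp h
  rw [setOf_zero] at this
  exact absurd this (Finset.notMem_empty p)

theorem card_fix3B : (Finset.univ.filter fun p => wordP w3B p = p).card = 0 := by
  rw [Finset.card_eq_zero, Finset.filter_eq_empty_iff]
  intro p _
  exact fix3B p

theorem order3A : orderOf (wordP w3A) = 3 := by
  have : Fact (Nat.Prime 3) := ⟨Nat.prime_three⟩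
  apply orderOf_eq_prime
  · rw [pow_succ, pow_two]; exact cube_of_isOrd3T (wordP_matches w3A) rep3_check.1
  · intro h
    have h1 := card_fix3A
    rw [h] at h1
    simp at h1

theorem order3B : orderOf (wordP w3B) = 3 := by
  have : Fact (Nat.Prime 3) := ⟨Nat.prime_three⟩
  apply orderOf_eq_prime
  · rw [pow_succ, pow_two]; exact cube_of_isOrd3T (wordP_matches w3B) rep3_check.2.2.2.1
  · intro h
    exact fix3B none (by rw [h]; rfl)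

/-- number of fixed points of an element of order three -/
theorem card_fix_cases {g : Equiv.Perm GolayPt} (hg : g ∈ M24) (h3o : orderOf g = 3) :
    ((Finset.univ.filter fun p => g p = p).card = 6 ∧ ∃ k ∈ M24, k * g * k⁻¹ = wordP w3A) ∨
    ((Finset.univ.filter fun p => g p = p).card = 0 ∧ ∃ k ∈ M24, k * g * k⁻¹ = wordP w3B) := by
  have hc : ∀ (k R : Equiv.Perm GolayPt), k * g * k⁻¹ = R →
      (Finset.univ.filter fun p => g p = p).card = (Finset.univ.filter fun p => R p = p).card := by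
    intro k R h
    rw [← h, fix_conj, Finset.card_smul_finset]
  rcases classify3 hg h3o with ⟨k, hk, h⟩ | ⟨k, hk, h⟩
  · exact Or.inl ⟨by rw [hc k _ h, card_fix3A], k, hk, h⟩
  · exact Or.inr ⟨by rw [hc k _ h, card_fix3B], k, hk, h⟩

/-! ### Subgroups of order three -/

theorem exists_gen {X : Subgroup ↥M24} (hX : Nat.card X = 3) :
    ∃ x : ↥M24, orderOf x = 3 ∧ X = Subgroup.zpowers x := by
  have : Fact (Nat.Prime 3) := ⟨Nat.prime_three⟩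
  have hfin : Finite X := Nat.finite_of_card_ne_zero (by rw [hX]; decide)
  obtain ⟨y, hy⟩ := exists_prime_orderOf_dvd_card' (G := X) 3 (by rw [hX])
  have hy' : orderOf (y : ↥M24) = 3 := by rw [Subgroup.orderOf_coe]; exact hy
  refine ⟨(y : ↥M24), hy', ?_⟩
  symm
  apply Subgroup.eq_of_le_of_card_ge
  · rw [Subgroup.zpowers_le]; exact y.2
  · rw [Nat.card_zpowers, hy', hX]

theorem fix_zpowers (x0 : ↥M24) :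
    {p : GolayPt | ∀ x ∈ Subgroup.zpowers x0, ((x : ↥M24) : Equiv.Perm GolayPt) p = p} =
      ↑(Finset.univ.filter fun p => ((x0 : ↥M24) : Equiv.Perm GolayPt) p = p) := by
  ext p
  simp only [Set.mem_ofPred_eq, Finset.coe_filter, Finset.mem_univ, true_and]
  constructor
  · intro h; exact h x0 (Subgroup.mem_zpowers x0)
  · intro h x hx
    obtain ⟨n, rfl⟩ := Subgroup.mem_zpowers_iff.mp hx
    rw [Subgroup.coe_zpow]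
    exact Equiv.Perm.zpow_apply_eq_self_of_apply_eq_self h n

theorem ncard_fix_zpowers (x0 : ↥M24) :
    {p : GolayPt | ∀ x ∈ Subgroup.zpowers x0, ((x : ↥M24) : Equiv.Perm GolayPt) p = p}.ncard =
      (Finset.univ.filter fun p => ((x0 : ↥M24) : Equiv.Perm GolayPt) p = p).card := by
  rw [fix_zpowers, Set.ncard_coe_finset]

theorem conj_zpowers (k x y : ↥M24) (h : k * x * k⁻¹ = y) :
    MulAut.conj k • Subgroup.zpowers x = Subgroup.zpowers y := by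
  have h1 : MulAut.conj k • Subgroup.zpowers x =
      (Subgroup.zpowers x).map (MulAut.conj k).toMonoidHom := rfl
  rw [h1, MonoidHom.map_zpowers]
  congr 1

theorem card_zpowers_of_order {x : ↥M24} (h : orderOf x = 3) :
    Nat.card (Subgroup.zpowers x) = 3 := by
  rw [Nat.card_zpowers, h]


/-- The group of the length-24 code has exactly two conjugacy classes of subgroups of order 3: a subgroup of order 3 fixes either exactly 6 of the 24 points or none of them, both cases occur, and two subgroups of order 3 with the same number of fixed points are conjugate. -/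
theorem result : (∀ X : Subgroup ↥Cfsg.M24, Nat.card X = 3 → {p : Cfsg.GolayPt | ∀ x ∈ X, ((x : ↥Cfsg.M24) : Equiv.Perm Cfsg.GolayPt) p = p}.ncard = 6 ∨ {p : Cfsg.GolayPt | ∀ x ∈ X, ((x : ↥Cfsg.M24) : Equiv.Perm Cfsg.GolayPt) p = p}.ncard = 0) ∧ (∃ X : Subgroup ↥Cfsg.M24, Nat.card X = 3 ∧ {p : Cfsg.GolayPt | ∀ x ∈ X, ((x : ↥Cfsg.M24) : Equiv.Perm Cfsg.GolayPt) p = p}.ncard = 6) ∧ (∃ X : Subgroup ↥Cfsg.M24, Nat.card X = 3 ∧ {p : Cfsg.GolayPt | ∀ x ∈ X, ((x : ↥Cfsg.M24) : Equiv.Perm Cfsg.GolayPt) p = p}.ncard = 0) ∧ ∀ X Y : Subgroup ↥Cfsg.M24, Nat.card X = 3 → Nat.card Y = 3 → {p : Cfsg.GolayPt | ∀ x ∈ X, ((x : ↥Cfsg.M24) : Equiv.Perm Cfsg.GolayPt) p = p}.ncard = {p : Cfsg.GolayPt | ∀ x ∈ Y, ((x : ↥Cfsg.M24) : Equiv.Perm Cfsg.GolayPt) p = p}.ncard → ∃ k : ↥Cfsg.M24, MulAut.conj k • X = Y := by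
  have lift : ∀ (x y : ↥M24) (k : Equiv.Perm GolayPt) (hk : k ∈ M24),
      k * (x : Equiv.Perm GolayPt) * k⁻¹ = (y : Equiv.Perm GolayPt) →
      (⟨k, hk⟩ : ↥M24) * x * (⟨k, hk⟩ : ↥M24)⁻¹ = y := by
    intro x y k hk h
    apply Subtype.ext
    simpa using h
  have conjOf : ∀ (x y : ↥M24) (R : Equiv.Perm GolayPt),
      (∃ k ∈ M24, k * (x : Equiv.Perm GolayPt) * k⁻¹ = R) →
      (∃ k ∈ M24, k * (y : Equiv.Perm GolayPt) * k⁻¹ = R) →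
      ∃ k : ↥M24, MulAut.conj k • Subgroup.zpowers x = Subgroup.zpowers y := by
    rintro x y R ⟨k1, hk1, e1⟩ ⟨k2, hk2, e2⟩
    refine ⟨⟨k2⁻¹ * k1, M24.mul_mem (M24.inv_mem hk2) hk1⟩, ?_⟩
    apply conj_zpowers
    apply lift
    calc k2⁻¹ * k1 * (x : Equiv.Perm GolayPt) * (k2⁻¹ * k1)⁻¹
        = k2⁻¹ * (k1 * (x : Equiv.Perm GolayPt) * k1⁻¹) * k2 := by group
      _ = k2⁻¹ * (k2 * (y : Equiv.Perm GolayPt) * k2⁻¹) * k2 := by rw [e1, e2]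
      _ = (y : Equiv.Perm GolayPt) := by group
  have ordc : ∀ x : ↥M24, orderOf x = 3 → orderOf (x : Equiv.Perm GolayPt) = 3 := by
    intro x h; rw [Subgroup.orderOf_coe]; exact h
  refine ⟨?_, ?_, ?_, ?_⟩
  · intro X hX
    obtain ⟨x0, hx0, rfl⟩ := exists_gen hX
    rw [ncard_fix_zpowers]
    rcases card_fix_cases x0.2 (ordc x0 hx0) with ⟨h, _⟩ | ⟨h, _⟩
    · exact Or.inl h
    · exact Or.inr h
  · have ho : orderOf (⟨wordP w3A, wordP_mem w3A⟩ : ↥M24) = 3 := by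
      rw [← Subgroup.orderOf_coe]; exact order3A
    refine ⟨Subgroup.zpowers ⟨wordP w3A, wordP_mem w3A⟩, card_zpowers_of_order ho, ?_⟩
    rw [ncard_fix_zpowers]
    exact card_fix3A
  · have ho : orderOf (⟨wordP w3B, wordP_mem w3B⟩ : ↥M24) = 3 := by
      rw [← Subgroup.orderOf_coe]; exact order3B
    refine ⟨Subgroup.zpowers ⟨wordP w3B, wordP_mem w3B⟩, card_zpowers_of_order ho, ?_⟩
    rw [ncard_fix_zpowers]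
    exact card_fix3B
  · intro X Y hX hY hXY
    obtain ⟨x0, hx0, rfl⟩ := exists_gen hX
    obtain ⟨y0, hy0, rfl⟩ := exists_gen hY
    rw [ncard_fix_zpowers, ncard_fix_zpowers] at hXY
    rcases card_fix_cases x0.2 (ordc x0 hx0) with ⟨h1, c1⟩ | ⟨h1, c1⟩ <;>
      rcases card_fix_cases y0.2 (ordc y0 hy0) with ⟨h2, c2⟩ | ⟨h2, c2⟩
    · exact conjOf x0 y0 _ c1 c2
    · rw [h1, h2] at hXY; omega
    · rw [h1, h2] at hXY; omega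
    · exact conjOf x0 y0 _ c1 c2

end Cfsg.Agent.S5601
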