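import Cfsg.Statements.S5627
import Cfsg.Agent.Lib.Helper6.Plane4Quad

set_option autoImplicit false
open Cfsg

namespace Cfsg.Agent.S5627

open Cfsg.Agent.Lib.Helper6

/-- In a projective plane of order 4 (a Steiner system S(2, 5, 21)), call a set of points independent when no line meets it in more than two points. There are exactly 2520 independent 4-sets and exactly 168 independent 6-sets (hyperovals), and every independent 4-set lies in exactly one hyperoval. -/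
theorem result {α : Type*} [Fintype α] [DecidableEq α] (hα : Fintype.card α = 21) (L : Set (Finset α)) (hL : Cfsg.IsSteinerSystem 2 5 L) : {S : Finset α | (S.card = 4 ∧ ∀ l ∈ L, (l ∩ S).card ≤ 2)}.ncard = 2520 ∧ {H : Finset α | (H.card = 6 ∧ ∀ l ∈ L, (l ∩ H).card ≤ 2)}.ncard = 168 ∧ ∀ S : Finset α, (S.card = 4 ∧ ∀ l ∈ L, (l ∩ S).card ≤ 2) → ∃! H : Finset α, (H.card = 6 ∧ ∀ l ∈ L, (l ∩ H).card ≤ 2) ∧ S ⊆ H := by
  classical
  have h1 := p4_card_quadrangles hα hL
  have h3 : ∀ S : Finset α, (S.card = 4 ∧ ∀ l ∈ L, (l ∩ S).card ≤ 2) →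
      ∃! H : Finset α, (H.card = 6 ∧ ∀ l ∈ L, (l ∩ H).card ≤ 2) ∧ S ⊆ H := by
    rintro S ⟨hS4, hind⟩
    refine ⟨S ∪ p4Ext L S, ⟨⟨p4_card_union_ext hα hL hS4 hind, p4_indep_union_ext hα hL hS4 hind⟩,
      Finset.subset_union_left⟩, ?_⟩
    rintro H ⟨⟨hH6, hHind⟩, hSH⟩
    exact p4_hyperoval_unique hα hL hS4 hind hH6 hHind hSH
  refine ⟨h1, ?_, h3⟩
  -- double counting
  set 𝒬 : Finset (Finset α) :=
    Finset.univ.filter (fun S => S.card = 4 ∧ ∀ l ∈ L, (l ∩ S).card ≤ 2) with h𝒬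
  set ℋ : Finset (Finset α) :=
    Finset.univ.filter (fun H => H.card = 6 ∧ ∀ l ∈ L, (l ∩ H).card ≤ 2) with hℋ
  have hQset : {S : Finset α | (S.card = 4 ∧ ∀ l ∈ L, (l ∩ S).card ≤ 2)} = ↑𝒬 := by
    ext S; simp [h𝒬]
  have hHset : {H : Finset α | (H.card = 6 ∧ ∀ l ∈ L, (l ∩ H).card ≤ 2)} = ↑ℋ := by
    ext S; simp [hℋ]
  rw [hQset, Set.ncard_coe_finset] at h1
  rw [hHset, Set.ncard_coe_finset]
  have hdc := Finset.sum_card_bipartiteAbove_eq_sum_card_bipartiteBelow (s := ℋ) (t := 𝒬)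
    (fun (H S : Finset α) => S ⊆ H)
  simp only [Finset.bipartiteAbove, Finset.bipartiteBelow] at hdc
  have hleft : ∑ H ∈ ℋ, (𝒬.filter (fun S => S ⊆ H)).card = ℋ.card * 15 := by
    rw [Finset.sum_const_nat]
    intro H hH
    rw [hℋ, Finset.mem_filter] at hH
    obtain ⟨-, hH6, hHind⟩ := hH
    have : 𝒬.filter (fun S => S ⊆ H) = H.powersetCard 4 := by
      ext S
      simp only [h𝒬, Finset.mem_filter, Finset.mem_univ, true_and, Finset.mem_powersetCard]
      constructor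
      · rintro ⟨⟨h4, -⟩, hsub⟩
        exact ⟨hsub, h4⟩
      · rintro ⟨hsub, h4⟩
        refine ⟨⟨h4, fun l hl => ?_⟩, hsub⟩
        exact (Finset.card_le_card (Finset.inter_subset_inter_left hsub)).trans (hHind l hl)
    rw [this, Finset.card_powersetCard, hH6]
    decide
  have hright : ∑ S ∈ 𝒬, (ℋ.filter (fun H => S ⊆ H)).card = 𝒬.card := by
    rw [Finset.card_eq_sum_ones]
    apply Finset.sum_congr rfl
    intro S hS
    rw [h𝒬, Finset.mem_filter] at hS
    obtain ⟨H, ⟨hH, hSH⟩, huniq⟩ := h3 S hS.2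
    rw [Finset.card_eq_one]
    refine ⟨H, ?_⟩
    ext H'
    simp only [hℋ, Finset.mem_filter, Finset.mem_univ, true_and, Finset.mem_singleton]
    constructor
    · rintro ⟨hH', hSH'⟩
      exact huniq H' ⟨hH', hSH'⟩
    · rintro rfl
      exact ⟨hH, hSH⟩
  rw [hleft, hright, h1] at hdc
  omega

end Cfsg.Agent.S5627
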