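import Cfsg.Statements.S0587
import Cfsg.Agent.S0551
import Mathlib

set_option autoImplicit false
open Cfsg

namespace Cfsg.Agent.S0587

theorem pCore_normal (p : ℕ) (G : Type*) [Group G] : (Cfsg.pCore p G).Normal :=
  Subgroup.sSup_normal _ (fun _ h => h.1)

theorem pCore_isPGroup (p : ℕ) (G : Type*) [Group G] : IsPGroup p (Cfsg.pCore p G) :=
  Sylow.sSup_of_normal _ (fun _ h => h.2) (fun _ h => h.1)

theorem le_pCore {p : ℕ} {G : Type*} [Group G] (N : Subgroup G) (hN : N.Normal)
    (hp : IsPGroup p N) : N ≤ Cfsg.pCore p G :=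
  le_sSup ⟨hN, hp⟩

/-- An abelian minimal normal subgroup whose order is divisible by `p` has exponent `p`. -/
theorem pow_eq_one_of_minimal_normal {G : Type*} [Group G] [Finite G] (M : Subgroup G) [M.Normal]
    (hmin : ∀ K : Subgroup G, K.Normal → K ≤ M → K = ⊥ ∨ K = M)
    (hcent : M ≤ Subgroup.centralizer (M : Set G)) (p : ℕ) (hp : p.Prime)
    (hpdvd : p ∣ Nat.card M) : ∀ x ∈ M, x ^ p = 1 := by
  classical
  have : Fact p.Prime := ⟨hp⟩
  obtain ⟨x, hx⟩ := exists_prime_orderOf_dvd_card' p hpdvd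
  let Mp : Subgroup G :=
    { carrier := {y | y ∈ M ∧ y ^ p = 1}
      mul_mem' := by
        rintro a b ⟨ha, hap⟩ ⟨hb, hbp⟩
        refine ⟨M.mul_mem ha hb, ?_⟩
        have hab : Commute a b := (hcent ha b hb).symm
        rw [hab.mul_pow, hap, hbp, one_mul]
      one_mem' := ⟨M.one_mem, one_pow _⟩
      inv_mem' := by
        rintro a ⟨ha, hap⟩
        exact ⟨M.inv_mem ha, by rw [inv_pow, hap, inv_one]⟩ }
  have hMpn : Mp.Normal := by
    constructor
    rintro a ⟨ha, hap⟩ g
    refine ⟨Subgroup.Normal.conj_mem inferInstance a ha g, ?_⟩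
    rw [conj_pow, hap, mul_one, mul_inv_cancel]
  have hMple : Mp ≤ M := fun y hy => hy.1
  have hMpne : Mp ≠ ⊥ := by
    intro hbot
    have hxmem : (x : G) ∈ Mp := by
      refine ⟨x.2, ?_⟩
      have : x ^ p = 1 := by rw [← hx]; exact pow_orderOf_eq_one x
      have := congrArg Subtype.val this
      simpa using this
    rw [hbot] at hxmem
    have hx1 : (x : G) = 1 := hxmem
    have : x = 1 := Subtype.ext hx1
    rw [this, orderOf_one] at hx
    exact hp.one_lt.ne hx
  have hMpM : Mp = M := by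
    rcases hmin Mp hMpn hMple with h | h
    · exact absurd h hMpne
    · exact h
  intro y hy
  have : y ∈ Mp := by rw [hMpM]; exact hy
  exact this.2

/-- Let G be a finite group whose largest normal p-subgroup L is nontrivial, and M a maximal subgroup of G with trivial normal core. Then L is elementary abelian, M is a complement to L, L is a minimal normal subgroup of G, the centralizer of L is L, and for every prime q such that the largest normal q-subgroup of M is nontrivial, the order of L is congruent to 1 modulo q and q ≠ p. -/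
theorem result {G : Type*} [Group G] [Finite G] (p : ℕ) [Fact p.Prime] (hL : Cfsg.pCore p G ≠ ⊥) (M : Subgroup G) (hM : IsCoatom M) (hcore : M.normalCore = ⊥) : Cfsg.IsElementaryAbelian p (Cfsg.pCore p G) ∧ Subgroup.IsComplement' (Cfsg.pCore p G) M ∧ (∀ K : Subgroup G, K.Normal → K ≤ Cfsg.pCore p G → K = ⊥ ∨ K = Cfsg.pCore p G) ∧ Subgroup.centralizer ((Cfsg.pCore p G : Subgroup G) : Set G) = Cfsg.pCore p G ∧ ∀ (q : ℕ) [Fact q.Prime], Cfsg.pCore q ↥M ≠ ⊥ → Nat.card (Cfsg.pCore p G) % q = 1 % q ∧ q ≠ p := by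
  classical
  set L : Subgroup G := Cfsg.pCore p G with hLdef
  have hLn : L.Normal := pCore_normal p G
  have hLp : IsPGroup p L := pCore_isPGroup p G
  have hLnil : Group.IsNilpotent L := hLp.isNilpotent
  -- minimal normal N ≤ L
  obtain ⟨N, hNn, hNne, hNL, hNmin⟩ := S0551.exists_minimal_normal L hL
  have hNp : IsPGroup p N := hLp.to_le hNL
  -- ⁅N, L⁆ = ⊥
  have hNLcomm : ⁅N, L⁆ = ⊥ := by
    rcases hNmin ⁅N, L⁆ inferInstance (Subgroup.commutator_le_left N L) with h | h
    · exact h
    · exact absurd (S0551.eq_bot_of_commutator_eq N L hNL hLnil h) hNne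
  have hLCN : L ≤ Subgroup.centralizer (N : Set G) := by
    rw [Subgroup.commutator_eq_bot_iff_le_centralizer] at hNLcomm
    exact Subgroup.le_centralizer_iff.mp hNLcomm
  have hNcent : N ≤ Subgroup.centralizer (N : Set G) := hNL.trans hLCN
  -- C(N) = N
  obtain ⟨hCNM, hCNmin⟩ := S0549.result M hM hcore N hNne
  have hCN : Subgroup.centralizer (N : Set G) = N := by
    rcases hCNmin with h | ⟨_, h⟩
    · exfalso
      rw [h] at hNcent
      exact hNne (le_bot_iff.mp hNcent)
    · rcases h N inferInstance hNcent with h' | h'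
      · exact absurd h' hNne
      · exact h'.symm
  have hLN : L = N := le_antisymm (by rw [← hCN]; exact hLCN) hNL
  have hLmin : ∀ K : Subgroup G, K.Normal → K ≤ L → K = ⊥ ∨ K = L := by
    rw [hLN]; exact hNmin
  have hCL : Subgroup.centralizer (L : Set G) = L := by rw [hLN]; exact hCN
  have hLcent : L ≤ Subgroup.centralizer (L : Set G) := by rw [hCL]
  have hLM : L ⊓ M = ⊥ := by
    have := hCNM
    rw [hCN, ← hLN] at this
    exact this
  have hLMtop : L ⊔ M = ⊤ := S0549.sup_eq_top_of_normal M hM hcore L hL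
  have hLcard : p ∣ Nat.card L := by
    rcases hLp.card_eq_or_dvd with h | h
    · exact absurd (Subgroup.card_eq_one.mp h) hL
    · exact h
  have hexp : ∀ x ∈ L, x ^ p = 1 :=
    pow_eq_one_of_minimal_normal L hLmin hLcent p Fact.out hLcard
  refine ⟨⟨Subgroup.le_centralizer_iff_isMulCommutative.mp hLcent, hexp⟩, ?_, hLmin, hCL, ?_⟩
  · apply Subgroup.isComplement'_of_disjoint_and_mul_eq_univ (disjoint_iff.mpr hLM)
    rw [← Subgroup.normal_mul, hLMtop]
    rfl
  · intro q hq hQ
    set Q : Subgroup M := Cfsg.pCore q ↥M with hQdef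
    have hQn : Q.Normal := pCore_normal q ↥M
    have hQq : IsPGroup q Q := pCore_isPGroup q ↥M
    set Q₀ : Subgroup G := Q.map M.subtype with hQ₀def
    have hQ₀M : Q₀ ≤ M := Subgroup.map_subtype_le Q
    have hQ₀q : IsPGroup q Q₀ := hQq.map _
    have hQ₀ne : Q₀ ≠ ⊥ := by
      intro h
      exact hQ ((Subgroup.map_eq_bot_iff_of_injective Q M.subtype_injective).mp h)
    -- M normalizes Q₀
    have hMQ₀ : ∀ m ∈ M, ∀ x ∈ Q₀, m * x * m⁻¹ ∈ Q₀ := by
      rintro m hm _ ⟨x, hx, rfl⟩
      refine ⟨⟨m, hm⟩ * x * ⟨m, hm⟩⁻¹, hQn.conj_mem x hx ⟨m, hm⟩, ?_⟩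
      simp
    have hQ₀L : Q₀ ⊓ L = ⊥ := by
      rw [eq_bot_iff, ← hLM]
      exact le_inf inf_le_right (inf_le_left.trans hQ₀M)
    have hqp : q ≠ p := by
      intro hqp
      subst hqp
      have hsupq : IsPGroup q (L ⊔ Q₀ : Subgroup G) := IsPGroup.to_sup_of_normal_left hLp hQ₀q
      have hsupn : (L ⊔ Q₀).Normal := by
        rw [← Subgroup.normalizer_eq_top_iff, eq_top_iff, ← hLMtop]
        refine sup_le (le_sup_left.trans Subgroup.le_normalizer) ?_
        rw [Subgroup.le_normalizer_iff]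
        intro m hm x hx
        rw [Subgroup.mem_sup_of_normal_left] at hx
        obtain ⟨l, hl, y, hy, rfl⟩ := hx
        have : m * (l * y) * m⁻¹ = (m * l * m⁻¹) * (m * y * m⁻¹) := by group
        rw [this]
        exact Subgroup.mul_mem_sup (hLn.conj_mem l hl m) (hMQ₀ m hm y hy)
      have hle : L ⊔ Q₀ ≤ L := le_pCore _ hsupn hsupq
      have : Q₀ ≤ Q₀ ⊓ L := le_inf le_rfl (le_sup_right.trans hle)
      rw [hQ₀L] at this
      exact hQ₀ne (le_bot_iff.mp this)
    refine ⟨?_, hqp⟩
    -- C_L(Q₀) is normal in G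
    set C : Subgroup G := L ⊓ Subgroup.centralizer (Q₀ : Set G) with hCdef
    have hCn : C.Normal := by
      rw [← Subgroup.normalizer_eq_top_iff, eq_top_iff, ← hLMtop]
      refine sup_le ?_ ?_
      · rw [Subgroup.le_normalizer_iff]
        intro l hl c hc
        have : l * c = c * l := (hLcent hl c hc.1).symm
        rw [this, mul_assoc, mul_inv_cancel, mul_one]
        exact hc
      · rw [Subgroup.le_normalizer_iff]
        intro m hm c hc
        refine ⟨hLn.conj_mem c hc.1 m, ?_⟩
        show m * c * m⁻¹ ∈ Subgroup.centralizer (Q₀ : Set G)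
        rw [Subgroup.mem_centralizer_iff]
        intro y hy
        -- y * (m c m⁻¹) = (m c m⁻¹) * y ; use m⁻¹ y m ∈ Q₀
        have hy' : m⁻¹ * y * m⁻¹⁻¹ ∈ Q₀ := hMQ₀ m⁻¹ (M.inv_mem hm) y hy
        have h1 : (m⁻¹ * y * m⁻¹⁻¹) * c = c * (m⁻¹ * y * m⁻¹⁻¹) := hc.2 _ hy'
        calc y * (m * c * m⁻¹) = m * ((m⁻¹ * y * m⁻¹⁻¹) * c) * m⁻¹ := by group
          _ = m * (c * (m⁻¹ * y * m⁻¹⁻¹)) * m⁻¹ := by rw [h1]
          _ = m * c * m⁻¹ * y := by group
    have hCbot : C = ⊥ := by
      rcases hLmin C hCn inf_le_left with h | h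
      · exact h
      · exfalso
        have hLcQ : L ≤ Subgroup.centralizer (Q₀ : Set G) := by rw [← h]; exact inf_le_right
        have hQ₀cL : Q₀ ≤ Subgroup.centralizer (L : Set G) := Subgroup.le_centralizer_iff.mp hLcQ
        rw [hCL] at hQ₀cL
        have : Q₀ ≤ Q₀ ⊓ L := le_inf le_rfl hQ₀cL
        rw [hQ₀L] at this
        exact hQ₀ne (le_bot_iff.mp this)
    -- the conjugation action of Q₀ on L
    let φ : Q₀ →* MulAut L := (MulAut.conjNormal (H := L)).comp Q₀.subtype
    let _ : MulAction Q₀ L := MulAction.compHom L φ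
    have hsmul : ∀ (x : Q₀) (l : L), ((x • l : L) : G) = (x : G) * (l : G) * (x : G)⁻¹ := by
      intro x l
      rfl
    have hfix : MulAction.fixedPoints Q₀ L = {1} := by
      ext l
      simp only [MulAction.mem_fixedPoints, Set.mem_singleton_iff]
      constructor
      · intro h
        have hlC : (l : G) ∈ C := by
          refine ⟨l.2, ?_⟩
          show (l : G) ∈ Subgroup.centralizer (Q₀ : Set G)
          rw [Subgroup.mem_centralizer_iff]
          intro y hy
          have := congrArg Subtype.val (h ⟨y, hy⟩)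
          rw [hsmul] at this
          calc y * (l : G) = (y * (l : G) * y⁻¹) * y := by group
            _ = (l : G) * y := by rw [this]
        rw [hCbot, Subgroup.mem_bot] at hlC
        exact Subtype.ext hlC
      · rintro rfl x
        apply Subtype.ext
        rw [hsmul]
        simp
    have hmod := hQ₀q.card_modEq_card_fixedPoints (α := L)
    rw [hfix] at hmod
    simpa [Nat.ModEq] using hmod

end Cfsg.Agent.S0587
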