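import Cfsg.Statements.S4116
import Mathlib

set_option autoImplicit false

namespace Cfsg.Agent.S4116

/-- non-identity elements lying in a conjugate of `K₀` -/
def covered {K : Type*} [Group K] (K₀ : Subgroup K) : Set K :=
  {y | y ≠ 1 ∧ ∃ k : K, k⁻¹ * y * k ∈ K₀}

theorem card_covered {K : Type*} [Group K] [Finite K] (K₀ : Subgroup K)
    (hmal : ∀ k : K, k ∉ K₀ → ∀ z ∈ K₀, k * z * k⁻¹ ∈ K₀ → z = 1) :
    Nat.card (covered K₀) = K₀.index * (Nat.card K₀ - 1) := by
  have hcard2 : Nat.card {z : K₀ // z ≠ 1} = Nat.card K₀ - 1 := by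
    classical
    have := Fintype.ofFinite K₀
    rw [Nat.card_eq_fintype_card, Nat.card_eq_fintype_card, Fintype.card_subtype_compl,
      Fintype.card_subtype_eq]
  rw [Subgroup.index, ← hcard2, ← Nat.card_prod]
  symm
  let f : (K ⧸ K₀) × {z : K₀ // z ≠ 1} → covered K₀ := fun qz =>
    ⟨qz.1.out * (qz.2.1 : K) * qz.1.out⁻¹, by
      refine ⟨?_, qz.1.out, ?_⟩
      · intro h
        apply qz.2.2
        have : (qz.2.1 : K) = 1 := by
          have h2 : (qz.2.1 : K) = qz.1.out⁻¹ * (qz.1.out * (qz.2.1 : K) * qz.1.out⁻¹) * qz.1.out := by group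
          rw [h2, h]; group
        exact Subtype.ext this
      · have h2 : qz.1.out⁻¹ * (qz.1.out * (qz.2.1 : K) * qz.1.out⁻¹) * qz.1.out = (qz.2.1 : K) := by group
        rw [h2]; exact qz.2.1.2⟩
  apply Nat.card_eq_of_bijective f
  constructor
  · rintro ⟨q, z, hz⟩ ⟨q', z', hz'⟩ h
    have h' : q.out * (z : K) * q.out⁻¹ = q'.out * (z' : K) * q'.out⁻¹ := congrArg Subtype.val h
    have hk : q'.out⁻¹ * q.out ∈ K₀ := by
      by_contra hk
      have := hmal (q'.out⁻¹ * q.out) hk (z : K) z.2 (by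
        have : q'.out⁻¹ * q.out * (z : K) * (q'.out⁻¹ * q.out)⁻¹ = q'.out⁻¹ * (q.out * (z : K) * q.out⁻¹) * q'.out := by group
        rw [this, h']
        have : q'.out⁻¹ * (q'.out * (z' : K) * q'.out⁻¹) * q'.out = (z' : K) := by group
        rw [this]; exact z'.2)
      exact hz (Subtype.ext this)
    have hq : q' = q := by
      rw [← QuotientGroup.out_eq' q', ← QuotientGroup.out_eq' q]
      exact QuotientGroup.eq.mpr hk
    subst hq
    have hz2 : (z : K) = z' := by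
      have : (z : K) = q'.out⁻¹ * (q'.out * (z : K) * q'.out⁻¹) * q'.out := by group
      rw [this, h']; group
    have : z = z' := Subtype.ext hz2
    subst this
    rfl
  · rintro ⟨y, hy1, k, hk⟩
    obtain ⟨u, hu⟩ := QuotientGroup.mk_out_eq_mul K₀ k
    have hzmem : (QuotientGroup.mk k : K ⧸ K₀).out⁻¹ * y * (QuotientGroup.mk k : K ⧸ K₀).out ∈ K₀ := by
      rw [hu]
      have : (k * (u : K))⁻¹ * y * (k * (u : K)) = (u : K)⁻¹ * (k⁻¹ * y * k) * u := by group
      rw [this]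
      exact K₀.mul_mem (K₀.mul_mem (K₀.inv_mem u.2) hk) u.2
    refine ⟨⟨QuotientGroup.mk k, ⟨⟨_, hzmem⟩, ?_⟩⟩, ?_⟩
    · intro h
      apply hy1
      have h2 : (QuotientGroup.mk k : K ⧸ K₀).out⁻¹ * y * (QuotientGroup.mk k : K ⧸ K₀).out = 1 := congrArg Subtype.val h
      have : y = (QuotientGroup.mk k : K ⧸ K₀).out * ((QuotientGroup.mk k : K ⧸ K₀).out⁻¹ * y * (QuotientGroup.mk k : K ⧸ K₀).out) * (QuotientGroup.mk k : K ⧸ K₀).out⁻¹ := by group
      rw [this, h2]; group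
    · apply Subtype.ext
      show (QuotientGroup.mk k : K ⧸ K₀).out * ((QuotientGroup.mk k : K ⧸ K₀).out⁻¹ * y * (QuotientGroup.mk k : K ⧸ K₀).out) * (QuotientGroup.mk k : K ⧸ K₀).out⁻¹ = y
      group

theorem covered_bounds {K : Type*} [Group K] [Finite K] (K₀ : Subgroup K)
    (hmal : ∀ k : K, k ∉ K₀ → ∀ z ∈ K₀, k * z * k⁻¹ ∈ K₀ → z = 1)
    (h1 : K₀ ≠ ⊥) (h2 : K₀ ≠ ⊤) :
    Nat.card K ≤ 2 * (covered K₀).ncard ∧ (covered K₀).ncard + 2 ≤ Nat.card K := by
  have hc := card_covered K₀ hmal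
  rw [Nat.card_coe_set_eq] at hc
  have hidx : 2 ≤ K₀.index := Subgroup.one_lt_index_of_ne_top h2
  have hcard : 2 ≤ Nat.card K₀ := K₀.one_lt_card_iff_ne_bot.mpr h1
  have hmul := K₀.index_mul_card
  rw [hc, ← hmul]
  obtain ⟨c, hc'⟩ : ∃ c, Nat.card K₀ = c + 2 := ⟨Nat.card K₀ - 2, by omega⟩
  obtain ⟨i, hi'⟩ : ∃ i, K₀.index = i + 2 := ⟨K₀.index - 2, by omega⟩
  rw [hc', hi']
  constructor
  · have : c + 2 - 1 = c + 1 := by omega
    rw [this]; nlinarith
  · have : c + 2 - 1 = c + 1 := by omega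
    rw [this]; nlinarith

variable {G : Type*} [Group G]

/-- `g H g⁻¹` -/
abbrev cj (H : Subgroup G) (g : G) : Subgroup G := H.map (MulAut.conj g).toMonoidHom

theorem mem_cj (H : Subgroup G) (g x : G) : x ∈ cj H g ↔ g⁻¹ * x * g ∈ H := by
  unfold cj
  constructor
  · rintro ⟨h, hh, rfl⟩
    simp only [MulEquiv.coe_toMonoidHom, MulAut.conj_apply]
    have : g⁻¹ * (g * h * g⁻¹) * g = h := by group
    rw [this]; exact hh
  · intro h
    refine ⟨g⁻¹ * x * g, h, ?_⟩
    simp only [MulEquiv.coe_toMonoidHom, MulAut.conj_apply]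
    group

theorem mem_normalizer_of_TI (H : Subgroup G) (hTI : Cfsg.IsTISubset (H : Set G)) (a b y : G)
    (hy1 : y ≠ 1) (ha : y ∈ cj H a) (hb : y ∈ cj H b) :
    b⁻¹ * a ∈ Subgroup.normalizer (H : Set G) := by
  rw [mem_cj] at ha hb
  by_contra hn
  have := hTI (b⁻¹ * a) hn (a⁻¹ * y * a) ha (by
    have : b⁻¹ * a * (a⁻¹ * y * a) * (b⁻¹ * a)⁻¹ = b⁻¹ * y * b := by group
    rw [this]; exact hb)
  apply hy1
  have h2 : y = a * (a⁻¹ * y * a) * a⁻¹ := by group
  rw [h2, this]; group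

theorem cj_eq_of_normalizer (H : Subgroup G) (a b : G)
    (h : b⁻¹ * a ∈ Subgroup.normalizer (H : Set G)) : cj H a = cj H b := by
  ext z
  rw [mem_cj, mem_cj]
  rw [Subgroup.mem_normalizer_iff] at h
  rw [h (a⁻¹ * z * a)]
  have : b⁻¹ * a * (a⁻¹ * z * a) * (b⁻¹ * a)⁻¹ = b⁻¹ * z * b := by group
  rw [this]

/-- An element of the normalizer of a Hall subgroup `H` whose order is coprime to the index
lies in `H`. -/
theorem mem_of_mem_normalizer [Finite G] (H : Subgroup G) (g : G)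
    (hg : g ∈ Subgroup.normalizer (H : Set G)) (hcop : (orderOf g).Coprime H.index) : g ∈ H := by
  set N := Subgroup.normalizer (H : Set G) with hN
  have hnorm : (H.subgroupOf N).Normal := Subgroup.normal_in_normalizer
  let g' : N := ⟨g, hg⟩
  have h1 : orderOf (QuotientGroup.mk g' : N ⧸ H.subgroupOf N) ∣ orderOf g := by
    have : orderOf (QuotientGroup.mk g' : N ⧸ H.subgroupOf N) ∣ orderOf g' :=
      orderOf_dvd_of_pow_eq_one (by rw [← QuotientGroup.mk_pow, pow_orderOf_eq_one]; rfl)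
    rwa [Subgroup.orderOf_mk] at this
  have h2 : orderOf (QuotientGroup.mk g' : N ⧸ H.subgroupOf N) ∣ H.index := by
    have h3 : orderOf (QuotientGroup.mk g' : N ⧸ H.subgroupOf N) ∣ Nat.card (N ⧸ H.subgroupOf N) :=
      orderOf_dvd_natCard _
    have h4 : Nat.card (N ⧸ H.subgroupOf N) = H.relIndex N := rfl
    rw [h4] at h3
    exact h3.trans (Subgroup.relIndex_dvd_index_of_le H.le_normalizer)
  have h5 : orderOf (QuotientGroup.mk g' : N ⧸ H.subgroupOf N) = 1 :=
    Nat.eq_one_of_dvd_coprimes hcop h1 h2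
  have h6 := orderOf_eq_one_iff.mp h5
  have h7 : g' ∈ H.subgroupOf N := (QuotientGroup.eq_one_iff g').mp h6
  exact Subgroup.mem_subgroupOf.mp h7

/-- Elements of prime order `q ∣ |H|` lie in a conjugate of the Hall subgroup `H`. -/
theorem exists_cj_of_prime_order [Finite G] (H : Subgroup G)
    (hHall : (Nat.card H).Coprime H.index) (y : G) (q : ℕ) (hq : q.Prime) (hy : orderOf y = q)
    (hqH : q ∣ Nat.card H) : ∃ a : G, y ∈ cj H a := by
  have : Fact q.Prime := ⟨hq⟩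
  have hp : IsPGroup q (Subgroup.zpowers y) := by
    apply IsPGroup.of_card (n := 1)
    rw [Nat.card_zpowers, hy, pow_one]
  have hnd : ¬ q ∣ Nat.card (G ⧸ H) := by
    intro h
    have h1 : q ∣ H.index := h
    have := Nat.Coprime.eq_one_of_dvd (Nat.Coprime.coprime_dvd_left hqH hHall) h1
    exact hq.one_lt.ne' this
  obtain ⟨c, hc⟩ := hp.nonempty_fixed_point_of_prime_not_dvd_card (G ⧸ H) hnd
  induction c using QuotientGroup.induction_on with
  | H g =>
    refine ⟨g, ?_⟩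
    rw [mem_cj]
    have h1 := hc ⟨y, Subgroup.mem_zpowers y⟩
    have h1' : (QuotientGroup.mk (y * g) : G ⧸ H) = QuotientGroup.mk g := h1
    have h2 : (y * g)⁻¹ * g ∈ H := QuotientGroup.eq.mp h1'
    have h3 := H.inv_mem h2
    have h4 : ((y * g)⁻¹ * g)⁻¹ = g⁻¹ * y * g := by group
    rwa [h4] at h3

/-- (A): every non-identity element whose order is coprime to the index (and all of whose prime
divisors divide `|H|`) lies in a conjugate of `H`. -/
theorem exists_cj_of_pi_element [Finite G] (H : Subgroup G)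
    (hHall : (Nat.card H).Coprime H.index) (hTI : Cfsg.IsTISubset (H : Set G))
    (y : G) (hy1 : y ≠ 1) (hyπ : ∀ q : ℕ, q.Prime → q ∣ orderOf y → q ∣ Nat.card H) :
    ∃ b : G, y ∈ cj H b := by
  have hne1 : orderOf y ≠ 1 := fun h => hy1 (orderOf_eq_one_iff.mp h)
  obtain ⟨q, hq, hqy⟩ := Nat.exists_prime_and_dvd hne1
  have hy0 : orderOf y ≠ 0 := (orderOf_pos y).ne'
  set y' := y ^ (orderOf y / q) with hy'
  have hy'o : orderOf y' = q := orderOf_pow_orderOf_div hy0 hqy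
  have hy'1 : y' ≠ 1 := by
    intro h
    rw [h, orderOf_one] at hy'o
    exact hq.one_lt.ne' hy'o.symm
  obtain ⟨b, hb⟩ := exists_cj_of_prime_order H hHall y' q hq hy'o (hyπ q hq hqy)
  refine ⟨b, ?_⟩
  -- y commutes with y'
  have hcomm : y * y' * y⁻¹ = y' := by
    rw [hy']
    have : Commute y (y ^ (orderOf y / q)) := Commute.pow_right (Commute.refl y) _
    rw [this.eq]; group
  have hb2 : y' ∈ cj H (y⁻¹ * b) := by
    rw [mem_cj] at hb ⊢
    have : (y⁻¹ * b)⁻¹ * y' * (y⁻¹ * b) = b⁻¹ * (y * y' * y⁻¹) * b := by group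
    rw [this, hcomm]; exact hb
  have hn := mem_normalizer_of_TI H hTI b (y⁻¹ * b) y' hy'1 hb hb2
  have hn' : b⁻¹ * y * b ∈ Subgroup.normalizer (H : Set G) := by
    have : (y⁻¹ * b)⁻¹ * b = b⁻¹ * y * b := by group
    rwa [this] at hn
  have hord : orderOf (b⁻¹ * y * b) = orderOf y := by
    have : b⁻¹ * y * b = MulAut.conj b⁻¹ y := by simp
    rw [this, MulEquiv.orderOf_eq]
  have hcop : (orderOf (b⁻¹ * y * b)).Coprime H.index := by
    rw [hord]
    apply Nat.coprime_of_dvd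
    intro k hk hky hki
    have h1 : k ∣ Nat.card H := hyπ k hk hky
    have := Nat.Coprime.eq_one_of_dvd (Nat.Coprime.coprime_dvd_left h1 hHall) hki
    exact hk.one_lt.ne' this
  rw [mem_cj]
  exact mem_of_mem_normalizer H _ hn' hcop

theorem mem_cj_conj (H : Subgroup G) (b k z : G) : k * z * k⁻¹ ∈ cj H b ↔ z ∈ cj H (k⁻¹ * b) := by
  rw [mem_cj, mem_cj]
  have : (k⁻¹ * b)⁻¹ * z * (k⁻¹ * b) = b⁻¹ * (k * z * k⁻¹) * b := by group
  rw [this]

theorem pi_element_of_mem [Finite G] (H K : Subgroup G)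
    (hK : ∀ q : ℕ, q.Prime → q ∣ Nat.card K → q ∣ Nat.card H) (k : G) (hk : k ∈ K) :
    ∀ q : ℕ, q.Prime → q ∣ orderOf k → q ∣ Nat.card H :=
  fun q hq hqk => hK q hq (hqk.trans (Subgroup.orderOf_dvd_natCard K hk))

theorem mem_cj_of_normalizer [Finite G] (H : Subgroup G)
    (hHall : (Nat.card H).Coprime H.index) (b y : G)
    (hyπ : ∀ q : ℕ, q.Prime → q ∣ orderOf y → q ∣ Nat.card H)
    (hn' : b⁻¹ * y * b ∈ Subgroup.normalizer (H : Set G)) : y ∈ cj H b := by
  have hord : orderOf (b⁻¹ * y * b) = orderOf y := by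
    have : b⁻¹ * y * b = MulAut.conj b⁻¹ y := by simp
    rw [this, MulEquiv.orderOf_eq]
  have hcop : (orderOf (b⁻¹ * y * b)).Coprime H.index := by
    rw [hord]
    apply Nat.coprime_of_dvd
    intro k hk hky hki
    have h1 : k ∣ Nat.card H := hyπ k hk hky
    have := Nat.Coprime.eq_one_of_dvd (Nat.Coprime.coprime_dvd_left h1 hHall) hki
    exact hk.one_lt.ne' this
  rw [mem_cj]
  exact mem_of_mem_normalizer H _ hn' hcop

theorem malnormal [Finite G] (H : Subgroup G)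
    (hHall : (Nat.card H).Coprime H.index) (hTI : Cfsg.IsTISubset (H : Set G))
    (K : Subgroup G) (hK : ∀ q : ℕ, q.Prime → q ∣ Nat.card K → q ∣ Nat.card H) (b : G) :
    ∀ k : K, k ∉ (cj H b).subgroupOf K → ∀ z ∈ (cj H b).subgroupOf K,
      k * z * k⁻¹ ∈ (cj H b).subgroupOf K → z = 1 := by
  intro k hk z hz hkz
  by_contra hz1
  apply hk
  rw [Subgroup.mem_subgroupOf] at hz hkz ⊢
  have hz1' : (z : G) ≠ 1 := fun h => hz1 (Subtype.ext h)
  have hkz' : (k : G) * (z : G) * (k : G)⁻¹ ∈ cj H b := by simpa using hkz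
  rw [mem_cj_conj] at hkz'
  have hn := mem_normalizer_of_TI H hTI b ((k : G)⁻¹ * b) (z : G) hz1' hz hkz'
  have : ((k : G)⁻¹ * b)⁻¹ * b = b⁻¹ * (k : G) * b := by group
  rw [this] at hn
  exact mem_cj_of_normalizer H hHall b (k : G) (pi_element_of_mem H K hK (k : G) k.2) hn

theorem ncard_ne_one {K : Type*} [Group K] [Finite K] :
    ({y : K | y ≠ 1} : Set K).ncard = Nat.card K - 1 := by
  have : ({y : K | y ≠ 1} : Set K) = ({1} : Set K)ᶜ := by
    ext y; simp
  rw [this, Set.ncard_compl, Set.ncard_singleton]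

/-- Let G be a finite group with a subgroup H whose order is coprime to its index (a Hall subgroup) and which meets each of its conjugates by elements outside N_G(H) trivially. Then every subgroup of G whose order is divisible only by primes dividing the order of H lies in a conjugate of H. -/
theorem result {G : Type*} [Group G] [Finite G] (H : Subgroup G)
    (hHall : (Nat.card H).Coprime H.index) (hTI : Cfsg.IsTISubset (H : Set G))
    (K : Subgroup G) (hK : ∀ q : ℕ, q.Prime → q ∣ Nat.card K → q ∣ Nat.card H) :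
    ∃ g : G, K ≤ H.map (MulAut.conj g).toMonoidHom := by
  by_cases hKbot : K = ⊥
  · exact ⟨1, by rw [hKbot]; exact bot_le⟩
  obtain ⟨y₀, hy₀⟩ := (Subgroup.ne_bot_iff_exists_ne_one).mp hKbot
  have hy₀' : (y₀ : G) ≠ 1 := fun h => hy₀ (Subtype.ext h)
  obtain ⟨a, ha⟩ := exists_cj_of_pi_element H hHall hTI (y₀ : G) hy₀'
    (pi_element_of_mem H K hK _ y₀.2)
  by_cases hA : (cj H a).subgroupOf K = ⊤
  · exact ⟨a, Subgroup.subgroupOf_eq_top.mp hA⟩
  have hAbot : (cj H a).subgroupOf K ≠ ⊥ := by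
    intro h
    have : y₀ ∈ (cj H a).subgroupOf K := Subgroup.mem_subgroupOf.mpr ha
    rw [h, Subgroup.mem_bot] at this
    exact hy₀ this
  obtain ⟨c1, c2⟩ := covered_bounds _ (malnormal H hHall hTI K hK a) hAbot hA
  -- an element not covered
  have hex : ∃ y₁ : K, y₁ ≠ 1 ∧ y₁ ∉ covered ((cj H a).subgroupOf K) := by
    by_contra hall
    push Not at hall
    have hsub : ({y : K | y ≠ 1} : Set K) ⊆ covered ((cj H a).subgroupOf K) := fun y hy => hall y hy
    have := Set.ncard_le_ncard hsub (Set.toFinite _)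
    rw [ncard_ne_one] at this
    have hpos : 0 < Nat.card K := Nat.card_pos
    omega
  obtain ⟨y₁, hy₁, hy₁c⟩ := hex
  have hy₁' : (y₁ : G) ≠ 1 := fun h => hy₁ (Subtype.ext h)
  obtain ⟨b, hb⟩ := exists_cj_of_pi_element H hHall hTI (y₁ : G) hy₁'
    (pi_element_of_mem H K hK _ y₁.2)
  by_cases hB : (cj H b).subgroupOf K = ⊤
  · exact ⟨b, Subgroup.subgroupOf_eq_top.mp hB⟩
  have hBbot : (cj H b).subgroupOf K ≠ ⊥ := by
    intro h
    have : y₁ ∈ (cj H b).subgroupOf K := Subgroup.mem_subgroupOf.mpr hb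
    rw [h, Subgroup.mem_bot] at this
    exact hy₁ this
  obtain ⟨d1, d2⟩ := covered_bounds _ (malnormal H hHall hTI K hK b) hBbot hB
  exfalso
  have hdisj : Disjoint (covered ((cj H a).subgroupOf K)) (covered ((cj H b).subgroupOf K)) := by
    rw [Set.disjoint_left]
    rintro w ⟨hw1, k, hk⟩ ⟨-, k', hk'⟩
    apply hy₁c
    refine ⟨hy₁, k'⁻¹ * k, ?_⟩
    rw [Subgroup.mem_subgroupOf] at hk hk' ⊢
    have hw1' : (w : G) ≠ 1 := fun h => hw1 (Subtype.ext h)
    -- w ∈ cj H (k a), w ∈ cj H (k' b)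
    have e1 : (w : G) ∈ cj H ((k : G) * a) := by
      rw [mem_cj] at hk ⊢
      have : ((k : G) * a)⁻¹ * (w : G) * ((k : G) * a) = a⁻¹ * ((k : G)⁻¹ * (w : G) * (k : G)) * a := by
        group
      rw [this]; simpa using hk
    have e2 : (w : G) ∈ cj H ((k' : G) * b) := by
      rw [mem_cj] at hk' ⊢
      have : ((k' : G) * b)⁻¹ * (w : G) * ((k' : G) * b) = b⁻¹ * ((k' : G)⁻¹ * (w : G) * (k' : G)) * b := by
        group
      rw [this]; simpa using hk'
    have hn := mem_normalizer_of_TI H hTI ((k : G) * a) ((k' : G) * b) (w : G) hw1' e1 e2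
    have heq := cj_eq_of_normalizer H _ _ hn
    -- y₁ ∈ cj H b → k' y₁ k'⁻¹ ∈ cj H (k' b) = cj H (k a)
    have e3 : (k' : G) * (y₁ : G) * (k' : G)⁻¹ ∈ cj H ((k' : G) * b) := by
      rw [mem_cj] at hb ⊢
      have : ((k' : G) * b)⁻¹ * ((k' : G) * (y₁ : G) * (k' : G)⁻¹) * ((k' : G) * b) = b⁻¹ * (y₁ : G) * b := by
        group
      rw [this]; exact hb
    rw [← heq, mem_cj] at e3
    rw [mem_cj]
    have : a⁻¹ * ((↑((k'⁻¹ * k)⁻¹ * y₁ * (k'⁻¹ * k)) : G)) * a
        = ((k : G) * a)⁻¹ * ((k' : G) * (y₁ : G) * (k' : G)⁻¹) * ((k : G) * a) := by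
      simp only [Subgroup.coe_mul, Subgroup.coe_inv]
      group
    rw [this]; exact e3
  have hunion := Set.ncard_union_eq hdisj (Set.toFinite _) (Set.toFinite _)
  have hsub : covered ((cj H a).subgroupOf K) ∪ covered ((cj H b).subgroupOf K) ⊆ ({y : K | y ≠ 1} : Set K) := by
    rintro w (hw | hw)
    · exact hw.1
    · exact hw.1
  have hle := Set.ncard_le_ncard hsub (Set.toFinite _)
  rw [ncard_ne_one, hunion] at hle
  have hpos : 0 < Nat.card K := Nat.card_pos
  omega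

end Cfsg.Agent.S4116
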