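import Cfsg.Statements.S3742
-- import your own Cfsg.Agent.* helpers here
import Cfsg.Agent.S5344

set_option autoImplicit false
open Cfsg

namespace Cfsg.Agent.S3742

open QuaternionGroup

/-- The quaternion group of order 8. -/
abbrev Q := QuaternionGroup 2

/-- `i ↔ j`, `k ↦ -k` (with `i = a 1`, `j = xa 0`, `k = xa 3`). -/
def f1 : Q → Q
  | .a i => if i = 0 then a 0 else if i = 1 then xa 0 else if i = 2 then a 2 else xa 2
  | .xa i => if i = 0 then a 1 else if i = 2 then a 3 else if i = 3 then xa 1 else xa 3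

/-- `j ↔ k`, `i ↦ -i`. -/
def f2 : Q → Q
  | .a i => a (-i)
  | .xa i => xa (3 - i)

/-- `i ↦ -j`, `j ↦ -i`, `k ↦ -k`. -/
def f3 : Q → Q
  | .a i => if i = 0 then a 0 else if i = 1 then xa 2 else if i = 2 then a 2 else xa 0
  | .xa i => if i = 0 then a 3 else if i = 2 then a 1 else if i = 3 then xa 1 else xa 3

/-- An involutive multiplicative map is an automorphism. -/
def mkAut (f : Q → Q) (hinv : ∀ g, f (f g) = g) (hmul : ∀ g h, f (g * h) = f g * f h) : MulAut Q :=
  { toFun := f, invFun := f, left_inv := hinv, right_inv := hinv, map_mul' := hmul }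

@[simp] lemma mkAut_apply (f : Q → Q) (hinv : ∀ g, f (f g) = g)
    (hmul : ∀ g h, f (g * h) = f g * f h) (g : Q) : mkAut f hinv hmul g = f g := rfl

set_option maxRecDepth 100000 in
lemma f1_mul : ∀ g h : Q, f1 (g * h) = f1 g * f1 h := by decide
set_option maxRecDepth 100000 in
lemma f2_mul : ∀ g h : Q, f2 (g * h) = f2 g * f2 h := by decide
set_option maxRecDepth 100000 in
lemma f3_mul : ∀ g h : Q, f3 (g * h) = f3 g * f3 h := by decide
lemma f1_inv : ∀ g : Q, f1 (f1 g) = g := by decide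
lemma f2_inv : ∀ g : Q, f2 (f2 g) = g := by decide
lemma f3_inv : ∀ g : Q, f3 (f3 g) = g := by decide

def s1 : MulAut Q := mkAut f1 f1_inv f1_mul
def s2 : MulAut Q := mkAut f2 f2_inv f2_mul
def s3 : MulAut Q := mkAut f3 f3_inv f3_mul

lemma f12 : ∀ g : Q, f1 (f2 (f1 (f2 (f1 (f2 g))))) = g := by decide
lemma f23 : ∀ g : Q, f2 (f3 (f2 (f3 (f2 (f3 g))))) = g := by decide
lemma f13 : ∀ g : Q, f1 (f3 (f1 (f3 g))) = g := by decide

lemma rel : Cfsg.Agent.S5344.Rel s1 s2 s3 where
  aa := by ext g; simp [s1, f1_inv]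
  bb := by ext g; simp [s2, f2_inv]
  cc := by ext g; simp [s3, f3_inv]
  ab := by ext g; simp [s1, s2, pow_succ, f12]
  bc := by ext g; simp [s2, s3, pow_succ, f23]
  ac := by ext g; simp [s1, s3, pow_succ, f13]

lemma s1_ne_s3 : s1 ≠ s3 := by
  intro h
  have := congrArg (fun φ : MulAut Q => φ (a 1)) h
  revert this
  simp only [s1, s3, mkAut_apply]
  decide

/-- The "good pairs": possible images of the generators `a 1`, `xa 0`. -/
def Good (p : Q × Q) : Prop := p.1 ^ 2 ≠ 1 ∧ p.2 ^ 2 ≠ 1 ∧ p.2 ≠ p.1 ∧ p.2 ≠ p.1⁻¹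

instance decGood : DecidablePred Good := fun p => by unfold Good; infer_instance

set_option maxRecDepth 100000 in
lemma card_good : Fintype.card {p : Q × Q // Good p} = 24 := by
  rw [Fintype.card_subtype]
  decide

lemma gen : ∀ g : Q, ∃ m n : Fin 4, g = (xa 0 : Q) ^ (m : ℕ) * (a 1 : Q) ^ (n : ℕ) := by decide

/-- Evaluation at the generators. -/
def ev (φ : MulAut Q) : {p : Q × Q // Good p} :=
  ⟨(φ (a 1), φ (xa 0)), by
    refine ⟨?_, ?_, ?_, ?_⟩
    · show φ (a 1) ^ 2 ≠ 1
      rw [← map_pow, Ne, EmbeddingLike.map_eq_one_iff]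
      decide
    · show φ (xa 0) ^ 2 ≠ 1
      rw [← map_pow, Ne, EmbeddingLike.map_eq_one_iff]
      decide
    · show φ (xa 0) ≠ φ (a 1)
      rw [Ne, EmbeddingLike.apply_eq_iff_eq]
      decide
    · show φ (xa 0) ≠ (φ (a 1))⁻¹
      rw [← map_inv, Ne, EmbeddingLike.apply_eq_iff_eq]
      decide⟩

lemma ev_injective : Function.Injective ev := by
  intro φ ψ h
  have h1 : φ (a 1) = ψ (a 1) := congrArg (fun p => p.1.1) h
  have h2 : φ (xa 0) = ψ (xa 0) := congrArg (fun p => p.1.2) h
  ext g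
  obtain ⟨m, n, rfl⟩ := gen g
  rw [map_mul, map_mul, map_pow, map_pow, map_pow, map_pow, h1, h2]

lemma card_le : Nat.card (MulAut Q) ≤ 24 := by
  have := Nat.card_le_card_of_injective ev ev_injective
  rwa [Nat.card_eq_fintype_card (α := {p : Q × Q // Good p}), card_good] at this


/-- The automorphism group of the quaternion group of order 8 is isomorphic to the symmetric group of degree 4. -/
theorem result : Nonempty (MulAut (QuaternionGroup 2) ≃* Equiv.Perm (Fin 4)) := by
  obtain ⟨φ, hinj, -⟩ := Cfsg.Agent.S5344.main rel s1_ne_s3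
  have : Finite (MulAut Q) := Finite.of_injective ev ev_injective
  have hcard : Nat.card (Equiv.Perm (Fin 4)) = 24 := by
    rw [Nat.card_eq_fintype_card, Fintype.card_perm, Fintype.card_fin]
    rfl
  have hbij : Function.Bijective φ :=
    hinj.bijective_of_nat_card_le (by rw [hcard]; exact card_le)
  exact ⟨(MulEquiv.ofBijective φ hbij).symm⟩

end Cfsg.Agent.S3742
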