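import Cfsg.Statements.S0112
-- import your own Cfsg.Agent.* helpers here

set_option autoImplicit false
open Cfsg

namespace Cfsg.Agent.S0112

universe u

section aux
variable {X : Type u} [Group X]

/-- If `a ∈ A` has `C(a) = A` and `N` normalizes `A ≤ N`, then `[N : A] < |A|`
(the `N`-conjugates of `a` are distinct for distinct cosets of `A`, lie in `A`, and miss `1`). -/
theorem relIndex_lt_card [Finite X] (A N : Subgroup X) (hN : N ≤ Subgroup.normalizer (A : Set X))
    (a : X) (ha : a ∈ A) (ha1 : a ≠ 1) (hCa : Subgroup.centralizer ({a} : Set X) = A) :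
    A.relIndex N < Nat.card A := by
  classical
  have hcomm : ∀ x ∈ A, x * a = a * x := by
    intro x hx
    rw [← hCa, Subgroup.mem_centralizer_iff] at hx
    exact (hx a rfl).symm
  have hmem : ∀ g ∈ N, g * a * g⁻¹ ∈ A := fun g hg => (Subgroup.le_normalizer_iff.mp hN) g hg a ha
  let f : (N ⧸ A.subgroupOf N) → A := fun q =>
    Quotient.liftOn' q (fun g => (⟨(g : X) * a * (g : X)⁻¹, hmem g g.2⟩ : A)) (by
      intro g₁ g₂ h
      rw [QuotientGroup.leftRel_apply, Subgroup.mem_subgroupOf] at h
      have h1 := hcomm _ h
      apply Subtype.ext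
      show (g₁ : X) * a * (g₁ : X)⁻¹ = (g₂ : X) * a * (g₂ : X)⁻¹
      have h2 : ((g₁⁻¹ * g₂ : N) : X) = (g₁ : X)⁻¹ * (g₂ : X) := by simp
      rw [h2] at h1
      calc (g₁ : X) * a * (g₁ : X)⁻¹
          = (g₁ : X) * (a * ((g₁ : X)⁻¹ * (g₂ : X))) * (g₂ : X)⁻¹ := by group
        _ = (g₁ : X) * (((g₁ : X)⁻¹ * (g₂ : X)) * a) * (g₂ : X)⁻¹ := by rw [h1]
        _ = (g₂ : X) * a * (g₂ : X)⁻¹ := by group)
  have hf_inj : Function.Injective f := by
    intro q₁ q₂
    induction q₁ using Quotient.inductionOn' with
    | h g₁ =>
      induction q₂ using Quotient.inductionOn' with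
      | h g₂ =>
        intro h
        have h' : (g₁ : X) * a * (g₁ : X)⁻¹ = (g₂ : X) * a * (g₂ : X)⁻¹ := congrArg Subtype.val h
        apply Quotient.sound'
        rw [QuotientGroup.leftRel_apply, Subgroup.mem_subgroupOf]
        have h2 : ((g₁⁻¹ * g₂ : N) : X) = (g₁ : X)⁻¹ * (g₂ : X) := by simp
        rw [h2, ← hCa, Subgroup.mem_centralizer_iff]
        intro y hy
        rw [Set.mem_singleton_iff] at hy
        subst hy
        calc y * ((g₁ : X)⁻¹ * (g₂ : X))
            = (g₁ : X)⁻¹ * ((g₁ : X) * y * (g₁ : X)⁻¹) * (g₂ : X) := by group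
          _ = (g₁ : X)⁻¹ * ((g₂ : X) * y * (g₂ : X)⁻¹) * (g₂ : X) := by rw [h']
          _ = (g₁ : X)⁻¹ * (g₂ : X) * y := by group
  have hf_nsurj : ¬ Function.Surjective f := by
    intro hs
    obtain ⟨q, hq⟩ := hs 1
    induction q using Quotient.inductionOn' with
    | h g =>
      have h' : (g : X) * a * (g : X)⁻¹ = 1 := congrArg Subtype.val hq
      apply ha1
      calc a = (g : X)⁻¹ * ((g : X) * a * (g : X)⁻¹) * (g : X) := by group
        _ = 1 := by rw [h']; group
  have : Fintype (N ⧸ A.subgroupOf N) := Fintype.ofFinite _
  have : Fintype A := Fintype.ofFinite _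
  have hlt := Fintype.card_lt_of_injective_not_surjective f hf_inj hf_nsurj
  rw [Subgroup.relIndex, Subgroup.index_eq_card, Nat.card_eq_fintype_card, Nat.card_eq_fintype_card]
  exact hlt

/-- If `Z(X) ≤ A`, `|Z(X)| = p`, `|A| = p²`, `C(A) = A` and `a ∈ A \ Z(X)`, then `C(a) = A`. -/
theorem centralizer_singleton_eq [Finite X] {p : ℕ} (hp : p.Prime) (A : Subgroup X)
    (hA : Nat.card A = p ^ 2) (hC : Subgroup.centralizer (A : Set X) = A)
    (hZcard : Nat.card (Subgroup.center X) = p) (a : X) (haA : a ∈ A)
    (haZ : a ∉ Subgroup.center X) : Subgroup.centralizer ({a} : Set X) = A := by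
  have hZA : Subgroup.center X ≤ A := by
    rw [← hC]; exact Subgroup.center_le_centralizer _
  -- `A` is generated by the centre and `a`
  have hB : Subgroup.center X ⊔ Subgroup.zpowers a = A := by
    have hBA : Subgroup.center X ⊔ Subgroup.zpowers a ≤ A :=
      sup_le hZA ((Subgroup.zpowers_le).mpr haA)
    apply Subgroup.eq_of_le_of_card_ge hBA
    have hdvd : Nat.card (Subgroup.center X ⊔ Subgroup.zpowers a : Subgroup X) ∣ p ^ 2 :=
      hA ▸ Subgroup.card_dvd_of_le hBA
    obtain ⟨k, hk, hBk⟩ := (Nat.dvd_prime_pow hp).mp hdvd
    have hZB : Subgroup.center X ≤ Subgroup.center X ⊔ Subgroup.zpowers a := le_sup_left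
    have hk1 : k ≠ 0 := by
      intro h0
      rw [h0, pow_zero] at hBk
      have := Subgroup.card_dvd_of_le hZB
      rw [hBk, hZcard] at this
      exact hp.one_lt.ne' (Nat.dvd_one.mp this)
    have hk2 : k ≠ 1 := by
      intro h1
      rw [h1, pow_one] at hBk
      have heq : Subgroup.center X = Subgroup.center X ⊔ Subgroup.zpowers a :=
        Subgroup.eq_of_le_of_card_ge hZB (by rw [hBk, hZcard])
      apply haZ
      rw [heq]
      exact (le_sup_right : Subgroup.zpowers a ≤ _) (Subgroup.mem_zpowers a)
    have hk3 : k = 2 := by omega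
    rw [hA, hBk, hk3]
  apply le_antisymm
  · intro g hg
    rw [← hC, Subgroup.mem_centralizer_iff]
    have hle : A ≤ Subgroup.centralizer ({g} : Set X) := by
      rw [← hB]
      refine sup_le (Subgroup.center_le_centralizer _) ((Subgroup.zpowers_le).mpr ?_)
      rw [Subgroup.mem_centralizer_iff]
      intro y hy
      rw [Set.mem_singleton_iff] at hy
      subst hy
      rw [Subgroup.mem_centralizer_iff] at hg
      exact (hg a rfl).symm
    intro x hx
    have := hle hx
    rw [Subgroup.mem_centralizer_iff] at this
    exact (this g rfl).symm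
  · have h1 : A ≤ Subgroup.centralizer (A : Set X) := by rw [hC]
    exact h1.trans (Subgroup.centralizer_le (by simpa using haA))

end aux

theorem main (p : ℕ) [hpf : Fact p.Prime] (n : ℕ) : ∀ (X : Type u) [Group X] [Finite X],
    Nat.card X = p ^ n → ∀ A : Subgroup X, Nat.card A = p ^ 2 →
    Subgroup.centralizer (A : Set X) = A → Group.nilpotencyClass X = n - 1 := by
  have hp : p.Prime := hpf.out
  induction n with
  | zero =>
    intro X _ _ hX A hA _
    exfalso
    have h1 : Nat.card A ∣ Nat.card X := Subgroup.card_subgroup_dvd_card A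
    rw [hX, hA, pow_zero, Nat.dvd_one] at h1
    have : 1 < p ^ 2 := Nat.one_lt_pow two_ne_zero hp.one_lt
    omega
  | succ n ih =>
    intro X _ _ hX A hA hC
    have hXp : IsPGroup p X := IsPGroup.of_card hX
    have : Group.IsNilpotent X := hXp.isNilpotent
    have hA1 : 1 < Nat.card A := by rw [hA]; exact Nat.one_lt_pow two_ne_zero hp.one_lt
    have : Nontrivial A := Finite.one_lt_card_iff_nontrivial.mp hA1
    have : Nontrivial X := (Subtype.val_injective (p := fun x => x ∈ A)).nontrivial
    have hZA : Subgroup.center X ≤ A := by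
      rw [← hC]; exact Subgroup.center_le_centralizer _
    by_cases hAtop : A = ⊤
    · -- abelian case
      have hcard : Nat.card X = p ^ 2 := by rw [← hA, hAtop, Subgroup.card_top]
      have hn : n + 1 = 2 := Nat.pow_right_injective hp.two_le (hX.symm.trans hcard)
      have hcent : Subgroup.center X = ⊤ := by
        rw [hAtop, Subgroup.coe_top, Subgroup.centralizer_univ] at hC
        exact hC
      rw [Group.nilpotencyClass_eq_quotient_center_plus_one]
      have hss : Subsingleton (X ⧸ Subgroup.center X) := by
        rw [hcent]; exact QuotientGroup.subsingleton_quotient_top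
      rw [Group.nilpotencyClass_zero_iff_subsingleton.mpr hss]
      omega
    · have hZne : Subgroup.center X ≠ A := by
        intro h
        apply hAtop
        have h1 : Subgroup.centralizer (A : Set X) = ⊤ := by
          rw [Subgroup.centralizer_eq_top_iff_subset, ← h]
        rw [hC] at h1; exact h1
      have hZlt : Subgroup.center X < A := lt_of_le_of_ne hZA hZne
      have hZcard : Nat.card (Subgroup.center X) = p := by
        have hdvd : Nat.card (Subgroup.center X) ∣ p ^ 2 := hA ▸ Subgroup.card_dvd_of_le hZA
        obtain ⟨k, hk, hZk⟩ := (Nat.dvd_prime_pow hp).mp hdvd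
        have hZnt : Nontrivial (Subgroup.center X) := hXp.center_nontrivial
        have h1 : 1 < Nat.card (Subgroup.center X) := Finite.one_lt_card
        have hk0 : k ≠ 0 := by
          intro h0; rw [h0, pow_zero] at hZk; omega
        have hk2 : k ≠ 2 := by
          intro h2
          apply hZne
          exact Subgroup.eq_of_le_of_card_ge hZA (by rw [hA, hZk, h2])
        have hk1 : k = 1 := by omega
        rw [hZk, hk1, pow_one]
      obtain ⟨a, haA, haZ⟩ := SetLike.exists_of_lt hZlt
      have ha1 : a ≠ 1 := fun h => haZ (h ▸ (Subgroup.center X).one_mem)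
      have hCa : Subgroup.centralizer ({a} : Set X) = A :=
        centralizer_singleton_eq hp A hA hC hZcard a haA haZ
      have hAN : A ≤ Subgroup.normalizer (A : Set X) := Subgroup.le_normalizer
      have hAltN : A < Subgroup.normalizer (A : Set X) :=
        Group.normalizerCondition_of_isNilpotent A (lt_top_iff_ne_top.mpr hAtop)
      have hrel : A.relIndex (Subgroup.normalizer (A : Set X)) = p := by
        have hlt := relIndex_lt_card A (Subgroup.normalizer (A : Set X)) le_rfl a haA ha1 hCa
        have hdvd : A.relIndex (Subgroup.normalizer (A : Set X)) ∣ p ^ (n + 1) :=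
          hX ▸ (Dvd.dvd.trans (Subgroup.relIndex_dvd_card A _) (Subgroup.card_subgroup_dvd_card _))
        obtain ⟨k, hk, hrk⟩ := (Nat.dvd_prime_pow hp).mp hdvd
        have hne1 : A.relIndex (Subgroup.normalizer (A : Set X)) ≠ 1 := by
          rw [Ne, Subgroup.relIndex_eq_one]; exact not_le_of_gt hAltN
        rw [hA, hrk] at hlt
        have hk2 : k < 2 := (Nat.pow_lt_pow_iff_right hp.one_lt).mp hlt
        have hk0 : k ≠ 0 := by
          intro h0; rw [h0, pow_zero] at hrk; exact hne1 hrk
        have hk1 : k = 1 := by omega
        rw [hrk, hk1, pow_one]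
      have hNcard : Nat.card (Subgroup.normalizer (A : Set X)) = p ^ 3 := by
        have h1 := Subgroup.card_mul_index (A.subgroupOf (Subgroup.normalizer (A : Set X)))
        have h2 : Nat.card (A.subgroupOf (Subgroup.normalizer (A : Set X))) = Nat.card A :=
          Nat.card_congr (Subgroup.subgroupOfEquivOfLe hAN).toEquiv
        rw [h2, hA] at h1
        rw [← h1]
        show p ^ 2 * A.relIndex (Subgroup.normalizer (A : Set X)) = p ^ 3
        rw [hrel]; ring
      -- pass to the quotient by the centre
      have hπs : Function.Surjective (QuotientGroup.mk' (Subgroup.center X)) :=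
        QuotientGroup.mk'_surjective _
      have hker : (QuotientGroup.mk' (Subgroup.center X)).ker = Subgroup.center X :=
        QuotientGroup.ker_mk' _
      have hQcard : Nat.card (X ⧸ Subgroup.center X) = p ^ n := by
        have h := Subgroup.card_eq_card_quotient_mul_card_subgroup (Subgroup.center X)
        rw [hX, hZcard, pow_succ] at h
        exact (Nat.eq_of_mul_eq_mul_right hp.pos h).symm
      have hZN : Subgroup.center X ≤ Subgroup.normalizer (A : Set X) := hZA.trans hAN
      have hNbarcard : Nat.card ((Subgroup.normalizer (A : Set X)).map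
          (QuotientGroup.mk' (Subgroup.center X))) = p ^ 2 := by
        have h1 : Nat.card ((Subgroup.normalizer (A : Set X)).map
            (QuotientGroup.mk' (Subgroup.center X)))
            = (Subgroup.center X).relIndex (Subgroup.normalizer (A : Set X)) := by
          rw [← Subgroup.relIndex_ker, hker]
        have h2 := Subgroup.card_mul_index
          ((Subgroup.center X).subgroupOf (Subgroup.normalizer (A : Set X)))
        have h3 : Nat.card ((Subgroup.center X).subgroupOf (Subgroup.normalizer (A : Set X)))
            = Nat.card (Subgroup.center X) :=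
          Nat.card_congr (Subgroup.subgroupOfEquivOfLe hZN).toEquiv
        rw [h3, hZcard, hNcard] at h2
        rw [h1]
        show ((Subgroup.center X).subgroupOf (Subgroup.normalizer (A : Set X))).index = p ^ 2
        have h4 : p * ((Subgroup.center X).subgroupOf (Subgroup.normalizer (A : Set X))).index
            = p * p ^ 2 := by rw [h2]; ring
        exact Nat.eq_of_mul_eq_mul_left hp.pos h4
      have hCbar : Subgroup.centralizer (((Subgroup.normalizer (A : Set X)).map
          (QuotientGroup.mk' (Subgroup.center X)) : Subgroup (X ⧸ Subgroup.center X)) :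
            Set (X ⧸ Subgroup.center X))
          = (Subgroup.normalizer (A : Set X)).map (QuotientGroup.mk' (Subgroup.center X)) := by
        apply le_antisymm
        · intro q hq
          obtain ⟨g, rfl⟩ := hπs q
          have hC' : (Subgroup.centralizer (((Subgroup.normalizer (A : Set X)).map
              (QuotientGroup.mk' (Subgroup.center X)) : Subgroup (X ⧸ Subgroup.center X)) :
              Set (X ⧸ Subgroup.center X))).comap (QuotientGroup.mk' (Subgroup.center X))
              ≤ Subgroup.normalizer (A : Set X) := by
            rw [Subgroup.le_normalizer_iff]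
            intro h hh k hk
            rw [Subgroup.mem_comap, Subgroup.mem_centralizer_iff] at hh
            have hkN : (QuotientGroup.mk' (Subgroup.center X)) k ∈
                (Subgroup.normalizer (A : Set X)).map (QuotientGroup.mk' (Subgroup.center X)) :=
              Subgroup.mem_map_of_mem _ (hAN hk)
            have h1 := hh _ hkN
            have h2 : h * k * h⁻¹ * k⁻¹ ∈ Subgroup.center X := by
              rw [← hker, MonoidHom.mem_ker, map_mul, map_mul, map_mul, map_inv, map_inv, ← h1]
              group
            have h3 : h * k * h⁻¹ = (h * k * h⁻¹ * k⁻¹) * k := by group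
            rw [h3]
            exact A.mul_mem (hZA h2) hk
          exact Subgroup.mem_map_of_mem _ (hC' (Subgroup.mem_comap.mpr hq))
        · intro x hx
          rw [Subgroup.mem_centralizer_iff]
          intro y hy
          have := IsPGroup.isMulCommutative_of_card_eq_prime_sq hNbarcard
          have h := mul_comm' (⟨y, hy⟩ : ((Subgroup.normalizer (A : Set X)).map
            (QuotientGroup.mk' (Subgroup.center X)))) ⟨x, hx⟩
          exact congrArg Subtype.val h
      have ih' := ih (X ⧸ Subgroup.center X) hQcard _ hNbarcard hCbar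
      rw [Group.nilpotencyClass_eq_quotient_center_plus_one, ih']
      have h3 : 3 ≤ n + 1 := by
        have h : p ^ 3 ∣ p ^ (n + 1) := by
          rw [← hNcard, ← hX]; exact Subgroup.card_subgroup_dvd_card _
        exact (Nat.pow_dvd_pow_iff_le_right hp.one_lt).mp h
      omega

/-- A p-group with a self-centralizing subgroup of order p^2 is of maximal class. -/
theorem result {X : Type*} [Group X] [Finite X] {p : ℕ} [Fact p.Prime] (n : ℕ) (hX : Nat.card X = p ^ n) (A : Subgroup X) (hA : Nat.card A = p ^ 2) (hC : Subgroup.centralizer (A : Set X) = A) : Group.nilpotencyClass X = n - 1 := by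
  exact main p n X hX A hA hC

end Cfsg.Agent.S0112
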