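import Mathlib
import Cfsg.Statements.S0226

set_option autoImplicit false
open Cfsg

namespace Cfsg.Agent.S0226

/-- A finite group of even order has an odd number of involutions. -/
theorem result {G : Type*} [Group G] [Finite G] (heven : Even (Nat.card G)) : Odd (Nat.card {t : G // orderOf t = 2}) := by
  classical
  haveI : Fintype G := Fintype.ofFinite G
  let f : Function.End G := fun g => g⁻¹
  have hf : f ^ 2 ^ 1 = 1 := by
    funext g
    show (f ^ 2 ^ 1) g = g
    rw [pow_one, pow_two]
    show f (f g) = g
    simp [f]
  haveI : Fact (Nat.Prime 2) := ⟨Nat.prime_two⟩
  have h := Equiv.Perm.card_fixedPoints_modEq (p := 2) (n := 1) hf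
  -- fixed points are 1 together with the involutions
  have e : Function.fixedPoints f ≃ Option {t : G // orderOf t = 2} :=
    { toFun := fun g => if h : (g : G) = 1 then none else some ⟨g, by
        have hg : (g : G)⁻¹ = g := g.2
        have : (g : G) ^ 2 = 1 := by rw [pow_two]; nth_rewrite 1 [← hg]; simp
        exact orderOf_eq_prime this h⟩
      invFun := fun o => match o with
        | none => ⟨1, by simp [Function.mem_fixedPoints, Function.IsFixedPt, f]⟩
        | some t => ⟨t.1, by
            have h2 : (t : G) ^ 2 = 1 := by have := pow_orderOf_eq_one (t : G); rwa [t.2] at this
            simp only [Function.mem_fixedPoints, Function.IsFixedPt, f]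
            rw [pow_two] at h2
            exact inv_eq_of_mul_eq_one_right h2⟩
      left_inv := by
        intro g
        by_cases h : (g : G) = 1
        · simp only [h, dite_true]; exact Subtype.ext h.symm
        · simp only [h, dite_false]
      right_inv := by
        intro o
        cases o with
        | none => simp
        | some t =>
          have : (t : G) ≠ 1 := by
            intro h1
            have := t.2
            rw [h1, orderOf_one] at this
            omega
          simp [this] }
  have hc : Fintype.card (Function.fixedPoints f) = Nat.card {t : G // orderOf t = 2} + 1 := by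
    rw [Fintype.card_congr e, Fintype.card_option, Nat.card_eq_fintype_card]
  rw [hc] at h
  rw [Nat.card_eq_fintype_card] at heven
  have h2 : (Nat.card {t : G // orderOf t = 2} + 1) % 2 = 0 := by
    rw [← h, Nat.even_iff.mp heven]
  rw [Nat.odd_iff]
  omega

end Cfsg.Agent.S0226
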