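import Cfsg.Statements.S0944
-- import your own Cfsg.Agent.* helpers here

set_option autoImplicit false
open Cfsg

namespace Cfsg.Agent.S0944

/-- The trace of an involutive endomorphism of `Fin n → ℂ` is `2 r - n` for a natural number `r`. -/
theorem trace_of_sq_eq_one {n : ℕ} (f : (Fin n → ℂ) →ₗ[ℂ] (Fin n → ℂ)) (hf : f * f = 1) :
    ∃ r : ℕ, LinearMap.trace ℂ (Fin n → ℂ) f = 2 * (r : ℂ) - (n : ℂ) := by
  set P : (Fin n → ℂ) →ₗ[ℂ] (Fin n → ℂ) := (2⁻¹ : ℂ) • (1 + f) with hP
  have hPid : IsIdempotentElem P := by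
    unfold IsIdempotentElem
    rw [hP, smul_mul_smul_comm]
    have : (1 + f) * (1 + f) = (2 : ℂ) • (1 + f) := by
      rw [mul_add, add_mul, add_mul, hf, one_mul, one_mul, mul_one, two_smul]
      abel
    rw [this, smul_smul]
    norm_num
  have htr := (LinearMap.IsIdempotentElem.isProj_range P hPid).trace
  refine ⟨Module.finrank ℂ (LinearMap.range P), ?_⟩
  rw [← htr, hP, map_smul, map_add, LinearMap.trace_one]
  simp only [Module.finrank_fin_fun, smul_eq_mul]
  ring

/-- Let χ be an irreducible character of the finite group G and u an involution. Then χ u is a rational integer n with n ≡ χ 1 (mod 2). -/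
theorem result {G : Type*} [Group G] [Finite G] (χ : Cfsg.IrrCharacter G) (u : G) (hu : orderOf u = 2) : ∃ n : ℤ, (χ : G → ℂ) u = (n : ℂ) ∧ (2 : ℤ) ∣ (Cfsg.charDegree (χ : G → ℂ) : ℤ) - n := by
  obtain ⟨χ, n, ρ, hirr, rfl⟩ := χ
  have hu2 : ρ u * ρ u = 1 := by
    rw [← map_mul, ← pow_two, ← hu, pow_orderOf_eq_one, map_one]
  obtain ⟨r, hr⟩ := trace_of_sq_eq_one (ρ u) hu2
  refine ⟨2 * (r : ℤ) - (n : ℤ), ?_, ?_⟩
  · show ρ.character u = _
    unfold Representation.character
    rw [hr]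
    push_cast
    ring
  · have hdeg : Cfsg.charDegree (ρ.character) = n := by
      unfold Cfsg.charDegree
      rw [Representation.char_one]
      simp
    show (2 : ℤ) ∣ (Cfsg.charDegree (ρ.character) : ℤ) - _
    rw [hdeg]
    exact ⟨(n : ℤ) - r, by ring⟩

end Cfsg.Agent.S0944
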