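import Cfsg.Statements.S0646
import Mathlib
import Cfsg.Agent.Lib.Helper73.CyclicMax
-- import your own Cfsg.Agent.* helpers here

set_option autoImplicit false
open Cfsg

namespace Cfsg.Agent.S0646

open Cfsg.Agent.Lib.Helper73

/-- Classification of non-abelian 2-groups with a cyclic maximal subgroup: dihedral, generalized quaternion, and for order at least 16 the modular group and the semidihedral group, each given by generators a (of index 2) and b with the stated relations. -/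
theorem result {G : Type*} [Group G] [Finite G] (n : ℕ) (hn : 3 ≤ n) (hG : Nat.card G = 2 ^ n) (C : Subgroup G) (hC : IsCyclic C) (hCi : C.index = 2) (hna : ∃ x y : G, x * y ≠ y * x) : ∃ a b : G, orderOf a = 2 ^ (n - 1) ∧ b ∉ Subgroup.zpowers a ∧ ((b ^ 2 = 1 ∧ b * a * b⁻¹ = a⁻¹) ∨ (b ^ 2 = a ^ (2 ^ (n - 2)) ∧ b * a * b⁻¹ = a⁻¹) ∨ (4 ≤ n ∧ b ^ 2 = 1 ∧ b * a * b⁻¹ = a ^ (1 + 2 ^ (n - 2))) ∨ (4 ≤ n ∧ b ^ 2 = 1 ∧ b * a * b⁻¹ = a ^ (2 ^ (n - 2) - 1))) := by
  obtain ⟨k, rfl⟩ := Nat.exists_eq_add_of_le hn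
  obtain ⟨g, hg⟩ := hC.exists_generator
  have hzp : Subgroup.zpowers (g : G) = C := by
    apply le_antisymm
    · rw [Subgroup.zpowers_le]; exact g.2
    · intro x hx
      obtain ⟨i, hi⟩ := Subgroup.mem_zpowers_iff.1 (hg ⟨x, hx⟩)
      refine Subgroup.mem_zpowers_iff.2 ⟨i, ?_⟩
      have := congrArg Subtype.val hi
      simpa using this
  have hcardC : Nat.card C = 4 * 2 ^ k := by
    have h1 := C.card_mul_index
    rw [hCi, hG] at h1
    have e : 2 ^ (3 + k) = (4 * 2 ^ k) * 2 := by ring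
    omega
  have horder : orderOf (g : G) = 4 * 2 ^ k := by
    rw [← Nat.card_zpowers, hzp, hcardC]
  have hCn : C.Normal := Subgroup.normal_of_index_eq_two hCi
  obtain ⟨b0, hb0⟩ : ∃ b0 : G, b0 ∉ C := by
    by_contra hcon
    push Not at hcon
    have : C = ⊤ := eq_top_iff.2 (fun x _ => hcon x)
    rw [this, Subgroup.index_top] at hCi
    omega
  have hnorm : b0 * (g : G) * b0⁻¹ ∈ Subgroup.zpowers (g : G) := by
    rw [hzp]; exact hCn.conj_mem _ g.2 b0
  have hsq : b0 * b0 ∈ Subgroup.zpowers (g : G) := by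
    rw [hzp]; exact (Subgroup.mul_mem_iff_of_index_two hCi).2 (iff_of_false hb0 hb0)
  have hb0' : b0 ∉ Subgroup.zpowers (g : G) := by rw [hzp]; exact hb0
  have hnc : b0 * (g : G) * b0⁻¹ ≠ (g : G) := by
    intro hcomm
    obtain ⟨x, y, hxy⟩ := hna
    apply hxy
    have hbg : Commute b0 (g : G) := mul_inv_eq_iff_eq_mul.1 hcomm
    have hpow : ∀ c ∈ C, ∃ i : ℤ, c = (g : G) ^ i := by
      intro c hc
      rw [← hzp] at hc
      obtain ⟨i, hi⟩ := Subgroup.mem_zpowers_iff.1 hc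
      exact ⟨i, hi.symm⟩
    have hcb : ∀ c ∈ C, Commute b0 c := by
      intro c hc
      obtain ⟨i, rfl⟩ := hpow c hc
      exact hbg.zpow_right i
    have hcc : ∀ c ∈ C, ∀ d ∈ C, Commute c d := by
      intro c hc d hd
      obtain ⟨i, rfl⟩ := hpow c hc
      obtain ⟨j, rfl⟩ := hpow d hd
      exact Commute.zpow_zpow_self _ i j
    have hform : ∀ z : G, ∃ c ∈ C, z = c ∨ z = b0 * c := by
      intro z
      by_cases hz : z ∈ C
      · exact ⟨z, hz, Or.inl rfl⟩
      · refine ⟨b0⁻¹ * z, ?_, Or.inr (by group)⟩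
        have hb0i : b0⁻¹ ∉ C := fun h => hb0 (by simpa using C.inv_mem h)
        exact (Subgroup.mul_mem_iff_of_index_two hCi).2 (iff_of_false hb0i hz)
    obtain ⟨c, hc, hx | hx⟩ := hform x <;> obtain ⟨d, hd, hy | hy⟩ := hform y <;> subst hx <;> subst hy
    · exact (hcc _ hc _ hd).eq
    · exact (Commute.mul_right (hcb _ hc).symm (hcc _ hc _ hd)).eq
    · exact (Commute.mul_left (hcb _ hd) (hcc _ hc _ hd)).eq
    · exact (Commute.mul_left (Commute.mul_right (Commute.refl b0) (hcb _ hd))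
        (Commute.mul_right (hcb _ hc).symm (hcc _ hc _ hd))).eq
  obtain ⟨b, hb, -, hcases⟩ := cyclic_index_two_core k (g : G) b0 horder hnorm hsq hb0' hnc
  have e1 : 3 + k - 1 = k + 2 := by omega
  have e2 : 3 + k - 2 = k + 1 := by omega
  have p1 : 2 ^ (k + 2) = 4 * 2 ^ k := by ring
  have p2 : 2 ^ (k + 1) = 2 * 2 ^ k := by ring
  refine ⟨(g : G), b, by rw [e1, p1]; exact horder, hb, ?_⟩
  rw [e2, p2]
  rcases hcases with h | h | ⟨hk, h⟩ | ⟨hk, h⟩
  · exact Or.inl h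
  · exact Or.inr (Or.inl h)
  · exact Or.inr (Or.inr (Or.inl ⟨by omega, h⟩))
  · exact Or.inr (Or.inr (Or.inr ⟨by omega, h⟩))

end Cfsg.Agent.S0646
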