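import Cfsg.Statements.S0645
import Mathlib
import Cfsg.Agent.Lib.Helper73.CyclicMaxOdd
-- import your own Cfsg.Agent.* helpers here

set_option autoImplicit false
open Cfsg

namespace Cfsg.Agent.S0645

open Cfsg.Agent.Lib.Helper73

/-- Classification of p-groups with a cyclic maximal subgroup, odd p: a non-abelian one of order p^n has generators a of order p^(n-1) and b of order p, b outside the cyclic subgroup generated by a, with b a b⁻¹ = a^(1 + p^(n-2)). -/
theorem result {G : Type*} [Group G] [Finite G] {p : ℕ} [Fact p.Prime] (hp : p ≠ 2) (n : ℕ) (hn : 3 ≤ n) (hG : Nat.card G = p ^ n) (C : Subgroup G) (hC : IsCyclic C) (hCi : C.index = p) (hna : ∃ x y : G, x * y ≠ y * x) : ∃ a b : G, orderOf a = p ^ (n - 1) ∧ orderOf b = p ∧ b ∉ Subgroup.zpowers a ∧ b * a * b⁻¹ = a ^ (1 + p ^ (n - 2)) := by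
  obtain ⟨k, rfl⟩ := Nat.exists_eq_add_of_le hn
  have hpp : p.Prime := Fact.out
  obtain ⟨g, hg⟩ := hC.exists_generator
  have hzp : Subgroup.zpowers (g : G) = C := by
    apply le_antisymm
    · rw [Subgroup.zpowers_le]; exact g.2
    · intro x hx
      obtain ⟨i, hi⟩ := Subgroup.mem_zpowers_iff.1 (hg ⟨x, hx⟩)
      refine Subgroup.mem_zpowers_iff.2 ⟨i, ?_⟩
      have := congrArg Subtype.val hi
      simpa using this
  have hcardC : Nat.card C = p ^ (k + 2) := by
    have h1 := C.card_mul_index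
    rw [hCi, hG] at h1
    have e : p ^ (3 + k) = p ^ (k + 2) * p := by ring
    rw [e] at h1
    exact Nat.eq_of_mul_eq_mul_right hpp.pos h1
  have horder : orderOf (g : G) = p ^ (k + 2) := by
    rw [← Nat.card_zpowers, hzp, hcardC]
  have hCn : C.Normal := by
    apply Subgroup.normal_of_index_eq_minFac_card
    rw [hCi, hG, Nat.Prime.pow_minFac hpp (by omega)]
  obtain ⟨b0, hb0⟩ : ∃ b0 : G, b0 ∉ C := by
    by_contra hcon
    push Not at hcon
    have : C = ⊤ := eq_top_iff.2 (fun x _ => hcon x)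
    rw [this, Subgroup.index_top] at hCi
    exact hpp.one_lt.ne hCi
  have hnorm : b0 * (g : G) * b0⁻¹ ∈ Subgroup.zpowers (g : G) := by
    rw [hzp]; exact hCn.conj_mem _ g.2 b0
  have hpow : b0 ^ p ∈ Subgroup.zpowers (g : G) := by
    rw [hzp]
    exact (Cfsg.Agent.Lib.Helper24.comm_mem_and_pow_mem_of_index_prime p C hCi b0 b0).2
  have hb0' : b0 ∉ Subgroup.zpowers (g : G) := by rw [hzp]; exact hb0
  -- every element of G is b0 ^ i * c
  have hquot : Nat.card (G ⧸ C) = p := by rw [← hCi]; rfl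
  have hnc : b0 * (g : G) * b0⁻¹ ≠ (g : G) := by
    intro hcomm
    obtain ⟨x, y, hxy⟩ := hna
    apply hxy
    have hbg : Commute b0 (g : G) := mul_inv_eq_iff_eq_mul.1 hcomm
    have hpowC : ∀ c ∈ C, ∃ i : ℤ, c = (g : G) ^ i := by
      intro c hc
      rw [← hzp] at hc
      obtain ⟨i, hi⟩ := Subgroup.mem_zpowers_iff.1 hc
      exact ⟨i, hi.symm⟩
    -- G ⧸ C is cyclic of prime order generated by the image of b0
    have hform : ∀ z : G, ∃ i : ℤ, ∃ c ∈ C, z = b0 ^ i * c := by
      intro z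
      have hb0q : (QuotientGroup.mk b0 : G ⧸ C) ≠ 1 := by
        intro h
        exact hb0 ((QuotientGroup.eq_one_iff b0).1 h)
      have hmem : (QuotientGroup.mk z : G ⧸ C) ∈ Subgroup.zpowers (QuotientGroup.mk b0 : G ⧸ C) :=
        mem_zpowers_of_prime_card hquot hb0q
      obtain ⟨i, hi⟩ := Subgroup.mem_zpowers_iff.1 hmem
      refine ⟨i, (b0 ^ i)⁻¹ * z, ?_, by group⟩
      rw [← QuotientGroup.eq_one_iff]
      rw [QuotientGroup.mk_mul, QuotientGroup.mk_inv, QuotientGroup.mk_zpow, hi]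
      group
    obtain ⟨i, c, hc, rfl⟩ := hform x
    obtain ⟨j, d, hd, rfl⟩ := hform y
    obtain ⟨i', rfl⟩ := hpowC c hc
    obtain ⟨j', rfl⟩ := hpowC d hd
    have h1 : Commute (b0 ^ i) (b0 ^ j) := Commute.zpow_zpow_self b0 i j
    have h2 : Commute (b0 ^ i) ((g : G) ^ j') := (hbg.zpow_left i).zpow_right j'
    have h3 : Commute ((g : G) ^ i') (b0 ^ j) := ((hbg.zpow_left j).zpow_right i').symm
    have h4 : Commute ((g : G) ^ i') ((g : G) ^ j') := Commute.zpow_zpow_self _ i' j'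
    exact (Commute.mul_left (Commute.mul_right h1 h2) (Commute.mul_right h3 h4)).eq
  obtain ⟨b, hb1, hb2, hb3⟩ := cyclic_index_p_core p hp k (g : G) b0 horder hnorm hpow hb0' hnc
  have e1 : 3 + k - 1 = k + 2 := by omega
  have e2 : 3 + k - 2 = k + 1 := by omega
  exact ⟨(g : G), b, by rw [e1]; exact horder, hb1, hb2, by rw [e2]; exact hb3⟩

end Cfsg.Agent.S0645
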