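-- S0589 (helper35): a subgroup whose order divides that of a Frobenius complement H lies in a conjugate of H.
import Cfsg.Statements.S0589
import Cfsg.Agent.Lib.Helper35.Frobenius
import Mathlib.GroupTheory.Perm.Cycle.Type

set_option autoImplicit false
open Pointwise
open Cfsg

namespace Cfsg.Agent.S0589

open Cfsg.Agent.Lib.Helper35 in
/-- every non-identity element of `L` lies in a conjugate of `H` -/
lemma mem_conj_of_card_dvd {G : Type*} [Group G] [Finite G] (H : Subgroup G)
    (hH : Cfsg.IsFrobeniusComplement H) (L : Subgroup G) (hL : Nat.card L ∣ Nat.card H)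
    (l : G) (hl : l ∈ L) (hl1 : l ≠ 1) : ∃ g : G, l ∈ MulAut.conj g • H := by
  classical
  have hord : orderOf l ≠ 1 := by rwa [Ne, orderOf_eq_one_iff]
  obtain ⟨p, hp, hpl⟩ := Nat.exists_prime_and_dvd hord
  have := Fact.mk hp
  have hpH : p ∣ Nat.card H := hpl.trans ((Subgroup.orderOf_dvd_natCard L hl).trans hL)
  obtain ⟨k, hk⟩ := hpl
  have hordpos : 0 < orderOf l := orderOf_pos l
  have hk0 : k ≠ 0 := by
    rintro rfl
    rw [mul_zero] at hk
    omega
  have hm : orderOf (l ^ k) = p := by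
    rw [orderOf_pow_of_dvd hk0 (Dvd.intro_left p hk.symm), hk]
    exact Nat.mul_div_cancel _ (Nat.pos_of_ne_zero hk0)
  have hm1 : l ^ k ≠ 1 := by
    intro h
    rw [h, orderOf_one] at hm
    exact hp.one_lt.ne hm
  have hmp : (l ^ k) ^ p = 1 := by rw [← hm]; exact pow_orderOf_eq_one _
  -- p does not divide the index
  have hidx := (Cfsg.Agent.S0034.result H hH).2
  have hnd : ¬ p ∣ H.index := by
    intro hd
    have h1 : H.index ≡ 1 [MOD p] := Nat.ModEq.of_dvd hpH hidx
    have h0 : H.index ≡ 0 [MOD p] := (Nat.modEq_zero_iff_dvd).mpr hd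
    have : 1 ≡ 0 [MOD p] := h1.symm.trans h0
    rw [Nat.modEq_zero_iff_dvd] at this
    exact hp.one_lt.ne' (Nat.dvd_one.mp this)
  have : Fintype (G ⧸ H) := Fintype.ofFinite _
  have hcard : Fintype.card (G ⧸ H) = H.index := by
    rw [← Nat.card_eq_fintype_card, Subgroup.index_eq_card]
  rw [← hcard] at hnd
  have hσ : (MulAction.toPermHom G (G ⧸ H) (l ^ k)) ^ p ^ 1 = 1 := by
    rw [pow_one, ← map_pow, hmp, map_one]
  obtain ⟨a, ha⟩ := Equiv.Perm.exists_fixed_point_of_prime hnd hσ
  obtain ⟨g, rfl⟩ := QuotientGroup.mk_surjective a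
  refine ⟨g, ?_⟩
  have ha' : ((l ^ k * g : G) : G ⧸ H) = (g : G ⧸ H) := ha
  rw [QuotientGroup.eq] at ha'
  have h1 : l ^ k ∈ MulAut.conj g • H := by
    rw [mem_conj_smul_iff]
    have := H.inv_mem ha'
    convert this using 1
    group
  have h2 : l ^ k ∈ MulAut.conj (l * g) • H := by
    rw [mem_conj_smul_iff] at h1 ⊢
    convert h1 using 1
    have hc : l⁻¹ * l ^ k * l = l ^ k := by
      rw [mul_assoc, ← pow_succ, pow_succ', ← mul_assoc, inv_mul_cancel, one_mul]
    calc (l * g)⁻¹ * l ^ k * (l * g) = g⁻¹ * (l⁻¹ * l ^ k * l) * g := by group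
      _ = g⁻¹ * l ^ k * g := by rw [hc]
  have h3 := ti hH hm1 h1 h2
  rw [mem_conj_smul_iff]
  convert h3 using 1
  group

/-- Let H be a Frobenius complement in a finite group G and L a subgroup of G whose order divides the order of H. Then L is contained in some conjugate of H. -/
theorem result {G : Type*} [Group G] [Finite G] (H : Subgroup G) (hH : Cfsg.IsFrobeniusComplement H) (L : Subgroup G) (hL : Nat.card L ∣ Nat.card H) : ∃ x : G, L ≤ MulAut.conj x • H :=
  Cfsg.Agent.Lib.Helper35.le_conj_of_forall_mem_conj hH L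
    (fun l hl hl1 => mem_conj_of_card_dvd H hH L hL l hl hl1)

end Cfsg.Agent.S0589
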