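-- S0037 (helper35): of two Frobenius complements, the smaller is conjugate into the other.
import Cfsg.Statements.S0037
import Cfsg.Agent.Lib.Helper35.Frobenius

set_option autoImplicit false
open Pointwise
open Cfsg

namespace Cfsg.Agent.S0037

open Cfsg.Agent.Lib.Helper35 in
/-- every non-identity element of the smaller complement lies in a conjugate of the bigger one -/
lemma mem_conj_of_card_le {G : Type*} [Group G] [Finite G] (H H₀ : Subgroup G)
    (hH : Cfsg.IsFrobeniusComplement H) (hH₀ : Cfsg.IsFrobeniusComplement H₀)
    (hle : Nat.card H₀ ≤ Nat.card H) (x : G) (hx : x ∈ H₀) (hx1 : x ≠ 1) :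
    ∃ g : G, x ∈ MulAut.conj g • H := by
  by_contra hcon
  push Not at hcon
  -- conjugates of x lie in the kernel
  have hconj : ∀ a : G, a * x * a⁻¹ ∈ frobeniusKernel H := by
    intro a
    right
    intro g hg
    apply hcon (a⁻¹ * g)
    rw [mem_conj_smul_iff] at hg ⊢
    convert hg using 1
    group
  let f : Option (G ⧸ H₀) → frobeniusKernel H := fun o =>
    match o with
    | none => ⟨1, Or.inl rfl⟩
    | some q => ⟨q.out * x * q.out⁻¹, hconj q.out⟩
  have hf : Function.Injective f := by
    intro o₁ o₂ h
    cases o₁ with
    | none =>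
      cases o₂ with
      | none => rfl
      | some q =>
        exfalso
        have h' : (1 : G) = q.out * x * q.out⁻¹ := congrArg Subtype.val h
        apply hx1
        have : x = q.out⁻¹ * (q.out * x * q.out⁻¹) * q.out := by group
        rw [this, ← h']
        group
    | some p =>
      cases o₂ with
      | none =>
        exfalso
        have h' : p.out * x * p.out⁻¹ = (1 : G) := congrArg Subtype.val h
        apply hx1
        have : x = p.out⁻¹ * (p.out * x * p.out⁻¹) * p.out := by group
        rw [this, h']
        group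
      | some q =>
        have h' : p.out * x * p.out⁻¹ = q.out * x * q.out⁻¹ := congrArg Subtype.val h
        congr 1
        have h1 : x ∈ MulAut.conj (1 : G) • H₀ := by
          rw [mem_conj_smul_iff]; simpa using hx
        have h2 : x ∈ MulAut.conj (p.out⁻¹ * q.out) • H₀ := by
          rw [mem_conj_smul_iff]
          have : (p.out⁻¹ * q.out)⁻¹ * x * (p.out⁻¹ * q.out)
              = q.out⁻¹ * (p.out * x * p.out⁻¹) * q.out := by group
          rw [this, h']
          convert hx using 1
          group
        have h3 := ti hH₀ hx1 h1 h2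
        rw [inv_one, one_mul] at h3
        rw [← p.out_eq', ← q.out_eq']
        exact QuotientGroup.eq.mpr h3
  have hcard := Nat.card_le_card_of_injective f hf
  rw [Finite.card_option, (Cfsg.Agent.S0034.result H hH).1] at hcard
  -- now index H₀ + 1 ≤ index H, but |H₀| ≤ |H|
  have e1 := H.card_mul_index
  have e2 := H₀.card_mul_index
  have hpos : 0 < Nat.card H₀ := Nat.card_pos
  have : Nat.card H₀ * (H₀.index + 1) ≤ Nat.card H * H.index :=
    Nat.mul_le_mul hle hcard
  rw [e1, ← e2] at this
  have : Nat.card H₀ * (H₀.index + 1) = Nat.card H₀ * H₀.index + Nat.card H₀ := by ring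
  omega

/-- Of two Frobenius complements in one finite group, the one of smaller (or equal) order is conjugate to a subgroup of the other. -/
theorem result {G : Type*} [Group G] [Finite G] (H H₀ : Subgroup G)
    (hH : Cfsg.IsFrobeniusComplement H) (hH₀ : Cfsg.IsFrobeniusComplement H₀) (hle : Nat.card H₀ ≤ Nat.card H) :
    ∃ g : G, MulAut.conj g • H₀ ≤ H := by
  obtain ⟨g, hg⟩ := Cfsg.Agent.Lib.Helper35.le_conj_of_forall_mem_conj hH H₀
    (fun l hl hl1 => mem_conj_of_card_le H H₀ hH hH₀ hle l hl hl1)
  refine ⟨g⁻¹, ?_⟩
  intro y hy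
  rw [Cfsg.Agent.Lib.Helper35.mem_conj_smul_iff] at hy
  have h := hg hy
  rw [Cfsg.Agent.Lib.Helper35.mem_conj_smul_iff] at h
  convert h using 1
  group

end Cfsg.Agent.S0037
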