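import Cfsg.Statements.S1139
import Cfsg.Agent.Lib.Helper19.SuzSqMain

set_option autoImplicit false
open Cfsg
open Cfsg.Agent.Lib.Helper19.Suz

namespace Cfsg.Agent.S1139

/-- A Suzuki 2-group `P` with `|P| = |Z(P)|²` is of type A: for some finite field `F` with `|F| = |Z(P)|` and some field automorphism `φ ≠ 1` of odd order, `P` is isomorphic to the group of lower unitriangular matrices with rows `(1,0,0)`, `(x,1,0)`, `(y, φ x, 1)`. -/
theorem result {P : Type*} [Group P] (hP : Cfsg.IsSuzukiTwoGroup P)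
    (hcard : Nat.card P = Nat.card (Subgroup.center P) ^ 2) :
    ∃ (F : Type) (_ : Field F) (_ : Fintype F) (φ : F ≃+* F), Fintype.card F = Nat.card (Subgroup.center P) ∧
      φ ≠ RingEquiv.refl F ∧ Odd (orderOf φ) ∧ Nonempty (P ≃* Cfsg.suzukiTypeA F (φ : F →+* F)) := by
  obtain ⟨hfin, hp, hna, htwo, K, hcyc, hreg⟩ := hP
  have hcomm : ∀ a ∈ K, ∀ b ∈ K, a * b = b * a := by
    intro a ha b hb
    have hc : ∀ x y : ↥K, x * y = y * x := by
      intro x y
      letI := @IsCyclic.commGroup ↥K _ hcyc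
      exact mul_comm x y
    have := hc ⟨a, ha⟩ ⟨b, hb⟩
    exact congrArg Subtype.val this
  have h : SuzHyp P K := by
    refine ⟨hfin, hp, hcomm, ?_, ?_, htwo⟩
    · intro x y hx1 hx2 hy1 hy2
      obtain ⟨k, hk, -⟩ := hreg x y hx1 hx2 hy1 hy2
      exact ⟨k, k.2, hk⟩
    · intro k hk x hx1 hx2 hfix
      obtain ⟨k₀, -, huniq⟩ := hreg x x hx1 hx2 hx1 hx2
      have h1 := huniq ⟨k, hk⟩ hfix
      have h2 := huniq 1 rfl
      have : (⟨k, hk⟩ : ↥K) = 1 := h1.trans h2.symm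
      exact congrArg Subtype.val this
  have hna' : ∃ x y : P, x * y ≠ y * x := hna
  have hZ : Z0 P = Subgroup.center P := by
    ext x
    rw [mem_Z0]
    exact ⟨fun hx => hx.1, fun hx => ⟨hx, h.center_sq hna' x hx⟩⟩
  have hs : SqHyp P K := ⟨h, hna', by rw [hZ]; exact hcard⟩
  obtain ⟨F, i1, i2, φ, hF, hφ, hodd, hiso⟩ := hs.typeA hcyc
  exact ⟨F, i1, i2, φ, by rw [hF, hZ], hφ, hodd, hiso⟩

end Cfsg.Agent.S1139
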