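import Cfsg.Statements.S4364
import Cfsg.Agent.Lib.Helper21.Kazarin4
import Cfsg.Agent.Lib.Helper21.GenFitting
import Cfsg.Agent.Lib.Helper97.Cores
import Cfsg.Agent.Lib.Helper1.Fitting

set_option autoImplicit false
open Cfsg

namespace Cfsg.Agent.S4364

open Cfsg.Agent.Lib.Helper21

universe u

/-- If `O_p(Q) = 1` and the class of `y` has `p`-power size, the normal closure of `y` is
abelian. -/
theorem commute_of_mem_normalClosure {Q : Type u} [Group Q] [Finite Q] (p : ℕ) [hp : Fact p.Prime]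
    (hO : Cfsg.pCore p Q = ⊥) (y : Q) {a : ℕ}
    (hy : (Subgroup.centralizer ({y} : Set Q)).index = p ^ a)
    {u v : Q} (hu : u ∈ Subgroup.normalClosure ({y} : Set Q))
    (hv : v ∈ Subgroup.normalClosure ({y} : Set Q)) : u * v = v * u := by
  have hsolv := kazarin y hp.out hy
  set N := Subgroup.normalClosure ({y} : Set Q) with hN
  set F := Cfsg.fittingSubgroup Q with hF
  have hFn : F.Normal := Cfsg.Agent.Lib.Helper1.fittingSubgroup_normal
  -- `F ≤ C(y)`
  have hFC : F ≤ Subgroup.centralizer ({y} : Set Q) := by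
    rw [hF, Cfsg.Agent.Lib.Helper1.fittingSubgroup_eq_iSup_pCore]
    refine iSup_le fun q => ?_
    have hq : Fact (q : ℕ).Prime := ⟨q.2⟩
    by_cases hqp : (q : ℕ) = p
    · rw [hqp, hO]; exact bot_le
    · set R := Cfsg.pCore (q : ℕ) Q with hR
      have hRn : R.Normal := Cfsg.Agent.Lib.Helper1.pCore_normal _
      have hRq : IsPGroup (q : ℕ) R := Cfsg.Agent.Lib.Helper1.pCore_isPGroup _
      have h1 : (Subgroup.centralizer ({y} : Set Q)).relIndex R ∣ p ^ a := by
        rw [← hy]; exact relIndex_dvd_index_of_normal_right _ R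
      have h2 : (Subgroup.centralizer ({y} : Set Q)).relIndex R ∣ Nat.card R :=
        Subgroup.index_dvd_card _
      obtain ⟨b, hb⟩ := IsPGroup.iff_card.mp hRq
      rw [hb] at h2
      have hcop : Nat.Coprime (p ^ a) ((q : ℕ) ^ b) :=
        Nat.Coprime.pow _ _ ((Nat.coprime_primes hp.out q.2).mpr (Ne.symm hqp))
      have h3 : (Subgroup.centralizer ({y} : Set Q)).relIndex R = 1 :=
        Nat.eq_one_of_dvd_coprimes hcop h1 h2
      exact Subgroup.relIndex_eq_one.mp h3
  have hyC : y ∈ Subgroup.centralizer (F : Set Q) := by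
    rw [Subgroup.mem_centralizer_iff]
    intro f hf
    have := hFC hf
    rw [Subgroup.mem_centralizer_singleton_iff] at this
    exact this
  have hCn : (Subgroup.centralizer (F : Set Q)).Normal := Subgroup.normal_centralizer
  have hNC : N ≤ Subgroup.centralizer (F : Set Q) :=
    Subgroup.normalClosure_le_normal (Set.singleton_subset_iff.mpr hyC)
  have hnorm : Subgroup.centralizer (F : Set Q) ≤ Subgroup.normalizer (N : Set Q) := by
    rw [Subgroup.normalizer_eq_top_iff.mpr Subgroup.normalClosure_normal]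
    exact le_top
  have hZ := solvable_le_center_fitting hNC hnorm hsolv
  obtain ⟨u', hu', rfl⟩ := hZ hu
  obtain ⟨v', hv', rfl⟩ := hZ hv
  have hu'' : u' ∈ Subgroup.center ↥(Cfsg.fittingSubgroup Q) := hu'
  rw [Subgroup.mem_center_iff] at hu''
  have := hu'' v'
  have h2 := congrArg (fun t : Cfsg.fittingSubgroup Q => (t : Q)) this
  simpa using h2.symm

/-- Let G be a finite group, p a prime and x an element whose conjugacy class has p-power size. Then for any two conjugates y and z of x, the commutator y z y⁻¹ z⁻¹ lies in O_p(G), the largest normal p-subgroup of G. -/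
theorem result {G : Type*} [Group G] [Finite G] (p : ℕ) [Fact p.Prime]
    (x : G) (hx : ∃ a : ℕ, (Subgroup.centralizer ({x} : Set G)).index = p ^ a) (g h : G) :
    (g * x * g⁻¹) * (h * x * h⁻¹) * (g * x * g⁻¹)⁻¹ * (h * x * h⁻¹)⁻¹ ∈ Cfsg.pCore p G := by
  obtain ⟨a, ha⟩ := hx
  have hp : p.Prime := Fact.out
  set P := Cfsg.pCore p G with hP
  have hO : Cfsg.pCore p (G ⧸ P) = ⊥ := Cfsg.Agent.Lib.Helper97.pCore_quotient_pCore p
  have h1 : (Subgroup.centralizer
      ({(QuotientGroup.mk x : G ⧸ P)} : Set (G ⧸ P))).index ∣ p ^ a := by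
    rw [← ha]; exact index_centralizer_mk_dvd P x
  obtain ⟨a', ha'⟩ := exists_eq_pow_of_dvd_pow hp h1
  have hmem : ∀ g : G, (QuotientGroup.mk (g * x * g⁻¹) : G ⧸ P) ∈
      Subgroup.normalClosure ({(QuotientGroup.mk x : G ⧸ P)} : Set (G ⧸ P)) := by
    intro g
    apply Subgroup.conjugatesOfSet_subset_normalClosure
    rw [Group.mem_conjugatesOfSet_iff]
    refine ⟨_, rfl, isConj_iff.mpr ⟨(QuotientGroup.mk g : G ⧸ P), ?_⟩⟩
    simp
  have hcomm := commute_of_mem_normalClosure p hO (QuotientGroup.mk x : G ⧸ P) ha' (hmem g) (hmem h)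
  rw [← QuotientGroup.eq_one_iff]
  simp only [QuotientGroup.mk_mul, QuotientGroup.mk_inv] at hcomm ⊢
  rw [hcomm]
  group

end Cfsg.Agent.S4364
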