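import Cfsg.Statements.S0969
import Cfsg.Prelude.Def_BlockRank
import Cfsg.Agent.Lib.Helper74.PRegGen
import Cfsg.Agent.Lib.Helper77.CenterIrr
import Cfsg.Agent.Lib.Helper78.DefectOrder
import Cfsg.Agent.Lib.Helper16.DefectClass
import Cfsg.Agent.Lib.Helper16.ClassAlgebra
import Cfsg.Agent.S0911

set_option autoImplicit false
open Cfsg

namespace Cfsg.Agent.S0969

open Cfsg.Agent.Lib.Helper16 Cfsg.Agent.Lib.Helper77 Cfsg.Agent.Lib.Helper78
open scoped ComplexConjugate commutatorElement

section Aux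

variable {G : Type*} [Group G]

/-- A `p`-element commuting with a `p`-regular element whose product is `p`-regular is trivial. -/
theorem eq_one_of_pRegular_mul {p : ℕ} (hp : p.Prime) {c y : G} (hcomm : Commute c y)
    {k : ℕ} (hc : orderOf c = p ^ k) (hy : ¬ p ∣ orderOf y) (hcy : ¬ p ∣ orderOf (c * y)) :
    c = 1 := by
  set n := orderOf y * orderOf (c * y) with hn
  have hpn : ¬ p ∣ n := by
    intro h
    rcases hp.dvd_mul.mp h with h | h
    · exact hy h
    · exact hcy h
  have h1 : (c * y) ^ n = 1 := by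
    rw [hn, mul_comm, pow_mul, pow_orderOf_eq_one, one_pow]
  have h2 : y ^ n = 1 := by
    rw [hn, pow_mul, pow_orderOf_eq_one, one_pow]
  rw [hcomm.mul_pow, h2, mul_one] at h1
  have h3 : orderOf c ∣ n := orderOf_dvd_of_pow_eq_one h1
  rw [hc] at h3
  rcases Nat.eq_zero_or_pos k with h0 | h0
  · rw [h0, pow_zero] at hc
    exact orderOf_eq_one_iff.mp hc
  · exfalso
    apply hpn
    exact dvd_trans (dvd_pow_self p h0.ne') h3

theorem norm_central_mul [Finite G] (χ : IrrCharacter G) (z : G) (hz : z ∈ Subgroup.center G)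
    (g : G) : ‖(χ : G → ℂ) (z * g)‖ = ‖(χ : G → ℂ) g‖ := by
  have hzc : z ∈ irrCenter χ := by
    rw [mem_irrCenter_iff_commutator]
    intro h
    have : ⁅z, h⁆ = 1 := by
      rw [commutatorElement_def]
      rw [Subgroup.mem_center_iff] at hz
      rw [← hz h]
      group
    rw [this]
    exact one_mem _
  have h1 := irr_center_mul χ ⟨z, hzc⟩ g
  simp only at h1
  rw [h1, norm_mul, irrCenterScalar_apply]
  have h2 := (mem_irrCenter χ z).mp hzc
  have h3 : ‖(χ : G → ℂ) 1‖ ≠ 0 := by
    rw [norm_ne_zero_iff]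
    exact Cfsg.Agent.Lib.Helper79.irr_apply_one_ne_zero χ
  simp only
  rw [norm_div, h2, div_self h3, one_mul]

end Aux

section Count

variable {G : Type*} [Group G] [Fintype G]

theorem pRegularPart_eq_ite (p : ℕ) (f : G → ℂ) (x : G) [Decidable (p ∣ orderOf x)] :
    pRegularPart p f x = if p ∣ orderOf x then 0 else f x := by
  unfold pRegularPart IsPRegular
  by_cases h : p ∣ orderOf x
  · rw [if_pos h, if_neg (not_not.mpr h)]
  · rw [if_neg h, if_pos h]

/-- `p^(a - v) [ψ̃, ξ]` is an integer, where `v = v_p(ψ(1))` and `a = v_p(|G|)`. -/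
theorem exists_int_inner (p : ℕ) [Fact p.Prime] (ψ ξ : IrrCharacter G) (e : ℕ)
    (he : e + (charDegree (ψ : G → ℂ)).factorization p = (Nat.card G).factorization p) :
    ∃ z : ℤ, (p ^ e : ℂ) * classInner (pRegularPart p (ψ : G → ℂ)) (ξ : G → ℂ) = z := by
  classical
  have hp : p.Prime := Fact.out
  set a := (Nat.card G).factorization p with ha
  set θ : G → ℂ := fun x => if p ∣ orderOf x then (0 : ℂ) else
      ((p ^ a : ℕ) : ℂ) * (ψ : G → ℂ) x with hθ
  have hθeq : θ = ((p ^ a : ℕ) : ℂ) • pRegularPart p (ψ : G → ℂ) := by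
    funext x
    rw [hθ, Pi.smul_apply, pRegularPart_eq_ite, smul_eq_mul]
    dsimp only
    split_ifs <;> simp
  have hgen : IsGeneralizedCharacter G θ :=
    Cfsg.Agent.Lib.Helper74.isGeneralizedCharacter_pReg hp
      (Cfsg.Agent.Lib.Helper80.isCharacter_of_isIrr ψ.2)
  have hgen2 : IsGeneralizedCharacter G (ξ : G → ℂ) :=
    ⟨_, 0, Cfsg.Agent.Lib.Helper80.isCharacter_of_isIrr ξ.2,
      Cfsg.Agent.Lib.Helper80.isCharacter_zero, by rw [sub_zero]⟩
  obtain ⟨N, hN⟩ := (Cfsg.Agent.Lib.Helper26.irrFacts G).inner_int hgen hgen2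
  have hdvd := Cfsg.Agent.Lib.Helper74.pow_factorization_dvd_classInner_pReg hp ψ ξ N hN
  obtain ⟨z, hz⟩ := hdvd
  refine ⟨z, ?_⟩
  rw [hθeq, Cfsg.Agent.Lib.Helper78.classInner_smul_left, hz] at hN
  have hpa : ((p ^ a : ℕ) : ℂ) =
      (p : ℂ) ^ e * (p : ℂ) ^ ((charDegree (ψ : G → ℂ)).factorization p) := by
    rw [← pow_add, he]; push_cast; rfl
  have hp0 : (p : ℂ) ^ ((charDegree (ψ : G → ℂ)).factorization p) ≠ 0 := by
    apply pow_ne_zero
    exact_mod_cast hp.ne_zero
  rw [hpa] at hN
  push_cast at hN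
  apply mul_left_cancel₀ hp0
  rw [← hN]
  ring

/-- `[ψ̃, ψ]` as a real sum over the `p`-regular elements. -/
theorem classInner_pRegularPart_self (p : ℕ) (ψ : IrrCharacter G)
    [DecidablePred fun y : G => ¬ p ∣ orderOf y] :
    classInner (pRegularPart p (ψ : G → ℂ)) (ψ : G → ℂ) =
      (((Nat.card G : ℝ)⁻¹ * ∑ y ∈ Finset.univ.filter (fun y : G => ¬ p ∣ orderOf y),
        ‖(ψ : G → ℂ) y‖ ^ 2 : ℝ) : ℂ) := by
  classical
  unfold classInner
  push_cast
  congr 1
  rw [Finset.sum_filter]
  apply Finset.sum_congr rfl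
  intro g _
  rw [pRegularPart_eq_ite]
  by_cases h : p ∣ orderOf g
  · rw [if_pos h, if_neg (not_not.mpr h), zero_mul]
  · rw [if_neg h, if_pos h, Complex.mul_conj, Complex.normSq_eq_norm_sq]
    push_cast; rfl

/-- The counting argument: `χ` vanishes off `D · G_{p'}` and `|D| ∑_{y reg} |χ(y)|² = |G|`. -/
theorem key_count (p : ℕ) [Fact p.Prime] (D : Subgroup G) (hDZ : D ≤ Subgroup.center G)
    (δ : ℕ) (hDcard : Nat.card D = p ^ δ) (χ : IrrCharacter G)
    (hdeg : δ + (charDegree (χ : G → ℂ)).factorization p = (Nat.card G).factorization p)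
    [DecidablePred fun y : G => ¬ p ∣ orderOf y] :
    (∀ g : G, (¬ ∃ x ∈ D, ∃ y : G, ¬ p ∣ orderOf y ∧ g = x * y) → (χ : G → ℂ) g = 0) ∧
    (p ^ δ : ℝ) * ∑ y ∈ Finset.univ.filter (fun y : G => ¬ p ∣ orderOf y),
      ‖(χ : G → ℂ) y‖ ^ 2 = (Nat.card G : ℝ) := by
  classical
  have hp : p.Prime := Fact.out
  obtain ⟨z, hz⟩ := exists_int_inner p χ χ δ hdeg
  rw [classInner_pRegularPart_self] at hz
  set Sreg : ℝ := ∑ y ∈ Finset.univ.filter (fun y : G => ¬ p ∣ orderOf y),
      ‖(χ : G → ℂ) y‖ ^ 2 with hSreg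
  have hcard0 : (0 : ℝ) < (Nat.card G : ℝ) := by exact_mod_cast Nat.card_pos
  have hzR : (p ^ δ : ℝ) * ((Nat.card G : ℝ)⁻¹ * Sreg) = (z : ℝ) := by
    have : (((p ^ δ : ℝ) * ((Nat.card G : ℝ)⁻¹ * Sreg) : ℝ) : ℂ) = ((z : ℝ) : ℂ) := by
      push_cast
      push_cast at hz
      exact hz
    exact_mod_cast this
  have hSpos : 0 < Sreg := by
    have h1 : ‖(χ : G → ℂ) 1‖ ^ 2 ≤ Sreg := by
      rw [hSreg]
      apply Finset.single_le_sum (f := fun y : G => ‖(χ : G → ℂ) y‖ ^ 2)
        (fun y _ => sq_nonneg _)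
      rw [Finset.mem_filter]
      refine ⟨Finset.mem_univ _, ?_⟩
      rw [orderOf_one]
      exact hp.one_lt.ne' ∘ Nat.dvd_one.mp
    have h2 : 0 < ‖(χ : G → ℂ) 1‖ ^ 2 := by
      apply pow_pos
      rw [norm_pos_iff]
      exact Cfsg.Agent.Lib.Helper79.irr_apply_one_ne_zero χ
    linarith
  have hppos : (0 : ℝ) < (p : ℝ) ^ δ := by
    apply pow_pos
    exact_mod_cast hp.pos
  have hz1 : 1 ≤ z := by
    have : (0 : ℝ) < (z : ℝ) := by
      rw [← hzR]
      positivity
    have : 0 < z := by exact_mod_cast this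
    omega
  -- the product set
  set T : Finset (G × G) := (Finset.univ.filter (fun x : G => x ∈ D)) ×ˢ
      (Finset.univ.filter (fun y : G => ¬ p ∣ orderOf y)) with hT
  have hinj : Set.InjOn (fun q : G × G => q.1 * q.2) (T : Set (G × G)) := by
    rintro ⟨x, y⟩ hq ⟨x', y'⟩ hq' heq
    simp only [hT, Finset.coe_product, Finset.coe_filter, Finset.mem_univ, true_and,
      Set.mem_prod, Set.mem_setOf_eq] at hq hq'
    simp only at heq
    have hxc := Subgroup.mem_center_iff.mp (hDZ hq.1)
    have hxc' := Subgroup.mem_center_iff.mp (hDZ hq'.1)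
    -- c = x'⁻¹ x is a central p-element with c * y = y'
    have hcD : x'⁻¹ * x ∈ D := D.mul_mem (D.inv_mem hq'.1) hq.1
    have hcy : (x'⁻¹ * x) * y = y' := by
      rw [mul_assoc, heq]; group
    obtain ⟨k, hk⟩ : ∃ k, orderOf (x'⁻¹ * x) = p ^ k := by
      have hDp : IsPGroup p D := IsPGroup.of_card hDcard
      obtain ⟨k, hk⟩ := (IsPGroup.iff_orderOf.mp hDp) ⟨x'⁻¹ * x, hcD⟩
      exact ⟨k, by rw [← hk, Subgroup.orderOf_mk]⟩
    have hcomm : Commute (x'⁻¹ * x) y := by
      have := Subgroup.mem_center_iff.mp (hDZ hcD) y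
      exact this.symm
    have hc1 := eq_one_of_pRegular_mul hp hcomm hk hq.2 (by rw [hcy]; exact hq'.2)
    have hxx : x = x' := by
      have := congrArg (fun t => x' * t) hc1
      simpa using this
    subst hxx
    have hyy : y = y' := mul_left_cancel heq
    rw [hyy]
  set S : Finset G := T.image (fun q : G × G => q.1 * q.2) with hS
  have hsumS : ∑ g ∈ S, ‖(χ : G → ℂ) g‖ ^ 2 = (p ^ δ : ℝ) * Sreg := by
    rw [hS, Finset.sum_image hinj, hT, Finset.sum_product]
    have h1 : ∀ x ∈ Finset.univ.filter (fun x : G => x ∈ D),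
        ∑ y ∈ Finset.univ.filter (fun y : G => ¬ p ∣ orderOf y),
          ‖(χ : G → ℂ) (x * y)‖ ^ 2 = Sreg := by
      intro x hx
      rw [Finset.mem_filter] at hx
      rw [hSreg]
      apply Finset.sum_congr rfl
      intro y _
      rw [norm_central_mul χ x (hDZ hx.2) y]
    rw [Finset.sum_congr rfl h1, Finset.sum_const, nsmul_eq_mul]
    congr 1
    have : (Finset.univ.filter (fun x : G => x ∈ D)).card = Nat.card D := by
      rw [Nat.card_eq_fintype_card, Fintype.card_subtype]
    rw [this, hDcard]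
    push_cast; rfl
  have htot := sum_normSq_irr χ
  have hsplit : ∑ g ∈ S, ‖(χ : G → ℂ) g‖ ^ 2 + ∑ g ∈ Sᶜ, ‖(χ : G → ℂ) g‖ ^ 2 =
      (Nat.card G : ℝ) := by
    rw [Finset.sum_add_sum_compl, htot]
  have hcompl_nonneg : 0 ≤ ∑ g ∈ Sᶜ, ‖(χ : G → ℂ) g‖ ^ 2 :=
    Finset.sum_nonneg (fun g _ => sq_nonneg _)
  have hpS : (p ^ δ : ℝ) * Sreg = (z : ℝ) * (Nat.card G : ℝ) := by
    rw [← hzR]
    field_simp
  have hzle : (z : ℝ) ≤ 1 := by
    rw [hsumS, hpS] at hsplit
    by_contra hcon
    push Not at hcon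
    nlinarith
  have hz_eq : z = 1 := by
    have : z ≤ 1 := by exact_mod_cast hzle
    omega
  rw [hz_eq] at hpS
  constructor
  · intro g hg
    have hgS : g ∈ Sᶜ := by
      rw [Finset.mem_compl, hS, Finset.mem_image]
      rintro ⟨⟨x, y⟩, hq, rfl⟩
      simp only [hT, Finset.mem_product, Finset.mem_filter, Finset.mem_univ, true_and] at hq
      exact hg ⟨x, hq.1, y, hq.2, rfl⟩
    have hzero : ∑ g ∈ Sᶜ, ‖(χ : G → ℂ) g‖ ^ 2 = 0 := by
      rw [hsumS, hpS] at hsplit
      push_cast at hsplit
      linarith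
    have := (Finset.sum_eq_zero_iff_of_nonneg (fun g _ => sq_nonneg _)).mp hzero g hgS
    have h2 : ‖(χ : G → ℂ) g‖ = 0 := by
      exact pow_eq_zero_iff (two_ne_zero) |>.mp this
    exact norm_eq_zero.mp h2
  · rw [hpS]; push_cast; ring

/-- A quotient of naturals with equal `p`-adic valuations is not in the local ideal. -/
theorem not_memLocalIdeal_natCast_div {p : ℕ} {M : Ideal AlgInt} (hM : IsPModular p M) {N D' : ℕ}
    (hN : N ≠ 0) (hD : D' ≠ 0) (h : N.factorization p = D'.factorization p) :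
    ¬ MemLocalIdeal M ((N : ℂ) / (D' : ℂ)) := by
  haveI hMp := isPModular_isPrime hM
  have hp := isPModular_prime hM
  intro hu
  have hNd := Nat.ordProj_mul_ordCompl_eq_self N p
  have hDd := Nat.ordProj_mul_ordCompl_eq_self D' p
  have hN' := Nat.not_dvd_ordCompl hp hN
  rw [h] at hNd hN'
  set k := D'.factorization p
  set n' := N / p ^ k
  set m' := D' / p ^ k
  have hpc : (p : ℂ) ^ k ≠ 0 := pow_ne_zero _ (by exact_mod_cast hp.ne_zero)
  have hm'c : (m' : ℂ) ≠ 0 := by
    have : m' ≠ 0 := by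
      intro h0
      rw [h0, mul_zero] at hDd
      exact hD hDd.symm
    exact_mod_cast this
  have h1 : (N : ℂ) = (p : ℂ) ^ k * (n' : ℂ) := by
    have := congrArg (Nat.cast (R := ℂ)) hNd
    push_cast at this
    exact this.symm
  have h2 : (D' : ℂ) = (p : ℂ) ^ k * (m' : ℂ) := by
    have := congrArg (Nat.cast (R := ℂ)) hDd
    push_cast at this
    exact this.symm
  have h3 : (n' : ℂ) = (N : ℂ) / (D' : ℂ) * (m' : ℂ) := by
    rw [h1, h2]
    field_simp
  have h4 : MemLocalIdeal M (n' : ℂ) := by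
    rw [h3]
    exact memLocalIdeal_mul_right hu (memLocalRing_natCast hMp.ne_top m')
  exact hN' ((memLocalIdeal_natCast_iff hM n').mp h4)

theorem centralizer_inv_eq (r : G) :
    Subgroup.centralizer ({r⁻¹} : Set G) = Subgroup.centralizer ({r} : Set G) := by
  ext x
  simp only [Subgroup.mem_centralizer_singleton_iff]
  constructor
  · intro h
    have := congrArg (fun t => r * t * r) h
    have h2 : r * (x * r⁻¹) * r = r * x := by group
    have h3 : r * (r⁻¹ * x) * r = x * r := by group
    rw [h2, h3] at this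
    exact this.symm
  · intro h
    have := congrArg (fun t => r⁻¹ * t * r⁻¹) h
    have h2 : r⁻¹ * (x * r) * r⁻¹ = r⁻¹ * x := by group
    have h3 : r⁻¹ * (r * x) * r⁻¹ = x * r⁻¹ := by group
    rw [h2, h3] at this
    exact this.symm

/-- There is a `p`-regular class on which the central character of `χ` is a unit and whose
centralizer has `p`-part at most `|D|`. -/
theorem exists_class (p : ℕ) [Fact p.Prime] (M : Ideal AlgInt) (hM : IsPModular p M)
    (D : Subgroup G) (δ : ℕ) (hDcard : Nat.card D = p ^ δ) (χ : IrrCharacter G)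
    (hdeg : δ + (charDegree (χ : G → ℂ)).factorization p = (Nat.card G).factorization p)
    [DecidablePred fun y : G => ¬ p ∣ orderOf y]
    (hsum : (p ^ δ : ℝ) * ∑ y ∈ Finset.univ.filter (fun y : G => ¬ p ∣ orderOf y),
      ‖(χ : G → ℂ) y‖ ^ 2 = (Nat.card G : ℝ)) :
    ∃ r : G, ¬ MemLocalIdeal M (centralChar (χ : G → ℂ) r) ∧
      (Nat.card (Subgroup.centralizer ({r} : Set G))).factorization p ≤ δ := by
  classical
  haveI hMp := isPModular_isPrime hM
  have hp : p.Prime := Fact.out
  by_contra hcon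
  push Not at hcon
  have hχchar := IsIrrCharacter.isCharacter χ.2
  have hχ1 : (χ : G → ℂ) 1 = (charDegree (χ : G → ℂ) : ℂ) :=
    IsCharacter.apply_one_eq_charDegree hχchar
  have hdpos : 0 < charDegree (χ : G → ℂ) := IsIrrCharacter.charDegree_pos χ.2
  have hd0 : (charDegree (χ : G → ℂ) : ℂ) ≠ 0 := by exact_mod_cast hdpos.ne'
  set F : G → ℂ := fun g => if p ∣ orderOf g then 0 else
      (χ : G → ℂ) g * conj ((χ : G → ℂ) g) with hF
  have hFcl : ∀ g h : G, F (h * g * h⁻¹) = F g := by
    intro g h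
    have ho : orderOf (h * g * h⁻¹) = orderOf g := by
      have := orderOf_injective (MulAut.conj h).toMonoidHom (MulAut.conj h).injective g
      simpa using this
    have hcl := Cfsg.Agent.Lib.Helper80.isClassFunction_of_isCharacter hχchar g h
    simp only [hF, ho, hcl]
  have hFsum : ∑ g : G, F g = ((Nat.card G : ℝ) / (p ^ δ : ℝ) : ℝ) := by
    have hpp : (p ^ δ : ℝ) ≠ 0 := pow_ne_zero _ (by exact_mod_cast hp.ne_zero)
    rw [← hsum, mul_div_cancel_left₀ _ hpp]
    push_cast
    rw [Finset.sum_filter]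
    apply Finset.sum_congr rfl
    intro g _
    rw [hF]
    dsimp only
    by_cases h : p ∣ orderOf g
    · rw [if_pos h, if_neg (not_not.mpr h)]
    · rw [if_neg h, if_pos h, Complex.mul_conj, Complex.normSq_eq_norm_sq]
      push_cast; rfl
  rw [sum_eq_sum_classes F hFcl] at hFsum
  -- every term is χ(1) times an element of the local ideal
  have hterm : ∀ c : ConjClasses G, ∃ w : ℂ, MemLocalIdeal M w ∧
      ((Subgroup.centralizer ({classRep c} : Set G)).index : ℂ) * F (classRep c) =
        (χ : G → ℂ) 1 * w := by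
    intro c
    set r := classRep c with hr
    by_cases hreg : p ∣ orderOf r
    · refine ⟨0, memLocalIdeal_zero hMp.ne_top, ?_⟩
      rw [hF]; dsimp only
      rw [if_pos hreg, mul_zero, mul_zero]
    · refine ⟨centralChar (χ : G → ℂ) r * conj ((χ : G → ℂ) r), ?_, ?_⟩
      · have hconj : conj ((χ : G → ℂ) r) = (χ : G → ℂ) r⁻¹ := (IsCharacter.inv hχchar r).symm
        have hωR : MemLocalRing M (centralChar (χ : G → ℂ) r) :=
          memLocalRing_of_isIntegral hMp.ne_top (Cfsg.Agent.Lib.Helper79.isIntegral_centralChar χ r)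
        by_cases hω : MemLocalIdeal M (centralChar (χ : G → ℂ) r)
        · apply memLocalIdeal_mul_right hω
          rw [hconj]
          exact memLocalRing_of_isIntegral hMp.ne_top (IsCharacter.isIntegral hχchar _)
        · have hlt := hcon r hω
          apply memLocalIdeal_mul_left hωR
          rw [hconj]
          -- χ(r⁻¹) = ω(r⁻¹) * (χ(1) / index)
          set idx := (Subgroup.centralizer ({r⁻¹} : Set G)).index with hidx
          have hidx0 : idx ≠ 0 := Subgroup.index_ne_zero_of_finite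
          have hidxc : (idx : ℂ) ≠ 0 := by exact_mod_cast hidx0
          have heq : (χ : G → ℂ) r⁻¹ = centralChar (χ : G → ℂ) r⁻¹ *
              ((charDegree (χ : G → ℂ) : ℂ) / (idx : ℂ)) := by
            unfold centralChar
            rw [hχ1, ← hidx]
            field_simp
          rw [heq]
          apply memLocalIdeal_mul_left
            (memLocalRing_of_isIntegral hMp.ne_top
              (Cfsg.Agent.Lib.Helper79.isIntegral_centralChar χ r⁻¹))
          apply memLocalIdeal_natCast_div_of_factorization_lt hM hidx0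
          -- valuations
          have hmul := Subgroup.card_mul_index (Subgroup.centralizer ({r⁻¹} : Set G))
          rw [centralizer_inv_eq] at hmul
          have hfac := congrArg (fun n => n.factorization p) hmul
          rw [Nat.factorization_mul Nat.card_pos.ne' Subgroup.index_ne_zero_of_finite,
            Finsupp.add_apply] at hfac
          rw [hidx, centralizer_inv_eq]
          omega
      · rw [hF]; dsimp only
        rw [if_neg hreg]
        unfold centralChar
        rw [hχ1]
        field_simp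
  choose w hw hweq using hterm
  rw [Finset.sum_congr rfl (fun c _ => hweq c), ← Finset.mul_sum] at hFsum
  have hW : MemLocalIdeal M (∑ c : ConjClasses G, w c) :=
    memLocalIdeal_sum _ _ (fun c _ => hw c)
  -- but the sum is index(D)/χ(1)
  have hidxD : Nat.card G = p ^ δ * D.index := by
    rw [← hDcard, Subgroup.card_mul_index]
  have hu : ∑ c : ConjClasses G, w c = (D.index : ℂ) / (charDegree (χ : G → ℂ) : ℂ) := by
    have hpp : ((p : ℂ) ^ δ) ≠ 0 := pow_ne_zero _ (by exact_mod_cast hp.ne_zero)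
    rw [hχ1] at hFsum
    rw [eq_div_iff hd0, mul_comm, hFsum, hidxD]
    push_cast
    field_simp
  rw [hu] at hW
  have hfacD : D.index.factorization p = (charDegree (χ : G → ℂ)).factorization p := by
    have hfac := congrArg (fun n => n.factorization p) hidxD
    rw [Nat.factorization_mul (pow_ne_zero _ hp.ne_zero) Subgroup.index_ne_zero_of_finite,
      Finsupp.add_apply, hp.factorization_pow, Finsupp.single_eq_same] at hfac
    omega
  exact not_memLocalIdeal_natCast_div hM Subgroup.index_ne_zero_of_finite hdpos.ne' hfacD hW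

end Count

/-- Let D be a central p-subgroup of the finite group G and χ an irreducible character with the exponent of p in χ(1) equal to the exponent of p in the index of D; fix a maximal ideal M of the algebraic integers containing p. Then D is a defect group of the block of χ, and χ g = 0 whenever the p-part of g does not lie in D. -/
theorem result {G : Type*} [Group G] [Finite G] (p : ℕ) [Fact p.Prime] (M : Ideal Cfsg.AlgInt) (hM : Cfsg.IsPModular p M) (D : Subgroup G) (hD : IsPGroup p D) (hDZ : D ≤ Subgroup.center G) (χ : Cfsg.IrrCharacter G) (hdeg : (Cfsg.charDegree (χ : G → ℂ)).factorization p = D.index.factorization p) : Cfsg.IsDefectGroup p M (Cfsg.blockOf M (χ : G → ℂ)) D ∧ ∀ g x : G, Cfsg.IsPPart p g x → x ∉ D → (χ : G → ℂ) g = 0 := by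
  classical
  haveI := Fintype.ofFinite G
  haveI hMp := isPModular_isPrime hM
  have hp : p.Prime := Fact.out
  obtain ⟨δ, hDcard⟩ := IsPGroup.iff_card.mp hD
  have hdeg' : δ + (charDegree (χ : G → ℂ)).factorization p = (Nat.card G).factorization p := by
    rw [hdeg, ← Subgroup.card_mul_index D, hDcard,
      Nat.factorization_mul (pow_ne_zero _ hp.ne_zero) Subgroup.index_ne_zero_of_finite,
      Finsupp.add_apply, hp.factorization_pow, Finsupp.single_eq_same]
  obtain ⟨hvanish, hsum⟩ := key_count p D hDZ δ hDcard χ hdeg'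
  constructor
  · -- the defect group
    obtain ⟨r, hω, hle⟩ := exists_class p M hM D δ hDcard χ hdeg' hsum
    set B := blockOf M (χ : G → ℂ) with hB
    have hBblock : IsPBlock M B := isPBlock_blockOf χ
    have hχB : χ ∈ B := self_mem_blockOf hMp.ne_top χ
    obtain ⟨g₀, hg₀⟩ := exists_isDefectClass hBblock
    let P₀ : Sylow p (Subgroup.centralizer ({g₀} : Set G)) := default
    obtain ⟨x, Q, hxQ⟩ :=
      (Cfsg.Agent.S0911.result p M hM B hBblock g₀ hg₀ P₀ r).2 ⟨χ, hχB, hω⟩
    refine ⟨g₀, hg₀, P₀, ?_⟩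
    have hDle : D ≤ (P₀ : Subgroup (Subgroup.centralizer ({g₀} : Set G))).map
        (Subgroup.centralizer ({g₀} : Set G)).subtype := by
      intro d hd
      have hdC : d ∈ Subgroup.centralizer ({g₀} : Set G) := by
        rw [Subgroup.mem_centralizer_singleton_iff]
        exact (Subgroup.mem_center_iff.mp (hDZ hd) g₀).symm
      haveI : (D.subgroupOf (Subgroup.centralizer ({g₀} : Set G))).Normal := by
        constructor
        intro n hn g
        rw [Subgroup.mem_subgroupOf] at hn ⊢
        have hc := Subgroup.mem_center_iff.mp (hDZ hn) (g : G)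
        have : ((g * n * g⁻¹ : Subgroup.centralizer ({g₀} : Set G)) : G) = (n : G) := by
          push_cast
          rw [hc]
          group
        rw [this]
        exact hn
      have hpg : IsPGroup p (D.subgroupOf (Subgroup.centralizer ({g₀} : Set G))) :=
        hD.comap_subtype
      have hle2 := hpg.le_sylow_of_normal P₀
      exact ⟨⟨d, hdC⟩, hle2 (Subgroup.mem_subgroupOf.mpr hd), rfl⟩
    have hcardP : Nat.card ((P₀ : Subgroup (Subgroup.centralizer ({g₀} : Set G))).map
        (Subgroup.centralizer ({g₀} : Set G)).subtype) ≤ Nat.card D := by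
      have h1 : Nat.card (((P₀ : Subgroup (Subgroup.centralizer ({g₀} : Set G))).map
          (Subgroup.centralizer ({g₀} : Set G)).subtype).map (MulAut.conj x).toMonoidHom) =
          Nat.card ((P₀ : Subgroup (Subgroup.centralizer ({g₀} : Set G))).map
            (Subgroup.centralizer ({g₀} : Set G)).subtype) :=
        Subgroup.card_map_of_injective (MulAut.conj x).injective
      have h2 := Subgroup.card_le_of_le hxQ
      have hQ : Nat.card ((Q : Subgroup (Subgroup.centralizer ({r} : Set G))).map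
          (Subgroup.centralizer ({r} : Set G)).subtype) =
          p ^ (Nat.card (Subgroup.centralizer ({r} : Set G))).factorization p := by
        rw [Subgroup.card_map_of_injective (Subgroup.subtype_injective _),
          Sylow.card_eq_multiplicity]
      rw [h1, hQ] at h2
      rw [hDcard]
      exact le_trans h2 (Nat.pow_le_pow_right hp.pos hle)
    exact Subgroup.eq_of_le_of_card_ge hDle hcardP
  · intro g x hgx hxD
    apply hvanish
    rintro ⟨z, hzD, y, hy, rfl⟩
    obtain ⟨y', hxy', hcomm, ⟨k, hk⟩, hy'⟩ := hgx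
    apply hxD
    have hzc := Subgroup.mem_center_iff.mp (hDZ hzD)
    obtain ⟨k₁, hk₁⟩ : ∃ k₁, orderOf z = p ^ k₁ := by
      obtain ⟨k₁, hk₁⟩ := (IsPGroup.iff_orderOf.mp hD) ⟨z, hzD⟩
      exact ⟨k₁, by rw [← hk₁, Subgroup.orderOf_mk]⟩
    have hcz : Commute z⁻¹ x := by
      have : Commute z x := (hzc x).symm
      exact this.inv_left
    obtain ⟨j, hj⟩ : ∃ j, orderOf (z⁻¹ * x) = p ^ j := by
      have h1 : (z⁻¹ * x) ^ (p ^ (k₁ + k)) = 1 := by
        rw [hcz.mul_pow, inv_pow, pow_add, pow_mul, ← hk₁, pow_orderOf_eq_one, one_pow, inv_one,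
          one_mul, mul_comm (orderOf z), pow_mul, ← hk, pow_orderOf_eq_one, one_pow]
      obtain ⟨j, -, hj⟩ := (Nat.dvd_prime_pow hp).mp (orderOf_dvd_of_pow_eq_one h1)
      exact ⟨j, hj⟩
    have hcy' : Commute (z⁻¹ * x) y' := by
      have h1 : Commute z y' := (hzc y').symm
      exact (h1.inv_left).mul_left hcomm
    have hprod : (z⁻¹ * x) * y' = y := by
      rw [mul_assoc, hxy']; group
    have hc1 := eq_one_of_pRegular_mul hp hcy' hj hy' (by rw [hprod]; exact hy)
    have hxz : x = z := by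
      have := congrArg (fun t => z * t) hc1
      simpa using this
    rw [hxz]
    exact hzD

end Cfsg.Agent.S0969
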