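import Cfsg.Statements.S4494
import Cfsg.Agent.Lib.Helper76.BlockSq
import Cfsg.Agent.Lib.Helper76.PConj
import Cfsg.Agent.S4426

set_option autoImplicit false
open Cfsg

namespace Cfsg.Agent.S4494

open Cfsg.Agent.Lib.Helper76 Cfsg.Agent.Lib.Helper16 in
open scoped ComplexConjugate in
open Classical in
/-- Integer form of the Brauer–Feit inequality. -/
theorem brauer_feit_core {G : Type*} [Group G] [Fintype G] [Fintype (Cfsg.IrrCharacter G)]
    (p : ℕ) [Fact p.Prime] (M : Ideal Cfsg.AlgInt) (hM : Cfsg.IsPModular p M)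
    (B : Set (Cfsg.IrrCharacter G)) (hB : Cfsg.IsPBlock M B) :
    4 * ((Finset.univ.filter (fun ψ : Cfsg.IrrCharacter G => ψ ∈ B)).card : ℤ) ≤
      ((p : ℤ) ^ (Cfsg.blockDefect p B)) ^ 2 + 4 := by
  have hp : p.Prime := Fact.out
  have hMp := isPModular_isPrime hM
  set T : Set ℕ := (fun χ : Cfsg.IrrCharacter G =>
    (Cfsg.charDegree (χ : G → ℂ)).factorization p) '' B with hT
  have hTne : T.Nonempty := (IsPBlock_nonempty hMp.ne_top hB).image _
  set m := sInf T with hmdef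
  obtain ⟨χ₀, hχ₀, hχ₀m'⟩ := Nat.sInf_mem hTne
  have hχ₀m : (Cfsg.charDegree (χ₀ : G → ℂ)).factorization p = m := hχ₀m'
  have hm : ∀ ψ ∈ B, m ≤ (Cfsg.charDegree (ψ : G → ℂ)).factorization p := by
    intro ψ hψ
    exact Nat.sInf_le ⟨ψ, hψ, rfl⟩
  set a := (Nat.card G).factorization p with ha
  have hma : m ≤ a := by
    rw [← hχ₀m]
    exact (Nat.factorization_le_iff_dvd (Cfsg.Agent.Lib.Helper79.irr_charDegree_pos χ₀).ne'
      Nat.card_pos.ne').mpr (Cfsg.Agent.Lib.Helper79.irr_charDegree_dvd_card χ₀) p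
  have hdef : Cfsg.blockDefect p B = a - m := rfl
  have hheight : Cfsg.blockHeight p B (χ₀ : G → ℂ) = 0 := by
    unfold Cfsg.blockHeight
    rw [hχ₀m]
    exact Nat.sub_self _
  have hall := ((Cfsg.Agent.S4426.result p M hM B hB χ₀ hχ₀).2).mp hheight
  -- integer coefficients
  obtain ⟨aa, haa0, haa⟩ := Cfsg.Agent.S4424.result p M hM B hB χ₀ hχ₀
  have hpT : (fun x : G => if p ∣ orderOf x then (0 : ℂ) else
      ((p ^ (Nat.card G).factorization p : ℕ) : ℂ) * (χ₀ : G → ℂ) x) = pTilde p (χ₀ : G → ℂ) := rfl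
  rw [hpT] at haa hall
  have hexp : ∀ x : G, pTilde p (χ₀ : G → ℂ) x =
      ∑ ψ : Cfsg.IrrCharacter G, (aa ψ : ℂ) * (ψ : G → ℂ) x := by
    intro x
    have := congrFun haa x
    rw [finsum_eq_sum_of_fintype] at this
    exact this
  have hexpf : pTilde p (χ₀ : G → ℂ) =
      ∑ ψ : Cfsg.IrrCharacter G, (aa ψ : ℂ) • (ψ : G → ℂ) := by
    funext x
    rw [hexp x, Finset.sum_apply]
    apply Finset.sum_congr rfl
    intro ψ _
    rw [Pi.smul_apply, smul_eq_mul]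
  have hinner : ∀ ψ : Cfsg.IrrCharacter G,
      Cfsg.classInner (pTilde p (χ₀ : G → ℂ)) (ψ : G → ℂ) = (aa ψ : ℂ) := by
    intro ψ
    rw [hexpf, Cfsg.Agent.Lib.Helper3.classInner_sum_left]
    simp only [Cfsg.Agent.Lib.Helper3.classInner_smul_left]
    rw [Finset.sum_eq_single ψ]
    · rw [Cfsg.Agent.Lib.Helper3.classInner_irrCharacter ψ.2 ψ.2, if_pos rfl, mul_one]
    · intro φ _ hφ
      rw [Cfsg.Agent.Lib.Helper3.classInner_irrCharacter φ.2 ψ.2, if_neg, mul_zero]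
      intro h
      exact hφ (Subtype.ext h)
    · intro h; exact absurd (Finset.mem_univ _) h
  -- nonvanishing and divisibility on B
  have hne : ∀ ψ ∈ B, aa ψ ≠ 0 ∧ (p : ℤ) ^ m ∣ aa ψ := by
    intro ψ hψ
    obtain ⟨n, hn, hn0, hnv⟩ := hall ψ hψ
    rw [hinner ψ] at hn
    have hn' : aa ψ = n := by exact_mod_cast hn
    rw [hn']
    refine ⟨hn0, ?_⟩
    rw [padicValInt_dvd_iff]
    right
    rw [hnv]
    exact hm ψ hψ
  -- Parseval
  have hcl : Cfsg.IsClassFunction G (pTilde p (χ₀ : G → ℂ)) := by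
    intro x h
    unfold pTilde
    have ho : orderOf (h * x * h⁻¹) = orderOf x := by
      have := orderOf_injective (MulAut.conj h).toMonoidHom (MulAut.conj h).injective x
      simpa using this
    rw [ho, irr_conj χ₀]
  have hpars := classInner_self_eq_sum (pTilde p (χ₀ : G → ℂ)) hcl
  have hself : Cfsg.classInner (pTilde p (χ₀ : G → ℂ)) (pTilde p (χ₀ : G → ℂ)) =
      ((p : ℂ) ^ a) * Cfsg.classInner (pTilde p (χ₀ : G → ℂ)) (χ₀ : G → ℂ) := by
    unfold Cfsg.classInner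
    rw [mul_left_comm ((p : ℂ) ^ a), Finset.mul_sum (a := (p : ℂ) ^ a)]
    congr 1
    apply Finset.sum_congr rfl
    intro x _
    unfold pTilde
    split_ifs
    · simp
    · rw [map_mul, Complex.conj_natCast]
      push_cast
      ring
  have hsumsq : ∑ ψ : Cfsg.IrrCharacter G, (aa ψ) ^ 2 = (p : ℤ) ^ a * aa χ₀ := by
    have h1 : ((∑ ψ : Cfsg.IrrCharacter G, (aa ψ) ^ 2 : ℤ) : ℂ) =
        (((p : ℤ) ^ a * aa χ₀ : ℤ) : ℂ) := by
      push_cast
      rw [← hinner χ₀, ← hself, hpars]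
      apply Finset.sum_congr rfl
      intro ψ _
      rw [hinner ψ, map_intCast]
      ring
    exact_mod_cast h1
  -- reduce
  set s := Finset.univ.filter (fun ψ : Cfsg.IrrCharacter G => ψ ∈ B) with hs
  have hχ₀s : χ₀ ∈ s := by simp [hs, hχ₀]
  have hsum_s : ∑ ψ ∈ s, (aa ψ) ^ 2 = (p : ℤ) ^ a * aa χ₀ := by
    rw [← hsumsq, hs, Finset.sum_filter]
    apply Finset.sum_congr rfl
    intro ψ _
    split_ifs with h
    · rfl
    · rw [haa0 ψ h]; ring
  set mm : Cfsg.IrrCharacter G → ℤ := fun ψ => aa ψ / (p : ℤ) ^ m with hmm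
  have hmm_mul : ∀ ψ ∈ s, aa ψ = (p : ℤ) ^ m * mm ψ := by
    intro ψ hψ
    have hψB : ψ ∈ B := by simpa [hs] using hψ
    exact (Int.mul_ediv_cancel' (hne ψ hψB).2).symm
  have hmm_ne : ∀ ψ ∈ s, mm ψ ≠ 0 := by
    intro ψ hψ h0
    have hψB : ψ ∈ B := by simpa [hs] using hψ
    have := hmm_mul ψ hψ
    rw [h0, mul_zero] at this
    exact (hne ψ hψB).1 this
  have hpm0 : (p : ℤ) ^ m ≠ 0 := pow_ne_zero _ (by exact_mod_cast hp.ne_zero)
  have hkey : ∑ ψ ∈ s, (mm ψ) ^ 2 = (p : ℤ) ^ (a - m) * mm χ₀ := by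
    have h1 : ((p : ℤ) ^ m) ^ 2 * ∑ ψ ∈ s, (mm ψ) ^ 2 =
        ((p : ℤ) ^ m) ^ 2 * ((p : ℤ) ^ (a - m) * mm χ₀) := by
      rw [Finset.mul_sum]
      have h2 : ∀ ψ ∈ s, ((p : ℤ) ^ m) ^ 2 * (mm ψ) ^ 2 = (aa ψ) ^ 2 := by
        intro ψ hψ
        rw [hmm_mul ψ hψ]; ring
      rw [Finset.sum_congr rfl h2, hsum_s, hmm_mul χ₀ hχ₀s]
      have h3 : (p : ℤ) ^ a = (p : ℤ) ^ m * (p : ℤ) ^ (a - m) := by
        rw [← pow_add]; congr 1; omega
      rw [h3]; ring
    exact mul_left_cancel₀ (pow_ne_zero 2 hpm0) h1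
  have hlow : (s.card : ℤ) - 1 + (mm χ₀) ^ 2 ≤ ∑ ψ ∈ s, (mm ψ) ^ 2 := by
    rw [← Finset.add_sum_erase s _ hχ₀s]
    have h1 : ((s.erase χ₀).card : ℤ) ≤ ∑ ψ ∈ s.erase χ₀, (mm ψ) ^ 2 := by
      have h2 : ∀ ψ ∈ s.erase χ₀, (1 : ℤ) ≤ (mm ψ) ^ 2 := by
        intro ψ hψ
        have h3 := hmm_ne ψ (Finset.mem_of_mem_erase hψ)
        have h4 : 0 < (mm ψ) ^ 2 := by positivity
        omega
      have h5 := Finset.sum_le_sum h2
      simpa using h5
    rw [Finset.card_erase_of_mem hχ₀s] at h1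
    have h6 : 1 ≤ s.card := Finset.card_pos.mpr ⟨χ₀, hχ₀s⟩
    push_cast [Nat.cast_sub h6] at h1
    linarith
  rw [hkey] at hlow
  rw [hdef]
  nlinarith [sq_nonneg ((p : ℤ) ^ (a - m) - 2 * mm χ₀)]

/-- The Brauer–Feit bound. Let B be a p-block of the finite group G (relative to a maximal ideal M of the algebraic integers containing p) and let d be its defect. Then the number k(B) of irreducible characters in B satisfies k(B) ≤ p^(2d)/4 + 1, stated here as 4·k(B) ≤ p^(2d) + 4. -/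
theorem result {G : Type*} [Group G] [Finite G] (p : ℕ) [Fact p.Prime] (M : Ideal Cfsg.AlgInt) (hM : Cfsg.IsPModular p M) (B : Set (Cfsg.IrrCharacter G)) (hB : Cfsg.IsPBlock M B) : 4 * Nat.card B ≤ p ^ (2 * Cfsg.blockDefect p B) + 4 := by
  classical
  have : Fintype G := Fintype.ofFinite G
  have : Fintype (Cfsg.IrrCharacter G) := Fintype.ofFinite _
  have h := brauer_feit_core p M hM B hB
  have hcard : Nat.card B =
      (Finset.univ.filter (fun ψ : Cfsg.IrrCharacter G => ψ ∈ B)).card := by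
    rw [Nat.card_eq_fintype_card, Fintype.card_subtype]
  rw [hcard]
  have h2 : ((4 * (Finset.univ.filter (fun ψ : Cfsg.IrrCharacter G => ψ ∈ B)).card : ℕ) : ℤ) ≤
      ((p ^ (2 * Cfsg.blockDefect p B) + 4 : ℕ) : ℤ) := by
    push_cast
    rw [mul_comm 2, pow_mul]
    exact h
  exact_mod_cast h2

end Cfsg.Agent.S4494
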