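import Mathlib
import Cfsg.Agent.S0925
import Cfsg.Agent.Lib.Helper74.InvolCols
import Cfsg.Agent.Lib.Helper74.PrincipalSMT
import Cfsg.Agent.Lib.Helper78.BlockSums
import Cfsg.Agent.Lib.Helper78.CharMore
import Cfsg.Agent.Lib.Helper16.NormalSub
import Cfsg.Agent.Lib.Helper76.PCore
import Cfsg.Agent.Lib.Helper80.CharBasic

set_option autoImplicit false
open Cfsg

namespace Cfsg.Agent.S4722

open Cfsg.Agent.Lib.Helper74 Cfsg.Agent.Lib.Helper78 Cfsg.Agent.Lib.Helper16
open scoped ComplexConjugate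

/-- Let M be a maximal ideal of the algebraic integers containing 2, P a 2-subgroup of the finite group G, U a subset of P, and t an involution of G such that no element of U is inverted by any conjugate of t. Let θ be a generalized character of P vanishing outside U, and for χ in the principal 2-block B₀ put a_χ = #P⁻¹ Σ_{y ∈ P} χ(y) θ(y⁻¹). Then Σ_{χ ∈ B₀} a_χ χ(t)^2/χ(1) = 0, Σ_{χ ∈ B₀} a_χ χ(1) = 0 and Σ_{χ ∈ B₀} a_χ χ(t) = 0. If moreover #P⁻¹ Σ_{y ∈ P} θ(y) ≠ 0, then either at least two of the a_χ have positive real part and at least two have negative real part, or G has a proper normal subgroup containing O_2'(G) and t. -/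
theorem result {G : Type*} [Group G] [Finite G] (M : Ideal Cfsg.AlgInt) (hM : Cfsg.IsPModular 2 M) (P : Subgroup G) (hP : IsPGroup 2 P) (U : Set G) (hUP : U ⊆ (P : Set G)) (t : G) (ht : orderOf t = 2) (hinv : ∀ u ∈ U, ∀ g : G, (g * t * g⁻¹) * u * (g * t * g⁻¹)⁻¹ ≠ u⁻¹) (θ : ↥P → ℂ) (hθ : Cfsg.IsGeneralizedCharacter ↥P θ) (hθU : ∀ y : ↥P, (y : G) ∉ U → θ y = 0) : (∑ᶠ χ ∈ Cfsg.principalBlock M G, ((Nat.card ↥P : ℂ)⁻¹ * ∑ᶠ y : ↥P, (χ : G → ℂ) (y : G) * θ y⁻¹) * (χ : G → ℂ) t ^ 2 / (χ : G → ℂ) 1 = 0) ∧ (∑ᶠ χ ∈ Cfsg.principalBlock M G, ((Nat.card ↥P : ℂ)⁻¹ * ∑ᶠ y : ↥P, (χ : G → ℂ) (y : G) * θ y⁻¹) * (χ : G → ℂ) 1 = 0) ∧ (∑ᶠ χ ∈ Cfsg.principalBlock M G, ((Nat.card ↥P : ℂ)⁻¹ * ∑ᶠ y : ↥P, (χ : G → ℂ) (y : G) * θ y⁻¹) * (χ : G → ℂ) t = 0) ∧ ((Nat.card ↥P : ℂ)⁻¹ * ∑ᶠ y : ↥P, θ y ≠ 0 → (2 ≤ Nat.card {χ : Cfsg.IrrCharacter G // χ ∈ Cfsg.principalBlock M G ∧ 0 < (((Nat.card ↥P : ℂ)⁻¹ * ∑ᶠ y : ↥P, (χ : G → ℂ) (y : G) * θ y⁻¹)).re} ∧ 2 ≤ Nat.card {χ : Cfsg.IrrCharacter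 G // χ ∈ Cfsg.principalBlock M G ∧ (((Nat.card ↥P : ℂ)⁻¹ * ∑ᶠ y : ↥P, (χ : G → ℂ) (y : G) * θ y⁻¹)).re < 0}) ∨ ∃ K : Subgroup G, K.Normal ∧ K ≠ ⊤ ∧ Cfsg.pPrimeCore 2 G ≤ K ∧ t ∈ K) := by
  classical
  have : Fact (Nat.Prime 2) := ⟨Nat.prime_two⟩
  have : Fintype G := Fintype.ofFinite G
  have : Fintype P := Fintype.ofFinite P
  have hMp : M.IsPrime := hM.2.1.isPrime
  have hB0 : IsPBlock M (principalBlock M G) := isPBlock_principalBlock G M
  -- basic facts on `t`
  have htt : t * t = 1 := by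
    have := pow_orderOf_eq_one t
    rw [ht, pow_two] at this
    exact this
  have htinv : t⁻¹ = t := inv_eq_of_mul_eq_one_left htt
  have ht2 : ∃ k : ℕ, orderOf t = 2 ^ k := ⟨1, by rw [ht, pow_one]⟩
  have ht1 : t ≠ 1 := by
    intro h
    rw [h, orderOf_one] at ht
    omega
  -- elements of `P` are 2-elements
  have hPord : ∀ y : P, ∃ k : ℕ, orderOf (y : G) = 2 ^ k := by
    intro y
    obtain ⟨k, hk⟩ := (IsPGroup.iff_orderOf.mp hP) y
    exact ⟨k, by rw [← hk, Subgroup.orderOf_coe]⟩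
  -- the set `s` and coefficients
  set s : Finset (IrrCharacter G) :=
    Finset.univ.filter (fun χ : IrrCharacter G => χ ∈ principalBlock M G) with hs
  set a : IrrCharacter G → ℂ :=
    fun χ => (Nat.card ↥P : ℂ)⁻¹ * ∑ y : ↥P, (χ : G → ℂ) (y : G) * θ y⁻¹ with ha
  have hafin : ∀ χ : IrrCharacter G,
      (Nat.card ↥P : ℂ)⁻¹ * ∑ᶠ y : ↥P, (χ : G → ℂ) (y : G) * θ y⁻¹ = a χ := by
    intro χ
    rw [finsum_eq_sum_of_fintype]
  -- character values at `t` and `1` are real
  have hreal_t : ∀ χ : IrrCharacter G, conj ((χ : G → ℂ) t) = (χ : G → ℂ) t := by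
    intro χ
    rw [← IsCharacter.inv (IsIrrCharacter.isCharacter χ.2) t, htinv]
  have hdeg : ∀ χ : IrrCharacter G, (χ : G → ℂ) 1 = (charDegree (χ : G → ℂ) : ℂ) :=
    fun χ => IsCharacter.apply_one_eq_charDegree (IsIrrCharacter.isCharacter χ.2)
  have hreal_1 : ∀ χ : IrrCharacter G, conj ((χ : G → ℂ) 1) = (χ : G → ℂ) 1 := by
    intro χ
    rw [hdeg, Complex.conj_natCast]
  -- no element `y` of `P` with `y⁻¹ ∈ U` is inverted by a conjugate of `t`
  have hnoinv : ∀ y : P, ((y⁻¹ : P) : G) ∈ U →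
      ∀ g : G, (g * t * g⁻¹) * (y : G) * (g * t * g⁻¹)⁻¹ ≠ (y : G)⁻¹ := by
    intro y hy g hg
    apply hinv _ hy g
    rw [Subgroup.coe_inv, inv_inv]
    have : (g * t * g⁻¹) * (y : G)⁻¹ * (g * t * g⁻¹)⁻¹ =
        ((g * t * g⁻¹) * (y : G) * (g * t * g⁻¹)⁻¹)⁻¹ := by group
    rw [this, hg, inv_inv]
  -- column relations
  have hcol1 : ∀ y : P, ((y⁻¹ : P) : G) ∈ U →
      ∑ χ ∈ s, (χ : G → ℂ) (y : G) * ((χ : G → ℂ) t ^ 2 / (χ : G → ℂ) 1) = 0 := by
    intro y hy
    have h := sum_block_sq_div_mul_eq_zero hM hB0 htt (hPord y) (hnoinv y hy)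
    rw [← h]
    apply Finset.sum_congr rfl
    intro χ _
    rw [map_div₀, map_mul, hreal_t, hreal_1, mul_comm, pow_two]
  have hy_ne_one : ∀ y : P, ((y⁻¹ : P) : G) ∈ U → (y : G) ≠ 1 := by
    intro y hy h1
    apply hnoinv y hy 1
    rw [h1]
    group
  have hcol2 : ∀ y : P, ((y⁻¹ : P) : G) ∈ U →
      ∑ χ ∈ s, (χ : G → ℂ) (y : G) * (χ : G → ℂ) 1 = 0 := by
    intro y hy
    have h := (Cfsg.Agent.S0925.result (G := G) 2 M hM).2 (y : G) 1 (y : G) 1
      (isPPart_self one_lt_two (hPord y))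
      (isPPart_self one_lt_two ⟨0, by rw [orderOf_one, pow_zero]⟩)
      (by
        intro hc
        apply hy_ne_one y hy
        exact (isConj_one_right.mp hc.symm) ) (principalBlock M G) hB0
    rw [finsum_mem_eq_sum_filter_univ] at h
    rw [← h]
    apply Finset.sum_congr rfl
    intro χ _
    rw [inv_one]
  have hcol3 : ∀ y : P, ((y⁻¹ : P) : G) ∈ U →
      ∑ χ ∈ s, (χ : G → ℂ) (y : G) * (χ : G → ℂ) t = 0 := by
    intro y hy
    have h := (Cfsg.Agent.S0925.result (G := G) 2 M hM).2 (y : G) t (y : G) t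
      (isPPart_self one_lt_two (hPord y)) (isPPart_self one_lt_two ht2)
      (by
        intro hc
        obtain ⟨c, hc⟩ := isConj_iff.mp hc
        -- `c * y * c⁻¹ = t`, so `y = c⁻¹ t c` is an involution inverted by itself
        have hyc : (y : G) = c⁻¹ * t * (c⁻¹)⁻¹ := by rw [← hc]; group
        apply hnoinv y hy c⁻¹
        rw [← hyc]
        have hyy : (y : G) * (y : G) = 1 := by
          rw [hyc]
          exact conj_mul_self_of_mul_self htt c⁻¹
        rw [hyy, one_mul]) (principalBlock M G) hB0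
    rw [finsum_mem_eq_sum_filter_univ] at h
    rw [← h]
    apply Finset.sum_congr rfl
    intro χ _
    rw [htinv]
  -- the three relations
  have E1 : ∑ χ ∈ s, a χ * ((χ : G → ℂ) t ^ 2 / (χ : G → ℂ) 1) = 0 :=
    sum_coeff_mul_eq_zero s θ _ U hθU hcol1
  have E2 : ∑ χ ∈ s, a χ * (χ : G → ℂ) 1 = 0 :=
    sum_coeff_mul_eq_zero s θ _ U hθU hcol2
  have E3 : ∑ χ ∈ s, a χ * (χ : G → ℂ) t = 0 :=
    sum_coeff_mul_eq_zero s θ _ U hθU hcol3
  refine ⟨?_, ?_, ?_, ?_⟩
  · rw [finsum_mem_eq_sum_filter_univ, ← E1]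
    apply Finset.sum_congr rfl
    intro χ _
    rw [hafin, mul_div_assoc]
  · rw [finsum_mem_eq_sum_filter_univ, ← E2]
    apply Finset.sum_congr rfl
    intro χ _
    rw [hafin]
  · rw [finsum_mem_eq_sum_filter_univ, ← E3]
    apply Finset.sum_congr rfl
    intro χ _
    rw [hafin]
  · intro hm
    simp only [hafin]
    by_contra hcon
    rw [not_or] at hcon
    obtain ⟨hcount, hnoK⟩ := hcon
    -- real data
    set d : IrrCharacter G → ℝ := fun χ => (charDegree (χ : G → ℂ) : ℝ) with hd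
    set cR : IrrCharacter G → ℝ := fun χ => ((χ : G → ℂ) t).re with hcR
    have hd_eq : ∀ χ : IrrCharacter G, (χ : G → ℂ) 1 = ((d χ : ℝ) : ℂ) := by
      intro χ
      rw [hdeg]
      simp [hd]
    have hc_eq : ∀ χ : IrrCharacter G, (χ : G → ℂ) t = ((cR χ : ℝ) : ℂ) := by
      intro χ
      exact ((Complex.conj_eq_iff_re).mp (hreal_t χ)).symm
    have hdpos : ∀ χ ∈ s, 0 < d χ := by
      intro χ _
      have := IsIrrCharacter.charDegree_pos χ.2
      simp only [hd]
      exact_mod_cast this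
    have R1 : ∑ χ ∈ s, (a χ).re * d χ = 0 := by
      have := congrArg Complex.re E2
      rw [Complex.re_sum, Complex.zero_re] at this
      rw [← this]
      apply Finset.sum_congr rfl
      intro χ _
      rw [hd_eq, Complex.re_mul_ofReal]
    have R2 : ∑ χ ∈ s, (a χ).re * cR χ = 0 := by
      have := congrArg Complex.re E3
      rw [Complex.re_sum, Complex.zero_re] at this
      rw [← this]
      apply Finset.sum_congr rfl
      intro χ _
      rw [hc_eq, Complex.re_mul_ofReal]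
    have R3 : ∑ χ ∈ s, (a χ).re * (cR χ ^ 2 / d χ) = 0 := by
      have := congrArg Complex.re E1
      rw [Complex.re_sum, Complex.zero_re] at this
      rw [← this]
      apply Finset.sum_congr rfl
      intro χ _
      rw [hd_eq, hc_eq]
      have : ((cR χ : ℝ) : ℂ) ^ 2 / ((d χ : ℝ) : ℂ) = ((cR χ ^ 2 / d χ : ℝ) : ℂ) := by
        push_cast
        rfl
      rw [this, Complex.re_mul_ofReal]
    -- the principal character
    set χ₀ : IrrCharacter G := ⟨fun _ => 1, isIrrCharacter_one⟩ with hχ₀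
    have hχ₀s : χ₀ ∈ s := by
      rw [hs, Finset.mem_filter]
      exact ⟨Finset.mem_univ _, one_mem_principalBlock hM G⟩
    have h0 : cR χ₀ = d χ₀ := by
      have h1 : ((cR χ₀ : ℝ) : ℂ) = ((d χ₀ : ℝ) : ℂ) := by
        rw [← hc_eq, ← hd_eq]
      exact_mod_cast h1
    -- `a χ₀` is the multiplicity of the trivial character in `θ`, a nonzero integer
    have ha0eq : a χ₀ = (Nat.card ↥P : ℂ)⁻¹ * ∑ y : ↥P, θ y := by
      simp only [ha]
      congr 1
      rw [← Equiv.sum_comp (Equiv.inv ↥P)]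
      apply Finset.sum_congr rfl
      intro y _
      simp [hχ₀]
    have ha0 : (a χ₀).re ≠ 0 := by
      rw [finsum_eq_sum_of_fintype, ← ha0eq] at hm
      obtain ⟨χ₁, χ₂, h1, h2, hθeq⟩ := hθ
      obtain ⟨n₁, hn₁⟩ := IsCharacter.exists_nat_classInner h1
        (⟨fun _ => 1, isIrrCharacter_one⟩ : IrrCharacter ↥P)
      obtain ⟨n₂, hn₂⟩ := IsCharacter.exists_nat_classInner h2
        (⟨fun _ => 1, isIrrCharacter_one⟩ : IrrCharacter ↥P)
      have h3 : a χ₀ = (n₁ : ℂ) - (n₂ : ℂ) := by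
        rw [ha0eq, ← hn₁, ← hn₂]
        unfold classInner
        rw [← mul_sub, ← Finset.sum_sub_distrib]
        congr 1
        apply Finset.sum_congr rfl
        intro y _
        rw [hθeq]
        simp
      intro hre
      apply hm
      apply Complex.ext
      · rw [hre, Complex.zero_re]
      · rw [h3]
        simp
    -- at most one negative or at most one positive
    have hcard : ∀ (q : IrrCharacter G → Prop),
        Nat.card {χ : IrrCharacter G // χ ∈ principalBlock M G ∧ q χ} =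
          (s.filter (fun χ => q χ)).card := by
      intro q
      rw [Nat.card_eq_fintype_card, Fintype.card_subtype, hs, Finset.filter_filter]
    rw [hcard (fun χ => 0 < (a χ).re), hcard (fun χ => (a χ).re < 0)] at hcount
    have hex : ∃ ψ ∈ s, ψ ≠ χ₀ ∧ cR ψ = d ψ := by
      by_cases hneg : (s.filter (fun χ => (a χ).re < 0)).card ≤ 1
      · obtain ⟨ψ, hψs, hψne, _, hψ⟩ := exists_ne_of_quadratic_relations s
          (fun χ => (a χ).re) d cR hdpos χ₀ hχ₀s h0 ha0 R1 R2 R3 hneg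
        exact ⟨ψ, hψs, hψne, hψ⟩
      · have hpos : (s.filter (fun χ => 0 < (a χ).re)).card ≤ 1 := by
          by_contra h
          apply hcount
          constructor <;> omega
        obtain ⟨ψ, hψs, hψne, _, hψ⟩ := exists_ne_of_quadratic_relations s
          (fun χ => -(a χ).re) d cR hdpos χ₀ hχ₀s h0 (neg_ne_zero.mpr ha0)
          (by simp only [neg_mul, Finset.sum_neg_distrib, R1, neg_zero])
          (by simp only [neg_mul, Finset.sum_neg_distrib, R2, neg_zero])
          (by simp only [neg_mul, Finset.sum_neg_distrib, R3, neg_zero])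
          (by
            have : (s.filter (fun χ => -(a χ).re < 0)) = s.filter (fun χ => 0 < (a χ).re) := by
              apply Finset.filter_congr
              intro χ _
              exact neg_neg_iff_pos
            rw [this]
            exact hpos)
        exact ⟨ψ, hψs, hψne, hψ⟩
    obtain ⟨ψ, hψs, hψne, hψ⟩ := hex
    have hψB : ψ ∈ principalBlock M G := (Finset.mem_filter.mp hψs).2
    have hψc : IsCharacter G (ψ : G → ℂ) := IsIrrCharacter.isCharacter ψ.2
    apply hnoK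
    refine ⟨Cfsg.Agent.Lib.Helper80.charKer (ψ : G → ℂ) hψc, inferInstance, ?_, ?_, ?_⟩
    · -- proper
      intro htop
      have hconst : ∀ g : G, (ψ : G → ℂ) g = (ψ : G → ℂ) 1 := by
        intro g
        have : g ∈ Cfsg.Agent.Lib.Helper80.charKer (ψ : G → ℂ) hψc := by
          rw [htop]; exact Subgroup.mem_top g
        exact this
      have hne : (ψ : G → ℂ) ≠ (fun _ => (1 : ℂ)) := by
        intro h
        apply hψne
        exact Subtype.ext h
      have h1 := classInner_irr_ne ψ.2 (isIrrCharacter_one (G := G)) hne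
      unfold classInner at h1
      have hG : (Nat.card G : ℂ) ≠ 0 := by exact_mod_cast (Nat.card_pos (α := G)).ne'
      have h2 : ∑ g : G, (ψ : G → ℂ) g * conj ((fun _ : G => (1 : ℂ)) g) =
          (Nat.card G : ℂ) * (ψ : G → ℂ) 1 := by
        rw [Finset.sum_congr rfl (fun g _ => by rw [hconst g, map_one, mul_one]),
          Finset.sum_const, Finset.card_univ, nsmul_eq_mul, Nat.card_eq_fintype_card]
      rw [h2, ← mul_assoc, inv_mul_cancel₀ hG, one_mul] at h1
      exact IsIrrCharacter.apply_one_ne_zero ψ.2 h1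
    · -- contains the 2'-core
      intro n hn
      have hcop : (Nat.card (pPrimeCore 2 G)).Coprime 2 :=
        Cfsg.Agent.Lib.Helper76.pPrimeCore_coprime (G := G) 2
      have hpn : ¬ 2 ∣ Nat.card (pPrimeCore 2 G) := by
        intro hd
        have := Nat.Coprime.eq_one_of_dvd hcop.symm hd
        omega
      have hsb : SameBlock M ((χ₀ : IrrCharacter G) : G → ℂ) (ψ : G → ℂ) := hψB
      exact eq_apply_one_of_sameBlock_of_not_dvd (pPrimeCore 2 G) hM hpn hsb (fun _ _ => rfl) n hn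
    · -- contains `t`
      show (ψ : G → ℂ) t = (ψ : G → ℂ) 1
      rw [hc_eq, hd_eq, hψ]

end Cfsg.Agent.S4722
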