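import Cfsg.Statements.S0959
import Cfsg.Agent.S0911

set_option autoImplicit false
open Cfsg

namespace Cfsg.Agent.S0959

open Cfsg.Agent.Lib.Helper16

/-- Let B be a block of the finite group G with defect group D (relative to a maximal ideal M of the algebraic integers containing the prime p), and let P be a p-subgroup. Then there is an element g whose idempotent coefficient for B is a local integer outside the local ideal at M and which has a conjugate centralizing P, if and only if some conjugate of P is contained in D. -/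
theorem result {G : Type*} [Group G] [Finite G] (p : ℕ) [Fact p.Prime] (M : Ideal Cfsg.AlgInt) (hM : Cfsg.IsPModular p M) (B : Set (Cfsg.IrrCharacter G)) (hB : Cfsg.IsPBlock M B) (D : Subgroup G) (hD : Cfsg.IsDefectGroup p M B D) (P : Subgroup G) (hP : IsPGroup p P) : (∃ g : G, Cfsg.MemLocalRing M (Cfsg.blockCoeff B g) ∧ ¬ Cfsg.MemLocalIdeal M (Cfsg.blockCoeff B g) ∧ ∃ c : G, IsConj g c ∧ c ∈ Subgroup.centralizer (P : Set G)) ↔ ∃ x : G, P.map (MulAut.conj x).toMonoidHom ≤ D := by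
  obtain ⟨g₀, hg₀, P₀, rfl⟩ := hD
  constructor
  · rintro ⟨g, hgR, hgI, c, hgc, hcP⟩
    obtain ⟨x, Q, hQ⟩ := (Cfsg.Agent.S0911.result p M hM B hB g₀ hg₀ P₀ g).1 hgR hgI
    obtain ⟨a, rfl⟩ := isConj_iff.mp hgc
    -- `a⁻¹ P a ≤ C(g)`
    have h1 : P.map (MulAut.conj a⁻¹).toMonoidHom ≤ Subgroup.centralizer ({g} : Set G) := by
      rw [map_conj_le_iff]
      intro q hq
      have h2 := (Subgroup.mem_centralizer_iff.mp hcP) q hq
      rw [Subgroup.mem_centralizer_singleton_iff]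
      simp only [inv_inv]
      calc a⁻¹ * q * a * g = a⁻¹ * (q * (a * g * a⁻¹)) * a := by group
        _ = a⁻¹ * ((a * g * a⁻¹) * q) * a := by rw [h2]
        _ = g * (a⁻¹ * q * a) := by group
    obtain ⟨z, _, hz⟩ := exists_conj_sylow_map_ge (Subgroup.centralizer ({g} : Set G)) Q
      (P.map (MulAut.conj a⁻¹).toMonoidHom) (hP.map _) h1
    refine ⟨(z * x)⁻¹ * a⁻¹, ?_⟩
    rw [map_conj_le_iff]
    intro q hq
    have h3 : a⁻¹ * q * a ∈ P.map (MulAut.conj a⁻¹).toMonoidHom := ⟨q, hq, by simp⟩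
    have h4 := hz h3
    rw [mem_map_conj_iff] at h4
    have h5 := hQ h4
    rw [mem_map_conj_iff] at h5
    have : (z * x)⁻¹ * a⁻¹ * q * ((z * x)⁻¹ * a⁻¹)⁻¹ = x⁻¹ * (z⁻¹ * (a⁻¹ * q * a) * z) * x := by
      group
    rw [this]
    exact h5
  · rintro ⟨x, hx⟩
    refine ⟨g₀, hg₀.1, hg₀.2.1, x⁻¹ * g₀ * x, isConj_iff.mpr ⟨x⁻¹, by simp⟩, ?_⟩
    rw [Subgroup.mem_centralizer_iff]
    intro q hq
    have h1 : x * q * x⁻¹ ∈ (P₀ : Subgroup (Subgroup.centralizer ({g₀} : Set G))).map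
        (Subgroup.centralizer ({g₀} : Set G)).subtype := hx ⟨q, hq, rfl⟩
    have h2 : x * q * x⁻¹ ∈ Subgroup.centralizer ({g₀} : Set G) :=
      Subgroup.map_subtype_le _ h1
    have h3 := Subgroup.mem_centralizer_singleton_iff.mp h2
    calc q * (x⁻¹ * g₀ * x) = x⁻¹ * (x * q * x⁻¹ * g₀) * x := by group
      _ = x⁻¹ * (g₀ * (x * q * x⁻¹)) * x := by rw [h3]
      _ = x⁻¹ * g₀ * x * q := by group

end Cfsg.Agent.S0959
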