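import Cfsg.Statements.S4438
import Cfsg.Agent.Lib.Helper82.KnorrGen
import Cfsg.Agent.S0964

set_option autoImplicit false
open Cfsg

namespace Cfsg.Agent.S4438

open Cfsg.Agent.Lib.Helper82 Cfsg.Agent.Lib.Helper16

/-- Let N be a normal subgroup of the finite group G, b a block of N with defect group Q, and B a block of G covering b (some member of B has a constituent in b on restriction to N), all relative to a maximal ideal M of the algebraic integers containing p. Then B has a defect group P with P ⊓ N = Q. -/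
theorem result {G : Type*} [Group G] [Fintype G] (p : ℕ) [Fact p.Prime] (M : Ideal Cfsg.AlgInt) (hM : Cfsg.IsPModular p M) (N : Subgroup G) [hN : N.Normal] [Fintype N] (b : Set (Cfsg.IrrCharacter N)) (hb : Cfsg.IsPBlock M b) (Q : Subgroup G) (hQN : Q ≤ N) (hQ : Cfsg.IsDefectGroup p M b (Q.subgroupOf N)) (B : Set (Cfsg.IrrCharacter G)) (hB : Cfsg.IsPBlock M B) (hcov : (∃ χ ∈ B, ∃ θ ∈ b, Cfsg.classInner (fun n : N => (χ : G → ℂ) n) (θ : N → ℂ) ≠ 0)) : ∃ P : Subgroup G, Cfsg.IsDefectGroup p M B P ∧ P ⊓ N = Q := by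
  classical
  have hMp := isPModular_isPrime hM
  obtain ⟨c, P', hc, hcovc, hP', -, hdef⟩ := knorr_general N hM hB
  obtain ⟨χ, hχ, θ, hθ, hne⟩ := hcov
  obtain ⟨χ', hχ', ψ, hψ, hne'⟩ := hcovc
  obtain ⟨g, θ', hθ', hconj⟩ :=
    Cfsg.Agent.S0964.result p M hM N B hB b hb χ hχ θ hθ hne χ' hχ' ψ hne'
  have e1 : ψ = conjIrrN N g θ' := Subtype.ext (funext hconj)
  have hbc : b = conjBlockN N g c := by
    have h1 : θ' ∈ conjBlockN N g c := by
      rw [mem_conjBlockN, ← e1]
      exact hψ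
    rw [IsPBlock_eq_blockOf hb hθ', IsPBlock_eq_blockOf (isPBlock_conjBlockN N g hc) h1]
  have hdef' := isDefectGroup_conjBlockN N g hdef
  rw [← hbc] at hdef'
  obtain ⟨n, hn⟩ := Cfsg.Agent.S4434.defectGroups_conj p M hM b hb _ _ hdef' hQ
  refine ⟨(P'.map (MulAut.conj g).toMonoidHom).map (MulAut.conj (n : G)).toMonoidHom,
    Cfsg.Agent.S4434.isDefectGroup_conj p M B _
      (Cfsg.Agent.S4434.isDefectGroup_conj p M B P' hP' g) n, ?_⟩
  ext x
  rw [Subgroup.mem_inf]
  constructor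
  · rintro ⟨⟨r, hr, rfl⟩, hxN⟩
    have hrN : r ∈ N := by
      have := hN.conj_mem _ hxN (n : G)⁻¹
      simpa [MulAut.conj_apply, mul_assoc] using this
    have h2 : (⟨(MulAut.conj (n : G)).toMonoidHom r, hxN⟩ : N) ∈ Q.subgroupOf N := by
      rw [hn]
      refine ⟨⟨r, hrN⟩, ?_, ?_⟩
      · rw [SetLike.mem_coe, Subgroup.mem_subgroupOf]
        exact ⟨hr, hrN⟩
      · apply Subtype.ext
        simp [MulAut.conj_apply]
    exact h2
  · intro hx
    have hxN := hQN hx
    have h2 : (⟨x, hxN⟩ : N) ∈ Q.subgroupOf N := hx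
    rw [hn] at h2
    obtain ⟨r, hr, hrx⟩ := h2
    rw [SetLike.mem_coe, Subgroup.mem_subgroupOf] at hr
    refine ⟨⟨(r : G), hr.1, ?_⟩, hxN⟩
    have := congrArg Subtype.val hrx
    simpa [MulAut.conj_apply] using this

end Cfsg.Agent.S4438
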