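import Cfsg.Statements.S4717
import Cfsg.Agent.Lib.Helper78.BrauerLocalBlock
import Cfsg.Agent.Lib.Helper78.DefectOrder
import Cfsg.Agent.Lib.Helper78.SubsectionNorm
import Cfsg.Agent.S0911
import Cfsg.Agent.S0913
import Cfsg.Agent.S0917
import Cfsg.Agent.S0919
import Cfsg.Agent.S0936

set_option autoImplicit false
open Cfsg

namespace Cfsg.Agent.S4717

open Cfsg.Agent.Lib.Helper16

/-- The cyclic group generated by a `p`-element is a `p`-group. -/
theorem isPGroup_zpowers {G : Type*} [Group G] (p : ℕ) [Fact p.Prime] (y : G)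
    (hy : ∃ k : ℕ, orderOf y = p ^ k) : IsPGroup p (Subgroup.zpowers y) := by
  obtain ⟨k, hk⟩ := hy
  apply IsPGroup.of_card (n := k)
  rw [Nat.card_zpowers, hk]

theorem zpowers_le_centralizer {G : Type*} [Group G] (y : G) :
    Subgroup.zpowers y ≤ Subgroup.centralizer ({y} : Set G) := by
  rw [Subgroup.zpowers_le]
  exact Subgroup.mem_centralizer_singleton_iff.mpr rfl

theorem centralizer_zpowers_le {G : Type*} [Group G] (y : G) :
    Subgroup.centralizer (Subgroup.zpowers y : Set G) ≤ Subgroup.centralizer ({y} : Set G) := by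
  apply Subgroup.centralizer_le
  intro x hx
  rw [Set.mem_singleton_iff] at hx
  rw [hx]
  exact Subgroup.mem_zpowers y

theorem centralizer_le_normalizer_zpowers {G : Type*} [Group G] (y : G) :
    Subgroup.centralizer ({y} : Set G) ≤ Subgroup.normalizer (Subgroup.zpowers y : Set G) := by
  intro g hg
  apply Subgroup.centralizer_le_normalizer
  rw [Cfsg.Agent.Lib.Helper78.mem_centralizer_zpowers_iff]
  have := Subgroup.mem_centralizer_singleton_iff.mp hg
  exact this.symm

/-- The defect of a block is at most the defect of the block it induces. -/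
theorem blockDefect_le_of_isInducedBlock {G : Type*} [Group G] [Finite G] (p : ℕ) [Fact p.Prime]
    (M : Ideal Cfsg.AlgInt) (hM : Cfsg.IsPModular p M) (H : Subgroup G)
    (b : Set (Cfsg.IrrCharacter H)) (B : Set (Cfsg.IrrCharacter G))
    (hind : Cfsg.IsInducedBlock M H b B) : Cfsg.blockDefect p b ≤ Cfsg.blockDefect p B := by
  classical
  have := Fintype.ofFinite G
  have : Fintype H := Fintype.ofFinite H
  have hMp := isPModular_isPrime hM
  obtain ⟨gb, hgb⟩ := exists_isDefectClass (M := M) hind.1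
  obtain ⟨Pb⟩ := (Sylow.nonempty : Nonempty (Sylow p (Subgroup.centralizer ({gb} : Set H))))
  have hDb : IsDefectGroup p M b ((Pb : Subgroup (Subgroup.centralizer ({gb} : Set H))).map
      (Subgroup.centralizer ({gb} : Set H)).subtype) := ⟨gb, hgb, Pb, rfl⟩
  obtain ⟨E, hE, hle⟩ := Cfsg.Agent.S0917.result p M hM H b hind.1 B hind.2.1 hind _ hDb
  have h1 := Cfsg.Agent.Lib.Helper78.card_defectGroup hM hind.1 hDb
  have h2 := Cfsg.Agent.Lib.Helper78.card_defectGroup hM hind.2.1 hE
  have h3 := Subgroup.card_le_of_le hle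
  rw [Subgroup.card_map_of_injective (Subgroup.subtype_injective _), h1, h2] at h3
  exact (Nat.pow_le_pow_iff_right (Fact.out : p.Prime).one_lt).mp h3

/-- Part one: from `G` to the centralizers of `p`-elements. -/
theorem part_one {G : Type*} [Group G] [Finite G] (p : ℕ) [Fact p.Prime] (M : Ideal Cfsg.AlgInt)
    (hM : Cfsg.IsPModular p M) (r : ℕ)
    (hG : ∀ B' : Set (Cfsg.IrrCharacter G), Cfsg.IsPBlock M B' →
      B' ≠ Cfsg.principalBlock M G → Cfsg.blockDefect p B' < r)
    (y : G) (hy : ∃ k : ℕ, orderOf y = p ^ k)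
    (B' : Set (Cfsg.IrrCharacter ↥(Subgroup.centralizer ({y} : Set G))))
    (hB' : Cfsg.IsPBlock M B')
    (hne : B' ≠ Cfsg.principalBlock M ↥(Subgroup.centralizer ({y} : Set G))) :
    Cfsg.blockDefect p B' < r := by
  have hdef := Cfsg.Agent.S0919.result p M hM (Subgroup.zpowers y)
    (Subgroup.centralizer ({y} : Set G)) (isPGroup_zpowers p y hy) (zpowers_le_centralizer y)
    (centralizer_zpowers_le y) (centralizer_le_normalizer_zpowers y) B' hB'
  obtain ⟨B, hind⟩ := hdef
  have hBne : B ≠ Cfsg.principalBlock M G := by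
    intro h
    rw [h] at hind
    exact hne ((Cfsg.Agent.S0936.result p M hM _ B' ⟨_, hind⟩).mp hind)
  exact lt_of_le_of_lt (blockDefect_le_of_isInducedBlock p M hM _ B' B hind)
    (hG B hind.2.1 hBne)

/-- A nontrivial Sylow `p`-subgroup has a central element of order `p`. -/
theorem exists_center_orderOf_eq {K : Type*} [Group K] [Finite K] (p : ℕ) [Fact p.Prime]
    (hK : IsPGroup p K) (hnt : Nontrivial K) :
    ∃ z : K, orderOf z = p ∧ ∀ w : K, z * w = w * z := by
  have hcnt : Nontrivial (Subgroup.center K) := hK.center_nontrivial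
  have hZp : IsPGroup p (Subgroup.center K) := hK.to_subgroup _
  obtain ⟨n, hn⟩ := IsPGroup.iff_card.mp hZp
  have h1 : 1 < Nat.card (Subgroup.center K) := Finite.one_lt_card
  have hn0 : n ≠ 0 := by
    rintro rfl
    rw [hn] at h1
    simp at h1
  have hpdvd : p ∣ Nat.card (Subgroup.center K) := by
    rw [hn]
    exact dvd_pow_self p hn0
  obtain ⟨zc, hzc⟩ := exists_prime_orderOf_dvd_card' p hpdvd
  refine ⟨(zc : K), ?_, fun w => ?_⟩
  · rw [Subgroup.orderOf_coe, hzc]
  · exact (Subgroup.mem_center_iff.mp zc.2 w).symm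

/-- Part two: from the centralizers of elements of order `p` to `G`. -/
theorem part_two {G : Type*} [Group G] [Finite G] (p : ℕ) [Fact p.Prime] (M : Ideal Cfsg.AlgInt)
    (hM : Cfsg.IsPModular p M) (r : ℕ) (hr : 0 < r)
    (hC : ∀ y : G, orderOf y = p →
      ∀ B' : Set (Cfsg.IrrCharacter ↥(Subgroup.centralizer ({y} : Set G))),
        Cfsg.IsPBlock M B' →
        B' ≠ Cfsg.principalBlock M ↥(Subgroup.centralizer ({y} : Set G)) →
        Cfsg.blockDefect p B' < r)
    (B : Set (Cfsg.IrrCharacter G)) (hB : Cfsg.IsPBlock M B)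
    (hne : B ≠ Cfsg.principalBlock M G) : Cfsg.blockDefect p B < r := by
  classical
  have := Fintype.ofFinite G
  have hMp := isPModular_isPrime hM
  by_contra hcon
  push Not at hcon
  obtain ⟨y₀, hy₀⟩ := exists_isDefectClass (M := M) hB
  obtain ⟨P₀⟩ := (Sylow.nonempty : Nonempty (Sylow p (Subgroup.centralizer ({y₀} : Set G))))
  have hD : IsDefectGroup p M B ((P₀ : Subgroup (Subgroup.centralizer ({y₀} : Set G))).map
      (Subgroup.centralizer ({y₀} : Set G)).subtype) := ⟨y₀, hy₀, P₀, rfl⟩
  have hcardD := Cfsg.Agent.Lib.Helper78.card_defectGroup hM hB hD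
  have hcardP := hcardD
  rw [Subgroup.card_map_of_injective (Subgroup.subtype_injective _)] at hcardP
  have hdpos : 0 < blockDefect p B := lt_of_lt_of_le hr hcon
  have hnt : Nontrivial (P₀ : Subgroup (Subgroup.centralizer ({y₀} : Set G))) := by
    rw [← Finite.one_lt_card_iff_nontrivial, hcardP]
    exact Nat.one_lt_pow hdpos.ne' (Fact.out : p.Prime).one_lt
  obtain ⟨zc, hzc, hzcomm⟩ := exists_center_orderOf_eq p P₀.2 hnt
  -- the element `z` of `G`
  obtain ⟨z, hz⟩ : ∃ z : G, z = ((zc : Subgroup.centralizer ({y₀} : Set G)) : G) := ⟨_, rfl⟩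
  have hzord : orderOf z = p := by
    rw [hz, Subgroup.orderOf_coe, Subgroup.orderOf_coe, hzc]
  have hzy : z * y₀ = y₀ * z := by
    have := Subgroup.mem_centralizer_singleton_iff.mp (zc : Subgroup.centralizer ({y₀} : Set G)).2
    rw [hz]
    exact this
  -- `D ≤ C_G(z)`
  have hDz : (P₀ : Subgroup (Subgroup.centralizer ({y₀} : Set G))).map
      (Subgroup.centralizer ({y₀} : Set G)).subtype ≤ Subgroup.centralizer ({z} : Set G) := by
    rintro _ ⟨w, hw, rfl⟩
    rw [Subgroup.mem_centralizer_singleton_iff]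
    have h1 := hzcomm ⟨w, hw⟩
    have h2 := congrArg (fun t : (P₀ : Subgroup (Subgroup.centralizer ({y₀} : Set G))) =>
      ((t : Subgroup.centralizer ({y₀} : Set G)) : G)) h1
    simp only [Subgroup.coe_mul] at h2
    rw [hz]
    exact h2.symm
  have hDy : (P₀ : Subgroup (Subgroup.centralizer ({y₀} : Set G))).map
      (Subgroup.centralizer ({y₀} : Set G)).subtype ≤ Subgroup.centralizer ({y₀} : Set G) :=
    Subgroup.map_subtype_le _
  have hy₀H : y₀ ∈ Subgroup.centralizer ({z} : Set G) := by
    rw [Subgroup.mem_centralizer_singleton_iff]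
    exact hzy.symm
  have hy₀P : y₀ ∈ Subgroup.centralizer (Subgroup.zpowers z : Set G) := by
    rw [Cfsg.Agent.Lib.Helper78.mem_centralizer_zpowers_iff]
    exact hzy
  have : Fintype (Subgroup.centralizer ({z} : Set G)) := Fintype.ofFinite _
  obtain ⟨ξ, hind, hunit⟩ := Cfsg.Agent.Lib.Helper78.exists_isInducedBlock_coeff_unit hM
    (Subgroup.zpowers z) (Subgroup.centralizer ({z} : Set G))
    (isPGroup_zpowers p z ⟨1, by rw [hzord, pow_one]⟩) (zpowers_le_centralizer z)
    (centralizer_zpowers_le z) (centralizer_le_normalizer_zpowers z) hB y₀ hy₀P hy₀.2.1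
  obtain ⟨b, hb⟩ : ∃ b : Set (IrrCharacter (Subgroup.centralizer ({z} : Set G))),
    b = blockOf M (ξ : Subgroup.centralizer ({z} : Set G) → ℂ) := ⟨_, rfl⟩
  rw [← hb] at hind hunit
  have hbne : b ≠ Cfsg.principalBlock M ↥(Subgroup.centralizer ({z} : Set G)) := by
    intro hbp
    have h1 := (Cfsg.Agent.S0936.result p M hM _ b ⟨_, hind⟩).mpr hbp
    exact hne (Cfsg.Agent.Lib.Helper78.isInducedBlock_unique hind h1)
  have hlt := hC z hzord b hind.1 hbne
  -- min-max in `C_G(z)`
  obtain ⟨gb, hgb⟩ := exists_isDefectClass (M := M) hind.1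
  obtain ⟨Db⟩ := (Sylow.nonempty :
    Nonempty (Sylow p (Subgroup.centralizer ({gb} : Set (Subgroup.centralizer ({z} : Set G))))))
  obtain ⟨h, hh⟩ : ∃ h : Subgroup.centralizer ({z} : Set G), h = ⟨y₀, centralizer_zpowers_le z hy₀P⟩ :=
    ⟨_, rfl⟩
  rw [← hh] at hunit
  obtain ⟨x, Q, hQ⟩ := (Cfsg.Agent.S0911.result p M hM b hind.1 gb hgb Db h).1
    (Cfsg.Agent.S0913.result p M hM b hind.1 h) hunit
  have hDbg : IsDefectGroup p M b ((Db : Subgroup (Subgroup.centralizer ({gb} :
      Set (Subgroup.centralizer ({z} : Set G))))).map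
      (Subgroup.centralizer ({gb} : Set (Subgroup.centralizer ({z} : Set G)))).subtype) :=
    ⟨gb, hgb, Db, rfl⟩
  have hc1 := Cfsg.Agent.Lib.Helper78.card_defectGroup hM hind.1 hDbg
  have hc2 := Subgroup.card_le_of_le hQ
  rw [card_map_conj, hc1, card_sylow_map] at hc2
  have hc3 := (Nat.pow_le_pow_iff_right (Fact.out : p.Prime).one_lt).mp hc2
  -- `D` embeds in `C_H(h)`
  have hc4 : p ^ blockDefect p B ∣
      Nat.card (Subgroup.centralizer ({h} : Set (Subgroup.centralizer ({z} : Set G)))) := by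
    have e1 : Nat.card (Subgroup.centralizer ({h} : Set (Subgroup.centralizer ({z} : Set G)))) =
        Nat.card ((Subgroup.centralizer ({h} : Set (Subgroup.centralizer ({z} : Set G)))).map
          (Subgroup.centralizer ({z} : Set G)).subtype) :=
      (Subgroup.card_map_of_injective (Subgroup.subtype_injective _)).symm
    rw [e1, map_subtype_centralizer_singleton, ← hcardD]
    apply Subgroup.card_dvd_of_le
    rw [hh]
    exact le_inf hDy hDz
  have hc5 := (Nat.Prime.pow_dvd_iff_le_factorization (Fact.out : p.Prime)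
    (Nat.card_pos.ne')).mp hc4
  omega

/-- Let p be a prime, M a maximal ideal of the algebraic integers containing p, and r a natural number; say that a finite group X has deficiency class r when X has no non-principal p-block of defect ≥ r. If G has deficiency class r then so does the centralizer of every p-element of G; conversely, if r > 0 and the centralizer of every element of order p has deficiency class r, then G has deficiency class r. -/
theorem result {G : Type*} [Group G] [Finite G] (p : ℕ) [Fact p.Prime] (M : Ideal Cfsg.AlgInt) (hM : Cfsg.IsPModular p M) (r : ℕ) : ((∀ B' : Set (Cfsg.IrrCharacter G), Cfsg.IsPBlock M B' → B' ≠ Cfsg.principalBlock M G → Cfsg.blockDefect p B' < r) → ∀ y : G, (∃ k : ℕ, orderOf y = p ^ k) → (∀ B' : Set (Cfsg.IrrCharacter ↥(Subgroup.centralizer ({y} : Set G))), Cfsg.IsPBlock M B' → B' ≠ Cfsg.principalBlock M ↥(Subgroup.centralizer ({y} : Set G)) → Cfsg.blockDefect p B' < r)) ∧ (0 < r → (∀ y : G, orderOf y = p → (∀ B' : Set (Cfsg.IrrCharacter ↥(Subgroup.centralizer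 ({y} : Set G))), Cfsg.IsPBlock M B' → B' ≠ Cfsg.principalBlock M ↥(Subgroup.centralizer ({y} : Set G)) → Cfsg.blockDefect p B' < r)) → (∀ B' : Set (Cfsg.IrrCharacter G), Cfsg.IsPBlock M B' → B' ≠ Cfsg.principalBlock M G → Cfsg.blockDefect p B' < r)) := by
  exact ⟨fun hG y hy B' hB' hne => part_one p M hM r hG y hy B' hB' hne,
    fun hr hC B hB hne => part_two p M hM r hr hC B hB hne⟩

end Cfsg.Agent.S4717
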