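import Cfsg.Statements.S4718
import Cfsg.Agent.Lib.Helper82.Landau
import Cfsg.Agent.S4494

set_option autoImplicit false
universe u
open Cfsg

namespace Cfsg.Agent.S4718

open Cfsg.Agent.Lib.Helper82 Cfsg.Agent.Lib.Helper16 Cfsg.Agent.Lib.Helper78

/-- Let p be a prime and a a natural number. There is a bound N such that every finite group whose Sylow p-subgroups have order p^a and whose only p-block (relative to a maximal ideal of the algebraic integers containing p) is the principal block has order at most N. -/
theorem result (p : ℕ) [Fact p.Prime] (a : ℕ) : ∃ N : ℕ, ∀ (G : Type u) [Group G] [Finite G] (M : Ideal Cfsg.AlgInt), Cfsg.IsPModular p M → (Nat.card G).factorization p = a → (∀ B : Set (Cfsg.IrrCharacter G), Cfsg.IsPBlock M B → B = Cfsg.principalBlock M G) → Nat.card G ≤ N := by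
  obtain ⟨N, hN⟩ := landau.{u} (p ^ (2 * a) + 4)
  refine ⟨N, ?_⟩
  intro G _ _ M hM ha hone
  apply hN G
  have : Fintype G := Fintype.ofFinite G
  have hMp := isPModular_isPrime hM
  have hB₀ : IsPBlock M (principalBlock M G) := ⟨⟨fun _ => 1, isIrrCharacter_one⟩, rfl⟩
  have hall : ∀ χ : IrrCharacter G, χ ∈ principalBlock M G := by
    intro χ
    rw [← hone _ (isPBlock_blockOf χ)]
    exact self_mem_blockOf hMp.ne_top χ
  have huniv : principalBlock M G = Set.univ := Set.eq_univ_of_forall hall
  have h494 := Cfsg.Agent.S4494.result p M hM (principalBlock M G) hB₀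
  have hcard : Nat.card ↥(principalBlock M G) = Nat.card (ConjClasses G) := by
    rw [huniv, ← card_irrCharacter]
    exact Nat.card_congr (Equiv.Set.univ _)
  rw [hcard] at h494
  have hd : blockDefect p (principalBlock M G) ≤ a := by
    unfold blockDefect
    rw [ha]
    exact Nat.sub_le _ _
  have hpow : p ^ (2 * blockDefect p (principalBlock M G)) ≤ p ^ (2 * a) :=
    Nat.pow_le_pow_right (Fact.out : p.Prime).pos (by omega)
  omega

end Cfsg.Agent.S4718
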