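import Cfsg.Statements.S4433
import Cfsg.Agent.Lib.Helper82.BlockInflation
import Cfsg.Agent.Lib.Helper16.DefectClass
import Cfsg.Agent.Lib.Helper16.Induced
import Cfsg.Agent.S0911
import Cfsg.Agent.S0916

set_option autoImplicit false
open Cfsg

namespace Cfsg.Agent.S4433

open Cfsg.Agent.Lib.Helper16 Cfsg.Agent.Lib.Helper77 Cfsg.Agent.Lib.Helper82

section Aux

variable {G : Type*} [Group G]

theorem centralizer_conj_eq (g x : G) :
    Subgroup.centralizer ({x * g * x⁻¹} : Set G) =
      (Subgroup.centralizer ({g} : Set G)).map (MulAut.conj x).toMonoidHom := by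
  ext y
  rw [mem_map_conj_iff, Subgroup.mem_centralizer_singleton_iff,
    Subgroup.mem_centralizer_singleton_iff]
  constructor
  · intro h
    calc x⁻¹ * y * x * g = x⁻¹ * (y * (x * g * x⁻¹)) * x := by group
      _ = x⁻¹ * ((x * g * x⁻¹) * y) * x := by rw [h]
      _ = g * (x⁻¹ * y * x) := by group
  · intro h
    calc y * (x * g * x⁻¹) = x * ((x⁻¹ * y * x) * g) * x⁻¹ := by group
      _ = x * (g * (x⁻¹ * y * x)) * x⁻¹ := by rw [h]
      _ = x * g * x⁻¹ * y := by group

/-- A conjugate of a defect group is a defect group. -/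
theorem isDefectGroup_conj [Finite G] (p : ℕ) [Fact p.Prime] (M : Ideal AlgInt)
    (B : Set (IrrCharacter G)) (P : Subgroup G) (hP : IsDefectGroup p M B P) (x : G) :
    IsDefectGroup p M B (P.map (MulAut.conj x).toMonoidHom) := by
  classical
  haveI := Fintype.ofFinite G
  obtain ⟨g, hg, P₀, rfl⟩ := hP
  refine ⟨x * g * x⁻¹, isDefectClass_conj hg x, ?_⟩
  have hcardP : Nat.card ((P₀ : Subgroup (Subgroup.centralizer ({g} : Set G))).map
      (Subgroup.centralizer ({g} : Set G)).subtype) =
      p ^ (Nat.card (Subgroup.centralizer ({g} : Set G))).factorization p := by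
    rw [Subgroup.card_map_of_injective (Subgroup.subtype_injective _), Sylow.card_eq_multiplicity]
  have hcardC : Nat.card (Subgroup.centralizer ({x * g * x⁻¹} : Set G)) =
      Nat.card (Subgroup.centralizer ({g} : Set G)) := by
    rw [centralizer_conj_eq, Subgroup.card_map_of_injective (MulAut.conj x).injective]
  have h := (Cfsg.Agent.S0916.exists_sylow_map_eq_iff p
    (Subgroup.centralizer ({x * g * x⁻¹} : Set G))
    (((P₀ : Subgroup (Subgroup.centralizer ({g} : Set G))).map
      (Subgroup.centralizer ({g} : Set G)).subtype).map (MulAut.conj x).toMonoidHom)).mpr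
    ⟨by
      rw [centralizer_conj_eq]
      exact Subgroup.map_mono (Subgroup.map_subtype_le _), by
      rw [Subgroup.card_map_of_injective (MulAut.conj x).injective, hcardP, hcardC]⟩
  obtain ⟨S, hS⟩ := h
  exact ⟨S, hS.symm⟩

end Aux

/-- Let N be a normal subgroup of the finite group G and write Ḡ = G/N; fix a maximal ideal M of the algebraic integers containing p. Let B̄ be a block of Ḡ contained in the block B of G, in the sense that the inflation of every member of B̄ lies in B, and let D̄ be a defect group of B̄. Then B has a defect group P whose image in Ḡ contains D̄. -/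
theorem result {G : Type*} [Group G] [Finite G] (p : ℕ) [Fact p.Prime] (M : Ideal Cfsg.AlgInt) (hM : Cfsg.IsPModular p M) (N : Subgroup G) [N.Normal] (Bbar : Set (Cfsg.IrrCharacter (G ⧸ N))) (hBbar : Cfsg.IsPBlock M Bbar) (B : Set (Cfsg.IrrCharacter G)) (hB : Cfsg.IsPBlock M B) (hsub : ∀ χ ∈ Bbar, ∀ ψ : Cfsg.IrrCharacter G, (ψ : G → ℂ) = (χ : G ⧸ N → ℂ) ∘ QuotientGroup.mk → ψ ∈ B) (Dbar : Subgroup (G ⧸ N)) (hDbar : Cfsg.IsDefectGroup p M Bbar Dbar) : ∃ P : Subgroup G, Cfsg.IsDefectGroup p M B P ∧ Dbar ≤ P.map (QuotientGroup.mk' N) := by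
  classical
  haveI := Fintype.ofFinite G
  haveI hMp := isPModular_isPrime hM
  have hp : p.Prime := Fact.out
  obtain ⟨χb, hχb⟩ := IsPBlock_nonempty hMp.ne_top hBbar
  have hψB : inflate N χb ∈ B := hsub χb hχb (inflate N χb) rfl
  obtain ⟨g, hg⟩ := exists_isDefectClass hB
  obtain ⟨h, hh, Q₀, hQ₀⟩ := hDbar
  -- the central character at `g`
  have hω := hg.2.2 (inflate N χb) hψB
  have hcoe : (inflate N χb : G → ℂ) = (χb : G ⧸ N → ℂ) ∘ (QuotientGroup.mk : G → G ⧸ N) := rfl
  rw [hcoe, centralChar_comp_mk] at hω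
  set C := Subgroup.centralizer ({g} : Set G) with hC
  set Cbar := Subgroup.centralizer ({(g : G ⧸ N)} : Set (G ⧸ N)) with hCbar
  set H := Cbar.comap (QuotientGroup.mk' N) with hH
  set k := C.relIndex H with hk
  have hkp : ¬ p ∣ k := by
    intro hpk
    apply hω
    apply memLocalIdeal_mul_right ((memLocalIdeal_natCast_iff hM k).mpr hpk)
    exact memLocalRing_of_isIntegral hMp.ne_top
      (Cfsg.Agent.Lib.Helper79.isIntegral_centralChar χb _)
  have hωbar : ¬ MemLocalIdeal M (centralChar (χb : G ⧸ N → ℂ) (g : G ⧸ N)) := by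
    intro h'
    apply hω
    exact memLocalIdeal_mul_left (memLocalRing_natCast hMp.ne_top k) h'
  -- min-max in the quotient
  obtain ⟨xbar, Q, hxQ⟩ :=
    (Cfsg.Agent.S0911.result p M hM Bbar hBbar h hh Q₀ (g : G ⧸ N)).2 ⟨χb, hχb, hωbar⟩
  rw [← hQ₀] at hxQ
  -- the defect group of `B`
  let P₀ : Sylow p C := default
  set P := (P₀ : Subgroup C).map C.subtype with hP
  have hPdef : IsDefectGroup p M B P := ⟨g, hg, P₀, rfl⟩
  have hPC : P ≤ C := Subgroup.map_subtype_le _
  have hCH : C ≤ H := centralizer_le_comap N g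
  have hNH : N ≤ H := by
    intro n hn
    rw [hH, Subgroup.mem_comap]
    have : (QuotientGroup.mk' N) n = 1 := (QuotientGroup.eq_one_iff n).mpr hn
    rw [this]
    exact one_mem _
  have hHmap : H.map (QuotientGroup.mk' N) = Cbar :=
    Subgroup.map_comap_eq_self_of_surjective (QuotientGroup.mk'_surjective N) Cbar
  set Pbar := P.map (QuotientGroup.mk' N) with hPbar
  have hPbarC : Pbar ≤ Cbar := by
    rw [← hHmap]
    exact Subgroup.map_mono (hPC.trans hCH)
  have hPpg : IsPGroup p P := P₀.isPGroup'.map _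
  have hPbarpg : IsPGroup p Pbar := hPpg.map _
  -- index computations
  have hrel1 : P.relIndex C = (P₀ : Subgroup C).index := by
    unfold Subgroup.relIndex
    congr 1
    exact Subgroup.comap_map_eq_self_of_injective (Subgroup.subtype_injective C) _
  have hrelPH : ¬ p ∣ P.relIndex H := by
    rw [← Subgroup.relIndex_mul_relIndex P C H hPC hCH, hrel1]
    intro hdvd
    rcases hp.dvd_mul.mp hdvd with h1 | h1
    · exact P₀.not_dvd_index h1
    · exact hkp h1
  have hrelbar : ¬ p ∣ Pbar.relIndex Cbar := by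
    rw [← hHmap, hPbar, Subgroup.relIndex_map_map, QuotientGroup.ker_mk']
    have hHN : H ⊔ N = H := sup_eq_left.mpr hNH
    rw [hHN]
    intro hdvd
    apply hrelPH
    rw [← Subgroup.relIndex_mul_relIndex P (P ⊔ N) H le_sup_left (sup_le (hPC.trans hCH) hNH)]
    exact dvd_mul_of_dvd_right hdvd _
  -- cardinality of the image
  have hcardPbar : Nat.card Pbar = p ^ (Nat.card Cbar).factorization p := by
    have hpg' : IsPGroup p (Pbar.subgroupOf Cbar) := hPbarpg.comap_subtype
    let S' : Sylow p Cbar := hpg'.toSylow hrelbar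
    have h1 : Nat.card (S' : Subgroup Cbar) = p ^ (Nat.card Cbar).factorization p :=
      Sylow.card_eq_multiplicity S'
    have h2 : Nat.card (Pbar.subgroupOf Cbar) = Nat.card Pbar :=
      Nat.card_congr (Subgroup.subgroupOfEquivOfLe hPbarC).toEquiv
    rw [← h2]
    exact h1
  have hcardQ : Nat.card ((Q : Subgroup Cbar).map Cbar.subtype) =
      p ^ (Nat.card Cbar).factorization p := by
    rw [Subgroup.card_map_of_injective (Subgroup.subtype_injective _), Sylow.card_eq_multiplicity]
  obtain ⟨z, hzC, hz⟩ := Cfsg.Agent.S0916.exists_conj_of_card_eq p Cbar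
    ((Q : Subgroup Cbar).map Cbar.subtype) Pbar (Subgroup.map_subtype_le _) hPbarC hcardQ hcardPbar
  -- lift `z * xbar`
  obtain ⟨w, hw⟩ := QuotientGroup.mk'_surjective N (z * xbar)
  refine ⟨P.map (MulAut.conj w⁻¹).toMonoidHom, isDefectGroup_conj p M B P hPdef w⁻¹, ?_⟩
  intro y hy
  have h1 : xbar * y * xbar⁻¹ ∈ (Q : Subgroup Cbar).map Cbar.subtype := by
    apply hxQ
    exact ⟨y, hy, by simp⟩
  have h2 := hz _ h1
  obtain ⟨u, huP, hu⟩ := h2
  refine ⟨w⁻¹ * u * w, ⟨u, huP, by simp⟩, ?_⟩
  rw [map_mul, map_mul, map_inv, hw, hu]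
  group

end Cfsg.Agent.S4433
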