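import Cfsg.Statements.S5345
-- import your own Cfsg.Agent.* helpers here

set_option autoImplicit false
open Cfsg

namespace Cfsg.Agent.S5345

/-- involutions whose product squares to one commute -/
theorem comm_of_sq {G : Type*} [Group G] {d e : G} (hd : d * d = 1) (he : e * e = 1)
    (h : (d * e) ^ 2 = 1) : d * e = e * d := by
  have h1 : d * e * (d * e) = 1 := by rw [← pow_two]; exact h
  calc d * e = d * e * (d * e) * (e * d) := by
        have : d * e * (d * e) * (e * d) = d * e * (d * (e * e) * d) := by group
        rw [this, he, mul_one, hd, mul_one]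
    _ = e * d := by rw [h1, one_mul]

/-- in a set of 3-transpositions, two members lying in a common 2-subgroup commute -/
theorem comm_of_mem_two_group {G : Type*} [Group G] {D : Set G} (hD : Cfsg.IsThreeTranspositionSet D)
    (H : Subgroup G) (hH : IsPGroup 2 H) {d e : G} (hd : d ∈ D) (he : e ∈ D) (hdH : d ∈ H) (heH : e ∈ H) :
    d * e = e * d := by
  have sq_one : ∀ x ∈ D, x * x = 1 := by
    intro x hx
    have := pow_orderOf_eq_one x
    rw [hD.1 x hx, pow_two] at this
    exact this
  apply comm_of_sq (sq_one d hd) (sq_one e he)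
  rcases hD.2 d hd e he with h | h
  · exact h
  · obtain ⟨k, hk⟩ := hH ⟨d * e, H.mul_mem hdH heH⟩
    have hk' : (d * e) ^ (2 ^ k) = 1 := by
      have := congrArg Subtype.val hk
      simpa using this
    have h1 : orderOf (d * e) ∣ 2 ^ k := orderOf_dvd_of_pow_eq_one hk'
    have h2 : orderOf (d * e) ∣ 3 := orderOf_dvd_of_pow_eq_one h
    have hcop : Nat.Coprime (2 ^ k) 3 := Nat.Coprime.pow_left _ (by norm_num)
    have : orderOf (d * e) ∣ 1 := by
      have := Nat.dvd_gcd h1 h2
      rwa [hcop] at this
    rw [orderOf_eq_one_iff.mp (Nat.dvd_one.mp this), one_pow]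

/-- a commuting set of involutions generates a 2-group -/
theorem isPGroup_two_closure {G : Type*} [Group G] {E : Set G} (hinv : ∀ x ∈ E, x * x = 1)
    (hcomm : ∀ a ∈ E, ∀ b ∈ E, a * b = b * a) : IsPGroup 2 (Subgroup.closure E) := by
  have hc : IsMulCommutative (Subgroup.closure E) := Subgroup.isMulCommutative_closure hcomm
  have key : ∀ x (hx : x ∈ Subgroup.closure E), x * x = 1 := by
    intro x hx
    induction hx using Subgroup.closure_induction with
    | mem x hx => exact hinv x hx
    | one => simp
    | mul x y hx hy ihx ihy =>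
      have hxy : x * y = y * x := by
        have := hc.is_comm.comm (⟨x, hx⟩ : Subgroup.closure E) ⟨y, hy⟩
        exact congrArg Subtype.val this
      calc x * y * (x * y) = x * (y * x) * y := by group
        _ = x * (x * y) * y := by rw [hxy]
        _ = (x * x) * (y * y) := by group
        _ = 1 := by rw [ihx, ihy, one_mul]
    | inv x hx ih =>
      calc x⁻¹ * x⁻¹ = (x * x)⁻¹ := by group
        _ = 1 := by rw [ih, inv_one]
  intro g
  refine ⟨1, ?_⟩
  apply Subtype.ext
  simp only [pow_one, pow_two, Subgroup.coe_mul, Subgroup.coe_one]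
  exact key g.1 g.2


/-- Let D be a conjugation-invariant generating set of 3-transpositions of a finite group G and T a Sylow 2-subgroup of G. Then the members of D lying in T generate an abelian subgroup, and their number is the width of D (the largest number of pairwise commuting members of D). -/
theorem result {G : Type*} [Group G] [Finite G] {D : Set G} (hD : Cfsg.IsThreeTranspositionGroup D) (T : Sylow 2 G) : IsMulCommutative (Subgroup.closure {d : G | d ∈ D ∧ d ∈ T}) ∧ {d : G | d ∈ D ∧ d ∈ T}.ncard = Cfsg.commutingWidth D := by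
  obtain ⟨hD3, hconj, _⟩ := hD
  have sq_one : ∀ x ∈ D, x * x = 1 := by
    intro x hx
    have := pow_orderOf_eq_one x
    rw [hD3.1 x hx, pow_two] at this
    exact this
  have hTcomm : ∀ a ∈ {d : G | d ∈ D ∧ d ∈ T}, ∀ b ∈ {d : G | d ∈ D ∧ d ∈ T}, a * b = b * a := by
    rintro a ⟨haD, haT⟩ b ⟨hbD, hbT⟩
    exact comm_of_mem_two_group hD3 (T : Subgroup G) T.isPGroup' haD hbD haT hbT
  refine ⟨Subgroup.isMulCommutative_closure hTcomm, ?_⟩
  symm
  unfold Cfsg.commutingWidth
  apply IsGreatest.csSup_eq
  constructor
  · exact ⟨{d : G | d ∈ D ∧ d ∈ T}, fun x hx => hx.1, Set.toFinite _, hTcomm, rfl⟩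
  · rintro n ⟨E, hED, hEfin, hEcomm, rfl⟩
    have hP : IsPGroup 2 (Subgroup.closure E) :=
      isPGroup_two_closure (fun x hx => sq_one x (hED hx)) hEcomm
    obtain ⟨Q, hQ⟩ := hP.exists_le_sylow
    obtain ⟨g, hg⟩ := MulAction.exists_smul_eq G Q T
    apply Set.ncard_le_ncard_of_injOn (fun x => g * x * g⁻¹)
    · intro x hx
      refine ⟨hconj g x (hED hx), ?_⟩
      have hxQ : x ∈ (Q : Subgroup G) := hQ (Subgroup.subset_closure hx)
      have : g * x * g⁻¹ ∈ ((g • Q : Sylow 2 G) : Subgroup G) := by
        rw [Sylow.coe_subgroup_smul]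
        have := (Subgroup.smul_mem_pointwise_smul_iff (a := MulAut.conj g) (S := (Q : Subgroup G)) (x := x)).2 hxQ
        simpa [MulAut.smul_def] using this
      rw [hg] at this
      exact this
    · intro x _ y _ hxy
      simpa using hxy

end Cfsg.Agent.S5345
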