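import Cfsg.Statements.S5349
-- import your own Cfsg.Agent.* helpers here
import Cfsg.Agent.Lib.Helper97.TTBlocks

set_option autoImplicit false
open Cfsg

namespace Cfsg.Agent.S5349

open Cfsg.Agent.Lib.Helper97

/-- commuting with a member of `D` is unchanged when that member is multiplied by an element of a normal
`2`-subgroup (staying inside `D`) -/
theorem commute_of_mul_mem {G : Type*} [Group G] {D : Set G} (hD : Cfsg.IsThreeTranspositionSet D)
    (Q : Subgroup G) [Q.Normal] (hQ : IsPGroup 2 Q) {x y e : G} (hx : x ∈ D) (hy : y ∈ D) (he : e ∈ D)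
    (hq : x⁻¹ * y ∈ Q) (hxe : Commute x e) : Commute y e := by
  by_contra hne
  have hx2 := tt_sq_one hD hx
  have hy2 := tt_sq_one hD hy
  have he2 := tt_sq_one hD he
  have hxi := tt_inv hD hx
  have hei := tt_inv hD he
  rcases hD.2 y hy e he with h | h
  · exact hne (S5345.comm_of_sq hy2 he2 h)
  · -- `(y e)^2 ∈ Q`
    have hxe' : x * e = e * x := hxe
    have hyq : y = x * (x⁻¹ * y) := by group
    have h1 : x * (x⁻¹ * y) * x⁻¹ ∈ Q := Subgroup.Normal.conj_mem inferInstance _ hq x
    have h2 : e * (x⁻¹ * y) * e⁻¹ ∈ Q := Subgroup.Normal.conj_mem inferInstance _ hq e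
    have h3 : (y * e) ^ 2 = (x * (x⁻¹ * y) * x⁻¹) * (e * (x⁻¹ * y) * e⁻¹) := by
      rw [hxi, hei, pow_two]
      set q := x * y with hqdef
      have hyq' : y = x * q := by rw [hqdef, ← mul_assoc, hx2, one_mul]
      rw [hyq']
      calc x * q * e * (x * q * e) = x * q * (e * x) * q * e := by group
        _ = x * q * (x * e) * q * e := by rw [hxe']
        _ = x * q * x * (e * q * e) := by group
    have h4 : (y * e) ^ 2 ∈ Q := by rw [h3]; exact Q.mul_mem h1 h2
    have h5 : y * e = ((y * e) ^ 2)⁻¹ := by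
      have : (y * e) ^ 3 = (y * e) ^ 2 * (y * e) := pow_succ _ _
      rw [h] at this
      exact (inv_eq_of_mul_eq_one_right this.symm).symm ▸ rfl
    have h6 : y * e ∈ Q := by rw [h5]; exact Q.inv_mem h4
    obtain ⟨k, hk⟩ := hQ ⟨y * e, h6⟩
    have hk' : (y * e) ^ (2 ^ k) = 1 := by
      have := congrArg Subtype.val hk
      simpa using this
    have d1 : orderOf (y * e) ∣ 2 ^ k := orderOf_dvd_of_pow_eq_one hk'
    have d2 : orderOf (y * e) ∣ 3 := orderOf_dvd_of_pow_eq_one h
    have hcop : Nat.Coprime (2 ^ k) 3 := Nat.Coprime.pow_left _ (by norm_num)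
    have d3 : orderOf (y * e) ∣ 1 := by
      have := Nat.dvd_gcd d1 d2
      rwa [hcop] at this
    have h7 : y * e = 1 := orderOf_eq_one_iff.mp (Nat.dvd_one.mp d3)
    have h8 : y = e := by
      have := eq_inv_of_mul_eq_one_left h7
      rw [this, hei]
    apply hne
    rw [h8]

/-- Let D be a conjugacy class of 3-transpositions generating the finite group G, with at least two members, and d a member of D. Then the set of members of D commuting with exactly the same members of D as d coincides with the set of members of D lying in the coset of d modulo the largest normal 2-subgroup of G, and also with the orbit of d under conjugation by that normal 2-subgroup. -/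
theorem result {G : Type*} [Group G] [Finite G] {D : Set G} (hD : Cfsg.IsThreeTranspositionClass D) (hD2 : ∃ a ∈ D, ∃ b ∈ D, a ≠ b) {d : G} (hd : d ∈ D) : {v : G | v ∈ D ∧ ∀ e ∈ D, Commute v e ↔ Commute d e} = {v : G | v ∈ D ∧ d⁻¹ * v ∈ Cfsg.pCore 2 G} ∧ {v : G | v ∈ D ∧ ∀ e ∈ D, Commute v e ↔ Commute d e} = {v : G | ∃ g ∈ Cfsg.pCore 2 G, v = g * d * g⁻¹} := by
  obtain ⟨hD3, ⟨d₀, hd₀, hcls⟩, hgen⟩ := hD
  have hconj : ∀ g : G, ∀ x ∈ D, g * x * g⁻¹ ∈ D := by
    intro g x hx
    rw [hcls] at hx ⊢
    have hx' : IsConj d₀ x := hx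
    show IsConj d₀ (g * x * g⁻¹)
    exact hx'.trans (isConj_iff.2 ⟨g, rfl⟩)
  have hQ2 : IsPGroup 2 (Cfsg.pCore 2 G) := isPGroup_pCore 2 G
  have hd2 := tt_sq_one hD3 hd
  have hdi := tt_inv hD3 hd
  -- orbit ⊆ coset
  have hCB : ∀ v : G, (∃ g ∈ Cfsg.pCore 2 G, v = g * d * g⁻¹) → v ∈ D ∧ d⁻¹ * v ∈ Cfsg.pCore 2 G := by
    rintro v ⟨g, hg, rfl⟩
    refine ⟨hconj g d hd, ?_⟩
    have h1 : d⁻¹ * g * d⁻¹⁻¹ ∈ Cfsg.pCore 2 G := Subgroup.Normal.conj_mem inferInstance _ hg d⁻¹
    have h2 : d⁻¹ * (g * d * g⁻¹) = (d⁻¹ * g * d⁻¹⁻¹) * g⁻¹ := by group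
    rw [h2]
    exact Subgroup.mul_mem _ h1 (Subgroup.inv_mem _ hg)
  -- coset ⊆ block
  have hBA : ∀ v : G, (v ∈ D ∧ d⁻¹ * v ∈ Cfsg.pCore 2 G) → v ∈ D ∧ ∀ e ∈ D, Commute v e ↔ Commute d e := by
    rintro v ⟨hv, hq⟩
    refine ⟨hv, fun e he => ⟨fun h => ?_, fun h => ?_⟩⟩
    · refine commute_of_mul_mem hD3 (Cfsg.pCore 2 G) hQ2 hv hd he ?_ h
      have : v⁻¹ * d = (d⁻¹ * v)⁻¹ := by group
      rw [this]
      exact Subgroup.inv_mem _ hq
    · exact commute_of_mul_mem hD3 (Cfsg.pCore 2 G) hQ2 hd hv he hq h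
  -- block ⊆ orbit
  have hAC : ∀ v : G, (v ∈ D ∧ ∀ e ∈ D, Commute v e ↔ Commute d e) → ∃ g ∈ Cfsg.pCore 2 G, v = g * d * g⁻¹ := by
    rintro v ⟨hv, hve⟩
    by_cases hvd : v = d
    · exact ⟨1, Subgroup.one_mem _, by rw [hvd]; group⟩
    · have hsim : Sim D d v := ⟨hd, hv, fun e he => (hve e he).symm⟩
      -- some member of `D` does not commute with `d`
      have hex : ∃ b ∈ D, ¬ Commute d b := by
        by_contra hall
        push Not at hall
        have hcen : d ∈ Subgroup.center G := by
          have h1 : Subgroup.closure D ≤ Subgroup.centralizer {d} := by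
            rw [Subgroup.closure_le]
            intro b hb
            rw [SetLike.mem_coe, Subgroup.mem_centralizer_iff]
            intro x hx
            rw [Set.mem_singleton_iff] at hx
            subst hx
            exact (hall b hb).eq
          rw [hgen] at h1
          rw [Subgroup.mem_center_iff]
          intro g
          have := h1 (Subgroup.mem_top g)
          rw [Subgroup.mem_centralizer_iff] at this
          exact (this d (Set.mem_singleton d)).symm
        -- then `D = {d}`
        have hDd : ∀ x ∈ D, x = d := by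
          intro x hx
          have hdc : IsConj d₀ d := by
            have : d ∈ conjugatesOf d₀ := hcls ▸ hd
            exact this
          have hxc : IsConj d₀ x := by
            have : x ∈ conjugatesOf d₀ := hcls ▸ hx
            exact this
          obtain ⟨c, hc⟩ := isConj_iff.1 (hdc.symm.trans hxc)
          rw [← hc]
          have := Subgroup.mem_center_iff.1 hcen c
          calc c * d * c⁻¹ = d * c * c⁻¹ := by rw [this]
            _ = d := by group
        obtain ⟨a, ha, b, hb, hab⟩ := hD2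
        exact hab ((hDd a ha).trans (hDd b hb).symm)
      obtain ⟨b, hb, hdb⟩ := hex
      have hvb : ¬ Commute v b := fun h => hdb ((hve b hb).1 h)
      have hb2 := tt_sq_one hD3 hb
      have hv2 := tt_sq_one hD3 hv
      have hbi := tt_inv hD3 hb
      have hvi := tt_inv hD3 hv
      have hbr_d : d * b * d = b * d * b := tt_braid hD3 hd hb hdb
      have hbr_v : v * b * v = b * v * b := tt_braid hD3 hv hb hvb
      have hdv : d * v = v * d := hsim.commute
      have ht : d * v ∈ Cfsg.pCore 2 G :=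
        pairProd_le_pCore hD3 hconj (Subgroup.subset_closure ⟨d, v, hsim, rfl⟩)
      refine ⟨b * (d * v) * b⁻¹, Subgroup.Normal.conj_mem inferInstance _ ht b, ?_⟩
      have hdvd : d * v * d = v := by rw [hdv, mul_assoc, hd2, mul_one]
      symm
      calc b * (d * v) * b⁻¹ * d * (b * (d * v) * b⁻¹)⁻¹
          = b * (d * v) * (b⁻¹ * d * b) * (v⁻¹ * d⁻¹) * b⁻¹ := by group
        _ = b * (d * v) * (b * d * b) * (v * d) * b := by rw [hbi, hvi, hdi]
        _ = b * (d * v) * (d * b * d) * (v * d) * b := by rw [hbr_d]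
        _ = b * (d * v * d) * b * (d * v * d) * b := by group
        _ = b * v * b * v * b := by rw [hdvd]
        _ = (v * b * v) * v * b := by rw [hbr_v]
        _ = v * b * (v * v) * b := by group
        _ = v * (b * b) := by rw [hv2, mul_one, mul_assoc]
        _ = v := by rw [hb2, mul_one]
  constructor
  · ext v
    exact ⟨fun h => hCB v (hAC v h), hBA v⟩
  · ext v
    exact ⟨hAC v, fun h => hBA v (hCB v h)⟩

end Cfsg.Agent.S5349
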