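import Cfsg.Statements.S0375
import Cfsg.Agent.Lib.Helper93.SteinerMain
import Cfsg.Agent.Lib.Helper93.GolayAbstract
import Cfsg.Agent.Lib.Helper7.GolayFacts

set_option autoImplicit false
open Cfsg

namespace Cfsg.Agent.S0375

open Cfsg.Agent.Lib.Helper93 Cfsg.Agent.Lib.Helper7

section aux
variable {α β : Type} [Fintype α] [DecidableEq α] [Fintype β] [DecidableEq β]

theorem supp_comp_image (e : α ≃ β) (w : β → ZMod 2) :
    (supp (fun i => w (e i))).image e = supp w := by
  ext a
  simp only [Finset.mem_image, supp, Finset.mem_filter, Finset.mem_univ, true_and]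
  constructor
  · rintro ⟨i, hi, rfl⟩; exact hi
  · intro h; exact ⟨e.symm a, by simpa using h, by simp⟩

theorem hammingNorm_comp (e : α ≃ β) (w : β → ZMod 2) :
    hammingNorm (fun i => w (e i)) = hammingNorm w := by
  rw [hammingNorm_eq_card_supp, hammingNorm_eq_card_supp, ← supp_comp_image e w,
    Finset.card_image_of_injective _ e.injective]

/-- transport lemma: if the weight-8 words correspond, so do the spans -/
theorem comp_mem_of_octads {C : Submodule (ZMod 2) (α → ZMod 2)}
    {D : Submodule (ZMod 2) (β → ZMod 2)} (e : α ≃ β)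
    (h : ∀ w ∈ D, hammingNorm w = 8 → (fun i => w (e i)) ∈ C)
    (hD : Submodule.span (ZMod 2) {w : β → ZMod 2 | w ∈ D ∧ hammingNorm w = 8} = D) :
    ∀ w ∈ D, (fun i => w (e i)) ∈ C := by
  intro w hw
  rw [← hD] at hw
  induction hw using Submodule.span_induction with
  | mem x hx => exact h x hx.1 hx.2
  | zero => exact C.zero_mem
  | add x y _ _ hx hy => exact C.add_mem hx hy
  | smul a x _ hx => exact C.smul_mem a hx

end aux

/-- A doubly even self-dual binary code of length 24 with no words of weight 4 is equivalent to the length-24 code built from the squares modulo 23. -/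
theorem result (C : Submodule (ZMod 2) (Fin 24 → ZMod 2)) (hdim : Module.finrank (ZMod 2) C = 12) (horth : ∀ v ∈ C, ∀ w ∈ C, ∑ i, v i * w i = 0) (h4 : ∀ w ∈ C, 4 ∣ hammingNorm w) (hno4 : ∀ w ∈ C, hammingNorm w ≠ 4) : ∃ e : Fin 24 ≃ Cfsg.GolayPt, ∀ w : Cfsg.GolayPt → ZMod 2, w ∈ Cfsg.golayCode ↔ (fun i => w (e i)) ∈ C := by
  classical
  have hG : IsGolayLike C :=
    { card_pts := by simp
      finrank_eq := hdim
      orth := horth
      minwt := fun w hw h0 => by
        have h4' := h4 w hw
        have hn4 := hno4 w hw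
        have hpos : 0 < hammingNorm w := hammingNorm_pos_iff.mpr h0
        obtain ⟨k, hk⟩ := h4'
        omega }
  have hG' := golay_isGolayLike
  set B : Set (Finset (Fin 24)) := {b | ∃ c ∈ C, supp c = b ∧ b.card = 8} with hBdef
  have hB : IsSteinerSystem 5 8 B :=
    ⟨fun b hb => by obtain ⟨c, _, _, h8⟩ := hb; exact h8, fun s hs => hG.steiner s hs⟩
  obtain ⟨e, he⟩ := SteinerMain.iso_octads (by simp) hB
  refine ⟨e, ?_⟩
  -- forward: octad words of golayCode go to C
  have hfwd : ∀ w ∈ golayCode, hammingNorm w = 8 → (fun i => w (e i)) ∈ C := by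
    intro w hw h8
    have hoct : supp w ∈ octads := by
      rw [mem_octads_iff]
      exact ⟨w, hw, (supp_eq_support₂ w).symm, by rw [← hammingNorm_eq_card_supp]; exact h8⟩
    rw [← he] at hoct
    obtain ⟨b, ⟨c, hc, rfl, _⟩, hb⟩ := hoct
    have hb' : (supp c).image e = supp w := hb
    rw [← supp_comp_image e w] at hb'
    have h1 : supp c = supp (fun i => w (e i)) :=
      Finset.image_injective e.injective hb'
    have h2 : c = fun i => w (e i) := supp_injective h1
    rw [← h2]; exact hc
  -- backward: octad words of C go to golayCode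
  have hbwd : ∀ c ∈ C, hammingNorm c = 8 → (fun p => c (e.symm p)) ∈ golayCode := by
    intro c hc h8
    have hcB : supp c ∈ B := ⟨c, hc, rfl, by rw [← hammingNorm_eq_card_supp]; exact h8⟩
    have hoct : (supp c).image e ∈ octads := by
      rw [← he]; exact ⟨supp c, hcB, rfl⟩
    rw [mem_octads_iff] at hoct
    obtain ⟨w, hw, hsw, _⟩ := hoct
    rw [← supp_eq_support₂, ← supp_comp_image e w] at hsw
    have h1 : supp (fun i => w (e i)) = supp c := Finset.image_injective e.injective hsw
    have h2 : (fun i => w (e i)) = c := supp_injective h1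
    have h3 : (fun p => c (e.symm p)) = w := by
      funext p; rw [← h2]; simp
    rw [h3]; exact hw
  intro w
  constructor
  · intro hw
    exact comp_mem_of_octads e hfwd hG'.span_octads w hw
  · intro hw
    have := comp_mem_of_octads e.symm hbwd hG.span_octads _ hw
    simpa using this

end Cfsg.Agent.S0375
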