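import Cfsg.Statements.S4443
import Cfsg.Agent.Lib.Helper79.Robinson
import Cfsg.Agent.Lib.Helper79.DualRank
import Cfsg.Agent.Lib.Helper79.BrauerFeit

set_option autoImplicit false
open Cfsg

namespace Cfsg.Agent.S4443

open Cfsg.Agent.Lib.Helper16 Cfsg.Agent.Lib.Helper79

/-- Let D be a normal p-subgroup of the finite group G, of order p^d, let p^a be the p-part of the order of G, and fix a Sylow p-subgroup S and a maximal ideal M of the algebraic integers containing p. Index by a finite type ι (via an injective map K) exactly the conjugacy classes of p-regular elements x of G for which D is a Sylow p-subgroup of C_G(x). For classes K_i, K_j let ω(i, j) be the number of pairs (y, z) ∈ K_i × K_j with z y⁻¹ ∈ S; this number is divisible by p^(a−d). Then the number of p-blocks of G having D as a defect group equals the rank over ℤ/pℤ of the matrix with (i, j) entry ω(i, j)/p^(a−d) reduced modulo p. -/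
theorem result {G : Type*} [Group G] [Finite G] (p : ℕ) [Fact p.Prime] (M : Ideal Cfsg.AlgInt) (hM : Cfsg.IsPModular p M) (D : Subgroup G) [D.Normal] (hD : IsPGroup p D) (S : Sylow p G) {ι : Type*} [Fintype ι] [DecidableEq ι] (K : ι → ConjClasses G) (hKinj : Function.Injective K) (hK : ∀ C : ConjClasses G, (∃ i, K i = C) ↔ ∃ x ∈ C.carrier, ¬ p ∣ orderOf x ∧ ∃ Q : Sylow p (Subgroup.centralizer ({x} : Set G)), (Q : Subgroup (Subgroup.centralizer ({x} : Set G))).map (Subgroup.centralizer ({x} : Set G)).subtype = D) : Nat.card {B : Set (Cfsg.IrrCharacter G) // Cfsg.IsPBlock M B ∧ Cfsg.IsDefectGroup p M B D} = (Matrix.of fun i j : ι => ((Nat.card {yz : G × G // yz.1 ∈ (K i).carrier ∧ yz.2 ∈ (K j).carrier ∧ yz.2 * yz.1⁻¹ ∈ (S : Subgroup G)} / p ^ ((Nat.card G).factorization p - (Nat.card D).factorization p) : ℕ) : ZMod p)).rank := by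
  classical
  have : Fintype G := Fintype.ofFinite G
  have hp : p.Prime := Fact.out
  have hMp : M.IsPrime := isPModular_isPrime hM
  have hMtop : M ≠ ⊤ := hMp.ne_top
  -- representatives
  have hrep0 : ∀ i : ι, ∃ x ∈ (K i).carrier, ¬ p ∣ orderOf x ∧
      ∃ Q : Sylow p ↥(Subgroup.centralizer ({x} : Set G)),
        (Q : Subgroup ↥(Subgroup.centralizer ({x} : Set G))).map
          (Subgroup.centralizer ({x} : Set G)).subtype = D :=
    fun i => (hK (K i)).mp ⟨i, rfl⟩
  choose x hxmem hxreg hxD using hrep0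
  have hxK : ∀ i, ConjClasses.mk (x i) = K i :=
    fun i => ConjClasses.mem_carrier_iff_mk_eq.mp (hxmem i)
  -- multiplicities
  have : Fintype ↥(S : Subgroup G) := Fintype.ofFinite _
  choose m hm using fun χ : Cfsg.IrrCharacter G => sum_subgroup_irr_inv χ (S : Subgroup G)
  set a := (Nat.card G).factorization p with ha
  set d := (Nat.card D).factorization p with hd
  set g' : ℕ := Nat.card G / p ^ a with hg'
  have hg'p : ¬ p ∣ g' := Nat.not_dvd_ordCompl hp Nat.card_pos.ne'
  have hGfac : p ^ a * g' = Nat.card G := Nat.ordProj_mul_ordCompl_eq_self _ p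
  have hScard : Nat.card ↥(S : Subgroup G) = p ^ a := Sylow.card_eq_multiplicity S
  -- centralizer orders
  have hcent : ∀ j : ι, ∃ c : ℕ,
      Nat.card (Subgroup.centralizer ({x j} : Set G)) = p ^ d * c ∧ ¬ p ∣ c := by
    intro j
    obtain ⟨Q, hQ⟩ := hxD j
    have h1 : Nat.card D =
        p ^ (Nat.card (Subgroup.centralizer ({x j} : Set G))).factorization p := by
      rw [← hQ, card_sylow_map]
    have h2 : d = (Nat.card (Subgroup.centralizer ({x j} : Set G))).factorization p := by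
      rw [hd, h1, Nat.Prime.factorization_pow hp]
      simp
    refine ⟨Nat.card (Subgroup.centralizer ({x j} : Set G)) /
      p ^ (Nat.card (Subgroup.centralizer ({x j} : Set G))).factorization p, ?_, ?_⟩
    · rw [h2, Nat.ordProj_mul_ordCompl_eq_self]
    · exact Nat.not_dvd_ordCompl hp Nat.card_pos.ne'
  choose c hc hcp using hcent
  have hda : d ≤ a :=
    (Nat.factorization_le_iff_dvd Nat.card_pos.ne' Nat.card_pos.ne').mpr
      (Subgroup.card_subgroup_dvd_card D) p
  -- the counts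
  set ω : ι → ι → ℕ := fun i j => Nat.card {yz : G × G // yz.1 ∈ (K i).carrier ∧
    yz.2 ∈ (K j).carrier ∧ yz.2 * yz.1⁻¹ ∈ (S : Subgroup G)} with hω
  set T : ι → ι → ℂ := fun i j => ∑ χ : Cfsg.IrrCharacter G,
    (m χ : ℂ) * (Cfsg.centralChar (χ : G → ℂ) (x i) * (χ : G → ℂ) (x j)⁻¹) with hT
  have hpad : ((p ^ (a - d) : ℕ) : ℂ) ≠ 0 := by
    exact_mod_cast (pow_pos hp.pos _).ne'
  have hcount : ∀ i j, ((c j * ω i j : ℕ) : ℂ) = ((p ^ (a - d) : ℕ) : ℂ) * T i j := by
    intro i j
    have h1 := robinson_count (x i) (x j) (S : Subgroup G) m hm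
    have h2 : Nat.card {yz : G × G // IsConj (x i) yz.1 ∧ IsConj (x j) yz.2 ∧
        yz.2 * yz.1⁻¹ ∈ (S : Subgroup G)} = ω i j := by
      apply Nat.card_congr
      apply Equiv.subtypeEquivRight
      intro yz
      rw [ConjClasses.mem_carrier_iff_mk_eq, ConjClasses.mem_carrier_iff_mk_eq, ← hxK i, ← hxK j,
        ConjClasses.mk_eq_mk_iff_isConj, ConjClasses.mk_eq_mk_iff_isConj]
      constructor
      · rintro ⟨h1, h2, h3⟩; exact ⟨h1.symm, h2.symm, h3⟩
      · rintro ⟨h1, h2, h3⟩; exact ⟨h1.symm, h2.symm, h3⟩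
    rw [h2, hScard, hc j] at h1
    have hpd : ((p : ℂ) ^ d) ≠ 0 := by exact_mod_cast (pow_pos hp.pos _).ne'
    have hpa : (p : ℂ) ^ a = (p : ℂ) ^ d * (p : ℂ) ^ (a - d) := by
      rw [← pow_add]; congr 1; omega
    push_cast at h1 ⊢
    rw [hpa] at h1
    apply mul_left_cancel₀ hpd
    linear_combination h1
  have hTint : ∀ i j, IsIntegral ℤ (T i j) := by
    intro i j
    apply IsIntegral.sum
    intro χ _
    exact IsIntegral.mul (isIntegral_natCast _)
      (IsIntegral.mul (isIntegral_centralChar χ (x i)) (isIntegral_irr χ _))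
  have hdvd : ∀ i j, p ^ (a - d) ∣ ω i j := by
    intro i j
    have h1 : p ^ (a - d) ∣ c j * ω i j := by
      apply dvd_of_isIntegral_div (pow_pos hp.pos _).ne'
      rw [hcount i j, mul_div_cancel_left₀ _ hpad]
      exact hTint i j
    have hcop : Nat.Coprime (p ^ (a - d)) (c j) :=
      Nat.Coprime.pow_left _ ((Nat.Prime.coprime_iff_not_dvd hp).mpr (hcp j))
    exact hcop.dvd_of_dvd_mul_left h1
  set q : ι → ι → ℕ := fun i j => ω i j / p ^ (a - d) with hq
  have hωq : ∀ i j, ω i j = p ^ (a - d) * q i j := fun i j =>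
    (Nat.mul_div_cancel' (hdvd i j)).symm
  have hTq : ∀ i j, T i j = ((c j * q i j : ℕ) : ℂ) := by
    intro i j
    have h1 := hcount i j
    rw [hωq i j] at h1
    apply mul_left_cancel₀ hpad
    rw [← h1]
    push_cast
    ring
  -- blocks
  set blk : Cfsg.IrrCharacter G → Set (Cfsg.IrrCharacter G) :=
    fun χ => Cfsg.blockOf M (χ : G → ℂ) with hblk
  set 𝔹 : Finset (Set (Cfsg.IrrCharacter G)) := Finset.univ.image blk with h𝔹
  set fib : Set (Cfsg.IrrCharacter G) → Finset (Cfsg.IrrCharacter G) :=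
    fun B => Finset.univ.filter (fun χ => blk χ = B) with hfibdef
  have hblock : ∀ B ∈ 𝔹, Cfsg.IsPBlock M B := by
    intro B hB
    obtain ⟨ψ, -, rfl⟩ := Finset.mem_image.mp hB
    exact isPBlock_blockOf ψ
  have hmem𝔹 : ∀ B, Cfsg.IsPBlock M B → B ∈ 𝔹 := by
    rintro B ⟨χ, rfl⟩
    exact Finset.mem_image_of_mem blk (Finset.mem_univ χ)
  have hfib : ∀ B ∈ 𝔹, ∀ χ, χ ∈ fib B ↔ χ ∈ B := by
    intro B hB χ
    simp only [hfibdef, Finset.mem_filter, Finset.mem_univ, true_and, hblk]
    constructor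
    · intro h
      rw [← h]
      exact self_mem_blockOf hMtop χ
    · intro h
      exact (IsPBlock_eq_blockOf (hblock B hB) h).symm
  have hex : ∀ B : Set (Cfsg.IrrCharacter G), ∃ ψ : Cfsg.IrrCharacter G, B ∈ 𝔹 → ψ ∈ B := by
    intro B
    by_cases hB : B ∈ 𝔹
    · obtain ⟨ψ, hψ⟩ := IsPBlock_nonempty hMtop (hblock B hB)
      exact ⟨ψ, fun _ => hψ⟩
    · exact ⟨⟨_, Cfsg.Agent.Lib.Helper78.isIrrCharacter_one⟩, fun h => absurd h hB⟩
  choose rep hrep using hex
  -- the two families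
  set Ωc : Set (Cfsg.IrrCharacter G) → ι → ℂ :=
    fun B i => Cfsg.centralChar (rep B : G → ℂ) (x i) with hΩc
  set Φc : Set (Cfsg.IrrCharacter G) → ι → ℂ :=
    fun B j => ∑ χ ∈ fib B, (m χ : ℂ) * (χ : G → ℂ) (x j)⁻¹ with hΦc
  set βc : Set (Cfsg.IrrCharacter G) → ι → ℂ :=
    fun B j => Cfsg.blockCoeff B (x j) with hβc
  have hΩR : ∀ B i, Cfsg.MemLocalRing M (Ωc B i) := fun B i =>
    memLocalRing_of_isIntegral hMtop (isIntegral_centralChar _ _)
  have hβR : ∀ B ∈ 𝔹, ∀ j, Cfsg.MemLocalRing M (βc B j) := fun B hB j =>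
    Cfsg.Agent.S0913.result p M hM B (hblock B hB) (x j)
  have hΦβ : ∀ B ∈ 𝔹, ∀ j, Φc B j = (g' : ℂ) * βc B j := by
    intro B hB j
    have hreg : ¬ p ∣ orderOf (x j)⁻¹ := by rw [orderOf_inv]; exact hxreg j
    have h1 := sum_block_subgroup_mul_pReg p M hM B (hblock B hB) (fib B) (hfib B hB)
      (S : Subgroup G) S.isPGroup' m hm (x j)⁻¹ hreg
    rw [inv_inv, hScard, ← hGfac] at h1
    have hpa : ((p ^ a : ℕ) : ℂ) ≠ 0 := by exact_mod_cast (pow_pos hp.pos _).ne'
    apply mul_left_cancel₀ hpa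
    rw [hΦc, hβc]
    simp only
    rw [h1]
    push_cast
    ring
  -- claim 1
  have hclaim1 : ∀ i j : ι, Cfsg.MemLocalIdeal M (T i j - ∑ B ∈ 𝔹, Ωc B i * Φc B j) := by
    intro i j
    have hsplit := Finset.sum_fiberwise_of_maps_to (s := (Finset.univ : Finset (Cfsg.IrrCharacter G)))
      (t := 𝔹) (g := blk) (fun χ _ => Finset.mem_image_of_mem blk (Finset.mem_univ χ))
      (fun χ => (m χ : ℂ) * (Cfsg.centralChar (χ : G → ℂ) (x i) * (χ : G → ℂ) (x j)⁻¹))
    rw [hT]
    simp only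
    rw [← hsplit, ← Finset.sum_sub_distrib]
    apply memLocalIdeal_sum
    intro B hB
    have h1 : Ωc B i * Φc B j = ∑ χ ∈ fib B, (m χ : ℂ) * (Ωc B i * (χ : G → ℂ) (x j)⁻¹) := by
      rw [hΦc]
      simp only
      rw [Finset.mul_sum]
      apply Finset.sum_congr rfl
      intro χ _
      ring
    rw [h1, ← Finset.sum_sub_distrib]
    apply memLocalIdeal_sum
    intro χ hχ
    have hχB : χ ∈ B := (hfib B hB χ).mp hχ
    have hsame := sameBlock_of_mem (hblock B hB) hχB (hrep B hB)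
    have h2 : (m χ : ℂ) * (Cfsg.centralChar (χ : G → ℂ) (x i) * (χ : G → ℂ) (x j)⁻¹) -
        (m χ : ℂ) * (Ωc B i * (χ : G → ℂ) (x j)⁻¹) =
        ((m χ : ℂ) * (χ : G → ℂ) (x j)⁻¹) *
          (Cfsg.centralChar (χ : G → ℂ) (x i) - Cfsg.centralChar (rep B : G → ℂ) (x i)) := by
      rw [hΩc]; ring
    rw [h2]
    exact memLocalIdeal_mul_left (memLocalRing_mul (memLocalRing_natCast hMtop _)
      (memLocalRing_of_isIntegral hMtop (isIntegral_irr _ _))) (hsame (x i))
  -- claim 2
  have hclaim2 : ∀ B ∈ 𝔹, ¬ Cfsg.IsDefectGroup p M B D → ∀ i j : ι,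
      Cfsg.MemLocalIdeal M (Ωc B i * Φc B j) := by
    intro B hB hBD i j
    by_contra hcon
    rw [hΦβ B hB j] at hcon
    have hgβ : Cfsg.MemLocalRing M ((g' : ℂ) * βc B j) :=
      memLocalRing_mul (memLocalRing_natCast hMtop _) (hβR B hB j)
    rw [memLocalIdeal_mul_iff (hΩR B i) hgβ] at hcon
    push Not at hcon
    have hβ : ¬ Cfsg.MemLocalIdeal M (βc B j) := fun h =>
      hcon.2 (memLocalIdeal_mul_left (memLocalRing_natCast hMtop _) h)
    exact hBD (isDefectGroup_of_nonvanishing_coeff p M hM B (hblock B hB) D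
      (x i) (x j) (hxD i) (hxD j) (rep B) (hrep B hB) hcon.1 hβ)
  set 𝔹₀ : Finset (Set (Cfsg.IrrCharacter G)) :=
    𝔹.filter (fun B => Cfsg.IsDefectGroup p M B D) with h𝔹₀
  have hclaim3 : ∀ i j : ι, Cfsg.MemLocalIdeal M (T i j - ∑ B ∈ 𝔹₀, Ωc B i * Φc B j) := by
    intro i j
    have h1 := Finset.sum_filter_add_sum_filter_not 𝔹 (fun B => Cfsg.IsDefectGroup p M B D)
      (fun B => Ωc B i * Φc B j)
    have h2 : Cfsg.MemLocalIdeal M
        (∑ B ∈ 𝔹.filter (fun B => ¬ Cfsg.IsDefectGroup p M B D), Ωc B i * Φc B j) := by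
      apply memLocalIdeal_sum
      intro B hB
      rw [Finset.mem_filter] at hB
      exact hclaim2 B hB.1 hB.2 i j
    have h3 := memLocalIdeal_add (hclaim1 i j) h2
    have h4 : T i j - ∑ B ∈ 𝔹, Ωc B i * Φc B j +
        ∑ B ∈ 𝔹.filter (fun B => ¬ Cfsg.IsDefectGroup p M B D), Ωc B i * Φc B j =
        T i j - ∑ B ∈ 𝔹₀, Ωc B i * Φc B j := by
      rw [← h1]; ring
    rwa [h4] at h3
  have h𝔹₀mem : ∀ B : ↥𝔹₀, (B : Set (Cfsg.IrrCharacter G)) ∈ 𝔹 ∧
      Cfsg.IsDefectGroup p M (B : Set (Cfsg.IrrCharacter G)) D :=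
    fun B => Finset.mem_filter.mp B.2
  -- duality
  have hdualC : ∀ B B' : ↥𝔹₀, Cfsg.MemLocalIdeal M
      ((∑ i : ι, βc B i * Ωc B' i) - (if B = B' then (1 : ℂ) else 0)) := by
    intro B B'
    have hB := h𝔹₀mem B
    have hB' := h𝔹₀mem B'
    set F : ConjClasses G → ℂ := fun c =>
      Cfsg.blockCoeff (B : Set (Cfsg.IrrCharacter G)) (Quotient.out c) *
        Cfsg.centralChar (rep B' : G → ℂ) (Quotient.out c) with hF
    have hsum : ∑ c : ConjClasses G, F c = if B = B' then (1 : ℂ) else 0 := by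
      split_ifs with hBB
      · subst hBB
        exact Cfsg.Agent.Lib.Helper78.sum_conjClasses_blockCoeff_mul_centralChar _
          (hrep _ hB.1)
      · apply Cfsg.Agent.Lib.Helper78.sum_conjClasses_blockCoeff_mul_centralChar_of_not_mem
        intro hmem
        apply hBB
        apply Subtype.ext
        exact IsPBlock_eq_of_mem (hblock _ hB.1) (hblock _ hB'.1) hmem (hrep _ hB'.1)
    have hFK : ∀ i : ι, F (K i) = βc B i * Ωc B' i := by
      intro i
      have hconj : IsConj (Quotient.out (K i)) (x i) := by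
        rw [← ConjClasses.mk_eq_mk_iff_isConj, hxK i]
        exact Quotient.out_eq (K i)
      obtain ⟨y, hy⟩ := isConj_iff.mp hconj
      rw [hF, hβc, hΩc]
      simp only
      rw [Cfsg.Agent.Lib.Helper78.IsClassFunction.eq_of_isConj
        (Cfsg.Agent.Lib.Helper78.isClassFunction_blockCoeff _) hconj, ← hy, centralChar_conj]
    have hsplit := Finset.sum_filter_add_sum_filter_not (Finset.univ : Finset (ConjClasses G))
      (fun c => c ∈ Finset.univ.image K) F
    have himg : ∑ c ∈ Finset.univ.filter (fun c => c ∈ Finset.univ.image K), F c =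
        ∑ i : ι, βc B i * Ωc B' i := by
      have : Finset.univ.filter (fun c => c ∈ Finset.univ.image K) = Finset.univ.image K := by
        ext c; simp
      rw [this, Finset.sum_image (fun i _ j _ h => hKinj h)]
      exact Finset.sum_congr rfl (fun i _ => hFK i)
    have hrest : Cfsg.MemLocalIdeal M
        (∑ c ∈ Finset.univ.filter (fun c => ¬ c ∈ Finset.univ.image K), F c) := by
      apply memLocalIdeal_sum
      intro c hcm
      rw [Finset.mem_filter] at hcm
      by_contra hnot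
      apply hcm.2
      have hbr : Cfsg.MemLocalRing M
          (Cfsg.blockCoeff (B : Set (Cfsg.IrrCharacter G)) (Quotient.out c)) :=
        Cfsg.Agent.S0913.result p M hM _ (hblock _ hB.1) _
      have hcr : Cfsg.MemLocalRing M (Cfsg.centralChar (rep B' : G → ℂ) (Quotient.out c)) :=
        memLocalRing_of_isIntegral hMtop (isIntegral_centralChar _ _)
      rw [hF] at hnot
      simp only at hnot
      rw [memLocalIdeal_mul_iff hbr hcr] at hnot
      push Not at hnot
      obtain ⟨hreg, Q, hQ⟩ := sylow_centralizer_eq_of_nonvanishing p M hM D _ _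
        (hblock _ hB.1) (hblock _ hB'.1) hB.2 hB'.2 (rep B') (hrep _ hB'.1) (Quotient.out c)
        hnot.1 hnot.2
      obtain ⟨i, hi⟩ := (hK c).mpr ⟨Quotient.out c,
        ConjClasses.mem_carrier_iff_mk_eq.mpr (Quotient.out_eq c), hreg, Q, hQ⟩
      rw [← hi]
      exact Finset.mem_image_of_mem K (Finset.mem_univ i)
    rw [← hsum, ← hsplit, himg]
    have : (∑ i : ι, βc B i * Ωc B' i) - (∑ i : ι, βc B i * Ωc B' i +
        ∑ c ∈ Finset.univ.filter (fun c => ¬ c ∈ Finset.univ.image K), F c) =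
        -(∑ c ∈ Finset.univ.filter (fun c => ¬ c ∈ Finset.univ.image K), F c) := by ring
    rw [this]
    exact memLocalIdeal_neg hrest
  -- transfer to the local ring
  set ΛR : ↥𝔹₀ → ι → localSubring M := fun B i => ⟨Ωc B i, hΩR B i⟩ with hΛRdef
  set AR : ↥𝔹₀ → ι → localSubring M := fun B j => ⟨βc B j, hβR B (h𝔹₀mem B).1 j⟩ with hARdef
  have hpR : ((p : ℕ) : localSubring M) ∈ localIdeal M := by
    rw [mem_localIdeal]
    push_cast
    exact memLocalIdeal_p hM
  have h1R : ∀ i j : ι, (((c j * q i j : ℕ) : ℕ) : localSubring M) -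
      ((g' : ℕ) : localSubring M) * ∑ B : ↥𝔹₀, ΛR B i * AR B j ∈ localIdeal M := by
    intro i j
    rw [mem_localIdeal]
    have h1 := hclaim3 i j
    have h2 : ((((c j * q i j : ℕ) : ℕ) : localSubring M) -
        ((g' : ℕ) : localSubring M) * ∑ B : ↥𝔹₀, ΛR B i * AR B j : localSubring M) =
        T i j - ∑ B ∈ 𝔹₀, Ωc B i * Φc B j := by
      rw [← Finset.sum_coe_sort 𝔹₀ (fun B => Ωc B i * Φc B j), hTq i j]
      push_cast
      congr 1
      rw [Finset.mul_sum]
      apply Finset.sum_congr rfl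
      intro B _
      rw [hΦβ B (h𝔹₀mem B).1 j]
      ring
    rw [h2]
    exact h1
  have h2R : ∀ B B' : ↥𝔹₀, (∑ i : ι, AR B i * ΛR B' i) - (if B = B' then 1 else 0) ∈
      localIdeal M := by
    intro B B'
    rw [mem_localIdeal]
    have h1 := hdualC B B'
    have h2 : (((∑ i : ι, AR B i * ΛR B' i) - (if B = B' then 1 else 0) : localSubring M) : ℂ) =
        (∑ i : ι, βc B i * Ωc B' i) - (if B = B' then (1 : ℂ) else 0) := by
      push_cast
      congr 1
      split_ifs <;> simp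
    rw [h2]
    exact h1
  have hrank := rank_zmod_eq_card_of_dual (localIdeal M) p hpR ΛR AR c hcp g' hg'p q h1R h2R
  -- the count of blocks
  have hcardβ : Nat.card {B : Set (Cfsg.IrrCharacter G) //
      Cfsg.IsPBlock M B ∧ Cfsg.IsDefectGroup p M B D} = Fintype.card ↥𝔹₀ := by
    rw [← Nat.card_eq_fintype_card]
    apply Nat.card_congr
    apply Equiv.subtypeEquivRight
    intro B
    rw [h𝔹₀, Finset.mem_filter]
    constructor
    · rintro ⟨h1, h2⟩; exact ⟨hmem𝔹 B h1, h2⟩
    · rintro ⟨h1, h2⟩; exact ⟨hblock B h1, h2⟩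
  rw [hcardβ, ← hrank]

end Cfsg.Agent.S4443
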