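import Cfsg.Statements.S4911
import Cfsg.Agent.Lib.Helper74.RealCount
import Cfsg.Agent.Lib.Helper81.CoprimeChar

set_option autoImplicit false
open Cfsg

namespace Cfsg.Agent.S4911

open Cfsg.Agent.Lib.Helper81

/-- The conjugation action of a subgroup `P` normalising `K` on `K`. -/
def normAct {G : Type*} [Group G] (P K : Subgroup G)
    (hPK : P ≤ Subgroup.normalizer (K : Set G)) : ↥P →* MulAut ↥K where
  toFun x :=
    { toFun := fun k => ⟨(x : G) * k * (x : G)⁻¹,
        (Subgroup.mem_normalizer_iff.mp (hPK x.2) k).mp k.2⟩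
      invFun := fun k => ⟨(x : G)⁻¹ * k * (x : G),
        (Subgroup.mem_normalizer_iff''.mp (hPK x.2) k).mp k.2⟩
      left_inv := fun k => by apply Subtype.ext; simp only []; group
      right_inv := fun k => by apply Subtype.ext; simp only []; group
      map_mul' := fun a b => by apply Subtype.ext; simp only [Subgroup.coe_mul]; group }
  map_one' := by
    ext k
    simp
  map_mul' x y := by
    ext k
    simp only [Subgroup.coe_mul, mul_inv_rev, MulEquiv.coe_mk, Equiv.coe_fn_mk, MulAut.mul_apply]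
    group

theorem normAct_apply {G : Type*} [Group G] (P K : Subgroup G)
    (hPK : P ≤ Subgroup.normalizer (K : Set G)) (x : P) (k : K) :
    ((normAct P K hPK x k : K) : G) = (x : G) * k * (x : G)⁻¹ := rfl

/-- A subtype cut out by a stronger predicate with the same finite cardinality: the stronger
predicate follows from the weaker one. -/
theorem forall_of_card_and_eq {α : Type*} [Finite α] (p q : α → Prop)
    (h : Nat.card {a // p a ∧ q a} = Nat.card {a // p a}) : ∀ a, p a → q a := by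
  have hsub : {a | p a ∧ q a} ⊆ {a | p a} := fun a ha => ha.1
  have h1 : ({a | p a} : Set α).ncard ≤ ({a | p a ∧ q a} : Set α).ncard := by
    rw [← Nat.card_coe_set_eq, ← Nat.card_coe_set_eq]
    exact h.ge
  have h2 := Set.eq_of_subset_of_ncard_le hsub h1 (Set.toFinite _)
  intro a ha
  have : a ∈ {a | p a ∧ q a} := by rw [h2]; exact ha
  exact this.2

/-- Let P and K be subgroups of a finite group with P a p-group normalizing K and K of order prime to p. Then the number of P-invariant real-valued irreducible complex characters of K equals the number of conjugacy classes of K that are real (closed under inversion) and P-invariant. Moreover, if every real-valued irreducible character of K is P-invariant, then every real element of K (one conjugate in K to its inverse) is conjugate in K to an element centralized by P. -/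
theorem result {G : Type*} [Group G] [Finite G] (p : ℕ) [Fact p.Prime] (P K : Subgroup G) (hP : IsPGroup p ↥P) (hK : ¬ p ∣ Nat.card ↥K) (hPK : P ≤ Subgroup.normalizer (K : Set G)) : Nat.card {θ : Cfsg.IrrCharacter ↥K // (∀ k : ↥K, ((θ : ↥K → ℂ) k).im = 0) ∧ (∀ x ∈ P, ∀ k k' : ↥K, (k' : G) = x * (k : G) * x⁻¹ → (θ : ↥K → ℂ) k' = (θ : ↥K → ℂ) k)} = Nat.card {c : ConjClasses ↥K // (∀ k : ↥K, ConjClasses.mk k = c → IsConj k k⁻¹) ∧ ∀ k : ↥K, ConjClasses.mk k = c → ∀ x ∈ P, ∀ k' : ↥K, (k' : G) = x * (k : G) * x⁻¹ → ConjClasses.mk k' = c} ∧ ((∀ θ : Cfsg.IrrCharacter ↥K, (∀ k : ↥K, ((θ : ↥K → ℂ) k).im = 0) → (∀ x ∈ P, ∀ k k' : ↥K, (k' : G) = x * (k : G) * x⁻¹ → (θ : ↥K → ℂ) k' = (θ : ↥K → ℂ) k)) → ∀ k : ↥K, IsConj k k⁻¹ → ∃ k' : ↥K, IsConj k k' ∧ ∀ x ∈ P, x * (k' : G) * x⁻¹ = (k' : G)) := by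
  classical
  -- translation of the invariance conditions
  have hirr : ∀ θ : IrrCharacter ↥K,
      (∀ x ∈ P, ∀ k k' : ↥K, (k' : G) = x * (k : G) * x⁻¹ →
        (θ : ↥K → ℂ) k' = (θ : ↥K → ℂ) k) ↔
      ∀ (x : P) (k : K), (θ : ↥K → ℂ) (normAct P K hPK x k) = (θ : ↥K → ℂ) k := by
    intro θ
    constructor
    · intro h x k
      exact h x x.2 k _ rfl
    · intro h x hx k k' hk'
      have : k' = normAct P K hPK ⟨x, hx⟩ k := Subtype.ext hk'
      rw [this]
      exact h ⟨x, hx⟩ k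
  have hcls : ∀ c : ConjClasses ↥K,
      (∀ k : ↥K, ConjClasses.mk k = c → ∀ x ∈ P, ∀ k' : ↥K, (k' : G) = x * (k : G) * x⁻¹ →
        ConjClasses.mk k' = c) ↔
      ∀ (x : P) (k : K), ConjClasses.mk k = c → ConjClasses.mk (normAct P K hPK x k) = c := by
    intro c
    constructor
    · intro h x k hk
      exact h k hk x x.2 _ rfl
    · intro h k hk x hx k' hk'
      have : k' = normAct P K hPK ⟨x, hx⟩ k := Subtype.ext hk'
      rw [this]
      exact h ⟨x, hx⟩ k hk
  have hmain : Nat.card {θ : Cfsg.IrrCharacter ↥K // (∀ k : ↥K, ((θ : ↥K → ℂ) k).im = 0) ∧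
      (∀ x ∈ P, ∀ k k' : ↥K, (k' : G) = x * (k : G) * x⁻¹ →
        (θ : ↥K → ℂ) k' = (θ : ↥K → ℂ) k)} =
      Nat.card {c : ConjClasses ↥K // (∀ k : ↥K, ConjClasses.mk k = c → IsConj k k⁻¹) ∧
        ∀ k : ↥K, ConjClasses.mk k = c → ∀ x ∈ P, ∀ k' : ↥K, (k' : G) = x * (k : G) * x⁻¹ →
          ConjClasses.mk k' = c} := by
    rw [Nat.card_congr (Equiv.subtypeEquivRight (fun θ => and_congr_right (fun _ => hirr θ))),
      Nat.card_congr (Equiv.subtypeEquivRight (fun c => and_congr_right (fun _ => hcls c)))]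
    exact card_real_invariant_irr_eq_card_real_invariant_classes (normAct P K hPK) p hP hK
  refine ⟨hmain, ?_⟩
  intro hall k hk
  -- all real classes are invariant
  have h1 : Nat.card {θ : Cfsg.IrrCharacter ↥K // (∀ k : ↥K, ((θ : ↥K → ℂ) k).im = 0) ∧
      (∀ x ∈ P, ∀ k k' : ↥K, (k' : G) = x * (k : G) * x⁻¹ →
        (θ : ↥K → ℂ) k' = (θ : ↥K → ℂ) k)} =
      Nat.card {θ : Cfsg.IrrCharacter ↥K // ∀ k : ↥K, ((θ : ↥K → ℂ) k).im = 0} :=
    Nat.card_congr (Equiv.subtypeEquivRight (fun θ => ⟨fun h => h.1, fun h => ⟨h, hall θ h⟩⟩))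
  have h2 := Cfsg.Agent.Lib.Helper74.card_real_irr_eq_card_real_classes (G := ↥K)
  have h3 := forall_of_card_and_eq
    (fun c : ConjClasses ↥K => ∀ k : ↥K, ConjClasses.mk k = c → IsConj k k⁻¹)
    (fun c : ConjClasses ↥K => ∀ k : ↥K, ConjClasses.mk k = c → ∀ x ∈ P, ∀ k' : ↥K,
      (k' : G) = x * (k : G) * x⁻¹ → ConjClasses.mk k' = c)
    (by rw [← hmain, h1, h2])
  have h4 := h3 (ConjClasses.mk k) (fun k' hk' => by
    have hc : IsConj k' k := ConjClasses.mk_eq_mk_iff_isConj.mp hk'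
    obtain ⟨c, hcc⟩ := isConj_iff.mp hc
    have hc' : IsConj k⁻¹ k'⁻¹ := isConj_iff.mpr ⟨c⁻¹, by rw [← hcc]; group⟩
    exact (hc.trans hk).trans hc')
  have h5 : ∀ x : P, IsConj k (normAct P K hPK x k) := by
    intro x
    exact (ConjClasses.mk_eq_mk_iff_isConj.mp ((hcls _).mp h4 x k rfl)).symm
  obtain ⟨k', hk', hfix⟩ := exists_fixed_of_invariant_class (normAct P K hPK) p hP hK k h5
  refine ⟨k', hk', fun x hx => ?_⟩
  have := congrArg Subtype.val (hfix ⟨x, hx⟩)
  exact this

end Cfsg.Agent.S4911
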