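import Cfsg.Statements.S4449
import Cfsg.Agent.S4911
import Cfsg.Agent.Lib.Helper81.GlaubermanOver
import Cfsg.Agent.Lib.Helper81.GlaubermanOverSolvable
import Cfsg.Agent.Lib.Helper81.IrrTransport

set_option autoImplicit false
open Cfsg

namespace Cfsg.Agent.S4449

open Cfsg.Agent.Lib.Helper81

/-- Inside a finite group Γ let the solvable subgroup S normalise G with the orders of G and S coprime, and let N be a normal subgroup of G normalised by S. Then for every S-invariant irreducible character ϑ of N, the induced character ϑ^G has an S-invariant irreducible constituent. -/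
theorem result {Γ : Type*} [Group Γ] [Fintype Γ] (G S N : Subgroup Γ) [Fintype G] [Fintype N] (hnorm : ∀ s ∈ S, ∀ g ∈ G, s * g * s⁻¹ ∈ G) (hNG : N ≤ G) (hNnormal : ∀ g ∈ G, ∀ n ∈ N, g * n * g⁻¹ ∈ N) (hNS : ∀ s ∈ S, ∀ n ∈ N, s * n * s⁻¹ ∈ N) (hcop : (Nat.card G).Coprime (Nat.card S)) (hsolv : Group.IsSolvable S) (θ : Cfsg.IrrCharacter N) (hinv : (∀ s ∈ S, ∀ g g' : N, (g' : Γ) = s * g * s⁻¹ → (θ : N → ℂ) g' = (θ : N → ℂ) g)) : ∃ χ : Cfsg.IrrCharacter G, Cfsg.classInner (fun n : N => (χ : G → ℂ) ⟨n, hNG n.2⟩) (θ : N → ℂ) ≠ 0 ∧ (∀ s ∈ S, ∀ g g' : G, (g' : Γ) = s * g * s⁻¹ → (χ : G → ℂ) g' = (χ : G → ℂ) g) := by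
  classical
  have hPK : S ≤ Subgroup.normalizer (G : Set Γ) := by
    intro s hs
    rw [Subgroup.mem_normalizer_iff]
    intro h
    constructor
    · intro hh
      exact hnorm s hs h hh
    · intro hh
      have := hnorm s⁻¹ (S.inv_mem hs) _ hh
      have e : s⁻¹ * (s * h * s⁻¹) * s⁻¹⁻¹ = h := by group
      rwa [e] at this
  have hN0normal : (N.subgroupOf G).Normal := by
    constructor
    intro n hn g
    rw [Subgroup.mem_subgroupOf] at hn ⊢
    exact hNnormal g g.2 n hn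
  have := Fintype.ofFinite (N.subgroupOf G)
  have hN0 : ∀ (s : S) (g : G), g ∈ N.subgroupOf G →
      Cfsg.Agent.S4911.normAct S G hPK s g ∈ N.subgroupOf G := by
    intro s g hg
    rw [Subgroup.mem_subgroupOf] at hg ⊢
    exact hNS s s.2 g hg
  let e : N ≃* N.subgroupOf G := (Subgroup.subgroupOfEquivOfLe hNG).symm
  have hθ0 : ∀ (s : S) (m : N.subgroupOf G),
      (irrTransport e θ : N.subgroupOf G → ℂ)
        (actSub (Cfsg.Agent.S4911.normAct S G hPK) (N.subgroupOf G) hN0 s m) =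
      (irrTransport e θ : N.subgroupOf G → ℂ) m := by
    intro s m
    rw [irrTransport_apply, irrTransport_apply]
    exact hinv s s.2 (e.symm m) _ rfl
  obtain ⟨χ, hχ1, hχ2⟩ := exists_invariant_over_of_isSolvable
    (Cfsg.Agent.S4911.normAct S G hPK) (N.subgroupOf G) hN0 hsolv hcop (irrTransport e θ) hθ0
  refine ⟨χ, ?_, ?_⟩
  · have h1 := classInner_irrTransport e
      (fun m : N.subgroupOf G => (χ : G → ℂ) m) θ
    have h2 : (fun c : N => (fun m : N.subgroupOf G => (χ : G → ℂ) m) (e c)) =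
        fun n : N => (χ : G → ℂ) ⟨n, hNG n.2⟩ := rfl
    rw [h2] at h1
    rw [h1]
    exact hχ1
  · intro s hs g g' hg'
    have : g' = Cfsg.Agent.S4911.normAct S G hPK ⟨s, hs⟩ g := Subtype.ext hg'
    rw [this]
    exact hχ2 ⟨s, hs⟩ g

end Cfsg.Agent.S4449
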