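import Cfsg.Statements.S4914
import Cfsg.Agent.S4911
import Cfsg.Agent.Lib.Helper81.RelConcrete

set_option autoImplicit false
open Cfsg

namespace Cfsg.Agent.S4914

open Cfsg.Agent.Lib.Helper81

/-- Let P and K be subgroups of a finite group G with P a p-group normalizing K, and suppose K has a normal Sylow p-subgroup Q. Let C be the subgroup of those k ∈ K whose commutator with every element of P lies in Q (so that C/Q is the fixed-point subgroup of P on K/Q). Then there is a bijection f from the P-invariant irreducible complex characters of K onto the P-invariant irreducible complex characters of C such that, for every P-invariant irreducible character χ of K, the multiplicity of f(χ) in the restriction of χ to C is a natural number congruent to 1 or to −1 modulo p, every other P-invariant irreducible character of C occurs in that restriction with multiplicity divisible by p, and the degrees of χ and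 f(χ) are congruent modulo p up to sign. -/
theorem result {G : Type*} [Group G] [Finite G] (p : ℕ) [Fact p.Prime] (P K Q C : Subgroup G) (hP : IsPGroup p ↥P) (hPK : P ≤ Subgroup.normalizer (K : Set G)) (hQK : Q ≤ K) (hQn : ∀ k ∈ K, ∀ q ∈ Q, k * q * k⁻¹ ∈ Q) (hQp : ∃ a : ℕ, Nat.card ↥Q = p ^ a) (hQsyl : ¬ p ∣ Q.relIndex K) (hCK : C ≤ K) (hC : ∀ k : G, k ∈ C ↔ (k ∈ K ∧ ∀ x ∈ P, x * k * x⁻¹ * k⁻¹ ∈ Q)) : ∃ f : {χ : Cfsg.IrrCharacter ↥K // (∀ x ∈ P, ∀ k k' : ↥K, (k' : G) = x * (k : G) * x⁻¹ → (χ : ↥K → ℂ) k' = (χ : ↥K → ℂ) k)} → {ξ : Cfsg.IrrCharacter ↥C // (∀ x ∈ P, ∀ k k' : ↥C, (k' : G) = x * (k : G) * x⁻¹ → (ξ : ↥C → ℂ) k' = (ξ : ↥C → ℂ) k)}, Function.Bijective f ∧ ∀ χ, (∀ ξ : {ξ : Cfsg.IrrCharacter ↥C // (∀ x ∈ P, ∀ k k' : ↥C, (k' : G) = x * (k : G) * x⁻¹ → (ξ : ↥C → ℂ) k' = (ξ : ↥C → ℂ) k)}, ∃ m : ℕ, (Nat.card ↥C : ℂ)⁻¹ * ∑ᶠ c : ↥C, (χ.1 : ↥K → ℂ) (Subgroup.inclusion hCK c) * (starRingEnd ℂ) ((ξ.1 :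 ↥C → ℂ) c) = (m : ℂ) ∧ (ξ = f χ → ((m : ZMod p) = 1 ∨ (m : ZMod p) = -1)) ∧ (ξ ≠ f χ → p ∣ m)) ∧ ((Cfsg.charDegree ((f χ).1 : ↥C → ℂ) : ZMod p) = (Cfsg.charDegree (χ.1 : ↥K → ℂ) : ZMod p) ∨ (Cfsg.charDegree ((f χ).1 : ↥C → ℂ) : ZMod p) = -(Cfsg.charDegree (χ.1 : ↥K → ℂ) : ZMod p)) := by
  classical
  have hp := (Fact.out : p.Prime)
  have : Fintype ↥K := Fintype.ofFinite _
  have : Fintype ↥C := Fintype.ofFinite _
  -- the abstract data
  let act : ↥P →* MulAut ↥K := Cfsg.Agent.S4911.normAct P K hPK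
  let Q' : Subgroup ↥K := Q.subgroupOf K
  let C' : Subgroup ↥K := C.subgroupOf K
  have hQ'n : Q'.Normal := ⟨fun q hq k => by
    show ((k * q * k⁻¹ : ↥K) : G) ∈ Q
    exact hQn k k.2 q hq⟩
  have : Fintype ↥Q' := Fintype.ofFinite _
  have : Fintype ↥C' := Fintype.ofFinite _
  have : Fintype ↥(Q'.subgroupOf C') := Fintype.ofFinite _
  have hQi : ¬ p ∣ Q'.index := hQsyl
  have hQp' : ∃ k : ℕ, Nat.card Q' = p ^ k := by
    obtain ⟨a, ha⟩ := hQp
    exact ⟨a, by rw [Nat.card_congr (Subgroup.subgroupOfEquivOfLe hQK).toEquiv, ha]⟩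
  have hQs : ActStable act Q' := actStable_of_normal_sylow act p Q' hQp' hQi
  have hC' : ∀ k : ↥K, k ∈ C' ↔ ∀ x : ↥P, act x k * k⁻¹ ∈ Q' := by
    intro k
    show (k : G) ∈ C ↔ _
    rw [hC]
    constructor
    · rintro ⟨_, h⟩ x
      exact h x x.2
    · intro h
      exact ⟨k.2, fun x hx => h ⟨x, hx⟩⟩
  have hCs : ActStable act C' := actStable_of_mem_iff act Q' C' hQs hC'
  have hQC : Q' ≤ C' := by
    intro q hq
    rw [hC']
    intro x
    exact Q'.mul_mem (hQs x q hq) (Q'.inv_mem hq)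
  obtain ⟨f', hf'bij, hf'⟩ := rel_glauberman_abstract act p hP Q' C' hQs hCs hQC hQi hQp' hC'
  -- translation of the invariance conditions
  have hirrK : ∀ χ : IrrCharacter ↥K,
      (∀ x ∈ P, ∀ k k' : ↥K, (k' : G) = x * (k : G) * x⁻¹ →
        (χ : ↥K → ℂ) k' = (χ : ↥K → ℂ) k) ↔
      ∀ (x : ↥P) (k : ↥K), (χ : ↥K → ℂ) (act x k) = (χ : ↥K → ℂ) k := by
    intro χ
    constructor
    · intro h x k
      exact h x x.2 k _ rfl
    · intro h x hx k k' hk'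
      have : k' = act ⟨x, hx⟩ k := Subtype.ext hk'
      rw [this]
      exact h ⟨x, hx⟩ k
  let e : ↥C' ≃* ↥C := Subgroup.subgroupOfEquivOfLe hCK
  have hirrC : ∀ ξ' : IrrCharacter ↥C',
      (∀ (x : ↥P) (c : ↥C'), (ξ' : ↥C' → ℂ) (actSub act C' hCs x c) = (ξ' : ↥C' → ℂ) c) ↔
      (∀ x ∈ P, ∀ k k' : ↥C, (k' : G) = x * (k : G) * x⁻¹ →
        ((irrEquivOfMulEquiv e ξ' : IrrCharacter ↥C) : ↥C → ℂ) k' =
          ((irrEquivOfMulEquiv e ξ' : IrrCharacter ↥C) : ↥C → ℂ) k) := by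
    intro ξ'
    constructor
    · intro h x hx k k' hk'
      show (ξ' : ↥C' → ℂ) (e.symm k') = (ξ' : ↥C' → ℂ) (e.symm k)
      have : e.symm k' = actSub act C' hCs ⟨x, hx⟩ (e.symm k) :=
        Subtype.ext (Subtype.ext hk')
      rw [this]
      exact h ⟨x, hx⟩ (e.symm k)
    · intro h x c
      have h1 := h x x.2 (e c) (e (actSub act C' hCs x c)) rfl
      have h2 : ∀ c : ↥C', ((irrEquivOfMulEquiv e ξ' : IrrCharacter ↥C) : ↥C → ℂ) (e c) =
          (ξ' : ↥C' → ℂ) c := by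
        intro c
        show (ξ' : ↥C' → ℂ) (e.symm (e c)) = _
        rw [MulEquiv.symm_apply_apply]
      rw [h2, h2] at h1
      exact h1
  let D := Equiv.subtypeEquivRight hirrK
  let E : {ξ' : IrrCharacter ↥C' // ∀ (x : ↥P) (c : ↥C'),
        (ξ' : ↥C' → ℂ) (actSub act C' hCs x c) = (ξ' : ↥C' → ℂ) c} ≃
      {ξ : Cfsg.IrrCharacter ↥C // (∀ x ∈ P, ∀ k k' : ↥C, (k' : G) = x * (k : G) * x⁻¹ →
        (ξ : ↥C → ℂ) k' = (ξ : ↥C → ℂ) k)} :=
    Equiv.subtypeEquiv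
      (p := fun ξ' : IrrCharacter ↥C' => ∀ (x : ↥P) (c : ↥C'),
        (ξ' : ↥C' → ℂ) (actSub act C' hCs x c) = (ξ' : ↥C' → ℂ) c)
      (q := fun ξ : Cfsg.IrrCharacter ↥C => ∀ x ∈ P, ∀ k k' : ↥C, (k' : G) = x * (k : G) * x⁻¹ →
        (ξ : ↥C → ℂ) k' = (ξ : ↥C → ℂ) k)
      (irrEquivOfMulEquiv e) hirrC
  refine ⟨fun χ => E (f' (D χ)), E.bijective.comp (hf'bij.comp D.bijective), ?_⟩
  intro χ
  obtain ⟨hmult, hdeg⟩ := hf' (D χ)
  refine ⟨?_, ?_⟩
  · intro ξ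
    obtain ⟨m, hm, hm1, hm2⟩ := hmult (E.symm ξ)
    refine ⟨m, ?_, ?_, ?_⟩
    · rw [finsum_eq_sum_of_fintype]
      have hξ : (ξ.1 : ↥C → ℂ) = ((irrTransport e (E.symm ξ).1 : IrrCharacter ↥C) : ↥C → ℂ) := by
        have h1 : E (E.symm ξ) = ξ := E.apply_symm_apply ξ
        have h2 := congrArg (fun z => ((z.1 : IrrCharacter ↥C) : ↥C → ℂ)) h1
        exact h2.symm
      have h3 := classInner_irrTransport e
        (fun c : ↥C => (χ.1 : ↥K → ℂ) (Subgroup.inclusion hCK c)) (E.symm ξ).1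
      rw [← hξ] at h3
      have h4 : (fun c : ↥C' => (fun c : ↥C => (χ.1 : ↥K → ℂ) (Subgroup.inclusion hCK c)) (e c)) =
          fun c : ↥C' => ((D χ).1 : ↥K → ℂ) c := by
        funext c
        rfl
      rw [h4, hm] at h3
      rw [h3]
      rfl
    · intro hξ
      have h1 : E.symm ξ = f' (D χ) := by
        rw [hξ]
        show E.symm (E (f' (D χ))) = f' (D χ)
        exact E.symm_apply_apply _
      rcases hm1 h1 with h | h
      · left
        have : ((m : ℤ) : ZMod p) = ((1 : ℤ) : ZMod p) := (ZMod.intCast_eq_intCast_iff _ _ p).2 h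
        simpa using this
      · right
        have : ((m : ℤ) : ZMod p) = ((-1 : ℤ) : ZMod p) :=
          (ZMod.intCast_eq_intCast_iff _ _ p).2 h
        simpa using this
    · intro hξ
      apply hm2
      intro h1
      apply hξ
      show ξ = E (f' (D χ))
      rw [← h1]
      exact (E.apply_symm_apply ξ).symm
  · have h1 : ((E (f' (D χ))).1 : IrrCharacter ↥C) = irrTransport e (f' (D χ)).1 := rfl
    show (Cfsg.charDegree (((E (f' (D χ))).1 : IrrCharacter ↥C) : ↥C → ℂ) : ZMod p) =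
        (Cfsg.charDegree (χ.1 : ↥K → ℂ) : ZMod p) ∨
      (Cfsg.charDegree (((E (f' (D χ))).1 : IrrCharacter ↥C) : ↥C → ℂ) : ZMod p) =
        -(Cfsg.charDegree (χ.1 : ↥K → ℂ) : ZMod p)
    rw [h1, charDegree_irrTransport]
    exact hdeg

end Cfsg.Agent.S4914
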