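import Cfsg.Statements.S4866
-- import your own Cfsg.Agent.* helpers here
import Cfsg.Agent.Lib.Helper81.BrauerPerm
import Cfsg.Agent.Lib.Helper81.IrrTwist

set_option autoImplicit false
set_option linter.unusedSectionVars false
set_option linter.style.haveILetI false
set_option linter.unusedSimpArgs false
open Cfsg

namespace Cfsg.Agent.S4866

open scoped ComplexConjugate
open Cfsg.Agent.Lib.Helper78 Cfsg.Agent.Lib.Helper81

/-- Burnside's orbit counting lemma in `Nat.card` form. -/
theorem burnside_natCard (α β : Type*) [Group α] [Fintype α] [MulAction α β] [Finite β] :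
    ∑ a : α, Nat.card (MulAction.fixedBy β a) =
      Nat.card (Quotient (MulAction.orbitRel α β)) * Nat.card α := by
  classical
  have := Fintype.ofFinite β
  have h := MulAction.sum_card_fixedBy_eq_card_orbits_mul_card_group α β
  simp only [Nat.card_eq_fintype_card]
  convert h using 2

section
variable {G : Type*} [Group G] (K : Subgroup G) [K.Normal]

/-- Complex conjugate of an irreducible character, as an irreducible character. -/
noncomputable def barIrr (θ : IrrCharacter K) : IrrCharacter K :=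
  ⟨fun k => conj ((θ : K → ℂ) k), isIrrCharacter_conj θ.2⟩

theorem barIrr_apply (θ : IrrCharacter K) (k : K) :
    (barIrr K θ : K → ℂ) k = conj ((θ : K → ℂ) k) := rfl

theorem barIrr_barIrr (θ : IrrCharacter K) : barIrr K (barIrr K θ) = θ := by
  apply Subtype.ext
  funext k
  simp [barIrr_apply]

theorem barIrr_involutive : Function.Involutive (barIrr K) := barIrr_barIrr K

theorem barIrr_eq_self_iff (θ : IrrCharacter K) :
    barIrr K θ = θ ↔ ∀ k : K, ((θ : K → ℂ) k).im = 0 := by
  constructor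
  · intro h k
    have := congrFun (congrArg Subtype.val h) k
    rw [barIrr_apply] at this
    exact Complex.conj_eq_iff_im.mp this
  · intro h
    apply Subtype.ext
    funext k
    rw [barIrr_apply]
    exact Complex.conj_eq_iff_im.mpr (h k)

theorem barIrr_conjIrr (g : G) (θ : IrrCharacter K) :
    barIrr K (conjIrr K g θ) = conjIrr K g (barIrr K θ) := rfl

theorem conjIrr_of_mem [Finite G] (g : G) (hg : g ∈ K) (θ : IrrCharacter K) : conjIrr K g θ = θ := by
  apply Subtype.ext
  funext n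
  rw [conjIrr_apply]
  have hcf := isClassFunction_irr θ
  have : MulAut.conjNormal g⁻¹ n = (⟨g, hg⟩ : K)⁻¹ * n * (⟨g, hg⟩ : K)⁻¹⁻¹ := by
    apply Subtype.ext
    simp [MulAut.conjNormal_apply]
  rw [this]
  exact hcf n _

theorem conjIrr_pow_of_eq_bar (g : G) (θ : IrrCharacter K) (h : conjIrr K g θ = barIrr K θ)
    (j : ℕ) : conjIrr K (g ^ j) θ = (barIrr K)^[j] θ := by
  induction j with
  | zero => simp [conjIrr_one]
  | succ j ih =>
    rw [pow_succ, conjIrr_mul, h, ← barIrr_conjIrr, ih, Function.iterate_succ_apply']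

/-- The odd-index argument on characters. -/
theorem real_and_fixed_of_odd [Finite G] (hodd : Odd K.index) (g : G) (θ : IrrCharacter K)
    (h : barIrr K (conjIrr K g θ) = θ) : barIrr K θ = θ ∧ conjIrr K g θ = θ := by
  have h1 : conjIrr K g θ = barIrr K θ := by
    rw [← h, barIrr_barIrr]
    rw [h]
  have h2 := conjIrr_pow_of_eq_bar K g θ h1 K.index
  rw [conjIrr_of_mem K _ (Subgroup.pow_index_mem K g) θ,
    (barIrr_involutive K).iterate_odd hodd] at h2
  refine ⟨h2.symm, ?_⟩
  rw [h1, ← h2]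

end


section
variable {G : Type*} [Group G] (K : Subgroup G) [K.Normal]

/-- The real-valued irreducible characters of `K`. -/
abbrev RealIrr : Type _ := {θ : IrrCharacter K // ∀ k : K, ((θ : K → ℂ) k).im = 0}

/-- The elements of `K` that are real in `K`. -/
abbrev RealElt : Type _ := {x : K // IsConj x x⁻¹}

/-- The action of `G` on real irreducible characters of `K`. -/
@[instance_reducible]
noncomputable def actRealIrr : MulAction G (RealIrr K) where
  smul g θ := ⟨conjIrr K g θ.1, fun _ => θ.2 _⟩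
  one_smul θ := Subtype.ext (conjIrr_one K θ.1)
  mul_smul g h θ := Subtype.ext (conjIrr_mul K g h θ.1)

/-- The action of `G` on real elements of `K`. -/
@[instance_reducible]
noncomputable def actRealElt : MulAction G (RealElt K) where
  smul g x := ⟨MulAut.conjNormal g x.1, by
    have := (MulAut.conjNormal g : K ≃* K).toMonoidHom.map_isConj x.2
    simpa using this⟩
  one_smul x := by
    apply Subtype.ext
    show MulAut.conjNormal (1 : G) x.1 = x.1
    simp
  mul_smul g h x := by
    apply Subtype.ext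
    show MulAut.conjNormal (g * h) x.1 = MulAut.conjNormal g (MulAut.conjNormal h x.1)
    simp

theorem actRealIrr_smul_val (g : G) (θ : RealIrr K) :
    (letI := actRealIrr K; (g • θ).1) = conjIrr K g θ.1 := rfl

theorem actRealElt_smul_val (g : G) (x : RealElt K) :
    (letI := actRealElt K; (g • x).1) = MulAut.conjNormal g x.1 := rfl

/-- The relation of the statement on real irreducible characters is the orbit relation. -/
theorem rel_realIrr_iff (θ η : RealIrr K) :
    (∃ g : G, ∀ k k' : K, (k' : G) = g * (k : G) * g⁻¹ →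
      (η.1 : K → ℂ) k' = (θ.1 : K → ℂ) k) ↔
    (letI := actRealIrr K; (MulAction.orbitRel G (RealIrr K)).r θ η) := by
  let _ := actRealIrr K
  constructor
  · rintro ⟨g, hg⟩
    show θ ∈ MulAction.orbit G η
    refine ⟨g⁻¹, ?_⟩
    apply Subtype.ext
    apply Subtype.ext
    funext n
    show (conjIrr K g⁻¹ η.1 : K → ℂ) n = (θ.1 : K → ℂ) n
    rw [conjIrr_apply, inv_inv]
    apply hg
    simp [MulAut.conjNormal_apply]
  · rintro ⟨g, hg⟩
    refine ⟨g⁻¹, ?_⟩
    intro k k' hkk'
    have h1 : (θ.1 : K → ℂ) k = (conjIrr K g η.1 : K → ℂ) k := by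
      rw [← hg]
      rfl
    rw [h1, conjIrr_apply]
    refine congrArg _ (Subtype.ext ?_)
    simp [MulAut.conjNormal_apply, hkk']

/-- The relation of the statement on real elements is the orbit relation. -/
theorem rel_realElt_iff (x y : RealElt K) :
    (∃ g : G, ((y.1 : K) : G) = g * ((x.1 : K) : G) * g⁻¹) ↔
    (letI := actRealElt K; (MulAction.orbitRel G (RealElt K)).r x y) := by
  let _ := actRealElt K
  constructor
  · rintro ⟨g, hg⟩
    show x ∈ MulAction.orbit G y
    refine ⟨g⁻¹, ?_⟩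
    apply Subtype.ext
    apply Subtype.ext
    show ((MulAut.conjNormal g⁻¹ y.1 : K) : G) = x.1
    simp only [MulAut.conjNormal_apply, hg]
    group
  · rintro ⟨g, hg⟩
    refine ⟨g⁻¹, ?_⟩
    have h1 : ((x.1 : K) : G) = ((MulAut.conjNormal g y.1 : K) : G) := by
      rw [← hg]
      rfl
    rw [h1]
    simp only [MulAut.conjNormal_apply]
    group

end


section
variable {G : Type*} [Group G] (K : Subgroup G) [K.Normal]

/-- The odd-index argument on elements: an element of `K` that is real in `G` is real in `K`. -/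
theorem isConj_inv_of_odd [Finite G] (hodd : Odd K.index) (y : K) (h : G)
    (hh : h * (y : G)⁻¹ * h⁻¹ = (y : G)) : IsConj y y⁻¹ := by
  obtain ⟨t, ht⟩ := hodd
  -- h y h⁻¹ = y⁻¹
  have h1 : h * (y : G) * h⁻¹ = (y : G)⁻¹ := by
    have := congrArg (fun z => z⁻¹) hh
    simp only [mul_inv_rev, inv_inv] at this
    rw [← this]
    group
  -- h² commutes with y
  have h2 : Commute (h ^ 2) (y : G) := by
    show h ^ 2 * (y : G) = (y : G) * h ^ 2
    have : h ^ 2 * (y : G) * (h ^ 2)⁻¹ = (y : G) := by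
      calc h ^ 2 * (y : G) * (h ^ 2)⁻¹ = h * (h * (y : G) * h⁻¹) * h⁻¹ := by
            rw [pow_two]; group
        _ = h * (y : G)⁻¹ * h⁻¹ := by rw [h1]
        _ = y := hh
    calc h ^ 2 * (y : G) = (h ^ 2 * (y : G) * (h ^ 2)⁻¹) * h ^ 2 := by group
      _ = (y : G) * h ^ 2 := by rw [this]
  have h3 : Commute ((h ^ 2) ^ t) (y : G) := h2.pow_left t
  have hk : h ^ K.index ∈ K := Subgroup.pow_index_mem K h
  have hpow : h ^ K.index = (h ^ 2) ^ t * h := by
    rw [ht, pow_succ, pow_mul]
  rw [isConj_iff]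
  refine ⟨⟨h ^ K.index, hk⟩, ?_⟩
  apply Subtype.ext
  show h ^ K.index * (y : G) * (h ^ K.index)⁻¹ = (y : G)⁻¹
  rw [hpow]
  calc (h ^ 2) ^ t * h * (y : G) * ((h ^ 2) ^ t * h)⁻¹
      = (h ^ 2) ^ t * (h * (y : G) * h⁻¹) * ((h ^ 2) ^ t)⁻¹ := by group
    _ = (h ^ 2) ^ t * (y : G)⁻¹ * ((h ^ 2) ^ t)⁻¹ := by rw [h1]
    _ = (y : G)⁻¹ := by
      have := h3.inv_right
      rw [this.eq]
      group

/-- The set `A` of pairs `(h, y)` with `h y⁻¹ h⁻¹ = y`. -/
abbrev setA : Type _ := {q : G × K // q.1 * ((q.2 : K) : G)⁻¹ * q.1⁻¹ = ((q.2 : K) : G)}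

/-- The set `B` of pairs `(g, y)` with `y` real in `K` and `g y g⁻¹ = y`. -/
abbrev setB : Type _ :=
  {q : G × K // IsConj q.2 q.2⁻¹ ∧ q.1 * ((q.2 : K) : G) * q.1⁻¹ = ((q.2 : K) : G)}

theorem card_setA_eq_card_setB [Finite G] (hodd : Odd K.index) :
    Nat.card (setA K) = Nat.card (setB K) := by
  classical
  -- choice of an inverting element of K for each K-real y
  have hex : ∀ y : K, ∃ c : K, IsConj y y⁻¹ → c * y⁻¹ * c⁻¹ = y := by
    intro y
    by_cases hy : IsConj y y⁻¹
    · obtain ⟨c, hc⟩ := isConj_iff.mp hy.symm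
      exact ⟨c, fun _ => hc⟩
    · exact ⟨1, fun h => absurd h hy⟩
  choose c hc using hex
  let e : G × K ≃ G × K :=
    { toFun := fun q => (q.1 * ((c q.2 : K) : G)⁻¹, q.2)
      invFun := fun q => (q.1 * ((c q.2 : K) : G), q.2)
      left_inv := fun q => by simp
      right_inv := fun q => by simp }
  refine Nat.card_congr (e.subtypeEquiv ?_)
  rintro ⟨h, y⟩
  show h * (y : G)⁻¹ * h⁻¹ = (y : G) ↔
    IsConj y y⁻¹ ∧ h * ((c y : K) : G)⁻¹ * (y : G) * (h * ((c y : K) : G)⁻¹)⁻¹ = (y : G)
  constructor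
  · intro hh
    have hreal := isConj_inv_of_odd K hodd y h hh
    refine ⟨hreal, ?_⟩
    have hcy : ((c y : K) : G) * (y : G)⁻¹ * ((c y : K) : G)⁻¹ = (y : G) := by
      have := congrArg (Subtype.val) (hc y hreal)
      simpa using this
    have hcy' : ((c y : K) : G)⁻¹ * (y : G) * ((c y : K) : G) = (y : G)⁻¹ := by
      calc ((c y : K) : G)⁻¹ * (y : G) * ((c y : K) : G)
          = ((c y : K) : G)⁻¹ * (((c y : K) : G) * (y : G)⁻¹ * ((c y : K) : G)⁻¹) *
              ((c y : K) : G) := by rw [hcy]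
        _ = (y : G)⁻¹ := by group
    calc h * ((c y : K) : G)⁻¹ * (y : G) * (h * ((c y : K) : G)⁻¹)⁻¹
        = h * (((c y : K) : G)⁻¹ * (y : G) * ((c y : K) : G)) * h⁻¹ := by group
      _ = h * (y : G)⁻¹ * h⁻¹ := by rw [hcy']
      _ = y := hh
  · rintro ⟨hreal, hg⟩
    have hcy : ((c y : K) : G) * (y : G)⁻¹ * ((c y : K) : G)⁻¹ = (y : G) := by
      have := congrArg (Subtype.val) (hc y hreal)
      simpa using this
    calc h * (y : G)⁻¹ * h⁻¹
        = (h * ((c y : K) : G)⁻¹) * (((c y : K) : G) * (y : G)⁻¹ * ((c y : K) : G)⁻¹) *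
            (h * ((c y : K) : G)⁻¹)⁻¹ := by group
      _ = (h * ((c y : K) : G)⁻¹) * (y : G) * (h * ((c y : K) : G)⁻¹)⁻¹ := by rw [hcy]
      _ = y := hg

end


section
variable {G : Type*} [Group G] (K : Subgroup G) [K.Normal]

/-- The twisted permutation `θ ↦ conj (g • θ)` of `Irr(K)`. -/
noncomputable def aG (g : G) (θ : IrrCharacter K) : IrrCharacter K := barIrr K (conjIrr K g θ)

/-- The twisted permutation `y ↦ g y⁻¹ g⁻¹` of `K`. -/
def bG (g : G) (y : K) : K := MulAut.conjNormal g y⁻¹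

theorem bG_bijective (g : G) : Function.Bijective (bG K g) := by
  have : bG K g = (MulAut.conjNormal g : K ≃* K) ∘ (Equiv.inv K) := rfl
  rw [this]
  exact (MulAut.conjNormal g : K ≃* K).bijective.comp (Equiv.inv K).bijective

theorem aG_bG [Finite G] (g : G) (θ : IrrCharacter K) (y : K) :
    (aG K g θ : K → ℂ) (bG K g y) = (θ : K → ℂ) y := by
  show conj ((θ : K → ℂ) (MulAut.conjNormal g⁻¹ (MulAut.conjNormal g y⁻¹))) = (θ : K → ℂ) y
  have : MulAut.conjNormal g⁻¹ (MulAut.conjNormal g y⁻¹) = y⁻¹ := by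
    apply Subtype.ext
    simp only [MulAut.conjNormal_apply]
    group
  rw [this, IsCharacter.inv (IsIrrCharacter.isCharacter θ.2), Complex.conj_conj]

/-- Fixed points of `g` on real irreducible characters correspond to fixed points of `aG g`. -/
theorem card_fixedBy_realIrr [Finite G] (hodd : Odd K.index) (g : G) :
    Nat.card (letI := actRealIrr K; MulAction.fixedBy (RealIrr K) g) =
      Nat.card {θ : IrrCharacter K // aG K g θ = θ} := by
  letI := actRealIrr K
  refine Nat.card_congr ?_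
  refine ⟨fun θ => ⟨θ.1.1, ?_⟩, fun θ => ⟨⟨θ.1, ?_⟩, ?_⟩, ?_, ?_⟩
  · have h1 : conjIrr K g θ.1.1 = θ.1.1 := congrArg Subtype.val θ.2
    have h2 : barIrr K θ.1.1 = θ.1.1 := (barIrr_eq_self_iff K θ.1.1).mpr θ.1.2
    show barIrr K (conjIrr K g θ.1.1) = θ.1.1
    rw [h1, h2]
  · exact (barIrr_eq_self_iff K θ.1).mp (real_and_fixed_of_odd K hodd g θ.1 θ.2).1
  · show g • (⟨θ.1, _⟩ : RealIrr K) = ⟨θ.1, _⟩
    apply Subtype.ext
    exact (real_and_fixed_of_odd K hodd g θ.1 θ.2).2
  · intro θ
    rfl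
  · intro θ
    rfl

end

section
variable {G : Type*} [Group G] (K : Subgroup G) [K.Normal]

theorem sum_card_subtype_eq {α β : Type*} [Fintype α] [Finite β] (P : α → β → Prop) :
    ∑ a : α, Nat.card {b : β // P a b} = Nat.card {q : α × β // P q.1 q.2} := by
  rw [Nat.card_congr (Equiv.subtypeProdEquivSigmaSubtype P), Nat.card_sigma]

/-- The set counted by Brauer's lemma for the pair `(aG g, bG g)`. -/
abbrev setS (g : G) : Type _ := {p : K × K // p.2 * p.1 * p.2⁻¹ = bG K g p.1}

theorem card_fixed_aG_mul [Finite G] (g : G) :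
    Nat.card {θ : IrrCharacter K // aG K g θ = θ} * Nat.card K = Nat.card (setS K g) := by
  have := Fintype.ofFinite K
  have h := brauer_perm_count (G := K) (aG K g) (bG K g) (bG_bijective K g) (aG_bG K g)
  exact_mod_cast h

theorem sum_card_setS [Finite G] [Fintype G] :
    ∑ g : G, Nat.card (setS K g) = Nat.card K * Nat.card (setA K) := by
  rw [sum_card_subtype_eq (fun (g : G) (p : K × K) => p.2 * p.1 * p.2⁻¹ = bG K g p.1),
    ← Nat.card_prod]
  refine Nat.card_congr ?_
  refine ⟨fun t => (t.1.2.2, ⟨(((t.1.2.2 : K) : G)⁻¹ * t.1.1, t.1.2.1), ?_⟩),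
    fun u => ⟨(((u.1 : K) : G) * u.2.1.1, (u.2.1.2, u.1)), ?_⟩, ?_, ?_⟩
  · obtain ⟨⟨g, y, k⟩, h⟩ := t
    have h' : (k : G) * (y : G) * (k : G)⁻¹ = g * (y : G)⁻¹ * g⁻¹ := by
      have := congrArg Subtype.val h
      simpa [bG, MulAut.conjNormal_apply, mul_assoc] using this
    show (k : G)⁻¹ * g * (y : G)⁻¹ * ((k : G)⁻¹ * g)⁻¹ = (y : G)
    calc (k : G)⁻¹ * g * (y : G)⁻¹ * ((k : G)⁻¹ * g)⁻¹
        = (k : G)⁻¹ * (g * (y : G)⁻¹ * g⁻¹) * (k : G) := by group
      _ = (k : G)⁻¹ * ((k : G) * (y : G) * (k : G)⁻¹) * (k : G) := by rw [h']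
      _ = y := by group
  · obtain ⟨k, ⟨⟨h, y⟩, hq⟩⟩ := u
    have hq' : h * (y : G)⁻¹ * h⁻¹ = (y : G) := hq
    show k * y * k⁻¹ = bG K ((k : G) * h) y
    apply Subtype.ext
    simp only [bG, MulAut.conjNormal_apply, Subgroup.coe_mul, Subgroup.coe_inv]
    calc (k : G) * (y : G) * (k : G)⁻¹ = (k : G) * (h * (y : G)⁻¹ * h⁻¹) * (k : G)⁻¹ := by
          rw [hq']
      _ = (k : G) * h * (y : G)⁻¹ * ((k : G) * h)⁻¹ := by group
  · rintro ⟨⟨g, y, k⟩, h⟩
    apply Subtype.ext
    simp
  · rintro ⟨k, ⟨⟨h, y⟩, hq⟩⟩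
    simp

theorem sum_card_fixedBy_realElt [Finite G] [Fintype G] :
    ∑ g : G, Nat.card (letI := actRealElt K; MulAction.fixedBy (RealElt K) g) =
      Nat.card (setB K) := by
  letI := actRealElt K
  have h1 : ∀ g : G, Nat.card (MulAction.fixedBy (RealElt K) g) =
      Nat.card {x : RealElt K // g • x = x} := fun g => rfl
  simp only [h1]
  rw [sum_card_subtype_eq (fun (g : G) (x : RealElt K) => g • x = x)]
  refine Nat.card_congr ?_
  refine ⟨fun t => ⟨(t.1.1, t.1.2.1), t.1.2.2, ?_⟩, fun u => ⟨(u.1.1, ⟨u.1.2, u.2.1⟩), ?_⟩, ?_, ?_⟩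
  · have := congrArg (fun z : RealElt K => ((z.1 : K) : G)) t.2
    simpa [actRealElt_smul_val, MulAut.conjNormal_apply] using this
  · apply Subtype.ext
    apply Subtype.ext
    show ((MulAut.conjNormal u.1.1 u.1.2 : K) : G) = u.1.2
    rw [MulAut.conjNormal_apply]
    exact u.2.2
  · intro t
    rfl
  · intro u
    rfl

end


/-- Let K be a normal subgroup of odd index in the finite group G. Then G has as many orbits on the real-valued irreducible complex characters of K (acting by conjugation) as it has orbits on the conjugacy classes of K that are real in K; equivalently, the number of G-orbits of real-valued irreducible characters of K equals the number of G-conjugacy classes of elements of K that are conjugate in K to their inverses. -/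
theorem result {G : Type*} [Group G] [Finite G] (K : Subgroup G) [K.Normal] (hodd : Odd K.index) : Nat.card (Quot (fun θ η : {θ : Cfsg.IrrCharacter ↥K // (∀ k : ↥K, ((θ : ↥K → ℂ) k).im = 0)} => ∃ g : G, ∀ k k' : ↥K, (k' : G) = g * (k : G) * g⁻¹ → (η.1 : ↥K → ℂ) k' = (θ.1 : ↥K → ℂ) k)) = Nat.card (Quot (fun x y : {x : ↥K // IsConj x x⁻¹} => ∃ g : G, (y.1 : G) = g * x.1 * g⁻¹)) := by
  classical
  have := Fintype.ofFinite G
  -- identify both sides with orbit counts
  have hL : Nat.card (Quot (fun θ η : {θ : Cfsg.IrrCharacter ↥K // (∀ k : ↥K, ((θ : ↥K → ℂ) k).im = 0)} => ∃ g : G, ∀ k k' : ↥K, (k' : G) = g * (k : G) * g⁻¹ → (η.1 : ↥K → ℂ) k' = (θ.1 : ↥K → ℂ) k)) =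
      Nat.card (letI := actRealIrr K; Quotient (MulAction.orbitRel G (RealIrr K))) :=
    Nat.card_congr (Quot.congrRight (fun θ η => rel_realIrr_iff K θ η))
  have hR : Nat.card (Quot (fun x y : {x : ↥K // IsConj x x⁻¹} => ∃ g : G, (y.1 : G) = g * x.1 * g⁻¹)) =
      Nat.card (letI := actRealElt K; Quotient (MulAction.orbitRel G (RealElt K))) :=
    Nat.card_congr (Quot.congrRight (fun x y => rel_realElt_iff K x y))
  rw [hL, hR]
  have hG : 0 < Nat.card G := Nat.card_pos
  have hK : 0 < Nat.card K := Nat.card_pos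
  -- Burnside on both sides
  have b1 := (letI := actRealIrr K; burnside_natCard G (RealIrr K))
  have b2 := (letI := actRealElt K; burnside_natCard G (RealElt K))
  rw [sum_card_fixedBy_realElt K, ← card_setA_eq_card_setB K hodd] at b2
  have b3 : (∑ g : G, Nat.card (letI := actRealIrr K; MulAction.fixedBy (RealIrr K) g)) * Nat.card K =
      Nat.card K * Nat.card (setA K) := by
    rw [Finset.sum_mul, ← sum_card_setS K]
    refine Finset.sum_congr rfl (fun g _ => ?_)
    rw [card_fixedBy_realIrr K hodd g, card_fixed_aG_mul K g]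
  rw [b1, b2] at b3
  have b4 : Nat.card (letI := actRealIrr K; Quotient (MulAction.orbitRel G (RealIrr K))) * (Nat.card G * Nat.card K) =
      Nat.card (letI := actRealElt K; Quotient (MulAction.orbitRel G (RealElt K))) * (Nat.card G * Nat.card K) := by
    rw [← mul_assoc, b3]; ring
  exact Nat.eq_of_mul_eq_mul_right (Nat.mul_pos hG hK) b4

end Cfsg.Agent.S4866
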