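import Cfsg.Statements.S4637
import Cfsg.Agent.S4437
import Cfsg.Agent.S4511
import Cfsg.Agent.Lib.Helper77.BrauerStab
import Cfsg.Agent.Lib.Helper77.NrmAct
import Cfsg.Agent.Lib.Helper82.KleinCount

set_option autoImplicit false
open Cfsg

namespace Cfsg.Agent.S4637

set_option linter.style.haveILetI false

open Cfsg.Agent.Lib Cfsg.Agent.Lib.Helper16 Cfsg.Agent.Lib.Helper77 Cfsg.Agent.Lib.Helper78
  Cfsg.Agent.Lib.Helper79 Cfsg.Agent.Lib.Helper82

attribute [local instance] Cfsg.Agent.Lib.Helper77.nrmMulAction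

/-- Let B be a block of the finite group G relative to a maximal ideal M of the algebraic integers containing 2, with a Klein four defect group P. Let c be a block of C_G(P) inducing B, T the stabilizer of c in N_G(P) and e the index of C_G(P) in T (the inertial index). Then e is 1 or 3, B contains exactly four irreducible characters, and the 2-regular rank of B (its number of irreducible Brauer characters) equals e. -/
theorem result {G : Type*} [Group G] [Finite G] (M : Ideal Cfsg.AlgInt) (hM : Cfsg.IsPModular 2 M) (B : Set (Cfsg.IrrCharacter G)) (hB : Cfsg.IsPBlock M B) (P : Subgroup G) (hPD : Cfsg.IsDefectGroup 2 M B P) (hV : IsKleinFour P) (c : Set (Cfsg.IrrCharacter (Subgroup.centralizer (P : Set G)))) (hc : Cfsg.IsInducedBlock M (Subgroup.centralizer (P : Set G)) c B) (T : Subgroup G) (hT : ∀ g : G, g ∈ T ↔ (g ∈ Subgroup.normalizer (P : Set G) ∧ Cfsg.StabilizesBlock (Subgroup.centralizer (P : Set G)) c g)) (e : ℕ) (he : (Subgroup.centralizer (P : Set G)).relIndex T = e) : (e = 1 ∨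 e = 3) ∧ Nat.card B = 4 ∧ Cfsg.blockRank 2 B = e := by
  classical
  haveI : Fintype G := Fintype.ofFinite G
  haveI : Fintype ↥(Subgroup.centralizer (P : Set G)) := Fintype.ofFinite _
  haveI : Fact (Nat.Prime 2) := ⟨Nat.prime_two⟩
  haveI hMp := isPModular_isPrime hM
  have hP4 : Nat.card P = 4 := hV.card_four
  have hPab : ∀ x ∈ P, ∀ y ∈ P, x * y = y * x := by
    intro x hx y hy
    have := mul_comm_of_exponent_two hV.exponent_two (⟨x, hx⟩ : P) ⟨y, hy⟩
    exact congrArg Subtype.val this
  have hPp : IsPGroup 2 P := isPGroup_of_isDefectGroup hPD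
  have hpairB : IsBrauerPairOf 2 M B P c :=
    Cfsg.Agent.Lib.Helper16.isBrauerPairOf_of_isInducedBlock hM hPp hc
  have hmax : IsMaximalBrauerPair 2 M B P c := isMaximalBrauerPair_of_isDefectGroup hM hpairB hPD
  have hPC : P ≤ Subgroup.centralizer (P : Set G) := le_centralizer_of_le_of_comm hPab le_rfl
  have hH : Subgroup.centralizer (P : Set G) = P ⊔ Subgroup.centralizer (P : Set G) :=
    (sup_eq_right.mpr hPC).symm
  have hTN : T ≤ Subgroup.normalizer (P : Set G) := fun g hg => ((hT g).mp hg).1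
  -- `c` has defect group `P`
  have hbP : IsDefectGroup 2 M c (P.subgroupOf (Subgroup.centralizer (P : Set G))) := by
    haveI hPn : (P.subgroupOf (Subgroup.centralizer (P : Set G))).Normal := by
      constructor
      intro n hn g
      rw [Subgroup.mem_subgroupOf] at hn ⊢
      have hg := g.2 (n : G) hn
      show (g : G) * (n : G) * (g : G)⁻¹ ∈ P
      rw [← hg, mul_inv_cancel_right]
      exact hn
    obtain ⟨Db, hDb⟩ := exists_isDefectGroup 2 hc.1
    have h1 : P.subgroupOf (Subgroup.centralizer (P : Set G)) ≤ Db :=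
      normal_pGroup_le_defectGroup hM (P.subgroupOf (Subgroup.centralizer (P : Set G)))
        hPp.comap_subtype hc.1 hDb
    obtain ⟨E, hE, hle⟩ := Cfsg.Agent.S0917.result 2 M hM _ c hc.1 B hB hc Db hDb
    have h2 : Nat.card E = Nat.card P := by
      rw [card_defectGroup hM hB hE, card_defectGroup hM hB hPD]
    have h3 : Nat.card Db ≤ Nat.card E := by
      rw [← Subgroup.card_subtype (Subgroup.centralizer (P : Set G)) Db]
      exact Nat.le_of_dvd Nat.card_pos (Subgroup.card_dvd_of_le hle)
    have h4 : Nat.card (P.subgroupOf (Subgroup.centralizer (P : Set G))) = Nat.card P :=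
      Nat.card_congr (Subgroup.subgroupOfEquivOfLe hPC).toEquiv
    have hEQ : P.subgroupOf (Subgroup.centralizer (P : Set G)) = Db :=
      Subgroup.eq_of_le_of_card_ge h1 (by rw [h4, ← h2]; exact h3)
    rw [hEQ]
    exact hDb
  -- the stabilizer in the form of S4437
  have hT' : ∀ g : G, g ∈ T ↔ (g ∈ Subgroup.normalizer (P : Set G) ∧ ∀ θ ∈ c,
      ∀ θ' : IrrCharacter (Subgroup.centralizer (P : Set G)),
      (∀ h h' : Subgroup.centralizer (P : Set G), (h' : G) = g * h * g⁻¹ →
        (θ' : _ → ℂ) h' = (θ : _ → ℂ) h) → θ' ∈ c) := by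
    intro g
    rw [hT]
    apply and_congr_right
    intro hg
    have hu := normalizer_le_normalizer_centralizer' P hg
    rw [stabilizesBlock_iff (Subgroup.centralizer (P : Set G)) ⟨g, hu⟩ c]
    constructor
    · intro h θ hθ θ' hθ'
      have := eq_smul_of_isConjCharOf (Subgroup.centralizer (P : Set G)) ⟨g, hu⟩ θ θ' hθ'
      rw [this, ← h]
      exact Set.smul_mem_smul_set hθ
    · intro h
      rw [← stabilizesBlock_iff]
      refine ⟨hu, fun χ hχ => ⟨(⟨g, hu⟩ : Subgroup.normalizer
        ((Subgroup.centralizer (P : Set G) : Subgroup G) : Set G)) • χ, ?_, ?_⟩⟩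
      · exact h χ hχ _ (isConjCharOf_smul (Subgroup.centralizer (P : Set G)) ⟨g, hu⟩ χ)
      · exact isConjCharOf_smul (Subgroup.centralizer (P : Set G)) ⟨g, hu⟩ χ
  have hidx : ¬ 2 ∣ (Subgroup.centralizer (P : Set G)).relIndex T :=
    (Cfsg.Agent.S4437.result 2 M hM P hPp (Subgroup.centralizer (P : Set G)) hH c hc.1 hbP B hc
      T hT').mp hPD
  have h6 : (Subgroup.centralizer (P : Set G)).relIndex T ∣ 6 :=
    relIndex_centralizer_dvd_six P T hP4 hTN
  rw [he] at hidx h6
  have he13 : e = 1 ∨ e = 3 := by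
    have hle : e ≤ 6 := Nat.le_of_dvd (by norm_num) h6
    obtain ⟨m, hm⟩ := h6
    clear hT' hT he hbP
    interval_cases e <;> omega
  -- membership in `T` through pairs
  have hTpair : ∀ t : G, t ∈ T ↔ conjPair t (⟨P, c⟩ : BrauerPairIdx G) = ⟨P, c⟩ := by
    intro t
    rw [hT]
    constructor
    · rintro ⟨h1, h2⟩
      exact conjPair_eq_self_of_stabilizes h1 h2
    · intro h
      exact stabilizes_of_conjPair_eq_self h
  -- heights
  have hdB : blockDefect 2 B = 2 := blockDefect_eq_two_of_card_four hM hB hPD hP4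
  have hh : ∀ χ ∈ B, blockHeight 2 B (χ : G → ℂ) = 0 := by
    intro χ hχ
    by_contra hne
    have := blockHeight_add_two_le hM hB hχ hne
    omega
  have hk4 : Nat.card B = 4 := by
    have h1 := card_le_four hM hmax hP4 hPab hh
    have h2 := four_dvd_card_of_defect_two hM hB hdB hh
    have h3 : 0 < Nat.card B := by
      obtain ⟨χ, hχ⟩ := IsPBlock_nonempty hMp.ne_top hB
      haveI : Finite (IrrCharacter G) := finite_irrCharacter
      haveI : Nonempty B := ⟨⟨χ, hχ⟩⟩
      exact Nat.card_pos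
    obtain ⟨m, hm⟩ := h2
    omega
  refine ⟨he13, hk4, ?_⟩
  -- representatives of the classes of `2`-elements
  set rep : G → G := fun g => Quotient.out (ConjClasses.mk g) with hrep
  have hrepconj : ∀ g : G, IsConj g (rep g) := by
    intro g
    rw [← ConjClasses.mk_eq_mk_iff_isConj]
    exact (Quotient.out_eq (ConjClasses.mk g)).symm
  set X : Finset G := (Finset.univ.filter (fun g : G => ∃ k : ℕ, orderOf g = 2 ^ k)).image rep
    with hXdef
  have hordconj : ∀ g x : G, IsConj g x → orderOf x = orderOf g := by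
    intro g x hgx
    obtain ⟨y, hy⟩ := isConj_iff.mp hgx
    rw [← hy]
    have := orderOf_injective (MulAut.conj y).toMonoidHom (MulAut.conj y).injective g
    simpa [MulAut.conj_apply] using this
  have hX : ∀ x ∈ X, ∃ k : ℕ, orderOf x = 2 ^ k := by
    intro x hx
    obtain ⟨g, hg, rfl⟩ := Finset.mem_image.mp hx
    obtain ⟨k, hk⟩ := (Finset.mem_filter.mp hg).2
    exact ⟨k, by rw [hordconj g _ (hrepconj g), hk]⟩
  have hXrep : ∀ g : G, (∃ k : ℕ, orderOf g = 2 ^ k) → ∃! x, x ∈ X ∧ IsConj g x := by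
    intro g hg
    refine ⟨rep g, ⟨Finset.mem_image.mpr ⟨g, Finset.mem_filter.mpr ⟨Finset.mem_univ _, hg⟩, rfl⟩,
      hrepconj g⟩, ?_⟩
    rintro x ⟨hxX, hgx⟩
    obtain ⟨g', _, rfl⟩ := Finset.mem_image.mp hxX
    have h1 : IsConj g g' := hgx.trans (hrepconj g').symm
    show Quotient.out (ConjClasses.mk g') = Quotient.out (ConjClasses.mk g)
    rw [ConjClasses.mk_eq_mk_iff_isConj.mpr h1]
  have h1X : (1 : G) ∈ X := by
    have h2 : IsConj (1 : G) (rep 1) := hrepconj 1
    have h3 : rep 1 = 1 := by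
      obtain ⟨y, hy⟩ := isConj_iff.mp h2
      rw [← hy]; group
    rw [← h3]
    exact Finset.mem_image.mpr ⟨1, Finset.mem_filter.mpr ⟨Finset.mem_univ _, 0, by simp⟩, rfl⟩
  have hcount := Cfsg.Agent.S4511.result 2 M hM B hB X hX hXrep
  rw [← Finset.add_sum_erase X _ h1X] at hcount
  have hone : ∑ᶠ b ∈ {b : Set (IrrCharacter ↥(Subgroup.centralizer ({(1 : G)} : Set G))) |
      IsInducedBlock M (Subgroup.centralizer ({(1 : G)} : Set G)) b B}, blockRank 2 b =
      blockRank 2 B := finsum_indSet_one hM hB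
  rw [hone, hk4] at hcount
  have hlk : blockRank 2 B < Nat.card B := by
    have h1 := blockRank_card_defect_zero hM hB
    have h2 : blockRank 2 B ≠ Nat.card B := by
      intro h
      have := h1.2.2.mpr h.symm
      omega
    exact lt_of_le_of_ne h1.1 h2
  rcases he13 with h1 | h3
  · -- trivial inertial quotient
    have hT1 : ∀ t : G, conjPair t (⟨P, c⟩ : BrauerPairIdx G) = ⟨P, c⟩ →
        t ∈ Subgroup.centralizer (P : Set G) := by
      intro t ht
      have htT : t ∈ T := (hTpair t).mpr ht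
      rw [h1] at he
      exact (Subgroup.relIndex_eq_one.mp he) htT
    have h3le := three_le_sum_indSet hM hmax hP4 hPab hT1 X hX hXrep
    have hl1 : 1 ≤ blockRank 2 B := by
      obtain ⟨χ, hχ⟩ := IsPBlock_nonempty hMp.ne_top hB
      unfold blockRank
      rw [Nat.one_le_iff_ne_zero, Ne, Submodule.finrank_eq_zero, Submodule.span_eq_bot]
      intro h0
      exact pRegularPart_ne_zero 2 χ (h0 _ ⟨χ, hχ, rfl⟩)
    unfold indSet at h3le
    rw [h1]
    omega
  · -- inertial quotient of order three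
    have htrans : ∀ u ∈ P, u ≠ 1 → ∀ v ∈ P, v ≠ 1 →
        ∃ t : G, conjPair t (⟨P, c⟩ : BrauerPairIdx G) = ⟨P, c⟩ ∧ t * u * t⁻¹ = v := by
      intro u hu hu1 v hv hv1
      rw [h3] at he
      obtain ⟨t, htT, ht⟩ := exists_conj_eq_of_relIndex_eq_three P T hP4 hTN he hu hu1 hv hv1
      exact ⟨t, (hTpair t).mp htT, ht⟩
    have hle1 := sum_indSet_le_one hM hmax hP4 hPab htrans X hX hXrep
    unfold indSet at hle1
    rw [hk4] at hlk
    rw [h3]
    omega

end Cfsg.Agent.S4637
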