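import Cfsg.Statements.S4669
import Cfsg.Agent.Lib.Helper82.RankQuotient
import Cfsg.Agent.Lib.Helper82.BlockInflation
import Cfsg.Agent.Lib.Helper78.BlockRankDefect
import Cfsg.Agent.Lib.Helper78.DefectOrder
import Cfsg.Agent.S0914
import Cfsg.Agent.S0941

set_option autoImplicit false
open Cfsg

namespace Cfsg.Agent.S4669

set_option linter.style.haveILetI false

open Cfsg.Agent.Lib.Helper16 Cfsg.Agent.Lib.Helper78 Cfsg.Agent.Lib.Helper82 Cfsg.Agent.Lib.Helper77

theorem inflate_coe {G : Type*} [Group G] (N : Subgroup G) [N.Normal]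
    (ψ : IrrCharacter (G ⧸ N)) :
    (inflate N ψ : G → ℂ) = (ψ : G ⧸ N → ℂ) ∘ (QuotientGroup.mk : G → G ⧸ N) := rfl

/-- Fix a prime p and a maximal ideal M of the algebraic integers containing p. If the p-block B of the finite group G has a defect group P contained in the centre of G, then B has p-regular rank one (a single irreducible Brauer character). -/
theorem result {G : Type*} [Group G] [Fintype G] (p : ℕ) [Fact p.Prime] (M : Ideal Cfsg.AlgInt) (hM : Cfsg.IsPModular p M) (B : Set (Cfsg.IrrCharacter G)) (hB : Cfsg.IsPBlock M B) (P : Subgroup G) (hD : Cfsg.IsDefectGroup p M B P) (hPZ : P ≤ Subgroup.center G) : Cfsg.blockRank p B = 1 := by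
  classical
  have hp : p.Prime := Fact.out
  haveI hMp := isPModular_isPrime hM
  have hMtop : M ≠ ⊤ := hMp.ne_top
  -- `P` is a normal `p`-subgroup with full centralizer
  haveI hPn : P.Normal := by
    constructor
    intro n hn g
    have := Subgroup.mem_center_iff.mp (hPZ hn) g
    have e : g * n * g⁻¹ = n := by rw [this, mul_inv_cancel_right]
    rw [e]; exact hn
  have hcard := card_defectGroup hM hB hD
  have hPp : IsPGroup p P := IsPGroup.of_card hcard
  have hcent : Subgroup.centralizer (P : Set G) = ⊤ := by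
    rw [eq_top_iff]
    intro g _
    rw [Subgroup.mem_centralizer_iff]
    intro n hn
    exact (Subgroup.mem_center_iff.mp (hPZ hn) g).symm
  have hC : ∃ k : ℕ, (Subgroup.centralizer (P : Set G)).index = p ^ k :=
    ⟨0, by rw [hcent, Subgroup.index_top, pow_zero]⟩
  haveI : Fintype (G ⧸ P) := Fintype.ofFinite _
  haveI : Fintype P := Fintype.ofFinite _
  rw [blockRank_eq_blockRank_quotient p P hM hPp hC hB]
  -- the quotient set is a singleton
  obtain ⟨θ, hθB, hθ⟩ := exists_mem_block_forall_mem_eq P hM hPp hB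
  obtain ⟨ψ₀, hψ₀B⟩ : ∃ ψ₀ : IrrCharacter (G ⧸ P), inflate P ψ₀ ∈ B :=
    ⟨deflate P θ hθ, by rw [inflate_deflate]; exact hθB⟩
  have hS0941 := (Cfsg.Agent.S0941.result p M hM P hPp hC).1
  -- degrees
  have hdeg : ∀ ψ : IrrCharacter (G ⧸ P), inflate P ψ ∈ B →
      ¬ p ∣ Nat.card (G ⧸ P) / charDegree (ψ : G ⧸ P → ℂ) := by
    intro ψ hψ
    have hdvd : charDegree (ψ : G ⧸ P → ℂ) ∣ Nat.card (G ⧸ P) :=
      Cfsg.Agent.Lib.Helper79.irr_charDegree_dvd_card ψ
    rw [not_dvd_div_iff_factorization_eq hp hdvd Nat.card_pos.ne']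
    have hle : (charDegree (ψ : G ⧸ P → ℂ)).factorization p ≤
        (Nat.card (G ⧸ P)).factorization p :=
      (Nat.factorization_le_iff_dvd (IsIrrCharacter.charDegree_pos ψ.2).ne' Nat.card_pos.ne').mpr
        hdvd p
    -- the degree of the inflation
    have hdegeq : charDegree (inflate P ψ : G → ℂ) = charDegree (ψ : G ⧸ P → ℂ) := by
      unfold charDegree
      rw [inflate_apply, QuotientGroup.mk_one]
    have h1 : sInf ((fun χ : IrrCharacter G => (charDegree (χ : G → ℂ)).factorization p) '' B) ≤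
        (charDegree (inflate P ψ : G → ℂ)).factorization p := Nat.sInf_le ⟨inflate P ψ, hψ, rfl⟩
    rw [hdegeq] at h1
    have hdef : blockDefect p B = (Nat.card G).factorization p -
        sInf ((fun χ : IrrCharacter G => (charDegree (χ : G → ℂ)).factorization p) '' B) := rfl
    have hmul : Nat.card P * P.index = Nat.card G := Subgroup.card_mul_index P
    have hidx : Nat.card (G ⧸ P) = P.index := (Subgroup.index_eq_card P).symm
    have hfac : (Nat.card G).factorization p =
        blockDefect p B + (Nat.card (G ⧸ P)).factorization p := by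
      rw [← hmul, hidx, Nat.factorization_mul Nat.card_pos.ne' Subgroup.index_ne_zero_of_finite,
        hcard]
      simp [hp.factorization_self]
    omega
  have hsing : {ψ : IrrCharacter (G ⧸ P) | inflate P ψ ∈ B} = {ψ₀} := by
    ext ψ
    rw [Set.mem_ofPred_eq, Set.mem_singleton_iff]
    constructor
    · intro hψ
      have hsame : SameBlock M ((ψ₀ : G ⧸ P → ℂ) ∘ QuotientGroup.mk)
          ((ψ : G ⧸ P → ℂ) ∘ QuotientGroup.mk) := by
        have h0 := sameBlock_of_mem hB hψ₀B hψ
        rw [inflate_coe, inflate_coe] at h0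
        exact h0
      have h2 : ψ ∈ blockOf M (ψ₀ : G ⧸ P → ℂ) := (hS0941 ψ₀ ψ).mpr hsame
      rw [Cfsg.Agent.S0914.block_singleton_of_defect_zero p M hM ψ₀ (hdeg ψ₀ hψ₀B)] at h2
      exact h2
    · rintro rfl
      exact hψ₀B
  rw [hsing]
  exact blockRank_singleton p ψ₀

end Cfsg.Agent.S4669
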