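import Cfsg.Statements.S5029
import Cfsg.Agent.Lib.Helper83.RootComm

set_option autoImplicit false
open Cfsg

namespace Cfsg.Agent.S5029

open Cfsg.Agent.Lib.Helper83
open scoped commutatorElement

section
variable {G : Type*} [Group G] {S : Set (Subgroup G)} {A B E : Subgroup G}

/-- `b a b⁻¹ = c a` when `a b a⁻¹ b⁻¹ = c⁻¹`. -/
lemma exists_conj_eq (h : Cfsg.RootCommutatorCase S A B) {a : G} (ha : a ∈ A) (ha1 : a ≠ 1)
    {c : G} (hc : c ∈ ⁅A, B⁆) : ∃ b ∈ B, b * a * b⁻¹ = c * a := by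
  obtain ⟨b, hb, hbc⟩ := RootSet.exists_commutator_eq h ha ha1 (Subgroup.inv_mem _ hc)
  refine ⟨b, hb, ?_⟩
  have e : b * a * b⁻¹ = (a * b * a⁻¹ * b⁻¹)⁻¹ * a := by group
  rw [e, hbc, inv_inv]

lemma comm_AC (h : Cfsg.RootCommutatorCase S A B) : ∀ a ∈ A, ∀ c ∈ ⁅A, B⁆, a * c = c * a :=
  fun a ha c hc => (h.2.1 c hc a (Subgroup.mem_sup_left ha)).symm

/-- Covering of `A ⊔ C`. -/
lemma cover (h : Cfsg.RootCommutatorCase S A B) {x : G} (hx : x ∈ A ⊔ ⁅A, B⁆) :
    x ∈ ⁅A, B⁆ ∨ ∃ b ∈ B, x ∈ Cfsg.conjBy A b := by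
  obtain ⟨a, ha, c, hc, rfl⟩ := (mem_sup_of_commute (comm_AC h)).mp hx
  by_cases ha1 : a = 1
  · left; rw [ha1, one_mul]; exact hc
  · right
    obtain ⟨b, hb, hbc⟩ := exists_conj_eq h ha ha1 hc
    refine ⟨b, hb, ?_⟩
    rw [comm_AC h a ha c hc, ← hbc]
    exact conj_mem_conjBy ha

lemma conj_le (b : G) (hb : b ∈ B) : Cfsg.conjBy A b ≤ A ⊔ ⁅A, B⁆ := by
  intro x hx
  rw [mem_conjBy] at hx
  have e : x = ⁅b, b⁻¹ * x * b⁆ * (b⁻¹ * x * b) := by
    rw [commutatorElement_def]; group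
  rw [e]
  refine Subgroup.mul_mem _ (Subgroup.mem_sup_right ?_) (Subgroup.mem_sup_left hx)
  rw [Subgroup.commutator_comm]
  exact Subgroup.commutator_mem_commutator hb hx

lemma conj_inf_C (hS : Cfsg.IsRootSubgroupSet S) (h : Cfsg.RootCommutatorCase S A B) (hE : E ∈ S)
    (hAE : Cfsg.IsRankOnePair A E) {b : G} (hb : b ∈ B) : Cfsg.conjBy A b ⊓ ⁅A, B⁆ = ⊥ := by
  have h1 : Cfsg.conjBy ⁅A, B⁆ b = ⁅A, B⁆ :=
    conjBy_commutator_of_mem_sup A B (Subgroup.mem_sup_right hb)
  conv_lhs => rw [← h1]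
  rw [← conjBy_inf, RootSet.left_inf_commutator hS h hE hAE, conjBy_bot]

/-- A member of `S` inside `C = ⁅A, B⁆` equals `C`. -/
lemma eq_of_le_commutator (hS : Cfsg.IsRootSubgroupSet S) (hA : A ∈ S) (hB : B ∈ S)
    (h : Cfsg.RootCommutatorCase S A B) (hE : E ∈ S) (hAE : Cfsg.IsRankOnePair A E)
    {D : Subgroup G} (hD : D ∈ S) (hDC : D ≤ ⁅A, B⁆) : D = ⁅A, B⁆ := by
  have hC : ⁅A, B⁆ ∈ S := h.1
  obtain ⟨d, hd1⟩ := (Subgroup.ne_bot_iff_exists_ne_one).mp (hS.ne_bot D hD)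
  have hdD : (d : G) ∈ D := d.2
  have hdC : (d : G) ∈ ⁅A, B⁆ := hDC hdD
  have hd1' : (d : G) ≠ 1 := by simpa using hd1
  obtain ⟨a, ha, ha1⟩ := RankOne.exists_ne_one_left hAE
  rcases hS.pair _ hC E hE with h1 | h1 | h1
  · -- C commutes with E: contradiction with `central_eq_one`
    exfalso
    apply hd1'
    obtain ⟨b, hb, hbd⟩ := exists_conj_eq h ha ha1 hdC
    have hz : (d : G) ∈ Subgroup.centralizer ((A ⊔ E : Subgroup G) : Set G) := by
      have hle : A ⊔ E ≤ Subgroup.centralizer ({(d : G)} : Set G) := by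
        refine sup_le ?_ ?_
        · intro a' ha'
          rw [Subgroup.mem_centralizer_iff]
          rintro m rfl
          exact (comm_AC h a' ha' _ hdC).symm
        · intro e he
          rw [Subgroup.mem_centralizer_iff]
          rintro m rfl
          exact RootSet.commute_of_commutator_eq_bot h1 hdC he
      rw [Subgroup.mem_centralizer_iff]
      intro x hx
      exact (Subgroup.mem_centralizer_iff.mp (hle hx) d rfl).symm
    have hmem : (d : G) * a ∈ Cfsg.conjBy A b := by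
      rw [← hbd]; exact conj_mem_conjBy ha
    have hne : (d : G) * a ≠ 1 := by
      rw [← hbd]
      intro h2
      apply ha1
      have : a = b⁻¹ * (b * a * b⁻¹) * b := by group
      rw [this, h2]; group
    exact RootSet.central_eq_one hS hA hE hAE hz ha ha1 (hS.conj_mem A hA b) hmem hne
  · exact (RootSet.eq_of_inf_ne_bot hS hE hD h1 hdC hdD hd1').symm
  · rcases hS.pair D hD E hE with h2 | h2 | h2
    · exfalso
      apply hS.ne_bot _ h1.1
      rw [← h1.2.2.1 d hdC hd1', Subgroup.closure_eq_bot_iff]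
      rintro y ⟨e, he, rfl⟩
      simp only [Set.mem_singleton_iff]
      rw [RootSet.commute_of_commutator_eq_bot h2 hdD he]
      group
    · exact RootSet.eq_of_inf_ne_bot hS hE hC h2 hdD hdC hd1'
    · -- both in the commutator case with E
      have hF : ⁅D, E⁆ = ⁅⁅A, B⁆, E⁆ := by
        rw [← h2.2.2.1 d hdD hd1', ← h1.2.2.1 d hdC hd1']
      have hEC := RootSet.commCase_symm h1
      have hED := RootSet.commCase_symm h2
      obtain ⟨e, he, he1⟩ := RankOne.exists_ne_one_right hAE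
      have hEA := RankOnePair_symm hAE
      apply le_antisymm hDC
      intro c hc
      have h3 : e * c * e⁻¹ * c⁻¹ ∈ ⁅E, D⁆ := by
        rw [Subgroup.commutator_comm E D, hF, Subgroup.commutator_comm _ E]
        exact Subgroup.commutator_mem_commutator he hc
      obtain ⟨d', hd', hd'c⟩ := RootSet.exists_commutator_eq hED he he1 h3
      have hinj := RootSet.commHom_injective hS hE hEC hA hEA he he1
      have h4 : (⟨d', hDC hd'⟩ : ↥(⁅A, B⁆)) = ⟨c, hc⟩ := by
        apply hinj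
        rw [RootSet.commHom_apply, RootSet.commHom_apply]
        exact hd'c
      have h5 : d' = c := congrArg Subtype.val h4
      rw [← h5]; exact hd'

end

/-- Let S be a set of abstract root subgroups of G, A ∈ S having a rank one partner in S, and B ∈ S with C = ⁅A, B⁆ ∈ S. Then the members of S contained in AC are the conjugates of A by elements of B together with C, they partition AC, the members of S inside AC partition AC so that A is a line partner of C, and for every non-identity a ∈ A the map b ↦ a⁻¹ b⁻¹ a b is an isomorphism from B onto C. -/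
theorem result {G : Type*} [Group G] {S : Set (Subgroup G)} (hS : Cfsg.IsRootSubgroupSet S)
    {A B : Subgroup G} (hA : ¬ Cfsg.IsIsolatedIn (Cfsg.FAdj S) S A) (hAS : A ∈ S) (hB : B ∈ S) (hC : ⁅A, B⁆ ∈ S) :
    Cfsg.membersIn S (A ⊔ ⁅A, B⁆) = (fun b : G => Cfsg.conjBy A b) '' (B : Set G) ∪ {⁅A, B⁆} ∧
    Cfsg.IsSubgroupPartition (A ⊔ ⁅A, B⁆) (Cfsg.membersIn S (A ⊔ ⁅A, B⁆)) ∧
    A ∈ Cfsg.linePartners S ⁅A, B⁆ ∧
    ∀ a ∈ A, a ≠ 1 → ∃ φ : ↥B ≃* ↥⁅A, B⁆, ∀ b : ↥B, (φ b : G) = a⁻¹ * (b : G)⁻¹ * a * b := by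
  obtain ⟨E, hE, hAE⟩ := RootSet.rankOnePair_of_not_isolated hA hAS
  have h := RootSet.commCase_of_commutator_mem hS hAS hB hC
  -- (1)
  have h1 : Cfsg.membersIn S (A ⊔ ⁅A, B⁆) =
      (fun b : G => Cfsg.conjBy A b) '' (B : Set G) ∪ {⁅A, B⁆} := by
    ext D
    constructor
    · rintro ⟨hD, hDle⟩
      by_cases hex : ∃ d ∈ D, d ≠ 1 ∧ ∃ b ∈ B, d ∈ Cfsg.conjBy A b
      · obtain ⟨d, hd, hd1, b, hb, hdb⟩ := hex
        left
        refine ⟨b, hb, ?_⟩
        exact RootSet.eq_of_inf_ne_bot hS (hS.conj_mem E hE b) hD (RankOne.conj hAE b) hdb hd hd1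
      · right
        push Not at hex
        have hDC : D ≤ ⁅A, B⁆ := by
          intro d hd
          by_cases hd1 : d = 1
          · rw [hd1]; exact Subgroup.one_mem _
          · rcases cover h (hDle hd) with h2 | ⟨b, hb, h2⟩
            · exact h2
            · exact absurd h2 (hex d hd hd1 b hb)
        exact eq_of_le_commutator hS hAS hB h hE hAE hD hDC
    · rintro (⟨b, hb, rfl⟩ | hD)
      · exact ⟨hS.conj_mem A hAS b, conj_le b hb⟩
      · rw [Set.mem_singleton_iff] at hD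
        rw [hD]
        exact ⟨hC, le_sup_right⟩
  -- (2)
  have h2 : Cfsg.IsSubgroupPartition (A ⊔ ⁅A, B⁆) (Cfsg.membersIn S (A ⊔ ⁅A, B⁆)) := by
    refine ⟨fun D hD => hD.2, ?_, ?_⟩
    · intro x hx hx1
      rcases cover h hx with h3 | ⟨b, hb, h3⟩
      · exact ⟨⁅A, B⁆, ⟨hC, le_sup_right⟩, h3⟩
      · exact ⟨Cfsg.conjBy A b, ⟨hS.conj_mem A hAS b, conj_le b hb⟩, h3⟩
    · intro D hD D' hD' hne
      have key : ∀ b ∈ B, ∀ D' ∈ S, Cfsg.conjBy A b ≠ D' → Cfsg.conjBy A b ⊓ D' = ⊥ := by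
        intro b hb D' hD' hne
        by_contra hbot
        obtain ⟨x, hx1⟩ := (Subgroup.ne_bot_iff_exists_ne_one).mp hbot
        have hx := Subgroup.mem_inf.mp x.2
        exact hne (RootSet.eq_of_inf_ne_bot hS (hS.conj_mem E hE b) hD' (RankOne.conj hAE b)
          hx.1 hx.2 (by simpa using hx1))
      rw [h1] at hD hD'
      rcases hD with ⟨b, hb, rfl⟩ | hD
      · exact key b hb D' (hS.conj_mem A hAS b |> fun _ => by
          rcases hD' with ⟨b', _, rfl⟩ | hD'
          · exact hS.conj_mem A hAS b'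
          · rw [Set.mem_singleton_iff] at hD'; rw [hD']; exact hC) hne
      · rcases hD' with ⟨b', hb', rfl⟩ | hD'
        · rw [inf_comm]
          rw [Set.mem_singleton_iff] at hD
          exact key b' hb' D (by rw [hD]; exact hC) hne.symm
        · rw [Set.mem_singleton_iff] at hD hD'
          exact absurd (hD.trans hD'.symm) hne
  -- (3)
  have h3 : A ∈ Cfsg.linePartners S ⁅A, B⁆ := by
    refine ⟨⟨hAS, RootSet.left_ne_commutator hS h, ?_⟩, ?_⟩
    · rw [Subgroup.commutator_eq_bot_iff_le_centralizer]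
      intro c hc
      rw [Subgroup.mem_centralizer_iff]
      intro a ha
      exact comm_AC h a ha c hc
    · rw [sup_comm]; exact h2
  refine ⟨h1, h2, h3, ?_⟩
  -- (4)
  intro a ha ha1
  have ha' : a⁻¹ ∈ A := A.inv_mem ha
  have ha1' : a⁻¹ ≠ 1 := by simpa using ha1
  have hmem : ∀ b : ↥B, a⁻¹ * (b : G)⁻¹ * a * b ∈ ⁅A, B⁆ := by
    intro b
    have := Subgroup.commutator_mem_commutator ha' (B.inv_mem b.2)
    rw [commutatorElement_def] at this
    simpa using this
  let ψ : ↥B →* ↥(⁅A, B⁆) :=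
    { toFun := fun b => ⟨a⁻¹ * (b : G)⁻¹ * a * b, hmem b⟩
      map_one' := by
        apply Subtype.ext; simp
      map_mul' := by
        intro b b'
        apply Subtype.ext
        have hc := RootSet.commutator_central h ha' (B.inv_mem b.2) (b' : G)
          (Subgroup.mem_sup_right b'.2)
        simp only [inv_inv] at hc
        have hcomm := RootSet.mul_comm_of_mem hS hC (hmem b) (hmem b')
        simp only [Subgroup.coe_mul]
        have e : a⁻¹ * ((b : G) * (b' : G))⁻¹ * a * ((b : G) * (b' : G)) =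
            (a⁻¹ * (b' : G)⁻¹ * a * b') * ((b' : G)⁻¹ * (a⁻¹ * (b : G)⁻¹ * a * b) * b') := by group
        have e2 : (b' : G)⁻¹ * (a⁻¹ * (b : G)⁻¹ * a * b) * b' = a⁻¹ * (b : G)⁻¹ * a * b := by
          rw [mul_assoc, hc]; group
        rw [e, e2, hcomm] }
  have hψ : ∀ b : ↥B, ((ψ b : ↥(⁅A, B⁆)) : G) = a⁻¹ * (b : G)⁻¹ * a * b := fun b => rfl
  have hκ : ∀ b : ↥B, ((ψ b : ↥(⁅A, B⁆)) : G) = RootSet.commHom h ha' b⁻¹ := by
    intro b
    rw [hψ, RootSet.commHom_apply]
    simp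
  have hbij : Function.Bijective ψ := by
    constructor
    · intro b b' hbb
      have h5 : RootSet.commHom h ha' b⁻¹ = RootSet.commHom h ha' b'⁻¹ := by
        rw [← hκ, ← hκ, hbb]
      have := RootSet.commHom_injective hS hAS h hE hAE ha' ha1' h5
      exact inv_injective this
    · intro c
      obtain ⟨b₀, hb₀, hb₀c⟩ := RootSet.exists_commutator_eq h ha' ha1' c.2
      refine ⟨⟨b₀, hb₀⟩⁻¹, ?_⟩
      apply Subtype.ext
      rw [hκ, inv_inv, RootSet.commHom_apply]
      exact hb₀c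
  exact ⟨MulEquiv.ofBijective ψ hbij, fun b => rfl⟩

end Cfsg.Agent.S5029
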