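import Cfsg.Statements.S5031
import Cfsg.Agent.Lib.Helper83.RootLine

set_option autoImplicit false
open Cfsg

namespace Cfsg.Agent.S5031

open Cfsg.Agent.Lib.Helper83

section
variable {G : Type*} [Group G] {S : Set (Subgroup G)}

lemma fadj_symm {A B : Subgroup G} (h : Cfsg.FAdj S A B) : Cfsg.FAdj S B A :=
  ⟨h.2.1, h.1, RankOnePair_symm h.2.2⟩

lemma rtg_symm {A B : Subgroup G} (h : Relation.ReflTransGen (Cfsg.FAdj S) A B) :
    Relation.ReflTransGen (Cfsg.FAdj S) B A := by
  induction h with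
  | refl => exact Relation.ReflTransGen.refl
  | tail _ hbc ih => exact Relation.ReflTransGen.head (fadj_symm hbc) ih

lemma component_eq_of_rtg {A B : Subgroup G}
    (h : Relation.ReflTransGen (Cfsg.FAdj S) A B) :
    Cfsg.componentOf (Cfsg.FAdj S) S A = Cfsg.componentOf (Cfsg.FAdj S) S B := by
  have h' : Relation.ReflTransGen (Cfsg.FAdj S) B A := rtg_symm h
  ext C
  constructor
  · rintro ⟨hC, hAC⟩; exact ⟨hC, h'.trans hAC⟩
  · rintro ⟨hC, hBC⟩; exact ⟨hC, h.trans hBC⟩

lemma exists_partner_of_component {A : Subgroup G}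
    (hA2 : ∃ A' ∈ Cfsg.componentOf (Cfsg.FAdj S) S A, A' ≠ A) :
    ∃ E ∈ S, Cfsg.IsRankOnePair A E := by
  obtain ⟨A', ⟨_, hrtg⟩, hne⟩ := hA2
  rcases Relation.ReflTransGen.cases_head hrtg with h | ⟨C, hAC, _⟩
  · exact absurd h.symm hne
  · exact ⟨C, hAC.2.1, hAC.2.2⟩

end

/-- Let S be a set of abstract root subgroups of G and let A, B ∈ S lie in different connected components of the graph of rank one pairs on S, each component having more than one member. Then B is not a line partner of A. -/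
theorem result {G : Type*} [Group G] {S : Set (Subgroup G)} (hS : Cfsg.IsRootSubgroupSet S)
    {A B : Subgroup G} (hA : A ∈ S) (hB : B ∈ S)
    (hne : Cfsg.componentOf (Cfsg.FAdj S) S A ≠ Cfsg.componentOf (Cfsg.FAdj S) S B)
    (hA2 : ∃ A' ∈ Cfsg.componentOf (Cfsg.FAdj S) S A, A' ≠ A) (hB2 : ∃ B' ∈ Cfsg.componentOf (Cfsg.FAdj S) S B, B' ≠ B) :
    B ∉ Cfsg.linePartners S A := by
  intro hBA
  obtain ⟨E, hE, hAE⟩ := exists_partner_of_component hA2
  obtain ⟨E', hE', hBE'⟩ := exists_partner_of_component hB2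
  obtain ⟨D, hD, hAD, hBD⟩ := RootSet.exists_common_partner hS hA hE hE' hAE hBE' hBA
  apply hne
  apply component_eq_of_rtg
  have h1 : Cfsg.FAdj S A D := ⟨hA, hD, hAD⟩
  have h2 : Cfsg.FAdj S D B := ⟨hD, hB, RankOnePair_symm hBD⟩
  exact (Relation.ReflTransGen.single h1).trans (Relation.ReflTransGen.single h2)

end Cfsg.Agent.S5031
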