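import Cfsg.Statements.S5032
import Cfsg.Agent.Lib.Helper83.RootLine
import Cfsg.Agent.S5031

set_option autoImplicit false
open Cfsg

namespace Cfsg.Agent.S5032

open Cfsg.Agent.Lib.Helper83
open Cfsg.Agent.S5031 (fadj_symm rtg_symm)

section
variable {G : Type*} [Group G] {S : Set (Subgroup G)}

/-- Along a path in `𝓕(S)` all vertices are conjugate. -/
lemma conj_of_rtg {A B : Subgroup G} (h : Relation.ReflTransGen (Cfsg.FAdj S) A B) :
    ∃ g : G, B = Cfsg.conjBy A g := by
  induction h with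
  | refl => exact ⟨1, (conjBy_one A).symm⟩
  | tail _ hbc ih =>
    obtain ⟨g, rfl⟩ := ih
    obtain ⟨x, _, hx⟩ := RankOne.right_mem_unipotentSubgroups hbc.2.2
    exact ⟨x * g, by rw [hx, conjBy_conjBy]⟩

/-- The one-step lemma: conjugating `C ∈ S` by an element of a member `D` of `S` stays in the
connected component of `C`, provided all members of `S` are non-isolated. -/
lemma step (hS : Cfsg.IsRootSubgroupSet S)
    (hni : ∀ C ∈ S, ∃ E ∈ S, Cfsg.IsRankOnePair C E)
    {C D : Subgroup G} (hC : C ∈ S) (hD : D ∈ S) {d : G} (hd : d ∈ D) :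
    Relation.ReflTransGen (Cfsg.FAdj S) C (Cfsg.conjBy C d) := by
  rcases hS.pair C hC D hD with h | h | h
  · -- commuting
    have : Cfsg.conjBy C d = C := by
      rw [conjBy_eq_self_iff]
      apply Subgroup.centralizer_le_normalizer _
      rw [Subgroup.mem_centralizer_iff]
      intro c hc
      exact RootSet.commute_of_commutator_eq_bot h hc hd
    rw [this]
  · -- rank one
    have h1 : Cfsg.FAdj S C D := ⟨hC, hD, h⟩
    have h2 := RankOne.conj h d
    rw [conjBy_of_mem hd] at h2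
    have h3 : Cfsg.FAdj S D (Cfsg.conjBy C d) := ⟨hD, hS.conj_mem C hC d, Cfsg.RankOnePair_symm h2⟩
    exact (Relation.ReflTransGen.single h1).trans (Relation.ReflTransGen.single h3)
  · -- commutator case
    by_cases hCC : Cfsg.conjBy C d = C
    · rw [hCC]
    have hd1 : d ≠ 1 := by
      rintro rfl
      exact hCC (conjBy_one C)
    obtain ⟨E, hE, hCE⟩ := hni C hC
    have hC'S : Cfsg.conjBy C d ∈ S := hS.conj_mem C hC d
    have hE'S : Cfsg.conjBy E d ∈ S := hS.conj_mem E hE d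
    have hC'E' : Cfsg.IsRankOnePair (Cfsg.conjBy C d) (Cfsg.conjBy E d) := RankOne.conj hCE d
    have hle : Cfsg.conjBy C d ≤ C ⊔ ⁅C, D⁆ := Cfsg.Agent.S5029.conj_le d hd
    -- C ⊔ C' = C ⊔ ⁅C, D⁆
    have hsup : C ⊔ Cfsg.conjBy C d = C ⊔ ⁅C, D⁆ := by
      apply le_antisymm
      · exact sup_le le_sup_left hle
      · refine sup_le le_sup_left ?_
        rw [← h.2.2.2 d hd hd1, Subgroup.closure_le]
        rintro _ ⟨c, hc, rfl⟩
        have e : c * d * c⁻¹ * d⁻¹ = c * (d * c⁻¹ * d⁻¹) := by group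
        simp only [e]
        exact Subgroup.mul_mem _ (Subgroup.mem_sup_left hc)
          (Subgroup.mem_sup_right (conj_mem_conjBy (C.inv_mem hc)))
    -- C and C' commute
    have hcomm : ⁅C, Cfsg.conjBy C d⁆ = ⊥ := by
      rw [Subgroup.commutator_eq_bot_iff_le_centralizer]
      intro c hc
      rw [Subgroup.mem_centralizer_iff]
      intro x hx
      have hx' := hle hx
      obtain ⟨a, ha, φ, hφ, rfl⟩ :=
        (mem_sup_of_commute (Cfsg.Agent.S5029.comm_AC h)).mp hx'
      have h1 : a * c = c * a := by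
        have := hS.commutative C hC
        exact setLike_mul_comm ha hc
      have h2 : φ * c = c * φ := h.2.1 φ hφ c (Subgroup.mem_sup_left hc)
      calc a * φ * c = a * (φ * c) := mul_assoc _ _ _
        _ = a * (c * φ) := by rw [h2]
        _ = (a * c) * φ := (mul_assoc _ _ _).symm
        _ = (c * a) * φ := by rw [h1]
        _ = c * (a * φ) := mul_assoc _ _ _
    have hres := Cfsg.Agent.S5029.result hS (RootSet.not_isolated_of_pair hC hE hCE) hC hD h.1
    have hline : Cfsg.conjBy C d ∈ Cfsg.linePartners S C := by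
      refine ⟨⟨hC'S, hCC, hcomm⟩, ?_⟩
      rw [hsup]
      exact hres.2.1
    obtain ⟨D₁, hD₁, h1, h2⟩ :=
      RootSet.exists_common_partner hS hC hE hE'S hCE hC'E' hline
    have e1 : Cfsg.FAdj S C D₁ := ⟨hC, hD₁, h1⟩
    have e2 : Cfsg.FAdj S D₁ (Cfsg.conjBy C d) := ⟨hD₁, hC'S, Cfsg.RankOnePair_symm h2⟩
    exact (Relation.ReflTransGen.single e1).trans (Relation.ReflTransGen.single e2)

/-- The subgroup of elements stabilizing the component of `A`. -/
def stabComp (S : Set (Subgroup G)) (A : Subgroup G) : Subgroup G where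
  carrier := {g | ∀ C ∈ Cfsg.componentOf (Cfsg.FAdj S) S A,
    Cfsg.conjBy C g ∈ Cfsg.componentOf (Cfsg.FAdj S) S A ∧
    Cfsg.conjBy C g⁻¹ ∈ Cfsg.componentOf (Cfsg.FAdj S) S A}
  one_mem' := by
    intro C hC
    simp only [inv_one, conjBy_one]
    exact ⟨hC, hC⟩
  mul_mem' := by
    intro g h hg hh C hC
    constructor
    · rw [← conjBy_conjBy]
      exact (hg _ (hh C hC).1).1
    · rw [mul_inv_rev, ← conjBy_conjBy]
      exact (hh _ (hg C hC).2).2
  inv_mem' := by
    intro g hg C hC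
    rw [inv_inv]
    exact ⟨(hg C hC).2, (hg C hC).1⟩

lemma mem_stabComp {A : Subgroup G} {g : G} :
    g ∈ stabComp S A ↔ ∀ C ∈ Cfsg.componentOf (Cfsg.FAdj S) S A,
      Cfsg.conjBy C g ∈ Cfsg.componentOf (Cfsg.FAdj S) S A ∧
      Cfsg.conjBy C g⁻¹ ∈ Cfsg.componentOf (Cfsg.FAdj S) S A := Iff.rfl

end

/-- Let S be a set of abstract root subgroups of G with more than one member. Then the graph of rank one pairs on S is connected if and only if S is a single conjugacy class of G and some member of S has a rank one partner in S. -/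
theorem result {G : Type*} [Group G] {S : Set (Subgroup G)} (hS : Cfsg.IsRootSubgroupSet S) (h2 : ∃ A ∈ S, ∃ B ∈ S, A ≠ B) :
    Cfsg.IsConnectedFamily (Cfsg.FAdj S) S ↔
      (Cfsg.IsConjClassOfSubgroups S ∧ ∃ A ∈ S, ¬ Cfsg.IsIsolatedIn (Cfsg.FAdj S) S A) := by
  constructor
  · intro hconn
    obtain ⟨A₀, hA₀, B₀, hB₀, hne⟩ := h2
    refine ⟨⟨⟨A₀, hA₀⟩, fun A hA B hB => conj_of_rtg (hconn A hA B hB)⟩, A₀, hA₀, ?_⟩
    rcases Relation.ReflTransGen.cases_head (hconn A₀ hA₀ B₀ hB₀) with h | ⟨C, hAC, _⟩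
    · exact absurd h hne
    · exact RootSet.not_isolated_of_pair hA₀ hAC.2.1 hAC.2.2
  · rintro ⟨⟨_, hconj⟩, A₀, hA₀, hniso⟩
    obtain ⟨E₀, hE₀, hA₀E₀⟩ := RootSet.rankOnePair_of_not_isolated hniso hA₀
    have hni : ∀ C ∈ S, ∃ E ∈ S, Cfsg.IsRankOnePair C E := by
      intro C hC
      obtain ⟨g, rfl⟩ := hconj A₀ hA₀ C hC
      exact ⟨Cfsg.conjBy E₀ g, hS.conj_mem E₀ hE₀ g, RankOne.conj hA₀E₀ g⟩
    intro A hA B hB
    have hT : stabComp S A = ⊤ := by
      rw [eq_top_iff, ← hS.generates]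
      refine iSup₂_le ?_
      intro D hD d hd
      rw [mem_stabComp]
      intro C hC
      refine ⟨⟨hS.conj_mem C hC.1 d, hC.2.trans (step hS hni hC.1 hD hd)⟩,
        ⟨hS.conj_mem C hC.1 d⁻¹, hC.2.trans (step hS hni hC.1 hD (D.inv_mem hd))⟩⟩
    obtain ⟨g, rfl⟩ := hconj A hA B hB
    have hg : g ∈ stabComp S A := by rw [hT]; exact Subgroup.mem_top g
    exact ((mem_stabComp.mp hg) A ⟨hA, Relation.ReflTransGen.refl⟩).1.2

end Cfsg.Agent.S5032
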