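import Cfsg.Statements.S5035
import Cfsg.Agent.Lib.Helper83.RootLine
import Cfsg.Agent.S5032

set_option autoImplicit false
open Cfsg

namespace Cfsg.Agent.S5035

open Cfsg.Agent.Lib.Helper83

section
variable {G H : Type*} [Group G] [Group H] {S : Set (Subgroup G)}

lemma map_conjBy (f : G →* H) (A : Subgroup G) (g : G) :
    (Cfsg.conjBy A g).map f = Cfsg.conjBy (A.map f) (f g) := by
  ext y
  rw [mem_conjBy, Subgroup.mem_map, Subgroup.mem_map]
  constructor
  · rintro ⟨x, hx, rfl⟩
    rw [mem_conjBy] at hx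
    refine ⟨g⁻¹ * x * g, hx, ?_⟩
    simp
  · rintro ⟨x, hx, hxy⟩
    refine ⟨g * x * g⁻¹, conj_mem_conjBy hx, ?_⟩
    rw [map_mul, map_mul, hxy, map_inv]
    group

lemma map_isNilpotent (f : G →* H) {A : Subgroup G} (h : Group.IsNilpotent A) :
    Group.IsNilpotent (A.map f) :=
  Group.nilpotent_of_surjective (f.subgroupMap A) (f.subgroupMap_surjective A)

lemma map_rankOneCondition (f : G →* H) {A B : Subgroup G} (h : Cfsg.RankOneCondition A B)
    (hne : A.map f ≠ B.map f) : Cfsg.RankOneCondition (A.map f) (B.map f) := by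
  rintro _ ⟨a, ha, rfl⟩ ha1
  have ha1' : a ≠ 1 := by
    rintro rfl
    exact ha1 (map_one f)
  obtain ⟨b, hb, _, heq⟩ := h a ha ha1'
  have heq' : Cfsg.conjBy (A.map f) (f b)⁻¹ = Cfsg.conjBy (B.map f) (f a)⁻¹ := by
    rw [← map_inv, ← map_inv, ← map_conjBy, ← map_conjBy, heq]
  refine ⟨f b, Subgroup.mem_map_of_mem f hb, ?_, heq'⟩
  intro hfb
  apply hne
  rw [hfb, inv_one, conjBy_one] at heq'
  have h1 : Cfsg.conjBy (A.map f) (f a) = B.map f := by
    rw [heq', conjBy_conjBy_inv]
  rw [← h1, conjBy_of_mem (Subgroup.mem_map_of_mem f ha)]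

lemma map_rankOnePair (f : G →* H) {A B : Subgroup G} (h : Cfsg.IsRankOnePair A B)
    (hne : A.map f ≠ B.map f) : Cfsg.IsRankOnePair (A.map f) (B.map f) :=
  ⟨hne, map_isNilpotent f h.nilpotent_left, map_isNilpotent f h.nilpotent_right,
    map_rankOneCondition f h.cond_left hne, map_rankOneCondition f h.cond_right hne.symm⟩

lemma map_closure_comm_left (f : G →* H) (a : G) (B : Subgroup G) :
    Subgroup.closure ((fun b : H => f a * b * (f a)⁻¹ * b⁻¹) '' ((B.map f : Subgroup H) : Set H)) =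
      (Subgroup.closure ((fun b : G => a * b * a⁻¹ * b⁻¹) '' (B : Set G))).map f := by
  rw [MonoidHom.map_closure]
  congr 1
  ext y
  constructor
  · rintro ⟨_, ⟨b, hb, rfl⟩, rfl⟩
    exact ⟨_, ⟨b, hb, rfl⟩, by simp⟩
  · rintro ⟨_, ⟨b, hb, rfl⟩, rfl⟩
    exact ⟨f b, ⟨b, hb, rfl⟩, by simp⟩

lemma map_closure_comm_right (f : G →* H) (A : Subgroup G) (b : G) :
    Subgroup.closure ((fun a : H => a * f b * a⁻¹ * (f b)⁻¹) '' ((A.map f : Subgroup H) : Set H)) =
      (Subgroup.closure ((fun a : G => a * b * a⁻¹ * b⁻¹) '' (A : Set G))).map f := by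
  rw [MonoidHom.map_closure]
  congr 1
  ext y
  constructor
  · rintro ⟨_, ⟨a, ha, rfl⟩, rfl⟩
    exact ⟨_, ⟨a, ha, rfl⟩, by simp⟩
  · rintro ⟨_, ⟨a, ha, rfl⟩, rfl⟩
    exact ⟨f a, ⟨a, ha, rfl⟩, by simp⟩

lemma map_commCase (f : G →* H) {A B : Subgroup G} (h : Cfsg.RootCommutatorCase S A B) :
    Cfsg.RootCommutatorCase ((fun A : Subgroup G => A.map f) '' S) (A.map f) (B.map f) := by
  have hcomm : ⁅A.map f, B.map f⁆ = (⁅A, B⁆).map f := (Subgroup.map_commutator A B f).symm
  refine ⟨?_, ?_, ?_, ?_⟩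
  · rw [hcomm]
    exact ⟨_, h.1, rfl⟩
  · intro c hc x hx
    rw [hcomm] at hc
    rw [← Subgroup.map_sup] at hx
    obtain ⟨c₀, hc₀, rfl⟩ := hc
    obtain ⟨x₀, hx₀, rfl⟩ := hx
    rw [← map_mul, ← map_mul, h.2.1 c₀ hc₀ x₀ hx₀]
  · rintro _ ⟨a, ha, rfl⟩ ha1
    have ha1' : a ≠ 1 := by
      rintro rfl
      exact ha1 (map_one f)
    rw [map_closure_comm_left, h.2.2.1 a ha ha1', hcomm]
  · rintro _ ⟨b, hb, rfl⟩ hb1
    have hb1' : b ≠ 1 := by
      rintro rfl
      exact hb1 (map_one f)
    rw [map_closure_comm_right, h.2.2.2 b hb hb1', hcomm]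

lemma map_rtg (f : G →* H) {A B : Subgroup G}
    (h : Relation.ReflTransGen (Cfsg.FAdj S) A B) :
    Relation.ReflTransGen (Cfsg.FAdj ((fun A : Subgroup G => A.map f) '' S)) (A.map f) (B.map f) := by
  induction h with
  | refl => exact Relation.ReflTransGen.refl
  | @tail C D _ hCD ih =>
    by_cases hne : C.map f = D.map f
    · rw [← hne]; exact ih
    · exact ih.tail ⟨⟨C, hCD.1, rfl⟩, ⟨D, hCD.2.1, rfl⟩, map_rankOnePair f hCD.2.2 hne⟩

end

/-- Let S be a set of abstract root subgroups of G whose graph of rank one pairs is connected, and f a homomorphism from G onto a group H. Then either the images of the members of S form a set of abstract root subgroups of H whose graph of rank one pairs is again connected, or H equals the image of a member of S. -/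
theorem result {G H : Type*} [Group G] [Group H] {S : Set (Subgroup G)} (hS : Cfsg.IsRootSubgroupSet S)
    (hc : Cfsg.IsConnectedFamily (Cfsg.FAdj S) S) (f : G →* H) (hf : Function.Surjective f) :
    (Cfsg.IsRootSubgroupSet ((fun A : Subgroup G => A.map f) '' S) ∧
      Cfsg.IsConnectedFamily (Cfsg.FAdj ((fun A : Subgroup G => A.map f) '' S)) ((fun A : Subgroup G => A.map f) '' S)) ∨
    ∃ A ∈ S, A.map f = ⊤ := by
  have hgen : (⨆ A ∈ S, (A.map f : Subgroup H)) = ⊤ := by
    have h1 : (⨆ A ∈ S, (A.map f : Subgroup H)) = (⨆ A ∈ S, A).map f := by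
      rw [Subgroup.map_iSup]
      congr 1
      funext A
      rw [Subgroup.map_iSup]
    rw [h1, hS.generates, Subgroup.map_top_of_surjective f hf]
  by_cases hbot : ∃ A ∈ S, A.map f = ⊥
  · right
    obtain ⟨A, hA, hAbot⟩ := hbot
    refine ⟨A, hA, ?_⟩
    rw [hAbot, ← hgen]
    symm
    rw [eq_bot_iff]
    refine iSup₂_le ?_
    intro B hB
    obtain ⟨g, rfl⟩ := Cfsg.Agent.S5032.conj_of_rtg (hc A hA B hB)
    rw [map_conjBy, hAbot, conjBy_bot]
  · left
    push Not at hbot
    constructor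
    · refine ⟨?_, ?_, ?_, ?_, ?_⟩
      · rintro _ ⟨A, hA, rfl⟩
        have := hS.commutative A hA
        exact Subgroup.map_isMulCommutative A f
      · rintro _ ⟨A, hA, rfl⟩
        exact hbot A hA
      · rw [← hgen]
        exact iSup_image
      · rintro _ ⟨A, hA, rfl⟩ g'
        obtain ⟨g, rfl⟩ := hf g'
        exact ⟨_, hS.conj_mem A hA g, map_conjBy f A g⟩
      · rintro _ ⟨A, hA, rfl⟩ _ ⟨B, hB, rfl⟩
        rcases hS.pair A hA B hB with h | h | h
        · left
          show ⁅A.map f, B.map f⁆ = ⊥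
          rw [← Subgroup.map_commutator, h, Subgroup.map_bot]
        · by_cases hne : A.map f = B.map f
          · left
            show ⁅A.map f, B.map f⁆ = ⊥
            rw [← hne, ← Subgroup.map_commutator]
            have hAA : ⁅A, A⁆ = ⊥ := by
              rw [Subgroup.commutator_eq_bot_iff_le_centralizer]
              intro a ha
              rw [Subgroup.mem_centralizer_iff]
              intro x hx
              have := hS.commutative A hA
              exact setLike_mul_comm hx ha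
            rw [hAA, Subgroup.map_bot]
          · right; left
            exact map_rankOnePair f h hne
        · right; right
          exact map_commCase f h
    · rintro _ ⟨A, hA, rfl⟩ _ ⟨B, hB, rfl⟩
      exact map_rtg f (hc A hA B hB)

end Cfsg.Agent.S5035
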