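import Cfsg.Statements.S5038
import Cfsg.Agent.Lib.Helper83.RootTriple

set_option autoImplicit false
open Cfsg

namespace Cfsg.Agent.S5038

open Cfsg.Agent.Lib.Helper83
open scoped commutatorElement

section
variable {G : Type*} [Group G] {S : Set (Subgroup G)}

/-- `R` contains elements fixing `M` and acting transitively on the other members of `L`. -/
def FixTrans (L : Set (Subgroup G)) (R : Subgroup G) (M : Subgroup G) : Prop :=
  ∀ P ∈ L, ∀ Q ∈ L, P ≠ M → Q ≠ M → ∃ x ∈ R, Cfsg.conjBy M x = M ∧ Cfsg.conjBy P x = Q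

lemma fixTrans_of_orbit {L : Set (Subgroup G)} {R F M A₁ : Subgroup G} (hFR : F ≤ R)
    (hfix : ∀ f ∈ F, Cfsg.conjBy M f = M)
    (hL : L = (fun f : G => Cfsg.conjBy A₁ f) '' (F : Set G) ∪ {M}) : FixTrans L R M := by
  intro P hP Q hQ hPM hQM
  rw [hL] at hP hQ
  rcases hP with ⟨f, hf, rfl⟩ | hP
  · rcases hQ with ⟨f', hf', rfl⟩ | hQ
    · refine ⟨f' * f⁻¹, hFR (F.mul_mem hf' (F.inv_mem hf)),
        hfix _ (F.mul_mem hf' (F.inv_mem hf)), ?_⟩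
      simp only [conjBy_conjBy]
      congr 1
      group
    · exact absurd hQ hQM
  · exact absurd hP hPM

/-- Abstract double transitivity from two point stabilizers acting transitively. -/
lemma two_transitive {L : Set (Subgroup G)} {R : Subgroup G}
    (hR : ∀ x ∈ R, ∀ M ∈ L, Cfsg.conjBy M x ∈ L)
    (h3 : ∀ P ∈ L, ∀ Q ∈ L, ∃ M ∈ L, M ≠ P ∧ M ≠ Q)
    {M₀ M₁ : Subgroup G} (hM₀ : M₀ ∈ L) (hne : M₀ ≠ M₁)
    (h0 : FixTrans L R M₀) (h1 : FixTrans L R M₁) :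
    ∀ C₁ ∈ L, ∀ C₂ ∈ L, ∀ D₁ ∈ L, ∀ D₂ ∈ L, C₁ ≠ C₂ → D₁ ≠ D₂ →
      ∃ x ∈ R, Cfsg.conjBy C₁ x = D₁ ∧ Cfsg.conjBy C₂ x = D₂ := by
  -- every member has the property
  have hall : ∀ M ∈ L, FixTrans L R M := by
    intro M hM
    by_cases hMM₁ : M = M₁
    · rw [hMM₁]; exact h1
    by_cases hMM₀ : M = M₀
    · rw [hMM₀]; exact h0
    obtain ⟨x, hx, _, hxM⟩ := h1 M₀ hM₀ M hM hne hMM₁
    intro P hP Q hQ hPM hQM
    have hx' : x⁻¹ ∈ R := R.inv_mem hx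
    have hP' : Cfsg.conjBy P x⁻¹ ≠ M₀ := by
      intro h
      apply hPM
      rw [conjBy_eq_iff, inv_inv] at h
      rw [h, hxM]
    have hQ' : Cfsg.conjBy Q x⁻¹ ≠ M₀ := by
      intro h
      apply hQM
      rw [conjBy_eq_iff, inv_inv] at h
      rw [h, hxM]
    obtain ⟨y, hy, hyM, hyP⟩ := h0 _ (hR _ hx' P hP) _ (hR _ hx' Q hQ) hP' hQ'
    refine ⟨x * y * x⁻¹, R.mul_mem (R.mul_mem hx hy) hx', ?_, ?_⟩
    · rw [← hxM]
      simp only [conjBy_conjBy]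
      have e : x * y * x⁻¹ * x = x * y := by group
      rw [e, ← conjBy_conjBy, hyM]
    · have e : Cfsg.conjBy P (x * y * x⁻¹) = Cfsg.conjBy (Cfsg.conjBy (Cfsg.conjBy P x⁻¹) y) x := by
        simp only [conjBy_conjBy, mul_assoc]
      rw [e, hyP, conjBy_conjBy_inv]
  intro C₁ hC₁ C₂ hC₂ D₁ hD₁ D₂ hD₂ hC hD
  -- step a: move C₁ to D₁
  obtain ⟨x, hx, hx1⟩ : ∃ x ∈ R, Cfsg.conjBy C₁ x = D₁ := by
    by_cases h : C₁ = D₁
    · exact ⟨1, R.one_mem, by rw [conjBy_one, h]⟩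
    · obtain ⟨M, hM, hMC, hMD⟩ := h3 C₁ hC₁ D₁ hD₁
      obtain ⟨x, hx, _, hx1⟩ := hall M hM C₁ hC₁ D₁ hD₁ (Ne.symm hMC) (Ne.symm hMD)
      exact ⟨x, hx, hx1⟩
  have hC₂' : Cfsg.conjBy C₂ x ≠ D₁ := by
    rw [← hx1]
    intro h
    exact hC (conjBy_inj.mp h).symm
  obtain ⟨y, hy, hy1, hy2⟩ := hall D₁ hD₁ _ (hR x hx C₂ hC₂) D₂ hD₂ hC₂' (Ne.symm hD)
  refine ⟨y * x, R.mul_mem hy hx, ?_, ?_⟩
  · rw [← conjBy_conjBy, hx1, hy1]
  · rw [← conjBy_conjBy, hy2]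

/-- A rank one pair does not commute. -/
lemma not_commute_of_rankOne {C C' : Subgroup G} (h : Cfsg.IsRankOnePair C C')
    (hc : ⁅C, C'⁆ = ⊥) : False := by
  obtain ⟨c', hc', hc'1⟩ := RankOne.exists_ne_one_right h
  apply hc'1
  apply RankOne.eq_one_of_mem_of_mem_normalizer' h hc'
  apply Subgroup.centralizer_le_normalizer _
  rw [Subgroup.mem_centralizer_iff]
  intro c hcC
  exact mul_comm_of_commutator_eq_bot hc hcC hc'

/-- Lemma X: a common rank one partner `C` of the commuting members `A`, `B` (with `A ⊔ B` covered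
by members of `S`) is not a partner of some third member `D ≤ A ⊔ B`. -/
lemma exists_nonpartner {A B C : Subgroup G}
    (hAB : ⁅A, B⁆ = ⊥) (hinf : A ⊓ B = ⊥)
    (hcover : ∀ x ∈ A ⊔ B, x ≠ 1 → ∃ D ∈ Cfsg.membersIn S (A ⊔ B), x ∈ D)
    (hAC : Cfsg.IsRankOnePair A C) (hBC : Cfsg.IsRankOnePair B C) :
    ∃ D ∈ Cfsg.membersIn S (A ⊔ B), D ≠ A ∧ D ≠ B ∧ ¬ Cfsg.IsRankOnePair D C ∧
      ∃ b ∈ B, b ≠ 1 ∧ b ∈ A ⊔ D := by
  obtain ⟨c, hc, hc1⟩ := RankOne.exists_ne_one_right hAC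
  obtain ⟨a, ha, ha1, hCa⟩ := hAC.cond_right c hc hc1
  obtain ⟨b, hb, hb1, hCb⟩ := hBC.cond_right c hc hc1
  have hcomm : ⁅C, Cfsg.conjBy C (a * b⁻¹)⁆ = ⊥ := by
    have h1 : ⁅Cfsg.conjBy C a⁻¹, Cfsg.conjBy C b⁻¹⁆ = ⊥ := by
      rw [hCa, hCb, ← conjBy_commutator, hAB, conjBy_bot]
    have h2 := congrArg (fun H => Cfsg.conjBy H a) h1
    simp only [conjBy_commutator, conjBy_bot, conjBy_conjBy, mul_inv_cancel, conjBy_one] at h2
    exact h2
  have hinf' : ∀ x, x ∈ A → x ∈ B → x = 1 := by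
    intro x hxA hxB
    have : x ∈ A ⊓ B := Subgroup.mem_inf.mpr ⟨hxA, hxB⟩
    rwa [hinf, Subgroup.mem_bot] at this
  have hg : a * b⁻¹ ∈ A ⊔ B :=
    Subgroup.mul_mem _ (Subgroup.mem_sup_left ha) (Subgroup.mem_sup_right (B.inv_mem hb))
  have hg1 : a * b⁻¹ ≠ 1 := by
    intro h
    apply ha1
    have hab : a = b := by rwa [mul_inv_eq_one] at h
    exact hinf' a ha (hab ▸ hb)
  obtain ⟨D, hD, hgD⟩ := hcover _ hg hg1
  refine ⟨D, hD, ?_, ?_, ?_, b, hb, hb1, ?_⟩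
  · rintro rfl
    apply hb1
    have : b⁻¹ ∈ D := by
      have : b⁻¹ = a⁻¹ * (a * b⁻¹) := by group
      rw [this]; exact D.mul_mem (D.inv_mem ha) hgD
    have hbD : b ∈ D := by simpa using D.inv_mem this
    exact hinf' b hbD hb
  · rintro rfl
    apply ha1
    have : a ∈ D := by
      have : a = (a * b⁻¹) * b := by group
      rw [this]; exact D.mul_mem hgD hb
    exact hinf' a ha this
  · intro hDC
    have hCD := Cfsg.RankOnePair_symm hDC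
    have hC' : Cfsg.conjBy C (a * b⁻¹) ∈ Cfsg.unipotentSubgroups C D :=
      ⟨a * b⁻¹, Subgroup.mem_sup_right hgD, rfl⟩
    have hne : C ≠ Cfsg.conjBy C (a * b⁻¹) := by
      intro h
      apply hg1
      apply RankOne.eq_one_of_mem_of_mem_normalizer hDC hgD
      rw [← conjBy_eq_self_iff]
      exact h.symm
    obtain ⟨hpair, _⟩ := RankOne.pair_of_mem_unipotentSubgroups hCD
      RankOne.left_mem_unipotentSubgroups hC' hne
    exact not_commute_of_rankOne hpair hcomm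
  · have : b = (a * b⁻¹)⁻¹ * a := by group
    rw [this]
    exact Subgroup.mul_mem _ (Subgroup.inv_mem _ (Subgroup.mem_sup_right hgD))
      (Subgroup.mem_sup_left ha)

/-- Lemma Y: for commuting `A ≠ M` with `A ⊔ M` covered, and `C` a rank one partner of `A` but not
of `M`, the member `F = ⁅M, C⁆` fixes `M` and is transitive on the other members in `A ⊔ M`. -/
lemma pointed (hS : Cfsg.IsRootSubgroupSet S)
    (hF : ∀ A ∈ S, ¬ Cfsg.IsIsolatedIn (Cfsg.FAdj S) S A) {A M C : Subgroup G}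
    (hA : A ∈ S) (hM : M ∈ S) (hC : C ∈ S) (hAM : ⁅A, M⁆ = ⊥) (hne : A ≠ M)
    (hcover : ∀ x ∈ A ⊔ M, x ≠ 1 → ∃ D ∈ S, x ∈ D)
    (hAC : Cfsg.IsRankOnePair A C) (hMC : ¬ Cfsg.IsRankOnePair M C) :
    ∃ F ∈ S, (∀ f ∈ F, Cfsg.conjBy M f = M) ∧ (∀ f ∈ F, Cfsg.conjBy A f ≤ A ⊔ M) ∧
      Cfsg.membersIn S (A ⊔ M) = (fun f : G => Cfsg.conjBy A f) '' (F : Set G) ∪ {M} ∧
      Cfsg.IsSubgroupPartition (A ⊔ M) (Cfsg.membersIn S (A ⊔ M)) := by
  obtain ⟨E', hE', hME'⟩ := RootSet.rankOnePair_of_not_isolated (hF M hM) hM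
  obtain ⟨hMCc, hAF, hK⟩ := RootSet.half hS hA hM hC hE' hAC hME' hAM hne hcover hMC
  refine ⟨⁅M, C⁆, hMCc.1, ?_, ?_, ?_, ?_⟩
  · intro f hf
    rw [conjBy_eq_self_iff]
    apply Subgroup.centralizer_le_normalizer _
    rw [Subgroup.mem_centralizer_iff]
    intro m hm
    exact (hMCc.2.1 f hf m (Subgroup.mem_sup_left hm)).symm
  · intro f hf
    have := Cfsg.Agent.S5029.conj_le (A := A) (B := ⁅M, C⁆) f hf
    rwa [hK] at this
  · have := (Cfsg.Agent.S5029.result hS (hF A hA) hA hMCc.1 hAF.1).1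
    rwa [hK] at this
  · have := (Cfsg.Agent.S5029.result hS (hF A hA) hA hMCc.1 hAF.1).2.1
    rwa [hK] at this

end

/-- Let S be a set of abstract root subgroups of G in which every member has a rank one partner, A ∈ S and B a line partner of A. Then the subgroup generated by the members of S normalizing AB permutes the members of S inside AB doubly transitively by conjugation. -/
theorem result {G : Type*} [Group G] {S : Set (Subgroup G)} (hS : Cfsg.IsRootSubgroupSet S)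
    (hF : ∀ A ∈ S, ¬ Cfsg.IsIsolatedIn (Cfsg.FAdj S) S A) {A B : Subgroup G} (hA : A ∈ S) (hB : B ∈ Cfsg.linePartners S A) :
    ∀ C₁ ∈ Cfsg.membersIn S (A ⊔ B), ∀ C₂ ∈ Cfsg.membersIn S (A ⊔ B), ∀ D₁ ∈ Cfsg.membersIn S (A ⊔ B),
      ∀ D₂ ∈ Cfsg.membersIn S (A ⊔ B), C₁ ≠ C₂ → D₁ ≠ D₂ →
        ∃ x ∈ ⨆ E ∈ Cfsg.normalizingMembers S (A ⊔ B), E, Cfsg.conjBy C₁ x = D₁ ∧ Cfsg.conjBy C₂ x = D₂ := by
  obtain ⟨⟨hBS, hBA, hAB⟩, hpart⟩ := hB
  obtain ⟨hle, hcov, hdisj⟩ := hpart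
  have hAmem : A ∈ Cfsg.membersIn S (A ⊔ B) := ⟨hA, le_sup_left⟩
  have hBmem : B ∈ Cfsg.membersIn S (A ⊔ B) := ⟨hBS, le_sup_right⟩
  -- N is abelian
  have hNN : ⁅A ⊔ B, A ⊔ B⁆ = ⊥ := by
    have hBA' : ⁅B, A⁆ = ⊥ := by rw [Subgroup.commutator_comm]; exact hAB
    exact sup_commutator_sup_eq_bot (RootSet.commutator_self hS hA) hAB hBA'
      (RootSet.commutator_self hS hBS)
  have hcomm : ∀ P ∈ Cfsg.membersIn S (A ⊔ B), ∀ Q ∈ Cfsg.membersIn S (A ⊔ B), ⁅P, Q⁆ = ⊥ := by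
    intro P hP Q hQ
    rw [eq_bot_iff, ← hNN]
    exact Subgroup.commutator_mono hP.2 hQ.2
  -- R normalizes N and permutes the members
  have hRN : (⨆ E ∈ Cfsg.normalizingMembers S (A ⊔ B), E) ≤
      Subgroup.normalizer ((A ⊔ B : Subgroup G) : Set G) :=
    iSup₂_le fun E hE => hE.2
  have hR : ∀ x ∈ ⨆ E ∈ Cfsg.normalizingMembers S (A ⊔ B), E,
      ∀ M ∈ Cfsg.membersIn S (A ⊔ B), Cfsg.conjBy M x ∈ Cfsg.membersIn S (A ⊔ B) := by
    intro x hx M hM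
    refine ⟨hS.conj_mem M hM.1 x, ?_⟩
    have h1 : Cfsg.conjBy (A ⊔ B) x = A ⊔ B := conjBy_eq_self_iff.mpr (hRN hx)
    rw [← h1]
    exact conjBy_mono hM.2 x
  -- at least three members
  have h3 : ∀ P ∈ Cfsg.membersIn S (A ⊔ B), ∀ Q ∈ Cfsg.membersIn S (A ⊔ B),
      ∃ M ∈ Cfsg.membersIn S (A ⊔ B), M ≠ P ∧ M ≠ Q := by
    intro P hP Q hQ
    by_cases hPQ : P = Q
    · subst hPQ
      by_cases hPA : A = P
      · exact ⟨B, hBmem, fun h => hBA (h.trans hPA.symm), fun h => hBA (h.trans hPA.symm)⟩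
      · exact ⟨A, hAmem, hPA, hPA⟩
    · obtain ⟨p, hp1⟩ := (Subgroup.ne_bot_iff_exists_ne_one).mp (hS.ne_bot P hP.1)
      obtain ⟨q, hq1⟩ := (Subgroup.ne_bot_iff_exists_ne_one).mp (hS.ne_bot Q hQ.1)
      have hp : (p : G) ∈ P := p.2
      have hq : (q : G) ∈ Q := q.2
      have hp1' : (p : G) ≠ 1 := by simpa using hp1
      have hq1' : (q : G) ≠ 1 := by simpa using hq1
      have hinf := hdisj P hP Q hQ hPQ
      have hinf' : ∀ x, x ∈ P → x ∈ Q → x = 1 := by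
        intro x hxP hxQ
        have : x ∈ P ⊓ Q := Subgroup.mem_inf.mpr ⟨hxP, hxQ⟩
        rwa [hinf, Subgroup.mem_bot] at this
      have hpq : (p : G) * q ∈ A ⊔ B := Subgroup.mul_mem _ (hP.2 hp) (hQ.2 hq)
      have hpq1 : (p : G) * q ≠ 1 := by
        intro h
        apply hq1'
        have : (q : G) = (p : G)⁻¹ := eq_inv_of_mul_eq_one_right h
        exact hinf' q (this ▸ P.inv_mem hp) hq
      obtain ⟨M, hM, hpqM⟩ := hcov _ hpq hpq1
      refine ⟨M, hM, ?_, ?_⟩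
      · rintro rfl
        apply hq1'
        have : (q : G) ∈ M := by
          have e : (q : G) = (p : G)⁻¹ * ((p : G) * q) := by group
          rw [e]; exact M.mul_mem (M.inv_mem hp) hpqM
        exact hinf' q this hq
      · rintro rfl
        apply hp1'
        have : (p : G) ∈ M := by
          have e : (p : G) = ((p : G) * q) * (q : G)⁻¹ := by group
          rw [e]; exact M.mul_mem hpqM (M.inv_mem hq)
        exact hinf' p hp this
  -- Lemma V: from a generating pair, a pointed member different from the first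
  have hV : ∀ A' ∈ Cfsg.membersIn S (A ⊔ B), ∀ B' ∈ Cfsg.membersIn S (A ⊔ B), A' ≠ B' →
      A' ⊔ B' = A ⊔ B → ∃ M ∈ Cfsg.membersIn S (A ⊔ B), M ≠ A' ∧ A' ⊔ M = A ⊔ B ∧
        FixTrans (Cfsg.membersIn S (A ⊔ B)) (⨆ E ∈ Cfsg.normalizingMembers S (A ⊔ B), E) M := by
    intro A' hA' B' hB' hne hsup
    obtain ⟨C, hC, hA'C⟩ := RootSet.rankOnePair_of_not_isolated (hF A' hA'.1) hA'.1
    -- general step: given M ≠ A' in L with A' ⊔ M = N and C partner of A' not of M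
    have hstep : ∀ M ∈ Cfsg.membersIn S (A ⊔ B), M ≠ A' → A' ⊔ M = A ⊔ B →
        ¬ Cfsg.IsRankOnePair M C →
        FixTrans (Cfsg.membersIn S (A ⊔ B)) (⨆ E ∈ Cfsg.normalizingMembers S (A ⊔ B), E) M := by
      intro M hM hMA hsupM hMC
      have hcover : ∀ x ∈ A' ⊔ M, x ≠ 1 → ∃ D ∈ S, x ∈ D := by
        intro x hx hx1
        rw [hsupM] at hx
        obtain ⟨D, hD, hxD⟩ := hcov x hx hx1
        exact ⟨D, hD.1, hxD⟩
      obtain ⟨F, hFS, hfix, hFle, hmem, _⟩ := pointed hS hF hA'.1 hM.1 hC (hcomm A' hA' M hM)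
        (Ne.symm hMA) hcover hA'C hMC
      rw [hsupM] at hmem hFle
      have hFN : F ∈ Cfsg.normalizingMembers S (A ⊔ B) := by
        refine ⟨hFS, ?_⟩
        intro f hf
        have hconj : ∀ f ∈ F, Cfsg.conjBy (A ⊔ B) f ≤ A ⊔ B := by
          intro f hf
          rw [← hsupM, conjBy_sup, hfix f hf]
          rw [hsupM]
          exact sup_le (hFle f hf) hM.2
        rw [← conjBy_eq_self_iff]
        apply le_antisymm (hconj f hf)
        have h1 := conjBy_mono (hconj f⁻¹ (F.inv_mem hf)) f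
        rwa [conjBy_conjBy_inv] at h1
      have hFR : F ≤ ⨆ E ∈ Cfsg.normalizingMembers S (A ⊔ B), E :=
        le_iSup₂ (f := fun (E : Subgroup G) (_ : E ∈ Cfsg.normalizingMembers S (A ⊔ B)) => E) F hFN
      exact fixTrans_of_orbit hFR hfix hmem
    by_cases hB'C : Cfsg.IsRankOnePair B' C
    · -- common partner: find a third member
      have hcover' : ∀ x ∈ A' ⊔ B', x ≠ 1 → ∃ D ∈ Cfsg.membersIn S (A' ⊔ B'), x ∈ D := by
        intro x hx hx1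
        rw [hsup] at hx ⊢
        exact hcov x hx hx1
      obtain ⟨D, hD, hDA', hDB', hDC, b, hb, hb1, hbAD⟩ :=
        exists_nonpartner (hcomm A' hA' B' hB') (hdisj A' hA' B' hB' hne) hcover' hA'C hB'C
      rw [hsup] at hD
      -- A' ⊔ D = N
      have hcoverD : ∀ x ∈ A' ⊔ D, x ≠ 1 → ∃ D' ∈ S, x ∈ D' := by
        intro x hx hx1
        have hx' : x ∈ A ⊔ B := (sup_le hA'.2 hD.2) hx
        obtain ⟨D', hD', hxD'⟩ := hcov x hx' hx1
        exact ⟨D', hD'.1, hxD'⟩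
      obtain ⟨_, _, _, _, _, hpartD⟩ := pointed hS hF hA'.1 hD.1 hC (hcomm A' hA' D hD)
        (Ne.symm hDA') hcoverD hA'C hDC
      obtain ⟨M', hM', hbM'⟩ := hpartD.2.1 b hbAD hb1
      obtain ⟨E', hE', hB'E'⟩ := RootSet.rankOnePair_of_not_isolated (hF B' hB'.1) hB'.1
      have hB'M' : B' = M' := RootSet.eq_of_inf_ne_bot hS hE' hM'.1 hB'E' hb hbM' hb1
      have hsupD : A' ⊔ D = A ⊔ B := by
        apply le_antisymm (sup_le hA'.2 hD.2)
        rw [← hsup]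
        exact sup_le le_sup_left (hB'M' ▸ hM'.2)
      exact ⟨D, hD, hDA', hsupD, hstep D hD hDA' hsupD hDC⟩
    · exact ⟨B', hB', Ne.symm hne, hsup, hstep B' hB' (Ne.symm hne) hsup hB'C⟩
  obtain ⟨M₀, hM₀, hM₀A, hsup₀, hT₀⟩ := hV A hAmem B hBmem (Ne.symm hBA) rfl
  obtain ⟨M₁, _, hM₁M₀, _, hT₁⟩ := hV M₀ hM₀ A hAmem hM₀A (by rw [sup_comm]; exact hsup₀)
  exact two_transitive hR h3 hM₀ (Ne.symm hM₁M₀) hT₀ hT₁

end Cfsg.Agent.S5038
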