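import Cfsg.Statements.S5016
import Cfsg.Agent.Lib.Helper83.RankOne

set_option autoImplicit false
open Cfsg

namespace Cfsg.Agent.S5016

open Cfsg.Agent.Lib.Helper83

variable {k : Type*} [Field k]

/-- lower unitriangular matrix -/
def L (t : k) : Matrix.SpecialLinearGroup (Fin 2) k := ⟨!![1, 0; t, 1], by simp [Matrix.det_fin_two]⟩
/-- upper unitriangular matrix -/
def U (s : k) : Matrix.SpecialLinearGroup (Fin 2) k := ⟨!![1, s; 0, 1], by simp [Matrix.det_fin_two]⟩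

lemma coe_L (t : k) :
    ((L t : Matrix.SpecialLinearGroup (Fin 2) k) : Matrix (Fin 2) (Fin 2) k) = !![1, 0; t, 1] := rfl
lemma coe_U (t : k) :
    ((U t : Matrix.SpecialLinearGroup (Fin 2) k) : Matrix (Fin 2) (Fin 2) k) = !![1, t; 0, 1] := rfl

lemma sl2_ext {g h : Matrix.SpecialLinearGroup (Fin 2) k}
    (h00 : (g : Matrix (Fin 2) (Fin 2) k) 0 0 = (h : Matrix (Fin 2) (Fin 2) k) 0 0)
    (h01 : (g : Matrix (Fin 2) (Fin 2) k) 0 1 = (h : Matrix (Fin 2) (Fin 2) k) 0 1)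
    (h10 : (g : Matrix (Fin 2) (Fin 2) k) 1 0 = (h : Matrix (Fin 2) (Fin 2) k) 1 0)
    (h11 : (g : Matrix (Fin 2) (Fin 2) k) 1 1 = (h : Matrix (Fin 2) (Fin 2) k) 1 1) : g = h := by
  ext i j
  fin_cases i <;> fin_cases j <;> assumption

lemma sl2_det (g : Matrix.SpecialLinearGroup (Fin 2) k) :
    (g : Matrix (Fin 2) (Fin 2) k) 0 0 * (g : Matrix (Fin 2) (Fin 2) k) 1 1 -
      (g : Matrix (Fin 2) (Fin 2) k) 0 1 * (g : Matrix (Fin 2) (Fin 2) k) 1 0 = 1 := by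
  have := g.det_coe
  rwa [Matrix.det_fin_two] at this

lemma L_mul (t u : k) : L t * L u = L (t + u) := by
  apply sl2_ext <;> simp [coe_L, Matrix.mul_apply, Fin.sum_univ_two]

lemma U_mul (t u : k) : U t * U u = U (t + u) := by
  apply sl2_ext <;> simp [coe_U, Matrix.mul_apply, Fin.sum_univ_two]
  ring

lemma L_zero : L (0 : k) = 1 := by
  apply sl2_ext <;> simp [coe_L]

lemma U_zero : U (0 : k) = 1 := by
  apply sl2_ext <;> simp [coe_U]

lemma L_inv (t : k) : (L t)⁻¹ = L (-t) := by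
  apply sl2_ext <;> simp [coe_L, Matrix.adjugate_fin_two]

lemma U_inv (t : k) : (U t)⁻¹ = U (-t) := by
  apply sl2_ext <;> simp [coe_U, Matrix.adjugate_fin_two]

lemma L_eq_one_iff {t : k} : L t = 1 ↔ t = 0 := by
  constructor
  · intro h
    have := congrArg (fun g : Matrix.SpecialLinearGroup (Fin 2) k => (g : Matrix (Fin 2) (Fin 2) k) 1 0) h
    simpa [coe_L] using this
  · rintro rfl; exact L_zero

lemma U_eq_one_iff {t : k} : U t = 1 ↔ t = 0 := by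
  constructor
  · intro h
    have := congrArg (fun g : Matrix.SpecialLinearGroup (Fin 2) k => (g : Matrix (Fin 2) (Fin 2) k) 0 1) h
    simpa [coe_U] using this
  · rintro rfl; exact U_zero

/-- `L` as a homomorphism. -/
def LHom (k : Type*) [Field k] : Multiplicative k →* Matrix.SpecialLinearGroup (Fin 2) k where
  toFun t := L (Multiplicative.toAdd t)
  map_one' := L_zero
  map_mul' _ _ := (L_mul _ _).symm

/-- `U` as a homomorphism. -/
def UHom (k : Type*) [Field k] : Multiplicative k →* Matrix.SpecialLinearGroup (Fin 2) k where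
  toFun t := U (Multiplicative.toAdd t)
  map_one' := U_zero
  map_mul' _ _ := (U_mul _ _).symm

lemma lower_eq : Cfsg.lowerUnipotentSL2 k = (LHom k).range := by
  unfold Cfsg.lowerUnipotentSL2
  have hset : {g : Matrix.SpecialLinearGroup (Fin 2) k | (g : Matrix (Fin 2) (Fin 2) k) 0 1 = 0 ∧
      (g : Matrix (Fin 2) (Fin 2) k) 0 0 = 1 ∧ (g : Matrix (Fin 2) (Fin 2) k) 1 1 = 1} =
      ((LHom k).range : Set (Matrix.SpecialLinearGroup (Fin 2) k)) := by
    ext g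
    constructor
    · rintro ⟨h01, h00, h11⟩
      refine ⟨Multiplicative.ofAdd ((g : Matrix (Fin 2) (Fin 2) k) 1 0), ?_⟩
      apply sl2_ext <;> simp [LHom, coe_L, h01, h00, h11]
    · rintro ⟨t, rfl⟩
      simp [LHom, coe_L]
  rw [hset, Subgroup.closure_eq]

lemma upper_eq : Cfsg.upperUnipotentSL2 k = (UHom k).range := by
  unfold Cfsg.upperUnipotentSL2
  have hset : {g : Matrix.SpecialLinearGroup (Fin 2) k | (g : Matrix (Fin 2) (Fin 2) k) 1 0 = 0 ∧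
      (g : Matrix (Fin 2) (Fin 2) k) 0 0 = 1 ∧ (g : Matrix (Fin 2) (Fin 2) k) 1 1 = 1} =
      ((UHom k).range : Set (Matrix.SpecialLinearGroup (Fin 2) k)) := by
    ext g
    constructor
    · rintro ⟨h10, h00, h11⟩
      refine ⟨Multiplicative.ofAdd ((g : Matrix (Fin 2) (Fin 2) k) 0 1), ?_⟩
      apply sl2_ext <;> simp [UHom, coe_U, h10, h00, h11]
    · rintro ⟨t, rfl⟩
      simp [UHom, coe_U]
  rw [hset, Subgroup.closure_eq]

lemma mem_lower_iff {g : Matrix.SpecialLinearGroup (Fin 2) k} :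
    g ∈ Cfsg.lowerUnipotentSL2 k ↔ ∃ t : k, g = L t := by
  rw [lower_eq]
  constructor
  · rintro ⟨t, rfl⟩; exact ⟨Multiplicative.toAdd t, rfl⟩
  · rintro ⟨t, rfl⟩; exact ⟨Multiplicative.ofAdd t, rfl⟩

lemma mem_upper_iff {g : Matrix.SpecialLinearGroup (Fin 2) k} :
    g ∈ Cfsg.upperUnipotentSL2 k ↔ ∃ t : k, g = U t := by
  rw [upper_eq]
  constructor
  · rintro ⟨t, rfl⟩; exact ⟨Multiplicative.toAdd t, rfl⟩
  · rintro ⟨t, rfl⟩; exact ⟨Multiplicative.ofAdd t, rfl⟩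

lemma L_mem (t : k) : L t ∈ Cfsg.lowerUnipotentSL2 k := mem_lower_iff.mpr ⟨t, rfl⟩
lemma U_mem (t : k) : U t ∈ Cfsg.upperUnipotentSL2 k := mem_upper_iff.mpr ⟨t, rfl⟩

/-- The key conjugation identity. -/
lemma conj_identity (t : k) (ht : t ≠ 0) (u : k) :
    (L t * U (-t⁻¹)) * L u * (L t * U (-t⁻¹))⁻¹ = U (-u * (t⁻¹)^2) := by
  apply sl2_ext <;>
    simp [coe_L, coe_U, Matrix.mul_apply, Fin.sum_univ_two, Matrix.adjugate_fin_two] <;>
    field_simp <;> ring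

lemma conjBy_lower (t : k) (ht : t ≠ 0) :
    Cfsg.conjBy (Cfsg.lowerUnipotentSL2 k) (L t * U (-t⁻¹)) = Cfsg.upperUnipotentSL2 k := by
  ext x
  rw [mem_conjBy]
  constructor
  · intro hx
    obtain ⟨u, hu⟩ := mem_lower_iff.mp hx
    have : x = (L t * U (-t⁻¹)) * L u * (L t * U (-t⁻¹))⁻¹ := by
      rw [← hu]; group
    rw [this, conj_identity t ht]
    exact U_mem _
  · intro hx
    obtain ⟨s, rfl⟩ := mem_upper_iff.mp hx
    have h1 := conj_identity t ht (-s * t^2)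
    have h2 : -(-s * t ^ 2) * t⁻¹ ^ 2 = s := by field_simp
    rw [h2] at h1
    rw [← h1]
    have : (L t * U (-t⁻¹))⁻¹ * (L t * U (-t⁻¹) * L (-s * t ^ 2) * (L t * U (-t⁻¹))⁻¹) *
        (L t * U (-t⁻¹)) = L (-s * t^2) := by group
    rw [this]
    exact L_mem _

/-- The rank one condition for `a = L t`, `b = U t⁻¹`. -/
lemma key (t : k) (ht : t ≠ 0) :
    Cfsg.conjBy (Cfsg.lowerUnipotentSL2 k) (U t⁻¹)⁻¹ = Cfsg.conjBy (Cfsg.upperUnipotentSL2 k) (L t)⁻¹ := by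
  rw [← conjBy_lower t ht, conjBy_conjBy, U_inv]
  congr 1
  group

lemma lower_ne_upper : Cfsg.lowerUnipotentSL2 k ≠ Cfsg.upperUnipotentSL2 k := by
  intro h
  have h1 : L (1 : k) ∈ Cfsg.upperUnipotentSL2 k := h ▸ L_mem 1
  obtain ⟨s, hs⟩ := mem_upper_iff.mp h1
  have := congrArg (fun g : Matrix.SpecialLinearGroup (Fin 2) k => (g : Matrix (Fin 2) (Fin 2) k) 1 0) hs
  simp [coe_L, coe_U] at this

lemma lower_comm : IsMulCommutative (Cfsg.lowerUnipotentSL2 k) := by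
  refine ⟨⟨fun a b => ?_⟩⟩
  obtain ⟨t, ht⟩ := mem_lower_iff.mp a.2
  obtain ⟨u, hu⟩ := mem_lower_iff.mp b.2
  apply Subtype.ext
  simp only [Subgroup.coe_mul, ht, hu, L_mul, add_comm]

lemma upper_comm : IsMulCommutative (Cfsg.upperUnipotentSL2 k) := by
  refine ⟨⟨fun a b => ?_⟩⟩
  obtain ⟨t, ht⟩ := mem_upper_iff.mp a.2
  obtain ⟨u, hu⟩ := mem_upper_iff.mp b.2
  apply Subtype.ext
  simp only [Subgroup.coe_mul, ht, hu, U_mul, add_comm]

lemma rankOnePair : Cfsg.IsRankOnePair (Cfsg.lowerUnipotentSL2 k) (Cfsg.upperUnipotentSL2 k) := by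
  refine ⟨lower_ne_upper, ⟨1, Subgroup.upperCentralSeries_one_eq_top_iff.mpr lower_comm⟩,
    ⟨1, Subgroup.upperCentralSeries_one_eq_top_iff.mpr upper_comm⟩, ?_, ?_⟩
  · intro a ha ha1
    obtain ⟨t, rfl⟩ := mem_lower_iff.mp ha
    have ht : t ≠ 0 := fun h => ha1 (L_eq_one_iff.mpr h)
    refine ⟨U t⁻¹, U_mem _, ?_, key t ht⟩
    rw [Ne, U_eq_one_iff]
    exact inv_ne_zero ht
  · intro b hb hb1
    obtain ⟨s, rfl⟩ := mem_upper_iff.mp hb
    have hs : s ≠ 0 := fun h => hb1 (U_eq_one_iff.mpr h)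
    refine ⟨L s⁻¹, L_mem _, ?_, ?_⟩
    · rw [Ne, L_eq_one_iff]
      exact inv_ne_zero hs
    · have := key s⁻¹ (inv_ne_zero hs)
      rw [inv_inv] at this
      exact this.symm

lemma special_identity (t : k) (ht : t ≠ 0) :
    (U t⁻¹)⁻¹ * L t * U t⁻¹ = (L t)⁻¹ * (U t⁻¹)⁻¹ * L t := by
  apply sl2_ext <;>
    simp [coe_L, coe_U, Matrix.mul_apply, Fin.sum_univ_two, Matrix.adjugate_fin_two] <;>
    field_simp <;> first | ring1 | simp

lemma generation (g : Matrix.SpecialLinearGroup (Fin 2) k)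
    (hc : (g : Matrix (Fin 2) (Fin 2) k) 1 0 ≠ 0) :
    g = U (((g : Matrix (Fin 2) (Fin 2) k) 0 0 - 1) / (g : Matrix (Fin 2) (Fin 2) k) 1 0) *
      L ((g : Matrix (Fin 2) (Fin 2) k) 1 0) *
      U (((g : Matrix (Fin 2) (Fin 2) k) 1 1 - 1) / (g : Matrix (Fin 2) (Fin 2) k) 1 0) := by
  have hdet := sl2_det g
  apply sl2_ext <;>
    simp [coe_L, coe_U, Matrix.mul_apply, Fin.sum_univ_two] <;>
    field_simp
  · ring
  · linear_combination (-1) * hdet
  · ring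

lemma sup_eq_top : Cfsg.lowerUnipotentSL2 k ⊔ Cfsg.upperUnipotentSL2 k = ⊤ := by
  rw [eq_top_iff]
  intro g _
  have hL : ∀ t : k, L t ∈ Cfsg.lowerUnipotentSL2 k ⊔ Cfsg.upperUnipotentSL2 k :=
    fun t => Subgroup.mem_sup_left (L_mem t)
  have hU : ∀ t : k, U t ∈ Cfsg.lowerUnipotentSL2 k ⊔ Cfsg.upperUnipotentSL2 k :=
    fun t => Subgroup.mem_sup_right (U_mem t)
  have main : ∀ g : Matrix.SpecialLinearGroup (Fin 2) k, (g : Matrix (Fin 2) (Fin 2) k) 1 0 ≠ 0 →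
      g ∈ Cfsg.lowerUnipotentSL2 k ⊔ Cfsg.upperUnipotentSL2 k := by
    intro g hc
    rw [generation g hc]
    exact Subgroup.mul_mem _ (Subgroup.mul_mem _ (hU _) (hL _)) (hU _)
  by_cases hc : (g : Matrix (Fin 2) (Fin 2) k) 1 0 = 0
  · have hdet := sl2_det g
    rw [hc, mul_zero, sub_zero] at hdet
    have h00 : (g : Matrix (Fin 2) (Fin 2) k) 0 0 ≠ 0 := by
      intro h; rw [h, zero_mul] at hdet; exact zero_ne_one hdet
    have h1 : L 1 * g ∈ Cfsg.lowerUnipotentSL2 k ⊔ Cfsg.upperUnipotentSL2 k := by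
      apply main
      simp [coe_L, Matrix.mul_apply, Fin.sum_univ_two, hc, h00]
    have : g = (L 1)⁻¹ * (L 1 * g) := by group
    rw [this]
    exact Subgroup.mul_mem _ (Subgroup.inv_mem _ (hL 1)) h1
  · exact main g hc

theorem result (k : Type*) [Field k] :
    Cfsg.IsRankOneGroup (Matrix.SpecialLinearGroup (Fin 2) k) (Cfsg.lowerUnipotentSL2 k) (Cfsg.upperUnipotentSL2 k) ∧
    Cfsg.IsSpecialRankOnePair (Cfsg.lowerUnipotentSL2 k) (Cfsg.upperUnipotentSL2 k) ∧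
    Cfsg.HasAbelianUnipotents (Cfsg.lowerUnipotentSL2 k) (Cfsg.upperUnipotentSL2 k) := by
  refine ⟨⟨sup_eq_top, rankOnePair⟩, ⟨rankOnePair, ?_⟩, ⟨lower_comm, upper_comm⟩⟩
  intro a ha ha1 b hb _ hab
  obtain ⟨t, rfl⟩ := mem_lower_iff.mp ha
  have ht : t ≠ 0 := fun h => ha1 (L_eq_one_iff.mpr h)
  have h1 := key t ht
  have h2 : b⁻¹ = (U t⁻¹)⁻¹ :=
    RankOne.conjBy_left_injOn rankOnePair (Subgroup.inv_mem _ hb) (Subgroup.inv_mem _ (U_mem _))
      (hab.trans h1.symm)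
  have h3 : b = U t⁻¹ := inv_injective h2
  rw [h3]
  exact special_identity t ht

end Cfsg.Agent.S5016
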