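import Cfsg.Statements.S0659
import Cfsg.Agent.S2005
import Cfsg.Agent.S0653
import Cfsg.Agent.Lib.Helper11.ZJLocal

set_option autoImplicit false
open Cfsg

namespace Cfsg.Agent.S0659

open Cfsg.Agent.Lib.Helper11

/-- The functor `Q ↦ Z(J(Q))` (abelian version), as the intersection of the abelian subgroups of
largest order. -/
def wzj.{v} (Q : Type v) [Group Q] : Subgroup Q := sInf (maxAbelianSubgroups Q)

theorem inducedFunctor_wzj.{v} {G : Type v} [Group G] [Finite G] (P : Subgroup G) :
    inducedFunctor wzj.{v} P = zj P := by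
  unfold inducedFunctor wzj
  rw [map_sInf_maxAbelian_eq_zj P.subtype P.subtype_injective, Subgroup.range_subtype]

theorem isCharPFunctor_wzj.{v} (p : ℕ) [Fact p.Prime] : IsCharPFunctor.{v} p wzj.{v} := by
  constructor
  · intro Q _ _ hQ hnt
    have hc : Nontrivial (Subgroup.center Q) := hQ.center_nontrivial
    obtain ⟨⟨z, hz⟩, hz1⟩ := exists_ne (1 : Subgroup.center Q)
    intro h
    have h1 : z ∈ wzj Q := center_le_sInf_maxAbelian hz
    rw [h, Subgroup.mem_bot] at h1
    apply hz1
    exact Subtype.ext h1
  · intro Q R _ _ _ _ φ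
    have : Finite R := Finite.of_equiv Q φ.toEquiv
    unfold wzj
    rw [map_sInf_maxAbelian_eq_zj φ.toMonoidHom φ.injective]
    have h2 := map_sInf_maxAbelian_eq_zj (MonoidHom.id R) Function.injective_id
    rw [Subgroup.map_id] at h2
    rw [h2]
    congr 1
    rw [MonoidHom.range_eq_top.mpr φ.surjective, MonoidHom.range_eq_top.mpr Function.surjective_id]

/-- Glauberman's normal p-complement Theorem with the abelian-version Thompson subgroup: for odd p, G has a normal p-complement whenever the normalizer of Z(J(P)) does. -/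
theorem result {G : Type*} [Group G] [Finite G] {p : ℕ} [Fact p.Prime] (hp : p ≠ 2) (P : Sylow p G) (hN : Cfsg.HasNormalPComplement p ↥(Subgroup.normalizer (Cfsg.centerThompsonAOf ((P : Subgroup G)) : Set G))) : Cfsg.HasNormalPComplement p G := by
  apply Cfsg.Agent.S2005.result wzj (isCharPFunctor_wzj p) P
  · rw [inducedFunctor_wzj]
    have h := Cfsg.Agent.S0653.centerThompsonAOf_eq_famInf (P : Subgroup G)
    rw [h] at hN
    exact hN
  · intro K R hR hc hq T hT
    rw [inducedFunctor_wzj]
    exact zj_normal_of_coatom_sylow hp hc hq T hT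

end Cfsg.Agent.S0659
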