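import Cfsg.Statements.S5240
import Cfsg.Agent.Lib.Helper84.ModelNormalizer
import Cfsg.Agent.Lib.Helper88.Involves

set_option autoImplicit false
open Cfsg

namespace Cfsg.Agent.S5240

/-- Let F be a saturated fusion system over a finite p-group S that is Qd(p)-free (Qd(p), the natural semidirect product of an elementary abelian group of order p² by SL₂(p), is not involved in any model of the normalizer system of a fully normalized centric subgroup), and let Q be a fully normalized subgroup of S. Then every normalizer fusion system of Q in F is Qd(p)-free. -/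
theorem result {Ω : Type*} [Group Ω] {S : Subgroup Ω} [Finite S] (p : ℕ) [Fact p.Prime] (hS : IsPGroup p S) (F : Cfsg.FusionSystem S) (hF : F.IsSaturated p) (hfree : F.IsSectionFree p ↥(Cfsg.qd p)) (Q : Subgroup Ω) (hQ : F.IsFullyNormalized Q) (N : Cfsg.FusionSystem (Cfsg.FusionSystem.normalizerIn S Q)) (hN : F.IsNormalizerSystem Q N) : N.IsSectionFree p ↥(Cfsg.qd p) := by
  intro P hPn hPc N' hN' L' _ ι' hM' hinv
  have hQS : Q ≤ S := hQ.1
  have hTfin : Finite (Cfsg.FusionSystem.normalizerIn S Q) :=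
    Cfsg.Agent.Lib.Helper87.finite_of_le (Cfsg.Agent.Lib.Helper87.normalizerIn_le S Q)
  have hTp : IsPGroup p (Cfsg.FusionSystem.normalizerIn S Q) :=
    Cfsg.Agent.Lib.Helper88.isPGroup_of_le hS (Cfsg.Agent.Lib.Helper87.normalizerIn_le S Q)
  have : Finite Q := Cfsg.Agent.Lib.Helper87.finite_of_le hQS
  have hNsat : N.IsSaturated p := Cfsg.Agent.Lib.Helper87.isSaturated_of_isNormalizerSystem F hS hF hQ hN
  have hQnorm : N.IsNormal Q := Cfsg.Agent.S5126.isNormal_of_isNormalizerSystem F hQS hN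
  -- reduce to a centric radical subgroup of `N`
  obtain ⟨P₁, hP₁n, hP₁c, hP₁r, hall⟩ :=
    Cfsg.Agent.Lib.Helper84.Model.exists_radical_embedding hTp N hNsat hPn hPc hN' hM'
  have hQP₁ : Q ≤ P₁ := Cfsg.Agent.Lib.Helper84.Model.le_of_isNormal_of_centric_radical hTp N hQnorm hP₁c hP₁r
  have hN₁ := Cfsg.Agent.Lib.Helper87.isNormalizerSystem_normalizerSystem N P₁ hP₁c.1
  obtain ⟨R, hRn, hRc, hR⟩ :=
    Cfsg.Agent.Lib.Helper84.Model.exists_submodel_of_normalizerSystem hS F hF hQ hN hP₁n hP₁c hQP₁ hN₁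
  have hE := Cfsg.Agent.Lib.Helper87.isNormalizerSystem_normalizerSystem F R hRn.1
  have hRfin : Finite (Cfsg.FusionSystem.normalizerIn S R) :=
    Cfsg.Agent.Lib.Helper87.finite_of_le (Cfsg.Agent.Lib.Helper87.normalizerIn_le S R)
  have C := Cfsg.Agent.Lib.Helper84.Model.ctx_of_isNormalizerSystem hS F hF hRn hRc hE
  obtain ⟨L, hL, ι, hM⟩ := C.exists_isModel
  obtain ⟨M, ιM, hMM⟩ := hR _ hE L ι hM
  obtain ⟨f, hf⟩ := hall _ hN₁ M ιM hMM
  exact hfree R hRn hRc _ hE L ι hM
    (Cfsg.Agent.Lib.Helper88.Involves.of_subgroup M (Cfsg.Agent.Lib.Helper88.Involves.of_injective f hf hinv))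

end Cfsg.Agent.S5240
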