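import Cfsg.Statements.S5110
import Cfsg.Agent.Lib.Helper86.SatCritFin

set_option autoImplicit false
open Cfsg

namespace Cfsg.Agent.S5110

open Cfsg.FusionSystem Cfsg.Agent.Lib.Helper85 Cfsg.Agent.Lib.Helper87 Cfsg.Agent.Lib.Helper86.SatCrit

/-- Saturation criterion: let F be a fusion system over a finite p-group S and H a family of subgroups of S closed under conjugacy in F, such that every conjugacy class inside H contains a fully automized receptive member, F is the smallest fusion system over S containing all its maps with source in H, and every centric subgroup outside H is conjugate in F to some P for which Aut_S(P) ∩ O_p(Aut_F(P)) is not contained in Inn(P). Then F is saturated. -/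
theorem result {Ω : Type*} [Group Ω] {S : Subgroup Ω} [Finite S] (p : ℕ) [Fact p.Prime] (hS : IsPGroup p S) (F : Cfsg.FusionSystem S) (ℋ : Set (Subgroup Ω)) (hℋS : ∀ P ∈ ℋ, P ≤ S) (hℋconj : ∀ P ∈ ℋ, ∀ Q, F.IsConj P Q → Q ∈ ℋ) (hsat : ∀ P ∈ ℋ, ∃ Q, F.IsConj P Q ∧ F.IsFullyAutomized p Q ∧ F.IsReceptive Q) (hgen : ∀ E : Cfsg.FusionSystem S, (∀ P ∈ ℋ, F.Hom P ⊆ E.Hom P) → F ≤ E) (hstar : ∀ P : Subgroup Ω, F.IsCentric P → P ∉ ℋ → ∃ Q, F.IsConj P Q ∧ ¬ (Cfsg.autInducedBy S Q ⊓ (Cfsg.pCore p ↥(F.autGroup Q)).map (F.autGroup Q).subtype ≤ Cfsg.Inn Q)) : F.IsSaturated p := by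
  -- `S` itself belongs to `ℋ`
  have hconjS : ∀ Q, F.IsConj S Q → Q = S := by
    intro Q hQ
    have hQS : Q ≤ S := Lib.Helper85.isConj_le_right F hQ
    have hc : Nat.card S = Nat.card Q := Lib.Helper85.isConj_card_eq F hQ
    exact eq_of_le_of_card_le le_rfl hQS (by omega)
  have hSℋ : S ∈ ℋ := by
    by_contra hSn
    have hcent : F.IsCentric S := by
      refine ⟨le_rfl, fun Q hQ => ?_⟩
      rw [hconjS Q hQ]
      exact inf_le_left
    obtain ⟨Q, hQ, hQn⟩ := hstar S hcent hSn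
    apply hQn
    have hQS : Q = S := hconjS Q hQ
    subst hQS
    intro α hα
    obtain ⟨g, hg, hgx⟩ := Lib.Helper87.mem_autInducedBy_iff.1 hα.1
    refine ⟨⟨g, hg⟩, ?_⟩
    ext x
    rw [hgx]
    simp [MulAut.conj_apply]
  -- downward induction on the order
  have main : ∀ k : ℕ, ∀ P0 : Subgroup Ω, P0 ≤ S → Nat.card S - Nat.card P0 ≤ k →
      ∃ Q, F.IsConj P0 Q ∧ F.IsFullyAutomized p Q ∧ F.IsReceptive Q := by
    intro k
    induction k using Nat.strong_induction_on with
    | _ k ih =>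
      intro P0 hP0S hk
      by_cases hP0ℋ : P0 ∈ ℋ
      · exact hsat P0 hP0ℋ
      have hbig : BigGood F p (Nat.card P0) := by
        intro R hRS hlt
        have h1 : Nat.card R ≤ Nat.card S := card_le_card_of_le le_rfl hRS
        have h2 : Nat.card P0 ≤ Nat.card S := card_le_card_of_le le_rfl hP0S
        exact ih (Nat.card S - Nat.card R) (by omega) R hRS le_rfl
      have hclassℋ : ∀ P, F.IsConj P0 P → P ∉ ℋ :=
        fun P hP hPℋ => hP0ℋ (hℋconj P hPℋ P0 (Lib.Helper85.isConj_symm F hP))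
      have hstar' : (∃ Q, F.IsConj P0 Q ∧ ¬ centralizerIn S Q ≤ Q) ∨
          (∃ Q, F.IsConj P0 Q ∧ ¬ (autInducedBy S Q ⊓ Kp F p Q ≤ Inn Q)) := by
        by_cases hc : F.IsCentric P0
        · right
          exact hstar P0 hc hP0ℋ
        · left
          unfold FusionSystem.IsCentric at hc
          push Not at hc
          obtain ⟨Q, hQ, hQn⟩ := hc hP0S
          exact ⟨Q, hQ, hQn⟩
      obtain ⟨Ph, hconj, hfn, hQa, hQr, hsyl⟩ :=
        exists_prepared hS F ℋ hgen hSℋ hbig hP0S rfl hclassℋ hstar'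
      have hPhS : Ph ≤ S := hfn.1
      have hPhn : Nat.card Ph = Nat.card P0 := (Lib.Helper85.isConj_card_eq F hconj).symm
      have hPhℋ : ∀ P, F.IsConj Ph P → P ∉ ℋ :=
        fun P hP => hclassℋ P (Lib.Helper85.isConj_trans F hconj hP)
      have hsink := sink_all hS F ℋ hgen hSℋ hbig hfn hPhn hPhℋ
      have hgood := goodC_all hS F ℋ hgen hSℋ hbig hPhS hPhn hPhℋ hsink
      refine ⟨Ph, hconj, ?_, ?_⟩
      · exact fullyAutomized_sink hS F hPhS hsyl (fun α hα => exists_stab_of_aut hS F hPhS hgood hα)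
      · exact receptive_sink hS F hPhS hQr hsyl hsink hgood
  intro P hP
  exact main _ P hP le_rfl

end Cfsg.Agent.S5110
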