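import Cfsg.Statements.S5199
import Cfsg.Agent.Lib.Helper87.FusionNormal
import Cfsg.Agent.Lib.Helper34.PResidual
-- import your own Cfsg.Agent.* helpers here

set_option autoImplicit false
open Cfsg

namespace Cfsg.Agent.S5199

open Cfsg.FusionSystem Cfsg.Agent.Lib.Helper87 in
/-- `O^p` is monotone along an inclusion of subgroups of a group (viewed as subgroups of the ambient group). -/
theorem map_pResidual_le {G : Type*} [Group G] (p : ℕ) {A B : Subgroup G} (hAB : A ≤ B) :
    (pResidual p A).map A.subtype ≤ (pResidual p B).map B.subtype := by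
  rw [Subgroup.map_le_iff_le_comap]
  unfold pResidual
  rw [Subgroup.closure_le]
  intro a ha
  have ha' : Nat.Coprime (orderOf a) p := ha
  show (a : G) ∈ (Subgroup.closure {g : B | Nat.Coprime (orderOf g) p}).map B.subtype
  refine ⟨⟨(a : G), hAB a.2⟩, Subgroup.subset_closure ?_, rfl⟩
  show Nat.Coprime (orderOf (⟨(a : G), hAB a.2⟩ : B)) p
  rw [← Subgroup.orderOf_coe, Subgroup.orderOf_coe] at ha'
  have h1 : orderOf (⟨(a : G), hAB a.2⟩ : B) = orderOf (a : G) := by
    rw [← Subgroup.orderOf_coe]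
  have h2 : orderOf a = orderOf (a : G) := by
    rw [← Subgroup.orderOf_coe]
  rw [h1, ← h2]; exact ha'

/-- Let F be a saturated fusion system over a finite p-group S, E a normal subsystem of F over T, and F₀ a normal subsystem of F over a subgroup U containing both T and the hyperfocal subgroup of F, such that F₀ has p-power index in F. Then E is a subsystem of F₀. -/
theorem result {Ω : Type*} [Group Ω] {S : Subgroup Ω} [Finite S] (p : ℕ) [Fact p.Prime] (hS : IsPGroup p S) (F : Cfsg.FusionSystem S) (hF : F.IsSaturated p) {T U : Subgroup Ω} (E : Cfsg.FusionSystem T) (hE : E.IsNormalIn F p) (F₀ : Cfsg.FusionSystem U) (hF₀ : F₀.IsNormalIn F p) (hU : T ⊔ F.hyperfocalSubgroup p ≤ U) (hidx : F₀.HasPPowerIndexIn F p) : E.IsSubsystemOf F₀ := by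
  classical
  obtain ⟨⟨hEsat, -, hEinv⟩, -⟩ := hE
  obtain ⟨hEF, -, -, -⟩ := hEinv
  obtain ⟨-, -, hres⟩ := hidx
  have hTU : T ≤ U := le_trans le_sup_left hU
  -- `T ≤ S`
  have hTS : T ≤ S := by
    have h1 : T.subtype ∈ E.Hom T := Cfsg.Agent.Lib.Helper87.subtype_mem E le_rfl
    exact (F.le_of_mem (hEF T h1)).1
  have : Finite T := Cfsg.Agent.Lib.Helper87.finite_of_le hTS
  have hT : IsPGroup p T := hS.to_le hTS
  intro P
  refine Cfsg.Agent.Lib.Helper87.alperin_weak' E F₀ hT hEsat ?_ P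
  intro R hRa _ _ α hα
  obtain ⟨hRT, Sy, hSy⟩ := hRa
  have hRU : R ≤ U := le_trans hRT hTU
  have hRS : R ≤ S := le_trans hRT hTS
  rw [← Cfsg.Agent.Lib.Helper87.mem_autGroup_iff F₀ hRU]
  have : Finite R := Cfsg.Agent.Lib.Helper87.finite_of_le hRS
  have : Finite (MulAut R) := Finite.of_injective (fun α : MulAut R => (α : R → R)) DFunLike.coe_injective
  -- `Aut_E(R) = O^p(Aut_E(R)) · Aut_T(R)`
  have hsup : pResidual p (E.autGroup R) ⊔ (Sy : Subgroup (E.autGroup R)) = ⊤ :=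
    Cfsg.Agent.Lib.Helper34.pResidual_sup_eq_top p (Sy : Subgroup (E.autGroup R)) Sy.not_dvd_index
  have hEFaut : E.autGroup R ≤ F.autGroup R := by
    intro β hβ
    rw [Cfsg.Agent.Lib.Helper87.mem_autGroup_iff E hRT] at hβ
    rw [Cfsg.Agent.Lib.Helper87.mem_autGroup_iff F hRS]
    exact hEF R hβ
  -- both pieces lie in `Aut_{F₀}(R)`
  have h1 : (pResidual p (E.autGroup R)).map (E.autGroup R).subtype ≤ F₀.autGroup R :=
    le_trans (map_pResidual_le p hEFaut) (hres R hRU)
  have h2 : (Sy : Subgroup (E.autGroup R)).map (E.autGroup R).subtype ≤ F₀.autGroup R := by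
    rw [hSy]
    rintro _ ⟨γ, hγ, rfl⟩
    have hγ' : (γ : MulAut R) ∈ autInducedBy T R := Subgroup.mem_subgroupOf.mp hγ
    obtain ⟨g, hg, hgγ⟩ := Cfsg.Agent.Lib.Helper87.mem_autInducedBy_iff.1 hγ'
    exact Cfsg.Agent.Lib.Helper87.autInducedBy_le_autGroup F₀ hRU
      (Cfsg.Agent.Lib.Helper87.mem_autInducedBy_iff.2 ⟨g, hTU hg, hgγ⟩)
  have h3 : (⊤ : Subgroup (E.autGroup R)).map (E.autGroup R).subtype ≤ F₀.autGroup R := by
    rw [← hsup, Subgroup.map_sup]
    exact sup_le h1 h2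
  exact h3 ⟨⟨α, hα⟩, Subgroup.mem_top _, rfl⟩

end Cfsg.Agent.S5199
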