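import Cfsg.Statements.S5113
import Cfsg.Agent.S5092
import Cfsg.Agent.Lib.Helper86.ResidualLimit
import Cfsg.Agent.Lib.Helper32.PPowBisetB

set_option autoImplicit false
open Cfsg

namespace Cfsg.Agent.S5113

open Cfsg.FusionSystem Cfsg.Agent.Lib Cfsg.Agent.Lib.Helper32

universe u

/-- a normal subgroup of index `p` containing the hyperfocal subgroup contains the focal subgroup -/
theorem focal_le_of_index {Ω : Type u} [Group Ω] {S : Subgroup Ω} [Finite S] (p : ℕ) [hp : Fact p.Prime]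
    (hS : IsPGroup p S) (F : Cfsg.FusionSystem S) (hF : F.IsSaturated p) {T : Subgroup Ω} (_hTS : T ≤ S)
    [hTn : (T.subgroupOf S).Normal] (hidx : (T.subgroupOf S).index = p)
    (hT : F.hyperfocalSubgroup p ≤ T) : F.focalSubgroup ≤ T := by
  rw [Cfsg.Agent.S5092.result p hS F hF]
  refine sup_le hT ?_
  rw [Subgroup.commutator_le]
  intro a ha b hb
  have hcardA : Nat.card (S ⧸ T.subgroupOf S) = p := by
    rw [← Subgroup.index_eq_card, hidx]
  have hcyc : IsCyclic (S ⧸ T.subgroupOf S) := isCyclic_of_prime_card hcardA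
  let _ : CommGroup (S ⧸ T.subgroupOf S) := IsCyclic.commGroup
  have h1 : (QuotientGroup.mk' (T.subgroupOf S))
      ((⟨a, ha⟩ : S) * ⟨b, hb⟩ * (⟨a, ha⟩ : S)⁻¹ * (⟨b, hb⟩ : S)⁻¹) = 1 := by
    rw [map_mul, map_mul, map_mul, map_inv, map_inv,
      mul_comm ((QuotientGroup.mk' (T.subgroupOf S)) ⟨a, ha⟩), mul_inv_cancel_right, mul_inv_cancel]
  have h2 : ((⟨a, ha⟩ : S) * ⟨b, hb⟩ * (⟨a, ha⟩ : S)⁻¹ * (⟨b, hb⟩ : S)⁻¹) ∈ T.subgroupOf S := by
    rw [← QuotientGroup.eq_one_iff]
    exact h1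
  exact Subgroup.mem_subgroupOf.1 h2

/-- the index `p` step -/
theorem exists_of_index {Ω : Type u} [Group Ω] {S : Subgroup Ω} [Finite S] (p : ℕ) [hp : Fact p.Prime]
    (hS : IsPGroup p S) (F : Cfsg.FusionSystem S) (hF : F.IsSaturated p) {T : Subgroup Ω} (hTS : T ≤ S)
    [hTn : (T.subgroupOf S).Normal] (hidx : (T.subgroupOf S).index = p)
    (hT : F.hyperfocalSubgroup p ≤ T) :
    ∃ E : Cfsg.FusionSystem T, E.IsSaturated p ∧ E.HasPPowerIndexIn F p ∧ F.StronglyClosed T := by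
  have hfoc := focal_le_of_index p hS F hF hTS hidx hT
  obtain ⟨G, _, ι, G₀, D⟩ := exists_pPowData F hS hF hTS hidx hfoc
  have hne : ∃ c₀ : S, (c₀ : Ω) ∉ T := by
    by_contra hcon
    have htop : T.subgroupOf S = ⊤ := by
      rw [eq_top_iff]
      intro c _
      rw [Subgroup.mem_subgroupOf]
      by_contra hc
      exact hcon ⟨c, hc⟩
    rw [htop, Subgroup.index_top] at hidx
    exact hp.out.one_lt.ne' hidx.symm
  exact ⟨D.sys, sys_isSaturated hS hF D hne, sys_hasPPowerIndexIn D hT, D.closed⟩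

/-- a maximal subgroup containing a proper subgroup -/
theorem exists_maximal_ge {Ω : Type u} [Group Ω] {S : Subgroup Ω} [Finite S] (p : ℕ) [hp : Fact p.Prime]
    (hS : IsPGroup p S) {T : Subgroup Ω} (hTS : T < S) :
    ∃ M : Subgroup Ω, T ≤ M ∧ M ≤ S ∧ (M.subgroupOf S).Normal ∧ (M.subgroupOf S).index = p ∧
      Nat.card M < Nat.card S := by
  obtain ⟨N, hN⟩ := hS.exists_card_eq
  obtain ⟨a, ha⟩ := (hS.to_subgroup (T.subgroupOf S)).exists_card_eq
  have hlt : Nat.card (T.subgroupOf S) < Nat.card S := by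
    apply lt_of_le_of_ne (Subgroup.card_le_card_group _)
    intro heq
    have htop : T.subgroupOf S = ⊤ := Subgroup.eq_top_of_card_eq _ heq
    rw [Subgroup.subgroupOf_eq_top] at htop
    exact hTS.not_ge htop
  rw [ha, hN] at hlt
  have haN : a < N := (Nat.pow_lt_pow_iff_right hp.out.one_lt).1 hlt
  have hdvd : p ^ (N - 1) ∣ Nat.card S := by
    rw [hN]; exact pow_dvd_pow p (Nat.sub_le N 1)
  obtain ⟨K, hK, hTK⟩ := Sylow.exists_subgroup_card_pow_prime_le p hdvd (T.subgroupOf S) ha (by omega)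
  have hKidx : K.index = p := by
    have h1 := K.card_mul_index
    rw [hK, hN] at h1
    have h2 : p ^ (N - 1) * p = p ^ N := by
      rw [← pow_succ]; congr 1; omega
    exact Nat.eq_of_mul_eq_mul_left (pow_pos hp.out.pos _) (h1.trans h2.symm)
  have hKn : K.Normal := by
    apply Subgroup.normal_of_index_eq_minFac_card
    rw [hKidx, hN, Nat.pow_minFac (by omega : N ≠ 0), Nat.Prime.minFac_eq hp.out]
  have hsub : (K.map S.subtype).subgroupOf S = K := by
    ext x
    rw [Subgroup.mem_subgroupOf]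
    constructor
    · rintro ⟨y, hy, hyx⟩
      have : y = x := Subtype.ext hyx
      rwa [← this]
    · intro hx
      exact ⟨x, hx, rfl⟩
  refine ⟨K.map S.subtype, ?_, ?_, ?_, ?_, ?_⟩
  · intro t ht
    exact ⟨⟨t, hTS.le ht⟩, hTK (Subgroup.mem_subgroupOf.2 ht), rfl⟩
  · rintro _ ⟨y, -, rfl⟩
    exact y.2
  · rw [hsub]; exact hKn
  · rw [hsub]; exact hKidx
  · rw [Subgroup.card_map_of_injective S.subtype_injective, hK, hN]
    exact Nat.pow_lt_pow_right hp.out.one_lt (by omega)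

theorem exists_aux {Ω : Type u} [Group Ω] (p : ℕ) [hp : Fact p.Prime] : ∀ n : ℕ, ∀ S : Subgroup Ω, Finite S →
    Nat.card S ≤ n → IsPGroup p S → ∀ F : Cfsg.FusionSystem S, F.IsSaturated p → ∀ T : Subgroup Ω, T ≤ S →
      F.hyperfocalSubgroup p ≤ T → ∃ E : Cfsg.FusionSystem T, E.IsSaturated p ∧ E.HasPPowerIndexIn F p := by
  intro n
  induction n with
  | zero =>
    intro S hfin hcard
    have := Nat.card_pos (α := S)
    omega
  | succ n ih =>
    intro S hfin hcard hS F hF T hTS hT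
    rcases eq_or_lt_of_le hTS with rfl | hlt
    · exact ⟨F, hF, Helper86.hasPPowerIndexIn_self F p⟩
    · obtain ⟨M, hTM, hMS, hMn, hMidx, hMcard⟩ := exists_maximal_ge p hS hlt
      obtain ⟨EM, hEMsat, hEMidx, hMcl⟩ := exists_of_index p hS F hF hMS hMidx (hT.trans hTM)
      have hfinM : Finite M := Helper87.finite_of_le hMS
      have hhyp : EM.hyperfocalSubgroup p = F.hyperfocalSubgroup p :=
        Helper86.hyperfocal_eq_of_pPowerIndex hS F EM hEMidx hMcl
      obtain ⟨E, hEsat, hEidx⟩ := ih M hfinM (by omega) (hS.to_le hMS) EM hEMsat T hTM (by rw [hhyp]; exact hT)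
      refine ⟨E, hEsat, fun P _ h => hEMidx.1 P (hEidx.1 P h), hT, fun P hPT => ?_⟩
      unfold Cfsg.pResidual
      rw [MonoidHom.map_closure, Subgroup.closure_le]
      rintro _ ⟨α, hα, rfl⟩
      have h1 : ((α : F.autGroup P) : MulAut P) ∈ EM.autGroup P :=
        hEMidx.2.2 P (hPT.trans hTM) ⟨α, Subgroup.subset_closure hα, rfl⟩
      apply hEidx.2.2 P hPT
      refine ⟨⟨_, h1⟩, Subgroup.subset_closure ?_, rfl⟩
      change (orderOf (⟨((α : F.autGroup P) : MulAut P), h1⟩ : EM.autGroup P)).Coprime p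
      rw [← Subgroup.orderOf_coe, Subgroup.orderOf_coe α]
      exact hα

/-- Let F be a saturated fusion system over a finite p-group S and T a subgroup of S containing the hyperfocal subgroup of F. Then there is exactly one saturated fusion system over T that is a subsystem of F of p-power index. -/
theorem result {Ω : Type*} [Group Ω] {S : Subgroup Ω} [Finite S] (p : ℕ) [Fact p.Prime] (hS : IsPGroup p S) (F : Cfsg.FusionSystem S) (hF : F.IsSaturated p) (T : Subgroup Ω) (hTS : T ≤ S) (hT : F.hyperfocalSubgroup p ≤ T) : ∃ E : Cfsg.FusionSystem T, (E.IsSaturated p ∧ E.HasPPowerIndexIn F p) ∧ ∀ E' : Cfsg.FusionSystem T, E'.IsSaturated p → E'.HasPPowerIndexIn F p → E' = E := by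
  obtain ⟨E, hEsat, hEidx⟩ := exists_aux p (Nat.card S) S inferInstance le_rfl hS F hF T hTS hT
  refine ⟨E, ⟨hEsat, hEidx⟩, fun E' hE'sat hE'idx => ?_⟩
  exact Helper86.fusionSystem_ext E' E (Helper86.same_of_pPowerIndex hS F E' E rfl hE'sat hEsat hE'idx hEidx)

end Cfsg.Agent.S5113
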