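import Cfsg.Statements.S5124
import Cfsg.Agent.S5092
import Cfsg.Agent.Lib.Helper84.PResidualAux
import Cfsg.Agent.Lib.Helper87.FusionFrattini

set_option autoImplicit false
open Cfsg

namespace Cfsg.Agent.S5124

open Cfsg.FusionSystem
open Cfsg.Agent.Lib.Helper87
open Cfsg.Agent.Lib.Helper84

variable {Ω : Type*} [Group Ω] {S : Subgroup Ω}

/-- Transport of `Aut_F` along an isomorphism of the system, as a homomorphism. -/
def congrAut (F : FusionSystem S) {P Q : Subgroup Ω} {e : Q ≃* P} (he : IsIso F e) :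
    F.autGroup Q →* F.autGroup P where
  toFun α := ⟨MulAut.congr e α, congr_mem_autGroup F he α.2⟩
  map_one' := by
    apply Subtype.ext
    show MulAut.congr e ((1 : F.autGroup Q) : MulAut Q) = ((1 : F.autGroup P) : MulAut P)
    rw [Subgroup.coe_one, map_one, Subgroup.coe_one]
  map_mul' a b := by
    apply Subtype.ext
    show MulAut.congr e ((a * b : F.autGroup Q) : MulAut Q) =
      MulAut.congr e (a : MulAut Q) * MulAut.congr e (b : MulAut Q)
    rw [Subgroup.coe_mul, map_mul]

/-- The image of a generator of the hyperfocal subgroup under an isomorphism of the system is again a generator. -/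
theorem map_gen_mem (F : FusionSystem S) (p : ℕ) {P Q : Subgroup Ω} {e : Q ≃* P} (he : IsIso F e)
    (β : F.autGroup Q) (hβ : β ∈ pResidual p (F.autGroup Q)) (x : Q) :
    ((e x : P) : Ω)⁻¹ * ((e ((β : MulAut Q) x) : P) : Ω) ∈ F.hyperfocalSubgroup p := by
  have h1 : congrAut F he β ∈ pResidual p (F.autGroup P) := map_pResidual_le p (congrAut F he) ⟨β, hβ, rfl⟩
  refine Subgroup.subset_closure ⟨P, congrAut F he β, e x, he.le_right, h1, ?_⟩
  have h2 : ((congrAut F he β : F.autGroup P) : MulAut P) (e x) = e ((β : MulAut Q) x) := by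
    show (MulAut.congr e (β : MulAut Q)) (e x) = _
    simp [MulAut.congr]
  rw [h2]

theorem hyperfocal_le (F : FusionSystem S) (p : ℕ) : F.hyperfocalSubgroup p ≤ S := by
  unfold FusionSystem.hyperfocalSubgroup
  rw [Subgroup.closure_le]
  rintro y ⟨P, α, x, hPS, -, rfl⟩
  exact S.mul_mem (S.inv_mem (hPS x.2)) (hPS ((α : MulAut P) x).2)

/-- The hyperfocal subgroup is normalized by `S`. -/
theorem conj_mem_hyperfocal (F : FusionSystem S) (p : ℕ) {s : Ω} (hs : s ∈ S) {y : Ω}
    (hy : y ∈ F.hyperfocalSubgroup p) : s * y * s⁻¹ ∈ F.hyperfocalSubgroup p := by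
  unfold FusionSystem.hyperfocalSubgroup at hy
  induction hy using Subgroup.closure_induction with
  | mem z hz =>
    obtain ⟨Q, β, x, hQS, hβ, rfl⟩ := hz
    have he := isIso_ofInjective F (F.conj_mem hQS hs)
    have h1 := map_gen_mem F p he β hβ x
    have h2 : ((MonoidHom.ofInjective (F.injective_of_mem (F.conj_mem hQS hs)) x : (conjHom Q s).range) : Ω)⁻¹ *
        ((MonoidHom.ofInjective (F.injective_of_mem (F.conj_mem hQS hs)) ((β : MulAut Q) x) :
          (conjHom Q s).range) : Ω) = s * ((x : Ω)⁻¹ * (((β : MulAut Q) x : Q) : Ω)) * s⁻¹ := by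
      show (conjHom Q s x)⁻¹ * conjHom Q s ((β : MulAut Q) x) = _
      rw [conjHom_apply, conjHom_apply]
      group
    rw [← h2]
    exact h1
  | one => simp
  | mul a b _ _ ha hb =>
    have : s * (a * b) * s⁻¹ = (s * a * s⁻¹) * (s * b * s⁻¹) := by group
    rw [this]
    exact Subgroup.mul_mem _ ha hb
  | inv a _ ha =>
    have : s * a⁻¹ * s⁻¹ = (s * a * s⁻¹)⁻¹ := by group
    rw [this]
    exact Subgroup.inv_mem _ ha

theorem conj_mem_hyperfocal_iff (F : FusionSystem S) (p : ℕ) :
    ∀ g ∈ S, ∀ x, x ∈ F.hyperfocalSubgroup p ↔ g * x * g⁻¹ ∈ F.hyperfocalSubgroup p := by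
  intro g hg x
  constructor
  · exact conj_mem_hyperfocal F p hg
  · intro h
    have := conj_mem_hyperfocal F p (S.inv_mem hg) h
    have h2 : g⁻¹ * (g * x * g⁻¹) * g⁻¹⁻¹ = x := by group
    rwa [h2] at this

/-- For fully automized `P`, every element of `Aut_F(P)` maps `P ∩ hyp(F)` into `hyp(F)`. -/
theorem aut_apply_mem [Finite S] (p : ℕ) [Fact p.Prime] (F : FusionSystem S) {P : Subgroup Ω}
    (hPa : F.IsFullyAutomized p P) {α : MulAut P} (hα : α ∈ F.autGroup P) (x : P)
    (hx : (x : Ω) ∈ F.hyperfocalSubgroup p) : ((α x : P) : Ω) ∈ F.hyperfocalSubgroup p := by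
  obtain ⟨hPS, T, hT⟩ := hPa
  have : Finite P := finite_of_le hPS
  have hnd : ¬ p ∣ (T : Subgroup (F.autGroup P)).index := T.not_dvd_index
  have htop := Cfsg.Agent.Lib.Helper34.pResidual_sup_eq_top p (T : Subgroup (F.autGroup P)) hnd
  have := Cfsg.Agent.Lib.Helper34.pResidual_normal p (F.autGroup P)
  have hmem : (⟨α, hα⟩ : F.autGroup P) ∈ pResidual p (F.autGroup P) ⊔ (T : Subgroup (F.autGroup P)) := by
    rw [htop]; trivial
  rw [← SetLike.mem_coe, Subgroup.normal_mul] at hmem
  obtain ⟨β, hβ, γ, hγ, hβγ⟩ := hmem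
  rw [SetLike.mem_coe, hT, Subgroup.mem_subgroupOf] at hγ
  rw [SetLike.mem_coe] at hβ
  obtain ⟨s, hs, hsγ⟩ := mem_autInducedBy_iff.1 hγ
  have hαx : α x = (β : MulAut P) ((γ : MulAut P) x) := by
    have : α = (β : MulAut P) * (γ : MulAut P) := by
      have := congrArg Subtype.val hβγ
      exact this.symm
    rw [this]; rfl
  have hγx : (((γ : MulAut P) x : P) : Ω) ∈ F.hyperfocalSubgroup p := by
    rw [hsγ x]
    exact conj_mem_hyperfocal F p hs hx
  have h1 : ((α x : P) : Ω) = (((γ : MulAut P) x : P) : Ω) *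
      ((((γ : MulAut P) x : P) : Ω)⁻¹ * (((β : MulAut P) ((γ : MulAut P) x) : P) : Ω)) := by
    rw [hαx]; group
  rw [h1]
  refine Subgroup.mul_mem _ hγx ?_
  exact Subgroup.subset_closure ⟨P, β, (γ : MulAut P) x, hPS, hβ, rfl⟩

/-- In a saturated fusion system over a finite p-group S the hyperfocal subgroup is strongly closed in the system. -/
theorem result {Ω : Type*} [Group Ω] {S : Subgroup Ω} [Finite S] (p : ℕ) [Fact p.Prime] (hS : IsPGroup p S) (F : Cfsg.FusionSystem S) (hF : F.IsSaturated p) : F.StronglyClosed (F.hyperfocalSubgroup p) := by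
  refine ⟨hyperfocal_le F p, ?_⟩
  have hsub := alperin_goldschmidt' F (preserveSystem F (F.hyperfocalSubgroup p) (conj_mem_hyperfocal_iff F p))
    hS hF (by
      intro P hP α hα
      have hfn : F.IsFullyNormalized P := by
        rcases hP with rfl | hP
        · exact Cfsg.Agent.S5092.isFullyNormalized_self F
        · exact hP.2.1
      have hfa := (fullyAutomized_receptive_of_fullyNormalized F hS hF hfn).1
      refine ⟨(mem_autGroup_iff F hfn.1).1 hα, fun x => ⟨fun hx => aut_apply_mem p F hfa hα x hx, fun hx => ?_⟩⟩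
      have hinv : α⁻¹ ∈ F.autGroup P := Subgroup.inv_mem _ hα
      have := aut_apply_mem p F hfa hinv (α x) hx
      rwa [MulAut.inv_apply_self] at this)
  intro R hR φ hφ x
  exact ((hsub R hφ).2 x).1 (hR x.2)

end Cfsg.Agent.S5124
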