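import Cfsg.Statements.S5120
import Cfsg.Agent.Lib.Helper84.FusionFrattiniSys
import Cfsg.Agent.Lib.Helper84.Alperin2
import Cfsg.Agent.Lib.Helper84.PResidualAux
import Cfsg.Agent.Lib.Helper87.FusionFully
import Cfsg.Agent.Lib.Helper87.FusionFrattini
import Cfsg.Agent.Lib.Helper88.FusionAlperinCR
import Cfsg.Agent.Lib.Helper34.PResidual
import Cfsg.Agent.S5124
-- import your own Cfsg.Agent.* helpers here

set_option autoImplicit false
open Cfsg

namespace Cfsg.Agent.S5120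

open Cfsg.FusionSystem Cfsg.Agent.Lib.Helper87 Cfsg.Agent.Lib.Helper84

variable {Ω : Type*} [Group Ω] {S : Subgroup Ω}

/-! ### Step 1: a subgroup normal in `S` containing the hyperfocal subgroup is strongly closed -/

/-- For fully automized `P`, every element of `Aut_F(P)` maps `P ∩ K` into `K`, for `K ⊴ S` containing `hyp(F)`. -/
theorem aut_apply_mem_of_le [Finite S] (p : ℕ) [Fact p.Prime] (F : FusionSystem S) {K : Subgroup Ω}
    (hK : F.hyperfocalSubgroup p ≤ K) (hKn : ∀ s ∈ S, ∀ x ∈ K, s * x * s⁻¹ ∈ K) {P : Subgroup Ω}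
    (hPa : F.IsFullyAutomized p P) {α : MulAut P} (hα : α ∈ F.autGroup P) (x : P)
    (hx : (x : Ω) ∈ K) : ((α x : P) : Ω) ∈ K := by
  obtain ⟨hPS, T, hT⟩ := hPa
  have : Finite P := finite_of_le hPS
  have hnd : ¬ p ∣ (T : Subgroup (F.autGroup P)).index := T.not_dvd_index
  have htop := Cfsg.Agent.Lib.Helper34.pResidual_sup_eq_top p (T : Subgroup (F.autGroup P)) hnd
  have := Cfsg.Agent.Lib.Helper34.pResidual_normal p (F.autGroup P)
  have hmem : (⟨α, hα⟩ : F.autGroup P) ∈ pResidual p (F.autGroup P) ⊔ (T : Subgroup (F.autGroup P)) := by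
    rw [htop]; trivial
  rw [← SetLike.mem_coe, Subgroup.normal_mul] at hmem
  obtain ⟨β, hβ, γ, hγ, hβγ⟩ := hmem
  rw [SetLike.mem_coe, hT, Subgroup.mem_subgroupOf] at hγ
  rw [SetLike.mem_coe] at hβ
  obtain ⟨s, hs, hsγ⟩ := mem_autInducedBy_iff.1 hγ
  have hαx : α x = (β : MulAut P) ((γ : MulAut P) x) := by
    have : α = (β : MulAut P) * (γ : MulAut P) := by
      have := congrArg Subtype.val hβγ
      exact this.symm
    rw [this]; rfl
  have hγx : (((γ : MulAut P) x : P) : Ω) ∈ K := by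
    rw [hsγ x]
    exact hKn s hs _ hx
  have h1 : ((α x : P) : Ω) = (((γ : MulAut P) x : P) : Ω) *
      ((((γ : MulAut P) x : P) : Ω)⁻¹ * (((β : MulAut P) ((γ : MulAut P) x) : P) : Ω)) := by
    rw [hαx]; group
  rw [h1]
  refine Subgroup.mul_mem _ hγx (hK ?_)
  exact Subgroup.subset_closure ⟨P, β, (γ : MulAut P) x, hPS, hβ, rfl⟩

theorem stronglyClosed_of_hyperfocal_le [Finite S] (p : ℕ) [Fact p.Prime] (hS : IsPGroup p S) (F : FusionSystem S)
    (hF : F.IsSaturated p) {K : Subgroup Ω} (hKS : K ≤ S) (hK : F.hyperfocalSubgroup p ≤ K)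
    (hKn : ∀ s ∈ S, ∀ x ∈ K, s * x * s⁻¹ ∈ K) : F.StronglyClosed K := by
  refine ⟨hKS, ?_⟩
  have hiff : ∀ g ∈ S, ∀ x, x ∈ K ↔ g * x * g⁻¹ ∈ K := by
    intro g hg x
    refine ⟨hKn g hg x, fun h => ?_⟩
    have := hKn g⁻¹ (S.inv_mem hg) _ h
    have h2 : g⁻¹ * (g * x * g⁻¹) * g⁻¹⁻¹ = x := by group
    rwa [h2] at this
  have hsub := alperin_goldschmidt' F (preserveSystem F K hiff) hS hF (by
      intro P hP α hα
      have hfn : F.IsFullyNormalized P := by
        rcases hP with rfl | hP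
        · exact Cfsg.Agent.S5092.isFullyNormalized_self F
        · exact hP.2.1
      have hfa := (fullyAutomized_receptive_of_fullyNormalized F hS hF hfn).1
      refine ⟨(mem_autGroup_iff F hfn.1).1 hα, fun x =>
        ⟨fun hx => aut_apply_mem_of_le p F hK hKn hfa hα x hx, fun hx => ?_⟩⟩
      have hinv : α⁻¹ ∈ F.autGroup P := Subgroup.inv_mem _ hα
      have := aut_apply_mem_of_le p F hK hKn hfa hinv (α x) hx
      rwa [MulAut.inv_apply_self] at this)
  intro R hR φ hφ x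
  exact ((hsub R hφ).2 x).1 (hR x.2)

/-! ### Step 2: `E` is stable under `Aut_F(T)` -/

/-- The isomorphism `P ≃ α(P)` induced by `α ∈ Aut(T)`. -/
noncomputable def imgEquiv {T : Subgroup Ω} (α : MulAut T) {P : Subgroup Ω} (hPT : P ≤ T) : P ≃* imgAut α P :=
  MulEquiv.ofBijective
    ((T.subtype.comp (α.toMonoidHom.comp (Subgroup.inclusion hPT))).codRestrict (imgAut α P)
      (fun x => apply_mem_imgAut α hPT x))
    ⟨fun x y hxy => by
        have h1 : ((α ⟨x, hPT x.2⟩ : T) : Ω) = ((α ⟨y, hPT y.2⟩ : T) : Ω) :=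
          congrArg (fun z : imgAut α P => (z : Ω)) hxy
        have h2 := α.injective (Subtype.ext h1)
        exact Subtype.ext (congrArg (fun z : T => (z : Ω)) h2),
      fun y => by
        obtain ⟨t, ht, hty⟩ := mem_imgAut.1 y.2
        exact ⟨⟨t, ht⟩, Subtype.ext hty⟩⟩

theorem imgEquiv_apply {T : Subgroup Ω} (α : MulAut T) {P : Subgroup Ω} (hPT : P ≤ T) (x : P) :
    ((imgEquiv α hPT x : imgAut α P) : Ω) = ((α ⟨x, hPT x.2⟩ : T) : Ω) := rfl

theorem imgEquiv_isIso (F : FusionSystem S) {T : Subgroup Ω} (hTS : T ≤ S) {α : MulAut T} (hα : α ∈ F.autGroup T)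
    {P : Subgroup Ω} (hPT : P ≤ T) : IsIso F (imgEquiv α hPT) :=
  hom_of_eq_on F rfl (restrict_mem F ((mem_autGroup_iff F hTS).1 hα) hPT) (fun x hx _ => rfl)

theorem autGroup_le_of_subsystem (F : FusionSystem S) {T : Subgroup Ω} (E : FusionSystem T)
    (hEF : E.IsSubsystemOf F) {P : Subgroup Ω} (hPT : P ≤ T) (hTS : T ≤ S) : E.autGroup P ≤ F.autGroup P := by
  intro γ hγ
  rw [mem_autGroup_iff F (hPT.trans hTS)]
  exact hEF P ((mem_autGroup_iff E hPT).1 hγ)

theorem le_twist [Finite S] (p : ℕ) [Fact p.Prime] (hS : IsPGroup p S) (F : FusionSystem S) {T : Subgroup Ω}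
    (hTS : T ≤ S) (E : FusionSystem T) (hEs : E.IsSaturated p) (hEF : E.IsSubsystemOf F)
    (hres : ∀ P : Subgroup Ω, P ≤ T →
      (pResidual p (F.autGroup P)).map (F.autGroup P).subtype ≤ E.autGroup P)
    {α : MulAut T} (hα : α ∈ F.autGroup T) : ∀ P : Subgroup Ω, E.Hom P ⊆ (twist E α).Hom P := by
  have hfinT : Finite T := finite_of_le hTS
  have hTp : IsPGroup p T := by
    intro x
    obtain ⟨k, hk⟩ := hS ⟨x, hTS x.2⟩
    refine ⟨k, ?_⟩
    apply Subtype.ext
    have := congrArg (fun z : S => (z : Ω)) hk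
    simpa using this
  apply alperin_goldschmidt' E (twist E α) hTp hEs
  intro P hP γ hγ
  have hfn : E.IsFullyNormalized P := by
    rcases hP with rfl | hP
    · exact Cfsg.Agent.S5092.isFullyNormalized_self E
    · exact hP.2.1
  have hPT : P ≤ T := hfn.1
  obtain ⟨-, R, hR⟩ := (fullyAutomized_receptive_of_fullyNormalized E hTp hEs hfn).1
  have hfinP : Finite P := finite_of_le (hPT.trans hTS)
  set e : P ≃* imgAut α P := imgEquiv α hPT with he_def
  have he : IsIso F e := imgEquiv_isIso F hTS hα hPT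
  -- the subgroup of `Aut_E(P)` of the automorphisms whose transport lies in `Aut_E(α P)`
  let X : Subgroup (E.autGroup P) :=
    (E.autGroup (imgAut α P)).comap ((MulAut.congr e).toMonoidHom.comp (E.autGroup P).subtype)
  have hXtop : (⊤ : Subgroup (E.autGroup P)) ≤ X := by
    rw [← Cfsg.Agent.Lib.Helper34.pResidual_sup_eq_top p (R : Subgroup (E.autGroup P)) R.not_dvd_index]
    refine sup_le ?_ ?_
    · intro g hg
      show MulAut.congr e (g : MulAut P) ∈ E.autGroup (imgAut α P)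
      have h1 : ((Cfsg.Agent.S5124.congrAut F he).comp
          (Subgroup.inclusion (autGroup_le_of_subsystem F E hEF hPT hTS))) g ∈
          pResidual p (F.autGroup (imgAut α P)) :=
        map_pResidual_le p _ ⟨g, hg, rfl⟩
      exact hres (imgAut α P) (imgAut_le α P) ⟨_, h1, rfl⟩
    · intro g hg
      show MulAut.congr e (g : MulAut P) ∈ E.autGroup (imgAut α P)
      rw [hR, Subgroup.mem_subgroupOf] at hg
      obtain ⟨t, ht, htg⟩ := mem_autInducedBy_iff.1 hg
      apply autInducedBy_le_autGroup E (imgAut_le α P)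
      refine mem_autInducedBy_iff.2 ⟨(α ⟨t, ht⟩ : T), (α ⟨t, ht⟩).2, fun y => ?_⟩
      obtain ⟨x, rfl⟩ := e.surjective y
      have h2 : (MulAut.congr e (g : MulAut P)) (e x) = e ((g : MulAut P) x) := by
        simp [MulAut.congr]
      rw [h2, he_def, imgEquiv_apply, imgEquiv_apply]
      have h3 : (⟨(((g : MulAut P) x : P) : Ω), hPT ((g : MulAut P) x).2⟩ : T) =
          ⟨t, ht⟩ * ⟨x, hPT x.2⟩ * (⟨t, ht⟩ : T)⁻¹ := Subtype.ext (htg x)
      rw [h3, map_mul, map_mul, map_inv]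
      rfl
  have hX : (⟨γ, hγ⟩ : E.autGroup P) ∈ X := hXtop (Subgroup.mem_top _)
  have hX' : MulAut.congr e γ ∈ E.autGroup (imgAut α P) := hX
  refine ⟨hPT, fun x => hPT (γ x).2, (imgAut α P).subtype.comp (MulAut.congr e γ).toMonoidHom,
    (mem_autGroup_iff E (imgAut_le α P)).1 hX', fun x => ?_⟩
  show (((MulAut.congr e γ) (e x) : imgAut α P) : Ω) = _
  have h2 : (MulAut.congr e γ) (e x) = e (γ x) := by
    simp [MulAut.congr]
  rw [h2]
  rfl

/-! ### Step 3: the Frattini condition -/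

theorem le_frattiniSystem [Finite S] (p : ℕ) [Fact p.Prime] (hS : IsPGroup p S) (F : FusionSystem S)
    (hF : F.IsSaturated p) {T : Subgroup Ω} (hT : F.StronglyClosed T) (E : FusionSystem T)
    (hres : ∀ P : Subgroup Ω, P ≤ T →
      (pResidual p (F.autGroup P)).map (F.autGroup P).subtype ≤ E.autGroup P)
    (hinv : ∀ α ∈ F.autGroup T, ∀ P : Subgroup Ω, E.Hom P ⊆ (twist E α).Hom P) :
    ∀ P : Subgroup Ω, F.Hom P ⊆ (frattiniSystem F hT E hinv).Hom P := by
  apply alperin_goldschmidt' F (frattiniSystem F hT E hinv) hS hF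
  intro R hR γ hγ
  have hfn : F.IsFullyNormalized R := by
    rcases hR with rfl | hR
    · exact Cfsg.Agent.S5092.isFullyNormalized_self F
    · exact hR.2.1
  have hRS : R ≤ S := hfn.1
  obtain ⟨-, Sy, hSy⟩ := (fullyAutomized_receptive_of_fullyNormalized F hS hF hfn).1
  have hfinR : Finite R := finite_of_le hRS
  have := Cfsg.Agent.Lib.Helper34.pResidual_normal p (F.autGroup R)
  have htop := Cfsg.Agent.Lib.Helper34.pResidual_sup_eq_top p (Sy : Subgroup (F.autGroup R)) Sy.not_dvd_index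
  have hmem : (⟨γ, hγ⟩ : F.autGroup R) ∈ (Sy : Subgroup (F.autGroup R)) ⊔ pResidual p (F.autGroup R) := by
    rw [sup_comm, htop]; trivial
  rw [← SetLike.mem_coe, Subgroup.mul_normal] at hmem
  obtain ⟨σ, hσ, β', hβ', hprod⟩ := hmem
  rw [SetLike.mem_coe, hSy, Subgroup.mem_subgroupOf] at hσ
  rw [SetLike.mem_coe] at hβ'
  obtain ⟨s, hs, hsσ⟩ := mem_autInducedBy_iff.1 hσ
  have hγeq : ∀ y : R, ((γ y : R) : Ω) = s * (((β' : MulAut R) y : R) : Ω) * s⁻¹ := by
    intro y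
    have : γ = (σ : MulAut R) * (β' : MulAut R) := by
      have := congrArg Subtype.val hprod
      exact this.symm
    rw [this, MulAut.mul_apply, hsσ]
  have hφ₀ : (R ⊓ T).subtype.comp ((resAut F hT hRS β' : F.autGroup (R ⊓ T)) : MulAut ↥(R ⊓ T)).toMonoidHom ∈
      E.Hom (R ⊓ T) :=
    (mem_autGroup_iff E inf_le_right).1 (hres (R ⊓ T) inf_le_right
      ⟨resAut F hT hRS β', map_pResidual_le p (resAut F hT hRS) ⟨β', hβ', rfl⟩, rfl⟩)
  refine ⟨(mem_autGroup_iff F hRS).1 hγ, conjAut T s (le_normalizer_of_stronglyClosed' F hT hs),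
    conjAut_mem_autGroup F hT hs, _, hφ₀, fun x => ?_⟩
  exact hγeq ⟨x, x.2.1⟩

/-! ### Step 4: the extension condition -/

/-- The extension condition for one automorphism `α` of `T`. -/
def ExtCond (F : FusionSystem S) (T : Subgroup Ω) (α : MulAut T) : Prop :=
  ∃ β ∈ F.autGroup (T ⊔ centralizerIn S T),
    (∀ x : T, ((β (Subgroup.inclusion le_sup_left x) : ↥(T ⊔ centralizerIn S T)) : Ω) = ((α x : T) : Ω)) ∧
    ∀ c : ↥(T ⊔ centralizerIn S T), (c : Ω) ∈ centralizerIn S T →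
      (c : Ω)⁻¹ * ((β c : ↥(T ⊔ centralizerIn S T)) : Ω) ∈ T ⊓ Subgroup.centralizer (T : Set Ω)

theorem aut_center_mem {T : Subgroup Ω} (α : MulAut T) (z : T) (hz : (z : Ω) ∈ Subgroup.centralizer (T : Set Ω)) :
    ((α z : T) : Ω) ∈ T ⊓ Subgroup.centralizer (T : Set Ω) := by
  refine ⟨(α z).2, ?_⟩
  show ((α z : T) : Ω) ∈ Subgroup.centralizer (T : Set Ω)
  rw [Subgroup.mem_centralizer_iff]
  intro t ht
  have h1 : (⟨t, ht⟩ : T) = α (α⁻¹ ⟨t, ht⟩) := by simp
  have h2 : (α⁻¹ ⟨t, ht⟩ : T) * z = z * (α⁻¹ ⟨t, ht⟩ : T) := by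
    apply Subtype.ext
    exact Subgroup.mem_centralizer_iff.1 hz _ (α⁻¹ ⟨t, ht⟩).2
  have h3 : (⟨t, ht⟩ : T) * α z = α z * ⟨t, ht⟩ := by
    rw [h1, ← map_mul, h2, map_mul]
  exact congrArg (fun w : T => (w : Ω)) h3

theorem extCond_one (F : FusionSystem S) (T : Subgroup Ω) : ExtCond F T 1 := by
  refine ⟨1, Subgroup.one_mem _, fun x => rfl, fun c _ => ?_⟩
  show (c : Ω)⁻¹ * (c : Ω) ∈ _
  rw [inv_mul_cancel]
  exact Subgroup.one_mem _

theorem extCond_mul (F : FusionSystem S) (T : Subgroup Ω) {α₁ α₂ : MulAut T} (h₁ : ExtCond F T α₁)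
    (h₂ : ExtCond F T α₂) : ExtCond F T (α₁ * α₂) := by
  obtain ⟨β₁, hβ₁, hext₁, hc₁⟩ := h₁
  obtain ⟨β₂, hβ₂, hext₂, hc₂⟩ := h₂
  refine ⟨β₁ * β₂, Subgroup.mul_mem _ hβ₁ hβ₂, fun x => ?_, fun c hc => ?_⟩
  · show ((β₁ (β₂ (Subgroup.inclusion le_sup_left x)) : ↥(T ⊔ centralizerIn S T)) : Ω) = ((α₁ (α₂ x) : T) : Ω)
    have h1 : β₂ (Subgroup.inclusion le_sup_left x) = Subgroup.inclusion le_sup_left (α₂ x) :=
      Subtype.ext (hext₂ x)
    rw [h1, hext₁]
  · show (c : Ω)⁻¹ * ((β₁ (β₂ c) : ↥(T ⊔ centralizerIn S T)) : Ω) ∈ _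
    have hw := hc₂ c hc
    have h1 : β₂ c = c * Subgroup.inclusion le_sup_left (⟨(c : Ω)⁻¹ * ((β₂ c : ↥(T ⊔ centralizerIn S T)) : Ω), hw.1⟩ : T) := by
      apply Subtype.ext
      show ((β₂ c : ↥(T ⊔ centralizerIn S T)) : Ω) = (c : Ω) * ((c : Ω)⁻¹ * ((β₂ c : ↥(T ⊔ centralizerIn S T)) : Ω))
      rw [mul_inv_cancel_left]
    rw [h1, map_mul]
    have h2 : (c : Ω)⁻¹ * (((β₁ c * β₁ (Subgroup.inclusion le_sup_left
        (⟨(c : Ω)⁻¹ * ((β₂ c : ↥(T ⊔ centralizerIn S T)) : Ω), hw.1⟩ : T)) : ↥(T ⊔ centralizerIn S T))) : Ω) =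
        ((c : Ω)⁻¹ * ((β₁ c : ↥(T ⊔ centralizerIn S T)) : Ω)) *
          ((α₁ ⟨(c : Ω)⁻¹ * ((β₂ c : ↥(T ⊔ centralizerIn S T)) : Ω), hw.1⟩ : T) : Ω) := by
      rw [Subgroup.coe_mul, hext₁, mul_assoc]
    rw [h2]
    exact Subgroup.mul_mem _ (hc₁ c hc) (aut_center_mem α₁ _ hw.2)

theorem extCond_pow (F : FusionSystem S) (T : Subgroup Ω) {α : MulAut T} (h : ExtCond F T α) (k : ℕ) :
    ExtCond F T (α ^ k) := by
  induction k with
  | zero => rw [pow_zero]; exact extCond_one F T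
  | succ k ih => rw [pow_succ]; exact extCond_mul F T ih h

theorem extCond_inv (F : FusionSystem S) (T : Subgroup Ω) [Finite T] {α : MulAut T} (h : ExtCond F T α) :
    ExtCond F T α⁻¹ := by
  have hpos : orderOf α ≠ 0 := (orderOf_pos α).ne'
  have h1 : α⁻¹ = α ^ (orderOf α - 1) := by
    apply inv_eq_of_mul_eq_one_right
    rw [mul_pow_sub_one hpos, pow_orderOf_eq_one]
  rw [h1]
  exact extCond_pow F T h _

/-- The automorphisms of `T` satisfying the extension condition form a subgroup. -/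
def extSub (F : FusionSystem S) (T : Subgroup Ω) [Finite T] : Subgroup (MulAut T) where
  carrier := {α | ExtCond F T α}
  mul_mem' := fun h₁ h₂ => extCond_mul F T h₁ h₂
  one_mem' := extCond_one F T
  inv_mem' := fun h => extCond_inv F T h

theorem extCond_conj (F : FusionSystem S) {T : Subgroup Ω} (hTS : T ≤ S) {t : Ω} (ht : t ∈ T) :
    ExtCond F T (MulAut.conj (⟨t, ht⟩ : T)) := by
  have hle : T ⊔ centralizerIn S T ≤ S := sup_le hTS inf_le_left
  refine ⟨MulAut.conj (⟨t, le_sup_left (b := centralizerIn S T) ht⟩ : ↥(T ⊔ centralizerIn S T)),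
    ((Cfsg.Agent.Lib.Helper88.inn_le_autInducedBy hle).trans (autInducedBy_le_autGroup F hle)) ⟨_, rfl⟩,
    fun x => rfl, fun c hc => ?_⟩
  show (c : Ω)⁻¹ * (t * (c : Ω) * t⁻¹) ∈ _
  have h1 : t * (c : Ω) = (c : Ω) * t := Subgroup.mem_centralizer_iff.1 hc.2 t ht
  rw [h1, mul_inv_cancel_right, inv_mul_cancel]
  exact Subgroup.one_mem _

theorem extCond_of_coprime [Finite S] (p : ℕ) [Fact p.Prime] (hS : IsPGroup p S) (F : FusionSystem S)
    (hF : F.IsSaturated p) {T : Subgroup Ω} (hT : F.StronglyClosed T) (hhyp : F.hyperfocalSubgroup p ≤ T)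
    {α : MulAut T} (hα : α ∈ F.autGroup T) (hcop : Nat.Coprime (orderOf α) p) : ExtCond F T α := by
  have hTS : T ≤ S := hT.1
  have hfinT : Finite T := finite_of_le hTS
  have hle : T ⊔ centralizerIn S T ≤ S := sup_le hTS inf_le_left
  have hfinTC : Finite ↥(T ⊔ centralizerIn S T) := finite_of_le hle
  -- `T` is fully normalized, hence receptive
  have hfn : F.IsFullyNormalized T := by
    refine ⟨hTS, fun Q hQ => ?_⟩
    obtain ⟨φ, hφ, hrange⟩ := hQ
    have hQT : Q = T := by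
      have h1 : Q ≤ T := by
        rw [← hrange]
        rintro _ ⟨x, rfl⟩
        exact hT.2 T le_rfl φ hφ x
      have h2 : Nat.card T = Nat.card Q := by
        rw [← hrange]
        exact Nat.card_congr (MonoidHom.ofInjective (F.injective_of_mem hφ)).toEquiv
      exact Subgroup.eq_of_le_of_card_ge h1 h2.le
    rw [hQT]
  have hTr : F.IsReceptive T := (fullyAutomized_receptive_of_fullyNormalized F hS hF hfn).2
  set φ : T →* Ω := T.subtype.comp α.toMonoidHom with hφdef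
  have hφF : φ ∈ F.Hom T := (mem_autGroup_iff F hTS).1 hα
  have hφr : φ.range = T := range_subtype_comp (α : T ≃* T)
  obtain ⟨ψ, hψ, hψφ⟩ := hTr.2 T φ hφF hφr
  have hTN : T ≤ extender S T φ := by
    intro x hx
    rw [Cfsg.Agent.Lib.Helper85.mem_extender_iff]
    refine ⟨hTS hx, Subgroup.le_normalizer hx, φ ⟨x, hx⟩, hom_map_mem F hφF _, fun y hy => ?_⟩
    have : (⟨x * (y : Ω) * x⁻¹, hy⟩ : T) = ⟨x, hx⟩ * y * ⟨x, hx⟩⁻¹ := Subtype.ext rfl
    rw [this, map_mul, map_mul, map_inv]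
  have hleN : T ⊔ centralizerIn S T ≤ extender S T φ :=
    sup_le hTN (Cfsg.Agent.Lib.Helper88.centralizerIn_le_extender φ)
  set ψ' : ↥(T ⊔ centralizerIn S T) →* Ω := ψ.comp (Subgroup.inclusion hleN) with hψ'def
  have hψ'F : ψ' ∈ F.Hom (T ⊔ centralizerIn S T) := restrict_mem F hψ hleN
  have hψ'T : ∀ x : T, ψ' (Subgroup.inclusion le_sup_left x) = ((α x : T) : Ω) := fun x =>
    hψφ (x : Ω) x.2 (hleN (le_sup_left (b := centralizerIn S T) x.2))
  -- `ψ'` maps elements centralizing `T` to elements centralizing `T`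
  have hcent : ∀ c : ↥(T ⊔ centralizerIn S T), (c : Ω) ∈ Subgroup.centralizer (T : Set Ω) →
      ψ' c ∈ Subgroup.centralizer (T : Set Ω) := by
    intro c hc
    rw [Subgroup.mem_centralizer_iff]
    intro t ht
    have h1 : t = ψ' (Subgroup.inclusion le_sup_left (α⁻¹ ⟨t, ht⟩)) := by
      rw [hψ'T]; simp
    have h2 : Subgroup.inclusion le_sup_left (α⁻¹ ⟨t, ht⟩) * c = c * Subgroup.inclusion le_sup_left (α⁻¹ ⟨t, ht⟩) := by
      apply Subtype.ext
      exact Subgroup.mem_centralizer_iff.1 hc _ (α⁻¹ ⟨t, ht⟩).2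
    rw [h1, ← map_mul, h2, map_mul]
  have hmaps : ∀ z : ↥(T ⊔ centralizerIn S T), ψ' z ∈ T ⊔ centralizerIn S T := by
    have h1 : T.subgroupOf (T ⊔ centralizerIn S T) ≤ (T ⊔ centralizerIn S T).comap ψ' := by
      intro z hz
      rw [Subgroup.mem_subgroupOf] at hz
      have : z = Subgroup.inclusion le_sup_left (⟨z, hz⟩ : T) := Subtype.ext rfl
      rw [Subgroup.mem_comap, this, hψ'T]
      exact le_sup_left (b := centralizerIn S T) (α _).2
    have h2 : (centralizerIn S T).subgroupOf (T ⊔ centralizerIn S T) ≤ (T ⊔ centralizerIn S T).comap ψ' := by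
      intro z hz
      rw [Subgroup.mem_subgroupOf] at hz
      rw [Subgroup.mem_comap]
      exact le_sup_right (a := T) ⟨hom_map_mem F hψ'F z, hcent z hz.2⟩
    have h3 := codisjoint_iff.1 (Subgroup.codisjoint_subgroupOf_sup T (centralizerIn S T))
    intro z
    have : z ∈ (T ⊔ centralizerIn S T).comap ψ' := (sup_le h1 h2) (by rw [h3]; trivial)
    exact this
  have hinj : Function.Injective (ψ'.codRestrict (T ⊔ centralizerIn S T) hmaps) := fun a b hab =>
    F.injective_of_mem hψ'F (congrArg Subtype.val hab)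
  have hbij : Function.Bijective (ψ'.codRestrict (T ⊔ centralizerIn S T) hmaps) :=
    Finite.injective_iff_bijective.1 hinj
  set β₀ : MulAut ↥(T ⊔ centralizerIn S T) :=
    MulEquiv.ofBijective (ψ'.codRestrict (T ⊔ centralizerIn S T) hmaps) hbij with hβ₀def
  have hβ₀ : β₀ ∈ F.autGroup (T ⊔ centralizerIn S T) := by
    rw [mem_autGroup_iff F hle]
    exact hom_of_eq_on F rfl hψ'F (fun x hx _ => rfl)
  have hext₀ : ∀ (j : ℕ) (x : T), (β₀ ^ j) (Subgroup.inclusion le_sup_left x) =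
      Subgroup.inclusion le_sup_left ((α ^ j) x) := by
    intro j
    induction j with
    | zero => intro x; rfl
    | succ j ih =>
      intro x
      rw [pow_succ', pow_succ', MulAut.mul_apply, MulAut.mul_apply, ih]
      apply Subtype.ext
      exact hψ'T ((α ^ j) x)
  -- the `p'`-part of `β₀`
  set n := orderOf β₀ with hn
  have hnpos : n ≠ 0 := (orderOf_pos β₀).ne'
  set a := n.factorization p with ha
  set d := orderOf α with hd
  have hdpos : 0 < d := orderOf_pos α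
  set k := (p ^ a) ^ d.totient with hk
  have hcop' : Nat.Coprime (p ^ a) d := Nat.Coprime.pow_left a hcop.symm
  have hk1 : k ≡ 1 [MOD d] := Nat.ModEq.pow_totient hcop'
  have hαk : α ^ k = α := by
    have : α ^ k = α ^ 1 := pow_eq_pow_iff_modEq.2 hk1
    rwa [pow_one] at this
  have hpak : p ^ a ∣ k := by
    have h1 : 0 < d.totient := Nat.totient_pos.2 hdpos
    exact dvd_pow_self _ h1.ne'
  have hβ : β₀ ^ k ∈ F.autGroup (T ⊔ centralizerIn S T) := Subgroup.pow_mem _ hβ₀ k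
  have hordβ : Nat.Coprime (orderOf (β₀ ^ k)) p := by
    have h1 : (β₀ ^ k) ^ (n / p ^ a) = 1 := by
      rw [← pow_mul]
      apply orderOf_dvd_iff_pow_eq_one.1
      have h2 : p ^ a * (n / p ^ a) = n := Nat.ordProj_mul_ordCompl_eq_self n p
      calc orderOf β₀ = p ^ a * (n / p ^ a) := h2.symm
        _ ∣ k * (n / p ^ a) := Nat.mul_dvd_mul_right hpak _
    have h3 : orderOf (β₀ ^ k) ∣ n / p ^ a := orderOf_dvd_of_pow_eq_one h1
    exact Nat.Coprime.coprime_dvd_left h3 (Nat.coprime_ordCompl Fact.out hnpos).symm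
  refine ⟨β₀ ^ k, hβ, fun x => ?_, fun c hc => ⟨hhyp ?_, ?_⟩⟩
  · rw [hext₀ k x, hαk]
    rfl
  · have hres : (⟨β₀ ^ k, hβ⟩ : F.autGroup (T ⊔ centralizerIn S T)) ∈
        pResidual p (F.autGroup (T ⊔ centralizerIn S T)) := by
      apply Subgroup.subset_closure
      show Nat.Coprime (orderOf (⟨β₀ ^ k, hβ⟩ : F.autGroup (T ⊔ centralizerIn S T))) p
      rw [Subgroup.orderOf_mk]
      exact hordβ
    exact Subgroup.subset_closure ⟨T ⊔ centralizerIn S T, ⟨β₀ ^ k, hβ⟩, c, hle, hres, rfl⟩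
  · refine Subgroup.mul_mem _ (Subgroup.inv_mem _ hc.2) ?_
    rw [Subgroup.mem_centralizer_iff]
    intro t ht
    have h1 : t = (((β₀ ^ k) (Subgroup.inclusion le_sup_left (α⁻¹ ⟨t, ht⟩)) : ↥(T ⊔ centralizerIn S T)) : Ω) := by
      rw [hext₀ k, hαk]
      simp
    have h2 : Subgroup.inclusion le_sup_left (α⁻¹ ⟨t, ht⟩) * c = c * Subgroup.inclusion le_sup_left (α⁻¹ ⟨t, ht⟩) := by
      apply Subtype.ext
      exact Subgroup.mem_centralizer_iff.1 hc.2 _ (α⁻¹ ⟨t, ht⟩).2
    rw [h1, ← Subgroup.coe_mul, ← map_mul, h2, map_mul, Subgroup.coe_mul]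

/-- Let F be a saturated fusion system over a finite p-group S and T a subgroup of S containing the hyperfocal subgroup of F and normal in S. Then every saturated subsystem of F over T of p-power index is a normal subsystem of F. -/
theorem result {Ω : Type*} [Group Ω] {S : Subgroup Ω} [Finite S] (p : ℕ) [Fact p.Prime] (hS : IsPGroup p S) (F : Cfsg.FusionSystem S) (hF : F.IsSaturated p) (T : Subgroup Ω) (hTS : T ≤ S) (hTn : (T.subgroupOf S).Normal) (hT : F.hyperfocalSubgroup p ≤ T) (E : Cfsg.FusionSystem T) (hEs : E.IsSaturated p) (hEi : E.HasPPowerIndexIn F p) : E.IsNormalIn F p := by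
  obtain ⟨hEF, -, hres⟩ := hEi
  have hKn : ∀ s ∈ S, ∀ x ∈ T, s * x * s⁻¹ ∈ T := by
    intro s hs x hx
    have h1 : (⟨x, hTS hx⟩ : S) ∈ T.subgroupOf S := Subgroup.mem_subgroupOf.2 hx
    have := hTn.conj_mem ⟨x, hTS hx⟩ h1 ⟨s, hs⟩
    exact Subgroup.mem_subgroupOf.1 this
  have hTsc : F.StronglyClosed T := stronglyClosed_of_hyperfocal_le p hS F hF hTS hT hKn
  have hinv : ∀ α ∈ F.autGroup T, ∀ P : Subgroup Ω, E.Hom P ⊆ (twist E α).Hom P :=
    fun α hα => le_twist p hS F hTS E hEs hEF hres hα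
  have hfrat := le_frattiniSystem p hS F hF hTsc E hres hinv
  have hfinT : Finite T := finite_of_le hTS
  have hTp : IsPGroup p T := by
    intro x
    obtain ⟨k, hk⟩ := hS ⟨x, hTS x.2⟩
    refine ⟨k, ?_⟩
    apply Subtype.ext
    have := congrArg (fun z : S => (z : Ω)) hk
    simpa using this
  refine ⟨⟨hEs, hF, hEF, hTsc, ?_, ?_⟩, ?_⟩
  · -- invariance
    intro P hPT φ hφ α hα
    obtain ⟨hPT', hφT, χ, hχ, h⟩ := hinv α hα P hφ
    exact ⟨χ, hχ, fun x hφx hαx => h x⟩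
  · -- Frattini condition
    intro P hPT φ hφ
    obtain ⟨-, α, hα, φ₀, hφ₀, h⟩ := hfrat P hφ
    have hle : P ≤ P ⊓ T := le_inf le_rfl hPT
    refine ⟨α, hα, φ₀.comp (Subgroup.inclusion hle), restrict_mem E hφ₀ hle, fun x hx => ?_⟩
    exact h ⟨x, ⟨x.2, hPT x.2⟩⟩
  · -- extension condition
    intro α hα
    show ExtCond F T α
    obtain ⟨-, R, hR⟩ := (fullyAutomized_receptive_of_fullyNormalized E hTp hEs
      (Cfsg.Agent.S5092.isFullyNormalized_self E)).1
    have htop : (⊤ : Subgroup (E.autGroup T)) ≤ (extSub F T).comap (E.autGroup T).subtype := by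
      rw [← Cfsg.Agent.Lib.Helper34.pResidual_sup_eq_top p (R : Subgroup (E.autGroup T)) R.not_dvd_index]
      refine sup_le ?_ ?_
      · unfold pResidual
        rw [Subgroup.closure_le]
        intro g hg
        show ExtCond F T (g : MulAut T)
        refine extCond_of_coprime p hS F hF hTsc hT (autGroup_le_of_subsystem F E hEF le_rfl hTS g.2) ?_
        rw [Subgroup.orderOf_coe]
        exact hg
      · intro g hg
        rw [hR, Subgroup.mem_subgroupOf] at hg
        obtain ⟨t, ht, htg⟩ := mem_autInducedBy_iff.1 hg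
        have h1 : (g : MulAut T) = MulAut.conj (⟨t, ht⟩ : T) := by
          ext x
          exact htg x
        show ExtCond F T (g : MulAut T)
        rw [h1]
        exact extCond_conj F hTS ht
    exact htop (Subgroup.mem_top (⟨α, hα⟩ : E.autGroup T))

end Cfsg.Agent.S5120
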