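import Cfsg.Statements.S5198
import Cfsg.Agent.Lib.Helper84.PResidualAux
import Cfsg.Agent.Lib.Helper87.FusionLift

set_option autoImplicit false
open Cfsg

namespace Cfsg.Agent.S5198

open Cfsg.FusionSystem
open Cfsg.Agent.Lib.Helper87
open Cfsg.Agent.Lib.Helper84

variable {Ω : Type*} [Group Ω] {S : Subgroup Ω}

/-- A strongly closed subgroup is normalized by `S`. -/
theorem le_normalizer_of_stronglyClosed (F : FusionSystem S) {T : Subgroup Ω} (hT : F.StronglyClosed T) :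
    S ≤ Subgroup.normalizer (T : Set Ω) := by
  have key : ∀ s ∈ S, ∀ t ∈ T, s * t * s⁻¹ ∈ T := fun s hs t ht =>
    hT.2 T le_rfl (conjHom T s) (F.conj_mem hT.1 hs) ⟨t, ht⟩
  intro s hs
  rw [Subgroup.mem_normalizer_iff]
  intro h
  constructor
  · exact key s hs h
  · intro hh
    have := key s⁻¹ (S.inv_mem hs) _ hh
    have h2 : s⁻¹ * (s * h * s⁻¹) * s⁻¹⁻¹ = h := by group
    rwa [h2] at this

/-- The conjugation action of `S` on the strongly closed subgroup `T`, as a homomorphism `S → Aut_F(T)`. -/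
noncomputable def kap (F : FusionSystem S) {T : Subgroup Ω} (hT : F.StronglyClosed T) : S →* F.autGroup T :=
  (T.normalizerMonoidHom.comp (Subgroup.inclusion (le_normalizer_of_stronglyClosed F hT))).codRestrict
    (F.autGroup T) (fun s => by
      apply autInducedBy_le_autGroup F hT.1
      exact mem_autInducedBy_iff.2 ⟨s, s.2, fun _ => rfl⟩)

theorem kap_apply (F : FusionSystem S) {T : Subgroup Ω} (hT : F.StronglyClosed T) (s : S) (t : T) :
    ((((kap F hT s : F.autGroup T) : MulAut T) t : T) : Ω) = (s : Ω) * (t : Ω) * (s : Ω)⁻¹ := rfl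

/-- `D = O^p(Aut_F(T)) Inn(T)` as a subgroup of `Aut_F(T)`. -/
def Dsub (F : FusionSystem S) (p : ℕ) (T : Subgroup Ω) : Subgroup (F.autGroup T) :=
  pResidual p (F.autGroup T) ⊔ (Inn T).subgroupOf (F.autGroup T)

theorem Dsub_normal (F : FusionSystem S) (p : ℕ) (T : Subgroup Ω) : (Dsub F p T).Normal := by
  have := Cfsg.Agent.Lib.Helper34.pResidual_normal p (F.autGroup T)
  unfold Dsub
  infer_instance

theorem coe_mem_of_mem_Dsub (F : FusionSystem S) (p : ℕ) (T : Subgroup Ω) {a : F.autGroup T}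
    (ha : a ∈ Dsub F p T) :
    (a : MulAut T) ∈ ((pResidual p ↥(F.autGroup T)).map (F.autGroup T).subtype ⊔ Inn ↥T : Subgroup (MulAut ↥T)) := by
  have h1 : (a : MulAut T) ∈ (Dsub F p T).map (F.autGroup T).subtype := ⟨a, ha, rfl⟩
  unfold Dsub at h1
  rw [Subgroup.map_sup] at h1
  have h2 : ((Inn T).subgroupOf (F.autGroup T)).map (F.autGroup T).subtype ≤ Inn T := by
    rintro _ ⟨b, hb, rfl⟩
    exact Subgroup.mem_subgroupOf.1 hb
  exact (sup_le_sup_left h2 _) h1

/-- Every `φ ∈ Aut_F(P)` is, modulo `Inn(T)`, compatible with conjugation on `T` through some `b ∈ Aut_F(T)`. -/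
theorem exists_conj (F : FusionSystem S) [Finite S] {p : ℕ} [Fact p.Prime] (hS : IsPGroup p S)
    (hF : F.IsSaturated p) {T : Subgroup Ω} (hT : F.StronglyClosed T) {P : Subgroup Ω} (hPS : P ≤ S)
    {φ : MulAut P} (hφ : φ ∈ F.autGroup P) :
    ∃ b : F.autGroup T, ∀ y : P, ∃ d ∈ (Inn T).subgroupOf (F.autGroup T),
      kap F hT ⟨φ y, hPS (φ y).2⟩ = b * kap F hT ⟨y, hPS y.2⟩ * b⁻¹ * d := by
  have hφ₀ : P.subtype.comp φ.toMonoidHom ∈ F.Hom P := (mem_autGroup_iff F hPS).1 hφ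
  obtain ⟨ψ, hψ, hlift⟩ := exists_lift F hS hF hT hφ₀
  have hfinT : Finite T := finite_of_le hT.1
  set ψT : T →* Ω := ψ.comp (Subgroup.inclusion le_sup_right) with hψT
  have hψTF : ψT ∈ F.Hom T := restrict_mem F hψ le_sup_right
  have hψTT : ∀ t : T, ψT t ∈ T := fun t => hT.2 T le_rfl ψT hψTF t
  have hinj : Function.Injective (ψT.codRestrict T hψTT) := fun a b hab =>
    F.injective_of_mem hψTF (congrArg Subtype.val hab)
  have hbij : Function.Bijective (ψT.codRestrict T hψTT) := Finite.injective_iff_bijective.1 hinj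
  set b₀ : MulAut T := MulEquiv.ofBijective (ψT.codRestrict T hψTT) hbij with hb₀def
  have hb₀ : b₀ ∈ F.autGroup T := by
    rw [mem_autGroup_iff F hT.1]
    refine hom_of_eq_on F rfl hψTF ?_
    intro x hx _
    rfl
  refine ⟨⟨b₀, hb₀⟩, fun y => ?_⟩
  have hψyS : ψ (Subgroup.inclusion le_sup_left y) ∈ S := hom_map_mem F hψ _
  have ht' : (ψ (Subgroup.inclusion le_sup_left y))⁻¹ * ((φ y : P) : Ω) ∈ T := by
    have := T.inv_mem (hlift y)
    simpa [mul_inv_rev] using this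
  refine ⟨kap F hT ⟨(ψ (Subgroup.inclusion le_sup_left y))⁻¹ * ((φ y : P) : Ω), hT.1 ht'⟩, ?_, ?_⟩
  · rw [Subgroup.mem_subgroupOf]
    refine ⟨⟨_, ht'⟩, ?_⟩
    ext t
    rfl
  · have h1 : (⟨b₀, hb₀⟩ : F.autGroup T) * kap F hT ⟨y, hPS y.2⟩ * (⟨b₀, hb₀⟩ : F.autGroup T)⁻¹ =
        kap F hT ⟨ψ (Subgroup.inclusion le_sup_left y), hψyS⟩ := by
      rw [mul_inv_eq_iff_eq_mul]
      apply Subtype.ext
      ext t
      show ψ (Subgroup.inclusion le_sup_right
          (((kap F hT ⟨y, hPS y.2⟩ : F.autGroup T) : MulAut T) t)) =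
        ψ (Subgroup.inclusion le_sup_left y) * ψ (Subgroup.inclusion le_sup_right t) *
          (ψ (Subgroup.inclusion le_sup_left y))⁻¹
      rw [← map_inv, ← map_mul, ← map_mul]
      congr 1
    rw [h1, ← map_mul]
    congr 1
    apply Subtype.ext
    simp

instance Dsub_normal_inst (F : FusionSystem S) (p : ℕ) (T : Subgroup Ω) : (Dsub F p T).Normal :=
  Dsub_normal F p T

/-- `Aut_F(T)/D` is a `p`-group. -/
theorem isPGroup_quot (F : FusionSystem S) [Finite S] (p : ℕ) [Fact p.Prime] {T : Subgroup Ω} (hTS : T ≤ S) :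
    IsPGroup p (F.autGroup T ⧸ Dsub F p T) := by
  have : Finite T := finite_of_le hTS
  intro g
  induction g using QuotientGroup.induction_on with
  | H x =>
    refine ⟨(orderOf x).factorization p, ?_⟩
    rw [← QuotientGroup.mk_pow, QuotientGroup.eq_one_iff]
    exact (le_sup_left : pResidual p (F.autGroup T) ≤ Dsub F p T)
      (Cfsg.Agent.Lib.Helper34.pow_ordProj_mem_pResidual p x)

/-- The homomorphism `S → Aut_F(T)/D`. -/
noncomputable def rho (F : FusionSystem S) (p : ℕ) {T : Subgroup Ω} (hT : F.StronglyClosed T) :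
    S →* F.autGroup T ⧸ Dsub F p T :=
  (QuotientGroup.mk' (Dsub F p T)).comp (kap F hT)

/-- Step: `ρ(φ y) = c ρ(y) c⁻¹` for some `c` depending only on `φ ∈ Aut_F(P)`. -/
theorem exists_rho_conj (F : FusionSystem S) [Finite S] {p : ℕ} [Fact p.Prime] (hS : IsPGroup p S)
    (hF : F.IsSaturated p) {T : Subgroup Ω} (hT : F.StronglyClosed T) {P : Subgroup Ω} (hPS : P ≤ S)
    {φ : MulAut P} (hφ : φ ∈ F.autGroup P) :
    ∃ c : F.autGroup T ⧸ Dsub F p T, ∀ y : P,
      rho F p hT ⟨φ y, hPS (φ y).2⟩ = c * rho F p hT ⟨y, hPS y.2⟩ * c⁻¹ := by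
  obtain ⟨b, hb⟩ := exists_conj F hS hF hT hPS hφ
  refine ⟨QuotientGroup.mk' (Dsub F p T) b, fun y => ?_⟩
  obtain ⟨d, hd, hy⟩ := hb y
  have hd1 : QuotientGroup.mk' (Dsub F p T) d = 1 := by
    rw [QuotientGroup.mk'_apply, QuotientGroup.eq_one_iff]
    exact (le_sup_right : (Inn T).subgroupOf (F.autGroup T) ≤ Dsub F p T) hd
  show QuotientGroup.mk' (Dsub F p T) (kap F hT ⟨φ y, hPS (φ y).2⟩) = _
  rw [hy, map_mul, map_mul, map_mul, map_inv, hd1, mul_one]
  rfl

/-- Automorphisms in `Aut_F(P)` of order prime to `p` preserve `ρ`. -/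
theorem rho_apply_of_coprime (F : FusionSystem S) [Finite S] {p : ℕ} [Fact p.Prime] (hS : IsPGroup p S)
    (hF : F.IsSaturated p) {T : Subgroup Ω} (hT : F.StronglyClosed T) {P : Subgroup Ω} (hPS : P ≤ S)
    {φ : MulAut P} (hφ : φ ∈ F.autGroup P) (hcop : Nat.Coprime (orderOf φ) p) (y : P) :
    rho F p hT ⟨φ y, hPS (φ y).2⟩ = rho F p hT ⟨y, hPS y.2⟩ := by
  obtain ⟨c, hc⟩ := exists_rho_conj F hS hF hT hPS hφ
  have hpow : ∀ (i : ℕ) (y : P), rho F p hT ⟨(φ ^ i) y, hPS ((φ ^ i) y).2⟩ =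
      c ^ i * rho F p hT ⟨y, hPS y.2⟩ * (c ^ i)⁻¹ := by
    intro i
    induction i with
    | zero => intro y; simp
    | succ i ih =>
      intro y
      have h1 : (φ ^ (i + 1)) y = (φ ^ i) (φ y) := by
        rw [pow_succ, MulAut.mul_apply]
      have h2 : (⟨(φ ^ (i + 1)) y, hPS ((φ ^ (i + 1)) y).2⟩ : S) =
          ⟨(φ ^ i) (φ y), hPS ((φ ^ i) (φ y)).2⟩ := Subtype.ext (congrArg (fun z : P => (z : Ω)) h1)
      rw [h2, ih (φ y), hc y, pow_succ]
      group
  have hm := hpow (orderOf φ) y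
  have h1 : (φ ^ orderOf φ) y = y := by rw [pow_orderOf_eq_one]; rfl
  have h2 : (⟨(φ ^ orderOf φ) y, hPS ((φ ^ orderOf φ) y).2⟩ : S) = ⟨y, hPS y.2⟩ :=
    Subtype.ext (congrArg (fun z : P => (z : Ω)) h1)
  rw [h2] at hm
  have hcomm : Commute (c ^ orderOf φ) (rho F p hT ⟨y, hPS y.2⟩) := by
    show c ^ orderOf φ * rho F p hT ⟨y, hPS y.2⟩ = rho F p hT ⟨y, hPS y.2⟩ * c ^ orderOf φ
    have h3 : c ^ orderOf φ * rho F p hT ⟨y, hPS y.2⟩ * (c ^ orderOf φ)⁻¹ * c ^ orderOf φ =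
        rho F p hT ⟨y, hPS y.2⟩ * c ^ orderOf φ := by rw [← hm]
    rw [← h3]
    group
  obtain ⟨k, hk⟩ := (isPGroup_quot F p hT.1) c
  have hdvd : orderOf c ∣ p ^ k := orderOf_dvd_of_pow_eq_one hk
  have hcop' : Nat.Coprime (orderOf φ) (orderOf c) :=
    Nat.Coprime.coprime_dvd_right hdvd (Nat.Coprime.pow_right k hcop)
  obtain ⟨j, hj⟩ := exists_pow_eq_self_of_coprime hcop'
  have hcomm' : Commute c (rho F p hT ⟨y, hPS y.2⟩) := by
    rw [← hj]
    exact hcomm.pow_left j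
  rw [hc y, hcomm'.eq, mul_inv_cancel_right]

/-- The subgroup of `Aut_F(P)` of automorphisms preserving `ρ`. -/
def fixSub (F : FusionSystem S) (p : ℕ) {T : Subgroup Ω} (hT : F.StronglyClosed T) {P : Subgroup Ω}
    (hPS : P ≤ S) : Subgroup (F.autGroup P) where
  carrier := {β | ∀ y : P, rho F p hT ⟨(β : MulAut P) y, hPS ((β : MulAut P) y).2⟩ = rho F p hT ⟨y, hPS y.2⟩}
  one_mem' := fun y => rfl
  mul_mem' := by
    intro a b ha hb y
    have h1 : ((a * b : F.autGroup P) : MulAut P) y = (a : MulAut P) ((b : MulAut P) y) := rfl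
    have h2 : (⟨((a * b : F.autGroup P) : MulAut P) y, hPS (((a * b : F.autGroup P) : MulAut P) y).2⟩ : S) =
        ⟨(a : MulAut P) ((b : MulAut P) y), hPS ((a : MulAut P) ((b : MulAut P) y)).2⟩ :=
      Subtype.ext (congrArg (fun z : P => (z : Ω)) h1)
    rw [h2, ha, hb]
  inv_mem' := by
    intro a ha y
    have h := ha ((a : MulAut P)⁻¹ y)
    have h1 : (a : MulAut P) ((a : MulAut P)⁻¹ y) = y := by simp
    have h2 : (⟨(a : MulAut P) ((a : MulAut P)⁻¹ y), hPS ((a : MulAut P) ((a : MulAut P)⁻¹ y)).2⟩ : S) =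
        ⟨y, hPS y.2⟩ := Subtype.ext (congrArg (fun z : P => (z : Ω)) h1)
    rw [h2] at h
    have h3 : ((a⁻¹ : F.autGroup P) : MulAut P) y = (a : MulAut P)⁻¹ y := rfl
    have h4 : (⟨((a⁻¹ : F.autGroup P) : MulAut P) y, hPS (((a⁻¹ : F.autGroup P) : MulAut P) y).2⟩ : S) =
        ⟨(a : MulAut P)⁻¹ y, hPS ((a : MulAut P)⁻¹ y).2⟩ := Subtype.ext (congrArg (fun z : P => (z : Ω)) h3)
    rw [h4]
    exact h.symm

theorem pResidual_le_fixSub (F : FusionSystem S) [Finite S] {p : ℕ} [Fact p.Prime] (hS : IsPGroup p S)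
    (hF : F.IsSaturated p) {T : Subgroup Ω} (hT : F.StronglyClosed T) {P : Subgroup Ω} (hPS : P ≤ S) :
    pResidual p (F.autGroup P) ≤ fixSub F p hT hPS := by
  unfold pResidual
  rw [Subgroup.closure_le]
  intro β hβ y
  have hcop : Nat.Coprime (orderOf (β : MulAut P)) p := by
    rw [Subgroup.orderOf_coe]
    exact hβ
  exact rho_apply_of_coprime F hS hF hT hPS β.2 hcop y

/-- Let F be a saturated fusion system over a finite p-group S and T a subgroup of S strongly closed in F (so T is normal in S). Then every element x of the hyperfocal subgroup of F acts on T by conjugation as an element of O^p(Aut_F(T))·Inn(T): there is an automorphism of T in the subgroup generated by the elements of Aut_F(T) of order prime to p together with the inner automorphisms of T that agrees with conjugation by x. -/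
theorem result {Ω : Type*} [Group Ω] {S : Subgroup Ω} [Finite S] (p : ℕ) [Fact p.Prime] (hS : IsPGroup p S) (F : Cfsg.FusionSystem S) (hF : F.IsSaturated p) (T : Subgroup Ω) (hT : F.StronglyClosed T) : ∀ x ∈ F.hyperfocalSubgroup p, ∃ α ∈ ((Cfsg.pResidual p ↥(F.autGroup T)).map (F.autGroup T).subtype ⊔ Cfsg.Inn ↥T : Subgroup (MulAut ↥T)), ∀ t : ↥T, ((α t : ↥T) : Ω) = x * (t : Ω) * x⁻¹ := by
  have hle : F.hyperfocalSubgroup p ≤ (rho F p hT).ker.map S.subtype := by
    unfold FusionSystem.hyperfocalSubgroup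
    rw [Subgroup.closure_le]
    rintro g ⟨P, β, y, hPS, hβ, rfl⟩
    refine ⟨(⟨y, hPS y.2⟩ : S)⁻¹ * ⟨(β : MulAut P) y, hPS ((β : MulAut P) y).2⟩, ?_, rfl⟩
    rw [SetLike.mem_coe, MonoidHom.mem_ker, map_mul, map_inv]
    rw [pResidual_le_fixSub F hS hF hT hPS hβ y]
    exact inv_mul_cancel _
  intro x hx
  obtain ⟨s, hs, rfl⟩ := hle hx
  rw [SetLike.mem_coe, MonoidHom.mem_ker] at hs
  have hsD : kap F hT s ∈ Dsub F p T := by
    have : QuotientGroup.mk' (Dsub F p T) (kap F hT s) = 1 := hs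
    rwa [QuotientGroup.mk'_apply, QuotientGroup.eq_one_iff] at this
  exact ⟨(kap F hT s : MulAut T), coe_mem_of_mem_Dsub F p T hsD, fun t => kap_apply F hT s t⟩

end Cfsg.Agent.S5198
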