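import Cfsg.Statements.S5203
import Cfsg.Agent.Lib.Helper86.ResidualLimit

set_option autoImplicit false
universe u
open Cfsg

namespace Cfsg.Agent.S5203

open Cfsg.Agent.Lib.Helper86 Cfsg.FusionSystem

/-- Let F be a saturated fusion system over a finite p-group S and E a normal subsystem of F over T that has p-power index in F. Then every residual limit of E has the same maps as every residual limit of F (the residual limit is reached by alternately passing to the p-residual and the p'-residual subsystem until nothing changes). -/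
theorem result {Ω : Type*} [Group Ω] {S : Subgroup Ω} [Finite S] (p : ℕ) [Fact p.Prime] (hS : IsPGroup p S) (F : Cfsg.FusionSystem S) (hF : F.IsSaturated p) {T : Subgroup Ω} (E : Cfsg.FusionSystem T) (hE : E.IsNormalIn F p) (hidx : E.HasPPowerIndexIn F p) {U V : Subgroup Ω} (Finf : Cfsg.FusionSystem U) (hFinf : Finf.IsResidualLimitOf F p) (Einf : Cfsg.FusionSystem V) (hEinf : Einf.IsResidualLimitOf E p) : ∀ P : Subgroup Ω, Finf.Hom P = Einf.Hom P := by
  have hp : Fact p.Prime := inferInstance
  obtain ⟨⟨hEsat, -, hEF, hTsc, -, -⟩, -⟩ := hE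
  have hTS : T ≤ S := hTsc.1
  have hTfin : Finite T := Cfsg.Agent.Lib.Helper87.finite_of_le hTS
  have hTp : IsPGroup p T := hS.to_le hTS
  have hhyp : E.hyperfocalSubgroup p = F.hyperfocalSubgroup p := hyperfocal_eq_of_pPowerIndex hS F E hidx hTsc
  suffices h : Same Finf Einf from h
  cases hFinf with
  | stable _ _ g1 g2 =>
    -- `F` is stable: then `T = S` and `E` has the same maps as `F`
    have hST : T = S := le_antisymm hTS (g1 ▸ hidx.2.1)
    have h1 : Same E F := same_of_pPowerIndex hS F E F hST hEsat hF hidx (hasPPowerIndexIn_self F p)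
    exact (same_of_stable hEinf hp F inferInstance hS hF g1 g2 h1).symm
  | step _ _ D D' hD hD' hlim =>
    cases hEinf with
    | stable _ _ e1 e2 =>
      have h1 : F.hyperfocalSubgroup p = T := by rw [← hhyp, e1]
      have h2 : Same D E := same_of_pPowerIndex hS F D E h1 hD.1 hEsat hD.2 hidx
      have h3 : Same D' E := same_pPrimeResidual h2 hD' e2
      exact same_of_stable hlim hp E hTfin hTp hEsat e1 e2 h3
    | step _ _ D₂ D₂' gD gD' glim =>
      have h1 : D₂.IsSubsystemOf D :=
        subsystem_of_pPowerIndex hS F D₂ D hhyp.le gD.1 (fun P x hx => hEF P (gD.2.1 P hx)) hD.2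
      have h2 : D.IsSubsystemOf E := subsystem_of_pPowerIndex hS F D E hidx.2.1 hD.1 hD.2.1 hidx
      have h3 : D.IsSubsystemOf D₂ := subsystem_of_pPowerIndex hTp E D D₂ hhyp.ge hD.1 h2 gD.2
      have h4 : Same D₂ D := fun P => Set.Subset.antisymm (h1 P) (h3 P)
      have h5 : Same D₂' D' := same_pPrimeResidual h4 gD' hD'
      have hle : E.hyperfocalSubgroup p ≤ T := hyperfocal_le E p
      have hfin' : Finite (E.hyperfocalSubgroup p) := Cfsg.Agent.Lib.Helper87.finite_of_le (hle.trans hTS)
      exact (same_limit glim hp hlim hfin' (hTp.to_le hle) gD'.1 h5).symm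

end Cfsg.Agent.S5203
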