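import Cfsg.Statements.S1313
import Cfsg.Agent.Lib.Helper22.FStar

set_option autoImplicit false
open Cfsg

namespace Cfsg.Agent.S1313


open Cfsg.Agent.Lib.Helper22

/-- automorphisms of a finite group `N` inject into permutations of the non-identity elements -/
theorem card_mulAut_le {N : Type*} [Group N] [Finite N] :
    Nat.card (MulAut N) ≤ Nat.factorial (Nat.card N - 1) := by
  classical
  let f : MulAut N → Equiv.Perm {x : N // x ≠ 1} := fun φ =>
    φ.toEquiv.subtypeEquiv (fun x => by
      show x ≠ 1 ↔ φ x ≠ 1
      rw [not_iff_not]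
      constructor
      · rintro rfl; exact map_one φ
      · intro h; exact φ.injective (h.trans (map_one φ).symm))
  have hf : Function.Injective f := by
    intro φ ψ h
    ext x
    by_cases hx : x = 1
    · rw [hx, map_one, map_one]
    · have := congrArg (fun e : Equiv.Perm {x : N // x ≠ 1} => (e ⟨x, hx⟩ : N)) h
      exact this
  have h1 := Nat.card_le_card_of_injective f hf
  have h2 : Nat.card (Equiv.Perm {x : N // x ≠ 1}) = Nat.factorial (Nat.card N - 1) := by
    rw [Nat.card_perm]
    congr 1
    haveI := Fintype.ofFinite N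
    rw [Nat.card_eq_fintype_card, Nat.card_eq_fintype_card, Fintype.card_subtype_compl,
      Fintype.card_subtype_eq]
  rw [h2] at h1
  exact h1

/-- For a finite group H, |H| ≤ |F*(H)|!. -/
theorem result {H : Type*} [Group H] [Finite H] : Nat.card H ≤ Nat.factorial (Nat.card ↥(Cfsg.generalizedFittingSubgroup H)) := by
  set N := generalizedFittingSubgroup H with hN
  haveI hNn : N.Normal := Cfsg.Agent.Lib.Helper29.generalizedFittingSubgroup_normal H
  let f : H →* MulAut N := MulAut.conjNormal
  have hker : f.ker ≤ N := by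
    intro h hh
    apply centralizer_generalizedFittingSubgroup_le
    rw [Subgroup.mem_centralizer_iff]
    intro n hn
    have h1 : f h = 1 := hh
    have h2 := congrArg (fun φ : MulAut N => ((φ ⟨n, hn⟩ : N) : H)) h1
    simp only [MulAut.one_apply] at h2
    have h3 : ((f h ⟨n, hn⟩ : N) : H) = h * n * h⁻¹ := MulAut.conjNormal_apply h ⟨n, hn⟩
    rw [h3] at h2
    calc n * h = (h * n * h⁻¹) * h := by rw [h2]
      _ = h * n := by group
  have hcard : Nat.card H = Nat.card (H ⧸ f.ker) * Nat.card f.ker :=
    Subgroup.card_eq_card_quotient_mul_card_subgroup f.ker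
  have h1 : Nat.card (H ⧸ f.ker) ≤ Nat.factorial (Nat.card N - 1) := by
    have e : H ⧸ f.ker ≃* f.range := QuotientGroup.quotientKerEquivRange f
    rw [Nat.card_congr e.toEquiv]
    exact (Subgroup.card_le_card_group f.range).trans card_mulAut_le
  have h2 : Nat.card f.ker ≤ Nat.card N := Subgroup.card_le_of_le hker
  have hpos : 0 < Nat.card N := Nat.card_pos
  calc Nat.card H = Nat.card (H ⧸ f.ker) * Nat.card f.ker := hcard
    _ ≤ Nat.factorial (Nat.card N - 1) * Nat.card N := Nat.mul_le_mul h1 h2
    _ = Nat.factorial (Nat.card N) := by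
      obtain ⟨k, hk⟩ : ∃ k, Nat.card N = k + 1 := ⟨Nat.card N - 1, by omega⟩
      rw [hk, Nat.add_sub_cancel, Nat.factorial_succ, mul_comm]

end Cfsg.Agent.S1313
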