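import Cfsg.Statements.S5083
import Cfsg.Agent.Lib.Helper87.FusionSat
-- import your own Cfsg.Agent.* helpers here

set_option autoImplicit false
open Cfsg

namespace Cfsg.Agent.S5083

/-- Two fusion systems over `S` with the same maps are equal. -/
theorem fusionSystem_ext {Ω : Type*} [Group Ω] {S : Subgroup Ω} {F E : Cfsg.FusionSystem S}
    (h : ∀ P : Subgroup Ω, F.Hom P = E.Hom P) : F = E := by
  cases F with
  | mk Hom₁ a₁ b₁ c₁ d₁ e₁ =>
    cases E with
    | mk Hom₂ a₂ b₂ c₂ d₂ e₂ =>
      have : Hom₁ = Hom₂ := funext h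
      subst this
      rfl

/-- If F is a saturated fusion system over a finite p-group S in which Aut_F(P) is a p-group for every P ≤ S, then F is the inner fusion system of S (all its maps are conjugations by elements of S). -/
theorem result {Ω : Type*} [Group Ω] {S : Subgroup Ω} [Finite S] (p : ℕ) [Fact p.Prime] (hS : IsPGroup p S) (F : Cfsg.FusionSystem S) (hF : F.IsSaturated p) (h : ∀ P : Subgroup Ω, P ≤ S → IsPGroup p (F.autGroup P)) : F = Cfsg.innerFusionSystem S := by
  exact fusionSystem_ext (Cfsg.Agent.Lib.Helper87.eq_inner_of_autGroup_isPGroup F hS hF h)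

end Cfsg.Agent.S5083
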