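import Cfsg.Statements.S3074
import Cfsg.Agent.S0012
import Cfsg.Agent.S0013
import Mathlib
-- import your own Cfsg.Agent.* helpers here

set_option autoImplicit false
open Cfsg

namespace Cfsg.Agent.S3074

open scoped commutatorElement

/-- Abstract criterion: a nonabelian group of order `p ^ 3` all of whose elements have order dividing `p`
is extraspecial. -/
theorem isExtraspecial_of_card_cube {p : ℕ} [hp : Fact p.Prime] {P : Type*} [Group P] [Finite P]
    (hcard : Nat.card P = p ^ 3) (hna : ∃ a b : P, a * b ≠ b * a) (hexp : ∀ x : P, x ^ p = 1) :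
    Cfsg.IsExtraspecial p P := by
  have hP : IsPGroup p P := IsPGroup.of_card hcard
  have hp1 : 1 < p := hp.out.one_lt
  have : Nontrivial P := by
    obtain ⟨a, b, hab⟩ := hna
    exact ⟨⟨a * b, b * a, hab⟩⟩
  set Z := Subgroup.center P with hZ
  have hZdvd : Nat.card Z ∣ p ^ 3 := hcard ▸ Subgroup.card_subgroup_dvd_card Z
  obtain ⟨k, hk3, hk⟩ := (Nat.dvd_prime_pow hp.out).mp hZdvd
  have hidx : Nat.card Z * Z.index = p ^ 3 := hcard ▸ Subgroup.card_mul_index Z
  -- k ≠ 0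
  have hk0 : k ≠ 0 := by
    intro h0
    rw [h0, pow_zero] at hk
    have hnt : Nontrivial Z := IsPGroup.center_nontrivial hP
    have : Subsingleton Z := (Nat.card_eq_one_iff_unique.mp hk).1
    exact not_subsingleton _ this
  -- k ≠ 3
  have hk3' : k ≠ 3 := by
    intro h3
    rw [h3, ← hcard] at hk
    have htop : Z = ⊤ := (Subgroup.card_eq_iff_eq_top Z).mp hk
    obtain ⟨a, b, hab⟩ := hna
    have ha : a ∈ Z := htop ▸ Subgroup.mem_top a
    exact hab ((Subgroup.mem_center_iff.mp ha b).symm)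
  -- k ≠ 2
  have hk2 : k ≠ 2 := by
    intro h2
    rw [h2] at hk
    rw [hk] at hidx
    have hi : Z.index = p := by
      have : p ^ 2 * Z.index = p ^ 2 * p := by rw [hidx]; ring
      exact Nat.eq_of_mul_eq_mul_left (by positivity) this
    have hq : Nat.card (P ⧸ Z) = p := by rw [← Subgroup.index_eq_card]; exact hi
    have : IsCyclic (P ⧸ Z) := isCyclic_of_prime_card hq
    obtain ⟨a, b, hab⟩ := hna
    have hc : IsMulCommutative P := MonoidHom.isMulCommutative_of_isCyclic_of_ker_le_center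
      (QuotientGroup.mk' Z) (by rw [QuotientGroup.ker_mk'])
    exact hab (hc.is_comm.comm a b)
  have hk1 : k = 1 := by omega
  rw [hk1, pow_one] at hk
  -- quotient of order p^2 is commutative
  have hq : Nat.card (P ⧸ Z) = p ^ 2 := by
    rw [← Subgroup.index_eq_card]
    rw [hk] at hidx
    have : p * Z.index = p * p ^ 2 := by rw [hidx]; ring
    exact Nat.eq_of_mul_eq_mul_left (by positivity) this
  have hqc : ∀ a b : P ⧸ Z, a * b = b * a :=
    (IsPGroup.isMulCommutative_of_card_eq_prime_sq hq).is_comm.comm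
  have hcommle : commutator P ≤ Z := by
    rw [commutator_def, Subgroup.commutator_le]
    intro a _ b _
    rw [← QuotientGroup.eq_one_iff (N := Z)]
    have : ((⁅a, b⁆ : P) : P ⧸ Z) = ⁅(a : P ⧸ Z), (b : P ⧸ Z)⁆ :=
      map_commutatorElement (QuotientGroup.mk' Z) a b
    rw [this, commutatorElement_eq_one_iff_commute]
    exact hqc _ _
  have hcommne : commutator P ≠ ⊥ := by
    intro hbot
    obtain ⟨a, b, hab⟩ := hna
    have : ⁅a, b⁆ ∈ commutator P := by
      rw [commutator_def]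
      exact Subgroup.commutator_mem_commutator (Subgroup.mem_top a) (Subgroup.mem_top b)
    rw [hbot, Subgroup.mem_bot, commutatorElement_eq_one_iff_commute] at this
    exact hab this
  have hcomm : commutator P = Z := by
    have hd : Nat.card (commutator P) ∣ p := hk ▸ Subgroup.card_dvd_of_le hcommle
    rcases (Nat.dvd_prime hp.out).mp hd with h1 | h1
    · exact absurd ((Subgroup.card_eq_one).mp h1) hcommne
    · exact Subgroup.eq_of_le_of_card_ge hcommle (by rw [h1, hk])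
  have hfrat : frattini P = Z := by
    apply le_antisymm
    · exact Cfsg.Agent.S0013.result p hP Z hcommle (fun x => by rw [hexp x]; exact one_mem _)
    · rw [← hcomm]
      exact (Cfsg.Agent.S0012.result p hP).1
  exact ⟨⟨hP, hfrat, hcomm⟩, hk⟩


section concrete

variable {p : ℕ} [hp : Fact p.Prime]

/-- Heisenberg matrices. -/
def hs (a b c : ZMod p) : Matrix.SpecialLinearGroup (Fin 3) (ZMod p) :=
  ⟨!![1, a, c; 0, 1, b; 0, 0, 1], by simp [Matrix.det_fin_three]⟩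

theorem hs_coe (a b c : ZMod p) :
    ((hs a b c : Matrix.SpecialLinearGroup (Fin 3) (ZMod p)) : Matrix (Fin 3) (Fin 3) (ZMod p)) =
      !![1, a, c; 0, 1, b; 0, 0, 1] := rfl

theorem hs_mem (a b c : ZMod p) : hs a b c ∈ Cfsg.qd p :=
  Subgroup.subset_closure (by simp [hs_coe])

theorem hs_mul (a b c a' b' c' : ZMod p) :
    hs a b c * hs a' b' c' = hs (a + a') (b + b') (c + c' + a * b') := by
  apply Subtype.ext
  rw [Matrix.SpecialLinearGroup.coe_mul, hs_coe, hs_coe, hs_coe]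
  ext i j
  fin_cases i <;> fin_cases j <;> simp [Matrix.mul_apply, Fin.sum_univ_three] <;> ring

theorem hs_one : hs (0 : ZMod p) 0 0 = 1 := by
  apply Subtype.ext
  rw [hs_coe, Matrix.SpecialLinearGroup.coe_one]
  ext i j
  fin_cases i <;> fin_cases j <;> simp

theorem hs_inj {a b c a' b' c' : ZMod p} (h : hs a b c = hs a' b' c') : a = a' ∧ b = b' ∧ c = c' := by
  have h' := congr_arg (fun M : Matrix.SpecialLinearGroup (Fin 3) (ZMod p) =>
    (M : Matrix (Fin 3) (Fin 3) (ZMod p))) h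
  simp only [hs_coe] at h'
  refine ⟨?_, ?_, ?_⟩
  · simpa using congr_fun (congr_fun h' 0) 1
  · simpa using congr_fun (congr_fun h' 1) 2
  · simpa using congr_fun (congr_fun h' 0) 2

theorem hs_inv (a b c : ZMod p) : (hs a b c)⁻¹ = hs (-a) (-b) (-c + a * b) := by
  apply inv_eq_of_mul_eq_one_right
  rw [hs_mul, ← hs_one]
  congr 1 <;> ring

theorem hs_pow_p (hp2 : p ≠ 2) (a b c : ZMod p) : hs a b c ^ p = 1 := by
  apply Subtype.ext
  rw [Matrix.SpecialLinearGroup.coe_pow, hs_coe, Matrix.SpecialLinearGroup.coe_one]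
  set A : Matrix (Fin 3) (Fin 3) (ZMod p) := !![1, a, c; 0, 1, b; 0, 0, 1] with hA
  have : CharP (Matrix (Fin 3) (Fin 3) (ZMod p)) p := inferInstance
  have h3 : (A - 1) ^ 3 = 0 := by
    rw [pow_succ, pow_two, hA]
    ext i j
    fin_cases i <;> fin_cases j <;> simp [Matrix.mul_apply, Fin.sum_univ_three]
  have hp3 : 3 ≤ p := by
    have := hp.out.two_le
    omega
  have hpz : (A - 1) ^ p = 0 := by
    have h := pow_add (A - 1) 3 (p - 3)
    rw [h3, zero_mul, Nat.add_sub_cancel' hp3] at h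
    exact h
  have hsub : (A - 1) ^ p = A ^ p - 1 ^ p := sub_pow_char_of_commute p (Commute.one_right A)
  rw [hpz, one_pow] at hsub
  exact (sub_eq_zero.mp hsub.symm)

/-- The Heisenberg subgroup of `Qd(p)`. -/
def U (p : ℕ) [Fact p.Prime] : Subgroup ↥(Cfsg.qd p) where
  carrier := {g | ∃ a b c : ZMod p, (g : Matrix.SpecialLinearGroup (Fin 3) (ZMod p)) = hs a b c}
  mul_mem' := by
    rintro g h ⟨a, b, c, hg⟩ ⟨a', b', c', hh⟩
    exact ⟨_, _, _, by rw [Subgroup.coe_mul, hg, hh, hs_mul]⟩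
  one_mem' := ⟨0, 0, 0, by rw [hs_one]; rfl⟩
  inv_mem' := by
    rintro g ⟨a, b, c, hg⟩
    exact ⟨_, _, _, by rw [Subgroup.coe_inv, hg, hs_inv]⟩

theorem mem_U (g : ↥(Cfsg.qd p)) :
    g ∈ U p ↔ ∃ a b c : ZMod p, (g : Matrix.SpecialLinearGroup (Fin 3) (ZMod p)) = hs a b c := Iff.rfl

theorem card_U : Nat.card (U p) = p ^ 3 := by
  have hne : NeZero p := ⟨hp.out.ne_zero⟩
  let f : ZMod p × ZMod p × ZMod p → U p := fun t =>
    ⟨⟨hs t.1 t.2.1 t.2.2, hs_mem _ _ _⟩, ⟨t.1, t.2.1, t.2.2, rfl⟩⟩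
  have hf : Function.Bijective f := by
    constructor
    · rintro ⟨a, b, c⟩ ⟨a', b', c'⟩ h
      have h' : hs a b c = hs a' b' c' := congr_arg (fun u : U p => ((u : ↥(Cfsg.qd p)) :
        Matrix.SpecialLinearGroup (Fin 3) (ZMod p))) h
      obtain ⟨h1, h2, h3⟩ := hs_inj h'
      rw [h1, h2, h3]
    · rintro ⟨g, a, b, c, hg⟩
      refine ⟨(a, b, c), ?_⟩
      apply Subtype.ext
      apply Subtype.ext
      exact hg.symm
  rw [← Nat.card_congr (Equiv.ofBijective f hf), Nat.card_prod, Nat.card_prod, Nat.card_zmod]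
  ring

theorem isPGroup_U : IsPGroup p (U p) := IsPGroup.of_card card_U


theorem finite_qd : Finite ↥(Cfsg.qd p) := by
  have hne : NeZero p := ⟨hp.out.ne_zero⟩
  infer_instance

theorem coprime_pow_sub_one (k : ℕ) (hk : 1 ≤ k) : Nat.Coprime (p ^ k - 1) p := by
  apply Nat.Coprime.symm
  rw [Nat.Prime.coprime_iff_not_dvd hp.out]
  intro h
  have h1 : p ∣ p ^ k := dvd_pow_self p (by omega)
  have hpos : 1 ≤ p ^ k := Nat.one_le_pow _ _ hp.out.pos
  have h2 : p ∣ p ^ k - (p ^ k - 1) := Nat.dvd_sub h1 h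
  have h3 : p ^ k - (p ^ k - 1) = 1 := by omega
  rw [h3] at h2
  exact hp.out.one_lt.ne' (Nat.dvd_one.mp h2)

theorem card_GL3 : Nat.card (GL (Fin 3) (ZMod p)) = p ^ 3 * ((p ^ 3 - 1) * (p ^ 2 - 1) * (p - 1)) := by
  have hne : NeZero p := ⟨hp.out.ne_zero⟩
  rw [Matrix.card_GL_field, ZMod.card, Fin.prod_univ_three]
  simp only [Fin.val_zero, Fin.val_one, Fin.val_two, pow_zero, pow_one]
  have h1 : p ^ 3 - p = p * (p ^ 2 - 1) := by
    rw [Nat.mul_sub, mul_one]; ring_nf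
  have h2 : p ^ 3 - p ^ 2 = p ^ 2 * (p - 1) := by
    rw [Nat.mul_sub, mul_one]; ring_nf
  rw [h1, h2]
  ring

/-- Every Sylow `p`-subgroup of `Qd(p)` has order `p ^ 3`. -/
theorem card_sylow (Q : Sylow p ↥(Cfsg.qd p)) : Nat.card Q = p ^ 3 := by
  have hfin : Finite ↥(Cfsg.qd p) := finite_qd
  obtain ⟨k, hk⟩ := (IsPGroup.iff_card.mp Q.isPGroup')
  -- upper bound
  have hdvd : Nat.card Q ∣ Nat.card (GL (Fin 3) (ZMod p)) := by
    let f : ↥(Q : Subgroup ↥(Cfsg.qd p)) →* GL (Fin 3) (ZMod p) :=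
      Matrix.SpecialLinearGroup.toGL.comp ((Cfsg.qd p).subtype.comp (Q : Subgroup ↥(Cfsg.qd p)).subtype)
    apply Subgroup.card_dvd_of_injective f
    intro x y hxy
    have h1 := Matrix.SpecialLinearGroup.toGL_injective hxy
    exact Subtype.ext (Subtype.ext h1)
  rw [hk, card_GL3] at hdvd
  have hcop : Nat.Coprime (p ^ k) ((p ^ 3 - 1) * (p ^ 2 - 1) * (p - 1)) := by
    apply Nat.Coprime.pow_left
    apply Nat.Coprime.symm
    apply Nat.Coprime.mul_left
    · apply Nat.Coprime.mul_left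
      · exact coprime_pow_sub_one 3 (by norm_num)
      · exact coprime_pow_sub_one 2 (by norm_num)
    · have := coprime_pow_sub_one (p := p) 1 le_rfl
      rwa [pow_one] at this
  have hle : k ≤ 3 := (Nat.pow_dvd_pow_iff_le_right hp.out.one_lt).mp (hcop.dvd_of_dvd_mul_right hdvd)
  -- lower bound
  have hU : p ^ 3 ∣ Nat.card ↥(Cfsg.qd p) := card_U (p := p) ▸ Subgroup.card_subgroup_dvd_card (U p)
  have hge : p ^ 3 ∣ Nat.card Q := Q.pow_dvd_card_of_pow_dvd_card hU
  rw [hk] at hge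
  have hge' : 3 ≤ k := (Nat.pow_dvd_pow_iff_le_right hp.out.one_lt).mp hge
  rw [hk]
  congr 1
  omega

end concrete

/-- Let p be an odd prime. A Sylow p-subgroup of Qd(p), the split extension of an elementary abelian group of order p² by SL₂(p) acting naturally, is extraspecial of order p³ and exponent p. -/
theorem result (p : ℕ) [Fact p.Prime] (hp : p ≠ 2) (P : Sylow p ↥(Cfsg.qd p)) :
    Cfsg.IsExtraspecial p ↥P ∧ Nat.card P = p ^ 3 ∧ Monoid.exponent ↥P = p := by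
  have hpp : Fact p.Prime := inferInstance
  have hfin : Finite ↥(Cfsg.qd p) := finite_qd
  obtain ⟨Q, hUQ⟩ := (isPGroup_U (p := p)).exists_le_sylow
  have hQU : U p = (Q : Subgroup ↥(Cfsg.qd p)) :=
    Subgroup.eq_of_le_of_card_ge hUQ (by rw [card_sylow, card_U])
  let e : ↥(P : Subgroup ↥(Cfsg.qd p)) ≃* ↥(Q : Subgroup ↥(Cfsg.qd p)) := Sylow.equiv P Q
  have hcard : Nat.card P = p ^ 3 := card_sylow P
  have hexp : ∀ x : ↥(P : Subgroup ↥(Cfsg.qd p)), x ^ p = 1 := by
    intro x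
    apply e.injective
    rw [map_pow, map_one]
    have hmem : ((e x : ↥(Q : Subgroup ↥(Cfsg.qd p))) : ↥(Cfsg.qd p)) ∈ U p := by
      rw [hQU]; exact (e x).2
    obtain ⟨a, b, c, h⟩ := hmem
    apply Subtype.ext
    apply Subtype.ext
    rw [Subgroup.coe_pow, Subgroup.coe_pow, h, hs_pow_p hp]
    rfl
  have hna : ∃ a b : ↥(P : Subgroup ↥(Cfsg.qd p)), a * b ≠ b * a := by
    have hm1 : (⟨hs 1 0 0, hs_mem _ _ _⟩ : ↥(Cfsg.qd p)) ∈ (Q : Subgroup ↥(Cfsg.qd p)) := by
      rw [← hQU]; exact ⟨1, 0, 0, rfl⟩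
    have hm2 : (⟨hs 0 1 0, hs_mem _ _ _⟩ : ↥(Cfsg.qd p)) ∈ (Q : Subgroup ↥(Cfsg.qd p)) := by
      rw [← hQU]; exact ⟨0, 1, 0, rfl⟩
    refine ⟨e.symm ⟨_, hm1⟩, e.symm ⟨_, hm2⟩, ?_⟩
    intro h
    have h' := congr_arg e h
    rw [map_mul, map_mul, MulEquiv.apply_symm_apply, MulEquiv.apply_symm_apply] at h'
    have h'' : hs (1 : ZMod p) 0 0 * hs 0 1 0 = hs 0 1 0 * hs 1 0 0 :=
      congr_arg (fun u : ↥(Q : Subgroup ↥(Cfsg.qd p)) => ((u : ↥(Cfsg.qd p)) :
        Matrix.SpecialLinearGroup (Fin 3) (ZMod p))) h'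
    rw [hs_mul, hs_mul] at h''
    obtain ⟨-, -, h3⟩ := hs_inj h''
    have hnt : Nontrivial (ZMod p) := ZMod.nontrivial_iff.mpr hpp.out.one_lt.ne'
    simp at h3
  refine ⟨isExtraspecial_of_card_cube hcard hna hexp, hcard, ?_⟩
  have hdvd : Monoid.exponent ↥(P : Subgroup ↥(Cfsg.qd p)) ∣ p :=
    Monoid.exponent_dvd_of_forall_pow_eq_one hexp
  rcases (Nat.dvd_prime hpp.out).mp hdvd with h1 | h1
  · exfalso
    have hsub : Subsingleton ↥(P : Subgroup ↥(Cfsg.qd p)) := Monoid.exp_eq_one_iff.mp h1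
    have hfinP : Finite ↥(P : Subgroup ↥(Cfsg.qd p)) := inferInstance
    have : Nat.card ↥(P : Subgroup ↥(Cfsg.qd p)) = 1 := Nat.card_eq_one_iff_unique.mpr ⟨hsub, ⟨1⟩⟩
    rw [hcard] at this
    have h2 : 1 < p ^ 3 := Nat.one_lt_pow (by norm_num) hpp.out.one_lt
    omega
  · exact h1

end Cfsg.Agent.S3074
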