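import Cfsg.Statements.S4679
import Cfsg.Agent.Lib.Helper16.NormConj
import Cfsg.Agent.Lib.Helper16.FusionCent

set_option autoImplicit false
open Cfsg Cfsg.Agent.Lib.Helper16

namespace Cfsg.Agent.S4679

/-- Fix a prime p and a maximal ideal M of the algebraic integers containing p, a p-block B of the finite group G with maximal Brauer pair (P, e), its fusion system F on P, a Brauer pair (Q, f) ≤ (P, e), and let T be the stabilizer of f in N_G(Q). Then Q is fully normalized in F if and only if N_P(Q) is a defect group of the block of T whose idempotent is that of f. -/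
theorem result {G : Type*} [Group G] [Fintype G] (p : ℕ) [Fact p.Prime] (M : Ideal Cfsg.AlgInt) (hM : Cfsg.IsPModular p M) (B : Set (Cfsg.IrrCharacter G)) (P : Subgroup G) (e : Set (Cfsg.IrrCharacter (Subgroup.centralizer (P : Set G)))) (hmax : Cfsg.IsMaximalBrauerPair p M B P e) (F : Cfsg.FusionSystem P) (hF : Cfsg.IsBlockFusionSystemOn p M B P e F) (Q : Subgroup G) (f : Set (Cfsg.IrrCharacter (Subgroup.centralizer (Q : Set G)))) (hQP : Q ≤ P) (hf : Cfsg.IsPBlock M f) (hle : Cfsg.SubpairLE p M Q f P e) (T : Subgroup G) (hT : ∀ y : G, y ∈ T ↔ y ∈ Subgroup.normalizer (Q : Set G) ∧ Cfsg.StabilizesBlock (Subgroup.centralizer (Q : Set G)) f y) : F.IsFullyNormalized Q ↔ ∃ F' : Set (Cfsg.IrrCharacter T), Cfsg.IsPBlock M F' ∧ (∀ t : T, Cfsg.blockCoeff F' t = Cfsg.subgroupBlockCoeff (Subgroup.centralizer (Q : Set G)) f (t : G)) ∧ Cfsg.IsDefectGroup p M F' ((P ⊓ Subgroup.normalizer (Q : Set G)).subgroupOf T) := by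
  classical
  have hMp := isPModular_isPrime hM
  have hPe : IsBrauerPair p M P e := hmax.1.1
  have hQf : IsBrauerPair p M Q f := Cfsg.Agent.S4655.le_pair_left hle hPe
  have : Fintype ↥T := Fintype.ofFinite _
  have hST := normalizerIn_le_stab hM hT hPe hle
  have hcardS : Nat.card ((P ⊓ Subgroup.normalizer (Q : Set G)).subgroupOf T) =
      Nat.card (P ⊓ Subgroup.normalizer (Q : Set G) : Subgroup G) :=
    Nat.card_congr (Subgroup.subgroupOfEquivOfLe hST).toEquiv
  constructor
  · rintro ⟨_, hall⟩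
    obtain ⟨F', hF', hF'f⟩ := exists_block_of_stable hM Q T hQf.1 (le_stab hT)
      (stab_le_normalizer hT) (centralizer_le_stab hT) f hf (stab_stabilizes hT)
    obtain ⟨D, d, hDmax, hle'⟩ := exists_isMaximalBrauerPair_ge_normalizerIn hM hT hF' hF'f hPe hle
    obtain ⟨x, hxle, hcard⟩ := exists_conj_card_normalizerIn hM hf hT hmax hle
    have hconj := isConj_of_subpairLE_conj hF hle x hxle
    have h1 : Nat.card (P ⊓ Subgroup.normalizer
        ((Q.map (MulAut.conj x).toMonoidHom : Subgroup G) : Set G) : Subgroup G) ≤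
        Nat.card (P ⊓ Subgroup.normalizer (Q : Set G) : Subgroup G) := hall _ hconj
    obtain ⟨R, g, hN, hRT, hDR⟩ :=
      exists_isNormalSubpair_of_isMaximalBrauerPair hM hQf.1 hf hT hF' hF'f hDmax
    have h2 := hcard _ _ (isNormalSubpair_conj hN x)
    rw [card_map_conj] at h2
    have h3 : Nat.card D = Nat.card R := by
      rw [hDR]
      exact Nat.card_congr (Subgroup.subgroupOfEquivOfLe hRT).toEquiv
    have heq := Subgroup.eq_of_le_of_card_ge hle' (by rw [h3, hcardS]; omega)
    refine ⟨F', hF', hF'f, ?_⟩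
    rw [heq]
    exact isDefectGroup_of_isMaximalBrauerPair hM F' D d hDmax
  · rintro ⟨F', hF', hF'f, hdef⟩
    refine ⟨hQP, ?_⟩
    intro Q' hQ'
    obtain ⟨g, rfl, hgle⟩ := exists_conj_of_isConj hM hF hle hQ'
    obtain ⟨g₃, hN₃⟩ := exists_isNormalSubpair_normalizerIn hM hPe hgle
    have hback := isNormalSubpair_conj_back hN₃
    have h1 := card_le_card_of_isNormalSubpair hM hT hF' hF'f hdef hback
    rw [card_map_conj, hcardS] at h1
    exact h1

end Cfsg.Agent.S4679
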