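import Cfsg.Statements.S5128
import Cfsg.Agent.Lib.Helper85.FusionModT

set_option autoImplicit false
open Cfsg

namespace Cfsg.Agent.S5128

open Cfsg.FusionSystem Cfsg.Agent.Lib.Helper85

/-- In a saturated fusion system over a finite p-group S, the product of two strongly closed subgroups is strongly closed. -/
theorem result {Ω : Type*} [Group Ω] {S : Subgroup Ω} [Finite S] (p : ℕ) [Fact p.Prime] (hS : IsPGroup p S) (F : Cfsg.FusionSystem S) (hF : F.IsSaturated p) (T₁ T₂ : Subgroup Ω) (h₁ : F.StronglyClosed T₁) (h₂ : F.StronglyClosed T₂) : F.StronglyClosed (T₁ ⊔ T₂) := by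
  refine ⟨sup_le h₁.1 h₂.1, fun R hR φ hφ x => ?_⟩
  obtain ⟨ψ, hψ, hψe⟩ := extendsMod_of_saturated F h₁ hS hF hφ
  have hx : (x : Ω) ∈ T₁ ⊔ T₂ := hR x.2
  obtain ⟨t₁, ht₁, t₂, ht₂, hx12⟩ := Cfsg.Agent.Lib.Helper87.exists_mul_of_mem_sup
    (fun k hk h hh => Cfsg.Agent.Lib.Helper87.StronglyClosed_conj_mem h₁ (h₂.1 hk) hh) hx
  have ht₁' : t₁ ∈ R ⊔ T₁ := (le_sup_right : T₁ ≤ R ⊔ T₁) ht₁
  have ht₂' : t₂ ∈ R ⊔ T₁ := by
    have e : t₂ = t₁⁻¹ * x := by rw [hx12]; group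
    rw [e]
    exact Subgroup.mul_mem _ (Subgroup.inv_mem _ ht₁') ((le_sup_left : R ≤ R ⊔ T₁) x.2)
  have hsplit : (Subgroup.inclusion le_sup_left x : ↥(R ⊔ T₁)) = ⟨t₁, ht₁'⟩ * ⟨t₂, ht₂'⟩ :=
    Subtype.ext hx12
  have h1 : ψ ⟨t₁, ht₁'⟩ ∈ T₁ := (stronglyClosed_apply_mem_iff F h₁ hψ _).mpr ht₁
  have h2 : ψ ⟨t₂, ht₂'⟩ ∈ T₂ := (stronglyClosed_apply_mem_iff F h₂ hψ _).mpr ht₂
  have h3 := hψe x
  have e : φ x = ψ (Subgroup.inclusion le_sup_left x) *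
      ((φ x)⁻¹ * ψ (Subgroup.inclusion le_sup_left x))⁻¹ := by group
  rw [e, hsplit, map_mul]
  refine Subgroup.mul_mem _ (Subgroup.mul_mem _ ?_ ?_) (Subgroup.inv_mem _ ?_)
  · exact (le_sup_left : T₁ ≤ T₁ ⊔ T₂) h1
  · exact (le_sup_right : T₂ ≤ T₁ ⊔ T₂) h2
  · rw [hsplit, map_mul] at h3
    exact (le_sup_left : T₁ ≤ T₁ ⊔ T₂) h3

end Cfsg.Agent.S5128
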