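import Cfsg.Statements.S5085
-- import your own Cfsg.Agent.* helpers here

set_option autoImplicit false
open Cfsg

namespace Cfsg.Agent.S5085

/-- Restriction of a map of the system to a smaller subgroup is a map of the system. -/
theorem restrict_mem {Ω : Type*} [Group Ω] {S : Subgroup Ω} (F : Cfsg.FusionSystem S)
    {R R' : Subgroup Ω} (h : R' ≤ R) {ψ : R →* Ω} (hψ : ψ ∈ F.Hom R) :
    ψ.comp (Subgroup.inclusion h) ∈ F.Hom R' := by
  have hRS : R ≤ S := (F.le_of_mem hψ).1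
  have h1 : conjHom R' (1 : Ω) ∈ F.Hom R' := F.conj_mem (h.trans hRS) S.one_mem
  have h' : ∀ x : R', conjHom R' (1 : Ω) x ∈ R := by
    intro x
    show (1 : Ω) * (x : Ω) * (1 : Ω)⁻¹ ∈ R
    simpa using h x.2
  have h2 := F.comp_mem h1 hψ h'
  have : ψ.comp ((conjHom R' (1 : Ω)).codRestrict R h') = ψ.comp (Subgroup.inclusion h) := by
    ext x
    show ψ _ = ψ _
    congr 1
    apply Subtype.ext
    show (1 : Ω) * (x : Ω) * (1 : Ω)⁻¹ = (x : Ω)
    simp
  rwa [this] at h2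

/-- In any fusion system, a characteristic subgroup of a subgroup that is normal in the system is itself normal in the system. -/
theorem result {Ω : Type*} [Group Ω] {S : Subgroup Ω} (F : Cfsg.FusionSystem S) (Q U : Subgroup Ω) (hQ : F.IsNormal Q) (hUQ : U ≤ Q) (hU : (U.subgroupOf Q).Characteristic) : F.IsNormal U := by
  refine ⟨hUQ.trans hQ.1, ?_⟩
  intro P φ hφ
  obtain ⟨ψ, hψ, hψ1, hψ2⟩ := hQ.2 P φ hφ
  have hle : P ⊔ U ≤ P ⊔ Q := sup_le_sup_left hUQ P
  -- ψ maps Q into Q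
  have hQQ : ∀ x : Q, ψ (Subgroup.inclusion le_sup_right x) ∈ Q := by
    intro x
    have : ψ (Subgroup.inclusion le_sup_right x) ∈ (Q.subgroupOf (P ⊔ Q)).map ψ := by
      refine ⟨Subgroup.inclusion le_sup_right x, ?_, rfl⟩
      show ((Subgroup.inclusion le_sup_right x : ↥(P ⊔ Q)) : Ω) ∈ Q
      exact x.2
    rwa [hψ2] at this
  let θ₀ : Q →* Q := (ψ.comp (Subgroup.inclusion le_sup_right)).codRestrict Q hQQ
  have hinj : Function.Injective θ₀ := by
    intro x y hxy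
    have h1 : ψ (Subgroup.inclusion le_sup_right x) = ψ (Subgroup.inclusion le_sup_right y) :=
      congrArg Subtype.val hxy
    have h2 := F.injective_of_mem hψ h1
    exact Subgroup.inclusion_injective _ h2
  have hsurj : Function.Surjective θ₀ := by
    intro y
    have hy : (y : Ω) ∈ (Q.subgroupOf (P ⊔ Q)).map ψ := by rw [hψ2]; exact y.2
    obtain ⟨x, hx, hxy⟩ := hy
    refine ⟨⟨(x : Ω), hx⟩, ?_⟩
    apply Subtype.ext
    show ψ (Subgroup.inclusion le_sup_right ⟨(x : Ω), hx⟩) = (y : Ω)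
    rw [← hxy]
    congr 1
  let θ : Q ≃* Q := MulEquiv.ofBijective θ₀ ⟨hinj, hsurj⟩
  have hfix := hU.fixed θ
  have key : ∀ x : Q, (ψ (Subgroup.inclusion le_sup_right x) ∈ U ↔ (x : Ω) ∈ U) := by
    intro x
    have h1 : x ∈ (U.subgroupOf Q).comap θ.toMonoidHom ↔ x ∈ U.subgroupOf Q := by rw [hfix]
    exact h1
  refine ⟨ψ.comp (Subgroup.inclusion hle), restrict_mem F hle hψ, ?_, ?_⟩
  · intro x
    rw [← hψ1 x]
    rfl
  · ext y
    constructor
    · rintro ⟨x, hx, rfl⟩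
      have hxU : (x : Ω) ∈ U := hx
      have := (key ⟨(x : Ω), hUQ hxU⟩).2 hxU
      exact this
    · intro hy
      obtain ⟨x, hx⟩ := hsurj ⟨y, hUQ hy⟩
      have hx' : ψ (Subgroup.inclusion le_sup_right x) = y := congrArg Subtype.val hx
      have hxU : (x : Ω) ∈ U := (key x).1 (by rw [hx']; exact hy)
      refine ⟨⟨(x : Ω), (le_sup_right : U ≤ P ⊔ U) hxU⟩, hxU, ?_⟩
      rw [← hx']
      rfl

end Cfsg.Agent.S5085
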