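import Cfsg.Statements.S5088
import Cfsg.Agent.Lib.Helper87.FusionNormal
import Cfsg.Agent.Lib.Helper85.FusionNormal
import Cfsg.Agent.S5085
-- import your own Cfsg.Agent.* helpers here

set_option autoImplicit false
open Cfsg

namespace Cfsg.Agent.S5088

open Cfsg.FusionSystem Cfsg.Agent.Lib.Helper87

variable {Ω : Type*} [Group Ω] {S : Subgroup Ω}

/-- A subgroup normal in the system is strongly closed. -/
theorem stronglyClosed_of_isNormal (F : Cfsg.FusionSystem S) {Q : Subgroup Ω} (hQ : F.IsNormal Q) :
    F.StronglyClosed Q := by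
  refine ⟨hQ.1, ?_⟩
  intro R hRQ φ hφ x
  obtain ⟨ψ, -, hψ1, hψ2⟩ := hQ.2 R φ hφ
  have : ψ (Subgroup.inclusion le_sup_left x) ∈ (Q.subgroupOf (R ⊔ Q)).map ψ :=
    ⟨Subgroup.inclusion le_sup_left x, hRQ x.2, rfl⟩
  rw [hψ2, hψ1 x] at this
  exact this

/-- A strongly closed subgroup of the finite `S` is weakly closed. -/
theorem weaklyClosed_of_stronglyClosed [Finite S] (F : Cfsg.FusionSystem S) {W : Subgroup Ω}
    (hW : F.StronglyClosed W) : F.WeaklyClosed W := by
  refine ⟨hW.1, ?_⟩
  intro φ hφ
  have hle : φ.range ≤ W := by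
    rintro _ ⟨x, rfl⟩
    exact hW.2 W le_rfl φ hφ x
  have : Finite W := finite_of_le hW.1
  apply Subgroup.eq_of_le_of_card_ge hle
  exact le_of_eq (Nat.card_congr (Equiv.ofInjective φ (F.injective_of_mem hφ)))

theorem weaklyClosed_bot (F : Cfsg.FusionSystem S) : F.WeaklyClosed (⊥ : Subgroup Ω) := by
  refine ⟨bot_le, ?_⟩
  intro φ _
  rw [eq_bot_iff]
  rintro _ ⟨x, rfl⟩
  have : x = 1 := Subsingleton.elim _ _
  rw [this, map_one]
  exact Subgroup.one_mem _

/-- In a saturated fusion system over a finite p-group, a subgroup Q is normal in the system if and only if there is a chain of subgroups 1 = Q₀ ≤ Q₁ ≤ ⋯ ≤ Qₙ = Q such that each Qᵢ with i ≥ 1 is strongly closed in the system and [Q, Qᵢ] ≤ Qᵢ₋₁. -/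
theorem result {Ω : Type*} [Group Ω] {S : Subgroup Ω} [Finite S] (p : ℕ) [Fact p.Prime] (hS : IsPGroup p S) (F : Cfsg.FusionSystem S) (hF : F.IsSaturated p) (Q : Subgroup Ω) : F.IsNormal Q ↔ ∃ (n : ℕ) (Qs : Fin (n + 1) → Subgroup Ω), Qs 0 = ⊥ ∧ Qs (Fin.last n) = Q ∧ Monotone Qs ∧ ∀ i : Fin n, F.StronglyClosed (Qs i.succ) ∧ ⁅Q, Qs i.succ⁆ ≤ Qs (Fin.castSucc i) := by
  constructor
  · intro hQ
    have hQS : Q ≤ S := hQ.1
    have : Finite Q := finite_of_le hQS
    have hQp : IsPGroup p Q := hS.to_le hQS
    have hnil : Group.IsNilpotent Q := hQp.isNilpotent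
    refine ⟨Group.nilpotencyClass Q, fun i => (Subgroup.upperCentralSeries Q i).map Q.subtype, ?_, ?_, ?_, ?_⟩
    · show (Subgroup.upperCentralSeries Q ((0 : Fin (Group.nilpotencyClass Q + 1)) : ℕ)).map Q.subtype = ⊥
      rw [Fin.val_zero, Subgroup.upperCentralSeries_zero, Subgroup.map_bot]
    · show (Subgroup.upperCentralSeries Q ((Fin.last (Group.nilpotencyClass Q) : Fin _) : ℕ)).map Q.subtype = Q
      rw [Fin.val_last, Subgroup.upperCentralSeries_nilpotencyClass, ← MonoidHom.range_eq_map, Subgroup.range_subtype]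
    · intro i j hij
      exact Subgroup.map_mono (Subgroup.upperCentralSeries_mono Q (Fin.le_iff_val_le_val.mp hij))
    · intro i
      constructor
      · apply stronglyClosed_of_isNormal
        apply Cfsg.Agent.S5085.result F Q _ hQ (Subgroup.map_subtype_le _)
        have : ((Subgroup.upperCentralSeries Q ((i.succ : Fin _) : ℕ)).map Q.subtype).subgroupOf Q =
            Subgroup.upperCentralSeries Q ((i.succ : Fin _) : ℕ) :=
          Subgroup.comap_map_eq_self_of_injective (Subgroup.subtype_injective Q) _
        rw [this]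
        infer_instance
      · show ⁅Q, (Subgroup.upperCentralSeries Q ((i.succ : Fin _) : ℕ)).map Q.subtype⁆ ≤
          (Subgroup.upperCentralSeries Q ((Fin.castSucc i : Fin _) : ℕ)).map Q.subtype
        have h1 : (⊤ : Subgroup Q).map Q.subtype = Q := by
          rw [← MonoidHom.range_eq_map, Subgroup.range_subtype]
        have h2 : ⁅(⊤ : Subgroup Q).map Q.subtype,
            (Subgroup.upperCentralSeries Q ((i.succ : Fin _) : ℕ)).map Q.subtype⁆ ≤
            (Subgroup.upperCentralSeries Q ((Fin.castSucc i : Fin _) : ℕ)).map Q.subtype := by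
          rw [← Subgroup.map_commutator, Subgroup.commutator_comm]
          apply Subgroup.map_mono
          rw [Fin.val_succ, Fin.val_castSucc]
          exact Subgroup.commutator_upperCentralSeries_top_le Q _
        rw [h1] at h2
        exact h2
  · rintro ⟨n, Qs, h0, hlast, hmono, hi⟩
    rcases Nat.eq_zero_or_pos n with hn | hn
    · subst hn
      have : Q = ⊥ := by
        rw [← hlast, ← h0]
        rfl
      rw [this]
      exact Cfsg.Agent.Lib.Helper85.isNormal_bot F
    · -- Q is strongly closed
      have hsucc : ∀ k (hk : k < n), (⟨k, hk⟩ : Fin n).succ = (⟨k + 1, by omega⟩ : Fin (n + 1)) := fun k hk => rfl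
      have hcast : ∀ k (hk : k < n), Fin.castSucc (⟨k, hk⟩ : Fin n) = (⟨k, by omega⟩ : Fin (n + 1)) := fun k hk => rfl
      have hQsc : F.StronglyClosed Q := by
        have := (hi ⟨n - 1, by omega⟩).1
        rw [hsucc] at this
        have e : (⟨n - 1 + 1, by omega⟩ : Fin (n + 1)) = Fin.last n := by
          apply Fin.ext
          simp only [Fin.val_last]
          omega
        rw [e, hlast] at this
        exact this
      refine isNormal_of_chain F hS hF Q hQsc n (fun k => Qs ⟨min k n, by omega⟩) ?_ ?_ ?_ ?_ ?_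
      · show Qs ⟨min 0 n, _⟩ = ⊥
        have e : (⟨min 0 n, by omega⟩ : Fin (n + 1)) = 0 := by
          apply Fin.ext
          simp
        rw [e, h0]
      · intro k hk
        show Qs ⟨min k n, _⟩ = Q
        have e : (⟨min k n, by omega⟩ : Fin (n + 1)) = Fin.last n := by
          apply Fin.ext
          show min k n = n
          omega
        rw [e, hlast]
      · intro a b hab
        apply hmono
        rw [Fin.le_iff_val_le_val]
        show min a n ≤ min b n
        exact min_le_min_right n hab
      · intro k hk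
        show ⁅Qs ⟨min (k + 1) n, _⟩, Q⁆ ≤ Qs ⟨min k n, _⟩
        have h2 := (hi ⟨k, hk⟩).2
        rw [hsucc, hcast, Subgroup.commutator_comm] at h2
        have e1 : (⟨min (k + 1) n, by omega⟩ : Fin (n + 1)) = ⟨k + 1, by omega⟩ := by
          apply Fin.ext
          show min (k + 1) n = k + 1
          omega
        have e2 : (⟨min k n, by omega⟩ : Fin (n + 1)) = ⟨k, by omega⟩ := by
          apply Fin.ext
          show min k n = k
          omega
        rw [e1, e2]
        exact h2
      · intro k hk
        show F.WeaklyClosed (Qs ⟨min k n, _⟩)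
        rcases Nat.eq_zero_or_pos k with hk0 | hk0
        · subst hk0
          have e : (⟨min 0 n, by omega⟩ : Fin (n + 1)) = 0 := by
            apply Fin.ext
            simp
          rw [e, h0]
          exact weaklyClosed_bot F
        · have h1 := (hi ⟨k - 1, by omega⟩).1
          rw [hsucc] at h1
          have e : (⟨min k n, by omega⟩ : Fin (n + 1)) = ⟨k - 1 + 1, by omega⟩ := by
            apply Fin.ext
            show min k n = k - 1 + 1
            omega
          rw [e]
          exact weaklyClosed_of_stronglyClosed F h1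

end Cfsg.Agent.S5088
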