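import Cfsg.Statements.S3807
import Mathlib

set_option autoImplicit false
open Cfsg
open scoped commutatorElement

namespace Cfsg.Agent.S3807

/-- the number of subgroups of order `p` of a group of order `p ^ 2` and exponent `p` is `p + 1` -/
theorem card_subgroups_of_card_p {Q : Type*} [Group Q] [Finite Q] {p : ℕ} [Fact p.Prime]
    (hQ : Nat.card Q = p ^ 2) (hexp : ∀ x : Q, x ^ p = 1) :
    Nat.card {L : Subgroup Q // Nat.card L = p} = p + 1 := by
  classical
  have hp : p.Prime := Fact.out
  have hord : ∀ x : Q, x ≠ 1 → orderOf x = p := fun x hx => orderOf_eq_prime (hexp x) hx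
  let f : {x : Q // x ≠ 1} → {L : Subgroup Q // Nat.card L = p} :=
    fun x => ⟨Subgroup.zpowers x.1, by rw [Nat.card_zpowers, hord x.1 x.2]⟩
  have hfib : ∀ L : {L : Subgroup Q // Nat.card L = p},
      Nat.card {x : {x : Q // x ≠ 1} // f x = L} = p - 1 := by
    intro L
    have e1 : {x : {x : Q // x ≠ 1} // f x = L} ≃
        {x : Q // x ≠ 1 ∧ Subgroup.zpowers x = L.1} :=
      (Equiv.subtypeEquivRight (fun x => Subtype.ext_iff)).trans
        (Equiv.subtypeSubtypeEquivSubtypeInter (fun x : Q => x ≠ 1)
          (fun x => Subgroup.zpowers x = L.1))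
    have e2 : {x : Q // x ≠ 1 ∧ Subgroup.zpowers x = L.1} ≃ ↥((L.1 : Set Q) \ {1}) := by
      apply Equiv.subtypeEquivRight
      intro x
      constructor
      · rintro ⟨hx1, hxL⟩
        refine ⟨?_, hx1⟩
        rw [SetLike.mem_coe, ← hxL]
        exact Subgroup.mem_zpowers x
      · rintro ⟨hxL, hx1⟩
        have hx1' : x ≠ 1 := hx1
        refine ⟨hx1', ?_⟩
        apply Subgroup.eq_of_le_of_card_ge (Subgroup.zpowers_le.mpr hxL)
        rw [Nat.card_zpowers, hord x hx1', L.2]
    rw [Nat.card_congr (e1.trans e2), Nat.card_coe_set_eq,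
      Set.ncard_sdiff_singleton_of_mem (by simp)]
    have : (L.1 : Set Q).ncard = p := by
      rw [← Nat.card_coe_set_eq]; exact L.2
    rw [this]
  have hα : Nat.card {x : Q // x ≠ 1} = p ^ 2 - 1 := by
    have : Nat.card {x : Q // x ≠ 1} = ((Set.univ : Set Q) \ {1}).ncard := by
      rw [← Nat.card_coe_set_eq]
      apply Nat.card_congr
      exact Equiv.subtypeEquivRight (fun x => by simp)
    rw [this, Set.ncard_sdiff_singleton_of_mem (Set.mem_univ _), Set.ncard_univ, hQ]
  have : Fintype {L : Subgroup Q // Nat.card L = p} := Fintype.ofFinite _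
  have h1 : Nat.card {x : Q // x ≠ 1} =
      ∑ L : {L : Subgroup Q // Nat.card L = p}, Nat.card {x : {x : Q // x ≠ 1} // f x = L} := by
    rw [← Nat.card_sigma]
    exact Nat.card_congr (Equiv.sigmaFiberEquiv f).symm
  simp only [hfib, Finset.sum_const, Finset.card_univ, smul_eq_mul] at h1
  rw [hα, ← Nat.card_eq_fintype_card] at h1
  have h2 : p ^ 2 - 1 = (p + 1) * (p - 1) := by
    have := hp.one_lt
    obtain ⟨k, rfl⟩ : ∃ k, p = k + 1 := ⟨p - 1, by omega⟩
    simp only [Nat.add_sub_cancel]
    ring_nf
    omega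
  rw [h2] at h1
  have h3 : 0 < p - 1 := by have := hp.one_lt; omega
  exact (Nat.eq_of_mul_eq_mul_right h3 h1).symm

section

variable {S : Type*} [Group S]

/-- a subgroup properly containing a subgroup of prime index is everything -/
lemma eq_top_of_lt_of_index_prime {p : ℕ} (hp : p.Prime) {A K : Subgroup S} (hAi : A.index = p)
    (hAK : A < K) : K = ⊤ := by
  have h1 := Subgroup.relIndex_mul_index hAK.le
  rw [hAi] at h1
  have h2 : K.index ∣ p := Dvd.intro_left _ h1
  rcases (Nat.dvd_prime hp).mp h2 with h | h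
  · exact Subgroup.index_eq_one.mp h
  · exfalso
    rw [h] at h1
    have h3 : A.relIndex K = 1 := by
      have := hp.pos
      nlinarith
    exact hAK.not_ge (Subgroup.relIndex_eq_one.mp h3)

/-- `A ⊔ ⟨s⟩ = ⊤` for `s ∉ A` when `A` has prime index -/
lemma sup_zpowers_eq_top {p : ℕ} (hp : p.Prime) {A : Subgroup S} (hAi : A.index = p) {s : S}
    (hs : s ∉ A) : A ⊔ Subgroup.zpowers s = ⊤ := by
  apply eq_top_of_lt_of_index_prime hp hAi
  refine lt_of_le_of_ne le_sup_left ?_
  intro h
  apply hs
  rw [h]
  exact (le_sup_right : Subgroup.zpowers s ≤ A ⊔ Subgroup.zpowers s) (Subgroup.mem_zpowers s)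

/-- an element commuting with `A` and with `s` is central when `A ⊔ ⟨s⟩ = ⊤` -/
lemma mem_center_of_comm {A : Subgroup S} {s : S} (htop : A ⊔ Subgroup.zpowers s = ⊤) {x : S}
    (hA : ∀ a ∈ A, a * x = x * a) (hs : s * x = x * s) : x ∈ Subgroup.center S := by
  have hle : A ⊔ Subgroup.zpowers s ≤ Subgroup.centralizer ({x} : Set S) := by
    apply sup_le
    · intro a ha
      rw [Subgroup.mem_centralizer_iff]
      intro h hh
      rw [Set.mem_singleton_iff] at hh
      rw [hh]; exact (hA a ha).symm
    · rw [Subgroup.zpowers_le, Subgroup.mem_centralizer_iff]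
      intro h hh
      rw [Set.mem_singleton_iff] at hh
      rw [hh]; exact hs.symm
  rw [htop] at hle
  rw [Subgroup.mem_center_iff]
  intro g
  have := Subgroup.mem_centralizer_iff.mp (hle (Subgroup.mem_top g)) x rfl
  exact this.symm

/-- the center lies in every abelian subgroup of prime index of a nonabelian group -/
lemma center_le_of_index_prime {p : ℕ} (hp : p.Prime) (hna : ¬ IsMulCommutative S)
    {B : Subgroup S} (hB : IsMulCommutative B) (hBi : B.index = p) : Subgroup.center S ≤ B := by
  intro z hz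
  by_contra hzB
  apply hna
  have htop := sup_zpowers_eq_top hp hBi hzB
  have hzc : ∀ g : S, g * z = z * g := Subgroup.mem_center_iff.mp hz
  have hBc : B ≤ Subgroup.center S := by
    intro b hb
    apply mem_center_of_comm htop
    · intro a ha
      exact congrArg Subtype.val (hB.is_comm.comm ⟨a, ha⟩ ⟨b, hb⟩)
    · exact (hzc b).symm
  have hall : (⊤ : Subgroup S) ≤ Subgroup.center S := by
    rw [← htop]
    exact sup_le hBc (Subgroup.zpowers_le.mpr hz)
  refine ⟨⟨fun a b => ?_⟩⟩
  exact (Subgroup.mem_center_iff.mp (hall (Subgroup.mem_top b)) a)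

/-- the commutator map `a ↦ [a, s]` on an abelian normal subgroup -/
def commHom (A : Subgroup S) (hAc : IsMulCommutative A) (hAn : A.Normal) (s : S) : A →* S :=
  MonoidHom.mk' (fun a => (a : S) * s * (a : S)⁻¹ * s⁻¹) (by
    intro a b
    have ha' : s * (a : S)⁻¹ * s⁻¹ ∈ A := hAn.conj_mem _ (A.inv_mem a.2) s
    have hb' : s * (b : S)⁻¹ * s⁻¹ ∈ A := hAn.conj_mem _ (A.inv_mem b.2) s
    have e1 : (s * (a : S)⁻¹ * s⁻¹) * ((b : S) * (s * (b : S)⁻¹ * s⁻¹)) =
        ((b : S) * (s * (b : S)⁻¹ * s⁻¹)) * (s * (a : S)⁻¹ * s⁻¹) :=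
      congrArg Subtype.val (hAc.is_comm.comm ⟨_, ha'⟩ ⟨_, A.mul_mem b.2 hb'⟩)
    calc ((a * b : A) : S) * s * ((a * b : A) : S)⁻¹ * s⁻¹
        = (a : S) * (((b : S) * (s * (b : S)⁻¹ * s⁻¹)) * (s * (a : S)⁻¹ * s⁻¹)) := by
          rw [Subgroup.coe_mul]; group
      _ = (a : S) * ((s * (a : S)⁻¹ * s⁻¹) * ((b : S) * (s * (b : S)⁻¹ * s⁻¹))) := by rw [e1]
      _ = ((a : S) * s * (a : S)⁻¹ * s⁻¹) * ((b : S) * s * (b : S)⁻¹ * s⁻¹) := by group)

@[simp] lemma commHom_apply (A : Subgroup S) (hAc : IsMulCommutative A) (hAn : A.Normal) (s : S)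
    (a : A) : commHom A hAc hAn s a = (a : S) * s * (a : S)⁻¹ * s⁻¹ := rfl

lemma commHom_ker (A : Subgroup S) (hAc : IsMulCommutative A) (hAn : A.Normal) (s : S)
    (htop : A ⊔ Subgroup.zpowers s = ⊤) :
    (commHom A hAc hAn s).ker = (Subgroup.center S).subgroupOf A := by
  ext a
  rw [MonoidHom.mem_ker, commHom_apply, Subgroup.mem_subgroupOf]
  constructor
  · intro h
    apply mem_center_of_comm htop
    · intro b hb
      exact congrArg Subtype.val (hAc.is_comm.comm ⟨b, hb⟩ a)
    · have h1 : (a : S) * s = s * (a : S) := by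
        calc (a : S) * s = ((a : S) * s * (a : S)⁻¹ * s⁻¹) * (s * (a : S)) := by group
          _ = s * (a : S) := by rw [h, one_mul]
      exact h1.symm
  · intro h
    have h1 : s * (a : S) = (a : S) * s := Subgroup.mem_center_iff.mp h s
    calc (a : S) * s * (a : S)⁻¹ * s⁻¹ = (s * (a : S)) * (a : S)⁻¹ * s⁻¹ := by rw [h1]
      _ = 1 := by group

/-- conjugating the commutator map by an element commuting with `s` -/
lemma conj_commHom (A : Subgroup S) (hAc : IsMulCommutative A) (hAn : A.Normal) (s : S)
    {t : S} (ht : t * s = s * t) (b : A) :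
    t * commHom A hAc hAn s b * t⁻¹ =
      commHom A hAc hAn s ⟨t * (b : S) * t⁻¹, hAn.conj_mem _ b.2 t⟩ := by
  simp only [commHom_apply]
  have h1 : t⁻¹ * s = s * t⁻¹ := by
    calc t⁻¹ * s = t⁻¹ * (s * t) * t⁻¹ := by group
      _ = t⁻¹ * (t * s) * t⁻¹ := by rw [ht]
      _ = s * t⁻¹ := by group
  symm
  calc t * (b : S) * t⁻¹ * s * (t * (b : S) * t⁻¹)⁻¹ * s⁻¹
      = t * (b : S) * (t⁻¹ * s) * t * (b : S)⁻¹ * (s * t)⁻¹ := by group
    _ = t * (b : S) * (s * t⁻¹) * t * (b : S)⁻¹ * (t * s)⁻¹ := by rw [h1, ← ht]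
    _ = t * ((b : S) * s * (b : S)⁻¹ * s⁻¹) * t⁻¹ := by group

lemma commHom_range_normal (A : Subgroup S) (hAc : IsMulCommutative A) (hAn : A.Normal) (s : S)
    (htop : A ⊔ Subgroup.zpowers s = ⊤) : (commHom A hAc hAn s).range.Normal := by
  have hKA : (commHom A hAc hAn s).range ≤ A := by
    rintro _ ⟨a, rfl⟩
    rw [commHom_apply]
    have : s * (a : S)⁻¹ * s⁻¹ ∈ A := hAn.conj_mem _ (A.inv_mem a.2) s
    have h2 : (a : S) * s * (a : S)⁻¹ * s⁻¹ = (a : S) * (s * (a : S)⁻¹ * s⁻¹) := by group
    rw [h2]
    exact A.mul_mem a.2 this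
  rw [← Subgroup.normalizer_eq_top_iff, eq_top_iff, ← htop]
  apply sup_le
  · intro a ha
    rw [Subgroup.mem_normalizer_iff]
    intro h
    constructor
    · intro hh
      have : a * h * a⁻¹ = h := by
        have := congrArg Subtype.val (hAc.is_comm.comm ⟨a, ha⟩ ⟨h, hKA hh⟩)
        simp only [Subgroup.coe_mul] at this
        rw [this]; group
      rw [this]; exact hh
    · intro hh
      have hhA : h ∈ A := by
        have h1 := hKA hh
        have h2 : h = a⁻¹ * (a * h * a⁻¹) * a := by group
        rw [h2]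
        exact A.mul_mem (A.mul_mem (A.inv_mem ha) h1) ha
      have : a * h * a⁻¹ = h := by
        have := congrArg Subtype.val (hAc.is_comm.comm ⟨a, ha⟩ ⟨h, hhA⟩)
        simp only [Subgroup.coe_mul] at this
        rw [this]; group
      rwa [this] at hh
  · rw [Subgroup.zpowers_le, Subgroup.mem_normalizer_iff]
    intro h
    constructor
    · rintro ⟨b, rfl⟩
      rw [conj_commHom A hAc hAn s rfl b]
      exact ⟨_, rfl⟩
    · rintro ⟨b, hb⟩
      have h1 : h = s⁻¹ * (s * h * s⁻¹) * s⁻¹⁻¹ := by group
      have hs' : s⁻¹ * s = s * s⁻¹ := by group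
      rw [h1, ← hb, conj_commHom A hAc hAn s hs' b]
      exact ⟨_, rfl⟩

lemma commHom_range (A : Subgroup S) (hAc : IsMulCommutative A) (hAn : A.Normal) (s : S)
    (htop : A ⊔ Subgroup.zpowers s = ⊤) : (commHom A hAc hAn s).range = commutator S := by
  apply le_antisymm
  · rintro _ ⟨a, rfl⟩
    rw [commHom_apply, ← commutatorElement_def, commutator_def]
    exact Subgroup.commutator_mem_commutator (Subgroup.mem_top _) (Subgroup.mem_top _)
  · have hKn := commHom_range_normal A hAc hAn s htop
    rw [← Subgroup.Normal.quotient_commutative_iff_commutator_le]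
    set K := (commHom A hAc hAn s).range with hK
    set π := QuotientGroup.mk' K with hπ
    -- the generating set commutes
    have hcomm : ∀ x ∈ (π '' (A : Set S)) ∪ {π s}, ∀ y ∈ (π '' (A : Set S)) ∪ {π s},
        x * y = y * x := by
      have key : ∀ a ∈ A, π a * π s = π s * π a := by
        intro a ha
        rw [← map_mul, ← map_mul, hπ, QuotientGroup.mk'_apply, QuotientGroup.mk'_apply,
          QuotientGroup.eq]
        -- (a s)⁻¹ (s a) = s⁻¹ a⁻¹ s a = ψ(s⁻¹ a⁻¹ s)
        refine ⟨⟨s⁻¹ * a⁻¹ * s⁻¹⁻¹, hAn.conj_mem _ (A.inv_mem ha) s⁻¹⟩, ?_⟩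
        rw [commHom_apply]
        simp only []
        group
      rintro x (⟨a, ha, rfl⟩ | hx) y (⟨b, hb, rfl⟩ | hy)
      · rw [← map_mul, ← map_mul]
        congr 1
        exact congrArg Subtype.val (hAc.is_comm.comm ⟨a, ha⟩ ⟨b, hb⟩)
      · rw [Set.mem_singleton_iff] at hy
        rw [hy]; exact key a ha
      · rw [Set.mem_singleton_iff] at hx
        rw [hx]; exact (key b hb).symm
      · rw [Set.mem_singleton_iff] at hx hy
        rw [hx, hy]
    have hc := Subgroup.isMulCommutative_closure hcomm
    have hclosure : Subgroup.closure ((π '' (A : Set S)) ∪ {π s}) = ⊤ := by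
      have h1 : Subgroup.closure ((π '' (A : Set S)) ∪ {π s}) = (A ⊔ Subgroup.zpowers s).map π := by
        rw [Subgroup.map_sup, Subgroup.closure_union, MonoidHom.map_zpowers,
          Subgroup.zpowers_eq_closure]
        congr 1
        rw [← Subgroup.coe_map, Subgroup.closure_eq]
      rw [h1, htop, ← MonoidHom.range_eq_map]
      exact MonoidHom.range_eq_top.mpr (QuotientGroup.mk'_surjective K)
    refine ⟨⟨fun a b => ?_⟩⟩
    have ha : a ∈ Subgroup.closure ((π '' (A : Set S)) ∪ {π s}) := by rw [hclosure]; trivial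
    have hb : b ∈ Subgroup.closure ((π '' (A : Set S)) ∪ {π s}) := by rw [hclosure]; trivial
    exact congrArg Subtype.val (hc.is_comm.comm ⟨a, ha⟩ ⟨b, hb⟩)


/-- a subgroup of the same prime index contained in another is equal to it -/
lemma eq_of_le_of_index_eq {A B : Subgroup S} {p : ℕ} (hp : p.Prime) (hAi : A.index = p)
    (hBi : B.index = p) (h : B ≤ A) : B = A := by
  have h1 := Subgroup.relIndex_mul_index h
  rw [hAi, hBi] at h1
  have h3 : B.relIndex A = 1 := by
    have := hp.pos
    nlinarith
  exact le_antisymm h (Subgroup.relIndex_eq_one.mp h3)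

end

/-- Let S be a non-abelian finite p-group with an abelian subgroup A of index p. Then [S : Z(S)] = p·#[S,S], and either [S,S] has order p, S/Z(S) is elementary abelian of order p², and S has exactly p + 1 abelian subgroups of index p; or [S,S] has order at least p² and A is the only abelian subgroup of index p in S. -/
theorem result {S : Type*} [Group S] [Finite S] (p : ℕ) [Fact p.Prime] (hS : IsPGroup p S) (hna : ¬ IsMulCommutative S)
    (A : Subgroup S) (hA : IsMulCommutative ↥A) (hAi : A.index = p) :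
    (Subgroup.center S).index = p * Nat.card (commutator S) ∧
      ((Nat.card (commutator S) = p ∧ Cfsg.IsElementaryAbelian p (⊤ : Subgroup (S ⧸ Subgroup.center S)) ∧
          Nat.card (S ⧸ Subgroup.center S) = p ^ 2 ∧
          Nat.card {B : Subgroup S // IsMulCommutative ↥B ∧ B.index = p} = p + 1) ∨
        (p ^ 2 ≤ Nat.card (commutator S) ∧ ∀ B : Subgroup S, IsMulCommutative ↥B → B.index = p → B = A)) := by
  classical
  have hp : p.Prime := Fact.out
  have hAc : IsMulCommutative A := hA
  have hAtop : A ≠ ⊤ := by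
    intro h
    rw [h, Subgroup.index_top] at hAi
    exact hp.one_lt.ne hAi
  -- `A` is normal
  have hAn : A.Normal := by
    apply Subgroup.normal_of_index_eq_minFac_card
    obtain ⟨n, hn⟩ := hS.exists_card_eq
    have hn0 : n ≠ 0 := by
      rintro rfl
      rw [pow_zero] at hn
      have h1 := A.card_mul_index
      rw [hn, hAi] at h1
      have : p ∣ 1 := Dvd.intro_left _ h1
      exact hp.one_lt.ne' (Nat.dvd_one.mp this)
    rw [hAi, hn, Nat.Prime.pow_minFac hp hn0]
  obtain ⟨s, hs⟩ : ∃ s, s ∉ A := by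
    by_contra h
    push Not at h
    exact hAtop (eq_top_iff.mpr (fun x _ => h x))
  have htop := sup_zpowers_eq_top hp hAi hs
  have hZA : Subgroup.center S ≤ A := center_le_of_index_prime hp hna hAc hAi
  have hker := commHom_ker A hAc hAn s htop
  have hrange := commHom_range A hAc hAn s htop
  -- the index of the center
  have hidx : (Subgroup.center S).index = p * Nat.card (commutator S) := by
    have h1 := Subgroup.relIndex_mul_index hZA
    have h2 : (Subgroup.center S).relIndex A = Nat.card (commutator S) := by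
      rw [Subgroup.relIndex, ← hker, Subgroup.index_ker, hrange]
    rw [← h1, h2, hAi, mul_comm]
  refine ⟨hidx, ?_⟩
  -- the commutator subgroup is nontrivial
  have hcne : commutator S ≠ ⊥ := by
    intro h
    apply hna
    refine ⟨⟨fun a b => ?_⟩⟩
    have h1 : ⁅a, b⁆ ∈ commutator S := by
      rw [commutator_def]
      exact Subgroup.commutator_mem_commutator (Subgroup.mem_top _) (Subgroup.mem_top _)
    rw [h, Subgroup.mem_bot] at h1
    exact commutatorElement_eq_one_iff_mul_comm.mp h1
  obtain ⟨k, hk⟩ := (hS.to_subgroup (commutator S)).exists_card_eq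
  have hk0 : k ≠ 0 := by
    rintro rfl
    rw [pow_zero] at hk
    exact hcne (Subgroup.card_eq_one.mp hk)
  by_cases hk1 : k = 1
  · -- the commutator subgroup has order `p`
    left
    subst hk1
    rw [pow_one] at hk
    have hQcard : Nat.card (S ⧸ Subgroup.center S) = p ^ 2 := by
      rw [← Subgroup.index_eq_card, hidx, hk, pow_two]
    have hncyc : ¬ IsCyclic (S ⧸ Subgroup.center S) := by
      intro h
      exact hna (isMulCommutative_of_isCyclic_quotient_center_self S)
    have hexp : ∀ q : S ⧸ Subgroup.center S, q ^ p = 1 := by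
      intro q
      have h1 : orderOf q ∣ p ^ 2 := by rw [← hQcard]; exact orderOf_dvd_natCard q
      obtain ⟨j, hj2, hj⟩ := (Nat.dvd_prime_pow hp).mp h1
      have hj1 : j ≠ 2 := by
        rintro rfl
        apply hncyc
        exact isCyclic_of_orderOf_eq_card q (by rw [hj, hQcard])
      have h2 : orderOf q ∣ p := by
        rw [hj]
        calc p ^ j ∣ p ^ 1 := pow_dvd_pow p (by omega)
          _ = p := pow_one p
      exact orderOf_dvd_iff_pow_eq_one.mp h2
    have hQc : IsMulCommutative (S ⧸ Subgroup.center S) :=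
      IsPGroup.isMulCommutative_of_card_eq_prime_sq hQcard
    refine ⟨hk, ⟨⟨⟨fun a b => ?_⟩⟩, fun a _ => hexp a⟩, hQcard, ?_⟩
    · apply Subtype.ext
      exact hQc.is_comm.comm a.1 b.1
    · -- count the abelian subgroups of index `p`
      rw [← card_subgroups_of_card_p hQcard hexp]
      have hπs : Function.Surjective (QuotientGroup.mk' (Subgroup.center S)) :=
        QuotientGroup.mk'_surjective _
      have hπk : (QuotientGroup.mk' (Subgroup.center S)).ker = Subgroup.center S :=
        QuotientGroup.ker_mk' _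
      apply Nat.card_congr
      refine
        { toFun := fun B => ⟨B.1.map (QuotientGroup.mk' (Subgroup.center S)), ?_⟩
          invFun := fun L => ⟨L.1.comap (QuotientGroup.mk' (Subgroup.center S)), ?_, ?_⟩
          left_inv := fun B => Subtype.ext (Subgroup.comap_map_eq_self
            (by rw [hπk]; exact center_le_of_index_prime hp hna B.2.1 B.2.2))
          right_inv := fun L => Subtype.ext (Subgroup.map_comap_eq_self_of_surjective hπs L.1) }
      · have hZB : Subgroup.center S ≤ B.1 := center_le_of_index_prime hp hna B.2.1 B.2.2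
        have h1 : (B.1.map (QuotientGroup.mk' (Subgroup.center S))).index = p := by
          rw [Subgroup.index_map_eq _ hπs (by rw [hπk]; exact hZB), B.2.2]
        have h2 := (B.1.map (QuotientGroup.mk' (Subgroup.center S))).card_mul_index
        rw [h1, hQcard, pow_two] at h2
        exact Nat.eq_of_mul_eq_mul_right hp.pos h2
      · have hLc : IsCyclic L.1 := isCyclic_of_prime_card L.2
        apply MonoidHom.isMulCommutative_of_isCyclic_of_ker_le_center
          ((QuotientGroup.mk' (Subgroup.center S)).subgroupComap L.1)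
        intro x hx
        rw [MonoidHom.mem_ker] at hx
        have h1 : (QuotientGroup.mk' (Subgroup.center S)) x.1 = 1 := congrArg Subtype.val hx
        have h2 : x.1 ∈ Subgroup.center S := (QuotientGroup.eq_one_iff _).mp h1
        rw [Subgroup.mem_center_iff]
        intro y
        apply Subtype.ext
        exact Subgroup.mem_center_iff.mp h2 y.1
      · rw [Subgroup.index_comap_of_surjective _ hπs]
        have h2 := L.1.card_mul_index
        rw [L.2, hQcard, pow_two] at h2
        exact Nat.eq_of_mul_eq_mul_left hp.pos h2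
  · -- the commutator subgroup has order at least `p ^ 2`
    right
    have hk2 : 2 ≤ k := by omega
    have hcard2 : p ^ 2 ≤ Nat.card (commutator S) := by
      rw [hk]; exact Nat.pow_le_pow_right hp.pos hk2
    refine ⟨hcard2, ?_⟩
    intro B hBc hBi
    by_contra hBA
    have hBnle : ¬ B ≤ A := fun h => hBA (eq_of_le_of_index_eq hp hAi hBi h)
    have hsup : A ⊔ B = ⊤ := by
      apply eq_top_of_lt_of_index_prime hp hAi
      refine lt_of_le_of_ne le_sup_left ?_
      intro h
      apply hBnle
      rw [h]; exact le_sup_right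
    have hinf : A ⊓ B ≤ Subgroup.center S := by
      intro x hx
      have hle : A ⊔ B ≤ Subgroup.centralizer ({x} : Set S) := by
        apply sup_le
        · intro a ha
          rw [Subgroup.mem_centralizer_iff]
          intro h hh
          rw [Set.mem_singleton_iff] at hh
          rw [hh]
          exact congrArg Subtype.val (hAc.is_comm.comm ⟨x, hx.1⟩ ⟨a, ha⟩)
        · intro b hb
          rw [Subgroup.mem_centralizer_iff]
          intro h hh
          rw [Set.mem_singleton_iff] at hh
          rw [hh]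
          exact congrArg Subtype.val (hBc.is_comm.comm ⟨x, hx.2⟩ ⟨b, hb⟩)
      rw [hsup] at hle
      rw [Subgroup.mem_center_iff]
      intro g
      have := Subgroup.mem_centralizer_iff.mp (hle (Subgroup.mem_top g)) x rfl
      exact this.symm
    have h1 : (Subgroup.center S).index ∣ (A ⊓ B).index := Subgroup.index_dvd_of_le hinf
    have h2 : (A ⊓ B).index ≤ p * p := by
      have := Subgroup.index_inf_le (H := A) (K := B)
      rwa [hAi, hBi] at this
    have h3 : (A ⊓ B).index ≠ 0 := Subgroup.index_ne_zero_of_finite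
    have h4 : (Subgroup.center S).index ≤ p * p :=
      (Nat.le_of_dvd (Nat.pos_of_ne_zero h3) h1).trans h2
    rw [hidx] at h4
    have h5 : Nat.card (commutator S) ≤ p := Nat.le_of_mul_le_mul_left h4 hp.pos
    have h6 : p < p ^ 2 := by
      calc p = p ^ 1 := (pow_one p).symm
        _ < p ^ 2 := Nat.pow_lt_pow_right hp.one_lt (by norm_num)
    omega

end Cfsg.Agent.S3807
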