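import Cfsg.Statements.S0662
import Mathlib
import Cfsg.Agent.S3807

-- import your own Cfsg.Agent.* helpers here

set_option autoImplicit false
open Cfsg

namespace Cfsg.Agent.S0662


open scoped commutatorElement

section aux

variable {Q : Type*} [Group Q]

/-- In a nilpotent group the lower central series is strictly decreasing until it reaches `⊥`. -/
lemma lcs_lt [Group.IsNilpotent Q] (i : ℕ)
    (h : (⊤ : Subgroup Q).lowerCentralSeries i ≠ ⊥) :
    (⊤ : Subgroup Q).lowerCentralSeries (i + 1) < (⊤ : Subgroup Q).lowerCentralSeries i := by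
  refine lt_of_le_of_ne (Subgroup.lowerCentralSeries_antitone _ (Nat.le_succ i)) ?_
  intro heq
  apply h
  have hstab : ∀ k, (⊤ : Subgroup Q).lowerCentralSeries (i + k)
      = (⊤ : Subgroup Q).lowerCentralSeries i := by
    intro k
    induction k with
    | zero => rfl
    | succ k ih =>
      rw [← add_assoc, Subgroup.lowerCentralSeries_succ, ih, ← Subgroup.lowerCentralSeries_succ, heq]
  obtain ⟨m, hm⟩ := Subgroup.nilpotent_iff_lowerCentralSeries.mp (inferInstance : Group.IsNilpotent Q)
  have h1 : (⊤ : Subgroup Q).lowerCentralSeries (i + m) ≤ (⊤ : Subgroup Q).lowerCentralSeries m :=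
    Subgroup.lowerCentralSeries_antitone _ (Nat.le_add_left m i)
  rw [hstab m, hm] at h1
  exact le_bot_iff.mp h1

/-- A nilpotent group with cyclic abelianization is abelian. -/
lemma commutator_eq_bot_of_isCyclic [Group.IsNilpotent Q] [IsCyclic (Q ⧸ commutator Q)] :
    commutator Q = ⊥ := by
  by_contra hne
  have h1 : (⊤ : Subgroup Q).lowerCentralSeries 1 ≠ ⊥ := hne
  have hlt := lcs_lt (Q := Q) 1 h1
  set L2 : Subgroup Q := (⊤ : Subgroup Q).lowerCentralSeries 2 with hL2
  have hL2def : L2 = ⁅commutator Q, (⊤ : Subgroup Q)⁆ := rfl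
  have hle : L2 ≤ commutator Q := hlt.le
  let f : Q ⧸ L2 →* Q ⧸ commutator Q :=
    QuotientGroup.map L2 (commutator Q) (MonoidHom.id Q) (by simpa using hle)
  have hker : f.ker ≤ Subgroup.center (Q ⧸ L2) := by
    intro x hx
    induction x using QuotientGroup.induction_on with
    | H a =>
      rw [MonoidHom.mem_ker] at hx
      have ha : a ∈ commutator Q := by
        have : ((a : Q) : Q ⧸ commutator Q) = 1 := hx
        exact (QuotientGroup.eq_one_iff a).mp this
      rw [Subgroup.mem_center_iff]
      intro y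
      induction y using QuotientGroup.induction_on with
      | H b =>
        have h2 : ⁅a, b⁆ ∈ L2 := by
          rw [hL2def]
          exact Subgroup.commutator_mem_commutator ha (Subgroup.mem_top b)
        have h3 : ((⁅a, b⁆ : Q) : Q ⧸ L2) = 1 := (QuotientGroup.eq_one_iff _).mpr h2
        have h4 : ⁅((a : Q) : Q ⧸ L2), ((b : Q) : Q ⧸ L2)⁆ = 1 := by
          rw [← h3]; rfl
        exact (commutatorElement_eq_one_iff_mul_comm.mp h4).symm
  have hcomm : IsMulCommutative (Q ⧸ L2) := f.isMulCommutative_of_isCyclic_of_ker_le_center hker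
  have hle2 : commutator Q ≤ L2 := by
    rw [commutator_def, Subgroup.commutator_le]
    intro a _ b _
    apply (QuotientGroup.eq_one_iff _).mp
    have : ((⁅a, b⁆ : Q) : Q ⧸ L2) = ⁅((a : Q) : Q ⧸ L2), ((b : Q) : Q ⧸ L2)⁆ := rfl
    rw [this]
    exact commutatorElement_eq_one_iff_mul_comm.mpr (hcomm.is_comm.comm _ _)
  exact absurd (lt_of_lt_of_le hlt hle2) (lt_irrefl _)

variable [Finite Q] {p : ℕ} [Fact p.Prime]

/-- In a nonabelian finite `p`-group the commutator subgroup has index divisible by `p ^ 2`. -/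
lemma sq_dvd_index_commutator (hQ : IsPGroup p Q) (hne : commutator Q ≠ ⊥) :
    p ^ 2 ∣ (commutator Q).index := by
  have hp : p.Prime := Fact.out
  have : Group.IsNilpotent Q := hQ.isNilpotent
  obtain ⟨k, hk⟩ := hQ.index (commutator Q)
  by_contra hnd
  have hk1 : k ≤ 1 := by
    by_contra hk2
    apply hnd
    rw [hk]
    exact pow_dvd_pow p (by omega)
  apply hne
  have hcard : Nat.card (Q ⧸ commutator Q) = p ^ k := by
    rw [← Subgroup.index_eq_card, hk]
  have : IsCyclic (Q ⧸ commutator Q) := by
    interval_cases k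
    · rw [pow_zero] at hcard
      have : Subsingleton (Q ⧸ commutator Q) := (Nat.card_eq_one_iff_unique.mp hcard).1
      exact isCyclic_of_subsingleton
    · rw [pow_one] at hcard
      exact isCyclic_of_prime_card hcard
  exact commutator_eq_bot_of_isCyclic

/-- One step of the lower central series of a finite `p`-group multiplies the index by at least
`p`. -/
lemma index_mul_dvd_succ (hQ : IsPGroup p Q) (j : ℕ)
    (h : (⊤ : Subgroup Q).lowerCentralSeries j ≠ ⊥) :
    ((⊤ : Subgroup Q).lowerCentralSeries j).index * p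
      ∣ ((⊤ : Subgroup Q).lowerCentralSeries (j + 1)).index := by
  have hp : p.Prime := Fact.out
  have : Group.IsNilpotent Q := hQ.isNilpotent
  have hlt := lcs_lt (Q := Q) j h
  have h1 := Subgroup.relIndex_mul_index hlt.le
  rw [← h1, mul_comm]
  apply Nat.mul_dvd_mul_right
  obtain ⟨k, hk⟩ := (hQ.to_subgroup ((⊤ : Subgroup Q).lowerCentralSeries j)).index
    (((⊤ : Subgroup Q).lowerCentralSeries (j + 1)).subgroupOf
      ((⊤ : Subgroup Q).lowerCentralSeries j))
  have hk' : ((⊤ : Subgroup Q).lowerCentralSeries (j + 1)).relIndex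
      ((⊤ : Subgroup Q).lowerCentralSeries j) = p ^ k := hk
  rw [hk']
  have hk0 : k ≠ 0 := by
    rintro rfl
    rw [pow_zero, Subgroup.relIndex_eq_one] at hk'
    exact absurd (lt_of_lt_of_le hlt hk') (lt_irrefl _)
  exact dvd_pow_self p hk0

/-- Several steps of the lower central series. -/
lemma index_mul_pow_dvd (hQ : IsPGroup p Q) (i : ℕ) :
    ∀ k : ℕ, (∀ j, i ≤ j → j < i + k → (⊤ : Subgroup Q).lowerCentralSeries j ≠ ⊥) →
      ((⊤ : Subgroup Q).lowerCentralSeries i).index * p ^ k
        ∣ ((⊤ : Subgroup Q).lowerCentralSeries (i + k)).index := by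
  intro k
  induction k with
  | zero => intro _; simp
  | succ k ih =>
    intro h
    have h1 := ih (fun j hj1 hj2 => h j hj1 (by omega))
    have h2 := index_mul_dvd_succ hQ (i + k) (h (i + k) (by omega) (by omega))
    rw [pow_succ, ← mul_assoc, ← add_assoc]
    exact dvd_trans (Nat.mul_dvd_mul_right h1 p) h2

/-- The lower central series of a group of order `p ^ r`, `r ≥ 2`, vanishes at `r - 1`. -/
lemma lcs_eq_bot_of_card (r : ℕ) (hr : 2 ≤ r) (hcard : Nat.card Q = p ^ r) :
    (⊤ : Subgroup Q).lowerCentralSeries (r - 1) = ⊥ := by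
  have hp : p.Prime := Fact.out
  have hQ : IsPGroup p Q := IsPGroup.of_card hcard
  by_contra hne
  have hne' : ∀ j, j ≤ r - 1 → (⊤ : Subgroup Q).lowerCentralSeries j ≠ ⊥ := by
    intro j hj h
    apply hne
    have := Subgroup.lowerCentralSeries_antitone (⊤ : Subgroup Q) hj
    rw [h] at this
    exact le_bot_iff.mp this
  have h1 : p ^ 2 ∣ ((⊤ : Subgroup Q).lowerCentralSeries 1).index :=
    sq_dvd_index_commutator hQ (hne' 1 (by omega))
  have h2 := index_mul_pow_dvd hQ 1 (r - 1) (fun j hj1 hj2 => hne' j (by omega))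
  have h3 : p ^ 2 * p ^ (r - 1) ∣ ((⊤ : Subgroup Q).lowerCentralSeries (1 + (r - 1))).index :=
    dvd_trans (Nat.mul_dvd_mul_right h1 _) h2
  have h4 : ((⊤ : Subgroup Q).lowerCentralSeries (1 + (r - 1))).index ∣ Nat.card Q :=
    Subgroup.index_dvd_card _
  rw [hcard, ← pow_add] at *
  have h5 : p ^ (2 + (r - 1)) ∣ p ^ r := dvd_trans h3 h4
  have h6 := (Nat.pow_dvd_pow_iff_le_right hp.one_lt).mp h5
  omega

end aux

/-- In a p-group of maximal class of order at least p³ the normal subgroups of index at least p² are exactly the terms of the lower central series, and there are exactly p + 1 normal subgroups of index p. -/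
theorem result {G : Type*} [Group G] [Finite G] {p : ℕ} [Fact p.Prime] (n : ℕ) (hG : Nat.card G = p ^ n) (hcl : Group.nilpotencyClass G = n - 1) (hn : 3 ≤ n) : (∀ (N : Subgroup G) [N.Normal] (r : ℕ), 2 ≤ r → N.index = p ^ r → N = (⊤ : Subgroup G).lowerCentralSeries (r - 1)) ∧ Nat.card {N : Subgroup G // N.Normal ∧ N.index = p} = p + 1 := by

  classical
  have hp : p.Prime := Fact.out
  have hP : IsPGroup p G := IsPGroup.of_card hG
  have : Group.IsNilpotent G := hP.isNilpotent
  have hbot : (⊤ : Subgroup G).lowerCentralSeries (n - 1) = ⊥ :=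
    Subgroup.lowerCentralSeries_eq_bot_iff_nilpotencyClass_le.mpr hcl.le
  have hnb : (⊤ : Subgroup G).lowerCentralSeries (n - 2) ≠ ⊥ := by
    intro h
    have := Subgroup.lowerCentralSeries_eq_bot_iff_nilpotencyClass_le.mp h
    omega
  have hne' : ∀ j, j ≤ n - 2 → (⊤ : Subgroup G).lowerCentralSeries j ≠ ⊥ := by
    intro j hj h
    apply hnb
    have := Subgroup.lowerCentralSeries_antitone (⊤ : Subgroup G) hj
    rw [h] at this
    exact le_bot_iff.mp this
  have h1 : p ^ 2 ∣ ((⊤ : Subgroup G).lowerCentralSeries 1).index :=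
    sq_dvd_index_commutator hP (hne' 1 (by omega))
  -- the indices of the terms of the lower central series
  have hidx : ∀ i, 1 ≤ i → i ≤ n - 1 →
      ((⊤ : Subgroup G).lowerCentralSeries i).index = p ^ (i + 1) := by
    intro i hi1 hi2
    have h2 := index_mul_pow_dvd hP 1 (i - 1) (fun j hj1 hj2 => hne' j (by omega))
    have h3 := index_mul_pow_dvd hP i (n - 1 - i) (fun j hj1 hj2 => hne' j (by omega))
    have e1 : 1 + (i - 1) = i := by omega
    have e2 : i + (n - 1 - i) = n - 1 := by omega
    rw [e1] at h2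
    rw [e2, hbot, Subgroup.index_bot, hG] at h3
    have h4 : p ^ (i + 1) ∣ ((⊤ : Subgroup G).lowerCentralSeries i).index := by
      have : p ^ (i + 1) = p ^ 2 * p ^ (i - 1) := by
        rw [← pow_add]; congr 1; omega
      rw [this]
      exact dvd_trans (Nat.mul_dvd_mul_right h1 _) h2
    obtain ⟨k, hk⟩ := hP.index ((⊤ : Subgroup G).lowerCentralSeries i)
    rw [hk] at h3 h4 ⊢
    rw [← pow_add] at h3
    have h5 := (Nat.pow_dvd_pow_iff_le_right hp.one_lt).mp h3
    have h6 := (Nat.pow_dvd_pow_iff_le_right hp.one_lt).mp h4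
    congr 1
    omega
  refine ⟨?_, ?_⟩
  · intro N _ r hr hNr
    have hrn : r ≤ n := by
      have h2 : N.index ∣ Nat.card G := Subgroup.index_dvd_card N
      rw [hNr, hG] at h2
      exact (Nat.pow_dvd_pow_iff_le_right hp.one_lt).mp h2
    have hcardQ : Nat.card (G ⧸ N) = p ^ r := by
      rw [← Subgroup.index_eq_card, hNr]
    have h2 := lcs_eq_bot_of_card (Q := G ⧸ N) r hr hcardQ
    have h3 : ((⊤ : Subgroup G).lowerCentralSeries (r - 1)).map (QuotientGroup.mk' N) = ⊥ := by
      rw [Subgroup.map_lowerCentralSeries,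
        Subgroup.map_top_of_surjective _ (QuotientGroup.mk'_surjective N), h2]
    have h4 : (⊤ : Subgroup G).lowerCentralSeries (r - 1) ≤ N := by
      intro x hx
      have : QuotientGroup.mk' N x ∈ ((⊤ : Subgroup G).lowerCentralSeries (r - 1)).map
          (QuotientGroup.mk' N) := Subgroup.mem_map_of_mem _ hx
      rw [h3, Subgroup.mem_bot] at this
      exact (QuotientGroup.eq_one_iff x).mp this
    have h5 := hidx (r - 1) (by omega) (by omega)
    have e3 : r - 1 + 1 = r := by omega
    rw [e3] at h5
    have h6 := Subgroup.relIndex_mul_index h4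
    rw [h5, hNr] at h6
    have h7 : ((⊤ : Subgroup G).lowerCentralSeries (r - 1)).relIndex N = 1 := by
      have hpos : 0 < p ^ r := pow_pos hp.pos r
      exact Nat.eq_of_mul_eq_mul_right hpos (by rw [h6, one_mul])
    exact le_antisymm (Subgroup.relIndex_eq_one.mp h7) h4
  · -- the abelianization has order `p ^ 2` and exponent `p`
    have hD : (commutator G).index = p ^ 2 := hidx 1 le_rfl (by omega)
    have hQcard : Nat.card (G ⧸ commutator G) = p ^ 2 := by
      rw [← Subgroup.index_eq_card, hD]
    have hDne : commutator G ≠ ⊥ := hne' 1 (by omega)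
    have hncyc : ¬ IsCyclic (G ⧸ commutator G) := by
      intro h
      exact hDne commutator_eq_bot_of_isCyclic
    have hexp : ∀ q : G ⧸ commutator G, q ^ p = 1 := by
      intro q
      have h1 : orderOf q ∣ p ^ 2 := by rw [← hQcard]; exact orderOf_dvd_natCard q
      obtain ⟨j, hj2, hj⟩ := (Nat.dvd_prime_pow hp).mp h1
      have hj1 : j ≠ 2 := by
        rintro rfl
        apply hncyc
        exact isCyclic_of_orderOf_eq_card q (by rw [hj, hQcard])
      have h2 : orderOf q ∣ p := by
        rw [hj]
        calc p ^ j ∣ p ^ 1 := pow_dvd_pow p (by omega)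
          _ = p := pow_one p
      exact orderOf_dvd_iff_pow_eq_one.mp h2
    rw [← Cfsg.Agent.S3807.card_subgroups_of_card_p hQcard hexp]
    have hπs : Function.Surjective (QuotientGroup.mk' (commutator G)) :=
      QuotientGroup.mk'_surjective _
    have hπk : (QuotientGroup.mk' (commutator G)).ker = commutator G :=
      QuotientGroup.ker_mk' _
    have hle : ∀ N : Subgroup G, N.Normal → N.index = p → commutator G ≤ N := by
      intro N hN hNi
      have hc : Nat.card (G ⧸ N) = p := by rw [← Subgroup.index_eq_card, hNi]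
      have : IsCyclic (G ⧸ N) := isCyclic_of_prime_card hc
      rw [commutator_def, Subgroup.commutator_le]
      intro a _ b _
      apply (QuotientGroup.eq_one_iff _).mp
      have : ((⁅a, b⁆ : G) : G ⧸ N) = ⁅((a : G) : G ⧸ N), ((b : G) : G ⧸ N)⁆ := rfl
      rw [this]
      exact commutatorElement_eq_one_iff_mul_comm.mpr
        ((IsCyclic.isMulCommutative (α := G ⧸ N)).is_comm.comm _ _)
    apply Nat.card_congr
    refine
      { toFun := fun B => ⟨B.1.map (QuotientGroup.mk' (commutator G)), ?_⟩
        invFun := fun L => ⟨L.1.comap (QuotientGroup.mk' (commutator G)), ?_, ?_⟩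
        left_inv := fun B => Subtype.ext (Subgroup.comap_map_eq_self
          (by rw [hπk]; exact hle B.1 B.2.1 B.2.2))
        right_inv := fun L => Subtype.ext (Subgroup.map_comap_eq_self_of_surjective hπs L.1) }
    · have hZB : commutator G ≤ B.1 := hle B.1 B.2.1 B.2.2
      have h1 : (B.1.map (QuotientGroup.mk' (commutator G))).index = p := by
        rw [Subgroup.index_map_eq _ hπs (by rw [hπk]; exact hZB), B.2.2]
      have h2 := (B.1.map (QuotientGroup.mk' (commutator G))).card_mul_index
      rw [h1, hQcard, pow_two] at h2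
      exact Nat.eq_of_mul_eq_mul_right hp.pos h2
    · have hLn : L.1.Normal := by
        refine ⟨fun x hx g => ?_⟩
        have : g * x * g⁻¹ = x := by
          have hc : g * x = x * g := by
            exact (IsPGroup.isMulCommutative_of_card_eq_prime_sq hQcard).is_comm.comm g x
          rw [hc, mul_inv_cancel_right]
        rw [this]; exact hx
      exact hLn.comap _
    · rw [Subgroup.index_comap_of_surjective _ hπs]
      have h2 := L.1.card_mul_index
      rw [L.2, hQcard, pow_two] at h2
      exact Nat.eq_of_mul_eq_mul_left hp.pos h2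

end Cfsg.Agent.S0662
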