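import Cfsg.Statements.S3082
import Cfsg.Agent.S0653
import Cfsg.Agent.S0654
import Cfsg.Agent.S3079
import Cfsg.Agent.Lib.Helper51.ThompsonStrong
-- import your own Cfsg.Agent.* helpers here

set_option autoImplicit false
open Cfsg

namespace Cfsg.Agent.S3082

open Cfsg.Agent.Lib.Helper51 Cfsg.Agent.Lib.Helper11 Cfsg.Agent.Lib.Helper34

/-- The Glauberman–Thompson normal p-complement criterion for strongly closed subgroups, p odd. Let G be a finite group, P a Sylow p-subgroup and D a subgroup of P strongly closed in P with respect to G. If N_G(Z(J(D))) has a normal p-complement (J(D) generated by the abelian subgroups of D of largest order), or N_G(Ω₁(Z(J_e(D)))) has one (J_e(D) generated by the elementary abelian subgroups of largest order), then G has a normal p-complement. -/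
theorem result {G : Type*} [Group G] [Finite G] {p : ℕ} [Fact p.Prime] (hp : p ≠ 2) (P : Sylow p G) (D : Subgroup G) (hD : Cfsg.IsStronglyClosed D (P : Subgroup G)) (h : Cfsg.HasNormalPComplement p ↥(Subgroup.normalizer ((Cfsg.centerThompsonAOf D) : Set G)) ∨ Cfsg.HasNormalPComplement p ↥(Subgroup.normalizer ((Cfsg.omegaOne p (Cfsg.centerThompsonOf p D)) : Set G))) : Cfsg.HasNormalPComplement p G := by
  have hDp : IsPGroup p D := P.isPGroup'.to_le hD.1
  have key : ∀ b : Bool, HasNormalPComplement p
      ↥(Subgroup.normalizer ((famInf (gd p b) D : Subgroup G) : Set G)) →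
      HasNormalPComplement p G := by
    intro b hb
    by_cases hDb : D = ⊥
    · have h1 : famInf (gd p b) D = ⊥ := by
        rw [eq_bot_iff, ← hDb]
        exact famInf_gd_le p b D
      rw [h1, Subgroup.normalizer_eq_top_iff.mpr (inferInstance : (⊥ : Subgroup G).Normal)] at hb
      exact hasNPC_of_mulEquiv Subgroup.topEquiv hb
    · exact thompson_strong hp b (Nat.card G) G rfl P D hD hDb hb
  rcases h with h | h
  · apply key true
    rw [gd_true_eq, ← Cfsg.Agent.S0653.centerThompsonAOf_eq_famInf]
    exact h
  · apply key false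
    rw [gd_false_eq, ← Cfsg.Agent.S0654.omegaCenterThompson_map_eq_famInf D hDp,
      ← Cfsg.Agent.S3079.omegaOne_centerThompsonOf_eq]
    exact h

end Cfsg.Agent.S3082
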