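import Cfsg.Statements.S5256
import Cfsg.Agent.Lib.Helper87.FusionLift
-- import your own Cfsg.Agent.* helpers here

set_option autoImplicit false
open Cfsg

namespace Cfsg.Agent.S5256

open Cfsg.FusionSystem Cfsg.Agent.Lib.Helper87

section abstract

theorem exists_pow_coprime {G H : Type*} [Group G] [Group H] {p : ℕ} [Fact p.Prime] (a : G) (b : H)
    (ha : 0 < orderOf a) (hb : (orderOf b).Coprime p) :
    ∃ N : ℕ, (orderOf (a ^ N)).Coprime p ∧ b ^ N = b := by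
  have hp : p.Prime := Fact.out
  obtain ⟨k, m, hm, hn⟩ := Nat.exists_eq_pow_mul_and_not_dvd (ne_of_gt ha) p hp.ne_one
  have hcop : (p ^ k).Coprime (orderOf b) := Nat.Coprime.pow_left k hb.symm
  let N := Nat.chineseRemainder hcop 0 1
  refine ⟨N.1, ?_, ?_⟩
  · have h1 : p ^ k ∣ N.1 := (Nat.modEq_zero_iff_dvd).1 N.2.1
    have h2 : (a ^ N.1) ^ m = 1 := by
      rw [← pow_mul]
      apply orderOf_dvd_iff_pow_eq_one.1
      rw [hn]
      exact Nat.mul_dvd_mul h1 (dvd_refl m)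
    have h3 : orderOf (a ^ N.1) ∣ m := orderOf_dvd_of_pow_eq_one h2
    have hmp : m.Coprime p := ((Nat.Prime.coprime_iff_not_dvd hp).2 hm).symm
    exact Nat.Coprime.coprime_dvd_left h3 hmp
  · have := (pow_eq_pow_iff_modEq (x := b)).2 N.2.2
    simpa using this

/-- Lifting `O^p` through a relation that is a subgroup of the product and is onto the second factor. -/
theorem pResidual_lift {G H : Type*} [Group G] [Group H] {p : ℕ} [Fact p.Prime] (R : G → H → Prop) (h1 : R 1 1)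
    (hmul : ∀ a a' b b', R a b → R a' b' → R (a * a') (b * b')) (hinv : ∀ a b, R a b → R a⁻¹ b⁻¹)
    (hsurj : ∀ b, ∃ a, R a b) (hfin : ∀ a : G, 0 < orderOf a) :
    ∀ b ∈ pResidual p H, ∃ a ∈ pResidual p G, R a b := by
  have hpow : ∀ a b, R a b → ∀ N : ℕ, R (a ^ N) (b ^ N) := by
    intro a b h N
    induction N with
    | zero => simpa using h1
    | succ n ih =>
      rw [pow_succ, pow_succ]
      exact hmul _ _ _ _ ih h
  intro b hb
  unfold pResidual at hb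
  induction hb using Subgroup.closure_induction with
  | mem b hb =>
    obtain ⟨a, hab⟩ := hsurj b
    obtain ⟨N, hN, hbN⟩ := exists_pow_coprime a b (hfin a) hb
    refine ⟨a ^ N, Subgroup.subset_closure hN, ?_⟩
    have := hpow a b hab N
    rwa [hbN] at this
  | one => exact ⟨1, Subgroup.one_mem _, h1⟩
  | mul b b' _ _ ih ih' =>
    obtain ⟨a, ha, hab⟩ := ih
    obtain ⟨a', ha', hab'⟩ := ih'
    exact ⟨a * a', Subgroup.mul_mem _ ha ha', hmul _ _ _ _ hab hab'⟩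
  | inv b _ ih =>
    obtain ⟨a, ha, hab⟩ := ih
    exact ⟨a⁻¹, Subgroup.inv_mem _ ha, hinv _ _ hab⟩

end abstract

section concrete

variable {Ω : Type*} [Group Ω] {S : Subgroup Ω} {Ω' : Type*} [Group Ω'] {S' : Subgroup Ω'}

/-- An injective self-map of a finite subgroup belonging to the system is an automorphism of the system. -/
theorem exists_aut_of_maps_into (F : FusionSystem S) {P : Subgroup Ω} [Finite P] {φ : P →* Ω}
    (hφ : φ ∈ F.Hom P) (hval : ∀ x : P, φ x ∈ P) :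
    ∃ α : MulAut P, α ∈ F.autGroup P ∧ ∀ x : P, ((α x : P) : Ω) = φ x := by
  have hPS : P ≤ S := hom_le F hφ
  have hinj : Function.Injective (φ.codRestrict P hval) := by
    intro a b hab
    apply F.injective_of_mem hφ
    exact congrArg (fun z : P => (z : Ω)) hab
  refine ⟨MulEquiv.ofBijective (φ.codRestrict P hval) (Finite.injective_iff_bijective.mp hinj), ?_,
    fun x => rfl⟩
  rw [mem_autGroup_iff F hPS]
  have : P.subtype.comp
      ((MulEquiv.ofBijective (φ.codRestrict P hval) (Finite.injective_iff_bijective.mp hinj) : P ≃* P) :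
        P ≃* P).toMonoidHom = φ := by
    ext x
    rfl
  unfold IsIso
  rw [this]
  exact hφ

/-- `β'` is induced by `β` along `θ`. -/
def Ind (θ : S →* Ω') {Q : Subgroup Ω} (hQS : Q ≤ S) {Q' : Subgroup Ω'} (β : MulAut Q) (β' : MulAut Q') : Prop :=
  ∀ (x : Q) (hx : θ ⟨x, hQS x.2⟩ ∈ Q'),
    ((β' ⟨θ ⟨x, hQS x.2⟩, hx⟩ : Q') : Ω') = θ ⟨((β x : Q) : Ω), hQS (β x).2⟩

theorem ind_one (θ : S →* Ω') {Q : Subgroup Ω} (hQS : Q ≤ S) {Q' : Subgroup Ω'} :
    Ind θ hQS (1 : MulAut Q) (1 : MulAut Q') := fun _ _ => rfl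

theorem ind_mul (θ : S →* Ω') {Q : Subgroup Ω} (hQS : Q ≤ S) {Q' : Subgroup Ω'}
    {β γ : MulAut Q} {β' γ' : MulAut Q'} (h1 : Ind θ hQS β β') (h2 : Ind θ hQS γ γ') :
    Ind θ hQS (β * γ) (β' * γ') := by
  intro x hx
  show ((β' (γ' ⟨θ ⟨x, hQS x.2⟩, hx⟩) : Q') : Ω') = θ ⟨((β (γ x) : Q) : Ω), hQS (β (γ x)).2⟩
  have e := h2 x hx
  have hx2 : θ ⟨((γ x : Q) : Ω), hQS (γ x).2⟩ ∈ Q' := by
    rw [← e]; exact (γ' _).2
  have e2 : γ' ⟨θ ⟨x, hQS x.2⟩, hx⟩ = ⟨θ ⟨((γ x : Q) : Ω), hQS (γ x).2⟩, hx2⟩ := Subtype.ext e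
  rw [e2]
  exact h1 (γ x) hx2

theorem ind_inv (θ : S →* Ω') {Q : Subgroup Ω} (hQS : Q ≤ S) {Q' : Subgroup Ω'}
    (hθQ : ∀ x : Q, θ ⟨x, hQS x.2⟩ ∈ Q')
    {β : MulAut Q} {β' : MulAut Q'} (h1 : Ind θ hQS β β') : Ind θ hQS β⁻¹ β'⁻¹ := by
  intro x hx
  have e := h1 (β⁻¹ x) (hθQ _)
  have e2 : β' ⟨θ ⟨((β⁻¹ x : Q) : Ω), hQS (β⁻¹ x).2⟩, hθQ _⟩ = ⟨θ ⟨x, hQS x.2⟩, hx⟩ := by
    apply Subtype.ext
    rw [e]
    simp only [MulAut.apply_inv_self]
  rw [← e2, MulAut.inv_apply_self]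

variable [Finite S] {p : ℕ} [Fact p.Prime]

/-- Every automorphism in `Aut_E(P')` is induced by an automorphism in `Aut_F` of the full preimage. -/
theorem exists_ind_of_factor (F : FusionSystem S) {T : Subgroup Ω} (θ : S →* Ω') (E : FusionSystem S')
    (hE : F.IsFactorSystem T θ E) {P' : Subgroup Ω'} (hP' : P' ≤ S') (β' : MulAut P')
    (hβ' : β' ∈ E.autGroup P') :
    ∃ β : MulAut ↥(preimageAlong θ P'), β ∈ F.autGroup (preimageAlong θ P') ∧
      Ind θ (Cfsg.Agent.Lib.Helper85.preimageAlong_le θ P') β β' := by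
  obtain ⟨hTS, hker, hrange, hHom⟩ := hE
  have h1 : IsIso E (β' : P' ≃* P') := (mem_autGroup_iff E hP').1 hβ'
  obtain ⟨-, φ, hφ, hQS, hφS, hθQ, hcomm⟩ := (hHom P' _).1 h1
  have hfin : Finite ↥(preimageAlong θ P') := finite_of_le hQS
  have hval : ∀ x : ↥(preimageAlong θ P'), φ x ∈ preimageAlong θ P' := by
    intro x
    rw [Cfsg.Agent.Lib.Helper85.mem_preimageAlong_iff]
    refine ⟨hφS x, ?_⟩
    rw [← hcomm x]
    exact (β' _).2
  obtain ⟨β, hβ, hβφ⟩ := exists_aut_of_maps_into F hφ hval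
  refine ⟨β, hβ, fun x hx => ?_⟩
  have h2 := hcomm x
  have h3 : θ ⟨((β x : ↥(preimageAlong θ P')) : Ω), hQS (β x).2⟩ = θ ⟨φ x, hφS x⟩ := by
    congr 1
    exact Subtype.ext (hβφ x)
  rw [h3, ← h2]
  rfl

/-- Every automorphism in `Aut_F(P)` induces an automorphism in `Aut_E(θ(P))`. -/
theorem exists_ind_of_morphism (F : FusionSystem S) (hS : IsPGroup p S) (hF : F.IsSaturated p)
    {T : Subgroup Ω} (hT : F.StronglyClosed T) (θ : S →* Ω') (E : FusionSystem S')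
    (hE : F.IsFactorSystem T θ E) {P : Subgroup Ω} (hPS : P ≤ S) (β : MulAut P) (hβ : β ∈ F.autGroup P) :
    ∃ β' : MulAut ↥(imageAlong θ P), β' ∈ E.autGroup (imageAlong θ P) ∧ Ind θ hPS β β' := by
  have h1 : IsIso F (β : P ≃* P) := (mem_autGroup_iff F hPS).1 hβ
  obtain ⟨φ', hφ', hPS', hφS, hθP, hcomm⟩ := exists_induced_of_isFactorSystem F hS hF hT θ E hE h1
  have hfinP : Finite P := finite_of_le hPS
  have hfin : Finite ↥(imageAlong θ P) := by
    have hs : Function.Surjective (fun x : P => (⟨θ ⟨x, hPS x.2⟩, hθP x⟩ : ↥(imageAlong θ P))) := by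
      rintro ⟨_, s, hs, rfl⟩
      exact ⟨⟨s, Subgroup.mem_subgroupOf.1 hs⟩, rfl⟩
    exact Finite.of_surjective _ hs
  have hval : ∀ y : ↥(imageAlong θ P), φ' y ∈ imageAlong θ P := by
    rintro ⟨_, s, hs, rfl⟩
    have hsP : (s : Ω) ∈ P := Subgroup.mem_subgroupOf.1 hs
    have h2 := hcomm ⟨s, hsP⟩
    have h3 : (⟨θ s, ⟨s, hs, rfl⟩⟩ : ↥(imageAlong θ P)) = ⟨θ ⟨(⟨s, hsP⟩ : P), hPS hsP⟩, hθP ⟨s, hsP⟩⟩ := rfl
    rw [h3, h2]
    exact hθP (β ⟨s, hsP⟩)
  obtain ⟨β', hβ', hβφ⟩ := exists_aut_of_maps_into E hφ' hval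
  refine ⟨β', hβ', fun x hx => ?_⟩
  rw [hβφ]
  exact hcomm x

end concrete

/-- Let F be a saturated fusion system over a finite p-group S, T a subgroup of S strongly closed in F, and E a factor system F/T realised along a homomorphism θ of S with kernel T. Then the hyperfocal subgroup of E is the image under θ of the hyperfocal subgroup of F (hyp(F/T) = T·hyp(F)/T). -/
theorem result {Ω : Type*} [Group Ω] {S : Subgroup Ω} [Finite S] (p : ℕ) [Fact p.Prime] (hS : IsPGroup p S) (F : Cfsg.FusionSystem S) (hF : F.IsSaturated p) (T : Subgroup Ω) (hT : F.StronglyClosed T) {Ω' : Type*} [Group Ω'] {S' : Subgroup Ω'} (θ : ↥S →* Ω') (E : Cfsg.FusionSystem S') (hE : F.IsFactorSystem T θ E) : E.hyperfocalSubgroup p = ((F.hyperfocalSubgroup p).subgroupOf S).map θ := by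
  have hrange : θ.range = S' := hE.2.2.1
  apply le_antisymm
  · refine (Subgroup.closure_le _).2 ?_
    rintro _ ⟨P', α', x', hP'S', hα', rfl⟩
    have hQS : preimageAlong θ P' ≤ S := Cfsg.Agent.Lib.Helper85.preimageAlong_le θ P'
    have hθQ : ∀ x : ↥(preimageAlong θ P'), θ ⟨x, hQS x.2⟩ ∈ P' :=
      fun x => ((Cfsg.Agent.Lib.Helper85.mem_preimageAlong_iff θ P' x).mp x.2).2
    have hfinQ : Finite ↥(preimageAlong θ P') := finite_of_le hQS
    obtain ⟨α, hα, hind⟩ := pResidual_lift (p := p) (G := ↥(F.autGroup (preimageAlong θ P')))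
      (H := ↥(E.autGroup P'))
      (fun β β' => Ind θ hQS (β : MulAut ↥(preimageAlong θ P')) (β' : MulAut P'))
      (ind_one θ hQS) (fun a a' b b' h h' => ind_mul θ hQS h h') (fun a b h => ind_inv θ hQS hθQ h)
      (fun b => by
        obtain ⟨β, hβ, hi⟩ := exists_ind_of_factor F θ E hE hP'S' b.1 b.2
        exact ⟨⟨β, hβ⟩, hi⟩)
      (fun a => orderOf_pos a) α' hα'
    obtain ⟨x, hx, hxS, hxx'⟩ := Cfsg.Agent.Lib.Helper85.exists_preimage_of_mem θ hrange hP'S' x'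
    have h1 := hind ⟨x, hx⟩ (hθQ ⟨x, hx⟩)
    have hx'eq : x' = ⟨θ ⟨x, hxS⟩, hθQ ⟨x, hx⟩⟩ := Subtype.ext hxx'.symm
    refine ⟨⟨(x : Ω)⁻¹ * (((α : MulAut ↥(preimageAlong θ P')) ⟨x, hx⟩ : ↥(preimageAlong θ P')) : Ω),
      S.mul_mem (S.inv_mem hxS) (hQS (Subtype.property _))⟩, ?_, ?_⟩
    · rw [SetLike.mem_coe, Subgroup.mem_subgroupOf]
      exact Subgroup.subset_closure ⟨preimageAlong θ P', α, ⟨x, hx⟩, hQS, hα, rfl⟩
    · have e : (⟨(x : Ω)⁻¹ * (((α : MulAut ↥(preimageAlong θ P')) ⟨x, hx⟩ : ↥(preimageAlong θ P')) : Ω),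
          S.mul_mem (S.inv_mem hxS) (hQS (Subtype.property _))⟩ : S) =
          (⟨x, hxS⟩ : S)⁻¹ * ⟨(((α : MulAut ↥(preimageAlong θ P')) ⟨x, hx⟩ : ↥(preimageAlong θ P')) : Ω),
            hQS (Subtype.property _)⟩ := rfl
      rw [e, map_mul, map_inv, ← h1, hx'eq]
  · rintro _ ⟨z, hz, rfl⟩
    have hK : F.hyperfocalSubgroup p ≤ ((E.hyperfocalSubgroup p).comap θ).map S.subtype := by
      refine (Subgroup.closure_le _).2 ?_
      rintro _ ⟨P, α, x, hPS, hα, rfl⟩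
      have hθP : ∀ x : P, θ ⟨x, hPS x.2⟩ ∈ imageAlong θ P :=
        fun x => ⟨⟨x, hPS x.2⟩, Subgroup.mem_subgroupOf.2 x.2, rfl⟩
      have hP'S' : imageAlong θ P ≤ S' := by
        rintro _ ⟨s, -, rfl⟩
        rw [← hrange]
        exact ⟨s, rfl⟩
      have hfinP : Finite P := finite_of_le hPS
      have hfin : Finite ↥(imageAlong θ P) := by
        have hs : Function.Surjective (fun x : P => (⟨θ ⟨x, hPS x.2⟩, hθP x⟩ : ↥(imageAlong θ P))) := by
          rintro ⟨_, s, hs, rfl⟩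
          exact ⟨⟨s, Subgroup.mem_subgroupOf.1 hs⟩, rfl⟩
        exact Finite.of_surjective _ hs
      obtain ⟨α', hα', hind⟩ := pResidual_lift (p := p) (G := ↥(E.autGroup (imageAlong θ P)))
        (H := ↥(F.autGroup P))
        (fun β' β => Ind θ hPS (β : MulAut P) (β' : MulAut ↥(imageAlong θ P)))
        (ind_one θ hPS) (fun a a' b b' h h' => ind_mul θ hPS h h') (fun a b h => ind_inv θ hPS hθP h)
        (fun b => by
          obtain ⟨β', hβ', hi⟩ := exists_ind_of_morphism F hS hF hT θ E hE hPS b.1 b.2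
          exact ⟨⟨β', hβ'⟩, hi⟩)
        (fun a => orderOf_pos a) α hα
      have h1 := hind x (hθP x)
      refine ⟨⟨(x : Ω)⁻¹ * (((α : MulAut P) x : P) : Ω),
        S.mul_mem (S.inv_mem (hPS x.2)) (hPS (Subtype.property _))⟩, ?_, rfl⟩
      rw [SetLike.mem_coe, Subgroup.mem_comap]
      have e : θ ⟨(x : Ω)⁻¹ * (((α : MulAut P) x : P) : Ω),
          S.mul_mem (S.inv_mem (hPS x.2)) (hPS (Subtype.property _))⟩ =
          ((⟨θ ⟨x, hPS x.2⟩, hθP x⟩ : ↥(imageAlong θ P)) : Ω')⁻¹ *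
            (((α' : MulAut ↥(imageAlong θ P)) ⟨θ ⟨x, hPS x.2⟩, hθP x⟩ : ↥(imageAlong θ P)) : Ω') := by
        rw [h1, ← map_inv, ← map_mul]
        rfl
      rw [e]
      exact Subgroup.subset_closure ⟨imageAlong θ P, α', ⟨θ ⟨x, hPS x.2⟩, hθP x⟩, hP'S', hα', rfl⟩
    obtain ⟨z', hz', hzz'⟩ := hK (Subgroup.mem_subgroupOf.1 hz)
    have : z' = z := Subtype.ext hzz'
    rw [← this]
    exact hz'

end Cfsg.Agent.S5256
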