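import Cfsg.Statements.S0527
import Cfsg.Agent.Lib.Helper9.SS2

set_option autoImplicit false
open Cfsg

namespace Cfsg.Agent.S0527

open Cfsg.Agent.Lib.Helper9
open scoped Pointwise

universe u

theorem aux : ∀ (n : ℕ) (G : Type u) [Group G] [Finite G], Nat.card G = n →
    Cfsg.IsSupersolvable G → ∀ M : Subgroup G, IsCoatom M → M.index.Prime := by
  intro n
  induction n using Nat.strong_induction_on with
  | _ n ih =>
    intro G _ _ hcard hG M hM
    have : Nontrivial G := by
      by_contra h
      rw [not_nontrivial_iff_subsingleton] at h
      exact hM.1 (Subsingleton.elim _ _)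
    obtain ⟨D, hDn, hDp⟩ := exists_normal_prime_card hG
    by_cases hDM : D ≤ M
    · -- pass to the quotient
      have hker : (QuotientGroup.mk' D).ker ≤ M := by rwa [QuotientGroup.ker_mk']
      have hsurj := QuotientGroup.mk'_surjective D
      have hcm : (M.map (QuotientGroup.mk' D)).comap (QuotientGroup.mk' D) = M := by
        rw [Subgroup.comap_map_eq, sup_eq_left.2 hker]
      have hco : IsCoatom (M.map (QuotientGroup.mk' D)) := by
        constructor
        · intro h
          apply hM.1
          rw [← hcm, h, Subgroup.comap_top]
        · intro K hK
          have h1 : M ≤ K.comap (QuotientGroup.mk' D) := by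
            rw [← hcm]; exact Subgroup.comap_mono hK.le
          rcases eq_or_lt_of_le h1 with h2 | h2
          · exfalso
            apply hK.ne
            rw [h2, Subgroup.map_comap_eq_self_of_surjective hsurj]
          · have h3 := hM.2 _ h2
            rw [← Subgroup.map_comap_eq_self_of_surjective hsurj K, h3,
              Subgroup.map_top_of_surjective _ hsurj]
      have hlt : Nat.card (G ⧸ D) < n := by
        rw [← hcard, ← Subgroup.index_eq_card, ← Subgroup.index_mul_card D]
        have hpos : 0 < D.index := Nat.pos_of_ne_zero Subgroup.index_ne_zero_of_finite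
        have := hDp.one_lt
        nlinarith
      have := ih _ hlt (G ⧸ D) rfl (isSupersolvable_quotient hG D) _ hco
      rwa [Subgroup.index_map_eq _ hsurj hker] at this
    · have hsup : D ⊔ M = ⊤ := by
        apply hM.2
        exact lt_of_le_of_ne le_sup_right (fun h => hDM (h ▸ le_sup_left))
      have hdisj : Disjoint D M := by
        rw [disjoint_iff]
        have : Fact (Nat.card D).Prime := ⟨hDp⟩
        have h1 := Subgroup.eq_bot_or_eq_top_of_prime_card ((D ⊓ M).subgroupOf D)
        rcases h1 with h1 | h1
        · rw [Subgroup.subgroupOf_eq_bot] at h1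
          rwa [disjoint_iff, inf_right_comm, inf_idem] at h1
        · exfalso
          rw [Subgroup.subgroupOf_eq_top] at h1
          exact hDM (le_trans h1 inf_le_right)
      have hmul : (D : Set G) * (M : Set G) = Set.univ := by
        rw [← Subgroup.normal_mul, hsup, Subgroup.coe_top]
      have hc := Subgroup.isComplement'_of_disjoint_and_mul_eq_univ hdisj hmul
      rw [hc.index_eq_card]
      exact hDp

/-- In a finite supersolvable group the index of any maximal subgroup is a prime number. -/
theorem result {G : Type*} [Group G] [Finite G] (hG : Cfsg.IsSupersolvable G) (M : Subgroup G) (hM : IsCoatom M) : M.index.Prime := by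
  exact aux _ G rfl hG M hM

end Cfsg.Agent.S0527
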