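import Cfsg.Statements.S2530
-- import your own Cfsg.Agent.* helpers here

set_option autoImplicit false
open Cfsg

namespace Cfsg.Agent.S2530


section abstract
variable {G : Type*} [Group G] (s : ℕ → G)

/-- descending product `s (j+d-1) * ... * s j` -/
def desc (j : ℕ) : ℕ → G
  | 0 => 1
  | d + 1 => s (j + d) * desc j d

@[simp] theorem desc_zero (j : ℕ) : desc s j 0 = 1 := rfl

theorem desc_succ (j d : ℕ) : desc s j (d + 1) = s (j + d) * desc s j d := rfl

theorem desc_succ_right (j d : ℕ) : desc s j (d + 1) = desc s (j + 1) d * s j := by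
  induction d with
  | zero => simp [desc]
  | succ d ih =>
    rw [desc_succ, ih, desc_succ, mul_assoc]
    congr 2
    omega

theorem desc_add (j d e : ℕ) : desc s j (d + e) = desc s (j + e) d * desc s j e := by
  induction d with
  | zero => simp
  | succ d ih =>
    rw [show d + 1 + e = (d + e) + 1 by omega, desc_succ, ih, desc_succ, mul_assoc]
    congr 2
    omega

variable (n : ℕ)
  (hinv : ∀ i, i < n → s i * s i = 1)
  (hcomm : ∀ i j, i + 1 < j → j < n → s i * s j = s j * s i)
  (hbraid : ∀ i, i + 1 < n → s i * s (i + 1) * s i = s (i + 1) * s i * s (i + 1))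

include hcomm in
theorem desc_comm_low (i j d : ℕ) (hij : i + 1 < j) (hd : j + d ≤ n) :
    desc s j d * s i = s i * desc s j d := by
  induction d with
  | zero => simp
  | succ d ih =>
    rw [desc_succ, mul_assoc, ih (by omega), ← mul_assoc, ← mul_assoc,
      hcomm i (j + d) (by omega) (by omega)]

include hcomm in
theorem desc_comm_high (i j d : ℕ) (hij : j + d < i) (hi : i < n) :
    desc s j d * s i = s i * desc s j d := by
  induction d with
  | zero => simp
  | succ d ih =>
    rw [desc_succ, mul_assoc, ih (by omega), ← mul_assoc, ← mul_assoc,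
      hcomm (j + d) i (by omega) hi]

include hcomm hbraid in
theorem desc_mid (j a b : ℕ) (h : j + (a + 2 + b) ≤ n) :
    desc s j (a + 2 + b) * s (j + b + 1) = s (j + b) * desc s j (a + 2 + b) := by
  have e1 : desc s j (a + 2 + b) = desc s (j + b + 2) a * (s (j + b + 1) * s (j + b)) * desc s j b := by
    rw [desc_add, desc_add, desc_succ, desc_succ, desc_zero, mul_one]
    simp only [add_zero, Nat.add_assoc]
  have c1 := desc_comm_high s n hcomm (j + b + 1) j b (by omega) (by omega)
  have c2 := desc_comm_low s n hcomm (j + b) (j + b + 2) a (by omega) (by omega)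
  have c3 := hbraid (j + b) (by omega)
  rw [e1]
  calc desc s (j + b + 2) a * (s (j + b + 1) * s (j + b)) * desc s j b * s (j + b + 1)
      = desc s (j + b + 2) a * (s (j + b + 1) * s (j + b)) * (desc s j b * s (j + b + 1)) := by
        simp only [mul_assoc]
    _ = desc s (j + b + 2) a * (s (j + b + 1) * s (j + b) * s (j + b + 1)) * desc s j b := by
        rw [c1]; simp only [mul_assoc]
    _ = desc s (j + b + 2) a * (s (j + b) * s (j + b + 1) * s (j + b)) * desc s j b := by
        rw [c3]
    _ = (desc s (j + b + 2) a * s (j + b)) * (s (j + b + 1) * s (j + b)) * desc s j b := by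
        simp only [mul_assoc]
    _ = s (j + b) * (desc s (j + b + 2) a * (s (j + b + 1) * s (j + b)) * desc s j b) := by
        rw [c2]; simp only [mul_assoc]

open Classical in
/-- the sets of normal forms -/
noncomputable def T : ℕ → Finset G
  | 0 => {1}
  | k + 1 => Finset.image₂ (· * ·) (T k)
      ((Finset.range (k + 2)).image (fun j => desc s j (k + 1 - j)))

open Classical in
theorem card_T (k : ℕ) : (T s k).card ≤ (k + 1).factorial := by
  induction k with
  | zero => simp [T]
  | succ k ih =>
    rw [T]
    calc _ ≤ (T s k).card * ((Finset.range (k + 2)).image (fun j => desc s j (k + 1 - j))).card :=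
          Finset.card_image₂_le _ _ _
      _ ≤ (k + 1).factorial * (k + 2) :=
          Nat.mul_le_mul ih (Finset.card_image_le.trans (by simp))
      _ = (k + 1 + 1).factorial := by rw [Nat.factorial_succ (k + 1)]; ring

open Classical in
theorem mem_T_succ (k : ℕ) (x : G) :
    x ∈ T s (k + 1) ↔ ∃ t ∈ T s k, ∃ j, j ≤ k + 1 ∧ x = t * desc s j (k + 1 - j) := by
  rw [T]
  simp only [Finset.mem_image₂, Finset.mem_image, Finset.mem_range]
  constructor
  · rintro ⟨t, ht, _, ⟨j, hj, rfl⟩, rfl⟩
    exact ⟨t, ht, j, by omega, rfl⟩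
  · rintro ⟨t, ht, j, hj, rfl⟩
    exact ⟨t, ht, _, ⟨j, by omega, rfl⟩, rfl⟩

theorem one_mem_T (k : ℕ) : (1 : G) ∈ T s k := by
  induction k with
  | zero => simp [T]
  | succ k ih =>
    rw [mem_T_succ]
    exact ⟨1, ih, k + 1, le_rfl, by simp⟩

include hinv hcomm hbraid in
theorem T_closed (k : ℕ) (hk : k ≤ n) : ∀ t ∈ T s k, ∀ i, i < k → t * s i ∈ T s k := by
  induction k with
  | zero => intro t _ i hi; omega
  | succ k ih =>
    intro t ht i hi
    rw [mem_T_succ] at ht ⊢
    obtain ⟨t', ht', j, hj, rfl⟩ := ht
    have IH := ih (by omega)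
    rcases lt_trichotomy i j with h | h | h
    · rcases Nat.lt_or_ge (i + 1) j with h' | h'
      · refine ⟨t' * s i, IH t' ht' i (by omega), j, hj, ?_⟩
        rw [mul_assoc, desc_comm_low s n hcomm i j _ h' (by omega), mul_assoc]
      · have : j = i + 1 := by omega
        subst this
        refine ⟨t', ht', i, by omega, ?_⟩
        rw [mul_assoc, show k + 1 - i = (k + 1 - (i + 1)) + 1 by omega, desc_succ_right]
    · subst h
      refine ⟨t', ht', i + 1, by omega, ?_⟩
      rw [show k + 1 - i = (k + 1 - (i + 1)) + 1 by omega, desc_succ_right, mul_assoc, mul_assoc,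
        hinv i (by omega), mul_one]
    · refine ⟨t' * s (i - 1), IH t' ht' (i - 1) (by omega), j, hj, ?_⟩
      have := desc_mid s n hcomm hbraid j (k - i) (i - j - 1) (by omega)
      rw [show k - i + 2 + (i - j - 1) = k + 1 - j by omega,
        show j + (i - j - 1) + 1 = i by omega, show j + (i - j - 1) = i - 1 by omega] at this
      rw [mul_assoc, this, mul_assoc]

end abstract

section cox
variable (n : ℕ)

theorem A_apply (i j : Fin n) : (CoxeterMatrix.A n) i j =
    if i = j then 1 else (if (j : ℕ) + 1 = i ∨ (i : ℕ) + 1 = j then 3 else 2) := rfl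

/-- the generators as a sequence -/
noncomputable def sgen : ℕ → (CoxeterMatrix.A n).Group := fun i =>
  if h : i < n then (CoxeterMatrix.A n).toCoxeterSystem.simple ⟨i, h⟩ else 1

theorem sgen_inv (i : ℕ) (hi : i < n) : sgen n i * sgen n i = 1 := by
  simp only [sgen, dif_pos hi]
  exact (CoxeterMatrix.A n).toCoxeterSystem.simple_mul_simple_self _

theorem sgen_comm (i j : ℕ) (hij : i + 1 < j) (hj : j < n) : sgen n i * sgen n j = sgen n j * sgen n i := by
  have hi : i < n := by omega
  simp only [sgen, dif_pos hi, dif_pos hj]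
  have h := (CoxeterMatrix.A n).toCoxeterSystem.simple_mul_simple_pow ⟨i, hi⟩ ⟨j, hj⟩
  have hM : (CoxeterMatrix.A n) ⟨i, hi⟩ ⟨j, hj⟩ = 2 := by
    rw [A_apply, if_neg (by simp [Fin.ext_iff]; omega), if_neg (by simp; omega)]
  rw [hM, pow_two] at h
  have h1 := (CoxeterMatrix.A n).toCoxeterSystem.simple_mul_simple_self ⟨i, hi⟩
  have h2 := (CoxeterMatrix.A n).toCoxeterSystem.simple_mul_simple_self ⟨j, hj⟩
  generalize (CoxeterMatrix.A n).toCoxeterSystem.simple ⟨i, hi⟩ = a at *
  generalize (CoxeterMatrix.A n).toCoxeterSystem.simple ⟨j, hj⟩ = b at *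
  symm
  calc b * a = (a * b * (a * b)) * (b * a) := by rw [h, one_mul]
    _ = a * b * (a * (b * b) * a) := by simp only [mul_assoc]
    _ = a * b := by rw [h2, mul_one, h1, mul_one]

theorem sgen_braid (i : ℕ) (hi : i + 1 < n) :
    sgen n i * sgen n (i + 1) * sgen n i = sgen n (i + 1) * sgen n i * sgen n (i + 1) := by
  have hi' : i < n := by omega
  simp only [sgen, dif_pos hi, dif_pos hi']
  have h := (CoxeterMatrix.A n).toCoxeterSystem.simple_mul_simple_pow ⟨i, hi'⟩ ⟨i + 1, hi⟩
  have hM : (CoxeterMatrix.A n) ⟨i, hi'⟩ ⟨i + 1, hi⟩ = 3 := by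
    rw [A_apply, if_neg (by simp [Fin.ext_iff]), if_pos (by simp)]
  rw [hM, pow_succ, pow_two] at h
  have h1 := (CoxeterMatrix.A n).toCoxeterSystem.simple_mul_simple_self ⟨i, hi'⟩
  have h2 := (CoxeterMatrix.A n).toCoxeterSystem.simple_mul_simple_self ⟨i + 1, hi⟩
  generalize (CoxeterMatrix.A n).toCoxeterSystem.simple ⟨i, hi'⟩ = a at *
  generalize (CoxeterMatrix.A n).toCoxeterSystem.simple ⟨i + 1, hi⟩ = b at *
  calc a * b * a = a * b * a * (b * a * b * (b * a * b)) := by
        rw [show b * a * b * (b * a * b) = b * a * (b * b) * a * b by simp only [mul_assoc], h2, mul_one,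
          show b * a * a * b = b * (a * a) * b by simp only [mul_assoc], h1, mul_one, h2, mul_one]
    _ = (a * b * (a * b) * (a * b)) * (b * a * b) := by simp only [mul_assoc]
    _ = b * a * b := by rw [h, one_mul]

theorem mem_T_all (w : (CoxeterMatrix.A n).Group) : w ∈ T (sgen n) n := by
  refine (CoxeterMatrix.A n).toCoxeterSystem.simple_induction_right w (one_mem_T _ _) ?_
  intro w i hw
  have := T_closed (sgen n) n (sgen_inv n) (sgen_comm n) (sgen_braid n) n le_rfl w hw i.val i.isLt
  simpa [sgen] using this

theorem finite_W : Finite (CoxeterMatrix.A n).Group := by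
  apply Set.finite_univ_iff.mp
  exact Set.Finite.subset (T (sgen n) n).finite_toSet (fun w _ => mem_T_all n w)

theorem card_W_le : Nat.card (CoxeterMatrix.A n).Group ≤ (n + 1).factorial := by
  have := finite_W n
  have h1 : Nat.card (CoxeterMatrix.A n).Group ≤ Nat.card (T (sgen n) n) :=
    Nat.card_le_card_of_injective (fun w => (⟨w, mem_T_all n w⟩ : T (sgen n) n))
      (fun a b h => by simpa using h)
  have h2 : Nat.card (T (sgen n) n) = (T (sgen n) n).card := by
    rw [Nat.card_eq_fintype_card, Fintype.card_coe]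
  rw [h2] at h1
  exact h1.trans (card_T _ _)

/-- the adjacent transpositions -/
def fswap (i : Fin n) : Equiv.Perm (Fin (n + 1)) := Equiv.swap i.castSucc i.succ

theorem swap_cube {α : Type*} [DecidableEq α] {x y z : α} (hxy : x ≠ y) (hxz : x ≠ z) (hyz : y ≠ z) :
    (Equiv.swap x y * Equiv.swap y z) ^ 3 = 1 := by
  have h1 : Equiv.swap y z * Equiv.swap x y * Equiv.swap y z = Equiv.swap z x :=
    Equiv.swap_mul_swap_mul_swap hxy hxz
  have h2 : Equiv.swap y x * Equiv.swap z y * Equiv.swap y x = Equiv.swap x z :=
    Equiv.swap_mul_swap_mul_swap hyz.symm hxz.symm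
  rw [Equiv.swap_comm y x, Equiv.swap_comm z y] at h2
  calc (Equiv.swap x y * Equiv.swap y z) ^ 3
      = (Equiv.swap x y * Equiv.swap y z * Equiv.swap x y) *
          (Equiv.swap y z * Equiv.swap x y * Equiv.swap y z) := by
        simp only [pow_succ, pow_zero, one_mul, mul_assoc]
    _ = 1 := by rw [h1, h2, Equiv.swap_comm z x, Equiv.swap_mul_self]

theorem cube_comm {G : Type*} [Group G] (a b : G) (h : (a * b) ^ 3 = 1) : (b * a) ^ 3 = 1 := by
  have : (b * a) ^ 3 = a⁻¹ * (a * b) ^ 3 * a := by
    simp only [pow_succ, pow_zero, one_mul, mul_assoc, inv_mul_cancel_left]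
  rw [this, h, mul_one, inv_mul_cancel]

theorem fswap_liftable : (CoxeterMatrix.A n).IsLiftable (fswap n) := by
  intro i j
  rw [A_apply]
  by_cases hij : i = j
  · subst hij
    simp [fswap]
  rw [if_neg hij]
  have hij' : (i : ℕ) ≠ j := fun h => hij (Fin.ext h)
  by_cases h : (j : ℕ) + 1 = i ∨ (i : ℕ) + 1 = j
  · rw [if_pos h]
    rcases h with h | h
    · apply cube_comm
      have e : j.succ = i.castSucc := Fin.ext (by simp [h])
      simp only [fswap]
      rw [e]
      apply swap_cube
      · intro h'; have := congrArg Fin.val h'; simp at this; omega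
      · intro h'; have := congrArg Fin.val h'; simp at this; omega
      · intro h'; have := congrArg Fin.val h'; simp at this
    · have e : i.succ = j.castSucc := Fin.ext (by simp [h])
      simp only [fswap]
      rw [e]
      apply swap_cube
      · intro h'; have := congrArg Fin.val h'; simp at this; omega
      · intro h'; have := congrArg Fin.val h'; simp at this; omega
      · intro h'; have := congrArg Fin.val h'; simp at this
  · rw [if_neg h]
    push Not at h
    have hd : Equiv.Perm.Disjoint (fswap n i) (fswap n j) := by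
      apply Equiv.Perm.disjoint_swap_swap
      simp only [List.nodup_cons, List.mem_cons, List.not_mem_nil, or_false, not_or,
        List.nodup_nil, and_true, not_false_eq_true, Fin.ext_iff, Fin.val_castSucc, Fin.val_succ]
      omega
    have hc := hd.commute.eq
    rw [pow_two]
    calc fswap n i * fswap n j * (fswap n i * fswap n j)
        = fswap n i * (fswap n j * fswap n i) * fswap n j := by simp only [mul_assoc]
      _ = 1 := by
        rw [← hc]
        simp [fswap]

/-- the canonical hom onto the symmetric group -/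
noncomputable def phi : (CoxeterMatrix.A n).Group →* Equiv.Perm (Fin (n + 1)) :=
  (CoxeterMatrix.A n).toCoxeterSystem.lift ⟨fswap n, fswap_liftable n⟩

theorem phi_simple (i : Fin n) : phi n ((CoxeterMatrix.A n).toCoxeterSystem.simple i) = fswap n i :=
  (CoxeterMatrix.A n).toCoxeterSystem.lift_apply_simple (fswap_liftable n) i

theorem phi_surjective : Function.Surjective (phi n) := by
  rw [← MonoidHom.mrange_eq_top, eq_top_iff, ← Equiv.Perm.mclosure_swap_castSucc_succ n,
    Submonoid.closure_le]
  rintro _ ⟨i, rfl⟩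
  exact ⟨_, phi_simple n i⟩

theorem phi_bijective : Function.Bijective (phi n) := by
  have := finite_W n
  apply (phi_surjective n).bijective_of_nat_card_le
  refine (card_W_le n).trans ?_
  rw [Nat.card_eq_fintype_card, Fintype.card_perm, Fintype.card_fin]

end cox


/-- The Coxeter presentation of the symmetric group: for every n, the symmetric group on n+1 letters is the Coxeter group of type A_n with the adjacent transpositions (i, i+1) as simple reflections; that is, it is presented by generators r_1, …, r_n subject to r_i² = 1, (r_i r_j)² = 1 for |i − j| > 1 and (r_i r_{i+1})³ = 1, with r_i mapping to (i, i+1). -/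
theorem result (n : ℕ) :
    ∃ cs : CoxeterSystem (CoxeterMatrix.A n) (Equiv.Perm (Fin (n + 1))), ∀ i : Fin n, cs.simple i = Equiv.swap i.castSucc i.succ := by
  refine ⟨⟨(MulEquiv.ofBijective (phi n) (phi_bijective n)).symm⟩, ?_⟩
  intro i
  exact phi_simple n i


end Cfsg.Agent.S2530
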