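import Cfsg.Statements.S0444
-- import your own Cfsg.Agent.* helpers here

set_option autoImplicit false
open Cfsg

namespace Cfsg.Agent.S0444


theorem sq_one {G : Type*} [Group G] {d : G} (h : orderOf d = 2) : d * d = 1 := by
  rw [← pow_two, ← h, pow_orderOf_eq_one]

theorem braid_of_cube {G : Type*} [Group G] (e a : G) (ha : a * a = 1) (he : e * e = 1)
    (h : (e * a) ^ 3 = 1) : e * a * e = a * e * a := by
  simp only [pow_succ, pow_zero, one_mul] at h
  grind

theorem comm_of_sq {G : Type*} [Group G] (e a : G) (ha : a * a = 1) (he : e * e = 1)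
    (h : (e * a) ^ 2 = 1) : e * a = a * e := by
  simp only [pow_succ, pow_zero, one_mul] at h
  grind

/-- the six elements of the symmetric group of degree 3 as words in two swaps -/
def tab : Fin 6 → Equiv.Perm (Fin 3) :=
  ![1, Equiv.swap 0 1, Equiv.swap 1 2, Equiv.swap 0 1 * Equiv.swap 1 2,
    Equiv.swap 1 2 * Equiv.swap 0 1, Equiv.swap 0 1 * Equiv.swap 1 2 * Equiv.swap 0 1]

/-- the multiplication table -/
def M : Fin 6 → Fin 6 → Fin 6 :=
  ![![0,1,2,3,4,5], ![1,0,3,2,5,4], ![2,4,0,5,1,3], ![3,5,1,4,0,2], ![4,2,5,0,3,1],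
    ![5,3,4,1,2,0]]

theorem tab_mul : ∀ i j, tab i * tab j = tab (M i j) := by decide

theorem tab_bij : Function.Bijective tab := by decide

/-- the corresponding six words in a group -/
def val {G : Type*} [Group G] (d e : G) : Fin 6 → G :=
  ![1, d, e, d * e, e * d, d * e * d]

theorem val_mul {G : Type*} [Group G] (d e : G) (hd : d * d = 1) (he : e * e = 1)
    (hb : e * d * e = d * e * d) : ∀ i j, val d e i * val d e j = val d e (M i j) := by
  have hd' : ∀ x, d * (d * x) = x := fun x => by rw [← mul_assoc, hd, one_mul]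
  have he' : ∀ x, e * (e * x) = x := fun x => by rw [← mul_assoc, he, one_mul]
  have hb1 : e * (d * e) = d * (e * d) := by simpa only [mul_assoc] using hb
  have hb' : ∀ x, e * (d * (e * x)) = d * (e * (d * x)) := fun x => by
    rw [← mul_assoc d, ← mul_assoc e, ← mul_assoc e, hb]; simp only [mul_assoc]
  intro i j
  fin_cases i <;> fin_cases j <;>
    simp [val, M, mul_assoc, hd, hd', he, he', hb1, hb']


/-- `tab` as an equivalence -/
noncomputable def tabEquiv : Fin 6 ≃ Equiv.Perm (Fin 3) := Equiv.ofBijective tab tab_bij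

theorem tabEquiv_apply (i : Fin 6) : tabEquiv i = tab i := rfl

/-- the homomorphism from the symmetric group of degree 3 -/
noncomputable def phi {G : Type*} [Group G] (d e : G) (hd : d * d = 1) (he : e * e = 1)
    (hb : e * d * e = d * e * d) : Equiv.Perm (Fin 3) →* G where
  toFun σ := val d e (tabEquiv.symm σ)
  map_one' := by
    have : tabEquiv.symm 1 = 0 := by rw [Equiv.symm_apply_eq]; rfl
    rw [this]; rfl
  map_mul' σ τ := by
    obtain ⟨i, rfl⟩ := tabEquiv.surjective σ
    obtain ⟨j, rfl⟩ := tabEquiv.surjective τ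
    have : tabEquiv i * tabEquiv j = tabEquiv (M i j) := tab_mul i j
    rw [this]
    simp only [Equiv.symm_apply_apply]
    exact (val_mul d e hd he hb i j).symm

theorem phi_tab {G : Type*} [Group G] (d e : G) (hd : d * d = 1) (he : e * e = 1)
    (hb : e * d * e = d * e * d) (i : Fin 6) : phi d e hd he hb (tab i) = val d e i := by
  change val d e (tabEquiv.symm (tabEquiv i)) = _
  rw [Equiv.symm_apply_apply]

theorem val_eq_one {G : Type*} [Group G] (d e : G) (hd : d * d = 1) (he : e * e = 1)
    (hne : ¬ d * e = e * d) : ∀ i, val d e i = 1 → i = 0 := by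
  have hd' : ∀ x, d * (d * x) = x := fun x => by rw [← mul_assoc, hd, one_mul]
  have he' : ∀ x, e * (e * x) = x := fun x => by rw [← mul_assoc, he, one_mul]
  intro i hi
  fin_cases i
  · rfl
  · exfalso; apply hne
    have : d = 1 := hi
    rw [this, one_mul, mul_one]
  · exfalso; apply hne
    have : e = 1 := hi
    rw [this, one_mul, mul_one]
  · exfalso; apply hne
    have h1 : d * e = 1 := hi
    have h2 : e = d := by
      have := congrArg (fun x => d * x) h1
      simp only [hd', mul_one] at this
      exact this
    rw [h2]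
  · exfalso; apply hne
    have h1 : e * d = 1 := hi
    have h2 : d = e := by
      have := congrArg (fun x => e * x) h1
      simp only [he', mul_one] at this
      exact this
    rw [h2]
  · exfalso; apply hne
    have h1 : d * e * d = 1 := hi
    have h2 : e = 1 := by
      have := congrArg (fun x => d * (x * d)) h1
      simp only [mul_assoc, hd', hd, mul_one, one_mul] at this
      exact this
    rw [h2, one_mul, mul_one]

/-- Two members of a set of 3-transpositions which do not commute generate a subgroup isomorphic to the symmetric group on three letters. -/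
theorem result {G : Type*} [Group G] {E : Set G} (hE : Cfsg.IsThreeTranspositionSet E) {d e : G} (hd : d ∈ E) (he : e ∈ E) (h : ¬ Commute d e) : Nonempty (Subgroup.closure ({d, e} : Set G) ≃* Equiv.Perm (Fin 3)) := by
  obtain ⟨hord, h3⟩ := hE
  have hd2 := sq_one (hord d hd)
  have he2 := sq_one (hord e he)
  have hb : e * d * e = d * e * d := by
    rcases h3 e he d hd with h2 | h2
    · exact absurd (comm_of_sq e d hd2 he2 h2).symm h
    · exact braid_of_cube e d hd2 he2 h2
  have hne : ¬ d * e = e * d := h
  let φ := phi d e hd2 he2 hb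
  have hinj : Function.Injective φ := by
    rw [injective_iff_map_eq_one]
    intro σ hσ
    obtain ⟨i, rfl⟩ := tab_bij.2 σ
    rw [phi_tab] at hσ
    rw [val_eq_one d e hd2 he2 hne i hσ]; rfl
  have hrange : φ.range = Subgroup.closure ({d, e} : Set G) := by
    apply le_antisymm
    · rintro _ ⟨σ, rfl⟩
      obtain ⟨i, rfl⟩ := tab_bij.2 σ
      rw [phi_tab]
      have hdm : d ∈ Subgroup.closure ({d, e} : Set G) := Subgroup.subset_closure (by simp)
      have hem : e ∈ Subgroup.closure ({d, e} : Set G) := Subgroup.subset_closure (by simp)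
      fin_cases i
      · exact Subgroup.one_mem _
      · exact hdm
      · exact hem
      · exact Subgroup.mul_mem _ hdm hem
      · exact Subgroup.mul_mem _ hem hdm
      · exact Subgroup.mul_mem _ (Subgroup.mul_mem _ hdm hem) hdm
    · rw [Subgroup.closure_le]
      rintro x hx
      rcases hx with rfl | rfl
      · exact ⟨tab 1, phi_tab _ _ hd2 he2 hb 1⟩
      · exact ⟨tab 2, phi_tab _ _ hd2 he2 hb 2⟩
  exact ⟨(MulEquiv.subgroupCongr hrange.symm).trans (MonoidHom.ofInjective hinj).symm⟩

end Cfsg.Agent.S0444
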