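import Cfsg.Statements.S1276
import Cfsg.Agent.Lib.Helper22.PComponents2

set_option autoImplicit false
open Cfsg
open scoped commutatorElement

namespace Cfsg.Agent.S1276


open Cfsg.Agent.Lib.Helper22

/-- Let K be a 2-component of the finite group X. Then K is quasisimple if and only if ⁅K, O(K)⁆ = 1. -/
theorem result {X : Type*} [Group X] [Finite X] (K : Subgroup X) (hK : Cfsg.IsPComponent 2 K) : Cfsg.IsQuasisimple ↥K ↔ ⁅K, ((Cfsg.oddCore ↥K).map K.subtype)⁆ = ⊥ := by
  haveI : Fact (Nat.Prime 2) := ⟨Nat.prime_two⟩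
  constructor
  · intro hq
    rcases quasisimple_normal_le_center_or_eq_top hq (pPrimeCore 2 K) with h | h
    · rw [eq_bot_iff, Subgroup.commutator_le]
      rintro k hk _ ⟨n, hn, rfl⟩
      have hnc := Subgroup.mem_center_iff.mp (h hn) ⟨k, hk⟩
      rw [Subgroup.mem_bot, commutatorElement_eq_one_iff_mul_comm]
      exact congrArg Subtype.val hnc
    · exfalso
      have hc : (Nat.card (pPrimeCore 2 K)).Coprime 2 := pPrimeCore_card_coprime 2
      rw [h, Subgroup.card_top] at hc
      have h2 : 2 ∣ Nat.card K := pComponent_dvd_card 2 hK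
      have : 2 ∣ 1 := by
        have := Nat.dvd_gcd h2 (dvd_refl 2)
        rwa [hc] at this
      omega
  · intro h
    have hperf : Group.IsPerfect K := Subgroup.isPerfect_iff.mpr (pComponent_commutator_self 2 hK)
    have hN : pPrimeCore 2 K ≤ Subgroup.center K := by
      intro n hn
      rw [Subgroup.mem_center_iff]
      rintro ⟨k, hk⟩
      have h1 : ⁅k, (n : X)⁆ ∈ ⁅K, (pPrimeCore 2 K).map K.subtype⁆ :=
        Subgroup.commutator_mem_commutator hk ⟨n, hn, rfl⟩
      rw [h, Subgroup.mem_bot, commutatorElement_eq_one_iff_mul_comm] at h1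
      exact Subtype.ext h1
    exact isQuasisimple_of_quotient_central hperf (pPrimeCore 2 K) hN
      (pComponent_quotient_isQuasisimple 2 hK)

end Cfsg.Agent.S1276
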