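import Cfsg.Statements.S5357
-- import your own Cfsg.Agent.* helpers here

set_option autoImplicit false
open scoped MatrixGroups
open Cfsg

namespace Cfsg.Agent.S5357



/-- Transfer of the class property to the subgroup generated by the class. -/
theorem class_in_closure {I : Type*} [Group I] (DI : Set I) (h3 : Cfsg.IsThreeTranspositionSet DI)
    (hne : DI.Nonempty)
    (hconn : ∀ x ∈ DI, ∀ y ∈ DI, ∃ h ∈ Subgroup.closure DI, h * x * h⁻¹ = y)
    (hstab : ∀ h ∈ Subgroup.closure DI, ∀ x ∈ DI, h * x * h⁻¹ ∈ DI) :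
    Cfsg.IsThreeTranspositionClass {g : Subgroup.closure DI | (g : I) ∈ DI} := by
  refine ⟨⟨?_, ?_⟩, ?_, ?_⟩
  · intro d hd
    rw [← h3.1 (d : I) hd]
    exact Subgroup.orderOf_mk _ _
  · intro d hd e he
    rcases h3.2 _ hd _ he with h | h
    · left; apply Subtype.ext; simpa using h
    · right; apply Subtype.ext; simpa using h
  · obtain ⟨d, hd⟩ := hne
    refine ⟨⟨d, Subgroup.subset_closure hd⟩, hd, ?_⟩
    ext g
    constructor
    · intro hg
      obtain ⟨h, hh, hhg⟩ := hconn d hd g hg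
      show IsConj _ _
      rw [isConj_iff]
      exact ⟨⟨h, hh⟩, Subtype.ext hhg⟩
    · intro hg
      have hg : IsConj _ g := hg
      rw [isConj_iff] at hg
      obtain ⟨h, hh⟩ := hg
      have : (g : I) = (h : I) * d * (h : I)⁻¹ := by
        rw [← hh]; rfl
      show (g : I) ∈ DI
      rw [this]
      exact hstab _ h.2 _ hd
  · exact Subgroup.closure_closure_coe_preimage




open Matrix

section refl
variable {n : ℕ} (Q : QuadraticForm (ZMod 3) (Fin n → ZMod 3))


theorem polarVec_dot (v x : Fin n → ZMod 3) :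
    Cfsg.polarVec (⇑Q) v ⬝ᵥ x = QuadraticMap.polar (⇑Q) v x := by
  have hx : x = ∑ j, x j • (Pi.single j 1 : Fin n → ZMod 3) := by
    ext i
    simp [Finset.sum_apply, Pi.single_apply]
  conv_rhs => rw [hx]
  rw [← QuadraticMap.polarBilin_apply_apply, map_sum]
  simp only [dotProduct, Cfsg.polarVec, map_smul, QuadraticMap.polarBilin_apply_apply, smul_eq_mul]
  apply Finset.sum_congr rfl
  intro j _
  ring

/-- action of the reflection matrix on a vector -/
theorem refl_mulVec (v x : Fin n → ZMod 3) :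
    Cfsg.reflectionMatrix (⇑Q) v *ᵥ x = x - ((Q v)⁻¹ * QuadraticMap.polar (⇑Q) v x) • v := by
  unfold Cfsg.reflectionMatrix
  rw [Matrix.sub_mulVec, Matrix.one_mulVec, Matrix.smul_mulVec, Matrix.vecMulVec_mulVec, polarVec_dot]
  simp [mul_smul]

/-- matrices are determined by their action -/
theorem mat_ext {A C : Matrix (Fin n) (Fin n) (ZMod 3)} (h : ∀ x, A *ᵥ x = C *ᵥ x) : A = C := by
  apply Matrix.toLin'.injective
  apply LinearMap.ext
  intro x
  simp [h x]

theorem three_eq_zero' : (3 : ZMod 3) = 0 := by decide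

theorem refl_mul_self (v : Fin n → ZMod 3) (hv : Q v ≠ 0) :
    Cfsg.reflectionMatrix (⇑Q) v * Cfsg.reflectionMatrix (⇑Q) v = 1 := by
  apply mat_ext
  intro x
  rw [← Matrix.mulVec_mulVec, refl_mulVec, refl_mulVec, Matrix.one_mulVec]
  simp only [QuadraticMap.polar_sub_right, QuadraticMap.polar_smul_right, QuadraticMap.polar_self, smul_eq_mul]
  have : (Q v)⁻¹ * (QuadraticMap.polar (⇑Q) v x - (Q v)⁻¹ * QuadraticMap.polar (⇑Q) v x * (2 • Q v)) = - ((Q v)⁻¹ * QuadraticMap.polar (⇑Q) v x) := by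
    field_simp
    ring
  rw [this]
  module

theorem refl_isometry (v : Fin n → ZMod 3) (hv : Q v ≠ 0) (x : Fin n → ZMod 3) :
    Q (Cfsg.reflectionMatrix (⇑Q) v *ᵥ x) = Q x := by
  rw [refl_mulVec, sub_eq_add_neg, ← neg_smul, QuadraticMap.map_add (⇑Q), QuadraticMap.map_smul,
    QuadraticMap.polar_smul_right, QuadraticMap.polar_comm (⇑Q) x v]
  simp only [smul_eq_mul]
  field_simp
  ring

/-- an invertible matrix preserving `Q` preserves the polar form -/
theorem polar_isometry {g : Matrix (Fin n) (Fin n) (ZMod 3)} (hg : ∀ x, Q (g *ᵥ x) = Q x)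
    (x y : Fin n → ZMod 3) : QuadraticMap.polar (⇑Q) (g *ᵥ x) (g *ᵥ y) = QuadraticMap.polar (⇑Q) x y := by
  unfold QuadraticMap.polar
  rw [← Matrix.mulVec_add, hg, hg, hg]

/-- conjugating a reflection by an isometry -/
theorem conj_refl {g g' : Matrix (Fin n) (Fin n) (ZMod 3)} (hgg' : g * g' = 1)
    (hg : ∀ x, Q (g *ᵥ x) = Q x) (v : Fin n → ZMod 3) :
    g * Cfsg.reflectionMatrix (⇑Q) v * g' = Cfsg.reflectionMatrix (⇑Q) (g *ᵥ v) := by
  apply mat_ext
  intro x
  rw [← Matrix.mulVec_mulVec, ← Matrix.mulVec_mulVec, refl_mulVec, refl_mulVec, hg,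
    Matrix.mulVec_sub, Matrix.mulVec_smul, Matrix.mulVec_mulVec, hgg', Matrix.one_mulVec]
  have : QuadraticMap.polar (⇑Q) (g *ᵥ v) x = QuadraticMap.polar (⇑Q) v (g' *ᵥ x) := by
    have h := polar_isometry Q hg v (g' *ᵥ x)
    rw [Matrix.mulVec_mulVec, hgg', Matrix.one_mulVec] at h
    exact h
  rw [this]

theorem refl_neg (v : Fin n → ZMod 3) :
    Cfsg.reflectionMatrix (⇑Q) (-v) = Cfsg.reflectionMatrix (⇑Q) v := by
  apply mat_ext
  intro x
  rw [refl_mulVec, refl_mulVec, QuadraticMap.map_neg, QuadraticMap.polar_neg_left]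
  module

theorem refl_mulVec_self (v : Fin n → ZMod 3) (hv : Q v ≠ 0) :
    Cfsg.reflectionMatrix (⇑Q) v *ᵥ v = -v := by
  rw [refl_mulVec, QuadraticMap.polar_self]
  have : (Q v)⁻¹ * (2 • Q v) = 2 := by
    simp only [nsmul_eq_mul, Nat.cast_ofNat]
    field_simp
  rw [this]
  module

/-- the reflection as an element of the isometry group -/
def reflI (v : Fin n → ZMod 3) (hv : Q v ≠ 0) : Cfsg.isometryGroup (ZMod 3) (⇑Q) :=
  ⟨⟨Cfsg.reflectionMatrix (⇑Q) v, Cfsg.reflectionMatrix (⇑Q) v, refl_mul_self Q v hv, refl_mul_self Q v hv⟩,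
    fun u _ => refl_isometry Q v hv u⟩

theorem reflI_coe (v : Fin n → ZMod 3) (hv : Q v ≠ 0) :
    (((reflI Q v hv : Cfsg.isometryGroup (ZMod 3) (⇑Q)) : GL (Fin n) (ZMod 3)) : Matrix (Fin n) (Fin n) (ZMod 3)) =
      Cfsg.reflectionMatrix (⇑Q) v := rfl

theorem isometry_ext {g h : Cfsg.isometryGroup (ZMod 3) (⇑Q)}
    (e : ((g : GL (Fin n) (ZMod 3)) : Matrix (Fin n) (Fin n) (ZMod 3)) = ((h : GL (Fin n) (ZMod 3)) : Matrix (Fin n) (Fin n) (ZMod 3))) :
    g = h := Subtype.ext (Units.ext e)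

theorem isometry_apply (g : Cfsg.isometryGroup (ZMod 3) (⇑Q)) (x : Fin n → ZMod 3) :
    Q (((g : GL (Fin n) (ZMod 3)) : Matrix (Fin n) (Fin n) (ZMod 3)) *ᵥ x) = Q x := g.2 x x

theorem reflI_mul_self (v : Fin n → ZMod 3) (hv : Q v ≠ 0) : reflI Q v hv * reflI Q v hv = 1 := by
  apply isometry_ext
  exact refl_mul_self Q v hv

theorem reflI_ne_one (v : Fin n → ZMod 3) (hv : Q v ≠ 0) : reflI Q v hv ≠ 1 := by
  intro h
  have h1 : Cfsg.reflectionMatrix (⇑Q) v = 1 := by
    have := congrArg (fun g : Cfsg.isometryGroup (ZMod 3) (⇑Q) =>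
      ((g : GL (Fin n) (ZMod 3)) : Matrix (Fin n) (Fin n) (ZMod 3))) h
    exact this
  have h2 := refl_mulVec_self Q v hv
  rw [h1, Matrix.one_mulVec] at h2
  apply hv
  have hv0 : v = 0 := by
    have h3 : (2 : ZMod 3) • v = 0 := by
      rw [two_smul]
      nth_rewrite 1 [h2]
      exact neg_add_cancel v
    have h4 : (2 : ZMod 3) • ((2 : ZMod 3) • v) = v := by
      rw [smul_smul]
      have : (2 : ZMod 3) * 2 = 1 := by decide
      rw [this, one_smul]
    rw [← h4, h3, smul_zero]
  rw [hv0]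
  exact QuadraticMap.map_zero Q

theorem reflI_order (v : Fin n → ZMod 3) (hv : Q v ≠ 0) : orderOf (reflI Q v hv) = 2 := by
  apply orderOf_eq_prime
  · rw [pow_two]; exact reflI_mul_self Q v hv
  · exact reflI_ne_one Q v hv

theorem reflI_inv (v : Fin n → ZMod 3) (hv : Q v ≠ 0) : (reflI Q v hv)⁻¹ = reflI Q v hv :=
  inv_eq_of_mul_eq_one_right (reflI_mul_self Q v hv)

theorem conj_reflI (g : Cfsg.isometryGroup (ZMod 3) (⇑Q)) (v : Fin n → ZMod 3) (hv : Q v ≠ 0) :
    g * reflI Q v hv * g⁻¹ = reflI Q (((g : GL (Fin n) (ZMod 3)) : Matrix (Fin n) (Fin n) (ZMod 3)) *ᵥ v)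
      (by rw [isometry_apply]; exact hv) := by
  apply isometry_ext
  have hgg' : ((g : GL (Fin n) (ZMod 3)) : Matrix (Fin n) (Fin n) (ZMod 3)) *
      (((g⁻¹ : Cfsg.isometryGroup (ZMod 3) (⇑Q)) : GL (Fin n) (ZMod 3)) : Matrix (Fin n) (Fin n) (ZMod 3)) = 1 := by
    have h1 : ((g⁻¹ : Cfsg.isometryGroup (ZMod 3) (⇑Q)) : GL (Fin n) (ZMod 3)) = (g : GL (Fin n) (ZMod 3))⁻¹ := rfl
    rw [h1]
    exact Units.mul_inv _
  have := conj_refl Q hgg' (isometry_apply Q g) v
  rw [reflI_coe, ← this]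
  rfl

theorem reflI_congr {v w : Fin n → ZMod 3} (hv : Q v ≠ 0) (hw : Q w ≠ 0) (h : v = w ∨ v = -w) :
    reflI Q v hv = reflI Q w hw := by
  apply isometry_ext
  rw [reflI_coe, reflI_coe]
  rcases h with h | h
  · rw [h]
  · rw [h, refl_neg]

theorem reflI_comm_of_orth (u v : Fin n → ZMod 3) (hu : Q u ≠ 0) (hv : Q v ≠ 0)
    (h : QuadraticMap.polar (⇑Q) u v = 0) : reflI Q u hu * reflI Q v hv = reflI Q v hv * reflI Q u hu := by
  have h1 := conj_reflI Q (reflI Q u hu) v hv
  have h2 : ((reflI Q u hu : Cfsg.isometryGroup (ZMod 3) (⇑Q)) : GL (Fin n) (ZMod 3)).1 *ᵥ v = v := by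
    rw [reflI_coe, refl_mulVec, h, mul_zero, zero_smul, sub_zero]
  have h3 : reflI Q u hu * reflI Q v hv * (reflI Q u hu)⁻¹ = reflI Q v hv := by
    rw [h1]
    apply reflI_congr
    left
    exact h2
  calc reflI Q u hu * reflI Q v hv = reflI Q u hu * reflI Q v hv * (reflI Q u hu)⁻¹ * reflI Q u hu := by group
    _ = reflI Q v hv * reflI Q u hu := by rw [h3]

theorem zmod3_cases : ∀ a : ZMod 3, a ≠ 0 → a = 1 ∨ a = -1 := by decide

theorem reflI_braid (u v : Fin n → ZMod 3) (hu : Q u ≠ 0) (huv : Q u = Q v)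
    (h : QuadraticMap.polar (⇑Q) u v ≠ 0) :
    reflI Q u hu * reflI Q v (huv ▸ hu) * reflI Q u hu = reflI Q v (huv ▸ hu) * reflI Q u hu * reflI Q v (huv ▸ hu) := by
  have hv : Q v ≠ 0 := huv ▸ hu
  have h1 := conj_reflI Q (reflI Q u hu) v hv
  have h2 := conj_reflI Q (reflI Q v hv) u hu
  rw [reflI_inv] at h1 h2
  rw [h1, h2]
  apply reflI_congr
  rw [reflI_coe, reflI_coe, refl_mulVec, refl_mulVec, QuadraticMap.polar_comm (⇑Q) v u, ← huv]
  have hε : (Q u)⁻¹ * QuadraticMap.polar (⇑Q) u v ≠ 0 := mul_ne_zero (inv_ne_zero hu) h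
  rcases zmod3_cases _ hε with h3 | h3
  · right
    rw [h3]
    module
  · left
    rw [h3]
    module

theorem reflI_cube (u v : Fin n → ZMod 3) (hu : Q u ≠ 0) (huv : Q u = Q v)
    (h : QuadraticMap.polar (⇑Q) u v ≠ 0) :
    (reflI Q u hu * reflI Q v (huv ▸ hu)) ^ 3 = 1 := by
  have hv : Q v ≠ 0 := huv ▸ hu
  have hb := reflI_braid Q u v hu huv h
  have hu2 := reflI_mul_self Q u hu
  have hv2 := reflI_mul_self Q v hv
  calc (reflI Q u hu * reflI Q v hv) ^ 3
      = (reflI Q u hu * reflI Q v hv * reflI Q u hu) * (reflI Q v hv * reflI Q u hu * reflI Q v hv) := by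
        rw [pow_succ, pow_two]; group
    _ = (reflI Q u hu * reflI Q v hv * reflI Q u hu) * (reflI Q u hu * reflI Q v hv * reflI Q u hu) := by rw [hb]
    _ = reflI Q u hu * reflI Q v hv * (reflI Q u hu * reflI Q u hu) * reflI Q v hv * reflI Q u hu := by group
    _ = reflI Q u hu * (reflI Q v hv * reflI Q v hv) * reflI Q u hu := by rw [hu2]; group
    _ = 1 := by rw [hv2, mul_one, hu2]

/-- if `B(u,v) ≠ 0` the two reflections are conjugate under the product of the two -/
theorem reflI_conj_of_not_orth (u v : Fin n → ZMod 3) (hu : Q u ≠ 0) (huv : Q u = Q v)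
    (h : QuadraticMap.polar (⇑Q) u v ≠ 0) :
    (reflI Q u hu * reflI Q v (huv ▸ hu)) * reflI Q u hu * (reflI Q u hu * reflI Q v (huv ▸ hu))⁻¹ =
      reflI Q v (huv ▸ hu) := by
  have hv : Q v ≠ 0 := huv ▸ hu
  have hb := reflI_braid Q u v hu huv h
  have hu2 := reflI_mul_self Q u hu
  have hv2 := reflI_mul_self Q v hv
  rw [_root_.mul_inv_rev, reflI_inv, reflI_inv]
  calc reflI Q u hu * reflI Q v hv * reflI Q u hu * (reflI Q v hv * reflI Q u hu)
      = reflI Q u hu * (reflI Q v hv * reflI Q u hu * reflI Q v hv) * reflI Q u hu := by group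
    _ = reflI Q u hu * (reflI Q u hu * reflI Q v hv * reflI Q u hu) * reflI Q u hu := by rw [hb]
    _ = (reflI Q u hu * reflI Q u hu) * reflI Q v hv * (reflI Q u hu * reflI Q u hu) := by group
    _ = reflI Q v hv := by rw [hu2, one_mul, mul_one]

end refl



section exist
variable {n : ℕ} (Q : QuadraticForm (ZMod 3) (Fin n → ZMod 3))

theorem two_ne_zero_zmod3 : (2 : ZMod 3) ≠ 0 := by decide

theorem polar_self_ne_zero {w : Fin n → ZMod 3} (hw : Q w ≠ 0) : QuadraticMap.polar (⇑Q) w w ≠ 0 := by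
  rw [QuadraticMap.polar_self]
  simp only [nsmul_eq_mul, Nat.cast_ofNat]
  exact mul_ne_zero two_ne_zero_zmod3 hw

/-- Given `k < n` pairwise orthogonal non-singular vectors there is a non-singular vector orthogonal to all. -/
theorem exists_nonsingular_orthogonal (hQ : (QuadraticMap.polarBilin Q).Nondegenerate) {k : ℕ} (hk : k < n)
    (ws : Fin k → (Fin n → ZMod 3))
    (horth : ∀ i j, i ≠ j → QuadraticMap.polar (⇑Q) (ws i) (ws j) = 0) (hns : ∀ i, Q (ws i) ≠ 0) :
    ∃ z, Q z ≠ 0 ∧ ∀ i, QuadraticMap.polar (⇑Q) (ws i) z = 0 := by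
  classical
  by_contra hcon
  push Not at hcon
  -- the projection
  let coef : Fin k → (Fin n → ZMod 3) → ZMod 3 := fun i y =>
    (QuadraticMap.polar (⇑Q) (ws i) (ws i))⁻¹ * QuadraticMap.polar (⇑Q) (ws i) y
  let P : (Fin n → ZMod 3) → (Fin n → ZMod 3) := fun y => y - ∑ i, coef i y • ws i
  have hPorth : ∀ y j, QuadraticMap.polar (⇑Q) (ws j) (P y) = 0 := by
    intro y j
    show QuadraticMap.polar (⇑Q) (ws j) (y - ∑ i, coef i y • ws i) = 0
    rw [QuadraticMap.polar_sub_right]
    have : QuadraticMap.polar (⇑Q) (ws j) (∑ i, coef i y • ws i) = QuadraticMap.polar (⇑Q) (ws j) y := by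
      rw [← QuadraticMap.polarBilin_apply_apply, map_sum]
      rw [Finset.sum_eq_single j]
      · rw [map_smul, QuadraticMap.polarBilin_apply_apply, smul_eq_mul]
        show (QuadraticMap.polar (⇑Q) (ws j) (ws j))⁻¹ * QuadraticMap.polar (⇑Q) (ws j) y *
          QuadraticMap.polar (⇑Q) (ws j) (ws j) = _
        have := polar_self_ne_zero Q (hns j)
        field_simp
      · intro i _ hij
        rw [map_smul, QuadraticMap.polarBilin_apply_apply, horth j i (Ne.symm hij), smul_zero]
      · intro h; exact absurd (Finset.mem_univ j) h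
    rw [this, sub_self]
  have hQP : ∀ y, Q (P y) = 0 := by
    intro y
    by_contra h
    obtain ⟨i, hi⟩ := hcon (P y) h
    exact hi (hPorth y i)
  have hPadd : ∀ y y', P (y + y') = P y + P y' := by
    intro y y'
    show (y + y') - ∑ i, coef i (y + y') • ws i = (y - ∑ i, coef i y • ws i) + (y' - ∑ i, coef i y' • ws i)
    have : ∀ i, coef i (y + y') • ws i = coef i y • ws i + coef i y' • ws i := by
      intro i
      show ((QuadraticMap.polar (⇑Q) (ws i) (ws i))⁻¹ * QuadraticMap.polar (⇑Q) (ws i) (y + y')) • ws i = _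
      rw [QuadraticMap.polar_add_right, mul_add, add_smul]
    simp_rw [this]
    rw [Finset.sum_add_distrib]
    abel
  have hPP : ∀ y y', QuadraticMap.polar (⇑Q) (P y) (P y') = 0 := by
    intro y y'
    unfold QuadraticMap.polar
    rw [← hPadd, hQP, hQP, hQP]
    simp
  have hPzero : ∀ y, P y = 0 := by
    intro y
    apply hQ.1
    intro y'
    rw [QuadraticMap.polarBilin_apply_apply]
    have hy' : y' = P y' + ∑ i, coef i y' • ws i := by
      show y' = (y' - ∑ i, coef i y' • ws i) + ∑ i, coef i y' • ws i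
      abel
    rw [hy', QuadraticMap.polar_add_right, hPP, zero_add, ← QuadraticMap.polarBilin_apply_apply, map_sum]
    apply Finset.sum_eq_zero
    intro i _
    rw [map_smul, QuadraticMap.polarBilin_apply_apply, QuadraticMap.polar_comm, hPorth, smul_zero]
  -- so every vector lies in the span of the `ws`
  have hspan : Submodule.span (ZMod 3) (Set.range ws) = ⊤ := by
    rw [eq_top_iff]
    intro y _
    have hy : y = ∑ i, coef i y • ws i := by
      have := hPzero y
      have h2 : P y = y - ∑ i, coef i y • ws i := rfl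
      rw [h2, sub_eq_zero] at this
      exact this
    rw [hy]
    apply Submodule.sum_mem
    intro i _
    exact Submodule.smul_mem _ _ (Submodule.subset_span ⟨i, rfl⟩)
  have h1 := finrank_range_le_card (R := ZMod 3) ws
  unfold Set.finrank at h1
  rw [hspan, finrank_top, Module.finrank_fin_fun, Fintype.card_fin] at h1
  omega

theorem zmod3_eq_or_neg : ∀ a c : ZMod 3, a ≠ 0 → c ≠ 0 → a = c ∨ a = -c := by decide

theorem zmod3_neg_two_mul : ∀ c : ZMod 3, -c + -c = c := by decide

/-- every non-zero scalar is represented -/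
theorem exists_norm (hQ : (QuadraticMap.polarBilin Q).Nondegenerate) (hn : 2 ≤ n) (c : ZMod 3) (hc : c ≠ 0) :
    ∃ v, Q v = c := by
  obtain ⟨z, hz, -⟩ := exists_nonsingular_orthogonal Q hQ (k := 0) (by omega) (fun i => i.elim0)
    (fun i => i.elim0) (fun i => i.elim0)
  rcases zmod3_eq_or_neg _ c hz hc with h | h
  · exact ⟨z, h⟩
  obtain ⟨z', hz', hzz'⟩ := exists_nonsingular_orthogonal Q hQ (k := 1) (by omega) (fun _ => z)
    (fun i j hij => absurd (Subsingleton.elim i j) hij) (fun _ => hz)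
  rcases zmod3_eq_or_neg _ c hz' hc with h' | h'
  · exact ⟨z', h'⟩
  refine ⟨z + z', ?_⟩
  rw [QuadraticMap.map_add (⇑Q), hzz' 0, h, h', add_zero]
  exact zmod3_neg_two_mul c

theorem zmod3_two_mul_ne : ∀ c : ZMod 3, c ≠ 0 → 2 • c ≠ 0 := by decide

theorem zmod3_sum3 : ∀ c : ZMod 3, c + c + -c = c := by decide

theorem zmod3_sum4 : ∀ c : ZMod 3, c + c + c + c = c := by decide

theorem connect_of_neg (c : ZMod 3) (hc : c ≠ 0) (u v z : Fin n → ZMod 3) (hu : Q u = c) (hv : Q v = c)
    (huv : QuadraticMap.polar (⇑Q) u v = 0) (hz : Q z = -c) (huz : QuadraticMap.polar (⇑Q) u z = 0)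
    (hvz : QuadraticMap.polar (⇑Q) v z = 0) :
    ∃ w, Q w = c ∧ QuadraticMap.polar (⇑Q) u w ≠ 0 ∧ QuadraticMap.polar (⇑Q) v w ≠ 0 := by
  refine ⟨u + v + z, ?_, ?_, ?_⟩
  · rw [QuadraticMap.map_add (⇑Q), QuadraticMap.map_add (⇑Q), QuadraticMap.polar_add_left, hu, hv, hz, huv, huz, hvz]
    simp only [add_zero]
    exact zmod3_sum3 c
  · rw [QuadraticMap.polar_add_right, QuadraticMap.polar_add_right, huv, huz, QuadraticMap.polar_self, hu]
    simp only [add_zero]
    exact zmod3_two_mul_ne c hc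
  · rw [QuadraticMap.polar_add_right, QuadraticMap.polar_add_right, QuadraticMap.polar_comm (⇑Q) v u, huv, hvz,
      QuadraticMap.polar_self, hv]
    simp only [add_zero, zero_add]
    exact zmod3_two_mul_ne c hc

theorem exists_connect (hQ : (QuadraticMap.polarBilin Q).Nondegenerate) (hn : 5 ≤ n) (c : ZMod 3) (hc : c ≠ 0)
    (u v : Fin n → ZMod 3) (hu : Q u = c) (hv : Q v = c) (huv : QuadraticMap.polar (⇑Q) u v = 0) :
    ∃ w, Q w = c ∧ QuadraticMap.polar (⇑Q) u w ≠ 0 ∧ QuadraticMap.polar (⇑Q) v w ≠ 0 := by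
  have hvu : QuadraticMap.polar (⇑Q) v u = 0 := by rw [QuadraticMap.polar_comm]; exact huv
  obtain ⟨z, hz, hzorth⟩ := exists_nonsingular_orthogonal Q hQ (k := 2) (by omega) ![u, v]
    (by
      intro i j hij
      fin_cases i <;> fin_cases j
      · exact absurd rfl hij
      · exact huv
      · exact hvu
      · exact absurd rfl hij)
    (by
      intro i
      fin_cases i
      · show Q u ≠ 0
        rw [hu]; exact hc
      · show Q v ≠ 0
        rw [hv]; exact hc)
  have huz : QuadraticMap.polar (⇑Q) u z = 0 := hzorth 0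
  have hvz : QuadraticMap.polar (⇑Q) v z = 0 := hzorth 1
  rcases zmod3_eq_or_neg _ c hz hc with h | h
  swap
  · exact connect_of_neg Q c hc u v z hu hv huv h huz hvz
  have hzu : QuadraticMap.polar (⇑Q) z u = 0 := by rw [QuadraticMap.polar_comm]; exact huz
  have hzv : QuadraticMap.polar (⇑Q) z v = 0 := by rw [QuadraticMap.polar_comm]; exact hvz
  obtain ⟨z', hz', hz'orth⟩ := exists_nonsingular_orthogonal Q hQ (k := 3) (by omega) ![u, v, z]
    (by
      intro i j hij
      fin_cases i <;> fin_cases j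
      · exact absurd rfl hij
      · exact huv
      · exact huz
      · exact hvu
      · exact absurd rfl hij
      · exact hvz
      · exact hzu
      · exact hzv
      · exact absurd rfl hij)
    (by
      intro i
      fin_cases i
      · show Q u ≠ 0
        rw [hu]; exact hc
      · show Q v ≠ 0
        rw [hv]; exact hc
      · show Q z ≠ 0
        rw [h]; exact hc)
  have huz' : QuadraticMap.polar (⇑Q) u z' = 0 := hz'orth 0
  have hvz' : QuadraticMap.polar (⇑Q) v z' = 0 := hz'orth 1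
  have hzz' : QuadraticMap.polar (⇑Q) z z' = 0 := hz'orth 2
  rcases zmod3_eq_or_neg _ c hz' hc with h' | h'
  swap
  · exact connect_of_neg Q c hc u v z' hu hv huv h' huz' hvz'
  refine ⟨u + v + z + z', ?_, ?_, ?_⟩
  · rw [QuadraticMap.map_add (⇑Q), QuadraticMap.map_add (⇑Q), QuadraticMap.map_add (⇑Q),
      QuadraticMap.polar_add_left, QuadraticMap.polar_add_left, QuadraticMap.polar_add_left,
      hu, hv, h, h', huv, huz, hvz, huz', hvz', hzz']
    simp only [add_zero]
    exact zmod3_sum4 c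
  · rw [QuadraticMap.polar_add_right, QuadraticMap.polar_add_right, QuadraticMap.polar_add_right, huv, huz, huz',
      QuadraticMap.polar_self, hu]
    simp only [add_zero]
    exact zmod3_two_mul_ne c hc
  · rw [QuadraticMap.polar_add_right, QuadraticMap.polar_add_right, QuadraticMap.polar_add_right, hvu, hvz, hvz',
      QuadraticMap.polar_self, hv]
    simp only [add_zero, zero_add]
    exact zmod3_two_mul_ne c hc

end exist

section final
variable {n : ℕ} (Q : QuadraticForm (ZMod 3) (Fin n → ZMod 3))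

theorem mem_reflectionsOfNorm_iff (c : ZMod 3) (hc : c ≠ 0) (g : Cfsg.isometryGroup (ZMod 3) (⇑Q)) :
    g ∈ Cfsg.reflectionsOfNorm (⇑Q) c ↔ ∃ (v : Fin n → ZMod 3) (hv : Q v = c), g = reflI Q v (hv ▸ hc) := by
  constructor
  · rintro ⟨v, hv, hg⟩
    exact ⟨v, hv, isometry_ext Q hg⟩
  · rintro ⟨v, hv, rfl⟩
    exact ⟨v, hv, rfl⟩

theorem reflI_mem (c : ZMod 3) (v : Fin n → ZMod 3) (hv : Q v = c) (hv' : Q v ≠ 0) :
    reflI Q v hv' ∈ Cfsg.reflectionsOfNorm (⇑Q) c := ⟨v, hv, rfl⟩

end final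


/-- Let Q be a non-degenerate quadratic form on the n-dimensional coordinate space over the field with three elements, n ≥ 5, and c a non-zero scalar. In the subgroup of the isometry group of Q generated by the reflections in vectors v with Q(v) = c, these reflections form a single conjugacy class of 3-transpositions generating that subgroup. -/
theorem result (n : ℕ) (hn : 5 ≤ n) (Q : QuadraticForm (ZMod 3) (Fin n → ZMod 3)) (hQ : (QuadraticMap.polarBilin Q).Nondegenerate) (c : ZMod 3) (hc : c ≠ 0) : Cfsg.IsThreeTranspositionClass {g : ↥(Cfsg.reflectionSubgroup (⇑Q) c) | (g : ↥(Cfsg.isometryGroup (ZMod 3) (⇑Q))) ∈ Cfsg.reflectionsOfNorm (⇑Q) c} := by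
  have hDI : Cfsg.IsThreeTranspositionClass
      {g : Subgroup.closure (Cfsg.reflectionsOfNorm (⇑Q) c) | (g : Cfsg.isometryGroup (ZMod 3) (⇑Q)) ∈
        Cfsg.reflectionsOfNorm (⇑Q) c} := by
    apply class_in_closure
    · -- three-transposition set
      constructor
      · intro d hd
        obtain ⟨v, hv, rfl⟩ := (mem_reflectionsOfNorm_iff Q c hc d).1 hd
        exact reflI_order Q v _
      · intro d hd e he
        obtain ⟨u, hu, rfl⟩ := (mem_reflectionsOfNorm_iff Q c hc d).1 hd
        obtain ⟨v, hv, rfl⟩ := (mem_reflectionsOfNorm_iff Q c hc e).1 he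
        have hu' : Q u ≠ 0 := hu ▸ hc
        have hv' : Q v ≠ 0 := hv ▸ hc
        by_cases h : QuadraticMap.polar (⇑Q) u v = 0
        · left
          have hcomm := reflI_comm_of_orth Q u v hu' hv' h
          rw [pow_two]
          calc reflI Q u hu' * reflI Q v hv' * (reflI Q u hu' * reflI Q v hv')
              = reflI Q u hu' * (reflI Q v hv' * reflI Q u hu') * reflI Q v hv' := by group
            _ = reflI Q u hu' * (reflI Q u hu' * reflI Q v hv') * reflI Q v hv' := by rw [hcomm]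
            _ = (reflI Q u hu' * reflI Q u hu') * (reflI Q v hv' * reflI Q v hv') := by group
            _ = 1 := by rw [reflI_mul_self, reflI_mul_self, one_mul]
        · right
          exact reflI_cube Q u v hu' (hu.trans hv.symm) h
    · -- nonempty
      obtain ⟨v, hv⟩ := exists_norm Q hQ (by omega) c hc
      exact ⟨reflI Q v (hv ▸ hc), reflI_mem Q c v hv _⟩
    · -- connected
      intro x hx y hy
      obtain ⟨u, hu, rfl⟩ := (mem_reflectionsOfNorm_iff Q c hc x).1 hx
      obtain ⟨v, hv, rfl⟩ := (mem_reflectionsOfNorm_iff Q c hc y).1 hy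
      have hu' : Q u ≠ 0 := hu ▸ hc
      have hv' : Q v ≠ 0 := hv ▸ hc
      by_cases h : QuadraticMap.polar (⇑Q) u v = 0
      · obtain ⟨w, hw, huw, hvw⟩ := exists_connect Q hQ hn c hc u v hu hv h
        have hw' : Q w ≠ 0 := hw ▸ hc
        have hwv : QuadraticMap.polar (⇑Q) w v ≠ 0 := by rw [QuadraticMap.polar_comm]; exact hvw
        have h1 := reflI_conj_of_not_orth Q u w hu' (hu.trans hw.symm) huw
        have h2 := reflI_conj_of_not_orth Q w v hw' (hw.trans hv.symm) hwv
        refine ⟨(reflI Q w hw' * reflI Q v hv') * (reflI Q u hu' * reflI Q w hw'), ?_, ?_⟩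
        · apply Subgroup.mul_mem
          · exact Subgroup.mul_mem _ (Subgroup.subset_closure (reflI_mem Q c w hw _))
              (Subgroup.subset_closure (reflI_mem Q c v hv _))
          · exact Subgroup.mul_mem _ (Subgroup.subset_closure (reflI_mem Q c u hu _))
              (Subgroup.subset_closure (reflI_mem Q c w hw _))
        · calc (reflI Q w hw' * reflI Q v hv') * (reflI Q u hu' * reflI Q w hw') * reflI Q u hu' *
                ((reflI Q w hw' * reflI Q v hv') * (reflI Q u hu' * reflI Q w hw'))⁻¹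
              = (reflI Q w hw' * reflI Q v hv') * ((reflI Q u hu' * reflI Q w hw') * reflI Q u hu' *
                  (reflI Q u hu' * reflI Q w hw')⁻¹) * (reflI Q w hw' * reflI Q v hv')⁻¹ := by group
            _ = (reflI Q w hw' * reflI Q v hv') * reflI Q w hw' * (reflI Q w hw' * reflI Q v hv')⁻¹ := by rw [h1]
            _ = reflI Q v hv' := h2
      · have h1 := reflI_conj_of_not_orth Q u v hu' (hu.trans hv.symm) h
        refine ⟨reflI Q u hu' * reflI Q v hv', ?_, h1⟩
        exact Subgroup.mul_mem _ (Subgroup.subset_closure (reflI_mem Q c u hu _))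
          (Subgroup.subset_closure (reflI_mem Q c v hv _))
    · -- stable under conjugation
      intro h _ x hx
      obtain ⟨v, hv, rfl⟩ := (mem_reflectionsOfNorm_iff Q c hc x).1 hx
      rw [conj_reflI]
      apply reflI_mem
      rw [isometry_apply]
      exact hv
  exact hDI

end Cfsg.Agent.S5357
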