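import Cfsg.Statements.S1182
import Cfsg.Agent.Lib.Helper20.Isolated

set_option autoImplicit false
open Cfsg

namespace Cfsg.Agent.S1182

open Cfsg.Agent.Lib.Helper20


/-- Let z be an isolated involution of the finite group G and H a subgroup normalized by z. If x, y ∈ H both commute with z and y = h x h⁻¹ for some h ∈ H, then y = c x c⁻¹ for some c ∈ H commuting with z. -/
theorem result {G : Type*} [Group G] [Finite G] (z : G) (hz : Cfsg.IsIsolatedInvolution z) (H : Subgroup G) (hzH : z ∈ Subgroup.normalizer (H : Set G)) (x y : G) (hx : x ∈ H) (hy : y ∈ H) (hxz : Commute x z) (hyz : Commute y z) (h : G) (hh : h ∈ H) (hconj : h * x * h⁻¹ = y) : ∃ c ∈ H, Commute c z ∧ c * x * c⁻¹ = y := by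
  obtain ⟨m, hm⟩ := iso_conj_by_pow hz h⁻¹
  rw [inv_inv] at hm
  have hzi := iso_inv hz
  -- w z ∈ H
  have hwzH : h⁻¹ * z * h * z ∈ H := by
    have h1 : z * h * z⁻¹ ∈ H := (Subgroup.mem_normalizer_iff.mp hzH h).mp hh
    have : h⁻¹ * z * h * z = h⁻¹ * (z * h * z⁻¹) := by rw [hzi]; group
    rw [this]
    exact mul_mem (inv_mem hh) h1
  -- w commutes with x
  have hwx : Commute (h⁻¹ * z * h) x := by
    show (h⁻¹ * z * h) * x = x * (h⁻¹ * z * h)
    have hyz' : z * y = y * z := hyz.eq.symm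
    calc (h⁻¹ * z * h) * x = h⁻¹ * (z * (h * x * h⁻¹)) * h := by group
      _ = h⁻¹ * (z * y) * h := by rw [hconj]
      _ = h⁻¹ * (y * z) * h := by rw [hyz']
      _ = h⁻¹ * ((h * x * h⁻¹) * z) * h := by rw [hconj]
      _ = x * (h⁻¹ * z * h) := by group
  have hlx : Commute ((h⁻¹ * z * h * z) ^ m) x := (hwx.mul_left hxz.symm).pow_left m
  refine ⟨h * (h⁻¹ * z * h * z) ^ m, mul_mem hh (pow_mem hwzH m), ?_, ?_⟩
  · have : (h * (h⁻¹ * z * h * z) ^ m) * z * (h * (h⁻¹ * z * h * z) ^ m)⁻¹ = z := by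
      calc (h * (h⁻¹ * z * h * z) ^ m) * z * (h * (h⁻¹ * z * h * z) ^ m)⁻¹
          = h * ((h⁻¹ * z * h * z) ^ m * z * ((h⁻¹ * z * h * z) ^ m)⁻¹) * h⁻¹ := by group
        _ = h * (h⁻¹ * z * h) * h⁻¹ := by rw [hm]
        _ = z := by group
    show (h * (h⁻¹ * z * h * z) ^ m) * z = z * (h * (h⁻¹ * z * h * z) ^ m)
    calc (h * (h⁻¹ * z * h * z) ^ m) * z
        = ((h * (h⁻¹ * z * h * z) ^ m) * z * (h * (h⁻¹ * z * h * z) ^ m)⁻¹) * (h * (h⁻¹ * z * h * z) ^ m) := by group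
      _ = z * (h * (h⁻¹ * z * h * z) ^ m) := by rw [this]
  · have hl : (h⁻¹ * z * h * z) ^ m * x = x * (h⁻¹ * z * h * z) ^ m := hlx.eq
    calc h * (h⁻¹ * z * h * z) ^ m * x * (h * (h⁻¹ * z * h * z) ^ m)⁻¹
        = h * ((h⁻¹ * z * h * z) ^ m * x) * ((h⁻¹ * z * h * z) ^ m)⁻¹ * h⁻¹ := by group
      _ = h * (x * (h⁻¹ * z * h * z) ^ m) * ((h⁻¹ * z * h * z) ^ m)⁻¹ * h⁻¹ := by rw [hl]
      _ = h * x * h⁻¹ := by group
      _ = y := hconj

end Cfsg.Agent.S1182
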