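import Cfsg.Statements.S1183
import Cfsg.Agent.Lib.Helper20.Isolated
import Cfsg.Agent.S1182

set_option autoImplicit false
open Cfsg

namespace Cfsg.Agent.S1183

open Cfsg.Agent.Lib.Helper20

open Subgroup MulAction in
theorem transfer_eq_pow_of_invariant {G A : Type*} [Group G] [CommGroup A] {H : Subgroup G}
    [H.FiniteIndex] (ϕ : H →* A)
    (hϕ : ∀ (h : G) (hh : h ∈ H) (g : G) (hc : g⁻¹ * h * g ∈ H), ϕ ⟨g⁻¹ * h * g, hc⟩ = ϕ ⟨h, hh⟩)
    (x : H) : MonoidHom.transfer ϕ (x : G) = ϕ x ^ H.index := by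
  have : Fintype (Quotient (MulAction.orbitRel (zpowers (x : G)) (G ⧸ H))) := Fintype.ofFinite _
  rw [index_eq_sum_minimalPeriod H (x : G), ← Finset.prod_pow_eq_pow_sum,
    MonoidHom.transfer_eq_prod_quotient_orbitRel_zpowers_quot]
  apply Finset.prod_congr rfl
  intro q _
  rw [← map_pow]
  exact hϕ _ (H.pow_mem x.2 _) _ _

theorem pResidual_normal (p : ℕ) (H : Type*) [Group H] : (Cfsg.pResidual p H).Normal := by
  unfold Cfsg.pResidual
  constructor
  intro n hn g
  induction hn using Subgroup.closure_induction with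
  | mem x hx =>
    apply Subgroup.subset_closure
    show Nat.Coprime (orderOf (g * x * g⁻¹)) p
    have := (MulAut.conj g).orderOf_eq x
    rw [MulAut.conj_apply] at this
    rw [this]; exact hx
  | one => simp
  | mul a b _ _ ha hb =>
    have : g * (a * b) * g⁻¹ = (g * a * g⁻¹) * (g * b * g⁻¹) := by group
    rw [this]; exact mul_mem ha hb
  | inv a _ ha =>
    have : g * a⁻¹ * g⁻¹ = (g * a * g⁻¹)⁻¹ := by group
    rw [this]; exact inv_mem ha

theorem isPGroup_quot (H : Type*) [Group H] [Finite H] [(Cfsg.pResidual 2 H).Normal] :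
    IsPGroup 2 (H ⧸ Cfsg.pResidual 2 H) := by
  intro q
  obtain ⟨c, rfl⟩ := QuotientGroup.mk_surjective q
  obtain ⟨k, m, hm, hkm⟩ := Nat.exists_eq_two_pow_mul_odd (orderOf_pos c).ne'
  refine ⟨k, ?_⟩
  rw [← QuotientGroup.mk_pow, QuotientGroup.eq_one_iff]
  apply Subgroup.subset_closure
  show Nat.Coprime (orderOf (c ^ 2 ^ k)) 2
  have : orderOf (c ^ 2 ^ k) = m := by
    rw [orderOf_pow_of_dvd (by positivity) (hkm ▸ dvd_mul_right _ _), hkm,
      Nat.mul_div_cancel_left _ (by positivity)]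
  rw [this]; exact Nat.coprime_two_right.mpr hm

/-- In a `2`-group, an element killed by an odd power is trivial. -/
theorem eq_one_of_pow_odd {A : Type*} [Group A] (hA : IsPGroup 2 A) {a : A} {n : ℕ} (hn : Odd n)
    (h : a ^ n = 1) : a = 1 := by
  obtain ⟨k, hk⟩ := hA a
  have h1 : orderOf a ∣ n := orderOf_dvd_of_pow_eq_one h
  have h2 : orderOf a ∣ 2 ^ k := orderOf_dvd_of_pow_eq_one hk
  have hc : Nat.Coprime n (2 ^ k) := (Nat.coprime_two_right.mpr hn).pow_right k
  have := Nat.dvd_gcd h1 h2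
  rw [hc.gcd_eq_one, Nat.dvd_one] at this
  exact orderOf_eq_one_iff.mp this

/-- The centralizer of an isolated involution has odd index. -/
theorem odd_index_centralizer {G : Type*} [Group G] [Finite G] (z : G)
    (hz : Cfsg.IsIsolatedInvolution z) : Odd (Subgroup.centralizer ({z} : Set G)).index := by
  have hz2 : IsPGroup 2 (Subgroup.zpowers z) := by
    rw [IsPGroup.iff_card, Nat.card_zpowers, hz.1]
    exact ⟨1, by norm_num⟩
  obtain ⟨S, hS⟩ := hz2.exists_le_sylow
  have hzS : z ∈ (S : Subgroup G) := hS (Subgroup.mem_zpowers z)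
  have hSC : (S : Subgroup G) ≤ Subgroup.centralizer ({z} : Set G) := by
    intro s hs
    rw [mem_centralizer_iff_conj]
    have hw : s * z * s⁻¹ ∈ (S : Subgroup G) := mul_mem (mul_mem hs hzS) (inv_mem hs)
    have hmem : z * (s * z * s⁻¹) ∈ (S : Subgroup G) := mul_mem hzS hw
    have hodd := iso_odd_order_mul hz s
    have h2 : IsPGroup 2 (S : Subgroup G) := S.isPGroup'
    have h1 : (⟨_, hmem⟩ : (S : Subgroup G)) = 1 := by
      apply eq_one_of_pow_odd h2 hodd
      apply Subtype.ext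
      rw [Subgroup.coe_pow, Subgroup.coe_one]
      exact pow_orderOf_eq_one _
    have h3 : z * (s * z * s⁻¹) = 1 := congrArg Subtype.val h1
    have h4 : s * z * s⁻¹ = z⁻¹ := (inv_eq_of_mul_eq_one_right h3).symm
    rw [h4, iso_inv hz]
  have hdvd : (Subgroup.centralizer ({z} : Set G)).index ∣ (S : Subgroup G).index :=
    Subgroup.index_dvd_of_le hSC
  have hnd : ¬ 2 ∣ (S : Subgroup G).index := S.not_dvd_index
  rw [← Nat.not_even_iff_odd, even_iff_two_dvd]
  exact fun h => hnd (dvd_trans h hdvd)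

theorem forward {G : Type*} [Group G] [Finite G] (z : G) (hz : Cfsg.IsIsolatedInvolution z)
    (hG : Cfsg.pResidual 2 G = ⊤) :
    Cfsg.pResidual 2 ↥(Subgroup.centralizer ({z} : Set G)) = ⊤ := by
  haveI hN : (Cfsg.pResidual 2 ↥(Subgroup.centralizer ({z} : Set G))).Normal := pResidual_normal 2 _
  have hQ := isPGroup_quot ↥(Subgroup.centralizer ({z} : Set G))
  have hA : IsPGroup 2 (Abelianization (↥(Subgroup.centralizer ({z} : Set G)) ⧸
      Cfsg.pResidual 2 ↥(Subgroup.centralizer ({z} : Set G)))) := hQ.to_quotient _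
  let ϕ : ↥(Subgroup.centralizer ({z} : Set G)) →* Abelianization (↥(Subgroup.centralizer ({z} : Set G)) ⧸
      Cfsg.pResidual 2 ↥(Subgroup.centralizer ({z} : Set G))) :=
    (Abelianization.of).comp (QuotientGroup.mk' _)
  have hϕsurj : Function.Surjective ϕ := by
    intro a
    obtain ⟨q, rfl⟩ := QuotientGroup.mk_surjective a
    obtain ⟨c, rfl⟩ := QuotientGroup.mk_surjective q
    exact ⟨c, rfl⟩
  have hϕinv : ∀ (h : G) (hh : h ∈ Subgroup.centralizer ({z} : Set G)) (g : G)
      (hc : g⁻¹ * h * g ∈ Subgroup.centralizer ({z} : Set G)), ϕ ⟨g⁻¹ * h * g, hc⟩ = ϕ ⟨h, hh⟩ := by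
    intro h hh g hc
    have hhz : Commute h z := by
      rw [Subgroup.mem_centralizer_singleton_iff] at hh; exact hh
    have hcz : Commute (g⁻¹ * h * g) z := by
      rw [Subgroup.mem_centralizer_singleton_iff] at hc; exact hc
    obtain ⟨d, -, hdz, hd⟩ := Cfsg.Agent.S1182.result z hz ⊤ (by rw [Subgroup.mem_normalizer_iff]; intro h; simp) h (g⁻¹ * h * g) (Subgroup.mem_top _)
      (Subgroup.mem_top _) hhz hcz g⁻¹ (Subgroup.mem_top _) (by rw [inv_inv])
    have hdC : d ∈ Subgroup.centralizer ({z} : Set G) := by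
      rw [Subgroup.mem_centralizer_singleton_iff]; exact hdz.eq
    have e : (⟨g⁻¹ * h * g, hc⟩ : ↥(Subgroup.centralizer ({z} : Set G))) =
        ⟨d, hdC⟩ * ⟨h, hh⟩ * ⟨d, hdC⟩⁻¹ := by
      apply Subtype.ext
      simp [hd]
    rw [e, map_mul, map_mul, map_inv, mul_comm (ϕ ⟨d, hdC⟩), mul_assoc, mul_inv_cancel, mul_one]
  have hV : ∀ g : G, MonoidHom.transfer ϕ g = 1 := by
    intro g
    have hker : Cfsg.pResidual 2 G ≤ (MonoidHom.transfer ϕ).ker := by
      show Subgroup.closure {g : G | Nat.Coprime (orderOf g) 2} ≤ _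
      rw [Subgroup.closure_le]
      intro x hx
      rw [SetLike.mem_coe, MonoidHom.mem_ker]
      have hx' : Odd (orderOf x) := Nat.coprime_two_right.mp hx
      apply eq_one_of_pow_odd hA hx'
      rw [← map_pow, pow_orderOf_eq_one, map_one]
    have : g ∈ (MonoidHom.transfer ϕ).ker := hker (hG ▸ Subgroup.mem_top g)
    exact MonoidHom.mem_ker.mp this
  have hϕ1 : ∀ x, ϕ x = 1 := by
    intro x
    apply eq_one_of_pow_odd hA (odd_index_centralizer z hz)
    rw [← transfer_eq_pow_of_invariant ϕ hϕinv x]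
    exact hV _
  have hAsub : Subsingleton (Abelianization (↥(Subgroup.centralizer ({z} : Set G)) ⧸
      Cfsg.pResidual 2 ↥(Subgroup.centralizer ({z} : Set G)))) := by
    constructor
    intro a b
    obtain ⟨x, rfl⟩ := hϕsurj a
    obtain ⟨y, rfl⟩ := hϕsurj b
    rw [hϕ1, hϕ1]
  have hcomm : commutator (↥(Subgroup.centralizer ({z} : Set G)) ⧸
      Cfsg.pResidual 2 ↥(Subgroup.centralizer ({z} : Set G))) = ⊤ :=
    QuotientGroup.subgroup_eq_top_of_subsingleton _ hAsub
  have hQsub : Subsingleton (↥(Subgroup.centralizer ({z} : Set G)) ⧸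
      Cfsg.pResidual 2 ↥(Subgroup.centralizer ({z} : Set G))) := by
    by_contra hns
    rw [not_subsingleton_iff_nontrivial] at hns
    have : Fact (Nat.Prime 2) := ⟨Nat.prime_two⟩
    have := hQ.isNilpotent
    have := Group.IsSolvable.commutator_lt_top_of_nontrivial (↥(Subgroup.centralizer ({z} : Set G)) ⧸
      Cfsg.pResidual 2 ↥(Subgroup.centralizer ({z} : Set G)))
    exact this.ne hcomm
  exact QuotientGroup.subgroup_eq_top_of_subsingleton _ hQsub

theorem backward {G : Type*} [Group G] [Finite G] (z : G) (hz : Cfsg.IsIsolatedInvolution z)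
    (hC : Cfsg.pResidual 2 ↥(Subgroup.centralizer ({z} : Set G)) = ⊤) :
    Cfsg.pResidual 2 G = ⊤ := by
  rw [eq_top_iff]
  intro g _
  obtain ⟨k, hk1, hk2, hk3, -⟩ := iso_K_exists hz g
  have hc : k⁻¹ * g ∈ Subgroup.centralizer ({z} : Set G) := by
    rw [mem_centralizer_iff_conj]
    calc k⁻¹ * g * z * (k⁻¹ * g)⁻¹ = k⁻¹ * (g * z * g⁻¹) * k := by group
      _ = k⁻¹ * (k * z * k⁻¹) * k := by rw [hk3]
      _ = z := by group
  have hkmem : k ∈ Cfsg.pResidual 2 G :=
    Subgroup.subset_closure (Nat.coprime_two_right.mpr hk1)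
  have hle : (Cfsg.pResidual 2 ↥(Subgroup.centralizer ({z} : Set G))).map
      (Subgroup.centralizer ({z} : Set G)).subtype ≤ Cfsg.pResidual 2 G := by
    rw [Subgroup.map_le_iff_le_comap]
    show Subgroup.closure {g : ↥(Subgroup.centralizer ({z} : Set G)) | Nat.Coprime (orderOf g) 2} ≤ _
    rw [Subgroup.closure_le]
    intro x hx
    rw [SetLike.mem_coe, Subgroup.mem_comap]
    refine Subgroup.subset_closure ?_
    show Nat.Coprime (orderOf ((x : G))) 2
    rw [Subgroup.orderOf_coe]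
    exact hx
  have hcmem : k⁻¹ * g ∈ Cfsg.pResidual 2 G := by
    apply hle
    refine ⟨⟨k⁻¹ * g, hc⟩, ?_, rfl⟩
    rw [hC]; exact Subgroup.mem_top _
  have : g = k * (k⁻¹ * g) := by group
  rw [this]
  exact mul_mem hkmem hcmem


/-- Let z be an isolated involution of the finite group G and C = C_G(z). Then the subgroup of G generated by its elements of odd order is all of G if and only if the subgroup of C generated by its elements of odd order is all of C. -/
theorem result {G : Type*} [Group G] [Finite G] (z : G) (hz : Cfsg.IsIsolatedInvolution z) : Cfsg.pResidual 2 G = ⊤ ↔ Cfsg.pResidual 2 ↥(Subgroup.centralizer ({z} : Set G)) = ⊤ := by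
  exact ⟨forward z hz, backward z hz⟩

end Cfsg.Agent.S1183
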