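import Mathlib
import Cfsg.Statements.S3684
-- import your own Cfsg.Agent.* helpers here

set_option autoImplicit false
open Cfsg

namespace Cfsg.Agent.S3684

/-- If the trivial subgroup is a coatom of the subgroup lattice, the group is cyclic of prime order. -/
theorem cyclic_prime_of_isCoatom_bot {G : Type*} [Group G] [Finite G]
    (h : IsCoatom (⊥ : Subgroup G)) : IsCyclic G ∧ (Nat.card G).Prime := by
  have hso : IsSimpleOrder (Subgroup G) := isSimpleOrder_iff_isCoatom_bot.mpr h
  have hnt : Nontrivial G := by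
    rw [← Subgroup.nontrivial_iff]
    infer_instance
  obtain ⟨g, hg⟩ := exists_ne (1 : G)
  have hz : Subgroup.zpowers g = ⊤ :=
    (eq_bot_or_eq_top (Subgroup.zpowers g)).resolve_left (Subgroup.zpowers_ne_bot.2 hg)
  have hcyc : IsCyclic G := ⟨⟨g, (Subgroup.eq_top_iff' _).1 hz⟩⟩
  refine ⟨hcyc, ?_⟩
  let : CommGroup G := IsCyclic.commGroup
  have : IsSimpleGroup G := ⟨fun H _ => eq_bot_or_eq_top H⟩
  exact IsSimpleGroup.prime_card

section Dih
variable {G : Type*} [Group G]

/-- powers of `ρ` indexed by `ZMod n`, where `ρ ^ n = 1` -/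
noncomputable def zpw (ρ : G) (n : ℕ) (h : ρ ^ n = 1) : ZMod n →+ Additive G :=
  ZMod.lift n ⟨zmultiplesHom (Additive G) (Additive.ofMul ρ), by
    simp only [zmultiplesHom_apply]
    rw [natCast_zsmul, ← ofMul_pow, h, ofMul_one]⟩

theorem zpw_one (ρ : G) (n : ℕ) (h : ρ ^ n = 1) : (zpw ρ n h 1).toMul = ρ := by
  have : (1 : ZMod n) = ((1 : ℤ) : ZMod n) := by simp
  rw [zpw, this, ZMod.lift_coe]
  simp

theorem zpw_mem (ρ : G) (n : ℕ) (h : ρ ^ n = 1) (i : ZMod n) :
    (zpw ρ n h i).toMul ∈ Subgroup.zpowers ρ := by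
  have : i = ((ZMod.cast i : ℤ) : ZMod n) := (ZMod.intCast_zmod_cast i).symm
  rw [zpw, this, ZMod.lift_coe]
  simp only [zmultiplesHom_apply]
  rw [← ofMul_zpow, toMul_ofMul]
  exact Subgroup.zpow_mem_zpowers ρ _

/-- The homomorphism from the dihedral group determined by two involutions. -/
noncomputable def dihedralHom (s t : G) (hs : s * s = 1) (ht : t * t = 1) (n : ℕ)
    (hn : (s * t) ^ n = 1) : DihedralGroup n →* G :=
  MonoidHom.mk' (fun x => match x with
    | DihedralGroup.r i => (zpw (s * t) n hn i).toMul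
    | DihedralGroup.sr i => s * (zpw (s * t) n hn i).toMul) (by
    -- conjugation by s inverts zpowers (s * t)
    have hsinv : s⁻¹ = s := inv_eq_of_mul_eq_one_left hs
    have htinv : t⁻¹ = t := inv_eq_of_mul_eq_one_left ht
    have hconj : ∀ c ∈ Subgroup.zpowers (s * t), s * c * s = c⁻¹ := by
      intro c hc
      obtain ⟨k, rfl⟩ := hc
      have h1 : s * (s * t) * s⁻¹ = (s * t)⁻¹ := by
        rw [mul_inv_rev, hsinv, htinv, ← mul_assoc, hs, one_mul]
      have h2 := map_zpow (MulAut.conj s) (s * t) k
      simp only [MulAut.conj_apply] at h2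
      rw [h1, hsinv] at h2
      rw [h2, inv_zpow]
    intro x y
    rcases x with i | i <;> rcases y with j | j
    · show (zpw (s * t) n hn (i + j)).toMul = _
      rw [map_add, toMul_add]
    · show s * (zpw (s * t) n hn (j - i)).toMul = (zpw (s * t) n hn i).toMul * (s * (zpw (s * t) n hn j).toMul)
      have h3 := hconj _ (zpw_mem (s * t) n hn i)
      rw [sub_eq_neg_add, map_add, map_neg, toMul_add, toMul_neg, ← h3]
      simp only [mul_assoc]
      rw [← mul_assoc s s, hs, one_mul]
    · show s * (zpw (s * t) n hn (i + j)).toMul = s * (zpw (s * t) n hn i).toMul * (zpw (s * t) n hn j).toMul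
      rw [map_add, toMul_add, mul_assoc]
    · show (zpw (s * t) n hn (j - i)).toMul = s * (zpw (s * t) n hn i).toMul * (s * (zpw (s * t) n hn j).toMul)
      have h3 := hconj _ (zpw_mem (s * t) n hn i)
      rw [sub_eq_neg_add, map_add, map_neg, toMul_add, toMul_neg, ← h3]
      simp only [mul_assoc])

theorem dihedral_equiv (s t : G) (hs : s * s = 1) (ht : t * t = 1) (n : ℕ) (hn0 : n ≠ 0)
    (hn : (s * t) ^ n = 1) (hgen : Subgroup.zpowers s ⊔ Subgroup.zpowers t = ⊤)
    (hcard : Nat.card G = 2 * n) : Nonempty (DihedralGroup n ≃* G) := by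
  have : NeZero n := ⟨hn0⟩
  have hfin : Finite G := Nat.finite_of_card_ne_zero (by rw [hcard]; omega)
  set f := dihedralHom s t hs ht n hn with hf
  have hfs : f (DihedralGroup.sr 0) = s := by
    show s * (zpw (s * t) n hn 0).toMul = s
    rw [map_zero, toMul_zero, mul_one]
  have hft : f (DihedralGroup.sr 1) = t := by
    show s * (zpw (s * t) n hn 1).toMul = t
    rw [zpw_one, ← mul_assoc, hs, one_mul]
  have hsurj : Function.Surjective f := by
    rw [← MonoidHom.range_eq_top, eq_top_iff, ← hgen, sup_le_iff]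
    constructor
    · rw [Subgroup.zpowers_le]; exact ⟨_, hfs⟩
    · rw [Subgroup.zpowers_le]; exact ⟨_, hft⟩
  have hbij : Function.Bijective f := by
    rw [Nat.bijective_iff_surjective_and_card]
    exact ⟨hsurj, by rw [DihedralGroup.nat_card, hcard]⟩
  exact ⟨MulEquiv.ofBijective f hbij⟩

end Dih

section Inv
variable {G : Type*} [Group G]

/-- a subgroup of order two is generated by an involution -/
theorem exists_involution_of_card_two (H : Subgroup G) (h : Nat.card H = 2) :
    ∃ s : G, s ≠ 1 ∧ s * s = 1 ∧ H = Subgroup.zpowers s := by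
  have hfin : Finite H := Nat.finite_of_card_ne_zero (by rw [h]; norm_num)
  have hne : H ≠ ⊥ := by
    intro h0
    rw [h0, Subgroup.card_bot] at h
    omega
  obtain ⟨s, hs, hs1⟩ := (H.bot_or_exists_ne_one).resolve_left hne
  have hord : orderOf s ∣ 2 := h ▸ H.orderOf_dvd_natCard hs
  have hss : s * s = 1 := by
    rw [← pow_two]; exact orderOf_dvd_iff_pow_eq_one.mp hord
  have hord2 : orderOf s = 2 := orderOf_eq_prime (by rw [pow_two]; exact hss) hs1
  refine ⟨s, hs1, hss, ?_⟩
  symm
  apply Subgroup.eq_of_le_of_card_ge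
  · rw [Subgroup.zpowers_le]; exact hs
  · rw [Nat.card_zpowers, hord2, h]

/-- if `x` inverts `ρ` then it inverts every element of `zpowers ρ` -/
theorem conj_eq_inv_of_mem_zpowers (x ρ : G) (h : x * ρ * x⁻¹ = ρ⁻¹) (c : G)
    (hc : c ∈ Subgroup.zpowers ρ) : x * c * x⁻¹ = c⁻¹ := by
  obtain ⟨k, rfl⟩ := hc
  have h2 := map_zpow (MulAut.conj x) ρ k
  simp only [MulAut.conj_apply] at h2
  rw [h2, h, inv_zpow]

/-- an involution inverting every element of a subgroup normalizes it -/
theorem mem_normalizer_of_inverts (x : G) (hx : x * x = 1) (C : Subgroup G)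
    (h : ∀ c ∈ C, x * c * x⁻¹ = c⁻¹) : x ∈ Subgroup.normalizer (C : Set G) := by
  have hxinv : x⁻¹ = x := inv_eq_of_mul_eq_one_left hx
  rw [Subgroup.mem_normalizer_iff]
  intro c
  constructor
  · intro hc; rw [h c hc]; exact C.inv_mem hc
  · intro hc
    have h1 := h _ hc
    have h2 : c = x * (x * c * x⁻¹) * x⁻¹ := by
      rw [hxinv]
      calc c = (x * x) * c * (x * x) := by rw [hx, one_mul, mul_one]
        _ = x * (x * c * x) * x := by simp only [mul_assoc]
    rw [h2, h1]
    exact C.inv_mem hc

end Inv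
section Act
variable {G Ω : Type*} [Group G] [MulAction G Ω]

/-- an element commuting with a transitive subgroup and fixing a point is trivial -/
theorem eq_one_of_commute_of_fix [FaithfulSMul G Ω] (X : Subgroup G) (hX : MulAction.IsPretransitive X Ω) (c : G)
    (hc : ∀ x ∈ X, x * c = c * x) (a : Ω) (hca : c • a = a) : c = 1 := by
  apply FaithfulSMul.eq_of_smul_eq_smul (α := Ω)
  intro b
  obtain ⟨x, hx⟩ := MulAction.exists_smul_eq X a b
  have hx' : (x : G) • a = b := hx
  rw [one_smul, ← hx', ← mul_smul, ← hc x x.2, mul_smul, hca]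

/-- nontrivial normal subgroups of a faithful primitive group are transitive -/
theorem transitive_of_normal [FaithfulSMul G Ω] (hprim : MulAction.IsPreprimitive G Ω)
    (V : Subgroup G) (hVn : V.Normal) (hV : V ≠ ⊥) : MulAction.IsPretransitive V Ω := by
  apply MulAction.IsQuasiPreprimitive.isPretransitive_of_normal (G := G)
  intro hfix
  apply hV
  rw [Subgroup.eq_bot_iff_forall]
  intro v hv
  apply FaithfulSMul.eq_of_smul_eq_smul (α := Ω)
  intro ω
  have : ω ∈ MulAction.fixedPoints V Ω := by rw [hfix]; trivial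
  rw [one_smul]
  exact this ⟨v, hv⟩

/-- a normal subgroup contained in a point stabilizer of a transitive faithful action is trivial -/
theorem eq_bot_of_normal_le_stabilizer [FaithfulSMul G Ω] [MulAction.IsPretransitive G Ω]
    (K : Subgroup G) (hK : K.Normal) (a : Ω) (hKa : K ≤ MulAction.stabilizer G a) : K = ⊥ := by
  rw [Subgroup.eq_bot_iff_forall]
  intro x hx
  apply FaithfulSMul.eq_of_smul_eq_smul (α := Ω)
  intro ω
  obtain ⟨k, hk⟩ := MulAction.exists_smul_eq G a ω
  rw [one_smul, ← hk]
  have hx' : k⁻¹ * x * k ∈ MulAction.stabilizer G a := by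
    have := hK.conj_mem x hx k⁻¹
    apply hKa
    simpa using this
  rw [MulAction.mem_stabilizer_iff] at hx'
  calc x • k • a = k • (k⁻¹ * x * k) • a := by simp [mul_smul]
    _ = k • a := by rw [hx']

/-- In a finite primitive group with a suborbit of length two, point stabilizers have order two. -/
theorem card_stabilizer_eq_two [Finite G] [FaithfulSMul G Ω] [Finite Ω]
    (hprim : MulAction.IsPreprimitive G Ω) (a b : Ω)
    (h2 : Nat.card (MulAction.orbit (MulAction.stabilizer G a) b) = 2) :
    Nat.card (MulAction.stabilizer G a) = 2 ∧ Nat.card (MulAction.stabilizer G b) = 2 ∧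
      MulAction.stabilizer G a ≠ MulAction.stabilizer G b ∧
      MulAction.stabilizer G a ⊔ MulAction.stabilizer G b = ⊤ := by
  have htrans : MulAction.IsPretransitive G Ω := hprim.toIsPretransitive
  set H := MulAction.stabilizer G a with hH
  set H' := MulAction.stabilizer G b with hH'
  -- index of the two point stabilizer in H
  have hstab : MulAction.stabilizer H b = H'.subgroupOf H := by
    ext x
    simp only [MulAction.mem_stabilizer_iff, Subgroup.mem_subgroupOf, hH']
    rfl
  have hidx : (H'.subgroupOf H).index = 2 := by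
    rw [← hstab, MulAction.index_stabilizer, ← Nat.card_coe_set_eq]
    exact h2
  have hne : H ≠ H' := by
    intro h
    have : H'.subgroupOf H = ⊤ := by rw [Subgroup.subgroupOf_eq_top, h]
    rw [this, Subgroup.index_top] at hidx
    omega
  have hab : a ≠ b := by
    intro h
    apply hne
    rw [hH, hH', h]
  have hnt : Nontrivial Ω := ⟨⟨a, b, hab⟩⟩
  have hmaxa : IsCoatom H := MulAction.IsPreprimitive.isCoatom_stabilizer_of_isPreprimitive G a
  have hmaxb : IsCoatom H' := MulAction.IsPreprimitive.isCoatom_stabilizer_of_isPreprimitive G b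
  have hsup : H ⊔ H' = ⊤ := by
    by_contra hcon
    have h1 : H ⊔ H' = H := by
      rcases eq_or_lt_of_le (le_sup_left : H ≤ H ⊔ H') with h | h
      · exact h.symm
      · exact absurd (hmaxa.2 _ h) hcon
    have h2 : H' ≤ H := by rw [← h1]; exact le_sup_right
    rcases eq_or_lt_of_le h2 with h | h
    · exact hne h.symm
    · exact hmaxa.1 (hmaxb.2 _ h)
  -- cardinalities
  have hcardeq : Nat.card H = Nat.card H' := by
    have e1 := Subgroup.card_mul_index H
    have e2 := Subgroup.card_mul_index H'
    have i1 : H.index = Nat.card Ω := MulAction.index_stabilizer_of_transitive G a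
    have i2 : H'.index = Nat.card Ω := MulAction.index_stabilizer_of_transitive G b
    rw [i1] at e1
    rw [i2] at e2
    have hpos : 0 < Nat.card Ω := Nat.card_pos
    exact Nat.eq_of_mul_eq_mul_right hpos (e1.trans e2.symm)
  set K := H ⊓ H' with hK
  have hKH : K.subgroupOf H = H'.subgroupOf H := Subgroup.inf_subgroupOf_left H' H
  have hKH' : K.subgroupOf H' = H.subgroupOf H' := Subgroup.inf_subgroupOf_right H H'
  have hcK1 : Nat.card (K.subgroupOf H) = Nat.card K :=
    Nat.card_congr (Subgroup.subgroupOfEquivOfLe inf_le_left).toEquiv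
  have hcK2 : Nat.card (K.subgroupOf H') = Nat.card K :=
    Nat.card_congr (Subgroup.subgroupOfEquivOfLe inf_le_right).toEquiv
  have hidx1 : (K.subgroupOf H).index = 2 := by rw [hKH]; exact hidx
  have hidx2 : (K.subgroupOf H').index = 2 := by
    have e1 := Subgroup.card_mul_index (K.subgroupOf H)
    have e2 := Subgroup.card_mul_index (K.subgroupOf H')
    rw [hcK1, hidx1] at e1
    rw [hcK2, ← hcardeq, ← e1] at e2
    have hpos : 0 < Nat.card K := Nat.card_pos
    exact Nat.eq_of_mul_eq_mul_left hpos e2
  have hn1 : (K.subgroupOf H).Normal := Subgroup.normal_of_index_eq_two hidx1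
  have hn2 : (K.subgroupOf H').Normal := Subgroup.normal_of_index_eq_two hidx2
  have hle1 : H ≤ Subgroup.normalizer (K : Set G) :=
    (Subgroup.normal_subgroupOf_iff_le_normalizer inf_le_left).mp hn1
  have hle2 : H' ≤ Subgroup.normalizer (K : Set G) :=
    (Subgroup.normal_subgroupOf_iff_le_normalizer inf_le_right).mp hn2
  have hKn : K.Normal := by
    rw [← Subgroup.normalizer_eq_top_iff, eq_top_iff, ← hsup]
    exact sup_le hle1 hle2
  have hK0 : K = ⊥ := eq_bot_of_normal_le_stabilizer K hKn a inf_le_left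
  have hcH : Nat.card H = 2 := by
    have e1 := Subgroup.card_mul_index (K.subgroupOf H)
    rw [hcK1, hidx1, hK0, Subgroup.card_bot] at e1
    omega
  exact ⟨hcH, hcardeq ▸ hcH, hne, hsup⟩

end Act


/-- Let a finite group G act faithfully and primitively on a set Ω, and suppose the stabilizer of a point a has an orbit of length 2. Then the stabilizer of a has order 2 and G is isomorphic to the dihedral group of order 2p for some prime p. -/
theorem result {G Ω : Type*} [Group G] [Finite G] [MulAction G Ω] [FaithfulSMul G Ω] [Finite Ω]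
    (hprim : MulAction.IsPreprimitive G Ω) (a b : Ω) (h2 : Nat.card (MulAction.orbit (MulAction.stabilizer G a) b) = 2) :
    Nat.card (MulAction.stabilizer G a) = 2 ∧ ∃ p : ℕ, p.Prime ∧ Nonempty (G ≃* DihedralGroup p) := by
  obtain ⟨hcH, hcH', hne, hsup⟩ := card_stabilizer_eq_two hprim a b h2
  refine ⟨hcH, ?_⟩
  have htrans : MulAction.IsPretransitive G Ω := hprim.toIsPretransitive
  obtain ⟨s, hs1, hss, hHs⟩ := exists_involution_of_card_two _ hcH
  obtain ⟨t, ht1, htt, hHt⟩ := exists_involution_of_card_two _ hcH'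
  rw [hHs, hHt] at hsup
  have hsinv : s⁻¹ = s := inv_eq_of_mul_eq_one_left hss
  have htinv : t⁻¹ = t := inv_eq_of_mul_eq_one_left htt
  have hst : s ≠ t := by
    intro h
    apply hne
    rw [hHs, hHt, h]
  set ρ := s * t with hρ
  set R := Subgroup.zpowers ρ with hR
  have hρ1 : ρ ≠ 1 := by
    intro h
    apply hst
    have : s * t = 1 := h
    have h3 : t = s⁻¹ := eq_inv_of_mul_eq_one_right this
    rw [h3, hsinv]
  have hsρ : s * ρ * s⁻¹ = ρ⁻¹ := by
    rw [hρ, mul_inv_rev, hsinv, htinv, ← mul_assoc, hss, one_mul]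
  have htρ : t * ρ * t⁻¹ = ρ⁻¹ := by
    rw [hρ, mul_inv_rev, hsinv, htinv, mul_assoc, mul_assoc, htt, mul_one]
  -- every subgroup of R is normal in G
  have hnormal : ∀ C : Subgroup G, C ≤ R → C.Normal := by
    intro C hC
    rw [← Subgroup.normalizer_eq_top_iff, eq_top_iff, ← hsup, sup_le_iff]
    constructor
    · rw [Subgroup.zpowers_le]
      exact mem_normalizer_of_inverts s hss C
        (fun c hc => conj_eq_inv_of_mem_zpowers s ρ hsρ c (hC hc))
    · rw [Subgroup.zpowers_le]
      exact mem_normalizer_of_inverts t htt C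
        (fun c hc => conj_eq_inv_of_mem_zpowers t ρ htρ c (hC hc))
  -- elements of R commute
  have hRcomm : ∀ x ∈ R, ∀ y ∈ R, x * y = y * x := by
    rintro x ⟨i, rfl⟩ y ⟨j, rfl⟩
    exact (zpow_mul_comm ρ i j)
  -- nontrivial subgroups of R are regular, hence have |Ω| elements
  have hcardC : ∀ C : Subgroup G, C ≤ R → C ≠ ⊥ → Nat.card C = Nat.card Ω := by
    intro C hC hC0
    have hCt : MulAction.IsPretransitive C Ω := transitive_of_normal hprim C (hnormal C hC) hC0
    have hstab : MulAction.stabilizer C a = ⊥ := by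
      rw [Subgroup.eq_bot_iff_forall]
      intro c hc
      rw [MulAction.mem_stabilizer_iff] at hc
      apply Subtype.ext
      exact eq_one_of_commute_of_fix C hCt c
        (fun x hx => hRcomm x (hC hx) c (hC c.2)) a hc
    have := MulAction.index_stabilizer_of_transitive C a
    rw [hstab, Subgroup.index_bot] at this
    exact this
  have hR0 : R ≠ ⊥ := by
    intro h
    apply hρ1
    have : ρ ∈ R := Subgroup.mem_zpowers ρ
    rw [h, Subgroup.mem_bot] at this
    exact this
  have hcardR : Nat.card R = Nat.card Ω := hcardC R le_rfl hR0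
  -- R has prime order
  have hRnt : Nontrivial R := (Subgroup.nontrivial_iff_ne_bot R).mpr hR0
  have hcoatom : IsCoatom (⊥ : Subgroup R) := by
    constructor
    · exact bot_ne_top
    · intro D hD
      have hD0 : D ≠ ⊥ := ne_of_gt hD
      have hC : D.map R.subtype ≤ R := Subgroup.map_subtype_le D
      have hC0 : D.map R.subtype ≠ ⊥ := by
        intro h
        exact hD0 ((Subgroup.map_eq_bot_iff_of_injective D R.subtype_injective).mp h)
      have hcC := hcardC _ hC hC0
      have hCR : D.map R.subtype = R := by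
        apply Subgroup.eq_of_le_of_card_ge hC
        rw [hcC, hcardR]
      apply Subgroup.map_injective R.subtype_injective
      rw [hCR, ← MonoidHom.range_eq_map, Subgroup.range_subtype]
  have hprime : (Nat.card R).Prime := (cyclic_prime_of_isCoatom_bot hcoatom).2
  have hord : orderOf ρ = Nat.card Ω := by
    rw [← hcardR, hR, Nat.card_zpowers]
  have hcardG : Nat.card G = 2 * Nat.card Ω := by
    have e1 := Subgroup.card_mul_index (MulAction.stabilizer G a)
    rw [MulAction.index_stabilizer_of_transitive G a, hcH] at e1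
    exact e1.symm
  have hΩ0 : Nat.card Ω ≠ 0 := by
    rw [← hcardR]; exact hprime.ne_zero
  have hpow : (s * t) ^ (Nat.card Ω) = 1 := by
    rw [← hord]; exact pow_orderOf_eq_one ρ
  obtain ⟨e⟩ := dihedral_equiv s t hss htt (Nat.card Ω) hΩ0 hpow hsup hcardG
  exact ⟨Nat.card Ω, hcardR ▸ hprime, ⟨e.symm⟩⟩

end Cfsg.Agent.S3684
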