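import Mathlib
import Cfsg.Statements.S0577
import Cfsg.Agent.Lib.Helper96.WielandtHall
import Cfsg.Agent.Lib.Helper48.Coprime
import Cfsg.Agent.Lib.Helper1.Fitting

set_option autoImplicit false
open Cfsg
open scoped commutatorElement

namespace Cfsg.Agent.S0577

open Cfsg.Agent.Lib.Helper96

/-- In a finite nilpotent group the commutator subgroup lies in the Frattini subgroup. -/
theorem commutator_le_frattini_of_isNilpotent {N : Type*} [Group N] [Finite N]
    [hN : Group.IsNilpotent N] : commutator N ≤ frattini N := by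
  unfold frattini Order.radical
  refine le_iInf₂ ?_
  intro M hM
  have hnc := Group.normalizerCondition_of_isNilpotent (G := N)
  have hMn : M.Normal := by
    rw [← Subgroup.normalizer_eq_top_iff]
    exact hM.2 _ (hnc M (lt_top_iff_ne_top.mpr hM.1))
  rw [← Subgroup.Normal.quotient_commutative_iff_commutator_le]
  have hnt : Nontrivial (N ⧸ M) := by
    rw [← not_subsingleton_iff_nontrivial]
    intro hss
    exact hM.1 (QuotientGroup.subgroup_eq_top_of_subsingleton M hss)
  have hcne : Subgroup.center (N ⧸ M) ≠ ⊥ := Group.IsNilpotent.center_ne_bot (N ⧸ M)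
  have hle : M ≤ (Subgroup.center (N ⧸ M)).comap (QuotientGroup.mk' M) := by
    intro m hm
    rw [Subgroup.mem_comap, QuotientGroup.mk'_apply, (QuotientGroup.eq_one_iff m).mpr hm]
    exact Subgroup.one_mem _
  have hne : M ≠ (Subgroup.center (N ⧸ M)).comap (QuotientGroup.mk' M) := by
    intro heq
    apply hcne
    rw [eq_bot_iff]
    intro z hz
    obtain ⟨g, rfl⟩ := QuotientGroup.mk'_surjective M z
    have h1 : g ∈ (Subgroup.center (N ⧸ M)).comap (QuotientGroup.mk' M) := hz
    rw [← heq] at h1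
    rw [Subgroup.mem_bot]
    exact (QuotientGroup.eq_one_iff g).mpr h1
  have htop := hM.2 _ (lt_of_le_of_ne hle hne)
  refine ⟨⟨fun a b => ?_⟩⟩
  obtain ⟨a', rfl⟩ := QuotientGroup.mk'_surjective M a
  have ha : a' ∈ (Subgroup.center (N ⧸ M)).comap (QuotientGroup.mk' M) := by rw [htop]; trivial
  exact ((Subgroup.mem_center_iff.mp ha) b).symm

/-- Coprime action: if `[Q, P] ≤ Q'` for a `p`-group `P` normalizing the nilpotent `p'`-group `Q`,
then `P` centralizes `Q`. -/
theorem le_centralizer_of_commutator_le_commutator {G : Type*} [Group G] [Finite G] {p : ℕ}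
    [Fact p.Prime] (P Q : Subgroup G) (hP : IsPGroup p P) (hQnil : Group.IsNilpotent Q)
    (hQp : ¬ p ∣ Nat.card Q) (hPQ : P ≤ Subgroup.normalizer (Q : Set G))
    (h : ⁅Q, P⁆ ≤ (commutator Q).map Q.subtype) : Q ≤ Subgroup.centralizer (P : Set G) := by
  have hC : ((Q ⊓ Subgroup.centralizer (P : Set G)).subgroupOf Q) ⊔ frattini Q = ⊤ := by
    rw [eq_top_iff]
    intro x _
    obtain ⟨c, hc, w, hw, hxcw⟩ :=
      Cfsg.Agent.Lib.Helper48.exists_centralizer_mul_commutator hP hQp hPQ x.2
    obtain ⟨w', hw', hww'⟩ := h hw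
    have hw'' : w' ∈ frattini Q := commutator_le_frattini_of_isNilpotent hw'
    have hc' : (⟨c, hc.1⟩ : Q) ∈ (Q ⊓ Subgroup.centralizer (P : Set G)).subgroupOf Q := by
      rw [Subgroup.mem_subgroupOf]; exact hc
    have hx : x = ⟨c, hc.1⟩ * w' := by
      apply Subtype.ext
      rw [Subgroup.coe_mul, hxcw, ← hww']
      rfl
    rw [hx]
    exact Subgroup.mul_mem_sup hc' hw''
  have htop := frattini_nongenerating hC
  intro x hx
  have h1 : (⟨x, hx⟩ : Q) ∈ (Q ⊓ Subgroup.centralizer (P : Set G)).subgroupOf Q := by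
    rw [htop]; trivial
  rw [Subgroup.mem_subgroupOf] at h1
  exact h1.2

/-- a cyclic group is commutative -/
theorem isMulCommutative_of_isCyclic {A : Type*} [Group A] [IsCyclic A] : IsMulCommutative A := by
  obtain ⟨g, hg⟩ := IsCyclic.exists_generator (α := A)
  refine ⟨⟨fun a b => ?_⟩⟩
  obtain ⟨m, rfl⟩ := Subgroup.mem_zpowers_iff.mp (hg a)
  obtain ⟨n, rfl⟩ := Subgroup.mem_zpowers_iff.mp (hg b)
  exact (Commute.zpow_zpow_self g m n).eq

/-- Let G be a finite minimal non-nilpotent group and Q a normal Sylow q-subgroup of G, and let D be the commutator subgroup of Q regarded in G (a normal subgroup). Then G modulo D is non-abelian and all its proper subgroups are abelian. -/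
theorem result {G : Type*} [Group G] [Finite G] (hG : Cfsg.IsMinimalNonNilpotent G) (q : ℕ) [Fact q.Prime] (hq : q ∣ Nat.card G) (Q : Sylow q G) (hQ : (Q : Subgroup G).Normal) (D : Subgroup G) [D.Normal] (hD : D = (commutator ↥(Q : Subgroup G)).map (Q : Subgroup G).subtype) : ¬ IsMulCommutative (G ⧸ D) ∧ ∀ K : Subgroup (G ⧸ D), K ≠ ⊤ → IsMulCommutative K := by
  classical
  obtain ⟨p, q₀, hp, hq₀, hpq, P, Q₀, hPcyc, hQ₀n, hPQ, hPn⟩ :=
    minimalNonNilpotent_structure hG.1 hG.2
  have hpF : Fact p.Prime := ⟨hp⟩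
  have hq₀F : Fact q₀.Prime := ⟨hq₀⟩
  have hcard : Nat.card G ∣ Nat.card (Q₀ : Subgroup G) * Nat.card (P : Subgroup G) := by
    have h1 := Cfsg.Agent.Lib.Helper1.card_sup_dvd_mul_of_normal_left (Q₀ : Subgroup G) (P : Subgroup G)
    rwa [sup_comm, hPQ, Subgroup.card_top] at h1
  obtain ⟨a, ha⟩ := P.isPGroup'.exists_card_eq
  have hqq : q₀ = q := by
    obtain ⟨b, hb⟩ := Q₀.isPGroup'.exists_card_eq
    have h1 := hq.trans hcard
    rw [ha, hb] at h1
    rcases (Nat.Prime.dvd_mul Fact.out).mp h1 with h2 | h2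
    · exact ((Nat.prime_dvd_prime_iff_eq Fact.out hq₀).mp
        ((Fact.out : q.Prime).dvd_of_dvd_pow h2)).symm
    · exfalso
      have hqp : q = p := (Nat.prime_dvd_prime_iff_eq Fact.out hp).mp
        ((Fact.out : q.Prime).dvd_of_dvd_pow h2)
      subst hqp
      apply hPn
      have := Sylow.unique_of_normal Q hQ
      rw [Subsingleton.elim P Q]; exact hQ
  subst hqq
  have hQQ₀ : Q₀ = Q := by
    have := Sylow.unique_of_normal Q hQ
    exact Subsingleton.elim _ _
  subst hQQ₀
  have hQidx : (Q₀ : Subgroup G).index ∣ p ^ a := by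
    rw [← ha]
    have h1 := (Q₀ : Subgroup G).card_mul_index
    rw [← h1] at hcard
    exact Nat.dvd_of_mul_dvd_mul_left Nat.card_pos hcard
  have hQp : ¬ p ∣ Nat.card (Q₀ : Subgroup G) := by
    obtain ⟨b, hb⟩ := Q₀.isPGroup'.exists_card_eq
    rw [hb]
    intro h
    exact hpq ((Nat.prime_dvd_prime_iff_eq hp hq₀).mp (hp.dvd_of_dvd_pow h))
  refine ⟨?_, ?_⟩
  · intro hcomm
    have hle : commutator G ≤ D := Subgroup.Normal.quotient_commutative_iff_commutator_le.mp hcomm
    apply hPn
    have hQnil : Group.IsNilpotent (Q₀ : Subgroup G) := Q₀.isPGroup'.isNilpotent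
    have hPQn : (P : Subgroup G) ≤ Subgroup.normalizer ((Q₀ : Subgroup G) : Set G) := by
      rw [Subgroup.normalizer_eq_top_iff.mpr hQ]; exact le_top
    have hcen : (Q₀ : Subgroup G) ≤ Subgroup.centralizer ((P : Subgroup G) : Set G) :=
      le_centralizer_of_commutator_le_commutator (P : Subgroup G) (Q₀ : Subgroup G) P.isPGroup'
        hQnil hQp hPQn (by
          rw [← hD]
          exact (Subgroup.commutator_mono le_top le_top).trans hle)
    rw [← Subgroup.normalizer_eq_top_iff, eq_top_iff, ← hPQ]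
    exact sup_le Subgroup.le_normalizer (hcen.trans (Subgroup.centralizer_le_normalizer _))
  · intro K hK
    have hKt_ne : K.comap (QuotientGroup.mk' D) ≠ ⊤ := by
      intro h
      apply hK
      rw [← Subgroup.map_comap_eq_self_of_surjective (QuotientGroup.mk'_surjective D) K, h,
        Subgroup.map_top_of_surjective _ (QuotientGroup.mk'_surjective D)]
    have hnil := hG.2 _ hKt_ne
    have hPcomm : IsMulCommutative (P : Subgroup G) := isMulCommutative_of_isCyclic
    have hGQ : commutator G ≤ (Q₀ : Subgroup G) :=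
      Subgroup.Normal.commutator_le_of_self_sup_commutative_eq_top (N := (Q₀ : Subgroup G))
        (H := (P : Subgroup G)) (by rw [sup_comm]; exact hPQ) hPcomm
    let ST : Sylow p (K.comap (QuotientGroup.mk' D)) := Classical.arbitrary _
    have hT_le : (ST : Subgroup _).map (K.comap (QuotientGroup.mk' D)).subtype ≤
        K.comap (QuotientGroup.mk' D) := Subgroup.map_subtype_le _
    have hTp : IsPGroup p ((ST : Subgroup _).map (K.comap (QuotientGroup.mk' D)).subtype) :=
      ST.isPGroup'.map _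
    have hUq : IsPGroup q₀ (K.comap (QuotientGroup.mk' D) ⊓ (Q₀ : Subgroup G) : Subgroup G) :=
      Q₀.isPGroup'.to_le inf_le_right
    -- `K̃ = U T`
    have hKt_eq : K.comap (QuotientGroup.mk' D) ≤
        (K.comap (QuotientGroup.mk' D) ⊓ (Q₀ : Subgroup G)) ⊔
          (ST : Subgroup _).map (K.comap (QuotientGroup.mk' D)).subtype := by
      rw [← Subgroup.relIndex_eq_one]
      have hd1 := Subgroup.relIndex_dvd_of_le_left (K.comap (QuotientGroup.mk' D))
        (le_sup_right : (ST : Subgroup _).map (K.comap (QuotientGroup.mk' D)).subtype ≤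
          (K.comap (QuotientGroup.mk' D) ⊓ (Q₀ : Subgroup G)) ⊔
          (ST : Subgroup _).map (K.comap (QuotientGroup.mk' D)).subtype)
      have hd2 := Subgroup.relIndex_dvd_of_le_left (K.comap (QuotientGroup.mk' D))
        (le_sup_left : (K.comap (QuotientGroup.mk' D) ⊓ (Q₀ : Subgroup G)) ≤
          (K.comap (QuotientGroup.mk' D) ⊓ (Q₀ : Subgroup G)) ⊔
          (ST : Subgroup _).map (K.comap (QuotientGroup.mk' D)).subtype)
      have h1 : ((ST : Subgroup _).map (K.comap (QuotientGroup.mk' D)).subtype).relIndex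
          (K.comap (QuotientGroup.mk' D)) =
          (ST : Subgroup (K.comap (QuotientGroup.mk' D))).index := by
        rw [Subgroup.relIndex, Subgroup.subgroupOf,
          Subgroup.comap_map_eq_self_of_injective (Subgroup.subtype_injective _)]
      have h2 : (K.comap (QuotientGroup.mk' D) ⊓ (Q₀ : Subgroup G)).relIndex
          (K.comap (QuotientGroup.mk' D)) ∣ p ^ a := by
        rw [Subgroup.inf_relIndex_left]
        exact (Subgroup.relIndex_dvd_index_of_normal (Q₀ : Subgroup G) _).trans hQidx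
      rw [h1] at hd1
      obtain ⟨j, _, hj⟩ := (Nat.dvd_prime_pow hp).mp (hd2.trans h2)
      rcases Nat.eq_zero_or_pos j with rfl | hjpos
      · simpa using hj
      · exfalso
        apply ST.not_dvd_index
        refine dvd_trans ?_ hd1
        rw [hj]
        exact dvd_pow_self p hjpos.ne'
    -- the generating set commutes modulo `D`
    have hkey : ∀ u ∈ ((K.comap (QuotientGroup.mk' D) ⊓ (Q₀ : Subgroup G) : Subgroup G) : Set G) ∪
        (((ST : Subgroup _).map (K.comap (QuotientGroup.mk' D)).subtype : Subgroup G) : Set G),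
        ∀ v ∈ ((K.comap (QuotientGroup.mk' D) ⊓ (Q₀ : Subgroup G) : Subgroup G) : Set G) ∪
        (((ST : Subgroup _).map (K.comap (QuotientGroup.mk' D)).subtype : Subgroup G) : Set G),
        (u * v)⁻¹ * (v * u) ∈ D := by
      have hUTnil : Group.IsNilpotent ((K.comap (QuotientGroup.mk' D) ⊓ (Q₀ : Subgroup G)) ⊔
          (ST : Subgroup _).map (K.comap (QuotientGroup.mk' D)).subtype : Subgroup G) :=
        Cfsg.Agent.Lib.Helper65.isNilpotent_of_le (sup_le inf_le_left hT_le) hnil
      have hcase1 : ∀ u ∈ (Q₀ : Subgroup G), ∀ v ∈ (Q₀ : Subgroup G), (u * v)⁻¹ * (v * u) ∈ D := by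
        intro u hu v hv
        rw [hD]
        refine ⟨⁅(⟨v, hv⟩ : (Q₀ : Subgroup G))⁻¹, (⟨u, hu⟩ : (Q₀ : Subgroup G))⁻¹⁆, ?_, ?_⟩
        · rw [SetLike.mem_coe, commutator_def]
          exact Subgroup.commutator_mem_commutator (Subgroup.mem_top _) (Subgroup.mem_top _)
        · simp [commutatorElement_def, mul_assoc]
      have hcase2 : ∀ u ∈ (K.comap (QuotientGroup.mk' D) ⊓ (Q₀ : Subgroup G) : Subgroup G),
          ∀ v ∈ ((ST : Subgroup _).map (K.comap (QuotientGroup.mk' D)).subtype : Subgroup G),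
          u * v = v * u := by
        intro u hu v hv
        exact commute_of_isNilpotent_sup (fun h => hpq h.symm) hUq hTp hUTnil hu hv
      have hcase3 : ∀ u ∈ ((ST : Subgroup _).map (K.comap (QuotientGroup.mk' D)).subtype : Subgroup G),
          ∀ v ∈ ((ST : Subgroup _).map (K.comap (QuotientGroup.mk' D)).subtype : Subgroup G),
          (u * v)⁻¹ * (v * u) = 1 := by
        intro u hu v hv
        apply eq_one_of_mem_isPGroup_of_mem_isPGroup hpq hTp Q₀.isPGroup'
        · exact Subgroup.mul_mem _ (Subgroup.inv_mem _ (Subgroup.mul_mem _ hu hv))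
            (Subgroup.mul_mem _ hv hu)
        · apply hGQ
          have h1 : (u * v)⁻¹ * (v * u) = ⁅v⁻¹, u⁻¹⁆ := by
            simp [commutatorElement_def, mul_assoc]
          rw [h1, commutator_def]
          exact Subgroup.commutator_mem_commutator (Subgroup.mem_top _) (Subgroup.mem_top _)
      intro u hu v hv
      rcases hu with hu | hu <;> rcases hv with hv | hv
      · exact hcase1 u hu.2 v hv.2
      · rw [hcase2 u hu v hv]; simp
      · rw [← hcase2 v hv u hu]; simp
      · rw [hcase3 u hu v hv]; exact D.one_mem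
    have hcommS : ∀ x ∈ (QuotientGroup.mk' D) ''
        (((K.comap (QuotientGroup.mk' D) ⊓ (Q₀ : Subgroup G) : Subgroup G) : Set G) ∪
        (((ST : Subgroup _).map (K.comap (QuotientGroup.mk' D)).subtype : Subgroup G) : Set G)),
        ∀ y ∈ (QuotientGroup.mk' D) ''
        (((K.comap (QuotientGroup.mk' D) ⊓ (Q₀ : Subgroup G) : Subgroup G) : Set G) ∪
        (((ST : Subgroup _).map (K.comap (QuotientGroup.mk' D)).subtype : Subgroup G) : Set G)),
        x * y = y * x := by
      rintro _ ⟨u, hu, rfl⟩ _ ⟨v, hv, rfl⟩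
      rw [QuotientGroup.mk'_apply, QuotientGroup.mk'_apply, ← QuotientGroup.mk_mul,
        ← QuotientGroup.mk_mul, QuotientGroup.eq]
      exact hkey u hu v hv
    have hcl := Subgroup.isMulCommutative_closure hcommS
    have hKle : K ≤ Subgroup.closure ((QuotientGroup.mk' D) ''
        (((K.comap (QuotientGroup.mk' D) ⊓ (Q₀ : Subgroup G) : Subgroup G) : Set G) ∪
        (((ST : Subgroup _).map (K.comap (QuotientGroup.mk' D)).subtype : Subgroup G) : Set G))) := by
      rw [← MonoidHom.map_closure, ← Subgroup.sup_eq_closure]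
      have h1 : K = (K.comap (QuotientGroup.mk' D)).map (QuotientGroup.mk' D) :=
        (Subgroup.map_comap_eq_self_of_surjective (QuotientGroup.mk'_surjective D) K).symm
      exact h1.le.trans (Subgroup.map_mono hKt_eq)
    refine ⟨⟨fun x y => Subtype.ext ?_⟩⟩
    have h1 := hcl.is_comm.comm ⟨x, hKle x.2⟩ ⟨y, hKle y.2⟩
    show (x : G ⧸ D) * (y : G ⧸ D) = (y : G ⧸ D) * (x : G ⧸ D)
    exact congrArg Subtype.val h1

end Cfsg.Agent.S0577
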