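import Cfsg.Statements.S0680
import Cfsg.Agent.Lib.Helper59.SharpTwo

set_option autoImplicit false
open Cfsg

namespace Cfsg.Agent.S0680

open MulAction Cfsg.Agent.Lib.Helper59 in
/-- the properties of the regular normal subgroup, for any subgroup equal to it -/
theorem props {α : Type*} [Fintype α] (G : Subgroup (Equiv.Perm α)) (p : ℕ)
    (N : Subgroup G) (hNnormal : N.Normal)
    (hNmem : ∀ g : G, g ∈ N ↔ g = 1 ∨ ∀ a : α, g • a ≠ a)
    (hNcard : Nat.card N = Nat.card α)
    (hNcomm : ∀ x ∈ N, ∀ y ∈ N, x * y = y * x)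
    (hNexp : ∀ x ∈ N, x ^ p = 1) :
    N.Normal ∧ IsMulCommutative N ∧ (∀ x ∈ N, x ^ p = 1) ∧ MulAction.IsPretransitive N α ∧
      (∀ a : α, MulAction.stabilizer N a = ⊥) ∧
      ∀ g : G, g ∈ N ↔ g = 1 ∨ ∀ a : α, g • a ≠ a := by
  have hfree : ∀ (x : N) (a : α), x • a = a → x = 1 := by
    intro x a hxa
    rcases (hNmem x).mp x.2 with h | h
    · exact Subtype.ext h
    · exact absurd hxa (h a)
  refine ⟨hNnormal, ⟨⟨fun a b => Subtype.ext (hNcomm a a.2 b b.2)⟩⟩, hNexp, ⟨fun a b => ?_⟩,
    fun a => ?_, hNmem⟩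
  · have hinj : Function.Injective (fun x : N => x • a) := by
      intro x y hxy
      have h1 : (y⁻¹ * x) • a = a := by
        rw [mul_smul]
        show y⁻¹ • x • a = a
        rw [show x • a = y • a from hxy, inv_smul_smul]
      have := hfree _ a h1
      rw [inv_mul_eq_one] at this
      exact this.symm
    have hbij := hinj.bijective_of_nat_card_le hNcard.ge
    obtain ⟨x, hx⟩ := hbij.2 b
    exact ⟨x, hx⟩
  · rw [eq_bot_iff]
    intro x hx
    rw [mem_stabilizer_iff] at hx
    exact Subgroup.mem_bot.mpr (hfree x a hx)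

open MulAction Cfsg.Agent.Lib.Helper59 in
/-- A finite sharply doubly transitive permutation group has degree a prime power `p ^ j`; a Sylow `p`-subgroup is normal, elementary abelian and regular, and consists of the identity together with the elements without fixed points. (Frobenius' Theorem is not needed.) -/
theorem result {α : Type*} [Fintype α] [DecidableEq α] (G : Subgroup (Equiv.Perm α)) [MulAction.IsMultiplyPretransitive G α 2] (hsharp : ∀ x : Fin 2 ↪ α, MulAction.stabilizer G x = ⊥) (h2 : 2 ≤ Fintype.card α) : ∃ p j : ℕ, p.Prime ∧ 1 ≤ j ∧ Fintype.card α = p ^ j ∧ ∀ (hp : Fact p.Prime) (P : Sylow p G), (P : Subgroup G).Normal ∧ IsMulCommutative (P : Subgroup G) ∧ (∀ x ∈ (P : Subgroup G), x ^ p = 1) ∧ MulAction.IsPretransitive (P : Subgroup G) α ∧ (∀ a : α, MulAction.stabilizer (P : Subgroup G) a = ⊥) ∧ ∀ g : G, g ∈ (P : Subgroup G) ↔ g = 1 ∨ ∀ a : α, g • a ≠ a := by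
  have htr : IsPretransitive G α := isPretransitive_of_is_two_pretransitive
  have hfix2 : ∀ (g : G) (a b : α), a ≠ b → g • a = a → g • b = b → g = 1 := by
    intro g a b hab ha hb
    have : g ∈ stabilizer G (Function.Embedding.embFinTwo hab) := by
      rw [mem_stabilizer_iff]
      ext i
      fin_cases i
      · exact ha
      · exact hb
    rw [hsharp] at this
    exact Subgroup.mem_bot.mp this
  have hn : 2 ≤ Nat.card α := by rw [Nat.card_eq_fintype_card]; exact h2
  have hcard : Nat.card G = Nat.card α * (Nat.card α - 1) := by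
    obtain ⟨a, b, hab⟩ : ∃ a b : α, a ≠ b := Fintype.exists_pair_of_one_lt_card h2
    have h := @MulAction.index_stabilizer_of_transitive G (Fin 2 ↪ α) _ _
      (Function.Embedding.embFinTwo hab) (by exact ‹IsMultiplyPretransitive G α 2›)
    rw [hsharp, Subgroup.index_bot] at h
    rw [h, Nat.card_eq_fintype_card, Fintype.card_embedding_eq, Fintype.card_fin,
      Nat.card_eq_fintype_card]
    simp [Nat.descFactorial, Nat.mul_comm]
  obtain ⟨N, hNnormal, hNmem, hNcard, hNcomm, p, hp, hpdvd, hNexp⟩ :=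
    exists_regular_normal hfix2 hn hcard
  have hNp : IsPGroup p N := by
    intro x
    refine ⟨1, ?_⟩
    rw [pow_one]
    exact Subtype.ext (hNexp x x.2)
  have hpF : Fact p.Prime := ⟨hp⟩
  obtain ⟨j, hj⟩ := IsPGroup.iff_card.mp hNp
  have hj1 : 1 ≤ j := by
    rcases Nat.eq_zero_or_pos j with h0 | h0
    · rw [h0, pow_zero, hNcard] at hj
      omega
    · exact h0
  have hαj : Nat.card α = p ^ j := by rw [← hNcard, hj]
  refine ⟨p, j, hp, hj1, by rw [← Nat.card_eq_fintype_card, hαj], ?_⟩
  intro hp' P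
  have hidx : N.index = Nat.card α - 1 := by
    have h := N.card_mul_index
    rw [hNcard, hcard] at h
    exact Nat.eq_of_mul_eq_mul_left (by omega) h
  have hndvd : ¬ p ∣ N.index := by
    rw [hidx]
    intro hd
    have h1 := Nat.dvd_sub hpdvd hd
    have h2 : Nat.card α - (Nat.card α - 1) = 1 := by omega
    rw [h2] at h1
    exact hp.one_lt.ne' (Nat.dvd_one.mp h1)
  have hPN : (P : Subgroup G) = N :=
    (hNp.toSylow hndvd).is_maximal' P.isPGroup' (hNp.le_sylow_of_normal P)
  rw [hPN]
  exact props G p N hNnormal hNmem hNcard hNcomm hNexp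

end Cfsg.Agent.S0680
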