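import Cfsg.Statements.S5550
import Cfsg.Agent.Lib.Helper92.M24Trans

set_option autoImplicit false
open Cfsg

namespace Cfsg.Agent.S5550
open Cfsg.Agent.Lib.Helper7 Cfsg.Agent.Lib.Helper92
open Cfsg.Agent.Lib.Helper93 (IsGolayLike supp)
open scoped Pointwise

/-- Action of a permutation of the points on binary words. -/
def act (σ : Equiv.Perm GolayPt) (w : GolayPt → ZMod 2) : GolayPt → ZMod 2 := fun p => w (σ.symm p)

theorem act_apply (σ : Equiv.Perm GolayPt) (w : GolayPt → ZMod 2) (p : GolayPt) :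
    act σ w p = w (σ.symm p) := rfl

theorem act_one (w : GolayPt → ZMod 2) : act 1 w = w := rfl

theorem act_mul (σ τ : Equiv.Perm GolayPt) (w : GolayPt → ZMod 2) :
    act (σ * τ) w = act σ (act τ w) := rfl

theorem act_add (σ : Equiv.Perm GolayPt) (v w : GolayPt → ZMod 2) :
    act σ (v + w) = act σ v + act σ w := rfl

theorem act_sub (σ : Equiv.Perm GolayPt) (v w : GolayPt → ZMod 2) :
    act σ (v - w) = act σ v - act σ w := rfl

theorem act_mem {σ : Equiv.Perm GolayPt} (hσ : σ ∈ M24) {w : GolayPt → ZMod 2}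
    (hw : w ∈ golayCode) : act σ w ∈ golayCode :=
  permWord_mem_of_mem_M24 (inv_mem hσ) hw

theorem support₂_act (σ : Equiv.Perm GolayPt) (w : GolayPt → ZMod 2) :
    support₂ (act σ w) = σ • support₂ w := support₂_comp_symm σ w

theorem hammingNorm_act (σ : Equiv.Perm GolayPt) (w : GolayPt → ZMod 2) :
    hammingNorm (act σ w) = hammingNorm w := by
  rw [← card_support₂_eq_hammingNorm, ← card_support₂_eq_hammingNorm, support₂_act,
    Finset.card_smul_finset]

theorem act_inv_act (σ : Equiv.Perm GolayPt) (w : GolayPt → ZMod 2) : act σ⁻¹ (act σ w) = w := by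
  rw [← act_mul, inv_mul_cancel, act_one]

theorem act_pow_sub_mem {σ : Equiv.Perm GolayPt} (hσ : σ ∈ M24) {l : GolayPt → ZMod 2}
    (h : act σ l - l ∈ golayCode) (k : ℕ) : act (σ ^ k) l - l ∈ golayCode := by
  induction k with
  | zero => rw [pow_zero, act_one, sub_self]; exact golayCode.zero_mem
  | succ k ih =>
    have : act (σ ^ (k + 1)) l - l = act σ (act (σ ^ k) l - l) + (act σ l - l) := by
      rw [pow_succ', act_mul, act_sub]; abel
    rw [this]
    exact golayCode.add_mem (act_mem hσ ih) h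

/-- The light words (weight at most 4) of a coset: at most six, and at least one. -/
theorem exists_light_set (w : GolayPt → ZMod 2) : ∃ A : Finset (GolayPt → ZMod 2),
    (∀ u, u ∈ A ↔ u - w ∈ golayCode ∧ hammingNorm u ≤ 4) ∧ A.card ≤ 6 ∧ A.Nonempty := by
  classical
  have hA : ∀ u, u ∈ (Finset.univ.filter fun u : GolayPt → ZMod 2 =>
      u - w ∈ golayCode ∧ hammingNorm u ≤ 4) ↔ u - w ∈ golayCode ∧ hammingNorm u ≤ 4 := by
    intro u; simp
  refine ⟨_, hA, ?_⟩
  rcases golay_isGolayLike.coset_structure w _ hA with ⟨u, hu, _⟩ | ⟨h6, _, _⟩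
  · rw [hu]; simp
  · rw [h6]; exact ⟨le_refl _, Finset.card_pos.mp (by omega)⟩

/-- If a power `τ` of `σ` fixes the word `l` of weight at most four, and `l x ≠ 0`, then some
`τ ^ e` with `1 ≤ e ≤ 4` fixes `x`. -/
theorem exists_pow_fix {τ : Equiv.Perm GolayPt} {l : GolayPt → ZMod 2} (hτ : act τ l = l)
    (hl : hammingNorm l ≤ 4) {x : GolayPt} (hx : l x ≠ 0) :
    ∃ e, 1 ≤ e ∧ e ≤ 4 ∧ (τ ^ e) x = x := by
  have hmem : ∀ e : ℕ, l ((τ ^ e) x) ≠ 0 := by
    intro e
    induction e with
    | zero => simpa using hx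
    | succ e ih =>
      have h1 : l ((τ ^ (e + 1)) x) = act τ l ((τ ^ (e + 1)) x) := by rw [hτ]
      rw [h1, act_apply, pow_succ', Equiv.Perm.mul_apply, Equiv.symm_apply_apply]
      exact ih
  have hmaps : ∀ e ∈ Finset.range 5, (τ ^ e) x ∈ support₂ l := by
    intro e _
    simp only [support₂, Finset.mem_filter, Finset.mem_univ, true_and]
    exact hmem e
  have hcard : (support₂ l).card < (Finset.range 5).card := by
    rw [card_support₂_eq_hammingNorm, Finset.card_range]; omega
  obtain ⟨i, hi, j, hj, hij, heq⟩ := Finset.exists_ne_map_eq_of_card_lt_of_maps_to hcard hmaps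
  have key : ∀ i j : ℕ, i < j → j < 5 → (τ ^ i) x = (τ ^ j) x →
      ∃ e, 1 ≤ e ∧ e ≤ 4 ∧ (τ ^ e) x = x := by
    intro i j hij hj heq
    refine ⟨j - i, by omega, by omega, ?_⟩
    have : τ ^ j = τ ^ i * τ ^ (j - i) := by rw [← pow_add]; congr 1; omega
    rw [this, Equiv.Perm.mul_apply] at heq
    exact ((τ ^ i).injective heq).symm
  rw [Finset.mem_range] at hi hj
  rcases Nat.lt_or_gt_of_ne hij with h | h
  · exact key i j h hj heq
  · exact key j i h hi heq.symm

/-- An element of `M24` of prime order at least 7 that moves a point of the support of a nonzero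
word `l` of weight at most 4 moves the coset of `l`. -/
theorem lemmaA {σ : Equiv.Perm GolayPt} (hσ : σ ∈ M24) {p : ℕ} (hp : p.Prime) (h7 : 7 ≤ p)
    (hord : orderOf σ = p) {l : GolayPt → ZMod 2} (hl : hammingNorm l ≤ 4) {x : GolayPt}
    (hx : l x ≠ 0) (hmove : σ x ≠ x) : act σ l - l ∉ golayCode := by
  intro hC
  obtain ⟨A, hA, hA6, _⟩ := exists_light_set l
  have hmaps : ∀ k ∈ Finset.range 7, act (σ ^ k) l ∈ A := by
    intro k _
    rw [hA]
    exact ⟨act_pow_sub_mem hσ hC k, by rw [hammingNorm_act]; exact hl⟩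
  have hcard : A.card < (Finset.range 7).card := by rw [Finset.card_range]; omega
  obtain ⟨i, hi, j, hj, hij, heq⟩ := Finset.exists_ne_map_eq_of_card_lt_of_maps_to hcard hmaps
  -- the period of `x` under `σ` is `p`
  have hper : MulAction.period σ x = p := by
    have hdvd : MulAction.period σ x ∣ p := hord ▸ MulAction.period_dvd_orderOf σ x
    rcases (Nat.dvd_prime hp).mp hdvd with h1 | h1
    · exfalso
      apply hmove
      have := MulAction.pow_period_smul σ x
      rw [h1, pow_one] at this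
      exact this
    · exact h1
  have key : ∀ i j : ℕ, i < j → j < 7 → act (σ ^ i) l = act (σ ^ j) l → False := by
    intro i j hij hj heq
    have hpow : σ ^ j = σ ^ i * σ ^ (j - i) := by rw [← pow_add]; congr 1; omega
    rw [hpow, act_mul] at heq
    have hτ : act (σ ^ (j - i)) l = l := by
      have := congrArg (act (σ ^ i)⁻¹) heq
      rw [act_inv_act, act_inv_act] at this
      exact this.symm
    obtain ⟨e, he1, he4, hfix⟩ := exists_pow_fix hτ hl hx
    rw [← pow_mul] at hfix
    have hdvd : p ∣ (j - i) * e := by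
      rw [← hper]
      exact MulAction.pow_smul_eq_iff_period_dvd.mp hfix
    rcases (Nat.Prime.dvd_mul hp).mp hdvd with h | h
    · have := Nat.le_of_dvd (by omega) h; omega
    · have := Nat.le_of_dvd (by omega) h; omega
  rw [Finset.mem_range] at hi hj
  rcases Nat.lt_or_gt_of_ne hij with h | h
  · exact key i j h hj heq
  · exact key j i h hi heq.symm

/-! ### Elements of prime order at least 7 in stabilizers of code words -/

theorem m24Word_append (w1 w2 : List ℕ) : m24Word (w1 ++ w2) = m24Word w1 * m24Word w2 := by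
  simp [m24Word]

theorem m24Word_replicate (n : ℕ) (w : List ℕ) :
    m24Word (List.flatten (List.replicate n w)) = m24Word w ^ n := by
  induction n with
  | zero => rfl
  | succ n ih => rw [List.replicate_succ, List.flatten_cons, m24Word_append, ih, pow_succ']

theorem m24Word_eq_one {w : List ℕ} (h : ∀ j < 24, m24Eval w j = j) : m24Word w = 1 := by
  apply Equiv.ext
  intro q
  rw [m24Word_apply, h _ (idx_lt q), pt_idx]; rfl

theorem act_eq_of_smul_support {σ : Equiv.Perm GolayPt} {u : GolayPt → ZMod 2}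
    (h : σ • support₂ u = support₂ u) : act σ u = u :=
  support₂_injective (by rw [support₂_act, h])

/-- From two words stabilizing the set of a mask `m`, of prime order `p`, without a common fixed
point: an element of order `p` in the stabilizer of any translate of that set, moving a given
point. -/
theorem exists_good_of_base (m : ℕ) (w1 w2 : List ℕ) (p : ℕ) (hp : p.Prime)
    (hstab1 : ∀ j < 24, m.testBit j = true → m.testBit (m24Eval w1 j) = true)
    (hstab2 : ∀ j < 24, m.testBit j = true → m.testBit (m24Eval w2 j) = true)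
    (hpow1 : ∀ j < 24, m24Eval (List.flatten (List.replicate p w1)) j = j)
    (hpow2 : ∀ j < 24, m24Eval (List.flatten (List.replicate p w2)) j = j)
    (hmove : ∀ j < 24, m24Eval w1 j ≠ j ∨ m24Eval w2 j ≠ j)
    {τ : Equiv.Perm GolayPt} (hτ : τ ∈ M24) (x : GolayPt) :
    ∃ σ ∈ M24, σ • (τ • setOf m) = τ • setOf m ∧ σ x ≠ x ∧ orderOf σ = p := by
  have main : ∀ w : List ℕ, (∀ j < 24, m.testBit j = true → m.testBit (m24Eval w j) = true) →
      (∀ j < 24, m24Eval (List.flatten (List.replicate p w)) j = j) →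
      m24Eval w (idx (τ⁻¹ x)) ≠ idx (τ⁻¹ x) →
      ∃ σ ∈ M24, σ • (τ • setOf m) = τ • setOf m ∧ σ x ≠ x ∧ orderOf σ = p := by
    intro w hstab hpow hmv
    have hs : m24Word w • setOf m = setOf m := m24Word_smul_setOf w m m rfl hstab
    have hpw : m24Word w ^ p = 1 := by rw [← m24Word_replicate]; exact m24Word_eq_one hpow
    have hmv' : m24Word w (τ⁻¹ x) ≠ τ⁻¹ x := by
      intro h
      apply hmv
      have := congrArg idx h
      rwa [m24Word_apply, idx_pt (m24Eval_lt w (idx_lt _))] at this
    have hx : (τ * m24Word w * τ⁻¹) x ≠ x := by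
      intro h
      apply hmv'
      rw [Equiv.Perm.mul_apply, Equiv.Perm.mul_apply] at h
      have := congrArg (fun q => τ⁻¹ q) h
      simpa using this
    refine ⟨τ * m24Word w * τ⁻¹, mul_mem (mul_mem hτ (m24Word_mem w)) (inv_mem hτ), ?_, hx, ?_⟩
    · rw [mul_smul, mul_smul, inv_smul_smul, hs]
    · have := Fact.mk hp
      apply orderOf_eq_prime
      · rw [conj_pow, hpw, mul_one, mul_inv_cancel]
      · intro h1
        apply hx
        rw [h1]; rfl
  rcases hmove (idx (τ⁻¹ x)) (idx_lt _) with h | h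
  · exact main w1 hstab1 hpow1 h
  · exact main w2 hstab2 hpow2 h

/-- Two elements of order 7 stabilizing the reference octad, without common fixed point. -/
def wo1 : List ℕ := [0, 3, 3, 0, 2, 1]
def wo2 : List ℕ := [1, 1, 4, 1, 4]
/-- Two elements of order 11 stabilizing the reference dodecad, without common fixed point. -/
def wd1 : List ℕ := [0, 2, 1, 4, 4, 0, 4]
def wd2 : List ℕ := [3, 1, 4, 0, 0, 2, 4]

set_option maxRecDepth 100000 in
theorem octad_data :
    (∀ j < 24, m24Octad0.testBit j = true → m24Octad0.testBit (m24Eval wo1 j) = true) ∧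
    (∀ j < 24, m24Octad0.testBit j = true → m24Octad0.testBit (m24Eval wo2 j) = true) ∧
    (∀ j < 24, m24Eval (List.flatten (List.replicate 7 wo1)) j = j) ∧
    (∀ j < 24, m24Eval (List.flatten (List.replicate 7 wo2)) j = j) ∧
    (∀ j < 24, m24Eval wo1 j ≠ j ∨ m24Eval wo2 j ≠ j) := by
  decide +kernel

set_option maxRecDepth 100000 in
theorem dodecad_data :
    (∀ j < 24, m24Dodecad0.testBit j = true → m24Dodecad0.testBit (m24Eval wd1 j) = true) ∧
    (∀ j < 24, m24Dodecad0.testBit j = true → m24Dodecad0.testBit (m24Eval wd2 j) = true) ∧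
    (∀ j < 24, m24Eval (List.flatten (List.replicate 11 wd1)) j = j) ∧
    (∀ j < 24, m24Eval (List.flatten (List.replicate 11 wd2)) j = j) ∧
    (∀ j < 24, m24Eval wd1 j ≠ j ∨ m24Eval wd2 j ≠ j) := by
  decide +kernel

theorem exists_good_octad {o : Finset GolayPt} (ho : o ∈ octads) (x : GolayPt) :
    ∃ σ ∈ M24, σ • o = o ∧ σ x ≠ x ∧ orderOf σ = 7 := by
  obtain ⟨τ, hτ, rfl⟩ := m24_octad_transitive_base ho
  obtain ⟨h1, h2, h3, h4, h5⟩ := octad_data
  exact exists_good_of_base m24Octad0 wo1 wo2 7 (by norm_num) h1 h2 h3 h4 h5 hτ x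

theorem exists_good_dodecad {d : Finset GolayPt} (hd : d ∈ dodecads) (x : GolayPt) :
    ∃ σ ∈ M24, σ • d = d ∧ σ x ≠ x ∧ orderOf σ = 11 := by
  obtain ⟨τ, hτ, rfl⟩ := m24_dodecad_transitive_base hd
  obtain ⟨h1, h2, h3, h4, h5⟩ := dodecad_data
  exact exists_good_of_base m24Dodecad0 wd1 wd2 11 (by norm_num) h1 h2 h3 h4 h5 hτ x

theorem act_one_word (σ : Equiv.Perm GolayPt) : act σ (1 : GolayPt → ZMod 2) = 1 := rfl

theorem hammingNorm_add_one (u : GolayPt → ZMod 2) : hammingNorm (u + 1) + hammingNorm u = 24 := by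
  have h := Cfsg.Agent.Lib.Helper93.hammingNorm_add_eq u (1 : GolayPt → ZMod 2)
  have h1 : supp (1 : GolayPt → ZMod 2) = Finset.univ := by
    ext q; simp [supp]
  have h2 : hammingNorm (1 : GolayPt → ZMod 2) = 24 := by
    rw [Cfsg.Agent.Lib.Helper93.hammingNorm_eq_card_supp, h1]; decide
  rw [h1, Finset.inter_univ, ← Cfsg.Agent.Lib.Helper93.hammingNorm_eq_card_supp, h2] at h
  omega

/-- For every code word `u` and every point `x`, the stabilizer of `u` in `M24` contains an
element of prime order at least 7 that moves `x`. -/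
theorem lemmaB {u : GolayPt → ZMod 2} (hu : u ∈ golayCode) (x : GolayPt) :
    ∃ σ ∈ M24, act σ u = u ∧ σ x ≠ x ∧ ∃ p : ℕ, p.Prime ∧ 7 ≤ p ∧ orderOf σ = p := by
  rcases golay_weight hu with h | h | h | h | h
  · -- u = 0
    have hu0 : u = 0 := hammingNorm_eq_zero.mp h
    obtain ⟨σ, hσ, _, hx, hord⟩ := exists_good_octad m24Octad0_mem x
    refine ⟨σ, hσ, ?_, hx, 7, by norm_num, le_refl _, hord⟩
    rw [hu0]; rfl
  · -- octad
    have ho : support₂ u ∈ octads := (mem_octads_iff _).mpr ⟨u, hu, rfl, h⟩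
    obtain ⟨σ, hσ, hs, hx, hord⟩ := exists_good_octad ho x
    exact ⟨σ, hσ, act_eq_of_smul_support hs, hx, 7, by norm_num, le_refl _, hord⟩
  · -- dodecad
    have hd : support₂ u ∈ dodecads := (mem_dodecads_iff _).mpr ⟨u, hu, rfl, h⟩
    obtain ⟨σ, hσ, hs, hx, hord⟩ := exists_good_dodecad hd x
    exact ⟨σ, hσ, act_eq_of_smul_support hs, hx, 11, by norm_num, by norm_num, hord⟩
  · -- complement of an octad
    have hv : u + 1 ∈ golayCode := golayCode.add_mem hu golay_one_mem'
    have hv8 : hammingNorm (u + 1) = 8 := by have := hammingNorm_add_one u; omega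
    have ho : support₂ (u + 1) ∈ octads := (mem_octads_iff _).mpr ⟨u + 1, hv, rfl, hv8⟩
    obtain ⟨σ, hσ, hs, hx, hord⟩ := exists_good_octad ho x
    refine ⟨σ, hσ, ?_, hx, 7, by norm_num, le_refl _, hord⟩
    have h1 : act σ (u + 1) = u + 1 := act_eq_of_smul_support hs
    rw [act_add, act_one_word] at h1
    exact add_right_cancel h1
  · -- u = 1
    have hv : u + 1 ∈ golayCode := golayCode.add_mem hu golay_one_mem'
    have hv0 : hammingNorm (u + 1) = 0 := by have := hammingNorm_add_one u; omega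
    have hu1 : u + 1 = 0 := hammingNorm_eq_zero.mp hv0
    obtain ⟨σ, hσ, _, hx, hord⟩ := exists_good_octad m24Octad0_mem x
    refine ⟨σ, hσ, ?_, hx, 7, by norm_num, le_refl _, hord⟩
    have h1 : act σ (u + 1) = u + 1 := by rw [hu1]; rfl
    rw [act_add, act_one_word] at h1
    exact add_right_cancel h1

/-- Let u be a word of the length-24 binary Golay code of the definitions (possibly zero or all-ones) and w any binary word of length 24 outside the code. Then some automorphism of the code (a coordinate permutation preserving it) fixes u but moves w to a word not congruent to w modulo the code: the stabilizer of a codeword fixes no non-zero element of the quotient of the space of all words by the code. -/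
theorem result (u : (Cfsg.GolayPt → ZMod 2)) (hu : u ∈ Cfsg.golayCode) (w : (Cfsg.GolayPt → ZMod 2)) (hw : w ∉ Cfsg.golayCode) : ∃ σ ∈ Cfsg.M24, (fun p => u (σ.symm p)) = u ∧ (fun p => w (σ.symm p)) - w ∉ Cfsg.golayCode := by
  -- a light word in the coset of `w`
  obtain ⟨A, hA, _, u0, hu0⟩ := exists_light_set w
  obtain ⟨hlw, hl4⟩ := (hA u0).mp hu0
  have hl0 : u0 ≠ 0 := by
    intro h0
    apply hw
    rw [h0, zero_sub] at hlw
    have := golayCode.neg_mem hlw
    rwa [neg_neg] at this
  obtain ⟨x, hx⟩ : ∃ x, u0 x ≠ 0 := by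
    by_contra hne
    push Not at hne
    exact hl0 (funext hne)
  obtain ⟨σ, hσ, hfix, hmove, p, hp, h7, hord⟩ := lemmaB hu x
  refine ⟨σ, hσ, hfix, ?_⟩
  intro hC
  apply lemmaA hσ hp h7 hord hl4 hx hmove
  have h1 : act σ (u0 - w) - (u0 - w) ∈ golayCode :=
    golayCode.sub_mem (act_mem hσ hlw) hlw
  have h2 : act σ u0 - u0 = (act σ (u0 - w) - (u0 - w)) + (act σ w - w) := by
    rw [act_sub]; abel
  rw [h2]
  exact golayCode.add_mem h1 hC

end Cfsg.Agent.S5550
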