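import Cfsg.Statements.S5548
import Cfsg.Agent.S5550

set_option autoImplicit false
open Cfsg

namespace Cfsg.Agent.S5548
open Cfsg.Agent.Lib.Helper7 Cfsg.Agent.Lib.Helper92 Cfsg.Agent.S5550
open Cfsg.Agent.Lib.Helper93 (IsGolayLike supp)
open scoped Pointwise

/-- Invariance of a subspace under `M24`. -/
def Invt (W : Submodule (ZMod 2) (GolayPt → ZMod 2)) : Prop :=
  ∀ σ ∈ M24, ∀ w ∈ W, act σ w ∈ W

/-- The unit word at a point. -/
def e (p : GolayPt) : GolayPt → ZMod 2 := Pi.single p 1

theorem e_apply (p q : GolayPt) : e p q = if q = p then 1 else 0 := by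
  unfold e
  by_cases h : q = p
  · subst h; simp
  · simp [h]

theorem act_e (σ : Equiv.Perm GolayPt) (p : GolayPt) : act σ (e p) = e (σ p) := by
  funext q
  rw [act_apply, e_apply, e_apply]
  by_cases h : q = σ p
  · subst h; simp
  · have : σ.symm q ≠ p := by
      intro h'
      apply h
      rw [← h']; simp
    simp [h, this]

theorem zmod2_add_self (a : ZMod 2) : a + a = 0 := by revert a; decide

theorem add_self_word (v : GolayPt → ZMod 2) : v + v = 0 := by
  funext q; exact zmod2_add_self _

theorem zmod2_ne_zero {a : ZMod 2} (h : a ≠ 0) : a = 1 := by revert a; decide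

/-- A permutation fixing the support of a word pointwise fixes the word. -/
theorem act_eq_self_of_fixes {σ : Equiv.Perm GolayPt} {r : GolayPt → ZMod 2}
    (h : ∀ q, r q ≠ 0 → σ q = q) : act σ r = r := by
  funext q
  rw [act_apply]
  by_cases hq : r q = 0
  · rw [hq]
    by_contra hne
    have h1 := h _ hne
    have h2 : σ.symm q = q := by
      have := congrArg σ.symm h1
      simpa using this.symm
    rw [h2] at hne
    exact hne hq
  · have h1 := h q hq
    have h2 : σ.symm q = q := by
      have := congrArg σ.symm h1
      simpa using this.symm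
    rw [h2]

/-- `M24` contains an element fixing a given set of at most four points pointwise and moving a
given point outside it to another given point outside it. -/
theorem exists_fix_move (F : Finset GolayPt) (hF : F.card ≤ 4) {b b' : GolayPt} (hb : b ∉ F)
    (hb' : b' ∉ F) : ∃ σ ∈ M24, (∀ p ∈ F, σ p = p) ∧ σ b = b' := by
  classical
  have hsub : F ⊆ Finset.univ \ {b, b'} := by
    intro p hp
    rw [Finset.mem_sdiff, Finset.mem_insert, Finset.mem_singleton]
    refine ⟨Finset.mem_univ _, ?_⟩
    rintro (rfl | rfl)
    · exact hb hp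
    · exact hb' hp
  have hcard : 4 ≤ (Finset.univ \ ({b, b'} : Finset GolayPt)).card := by
    have h1 := Finset.le_card_sdiff ({b, b'} : Finset GolayPt) Finset.univ
    have h2 : ({b, b'} : Finset GolayPt).card ≤ 2 := Finset.card_le_two
    have h3 : (Finset.univ : Finset GolayPt).card = 24 := by decide
    omega
  obtain ⟨F', hFF', hF't, hF'4⟩ := Finset.exists_subsuperset_card_eq hsub hF hcard
  have hbF' : b ∉ F' := by
    intro h
    have := hF't h
    simp at this
  have hb'F' : b' ∉ F' := by
    intro h
    have := hF't h
    simp at this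
  let eq := Finset.equivFinOfCardEq hF'4
  let x : ℕ → GolayPt := fun i => if h : i < 4 then ((eq.symm ⟨i, h⟩ : F') : GolayPt) else b
  let y : ℕ → GolayPt := fun i => if h : i < 4 then ((eq.symm ⟨i, h⟩ : F') : GolayPt) else b'
  have hinj : ∀ c : GolayPt, c ∉ F' → ∀ i < 5, ∀ j < 5,
      (if h : i < 4 then ((eq.symm ⟨i, h⟩ : F') : GolayPt) else c) =
        (if h : j < 4 then ((eq.symm ⟨j, h⟩ : F') : GolayPt) else c) → i = j := by
    intro c hc i hi j hj hij
    by_cases h1 : i < 4 <;> by_cases h2 : j < 4
    · simp only [h1, h2, dif_pos] at hij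
      have := eq.symm.injective (Subtype.ext hij)
      exact Fin.mk.inj_iff.mp this
    · simp only [h1, h2, dif_pos, dif_neg, not_false_eq_true] at hij
      exact absurd (hij ▸ (eq.symm ⟨i, h1⟩).2) hc
    · simp only [h1, h2, dif_pos, dif_neg, not_false_eq_true] at hij
      exact absurd (hij.symm ▸ (eq.symm ⟨j, h2⟩).2) hc
    · omega
  obtain ⟨σ, hσ, hmap⟩ := m24_five_transitive x y (hinj b hbF') (hinj b' hb'F')
  refine ⟨σ, hσ, ?_, ?_⟩
  · intro p hp
    have hp' : p ∈ F' := hFF' hp
    have hi := (eq ⟨p, hp'⟩).isLt
    have hx : x (eq ⟨p, hp'⟩) = p := by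
      simp only [x, hi, dif_pos]
      simp
    have hy : y (eq ⟨p, hp'⟩) = p := by
      simp only [y, hi, dif_pos]
      simp
    have := hmap (eq ⟨p, hp'⟩) (by omega)
    rw [hx, hy] at this
    exact this
  · have := hmap 4 (by omega)
    simpa [x, y] using this

/-- Moving one point `a` of the support of `v` to a point `a'` off the support while fixing the
other points of the support: the word changes by `e a + e a'`. -/
theorem act_add_self_eq {σ : Equiv.Perm GolayPt} {v : GolayPt → ZMod 2} {a a' : GolayPt}
    (ha : v a ≠ 0) (hfix : ∀ q, q ≠ a → v q ≠ 0 → σ q = q) (hmove : σ a = a') :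
    act σ v + v = e a + e a' := by
  have hv : v = e a + (v + e a) := by
    rw [add_comm v, ← add_assoc, add_self_word, zero_add]
  have hr : act σ (v + e a) = v + e a := by
    apply act_eq_self_of_fixes
    intro q hq
    by_cases hqa : q = a
    · exfalso
      apply hq
      subst hqa
      simp only [Pi.add_apply, e_apply, if_true]
      rw [zmod2_ne_zero ha]; decide
    · apply hfix q hqa
      intro h0
      apply hq
      simp [Pi.add_apply, e_apply, hqa, h0]
  have h1 : act σ v = e a' + (v + e a) := by
    conv_lhs => rw [hv]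
    rw [act_add, act_e, hmove, hr]
  rw [h1]
  have : e a' + (v + e a) + v = e a + e a' + (v + v) := by abel
  rw [this, add_self_word, add_zero]

/-- The words with coordinate sum zero. -/
def IsEven (w : GolayPt → ZMod 2) : Prop := ∑ p, w p = 0

theorem sum_e (p : GolayPt) : ∑ q, e p q = 1 := by
  unfold e
  rw [Finset.sum_pi_single']
  simp

/-- A subspace containing all words `e x + e y` contains all even words. -/
theorem even_mem_of_pairs {W : Submodule (ZMod 2) (GolayPt → ZMod 2)}
    (h : ∀ x y : GolayPt, e x + e y ∈ W) {v : GolayPt → ZMod 2} (hv : IsEven v) : v ∈ W := by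
  have h1 : v = ∑ p, v p • (e p + e none) := by
    have h2 : ∑ p, v p • (e p + e none) = (∑ p, v p • e p) + (∑ p, v p) • e none := by
      simp only [smul_add, Finset.sum_add_distrib, Finset.sum_smul]
    rw [h2, hv, zero_smul, add_zero]
    funext q
    rw [Finset.sum_apply]
    simp only [Pi.smul_apply, e_apply, smul_eq_mul, mul_ite, mul_one, mul_zero]
    rw [Finset.sum_ite_eq]
    simp
  rw [h1]
  exact W.sum_mem (fun p _ => W.smul_mem _ (h p none))

/-- A subspace containing all even words is the even subspace or everything. -/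
theorem even_or_top {W : Submodule (ZMod 2) (GolayPt → ZMod 2)}
    (h : ∀ v, IsEven v → v ∈ W) :
    (W : Set (GolayPt → ZMod 2)) = {w | ∑ p, w p = 0} ∨ W = ⊤ := by
  by_cases hall : ∀ w ∈ W, IsEven w
  · left
    ext w
    exact ⟨fun hw => hall w hw, fun hw => h w hw⟩
  · right
    push Not at hall
    obtain ⟨w, hw, hodd⟩ := hall
    have hw1 : ∑ p, w p = 1 := zmod2_ne_zero hodd
    rw [eq_top_iff]
    intro v _
    by_cases hv : IsEven v
    · exact h v hv
    · have hv1 : ∑ p, v p = 1 := zmod2_ne_zero hv
      have : IsEven (v + w) := by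
        unfold IsEven
        simp only [Pi.add_apply, Finset.sum_add_distrib, hv1, hw1]
        decide
      have h2 := W.add_mem (h _ this) hw
      have h3 : v + w + w = v := by rw [add_assoc, add_self_word, add_zero]
      rwa [h3] at h2

/-- An invariant subspace containing one word `e a + e b` with `a ≠ b` contains them all. -/
theorem pairs_mem_of_pair {W : Submodule (ZMod 2) (GolayPt → ZMod 2)} (hW : Invt W)
    {a b : GolayPt} (hab : a ≠ b) (h : e a + e b ∈ W) (x y : GolayPt) : e x + e y ∈ W := by
  by_cases hxy : x = y
  · rw [hxy, add_self_word]; exact W.zero_mem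
  · obtain ⟨σ1, hσ1, _, h1⟩ := exists_fix_move ∅ (by simp) (b := a) (b' := x) (by simp) (by simp)
    have h2 : e x + e (σ1 b) ∈ W := by
      have := hW σ1 hσ1 _ h
      rwa [act_add, act_e, act_e, h1] at this
    have hbx : σ1 b ≠ x := by
      intro hb
      apply hab
      apply σ1.injective
      rw [h1, hb]
    obtain ⟨σ2, hσ2, hfix, h3⟩ := exists_fix_move {x} (by simp) (b := σ1 b) (b' := y)
      (by simpa using hbx) (by simpa using (Ne.symm hxy))
    have := hW σ2 hσ2 _ h2
    rwa [act_add, act_e, act_e, hfix x (by simp), h3] at this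

/-- There is a point off the support of a word of weight at most 23, different from a given
point. -/
theorem exists_off_support {v : GolayPt → ZMod 2} (hv : hammingNorm v ≤ 22) (a : GolayPt) :
    ∃ a', a' ≠ a ∧ v a' = 0 := by
  classical
  by_contra hne
  push Not at hne
  have : (Finset.univ : Finset GolayPt) ⊆ insert a (support₂ v) := by
    intro q _
    rw [Finset.mem_insert]
    by_cases hq : q = a
    · exact Or.inl hq
    · right
      simp only [support₂, Finset.mem_filter, Finset.mem_univ, true_and]
      exact hne q hq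
  have h1 := Finset.card_le_card this
  have h2 := Finset.card_insert_le a (support₂ v)
  rw [card_support₂_eq_hammingNorm] at h2
  have h3 : (Finset.univ : Finset GolayPt).card = 24 := by decide
  omega

/-- The support of `v + e a` when `v a ≠ 0`: the support of `v` without `a`. -/
theorem card_support_add_e {v : GolayPt → ZMod 2} {a : GolayPt} (ha : v a ≠ 0) :
    (support₂ (v + e a)).card + 1 = hammingNorm v := by
  classical
  have h1 : support₂ (v + e a) = (support₂ v).erase a := by
    ext q
    simp only [support₂, Finset.mem_filter, Finset.mem_univ, true_and, Finset.mem_erase,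
      Pi.add_apply, e_apply]
    by_cases hq : q = a
    · subst hq
      simp only [if_true, ne_eq, not_true_eq_false, false_and, iff_false, not_not]
      rw [zmod2_ne_zero ha]; decide
    · simp [hq]
  rw [h1, Finset.card_erase_of_mem, card_support₂_eq_hammingNorm]
  · have : 0 < hammingNorm v := by
      rw [← card_support₂_eq_hammingNorm]
      apply Finset.card_pos.mpr
      exact ⟨a, by simp [support₂, ha]⟩
    omega
  · simp [support₂, ha]

/-- For a nonzero word `l` of weight at most four with `l a ≠ 0`: an element `σ` of `M24` and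
a point `a' ≠ a` with `act σ l + l = e a + e a'`. -/
theorem exists_move_one {l : GolayPt → ZMod 2} (hl : hammingNorm l ≤ 4) {a : GolayPt}
    (ha : l a ≠ 0) : ∃ σ ∈ M24, ∃ a', a' ≠ a ∧ act σ l + l = e a + e a' := by
  obtain ⟨a', ha'a, ha'⟩ := exists_off_support (v := l) (by omega) a
  have hcard := card_support_add_e ha
  have haF : a ∉ support₂ (l + e a) := by
    simp only [support₂, Finset.mem_filter, Finset.mem_univ, true_and, Pi.add_apply, e_apply,
      if_true, not_not]
    rw [zmod2_ne_zero ha]; decide
  have ha'F : a' ∉ support₂ (l + e a) := by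
    simp [support₂, Pi.add_apply, e_apply, ha'a, ha']
  obtain ⟨σ, hσ, hfix, hmove⟩ := exists_fix_move (support₂ (l + e a)) (by omega) haF ha'F
  refine ⟨σ, hσ, a', ha'a, ?_⟩
  apply act_add_self_eq ha _ hmove
  intro q hqa hq
  apply hfix
  simp [support₂, Pi.add_apply, e_apply, hqa, hq]

/-- An invariant subspace in which some `act σ l + l`-type differences are available for a
nonzero light word `l` contains all even words. -/
theorem even_mem_of_light {W : Submodule (ZMod 2) (GolayPt → ZMod 2)} (hW : Invt W)
    {l : GolayPt → ZMod 2} (hl : hammingNorm l ≤ 4) (hl0 : l ≠ 0)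
    (hdiff : ∀ σ ∈ M24, act σ l + l ∈ W) : ∀ v, IsEven v → v ∈ W := by
  obtain ⟨a, ha⟩ : ∃ a, l a ≠ 0 := by
    by_contra hne
    push Not at hne
    exact hl0 (funext hne)
  obtain ⟨σ, hσ, a', ha'a, heq⟩ := exists_move_one hl ha
  have hpair : e a + e a' ∈ W := heq ▸ hdiff σ hσ
  intro v hv
  exact even_mem_of_pairs (pairs_mem_of_pair hW (Ne.symm ha'a) hpair) hv

/-! ### Invariant subspaces meeting the code nontrivially contain it -/

/-- (a1) An invariant subspace containing a code word of weight 8 contains the code. -/
theorem code_le_of_octad {W : Submodule (ZMod 2) (GolayPt → ZMod 2)} (hW : Invt W)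
    {u : GolayPt → ZMod 2} (huW : u ∈ W) (huC : u ∈ golayCode) (hu8 : hammingNorm u = 8) :
    golayCode ≤ W := by
  rw [← golay_isGolayLike.span_octads, Submodule.span_le]
  rintro w ⟨hwC, hw8⟩
  have ho : support₂ u ∈ octads := (mem_octads_iff _).mpr ⟨u, huC, rfl, hu8⟩
  have ho' : support₂ w ∈ octads := (mem_octads_iff _).mpr ⟨w, hwC, rfl, hw8⟩
  obtain ⟨g, hg, hgo⟩ := m24_octad_transitive ho ho'
  have : act g u = w := support₂_injective (by rw [support₂_act, hgo])
  rw [← this]
  exact hW g hg u huW

/-- A nonzero code word of weight at most 8 has weight 8. -/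
theorem weight_eq_eight {z : GolayPt → ZMod 2} (hzC : z ∈ golayCode) (hz0 : z ≠ 0)
    (hz8 : hammingNorm z ≤ 8) : hammingNorm z = 8 := by
  rcases golay_weight hzC with h | h | h | h | h
  · exact absurd (hammingNorm_eq_zero.mp h) hz0
  · exact h
  · omega
  · omega
  · omega

/-- (a2) An invariant subspace containing a code word of weight 16 contains the code. -/
theorem code_le_of_cooctad {W : Submodule (ZMod 2) (GolayPt → ZMod 2)} (hW : Invt W)
    {u : GolayPt → ZMod 2} (huW : u ∈ W) (huC : u ∈ golayCode) (hu16 : hammingNorm u = 16) :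
    golayCode ≤ W := by
  classical
  have hvC : u + 1 ∈ golayCode := golayCode.add_mem huC golay_one_mem'
  have hv8 : hammingNorm (u + 1) = 8 := by have := hammingNorm_add_one u; omega
  have hcard : (support₂ (u + 1)).card = 8 := by rw [card_support₂_eq_hammingNorm, hv8]
  obtain ⟨F, hFO, hF4⟩ := Finset.exists_subset_card_eq (s := support₂ (u + 1)) (n := 4)
    (by omega)
  obtain ⟨a, haO, haF⟩ : ∃ a ∈ support₂ (u + 1), a ∉ F := by
    by_contra hne
    push Not at hne
    have := Finset.card_le_card (show support₂ (u + 1) ⊆ F from fun q hq => hne q hq)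
    omega
  obtain ⟨a', ha'O⟩ : ∃ a', a' ∉ support₂ (u + 1) := by
    by_contra hne
    push Not at hne
    have := Finset.card_le_card (show (Finset.univ : Finset GolayPt) ⊆ support₂ (u + 1) from
      fun q _ => hne q)
    have h3 : (Finset.univ : Finset GolayPt).card = 24 := by decide
    omega
  have ha'F : a' ∉ F := fun h => ha'O (hFO h)
  obtain ⟨σ, hσ, hfix, hmove⟩ := exists_fix_move F (by omega) haF ha'F
  -- the new word
  have hzW : act σ u + u ∈ W := W.add_mem (hW σ hσ u huW) huW
  have hzeq : act σ u + u = act σ (u + 1) + (u + 1) := by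
    rw [act_add, act_one_word]
    have : act σ u + 1 + (u + 1) = act σ u + u + ((1 : GolayPt → ZMod 2) + 1) := by abel
    rw [this, add_self_word, add_zero]
  have hzC : act σ u + u ∈ golayCode := golayCode.add_mem (act_mem hσ huC) huC
  have hz0 : act σ u + u ≠ 0 := by
    intro h0
    have h1 := congrFun h0 a'
    rw [hzeq] at h1
    simp only [Pi.add_apply, Pi.zero_apply, act_apply] at h1
    have h2 : σ.symm a' = a := by rw [← hmove]; simp
    rw [h2] at h1
    have h3 : (u + 1) a ≠ 0 := by
      simpa [support₂] using haO
    have h4 : (u + 1) a' = 0 := by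
      simpa [support₂] using ha'O
    simp only [Pi.add_apply] at h3 h4
    rw [h4, add_zero] at h1
    exact h3 h1
  have hz8 : hammingNorm (act σ u + u) ≤ 8 := by
    rw [hzeq]
    have hadd := Cfsg.Agent.Lib.Helper93.hammingNorm_add_eq (act σ (u + 1)) (u + 1)
    rw [hammingNorm_act, hv8] at hadd
    have hsub : F ⊆ supp (act σ (u + 1)) ∩ supp (u + 1) := by
      intro q hq
      rw [Finset.mem_inter]
      refine ⟨?_, hFO hq⟩
      show q ∈ support₂ (act σ (u + 1))
      rw [support₂_act, ← hfix q hq, apply_mem_perm_smul_finset]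
      exact hFO hq
    have := Finset.card_le_card hsub
    omega
  exact code_le_of_octad hW hzW hzC (weight_eq_eight hzC hz0 hz8)

theorem dodecad_shift_data :
    (∀ j < 24, m24Dodecad0.testBit j = true → (0x81a79e : ℕ).testBit (m24Eval [0] j) = true) ∧
    pc m24Dodecad0 = pc 0x81a79e ∧ pc (0x81a79e ^^^ m24Dodecad0) = 8 := by
  decide

/-- (a3) An invariant subspace containing a code word of weight 12 contains the code. -/
theorem code_le_of_dodecad {W : Submodule (ZMod 2) (GolayPt → ZMod 2)} (hW : Invt W)
    {u : GolayPt → ZMod 2} (huW : u ∈ W) (huC : u ∈ golayCode) (hu12 : hammingNorm u = 12) :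
    golayCode ≤ W := by
  have hd : support₂ u ∈ dodecads := (mem_dodecads_iff _).mpr ⟨u, huC, rfl, hu12⟩
  obtain ⟨τ, hτ, hτd⟩ := m24_dodecad_transitive_base hd
  obtain ⟨h1, h2, h3⟩ := dodecad_shift_data
  have hs : m24Word [0] • setOf m24Dodecad0 = setOf 0x81a79e :=
    m24Word_smul_setOf [0] m24Dodecad0 0x81a79e h2 h1
  have hσ : τ * m24Word [0] * τ⁻¹ ∈ M24 := mul_mem (mul_mem hτ (m24Word_mem _)) (inv_mem hτ)
  have hzW : act (τ * m24Word [0] * τ⁻¹) u + u ∈ W := W.add_mem (hW _ hσ u huW) huW
  have hzC : act (τ * m24Word [0] * τ⁻¹) u + u ∈ golayCode :=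
    golayCode.add_mem (act_mem hσ huC) huC
  have hsupp : support₂ (act (τ * m24Word [0] * τ⁻¹) u + u)
      = τ • Cfsg.Agent.Lib.Helper7.setOf (0x81a79e ^^^ m24Dodecad0) := by
    have : support₂ (act (τ * m24Word [0] * τ⁻¹) u + u)
        = symmDiff (support₂ (act (τ * m24Word [0] * τ⁻¹) u)) (support₂ u) :=
      Cfsg.Agent.Lib.Helper93.supp_add _ _
    rw [this, support₂_act, ← hτd, mul_smul, mul_smul, inv_smul_smul, hs,
      ← Finset.smul_finset_symmDiff, setOf_xor]
  have hz8 : hammingNorm (act (τ * m24Word [0] * τ⁻¹) u + u) = 8 := by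
    rw [← card_support₂_eq_hammingNorm, hsupp, Finset.card_smul_finset, card_setOf, h3]
  exact code_le_of_octad hW hzW hzC hz8

/-- (a) An invariant subspace containing a code word other than `0` and `1` contains the code. -/
theorem code_le_of_mem {W : Submodule (ZMod 2) (GolayPt → ZMod 2)} (hW : Invt W)
    {z : GolayPt → ZMod 2} (hzW : z ∈ W) (hzC : z ∈ golayCode) (hz0 : z ≠ 0) (hz1 : z ≠ 1) :
    golayCode ≤ W := by
  rcases golay_weight hzC with h | h | h | h | h
  · exact absurd (hammingNorm_eq_zero.mp h) hz0
  · exact code_le_of_octad hW hzW hzC h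
  · exact code_le_of_dodecad hW hzW hzC h
  · exact code_le_of_cooctad hW hzW hzC h
  · exfalso
    apply hz1
    have h0 : hammingNorm (z + 1) = 0 := by have := hammingNorm_add_one z; omega
    have h1 : z + 1 = 0 := hammingNorm_eq_zero.mp h0
    have : z = z + 1 + 1 := by rw [add_assoc, add_self_word, add_zero]
    rw [this, h1, zero_add]

/-! ### Subspaces not inside the code contain it -/

theorem code_even {c : GolayPt → ZMod 2} (hc : c ∈ golayCode) : IsEven c := by
  have := golay_orth c 1 hc golay_one_mem'
  simpa [IsEven] using this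

theorem exists_not_mem_of_card_lt (s : Finset GolayPt) (h : s.card < 24) : ∃ q, q ∉ s := by
  by_contra hne
  push Not at hne
  have := Finset.card_le_card (show (Finset.univ : Finset GolayPt) ⊆ s from fun q _ => hne q)
  have h3 : (Finset.univ : Finset GolayPt).card = 24 := by decide
  omega

theorem mem_support₂ {v : GolayPt → ZMod 2} {q : GolayPt} : q ∈ support₂ v ↔ v q ≠ 0 := by
  simp [support₂]

/-- Lemma L3: if `c + l ∈ W` with `c` a code word and `l` a nonzero word of weight at most 3,
then `W` contains the code. -/
theorem code_le_of_light3 {W : Submodule (ZMod 2) (GolayPt → ZMod 2)} (hW : Invt W)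
    {c l : GolayPt → ZMod 2} (hc : c ∈ golayCode) (hl0 : l ≠ 0) (hl3 : hammingNorm l ≤ 3)
    (hcl : c + l ∈ W) : golayCode ≤ W := by
  classical
  -- the case where `c` is fixed by all of `M24`
  have hfixed : (∀ σ ∈ M24, act σ c = c) → golayCode ≤ W := by
    intro hfix
    have hdiff : ∀ σ ∈ M24, act σ l + l ∈ W := by
      intro σ hσ
      have h1 := W.add_mem (hW σ hσ _ hcl) hcl
      have h2 : act σ (c + l) + (c + l) = act σ l + l := by
        rw [act_add, hfix σ hσ]
        have : c + act σ l + (c + l) = act σ l + l + (c + c) := by abel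
        rw [this, add_self_word, add_zero]
      rwa [h2] at h1
    have heven := even_mem_of_light hW (by omega) hl0 hdiff
    intro v hv
    exact heven v (code_even hv)
  have hmid : 8 ≤ hammingNorm c → hammingNorm c ≤ 16 → golayCode ≤ W := by
    intro h8 h16
    have hS : (support₂ c).card = hammingNorm c := card_support₂_eq_hammingNorm c
    have hT : (support₂ l).card ≤ 3 := by rw [card_support₂_eq_hammingNorm]; exact hl3
    have h1 := Finset.le_card_sdiff (support₂ l) (support₂ c)
    obtain ⟨a, ha, b, hb, hab⟩ := Finset.one_lt_card.mp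
      (show 1 < (support₂ c \ support₂ l).card by omega)
    rw [Finset.mem_sdiff] at ha hb
    obtain ⟨b', hb'⟩ := exists_not_mem_of_card_lt (support₂ c ∪ support₂ l) (by
      have := Finset.card_union_le (support₂ c) (support₂ l)
      omega)
    rw [Finset.mem_union, not_or] at hb'
    have hF : (insert a (support₂ l)).card ≤ 4 := by
      have := Finset.card_insert_le a (support₂ l); omega
    have hbF : b ∉ insert a (support₂ l) := by
      rw [Finset.mem_insert, not_or]
      exact ⟨Ne.symm hab, hb.2⟩
    have hb'F : b' ∉ insert a (support₂ l) := by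
      rw [Finset.mem_insert, not_or]
      refine ⟨?_, hb'.2⟩
      rintro rfl
      exact hb'.1 ha.1
    obtain ⟨σ, hσ, hfix, hmove⟩ := exists_fix_move _ hF hbF hb'F
    have hl : act σ l = l := by
      apply act_eq_self_of_fixes
      intro q hq
      exact hfix q (Finset.mem_insert_of_mem (mem_support₂.mpr hq))
    have hzW : act σ c + c ∈ W := by
      have h1 := W.add_mem (hW σ hσ _ hcl) hcl
      have h2 : act σ (c + l) + (c + l) = act σ c + c := by
        rw [act_add, hl]
        have : act σ c + l + (c + l) = act σ c + c + (l + l) := by abel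
        rw [this, add_self_word, add_zero]
      rwa [h2] at h1
    have hzC : act σ c + c ∈ golayCode := golayCode.add_mem (act_mem hσ hc) hc
    have hsa : σ.symm a = a := by
      have := hfix a (Finset.mem_insert_self a _)
      conv_lhs => rw [← this]
      simp
    have hsb : σ.symm b' = b := by rw [← hmove]; simp
    have hz0 : act σ c + c ≠ 0 := by
      intro h0
      have := congrFun h0 b'
      simp only [Pi.add_apply, Pi.zero_apply, act_apply, hsb] at this
      have hcb : c b ≠ 0 := mem_support₂.mp hb.1
      have hcb' : c b' = 0 := by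
        by_contra h; exact hb'.1 (mem_support₂.mpr h)
      rw [hcb', add_zero] at this
      exact hcb this
    have hz1 : act σ c + c ≠ 1 := by
      intro h1
      have := congrFun h1 a
      simp only [Pi.add_apply, Pi.one_apply, act_apply, hsa, zmod2_add_self] at this
      exact absurd this (by decide)
    exact code_le_of_mem hW hzW hzC hz0 hz1
  rcases golay_weight hc with h | h | h | h | h
  · apply hfixed
    intro σ _
    rw [hammingNorm_eq_zero.mp h]; rfl
  · exact hmid (by omega) (by omega)
  · exact hmid (by omega) (by omega)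
  · exact hmid (by omega) (by omega)
  · apply hfixed
    intro σ _
    have h0 : hammingNorm (c + 1) = 0 := by have := hammingNorm_add_one c; omega
    have h1 : c + 1 = 0 := hammingNorm_eq_zero.mp h0
    have : c = 1 := by
      have h2 : c = c + 1 + 1 := by rw [add_assoc, add_self_word, add_zero]
      rw [h2, h1, zero_add]
    rw [this]; rfl

theorem hammingNorm_e (p : GolayPt) : hammingNorm (e p) = 1 := by
  classical
  rw [← card_support₂_eq_hammingNorm]
  have : support₂ (e p) = {p} := by
    ext q
    rw [mem_support₂, Finset.mem_singleton, e_apply]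
    by_cases h : q = p <;> simp [h]
  rw [this, Finset.card_singleton]

/-- A word of `W` outside the code forces `W` to contain the code, together with a nonzero light
word. -/
theorem code_le_of_not_mem {W : Submodule (ZMod 2) (GolayPt → ZMod 2)} (hW : Invt W)
    {w : GolayPt → ZMod 2} (hwW : w ∈ W) (hwC : w ∉ golayCode) :
    golayCode ≤ W ∧ ∃ l, l ∈ W ∧ l ≠ 0 ∧ hammingNorm l ≤ 4 := by
  obtain ⟨A, hA, _, l, hlA⟩ := exists_light_set w
  obtain ⟨hlw, hl4⟩ := (hA l).mp hlA
  have hcC : l + w ∈ golayCode := by
    rwa [Cfsg.Agent.Lib.Helper93.sub_eq_add_zmod2] at hlw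
  have hwcl : w = (l + w) + l := by
    have : l + w + l = w + (l + l) := by abel
    rw [this, add_self_word, add_zero]
  have hl0 : l ≠ 0 := by
    intro h0
    apply hwC
    rw [h0, zero_add] at hcC
    exact hcC
  have hle : golayCode ≤ W := by
    by_cases hl3 : hammingNorm l ≤ 3
    · exact code_le_of_light3 hW hcC hl0 hl3 (hwcl ▸ hwW)
    · obtain ⟨a, ha⟩ : ∃ a, l a ≠ 0 := by
        by_contra hne
        push Not at hne
        exact hl0 (funext hne)
      obtain ⟨σ, hσ, a', ha'a, heq⟩ := exists_move_one hl4 ha
      have h1 : act σ w + w ∈ W := W.add_mem (hW σ hσ w hwW) hwW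
      have h2 : act σ w + w = (act σ (l + w) + (l + w)) + (e a + e a') := by
        rw [← heq]
        conv_lhs => rw [hwcl]
        rw [act_add]; abel
      rw [h2] at h1
      have hc' : act σ (l + w) + (l + w) ∈ golayCode :=
        golayCode.add_mem (act_mem hσ hcC) hcC
      have hl' : e a + e a' ≠ 0 := by
        intro h0
        have := congrFun h0 a
        simp only [Pi.add_apply, e_apply, if_true, Pi.zero_apply] at this
        rw [if_neg (Ne.symm ha'a), add_zero] at this
        exact absurd this (by decide)
      have hl'3 : hammingNorm (e a + e a') ≤ 3 := by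
        have := Cfsg.Agent.Lib.Helper93.hammingNorm_add_eq (e a) (e a')
        rw [hammingNorm_e, hammingNorm_e] at this
        omega
      exact code_le_of_light3 hW hc' hl' hl'3 h1
  refine ⟨hle, l, ?_, hl0, hl4⟩
  have : l = (l + w) + w := by
    have : l + w + w = l + (w + w) := by abel
    rw [this, add_self_word, add_zero]
  rw [this]
  exact W.add_mem (hle hcC) hwW

/-- For the automorphism group of the length-24 binary Golay code of the definitions (the Mathieu group of degree 24) acting on binary words of length 24 by permuting coordinates, the only invariant subspaces of the space of all words are: zero, the span of the all-ones word, the code itself, the even-weight words, and the whole space. (So the permutation module has a unique composition series.) -/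
theorem result (W : Submodule (ZMod 2) (Cfsg.GolayPt → ZMod 2)) (hW : ∀ σ ∈ Cfsg.M24, ∀ w ∈ W, (fun p => w (σ.symm p)) ∈ W) : W = ⊥ ∨ W = Submodule.span (ZMod 2) {fun _ => (1 : ZMod 2)} ∨ W = Cfsg.golayCode ∨ (W : Set (Cfsg.GolayPt → ZMod 2)) = {w | ∑ p, w p = 0} ∨ W = ⊤ := by
  have hInv : Invt W := hW
  by_cases hWC : W ≤ golayCode
  · by_cases h01 : ∀ w ∈ W, w = 0 ∨ w = 1
    · by_cases h1 : (1 : GolayPt → ZMod 2) ∈ W
      · right; left
        apply le_antisymm
        · intro w hw
          rcases h01 w hw with h | h
          · rw [h]; exact Submodule.zero_mem _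
          · rw [h]; exact Submodule.subset_span rfl
        · rw [Submodule.span_le]
          intro w hw
          rw [Set.mem_singleton_iff] at hw
          rw [hw]; exact h1
      · left
        rw [eq_bot_iff]
        intro w hw
        rcases h01 w hw with h | h
        · rw [h]; exact Submodule.zero_mem _
        · exact absurd (h ▸ hw) h1
    · push Not at h01
      obtain ⟨z, hzW, hz0, hz1⟩ := h01
      right; right; left
      exact le_antisymm hWC (code_le_of_mem hInv hzW (hWC hzW) hz0 hz1)
  · have : ∃ w ∈ W, w ∉ golayCode := by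
      by_contra hne
      push Not at hne
      exact hWC hne
    obtain ⟨w, hwW, hwC⟩ := this
    obtain ⟨_, l, hlW, hl0, hl4⟩ := code_le_of_not_mem hInv hwW hwC
    have heven := even_mem_of_light hInv hl4 hl0
      (fun σ hσ => W.add_mem (hInv σ hσ l hlW) hlW)
    right; right; right
    exact even_or_top heven

end Cfsg.Agent.S5548
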