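import Mathlib
import Cfsg.Statements.S0698

set_option autoImplicit false
open Cfsg

namespace Cfsg.Agent.S0698

open MulAction

variable {G α : Type*} [Group G] [MulAction G α]

/-- `g` fixes `Δ` pointwise. -/
def fixes (g : G) (Δ : Finset α) : Prop := ∀ d ∈ Δ, g • d = d

theorem fixes_one (Δ : Finset α) : fixes (1 : G) Δ := fun d _ => one_smul G d

theorem fixes_mul {g h : G} {Δ : Finset α} (hg : fixes g Δ) (hh : fixes h Δ) : fixes (g * h) Δ :=
  fun d hd => by rw [mul_smul, hh d hd, hg d hd]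

theorem fixes_inv {g : G} {Δ : Finset α} (hg : fixes g Δ) : fixes g⁻¹ Δ :=
  fun d hd => by rw [inv_smul_eq_iff, hg d hd]

theorem fixes_mono {g : G} {Δ Δ' : Finset α} (h : Δ' ⊆ Δ) (hg : fixes g Δ) : fixes g Δ' :=
  fun d hd => hg d (h hd)

theorem fixes_pow {g : G} {Δ : Finset α} (hg : fixes g Δ) (n : ℕ) : fixes (g ^ n) Δ := by
  induction n with
  | zero => rw [pow_zero]; exact fixes_one Δ
  | succ n ih => rw [pow_succ]; exact fixes_mul ih hg

theorem fixes_insert [DecidableEq α] {g : G} {Δ : Finset α} {a : α} (ha : g • a = a)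
    (hg : fixes g Δ) : fixes g (insert a Δ) := by
  intro d hd
  rcases Finset.mem_insert.mp hd with rfl | h
  · exact ha
  · exact hg d h

theorem smul_notMem {g : G} {Δ : Finset α} (hg : fixes g Δ) {y : α} (hy : y ∉ Δ) : g • y ∉ Δ := by
  intro h
  have := hg _ h
  rw [smul_left_cancel_iff] at this
  exact hy (this ▸ h)

/-- In a `k`-transitive group, one can fix `k - 1` points and move one further point anywhere. -/
theorem exists_fixing [Fintype α] {k : ℕ} (hkn : k ≤ Fintype.card α)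
    (hG : IsMultiplyPretransitive G α k) (T : Finset α) (hT : T.card + 1 ≤ k) {u v : α}
    (hu : u ∉ T) (hv : v ∉ T) : ∃ x : G, fixes x T ∧ x • u = v := by
  have h1 : IsMultiplyPretransitive (fixingSubgroup G (T : Set α))
      (SubMulAction.ofFixingSubgroup G (T : Set α)) 1 :=
    SubMulAction.ofFixingSubgroup.isMultiplyPretransitive' (n := k) (T : Set α)
      (by rw [Set.ncard_coe_finset]; exact hT)
      (by rw [ENat.card_eq_coe_fintype_card]; exact_mod_cast hkn)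
  rw [is_one_pretransitive_iff] at h1
  obtain ⟨x, hx⟩ := h1.exists_smul_eq
    (⟨u, by rw [SubMulAction.mem_ofFixingSubgroup_iff]; exact_mod_cast hu⟩ :
      SubMulAction.ofFixingSubgroup G (T : Set α))
    ⟨v, by rw [SubMulAction.mem_ofFixingSubgroup_iff]; exact_mod_cast hv⟩
  refine ⟨x.1, fun a ha => ?_, ?_⟩
  · have := (mem_fixingSubgroup_iff G).mp x.2 a (by exact_mod_cast ha)
    exact this
  · exact congrArg Subtype.val hx

/-- Claim A: a normal subgroup acting nontrivially off `Δ` is transitive off `Δ`. -/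
theorem transOn_of_normal [Fintype α] [DecidableEq α] {k : ℕ} (hkn : k ≤ Fintype.card α)
    (hG : IsMultiplyPretransitive G α k) (N : Subgroup G) [N.Normal] (Δ : Finset α)
    (hΔ : Δ.card + 2 ≤ k) (m : G) (hmN : m ∈ N) (hmΔ : fixes m Δ) (x : α) (hx : m • x ≠ x)
    (y : α) (hy : y ∉ Δ) (z : α) (hz : z ∉ Δ) : ∃ h ∈ N, fixes h Δ ∧ h • y = z := by
  by_cases hyz : y = z
  · exact ⟨1, N.one_mem, fixes_one Δ, by rw [one_smul, hyz]⟩
  have hxΔ : x ∉ Δ := fun h => hx (hmΔ x h)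
  have hmxΔ : m • x ∉ Δ := smul_notMem hmΔ hxΔ
  obtain ⟨g₁, hg₁Δ, hg₁⟩ := exists_fixing hkn hG Δ (by omega) hxΔ hy
  have h1 : g₁ • m • x ∉ insert y Δ := by
    rw [Finset.mem_insert, not_or]
    refine ⟨fun h => ?_, smul_notMem hg₁Δ hmxΔ⟩
    rw [← hg₁, smul_left_cancel_iff] at h
    exact hx h
  have h2 : z ∉ insert y Δ := by
    rw [Finset.mem_insert, not_or]
    exact ⟨fun h => hyz h.symm, hz⟩
  obtain ⟨g₂, hg₂Δ, hg₂⟩ := exists_fixing hkn hG (insert y Δ)
    (by have := Finset.card_insert_le y Δ; omega) h1 h2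
  have hg₂Δ' : fixes g₂ Δ := fixes_mono (Finset.subset_insert _ _) hg₂Δ
  have hg₂y : g₂ • y = y := hg₂Δ y (Finset.mem_insert_self _ _)
  refine ⟨(g₂ * g₁) * m * (g₂ * g₁)⁻¹, ‹N.Normal›.conj_mem m hmN _, ?_, ?_⟩
  · exact fixes_mul (fixes_mul (fixes_mul hg₂Δ' hg₁Δ) hmΔ) (fixes_inv (fixes_mul hg₂Δ' hg₁Δ))
  · have h3 : (g₂ * g₁)⁻¹ • y = x := by
      rw [inv_smul_eq_iff, mul_smul, hg₁, hg₂y]
    rw [mul_smul, h3, mul_smul, mul_smul, hg₂]

/-- Transitivity off all small sets gives multiple transitivity. -/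
theorem isMultiplyPretransitive_of_transOn [DecidableEq α] (N : Subgroup G) (m : ℕ)
    (h : ∀ Δ : Finset α, Δ.card < m → ∀ y ∉ Δ, ∀ z ∉ Δ, ∃ g ∈ N, fixes g Δ ∧ g • y = z) :
    IsMultiplyPretransitive N α m := by
  constructor
  intro x y
  have key : ∀ j ≤ m, ∃ g ∈ N, ∀ i : Fin m, i.val < j → g • x i = y i := by
    intro j
    induction j with
    | zero => intro _; exact ⟨1, N.one_mem, fun i hi => absurd hi (Nat.not_lt_zero _)⟩
    | succ j ih =>
      intro hj
      obtain ⟨g, hgN, hg⟩ := ih (by omega)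
      let Δ : Finset α := (Finset.univ.filter (fun i : Fin m => i.val < j)).image y
      have hΔcard : Δ.card < m := by
        calc Δ.card ≤ (Finset.univ.filter (fun i : Fin m => i.val < j)).card :=
              Finset.card_image_le
          _ < (Finset.univ : Finset (Fin m)).card := Finset.card_lt_card (by
              rw [Finset.ssubset_iff_of_subset (Finset.filter_subset _ _)]
              exact ⟨⟨j, by omega⟩, Finset.mem_univ _, by simp⟩)
          _ = m := by simp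
      have h1 : g • x ⟨j, by omega⟩ ∉ Δ := by
        intro hmem
        obtain ⟨i, hi, hyi⟩ := Finset.mem_image.mp hmem
        rw [Finset.mem_filter] at hi
        rw [← hg i hi.2, smul_left_cancel_iff] at hyi
        have := x.injective hyi
        rw [this] at hi
        simp at hi
      have h2 : y ⟨j, by omega⟩ ∉ Δ := by
        intro hmem
        obtain ⟨i, hi, hyi⟩ := Finset.mem_image.mp hmem
        rw [Finset.mem_filter] at hi
        have := y.injective hyi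
        rw [this] at hi
        simp at hi
      obtain ⟨g', hg'N, hg'Δ, hg'⟩ := h Δ hΔcard _ h1 _ h2
      refine ⟨g' * g, N.mul_mem hg'N hgN, fun i hi => ?_⟩
      rcases Nat.lt_succ_iff_lt_or_eq.mp hi with hlt | heq
      · rw [mul_smul, hg i hlt]
        exact hg'Δ _ (Finset.mem_image.mpr ⟨i, by simp [hlt], rfl⟩)
      · have : i = ⟨j, by omega⟩ := Fin.ext heq
        rw [this, mul_smul, hg']
  obtain ⟨g, hgN, hg⟩ := key m le_rfl
  refine ⟨⟨g, hgN⟩, ?_⟩
  ext i
  rw [Function.Embedding.smul_apply]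
  exact hg i i.2

/-- `N_(Γ)` is regular off `Γ`. -/
structure RegSetup (N : Subgroup G) (Γ : Finset α) : Prop where
  trans : ∀ y ∉ Γ, ∀ z ∉ Γ, ∃ h ∈ N, fixes h Γ ∧ h • y = z
  reg : ∀ m ∈ N, fixes m Γ → ∀ b ∉ Γ, m • b = b → m = 1

/-- (C): an element of `G_(Γ)` fixing `a` and `x • a` commutes with `x ∈ N_(Γ)`. -/
theorem commute_of_fix {N : Subgroup G} [N.Normal] {Γ : Finset α} (hS : RegSetup N Γ)
    {a : α} (ha : a ∉ Γ) {g : G} (hgΓ : fixes g Γ) (hga : g • a = a) {x : G} (hxN : x ∈ N)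
    (hxΓ : fixes x Γ) (hgx : g • x • a = x • a) : g * x = x * g := by
  have h1 : x⁻¹ * (g * x * g⁻¹) = 1 := by
    apply hS.reg _ (N.mul_mem (N.inv_mem hxN) (‹N.Normal›.conj_mem x hxN g))
      (fixes_mul (fixes_inv hxΓ) (fixes_mul (fixes_mul hgΓ hxΓ) (fixes_inv hgΓ))) a ha
    have h2 : g⁻¹ • a = a := by rw [inv_smul_eq_iff, hga]
    rw [mul_smul, mul_smul, mul_smul, h2, hgx, inv_smul_smul]
  have h3 : g * x * g⁻¹ = x := by
    rw [inv_mul_eq_one] at h1; exact h1.symm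
  calc g * x = (g * x * g⁻¹) * g := by group
    _ = x * g := by rw [h3]

theorem exists_notMem_of_card_lt [Fintype α] (T : Finset α) (h : T.card < Fintype.card α) :
    ∃ z, z ∉ T := by
  by_contra hno
  push Not at hno
  have : T = Finset.univ := Finset.eq_univ_iff_forall.mpr hno
  rw [this, Finset.card_univ] at h
  exact lt_irrefl _ h

/-- (F3): exponent two. -/
theorem sq_eq_one_of_regSetup [Fintype α] [DecidableEq α] {k : ℕ} (hkn : k < Fintype.card α)
    (hG : IsMultiplyPretransitive G α k) {N : Subgroup G} [N.Normal] {Γ : Finset α}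
    (hS : RegSetup N Γ) (hΓ : Γ.card + 3 ≤ k) {x : G} (hxN : x ∈ N) (hxΓ : fixes x Γ) :
    x ^ 2 = 1 := by
  by_contra hx2
  obtain ⟨a, ha⟩ := exists_notMem_of_card_lt Γ (by omega)
  have hx2a : x • x • a ≠ a := by
    intro h
    apply hx2
    apply hS.reg _ (N.pow_mem hxN 2) (fixes_pow hxΓ 2) a ha
    rw [pow_two, mul_smul, h]
  have hpa : x • a ≠ a := by
    intro h; rw [h, h] at hx2a; exact hx2a rfl
  have hqa : x⁻¹ • a ≠ a := by
    intro h; rw [inv_smul_eq_iff] at h; exact hpa h.symm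
  have hpq : x⁻¹ • a ≠ x • a := by
    intro h; rw [inv_smul_eq_iff] at h; exact hx2a h.symm
  have hpΓ : x • a ∉ Γ := smul_notMem hxΓ ha
  have hqΓ : x⁻¹ • a ∉ Γ := smul_notMem (fixes_inv hxΓ) ha
  obtain ⟨z, hz⟩ := exists_notMem_of_card_lt (insert (x⁻¹ • a) (insert a (insert (x • a) Γ)))
    (by
      have h1 := Finset.card_insert_le (x⁻¹ • a) (insert a (insert (x • a) Γ))
      have h2 := Finset.card_insert_le a (insert (x • a) Γ)
      have h3 := Finset.card_insert_le (x • a) Γ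
      omega)
  simp only [Finset.mem_insert, not_or] at hz
  obtain ⟨hzq, hza, hzp, hzΓ⟩ := hz
  obtain ⟨g, hgT, hg⟩ := exists_fixing hkn.le hG (insert a (insert (x • a) Γ))
    (by
      have h2 := Finset.card_insert_le a (insert (x • a) Γ)
      have h3 := Finset.card_insert_le (x • a) Γ
      omega)
    (u := x⁻¹ • a) (v := z)
    (by simp only [Finset.mem_insert, not_or]; exact ⟨hqa, hpq, hqΓ⟩)
    (by simp only [Finset.mem_insert, not_or]; exact ⟨hza, hzp, hzΓ⟩)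
  have hga : g • a = a := hgT a (Finset.mem_insert_self _ _)
  have hgp : g • x • a = x • a :=
    hgT _ (Finset.mem_insert_of_mem (Finset.mem_insert_self _ _))
  have hgΓ : fixes g Γ :=
    fixes_mono ((Finset.subset_insert _ _).trans (Finset.subset_insert _ _)) hgT
  have hc := commute_of_fix hS ha hgΓ hga hxN hxΓ hgp
  have hc' : g * x⁻¹ = x⁻¹ * g := by
    rw [eq_inv_mul_iff_mul_eq, ← mul_assoc, hc.symm, mul_inv_cancel_right]
  apply hzq
  rw [← hg, ← mul_smul, hc', mul_smul, hga]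

theorem inv_eq_self_of_sq {x : G} (h : x ^ 2 = 1) : x⁻¹ = x := by
  rw [inv_eq_iff_mul_eq_one, ← pow_two, h]

/-- (F4): `|Γ| + 4 ≤ k` is impossible. -/
theorem false_of_regSetup_four [Fintype α] [DecidableEq α] {k : ℕ} (hkn : k < Fintype.card α)
    (hG : IsMultiplyPretransitive G α k) {N : Subgroup G} [N.Normal] {Γ : Finset α}
    (hS : RegSetup N Γ) (hΓ : Γ.card + 4 ≤ k) : False := by
  have hexp : ∀ x ∈ N, fixes x Γ → x ^ 2 = 1 := fun x hxN hxΓ =>
    sq_eq_one_of_regSetup hkn hG hS (by omega) hxN hxΓ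
  obtain ⟨a, ha⟩ := exists_notMem_of_card_lt Γ (by omega)
  obtain ⟨b₁, hb₁⟩ := exists_notMem_of_card_lt (insert a Γ)
    (by have := Finset.card_insert_le a Γ; omega)
  obtain ⟨b₂, hb₂⟩ := exists_notMem_of_card_lt (insert b₁ (insert a Γ))
    (by
      have := Finset.card_insert_le a Γ
      have := Finset.card_insert_le b₁ (insert a Γ)
      omega)
  simp only [Finset.mem_insert, not_or] at hb₁ hb₂
  obtain ⟨hb₁a, hb₁Γ⟩ := hb₁
  obtain ⟨hb₂b₁, hb₂a, hb₂Γ⟩ := hb₂
  obtain ⟨x, hxN, hxΓ, hx⟩ := hS.trans a ha b₁ hb₁Γ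
  obtain ⟨y, hyN, hyΓ, hy⟩ := hS.trans a ha b₂ hb₂Γ
  have hx' := inv_eq_self_of_sq (hexp x hxN hxΓ)
  have hy' := inv_eq_self_of_sq (hexp y hyN hyΓ)
  have hxy' := inv_eq_self_of_sq (hexp (x * y) (N.mul_mem hxN hyN) (fixes_mul hxΓ hyΓ))
  have hxy : x * y = y * x := by
    calc x * y = (x * y)⁻¹ := hxy'.symm
      _ = y⁻¹ * x⁻¹ := mul_inv_rev x y
      _ = y * x := by rw [hx', hy']
  have hb₃Γ : (x * y) • a ∉ Γ := smul_notMem (fixes_mul hxΓ hyΓ) ha
  have hb₃a : (x * y) • a ≠ a := by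
    intro h
    have h1 : x * y = 1 := hS.reg _ (N.mul_mem hxN hyN) (fixes_mul hxΓ hyΓ) a ha h
    have h2 : y = x := by
      rw [← hx']; exact (inv_eq_of_mul_eq_one_right h1).symm
    apply hb₂b₁
    rw [← hy, ← hx, h2]
  have hb₃b₁ : (x * y) • a ≠ b₁ := by
    intro h
    rw [mul_smul, ← hx, smul_left_cancel_iff, hy] at h
    exact hb₂a h
  have hb₃b₂ : (x * y) • a ≠ b₂ := by
    intro h
    rw [hxy, mul_smul, ← hy, smul_left_cancel_iff, hx] at h
    exact hb₁a h
  obtain ⟨z, hz⟩ := exists_notMem_of_card_lt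
    (insert ((x * y) • a) (insert b₂ (insert b₁ (insert a Γ))))
    (by
      have := Finset.card_insert_le a Γ
      have := Finset.card_insert_le b₁ (insert a Γ)
      have := Finset.card_insert_le b₂ (insert b₁ (insert a Γ))
      have := Finset.card_insert_le ((x * y) • a) (insert b₂ (insert b₁ (insert a Γ)))
      omega)
  simp only [Finset.mem_insert, not_or] at hz
  obtain ⟨hzb₃, hzb₂, hzb₁, hza, hzΓ⟩ := hz
  obtain ⟨g, hgT, hg⟩ := exists_fixing hkn.le hG (insert b₂ (insert b₁ (insert a Γ)))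
    (by
      have := Finset.card_insert_le a Γ
      have := Finset.card_insert_le b₁ (insert a Γ)
      have := Finset.card_insert_le b₂ (insert b₁ (insert a Γ))
      omega)
    (u := (x * y) • a) (v := z)
    (by simp only [Finset.mem_insert, not_or]; exact ⟨hb₃b₂, hb₃b₁, hb₃a, hb₃Γ⟩)
    (by simp only [Finset.mem_insert, not_or]; exact ⟨hzb₂, hzb₁, hza, hzΓ⟩)
  have hgb₂ : g • b₂ = b₂ := hgT _ (Finset.mem_insert_self _ _)
  have hgb₁ : g • b₁ = b₁ := hgT _ (Finset.mem_insert_of_mem (Finset.mem_insert_self _ _))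
  have hga : g • a = a := hgT _ (Finset.mem_insert_of_mem (Finset.mem_insert_of_mem
    (Finset.mem_insert_self _ _)))
  have hgΓ : fixes g Γ := fixes_mono ((Finset.subset_insert _ _).trans
    ((Finset.subset_insert _ _).trans (Finset.subset_insert _ _))) hgT
  have hcx := commute_of_fix hS ha hgΓ hga hxN hxΓ (by rw [hx]; exact hgb₁)
  have hcy := commute_of_fix hS ha hgΓ hga hyN hyΓ (by rw [hy]; exact hgb₂)
  apply hzb₃
  rw [← hg, ← mul_smul, ← mul_assoc, hcx, mul_assoc, hcy, ← mul_assoc, mul_smul, hga]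

/-- (F6): the configuration one level up is impossible. -/
theorem false_of_regSetup_erase [Fintype α] [DecidableEq α] {N : Subgroup G} {Γ : Finset α}
    (hS : RegSetup N Γ) (hexp : ∀ x ∈ N, fixes x Γ → x ^ 2 = 1) {c : α} (hc : c ∈ Γ)
    (htrans' : ∀ y ∉ Γ.erase c, ∀ z ∉ Γ.erase c, ∃ h ∈ N, fixes h (Γ.erase c) ∧ h • y = z)
    (hcard : Γ.card + 3 ≤ Fintype.card α) : False := by
  obtain ⟨b, hb⟩ := exists_notMem_of_card_lt Γ (by omega)
  obtain ⟨c', hc'⟩ := exists_notMem_of_card_lt (insert b Γ)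
    (by have := Finset.card_insert_le b Γ; omega)
  obtain ⟨a₂, ha₂⟩ := exists_notMem_of_card_lt (insert c' (insert b Γ))
    (by
      have := Finset.card_insert_le b Γ
      have := Finset.card_insert_le c' (insert b Γ)
      omega)
  simp only [Finset.mem_insert, not_or] at hc' ha₂
  obtain ⟨hc'b, hc'Γ⟩ := hc'
  obtain ⟨ha₂c', ha₂b, ha₂Γ⟩ := ha₂
  have hΓeq : insert c (Γ.erase c) = Γ := Finset.insert_erase hc
  have hsub : Γ.erase c ⊆ Γ := Finset.erase_subset _ _
  have hcΓ' : c ∉ Γ.erase c := Finset.notMem_erase c Γ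
  have hinv : ∀ h : G, fixes h (Γ.erase c) → ∀ y, y ∉ Γ → y ≠ h • c → h⁻¹ • y ∉ Γ := by
    intro h hh y hy hyc hmem
    rw [← hΓeq, Finset.mem_insert] at hmem
    rcases hmem with h1 | h1
    · rw [inv_smul_eq_iff] at h1; exact hyc h1
    · exact smul_notMem (fixes_inv hh) (fun h2 => hy (hsub h2)) h1
  have factR : ∀ w ∈ N, fixes w (Γ.erase c) → ∀ p q, p ∉ Γ → q ∉ Γ → p ≠ q → w • p = p →
      w • q = q → w = 1 := by
    intro w hwN hwΓ p q hp hq hpq hwp hwq
    obtain ⟨h', hh'N, hh'Γ, hh'⟩ := htrans' c hcΓ' p (fun h2 => hp (hsub h2))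
    have hv : h'⁻¹ * w * h' = 1 := by
      apply hS.reg _ (N.mul_mem (N.mul_mem (N.inv_mem hh'N) hwN) hh'N) ?_ (h'⁻¹ • q)
        (hinv h' hh'Γ q hq (by rw [hh']; exact hpq.symm)) ?_
      · rw [← hΓeq]
        apply fixes_insert
        · rw [mul_smul, mul_smul, hh', hwp, ← hh', inv_smul_smul]
        · exact fixes_mul (fixes_mul (fixes_inv hh'Γ) hwΓ) hh'Γ
      · rw [mul_smul, mul_smul, smul_inv_smul, hwq]
    have : w = h' * (h'⁻¹ * w * h') * h'⁻¹ := by group
    rw [this, hv]; group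
  -- first involution
  obtain ⟨s₁, hs₁N, hs₁Γ, hs₁⟩ := hS.trans b hb c' hc'Γ
  have hs₁sq := hexp s₁ hs₁N hs₁Γ
  have hs₁c' : s₁ • c' = b := by
    rw [← hs₁, ← mul_smul, ← pow_two, hs₁sq, one_smul]
  -- second involution
  obtain ⟨h, hhN, hhΓ, hh⟩ := htrans' c hcΓ' a₂ (fun h2 => ha₂Γ (hsub h2))
  obtain ⟨t, htN, htΓ, ht⟩ := hS.trans (h⁻¹ • b) (hinv h hhΓ b hb (by rw [hh]; exact fun e => ha₂b e.symm))
    (h⁻¹ • c') (hinv h hhΓ c' hc'Γ (by rw [hh]; exact fun e => ha₂c' e.symm))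
  have htsq := hexp t htN htΓ
  have hs₂N : h * t * h⁻¹ ∈ N := N.mul_mem (N.mul_mem hhN htN) (N.inv_mem hhN)
  have hs₂Γ : fixes (h * t * h⁻¹) (Γ.erase c) :=
    fixes_mul (fixes_mul hhΓ (fixes_mono hsub htΓ)) (fixes_inv hhΓ)
  have hs₂b : (h * t * h⁻¹) • b = c' := by
    rw [mul_smul, mul_smul, ht, smul_inv_smul]
  have hs₂sq : (h * t * h⁻¹) ^ 2 = 1 := by
    rw [conj_pow, htsq]; group
  have hs₂c' : (h * t * h⁻¹) • c' = b := by
    rw [← hs₂b, ← mul_smul, ← pow_two, hs₂sq, one_smul]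
  have hs₂a₂ : (h * t * h⁻¹) • a₂ = a₂ := by
    rw [mul_smul, mul_smul, ← hh, inv_smul_smul, htΓ c hc]
  have hw : s₁ * (h * t * h⁻¹) = 1 := by
    apply factR _ (N.mul_mem hs₁N hs₂N) (fixes_mul (fixes_mono hsub hs₁Γ) hs₂Γ) b c' hb hc'Γ
      (fun e => hc'b e.symm)
    · rw [mul_smul, hs₂b, hs₁c']
    · rw [mul_smul, hs₂c', hs₁]
  have h1 : h * t * h⁻¹ = s₁ := by
    rw [← inv_eq_self_of_sq hs₁sq]; exact (inv_eq_of_mul_eq_one_right hw).symm
  have h2 : s₁ = 1 := hS.reg s₁ hs₁N hs₁Γ a₂ ha₂Γ (by rw [← h1]; exact hs₂a₂)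
  rw [h2, one_smul] at hs₁
  exact hc'b hs₁.symm

/-- Jordan's theorem on normal subgroups, for a faithful action of an abstract group. -/
theorem jordan_general [FaithfulSMul G α] [Fintype α] [DecidableEq α] {k : ℕ} (hk : 1 < k)
    (hdeg : k < Fintype.card α) (hG : IsMultiplyPretransitive G α k) (N : Subgroup G) [N.Normal]
    (hN : N ≠ ⊥) :
    IsMultiplyPretransitive N α (k - 1) ∨ (k = 3 ∧ ∀ x ∈ N, x ^ 2 = 1) := by
  by_cases hcon : IsMultiplyPretransitive N α (k - 1)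
  · exact Or.inl hcon
  right
  have hmoves : ∀ m : G, m ≠ 1 → ∃ x : α, m • x ≠ x := by
    intro m hm1
    by_contra hall
    push Not at hall
    exact hm1 (FaithfulSMul.eq_of_smul_eq_smul (fun a => by rw [hall a, one_smul]))
  have h1 : ∃ Δ : Finset α, Δ.card + 2 ≤ k ∧ ∀ m ∈ N, fixes m Δ → m = 1 := by
    by_contra hno
    push Not at hno
    apply hcon
    apply isMultiplyPretransitive_of_transOn
    intro Δ hΔ y hy z hz
    obtain ⟨m, hmN, hmΔ, hm1⟩ := hno Δ (by omega)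
    obtain ⟨x, hx⟩ := hmoves m hm1
    exact transOn_of_normal hdeg.le hG N Δ (by omega) m hmN hmΔ x hx y hy z hz
  classical
  have hP : ∃ j, ∃ Δ : Finset α, Δ.card = j ∧ Δ.card + 2 ≤ k ∧ ∀ m ∈ N, fixes m Δ → m = 1 := by
    obtain ⟨Δ, h2, h3⟩ := h1
    exact ⟨_, Δ, rfl, h2, h3⟩
  obtain ⟨Δ, hΔj, hΔk, hΔtriv⟩ := Nat.find_spec hP
  have hmin : ∀ Δ' : Finset α, Δ'.card < Nat.find hP → ∃ m ∈ N, fixes m Δ' ∧ m ≠ 1 := by
    intro Δ' h'
    by_contra hno
    push Not at hno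
    exact Nat.find_min hP h' ⟨Δ', rfl, by omega, hno⟩
  have hΔne : Δ.Nonempty := by
    by_contra hemp
    rw [Finset.not_nonempty_iff_eq_empty] at hemp
    apply hN
    rw [Subgroup.eq_bot_iff_forall]
    intro m hm
    exact hΔtriv m hm (by rw [hemp]; intro d hd; simp at hd)
  obtain ⟨a, ha⟩ := hΔne
  have hΓcard : (Δ.erase a).card + 1 = Δ.card := Finset.card_erase_add_one ha
  obtain ⟨x₀, hx₀N, hx₀Γ, hx₀1⟩ := hmin (Δ.erase a) (by omega)
  obtain ⟨p₀, hp₀⟩ := hmoves x₀ hx₀1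
  have haΓ : a ∉ Δ.erase a := Finset.notMem_erase a Δ
  have hΔeq : insert a (Δ.erase a) = Δ := Finset.insert_erase ha
  have htrans : ∀ y ∉ Δ.erase a, ∀ z ∉ Δ.erase a, ∃ h ∈ N, fixes h (Δ.erase a) ∧ h • y = z :=
    fun y hy z hz =>
      transOn_of_normal hdeg.le hG N (Δ.erase a) (by omega) x₀ hx₀N hx₀Γ p₀ hp₀ y hy z hz
  have hS : RegSetup N (Δ.erase a) := by
    refine ⟨htrans, fun m hmN hmΓ b hb hmb => ?_⟩
    obtain ⟨h, hhN, hhΓ, hh⟩ := htrans a haΓ b hb
    have h2 : h⁻¹ * m * h = 1 := by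
      apply hΔtriv _ (N.mul_mem (N.mul_mem (N.inv_mem hhN) hmN) hhN)
      rw [← hΔeq]
      apply fixes_insert
      · rw [mul_smul, mul_smul, hh, hmb, ← hh, inv_smul_smul]
      · exact fixes_mul (fixes_mul (fixes_inv hhΓ) hmΓ) hhΓ
    have : m = h * (h⁻¹ * m * h) * h⁻¹ := by group
    rw [this, h2]; group
  have hexp : ∀ x ∈ N, fixes x (Δ.erase a) → x ^ 2 = 1 := fun x hxN hxΓ =>
    sq_eq_one_of_regSetup hdeg hG hS (by omega) hxN hxΓ
  have hk3 : (Δ.erase a).card + 3 = k := by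
    by_contra hne
    exact false_of_regSetup_four hdeg hG hS (by omega)
  rcases (Δ.erase a).eq_empty_or_nonempty with hΓ | ⟨c, hc⟩
  · refine ⟨by rw [hΓ] at hk3; simpa using hk3.symm, fun x hx => hexp x hx ?_⟩
    rw [hΓ]; intro d hd; simp at hd
  · exfalso
    refine false_of_regSetup_erase hS hexp hc ?_ (by omega)
    intro y hy z hz
    have hc1 : ((Δ.erase a).erase c).card + 1 = (Δ.erase a).card := Finset.card_erase_add_one hc
    exact transOn_of_normal hdeg.le hG N ((Δ.erase a).erase c) (by omega) x₀ hx₀N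
      (fixes_mono (Finset.erase_subset _ _) hx₀Γ) p₀ hp₀ y hy z hz

/-- Jordan's Theorem on normal subgroups of multiply transitive groups: if `G` is `k`-transitive (`k > 1`) of degree greater than `k`, a non-trivial normal subgroup is `(k-1)`-transitive, except possibly for `k = 3` when it may be an elementary abelian 2-group. -/
theorem result {α : Type*} [Fintype α] [DecidableEq α] (G : Subgroup (Equiv.Perm α)) {k : ℕ} (hk : 1 < k) (hdeg : k < Fintype.card α) (hG : MulAction.IsMultiplyPretransitive G α k) (N : Subgroup G) [N.Normal] (hN : N ≠ ⊥) : MulAction.IsMultiplyPretransitive N α (k - 1) ∨ (k = 3 ∧ IsMulCommutative N ∧ ∀ n ∈ N, n ^ 2 = 1) := by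
  rcases jordan_general hk hdeg hG N hN with h | ⟨h3, hexp⟩
  · exact Or.inl h
  · refine Or.inr ⟨h3, ⟨⟨fun x y => ?_⟩⟩, fun n hn => ?_⟩
    · have hx := inv_eq_self_of_sq (hexp x.1 x.2)
      have hy := inv_eq_self_of_sq (hexp y.1 y.2)
      have hxy := inv_eq_self_of_sq (hexp (x.1 * y.1) (N.mul_mem x.2 y.2))
      apply Subtype.ext
      calc (x * y : N).1 = ((x.1 * y.1))⁻¹ := hxy.symm
        _ = y.1⁻¹ * x.1⁻¹ := mul_inv_rev _ _
        _ = (y * x : N).1 := by rw [hx, hy]; rfl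
    · exact hexp n hn

end Cfsg.Agent.S0698
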