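import Mathlib
import Cfsg.Statements.S0699
import Cfsg.Agent.S0698

set_option autoImplicit false
open Cfsg

namespace Cfsg.Agent.S0699

open MulAction Cfsg.Agent.S0698

variable {G α : Type*} [Group G] [MulAction G α]

/-- The setwise stabilizer of `{a, b}` in `N`. -/
def pairStab (N : Subgroup G) (a b : α) : Subgroup G where
  carrier := {x | x ∈ N ∧ ((x • a = a ∧ x • b = b) ∨ (x • a = b ∧ x • b = a))}
  one_mem' := ⟨N.one_mem, Or.inl ⟨one_smul _ _, one_smul _ _⟩⟩
  mul_mem' := by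
    rintro x y ⟨hx, hx'⟩ ⟨hy, hy'⟩
    refine ⟨N.mul_mem hx hy, ?_⟩
    rcases hx' with ⟨h1, h2⟩ | ⟨h1, h2⟩ <;> rcases hy' with ⟨h3, h4⟩ | ⟨h3, h4⟩
    · left; simp [mul_smul, h1, h2, h3, h4]
    · right; simp [mul_smul, h1, h2, h3, h4]
    · right; simp [mul_smul, h1, h2, h3, h4]
    · left; simp [mul_smul, h1, h2, h3, h4]
  inv_mem' := by
    rintro x ⟨hx, hx'⟩
    refine ⟨N.inv_mem hx, ?_⟩
    rcases hx' with ⟨h1, h2⟩ | ⟨h1, h2⟩
    · left; exact ⟨by rw [inv_smul_eq_iff, h1], by rw [inv_smul_eq_iff, h2]⟩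
    · right; exact ⟨by rw [inv_smul_eq_iff, h2], by rw [inv_smul_eq_iff, h1]⟩

/-- The pointwise stabilizer of `a` and `b` in `N`. -/
def pointStab (N : Subgroup G) (a b : α) : Subgroup G where
  carrier := {x | x ∈ N ∧ x • a = a ∧ x • b = b}
  one_mem' := ⟨N.one_mem, one_smul _ _, one_smul _ _⟩
  mul_mem' := by
    rintro x y ⟨hx, h1, h2⟩ ⟨hy, h3, h4⟩
    exact ⟨N.mul_mem hx hy, by rw [mul_smul, h3, h1], by rw [mul_smul, h4, h2]⟩
  inv_mem' := by
    rintro x ⟨hx, h1, h2⟩
    exact ⟨N.inv_mem hx, by rw [inv_smul_eq_iff, h1], by rw [inv_smul_eq_iff, h2]⟩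

theorem mem_pairStab {N : Subgroup G} {a b : α} {x : G} : x ∈ pairStab N a b ↔
    x ∈ N ∧ ((x • a = a ∧ x • b = b) ∨ (x • a = b ∧ x • b = a)) := Iff.rfl

theorem mem_pointStab {N : Subgroup G} {a b : α} {x : G} : x ∈ pointStab N a b ↔
    x ∈ N ∧ x • a = a ∧ x • b = b := Iff.rfl

theorem pointStab_le_pairStab (N : Subgroup G) (a b : α) : pointStab N a b ≤ pairStab N a b :=
  fun _ hx => ⟨hx.1, Or.inl hx.2⟩

/-- `|N_{{a,b}}| = 2 |N_{ab}|` when some element of `N` swaps `a` and `b`. -/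
theorem card_pairStab {N : Subgroup G} {a b : α} (hab : a ≠ b) {u : G} (huN : u ∈ N)
    (hua : u • a = b) (hub : u • b = a) :
    Nat.card (pairStab N a b) = 2 * Nat.card (pointStab N a b) := by
  have hidx : ((pointStab N a b).subgroupOf (pairStab N a b)).index = 2 := by
    rw [Subgroup.index_eq_two_iff]
    refine ⟨⟨u, huN, Or.inr ⟨hua, hub⟩⟩, fun x => ?_⟩
    obtain ⟨x, hxN, hx⟩ := x
    simp only [Subgroup.mem_subgroupOf, Subgroup.coe_mul, mem_pointStab]
    rcases hx with ⟨h1, h2⟩ | ⟨h1, h2⟩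
    · right
      refine ⟨⟨hxN, h1, h2⟩, ?_⟩
      rintro ⟨-, h3, -⟩
      rw [mul_smul, hua, h2] at h3
      exact hab h3.symm
    · left
      refine ⟨⟨N.mul_mem hxN huN, by rw [mul_smul, hua, h2], by rw [mul_smul, hub, h1]⟩, ?_⟩
      rintro ⟨-, h3, -⟩
      rw [h1] at h3
      exact hab h3.symm
  have h1 := Subgroup.index_mul_card ((pointStab N a b).subgroupOf (pairStab N a b))
  rw [hidx, Nat.card_congr (Subgroup.subgroupOfEquivOfLe (pointStab_le_pairStab N a b)).toEquiv]
    at h1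
  exact h1.symm

/-- A subgroup of `N` whose order does not divide `|N_{ab}|` fixes at most one point. -/
theorem fix_unique {N : Subgroup G} {a b : α}
    (h2t : ∀ z z' : α, z ≠ z' → ∃ m ∈ N, m • a = z ∧ m • b = z')
    (T : Subgroup G) (hTN : T ≤ N) (hcard : ¬ Nat.card T ∣ Nat.card (pointStab N a b))
    {z z' : α} (hz : ∀ t ∈ T, t • z = z) (hz' : ∀ t ∈ T, t • z' = z') : z = z' := by
  by_contra hne
  obtain ⟨m, hmN, hma, hmb⟩ := h2t z z' hne
  apply hcard
  have hle : T.map (MulAut.conj m⁻¹).toMonoidHom ≤ pointStab N a b := by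
    rintro _ ⟨t, ht, rfl⟩
    simp only [MulEquiv.coe_toMonoidHom, MulAut.conj_apply, inv_inv]
    refine ⟨N.mul_mem (N.mul_mem (N.inv_mem hmN) (hTN ht)) hmN, ?_, ?_⟩
    · rw [mul_smul, mul_smul, hma, hz t ht, ← hma, inv_smul_smul]
    · rw [mul_smul, mul_smul, hmb, hz' t ht, ← hmb, inv_smul_smul]
  rw [← Subgroup.card_map_of_injective (K := T) (f := (MulAut.conj m⁻¹).toMonoidHom)
    (MulAut.conj m⁻¹).injective]
  exact Subgroup.card_dvd_of_le hle

/-- Core of Wagner's theorem: `N_{ab}` is transitive on the remaining points. -/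
theorem pointStab_trans [Finite G] [Fintype α] [DecidableEq α] (hodd : Odd (Fintype.card α))
    (h3n : 3 ≤ Fintype.card α) (hG : IsMultiplyPretransitive G α 3) (N : Subgroup G) [N.Normal]
    (h2t : ∀ a b z z' : α, a ≠ b → z ≠ z' → ∃ m ∈ N, m • a = z ∧ m • b = z')
    {a b : α} (hab : a ≠ b) {z z' : α} (hza : z ≠ a) (hzb : z ≠ b) (hz'a : z' ≠ a)
    (hz'b : z' ≠ b) : ∃ h ∈ N, h • a = a ∧ h • b = b ∧ h • z = z' := by
  obtain ⟨u, huN, hua, hub⟩ := h2t a b b a hab hab.symm
  have hcardD := card_pairStab hab huN hua hub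
  have : Fact (Nat.Prime 2) := ⟨Nat.prime_two⟩
  obtain ⟨Q⟩ : Nonempty (Sylow 2 (pairStab N a b)) := inferInstance
  have hDN : pairStab N a b ≤ N := fun _ hx => hx.1
  have hHpos : Nat.card (pointStab N a b) ≠ 0 := Nat.card_pos.ne'
  -- the image of `Q` in `G`
  have hQ'D : (Q : Subgroup (pairStab N a b)).map (pairStab N a b).subtype ≤ pairStab N a b := by
    rintro _ ⟨q, _, rfl⟩; exact q.2
  have hQ'card : Nat.card ((Q : Subgroup (pairStab N a b)).map (pairStab N a b).subtype) =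
      2 ^ ((Nat.card (pointStab N a b)).factorization 2 + 1) := by
    rw [Subgroup.card_map_of_injective (pairStab N a b).subtype_injective,
      Sylow.card_eq_multiplicity, hcardD, Nat.factorization_mul two_ne_zero hHpos]
    simp [Nat.Prime.factorization_self Nat.prime_two, add_comm]
  have hnd : ∀ T : Subgroup G, Nat.card T =
      Nat.card ((Q : Subgroup (pairStab N a b)).map (pairStab N a b).subtype) →
      ¬ Nat.card T ∣ Nat.card (pointStab N a b) := by
    intro T hT
    rw [hT, hQ'card]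
    exact Nat.pow_succ_factorization_not_dvd hHpos Nat.prime_two
  -- the fixed point of `Q`
  have hnd2 : ¬ 2 ∣ Nat.card α := by
    rw [Nat.card_eq_fintype_card]
    intro h
    exact (Nat.not_even_iff_odd.mpr hodd) (even_iff_two_dvd.mpr h)
  obtain ⟨c, hc⟩ := Q.isPGroup'.nonempty_fixed_point_of_prime_not_dvd_card α hnd2
  have hcQ' : ∀ t ∈ (Q : Subgroup (pairStab N a b)).map (pairStab N a b).subtype, t • c = c := by
    rintro _ ⟨q, hq, rfl⟩
    exact hc ⟨q, hq⟩
  have hfu : ∀ T : Subgroup G, T ≤ N → Nat.card T =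
      Nat.card ((Q : Subgroup (pairStab N a b)).map (pairStab N a b).subtype) →
      ∀ {z z' : α}, (∀ t ∈ T, t • z = z) → (∀ t ∈ T, t • z' = z') → z = z' :=
    fun T hTN hT => fix_unique (N := N) (a := a) (b := b) (fun z z' hzz' => h2t a b z z' hab hzz')
      T hTN (hnd T hT)
  -- `Q` contains an element swapping `a` and `b`
  have hca : c ≠ a := by
    intro hca
    apply hab
    refine hfu _ (hQ'D.trans hDN) rfl (z := a) (z' := b) (fun t ht => hca ▸ hcQ' t ht) ?_
    intro t ht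
    have h1 : t • a = a := hca ▸ hcQ' t ht
    rcases (hQ'D ht).2 with ⟨_, h3⟩ | ⟨h2, _⟩
    · exact h3
    · exact absurd (h1.symm.trans h2) hab
  obtain ⟨e, heQ, hea⟩ : ∃ e ∈ (Q : Subgroup (pairStab N a b)).map (pairStab N a b).subtype,
      e • a ≠ a := by
    by_contra hno
    push Not at hno
    exact hca (hfu _ (hQ'D.trans hDN) rfl hcQ' hno)
  have heswap : e • a = b ∧ e • b = a := by
    rcases (hQ'D heQ).2 with ⟨h2, _⟩ | h
    · exact absurd h2 hea
    · exact h
  have hcb : c ≠ b := by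
    intro hcb
    have := hcQ' e heQ
    rw [hcb, heswap.2] at this
    exact hab this
  -- transitivity of `D` on the remaining points via Sylow conjugacy
  have key : ∀ g : G, g • a = a → g • b = b → ∃ d ∈ pairStab N a b, d • c = g • c := by
    intro g hga hgb
    have hg'a : g⁻¹ • a = a := by rw [inv_smul_eq_iff, hga]
    have hg'b : g⁻¹ • b = b := by rw [inv_smul_eq_iff, hgb]
    have hTD : ((Q : Subgroup (pairStab N a b)).map (pairStab N a b).subtype).map
        (MulAut.conj g).toMonoidHom ≤ pairStab N a b := by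
      rintro _ ⟨t, ht, rfl⟩
      simp only [MulEquiv.coe_toMonoidHom, MulAut.conj_apply]
      obtain ⟨htN, ht'⟩ := hQ'D ht
      refine ⟨‹N.Normal›.conj_mem t htN g, ?_⟩
      rcases ht' with ⟨h1, h2⟩ | ⟨h1, h2⟩
      · left
        exact ⟨by rw [mul_smul, mul_smul, hg'a, h1, hga], by rw [mul_smul, mul_smul, hg'b, h2, hgb]⟩
      · right
        exact ⟨by rw [mul_smul, mul_smul, hg'a, h1, hgb], by rw [mul_smul, mul_smul, hg'b, h2, hga]⟩
    have hTp : IsPGroup 2 ((((Q : Subgroup (pairStab N a b)).map (pairStab N a b).subtype).map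
        (MulAut.conj g).toMonoidHom).subgroupOf (pairStab N a b)) :=
      ((Q.isPGroup'.map _).map _).comap_of_injective _ (pairStab N a b).subtype_injective
    obtain ⟨Q'', hQ''⟩ := hTp.exists_le_sylow
    obtain ⟨d, hd⟩ := MulAction.exists_smul_eq (pairStab N a b) Q Q''
    refine ⟨d.1, d.2, ?_⟩
    refine hfu _ (hTD.trans hDN) ?_ ?_ ?_
    · rw [Subgroup.card_map_of_injective (MulAut.conj g).injective]
    · -- `T` fixes `d • c`
      rintro _ ⟨t, ht, rfl⟩
      simp only [MulEquiv.coe_toMonoidHom, MulAut.conj_apply]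
      have h1 : (⟨g * t * g⁻¹, hTD ⟨t, ht, rfl⟩⟩ : pairStab N a b) ∈
          (Q'' : Subgroup (pairStab N a b)) := hQ'' (by
        rw [Subgroup.mem_subgroupOf]
        exact ⟨t, ht, rfl⟩)
      rw [← hd, Sylow.coe_subgroup_smul, Subgroup.mem_pointwise_smul_iff_inv_smul_mem] at h1
      have h2 := hc ⟨_, h1⟩
      have h3 : (d.1⁻¹ * (g * t * g⁻¹) * d.1) • c = c := by
        convert h2 using 2
        simp only [MulAut.smul_def, MulAut.inv_apply, MulAut.conj_symm_apply]
        rfl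
      rw [mul_smul, mul_smul, inv_smul_eq_iff] at h3
      exact h3
    · -- `T` fixes `g • c`
      rintro _ ⟨t, ht, rfl⟩
      simp only [MulEquiv.coe_toMonoidHom, MulAut.conj_apply]
      rw [mul_smul, mul_smul, inv_smul_smul, hcQ' t ht]
  -- from `D` to `H`
  have key2 : ∀ y : α, y ≠ a → y ≠ b → ∃ h ∈ N, h • a = a ∧ h • b = b ∧ h • c = y := by
    intro y hya hyb
    obtain ⟨g, hgT, hgc⟩ := exists_fixing h3n hG {a, b}
      (by have := Finset.card_insert_le a {b}; simp at this ⊢; omega) (u := c) (v := y)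
      (by simp [hca, hcb]) (by simp [hya, hyb])
    have hga : g • a = a := hgT a (by simp)
    have hgb : g • b = b := hgT b (by simp)
    obtain ⟨d, hdD, hdc⟩ := key g hga hgb
    rw [hgc] at hdc
    rcases hdD.2 with ⟨h1, h2⟩ | ⟨h1, h2⟩
    · exact ⟨d, hdD.1, h1, h2, hdc⟩
    · refine ⟨d * e, N.mul_mem hdD.1 (hDN (hQ'D heQ)), ?_, ?_, ?_⟩
      · rw [mul_smul, heswap.1, h2]
      · rw [mul_smul, heswap.2, h1]
      · rw [mul_smul, hcQ' e heQ, hdc]
  obtain ⟨h₁, h₁N, h₁a, h₁b, h₁c⟩ := key2 z hza hzb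
  obtain ⟨h₂, h₂N, h₂a, h₂b, h₂c⟩ := key2 z' hz'a hz'b
  refine ⟨h₂ * h₁⁻¹, N.mul_mem h₂N (N.inv_mem h₁N), ?_, ?_, ?_⟩
  · rw [mul_smul, inv_smul_eq_iff.mpr h₁a.symm, h₂a]
  · rw [mul_smul, inv_smul_eq_iff.mpr h₁b.symm, h₂b]
  · rw [mul_smul, inv_smul_eq_iff.mpr h₁c.symm, h₂c]


/-- Wagner's theorem for a faithful action of an abstract finite group. -/
theorem wagner_general [FaithfulSMul G α] [Finite G] [Fintype α] [DecidableEq α]
    (hodd : Odd (Fintype.card α)) (h5 : 5 ≤ Fintype.card α)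
    (hG : IsMultiplyPretransitive G α 3) (N : Subgroup G) [N.Normal] (hN : N ≠ ⊥) :
    IsMultiplyPretransitive N α 3 := by
  have hnd2 : ¬ 2 ∣ Nat.card α := by
    rw [Nat.card_eq_fintype_card]
    intro h
    exact (Nat.not_even_iff_odd.mpr hodd) (even_iff_two_dvd.mpr h)
  have : Fact (Nat.Prime 2) := ⟨Nat.prime_two⟩
  have hN2 : IsMultiplyPretransitive N α 2 := by
    rcases jordan_general (k := 3) (by norm_num) (by omega) hG N hN with h | ⟨_, hexp⟩
    · exact h
    · exfalso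
      obtain ⟨x, hxN, hx1⟩ : ∃ x ∈ N, x ≠ 1 := by
        by_contra hno
        push Not at hno
        exact hN ((Subgroup.eq_bot_iff_forall _).mpr hno)
      have hx2 := hexp x hxN
      have hp : IsPGroup 2 (Subgroup.zpowers x) := by
        rintro ⟨g, hg⟩
        obtain ⟨i, rfl⟩ := Subgroup.mem_zpowers_iff.mp hg
        refine ⟨1, Subtype.ext ?_⟩
        simp only [pow_one, Subgroup.coe_pow, Subgroup.coe_one]
        rw [← zpow_natCast, ← zpow_mul, mul_comm, zpow_mul, zpow_natCast, hx2, one_zpow]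
      obtain ⟨c, hc⟩ := hp.nonempty_fixed_point_of_prime_not_dvd_card α hnd2
      have hxc : x • c = c := hc ⟨x, Subgroup.mem_zpowers x⟩
      obtain ⟨p₀, hp₀⟩ : ∃ y : α, x • y ≠ y := by
        by_contra hall
        push Not at hall
        exact hx1 (FaithfulSMul.eq_of_smul_eq_smul (fun a => by rw [hall a, one_smul]))
      obtain ⟨h, hhN, -, hh⟩ := transOn_of_normal (k := 3) (by omega) hG N ∅ (by simp) x hxN
        (fun d hd => by simp at hd) p₀ hp₀ c (by simp) p₀ (by simp)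
      apply hp₀
      have hcomm : x * h = h * x := by
        have h1 := inv_eq_self_of_sq (hexp x hxN)
        have h2 := inv_eq_self_of_sq (hexp h hhN)
        have h3 := inv_eq_self_of_sq (hexp (x * h) (N.mul_mem hxN hhN))
        calc x * h = (x * h)⁻¹ := h3.symm
          _ = h⁻¹ * x⁻¹ := mul_inv_rev x h
          _ = h * x := by rw [h1, h2]
      rw [← hh, ← mul_smul, hcomm, mul_smul, hxc]
  have h2t : ∀ a b z z' : α, a ≠ b → z ≠ z' → ∃ m ∈ N, m • a = z ∧ m • b = z' := by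
    intro a b z z' hab hzz'
    obtain ⟨m₁, -, hm₁⟩ := exists_fixing (G := N) (k := 2) (by omega) hN2 ∅ (by simp)
      (u := a) (v := z) (by simp) (by simp)
    obtain ⟨m₂, hm₂T, hm₂⟩ := exists_fixing (G := N) (k := 2) (by omega) hN2 {z} (by simp)
      (u := m₁ • b) (v := z')
      (by
        rw [Finset.mem_singleton, ← hm₁]
        intro h
        exact hab (smul_left_cancel m₁ h).symm)
      (by rw [Finset.mem_singleton]; exact hzz'.symm)
    refine ⟨(m₂ * m₁ : N), (m₂ * m₁).2, ?_, ?_⟩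
    · show (m₂ * m₁) • a = z
      rw [mul_smul, hm₁]
      exact hm₂T z (Finset.mem_singleton_self z)
    · show (m₂ * m₁) • b = z'
      rw [mul_smul, hm₂]
  apply isMultiplyPretransitive_of_transOn
  intro Δ hΔ y hy z hz
  by_cases hΔ2 : Δ.card + 1 ≤ 2
  · obtain ⟨x, hxΔ, hx⟩ := exists_fixing (G := N) (k := 2) (by omega) hN2 Δ hΔ2 hy hz
    exact ⟨x.1, x.2, fun d hd => hxΔ d hd, hx⟩
  · have hΔc : Δ.card = 2 := by omega
    obtain ⟨a, b, hab, rfl⟩ := Finset.card_eq_two.mp hΔc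
    simp only [Finset.mem_insert, Finset.mem_singleton, not_or] at hy hz
    obtain ⟨h, hhN, hha, hhb, hhy⟩ := pointStab_trans hodd (by omega) hG N h2t hab hy.1 hy.2
      hz.1 hz.2
    refine ⟨h, hhN, ?_, hhy⟩
    intro d hd
    rcases Finset.mem_insert.mp hd with rfl | hd
    · exact hha
    · rw [Finset.mem_singleton.mp hd]; exact hhb

/-- Wagner's Theorem: a non-trivial normal subgroup of a triply transitive permutation group of odd degree at least 5 is triply transitive. -/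
theorem result {α : Type*} [Fintype α] [DecidableEq α] (G : Subgroup (Equiv.Perm α)) (hodd : Odd (Fintype.card α)) (h5 : 5 ≤ Fintype.card α) (hG : MulAction.IsMultiplyPretransitive G α 3) (N : Subgroup G) [N.Normal] (hN : N ≠ ⊥) : MulAction.IsMultiplyPretransitive N α 3 := by
  exact wagner_general hodd h5 hG N hN

end Cfsg.Agent.S0699
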