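import Cfsg.Statements.S0678
import Mathlib
import Cfsg.Agent.Lib.Helper12.PrimeDegree4
import Cfsg.Agent.S0675
import Cfsg.Agent.S0676
import Cfsg.Agent.S0711
import Cfsg.Agent.S0699
import Cfsg.Agent.S0111
import Cfsg.Agent.S0144
-- import your own Cfsg.Agent.* helpers here

set_option autoImplicit false
open Cfsg

namespace Cfsg.Agent.S0678

theorem arith21 : ∀ n ∈ Nat.divisors 240, n % 2 = 0 → n % 7 = 1 → n = 8 ∨ n = 120 := by
  decide

theorem arithEven : ∀ k ∈ ({1, 2, 3, 4} : Finset ℕ), ∀ nN ∈ ({14, 42} : Finset ℕ),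
    nN ∣ 210 * k → (210 * k / nN) % 7 = 1 → (k = 1 ∧ nN = 14) ∨ (k = 3 ∧ nN = 42) := by
  decide

theorem arith24 : ∀ i ∈ Nat.divisors 24, ∃ a ∈ Finset.range 4, ∃ b ∈ Finset.range 2,
    i = 2 ^ a * 3 ^ b := by
  decide

theorem div6 : ∀ m : ℕ, m ∣ 6 → m = 1 ∨ m = 2 ∨ m = 3 ∨ m = 6 := by
  intro m h
  have hmem : m ∈ Nat.divisors 6 := Nat.mem_divisors.mpr ⟨h, by norm_num⟩
  have h6 : Nat.divisors 6 = {1, 2, 3, 6} := by decide
  rw [h6] at hmem
  simpa using hmem

theorem fin_lt3 : ∀ i : Fin 7, i.val < 3 → i = 0 ∨ i = 1 ∨ i = 2 := by decide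
theorem fin_lt4 : ∀ i : Fin 7, i.val < 4 → i.val < 3 ∨ i = 3 := by decide

theorem card_filter_ge3 : (Finset.univ.filter (fun i : Fin 7 => 3 ≤ i.val)).card = 4 := by decide
theorem card_filter_ge4 : (Finset.univ.filter (fun i : Fin 7 => 4 ≤ i.val)).card = 3 := by decide

section
variable {α : Type*} [Fintype α] [DecidableEq α]

/-- a permutation fixing the first `m` points (w.r.t. an enumeration) has small support -/
theorem support_le3 (e : Fin 7 ≃ α) (g : Equiv.Perm α)
    (hfix : ∀ i : Fin 7, i.val < 4 → g (e i) = e i) : g.support.card ≤ 3 := by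
  have hsub : g.support ⊆ (Finset.univ.filter (fun i : Fin 7 => 4 ≤ i.val)).image e := by
    intro x hx
    rw [Equiv.Perm.mem_support] at hx
    obtain ⟨i, rfl⟩ := e.surjective x
    rw [Finset.mem_image]
    refine ⟨i, ?_, rfl⟩
    rw [Finset.mem_filter]
    refine ⟨Finset.mem_univ _, ?_⟩
    by_contra hlt
    exact hx (hfix i (by omega))
  calc g.support.card ≤ ((Finset.univ.filter (fun i : Fin 7 => 4 ≤ i.val)).image e).card :=
        Finset.card_le_card hsub
    _ ≤ (Finset.univ.filter (fun i : Fin 7 => 4 ≤ i.val)).card := Finset.card_image_le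
    _ = 3 := card_filter_ge4

theorem support_le4 (e : Fin 7 ≃ α) (g : Equiv.Perm α)
    (hfix : ∀ i : Fin 7, i.val < 3 → g (e i) = e i) : g.support.card ≤ 4 := by
  have hsub : g.support ⊆ (Finset.univ.filter (fun i : Fin 7 => 3 ≤ i.val)).image e := by
    intro x hx
    rw [Equiv.Perm.mem_support] at hx
    obtain ⟨i, rfl⟩ := e.surjective x
    rw [Finset.mem_image]
    refine ⟨i, ?_, rfl⟩
    rw [Finset.mem_filter]
    refine ⟨Finset.mem_univ _, ?_⟩
    by_contra hlt
    exact hx (hfix i (by omega))
  calc g.support.card ≤ ((Finset.univ.filter (fun i : Fin 7 => 3 ≤ i.val)).image e).card :=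
        Finset.card_le_card hsub
    _ ≤ (Finset.univ.filter (fun i : Fin 7 => 3 ≤ i.val)).card := Finset.card_image_le
    _ = 4 := card_filter_ge3

end

set_option maxHeartbeats 1600000 in
open MulAction in
/-- the order of a non-solvable transitive group of degree 7 not containing `A₇` -/
theorem card_eq {α : Type*} [Fintype α] [DecidableEq α] (hα : Fintype.card α = 7)
    (G : Subgroup (Equiv.Perm α)) [MulAction.IsPretransitive G α] (hG : ¬ Group.IsSolvable G)
    (hA : ¬ alternatingGroup α ≤ G) : Nat.card G = 168 := by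
  classical
  have : Fact (Nat.Prime 7) := ⟨by norm_num⟩
  have hcardα : Nat.card α = 7 := by rw [Nat.card_eq_fintype_card, hα]
  have h2t : IsMultiplyPretransitive G α 2 := by
    rcases Cfsg.Agent.S0675.result (by rw [hα]; norm_num) G with h | h
    · exact absurd h hG
    · exact h
  obtain ⟨e⟩ : Nonempty (Fin 7 ≃ α) := ⟨(Fintype.equivFinOfCardEq hα).symm⟩
  -- `|G|` divides `5040`
  have hdvd : Nat.card G ∣ 5040 := by
    have := Subgroup.card_subgroup_dvd_card G
    rwa [Nat.card_eq_fintype_card (α := Equiv.Perm α), Fintype.card_perm, hα] at this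
  -- `42` divides `|G|`
  have h42 : 42 ∣ Nat.card G := by
    have hs : ({e 0, e 1} : Set α).ncard = 2 := by
      rw [Set.ncard_pair]
      intro h
      exact absurd (e.injective h) (by decide)
    have := h2t.index_of_fixingSubgroup_mul hs
    rw [hcardα] at this
    have h5 : (7 - 2).factorial = 120 := by decide
    have h7 : (7).factorial = 42 * 120 := by decide
    rw [h5, h7] at this
    have hidx := Nat.eq_of_mul_eq_mul_right (by norm_num) this
    rw [← hidx]
    exact Subgroup.index_dvd_card _
  obtain P : Sylow 7 G := default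
  have hN1 := Cfsg.Agent.Lib.Helper12.dvd_card_normalizer hα G P
  have hN2 := Cfsg.Agent.Lib.Helper12.card_normalizer_dvd hα G P
  have hidx := Subgroup.card_mul_index (Subgroup.normalizer ((P : Subgroup G) : Set G))
  have hsyl : Nat.card (Sylow 7 G) ≡ 1 [MOD 7] := card_sylow_modEq_one 7 G
  rw [Sylow.card_eq_index_normalizer P] at hsyl
  obtain ⟨nN, hnN⟩ : ∃ nN, nN = Nat.card (Subgroup.normalizer ((P : Subgroup G) : Set G)) :=
    ⟨_, rfl⟩
  obtain ⟨idx, hidx'⟩ : ∃ idx, idx = (Subgroup.normalizer ((P : Subgroup G) : Set G)).index :=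
    ⟨_, rfl⟩
  rw [← hnN] at hN1 hN2 hidx
  have hsyl0 : (Subgroup.normalizer ((P : Subgroup G) : Set G)).index % 7 = 1 := hsyl
  rw [← hidx'] at hidx hsyl0
  have hsyl' : idx % 7 = 1 := hsyl0
  obtain ⟨m, hm⟩ := hN1
  have hm6 : m ∣ 6 := by
    rw [hm] at hN2
    exact (Nat.mul_dvd_mul_iff_left (by norm_num : 0 < 7)).mp hN2
  have hm_cases : m = 1 ∨ m = 2 ∨ m = 3 ∨ m = 6 := div6 m hm6
  by_cases hodd : m = 1 ∨ m = 3
  · rcases hodd with rfl | rfl
    · -- self-normalising Sylow subgroup: order 7, hence solvable
      exfalso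
      apply hG
      have hc := Cfsg.Agent.Lib.Helper12.card_eq_of_card_normalizer_eq hα G P (by rw [← hnN, hm])
      have : IsCyclic G := isCyclic_of_prime_card hc
      have : IsMulCommutative G := IsCyclic.isMulCommutative
      exact Group.isSolvable_of_comm (fun a b => mul_comm' a b)
    · -- normaliser of order 21
      have hcard : Nat.card G = 21 * idx := by rw [← hidx, hm]
      have hidx240 : idx ∣ 240 := by
        rw [hcard] at hdvd
        have : (5040 : ℕ) = 21 * 240 := by norm_num
        rw [this] at hdvd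
        exact (Nat.mul_dvd_mul_iff_left (by norm_num : 0 < 21)).mp hdvd
      have hidx2 : idx % 2 = 0 := by
        rw [hcard] at h42
        have : (42 : ℕ) = 21 * 2 := by norm_num
        rw [this] at h42
        exact Nat.mod_eq_zero_of_dvd ((Nat.mul_dvd_mul_iff_left (by norm_num : 0 < 21)).mp h42)
      rcases arith21 idx (Nat.mem_divisors.mpr ⟨hidx240, by norm_num⟩) hidx2 hsyl' with h | h
      · rw [hcard, h]
      · exfalso
        apply hA
        apply Equiv.Perm.alternatingGroup_le_of_index_le_two
        have h1 := G.card_mul_index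
        rw [Nat.card_eq_fintype_card (α := Equiv.Perm α), Fintype.card_perm, hα, hcard, h] at h1
        have : (7).factorial = 21 * 120 * 2 := by decide
        rw [this] at h1
        exact (Nat.eq_of_mul_eq_mul_left (by norm_num) h1).le
  · -- even normaliser
    have hm26 : m = 2 ∨ m = 6 := by
      rcases hm_cases with h | h | h | h
      · exact absurd (Or.inl h) hodd
      · exact Or.inl h
      · exact absurd (Or.inr h) hodd
      · exact Or.inr h
    have heven : Even (Nat.card (Subgroup.normalizer ((P : Subgroup G) : Set G))) := by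
      rw [← hnN, hm]
      rcases hm26 with rfl | rfl
      · exact ⟨7, by norm_num⟩
      · exact ⟨21, by norm_num⟩
    have h3t : IsMultiplyPretransitive G α 3 := Cfsg.Agent.S0676.result hα G hG P heven
    have h4f : (7 - 3).factorial = 24 := by decide
    have h7f : (7).factorial = 210 * 24 := by decide
    have hs3 : ({e 0, e 1, e 2} : Set α).ncard = 3 := by
      rw [Set.ncard_eq_three]
      refine ⟨e 0, e 1, e 2, ?_, ?_, ?_, rfl⟩
      · intro h; exact absurd (e.injective h) (by decide)
      · intro h; exact absurd (e.injective h) (by decide)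
      · intro h; exact absurd (e.injective h) (by decide)
    obtain ⟨Q, hQ⟩ : ∃ Q : Subgroup G, Q = fixingSubgroup G ({e 0, e 1, e 2} : Set α) :=
      ⟨_, rfl⟩
    have hQidx : Q.index = 210 := by
      have := h3t.index_of_fixingSubgroup_mul hs3
      rw [hcardα, ← hQ, h4f, h7f] at this
      exact Nat.eq_of_mul_eq_mul_right (by norm_num) this
    have hQcard : Nat.card Q * 210 = Nat.card G := by rw [← hQidx]; exact Q.card_mul_index
    have hQfix : ∀ q ∈ Q, ∀ i : Fin 7, i.val < 3 → (q : Equiv.Perm α) (e i) = e i := by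
      intro q hq i hi
      rw [hQ, mem_fixingSubgroup_iff] at hq
      apply hq (e i)
      rcases fin_lt3 i hi with rfl | rfl | rfl
      · exact Or.inl rfl
      · exact Or.inr (Or.inl rfl)
      · exact Or.inr (Or.inr rfl)
    have hkn : 3 ≤ Fintype.card α := by rw [hα]; norm_num
    -- the stabiliser acts freely on the remaining points
    have hfree : ∀ q ∈ Q, (q : Equiv.Perm α) (e 3) = e 3 → q = 1 := by
      intro q hq h3
      by_contra hne
      apply hA
      have hsupp : (q : Equiv.Perm α).support.card ≤ 3 := by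
        apply support_le3 e
        intro i hi
        rcases fin_lt4 i hi with h | rfl
        · exact hQfix q hq i h
        · exact h3
      exact (Cfsg.Agent.S0711.result G (k := 3) le_rfl hkn h3t (q : Equiv.Perm α) q.2
        (by intro h; exact hne (Subtype.ext h)) (by omega)).2
    have hQle : Nat.card Q ≤ 4 := by
      have : Fintype Q := Fintype.ofFinite Q
      have hinj : Function.Injective (fun q : Q => ((q : G) : Equiv.Perm α) (e 3)) := by
        intro q1 q2 h
        have h' : (((q2⁻¹ * q1 : Q) : G) : Equiv.Perm α) (e 3) = e 3 := by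
          have h1 : (((q2⁻¹ * q1 : Q) : G) : Equiv.Perm α) (e 3) =
              (((q2 : G) : Equiv.Perm α))⁻¹ (((q1 : G) : Equiv.Perm α) (e 3)) := rfl
          have h0 : ((q1 : G) : Equiv.Perm α) (e 3) = ((q2 : G) : Equiv.Perm α) (e 3) := h
          rw [h1, h0, Equiv.Perm.inv_def, Equiv.symm_apply_apply]
        have h1 := hfree _ (q2⁻¹ * q1).2 h'
        have h2 : q2⁻¹ * q1 = 1 := Subtype.ext h1
        exact (inv_mul_eq_one.mp h2).symm
      have himg : ∀ q : Q, ((q : G) : Equiv.Perm α) (e 3) ∈
          (Finset.univ.filter (fun i : Fin 7 => 3 ≤ i.val)).image e := by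
        intro q
        obtain ⟨j, hj⟩ := e.surjective (((q : G) : Equiv.Perm α) (e 3))
        rw [Finset.mem_image]
        refine ⟨j, ?_, hj⟩
        rw [Finset.mem_filter]
        refine ⟨Finset.mem_univ _, ?_⟩
        by_contra hlt
        have h1 := hQfix (q : G) q.2 j (by omega)
        have h2 : ((q : G) : Equiv.Perm α) (e j) = ((q : G) : Equiv.Perm α) (e 3) := h1.trans hj
        have h3 := e.injective ((((q : G) : Equiv.Perm α)).injective h2)
        rw [h3] at hlt
        exact hlt (by decide)
      calc Nat.card Q = Fintype.card Q := Nat.card_eq_fintype_card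
        _ = (Finset.univ.image (fun q : Q => ((q : G) : Equiv.Perm α) (e 3))).card :=
            (Finset.card_image_of_injective _ hinj).symm
        _ ≤ ((Finset.univ.filter (fun i : Fin 7 => 3 ≤ i.val)).image e).card := by
            apply Finset.card_le_card
            intro x hx
            obtain ⟨q, -, rfl⟩ := Finset.mem_image.mp hx
            exact himg q
        _ ≤ 4 := Finset.card_image_le.trans card_filter_ge3.le
    obtain ⟨k, hk⟩ : ∃ k, k = Nat.card Q := ⟨_, rfl⟩
    rw [← hk] at hQle hQcard
    have hkpos : 0 < k := by rw [hk]; exact Nat.card_pos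
    have hkmem : k ∈ ({1, 2, 3, 4} : Finset ℕ) := by
      simp only [Finset.mem_insert, Finset.mem_singleton]
      omega
    have hnNmem : nN ∈ ({14, 42} : Finset ℕ) := by
      simp only [Finset.mem_insert, Finset.mem_singleton]
      rcases hm26 with h | h
      · left; rw [hm, h]
      · right; rw [hm, h]
    have hnNdvd : nN ∣ 210 * k := ⟨idx, by rw [hidx, ← hQcard, mul_comm]⟩
    have hquot : 210 * k / nN = idx := by
      have hpos : 0 < nN := by rw [hm]; rcases hm26 with h | h <;> rw [h] <;> norm_num
      apply Nat.div_eq_of_eq_mul_right hpos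
      rw [hidx, ← hQcard, mul_comm]
    rcases arithEven k hkmem nN hnNmem hnNdvd (by rw [hquot]; exact hsyl') with ⟨hk1, -⟩ | ⟨hk3, -⟩
    · -- order 210
      exfalso
      have hc210 : Nat.card G = 210 := by rw [← hQcard, hk1]
      have : Fact (Nat.Prime 2) := ⟨Nat.prime_two⟩
      obtain P2 : Sylow 2 G := default
      have hP2card : Nat.card P2 = 2 := by
        rw [Sylow.card_eq_multiplicity, hc210]
        have hfac : (2 ^ 1 * 105).factorization 2 = 1 := by
          rw [Nat.factorization_mul (by norm_num) (by norm_num)]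
          simp only [Finsupp.coe_add, Pi.add_apply]
          rw [Nat.Prime.factorization_pow Nat.prime_two]
          have : (105).factorization 2 = 0 := Nat.factorization_eq_zero_of_not_dvd (by norm_num)
          simp [this]
        have h210 : (210 : ℕ) = 2 ^ 1 * 105 := by norm_num
        rw [h210, hfac, pow_one]
      have : IsCyclic P2 := isCyclic_of_prime_card hP2card
      obtain ⟨u, hu⟩ := IsCyclic.exists_generator (α := P2)
      have hordu : orderOf u = 2 := by
        rw [orderOf_eq_card_of_forall_mem_zpowers hu, hP2card]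
      have hordu' : orderOf (u : G) = 2 := by rw [Subgroup.orderOf_coe, hordu]
      have hu1 : (u : G) ≠ 1 := by
        intro h
        rw [h, orderOf_one] at hordu'
        omega
      rcases Cfsg.Agent.S0111.result P2 ⊥ bot_le
          (by rw [Subgroup.relIndex_bot_left, hP2card]) (u : G) hordu' u.2
          (by intro h; rw [Subgroup.mem_bot] at h; exact hu1 h) with ⟨M, hMn, hMi, -⟩ | ⟨g, hg⟩
      · have hMcard : Nat.card M * 2 = 210 := by
          rw [← hMi, ← hc210]; exact M.card_mul_index
        have hMne : M ≠ ⊥ := by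
          intro h
          rw [h, Subgroup.card_bot] at hMcard
          omega
        have hM3 : IsMultiplyPretransitive M α 3 :=
          Cfsg.Agent.S0699.result G (by rw [hα]; exact ⟨3, by norm_num⟩) (by rw [hα]; norm_num)
            h3t M hMne
        have h1 := hM3.index_of_fixingSubgroup_mul hs3
        rw [hcardα, h4f, h7f] at h1
        have hidxM := Nat.eq_of_mul_eq_mul_right (by norm_num) h1
        have h2 := Subgroup.index_dvd_card (fixingSubgroup M ({e 0, e 1, e 2} : Set α))
        rw [hidxM] at h2
        omega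
      · rw [Subgroup.mem_bot] at hg
        apply hu1
        have := congrArg (fun x => g⁻¹ * x * g) hg
        simpa [mul_assoc] using this
    · -- an element of order 3 fixing three points
      exfalso
      apply hA
      have : Fact (Nat.Prime 3) := ⟨Nat.prime_three⟩
      obtain ⟨q, hq⟩ := exists_prime_orderOf_dvd_card' (G := Q) 3 (by rw [← hk, hk3])
      obtain ⟨s, hs⟩ : ∃ s : Equiv.Perm α, s = ((q : G) : Equiv.Perm α) := ⟨_, rfl⟩
      have hords : orderOf s = 3 := by
        rw [hs, Subgroup.orderOf_coe, Subgroup.orderOf_coe, hq]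
      obtain ⟨n, hn⟩ := Equiv.Perm.cycleType_prime_order (σ := s) (by rw [hords]; norm_num)
      have hs4 : s.support.card ≤ 4 := by
        apply support_le4 e
        intro i hi
        rw [hs]
        exact hQfix (q : G) q.2 i hi
      have hsum := Equiv.Perm.sum_cycleType s
      rw [hn, hords, Multiset.sum_replicate, smul_eq_mul] at hsum
      have hs1 : s ≠ 1 := by
        intro h
        rw [h, orderOf_one] at hords
        omega
      have hsG : s ∈ G := by rw [hs]; exact (q : G).2
      exact (Cfsg.Agent.S0711.result G (k := 3) le_rfl hkn h3t s hsG hs1 (by omega)).2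

set_option maxHeartbeats 800000 in
open MulAction in
/-- A non-solvable transitive permutation group on 7 points that does not contain the alternating group is a simple group of order 168. -/
theorem result {α : Type*} [Fintype α] [DecidableEq α] (hα : Fintype.card α = 7) (G : Subgroup (Equiv.Perm α)) [MulAction.IsPretransitive G α] (hG : ¬ Group.IsSolvable G) (hA : ¬ alternatingGroup α ≤ G) : Nat.card G = 168 ∧ IsSimpleGroup G := by
  classical
  have hcard := card_eq hα G hG hA
  refine ⟨hcard, ?_⟩
  have : Fact (Nat.Prime 7) := ⟨by norm_num⟩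
  have hnt : Nontrivial G := by
    rw [← Finite.one_lt_card_iff_nontrivial, hcard]; norm_num
  refine ⟨fun N hN => ?_⟩
  by_cases hNbot : N = ⊥
  · exact Or.inl hNbot
  right
  have hprim : IsPreprimitive G α :=
    IsPreprimitive.of_prime_card (by rw [Nat.card_eq_fintype_card, hα]; norm_num)
  -- `N` is transitive
  have hNtr : IsPretransitive N α := by
    apply IsQuasiPreprimitive.isPretransitive_of_normal
    intro hfix
    apply hNbot
    rw [Subgroup.eq_bot_iff_forall]
    intro k hk
    apply Subtype.ext
    apply Equiv.ext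
    intro a
    have ha : a ∈ MulAction.fixedPoints N α := by rw [hfix]; trivial
    exact ha ⟨k, hk⟩
  -- the image of `N` in the symmetric group
  obtain ⟨N', hN'⟩ : ∃ N' : Subgroup (Equiv.Perm α), N' = N.map G.subtype := ⟨_, rfl⟩
  have hN'tr : IsPretransitive N' α := by
    refine ⟨fun x y => ?_⟩
    obtain ⟨n, hn⟩ := MulAction.exists_smul_eq N x y
    refine ⟨⟨((n : G) : Equiv.Perm α), ?_⟩, hn⟩
    rw [hN']
    exact ⟨(n : G), n.2, rfl⟩
  have hN'le : N' ≤ G := by
    rw [hN']
    rintro _ ⟨g, -, rfl⟩
    exact g.2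
  have hN'A : ¬ alternatingGroup α ≤ N' := fun h => hA (h.trans hN'le)
  have hequiv : N ≃* N' := by
    rw [hN']
    exact Subgroup.equivMapOfInjective N G.subtype G.subtype_injective
  -- `7` divides the order of `N`, so the quotient has order dividing `24`
  have h7N : 7 ∣ Nat.card N := by
    rcases Cfsg.Agent.Lib.Helper12.normal_eq_bot_or_dvd_card hα G N with h | h
    · exact absurd h hNbot
    · exact h
  have hidx24 : N.index ∣ 24 := by
    obtain ⟨j, hj⟩ := h7N
    have h1 := N.card_mul_index
    rw [hcard, hj] at h1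
    have h2 : 7 * (j * N.index) = 7 * 24 := by rw [← mul_assoc, h1]
    have h3 := Nat.eq_of_mul_eq_mul_left (by norm_num) h2
    exact ⟨j, by rw [← h3, mul_comm]⟩
  have hquot : Group.IsSolvable (G ⧸ N) := by
    obtain ⟨a, -, b, -, hab⟩ := arith24 N.index (Nat.mem_divisors.mpr ⟨hidx24, by norm_num⟩)
    apply Cfsg.Agent.S0144.result 2 3 a b Nat.prime_two Nat.prime_three
    rw [← hab, Subgroup.index_eq_card]
  have hN'ns : ¬ Group.IsSolvable N' := by
    intro hsolv
    apply hG
    have hNs : Group.IsSolvable N :=
      Group.isSolvable_of_isSolvable_injective (f := hequiv.toMonoidHom) hequiv.injective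
    exact Group.isSolvable_of_ker_le_range N.subtype (QuotientGroup.mk' N)
      (by rw [QuotientGroup.ker_mk', Subgroup.range_subtype])
  have hN'card := card_eq hα N' hN'ns hN'A
  apply Subgroup.eq_top_of_card_eq
  rw [hcard, Nat.card_congr hequiv.toEquiv, hN'card]

end Cfsg.Agent.S0678
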