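import Cfsg.Statements.S0495
import Mathlib
import Cfsg.Agent.Lib.Helper5.PSL2Small
import Cfsg.Agent.Lib.Helper61.Simple168

set_option autoImplicit false
open Cfsg

namespace Cfsg.Agent.S0495

/-- `PSL_2` over the field with seven elements is simple of order 168. -/
theorem psl27_simple_card {F : Type*} [Field F] [Fintype F] (hF : Fintype.card F = 7) :
    IsSimpleGroup (Matrix.ProjectiveSpecialLinearGroup (Fin 2) F) ∧
      Nat.card (Matrix.ProjectiveSpecialLinearGroup (Fin 2) F) = 168 := by
  have hsimple : IsSimpleGroup (Matrix.ProjectiveSpecialLinearGroup (Fin 2) F) :=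
    Matrix.ProjectiveSpecialLinearGroup.rank_two_simple (by
      rw [Nat.card_eq_fintype_card, hF]; norm_num)
  have h7 : (7 : F) = 0 := by
    have := Nat.cast_card_eq_zero F
    rw [hF] at this
    exact_mod_cast this
  have h2 : (2 : F) ≠ 0 := by
    intro h2
    have : (1 : F) = 0 := by linear_combination h7 - 3 * h2
    exact one_ne_zero this
  have hc := Cfsg.Agent.Lib.Helper5.card_center_SL2_of_two_ne_zero h2
  have h := Cfsg.Agent.Lib.Helper5.card_PSL2_mul (F := F)
  rw [hc, hF] at h
  have hcard : Nat.card (Matrix.ProjectiveSpecialLinearGroup (Fin 2) F) = 168 := by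
    norm_num at h
    omega
  exact ⟨hsimple, hcard⟩

/-- A simple group of order 168 is isomorphic to the projective special linear group of dimension 2 over the field with
7 elements. -/
theorem result {G : Type*} [Group G] [Finite G] [IsSimpleGroup G]
    (h : Nat.card G = 168) {F : Type*} [Field F] [Fintype F] (hF : Fintype.card F = 7) :
    Nonempty (G ≃* Matrix.ProjectiveSpecialLinearGroup (Fin 2) F) := by
  obtain ⟨hsimple, hcard⟩ := psl27_simple_card hF
  exact Cfsg.Agent.Lib.Helper61.iso_of_simple_168 h hcard

end Cfsg.Agent.S0495
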