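import Cfsg.Statements.S0255
import Mathlib
import Cfsg.Agent.Lib.Helper40.SylowSL
import Cfsg.Agent.S0249
import Cfsg.Agent.S0495

set_option autoImplicit false
open Cfsg

namespace Cfsg.Agent.S0255

/-- `PSL_3` over the field with two elements has order 168. -/
theorem card_psl32 {K : Type*} [Field K] [Fintype K] (hK : Fintype.card K = 2) :
    Nat.card (Matrix.ProjectiveSpecialLinearGroup (Fin 3) K) = 168 := by
  have hGL : Nat.card (Matrix.GeneralLinearGroup (Fin 3) K) = 168 := by
    rw [Matrix.card_GL_field, Fin.prod_univ_three, hK]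
    norm_num
  have hSL : Nat.card (Matrix.SpecialLinearGroup (Fin 3) K) = 168 := by
    have := Cfsg.Agent.Lib.Helper40.card_GL_eq_card_SL_mul (F := K) 2
    rw [hK] at this
    simpa [hGL] using this.symm
  have hunits : Nat.card Kˣ = 1 := by
    rw [Nat.card_units, Nat.card_eq_fintype_card, hK]
  have hsub : Subsingleton Kˣ := (Nat.card_eq_one_iff_unique.mp hunits).1
  have hcenter : Nat.card (Subgroup.center (Matrix.SpecialLinearGroup (Fin 3) K)) = 1 := by
    rw [Nat.card_congr (Matrix.SpecialLinearGroup.center_equiv_rootsOfUnity' (0 : Fin 3)).toEquiv]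
    have : Subsingleton (rootsOfUnity (Fintype.card (Fin 3)) K) :=
      ⟨fun a b => Subtype.ext (Subsingleton.elim _ _)⟩
    exact Nat.card_of_subsingleton 1
  have h := Subgroup.card_eq_card_quotient_mul_card_subgroup
    (Subgroup.center (Matrix.SpecialLinearGroup (Fin 3) K))
  rw [hcenter, mul_one, hSL] at h
  exact h.symm

/-- PSL_2(7) is isomorphic to PSL_3(2). -/
theorem result {F K : Type*} [Field F] [Fintype F] [Field K] [Fintype K] (hF : Fintype.card F = 7) (hK : Fintype.card K = 2) : Nonempty (Matrix.ProjectiveSpecialLinearGroup (Fin 2) F ≃* Matrix.ProjectiveSpecialLinearGroup (Fin 3) K) := by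
  obtain ⟨hsimple, hcard⟩ := Cfsg.Agent.S0495.psl27_simple_card hF
  have hsimple' : IsSimpleGroup (Matrix.ProjectiveSpecialLinearGroup (Fin 3) K) :=
    Cfsg.Agent.S0249.result 3 le_rfl
  exact Cfsg.Agent.Lib.Helper61.iso_of_simple_168 hcard (card_psl32 hK)

end Cfsg.Agent.S0255
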