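import Cfsg.Statements.S0355
import Cfsg.Agent.Lib.Helper6.Steiner

set_option autoImplicit false
open Cfsg

namespace Cfsg.Agent.S0355

/-- In a Steiner system S(4, 7, 23), two distinct blocks intersect in 1 or 3 points. -/
theorem result {α : Type*} [Fintype α] [DecidableEq α] (hα : Fintype.card α = 23) {B : Set (Finset α)} (hB : Cfsg.IsSteinerSystem 4 7 B) {b c : Finset α} (hb : b ∈ B) (hc : c ∈ B) (hbc : b ≠ c) : (b ∩ c).card = 1 ∨ (b ∩ c).card = 3 := by
  have lam : ∀ (j l : ℕ), j ≤ 4 → l * (7 - j).choose (4 - j) = (23 - j).choose (4 - j) →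
      ∀ J : Finset α, J.card = j → (Cfsg.Agent.Lib.Helper6.blocksThrough B J).card = l := by
    intro j l hj hl J hJ
    have h := Cfsg.Agent.Lib.Helper6.card_blocksThrough_mul hB J (by omega)
    rw [hα, hJ] at h
    have hpos : 0 < (7 - j).choose (4 - j) := Nat.choose_pos (by omega)
    exact Nat.eq_of_mul_eq_mul_right hpos (h.trans hl.symm)
  have e0 := Cfsg.Agent.Lib.Helper6.sum_choose_inter hB hb 0 253 (lam 0 253 (by omega) (by decide))
  have e1 := Cfsg.Agent.Lib.Helper6.sum_choose_inter hB hb 1 77 (lam 1 77 (by omega) (by decide))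
  have e2 := Cfsg.Agent.Lib.Helper6.sum_choose_inter hB hb 2 21 (lam 2 21 (by omega) (by decide))
  have e3 := Cfsg.Agent.Lib.Helper6.sum_choose_inter hB hb 3 5 (lam 3 5 (by omega) (by decide))
  have c0 : Nat.choose 7 0 = 1 := by decide
  have c1 : Nat.choose 7 1 = 7 := by decide
  have c2 : Nat.choose 7 2 = 21 := by decide
  have c3 : Nat.choose 7 3 = 35 := by decide
  rw [c0] at e0; rw [c1] at e1; rw [c2] at e2; rw [c3] at e3
  set 𝒞 := (Cfsg.Agent.Lib.Helper6.blocksOf B).erase b with h𝒞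
  have hle : ∀ d ∈ 𝒞, 1 * (b ∩ d).card.choose 1 + 4 * (b ∩ d).card.choose 3 ≤
      1 * (b ∩ d).card.choose 0 + 2 * (b ∩ d).card.choose 2 := by
    intro d hd
    rw [h𝒞, Finset.mem_erase, Cfsg.Agent.Lib.Helper6.mem_blocksOf] at hd
    have hlt := Cfsg.Agent.Lib.Helper6.card_inter_lt hB hb hd.2 (Ne.symm hd.1)
    generalize (b ∩ d).card = f at hlt ⊢
    interval_cases f <;> decide
  have hsum : ∑ d ∈ 𝒞, (1 * (b ∩ d).card.choose 1 + 4 * (b ∩ d).card.choose 3) =
      ∑ d ∈ 𝒞, (1 * (b ∩ d).card.choose 0 + 2 * (b ∩ d).card.choose 2) := by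
    simp only [Finset.sum_add_distrib, ← Finset.mul_sum]
    omega
  have heq := (Finset.sum_eq_sum_iff_of_le hle).1 hsum
  have hc' : c ∈ 𝒞 := by
    rw [h𝒞, Finset.mem_erase, Cfsg.Agent.Lib.Helper6.mem_blocksOf]; exact ⟨Ne.symm hbc, hc⟩
  have h := heq c hc'
  have hlt := Cfsg.Agent.Lib.Helper6.card_inter_lt hB hb hc hbc
  generalize (b ∩ c).card = f at hlt h ⊢
  interval_cases f <;> simp_all (config := {decide := true})

end Cfsg.Agent.S0355
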