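import Cfsg.Statements.S0428
import Cfsg.Agent.Lib.Helper8.Steiner22
import Cfsg.Agent.Lib.Helper8.GraphTransport

set_option autoImplicit false
open Cfsg

namespace Cfsg.Agent.S0428


open Cfsg.Agent.Lib.Helper8 Finset

section
open Classical

variable {α : Type*} [Fintype α] {B : Set (Finset α)}

/-- neighbourhood descriptions: is the extra vertex a neighbour -/
def N0 : Option (α ⊕ ↥B) → Prop
  | none => False
  | some (Sum.inl _) => True
  | some (Sum.inr _) => False

/-- neighbourhood descriptions: which points are neighbours -/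
def N1 : Option (α ⊕ ↥B) → α → Prop
  | none => fun _ => True
  | some (Sum.inl _) => fun _ => False
  | some (Sum.inr b) => fun a => a ∈ b.1

/-- neighbourhood descriptions: which blocks are neighbours -/
def N2 : Option (α ⊕ ↥B) → Finset α → Prop
  | none => fun _ => False
  | some (Sum.inl a) => fun c => a ∈ c
  | some (Sum.inr b) => fun c => Disjoint b.1 c

theorem adj_none (hB : IsSteinerSystem 3 6 B) (x : Option (α ⊕ ↥B)) :
    (pointBlockGraph B).Adj x none ↔ N0 x := by
  unfold pointBlockGraph
  rw [SimpleGraph.fromRel_adj]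
  rcases x with _ | a | b <;> simp [N0, pointBlockRel]

theorem adj_point (hB : IsSteinerSystem 3 6 B) (x : Option (α ⊕ ↥B)) (a : α) :
    (pointBlockGraph B).Adj x (some (Sum.inl a)) ↔ N1 x a := by
  unfold pointBlockGraph
  rw [SimpleGraph.fromRel_adj]
  rcases x with _ | a' | b <;> simp [N1, pointBlockRel]

theorem adj_block (hB : IsSteinerSystem 3 6 B) (x : Option (α ⊕ ↥B)) (v : ↥B) :
    (pointBlockGraph B).Adj x (some (Sum.inr v)) ↔ N2 x v.1 := by
  unfold pointBlockGraph
  rw [SimpleGraph.fromRel_adj]
  rcases x with _ | a' | b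
  · simp [N2, pointBlockRel]
  · simp [N2, pointBlockRel]
  · simp only [N2, pointBlockRel, ne_eq, Option.some.injEq, Sum.inr.injEq]
    constructor
    · rintro ⟨_, h | h⟩
      · exact h
      · exact h.symm
    · intro h
      refine ⟨?_, Or.inl h⟩
      rintro rfl
      exact not_disjoint_self hB (mem_blocksF.mpr b.2) h

theorem card_split (S : Set (Option (α ⊕ ↥B))) [Fintype S] (P0 : Prop) (P1 : α → Prop)
    (P2 : Finset α → Prop) [Decidable P0] [DecidablePred P1] [DecidablePred P2] (h0 : none ∈ S ↔ P0) (h1 : ∀ a, some (Sum.inl a) ∈ S ↔ P1 a)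
    (h2 : ∀ v : ↥B, some (Sum.inr v) ∈ S ↔ P2 v.1) :
    Fintype.card S = (if P0 then 1 else 0) + #{a | P1 a} + #{c ∈ blocksF B | P2 c} := by
  have e : S ≃ ({u : Unit // P0} ⊕ {a : α // a ∈ ({a | P1 a} : Finset α)}) ⊕
      {c : Finset α // c ∈ {c ∈ blocksF B | P2 c}} :=
    { toFun := fun x => match x with
        | ⟨none, h⟩ => Sum.inl (Sum.inl ⟨(), h0.mp h⟩)
        | ⟨some (Sum.inl a), h⟩ => Sum.inl (Sum.inr ⟨a, mem_filter.mpr ⟨mem_univ _, (h1 a).mp h⟩⟩)
        | ⟨some (Sum.inr v), h⟩ => Sum.inr ⟨v.1, mem_filter.mpr ⟨mem_blocksF.mpr v.2, (h2 v).mp h⟩⟩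
      invFun := fun y => match y with
        | Sum.inl (Sum.inl u) => ⟨none, h0.mpr u.2⟩
        | Sum.inl (Sum.inr a) => ⟨some (Sum.inl a.1), (h1 a.1).mpr (mem_filter.mp a.2).2⟩
        | Sum.inr c => ⟨some (Sum.inr ⟨c.1, mem_blocksF.mp (mem_filter.mp c.2).1⟩),
            (h2 _).mpr (mem_filter.mp c.2).2⟩
      left_inv := by
        rintro ⟨_ | a | v, h⟩ <;> rfl
      right_inv := by
        rintro ((u | a) | c) <;> rfl }
  rw [Fintype.card_congr e, Fintype.card_sum, Fintype.card_sum, Fintype.card_coe, Fintype.card_coe]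
  congr 2
  split_ifs with h
  · rw [Fintype.card_eq_one_iff]
    exact ⟨⟨(), h⟩, fun y => Subtype.ext rfl⟩
  · rw [Fintype.card_eq_zero_iff]
    exact ⟨fun y => h y.2⟩

theorem card_neighbors (hB : IsSteinerSystem 3 6 B)
    [DecidableRel (pointBlockGraph B).Adj] [Fintype B] (x : Option (α ⊕ ↥B))
    (P0 : Prop) (P1 : α → Prop) (P2 : Finset α → Prop)
    [Decidable P0] [DecidablePred P1] [DecidablePred P2]
    (h0 : N0 x ↔ P0) (h1 : ∀ a, N1 x a ↔ P1 a) (h2 : ∀ c, N2 x c ↔ P2 c) :
    (pointBlockGraph B).degree x =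
      (if P0 then 1 else 0) + #{a | P1 a} + #{c ∈ blocksF B | P2 c} := by
  rw [← SimpleGraph.card_neighborSet_eq_degree]
  apply card_split
  · rw [SimpleGraph.mem_neighborSet, adj_none hB, h0]
  · intro a; rw [SimpleGraph.mem_neighborSet, adj_point hB, h1]
  · intro v; rw [SimpleGraph.mem_neighborSet, adj_block hB, h2]

theorem card_common (hB : IsSteinerSystem 3 6 B)
    [DecidableRel (pointBlockGraph B).Adj] [Fintype B] (x y : Option (α ⊕ ↥B))
    (P0 : Prop) (P1 : α → Prop) (P2 : Finset α → Prop)
    [Decidable P0] [DecidablePred P1] [DecidablePred P2]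
    (h0 : (N0 x ∧ N0 y) ↔ P0) (h1 : ∀ a, (N1 x a ∧ N1 y a) ↔ P1 a)
    (h2 : ∀ c, (N2 x c ∧ N2 y c) ↔ P2 c) :
    Fintype.card ((pointBlockGraph B).commonNeighbors x y) =
      (if P0 then 1 else 0) + #{a | P1 a} + #{c ∈ blocksF B | P2 c} := by
  apply card_split
  · rw [SimpleGraph.mem_commonNeighbors, adj_none hB, adj_none hB, h0]
  · intro a; rw [SimpleGraph.mem_commonNeighbors, adj_point hB, adj_point hB, h1]
  · intro v; rw [SimpleGraph.mem_commonNeighbors, adj_block hB, adj_block hB, h2]

theorem card_B [Fintype B] : Fintype.card B = (blocksF B).card := by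
  rw [Fintype.card_eq_nat_card, ← Fintype.card_coe, Fintype.card_eq_nat_card]
  apply Nat.card_congr
  exact ⟨fun x => ⟨x.1, mem_blocksF.mpr x.2⟩, fun y => ⟨y.1, mem_blocksF.mp y.2⟩,
    fun x => rfl, fun y => rfl⟩

end

/-- The point-block graph of an S(3, 6, 22) is strongly regular with parameters (100, 22, 0, 6). -/
theorem result {α : Type*} [Fintype α] (hα : Fintype.card α = 22) {B : Set (Finset α)} (hB : Cfsg.IsSteinerSystem 3 6 B) [Fintype B] [DecidableRel (Cfsg.pointBlockGraph B).Adj] : (Cfsg.pointBlockGraph B).IsSRGWith 100 22 0 6 := by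
  classical
  refine ⟨?_, ?_, ?_, ?_⟩
  · rw [Fintype.card_option, Fintype.card_sum, hα, card_B, lam0 hα hB]
  · intro x
    rcases x with _ | a | b
    · rw [card_neighbors hB none False (fun _ => True) (fun _ => False) Iff.rfl
        (fun _ => Iff.rfl) (fun _ => Iff.rfl)]
      simp [hα]
    · rw [card_neighbors hB (some (Sum.inl a)) True (fun _ => False) (fun c => a ∈ c) Iff.rfl
        (fun _ => Iff.rfl) (fun _ => Iff.rfl), lam1 hα hB a]
      simp
    · rw [card_neighbors hB (some (Sum.inr b)) False (fun a => a ∈ b.1)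
        (fun c => Disjoint b.1 c) Iff.rfl (fun _ => Iff.rfl) (fun _ => Iff.rfl),
        disj16 hα hB (mem_blocksF.mpr b.2), filter_univ_mem,
        block_card hB (mem_blocksF.mpr b.2)]
      simp
  · intro x y hxy
    rcases x with _ | a | b <;> rcases y with _ | a' | b'
    · exact absurd ((adj_none hB _).mp hxy) (by simp [N0])
    · rw [card_common hB none (some (Sum.inl a')) False (fun _ => False) (fun _ => False)
        (by simp [N0]) (by simp [N1]) (by simp [N2])]
      simp
    · exact absurd ((adj_block hB _ _).mp hxy) (by simp [N2])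
    · rw [card_common hB (some (Sum.inl a)) none False (fun _ => False) (fun _ => False)
        (by simp [N0]) (by simp [N1]) (by simp [N2])]
      simp
    · exact absurd ((adj_point hB _ _).mp hxy) (by simp [N1])
    · have hab : a ∈ b'.1 := (adj_block hB _ _).mp hxy
      rw [card_common hB (some (Sum.inl a)) (some (Sum.inr b')) False (fun _ => False)
        (fun _ => False) (by simp [N0]) (by simp [N1])
        (fun c => by
          simp only [N2, iff_false, not_and]
          intro hac hd
          exact (Finset.disjoint_left.mp hd hab) hac)]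
      simp
    · exact absurd ((adj_none hB _).mp hxy) (by simp [N0])
    · have hab : a' ∈ b.1 := (adj_point hB _ _).mp hxy
      rw [card_common hB (some (Sum.inr b)) (some (Sum.inl a')) False (fun _ => False)
        (fun _ => False) (by simp [N0]) (by simp [N1])
        (fun c => by
          simp only [N2, iff_false, not_and]
          intro hd hac
          exact (Finset.disjoint_left.mp hd hab) hac)]
      simp
    · have hd : Disjoint b.1 b'.1 := (adj_block hB _ _).mp hxy
      have hne : b.1 ≠ b'.1 := by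
        intro h
        rw [h] at hd
        exact not_disjoint_self hB (mem_blocksF.mpr b'.2) hd
      rw [card_common hB (some (Sum.inr b)) (some (Sum.inr b')) False (fun _ => False)
        (fun c => Disjoint b.1 c ∧ Disjoint b'.1 c) (by simp [N0])
        (fun a => by
          simp only [N1, iff_false, not_and]
          intro h1 h2
          exact Finset.disjoint_left.mp hd h1 h2)
        (fun c => Iff.rfl),
        common hα hB (mem_blocksF.mpr b.2) (mem_blocksF.mpr b'.2) hne,
        (disjoint_iff_card _ _).mp hd]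
      simp
  · intro x y hne hnadj
    rcases x with _ | a | b <;> rcases y with _ | a' | b'
    · exact absurd rfl hne
    · exact absurd ((adj_point hB _ _).mpr (by simp [N1])) hnadj
    · rw [card_common hB none (some (Sum.inr b')) False (fun a => a ∈ b'.1) (fun _ => False)
        (by simp [N0]) (by simp [N1]) (by simp [N2]), filter_univ_mem,
        block_card hB (mem_blocksF.mpr b'.2)]
      simp
    · exact absurd ((adj_none hB _).mpr (by simp [N0])) hnadj
    · have haa : a ≠ a' := fun h => hne (by rw [h])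
      rw [card_common hB (some (Sum.inl a)) (some (Sum.inl a')) True (fun _ => False)
        (fun c => a ∈ c ∧ a' ∈ c) (by simp [N0]) (by simp [N1]) (fun c => Iff.rfl),
        lam2 hα hB haa]
      simp
    · have hab : a ∉ b'.1 := fun h => hnadj ((adj_block hB _ _).mpr h)
      rw [card_common hB (some (Sum.inl a)) (some (Sum.inr b')) False (fun _ => False)
        (fun c => a ∈ c ∧ Disjoint b'.1 c) (by simp [N0]) (by simp [N1]) (fun c => Iff.rfl),
        pointDisj hα hB (mem_blocksF.mpr b'.2) hab]
      simp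
    · rw [card_common hB (some (Sum.inr b)) none False (fun a => a ∈ b.1) (fun _ => False)
        (by simp [N0]) (by simp [N1]) (by simp [N2]), filter_univ_mem,
        block_card hB (mem_blocksF.mpr b.2)]
      simp
    · have hab : a' ∉ b.1 := fun h => hnadj ((adj_point hB _ _).mpr h)
      rw [card_common hB (some (Sum.inr b)) (some (Sum.inl a')) False (fun _ => False)
        (fun c => a' ∈ c ∧ Disjoint b.1 c) (by simp [N0]) (by simp [N1])
        (fun c => by simp only [N2]; exact and_comm),
        pointDisj hα hB (mem_blocksF.mpr b.2) hab]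
      simp
    · have hnd : ¬ Disjoint b.1 b'.1 := fun h => hnadj ((adj_block hB _ _).mpr h)
      have hne' : b.1 ≠ b'.1 := fun h => hne (by rw [Subtype.ext h])
      have h2 : #(b.1 ∩ b'.1) = 2 := by
        rcases inter_02 hα hB (mem_blocksF.mpr b.2) (mem_blocksF.mpr b'.2) hne' with h | h
        · exact absurd ((disjoint_iff_card _ _).mpr h) hnd
        · exact h
      rw [card_common hB (some (Sum.inr b)) (some (Sum.inr b')) False
        (fun a => a ∈ b.1 ∧ a ∈ b'.1) (fun c => Disjoint b.1 c ∧ Disjoint b'.1 c)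
        (by simp [N0]) (fun a => Iff.rfl) (fun c => Iff.rfl),
        common hα hB (mem_blocksF.mpr b.2) (mem_blocksF.mpr b'.2) hne', h2]
      have : ({a | a ∈ b.1 ∧ a ∈ b'.1} : Finset α) = b.1 ∩ b'.1 := by
        ext a; simp
      rw [this, h2]
      simp

end Cfsg.Agent.S0428
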