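import Cfsg.Statements.S0414
import Cfsg.Agent.Lib.Helper93.S22Unique
import Cfsg.Agent.Lib.Helper93.AutTransport
import Cfsg.Agent.Lib.Helper93.AutC22

set_option autoImplicit false
open Cfsg

namespace Cfsg.Agent.S0414

/-- Aut of an S(3, 6, 22) has order 887040, is 3-transitive, and contains a simple subgroup of index 2. -/
theorem result {α : Type*} [Fintype α] [DecidableEq α] (hα : Fintype.card α = 22) {B : Set (Finset α)} (hB : Cfsg.IsSteinerSystem 3 6 B) : Nat.card (Cfsg.setSystemAut B) = 887040 ∧ MulAction.IsMultiplyPretransitive (Cfsg.setSystemAut B) α 3 ∧ ∃ H : Subgroup (Cfsg.setSystemAut B), H.index = 2 ∧ Cfsg.IsM22 H := by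
  classical
  obtain ⟨e, he⟩ := Cfsg.Agent.Lib.Helper93.S22Unique.setSystemIso hα
    Cfsg.Agent.Lib.Helper93.AutC22.card_T hB Cfsg.Agent.Lib.Helper93.AutC22.Hex22_steiner
  refine ⟨?_, ?_, ?_⟩
  · rw [Cfsg.Agent.Lib.Helper93.AutTransport.card_aut_eq e he,
      Cfsg.Agent.Lib.Helper93.AutC22.card_autHex22]
  · exact Cfsg.Agent.Lib.Helper93.AutTransport.isMultiplyPretransitive_aut e he 3
      Cfsg.Agent.Lib.Helper93.AutC22.isMultiplyPretransitive_autHex22
  · obtain ⟨H', hidx', hs', hc'⟩ := Cfsg.Agent.Lib.Helper93.AutC22.exists_index_two_autHex22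
    obtain ⟨H, hidx, ⟨φ⟩⟩ := Cfsg.Agent.Lib.Helper93.AutC22.exists_subgroup_of_equiv
      (Cfsg.Agent.Lib.Helper93.AutTransport.autCongr e he) H'
    refine ⟨H, by rw [hidx, hidx'], ?_, ?_⟩
    · exact φ.isSimpleGroup
    · rw [Nat.card_congr φ.toEquiv, hc']

end Cfsg.Agent.S0414
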