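import Cfsg.Statements.S0734
-- import your own Cfsg.Agent.* helpers here

set_option autoImplicit false
open Cfsg

namespace Cfsg.Agent.S0734

open scoped Pointwise

variable {G : Type*} [Group G] {Ω : Type*} [MulAction G Ω]

/-- The orbital graph of the pair `(a, b)`. -/
abbrev orbGraph (G : Type*) [Group G] {Ω : Type*} [MulAction G Ω] (a b : Ω) : SimpleGraph Ω :=
  SimpleGraph.fromRel fun x y : Ω => ∃ g : G, g • a = x ∧ g • b = y

theorem adj_smul {a b x y : Ω} (h : G) (hxy : (orbGraph G a b).Adj x y) :
    (orbGraph G a b).Adj (h • x) (h • y) := by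
  rw [SimpleGraph.fromRel_adj] at hxy ⊢
  obtain ⟨hne, hr⟩ := hxy
  refine ⟨fun hh => hne (MulAction.injective h hh), ?_⟩
  rcases hr with ⟨g, rfl, rfl⟩ | ⟨g, rfl, rfl⟩
  · left; exact ⟨h * g, by rw [mul_smul], by rw [mul_smul]⟩
  · right; exact ⟨h * g, by rw [mul_smul], by rw [mul_smul]⟩

theorem reachable_smul {a b x y : Ω} (h : G) (hxy : (orbGraph G a b).Reachable x y) :
    (orbGraph G a b).Reachable (h • x) (h • y) := by
  obtain ⟨w⟩ := hxy
  induction w with
  | nil => exact SimpleGraph.Reachable.refl _
  | cons hadj _ ih => exact (adj_smul h hadj).reachable.trans ih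

theorem adj_base {a b : Ω} (hab : a ≠ b) : (orbGraph G a b).Adj a b := by
  rw [SimpleGraph.fromRel_adj]
  exact ⟨hab, Or.inl ⟨1, one_smul _ _, one_smul _ _⟩⟩

theorem smul_component {a b : Ω} (g : G) :
    g • {x | (orbGraph G a b).Reachable a x} = {x | (orbGraph G a b).Reachable (g • a) x} := by
  ext y
  rw [Set.mem_smul_set_iff_inv_smul_mem]
  simp only [Set.mem_ofPred_eq]
  constructor
  · intro h
    have := reachable_smul g h
    rwa [smul_inv_smul] at this
  · intro h
    have := reachable_smul g⁻¹ h
    rwa [inv_smul_smul] at this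

theorem isBlock_component (a b : Ω) :
    MulAction.IsBlock G {x | (orbGraph G a b).Reachable a x} := by
  rw [MulAction.isBlock_iff_smul_eq_of_mem]
  intro g x hx hgx
  simp only [Set.mem_ofPred_eq] at hx hgx
  rw [smul_component]
  have h1 : (orbGraph G a b).Reachable a (g • a) :=
    hgx.trans (reachable_smul g hx).symm
  ext y
  simp only [Set.mem_ofPred_eq]
  exact ⟨fun h => h1.trans h, fun h => h1.symm.trans h⟩

theorem adj_mem_block {a b x y : Ω} {B : Set Ω} (hB : MulAction.IsBlock G B) (ha : a ∈ B)
    (hb : b ∈ B) (hxy : (orbGraph G a b).Adj x y) (g : G) (hx : x ∈ g • B) : y ∈ g • B := by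
  rw [SimpleGraph.fromRel_adj] at hxy
  obtain ⟨_, hr⟩ := hxy
  rcases hr with ⟨h, rfl, rfl⟩ | ⟨h, rfl, rfl⟩
  · have hmem : h • a ∈ h • B := Set.smul_mem_smul_set ha
    have heq : g • B = h • B := hB.smul_eq_smul_of_nonempty ⟨h • a, hx, hmem⟩
    rw [heq]
    exact Set.smul_mem_smul_set hb
  · have hmem : h • b ∈ h • B := Set.smul_mem_smul_set hb
    have heq : g • B = h • B := hB.smul_eq_smul_of_nonempty ⟨h • b, hx, hmem⟩
    rw [heq]
    exact Set.smul_mem_smul_set ha

theorem reachable_mem_block {a b x y : Ω} {B : Set Ω} (hB : MulAction.IsBlock G B) (ha : a ∈ B)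
    (hb : b ∈ B) (hxy : (orbGraph G a b).Reachable x y) (g : G) (hx : x ∈ g • B) :
    y ∈ g • B := by
  obtain ⟨w⟩ := hxy
  induction w with
  | nil => exact hx
  | cons hadj _ ih => exact ih (adj_mem_block hB ha hb hadj g hx)

/-- Higman's criterion for primitivity: a transitive action on a finite set is primitive if and only if every non-trivial orbital graph (edges = images of a fixed pair of distinct points) is connected. -/
theorem result {G : Type*} [Group G] {Ω : Type*} [Finite Ω] [MulAction G Ω] [MulAction.IsPretransitive G Ω] [Nontrivial Ω] : MulAction.IsPreprimitive G Ω ↔ ∀ a b : Ω, a ≠ b → (SimpleGraph.fromRel fun x y : Ω => ∃ g : G, g • a = x ∧ g • b = y).Connected := by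
  constructor
  · intro hprim a b hab
    have hblock := isBlock_component (G := G) a b
    have htriv := hprim.isTrivialBlock_of_isBlock hblock
    have huniv : {x | (orbGraph G a b).Reachable a x} = Set.univ := by
      rcases htriv with hsub | huniv
      · exfalso
        apply hab
        exact hsub (SimpleGraph.Reachable.refl a) (adj_base hab).reachable
      · exact huniv
    have hreach : ∀ x, (orbGraph G a b).Reachable a x := by
      intro x
      have : x ∈ {x | (orbGraph G a b).Reachable a x} := by rw [huniv]; trivial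
      exact this
    have : Nonempty Ω := ⟨a⟩
    exact ⟨fun x y => (hreach x).symm.trans (hreach y)⟩
  · intro h
    refine ⟨fun {B} hB => ?_⟩
    by_cases hsub : B.Subsingleton
    · exact Or.inl hsub
    · right
      rw [Set.not_subsingleton_iff] at hsub
      obtain ⟨a, ha, b, hb, hab⟩ := hsub
      have hconn := h a b hab
      ext y
      simp only [Set.mem_univ, iff_true]
      have hr : (orbGraph G a b).Reachable a y := hconn.preconnected a y
      have := reachable_mem_block hB ha hb hr 1 (by rwa [one_smul])
      rwa [one_smul] at this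

end Cfsg.Agent.S0734
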