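import Cfsg.Statements.S2247
import Mathlib
import Cfsg.Agent.Lib.Helper6.SzSylow
import Cfsg.Agent.Lib.Helper6.SzGen
import Cfsg.Agent.Lib.Helper6.SzOrder
import Cfsg.Agent.S0325
import Cfsg.Agent.S0327
-- Template for statement S2247 (row 2247; see /opt/grader/pristine/manifest.json for weights).
-- Copy to Cfsg/Agent/S2247.lean and replace the sorry. The statement below is byte-identical to the frozen
-- statement Cfsg.CfsgFrozen.S2247 (Cfsg/Statements/S2247.lean; the theorem Cfsg.kfact3_suzuki_sylow_two_in_unique_maximal_subgroup);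
-- the grader kernel-checks Cfsg.Agent.S2247.result against that frozen type. Keep the theorem IN THIS FILE
-- (a `result` declared elsewhere and merely imported here is not credited); helpers may live anywhere
-- under Cfsg/Agent/.
-- import your own Cfsg.Agent.* helpers here

set_option autoImplicit false
set_option linter.unusedSectionVars false
open Cfsg

namespace Cfsg.Agent.S2247

open Cfsg.Agent.Lib.Helper6 Matrix MulAction

section

variable {F : Type*} [Field F] [Fintype F] [CharP F 2] {m : ℕ}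

/-- the point at infinity as a point of the ovoid -/
def infPt (F : Type*) [Field F] (m : ℕ) : suzukiOvoid F m := ⟨suzukiPointInfinity F, szInf_mem m⟩

/-- affine points of the ovoid -/
def affPt (m : ℕ) (x y : F) : suzukiOvoid F m := ⟨szPt m x y, szPt_mem m x y⟩

theorem ovoid_cases (p : suzukiOvoid F m) : p = infPt F m ∨ ∃ x y : F, p = affPt m x y := by
  rcases (mem_suzukiOvoid_iff m p.1).1 p.2 with h | ⟨x, y, h⟩
  · exact Or.inl (Subtype.ext h)
  · exact Or.inr ⟨x, y, Subtype.ext h⟩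

theorem affPt_ne_inf (x y : F) : affPt m x y ≠ infPt F m := fun h =>
  szPt_ne_inf m x y (congrArg Subtype.val h)

theorem affPt_inj {x y x' y' : F} (h : affPt m x y = affPt m x' y') : x = x' ∧ y = y' :=
  szPt_injective m (congrArg Subtype.val h)

variable (hσ : SgSq (F := F) m)

/-- translations as elements of the Suzuki group -/
noncomputable def tz (a b : F) : Sz F m := ⟨szT m a b, szT_mem hσ a b⟩

/-- diagonal elements of the Suzuki group -/
noncomputable def hz (k : Fˣ) : Sz F m := ⟨szH m k, szH_mem hσ k⟩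

theorem mem_szTsub_iff (g : Sz F m) : g ∈ szTsub hσ ↔ ∃ a b : F, g = tz hσ a b := by
  constructor
  · rintro ⟨a, b, h⟩
    exact ⟨a, b, Subtype.ext h⟩
  · rintro ⟨a, b, rfl⟩
    exact ⟨a, b, rfl⟩

theorem tz_smul_aff (a b x y : F) :
    tz hσ a b • affPt m x y = affPt m (x + a) (y + sg m a * x + b) :=
  Subtype.ext (szT_smul_pt hσ a b x y)

theorem tz_smul_inf (a b : F) : tz hσ a b • infPt F m = infPt F m :=
  Subtype.ext (szT_smul_infPt a b)

theorem hz_smul_aff (k : Fˣ) (x y : F) :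
    hz hσ k • affPt m x y = affPt m ((k : F) * x) ((k : F) * sg m (k : F) * y) :=
  Subtype.ext (szH_smul_pt hσ k x y)

theorem hz_smul_inf (k : Fˣ) : hz hσ k • infPt F m = infPt F m :=
  Subtype.ext (szH_smul_infPt k)

theorem tz_mul (a b c d : F) : tz hσ a b * tz hσ c d = tz hσ (a + c) (b + d + sg m a * c) :=
  Subtype.ext (szT_mul hσ a b c d)

theorem tz_mem (a b : F) : tz hσ a b ∈ szTsub hσ := ⟨a, b, rfl⟩


theorem tz_inj {a b c d : F} (h : tz hσ a b = tz hσ c d) : a = c ∧ b = d :=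
  szT_injective (congrArg Subtype.val h)

theorem tz_zero : tz hσ (0 : F) 0 = 1 := Subtype.ext szT_zero

variable (hm : 1 ≤ m) (hF : Fintype.card F = 2 ^ (2 * m + 1))
include hm hF

omit hσ in
theorem faithful (u v : Sz F m) (h : ∀ p : suzukiOvoid F m, u • p = v • p) : u = v := by
  have hZ := Cfsg.Agent.S0327.result hm hF
  have := hZ.1
  exact FaithfulSMul.eq_of_smul_eq_smul h

theorem hz_tz (k : Fˣ) (a b : F) :
    hz hσ k * tz hσ a b = tz hσ ((k : F) * a) ((k : F) * sg m (k : F) * b) * hz hσ k := by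
  apply faithful hm hF
  intro p
  rcases ovoid_cases p with rfl | ⟨x, y, rfl⟩
  · rw [mul_smul, mul_smul, tz_smul_inf, hz_smul_inf, tz_smul_inf]
  · rw [mul_smul, mul_smul, tz_smul_aff, hz_smul_aff, hz_smul_aff, tz_smul_aff]
    congr 1
    · ring
    · rw [map_mul]; ring

theorem stab_eq {g : Sz F m} (hg : g ∈ stabilizer (Sz F m) (infPt F m)) :
    ∃ (c d : F) (k : Fˣ), g = tz hσ c d * hz hσ k := by
  have hinf : (g : SpecialLinearGroup (Fin 4) F) • suzukiPointInfinity F = suzukiPointInfinity F :=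
    congrArg Subtype.val (mem_stabilizer_iff.mp hg)
  obtain ⟨c, d, k, h⟩ := exists_eq_szT_mul_szH hm hF g.2 hinf
  exact ⟨c, d, k, Subtype.ext h⟩

theorem conj_mem {g t : Sz F m} (hg : g ∈ stabilizer (Sz F m) (infPt F m))
    (ht : t ∈ szTsub hσ) : g * t * g⁻¹ ∈ szTsub hσ := by
  obtain ⟨c, d, k, rfl⟩ := stab_eq hσ hm hF hg
  obtain ⟨a, b, rfl⟩ := (mem_szTsub_iff hσ t).mp ht
  have h1 := hz_tz hσ hm hF k a b
  have e : (tz hσ c d * hz hσ k) * tz hσ a b * (tz hσ c d * hz hσ k)⁻¹ =
      tz hσ c d * tz hσ ((k : F) * a) ((k : F) * sg m (k : F) * b) * (tz hσ c d)⁻¹ := by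
    calc (tz hσ c d * hz hσ k) * tz hσ a b * (tz hσ c d * hz hσ k)⁻¹
        = tz hσ c d * (hz hσ k * tz hσ a b) * (hz hσ k)⁻¹ * (tz hσ c d)⁻¹ := by group
      _ = tz hσ c d * (tz hσ ((k : F) * a) ((k : F) * sg m (k : F) * b) * hz hσ k) * (hz hσ k)⁻¹ *
            (tz hσ c d)⁻¹ := by rw [h1]
      _ = _ := by group
  rw [e]
  exact (szTsub hσ).mul_mem ((szTsub hσ).mul_mem (tz_mem hσ _ _) (tz_mem hσ _ _))
    ((szTsub hσ).inv_mem (tz_mem hσ _ _))

theorem normalizer_eq :
    Subgroup.normalizer ((szTsub hσ : Subgroup (Sz F m)) : Set (Sz F m)) =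
      stabilizer (Sz F m) (infPt F m) := by
  ext g
  rw [Subgroup.mem_normalizer_iff]
  constructor
  · intro h
    rw [mem_stabilizer_iff]
    rcases ovoid_cases (g • infPt F m) with h0 | ⟨x, y, h0⟩
    · exact h0
    · exfalso
      have ht0 := (h (tz hσ 1 0)).mp (tz_mem hσ 1 0)
      obtain ⟨a, b, hab⟩ := (mem_szTsub_iff hσ _).mp ht0
      have hfix : (g * tz hσ 1 0 * g⁻¹) • (g • infPt F m) = g • infPt F m := by
        rw [← mul_smul, inv_mul_cancel_right, mul_smul, tz_smul_inf]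
      rw [hab, h0, tz_smul_aff] at hfix
      obtain ⟨e1, e2⟩ := affPt_inj hfix
      have ha : a = 0 := left_eq_add.mp e1.symm
      rw [ha] at e2
      have hb : b = 0 := by
        simp only [map_zero, zero_mul, add_zero] at e2
        exact left_eq_add.mp e2.symm
      rw [ha, hb, tz_zero] at hab
      have h10 : tz hσ (1 : F) 0 = 1 := by
        have : tz hσ (1 : F) 0 = g⁻¹ * (g * tz hσ 1 0 * g⁻¹) * g := by group
        rw [this, hab]; group
      rw [← tz_zero hσ] at h10
      exact one_ne_zero (tz_inj hσ h10).1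
  · intro hg t
    constructor
    · intro ht
      exact conj_mem hσ hm hF hg ht
    · intro ht
      have hg' : g⁻¹ ∈ stabilizer (Sz F m) (infPt F m) := Subgroup.inv_mem _ hg
      have := conj_mem hσ hm hF hg' ht
      have e : g⁻¹ * (g * t * g⁻¹) * g⁻¹⁻¹ = t := by group
      rwa [e] at this

omit hm hF in
theorem exists_tz_smul (x y x' y' : F) : ∃ t ∈ szTsub hσ, t • affPt m x y = affPt m x' y' := by
  refine ⟨tz hσ (x' - x) (y' - y - sg m (x' - x) * x), tz_mem hσ _ _, ?_⟩
  rw [tz_smul_aff]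
  congr 1 <;> ring

theorem main_T :
    IsCoatom (Subgroup.normalizer ((szTsub hσ : Subgroup (Sz F m)) : Set (Sz F m))) ∧
    ∀ M : Subgroup (Sz F m), IsCoatom M → szTsub hσ ≤ M →
      M = Subgroup.normalizer ((szTsub hσ : Subgroup (Sz F m)) : Set (Sz F m)) := by
  have hZ := Cfsg.Agent.S0327.result hm hF
  have hsimple := Cfsg.Agent.S0325.result hm hF
  have h2 : IsMultiplyPretransitive (Sz F m) (suzukiOvoid F m) 2 := hZ.2.1
  have hprim : IsPreprimitive (Sz F m) (suzukiOvoid F m) := isPreprimitive_of_is_two_pretransitive h2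
  have hnt : Nontrivial (suzukiOvoid F m) := ⟨⟨affPt m 0 0, infPt F m, affPt_ne_inf 0 0⟩⟩
  have hco : IsCoatom (stabilizer (Sz F m) (infPt F m)) :=
    (isCoatom_stabilizer_iff_preprimitive (Sz F m) (infPt F m)).mpr hprim
  rw [normalizer_eq hσ hm hF]
  refine ⟨hco, ?_⟩
  intro M hM hTM
  by_cases hfix : ∀ h ∈ M, h • infPt F m = infPt F m
  · have hle : M ≤ stabilizer (Sz F m) (infPt F m) := fun h hh => mem_stabilizer_iff.mpr (hfix h hh)
    exact ((hM.le_iff_eq hco.1).mp hle).symm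
  · exfalso
    push Not at hfix
    obtain ⟨h, hhM, hh⟩ := hfix
    apply hM.1
    -- `M` is transitive on the ovoid
    have htrans : ∀ r : suzukiOvoid F m, ∃ y ∈ M, y • infPt F m = r := by
      intro r
      rcases ovoid_cases r with rfl | ⟨x', y', rfl⟩
      · exact ⟨1, M.one_mem, one_smul _ _⟩
      · rcases ovoid_cases (h • infPt F m) with h0 | ⟨x, y, h0⟩
        · exact absurd h0 hh
        · obtain ⟨t, ht, htt⟩ := exists_tz_smul hσ x y x' y'
          exact ⟨t * h, M.mul_mem (hTM ht) hhM, by rw [mul_smul, h0, htt]⟩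
    -- every conjugate of `T` lies in `M`
    have hconj : ∀ (g t : Sz F m), t ∈ szTsub hσ → g * t * g⁻¹ ∈ M := by
      intro g t ht
      obtain ⟨y, hyM, hy⟩ := htrans (g • infPt F m)
      have hs : y⁻¹ * g ∈ stabilizer (Sz F m) (infPt F m) := by
        rw [mem_stabilizer_iff, mul_smul, ← hy, inv_smul_smul]
      have h1 := hTM (conj_mem hσ hm hF hs ht)
      have e : g * t * g⁻¹ = y * (y⁻¹ * g * t * (y⁻¹ * g)⁻¹) * y⁻¹ := by group
      rw [e]
      exact M.mul_mem (M.mul_mem hyM h1) (M.inv_mem hyM)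
    have hncl : Subgroup.normalClosure ((szTsub hσ : Subgroup (Sz F m)) : Set (Sz F m)) ≤ M := by
      rw [Subgroup.normalClosure, Subgroup.closure_le]
      intro z hz
      obtain ⟨t, ht, htz⟩ := Group.mem_conjugatesOfSet_iff.mp hz
      obtain ⟨g, rfl⟩ := isConj_iff.mp htz
      exact hconj g t ht
    have hnormal : (Subgroup.normalClosure ((szTsub hσ : Subgroup (Sz F m)) : Set (Sz F m))).Normal :=
      Subgroup.normalClosure_normal
    rcases hnormal.eq_bot_or_eq_top with hbot | htop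
    · exfalso
      have h1 : tz hσ (1 : F) 0 ∈ Subgroup.normalClosure ((szTsub hσ : Subgroup (Sz F m)) : Set (Sz F m)) :=
        Subgroup.subset_normalClosure (tz_mem hσ 1 0)
      rw [hbot, Subgroup.mem_bot, ← tz_zero hσ] at h1
      exact one_ne_zero (tz_inj hσ h1).1
    · exact top_le_iff.mp (htop ▸ hncl)

end

/-- In the Suzuki group with q = 2^(2m+1), m ≥ 1 (realised as the stabiliser in SL₄ of the Suzuki–Tits ovoid), the normalizer of a Sylow 2-subgroup P is a maximal subgroup and is the only maximal subgroup containing P. -/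
theorem result {F : Type*} [Field F] [Fintype F] {m : ℕ} (hm : 1 ≤ m) (hF : Fintype.card F = 2 ^ (2 * m + 1)) (P : Sylow 2 ↥(Cfsg.Sz F m)) :
    IsCoatom (Subgroup.normalizer ((P : Subgroup ↥(Cfsg.Sz F m)) : Set ↥(Cfsg.Sz F m))) ∧
    ∀ M : Subgroup ↥(Cfsg.Sz F m), IsCoatom M → (P : Subgroup ↥(Cfsg.Sz F m)) ≤ M → M = Subgroup.normalizer ((P : Subgroup ↥(Cfsg.Sz F m)) : Set ↥(Cfsg.Sz F m)) := by
  have hchar := sz_charP hF
  have hσ : SgSq (F := F) m := sgSq_of_card m hF
  have hcardT : Nat.card (szTsub hσ) = 2 ^ (2 * (2 * m + 1)) := by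
    rw [card_szTsub, Nat.card_eq_fintype_card, hF, ← pow_mul, mul_comm]
  have hp : IsPGroup 2 (szTsub hσ) := IsPGroup.of_card hcardT
  have hidx : ¬ 2 ∣ (szTsub hσ).index := by
    have h1 := (szTsub hσ).card_mul_index
    have hG := card_Sz hm hF
    have hG' : Nat.card (Sz F m) =
        2 ^ (2 * (2 * m + 1)) * (((2 ^ (2 * m + 1)) ^ 2 + 1) * (2 ^ (2 * m + 1) - 1)) := by
      rw [hG, pow_mul', mul_assoc]
    rw [hcardT, hG'] at h1
    have hpos : 0 < 2 ^ (2 * (2 * m + 1)) := pow_pos (by norm_num) _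
    have hi : (szTsub hσ).index = ((2 ^ (2 * m + 1)) ^ 2 + 1) * (2 ^ (2 * m + 1) - 1) :=
      Nat.eq_of_mul_eq_mul_left hpos h1
    rw [hi]
    have he : Even (2 ^ (2 * m + 1)) := Nat.even_pow.mpr ⟨even_two, by omega⟩
    have ho1 : Odd ((2 ^ (2 * m + 1)) ^ 2 + 1) :=
      Even.add_one (Even.pow_of_ne_zero he (by norm_num))
    have ho2 : Odd (2 ^ (2 * m + 1) - 1) := Nat.Even.sub_odd Nat.one_le_two_pow he odd_one
    exact (Nat.odd_mul.mpr ⟨ho1, ho2⟩).not_two_dvd_nat
  let Q : Sylow 2 (Sz F m) := hp.toSylow hidx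
  obtain ⟨x, hx⟩ := MulAction.exists_smul_eq (Sz F m) Q P
  let e : Subgroup (Sz F m) ≃o Subgroup (Sz F m) := (MulAut.conj x).mapSubgroup
  have hP : (P : Subgroup (Sz F m)) = e (szTsub hσ) := by
    rw [← hx, Sylow.coe_subgroup_smul, hp.toSylow_coe hidx]
    rfl
  have hN : Subgroup.normalizer ((P : Subgroup (Sz F m)) : Set (Sz F m)) =
      e (Subgroup.normalizer ((szTsub hσ : Subgroup (Sz F m)) : Set (Sz F m))) := by
    rw [hP]
    exact (Subgroup.map_equiv_normalizer_eq (szTsub hσ) (MulAut.conj x)).symm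
  obtain ⟨h1, h2⟩ := main_T hσ hm hF
  constructor
  · rw [hN]
    exact (OrderIso.isCoatom_iff e _).mpr h1
  · intro M hM hPM
    have hM' : IsCoatom (e.symm M) := (OrderIso.isCoatom_iff e.symm M).mpr hM
    have hT : szTsub hσ ≤ e.symm M := by
      rw [OrderIso.le_symm_apply, ← hP]
      exact hPM
    have := h2 _ hM' hT
    rw [hN, ← this, OrderIso.apply_symm_apply]

end Cfsg.Agent.S2247
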