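import Cfsg.Statements.S2238
import Cfsg.Agent.Lib.Helper6.SzPartition

set_option autoImplicit false
open Cfsg

namespace Cfsg.Agent.S2238

open Cfsg.Agent.Lib.Helper6 MulAction

/-- Elements of a cyclic subgroup commute. -/
theorem commute_of_isCyclic {G : Type*} [Group G] (U : Subgroup G) (hU : IsCyclic U) {a b : G}
    (ha : a ∈ U) (hb : b ∈ U) : Commute a b := by
  have h := (IsCyclic.commGroup (α := U)).mul_comm ⟨a, ha⟩ ⟨b, hb⟩
  exact congrArg Subtype.val h

/-- Arithmetic of the orders of the tori. -/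
theorem torus_orders (m : ℕ) (hm : 1 ≤ m) :
    2 ^ (m + 1) ≤ 2 ^ (2 * m + 1) ∧ (2 ^ (m + 1)) ^ 2 = 2 * 2 ^ (2 * m + 1) ∧
      8 ≤ 2 ^ (2 * m + 1) ∧ 2 ∣ 2 ^ (2 * m + 1) ∧ 2 ∣ 2 ^ (m + 1) ∧
      5 ≤ 2 ^ (2 * m + 1) - 2 ^ (m + 1) + 1 := by
  have h1 : 2 ^ (m + 1) ≤ 2 ^ (2 * m + 1) := Nat.pow_le_pow_right (by norm_num) (by omega)
  have h2 : (2 ^ (m + 1)) ^ 2 = 2 * 2 ^ (2 * m + 1) := by
    rw [← pow_mul, show (m + 1) * 2 = 2 * m + 1 + 1 by ring, pow_succ]
    ring
  have h3 : 8 ≤ 2 ^ (2 * m + 1) := sz_q_ge_eight hm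
  have h4 : 2 ∣ 2 ^ (2 * m + 1) := ⟨2 ^ (2 * m), by rw [pow_succ]; ring⟩
  have h5 : 2 ∣ 2 ^ (m + 1) := ⟨2 ^ m, by rw [pow_succ]; ring⟩
  refine ⟨h1, h2, h3, h4, h5, ?_⟩
  -- q - s + 1 ≥ 5 : from s² = 2q and q ≥ 8 we get s ≤ q - 4
  have h6 : 2 ^ (m + 1) + 4 ≤ 2 ^ (2 * m + 1) := by
    obtain ⟨n, rfl⟩ := Nat.exists_eq_add_of_le hm
    have e1 : 2 ^ (1 + n + 1) = 4 * 2 ^ n := by
      rw [show 1 + n + 1 = n + 2 by ring, pow_add]; ring
    have e2 : 2 ^ (2 * (1 + n) + 1) = 8 * (2 ^ n * 2 ^ n) := by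
      rw [show 2 * (1 + n) + 1 = n + n + 3 by ring, pow_add, pow_add]; ring
    rw [e1, e2]
    have : 1 ≤ 2 ^ n := Nat.one_le_two_pow
    nlinarith
  omega

/-- The partition of the Suzuki group: with q = 2^(2m+1), m ≥ 1, r = 2^m and the Suzuki group realised as the stabiliser in SL₄ of the Suzuki–Tits ovoid, every non-identity element lies in exactly one subgroup that is either a Sylow 2-subgroup or a cyclic subgroup of order q − 1, q + 2r + 1 or q − 2r + 1. -/
theorem result {F : Type*} [Field F] [Fintype F] {m : ℕ} (hm : 1 ≤ m) (hF : Fintype.card F = 2 ^ (2 * m + 1)) (g : ↥(Cfsg.Sz F m)) (hg : g ≠ 1) :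
    ∃! U : Subgroup ↥(Cfsg.Sz F m), ((∃ P : Sylow 2 ↥(Cfsg.Sz F m), U = (P : Subgroup ↥(Cfsg.Sz F m))) ∨
      (IsCyclic ↥U ∧ Nat.card ↥U ∈ ({2 ^ (2 * m + 1) - 1, 2 ^ (2 * m + 1) + 2 ^ (m + 1) + 1, 2 ^ (2 * m + 1) - 2 ^ (m + 1) + 1} : Set ℕ))) ∧ g ∈ U := by
  classical
  have := sz_charP hF
  obtain ⟨hsq, hs2, hq8, hqe, hse, hb5⟩ := torus_orders m hm
  set q := 2 ^ (2 * m + 1) with hq
  set s := 2 ^ (m + 1) with hs
  have h3 := sz_three_pt hm hF
  have hodd := sz_odd_ovoid hF
  have hinv := sz_hinv hm hF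
  have hprod : (q + s + 1) * (q - s + 1) = q ^ 2 + 1 := by
    zify [hsq]
    have : (s : ℤ) ^ 2 = 2 * q := by exact_mod_cast hs2
    linear_combination -this
  -- the orders are odd
  have hoddk : ∀ k ∈ ({q - 1, q + s + 1, q - s + 1} : Set ℕ), ¬ 2 ∣ k := by
    intro k hk h2
    obtain ⟨q', hq'⟩ := hqe
    obtain ⟨s', hs'⟩ := hse
    rcases hk with rfl | rfl | rfl <;> omega
  have h2pow : ∀ {P : Sylow 2 (Sz F m)}, g ∈ P → 2 ∣ orderOf g := by
    intro P hgP
    obtain ⟨i, hi⟩ := (IsPGroup.iff_orderOf.mp P.isPGroup') ⟨g, hgP⟩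
    rw [Subgroup.orderOf_mk] at hi
    have hi0 : i ≠ 0 := by
      rintro rfl
      rw [pow_zero, orderOf_eq_one_iff] at hi
      exact hg hi
    rw [hi]
    exact dvd_pow_self 2 hi0
  by_cases hfix : ∃ a : suzukiOvoid F m, g • a = a
  · obtain ⟨a, ha⟩ := hfix
    by_cases hfix2 : ∃ b : suzukiOvoid F m, b ≠ a ∧ g • b = b
    · -- two fixed points
      obtain ⟨b, hba, hb⟩ := hfix2
      obtain ⟨U, hcyc, hcard, hmem⟩ := sz_exists_two_point_torus hm hF a b (Ne.symm hba)
      have hgU : g ∈ U := (hmem g).mpr ⟨ha, hb⟩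
      have hoU : orderOf g ∣ q - 1 := hcard ▸ Subgroup.orderOf_dvd_natCard U hgU
      refine ⟨U, ⟨Or.inr ⟨hcyc, ?_⟩, hgU⟩, ?_⟩
      · rw [hcard]; exact Or.inl rfl
      · rintro U' ⟨hU', hgU'⟩
        rcases hU' with ⟨P', rfl⟩ | ⟨hcyc', hcard'⟩
        · exfalso
          have h2 := (h2pow hgU').trans hoU
          exact hoddk (q - 1) (Or.inl rfl) h2
        · rcases hcard' with hc | hc | hc
          · -- same order: U' ≤ U
            apply Subgroup.eq_of_le_of_card_ge
            · intro c hc'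
              have hcg : Commute c g := commute_of_isCyclic U' hcyc' hc' hgU'
              exact (hmem c).mpr
                (fix_pair_of_commute hodd h3 hinv hg (Ne.symm hba) ha hb hcg)
            · rw [hcard, hc]
          · exfalso
            have ho' : orderOf g ∣ q + s + 1 := hc ▸ Subgroup.orderOf_dvd_natCard U' hgU'
            have ho2 : orderOf g ∣ q ^ 2 + 1 := hprod ▸ Dvd.dvd.mul_right ho' _
            have ho3 : orderOf g ∣ (q - 1) * (q + 1) := Dvd.dvd.mul_right hoU _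
            have h4 : (q - 1) * (q + 1) + 2 = q ^ 2 + 1 := by
              have hq1 : 1 ≤ q := by omega
              zify [hq1]; ring
            have h5 : orderOf g ∣ (q - 1) * (q + 1) + 2 := by rw [h4]; exact ho2
            have h6 : orderOf g ∣ 2 := (Nat.dvd_add_right ho3).mp h5
            rcases (Nat.dvd_prime Nat.prime_two).mp h6 with h | h
            · exact hg (orderOf_eq_one_iff.mp h)
            · exact hoddk (q - 1) (Or.inl rfl) (h ▸ hoU)
          · exfalso
            have ho' : orderOf g ∣ q - s + 1 := hc ▸ Subgroup.orderOf_dvd_natCard U' hgU'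
            have ho2 : orderOf g ∣ q ^ 2 + 1 := hprod ▸ Dvd.dvd.mul_left ho' _
            have ho3 : orderOf g ∣ (q - 1) * (q + 1) := Dvd.dvd.mul_right hoU _
            have h4 : (q - 1) * (q + 1) + 2 = q ^ 2 + 1 := by
              have hq1 : 1 ≤ q := by omega
              zify [hq1]; ring
            have h5 : orderOf g ∣ (q - 1) * (q + 1) + 2 := by rw [h4]; exact ho2
            have h6 : orderOf g ∣ 2 := (Nat.dvd_add_right ho3).mp h5
            rcases (Nat.dvd_prime Nat.prime_two).mp h6 with h | h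
            · exact hg (orderOf_eq_one_iff.mp h)
            · exact hoddk (q - 1) (Or.inl rfl) (h ▸ hoU)
    · -- exactly one fixed point
      push Not at hfix2
      have hu : ∀ b, g • b = b → b = a := by
        intro b hb
        by_contra hne
        exact hfix2 b hne hb
      obtain ⟨j, hj⟩ := exists_two_pow_of_unique_fixed (sz_card_ovoid hF) h3 ha hu (Commute.refl g)
      have hZ : IsPGroup 2 (Subgroup.zpowers g) := by
        rintro ⟨z, hz⟩
        obtain ⟨i, rfl⟩ := Subgroup.mem_zpowers_iff.mp hz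
        refine ⟨j, Subtype.ext ?_⟩
        change (g ^ i) ^ 2 ^ j = 1
        rw [← zpow_natCast, ← zpow_mul, mul_comm, zpow_mul, zpow_natCast, hj, one_zpow]
      obtain ⟨P, hP⟩ := hZ.exists_le_sylow
      have hgP : g ∈ P := hP (Subgroup.mem_zpowers g)
      refine ⟨P, ⟨Or.inl ⟨P, rfl⟩, hgP⟩, ?_⟩
      rintro U' ⟨hU', hgU'⟩
      rcases hU' with ⟨P', rfl⟩ | ⟨hcyc', hcard'⟩
      · rw [sz_sylow_two_eq_of_mem hm hF P' P hg hgU' hgP]
      · exfalso
        have ho' : orderOf g ∣ Nat.card U' := Subgroup.orderOf_dvd_natCard U' hgU'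
        exact hoddk _ hcard' ((h2pow hgP).trans ho')
  · -- no fixed point
    push Not at hfix
    have hfpf : SzFpf g := hfix
    obtain ⟨x₁, x₂, hx₁, hx₂, hc₁, hc₂, -, -, hcov⟩ := sz_fpf_classes hm hF
    have hcardC : Nat.card (Subgroup.centralizer ({g} : Set (Sz F m))) = q + s + 1 ∨
        Nat.card (Subgroup.centralizer ({g} : Set (Sz F m))) = q - s + 1 := by
      rcases hcov g hfpf with h | h
      · left; rw [szY_card_eq hm hF hx₁ h, hc₁]
      · right; rw [szY_card_eq hm hF hx₂ h, hc₂]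
    have hgC : g ∈ Subgroup.centralizer ({g} : Set (Sz F m)) :=
      Subgroup.mem_centralizer_singleton_iff.mpr rfl
    refine ⟨Subgroup.centralizer ({g} : Set (Sz F m)),
      ⟨Or.inr ⟨hfpf.isCyclic_centralizer hm hF, ?_⟩, hgC⟩, ?_⟩
    · rcases hcardC with h | h
      · rw [h]; exact Or.inr (Or.inl rfl)
      · rw [h]; exact Or.inr (Or.inr rfl)
    · rintro U' ⟨hU', hgU'⟩
      rcases hU' with ⟨P', rfl⟩ | ⟨hcyc', hcard'⟩
      · exfalso
        exact (prime_dvd_card_of_fpf hodd h3 hinv hfpf Nat.prime_two (h2pow hgU')).1 rfl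
      · have hle : U' ≤ Subgroup.centralizer ({g} : Set (Sz F m)) := by
          intro c hc'
          exact Subgroup.mem_centralizer_singleton_iff.mpr
            (commute_of_isCyclic U' hcyc' hc' hgU').eq
        have hdvd := Subgroup.card_dvd_of_le hle
        rcases hcard' with hc | hc | hc
        · exfalso
          have ho1 : orderOf g ≠ 1 := fun h => hg (orderOf_eq_one_iff.mp h)
          obtain ⟨p, hp, hpo⟩ := Nat.exists_prime_and_dvd ho1
          obtain ⟨hp2, hpΩ, -, -⟩ := prime_dvd_card_of_fpf hodd h3 hinv hfpf hp hpo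
          rw [card_suzukiOvoid, hF] at hpΩ
          have hpq : p ∣ q - 1 := hc ▸ hpo.trans (Subgroup.orderOf_dvd_natCard U' hgU')
          have ho3 : p ∣ (q - 1) * (q + 1) := Dvd.dvd.mul_right hpq _
          have h4 : (q - 1) * (q + 1) + 2 = q ^ 2 + 1 := by
            have hq1 : 1 ≤ q := by omega
            zify [hq1]; ring
          have h5 : p ∣ (q - 1) * (q + 1) + 2 := by rw [h4]; exact hpΩ
          have h6 : p ∣ 2 := (Nat.dvd_add_right ho3).mp h5
          exact hp2 ((Nat.prime_dvd_prime_iff_eq hp Nat.prime_two).mp h6)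
        · rcases hcardC with h | h
          · exact Subgroup.eq_of_le_of_card_ge hle (by rw [h, hc])
          · exfalso
            rw [hc, h] at hdvd
            have := Nat.le_of_dvd (by omega) hdvd
            have hs1 : 1 ≤ s := Nat.one_le_two_pow
            omega
        · rcases hcardC with h | h
          · exfalso
            rw [hc, h] at hdvd
            -- q - s + 1 ∣ q + s + 1, hence divides 2 s = 2^(m+2); it is odd and ≥ 5
            have h7 : q - s + 1 ∣ 2 * s := by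
              have e : q + s + 1 = (q - s + 1) + 2 * s := by omega
              rw [e] at hdvd
              exact (Nat.dvd_add_right (dvd_refl _)).mp hdvd
            have h8 : 2 * s = 2 ^ (m + 2) := by rw [hs, pow_succ 2 (m + 1)]; ring
            rw [h8] at h7
            have hcop : Nat.Coprime (q - s + 1) (2 ^ (m + 2)) := by
              apply Nat.Coprime.pow_right
              rw [Nat.coprime_comm, Nat.Prime.coprime_iff_not_dvd Nat.prime_two]
              exact hoddk _ (Or.inr (Or.inr rfl))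
            have h9 : q - s + 1 = 1 := Nat.Coprime.eq_one_of_dvd hcop h7
            omega
          · exact Subgroup.eq_of_le_of_card_ge hle (by rw [h, hc])

end Cfsg.Agent.S2238
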