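import Cfsg.Statements.S0050
import Cfsg.Agent.S0004
import Cfsg.Agent.Lib.Helper1.Complements
-- import your own Cfsg.Agent.* helpers here

set_option autoImplicit false
open Cfsg
open Pointwise

namespace Cfsg.Agent.S0050

/-- Frattini argument for Hall subgroups: if L is a solvable normal subgroup and H a subgroup of L of order coprime to its index in L, then L together with the normaliser of H generates the whole group. -/
theorem result {G : Type*} [Group G] [Finite G] (L : Subgroup G) [L.Normal] (hL : Group.IsSolvable L)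
    (H : Subgroup G) (hHL : H ≤ L) (hHall : (Nat.card H).Coprime (H.relIndex L)) :
    L ⊔ Subgroup.normalizer (H : Set G) = ⊤ := by
  rw [eq_top_iff]
  intro g _
  -- the conjugate of `H` by `g` lies in `L`
  have hH'L : MulAut.conj g • H ≤ L := by
    intro x hx
    rw [Subgroup.mem_pointwise_smul_iff_inv_smul_mem] at hx
    have h1 : (MulAut.conj g)⁻¹ • x ∈ L := hHL hx
    have h2 : MulAut.conj g • ((MulAut.conj g)⁻¹ • x) ∈ L := by
      rw [MulAut.smul_def, MulAut.conj_apply]
      exact ‹L.Normal›.conj_mem _ h1 g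
    rwa [smul_inv_smul] at h2
  have hcard' : Nat.card (MulAut.conj g • H : Subgroup G) = Nat.card H :=
    Cfsg.Agent.Lib.Helper1.card_conj_smul g H
  have hcardL : Nat.card L = Nat.card H * H.relIndex L := by
    rw [Subgroup.relIndex, ← Cfsg.Agent.Lib.Helper1.card_subgroupOf_of_le hHL]
    exact (Subgroup.card_mul_index (H.subgroupOf L)).symm
  obtain ⟨l, hl⟩ := Cfsg.Agent.S0004.result (G := L) (Nat.card H) (H.relIndex L) hcardL hHall
    (H.subgroupOf L) ((MulAut.conj g • H).subgroupOf L)
    (Cfsg.Agent.Lib.Helper1.card_subgroupOf_of_le hHL)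
    ((Cfsg.Agent.Lib.Helper1.card_subgroupOf_of_le hH'L).trans hcard')
  have hl' : MulAut.conj (l : G) • H = MulAut.conj g • H :=
    Cfsg.Agent.Lib.Helper1.conj_smul_eq_of_subgroupOf hHL hH'L l hl
  -- `l⁻¹ * g` normalizes `H`
  have hn : (l : G)⁻¹ * g ∈ Subgroup.normalizer (H : Set G) := by
    have h3 : MulAut.conj ((l : G)⁻¹ * g) • H = H := by
      rw [map_mul, mul_smul, ← hl', ← mul_smul, ← map_mul, inv_mul_cancel, map_one, one_smul]
    rw [← Subgroup.inv_mem_iff]
    rw [Subgroup.mem_normalizer_iff]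
    intro h
    have h4 : MulAut.conj ((l : G)⁻¹ * g) • H = H := h3
    constructor
    · intro hh
      have : h ∈ MulAut.conj ((l : G)⁻¹ * g) • H := by rw [h4]; exact hh
      rw [Subgroup.mem_pointwise_smul_iff_inv_smul_mem] at this
      simpa [MulAut.smul_def, MulAut.conj_apply, mul_assoc] using this
    · intro hh
      have : MulAut.conj ((l : G)⁻¹ * g) • (((l : G)⁻¹ * g)⁻¹ * h * (((l : G)⁻¹ * g)⁻¹)⁻¹) ∈
          MulAut.conj ((l : G)⁻¹ * g) • H := Subgroup.smul_mem_pointwise_smul _ _ _ hh
      rw [h4] at this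
      simpa [MulAut.smul_def, MulAut.conj_apply, mul_assoc] using this
  have : g = (l : G) * ((l : G)⁻¹ * g) := by group
  rw [this]
  exact Subgroup.mul_mem _ (Subgroup.mem_sup_left l.2) (Subgroup.mem_sup_right hn)

end Cfsg.Agent.S0050
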