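import Cfsg.Statements.S0827
import Cfsg.Agent.S5908
import Cfsg.Agent.Lib.Helper53.QuatLift

set_option autoImplicit false
set_option linter.unusedSectionVars false
open Cfsg
open scoped Matrix

namespace Cfsg.Agent.S0827

section abstractPart
variable {G : Type*} [Group G]

theorem mem_zpowers_cases {a x : G} (ha : a ^ 3 = 1) (hx : x ∈ Subgroup.zpowers a) :
    x = 1 ∨ x = a ∨ x = a ^ 2 := by
  obtain ⟨k, rfl⟩ := Subgroup.mem_zpowers_iff.mp hx
  rw [zpow_eq_zpow_emod' k ha]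
  have h1 : 0 ≤ k % ((3 : ℕ) : ℤ) := Int.emod_nonneg _ (by norm_num)
  have h2 : k % ((3 : ℕ) : ℤ) < 3 := Int.emod_lt_of_pos _ (by norm_num)
  obtain ⟨r, hr⟩ : ∃ r : ℕ, k % ((3 : ℕ) : ℤ) = r := ⟨(k % ((3 : ℕ) : ℤ)).toNat, by omega⟩
  rw [hr, zpow_natCast]
  have : r < 3 := by omega
  interval_cases r
  · left; simp
  · right; left; simp
  · right; right; rfl

theorem card_eq_nine [Finite G] (K : Subgroup G) {a b : G} (haK : a ∈ K) (hbK : b ∈ K)
    (ha1 : a ≠ 1) (ha3 : a ^ 3 = 1) (hb : b ∉ Subgroup.zpowers a) (hK : Nat.card K ∣ 9) :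
    Nat.card K = 9 := by
  have : Fact (Nat.Prime 3) := ⟨Nat.prime_three⟩
  have hord : orderOf a = 3 := orderOf_eq_prime ha3 ha1
  have hz : Nat.card (Subgroup.zpowers a) = 3 := by rw [Nat.card_zpowers, hord]
  have hle : Subgroup.zpowers a ≤ K := (Subgroup.zpowers_le).mpr haK
  by_contra hne
  have h3 : Nat.card K ≤ 3 := by
    have hm : Nat.card K ∈ Nat.divisors 9 := Nat.mem_divisors.mpr ⟨hK, by norm_num⟩
    have h9 : Nat.divisors 9 = {1, 3, 9} := by decide
    rw [h9] at hm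
    simp only [Finset.mem_insert, Finset.mem_singleton] at hm
    omega
  have := Subgroup.eq_of_le_of_card_ge hle (by rw [hz]; exact h3)
  exact hb (this ▸ hbK)

theorem exp_three [Finite G] (hG : Nat.card G = 9) {a b : G} (ha1 : a ≠ 1) (ha3 : a ^ 3 = 1)
    (hb3 : b ^ 3 = 1) (hb : b ∉ Subgroup.zpowers a) (x : G) : x ^ 3 = 1 := by
  have : Fact (Nat.Prime 3) := ⟨Nat.prime_three⟩
  have hcomm : ∀ x y : G, x * y = y * x :=
    have := IsPGroup.isMulCommutative_of_card_eq_prime_sq (p := 3) (G := G) (by rw [hG]; norm_num)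
    fun x y => mul_comm' x y
  let f : G →* G := MonoidHom.mk' (fun y => y ^ 3) (fun x y => (Commute.mul_pow (hcomm x y) 3))
  have hK := card_eq_nine f.ker (a := a) (b := b) ha3 hb3 ha1 ha3 hb
    (by rw [← hG]; exact Subgroup.card_subgroup_dvd_card _)
  have h1 : f.ker = ⊤ := Subgroup.eq_top_of_card_eq _ (hK.trans hG.symm)
  have hx : x ∈ f.ker := h1 ▸ Subgroup.mem_top x
  exact hx

theorem main_abstract [Finite G] (H : Subgroup G) [H.Normal] (hH : Nat.card H ∣ 18)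
    {a b : G} (haH : a ∈ H) (hbH : b ∈ H) (ha1 : a ≠ 1) (ha3 : a ^ 3 = 1) (hb3 : b ^ 3 = 1)
    (hb : b ∉ Subgroup.zpowers a) :
    ∃ (N : Subgroup G) (_ : N.Normal), Nat.card N = 9 ∧ (∀ x ∈ N, x ^ 3 = 1) := by
  have : Fact (Nat.Prime 3) := ⟨Nat.prime_three⟩
  obtain P : Sylow 3 H := default
  have hidx : (P : Subgroup H).index ∣ 2 := by
    have h1 : (P : Subgroup H).index ∣ Nat.card H := Subgroup.index_dvd_card _
    have h2 : Nat.Coprime (P : Subgroup H).index 3 :=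
      (Nat.Coprime.symm ((Nat.Prime.coprime_iff_not_dvd Nat.prime_three).mpr P.not_dvd_index))
    have h3 : (P : Subgroup H).index ∣ 2 * 9 := dvd_trans h1 hH
    have h4 : Nat.Coprime (P : Subgroup H).index 9 := by
      have := h2.pow_right 2
      simpa using this
    exact h4.dvd_of_dvd_mul_right h3
  have hPn : (P : Subgroup H).Normal := by
    have h2 : (P : Subgroup H).index ≤ 2 := Nat.le_of_dvd (by norm_num) hidx
    have h0 : (P : Subgroup H).index ≠ 0 := Subgroup.index_ne_zero_of_finite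
    have : (P : Subgroup H).index = 1 ∨ (P : Subgroup H).index = 2 := by omega
    rcases this with h | h
    · rw [Subgroup.index_eq_one] at h; rw [h]; infer_instance
    · exact Subgroup.normal_of_index_eq_two h
  have hPc : (P : Subgroup H).Characteristic := P.characteristic_of_normal hPn
  have hN : ((P : Subgroup H).map H.subtype).Normal := ConjAct.normal_of_characteristic_of_normal
  have hmem : ∀ x : G, x ∈ H → x ^ 3 = 1 → x ∈ (P : Subgroup H).map H.subtype := by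
    intro x hx hx3
    have hp : IsPGroup 3 (Subgroup.zpowers (⟨x, hx⟩ : H)) := by
      rintro ⟨g, hg⟩
      refine ⟨1, ?_⟩
      obtain ⟨m, rfl⟩ := Subgroup.mem_zpowers_iff.mp hg
      apply Subtype.ext
      apply Subtype.ext
      simp only [pow_one, Subgroup.coe_pow, Subgroup.coe_zpow, Subgroup.coe_one]
      rw [← zpow_natCast, ← zpow_mul, mul_comm, zpow_mul, zpow_natCast, hx3, one_zpow]
    obtain ⟨Q, hQ⟩ := hp.exists_le_sylow
    have := P.unique_of_normal hPn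
    have hQP : Q = P := Subsingleton.elim _ _
    refine ⟨⟨x, hx⟩, ?_, rfl⟩
    rw [← hQP]; exact hQ (Subgroup.mem_zpowers _)
  have hcardN : Nat.card ((P : Subgroup H).map H.subtype) = Nat.card P :=
    Subgroup.card_map_of_injective H.subtype_injective
  have hdvd9 : Nat.card ((P : Subgroup H).map H.subtype) ∣ 9 := by
    rw [hcardN]
    obtain ⟨k, hk⟩ := IsPGroup.iff_card.mp P.isPGroup'
    have h1 : Nat.card P ∣ 2 * 9 := dvd_trans (Subgroup.card_subgroup_dvd_card _) hH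
    have h2 : Nat.Coprime (Nat.card P) 2 := by
      rw [hk]; apply Nat.Coprime.pow_left; decide
    exact h2.dvd_of_dvd_mul_left h1
  have h9 := card_eq_nine _ (hmem a haH ha3) (hmem b hbH hb3) ha1 ha3 hb hdvd9
  refine ⟨_, hN, h9, ?_⟩
  intro x hx
  have hfin : Finite ((P : Subgroup H).map H.subtype) := inferInstance
  have ha1' : (⟨a, hmem a haH ha3⟩ : (P : Subgroup H).map H.subtype) ≠ 1 := by
    intro h; exact ha1 (congrArg Subtype.val h)
  have ha3' : (⟨a, hmem a haH ha3⟩ : (P : Subgroup H).map H.subtype) ^ 3 = 1 :=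
    Subtype.ext ha3
  have hb3' : (⟨b, hmem b hbH hb3⟩ : (P : Subgroup H).map H.subtype) ^ 3 = 1 :=
    Subtype.ext hb3
  have hb' : (⟨b, hmem b hbH hb3⟩ : (P : Subgroup H).map H.subtype) ∉
      Subgroup.zpowers (⟨a, hmem a haH ha3⟩ : (P : Subgroup H).map H.subtype) := by
    intro h
    obtain ⟨k, hk⟩ := Subgroup.mem_zpowers_iff.mp h
    apply hb
    refine Subgroup.mem_zpowers_iff.mpr ⟨k, ?_⟩
    have := congrArg Subtype.val hk
    simpa using this
  have := exp_three h9 ha1' ha3' hb3' hb' ⟨x, hx⟩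
  exact congrArg Subtype.val this

theorem quot_equiv [Finite G] (hG : Nat.card G = 72) (N : Subgroup G) [N.Normal]
    (hN : Nat.card N = 9) (ψ : QuaternionGroup 2 →* G) (hψ : ψ (QuaternionGroup.a 2) ≠ 1) :
    Nonempty (G ⧸ N ≃* QuaternionGroup 2) := by
  let Ψ : QuaternionGroup 2 →* G ⧸ N := (QuotientGroup.mk' N).comp ψ
  have hcases : ∀ g : QuaternionGroup 2, g ≠ 1 →
      g = QuaternionGroup.a 2 ∨ g * g = QuaternionGroup.a 2 := by decide
  have hsq : (QuaternionGroup.a 2 : QuaternionGroup 2) * QuaternionGroup.a 2 = 1 := by decide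
  have hnot : ψ (QuaternionGroup.a 2) ∉ N := by
    intro hmem
    have h9 : (⟨ψ (QuaternionGroup.a 2), hmem⟩ : N) ^ 9 = 1 := by
      rw [← hN]; exact pow_card_eq_one'
    have h9' : ψ (QuaternionGroup.a 2) ^ 9 = 1 := congrArg Subtype.val h9
    have h2 : ψ (QuaternionGroup.a 2) * ψ (QuaternionGroup.a 2) = 1 := by
      rw [← map_mul, hsq, map_one]
    apply hψ
    rw [← h9', show 9 = 2 * 4 + 1 from rfl, pow_succ, pow_mul, pow_two, h2, one_pow, one_mul]
  have hinj : Function.Injective Ψ := by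
    rw [injective_iff_map_eq_one]
    intro g hg
    by_contra hne
    apply hnot
    rw [← QuotientGroup.eq_one_iff]
    rcases hcases g hne with h | h
    · rw [← h]; exact hg
    · rw [← h]
      have : Ψ (g * g) = 1 := by rw [map_mul, hg, one_mul]
      exact this
  have hcardQ : Nat.card (G ⧸ N) = 8 := by
    have := Subgroup.card_eq_card_quotient_mul_card_subgroup N
    rw [hG, hN] at this
    omega
  have hcard8 : Nat.card (QuaternionGroup 2) = 8 := by
    rw [Nat.card_eq_fintype_card, QuaternionGroup.card]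
  have hfinQ : Finite (G ⧸ N) := Nat.finite_of_card_ne_zero (by rw [hcardQ]; norm_num)
  have hbij : Function.Bijective Ψ :=
    hinj.bijective_of_nat_card_le (by rw [hcardQ, hcard8])
  exact ⟨(MulEquiv.ofBijective Ψ hbij).symm⟩

end abstractPart

section field
variable {F : Type*} [Field F] [Fintype F]

theorem exists_omega (hF : Fintype.card F = 4) :
    ∃ w : F, w ≠ 0 ∧ w ≠ 1 ∧ w ^ 2 = w + 1 := by
  classical
  have : ∃ w : F, w ∉ ({0, 1} : Finset F) := by
    by_contra h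
    push Not at h
    have h1 : (Finset.univ : Finset F) ⊆ {0, 1} := fun x _ => h x
    have h3 := Finset.card_le_card h1
    rw [Finset.card_univ, hF] at h3
    have h2 : ({0, 1} : Finset F).card ≤ 2 := Finset.card_le_two
    omega
  obtain ⟨w, hw⟩ := this
  simp only [Finset.mem_insert, Finset.mem_singleton, not_or] at hw
  refine ⟨w, hw.1, hw.2, ?_⟩
  have h3 := S5908.cube_eq_one hF w hw.1
  have h4 : (w - 1) * (w ^ 2 + w + 1) = 0 := by linear_combination h3
  rcases mul_eq_zero.mp h4 with h5 | h5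
  · exact absurd (sub_eq_zero.mp h5) hw.2
  · have h6 := S5908.add_self hF (w + 1)
    linear_combination h5 - h6

theorem charP_two (hF : Fintype.card F = 4) : CharP F 2 :=
  CharTwo.of_one_ne_zero_of_two_eq_zero one_ne_zero (S5908.two_eq_zero hF)

def T1m : Matrix (Fin 3) (Fin 3) F := !![0, 1, 0; 1, 0, 0; 0, 0, 1]
def T2m : Matrix (Fin 3) (Fin 3) F := !![1, 0, 0; 0, 0, 1; 0, 1, 0]
def T3m (w : F) : Matrix (Fin 3) (Fin 3) F := !![0, w, 0; w ^ 2, 0, 0; 0, 0, 1]
def Fm (w : F) : Matrix (Fin 3) (Fin 3) F := !![1, 1, 1; 1, w, w ^ 2; 1, w ^ 2, w]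
def Vm (w : F) : Matrix (Fin 3) (Fin 3) F := !![1, w ^ 2, w ^ 2; w, w, w ^ 2; w, w ^ 2, w]

def mkSU (hF : Fintype.card F = 4) (M : Matrix (Fin 3) (Fin 3) F) (hdet : M.det = 1)
    (hU : Mᵀ * M.map (· ^ 2) = 1) : SU 3 F 2 :=
  Cfsg.Agent.Lib.Helper5.SUofPreserves M hdet
    ((Cfsg.Agent.Lib.Helper5.preserves_iff_matrix (q := 2) (by rw [hF]; norm_num) M).mpr hU)

theorem mkSU_coe (hF : Fintype.card F = 4) (M : Matrix (Fin 3) (Fin 3) F) (hdet : M.det = 1)
    (hU : Mᵀ * M.map (· ^ 2) = 1) : (mkSU hF M hdet hU).1.1 = M := rfl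

theorem T1m_det (hF : Fintype.card F = 4) : (T1m : Matrix (Fin 3) (Fin 3) F).det = 1 := by
  have := charP_two hF
  rw [Matrix.det_fin_three]
  simp [T1m]
  grind

theorem T1m_unit (hF : Fintype.card F = 4) :
    (T1m : Matrix (Fin 3) (Fin 3) F)ᵀ * (T1m : Matrix (Fin 3) (Fin 3) F).map (· ^ 2) = 1 := by
  have := charP_two hF
  ext i j
  fin_cases i <;> fin_cases j <;>
    simp [T1m, Matrix.mul_apply, Fin.sum_univ_three]

theorem T2m_det (hF : Fintype.card F = 4) : (T2m : Matrix (Fin 3) (Fin 3) F).det = 1 := by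
  have := charP_two hF
  rw [Matrix.det_fin_three]
  simp [T2m]
  grind

theorem T2m_unit (hF : Fintype.card F = 4) :
    (T2m : Matrix (Fin 3) (Fin 3) F)ᵀ * (T2m : Matrix (Fin 3) (Fin 3) F).map (· ^ 2) = 1 := by
  have := charP_two hF
  ext i j
  fin_cases i <;> fin_cases j <;>
    simp [T2m, Matrix.mul_apply, Fin.sum_univ_three]

theorem T3m_det (hF : Fintype.card F = 4) (w : F) (hw : w ^ 2 = w + 1) : (T3m w).det = 1 := by
  have := charP_two hF
  rw [Matrix.det_fin_three]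
  simp [T3m]
  grind

theorem T3m_unit (hF : Fintype.card F = 4) (w : F) (hw : w ^ 2 = w + 1) :
    (T3m w)ᵀ * (T3m w).map (· ^ 2) = 1 := by
  have := charP_two hF
  ext i j
  fin_cases i <;> fin_cases j <;>
    simp [T3m, Matrix.mul_apply, Fin.sum_univ_three] <;> grind

theorem Fm_det (hF : Fintype.card F = 4) (w : F) (hw : w ^ 2 = w + 1) : (Fm w).det = 1 := by
  have := charP_two hF
  rw [Matrix.det_fin_three]
  simp [Fm]
  grind

theorem Fm_unit (hF : Fintype.card F = 4) (w : F) (hw : w ^ 2 = w + 1) :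
    (Fm w)ᵀ * (Fm w).map (· ^ 2) = 1 := by
  have := charP_two hF
  ext i j
  fin_cases i <;> fin_cases j <;>
    simp [Fm, Matrix.mul_apply, Fin.sum_univ_three] <;> grind

theorem Vm_det (hF : Fintype.card F = 4) (w : F) (hw : w ^ 2 = w + 1) : (Vm w).det = 1 := by
  have := charP_two hF
  rw [Matrix.det_fin_three]
  simp [Vm]
  grind

theorem Vm_unit (hF : Fintype.card F = 4) (w : F) (hw : w ^ 2 = w + 1) :
    (Vm w)ᵀ * (Vm w).map (· ^ 2) = 1 := by
  have := charP_two hF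
  ext i j
  fin_cases i <;> fin_cases j <;>
    simp [Vm, Matrix.mul_apply, Fin.sum_univ_three] <;> grind


section elems
variable (hF : Fintype.card F = 4) (w : F) (hw : w ^ 2 = w + 1)

def sT1 : SU 3 F 2 := mkSU hF T1m (T1m_det hF) (T1m_unit hF)
def sT2 : SU 3 F 2 := mkSU hF T2m (T2m_det hF) (T2m_unit hF)
def sT3 : SU 3 F 2 := mkSU hF (T3m w) (T3m_det hF w hw) (T3m_unit hF w hw)
def sF : SU 3 F 2 := mkSU hF (Fm w) (Fm_det hF w hw) (Fm_unit hF w hw)
def sV : SU 3 F 2 := mkSU hF (Vm w) (Vm_det hF w hw) (Vm_unit hF w hw)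

theorem su_ext {a b : SU 3 F 2} (h : a.1.1 = b.1.1) : a = b :=
  Subtype.ext (Subtype.ext h)

theorem sT1_sq : sT1 hF * sT1 hF = 1 := by
  have := charP_two hF
  apply su_ext
  change (T1m : Matrix (Fin 3) (Fin 3) F) * T1m = 1
  ext i j
  fin_cases i <;> fin_cases j <;>
    simp [T1m, Matrix.mul_apply, Fin.sum_univ_three]

theorem sT2_sq : sT2 hF * sT2 hF = 1 := by
  have := charP_two hF
  apply su_ext
  change (T2m : Matrix (Fin 3) (Fin 3) F) * T2m = 1
  ext i j
  fin_cases i <;> fin_cases j <;>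
    simp [T2m, Matrix.mul_apply, Fin.sum_univ_three]

theorem sT3_sq : sT3 hF w hw * sT3 hF w hw = 1 := by
  have := charP_two hF
  apply su_ext
  change T3m w * T3m w = 1
  ext i j
  fin_cases i <;> fin_cases j <;>
    simp [T3m, Matrix.mul_apply, Fin.sum_univ_three] <;> grind

theorem sF_sq : sF hF w hw * sF hF w hw = sT2 hF := by
  have := charP_two hF
  apply su_ext
  change Fm w * Fm w = T2m
  ext i j
  fin_cases i <;> fin_cases j <;>
    simp [Fm, T2m, Matrix.mul_apply, Fin.sum_univ_three] <;> grind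

theorem sV_sq : sV hF w hw * sV hF w hw = sT2 hF := by
  have := charP_two hF
  apply su_ext
  change Vm w * Vm w = T2m
  ext i j
  fin_cases i <;> fin_cases j <;>
    simp [Vm, T2m, Matrix.mul_apply, Fin.sum_univ_three] <;> grind

theorem sFVF : sF hF w hw * sV hF w hw * sF hF w hw = sV hF w hw := by
  have := charP_two hF
  apply su_ext
  change Fm w * Vm w * Fm w = Vm w
  ext i j
  fin_cases i <;> fin_cases j <;>
    simp [Fm, Vm, Matrix.mul_apply, Fin.sum_univ_three] <;> grind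

theorem sC_cube : (sT1 hF * sT2 hF) ^ 3 = 1 := by
  have := charP_two hF
  rw [pow_succ, pow_two]
  apply su_ext
  change ((T1m : Matrix (Fin 3) (Fin 3) F) * T2m) * (T1m * T2m) * (T1m * T2m) = 1
  ext i j
  fin_cases i <;> fin_cases j <;>
    simp [T1m, T2m, Matrix.mul_apply, Fin.sum_univ_three]

theorem sD_cube : (sT1 hF * sT3 hF w hw) ^ 3 = 1 := by
  have := charP_two hF
  rw [pow_succ, pow_two]
  apply su_ext
  change ((T1m : Matrix (Fin 3) (Fin 3) F) * T3m w) * (T1m * T3m w) * (T1m * T3m w) = 1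
  ext i j
  fin_cases i <;> fin_cases j <;>
    simp [T1m, T3m, Matrix.mul_apply, Fin.sum_univ_three] <;> grind


include hF in
theorem not_center_of_entry (z : SU 3 F 2) (i j : Fin 3) (hij : i ≠ j) (h : z.1.1 i j ≠ 0) :
    z ∉ Subgroup.center (SU 3 F 2) := fun hz =>
  h (Cfsg.Agent.Lib.Helper5.center_entries (q := 2) (by rw [hF]; norm_num) z hz i j hij).1

include hF in
theorem not_center_of_diag (z : SU 3 F 2) (i j : Fin 3) (hij : i ≠ j)
    (h : z.1.1 i i ≠ z.1.1 j j) : z ∉ Subgroup.center (SU 3 F 2) := fun hz =>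
  h (Cfsg.Agent.Lib.Helper5.center_entries (q := 2) (by rw [hF]; norm_num) z hz i j hij).2

theorem n1 : sT2 hF ∉ Subgroup.center (SU 3 F 2) := by
  apply not_center_of_entry hF _ 1 2 (by decide)
  change (T2m : Matrix (Fin 3) (Fin 3) F) 1 2 ≠ 0
  simp [T2m]

theorem n2 : sT1 hF * sT2 hF ∉ Subgroup.center (SU 3 F 2) := by
  apply not_center_of_entry hF _ 0 2 (by decide)
  change (T1m * T2m : Matrix (Fin 3) (Fin 3) F) 0 2 ≠ 0
  simp [T1m, T2m, Matrix.mul_apply, Fin.sum_univ_three]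

theorem n3 (hw0 : w ≠ 0) : sT1 hF * sT3 hF w hw ∉ Subgroup.center (SU 3 F 2) := by
  apply not_center_of_diag hF _ 0 2 (by decide)
  change (T1m * T3m w : Matrix (Fin 3) (Fin 3) F) 0 0 ≠ (T1m * T3m w : Matrix (Fin 3) (Fin 3) F) 2 2
  have e00 : (T1m * T3m w : Matrix (Fin 3) (Fin 3) F) 0 0 = w ^ 2 := by
    simp [T1m, T3m, Matrix.mul_apply, Fin.sum_univ_three]
  have e22 : (T1m * T3m w : Matrix (Fin 3) (Fin 3) F) 2 2 = 1 := by
    simp [T1m, T3m, Matrix.mul_apply, Fin.sum_univ_three]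
  rw [e00, e22, hw]
  intro h
  apply hw0
  linear_combination h

theorem n4 (hw0 : w ≠ 0) : sT3 hF w hw * sT2 hF ∉ Subgroup.center (SU 3 F 2) := by
  apply not_center_of_entry hF _ 0 2 (by decide)
  change (T3m w * T2m : Matrix (Fin 3) (Fin 3) F) 0 2 ≠ 0
  simp [T2m, T3m, Matrix.mul_apply, Fin.sum_univ_three]
  exact hw0

theorem n5 (hw0 : w ≠ 0) :
    sT3 hF w hw * sT2 hF * sT1 hF * sT2 hF ∉ Subgroup.center (SU 3 F 2) := by
  apply not_center_of_entry hF _ 0 1 (by decide)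
  change (T3m w * T2m * T1m * T2m : Matrix (Fin 3) (Fin 3) F) 0 1 ≠ 0
  simp [T1m, T2m, T3m, Matrix.mul_apply, Fin.sum_univ_three]
  exact hw0

end elems

end field

section main
variable {F : Type*} [Field F] [Fintype F]

/-- U_3(2) ≅ 3².Q_8: PSU_3(2) (form over the field with 4 elements) has a normal subgroup N which is elementary abelian of order 9 such that the quotient by N is isomorphic to the quaternion group of order 8. -/
theorem result {F : Type*} [Field F] [Fintype F] (hF : Fintype.card F = 4) : ∃ (N : Subgroup (Cfsg.PSU 3 F 2)) (_ : N.Normal), Nat.card N = 9 ∧ (∀ x ∈ N, x ^ 3 = 1) ∧ Nonempty (Cfsg.PSU 3 F 2 ⧸ N ≃* QuaternionGroup 2) := by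
  obtain ⟨w, hw0, hw1, hw⟩ := exists_omega hF
  have hcard := S5908.card_PSU hF
  have hfin : Finite (Cfsg.PSU 3 F 2) := Nat.finite_of_card_ne_zero (by rw [hcard]; norm_num)
  have hH2 : Subgroup.normalClosure {g : Cfsg.PSU 3 F 2 | g ^ 2 = 1} ≤
      (S5908.Mon F).map (QuotientGroup.mk' (Subgroup.center (SU 3 F 2))) := by
    rw [Subgroup.normalClosure]
    apply (Subgroup.closure_le _).mpr
    intro a ha
    obtain ⟨b, hb, hab⟩ := Group.mem_conjugatesOfSet_iff.mp ha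
    obtain ⟨c, rfl⟩ := isConj_iff.mp hab
    apply S5908.invol_mem hF
    have hb2 : b ^ 2 = 1 := hb
    rw [conj_pow, hb2, mul_one, mul_inv_cancel]
  have hH18 : Nat.card (Subgroup.normalClosure {g : Cfsg.PSU 3 F 2 | g ^ 2 = 1}) ∣ 18 := by
    obtain ⟨n, m, hnm, hm⟩ := S5908.card_Mon hF
    have hdvd : Nat.card (Subgroup.normalClosure {g : Cfsg.PSU 3 F 2 | g ^ 2 = 1}) ∣
        Nat.card (S5908.Mon F) :=
      dvd_trans (Subgroup.card_dvd_of_le hH2) (Subgroup.card_map_dvd (S5908.Mon F) _)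
    rw [hnm] at hdvd
    have h72 : Nat.card (Subgroup.normalClosure {g : Cfsg.PSU 3 F 2 | g ^ 2 = 1}) ∣ 72 :=
      hcard ▸ Subgroup.card_subgroup_dvd_card _
    have h4 : ¬ 4 ∣ Nat.card (Subgroup.normalClosure {g : Cfsg.PSU 3 F 2 | g ^ 2 = 1}) := by
      intro h4
      have h4' : 4 ∣ 3 ^ n * m := dvd_trans h4 hdvd
      have hc : Nat.Coprime 4 (3 ^ n) := by apply Nat.Coprime.pow_right; decide
      have h5 := hc.dvd_of_dvd_mul_left h4'
      have : 4 ∣ 6 := dvd_trans h5 hm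
      omega
    have key : ∀ d, d ≤ 72 → d ∣ 72 → ¬ 4 ∣ d → d ∣ 18 := by decide
    exact key _ (Nat.le_of_dvd (by norm_num) h72) h72 h4
  have hinv : ∀ s : SU 3 F 2, s * s = 1 →
      ((s : SU 3 F 2) : Cfsg.PSU 3 F 2) ∈
        Subgroup.normalClosure {g : Cfsg.PSU 3 F 2 | g ^ 2 = 1} := by
    intro s hs
    apply Subgroup.subset_normalClosure
    show ((s : SU 3 F 2) : Cfsg.PSU 3 F 2) ^ 2 = 1
    rw [← QuotientGroup.mk_pow, pow_two, hs, QuotientGroup.mk_one]
  have inv2 : (sT2 hF)⁻¹ = sT2 hF := inv_eq_of_mul_eq_one_right (sT2_sq hF)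
  have inv1 : (sT1 hF)⁻¹ = sT1 hF := inv_eq_of_mul_eq_one_right (sT1_sq hF)
  have inv3 : (sT3 hF w hw)⁻¹ = sT3 hF w hw := inv_eq_of_mul_eq_one_right (sT3_sq hF w hw)
  have haH : ((sT1 hF * sT2 hF : SU 3 F 2) : Cfsg.PSU 3 F 2) ∈
      Subgroup.normalClosure {g : Cfsg.PSU 3 F 2 | g ^ 2 = 1} := by
    rw [QuotientGroup.mk_mul]
    exact Subgroup.mul_mem _ (hinv _ (sT1_sq hF)) (hinv _ (sT2_sq hF))
  have hbH : ((sT1 hF * sT3 hF w hw : SU 3 F 2) : Cfsg.PSU 3 F 2) ∈
      Subgroup.normalClosure {g : Cfsg.PSU 3 F 2 | g ^ 2 = 1} := by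
    rw [QuotientGroup.mk_mul]
    exact Subgroup.mul_mem _ (hinv _ (sT1_sq hF)) (hinv _ (sT3_sq hF w hw))
  have ha1 : ((sT1 hF * sT2 hF : SU 3 F 2) : Cfsg.PSU 3 F 2) ≠ 1 := by
    intro h
    exact n2 hF ((QuotientGroup.eq_one_iff _).mp h)
  have ha3 : ((sT1 hF * sT2 hF : SU 3 F 2) : Cfsg.PSU 3 F 2) ^ 3 = 1 := by
    rw [← QuotientGroup.mk_pow, sC_cube, QuotientGroup.mk_one]
  have hb3 : ((sT1 hF * sT3 hF w hw : SU 3 F 2) : Cfsg.PSU 3 F 2) ^ 3 = 1 := by
    rw [← QuotientGroup.mk_pow, sD_cube, QuotientGroup.mk_one]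
  have hb : ((sT1 hF * sT3 hF w hw : SU 3 F 2) : Cfsg.PSU 3 F 2) ∉
      Subgroup.zpowers ((sT1 hF * sT2 hF : SU 3 F 2) : Cfsg.PSU 3 F 2) := by
    intro h
    rcases mem_zpowers_cases ha3 h with h | h | h
    · exact n3 hF w hw hw0 ((QuotientGroup.eq_one_iff _).mp h)
    · have h' := QuotientGroup.eq.mp h
      have e : (sT1 hF * sT3 hF w hw)⁻¹ * (sT1 hF * sT2 hF) = sT3 hF w hw * sT2 hF := by
        calc (sT1 hF * sT3 hF w hw)⁻¹ * (sT1 hF * sT2 hF)
            = (sT3 hF w hw)⁻¹ * sT2 hF := by group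
          _ = sT3 hF w hw * sT2 hF := by rw [inv3]
      rw [e] at h'
      exact n4 hF w hw hw0 h'
    · rw [← QuotientGroup.mk_pow] at h
      have h' := QuotientGroup.eq.mp h
      have e : (sT1 hF * sT3 hF w hw)⁻¹ * (sT1 hF * sT2 hF) ^ 2 =
          sT3 hF w hw * sT2 hF * sT1 hF * sT2 hF := by
        calc (sT1 hF * sT3 hF w hw)⁻¹ * (sT1 hF * sT2 hF) ^ 2
            = (sT3 hF w hw)⁻¹ * sT2 hF * sT1 hF * sT2 hF := by rw [pow_two]; group
          _ = sT3 hF w hw * sT2 hF * sT1 hF * sT2 hF := by rw [inv3]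
      rw [e] at h'
      exact n5 hF w hw hw0 h'
  obtain ⟨N, hNn, hN9, hNexp⟩ :=
    main_abstract (Subgroup.normalClosure {g : Cfsg.PSU 3 F 2 | g ^ 2 = 1}) hH18 haH hbH ha1 ha3
      hb3 hb
  refine ⟨N, hNn, hN9, hNexp, ?_⟩
  have hα : (sF hF w hw) ^ (2 * 2) = 1 := by
    rw [pow_mul, pow_two, pow_two, sF_sq, sT2_sq]
  have hβ2 : sV hF w hw * sV hF w hw = (sF hF w hw) ^ 2 := by
    rw [pow_two, sF_sq, sV_sq]
  have hconj : sV hF w hw * sF hF w hw * (sV hF w hw)⁻¹ = (sF hF w hw)⁻¹ := by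
    apply eq_inv_of_mul_eq_one_right
    rw [← mul_assoc, ← mul_assoc, sFVF, mul_inv_cancel]
  let ψ : QuaternionGroup 2 →* Cfsg.PSU 3 F 2 :=
    (QuotientGroup.mk' (Subgroup.center (SU 3 F 2))).comp
      (Cfsg.Agent.Lib.Helper53.quatLift hα hβ2 hconj)
  have hψ : ψ (QuaternionGroup.a 2) ≠ 1 := by
    intro h
    have h1 : ψ (QuaternionGroup.a 2) =
        (((sF hF w hw) ^ 2 : SU 3 F 2) : Cfsg.PSU 3 F 2) := rfl
    rw [h1, pow_two, sF_sq] at h
    exact n1 hF ((QuotientGroup.eq_one_iff _).mp h)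
  exact quot_equiv hcard N hN9 ψ hψ

end main

end Cfsg.Agent.S0827
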