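import Cfsg.Statements.S5555
-- import your own Cfsg.Agent.* helpers here
import Cfsg.Agent.S0215
import Cfsg.Agent.S0827
import Cfsg.Agent.S0282
import Cfsg.Agent.S5349
import Cfsg.Agent.Lib.Helper5.UnitaryCenter
import Cfsg.Agent.Lib.Helper90.Klein
import Cfsg.Agent.Lib.Helper89.TTSylow

set_option autoImplicit false
open Cfsg

namespace Cfsg.Agent.S5555

set_option linter.style.haveILetI false
open Cfsg.Agent.Lib.Helper89.TTSylowGen Cfsg.Agent.Lib.Helper89.TTSylow
open scoped commutatorElement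

theorem q8_center_card : Nat.card (Subgroup.center (QuaternionGroup 2)) = 2 := by
  rw [Nat.card_eq_fintype_card]
  decide

theorem card_SU3 {F : Type*} [Field F] [Fintype F] (hF : Fintype.card F = 4) :
    Nat.card (Cfsg.SU 3 F 2) = 216 := by
  have hF' : Fintype.card F = 2 ^ 2 := by rw [hF]; norm_num
  have h1 := Subgroup.card_eq_card_quotient_mul_card_subgroup (Subgroup.center (Cfsg.SU 3 F 2))
  rw [Cfsg.Agent.Lib.Helper5.card_center_SU hF' (by omega : 1 ≤ 3)] at h1
  have h2 : Nat.card (↥(Cfsg.SU 3 F 2) ⧸ Subgroup.center ↥(Cfsg.SU 3 F 2)) = 72 :=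
    (Cfsg.Agent.S0282.result hF).1
  rw [h2] at h1
  rw [h1]
  norm_num

theorem comm_card_dvd {F : Type*} [Field F] [Fintype F] (hF : Fintype.card F = 4) :
    Nat.card (commutator (Cfsg.SU 3 F 2)) ∣ 54 := by
  classical
  obtain ⟨N, hNn, -, -, ⟨e⟩⟩ := Cfsg.Agent.S0827.result hF
  haveI := hNn
  haveI : Finite (Cfsg.SU 3 F 2) := Nat.finite_of_card_ne_zero (by rw [card_SU3 hF]; norm_num)
  let ψ : Cfsg.SU 3 F 2 →* (QuaternionGroup 2 ⧸ Subgroup.center (QuaternionGroup 2)) :=
    (QuotientGroup.mk' (Subgroup.center (QuaternionGroup 2))).comp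
      (e.toMonoidHom.comp ((QuotientGroup.mk' N).comp
        (QuotientGroup.mk' (Subgroup.center (Cfsg.SU 3 F 2)))))
  have hψ : Function.Surjective ψ := by
    apply (QuotientGroup.mk'_surjective _).comp
    apply e.surjective.comp
    apply (QuotientGroup.mk'_surjective _).comp
    exact QuotientGroup.mk'_surjective _
  have hcardT : Nat.card (QuaternionGroup 2 ⧸ Subgroup.center (QuaternionGroup 2)) = 4 := by
    have h := Subgroup.card_eq_card_quotient_mul_card_subgroup (Subgroup.center (QuaternionGroup 2))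
    rw [q8_center_card, Nat.card_eq_fintype_card, QuaternionGroup.card] at h
    omega
  have hcomm : ∀ a b : QuaternionGroup 2 ⧸ Subgroup.center (QuaternionGroup 2), a * b = b * a := by
    haveI : Fact (Nat.Prime 2) := ⟨Nat.prime_two⟩
    exact IsPGroup.commutative_of_card_eq_prime_sq (p := 2) (by rw [hcardT]; norm_num)
  have hle : commutator (Cfsg.SU 3 F 2) ≤ ψ.ker := by
    rw [commutator_eq_closure, Subgroup.closure_le]
    rintro _ ⟨a, b, rfl⟩
    have h1 : ψ ⁅a, b⁆ = ψ a * ψ b * (ψ a)⁻¹ * (ψ b)⁻¹ := by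
      rw [commutatorElement_def]; simp only [map_mul, map_inv]
    rw [SetLike.mem_coe, MonoidHom.mem_ker, h1, hcomm (ψ a) (ψ b)]
    group
  have hker : Nat.card ψ.ker = 54 := by
    have h := Subgroup.card_eq_card_quotient_mul_card_subgroup ψ.ker
    have h2 : Nat.card (Cfsg.SU 3 F 2 ⧸ ψ.ker) = 4 := by
      rw [Nat.card_congr (QuotientGroup.quotientKerEquivOfSurjective ψ hψ).toEquiv, hcardT]
    rw [card_SU3 hF, h2] at h
    omega
  rw [← hker]
  exact Subgroup.card_dvd_of_le hle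

/-- in a finite group whose order is not divisible by `4`, commuting involutions are equal -/
theorem eq_of_commute_invol {H : Type*} [Group H] [Finite H] (h4 : ¬ 4 ∣ Nat.card H) {x y : H}
    (hx : x * x = 1) (hy : y * y = 1) (hx1 : x ≠ 1) (hy1 : y ≠ 1) (hxy : x * y = y * x) : x = y := by
  by_contra hne
  haveI : Fact (Nat.Prime 2) := ⟨Nat.prime_two⟩
  have hK : IsPGroup 2 (Cfsg.Agent.Lib.Helper90.kleinFour x y hx hy hxy) := by
    rintro ⟨g, hg⟩
    refine ⟨1, ?_⟩
    apply Subtype.ext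
    have e6 : x * y * (x * y) = 1 := by
      calc x * y * (x * y) = x * (y * x) * y := by simp only [mul_assoc]
        _ = x * (x * y) * y := by rw [hxy]
        _ = (x * x) * (y * y) := by simp only [mul_assoc]
        _ = 1 := by rw [hx, hy, one_mul]
    rw [Cfsg.Agent.Lib.Helper90.mem_kleinFour] at hg
    rcases hg with rfl | rfl | rfl | rfl <;> simp [pow_two, hx, hy, e6]
  obtain ⟨S, hS⟩ := hK.exists_le_sylow
  obtain ⟨k, hk⟩ := IsPGroup.iff_card.mp S.2
  have hdvd : Nat.card S ∣ Nat.card H := Subgroup.card_subgroup_dvd_card _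
  have hk1 : k ≤ 1 := by
    by_contra hk2
    push Not at hk2
    apply h4
    refine dvd_trans ?_ hdvd
    rw [hk]
    exact pow_dvd_pow 2 hk2
  have hle2 : Nat.card S ≤ 2 := by
    rw [hk]
    calc 2 ^ k ≤ 2 ^ 1 := Nat.pow_le_pow_right (by norm_num) hk1
      _ = 2 := by norm_num
  have hm1 : (1 : H) ∈ (S : Subgroup H) := Subgroup.one_mem _
  have hmx : x ∈ (S : Subgroup H) := hS ((Cfsg.Agent.Lib.Helper90.mem_kleinFour x y hx hy hxy x).mpr (Or.inr (Or.inl rfl)))
  have hmy : y ∈ (S : Subgroup H) := hS ((Cfsg.Agent.Lib.Helper90.mem_kleinFour x y hx hy hxy y).mpr (Or.inr (Or.inr (Or.inl rfl))))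
  have hinj : Function.Injective (fun i : Fin 3 => (![⟨1, hm1⟩, ⟨x, hmx⟩, ⟨y, hmy⟩] i : (S : Subgroup H))) := by
    intro i j hij
    fin_cases i <;> fin_cases j <;> simp_all [Subtype.ext_iff]
  have := Nat.card_le_card_of_injective _ hinj
  rw [Nat.card_fin] at this
  omega

theorem exists_not_commute {G : Type*} [Group G] {D : Set G}
    (hD : Cfsg.IsThreeTranspositionClass D) (hD2 : ∃ a ∈ D, ∃ b ∈ D, a ≠ b) {d : G} (hd : d ∈ D) :
    ∃ e ∈ D, ¬ Commute d e := by
  by_contra hcon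
  push Not at hcon
  obtain ⟨a, ha, b, hb, hab⟩ := hD2
  have hle : Subgroup.closure D ≤ Subgroup.centralizer {d} := by
    rw [Subgroup.closure_le]
    intro e he
    rw [SetLike.mem_coe, Subgroup.mem_centralizer_iff]
    intro h hh
    rw [Set.mem_singleton_iff] at hh
    rw [hh]; exact (hcon e he).eq
  rw [hD.2.2] at hle
  have hcenter : ∀ x : G, x * d * x⁻¹ = d := by
    intro x
    have h1 := Subgroup.mem_centralizer_iff.mp (hle (Subgroup.mem_top x)) d rfl
    rw [← h1, mul_inv_cancel_right]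
  obtain ⟨g1, h1⟩ := exists_conj_of_mem hD hd ha
  obtain ⟨g2, h2⟩ := exists_conj_of_mem hD hd hb
  apply hab; rw [← h1, ← h2, hcenter, hcenter]

theorem not_mem_two_group {G : Type*} [Group G] {D : Set G}
    (hD : Cfsg.IsThreeTranspositionClass D) (Q : Subgroup G) [Q.Normal] (hQ2 : IsPGroup 2 Q)
    {d e : G} (hd : d ∈ D) (he : e ∈ D) (hde : ¬ Commute d e) : ∀ a ∈ D, a ∉ Q := by
  intro a ha haQ
  have hT := hD.1
  obtain ⟨g, hg⟩ := exists_conj_of_mem hD ha hd
  have hdQ : d ∈ Q := by rw [← hg]; exact Subgroup.Normal.conj_mem inferInstance a haQ g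
  have h1 : e * d * e⁻¹ ∈ Q := Subgroup.Normal.conj_mem inferInstance d hdQ e
  have h2 : (d * e) ^ 2 ∈ Q := by
    have : (d * e) ^ 2 = d * (e * d * e⁻¹) := by
      rw [tt_inv hT he, pow_two]; simp only [mul_assoc]
    rw [this]; exact Q.mul_mem hdQ h1
  have h3 : ((d * e) ^ 2) ^ 3 = 1 := by
    rw [← pow_mul, mul_comm, pow_mul, tt_cube hT hd he hde, one_pow]
  have h4 := eq_one_of_cube_of_mem_two_group hQ2 h2 h3
  exact hde (comm_of_sq (tt_sq hT hd) (tt_sq hT he) h4)


/-- Let G be a finite group generated by a conjugacy class D of 3-transpositions, with trivial centre and with generalized Fitting subgroup F*(G) = O₂(G) (so the Fitting subgroup is O₂(G) too). If G/O₂(G) is isomorphic to the derived group of SU₃(2) (the group of order 54 generated by nine 3-transpositions), then O₂(G) has a complement in G. -/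
theorem result {G : Type*} [Group G] [Finite G] {D : Set G} (hD : Cfsg.IsThreeTranspositionClass D)
    (hZ : Subgroup.center G = ⊥) (hF : Cfsg.generalizedFittingSubgroup G = Cfsg.pCore 2 G)
    (hq : ∃ (F : Type) (_ : Field F) (_ : Fintype F), Fintype.card F = 4 ∧ Nonempty (G ⧸ Cfsg.pCore 2 G ≃* ↥(commutator ↥(Cfsg.SU 3 F 2)))) :
    ∃ K : Subgroup G, (Cfsg.pCore 2 G).IsComplement' K := by
  classical
  obtain ⟨F, _, _, hF4, ⟨e⟩⟩ := hq
  have hT := hD.1
  obtain ⟨d, hd, -⟩ := hD.2.1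
  have hD2 : ∃ a ∈ D, ∃ b ∈ D, a ≠ b := by
    by_contra hcon
    push Not at hcon
    have hle : Subgroup.closure D ≤ Subgroup.centralizer {d} := by
      rw [Subgroup.closure_le]
      intro x hx
      rw [hcon x hx d hd, SetLike.mem_coe, Subgroup.mem_centralizer_iff]
      intro h hh
      rw [Set.mem_singleton_iff] at hh
      rw [hh]
    rw [hD.2.2] at hle
    have hcen : d ∈ Subgroup.center G := by
      rw [Subgroup.mem_center_iff]
      intro g
      exact Subgroup.mem_centralizer_iff.mp (hle (Subgroup.mem_top g)) d rfl |>.symm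
    rw [hZ, Subgroup.mem_bot] at hcen
    exact tt_ne_one hT hd hcen
  obtain ⟨e₀, he₀, hde₀⟩ := exists_not_commute hD hD2 hd
  have hQ2 : IsPGroup 2 (Cfsg.pCore 2 G) := Cfsg.Agent.Lib.Helper90.pCore_isPGroup 2 G
  have hnot := not_mem_two_group hD (Cfsg.pCore 2 G) hQ2 hd he₀ hde₀
  have h4 : ¬ 4 ∣ Nat.card (G ⧸ Cfsg.pCore 2 G) := by
    rw [Nat.card_congr e.toEquiv]
    intro h4
    have := h4.trans (comm_card_dvd hF4)
    omega
  have hH : PerpHyp D := by
    intro a ha b hb hab c hc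
    have hπ : QuotientGroup.mk' (Cfsg.pCore 2 G) a = QuotientGroup.mk' (Cfsg.pCore 2 G) b := by
      apply eq_of_commute_invol h4
      · rw [← map_mul, tt_sq hT ha, map_one]
      · rw [← map_mul, tt_sq hT hb, map_one]
      · exact fun h => hnot a ha ((mk'_eq_one_iff _ a).mp h)
      · exact fun h => hnot b hb ((mk'_eq_one_iff _ b).mp h)
      · rw [← map_mul, ← map_mul, hab.eq]
    have hab' : a⁻¹ * b ∈ Cfsg.pCore 2 G := (mk'_eq_iff _ a b).mp hπ
    have h := (Cfsg.Agent.S5349.result hD hD2 ha).1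
    have hb' : b ∈ {v : G | v ∈ D ∧ a⁻¹ * v ∈ Cfsg.pCore 2 G} := ⟨hb, hab'⟩
    rw [← h] at hb'
    exact (hb'.2 c hc).symm
  have hV : {y : G | y ∈ D ∧ Commute d y} =
      {v : G | v ∈ D ∧ ∀ e ∈ D, Commute v e ↔ Commute d e} := by
    ext y
    constructor
    · rintro ⟨hy, hdy⟩
      exact ⟨hy, fun c hc => (hH d hd y hy hdy c hc).symm⟩
    · rintro ⟨hy, hyc⟩
      exact ⟨hy, ((hyc d hd).mpr (Commute.refl d)).symm⟩
  obtain ⟨P, hdN, hgen⟩ := sylow_three_of_perp
    (fun K _ _ P u hu huP hiso => Cfsg.Agent.S0215.result P u hu huP hiso) hD hD2 hd hV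
  refine ⟨Subgroup.zpowers d ⊔ (P : Subgroup G), ?_⟩
  have hle : Subgroup.zpowers d ≤ Subgroup.normalizer ((P : Subgroup G) : Set G) := by
    rw [Subgroup.zpowers_le]; exact hdN
  have hcoe := Subgroup.coe_mul_of_left_le_normalizer_right (Subgroup.zpowers d) (P : Subgroup G) hle
  have hdd := tt_sq hT hd
  have hdisj : Disjoint (Cfsg.pCore 2 G) (Subgroup.zpowers d ⊔ (P : Subgroup G)) := by
    rw [Subgroup.disjoint_def]
    intro x hxQ hxK
    have hxK' : x ∈ ((Subgroup.zpowers d ⊔ (P : Subgroup G) : Subgroup G) : Set G) := hxK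
    rw [hcoe] at hxK'
    obtain ⟨h, hh, p, hp, hx⟩ := Set.mem_mul.mp hxK'
    have hx' : h * p = x := hx
    subst hx'
    obtain ⟨i, rfl⟩ := Subgroup.mem_zpowers_iff.mp hh
    have hp' : p ∈ (P : Subgroup G) := hp
    rcases Int.even_or_odd i with ⟨j, rfl⟩ | ⟨j, rfl⟩
    · have hdj : d ^ (j + j) = 1 := by
        rw [zpow_add, ← (Commute.refl d).mul_zpow, hdd, one_zpow]
      rw [hdj, one_mul] at hxQ ⊢
      have hdis := IsPGroup.disjoint_of_ne 2 3 (by norm_num) (Cfsg.pCore 2 G) (P : Subgroup G) hQ2 P.2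
      exact (Subgroup.disjoint_def.mp hdis) hxQ hp'
    · exfalso
      have hdj : d ^ (2 * j + 1) = d := by
        rw [zpow_add, zpow_one, two_mul, zpow_add, ← (Commute.refl d).mul_zpow, hdd, one_zpow,
          one_mul]
      rw [hdj] at hxQ
      obtain ⟨k, hk⟩ := P.2 ⟨p, hp'⟩
      have hk' : p ^ 3 ^ k = 1 := by
        have := congrArg Subtype.val hk
        simpa using this
      have h1 : QuotientGroup.mk' (Cfsg.pCore 2 G) d * QuotientGroup.mk' (Cfsg.pCore 2 G) p = 1 := by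
        rw [← map_mul]; exact (mk'_eq_one_iff _ _).mpr hxQ
      have h2 : QuotientGroup.mk' (Cfsg.pCore 2 G) d = (QuotientGroup.mk' (Cfsg.pCore 2 G) p)⁻¹ :=
        eq_inv_of_mul_eq_one_left h1
      have h3 : (QuotientGroup.mk' (Cfsg.pCore 2 G) d) ^ 3 ^ k = 1 := by
        rw [h2, inv_pow, ← map_pow, hk', map_one, inv_one]
      have h5 : (QuotientGroup.mk' (Cfsg.pCore 2 G) d) ^ 2 = 1 := by
        rw [← map_pow, pow_two, hdd, map_one]
      have d1 : orderOf (QuotientGroup.mk' (Cfsg.pCore 2 G) d) ∣ 3 ^ k := orderOf_dvd_of_pow_eq_one h3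
      have d2 : orderOf (QuotientGroup.mk' (Cfsg.pCore 2 G) d) ∣ 2 := orderOf_dvd_of_pow_eq_one h5
      have hcop : Nat.Coprime (3 ^ k) 2 := Nat.Coprime.pow_left _ (by norm_num)
      have d3 : orderOf (QuotientGroup.mk' (Cfsg.pCore 2 G) d) ∣ 1 := by
        have := Nat.dvd_gcd d1 d2
        rwa [hcop] at this
      have h6 : QuotientGroup.mk' (Cfsg.pCore 2 G) d = 1 := orderOf_eq_one_iff.mp (Nat.dvd_one.mp d3)
      exact hnot d hd ((mk'_eq_one_iff _ d).mp h6)
  apply Subgroup.isComplement'_of_disjoint_and_mul_eq_univ hdisj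
  rw [← Subgroup.normal_mul, sup_comm, hgen, Subgroup.coe_top]

end Cfsg.Agent.S5555
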