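import Cfsg.Statements.S3780
import Mathlib
import Cfsg.Agent.S0012
import Cfsg.Agent.S0013
import Cfsg.Agent.S0014

set_option autoImplicit false
open Cfsg

namespace Cfsg.Agent.S3780

/-- In the endomorphism ring of an additive commutative group: if `f ^ p = 1` and `p • a = 0`
then `(f - 1) ^ p` kills `a`. -/
theorem sub_one_pow_apply_eq_zero {A : Type*} [AddCommGroup A] {p : ℕ} (hp : p.Prime)
    (f : AddMonoid.End A) (hf : f ^ p = 1) (a : A) (ha : p • a = 0) :
    ((f - 1) ^ p) a = 0 := by
  have hadd : ∀ (g h : AddMonoid.End A) (b : A), (g + h) b = g b + h b := fun _ _ _ => rfl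
  have hmul : ∀ (g h : AddMonoid.End A) (b : A), (g * h) b = g (h b) := fun _ _ _ => rfl
  have hone : ∀ b : A, (1 : AddMonoid.End A) b = b := fun _ => rfl
  have hneg : ∀ (g : AddMonoid.End A) (b : A), (-g) b = -(g b) := fun _ _ => rfl
  have hc : Commute f (-1 : AddMonoid.End A) := (Commute.one_right f).neg_right
  obtain ⟨r, hr⟩ := hc.exists_add_pow_prime_eq hp
  have h1 : (f - 1) ^ p = f ^ p + (-1) ^ p + (p : AddMonoid.End A) * f * (-1) * r := by
    rw [sub_eq_add_neg]; exact hr
  rw [h1, hf]
  have h2 : ((p : AddMonoid.End A) * f * (-1) * r) a = 0 := by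
    have : ((p : AddMonoid.End A) * f * (-1) * r) = (p : AddMonoid.End A) * (f * (-1) * r) := by
      simp only [mul_assoc]
    rw [this, hmul, AddMonoid.End.natCast_apply, ← map_nsmul, ha, map_zero]
  rw [hadd, hadd, h2, add_zero, hone]
  rcases hp.eq_two_or_odd' with rfl | hodd
  · have : ((-1 : AddMonoid.End A) ^ 2) = 1 := by simp
    rw [this, hone, ← two_nsmul, ha]
  · rw [hodd.neg_one_pow, hneg, hone, add_neg_cancel]

section
variable {V : Type*} [CommGroup V]

/-- `v ↦ α v * v⁻¹` -/
def delta (α : MulAut V) : V →* V where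
  toFun v := α v * v⁻¹
  map_one' := by simp
  map_mul' a b := by
    rw [map_mul, mul_inv]
    exact mul_mul_mul_comm _ _ _ _

@[simp] theorem delta_apply (α : MulAut V) (v : V) : delta α v = α v * v⁻¹ := rfl

/-- iterates of `delta` -/
def deltaIter (α : MulAut V) : ℕ → (V →* V)
  | 0 => MonoidHom.id V
  | i + 1 => (delta α).comp (deltaIter α i)

theorem deltaIter_succ_apply (α : MulAut V) (i : ℕ) (v : V) :
    deltaIter α (i + 1) v = delta α (deltaIter α i v) := rfl

theorem deltaIter_zero_apply (α : MulAut V) (v : V) : deltaIter α 0 v = v := rfl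

/-- the additive version of `α` -/
def addEnd (α : MulAut V) : AddMonoid.End (Additive V) :=
  MonoidHom.toAdditive (α : V →* V)

theorem addEnd_apply (α : MulAut V) (v : V) :
    addEnd α (Additive.ofMul v) = Additive.ofMul (α v) := rfl

theorem addEnd_pow_apply (α : MulAut V) (i : ℕ) (v : V) :
    ((addEnd α) ^ i) (Additive.ofMul v) = Additive.ofMul ((α ^ i) v) := by
  induction i generalizing v with
  | zero => simp
  | succ i ih =>
    rw [pow_succ', pow_succ']
    show addEnd α (((addEnd α) ^ i) (Additive.ofMul v)) = _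
    rw [ih, addEnd_apply]
    rfl

theorem addEnd_sub_one_pow_apply (α : MulAut V) (i : ℕ) (v : V) :
    ((addEnd α - 1) ^ i) (Additive.ofMul v) = Additive.ofMul (deltaIter α i v) := by
  induction i generalizing v with
  | zero => simp; rfl
  | succ i ih =>
    rw [pow_succ']
    show (addEnd α - 1) (((addEnd α - 1) ^ i) (Additive.ofMul v)) = _
    rw [ih, deltaIter_succ_apply]
    show addEnd α (Additive.ofMul (deltaIter α i v)) - Additive.ofMul (deltaIter α i v) = _
    rw [addEnd_apply, delta_apply, ← ofMul_div, div_eq_mul_inv]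

theorem deltaIter_p_eq_one {p : ℕ} (hp : p.Prime) (α : MulAut V) (hα : α ^ p = 1) (w : V)
    (hw : w ^ p = 1) : deltaIter α p w = 1 := by
  have hf : (addEnd α) ^ p = 1 := by
    apply AddMonoidHom.ext
    intro x
    have hx : x = Additive.ofMul (Additive.toMul x) := rfl
    have h1 := addEnd_pow_apply α p (Additive.toMul x)
    rw [hα] at h1
    rw [hx]
    exact h1
  have ha : p • (Additive.ofMul w) = 0 := by
    rw [← ofMul_pow, hw]; rfl
  have h := sub_one_pow_apply_eq_zero hp (addEnd α) hf (Additive.ofMul w) ha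
  rw [addEnd_sub_one_pow_apply] at h
  exact Additive.ofMul.injective h

theorem ker_deltaIter_mono (α : MulAut V) (i : ℕ) :
    (deltaIter α i).ker ≤ (deltaIter α (i + 1)).ker := by
  intro x hx
  rw [MonoidHom.mem_ker] at hx ⊢
  rw [deltaIter_succ_apply, hx, map_one]

/-- one step of the filtration -/
theorem card_filtration_step [Finite V] (α : MulAut V) (W : Subgroup V) (i : ℕ) :
    Nat.card ↥(W ⊓ (deltaIter α (i + 1)).ker) ≤
      Nat.card ↥(W ⊓ (deltaIter α i).ker) * Nat.card (delta α).ker := by
  set K := W ⊓ (deltaIter α (i + 1)).ker with hK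
  set φ : ↥K →* V := (deltaIter α i).comp K.subtype with hφ
  have h1 := Subgroup.card_mul_index φ.ker
  rw [Subgroup.index_ker] at h1
  rw [← h1]
  apply Nat.mul_le_mul
  · -- the kernel
    have hker : φ.ker = (W ⊓ (deltaIter α i).ker).subgroupOf K := by
      ext x
      rw [MonoidHom.mem_ker, Subgroup.mem_subgroupOf, Subgroup.mem_inf, MonoidHom.mem_ker]
      constructor
      · intro h
        exact ⟨x.2.1, h⟩
      · intro h
        exact h.2
    have hle : W ⊓ (deltaIter α i).ker ≤ K := by
      rw [hK]
      exact inf_le_inf_left W (ker_deltaIter_mono α i)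
    rw [hker]
    exact (Nat.card_congr (Subgroup.subgroupOfEquivOfLe hle).toEquiv).le
  · apply Subgroup.card_le_of_le
    rintro y ⟨x, rfl⟩
    rw [MonoidHom.mem_ker]
    have hx : (x : V) ∈ (deltaIter α (i + 1)).ker := x.2.2
    rw [MonoidHom.mem_ker, deltaIter_succ_apply] at hx
    exact hx

theorem card_filtration [Finite V] (α : MulAut V) (W : Subgroup V) (i : ℕ) :
    Nat.card ↥(W ⊓ (deltaIter α i).ker) ≤ (Nat.card (delta α).ker) ^ i := by
  induction i with
  | zero =>
    have : W ⊓ (deltaIter α 0).ker = ⊥ := by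
      rw [eq_bot_iff]
      intro x hx
      have h2 : x ∈ (deltaIter α 0).ker := hx.2
      rw [MonoidHom.mem_ker, deltaIter_zero_apply] at h2
      rw [Subgroup.mem_bot]; exact h2
    rw [this]; simp
  | succ i ih =>
    calc Nat.card ↥(W ⊓ (deltaIter α (i + 1)).ker)
        ≤ Nat.card ↥(W ⊓ (deltaIter α i).ker) * Nat.card (delta α).ker :=
          card_filtration_step α W i
      _ ≤ (Nat.card (delta α).ker) ^ i * Nat.card (delta α).ker := Nat.mul_le_mul_right _ ih
      _ = (Nat.card (delta α).ker) ^ (i + 1) := (pow_succ _ _).symm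

end


/-- Let V be a finite abelian p-group and α an automorphism of V of order p whose fixed-point subgroup has order p^n. Then V can be generated by pn elements: some subset of V with at most pn elements generates V. -/
theorem result {V : Type*} [CommGroup V] [Finite V] {p : ℕ} [Fact p.Prime] (hV : IsPGroup p V) (α : MulAut V) (hα : orderOf α = p) (n : ℕ) (hfix : Nat.card {v : V // α v = v} = p ^ n) : ∃ S : Finset V, S.card ≤ p * n ∧ Subgroup.closure (S : Set V) = ⊤ := by
  classical
  have hp : p.Prime := Fact.out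
  have hαp : α ^ p = 1 := by rw [← hα]; exact pow_orderOf_eq_one α
  -- the `p`-th power map
  set π : V →* V := powMonoidHom p with hπ
  set W : Subgroup V := π.ker with hW
  -- the Frattini subgroup is the image of the `p`-th power map
  have hfrat : frattini V = π.range := by
    apply le_antisymm
    · apply Cfsg.Agent.S0013.result p hV π.range
      · rw [(commutator_eq_bot_iff_center_eq_top V).2 CommGroup.center_eq_top]
        exact bot_le
      · intro x
        exact ⟨x, rfl⟩
    · rintro y ⟨x, rfl⟩
      exact (Cfsg.Agent.S0012.result p hV).2 x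
  have hidx : (frattini V).index = Nat.card W := by
    have h1 := Subgroup.card_mul_index π.ker
    rw [Subgroup.index_ker] at h1
    have h2 := Subgroup.card_mul_index π.range
    rw [hfrat]
    have hpos : 0 < Nat.card π.range := Nat.card_pos
    have : Nat.card π.range * π.range.index = Nat.card π.range * Nat.card W := by
      rw [h2, ← h1, hW, mul_comm]
    exact Nat.eq_of_mul_eq_mul_left hpos this
  obtain ⟨d, hd⟩ := (IsPGroup.iff_card).1 (hV.to_subgroup W)
  rw [hd] at hidx
  have : Fintype V := Fintype.ofFinite V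
  obtain ⟨T, _, hTcard, hTgen⟩ :=
    (Cfsg.Agent.S0014.result p d hV hidx).1 Finset.univ (by simp)
  refine ⟨T, ?_, hTgen⟩
  rw [hTcard]
  -- bound on `|W|`
  have hkerδ : Nat.card (delta α).ker = p ^ n := by
    rw [← hfix]
    apply Nat.card_congr
    refine Equiv.subtypeEquivRight (fun v => ?_)
    rw [MonoidHom.mem_ker, delta_apply, mul_inv_eq_one]
  have hWle : W ⊓ (deltaIter α p).ker = W := by
    apply inf_eq_left.2
    intro w hw
    rw [MonoidHom.mem_ker]
    apply deltaIter_p_eq_one hp α hαp w
    have : π w = 1 := hw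
    simpa [hπ] using this
  have hbound := card_filtration α W p
  rw [hWle, hd, hkerδ, ← pow_mul] at hbound
  have := (Nat.pow_le_pow_iff_right hp.one_lt).1 hbound
  rw [mul_comm]; exact this

end Cfsg.Agent.S3780
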