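import Cfsg.Statements.S0985
import Cfsg.Agent.Lib.Helper17.OrbitCount

set_option autoImplicit false
open Cfsg

namespace Cfsg.Agent.S0985

open MulAction Cfsg.Agent.Lib.Helper17

theorem stabilizer_sylow_eq {G : Type*} [Group G] (p : ℕ) [Fact p.Prime] (P R : Sylow p G) :
    stabilizer (↥(P : Subgroup G)) R = (R : Subgroup G).subgroupOf (P : Subgroup G) := by
  ext x
  rw [mem_stabilizer_iff, Subgroup.mem_subgroupOf]
  have h1 : x • R = R ↔ (x : G) ∈ Subgroup.normalizer ((R : Subgroup G) : Set G) :=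
    Sylow.smul_eq_iff_mem_normalizer (g := (x : G)) (P := R)
  rw [h1]
  have h2 : (P : Subgroup G) ⊓ Subgroup.normalizer ((R : Subgroup G) : Set G) = (P : Subgroup G) ⊓ (R : Subgroup G) :=
    P.2.inf_normalizer_sylow (Q := R)
  constructor
  · intro hx
    have : (x : G) ∈ (P : Subgroup G) ⊓ Subgroup.normalizer ((R : Subgroup G) : Set G) :=
      ⟨x.2, hx⟩
    rw [h2] at this
    exact this.2
  · intro hx
    exact Subgroup.le_normalizer hx

/-- If the number of Sylow p-subgroups of a finite group is not congruent to 1 modulo p^k, then there are two distinct Sylow p-subgroups P and R such that the index of P ∩ R in P is at most p^(k-1). -/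
theorem result {G : Type*} [Group G] [Finite G] (p k : ℕ) [Fact p.Prime] (h : ¬ Nat.card (Sylow p G) ≡ 1 [MOD p ^ k]) : ∃ P R : Sylow p G, P ≠ R ∧ ((R : Subgroup G).subgroupOf (P : Subgroup G)).index ≤ p ^ (k - 1) := by
  obtain ⟨P⟩ := (Sylow.nonempty : Nonempty (Sylow p G))
  by_contra hcon
  push Not at hcon
  apply h
  have hfix : fixedPoints P.1 (Sylow p G) = {P} :=
    Set.ext fun Q : Sylow p G =>
      calc
        Q ∈ fixedPoints P (Sylow p G) ↔ P.1 ≤ Q := P.2.sylow_mem_fixedPoints_iff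
        _ ↔ Q.1 = P.1 := ⟨P.3 Q.2, ge_of_eq⟩
        _ ↔ Q ∈ {P} := Sylow.ext_iff.symm.trans Set.mem_singleton_iff.symm
  have hcard : Nat.card (fixedPoints P.1 (Sylow p G)) = 1 := by simp [hfix]
  rw [← hcard]
  apply card_modEq_card_fixedPoints_of_dvd
  intro R hR
  have hne : P ≠ R := by
    intro hPR
    apply hR
    rw [hfix, ← hPR]
    rfl
  have hlt := hcon P R hne
  have hidx : Nat.card (orbit (↥(P : Subgroup G)) R) = ((R : Subgroup G).subgroupOf (P : Subgroup G)).index := by
    rw [← stabilizer_sylow_eq, index_stabilizer, Nat.card_coe_set_eq]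
  rw [hidx]
  obtain ⟨n, hn⟩ := P.2.index ((R : Subgroup G).subgroupOf (P : Subgroup G))
  rw [hn] at hlt ⊢
  have hp : 1 < p := (Fact.out : p.Prime).one_lt
  have : k - 1 < n := (Nat.pow_lt_pow_iff_right hp).1 hlt
  exact pow_dvd_pow p (by omega)

end Cfsg.Agent.S0985
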