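import Cfsg.Statements.S1466

set_option autoImplicit false
open Cfsg

namespace Cfsg.Agent.S1466

theorem exists_ne_one_mem_center_of_normal {Q : Type*} [Group Q] [Finite Q] (p : ℕ) [Fact p.Prime]
    (hQ : IsPGroup p Q) (N : Subgroup Q) [N.Normal] (hN : N ≠ ⊥) :
    ∃ z ∈ N, z ≠ 1 ∧ z ∈ Subgroup.center Q := by
  have hfp := (hQ.of_equiv ConjAct.toConjAct).exists_fixed_point_of_prime_dvd_card_of_fixed_point (α := N)
  have dvd : p ∣ Nat.card N := by
    have hNp : IsPGroup p N := hQ.to_subgroup N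
    have : Nontrivial N := (Subgroup.nontrivial_iff_ne_bot N).mpr hN
    obtain ⟨n, hn0, hn⟩ := hNp.nontrivial_iff_card.mp this
    exact hn.symm ▸ dvd_pow_self _ (ne_of_gt hn0)
  have h1 : (1 : N) ∈ MulAction.fixedPoints (ConjAct Q) N := by
    intro g
    apply Subtype.ext
    rw [ConjAct.Subgroup.val_conj_smul]
    simp
  obtain ⟨b, hb, hb1⟩ := hfp dvd h1
  refine ⟨b, b.2, ?_, ?_⟩
  · intro h
    apply hb1
    apply Subtype.ext
    simp [h]
  · rw [Subgroup.mem_center_iff]
    intro g
    have := hb (ConjAct.toConjAct g)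
    have h2 := congrArg Subtype.val this
    rw [ConjAct.Subgroup.val_conj_smul] at h2
    rw [ConjAct.smul_def, ConjAct.ofConjAct_toConjAct] at h2
    calc g * b = g * b * g⁻¹ * g := by group
      _ = b * g := by rw [h2]

theorem exists_normal_abelian_self_centralizing {R : Type*} [Group R] [Finite R] (p : ℕ) [Fact p.Prime]
    (hR : IsPGroup p R) :
    ∃ A : Subgroup R, A.Normal ∧ IsMulCommutative A ∧ Subgroup.centralizer (A : Set R) ≤ A := by
  let S : Set (Subgroup R) := {A | A.Normal ∧ IsMulCommutative A}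
  have hSne : S.Nonempty := ⟨⊥, inferInstance, inferInstance⟩
  obtain ⟨A, hA⟩ := (Set.toFinite S).exists_maximal hSne
  obtain ⟨⟨hAn, hAc⟩, hmax⟩ := hA
  refine ⟨A, hAn, hAc, ?_⟩
  by_contra hnot
  -- C = centralizer A, normal
  have hCn : (Subgroup.centralizer (A : Set R)).Normal := inferInstance
  have hAC : A ≤ Subgroup.centralizer (A : Set R) := Subgroup.le_centralizer_iff_isMulCommutative.mpr hAc
  -- image in quotient
  let N : Subgroup (R ⧸ A) := (Subgroup.centralizer (A : Set R)).map (QuotientGroup.mk' A)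
  have hNn : N.Normal := Subgroup.Normal.map hCn _ (QuotientGroup.mk'_surjective A)
  have hNne : N ≠ ⊥ := by
    intro h
    apply hnot
    intro c hc
    have : (QuotientGroup.mk' A c) ∈ N := Subgroup.mem_map_of_mem _ hc
    rw [h, Subgroup.mem_bot] at this
    exact (QuotientGroup.eq_one_iff c).mp this
  obtain ⟨zbar, hzN, hz1, hzc⟩ := exists_ne_one_mem_center_of_normal p (hR.to_quotient A) N hNne
  obtain ⟨z, hzC, rfl⟩ := Subgroup.mem_map.mp hzN
  have hzA : z ∉ A := fun h => hz1 ((QuotientGroup.eq_one_iff z).mpr h)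
  -- commutators with z lie in A
  have hcomm : ∀ r : R, r * z * r⁻¹ * z⁻¹ ∈ A := by
    intro r
    rw [← QuotientGroup.eq_one_iff]
    have := Subgroup.mem_center_iff.mp hzc (QuotientGroup.mk' A r)
    simp only [QuotientGroup.mk'_apply] at this ⊢
    rw [QuotientGroup.mk_mul, QuotientGroup.mk_mul, QuotientGroup.mk_mul, QuotientGroup.mk_inv, QuotientGroup.mk_inv, this]
    group
  -- B = closure (A ∪ {z})
  let B : Subgroup R := Subgroup.closure ((A : Set R) ∪ {z})
  have hAB : A ≤ B := fun a ha => Subgroup.subset_closure (Or.inl ha)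
  have hzB : z ∈ B := Subgroup.subset_closure (Or.inr rfl)
  have hBc : IsMulCommutative B := by
    rw [← Subgroup.le_centralizer_iff_isMulCommutative]
    show Subgroup.closure _ ≤ Subgroup.centralizer ((Subgroup.closure _ : Subgroup R) : Set R)
    rw [Subgroup.centralizer_closure, Subgroup.closure_le]
    rintro x (hx | hx)
    · rw [SetLike.mem_coe, Subgroup.mem_centralizer_iff]
      rintro y (hy | hy)
      · exact Subgroup.mem_centralizer_iff.mp (hAC hx) y hy
      · rw [Set.mem_singleton_iff] at hy; subst hy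
        exact (Subgroup.mem_centralizer_iff.mp hzC x hx).symm
    · rw [Set.mem_singleton_iff] at hx; subst hx
      rw [SetLike.mem_coe, Subgroup.mem_centralizer_iff]
      rintro y (hy | hy)
      · exact Subgroup.mem_centralizer_iff.mp hzC y hy
      · rw [Set.mem_singleton_iff] at hy; subst hy; rfl
  have hBn : B.Normal := by
    constructor
    intro b hb r
    have hmap : B.map (MulAut.conj r).toMonoidHom ≤ B := by
      show (Subgroup.closure _).map _ ≤ B
      rw [MonoidHom.map_closure, Subgroup.closure_le]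
      rintro _ ⟨x, hx, rfl⟩
      rcases hx with hx | hx
      · exact hAB (hAn.conj_mem x hx r)
      · rw [Set.mem_singleton_iff] at hx; subst hx
        have : r * x * r⁻¹ = (r * x * r⁻¹ * x⁻¹) * x := by group
        show r * x * r⁻¹ ∈ B
        rw [this]
        exact B.mul_mem (hAB (hcomm r)) hzB
    exact hmap (Subgroup.mem_map_of_mem _ hb)
  have hBA : B ≤ A := hmax ⟨hBn, hBc⟩ hAB
  exact hzA (hBA hzB)


theorem le_puigStep_of_normal_abelian {R : Type*} [Group R] (A : Subgroup R) (hAn : A.Normal)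
    (hAc : IsMulCommutative A) (X : Subgroup R) : A ≤ Cfsg.puigStep X := by
  unfold Cfsg.puigStep
  apply le_sSup
  refine ⟨hAc, ?_⟩
  rw [Subgroup.normalizer_eq_top_iff.mpr hAn]
  exact le_top

theorem center_le_centralizer' {R : Type*} [Group R] (X : Set R) :
    Subgroup.center R ≤ Subgroup.centralizer X := by
  intro z hz
  rw [Subgroup.mem_centralizer_iff]
  intro x _
  exact (Subgroup.mem_center_iff.mp hz x)

/-- Let p be a prime and R a nontrivial finite p-group. Then for every i > 0, Z(R) ≤ C_R(L_i(R)) ≤ L_i(R); likewise Z(R) ≤ C_R(L_*(R)) ≤ L_*(R) and Z(R) ≤ C_R(L(R)) ≤ L(R); and L(R) ≠ 1, L_*(R) ≠ 1. -/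
theorem result {R : Type*} [Group R] [Finite R] (p : ℕ) [Fact p.Prime] (hR : IsPGroup p R) [Nontrivial R] :
    (∀ i : ℕ, 0 < i → Subgroup.center R ≤ Subgroup.centralizer ((Cfsg.puigSeq R i : Subgroup R) : Set R) ∧
        Subgroup.centralizer ((Cfsg.puigSeq R i : Subgroup R) : Set R) ≤ Cfsg.puigSeq R i) ∧
      (Subgroup.center R ≤ Subgroup.centralizer ((Cfsg.puigLower R : Subgroup R) : Set R) ∧ Subgroup.centralizer ((Cfsg.puigLower R : Subgroup R) : Set R) ≤ Cfsg.puigLower R) ∧
      (Subgroup.center R ≤ Subgroup.centralizer ((Cfsg.puigSubgroup R : Subgroup R) : Set R) ∧ Subgroup.centralizer ((Cfsg.puigSubgroup R : Subgroup R) : Set R) ≤ Cfsg.puigSubgroup R) ∧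
      Cfsg.puigSubgroup R ≠ ⊥ ∧ Cfsg.puigLower R ≠ ⊥ := by
  obtain ⟨A, hAn, hAc, hCA⟩ := exists_normal_abelian_self_centralizing p hR
  have hZA : Subgroup.center R ≤ A := (center_le_centralizer' _).trans hCA
  have hAne : A ≠ ⊥ := by
    intro h
    have := hR.bot_lt_center
    rw [h] at hZA
    exact absurd (le_bot_iff.mp hZA) (ne_of_gt this)
  have hAseq : ∀ i : ℕ, 0 < i → A ≤ Cfsg.puigSeq R i := by
    intro i hi
    obtain ⟨j, rfl⟩ := Nat.exists_eq_succ_of_ne_zero (Nat.pos_iff_ne_zero.mp hi)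
    exact le_puigStep_of_normal_abelian A hAn hAc _
  have key : ∀ L : Subgroup R, A ≤ L → Subgroup.centralizer (L : Set R) ≤ L := by
    intro L hL
    exact (Subgroup.centralizer_le (by exact_mod_cast hL)).trans (hCA.trans hL)
  have hALower : A ≤ Cfsg.puigLower R := by
    unfold Cfsg.puigLower
    exact (hAseq (2 * 1) (by norm_num)).trans (le_iSup (fun n => Cfsg.puigSeq R (2 * n)) 1)
  have hAUpper : A ≤ Cfsg.puigSubgroup R := by
    unfold Cfsg.puigSubgroup
    exact le_iInf fun n => hAseq (2 * n + 1) (by omega)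
  refine ⟨fun i hi => ⟨center_le_centralizer' _, key _ (hAseq i hi)⟩,
    ⟨center_le_centralizer' _, key _ hALower⟩, ⟨center_le_centralizer' _, key _ hAUpper⟩, ?_, ?_⟩
  · intro h
    rw [h] at hAUpper
    exact hAne (le_bot_iff.mp hAUpper)
  · intro h
    rw [h] at hALower
    exact hAne (le_bot_iff.mp hALower)

end Cfsg.Agent.S1466
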