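import Cfsg.Statements.S1467

set_option autoImplicit false
open Cfsg

namespace Cfsg.Agent.S1467

theorem puigStep_anti {G : Type*} [Group G] {X Y : Subgroup G} (h : X ≤ Y) :
    Cfsg.puigStep Y ≤ Cfsg.puigStep X := by
  unfold Cfsg.puigStep
  apply sSup_le_sSup
  rintro A ⟨hA1, hA2⟩
  exact ⟨hA1, h.trans hA2⟩

theorem puigStep_bot {G : Type*} [Group G] : Cfsg.puigStep (⊥ : Subgroup G) = ⊤ := by
  rw [eq_top_iff]
  intro g _
  unfold Cfsg.puigStep
  have hmem : Subgroup.zpowers g ∈ {A : Subgroup G | IsMulCommutative A ∧ (⊥ : Subgroup G) ≤ Subgroup.normalizer (A : Set G)} :=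
    ⟨inferInstance, bot_le⟩
  exact (le_sSup hmem) (Subgroup.mem_zpowers g)

theorem seq_succ {G : Type*} [Group G] (n : ℕ) :
    Cfsg.puigSeq G (n + 1) = Cfsg.puigStep (Cfsg.puigSeq G n) := rfl

theorem even_odd_mono {G : Type*} [Group G] (n : ℕ) :
    Cfsg.puigSeq G (2 * n) ≤ Cfsg.puigSeq G (2 * n + 2) ∧
      Cfsg.puigSeq G (2 * n + 3) ≤ Cfsg.puigSeq G (2 * n + 1) := by
  induction n with
  | zero =>
    have h0 : Cfsg.puigSeq G (2 * 0) ≤ Cfsg.puigSeq G (2 * 0 + 2) := by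
      show (⊥ : Subgroup G) ≤ _
      exact bot_le
    refine ⟨h0, ?_⟩
    rw [seq_succ (2 * 0 + 2), seq_succ (2 * 0)]
    exact puigStep_anti h0
  | succ n ih =>
    have h1 : Cfsg.puigSeq G (2 * (n + 1)) ≤ Cfsg.puigSeq G (2 * (n + 1) + 2) := by
      have e1 : 2 * (n + 1) = (2 * n + 1) + 1 := by ring
      have e2 : 2 * (n + 1) + 2 = (2 * n + 3) + 1 := by ring
      rw [e2, e1, seq_succ, seq_succ]
      exact puigStep_anti ih.2
    refine ⟨h1, ?_⟩
    have e3 : 2 * (n + 1) + 3 = (2 * (n + 1) + 2) + 1 := by ring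
    rw [e3, seq_succ (2 * (n + 1) + 2), seq_succ (2 * (n + 1))]
    exact puigStep_anti h1

theorem even_mono {G : Type*} [Group G] : Monotone (fun n => Cfsg.puigSeq G (2 * n)) := by
  apply monotone_nat_of_le_succ
  intro n
  have := (even_odd_mono (G := G) n).1
  have e : 2 * (n + 1) = 2 * n + 2 := by ring
  simpa [e] using this

theorem odd_anti {G : Type*} [Group G] : Antitone (fun n => Cfsg.puigSeq G (2 * n + 1)) := by
  apply antitone_nat_of_succ_le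
  intro n
  have := (even_odd_mono (G := G) n).2
  have e : 2 * (n + 1) + 1 = 2 * n + 3 := by ring
  simpa [e] using this

theorem even_le_odd_same {G : Type*} [Group G] (n : ℕ) :
    Cfsg.puigSeq G (2 * n) ≤ Cfsg.puigSeq G (2 * n + 1) := by
  induction n with
  | zero => show (⊥ : Subgroup G) ≤ _; exact bot_le
  | succ n ih =>
    have hD : Cfsg.puigSeq G (2 * n + 2) ≤ Cfsg.puigSeq G (2 * n + 1) := by
      rw [seq_succ (2 * n + 1), seq_succ (2 * n)]
      exact puigStep_anti ih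
    have e1 : 2 * (n + 1) = 2 * n + 2 := by ring
    rw [e1, seq_succ (2 * n + 2)]
    calc Cfsg.puigSeq G (2 * n + 2) = Cfsg.puigStep (Cfsg.puigSeq G (2 * n + 1)) := rfl
      _ ≤ Cfsg.puigStep (Cfsg.puigSeq G (2 * n + 2)) := puigStep_anti hD

theorem even_le_odd {G : Type*} [Group G] (n m : ℕ) :
    Cfsg.puigSeq G (2 * n) ≤ Cfsg.puigSeq G (2 * m + 1) := by
  calc Cfsg.puigSeq G (2 * n) ≤ Cfsg.puigSeq G (2 * (max n m)) := even_mono (le_max_left n m)
    _ ≤ Cfsg.puigSeq G (2 * (max n m) + 1) := even_le_odd_same _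
    _ ≤ Cfsg.puigSeq G (2 * m + 1) := odd_anti (le_max_right n m)

/-- Let G be a finite group with Puig series L_n(G). Then L_0 = 1, L_1 = G; L_{2n} ≤ L_{2n+2} ≤ L_{2m+3} ≤ L_{2m+1} for all n, m; there is k with L_{2n}(G) = L_*(G) and L_{2n+1}(G) = L(G) for all n ≥ k; L_*(G) ≤ L(G); and applying one Puig step to L_*(G) gives L(G) and to L(G) gives L_*(G). -/
theorem result {G : Type*} [Group G] [Finite G] :
    Cfsg.puigSeq G 0 = ⊥ ∧ Cfsg.puigSeq G 1 = ⊤ ∧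
      (∀ n m : ℕ, Cfsg.puigSeq G (2 * n) ≤ Cfsg.puigSeq G (2 * n + 2) ∧ Cfsg.puigSeq G (2 * n) ≤ Cfsg.puigSeq G (2 * m + 1) ∧
        Cfsg.puigSeq G (2 * m + 3) ≤ Cfsg.puigSeq G (2 * m + 1)) ∧
      (∃ k : ℕ, ∀ n : ℕ, k ≤ n → Cfsg.puigSeq G (2 * n) = Cfsg.puigLower G ∧ Cfsg.puigSeq G (2 * n + 1) = Cfsg.puigSubgroup G) ∧
      Cfsg.puigLower G ≤ Cfsg.puigSubgroup G ∧
      Cfsg.puigStep (Cfsg.puigLower G) = Cfsg.puigSubgroup G ∧ Cfsg.puigStep (Cfsg.puigSubgroup G) = Cfsg.puigLower G := by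
  -- stabilization
  obtain ⟨k1, hk1⟩ := WellFoundedGT.monotone_chain_condition
    (⟨fun n => Cfsg.puigSeq G (2 * n), even_mono⟩ : ℕ →o Subgroup G)
  obtain ⟨k2, hk2⟩ := WellFoundedGT.monotone_chain_condition
    (⟨fun n => OrderDual.toDual (Cfsg.puigSeq G (2 * n + 1)), fun a b h => odd_anti h⟩ : ℕ →o (Subgroup G)ᵒᵈ)
  have hk1' : ∀ m, k1 ≤ m → Cfsg.puigSeq G (2 * k1) = Cfsg.puigSeq G (2 * m) := hk1
  have hk2' : ∀ m, k2 ≤ m → Cfsg.puigSeq G (2 * k2 + 1) = Cfsg.puigSeq G (2 * m + 1) := fun m hm =>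
    congrArg OrderDual.ofDual (hk2 m hm)
  have hLower : Cfsg.puigLower G = Cfsg.puigSeq G (2 * k1) := by
    unfold Cfsg.puigLower
    apply le_antisymm
    · apply iSup_le
      intro n
      calc Cfsg.puigSeq G (2 * n) ≤ Cfsg.puigSeq G (2 * (max n k1)) := even_mono (le_max_left _ _)
        _ = Cfsg.puigSeq G (2 * k1) := (hk1' _ (le_max_right _ _)).symm
    · exact le_iSup (fun n => Cfsg.puigSeq G (2 * n)) k1
  have hUpper : Cfsg.puigSubgroup G = Cfsg.puigSeq G (2 * k2 + 1) := by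
    unfold Cfsg.puigSubgroup
    apply le_antisymm
    · exact iInf_le (fun n => Cfsg.puigSeq G (2 * n + 1)) k2
    · apply le_iInf
      intro n
      calc Cfsg.puigSeq G (2 * k2 + 1) = Cfsg.puigSeq G (2 * (max n k2) + 1) := hk2' _ (le_max_right _ _)
        _ ≤ Cfsg.puigSeq G (2 * n + 1) := odd_anti (le_max_left _ _)
  have hstab : ∀ n : ℕ, max k1 k2 ≤ n → Cfsg.puigSeq G (2 * n) = Cfsg.puigLower G ∧ Cfsg.puigSeq G (2 * n + 1) = Cfsg.puigSubgroup G := by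
    intro n hn
    rw [hLower, hUpper]
    exact ⟨(hk1' n ((le_max_left _ _).trans hn)).symm, (hk2' n ((le_max_right _ _).trans hn)).symm⟩
  refine ⟨rfl, ?_, ?_, ⟨max k1 k2, hstab⟩, ?_, ?_, ?_⟩
  · show Cfsg.puigStep (⊥ : Subgroup G) = ⊤
    exact puigStep_bot
  · intro n m
    exact ⟨(even_odd_mono n).1, even_le_odd n m, (even_odd_mono m).2⟩
  · unfold Cfsg.puigLower Cfsg.puigSubgroup
    exact iSup_le fun n => le_iInf fun m => even_le_odd n m
  · set K := max k1 k2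
    rw [← (hstab K le_rfl).1, ← (hstab K le_rfl).2]
    rfl
  · set K := max k1 k2
    rw [← (hstab K le_rfl).2, ← (hstab (K + 1) (Nat.le_succ K)).1]
    rfl

end Cfsg.Agent.S1467
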