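import Cfsg.Statements.S0418
-- import your own Cfsg.Agent.* helpers here
import Mathlib

set_option autoImplicit false
open Cfsg

namespace Cfsg.Agent.S0418

open MulAction


/-- Order of a sharply `n`-transitive group. -/
theorem card_of_sharp {H : Type*} [Group H] {β : Type*} [Fintype β] [DecidableEq β]
    [MulAction H β] (n : ℕ) [IsMultiplyPretransitive H β n] (hn : n ≤ Fintype.card β)
    (hsharp : ∀ x : Fin n ↪ β, stabilizer H x = ⊥) :
    Nat.card H = (Fintype.card β).descFactorial n := by
  obtain ⟨x⟩ : Nonempty (Fin n ↪ β) :=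
    Function.Embedding.nonempty_of_card_le (by simpa using hn)
  have h1 := MulAction.index_stabilizer H x
  rw [hsharp x, Subgroup.index_bot, MulAction.orbit_eq_univ, Set.ncard_univ] at h1
  rw [h1, Nat.card_eq_fintype_card, Fintype.card_embedding_eq, Fintype.card_fin]

/-- A nontrivial normal subgroup of a faithful preprimitive group is transitive. -/
theorem pretransitive_of_normal {H : Type*} [Group H] {β : Type*} [MulAction H β]
    [FaithfulSMul H β] [IsPreprimitive H β] (N : Subgroup H) [N.Normal] (hN : N ≠ ⊥) :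
    IsPretransitive N β := by
  apply IsQuasiPreprimitive.isPretransitive_of_normal (G := H)
  intro h
  apply hN
  rw [eq_bot_iff]
  intro g hg
  rw [Subgroup.mem_bot]
  apply FaithfulSMul.eq_of_smul_eq_smul (α := β)
  intro a
  have ha : a ∈ fixedPoints N β := by rw [h]; exact Set.mem_univ a
  rw [one_smul]
  exact ha ⟨g, hg⟩

/-- A transitive group on a finite set has order divisible by the degree. -/
theorem card_dvd_of_pretransitive {N : Type*} [Group N] {β : Type*} [Fintype β]
    [MulAction N β] [IsPretransitive N β] [Nonempty β] : Fintype.card β ∣ Nat.card N := by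
  obtain ⟨a⟩ := ‹Nonempty β›
  have h1 := MulAction.index_stabilizer N a
  rw [MulAction.orbit_eq_univ, Set.ncard_univ, Nat.card_eq_fintype_card] at h1
  rw [← h1]
  exact Subgroup.index_dvd_card _

/-- The centralizer in `Perm β` of an element of prime order `p = |β|` has order `p`. -/
theorem card_centralizer_of_orderOf_eq_card {β : Type*} [Fintype β] [DecidableEq β]
    (σ : Equiv.Perm β) (hσ : (orderOf σ).Prime) (hβ : Fintype.card β = orderOf σ) :
    Nat.card (Subgroup.centralizer ({σ} : Set (Equiv.Perm β))) = orderOf σ := by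
  obtain ⟨n, hn⟩ := Equiv.Perm.cycleType_prime_order hσ
  have hsum : σ.cycleType.sum ≤ Fintype.card β := by
    rw [Equiv.Perm.sum_cycleType]; exact Finset.card_le_univ _
  rw [hn, Multiset.sum_replicate, smul_eq_mul, hβ] at hsum
  have hn0 : n = 0 := by
    by_contra h
    have : 2 * orderOf σ ≤ (n + 1) * orderOf σ := Nat.mul_le_mul_right _ (by omega)
    have := hσ.pos
    omega
  subst hn0
  rw [Equiv.Perm.nat_card_centralizer, hn, hβ]
  simp




/-- A Sylow `p`-subgroup of order `p` of a group acting faithfully on `p` points is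
self-centralizing. -/
theorem centralizer_le_of_card_eq {H : Type*} [Group H] [Finite H] {β : Type*} [Fintype β]
    [DecidableEq β] [MulAction H β] [FaithfulSMul H β] (p : ℕ) [Fact p.Prime]
    (hβ : Fintype.card β = p) (P : Subgroup H) (hP : Nat.card P = p) :
    Subgroup.centralizer (P : Set H) ≤ P := by
  have hp : p.Prime := Fact.out
  have : IsCyclic P := isCyclic_of_prime_card hP
  obtain ⟨g, hg⟩ := IsCyclic.exists_generator (α := P)
  have hog : orderOf g = p := by rw [orderOf_eq_card_of_forall_mem_zpowers hg, hP]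
  have hinj : Function.Injective (MulAction.toPermHom H β) := MulAction.toPerm_injective
  obtain ⟨σ, hσ⟩ : ∃ σ : Equiv.Perm β, σ = MulAction.toPermHom H β (g : H) := ⟨_, rfl⟩
  have hoσ : orderOf σ = p := by
    rw [hσ, orderOf_injective _ hinj, Subgroup.orderOf_coe, hog]
  have hcz := card_centralizer_of_orderOf_eq_card σ (hoσ ▸ hp) (hoσ ▸ hβ)
  have hle : Subgroup.zpowers σ ≤ Subgroup.centralizer ({σ} : Set (Equiv.Perm β)) := by
    rw [Subgroup.zpowers_le]
    exact Subgroup.mem_centralizer_singleton_iff.mpr rfl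
  have heq : Subgroup.zpowers σ = Subgroup.centralizer ({σ} : Set (Equiv.Perm β)) := by
    apply Subgroup.eq_of_le_of_card_ge hle
    rw [hcz, Nat.card_zpowers]
  intro h hh
  have hcomm : h * (g : H) = (g : H) * h := (hh (g : H) g.2).symm
  have h1 : MulAction.toPermHom H β h ∈ Subgroup.centralizer ({σ} : Set (Equiv.Perm β)) := by
    rw [Subgroup.mem_centralizer_singleton_iff, hσ, ← map_mul, ← map_mul, hcomm]
  rw [← heq] at h1
  obtain ⟨k, hk⟩ := Subgroup.mem_zpowers_iff.mp h1
  rw [hσ, ← map_zpow] at hk
  have h2 := hinj hk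
  rw [← h2]
  exact P.zpow_mem g.2 k




theorem sylow_card {H : Type*} [Group H] [Finite H] [Fact (Nat.Prime 11)]
    (hcard : Nat.card H = 7920) (P : Sylow 11 H) : Nat.card P = 11 := by
  obtain ⟨k, hk⟩ := IsPGroup.iff_card.mp P.isPGroup'
  have h1 := (P : Subgroup H).card_mul_index
  have h2 := P.not_dvd_index
  rw [hcard, hk] at h1
  have hk1 : k = 1 := by
    rcases Nat.lt_or_ge k 1 with h | h
    · have : k = 0 := by omega
      subst this
      rw [pow_zero, one_mul] at h1
      rw [h1] at h2
      exact absurd (by norm_num : 11 ∣ 7920) h2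
    · rcases Nat.lt_or_ge 1 k with h' | h'
      · exfalso
        have : 11 ^ 2 ∣ 11 ^ k := pow_dvd_pow 11 h'
        have h3 : 11 ^ 2 ∣ 7920 := h1 ▸ (this.trans (dvd_mul_right _ _))
        norm_num at h3
      · omega
  rw [hk, hk1, pow_one]

theorem normalizer_card {H : Type*} [Group H] [Finite H] {β : Type*} [Fintype β]
    [DecidableEq β] [MulAction H β] [FaithfulSMul H β] [Fact (Nat.Prime 11)]
    (hβ : Fintype.card β = 11) (hcard : Nat.card H = 7920) (P : Sylow 11 H) :
    Nat.card (Subgroup.normalizer ((P : Subgroup H) : Set H)) = 55 := by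
  have hP := sylow_card hcard P
  have hCle := centralizer_le_of_card_eq 11 hβ (P : Subgroup H) hP
  have : IsCyclic (P : Subgroup H) := isCyclic_of_prime_card hP
  have hC : Subgroup.centralizer ((P : Subgroup H) : Set H) = P := by
    apply le_antisymm hCle
    intro x hx y hy
    let _ : CommGroup (P : Subgroup H) := IsCyclic.commGroup
    have h := mul_comm (⟨x, hx⟩ : (P : Subgroup H)) ⟨y, hy⟩
    have h' : x * y = y * x := congrArg Subtype.val h
    exact h'.symm
  have key : (Subgroup.centralizer ((P : Subgroup H) : Set H)).relIndex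
      (Subgroup.normalizer ((P : Subgroup H) : Set H)) ∣ Nat.card (MulAut (P : Subgroup H)) := by
    have key := Subgroup.card_dvd_of_injective _
      (QuotientGroup.kerLift_injective (P : Subgroup H).normalizerMonoidHom)
    rwa [Subgroup.normalizerMonoidHom_ker, ← Subgroup.index, ← Subgroup.relIndex] at key
  rw [IsCyclic.card_mulAut, hP, Nat.totient_prime (by norm_num : Nat.Prime 11), hC] at key
  have h1 : (P : Subgroup H).relIndex (Subgroup.normalizer ((P : Subgroup H) : Set H)) *
      (Subgroup.normalizer ((P : Subgroup H) : Set H)).index = (P : Subgroup H).index :=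
    Subgroup.relIndex_mul_index Subgroup.le_normalizer
  have h2 : (P : Subgroup H).index = 720 := by
    have := (P : Subgroup H).card_mul_index
    rw [hP, hcard] at this
    omega
  have h3 : Nat.card (Sylow 11 H) ≡ 1 [MOD 11] := card_sylow_modEq_one 11 H
  rw [P.card_eq_index_normalizer] at h3
  have h4 := (Subgroup.normalizer ((P : Subgroup H) : Set H)).card_mul_index
  rw [hcard] at h4
  rw [h2] at h1
  obtain ⟨d, hd⟩ : ∃ d, d = (P : Subgroup H).relIndex
    (Subgroup.normalizer ((P : Subgroup H) : Set H)) := ⟨_, rfl⟩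
  obtain ⟨m, hm⟩ : ∃ m, m = (Subgroup.normalizer ((P : Subgroup H) : Set H)).index := ⟨_, rfl⟩
  rw [← hd] at key h1
  have h3' : m ≡ 1 [MOD 11] := by rw [hm]; exact h3
  clear h3
  rw [← hm] at h1 h4
  have hd4 : d = 1 ∨ d = 2 ∨ d = 5 ∨ d = 10 := by
    have : d ∈ Nat.divisors 10 := Nat.mem_divisors.mpr ⟨key, by norm_num⟩
    have h10 : Nat.divisors 10 = {1, 2, 5, 10} := by decide
    rw [h10] at this
    simpa using this
  unfold Nat.ModEq at h3'
  rcases hd4 with rfl | rfl | rfl | rfl
  · omega
  · omega
  · have : m = 144 := by omega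
    rw [this] at h4
    omega
  · omega








/-- A normal subgroup of order divisible by `p` contains every Sylow `p`-subgroup of order `p`. -/
theorem sylow_le_normal {H : Type*} [Group H] [Finite H] (p : ℕ) [Fact p.Prime]
    (P : Sylow p H) (hP : Nat.card P = p) (N : Subgroup H) [N.Normal] (hN : p ∣ Nat.card N) :
    (P : Subgroup H) ≤ N := by
  obtain ⟨x, hx⟩ := exists_prime_orderOf_dvd_card' p hN
  have hz : IsPGroup p (Subgroup.zpowers (x : H)) := by
    apply IsPGroup.of_card (n := 1)
    rw [Nat.card_zpowers, Subgroup.orderOf_coe, hx, pow_one]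
  obtain ⟨Q, hQ⟩ := hz.exists_le_sylow
  obtain ⟨g, hg⟩ := MulAction.exists_smul_eq H Q P
  have hQcard : Nat.card Q = p := by
    have h1 : Nat.card Q = Nat.card (g • Q : Sylow p H) :=
      Nat.card_congr (Sylow.equivSMul Q g).toEquiv
    rw [h1, hg]
    exact hP
  have hQeq : Subgroup.zpowers (x : H) = Q := by
    apply Subgroup.eq_of_le_of_card_ge hQ
    rw [hQcard, Nat.card_zpowers, Subgroup.orderOf_coe, hx]
  have hQN : (Q : Subgroup H) ≤ N := by
    rw [← hQeq, Subgroup.zpowers_le]
    exact x.2
  intro y hy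
  rw [← hg, Sylow.coe_subgroup_smul, Subgroup.mem_smul_pointwise_iff_exists] at hy
  obtain ⟨s, hs, rfl⟩ := hy
  rw [MulAut.smul_def, MulAut.conj_apply]
  exact ‹N.Normal›.conj_mem s (hQN hs) g









/-- Burnside-type step: a transitive group `N` of prime degree `p` with `p² ∤ |N|` whose Sylow
`p`-subgroup is self-normalizing has order `p`. -/
theorem card_eq_of_self_normalizing {N : Type*} [Group N] [Finite N] {β : Type*} [Fintype β]
    [MulAction N β] [FaithfulSMul N β] [IsPretransitive N β] (p : ℕ) [Fact p.Prime]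
    (hβ : Fintype.card β = p) (hp2 : ¬ p ^ 2 ∣ Nat.card N) (P : Sylow p N)
    (hP : Nat.card P = p)
    (hself : Subgroup.normalizer ((P : Subgroup N) : Set N) ≤ P) : Nat.card N = p := by
  have hp : p.Prime := Fact.out
  have : Nonempty β := Fintype.card_pos_iff.mp (by rw [hβ]; exact hp.pos)
  have hcyc : IsCyclic (P : Subgroup N) := isCyclic_of_prime_card hP
  have hPc : Subgroup.normalizer (P : Set N) ≤ Subgroup.centralizer (P : Set N) := by
    intro n hn y hy
    have hn' : n ∈ (P : Subgroup N) := hself hn
    let _ : CommGroup (P : Subgroup N) := IsCyclic.commGroup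
    have h := mul_comm (⟨y, hy⟩ : (P : Subgroup N)) ⟨n, hn'⟩
    have h' : y * n = n * y := congrArg Subtype.val h
    exact h'
  have hcompl := MonoidHom.ker_transferSylow_isComplement' P hPc
  obtain ⟨K, hK⟩ : ∃ K : Subgroup N, K = (MonoidHom.transferSylow P hPc).ker := ⟨_, rfl⟩
  rw [← hK] at hcompl
  have hKn : K.Normal := by rw [hK]; infer_instance
  have hcm := hcompl.card_mul_card
  have : IsPreprimitive N β :=
    IsPreprimitive.of_prime_card (G := N) (X := β) (by rw [Nat.card_eq_fintype_card, hβ]; exact hp)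
  by_cases hKbot : K = ⊥
  · rw [hKbot, Subgroup.card_bot, one_mul, hP] at hcm
    exact hcm.symm
  · exfalso
    have : IsPretransitive K β := pretransitive_of_normal (H := N) (β := β) K hKbot
    have h1 : p ∣ Nat.card K := hβ ▸ (card_dvd_of_pretransitive (N := K) (β := β))
    apply hp2
    rw [← hcm, hP, pow_two]
    exact Nat.mul_dvd_mul h1 dvd_rfl

theorem simple_of_sharp4 {H : Type*} [Group H] {β : Type*} [Fintype β] [DecidableEq β]
    [MulAction H β] [FaithfulSMul H β] (hβ : Fintype.card β = 11)
    [IsMultiplyPretransitive H β 4] (hsharp : ∀ x : Fin 4 ↪ β, stabilizer H x = ⊥) :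
    IsSimpleGroup H ∧ Nat.card H = 7920 := by
  have hcard : Nat.card H = 7920 := by
    rw [card_of_sharp 4 (by omega) hsharp, hβ]; rfl
  have : Finite H := Nat.finite_of_card_ne_zero (by omega)
  have : Fact (Nat.Prime 11) := ⟨by norm_num⟩
  have : IsMultiplyPretransitive H β 2 :=
    isMultiplyPretransitive_of_le (G := H) (α := β) (m := 2) (n := 4) (by omega)
      (by rw [Nat.card_eq_fintype_card, hβ]; omega)
  have : IsPreprimitive H β := isPreprimitive_of_is_two_pretransitive inferInstance
  have : Nonempty β := Fintype.card_pos_iff.mp (by omega)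
  refine ⟨?_, hcard⟩
  have : Nontrivial H := (Finite.one_lt_card_iff_nontrivial).mp (by omega)
  refine ⟨fun N hN => ?_⟩
  by_cases hNbot : N = ⊥
  · left; exact hNbot
  right
  have := hN
  have hNt : IsPretransitive N β := pretransitive_of_normal N hNbot
  have h11 : 11 ∣ Nat.card N := hβ ▸ (card_dvd_of_pretransitive (N := N) (β := β))
  obtain ⟨P⟩ : Nonempty (Sylow 11 H) := inferInstance
  have hP := sylow_card hcard P
  have hNm := normalizer_card hβ hcard P
  have hPN : (P : Subgroup H) ≤ N := sylow_le_normal 11 P hP N h11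
  obtain ⟨M, hM⟩ : ∃ M : Subgroup H, M = N ⊓ Subgroup.normalizer ((P : Subgroup H) : Set H) :=
    ⟨_, rfl⟩
  have hPM : (P : Subgroup H) ≤ M := hM ▸ le_inf hPN Subgroup.le_normalizer
  have hMN : M ≤ Subgroup.normalizer ((P : Subgroup H) : Set H) := hM ▸ inf_le_right
  have hd1 : Nat.card M ∣ 55 := hNm ▸ Subgroup.card_dvd_of_le hMN
  have hd2 : 11 ∣ Nat.card M := hP ▸ Subgroup.card_dvd_of_le hPM
  have hcases : Nat.card M = 11 ∨ Nat.card M = 55 := by
    have : Nat.card M ∈ Nat.divisors 55 := Nat.mem_divisors.mpr ⟨hd1, by norm_num⟩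
    have h55 : Nat.divisors 55 = {1, 5, 11, 55} := by decide
    rw [h55] at this
    simp only [Finset.mem_insert, Finset.mem_singleton] at this
    rcases this with h | h | h | h
    · rw [h] at hd2; omega
    · rw [h] at hd2; omega
    · left; exact h
    · right; exact h
  rcases hcases with hc | hc
  · -- self-normalizing inside N: contradiction
    exfalso
    have hMP : M = P := (Subgroup.eq_of_le_of_card_ge hPM (by rw [hc, hP])).symm
    obtain ⟨P', hP'⟩ : ∃ P' : Sylow 11 N, P' = P.subtype hPN := ⟨_, rfl⟩
    have hP'coe : (P' : Subgroup N) = (P : Subgroup H).subgroupOf N := by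
      rw [hP', Sylow.coe_subtype]
    have hP'card : Nat.card P' = 11 := by
      rw [hP'coe]
      exact (Nat.card_congr (Subgroup.subgroupOfEquivOfLe hPN).toEquiv).trans hP
    have hself : Subgroup.normalizer ((P' : Subgroup N) : Set N) ≤ P' := by
      intro n hn
      rw [hP'coe, Subgroup.mem_subgroupOf, ← hMP, hM, Subgroup.mem_inf]
      refine ⟨n.2, ?_⟩
      rw [Subgroup.mem_normalizer_iff]
      intro y
      constructor
      · intro hy
        have h1 : (⟨y, hPN hy⟩ : N) ∈ (P' : Subgroup N) := by
          rw [hP'coe, Subgroup.mem_subgroupOf]; exact hy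
        have h2 := (Subgroup.mem_normalizer_iff.mp hn ⟨y, hPN hy⟩).mp h1
        rw [hP'coe, Subgroup.mem_subgroupOf] at h2
        exact h2
      · intro hy
        have hyN : y ∈ N := by
          have := N.mul_mem (N.mul_mem (N.inv_mem n.2) (hPN hy)) n.2
          simpa [mul_assoc] using this
        have h1 : (n * ⟨y, hyN⟩ * n⁻¹ : N) ∈ (P' : Subgroup N) := by
          rw [hP'coe, Subgroup.mem_subgroupOf]; exact hy
        have h2 := (Subgroup.mem_normalizer_iff.mp hn ⟨y, hyN⟩).mpr h1
        rw [hP'coe, Subgroup.mem_subgroupOf] at h2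
        exact h2
    have hp2 : ¬ 11 ^ 2 ∣ Nat.card N := by
      intro h
      have := h.trans (Subgroup.card_subgroup_dvd_card N)
      rw [hcard] at this
      norm_num at this
    have hNcard := card_eq_of_self_normalizing (N := N) (β := β) 11 hβ hp2 P' hP'card hself
    have hNP : (P : Subgroup H) = N := Subgroup.eq_of_le_of_card_ge hPN (by rw [hNcard, hP])
    have hnorm : Subgroup.normalizer ((P : Subgroup H) : Set H) = ⊤ := by
      rw [hNP]; exact Subgroup.normalizer_eq_top (H := N)
    rw [hnorm, Subgroup.card_top, hcard] at hNm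
    omega
  · have hMeq : M = Subgroup.normalizer ((P : Subgroup H) : Set H) :=
      Subgroup.eq_of_le_of_card_ge hMN (by rw [hc, hNm])
    have hle : Subgroup.normalizer ((P : Subgroup H) : Set H) ≤ N := by
      rw [← hMeq, hM]; exact inf_le_left
    have hfr := Sylow.normalizer_sup_eq_top' P hPN
    rw [← hfr]
    exact (sup_eq_right.mpr hle).symm



/-- A sharply 4-transitive group of degree 11 is simple of order 7920. -/
theorem result {α : Type*} [Fintype α] [DecidableEq α] (hα : Fintype.card α = 11) (G : Subgroup (Equiv.Perm α)) [MulAction.IsMultiplyPretransitive G α 4] (hsharp : ∀ x : Fin 4 ↪ α, MulAction.stabilizer G x = ⊥) : Cfsg.IsM11 G := by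
  exact simple_of_sharp4 (H := G) (β := α) hα hsharp

end Cfsg.Agent.S0418
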