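import Cfsg.Statements.S1603
import Cfsg.Agent.S5522
import Cfsg.Agent.Lib.Helper92.GL23Data

set_option autoImplicit false
open Cfsg

namespace Cfsg.Agent.S1603
open Cfsg.Agent.Lib.Helper7 Cfsg.Agent.Lib.Helper92 Cfsg.Agent.S5522 Cfsg.Agent.Lib.Helper92.GL23
open scoped Pointwise

/-! ### Moving a dodecad and a point of it to the dodecad of squares and the point `0` -/

/-- A word mapping the dodecad `d0` to the dodecad of squares and `∞` to `0`. -/
def tauW : List ℕ := [2, 1, 4, 0, 0, 3, 0, 3, 3]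

theorem tau_ok : (∀ j < 24, d0Mask.testBit j = true → dsqMask.testBit (m24Eval tauW j) = true) ∧
    m24Eval tauW 23 = 0 := by
  decide +kernel

theorem exists_to_sq {d : Finset GolayPt} (hd : d ∈ dodecads) {p : GolayPt} (hp : p ∈ d) :
    ∃ ρ ∈ M24, ρ • d = D ∧ ρ p = pt 0 := by
  obtain ⟨ρ0, hρ0, hρ0d, hρ0p⟩ := exists_map_dodecad_point hd hp
  refine ⟨m24Word tauW * ρ0, M24.mul_mem (m24Word_mem _) hρ0, ?_, ?_⟩
  · rw [mul_smul, hρ0d]
    exact m24Word_smul_setOf tauW d0Mask dsqMask rfl tau_ok.1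
  · rw [Equiv.Perm.mul_apply, hρ0p]
    show m24Word tauW (pt 23) = pt 0
    rw [m24Word_apply_pt _ (by norm_num), tau_ok.2]

/-! ### Every involution is conjugate to the standard one -/

/-- The word of the standard involution. -/
abbrev w0 : List ℕ := candInvTab.getD 4 []

/-- The candidates other than the standard one are not involutions with only two fixed points. -/
def candChk : Bool := invZs.all fun z => z == 4 ||
  ((List.range 24).any fun j =>
    m24Eval (candInvTab.getD z [] ++ candInvTab.getD z []) j != j) ||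
  ((List.range 24).any fun q => dsqMask.testBit q && q != 0 && q != 1 &&
    m24Eval (candInvTab.getD z []) q == q)

set_option maxRecDepth 100000 in
theorem candChk_ok : candChk = true := by decide +kernel

theorem cand_cases {z : ℕ} (hz : z ∈ invZs) (hz4 : z ≠ 4) :
    (∃ j < 24, m24Eval (candInvTab.getD z [] ++ candInvTab.getD z []) j ≠ j) ∨
    ∃ q < 24, dsqMask.testBit q = true ∧ q ≠ 0 ∧ q ≠ 1 ∧ m24Eval (candInvTab.getD z []) q = q := by
  have h := List.all_eq_true.mp candChk_ok z hz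
  simp only [Bool.or_eq_true, beq_iff_eq, List.any_eq_true, List.mem_range, bne_iff_ne, ne_eq,
    Bool.and_eq_true] at h
  rcases h with (h | ⟨j, hj, hne⟩) | ⟨q, hq, ⟨⟨⟨h1, h2⟩, h3⟩, h4⟩⟩
  · exact absurd h hz4
  · left; exact ⟨j, hj, hne⟩
  · right; exact ⟨q, hq, h1, h2, h3, h4⟩

/-- The common conjugation step: conjugate an involution of the stabilizer of the dodecad of squares
and of the point `0`, with a fixed point `a`, a moved point `c` and a further point `e`, to one of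
the candidate words. -/
theorem conj_word {g : Equiv.Perm GolayPt} (hg : g ∈ stabM24 D) (h0 : g (pt 0) = pt 0)
    (h2 : g ^ 2 = 1) {a c e : GolayPt} (haD : a ∈ D) (ha0 : a ≠ pt 0) (hga : g a = a)
    (hcD : c ∈ D) (hgc : g c ≠ c) (heD : e ∈ D) (he0 : e ≠ pt 0) (hea : e ≠ a) (hec : e ≠ c)
    (hec' : e ≠ g c) :
    ∃ h ∈ stabM24 D, h (pt 0) = pt 0 ∧ h a = pt 1 ∧ h e = pt 4 ∧ ∃ z ∈ invZs,
      h (g e) = pt z ∧ h * g * h⁻¹ = m24Word (candInvTab.getD z []) := by
  have hgg : ∀ x, g (g x) = x := by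
    intro x
    have := congrArg (fun f : Equiv.Perm GolayPt => f x) h2
    simpa [pow_two] using this
  have hD : ∀ x, g x ∈ D ↔ x ∈ D := fun x => apply_mem_of_mem_stabM24 hg x
  have hp0 : pt 0 ∈ D := stdEmb_mem 0
  have hc0 : c ≠ pt 0 := fun e => hgc (by rw [e, h0])
  have hca : c ≠ a := fun e => hgc (by rw [e, hga])
  have hc'D : g c ∈ D := (hD c).mpr hcD
  have hc'0 : g c ≠ pt 0 := fun e => hc0 (g.injective (e.trans h0.symm))
  have hc'a : g c ≠ a := fun e => hca (g.injective (e.trans hga.symm))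
  obtain ⟨h, hh, hmap⟩ := exists_to_std [pt 0, a, c, g c, e] rfl
    (by
      simp only [List.nodup_cons, List.mem_cons, List.not_mem_nil, or_false, not_or,
        List.nodup_nil, and_true, not_false_eq_true]
      exact ⟨⟨ha0.symm, hc0.symm, hc'0.symm, he0.symm⟩, ⟨hca.symm, hc'a.symm, hea.symm⟩,
        ⟨hgc.symm, hec.symm⟩, hec'.symm⟩)
    (by
      intro q hq
      simp only [List.mem_cons, List.not_mem_nil, or_false] at hq
      rcases hq with rfl | rfl | rfl | rfl | rfl <;> assumption)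
  have m0 : h (pt 0) = pt 0 := hmap 0
  have m1 : h a = pt 1 := hmap 1
  have m2 : h c = pt 2 := hmap 2
  have m3 : h (g c) = pt 3 := hmap 3
  have m4 : h e = pt 4 := hmap 4
  have hhD : ∀ x, h x ∈ D ↔ x ∈ D := fun x => apply_mem_of_mem_stabM24 hh x
  set z := idx (h (g e)) with hz
  have hzlt : z < 24 := idx_lt _
  have hzpt : h (g e) = pt z := (pt_idx _).symm
  have hzD : dsqMask.testBit z = true := by
    have : h (g e) ∈ D := (hhD _).mpr ((hD _).mpr heD)
    exact mem_setOf.mp this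
  have hzn : z ∉ [0, 1, 2, 3] := by
    simp only [List.mem_cons, List.not_mem_nil, or_false, not_or]
    refine ⟨?_, ?_, ?_, ?_⟩
    · intro hz0
      rw [hz0, ← m0] at hzpt
      exact he0 (g.injective ((h.injective hzpt).trans h0.symm))
    · intro hz0
      rw [hz0, ← m1] at hzpt
      exact hea (g.injective ((h.injective hzpt).trans hga.symm))
    · intro hz0
      rw [hz0, ← m2] at hzpt
      exact hec' (g.injective ((h.injective hzpt).trans (hgg c).symm))
    · intro hz0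
      rw [hz0, ← m3] at hzpt
      exact hec (g.injective (h.injective hzpt))
  have hzmem := mem_invZs z hzlt hzD hzn
  obtain ⟨e0, e1, e2, e3, e4⟩ := candInv_ok2 z hzmem
  have hgw : h * g * h⁻¹ = m24Word (candInvTab.getD z []) := by
    apply conj_identify hg hh _ (candInv_ok1 z hzmem)
    intro i hi
    interval_cases i
    · rw [conj_apply m0, h0, m0, e0]
    · rw [conj_apply m1, hga, m1, e1]
    · rw [conj_apply m2, m3, e2]
    · rw [conj_apply m3, hgg, m2, e3]
    · rw [conj_apply m4, hzpt, e4]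
  exact ⟨h, hh, m0, m1, m4, z, hzmem, hzpt, hgw⟩

/-- An involution of the stabilizer of the dodecad of squares and of the point `0` is conjugate
there to the standard involution. -/
theorem inv_std {g : Equiv.Perm GolayPt} (hg : g ∈ stabM24 D) (h0 : g (pt 0) = pt 0)
    (h2 : g ^ 2 = 1) (hne : g ≠ 1) :
    ∃ h ∈ stabM24 D, h (pt 0) = pt 0 ∧ h * g * h⁻¹ = m24Word w0 := by
  have hD : ∀ x, g x ∈ D ↔ x ∈ D := fun x => apply_mem_of_mem_stabM24 hg x
  have hp0 : pt 0 ∈ D := stdEmb_mem 0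
  have : Fact (Nat.Prime 2) := ⟨Nat.prime_two⟩
  obtain ⟨a, haD, hga⟩ := exists_fixed_in g 2 h2 (D.erase (pt 0)) (by
      intro x
      rw [Finset.mem_erase, Finset.mem_erase, hD]
      constructor
      · rintro ⟨h1, h2⟩; exact ⟨fun e => h1 (g.injective (e.trans h0.symm)), h2⟩
      · rintro ⟨h1, h2⟩; exact ⟨fun e => h1 (by rw [e, h0]), h2⟩)
    (by rw [Finset.card_erase_of_mem hp0, D_card]; decide)
  rw [Finset.mem_erase] at haD
  obtain ⟨ha0, haD⟩ := haD
  obtain ⟨c, hcD, hgc⟩ := exists_moved hg hne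
  have hc0 : c ≠ pt 0 := fun e => hgc (by rw [e, h0])
  have hca : c ≠ a := fun e => hgc (by rw [e, hga])
  have hc'D : g c ∈ D := (hD c).mpr hcD
  -- a second fixed point
  have hfix2 : ∃ e ∈ D, e ≠ pt 0 ∧ e ≠ a ∧ g e = e := by
    by_contra hcon
    push Not at hcon
    obtain ⟨e, heD, he⟩ : ∃ e ∈ D, e ∉ ({pt 0, a, c, g c} : Finset GolayPt) := by
      apply Finset.exists_mem_notMem_of_card_lt_card
      calc _ ≤ 4 := Finset.card_le_four
        _ < _ := by rw [D_card]; decide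
    simp only [Finset.mem_insert, Finset.mem_singleton, not_or] at he
    obtain ⟨he0, hea, hec, hec'⟩ := he
    obtain ⟨h, hh, m0, m1, m4, z, hzmem, hzpt, hgw⟩ :=
      conj_word hg h0 h2 haD ha0 hga hcD hgc heD he0 hea hec hec'
    have hz4 : z ≠ 4 := by
      intro hz
      rw [hz, ← m4] at hzpt
      exact hcon e heD he0 hea (h.injective hzpt)
    rcases cand_cases hzmem hz4 with ⟨j, hj, hjne⟩ | ⟨q, hq, hqD, hq0, hq1, hfix⟩
    · apply hjne
      have h1 : m24Word (candInvTab.getD z [] ++ candInvTab.getD z []) = 1 := by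
        rw [m24Word_append', ← hgw]
        have : h * g * h⁻¹ * (h * g * h⁻¹) = h * (g * g) * h⁻¹ := by group
        rw [this, ← pow_two, h2]
        simp
      have h3 := m24Word_apply_pt (candInvTab.getD z [] ++ candInvTab.getD z []) hj
      rw [h1, Equiv.Perm.one_apply] at h3
      have h4 := congrArg idx h3
      rw [idx_pt hj, idx_pt (m24Eval_lt _ hj)] at h4
      exact h4.symm
    · -- the fixed point `q` of the conjugate gives a third fixed point of `g`
      have hy : g (h⁻¹ (pt q)) = h⁻¹ (pt q) := by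
        have h1 : (h * g * h⁻¹) (pt q) = pt q := by
          rw [hgw, m24Word_apply_pt _ hq, hfix]
        rw [Equiv.Perm.mul_apply, Equiv.Perm.mul_apply] at h1
        have := congrArg (fun y => h⁻¹ y) h1
        simpa using this
      have hyD : h⁻¹ (pt q) ∈ D := by
        have h1 : h (h⁻¹ (pt q)) = pt q := by simp
        rw [← apply_mem_of_mem_stabM24 hh, h1, mem_setOf, idx_pt hq]
        exact hqD
      have hne_of : ∀ {x : GolayPt} {i : ℕ}, i < 24 → h x = pt i → q ≠ i → h⁻¹ (pt q) ≠ x := by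
        intro x i hi hx hqi hxe
        have h1 : h (h⁻¹ (pt q)) = pt q := by simp
        rw [hxe, hx] at h1
        have := congrArg idx h1
        rw [idx_pt hi, idx_pt hq] at this
        exact hqi this.symm
      exact hcon _ hyD (hne_of (by norm_num) m0 hq0) (hne_of (by norm_num) m1 hq1) hy
  obtain ⟨e, heD, he0, hea, hge⟩ := hfix2
  have hec : e ≠ c := fun h => hgc (by rw [← h, hge])
  have hec' : e ≠ g c := fun h => hec (g.injective (hge.trans h))
  obtain ⟨h, hh, m0, m1, m4, z, hzmem, hzpt, hgw⟩ :=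
    conj_word hg h0 h2 haD ha0 hga hcD hgc heD he0 hea hec hec'
  have hz4 : z = 4 := by
    rw [hge, m4] at hzpt
    have := congrArg idx hzpt
    rw [idx_pt (by norm_num), idx_pt (by
      have := mem_invZs
      simp only [invZs, List.mem_cons, List.not_mem_nil, or_false] at hzmem
      omega)] at this
    exact this.symm
  rw [hz4] at hgw
  exact ⟨h, hh, m0, hgw⟩

/-! ### The centralizer of the standard involution -/

/-- The centralizer of the standard involution in the stabilizer of the dodecad of squares and of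
the point `0`. -/
def C0 : Subgroup (Equiv.Perm GolayPt) :=
  stabM24Pt D (pt 0) ⊓ Subgroup.centralizer {m24Word w0}

theorem mem_C0 {c : Equiv.Perm GolayPt} :
    c ∈ C0 ↔ c ∈ stabM24 D ∧ c (pt 0) = pt 0 ∧ m24Word w0 * c = c * m24Word w0 := by
  unfold C0
  rw [Subgroup.mem_inf, mem_stabM24Pt, Subgroup.mem_centralizer_iff, and_assoc]
  simp

theorem m24Eval_append (u v : List ℕ) (j : ℕ) :
    m24Eval (u ++ v) j = m24Eval u (m24Eval v j) := by
  simp [m24Eval, List.foldr_append]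

theorem m24Word_eq_of_eval {u v : List ℕ} (h : ∀ j < 24, m24Eval u j = m24Eval v j) :
    m24Word u = m24Word v := by
  apply Equiv.ext
  intro p
  rw [m24Word_apply, m24Word_apply, h _ (idx_lt p)]

theorem eval_eq_of_m24Word_eq {u v : List ℕ} (h : m24Word u = m24Word v) :
    ∀ j < 24, m24Eval u j = m24Eval v j := by
  intro j hj
  have h1 := m24Word_apply_pt u hj
  rw [h, m24Word_apply_pt v hj] at h1
  have h2 := congrArg idx h1
  rw [idx_pt (m24Eval_lt _ hj), idx_pt (m24Eval_lt _ hj)] at h2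
  exact h2.symm

theorem w0_eval {j : ℕ} (hj : j < 24) : m24Eval w0 j = t0 j := by
  have h := List.all_eq_true.mp chk0_ok j (List.mem_range.mpr hj)
  simpa using h

theorem g0_apply {j : ℕ} (hj : j < 24) : m24Word w0 (pt j) = pt (t0 j) := by
  rw [m24Word_apply_pt _ hj, w0_eval hj]

/-- Unpacking the table checks. -/
theorem glW_eval {n : ℕ} (hn : n < 81) (hv : validN n = true) {j : ℕ} (hj : j < 24) :
    m24Eval (glW.getD n []) j = tl n j := by
  have h := List.all_eq_true.mp chk1_ok n (List.mem_range.mpr hn)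
  rw [hv] at h
  simp only [Bool.not_true, Bool.false_or, List.all_eq_true, List.mem_range, beq_iff_eq] at h
  exact h j hj

theorem tl_lt (n j : ℕ) (hn : n < 81) (hj : j < 24) : tl n j < 24 := by
  have h := List.all_eq_true.mp chk5_ok n (List.mem_range.mpr hn)
  simp only [List.all_eq_true, List.mem_range, decide_eq_true_eq] at h
  exact h j hj

theorem tl_mul {n m : ℕ} (hn : n < 81) (hm : m < 81) (hvn : validN n = true)
    (hvm : validN m = true) {j : ℕ} (hj : j < 24) : tl (mulN n m) j = tl n (tl m j) := by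
  have h := List.all_eq_true.mp (List.all_eq_true.mp chk2_ok n (List.mem_range.mpr hn)) m
    (List.mem_range.mpr hm)
  rw [hvn, hvm] at h
  simp only [Bool.not_true, Bool.false_or, List.all_eq_true, List.mem_range, beq_iff_eq] at h
  exact h j hj

theorem tl_id {n : ℕ} (hn : n < 81) (hv : validN n = true) (hid : ∀ j < 24, tl n j = j) :
    n = 28 := by
  have h := List.all_eq_true.mp chk3_ok n (List.mem_range.mpr hn)
  rw [hv] at h
  simp only [Bool.not_true, Bool.false_or, Bool.or_eq_true, beq_iff_eq, List.any_eq_true,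
    List.mem_range, bne_iff_ne, ne_eq] at h
  rcases h with h | ⟨j, hj, hne⟩
  · exact h
  · exact absurd (hid j hj) hne

theorem tl_mem {n : ℕ} (hn : n < 81) (hv : validN n = true) :
    (∀ j < 24, dsqMask.testBit j = true → dsqMask.testBit (tl n j) = true) ∧ tl n 0 = 0 ∧
      ∀ j < 24, tl n (t0 j) = t0 (tl n j) := by
  have h := List.all_eq_true.mp chk4_ok n (List.mem_range.mpr hn)
  rw [hv] at h
  simp only [Bool.not_true, Bool.false_or, Bool.and_eq_true, List.all_eq_true, List.mem_range,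
    Bool.or_eq_true, Bool.not_eq_eq_eq_not, beq_iff_eq] at h
  obtain ⟨⟨h1, h2⟩, h3⟩ := h
  refine ⟨?_, h2, h3⟩
  intro j hj hb
  rcases h1 j hj with h | h
  · rw [hb] at h; exact absurd h (by decide)
  · exact h

theorem t0_lt : ∀ j < 24, t0 j < 24 := by decide

/-- The words of valid codes lie in the centralizer. -/
theorem glW_mem {n : ℕ} (hn : n < 81) (hv : validN n = true) : m24Word (glW.getD n []) ∈ C0 := by
  obtain ⟨h1, h2, h3⟩ := tl_mem hn hv
  rw [mem_C0]
  refine ⟨?_, ?_, ?_⟩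
  · rw [mem_stabM24]
    refine ⟨m24Word_mem _, m24Word_smul_setOf _ dsqMask dsqMask rfl ?_⟩
    intro j hj hb
    rw [glW_eval hn hv hj]
    exact h1 j hj hb
  · rw [m24Word_apply_pt _ (by norm_num), glW_eval hn hv (by norm_num), h2]
  · rw [← m24Word_append', ← m24Word_append']
    apply m24Word_eq_of_eval
    intro j hj
    rw [m24Eval_append, m24Eval_append, glW_eval hn hv hj, w0_eval (tl_lt n j hn hj),
      w0_eval hj, glW_eval hn hv (t0_lt j hj)]
    exact (h3 j hj).symm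

/-! ### The map from `GL(2,3)` -/

/-- The code of a matrix. -/
def code (g : GL (Fin 2) (ZMod 3)) : ℕ :=
  codeOf (g.1 0 0).val (g.1 0 1).val (g.1 1 0).val (g.1 1 1).val

theorem digits_codeOf_aux : ∀ a ∈ List.range 3, ∀ b ∈ List.range 3, ∀ c ∈ List.range 3,
    ∀ d ∈ List.range 3,
    codeOf a b c d < 81 ∧ dA (codeOf a b c d) = a ∧ dB (codeOf a b c d) = b ∧
      dC (codeOf a b c d) = c ∧ dD (codeOf a b c d) = d := by
  decide

theorem digits_codeOf (a : ℕ) (ha : a < 3) (b : ℕ) (hb : b < 3) (c : ℕ) (hc : c < 3) (d : ℕ)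
    (hd : d < 3) :
    codeOf a b c d < 81 ∧ dA (codeOf a b c d) = a ∧ dB (codeOf a b c d) = b ∧
      dC (codeOf a b c d) = c ∧ dD (codeOf a b c d) = d :=
  digits_codeOf_aux a (List.mem_range.mpr ha) b (List.mem_range.mpr hb) c (List.mem_range.mpr hc) d
    (List.mem_range.mpr hd)

theorem code_lt (g : GL (Fin 2) (ZMod 3)) : code g < 81 :=
  (digits_codeOf _ (ZMod.val_lt _) _ (ZMod.val_lt _) _ (ZMod.val_lt _) _ (ZMod.val_lt _)).1

theorem val_dot : ∀ x y z w : ZMod 3, (x * y + z * w).val = (x.val * y.val + z.val * w.val) % 3 := by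
  decide

theorem det_ne : ∀ a b c d : ZMod 3, a * d - b * c ≠ 0 →
    (a.val * d.val + 2 * b.val * c.val) % 3 ≠ 0 := by
  decide

theorem code_valid (g : GL (Fin 2) (ZMod 3)) : validN (code g) = true := by
  obtain ⟨_, hA, hB, hC, hD⟩ := digits_codeOf _ (ZMod.val_lt (g.1 0 0)) _ (ZMod.val_lt (g.1 0 1)) _
    (ZMod.val_lt (g.1 1 0)) _ (ZMod.val_lt (g.1 1 1))
  unfold validN code
  rw [hA, hB, hC, hD]
  have hdet : (g.1).det ≠ 0 := by
    have := (Matrix.isUnits_det_units g).ne_zero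
    exact this
  rw [Matrix.det_fin_two] at hdet
  simpa using det_ne _ _ _ _ hdet

theorem code_mul (g h : GL (Fin 2) (ZMod 3)) : code (g * h) = mulN (code g) (code h) := by
  obtain ⟨_, hA, hB, hC, hD⟩ := digits_codeOf _ (ZMod.val_lt (g.1 0 0)) _ (ZMod.val_lt (g.1 0 1)) _
    (ZMod.val_lt (g.1 1 0)) _ (ZMod.val_lt (g.1 1 1))
  obtain ⟨_, hA', hB', hC', hD'⟩ := digits_codeOf _ (ZMod.val_lt (h.1 0 0)) _
    (ZMod.val_lt (h.1 0 1)) _ (ZMod.val_lt (h.1 1 0)) _ (ZMod.val_lt (h.1 1 1))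
  unfold mulN
  have e : ∀ i j, (g * h).1 i j = g.1 i 0 * h.1 0 j + g.1 i 1 * h.1 1 j := by
    intro i j
    rw [Units.val_mul, Matrix.mul_apply, Fin.sum_univ_two]
  show codeOf ((g * h).1 0 0).val ((g * h).1 0 1).val ((g * h).1 1 0).val ((g * h).1 1 1).val = _
  rw [e, e, e, e, val_dot, val_dot, val_dot, val_dot]
  unfold code
  rw [hA, hB, hC, hD, hA', hB', hC', hD']

theorem code_one : code (1 : GL (Fin 2) (ZMod 3)) = 28 := by
  unfold code codeOf
  simp
  decide

theorem eq_one_of_code {g : GL (Fin 2) (ZMod 3)} (h : code g = 28) : g = 1 := by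
  unfold code codeOf at h
  have h00 := ZMod.val_lt (g.1 0 0)
  have h01 := ZMod.val_lt (g.1 0 1)
  have h10 := ZMod.val_lt (g.1 1 0)
  have h11 := ZMod.val_lt (g.1 1 1)
  have e00 : (g.1 0 0).val = 1 := by omega
  have e01 : (g.1 0 1).val = 0 := by omega
  have e10 : (g.1 1 0).val = 0 := by omega
  have e11 : (g.1 1 1).val = 1 := by omega
  have f : ∀ x : ZMod 3, x.val = 1 → x = 1 := by decide
  have f0 : ∀ x : ZMod 3, x.val = 0 → x = 0 := by decide
  apply Units.ext
  ext i j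
  fin_cases i <;> fin_cases j
  · simpa using f _ e00
  · simpa using f0 _ e01
  · simpa using f0 _ e10
  · simpa using f _ e11

/-- The homomorphism from `GL(2,3)` to the centralizer. -/
noncomputable def Phi : GL (Fin 2) (ZMod 3) →* ↥C0 :=
  MonoidHom.mk' (fun g => ⟨m24Word (glW.getD (code g) []), glW_mem (code_lt g) (code_valid g)⟩)
    (by
      intro g h
      apply Subtype.ext
      show m24Word (glW.getD (code (g * h)) []) =
        m24Word (glW.getD (code g) []) * m24Word (glW.getD (code h) [])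
      rw [← m24Word_append']
      apply m24Word_eq_of_eval
      intro j hj
      rw [m24Eval_append, glW_eval (code_lt _) (code_valid _) hj,
        glW_eval (code_lt h) (code_valid h) hj,
        glW_eval (code_lt g) (code_valid g) (tl_lt _ _ (code_lt h) hj), code_mul,
        tl_mul (code_lt g) (code_lt h) (code_valid g) (code_valid h) hj])

theorem Phi_injective : Function.Injective Phi := by
  rw [injective_iff_map_eq_one]
  intro g hg
  have h1 : m24Word (glW.getD (code g) []) = m24Word [] := congrArg Subtype.val hg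
  have h2 := eval_eq_of_m24Word_eq h1
  apply eq_one_of_code
  apply tl_id (code_lt g) (code_valid g)
  intro j hj
  rw [← glW_eval (code_lt g) (code_valid g) hj, h2 j hj]
  rfl

/-! ### The order of the centralizer -/

theorem fix_cases : ∀ j ∈ List.range 24, dsqMask.testBit j = true → j ≠ 0 → t0 j = j →
    j ∈ [1, 4, 12] := by decide

theorem mv_cases : ∀ j ∈ List.range 24, dsqMask.testBit j = true → t0 j ≠ j →
    j ∈ [2, 3, 6, 8, 9, 13, 16, 18] := by decide

theorem comm_apply {c : Equiv.Perm GolayPt} (hc : c ∈ C0) (x : GolayPt) :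
    m24Word w0 (c x) = c (m24Word w0 x) := by
  have := congrArg (fun f : Equiv.Perm GolayPt => f x) (mem_C0.mp hc).2.2
  simpa [Equiv.Perm.mul_apply] using this

theorem pt_inj {i j : ℕ} (hi : i < 24) (hj : j < 24) (h : pt i = pt j) : i = j := by
  have := congrArg idx h
  rwa [idx_pt hi, idx_pt hj] at this

/-- The index of the image of a point of `D` under an element of the centralizer. -/
theorem img_props {c : Equiv.Perm GolayPt} (hc : c ∈ C0) {j : ℕ} (hj : j < 24)
    (hjD : dsqMask.testBit j = true) :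
    dsqMask.testBit (idx (c (pt j))) = true ∧
      (t0 (idx (c (pt j))) = idx (c (pt j)) ↔ t0 j = j) ∧ (idx (c (pt j)) = 0 ↔ j = 0) := by
  obtain ⟨hcD, hc0, _⟩ := mem_C0.mp hc
  set i := idx (c (pt j)) with hi
  have hilt : i < 24 := idx_lt _
  have hq : c (pt j) = pt i := (pt_idx _).symm
  have key : pt (t0 i) = c (pt (t0 j)) := by
    rw [← g0_apply hilt, ← hq, comm_apply hc, g0_apply hj]
  refine ⟨?_, ⟨?_, ?_⟩, ⟨?_, ?_⟩⟩
  · have : c (pt j) ∈ D := by
      rw [apply_mem_of_mem_stabM24 hcD, mem_setOf, idx_pt hj]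
      exact hjD
    exact mem_setOf.mp this
  · intro h
    rw [h, ← hq] at key
    exact (pt_inj hj (t0_lt j hj) (c.injective key)).symm
  · intro h
    rw [h, hq] at key
    exact pt_inj (t0_lt i hilt) hilt key
  · intro h
    rw [h, ← hc0] at hq
    exact pt_inj hj (by norm_num) (c.injective hq)
  · intro h
    rw [hi, h, hc0, idx_pt (by norm_num)]

/-- The target of the counting map. -/
def S48 : Finset (ℕ × ℕ × ℕ) :=
  ((({1, 4, 12} : Finset ℕ) ×ˢ ({1, 4, 12} : Finset ℕ) ×ˢ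
    ({2, 3, 6, 8, 9, 13, 16, 18} : Finset ℕ))).filter fun x => x.1 ≠ x.2.1

theorem S48_card : S48.card = 48 := by decide

/-- The counting map. -/
def fS (c : ↥C0) : ℕ × ℕ × ℕ :=
  (idx (c.1 (pt 1)), idx (c.1 (pt 4)), idx (c.1 (pt 2)))

theorem fS_mem (c : ↥C0) : fS c ∈ S48 := by
  obtain ⟨a1, a2, a3⟩ := img_props c.2 (j := 1) (by norm_num) (by decide)
  obtain ⟨b1, b2, b3⟩ := img_props c.2 (j := 4) (by norm_num) (by decide)
  obtain ⟨c1, c2, c3⟩ := img_props c.2 (j := 2) (by norm_num) (by decide)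
  have ha := fix_cases _ (List.mem_range.mpr (idx_lt (c.1 (pt 1)))) a1
    (fun h => absurd (a3.mp h) (by norm_num)) (a2.mpr (by decide))
  have hb := fix_cases _ (List.mem_range.mpr (idx_lt (c.1 (pt 4)))) b1
    (fun h => absurd (b3.mp h) (by norm_num)) (b2.mpr (by decide))
  have hc := mv_cases _ (List.mem_range.mpr (idx_lt (c.1 (pt 2)))) c1
    (fun h => absurd (c2.mp h) (by decide))
  have hne : idx (c.1 (pt 1)) ≠ idx (c.1 (pt 4)) := by
    intro h
    have h1 : c.1 (pt 1) = c.1 (pt 4) := by rw [← pt_idx (c.1 (pt 1)), h, pt_idx]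
    exact absurd (pt_inj (by norm_num) (by norm_num) (c.1.injective h1)) (by norm_num)
  unfold S48 fS
  rw [Finset.mem_filter, Finset.mem_product, Finset.mem_product]
  refine ⟨⟨?_, ?_, ?_⟩, hne⟩
  · simpa using ha
  · simpa using hb
  · simpa using hc

theorem fS_injective : Function.Injective fS := by
  intro c c' h
  unfold fS at h
  simp only [Prod.mk.injEq] at h
  obtain ⟨h1, h4, h2⟩ := h
  have e1 : c.1 (pt 1) = c'.1 (pt 1) := by rw [← pt_idx (c.1 (pt 1)), h1, pt_idx]
  have e4 : c.1 (pt 4) = c'.1 (pt 4) := by rw [← pt_idx (c.1 (pt 4)), h4, pt_idx]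
  have e2 : c.1 (pt 2) = c'.1 (pt 2) := by rw [← pt_idx (c.1 (pt 2)), h2, pt_idx]
  have e0 : c.1 (pt 0) = c'.1 (pt 0) := by
    rw [(mem_C0.mp c.2).2.1, (mem_C0.mp c'.2).2.1]
  have g23 : m24Word w0 (pt 2) = pt 3 := by
    rw [g0_apply (by norm_num)]; rfl
  have e3 : c.1 (pt 3) = c'.1 (pt 3) := by
    rw [← g23, ← comm_apply c.2, ← comm_apply c'.2, e2]
  let y : Fin 5 ↪ GolayPt := stdEmb.trans c.1.toEmbedding
  have hy : ∀ i, y i ∈ D := by
    intro i
    show c.1 (stdEmb i) ∈ _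
    rw [apply_mem_of_mem_stabM24 (mem_C0.mp c.2).1]
    exact stdEmb_mem i
  obtain ⟨k, _, huniq⟩ := existsUnique_stabM24_map dsq_mem_dodecads stdEmb y stdEmb_mem hy
  have hk1 : c.1 = k := huniq c.1 ⟨(mem_C0.mp c.2).1, fun i => rfl⟩
  have hk2 : c'.1 = k := by
    apply huniq
    refine ⟨(mem_C0.mp c'.2).1, ?_⟩
    intro i
    show c'.1 (pt i.val) = c.1 (pt i.val)
    fin_cases i
    · exact e0.symm
    · exact e1.symm
    · exact e2.symm
    · exact e3.symm
    · exact e4.symm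
  exact Subtype.ext (hk1.trans hk2.symm)

theorem card_C0_le : Nat.card ↥C0 ≤ 48 := by
  have h : Nat.card ↥C0 ≤ Nat.card ↥S48 :=
    Nat.card_le_card_of_injective (fun c => (⟨fS c, fS_mem c⟩ : ↥S48))
      (fun a b h => fS_injective (congrArg Subtype.val h))
  have h2 : Nat.card ↥S48 = 48 := by
    rw [Nat.card_eq_fintype_card, Fintype.card_coe, S48_card]
  rwa [h2] at h

theorem card_GL23 : Nat.card (GL (Fin 2) (ZMod 3)) = 48 := by
  rw [Matrix.card_GL_field]
  simp [Fin.prod_univ_two, ZMod.card]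

theorem Phi_bijective : Function.Bijective Phi := by
  apply Phi_injective.bijective_of_nat_card_le
  rw [card_GL23]
  exact card_C0_le

/-! ### The bridge to the statement -/

theorem mem_K {d : Finset GolayPt} {p : GolayPt} (k : ↥M24) :
    k ∈ MulAction.stabilizer Cfsg.M24 d ⊓ MulAction.stabilizer Cfsg.M24 p ↔
      (k : Equiv.Perm GolayPt) ∈ stabM24Pt d p := by
  rw [Subgroup.mem_inf, MulAction.mem_stabilizer_iff, MulAction.mem_stabilizer_iff, M24_smul_def,
    M24_smul_finset_def, mem_stabM24Pt, mem_stabM24]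
  constructor
  · rintro ⟨h1, h2⟩; exact ⟨⟨k.2, h1⟩, h2⟩
  · rintro ⟨⟨_, h1⟩, h2⟩; exact ⟨h1, h2⟩

theorem conj_mem_C0 {d : Finset GolayPt} {p : GolayPt} {σ : Equiv.Perm GolayPt} (hσ : σ ∈ M24)
    (hσd : σ • d = D) (hσp : σ p = pt 0) {g k : Equiv.Perm GolayPt}
    (hσg : σ * g * σ⁻¹ = m24Word w0) (hk : k ∈ stabM24Pt d p) (hcomm : g * k = k * g) :
    σ * k * σ⁻¹ ∈ C0 := by
  rw [mem_C0]
  have h1 := (conj_mem_stabM24Pt hσ d p).mp hk
  rw [hσd, hσp, mem_stabM24Pt] at h1
  refine ⟨h1.1, h1.2, ?_⟩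
  rw [← hσg]
  have e1 : σ * g * σ⁻¹ * (σ * k * σ⁻¹) = σ * (g * k) * σ⁻¹ := by group
  have e2 : σ * k * σ⁻¹ * (σ * g * σ⁻¹) = σ * (k * g) * σ⁻¹ := by group
  rw [e1, e2, hcomm]

theorem conj_inv_mem {d : Finset GolayPt} {p : GolayPt} {σ : Equiv.Perm GolayPt} (hσ : σ ∈ M24)
    (hσd : σ • d = D) (hσp : σ p = pt 0) {g c : Equiv.Perm GolayPt}
    (hσg : σ * g * σ⁻¹ = m24Word w0) (hc : c ∈ C0) :
    σ⁻¹ * c * σ ∈ stabM24Pt d p ∧ g * (σ⁻¹ * c * σ) = (σ⁻¹ * c * σ) * g := by
  obtain ⟨h1, h2, h3⟩ := mem_C0.mp hc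
  constructor
  · rw [conj_mem_stabM24Pt hσ d p, hσd, hσp, mem_stabM24Pt]
    have : σ * (σ⁻¹ * c * σ) * σ⁻¹ = c := by group
    rw [this]; exact ⟨h1, h2⟩
  · have hg : g = σ⁻¹ * m24Word w0 * σ := by rw [← hσg]; group
    rw [hg]
    have e1 : σ⁻¹ * m24Word w0 * σ * (σ⁻¹ * c * σ) = σ⁻¹ * (m24Word w0 * c) * σ := by group
    have e2 : σ⁻¹ * c * σ * (σ⁻¹ * m24Word w0 * σ) = σ⁻¹ * (c * m24Word w0) * σ := by group
    rw [e1, e2, h3]

/-- Conjugation carries the centralizer of the statement to the standard centralizer. -/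
noncomputable def bridgeEquiv {d : Finset GolayPt} {p : GolayPt} {σ : Equiv.Perm GolayPt}
    (hσ : σ ∈ M24) (hσd : σ • d = D) (hσp : σ p = pt 0)
    (x : ↥(MulAction.stabilizer Cfsg.M24 d ⊓ MulAction.stabilizer Cfsg.M24 p))
    (hσx : σ * ((x : ↥M24) : Equiv.Perm GolayPt) * σ⁻¹ = m24Word w0) :
    ↥(Subgroup.centralizer
      ({x} : Set ↥(MulAction.stabilizer Cfsg.M24 d ⊓ MulAction.stabilizer Cfsg.M24 p))) ≃* ↥C0 where
  toFun k := ⟨σ * ((k.1 : ↥M24) : Equiv.Perm GolayPt) * σ⁻¹, by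
    apply conj_mem_C0 hσ hσd hσp hσx ((mem_K k.1.1).mp k.1.2)
    have h := Subgroup.mem_centralizer_iff.mp k.2 x rfl
    have h2 := congrArg (fun z : ↥(MulAction.stabilizer Cfsg.M24 d ⊓
      MulAction.stabilizer Cfsg.M24 p) => ((z : ↥M24) : Equiv.Perm GolayPt)) h
    exact h2⟩
  invFun c := ⟨⟨⟨σ⁻¹ * c.1 * σ,
      (mem_stabM24.mp (mem_stabM24Pt.mp (conj_inv_mem hσ hσd hσp hσx c.2).1).1).1⟩,
      (mem_K _).mpr (conj_inv_mem hσ hσd hσp hσx c.2).1⟩, by
    rw [Subgroup.mem_centralizer_iff]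
    intro y hy
    rw [Set.mem_singleton_iff] at hy
    subst hy
    apply Subtype.ext
    apply Subtype.ext
    exact (conj_inv_mem hσ hσd hσp hσx c.2).2⟩
  left_inv k := by
    apply Subtype.ext
    apply Subtype.ext
    apply Subtype.ext
    show σ⁻¹ * (σ * ((k.1 : ↥M24) : Equiv.Perm GolayPt) * σ⁻¹) * σ = _
    group
  right_inv c := by
    apply Subtype.ext
    show σ * (σ⁻¹ * c.1 * σ) * σ⁻¹ = _
    group
  map_mul' a b := by
    apply Subtype.ext
    show σ * (((a.1 : ↥M24) : Equiv.Perm GolayPt) * ((b.1 : ↥M24) : Equiv.Perm GolayPt)) * σ⁻¹ =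
      σ * ((a.1 : ↥M24) : Equiv.Perm GolayPt) * σ⁻¹ *
        (σ * ((b.1 : ↥M24) : Equiv.Perm GolayPt) * σ⁻¹)
    group

/-- The involution of the statement is conjugate to the standard one. -/
theorem exists_conj {d : Finset GolayPt} (hd : d ∈ dodecads) {p : GolayPt} (hp : p ∈ d)
    (x : ↥(MulAction.stabilizer Cfsg.M24 d ⊓ MulAction.stabilizer Cfsg.M24 p))
    (hx : orderOf x = 2) :
    ∃ σ ∈ M24, σ • d = D ∧ σ p = pt 0 ∧
      σ * ((x : ↥M24) : Equiv.Perm GolayPt) * σ⁻¹ = m24Word w0 := by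
  obtain ⟨ρ, hρ, hρd, hρp⟩ := exists_to_sq hd hp
  set g : Equiv.Perm GolayPt := ((x : ↥M24) : Equiv.Perm GolayPt) with hgdef
  have hgK : g ∈ stabM24Pt d p := (mem_K x.1).mp x.2
  have hx2 : x ^ 2 = 1 := by rw [← hx]; exact pow_orderOf_eq_one x
  have hg2 : g ^ 2 = 1 := by
    have := congrArg (fun z : ↥(MulAction.stabilizer Cfsg.M24 d ⊓
      MulAction.stabilizer Cfsg.M24 p) => ((z : ↥M24) : Equiv.Perm GolayPt)) hx2
    simpa using this
  have hg1 : g ≠ 1 := by
    intro h
    have hx1 : x = 1 := by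
      apply Subtype.ext
      apply Subtype.ext
      exact h
    rw [hx1, orderOf_one] at hx
    norm_num at hx
  have hg' := (conj_mem_stabM24Pt hρ d p).mp hgK
  rw [hρd, hρp, mem_stabM24Pt] at hg'
  have hg'2 : (ρ * g * ρ⁻¹) ^ 2 = 1 := by
    have : (ρ * g * ρ⁻¹) ^ 2 = ρ * g ^ 2 * ρ⁻¹ := by
      rw [pow_two, pow_two]; group
    rw [this, hg2]; group
  have hg'1 : ρ * g * ρ⁻¹ ≠ 1 := by
    intro h
    apply hg1
    have : g = ρ⁻¹ * (ρ * g * ρ⁻¹) * ρ := by group
    rw [this, h]; group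
  obtain ⟨h, hh, hh0, hconj⟩ := inv_std hg'.1 hg'.2 hg'2 hg'1
  refine ⟨h * ρ, M24.mul_mem (mem_stabM24.mp hh).1 hρ, ?_, ?_, ?_⟩
  · rw [mul_smul, hρd]; exact (mem_stabM24.mp hh).2
  · rw [Equiv.Perm.mul_apply, hρp, hh0]
  · rw [← hconj]; group

/-- Involution centralisers in the smallest Mathieu group are isomorphic to GL(2, 3). -/
theorem result (d : Finset Cfsg.GolayPt) (hd : d ∈ Cfsg.dodecads) (p : Cfsg.GolayPt) (hp : p ∈ d) (x : ↥(MulAction.stabilizer Cfsg.M24 d ⊓ MulAction.stabilizer Cfsg.M24 p)) (hx : orderOf x = 2) : Nonempty (↥(Subgroup.centralizer ({x} : Set ↥(MulAction.stabilizer Cfsg.M24 d ⊓ MulAction.stabilizer Cfsg.M24 p))) ≃* GL (Fin 2) (ZMod 3)) := by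
  
  obtain ⟨σ, hσ, hσd, hσp, hσx⟩ := exists_conj hd hp x hx
  exact ⟨(bridgeEquiv hσ hσd hσp x hσx).trans (MulEquiv.ofBijective Phi Phi_bijective).symm⟩


end Cfsg.Agent.S1603
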