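import Cfsg.Statements.S2060
import Cfsg.Agent.S5522
import Cfsg.Agent.Lib.Helper92.M24Index
import Cfsg.Agent.Lib.Helper92.AutPerm

set_option autoImplicit false
open Cfsg

namespace Cfsg.Agent.S2060
open Cfsg.Agent.Lib.Helper7 Cfsg.Agent.Lib.Helper92 Cfsg.Agent.S5522
  Cfsg.Agent.Lib.Helper92.PermCount Cfsg.Agent.Lib.Helper92.M24Index Cfsg.Agent.Lib.Helper92.AutPerm
open scoped Pointwise

/-! ### The action of `M11` on the eleven points of the dodecad of squares other than `0` -/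

theorem card_M11 : Nat.card ↥Spor.M11 = 7920 := by
  have h := card_stabM24Pt dsq_mem_dodecads (p := pt 0) (by rw [mem_setOf]; decide)
  have heq : (Spor.M11 : Subgroup (Equiv.Perm GolayPt)) = stabM24Pt D (pt 0) := by
    ext g
    rw [mem_M11_iff, mem_stabM24Pt]
  rw [heq]
  exact h

/-- The eleven points. -/
def pts : SubMulAction ↥Spor.M11 GolayPt where
  carrier := {p | p ∈ D ∧ p ≠ pt 0}
  smul_mem' := by
    intro g p hp
    obtain ⟨hg, h0⟩ := mem_M11_iff.mp g.2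
    refine ⟨(apply_mem_of_mem_stabM24 hg _).mpr hp.1, fun h => hp.2 ?_⟩
    exact (g : Equiv.Perm GolayPt).injective (h.trans h0.symm)

theorem mem_pts {p : GolayPt} : p ∈ pts ↔ p ∈ D ∧ p ≠ pt 0 := Iff.rfl

theorem smul_val (g : ↥Spor.M11) (q : ↥pts) :
    ((g • q : ↥pts) : GolayPt) = (g : Equiv.Perm GolayPt) (q : GolayPt) := rfl

theorem card_pts : Nat.card ↥pts = 11 := by
  have h1 : Nat.card ↥pts = Nat.card {p : GolayPt // p ∈ D ∧ p ≠ pt 0} := rfl
  rw [h1, Nat.card_eq_fintype_card, Fintype.card_subtype]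
  decide

/-- Two more points of `D` outside a small set. -/
theorem exists_two_more (s : Finset GolayPt) (hcard : s.card ≤ 3) :
    ∃ a b, a ∈ D ∧ b ∈ D ∧ a ∉ s ∧ b ∉ s ∧ a ≠ b := by
  have h1 : 1 < (D \ s).card := by
    have := Finset.le_card_sdiff s D
    rw [D_card] at this
    omega
  obtain ⟨a, ha, b, hb, hab⟩ := Finset.one_lt_card.mp h1
  rw [Finset.mem_sdiff] at ha hb
  exact ⟨a, b, ha.1, hb.1, ha.2, hb.2, hab⟩

/-- Map one duplicate-free list of five points of `D` to another. -/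
theorem exists_map_lists (l l' : List GolayPt) (hl : l.length = 5) (hl' : l'.length = 5)
    (hn : l.Nodup) (hn' : l'.Nodup) (hD : ∀ q ∈ l, q ∈ D) (hD' : ∀ q ∈ l', q ∈ D) :
    ∃ h ∈ stabM24 D, ∀ i : Fin 5, h (l.get (i.cast hl.symm)) = l'.get (i.cast hl'.symm) := by
  obtain ⟨h1, hh1, hmap1⟩ := exists_to_std l hl hn hD
  obtain ⟨h2, hh2, hmap2⟩ := exists_to_std l' hl' hn' hD'
  refine ⟨h2⁻¹ * h1, (stabM24 D).mul_mem ((stabM24 D).inv_mem hh2) hh1, fun i => ?_⟩
  rw [Equiv.Perm.mul_apply, hmap1 i, ← hmap2 i]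
  simp

/-- `M11` is 2-transitive on the eleven points. -/
theorem exists_map2 {x y x' y' : GolayPt} (hx : x ∈ pts) (hy : y ∈ pts) (hx' : x' ∈ pts)
    (hy' : y' ∈ pts) (hxy : x ≠ y) (hxy' : x' ≠ y') :
    ∃ g : ↥Spor.M11, (g : Equiv.Perm GolayPt) x = x' ∧ (g : Equiv.Perm GolayPt) y = y' := by
  obtain ⟨a, b, ha, hb, has, hbs, hab⟩ := exists_two_more {pt 0, x, y} Finset.card_le_three
  obtain ⟨a', b', ha', hb', has', hbs', hab'⟩ := exists_two_more {pt 0, x', y'} Finset.card_le_three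
  simp only [Finset.mem_insert, Finset.mem_singleton, not_or] at has hbs has' hbs'
  have h0D : pt 0 ∈ D := by rw [mem_setOf]; decide
  obtain ⟨h, hh, hmap⟩ := exists_map_lists [pt 0, x, y, a, b] [pt 0, x', y', a', b'] rfl rfl
    (by
      simp only [List.nodup_cons, List.mem_cons, List.not_mem_nil, or_false, not_or,
        List.nodup_nil, and_true]
      exact ⟨⟨Ne.symm hx.2, Ne.symm hy.2, Ne.symm has.1, Ne.symm hbs.1⟩,
        ⟨hxy, Ne.symm has.2.1, Ne.symm hbs.2.1⟩, ⟨Ne.symm has.2.2, Ne.symm hbs.2.2⟩, hab, not_false⟩)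
    (by
      simp only [List.nodup_cons, List.mem_cons, List.not_mem_nil, or_false, not_or,
        List.nodup_nil, and_true]
      exact ⟨⟨Ne.symm hx'.2, Ne.symm hy'.2, Ne.symm has'.1, Ne.symm hbs'.1⟩,
        ⟨hxy', Ne.symm has'.2.1, Ne.symm hbs'.2.1⟩, ⟨Ne.symm has'.2.2, Ne.symm hbs'.2.2⟩, hab', not_false⟩)
    (by
      intro q hq
      simp only [List.mem_cons, List.not_mem_nil, or_false] at hq
      rcases hq with rfl | rfl | rfl | rfl | rfl
      exacts [h0D, hx.1, hy.1, ha, hb])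
    (by
      intro q hq
      simp only [List.mem_cons, List.not_mem_nil, or_false] at hq
      rcases hq with rfl | rfl | rfl | rfl | rfl
      exacts [h0D, hx'.1, hy'.1, ha', hb'])
  have e0 : h (pt 0) = pt 0 := hmap 0
  have e1 : h x = x' := hmap 1
  have e2 : h y = y' := hmap 2
  exact ⟨⟨h, mem_M11_iff.mpr ⟨hh, e0⟩⟩, e1, e2⟩

theorem exists_third {x y : GolayPt} : ∃ z, z ∈ pts ∧ z ≠ x ∧ z ≠ y := by
  obtain ⟨a, b, ha, hb, has, hbs, hab⟩ := exists_two_more {pt 0, x, y} Finset.card_le_three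
  simp only [Finset.mem_insert, Finset.mem_singleton, not_or] at has
  exact ⟨a, ⟨ha, has.1⟩, has.2.1, has.2.2⟩

instance : MulAction.IsPretransitive ↥Spor.M11 ↥pts := by
  constructor
  intro p q
  obtain ⟨z, hz, hzp, -⟩ := exists_third (x := (p : GolayPt)) (y := (p : GolayPt))
  obtain ⟨z', hz', hzq, -⟩ := exists_third (x := (q : GolayPt)) (y := (q : GolayPt))
  obtain ⟨g, hg1, -⟩ := exists_map2 p.2 hz q.2 hz' (Ne.symm hzp) (Ne.symm hzq)
  exact ⟨g, Subtype.ext hg1⟩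

instance : FaithfulSMul ↥Spor.M11 ↥pts := by
  constructor
  intro g g' h
  by_contra hne
  have hne' : (g⁻¹ * g' : ↥Spor.M11) ≠ 1 := fun h1 => hne (by
    have := inv_mul_eq_one.mp h1
    exact this)
  have hmem := mem_M11_iff.mp (g⁻¹ * g').2
  have hne'' : ((g⁻¹ * g' : ↥Spor.M11) : Equiv.Perm GolayPt) ≠ 1 := fun h1 => hne' (Subtype.ext h1)
  obtain ⟨c, hcD, hc⟩ := exists_moved hmem.1 hne''
  by_cases hc0 : c = pt 0
  · rw [hc0] at hc
    exact hc hmem.2
  · have h1 := congrArg Subtype.val (h ⟨c, hcD, hc0⟩)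
    rw [smul_val, smul_val] at h1
    apply hc
    show (g⁻¹ : ↥Spor.M11).1 ((g' : ↥Spor.M11).1 c) = c
    rw [← h1]
    show ((g : Equiv.Perm GolayPt)⁻¹) ((g : Equiv.Perm GolayPt) c) = c
    simp

/-- Different points have different stabilizers. -/
theorem stab_inj (x y : ↥pts)
    (h : MulAction.stabilizer ↥Spor.M11 x = MulAction.stabilizer ↥Spor.M11 y) : x = y := by
  by_contra hxy
  have hxy' : (x : GolayPt) ≠ y := fun h => hxy (Subtype.ext h)
  obtain ⟨z, hz, hzx, hzy⟩ := exists_third (x := (x : GolayPt)) (y := (y : GolayPt))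
  obtain ⟨g, hg1, hg2⟩ := exists_map2 x.2 y.2 x.2 hz hxy' (Ne.symm hzx)
  have hmem : g ∈ MulAction.stabilizer ↥Spor.M11 x :=
    MulAction.mem_stabilizer_iff.mpr (Subtype.ext hg1)
  rw [h] at hmem
  have h3 : (g : Equiv.Perm GolayPt) y = y :=
    congrArg Subtype.val (MulAction.mem_stabilizer_iff.mp hmem)
  exact hzy (hg2.symm.trans h3)

/-! ### Subgroups of index eleven fix a point -/

/-- An element of the stabilizer of `D` fixing five points of `D` is trivial. -/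
theorem eq_one_of_fixes {g : Equiv.Perm GolayPt} (hg : g ∈ stabM24 D) (S : Finset GolayPt)
    (hS : S ⊆ D) (hcard : 5 ≤ S.card) (hfix : ∀ q ∈ S, g q = q) : g = 1 := by
  obtain ⟨x, hx⟩ := exists_emb_of_five_le_card hcard
  obtain ⟨k, _, huniq⟩ := existsUnique_stabM24_map dsq_mem_dodecads x x (fun i => hS (hx i))
    (fun i => hS (hx i))
  have h1 : g = k := huniq g ⟨hg, fun i => hfix _ (hx i)⟩
  have h2 : (1 : Equiv.Perm GolayPt) = k := huniq 1 ⟨(stabM24 D).one_mem, fun i => rfl⟩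
  rw [h1, h2]

/-- A group of permutations stabilizing a set `X` has a subgroup fixing `X` pointwise of index at
most `|X|!`. -/
theorem exists_pointwise (n : ℕ) : ∀ (J : Subgroup (Equiv.Perm GolayPt)) (X : Finset GolayPt),
    X.card = n → (∀ g ∈ J, ∀ q ∈ X, g q ∈ X) →
    ∃ J' : Subgroup (Equiv.Perm GolayPt), J' ≤ J ∧ (∀ g ∈ J', ∀ q ∈ X, g q = q) ∧
      Nat.card J ≤ n.factorial * Nat.card J' := by
  induction n with
  | zero =>
    intro J X hX _
    refine ⟨J, le_refl J, ?_, by simp⟩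
    intro g _ q hq
    rw [Finset.card_eq_zero.mp hX] at hq
    exact absurd hq (Finset.notMem_empty q)
  | succ n ih =>
    intro J X hX hinv
    obtain ⟨x, hx⟩ : X.Nonempty := Finset.card_pos.mp (by omega)
    set J1 : Subgroup (Equiv.Perm GolayPt) := J ⊓ MulAction.stabilizer (Equiv.Perm GolayPt) x
      with hJ1
    have hJ1fix : ∀ g ∈ J1, g x = x := fun g hg =>
      MulAction.mem_stabilizer_iff.mp (Subgroup.mem_inf.mp hg).2
    have h1 := card_eq_orb_mul J x
    have h2 : (orb J x).card ≤ n + 1 := by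
      rw [← hX]
      exact Finset.card_le_card (orb_subset hx hinv)
    obtain ⟨J', hJ'le, hJ'fix, hJ'card⟩ := ih J1 (X.erase x) (by rw [Finset.card_erase_of_mem hx, hX]; rfl)
      (by
        intro g hg q hq
        rw [Finset.mem_erase] at hq ⊢
        refine ⟨fun h => hq.1 ?_, hinv g (Subgroup.mem_inf.mp hg).1 q hq.2⟩
        exact g.injective (h.trans (hJ1fix g hg).symm))
    refine ⟨J', hJ'le.trans inf_le_left, ?_, ?_⟩
    · intro g hg q hq
      by_cases hqx : q = x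
      · rw [hqx]; exact hJ1fix g (hJ'le hg)
      · exact hJ'fix g hg q (Finset.mem_erase.mpr ⟨hqx, hq⟩)
    · rw [h1, Nat.factorial_succ]
      calc (orb J x).card * Nat.card ↥J1 ≤ (n + 1) * (n.factorial * Nat.card ↥J') :=
            Nat.mul_le_mul h2 hJ'card
        _ = (n + 1) * n.factorial * Nat.card ↥J' := by ring

/-- The eleven points as a finset. -/
def Om : Finset GolayPt := D.erase (pt 0)

theorem mem_Om {p : GolayPt} : p ∈ Om ↔ p ∈ pts := by
  rw [Om, Finset.mem_erase, mem_pts, and_comm]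

theorem Om_card : Om.card = 11 := by
  have h0D : pt 0 ∈ D := by rw [mem_setOf]; decide
  rw [Om, Finset.card_erase_of_mem h0D, D_card]

theorem apply_mem_Om {g : Equiv.Perm GolayPt} (hg : g ∈ Spor.M11) (q : GolayPt) :
    g q ∈ Om ↔ q ∈ Om := by
  obtain ⟨hg1, h0⟩ := mem_M11_iff.mp hg
  rw [Om, Finset.mem_erase, Finset.mem_erase, apply_mem_of_mem_stabM24 hg1]
  constructor
  · rintro ⟨h1, h2⟩
    exact ⟨fun h => h1 (by rw [h, h0]), h2⟩
  · rintro ⟨h1, h2⟩
    exact ⟨fun h => h1 (g.injective (h.trans h0.symm)), h2⟩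

/-- A subgroup of index 11 fixes a point. -/
theorem index_fix (K : Subgroup ↥Spor.M11) (hK : K.index = Nat.card ↥pts) :
    ∃ y : ↥pts, K ≤ MulAction.stabilizer ↥Spor.M11 y := by
  have : Fact (Nat.Prime 5) := ⟨by norm_num⟩
  have hcardK : Nat.card K = 720 := by
    have := Subgroup.card_mul_index K
    rw [hK, card_pts, card_M11] at this
    omega
  set J : Subgroup (Equiv.Perm GolayPt) := K.map Spor.M11.subtype with hJ
  have hJ11 : ∀ g ∈ J, g ∈ Spor.M11 := by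
    rintro _ ⟨k, _, rfl⟩
    exact k.2
  have hJM : J ≤ M24 := fun g hg => (mem_stabM24.mp (mem_M11_iff.mp (hJ11 g hg)).1).1
  have hcardJ : Nat.card J = 720 := by
    rw [hJ, Subgroup.card_map_of_injective Spor.M11.subtype_injective, hcardK]
  obtain ⟨f, hfJ, hford⟩ := exists_orderOf_eq_prime J 5 (by rw [hcardJ]; norm_num)
  have hf4 := card_fixPts_5 (hJM hfJ) hford
  have hf5 : f ^ 5 = 1 := by rw [← hford]; exact pow_orderOf_eq_one f
  have hf0 : f (pt 0) = pt 0 := (mem_M11_iff.mp (hJ11 f hfJ)).2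
  -- exactly one fixed point among the eleven
  have hmod := card_fixIn_modEq (p := 5) f hf5 Om (apply_mem_Om (hJ11 f hfJ))
  rw [Om_card] at hmod
  have hle : (fixIn f Om).card + 1 ≤ 4 := by
    rw [← hf4]
    have hsub : insert (pt 0) (fixIn f Om) ⊆ fixPts f := by
      intro q hq
      rw [Finset.mem_insert] at hq
      rcases hq with rfl | hq
      · exact mem_fixPts.mpr hf0
      · exact mem_fixPts.mpr (mem_fixIn.mp hq).2
    have hnot : pt 0 ∉ fixIn f Om := by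
      intro h
      have := (mem_fixIn.mp h).1
      rw [Om, Finset.mem_erase] at this
      exact this.1 rfl
    have := Finset.card_le_card hsub
    rwa [Finset.card_insert_of_notMem hnot] at this
  have hone : (fixIn f Om).card = 1 := by
    have : (fixIn f Om).card % 5 = 11 % 5 := hmod
    omega
  obtain ⟨a, ha⟩ := Finset.card_eq_one.mp hone
  have haOm : a ∈ Om := (mem_fixIn.mp (by rw [ha]; exact Finset.mem_singleton_self a)).1
  have hfa : f a = a := (mem_fixIn.mp (by rw [ha]; exact Finset.mem_singleton_self a)).2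
  have hJinv : ∀ g ∈ J, ∀ q ∈ Om, g q ∈ Om := fun g hg q hq => (apply_mem_Om (hJ11 g hg) q).mpr hq
  have hBsub : orb J a ⊆ Om := orb_subset haOm hJinv
  have hBfix : fixIn f (orb J a) = {a} := by
    ext q
    rw [Finset.mem_singleton, mem_fixIn]
    constructor
    · rintro ⟨hq1, hq2⟩
      have : q ∈ fixIn f Om := mem_fixIn.mpr ⟨hBsub hq1, hq2⟩
      rw [ha] at this
      exact Finset.mem_singleton.mp this
    · rintro rfl
      exact ⟨self_mem_orb J q, hfa⟩
  have hBmod := card_orb_mod hfJ hford a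
  rw [hBfix, Finset.card_singleton] at hBmod
  have hBle : (orb J a).card ≤ 11 := by
    rw [← Om_card]; exact Finset.card_le_card hBsub
  have hmul := card_eq_orb_mul J a
  rw [hcardJ] at hmul
  have hBpos := card_orb_pos J a
  have hcases : (orb J a).card = 1 ∨ (orb J a).card = 6 := by
    generalize (orb J a).card = b at *
    generalize Nat.card ↥(J ⊓ MulAction.stabilizer (Equiv.Perm GolayPt) a) = m at *
    interval_cases b <;> omega
  rcases hcases with h1 | h6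
  · have hfix := fixes_of_card_orb_eq_one h1
    refine ⟨⟨a, mem_Om.mp haOm⟩, fun k hk => MulAction.mem_stabilizer_iff.mpr (Subtype.ext ?_)⟩
    exact hfix _ (Subgroup.mem_map_of_mem _ hk)
  · exfalso
    set R : Finset GolayPt := Om \ orb J a with hR
    have hRcard : R.card = 5 := by
      rw [hR, Finset.card_sdiff_of_subset hBsub, Om_card, h6]
    have hRinv : ∀ g ∈ J, ∀ q ∈ R, g q ∈ R := by
      intro g hg q hq
      rw [hR, Finset.mem_sdiff] at hq ⊢
      exact ⟨hJinv g hg q hq.1, fun h => hq.2 ((apply_mem_orb_iff hg q).mp h)⟩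
    obtain ⟨J', hJ'le, hJ'fix, hJ'card⟩ := exists_pointwise 5 J R hRcard hRinv
    rw [hcardJ] at hJ'card
    have hJ'big : 1 < Nat.card J' := by
      have : Nat.factorial 5 = 120 := by decide
      rw [this] at hJ'card
      omega
    obtain ⟨g, hg⟩ : ∃ g : J', g ≠ 1 := by
      by_contra hcon
      push Not at hcon
      have : Subsingleton J' := ⟨fun x y => by rw [hcon x, hcon y]⟩
      have := Nat.card_of_subsingleton (1 : J')
      omega
    apply hg
    apply Subtype.ext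
    have hgJ : (g : Equiv.Perm GolayPt) ∈ J := hJ'le g.2
    refine eq_one_of_fixes (mem_M11_iff.mp (hJ11 _ hgJ)).1 R ?_ (by rw [hRcard]) (hJ'fix g g.2)
    intro q hq
    rw [hR, Finset.mem_sdiff, Om, Finset.mem_erase] at hq
    exact hq.1.2

/-! ### Three explicit elements of `M11` -/

/-- A word of order 3: `1 → 2 → 3 → 1`, fixing `4` and `12`. -/
def wA : List ℕ := [3, 2, 1, 3, 0, 2, 0, 0, 0, 2, 1, 1, 2, 0, 4, 2, 0, 3, 1, 1, 2, 0, 4, 2, 0, 3, 3, 2, 1, 3, 0, 2, 0, 0, 0, 2, 3, 3, 2, 2, 3, 2, 1, 3, 0, 2, 0, 0, 0, 2, 1, 1, 2, 0, 4, 2, 0, 3, 1, 1, 2, 0, 4, 2, 0, 3, 3, 3, 2, 2]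

/-- A word of order 5: `1 → 2 → 3 → 4 → 12 → 1`, fixing `8`. -/
def wB : List ℕ := [3, 2, 1, 3, 0, 2, 0, 0, 0, 2, 1, 1, 2, 0, 4, 2, 0, 3, 1, 1, 2, 0, 4, 2, 0, 3, 1, 1, 2, 0, 4, 2, 0, 3, 3, 3, 2, 4, 2, 1, 1, 2, 0, 4, 2, 0, 3, 1, 1, 2, 0, 4, 2, 0, 3, 1, 1, 2, 0, 4, 2, 0, 3]

/-- An involution: `1 ↔ 2`, fixing `3`, `4`, `12`, and moving `8` to `6`. -/
def wC : List ℕ := [3, 3, 2, 2, 3, 2, 1, 3, 0, 2, 0, 0, 0, 2, 4, 3, 4, 1, 1, 2, 0, 4, 2, 0, 3, 3, 3, 3, 1, 1, 2, 0, 4, 2, 0, 3, 1, 1, 2, 0, 4, 2, 0, 3, 3, 2, 1, 3, 0, 2, 0, 0, 0, 2]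

/-- The word stabilizes the dodecad of squares and fixes `0`. -/
def WordOK (w : List ℕ) : Prop :=
  (∀ j < 24, dsqMask.testBit j = true → dsqMask.testBit (m24Eval w j) = true) ∧ m24Eval w 0 = 0

theorem wA_ok : WordOK wA := by unfold WordOK; decide +kernel
theorem wB_ok : WordOK wB := by unfold WordOK; decide +kernel
theorem wC_ok : WordOK wC := by unfold WordOK; decide +kernel

theorem wA_vals : m24Eval wA 1 = 2 ∧ m24Eval wA 2 = 3 ∧ m24Eval wA 3 = 1 ∧ m24Eval wA 4 = 4 ∧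
    m24Eval wA 12 = 12 := by decide +kernel

theorem wA_fix : ∀ j < 24, dsqMask.testBit j = true → j ≠ 0 → m24Eval wA j = j →
    j = 4 ∨ j = 12 := by decide +kernel

theorem wB_vals : m24Eval wB 1 = 2 ∧ m24Eval wB 2 = 3 ∧ m24Eval wB 3 = 4 ∧ m24Eval wB 4 = 12 ∧
    m24Eval wB 8 = 8 ∧ m24Eval wB 6 = 13 ∧ m24Eval wB 13 = 18 ∧ m24Eval wB 18 = 16 ∧
    m24Eval wB 16 = 9 := by decide +kernel

theorem wB_fix : ∀ j < 24, dsqMask.testBit j = true → j ≠ 0 → m24Eval wB j = j → j = 8 := by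
  decide +kernel

theorem wC_vals : m24Eval wC 1 = 2 ∧ m24Eval wC 2 = 1 ∧ m24Eval wC 3 = 3 ∧ m24Eval wC 4 = 4 ∧
    m24Eval wC 8 = 6 := by decide +kernel

theorem idx_cases : ∀ j < 24, dsqMask.testBit j = true → j ≠ 0 →
    j ∈ [1, 2, 3, 4, 6, 8, 9, 12, 13, 16, 18] := by
  decide +kernel

theorem word_mem {w : List ℕ} (hw : WordOK w) : m24Word w ∈ Spor.M11 := by
  rw [mem_M11_iff, mem_stabM24]
  refine ⟨⟨m24Word_mem w, m24Word_smul_setOf w dsqMask dsqMask rfl hw.1⟩, ?_⟩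
  rw [m24Word_apply_pt w (by norm_num), hw.2]

theorem pt_inj {i j : ℕ} (hi : i < 24) (hj : j < 24) (h : pt i = pt j) : i = j := by
  have := congrArg idx h
  rwa [idx_pt hi, idx_pt hj] at this

/-- Membership of a numbered point in the eleven points. -/
theorem pt_mem_pts {j : ℕ} (hj : j < 24) (hD : dsqMask.testBit j = true) (h0 : j ≠ 0) :
    pt j ∈ pts := by
  rw [mem_pts, mem_setOf, idx_pt hj]
  exact ⟨hD, fun h => h0 (pt_inj hj (by norm_num) h)⟩

/-- The index of one of the eleven points. -/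
theorem idx_of_mem_pts {q : GolayPt} (hq : q ∈ pts) :
    idx q < 24 ∧ dsqMask.testBit (idx q) = true ∧ idx q ≠ 0 := by
  rw [mem_pts, mem_setOf] at hq
  refine ⟨idx_lt q, hq.1, fun h => hq.2 ?_⟩
  rw [← pt_idx q, h]

/-! ### Every automorphism is inner -/

section Aut

variable (τ : ↥pts → ↥pts) (β : ↥Spor.M11 → ↥Spor.M11)

/-- The point numbered `j` is fixed by `τ`. -/
def Fx (j : ℕ) : Prop := ∀ hj : pt j ∈ pts, τ ⟨pt j, hj⟩ = ⟨pt j, hj⟩

variable {τ β}

theorem word_smul {w : List ℕ} (hw : WordOK w) {j : ℕ} (hj : j < 24) (h1 : pt j ∈ pts)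
    (h2 : pt (m24Eval w j) ∈ pts) :
    (⟨m24Word w, word_mem hw⟩ : ↥Spor.M11) • (⟨pt j, h1⟩ : ↥pts) = ⟨pt (m24Eval w j), h2⟩ :=
  Subtype.ext (m24Word_apply_pt w hj)

theorem eval_mem_pts {w : List ℕ} (hw : WordOK w) {j : ℕ} (h1 : pt j ∈ pts) (hj : j < 24) :
    pt (m24Eval w j) ∈ pts := by
  have h := ((⟨m24Word w, word_mem hw⟩ : ↥Spor.M11) • (⟨pt j, h1⟩ : ↥pts)).2
  have h2 : (((⟨m24Word w, word_mem hw⟩ : ↥Spor.M11) • (⟨pt j, h1⟩ : ↥pts) : ↥pts) : GolayPt)
      = pt (m24Eval w j) := m24Word_apply_pt w hj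
  rwa [h2] at h

/-- If `τ` fixes the four base points and their images under a word, the word is fixed by `β`. -/
theorem beta_word (hτ : ∀ g x, β g • τ x = τ (g • x)) {w : List ℕ} (hw : WordOK w)
    (h1 : Fx τ 1) (h2 : Fx τ 2) (h3 : Fx τ 3) (h4 : Fx τ 4)
    (k1 : Fx τ (m24Eval w 1)) (k2 : Fx τ (m24Eval w 2)) (k3 : Fx τ (m24Eval w 3))
    (k4 : Fx τ (m24Eval w 4)) :
    β ⟨m24Word w, word_mem hw⟩ = ⟨m24Word w, word_mem hw⟩ := by
  apply Subtype.ext
  have hmem := mem_M11_iff.mp (β ⟨m24Word w, word_mem hw⟩).2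
  apply identify hmem.1 w hw.1
  have key : ∀ j, 0 < j → j < 5 → Fx τ j → Fx τ (m24Eval w j) →
      (β ⟨m24Word w, word_mem hw⟩ : Equiv.Perm GolayPt) (pt j) = pt (m24Eval w j) := by
    intro j hj0 hj5 hF hF'
    have hjp : pt j ∈ pts := by
      have : j = 1 ∨ j = 2 ∨ j = 3 ∨ j = 4 := by omega
      rcases this with rfl | rfl | rfl | rfl <;>
        exact pt_mem_pts (by norm_num) (by decide) (by norm_num)
    have hkp := eval_mem_pts hw hjp (by omega : j < 24)
    have e1 := hτ ⟨m24Word w, word_mem hw⟩ ⟨pt j, hjp⟩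
    rw [hF hjp, word_smul hw (by omega) hjp hkp, hF' hkp] at e1
    exact congrArg Subtype.val e1
  intro i hi
  interval_cases i
  · rw [hmem.2, hw.2]
  · exact key 1 (by norm_num) (by norm_num) h1 k1
  · exact key 2 (by norm_num) (by norm_num) h2 k2
  · exact key 3 (by norm_num) (by norm_num) h3 k3
  · exact key 4 (by norm_num) (by norm_num) h4 k4

/-- A word fixed by `β` carries fixed points of `τ` to fixed points. -/
theorem Fx_step (hτ : ∀ g x, β g • τ x = τ (g • x)) {w : List ℕ} (hw : WordOK w)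
    (hβ : β ⟨m24Word w, word_mem hw⟩ = ⟨m24Word w, word_mem hw⟩) {j : ℕ} (hj : j < 24)
    (hjp : pt j ∈ pts) (hF : Fx τ j) : Fx τ (m24Eval w j) := by
  intro hk
  have e1 := hτ ⟨m24Word w, word_mem hw⟩ ⟨pt j, hjp⟩
  rw [hβ, hF hjp, word_smul hw hj hjp hk] at e1
  exact e1.symm

/-- `τ` maps a fixed point of a `β`-fixed word to a fixed point of that word. -/
theorem fixed_idx (hτ : ∀ g x, β g • τ x = τ (g • x)) {w : List ℕ} (hw : WordOK w)
    (hβ : β ⟨m24Word w, word_mem hw⟩ = ⟨m24Word w, word_mem hw⟩) {j : ℕ} (hj : j < 24)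
    (hjp : pt j ∈ pts) (hfix : m24Eval w j = j) :
    m24Eval w (idx (τ ⟨pt j, hjp⟩ : GolayPt)) = idx (τ ⟨pt j, hjp⟩ : GolayPt) := by
  have e1 := hτ ⟨m24Word w, word_mem hw⟩ ⟨pt j, hjp⟩
  have e2 : (⟨m24Word w, word_mem hw⟩ : ↥Spor.M11) • (⟨pt j, hjp⟩ : ↥pts) = ⟨pt j, hjp⟩ := by
    apply Subtype.ext
    show m24Word w (pt j) = pt j
    rw [m24Word_apply_pt w hj, hfix]
  rw [hβ, e2] at e1
  have e3 := congrArg Subtype.val e1
  rw [smul_val] at e3
  change m24Word w (τ ⟨pt j, hjp⟩ : GolayPt) = (τ ⟨pt j, hjp⟩ : GolayPt) at e3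
  rw [m24Word_apply] at e3
  have e4 := congrArg idx e3
  rwa [idx_pt (m24Eval_lt w (idx_lt _))] at e4

end Aut

/-- Every automorphism of `M11` is inner. -/
theorem aut_inner (α : MulAut ↥Spor.M11) : ∃ h : ↥Spor.M11, α = MulAut.conj h := by
  classical
  obtain ⟨σ, hσ⟩ := exists_perm_of_aut stab_inj index_fix α
  have p1 : pt 1 ∈ pts := pt_mem_pts (by norm_num) (by decide) (by norm_num)
  have p2 : pt 2 ∈ pts := pt_mem_pts (by norm_num) (by decide) (by norm_num)
  have p3 : pt 3 ∈ pts := pt_mem_pts (by norm_num) (by decide) (by norm_num)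
  have p4 : pt 4 ∈ pts := pt_mem_pts (by norm_num) (by decide) (by norm_num)
  have p6 : pt 6 ∈ pts := pt_mem_pts (by norm_num) (by decide) (by norm_num)
  have p8 : pt 8 ∈ pts := pt_mem_pts (by norm_num) (by decide) (by norm_num)
  have p12 : pt 12 ∈ pts := pt_mem_pts (by norm_num) (by decide) (by norm_num)
  have p13 : pt 13 ∈ pts := pt_mem_pts (by norm_num) (by decide) (by norm_num)
  have p16 : pt 16 ∈ pts := pt_mem_pts (by norm_num) (by decide) (by norm_num)
  have p18 : pt 18 ∈ pts := pt_mem_pts (by norm_num) (by decide) (by norm_num)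
  have h0D : pt 0 ∈ D := by rw [mem_setOf]; decide
  have hne : ∀ {i j : ℕ}, i < 24 → j < 24 → i ≠ j → pt i ≠ pt j := fun hi hj hij h =>
    hij (pt_inj hi hj h)
  -- an element of `M11` agreeing with `σ` on the four base points
  have hval_inj : Function.Injective fun x : ↥pts => ((σ x : ↥pts) : GolayPt) :=
    fun x y hxy => σ.injective (Subtype.ext hxy)
  have hnd : ([(⟨pt 1, p1⟩ : ↥pts), ⟨pt 2, p2⟩, ⟨pt 3, p3⟩, ⟨pt 4, p4⟩] : List ↥pts).Nodup := by
    simp only [List.nodup_cons, List.mem_cons, List.not_mem_nil, or_false, not_or,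
      List.nodup_nil, and_true, Subtype.mk.injEq, not_false_eq_true]
    refine ⟨⟨?_, ?_, ?_⟩, ⟨?_, ?_⟩, ?_⟩ <;> exact hne (by norm_num) (by norm_num) (by norm_num)
  obtain ⟨h, hh, hmap⟩ := exists_map_lists [pt 0, pt 1, pt 2, pt 3, pt 4]
    (pt 0 :: ([(⟨pt 1, p1⟩ : ↥pts), ⟨pt 2, p2⟩, ⟨pt 3, p3⟩, ⟨pt 4, p4⟩] : List ↥pts).map
      fun x => ((σ x : ↥pts) : GolayPt)) rfl rfl
    (by
      simp only [List.nodup_cons, List.mem_cons, List.not_mem_nil, or_false, not_or,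
        List.nodup_nil, and_true, not_false_eq_true]
      refine ⟨⟨?_, ?_, ?_, ?_⟩, ⟨?_, ?_, ?_⟩, ⟨?_, ?_⟩, ?_⟩ <;>
        exact hne (by norm_num) (by norm_num) (by norm_num))
    (by
      rw [List.nodup_cons]
      refine ⟨?_, hnd.map hval_inj⟩
      intro hmem
      obtain ⟨x, -, hx⟩ := List.mem_map.mp hmem
      exact (σ x).2.2 hx)
    (by
      intro q hq
      simp only [List.mem_cons, List.not_mem_nil, or_false] at hq
      rcases hq with rfl | rfl | rfl | rfl | rfl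
      exacts [h0D, p1.1, p2.1, p3.1, p4.1])
    (by
      intro q hq
      rw [List.mem_cons] at hq
      rcases hq with rfl | hq
      · exact h0D
      · obtain ⟨x, -, rfl⟩ := List.mem_map.mp hq
        exact (σ x).2.1)
  have e0 : h (pt 0) = pt 0 := hmap 0
  have e1 : h (pt 1) = (σ ⟨pt 1, p1⟩ : ↥pts) := hmap 1
  have e2 : h (pt 2) = (σ ⟨pt 2, p2⟩ : ↥pts) := hmap 2
  have e3 : h (pt 3) = (σ ⟨pt 3, p3⟩ : ↥pts) := hmap 3
  have e4 : h (pt 4) = (σ ⟨pt 4, p4⟩ : ↥pts) := hmap 4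
  set h' : ↥Spor.M11 := ⟨h, mem_M11_iff.mpr ⟨hh, e0⟩⟩ with hh'
  let τ : ↥pts → ↥pts := fun x => h'⁻¹ • σ x
  let β : ↥Spor.M11 → ↥Spor.M11 := fun g => h'⁻¹ * α g * h'
  have hτ : ∀ g x, β g • τ x = τ (g • x) := by
    intro g x
    show (h'⁻¹ * α g * h') • (h'⁻¹ • σ x) = h'⁻¹ • σ (g • x)
    rw [← hσ g x, mul_smul, mul_smul, smul_inv_smul]
  have hτinj : Function.Injective τ := fun x y hxy =>
    σ.injective (MulAction.injective h'⁻¹ hxy)
  have hbase : ∀ {j : ℕ} (hj : pt j ∈ pts), h (pt j) = (σ ⟨pt j, hj⟩ : ↥pts) → Fx τ j := by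
    intro j hj e hj'
    show h'⁻¹ • σ ⟨pt j, hj'⟩ = ⟨pt j, hj'⟩
    rw [inv_smul_eq_iff]
    exact Subtype.ext e.symm
  have F1 : Fx τ 1 := hbase p1 e1
  have F2 : Fx τ 2 := hbase p2 e2
  have F3 : Fx τ 3 := hbase p3 e3
  have F4 : Fx τ 4 := hbase p4 e4
  -- the element of order 3
  have hβA := beta_word hτ wA_ok F1 F2 F3 F4 (by rw [wA_vals.1]; exact F2)
    (by rw [wA_vals.2.1]; exact F3) (by rw [wA_vals.2.2.1]; exact F1)
    (by rw [wA_vals.2.2.2.1]; exact F4)
  have hto : ∀ {j k : ℕ} (hj : pt j ∈ pts), idx (τ ⟨pt j, hj⟩ : GolayPt) = k →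
      ∀ hk : pt k ∈ pts, τ ⟨pt j, hj⟩ = ⟨pt k, hk⟩ := by
    intro j k hj hjk hk
    apply Subtype.ext
    show (τ ⟨pt j, hj⟩ : GolayPt) = pt k
    rw [← pt_idx (τ ⟨pt j, hj⟩ : GolayPt), hjk]
  have F12 : Fx τ 12 := by
    intro hj
    have hfx := fixed_idx hτ wA_ok hβA (by norm_num) hj wA_vals.2.2.2.2
    obtain ⟨hlt, hD, h0⟩ := idx_of_mem_pts (τ ⟨pt 12, hj⟩).2
    rcases wA_fix _ hlt hD h0 hfx with h4 | h12
    · exfalso
      have e : τ ⟨pt 12, hj⟩ = τ ⟨pt 4, p4⟩ := by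
        rw [F4 p4]
        exact hto hj h4 p4
      have e' : pt 12 = pt 4 := congrArg Subtype.val (hτinj e)
      exact absurd (pt_inj (i := 12) (j := 4) (by norm_num) (by norm_num) e') (by norm_num)
    · exact hto hj h12 hj
  -- the element of order 5
  have hβB := beta_word hτ wB_ok F1 F2 F3 F4 (by rw [wB_vals.1]; exact F2)
    (by rw [wB_vals.2.1]; exact F3) (by rw [wB_vals.2.2.1]; exact F4)
    (by rw [wB_vals.2.2.2.1]; exact F12)
  have F8 : Fx τ 8 := by
    intro hj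
    have hfx := fixed_idx hτ wB_ok hβB (by norm_num) hj wB_vals.2.2.2.2.1
    obtain ⟨hlt, hD, h0⟩ := idx_of_mem_pts (τ ⟨pt 8, hj⟩).2
    exact hto hj (wB_fix _ hlt hD h0 hfx) hj
  -- the involution
  have hβC := beta_word hτ wC_ok F1 F2 F3 F4 (by rw [wC_vals.1]; exact F2)
    (by rw [wC_vals.2.1]; exact F1) (by rw [wC_vals.2.2.1]; exact F3)
    (by rw [wC_vals.2.2.2.1]; exact F4)
  have F6 : Fx τ 6 := by
    have := Fx_step hτ wC_ok hβC (by norm_num) p8 F8
    rwa [wC_vals.2.2.2.2] at this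
  have F13 : Fx τ 13 := by
    have := Fx_step hτ wB_ok hβB (by norm_num) p6 F6
    rwa [wB_vals.2.2.2.2.2.1] at this
  have F18 : Fx τ 18 := by
    have := Fx_step hτ wB_ok hβB (by norm_num) p13 F13
    rwa [wB_vals.2.2.2.2.2.2.1] at this
  have F16 : Fx τ 16 := by
    have := Fx_step hτ wB_ok hβB (by norm_num) p18 F18
    rwa [wB_vals.2.2.2.2.2.2.2.1] at this
  have F9 : Fx τ 9 := by
    have := Fx_step hτ wB_ok hβB (by norm_num) p16 F16
    rwa [wB_vals.2.2.2.2.2.2.2.2] at this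
  have hall : ∀ y : ↥pts, τ y = y := by
    intro y
    obtain ⟨hlt, hD, h0⟩ := idx_of_mem_pts y.2
    have hmem : pt (idx (y : GolayPt)) ∈ pts := by rw [pt_idx]; exact y.2
    have hy : (⟨pt (idx (y : GolayPt)), hmem⟩ : ↥pts) = y := Subtype.ext (pt_idx _)
    have hF : Fx τ (idx (y : GolayPt)) := by
      have hc := idx_cases _ hlt hD h0
      simp only [List.mem_cons, List.not_mem_nil, or_false] at hc
      rcases hc with hc | hc | hc | hc | hc | hc | hc | hc | hc | hc | hc <;> rw [hc]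
      exacts [F1, F2, F3, F4, F6, F8, F9, F12, F13, F16, F18]
    have := hF hmem
    rw [hy] at this
    exact this
  refine ⟨h', eq_conj_of_perm α σ hσ h' (fun x => ?_)⟩
  have := hall x
  change h'⁻¹ • σ x = x at this
  rw [inv_smul_eq_iff] at this
  exact this.symm

/-- The outer automorphism group of the Mathieu group M₁₁ (the stabiliser of a dodecad and one of its points in the automorphism group of the length-24 binary code) is trivial: every automorphism is inner. -/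
theorem result : Nat.card (Cfsg.Out ↥Cfsg.Spor.M11) = 1 := by
  exact card_out_eq_one aut_inner

end Cfsg.Agent.S2060
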