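import Cfsg.Statements.S2882
import Cfsg.Agent.Lib.Helper48.M24Borel

set_option autoImplicit false
open Cfsg

namespace Cfsg.Agent.S2882

open Cfsg.Agent.Lib.Helper48

/-- a self-normalizing subgroup contained in a Sylow subgroup equals it -/
theorem eq_sylow_of_normalizer_eq {G : Type*} [Group G] [Finite G] {p : ℕ} [Fact p.Prime]
    {H : Subgroup G} (hN : Subgroup.normalizer (H : Set G) = H) (P : Sylow p G)
    (hle : H ≤ (P : Subgroup G)) : H = (P : Subgroup G) := by
  by_contra hne
  have : Group.IsNilpotent ↥(P : Subgroup G) := P.isPGroup'.isNilpotent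
  have hlt : H.subgroupOf (P : Subgroup G) < ⊤ := by
    rw [lt_top_iff_ne_top]
    intro htop
    rw [Subgroup.subgroupOf_eq_top] at htop
    exact hne (le_antisymm hle htop)
  have h1 := Group.normalizerCondition_of_isNilpotent (G := ↥(P : Subgroup G)) _ hlt
  rw [← Subgroup.subgroupOf_normalizer_eq hle, hN] at h1
  exact lt_irrefl _ h1

/-- `borel` inside `M24` -/
def B' : Subgroup ↥M24 := borel.subgroupOf M24

theorem normalizer_B' : Subgroup.normalizer (B' : Set ↥M24) = B' := by
  apply le_antisymm _ Subgroup.le_normalizer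
  intro x hx
  unfold B' at hx ⊢
  rw [← Subgroup.subgroupOf_normalizer_eq borel_le_M24, Subgroup.mem_subgroupOf] at hx
  rw [Subgroup.mem_subgroupOf]
  apply mem_borel_of_nrm x.2
  have hx' := Subgroup.inv_mem _ hx
  rw [Subgroup.mem_normalizer_iff] at hx hx'
  refine ⟨fun s hs => (hx s).1 hs, fun s hs => ?_⟩
  have := (hx' s).1 hs
  rwa [inv_inv] at this

theorem isPGroup_B' : IsPGroup 2 B' := isPGroup_borel.comap_subtype

/-- In the Mathieu group of degree 24 (realised as the automorphism group of the extended binary Golay code) every Sylow 2-subgroup is self-normalizing. -/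
theorem result (S : Sylow 2 ↥Cfsg.M24) : Subgroup.normalizer ((S : Subgroup ↥Cfsg.M24) : Set ↥Cfsg.M24) = (S : Subgroup ↥Cfsg.M24) := by
  have : Fact (Nat.Prime 2) := ⟨Nat.prime_two⟩
  obtain ⟨P, hP⟩ := isPGroup_B'.exists_le_sylow
  have hBP : B' = (P : Subgroup ↥M24) := eq_sylow_of_normalizer_eq normalizer_B' P hP
  have hNP : Subgroup.normalizer ((P : Subgroup ↥M24) : Set ↥M24) = (P : Subgroup ↥M24) := by
    rw [← hBP]; exact normalizer_B'
  obtain ⟨g, rfl⟩ := MulAction.exists_smul_eq ↥M24 P S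
  apply le_antisymm _ Subgroup.le_normalizer
  intro x hx
  have hx' : x • (g • P) = g • P := Sylow.smul_eq_iff_mem_normalizer.2 hx
  have h1 : (g⁻¹ * x * g) • P = P := by
    rw [mul_smul, mul_smul, hx', inv_smul_smul]
  have h2 : g⁻¹ * x * g ∈ Subgroup.normalizer ((P : Subgroup ↥M24) : Set ↥M24) :=
    Sylow.smul_eq_iff_mem_normalizer.1 h1
  rw [hNP] at h2
  rw [Sylow.coe_subgroup_smul, Subgroup.mem_pointwise_smul_iff_inv_smul_mem]
  simpa [MulAut.smul_def, mul_assoc] using h2

end Cfsg.Agent.S2882
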