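import Cfsg.Statements.S5607
-- import your own Cfsg.Agent.* helpers here
import Cfsg.Agent.Lib.Helper89.M24Cent

set_option autoImplicit false
open scoped Pointwise
open Cfsg

namespace Cfsg.Agent.S5607

open Cfsg.Agent.Lib.Helper93 Cfsg.Agent.S5394 Cfsg.Agent.Lib.Helper89
open Cfsg.Agent.Lib.Helper7 hiding uT uP

/-! ### The centralizer of `t0` as a subgroup -/

/-- the centralizer of `t0` in `M24` -/
def C0 : Subgroup (Equiv.Perm GolayPt) where
  carrier := {c | c ∈ M24 ∧ c * t0 = t0 * c}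
  mul_mem' := by
    rintro a b ⟨ha, hat⟩ ⟨hb, hbt⟩
    refine ⟨M24.mul_mem ha hb, ?_⟩
    calc a * b * t0 = a * (b * t0) := mul_assoc _ _ _
      _ = a * (t0 * b) := by rw [hbt]
      _ = (a * t0) * b := (mul_assoc _ _ _).symm
      _ = (t0 * a) * b := by rw [hat]
      _ = t0 * (a * b) := mul_assoc _ _ _
  one_mem' := ⟨M24.one_mem, by rw [one_mul, mul_one]⟩
  inv_mem' := by
    rintro a ⟨ha, hat⟩
    refine ⟨M24.inv_mem ha, ?_⟩
    calc a⁻¹ * t0 = a⁻¹ * (t0 * a) * a⁻¹ := by group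
      _ = a⁻¹ * (a * t0) * a⁻¹ := by rw [hat]
      _ = t0 * a⁻¹ := by group

theorem mem_C0 {c : Equiv.Perm GolayPt} : c ∈ C0 ↔ c ∈ M24 ∧ c * t0 = t0 * c := Iff.rfl

/-! ### Normal form of tables -/

/-- canonical table of a permutation -/
def tab (c : Equiv.Perm GolayPt) : List ℕ := (List.range 24).map fun i => idx (c (pt i))

theorem matches_tab (c : Equiv.Perm GolayPt) : Matches c (tab c) := by
  intro p
  unfold tab
  rw [List.getD_eq_getElem _ _ (by simpa using idx_lt p)]
  simp [pt_idx]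

theorem compT_eq_tab {c : Equiv.Perm GolayPt} {a b : List ℕ} (h : Matches c (compT a b)) :
    compT a b = tab c := by
  unfold tab
  have h0 : compT a b = (List.range 24).map fun i => a.getD (b.getD i 0) 0 := rfl
  rw [h0]
  apply List.map_congr_left
  intro i hi
  rw [List.mem_range] at hi
  have := h (pt i)
  rw [idx_pt hi, getD_compT _ _ hi] at this
  exact this.symm

theorem exists_compT_of_mem_lvl2 {T : List ℕ} (h : T ∈ lvl2) : ∃ a b, T = compT a b := by
  simp only [lvl2, List.mem_flatMap, List.mem_range] at h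
  obtain ⟨b, _, h⟩ := h
  split_ifs at h
  · simp only [lvl4, List.mem_flatMap, List.mem_range] at h
    obtain ⟨d, _, h⟩ := h
    split_ifs at h
    · simp only [lvl6, List.mem_map] at h
      obtain ⟨e, _, rfl⟩ := h
      exact ⟨_, _, rfl⟩
    · simp at h
    · simp at h
  · simp at h
  · simp at h

theorem eq_tab_of_mem {T : List ℕ} (hT : T ∈ stabGood) {c : Equiv.Perm GolayPt}
    (hm : Matches c T) : T = tab c := by
  rw [stabGood, List.mem_filter] at hT
  obtain ⟨a, b, rfl⟩ := exists_compT_of_mem_lvl2 hT.1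
  exact compT_eq_tab hm

theorem tab_injective : Function.Injective tab := by
  intro c c' h
  have e : eqT (tab c) (tab c') = true := by
    rw [h]; exact eqT_of_matches (matches_tab c') (matches_tab c')
  exact eq_of_eqT (matches_tab c) (matches_tab c') e

/-! ### Order of the centralizer -/

theorem card_stab : Nat.card ↥(C0 ⊓ MulAction.stabilizer (Equiv.Perm GolayPt) (bp 0)) = 320 := by
  have hmem : ∀ c : ↥(C0 ⊓ MulAction.stabilizer (Equiv.Perm GolayPt) (bp 0)),
      tab (c : Equiv.Perm GolayPt) ∈ stabGood.toFinset := by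
    intro c
    obtain ⟨⟨hc, hct⟩, hfix⟩ := c.2
    obtain ⟨T, hT, hm⟩ := stab_enum hc hct (MulAction.mem_stabilizer_iff.mp hfix)
    rw [List.mem_toFinset, ← eq_tab_of_mem hT hm]
    exact hT
  let f : ↥(C0 ⊓ MulAction.stabilizer (Equiv.Perm GolayPt) (bp 0)) → ↥stabGood.toFinset :=
    fun c => ⟨tab (c : Equiv.Perm GolayPt), hmem c⟩
  have hf : Function.Bijective f := by
    constructor
    · intro c c' h
      apply Subtype.ext
      apply tab_injective
      exact congrArg Subtype.val h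
    · rintro ⟨T, hT⟩
      rw [List.mem_toFinset] at hT
      obtain ⟨K, hK, hKm, hKt, hKfix⟩ := exists_of_mem_stabGood hT
      refine ⟨⟨K, ⟨hK, hKt⟩, MulAction.mem_stabilizer_iff.mpr hKfix⟩, ?_⟩
      apply Subtype.ext
      exact (eq_tab_of_mem hT hKm).symm
  rw [Nat.card_eq_of_bijective f hf, Nat.card_eq_fintype_card, Fintype.card_coe,
    List.toFinset_card_of_nodup stabGood_nodup, stabGood_length]

theorem card_C0 : Nat.card ↥C0 = 7680 := by
  have h := card_eq_card_mul_card_inf_stabilizer (P := Equiv.Perm GolayPt) C0 (bp 0)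
    (Finset.univ : Finset GolayPt) (fun _ _ => Finset.mem_univ _) (by
      intro q _
      obtain ⟨K, hK, hKt, hKq⟩ := exists_trans q
      exact ⟨K, ⟨hK, hKt⟩, hKq⟩)
  rw [h, card_stab]
  rfl

theorem trans_C0 (p q : GolayPt) : ∃ c ∈ C0, c p = q := by
  obtain ⟨K1, hK1, hK1t, hK1p⟩ := exists_trans p
  obtain ⟨K2, hK2, hK2t, hK2q⟩ := exists_trans q
  have h1 : K1 ∈ C0 := ⟨hK1, hK1t⟩
  have h2 : K2 ∈ C0 := ⟨hK2, hK2t⟩
  refine ⟨K2⁻¹ * K1, C0.mul_mem (C0.inv_mem h2) h1, ?_⟩
  rw [Equiv.Perm.mul_apply, hK1p, ← hK2q]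
  simp

/-! ### The invariant sextet -/

/-- the sextet fixed by the centralizer of `t0` -/
def S0 : Finset (Finset GolayPt) := S0L.toFinset.image setOf

theorem mem_S0 {s : Finset GolayPt} : s ∈ S0 ↔ ∃ m ∈ S0L, setOf m = s := by
  simp [S0]

theorem S0_mem_sextets : S0 ∈ sextets := by
  obtain ⟨h4, hoct, hnd, hlt⟩ := S0_check
  rw [List.all_eq_true] at h4 hoct
  refine ⟨?_, ?_, ?_⟩
  · rw [S0, Finset.card_image_of_injOn, List.toFinset_card_of_nodup hnd]
    · rfl
    · intro a ha b hb hab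
      rw [Finset.mem_coe, List.mem_toFinset] at ha hb
      exact setOf_injOn (hlt a ha) (hlt b hb) hab
  · intro s hs
    obtain ⟨m, hm, rfl⟩ := mem_S0.mp hs
    rw [card_setOf]
    simpa using h4 m hm
  · intro s hs u hu hsu
    obtain ⟨m, hm, rfl⟩ := mem_S0.mp hs
    obtain ⟨m', hm', rfl⟩ := mem_S0.mp hu
    have h := hoct m hm
    rw [List.all_eq_true] at h
    have h' := h m' hm'
    rw [Bool.or_eq_true] at h'
    rcases h' with h' | h'
    · exfalso
      apply hsu
      rw [beq_iff_eq] at h'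
      rw [h']
    · rw [← setOf_or]
      exact setOf_mem_octads h'

theorem smul_S0 {g : Equiv.Perm GolayPt} {T : List ℕ} (hm : Matches g T) (h : sextOK T = true) :
    g • S0 = S0 := by
  obtain ⟨h4, _, _, _⟩ := S0_check
  rw [List.all_eq_true] at h4
  apply Finset.eq_of_subset_of_card_le
  · intro s hs
    rw [Finset.mem_smul_finset] at hs
    obtain ⟨u, hu, rfl⟩ := hs
    obtain ⟨m, hmL, rfl⟩ := mem_S0.mp hu
    rw [sextOK, List.all_eq_true] at h
    have h1 := h m hmL
    rw [List.any_eq_true] at h1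
    obtain ⟨m', hm'L, hmap⟩ := h1
    have e : g • setOf m = setOf m' := by
      apply smul_setOf_eq_of_mapsInto hm hmap
      have a1 := h4 m hmL
      have a2 := h4 m' hm'L
      rw [beq_iff_eq] at a1 a2
      rw [a1, a2]
    rw [e]
    exact mem_S0.mpr ⟨m', hm'L, rfl⟩
  · rw [Finset.card_smul_finset]

theorem exists_trans' (p : GolayPt) : ∃ K ∈ C0, K p = bp 0 ∧ K • S0 = S0 := by
  obtain ⟨h1, h2⟩ := trans_check (idx p) (idx_lt p)
  have hm : Matches (siftP 0 (transQ.getD (idx p) []) 1) (siftAux 0 (transQ.getD (idx p) []) idT) :=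
    siftP_matches _ _ _ _ matches_one
  refine ⟨siftP 0 (transQ.getD (idx p) []) 1, ⟨siftP_mem _ _ _ M24.one_mem, ?_⟩, ?_, ?_⟩
  · exact eq_of_eqT (matches_mul hm t0_matches) (matches_mul t0_matches hm) h2
  · have := matches_apply hm (idx_lt p) (by decide : 23 < 24) h1
    rw [pt_idx] at this
    exact this
  · exact smul_S0 hm (sextOK_check.2.2 (idx p) (idx_lt p))

theorem smul_S0_of_mem_C0 {c : Equiv.Perm GolayPt} (hc : c ∈ C0) : c • S0 = S0 := by
  obtain ⟨K, hK, hKp, hKS⟩ := exists_trans' (c (bp 0))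
  have hs : K * c ∈ C0 := C0.mul_mem hK hc
  have hsfix : (K * c) (bp 0) = bp 0 := by rw [Equiv.Perm.mul_apply, hKp]
  obtain ⟨T, hT, hm⟩ := stab_enum hs.1 hs.2 hsfix
  have h1 : (K * c) • S0 = S0 := by
    have hall := sextOK_check.2.1
    rw [List.all_eq_true] at hall
    exact smul_S0 hm (hall T hT)
  rw [mul_smul] at h1
  have h2 : c • S0 = K⁻¹ • S0 := by rw [eq_inv_smul_iff]; exact h1
  rw [h2, inv_smul_eq_iff, hKS]

theorem t0_smul_S0 : t0 • S0 = S0 := smul_S0 t0_matches sextOK_check.1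


/-- For a fixed-point-free involution t of the group of the length-24 code: its centraliser in that group has order 7680, is transitive on the 24 points, and is contained, together with t, in the stabiliser of some sextet. -/
theorem result (t : Equiv.Perm Cfsg.GolayPt) (ht : t ∈ Cfsg.M24) (h₂ : orderOf t = 2) (h₀ : ∀ p, t p ≠ p) : Nat.card {c : Equiv.Perm Cfsg.GolayPt // c ∈ Cfsg.M24 ∧ c * t = t * c} = 7680 ∧ (∀ p q : Cfsg.GolayPt, ∃ c ∈ Cfsg.M24, c * t = t * c ∧ c p = q) ∧ ∃ S ∈ Cfsg.sextets, t • S = S ∧ ∀ c ∈ Cfsg.M24, c * t = t * c → c • S = S := by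
  -- conjugate `t` to `t0`
  obtain ⟨k, hk, hkt⟩ := (Cfsg.Agent.S5394.result).2.2.2 t ht t0 t0_mem h₂ orderOf_t0
    ⟨fun _ => t0_fpf, fun _ => h₀⟩
  have ht_eq : t = k⁻¹ * t0 * k := by rw [← hkt]; group
  have conj_mem : ∀ c : Equiv.Perm GolayPt, (c ∈ M24 ∧ c * t = t * c) ↔ k * c * k⁻¹ ∈ C0 := by
    intro c
    rw [mem_C0]
    constructor
    · rintro ⟨hc, hct⟩
      refine ⟨M24.mul_mem (M24.mul_mem hk hc) (M24.inv_mem hk), ?_⟩
      rw [← hkt]
      calc k * c * k⁻¹ * (k * t * k⁻¹) = k * (c * t) * k⁻¹ := by group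
        _ = k * (t * c) * k⁻¹ := by rw [hct]
        _ = k * t * k⁻¹ * (k * c * k⁻¹) := by group
    · rintro ⟨hc, hct⟩
      constructor
      · have : c = k⁻¹ * (k * c * k⁻¹) * k := by group
        rw [this]
        exact M24.mul_mem (M24.mul_mem (M24.inv_mem hk) hc) hk
      · rw [ht_eq]
        calc c * (k⁻¹ * t0 * k) = k⁻¹ * ((k * c * k⁻¹) * t0) * k := by group
          _ = k⁻¹ * (t0 * (k * c * k⁻¹)) * k := by rw [hct]
          _ = k⁻¹ * t0 * k * c := by group
  refine ⟨?_, ?_, ?_⟩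
  · rw [← card_C0]
    apply Nat.card_congr
    exact {
      toFun := fun c => ⟨k * c.1 * k⁻¹, (conj_mem c.1).mp c.2⟩
      invFun := fun c => ⟨k⁻¹ * c.1 * k, (conj_mem _).mpr (by
        have : k * (k⁻¹ * c.1 * k) * k⁻¹ = c.1 := by group
        rw [this]; exact c.2)⟩
      left_inv := by
        intro c
        apply Subtype.ext
        show k⁻¹ * (k * c.1 * k⁻¹) * k = c.1
        group
      right_inv := by
        intro c
        apply Subtype.ext
        show k * (k⁻¹ * c.1 * k) * k⁻¹ = c.1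
        group }
  · intro p q
    obtain ⟨c0, hc0, hc0p⟩ := trans_C0 (k p) (k q)
    have hmem : k * (k⁻¹ * c0 * k) * k⁻¹ ∈ C0 := by
      have : k * (k⁻¹ * c0 * k) * k⁻¹ = c0 := by group
      rw [this]; exact hc0
    obtain ⟨h1, h2⟩ := (conj_mem (k⁻¹ * c0 * k)).mpr hmem
    refine ⟨k⁻¹ * c0 * k, h1, h2, ?_⟩
    simp only [Equiv.Perm.mul_apply]
    rw [hc0p]
    simp
  · refine ⟨k⁻¹ • S0, ?_, ?_, ?_⟩
    · -- sextets are permuted by `M24`
      obtain ⟨hc6, hc4, hun⟩ := S0_mem_sextets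
      have hki : k⁻¹ ∈ M24 := M24.inv_mem hk
      refine ⟨?_, ?_, ?_⟩
      · rw [Finset.card_smul_finset]; exact hc6
      · intro s hs
        rw [Finset.mem_smul_finset] at hs
        obtain ⟨u, hu, rfl⟩ := hs
        rw [Finset.card_smul_finset]
        exact hc4 u hu
      · intro s hs u hu hsu
        rw [Finset.mem_smul_finset] at hs hu
        obtain ⟨s', hs', rfl⟩ := hs
        obtain ⟨u', hu', rfl⟩ := hu
        have hne : s' ≠ u' := fun h => hsu (by rw [h])
        have := hun s' hs' u' hu' hne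
        rw [← Finset.smul_finset_union]
        exact smul_mem_octads hki this
    · rw [ht_eq, mul_smul, mul_smul, smul_inv_smul, t0_smul_S0]
    · intro c hc hct
      have h := smul_S0_of_mem_C0 ((conj_mem c).mp ⟨hc, hct⟩)
      rw [mul_smul, mul_smul] at h
      rw [eq_inv_smul_iff]
      exact h

end Cfsg.Agent.S5607
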