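import Mathlib
import Cfsg.Statements.S1218
import Cfsg.Agent.Lib.Helper38.SylowTwoTypes
import Cfsg.Agent.S1217
-- import your own Cfsg.Agent.* helpers here

set_option autoImplicit false
open scoped MatrixGroups
open Cfsg
open Cfsg.Agent.Lib.Helper38
open Cfsg.Agent.S1217 (diagHom diagHom_val diagHom_injective swapGL swapMat orderOf_swapGL
  swap_conj orderOf_diag_single diag_inf fact2)

namespace Cfsg.Agent.S1218


/-- the unitary group `GU₂(q)` as in the statement -/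
abbrev GU (F : Type*) [Field F] (q : ℕ) : Subgroup (GL (Fin 2) F) :=
  Cfsg.preserving (Units.coeHom (Matrix (Fin 2) (Fin 2) F)) (Cfsg.hermForm 2 F q)

/-- the `q`-Frobenius as a ring homomorphism, for `|F| = q²` -/
theorem exists_frob {F : Type*} [Field F] [Fintype F] (q : ℕ) (hF : Fintype.card F = q ^ 2) :
    ∃ φ : F →+* F, (∀ x, φ x = x ^ q) ∧ (∀ x, φ (φ x) = x) := by
  obtain ⟨p, hp⟩ := CharP.exists F
  have hpp : Fact p.Prime := ⟨CharP.char_is_prime F p⟩
  obtain ⟨n, hpn, hcard⟩ := FiniteField.card F p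
  have hdvd : q ∣ p ^ (n : ℕ) := by
    rw [← hcard, hF]; exact dvd_pow_self q two_ne_zero
  obtain ⟨j, -, rfl⟩ := (Nat.dvd_prime_pow hpn).1 hdvd
  refine ⟨iterateFrobenius F p j, fun x => iterateFrobenius_def _ _ _, fun x => ?_⟩
  rw [iterateFrobenius_def, iterateFrobenius_def, ← pow_mul, ← pow_two, ← hF]
  exact FiniteField.pow_card x

variable {F : Type*} [Field F]

theorem mem_GU_iff (q : ℕ) (φ : F →+* F) (hφ : ∀ x, φ x = x ^ q) (hφ2 : ∀ x, φ (φ x) = x)
    (g : GL (Fin 2) F) :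
    g ∈ GU F q ↔
      (g.1 0 0 * φ (g.1 0 0) + g.1 1 0 * φ (g.1 1 0) = 1 ∧
       g.1 0 1 * φ (g.1 0 1) + g.1 1 1 * φ (g.1 1 1) = 1 ∧
       g.1 0 0 * φ (g.1 0 1) + g.1 1 0 * φ (g.1 1 1) = 0) := by
  constructor
  · intro hg
    have hg' : ∀ u v : Fin 2 → F, Cfsg.hermForm 2 F q (g.1.mulVec u) (g.1.mulVec v) =
        Cfsg.hermForm 2 F q u v := hg
    refine ⟨?_, ?_, ?_⟩
    · have := hg' (Pi.single 0 1) (Pi.single 0 1)
      simpa [Cfsg.hermForm, Fin.sum_univ_two, ← hφ] using this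
    · have := hg' (Pi.single 1 1) (Pi.single 1 1)
      simpa [Cfsg.hermForm, Fin.sum_univ_two, ← hφ] using this
    · have := hg' (Pi.single 0 1) (Pi.single 1 1)
      simpa [Cfsg.hermForm, Fin.sum_univ_two, ← hφ] using this
  · rintro ⟨h1, h2, h3⟩
    have h3' : g.1 0 1 * φ (g.1 0 0) + g.1 1 1 * φ (g.1 1 0) = 0 := by
      have := congrArg φ h3
      simp only [map_add, map_mul, hφ2, map_zero] at this
      linear_combination this
    show ∀ u v : Fin 2 → F, Cfsg.hermForm 2 F q (g.1.mulVec u) (g.1.mulVec v) =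
        Cfsg.hermForm 2 F q u v
    intro u v
    simp only [Cfsg.hermForm, Fin.sum_univ_two, Matrix.mulVec, dotProduct, ← hφ, map_add, map_mul]
    linear_combination (u 0 * φ (v 0)) * h1 + (u 1 * φ (v 1)) * h2 + (u 0 * φ (v 1)) * h3 +
      (u 1 * φ (v 0)) * h3'


section count


variable {F : Type*} [Field F] [Fintype F]

theorem q2_sub_one (q : ℕ) (hq1 : 1 ≤ q) : q ^ 2 - 1 = (q - 1) * (q + 1) := by
  obtain ⟨r, rfl⟩ : ∃ r, q = r + 1 := ⟨q - 1, by omega⟩
  have : (r + 1) ^ 2 = r * (r + 1 + 1) + 1 := by ring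
  simp only [Nat.add_sub_cancel]
  omega

theorem card_units_F (q : ℕ) (hF : Fintype.card F = q ^ 2) : Nat.card Fˣ = q ^ 2 - 1 := by
  classical
  rw [Nat.card_eq_fintype_card, Fintype.card_units, hF]

/-- the norm-one elements -/
theorem card_K (q : ℕ) (hF : Fintype.card F = q ^ 2) (hq1 : 1 ≤ q) (φ : F →+* F)
    (hφ : ∀ x, φ x = x ^ q) :
    Nat.card {μ : F // μ * φ μ = 1} = q + 1 := by
  have e : {μ : F // μ * φ μ = 1} ≃ ↥(powMonoidHom (q + 1) : Fˣ →* Fˣ).ker :=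
    { toFun := fun μ => ⟨Units.mk0 μ.1 (by
          intro h0
          have := μ.2
          rw [h0, zero_mul] at this
          exact zero_ne_one this), by
        rw [MonoidHom.mem_ker, powMonoidHom_apply]
        apply Units.ext
        rw [Units.val_pow_eq_pow_val, Units.val_mk0, Units.val_one, pow_succ', ← hφ]
        exact μ.2⟩
      invFun := fun u => ⟨(u.1 : F), by
        have := u.2
        rw [MonoidHom.mem_ker, powMonoidHom_apply] at this
        have h2 := congrArg (fun x : Fˣ => (x : F)) this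
        simp only [Units.val_pow_eq_pow_val, Units.val_one] at h2
        rw [hφ, ← pow_succ']
        exact h2⟩
      left_inv := fun μ => by
        apply Subtype.ext
        simp
      right_inv := fun u => by
        apply Subtype.ext
        apply Units.ext
        simp }
  rw [Nat.card_congr e, IsCyclic.card_powMonoidHom_ker, card_units_F q hF, q2_sub_one q hq1]
  exact Nat.gcd_eq_right (dvd_mul_left _ _)

/-- fibres of the norm over nonzero fixed points of Frobenius -/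
theorem card_fibre (q : ℕ) (hF : Fintype.card F = q ^ 2) (hq1 : 1 < q) (φ : F →+* F)
    (hφ : ∀ x, φ x = x ^ q) (s : F) (hs0 : s ≠ 0) (hs : φ s = s) :
    Nat.card {x : F // x * φ x = s} = q + 1 := by
  obtain ⟨g, hg⟩ := IsCyclic.exists_monoid_generator (α := Fˣ)
  have hgord : orderOf g = q ^ 2 - 1 := by
    rw [← card_units_F q hF]
    apply orderOf_eq_card_of_forall_mem_zpowers
    intro x
    obtain ⟨j, hj⟩ := hg x
    exact ⟨j, by simpa using hj⟩
  obtain ⟨j, hj⟩ := hg (Units.mk0 s hs0)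
  simp only at hj
  have h1 : (Units.mk0 s hs0) ^ (q - 1) = 1 := by
    apply Units.ext
    rw [Units.val_pow_eq_pow_val, Units.val_mk0, Units.val_one]
    have h2 : s ^ q = s := by rw [← hφ]; exact hs
    have h3 : s * s ^ (q - 1) = s * 1 := by
      rw [← pow_succ', Nat.sub_add_cancel (by omega), h2, mul_one]
    exact mul_left_cancel₀ hs0 h3
  rw [← hj, ← pow_mul] at h1
  have hdvd : (q - 1) * (q + 1) ∣ j * (q - 1) := by
    rw [← q2_sub_one q (by omega), ← hgord]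
    exact orderOf_dvd_of_pow_eq_one h1
  rw [mul_comm j] at hdvd
  have hdvd2 : (q + 1) ∣ j := Nat.dvd_of_mul_dvd_mul_left (by omega) hdvd
  obtain ⟨i, rfl⟩ := hdvd2
  set x₀ : Fˣ := g ^ i with hx₀
  have hx₀s : (x₀ : F) * φ (x₀ : F) = s := by
    have : x₀ ^ (q + 1) = Units.mk0 s hs0 := by rw [← hj, hx₀, ← pow_mul, mul_comm]
    have h2 := congrArg (fun x : Fˣ => (x : F)) this
    simp only [Units.val_pow_eq_pow_val, Units.val_mk0] at h2
    rw [hφ, ← pow_succ']
    exact h2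
  have hx₀0 : (x₀ : F) ≠ 0 := x₀.ne_zero
  have e : {x : F // x * φ x = s} ≃ {μ : F // μ * φ μ = 1} :=
    { toFun := fun x => ⟨x.1 / (x₀ : F), by
        rw [map_div₀, div_mul_div_comm, x.2, hx₀s, div_self hs0]⟩
      invFun := fun μ => ⟨μ.1 * (x₀ : F), by
        rw [map_mul, mul_mul_mul_comm, μ.2, one_mul, hx₀s]⟩
      left_inv := fun x => by
        apply Subtype.ext
        simp [hx₀0]
      right_inv := fun μ => by
        apply Subtype.ext
        simp [hx₀0] }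
  rw [Nat.card_congr e, card_K q hF (by omega) φ hφ]




variable {F : Type*} [Field F] [Fintype F]





theorem card_fibre_zero (φ : F →+* F) :
    Nat.card {x : F // x * φ x = 0} = 1 := by
  have : Unique {x : F // x * φ x = 0} :=
    { default := ⟨0, by simp⟩
      uniq := fun x => by
        apply Subtype.ext
        have := x.2
        rcases mul_eq_zero.1 this with h | h
        · exact h
        · exact (map_eq_zero φ).1 h }
  exact Nat.card_unique

/-- the number of vectors of norm one -/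
theorem card_S (q : ℕ) (hF : Fintype.card F = q ^ 2) (hq1 : 1 < q) (φ : F →+* F)
    (hφ : ∀ x, φ x = x ^ q) (hφ2 : ∀ x, φ (φ x) = x) :
    Nat.card {t : F × F // t.1 * φ t.1 + t.2 * φ t.2 = 1} = (q + 1) * (q ^ 2 - q) := by
  classical
  have e := Equiv.subtypeProdEquivSigmaSubtype (fun a b : F => a * φ a + b * φ b = 1)
  rw [Nat.card_congr e, Nat.card_sigma]
  have hfib : ∀ a : F, Nat.card {b : F // a * φ a + b * φ b = 1} =
      if a * φ a = 1 then 1 else q + 1 := by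
    intro a
    have e2 : {b : F // a * φ a + b * φ b = 1} ≃ {b : F // b * φ b = 1 - a * φ a} :=
      Equiv.subtypeEquivRight (fun b => by
        constructor
        · intro h; rw [← h]; ring
        · intro h; rw [h]; ring)
    rw [Nat.card_congr e2]
    split_ifs with h
    · rw [h, sub_self]
      exact card_fibre_zero φ
    · apply card_fibre q hF hq1 φ hφ
      · intro h0
        apply h
        rw [sub_eq_zero] at h0
        exact h0.symm
      · rw [map_sub, map_one, map_mul, hφ2, mul_comm]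
  simp only [hfib]
  rw [Finset.sum_ite, Finset.sum_const, Finset.sum_const, smul_eq_mul, smul_eq_mul, mul_one]
  have hc : (Finset.univ.filter (fun a : F => a * φ a = 1)).card = q + 1 := by
    rw [← Fintype.card_subtype, ← Nat.card_eq_fintype_card]
    exact card_K q hF (by omega) φ hφ
  have hc2 := Finset.card_filter_add_card_filter_not (s := (Finset.univ : Finset F))
    (fun a : F => a * φ a = 1)
  rw [hc, Finset.card_univ, hF] at hc2
  rw [hc]
  have h3 : (Finset.univ.filter (fun a : F => ¬ a * φ a = 1)).card = q ^ 2 - (q + 1) := by omega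
  rw [h3]
  have h4 : q + 1 ≤ q ^ 2 := by nlinarith
  have h5 : q ≤ q ^ 2 := by nlinarith
  zify [h4, h5]
  ring


end count

section equivs



variable {F : Type*} [Field F]



theorem key (φ : F →+* F) (hφ2 : ∀ x, φ (φ x) = x) (a b c d : F)
    (h1 : a * φ a + b * φ b = 1) (h2 : c * φ c + d * φ d = 1) (h3 : a * φ c + b * φ d = 0) :
    c = -(a * d - c * b) * φ b ∧ d = (a * d - c * b) * φ a ∧
      (a * d - c * b) * φ (a * d - c * b) = 1 := by
  have h3' : c * φ a + d * φ b = 0 := by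
    have := congrArg φ h3
    simp only [map_add, map_mul, hφ2, map_zero] at this
    linear_combination this
  have hc : c = -(a * d - c * b) * φ b := by linear_combination a * h3' - c * h1
  have hd : d = (a * d - c * b) * φ a := by linear_combination b * h3' - d * h1
  refine ⟨hc, hd, ?_⟩
  have hφc : φ c = -φ (a * d - c * b) * b := by
    have := congrArg φ hc
    rw [map_mul, map_neg, hφ2] at this
    exact this
  have hφd : φ d = φ (a * d - c * b) * a := by
    have := congrArg φ hd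
    rw [map_mul, hφ2] at this
    exact this
  linear_combination h2 - c * hφc - d * hφd

theorem card_GU_equiv (q : ℕ) (φ : F →+* F) (hφ : ∀ x, φ x = x ^ q) (hφ2 : ∀ x, φ (φ x) = x) :
    Nonempty (↥(GU F q) ≃
      {t : F × F // t.1 * φ t.1 + t.2 * φ t.2 = 1} × {μ : F // μ * φ μ = 1}) := by
  have hdet : ∀ (a b μ : F), a * φ a + b * φ b = 1 →
      (!![a, -μ * φ b; b, μ * φ a] : Matrix (Fin 2) (Fin 2) F).det = μ := by
    intro a b μ h
    rw [Matrix.det_fin_two_of]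
    linear_combination μ * h
  refine ⟨{ toFun := fun g => ?_, invFun := fun t => ?_, left_inv := ?_, right_inv := ?_ }⟩
  · have hg := (mem_GU_iff q φ hφ hφ2 g.1).1 g.2
    have hk := key φ hφ2 _ _ _ _ hg.1 hg.2.1 hg.2.2
    exact (⟨(g.1.1 0 0, g.1.1 1 0), hg.1⟩, ⟨g.1.1.det, by rw [Matrix.det_fin_two]; exact hk.2.2⟩)
  · have hμ0 : t.2.1 ≠ 0 := by
      intro h0
      have := t.2.2
      rw [h0, zero_mul] at this
      exact zero_ne_one this
    refine ⟨Matrix.GeneralLinearGroup.mkOfDetNeZero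
      !![t.1.1.1, -t.2.1 * φ t.1.1.2; t.1.1.2, t.2.1 * φ t.1.1.1]
      (by rw [hdet _ _ _ t.1.2]; exact hμ0), ?_⟩
    rw [mem_GU_iff q φ hφ hφ2]
    refine ⟨?_, ?_, ?_⟩
    · exact t.1.2
    · show (-t.2.1 * φ t.1.1.2) * φ (-t.2.1 * φ t.1.1.2) + (t.2.1 * φ t.1.1.1) * φ (t.2.1 * φ t.1.1.1) = 1
      simp only [map_mul, map_neg, hφ2]
      linear_combination (t.2.1 * φ t.2.1) * t.1.2 + t.2.2
    · show t.1.1.1 * φ (-t.2.1 * φ t.1.1.2) + t.1.1.2 * φ (t.2.1 * φ t.1.1.1) = 0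
      simp only [map_mul, map_neg, hφ2]
      ring
  · intro g
    have hg := (mem_GU_iff q φ hφ hφ2 g.1).1 g.2
    have hk := key φ hφ2 _ _ _ _ hg.1 hg.2.1 hg.2.2
    apply Subtype.ext
    apply Units.ext
    ext i j
    fin_cases i <;> fin_cases j
    · rfl
    · show -g.1.1.det * φ (g.1.1 1 0) = g.1.1 0 1
      rw [Matrix.det_fin_two]
      exact hk.1.symm
    · rfl
    · show g.1.1.det * φ (g.1.1 0 0) = g.1.1 1 1
      rw [Matrix.det_fin_two]
      exact hk.2.1.symm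
  · intro t
    apply Prod.ext
    · apply Subtype.ext
      rfl
    · apply Subtype.ext
      exact hdet _ _ _ t.1.2


end equivs

section elements



variable {F : Type*} [Field F]



theorem diag_mem (q : ℕ) (φ : F →+* F) (hφ : ∀ x, φ x = x ^ q) (hφ2 : ∀ x, φ (φ x) = x)
    (d : Fin 2 → Fˣ) (h0 : (d 0 : F) * φ (d 0) = 1) (h1 : (d 1 : F) * φ (d 1) = 1) :
    diagHom d ∈ GU F q := by
  rw [mem_GU_iff q φ hφ hφ2]
  have e : ((diagHom d : GL (Fin 2) F)).1 = Matrix.diagonal (fun i => (d i : F)) := diagHom_val d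
  rw [e]
  simp [h0, h1]

theorem swap_mem (q : ℕ) (φ : F →+* F) (hφ : ∀ x, φ x = x ^ q) (hφ2 : ∀ x, φ (φ x) = x) :
    (swapGL : GL (Fin 2) F) ∈ GU F q := by
  rw [mem_GU_iff q φ hφ hφ2]
  simp [swapGL, swapMat]

section torus

variable (α β h : F) (hαβ : α * β = 1) (hh : 2 * h = 1)

/-- change of basis to a hyperbolic pair -/
def Tm : Matrix (Fin 2) (Fin 2) F := !![1, 1; α, -α]

/-- its inverse -/
def Ti : Matrix (Fin 2) (Fin 2) F := !![h, h * β; h, -(h * β)]

include hαβ hh in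
theorem Tm_mul_Ti : Tm α * Ti β h = 1 := by
  ext i j
  fin_cases i <;> fin_cases j <;> simp [Tm, Ti, Matrix.mul_apply, Fin.sum_univ_two]
  · linear_combination hh
  · linear_combination (2 * h) * hαβ + hh

include hαβ hh in
theorem Ti_mul_Tm : Ti β h * Tm α = 1 := by
  have hβα : h * β * α = h := by linear_combination h * hαβ
  ext i j
  fin_cases i <;> fin_cases j <;> simp [Tm, Ti, Matrix.mul_apply, Fin.sum_univ_two, hβα]
  all_goals linear_combination hh

/-- the change of basis in `GL₂` -/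
def TGL : GL (Fin 2) F := ⟨Tm α, Ti β h, Tm_mul_Ti α β h hαβ hh, Ti_mul_Tm α β h hαβ hh⟩

/-- the torus in hyperbolic coordinates, conjugated back -/
noncomputable def torus : (Fin 2 → Fˣ) →* GL (Fin 2) F :=
  (MulAut.conj (TGL α β h hαβ hh)).toMonoidHom.comp diagHom

theorem torus_injective : Function.Injective (torus α β h hαβ hh) := by
  intro d e hde
  apply diagHom_injective
  exact (MulAut.conj (TGL α β h hαβ hh)).injective hde

omit hαβ hh in
theorem diagonal_fin_two (x : Fin 2 → F) : Matrix.diagonal x = !![x 0, 0; 0, x 1] := by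
  ext i j
  fin_cases i <;> fin_cases j <;> simp

theorem torus_val (d : Fin 2 → Fˣ) :
    (torus α β h hαβ hh d).1 =
      !![h * ((d 0 : F) + d 1), h * β * ((d 0 : F) - d 1);
         h * α * ((d 0 : F) - d 1), h * ((d 0 : F) + d 1)] := by
  have e : (torus α β h hαβ hh d).1 = Tm α * Matrix.diagonal (fun i => (d i : F)) * Ti β h := rfl
  rw [e, diagonal_fin_two, Tm, Ti, Matrix.mul_fin_two, Matrix.mul_fin_two]
  ext i j
  fin_cases i <;> fin_cases j <;> simp
  · ring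
  · ring
  · ring
  · linear_combination ((h * ((d 0 : F) + d 1))) * hαβ

theorem torus_mem (q : ℕ) (φ : F →+* F) (hφ : ∀ x, φ x = x ^ q) (hφ2 : ∀ x, φ (φ x) = x)
    (hφh : φ h = h) (hφα : φ α = -β) (hφβ : φ β = -α)
    (d : Fin 2 → Fˣ) (hd : (d 0 : F) * φ (d 1) = 1) :
    torus α β h hαβ hh d ∈ GU F q := by
  have hd' : (d 1 : F) * φ (d 0) = 1 := by
    have := congrArg φ hd
    rw [map_mul, hφ2, map_one] at this
    linear_combination this
  rw [mem_GU_iff q φ hφ hφ2, torus_val]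
  simp only [Matrix.of_apply, Matrix.cons_val', Matrix.cons_val_zero, Matrix.cons_val_one,
    Matrix.cons_val_fin_one, map_mul, map_add, map_sub, hφh, hφα, hφβ]
  refine ⟨?_, ?_, ?_⟩
  · linear_combination (2 * h ^ 2) * hd + (2 * h ^ 2) * hd' + (2 * h + 1) * hh -
      (h ^ 2 * ((d 0 : F) - d 1) * (φ (d 0) - φ (d 1))) * hαβ
  · linear_combination (2 * h ^ 2) * hd + (2 * h ^ 2) * hd' + (2 * h + 1) * hh -
      (h ^ 2 * ((d 0 : F) - d 1) * (φ (d 0) - φ (d 1))) * hαβ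
  · linear_combination (2 * h ^ 2 * α) * hd - (2 * h ^ 2 * α) * hd'

/-- the reflection `diag(1,-1)` -/
noncomputable def Yg : GL (Fin 2) F := diagHom ![1, -1]

omit hαβ hh in
theorem Yg_mul_self : (Yg : GL (Fin 2) F) * Yg = 1 := by
  rw [Yg, ← map_mul]
  have : (![1, -1] : Fin 2 → Fˣ) * ![1, -1] = 1 := by
    ext i
    fin_cases i <;> simp
  rw [this, map_one]

omit hαβ hh in
theorem Yg_mem (q : ℕ) (φ : F →+* F) (hφ : ∀ x, φ x = x ^ q) (hφ2 : ∀ x, φ (φ x) = x) :
    (Yg : GL (Fin 2) F) ∈ GU F q := by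
  apply diag_mem q φ hφ hφ2 <;> simp

omit hαβ hh in
theorem orderOf_Yg (h2 : (2 : F) ≠ 0) : orderOf (Yg : GL (Fin 2) F) = 2 := by
  have : Fact (Nat.Prime 2) := ⟨Nat.prime_two⟩
  rw [orderOf_eq_prime_iff]
  refine ⟨by rw [pow_two]; exact Yg_mul_self, ?_⟩
  intro h1
  have h3 : (![1, -1] : Fin 2 → Fˣ) = 1 := diagHom_injective (by rw [map_one]; exact h1)
  have h4 := congrFun h3 1
  simp only [Matrix.cons_val_one, Matrix.cons_val_fin_one, Pi.one_apply] at h4
  have h5 := congrArg (fun x : Fˣ => (x : F)) h4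
  simp only [Units.val_neg, Units.val_one] at h5
  apply h2
  linear_combination -h5

theorem Yg_conj (d : Fin 2 → Fˣ) :
    (Yg : GL (Fin 2) F) * torus α β h hαβ hh d * Yg⁻¹ = torus α β h hαβ hh ![d 1, d 0] := by
  have hinv : (Yg : GL (Fin 2) F)⁻¹ = Yg := inv_eq_of_mul_eq_one_left Yg_mul_self
  rw [hinv]
  apply Units.ext
  rw [Units.val_mul, Units.val_mul, torus_val, torus_val]
  have e : (Yg : GL (Fin 2) F).1 = Matrix.diagonal (fun i => ((![1, -1] : Fin 2 → Fˣ) i : F)) :=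
    diagHom_val _
  rw [e, diagonal_fin_two, Matrix.mul_fin_two, Matrix.mul_fin_two]
  ext i j
  fin_cases i <;> fin_cases j <;> simp <;> first | ring1 | (left; ring1)

end torus


end elements

section final

variable {F : Type*} [Field F] [Fintype F]

/-- the order of `GU₂(q)` -/
theorem card_GU (q : ℕ) (hF : Fintype.card F = q ^ 2) (hq1 : 1 < q) (φ : F →+* F)
    (hφ : ∀ x, φ x = x ^ q) (hφ2 : ∀ x, φ (φ x) = x) :
    Nat.card ↥(GU F q) = (q + 1) * (q ^ 2 - q) * (q + 1) := by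
  obtain ⟨e⟩ := card_GU_equiv q φ hφ hφ2
  rw [Nat.card_congr e, Nat.card_prod, card_S q hF hq1 φ hφ hφ2, card_K q hF (by omega) φ hφ]

theorem card_sylow_GU (q : ℕ) (hF : Fintype.card F = q ^ 2) (hq1 : 1 < q) (φ : F →+* F)
    (hφ : ∀ x, φ x = x ^ q) (hφ2 : ∀ x, φ (φ x) = x) (P : Sylow 2 ↥(GU F q)) (e m : ℕ)
    (hm : Odd m) (h : (q + 1) * (q ^ 2 - q) * (q + 1) = 2 ^ e * m) :
    Nat.card (P : Subgroup ↥(GU F q)) = 2 ^ e := by
  have := P.card_eq_multiplicity
  rw [card_GU q hF hq1 φ hφ hφ2, h, fact2 e m hm] at this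
  exact this

theorem q2_sub_q (q : ℕ) (hq1 : 1 ≤ q) : q ^ 2 - q = q * (q - 1) := by
  obtain ⟨r, rfl⟩ : ∃ r, q = r + 1 := ⟨q - 1, by omega⟩
  have : (r + 1) ^ 2 = (r + 1) * r + (r + 1) := by ring
  simp only [Nat.add_sub_cancel]
  omega

/-- numerics for `q ≡ 3 mod 4` -/
theorem numU_three (q : ℕ) (hq : q % 4 = 3) :
    ∃ a u m : ℕ, 2 ≤ a ∧ Odd u ∧ Odd m ∧ q + 1 = 2 ^ a * u ∧
      (q + 1) * (q ^ 2 - q) * (q + 1) = 2 ^ (2 * a + 1) * m := by
  obtain ⟨a, u, hu, hau⟩ := Nat.exists_eq_two_pow_mul_odd (n := q + 1) (by omega)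
  have ha : 2 ≤ a := by
    by_contra hlt
    have : a = 0 ∨ a = 1 := by omega
    obtain ⟨j, hj⟩ := hu
    rcases this with rfl | rfl
    · simp at hau; omega
    · simp at hau; omega
  obtain ⟨v, h2⟩ : ∃ v, q - 1 = 2 * v := ⟨(q - 1) / 2, by omega⟩
  have hv : Odd v := by
    rw [Nat.odd_iff]; omega
  have hqodd : Odd q := by rw [Nat.odd_iff]; omega
  refine ⟨a, u, q * u ^ 2 * v, ha, hu, (hqodd.mul hu.pow).mul hv, hau, ?_⟩
  rw [q2_sub_q q (by omega), hau, h2]
  ring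

/-- numerics for `q ≡ 1 mod 4` -/
theorem numU_one (q : ℕ) (hq : q % 4 = 1) (hq1 : 1 < q) :
    ∃ k u v m : ℕ, 2 ≤ k ∧ Odd u ∧ Odd v ∧ Odd m ∧ q - 1 = 2 ^ k * v ∧ q + 1 = 2 * u ∧
      (q + 1) * (q ^ 2 - q) * (q + 1) = 2 ^ (k + 2) * m := by
  obtain ⟨k, v, hv, hkv⟩ := Nat.exists_eq_two_pow_mul_odd (n := q - 1) (by omega)
  have hk : 2 ≤ k := by
    by_contra hlt
    have : k = 0 ∨ k = 1 := by omega
    obtain ⟨j, hj⟩ := hv
    rcases this with rfl | rfl
    · simp at hkv; omega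
    · simp at hkv; omega
  obtain ⟨u, h2⟩ : ∃ u, q + 1 = 2 * u := ⟨(q + 1) / 2, by omega⟩
  have hu : Odd u := by
    rw [Nat.odd_iff]; omega
  have hqodd : Odd q := by rw [Nat.odd_iff]; omega
  refine ⟨k, u, v, q * u ^ 2 * v, hk, hu, hv, (hqodd.mul hu.pow).mul hv, hkv, h2, ?_⟩
  rw [q2_sub_q q (by omega), hkv, h2]
  ring

end final

section transfer

theorem isWreathed_of_elements_sub {G : Type*} [Group G] (H : Subgroup G) [Finite H]
    (P : Sylow 2 ↥H) (n : ℕ) (hn : 2 ≤ n)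
    (hcard : Nat.card (P : Subgroup ↥H) = 2 ^ (2 * n + 1)) (X Y Z : G)
    (hXH : X ∈ H) (hYH : Y ∈ H) (hZH : Z ∈ H)
    (hX : orderOf X = 2 ^ n) (hXY : X * Y = Y * X)
    (hinf : Subgroup.zpowers X ⊓ Subgroup.zpowers Y = ⊥) (hZ : orderOf Z = 2)
    (hZX : Z * X * Z⁻¹ = Y) : Cfsg.IsWreathed ↥(P : Subgroup ↥H) := by
  refine isWreathed_of_elements P n hn hcard ⟨X, hXH⟩ ⟨Y, hYH⟩ ⟨Z, hZH⟩ ?_ ?_ ?_ ?_ ?_
  · rw [Subgroup.orderOf_mk]; exact hX
  · exact Subtype.ext hXY
  · rw [eq_bot_iff]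
    rintro w ⟨hw1, hw2⟩
    rw [Subgroup.mem_bot]
    have h1 : (w : G) ∈ Subgroup.zpowers X := by
      obtain ⟨k, hk⟩ := hw1
      exact ⟨k, by rw [← hk]; simp⟩
    have h2 : (w : G) ∈ Subgroup.zpowers Y := by
      obtain ⟨k, hk⟩ := hw2
      exact ⟨k, by rw [← hk]; simp⟩
    have h3 : (w : G) ∈ Subgroup.zpowers X ⊓ Subgroup.zpowers Y := ⟨h1, h2⟩
    rw [hinf, Subgroup.mem_bot] at h3
    exact Subtype.ext h3
  · rw [Subgroup.orderOf_mk]; exact hZ
  · exact Subtype.ext hZX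

theorem isQuasiDihedral_of_elements_sub {G : Type*} [Group G] (H : Subgroup G) [Finite H]
    (P : Sylow 2 ↥H) (n : ℕ) (hn : 3 ≤ n)
    (hcard : Nat.card (P : Subgroup ↥H) = 2 ^ (n + 1)) (X Y : G)
    (hXH : X ∈ H) (hYH : Y ∈ H)
    (hX : orderOf X = 2 ^ n) (hY : orderOf Y = 2)
    (hYX : Y * X * Y⁻¹ = X ^ (2 ^ (n - 1) - 1)) : Cfsg.IsQuasiDihedral ↥(P : Subgroup ↥H) := by
  refine isQuasiDihedral_of_elements P n hn hcard ⟨X, hXH⟩ ⟨Y, hYH⟩ ?_ ?_ ?_
  · rw [Subgroup.orderOf_mk]; exact hX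
  · rw [Subgroup.orderOf_mk]; exact hY
  · exact Subtype.ext hYX

end transfer

section cases

variable {F : Type*} [Field F] [Fintype F]

theorem one_lt_q (q : ℕ) (hF : Fintype.card F = q ^ 2) : 1 < q := by
  have h1 := Fintype.one_lt_card (α := F)
  rw [hF] at h1
  by_contra hle
  have : q = 0 ∨ q = 1 := by omega
  rcases this with rfl | rfl <;> simp at h1

theorem wreathed_case (q : ℕ) (hF : Fintype.card F = q ^ 2) (hq4 : q % 4 = 3)
    (P : Sylow 2 ↥(GU F q)) : Cfsg.IsWreathed ↥(P : Subgroup ↥(GU F q)) := by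
  classical
  obtain ⟨φ, hφ, hφ2⟩ := exists_frob q hF
  have hq1 : 1 < q := by omega
  obtain ⟨a, u, m, ha, hu, hm, hau, hcard⟩ := numU_three q hq4
  obtain ⟨g, hg⟩ := IsCyclic.exists_ofOrder_eq_natCard (α := Fˣ)
  have hcardU := card_units_F q hF
  have hu0 : u ≠ 0 := by rintro rfl; simp at hu
  have hw0 : u * (q - 1) ≠ 0 := Nat.mul_ne_zero hu0 (by omega)
  have hN : q ^ 2 - 1 = 2 ^ a * (u * (q - 1)) := by
    rw [q2_sub_one q (by omega), hau]; ring
  have hζ : orderOf (g ^ (u * (q - 1))) = 2 ^ a := by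
    rw [orderOf_pow_of_dvd hw0 (by rw [hg, hcardU, hN]; exact dvd_mul_left _ _), hg, hcardU, hN,
      Nat.mul_div_cancel _ (Nat.pos_of_ne_zero hw0)]
  set ζ : Fˣ := g ^ (u * (q - 1)) with hζdef
  have hζN : (ζ : F) * φ (ζ : F) = 1 := by
    rw [hφ, ← pow_succ']
    have h1 : ζ ^ (q + 1) = 1 := by
      rw [hau, pow_mul, ← hζ, pow_orderOf_eq_one, one_pow]
    have h2 := congrArg (fun x : Fˣ => (x : F)) h1
    simpa using h2
  refine isWreathed_of_elements_sub (GU F q) P a ha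
    (card_sylow_GU q hF hq1 φ hφ hφ2 P _ m hm hcard)
    (diagHom (Pi.mulSingle 0 ζ)) (diagHom (Pi.mulSingle 1 ζ)) swapGL ?_ ?_ ?_ ?_ ?_
    (diag_inf _) orderOf_swapGL (swap_conj _)
  · apply diag_mem q φ hφ hφ2 <;> simp [hζN]
  · apply diag_mem q φ hφ hφ2 <;> simp [hζN]
  · exact swap_mem q φ hφ hφ2
  · rw [orderOf_diag_single]; exact hζ
  · rw [← map_mul, ← map_mul, mul_comm]

/-- `l ↦ (l, l^{-q})` -/
def psi (q : ℕ) : Fˣ →* (Fin 2 → Fˣ) :=
  MonoidHom.mk' (fun l => ![l, (l ^ q)⁻¹]) (by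
    intro a b
    ext i
    fin_cases i <;> simp [mul_pow, mul_comm])

omit [Fintype F] in
theorem psi_injective (q : ℕ) : Function.Injective (psi (F := F) q) := by
  intro a b h
  have := congrFun h 0
  simpa [psi] using this

theorem qd_case (q : ℕ) (hF : Fintype.card F = q ^ 2) (hq4 : q % 4 = 1)
    (P : Sylow 2 ↥(GU F q)) : Cfsg.IsQuasiDihedral ↥(P : Subgroup ↥(GU F q)) := by
  classical
  obtain ⟨φ, hφ, hφ2⟩ := exists_frob q hF
  have hq1 : 1 < q := one_lt_q q hF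
  obtain ⟨k, u, v, m, hk, hu, hv, hm, hkv, h2u, hcard⟩ := numU_one q hq4 hq1
  -- `2` is invertible
  have h2 : (2 : F) ≠ 0 := by
    apply Ring.two_ne_zero
    intro hch
    have := (FiniteField.even_card_iff_char_two (F := F)).1 hch
    rw [hF, Nat.pow_mod] at this
    have hq2 : q % 2 = 1 := by omega
    rw [hq2] at this
    simp at this
  have hh : (2 : F) * (2 : F)⁻¹ = 1 := mul_inv_cancel₀ h2
  have hφh : φ ((2 : F)⁻¹) = (2 : F)⁻¹ := by rw [map_inv₀, map_ofNat]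
  -- `α` of norm `-1`
  have hfib := card_fibre q hF hq1 φ hφ (-1) (neg_ne_zero.2 one_ne_zero)
    (by rw [map_neg, map_one])
  have hne : Nonempty {x : F // x * φ x = -1} := by
    have : 0 < Nat.card {x : F // x * φ x = -1} := by rw [hfib]; omega
    exact (Nat.card_pos_iff.1 this).1
  obtain ⟨⟨α, hα⟩⟩ := hne
  have hα0 : α ≠ 0 := by
    rintro rfl
    rw [zero_mul] at hα
    exact one_ne_zero (neg_eq_zero.1 hα.symm)
  have hαβ : α * α⁻¹ = 1 := mul_inv_cancel₀ hα0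
  have hφα : φ α = -α⁻¹ := by
    apply mul_left_cancel₀ hα0
    rw [hα, mul_neg, hαβ]
  have hφβ : φ α⁻¹ = -α := by
    rw [map_inv₀, hφα, inv_neg, inv_inv]
  -- element of order `2^(k+1)`
  obtain ⟨g, hg⟩ := IsCyclic.exists_ofOrder_eq_natCard (α := Fˣ)
  have hcardU := card_units_F q hF
  have hu0 : u ≠ 0 := by rintro rfl; simp at hu
  have hv0 : v ≠ 0 := by rintro rfl; simp at hv
  have huv : u * v ≠ 0 := Nat.mul_ne_zero hu0 hv0
  have hN : q ^ 2 - 1 = 2 ^ (k + 1) * (u * v) := by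
    rw [q2_sub_one q (by omega), hkv, h2u]; ring
  have hl : orderOf (g ^ (u * v)) = 2 ^ (k + 1) := by
    rw [orderOf_pow_of_dvd huv (by rw [hg, hcardU, hN]; exact dvd_mul_left _ _), hg, hcardU, hN,
      Nat.mul_div_cancel _ (Nat.pos_of_ne_zero huv)]
  set l : Fˣ := g ^ (u * v) with hldef
  have hlq2 : l ^ (q * q) = l := by
    have h1 : l ^ (q ^ 2 - 1) = 1 := by
      rw [← hcardU]; exact pow_card_eq_one'
    have h3 : q * q = (q ^ 2 - 1) + 1 := by
      have : 1 ≤ q ^ 2 := Nat.one_le_pow _ _ (by omega)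
      rw [← pow_two]; omega
    rw [h3, pow_succ, h1, one_mul]
  have hl1 : l ^ (2 ^ k - 1) = (l ^ q)⁻¹ := by
    apply eq_inv_of_mul_eq_one_left
    rw [← pow_add]
    apply orderOf_dvd_iff_pow_eq_one.1
    rw [hl]
    obtain ⟨j, rfl⟩ := hv
    have h2k : 1 ≤ 2 ^ k := Nat.one_le_two_pow
    have hq' : q = 2 ^ k * (2 * j + 1) + 1 := by omega
    refine ⟨j + 1, ?_⟩
    rw [hq']
    have : 2 ^ k - 1 + (2 ^ k * (2 * j + 1) + 1) = 2 ^ k + 2 ^ k * (2 * j + 1) := by omega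
    rw [this, pow_succ]
    ring
  have hl2 : l = ((l ^ (2 ^ k - 1)) ^ q)⁻¹ := by
    rw [hl1, inv_pow, inv_inv, ← pow_mul, hlq2]
  -- assemble
  have hcardP := card_sylow_GU q hF hq1 φ hφ hφ2 P _ m hm hcard
  refine isQuasiDihedral_of_elements_sub (GU F q) P (k + 1) (by omega) hcardP
    (torus α α⁻¹ (2 : F)⁻¹ hαβ hh (psi q l)) Yg ?_ ?_ ?_ ?_ ?_
  · apply torus_mem α α⁻¹ (2 : F)⁻¹ hαβ hh q φ hφ hφ2 hφh hφα hφβ
    show (l : F) * φ (((l ^ q)⁻¹ : Fˣ) : F) = 1
    rw [hφ, ← Units.val_pow_eq_pow_val, inv_pow, ← pow_mul, hlq2]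
    simp
  · exact Yg_mem q φ hφ hφ2
  · rw [orderOf_injective _ (torus_injective α α⁻¹ (2 : F)⁻¹ hαβ hh),
      orderOf_injective _ (psi_injective q)]
    exact hl
  · exact orderOf_Yg h2
  · rw [Yg_conj, Nat.add_sub_cancel, ← map_pow, ← map_pow]
    congr 1
    show ![(l ^ q)⁻¹, l] = ![l ^ (2 ^ k - 1), ((l ^ (2 ^ k - 1)) ^ q)⁻¹]
    rw [← hl2, hl1]

end cases


/-- Let F be a finite field with q² elements, q odd, let GU be the subgroup of GL(2,F) preserving the Hermitian form u₁v₁^q + u₂v₂^q, and P a Sylow 2-subgroup of GU. If q ≡ 1 (mod 4) then P is quasi-dihedral; if q ≡ 3 (mod 4) then P is wreathed. -/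
theorem result {F : Type*} [Field F] [Fintype F] (q : ℕ) (hF : Fintype.card F = q ^ 2) (hq : Odd q) (P : Sylow 2 ↥(Cfsg.preserving (Units.coeHom (Matrix (Fin 2) (Fin 2) F)) (Cfsg.hermForm 2 F q))) : (q % 4 = 1 → Cfsg.IsQuasiDihedral (P : Subgroup ↥(Cfsg.preserving (Units.coeHom (Matrix (Fin 2) (Fin 2) F)) (Cfsg.hermForm 2 F q)))) ∧ (q % 4 = 3 → Cfsg.IsWreathed (P : Subgroup ↥(Cfsg.preserving (Units.coeHom (Matrix (Fin 2) (Fin 2) F)) (Cfsg.hermForm 2 F q)))) := by
  exact ⟨fun h => qd_case q hF h P, fun h => wreathed_case q hF h P⟩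

end Cfsg.Agent.S1218
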