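import Cfsg.Statements.S4422
-- import your own Cfsg.Agent.* helpers here

set_option autoImplicit false
open Cfsg

namespace Cfsg.Agent.S4422

/-- A natural number all of whose prime divisors are `≡ 1 (mod e)` is `≡ 1 (mod e)`. -/
theorem modEq_one_of_prime_divisors (e : ℕ) :
    ∀ m : ℕ, m ≠ 0 → (∀ p : ℕ, p.Prime → p ∣ m → p ≡ 1 [MOD e]) → m ≡ 1 [MOD e] := by
  intro m
  induction m using Nat.strong_induction_on with
  | _ m ih =>
    intro hm0 hp
    by_cases hm1 : m = 1
    · subst hm1; exact Nat.ModEq.refl 1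
    · have hpr : (Nat.minFac m).Prime := Nat.minFac_prime hm1
      have hdvd : Nat.minFac m ∣ m := Nat.minFac_dvd m
      obtain ⟨k, hk⟩ := hdvd
      have hk0 : k ≠ 0 := by
        rintro rfl
        simp at hk
        exact hm0 hk
      have hklt : k < m := by
        have h2 : 2 ≤ Nat.minFac m := hpr.two_le
        have hkpos : 0 < k := Nat.pos_of_ne_zero hk0
        nlinarith
      have hkm : k ∣ m := Dvd.intro_left _ hk.symm
      have h1 : k ≡ 1 [MOD e] := ih k hklt hk0 (fun p hpp hpk => hp p hpp (dvd_trans hpk hkm))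
      have h2 : Nat.minFac m ≡ 1 [MOD e] := hp _ hpr (Nat.minFac_dvd m)
      have := Nat.ModEq.mul h2 h1
      rw [← hk] at this
      simpa using this

theorem prime_divisor_modEq_one (q e p : ℕ) (hq : 2 ≤ q) (he : 1 ≤ e) (hp : p.Prime)
    (hpd : p ∣ q ^ e - 1) (hcop : ∀ i : ℕ, 1 ≤ i → i < e → ¬ p ∣ q ^ i - 1) :
    p ≡ 1 [MOD e] := by
  have : Fact p.Prime := ⟨hp⟩
  have hq1 : ∀ i : ℕ, 1 ≤ q ^ i := fun i => Nat.one_le_pow _ _ (by omega)
  have key : ∀ i : ℕ, p ∣ q ^ i - 1 ↔ (q : ZMod p) ^ i = 1 := by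
    intro i
    rw [← ZMod.natCast_eq_zero_iff, Nat.cast_sub (hq1 i), Nat.cast_pow, Nat.cast_one, sub_eq_zero]
  have hqe : (q : ZMod p) ^ e = 1 := (key e).1 hpd
  have hq0 : (q : ZMod p) ≠ 0 := by
    intro h0
    rw [h0, zero_pow (by omega : e ≠ 0)] at hqe
    exact zero_ne_one hqe
  have hde : orderOf (q : ZMod p) ∣ e := orderOf_dvd_of_pow_eq_one hqe
  have hdpos : 0 < orderOf (q : ZMod p) := by
    apply orderOf_pos_iff.2
    exact isOfFinOrder_iff_pow_eq_one.2 ⟨e, by omega, hqe⟩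
  have hdeq : orderOf (q : ZMod p) = e := by
    by_contra hne
    have hlt : orderOf (q : ZMod p) < e :=
      lt_of_le_of_ne (Nat.le_of_dvd (by omega) hde) hne
    exact hcop _ hdpos hlt ((key _).2 (pow_orderOf_eq_one _))
  have hdiv : e ∣ p - 1 := by
    rw [← hdeq]
    exact ZMod.orderOf_dvd_card_sub_one hq0
  have hp1 : 1 ≤ p := hp.one_lt.le
  exact ((Nat.modEq_iff_dvd' hp1).2 hdiv).symm

/-- Primitive divisors of `q^e - 1` are congruent to 1 modulo `e`. Let `q ≥ 2` and `e ≥ 1` be natural numbers and let `m` be a divisor of `q^e - 1` that is coprime to `q^i - 1` for every `1 ≤ i < e` (so `m` divides the primitive part of `q^e - 1`, the largest such divisor). Then `m ≡ 1 (mod e)`. -/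
theorem result (q e m : ℕ) (hq : 2 ≤ q) (he : 1 ≤ e)
    (hm : m ∣ q ^ e - 1) (hcop : ∀ i : ℕ, 1 ≤ i → i < e → Nat.Coprime m (q ^ i - 1)) :
    m % e = 1 % e := by
  have hpos : 0 < q ^ e - 1 := by
    have : 2 ^ 1 ≤ q ^ e := by
      calc 2 ^ 1 ≤ q ^ 1 := by simpa using hq
        _ ≤ q ^ e := Nat.pow_le_pow_right (by omega) he
    omega
  have hm0 : m ≠ 0 := by
    rintro rfl
    simp at hm
    omega
  apply modEq_one_of_prime_divisors e m hm0
  intro p hp hpm
  apply prime_divisor_modEq_one q e p hq he hp (dvd_trans hpm hm)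
  intro i hi1 hie hpi
  have hc := hcop i hi1 hie
  have : p ∣ Nat.gcd m (q ^ i - 1) := Nat.dvd_gcd hpm hpi
  rw [hc] at this
  exact hp.one_lt.ne' (Nat.dvd_one.1 this)

end Cfsg.Agent.S4422
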