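import Mathlib
import Cfsg.Statements.S0019
import Cfsg.Agent.Lib.Helper1.SZConj

set_option autoImplicit false
open Cfsg

namespace Cfsg.Agent.S0019

open Pointwise Cfsg.Agent.Lib.Helper1

universe u

/-- A `p`-subgroup `N` normalized by `H₁` lies in `H₃` if `G = H₁ H₃` and `p ∤ |G : H₃|`. -/
theorem le_of_normal_pSubgroup {G : Type*} [Group G] [Finite G] {p : ℕ} [Fact p.Prime]
    (H₁ H₃ N : Subgroup G)
    (hN : IsPGroup p N) (hnorm : H₁ ≤ Subgroup.normalizer (N : Set G))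
    (h13 : ∀ g : G, ∃ x ∈ H₁, ∃ y ∈ H₃, g = x * y) (hp : ¬ p ∣ H₃.index) : N ≤ H₃ := by
  let P : Sylow p H₃ := Classical.arbitrary _
  have hQp : IsPGroup p ((P : Subgroup H₃).map H₃.subtype) := P.isPGroup'.map _
  have hQi : ¬ p ∣ ((P : Subgroup H₃).map H₃.subtype).index := by
    rw [Subgroup.index_map_subtype]
    exact Nat.Prime.not_dvd_mul Fact.out P.not_dvd_index hp
  let Q : Sylow p G := hQp.toSylow hQi
  have hQH₃ : (Q : Subgroup G) ≤ H₃ := Subgroup.map_subtype_le _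
  obtain ⟨R, hR⟩ := hN.exists_le_sylow
  obtain ⟨x, hx⟩ := MulAction.exists_smul_eq G Q R
  obtain ⟨a, ha, b, hb, hab⟩ := h13 x
  intro n hn
  have hn' : a * n * a⁻¹ ∈ N := (Subgroup.mem_normalizer_iff.mp (hnorm ha) n).mp hn
  have h1 : a * n * a⁻¹ ∈ (R : Subgroup G) := hR hn'
  rw [← hx, Sylow.smul_def, Sylow.pointwise_smul_def,
    Subgroup.mem_pointwise_smul_iff_inv_smul_mem] at h1
  have h2 : (MulAut.conj x)⁻¹ • (a * n * a⁻¹) = b⁻¹ * n * b := by
    rw [← map_inv, MulAut.smul_def, MulAut.conj_apply, hab]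
    group
  rw [h2] at h1
  have h3 : b⁻¹ * n * b ∈ H₃ := hQH₃ h1
  have : n = b * (b⁻¹ * n * b) * b⁻¹ := by group
  rw [this]
  exact H₃.mul_mem (H₃.mul_mem hb h3) (H₃.inv_mem hb)

/-- One step: with `p ∤ |G : H₃|` a nontrivial normal `p`-subgroup of `H₁` has its normal closure
inside `H₃`. -/
theorem normalClosure_le {G : Type*} [Group G] [Finite G] {p : ℕ} [Fact p.Prime]
    (H₁ H₃ N : Subgroup G)
    (hN : IsPGroup p N) (hnorm : H₁ ≤ Subgroup.normalizer (N : Set G))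
    (h13 : ∀ g : G, ∃ x ∈ H₁, ∃ y ∈ H₃, g = x * y) (hp : ¬ p ∣ H₃.index) :
    Subgroup.normalClosure (N : Set G) ≤ H₃ := by
  have hNH₃ : N ≤ H₃ := le_of_normal_pSubgroup H₁ H₃ N hN hnorm h13 hp
  rw [Subgroup.normalClosure, Subgroup.closure_le]
  intro y hy
  rw [Group.mem_conjugatesOfSet_iff] at hy
  obtain ⟨n, hn, hconj⟩ := hy
  obtain ⟨g, hg⟩ := isConj_iff.mp hconj
  -- `g = b * a` with `b ∈ H₃`, `a ∈ H₁`
  obtain ⟨a, ha, b, hb, hab⟩ := h13 g⁻¹
  have hg' : g = b⁻¹ * a⁻¹ := by rw [← mul_inv_rev, ← hab, inv_inv]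
  have hn' : a⁻¹ * n * a ∈ N := (Subgroup.mem_normalizer_iff''.mp (hnorm ha) n).mp hn
  have : y = b⁻¹ * (a⁻¹ * n * a) * b := by rw [← hg, hg']; group
  rw [this]
  exact H₃.mul_mem (H₃.mul_mem (H₃.inv_mem hb) (hNH₃ hn')) hb

theorem main : ∀ (k : ℕ) (G : Type u) [Group G] [Finite G], Nat.card G = k →
    ∀ (H₁ H₂ H₃ : Subgroup G), Group.IsSolvable H₁ → Group.IsSolvable H₂ → Group.IsSolvable H₃ →
    (∀ g : G, ∃ x ∈ H₁, ∃ y ∈ H₂, g = x * y) → (∀ g : G, ∃ x ∈ H₁, ∃ y ∈ H₃, g = x * y) →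
    H₂.index.Coprime H₃.index → Group.IsSolvable G := by
  intro k
  induction k using Nat.strong_induction_on with
  | _ k ih =>
    intro G _ _ hk H₁ H₂ H₃ h₁ h₂ h₃ h12 h13 hcop
    subst hk
    by_cases hH₁ : H₁ = ⊥
    · -- then `H₂ = ⊤`
      have : H₂ = ⊤ := by
        rw [eq_top_iff]
        intro g _
        obtain ⟨x, hx, y, hy, rfl⟩ := h12 g
        rw [hH₁, Subgroup.mem_bot] at hx
        rw [hx, one_mul]; exact hy
      subst this
      exact isSolvable_of_mulEquiv Subgroup.topEquiv.symm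
    have hnt : Nontrivial H₁ := (Subgroup.nontrivial_iff_ne_bot H₁).mpr hH₁
    obtain ⟨p, N', hp, hN'n, hN'1, hN'p, -⟩ := exists_normal_pSubgroup_of_isSolvable (G := H₁)
    have : Fact p.Prime := ⟨hp⟩
    set N : Subgroup G := N'.map H₁.subtype with hNdef
    have hNH₁ : N ≤ H₁ := Subgroup.map_subtype_le N'
    have hN1 : N ≠ ⊥ := by
      rw [hNdef, Ne, Subgroup.map_eq_bot_iff_of_injective _ H₁.subtype_injective]
      exact hN'1
    have hNp : IsPGroup p N := hN'p.map _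
    have hNsub : N.subgroupOf H₁ = N' := by
      rw [hNdef, Subgroup.subgroupOf, Subgroup.comap_map_eq_self_of_injective H₁.subtype_injective]
    have hnorm : H₁ ≤ Subgroup.normalizer (N : Set G) := by
      rw [← Subgroup.normal_subgroupOf_iff_le_normalizer hNH₁, hNsub]
      exact hN'n
    -- the key: some solvable normal subgroup `K ≠ ⊥`
    have key : ∃ K : Subgroup G, K.Normal ∧ K ≠ ⊥ ∧ Group.IsSolvable K := by
      have hK1 : Subgroup.normalClosure (N : Set G) ≠ ⊥ := by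
        intro h
        apply hN1
        rw [eq_bot_iff, ← h]
        exact Subgroup.le_normalClosure
      by_cases hp3 : p ∣ H₃.index
      · have hp2 : ¬ p ∣ H₂.index := by
          intro hp2
          have := Nat.dvd_gcd hp2 hp3
          rw [hcop] at this
          exact hp.one_lt.ne' (Nat.dvd_one.mp this)
        have hle := normalClosure_le H₁ H₂ N hNp hnorm h12 hp2
        exact ⟨_, Subgroup.normalClosure_normal, hK1, isSolvable_subgroup_of_le hle⟩
      · have hle := normalClosure_le H₁ H₃ N hNp hnorm h13 hp3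
        exact ⟨_, Subgroup.normalClosure_normal, hK1, isSolvable_subgroup_of_le hle⟩
    obtain ⟨K, hKn, hK1, hKs⟩ := key
    let π := QuotientGroup.mk' K
    have hπ : Function.Surjective π := QuotientGroup.mk'_surjective K
    have hQ : Group.IsSolvable (G ⧸ K) := by
      apply ih _ (card_quotient_lt K hK1) (G ⧸ K) rfl (H₁.map π) (H₂.map π) (H₃.map π)
        (isSolvable_map π H₁) (isSolvable_map π H₂) (isSolvable_map π H₃)
      · intro gbar
        obtain ⟨g, rfl⟩ := hπ gbar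
        obtain ⟨x, hx, y, hy, rfl⟩ := h12 g
        exact ⟨π x, Subgroup.mem_map_of_mem π hx, π y, Subgroup.mem_map_of_mem π hy, map_mul π x y⟩
      · intro gbar
        obtain ⟨g, rfl⟩ := hπ gbar
        obtain ⟨x, hx, y, hy, rfl⟩ := h13 g
        exact ⟨π x, Subgroup.mem_map_of_mem π hx, π y, Subgroup.mem_map_of_mem π hy, map_mul π x y⟩
      · exact Nat.Coprime.coprime_dvd_left (Subgroup.index_map_dvd H₂ hπ)
          (Nat.Coprime.coprime_dvd_right (Subgroup.index_map_dvd H₃ hπ) hcop)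
    exact (Group.isSolvable_iff_subgroup_quotient K).mpr ⟨hKs, hQ⟩

/-- A finite group that factorises as H₁H₂ and as H₁H₃ with all three subgroups solvable and the indices of H₂ and H₃ coprime is solvable. -/
theorem result {G : Type*} [Group G] [Finite G] (H₁ H₂ H₃ : Subgroup G)
    (h₁ : Group.IsSolvable H₁) (h₂ : Group.IsSolvable H₂) (h₃ : Group.IsSolvable H₃)
    (h12 : ∀ g : G, ∃ x ∈ H₁, ∃ y ∈ H₂, g = x * y) (h13 : ∀ g : G, ∃ x ∈ H₁, ∃ y ∈ H₃, g = x * y)
    (hcop : H₂.index.Coprime H₃.index) : Group.IsSolvable G := by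
  exact main (Nat.card G) G rfl H₁ H₂ H₃ h₁ h₂ h₃ h12 h13 hcop

end Cfsg.Agent.S0019
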