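import Mathlib
import Cfsg.Statements.S0006
import Cfsg.Agent.S0144
import Cfsg.Agent.S0019
import Cfsg.Agent.S0007
-- import your own Cfsg.Agent.* helpers here

set_option autoImplicit false
open Cfsg

namespace Cfsg.Agent.S0006

universe u

/-- the hypothesis of the theorem: a `p`-complement for every prime `p`. -/
def HasComplements (G : Type u) [Group G] : Prop :=
  ∀ p : ℕ, p.Prime → ∃ H : Subgroup G, H.index = p ^ (Nat.card G).factorization p

lemma factorization_card_of_index {G : Type u} [Group G] [Finite G] (p : ℕ) (hp : p.Prime)
    (H : Subgroup G) (hH : H.index = p ^ (Nat.card G).factorization p) (q : ℕ) :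
    (Nat.card H).factorization q = if q = p then 0 else (Nat.card G).factorization q := by
  have hcard : Nat.card H * H.index = Nat.card G := H.card_mul_index
  have hG0 : Nat.card G ≠ 0 := Nat.card_pos.ne'
  have hH0 : Nat.card H ≠ 0 := Nat.card_pos.ne'
  have hi0 : H.index ≠ 0 := Subgroup.index_ne_zero_of_finite
  have h1 : (Nat.card G).factorization q
      = (Nat.card H).factorization q + (H.index).factorization q := by
    rw [← hcard, Nat.factorization_mul hH0 hi0]; rfl
  rw [hH, hp.factorization_pow] at h1
  by_cases hqp : q = p
  · subst hqp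
    simp only [Finsupp.single_eq_same] at h1
    simp only [if_true]
    omega
  · rw [Finsupp.single_eq_of_ne (by exact hqp)] at h1
    simp only [hqp, if_false]
    omega

lemma hasComplements_subgroup {G : Type u} [Group G] [Finite G] (h : HasComplements G) (p : ℕ)
    (hp : p.Prime) (H : Subgroup G) (hH : H.index = p ^ (Nat.card G).factorization p) :
    HasComplements H := by
  intro q hq
  rw [factorization_card_of_index p hp H hH q]
  by_cases hqp : q = p
  · refine ⟨⊤, ?_⟩
    simp [hqp]
  · obtain ⟨K, hK⟩ := h q hq
    refine ⟨K.subgroupOf H, ?_⟩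
    simp only [hqp, if_false]
    have hcop : K.index.Coprime H.index := by
      rw [hK, hH]
      exact Nat.Coprime.pow _ _ ((Nat.coprime_primes hq hp).2 hqp)
    have h1 := (Cfsg.Agent.S0007.result K H hcop).1
    have h2 : (K ⊓ H).relIndex H * H.index = (K ⊓ H).index :=
      Subgroup.relIndex_mul_index inf_le_right
    rw [Subgroup.inf_relIndex_right, h1] at h2
    have hi0 : H.index ≠ 0 := Subgroup.index_ne_zero_of_finite
    have h3 : K.relIndex H = K.index := Nat.eq_of_mul_eq_mul_right (Nat.pos_of_ne_zero hi0) h2
    show K.relIndex H = _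
    rw [h3, hK]

theorem key (n : ℕ) : ∀ (G : Type u) [Group G] [Finite G], Nat.card G = n → HasComplements G →
    Group.IsSolvable G := by
  induction n using Nat.strong_induction_on with
  | _ n ih =>
    intro G _ _ hn h
    have hG0 : Nat.card G ≠ 0 := Nat.card_pos.ne'
    have hprod : Nat.card G
        = ∏ p ∈ (Nat.card G).primeFactors, p ^ (Nat.card G).factorization p := by
      conv_lhs => rw [← Nat.prod_factorization_pow_eq_self hG0]
      rw [Nat.prod_factorization_eq_prod_primeFactors]
    by_cases h3 : 2 < (Nat.card G).primeFactors.card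
    · obtain ⟨p1, p2, p3, h1, h2, h3, h12, h13, h23⟩ := Finset.two_lt_card_iff.mp h3
      have hsolv : ∀ p ∈ (Nat.card G).primeFactors, ∀ H : Subgroup G,
          H.index = p ^ (Nat.card G).factorization p → Group.IsSolvable H := by
        intro p hp H hH
        have hpp := Nat.prime_of_mem_primeFactors hp
        refine ih (Nat.card H) ?_ H rfl (hasComplements_subgroup h p hpp H hH)
        rw [← hn, ← H.card_mul_index]
        have hpos : 0 < Nat.card H := Nat.card_pos
        have : 1 < H.index := by
          rw [hH]
          apply Nat.one_lt_pow _ hpp.one_lt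
          have := (Nat.card G).support_factorization ▸ hp
          exact Finsupp.mem_support_iff.mp this
        nlinarith
      obtain ⟨H1, hH1⟩ := h p1 (Nat.prime_of_mem_primeFactors h1)
      obtain ⟨H2, hH2⟩ := h p2 (Nat.prime_of_mem_primeFactors h2)
      obtain ⟨H3, hH3⟩ := h p3 (Nat.prime_of_mem_primeFactors h3)
      have hc : ∀ {p q : ℕ}, p ∈ (Nat.card G).primeFactors → q ∈ (Nat.card G).primeFactors →
          p ≠ q → ∀ a b : ℕ, (p ^ a).Coprime (q ^ b) := by
        intro p q hp hq hpq a b
        exact Nat.Coprime.pow _ _ ((Nat.coprime_primes (Nat.prime_of_mem_primeFactors hp)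
          (Nat.prime_of_mem_primeFactors hq)).2 hpq)
      refine Cfsg.Agent.S0019.result H1 H2 H3 (hsolv p1 h1 H1 hH1) (hsolv p2 h2 H2 hH2)
        (hsolv p3 h3 H3 hH3) ?_ ?_ ?_
      · exact (Cfsg.Agent.S0007.result H1 H2 (by rw [hH1, hH2]; exact hc h1 h2 h12 _ _)).2
      · exact (Cfsg.Agent.S0007.result H1 H3 (by rw [hH1, hH3]; exact hc h1 h3 h13 _ _)).2
      · rw [hH2, hH3]; exact hc h2 h3 h23 _ _
    · have hle : (Nat.card G).primeFactors.card ≤ 2 := by omega
      have hcases : (Nat.card G).primeFactors.card = 0 ∨ (Nat.card G).primeFactors.card = 1 ∨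
          (Nat.card G).primeFactors.card = 2 := by omega
      rcases hcases with h0 | h1 | h2
      · rw [Finset.card_eq_zero] at h0
        rw [h0, Finset.prod_empty] at hprod
        exact Cfsg.Agent.S0144.result 2 2 0 0 Nat.prime_two Nat.prime_two (by rw [hprod]; rfl)
      · obtain ⟨a, ha⟩ := Finset.card_eq_one.mp h1
        have hap : a.Prime := Nat.prime_of_mem_primeFactors (by rw [ha]; exact Finset.mem_singleton_self a)
        rw [ha, Finset.prod_singleton] at hprod
        exact Cfsg.Agent.S0144.result a a ((Nat.card G).factorization a) 0 hap hap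
          (by rw [pow_zero, mul_one]; exact hprod)
      · obtain ⟨x, y, hxy, hs⟩ := Finset.card_eq_two.mp h2
        have hxp : x.Prime := Nat.prime_of_mem_primeFactors (by rw [hs]; simp)
        have hyp : y.Prime := Nat.prime_of_mem_primeFactors (by rw [hs]; simp)
        rw [hs, Finset.prod_pair hxy] at hprod
        exact Cfsg.Agent.S0144.result x y _ _ hxp hyp hprod

/-- Converse of Hall's Theorem: if for every prime p a finite group has a subgroup of index equal to the p-part of the group order (a Hall p-complement), then the group is solvable. -/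
theorem result {G : Type*} [Group G] [Finite G]
    (h : ∀ p : ℕ, p.Prime → ∃ H : Subgroup G, H.index = p ^ (Nat.card G).factorization p) :
    Group.IsSolvable G := by
  exact key (Nat.card G) G rfl h

end Cfsg.Agent.S0006
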