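import Cfsg.Statements.S0010
import Cfsg.Agent.Lib.Helper1.PCore

set_option autoImplicit false
open Cfsg

namespace Cfsg.Agent.S0010

open Cfsg.Agent.Lib.Helper1

theorem iInf_sylow_normal {G : Type*} [Group G] (p : ℕ) :
    (⨅ P : Sylow p G, (P : Subgroup G)).Normal := by
  constructor
  intro n hn g
  rw [Subgroup.mem_iInf] at hn ⊢
  intro P
  have h := hn (g⁻¹ • P)
  rw [Sylow.smul_def, Sylow.pointwise_smul_def,
    Subgroup.mem_pointwise_smul_iff_inv_smul_mem] at h
  simpa using h

/-- The largest normal p-subgroup of a finite group is the intersection of all its Sylow p-subgroups. -/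
theorem result {G : Type*} [Group G] [Finite G] (p : ℕ) [Fact p.Prime] :
    Cfsg.pCore p G = ⨅ P : Sylow p G, (P : Subgroup G) := by
  apply le_antisymm
  · exact le_iInf fun P => pCore_le_sylow p P
  · apply le_pCore (iInf_sylow_normal p)
    obtain ⟨P⟩ : Nonempty (Sylow p G) := inferInstance
    exact P.isPGroup'.to_le (iInf_le _ P)

end Cfsg.Agent.S0010
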