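import Mathlib
import Cfsg.Statements.S0011

set_option autoImplicit false
open Cfsg

namespace Cfsg.Agent.S0011

/-- If the Frattini quotient of a finite group is nilpotent then the group is nilpotent. -/
theorem result {G : Type*} [Group G] [Finite G]
    (h : Group.IsNilpotent (G ⧸ frattini G)) : Group.IsNilpotent G := by
  have q := (Group.isNilpotent_of_finite_tfae (G := G)).out 0 3
  rw [q]; clear q
  intro p hp P
  let π := QuotientGroup.mk' (frattini G)
  have hπ : Function.Surjective π := QuotientGroup.mk'_surjective _
  -- image of `P` is a normal Sylow subgroup of the quotient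
  have hnorm : ((P.mapSurjective hπ : Sylow p (G ⧸ frattini G)) : Subgroup (G ⧸ frattini G)).Normal :=
    inferInstance
  rw [Sylow.coe_mapSurjective] at hnorm
  have hN : (((P : Subgroup G).map π).comap π).Normal := hnorm.comap π
  have hPN : (P : Subgroup G) ≤ ((P : Subgroup G).map π).comap π := Subgroup.le_comap_map _ _
  have hfr : frattini G ≤ ((P : Subgroup G).map π).comap π := by
    intro x hx
    rw [Subgroup.mem_comap]
    have : π x = 1 := by
      rw [← MonoidHom.mem_ker, QuotientGroup.ker_mk']; exact hx
    rw [this]; exact Subgroup.one_mem _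
  have hcomap : ((P : Subgroup G).map π).comap π = (P : Subgroup G) ⊔ frattini G := by
    rw [Subgroup.comap_map_eq, QuotientGroup.ker_mk']
  have key := Sylow.normalizer_sup_eq_top' P hPN
  have e : Subgroup.normalizer (P : Set G) ⊔ (P : Subgroup G) = Subgroup.normalizer (P : Set G) :=
    sup_of_le_left (fun x hx => Subgroup.le_normalizer (H := (P : Subgroup G)) hx)
  rw [hcomap, ← sup_assoc, e] at key
  have := frattini_nongenerating key
  exact Subgroup.normalizer_eq_top_iff.mp this

end Cfsg.Agent.S0011
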