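import Cfsg.Statements.S0018
import Mathlib
import Cfsg.Agent.Lib.Helper55.Cores
-- import your own Cfsg.Agent.* helpers here

set_option autoImplicit false
open Cfsg

namespace Cfsg.Agent.S0018

/-- A finite solvable group whose Sylow p-subgroups are abelian has p-length one: a Sylow p-subgroup together with the largest normal subgroup of order prime to p generates a normal subgroup. -/
theorem result {G : Type*} [Group G] [Finite G] [Group.IsSolvable G]
    (p : ℕ) [Fact p.Prime] (P : Sylow p G) (hP : IsMulCommutative P) :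
    ((P : Subgroup G) ⊔ Cfsg.pPrimeCore p G).Normal := by
  have hKn : (Cfsg.pPrimeCore p G).Normal := Cfsg.Agent.Lib.Helper55.pPrimeCore_normal' p
  set K := Cfsg.pPrimeCore p G with hK
  set π := QuotientGroup.mk' K with hπ
  have hsurj : Function.Surjective π := QuotientGroup.mk'_surjective _
  have hker : π.ker = K := QuotientGroup.ker_mk' K
  have hbot : Cfsg.pPrimeCore p (G ⧸ K) = ⊥ :=
    Cfsg.Agent.Lib.Helper55.pPrimeCore_quotient_pPrimeCore p
  have hsolv : Group.IsSolvable (G ⧸ K) := inferInstance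
  have hHH := Cfsg.Agent.Lib.Helper55.centralizer_pCore_le (G := G ⧸ K) p hbot
  -- the image of `P` is a Sylow subgroup of the quotient
  set Pbar : Sylow p (G ⧸ K) := P.mapSurjective hsurj with hPbar
  have hcoe : (Pbar : Subgroup (G ⧸ K)) = (P : Subgroup G).map π := Sylow.coe_mapSurjective hsurj P
  have hle : Cfsg.pCore p (G ⧸ K) ≤ Pbar := Cfsg.Agent.Lib.Helper55.pCore_le_sylow Pbar
  -- `P̄` is abelian, so it centralises `O_p`
  have hcomm : ∀ a ∈ (P : Subgroup G), ∀ b ∈ (P : Subgroup G), a * b = b * a := by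
    intro a ha b hb
    have := hP.is_comm.comm (⟨a, ha⟩ : P) ⟨b, hb⟩
    exact congrArg Subtype.val this
  have hcent : (Pbar : Subgroup (G ⧸ K)) ≤ Subgroup.centralizer (Cfsg.pCore p (G ⧸ K) : Set (G ⧸ K)) := by
    intro x hx
    rw [hcoe] at hx
    obtain ⟨a, ha, rfl⟩ := hx
    rw [Subgroup.mem_centralizer_iff]
    intro y hy
    have hy' := hle hy
    rw [hcoe] at hy'
    obtain ⟨b, hb, rfl⟩ := hy'
    rw [← map_mul, ← map_mul, hcomm b hb a ha]
  have heq : (Pbar : Subgroup (G ⧸ K)) = Cfsg.pCore p (G ⧸ K) :=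
    le_antisymm (hcent.trans hHH) hle
  have hnormal : (Pbar : Subgroup (G ⧸ K)).Normal := by
    rw [heq]; exact Cfsg.Agent.Lib.Helper55.pCore_normal' p
  have hcomap : ((P : Subgroup G).map π).comap π = (P : Subgroup G) ⊔ K := by
    rw [Subgroup.comap_map_eq, hker]
  rw [← hcomap, ← hcoe]
  exact hnormal.comap π

end Cfsg.Agent.S0018
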