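import Cfsg.Statements.S0020
import Mathlib
import Cfsg.Agent.S0007
import Cfsg.Agent.S0003
-- import your own Cfsg.Agent.* helpers here

set_option autoImplicit false
open Pointwise
open Cfsg

namespace Cfsg.Agent.S0020


section SylowSystem

variable {G : Type*} [Group G] [Finite G]

/-- If `H, K ≤ T` have coprime orders and `|T| = |H| |K|` then `H K = T` as sets. -/
theorem mul_eq_of_card (H K T : Subgroup G) (hH : H ≤ T) (hK : K ≤ T)
    (hcop : (Nat.card H).Coprime (Nat.card K)) (hcard : Nat.card T = Nat.card H * Nat.card K) :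
    (H : Set G) * (K : Set G) = (T : Set G) := by
  apply Set.Subset.antisymm
  · rintro _ ⟨x, hx, y, hy, rfl⟩
    exact T.mul_mem (hH hx) (hK hy)
  · intro t ht
    have hdisj : Disjoint H K := Subgroup.disjoint_of_coprime_natCard hcop
    let f : H × K → T := fun g => ⟨(g.1 : G) * (g.2 : G), T.mul_mem (hH g.1.2) (hK g.2.2)⟩
    have hf : Function.Injective f := by
      intro a b hab
      apply Subgroup.mul_injective_of_disjoint hdisj
      exact congrArg Subtype.val hab
    have hbij : Function.Bijective f := by
      apply hf.bijective_of_nat_card_le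
      rw [Nat.card_prod, hcard]
    obtain ⟨⟨x, y⟩, hxy⟩ := hbij.2 ⟨t, ht⟩
    exact ⟨x, x.2, y, y.2, congrArg Subtype.val hxy⟩

theorem prod_erase_mul' (A : Finset ℕ) (x : ℕ) (f : ℕ → ℕ) (h : x ∉ A → f x = 1) :
    f x * ∏ r ∈ A.erase x, f r = ∏ r ∈ A, f r := by
  by_cases hx : x ∈ A
  · exact Finset.mul_prod_erase A f hx
  · rw [Finset.erase_eq_of_notMem hx, h hx, one_mul]

/-- The index of an intersection of `p`-complements. -/
theorem index_inf_complements (K : ℕ → Subgroup G)
    (hK : ∀ q : ℕ, q.Prime → (K q).index = q ^ (Nat.card G).factorization q)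
    (T : Finset ℕ) (hT : ∀ q ∈ T, q.Prime) :
    (T.inf K).index = ∏ q ∈ T, q ^ (Nat.card G).factorization q := by
  induction T using Finset.induction_on with
  | empty => simp
  | insert a s ha ih =>
    have hs : ∀ q ∈ s, q.Prime := fun q hq => hT q (Finset.mem_insert_of_mem hq)
    have hap : a.Prime := hT a (Finset.mem_insert_self a s)
    rw [Finset.inf_insert, Finset.prod_insert ha]
    have hcop : (K a).index.Coprime (s.inf K).index := by
      rw [hK a hap, ih hs]
      apply Nat.Coprime.prod_right
      intro q hq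
      apply Nat.Coprime.pow
      rw [Nat.coprime_primes hap (hs q hq)]
      rintro rfl
      exact ha hq
    rw [Cfsg.Agent.S0007.index_inf_eq _ _ hcop, hK a hap, ih hs]

theorem sylow_system_of_complements (K : ℕ → Subgroup G)
    (hK : ∀ q : ℕ, q.Prime → (K q).index = q ^ (Nat.card G).factorization q) :
    ∃ S : (p : Nat.Primes) → Sylow (p : ℕ) G,
      ∀ p q : Nat.Primes, (S p : Set G) * (S q : Set G) = (S q : Set G) * (S p : Set G) := by
  classical
  set n := Nat.card G with hn
  have hn0 : n ≠ 0 := Nat.card_pos.ne'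
  set P := n.primeFactors with hP
  set f : ℕ → ℕ := fun r => r ^ n.factorization r with hf
  have hf1 : ∀ r, r ∉ P → f r = 1 := by
    intro r hr
    have : n.factorization r = 0 := by
      rw [← Finsupp.notMem_support_iff, Nat.support_factorization]
      exact hr
    simp [hf, this]
  have hprod : ∏ r ∈ P, f r = n := by
    have := Nat.prod_factorization_pow_eq_self hn0
    rwa [Finsupp.prod, Nat.support_factorization] at this
  -- candidate Sylow subgroups
  set S' : ℕ → Subgroup G := fun p => (P.erase p).inf K with hS'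
  have hprime_erase : ∀ p, ∀ q ∈ P.erase p, q.Prime := fun p q hq =>
    Nat.prime_of_mem_primeFactors (Finset.mem_of_mem_erase hq)
  have hidx : ∀ p, (S' p).index = ∏ r ∈ P.erase p, f r := fun p =>
    index_inf_complements K hK _ (hprime_erase p)
  have hcardS : ∀ p, Nat.card (S' p) = f p := by
    intro p
    have h1 : Nat.card (S' p) * (S' p).index = n := Subgroup.card_mul_index _
    have h2 : f p * ∏ r ∈ P.erase p, f r = n := by
      rw [prod_erase_mul' P p f (hf1 p), hprod]
    rw [hidx p] at h1
    have hpos : 0 < ∏ r ∈ P.erase p, f r := by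
      rw [← hidx p]; exact Nat.pos_of_ne_zero Subgroup.index_ne_zero_of_finite
    exact Nat.eq_of_mul_eq_mul_right hpos (h1.trans h2.symm)
  -- pairs
  set T' : ℕ → ℕ → Subgroup G := fun p q => ((P.erase p).erase q).inf K with hT'
  have hcardT : ∀ p q, p ≠ q → Nat.card (T' p q) = f p * f q := by
    intro p q hpq
    have hprime : ∀ r ∈ (P.erase p).erase q, r.Prime := fun r hr =>
      hprime_erase p r (Finset.mem_of_mem_erase hr)
    have hidxT : (T' p q).index = ∏ r ∈ (P.erase p).erase q, f r :=
      index_inf_complements K hK _ hprime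
    have h1 : Nat.card (T' p q) * (T' p q).index = n := Subgroup.card_mul_index _
    have hq1 : q ∉ P.erase p → f q = 1 := by
      intro hq
      apply hf1
      intro hqP
      exact hq (Finset.mem_erase.mpr ⟨hpq.symm, hqP⟩)
    have h2 : f p * f q * ∏ r ∈ (P.erase p).erase q, f r = n := by
      rw [mul_assoc, prod_erase_mul' (P.erase p) q f hq1, prod_erase_mul' P p f (hf1 p), hprod]
    rw [hidxT] at h1
    have hpos : 0 < ∏ r ∈ (P.erase p).erase q, f r := by
      rw [← hidxT]; exact Nat.pos_of_ne_zero Subgroup.index_ne_zero_of_finite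
    exact Nat.eq_of_mul_eq_mul_right hpos (h1.trans h2.symm)
  have hST : ∀ p q, S' p ≤ T' p q := fun p q => Finset.inf_mono (Finset.erase_subset _ _)
  have hST' : ∀ p q, S' q ≤ T' p q := fun p q =>
    Finset.inf_mono (Finset.erase_subset_erase _ (Finset.erase_subset _ _))
  have hTsymm : ∀ p q, T' p q = T' q p := by
    intro p q
    simp only [hT', Finset.erase_right_comm]
  have hmul : ∀ p q : ℕ, p.Prime → q.Prime → p ≠ q →
      (S' p : Set G) * (S' q : Set G) = (T' p q : Set G) := by
    intro p q hp hq hpq
    apply mul_eq_of_card _ _ _ (hST p q) (hST' p q)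
    · rw [hcardS, hcardS]
      exact Nat.Coprime.pow _ _ ((Nat.coprime_primes hp hq).mpr hpq)
    · rw [hcardT p q hpq, hcardS, hcardS]
  refine ⟨fun p => @Sylow.ofCard G _ _ (p : ℕ) ⟨p.2⟩ (S' p) (hcardS p), ?_⟩
  intro p q
  by_cases hpq : (p : ℕ) = q
  · have : p = q := Subtype.ext hpq
    subst this
    rfl
  · show (S' p : Set G) * (S' q : Set G) = (S' q : Set G) * (S' p : Set G)
    rw [hmul p q p.2 q.2 hpq, hmul q p q.2 p.2 (Ne.symm hpq), hTsymm]

end SylowSystem


/-- A finite solvable group admits a Sylow system: Sylow subgroups, one for each prime, that pairwise permute as sets. -/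
theorem result {G : Type*} [Group G] [Finite G] [Group.IsSolvable G] :
    ∃ S : (p : Nat.Primes) → Sylow (p : ℕ) G,
      ∀ p q : Nat.Primes, (S p : Set G) * (S q : Set G) = (S q : Set G) * (S p : Set G) := by
  classical
  have hn0 : Nat.card G ≠ 0 := Nat.card_pos.ne'
  have hex : ∀ q : ℕ, ∃ K : Subgroup G, q.Prime → K.index = q ^ (Nat.card G).factorization q := by
    intro q
    by_cases hq : q.Prime
    · have hmn : Nat.card G = (Nat.card G / q ^ (Nat.card G).factorization q) *
          q ^ (Nat.card G).factorization q := by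
        rw [mul_comm]; exact (Nat.ordProj_mul_ordCompl_eq_self (Nat.card G) q).symm
      have hcop : (Nat.card G / q ^ (Nat.card G).factorization q).Coprime
          (q ^ (Nat.card G).factorization q) :=
        (Nat.Coprime.pow_left _ (Nat.coprime_ordCompl hq hn0)).symm
      obtain ⟨K, hKcard⟩ := Cfsg.Agent.S0003.result _ _ hmn hcop
      refine ⟨K, fun _ => ?_⟩
      have h1 : Nat.card K * K.index = Nat.card G := Subgroup.card_mul_index K
      rw [hKcard] at h1
      have hpos : 0 < Nat.card G / q ^ (Nat.card G).factorization q :=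
        Nat.ordCompl_pos q hn0
      exact Nat.eq_of_mul_eq_mul_left hpos (h1.trans hmn)
    · exact ⟨⊤, fun h => absurd h hq⟩
  choose K hK using hex
  exact sylow_system_of_complements K hK

end Cfsg.Agent.S0020
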