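-- S0038 (helper35): all Frobenius complements of a finite group are conjugate.
-- Uses Frobenius' theorem (S0035), S0037 (the smaller is conjugate into the bigger) and the structure lemma
-- `isCyclic_of_fpf` (abelian / order pq subgroups of a complement are cyclic).
import Cfsg.Statements.S0038
import Cfsg.Agent.S0035
import Cfsg.Agent.S0037
import Cfsg.Agent.Lib.Helper35.FpfCyclic

set_option autoImplicit false
open Pointwise
open Cfsg

namespace Cfsg.Agent.S0038

open Cfsg.Agent.Lib.Helper35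

variable {G : Type*} [Group G]

/-- a Frobenius complement acts fixed-point-freely on its kernel -/
lemma fpf_of_kernel {H : Subgroup G} (hH : IsFrobeniusComplement H) (N : Subgroup G)
    (hN : (N : Set G) = frobeniusKernel H) :
    ∀ h ∈ H, h ≠ 1 → N ⊓ Subgroup.centralizer {h} = ⊥ := by
  intro h hh hh1
  rw [eq_bot_iff]
  intro x hx
  rw [Subgroup.mem_inf, Subgroup.mem_centralizer_singleton_iff] at hx
  obtain ⟨hxN, hxh⟩ := hx
  rw [Subgroup.mem_bot]
  by_contra hx1
  have hxK : x ∈ frobeniusKernel H := by rw [← hN]; exact hxN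
  rcases hxK with h1 | h1
  · exact hx1 h1
  · have m1 : h ∈ MulAut.conj (1 : G) • H := by
      rw [mem_conj_smul_iff]; simpa using hh
    have m2 : h ∈ MulAut.conj x • H := by
      rw [mem_conj_smul_iff]
      have : x⁻¹ * h * x = h := by
        calc x⁻¹ * h * x = x⁻¹ * (h * x) := by group
          _ = x⁻¹ * (x * h) := by rw [hxh]
          _ = h := by group
      rw [this]; exact hh
    have h3 := ti hH hh1 m1 m2
    rw [inv_one, one_mul] at h3
    apply h1 1
    rw [mem_conj_smul_iff]; simpa using h3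

/-- a nontrivial finite `p`-subgroup has nontrivial "centre" `S ⊓ C_G(S)` -/
lemma inf_centralizer_ne_bot [Finite G] {p : ℕ} [Fact p.Prime] {S : Subgroup G} (hS : IsPGroup p S)
    (hSbot : S ≠ ⊥) : S ⊓ Subgroup.centralizer (S : Set G) ≠ ⊥ := by
  have hSnt : Nontrivial S := (Subgroup.nontrivial_iff_ne_bot _).mpr hSbot
  have hcnt : Nontrivial (Subgroup.center S) := hS.center_nontrivial
  obtain ⟨z, hz1⟩ := exists_ne (1 : Subgroup.center S)
  intro h
  have hmem : ((z : S) : G) ∈ S ⊓ Subgroup.centralizer (S : Set G) := by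
    rw [Subgroup.mem_inf, Subgroup.mem_centralizer_iff]
    refine ⟨(z : S).2, ?_⟩
    intro y hy
    have h1 := (Subgroup.mem_center_iff.mp z.2) ⟨y, hy⟩
    exact congrArg Subtype.val h1
  rw [h, Subgroup.mem_bot] at hmem
  apply hz1
  apply Subtype.ext
  apply Subtype.ext
  exact hmem

lemma exists_zpowers_eq_of_isCyclic (Z : Subgroup G) (h : IsCyclic Z) :
    ∃ z₀ : G, Z = Subgroup.zpowers z₀ := by
  obtain ⟨⟨a, haA⟩, hgen⟩ := h.exists_generator
  refine ⟨a, le_antisymm ?_ (Subgroup.zpowers_le.mpr haA)⟩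
  intro x hx
  have := hgen ⟨x, hx⟩
  obtain ⟨i, hi⟩ := Subgroup.mem_zpowers_iff.mp this
  rw [Subgroup.mem_zpowers_iff]
  exact ⟨i, by simpa using congrArg Subtype.val hi⟩

/-- `C ⊔ A` is solvable when `A` normalizes the commutative `C` and `|C ⊔ A| = |C| * q` with `q` prime -/
lemma isSolvable_sup [Finite G] {C A : Subgroup G} (hAC : A ≤ Subgroup.normalizer (C : Set G))
    (hC : IsMulCommutative C) {q : ℕ} (hq : q.Prime)
    (hcard : Nat.card (C ⊔ A : Subgroup G) = Nat.card C * q) :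
    Group.IsSolvable (C ⊔ A : Subgroup G) := by
  have hBn : C ⊔ A ≤ Subgroup.normalizer (C : Set G) := sup_le Subgroup.le_normalizer hAC
  have hnorm : (C.subgroupOf (C ⊔ A)).Normal :=
    (Subgroup.normal_subgroupOf_iff_le_normalizer le_sup_left).mpr hBn
  have hidx : (C.subgroupOf (C ⊔ A)).index = q := by
    have h1 := Cfsg.Agent.Lib.Helper54.card_mul_relIndex (le_sup_left : C ≤ C ⊔ A)
    rw [hcard] at h1
    exact Nat.eq_of_mul_eq_mul_left Nat.card_pos h1
  have hqcard : Nat.card ((C ⊔ A : Subgroup G) ⧸ C.subgroupOf (C ⊔ A)) = q := by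
    rw [← Subgroup.index_eq_card]; exact hidx
  have : Fact q.Prime := ⟨hq⟩
  have hcyc : IsCyclic ((C ⊔ A : Subgroup G) ⧸ C.subgroupOf (C ⊔ A)) := isCyclic_of_prime_card hqcard
  have hsolvQ : Group.IsSolvable ((C ⊔ A : Subgroup G) ⧸ C.subgroupOf (C ⊔ A)) := by
    apply Group.isSolvable_of_comm
    intro a b
    exact hcyc.isMulCommutative.is_comm.comm a b
  have hsolvC : Group.IsSolvable (C.subgroupOf (C ⊔ A)) := by
    apply Group.isSolvable_of_comm
    intro a b
    apply Subtype.ext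
    apply Subtype.ext
    have := hC.is_comm.comm ⟨((a : (C ⊔ A : Subgroup G)) : G), a.2⟩
      ⟨((b : (C ⊔ A : Subgroup G)) : G), b.2⟩
    have h' : ((a : (C ⊔ A : Subgroup G)) : G) * ((b : (C ⊔ A : Subgroup G)) : G)
        = ((b : (C ⊔ A : Subgroup G)) : G) * ((a : (C ⊔ A : Subgroup G)) : G) :=
      congrArg Subtype.val this
    exact h'
  apply Group.isSolvable_of_ker_le_range (C.subgroupOf (C ⊔ A)).subtype
    (QuotientGroup.mk' (C.subgroupOf (C ⊔ A)))
  rw [QuotientGroup.ker_mk', Subgroup.range_subtype]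

/-- heart of the argument, cyclic case: a nontrivial cyclic `p`-subgroup `Z = ⟨z₀⟩` of `H` normalized by an
element `h ∈ H` of prime order `q ≠ p` cannot be acted on fixed-point-freely by `h`, if `H` acts
fixed-point-freely on a nontrivial normal subgroup `N`. -/
lemma false_of_cyclic [Finite G] (N H : Subgroup G) [N.Normal] (hNbot : N ≠ ⊥)
    (hfpf : ∀ h ∈ H, h ≠ 1 → N ⊓ Subgroup.centralizer {h} = ⊥)
    {p q : ℕ} (hp : p.Prime) (hq : q.Prime) (hpq : p ≠ q) {h z₀ : G} (hhH : h ∈ H)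
    (hhord : orderOf h = q) (hz₀H : z₀ ∈ H) {m : ℕ} (hm : orderOf z₀ = p ^ (m + 1))
    (hAZ : Subgroup.zpowers h ≤ Subgroup.normalizer (Subgroup.zpowers z₀ : Set G))
    (hfix : Subgroup.zpowers z₀ ⊓ Subgroup.centralizer {h} = ⊥) : False := by
  set c := z₀ ^ p ^ m with hc
  have hcord : orderOf c = p := by
    rw [orderOf_pow_of_dvd (pow_ne_zero _ hp.ne_zero)
      (by rw [hm]; exact pow_dvd_pow p (Nat.le_succ m)), hm, pow_succ]
    exact Nat.mul_div_cancel_left _ (pow_pos hp.pos _)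
  have hc1 : c ≠ 1 := by
    intro e; rw [e, orderOf_one] at hcord; exact hp.one_lt.ne hcord
  have hcZ : c ∈ Subgroup.zpowers z₀ := Subgroup.npow_mem_zpowers z₀ _
  have hCZ : Subgroup.zpowers c ≤ Subgroup.zpowers z₀ := Subgroup.zpowers_le.mpr hcZ
  have hCcard : Nat.card (Subgroup.zpowers c) = p := by rw [Nat.card_zpowers, hcord]
  have hAcard : Nat.card (Subgroup.zpowers h) = q := by rw [Nat.card_zpowers, hhord]
  -- invariance of C
  have hinv : ∀ g ∈ Subgroup.normalizer (Subgroup.zpowers z₀ : Set G), ∀ x ∈ Subgroup.zpowers c,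
      g * x * g⁻¹ ∈ Subgroup.zpowers c := by
    intro g hg x hx
    have hgz : g * z₀ * g⁻¹ ∈ Subgroup.zpowers z₀ :=
      (Subgroup.mem_normalizer_iff.mp hg z₀).mp (Subgroup.mem_zpowers z₀)
    obtain ⟨j, hj⟩ := Subgroup.mem_zpowers_iff.mp hgz
    have hgc : g * c * g⁻¹ = c ^ j := by
      rw [hc, ← conj_pow, ← hj, ← zpow_natCast, ← zpow_natCast, ← zpow_mul, ← zpow_mul, mul_comm]
    obtain ⟨i, rfl⟩ := Subgroup.mem_zpowers_iff.mp hx
    rw [← conj_zpow, hgc]
    exact Subgroup.zpow_mem _ (Subgroup.zpow_mem _ (Subgroup.mem_zpowers c) j) i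
  have hAC : Subgroup.zpowers h ≤ Subgroup.normalizer (Subgroup.zpowers c : Set G) := by
    intro g hg
    rw [Subgroup.mem_normalizer_iff]
    intro x
    constructor
    · exact hinv g (hAZ hg) x
    · intro hx
      have := hinv g⁻¹ (hAZ ((Subgroup.zpowers h).inv_mem hg)) _ hx
      convert this using 1
      group
  have hdisj : Subgroup.zpowers c ⊓ Subgroup.zpowers h = ⊥ :=
    disjoint_iff.mp (Subgroup.disjoint_of_coprime_natCard
      (by rw [hCcard, hAcard]; exact (Nat.coprime_primes hp hq).mpr hpq))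
  have hcardB : Nat.card (Subgroup.zpowers c ⊔ Subgroup.zpowers h : Subgroup G)
      = Nat.card (Subgroup.zpowers c) * Nat.card (Subgroup.zpowers h) :=
    Cfsg.Agent.Lib.Helper54.card_sup_of_le_normalizer hAC hdisj
  have hCcomm : IsMulCommutative (Subgroup.zpowers c) := Subgroup.zpowers_isMulCommutative c
  have hBsolv : Group.IsSolvable (Subgroup.zpowers c ⊔ Subgroup.zpowers h : Subgroup G) :=
    isSolvable_sup hAC hCcomm hq (by rw [hcardB, hAcard])
  have hBH : Subgroup.zpowers c ⊔ Subgroup.zpowers h ≤ H :=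
    sup_le (Subgroup.zpowers_le.mpr (H.pow_mem hz₀H _)) (Subgroup.zpowers_le.mpr hhH)
  have hBcyc : IsCyclic (Subgroup.zpowers c ⊔ Subgroup.zpowers h : Subgroup G) :=
    isCyclic_of_fpf N _ hNbot (fun b hb hb1 => hfpf b (hBH hb) hb1) hBsolv
      (Or.inr ⟨p, q, hp, hq, by rw [hcardB, hCcard, hAcard]⟩)
  have hcomm : c * h = h * c := by
    have := hBcyc.isMulCommutative.is_comm.comm
      ⟨c, (le_sup_left : Subgroup.zpowers c ≤ _) (Subgroup.mem_zpowers c)⟩
      ⟨h, (le_sup_right : Subgroup.zpowers h ≤ _) (Subgroup.mem_zpowers h)⟩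
    exact congrArg Subtype.val this
  have hcmem : c ∈ Subgroup.zpowers z₀ ⊓ Subgroup.centralizer {h} := by
    rw [Subgroup.mem_inf, Subgroup.mem_centralizer_singleton_iff]
    exact ⟨hcZ, hcomm⟩
  rw [hfix, Subgroup.mem_bot] at hcmem
  exact hc1 hcmem

/-- heart of the argument: `h ∈ H` of prime order cannot normalize and act fixed-point-freely on a
nontrivial subgroup `M ≤ H` of order prime to `q`. -/
lemma false_of_fpf_inside [Finite G] (N H : Subgroup G) [N.Normal] (hNbot : N ≠ ⊥)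
    (hfpf : ∀ h ∈ H, h ≠ 1 → N ⊓ Subgroup.centralizer {h} = ⊥)
    {q : ℕ} (hq : q.Prime) {h : G} (hhH : h ∈ H) (hhord : orderOf h = q)
    (M : Subgroup G) (hMH : M ≤ H) (hMbot : M ≠ ⊥)
    (hAM : Subgroup.zpowers h ≤ Subgroup.normalizer (M : Set G))
    (hcop : (Nat.card (Subgroup.zpowers h)).Coprime (Nat.card M))
    (hfix : M ⊓ Subgroup.centralizer {h} = ⊥) : False := by
  have hMnt : Nontrivial M := (Subgroup.nontrivial_iff_ne_bot _).mpr hMbot
  obtain ⟨p, hp, hpd⟩ := Nat.exists_prime_and_dvd (Finite.one_lt_card (α := M)).ne'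
  have := Fact.mk hp
  have hAcard : Nat.card (Subgroup.zpowers h) = q := by rw [Nat.card_zpowers, hhord]
  have hpq : p ≠ q := by
    intro e
    rw [hAcard, ← e] at hcop
    exact hp.one_lt.ne' (Nat.Coprime.eq_one_of_dvd hcop hpd)
  have hAsolv : Group.IsSolvable (Subgroup.zpowers h) :=
    Group.isSolvable_of_comm (fun a b => (Subgroup.zpowers_isMulCommutative h).is_comm.comm a b)
  obtain ⟨P, hP⟩ := Cfsg.Agent.S0023.result (Subgroup.zpowers h) M hAM hcop (Or.inl hAsolv) p
  have hP'M : (P : Subgroup M).map M.subtype ≤ M := Subgroup.map_subtype_le _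
  have hP'p : IsPGroup p ((P : Subgroup M).map M.subtype) := P.isPGroup'.map M.subtype
  have hP'bot : (P : Subgroup M).map M.subtype ≠ ⊥ := by
    intro e
    apply P.ne_bot_of_dvd_card hpd
    exact (Subgroup.map_eq_bot_iff_of_injective _ M.subtype_injective).mp e
  have hZbot := inf_centralizer_ne_bot hP'p hP'bot
  have hZcomm : IsMulCommutative ((P : Subgroup M).map M.subtype ⊓
      Subgroup.centralizer ((P : Subgroup M).map M.subtype : Set G) : Subgroup G) :=
    ⟨⟨fun a b => Subtype.ext (((Subgroup.mem_centralizer_iff.mp (Subgroup.mem_inf.mp a.2).2) _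
      (Subgroup.mem_inf.mp b.2).1).symm)⟩⟩
  have hAZ := hP.trans (normalizer_le_normalizer_inf_centralizer ((P : Subgroup M).map M.subtype))
  have hZM : (P : Subgroup M).map M.subtype ⊓
      Subgroup.centralizer ((P : Subgroup M).map M.subtype : Set G) ≤ M := inf_le_left.trans hP'M
  have hZsolv : Group.IsSolvable ((P : Subgroup M).map M.subtype ⊓
      Subgroup.centralizer ((P : Subgroup M).map M.subtype : Set G) : Subgroup G) :=
    Group.isSolvable_of_comm (fun a b => hZcomm.is_comm.comm a b)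
  have hZcyc := isCyclic_of_fpf N _ hNbot (fun b hb hb1 => hfpf b (hMH (hZM hb)) hb1) hZsolv
    (Or.inl hZcomm)
  obtain ⟨z₀, hz₀⟩ := exists_zpowers_eq_of_isCyclic _ hZcyc
  rw [hz₀] at hZbot hAZ hZM
  have hz₀Z : z₀ ∈ (P : Subgroup M).map M.subtype := by
    have : z₀ ∈ Subgroup.zpowers z₀ := Subgroup.mem_zpowers z₀
    rw [← hz₀] at this
    exact (Subgroup.mem_inf.mp this).1
  have hz₀1 : z₀ ≠ 1 := by
    intro e
    apply hZbot
    rw [e, Subgroup.zpowers_one_eq_bot]
  obtain ⟨m, hm⟩ : ∃ m, orderOf z₀ = p ^ m := by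
    obtain ⟨k, hk⟩ := hP'p ⟨z₀, hz₀Z⟩
    have hk' : z₀ ^ p ^ k = 1 := by simpa using congrArg Subtype.val hk
    obtain ⟨m, -, hm⟩ := (Nat.dvd_prime_pow hp).mp (orderOf_dvd_of_pow_eq_one hk')
    exact ⟨m, hm⟩
  obtain ⟨m', rfl⟩ : ∃ m', m = m' + 1 := by
    cases m with
    | zero => exfalso; rw [pow_zero, orderOf_eq_one_iff] at hm; exact hz₀1 hm
    | succ m' => exact ⟨m', rfl⟩
  refine false_of_cyclic N H hNbot hfpf hp hq hpq hhH hhord (hMH (hZM (Subgroup.mem_zpowers z₀))) hm hAZ ?_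
  rw [eq_bot_iff, ← hfix]
  exact inf_le_inf_right _ hZM

/-- nested Frobenius complements are equal -/
theorem eq_of_le [Finite G] {H H₁ : Subgroup G} (hH : IsFrobeniusComplement H)
    (hH₁ : IsFrobeniusComplement H₁) (hle : H₁ ≤ H) : H₁ = H := by
  by_contra hne
  obtain ⟨N, hN, hNn, hNc⟩ := Cfsg.Agent.S0035.result H hH
  obtain ⟨N₁, hN₁, hN₁n, hN₁c⟩ := Cfsg.Agent.S0035.result H₁ hH₁
  have hfpf := fpf_of_kernel hH N hN
  have hfpf₁ := fpf_of_kernel hH₁ N₁ hN₁
  have hNbot : N ≠ ⊥ := by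
    intro h
    have h1 := hNc.card_mul_card
    rw [h, Subgroup.card_bot, one_mul] at h1
    exact hH.2.1 (Subgroup.eq_top_of_card_eq H h1)
  have hMbot : N₁ ⊓ H ≠ ⊥ := by
    intro h
    have hdisj : Disjoint N₁ H := disjoint_iff.mpr h
    have hinj := Subgroup.mul_injective_of_disjoint hdisj
    have hcard := Nat.card_le_card_of_injective _ hinj
    rw [Nat.card_prod] at hcard
    have h1 := hN₁c.card_mul_card
    rw [← h1] at hcard
    have h2 : Nat.card H ≤ Nat.card H₁ := Nat.le_of_mul_le_mul_left hcard Nat.card_pos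
    exact hne (Subgroup.eq_of_le_of_card_ge hle h2)
  have hH₁M : H₁ ≤ Subgroup.normalizer ((N₁ ⊓ H : Subgroup G) : Set G) := by
    intro g hg
    rw [Subgroup.mem_normalizer_iff]
    intro x
    have hgH : g ∈ H := hle hg
    constructor
    · intro hx
      rw [Subgroup.mem_inf] at hx ⊢
      exact ⟨hN₁n.conj_mem x hx.1 g, H.mul_mem (H.mul_mem hgH hx.2) (H.inv_mem hgH)⟩
    · intro hx
      rw [Subgroup.mem_inf] at hx ⊢
      have h1 : x = g⁻¹ * (g * x * g⁻¹) * g⁻¹⁻¹ := by group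
      rw [h1]
      exact ⟨hN₁n.conj_mem _ hx.1 g⁻¹,
        H.mul_mem (H.mul_mem (H.inv_mem hgH) hx.2) (H.inv_mem (H.inv_mem hgH))⟩
  -- an element of prime order in H₁
  have hH₁nt : Nontrivial H₁ := (Subgroup.nontrivial_iff_ne_bot _).mpr hH₁.1
  obtain ⟨q, hq, hqd⟩ := Nat.exists_prime_and_dvd (Finite.one_lt_card (α := H₁)).ne'
  have := Fact.mk hq
  obtain ⟨h', hh'⟩ := exists_prime_orderOf_dvd_card' q hqd
  have hhH₁ : (h' : G) ∈ H₁ := h'.2
  have hhord : orderOf (h' : G) = q := by rw [← hh']; exact Subgroup.orderOf_coe h'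
  have hh1 : (h' : G) ≠ 1 := by
    intro e; rw [e, orderOf_one] at hhord; exact hq.one_lt.ne hhord
  have hAH₁ : Subgroup.zpowers (h' : G) ≤ H₁ := Subgroup.zpowers_le.mpr hhH₁
  have hcop₁ : (Nat.card H₁).Coprime (Nat.card N₁) := coprime_of_fpf N₁ H₁ hfpf₁
  have hcopAM : (Nat.card (Subgroup.zpowers (h' : G))).Coprime (Nat.card (N₁ ⊓ H : Subgroup G)) :=
    Nat.Coprime.coprime_dvd_left (Subgroup.card_dvd_of_le hAH₁)
      (Nat.Coprime.coprime_dvd_right (Subgroup.card_dvd_of_le inf_le_left) hcop₁)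
  refine false_of_fpf_inside N H hNbot hfpf hq (hle hhH₁) hhord (N₁ ⊓ H) inf_le_right hMbot
    (hAH₁.trans hH₁M) hcopAM ?_
  rw [eq_bot_iff, ← hfpf₁ (h' : G) hhH₁ hh1]
  exact inf_le_inf_right _ inf_le_left

/-- a conjugate of a Frobenius complement is a Frobenius complement -/
lemma conj_isFrobeniusComplement {H : Subgroup G} (hH : IsFrobeniusComplement H) (g : G) :
    IsFrobeniusComplement (MulAut.conj g • H) := by
  refine ⟨?_, ?_, ?_⟩
  · intro h
    obtain ⟨x, hx, hx1⟩ := (Subgroup.bot_or_exists_ne_one H).resolve_left hH.1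
    have : g * x * g⁻¹ ∈ MulAut.conj g • H := by
      rw [mem_conj_smul_iff]
      convert hx using 1
      group
    rw [h, Subgroup.mem_bot] at this
    apply hx1
    have e : x = g⁻¹ * (g * x * g⁻¹) * g := by group
    rw [e, this]; group
  · intro h
    apply hH.2.1
    rw [eq_top_iff]
    intro x _
    have : g * x * g⁻¹ ∈ MulAut.conj g • H := by rw [h]; exact Subgroup.mem_top _
    rw [mem_conj_smul_iff] at this
    convert this using 1
    group
  · intro y hy
    rw [eq_bot_iff]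
    intro z hz
    rw [Subgroup.mem_inf] at hz
    rw [Subgroup.mem_bot]
    by_contra hz1
    apply hy
    have h2 : z ∈ MulAut.conj (y * g) • H := by
      have := hz.2
      rwa [smul_smul, ← map_mul] at this
    have h3 := ti hH hz1 hz.1 h2
    rw [mem_conj_smul_iff]
    convert h3 using 1
    group

/-- All Frobenius complements of a finite group are conjugate to one another. -/
theorem result {G : Type*} [Group G] [Finite G] (H H₀ : Subgroup G)
    (hH : Cfsg.IsFrobeniusComplement H) (hH₀ : Cfsg.IsFrobeniusComplement H₀) :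
    ∃ g : G, MulAut.conj g • H₀ = H := by
  rcases le_total (Nat.card H₀) (Nat.card H) with hle | hle
  · obtain ⟨g, hg⟩ := Cfsg.Agent.S0037.result H H₀ hH hH₀ hle
    exact ⟨g, eq_of_le hH (conj_isFrobeniusComplement hH₀ g) hg⟩
  · obtain ⟨g, hg⟩ := Cfsg.Agent.S0037.result H₀ H hH₀ hH hle
    have h1 : MulAut.conj g • H = H₀ := eq_of_le hH₀ (conj_isFrobeniusComplement hH g) hg
    refine ⟨g⁻¹, ?_⟩
    rw [← h1, smul_smul, ← map_mul, inv_mul_cancel, map_one, one_smul]

end Cfsg.Agent.S0038
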