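import Mathlib
import Cfsg.Statements.S0046
import Cfsg.Agent.Lib.Helper1.SZConj
import Cfsg.Agent.S4116

set_option autoImplicit false
open Cfsg

namespace Cfsg.Agent.S0046

open Pointwise Cfsg.Agent.Lib.Helper1

universe u

/-- all maximal subgroups are nilpotent -/
def AllMaxNil (G : Type*) [Group G] : Prop :=
  ∀ M : Subgroup G, IsCoatom M → Group.IsNilpotent M

theorem isNilpotent_of_le {G : Type*} [Group G] {N M : Subgroup G} (h : N ≤ M)
    (hM : Group.IsNilpotent M) : Group.IsNilpotent N :=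
  (Group.isNilpotent_congr (Subgroup.subgroupOfEquivOfLe h)).mp inferInstance

theorem allMaxNil_quotient {G : Type*} [Group G] (hG : AllMaxNil G) (N : Subgroup G) [N.Normal] :
    AllMaxNil (G ⧸ N) := by
  intro Mbar hMbar
  let π := QuotientGroup.mk' N
  have hπ : Function.Surjective π := QuotientGroup.mk'_surjective N
  have hM : IsCoatom (Mbar.comap π) := Subgroup.isCoatom_comap_of_surjective hπ hMbar
  have hnil : Group.IsNilpotent (Mbar.comap π) := hG _ hM
  have hmap : (Mbar.comap π).map π = Mbar := Subgroup.map_comap_eq_self_of_surjective hπ Mbar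
  have : Group.IsNilpotent ((Mbar.comap π).map π) :=
    Group.nilpotent_of_surjective (π.subgroupMap (Mbar.comap π))
      (π.subgroupMap_surjective (Mbar.comap π))
  rwa [hmap] at this

theorem step1 {G : Type u} [Group G] [Finite G]
    (IH : ∀ (G' : Type u) [Group G'] [Finite G'], Nat.card G' < Nat.card G → AllMaxNil G' →
      Group.IsSolvable G')
    (hG : AllMaxNil G) (N : Subgroup G) [N.Normal] (hN1 : N ≠ ⊥) (hN2 : N ≠ ⊤) :
    Group.IsSolvable G := by
  obtain ⟨M, hM, hNM⟩ := (eq_top_or_exists_le_coatom N).resolve_left hN2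
  have hNnil : Group.IsNilpotent N := isNilpotent_of_le hNM (hG M hM)
  have hQ : Group.IsSolvable (G ⧸ N) :=
    IH (G ⧸ N) (card_quotient_lt N hN1) (allMaxNil_quotient hG N)
  exact (Group.isSolvable_iff_subgroup_quotient N).mpr ⟨inferInstance, hQ⟩

/-- normalizers grow in nilpotent subgroups -/
theorem exists_mem_normalizer_not_mem {G : Type*} [Group G] {D M : Subgroup G}
    (hM : Group.IsNilpotent M) (hDM : D < M) :
    ∃ x ∈ M, x ∈ Subgroup.normalizer (D : Set G) ∧ x ∉ D := by
  have hlt : D.subgroupOf M < ⊤ := by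
    rw [lt_top_iff_ne_top, Ne, Subgroup.subgroupOf_eq_top]
    exact not_le_of_gt hDM
  have h := Group.normalizerCondition_of_isNilpotent (G := M) (D.subgroupOf M) hlt
  rw [← Subgroup.subgroupOf_normalizer_eq hDM.le] at h
  obtain ⟨x, hx1, hx2⟩ := SetLike.exists_of_lt h
  exact ⟨x, x.2, Subgroup.mem_subgroupOf.mp hx1, fun hx => hx2 (Subgroup.mem_subgroupOf.mpr hx)⟩

theorem coatom_eq_of_le {G : Type*} [Group G] {M₁ M₂ : Subgroup G} (h₁ : IsCoatom M₁)
    (h₂ : IsCoatom M₂) (h : M₁ ≤ M₂) : M₁ = M₂ := by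
  rcases eq_or_lt_of_le h with h | h
  · exact h
  · exact absurd (h₁.2 M₂ h) h₂.1

theorem claimA {G : Type*} [Group G] [Finite G] (hG : AllMaxNil G)
    (hsimple : ∀ N : Subgroup G, N.Normal → N = ⊥ ∨ N = ⊤) :
    ∀ M₁ M₂ : Subgroup G, IsCoatom M₁ → IsCoatom M₂ → M₁ ≠ M₂ → M₁ ⊓ M₂ = ⊥ := by
  by_contra hcon
  push Not at hcon
  let S : Set (Subgroup G × Subgroup G) :=
    {p | IsCoatom p.1 ∧ IsCoatom p.2 ∧ p.1 ≠ p.2 ∧ p.1 ⊓ p.2 ≠ ⊥}
  have hSne : S.Nonempty := by
    obtain ⟨M₁, M₂, h1, h2, h3, h4⟩ := hcon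
    exact ⟨(M₁, M₂), h1, h2, h3, h4⟩
  obtain ⟨⟨M₁, M₂⟩, ⟨h1, h2, h3, h4⟩, hmax⟩ :=
    Set.exists_max_image S (fun p => Nat.card (p.1 ⊓ p.2 : Subgroup G)) (Set.toFinite S) hSne
  set D := M₁ ⊓ M₂ with hD
  have hDM₁ : D < M₁ := by
    refine lt_of_le_of_ne inf_le_left ?_
    intro h
    exact h3 (coatom_eq_of_le h1 h2 (h ▸ inf_le_right))
  have hDM₂ : D < M₂ := by
    refine lt_of_le_of_ne inf_le_right ?_
    intro h
    exact h3 (coatom_eq_of_le h2 h1 (h ▸ inf_le_left)).symm
  have hDnn : ¬ D.Normal := by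
    intro hn
    rcases hsimple D hn with h | h
    · exact h4 h
    · exact h1.1 (top_le_iff.mp (h ▸ inf_le_left))
  have hNtop : Subgroup.normalizer (D : Set G) ≠ ⊤ := by
    intro h
    exact hDnn (Subgroup.normalizer_eq_top_iff.mp h)
  obtain ⟨M, hM, hNM⟩ := (eq_top_or_exists_le_coatom _).resolve_left hNtop
  have hDM : D ≤ M := Subgroup.le_normalizer.trans hNM
  -- `M = M₁`
  have key : ∀ M' : Subgroup G, IsCoatom M' → D < M' → (∀ p ∈ S,
      Nat.card (p.1 ⊓ p.2 : Subgroup G) ≤ Nat.card D) → M = M' := by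
    intro M' hM' hDM' hmax'
    by_contra hne
    obtain ⟨x, hxM', hxN, hxD⟩ := exists_mem_normalizer_not_mem (hG M' hM') hDM'
    have hlt : D < M ⊓ M' := by
      refine lt_of_le_of_ne (le_inf hDM hDM'.le) ?_
      intro h
      apply hxD
      rw [h]
      exact ⟨hNM hxN, hxM'⟩
    have hmem : (M, M') ∈ S := by
      refine ⟨hM, hM', hne, ?_⟩
      intro h
      rw [h] at hlt
      exact not_lt_bot hlt
    have := hmax' (M, M') hmem
    exact absurd (card_lt_card_of_lt hlt) (not_lt.mpr this)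
  have e1 := key M₁ h1 hDM₁ (fun p hp => hmax p hp)
  have e2 := key M₂ h2 hDM₂ (fun p hp => hmax p hp)
  exact h3 (e1.symm.trans e2)


theorem mem_normalizer_of_conj_smul_eq {G : Type*} [Group G] {M : Subgroup G} {g : G}
    (h : MulAut.conj g • M = M) : g ∈ Subgroup.normalizer (M : Set G) := by
  rw [Subgroup.mem_normalizer_iff]
  intro x
  constructor
  · intro hx
    rw [← h]
    exact ⟨x, hx, rfl⟩
  · intro hx
    rw [← h] at hx
    obtain ⟨y, hy, hyx⟩ := hx
    have : y = x := by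
      have h2 : g * y * g⁻¹ = g * x * g⁻¹ := hyx
      exact mul_left_cancel (mul_right_cancel h2)
    rw [← this]; exact hy

theorem mem_conj_smul {G : Type*} [Group G] (M : Subgroup G) (g x : G) :
    x ∈ MulAut.conj g • M ↔ g⁻¹ * x * g ∈ M := by
  rw [Subgroup.mem_pointwise_smul_iff_inv_smul_mem, ← map_inv, MulAut.smul_def, MulAut.conj_apply,
    inv_inv]

theorem isCoatom_conj_smul {G : Type*} [Group G] {M : Subgroup G} (hM : IsCoatom M) (g : G) :
    IsCoatom (MulAut.conj g • M) :=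
  (OrderIso.isCoatom_iff ((MulAut.conj g).mapSubgroup) M).mpr hM

/-- a nontrivial maximal subgroup of a "simple" group with the TI property for maximal subgroups
is malnormal. -/
theorem malnormal_of_TI {G : Type*} [Group G]
    (hsimple : ∀ N : Subgroup G, N.Normal → N = ⊥ ∨ N = ⊤)
    (hTI : ∀ M₁ M₂ : Subgroup G, IsCoatom M₁ → IsCoatom M₂ → M₁ ≠ M₂ → M₁ ⊓ M₂ = ⊥)
    (M : Subgroup G) (hM : IsCoatom M) (hM1 : M ≠ ⊥) :
    ∀ k : G, k ∉ M → ∀ z ∈ M, k * z * k⁻¹ ∈ M → z = 1 := by
  have hnorm : Subgroup.normalizer (M : Set G) = M := by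
    have hle : M ≤ Subgroup.normalizer (M : Set G) := Subgroup.le_normalizer
    rcases eq_or_lt_of_le hle with h | h
    · exact h.symm
    · have := hM.2 _ h
      rw [Subgroup.normalizer_eq_top_iff] at this
      rcases hsimple M this with h' | h'
      · exact absurd h' hM1
      · exact absurd h' hM.1
  intro k hk z hz hkz
  have hne : MulAut.conj k⁻¹ • M ≠ M := by
    intro h
    have := mem_normalizer_of_conj_smul_eq h
    rw [hnorm] at this
    exact hk (by simpa using M.inv_mem this)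
  have hz' : z ∈ MulAut.conj k⁻¹ • M := by
    rw [mem_conj_smul, inv_inv]; exact hkz
  have := hTI _ _ (isCoatom_conj_smul hM k⁻¹) hM hne
  have hz2 : z ∈ MulAut.conj k⁻¹ • M ⊓ M := ⟨hz', hz⟩
  rw [this, Subgroup.mem_bot] at hz2
  exact hz2

theorem isSolvable_of_zpowers_eq_top {G : Type*} [Group G] (x : G)
    (h : Subgroup.zpowers x = ⊤) : Group.IsSolvable G := by
  have : IsCyclic G := ⟨x, fun y => by
    have : y ∈ Subgroup.zpowers x := by rw [h]; trivial
    exact this⟩
  have hc : IsMulCommutative G := IsCyclic.isMulCommutative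
  exact Group.isSolvable_of_comm (fun a b => mul_comm' a b)

theorem claimB {G : Type*} [Group G] [Finite G] [Nontrivial G]
    (hsimple : ∀ N : Subgroup G, N.Normal → N = ⊥ ∨ N = ⊤)
    (hTI : ∀ M₁ M₂ : Subgroup G, IsCoatom M₁ → IsCoatom M₂ → M₁ ≠ M₂ → M₁ ⊓ M₂ = ⊥) :
    Group.IsSolvable G := by
  obtain ⟨x₀, hx₀⟩ := exists_ne (1 : G)
  by_cases hx₀top : Subgroup.zpowers x₀ = ⊤
  · exact isSolvable_of_zpowers_eq_top x₀ hx₀top
  obtain ⟨M, hM, hxM⟩ := (eq_top_or_exists_le_coatom _).resolve_left hx₀top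
  have hM1 : M ≠ ⊥ := by
    intro h
    rw [h, le_bot_iff, Subgroup.zpowers_eq_bot] at hxM
    exact hx₀ hxM
  have hmal := malnormal_of_TI hsimple hTI M hM hM1
  obtain ⟨hb1, hb2⟩ := Cfsg.Agent.S4116.covered_bounds M hmal hM1 hM.1
  -- an element outside the covered set
  have hex : ∃ x : G, x ≠ 1 ∧ x ∉ Cfsg.Agent.S4116.covered M := by
    by_contra hcon
    push Not at hcon
    have huniv : (Set.univ : Set G) ⊆ Cfsg.Agent.S4116.covered M ∪ {1} := by
      intro x _
      by_cases hx : x = 1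
      · right; exact hx
      · left; exact hcon x hx
    have h1 := Set.ncard_le_ncard huniv (Set.toFinite _)
    have h2 := Set.ncard_union_le (Cfsg.Agent.S4116.covered M) {1}
    rw [Set.ncard_univ] at h1
    rw [Set.ncard_singleton] at h2
    omega
  obtain ⟨x, hx1, hxcov⟩ := hex
  by_cases hxtop : Subgroup.zpowers x = ⊤
  · exact isSolvable_of_zpowers_eq_top x hxtop
  obtain ⟨M', hM', hxM'⟩ := (eq_top_or_exists_le_coatom _).resolve_left hxtop
  have hxM'' : x ∈ M' := hxM' (Subgroup.mem_zpowers x)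
  have hM'1 : M' ≠ ⊥ := by
    intro h
    rw [h, Subgroup.mem_bot] at hxM''
    exact hx1 hxM''
  have hmal' := malnormal_of_TI hsimple hTI M' hM' hM'1
  obtain ⟨hb1', hb2'⟩ := Cfsg.Agent.S4116.covered_bounds M' hmal' hM'1 hM'.1
  have hdisj : Disjoint (Cfsg.Agent.S4116.covered M) (Cfsg.Agent.S4116.covered M') := by
    rw [Set.disjoint_left]
    rintro y ⟨hy1, k, hk⟩ ⟨-, k', hk'⟩
    have hyA : y ∈ MulAut.conj k • M := (mem_conj_smul M k y).mpr hk
    have hyB : y ∈ MulAut.conj k' • M' := (mem_conj_smul M' k' y).mpr hk'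
    have hne : MulAut.conj k • M ≠ MulAut.conj k' • M' := by
      intro h
      apply hxcov
      refine ⟨hx1, k'⁻¹ * k, ?_⟩
      have h2 : M' = MulAut.conj (k'⁻¹ * k) • M := by
        rw [← conj_smul_conj_smul, h, conj_smul_conj_smul, inv_mul_cancel, conj_one_smul]
      rw [h2, mem_conj_smul] at hxM''
      exact hxM''
    have := hTI _ _ (isCoatom_conj_smul hM k) (isCoatom_conj_smul hM' k') hne
    have hy2 : y ∈ MulAut.conj k • M ⊓ MulAut.conj k' • M' := ⟨hyA, hyB⟩
    rw [this, Subgroup.mem_bot] at hy2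
    exact hy1 hy2
  have hunion : Cfsg.Agent.S4116.covered M ∪ Cfsg.Agent.S4116.covered M' ⊆ {y : G | y ≠ 1} := by
    rintro y (hy | hy)
    · exact hy.1
    · exact hy.1
  have h1 := Set.ncard_le_ncard hunion (Set.toFinite _)
  rw [Set.ncard_union_eq hdisj (Set.toFinite _) (Set.toFinite _)] at h1
  have h2 : ({y : G | y ≠ 1} : Set G).ncard + 1 = Nat.card G := by
    have : ({y : G | y ≠ 1} : Set G) = {1}ᶜ := by ext; simp
    rw [this, Set.ncard_compl, Set.ncard_singleton]
    have : 0 < Nat.card G := Nat.card_pos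
    omega
  omega

theorem main : ∀ (k : ℕ) (G : Type u) [Group G] [Finite G], Nat.card G = k → AllMaxNil G →
    Group.IsSolvable G := by
  intro k
  induction k using Nat.strong_induction_on with
  | _ k ih =>
    intro G _ _ hk hG
    subst hk
    by_cases hN : ∃ N : Subgroup G, N.Normal ∧ N ≠ ⊥ ∧ N ≠ ⊤
    · obtain ⟨N, hNn, hN1, hN2⟩ := hN
      exact step1 (fun G' _ _ hlt hG' => ih _ hlt G' rfl hG') hG N hN1 hN2
    · push Not at hN
      have hsimple : ∀ N : Subgroup G, N.Normal → N = ⊥ ∨ N = ⊤ := by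
        intro N hNn
        by_cases h : N = ⊥
        · exact Or.inl h
        · exact Or.inr (hN N hNn h)
      rcases subsingleton_or_nontrivial G with hs | hnt
      · infer_instance
      · exact claimB hsimple (claimA hG hsimple)

/-- Schmidt's Theorem on minimal non-nilpotent groups: a finite group in which every maximal subgroup is nilpotent is solvable. -/
theorem result {G : Type*} [Group G] [Finite G]
    (h : ∀ M : Subgroup G, IsCoatom M → Group.IsNilpotent M) : Group.IsSolvable G := by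
  exact main (Nat.card G) G rfl h

end Cfsg.Agent.S0046
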