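import Cfsg.Statements.S0048
import Mathlib
import Cfsg.Agent.S0043
import Cfsg.Agent.Lib.Helper55.Cores
-- import your own Cfsg.Agent.* helpers here

set_option autoImplicit false
open Cfsg

namespace Cfsg.Agent.S0048

/-- In a finite solvable group every maximal subgroup has index a prime power. -/
theorem result {G : Type*} [Group G] [Finite G] [Group.IsSolvable G]
    (M : Subgroup G) (hM : IsCoatom M) : IsPrimePow M.index := by
  set K := M.normalCore with hK
  have hKn : K.Normal := Subgroup.normalCore_normal M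
  have hKM : K ≤ M := Subgroup.normalCore_le M
  have hMtop : M ≠ ⊤ := hM.1
  set π := QuotientGroup.mk' K with hπ
  have hsurj : Function.Surjective π := QuotientGroup.mk'_surjective _
  have hker : π.ker = K := QuotientGroup.ker_mk' K
  -- the quotient is nontrivial
  have hQ : (⊤ : Subgroup (G ⧸ K)) ≠ ⊥ := by
    intro h
    apply hMtop
    rw [eq_top_iff]
    intro g _
    have : π g ∈ (⊥ : Subgroup (G ⧸ K)) := h ▸ Subgroup.mem_top _
    rw [Subgroup.mem_bot] at this
    exact hKM ((QuotientGroup.eq_one_iff g).mp this)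
  -- a minimal normal subgroup of the quotient
  obtain ⟨A, ⟨hAn, hAne⟩, hmin⟩ := exists_minimal_of_wellFoundedLT
    (fun A : Subgroup (G ⧸ K) => A.Normal ∧ A ≠ ⊥) ⟨⊤, inferInstance, hQ⟩
  have hmin' : ∀ B : Subgroup (G ⧸ K), B.Normal → B ≤ A → B = ⊥ ∨ B = A := by
    intro B hBn hBA
    by_cases hB : B = ⊥
    · exact Or.inl hB
    · exact Or.inr (le_antisymm hBA (hmin ⟨hBn, hB⟩ hBA))
  obtain ⟨_, p, hp, hpow⟩ := Cfsg.Agent.S0043.result A hAne hmin'
  have : Fact p.Prime := ⟨hp⟩
  have hAp : IsPGroup p A := by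
    intro x
    refine ⟨1, ?_⟩
    apply Subtype.ext
    simpa using hpow x x.2
  obtain ⟨n, hn⟩ := hAp.exists_card_eq
  -- pull back to `G`
  set N := A.comap π with hN
  have hNn : N.Normal := hAn.comap π
  have hNM : ¬ N ≤ M := by
    intro hle
    have h1 : N ≤ K := Subgroup.normal_le_normalCore.mpr hle
    apply hAne
    rw [eq_bot_iff]
    intro a ha
    obtain ⟨g, rfl⟩ := hsurj a
    rw [Subgroup.mem_bot]
    exact (QuotientGroup.eq_one_iff g).mpr (h1 ha)
  have hsup : M ⊔ N = ⊤ := by
    by_contra hne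
    have hlt : M < M ⊔ N := lt_of_le_of_ne le_sup_left (fun h => hNM (h ▸ le_sup_right))
    exact hne (hM.2 _ hlt)
  have hsupQ : M.map π ⊔ A = ⊤ := by
    have := congrArg (Subgroup.map π) hsup
    rwa [Subgroup.map_sup, hN, Subgroup.map_comap_eq_self_of_surjective hsurj,
      Subgroup.map_top_of_surjective π hsurj] at this
  -- index computation
  have hdvd : Nat.card (G ⧸ K) ∣ Nat.card (M.map π) * Nat.card A := by
    have := Cfsg.Agent.Lib.Helper55.card_sup_dvd_mul (M.map π) A
    rwa [hsupQ, Subgroup.card_top] at this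
  have hidx : (M.map π).index = M.index :=
    Subgroup.index_map_eq M hsurj (by rw [hker]; exact hKM)
  have h2 : M.index ∣ p ^ n := by
    rw [← hidx, ← hn]
    rw [← Subgroup.index_mul_card (M.map π), mul_comm] at hdvd
    exact Nat.dvd_of_mul_dvd_mul_left Nat.card_pos hdvd
  obtain ⟨j, _, hj⟩ := (Nat.dvd_prime_pow hp).mp h2
  have hj0 : j ≠ 0 := by
    rintro rfl
    rw [pow_zero] at hj
    exact hMtop (Subgroup.index_eq_one.mp hj)
  rw [hj]
  exact hp.isPrimePow.pow hj0

end Cfsg.Agent.S0048
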