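import Mathlib
import Cfsg.Statements.S0049

set_option autoImplicit false
open Cfsg

namespace Cfsg.Agent.S0049

/-- A prime divisor of the order of a finite group also divides the index of the Frattini subgroup. -/
theorem result {G : Type*} [Group G] [Finite G] (p : ℕ) (hp : p.Prime) (hdvd : p ∣ Nat.card G) :
    p ∣ (frattini G).index := by
  by_contra hnd
  have : Fact p.Prime := ⟨hp⟩
  have hnil : Group.IsNilpotent (frattini G) := frattini_nilpotent
  let Q : Sylow p (frattini G) := Classical.arbitrary _
  have hQn : (Q : Subgroup (frattini G)).Normal := inferInstance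
  have hQc : (Q : Subgroup (frattini G)).Characteristic := Q.characteristic_of_normal hQn
  let P : Subgroup G := (Q : Subgroup (frattini G)).map (frattini G).subtype
  have hPn : P.Normal := ConjAct.normal_of_characteristic_of_normal
  have hPp : IsPGroup p P := Q.isPGroup'.map _
  have hPidx : ¬ p ∣ P.index := by
    rw [Subgroup.index_map_subtype]
    exact Nat.Prime.not_dvd_mul hp Q.not_dvd_index hnd
  have hcop : (Nat.card P).Coprime P.index := by
    obtain ⟨k, hk⟩ := IsPGroup.iff_card.mp hPp
    rw [hk]
    exact Nat.Coprime.pow_left _ ((Nat.Prime.coprime_iff_not_dvd hp).mpr hPidx)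
  obtain ⟨H, hH⟩ := Subgroup.exists_right_complement'_of_coprime hcop
  have hPle : P ≤ frattini G := Subgroup.map_subtype_le _
  have hsup : H ⊔ frattini G = ⊤ := by
    rw [eq_top_iff, ← hH.sup_eq_top, sup_comm]
    exact sup_le_sup_left hPle H
  have hHtop : H = ⊤ := frattini_nongenerating hsup
  have hPbot : P = ⊥ := by
    have := hH.disjoint.eq_bot
    rwa [hHtop, inf_top_eq] at this
  have hcard : Nat.card P * P.index = Nat.card G := P.card_mul_index
  rw [hPbot] at hcard hPidx
  rw [Subgroup.card_bot, one_mul] at hcard
  rw [hcard] at hPidx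
  exact hPidx hdvd

end Cfsg.Agent.S0049
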