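import Cfsg.Statements.S0053
import Mathlib.Tactic.Group
-- import your own Cfsg.Agent.* helpers here

set_option autoImplicit false
open Cfsg

namespace Cfsg.Agent.S0053

/-- An abelian minimal normal subgroup N of a finite group is complemented exactly when N is not inside the Frattini subgroup. -/
theorem result {G : Type*} [Group G] [Finite G]
    (N : Subgroup G) [N.Normal] [IsMulCommutative N] (hN : N ≠ ⊥)
    (hmin : ∀ M : Subgroup G, M.Normal → M ≤ N → M = ⊥ ∨ M = N) :
    (∃ H : Subgroup G, Subgroup.IsComplement' N H) ↔ ¬ N ≤ frattini G := by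
  constructor
  · rintro ⟨H, hH⟩ hNF
    have h1 : N ⊔ H = ⊤ := hH.sup_eq_top
    have h2 : H ⊔ frattini G = ⊤ := by
      rw [eq_top_iff, ← h1, sup_comm]
      exact sup_le_sup_left hNF H
    have h3 : H = ⊤ := frattini_nongenerating h2
    have h4 := hH.disjoint
    rw [h3, disjoint_top] at h4
    exact hN h4
  · intro hNF
    -- there is a maximal subgroup M not containing N
    obtain ⟨M, hM, hNM⟩ : ∃ M : Subgroup G, IsCoatom M ∧ ¬ N ≤ M := by
      by_contra hcon
      push Not at hcon
      apply hNF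
      unfold frattini Order.radical
      exact le_iInf₂ (fun M hM => hcon M hM)
    have hsup : N ⊔ M = ⊤ := by
      by_contra hne
      have hlt : M < N ⊔ M := by
        rw [lt_iff_le_and_ne]
        refine ⟨le_sup_right, fun h => hNM ?_⟩
        rw [h]; exact le_sup_left
      exact hne (hM.2 _ hlt)
    have hcomm : ∀ x ∈ N, ∀ y ∈ N, x * y = y * x := by
      intro x hx y hy
      exact congrArg Subtype.val (mul_comm' (⟨x, hx⟩ : N) ⟨y, hy⟩)
    -- N ⊓ M is normal in G
    have hnorm : (N ⊓ M).Normal := by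
      constructor
      intro x hx g
      have hg : g ∈ (↑(N ⊔ M) : Set G) := by rw [hsup]; trivial
      rw [Subgroup.normal_mul] at hg
      obtain ⟨n, hn, m, hm, rfl⟩ := hg
      have hx1 : m * x * m⁻¹ ∈ N := Subgroup.Normal.conj_mem inferInstance x hx.1 m
      have hx2 : m * x * m⁻¹ ∈ M := M.mul_mem (M.mul_mem hm hx.2) (M.inv_mem hm)
      have h5 : n * m * x * (n * m)⁻¹ = m * x * m⁻¹ := by
        calc n * m * x * (n * m)⁻¹ = n * (m * x * m⁻¹) * n⁻¹ := by group
          _ = (m * x * m⁻¹) * n * n⁻¹ := by rw [hcomm n hn _ hx1]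
          _ = m * x * m⁻¹ := by group
      rw [h5]
      exact ⟨hx1, hx2⟩
    have hbot : N ⊓ M = ⊥ := by
      rcases hmin (N ⊓ M) hnorm inf_le_left with h | h
      · exact h
      · exact (hNM (h ▸ inf_le_right)).elim
    refine ⟨M, Subgroup.isComplement'_of_disjoint_and_mul_eq_univ (disjoint_iff.mpr hbot) ?_⟩
    rw [← Subgroup.normal_mul, hsup]
    rfl

end Cfsg.Agent.S0053
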