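import Cfsg.Statements.S0054
import Mathlib.Tactic.Group
import Mathlib.GroupTheory.PGroup
-- import your own Cfsg.Agent.* helpers here

set_option autoImplicit false
open Cfsg

namespace Cfsg.Agent.S0054

/-- A regular normal subgroup of a finite 2-transitive group is elementary abelian: it is commutative and all its elements have order dividing one prime. -/
theorem result {G : Type*} [Group G] [Finite G]
    {X : Type*} [Nonempty X] [MulAction G X] (h2 : MulAction.IsMultiplyPretransitive G X 2)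
    (N : Subgroup G) [N.Normal] (htrans : MulAction.IsPretransitive N X) (hreg : ∀ x : X, MulAction.stabilizer N x = ⊥) :
    IsMulCommutative N ∧ ∃ p : ℕ, p.Prime ∧ ∀ n ∈ N, n ^ p = 1 := by
  obtain ⟨x₀⟩ := ‹Nonempty X›
  rw [MulAction.is_two_pretransitive_iff] at h2
  -- nonidentity elements of N move x₀
  have hmove : ∀ n ∈ N, n ≠ 1 → n • x₀ ≠ x₀ := by
    intro n hn hn1 hfix
    have : (⟨n, hn⟩ : N) ∈ MulAction.stabilizer N x₀ := by
      rw [MulAction.mem_stabilizer_iff]; exact hfix
    rw [hreg x₀, Subgroup.mem_bot] at this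
    exact hn1 (congrArg Subtype.val this)
  -- elements of N agreeing at x₀ are equal
  have hinj : ∀ n ∈ N, ∀ m ∈ N, n • x₀ = m • x₀ → n = m := by
    intro n hn m hm h
    by_contra hne
    have h1 : m⁻¹ * n ∈ N := N.mul_mem (N.inv_mem hm) hn
    have h2 : m⁻¹ * n ≠ 1 := by
      intro h3
      apply hne
      have := congrArg (fun z => m * z) h3
      simpa using this
    apply hmove _ h1 h2
    rw [mul_smul, h, inv_smul_smul]
  -- any two nonidentity elements of N are conjugate in G
  have hconj : ∀ n ∈ N, n ≠ 1 → ∀ m ∈ N, m ≠ 1 → ∃ g : G, g * n * g⁻¹ = m := by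
    intro n hn hn1 m hm hm1
    obtain ⟨g, hg1, hg2⟩ := h2 (hmove n hn hn1).symm (hmove m hm hm1).symm
    refine ⟨g, ?_⟩
    apply hinj _ (Subgroup.Normal.conj_mem inferInstance n hn g) _ hm
    rw [mul_smul, mul_smul]
    have : g⁻¹ • x₀ = x₀ := by rw [inv_smul_eq_iff, hg1]
    rw [this, hg2]
  by_cases hbot : ∀ n ∈ N, n = 1
  · refine ⟨⟨⟨?_⟩⟩, 2, Nat.prime_two, ?_⟩
    · intro a b
      have ha : (a : G) = 1 := hbot a a.2
      have hb : (b : G) = 1 := hbot b b.2
      apply Subtype.ext
      simp [ha, hb]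
    · intro n hn
      rw [hbot n hn, one_pow]
  · push Not at hbot
    obtain ⟨n₀, hn₀, hn₀1⟩ := hbot
    have hord : orderOf n₀ ≠ 1 := fun h => hn₀1 (orderOf_eq_one_iff.mp h)
    obtain ⟨p, hp, hpn⟩ := Nat.exists_prime_and_dvd hord
    have hpos : 0 < orderOf n₀ := orderOf_pos n₀
    set n₁ := n₀ ^ (orderOf n₀ / p) with hn₁def
    have hn₁ord : orderOf n₁ = p := orderOf_pow_orderOf_div hpos.ne' hpn
    have hn₁ : n₁ ∈ N := N.pow_mem hn₀ _
    have hn₁1 : n₁ ≠ 1 := by
      intro h
      rw [h, orderOf_one] at hn₁ord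
      exact hp.one_lt.ne hn₁ord
    have hpow : ∀ n ∈ N, n ^ p = 1 := by
      intro n hn
      by_cases hn1 : n = 1
      · rw [hn1, one_pow]
      · obtain ⟨g, hg⟩ := hconj n₁ hn₁ hn₁1 n hn hn1
        rw [← hg, conj_pow, ← hn₁ord, pow_orderOf_eq_one]
        group
    refine ⟨?_, p, hp, hpow⟩
    -- N is a p-group with nontrivial centre
    have : Fact p.Prime := ⟨hp⟩
    have hpg : IsPGroup p N := by
      intro n
      refine ⟨1, ?_⟩
      apply Subtype.ext
      rw [pow_one, Subgroup.coe_pow, Subgroup.coe_one]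
      exact hpow n n.2
    have : Nontrivial N := ⟨⟨⟨n₀, hn₀⟩, 1, fun h => hn₀1 (congrArg Subtype.val h)⟩⟩
    have := hpg.center_nontrivial
    obtain ⟨z, hz⟩ := exists_ne (1 : Subgroup.center N)
    have hzc : ∀ y ∈ N, y * (z : N) = (z : N) * y := by
      intro y hy
      have := Subgroup.mem_center_iff.mp z.2 ⟨y, hy⟩
      exact congrArg Subtype.val this
    have hz1 : ((z : N) : G) ≠ 1 := by
      intro h
      apply hz
      apply Subtype.ext
      apply Subtype.ext
      exact h
    have hcen : ∀ n ∈ N, ∀ y ∈ N, y * n = n * y := by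
      intro n hn y hy
      by_cases hn1 : n = 1
      · rw [hn1, mul_one, one_mul]
      · obtain ⟨g, hg⟩ := hconj _ (z : N).2 hz1 n hn hn1
        have hy' : g⁻¹ * y * g ∈ N := by
          have := Subgroup.Normal.conj_mem (inferInstance : N.Normal) y hy g⁻¹
          simpa using this
        have h3 := hzc _ hy'
        rw [← hg]
        calc y * (g * (z : N) * g⁻¹) = g * ((g⁻¹ * y * g) * (z : N)) * g⁻¹ := by group
          _ = g * ((z : N) * (g⁻¹ * y * g)) * g⁻¹ := by rw [h3]
          _ = g * (z : N) * g⁻¹ * y := by group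
    refine ⟨⟨?_⟩⟩
    intro a b
    apply Subtype.ext
    rw [Subgroup.coe_mul, Subgroup.coe_mul]
    exact hcen b b.2 a a.2

end Cfsg.Agent.S0054
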