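import Cfsg.Statements.S0057
import Cfsg.Agent.S0023
import Cfsg.Agent.S0055
import Mathlib.GroupTheory.IndexNormal
import Mathlib.GroupTheory.Sylow
import Mathlib.GroupTheory.SpecificGroups.Cyclic
import Mathlib.Tactic.Group

set_option autoImplicit false
open Cfsg

namespace Cfsg.Agent.S0057

open scoped commutatorElement

section LemmaA

variable {G : Type*} [Group G] [Finite G]

/-- A subgroup of a group of prime order is trivial or everything. -/
theorem eq_bot_or_eq_of_le_of_card_prime {Z H : Subgroup G} {p : ℕ} (hp : p.Prime) (hZ : Nat.card Z = p)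
    (hH : H ≤ Z) : H = ⊥ ∨ H = Z := by
  have hdvd : Nat.card H ∣ p := hZ ▸ Subgroup.card_dvd_of_le hH
  rcases (Nat.dvd_prime hp).mp hdvd with h | h
  · left; exact Subgroup.card_eq_one.mp h
  · right; exact Subgroup.eq_of_le_of_card_ge hH (by rw [h, hZ])

/-- Main step: given an `A`-invariant subgroup `Z ≤ K` of order `p` not centralised by `A`, where
`C_K(A)` has index `p` in `K`, the commutator `[K, A]` equals `Z`. -/
theorem commutator_eq_of_invariant_prime (A K Z : Subgroup G)
    (p : ℕ) (hp : p.Prime) (hidx : (K ⊓ Subgroup.centralizer (A : Set G)).relIndex K = p)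
    (hZK : Z ≤ K) (hZcard : Nat.card Z = p) (hAZ : A ≤ Subgroup.normalizer (Z : Set G))
    (hZA : ¬ Z ≤ Subgroup.centralizer (A : Set G)) : ⁅K, A⁆ = Z := by
  set C := K ⊓ Subgroup.centralizer (A : Set G) with hC
  have hle : ⁅K, A⁆ ≤ Z := by
    rw [Subgroup.commutator_le]
    intro k hk a ha
    set Ca := K ⊓ Subgroup.centralizer ({a} : Set G) with hCa
    have hCCa : C ≤ Ca := by
      intro x hx
      refine Subgroup.mem_inf.mpr ⟨hx.1, ?_⟩
      rw [Subgroup.mem_centralizer_iff]
      intro y hy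
      rw [Set.mem_singleton_iff] at hy
      rw [hy]
      exact (Subgroup.mem_centralizer_iff.mp hx.2) a ha
    have hCaK : Ca ≤ K := inf_le_left
    have hmul := Subgroup.relIndex_mul_relIndex C Ca K hCCa hCaK
    rw [hidx] at hmul
    have hcomm_of_mem : ∀ x ∈ Ca, x * a = a * x := by
      intro x hx
      have := (Subgroup.mem_centralizer_iff.mp hx.2) a (Set.mem_singleton a)
      exact this.symm
    rcases (Nat.dvd_prime hp).mp (Dvd.intro_left _ hmul) with h1 | h1
    · -- Ca.relIndex K = 1, so a centralises K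
      have hKCa : K ≤ Ca := Subgroup.relIndex_eq_one.mp h1
      have := hcomm_of_mem k (hKCa hk)
      have h2 : ⁅k, a⁆ = 1 := by
        rw [commutatorElement_def, this]; group
      rw [h2]; exact Z.one_mem
    · -- Ca.relIndex K = p, so Ca = C
      have h2 : C.relIndex Ca = 1 := by
        rw [h1] at hmul
        have hp0 : 0 < p := hp.pos
        exact Nat.eq_of_mul_eq_mul_right hp0 (by rw [hmul, one_mul])
      have hCaC : Ca ≤ C := Subgroup.relIndex_eq_one.mp h2
      -- Z ⊓ Ca = ⊥
      have hZCa : Z ⊓ Ca = ⊥ := by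
        rcases eq_bot_or_eq_of_le_of_card_prime hp hZcard (inf_le_left : Z ⊓ Ca ≤ Z) with h | h
        · exact h
        · exfalso
          apply hZA
          intro z hz
          have : z ∈ Z ⊓ Ca := by rw [h]; exact hz
          exact (hCaC this.2).2
      -- the map Z → K ⧸ Ca is a bijection
      let φ : Z → K ⧸ Ca.subgroupOf K := fun z => QuotientGroup.mk ⟨z, hZK z.2⟩
      have hφinj : Function.Injective φ := by
        intro z z' hzz'
        have := QuotientGroup.eq.mp hzz'
        rw [Subgroup.mem_subgroupOf] at this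
        have h3 : (z : G)⁻¹ * z' ∈ Z ⊓ Ca := ⟨Z.mul_mem (Z.inv_mem z.2) z'.2, this⟩
        rw [hZCa, Subgroup.mem_bot] at h3
        apply Subtype.ext
        have : (z' : G) = z * ((z : G)⁻¹ * z') := by group
        rw [this, h3, mul_one]
      have hcard : Nat.card Z = Nat.card (K ⧸ Ca.subgroupOf K) := by
        rw [hZcard, ← Subgroup.index_eq_card, ← Subgroup.relIndex, h1]
      have hφbij : Function.Bijective φ := (Nat.bijective_iff_injective_and_card φ).mpr ⟨hφinj, hcard⟩
      obtain ⟨z, hz⟩ := hφbij.2 (QuotientGroup.mk ⟨k, hk⟩)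
      have h4 := QuotientGroup.eq.mp hz
      rw [Subgroup.mem_subgroupOf] at h4
      have h5 : (z : G)⁻¹ * k ∈ Ca := h4
      have h6 := hcomm_of_mem _ h5
      -- [k, a] = [z, a] ∈ Z
      have h7 : ⁅k, a⁆ = (z : G) * (a * (z : G)⁻¹ * a⁻¹) := by
        rw [commutatorElement_def]
        have hk' : k = z * ((z : G)⁻¹ * k) := by group
        calc k * a * k⁻¹ * a⁻¹ = (z : G) * (((z : G)⁻¹ * k) * a) * k⁻¹ * a⁻¹ := by group
          _ = (z : G) * (a * ((z : G)⁻¹ * k)) * k⁻¹ * a⁻¹ := by rw [h6]
          _ = (z : G) * (a * (z : G)⁻¹ * a⁻¹) := by group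
      rw [h7]
      exact Z.mul_mem z.2 ((Subgroup.mem_normalizer_iff.mp (hAZ ha) _).mp (Z.inv_mem z.2))
  -- ⁅K, A⁆ ≠ ⊥
  rcases eq_bot_or_eq_of_le_of_card_prime hp hZcard hle with h | h
  · exfalso
    apply hZA
    rw [← Subgroup.commutator_eq_bot_iff_le_centralizer, eq_bot_iff, ← h]
    exact Subgroup.commutator_mono hZK le_rfl
  · exact h

end LemmaA

section LemmaB

variable {G : Type*} [Group G]

/-- If `A` normalises `H` then `A` normalises `⁅H, A⁆`. -/
theorem le_normalizer_commutator (A H : Subgroup G) (hAH : A ≤ Subgroup.normalizer (H : Set G)) :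
    A ≤ Subgroup.normalizer ((⁅H, A⁆ : Subgroup G) : Set G) := by
  intro a ha
  set f : G →* G := (MulAut.conj a).toMonoidHom with hf
  have hH : H.map f = H := by
    ext y
    constructor
    · rintro ⟨x, hx, rfl⟩
      exact (Subgroup.mem_normalizer_iff.mp (hAH ha) x).mp hx
    · intro hy
      refine ⟨a⁻¹ * y * a, ?_, ?_⟩
      · have h1 := (Subgroup.mem_normalizer_iff.mp (hAH ha) (a⁻¹ * y * a)).mpr
        apply h1
        have : a * (a⁻¹ * y * a) * a⁻¹ = y := by group
        rw [this]; exact hy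
      · simp [hf, MulAut.conj_apply]
        group
  have hA : A.map f = A := by
    ext y
    constructor
    · rintro ⟨x, hx, rfl⟩
      exact A.mul_mem (A.mul_mem ha hx) (A.inv_mem ha)
    · intro hy
      refine ⟨a⁻¹ * y * a, A.mul_mem (A.mul_mem (A.inv_mem ha) hy) ha, ?_⟩
      simp [hf, MulAut.conj_apply]
      group
  have hmap : (⁅H, A⁆).map f = ⁅H, A⁆ := by rw [Subgroup.map_commutator, hH, hA]
  rw [Subgroup.mem_normalizer_iff]
  intro h
  constructor
  · intro hh
    rw [← hmap]
    exact ⟨h, hh, rfl⟩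
  · intro hh
    rw [← hmap] at hh
    obtain ⟨x, hx, hxh⟩ := hh
    have : x = h := by
      have hinj : Function.Injective f := (MulAut.conj a).injective
      exact hinj hxh
    rw [← this]; exact hx

/-- A coprime action that is trivial on `⁅P, A⁆` is trivial on `P`. -/
theorem le_centralizer_of_commutator_le (A P : Subgroup G) (hAP : A ≤ Subgroup.normalizer (P : Set G))
    (hcop : (Nat.card A).Coprime (Nat.card P)) (h : ⁅P, A⁆ ≤ Subgroup.centralizer (A : Set G)) :
    P ≤ Subgroup.centralizer (A : Set G) := by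
  intro x hx
  rw [Subgroup.mem_centralizer_iff]
  intro a ha
  set d := x⁻¹ * (a * x * a⁻¹) with hd
  have hdcomm : d ∈ ⁅P, A⁆ := by
    have : d = ⁅x⁻¹, a⁆ := by rw [commutatorElement_def, hd]; group
    rw [this]
    exact Subgroup.commutator_mem_commutator (P.inv_mem hx) ha
  have hdP : d ∈ P := Cfsg.Agent.S0055.commutator_le_V A P hAP hdcomm
  have hda : a * d = d * a := (Subgroup.mem_centralizer_iff.mp (h hdcomm) a ha).symm ▸ rfl
  have hda' : a * d * a⁻¹ = d := by rw [hda]; group
  have hpow : ∀ n : ℕ, a ^ n * x * (a ^ n)⁻¹ = x * d ^ n := by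
    intro n
    induction n with
    | zero => simp
    | succ n ih =>
      calc a ^ (n + 1) * x * (a ^ (n + 1))⁻¹ = a * (a ^ n * x * (a ^ n)⁻¹) * a⁻¹ := by
            rw [pow_succ']; group
        _ = a * (x * d ^ n) * a⁻¹ := by rw [ih]
        _ = (a * x * a⁻¹) * (a * d * a⁻¹) ^ n := by rw [conj_pow]; group
        _ = (x * d) * d ^ n := by rw [hda', hd]; group
        _ = x * d ^ (n + 1) := by rw [pow_succ']; group
  have h1 := hpow (orderOf a)
  rw [pow_orderOf_eq_one] at h1
  have h2 : d ^ orderOf a = 1 := by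
    have : x = x * d ^ orderOf a := by simpa using h1
    exact (mul_eq_left (a := x)).mp this.symm
  have h3 : orderOf d ∣ orderOf a := orderOf_dvd_of_pow_eq_one h2
  have h4 : orderOf d ∣ Nat.card A := h3.trans (by
    have := orderOf_dvd_natCard (⟨a, ha⟩ : A)
    rwa [Subgroup.orderOf_mk] at this)
  have h5 : orderOf d ∣ Nat.card P := by
    have := orderOf_dvd_natCard (⟨d, hdP⟩ : P)
    rwa [Subgroup.orderOf_mk] at this
  have h6 : orderOf d = 1 := Nat.eq_one_of_dvd_coprimes hcop h4 h5
  have h7 : d = 1 := orderOf_eq_one_iff.mp h6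
  have : a * x * a⁻¹ = x := by
    have : a * x * a⁻¹ = x * d := by rw [hd]; group
    rw [this, h7, mul_one]
  calc a * x = a * x * a⁻¹ * a := by group
    _ = x * a := by rw [this]

/-- A power of `p` that is at most `p` and not `1` equals `p`. -/
theorem eq_prime_of_dvd_pow_of_le {p m n : ℕ} (hp : p.Prime) (hm : m ∣ p ^ n) (hle : m ≤ p) (h1 : m ≠ 1) :
    m = p := by
  obtain ⟨j, -, rfl⟩ := (Nat.dvd_prime_pow hp).mp hm
  rcases j with _ | j
  · exact (h1 (pow_zero p)).elim
  · rcases j with _ | j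
    · exact pow_one p
    · exfalso
      have : p ^ 2 ≤ p ^ (j + 1 + 1) := Nat.pow_le_pow_right hp.pos (by omega)
      have h2 : p < p ^ 2 := by
        have := hp.one_lt
        nlinarith
      omega

variable [Finite G]

/-- Existence of an `A`-invariant subgroup of order `p` in `K` on which `A` acts nontrivially, given an
`A`-invariant Sylow `p`-subgroup `P` of `K` and `|K : C_K(A)| = p`. -/
theorem exists_invariant_prime (A K : Subgroup G)
    (hcop : (Nat.card A).Coprime (Nat.card K))
    (p : ℕ) [hpf : Fact p.Prime] (hidx : (K ⊓ Subgroup.centralizer (A : Set G)).relIndex K = p)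
    (P : Sylow p K)
    (hPA : A ≤ Subgroup.normalizer (((P : Subgroup K).map K.subtype : Subgroup G) : Set G)) :
    ∃ Z : Subgroup G, Z ≤ K ∧ Nat.card Z = p ∧ A ≤ Subgroup.normalizer (Z : Set G) ∧
      ¬ Z ≤ Subgroup.centralizer (A : Set G) := by
  have hp : p.Prime := hpf.out
  set CA := Subgroup.centralizer (A : Set G) with hCA
  set C := K ⊓ CA with hC
  set P' : Subgroup G := (P : Subgroup K).map K.subtype with hP'
  have hP'K : P' ≤ K := Subgroup.map_subtype_le _
  have hcardP' : Nat.card P' = p ^ (Nat.card K).factorization p := by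
    rw [hP', Subgroup.card_map_of_injective K.subtype_injective]
    exact P.card_eq_multiplicity
  have hcopP' : (Nat.card A).Coprime (Nat.card P') :=
    Nat.Coprime.coprime_dvd_right (Subgroup.card_dvd_of_le hP'K) hcop
  -- card K = p * card C
  have hcardK : Nat.card K = p * Nat.card C := by
    have h1 := (C.subgroupOf K).index_mul_card
    rw [← Subgroup.relIndex, hidx] at h1
    have hCK : C ≤ K := inf_le_left
    have h2 : Nat.card (C.subgroupOf K) = Nat.card C :=
      Nat.card_congr (Subgroup.subgroupOfEquivOfLe hCK).toEquiv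
    rw [h2] at h1
    exact h1.symm
  -- (1) P' is not contained in C
  have hP'C : ¬ P' ≤ CA := by
    intro h
    have hP'C' : P' ≤ C := le_inf hP'K h
    have h1 : Nat.card P' ∣ Nat.card C := Subgroup.card_dvd_of_le hP'C'
    rw [hcardP'] at h1
    have h2 : p ^ ((Nat.card K).factorization p + 1) ∣ Nat.card K := by
      rw [pow_succ']
      calc p * p ^ (Nat.card K).factorization p ∣ p * Nat.card C := Nat.mul_dvd_mul_left p h1
        _ = Nat.card K := hcardK.symm
    exact Nat.pow_succ_factorization_not_dvd Nat.card_pos.ne' hp h2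
  -- (2) index of the fixed points in P' is p
  have hrelP' : CA.relIndex P' = p := by
    apply eq_prime_of_dvd_pow_of_le hp (n := (Nat.card K).factorization p)
    · rw [← hcardP']; exact Subgroup.relIndex_dvd_card _ _
    · have h1 : CA.relIndex P' ≤ CA.relIndex K :=
        Subgroup.relIndex_le_of_le_right hP'K (by
          rw [← Subgroup.inf_relIndex_right, inf_comm, hidx]; exact hp.ne_zero)
      rw [← Subgroup.inf_relIndex_right CA K, inf_comm, hidx] at h1
      exact h1
    · intro h
      exact hP'C (Subgroup.relIndex_eq_one.mp h)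
  set D := P' ⊓ CA with hD
  -- (3) D is normal in P'
  have hDnormal : ∀ x ∈ P', ∀ d ∈ D, x⁻¹ * d * x ∈ D := by
    have hn : (D.subgroupOf P').Normal := by
      apply Subgroup.normal_of_index_eq_minFac_card
      have hidxD : (D.subgroupOf P').index = p := by
        rw [← Subgroup.relIndex, hD, inf_comm, Subgroup.inf_relIndex_right, hrelP']
      rw [hidxD, hcardP']
      have hn0 : (Nat.card K).factorization p ≠ 0 := by
        intro h0
        rw [h0, pow_zero] at hcardP'
        apply hP'C
        rw [Subgroup.card_eq_one.mp hcardP']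
        exact bot_le
      rw [Nat.pow_minFac hn0, hp.minFac_eq]
    intro x hx d hd
    have hdP' : d ∈ P' := hd.1
    have := hn.conj_mem ⟨d, hdP'⟩ (Subgroup.mem_subgroupOf.mpr hd) (⟨x, hx⟩⁻¹ : P')
    rw [Subgroup.mem_subgroupOf] at this
    simpa using this
  -- (4) P₁ = ⁅P', A⁆ centralises D
  set P₁ := ⁅P', A⁆ with hP₁
  have hP₁P' : P₁ ≤ P' := Cfsg.Agent.S0055.commutator_le_V A P' hPA
  have hP₁D : ∀ y ∈ P₁, ∀ d ∈ D, d * y = y * d := by
    have : P₁ ≤ Subgroup.centralizer (D : Set G) := by
      rw [hP₁, Subgroup.commutator_le]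
      intro x hx a ha
      rw [Subgroup.mem_centralizer_iff]
      intro d hd
      have hd₁ : x⁻¹ * d * x ∈ D := hDnormal x hx d hd
      have e1 : a * d = d * a := (Subgroup.mem_centralizer_iff.mp hd.2 a ha)
      have e2 : a * (x⁻¹ * d * x) = (x⁻¹ * d * x) * a := (Subgroup.mem_centralizer_iff.mp hd₁.2 a ha)
      have e1' : a⁻¹ * d = d * a⁻¹ := by
        calc a⁻¹ * d = a⁻¹ * (d * a) * a⁻¹ := by group
          _ = a⁻¹ * (a * d) * a⁻¹ := by rw [e1]
          _ = d * a⁻¹ := by group
      rw [commutatorElement_def]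
      calc d * (x * a * x⁻¹ * a⁻¹) = x * ((x⁻¹ * d * x) * a) * x⁻¹ * a⁻¹ := by group
        _ = x * (a * (x⁻¹ * d * x)) * x⁻¹ * a⁻¹ := by rw [e2]
        _ = x * a * x⁻¹ * (d * a⁻¹) := by group
        _ = x * a * x⁻¹ * (a⁻¹ * d) := by rw [e1']
        _ = x * a * x⁻¹ * a⁻¹ * d := by group
    intro y hy d hd
    exact (Subgroup.mem_centralizer_iff.mp (this hy) d hd)
  -- (6) P₁ is not centralised by A
  have hP₁C : ¬ P₁ ≤ CA := fun h => hP'C (le_centralizer_of_commutator_le A P' hPA hcopP' h)
  -- (7) the fixed points have index p in P₁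
  have hrelP₁ : CA.relIndex P₁ = p := by
    apply eq_prime_of_dvd_pow_of_le hp (n := (Nat.card K).factorization p)
    · rw [← hcardP']
      exact (Subgroup.relIndex_dvd_card _ _).trans (Subgroup.card_dvd_of_le hP₁P')
    · rw [← hrelP']
      exact Subgroup.relIndex_le_of_le_right hP₁P' (by rw [hrelP']; exact hp.ne_zero)
    · intro h
      exact hP₁C (Subgroup.relIndex_eq_one.mp h)
  set E := P₁ ⊓ CA with hE
  have hED : E ≤ D := fun e he => ⟨hP₁P' he.1, he.2⟩
  -- (8) P₁ is commutative
  have hEcentral : ∀ e ∈ E, ∀ y ∈ P₁, e * y = y * e := fun e he y hy => hP₁D y hy e (hED he)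
  have hnE : (E.subgroupOf P₁).Normal := by
    constructor
    intro n hn g
    have h1 : (n : G) * (g : G) = (g : G) * (n : G) :=
      hEcentral n (Subgroup.mem_subgroupOf.mp hn) g g.2
    have : g * n * g⁻¹ = n := by
      apply Subtype.ext
      simp only [Subgroup.coe_mul, Subgroup.coe_inv]
      rw [← h1]; group
    rw [this]; exact hn
  have hidxE : (E.subgroupOf P₁).index = p := by
    rw [← Subgroup.relIndex, hE, inf_comm, Subgroup.inf_relIndex_right, hrelP₁]
  have hcommP₁ : IsMulCommutative P₁ := by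
    have : IsCyclic (P₁ ⧸ E.subgroupOf P₁) := by
      apply isCyclic_of_prime_card (p := p)
      rw [← Subgroup.index_eq_card, hidxE]
    apply MonoidHom.isMulCommutative_of_isCyclic_of_ker_le_center (QuotientGroup.mk' (E.subgroupOf P₁))
    rw [QuotientGroup.ker_mk']
    intro e he
    rw [Subgroup.mem_center_iff]
    intro y
    apply Subtype.ext
    simp only [Subgroup.coe_mul]
    exact (hEcentral e (Subgroup.mem_subgroupOf.mp he) y y.2).symm
  -- (9) apply the abelian coprime decomposition
  have hAP₁ : A ≤ Subgroup.normalizer (P₁ : Set G) := le_normalizer_commutator A P' hPA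
  have hcopP₁ : (Nat.card A).Coprime (Nat.card P₁) :=
    Nat.Coprime.coprime_dvd_right (Subgroup.card_dvd_of_le hP₁P') hcopP'
  obtain ⟨hinf, hsup⟩ := @Cfsg.Agent.S0055.result G _ _ A P₁ hcommP₁ hAP₁ hcopP₁
  set Z := ⁅P₁, A⁆ with hZ
  have hZP₁ : Z ≤ P₁ := Cfsg.Agent.S0055.commutator_le_V A P₁ hAP₁
  refine ⟨Z, hZP₁.trans (hP₁P'.trans hP'K), ?_, le_normalizer_commutator A P₁ hAP₁, ?_⟩
  · -- card Z = p
    have h1 : (E.subgroupOf P₁).relIndex (Z.subgroupOf P₁ ⊔ E.subgroupOf P₁) =
        (E.subgroupOf P₁).relIndex (Z.subgroupOf P₁) := Subgroup.relIndex_sup_right _ _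
    have h2 : Z.subgroupOf P₁ ⊔ E.subgroupOf P₁ = ⊤ := by
      rw [← Subgroup.subgroupOf_sup hZP₁ inf_le_left, sup_comm, hsup]
      exact Subgroup.subgroupOf_self P₁
    rw [h2, Subgroup.relIndex_top_right, hidxE] at h1
    have h3 : Disjoint (E.subgroupOf P₁) (Z.subgroupOf P₁) := by
      rw [disjoint_iff, eq_bot_iff]
      intro x hx
      have hx1 : (x : G) ∈ E := Subgroup.mem_subgroupOf.mp (Subgroup.mem_inf.mp hx).1
      have hx2 : (x : G) ∈ Z := Subgroup.mem_subgroupOf.mp (Subgroup.mem_inf.mp hx).2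
      have : (x : G) ∈ E ⊓ Z := ⟨hx1, hx2⟩
      rw [hinf, Subgroup.mem_bot] at this
      rw [Subgroup.mem_bot]
      exact Subtype.ext this
    have h4 : (E.subgroupOf P₁).relIndex (Z.subgroupOf P₁) = Nat.card (Z.subgroupOf P₁) := by
      rw [← Subgroup.inf_relIndex_right, disjoint_iff.mp h3, Subgroup.relIndex_bot_left]
    rw [h4] at h1
    rw [h1]
    exact (Nat.card_congr (Subgroup.subgroupOfEquivOfLe hZP₁).toEquiv).symm
  · intro hZC
    have hZbot : Z ≤ E ⊓ Z := le_inf (le_inf hZP₁ hZC) le_rfl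
    rw [hinf] at hZbot
    -- then P₁ = E, contradiction
    have hZ' : Z = ⊥ := le_bot_iff.mp hZbot
    rw [hZ', sup_bot_eq] at hsup
    apply hP₁C
    rw [← hsup]
    exact inf_le_right

end LemmaB

/-- Under coprime action, if the centraliser of A in K has prime index p in K then the commutator subgroup [K, A] has order exactly p. -/
theorem result {G : Type*} [Group G] [Finite G] (A K : Subgroup G) (hAK : A ≤ Subgroup.normalizer (K : Set G))
    (hcop : (Nat.card A).Coprime (Nat.card K)) (hsolv : Group.IsSolvable A ∨ Group.IsSolvable K)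
    (p : ℕ) (hp : p.Prime) (hidx : (K ⊓ Subgroup.centralizer (A : Set G)).relIndex K = p) :
    Nat.card (⁅K, A⁆ : Subgroup G) = p := by
  haveI : Fact p.Prime := ⟨hp⟩
  obtain ⟨P, hP⟩ := Cfsg.Agent.S0023.result A K hAK hcop hsolv p
  obtain ⟨Z, hZK, hZcard, hAZ, hZA⟩ := exists_invariant_prime A K hcop p hidx P hP
  rw [commutator_eq_of_invariant_prime A K Z p hp hidx hZK hZcard hAZ hZA, hZcard]

end Cfsg.Agent.S0057
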