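import Cfsg.Statements.S0059
import Cfsg.Agent.Lib.Helper1.SZConj
import Cfsg.Agent.Lib.Helper1.Complements

set_option autoImplicit false
open Cfsg

namespace Cfsg.Agent.S0059

open Pointwise
open Cfsg.Agent.Lib.Helper1

theorem mem_conj_smul {G : Type*} [Group G] (g x : G) (H : Subgroup G) :
    x ∈ MulAut.conj g • H ↔ g⁻¹ * x * g ∈ H := by
  rw [Subgroup.mem_pointwise_smul_iff_inv_smul_mem]
  simp [MulAut.smul_def]

theorem isSolvable_subgroupOf {G : Type*} [Group G] (K S : Subgroup G) [Group.IsSolvable K] :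
    Group.IsSolvable (K.subgroupOf S) := by
  let f : K.subgroupOf S →* K :=
    { toFun := fun x => ⟨(x : S), Subgroup.mem_subgroupOf.mp x.2⟩
      map_one' := rfl
      map_mul' := fun _ _ => rfl }
  apply Group.isSolvable_of_isSolvable_injective (f := f)
  intro a b hab
  have := congrArg (fun z : K => (z : G)) hab
  exact Subtype.ext (Subtype.ext this)

/-- An element of the normal subgroup `K` normalising a complement `H` centralises it. -/
theorem centralizes_of_normalizes {G : Type*} [Group G] {K H : Subgroup G} [K.Normal]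
    (hKH : K ⊓ H = ⊥) (n : G) (hn : n ∈ K) (hnH : MulAut.conj n • H = H) :
    n ∈ Subgroup.centralizer (H : Set G) := by
  rw [Subgroup.mem_centralizer_iff]
  intro h hh
  have h1 : n * h * n⁻¹ ∈ H := by
    rw [← hnH, mem_conj_smul]
    have : n⁻¹ * (n * h * n⁻¹) * n = h := by group
    rw [this]; exact hh
  have h2 : n * h * n⁻¹ * h⁻¹ ∈ K ⊓ H := by
    refine ⟨?_, H.mul_mem h1 (H.inv_mem hh)⟩
    have : n * h * n⁻¹ * h⁻¹ = n * (h * n⁻¹ * h⁻¹) := by group
    rw [this]
    exact K.mul_mem hn (Subgroup.Normal.conj_mem inferInstance _ (K.inv_mem hn) h)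
  rw [hKH, Subgroup.mem_bot] at h2
  calc h * n = (n * h * n⁻¹ * h⁻¹)⁻¹ * (n * h) := by group
    _ = n * h := by rw [h2]; group

/-- Let a finite group act on a set on which a normal subgroup K of coprime order and index is transitive, with K or the quotient solvable. Then any complement H of K has a fixed point, and any two H-fixed points are interchanged by an element of K centralising H. -/
theorem result {G : Type*} [Group G] [Finite G] {X : Type*} [Nonempty X] [MulAction G X]
    (K H : Subgroup G) [K.Normal] (hc : Subgroup.IsComplement' K H) (hcop : (Nat.card K).Coprime K.index)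
    (hsolv : Group.IsSolvable K ∨ Group.IsSolvable (G ⧸ K)) (htrans : MulAction.IsPretransitive K X) :
    (∃ x : X, ∀ h ∈ H, h • x = x) ∧
    ∀ x y : X, (∀ h ∈ H, h • x = x) → (∀ h ∈ H, h • y = y) → ∃ k ∈ K ⊓ Subgroup.centralizer (H : Set G), k • x = y := by
  have hidx : K.index = Nat.card H := hc.symm.index_eq_card
  have hKH : K ⊓ H = ⊥ := disjoint_iff.mp hc.disjoint
  -- solvability in the form used by the conjugacy theorem
  have hsolH : Group.IsSolvable K ∨ Group.IsSolvable H := by
    rcases hsolv with h | h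
    · exact Or.inl h
    · exact Or.inr (isSolvable_of_mulEquiv (hc.symm.QuotientMulEquiv).symm)
  have hKtrans : ∀ x y : X, ∃ k ∈ K, k • x = y := by
    intro x y
    obtain ⟨k, hk⟩ := htrans.exists_smul_eq x y
    exact ⟨k, k.2, hk⟩
  constructor
  · obtain ⟨x₀⟩ := ‹Nonempty X›
    set S := MulAction.stabilizer G x₀ with hS
    have hcopS : (Nat.card (K.subgroupOf S)).Coprime (K.subgroupOf S).index := by
      apply Nat.Coprime.coprime_dvd_left (card_subgroupOf_dvd K S)
      apply Nat.Coprime.coprime_dvd_right _ hcop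
      exact Subgroup.relIndex_dvd_index_of_normal (H := K) (K := S)
    obtain ⟨H₁', hH₁'⟩ := Subgroup.exists_right_complement'_of_coprime hcopS
    set H₁ := H₁'.map S.subtype with hH₁
    have hH₁S : H₁ ≤ S := by
      rintro _ ⟨s, _, rfl⟩; exact s.2
    have hcompl : Subgroup.IsComplement' K H₁ := by
      apply Subgroup.isComplement'_of_disjoint_and_mul_eq_univ
      · rw [disjoint_iff, eq_bot_iff]
        rintro x ⟨hxK, s, hs, rfl⟩
        have : s ∈ K.subgroupOf S ⊓ H₁' := ⟨Subgroup.mem_subgroupOf.mpr hxK, hs⟩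
        rw [hH₁'.disjoint.eq_bot, Subgroup.mem_bot] at this
        rw [Subgroup.mem_bot, this]; rfl
      · rw [Set.eq_univ_iff_forall]
        intro g
        obtain ⟨k, hk, hkg⟩ := hKtrans x₀ (g • x₀)
        have hs : k⁻¹ * g ∈ S := by
          rw [hS, MulAction.mem_stabilizer_iff, mul_smul, ← hkg, inv_smul_smul]
        obtain ⟨⟨c, h₁⟩, hch⟩ := hH₁'.2 ⟨k⁻¹ * g, hs⟩
        have hch' : ((c : S) : G) * ((h₁ : S) : G) = k⁻¹ * g := congrArg Subtype.val hch
        refine Set.mem_mul.mpr ⟨k * ((c : S) : G), ?_, ((h₁ : S) : G), ?_, ?_⟩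
        · exact K.mul_mem hk (Subgroup.mem_subgroupOf.mp c.2)
        · exact ⟨(h₁ : S), h₁.2, rfl⟩
        · rw [mul_assoc, hch']; group
    have hidx₁ : K.index = Nat.card H₁ := hcompl.symm.index_eq_card
    have hsolH₁ : Group.IsSolvable K ∨ Group.IsSolvable H₁ := by
      rcases hsolv with h | h
      · exact Or.inl h
      · exact Or.inr (isSolvable_of_mulEquiv (hcompl.symm.QuotientMulEquiv).symm)
    obtain ⟨g, hg⟩ := exists_conj_eq_of_isComplement' K H₁ H hcompl hc (hidx₁ ▸ hcop) hsolH₁
    refine ⟨g • x₀, ?_⟩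
    intro h hh
    rw [← hg, mem_conj_smul] at hh
    have h2 : g⁻¹ * h * g ∈ S := hH₁S hh
    rw [hS, MulAction.mem_stabilizer_iff] at h2
    calc h • g • x₀ = g • (g⁻¹ * h * g) • x₀ := by simp [mul_smul]
      _ = g • x₀ := by rw [h2]
  · intro x y hx hy
    obtain ⟨k, hk, hkxy⟩ := hKtrans x y
    set S := MulAction.stabilizer G x with hS
    have hHS : H ≤ S := fun h hh => by
      rw [hS, MulAction.mem_stabilizer_iff]; exact hx h hh
    set H' := MulAut.conj k⁻¹ • H with hH'
    have hH'S : H' ≤ S := by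
      intro z hz
      rw [hH', mem_conj_smul, inv_inv] at hz
      rw [hS, MulAction.mem_stabilizer_iff]
      have h1 := hy _ hz
      rw [← hkxy] at h1
      have h2 : (k * z * k⁻¹) • k • x = k • z • x := by simp [mul_smul]
      rw [h2] at h1
      exact smul_left_cancel k h1
    have hc' : Subgroup.IsComplement' K H' := isComplement'_conj_smul hc k⁻¹
    have hcS : Subgroup.IsComplement' (K.subgroupOf S) (H.subgroupOf S) :=
      isComplement'_subgroupOf_of_le_right hc hHS
    have hcS' : Subgroup.IsComplement' (K.subgroupOf S) (H'.subgroupOf S) :=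
      isComplement'_subgroupOf_of_le_right hc' hH'S
    have hcopS : (Nat.card (K.subgroupOf S)).Coprime (Nat.card (H.subgroupOf S)) := by
      rw [card_subgroupOf_of_le hHS, ← hidx]
      exact Nat.Coprime.coprime_dvd_left (card_subgroupOf_dvd K S) hcop
    have hsolS : Group.IsSolvable (K.subgroupOf S) ∨ Group.IsSolvable (H.subgroupOf S) := by
      rcases hsolH with h | h
      · exact Or.inl (isSolvable_subgroupOf K S)
      · exact Or.inr (isSolvable_of_mulEquiv (Subgroup.subgroupOfEquivOfLe hHS))
    obtain ⟨s, hs⟩ := exists_conj_eq_of_isComplement' (K.subgroupOf S) (H.subgroupOf S)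
      (H'.subgroupOf S) hcS hcS' hcopS hsolS
    have hs' : MulAut.conj (s : G) • H = H' := conj_smul_eq_of_subgroupOf hHS hH'S s hs
    -- decompose s = c * h
    obtain ⟨⟨c, h⟩, hch⟩ := hc.2 (s : G)
    have hch' : (c : G) * (h : G) = s := hch
    have hcS : (c : G) ∈ S := by
      have : (c : G) = s * (h : G)⁻¹ := by rw [← hch']; group
      rw [this]
      exact S.mul_mem s.2 (S.inv_mem (hHS h.2))
    have hconjh : MulAut.conj (h : G) • H = H := by
      ext z
      rw [mem_conj_smul]
      constructor
      · intro hz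
        have : z = (h : G) * ((h : G)⁻¹ * z * h) * (h : G)⁻¹ := by group
        rw [this]
        exact H.mul_mem (H.mul_mem h.2 hz) (H.inv_mem h.2)
      · intro hz
        exact H.mul_mem (H.mul_mem (H.inv_mem h.2) hz) h.2
    have hconjc : MulAut.conj (c : G) • H = H' := by
      rw [← hs', ← hch', map_mul, mul_smul, hconjh]
    have hn : MulAut.conj (k * (c : G)) • H = H := by
      rw [map_mul, mul_smul, hconjc, hH', ← mul_smul, ← map_mul, mul_inv_cancel, map_one, one_smul]
    refine ⟨k * (c : G), ⟨K.mul_mem hk c.2, ?_⟩, ?_⟩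
    · exact centralizes_of_normalizes hKH _ (K.mul_mem hk c.2) hn
    · rw [mul_smul]
      rw [hS, MulAction.mem_stabilizer_iff] at hcS
      rw [hcS, hkxy]

end Cfsg.Agent.S0059
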