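import Cfsg.Statements.S0060
import Mathlib.Tactic.Group
import Mathlib.Data.Fintype.Lattice
-- import your own Cfsg.Agent.* helpers here

set_option autoImplicit false
open Pointwise
open Cfsg

namespace Cfsg.Agent.S0060

theorem mem_conj_smul {G : Type*} [Group G] (g x : G) (H : Subgroup G) :
    x ∈ MulAut.conj g • H ↔ g⁻¹ * x * g ∈ H := by
  rw [Subgroup.mem_pointwise_smul_iff_inv_smul_mem]
  simp [MulAut.smul_def]

theorem mem_sylow_smul {G : Type*} [Group G] {p : ℕ} (g x : G) (P : Sylow p G) :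
    x ∈ g • P ↔ g⁻¹ * x * g ∈ P := by
  show x ∈ ((g • P : Sylow p G) : Subgroup G) ↔ _
  rw [Sylow.coe_subgroup_smul, mem_conj_smul]
  rfl

/-- Key step: if `D = P ⊓ Q` has minimal order among intersections of two Sylow subgroups, and all Sylow
subgroups are abelian, then `D` lies in every Sylow subgroup. -/
theorem key {G : Type*} [Group G] [Finite G] (p : ℕ) [Fact p.Prime]
    (hcomm : ∀ P : Sylow p G, ∀ x ∈ P, ∀ y ∈ P, x * y = y * x)
    (P Q : Sylow p G)
    (hmin : ∀ P' Q' : Sylow p G, Nat.card ((P : Subgroup G) ⊓ Q : Subgroup G) ≤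
      Nat.card ((P' : Subgroup G) ⊓ Q' : Subgroup G))
    (R : Sylow p G) : (P : Subgroup G) ⊓ Q ≤ R := by
  set D : Subgroup G := (P : Subgroup G) ⊓ Q with hD
  set N : Subgroup G := Subgroup.normalizer (D : Set G) with hN
  -- P, Q ≤ N
  have hle : ∀ T : Sylow p G, D ≤ T → (T : Subgroup G) ≤ N := by
    intro T hDT x hx
    rw [hN, Subgroup.mem_normalizer_iff]
    intro d
    have : ∀ d ∈ D, x * d * x⁻¹ = d := by
      intro d hd
      rw [hcomm T x hx d (hDT hd), mul_inv_cancel_right]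
    constructor
    · intro hd
      rw [this d hd]; exact hd
    · intro hd
      have h2 := this _ hd
      -- x * (x d x⁻¹) * x⁻¹ = x d x⁻¹, so x d x⁻¹ = d... derive d ∈ D
      have h3 : x * d * x⁻¹ = d := by
        calc x * d * x⁻¹ = x⁻¹ * (x * (x * d * x⁻¹) * x⁻¹) * x := by group
          _ = x⁻¹ * (x * d * x⁻¹) * x := by rw [h2]
          _ = d := by group
      rw [← h3]; exact hd
  have hPN : (P : Subgroup G) ≤ N := hle P inf_le_left
  have hQN : (Q : Subgroup G) ≤ N := hle Q inf_le_right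
  -- (R ⊓ N).subgroupOf N is a p-subgroup of N, inside a Sylow subgroup of N
  have hpg : IsPGroup p (((R : Subgroup G) ⊓ N).subgroupOf N) := by
    have : IsPGroup p ((R : Subgroup G) ⊓ N : Subgroup G) := R.2.to_le inf_le_left
    exact this.comap_subtype
  obtain ⟨T', hT'⟩ := hpg.exists_le_sylow
  obtain ⟨n, hn⟩ := MulAction.exists_smul_eq N (P.subtype hPN) T'
  -- P₁ = n • P, Q₁ = n • Q
  have hRN : (R : Subgroup G) ⊓ N ≤ ((n : G) • P : Sylow p G) := by
    intro x hx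
    have hxN : x ∈ N := hx.2
    have h1 : (⟨x, hxN⟩ : N) ∈ T' := hT' (by rw [Subgroup.mem_subgroupOf]; exact hx)
    rw [← hn, Sylow.smul_subtype hPN n] at h1
    have h2 : (⟨x, hxN⟩ : N) ∈ (((n : G) • P : Sylow p G) : Subgroup G).subgroupOf N := by
      rw [← Sylow.coe_subtype]; exact h1
    exact Subgroup.mem_subgroupOf.mp h2
  -- n • Q ≤ N
  have hnQ : (((n : G) • Q : Sylow p G) : Subgroup G) ≤ N := Sylow.smul_le hQN n
  -- (n • P) ⊓ (n • Q) = D
  have hPQ1 : (((n : G) • P : Sylow p G) : Subgroup G) ⊓ ((n : G) • Q : Sylow p G) ≤ D := by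
    intro x hx
    have hx1 : x ∈ ((n : G) • P : Sylow p G) := hx.1
    have hx2 : x ∈ ((n : G) • Q : Sylow p G) := hx.2
    rw [mem_sylow_smul] at hx1 hx2
    have h3 : (n : G)⁻¹ * x * n ∈ D := ⟨hx1, hx2⟩
    have hn' : (n : G) ∈ Subgroup.normalizer (D : Set G) := n.2
    have h4 := (Subgroup.mem_normalizer_iff.mp hn' ((n : G)⁻¹ * x * n)).mp h3
    have h5 : (n : G) * ((n : G)⁻¹ * x * n) * (n : G)⁻¹ = x := by group
    rwa [h5] at h4
  -- R ⊓ (n • Q) ≤ D
  have h6 : (R : Subgroup G) ⊓ ((n : G) • Q : Sylow p G) ≤ D := by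
    intro x hx
    apply hPQ1
    exact ⟨hRN ⟨hx.1, hnQ hx.2⟩, hx.2⟩
  have h7 : Nat.card D ≤ Nat.card ((R : Subgroup G) ⊓ ((n : G) • Q : Sylow p G) : Subgroup G) :=
    hmin R ((n : G) • Q)
  have h8 : (R : Subgroup G) ⊓ ((n : G) • Q : Sylow p G) = D :=
    Subgroup.eq_of_le_of_card_ge h6 h7
  rw [← h8]
  exact inf_le_left

/-- Brodkey's Theorem: in a finite group with abelian Sylow p-subgroups and no nontrivial normal p-subgroup, some conjugate of a Sylow p-subgroup meets it trivially. -/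
theorem result {G : Type*} [Group G] [Finite G] (p : ℕ) [Fact p.Prime]
    (S : Sylow p G) (hS : IsMulCommutative S) (hOp : Cfsg.pCore p G = ⊥) :
    ∃ g : G, (S : Subgroup G) ⊓ MulAut.conj g • (S : Subgroup G) = ⊥ := by
  -- all Sylow p-subgroups are commutative
  have hcomm : ∀ P : Sylow p G, ∀ x ∈ P, ∀ y ∈ P, x * y = y * x := by
    intro P
    obtain ⟨g, rfl⟩ := MulAction.exists_smul_eq G S P
    intro x hx y hy
    rw [mem_sylow_smul] at hx hy
    have this : (g⁻¹ * x * g) * (g⁻¹ * y * g) = (g⁻¹ * y * g) * (g⁻¹ * x * g) :=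
      congrArg Subtype.val (mul_comm' (⟨_, hx⟩ : S) ⟨_, hy⟩)
    calc x * y = g * ((g⁻¹ * x * g) * (g⁻¹ * y * g)) * g⁻¹ := by group
      _ = g * ((g⁻¹ * y * g) * (g⁻¹ * x * g)) * g⁻¹ := by rw [this]
      _ = y * x := by group
  -- choose a pair with minimal intersection
  obtain ⟨⟨P, Q⟩, hmin⟩ := Finite.exists_min
    (fun PQ : Sylow p G × Sylow p G => Nat.card ((PQ.1 : Subgroup G) ⊓ PQ.2 : Subgroup G))
  have hmin' : ∀ P' Q' : Sylow p G, Nat.card ((P : Subgroup G) ⊓ Q : Subgroup G) ≤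
      Nat.card ((P' : Subgroup G) ⊓ Q' : Subgroup G) := fun P' Q' => hmin (P', Q')
  -- D lies in every Sylow subgroup, hence in the normal core of S
  have hD : (P : Subgroup G) ⊓ Q ≤ (S : Subgroup G).normalCore := by
    intro d hd b
    have this : d ∈ (b⁻¹ • S : Sylow p G) := key p hcomm P Q hmin' (b⁻¹ • S) hd
    rw [mem_sylow_smul, inv_inv] at this
    exact this
  have hcore : (S : Subgroup G).normalCore ≤ Cfsg.pCore p G := by
    apply le_sSup
    exact ⟨inferInstance, S.2.to_le (Subgroup.normalCore_le _)⟩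
  have hbot : (P : Subgroup G) ⊓ Q = ⊥ := by
    rw [eq_bot_iff, ← hOp]
    exact hD.trans hcore
  obtain ⟨a, rfl⟩ := MulAction.exists_smul_eq G S P
  obtain ⟨b, rfl⟩ := MulAction.exists_smul_eq G S Q
  refine ⟨a⁻¹ * b, ?_⟩
  rw [eq_bot_iff]
  intro x hx
  rw [Subgroup.mem_bot]
  have hx1 : x ∈ S := hx.1
  have hx2 : x ∈ MulAut.conj (a⁻¹ * b) • (S : Subgroup G) := hx.2
  rw [mem_conj_smul] at hx2
  have h1 : a * x * a⁻¹ ∈ ((a • S : Sylow p G) : Subgroup G) ⊓ (b • S : Sylow p G) := by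
    refine ⟨?_, ?_⟩
    · show a * x * a⁻¹ ∈ (a • S : Sylow p G)
      rw [mem_sylow_smul]
      have : a⁻¹ * (a * x * a⁻¹) * a = x := by group
      rw [this]; exact hx1
    · show a * x * a⁻¹ ∈ (b • S : Sylow p G)
      rw [mem_sylow_smul]
      have : b⁻¹ * (a * x * a⁻¹) * b = (a⁻¹ * b)⁻¹ * x * (a⁻¹ * b) := by group
      rw [this]; exact hx2
  rw [hbot, Subgroup.mem_bot] at h1
  have : x = a⁻¹ * (a * x * a⁻¹) * a := by group
  rw [this, h1]; group

end Cfsg.Agent.S0060
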