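import Cfsg.Statements.S0062
import Mathlib.Data.Finite.Perm
import Mathlib.GroupTheory.Nilpotent
import Mathlib.GroupTheory.PGroup

set_option autoImplicit false
open Cfsg

namespace Cfsg.Agent.S0062


/-- A finite simple group with more than one Sylow `r`-subgroup embeds in the symmetric group on
its Sylow `r`-subgroups. -/
theorem card_dvd_factorial_of_simple {G : Type*} [Group G] [Finite G] [IsSimpleGroup G] {r : ℕ}
    [Fact r.Prime] (h : Nat.card (Sylow r G) ≠ 1) : Nat.card G ∣ (Nat.card (Sylow r G)).factorial := by
  let f : G →* Equiv.Perm (Sylow r G) := MulAction.toPermHom G (Sylow r G)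
  have hker : f.ker = ⊥ := by
    rcases (MonoidHom.normal_ker f).eq_bot_or_eq_top with h0 | h1
    · exact h0
    · exfalso
      apply h
      have hsub : Subsingleton (Sylow r G) := by
        constructor
        intro P Q
        obtain ⟨g, rfl⟩ := MulAction.exists_smul_eq G P Q
        have hg : g ∈ f.ker := by rw [h1]; exact Subgroup.mem_top g
        have : f g = 1 := MonoidHom.mem_ker.mp hg
        have h2 : f g P = P := by rw [this]; rfl
        exact h2.symm
      exact Nat.card_unique
  have hinj : Function.Injective f := (MonoidHom.ker_eq_bot_iff f).mp hker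
  have := Subgroup.card_dvd_of_injective f hinj
  rwa [Nat.card_perm] at this

/-- In a simple group whose order is divisible by two distinct primes, no Sylow subgroup for
either prime is unique. -/
theorem card_sylow_ne_one {G : Type*} [Group G] [Finite G] [IsSimpleGroup G] {r s : ℕ}
    [Fact r.Prime] (hs : s.Prime) (hrs : r ≠ s) (hr : r ∣ Nat.card G) (hsd : s ∣ Nat.card G) :
    Nat.card (Sylow r G) ≠ 1 := by
  have hrp : r.Prime := Fact.out
  intro h1
  obtain ⟨P⟩ : Nonempty (Sylow r G) := inferInstance
  have hsub : Subsingleton (Sylow r G) := (Nat.card_eq_one_iff_unique.mp h1).1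
  have hn : (P : Subgroup G).Normal := P.normal_of_subsingleton
  rcases hn.eq_bot_or_eq_top with h0 | htop
  · exact P.ne_bot_of_dvd_card hr h0
  · have hPG : IsPGroup r G := by
      have := P.isPGroup'
      rw [htop] at this
      exact IsPGroup.of_equiv this Subgroup.topEquiv
    obtain ⟨k, hk⟩ := IsPGroup.iff_card.mp hPG
    rw [hk] at hsd
    exact hrs ((Nat.prime_dvd_prime_iff_eq hs hrp).mp (hs.dvd_of_dvd_pow hsd)).symm

/-- The key arithmetic: no simple group has order `r^a * s^b` with `s < r` primes and
`1 ≤ a, b ≤ 2`. -/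
theorem simple_false {G : Type*} [Group G] [Finite G] [IsSimpleGroup G] (r s : ℕ) (hr : r.Prime)
    (hs : s.Prime) (hsr : s < r) (a b : ℕ) (ha : 1 ≤ a) (ha2 : a ≤ 2) (hb : 1 ≤ b) (hb2 : b ≤ 2)
    (hcard : Nat.card G = r ^ a * s ^ b) : False := by
  have hfr : Fact r.Prime := ⟨hr⟩
  have hfs : Fact s.Prime := ⟨hs⟩
  have hrs : r ≠ s := hsr.ne'
  have hrG : r ∣ Nat.card G := by rw [hcard]; exact Dvd.dvd.mul_right (dvd_pow_self r (by omega)) _
  have hsG : s ∣ Nat.card G := by rw [hcard]; exact Dvd.dvd.mul_left (dvd_pow_self s (by omega)) _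
  have hnr1 : Nat.card (Sylow r G) ≠ 1 := card_sylow_ne_one hs hrs hrG hsG
  have hns1 : Nat.card (Sylow s G) ≠ 1 := card_sylow_ne_one hr hrs.symm hsG hrG
  obtain ⟨P⟩ : Nonempty (Sylow r G) := inferInstance
  -- the index of `P` divides `s ^ b`
  have hidx : (P : Subgroup G).index ∣ s ^ b := by
    have h1 : (P : Subgroup G).index ∣ r ^ a * s ^ b := hcard ▸ Subgroup.index_dvd_card _
    have h2 : Nat.Coprime (P : Subgroup G).index (r ^ a) := by
      apply Nat.Coprime.pow_right
      rw [Nat.coprime_comm, hr.coprime_iff_not_dvd]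
      exact P.not_dvd_index
    exact h2.dvd_of_dvd_mul_left h1
  have hnr : Nat.card (Sylow r G) ∣ s ^ b := (P.card_dvd_index).trans hidx
  obtain ⟨c, hcb, hc⟩ := (Nat.dvd_prime_pow hs).mp hnr
  have hmod : Nat.card (Sylow r G) ≡ 1 [MOD r] := card_sylow_modEq_one r G
  rw [hc] at hmod hnr1
  have hc012 : c = 0 ∨ c = 1 ∨ c = 2 := by omega
  rcases hc012 with rfl | rfl | rfl
  · exact hnr1 (pow_zero s)
  · -- s ≡ 1 mod r with 1 < s < r
    rw [pow_one] at hmod
    have h1 : s % r = 1 % r := hmod
    rw [Nat.mod_eq_of_lt hsr, Nat.mod_eq_of_lt hr.one_lt] at h1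
    exact hs.one_lt.ne' h1
  · -- r ∣ s^2 - 1
    have h1 : r ∣ s ^ 2 - 1 := (Nat.modEq_iff_dvd' (Nat.one_le_pow _ _ hs.pos)).mp hmod.symm
    have h2 : s ^ 2 - 1 = (s - 1) * (s + 1) := by
      have : 1 ≤ s := hs.pos
      zify [this, Nat.one_le_pow 2 s hs.pos]
      ring
    rw [h2] at h1
    rcases (Nat.Prime.dvd_mul hr).mp h1 with h3 | h3
    · have : r ≤ s - 1 := Nat.le_of_dvd (by have := hs.two_le; omega) h3
      omega
    · have hle : r ≤ s + 1 := Nat.le_of_dvd (by omega) h3
      have hrs1 : r = s + 1 := by omega
      -- s and s + 1 both prime: s = 2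
      have hs2 : s = 2 := by
        rcases hs.eq_two_or_odd with h | h
        · exact h
        · exfalso
          have heven : 2 ∣ r := by omega
          have : r = 2 := ((Nat.prime_dvd_prime_iff_eq Nat.prime_two hr).mp heven).symm
          have := hs.two_le
          omega
      subst hs2
      have hr3 : r = 3 := hrs1
      subst hr3
      have hb2' : b = 2 := by omega
      subst hb2'
      have hn3 : Nat.card (Sylow 3 G) = 4 := by rw [hc]; norm_num
      have hdvd := card_dvd_factorial_of_simple (G := G) (r := 3) (by rw [hn3]; norm_num)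
      rw [hn3, hcard] at hdvd
      have ha12 : a = 1 ∨ a = 2 := by omega
      rcases ha12 with rfl | rfl
      · -- order 12: look at Sylow 2-subgroups
        obtain ⟨Q⟩ : Nonempty (Sylow 2 G) := inferInstance
        have hidxQ : (Q : Subgroup G).index ∣ 3 := by
          have h1 : (Q : Subgroup G).index ∣ 3 ^ 1 * 2 ^ 2 := hcard ▸ Subgroup.index_dvd_card _
          have h2 : Nat.Coprime (Q : Subgroup G).index (2 ^ 2) := by
            apply Nat.Coprime.pow_right
            rw [Nat.coprime_comm, Nat.prime_two.coprime_iff_not_dvd]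
            exact Q.not_dvd_index
          have := h2.dvd_of_dvd_mul_right h1
          simpa using this
        have hn2 : Nat.card (Sylow 2 G) ∣ 3 := (Q.card_dvd_index).trans hidxQ
        have hn2' : Nat.card (Sylow 2 G) = 3 := by
          rcases (Nat.dvd_prime Nat.prime_three).mp hn2 with h | h
          · exact absurd h hns1
          · exact h
        have hdvd2 := card_dvd_factorial_of_simple (G := G) (r := 2) (by rw [hn2']; norm_num)
        rw [hn2', hcard] at hdvd2
        norm_num [Nat.factorial] at hdvd2
      · norm_num [Nat.factorial] at hdvd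

universe u

/-- Groups whose order divides `p^2 q^2` (for distinct primes `p`, `q`) are solvable. -/
theorem aux (p q : ℕ) (hp : p.Prime) (hq : q.Prime) (hpq : p ≠ q) :
    ∀ n : ℕ, n ∣ p ^ 2 * q ^ 2 → ∀ (G : Type u) [Group G] [Finite G], Nat.card G = n →
      Group.IsSolvable G := by
  intro n
  induction n using Nat.strong_induction_on with
  | _ n ih =>
    intro hn G _ _ hG
    by_cases hex : ∃ N : Subgroup G, N.Normal ∧ N ≠ ⊥ ∧ N ≠ ⊤
    · obtain ⟨N, hN, hbot, htop⟩ := hex
      have hNcard : Nat.card N ∣ n := hG ▸ Subgroup.card_subgroup_dvd_card N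
      have hQcard : Nat.card (G ⧸ N) ∣ n := by
        rw [← Subgroup.index_eq_card, ← hG]; exact Subgroup.index_dvd_card N
      have hnpos : 0 < n := hG ▸ Nat.card_pos
      have hNlt : Nat.card N < n := by
        rw [← hG]
        by_contra hge
        exact htop (Subgroup.eq_top_of_le_card N (not_lt.mp hge))
      have hQlt : Nat.card (G ⧸ N) < n := by
        rw [← Subgroup.index_eq_card]
        have h1 := Subgroup.card_mul_index N
        have h2 : 1 < Nat.card N := by
          rw [Subgroup.one_lt_card_iff_ne_bot]; exact hbot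
        have h3 : 0 < N.index := Nat.pos_of_ne_zero Subgroup.index_ne_zero_of_finite
        rw [hG] at h1
        nlinarith
      have hsolN : Group.IsSolvable N := ih _ hNlt (hNcard.trans hn) N rfl
      have hsolQ : Group.IsSolvable (G ⧸ N) := ih _ hQlt (hQcard.trans hn) (G ⧸ N) rfl
      exact Group.isSolvable_of_ker_le_range N.subtype (QuotientGroup.mk' N)
        (by rw [QuotientGroup.ker_mk', Subgroup.range_subtype])
    · -- `G` is trivial or simple
      rcases subsingleton_or_nontrivial G with hsub | hnt
      · infer_instance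
      · have hsimple : IsSimpleGroup G := by
          refine ⟨fun N hN => ?_⟩
          by_contra hcon
          rw [not_or] at hcon
          exact hex ⟨N, hN, hcon.1, hcon.2⟩
        -- write n = p^a q^b
        obtain ⟨d1, d2, hd1, hd2, hd⟩ := (Nat.dvd_mul).mp hn
        obtain ⟨a, ha2, rfl⟩ := (Nat.dvd_prime_pow hp).mp hd1
        obtain ⟨b, hb2, rfl⟩ := (Nat.dvd_prime_pow hq).mp hd2
        rcases Nat.eq_zero_or_pos a with rfl | ha
        · -- q-group
          have hfq : Fact q.Prime := ⟨hq⟩
          have hPG : IsPGroup q G := by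
            apply IsPGroup.of_card (n := b)
            rw [hG, ← hd]; simp
          have hnil := IsPGroup.isNilpotent hPG
          infer_instance
        rcases Nat.eq_zero_or_pos b with rfl | hb
        · have hfp : Fact p.Prime := ⟨hp⟩
          have hPG : IsPGroup p G := by
            apply IsPGroup.of_card (n := a)
            rw [hG, ← hd]; simp
          have hnil := IsPGroup.isNilpotent hPG
          infer_instance
        exfalso
        rcases lt_or_gt_of_ne hpq with hlt | hgt
        · exact simple_false (G := G) q p hq hp hlt b a hb hb2 ha ha2 (by rw [hG, ← hd, mul_comm])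
        · exact simple_false (G := G) p q hp hq hgt a b ha ha2 hb hb2 (by rw [hG, ← hd])

/-- A finite group of order p^2 * q^2 with p and q prime is solvable. -/
theorem result {G : Type*} [Group G] [Finite G] (p q : ℕ) (hp : p.Prime) (hq : q.Prime)
    (hG : Nat.card G = p ^ 2 * q ^ 2) : Group.IsSolvable G := by
  by_cases hpq : p = q
  · subst hpq
    have hfp : Fact p.Prime := ⟨hp⟩
    have hPG : IsPGroup p G := by
      apply IsPGroup.of_card (n := 4)
      rw [hG]; ring
    have hnil := IsPGroup.isNilpotent hPG
    infer_instance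
  · exact aux p q hp hq hpq _ (dvd_refl _) G hG

end Cfsg.Agent.S0062
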