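import Cfsg.Statements.S0067
import Cfsg.Agent.S0199
import Cfsg.Agent.Lib.Helper1.Fitting

set_option autoImplicit false
open Pointwise
open Cfsg

namespace Cfsg.Agent.S0067

/-- Every subgroup of a finite nilpotent group is subnormal. -/
theorem isSubnormal_of_isNilpotent {N : Type*} [Group N] [Finite N] [Group.IsNilpotent N]
    (H : Subgroup N) : H.IsSubnormal := by
  induction' hn : H.index using Nat.strong_induction_on with n ih generalizing H
  by_cases hH : H = ⊤
  · subst hH; exact Subgroup.IsSubnormal.top
  · have hlt : H < Subgroup.normalizer (H : Set N) :=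
      Group.normalizerCondition_of_isNilpotent H (lt_top_iff_ne_top.mpr hH)
    have hidx : (Subgroup.normalizer (H : Set N)).index < n := by
      rw [← hn]; exact Subgroup.index_strictAnti hlt
    have hsn : (Subgroup.normalizer (H : Set N)).IsSubnormal := ih _ hidx _ rfl
    exact Subgroup.IsSubnormal.step H _ hlt.le hsn Subgroup.normal_in_normalizer

/-- Two `p`-subgroups of a finite group that lie in a common nilpotent subgroup generate a `p`-group. -/
theorem isPGroup_sup_of_le_isNilpotent {G : Type*} [Group G] [Finite G] {p : ℕ} [Fact p.Prime]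
    (M P Q : Subgroup G) (hM : Group.IsNilpotent M) (hP : IsPGroup p P) (hQ : IsPGroup p Q)
    (hPM : P ≤ M) (hQM : Q ≤ M) : IsPGroup p ↥(P ⊔ Q) := by
  have q := (Group.isNilpotent_of_finite_tfae (G := M)).out 0 3
  have hnorm := q.mp hM
  let S : Sylow p M := Classical.arbitrary _
  have hS : (S : Subgroup M).Normal := hnorm p inferInstance S
  have key : ∀ R : Subgroup G, IsPGroup p R → R ≤ M → R ≤ (S : Subgroup M).map M.subtype := by
    intro R hR hRM x hx
    have hR' : IsPGroup p (R.subgroupOf M) := hR.comap_subtype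
    obtain ⟨S', hS'⟩ := hR'.exists_le_sylow
    have huniq := Sylow.unique_of_normal S hS
    have hSS' : S' = S := Subsingleton.elim _ _
    rw [hSS'] at hS'
    exact ⟨⟨x, hRM hx⟩, hS' (Subgroup.mem_subgroupOf.mpr hx), rfl⟩
  have hle : P ⊔ Q ≤ (S : Subgroup M).map M.subtype := sup_le (key P hP hPM) (key Q hQ hQM)
  exact (S.isPGroup'.map M.subtype).to_le hle

/-- If the join of a subgroup A with each of its conjugates is nilpotent, then A is subnormal in the finite group and contained in the Fitting subgroup. -/
theorem result {G : Type*} [Group G] [Finite G] (A : Subgroup G)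
    (h : ∀ g : G, Group.IsNilpotent (A ⊔ MulAut.conj g • A : Subgroup G)) : A.IsSubnormal ∧ A ≤ Cfsg.fittingSubgroup G := by
  have hle : A ≤ fittingSubgroup G := by
    let P : ∀ p : Nat.Primes, Sylow (p : ℕ) A := fun p => Classical.arbitrary _
    have htop := Cfsg.Agent.Lib.Helper1.iSup_sylow_eq_top P
    have hA : A = (⨆ p : Nat.Primes, (P p : Subgroup A)).map A.subtype := by
      rw [htop, ← MonoidHom.range_eq_map, Subgroup.range_subtype]
    rw [hA, Subgroup.map_iSup]
    refine iSup_le fun p => ?_
    have hp : Fact (p : ℕ).Prime := ⟨p.2⟩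
    have hXA : (P p : Subgroup A).map A.subtype ≤ A := Subgroup.map_subtype_le _
    have hXp : IsPGroup p ((P p : Subgroup A).map A.subtype) := (P p).isPGroup'.map _
    obtain ⟨N, hN, hNp, hXN⟩ := Cfsg.Agent.S0199.result ((P p : Subgroup A).map A.subtype) hXp (fun g => by
      apply isPGroup_sup_of_le_isNilpotent (A ⊔ MulAut.conj g • A) _ _ (h g) hXp (hXp.map _)
      · exact hXA.trans le_sup_left
      · refine le_trans ?_ le_sup_right
        rintro _ ⟨x, hx, rfl⟩
        exact ⟨x, hXA hx, rfl⟩)
    exact hXN.trans (Cfsg.Agent.Lib.Helper1.le_fittingSubgroup hN hNp.isNilpotent)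
  refine ⟨?_, hle⟩
  have hnil : Group.IsNilpotent (fittingSubgroup G) := Cfsg.Agent.Lib.Helper1.fittingSubgroup_isNilpotent
  have hsn : (A.subgroupOf (fittingSubgroup G)).IsSubnormal := isSubnormal_of_isNilpotent _
  exact Subgroup.IsSubnormal.trans hle hsn (Cfsg.Agent.Lib.Helper1.fittingSubgroup_normal).isSubnormal

end Cfsg.Agent.S0067
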