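import Cfsg.Statements.S0068
import Mathlib.Tactic.Group
import Mathlib.GroupTheory.Perm.Cycle.Type

set_option autoImplicit false
open Cfsg

namespace Cfsg.Agent.S0068


section
variable {G : Type*} [Group G] [Finite G] (K H : Subgroup G) [hKn : K.Normal]

/-- An involution acting without nontrivial fixed points on `K` inverts `K`. -/
theorem inverts_of_fpf (t : G) (ht : t * t = 1)
    (hfix : K ⊓ Subgroup.centralizer {t} = ⊥) : ∀ k ∈ K, t * k * t⁻¹ = k⁻¹ := by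
  have htinv : t⁻¹ = t := inv_eq_of_mul_eq_one_right ht
  let ψ : K → K := fun k => ⟨(k : G)⁻¹ * (t * k * t⁻¹), K.mul_mem (K.inv_mem k.2) (hKn.conj_mem _ k.2 t)⟩
  have hinj : Function.Injective ψ := by
    intro k l hkl
    have h1 : (k : G)⁻¹ * (t * k * t⁻¹) = (l : G)⁻¹ * (t * l * t⁻¹) := congrArg Subtype.val hkl
    have h2 : (l : G) * (k : G)⁻¹ ∈ K ⊓ Subgroup.centralizer {t} := by
      refine Subgroup.mem_inf.mpr ⟨K.mul_mem l.2 (K.inv_mem k.2), ?_⟩
      rw [Subgroup.mem_centralizer_singleton_iff]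
      calc (l : G) * (k : G)⁻¹ * t = (l : G) * ((k : G)⁻¹ * (t * k * t⁻¹)) * (t * (k : G)⁻¹) := by group
        _ = (l : G) * ((l : G)⁻¹ * (t * l * t⁻¹)) * (t * (k : G)⁻¹) := by rw [h1]
        _ = t * ((l : G) * (k : G)⁻¹) := by group
    rw [hfix, Subgroup.mem_bot] at h2
    apply Subtype.ext
    exact (mul_inv_eq_one.mp h2).symm
  have hsurj : Function.Surjective ψ := Finite.injective_iff_surjective.mp hinj
  intro x hx
  obtain ⟨k, hk⟩ := hsurj ⟨x, hx⟩
  have hx' : x = (k : G)⁻¹ * (t * k * t⁻¹) := (congrArg Subtype.val hk).symm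
  rw [hx']
  calc t * ((k : G)⁻¹ * (t * k * t⁻¹)) * t⁻¹ = t * (k : G)⁻¹ * t * k * (t * t)⁻¹ := by group
    _ = t * (k : G)⁻¹ * t * k := by rw [ht, inv_one, mul_one]
    _ = t * (k : G)⁻¹ * t⁻¹ * k := by rw [htinv]
    _ = ((k : G)⁻¹ * (t * k * t⁻¹))⁻¹ := by group

end

/-- Frobenius complements of even order: if H complements a nontrivial normal subgroup K, each nonidentity element of H has trivial centraliser in K, and H has even order, then H contains a unique involution s, K is abelian, and s inverts every element of K. -/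
theorem result {G : Type*} [Group G] [Finite G] (K H : Subgroup G) [K.Normal]
    (hc : Subgroup.IsComplement' K H) (hK : K ≠ ⊥) (hfpf : ∀ h ∈ H, h ≠ 1 → K ⊓ Subgroup.centralizer {h} = ⊥)
    (heven : 2 ∣ Nat.card H) :
    (∃ s ∈ H, orderOf s = 2 ∧ (∀ t ∈ H, orderOf t = 2 → t = s) ∧ ∀ k ∈ K, s * k * s⁻¹ = k⁻¹) ∧ IsMulCommutative K := by
  have h2 : Nat.Prime 2 := Nat.prime_two
  have hf2 : Fact (Nat.Prime 2) := ⟨h2⟩
  obtain ⟨s0, hs0⟩ := exists_prime_orderOf_dvd_card' (G := H) 2 heven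
  have hs_ord : orderOf (s0 : G) = 2 := by rw [Subgroup.orderOf_coe]; exact hs0
  have sq_of_ord : ∀ t : G, orderOf t = 2 → t * t = 1 := by
    intro t ht
    have := pow_orderOf_eq_one t
    rwa [ht, sq] at this
  have ne_one_of_ord : ∀ t : G, orderOf t = 2 → t ≠ 1 := by
    rintro t ht rfl
    rw [orderOf_one] at ht
    omega
  have hinv : ∀ t ∈ H, orderOf t = 2 → ∀ k ∈ K, t * k * t⁻¹ = k⁻¹ := by
    intro t htH ht
    exact inverts_of_fpf K t (sq_of_ord t ht) (hfpf t htH (ne_one_of_ord t ht))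
  refine ⟨⟨s0, s0.2, hs_ord, ?_, hinv s0 s0.2 hs_ord⟩, ?_⟩
  · intro t htH ht
    by_contra hne
    -- t * s0⁻¹ centralizes K
    have hmem : t * (s0 : G)⁻¹ ∈ H := H.mul_mem htH (H.inv_mem s0.2)
    have hne1 : t * (s0 : G)⁻¹ ≠ 1 := by
      intro h1
      exact hne (mul_inv_eq_one.mp h1)
    have hbot := hfpf _ hmem hne1
    apply hK
    rw [eq_bot_iff, ← hbot]
    intro k hk
    refine Subgroup.mem_inf.mpr ⟨hk, ?_⟩
    rw [Subgroup.mem_centralizer_singleton_iff]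
    have e1 : (s0 : G)⁻¹ * k * (s0 : G) = k⁻¹ := by
      have h3 := hinv s0 s0.2 hs_ord k⁻¹ (K.inv_mem hk)
      rw [inv_inv] at h3
      calc (s0 : G)⁻¹ * k * (s0 : G) = (s0 : G)⁻¹ * ((s0 : G) * k⁻¹ * (s0 : G)⁻¹) * (s0 : G) := by rw [h3]
        _ = k⁻¹ := by group
    have e2 : t * k⁻¹ * t⁻¹ = k := by
      have h3 := hinv t htH ht k⁻¹ (K.inv_mem hk)
      rwa [inv_inv] at h3
    calc k * (t * (s0 : G)⁻¹) = (t * k⁻¹ * t⁻¹) * (t * (s0 : G)⁻¹) := by rw [e2]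
      _ = t * k⁻¹ * (s0 : G)⁻¹ := by group
      _ = t * ((s0 : G)⁻¹ * k * (s0 : G)) * (s0 : G)⁻¹ := by rw [e1]
      _ = t * (s0 : G)⁻¹ * k := by group
  · refine ⟨⟨fun a b => ?_⟩⟩
    apply Subtype.ext
    have ha := hinv s0 s0.2 hs_ord a a.2
    have hb := hinv s0 s0.2 hs_ord b b.2
    have hab := hinv s0 s0.2 hs_ord (a * b) (K.mul_mem a.2 b.2)
    have h3 : (s0 : G) * ((a : G) * b) * (s0 : G)⁻¹ =
        ((s0 : G) * a * (s0 : G)⁻¹) * ((s0 : G) * b * (s0 : G)⁻¹) := by group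
    rw [h3, ha, hb] at hab
    have h5 := congrArg (fun x => x⁻¹) hab
    simp only [mul_inv_rev, inv_inv] at h5
    rw [Subgroup.coe_mul, Subgroup.coe_mul]
    exact h5.symm

end Cfsg.Agent.S0068
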