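import Cfsg.Statements.S0069
import Cfsg.Agent.S0016
import Cfsg.Agent.Lib.Helper35.FrobSylow
import Cfsg.Agent.S0055
import Mathlib

set_option autoImplicit false
open Cfsg

namespace Cfsg.Agent.S0069

/-- In a finite cyclic group, an element killed by `p` lies in the subgroup generated by any
element of order `p`. -/
theorem mem_zpowers_of_cyclic {P : Type*} [Group P] [Finite P] [IsCyclic P] {p : ℕ} (hp : p.Prime)
    (x y : P) (hy : orderOf y = p) (hx : x ^ p = 1) : x ∈ Subgroup.zpowers y := by
  classical
  let _ := Fintype.ofFinite P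
  have h1 : (Finset.univ.filter (fun a : P => a ^ p = 1)).card ≤ p :=
    IsCyclic.card_pow_eq_one_le hp.pos
  have h2 : ((Subgroup.zpowers y : Set P).toFinset) ⊆ Finset.univ.filter (fun a : P => a ^ p = 1) := by
    intro t ht
    simp only [Set.mem_toFinset, SetLike.mem_coe] at ht
    obtain ⟨k, rfl⟩ := ht
    simp only [Finset.mem_filter, Finset.mem_univ, true_and]
    rw [← zpow_natCast, ← zpow_mul, mul_comm, zpow_mul, zpow_natCast, ← hy, pow_orderOf_eq_one,
      one_zpow]
  have h3 : ((Subgroup.zpowers y : Set P).toFinset).card = p := by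
    rw [Set.toFinset_card, ← Nat.card_eq_fintype_card]
    exact (Nat.card_zpowers y).trans hy
  have h4 := Finset.eq_of_subset_of_card_le h2 (by rw [h3]; exact h1)
  have : x ∈ Finset.univ.filter (fun a : P => a ^ p = 1) := by simp [hx]
  rw [← h4] at this
  simpa using this

/-- A fixed-point-free involution inverts every element. -/
theorem inverts_of_fpf_involution {G : Type*} [Group G] [Finite G] (K : Subgroup G) [hKn : K.Normal]
    (t : G) (ht : t * t = 1) (hfpf : K ⊓ Subgroup.centralizer {t} = ⊥) :
    ∀ k ∈ K, t * k * t⁻¹ = k⁻¹ := by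
  have htinv : t⁻¹ = t := inv_eq_of_mul_eq_one_left ht
  let f : K → K := fun k => ⟨(k : G)⁻¹ * (t * k * t⁻¹), mul_mem (inv_mem k.2) (hKn.conj_mem _ k.2 t)⟩
  have hinj : Function.Injective f := by
    intro k l hkl
    have h1 : (k : G)⁻¹ * (t * k * t⁻¹) = (l : G)⁻¹ * (t * l * t⁻¹) := congrArg Subtype.val hkl
    -- (l k⁻¹) commutes with t
    have h2 : ((l : G) * (k : G)⁻¹) * t = t * ((l : G) * (k : G)⁻¹) := by
      have h3 : (k : G)⁻¹ * t * k = (l : G)⁻¹ * t * l := by
        have := congrArg (fun z => z * t) h1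
        simpa [mul_assoc] using this
      calc ((l : G) * (k : G)⁻¹) * t = l * ((k : G)⁻¹ * t * k) * (k : G)⁻¹ := by group
        _ = l * ((l : G)⁻¹ * t * l) * (k : G)⁻¹ := by rw [h3]
        _ = t * ((l : G) * (k : G)⁻¹) := by group
    have h4 : (l : G) * (k : G)⁻¹ ∈ K ⊓ Subgroup.centralizer {t} := by
      refine Subgroup.mem_inf.mpr ⟨mul_mem l.2 (inv_mem k.2), ?_⟩
      rw [Subgroup.mem_centralizer_iff]
      intro z hz
      rw [Set.mem_singleton_iff] at hz
      subst hz
      exact h2.symm
    rw [hfpf, Subgroup.mem_bot] at h4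
    apply Subtype.ext
    exact (mul_inv_eq_one.mp h4).symm
  have hsurj : Function.Surjective f := Finite.injective_iff_surjective.mp hinj
  intro k hk
  obtain ⟨l, hl⟩ := hsurj ⟨k, hk⟩
  have hl' : (l : G)⁻¹ * (t * l * t⁻¹) = k := congrArg Subtype.val hl
  rw [← hl']
  have e1 : t * ((l : G)⁻¹ * (t * l * t⁻¹)) * t⁻¹ = t * (l : G)⁻¹ * t * l * (t * t)⁻¹ := by
    group
  have e2 : ((l : G)⁻¹ * (t * l * t⁻¹))⁻¹ = t * (l : G)⁻¹ * t⁻¹ * l := by group
  rw [e1, e2, ht, inv_one, mul_one, htinv]

/-- A nontrivial finite group with all Sylow subgroups cyclic, in which every subgroup whose order is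
a product of two primes is cyclic, has nontrivial centre. -/
theorem center_ne_bot_of_zgroup {H : Type*} [Group H] [Finite H] [IsZGroup H] [Nontrivial H]
    (hP : ∀ B : Subgroup H, (∃ r s : ℕ, r.Prime ∧ s.Prime ∧ Nat.card B = r * s) → IsCyclic B) :
    Subgroup.center H ≠ ⊥ := by
  have hDcyc : IsCyclic (commutator H) := IsZGroup.isCyclic_commutator H
  have hDlt : commutator H < ⊤ := IsZGroup.commutator_lt H
  have hcop : (Nat.card (commutator H)).Coprime (commutator H).index :=
    IsZGroup.coprime_commutator_index H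
  have hDn : (commutator H).Normal := inferInstance
  -- generator `c` of the abelianization
  obtain ⟨g, hg⟩ := IsCyclic.exists_generator (α := Abelianization H)
  obtain ⟨c, rfl⟩ := QuotientGroup.mk_surjective g
  have hdecomp : ∀ h : H, ∃ d ∈ commutator H, ∃ k : ℤ, h = d * c ^ k := by
    intro h
    obtain ⟨k, hk⟩ := hg (QuotientGroup.mk h)
    refine ⟨h * (c ^ k)⁻¹, ?_, k, by group⟩
    have hk' : (QuotientGroup.mk (c ^ k) : Abelianization H) = QuotientGroup.mk h := by
      rw [← hk]; rfl
    have := QuotientGroup.eq.mp hk'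
    -- this : (c ^ k)⁻¹ * h ∈ commutator H
    have h2 := hDn.conj_mem _ this (c ^ k)
    have e : c ^ k * ((c ^ k)⁻¹ * h) * (c ^ k)⁻¹ = h * (c ^ k)⁻¹ := by group
    rw [e] at h2
    exact h2
  have hidx : (commutator H).index ≠ 1 := fun h => hDlt.ne (Subgroup.index_eq_one.mp h)
  obtain ⟨r, hr, hrdvd⟩ := Nat.exists_prime_and_dvd hidx
  have h1 : orderOf (QuotientGroup.mk c : Abelianization H) = (commutator H).index := by
    exact (orderOf_eq_card_of_forall_mem_zpowers hg).trans
      (Subgroup.index_eq_card (commutator H)).symm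
  have h2 : r ∣ orderOf c := by
    have h3 : orderOf (QuotientGroup.mk c : Abelianization H) ∣ orderOf c :=
      orderOf_map_dvd (QuotientGroup.mk' (commutator H)) c
    exact hrdvd.trans (h1 ▸ h3)
  set b := c ^ (orderOf c / r) with hbdef
  have hb : orderOf b = r := orderOf_pow_orderOf_div (orderOf_pos c).ne' h2
  have hb1 : b ≠ 1 := by
    intro h
    rw [h, orderOf_one] at hb
    exact hr.one_lt.ne hb
  have hrD : ¬ r ∣ Nat.card (commutator H) := by
    intro h
    have := Nat.Coprime.eq_one_of_dvd (Nat.Coprime.coprime_dvd_left h hcop) hrdvd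
    exact hr.one_lt.ne' this
  -- `b` centralizes the commutator subgroup
  have hbD : ∀ d ∈ commutator H, b * d = d * b := by
    have hBcard : Nat.card (Subgroup.zpowers b) = r := by rw [Nat.card_zpowers, hb]
    have hBN : Subgroup.zpowers b ≤ Subgroup.normalizer ((commutator H : Subgroup H) : Set H) := by
      rw [Subgroup.normalizer_eq_top]; exact le_top
    have hcopBD : (Nat.card (Subgroup.zpowers b)).Coprime (Nat.card (commutator H)) := by
      rw [hBcard]; exact (Nat.Prime.coprime_iff_not_dvd hr).mpr hrD
    have hDcomm : IsMulCommutative (commutator H) := by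
      let _ := IsCyclic.commGroup (α := commutator H)
      exact ⟨⟨mul_comm⟩⟩
    obtain ⟨h55a, _⟩ := Cfsg.Agent.S0055.result (Subgroup.zpowers b) (commutator H) hBN hcopBD
    have hcomm : ⁅commutator H, Subgroup.zpowers b⁆ = ⊥ := by
      by_contra hne
      have hnt : Nontrivial (⁅commutator H, Subgroup.zpowers b⁆ : Subgroup H) :=
        (Subgroup.nontrivial_iff_ne_bot _).mpr hne
      have hc1 : Nat.card (⁅commutator H, Subgroup.zpowers b⁆ : Subgroup H) ≠ 1 :=
        Finite.one_lt_card.ne'
      obtain ⟨s, hs, hsdvd⟩ := Nat.exists_prime_and_dvd hc1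
      have := Fact.mk hs
      obtain ⟨d, hd⟩ := exists_prime_orderOf_dvd_card' s hsdvd
      have hdD : (d : H) ∈ commutator H :=
        (Subgroup.commutator_le_left (commutator H) (Subgroup.zpowers b)) d.2
      have hdo : orderOf (d : H) = s := by rw [Subgroup.orderOf_coe]; exact hd
      have hsr : s ≠ r := by
        rintro rfl
        apply hrD
        rw [← hdo]
        have := orderOf_dvd_natCard (⟨(d : H), hdD⟩ : commutator H)
        rwa [Subgroup.orderOf_mk] at this
      -- `b` normalizes `zpowers d`
      have hconj : b * (d : H) * b⁻¹ ∈ Subgroup.zpowers (d : H) := by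
        have hm := mem_zpowers_of_cyclic hs
          (⟨b * (d : H) * b⁻¹, hDn.conj_mem _ hdD b⟩ : commutator H) ⟨(d : H), hdD⟩
          (by rw [Subgroup.orderOf_mk]; exact hdo)
          (by
            apply Subtype.ext
            simp only [Subgroup.coe_pow, Subgroup.coe_one]
            rw [conj_pow, ← hdo, pow_orderOf_eq_one, mul_one, mul_inv_cancel])
        obtain ⟨k, hk⟩ := hm
        refine ⟨k, ?_⟩
        have := congrArg Subtype.val hk
        simpa using this
      have hBS : Subgroup.zpowers b ≤ Subgroup.normalizer ((Subgroup.zpowers (d : H) : Subgroup H) : Set H) := by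
        rw [Subgroup.zpowers_le]
        have hmap : ∀ x ∈ Subgroup.zpowers (d : H), b * x * b⁻¹ ∈ Subgroup.zpowers (d : H) := by
          rintro _ ⟨k, rfl⟩
          have e : b * (d : H) ^ k * b⁻¹ = (b * (d : H) * b⁻¹) ^ k := (conj_zpow).symm
          rw [e]
          exact zpow_mem hconj k
        have hpow : ∀ n : ℕ, ∀ x ∈ Subgroup.zpowers (d : H),
            b ^ n * x * (b ^ n)⁻¹ ∈ Subgroup.zpowers (d : H) := by
          intro n
          induction n with
          | zero => intro x hx; simpa using hx
          | succ n ih =>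
            intro x hx
            have e : b ^ (n + 1) * x * (b ^ (n + 1))⁻¹ = b * (b ^ n * x * (b ^ n)⁻¹) * b⁻¹ := by
              rw [pow_succ']; group
            rw [e]
            exact hmap _ (ih x hx)
        have hbinv : b⁻¹ = b ^ (r - 1) := by
          apply inv_eq_of_mul_eq_one_left
          rw [← pow_succ, Nat.sub_add_cancel hr.one_lt.le, ← hb, pow_orderOf_eq_one]
        rw [Subgroup.mem_normalizer_iff]
        intro x
        constructor
        · exact hmap x
        · intro hx
          have := hpow (r - 1) _ hx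
          rw [← hbinv] at this
          simpa [mul_assoc] using this
      have hdisj : Subgroup.zpowers (d : H) ⊓ Subgroup.zpowers b = ⊥ := by
        apply Disjoint.eq_bot
        apply Subgroup.disjoint_of_coprime_natCard
        rw [Nat.card_zpowers, Nat.card_zpowers, hdo, hb]
        exact (Nat.coprime_primes hs hr).mpr hsr
      have hcard : Nat.card (Subgroup.zpowers (d : H) ⊔ Subgroup.zpowers b : Subgroup H) = s * r := by
        rw [Cfsg.Agent.Lib.Helper54.card_sup_of_le_normalizer hBS hdisj, Nat.card_zpowers,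
          Nat.card_zpowers, hdo, hb]
      have hcyc := hP _ ⟨s, r, hs, hr, hcard⟩
      have hbd : b * (d : H) = (d : H) * b := by
        let _ := IsCyclic.commGroup (α := (Subgroup.zpowers (d : H) ⊔ Subgroup.zpowers b : Subgroup H))
        have hb' : b ∈ (Subgroup.zpowers (d : H) ⊔ Subgroup.zpowers b : Subgroup H) :=
          (le_sup_right : Subgroup.zpowers b ≤ _) (Subgroup.mem_zpowers b)
        have hd' : (d : H) ∈ (Subgroup.zpowers (d : H) ⊔ Subgroup.zpowers b : Subgroup H) :=
          (le_sup_left : Subgroup.zpowers (d : H) ≤ _) (Subgroup.mem_zpowers (d : H))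
        have := mul_comm (⟨b, hb'⟩ : (Subgroup.zpowers (d : H) ⊔ Subgroup.zpowers b : Subgroup H))
          ⟨(d : H), hd'⟩
        exact congrArg Subtype.val this
      have hmem : (d : H) ∈ (commutator H ⊓ Subgroup.centralizer ((Subgroup.zpowers b : Subgroup H) : Set H)) ⊓
          ⁅commutator H, Subgroup.zpowers b⁆ := by
        refine Subgroup.mem_inf.mpr ⟨Subgroup.mem_inf.mpr ⟨hdD, ?_⟩, d.2⟩
        rw [Subgroup.mem_centralizer_iff]
        intro z hz
        obtain ⟨k, rfl⟩ := hz
        exact ((Commute.zpow_left (show Commute b (d : H) from hbd) k).eq)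
      rw [h55a, Subgroup.mem_bot] at hmem
      rw [hmem, orderOf_one] at hdo
      exact hs.one_lt.ne hdo
    intro d hd
    have := Subgroup.commutator_eq_bot_iff_le_centralizer.mp hcomm
    have h3 := this hd
    rw [Subgroup.mem_centralizer_iff] at h3
    exact h3 b (Subgroup.mem_zpowers b)
  -- `b` is central
  have hbc : b ∈ Subgroup.center H := by
    rw [Subgroup.mem_center_iff]
    intro h
    obtain ⟨d, hd, k, rfl⟩ := hdecomp h
    have e1 : Commute b (c ^ k) := ((Commute.refl c).pow_left _).zpow_right k
    have e2 : Commute b d := hbD d hd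
    exact ((e2.mul_right e1).eq).symm
  intro hbot
  rw [hbot, Subgroup.mem_bot] at hbc
  exact hb1 hbc

/-- General form (no complement hypothesis): a nontrivial subgroup `H` acting fixed-point-freely on
a nontrivial normal subgroup `K` has nontrivial centre. -/
theorem center_ne_bot_of_fpf {G : Type*} [Group G] [Finite G] (K H : Subgroup G) [K.Normal]
    (hK : K ≠ ⊥) (hH : H ≠ ⊥) (hfpf : ∀ h ∈ H, h ≠ 1 → K ⊓ Subgroup.centralizer {h} = ⊥) :
    Subgroup.center H ≠ ⊥ := by
  have hHnt : Nontrivial H := (Subgroup.nontrivial_iff_ne_bot H).mpr hH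
  by_cases h2 : 2 ∣ Nat.card H
  · -- even order: the involution is unique, hence central
    have : Fact (Nat.Prime 2) := ⟨Nat.prime_two⟩
    obtain ⟨t, ht⟩ := exists_prime_orderOf_dvd_card' 2 h2
    have ht1 : t ≠ 1 := by
      intro h
      rw [h, orderOf_one] at ht
      omega
    have htt : (t : G) * (t : G) = 1 := by
      have := pow_orderOf_eq_one t
      rw [ht, pow_two] at this
      exact congrArg Subtype.val this
    have htG1 : (t : G) ≠ 1 := fun h => ht1 (Subtype.ext h)
    have hinv := inverts_of_fpf_involution K (t : G) htt (hfpf _ t.2 htG1)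
    have hcen : t ∈ Subgroup.center H := by
      rw [Subgroup.mem_center_iff]
      intro h
      -- t' = h t h⁻¹
      have ht'H : (h : G) * t * (h : G)⁻¹ ∈ H := mul_mem (mul_mem h.2 t.2) (inv_mem h.2)
      have ht't' : ((h : G) * t * (h : G)⁻¹) * ((h : G) * t * (h : G)⁻¹) = 1 := by
        have e : ((h : G) * t * (h : G)⁻¹) * ((h : G) * t * (h : G)⁻¹) =
            (h : G) * ((t : G) * t) * (h : G)⁻¹ := by group
        rw [e, htt]; group
      have ht'1 : (h : G) * t * (h : G)⁻¹ ≠ 1 := by
        intro e
        apply htG1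
        have : (t : G) = (h : G)⁻¹ * ((h : G) * t * (h : G)⁻¹) * h := by group
        rw [this, e]; group
      have hinv' := inverts_of_fpf_involution K _ ht't' (hfpf _ ht'H ht'1)
      -- u = t⁻¹ * t' centralizes K
      by_contra hne
      have hu1 : (t : G)⁻¹ * ((h : G) * t * (h : G)⁻¹) ≠ 1 := by
        intro e
        apply hne
        apply Subtype.ext
        have e2 : (h : G) * t * (h : G)⁻¹ = t := by
          have := congrArg (fun z => (t : G) * z) e
          simpa using this
        have : (h : G) * t = t * h := by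
          calc (h : G) * t = ((h : G) * t * (h : G)⁻¹) * h := by group
            _ = t * h := by rw [e2]
        simpa using this
      have huH : (t : G)⁻¹ * ((h : G) * t * (h : G)⁻¹) ∈ H := mul_mem (inv_mem t.2) ht'H
      have hbot := hfpf _ huH hu1
      apply hK
      rw [eq_bot_iff, ← hbot]
      intro k hk
      refine Subgroup.mem_inf.mpr ⟨hk, ?_⟩
      rw [Subgroup.mem_centralizer_iff]
      intro z hz
      rw [Set.mem_singleton_iff] at hz
      subst hz
      have e1 := hinv k hk
      have e2 := hinv' k hk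
      -- t k t⁻¹ = t' k t'⁻¹
      have e3 : (t : G) * k * (t : G)⁻¹ = ((h : G) * t * (h : G)⁻¹) * k * ((h : G) * t * (h : G)⁻¹)⁻¹ := by
        rw [e1, e2]
      calc (t : G)⁻¹ * ((h : G) * t * (h : G)⁻¹) * k
          = (t : G)⁻¹ * (((h : G) * t * (h : G)⁻¹) * k * ((h : G) * t * (h : G)⁻¹)⁻¹) *
              ((h : G) * t * (h : G)⁻¹) := by group
        _ = (t : G)⁻¹ * ((t : G) * k * (t : G)⁻¹) * ((h : G) * t * (h : G)⁻¹) := by rw [e3]
        _ = k * ((t : G)⁻¹ * ((h : G) * t * (h : G)⁻¹)) := by group
    intro hbot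
    rw [hbot, Subgroup.mem_bot] at hcen
    exact ht1 hcen
  · -- odd order: H is a Z-group
    have hZ : IsZGroup H := by
      refine ⟨fun p hp P => ?_⟩
      have : Fact p.Prime := ⟨hp⟩
      have hu := Cfsg.Agent.Lib.Helper35.unique_subgroup_of_order_p_of_fpf K H hK hfpf p
        (P : Subgroup H) P.isPGroup'
      have h16 : IsCyclic (P : Subgroup H) ∨ ∃ n : ℕ, Nonempty ((P : Subgroup H) ≃* QuaternionGroup (2 ^ n)) := by
        rcases Cfsg.Agent.S0016.result p P.isPGroup' hu with h | ⟨-, h⟩
        · left; exact h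
        · right; exact h
      rcases h16 with h | ⟨n, ⟨e⟩⟩
      · exact h
      · exfalso
        apply h2
        have h3 : Nat.card (P : Subgroup H) = 4 * 2 ^ n := by
          rw [Nat.card_congr e.toEquiv, Nat.card_eq_fintype_card, QuaternionGroup.card]
        have h4 : Nat.card (P : Subgroup H) ∣ Nat.card H := Subgroup.card_subgroup_dvd_card _
        rw [h3] at h4
        exact (Dvd.intro (2 * 2 ^ n) (by ring)).trans h4
    apply center_ne_bot_of_zgroup
    rintro B ⟨r, s, hr, hs, hcard⟩
    -- transport `B` to `G`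
    have hinj : Function.Injective H.subtype := Subgroup.subtype_injective H
    have hcard' : Nat.card (B.map H.subtype) = r * s := by
      rw [Subgroup.card_map_of_injective hinj, hcard]
    have hle : B.map H.subtype ≤ H := by
      rintro _ ⟨x, _, rfl⟩
      exact x.2
    have hsolv : Group.IsSolvable (B.map H.subtype) :=
      Group.isSolvable_of_isSolvable_injective (Subgroup.inclusion_injective hle)
    have hcyc : IsCyclic (B.map H.subtype) :=
      Cfsg.Agent.Lib.Helper35.isCyclic_of_fpf K (B.map H.subtype) hK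
        (fun b hb hb1 => hfpf b (hle hb) hb1) hsolv (Or.inr ⟨r, s, hr, hs, hcard'⟩)
    exact (B.equivMapOfInjective H.subtype hinj).symm.isCyclic.mp hcyc

/-- A Frobenius complement has nontrivial centre: if H ≠ 1 complements a nontrivial normal subgroup K and every nonidentity element of H has trivial centraliser in K, then the centre of H is nontrivial. -/
theorem result {G : Type*} [Group G] [Finite G] (K H : Subgroup G) [K.Normal]
    (hc : Subgroup.IsComplement' K H) (hK : K ≠ ⊥) (hH : H ≠ ⊥) (hfpf : ∀ h ∈ H, h ≠ 1 → K ⊓ Subgroup.centralizer {h} = ⊥) :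
    Subgroup.center H ≠ ⊥ :=
  center_ne_bot_of_fpf K H hK hH hfpf

end Cfsg.Agent.S0069
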