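import Cfsg.Statements.S0070
import Cfsg.Agent.Lib.Helper2.Gaschutz
import Cfsg.Agent.Lib.Helper71.Fitting

set_option autoImplicit false
open Cfsg

namespace Cfsg.Agent.S0070

/-- The Fitting subgroup commutes with passing to the Frattini quotient: the Fitting subgroup of G modulo its Frattini subgroup is the image of the Fitting subgroup of G. -/
theorem result {G : Type*} [Group G] [Finite G] :
    Cfsg.fittingSubgroup (G ⧸ frattini G) = (Cfsg.fittingSubgroup G).map (QuotientGroup.mk' (frattini G)) := by
  have hπs : Function.Surjective (QuotientGroup.mk' (frattini G)) := QuotientGroup.mk'_surjective _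
  apply le_antisymm
  · -- pull back the Fitting subgroup of the quotient
    set N := (Cfsg.fittingSubgroup (G ⧸ frattini G)).comap (QuotientGroup.mk' (frattini G)) with hNdef
    have hNn : N.Normal :=
      (Cfsg.Agent.Lib.Helper71.fittingSubgroup_normal (G := G ⧸ frattini G)).comap _
    have hΦ : frattini G ≤ N := by
      intro x hx
      rw [hNdef, Subgroup.mem_comap]
      have : QuotientGroup.mk' (frattini G) x = 1 := (QuotientGroup.eq_one_iff x).mpr hx
      rw [this]; exact Subgroup.one_mem _
    have hmap : N.map (QuotientGroup.mk' (frattini G)) = Cfsg.fittingSubgroup (G ⧸ frattini G) :=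
      Subgroup.map_comap_eq_self_of_surjective hπs _
    have hnil : Group.IsNilpotent (N.map (QuotientGroup.mk' (frattini G))) := by
      rw [hmap]; exact Cfsg.Agent.Lib.Helper71.fittingSubgroup_isNilpotent
    have hNnil : Group.IsNilpotent N :=
      Cfsg.Agent.Lib.Helper2.isNilpotent_of_map_mk_frattini N hΦ hnil
    have hle : N ≤ Cfsg.fittingSubgroup G := le_sSup ⟨hNn, hNnil⟩
    rw [← hmap]
    exact Subgroup.map_mono hle
  · apply le_sSup
    refine ⟨(Cfsg.Agent.Lib.Helper71.fittingSubgroup_normal (G := G)).map _ hπs, ?_⟩
    have : Group.IsNilpotent (Cfsg.fittingSubgroup G) :=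
      Cfsg.Agent.Lib.Helper71.fittingSubgroup_isNilpotent
    exact Group.nilpotent_of_surjective
      ((QuotientGroup.mk' (frattini G)).subgroupMap (Cfsg.fittingSubgroup G))
      ((QuotientGroup.mk' (frattini G)).subgroupMap_surjective _)

end Cfsg.Agent.S0070
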