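import Cfsg.Statements.S0073
import Cfsg.Agent.Lib.Helper2.Burnside

set_option autoImplicit false
open Cfsg

namespace Cfsg.Agent.S0073


/-- A non-abelian finite simple group has no normal `p`-complement for a prime `p` dividing its
order. -/
theorem no_normal_complement {G : Type*} [Group G] [Finite G] [IsSimpleGroup G]
    (hG : ∃ x y : G, x * y ≠ y * x) {p : ℕ} [Fact p.Prime] (hp : p ∣ Nat.card G) (P : Sylow p G)
    (N : Subgroup G) (hN : N.Normal) (hc : N.IsComplement' (P : Subgroup G)) : False := by
  have hcard := hc.card_mul_card
  rcases hN.eq_bot_or_eq_top with h | h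
  · -- P = ⊤, so G is a p-group, hence has nontrivial centre, hence is abelian
    rw [h, Subgroup.card_bot, one_mul] at hcard
    have hPtop : (P : Subgroup G) = ⊤ := Subgroup.eq_top_of_card_eq _ hcard
    have hPG : IsPGroup p G := by
      have := P.isPGroup'
      rw [hPtop] at this
      exact IsPGroup.of_equiv this Subgroup.topEquiv
    have hZ : Nontrivial (Subgroup.center G) := hPG.center_nontrivial
    have hZn : (Subgroup.center G).Normal := inferInstance
    rcases hZn.eq_bot_or_eq_top with h0 | h1
    · rw [Subgroup.nontrivial_iff_ne_bot] at hZ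
      exact hZ h0
    · obtain ⟨x, y, hxy⟩ := hG
      apply hxy
      have hx : x ∈ Subgroup.center G := by rw [h1]; exact Subgroup.mem_top x
      exact ((Subgroup.mem_center_iff.mp hx) y).symm
  · rw [h, Subgroup.card_top] at hcard
    have h1 : Nat.card (P : Subgroup G) = 1 := by
      have hpos : 0 < Nat.card G := Nat.card_pos
      have := Nat.eq_of_mul_eq_mul_left hpos (hcard.trans (mul_one _).symm)
      exact this
    exact P.ne_bot_of_dvd_card hp (Subgroup.card_eq_one.mp h1)

/-- For a finite non-abelian simple group, either the cube of the least prime divisor of the order divides the order, or 12 does. -/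
theorem result {G : Type*} [Group G] [Finite G] [IsSimpleGroup G] (hG : ∃ x y : G, x * y ≠ y * x) : (Nat.card G).minFac ^ 3 ∣ Nat.card G ∨ 12 ∣ Nat.card G := by
  classical
  have hnt : Nontrivial G := IsSimpleGroup.toNontrivial
  have hn1 : Nat.card G ≠ 1 := by
    intro h1
    have := Finite.one_lt_card (α := G)
    omega
  set p := (Nat.card G).minFac with hpdef
  have hp : p.Prime := Nat.minFac_prime hn1
  have hfp : Fact p.Prime := ⟨hp⟩
  have hpG : p ∣ Nat.card G := Nat.minFac_dvd _
  obtain ⟨P⟩ : Nonempty (Sylow p G) := inferInstance
  -- P is not cyclic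
  have hncyc : ¬ IsCyclic (P : Subgroup G) := by
    intro hcyc
    have hcomp := IsCyclic.isComplement' (G := G) (p := p) rfl (P := P) hcyc
    exact no_normal_complement hG hpG P _ inferInstance hcomp
  obtain ⟨k, hk⟩ := IsPGroup.iff_card.mp P.isPGroup'
  have hPdvd : p ^ k ∣ Nat.card G := hk ▸ Subgroup.card_subgroup_dvd_card _
  by_cases hk3 : 3 ≤ k
  · left
    exact (pow_dvd_pow p hk3).trans hPdvd
  · right
    have hk2 : k = 2 := by
      have hk01 : k ≠ 0 ∧ k ≠ 1 := by
        constructor
        · rintro rfl
          rw [pow_zero] at hk
          apply hncyc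
          have : Subsingleton (P : Subgroup G) := (Nat.card_eq_one_iff_unique.mp hk).1
          infer_instance
        · rintro rfl
          rw [pow_one] at hk
          exact hncyc (isCyclic_of_prime_card hk)
      omega
    subst hk2
    have hcommP : IsMulCommutative (P : Subgroup G) := IsPGroup.isMulCommutative_of_card_eq_prime_sq hk
    by_contra h12
    -- Burnside applies
    have hNC : Subgroup.normalizer ((P : Subgroup G) : Set G) ≤ Subgroup.centralizer ((P : Subgroup G) : Set G) := by
      apply Cfsg.Agent.Lib.Helper2.normalizer_le_centralizer_of_no_fixed P hcommP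
      intro q hq hqG hqp F hF hmod
      have hqgt : p < q := by
        have hle : p ≤ q := Nat.minFac_le_of_dvd hq.two_le hqG
        omega
      have hFd : Nat.card F ∣ p ^ 2 := hk ▸ Subgroup.card_subgroup_dvd_card F
      obtain ⟨j, hj2, hj⟩ := (Nat.dvd_prime_pow hp).mp hFd
      have hjne : j ≠ 2 := by
        rintro rfl
        apply hF
        apply Subgroup.eq_top_of_card_eq
        rw [hj, hk]
      rw [hk, hj] at hmod
      have hj01 : j = 0 ∨ j = 1 := by omega
      have hp2 : 2 ≤ p := hp.two_le
      rcases hj01 with rfl | rfl
      · -- q ∣ p^2 - 1 = (p-1)(p+1)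
        rw [pow_zero] at hmod
        have h1 : q ∣ p ^ 2 - 1 := (Nat.modEq_iff_dvd' (Nat.one_le_pow _ _ hp.pos)).mp hmod.symm
        have h2 : p ^ 2 - 1 = (p - 1) * (p + 1) := by
          have : 1 ≤ p := hp.pos
          zify [this, Nat.one_le_pow 2 p hp.pos]
          ring
        rw [h2] at h1
        rcases (Nat.Prime.dvd_mul hq).mp h1 with h3 | h3
        · have : q ≤ p - 1 := Nat.le_of_dvd (by omega) h3
          omega
        · have hle : q ≤ p + 1 := Nat.le_of_dvd (by omega) h3
          have hq1 : q = p + 1 := by omega
          -- p and p + 1 both prime: p = 2, q = 3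
          have hp2' : p = 2 := by
            rcases hp.eq_two_or_odd with h | h
            · exact h
            · exfalso
              have heven : 2 ∣ q := by omega
              have : q = 2 := ((Nat.prime_dvd_prime_iff_eq Nat.prime_two hq).mp heven).symm
              omega
          have hq3 : q = 3 := by omega
          apply h12
          have h4 : 4 ∣ Nat.card G := by
            have := hPdvd
            rw [hp2'] at this
            simpa using this
          have h3' : 3 ∣ Nat.card G := hq3 ▸ hqG
          have hcop : Nat.Coprime 4 3 := by norm_num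
          have := hcop.mul_dvd_of_dvd_of_dvd h4 h3'
          simpa using this
      · -- q ∣ p^2 - p = p (p-1)
        rw [pow_one] at hmod
        have hle : p ≤ p ^ 2 := by nlinarith
        have h1 : q ∣ p ^ 2 - p := (Nat.modEq_iff_dvd' hle).mp hmod.symm
        have h2 : p ^ 2 - p = p * (p - 1) := by
          have : 1 ≤ p := hp.pos
          zify [this, hle]
          ring
        rw [h2] at h1
        rcases (Nat.Prime.dvd_mul hq).mp h1 with h3 | h3
        · have : q ≤ p := Nat.le_of_dvd hp.pos h3
          omega
        · have : q ≤ p - 1 := Nat.le_of_dvd (by omega) h3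
          omega
    have hcomp := MonoidHom.ker_transferSylow_isComplement' P hNC
    exact no_normal_complement hG hpG P _ inferInstance hcomp

end Cfsg.Agent.S0073
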