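import Cfsg.Statements.S0077
-- import your own Cfsg.Agent.* helpers here

set_option autoImplicit false
open Cfsg
open scoped commutatorElement Pointwise

namespace Cfsg.Agent.S0077


/-- Two `p`-subgroups `Z`, `W` of `C`: some Sylow `p`-subgroup `S` of `G` contains `Z` and a
`C`-conjugate of `W`. -/
theorem exists_conj_into_sylow {G : Type*} [Group G] [Finite G] {p : ℕ} [Fact p.Prime]
    (C Z W : Subgroup G) (hZ : IsPGroup p Z) (hW : IsPGroup p W) (hZC : Z ≤ C) (hWC : W ≤ C) :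
    ∃ (S : Sylow p G) (c : G), c ∈ C ∧ Z ≤ S ∧ ∀ w ∈ W, c⁻¹ * w * c ∈ S := by
  obtain ⟨R, hR⟩ := (hZ.comap_subtype (K := C)).exists_le_sylow
  obtain ⟨R₂, hR₂⟩ := (hW.comap_subtype (K := C)).exists_le_sylow
  obtain ⟨c, hc⟩ := MulAction.exists_smul_eq C R R₂
  obtain ⟨S, hS⟩ := (R.2.map C.subtype).exists_le_sylow
  refine ⟨S, c, c.2, ?_, ?_⟩
  · intro z hz
    apply hS
    exact ⟨⟨z, hZC hz⟩, hR (by rw [Subgroup.mem_comap]; exact hz), rfl⟩
  · intro w hw
    apply hS
    have h1 : (⟨w, hWC hw⟩ : C) ∈ (R₂ : Subgroup C) := hR₂ (by rw [Subgroup.mem_comap]; exact hw)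
    rw [← hc, Sylow.coe_subgroup_smul, Subgroup.mem_pointwise_smul_iff_inv_smul_mem] at h1
    have h2 : c⁻¹ * ⟨w, hWC hw⟩ * c ∈ (R : Subgroup C) := by
      simpa [MulAut.smul_def] using h1
    exact ⟨c⁻¹ * ⟨w, hWC hw⟩ * c, h2, by simp⟩

/-- If a subgroup Z of the centre of a Sylow p-subgroup P is weakly closed in P, then P meets the derived subgroup of G exactly where it meets the derived subgroup of the normalizer of Z. -/
theorem result {G : Type*} [Group G] [Finite G] {p : ℕ} [Fact p.Prime] (P : Sylow p G) (Z : Subgroup G) (hZ : Z ≤ Subgroup.centralizer (P : Set G)) (hW : Cfsg.IsWeaklyClosed Z P) : commutator G ⊓ (P : Subgroup G) = ⁅Subgroup.normalizer (Z : Set G), Subgroup.normalizer (Z : Set G)⁆ ⊓ (P : Subgroup G) := by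
  obtain ⟨hZP, hWC⟩ := hW
  have hZp : IsPGroup p Z := P.isPGroup'.to_le hZP
  have hPcZ : (P : Subgroup G) ≤ Subgroup.centralizer (Z : Set G) := Subgroup.le_centralizer_iff.mp hZ
  have hPN : (P : Subgroup G) ≤ Subgroup.normalizer (Z : Set G) :=
    hPcZ.trans (Subgroup.centralizer_le_normalizer _)
  -- weak closure transfers to every Sylow p-subgroup containing Z
  have hweak : ∀ (S : Sylow p G), Z ≤ (S : Subgroup G) → ∀ v : G,
      (∀ z ∈ Z, v * z * v⁻¹ ∈ (S : Subgroup G)) → v ∈ Subgroup.normalizer (Z : Set G) := by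
    intro S hZS v hv
    obtain ⟨g, rfl⟩ := MulAction.exists_smul_eq G P S
    -- g⁻¹ Z g ≤ P
    have key : ∀ w : G, (∀ z ∈ Z, w * z * w⁻¹ ∈ ((g • P : Sylow p G) : Subgroup G)) →
        g⁻¹ * w ∈ Subgroup.normalizer (Z : Set G) := by
      intro w hw
      have h1 : Z.map (MulAut.conj (g⁻¹ * w)).toMonoidHom ≤ (P : Subgroup G) := by
        rintro _ ⟨z, hz, rfl⟩
        have h2 := hw z hz
        rw [Sylow.coe_subgroup_smul, Subgroup.mem_pointwise_smul_iff_inv_smul_mem] at h2
        simp only [MulAut.smul_def, MulAut.inv_apply, MulAut.conj_symm_apply] at h2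
        simp only [MulEquiv.coe_toMonoidHom, MulAut.conj_apply]
        have : g⁻¹ * w * z * (g⁻¹ * w)⁻¹ = g⁻¹ * (w * z * w⁻¹) * g := by group
        rw [this]; exact h2
      exact Subgroup.mem_normalizer_iff_map_conj_eq.mpr (hWC _ h1)
    have hg1 : g⁻¹ * 1 ∈ Subgroup.normalizer (Z : Set G) :=
      key 1 (by intro z hz; simpa using hZS hz)
    rw [mul_one] at hg1
    have hg2 := key v hv
    have : v = g⁻¹⁻¹ * (g⁻¹ * v) := by group
    rw [this]
    exact Subgroup.mul_mem _ (Subgroup.inv_mem _ hg1) hg2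
  apply le_antisymm
  · rw [Subgroup.commutator_inf_eq_focalSubgroup P]
    rw [Subgroup.focalSubgroup_def, Subgroup.closure_le]
    rintro g ⟨hgP, x, hxP, u, rfl⟩
    refine ⟨?_, hgP⟩
    have hxinv : x⁻¹ ∈ (P : Subgroup G) := Subgroup.inv_mem _ hxP
    have hconj : u * x⁻¹ * u⁻¹ ∈ (P : Subgroup G) := by
      have := Subgroup.mul_mem _ hxinv hgP
      rw [commutatorElement_def] at this
      simpa [mul_assoc] using this
    -- C = centralizer of y' = u x⁻¹ u⁻¹
    set y' := u * x⁻¹ * u⁻¹ with hy'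
    have hZC : Z ≤ Subgroup.centralizer {y'} := by
      intro z hz
      rw [Subgroup.mem_centralizer_singleton_iff]
      exact (hZ hz y' hconj).symm
    have hWC' : Z.map (MulAut.conj u).toMonoidHom ≤ Subgroup.centralizer {y'} := by
      rintro _ ⟨z, hz, rfl⟩
      rw [Subgroup.mem_centralizer_singleton_iff]
      simp only [MulEquiv.coe_toMonoidHom, MulAut.conj_apply]
      have hc : z * x⁻¹ = x⁻¹ * z := (hZ hz x⁻¹ hxinv).symm
      calc u * z * u⁻¹ * y' = u * (z * x⁻¹) * u⁻¹ := by rw [hy']; group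
        _ = u * (x⁻¹ * z) * u⁻¹ := by rw [hc]
        _ = y' * (u * z * u⁻¹) := by rw [hy']; group
    have hWp : IsPGroup p (Z.map (MulAut.conj u).toMonoidHom) := hZp.map _
    obtain ⟨S, c, hcC, hZS, hWS⟩ := exists_conj_into_sylow _ Z _ hZp hWp hZC hWC'
    -- n = c⁻¹ u normalizes Z
    have hn : c⁻¹ * u ∈ Subgroup.normalizer (Z : Set G) := by
      apply hweak S hZS
      intro z hz
      have := hWS _ ⟨z, hz, rfl⟩
      simp only [MulEquiv.coe_toMonoidHom, MulAut.conj_apply] at this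
      have e : c⁻¹ * u * z * (c⁻¹ * u)⁻¹ = c⁻¹ * (u * z * u⁻¹) * c := by group
      rw [e]; exact this
    have hcy : c⁻¹ * y' * c = y' := by
      rw [Subgroup.mem_centralizer_singleton_iff] at hcC
      calc c⁻¹ * y' * c = c⁻¹ * (y' * c) := by group
        _ = c⁻¹ * (c * y') := by rw [hcC]
        _ = y' := by group
    have : ⁅x, u⁆ = ⁅x, c⁻¹ * u⁆ := by
      rw [commutatorElement_def, commutatorElement_def]
      calc x * u * x⁻¹ * u⁻¹ = x * y' := by rw [hy']; group
        _ = x * (c⁻¹ * y' * c) := by rw [hcy]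
        _ = x * (c⁻¹ * u) * x⁻¹ * (c⁻¹ * u)⁻¹ := by rw [hy']; group
    rw [SetLike.mem_coe, this]
    exact Subgroup.commutator_mem_commutator (hPN hxP) hn
  · apply inf_le_inf_right
    rw [commutator_def]
    exact Subgroup.commutator_mono le_top le_top

end Cfsg.Agent.S0077
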