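import Cfsg.Statements.S0079
import Cfsg.Agent.Lib.Helper2.FusionComplement
import Cfsg.Agent.Lib.Helper65.NilpBasic

set_option autoImplicit false
open Cfsg

namespace Cfsg.Agent.S0079

open Cfsg.Agent.Lib.Helper2 Cfsg.Agent.Lib.Helper34

/-- For each prime dividing `|H|`, the group has a normal `p`-complement. -/
theorem hasNormalPComplement_of_dvd {G : Type*} [Group G] [Finite G] (H : Subgroup G)
    (hH : Group.IsNilpotent H) (hHall : Nat.Coprime (Nat.card H) H.index)
    (hfus : ∀ x ∈ H, ∀ y ∈ H, (∃ g : G, g * x * g⁻¹ = y) → ∃ h ∈ H, h * x * h⁻¹ = y)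
    (p : ℕ) [hp : Fact p.Prime] (hpH : p ∣ Nat.card H) : HasNormalPComplement p G := by
  have := hH
  obtain ⟨S⟩ : Nonempty (Sylow p H) := inferInstance
  have hP₀ : IsPGroup p ((S : Subgroup H).map H.subtype) := S.isPGroup'.map H.subtype
  have hidx : ¬ p ∣ ((S : Subgroup H).map H.subtype).index := by
    rw [Subgroup.index_map_subtype]
    intro hd
    rcases (Nat.Prime.dvd_mul hp.out).mp hd with h1 | h1
    · exact S.not_dvd_index h1
    · have := Nat.dvd_gcd hpH h1
      rw [hHall.gcd_eq_one] at this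
      exact hp.out.one_lt.ne' (Nat.dvd_one.mp this)
  apply hasNormalPComplement_of_controlsOwnFusion (hP₀.toSylow hidx)
  intro x hx g hgx
  obtain ⟨x', hx'S, rfl⟩ := hx
  obtain ⟨y', hy'S, hy'⟩ := hgx
  obtain ⟨h, hh, hhx⟩ := hfus (x' : G) x'.2 (g * (x' : G) * g⁻¹) (by
    have : (H.subtype y' : G) ∈ H := y'.2
    rw [hy'] at this
    exact this) ⟨g, rfl⟩
  -- decompose `h = k * u` with `k ∈ O^p(H)`, `u ∈ S`
  have htop := pResidual_sup_eq_top p (S : Subgroup H) S.not_dvd_index
  have hn := pResidual_normal p H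
  have hmem : (⟨h, hh⟩ : H) ∈ pResidual p H ⊔ (S : Subgroup H) := by
    rw [htop]; exact Subgroup.mem_top _
  rw [← SetLike.mem_coe, Subgroup.normal_mul] at hmem
  obtain ⟨k, hk, u, hu, hku⟩ := hmem
  -- `S` is normal in `H`
  have hSn : (S : Subgroup H).Normal := inferInstance
  have huxS : u * x' * u⁻¹ ∈ (S : Subgroup H) := hSn.conj_mem _ hx'S u
  -- `k` centralizes `u x' u⁻¹`
  have hkc : pResidual p H ≤ Subgroup.centralizer {u * x' * u⁻¹} := by
    unfold pResidual
    rw [Subgroup.closure_le]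
    intro c hc
    have hc' : Nat.Coprime (orderOf c) p := hc
    rw [SetLike.mem_coe, Subgroup.mem_centralizer_singleton_iff]
    obtain ⟨j, hj⟩ := (IsPGroup.iff_orderOf.mp S.isPGroup') ⟨u * x' * u⁻¹, huxS⟩
    have hord : orderOf (u * x' * u⁻¹) = p ^ j := by
      rw [← hj]; exact (Subgroup.orderOf_mk _ huxS).symm
    have hcop : Nat.Coprime (orderOf c) (orderOf (u * x' * u⁻¹)) := by
      rw [hord]; exact Nat.Coprime.pow_right j hc'
    exact (Cfsg.Agent.Lib.Helper65.commute_of_coprime_orderOf c _ hcop).eq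
  have hkx : k * (u * x' * u⁻¹) = (u * x' * u⁻¹) * k :=
    Subgroup.mem_centralizer_singleton_iff.mp (hkc hk)
  refine ⟨(u : G), ⟨u, hu, rfl⟩, ?_⟩
  simp only [Subgroup.coe_subtype]
  rw [← hhx]
  have h1 : (⟨h, hh⟩ : H) * x' * (⟨h, hh⟩ : H)⁻¹ = u * x' * u⁻¹ := by
    rw [← hku]
    calc k * u * x' * (k * u)⁻¹ = k * (u * x' * u⁻¹) * k⁻¹ := by group
      _ = (u * x' * u⁻¹) * k * k⁻¹ := by rw [hkx]
      _ = u * x' * u⁻¹ := by group
  have h2 := congrArg Subtype.val h1
  simpa using h2


/-- A nilpotent Hall subgroup has a normal complement exactly when elements of it that are conjugate in the whole group are already conjugate inside it. -/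
theorem result {G : Type*} [Group G] [Finite G] (H : Subgroup G) (hH : Group.IsNilpotent H) (hHall : Nat.Coprime (Nat.card H) H.index) : (∃ N : Subgroup G, N.Normal ∧ N.IsComplement' H) ↔ ∀ x ∈ H, ∀ y ∈ H, (∃ g : G, g * x * g⁻¹ = y) → ∃ h ∈ H, h * x * h⁻¹ = y := by
  constructor
  · rintro ⟨N, hN, hc⟩ x hx y hy ⟨g, hg⟩
    obtain ⟨⟨⟨n, hn⟩, ⟨h, hh⟩⟩, hnh, _⟩ := hc.existsUnique g
    simp only at hnh
    have hdisj : N ⊓ H = ⊥ := hc.disjoint.eq_bot
    refine ⟨h, hh, ?_⟩
    have hx' : h * x * h⁻¹ ∈ H := H.mul_mem (H.mul_mem hh hx) (H.inv_mem hh)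
    have hy' : y = n * (h * x * h⁻¹) * n⁻¹ := by
      rw [← hg, ← hnh]; group
    have h1 : y * (h * x * h⁻¹)⁻¹ ∈ H := H.mul_mem hy (H.inv_mem hx')
    have h2 : y * (h * x * h⁻¹)⁻¹ ∈ N := by
      have : y * (h * x * h⁻¹)⁻¹ = n * ((h * x * h⁻¹) * n⁻¹ * (h * x * h⁻¹)⁻¹) := by
        rw [hy']; group
      rw [this]
      exact N.mul_mem hn (hN.conj_mem _ (N.inv_mem hn) _)
    have h3 : y * (h * x * h⁻¹)⁻¹ ∈ N ⊓ H := ⟨h2, h1⟩
    rw [hdisj, Subgroup.mem_bot] at h3
    exact (mul_inv_eq_one.mp h3).symm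
  · intro hfus
    -- the intersection of the `p`-residuals over the primes dividing `|H|`
    set N : Subgroup G := ⨅ p ∈ (Nat.card H).primeFactors, pResidual p G with hNdef
    have hNn : N.Normal := by
      apply Subgroup.normal_iInf_normal
      intro p
      apply Subgroup.normal_iInf_normal
      intro _
      exact pResidual_normal p G
    have hNle : ∀ p ∈ (Nat.card H).primeFactors, N ≤ pResidual p G := fun p hp => iInf₂_le p hp
    -- `|N|` is coprime to `|H|`
    have hcop : Nat.Coprime (Nat.card N) (Nat.card H) := by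
      apply Nat.coprime_of_dvd
      intro q hq hqN hqH
      have : Fact q.Prime := ⟨hq⟩
      have hmem : q ∈ (Nat.card H).primeFactors :=
        Nat.mem_primeFactors.mpr ⟨hq, hqH, Nat.card_pos.ne'⟩
      have h1 := hasNormalPComplement_of_dvd H hH hHall hfus q hqH
      rw [hasNormalPComplement_iff_pResidual_coprime] at h1
      have h2 : Nat.card N ∣ Nat.card (pResidual q G) := Subgroup.card_dvd_of_le (hNle q hmem)
      have h3 : q ∣ Nat.card (pResidual q G) := dvd_trans hqN h2
      exact (Nat.Prime.coprime_iff_not_dvd hq).mp h1.symm h3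
    -- `[G : N]` is coprime to `[G : H]`
    have hidx : Nat.Coprime N.index H.index := by
      apply Nat.coprime_of_dvd
      intro q hq hqN hqH
      have : Fact q.Prime := ⟨hq⟩
      have hqH' : ¬ q ∣ Nat.card H := by
        intro hd
        have := Nat.dvd_gcd hd hqH
        rw [hHall.gcd_eq_one] at this
        exact hq.one_lt.ne' (Nat.dvd_one.mp this)
      obtain ⟨T⟩ : Nonempty (Sylow q G) := inferInstance
      have hTN : (T : Subgroup G) ≤ N := by
        apply le_iInf₂
        intro p hp t ht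
        have hpp : p.Prime := Nat.prime_of_mem_primeFactors hp
        have hpH : p ∣ Nat.card H := Nat.dvd_of_mem_primeFactors hp
        have hne : q ≠ p := by
          rintro rfl
          exact hqH' hpH
        obtain ⟨j, hj⟩ := (IsPGroup.iff_orderOf.mp T.isPGroup') ⟨t, ht⟩
        have hord : orderOf t = q ^ j := by
          rw [← hj]; exact (Subgroup.orderOf_mk _ ht).symm
        apply Subgroup.subset_closure
        show Nat.Coprime (orderOf t) p
        rw [hord]
        exact Nat.Coprime.pow_left j ((Nat.coprime_primes hq hpp).mpr hne)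
      exact T.not_dvd_index (dvd_trans hqN (Subgroup.index_dvd_of_le hTN))
    have hdvd1 : Nat.card N * Nat.card H ∣ Nat.card G :=
      Nat.Coprime.mul_dvd_of_dvd_of_dvd hcop (Subgroup.card_subgroup_dvd_card N)
        (Subgroup.card_subgroup_dvd_card H)
    have hNH : N.index ∣ Nat.card H := by
      have h1 : N.index ∣ Nat.card H * H.index := by
        rw [Subgroup.card_mul_index]; exact Subgroup.index_dvd_card N
      exact hidx.dvd_of_dvd_mul_right h1
    have hdvd2 : Nat.card G ∣ Nat.card N * Nat.card H := by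
      rw [← Subgroup.card_mul_index N]
      exact Nat.mul_dvd_mul_left _ hNH
    exact ⟨N, hNn, Subgroup.isComplement'_of_coprime (Nat.dvd_antisymm hdvd1 hdvd2) hcop⟩

end Cfsg.Agent.S0079
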