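import Cfsg.Statements.S0083
import Cfsg.Agent.Lib.Helper2.Burnside

set_option autoImplicit false
open Cfsg

namespace Cfsg.Agent.S0083

/-- For an abelian Sylow p-subgroup P, a normal p-complement exists exactly when the normalizer of P is an internal direct product of P with some subgroup. -/
theorem result {G : Type*} [Group G] [Finite G] {p : ℕ} [Fact p.Prime] (P : Sylow p G) (hP : IsMulCommutative P) : Cfsg.HasNormalPComplement p G ↔ ∃ Q : Subgroup G, Q ≤ Subgroup.centralizer (P : Set G) ∧ Q ⊓ (P : Subgroup G) = ⊥ ∧ Q ⊔ (P : Subgroup G) = Subgroup.normalizer (P : Set G) := by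
  have hPC : (P : Subgroup G) ≤ Subgroup.centralizer ((P : Subgroup G) : Set G) := by
    intro x hx y hy
    have := hP.is_comm.comm (⟨y, hy⟩ : (P : Subgroup G)) ⟨x, hx⟩
    exact congrArg Subtype.val this
  constructor
  · intro h
    obtain ⟨N, hN, hc⟩ := Cfsg.Agent.Lib.Helper2.exists_normal_complement_of_hasNormalPComplement h P
    have hdisj : N ⊓ (P : Subgroup G) = ⊥ := hc.disjoint.eq_bot
    refine ⟨N ⊓ Subgroup.normalizer ((P : Subgroup G) : Set G), ?_, ?_, ?_⟩
    · rintro n ⟨hnN, hnP⟩ x hx
      -- the commutator n x n⁻¹ x⁻¹ lies in N ⊓ P = ⊥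
      have h1 : n * x * n⁻¹ * x⁻¹ ∈ N := by
        have : x * n⁻¹ * x⁻¹ ∈ N := hN.conj_mem _ (N.inv_mem hnN) x
        have := N.mul_mem hnN this
        simpa [mul_assoc] using this
      have h2 : n * x * n⁻¹ * x⁻¹ ∈ (P : Subgroup G) := by
        have : n * x * n⁻¹ ∈ (P : Subgroup G) := (Subgroup.mem_normalizer_iff.mp hnP x).mp hx
        exact Subgroup.mul_mem _ this (Subgroup.inv_mem _ hx)
      have h3 : n * x * n⁻¹ * x⁻¹ ∈ N ⊓ (P : Subgroup G) := ⟨h1, h2⟩
      rw [hdisj, Subgroup.mem_bot] at h3
      have h4 : n * x * n⁻¹ = x := by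
        have := mul_eq_one_iff_eq_inv.mp h3
        simpa using this
      have h5 : n * x = x * n := by
        have := congrArg (· * n) h4
        simpa [mul_assoc] using this
      exact h5.symm
    · rw [eq_bot_iff, ← hdisj]
      exact inf_le_inf_right _ inf_le_left
    · apply le_antisymm
      · exact sup_le inf_le_right Subgroup.le_normalizer
      · intro g hg
        obtain ⟨⟨n, x⟩, hnx⟩ := hc.2 g
        simp only at hnx
        have hn : (n : G) ∈ Subgroup.normalizer ((P : Subgroup G) : Set G) := by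
          have : (n : G) = g * (x : G)⁻¹ := by rw [← hnx]; group
          rw [this]
          exact Subgroup.mul_mem _ hg (Subgroup.inv_mem _ (Subgroup.le_normalizer x.2))
        rw [← hnx]
        exact Subgroup.mul_mem_sup ⟨n.2, hn⟩ x.2
  · rintro ⟨Q, hQC, -, hQP⟩
    apply Cfsg.Agent.Lib.Helper2.hasNormalPComplement_of_normalizer_le_centralizer P
    have hQP' : Q ⊔ (P : Subgroup G) = Subgroup.normalizer ((P : Subgroup G) : Set G) := hQP
    have hQC' : Q ≤ Subgroup.centralizer ((P : Subgroup G) : Set G) := hQC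
    rw [← hQP']
    exact sup_le hQC' hPC

end Cfsg.Agent.S0083
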