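import Cfsg.Statements.S0084
import Cfsg.Agent.Lib.Helper2.Burnside

set_option autoImplicit false
open Cfsg

namespace Cfsg.Agent.S0084

/-- A group whose Sylow 2-subgroups are Klein four-groups and whose order is prime to 3 has a normal 2-complement. -/
theorem result {G : Type*} [Group G] [Finite G] (T : Sylow 2 G) (hT : IsKleinFour T) (h3 : ¬ 3 ∣ Nat.card G) : Cfsg.HasNormalPComplement 2 G := by
  have hcomm : IsMulCommutative (T : Subgroup G) := IsKleinFour.isMulCommutative
  have hcard : Nat.card (T : Subgroup G) = 4 := hT.card_four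
  apply Cfsg.Agent.Lib.Helper2.hasNormalPComplement_of_normalizer_le_centralizer T
  apply Cfsg.Agent.Lib.Helper2.normalizer_le_centralizer_of_no_fixed T hcomm
  intro q hq hqG hq2 F hF hmod
  have hFd : Nat.card F ∣ 4 := hcard ▸ Subgroup.card_subgroup_dvd_card F
  have hFne : Nat.card F ≠ 4 := by
    intro h4
    apply hF
    apply Subgroup.eq_top_of_card_eq
    rw [h4, hcard]
  rw [hcard] at hmod
  have hF124 : Nat.card F = 1 ∨ Nat.card F = 2 := by
    have hle : Nat.card F ≤ 4 := Nat.le_of_dvd (by norm_num) hFd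
    have hpos : 0 < Nat.card F := Nat.card_pos
    interval_cases h : Nat.card F <;> simp_all
  have hsymm := hmod.symm
  rcases hF124 with h1 | h2
  · rw [h1] at hsymm
    have hd : q ∣ 4 - 1 := (Nat.modEq_iff_dvd' (by norm_num)).mp hsymm
    norm_num at hd
    have : q = 3 := (Nat.prime_dvd_prime_iff_eq hq Nat.prime_three).mp hd
    exact h3 (this ▸ hqG)
  · rw [h2] at hsymm
    have hd : q ∣ 4 - 2 := (Nat.modEq_iff_dvd' (by norm_num)).mp hsymm
    norm_num at hd
    have : q = 2 := (Nat.prime_dvd_prime_iff_eq hq Nat.prime_two).mp hd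
    exact hq2 this

end Cfsg.Agent.S0084
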