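import Cfsg.Statements.S0085
import Cfsg.Agent.Lib.Helper2.Burnside

set_option autoImplicit false
open Cfsg

namespace Cfsg.Agent.S0085

/-- A group whose Sylow 2-subgroups are elementary abelian of order 8 and whose order is prime to 3 and to 7 has a normal 2-complement. -/
theorem result {G : Type*} [Group G] [Finite G] (T : Sylow 2 G) (h8 : Nat.card T = 8) (he : ∀ x : T, x * x = 1) (h3 : ¬ 3 ∣ Nat.card G) (h7 : ¬ 7 ∣ Nat.card G) : Cfsg.HasNormalPComplement 2 G := by
  have hcomm : IsMulCommutative (T : Subgroup G) := by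
    refine ⟨⟨fun x y => ?_⟩⟩
    have hxy := he (x * y)
    have hx := he x
    have hy := he y
    calc x * y = x * ((x * y) * (x * y)) * y := by rw [hxy, mul_one]
      _ = (x * x) * y * x * (y * y) := by group
      _ = y * x := by rw [hx, hy, one_mul, mul_one]
  have hcard : Nat.card (T : Subgroup G) = 8 := h8
  apply Cfsg.Agent.Lib.Helper2.hasNormalPComplement_of_normalizer_le_centralizer T
  apply Cfsg.Agent.Lib.Helper2.normalizer_le_centralizer_of_no_fixed T hcomm
  intro q hq hqG hq2 F hF hmod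
  have hFd : Nat.card F ∣ 8 := hcard ▸ Subgroup.card_subgroup_dvd_card F
  have hFne : Nat.card F ≠ 8 := by
    intro h4
    apply hF
    apply Subgroup.eq_top_of_card_eq
    rw [h4, hcard]
  rw [hcard] at hmod
  have hF124 : Nat.card F = 1 ∨ Nat.card F = 2 ∨ Nat.card F = 4 := by
    have hle : Nat.card F ≤ 8 := Nat.le_of_dvd (by norm_num) hFd
    have hpos : 0 < Nat.card F := Nat.card_pos
    interval_cases h : Nat.card F <;> simp_all
  have hsymm := hmod.symm
  rcases hF124 with h1 | h2 | h4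
  · rw [h1] at hsymm
    have hd : q ∣ 8 - 1 := (Nat.modEq_iff_dvd' (by norm_num)).mp hsymm
    norm_num at hd
    have : q = 7 := (Nat.prime_dvd_prime_iff_eq hq (by decide : Nat.Prime 7)).mp hd
    exact h7 (this ▸ hqG)
  · rw [h2] at hsymm
    have hd : q ∣ 8 - 2 := (Nat.modEq_iff_dvd' (by norm_num)).mp hsymm
    have h6 : (8 - 2 : ℕ) = 2 * 3 := by norm_num
    rw [h6] at hd
    rcases (Nat.Prime.dvd_mul hq).mp hd with hd2 | hd3
    · exact hq2 ((Nat.prime_dvd_prime_iff_eq hq Nat.prime_two).mp hd2)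
    · have : q = 3 := (Nat.prime_dvd_prime_iff_eq hq Nat.prime_three).mp hd3
      exact h3 (this ▸ hqG)
  · rw [h4] at hsymm
    have hd : q ∣ 8 - 4 := (Nat.modEq_iff_dvd' (by norm_num)).mp hsymm
    have h6 : (8 - 4 : ℕ) = 2 * 2 := by norm_num
    rw [h6] at hd
    rcases (Nat.Prime.dvd_mul hq).mp hd with hd2 | hd2
    · exact hq2 ((Nat.prime_dvd_prime_iff_eq hq Nat.prime_two).mp hd2)
    · exact hq2 ((Nat.prime_dvd_prime_iff_eq hq Nat.prime_two).mp hd2)

end Cfsg.Agent.S0085
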