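import Cfsg.Statements.S0086
-- import your own Cfsg.Agent.* helpers here

set_option autoImplicit false
open Cfsg

namespace Cfsg.Agent.S0086

/-- A normal complement to a Sylow p-subgroup is exactly the set of elements of order prime to p. -/
theorem result {G : Type*} [Group G] [Finite G] {p : ℕ} [Fact p.Prime] (P : Sylow p G) (N : Subgroup G) [N.Normal] (hN : N.IsComplement' (P : Subgroup G)) (x : G) : x ∈ N ↔ Nat.Coprime (orderOf x) p := by
  have hp : p.Prime := Fact.out
  have hidx : (P : Subgroup G).index = Nat.card N := hN.index_eq_card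
  have hnd : ¬ p ∣ Nat.card N := by rw [← hidx]; exact P.not_dvd_index
  constructor
  · intro hx
    have h1 : orderOf (⟨x, hx⟩ : N) ∣ Nat.card N := orderOf_dvd_natCard _
    have h2 : orderOf (⟨x, hx⟩ : N) = orderOf x := Subgroup.orderOf_mk x hx
    rw [h2] at h1
    have : Nat.Coprime p (orderOf x) := by
      rw [hp.coprime_iff_not_dvd]
      intro h; exact hnd (h.trans h1)
    exact this.symm
  · intro hx
    -- the quotient has p-power order
    have hq : Nat.card (G ⧸ N) = Nat.card (P : Subgroup G) := by
      rw [← Subgroup.index_eq_card]; exact hN.symm.index_eq_card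
    obtain ⟨k, hk⟩ := (IsPGroup.iff_card.mp P.isPGroup')
    have h1 : orderOf (QuotientGroup.mk' N x) ∣ orderOf x := orderOf_map_dvd _ x
    have h2 : orderOf (QuotientGroup.mk' N x) ∣ p ^ k := by
      have := orderOf_dvd_natCard (QuotientGroup.mk' N x)
      rwa [hq, hk] at this
    have hcop : Nat.Coprime (orderOf x) (p ^ k) := Nat.Coprime.pow_right k hx
    have h3 : orderOf (QuotientGroup.mk' N x) ∣ 1 := by
      have := Nat.dvd_gcd h1 h2
      rwa [hcop] at this
    have h4 : QuotientGroup.mk' N x = 1 := orderOf_eq_one_iff.mp (Nat.dvd_one.mp h3)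
    exact (QuotientGroup.eq_one_iff x).mp h4

end Cfsg.Agent.S0086
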