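import Mathlib
import Cfsg.Statements.S0087

set_option autoImplicit false
open Cfsg
open scoped Pointwise
namespace Cfsg.Agent.S0087

/-- Frattini step: if a Sylow subgroup `P` centralizes `A` and `N(A ⊔ P) ≤ C(A ⊔ P)` then `N(A) ≤ C(A)`. -/
theorem frattini_step {G : Type*} [Group G] [Finite G] {p : ℕ} [Fact p.Prime] (P : Sylow p G)
    (A : Subgroup G) (hPA : (P : Subgroup G) ≤ Subgroup.centralizer (A : Set G))
    (hnext : Subgroup.normalizer ((A ⊔ P : Subgroup G) : Set G) ≤
      Subgroup.centralizer ((A ⊔ P : Subgroup G) : Set G)) :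
    Subgroup.normalizer (A : Set G) ≤ Subgroup.centralizer (A : Set G) := by
  intro g hg
  have hgP : ((g • P : Sylow p G) : Subgroup G) ≤ Subgroup.centralizer (A : Set G) := by
    intro y hy
    rw [Sylow.coe_subgroup_smul, Subgroup.mem_smul_pointwise_iff_exists] at hy
    obtain ⟨x, hx, rfl⟩ := hy
    rw [MulAut.smul_def, MulAut.conj_apply, Subgroup.mem_centralizer_iff]
    intro a ha
    have hx' := hPA hx
    rw [Subgroup.mem_centralizer_iff] at hx'
    have hmem : g⁻¹ * a * g ∈ (A : Set G) := (Subgroup.mem_set_normalizer_iff''.mp hg a).mp ha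
    have h1 := hx' _ hmem
    calc a * (g * x * g⁻¹) = g * ((g⁻¹ * a * g) * x) * g⁻¹ := by group
      _ = g * (x * (g⁻¹ * a * g)) * g⁻¹ := by rw [h1]
      _ = g * x * g⁻¹ * a := by group
  obtain ⟨c, hc⟩ := MulAction.exists_smul_eq (Subgroup.centralizer (A : Set G))
    (P.subtype hPA) ((g • P).subtype hgP)
  rw [Sylow.smul_subtype] at hc
  have hc' : (c : G) • P = g • P := Sylow.subtype_injective hc
  have hg'P : ((c : G)⁻¹ * g) • P = P := by
    rw [mul_smul, ← hc', inv_smul_smul]
  have hg'1 : (c : G)⁻¹ * g ∈ Subgroup.normalizer ((P : Subgroup G) : Set G) :=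
    Sylow.smul_eq_iff_mem_normalizer.mp hg'P
  have hg'2 : (c : G)⁻¹ * g ∈ Subgroup.normalizer (A : Set G) :=
    Subgroup.mul_mem _ (Subgroup.inv_mem _ (Subgroup.centralizer_le_normalizer _ c.2)) hg
  have hg'3 : (c : G)⁻¹ * g ∈ Subgroup.normalizer ((A ⊔ P : Subgroup G) : Set G) := by
    rw [Subgroup.mem_normalizer_iff_map_conj_eq] at hg'1 hg'2 ⊢
    rw [Subgroup.map_sup, hg'1, hg'2]
  have hg'4 : (c : G)⁻¹ * g ∈ Subgroup.centralizer (A : Set G) :=
    Subgroup.centralizer_le (by exact_mod_cast (le_sup_left : A ≤ A ⊔ (P : Subgroup G))) (hnext hg'3)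
  have : g = (c : G) * ((c : G)⁻¹ * g) := by group
  rw [this]
  exact Subgroup.mul_mem _ c.2 hg'4

/-- Downward induction over sets of primes: all partial joins of the Sylow subgroups of an abelian
Hall subgroup `H` with `N(H) ≤ C(H)` are central in their normalizers. -/
theorem normalizer_iSup_le {G : Type*} [Group G] [Finite G] (H : Subgroup G)
    (hcomm : ∀ x ∈ H, ∀ y ∈ H, x * y = y * x)
    (π : Finset ℕ) (Q : ℕ → Subgroup G) (hQH : ∀ p, Q p ≤ H)
    (hQ : ∀ p ∈ π, p.Prime ∧ IsPGroup p (Q p) ∧ ¬ p ∣ (Q p).index)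
    (hH : Subgroup.normalizer ((⨆ p ∈ π, Q p : Subgroup G) : Set G) ≤
      Subgroup.centralizer ((⨆ p ∈ π, Q p : Subgroup G) : Set G)) :
    ∀ n : ℕ, ∀ S : Finset ℕ, S ⊆ π → (π \ S).card = n →
      Subgroup.normalizer ((⨆ p ∈ S, Q p : Subgroup G) : Set G) ≤
        Subgroup.centralizer ((⨆ p ∈ S, Q p : Subgroup G) : Set G) := by
  classical
  intro n
  induction n with
  | zero =>
    intro S hS hcard
    have : S = π :=
      Finset.Subset.antisymm hS (Finset.sdiff_eq_empty_iff_subset.mp (Finset.card_eq_zero.mp hcard))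
    rw [this]; exact hH
  | succ n ih =>
    intro S hS hcard
    have hne : (π \ S).Nonempty := by rw [← Finset.card_pos, hcard]; omega
    obtain ⟨q, hq⟩ := hne
    have hq' := Finset.mem_sdiff.mp hq
    obtain ⟨hqp, hqi, hqidx⟩ := hQ q hq'.1
    have : Fact q.Prime := ⟨hqp⟩
    let P : Sylow q G := hqi.toSylow hqidx
    have hS' : insert q S ⊆ π := Finset.insert_subset hq'.1 hS
    have hcard' : (π \ insert q S).card = n := by
      rw [Finset.sdiff_insert, Finset.card_erase_of_mem hq, hcard]; rfl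
    have hnext := ih (insert q S) hS' hcard'
    rw [Finset.iSup_insert, sup_comm] at hnext
    apply frattini_step P _ _ hnext
    intro x hx
    rw [Subgroup.mem_centralizer_iff]
    intro a ha
    have haH : a ∈ H := (iSup₂_le (fun p _ => hQH p) : (⨆ p ∈ S, Q p) ≤ H) ha
    exact hcomm a haH x (hQH q hx)

/-- A Hall subgroup that is central in its normalizer has a normal complement. -/
theorem result {G : Type*} [Group G] [Finite G] (H : Subgroup G) (hHall : Nat.Coprime (Nat.card H) H.index) (h : Subgroup.normalizer (H : Set G) ≤ Subgroup.centralizer (H : Set G)) : ∃ N : Subgroup G, N.Normal ∧ N.IsComplement' H := by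
  classical
  have hcomm : ∀ x ∈ H, ∀ y ∈ H, x * y = y * x := fun x hx y hy =>
    h (Subgroup.le_normalizer hy) x hx
  let QH : ∀ p : ℕ, Sylow p H := fun p => Classical.arbitrary _
  let Q : ℕ → Subgroup G := fun p => (QH p : Subgroup H).map H.subtype
  have hQH : ∀ p, Q p ≤ H := fun p => Subgroup.map_subtype_le _
  have hQ : ∀ p ∈ (Nat.card H).primeFactors, p.Prime ∧ IsPGroup p (Q p) ∧ ¬ p ∣ (Q p).index := by
    intro p hp
    have hpp := Nat.prime_of_mem_primeFactors hp
    have : Fact p.Prime := ⟨hpp⟩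
    refine ⟨hpp, (QH p).isPGroup'.map _, ?_⟩
    rw [Subgroup.index_map_subtype]
    intro hdvd
    rcases (Nat.Prime.dvd_mul hpp).mp hdvd with h1 | h1
    · exact (QH p).not_dvd_index h1
    · have h2 : p ∣ Nat.card H := Nat.dvd_of_mem_primeFactors hp
      have h3 := Nat.dvd_gcd h2 h1
      rw [Nat.Coprime.gcd_eq_one hHall] at h3
      exact hpp.one_lt.ne' (Nat.dvd_one.mp h3)
  have hsup : (⨆ p ∈ (Nat.card H).primeFactors, Q p) = H := by
    apply le_antisymm (iSup₂_le fun p _ => hQH p)
    by_contra hne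
    have h1 : ((⨆ p ∈ (Nat.card H).primeFactors, Q p).subgroupOf H) ≠ ⊤ := by
      rwa [Ne, Subgroup.subgroupOf_eq_top]
    have hidx : ((⨆ p ∈ (Nat.card H).primeFactors, Q p).subgroupOf H).index ≠ 1 := by
      rwa [Ne, Subgroup.index_eq_one]
    obtain ⟨q, hq, hdvd⟩ := Nat.exists_prime_and_dvd hidx
    have hqH : q ∣ Nat.card H := hdvd.trans (Subgroup.index_dvd_card _)
    have hqπ : q ∈ (Nat.card H).primeFactors := Nat.mem_primeFactors.mpr ⟨hq, hqH, Nat.card_pos.ne'⟩
    have : Fact q.Prime := ⟨hq⟩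
    have hle : (QH q : Subgroup H) ≤ (⨆ p ∈ (Nat.card H).primeFactors, Q p).subgroupOf H := by
      intro x hx
      rw [Subgroup.mem_subgroupOf]
      exact (le_iSup₂ (f := fun p _ => Q p) q hqπ) ⟨x, hx, rfl⟩
    exact (QH q).not_dvd_index (hdvd.trans (Subgroup.index_dvd_of_le hle))
  have hmain := normalizer_iSup_le H hcomm (Nat.card H).primeFactors Q hQH hQ (by rw [hsup]; exact h)
  have hNC : ∀ p ∈ (Nat.card H).primeFactors, Subgroup.normalizer ((Q p : Subgroup G) : Set G) ≤
      Subgroup.centralizer ((Q p : Subgroup G) : Set G) := by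
    intro p hp
    have := hmain _ {p} (Finset.singleton_subset_iff.mpr hp) rfl
    rwa [Finset.iSup_singleton] at this
  have hK : ∀ p, ∃ K : Subgroup G, K.Normal ∧ (p ∈ (Nat.card H).primeFactors → K.IsComplement' (Q p)) := by
    intro p
    by_cases hp : p ∈ (Nat.card H).primeFactors
    · obtain ⟨hpp, hpi, hpidx⟩ := hQ p hp
      have : Fact p.Prime := ⟨hpp⟩
      let P : Sylow p G := hpi.toSylow hpidx
      have hP : Subgroup.normalizer ((P : Subgroup G) : Set G) ≤ Subgroup.centralizer (P : Set G) :=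
        hNC p hp
      exact ⟨(MonoidHom.transferSylow P hP).ker, inferInstance,
        fun _ => MonoidHom.ker_transferSylow_isComplement' P hP⟩
    · exact ⟨⊤, inferInstance, fun h => absurd h hp⟩
  choose K hKn hKc using hK
  refine ⟨⨅ p ∈ (Nat.card H).primeFactors, K p,
    Subgroup.normal_iInf_normal fun p => Subgroup.normal_iInf_normal fun _ => hKn p, ?_⟩
  have hKcard : ∀ p ∈ (Nat.card H).primeFactors, Nat.card (K p) = (Q p).index := by
    intro p hp
    have h1 := (hKc p hp).card_mul_card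
    have h2 := (Q p).card_mul_index
    have hpos : 0 < Nat.card (Q p) := Nat.card_pos
    exact Nat.eq_of_mul_eq_mul_left hpos (by rw [h2, mul_comm, h1])
  have hKidx : ∀ p ∈ (Nat.card H).primeFactors, (K p).index = Nat.card (Q p) := by
    intro p hp
    have h1 := (hKc p hp).card_mul_card
    have h2 := (K p).card_mul_index
    have hpos : 0 < Nat.card (K p) := Nat.card_pos
    exact Nat.eq_of_mul_eq_mul_left hpos (by rw [h2, h1])
  have hcop : Nat.Coprime (Nat.card (⨅ p ∈ (Nat.card H).primeFactors, K p : Subgroup G)) (Nat.card H) := by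
    apply Nat.Coprime.symm
    apply Nat.coprime_of_dvd
    intro k hk hkH hkN
    have hkπ : k ∈ (Nat.card H).primeFactors := Nat.mem_primeFactors.mpr ⟨hk, hkH, Nat.card_pos.ne'⟩
    have hNK : (⨅ p ∈ (Nat.card H).primeFactors, K p) ≤ K k := iInf₂_le k hkπ
    have h3 := hkN.trans (Subgroup.card_dvd_of_le hNK)
    rw [hKcard k hkπ] at h3
    exact (hQ k hkπ).2.2 h3
  have hdisj : Disjoint (⨅ p ∈ (Nat.card H).primeFactors, K p) H :=
    Subgroup.disjoint_of_coprime_natCard hcop
  have hidx : (⨅ p ∈ (Nat.card H).primeFactors, K p).index ≤ Nat.card H := by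
    calc (⨅ p ∈ (Nat.card H).primeFactors, K p).index
        = (⨅ p : (Nat.card H).primeFactors, K p).index := by rw [iInf_subtype']
      _ ≤ ∏ p : (Nat.card H).primeFactors, (K p).index := Subgroup.index_iInf_le _
      _ = ∏ p ∈ (Nat.card H).primeFactors, (K p).index :=
          Finset.prod_coe_sort (Nat.card H).primeFactors (fun p => (K p).index)
      _ = ∏ p ∈ (Nat.card H).primeFactors, p ^ (Nat.card H).factorization p := by
          refine Finset.prod_congr rfl fun p hp => ?_
          have : Fact p.Prime := ⟨Nat.prime_of_mem_primeFactors hp⟩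
          rw [hKidx p hp, Subgroup.card_map_of_injective H.subtype_injective]
          exact (QH p).card_eq_multiplicity
      _ = Nat.card H := Nat.prod_factorization_pow_eq_self Nat.card_pos.ne'
  apply Subgroup.isComplement'_of_card_mul_and_disjoint _ hdisj
  apply le_antisymm
  · have := Nat.card_le_card_of_injective _ (Subgroup.mul_injective_of_disjoint hdisj)
    rwa [Nat.card_prod] at this
  · calc Nat.card G = Nat.card (⨅ p ∈ (Nat.card H).primeFactors, K p : Subgroup G) *
          (⨅ p ∈ (Nat.card H).primeFactors, K p).index := (Subgroup.card_mul_index _).symm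
      _ ≤ _ := Nat.mul_le_mul_left _ hidx

end Cfsg.Agent.S0087
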