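import Cfsg.Statements.S0088
-- import your own Cfsg.Agent.* helpers here

set_option autoImplicit false
open Cfsg

namespace Cfsg.Agent.S0088


open scoped IsMulCommutative in
theorem aux {G : Type*} [Group G] [Finite G] (H : Subgroup G) [IsMulCommutative H]
    (z : G) (hzG' : z ∈ commutator G) (hzZ : z ∈ Subgroup.center G) :
    z ^ H.index = 1 := by
  have key : ∀ (k : ℕ) (g₀ : G), g₀⁻¹ * z ^ k * g₀ ∈ H → g₀⁻¹ * z ^ k * g₀ = z ^ k := by
    intro k g₀ _
    have hk : z ^ k ∈ Subgroup.center G := Subgroup.pow_mem _ hzZ k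
    rw [Subgroup.mem_center_iff] at hk
    rw [mul_assoc, ← hk g₀, ← mul_assoc, inv_mul_cancel, one_mul]
  have h1 := MonoidHom.transfer_eq_pow (MonoidHom.id H) z key
  have h2 : MonoidHom.transfer (MonoidHom.id H) z = 1 := by
    have := Abelianization.commutator_subset_ker (MonoidHom.transfer (MonoidHom.id H)) hzG'
    exact MonoidHom.mem_ker.mp this
  rw [h2] at h1
  have := congrArg Subtype.val h1
  simpa using this.symm

/-- An abelian Hall subgroup meets G' ∩ Z(G) trivially. -/
theorem result {G : Type*} [Group G] [Finite G] (H : Subgroup G) (hc : IsMulCommutative H) (hHall : Nat.Coprime (Nat.card H) H.index) : H ⊓ commutator G ⊓ Subgroup.center G = ⊥ := by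
  rw [eq_bot_iff]
  rintro z ⟨⟨hzH, hzG'⟩, hzZ⟩
  have h1 : z ^ H.index = 1 := aux H z hzG' hzZ
  have h2 : z ^ Nat.card H = 1 := by
    have h3 : (⟨z, hzH⟩ : H) ^ Nat.card H = 1 := pow_card_eq_one'
    have h4 := congrArg Subtype.val h3
    rwa [Subgroup.coe_pow, Subgroup.coe_one] at h4
  have hd1 : orderOf z ∣ H.index := orderOf_dvd_of_pow_eq_one h1
  have hd2 : orderOf z ∣ Nat.card H := orderOf_dvd_of_pow_eq_one h2
  have : orderOf z ∣ 1 := by
    have := Nat.dvd_gcd hd2 hd1
    rwa [hHall] at this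
  rw [Subgroup.mem_bot]
  exact orderOf_eq_one_iff.mp (Nat.dvd_one.mp this)

end Cfsg.Agent.S0088
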