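import Cfsg.Statements.S0090
import Cfsg.Agent.S0088
import Cfsg.Agent.S0055
import Mathlib.GroupTheory.SchurZassenhaus

set_option autoImplicit false
open Cfsg
open scoped commutatorElement Pointwise

namespace Cfsg.Agent.S0090

/-- An abelian normal Hall subgroup A splits as the internal direct product of G' ∩ A and Z(G) ∩ A, and [A, G] = G' ∩ A. -/
theorem result {G : Type*} [Group G] [Finite G] (A : Subgroup G) [A.Normal] (hc : IsMulCommutative A) (hHall : Nat.Coprime (Nat.card A) A.index) : ⁅A, (⊤ : Subgroup G)⁆ = commutator G ⊓ A ∧ (commutator G ⊓ A) ⊓ (Subgroup.center G ⊓ A) = ⊥ ∧ (commutator G ⊓ A) ⊔ (Subgroup.center G ⊓ A) = A := by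
  -- (i) disjointness from S0088
  have hdisj : A ⊓ commutator G ⊓ Subgroup.center G = ⊥ := Cfsg.Agent.S0088.result A hc hHall
  have hAGn : (⁅A, (⊤ : Subgroup G)⁆).Normal := inferInstance
  have hAG_le_comm : ⁅A, (⊤ : Subgroup G)⁆ ≤ commutator G := by
    rw [commutator_def]; exact Subgroup.commutator_mono le_top le_rfl
  have hAG_le_A : ⁅A, (⊤ : Subgroup G)⁆ ≤ A := Subgroup.commutator_le_left A ⊤
  -- (iii) Schur–Zassenhaus complement and coprime action
  obtain ⟨K, hK⟩ := Subgroup.exists_right_complement'_of_coprime hHall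
  have hKcard : Nat.card K = A.index := hK.symm.index_eq_card.symm
  have hKA : K ≤ Subgroup.normalizer (A : Set G) := by
    rw [Subgroup.normalizer_eq_top_iff.mpr inferInstance]; exact le_top
  have hcop : (Nat.card K).Coprime (Nat.card A) := by rw [hKcard]; exact hHall.symm
  obtain ⟨-, hsup⟩ := Cfsg.Agent.S0055.result K A hKA hcop
  have hfix_le : A ⊓ Subgroup.centralizer (K : Set G) ≤ Subgroup.center G ⊓ A := by
    rintro x ⟨hxA, hxK⟩
    refine Subgroup.mem_inf.mpr ⟨?_, hxA⟩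
    rw [Subgroup.mem_center_iff]
    intro g
    have hg : g ∈ A ⊔ K := by rw [hK.sup_eq_top]; exact Subgroup.mem_top g
    -- x commutes with A and K, hence with A ⊔ K
    have hcent : A ⊔ K ≤ Subgroup.centralizer {x} := by
      apply sup_le
      · intro a ha
        rw [Subgroup.mem_centralizer_singleton_iff]
        have := hc.is_comm.comm (⟨a, ha⟩ : A) ⟨x, hxA⟩
        exact congrArg Subtype.val this
      · intro k hk
        rw [Subgroup.mem_centralizer_singleton_iff]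
        exact (hxK k hk)
    have := hcent hg
    rw [Subgroup.mem_centralizer_singleton_iff] at this
    exact this
  have hAK_le : ⁅A, K⁆ ≤ ⁅A, (⊤ : Subgroup G)⁆ := Subgroup.commutator_mono le_rfl le_top
  have hA_le : A ≤ ⁅A, (⊤ : Subgroup G)⁆ ⊔ (Subgroup.center G ⊓ A) := by
    calc A = (A ⊓ Subgroup.centralizer (K : Set G)) ⊔ ⁅A, K⁆ := hsup.symm
      _ ≤ (Subgroup.center G ⊓ A) ⊔ ⁅A, (⊤ : Subgroup G)⁆ := sup_le_sup hfix_le hAK_le
      _ = ⁅A, (⊤ : Subgroup G)⁆ ⊔ (Subgroup.center G ⊓ A) := sup_comm _ _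
  -- (iv) G' ∩ A ≤ [A, G]
  have hle : commutator G ⊓ A ≤ ⁅A, (⊤ : Subgroup G)⁆ := by
    rintro x ⟨hxG', hxA⟩
    have hx := hA_le hxA
    rw [← SetLike.mem_coe, Subgroup.normal_mul] at hx
    obtain ⟨c, hcm, z, hz, rfl⟩ := hx
    change c * z ∈ commutator G at hxG'
    have hz1 : z ∈ A ⊓ commutator G ⊓ Subgroup.center G := by
      refine Subgroup.mem_inf.mpr ⟨Subgroup.mem_inf.mpr ⟨hz.2, ?_⟩, hz.1⟩
      have : z = c⁻¹ * (c * z) := by group
      rw [this]
      exact Subgroup.mul_mem _ (Subgroup.inv_mem _ (hAG_le_comm hcm)) hxG'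
    rw [hdisj, Subgroup.mem_bot] at hz1
    change c * z ∈ ⁅A, (⊤ : Subgroup G)⁆
    rw [hz1, mul_one]
    exact hcm
  have heq : ⁅A, (⊤ : Subgroup G)⁆ = commutator G ⊓ A := le_antisymm (le_inf hAG_le_comm hAG_le_A) hle
  refine ⟨heq, ?_, ?_⟩
  · rw [eq_bot_iff, ← hdisj]
    rintro x ⟨⟨h1, h2⟩, h3, -⟩
    exact Subgroup.mem_inf.mpr ⟨Subgroup.mem_inf.mpr ⟨h2, h1⟩, h3⟩
  · apply le_antisymm
    · exact sup_le inf_le_right inf_le_right
    · rw [← heq]; exact hA_le

end Cfsg.Agent.S0090
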