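import Cfsg.Statements.S0091
-- import your own Cfsg.Agent.* helpers here

set_option autoImplicit false
open Cfsg
open scoped commutatorElement

namespace Cfsg.Agent.S0091

/-- If a nontrivial Sylow p-subgroup controls its own fusion then it is not contained in the derived subgroup. -/
theorem result {G : Type*} [Group G] [Finite G] {p : ℕ} [Fact p.Prime] (P : Sylow p G) (hp : p ∣ Nat.card G) (h : ∀ x ∈ P, ∀ y ∈ P, (∃ g : G, g * x * g⁻¹ = y) → ∃ z ∈ P, z * x * z⁻¹ = y) : ¬ (P : Subgroup G) ≤ commutator G := by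
  intro hle
  have hfoc : commutator G ⊓ (P : Subgroup G) = (P : Subgroup G).focalSubgroup :=
    Subgroup.commutator_inf_eq_focalSubgroup P
  have hP : (P : Subgroup G).focalSubgroup = (P : Subgroup G) := by
    rw [← hfoc]; exact inf_eq_right.mpr hle
  have hfle : (P : Subgroup G).focalSubgroup ≤ ⁅(P : Subgroup G), (P : Subgroup G)⁆ := by
    rw [Subgroup.focalSubgroup_def, Subgroup.closure_le]
    rintro g ⟨hgP, x, hxP, u, rfl⟩
    have hxinv : x⁻¹ ∈ (P : Subgroup G) := Subgroup.inv_mem _ hxP
    have hconj : u * x⁻¹ * u⁻¹ ∈ (P : Subgroup G) := by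
      have := Subgroup.mul_mem _ hxinv hgP
      rw [commutatorElement_def] at this
      simpa [mul_assoc] using this
    obtain ⟨z, hz, hzx⟩ := h x⁻¹ hxinv (u * x⁻¹ * u⁻¹) hconj ⟨u, rfl⟩
    have : ⁅x, u⁆ = ⁅x, z⁆ := by
      rw [commutatorElement_def, commutatorElement_def]
      calc x * u * x⁻¹ * u⁻¹ = x * (u * x⁻¹ * u⁻¹) := by group
        _ = x * (z * x⁻¹ * z⁻¹) := by rw [hzx]
        _ = x * z * x⁻¹ * z⁻¹ := by group
    rw [SetLike.mem_coe, this]
    exact Subgroup.commutator_mem_commutator hxP hz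
  have hne : (P : Subgroup G) ≠ ⊥ := P.ne_bot_of_dvd_card hp
  have : Group.IsNilpotent (P : Subgroup G) := P.isPGroup'.isNilpotent
  have : Nontrivial (P : Subgroup G) := (Subgroup.nontrivial_iff_ne_bot _).mpr hne
  have hlt : commutator (P : Subgroup G) < ⊤ :=
    Group.IsSolvable.commutator_lt_top_of_nontrivial (P : Subgroup G)
  have hlt' : ⁅(P : Subgroup G), (P : Subgroup G)⁆ < (P : Subgroup G) := by
    rw [← Subgroup.map_subtype_commutator]
    have := (Subgroup.map_subtype_lt_map_subtype (G := G) (G' := (P : Subgroup G))).mpr hlt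
    rw [← MonoidHom.range_eq_map, Subgroup.range_subtype] at this
    exact this
  rw [hP] at hfle
  exact absurd hfle (not_le_of_gt hlt')

end Cfsg.Agent.S0091
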