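import Cfsg.Statements.S0094
import Cfsg.Agent.S0012

set_option autoImplicit false
open Cfsg
open scoped commutatorElement

namespace Cfsg.Agent.S0094


theorem comm_pow_of_central {P : Type*} [Group P] (x y : P) (hc : ⁅x, y⁆ ∈ Subgroup.center P) (n : ℕ) :
    ⁅x ^ n, y⁆ = ⁅x, y⁆ ^ n := by
  induction n with
  | zero => simp
  | succ n ih =>
    have h1 : ⁅x ^ (n + 1), y⁆ = x * ⁅x ^ n, y⁆ * x⁻¹ * ⁅x, y⁆ := by
      simp only [commutatorElement_def, pow_succ']
      group
    rw [h1, ih]
    have hcn : ⁅x, y⁆ ^ n ∈ Subgroup.center P := Subgroup.pow_mem _ hc n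
    rw [Subgroup.mem_center_iff] at hcn
    rw [hcn x, mul_assoc (⁅x, y⁆ ^ n) x x⁻¹, mul_inv_cancel, mul_one, ← pow_succ]

/-- In a special p-group every central element has order dividing p. -/
theorem result {P : Type*} [Group P] [Finite P] {p : ℕ} [Fact p.Prime] (h : Cfsg.IsSpecial p P) (z : P) (hz : z ∈ Subgroup.center P) : z ^ p = 1 := by
  obtain ⟨hPG, hfr, hcm⟩ := h
  have hkey : ∀ z ∈ commutator P, z ∈ Subgroup.center P ∧ z ^ p = 1 := by
    intro z hz
    rw [commutator_eq_closure] at hz
    induction hz using Subgroup.closure_induction with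
    | mem w hw =>
      obtain ⟨x, y, rfl⟩ := hw
      have hc : ⁅x, y⁆ ∈ Subgroup.center P := by
        rw [← hcm]; exact Subgroup.commutator_mem_commutator (Subgroup.mem_top x) (Subgroup.mem_top y)
      refine ⟨hc, ?_⟩
      rw [← comm_pow_of_central x y hc p]
      have hxp : x ^ p ∈ Subgroup.center P := by
        rw [← hfr]; exact (Cfsg.Agent.S0012.result p hPG).2 x
      rw [Subgroup.mem_center_iff] at hxp
      rw [commutatorElement_def, ← hxp y, mul_assoc y, mul_inv_cancel, mul_one, mul_inv_cancel]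
    | one => exact ⟨Subgroup.one_mem _, one_pow p⟩
    | mul a b _ _ iha ihb =>
      refine ⟨Subgroup.mul_mem _ iha.1 ihb.1, ?_⟩
      have hcomm : Commute a b := by
        have := Subgroup.mem_center_iff.mp iha.1 b
        exact this.symm
      rw [hcomm.mul_pow, iha.2, ihb.2, one_mul]
    | inv a _ iha =>
      exact ⟨Subgroup.inv_mem _ iha.1, by rw [inv_pow, iha.2, inv_one]⟩
  exact (hkey z (by rw [hcm]; exact hz)).2

end Cfsg.Agent.S0094
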