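import Cfsg.Statements.S0097
import Cfsg.Agent.S0094
import Cfsg.Agent.S0096

set_option autoImplicit false
open Cfsg
open scoped commutatorElement

namespace Cfsg.Agent.S0097


section
variable {E : Type*} [Group E] [Finite E] {p : ℕ} [Fact p.Prime]

omit [Finite E] [Fact (Nat.Prime p)] in
theorem class_two (h : Cfsg.IsExtraspecial p E) : ⁅commutator E, (⊤ : Subgroup E)⁆ = ⊥ := by
  rw [h.1.2.2, eq_bot_iff, Subgroup.commutator_le]
  intro c hc g _
  rw [Subgroup.mem_bot, commutatorElement_eq_one_iff_commute]
  exact (Subgroup.mem_center_iff.mp hc g).symm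

theorem pow_p_mem_center (h : Cfsg.IsExtraspecial p E) (x : E) : x ^ p ∈ Subgroup.center E := by
  rw [← h.1.2.1]; exact (Cfsg.Agent.S0012.result p h.1.1).2 x

theorem mul_pow_p (hp : p ≠ 2) (h : Cfsg.IsExtraspecial p E) (x y : E) :
    (x * y) ^ p = x ^ p * y ^ p := by
  have hpp : p.Prime := Fact.out
  have hz : ⁅y, x⁆ ∈ Subgroup.center E := by
    rw [← h.1.2.2]
    exact Subgroup.commutator_mem_commutator (Subgroup.mem_top y) (Subgroup.mem_top x)
  have hzx : Commute ⁅y, x⁆ x := (Subgroup.mem_center_iff.mp hz x).symm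
  have hzy : Commute ⁅y, x⁆ y := (Subgroup.mem_center_iff.mp hz y).symm
  have hrel : y * x = ⁅y, x⁆ * x * y := by rw [commutatorElement_def]; group
  have hzp : ⁅y, x⁆ ^ p = 1 := Cfsg.Agent.S0094.result h.1 _ hz
  have hdvd : p ∣ p.choose 2 := by
    apply hpp.dvd_choose_self (by norm_num)
    have := hpp.two_le
    omega
  obtain ⟨m, hm⟩ := hdvd
  rw [Cfsg.Agent.Lib.Helper24.mul_pow_of_central_comm x y _ hrel hzx hzy p, hm, pow_mul, hzp]
  simp

/-- The `p`-th power homomorphism `E → Z(E)` of an extraspecial `p`-group, `p` odd. -/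
def powHom (hp : p ≠ 2) (h : Cfsg.IsExtraspecial p E) : E →* Subgroup.center E where
  toFun x := ⟨x ^ p, pow_p_mem_center h x⟩
  map_one' := by apply Subtype.ext; simp
  map_mul' x y := by apply Subtype.ext; simp [mul_pow_p hp h x y]

theorem ker_powHom_le (hp : p ≠ 2) (h : Cfsg.IsExtraspecial p E) :
    (powHom hp h).ker ≤ Subgroup.closure {x : E | x ^ p = 1} := by
  intro x hx
  apply Subgroup.subset_closure
  rw [MonoidHom.mem_ker] at hx
  have := congrArg Subtype.val hx
  simpa [powHom] using this

end

/-- For odd p and E extraspecial, the subgroup generated by the elements of order dividing p has exponent dividing p and index at most p. -/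
theorem result {E : Type*} [Group E] [Finite E] {p : ℕ} [Fact p.Prime] (hp : p ≠ 2) (h : Cfsg.IsExtraspecial p E) : (Subgroup.closure {x : E | x ^ p = 1}).index ≤ p ∧ ∀ g ∈ Subgroup.closure {x : E | x ^ p = 1}, g ^ p = 1 := by
  constructor
  · have h1 : (Subgroup.closure {x : E | x ^ p = 1}).index ∣ (powHom hp h).ker.index :=
      Subgroup.index_dvd_of_le (ker_powHom_le hp h)
    have h2 : (powHom hp h).ker.index = Nat.card (powHom hp h).range := Subgroup.index_ker _
    have h3 : Nat.card (powHom hp h).range ≤ Nat.card (Subgroup.center E) :=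
      Subgroup.card_le_card_group _
    have h4 : 0 < (powHom hp h).ker.index := by
      rw [h2]; exact Nat.card_pos
    calc (Subgroup.closure {x : E | x ^ p = 1}).index ≤ (powHom hp h).ker.index := Nat.le_of_dvd h4 h1
      _ = Nat.card (powHom hp h).range := h2
      _ ≤ Nat.card (Subgroup.center E) := h3
      _ = p := h.2
  · intro g hg
    exact Cfsg.Agent.S0096.result hp h.1.1 (class_two h) g hg

end Cfsg.Agent.S0097
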