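import Cfsg.Statements.S0098
import Mathlib.GroupTheory.Commutator.Basic
import Mathlib.GroupTheory.SpecificGroups.Cyclic
import Mathlib.Data.ZMod.Basic
import Mathlib.Tactic.Group
import Mathlib.GroupTheory.Exponent

set_option autoImplicit false
open Cfsg

namespace Cfsg.Agent.S0098

open scoped commutatorElement

/-- The class of groups used in the induction: exponent `p`, centre of order `p`, class at most two. -/
structure ESClass (p : ℕ) (E : Type*) [Group E] : Prop where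
  exp : ∀ g : E, g ^ p = 1
  cardZ : Nat.card (Subgroup.center E) = p
  comm : ∀ a b : E, ⁅a, b⁆ ∈ Subgroup.center E

section Basic
variable {E : Type*} [Group E]

theorem comm_mul_left (hc : ∀ a b : E, ⁅a, b⁆ ∈ Subgroup.center E) (a b q : E) :
    ⁅a * b, q⁆ = ⁅a, q⁆ * ⁅b, q⁆ := by
  have e : ⁅a * b, q⁆ = a * ⁅b, q⁆ * a⁻¹ * ⁅a, q⁆ := by
    simp only [commutatorElement_def]; group
  have h1 := Subgroup.mem_center_iff.mp (hc b q) a
  have h2 := Subgroup.mem_center_iff.mp (hc b q) ⁅a, q⁆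
  rw [e, h1, mul_assoc ⁅b, q⁆, mul_inv_cancel, mul_one, ← h2]

/-- `e ↦ ⁅e, q⁆` as a homomorphism. -/
def commHom (hc : ∀ a b : E, ⁅a, b⁆ ∈ Subgroup.center E) (q : E) : E →* E :=
  MonoidHom.mk' (fun e => ⁅e, q⁆) (fun a b => comm_mul_left hc a b q)

@[simp] theorem commHom_apply (hc : ∀ a b : E, ⁅a, b⁆ ∈ Subgroup.center E) (q e : E) :
    commHom hc q e = ⁅e, q⁆ := rfl

theorem comm_eq_one_of_commute {c q : E} (h : q * c = c * q) : ⁅c, q⁆ = 1 := by
  rw [commutatorElement_eq_one_iff_mul_comm]; exact h.symm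

end Basic

section ZP
variable {E : Type*} [Group E] {p : ℕ} [Fact p.Prime]

theorem zp_add {g : E} (hg : g ^ p = 1) (a b : ZMod p) :
    g ^ (a + b).val = g ^ a.val * g ^ b.val := by
  rw [ZMod.val_add, ← pow_eq_pow_mod _ hg, pow_add]

theorem zp_inj {z : E} (hz : z ^ p = 1) (hz1 : z ≠ 1) {a b : ZMod p}
    (h : z ^ a.val = z ^ b.val) : a = b := by
  have hp : p.Prime := Fact.out
  have hord : orderOf z = p := orderOf_eq_prime hz hz1
  rw [pow_eq_pow_iff_modEq, hord] at h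
  apply ZMod.val_injective
  exact Nat.ModEq.eq_of_lt_of_lt h (ZMod.val_lt a) (ZMod.val_lt b)

end ZP


section Decomp
variable {E : Type*} [Group E] {p : ℕ} [Fact p.Prime]

theorem exists_zp_eq [Finite E] (hE : ESClass p E) {z : E} (hz : z ∈ Subgroup.center E) (hz1 : z ≠ 1)
    {w : E} (hw : w ∈ Subgroup.center E) : ∃ a : ZMod p, z ^ a.val = w := by
  have hp : p.Prime := Fact.out
  have hzp : z ^ p = 1 := hE.exp z
  have hord : orderOf z = p := orderOf_eq_prime hzp hz1
  have hne : (⟨z, hz⟩ : Subgroup.center E) ≠ 1 := fun h => hz1 (congrArg Subtype.val h)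
  have htop := zpowers_eq_top_of_prime_card hE.cardZ hne
  have hmem : (⟨w, hw⟩ : Subgroup.center E) ∈ Subgroup.zpowers (⟨z, hz⟩ : Subgroup.center E) := by
    rw [htop]; exact Subgroup.mem_top _
  obtain ⟨k, hk⟩ := Subgroup.mem_zpowers_iff.mp hmem
  have hk' : z ^ k = w := by
    have := congrArg Subtype.val hk
    simpa using this
  refine ⟨(k : ZMod p), ?_⟩
  rw [← hk', ← zpow_natCast, ZMod.val_intCast, ← hord, zpow_mod_orderOf]

variable (x y z : E)

/-- The normal form map `(a, b, c) ↦ x ^ a * y ^ b * c`. -/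
def nf (t : ZMod p × ZMod p × Subgroup.centralizer ({x, y} : Set E)) : E :=
  x ^ t.1.val * y ^ t.2.1.val * (t.2.2 : E)

variable {x y z}

theorem mem_C_iff {c : E} :
    c ∈ Subgroup.centralizer ({x, y} : Set E) ↔ x * c = c * x ∧ y * c = c * y := by
  rw [Subgroup.mem_centralizer_iff]
  constructor
  · intro h
    exact ⟨h x (by simp), h y (by simp)⟩
  · rintro ⟨h1, h2⟩ g hg
    rcases hg with rfl | rfl
    · exact h1
    · exact h2

theorem center_le_C : Subgroup.center E ≤ Subgroup.centralizer ({x, y} : Set E) :=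
  Subgroup.center_le_centralizer _

variable (hE : ESClass p E) (hz : z ∈ Subgroup.center E) (hz1 : z ≠ 1) (hxy : ⁅x, y⁆ = z)
include hE hz hz1 hxy

theorem nf_surjective [Finite E] : Function.Surjective (nf (p := p) x y) := by
  intro e
  have hzp : z ^ p = 1 := hE.exp z
  obtain ⟨a, ha⟩ := exists_zp_eq hE hz hz1 (hE.comm e y)
  obtain ⟨b', hb'⟩ := exists_zp_eq hE hz hz1 (hE.comm e x)
  have hneg : (z⁻¹) ^ (-b').val = z ^ b'.val := by
    have h1 : z ^ b'.val * z ^ (-b').val = 1 := by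
      rw [← zp_add hzp, add_neg_cancel, ZMod.val_zero, pow_zero]
    rw [inv_pow]
    exact (eq_inv_of_mul_eq_one_left h1).symm
  set d : E := x ^ a.val * y ^ (-b').val with hd
  have hfy : commHom hE.comm y d = ⁅e, y⁆ := by
    rw [hd, map_mul, map_pow, map_pow, commHom_apply, commHom_apply, hxy, commutatorElement_self,
      one_pow, mul_one, ha]
  have hfx : commHom hE.comm x d = ⁅e, x⁆ := by
    rw [hd, map_mul, map_pow, map_pow, commHom_apply, commHom_apply, commutatorElement_self,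
      one_pow, one_mul, ← commutatorElement_inv, hxy, hneg, hb']
  have hcy : ⁅d⁻¹ * e, y⁆ = 1 := by
    have := map_mul (commHom hE.comm y) d⁻¹ e
    rw [map_inv, hfy] at this
    simp only [commHom_apply] at this
    rw [this, inv_mul_cancel]
  have hcx : ⁅d⁻¹ * e, x⁆ = 1 := by
    have := map_mul (commHom hE.comm x) d⁻¹ e
    rw [map_inv, hfx] at this
    simp only [commHom_apply] at this
    rw [this, inv_mul_cancel]
  have hc : d⁻¹ * e ∈ Subgroup.centralizer ({x, y} : Set E) := by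
    rw [mem_C_iff]
    exact ⟨(commutatorElement_eq_one_iff_mul_comm.mp hcx).symm,
      (commutatorElement_eq_one_iff_mul_comm.mp hcy).symm⟩
  refine ⟨(a, -b', ⟨d⁻¹ * e, hc⟩), ?_⟩
  show x ^ a.val * y ^ (-b').val * (d⁻¹ * e) = e
  rw [← hd, mul_inv_cancel_left]

theorem nf_injective : Function.Injective (nf (p := p) x y) := by
  rintro ⟨a, b, c⟩ ⟨a', b', c'⟩ h
  have hzp : z ^ p = 1 := hE.exp z
  have h' : x ^ a.val * y ^ b.val * (c : E) = x ^ a'.val * y ^ b'.val * (c' : E) := h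
  have hcC : ∀ c : Subgroup.centralizer ({x, y} : Set E),
      ⁅(c : E), y⁆ = 1 ∧ ⁅(c : E), x⁆ = 1 := by
    intro c
    have := mem_C_iff.mp c.2
    exact ⟨comm_eq_one_of_commute this.2, comm_eq_one_of_commute this.1⟩
  have hy : ∀ (a b : ZMod p) (c : Subgroup.centralizer ({x, y} : Set E)),
      commHom hE.comm y (x ^ a.val * y ^ b.val * (c : E)) = z ^ a.val := by
    intro a b c
    rw [map_mul, map_mul, map_pow, map_pow, commHom_apply, commHom_apply, commHom_apply, hxy,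
      commutatorElement_self, one_pow, mul_one, (hcC c).1, mul_one]
  have hx : ∀ (a b : ZMod p) (c : Subgroup.centralizer ({x, y} : Set E)),
      commHom hE.comm x (x ^ a.val * y ^ b.val * (c : E)) = (z⁻¹) ^ b.val := by
    intro a b c
    rw [map_mul, map_mul, map_pow, map_pow, commHom_apply, commHom_apply, commHom_apply,
      commutatorElement_self, one_pow, one_mul, ← commutatorElement_inv, hxy, (hcC c).2, mul_one]
  have ha : a = a' := by
    apply zp_inj hzp hz1
    rw [← hy a b c, ← hy a' b' c', h']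
  have hb : b = b' := by
    have hz1' : z⁻¹ ≠ 1 := fun h => hz1 (inv_eq_one.mp h)
    have hzp' : z⁻¹ ^ p = 1 := by rw [inv_pow, hzp, inv_one]
    apply zp_inj hzp' hz1'
    rw [← hx a b c, ← hx a' b' c', h']
  subst ha hb
  have hc : (c : E) = c' := mul_left_cancel h'
  rw [Subtype.ext hc]

theorem yx_pow (m n : ℕ) : y ^ m * x ^ n = (z ^ (n * m))⁻¹ * x ^ n * y ^ m := by
  have h1 : ⁅y ^ m, x ^ n⁆ = (z ^ (n * m))⁻¹ := by
    have e1 : ⁅y ^ m, x ^ n⁆ = ⁅y, x ^ n⁆ ^ m := by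
      have := map_pow (commHom hE.comm (x ^ n)) y m
      simpa using this
    have e2 : ⁅x ^ n, y⁆ = z ^ n := by
      have := map_pow (commHom hE.comm y) x n
      simp only [commHom_apply] at this
      rw [this, hxy]
    rw [e1, ← commutatorElement_inv, e2, inv_pow, ← pow_mul]
  rw [← h1, commutatorElement_def]
  group

theorem nf_mul (t t' : ZMod p × ZMod p × Subgroup.centralizer ({x, y} : Set E)) :
    nf x y t * nf x y t' =
      nf x y (t.1 + t'.1, t.2.1 + t'.2.1,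
        (⟨z ^ (t'.1.val * t.2.1.val), center_le_C (Subgroup.pow_mem _ hz _)⟩)⁻¹ * t.2.2 * t'.2.2) := by
  obtain ⟨a, b, c⟩ := t
  obtain ⟨a', b', c'⟩ := t'
  have hxp : x ^ p = 1 := hE.exp x
  have hyp : y ^ p = 1 := hE.exp y
  have hc := mem_C_iff.mp c.2
  have hcx : Commute (c : E) (x ^ a'.val) := (Commute.pow_right hc.1.symm _)
  have hcy : Commute (c : E) (y ^ b'.val) := (Commute.pow_right hc.2.symm _)
  have hzc : ∀ g : E, Commute ((z ^ (a'.val * b.val))⁻¹) g := by
    intro g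
    have := Subgroup.mem_center_iff.mp (Subgroup.inv_mem _ (Subgroup.pow_mem _ hz (a'.val * b.val))) g
    exact this.symm
  show x ^ a.val * y ^ b.val * (c : E) * (x ^ a'.val * y ^ b'.val * (c' : E)) =
    x ^ (a + a').val * y ^ (b + b').val * ((z ^ (a'.val * b.val))⁻¹ * (c : E) * (c' : E))
  rw [zp_add hxp, zp_add hyp]
  calc x ^ a.val * y ^ b.val * (c : E) * (x ^ a'.val * y ^ b'.val * (c' : E))
      = x ^ a.val * y ^ b.val * ((c : E) * x ^ a'.val) * y ^ b'.val * (c' : E) := by group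
    _ = x ^ a.val * y ^ b.val * (x ^ a'.val * (c : E)) * y ^ b'.val * (c' : E) := by rw [hcx.eq]
    _ = x ^ a.val * (y ^ b.val * x ^ a'.val) * ((c : E) * y ^ b'.val) * (c' : E) := by group
    _ = x ^ a.val * ((z ^ (a'.val * b.val))⁻¹ * x ^ a'.val * y ^ b.val) * (y ^ b'.val * (c : E)) *
          (c' : E) := by rw [yx_pow hE hz hz1 hxy, hcy.eq]
    _ = x ^ a.val * (z ^ (a'.val * b.val))⁻¹ * (x ^ a'.val * y ^ b.val * y ^ b'.val * (c : E) *
          (c' : E)) := by group
    _ = (z ^ (a'.val * b.val))⁻¹ * x ^ a.val * (x ^ a'.val * y ^ b.val * y ^ b'.val * (c : E) *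
          (c' : E)) := by rw [(hzc (x ^ a.val)).eq]
    _ = (z ^ (a'.val * b.val))⁻¹ * (x ^ a.val * x ^ a'.val * (y ^ b.val * y ^ b'.val)) * (c : E) *
          (c' : E) := by group
    _ = (x ^ a.val * x ^ a'.val * (y ^ b.val * y ^ b'.val)) * (z ^ (a'.val * b.val))⁻¹ * (c : E) *
          (c' : E) := by rw [(hzc (x ^ a.val * x ^ a'.val * (y ^ b.val * y ^ b'.val))).eq]
    _ = x ^ a.val * x ^ a'.val * (y ^ b.val * y ^ b'.val) *
          ((z ^ (a'.val * b.val))⁻¹ * (c : E) * (c' : E)) := by group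

theorem center_C_map [Finite E] :
    (Subgroup.center (Subgroup.centralizer ({x, y} : Set E))).map
      (Subgroup.centralizer ({x, y} : Set E)).subtype = Subgroup.center E := by
  ext g
  constructor
  · rintro ⟨c, hc, rfl⟩
    rw [Subgroup.mem_center_iff]
    intro e
    obtain ⟨⟨a, b, c'⟩, rfl⟩ := nf_surjective hE hz hz1 hxy e
    have hcC := mem_C_iff.mp c.2
    have h1 : Commute (x ^ a.val) (c : E) := Commute.pow_left hcC.1 _
    have h2 : Commute (y ^ b.val) (c : E) := Commute.pow_left hcC.2 _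
    have h3 : Commute (c' : E) (c : E) := by
      have := Subgroup.mem_center_iff.mp hc c'
      exact congrArg Subtype.val this
    exact ((h1.mul_left h2).mul_left h3).eq
  · intro hg
    refine ⟨⟨g, center_le_C hg⟩, ?_, rfl⟩
    rw [SetLike.mem_coe, Subgroup.mem_center_iff]
    intro c
    apply Subtype.ext
    exact Subgroup.mem_center_iff.mp hg c

theorem esclass_C [Finite E] : ESClass p (Subgroup.centralizer ({x, y} : Set E)) where
  exp := fun g => Subtype.ext (by simpa using hE.exp (g : E))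
  cardZ := by
    rw [← Subgroup.card_map_of_injective (Subgroup.subtype_injective _),
      center_C_map hE hz hz1 hxy, hE.cardZ]
  comm := by
    intro a b
    rw [Subgroup.mem_center_iff]
    intro c
    apply Subtype.ext
    have := Subgroup.mem_center_iff.mp (hE.comm (a : E) (b : E)) (c : E)
    have e : ((⁅a, b⁆ : Subgroup.centralizer ({x, y} : Set E)) : E) = ⁅(a : E), (b : E)⁆ := by
      simp [commutatorElement_def]
    simp only [Subgroup.coe_mul, e]
    exact this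

theorem card_eq [Finite E] :
    Nat.card E = p * (p * Nat.card (Subgroup.centralizer ({x, y} : Set E))) := by
  have e := Equiv.ofBijective (nf (p := p) x y)
    ⟨nf_injective hE hz hz1 hxy, nf_surjective hE hz hz1 hxy⟩
  rw [← Nat.card_congr e, Nat.card_prod, Nat.card_prod, Nat.card_zmod]

end Decomp

section Main
variable {p : ℕ} [Fact p.Prime]

theorem exists_comm_eq {E : Type*} [Group E] [Finite E] (hE : ESClass p E) {z : E}
    (hz : z ∈ Subgroup.center E) (hne : Subgroup.center E ≠ ⊤) : ∃ x y : E, ⁅x, y⁆ = z := by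
  have hex : ∃ x : E, x ∉ Subgroup.center E := by
    by_contra hcon
    push Not at hcon
    exact hne (eq_top_iff.mpr fun g _ => hcon g)
  obtain ⟨x, hx⟩ := hex
  rw [Subgroup.mem_center_iff] at hx
  push Not at hx
  obtain ⟨y, hy⟩ := hx
  have hw1 : ⁅x, y⁆ ≠ 1 := by
    intro h
    rw [commutatorElement_eq_one_iff_mul_comm] at h
    exact hy h.symm
  obtain ⟨a, ha⟩ := exists_zp_eq hE (hE.comm x y) hw1 hz
  refine ⟨x ^ a.val, y, ?_⟩
  have := map_pow (commHom hE.comm y) x a.val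
  simp only [commHom_apply] at this
  rw [this, ha]

/-- The abelian case: the normal form `a ↦ z ^ a`. -/
theorem zpow_bijective {E : Type*} [Group E] [Finite E] (hE : ESClass p E) {z : E}
    (hz : z ∈ Subgroup.center E) (hz1 : z ≠ 1) (htop : Subgroup.center E = ⊤) :
    Function.Bijective (fun a : ZMod p => z ^ a.val) := by
  constructor
  · intro a b h
    exact zp_inj (hE.exp z) hz1 h
  · intro e
    exact exists_zp_eq hE hz hz1 (by rw [htop]; exact Subgroup.mem_top e)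

theorem card_of_center_eq_top {E : Type*} [Group E] [Finite E] (hE : ESClass p E)
    (htop : Subgroup.center E = ⊤) : Nat.card E = p := by
  rw [← hE.cardZ, htop, Subgroup.card_top]

theorem center_eq_top_of_card {E : Type*} [Group E] [Finite E] (hE : ESClass p E)
    (hcard : Nat.card E = p) : Subgroup.center E = ⊤ :=
  Subgroup.eq_top_of_card_eq _ (by rw [hE.cardZ, hcard])

theorem main_aux (n : ℕ) : ∀ (E₁ : Type*) (E₂ : Type*) [Group E₁] [Group E₂] [Finite E₁] [Finite E₂],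
    ESClass p E₁ → ESClass p E₂ → Nat.card E₁ = n → Nat.card E₂ = n →
    ∀ z₁ : E₁, z₁ ∈ Subgroup.center E₁ → z₁ ≠ 1 → ∀ z₂ : E₂, z₂ ∈ Subgroup.center E₂ → z₂ ≠ 1 →
    ∃ φ : E₁ ≃* E₂, φ z₁ = z₂ := by
  induction n using Nat.strong_induction_on with
  | _ n ih =>
  intro E₁ E₂ _ _ _ _ h₁ h₂ hc₁ hc₂ z₁ hz₁ hz₁1 z₂ hz₂ hz₂1
  have hp : p.Prime := Fact.out
  by_cases htop : Subgroup.center E₁ = ⊤
  · -- abelian case
    have hn : n = p := by rw [← hc₁]; exact card_of_center_eq_top h₁ htop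
    have htop₂ : Subgroup.center E₂ = ⊤ := center_eq_top_of_card h₂ (by rw [hc₂, hn])
    let e₁ := Equiv.ofBijective _ (zpow_bijective h₁ hz₁ hz₁1 htop)
    let e₂ := Equiv.ofBijective _ (zpow_bijective h₂ hz₂ hz₂1 htop₂)
    have he₁ : ∀ a : ZMod p, e₁ a = z₁ ^ a.val := fun a => rfl
    have he₂ : ∀ a : ZMod p, e₂ a = z₂ ^ a.val := fun a => rfl
    refine ⟨{ toEquiv := e₁.symm.trans e₂, map_mul' := ?_ }, ?_⟩
    · intro u v
      obtain ⟨a, rfl⟩ := e₁.surjective u
      obtain ⟨b, rfl⟩ := e₁.surjective v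
      have hab : e₁ a * e₁ b = e₁ (a + b) := by
        rw [he₁, he₁, he₁, zp_add (h₁.exp z₁)]
      show e₂ (e₁.symm (e₁ a * e₁ b)) = e₂ (e₁.symm (e₁ a)) * e₂ (e₁.symm (e₁ b))
      rw [hab, Equiv.symm_apply_apply, Equiv.symm_apply_apply, Equiv.symm_apply_apply,
        he₂, he₂, he₂, zp_add (h₂.exp z₂)]
    · have h1 : e₁ 1 = z₁ := by rw [he₁, ZMod.val_one, pow_one]
      have h2 : e₂ 1 = z₂ := by rw [he₂, ZMod.val_one, pow_one]
      show e₂ (e₁.symm z₁) = z₂
      rw [← h1, Equiv.symm_apply_apply, h2]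
  · -- nonabelian case
    have htop₂ : Subgroup.center E₂ ≠ ⊤ := by
      intro h
      apply htop
      apply center_eq_top_of_card h₁
      rw [hc₁, ← hc₂]
      exact card_of_center_eq_top h₂ h
    obtain ⟨x₁, y₁, hxy₁⟩ := exists_comm_eq h₁ hz₁ htop
    obtain ⟨x₂, y₂, hxy₂⟩ := exists_comm_eq h₂ hz₂ htop₂
    have hC₁ := esclass_C h₁ hz₁ hz₁1 hxy₁
    have hC₂ := esclass_C h₂ hz₂ hz₂1 hxy₂
    have hcard₁ := card_eq h₁ hz₁ hz₁1 hxy₁
    have hcard₂ := card_eq h₂ hz₂ hz₂1 hxy₂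
    have hppos : 0 < p := hp.pos
    have hCC : Nat.card (Subgroup.centralizer ({x₁, y₁} : Set E₁)) =
        Nat.card (Subgroup.centralizer ({x₂, y₂} : Set E₂)) := by
      have : p * (p * Nat.card (Subgroup.centralizer ({x₁, y₁} : Set E₁))) =
          p * (p * Nat.card (Subgroup.centralizer ({x₂, y₂} : Set E₂))) := by
        rw [← hcard₁, ← hcard₂, hc₁, hc₂]
      exact Nat.eq_of_mul_eq_mul_left hppos (Nat.eq_of_mul_eq_mul_left hppos this)
    have hlt : Nat.card (Subgroup.centralizer ({x₁, y₁} : Set E₁)) < n := by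
      rw [← hc₁, hcard₁]
      have hpos : 0 < Nat.card (Subgroup.centralizer ({x₁, y₁} : Set E₁)) := Nat.card_pos
      have h2 : 2 ≤ p := hp.two_le
      calc Nat.card (Subgroup.centralizer ({x₁, y₁} : Set E₁))
          < 2 * (2 * Nat.card (Subgroup.centralizer ({x₁, y₁} : Set E₁))) := by omega
        _ ≤ p * (p * Nat.card (Subgroup.centralizer ({x₁, y₁} : Set E₁))) :=
            Nat.mul_le_mul h2 (Nat.mul_le_mul_right _ h2)
    let ζ₁ : Subgroup.centralizer ({x₁, y₁} : Set E₁) := ⟨z₁, center_le_C hz₁⟩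
    let ζ₂ : Subgroup.centralizer ({x₂, y₂} : Set E₂) := ⟨z₂, center_le_C hz₂⟩
    have hζ₁ : ζ₁ ∈ Subgroup.center (Subgroup.centralizer ({x₁, y₁} : Set E₁)) := by
      rw [Subgroup.mem_center_iff]
      intro c
      exact Subtype.ext (Subgroup.mem_center_iff.mp hz₁ c)
    have hζ₂ : ζ₂ ∈ Subgroup.center (Subgroup.centralizer ({x₂, y₂} : Set E₂)) := by
      rw [Subgroup.mem_center_iff]
      intro c
      exact Subtype.ext (Subgroup.mem_center_iff.mp hz₂ c)
    have hζ₁1 : ζ₁ ≠ 1 := fun h => hz₁1 (congrArg Subtype.val h)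
    have hζ₂1 : ζ₂ ≠ 1 := fun h => hz₂1 (congrArg Subtype.val h)
    obtain ⟨ψ, hψ⟩ := ih _ hlt (Subgroup.centralizer ({x₁, y₁} : Set E₁))
      (Subgroup.centralizer ({x₂, y₂} : Set E₂)) hC₁ hC₂ rfl hCC.symm ζ₁ hζ₁ hζ₁1 ζ₂ hζ₂ hζ₂1
    let e₁ := Equiv.ofBijective (nf (p := p) x₁ y₁)
      ⟨nf_injective h₁ hz₁ hz₁1 hxy₁, nf_surjective h₁ hz₁ hz₁1 hxy₁⟩
    let e₂ := Equiv.ofBijective (nf (p := p) x₂ y₂)
      ⟨nf_injective h₂ hz₂ hz₂1 hxy₂, nf_surjective h₂ hz₂ hz₂1 hxy₂⟩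
    let m : ZMod p × ZMod p × Subgroup.centralizer ({x₁, y₁} : Set E₁) ≃
        ZMod p × ZMod p × Subgroup.centralizer ({x₂, y₂} : Set E₂) :=
      Equiv.prodCongr (Equiv.refl _) (Equiv.prodCongr (Equiv.refl _) ψ.toEquiv)
    have hm : ∀ t, m t = (t.1, t.2.1, ψ t.2.2) := fun t => rfl
    have he₁ : ∀ t, e₁ t = nf x₁ y₁ t := fun t => rfl
    have he₂ : ∀ t, e₂ t = nf x₂ y₂ t := fun t => rfl
    refine ⟨{ toEquiv := (e₁.symm.trans m).trans e₂, map_mul' := ?_ }, ?_⟩
    · intro u v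
      obtain ⟨t, rfl⟩ := e₁.surjective u
      obtain ⟨t', rfl⟩ := e₁.surjective v
      show e₂ (m (e₁.symm (e₁ t * e₁ t'))) = e₂ (m (e₁.symm (e₁ t))) * e₂ (m (e₁.symm (e₁ t')))
      have hmul₁ := nf_mul h₁ hz₁ hz₁1 hxy₁ t t'
      rw [← he₁, ← he₁, ← he₁] at hmul₁
      rw [hmul₁, Equiv.symm_apply_apply, Equiv.symm_apply_apply, Equiv.symm_apply_apply,
        he₂, he₂, he₂, nf_mul h₂ hz₂ hz₂1 hxy₂, hm, hm, hm]
      have key : ψ ((⟨z₁ ^ (t'.1.val * t.2.1.val), center_le_C (Subgroup.pow_mem _ hz₁ _)⟩ :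
            Subgroup.centralizer ({x₁, y₁} : Set E₁))⁻¹ * t.2.2 * t'.2.2) =
          (⟨z₂ ^ (t'.1.val * t.2.1.val), center_le_C (Subgroup.pow_mem _ hz₂ _)⟩ :
            Subgroup.centralizer ({x₂, y₂} : Set E₂))⁻¹ * ψ t.2.2 * ψ t'.2.2 := by
        rw [map_mul, map_mul, map_inv]
        congr 3
        have e1 : (⟨z₁ ^ (t'.1.val * t.2.1.val), center_le_C (Subgroup.pow_mem _ hz₁ _)⟩ :
            Subgroup.centralizer ({x₁, y₁} : Set E₁)) = ζ₁ ^ (t'.1.val * t.2.1.val) :=
          Subtype.ext (by simp [ζ₁])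
        have e2 : (⟨z₂ ^ (t'.1.val * t.2.1.val), center_le_C (Subgroup.pow_mem _ hz₂ _)⟩ :
            Subgroup.centralizer ({x₂, y₂} : Set E₂)) = ζ₂ ^ (t'.1.val * t.2.1.val) :=
          Subtype.ext (by simp [ζ₂])
        rw [e1, e2, map_pow, hψ]
      simp only [key]
    · have h1 : e₁ (0, 0, ζ₁) = z₁ := by
        rw [he₁]; simp [nf, ζ₁]
      have h2 : e₂ (0, 0, ζ₂) = z₂ := by
        rw [he₂]; simp [nf, ζ₂]
      show e₂ (m (e₁.symm z₁)) = z₂
      rw [← h1, Equiv.symm_apply_apply, hm]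
      simp only [hψ]
      exact h2

end Main

theorem esclass_of {E : Type*} [Group E] {p : ℕ} (h : Cfsg.IsExtraspecial p E)
    (he : Monoid.exponent E = p) : ESClass p E where
  exp := fun g => by rw [← he]; exact Monoid.pow_exponent_eq_one g
  cardZ := h.2
  comm := fun a b => by
    rw [← h.1.2.2, commutator_def]
    exact Subgroup.commutator_mem_commutator (Subgroup.mem_top a) (Subgroup.mem_top b)

theorem exists_center_ne_one {E : Type*} [Group E] [Finite E] {p : ℕ} [Fact p.Prime]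
    (hE : ESClass p E) : ∃ z : E, z ∈ Subgroup.center E ∧ z ≠ 1 := by
  have hp : p.Prime := Fact.out
  have h1 : 1 < Nat.card (Subgroup.center E) := by rw [hE.cardZ]; exact hp.one_lt
  haveI : Nontrivial (Subgroup.center E) := Finite.one_lt_card_iff_nontrivial.mp h1
  obtain ⟨z, hz⟩ := exists_ne (1 : Subgroup.center E)
  exact ⟨z, z.2, fun h => hz (Subtype.ext h)⟩

/-- For odd p, extraspecial p-groups of exponent p are determined up to isomorphism by their order. -/
theorem result {E₁ : Type*} {E₂ : Type*} [Group E₁] [Group E₂] [Finite E₁] [Finite E₂] {p : ℕ} [Fact p.Prime] (hp : p ≠ 2) (h₁ : Cfsg.IsExtraspecial p E₁) (h₂ : Cfsg.IsExtraspecial p E₂) (he₁ : Monoid.exponent E₁ = p) (he₂ : Monoid.exponent E₂ = p) (hc : Nat.card E₁ = Nat.card E₂) : Nonempty (E₁ ≃* E₂) := by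
  have hE₁ := esclass_of h₁ he₁
  have hE₂ := esclass_of h₂ he₂
  obtain ⟨z₁, hz₁, hz₁1⟩ := exists_center_ne_one hE₁
  obtain ⟨z₂, hz₂, hz₂1⟩ := exists_center_ne_one hE₂
  obtain ⟨φ, _⟩ := main_aux (Nat.card E₁) E₁ E₂ hE₁ hE₂ rfl hc.symm z₁ hz₁ hz₁1 z₂ hz₂ hz₂1
  exact ⟨φ⟩

end Cfsg.Agent.S0098
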