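import Cfsg.Statements.S0100
import Mathlib
import Cfsg.Agent.S0126
import Cfsg.Agent.Lib.Helper24.SCN
import Cfsg.Agent.Lib.Helper24.NormalReplacement

set_option autoImplicit false
open Cfsg

namespace Cfsg.Agent.S0100

/-- For odd p, a p-group without normal elementary abelian subgroups of order p^3 has p-rank at most 2. -/
theorem result {P : Type*} [Group P] [Finite P] {p : ℕ} [Fact p.Prime] (hp : p ≠ 2) (hP : IsPGroup p P) (h : ∀ A : Subgroup P, A.Normal → IsMulCommutative A → (∀ a ∈ A, a ^ p = 1) → Nat.card A ≠ p ^ 3) (E : Subgroup P) (hE : IsMulCommutative E) (hEe : ∀ e ∈ E, e ^ p = 1) : Nat.card E ≤ p ^ 2 := by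
  classical
  by_contra hcon
  rw [not_le] at hcon
  have hpp : p.Prime := Fact.out
  -- `P` is not cyclic
  have hnc : ¬ IsCyclic P := by
    intro hc
    have hEc : IsCyclic E := inferInstance
    obtain ⟨g, hg⟩ := hEc.exists_ofOrder_eq_natCard
    have h1 : (g : P) ^ p = 1 := hEe g g.2
    have h2 : orderOf g ∣ p := orderOf_dvd_of_pow_eq_one (by apply Subtype.ext; simpa using h1)
    have h3 : Nat.card E ≤ p := by rw [← hg]; exact Nat.le_of_dvd hpp.pos h2
    have h4 : p ≤ p ^ 2 := Nat.le_self_pow two_ne_zero p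
    omega
  obtain ⟨V, hVn, hVe, hV2⟩ := Cfsg.Agent.S0126.result hp hP hnc
  have := hVn
  obtain ⟨x, hxE, hxc, hxV⟩ :=
    Cfsg.Agent.Lib.Helper24.exists_mem_centralizer_not_mem p hP V hV2 E hE hcon
  have hVab : V ≤ Subgroup.centralizer (V : Set P) :=
    Subgroup.le_centralizer_iff_isMulCommutative.mpr hVe.1
  obtain ⟨y, hyc, hyV, hyp, hyr⟩ :=
    Cfsg.Agent.Lib.Helper24.normal_replacement p hp hP V hVe.2 hVab x hxc hxV (hEe x hxE)
  have hAn : (Subgroup.closure ((V : Set P) ∪ {y})).Normal :=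
    Cfsg.Agent.Lib.Helper24.adjoin_normal V y hyr
  obtain ⟨hAc, hAe⟩ := Cfsg.Agent.Lib.Helper24.elemAb_adjoin p V hVe.1 hVe.2 y hyc hyp
  apply h _ hAn hAc hAe
  -- the order of `A = V ⊔ ⟨y⟩`
  have hAeq : Subgroup.closure ((V : Set P) ∪ {y}) = V ⊔ Subgroup.zpowers y := by
    rw [Subgroup.closure_union, Subgroup.closure_eq, Subgroup.zpowers_eq_closure]
  rw [hAeq]
  have hle : V ≤ V ⊔ Subgroup.zpowers y := le_sup_left
  have hcard : Nat.card V * V.relIndex (V ⊔ Subgroup.zpowers y) =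
      Nat.card (V ⊔ Subgroup.zpowers y : Subgroup P) := by
    rw [← Subgroup.relIndex_bot_left, Subgroup.relIndex_mul_relIndex _ _ _ bot_le hle,
      Subgroup.relIndex_bot_left]
  rw [Subgroup.relIndex_sup_left] at hcard
  have hdvd : V.relIndex (Subgroup.zpowers y) ∣ p := by
    refine (Subgroup.relIndex_dvd_card _ _).trans ?_
    rw [Nat.card_zpowers]
    exact orderOf_dvd_of_pow_eq_one hyp
  rcases (Nat.dvd_prime hpp).mp hdvd with h1 | h1
  · exfalso
    rw [Subgroup.relIndex_eq_one] at h1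
    exact hyV (h1 (Subgroup.mem_zpowers y))
  · rw [← hcard, h1, hV2]
    ring

end Cfsg.Agent.S0100
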