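import Cfsg.Statements.S0101
import Cfsg.Agent.S0012

set_option autoImplicit false
open Cfsg

namespace Cfsg.Agent.S0101


theorem mem_of_pow_mem_of_coprime {K : Type*} [Group K] (S : Subgroup K) (w : K) (n m : ℕ)
    (hnm : Nat.Coprime n m) (hn : w ^ n ∈ S) (hm : w ^ m ∈ S) : w ∈ S := by
  have h1 : (1 : ℤ) = n * Nat.gcdA n m + m * Nat.gcdB n m := by
    have := Nat.gcd_eq_gcd_ab n m
    rw [hnm] at this
    exact_mod_cast this
  have h2 : w = (w ^ n) ^ (Nat.gcdA n m) * (w ^ m) ^ (Nat.gcdB n m) := by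
    rw [← zpow_natCast, ← zpow_natCast, ← zpow_mul, ← zpow_mul, ← zpow_add, ← h1, zpow_one]
  rw [h2]
  exact S.mul_mem (S.zpow_mem hn _) (S.zpow_mem hm _)

open scoped IsMulCommutative in
theorem pow_index_mem_commutator {H : Type*} [Group H] [Finite H] (P : Subgroup H)
    (z : H) (hzP : z ∈ P) (hzG' : z ∈ commutator H) (hzZ : z ∈ Subgroup.center H) :
    (⟨z, hzP⟩ : P) ^ P.index ∈ commutator P := by
  have key : ∀ (k : ℕ) (g₀ : H), g₀⁻¹ * z ^ k * g₀ ∈ P → g₀⁻¹ * z ^ k * g₀ = z ^ k := by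
    intro k g₀ _
    have hk : z ^ k ∈ Subgroup.center H := Subgroup.pow_mem _ hzZ k
    rw [Subgroup.mem_center_iff] at hk
    rw [mul_assoc, ← hk g₀, ← mul_assoc, inv_mul_cancel, one_mul]
  have h1 := MonoidHom.transfer_eq_pow (Abelianization.of (G := P)) z key
  have h2 : MonoidHom.transfer (Abelianization.of (G := P)) z = 1 := by
    have := Abelianization.commutator_subset_ker (MonoidHom.transfer (Abelianization.of (G := P))) hzG'
    exact MonoidHom.mem_ker.mp this
  rw [h2] at h1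
  have h3 : (⟨z ^ P.index, MonoidHom.transfer_eq_pow_aux z key⟩ : P) ∈ (Abelianization.of (G := P)).ker :=
    MonoidHom.mem_ker.mpr h1.symm
  rw [Abelianization.ker_of] at h3
  have h4 : (⟨z, hzP⟩ : P) ^ P.index = ⟨z ^ P.index, MonoidHom.transfer_eq_pow_aux z key⟩ := by
    apply Subtype.ext
    simp
  rw [h4]; exact h3

/-- In a perfect central extension, the kernel meets each Sylow p-subgroup P inside the Frattini subgroup of P. -/
theorem result {H : Type*} {G : Type*} [Group H] [Group G] [Finite H] (σ : H →* G) (hσ : Function.Surjective σ) (hc : σ.ker ≤ Subgroup.center H) (hH : commutator H = ⊤) {p : ℕ} [Fact p.Prime] (P : Sylow p H) : σ.ker ⊓ (P : Subgroup H) ≤ (frattini P).map (P : Subgroup H).subtype := by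
  have hp : p.Prime := Fact.out
  rintro z ⟨hzk, hzP⟩
  have hzZ : z ∈ Subgroup.center H := hc hzk
  have hzG' : z ∈ commutator H := by rw [hH]; exact Subgroup.mem_top z
  have h1 : (⟨z, hzP⟩ : (P : Subgroup H)) ^ (P : Subgroup H).index ∈ frattini (P : Subgroup H) :=
    (Cfsg.Agent.S0012.result p P.isPGroup').1 (pow_index_mem_commutator (P : Subgroup H) z hzP hzG' hzZ)
  obtain ⟨k, hk⟩ := P.isPGroup' ⟨z, hzP⟩
  have h2 : (⟨z, hzP⟩ : (P : Subgroup H)) ^ (p ^ k) ∈ frattini (P : Subgroup H) := by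
    rw [hk]; exact Subgroup.one_mem _
  have hcop : Nat.Coprime (P : Subgroup H).index (p ^ k) := by
    apply Nat.Coprime.pow_right
    rw [Nat.coprime_comm, hp.coprime_iff_not_dvd]
    exact P.not_dvd_index
  have h3 := mem_of_pow_mem_of_coprime (frattini (P : Subgroup H)) ⟨z, hzP⟩ _ _ hcop h1 h2
  exact ⟨⟨z, hzP⟩, h3, rfl⟩

end Cfsg.Agent.S0101
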