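import Cfsg.Statements.S0102
-- import your own Cfsg.Agent.* helpers here

set_option autoImplicit false
open Cfsg

namespace Cfsg.Agent.S0102


open scoped IsMulCommutative in
theorem aux {G : Type*} [Group G] [Finite G] (H : Subgroup G) [IsMulCommutative H]
    (z : G) (hzG' : z ∈ commutator G) (hzZ : z ∈ Subgroup.center G) :
    z ^ H.index = 1 := by
  have key : ∀ (k : ℕ) (g₀ : G), g₀⁻¹ * z ^ k * g₀ ∈ H → g₀⁻¹ * z ^ k * g₀ = z ^ k := by
    intro k g₀ _
    have hk : z ^ k ∈ Subgroup.center G := Subgroup.pow_mem _ hzZ k
    rw [Subgroup.mem_center_iff] at hk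
    rw [mul_assoc, ← hk g₀, ← mul_assoc, inv_mul_cancel, one_mul]
  have h1 := MonoidHom.transfer_eq_pow (MonoidHom.id H) z key
  have h2 : MonoidHom.transfer (MonoidHom.id H) z = 1 := by
    have := Abelianization.commutator_subset_ker (MonoidHom.transfer (MonoidHom.id H)) hzG'
    exact MonoidHom.mem_ker.mp this
  rw [h2] at h1
  have := congrArg Subtype.val h1
  simpa using this.symm

/-- A finite perfect group with cyclic Sylow p-subgroups has no perfect central extension whose kernel has order divisible by p. -/
theorem result {G : Type*} {H : Type*} [Group G] [Group H] [Finite G] [Finite H] (hG : commutator G = ⊤) {p : ℕ} [Fact p.Prime] (hcyc : ∀ P : Sylow p G, IsCyclic P) (σ : H →* G) (hσ : Function.Surjective σ) (hz : σ.ker ≤ Subgroup.center H) (hH : commutator H = ⊤) : ¬ p ∣ Nat.card σ.ker := by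
  intro hdvd
  have hp : p.Prime := Fact.out
  obtain ⟨z, hzo⟩ := exists_prime_orderOf_dvd_card' (G := σ.ker) p hdvd
  -- the element z of order p in the kernel
  have hzord : orderOf (z : H) = p := by rw [Subgroup.orderOf_coe]; exact hzo
  have hQ : IsPGroup p (Subgroup.zpowers (z : H)) := by
    apply IsPGroup.of_card (n := 1)
    rw [Nat.card_zpowers, hzord, pow_one]
  obtain ⟨P, hP⟩ := hQ.exists_le_sylow
  have hzP : (z : H) ∈ (P : Subgroup H) := hP (Subgroup.mem_zpowers _)
  -- P is commutative: its image is cyclic and the kernel is central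
  have hcycP : IsCyclic ((P : Subgroup H).map σ) := by
    have := hcyc (P.mapSurjective hσ)
    rwa [Sylow.coe_mapSurjective] at this
  have hcomm : IsMulCommutative (P : Subgroup H) := by
    apply MonoidHom.isMulCommutative_of_isCyclic_of_ker_le_center (σ.subgroupMap (P : Subgroup H))
    intro x hx
    rw [MonoidHom.mem_ker] at hx
    have hx' : σ (x : H) = 1 := by
      have := congrArg Subtype.val hx
      simpa using this
    have hxc : (x : H) ∈ Subgroup.center H := hz (MonoidHom.mem_ker.mpr hx')
    rw [Subgroup.mem_center_iff] at hxc ⊢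
    intro y
    exact Subtype.ext (hxc y)
  have h1 : (z : H) ^ (P : Subgroup H).index = 1 :=
    aux (P : Subgroup H) (z : H) (by rw [hH]; exact Subgroup.mem_top _) (hz z.2)
  have hd : p ∣ (P : Subgroup H).index := by
    have := orderOf_dvd_of_pow_eq_one h1
    rwa [hzord] at this
  exact P.not_dvd_index hd

end Cfsg.Agent.S0102
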