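import Cfsg.Statements.S0104
-- import your own Cfsg.Agent.* helpers here

set_option autoImplicit false
open Cfsg

namespace Cfsg.Agent.S0104

/-- A subgroup Z of a Sylow p-subgroup P that is normalized by N_G(P) is weakly closed in P exactly when it is normal in every Sylow p-subgroup containing it. -/
theorem result {G : Type*} [Group G] [Finite G] {p : ℕ} [Fact p.Prime] (P : Sylow p G) (Z : Subgroup G) (hZP : Z ≤ (P : Subgroup G)) (hZN : Subgroup.normalizer (P : Set G) ≤ Subgroup.normalizer (Z : Set G)) : Cfsg.IsWeaklyClosed Z P ↔ ∀ R : Sylow p G, Z ≤ (R : Subgroup G) → (R : Subgroup G) ≤ Subgroup.normalizer (Z : Set G) := by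
  constructor
  · rintro ⟨-, hW⟩ R hZR
    obtain ⟨g, rfl⟩ := MulAction.exists_smul_eq G P R
    -- Z^{g⁻¹} ≤ P
    have h1 : Z.map (MulAut.conj g⁻¹).toMonoidHom ≤ (P : Subgroup G) := by
      rintro _ ⟨z, hz, rfl⟩
      have := hZR hz
      rw [Sylow.coe_subgroup_smul, Subgroup.mem_smul_pointwise_iff_exists] at this
      obtain ⟨x, hx, hxz⟩ := this
      simp only [MulAut.smul_def, MulAut.conj_apply] at hxz
      simp only [MulEquiv.coe_toMonoidHom, MulAut.conj_apply, inv_inv]
      rw [← hxz]
      have : g⁻¹ * (g * x * g⁻¹) * g = x := by group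
      rw [this]; exact hx
    have h2 := hW g⁻¹ h1
    have hginv : g⁻¹ ∈ Subgroup.normalizer (Z : Set G) :=
      Subgroup.mem_normalizer_iff_map_conj_eq.mpr h2
    have hgN : g ∈ Subgroup.normalizer (Z : Set G) := by
      simpa using Subgroup.inv_mem _ hginv
    intro r hr
    rw [Sylow.coe_subgroup_smul, Subgroup.mem_smul_pointwise_iff_exists] at hr
    obtain ⟨x, hx, rfl⟩ := hr
    simp only [MulAut.smul_def, MulAut.conj_apply]
    have hxN : x ∈ Subgroup.normalizer (Z : Set G) := hZN (Subgroup.le_normalizer hx)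
    exact Subgroup.mul_mem _ (Subgroup.mul_mem _ hgN hxN) hginv
  · intro hR
    refine ⟨hZP, fun g hg => ?_⟩
    have hP : (P : Subgroup G) ≤ Subgroup.normalizer (Z : Set G) := hR P hZP
    have hZR : Z ≤ ((g⁻¹ • P : Sylow p G) : Subgroup G) := by
      intro z hz
      rw [Sylow.coe_subgroup_smul, Subgroup.mem_smul_pointwise_iff_exists]
      refine ⟨g * z * g⁻¹, hg ⟨z, hz, rfl⟩, ?_⟩
      simp only [MulAut.smul_def, MulAut.conj_apply]
      group
    have hR' := hR (g⁻¹ • P) hZR
    obtain ⟨c, hc⟩ :=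
      MulAction.exists_smul_eq (Subgroup.normalizer (Z : Set G)) ((g⁻¹ • P).subtype hR') (P.subtype hP)
    simp_rw [Sylow.smul_subtype, Subgroup.smul_def, smul_smul] at hc
    have hcg : (c : G) * g⁻¹ ∈ Subgroup.normalizer ((P : Subgroup G) : Set G) :=
      Sylow.smul_eq_iff_mem_normalizer.mp (Sylow.subtype_injective hc)
    have hcg' := hZN hcg
    have hginv : g⁻¹ ∈ Subgroup.normalizer (Z : Set G) := by
      have := Subgroup.mul_mem _ (Subgroup.inv_mem _ c.2) hcg'
      simpa using this
    have hgN : g ∈ Subgroup.normalizer (Z : Set G) := by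
      simpa using Subgroup.inv_mem _ hginv
    exact Subgroup.mem_normalizer_iff_map_conj_eq.mp hgN

end Cfsg.Agent.S0104
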