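import Cfsg.Statements.S0107
import Mathlib
import Cfsg.Agent.S0111
-- import your own Cfsg.Agent.* helpers here

set_option autoImplicit false
open Cfsg

namespace Cfsg.Agent.S0107

/-- In a finite cyclic group there is at most one element of order two. -/
theorem unique_involution_of_isCyclic {C : Type*} [Group C] [Finite C] [IsCyclic C] {u v : C}
    (hu : orderOf u = 2) (hv : orderOf v = 2) : u = v := by
  classical
  have : Fintype C := Fintype.ofFinite C
  have h2dvd : 2 ∣ Fintype.card C := by
    rw [← Nat.card_eq_fintype_card, ← hu]; exact orderOf_dvd_natCard _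
  have hcard := IsCyclic.card_orderOf_eq_totient (α := C) h2dvd
  rw [Nat.totient_two, Finset.card_eq_one] at hcard
  obtain ⟨a, ha⟩ := hcard
  have hua : u = a := by
    have : u ∈ Finset.univ.filter (fun b : C => orderOf b = 2) := by simp [hu]
    rw [ha] at this; simpa using this
  have hva : v = a := by
    have : v ∈ Finset.univ.filter (fun b : C => orderOf b = 2) := by simp [hv]
    rw [ha] at this; simpa using this
  rw [hua, hva]

theorem orderOf_conj' {G : Type*} [Group G] (g w : G) : orderOf (g * w * g⁻¹) = orderOf w := by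
  rw [← MulAut.conj_apply, MulEquiv.orderOf_eq]

/-- An odd-order element lies in every subgroup of index two. -/
theorem mem_of_index_two_of_odd {G : Type*} [Group G] {M : Subgroup G} (hM : M.index = 2) {g : G}
    (hg : Nat.Coprime (orderOf g) 2) : g ∈ M := by
  have hodd : Odd (orderOf g) := Nat.Coprime.odd_of_right hg
  obtain ⟨k, hk⟩ := hodd
  have hsq : g ^ 2 ∈ M := Subgroup.sq_mem_of_index_two hM g
  have : g = (g ^ 2) ^ (k + 1) := by
    rw [← pow_mul, show 2 * (k + 1) = orderOf g + 1 by omega, pow_succ, pow_orderOf_eq_one, one_mul]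
  rw [this]; exact M.pow_mem hsq _

/-- Every involution is conjugate into a given Sylow 2-subgroup. -/
theorem exists_conj_mem_sylow {G : Type*} [Group G] [Finite G] (T : Sylow 2 G) (x : G)
    (hx : orderOf x = 2) : ∃ g : G, g * x * g⁻¹ ∈ (T : Subgroup G) := by
  have hf2 : Fact (Nat.Prime 2) := ⟨Nat.prime_two⟩
  have hp : IsPGroup 2 (Subgroup.zpowers x) := by
    apply IsPGroup.of_card (n := 1)
    rw [Nat.card_zpowers, hx, pow_one]
  obtain ⟨P, hP⟩ := hp.exists_le_sylow
  obtain ⟨g, hg⟩ := MulAction.exists_smul_eq G P T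
  refine ⟨g, ?_⟩
  have hxP : x ∈ (P : Subgroup G) := hP (Subgroup.mem_zpowers x)
  have : g * x * g⁻¹ ∈ ((g • P : Sylow 2 G) : Subgroup G) := by
    rw [Sylow.smul_def, Sylow.pointwise_smul_def, Subgroup.mem_pointwise_smul_iff_inv_smul_mem]
    simp only [MulAut.smul_def, MulAut.conj_inv_apply]
    have : g⁻¹ * (g * x * g⁻¹) * g = x := by group
    rw [this]; exact hxP
  rw [hg] at this
  exact this

/-- Key: if `T` has a cyclic subgroup of index two and `G` has no subgroup of index two, every
involution of `T` is conjugate into that cyclic subgroup. -/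
theorem key {G : Type*} [Group G] [Finite G] (T : Sylow 2 G) (R : Subgroup G)
    (hRT : R ≤ (T : Subgroup G)) (hRi : R.relIndex (T : Subgroup G) = 2)
    (hO : Cfsg.pResidual 2 G = ⊤) (u : G) (hu : orderOf u = 2) (huT : u ∈ (T : Subgroup G)) :
    ∃ g : G, g * u * g⁻¹ ∈ R := by
  by_cases huR : u ∈ R
  · exact ⟨1, by simpa using huR⟩
  · rcases Cfsg.Agent.S0111.result T R hRT hRi u hu huT huR with ⟨M, hMn, hMi, huM⟩ | h
    · exfalso
      have : Cfsg.pResidual 2 G ≤ M := by
        unfold Cfsg.pResidual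
        rw [Subgroup.closure_le]
        intro g hg
        exact mem_of_index_two_of_odd hMi hg
      rw [hO, top_le_iff] at this
      rw [this, Subgroup.index_top] at hMi
      omega
    · exact h

/-- A finite group with no nontrivial 2-group quotient and dihedral Sylow 2-subgroups of order at least 8 has a single class of involutions. -/
theorem result {G : Type*} [Group G] [Finite G] (T : Sylow 2 G) (n : ℕ) (hn : 2 ≤ n) (hT : Nonempty ((T : Subgroup G) ≃* DihedralGroup (2 ^ n))) (hO : Cfsg.pResidual 2 G = ⊤) (x y : G) (hx : orderOf x = 2) (hy : orderOf y = 2) : ∃ g : G, g * x * g⁻¹ = y := by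
  obtain ⟨e⟩ := hT
  have hne : NeZero (2 ^ n) := ⟨by positivity⟩
  -- the cyclic subgroup of index 2
  set ρ : (T : Subgroup G) := e.symm (DihedralGroup.r 1) with hρ
  have hρord : orderOf ρ = 2 ^ n := by
    rw [hρ, MulEquiv.orderOf_eq, DihedralGroup.orderOf_r_one]
  have hTcard : Nat.card (T : Subgroup G) = 2 * 2 ^ n := by
    rw [Nat.card_congr e.toEquiv, DihedralGroup.nat_card]
  set R : Subgroup G := (Subgroup.zpowers ρ).map (T : Subgroup G).subtype with hR
  have hRT : R ≤ (T : Subgroup G) := by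
    rintro _ ⟨t, _, rfl⟩
    exact t.2
  have hRi : R.relIndex (T : Subgroup G) = 2 := by
    have h1 : R.subgroupOf (T : Subgroup G) = Subgroup.zpowers ρ := by
      rw [hR, Subgroup.subgroupOf,
        Subgroup.comap_map_eq_self_of_injective (Subgroup.subtype_injective _)]
    rw [Subgroup.relIndex, h1]
    have h2 := Subgroup.card_mul_index (Subgroup.zpowers ρ)
    rw [Nat.card_zpowers, hρord, hTcard] at h2
    have hpos : 0 < 2 ^ n := by positivity
    have : 2 ^ n * (Subgroup.zpowers ρ).index = 2 ^ n * 2 := by rw [h2]; ring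
    exact Nat.eq_of_mul_eq_mul_left hpos this
  have hRcyc : IsCyclic R := by
    rw [hR]
    exact isCyclic_of_surjective _
      ((T : Subgroup G).subtype.subgroupMap_surjective (Subgroup.zpowers ρ))
  -- every involution is conjugate into R
  have hconjR : ∀ w : G, orderOf w = 2 → ∃ g : G, g * w * g⁻¹ ∈ R ∧ orderOf (g * w * g⁻¹) = 2 := by
    intro w hw
    obtain ⟨g1, hg1⟩ := exists_conj_mem_sylow T w hw
    have hord1 : orderOf (g1 * w * g1⁻¹) = 2 := by rw [orderOf_conj']; exact hw
    obtain ⟨g2, hg2⟩ := key T R hRT hRi hO _ hord1 hg1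
    refine ⟨g2 * g1, ?_, ?_⟩
    · have : g2 * g1 * w * (g2 * g1)⁻¹ = g2 * (g1 * w * g1⁻¹) * g2⁻¹ := by group
      rw [this]; exact hg2
    · have : g2 * g1 * w * (g2 * g1)⁻¹ = (g2 * g1) * w * (g2 * g1)⁻¹ := by group
      rw [this, orderOf_conj']; exact hw
  obtain ⟨g, hgR, hgo⟩ := hconjR x hx
  obtain ⟨h, hhR, hho⟩ := hconjR y hy
  have heq : (⟨g * x * g⁻¹, hgR⟩ : R) = ⟨h * y * h⁻¹, hhR⟩ := by
    apply unique_involution_of_isCyclic
    · rw [← Subgroup.orderOf_coe]; exact hgo
    · rw [← Subgroup.orderOf_coe]; exact hho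
  have heq' : g * x * g⁻¹ = h * y * h⁻¹ := congrArg Subtype.val heq
  refine ⟨h⁻¹ * g, ?_⟩
  have : h⁻¹ * g * x * (h⁻¹ * g)⁻¹ = h⁻¹ * (g * x * g⁻¹) * h := by group
  rw [this, heq']; group

end Cfsg.Agent.S0107
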