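import Cfsg.Statements.S0114
import Mathlib
import Cfsg.Agent.Lib.Helper91.MaxClass2
import Cfsg.Agent.S0646
import Cfsg.Agent.S3684
-- import your own Cfsg.Agent.* helpers here

set_option autoImplicit false
open Cfsg

namespace Cfsg.Agent.S0114

open Cfsg.Agent.Lib.Helper91

/-- Core: from the presentation data to the dihedral central quotient. -/
theorem core {X : Type*} [Group X] [Finite X] (n : ℕ) (hn : 3 ≤ n) (hX : Nat.card X = 2 ^ n)
    (hidx : (commutator X).index = 4) (a b : X) (ha : orderOf a = 2 ^ (n - 1))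
    (hb : b ∉ Subgroup.zpowers a)
    (hrel : (b ^ 2 = 1 ∧ b * a * b⁻¹ = a⁻¹) ∨ (b ^ 2 = a ^ (2 ^ (n - 2)) ∧ b * a * b⁻¹ = a⁻¹) ∨
      (4 ≤ n ∧ b ^ 2 = 1 ∧ b * a * b⁻¹ = a ^ (1 + 2 ^ (n - 2))) ∨
      (4 ≤ n ∧ b ^ 2 = 1 ∧ b * a * b⁻¹ = a ^ (2 ^ (n - 2) - 1))) :
    Nonempty (X ⧸ Subgroup.center X ≃* DihedralGroup (2 ^ (n - 2))) := by
  have hf2 : Fact (Nat.Prime 2) := ⟨Nat.prime_two⟩
  have h2 : IsPGroup 2 X := IsPGroup.of_card hX
  have hpow : (2 : ℕ) ^ n = 2 ^ (n - 1) * 2 := by rw [← pow_succ]; congr 1; omega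
  have hpow' : (2 : ℕ) ^ (n - 1) = 2 ^ (n - 2) * 2 := by rw [← pow_succ]; congr 1; omega
  have hAcard : Nat.card (Subgroup.zpowers a) = 2 ^ (n - 1) := by rw [Nat.card_zpowers, ha]
  have hAidx : (Subgroup.zpowers a).index = 2 := by
    have := Subgroup.card_mul_index (Subgroup.zpowers a)
    rw [hAcard, hX, hpow] at this
    exact Nat.eq_of_mul_eq_mul_left (by positivity) this
  have hab : ∀ u ∈ Subgroup.zpowers a, ∀ v ∈ Subgroup.zpowers a, u * v = v * u := by
    rintro _ ⟨i, rfl⟩ _ ⟨j, rfl⟩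
    rw [← zpow_add, ← zpow_add, add_comm]
  have hAn : (Subgroup.zpowers a).Normal := Subgroup.normal_of_index_eq_two hAidx
  have hx : ∀ u ∈ Subgroup.zpowers a, b * u * b⁻¹ ∈ Subgroup.zpowers a :=
    fun u hu => hAn.conj_mem u hu b
  have hA2 : IsPGroup 2 (Subgroup.zpowers a) := h2.to_subgroup _
  -- kernel has order two
  have hXeq : commutator X = (commHom (Subgroup.zpowers a) b hab hx).range :=
    commutator_eq_range_commHom _ b hab hx hAidx hb
  have hker2 : Nat.card (commHom (Subgroup.zpowers a) b hab hx).ker = 2 := by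
    have h1 := card_range_mul_card_ker (commHom (Subgroup.zpowers a) b hab hx)
    rw [← hXeq, hAcard] at h1
    have h3 := Subgroup.card_mul_index (commutator X)
    rw [hidx, hX, hpow] at h3
    have hpos : 0 < Nat.card (commutator X) := Nat.card_pos
    have : Nat.card (commutator X) * Nat.card (commHom (Subgroup.zpowers a) b hab hx).ker
        = Nat.card (commutator X) * 2 := by
      rw [h1]; omega
    exact Nat.eq_of_mul_eq_mul_left hpos this
  -- the central involution
  have hz0mem : a ^ (2 ^ (n - 2)) ∈ Subgroup.zpowers a := Subgroup.pow_mem _ (Subgroup.mem_zpowers a) _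
  have hz0sq : (a ^ (2 ^ (n - 2))) ^ 2 = 1 := by
    rw [← pow_mul, ← hpow', ← ha]; exact pow_orderOf_eq_one a
  have hz0ne : a ^ (2 ^ (n - 2)) ≠ 1 := by
    apply pow_ne_one_of_lt_orderOf (by positivity)
    rw [ha, hpow']
    have : 0 < 2 ^ (n - 2) := by positivity
    omega
  have hz0ord : orderOf (a ^ (2 ^ (n - 2))) = 2 :=
    orderOf_eq_prime hz0sq hz0ne
  have hz0ord' : orderOf (⟨a ^ (2 ^ (n - 2)), hz0mem⟩ : Subgroup.zpowers a) = 2 := by
    rw [← Subgroup.orderOf_coe]; exact hz0ord
  have hkereq : (commHom (Subgroup.zpowers a) b hab hx).ker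
      = Subgroup.zpowers (⟨a ^ (2 ^ (n - 2)), hz0mem⟩ : Subgroup.zpowers a) := by
    apply Subgroup.eq_of_le_of_card_ge
    · apply le_of_card_two_of_isCyclic hA2 _ _ hker2
      intro h
      have : (⟨a ^ (2 ^ (n - 2)), hz0mem⟩ : Subgroup.zpowers a) = 1 := by
        rw [← Subgroup.zpowers_eq_bot]; exact h
      exact hz0ne (congrArg Subtype.val this)
    · rw [hker2, Nat.card_zpowers, hz0ord']
  have hz0b : a ^ (2 ^ (n - 2)) * b = b * a ^ (2 ^ (n - 2)) := by
    have : (⟨a ^ (2 ^ (n - 2)), hz0mem⟩ : Subgroup.zpowers a)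
        ∈ (commHom (Subgroup.zpowers a) b hab hx).ker := by
      rw [hkereq]; exact Subgroup.mem_zpowers _
    rw [mem_ker_commHom] at this
    exact this
  -- the center
  have hz0central : a ^ (2 ^ (n - 2)) ∈ Subgroup.center X := by
    rw [Subgroup.mem_center_iff]
    intro g
    rcases exists_eq_or_eq_mul (Subgroup.zpowers a) b hAidx hb g with hg | ⟨c, hc, rfl⟩
    · exact hab _ hg _ hz0mem
    · rw [mul_assoc, ← hz0b, ← mul_assoc, ← mul_assoc, hab _ hc _ hz0mem]
  have hcenter : Subgroup.center X = Subgroup.zpowers (a ^ (2 ^ (n - 2))) := by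
    apply le_antisymm
    · intro g hg
      rw [Subgroup.mem_center_iff] at hg
      by_cases hgA : g ∈ Subgroup.zpowers a
      · have : (⟨g, hgA⟩ : Subgroup.zpowers a) ∈ (commHom (Subgroup.zpowers a) b hab hx).ker := by
          rw [mem_ker_commHom]; exact (hg b).symm
        rw [hkereq] at this
        obtain ⟨j, hj⟩ := this
        exact ⟨j, by simpa using congrArg Subtype.val hj⟩
      · exfalso
        have hx' : ∀ u ∈ Subgroup.zpowers a, g * u * g⁻¹ ∈ Subgroup.zpowers a :=
          fun u hu => hAn.conj_mem u hu g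
        have hXeq' := commutator_eq_range_commHom _ g hab hx' hAidx hgA
        have hbot : commutator X = ⊥ := by
          rw [hXeq', eq_bot_iff]
          rintro _ ⟨u, rfl⟩
          rw [Subgroup.mem_bot, commHom_apply, commutatorElement_eq_one_iff_mul_comm]
          exact hg u
        rw [hbot, Subgroup.index_bot, hX] at hidx
        have : 2 ^ n ≥ 2 ^ 3 := Nat.pow_le_pow_right (by norm_num) hn
        omega
    · exact Subgroup.zpowers_le.mpr hz0central
  have hZcard : Nat.card (Subgroup.center X) = 2 := by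
    rw [hcenter, Nat.card_zpowers, hz0ord]
  have hQcard : Nat.card (X ⧸ Subgroup.center X) = 2 * 2 ^ (n - 2) := by
    have := Subgroup.card_eq_card_quotient_mul_card_subgroup (Subgroup.center X)
    rw [hX, hZcard, hpow, hpow'] at this
    have h3 : Nat.card (X ⧸ Subgroup.center X) * 2 = 2 ^ (n - 2) * 2 * 2 := this.symm
    omega
  -- exclude the modular case and extract the relations modulo the center
  have hrel' : b * b ∈ Subgroup.center X ∧ b * a * (b * a) ∈ Subgroup.center X := by
    rcases hrel with ⟨h1, h2'⟩ | ⟨h1, h2'⟩ | ⟨h4, h1, h2'⟩ | ⟨h4, h1, h2'⟩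
    · refine ⟨by rw [← sq, h1]; exact one_mem _, ?_⟩
      have : b * a * (b * a) = (b * a * b⁻¹) * b ^ 2 * a := by group
      rw [this, h1, h2']; simp
    · refine ⟨by rw [← sq, h1]; exact hz0central, ?_⟩
      have : b * a * (b * a) = (b * a * b⁻¹) * b ^ 2 * a := by group
      rw [this, h1, h2']
      have hc : a⁻¹ * a ^ (2 ^ (n - 2)) * a = a ^ (2 ^ (n - 2)) := by
        rw [mul_assoc, ← pow_succ, pow_succ', ← mul_assoc, inv_mul_cancel, one_mul]
      rw [hc]; exact hz0central
    · exfalso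
      -- a^2 commutes with b
      have ha2mem : a ^ 2 ∈ Subgroup.zpowers a := Subgroup.pow_mem _ (Subgroup.mem_zpowers a) _
      have hconj : b * a ^ 2 * b⁻¹ = a ^ 2 := by
        rw [← conj_pow, h2', ← pow_mul]
        have : (1 + 2 ^ (n - 2)) * 2 = 2 + orderOf a := by rw [ha, hpow']; ring
        rw [this, pow_add, pow_orderOf_eq_one, mul_one]
      have hker : (⟨a ^ 2, ha2mem⟩ : Subgroup.zpowers a)
          ∈ (commHom (Subgroup.zpowers a) b hab hx).ker := by
        rw [mem_ker_commHom]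
        show a ^ 2 * b = b * a ^ 2
        have : a ^ 2 * b = (b * a ^ 2 * b⁻¹) * b := by rw [hconj]
        rw [this]; group
      have hp := pow_card_eq_one' (G := (commHom (Subgroup.zpowers a) b hab hx).ker)
        (x := ⟨⟨a ^ 2, ha2mem⟩, hker⟩)
      rw [hker2] at hp
      have hp' : (a ^ 2) ^ 2 = 1 := by
        have h5 := congrArg Subtype.val (congrArg Subtype.val hp)
        simpa using h5
      rw [← pow_mul] at hp'
      have hdvd := orderOf_dvd_of_pow_eq_one hp'
      rw [ha] at hdvd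
      have : 2 ^ (n - 1) ≥ 2 ^ 3 := Nat.pow_le_pow_right (by norm_num) (by omega)
      have := Nat.le_of_dvd (by norm_num) hdvd
      omega
    · refine ⟨by rw [← sq, h1]; exact one_mem _, ?_⟩
      have : b * a * (b * a) = (b * a * b⁻¹) * b ^ 2 * a := by group
      rw [this, h1, h2', mul_one, ← pow_succ]
      have : 2 ^ (n - 2) - 1 + 1 = 2 ^ (n - 2) := by
        have : 0 < 2 ^ (n - 2) := by positivity
        omega
      rw [this]; exact hz0central
  obtain ⟨hbb, hbaba⟩ := hrel'
  -- the dihedral generators in the quotient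
  have hs : (QuotientGroup.mk' (Subgroup.center X) b) * (QuotientGroup.mk' (Subgroup.center X) b) = 1 := by
    rw [← map_mul, QuotientGroup.mk'_apply, QuotientGroup.eq_one_iff]; exact hbb
  have ht : (QuotientGroup.mk' (Subgroup.center X) (b * a)) *
      (QuotientGroup.mk' (Subgroup.center X) (b * a)) = 1 := by
    rw [← map_mul, QuotientGroup.mk'_apply, QuotientGroup.eq_one_iff]; exact hbaba
  have hst : (QuotientGroup.mk' (Subgroup.center X) b) * (QuotientGroup.mk' (Subgroup.center X) (b * a))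
      = QuotientGroup.mk' (Subgroup.center X) a := by
    rw [map_mul, ← mul_assoc, hs, one_mul]
  have hstpow : ((QuotientGroup.mk' (Subgroup.center X) b) *
      (QuotientGroup.mk' (Subgroup.center X) (b * a))) ^ (2 ^ (n - 2)) = 1 := by
    rw [hst, ← map_pow, QuotientGroup.mk'_apply, QuotientGroup.eq_one_iff]; exact hz0central
  have hgen : Subgroup.zpowers (QuotientGroup.mk' (Subgroup.center X) b) ⊔
      Subgroup.zpowers (QuotientGroup.mk' (Subgroup.center X) (b * a)) = ⊤ := by
    rw [eq_top_iff]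
    intro q _
    have hbmem : QuotientGroup.mk' (Subgroup.center X) b ∈
        Subgroup.zpowers (QuotientGroup.mk' (Subgroup.center X) b) ⊔
        Subgroup.zpowers (QuotientGroup.mk' (Subgroup.center X) (b * a)) :=
      Subgroup.mem_sup_left (Subgroup.mem_zpowers _)
    have hamem : QuotientGroup.mk' (Subgroup.center X) a ∈
        Subgroup.zpowers (QuotientGroup.mk' (Subgroup.center X) b) ⊔
        Subgroup.zpowers (QuotientGroup.mk' (Subgroup.center X) (b * a)) := by
      rw [← hst]
      exact Subgroup.mul_mem _ hbmem (Subgroup.mem_sup_right (Subgroup.mem_zpowers _))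
    obtain ⟨g, rfl⟩ := QuotientGroup.mk'_surjective (Subgroup.center X) q
    rcases exists_eq_or_eq_mul (Subgroup.zpowers a) b hAidx hb g with ⟨i, rfl⟩ | ⟨c, ⟨i, rfl⟩, rfl⟩
    · simp only [map_zpow]
      exact Subgroup.zpow_mem _ hamem i
    · simp only [map_mul, map_zpow]
      exact Subgroup.mul_mem _ (Subgroup.zpow_mem _ hamem i) hbmem
  obtain ⟨e⟩ := Cfsg.Agent.S3684.dihedral_equiv _ _ hs ht (2 ^ (n - 2)) (by positivity) hstpow hgen hQcard
  exact ⟨e.symm⟩

/-- The central quotient of a 2-group of maximal class is dihedral. -/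
theorem result {X : Type*} [Group X] [Finite X] (n : ℕ) (hn : 3 ≤ n) (hX : Nat.card X = 2 ^ n) (hc : Group.nilpotencyClass X = n - 1) : Nonempty (X ⧸ Subgroup.center X ≃* DihedralGroup (2 ^ (n - 2))) := by
  have hf2 : Fact (Nat.Prime 2) := ⟨Nat.prime_two⟩
  have h2 : IsPGroup 2 X := IsPGroup.of_card hX
  have hidx := index_commutator_of_class n hn hX hc
  obtain ⟨C, hCcyc, hCidx⟩ := exists_cyclic_index_two h2 hidx
  have hne : commutator X ≠ ⊥ := by
    intro hbot
    rw [hbot, Subgroup.index_bot, hX] at hidx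
    have : 2 ^ n ≥ 2 ^ 3 := Nat.pow_le_pow_right (by norm_num) hn
    omega
  have hna := exists_noncomm_of_commutator_ne_bot hne
  obtain ⟨a, b, ha, hb, hrel⟩ := Cfsg.Agent.S0646.result n hn hX C hCcyc hCidx hna
  exact core n hn hX hidx a b ha hb hrel

end Cfsg.Agent.S0114
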