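import Cfsg.Statements.S0117
import Cfsg.Agent.Lib.Helper29.ZJE6
import Cfsg.Agent.Lib.Lead.Thompson.Main2
import Cfsg.Agent.Lib.Helper97.PStable3
import Cfsg.Agent.Lib.Helper97.PAbelianP

set_option autoImplicit false
open Cfsg

namespace Cfsg.Agent.S0117

open Cfsg.Agent.Lib.Helper29 Cfsg.Agent.Lib.Helper33 Cfsg.Agent.Lib.Helper34
  Cfsg.Agent.Lib.Lead.Thompson

universe u

/-- (`p`-group)-by-(abelian `p'`)-by-(`p`-group) groups have all sections `p`-stable (`p` odd). -/
theorem secProp_ecn_of_isPAbelianP {Y : Type u} [Group Y] [Finite Y] {p : ℕ} [Fact p.Prime]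
    (hp : p ≠ 2) (h : Cfsg.Agent.Lib.Helper97.IsPAbelianP p Y) : SecProp (ECN p) Y := by
  apply secProp_of_sections
  · intro X Z _ _ _ e hX
    exact ecn_of_mulEquiv e hX
  · intro K R hR
    apply ecn_of_nps
    apply Cfsg.Agent.Lib.Helper97.isNormalizerPStable_of_isPAbelianP hp
    exact (h.subgroup K).quotient _

/-- the local hypothesis of Thompson's criterion for `Z(J_e)` -/
theorem localHyp_zjeFun {p : ℕ} [Fact p.Prime] (hp : p ≠ 2) :
    LocalHyp.{u} p (zjeFun p) (zjeFun p) := by
  intro Y _ _ hC hQ T hT _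
  have hPA := Cfsg.Agent.Lib.Helper97.isPAbelianP_of_sylow_coatom hQ T hT
  exact zjeFun_normal hp Y (secProp_ecn_of_isPAbelianP hp hPA) hC T

/-- The Glauberman–Thompson Theorem states that for odd p, a single p-local subgroup, the normalizer of the centre of the Thompson subgroup of a Sylow p-subgroup, decides whether G has a normal p-complement. -/
theorem result {G : Type*} [Group G] [Finite G] {p : ℕ} [Fact p.Prime] (hp : p ≠ 2) (P : Sylow p G) : Cfsg.HasNormalPComplement p G ↔ Cfsg.HasNormalPComplement p (Subgroup.normalizer (Cfsg.centerThompsonOf p (P : Subgroup G) : Set G)) := by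
  constructor
  · intro h
    exact hasNPC_of_injective (Subgroup.subtype _) (Subgroup.subtype_injective _) h
  · intro h
    have hW := isCharPFunctor_zjeFun p
    refine thompson_main2 hW hW (localHyp_zjeFun hp) (Nat.card G) G rfl ?_
    have hN : HasNormalPComplement p
        ↥(Subgroup.normalizer ((Cfsg.inducedFunctor (zjeFun p) (P : Subgroup G) : Subgroup G) : Set G)) := by
      rw [inducedFunctor_zjeFun]
      exact h
    intro S
    have h1 := hasNPC_normalizer_all_sylow hW P hN S
    refine ⟨h1, ?_⟩
    refine hasNPC_of_le ?_ h1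
    exact Subgroup.centralizer_le_normalizer _

end Cfsg.Agent.S0117
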