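import Cfsg.Statements.S0120
import Cfsg.Agent.Lib.Helper24.Omega

set_option autoImplicit false
open Cfsg

namespace Cfsg.Agent.S0120

/-- For odd p, a p'-automorphism of a p-group acting trivially on the elements of order dividing p is trivial. -/
theorem result {G : Type*} [Group G] [Finite G] {p : ℕ} [Fact p.Prime] (hp : p ≠ 2) (hG : IsPGroup p G) (a : MulAut G) (ha : Nat.Coprime (orderOf a) p) (h : ∀ x : G, x ^ p = 1 → a x = x) : a = 1 := by
  classical
  -- work in the holomorph `G ⋊ Aut G`
  let Γ := G ⋊[MonoidHom.id (MulAut G)] MulAut G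
  have : Finite (MulAut G) := by
    apply Finite.of_injective (fun f : MulAut G => (f : G → G))
    intro f g hfg
    exact DFunLike.coe_injective hfg
  have : Finite Γ := Finite.of_equiv _ SemidirectProduct.equivProd.symm
  let K : Subgroup Γ := (SemidirectProduct.inl : G →* Γ).range
  let b : Γ := SemidirectProduct.inr a
  have hK : IsPGroup p K := by
    rintro ⟨_, g, rfl⟩
    obtain ⟨k, hk⟩ := hG g
    refine ⟨k, ?_⟩
    apply Subtype.ext
    simp only [Subgroup.coe_pow, Subgroup.coe_one]
    rw [← map_pow, hk, map_one]
  have hconj : ∀ g : G, b * SemidirectProduct.inl g * b⁻¹ = SemidirectProduct.inl (a g) := by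
    intro g
    have := SemidirectProduct.inl_aut (φ := MonoidHom.id (MulAut G)) a g
    simpa [b] using this.symm
  have hbN : b ∈ Subgroup.normalizer (K : Set Γ) := by
    apply Subgroup.mem_normalizer_fintype
    rintro _ ⟨g, rfl⟩
    exact ⟨a g, (hconj g).symm⟩
  have hord : orderOf b = orderOf a := orderOf_injective _ SemidirectProduct.inr_injective a
  have hcop : (orderOf b).Coprime p := by rw [hord]; exact ha
  have hfix : ∀ x ∈ K, x ^ p = 1 → b * x = x * b := by
    rintro _ ⟨g, rfl⟩ hgp
    have hg1 : g ^ p = 1 := by
      apply SemidirectProduct.inl_injective (φ := MonoidHom.id (MulAut G))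
      rw [map_pow, hgp, map_one]
    have := hconj g
    rw [h g hg1] at this
    calc b * SemidirectProduct.inl g = (b * SemidirectProduct.inl g * b⁻¹) * b := by
          rw [inv_mul_cancel_right]
      _ = SemidirectProduct.inl g * b := by rw [this]
  have hall := Cfsg.Agent.Lib.Helper24.centralizes_of_centralizes_omega p hp b hcop K hK hbN hfix
  ext g
  simp only [MulAut.one_apply]
  apply SemidirectProduct.inl_injective (φ := MonoidHom.id (MulAut G))
  rw [← hconj g, hall _ ⟨g, rfl⟩, mul_inv_cancel_right]

end Cfsg.Agent.S0120
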