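import Mathlib
import Cfsg.Statements.S0125
import Cfsg.Agent.Lib.Helper47.PReducedAmb
import Cfsg.Agent.Lib.Helper47.SylowCenter
import Cfsg.Agent.Lib.Helper34.NormalPComplement
-- import your own Cfsg.Agent.* helpers here

set_option autoImplicit false
open Cfsg

namespace Cfsg.Agent.S0125

/-- The centralizer of a self-centralizing normal subgroup A of a Sylow p-subgroup is the direct product of A with a normal p'-subgroup. -/
theorem result {G : Type*} [Group G] [Finite G] {p : ℕ} [Fact p.Prime] (R : Sylow p G) (A : Subgroup G) (hAR : A ≤ (R : Subgroup G)) (hAn : (R : Subgroup G) ≤ Subgroup.normalizer (A : Set G)) (hC : (R : Subgroup G) ⊓ Subgroup.centralizer (A : Set G) = A) : ∃ H : Subgroup G, H ≤ Subgroup.centralizer (A : Set G) ∧ Nat.Coprime (Nat.card H) p ∧ Subgroup.centralizer (A : Set G) ≤ Subgroup.normalizer (H : Set G) ∧ H ⊓ A = ⊥ ∧ H ⊔ A = Subgroup.centralizer (A : Set G) := by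
  set C := Subgroup.centralizer (A : Set G) with hCdef
  have hAC : A ≤ C := by rw [← hC]; exact inf_le_right
  have hRC : (R : Subgroup G) ≤ Subgroup.normalizer (C : Set G) :=
    hAn.trans (Cfsg.Agent.Lib.Helper47.normalizer_le_normalizer_centralizer A)
  obtain ⟨P, hP⟩ := Cfsg.Agent.Lib.Helper47.exists_sylow_eq_subgroupOf_of_le_normalizer R C hRC
  have hPA : (P : Subgroup ↥C) = A.subgroupOf C := by
    rw [hP, ← Subgroup.inf_subgroupOf_right, hC]
  have hPcen : (P : Subgroup ↥C) ≤ Subgroup.center ↥C := by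
    intro x hx
    rw [hPA, Subgroup.mem_subgroupOf] at hx
    rw [Subgroup.mem_center_iff]
    intro c
    apply Subtype.ext
    have hc : (c : G) ∈ Subgroup.centralizer (A : Set G) := c.2
    rw [Subgroup.mem_centralizer_iff] at hc
    simpa using (hc _ hx).symm
  obtain ⟨K, hKn, hK⟩ := Cfsg.Agent.Lib.Helper34.exists_normal_complement_of_sylow_le_center P hPcen
  have hcop := Cfsg.Agent.Lib.Helper34.card_coprime_of_isComplement' P K hK
  have hmapA : (A.subgroupOf C).map C.subtype = A := by
    rw [Subgroup.map_subgroupOf_eq_of_le hAC]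
  refine ⟨K.map C.subtype, Subgroup.map_subtype_le K, ?_, ?_, ?_, ?_⟩
  · rwa [Subgroup.card_map_of_injective C.subtype_injective]
  · exact Cfsg.Agent.Lib.Helper47.le_normalizer_map_subtype_of_normal C K
  · have h1 : K ⊓ (P : Subgroup ↥C) = ⊥ := hK.disjoint.eq_bot
    rw [← hmapA, ← hPA, ← Subgroup.map_inf _ _ _ C.subtype_injective, h1, Subgroup.map_bot]
  · have h1 : K ⊔ (P : Subgroup ↥C) = ⊤ := hK.sup_eq_top
    rw [← hmapA, ← hPA, ← Subgroup.map_sup, h1, ← MonoidHom.range_eq_map, Subgroup.range_subtype]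

end Cfsg.Agent.S0125
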