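import Mathlib
import Cfsg.Statements.S0129
import Cfsg.Agent.S0130
-- import your own Cfsg.Agent.* helpers here

set_option autoImplicit false
open Cfsg
open scoped commutatorElement

namespace Cfsg.Agent.S0129


lemma card_le_of_fibers {α β : Type*} [Finite α] [Finite β] (f : α → β) (n : ℕ)
    (h : ∀ b, Nat.card {a // f a = b} ≤ n) : Nat.card α ≤ n * Nat.card β := by
  classical
  have := Fintype.ofFinite β
  rw [Nat.card_congr (Equiv.sigmaFiberEquiv f).symm, Nat.card_sigma]
  calc ∑ b, Nat.card {a // f a = b} ≤ ∑ _b : β, n := Finset.sum_le_sum (fun b _ => h b)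
    _ = n * Nat.card β := by simp [Nat.card_eq_fintype_card, mul_comm]


section Aux

variable {P : Type*} [Group P]

lemma commutator_top_lt [Group.IsNilpotent P] (A : Subgroup P) [A.Normal] (hA : A ≠ ⊥) :
    ⁅A, (⊤ : Subgroup P)⁆ < A := by
  refine lt_of_le_of_ne (Subgroup.commutator_le_left A ⊤) ?_
  intro heq
  obtain ⟨c, hc⟩ := Subgroup.nilpotent_iff_lowerCentralSeries.mp (inferInstance : Group.IsNilpotent P)
  have key : ∀ i, A ≤ (⊤ : Subgroup P).lowerCentralSeries i := by
    intro i
    induction i with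
    | zero => simp
    | succ i ih =>
      rw [Subgroup.lowerCentralSeries_succ, ← heq]
      exact Subgroup.commutator_mono ih le_rfl
  apply hA
  rw [eq_bot_iff, ← hc]
  exact key c






lemma tri (b : ℕ) : b * (b - 1) / 2 + b = b * (b + 1) / 2 := by
  have : b * (b + 1) = b * (b - 1) + 2 * b := by
    cases b with
    | zero => simp
    | succ b => simp; ring
  rw [this, Nat.add_mul_div_left _ _ (by norm_num : 0 < 2)]

lemma aut_bound [Finite P] {p : ℕ} [Fact p.Prime] (hP : IsPGroup p P) :
    ∀ (a : ℕ) (A : Subgroup P), A.Normal → Nat.card A = p ^ a →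
      Nat.card P ≤ p ^ (a * (a - 1) / 2) * Nat.card (Subgroup.centralizer (A : Set P)) := by
  intro a
  induction a using Nat.strong_induction_on with
  | _ a ih =>
  intro A hAn hA
  have hp : p.Prime := Fact.out
  have : Group.IsNilpotent P := hP.isNilpotent
  by_cases hAbot : A = ⊥
  · subst hAbot
    have h1 : Subgroup.centralizer ((⊥ : Subgroup P) : Set P) = ⊤ := by
      ext g; simp [Subgroup.mem_centralizer_iff]
    rw [h1, Subgroup.card_top]
    exact Nat.le_mul_of_pos_left _ (pow_pos hp.pos _)
  set H := ⁅A, (⊤ : Subgroup P)⁆ with hHdef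
  have hHlt : H < A := commutator_top_lt A hAbot
  -- maximal A₁ between H and A
  obtain ⟨A₁, ⟨hHA₁, hA₁lt⟩, hA₁max⟩ := Set.exists_max_image {M : Subgroup P | H ≤ M ∧ M < A}
    (fun M => Nat.card M) (Set.toFinite _) ⟨H, le_rfl, hHlt⟩
  obtain ⟨x, hxA, hxA₁⟩ := SetLike.exists_of_lt hA₁lt
  have hsup : A₁ ⊔ Subgroup.zpowers x = A := by
    have hle : A₁ ⊔ Subgroup.zpowers x ≤ A := sup_le hA₁lt.le (by rwa [Subgroup.zpowers_le])
    by_contra hne
    have hlt : A₁ ⊔ Subgroup.zpowers x < A := lt_of_le_of_ne hle hne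
    have hc := hA₁max _ ⟨hHA₁.trans le_sup_left, hlt⟩
    have := Subgroup.eq_of_le_of_card_ge (le_sup_left : A₁ ≤ A₁ ⊔ Subgroup.zpowers x) hc
    apply hxA₁
    rw [this]
    exact Subgroup.mem_sup_right (Subgroup.mem_zpowers x)
  -- commutators with elements of A land in H ≤ A₁
  have hcomm : ∀ n ∈ A, ∀ g : P, ⁅g, n⁆ ∈ A₁ := by
    intro n hn g
    apply hHA₁
    rw [← commutatorElement_inv]
    exact inv_mem (Subgroup.commutator_mem_commutator hn (Subgroup.mem_top g))
  have hA₁n : A₁.Normal := by
    refine ⟨fun n hn g => ?_⟩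
    have e : g * n * g⁻¹ = ⁅g, n⁆ * n := by rw [commutatorElement_def]; group
    rw [e]
    exact mul_mem (hcomm n (hA₁lt.le hn) g) hn
  obtain ⟨b, hb⟩ := (hP.to_subgroup A₁).exists_card_eq
  have hblt : b < a := by
    have h1 : Nat.card A₁ < Nat.card A := by
      by_contra hge
      push Not at hge
      exact hA₁lt.ne (Subgroup.eq_of_le_of_card_ge hA₁lt.le hge)
    rw [hb, hA] at h1
    exact (Nat.pow_lt_pow_iff_right hp.one_lt).mp h1
  have ih1 := ih b hblt A₁ hA₁n hb
  -- bound card C(A₁) ≤ card C(A) * card A₁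
  set E := Subgroup.centralizer (A₁ : Set P) with hE
  let f : ↥E → ↥A₁ := fun g => ⟨⁅(g : P), x⁆, hcomm x hxA g⟩
  have hfib : ∀ v : ↥A₁, Nat.card {g : ↥E // f g = v} ≤
      Nat.card (Subgroup.centralizer (A : Set P)) := by
    intro v
    by_cases hne : Nonempty {g : ↥E // f g = v}
    · obtain ⟨⟨g₀, hg₀⟩⟩ := hne
      have key : ∀ g : {g : ↥E // f g = v},
          (g₀ : P)⁻¹ * (g.1 : P) ∈ Subgroup.centralizer (A : Set P) := by
        rintro ⟨g, hg⟩
        have h1 : ⁅(g : P), x⁆ = ⁅(g₀ : P), x⁆ := by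
          have := hg.trans hg₀.symm
          exact congrArg Subtype.val this
        have h2 : (g : P) * x * (g : P)⁻¹ = (g₀ : P) * x * (g₀ : P)⁻¹ := by
          rw [commutatorElement_def, commutatorElement_def] at h1
          exact mul_right_cancel h1
        set k : P := (g₀ : P)⁻¹ * (g : P) with hk
        have hkx : x * k = k * x := by
          have : k * x * k⁻¹ = x := by
            rw [hk]
            have : (g₀ : P)⁻¹ * (g : P) * x * ((g₀ : P)⁻¹ * (g : P))⁻¹ =
                (g₀ : P)⁻¹ * ((g : P) * x * (g : P)⁻¹) * (g₀ : P) := by group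
            rw [this, h2]; group
          calc x * k = (k * x * k⁻¹) * k := by rw [this]
            _ = k * x := by group
        have hkE : k ∈ E := mul_mem (inv_mem g₀.2) g.2
        show k ∈ Subgroup.centralizer (A : Set P)
        have hle : A ≤ Subgroup.centralizer ({k} : Set P) := by
          rw [← hsup]
          refine sup_le ?_ ?_
          · intro n hn
            rw [Subgroup.mem_centralizer_iff]
            intro s hs
            rw [Set.mem_singleton_iff] at hs
            subst hs
            exact (Subgroup.mem_centralizer_iff.mp hkE n hn).symm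
          · rw [Subgroup.zpowers_le, Subgroup.mem_centralizer_iff]
            intro s hs
            rw [Set.mem_singleton_iff] at hs
            subst hs
            exact hkx.symm
        rw [Subgroup.mem_centralizer_iff]
        intro n hn
        have := Subgroup.mem_centralizer_iff.mp (hle hn) k rfl
        exact this.symm
      refine Nat.card_le_card_of_injective (fun g => ⟨_, key g⟩) ?_
      intro g g' hgg'
      have : (g₀ : P)⁻¹ * (g.1 : P) = (g₀ : P)⁻¹ * (g'.1 : P) := congrArg Subtype.val hgg'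
      exact Subtype.ext (Subtype.ext (mul_left_cancel this))
    · rw [not_nonempty_iff] at hne
      simp
  have hE_le := card_le_of_fibers f _ hfib
  rw [hb] at hE_le
  calc Nat.card P ≤ p ^ (b * (b - 1) / 2) * Nat.card E := ih1
    _ ≤ p ^ (b * (b - 1) / 2) * (Nat.card (Subgroup.centralizer (A : Set P)) * p ^ b) :=
        Nat.mul_le_mul_left _ hE_le
    _ = p ^ (b * (b - 1) / 2 + b) * Nat.card (Subgroup.centralizer (A : Set P)) := by
        rw [pow_add]; ring
    _ ≤ p ^ (a * (a - 1) / 2) * Nat.card (Subgroup.centralizer (A : Set P)) := by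
        apply Nat.mul_le_mul_right
        apply Nat.pow_le_pow_right hp.pos
        rw [tri]
        apply Nat.div_le_div_right
        have : b + 1 ≤ a := hblt
        calc b * (b + 1) ≤ (a - 1) * a := Nat.mul_le_mul (by omega) this
          _ = a * (a - 1) := mul_comm _ _






/-- A maximal normal abelian subgroup of a nilpotent group is self-centralising. -/
lemma centralizer_eq_self [Group.IsNilpotent P] (A : Subgroup P) [A.Normal]
    (hA : IsMulCommutative A)
    (hmax : ∀ B : Subgroup P, B.Normal → IsMulCommutative B → A ≤ B → B = A) :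
    Subgroup.centralizer (A : Set P) = A := by
  have hAcomm : ∀ a ∈ A, ∀ a' ∈ A, a * a' = a' * a := by
    intro a ha a' ha'
    have := hA.is_comm.comm ⟨a, ha⟩ ⟨a', ha'⟩
    exact congrArg Subtype.val this
  have hAC : A ≤ Subgroup.centralizer (A : Set P) := by
    intro a ha
    rw [Subgroup.mem_centralizer_iff]
    intro a' ha'
    exact hAcomm a' ha' a ha
  refine le_antisymm ?_ hAC
  by_contra hnot
  obtain ⟨k₀, hk₀C, hk₀A⟩ := SetLike.not_le_iff_exists.mp hnot
  have hnorm : ∀ k ∈ Subgroup.centralizer (A : Set P), ∀ h ∈ (⊤ : Subgroup P),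
      ⁅k, h⁆ ∈ Subgroup.centralizer (A : Set P) := by
    intro k hk h _
    have e : ⁅k, h⁆ = k * (h * k⁻¹ * h⁻¹) := by rw [commutatorElement_def]; group
    rw [e]
    exact mul_mem hk (Subgroup.Normal.conj_mem inferInstance _ (inv_mem hk) h)
  obtain ⟨k, hkC, hkA, hkc⟩ := Cfsg.Agent.S0130.exists_central_mod (A := A) hnorm hk₀C hk₀A
  have hka : ∀ a ∈ A, Commute k a := by
    intro a ha
    exact (Subgroup.mem_centralizer_iff.mp hkC a ha).symm
  set B := A ⊔ Subgroup.zpowers k with hB
  have hkB : k ∈ B := Subgroup.mem_sup_right (Subgroup.mem_zpowers k)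
  have hBn : B.Normal := by
    refine ⟨fun b hb g => ?_⟩
    obtain ⟨a, ha, j, rfl⟩ := Cfsg.Agent.S0130.mem_sup_zpowers.mp hb
    have e : g * (a * k ^ j) * g⁻¹ = (g * a * g⁻¹) * (g * k * g⁻¹) ^ j := by
      rw [conj_zpow]; group
    rw [e]
    refine mul_mem (Subgroup.mem_sup_left (Subgroup.Normal.conj_mem inferInstance a ha g)) ?_
    apply zpow_mem
    have e2 : g * k * g⁻¹ = ⁅g, k⁆ * k := by rw [commutatorElement_def]; group
    rw [e2]
    refine mul_mem (Subgroup.mem_sup_left ?_) hkB
    rw [← commutatorElement_inv]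
    exact inv_mem (hkc g (Subgroup.mem_top g))
  have hBc : IsMulCommutative B := by
    refine ⟨⟨fun ⟨b, hb⟩ ⟨b', hb'⟩ => Subtype.ext ?_⟩⟩
    obtain ⟨a, ha, j, rfl⟩ := Cfsg.Agent.S0130.mem_sup_zpowers.mp hb
    obtain ⟨a', ha', j', rfl⟩ := Cfsg.Agent.S0130.mem_sup_zpowers.mp hb'
    have c1 : Commute (k ^ j) a' := (hka a' ha').zpow_left j
    have c2 : Commute (k ^ j') a := (hka a ha).zpow_left j'
    have c3 : Commute (k ^ j) (k ^ j') := (Commute.refl k).zpow_zpow j j'
    have c4 : Commute a a' := hAcomm a ha a' ha'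
    have : Commute (a * k ^ j) (a' * k ^ j') :=
      (c4.mul_right c2.symm).mul_left (c1.mul_right c3)
    exact this.eq
  have := hmax B hBn hBc le_sup_left
  apply hkA
  rw [← this]
  exact hkB


end Aux
/-- The order of a p-group is bounded by p^(a(a+1)/2) when it has a maximal normal abelian subgroup of order p^a. -/
theorem result {G : Type*} [Group G] [Finite G] {p : ℕ} [Fact p.Prime] (hG : IsPGroup p G) (A : Subgroup G) [A.Normal] (hA : IsMulCommutative A) (hmax : ∀ B : Subgroup G, B.Normal → IsMulCommutative B → A ≤ B → B = A) (a : ℕ) (ha : Nat.card A = p ^ a) : Nat.card G ≤ p ^ (a * (a + 1) / 2) := by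
  have : Group.IsNilpotent G := hG.isNilpotent
  have hC := centralizer_eq_self A hA hmax
  have hb := aut_bound hG a A inferInstance ha
  rw [hC, ha, ← pow_add, tri] at hb
  exact hb


end Cfsg.Agent.S0129
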