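import Mathlib
import Cfsg.Statements.S0131
-- import your own Cfsg.Agent.* helpers here

set_option autoImplicit false
open Cfsg
open scoped commutatorElement

namespace Cfsg.Agent.S0131

/-- P/P' has a normal complement in G exactly when the focal subgroup G' ∩ P is as small as possible, namely P'. -/
theorem result {G : Type*} [Group G] [Finite G] {p : ℕ} [Fact p.Prime] (P : Sylow p G) : (∃ N : Subgroup G, N.Normal ∧ N ⊓ (P : Subgroup G) = ⁅(P : Subgroup G), (P : Subgroup G)⁆ ∧ N ⊔ (P : Subgroup G) = ⊤) ↔ commutator G ⊓ (P : Subgroup G) = ⁅(P : Subgroup G), (P : Subgroup G)⁆ := by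
  constructor
  · rintro ⟨N, hN, hNP, hsup⟩
    have := hN
    apply le_antisymm
    · -- G' ≤ N since G/N is abelian
      have hcomm : commutator G ≤ N := by
        rw [commutator_def, Subgroup.commutator_le]
        intro x _ y _
        -- write x = n₁ a, y = n₂ b with a, b ∈ P
        have hx : x ∈ N ⊔ (P : Subgroup G) := by rw [hsup]; exact Subgroup.mem_top x
        have hy : y ∈ N ⊔ (P : Subgroup G) := by rw [hsup]; exact Subgroup.mem_top y
        obtain ⟨n₁, hn₁, a, ha, rfl⟩ := Subgroup.mem_sup_of_normal_left.mp hx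
        obtain ⟨n₂, hn₂, b, hb, rfl⟩ := Subgroup.mem_sup_of_normal_left.mp hy
        -- modulo N, the commutator is ⁅a, b⁆ ∈ P' ≤ N
        have hab : ⁅a, b⁆ ∈ N := by
          have : ⁅a, b⁆ ∈ ⁅(P : Subgroup G), (P : Subgroup G)⁆ :=
            Subgroup.commutator_mem_commutator ha hb
          rw [← hNP] at this
          exact this.1
        rw [← QuotientGroup.eq_one_iff] at hab ⊢
        have h1 : ((n₁ : G) : G ⧸ N) = 1 := (QuotientGroup.eq_one_iff _).mpr hn₁
        have h2 : ((n₂ : G) : G ⧸ N) = 1 := (QuotientGroup.eq_one_iff _).mpr hn₂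
        simp only [commutatorElement_def, QuotientGroup.mk_mul, QuotientGroup.mk_inv, h1, h2,
          one_mul] at hab ⊢
        simpa using hab
      calc commutator G ⊓ (P : Subgroup G) ≤ N ⊓ (P : Subgroup G) := inf_le_inf_right _ hcomm
        _ = _ := hNP
    · refine le_inf ?_ ?_
      · rw [commutator_def]; exact Subgroup.commutator_mono le_top le_top
      · rw [Subgroup.commutator_le]
        intro a ha b hb
        exact (P : Subgroup G).mul_mem ((P : Subgroup G).mul_mem ((P : Subgroup G).mul_mem ha hb)
          ((P : Subgroup G).inv_mem ha)) ((P : Subgroup G).inv_mem hb)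
  · intro h
    refine ⟨P.transferFocal.ker, inferInstance, ?_, ?_⟩
    · rw [Subgroup.ker_transferFocal_inf_eq_focalSubgroup, ← Subgroup.commutator_inf_eq_focalSubgroup, h]
    · rw [eq_top_iff]
      intro g _
      obtain ⟨y, hy⟩ := Subgroup.focalSubgroupOf.pow_index_surjective P (P.transferFocal g)
      obtain ⟨x, rfl⟩ := QuotientGroup.mk'_surjective _ y
      have hx : P.transferFocal (x : G) = P.transferFocal g := by
        rw [Subgroup.transferFocal_eq_pow]; exact hy
      have hk : g * (x : G)⁻¹ ∈ P.transferFocal.ker := by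
        rw [MonoidHom.mem_ker, map_mul, map_inv, hx, mul_inv_cancel]
      have : g = (g * (x : G)⁻¹) * (x : G) := by group
      rw [this]
      exact Subgroup.mul_mem_sup hk x.2

end Cfsg.Agent.S0131
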