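import Mathlib
import Cfsg.Statements.S0132
import Cfsg.Agent.Lib.Helper2.FusionComplement
import Cfsg.Agent.Lib.Helper65.NilpBasic

set_option autoImplicit false
open Cfsg

namespace Cfsg.Agent.S0132

open Cfsg.Agent.Lib.Helper2 Cfsg.Agent.Lib.Helper34

/-- A `p`-element lying in a subgroup of order prime to `p` is trivial. -/
theorem eq_one_of_mem_of_isPGroup_of_coprime {G : Type*} [Group G] [Finite G] {p : ℕ} [Fact p.Prime]
    {Q K : Subgroup G} (hQ : IsPGroup p Q) (hK : (Nat.card K).Coprime p) {y : G} (hyQ : y ∈ Q)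
    (hyK : y ∈ K) : y = 1 := by
  obtain ⟨k, hk⟩ := hQ ⟨y, hyQ⟩
  have h1 : orderOf y ∣ p ^ k := orderOf_dvd_of_pow_eq_one (by simpa using congrArg Subtype.val hk)
  have h2 : orderOf y ∣ Nat.card K := by
    have := orderOf_dvd_natCard (⟨y, hyK⟩ : K)
    rwa [Subgroup.orderOf_mk] at this
  have : orderOf y = 1 := Nat.eq_one_of_dvd_coprimes (hK.pow_right k) h2 h1
  exact orderOf_eq_one_iff.mp this

/-- A finite nilpotent group has a normal `p`-complement. -/
theorem hasNormalPComplement_of_isNilpotent {G : Type*} [Group G] [Finite G] {p : ℕ} [Fact p.Prime]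
    (h : Group.IsNilpotent G) : HasNormalPComplement p G := by
  apply hasNormalPComplement_of_coprimeCentralizes
  intro Q hQ g _ hcop
  rw [Subgroup.mem_centralizer_iff]
  intro x hx
  obtain ⟨k, hk⟩ := hQ ⟨x, hx⟩
  have h1 : orderOf x ∣ p ^ k := orderOf_dvd_of_pow_eq_one (by simpa using congrArg Subtype.val hk)
  have hc : Nat.Coprime (orderOf x) (orderOf g) :=
    Nat.Coprime.coprime_dvd_left h1 (Nat.Coprime.pow_left k hcop.symm)
  exact (Cfsg.Agent.Lib.Helper65.commute_of_coprime_orderOf x g hc).eq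

/-- A minimal non-p-nilpotent finite group is a minimal non-nilpotent group with a normal Sylow p-subgroup. -/
theorem result {G : Type*} [Group G] [Finite G] {p : ℕ} [Fact p.Prime] (h1 : ¬ Cfsg.HasNormalPComplement p G) (h2 : ∀ H : Subgroup G, H ≠ ⊤ → Cfsg.HasNormalPComplement p H) : (∀ H : Subgroup G, H ≠ ⊤ → Group.IsNilpotent H) ∧ ¬ Group.IsNilpotent G ∧ ∀ P : Sylow p G, (P : Subgroup G).Normal := by
  have hnn : ¬ Group.IsNilpotent G := fun h => h1 (hasNormalPComplement_of_isNilpotent h)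
  have hc : ¬ CoprimeCentralizes p G := fun hc => h1 (hasNormalPComplement_of_coprimeCentralizes hc)
  unfold CoprimeCentralizes at hc
  push Not at hc
  obtain ⟨Q, hQ, g, hgN, hgcop, hgC⟩ := hc
  -- `G = Q⟨g⟩`
  have htop : Q ⊔ Subgroup.zpowers g = ⊤ := by
    by_contra hne
    obtain ⟨P', K, hKn, hKc⟩ := h2 _ hne
    have hgH : g ∈ Q ⊔ Subgroup.zpowers g := Subgroup.mem_sup_right (Subgroup.mem_zpowers g)
    have hgK : (⟨g, hgH⟩ : ↥(Q ⊔ Subgroup.zpowers g)) ∈ K :=
      mem_of_coprime_orderOf_of_isComplement' P' K hKc _ (by rwa [Subgroup.orderOf_mk])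
    have hKcop := card_coprime_of_isComplement' P' K hKc
    apply hgC
    rw [Subgroup.mem_centralizer_iff]
    intro x hx
    have hxH : x ∈ Q ⊔ Subgroup.zpowers g := Subgroup.mem_sup_left hx
    have hyQ : g * x * g⁻¹ * x⁻¹ ∈ Q :=
      Q.mul_mem ((Subgroup.mem_set_normalizer_iff.mp hgN x).mp hx) (Q.inv_mem hx)
    have hyK : ((⟨g, hgH⟩ : ↥(Q ⊔ Subgroup.zpowers g)) * (⟨x, hxH⟩ * ⟨g, hgH⟩⁻¹ * ⟨x, hxH⟩⁻¹)) ∈ K :=
      K.mul_mem hgK (hKn.conj_mem _ (K.inv_mem hgK) _)
    have hy1 : g * x * g⁻¹ * x⁻¹ = 1 :=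
      eq_one_of_mem_of_isPGroup_of_coprime (K := K.map (Q ⊔ Subgroup.zpowers g).subtype) hQ
        (by rwa [Subgroup.card_map_of_injective (Subgroup.subtype_injective _)]) hyQ
        ⟨_, hyK, by simp [mul_assoc]⟩
    have h3 : g * x * g⁻¹ = x := mul_inv_eq_one.mp hy1
    exact (mul_inv_eq_iff_eq_mul.mp h3).symm
  have hQn : Q.Normal := by
    rw [← Subgroup.normalizer_eq_top_iff, eq_top_iff, ← htop]
    exact sup_le Subgroup.le_normalizer ((Subgroup.zpowers_le).mpr hgN)
  have hidx : ¬ p ∣ Q.index := by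
    have h3 : Q.index ∣ orderOf g := by
      have h4 : Q.index = Q.relIndex (Subgroup.zpowers g) := by
        rw [← Subgroup.relIndex_top_right, ← htop]
        exact Subgroup.relIndex_sup_left _ _
      rw [h4, ← Nat.card_zpowers]
      exact Subgroup.relIndex_dvd_card _ _
    intro hp
    have h5 := Nat.dvd_gcd (hp.trans h3) (dvd_refl p)
    rw [Nat.Coprime.gcd_eq_one hgcop] at h5
    exact (Fact.out : p.Prime).one_lt.ne' (Nat.dvd_one.mp h5)
  -- commutators lie in `Q`
  have hcomm : ∀ x y : G, x * y * x⁻¹ * y⁻¹ ∈ Q := by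
    have hz : ∀ x : G, ∃ z ∈ Subgroup.zpowers g, (QuotientGroup.mk x : G ⧸ Q) = QuotientGroup.mk z := by
      intro x
      have hx : x ∈ Q ⊔ Subgroup.zpowers g := by rw [htop]; trivial
      rw [Subgroup.mem_sup_of_normal_left] at hx
      obtain ⟨q, hq, z, hz, rfl⟩ := hx
      refine ⟨z, hz, ?_⟩
      rw [QuotientGroup.mk_mul, (QuotientGroup.eq_one_iff q).mpr hq, one_mul]
    intro x y
    obtain ⟨z1, hz1, hx⟩ := hz x
    obtain ⟨z2, hz2, hy⟩ := hz y
    rw [← QuotientGroup.eq_one_iff]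
    simp only [QuotientGroup.mk_mul, QuotientGroup.mk_inv, hx, hy]
    obtain ⟨i, rfl⟩ := Subgroup.mem_zpowers_iff.mp hz1
    obtain ⟨j, rfl⟩ := Subgroup.mem_zpowers_iff.mp hz2
    rw [← QuotientGroup.mk_mul, ← QuotientGroup.mk_inv, ← QuotientGroup.mk_inv,
      ← QuotientGroup.mk_mul, ← QuotientGroup.mk_mul, QuotientGroup.eq_one_iff]
    have : g ^ i * g ^ j * (g ^ i)⁻¹ * (g ^ j)⁻¹ = 1 := by
      rw [(Commute.zpow_zpow_self g i j).eq]; group
    rw [this]; exact Q.one_mem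
  refine ⟨?_, hnn, ?_⟩
  · intro H hH
    obtain ⟨P', K, hKn, hKc⟩ := h2 H hH
    have hKcop := card_coprime_of_isComplement' P' K hKc
    -- the Sylow `p`-subgroup of `H` is `H ∩ Q`
    have hQH : IsPGroup p (Q.subgroupOf H) := hQ.comap_subtype
    have hQHn : (Q.subgroupOf H).Normal := inferInstance
    have hidxH : ¬ p ∣ (Q.subgroupOf H).index := fun hp =>
      hidx (hp.trans (Subgroup.relIndex_dvd_index_of_normal Q H))
    have hP' : (P' : Subgroup H) = Q.subgroupOf H :=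
      ((hQH.toSylow hidxH).is_maximal' P'.isPGroup' (hQH.le_sylow_of_normal P')).trans rfl
    have hP'n : (P' : Subgroup H).Normal := by rw [hP']; exact hQHn
    -- `K` is abelian
    have hKcomm : IsMulCommutative K := by
      refine ⟨⟨fun a b => ?_⟩⟩
      have hab : ((a : H) * b * (a : H)⁻¹ * (b : H)⁻¹) ∈ K :=
        K.mul_mem (K.mul_mem (K.mul_mem a.2 b.2) (K.inv_mem a.2)) (K.inv_mem b.2)
      have habQ : ((a : H) * b * (a : H)⁻¹ * (b : H)⁻¹) ∈ Q.subgroupOf H := by
        rw [Subgroup.mem_subgroupOf]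
        simpa using hcomm (a : H) (b : H)
      have hone := eq_one_of_mem_of_isPGroup_of_coprime hQH hKcop habQ hab
      have h3 : (a : H) * b * (a : H)⁻¹ = b := mul_inv_eq_one.mp hone
      have h4 : (a : H) * b = b * a := mul_inv_eq_iff_eq_mul.mp h3
      exact Subtype.ext h4
    have hKnil : Group.IsNilpotent K :=
      ⟨⟨1, Subgroup.upperCentralSeries_one_eq_top_iff.mpr hKcomm⟩⟩
    have hPnil : Group.IsNilpotent (P' : Subgroup H) := P'.isPGroup'.isNilpotent
    have hsup := Cfsg.Agent.Lib.Helper71.isNilpotent_sup_of_normal K (P' : Subgroup H) hKnil hPnil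
    rw [hKc.sup_eq_top] at hsup
    exact Group.isNilpotent_top.mp hsup
  · intro P
    have hP : (P : Subgroup G) = Q :=
      ((hQ.toSylow hidx).is_maximal' P.isPGroup' (hQ.le_sylow_of_normal P)).trans rfl
    rw [hP]; exact hQn

end Cfsg.Agent.S0132
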