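import Cfsg.Statements.S0166
import Cfsg.Agent.Lib.Helper3.KRep5
-- import your own Cfsg.Agent.* helpers here

set_option autoImplicit false
open Cfsg

namespace Cfsg.Agent.S0166

/-- Brauer's splitting field Theorem: a complex representation of a finite group of exponent m is equivalent to a representation by matrices with entries in ℚ adjoined exp(2πi/m). -/
theorem result {G : Type*} [Group G] [Finite G] (n : ℕ) (ρ : Representation ℂ G (Fin n → ℂ)) : ∃ σ : Representation ℂ G (Fin n → ℂ), Nonempty (ρ.Equiv σ) ∧ ∀ g : G, ∀ i j : Fin n, LinearMap.toMatrix' (σ g) i j ∈ Algebra.adjoin ℚ ({Complex.exp (2 * Real.pi * Complex.I / (Monoid.exponent G : ℂ))} : Set ℂ) := by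
  classical
  haveI : Fintype G := Fintype.ofFinite G
  have hm : Monoid.exponent G ≠ 0 := Monoid.exponent_ne_zero_of_finite
  haveI : NeZero (Monoid.exponent G) := ⟨hm⟩
  have hζ : IsPrimitiveRoot (Complex.exp (2 * Real.pi * Complex.I / (Monoid.exponent G : ℂ)))
      (Monoid.exponent G) := Complex.isPrimitiveRoot_exp _ hm
  generalize Complex.exp (2 * Real.pi * Complex.I / (Monoid.exponent G : ℂ)) = ζ at hζ
  have hζint : IsIntegral ℤ ζ := hζ.isIntegral (Nat.pos_of_ne_zero hm)
  have hζalg : IsAlgebraic ℚ ζ := (hζint.tower_top (A := ℚ)).isAlgebraic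
  have hKeq : (IntermediateField.adjoin ℚ ({ζ} : Set ℂ)).toSubalgebra =
      Algebra.adjoin ℚ ({ζ} : Set ℂ) :=
    IntermediateField.adjoin_simple_toSubalgebra_of_isAlgebraic hζalg
  have hK : ∀ z : ℂ, z ^ Monoid.exponent G = 1 →
      z ∈ (IntermediateField.adjoin ℚ ({ζ} : Set ℂ)).toSubfield := by
    intro z hz
    obtain ⟨i, -, rfl⟩ := hζ.eq_pow_of_pow_eq_one hz
    exact pow_mem (IntermediateField.mem_adjoin_simple_self ℚ ζ) i
  obtain ⟨σ, hσ, hent⟩ := Cfsg.Agent.Lib.Helper3.exists_rep_over_subfield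
    (IntermediateField.adjoin ℚ ({ζ} : Set ℂ)).toSubfield hK n ρ
  refine ⟨σ, hσ, fun g i j => ?_⟩
  rw [← hKeq]
  exact hent g i j

end Cfsg.Agent.S0166
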