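import Cfsg.Statements.S0168
import Cfsg.Agent.Lib.Helper3.Complete
import Cfsg.Agent.Lib.Helper3.CharValues

set_option autoImplicit false
open Cfsg

namespace Cfsg.Agent.S0168

open scoped ComplexConjugate
open Polynomial

/-- Key algebraic step: if `∑ g, f g ^ i * c g = 0` for all `i < m`, where `f` takes at most `m`
values, then `∑_{g, f g = a₀} c g = 0` for each value `a₀`. -/
theorem sum_fiber_eq_zero {G : Type*} [Fintype G] [DecidableEq G] (f c : G → ℂ) (a₀ : ℂ)
    (ha₀ : a₀ ∈ Finset.univ.image f)
    (h : ∀ i : ℕ, i < (Finset.univ.image f).card → ∑ g : G, f g ^ i * c g = 0) :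
    ∑ g : G, (if f g = a₀ then c g else 0) = 0 := by
  classical
  set s := Finset.univ.image f with hs
  have hinj : Set.InjOn (id : ℂ → ℂ) s := fun _ _ _ _ h => h
  set P := Lagrange.basis s id a₀ with hP
  have hdeg : P.natDegree = s.card - 1 := Lagrange.natDegree_basis hinj ha₀
  have hcard : 0 < s.card := Finset.card_pos.mpr ⟨a₀, ha₀⟩
  have heval : ∀ g : G, P.eval (f g) = if f g = a₀ then 1 else 0 := by
    intro g
    have hg : f g ∈ s := Finset.mem_image.mpr ⟨g, Finset.mem_univ g, rfl⟩
    by_cases hfg : f g = a₀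
    · rw [if_pos hfg, hfg]
      exact Lagrange.eval_basis_self hinj ha₀
    · rw [if_neg hfg]
      exact Lagrange.eval_basis_of_ne (v := id) (fun h => hfg h.symm) hg
  have h1 : ∑ g : G, (if f g = a₀ then c g else 0) = ∑ g : G, P.eval (f g) * c g := by
    refine Finset.sum_congr rfl fun g _ => ?_
    rw [heval g]
    split_ifs <;> simp
  rw [h1]
  have h2 : ∀ g : G, P.eval (f g) * c g =
      ∑ i ∈ Finset.range (P.natDegree + 1), P.coeff i * (f g ^ i * c g) := by
    intro g
    rw [Polynomial.eval_eq_sum_range, Finset.sum_mul]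
    refine Finset.sum_congr rfl fun i _ => ?_
    ring
  rw [Finset.sum_congr rfl fun g _ => h2 g, Finset.sum_comm]
  apply Finset.sum_eq_zero
  intro i hi
  rw [← Finset.mul_sum, h i, mul_zero]
  rw [Finset.mem_range, hdeg] at hi
  omega


/-- The Burnside–Brauer Theorem. Let χ be the character of a faithful complex representation of a finite group, taking m distinct values. Then every irreducible character has nonzero inner product with χ ^ i for some i < m. -/
theorem result {G : Type*} [Group G] [Fintype G] {V : Type*} [AddCommGroup V] [Module ℂ V] [FiniteDimensional ℂ V] (ρ : Representation ℂ G V) (hfaithful : Function.Injective ρ) (ψ : G → ℂ) (hψ : Cfsg.IsIrrCharacter G ψ) : ∃ i : ℕ, i < Nat.card (Set.range ρ.character) ∧ Cfsg.classInner (fun g => ρ.character g ^ i) ψ ≠ 0 := by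
  classical
  by_contra hcon
  push Not at hcon
  -- hcon : ∀ i < card range, classInner (χ^i) ψ = 0
  have hcardeq : Nat.card (Set.range ρ.character) = (Finset.univ.image ρ.character).card := by
    rw [← Set.toFinset_range, ← Nat.card_eq_card_toFinset]
  have hG : (Nat.card G : ℂ) ≠ 0 := Cfsg.Agent.Lib.Helper3.card_ne_zero_complex
  have h0 : ∀ i : ℕ, i < (Finset.univ.image ρ.character).card →
      ∑ g : G, ρ.character g ^ i * conj (ψ g) = 0 := by
    intro i hi
    have := hcon i (by rw [hcardeq]; exact hi)
    unfold Cfsg.classInner at this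
    rcases mul_eq_zero.mp this with h | h
    · exact absurd (inv_eq_zero.mp h) hG
    · exact h
  have ha₀ : ρ.character 1 ∈ Finset.univ.image ρ.character :=
    Finset.mem_image.mpr ⟨1, Finset.mem_univ 1, rfl⟩
  have hkey := sum_fiber_eq_zero ρ.character (fun g => conj (ψ g)) (ρ.character 1) ha₀ h0
  -- the fibre over χ(1) is {1}
  have hfib : ∀ g : G, ρ.character g = ρ.character 1 ↔ g = 1 := by
    intro g
    constructor
    · intro h
      rw [Representation.char_one] at h
      have := (Cfsg.Agent.Lib.Helper3.character_eq_finrank_iff ρ g).mp h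
      apply hfaithful
      rw [this, map_one]
      rfl
    · rintro rfl; rfl
  have hsum : ∑ g : G, (if ρ.character g = ρ.character 1 then conj (ψ g) else 0) = conj (ψ 1) := by
    rw [Finset.sum_eq_single (1 : G)]
    · rw [if_pos rfl]
    · intro g _ hg
      rw [if_neg (fun h => hg ((hfib g).mp h))]
    · intro h; exact absurd (Finset.mem_univ _) h
  rw [hsum] at hkey
  obtain ⟨n, σ, hσ, rfl⟩ := hψ
  rw [Representation.char_one, Complex.conj_natCast] at hkey
  have hpos := Cfsg.Agent.Lib.Helper3.finrank_pos_of_isIrreducible σ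
  have : (Module.finrank ℂ (Fin n → ℂ) : ℂ) ≠ 0 := by exact_mod_cast hpos.ne'
  exact this hkey

end Cfsg.Agent.S0168
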