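import Cfsg.Statements.S0170
import Cfsg.Agent.S0148
import Cfsg.Agent.Lib.Helper3.Induction
import Cfsg.Agent.Lib.Helper3.IrrBasis
import Cfsg.Agent.Lib.Helper79.Schur

set_option autoImplicit false
open Cfsg

namespace Cfsg.Agent.S0170

open scoped ComplexConjugate

section comb

variable {I : Type*} [Fintype I] [DecidableEq I]

/-- the standard basis vector -/
def e (p : I) : I → ℤ := fun ψ => if ψ = p then 1 else 0

theorem sum_e_mul (p : I) (f : I → ℤ) : ∑ ψ, e p ψ * f ψ = f p := by
  simp [e]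

/-- An integer vector of norm 2 orthogonal to a positive vector is `e p - e q`. -/
theorem vec_norm_two (v d : I → ℤ) (hd : ∀ ψ, 0 < d ψ) (h2 : ∑ ψ, v ψ ^ 2 = 2)
    (h0 : ∑ ψ, v ψ * d ψ = 0) : ∃ p q, p ≠ q ∧ v = e p - e q := by
  classical
  have hle : ∀ ψ, v ψ ^ 2 ≤ 2 := fun ψ => by
    rw [← h2]
    exact Finset.single_le_sum (f := fun ψ => v ψ ^ 2) (fun i _ => sq_nonneg _) (Finset.mem_univ ψ)
  have hval : ∀ ψ, v ψ = -1 ∨ v ψ = 0 ∨ v ψ = 1 := fun ψ => by
    have h := hle ψ
    have h1 : v ψ ≤ 1 := by nlinarith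
    have h2 : -1 ≤ v ψ := by nlinarith
    omega
  have hsq : ∀ ψ, v ψ ^ 2 = if v ψ ≠ 0 then 1 else 0 := fun ψ => by
    rcases hval ψ with h | h | h <;> simp [h]
  have hcard : (Finset.univ.filter (fun ψ => v ψ ≠ 0)).card = 2 := by
    have : ∑ ψ, v ψ ^ 2 = ((Finset.univ.filter (fun ψ => v ψ ≠ 0)).card : ℤ) := by
      rw [Finset.sum_congr rfl fun ψ _ => hsq ψ, Finset.sum_boole]
    rw [h2] at this
    exact_mod_cast this.symm
  obtain ⟨x, y, hxy, hs⟩ := Finset.card_eq_two.mp hcard
  have hx : v x ≠ 0 := by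
    have : x ∈ Finset.univ.filter (fun ψ => v ψ ≠ 0) := by rw [hs]; simp
    simpa using this
  have hy : v y ≠ 0 := by
    have : y ∈ Finset.univ.filter (fun ψ => v ψ ≠ 0) := by rw [hs]; simp
    simpa using this
  have hother : ∀ ψ, ψ ≠ x → ψ ≠ y → v ψ = 0 := fun ψ h1 h2 => by
    by_contra h
    have : ψ ∈ Finset.univ.filter (fun ψ => v ψ ≠ 0) := by simpa using h
    rw [hs] at this
    simp at this
    rcases this with h | h
    · exact h1 h
    · exact h2 h
  have hsum : v x * d x + v y * d y = 0 := by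
    rw [← h0]
    rw [← Finset.sum_subset (Finset.subset_univ {x, y})]
    · rw [Finset.sum_pair hxy]
    · intro ψ _ hψ
      simp only [Finset.mem_insert, Finset.mem_singleton, not_or] at hψ
      rw [hother ψ hψ.1 hψ.2, zero_mul]
  have hdx := hd x
  have hdy := hd y
  rcases hval x with h1 | h1 | h1
  · rcases hval y with h2 | h2 | h2
    · rw [h1, h2] at hsum; exfalso; linarith
    · exact absurd h2 hy
    · refine ⟨y, x, hxy.symm, ?_⟩
      funext ψ
      simp only [Pi.sub_apply, e]
      by_cases hψx : ψ = x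
      · subst hψx; simp [h1, hxy]
      · by_cases hψy : ψ = y
        · subst hψy; simp [h2, hψx]
        · simp [hψx, hψy, hother ψ hψx hψy]
  · exact absurd h1 hx
  · rcases hval y with h2 | h2 | h2
    · refine ⟨x, y, hxy, ?_⟩
      funext ψ
      simp only [Pi.sub_apply, e]
      by_cases hψx : ψ = x
      · subst hψx; simp [h1, hxy]
      · by_cases hψy : ψ = y
        · subst hψy; simp [h2, hψx]
        · simp [hψx, hψy, hother ψ hψx hψy]
    · exact absurd h2 hy
    · rw [h1, h2] at hsum; exfalso; linarith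

theorem inner_e_sub (p q p' q' : I) :
    ∑ ψ, (e p - e q) ψ * (e p' - e q') ψ =
      (if p = p' then 1 else 0) - (if p = q' then 1 else 0) - (if q = p' then 1 else 0)
        + (if q = q' then (1 : ℤ) else 0) := by
  have h : ∀ ψ, (e p - e q) ψ * (e p' - e q') ψ =
      e p ψ * e p' ψ - e p ψ * e q' ψ - e q ψ * e p' ψ + e q ψ * e q' ψ := fun ψ => by
    simp only [Pi.sub_apply]; ring
  rw [Finset.sum_congr rfl fun ψ _ => h ψ, Finset.sum_add_distrib, Finset.sum_sub_distrib,
    Finset.sum_sub_distrib, sum_e_mul, sum_e_mul, sum_e_mul, sum_e_mul]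
  simp only [e]

theorem exceptional_comb (n : ℕ) (hn : 2 ≤ n) (m : Fin n → I → ℤ) (d : I → ℤ)
    (hd : ∀ ψ, 0 < d ψ)
    (ha : ∀ i j k l : Fin n, ∑ ψ, (m i ψ - m j ψ) * (m k ψ - m l ψ) =
      (if i = k then 1 else 0) - (if i = l then 1 else 0) - (if j = k then 1 else 0)
        + (if j = l then (1 : ℤ) else 0))
    (hb : ∀ i j : Fin n, ∑ ψ, (m i ψ - m j ψ) * d ψ = 0) :
    ∃ ε : ℤ, (ε = 1 ∨ ε = -1) ∧ ∃ θ : Fin n → I, Function.Injective θ ∧
      ∀ i j, m i - m j = ε • (e (θ i) - e (θ j)) := by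
  classical
  let z : Fin n := ⟨0, by omega⟩
  let j₁ : Fin n := ⟨1, by omega⟩
  have hj₁ : j₁ ≠ z := by
    intro h
    have := congrArg Fin.val h
    simp [j₁, z] at this
  -- each `m z - m j` is `e p - e q`
  have hvec : ∀ j : Fin n, j ≠ z → ∃ p q : I, p ≠ q ∧ m z - m j = e p - e q := by
    intro j hj
    apply vec_norm_two (m z - m j) d hd
    · have := ha z j z j
      rw [if_pos rfl, if_neg (Ne.symm hj), if_neg hj, if_pos rfl] at this
      rw [← show ((1 : ℤ) - 0 - 0 + 1) = 2 by norm_num, ← this]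
      refine Finset.sum_congr rfl fun ψ _ => ?_
      simp only [Pi.sub_apply]; ring
    · have := hb z j
      rw [← this]
      rfl
  obtain ⟨p₁, q₁, -, -⟩ := hvec j₁ hj₁
  have key : ∀ j : Fin n, ∃ p q : I, j ≠ z → (p ≠ q ∧ m z - m j = e p - e q) := by
    intro j
    by_cases hj : j = z
    · exact ⟨p₁, p₁, fun h => absurd hj h⟩
    · obtain ⟨p, q, h1, h2⟩ := hvec j hj
      exact ⟨p, q, fun _ => ⟨h1, h2⟩⟩
  choose p q hpq using key
  -- the inner product equation
  have hE : ∀ j k : Fin n, j ≠ z → k ≠ z → j ≠ k →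
      (if p j = p k then 1 else 0) - (if p j = q k then 1 else 0) - (if q j = p k then 1 else 0)
        + (if q j = q k then (1 : ℤ) else 0) = 1 := by
    intro j k hj hk hjk
    rw [← inner_e_sub, ← (hpq j hj).2, ← (hpq k hk).2]
    have := ha z j z k
    rw [if_pos rfl, if_neg (Ne.symm hk), if_neg hj, if_neg hjk] at this
    simpa using this
  have F1 : ∀ j k : Fin n, j ≠ z → k ≠ z → j ≠ k → ¬ (p j = p k ∧ q j = q k) := by
    intro j k hj hk hjk ⟨h1, h2⟩
    have h := hE j k hj hk hjk
    have hne1 : p j ≠ q k := by rw [← h2]; exact (hpq j hj).1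
    have hne2 : q j ≠ p k := by rw [← h1]; exact (hpq j hj).1.symm
    rw [if_pos h1, if_neg hne1, if_neg hne2, if_pos h2] at h
    omega
  have F2 : ∀ j k : Fin n, j ≠ z → k ≠ z → j ≠ k → (p j = p k ∨ q j = q k) := by
    intro j k hj hk hjk
    by_contra hcon
    push Not at hcon
    have h := hE j k hj hk hjk
    rw [if_neg hcon.1, if_neg hcon.2] at h
    split_ifs at h <;> omega
  -- general formula from the base formula
  have hgen : ∀ (ε : ℤ) (θ : Fin n → I), (∀ l, m z - m l = ε • (e (θ z) - e (θ l))) →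
      ∀ i j, m i - m j = ε • (e (θ i) - e (θ j)) := by
    intro ε θ h i j
    have h1 : m i - m j = (m z - m j) - (m z - m i) := by abel
    rw [h1, h i, h j]
    funext ψ
    simp only [Pi.sub_apply, Pi.smul_apply, smul_eq_mul]
    ring
  by_cases hQ : ∃ j k : Fin n, j ≠ z ∧ k ≠ z ∧ j ≠ k ∧ q j = q k
  · obtain ⟨j, k, hj, hk, hjk, hqjk⟩ := hQ
    have hall : ∀ l : Fin n, l ≠ z → q l = q j := by
      intro l hl
      by_cases hlj : l = j
      · rw [hlj]
      by_cases hlk : l = k
      · rw [hlk, hqjk]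
      rcases F2 l j hl hj hlj with h1 | h1
      · rcases F2 l k hl hk hlk with h2 | h2
        · exact absurd ⟨h1.symm.trans h2, hqjk⟩ (F1 j k hj hk hjk)
        · rw [h2, hqjk]
      · exact h1
    refine ⟨-1, Or.inr rfl, fun l => if l = z then q j else p l, ?_, ?_⟩
    · intro a b hab
      simp only at hab
      by_cases ha : a = z
      · by_cases hb : b = z
        · rw [ha, hb]
        · rw [if_pos ha, if_neg hb] at hab
          exact absurd (hab.symm.trans (hall b hb).symm) (hpq b hb).1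
      · by_cases hb : b = z
        · rw [if_neg ha, if_pos hb] at hab
          exact absurd (hab.trans (hall a ha).symm) (hpq a ha).1
        · rw [if_neg ha, if_neg hb] at hab
          by_contra hne
          exact F1 a b ha hb hne ⟨hab, (hall a ha).trans (hall b hb).symm⟩
    · apply hgen
      intro l
      by_cases hl : l = z
      · subst hl
        simp
      · simp only [hl, ↓reduceIte]
        rw [(hpq l hl).2, hall l hl]
        funext ψ
        simp only [Pi.sub_apply, Pi.smul_apply, smul_eq_mul]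
        ring
  · push Not at hQ
    have hall : ∀ l : Fin n, l ≠ z → p l = p j₁ := by
      intro l hl
      by_cases hlj : l = j₁
      · rw [hlj]
      rcases F2 l j₁ hl hj₁ hlj with h1 | h1
      · exact h1
      · exact absurd h1 (hQ l j₁ hl hj₁ hlj)
    refine ⟨1, Or.inl rfl, fun l => if l = z then p j₁ else q l, ?_, ?_⟩
    · intro a b hab
      simp only at hab
      by_cases ha : a = z
      · by_cases hb : b = z
        · rw [ha, hb]
        · rw [if_pos ha, if_neg hb] at hab
          exact absurd ((hall b hb).trans hab) (hpq b hb).1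
      · by_cases hb : b = z
        · rw [if_neg ha, if_pos hb] at hab
          exact absurd ((hall a ha).trans hab.symm) (hpq a ha).1
        · rw [if_neg ha, if_neg hb] at hab
          by_contra hne
          exact hQ a b ha hb hne hab
    · apply hgen
      intro l
      by_cases hl : l = z
      · subst hl
        simp
      · simp only [hl, ↓reduceIte]
        rw [(hpq l hl).2, hall l hl, one_smul]


end comb

section chars

variable {G : Type*} [Group G] [Fintype G]

omit [Fintype G] in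
theorem extendByZero_sub (H : Subgroup G) (f g : H → ℂ) (y : G) :
    Cfsg.extendByZero H (f - g) y = Cfsg.extendByZero H f y - Cfsg.extendByZero H g y := by
  by_cases hy : y ∈ H
  · simp only [Cfsg.Agent.Lib.Helper75.extendByZero_of_mem _ _ hy, Pi.sub_apply]
  · simp only [Cfsg.Agent.Lib.Helper75.extendByZero_of_not_mem _ _ hy, sub_zero]

theorem indFun_sub (H : Subgroup G) (f g : H → ℂ) :
    Cfsg.indFun H (f - g) = Cfsg.indFun H f - Cfsg.indFun H g := by
  funext x
  unfold Cfsg.indFun
  simp only [Pi.sub_apply, extendByZero_sub, Finset.sum_sub_distrib, mul_sub]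

/-- inner product of two combinations of irreducible characters -/
theorem classInner_comb (a b : Cfsg.IrrCharacter G → ℂ) :
    Cfsg.classInner (∑ φ : Cfsg.IrrCharacter G, a φ • (φ : G → ℂ))
      (∑ φ : Cfsg.IrrCharacter G, b φ • (φ : G → ℂ)) = ∑ φ, a φ * conj (b φ) := by
  rw [Cfsg.Agent.Lib.Helper3.classInner_sum_right]
  refine Finset.sum_congr rfl fun ψ _ => ?_
  rw [Cfsg.Agent.Lib.Helper3.classInner_smul_right,
    Cfsg.Agent.Lib.Helper78.classInner_nat_combination, mul_comm]

end chars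


/-- Exceptional characters. Let S be a subset of a finite group contained in its normalizer N and meeting its conjugates by elements outside N only in the identity. Given n ≥ 2 distinct irreducible characters of N of equal degree that vanish on N away from S, there exist a sign ε and n distinct irreducible characters θ_i of G such that inducing χ_i − χ_j to G gives ε (θ_i − θ_j) for all i, j. -/
theorem result {G : Type*} [Group G] [Fintype G] (S : Set G) (hSN : S ⊆ Subgroup.normalizer S) (hTI : ∀ g : G, g ∉ Subgroup.normalizer S → ∀ s ∈ S, g * s * g⁻¹ ∈ S → s = 1) (n : ℕ) (hn : 2 ≤ n) (χ : Fin n → (Subgroup.normalizer S → ℂ)) (hirr : ∀ i, Cfsg.IsIrrCharacter (Subgroup.normalizer S) (χ i)) (hinj : Function.Injective χ) (hvan : ∀ i, ∀ x : Subgroup.normalizer S, (x : G) ∉ S → χ i x = 0) (hdeg : ∀ i j, χ i 1 = χ j 1) : ∃ ε : ℂ, (ε = 1 ∨ ε = -1) ∧ ∃ θ : Fin n → (G → ℂ), (∀ i, Cfsg.IsIrrCharacter G (θ i)) ∧ Function.Injective θ ∧ ∀ i j, Cfsg.indFun (Subgroup.normalizer S) (χ i) - Cfsg.indFun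 (Subgroup.normalizer S) (χ j) = ε • (θ i - θ j) := by
  classical
  have hN : Fintype (Subgroup.normalizer S) := Fintype.ofFinite _
  -- induced characters as natural combinations
  have hchar : ∀ i, Cfsg.IsCharacter G (Cfsg.indFun (Subgroup.normalizer S) (χ i)) := fun i =>
    Cfsg.Agent.S0148.result _ (χ i) (Cfsg.Agent.Lib.Helper3.IsIrrCharacter.isCharacter (hirr i))
  have hex : ∀ i, ∃ m : Cfsg.IrrCharacter G → ℕ, Cfsg.indFun (Subgroup.normalizer S) (χ i) =
      ∑ ψ : Cfsg.IrrCharacter G, (m ψ : ℂ) • (ψ : G → ℂ) := fun i =>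
    (Cfsg.Agent.Lib.Helper78.isCharacter_iff_exists_nat_combination _).mp (hchar i)
  choose m' hm' using hex
  have hdeg' : ∀ ψ : Cfsg.IrrCharacter G, ∃ k : ℕ, k ≠ 0 ∧ (ψ : G → ℂ) 1 = k := fun ψ =>
    Cfsg.Agent.Lib.Helper79.irr_apply_one_eq_natCast ψ
  choose d' hd' using hdeg'
  -- differences
  have hdiff : ∀ i j, Cfsg.indFun (Subgroup.normalizer S) (χ i) -
      Cfsg.indFun (Subgroup.normalizer S) (χ j) =
      ∑ ψ : Cfsg.IrrCharacter G, (((m' i ψ : ℤ) - (m' j ψ : ℤ) : ℤ) : ℂ) • (ψ : G → ℂ) := by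
    intro i j
    rw [hm' i, hm' j, ← Finset.sum_sub_distrib]
    refine Finset.sum_congr rfl fun ψ _ => ?_
    push_cast
    rw [sub_smul]
  -- class functions on N vanishing off S
  have hcl : ∀ i j, Cfsg.IsClassFunction (Subgroup.normalizer S) (χ i - χ j) := fun i j =>
    Cfsg.Agent.Lib.Helper3.isClassFunction_sub
      (Cfsg.Agent.Lib.Helper3.IsIrrCharacter.isClassFunction (hirr i))
      (Cfsg.Agent.Lib.Helper3.IsIrrCharacter.isClassFunction (hirr j))
  have hvan' : ∀ i j, ∀ x : Subgroup.normalizer S, (x : G) ∉ S → (χ i - χ j) x = 0 := by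
    intro i j x hx
    rw [Pi.sub_apply, hvan i x hx, hvan j x hx, sub_zero]
  have hone : ∀ i j, (χ i - χ j) 1 = 0 := fun i j => by
    rw [Pi.sub_apply, hdeg i j, sub_self]
  -- inner products
  have hinner : ∀ i j k l, Cfsg.classInner
      (Cfsg.indFun (Subgroup.normalizer S) (χ i) - Cfsg.indFun (Subgroup.normalizer S) (χ j))
      (Cfsg.indFun (Subgroup.normalizer S) (χ k) - Cfsg.indFun (Subgroup.normalizer S) (χ l)) =
      (if i = k then 1 else 0) - (if i = l then 1 else 0) - (if j = k then 1 else 0)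
        + (if j = l then (1 : ℂ) else 0) := by
    intro i j k l
    rw [← indFun_sub, ← indFun_sub,
      Cfsg.Agent.Lib.Helper3.classInner_indFun_TI S hTI (χ i - χ j) (χ k - χ l) (hcl k l)
        (hvan' i j) (hvan' k l) (hone i j)]
    have horth : ∀ a b : Fin n, Cfsg.classInner (χ a) (χ b) = if a = b then 1 else 0 := by
      intro a b
      rw [Cfsg.Agent.Lib.Helper3.classInner_irrCharacter (hirr a) (hirr b)]
      by_cases hab : a = b
      · rw [if_pos hab, if_pos (congrArg χ hab)]
      · rw [if_neg hab, if_neg (fun h => hab (hinj h))]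
    rw [Cfsg.Agent.Lib.Helper3.classInner_sub_left]
    have hsr : ∀ ψ f₁ f₂ : (Subgroup.normalizer S) → ℂ, Cfsg.classInner ψ (f₁ - f₂) =
        Cfsg.classInner ψ f₁ - Cfsg.classInner ψ f₂ := by
      intro ψ f₁ f₂
      rw [Cfsg.Agent.Lib.Helper3.classInner_conj_symm, Cfsg.Agent.Lib.Helper3.classInner_sub_left,
        map_sub, ← Cfsg.Agent.Lib.Helper3.classInner_conj_symm,
        ← Cfsg.Agent.Lib.Helper3.classInner_conj_symm]
    rw [hsr, hsr, horth, horth, horth, horth]
    ring
  -- apply the combinatorial lemma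
  have ha : ∀ i j k l : Fin n, ∑ ψ : Cfsg.IrrCharacter G,
      ((m' i ψ : ℤ) - (m' j ψ : ℤ)) * ((m' k ψ : ℤ) - (m' l ψ : ℤ)) =
      (if i = k then 1 else 0) - (if i = l then 1 else 0) - (if j = k then 1 else 0)
        + (if j = l then (1 : ℤ) else 0) := by
    intro i j k l
    have h1 := hinner i j k l
    rw [hdiff i j, hdiff k l, classInner_comb] at h1
    have h2 : ((∑ ψ : Cfsg.IrrCharacter G,
        ((m' i ψ : ℤ) - (m' j ψ : ℤ)) * ((m' k ψ : ℤ) - (m' l ψ : ℤ)) : ℤ) : ℂ) =
        (((if i = k then 1 else 0) - (if i = l then 1 else 0) - (if j = k then 1 else 0)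
        + (if j = l then (1 : ℤ) else 0) : ℤ) : ℂ) := by
      push_cast
      rw [← h1]
      refine Finset.sum_congr rfl fun ψ _ => ?_
      simp
    exact_mod_cast h2
  have hb : ∀ i j : Fin n, ∑ ψ : Cfsg.IrrCharacter G,
      ((m' i ψ : ℤ) - (m' j ψ : ℤ)) * (d' ψ : ℤ) = 0 := by
    intro i j
    have h1 := congrFun (hdiff i j) 1
    rw [Pi.sub_apply, Cfsg.Agent.Lib.Helper75.indFun_one, Cfsg.Agent.Lib.Helper75.indFun_one,
      hdeg i j, sub_self] at h1
    simp only [Finset.sum_apply, Pi.smul_apply, smul_eq_mul] at h1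
    have h2 : ((∑ ψ : Cfsg.IrrCharacter G,
        ((m' i ψ : ℤ) - (m' j ψ : ℤ)) * (d' ψ : ℤ) : ℤ) : ℂ) = ((0 : ℤ) : ℂ) := by
      push_cast
      rw [h1]
      refine Finset.sum_congr rfl fun ψ _ => ?_
      rw [(hd' ψ).2]
      push_cast
      ring
    exact_mod_cast h2
  obtain ⟨ε, hε, θ, hθinj, hθ⟩ := exceptional_comb n hn (fun i ψ => (m' i ψ : ℤ))
    (fun ψ => (d' ψ : ℤ)) (fun ψ => by
      have := (hd' ψ).1
      positivity) ha hb
  refine ⟨(ε : ℂ), ?_, fun i => ((θ i : Cfsg.IrrCharacter G) : G → ℂ), fun i => (θ i).2, ?_, ?_⟩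
  · rcases hε with h | h
    · left; rw [h]; simp
    · right; rw [h]; simp
  · intro a b hab
    exact hθinj (Subtype.ext hab)
  · intro i j
    rw [hdiff i j]
    have h1 := hθ i j
    have h2 : ∀ ψ : Cfsg.IrrCharacter G, ((m' i ψ : ℤ) - (m' j ψ : ℤ)) =
        ε * (e (θ i) ψ - e (θ j) ψ) := by
      intro ψ
      have := congrFun h1 ψ
      simpa using this
    rw [Finset.sum_congr rfl fun ψ _ => by rw [h2 ψ]]
    simp only [e]
    push_cast
    simp only [mul_smul, sub_smul, ite_smul, one_smul, zero_smul]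
    rw [← Finset.smul_sum, Finset.sum_sub_distrib]
    simp

end Cfsg.Agent.S0170
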