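import Cfsg.Statements.S0180
import Cfsg.Agent.Lib.Helper75.GaloisPow
import Cfsg.Agent.Lib.Helper3.ColOrth

set_option autoImplicit false
open Cfsg

namespace Cfsg.Agent.S0180


/-- If a sum of `N`-th roots of unity is invariant under all power maps `μ ↦ μ^k`, `k` coprime
to `N`, then it is rational. -/
theorem rational_of_sum_roots_invariant (N : ℕ) (hN : 0 < N) {ι : Type*} [Fintype ι] (μ : ι → ℂ)
    (hμ : ∀ i, μ i ^ N = 1) (hinv : ∀ k : ℕ, k.Coprime N → ∑ i, μ i ^ k = ∑ i, μ i) :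
    ∃ q : ℚ, ∑ i, μ i = (q : ℂ) := by
  have : NeZero N := ⟨hN.ne'⟩
  let ζ : ℂ := Complex.exp (2 * Real.pi * Complex.I / N)
  have hζ : IsPrimitiveRoot ζ N := Complex.isPrimitiveRoot_exp N hN.ne'
  let K : IntermediateField ℚ ℂ := IntermediateField.adjoin ℚ {ζ}
  have halg : IsAlgebraic ℚ ζ := ((hζ.isIntegral hN).tower_top (A := ℚ)).isAlgebraic
  have hcyc : IsCyclotomicExtension {N} ℚ K := by
    change IsCyclotomicExtension {N} ℚ (IntermediateField.adjoin ℚ {ζ}).toSubalgebra
    rw [IntermediateField.adjoin_simple_toSubalgebra_of_isAlgebraic halg]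
    exact hζ.adjoin_isCyclotomicExtension ℚ
  have hgal : IsGalois ℚ K := IsCyclotomicExtension.isGalois {N} ℚ K
  have hfd : FiniteDimensional ℚ K := IsCyclotomicExtension.finiteDimensional {N} ℚ K
  have hζK : ζ ∈ K := IntermediateField.subset_adjoin ℚ {ζ} (Set.mem_singleton ζ)
  let ζ' : K := ⟨ζ, hζK⟩
  have hζ' : IsPrimitiveRoot ζ' N := by
    have hinj : Function.Injective (K.val : K →ₐ[ℚ] ℂ) := Subtype.val_injective
    exact IsPrimitiveRoot.of_map_of_injective (f := (K.val : K →ₐ[ℚ] ℂ)) hζ hinj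
  -- each μ i is a power of ζ
  have hpow : ∀ i, ∃ j : ℕ, ζ ^ j = μ i := fun i => by
    obtain ⟨j, -, hj⟩ := hζ.eq_pow_of_pow_eq_one (hμ i)
    exact ⟨j, hj⟩
  choose j hj using hpow
  let x : K := ∑ i, ζ' ^ j i
  have hx : (x : ℂ) = ∑ i, μ i := by
    simp only [x]
    rw [AddSubmonoidClass.coe_finsetSum]
    refine Finset.sum_congr rfl fun i _ => ?_
    rw [SubmonoidClass.coe_pow]
    exact hj i
  have hfix : ∀ f : K ≃ₐ[ℚ] K, f x = x := by
    intro f
    -- f ζ' is a primitive root, so a power of ζ' with exponent coprime to N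
    have hfζ : IsPrimitiveRoot (f ζ') N := hζ'.map_of_injective f.injective
    obtain ⟨k, hkN, hkcop, hk⟩ := hζ'.isPrimitiveRoot_iff.mp hfζ
    apply Subtype.ext
    rw [hx]
    simp only [x, map_sum, map_pow]
    rw [AddSubmonoidClass.coe_finsetSum, ← hinv k hkcop]
    refine Finset.sum_congr rfl fun i _ => ?_
    rw [← hk, SubmonoidClass.coe_pow, SubmonoidClass.coe_pow, ← hj i, ← pow_mul, ← pow_mul, mul_comm]
  obtain ⟨q, hq⟩ := (IsGalois.mem_range_algebraMap_iff_fixed x).mpr hfix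
  refine ⟨q, ?_⟩
  rw [← hx, ← hq]
  rfl


/-- Every irreducible complex character of a finite group takes only rational values if and only if g is conjugate to g ^ m for every element g and every m coprime to the group order. -/
theorem result {G : Type*} [Group G] [Finite G] : (∀ χ : Cfsg.IrrCharacter G, ∀ g : G, ∃ q : ℚ, (χ : G → ℂ) g = (q : ℂ)) ↔ ∀ m : ℕ, m.Coprime (Nat.card G) → ∀ g : G, IsConj g (g ^ m) := by
  cases nonempty_fintype G
  constructor
  · intro hrat m hm g
    obtain ⟨σ, -, hσ⟩ := Cfsg.Agent.Lib.Helper75.exists_ringEquiv_character_pow (G := G) m hm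
    rw [Cfsg.Agent.Lib.Helper3.isConj_iff_irrCharacter]
    intro χ
    obtain ⟨q, hq⟩ := hrat χ g
    have h1 := hσ χ (Cfsg.Agent.Lib.Helper3.IsIrrCharacter.isCharacter χ.2) g
    rw [hq, map_ratCast] at h1
    rw [hq, h1]
  · intro hconj χ g
    obtain ⟨n, ρ, _, hρ⟩ := χ.2
    have hN : 0 < Nat.card G := Nat.card_pos
    obtain ⟨μ, hμ, hk⟩ := Cfsg.Agent.Lib.Helper76.exists_character_pow_eq_sum ρ g (Nat.card G) hN
      (pow_card_eq_one')
    have h1 := hk 1
    rw [pow_one] at h1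
    simp only [pow_one] at h1
    have hinv : ∀ k : ℕ, k.Coprime (Nat.card G) → ∑ i, μ i ^ k = ∑ i, μ i := by
      intro k hkc
      rw [← hk k, ← h1]
      have hc := hconj k hkc g
      exact (Cfsg.Agent.Lib.Helper3.isClassFunction_iff_isConj.mp
        (fun a b => Representation.char_conj ρ a b) g (g ^ k) hc).symm
    obtain ⟨q, hq⟩ := rational_of_sum_roots_invariant (Nat.card G) hN μ hμ hinv
    exact ⟨q, by rw [← hρ, h1, hq]⟩

end Cfsg.Agent.S0180
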