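import Cfsg.Statements.S0181
import Mathlib

set_option autoImplicit false
open Cfsg

namespace Cfsg.Agent.S0181

theorem irr_invariant {G V : Type*} [Group G] [AddCommGroup V] [Module ℂ V]
    (ρ : Representation ℂ G V) [ρ.IsIrreducible] (W : Submodule ℂ V)
    (h : ∀ g v, v ∈ W → ρ g v ∈ W) : W = ⊥ ∨ W = ⊤ := by
  let S : Subrepresentation ρ := ⟨W, fun g v hv => h g v hv⟩
  rcases eq_bot_or_eq_top S with h1 | h1
  · left
    have := congrArg Subrepresentation.toSubmodule h1
    exact this
  · right
    have := congrArg Subrepresentation.toSubmodule h1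
    exact this


/-- Let H be a normal subgroup of a finite group G and ρ an irreducible complex representation whose kernel does not contain H. If g commutes with no non-identity element of H, then the character of ρ vanishes at g. -/
theorem result {G : Type*} [Group G] [Finite G] {V : Type*} [AddCommGroup V] [Module ℂ V] [FiniteDimensional ℂ V] (ρ : Representation ℂ G V) [ρ.IsIrreducible] (H : Subgroup G) [H.Normal] (hker : ∃ h ∈ H, ρ h ≠ LinearMap.id) (g : G) (hg : ∀ h ∈ H, h * g = g * h → h = 1) : ρ.character g = 0 := by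
  classical
  let _ : Fintype H := Fintype.ofFinite H
  -- fixed space of H
  let W : Submodule ℂ V :=
    { carrier := {v | ∀ h ∈ H, ρ h v = v}
      add_mem' := by
        intro a b ha hb h hh
        rw [map_add, ha h hh, hb h hh]
      zero_mem' := by intro h _; simp
      smul_mem' := by
        intro c v hv h hh
        rw [map_smul, hv h hh] }
  have hWinv : ∀ g v, v ∈ W → ρ g v ∈ W := by
    intro x v hv h hh
    have hconj : x⁻¹ * h * x ∈ H := by
      have := ‹H.Normal›.conj_mem h hh x⁻¹
      simpa using this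
    have h1 := hv _ hconj
    have : ρ h (ρ x v) = ρ x (ρ (x⁻¹ * h * x) v) := by
      rw [← Module.End.mul_apply, ← Module.End.mul_apply, ← map_mul, ← map_mul]
      congr 2
      group
    rw [this, h1]
  have hWbot : W = ⊥ := by
    rcases irr_invariant ρ W hWinv with h1 | h1
    · exact h1
    · exfalso
      obtain ⟨h, hh, hne⟩ := hker
      apply hne
      ext v
      have : v ∈ W := by rw [h1]; trivial
      exact this h hh
  -- the averaging operator
  let e : Module.End ℂ V := ∑ h : H, ρ (h : G)
  have he : e = 0 := by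
    ext v
    have hv : e v ∈ W := by
      intro h' hh'
      show ρ h' ((∑ h : H, ρ (h : G)) v) = (∑ h : H, ρ (h : G)) v
      rw [LinearMap.sum_apply, map_sum]
      have : ∀ h : H, ρ h' (ρ (h : G) v) = ρ (((⟨h', hh'⟩ : H) * h : H) : G) v := by
        intro h
        rw [← Module.End.mul_apply, ← map_mul]
        rfl
      simp_rw [this]
      exact Fintype.sum_equiv (Equiv.mulLeft (⟨h', hh'⟩ : H)) _ _ (fun h => rfl)
    rw [hWbot] at hv
    simpa using hv
  -- the commutator map
  let φ : H → H := fun h => ⟨(h : G) * g * (h : G)⁻¹ * g⁻¹, by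
    have h1 : g * (h : G)⁻¹ * g⁻¹ ∈ H := ‹H.Normal›.conj_mem _ (H.inv_mem h.2) g
    have := H.mul_mem h.2 h1
    simpa [mul_assoc] using this⟩
  have hφinj : Function.Injective φ := by
    intro a b hab
    have h1 : (a : G) * g * (a : G)⁻¹ * g⁻¹ = (b : G) * g * (b : G)⁻¹ * g⁻¹ := congrArg Subtype.val hab
    have h2 : (a : G) * g * (a : G)⁻¹ = (b : G) * g * (b : G)⁻¹ := mul_right_cancel h1
    have h3 : ((b : G)⁻¹ * (a : G)) * g = g * ((b : G)⁻¹ * (a : G)) := by
      calc ((b : G)⁻¹ * (a : G)) * g = (b : G)⁻¹ * ((a : G) * g * (a : G)⁻¹) * (a : G) := by group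
        _ = (b : G)⁻¹ * ((b : G) * g * (b : G)⁻¹) * (a : G) := by rw [h2]
        _ = g * ((b : G)⁻¹ * (a : G)) := by group
    have h4 := hg _ (H.mul_mem (H.inv_mem b.2) a.2) h3
    apply Subtype.ext
    have : (a : G) = (b : G) := by
      calc (a : G) = (b : G) * ((b : G)⁻¹ * (a : G)) := by group
        _ = (b : G) := by rw [h4, mul_one]
    exact this
  have hφbij : Function.Bijective φ := Finite.injective_iff_bijective.mp hφinj
  have hsum : ∑ h : H, ρ ((h : G) * g * (h : G)⁻¹) = e * ρ g := by
    have h1 : ∀ h : H, ρ ((h : G) * g * (h : G)⁻¹) = ρ ((φ h : H) : G) * ρ g := by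
      intro h
      rw [← map_mul]
      congr 1
      show _ = (h : G) * g * (h : G)⁻¹ * g⁻¹ * g
      group
    simp_rw [h1]
    rw [← Finset.sum_mul]
    congr 1
    exact Fintype.sum_bijective φ hφbij _ _ (fun h => rfl)
  have htr : ∑ h : H, LinearMap.trace ℂ V (ρ ((h : G) * g * (h : G)⁻¹)) = 0 := by
    rw [← map_sum, hsum, he, zero_mul, map_zero]
  have hconj : ∀ h : H, LinearMap.trace ℂ V (ρ ((h : G) * g * (h : G)⁻¹)) = ρ.character g := by
    intro h
    exact Representation.char_conj ρ g (h : G)
  simp_rw [hconj] at htr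
  rw [Finset.sum_const, Finset.card_univ, nsmul_eq_mul] at htr
  rcases mul_eq_zero.mp htr with h0 | h0
  · exfalso
    have : (Fintype.card H : ℂ) ≠ 0 := by
      exact_mod_cast Fintype.card_ne_zero
    exact this h0
  · exact h0

end Cfsg.Agent.S0181
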