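import Cfsg.Statements.S0183
import Mathlib
import Cfsg.Agent.Lib.Helper64.CNMaximal5
import Cfsg.Agent.S1473
import Cfsg.Agent.S1526

set_option autoImplicit false
open Cfsg

namespace Cfsg.Agent.S0183


universe u

/-- a minimal simple CN-group of odd order does not exist (local analysis + the character-theoretic S1526) -/
theorem no_minSimple_cn {G : Type u} [Group G] [Finite G] (hG : Cfsg.IsMinSimpleOddOrder G)
    (hCN : Cfsg.IsCNGroup G) : False := by
  obtain ⟨k, L, H, hk, hHL, hH1, hHn, hfrob, hcop, hTI, hcover⟩ :=
    Cfsg.Agent.Lib.Helper64.cn_minSimple_partition hG hCN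
  exact Cfsg.Agent.S1526.result hG.1 (ι := Fin k) (by simpa using hk) L H hHL hH1 hHn hfrob hcop hTI hcover

/-- the CN-theorem by induction on the order -/
theorem cn_odd_aux : ∀ (n : ℕ) (G : Type u) [Group G] [Finite G], Nat.card G = n → Odd (Nat.card G) →
    Cfsg.IsCNGroup G → Group.IsSolvable G := by
  intro n
  induction n using Nat.strong_induction_on with
  | _ n ih =>
    intro G _ _ hn hodd hCN
    -- proper subgroups are solvable
    have hsub : ∀ H : Subgroup G, H ≠ ⊤ → Group.IsSolvable H := by
      intro H hH
      have hlt : Nat.card H < n := by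
        rw [← hn]
        by_contra hge
        push Not at hge
        exact hH (Subgroup.eq_top_of_le_card _ hge)
      exact ih _ hlt ↥H rfl (Odd.of_dvd_nat hodd (Subgroup.card_subgroup_dvd_card H))
        (Cfsg.Agent.Lib.Helper64.isCNGroup_subgroup hCN H)
    by_cases hsimple : IsSimpleGroup G
    · by_cases hcomm : IsMulCommutative G
      · exact Group.isSolvable_of_comm (fun a b => hcomm.is_comm.comm a b)
      · exfalso
        exact no_minSimple_cn ⟨hodd, hsimple, hcomm, hsub⟩ hCN
    · by_cases hnt : Nontrivial G
      · have hex : ∃ N : Subgroup G, N.Normal ∧ N ≠ ⊥ ∧ N ≠ ⊤ := by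
          by_contra hno
          apply hsimple
          refine ⟨fun N hN => ?_⟩
          by_contra hne
          push Not at hne
          exact hno ⟨N, hN, hne.1, hne.2⟩
        obtain ⟨N, hNn, hN1, hNtop⟩ := hex
        have hNsolv : Group.IsSolvable N := hsub N hNtop
        have hQCN : Cfsg.IsCNGroup (G ⧸ N) := Cfsg.Agent.S1473.result hCN N hNsolv
        have hQlt : Nat.card (G ⧸ N) < n := by
          rw [← hn, ← Subgroup.index_eq_card, ← Subgroup.card_mul_index N]
          have h1 : 1 < Nat.card N := by
            rw [Subgroup.one_lt_card_iff_ne_bot]; exact hN1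
          have h2 : 0 < N.index := Nat.pos_of_ne_zero Subgroup.index_ne_zero_of_finite
          nlinarith
        have hQodd : Odd (Nat.card (G ⧸ N)) := by
          rw [← Subgroup.index_eq_card]
          exact Odd.of_dvd_nat hodd (Subgroup.index_dvd_card N)
        have hQsolv : Group.IsSolvable (G ⧸ N) := ih _ hQlt (G ⧸ N) rfl hQodd hQCN
        exact Group.isSolvable_of_ker_le_range N.subtype (QuotientGroup.mk' N)
          (by rw [QuotientGroup.ker_mk', Subgroup.range_subtype])
      · have : Subsingleton G := not_nontrivial_iff_subsingleton.mp hnt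
        infer_instance

/-- The CN-Theorem for odd order: a finite group of odd order in which every non-identity element has a nilpotent centralizer (a CN-group) is solvable. -/
theorem result {G : Type*} [Group G] [Finite G] (hodd : Odd (Nat.card G)) (hCN : Cfsg.IsCNGroup G) : Group.IsSolvable G := by
  exact cn_odd_aux (Nat.card G) G rfl hodd hCN

end Cfsg.Agent.S0183
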