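import Mathlib
import Cfsg.Statements.S0185
import Cfsg.Agent.Lib.Helper77.Linear
import Cfsg.Agent.Lib.Helper78.CharBasic
import Cfsg.Agent.Lib.Helper79.Integrality

set_option autoImplicit false
open Cfsg

namespace Cfsg.Agent.S0185

/-- If a finite group has a faithful complex representation of degree less than the smallest prime dividing its order, the group is abelian. -/
theorem result {G : Type*} [Group G] [Finite G] {V : Type*} [AddCommGroup V] [Module ℂ V] [FiniteDimensional ℂ V] (ρ : Representation ℂ G V) (hfaithful : Function.Injective ρ) (hdeg : ∀ p : ℕ, p.Prime → p ∣ Nat.card G → Module.finrank ℂ V < p) (a b : G) : a * b = b * a := by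
  obtain ⟨l, hl⟩ := Cfsg.Agent.Lib.Helper78.exists_irr_list ρ
  -- degrees
  have hdegsum : (Module.finrank ℂ V : ℂ) = (l.map (fun χ : IrrCharacter G => ((Cfsg.charDegree (χ : G → ℂ) : ℕ) : ℂ))).sum := by
    have h1 := congrFun hl 1
    rw [Representation.char_one] at h1
    rw [h1]
    clear hl h1
    induction l with
    | nil => simp
    | cons χ l ih =>
      simp only [List.map_cons, List.sum_cons, Pi.add_apply]
      rw [ih, Cfsg.Agent.Lib.Helper79.irr_apply_one_eq_charDegree]
  have hdegsum' : Module.finrank ℂ V = (l.map (fun χ : IrrCharacter G => Cfsg.charDegree (χ : G → ℂ))).sum := by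
    have : (Module.finrank ℂ V : ℂ) = (((l.map (fun χ : IrrCharacter G => Cfsg.charDegree (χ : G → ℂ))).sum : ℕ) : ℂ) := by
      rw [hdegsum]
      clear hdegsum hl
      induction l with
      | nil => simp
      | cons χ l ih => simp only [List.map_cons, List.sum_cons, Nat.cast_add, ih]
    exact_mod_cast this
  -- every constituent is linear
  have hlin : ∀ χ ∈ l, (χ : G → ℂ) 1 = 1 := by
    intro χ hχ
    have hle : Cfsg.charDegree (χ : G → ℂ) ≤ Module.finrank ℂ V := by
      rw [hdegsum']
      exact List.single_le_sum (fun _ _ => Nat.zero_le _) _ (List.mem_map.mpr ⟨χ, hχ, rfl⟩)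
    have hpos := Cfsg.Agent.Lib.Helper79.irr_charDegree_pos χ
    have hdvd := Cfsg.Agent.Lib.Helper79.irr_charDegree_dvd_card χ
    have h1 : Cfsg.charDegree (χ : G → ℂ) = 1 := by
      by_contra hne
      obtain ⟨p, hp, hpd⟩ := Nat.exists_prime_and_dvd hne
      have h2 := hdeg p hp (hpd.trans hdvd)
      have h3 := Nat.le_of_dvd hpos hpd
      omega
    rw [Cfsg.Agent.Lib.Helper79.irr_apply_one_eq_charDegree, h1]; simp
  -- the commutator lies in the kernel
  have hc : a * b * a⁻¹ * b⁻¹ ∈ commutator G := by
    rw [commutator_def]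
    exact Subgroup.commutator_mem_commutator (Subgroup.mem_top a) (Subgroup.mem_top b)
  have hchar : ρ.character (a * b * a⁻¹ * b⁻¹) = ρ.character 1 := by
    rw [hl]
    clear hl hdegsum hdegsum'
    induction l with
    | nil => simp
    | cons χ l ih =>
      simp only [List.map_cons, List.sum_cons, Pi.add_apply]
      rw [ih (fun ψ hψ => hlin ψ (List.mem_cons_of_mem _ hψ)),
        Cfsg.Agent.Lib.Helper77.linear_character_eq_one_of_mem_commutator χ
          (hlin χ List.mem_cons_self) _ hc,
        hlin χ List.mem_cons_self]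
  have hker := (Cfsg.Agent.Lib.Helper77.mem_ker_iff_character_eq ρ _).mpr hchar
  rw [MonoidHom.mem_ker] at hker
  have h1 : a * b * a⁻¹ * b⁻¹ = 1 := hfaithful (hker.trans (map_one ρ).symm)
  calc a * b = (a * b * a⁻¹ * b⁻¹) * (b * a) := by group
    _ = b * a := by rw [h1, one_mul]

end Cfsg.Agent.S0185
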