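import Cfsg.Statements.S4801
import Cfsg.Agent.Lib.Helper80.Codegree

set_option autoImplicit false
open Cfsg

namespace Cfsg.Agent.S4801

open Cfsg.Agent.Lib Cfsg.Agent.Lib.Helper80

/-- In a finite group, for every prime `p` dividing the order there is a nonprincipal irreducible
character of degree prime to `p`. -/
theorem exists_irr_not_dvd {S : Type*} [Group S] [Finite S] (p : ℕ) (hp : p.Prime)
    (hpS : p ∣ Nat.card S) :
    ∃ χ : IrrCharacter S, (χ : S → ℂ) ≠ (fun _ => (1 : ℂ)) ∧ ¬ p ∣ charDegree (χ : S → ℂ) := by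
  classical
  let _ : Fintype S := Fintype.ofFinite S
  by_contra hcon
  push Not at hcon
  have hsum := Helper78.sum_irr_charDegree_sq (G := S)
  let triv : IrrCharacter S := ⟨fun _ => (1 : ℂ), isIrrCharacter_one⟩
  rw [← Finset.add_sum_erase Finset.univ _ (Finset.mem_univ triv)] at hsum
  have htriv : charDegree (triv : S → ℂ) = 1 := by
    apply charDegree_natCast
    simp [triv]
  have hdvd : p ∣ ∑ χ ∈ Finset.univ.erase triv, charDegree (χ : S → ℂ) ^ 2 := by
    apply Finset.dvd_sum
    intro χ hχ
    have hne : χ ≠ triv := Finset.ne_of_mem_erase hχ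
    have hne' : (χ : S → ℂ) ≠ (fun _ => (1 : ℂ)) := fun h => hne (Subtype.ext h)
    exact Dvd.dvd.pow (hcon χ hne') (by norm_num)
  rw [htriv] at hsum
  have : p ∣ 1 := by
    have h2 : p ∣ 1 ^ 2 + ∑ χ ∈ Finset.univ.erase triv, charDegree (χ : S → ℂ) ^ 2 := by
      rw [hsum]; exact hpS
    have := (Nat.dvd_add_left hdvd).mp h2
    simpa using this
  exact hp.one_lt.ne' (Nat.dvd_one.mp this)

/-- A nonprincipal irreducible character of a simple group is faithful. -/
theorem card_ker_eq_one {S : Type*} [Group S] [Finite S] (hS : IsSimpleGroup S)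
    (χ : IrrCharacter S) (hχ : (χ : S → ℂ) ≠ (fun _ => (1 : ℂ))) :
    Nat.card {g : S // (χ : S → ℂ) g = (χ : S → ℂ) 1} = 1 := by
  classical
  let _ : Fintype S := Fintype.ofFinite S
  have hchar := isCharacter_of_isIrr χ.2
  rw [card_ker_set_eq hchar]
  rcases hS.eq_bot_or_eq_top_of_normal (charKer (χ : S → ℂ) hchar) (charKer_normal hchar) with
    h | h
  · rw [h]; simp
  · exfalso
    -- the character is constant
    have hconst : ∀ g : S, (χ : S → ℂ) g = (χ : S → ℂ) 1 := by
      intro g
      have : g ∈ charKer (χ : S → ℂ) hchar := by rw [h]; trivial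
      exact this
    have h1 := Helper78.classInner_irr_self χ.2
    have hdeg := char_one_eq_charDegree hchar
    have hnorm : classInner (χ : S → ℂ) (χ : S → ℂ) = (charDegree (χ : S → ℂ) : ℂ) ^ 2 := by
      unfold classInner
      have : ∀ g : S, (χ : S → ℂ) g * (starRingEnd ℂ) ((χ : S → ℂ) g) =
          (charDegree (χ : S → ℂ) : ℂ) ^ 2 := by
        intro g
        rw [hconst g, hdeg]
        simp [sq]
      simp only [this, Finset.sum_const, Finset.card_univ, nsmul_eq_mul]
      have hne : (Nat.card S : ℂ) ≠ 0 := by exact_mod_cast Nat.card_pos.ne'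
      rw [← Nat.card_eq_fintype_card, ← mul_assoc, inv_mul_cancel₀ hne, one_mul]
    rw [hnorm] at h1
    have hd1 : charDegree (χ : S → ℂ) = 1 := by
      have : (charDegree (χ : S → ℂ)) ^ 2 = 1 := by exact_mod_cast h1
      rcases Nat.pow_eq_one.mp this with h | h
      · exact h
      · exact absurd h (by norm_num)
    apply hχ
    funext g
    rw [hconst g, hdeg, hd1]
    simp

/-- The codegree of an irreducible character χ of a finite group G is [G : ker χ] / χ(1), where ker χ is the set of elements at which χ takes the value χ(1). Let S be a finite simple group and G a finite group such that every codegree of an irreducible character of S is a codegree of an irreducible character of G. Then the order of S divides the order of G. -/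
theorem result {S : Type*} [Group S] [Finite S] (hS : IsSimpleGroup S) {G : Type*} [Group G] [Finite G] (hsub : ∀ χ : Cfsg.IrrCharacter S, ∃ ψ : Cfsg.IrrCharacter G, (Nat.card S / (Nat.card {g : S // (χ : S → ℂ) g = (χ : S → ℂ) 1} * Cfsg.charDegree (χ : S → ℂ))) = (Nat.card G / (Nat.card {g : G // (ψ : G → ℂ) g = (ψ : G → ℂ) 1} * Cfsg.charDegree (ψ : G → ℂ)))) : Nat.card S ∣ Nat.card G := by
  have hSpos : Nat.card S ≠ 0 := Nat.card_pos.ne'
  have hGpos : Nat.card G ≠ 0 := Nat.card_pos.ne'
  rw [← Nat.factorization_prime_le_iff_dvd hSpos hGpos]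
  intro p hp
  by_cases hpS : p ∣ Nat.card S
  · obtain ⟨χ, hχ1, hχp⟩ := exists_irr_not_dvd p hp hpS
    obtain ⟨ψ, hψ⟩ := hsub χ
    have hker := card_ker_eq_one hS χ hχ1
    rw [hker, one_mul] at hψ
    have hd : charDegree (χ : S → ℂ) ∣ Nat.card S := Helper79.irr_charDegree_dvd_card χ
    have hdpos : charDegree (χ : S → ℂ) ≠ 0 := (charDegree_pos_of_isIrr χ.2).ne'
    -- the p-part of |S| / χ(1) is that of |S|
    have h1 : (Nat.card S / charDegree (χ : S → ℂ)).factorization p =
        (Nat.card S).factorization p := by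
      rw [Nat.factorization_div hd]
      simp [Nat.factorization_eq_zero_of_not_dvd hχp]
    have h2 : (Nat.card S / charDegree (χ : S → ℂ)) ∣ Nat.card G := by
      rw [hψ]
      exact codeg_dvd_card ψ
    have h3 : Nat.card S / charDegree (χ : S → ℂ) ≠ 0 := by
      intro h0
      have := Nat.div_mul_cancel hd
      rw [h0, zero_mul] at this
      exact hSpos this.symm
    rw [← h1]
    exact (Nat.factorization_le_iff_dvd h3 hGpos).mpr h2 p
  · rw [Nat.factorization_eq_zero_of_not_dvd hpS]
    exact Nat.zero_le _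

end Cfsg.Agent.S4801
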