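import Mathlib
import Cfsg.Statements.S0186
import Cfsg.Agent.Lib.Helper77.Deflation
import Cfsg.Agent.Lib.Helper78.CharMore
import Cfsg.Agent.S0185
import Cfsg.Agent.S4801

set_option autoImplicit false
open Cfsg

namespace Cfsg.Agent.S0186

open Cfsg.Agent.Lib.Helper78

/-- If all nonprincipal irreducible characters have degree at least `p` and `p^2 ∣ |G|`, then
`p^2 * |Irr G| ≤ |G|`. -/
theorem card_ge_of_degrees {G : Type*} [Group G] [Finite G] (p : ℕ) (hp2 : p ^ 2 ∣ Nat.card G)
    (hall : ∀ χ : IrrCharacter G, (χ : G → ℂ) ≠ (fun _ => (1 : ℂ)) → p ≤ charDegree (χ : G → ℂ)) :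
    p ^ 2 * Nat.card (IrrCharacter G) ≤ Nat.card G := by
  classical
  haveI : Fintype G := Fintype.ofFinite G
  have hsum := sum_irr_charDegree_sq (G := G)
  let triv : IrrCharacter G := ⟨fun _ => (1 : ℂ), isIrrCharacter_one⟩
  rw [← Finset.add_sum_erase Finset.univ _ (Finset.mem_univ triv)] at hsum
  have h1 : (Finset.univ.erase triv).card * p ^ 2 ≤
      ∑ χ ∈ Finset.univ.erase triv, (charDegree (χ : G → ℂ)) ^ 2 := by
    rw [← smul_eq_mul, ← Finset.sum_const]
    apply Finset.sum_le_sum
    intro χ hχ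
    have hne : χ ≠ triv := (Finset.mem_erase.mp hχ).1
    have hne' : (χ : G → ℂ) ≠ (fun _ => (1 : ℂ)) := fun h => hne (Subtype.ext h)
    exact Nat.pow_le_pow_left (hall χ hne') 2
  rw [Finset.card_erase_of_mem (Finset.mem_univ triv), Finset.card_univ,
    ← Nat.card_eq_fintype_card] at h1
  have hkpos : 0 < Nat.card (IrrCharacter G) := by
    haveI : Nonempty (IrrCharacter G) := ⟨triv⟩
    exact Nat.card_pos
  obtain ⟨m, hm⟩ := hp2
  -- n = p^2 m ≥ (k-1) p^2 + (something ≥ 0), and n > (k-1)p^2 unless ...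
  have h2 : (Nat.card (IrrCharacter G) - 1) * p ^ 2 ≤ Nat.card G := by
    rw [← hsum]; exact h1.trans (Nat.le_add_left _ _)
  by_contra hlt
  push_neg at hlt
  -- n < p^2 k and n = p^2 m → m < k → m ≤ k - 1 → n ≤ (k-1) p^2
  rw [hm] at hlt h2
  by_cases hp0 : p ^ 2 = 0
  · rw [hp0] at hlt; simp at hlt
  have hppos : 0 < p ^ 2 := Nat.pos_of_ne_zero hp0
  have hmk : m < Nat.card (IrrCharacter G) := Nat.lt_of_mul_lt_mul_left hlt
  have hmk' : m ≤ Nat.card (IrrCharacter G) - 1 := by omega
  -- then sum: charDegree triv ^2 + rest = p^2 m, rest ≥ (k-1)p^2 ≥ m p^2, so charDegree triv^2 ≤ 0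
  have htriv : charDegree (triv : G → ℂ) = 1 := by
    simp [charDegree, triv]
  rw [htriv, hm] at hsum
  have h3 : m * p ^ 2 ≤ (Nat.card (IrrCharacter G) - 1) * p ^ 2 := Nat.mul_le_mul_right _ hmk'
  have h4 := h3.trans h1
  nlinarith

/-- Let G be a finite simple group of order n and p a prime dividing n. If G has more than n / p^2 conjugacy classes, then every Sylow p-subgroup of G is abelian. -/
theorem result {G : Type*} [Group G] [Finite G] [IsSimpleGroup G] (p : ℕ) [Fact p.Prime] (hp : p ∣ Nat.card G) (hmany : Nat.card G < p ^ 2 * Nat.card (ConjClasses G)) (P : Sylow p G) (a b : G) (ha : a ∈ P) (hb : b ∈ P) : a * b = b * a := by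
  classical
  haveI : Fintype G := Fintype.ofFinite G
  have hpprime : p.Prime := Fact.out
  suffices hcomm : ∀ x y : (P : Subgroup G), x * y = y * x by
    have := hcomm ⟨a, ha⟩ ⟨b, hb⟩
    exact congrArg Subtype.val this
  obtain ⟨e, he⟩ := (IsPGroup.iff_card.mp P.2)
  rcases Nat.lt_or_ge e 2 with hlt | hge
  · -- |P| = 1 or p : cyclic
    interval_cases e
    · rw [pow_zero] at he
      haveI : Subsingleton (P : Subgroup G) := (Nat.card_eq_one_iff_unique.mp he).1
      intro x y
      rw [Subsingleton.elim x y]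
    · rw [pow_one] at he
      haveI : IsCyclic (P : Subgroup G) := isCyclic_of_prime_card he
      exact isMulCommutative_iff.mp inferInstance
  · -- p^2 ∣ |G|
    have hp2 : p ^ 2 ∣ Nat.card G := by
      have h1 : p ^ 2 ∣ Nat.card (P : Subgroup G) := by
        rw [he]; exact pow_dvd_pow p hge
      exact h1.trans (Subgroup.card_subgroup_dvd_card _)
    -- there is a nonprincipal irreducible character of degree < p
    have hex : ∃ χ : IrrCharacter G, (χ : G → ℂ) ≠ (fun _ => (1 : ℂ)) ∧
        charDegree (χ : G → ℂ) < p := by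
      by_contra hcon
      push_neg at hcon
      have := card_ge_of_degrees p hp2 hcon
      rw [card_irrCharacter] at this
      omega
    obtain ⟨χ, hχ1, hχd⟩ := hex
    obtain ⟨d, ρ, hirr, hρ⟩ := χ.2
    -- ρ is faithful
    have hker : ∀ g : G, ρ g = 1 → g = 1 := by
      intro g hg
      have hmem : g ∈ MonoidHom.ker ρ := MonoidHom.mem_ker.mpr hg
      rw [Cfsg.Agent.Lib.Helper77.mem_ker_iff_character_eq, hρ] at hmem
      have hcard := Cfsg.Agent.S4801.card_ker_eq_one (inferInstance : IsSimpleGroup G) χ hχ1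
      have hsub := (Nat.card_eq_one_iff_unique.mp hcard).1
      have := Subsingleton.elim
        (⟨g, hmem⟩ : {g : G // (χ : G → ℂ) g = (χ : G → ℂ) 1}) ⟨1, rfl⟩
      exact congrArg Subtype.val this
    have hinj : Function.Injective ρ := (injective_iff_map_eq_one ρ).mpr hker
    -- restrict to P
    let σ : Representation ℂ (P : Subgroup G) (Fin d → ℂ) := ρ.comp (P : Subgroup G).subtype
    have hσinj : Function.Injective σ := by
      intro x y hxy
      exact Subtype.ext (hinj hxy)
    have hd : charDegree (χ : G → ℂ) = d := by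
      rw [← hρ]
      simp [charDegree, Representation.char_one]
    intro x y
    apply Cfsg.Agent.S0185.result σ hσinj
    intro q hq hqd
    rw [he] at hqd
    have hqp : q = p := (Nat.prime_dvd_prime_iff_eq hq hpprime).mp (hq.dvd_of_dvd_pow hqd)
    rw [hqp, Module.finrank_fin_fun, ← hd]
    exact hχd

end Cfsg.Agent.S0186
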