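import Mathlib
import Cfsg.Statements.S0187
import Cfsg.Agent.Lib.Helper3.ColOrth
import Cfsg.Agent.Lib.Helper79.Schur

set_option autoImplicit false
open Cfsg

namespace Cfsg.Agent.S0187

open Cfsg.Agent.Lib.Helper3

/-- Commutativity is equivalent to `|ConjClasses G| = |G|`. -/
theorem comm_iff_card_conjClasses {G : Type*} [Group G] [Finite G] :
    (∀ a b : G, a * b = b * a) ↔ Nat.card (ConjClasses G) = Nat.card G := by
  have h1 := commProb_eq_one_iff (M := G)
  rw [commProb_def'] at h1
  have hpos : (0 : ℚ) < Nat.card G := by exact_mod_cast Nat.card_pos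
  constructor
  · intro h
    have : (Nat.card (ConjClasses G) : ℚ) / (Nat.card G : ℚ) = 1 := h1.mpr (isMulCommutative_iff.mpr h)
    rw [div_eq_one_iff_eq hpos.ne'] at this
    exact_mod_cast this
  · intro h
    have : (Nat.card (ConjClasses G) : ℚ) / (Nat.card G : ℚ) = 1 := by
      rw [h, div_self hpos.ne']
    exact isMulCommutative_iff.mp (h1.mp this)

/-- A finite group is commutative if and only if every irreducible complex character has degree 1. -/
theorem result {G : Type*} [Group G] [Finite G] : (∀ a b : G, a * b = b * a) ↔ ∀ χ : Cfsg.IrrCharacter G, (χ : G → ℂ) 1 = 1 := by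
  classical
  haveI : Fintype G := Fintype.ofFinite G
  haveI : Fintype (Cfsg.IrrCharacter G) := Fintype.ofFinite _
  rw [comm_iff_card_conjClasses, ← card_irrCharacter]
  -- degrees as natural numbers
  choose n hn0 hn using fun χ : Cfsg.IrrCharacter G => Cfsg.Agent.Lib.Helper79.irr_apply_one_eq_natCast χ
  have hsum : ∑ χ : Cfsg.IrrCharacter G, (n χ) ^ 2 = Nat.card G := by
    have h := sum_sq_degrees (G := G)
    have : ∑ χ : Cfsg.IrrCharacter G, ((n χ : ℂ)) ^ 2 = (Nat.card G : ℂ) := by
      rw [← h]; apply Finset.sum_congr rfl; intro χ _; rw [hn χ]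
    exact_mod_cast this
  have hcard : Nat.card (Cfsg.IrrCharacter G) = ∑ _χ : Cfsg.IrrCharacter G, 1 := by
    rw [Nat.card_eq_fintype_card]; simp
  constructor
  · intro h χ
    rw [hn χ]
    -- sum of (n^2 - 1) is zero
    have hle : ∀ χ : Cfsg.IrrCharacter G, 1 ≤ (n χ) ^ 2 := fun χ =>
      Nat.one_le_pow _ _ (Nat.pos_of_ne_zero (hn0 χ))
    have hsum2 : ∑ χ : Cfsg.IrrCharacter G, (n χ) ^ 2 = ∑ _χ : Cfsg.IrrCharacter G, 1 := by
      rw [hsum, ← h, hcard]
    have := (Finset.sum_eq_sum_iff_of_le (fun χ _ => hle χ)).mp hsum2.symm χ (Finset.mem_univ χ)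
    have h1 : n χ = 1 := by
      have h2 : (n χ) ^ 2 = 1 := this.symm
      exact (Nat.pow_eq_one.mp h2).resolve_right (by norm_num)
    rw [h1]; simp
  · intro h
    rw [hcard, ← hsum]
    apply Finset.sum_congr rfl
    intro χ _
    have h1 : (n χ : ℂ) = 1 := by rw [← hn χ]; exact h χ
    have h2 : n χ = 1 := by exact_mod_cast h1
    rw [h2]; norm_num

end Cfsg.Agent.S0187
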