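import Cfsg.Statements.S4574
import Cfsg.Agent.Lib.Helper76.Galois
import Cfsg.Agent.Lib.Helper76.CharBasic

set_option autoImplicit false
open Cfsg

namespace Cfsg.Agent.S4574


open Cfsg.Agent.Lib.Helper76 IntermediateField

section main

variable {G : Type*} [Group G] [Fintype G]

/-- `∑ ‖χ g‖² = |G|` for an irreducible character. -/
theorem sum_norm_sq {V : Type*} [AddCommGroup V] [Module ℂ V] [FiniteDimensional ℂ V]
    (ρ : Representation ℂ G V) [ρ.IsIrreducible] :
    ∑ g : G, ‖ρ.character g‖ ^ 2 = (Fintype.card G : ℝ) := by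
  have hG : (Nat.card G : ℂ) ≠ 0 := by
    rw [Nat.card_eq_fintype_card]; exact_mod_cast Fintype.card_ne_zero
  have : Invertible (Nat.card G : ℂ) := invertibleOfNonzero hG
  have h := Representation.char_orthonormal ρ ρ
  rw [if_pos ⟨Representation.Equiv.refl ρ⟩] at h
  have h2 : ∑ g : G, ρ.character g * ρ.character g⁻¹ = (Fintype.card G : ℂ) := by
    rw [Nat.card_eq_fintype_card] at h hG
    field_simp at h
    simpa using h
  have h3 : ∀ g : G, ρ.character g * ρ.character g⁻¹ = ((‖ρ.character g‖ ^ 2 : ℝ) : ℂ) := by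
    intro g
    rw [character_inv_eq_conj, Complex.mul_conj']
    push_cast; rfl
  simp_rw [h3] at h2
  have h4 : ((∑ g : G, ‖ρ.character g‖ ^ 2 : ℝ) : ℂ) = ((Fintype.card G : ℝ) : ℂ) := by
    push_cast
    simpa using h2
  exact_mod_cast h4

/-- `χ g * χ g⁻¹ = ‖χ g‖²`. -/
theorem char_mul_char_inv {V : Type*} [AddCommGroup V] [Module ℂ V] [FiniteDimensional ℂ V]
    (ρ : Representation ℂ G V) (g : G) :
    ρ.character g * ρ.character g⁻¹ = ((‖ρ.character g‖ ^ 2 : ℝ) : ℂ) := by
  rw [character_inv_eq_conj, Complex.mul_conj']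
  push_cast; rfl

theorem main_ineq {V : Type*} [AddCommGroup V] [Module ℂ V] [FiniteDimensional ℂ V]
    (ρ : Representation ℂ G V) (d : ℝ)
    (Zs Rs : Finset G) (hZ : ∀ g, g ∈ Zs → ‖ρ.character g‖ = d)
    (hR : ∀ g, g ∈ Rs → ρ.character g ≠ 0) (hZR : Disjoint Zs Rs)
    (hsum : ∑ g : G, ‖ρ.character g‖ ^ 2 = (Fintype.card G : ℝ))
    (hdq : ∃ q : ℚ, (q : ℝ) = d ^ 2) :
    d ^ 2 * Zs.card + (Rs.card : ℝ) ≤ Fintype.card G := by
  classical
  set N := Fintype.card G with hNdef
  have hN : 0 < N := Fintype.card_pos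
  have hG : ∀ g : G, g ^ N = 1 := fun g => pow_card_eq_one
  set ζ : ℂ := Complex.exp (2 * Real.pi * Complex.I / (N : ℂ)) with hζdef
  have hζ : IsPrimitiveRoot ζ N := Complex.isPrimitiveRoot_exp N hN.ne'
  have hζint : IsIntegral ℚ ζ := (hζ.isIntegral hN).tower_top
  have hfd : FiniteDimensional ℚ (adjoin ℚ ({ζ} : Set ℂ)) := adjoin.finiteDimensional hζint
  have hmem : ∀ g : G, ρ.character g ∈ adjoin ℚ ({ζ} : Set ℂ) :=
    fun g => character_mem_adjoin ρ N hN ζ hζ g (hG g)
  choose u hucop hu using fun σ : adjoin ℚ ({ζ} : Set ℂ) →ₐ[ℚ] ℂ =>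
    exists_pow_of_embedding ρ N hN hG ζ hζ σ
  set F : G → ℝ := fun g => ‖ρ.character g‖ ^ 2 with hF
  -- each power map is a bijection
  have hbij : ∀ σ, ∑ g : G, F (g ^ u σ) = ∑ g : G, F g := by
    intro σ
    have hc : (Nat.card G).Coprime (u σ) := by
      rw [Nat.card_eq_fintype_card]; exact (hucop σ).symm
    exact Equiv.sum_comp (powCoprime hc) F
  -- (i)
  have hi : ∑ g : G, ∑ σ : adjoin ℚ ({ζ} : Set ℂ) →ₐ[ℚ] ℂ, F (g ^ u σ)
      = (Fintype.card (adjoin ℚ ({ζ} : Set ℂ) →ₐ[ℚ] ℂ) : ℝ) * N := by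
    rw [Finset.sum_comm]
    simp_rw [hbij]
    rw [hsum]
    simp
  -- value formula
  have hval : ∀ σ g, F (g ^ u σ) = ‖σ ⟨ρ.character g, hmem g⟩‖ ^ 2 := by
    intro σ g
    rw [hF, hu σ g (hmem g)]
  -- (ii) pointwise
  have hii : ∀ g : G, (Fintype.card (adjoin ℚ ({ζ} : Set ℂ) →ₐ[ℚ] ℂ) : ℝ) *
      ((if g ∈ Zs then d ^ 2 else 0) + (if g ∈ Rs then 1 else 0))
      ≤ ∑ σ : adjoin ℚ ({ζ} : Set ℂ) →ₐ[ℚ] ℂ, F (g ^ u σ) := by
    intro g
    by_cases hgZ : g ∈ Zs
    · have hgR : g ∉ Rs := fun h => (Finset.disjoint_left.mp hZR hgZ h)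
      rw [if_pos hgZ, if_neg hgR, add_zero]
      have : ∀ σ : adjoin ℚ ({ζ} : Set ℂ) →ₐ[ℚ] ℂ, F (g ^ u σ) = d ^ 2 := by
        intro σ
        have e1 : ((F (g ^ u σ) : ℝ) : ℂ) =
            σ (⟨ρ.character g, hmem g⟩ * ⟨ρ.character g⁻¹, hmem g⁻¹⟩) := by
          rw [map_mul, hu σ g (hmem g), hu σ g⁻¹ (hmem g⁻¹), inv_pow, char_mul_char_inv]
        obtain ⟨q, hq⟩ := hdq
        have e2 : (⟨ρ.character g, hmem g⟩ * ⟨ρ.character g⁻¹, hmem g⁻¹⟩ :
            adjoin ℚ ({ζ} : Set ℂ)) = algebraMap ℚ _ q := by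
          apply Subtype.ext
          change ρ.character g * ρ.character g⁻¹ = _
          rw [char_mul_char_inv, hZ g hgZ, ← hq]
          simp
        rw [e2, AlgHom.commutes] at e1
        have e3 : ((F (g ^ u σ) : ℝ) : ℂ) = ((d ^ 2 : ℝ) : ℂ) := by
          rw [e1, ← hq]; simp
        exact_mod_cast e3
      simp_rw [this]
      simp
    · rw [if_neg hgZ, zero_add]
      by_cases hgR : g ∈ Rs
      · rw [if_pos hgR, mul_one]
        simp_rw [hval]
        apply card_le_sum_of_one_le_prod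
        · intro σ; positivity
        · rw [Finset.prod_pow, ← norm_prod]
          have hne : (⟨ρ.character g, hmem g⟩ : adjoin ℚ ({ζ} : Set ℂ)) ≠ 0 := by
            intro h0
            apply hR g hgR
            have := congrArg Subtype.val h0
            simpa using this
          have hint : IsIntegral ℤ ((⟨ρ.character g, hmem g⟩ : adjoin ℚ ({ζ} : Set ℂ)) : ℂ) := by
            change IsIntegral ℤ (ρ.character g)
            obtain ⟨μ, hμ, hk⟩ := exists_character_pow_eq_sum ρ g N hN (hG g)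
            have h1 := hk 1
            rw [pow_one] at h1
            rw [h1]
            refine IsIntegral.sum _ fun i _ => ?_
            rw [pow_one]
            exact IsIntegral.of_pow hN (by rw [hμ i]; exact isIntegral_one)
          have := one_le_norm_prod_embeddings _ _ hint hne
          exact one_le_pow₀ this
      · rw [if_neg hgR, mul_zero]
        exact Finset.sum_nonneg fun σ _ => by positivity
  -- (iii)
  have hE : (0 : ℝ) < Fintype.card (adjoin ℚ ({ζ} : Set ℂ) →ₐ[ℚ] ℂ) := by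
    have : Nonempty (adjoin ℚ ({ζ} : Set ℂ) →ₐ[ℚ] ℂ) := ⟨(adjoin ℚ ({ζ} : Set ℂ)).val⟩
    exact_mod_cast Fintype.card_pos
  have hsum2 := Finset.sum_le_sum (s := Finset.univ) (fun g _ => hii g)
  rw [hi, ← Finset.mul_sum, Finset.sum_add_distrib] at hsum2
  have h5 : ∑ g : G, (if g ∈ Zs then d ^ 2 else 0) = d ^ 2 * Zs.card := by
    rw [← Finset.sum_filter]; simp [mul_comm]
  have h6 : ∑ g : G, (if g ∈ Rs then (1 : ℝ) else 0) = Rs.card := by
    rw [← Finset.sum_filter]; simp
  rw [h5, h6] at hsum2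
  exact le_of_mul_le_mul_left hsum2 hE

end main

/-- Let χ be an irreducible character of the finite group G, of degree d, and let Z(χ) be the set of elements g with |χ g| = d (the centre of χ). Then χ vanishes on at least (d ^ 2 - 1) · |Z(χ)| elements of G, with equality when every value |χ g| is 0, 1 or d. -/
theorem result {G : Type*} [Group G] [Fintype G] [DecidableEq G] (χ : G → ℂ) (hχ : Cfsg.IsIrrCharacter G χ) : (Cfsg.charDegree χ ^ 2 - 1) * (Finset.univ.filter (fun g : G => ‖χ g‖ = (Cfsg.charDegree χ : ℝ))).card ≤ (Finset.univ.filter (fun g : G => χ g = 0)).card ∧ ((∀ g : G, ‖χ g‖ = 0 ∨ ‖χ g‖ = 1 ∨ ‖χ g‖ = (Cfsg.charDegree χ : ℝ)) → (Cfsg.charDegree χ ^ 2 - 1) * (Finset.univ.filter (fun g : G => ‖χ g‖ = (Cfsg.charDegree χ : ℝ))).card = (Finset.univ.filter (fun g : G => χ g = 0)).card) := by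
  classical
  obtain ⟨n, ρ, hirr, rfl⟩ := hχ
  have := hirr
  rw [charDegree_character]
  have hsum := sum_norm_sq ρ
  have hn1 : 1 ≤ n := by
    rcases Nat.eq_zero_or_pos n with rfl | h
    · exfalso
      have h1 : ∀ g : G, ρ.character g = 0 := by
        intro g
        unfold Representation.character
        have : Subsingleton (Module.End ℂ (Fin 0 → ℂ)) := ⟨fun a b => by ext x i; exact i.elim0⟩
        rw [Subsingleton.elim (ρ g) 0, map_zero]
      simp only [h1, norm_zero, ne_eq, OfNat.ofNat_ne_zero, not_false_eq_true, zero_pow,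
        Finset.sum_const_zero] at hsum
      have : (0 : ℝ) < Fintype.card G := by exact_mod_cast Fintype.card_pos
      linarith
    · exact h
  set Zs := Finset.univ.filter (fun g : G => ‖ρ.character g‖ = (n : ℝ)) with hZs
  set Vs := Finset.univ.filter (fun g : G => ρ.character g = 0) with hVs
  set Rs := Finset.univ.filter (fun g : G => ρ.character g ≠ 0 ∧ ‖ρ.character g‖ ≠ (n : ℝ))
    with hRs
  have hZR : Disjoint Zs Rs := by
    rw [Finset.disjoint_left]
    intro g hg hg'
    simp only [hZs, hRs, Finset.mem_filter, Finset.mem_univ, true_and] at hg hg'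
    exact hg'.2 hg
  have hZV : Disjoint Zs Vs := by
    rw [Finset.disjoint_left]
    intro g hg hg'
    simp only [hZs, hVs, Finset.mem_filter, Finset.mem_univ, true_and] at hg hg'
    rw [hg', norm_zero] at hg
    have : (n : ℝ) ≠ 0 := by exact_mod_cast (by omega : n ≠ 0)
    exact this hg.symm
  have hVR : Disjoint Vs Rs := by
    rw [Finset.disjoint_left]
    intro g hg hg'
    simp only [hVs, hRs, Finset.mem_filter, Finset.mem_univ, true_and] at hg hg'
    exact hg'.1 hg
  have hunion : Zs ∪ Vs ∪ Rs = Finset.univ := by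
    ext g
    simp only [hZs, hVs, hRs, Finset.mem_union, Finset.mem_filter, Finset.mem_univ, true_and,
      iff_true]
    by_cases h1 : ‖ρ.character g‖ = (n : ℝ)
    · exact Or.inl (Or.inl h1)
    · by_cases h2 : ρ.character g = 0
      · exact Or.inl (Or.inr h2)
      · exact Or.inr ⟨h2, h1⟩
  have hcard : Zs.card + Vs.card + Rs.card = Fintype.card G := by
    rw [← Finset.card_univ, ← hunion, Finset.card_union_of_disjoint, Finset.card_union_of_disjoint hZV]
    rw [Finset.disjoint_union_left]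
    exact ⟨hZR, hVR⟩
  have hcardR : (Zs.card : ℝ) + Vs.card + Rs.card = Fintype.card G := by exact_mod_cast hcard
  have hmain := main_ineq ρ (n : ℝ) Zs Rs
    (fun g hg => by simpa [hZs] using hg) (fun g hg => by
      have : ρ.character g ≠ 0 ∧ ‖ρ.character g‖ ≠ (n : ℝ) := by simpa [hRs] using hg
      exact this.1) hZR hsum ⟨(n : ℚ) ^ 2, by push_cast; rfl⟩
  have hsub : ((n ^ 2 - 1 : ℕ) : ℝ) = (n : ℝ) ^ 2 - 1 := by
    rw [Nat.cast_sub (Nat.one_le_pow _ _ hn1)]
    push_cast; rfl
  constructor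
  · have : (((n ^ 2 - 1) * Zs.card : ℕ) : ℝ) ≤ (Vs.card : ℝ) := by
      rw [Nat.cast_mul, hsub]
      nlinarith
    exact_mod_cast this
  · intro hvals
    have hFval : ∀ g : G, ‖ρ.character g‖ ^ 2 =
        (if g ∈ Zs then (n : ℝ) ^ 2 else 0) + (if g ∈ Rs then 1 else 0) := by
      intro g
      by_cases hgZ : g ∈ Zs
      · have hgR : g ∉ Rs := fun h => (Finset.disjoint_left.mp hZR hgZ h)
        rw [if_pos hgZ, if_neg hgR, add_zero]
        have : ‖ρ.character g‖ = (n : ℝ) := by simpa [hZs] using hgZ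
        rw [this]
      · rw [if_neg hgZ, zero_add]
        have hgZ' : ¬ ‖ρ.character g‖ = (n : ℝ) := by simpa [hZs] using hgZ
        by_cases hgR : g ∈ Rs
        · rw [if_pos hgR]
          rcases hvals g with h | h | h
          · exfalso
            have : ρ.character g ≠ 0 ∧ ‖ρ.character g‖ ≠ (n : ℝ) := by simpa [hRs] using hgR
            exact this.1 (norm_eq_zero.mp h)
          · rw [h]; norm_num
          · exact absurd h hgZ'
        · rw [if_neg hgR]
          have : ρ.character g = 0 := by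
            by_contra h0
            apply hgR
            simp only [hRs, Finset.mem_filter, Finset.mem_univ, true_and]
            exact ⟨h0, hgZ'⟩
          rw [this]; simp
    have hsum' := hsum
    simp_rw [hFval] at hsum'
    rw [Finset.sum_add_distrib] at hsum'
    have h5 : ∑ g : G, (if g ∈ Zs then (n : ℝ) ^ 2 else 0) = (n : ℝ) ^ 2 * Zs.card := by
      rw [← Finset.sum_filter]; simp [mul_comm]
    have h6 : ∑ g : G, (if g ∈ Rs then (1 : ℝ) else 0) = Rs.card := by
      rw [← Finset.sum_filter]; simp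
    rw [h5, h6] at hsum'
    have : (((n ^ 2 - 1) * Zs.card : ℕ) : ℝ) = (Vs.card : ℝ) := by
      rw [Nat.cast_mul, hsub]
      nlinarith
    exact_mod_cast this

end Cfsg.Agent.S4574
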