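import Mathlib
import Cfsg.Statements.S0192
import Cfsg.Agent.Lib.Helper3.CharIrr
import Cfsg.Agent.Lib.Helper78.CharMore

set_option autoImplicit false
open Cfsg
open scoped ComplexConjugate

namespace Cfsg.Agent.S0192

variable {G : Type*} [Group G] {V : Type*} [AddCommGroup V] [Module ℂ V]

/-- vectors fixed by the subgroup `K` -/
noncomputable def inv (ρ : Representation ℂ G V) (K : Subgroup G) : Submodule ℂ V :=
  Representation.invariants (ρ.comp K.subtype)

theorem mem_inv (ρ : Representation ℂ G V) (K : Subgroup G) (v : V) :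
    v ∈ inv ρ K ↔ ∀ k ∈ K, ρ k v = v := by
  unfold inv
  rw [Representation.mem_invariants]
  constructor
  · intro h k hk; exact h ⟨k, hk⟩
  · intro h k; exact h k.1 k.2

theorem inv_mono (ρ : Representation ℂ G V) {K K' : Subgroup G} (h : K ≤ K') :
    inv ρ K' ≤ inv ρ K := by
  intro v hv
  rw [mem_inv] at hv ⊢
  intro k hk
  exact hv k (h hk)

theorem classInner_res_one [FiniteDimensional ℂ V] (ρ : Representation ℂ G V) (K : Subgroup G)
    [Fintype K] :
    Cfsg.classInner (fun x : K => ρ.character x) (fun _ => 1) =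
      (Module.finrank ℂ (inv ρ K) : ℂ) := by
  have hK : (Nat.card K : ℂ) ≠ 0 := by exact_mod_cast Nat.card_pos.ne'
  haveI : Invertible (Nat.card K : ℂ) := invertibleOfNonzero hK
  have h := Representation.card_inv_mul_sum_char_eq_finrank (ρ.comp K.subtype)
  unfold Cfsg.classInner inv
  rw [← h]
  congr 1
  apply Finset.sum_congr rfl
  intro k _
  simp only [map_one, mul_one]
  rfl

/-- the stabilizer of a vector -/
def stab (ρ : Representation ℂ G V) (v : V) : Subgroup G where
  carrier := {g | ρ g v = v}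
  mul_mem' := by
    intro a b ha hb
    simp only [Set.mem_setOf_eq] at ha hb ⊢
    rw [map_mul, Module.End.mul_apply, hb, ha]
  one_mem' := by simp
  inv_mem' := by
    intro a ha
    simp only [Set.mem_setOf_eq] at ha ⊢
    have : ρ a⁻¹ (ρ a v) = v := by
      rw [← Module.End.mul_apply, ← map_mul, inv_mul_cancel, map_one, Module.End.one_apply]
    rw [ha] at this
    exact this

/-- Brauer's generation criterion. Let G be a finite simple group, H₁ and H₂ subgroups, and χ a non-principal irreducible character. If the multiplicity of the principal character in χ restricted to H₁ ⊓ H₂ is less than the sum of the corresponding multiplicities for H₁ and H₂, then H₁ and H₂ do not generate G. -/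
theorem result {G : Type*} [Group G] [Fintype G] [IsSimpleGroup G] (H₁ H₂ : Subgroup G) [Fintype H₁] [Fintype H₂] [Fintype ↥(H₁ ⊓ H₂)] (χ : G → ℂ) (hχ : Cfsg.IsIrrCharacter G χ) (hχ1 : χ ≠ fun _ => 1) (hlt : (Cfsg.classInner (fun x : ↥(H₁ ⊓ H₂) => χ x) (fun _ => 1)).re < (Cfsg.classInner (fun x : H₁ => χ x) (fun _ => 1)).re + (Cfsg.classInner (fun x : H₂ => χ x) (fun _ => 1)).re) : H₁ ⊔ H₂ ≠ ⊤ := by
  classical
  have hχ' := hχ
  obtain ⟨n, ρ, hirr, rfl⟩ := hχ
  rw [classInner_res_one ρ (H₁ ⊓ H₂), classInner_res_one ρ H₁, classInner_res_one ρ H₂] at hlt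
  simp only [Complex.natCast_re] at hlt
  have hlt' : Module.finrank ℂ (inv ρ (H₁ ⊓ H₂)) <
      Module.finrank ℂ (inv ρ H₁) + Module.finrank ℂ (inv ρ H₂) := by exact_mod_cast hlt
  have hsup : inv ρ H₁ ⊔ inv ρ H₂ ≤ inv ρ (H₁ ⊓ H₂) :=
    sup_le (inv_mono ρ inf_le_left) (inv_mono ρ inf_le_right)
  have h1 := Submodule.finrank_sup_add_finrank_inf_eq (inv ρ H₁) (inv ρ H₂)
  have h2 := Submodule.finrank_mono hsup
  have hpos : 0 < Module.finrank ℂ ↥(inv ρ H₁ ⊓ inv ρ H₂) := by omega
  haveI : Nontrivial ↥(inv ρ H₁ ⊓ inv ρ H₂) := Module.finrank_pos_iff.mp hpos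
  obtain ⟨⟨v, hv⟩, hv0⟩ := exists_ne (0 : ↥(inv ρ H₁ ⊓ inv ρ H₂))
  have hv0' : v ≠ 0 := fun h => hv0 (Subtype.ext h)
  rw [Submodule.mem_inf, mem_inv, mem_inv] at hv
  intro htop
  -- v is G-invariant
  have hle : H₁ ⊔ H₂ ≤ stab ρ v := sup_le (fun k hk => hv.1 k hk) (fun k hk => hv.2 k hk)
  rw [htop] at hle
  have hvinv : v ∈ Representation.invariants ρ := by
    rw [Representation.mem_invariants]
    intro g
    exact hle (Subgroup.mem_top g)
  -- but the invariants are trivial by orthogonality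
  have hG : (Nat.card G : ℂ) ≠ 0 := by exact_mod_cast Nat.card_pos.ne'
  haveI : Invertible (Nat.card G : ℂ) := invertibleOfNonzero hG
  have h3 := Representation.card_inv_mul_sum_char_eq_finrank ρ
  have h4 : Cfsg.classInner ρ.character (fun _ => 1) = 0 := by
    rw [Cfsg.Agent.Lib.Helper3.classInner_irrCharacter hχ' Cfsg.Agent.Lib.Helper78.isIrrCharacter_one,
      if_neg hχ1]
  have h5 : Cfsg.classInner ρ.character (fun _ => 1) =
      (Nat.card G : ℂ)⁻¹ * ∑ g : G, ρ.character g := by
    unfold Cfsg.classInner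
    simp
  rw [h5, h3] at h4
  have h6 : Module.finrank ℂ (Representation.invariants ρ) = 0 := by exact_mod_cast h4
  have h7 : Representation.invariants ρ = ⊥ := Submodule.finrank_eq_zero.mp h6
  rw [h7, Submodule.mem_bot] at hvinv
  exact hv0' hvinv

end Cfsg.Agent.S0192
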