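import Mathlib
import Cfsg.Statements.S0193
import Cfsg.Agent.Lib.Helper3.IrrBasis
import Cfsg.Agent.Lib.Helper75.Clifford

set_option autoImplicit false
open Cfsg
open scoped ComplexConjugate

namespace Cfsg.Agent.S0193

open Cfsg.Agent.Lib.Helper75 Cfsg.Agent.Lib.Helper3

/-- Let H be a normal subgroup of a finite group G and θ an irreducible character of H. Then |H| times the inner product of the induced function of θ with itself equals the number of g in G with θ(g h g⁻¹) = θ(h) for all h in H; in particular the induced character is irreducible when only elements of H stabilise θ. -/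
theorem result {G : Type*} [Group G] [Fintype G] (H : Subgroup G) [hN : H.Normal] (θ : H → ℂ) (hθ : Cfsg.IsIrrCharacter H θ) : (Nat.card H : ℂ) * Cfsg.classInner (Cfsg.indFun H θ) (Cfsg.indFun H θ) = (Nat.card {g : G // ∀ h : H, θ ⟨g * h * g⁻¹, hN.conj_mem h h.2 g⟩ = θ h} : ℂ) := by
  classical
  haveI : Fintype H := Fintype.ofFinite H
  have hcard : (Nat.card H : ℂ) ≠ 0 := by
    have : 0 < Nat.card H := Nat.card_pos
    exact_mod_cast this.ne'
  rw [frobenius_reciprocity H θ (isClassFunction_indFun H θ)]
  have hres : (fun h : H => Cfsg.indFun H θ h) =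
      (Nat.card H : ℂ)⁻¹ • ∑ x : G, conjFun H x⁻¹ θ := by
    funext n
    rw [indFun_res_normal H θ n]
    simp [Finset.sum_apply]
  rw [hres, classInner_smul_right, classInner_sum_right]
  have hterm : ∀ x : G, Cfsg.classInner θ (conjFun H x⁻¹ θ) =
      if θ = conjFun H x⁻¹ θ then 1 else 0 := fun x =>
    classInner_irrCharacter hθ (isIrrCharacter_conjFun H hθ x⁻¹)
  simp_rw [hterm]
  rw [Finset.sum_boole, map_inv₀, Complex.conj_natCast, ← mul_assoc, mul_inv_cancel₀ hcard, one_mul]
  congr 1
  rw [← Fintype.card_subtype, ← Nat.card_eq_fintype_card]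
  apply Nat.card_congr
  refine
    { toFun := fun x => ⟨x.1⁻¹, fun h => ?_⟩
      invFun := fun g => ⟨g.1⁻¹, ?_⟩
      left_inv := fun x => Subtype.ext (inv_inv _)
      right_inv := fun g => Subtype.ext (inv_inv _) }
  · have := congrFun x.2 h
    rw [conjFun_apply] at this
    exact this.symm
  · funext h
    rw [conjFun_apply, inv_inv]
    exact (g.2 h).symm

end Cfsg.Agent.S0193
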