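import Mathlib
import Cfsg.Statements.S0239

set_option autoImplicit false
open Cfsg

namespace Cfsg.Agent.S0239

/-- If some nontrivial element x of a finite group G is conjugate to x⁻¹, then |G| is even. -/
theorem result {G : Type*} [Group G] [Finite G] (x : G) (hx : x ≠ 1) (hreal : IsConj x x⁻¹) : Even (Nat.card G) := by
  by_contra hodd
  rw [Nat.not_even_iff_odd] at hodd
  obtain ⟨c, hc⟩ := isConj_iff.mp hreal
  -- c has odd order
  have hco : Odd (orderOf c) := Odd.of_dvd_nat hodd (orderOf_dvd_natCard c)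
  obtain ⟨k, hk⟩ := hco
  -- c^2 commutes with x
  have h2 : Commute (c ^ 2) x := by
    have h1 : c * x⁻¹ * c⁻¹ = x := by
      have : (c * x * c⁻¹)⁻¹ = x := by rw [hc, inv_inv]
      simpa [mul_assoc] using this
    have : c ^ 2 * x * (c ^ 2)⁻¹ = x := by
      calc c ^ 2 * x * (c ^ 2)⁻¹ = c * (c * x * c⁻¹) * c⁻¹ := by
            simp [pow_two, mul_assoc]
        _ = x := by rw [hc, h1]
    exact (mul_inv_eq_iff_eq_mul.mp this)
  have hcpow : c = (c ^ 2) ^ (k + 1) := by
    rw [← pow_mul]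
    have : 2 * (k + 1) = orderOf c + 1 := by omega
    rw [this, pow_succ, pow_orderOf_eq_one, one_mul]
  have hcx : Commute c x := by
    rw [hcpow]; exact h2.pow_left _
  have hxx : x = x⁻¹ := by
    rw [← hc, hcx.eq, mul_inv_cancel_right]
  have hx2 : x ^ 2 = 1 := by
    rw [pow_two]; nth_rewrite 1 [hxx]; simp
  have ho : orderOf x = 2 := orderOf_eq_prime hx2 hx
  have : 2 ∣ Nat.card G := ho ▸ orderOf_dvd_natCard x
  exact (Nat.not_even_iff_odd.mpr hodd) (even_iff_two_dvd.mpr this)

end Cfsg.Agent.S0239
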