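import Mathlib
import Cfsg.Statements.S0194
import Cfsg.Agent.Lib.Helper3.IrrBasis
import Cfsg.Agent.Lib.Helper75.Clifford
import Cfsg.Agent.Lib.Helper74.RealCount
import Cfsg.Agent.S0239

set_option autoImplicit false
open Cfsg
open scoped ComplexConjugate

namespace Cfsg.Agent.S0194

open Cfsg.Agent.Lib.Helper75 Cfsg.Agent.Lib.Helper3

/-- In a group of odd order the only real-valued irreducible character is the principal one. -/
theorem real_irr_eq_one {H : Type*} [Group H] [Finite H] (hodd : Odd (Nat.card H)) (θ : H → ℂ)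
    (hθ : Cfsg.IsIrrCharacter H θ) (hreal : ∀ g, (θ g).im = 0) : θ = fun _ => 1 := by
  have hcard := Cfsg.Agent.Lib.Helper74.card_real_irr_eq_card_real_classes (G := H)
  have hsub : Subsingleton {C : ConjClasses H // ∀ g : H, ConjClasses.mk g = C → IsConj g g⁻¹} := by
    constructor
    rintro ⟨C, hC⟩ ⟨D, hD⟩
    apply Subtype.ext
    have key : ∀ (C : ConjClasses H), (∀ g : H, ConjClasses.mk g = C → IsConj g g⁻¹) →
        C = ConjClasses.mk 1 := by
      intro C hC
      obtain ⟨g, rfl⟩ := ConjClasses.mk_surjective C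
      have hg := hC g rfl
      by_cases h1 : g = 1
      · rw [h1]
      · exfalso
        have := Cfsg.Agent.S0239.result g h1 hg
        exact (Nat.not_even_iff_odd.mpr hodd) this
    show C = D
    rw [key C hC, key D hD]
  have hle : Nat.card {χ : Cfsg.IrrCharacter H // ∀ g : H, ((χ : H → ℂ) g).im = 0} ≤ 1 := by
    rw [hcard]
    exact Finite.card_le_one_iff_subsingleton.mpr hsub
  have hsub2 := Finite.card_le_one_iff_subsingleton.mp hle
  have h1 : (⟨⟨θ, hθ⟩, hreal⟩ : {χ : Cfsg.IrrCharacter H // ∀ g : H, ((χ : H → ℂ) g).im = 0}) =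
      ⟨⟨fun _ => 1, Cfsg.Agent.Lib.Helper78.isIrrCharacter_one⟩, fun _ => by simp⟩ :=
    Subsingleton.elim _ _
  have h2 := congrArg (fun χ => (χ.1 : H → ℂ)) h1
  exact h2

theorem conjFun_pow_eq {G : Type*} [Group G] (N : Subgroup G) [N.Normal] (θ : N → ℂ) (g : G)
    (h : conjFun N g θ = θ) (m : ℕ) : conjFun N (g ^ m) θ = θ := by
  induction m with
  | zero => rw [pow_zero, conjFun_one]
  | succ m ih => rw [pow_succ, conjFun_mul, ih, h]

/-- Let G have odd order, H be a normal subgroup and θ a non-principal irreducible character of H. Then the function induced from θ is orthogonal to its complex conjugate. -/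
theorem result {G : Type*} [Group G] [Fintype G] (hodd : Odd (Nat.card G)) (H : Subgroup G) [H.Normal] (θ : H → ℂ) (hθ : Cfsg.IsIrrCharacter H θ) (hθ1 : θ ≠ fun _ => 1) : Cfsg.classInner (fun g => conj (Cfsg.indFun H θ g)) (Cfsg.indFun H θ) = 0 := by
  classical
  haveI : Fintype H := Fintype.ofFinite H
  have hoddH : Odd (Nat.card H) := Odd.of_dvd_nat hodd (Subgroup.card_subgroup_dvd_card H)
  set θc : H → ℂ := fun h => conj (θ h) with hθc
  have hθcirr : Cfsg.IsIrrCharacter H θc := Cfsg.Agent.Lib.Helper81.isIrrCharacter_conj hθ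
  -- conj of induced is induced of conj
  have hext : ∀ y : G, conj (Cfsg.extendByZero H θ y) = Cfsg.extendByZero H θc y := by
    intro y
    by_cases hy : y ∈ H
    · rw [extendByZero_of_mem H θ hy, extendByZero_of_mem H θc hy]
    · rw [extendByZero_of_not_mem H θ hy, extendByZero_of_not_mem H θc hy, map_zero]
  have hconj : (fun g => conj (Cfsg.indFun H θ g)) = Cfsg.indFun H θc := by
    funext g
    unfold Cfsg.indFun
    rw [map_mul, map_inv₀, Complex.conj_natCast, map_sum]
    congr 1
    apply Finset.sum_congr rfl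
    intro x _
    exact hext _
  rw [hconj, frobenius_reciprocity H θc (isClassFunction_indFun H θ)]
  have hres : (fun h : H => Cfsg.indFun H θ h) =
      (Nat.card H : ℂ)⁻¹ • ∑ x : G, conjFun H x⁻¹ θ := by
    funext n
    rw [indFun_res_normal H θ n]
    simp [Finset.sum_apply]
  rw [hres, classInner_smul_right, classInner_sum_right]
  -- key: θc is never a conjugate of θ
  have key : ∀ y : G, θc ≠ conjFun H y θ := by
    intro y hy
    -- conjFun (y*y) θ = θ
    have h2 : conjFun H (y ^ 2) θ = θ := by
      rw [pow_two, conjFun_mul, ← hy]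
      funext n
      have h3 : θc n = conjFun H y θ n := congrFun hy n
      have h5 : conjFun H y θc n = conj (conjFun H y θ n) := by
        rw [conjFun_apply, conjFun_apply]
      rw [h5, ← h3]
      simp [hθc]
    have hyodd : Odd (orderOf y) := Odd.of_dvd_nat hodd (orderOf_dvd_natCard y)
    obtain ⟨k, hk⟩ := hyodd
    have hypow : y = (y ^ 2) ^ (k + 1) := by
      rw [← pow_mul]
      have : 2 * (k + 1) = orderOf y + 1 := by omega
      rw [this, pow_succ, pow_orderOf_eq_one, one_mul]
    have h4 : conjFun H y θ = θ := by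
      rw [hypow]; exact conjFun_pow_eq H θ _ h2 _
    rw [h4] at hy
    -- θ is real
    have hreal : ∀ g, (θ g).im = 0 := by
      intro g
      have := congrFun hy g
      simp only [hθc] at this
      exact Complex.conj_eq_iff_im.mp this
    exact hθ1 (real_irr_eq_one hoddH θ hθ hreal)
  have hterm : ∀ x : G, Cfsg.classInner θc (conjFun H x⁻¹ θ) = 0 := fun x => by
    rw [classInner_irrCharacter hθcirr (isIrrCharacter_conjFun H hθ x⁻¹), if_neg (key x⁻¹)]
  simp_rw [hterm]
  simp

end Cfsg.Agent.S0194
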