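import Mathlib
import Cfsg.Statements.S0196

set_option autoImplicit false
open Cfsg

namespace Cfsg.Agent.S0196

variable {G : Type*} [Group G]

/-- nonidentity elements of `A` -/
abbrev NonId (A : Subgroup G) : Type _ := {x : G // x ∈ A ∧ x ≠ 1}

/-- The normalizer of `A` acts on the nonidentity elements of `A` by conjugation. -/
instance conjAction (A : Subgroup G) :
    MulAction (Subgroup.normalizer (A : Set G)) (NonId A) where
  smul n x := ⟨n.1 * x.1 * n.1⁻¹, (Subgroup.mem_normalizer_iff.mp n.2 x.1).mp x.2.1, by
    intro h
    apply x.2.2
    have : x.1 = n.1⁻¹ * (n.1 * x.1 * n.1⁻¹) * n.1 := by group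
    rw [this, h]; group⟩
  one_smul x := by
    apply Subtype.ext
    show (1 : G) * x.1 * (1 : G)⁻¹ = x.1
    simp
  mul_smul a b x := by
    apply Subtype.ext
    show (a.1 * b.1) * x.1 * (a.1 * b.1)⁻¹ = a.1 * (b.1 * x.1 * b.1⁻¹) * a.1⁻¹
    group

theorem smul_val (A : Subgroup G) (n : Subgroup.normalizer (A : Set G)) (x : NonId A) :
    (n • x).1 = n.1 * x.1 * n.1⁻¹ := rfl

theorem stabilizer_eq (A : Subgroup G)
    (hA : ∀ x ∈ A, x ≠ 1 → Subgroup.centralizer ({x} : Set G) = A) (x : NonId A) :
    MulAction.stabilizer (Subgroup.normalizer (A : Set G)) x =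
      A.subgroupOf (Subgroup.normalizer (A : Set G)) := by
  ext n
  rw [MulAction.mem_stabilizer_iff, Subgroup.mem_subgroupOf]
  have hmem : (n : G) ∈ A ↔ n.1 * x.1 = x.1 * n.1 := by
    rw [← Subgroup.mem_centralizer_singleton_iff, hA x.1 x.2.1 x.2.2]
  rw [hmem]
  constructor
  · intro h
    have h1 := congrArg Subtype.val h
    rw [smul_val] at h1
    calc n.1 * x.1 = n.1 * x.1 * n.1⁻¹ * n.1 := by group
      _ = x.1 * n.1 := by rw [h1]
  · intro h
    apply Subtype.ext
    rw [smul_val, h, mul_inv_cancel_right]

/-- Let A be a subgroup of a finite group G that equals the centralizer of each of its non-identity elements, and let N be its normalizer. Then the index of A in N divides |A| − 1 (N/A permutes the non-identity elements of A in orbits of full length). -/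
theorem result {G : Type*} [Group G] [Finite G] (A : Subgroup G) (hA : ∀ x ∈ A, x ≠ 1 → Subgroup.centralizer ({x} : Set G) = A) : (A.subgroupOf (Subgroup.normalizer (A : Set G))).index ∣ Nat.card A - 1 := by
  classical
  -- card of NonId A
  have hcard : Nat.card (NonId A) = Nat.card A - 1 := by
    have e : Option (NonId A) ≃ A :=
      { toFun := fun o => match o with
          | none => 1
          | some x => ⟨x.1, x.2.1⟩
        invFun := fun a => if h : (a : G) = 1 then none else some ⟨a.1, a.2, h⟩
        left_inv := by
          intro o
          cases o with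
          | none => simp
          | some x => simp [x.2.2]
        right_inv := by
          intro a
          by_cases h : (a : G) = 1
          · simp only [h, dite_true]
            exact Subtype.ext h.symm
          · simp only [h, dite_false] }
    have := Nat.card_congr e
    rw [Finite.card_option] at this
    omega
  rw [← hcard]
  haveI : Fintype (MulAction.orbitRel.Quotient (Subgroup.normalizer (A : Set G)) (NonId A)) :=
    Fintype.ofFinite _
  have hequiv := MulAction.selfEquivSigmaOrbitsQuotientStabilizer
    (Subgroup.normalizer (A : Set G)) (NonId A)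
  rw [Nat.card_congr hequiv, Nat.card_sigma]
  apply Finset.dvd_sum
  intro ω _
  rw [stabilizer_eq A hA, Subgroup.index_eq_card]

end Cfsg.Agent.S0196
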