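import Cfsg.Statements.S0200
import Cfsg.Agent.S0199

set_option autoImplicit false
open Cfsg

namespace Cfsg.Agent.S0200

/-- The elements of `⟨t⟩` for an involution `t`. -/
theorem mem_zpowers_of_orderOf_two {G : Type*} [Group G] (t : G) (ht : orderOf t = 2) (h : G)
    (hh : h ∈ Subgroup.zpowers t) : h = 1 ∨ h = t := by
  obtain ⟨i, rfl⟩ := Subgroup.mem_zpowers_iff.mp hh
  rw [← zpow_mod_orderOf, ht]
  have h2 : i % ((2 : ℕ) : ℤ) = 0 ∨ i % ((2 : ℕ) : ℤ) = 1 := by
    have := Int.emod_two_eq_zero_or_one i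
    simpa using this
  rcases h2 with h2 | h2
  · left; rw [h2, zpow_zero]
  · right; rw [h2, zpow_one]

/-- An involution lying in no normal 2-subgroup of a finite group inverts a nontrivial element of odd order (a consequence of the Baer–Suzuki Theorem). -/
theorem result {G : Type*} [Group G] [Finite G] (t : G) (ht : orderOf t = 2) (hO : ∀ N : Subgroup G, N.Normal → IsPGroup 2 N → t ∉ N) : ∃ h : G, h ≠ 1 ∧ Odd (orderOf h) ∧ t * h * t⁻¹ = h⁻¹ := by
  by_contra hcon
  push Not at hcon
  have htt : t * t = 1 := by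
    have := pow_orderOf_eq_one t
    rwa [ht, pow_two] at this
  have htinv : t⁻¹ = t := inv_eq_of_mul_eq_one_right htt
  have hXp : IsPGroup 2 (Subgroup.zpowers t) :=
    IsPGroup.of_card (n := 1) (by rw [Nat.card_zpowers, ht, pow_one])
  have key : ∀ g : G, IsPGroup 2
      ↥(Subgroup.zpowers t ⊔ (Subgroup.zpowers t).map (MulAut.conj g).toMonoidHom) := by
    intro g
    set s := g * t * g⁻¹ with hs
    set u := t * s with hu
    have hss : s * s = 1 := by
      rw [hs]; calc g * t * g⁻¹ * (g * t * g⁻¹) = g * (t * t) * g⁻¹ := by group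
        _ = 1 := by rw [htt]; group
    have htu : t * u * t⁻¹ = u⁻¹ := by
      rw [htinv, hu]
      have : (t * s)⁻¹ = s * t := by
        rw [mul_inv_rev, htinv, inv_eq_of_mul_eq_one_right hss]
      rw [this]
      calc t * (t * s) * t = (t * t) * s * t := by group
        _ = s * t := by rw [htt, one_mul]
    -- the odd part of `u` is trivial
    have hupos : orderOf u ≠ 0 := (orderOf_pos u).ne'
    obtain ⟨a, m, hm, hn⟩ := Nat.exists_eq_two_pow_mul_odd hupos
    have hdvd : 2 ^ a ∣ orderOf u := ⟨m, hn⟩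
    have hord : orderOf (u ^ 2 ^ a) = m := by
      rw [orderOf_pow_of_dvd (pow_ne_zero a two_ne_zero) hdvd, hn,
        Nat.mul_div_cancel_left m (pow_pos two_pos a)]
    have hinvh : t * (u ^ 2 ^ a) * t⁻¹ = (u ^ 2 ^ a)⁻¹ := by
      have h1 : t * (u ^ 2 ^ a) * t⁻¹ = (t * u * t⁻¹) ^ 2 ^ a := by
        rw [conj_pow]
      rw [h1, htu, inv_pow]
    have hh1 : u ^ 2 ^ a = 1 := by
      by_contra hne
      exact hcon _ hne (by rw [hord]; exact hm) hinvh
    have hm1 : m = 1 := by rw [← hord, hh1, orderOf_one]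
    have hUp : IsPGroup 2 (Subgroup.zpowers u) :=
      IsPGroup.of_card (n := a) (by rw [Nat.card_zpowers, hn, hm1, mul_one])
    have hnorm : Subgroup.zpowers t ≤ Subgroup.normalizer (Subgroup.zpowers u : Set G) := by
      rw [Subgroup.zpowers_eq_closure u, Subgroup.le_normalizer_closure_iff]
      intro h hh x hx
      rw [Set.mem_singleton_iff] at hx
      subst hx
      rw [← Subgroup.zpowers_eq_closure]
      rcases mem_zpowers_of_orderOf_two t ht h hh with rfl | rfl
      · simp
      · rw [htu]; exact Subgroup.inv_mem _ (Subgroup.mem_zpowers u)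
    have hsup : IsPGroup 2 (Subgroup.zpowers t ⊔ Subgroup.zpowers u : Subgroup G) :=
      hXp.to_sup_of_normal_right' hUp hnorm
    refine hsup.to_le ?_
    rw [sup_le_iff]
    refine ⟨le_sup_left, ?_⟩
    rw [MonoidHom.map_zpowers, Subgroup.zpowers_le]
    have : (MulAut.conj g).toMonoidHom t = t⁻¹ * u := by
      simp only [MulEquiv.toMonoidHom_eq_coe, MonoidHom.coe_coe, MulAut.conj_apply, hu, hs]
      group
    rw [this]
    exact Subgroup.mul_mem _ (Subgroup.mem_sup_left (Subgroup.inv_mem _ (Subgroup.mem_zpowers t)))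
      (Subgroup.mem_sup_right (Subgroup.mem_zpowers u))
  obtain ⟨N, hN, hNp, hXN⟩ := Cfsg.Agent.S0199.result (Subgroup.zpowers t) hXp key
  exact hO N hN hNp (hXN (Subgroup.mem_zpowers t))

end Cfsg.Agent.S0200
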