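import Cfsg.Statements.S0202
-- import your own Cfsg.Agent.* helpers here

set_option autoImplicit false
open Cfsg

namespace Cfsg.Agent.S0202

/-- the model Klein four-group -/
abbrev M := Multiplicative (ZMod 2 × ZMod 2)
/-- first generator of the model -/
def a₀ : M := Multiplicative.ofAdd (1, 0)
/-- second generator of the model -/
def b₀ : M := Multiplicative.ofAdd (0, 1)
theorem M1 : a₀ ≠ 1 ∧ b₀ ≠ 1 ∧ a₀ * b₀ ≠ 1 ∧ a₀ ≠ b₀ ∧ a₀ ≠ a₀ * b₀ ∧ b₀ ≠ a₀ * b₀ := by decide
theorem M2 : ∀ m : M, m = 1 ∨ m = a₀ ∨ m = b₀ ∨ m = a₀ * b₀ := by decide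
theorem M3 : ∀ m : M, m * m = 1 := by decide
theorem M4 : ∀ m k : M, m * k = k * m := by decide

/-- `P = {1, a, b, ab}` is a four-group with the given generators. -/
def IsFourData {G : Type*} [Group G] (P : Subgroup G) (a b : G) : Prop :=
  a ∈ P ∧ b ∈ P ∧ a ≠ 1 ∧ b ≠ 1 ∧ a * b ≠ 1 ∧ a ≠ b ∧ a ≠ a * b ∧ b ≠ a * b ∧
    (∀ x ∈ P, x * x = 1) ∧ (∀ x ∈ P, ∀ y ∈ P, x * y = y * x) ∧
    ∀ x ∈ P, x = 1 ∨ x = a ∨ x = b ∨ x = a * b

theorem exists_fourData {G : Type*} [Group G] (P : Subgroup G) [IsKleinFour ↥P] :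
    ∃ a b : G, IsFourData P a b := by
  obtain ⟨e⟩ : Nonempty (↥P ≃* M) := IsKleinFour.nonempty_mulEquiv
  let ψ : M →* G := P.subtype.comp e.symm.toMonoidHom
  have hψinj : Function.Injective ψ := Subtype.coe_injective.comp e.symm.injective
  have hψP : ∀ k, ψ k ∈ P := fun k => (e.symm k).2
  have hψsurj : ∀ s ∈ P, ∃ k, ψ k = s := by
    intro s hs
    refine ⟨e ⟨s, hs⟩, ?_⟩
    show ((e.symm (e ⟨s, hs⟩) : ↥P) : G) = s
    rw [MulEquiv.symm_apply_apply]
  have hne : ∀ k l : M, k ≠ l → ψ k ≠ ψ l := fun k l h h' => h (hψinj h')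
  refine ⟨ψ a₀, ψ b₀, hψP _, hψP _, ?_, ?_, ?_, ?_, ?_, ?_, ?_, ?_, ?_⟩
  · rw [← map_one ψ]; exact hne _ _ M1.1
  · rw [← map_one ψ]; exact hne _ _ M1.2.1
  · rw [← map_one ψ, ← map_mul]; exact hne _ _ M1.2.2.1
  · exact hne _ _ M1.2.2.2.1
  · rw [← map_mul]; exact hne _ _ M1.2.2.2.2.1
  · rw [← map_mul]; exact hne _ _ M1.2.2.2.2.2
  · intro x hx
    obtain ⟨k, rfl⟩ := hψsurj x hx
    rw [← map_mul, M3, map_one]
  · intro x hx y hy
    obtain ⟨k, rfl⟩ := hψsurj x hx
    obtain ⟨l, rfl⟩ := hψsurj y hy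
    rw [← map_mul, ← map_mul, M4]
  · intro x hx
    obtain ⟨k, rfl⟩ := hψsurj x hx
    rcases M2 k with h | h | h | h
    · left; rw [h, map_one]
    · right; left; rw [h]
    · right; right; left; rw [h]
    · right; right; right; rw [h, map_mul]

/-- Alternating conjugation: if conjugation by `n` swaps `x` and `y`, then conjugation by `n ^ j`
maps `x` to `x` or `y` according to the parity of `j`. -/
theorem conj_pow_swap {G : Type*} [Group G] (n x y : G) (h1 : n⁻¹ * x * n = y) (h2 : n⁻¹ * y * n = x)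
    (j : ℕ) : (n ^ j)⁻¹ * x * n ^ j = if Even j then x else y := by
  induction j with
  | zero => simp
  | succ j ih =>
    have : (n ^ (j + 1))⁻¹ * x * n ^ (j + 1) = n⁻¹ * ((n ^ j)⁻¹ * x * n ^ j) * n := by
      rw [pow_succ]; group
    rw [this, ih]
    by_cases hj : Even j
    · have : ¬ Even (j + 1) := by rw [Nat.even_add_one]; exact not_not.mpr hj
      rw [if_pos hj, if_neg this, h1]
    · have : Even (j + 1) := by rw [Nat.even_add_one]; exact hj
      rw [if_neg hj, if_pos this, h2]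

/-- Fusion in a four-group Sylow 2-subgroup: two distinct conjugate involutions of `P` are both
conjugate to the third one. -/
theorem conj_third {G : Type*} [Group G] [Finite G] (P : Sylow 2 G)
    (hcomm : ∀ p ∈ (P : Subgroup G), ∀ q ∈ (P : Subgroup G), p * q = q * p)
    (x y : G) (hx : x ∈ (P : Subgroup G)) (hy : y ∈ (P : Subgroup G)) (hxy : x ≠ y) (hy1 : y ≠ 1)
    (hP : ∀ p ∈ (P : Subgroup G), p = 1 ∨ p = x ∨ p = y ∨ p = x * y) (hconj : IsConj x y) :
    IsConj y (x * y) := by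
  have : Fact (Nat.Prime 2) := ⟨Nat.prime_two⟩
  obtain ⟨c, hc⟩ := isConj_iff.mp hconj
  have hcent : ∀ p ∈ (P : Subgroup G), p ∈ Subgroup.centralizer ((P : Subgroup G) : Set G) := by
    intro p hp
    rw [Subgroup.mem_centralizer_iff]
    intro q hq
    exact hcomm q hq p hp
  have hy' : c⁻¹⁻¹ * x * c⁻¹ = y := by rw [inv_inv]; exact hc
  obtain ⟨n, hn, hnx⟩ := P.conj_eq_normalizer_conj_of_mem_centralizer x c⁻¹ (hcent x hx)
    (by rw [hy']; exact hcent y hy)
  rw [hy'] at hnx
  -- conjugation by n⁻¹ preserves P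
  have hφP : ∀ p ∈ (P : Subgroup G), n⁻¹ * p * n ∈ (P : Subgroup G) := by
    intro p hp
    have h1 := (Subgroup.mem_normalizer_iff.mp (Subgroup.inv_mem _ hn) p).mp hp
    rwa [inv_inv] at h1
  have hφy : n⁻¹ * y * n ∈ (P : Subgroup G) := hφP y hy
  rcases hP _ hφy with h | h | h | h
  · exfalso
    apply hy1
    have : y = n * (n⁻¹ * y * n) * n⁻¹ := by group
    rw [this, h]; group
  · -- swap: contradiction
    exfalso
    obtain ⟨k, r, hr, hN⟩ := Nat.exists_eq_two_pow_mul_odd (orderOf_pos n).ne'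
    set w := n ^ r with hw
    have hw2 : w ^ (2 ^ k) = 1 := by
      rw [hw, ← pow_mul, mul_comm, ← hN]; exact pow_orderOf_eq_one n
    have hwN : w ∈ Subgroup.normalizer ((P : Subgroup G) : Set G) := Subgroup.pow_mem _ hn r
    have hz2 : IsPGroup 2 ↥(Subgroup.zpowers w) := by
      rintro ⟨g, hg⟩
      obtain ⟨i, rfl⟩ := Subgroup.mem_zpowers_iff.mp hg
      refine ⟨k, Subtype.ext ?_⟩
      show (w ^ i) ^ (2 ^ k) = 1
      rw [← zpow_natCast, ← zpow_mul, mul_comm, zpow_mul, zpow_natCast, hw2, one_zpow]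
    have hle : Subgroup.zpowers w ≤ Subgroup.normalizer ((P : Subgroup G) : Set G) := by
      rw [Subgroup.zpowers_le]; exact hwN
    have hsup : IsPGroup 2 ↥(Subgroup.zpowers w ⊔ (P : Subgroup G)) :=
      hz2.to_sup_of_normal_right' P.2 hle
    have heq : Subgroup.zpowers w ⊔ (P : Subgroup G) = (P : Subgroup G) :=
      P.is_maximal' hsup le_sup_right
    have hwP : w ∈ (P : Subgroup G) := by
      rw [← heq]; exact Subgroup.mem_sup_left (Subgroup.mem_zpowers w)
    have h3 := conj_pow_swap n x y hnx.symm h r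
    rw [if_neg (Nat.not_even_iff_odd.mpr hr)] at h3
    apply hxy
    rw [← h3, ← hw]
    have := hcomm x hx w hwP
    calc x = w⁻¹ * (w * x) := by group
      _ = w⁻¹ * (x * w) := by rw [this]
      _ = w⁻¹ * x * w := by group
  · exfalso
    apply hxy
    have h1 : n⁻¹ * y * n = n⁻¹ * x * n := by rw [h, hnx]
    have : n * (n⁻¹ * y * n) * n⁻¹ = n * (n⁻¹ * x * n) * n⁻¹ := by rw [h1]
    have e1 : n * (n⁻¹ * y * n) * n⁻¹ = y := by group
    have e2 : n * (n⁻¹ * x * n) * n⁻¹ = x := by group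
    rw [e1, e2] at this
    exact this.symm
  · rw [isConj_iff]
    exact ⟨n⁻¹, by rw [inv_inv]; exact h⟩

/-- every involution is conjugate into the Sylow four-group -/
theorem invol_conj {G : Type*} [Group G] [Finite G] (P : Sylow 2 G) (a b : G)
    (hd : IsFourData (P : Subgroup G) a b) (t : G) (ht : orderOf t = 2) :
    IsConj t a ∨ IsConj t b ∨ IsConj t (a * b) := by
  have : Fact (Nat.Prime 2) := ⟨Nat.prime_two⟩
  obtain ⟨-, -, -, -, -, -, -, -, -, -, hP⟩ := hd
  have hz : IsPGroup 2 ↥(Subgroup.zpowers t) := by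
    apply IsPGroup.of_card (n := 1)
    rw [Nat.card_zpowers, ht, pow_one]
  obtain ⟨Q, hQ⟩ := hz.exists_le_sylow
  obtain ⟨g, hg⟩ := MulAction.exists_smul_eq G Q P
  have htQ : t ∈ (Q : Subgroup G) := hQ (Subgroup.mem_zpowers t)
  have hgt : g * t * g⁻¹ ∈ (P : Subgroup G) := by
    rw [← hg]
    have := Subgroup.smul_mem_pointwise_smul t (MulAut.conj g) (Q : Subgroup G) htQ
    rwa [MulAut.smul_def, MulAut.conj_apply] at this
  have hne : g * t * g⁻¹ ≠ 1 := by
    intro h
    have ht1 : t = 1 := by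
      have : t = g⁻¹ * (g * t * g⁻¹) * g := by group
      rw [this, h]; group
    rw [ht1, orderOf_one] at ht
    omega
  have hc : IsConj t (g * t * g⁻¹) := isConj_iff.mpr ⟨g, rfl⟩
  rcases hP _ hgt with h | h | h | h
  · exact absurd h hne
  · left; rwa [h] at hc
  · right; left; rwa [h] at hc
  · right; right; rwa [h] at hc

/-- the set of classes of involutions -/
theorem classes_eq {G : Type*} [Group G] [Finite G] (P : Sylow 2 G) (a b : G)
    (hd : IsFourData (P : Subgroup G) a b) :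
    {C : ConjClasses G | ∃ t : G, orderOf t = 2 ∧ ConjClasses.mk t = C} =
      {ConjClasses.mk a, ConjClasses.mk b, ConjClasses.mk (a * b)} := by
  have : Fact (Nat.Prime 2) := ⟨Nat.prime_two⟩
  have hd' := hd
  obtain ⟨haP, hbP, ha1, hb1, hab1, -, -, -, hsq, -, -⟩ := hd'
  have hord : ∀ x ∈ (P : Subgroup G), x ≠ 1 → orderOf x = 2 := by
    intro x hx hx1
    exact orderOf_eq_prime (by rw [pow_two]; exact hsq x hx) hx1
  ext C
  simp only [Set.mem_setOf_eq, Set.mem_insert_iff, Set.mem_singleton_iff]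
  constructor
  · rintro ⟨t, ht, rfl⟩
    rcases invol_conj P a b hd t ht with h | h | h
    · left; exact ConjClasses.mk_eq_mk_iff_isConj.mpr h
    · right; left; exact ConjClasses.mk_eq_mk_iff_isConj.mpr h
    · right; right; exact ConjClasses.mk_eq_mk_iff_isConj.mpr h
  · rintro (h | h | h)
    · exact ⟨a, hord a haP ha1, h.symm⟩
    · exact ⟨b, hord b hbP hb1, h.symm⟩
    · exact ⟨a * b, hord _ ((P : Subgroup G).mul_mem haP hbP) hab1, h.symm⟩

/-- if two of the three involutions of `P` are conjugate, all are -/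
theorem all_conj {G : Type*} [Group G] [Finite G] (P : Sylow 2 G) (a b : G)
    (hd : IsFourData (P : Subgroup G) a b)
    (h : IsConj a b ∨ IsConj a (a * b) ∨ IsConj b (a * b)) :
    IsConj a b ∧ IsConj b (a * b) := by
  obtain ⟨haP, hbP, ha1, hb1, hab1, hab, haab, hbab, hsq, hcomm, hP⟩ := hd
  have habP : a * b ∈ (P : Subgroup G) := (P : Subgroup G).mul_mem haP hbP
  have e1 : a * (a * b) = b := by rw [← mul_assoc, hsq a haP, one_mul]
  have e2 : b * (a * b) = a := by rw [hcomm a haP b hbP, ← mul_assoc, hsq b hbP, one_mul]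
  rcases h with h | h | h
  · exact ⟨h, conj_third P hcomm a b haP hbP hab hb1 hP h⟩
  · have h2 : IsConj (a * b) b := by
      have := conj_third P hcomm a (a * b) haP habP haab hab1 (by
        intro p hp
        rcases hP p hp with h | h | h | h
        · left; exact h
        · right; left; exact h
        · right; right; right; rw [e1]; exact h
        · right; right; left; exact h) h
      rwa [e1] at this
    exact ⟨h.trans h2, h2.symm⟩
  · have h2 : IsConj (a * b) a := by
      have := conj_third P hcomm b (a * b) hbP habP hbab hab1 (by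
        intro p hp
        rcases hP p hp with h | h | h | h
        · left; exact h
        · right; right; right; rw [e2]; exact h
        · right; left; exact h
        · right; right; left; exact h) h
      rwa [e2] at this
    exact ⟨h2.symm.trans h.symm, h⟩

/-- the number of classes of involutions -/
theorem card_classes {G : Type*} [Group G] [Finite G] (P : Sylow 2 G) (a b : G)
    (hd : IsFourData (P : Subgroup G) a b) :
    ((IsConj a b ∨ IsConj a (a * b) ∨ IsConj b (a * b)) →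
      Nat.card {C : ConjClasses G // ∃ t : G, orderOf t = 2 ∧ ConjClasses.mk t = C} = 1) ∧
    ((¬ IsConj a b ∧ ¬ IsConj a (a * b) ∧ ¬ IsConj b (a * b)) →
      Nat.card {C : ConjClasses G // ∃ t : G, orderOf t = 2 ∧ ConjClasses.mk t = C} = 3) := by
  have hcard : Nat.card {C : ConjClasses G // ∃ t : G, orderOf t = 2 ∧ ConjClasses.mk t = C} =
      ({ConjClasses.mk a, ConjClasses.mk b, ConjClasses.mk (a * b)} : Set (ConjClasses G)).ncard := by
    rw [← classes_eq P a b hd]
    exact Nat.card_coe_set_eq _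
  constructor
  · intro h
    obtain ⟨h1, h2⟩ := all_conj P a b hd h
    rw [hcard, ConjClasses.mk_eq_mk_iff_isConj.mpr h1, ← ConjClasses.mk_eq_mk_iff_isConj.mpr h2]
    simp
  · rintro ⟨h1, h2, h3⟩
    rw [hcard]
    apply Set.ncard_eq_three.mpr
    refine ⟨_, _, _, ?_, ?_, ?_, rfl⟩
    · exact fun h => h1 (ConjClasses.mk_eq_mk_iff_isConj.mp h)
    · exact fun h => h2 (ConjClasses.mk_eq_mk_iff_isConj.mp h)
    · exact fun h => h3 (ConjClasses.mk_eq_mk_iff_isConj.mp h)

theorem result {G : Type*} [Group G] [Finite G] (P : Sylow 2 G) (hP : IsKleinFour (P : Subgroup G)) : Nat.card {C : ConjClasses G // ∃ t : G, orderOf t = 2 ∧ ConjClasses.mk t = C} = 1 ∨ Nat.card {C : ConjClasses G // ∃ t : G, orderOf t = 2 ∧ ConjClasses.mk t = C} = 3 := by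
  obtain ⟨a, b, hd⟩ := exists_fourData (P : Subgroup G)
  obtain ⟨h1, h3⟩ := card_classes P a b hd
  by_cases h : IsConj a b ∨ IsConj a (a * b) ∨ IsConj b (a * b)
  · left; exact h1 h
  · right
    push Not at h
    exact h3 h

end Cfsg.Agent.S0202
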