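import Cfsg.Statements.S0203
import Cfsg.Agent.S0202
import Mathlib.GroupTheory.Transfer

set_option autoImplicit false
open Cfsg

namespace Cfsg.Agent.S0203

open Cfsg.Agent.S0202

theorem result {G : Type*} [Group G] [Finite G] (P : Sylow 2 G) (hP : IsKleinFour (P : Subgroup G)) : Nat.card {C : ConjClasses G // ∃ t : G, orderOf t = 2 ∧ ConjClasses.mk t = C} = 3 ↔ ∃ N : Subgroup G, N.Normal ∧ Subgroup.IsComplement' N (P : Subgroup G) := by
  have : Fact (Nat.Prime 2) := ⟨Nat.prime_two⟩
  obtain ⟨a, b, hd⟩ := exists_fourData (P : Subgroup G)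
  obtain ⟨h1, h3⟩ := card_classes P a b hd
  have hd' := hd
  obtain ⟨haP, hbP, ha1, hb1, hab1, hab, haab, hbab, hsq, hcomm, hPel⟩ := hd'
  have habP : a * b ∈ (P : Subgroup G) := (P : Subgroup G).mul_mem haP hbP
  constructor
  · intro hcard
    -- pairwise non-conjugate
    have hnc : ¬ (IsConj a b ∨ IsConj a (a * b) ∨ IsConj b (a * b)) := by
      intro h
      have := h1 h
      omega
    push Not at hnc
    obtain ⟨n1, n2, n3⟩ := hnc
    -- conjugate elements of P are equal
    have hrigid : ∀ p ∈ (P : Subgroup G), ∀ q ∈ (P : Subgroup G), IsConj p q → p = q := by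
      intro p hp q hq hpq
      have hone : ∀ x y : G, IsConj x y → x = 1 → y = 1 := by
        intro x y hxy hx
        obtain ⟨c, hc⟩ := isConj_iff.mp hxy
        rw [← hc, hx]; group
      rcases hPel p hp with rfl | rfl | rfl | rfl
      · exact (hone _ _ hpq rfl).symm
      · rcases hPel q hq with rfl | rfl | rfl | rfl
        · exact hone _ _ hpq.symm rfl
        · rfl
        · exact absurd hpq n1
        · exact absurd hpq n2
      · rcases hPel q hq with rfl | rfl | rfl | rfl
        · exact hone _ _ hpq.symm rfl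
        · exact absurd hpq.symm n1
        · rfl
        · exact absurd hpq n3
      · rcases hPel q hq with rfl | rfl | rfl | rfl
        · exact hone _ _ hpq.symm rfl
        · exact absurd hpq.symm n2
        · exact absurd hpq.symm n3
        · rfl
    have hle : Subgroup.normalizer ((P : Subgroup G) : Set G) ≤ Subgroup.centralizer ((P : Subgroup G) : Set G) := by
      intro n hn
      rw [Subgroup.mem_centralizer_iff]
      intro p hp
      have hq : n * p * n⁻¹ ∈ (P : Subgroup G) := (Subgroup.mem_normalizer_iff.mp hn p).mp hp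
      have := hrigid p hp _ hq (isConj_iff.mpr ⟨n, rfl⟩)
      calc p * n = (n * p * n⁻¹) * n := by rw [← this]
        _ = n * p := by group
    exact ⟨(MonoidHom.transferSylow P hle).ker, inferInstance,
      MonoidHom.ker_transferSylow_isComplement' P hle⟩
  · rintro ⟨N, hN, hc⟩
    apply h3
    have hdisj : Disjoint N (P : Subgroup G) := hc.disjoint
    have hrigid : ∀ p ∈ (P : Subgroup G), ∀ q ∈ (P : Subgroup G), IsConj p q → p = q := by
      intro p hp q hq hpq
      obtain ⟨g, hg⟩ := isConj_iff.mp hpq
      obtain ⟨⟨n, s⟩, hns, -⟩ := (Subgroup.isComplement'_def.mp hc).existsUnique g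
      have hns' : (n : G) * (s : G) = g := hns
      have hsp : (s : G) * p * (s : G)⁻¹ = p := by
        rw [hcomm _ s.2 p hp]; group
      have hq' : q = (n : G) * p * (n : G)⁻¹ := by
        rw [← hg, ← hns']
        calc (n : G) * (s : G) * p * ((n : G) * (s : G))⁻¹
            = (n : G) * ((s : G) * p * (s : G)⁻¹) * (n : G)⁻¹ := by group
          _ = (n : G) * p * (n : G)⁻¹ := by rw [hsp]
      have h1 : q * p⁻¹ ∈ N := by
        rw [hq']
        have : (n : G) * p * (n : G)⁻¹ * p⁻¹ = (n : G) * (p * (n : G)⁻¹ * p⁻¹) := by group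
        rw [this]
        exact N.mul_mem n.2 (hN.conj_mem _ (N.inv_mem n.2) p)
      have h2 : q * p⁻¹ ∈ (P : Subgroup G) := (P : Subgroup G).mul_mem hq ((P : Subgroup G).inv_mem hp)
      have h3 : q * p⁻¹ = 1 := Subgroup.disjoint_def.mp hdisj h1 h2
      exact (mul_inv_eq_one.mp h3).symm
    exact ⟨fun h => hab (hrigid a haP b hbP h), fun h => haab (hrigid a haP _ habP h),
      fun h => hbab (hrigid b hbP _ habP h)⟩

end Cfsg.Agent.S0203
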