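import Mathlib
import Cfsg.Statements.S0208

set_option autoImplicit false
open Cfsg

namespace Cfsg.Agent.S0208

/-- If x, y are involutions and xy has odd order, then some element of the subgroup generated by x and y conjugates x to y. -/
theorem result {G : Type*} [Group G] [Finite G] (x y : G) (hx : orderOf x = 2) (hy : orderOf y = 2) (hodd : Odd (orderOf (x * y))) : ∃ d ∈ Subgroup.closure ({x, y} : Set G), d * x * d⁻¹ = y := by
  have hx2 : x * x = 1 := by
    have := pow_orderOf_eq_one x; rw [hx, pow_two] at this; exact this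
  have hy2 : y * y = 1 := by
    have := pow_orderOf_eq_one y; rw [hy, pow_two] at this; exact this
  have hxi : x⁻¹ = x := inv_eq_of_mul_eq_one_right hx2
  have hyi : y⁻¹ = y := inv_eq_of_mul_eq_one_right hy2
  obtain ⟨k, hk⟩ := hodd
  have hxm : x ∈ Subgroup.closure ({x, y} : Set G) := Subgroup.subset_closure (by simp)
  have hym : y ∈ Subgroup.closure ({x, y} : Set G) := Subgroup.subset_closure (by simp)
  -- (y*x) has the same order as x*y
  have hyx : (y * x) = (x * y)⁻¹ := by rw [mul_inv_rev, hxi, hyi]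
  have hpow : (y * x) ^ (2 * k + 1) = 1 := by
    rw [hyx, inv_pow, ← hk, pow_orderOf_eq_one, inv_one]
  -- x * (x*y)^m = (y*x)^m * x
  have hcomm : ∀ m : ℕ, x * (x * y) ^ m = (y * x) ^ m * x := by
    intro m
    induction m with
    | zero => simp
    | succ m ih =>
      calc x * (x * y) ^ (m + 1) = (x * (x * y) ^ m) * (x * y) := by rw [pow_succ, mul_assoc]
        _ = (y * x) ^ m * (x * x) * y := by rw [ih]; simp only [mul_assoc]
        _ = (y * x) ^ m * y * (x * x) := by rw [hx2, mul_one, mul_one]
        _ = (y * x) ^ (m + 1) * x := by rw [pow_succ]; simp only [mul_assoc]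
  refine ⟨(y * x) ^ (k + 1), Subgroup.pow_mem _ (Subgroup.mul_mem _ hym hxm) _, ?_⟩
  have hinv : ((y * x) ^ (k + 1))⁻¹ = (x * y) ^ (k + 1) := by
    rw [hyx, inv_pow, inv_inv]
  rw [hinv, mul_assoc, hcomm, ← mul_assoc, ← pow_add]
  have : k + 1 + (k + 1) = (2 * k + 1) + 1 := by ring
  rw [this, pow_succ, hpow, one_mul, mul_assoc, hx2, mul_one]

end Cfsg.Agent.S0208
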