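import Mathlib
import Cfsg.Statements.S0209

set_option autoImplicit false
open Cfsg

namespace Cfsg.Agent.S0209

theorem x_mul_pow {G : Type*} [Group G] (x y : G) (hx2 : x * x = 1) (m : ℕ) :
    x * (x * y) ^ m = (y * x) ^ m * x := by
  induction m with
  | zero => simp
  | succ m ih =>
    calc x * (x * y) ^ (m + 1) = (x * (x * y) ^ m) * (x * y) := by rw [pow_succ, mul_assoc]
      _ = (y * x) ^ m * (x * x) * y := by rw [ih]; simp only [mul_assoc]
      _ = (y * x) ^ m * y * (x * x) := by rw [hx2, mul_one, mul_one]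
      _ = (y * x) ^ (m + 1) * x := by rw [pow_succ]; simp only [mul_assoc]

theorem y_mul_pow {G : Type*} [Group G] (x y : G) (m : ℕ) :
    y * (x * y) ^ m = (y * x) ^ m * y := by
  induction m with
  | zero => simp
  | succ m ih =>
    calc y * (x * y) ^ (m + 1) = (y * (x * y) ^ m) * (x * y) := by rw [pow_succ, mul_assoc]
      _ = (y * x) ^ m * (y * x) * y := by rw [ih]; simp only [mul_assoc]
      _ = (y * x) ^ (m + 1) * y := by rw [pow_succ]

/-- If x, y are involutions whose product has even order n, the element (xy)^(n/2) is an involution that commutes with x and with y. -/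
theorem result {G : Type*} [Group G] [Finite G] (x y : G) (hx : orderOf x = 2) (hy : orderOf y = 2) (heven : Even (orderOf (x * y))) : orderOf ((x * y) ^ (orderOf (x * y) / 2)) = 2 ∧ Commute ((x * y) ^ (orderOf (x * y) / 2)) x ∧ Commute ((x * y) ^ (orderOf (x * y) / 2)) y := by
  have hx2 : x * x = 1 := by
    have := pow_orderOf_eq_one x; rw [hx, pow_two] at this; exact this
  have hy2 : y * y = 1 := by
    have := pow_orderOf_eq_one y; rw [hy, pow_two] at this; exact this
  have hxi : x⁻¹ = x := inv_eq_of_mul_eq_one_right hx2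
  have hyi : y⁻¹ = y := inv_eq_of_mul_eq_one_right hy2
  have hyx : (y * x) = (x * y)⁻¹ := by rw [mul_inv_rev, hxi, hyi]
  obtain ⟨m, hm⟩ := heven
  have hpos : 0 < orderOf (x * y) := orderOf_pos _
  have hm0 : m ≠ 0 := by omega
  have hdiv : orderOf (x * y) / 2 = m := by omega
  rw [hdiv]
  have hz2 : (x * y) ^ m * (x * y) ^ m = 1 := by
    rw [← pow_add, ← hm, pow_orderOf_eq_one]
  have hzi : ((x * y) ^ m)⁻¹ = (x * y) ^ m := inv_eq_of_mul_eq_one_right hz2
  have hyxm : (y * x) ^ m = (x * y) ^ m := by rw [hyx, inv_pow, hzi]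
  refine ⟨?_, ?_, ?_⟩
  · rw [orderOf_pow_of_dvd hm0 ⟨2, by omega⟩, hm]
    have : (m + m) / m = 2 := by
      rw [← two_mul, Nat.mul_div_cancel _ (Nat.pos_of_ne_zero hm0)]
    exact this
  · have := x_mul_pow x y hx2 m
    rw [hyxm] at this
    exact this.symm
  · have := y_mul_pow x y m
    rw [hyxm] at this
    exact this.symm

end Cfsg.Agent.S0209
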