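import Mathlib
import Cfsg.Statements.S0210
import Cfsg.Agent.Lib.Helper4.Dihedral

set_option autoImplicit false
open Cfsg

namespace Cfsg.Agent.S0210

open Cfsg.Agent.Lib.Helper4

/-- If x, y are involutions whose product has even order, no element of the subgroup generated by x and y conjugates x to y. -/
theorem result {G : Type*} [Group G] [Finite G] (x y : G) (hx : orderOf x = 2) (hy : orderOf y = 2) (heven : Even (orderOf (x * y))) (d : G) (hd : d ∈ Subgroup.closure ({x, y} : Set G)) : d * x * d⁻¹ ≠ y := by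
  have hx2 := mul_self_of_orderOf_two hx
  have hy2 := mul_self_of_orderOf_two hy
  intro h
  obtain ⟨k, hk⟩ := conj_x_of_mem_closure_pair hx2 hy2 hd
  rw [h] at hk
  -- y = (xy)^(-1) x
  have hy' : y = (x * y) ^ (-1 : ℤ) * x := by
    rw [← invol_mul_zpow hx2 hy2, zpow_one, ← mul_assoc, hx2, one_mul]
  have h1 : (x * y) ^ (2 * k + 1) = 1 := by
    have := mul_right_cancel (hk.symm.trans hy')
    rw [zpow_add, this]; simp
  have hdvd := (orderOf_dvd_iff_zpow_eq_one).mpr h1
  obtain ⟨m, hm⟩ := heven
  rw [hm] at hdvd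
  obtain ⟨c, hc⟩ := hdvd
  push_cast at hc
  have : (2 * k + 1) % 2 = 0 := by rw [hc]; ring_nf; omega
  omega

end Cfsg.Agent.S0210
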