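import Mathlib
import Cfsg.Statements.S0211
import Cfsg.Agent.Lib.Helper4.Dihedral

set_option autoImplicit false
open Cfsg

namespace Cfsg.Agent.S0211

open Cfsg.Agent.Lib.Helper4

/-- Let x, y be involutions with xy of even order n and z = (xy)^(n/2). Then xz is conjugate to x by an element of the subgroup generated by x, y if and only if 4 divides n. -/
theorem result {G : Type*} [Group G] [Finite G] (x y : G) (hx : orderOf x = 2) (hy : orderOf y = 2) (heven : Even (orderOf (x * y))) : (∃ d ∈ Subgroup.closure ({x, y} : Set G), d * x * d⁻¹ = x * (x * y) ^ (orderOf (x * y) / 2)) ↔ 4 ∣ orderOf (x * y) := by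
  have hx2 := mul_self_of_orderOf_two hx
  have hy2 := mul_self_of_orderOf_two hy
  obtain ⟨m, hm⟩ := heven
  have hdiv : orderOf (x * y) / 2 = m := by omega
  rw [hdiv]
  have hxz : x * (x * y) ^ m = (x * y) ^ (-(m : ℤ)) * x := by
    rw [← zpow_natCast, invol_mul_zpow hx2 hy2]
  rw [hxz]
  constructor
  · rintro ⟨d, hd, hdx⟩
    obtain ⟨k, hk⟩ := conj_x_of_mem_closure_pair hx2 hy2 hd
    have h1 : (x * y) ^ (2 * k + m) = 1 := by
      have := mul_right_cancel (hk.symm.trans hdx)
      rw [zpow_add, this, ← zpow_add]; simp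
    have hdvd := (orderOf_dvd_iff_zpow_eq_one).mpr h1
    rw [hm] at hdvd ⊢
    obtain ⟨c, hc⟩ := hdvd
    push_cast at hc
    have h4 : (4 : ℤ) ∣ ((m + m : ℕ) : ℤ) := by
      refine ⟨m * c - k, ?_⟩
      push_cast
      linarith
    exact Int.natCast_dvd_natCast.mp h4
  · rintro ⟨c, hc⟩
    have hmc : m = 2 * c := by omega
    refine ⟨(x * y) ^ (-(c : ℤ)), zpow_mem_closure_pair x y _, ?_⟩
    rw [← zpow_neg, neg_neg, mul_assoc, invol_mul_zpow hx2 hy2, ← mul_assoc, ← zpow_add, hmc]
    congr 2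
    push_cast; ring

end Cfsg.Agent.S0211
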