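import Cfsg.Statements.S0231
-- import your own Cfsg.Agent.* helpers here

set_option autoImplicit false
open scoped Pointwise
open Cfsg

namespace Cfsg.Agent.S0231

section
variable {G : Type*} [Group G]

theorem mem_smul_sylow (g x : G) (P : Sylow 2 G) :
    x ∈ ((g • P : Sylow 2 G) : Subgroup G) ↔ g⁻¹ * x * g ∈ (P : Subgroup G) := by
  rw [Sylow.coe_subgroup_smul, Subgroup.mem_pointwise_smul_iff_inv_smul_mem]
  simp [MulAut.smul_def]

theorem mem_conj_smul (g x : G) (H : Subgroup G) :
    x ∈ MulAut.conj g • H ↔ g⁻¹ * x * g ∈ H := by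
  rw [Subgroup.mem_pointwise_smul_iff_inv_smul_mem]
  simp [MulAut.smul_def]

/-- Involutions are their own inverses. -/
theorem inv_eq_self_of_orderOf_two {s : G} (hs : orderOf s = 2) : s⁻¹ = s := by
  have h : s ^ 2 = 1 := by rw [← hs]; exact pow_orderOf_eq_one s
  rw [inv_eq_iff_mul_eq_one, ← sq]; exact h

theorem mul_self_of_orderOf_two {s : G} (hs : orderOf s = 2) : s * s = 1 := by
  have h : s ^ 2 = 1 := by rw [← hs]; exact pow_orderOf_eq_one s
  rw [← sq]; exact h

/-- `s` inverts `s * t`. -/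
theorem conj_pow_left {s t : G} (hs : orderOf s = 2) (ht : orderOf t = 2) (k : ℕ) :
    s * (s * t) ^ k * s = (t * s) ^ k := by
  have hss := mul_self_of_orderOf_two hs
  induction k with
  | zero => simp [hss]
  | succ k ih =>
    rw [pow_succ, pow_succ, ← ih]
    simp only [mul_assoc]

theorem ts_eq_inv {s t : G} (hs : orderOf s = 2) (ht : orderOf t = 2) : t * s = (s * t)⁻¹ := by
  rw [mul_inv_rev, inv_eq_self_of_orderOf_two hs, inv_eq_self_of_orderOf_two ht]

/-- Two involutions whose product has odd order are conjugate. -/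
theorem isConj_of_odd {s t : G} (hs : orderOf s = 2) (ht : orderOf t = 2)
    (hodd : Odd (orderOf (s * t))) : IsConj s t := by
  obtain ⟨k, hk⟩ := hodd
  have hss := mul_self_of_orderOf_two hs
  -- r = s * t, r ^ (2k+1) = 1
  set r := s * t with hr
  have hrn : r ^ (2 * k + 1) = 1 := by rw [← hk]; exact pow_orderOf_eq_one r
  -- s r^j = r^{-j} s
  have hinv : ∀ j : ℕ, s * r ^ j = (r ^ j)⁻¹ * s := by
    intro j
    have h1 := conj_pow_left hs ht j
    rw [ts_eq_inv hs ht, ← hr, inv_pow] at h1
    -- s * r^j * s = (r^j)⁻¹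
    calc s * r ^ j = s * r ^ j * (s * s) := by rw [hss, mul_one]
      _ = (s * r ^ j * s) * s := by simp only [mul_assoc]
      _ = (r ^ j)⁻¹ * s := by rw [h1]
  rw [isConj_iff]
  refine ⟨r ^ k, ?_⟩
  have h2 : r ^ k * s = s * (r ^ k)⁻¹ := by
    calc r ^ k * s = r ^ k * (s * r ^ k) * (r ^ k)⁻¹ := by simp [mul_assoc]
      _ = r ^ k * ((r ^ k)⁻¹ * s) * (r ^ k)⁻¹ := by rw [hinv k]
      _ = s * (r ^ k)⁻¹ := by simp
  have h3 : (r ^ k)⁻¹ * (r ^ k)⁻¹ = r := by
    rw [← mul_inv_rev, ← pow_add, inv_eq_iff_mul_eq_one, ← pow_succ]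
    have : k + k + 1 = 2 * k + 1 := by ring
    rw [this]; exact hrn
  rw [h2, mul_assoc, h3, hr, ← mul_assoc, hss, one_mul]

end


/-- Let T be a Sylow 2-subgroup of the finite group G which is not normal and which intersects every other Sylow 2-subgroup trivially. Then G has a single conjugacy class of involutions. -/
theorem result {G : Type*} [Group G] [Finite G] (T : Sylow 2 G) (hnn : ¬ (T : Subgroup G).Normal) (hTI : ∀ g : G, MulAut.conj g • (T : Subgroup G) ≠ T → MulAut.conj g • (T : Subgroup G) ⊓ T = ⊥) (s t : G) (hs : orderOf s = 2) (ht : orderOf t = 2) : IsConj s t := by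
  classical
  -- TI for arbitrary pairs of Sylow 2-subgroups
  have hTI' : ∀ P Q : Sylow 2 G, P ≠ Q → ∀ x : G, x ∈ (P : Subgroup G) → x ∈ (Q : Subgroup G) → x = 1 := by
    intro P Q hPQ x hxP hxQ
    obtain ⟨g₁, rfl⟩ := MulAction.exists_smul_eq G T P
    obtain ⟨g₂, rfl⟩ := MulAction.exists_smul_eq G T Q
    rw [mem_smul_sylow] at hxP hxQ
    have hne : MulAut.conj (g₁⁻¹ * g₂) • (T : Subgroup G) ≠ T := by
      intro h
      apply hPQ
      have h' : (g₁⁻¹ * g₂) • T = T := by
        apply Sylow.ext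
        rw [Sylow.coe_subgroup_smul]; exact h
      calc g₁ • T = g₁ • ((g₁⁻¹ * g₂) • T) := by rw [h']
        _ = g₂ • T := by rw [smul_smul, mul_inv_cancel_left]
    have hbot := hTI _ hne
    have hmem : g₁⁻¹ * x * g₁ ∈ MulAut.conj (g₁⁻¹ * g₂) • (T : Subgroup G) ⊓ T := by
      refine Subgroup.mem_inf.mpr ⟨?_, hxP⟩
      rw [mem_conj_smul]
      have : (g₁⁻¹ * g₂)⁻¹ * (g₁⁻¹ * x * g₁) * (g₁⁻¹ * g₂) = g₂⁻¹ * x * g₂ := by group
      rw [this]; exact hxQ
    rw [hbot, Subgroup.mem_bot] at hmem
    have : x = g₁ * (g₁⁻¹ * x * g₁) * g₁⁻¹ := by group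
    rw [this, hmem]; group
  -- every involution lies in a Sylow 2-subgroup
  have hex : ∀ u : G, orderOf u = 2 → ∃ P : Sylow 2 G, u ∈ (P : Subgroup G) := by
    intro u hu
    have hpg : IsPGroup 2 (Subgroup.zpowers u) := by
      rw [IsPGroup.iff_card, Nat.card_zpowers, hu]
      exact ⟨1, by norm_num⟩
    obtain ⟨P, hP⟩ := hpg.exists_le_sylow
    exact ⟨P, hP (Subgroup.mem_zpowers u)⟩
  -- an involution commuting with an involution of P lies in P
  have hcomm : ∀ (P : Sylow 2 G) (u v : G), orderOf u = 2 → orderOf v = 2 → u ∈ (P : Subgroup G) →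
      Commute u v → v ∈ (P : Subgroup G) := by
    intro P u v hu hv huP huv
    have hvP : v • P = P := by
      by_contra hne
      have hmem : u ∈ ((v • P : Sylow 2 G) : Subgroup G) := by
        rw [mem_smul_sylow]
        have : v⁻¹ * u * v = u := by
          rw [mul_assoc, huv.eq, ← mul_assoc, inv_mul_cancel, one_mul]
        rw [this]; exact huP
      have := hTI' (v • P) P hne u hmem huP
      rw [this, orderOf_one] at hu
      norm_num at hu
    rw [Sylow.smul_eq_iff_mem_normalizer] at hvP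
    have hpg : IsPGroup 2 (Subgroup.zpowers v) := by
      rw [IsPGroup.iff_card, Nat.card_zpowers, hv]
      exact ⟨1, by norm_num⟩
    have h := hpg.inf_normalizer_sylow P
    have hv' : v ∈ Subgroup.zpowers v ⊓ (P : Subgroup G) := by
      rw [← h]
      exact Subgroup.mem_inf.mpr ⟨Subgroup.mem_zpowers v, hvP⟩
    exact (Subgroup.mem_inf.mp hv').2
  -- involutions in different Sylow subgroups are conjugate
  have hdiff : ∀ (P Q : Sylow 2 G) (u v : G), orderOf u = 2 → orderOf v = 2 → u ∈ (P : Subgroup G) →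
      v ∈ (Q : Subgroup G) → P ≠ Q → IsConj u v := by
    intro P Q u v hu hv huP hvQ hPQ
    apply isConj_of_odd hu hv
    rw [← Nat.not_even_iff_odd]
    rintro ⟨m, hm⟩
    have hm' : orderOf (u * v) = 2 * m := by rw [hm]; ring
    -- z = (u v)^m is an involution commuting with u and v
    set z := (u * v) ^ m with hz
    have hm0 : m ≠ 0 := by
      rintro rfl
      rw [mul_zero] at hm'
      have := orderOf_pos (u * v)
      omega
    have hz2 : orderOf z = 2 := by
      rw [hz, orderOf_pow' _ hm0, hm', Nat.gcd_eq_right (dvd_mul_left m 2)]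
      exact Nat.mul_div_cancel _ (Nat.pos_of_ne_zero hm0)
    have hzinv : z⁻¹ = z := inv_eq_self_of_orderOf_two hz2
    have huz : Commute u z := by
      have h1 := conj_pow_left hu hv m
      rw [ts_eq_inv hu hv, inv_pow, ← hz, hzinv] at h1
      -- u * z * u = z
      show u * z = z * u
      calc u * z = u * z * (u * u) := by rw [mul_self_of_orderOf_two hu, mul_one]
        _ = (u * z * u) * u := by simp only [mul_assoc]
        _ = z * u := by rw [h1]
    have hvz : Commute v z := by
      -- v = u * (u * v), both commute with z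
      have h1 : Commute (u * v) z := (Commute.refl (u * v)).pow_right m
      have h2 : v = u * (u * v) := by rw [← mul_assoc, mul_self_of_orderOf_two hu, one_mul]
      rw [h2]
      exact huz.mul_left h1
    have hzP := hcomm P u z hu hz2 huP huz
    have hzQ := hcomm Q v z hv hz2 hvQ hvz
    have := hTI' P Q hPQ z hzP hzQ
    rw [this, orderOf_one] at hz2
    norm_num at hz2
  obtain ⟨P, hsP⟩ := hex s hs
  obtain ⟨Q, htQ⟩ := hex t ht
  by_cases hPQ : P = Q
  · subst hPQ
    -- another Sylow subgroup exists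
    have hexR : ∃ g : G, g • P ≠ P := by
      by_contra hcon
      push Not at hcon
      apply hnn
      obtain ⟨g₀, hg₀⟩ := MulAction.exists_smul_eq G P T
      have hPT : P = T := by rw [← hg₀, hcon]
      rw [← hPT, ← Subgroup.normalizer_eq_top_iff, eq_top_iff]
      intro g _
      exact Sylow.smul_eq_iff_mem_normalizer.mp (hcon g)
    obtain ⟨g, hg⟩ := hexR
    have hu2 : orderOf (g * s * g⁻¹) = 2 := by
      rw [← hs]
      exact (MulAut.conj g).orderOf_eq s
    have huR : g * s * g⁻¹ ∈ ((g • P : Sylow 2 G) : Subgroup G) := by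
      rw [mem_smul_sylow]
      have : g⁻¹ * (g * s * g⁻¹) * g = s := by group
      rw [this]; exact hsP
    have h1 : IsConj s (g * s * g⁻¹) := isConj_iff.mpr ⟨g, rfl⟩
    have h2 : IsConj (g * s * g⁻¹) t := hdiff (g • P) P _ t hu2 ht huR htQ hg
    exact h1.trans h2
  · exact hdiff P Q s t hs ht hsP htQ hPQ

end Cfsg.Agent.S0231
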