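import Cfsg.Statements.S0230
import Cfsg.Agent.S0231

set_option autoImplicit false
open Cfsg

namespace Cfsg.Agent.S0230

section
variable {G : Type*} [Group G]

theorem card_class_mul (t : G) :
    {v : G | IsConj v t}.ncard * Nat.card (Subgroup.centralizer ({t} : Set G)) = Nat.card G := by
  have h1 := MulAction.index_stabilizer (ConjAct G) t
  have h2 := Subgroup.card_mul_index (MulAction.stabilizer (ConjAct G) t)
  rw [h1] at h2
  have h3 : MulAction.orbit (ConjAct G) t = {v : G | IsConj v t} := by
    ext v
    exact ConjAct.mem_orbit_conjAct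
  rw [h3, ConjAct.stabilizer_eq_centralizer] at h2
  rw [mul_comm]
  exact h2

/-- Two non-conjugate involutions commute with a common involution. -/
theorem exists_central_involution [Finite G] {u v : G} (hu : orderOf u = 2) (hv : orderOf v = 2)
    (hnc : ¬ IsConj u v) : ∃ z : G, orderOf z = 2 ∧ Commute u z ∧ Commute v z := by
  have heven : Even (orderOf (u * v)) := by
    rw [← Nat.not_odd_iff_even]
    intro hodd
    exact hnc (Cfsg.Agent.S0231.isConj_of_odd hu hv hodd)
  obtain ⟨m, hm⟩ := heven
  have hm' : orderOf (u * v) = 2 * m := by rw [hm]; ring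
  set z := (u * v) ^ m with hz
  have hm0 : m ≠ 0 := by
    rintro rfl
    rw [mul_zero] at hm'
    have := orderOf_pos (u * v)
    omega
  have hz2 : orderOf z = 2 := by
    rw [hz, orderOf_pow' _ hm0, hm', Nat.gcd_eq_right (dvd_mul_left m 2)]
    exact Nat.mul_div_cancel _ (Nat.pos_of_ne_zero hm0)
  have hzinv : z⁻¹ = z := Cfsg.Agent.S0231.inv_eq_self_of_orderOf_two hz2
  have huz : Commute u z := by
    have h1 := Cfsg.Agent.S0231.conj_pow_left hu hv m
    rw [Cfsg.Agent.S0231.ts_eq_inv hu hv, inv_pow, ← hz, hzinv] at h1
    show u * z = z * u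
    calc u * z = u * z * (u * u) := by rw [Cfsg.Agent.S0231.mul_self_of_orderOf_two hu, mul_one]
      _ = (u * z * u) * u := by simp only [mul_assoc]
      _ = z * u := by rw [h1]
  have hvz : Commute v z := by
    have h1 : Commute (u * v) z := (Commute.refl (u * v)).pow_right m
    have h2 : v = u * (u * v) := by
      rw [← mul_assoc, Cfsg.Agent.S0231.mul_self_of_orderOf_two hu, one_mul]
    rw [h2]
    exact huz.mul_left h1
  exact ⟨z, hz2, huz, hvz⟩

end


/-- Let G be a finite group with two non-conjugate involutions, and let t be an involution whose centralizer has maximal order among centralizers of involutions. Then |G| < |C_G(t)|^3. -/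
theorem result {G : Type*} [Group G] [Finite G] (s t : G) (hs : orderOf s = 2) (ht : orderOf t = 2) (hnc : ¬ IsConj s t) (hmax : ∀ u : G, orderOf u = 2 → Nat.card (Subgroup.centralizer ({u} : Set G)) ≤ Nat.card (Subgroup.centralizer ({t} : Set G))) : Nat.card G < Nat.card (Subgroup.centralizer ({t} : Set G)) ^ 3 := by
  classical
  have : Fintype G := Fintype.ofFinite G
  set c := Nat.card (Subgroup.centralizer ({t} : Set G)) with hc
  have hcpos : 0 < c := Nat.card_pos
  -- cardinality of centralizers as filters
  have hcent : ∀ z : G, (Finset.univ.filter (fun v : G => Commute z v)).card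
      = Nat.card (Subgroup.centralizer ({z} : Set G)) := by
    intro z
    rw [Nat.card_eq_fintype_card, Fintype.card_subtype]
    congr 1
    ext v
    simp only [Finset.mem_filter, Finset.mem_univ, true_and, Subgroup.mem_centralizer_iff,
      Set.mem_singleton_iff, forall_eq]
    exact ⟨fun h => h.eq, fun h => h⟩
  let Bf : Finset G := Finset.univ.filter (fun v : G => IsConj v t)
  let Zf : Finset G := Finset.univ.filter (fun z : G => orderOf z = 2 ∧ Commute s z)
  have hBcard : Bf.card * c = Nat.card G := by
    rw [← card_class_mul t]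
    congr 1
    rw [Set.ncard_eq_toFinset_card']
    congr 1
    ext v
    simp [Bf]
  have hsub : Bf ⊆ Zf.biUnion (fun z => Finset.univ.filter (fun v : G => Commute z v)) := by
    intro v hv
    have hvt : IsConj v t := (Finset.mem_filter.mp hv).2
    have hv2 : orderOf v = 2 := by
      obtain ⟨g, hg⟩ := isConj_iff.mp hvt
      rw [← ht, ← hg]
      exact ((MulAut.conj g).orderOf_eq v).symm
    have hnc' : ¬ IsConj s v := fun h => hnc (h.trans hvt)
    obtain ⟨z, hz2, hsz, hvz⟩ := exists_central_involution hs hv2 hnc'
    rw [Finset.mem_biUnion]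
    refine ⟨z, ?_, ?_⟩
    · simp only [Zf, Finset.mem_filter, Finset.mem_univ, true_and]
      exact ⟨hz2, hsz⟩
    · simp only [Finset.mem_filter, Finset.mem_univ, true_and]
      exact hvz.symm
  have h1 : Bf.card ≤ ∑ z ∈ Zf, (Finset.univ.filter (fun v : G => Commute z v)).card :=
    (Finset.card_le_card hsub).trans Finset.card_biUnion_le
  have h2 : ∑ z ∈ Zf, (Finset.univ.filter (fun v : G => Commute z v)).card ≤ Zf.card * c := by
    rw [← smul_eq_mul, ← Finset.sum_const]
    apply Finset.sum_le_sum
    intro z hz
    rw [hcent]
    exact hmax z (Finset.mem_filter.mp hz).2.1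
  have h3 : Zf.card + 1 ≤ c := by
    have hsub2 : insert (1 : G) Zf ⊆ Finset.univ.filter (fun v : G => Commute s v) := by
      intro z hz
      rw [Finset.mem_insert] at hz
      simp only [Finset.mem_filter, Finset.mem_univ, true_and]
      rcases hz with rfl | hz
      · exact Commute.one_right s
      · exact (Finset.mem_filter.mp hz).2.2
    have h1notin : (1 : G) ∉ Zf := by
      simp only [Zf, Finset.mem_filter, Finset.mem_univ, true_and, orderOf_one, not_and]
      intro h; norm_num at h
    have := Finset.card_le_card hsub2
    rw [Finset.card_insert_of_notMem h1notin, hcent] at this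
    exact this.trans (hmax s hs)
  -- conclude
  have h4 : Bf.card ≤ Zf.card * c := h1.trans h2
  have h5 : Nat.card G ≤ Zf.card * c * c := by
    rw [← hBcard]
    exact Nat.mul_le_mul_right c h4
  have h6 : Zf.card * c * c < c ^ 3 := by
    have : Zf.card < c := by omega
    calc Zf.card * c * c < c * c * c := by
          apply Nat.mul_lt_mul_of_pos_right _ hcpos
          exact Nat.mul_lt_mul_of_pos_right this hcpos
      _ = c ^ 3 := by ring
  exact lt_of_le_of_lt h5 h6

end Cfsg.Agent.S0230
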