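import Cfsg.Statements.S0213
import Cfsg.Agent.S0230

set_option autoImplicit false
open Cfsg

namespace Cfsg.Agent.S0213

section
variable {G : Type*} [Group G]

theorem unique_involution_zpowers [Finite G] (r z z' : G) (hz : z ∈ Subgroup.zpowers r)
    (hz' : z' ∈ Subgroup.zpowers r) (h2 : orderOf z = 2) (h2' : orderOf z' = 2) : z = z' := by
  classical
  have : Fintype (Subgroup.zpowers r) := Fintype.ofFinite _
  have ha : orderOf (⟨z, hz⟩ : Subgroup.zpowers r) = 2 := by
    rw [← h2]; exact Subgroup.orderOf_mk z hz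
  have hb : orderOf (⟨z', hz'⟩ : Subgroup.zpowers r) = 2 := by
    rw [← h2']; exact Subgroup.orderOf_mk z' hz'
  have hdvd : 2 ∣ Fintype.card (Subgroup.zpowers r) := by
    rw [← ha]; exact orderOf_dvd_card
  have hcard := IsCyclic.card_orderOf_eq_totient (α := Subgroup.zpowers r) hdvd
  rw [Nat.totient_two] at hcard
  have hle : (Finset.univ.filter (fun a : Subgroup.zpowers r => orderOf a = 2)).card ≤ 1 := hcard.le
  rw [Finset.card_le_one] at hle
  have := hle ⟨z, hz⟩ (by simp [ha]) ⟨z', hz'⟩ (by simp [hb])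
  exact congrArg Subtype.val this

theorem orderOf_of_isConj {x y : G} (h : IsConj x y) : orderOf y = orderOf x := by
  obtain ⟨g, hg⟩ := isConj_iff.mp h
  rw [← hg]
  exact (MulAut.conj g).orderOf_eq x

open scoped Classical in
/-- The pairs `(u, v)` with `u ~ x₁`, `v ~ x₂` and `z ∈ ⟨uv⟩`. -/
noncomputable def fib [Fintype G] (x₁ x₂ z : G) : Finset (G × G) :=
  Finset.univ.filter (fun p : G × G => IsConj x₁ p.1 ∧ IsConj x₂ p.2 ∧ z ∈ Subgroup.zpowers (p.1 * p.2))

theorem fib_card_le [Fintype G] (x₁ x₂ z g : G) :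
    (fib x₁ x₂ z).card ≤ (fib x₁ x₂ (g * z * g⁻¹)).card := by
  classical
  apply Finset.card_le_card_of_injOn (fun p : G × G => (g * p.1 * g⁻¹, g * p.2 * g⁻¹))
  · intro p hp
    simp only [fib, Finset.coe_filter, Finset.mem_univ, true_and, Set.mem_ofPred_eq] at hp ⊢
    obtain ⟨h1, h2, h3⟩ := hp
    refine ⟨h1.trans (isConj_iff.mpr ⟨g, rfl⟩), h2.trans (isConj_iff.mpr ⟨g, rfl⟩), ?_⟩
    obtain ⟨k, hk⟩ := h3
    refine ⟨k, ?_⟩
    simp only
    have : g * p.1 * g⁻¹ * (g * p.2 * g⁻¹) = g * (p.1 * p.2) * g⁻¹ := by group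
    have hk' : (p.1 * p.2) ^ k = z := hk
    show (g * p.1 * g⁻¹ * (g * p.2 * g⁻¹)) ^ k = g * z * g⁻¹
    rw [this, conj_zpow, hk']
  · intro p _ q _ hpq
    simp only [Prod.mk.injEq] at hpq
    have e1 : p.1 = q.1 := by
      have := hpq.1
      exact mul_left_cancel (mul_right_cancel this)
    have e2 : p.2 = q.2 := by
      have := hpq.2
      exact mul_left_cancel (mul_right_cancel this)
    exact Prod.ext e1 e2

theorem fib_card_conj [Fintype G] (x₁ x₂ z g : G) :
    (fib x₁ x₂ (g * z * g⁻¹)).card = (fib x₁ x₂ z).card := by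
  apply le_antisymm
  · have := fib_card_le x₁ x₂ (g * z * g⁻¹) g⁻¹
    have e : g⁻¹ * (g * z * g⁻¹) * g⁻¹⁻¹ = z := by group
    rwa [e] at this
  · exact fib_card_le x₁ x₂ z g

end


/-- Thompson Order Formula, two-class case: if every involution of the finite group G is conjugate to exactly one of the non-conjugate involutions x₁, x₂, and nᵢ is the number of pairs (u, v) with u conjugate to x₁, v conjugate to x₂ and xᵢ in the cyclic group generated by uv, then |G| = |C(x₂)| n₁ + |C(x₁)| n₂. -/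
theorem result {G : Type*} [Group G] [Finite G] (x₁ x₂ : G) (h₁ : orderOf x₁ = 2) (h₂ : orderOf x₂ = 2) (hnc : ¬ IsConj x₁ x₂) (hall : ∀ t : G, orderOf t = 2 → IsConj x₁ t ∨ IsConj x₂ t) : Nat.card G = Nat.card (Subgroup.centralizer ({x₂} : Set G)) * Nat.card {p : G × G // IsConj x₁ p.1 ∧ IsConj x₂ p.2 ∧ x₁ ∈ Subgroup.zpowers (p.1 * p.2)} + Nat.card (Subgroup.centralizer ({x₁} : Set G)) * Nat.card {p : G × G // IsConj x₁ p.1 ∧ IsConj x₂ p.2 ∧ x₂ ∈ Subgroup.zpowers (p.1 * p.2)} := by
  classical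
  have : Fintype G := Fintype.ofFinite G
  set c₁ := Nat.card (Subgroup.centralizer ({x₁} : Set G)) with hc₁
  set c₂ := Nat.card (Subgroup.centralizer ({x₂} : Set G)) with hc₂
  let A : Finset G := Finset.univ.filter (fun v : G => IsConj x₁ v)
  let B : Finset G := Finset.univ.filter (fun v : G => IsConj x₂ v)
  have hA : A.card * c₁ = Nat.card G := by
    rw [← Cfsg.Agent.S0230.card_class_mul x₁]
    congr 1
    rw [Set.ncard_eq_toFinset_card']
    congr 1
    ext v
    simp only [Set.mem_toFinset, Set.mem_ofPred_eq, A, Finset.mem_filter, Finset.mem_univ, true_and]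
    exact isConj_comm
  have hB : B.card * c₂ = Nat.card G := by
    rw [← Cfsg.Agent.S0230.card_class_mul x₂]
    congr 1
    rw [Set.ncard_eq_toFinset_card']
    congr 1
    ext v
    simp only [Set.mem_toFinset, Set.mem_ofPred_eq, B, Finset.mem_filter, Finset.mem_univ, true_and]
    exact isConj_comm
  -- the counts n₁, n₂
  have hn₁ : Nat.card {p : G × G // IsConj x₁ p.1 ∧ IsConj x₂ p.2 ∧ x₁ ∈ Subgroup.zpowers (p.1 * p.2)}
      = (fib x₁ x₂ x₁).card := by
    rw [Nat.card_eq_fintype_card, Fintype.card_subtype]; rfl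
  have hn₂ : Nat.card {p : G × G // IsConj x₁ p.1 ∧ IsConj x₂ p.2 ∧ x₂ ∈ Subgroup.zpowers (p.1 * p.2)}
      = (fib x₁ x₂ x₂).card := by
    rw [Nat.card_eq_fintype_card, Fintype.card_subtype]; rfl
  rw [hn₁, hn₂]
  -- A and B are disjoint
  have hdisj : Disjoint A B := by
    rw [Finset.disjoint_left]
    intro v hvA hvB
    have h1 : IsConj x₁ v := (Finset.mem_filter.mp hvA).2
    have h2 : IsConj x₂ v := (Finset.mem_filter.mp hvB).2
    exact hnc (h1.trans h2.symm)
  have hinv : ∀ z ∈ A ∪ B, orderOf z = 2 := by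
    intro z hz
    rcases Finset.mem_union.mp hz with h | h
    · rw [orderOf_of_isConj (Finset.mem_filter.mp h).2, h₁]
    · rw [orderOf_of_isConj (Finset.mem_filter.mp h).2, h₂]
  -- the partition of A × B
  have hpart : A ×ˢ B = (A ∪ B).biUnion (fun z => fib x₁ x₂ z) := by
    ext p
    simp only [Finset.mem_product, Finset.mem_biUnion]
    constructor
    · rintro ⟨hpA, hpB⟩
      have h1 : IsConj x₁ p.1 := (Finset.mem_filter.mp hpA).2
      have h2 : IsConj x₂ p.2 := (Finset.mem_filter.mp hpB).2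
      have ho1 : orderOf p.1 = 2 := by rw [orderOf_of_isConj h1, h₁]
      have ho2 : orderOf p.2 = 2 := by rw [orderOf_of_isConj h2, h₂]
      have hnc' : ¬ IsConj p.1 p.2 := fun h => hnc ((h1.trans h).trans h2.symm)
      -- the involution in ⟨p.1 p.2⟩
      have heven : Even (orderOf (p.1 * p.2)) := by
        rw [← Nat.not_odd_iff_even]
        intro hodd
        exact hnc' (Cfsg.Agent.S0231.isConj_of_odd ho1 ho2 hodd)
      obtain ⟨m, hm⟩ := heven
      have hm' : orderOf (p.1 * p.2) = 2 * m := by rw [hm]; ring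
      have hm0 : m ≠ 0 := by
        rintro rfl
        rw [mul_zero] at hm'
        have := orderOf_pos (p.1 * p.2)
        omega
      have hz2 : orderOf ((p.1 * p.2) ^ m) = 2 := by
        rw [orderOf_pow' _ hm0, hm', Nat.gcd_eq_right (dvd_mul_left m 2)]
        exact Nat.mul_div_cancel _ (Nat.pos_of_ne_zero hm0)
      refine ⟨(p.1 * p.2) ^ m, ?_, ?_⟩
      · rw [Finset.mem_union]
        rcases hall _ hz2 with h | h
        · left; exact Finset.mem_filter.mpr ⟨Finset.mem_univ _, h⟩
        · right; exact Finset.mem_filter.mpr ⟨Finset.mem_univ _, h⟩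
      · simp only [fib, Finset.mem_filter, Finset.mem_univ, true_and]
        exact ⟨h1, h2, Subgroup.pow_mem _ (Subgroup.mem_zpowers _) m⟩
    · rintro ⟨z, -, hz⟩
      simp only [fib, Finset.mem_filter, Finset.mem_univ, true_and] at hz
      exact ⟨Finset.mem_filter.mpr ⟨Finset.mem_univ _, hz.1⟩,
        Finset.mem_filter.mpr ⟨Finset.mem_univ _, hz.2.1⟩⟩
  have hpd : ((A ∪ B : Finset G) : Set G).PairwiseDisjoint (fun z => fib x₁ x₂ z) := by
    intro z hz z' hz' hne
    rw [Function.onFun, Finset.disjoint_left]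
    intro p hp hp'
    simp only [fib, Finset.mem_filter, Finset.mem_univ, true_and] at hp hp'
    exact hne (unique_involution_zpowers (p.1 * p.2) z z' hp.2.2 hp'.2.2 (hinv z hz) (hinv z' hz'))
  have hcount : A.card * B.card = A.card * (fib x₁ x₂ x₁).card + B.card * (fib x₁ x₂ x₂).card := by
    rw [← Finset.card_product, hpart, Finset.card_biUnion hpd, Finset.sum_union hdisj]
    congr 1
    · rw [← smul_eq_mul, ← Finset.sum_const]
      apply Finset.sum_congr rfl
      intro z hz
      obtain ⟨g, hg⟩ := isConj_iff.mp (Finset.mem_filter.mp hz).2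
      rw [← hg, fib_card_conj]
    · rw [← smul_eq_mul, ← Finset.sum_const]
      apply Finset.sum_congr rfl
      intro z hz
      obtain ⟨g, hg⟩ := isConj_iff.mp (Finset.mem_filter.mp hz).2
      rw [← hg, fib_card_conj]
  -- arithmetic
  have hGpos : 0 < Nat.card G := Nat.card_pos
  set n₁ := (fib x₁ x₂ x₁).card
  set n₂ := (fib x₁ x₂ x₂).card
  have key : Nat.card G * Nat.card G = Nat.card G * (c₂ * n₁ + c₁ * n₂) := by
    calc Nat.card G * Nat.card G = (A.card * c₁) * (B.card * c₂) := by rw [hA, hB]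
      _ = (A.card * B.card) * (c₁ * c₂) := by ring
      _ = (A.card * n₁ + B.card * n₂) * (c₁ * c₂) := by rw [hcount]
      _ = (A.card * c₁) * (c₂ * n₁) + (B.card * c₂) * (c₁ * n₂) := by ring
      _ = Nat.card G * (c₂ * n₁ + c₁ * n₂) := by rw [hA, hB]; ring
  exact Nat.eq_of_mul_eq_mul_left hGpos key

end Cfsg.Agent.S0213
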