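import Mathlib
import Cfsg.Statements.S0214
import Cfsg.Agent.S0231

set_option autoImplicit false
open Cfsg

namespace Cfsg.Agent.S0214


section
variable {G : Type*} [Group G]

/-- `T` is (the image of) a Sylow 2-subgroup of `K`, phrased inside `G`. -/
def IsSyl (K T : Subgroup G) : Prop :=
  T ≤ K ∧ IsPGroup 2 T ∧ ∀ Q : Subgroup G, IsPGroup 2 Q → T ≤ Q → Q ≤ K → Q = T

theorem mem_map_conj (g x : G) (K : Subgroup G) :
    x ∈ K.map (MulAut.conj g).toMonoidHom ↔ g⁻¹ * x * g ∈ K := by
  constructor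
  · rintro ⟨y, hy, rfl⟩
    have : g⁻¹ * ((MulAut.conj g).toMonoidHom y) * g = y := by simp [MulAut.conj_apply]; group
    rw [this]; exact hy
  · intro h
    refine ⟨g⁻¹ * x * g, h, ?_⟩
    simp [MulAut.conj_apply]; group

theorem isSyl_of_sylow (H : Subgroup G) (P : Sylow 2 ↥H) : IsSyl H ((P : Subgroup ↥H).map H.subtype) := by
  refine ⟨Subgroup.map_subtype_le _, P.isPGroup'.map H.subtype, ?_⟩
  intro Q hQ hPQ hQH
  have h1 : IsPGroup 2 (Q.subgroupOf H) := hQ.comap_subtype
  have h2 : (P : Subgroup ↥H) ≤ Q.subgroupOf H := by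
    intro x hx
    rw [Subgroup.mem_subgroupOf]
    exact hPQ ⟨x, hx, rfl⟩
  have h3 := P.is_maximal' h1 h2
  rw [← h3, Subgroup.map_subgroupOf_eq_of_le hQH]

theorem exists_sylow_of_isSyl {K T : Subgroup G} (h : IsSyl K T) :
    ∃ P : Sylow 2 ↥K, (P : Subgroup ↥K).map K.subtype = T := by
  obtain ⟨hTK, hT, hmax⟩ := h
  refine ⟨⟨T.subgroupOf K, hT.comap_subtype, ?_⟩, Subgroup.map_subgroupOf_eq_of_le hTK⟩
  intro Q' hQ' hTQ'
  have h1 : IsPGroup 2 (Q'.map K.subtype) := hQ'.map _
  have h2 : T ≤ Q'.map K.subtype := by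
    intro x hx
    exact ⟨⟨x, hTK hx⟩, hTQ' (by rw [Subgroup.mem_subgroupOf]; exact hx), rfl⟩
  have h3 := hmax _ h1 h2 (Subgroup.map_subtype_le _)
  show Q' = T.subgroupOf K
  rw [← h3]
  exact (Subgroup.comap_map_eq_self_of_injective K.subtype_injective Q').symm

theorem isSyl_conj {K T T₂ : Subgroup G} [Finite G] (h : IsSyl K T) (h₂ : IsSyl K T₂) :
    ∃ k ∈ K, T₂ = T.map (MulAut.conj k).toMonoidHom := by
  obtain ⟨P, rfl⟩ := exists_sylow_of_isSyl h
  obtain ⟨P₂, rfl⟩ := exists_sylow_of_isSyl h₂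
  obtain ⟨k, rfl⟩ := MulAction.exists_smul_eq ↥K P P₂
  refine ⟨k, k.2, ?_⟩
  ext x
  rw [mem_map_conj]
  constructor
  · rintro ⟨y, hy, rfl⟩
    have h1 := (Cfsg.Agent.S0231.mem_smul_sylow k y P).mp hy
    exact ⟨k⁻¹ * y * k, h1, rfl⟩
  · rintro ⟨y, hy, hyx⟩
    have hyx' : (y : G) = (k : G)⁻¹ * x * k := hyx
    have hx : x = (k : G) * y * (k : G)⁻¹ := by rw [hyx']; group
    refine ⟨k * y * k⁻¹, ?_, ?_⟩
    · rw [SetLike.mem_coe, Cfsg.Agent.S0231.mem_smul_sylow]
      have : k⁻¹ * (k * y * k⁻¹) * k = y := by group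
      rw [this]; exact hy
    · rw [hx]; rfl

theorem map_conj_le_iff (g : G) (A B : Subgroup G) :
    A.map (MulAut.conj g).toMonoidHom ≤ B ↔ ∀ x ∈ A, g * x * g⁻¹ ∈ B := by
  constructor
  · intro h x hx
    exact h ⟨x, hx, by simp [MulAut.conj_apply]⟩
  · rintro h _ ⟨x, hx, rfl⟩
    simpa [MulAut.conj_apply] using h x hx

theorem map_conj_map_conj (g h : G) (A : Subgroup G) :
    (A.map (MulAut.conj h).toMonoidHom).map (MulAut.conj g).toMonoidHom
      = A.map (MulAut.conj (g * h)).toMonoidHom := by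
  ext x
  simp only [mem_map_conj]
  have : h⁻¹ * (g⁻¹ * x * g) * h = (g * h)⁻¹ * x * (g * h) := by group
  rw [this]

theorem map_conj_one (A : Subgroup G) : A.map (MulAut.conj (1 : G)).toMonoidHom = A := by
  ext x
  simp [mem_map_conj]

theorem map_conj_self_of_mem {K : Subgroup G} {k : G} (hk : k ∈ K) :
    K.map (MulAut.conj k).toMonoidHom = K := by
  ext x
  rw [mem_map_conj]
  constructor
  · intro h
    have : x = k * (k⁻¹ * x * k) * k⁻¹ := by group
    rw [this]
    exact K.mul_mem (K.mul_mem hk h) (K.inv_mem hk)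
  · intro h
    exact K.mul_mem (K.mul_mem (K.inv_mem hk) h) hk

/-- Any 2-subgroup of `K` is `K`-conjugate into a given Sylow 2-subgroup of `K`. -/
theorem exists_conj_le [Finite G] {K T : Subgroup G} (h : IsSyl K T) {Q : Subgroup G} (hQ : IsPGroup 2 Q)
    (hQK : Q ≤ K) : ∃ k ∈ K, Q.map (MulAut.conj k).toMonoidHom ≤ T := by
  have h1 : IsPGroup 2 (Q.subgroupOf K) := hQ.comap_subtype
  obtain ⟨R, hR⟩ := h1.exists_le_sylow
  obtain ⟨k, hk, hkT⟩ := isSyl_conj (isSyl_of_sylow K R) h
  refine ⟨k, hk, ?_⟩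
  rw [hkT]
  apply Subgroup.map_mono
  intro x hx
  exact ⟨⟨x, hQK hx⟩, hR (by rw [Subgroup.mem_subgroupOf]; exact hx), rfl⟩

/-- Transport of `IsSyl` by conjugation. -/
theorem isSyl_map_conj {K T : Subgroup G} (h : IsSyl K T) (g : G) :
    IsSyl (K.map (MulAut.conj g).toMonoidHom) (T.map (MulAut.conj g).toMonoidHom) := by
  obtain ⟨hTK, hT, hmax⟩ := h
  refine ⟨Subgroup.map_mono hTK, hT.map _, ?_⟩
  intro Q hQ hTQ hQK
  have h1 : IsPGroup 2 (Q.map (MulAut.conj g⁻¹).toMonoidHom) := hQ.map _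
  have h2 : T ≤ Q.map (MulAut.conj g⁻¹).toMonoidHom := by
    have := Subgroup.map_mono (f := (MulAut.conj g⁻¹).toMonoidHom) hTQ
    rwa [map_conj_map_conj, inv_mul_cancel, map_conj_one] at this
  have h3 : Q.map (MulAut.conj g⁻¹).toMonoidHom ≤ K := by
    have := Subgroup.map_mono (f := (MulAut.conj g⁻¹).toMonoidHom) hQK
    rwa [map_conj_map_conj, inv_mul_cancel, map_conj_one] at this
  have h4 := hmax _ h1 h2 h3
  rw [← h4, map_conj_map_conj, mul_inv_cancel, map_conj_one]

/-- If a Sylow 2-subgroup `T` of `D ≤ H` has `N_G(T) ≤ D`, then `T` is a Sylow 2-subgroup of `H`. -/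
theorem isSyl_of_normalizer_le [Finite G] {D H T : Subgroup G} (hDH : D ≤ H) (h : IsSyl D T)
    (hN : Subgroup.normalizer (T : Set G) ≤ D) : IsSyl H T := by
  obtain ⟨hTD, hT, hmax⟩ := h
  refine ⟨hTD.trans hDH, hT, ?_⟩
  intro Q hQ hTQ hQH
  by_contra hne
  have hlt : T.subgroupOf Q < ⊤ := by
    rw [lt_top_iff_ne_top]
    intro h
    apply hne
    apply le_antisymm _ hTQ
    intro x hx
    have : (⟨x, hx⟩ : Q) ∈ T.subgroupOf Q := by rw [h]; trivial
    exact this
  have hnil : Group.IsNilpotent Q := hQ.isNilpotent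
  have hnc := Group.normalizerCondition_of_isNilpotent (G := Q) _ hlt
  obtain ⟨q, hqN, hqT⟩ := SetLike.exists_of_lt hnc
  -- q normalizes T in G
  have hqNG : (q : G) ∈ Subgroup.normalizer (T : Set G) := by
    rw [Subgroup.mem_set_normalizer_iff]
    intro x
    have hq := Subgroup.mem_set_normalizer_iff.mp hqN
    constructor
    · intro hx
      have := (hq ⟨x, hTQ hx⟩).mp (by rw [SetLike.mem_coe, Subgroup.mem_subgroupOf]; exact hx)
      rw [SetLike.mem_coe, Subgroup.mem_subgroupOf] at this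
      exact this
    · intro hx
      have hxQ : x ∈ Q := by
        have h1 : (q : G) * x * (q : G)⁻¹ ∈ Q := hTQ hx
        have : x = (q : G)⁻¹ * ((q : G) * x * (q : G)⁻¹) * (q : G) := by group
        rw [this]
        exact Q.mul_mem (Q.mul_mem (Q.inv_mem q.2) h1) q.2
      have := (hq ⟨x, hxQ⟩).mpr (by rw [SetLike.mem_coe, Subgroup.mem_subgroupOf]; exact hx)
      rw [SetLike.mem_coe, Subgroup.mem_subgroupOf] at this
      exact this
  have hqD : (q : G) ∈ D := hN hqNG
  -- the subgroup generated by T and q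
  have h1 : IsPGroup 2 (T ⊔ Subgroup.zpowers (q : G) : Subgroup G) := by
    apply hQ.to_le
    exact sup_le hTQ (Subgroup.zpowers_le.mpr q.2)
  have h2 := hmax _ h1 le_sup_left (sup_le hTD (Subgroup.zpowers_le.mpr hqD))
  apply hqT
  rw [Subgroup.mem_subgroupOf, ← h2]
  exact Subgroup.mem_sup_right (Subgroup.mem_zpowers _)

end


/-- Let H be a proper subgroup of the finite group G and P a nontrivial Sylow 2-subgroup of H. Then H is strongly embedded in G if and only if N_G(X) ≤ H for every nontrivial subgroup X of P. -/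
theorem result {G : Type*} [Group G] [Finite G] (H : Subgroup G) (hH : H ≠ ⊤) (P : Sylow 2 ↥H) (hP : (P : Subgroup ↥H) ≠ ⊥) : Cfsg.IsStronglyEmbedded H ↔ (∀ X : Subgroup ↥H, X ≤ (P : Subgroup ↥H) → X ≠ ⊥ → Subgroup.normalizer ((X.map H.subtype : Subgroup G) : Set G) ≤ H) := by
  classical
  have hP' := isSyl_of_sylow H P
  constructor
  · -- strongly embedded implies the normalizer condition
    rintro ⟨-, -, hodd⟩ X hXP hX n hn
    by_contra hnH
    have hodd' := hodd n hnH
    have hle : X.map H.subtype ≤ H ⊓ H.map (MulAut.conj n).toMonoidHom := by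
      apply le_inf (Subgroup.map_subtype_le _)
      intro x hx
      rw [mem_map_conj]
      have hn' : n⁻¹ ∈ Subgroup.normalizer ((X.map H.subtype : Subgroup G) : Set G) := inv_mem hn
      have := (Subgroup.mem_set_normalizer_iff.mp hn' x).mp hx
      rw [inv_inv] at this
      exact Subgroup.map_subtype_le _ this
    have hX2 : IsPGroup 2 (X.map H.subtype) := (P.isPGroup'.to_le hXP).map _
    have hXne : X.map H.subtype ≠ ⊥ := by
      rw [Ne, Subgroup.map_eq_bot_iff_of_injective _ H.subtype_injective]; exact hX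
    have heven : 2 ∣ Nat.card (X.map H.subtype) := by
      obtain ⟨k, hk⟩ := IsPGroup.iff_card.mp hX2
      have hk0 : k ≠ 0 := by
        rintro rfl
        rw [pow_zero] at hk
        exact hXne (Subgroup.card_eq_one.mp hk)
      rw [hk]; exact dvd_pow_self 2 hk0
    have hdvd := Subgroup.card_dvd_of_le hle
    have h2 : 2 ∣ Nat.card ↥(H ⊓ H.map (MulAut.conj n).toMonoidHom) := heven.trans hdvd
    exact (Nat.not_even_iff_odd.mpr hodd') (even_iff_two_dvd.mpr h2)
  · intro hN
    -- normalizers of all non-trivial 2-subgroups of H lie in H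
    have hN' : ∀ Q : Subgroup G, Q ≤ H → IsPGroup 2 Q → Q ≠ ⊥ →
        Subgroup.normalizer (Q : Set G) ≤ H := by
      intro Q hQH hQ hQne n hn
      obtain ⟨h, hh, hle⟩ := exists_conj_le hP' hQ hQH
      set Qh := Q.map (MulAut.conj h).toMonoidHom with hQh
      have hQhH : Qh ≤ H := hle.trans (Subgroup.map_subtype_le _)
      have hXP : Qh.subgroupOf H ≤ P := by
        intro x hx
        rw [Subgroup.mem_subgroupOf] at hx
        obtain ⟨y, hy, hyx⟩ := hle hx
        have : y = x := Subtype.ext hyx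
        rwa [← this]
      have hXne : Qh.subgroupOf H ≠ ⊥ := by
        intro hbot
        apply hQne
        have h1 : Qh = ⊥ := by
          rw [← Subgroup.map_subgroupOf_eq_of_le hQhH, hbot, Subgroup.map_bot]
        rw [hQh, Subgroup.map_eq_bot_iff_of_injective _ (MulAut.conj h).injective] at h1
        exact h1
      have h2 := hN _ hXP hXne
      rw [Subgroup.map_subgroupOf_eq_of_le hQhH] at h2
      have h3 : h * n * h⁻¹ ∈ Subgroup.normalizer (Qh : Set G) := by
        rw [Subgroup.mem_set_normalizer_iff]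
        intro x
        rw [SetLike.mem_coe, SetLike.mem_coe, hQh, mem_map_conj, mem_map_conj]
        have hn' := Subgroup.mem_set_normalizer_iff.mp hn (h⁻¹ * x * h)
        rw [SetLike.mem_coe, SetLike.mem_coe] at hn'
        rw [hn']
        have : h⁻¹ * (h * n * h⁻¹ * x * (h * n * h⁻¹)⁻¹) * h = n * (h⁻¹ * x * h) * n⁻¹ := by group
        rw [this]
      have h4 := h2 h3
      have : n = h⁻¹ * (h * n * h⁻¹) * h := by group
      rw [this]
      exact H.mul_mem (H.mul_mem (H.inv_mem hh) h4) hh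
    refine ⟨hH, ?_, ?_⟩
    · have h2 : 2 ∣ Nat.card (P : Subgroup ↥H) := by
        obtain ⟨k, hk⟩ := IsPGroup.iff_card.mp P.isPGroup'
        have hk0 : k ≠ 0 := by
          rintro rfl
          rw [pow_zero] at hk
          exact hP (Subgroup.card_eq_one.mp hk)
        rw [hk]; exact dvd_pow_self 2 hk0
      have := Subgroup.card_subgroup_dvd_card (P : Subgroup ↥H)
      exact even_iff_two_dvd.mpr (h2.trans this)
    · intro g hg
      rw [← Nat.not_even_iff_odd]
      intro heven
      set D := H ⊓ H.map (MulAut.conj g).toMonoidHom with hD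
      let T₀ : Sylow 2 ↥D := default
      have hT := isSyl_of_sylow D T₀
      set T := (T₀ : Subgroup ↥D).map D.subtype with hTdef
      have hTne : T ≠ ⊥ := by
        have h2 : 2 ∣ Nat.card ↥D := even_iff_two_dvd.mp heven
        have := T₀.ne_bot_of_dvd_card h2
        rw [hTdef, Ne, Subgroup.map_eq_bot_iff_of_injective _ D.subtype_injective]; exact this
      have hTD : T ≤ D := hT.1
      have hTH : T ≤ H := hTD.trans inf_le_left
      have hTHg : T ≤ H.map (MulAut.conj g).toMonoidHom := hTD.trans inf_le_right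
      have hNT1 : Subgroup.normalizer (T : Set G) ≤ H := hN' T hTH hT.2.1 hTne
      set T₁ := T.map (MulAut.conj g⁻¹).toMonoidHom with hT₁
      have hT₁H : T₁ ≤ H := by
        have := Subgroup.map_mono (f := (MulAut.conj g⁻¹).toMonoidHom) hTHg
        rwa [map_conj_map_conj, inv_mul_cancel, map_conj_one] at this
      have hT₁ne : T₁ ≠ ⊥ := by
        rw [hT₁, Ne, Subgroup.map_eq_bot_iff_of_injective _ (MulAut.conj g⁻¹).injective]; exact hTne
      have hNT₁ : Subgroup.normalizer (T₁ : Set G) ≤ H := hN' T₁ hT₁H (hT.2.1.map _) hT₁ne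
      have hNT2 : Subgroup.normalizer (T : Set G) ≤ H.map (MulAut.conj g).toMonoidHom := by
        intro n hn
        rw [mem_map_conj]
        apply hNT₁
        rw [Subgroup.mem_set_normalizer_iff]
        intro x
        rw [SetLike.mem_coe, SetLike.mem_coe, hT₁, mem_map_conj, mem_map_conj]
        simp only [inv_inv]
        have hn' := Subgroup.mem_set_normalizer_iff.mp hn (g * x * g⁻¹)
        rw [SetLike.mem_coe, SetLike.mem_coe] at hn'
        rw [hn']
        have : g * (g⁻¹ * n * g * x * (g⁻¹ * n * g)⁻¹) * g⁻¹ = n * (g * x * g⁻¹) * n⁻¹ := by group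
        rw [this]
      have hND : Subgroup.normalizer (T : Set G) ≤ D := le_inf hNT1 hNT2
      have hS1 : IsSyl H T := isSyl_of_normalizer_le inf_le_left hT hND
      have hS2 : IsSyl (H.map (MulAut.conj g).toMonoidHom) T := isSyl_of_normalizer_le inf_le_right hT hND
      have hS3 : IsSyl H T₁ := by
        have := isSyl_map_conj hS2 g⁻¹
        rwa [map_conj_map_conj, inv_mul_cancel, map_conj_one] at this
      obtain ⟨h, hh, hTh⟩ := isSyl_conj hS1 hS3
      have e : ∀ y : G, y ∈ T.map (MulAut.conj (g * h)).toMonoidHom ↔ y ∈ T := by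
        intro y
        rw [← map_conj_map_conj, ← hTh, hT₁, map_conj_map_conj, mul_inv_cancel, map_conj_one]
      have hgh : g * h ∈ Subgroup.normalizer (T : Set G) := by
        rw [Subgroup.mem_set_normalizer_iff]
        intro x
        rw [SetLike.mem_coe, SetLike.mem_coe, ← e (g * h * x * (g * h)⁻¹), mem_map_conj]
        have : (g * h)⁻¹ * (g * h * x * (g * h)⁻¹) * (g * h) = x := by group
        rw [this]
      have h5 := hNT1 hgh
      apply hg
      have : g = (g * h) * h⁻¹ := by group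
      rw [this]
      exact H.mul_mem h5 (H.inv_mem hh)

end Cfsg.Agent.S0214
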