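import Mathlib
import Cfsg.Statements.S0216
import Cfsg.Agent.Lib.Helper4.Dihedral2
import Cfsg.Agent.Lib.Helper4.SylowTwo
import Cfsg.Agent.S0209

set_option autoImplicit false
open Cfsg

namespace Cfsg.Agent.S0216

open Cfsg.Agent.Lib.Helper4

/-- For an involution u in a Sylow 2-subgroup P of a finite group G, the following are equivalent: no G-conjugate of u other than u lies in P; every commutator of u with an element of G has odd order. -/
theorem result {G : Type*} [Group G] [Finite G] (P : Sylow 2 G) (u : G) (hu : orderOf u = 2) (huP : u ∈ P) : (∀ g : G, g * u * g⁻¹ ∈ P → g * u * g⁻¹ = u) ↔ (∀ g : G, Odd (orderOf (u * g * u⁻¹ * g⁻¹))) := by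
  haveI : Fact (Nat.Prime 2) := ⟨Nat.prime_two⟩
  have hu2 := mul_self_of_orderOf_two hu
  have hui := inv_eq_self_of_orderOf_two hu
  have hcomm : ∀ g : G, u * g * u⁻¹ * g⁻¹ = u * (g * u * g⁻¹) := by
    intro g; rw [hui]; group
  constructor
  · intro hiso g
    rw [hcomm]
    set v := g * u * g⁻¹ with hv
    have hvo : orderOf v = 2 := orderOf_conj_two g hu
    have hv2 := mul_self_of_orderOf_two hvo
    by_contra hne
    rw [Nat.not_odd_iff_even] at hne
    obtain ⟨hz, hzu, hzv⟩ := Cfsg.Agent.S0209.result u v hu hvo hne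
    obtain ⟨m, hm⟩ := hne
    have hdiv : orderOf (u * v) / 2 = m := by omega
    rw [hdiv] at hz hzu hzv
    have huv : IsConj u v := isConj_iff.mpr ⟨g, rfl⟩
    have hconj : IsConj u (u * (u * v) ^ m) := by
      obtain ⟨d, -, hd | hd⟩ := exists_conj_eq_mul_central hu2 hv2 hm
      · exact isConj_iff.mpr ⟨d, hd⟩
      · exact huv.trans (isConj_iff.mpr ⟨d, hd⟩)
    have hc : Commute u (u * (u * v) ^ m) := (Commute.refl u).mul_right hzu.symm
    have := isolated_eq_of_commute P u hu hiso (IsConj.refl u) hconj hc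
    have hz1 : (u * v) ^ m = 1 := by
      have := congrArg (fun w => u⁻¹ * w) this
      simpa using this.symm
    rw [hz1, orderOf_one] at hz
    omega
  · intro hodd g hg
    have h1 : u * (g * u * g⁻¹) ∈ (P : Subgroup G) := Subgroup.mul_mem _ huP hg
    obtain ⟨k, hk⟩ := (IsPGroup.iff_orderOf.mp P.2) ⟨_, h1⟩
    rw [Subgroup.orderOf_mk] at hk
    have h2 := hodd g
    rw [hcomm, hk] at h2
    have hk0 : k = 0 := by
      by_contra hk0
      have : Even (2 ^ k) := (Nat.even_pow' hk0).mpr even_two
      exact (Nat.not_even_iff_odd.mpr h2) this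
    rw [hk0, pow_zero, orderOf_eq_one_iff] at hk
    have := congrArg (fun w => u⁻¹ * w) hk
    simp only [inv_mul_cancel_left, mul_one] at this
    rw [this, hui]

end Cfsg.Agent.S0216
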