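import Mathlib
import Cfsg.Statements.S0218
import Cfsg.Agent.Lib.Helper4.Invol

set_option autoImplicit false
open Cfsg

namespace Cfsg.Agent.S0218

open Cfsg.Agent.Lib.Helper4

theorem zmod_add_self_eq_zero {m : ℕ} [NeZero m] (i : ZMod (2 * m)) (h : i + i = 0) :
    i = 0 ∨ i = (m : ZMod (2 * m)) := by
  have hm : 0 < m := Nat.pos_of_ne_zero (NeZero.ne m)
  haveI : NeZero (2 * m) := ⟨by omega⟩
  have hi : i = ((i.val : ℕ) : ZMod (2 * m)) := (ZMod.natCast_zmod_val i).symm
  have hlt : i.val < 2 * m := ZMod.val_lt i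
  have h2 : ((i.val + i.val : ℕ) : ZMod (2 * m)) = 0 := by
    push_cast
    rw [← hi]; exact h
  rw [ZMod.natCast_eq_zero_iff] at h2
  obtain ⟨c, hc⟩ := h2
  have hc' : i.val = m * c := by
    have : 2 * i.val = 2 * (m * c) := by rw [← mul_assoc, ← hc]; ring
    omega
  have hc2 : c < 2 := by
    by_contra hcon
    push_neg at hcon
    have : m * 2 ≤ m * c := Nat.mul_le_mul_left m hcon
    omega
  interval_cases c
  · left
    rw [hi, hc']; simp
  · right
    rw [hi, hc']; simp

theorem involution_eq {m : ℕ} [NeZero m] (x : QuaternionGroup m) (hx : orderOf x = 2) :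
    x = QuaternionGroup.a (m : ZMod (2 * m)) := by
  cases x with
  | a i =>
    have h1 := mul_self_of_orderOf_two hx
    have h2 := ne_one_of_orderOf_two hx
    rw [QuaternionGroup.a_mul_a, QuaternionGroup.one_def] at h1
    have h3 : i + i = 0 := by
      injection h1
    rcases zmod_add_self_eq_zero i h3 with h | h
    · exfalso; apply h2; rw [h, QuaternionGroup.a_zero]
    · rw [h]
  | xa i =>
    rw [QuaternionGroup.orderOf_xa] at hx
    omega

theorem orderOf_a_m {m : ℕ} [NeZero m] :
    orderOf (QuaternionGroup.a (m : ZMod (2 * m)) : QuaternionGroup m) = 2 := by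
  have hm : 0 < m := Nat.pos_of_ne_zero (NeZero.ne m)
  apply orderOf_two_of
  · rw [QuaternionGroup.a_mul_a, QuaternionGroup.one_def]
    congr 1
    have : ((m + m : ℕ) : ZMod (2 * m)) = 0 := by
      rw [ZMod.natCast_eq_zero_iff]; exact ⟨1, by ring⟩
    push_cast at this
    exact this
  · rw [QuaternionGroup.one_def]
    intro h
    injection h with h
    rw [ZMod.natCast_eq_zero_iff] at h
    have := Nat.le_of_dvd hm h
    omega

/-- The generalized quaternion group of order 2^(n+3) contains exactly one element of order 2. -/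
theorem result (n : ℕ) : Nat.card {x : QuaternionGroup (2 ^ (n + 1)) // orderOf x = 2} = 1 := by
  haveI : NeZero (2 ^ (n + 1)) := ⟨by positivity⟩
  rw [Nat.card_eq_one_iff_unique]
  refine ⟨⟨?_⟩, ⟨⟨_, orderOf_a_m⟩⟩⟩
  intro x y
  apply Subtype.ext
  rw [involution_eq x.1 x.2, involution_eq y.1 y.2]

end Cfsg.Agent.S0218
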