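import Cfsg.Statements.S0220
import Cfsg.Agent.S0219

set_option autoImplicit false
open Cfsg

namespace Cfsg.Agent.S0220

/-- A nontrivial finite `p`-group has a central element of order `p`. -/
theorem exists_central_orderOf_eq {P : Type*} [Group P] [Finite P] [Nontrivial P] (p : ℕ) [Fact p.Prime]
    (hP : IsPGroup p P) : ∃ z : P, z ∈ Subgroup.center P ∧ orderOf z = p := by
  have hnt : Nontrivial (Subgroup.center P) := hP.center_nontrivial
  have hZ : IsPGroup p (Subgroup.center P) := hP.to_subgroup _
  obtain ⟨k, hk⟩ := IsPGroup.iff_card.mp hZ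
  have hk0 : k ≠ 0 := by
    rintro rfl
    rw [pow_zero] at hk
    have := Finite.one_lt_card_iff_nontrivial.mpr hnt
    omega
  have hdvd : p ∣ Nat.card (Subgroup.center P) := by
    rw [hk]; exact dvd_pow_self p hk0
  obtain ⟨z, hz⟩ := exists_prime_orderOf_dvd_card' p hdvd
  exact ⟨z.1, z.2, by rw [Subgroup.orderOf_coe]; exact hz⟩

/-- A finite cyclic group has at most one element of order 2. -/
theorem eq_of_orderOf_eq_two {A : Type*} [Group A] [Finite A] [IsCyclic A] (a b : A)
    (ha : orderOf a = 2) (hb : orderOf b = 2) : a = b := by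
  classical
  have : Fintype A := Fintype.ofFinite A
  by_contra hab
  have h := IsCyclic.card_pow_eq_one_le (α := A) (n := 2) (by norm_num)
  have ha1 : a ≠ 1 := by
    rintro rfl; simp at ha
  have hb1 : b ≠ 1 := by
    rintro rfl; simp at hb
  have hsub : ({1, a, b} : Finset A) ⊆ Finset.univ.filter (fun c : A => c ^ 2 = 1) := by
    intro c hc
    simp only [Finset.mem_insert, Finset.mem_singleton] at hc
    simp only [Finset.mem_filter, Finset.mem_univ, true_and]
    rcases hc with rfl | rfl | rfl
    · exact one_pow 2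
    · rw [← ha]; exact pow_orderOf_eq_one _
    · rw [← hb]; exact pow_orderOf_eq_one _
  have hcard : ({1, a, b} : Finset A).card = 3 := by
    rw [Finset.card_insert_of_notMem, Finset.card_insert_of_notMem, Finset.card_singleton]
    · simpa using hab
    · simp only [Finset.mem_insert, Finset.mem_singleton, not_or]
      exact ⟨ha1.symm, hb1.symm⟩
  have := Finset.card_le_card hsub
  omega

theorem aux {G : Type*} [Group G] [Finite G] (x : G) (hx : orderOf x = 2) (C : Subgroup G)
    (hmemC : ∀ y : G, y ∈ C ↔ x * y = y * x) (S : Sylow 2 ↥C) (hS : IsCyclic (S : Subgroup ↥C)) :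
    ∃ H : Subgroup G, H.index = 2 := by
  classical
  have hxC : x ∈ C := (hmemC x).mpr rfl
  let x' : C := ⟨x, hxC⟩
  have hx'ord : orderOf x' = 2 := by rw [← hx]; exact Subgroup.orderOf_mk x hxC
  have hZn : (Subgroup.zpowers x').Normal := by
    refine ⟨fun a ha c => ?_⟩
    obtain ⟨i, rfl⟩ := Subgroup.mem_zpowers_iff.mp ha
    have hcomm : c * x' = x' * c := by
      apply Subtype.ext
      exact ((hmemC c.1).mp c.2).symm
    have : c * x' ^ i * c⁻¹ = x' ^ i := by
      have h1 : Commute c (x' ^ i) := (Commute.zpow_right hcomm i)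
      rw [h1.eq, mul_inv_cancel_right]
    rw [this]
    exact Subgroup.zpow_mem_zpowers _ _
  have hZp : IsPGroup 2 (Subgroup.zpowers x') :=
    IsPGroup.of_card (n := 1) (by rw [Nat.card_zpowers, hx'ord, pow_one])
  have hx'S : x' ∈ (S : Subgroup C) := (hZp.le_sylow_of_normal S) (Subgroup.mem_zpowers x')
  -- the image of S in G
  set S' := (S : Subgroup C).map C.subtype with hS'
  have hS'p : IsPGroup 2 S' := S.isPGroup'.map _
  obtain ⟨T, hT⟩ := hS'p.exists_le_sylow
  have hxT : x ∈ (T : Subgroup G) := hT ⟨x', hx'S, rfl⟩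
  -- every element of T ∩ C lies in S'
  have hTC : ∀ y : G, y ∈ (T : Subgroup G) → y ∈ C → y ∈ S' := by
    intro y hyT hyC
    have hQ : IsPGroup 2 ((T : Subgroup G).subgroupOf C) := T.isPGroup'.comap_subtype
    have hle : (S : Subgroup C) ≤ (T : Subgroup G).subgroupOf C := by
      intro s hs
      rw [Subgroup.mem_subgroupOf]
      exact hT ⟨s, hs, rfl⟩
    have heq := S.is_maximal' hQ hle
    have : (⟨y, hyC⟩ : C) ∈ (S : Subgroup C) := by
      rw [← heq, Subgroup.mem_subgroupOf]; exact hyT
    exact ⟨⟨y, hyC⟩, this, rfl⟩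
  -- a central involution of T
  have hTnt : Nontrivial (T : Subgroup G) := by
    refine ⟨⟨⟨x, hxT⟩, 1, ?_⟩⟩
    intro h
    have : x = 1 := congrArg Subtype.val h
    rw [this, orderOf_one] at hx
    omega
  obtain ⟨z, hzZ, hzord⟩ := exists_central_orderOf_eq 2 T.isPGroup'
  have hzx : x * z.1 = z.1 * x := by
    have := Subgroup.mem_center_iff.mp hzZ ⟨x, hxT⟩
    exact congrArg Subtype.val this
  have hzC : z.1 ∈ C := (hmemC z.1).mpr hzx
  have hzS' : z.1 ∈ S' := hTC z.1 z.2 hzC
  have hxS' : x ∈ S' := ⟨x', hx'S, rfl⟩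
  -- S' is cyclic
  have hS'cyc : IsCyclic S' := by
    have hsurj : Function.Surjective ((C.subtype).subgroupMap (S : Subgroup C)) :=
      MonoidHom.subgroupMap_surjective _ _
    have hScyc : IsCyclic ↥(S : Subgroup C) := hS
    exact isCyclic_of_surjective ((C.subtype).subgroupMap (S : Subgroup C)) hsurj
  have hzx' : (⟨z.1, hzS'⟩ : S') = ⟨x, hxS'⟩ := by
    apply eq_of_orderOf_eq_two
    · rw [Subgroup.orderOf_mk, Subgroup.orderOf_coe]; exact hzord
    · rw [Subgroup.orderOf_mk]; exact hx
  have hzx'' : z.1 = x := congrArg Subtype.val hzx'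
  -- hence T ≤ C, so T = S'
  have hTle : (T : Subgroup G) ≤ S' := by
    intro y hy
    apply hTC y hy
    rw [hmemC]
    have := Subgroup.mem_center_iff.mp hzZ ⟨y, hy⟩
    have h2 : y * z.1 = z.1 * y := congrArg Subtype.val this
    rw [hzx''] at h2
    exact h2.symm
  have hTeq : (T : Subgroup G) = S' := le_antisymm hTle hT
  have hTcyc : IsCyclic (T : Subgroup G) := by rw [hTeq]; exact hS'cyc
  have heven : Even (Nat.card G) := by
    rw [even_iff_two_dvd, ← hx]
    exact orderOf_dvd_natCard x
  exact Cfsg.Agent.S0219.result heven T hTcyc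

/-- If x is an involution of a finite group G and a Sylow 2-subgroup of the centralizer of x is cyclic, then G has a subgroup of index 2; in particular G is not simple unless it has order 2. -/
theorem result {G : Type*} [Group G] [Finite G] (x : G) (hx : orderOf x = 2) (S : Sylow 2 ↥(Subgroup.centralizer ({x} : Set G))) (hS : IsCyclic (S : Subgroup ↥(Subgroup.centralizer ({x} : Set G)))) : ∃ H : Subgroup G, H.index = 2 := by
  refine aux x hx (Subgroup.centralizer ({x} : Set G)) ?_ S hS
  intro y
  rw [Subgroup.mem_centralizer_iff]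
  simp

end Cfsg.Agent.S0220
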