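import Cfsg.Statements.S0221
import Mathlib
import Cfsg.Agent.S0111
import Cfsg.Agent.Lib.Helper45.NormalEpp
import Cfsg.Agent.Lib.Helper45.RankTools
import Cfsg.Agent.Lib.Helper73.TwoGroup
import Cfsg.Agent.Lib.Helper85.SylowAux

set_option autoImplicit false
open Cfsg

namespace Cfsg.Agent.S0221

open Cfsg.Agent.Lib.Helper45

/-- a subgroup of exponent `2` is elementary abelian -/
theorem isElementaryAbelian_two_of_sq {G : Type*} [Group G] (F : Subgroup G)
    (hF : ∀ e ∈ F, e ^ 2 = 1) : IsElementaryAbelian 2 F := by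
  refine ⟨⟨⟨fun a b => ?_⟩⟩, hF⟩
  apply Cfsg.Agent.Lib.Helper73.comm_of_sq_eq_one
  intro x
  apply Subtype.ext
  simpa using hF x.1 x.2

/-- a normal four-group of a `2`-subgroup `S` of rank at least three, together with its centralizer
in `S` -/
theorem exists_four_group_data {G : Type*} [Group G] [Finite G] (S : Subgroup G)
    (hS : IsPGroup 2 S) (E : Subgroup G) (hES : E ≤ S) (hE2 : ∀ e ∈ E, e ^ 2 = 1)
    (hEcard : 4 < Nat.card E) :
    ∃ U T : Subgroup G, U ≤ T ∧ T ≤ S ∧ IsElementaryAbelian 2 U ∧ Nat.card U = 4 ∧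
      (∀ t ∈ T, ∀ u ∈ U, t * u = u * t) ∧ T.relIndex S ≤ 2 ∧
      4 ≤ Nat.card (E ⊓ T : Subgroup G) ∧
      (∀ s ∈ S, (∀ u ∈ U, s * u = u * s) → s ∈ T) := by
  have : Fact (Nat.Prime 2) := ⟨Nat.prime_two⟩
  set E₀ : Subgroup S := E.subgroupOf S with hE₀
  have hE₀2 : ∀ e ∈ E₀, e ^ 2 = 1 := by
    intro e he
    apply Subtype.ext
    simpa using hE2 e.1 (Subgroup.mem_subgroupOf.mp he)
  have hE₀ea : IsElementaryAbelian 2 E₀ := isElementaryAbelian_two_of_sq E₀ hE₀2
  have hE₀card : 2 ^ 2 < Nat.card E₀ := by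
    rw [hE₀, Cfsg.Agent.Lib.Helper85.card_subgroupOf_of_le hES]
    norm_num
    exact hEcard
  obtain ⟨U₀, hU₀n, hU₀ea, hU₀card⟩ :=
    exists_normal_elementaryAbelian_sq hS E₀ hE₀ea.1 hE₀2 hE₀card
  set T₀ := Subgroup.centralizer (U₀ : Set S) with hT₀
  have hT₀idx : T₀.index ≤ 2 := index_centralizer_normal_sq_le hS U₀ hU₀card
  have hinj : Function.Injective S.subtype := S.subtype_injective
  refine ⟨U₀.map S.subtype, T₀.map S.subtype, ?_, Subgroup.map_subtype_le _,
    Cfsg.Agent.S2849.isElementaryAbelian_map hU₀ea _, ?_, ?_, ?_, ?_, ?_⟩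
  · apply Subgroup.map_mono
    intro x hx
    rw [hT₀, Subgroup.mem_centralizer_iff]
    intro h hh
    exact IsElementaryAbelian_comm hU₀ea hh hx
  · rw [Subgroup.card_map_of_injective hinj, hU₀card]; norm_num
  · rintro _ ⟨t, ht, rfl⟩ _ ⟨u, hu, rfl⟩
    have := (Subgroup.mem_centralizer_iff.mp ht u hu).symm
    exact congrArg Subtype.val this
  · have h1 := Subgroup.relIndex_map_map_of_injective T₀ ⊤ hinj
    rw [Subgroup.relIndex_top_right] at h1
    have h2 : (⊤ : Subgroup S).map S.subtype = S := by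
      rw [← MonoidHom.range_eq_map, Subgroup.range_subtype]
    rw [h2] at h1
    rw [h1]
    exact hT₀idx
  · have h1 : 2 ^ 2 ≤ Nat.card (E₀ ⊓ T₀ : Subgroup S) :=
      sq_le_card_inf_of_index_le hS E₀ T₀ hT₀idx hE₀card
    have h2 : (E₀ ⊓ T₀).map S.subtype ≤ E ⊓ T₀.map S.subtype := by
      rintro _ ⟨y, hy, rfl⟩
      exact ⟨Subgroup.mem_subgroupOf.mp hy.1, Subgroup.mem_map_of_mem _ hy.2⟩
    have h3 := Subgroup.card_le_of_le h2
    rw [Subgroup.card_map_of_injective hinj] at h3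
    have h4 : (2 : ℕ) ^ 2 = 4 := by norm_num
    rw [h4] at h1
    omega
  · intro s hs hcomm
    refine ⟨⟨s, hs⟩, ?_, rfl⟩
    rw [SetLike.mem_coe, hT₀, Subgroup.mem_centralizer_iff]
    intro u hu
    apply Subtype.ext
    have := hcomm u.1 (Subgroup.mem_map_of_mem S.subtype hu)
    simpa using this.symm

/-- from an elementary abelian `2`-subgroup of order at least `8` containing `x` to one of order
exactly `8` inside the centralizer of `x` -/
theorem exists_eight_of_le {G : Type*} [Group G] [Finite G] (F : Subgroup G)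
    (hF : ∀ e ∈ F, e ^ 2 = 1) (hcard : 8 ≤ Nat.card F) {x : G} (hx : x ∈ F) :
    ∃ E : Subgroup G, E ≤ Subgroup.centralizer ({x} : Set G) ∧ Nat.card E = 8 ∧
      ∀ e ∈ E, e ^ 2 = 1 := by
  have hFea := isElementaryAbelian_two_of_sq F hF
  have hFp : IsPGroup 2 F := by
    intro g
    refine ⟨1, ?_⟩
    apply Subtype.ext
    simpa using hF g.1 g.2
  obtain ⟨H, hH⟩ := Sylow.exists_subgroup_card_pow_prime_of_le_card (n := 3) Nat.prime_two hFp
    (by norm_num; exact hcard)
  refine ⟨H.map F.subtype, ?_, ?_, ?_⟩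
  · rintro _ ⟨y, _, rfl⟩
    rw [Subgroup.mem_centralizer_iff]
    intro h hh
    rw [Set.mem_singleton_iff] at hh
    subst hh
    exact IsElementaryAbelian_comm hFea hx y.2
  · rw [Subgroup.card_map_of_injective F.subtype_injective, hH]; norm_num
  · rintro _ ⟨y, _, rfl⟩
    exact hF y.1 y.2

/-- an exponent-`2` subgroup properly containing a subgroup of order at least `4` has order at
least `8` -/
theorem eight_le_card_of_lt {G : Type*} [Group G] [Finite G] (A F : Subgroup G)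
    (hF : ∀ e ∈ F, e ^ 2 = 1) (hA : 4 ≤ Nat.card A) (hAF : A ≤ F) (hne : ¬ F ≤ A) :
    8 ≤ Nat.card F := by
  have hFp : IsPGroup 2 F := by
    intro g
    refine ⟨1, ?_⟩
    apply Subtype.ext
    simpa using hF g.1 g.2
  obtain ⟨k, hk⟩ := hFp.exists_card_eq
  have h4 : 4 < Nat.card F := by
    by_contra hcon
    push Not at hcon
    have : A = F := Subgroup.eq_of_le_of_card_ge hAF (hcon.trans hA)
    exact hne this.ge
  rw [hk] at h4 ⊢
  have hk3 : 3 ≤ k := by
    by_contra hcon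
    push Not at hcon
    have : 2 ^ k ≤ 2 ^ 2 := Nat.pow_le_pow_right (by norm_num) (by omega)
    omega
  calc 8 = 2 ^ 3 := by norm_num
    _ ≤ 2 ^ k := Nat.pow_le_pow_right (by norm_num) hk3

/-- Let G be a finite group with no subgroup of index 2 whose 2-rank is at least 3 (it contains an elementary abelian subgroup of order 8). Then the centralizer of every involution of G also contains an elementary abelian subgroup of order 8. -/
theorem result {G : Type*} [Group G] [Finite G] (hno : ∀ H : Subgroup G, H.index ≠ 2) (hrank : ∃ E : Subgroup G, Nat.card E = 8 ∧ ∀ e ∈ E, e ^ 2 = 1) (x : G) (hx : orderOf x = 2) : ∃ E : Subgroup G, E ≤ Subgroup.centralizer ({x} : Set G) ∧ Nat.card E = 8 ∧ ∀ e ∈ E, e ^ 2 = 1 := by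
  classical
  have : Fact (Nat.Prime 2) := ⟨Nat.prime_two⟩
  obtain ⟨E, hEcard, hE2⟩ := hrank
  have hEp : IsPGroup 2 E := by
    intro g
    refine ⟨1, ?_⟩
    apply Subtype.ext
    simpa using hE2 g.1 g.2
  obtain ⟨S, hES⟩ := hEp.exists_le_sylow
  obtain ⟨U, T, hUT, hTS, hUea, hUcard, hTU, hrel, hET, hST⟩ :=
    exists_four_group_data (S : Subgroup G) S.2 E hES hE2 (by omega)
  have hx2 : x ^ 2 = 1 := by rw [← hx]; exact pow_orderOf_eq_one x
  -- a conjugate of `x` lies in `T`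
  have hconj : ∃ g : G, g * x * g⁻¹ ∈ T := by
    have hZp : IsPGroup 2 (Subgroup.zpowers x) := by
      apply IsPGroup.of_card (n := 1)
      rw [Nat.card_zpowers, hx, pow_one]
    obtain ⟨g₀, hg₀⟩ := Cfsg.Agent.Lib.Helper85.exists_conj_le_sylow S hZp
    have hx₁S : g₀ * x * g₀⁻¹ ∈ (S : Subgroup G) :=
      hg₀ (Cfsg.Agent.Lib.Helper85.conj_mem_map_conj g₀ (Subgroup.mem_zpowers x))
    by_cases hx₁T : g₀ * x * g₀⁻¹ ∈ T
    · exact ⟨g₀, hx₁T⟩
    · have hrel1 : T.relIndex (S : Subgroup G) ≠ 1 := by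
        intro h
        exact hx₁T (Subgroup.relIndex_eq_one.mp h hx₁S)
      have hrel0 : T.relIndex (S : Subgroup G) ≠ 0 := by
        have : (T.subgroupOf (S : Subgroup G)).index ≠ 0 := Subgroup.index_ne_zero_of_finite
        exact this
      have hrel2 : T.relIndex (S : Subgroup G) = 2 := by omega
      have hord : orderOf (g₀ * x * g₀⁻¹) = 2 := by
        have : g₀ * x * g₀⁻¹ = MulAut.conj g₀ x := by simp
        rw [this, MulEquiv.orderOf_eq, hx]
      rcases Cfsg.Agent.S0111.result S T hTS hrel2 (g₀ * x * g₀⁻¹) hord hx₁S hx₁T with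
        ⟨M, _, hM, _⟩ | ⟨g, hg⟩
      · exact absurd hM (hno M)
      · refine ⟨g * g₀, ?_⟩
        have : g * g₀ * x * (g * g₀)⁻¹ = g * (g₀ * x * g₀⁻¹) * g⁻¹ := by group
        rw [this]; exact hg
  obtain ⟨g, hgT⟩ := hconj
  set x' := g * x * g⁻¹ with hx'
  have hx'2 : x' ^ 2 = 1 := by rw [hx', conj_pow, hx2]; simp
  -- an elementary abelian subgroup of order at least 8 containing `x'`
  have hF : ∃ F : Subgroup G, (∀ e ∈ F, e ^ 2 = 1) ∧ 8 ≤ Nat.card F ∧ x' ∈ F := by
    by_cases hx'U : x' ∈ U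
    · -- `x' ∈ U`
      set E₁ := E ⊓ T with hE₁
      have hE₁ea : IsElementaryAbelian 2 E₁ :=
        isElementaryAbelian_of_le (isElementaryAbelian_two_of_sq E hE2) inf_le_left
      have hcomm : ∀ a ∈ E₁, ∀ b ∈ U, a * b = b * a := fun a ha b hb => hTU a ha.2 b hb
      have hFea : IsElementaryAbelian 2 (E₁ ⊔ U) := isElementaryAbelian_sup hE₁ea hUea hcomm
      refine ⟨E₁ ⊔ U, hFea.2, ?_, (le_sup_right : U ≤ E₁ ⊔ U) hx'U⟩
      by_cases hEleT : E ≤ T
      · have : E ≤ E₁ ⊔ U := (le_inf le_rfl hEleT).trans le_sup_left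
        have := Subgroup.card_le_of_le this
        omega
      · apply eight_le_card_of_lt E₁ (E₁ ⊔ U) hFea.2 hET le_sup_left
        intro hle
        apply hEleT
        intro e he
        apply hST e (hES he)
        intro u hu
        have huE : u ∈ E := ((le_sup_right.trans hle) hu).1
        exact IsElementaryAbelian_comm (isElementaryAbelian_two_of_sq E hE2) he huE
    · -- `x' ∉ U`
      have hZea : IsElementaryAbelian 2 (Subgroup.zpowers x') := by
        apply isElementaryAbelian_two_of_sq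
        intro e he
        obtain ⟨k, rfl⟩ := Subgroup.mem_zpowers_iff.mp he
        rw [← zpow_natCast, ← zpow_mul, mul_comm, zpow_mul, zpow_natCast, hx'2, one_zpow]
      have hcomm : ∀ a ∈ U, ∀ b ∈ Subgroup.zpowers x', a * b = b * a := by
        intro a ha b hb
        obtain ⟨k, rfl⟩ := Subgroup.mem_zpowers_iff.mp hb
        have h1 : Commute x' a := hTU x' hgT a ha
        exact (h1.zpow_left k).eq.symm
      have hFea : IsElementaryAbelian 2 (U ⊔ Subgroup.zpowers x') :=
        isElementaryAbelian_sup hUea hZea hcomm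
      refine ⟨U ⊔ Subgroup.zpowers x', hFea.2, ?_,
        (le_sup_right : Subgroup.zpowers x' ≤ U ⊔ Subgroup.zpowers x') (Subgroup.mem_zpowers x')⟩
      apply eight_le_card_of_lt U _ hFea.2 hUcard.ge le_sup_left
      intro hle
      exact hx'U (hle ((le_sup_right : Subgroup.zpowers x' ≤ U ⊔ Subgroup.zpowers x')
        (Subgroup.mem_zpowers x')))
  obtain ⟨F, hF2, hFcard, hx'F⟩ := hF
  obtain ⟨E', hE'c, hE'card, hE'2⟩ := exists_eight_of_le F hF2 hFcard hx'F
  -- conjugate back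
  refine ⟨E'.map (MulAut.conj g⁻¹).toMonoidHom, ?_, ?_, ?_⟩
  · rintro _ ⟨e, he, rfl⟩
    rw [Subgroup.mem_centralizer_iff]
    intro h hh
    rw [Set.mem_singleton_iff] at hh
    subst hh
    have h1 := Subgroup.mem_centralizer_iff.mp (hE'c he) x' rfl
    -- `x' * e = e * x'`
    simp only [MulEquiv.coe_toMonoidHom, MulAut.conj_apply, inv_inv]
    have h2 : h = g⁻¹ * x' * g := by rw [hx']; group
    rw [h2]
    calc g⁻¹ * x' * g * (g⁻¹ * e * g) = g⁻¹ * (x' * e) * g := by group
      _ = g⁻¹ * (e * x') * g := by rw [h1]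
      _ = g⁻¹ * e * g * (g⁻¹ * x' * g) := by group
  · rw [Cfsg.Agent.Lib.Helper85.card_map_conj, hE'card]
  · rintro _ ⟨e, he, rfl⟩
    rw [← map_pow, hE'2 e he, map_one]

end Cfsg.Agent.S0221
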