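import Mathlib
import Cfsg.Statements.S0224
import Cfsg.Agent.Lib.Helper4.StronglyEmb

set_option autoImplicit false
open Cfsg

namespace Cfsg.Agent.S0224

open Cfsg.Agent.Lib.Helper4

theorem fixed_iff {G : Type*} [Group G] (H : Subgroup G) (t g : G) :
    t • (g : G ⧸ H) = (g : G ⧸ H) ↔ g⁻¹ * t * g ∈ H := by
  rw [MulAction.Quotient.smul_mk, smul_eq_mul, QuotientGroup.eq]
  have : (t * g)⁻¹ * g = (g⁻¹ * t * g)⁻¹ := by group
  rw [this, Subgroup.inv_mem_iff]

/-- Let H be a proper subgroup of even order of the finite group G. Then H is strongly embedded if and only if each involution of H fixes exactly one point (namely the coset H) in the action of G on the cosets of H. -/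
theorem result {G : Type*} [Group G] [Finite G] (H : Subgroup G) (hH : H ≠ ⊤) (heven : Even (Nat.card H)) : Cfsg.IsStronglyEmbedded H ↔ ∀ t ∈ H, orderOf t = 2 → Nat.card {c : G ⧸ H // t • c = c} = 1 := by
  rw [isStronglyEmbedded_iff]
  constructor
  · rintro ⟨-, -, h3⟩ t ht ht2
    rw [Nat.card_eq_one_iff_unique]
    have hone : t • ((1 : G) : G ⧸ H) = ((1 : G) : G ⧸ H) := by
      rw [fixed_iff]; simpa using ht
    refine ⟨⟨?_⟩, ⟨⟨((1 : G) : G ⧸ H), hone⟩⟩⟩
    have key : ∀ c : {c : G ⧸ H // t • c = c}, c.1 = ((1 : G) : G ⧸ H) := by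
      rintro ⟨c, hc⟩
      induction c using QuotientGroup.induction_on with
      | H g =>
        rw [fixed_iff] at hc
        have hg : g ∈ H := by
          by_contra hg
          exact h3 g hg t ht hc ht2
        show (g : G ⧸ H) = ((1 : G) : G ⧸ H)
        rw [QuotientGroup.eq]
        exact H.mul_mem (H.inv_mem hg) H.one_mem
    intro a b
    apply Subtype.ext
    rw [key a, key b]
  · intro h
    refine ⟨hH, heven, fun g hg s hs hs' hs2 => ?_⟩
    have hcard := h s hs hs2
    rw [Nat.card_eq_one_iff_unique] at hcard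
    have hsub := hcard.1
    have h1 : s • ((1 : G) : G ⧸ H) = ((1 : G) : G ⧸ H) := by
      rw [fixed_iff]; simpa using hs
    have h2 : s • ((g : G) : G ⧸ H) = ((g : G) : G ⧸ H) := by
      rw [fixed_iff]; exact hs'
    have := Subsingleton.elim (⟨_, h1⟩ : {c : G ⧸ H // s • c = c}) ⟨_, h2⟩
    have h3 : ((1 : G) : G ⧸ H) = ((g : G) : G ⧸ H) := congrArg Subtype.val this
    rw [QuotientGroup.eq] at h3
    apply hg
    simpa using h3

end Cfsg.Agent.S0224
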