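import Cfsg.Statements.S0227
import Cfsg.Agent.S0205
import Cfsg.Agent.Lib.Helper21.GlaubermanAut6
-- CONDITIONAL FILE (helper23): builds as soon as Cfsg/Agent/S0205.lean (Odd Order Theorem) exists.
-- The first clause is helper21's unconditional `glauberman_aut` (Glauberman's theorem from the landed Z*-theorem);
-- only `Group.IsSolvable C` uses the Odd Order Theorem (for the odd-order normal complement).

set_option autoImplicit false
open Cfsg

namespace Cfsg.Agent.S0227

/-- Let G be a finite group with no nontrivial normal subgroup of odd order, S a Sylow 2-subgroup, and C the group of automorphisms of G that fix every element of S. Then every Sylow 2-subgroup of C is abelian and has a normal complement in C; in particular C is solvable. -/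
theorem result {G : Type*} [Group G] [Finite G] (hO : ∀ N : Subgroup G, N.Normal → Odd (Nat.card N) → N = ⊥) (S : Sylow 2 G) (C : Subgroup (MulAut G)) (hC : ∀ φ : MulAut G, φ ∈ C ↔ ∀ s : G, s ∈ S → φ s = s) : (∀ T : Sylow 2 ↥C, (∀ a b : ↥T, a * b = b * a) ∧ ∃ N : Subgroup ↥C, N.Normal ∧ Subgroup.IsComplement' N (T : Subgroup ↥C)) ∧ Group.IsSolvable ↥C := by
  have h1 := Cfsg.Agent.Lib.Helper21.glauberman_aut hO S C hC
  refine ⟨h1, ?_⟩
  -- `C` is solvable: a normal complement `N` of a Sylow `2`-subgroup `T` has odd order, hence is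
  -- solvable by the Odd Order Theorem, and `C ⧸ N` is a `2`-group.
  have : Fact (Nat.Prime 2) := ⟨Nat.prime_two⟩
  have hfin : Finite (MulAut G) := Finite.of_injective (fun φ : MulAut G => (φ : G → G))
    (fun φ ψ h => MulEquiv.ext (fun x => congrFun h x))
  obtain T : Sylow 2 ↥C := default
  obtain ⟨-, N, hNn, hNT⟩ := h1 T
  have hcard : Nat.card ↥N * Nat.card ↥(T : Subgroup ↥C) = Nat.card ↥C := hNT.card_mul_card
  have hidx : N.index = Nat.card ↥(T : Subgroup ↥C) := by
    have h2 := N.card_mul_index
    rw [← hcard] at h2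
    exact Nat.eq_of_mul_eq_mul_left Nat.card_pos h2
  have hNodd : Odd (Nat.card ↥N) := by
    have h3 : Nat.card ↥N = (T : Subgroup ↥C).index := by
      have h2 := (T : Subgroup ↥C).card_mul_index
      rw [← hcard, mul_comm (Nat.card ↥N)] at h2
      exact (Nat.eq_of_mul_eq_mul_left Nat.card_pos h2).symm
    rw [h3, ← Nat.not_even_iff_odd, even_iff_two_dvd]
    exact T.not_dvd_index
  have hNs : Group.IsSolvable ↥N := Cfsg.Agent.S0205.result hNodd
  have hQ : IsPGroup 2 (↥C ⧸ N) := by
    obtain ⟨k, hk⟩ := (IsPGroup.iff_card.mp T.isPGroup')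
    apply IsPGroup.of_card (n := k)
    rw [← Subgroup.index_eq_card, hidx, hk]
  have hQs : Group.IsSolvable (↥C ⧸ N) := by
    have := hQ.isNilpotent
    infer_instance
  exact Group.isSolvable_of_ker_le_range N.subtype (QuotientGroup.mk' N) (by
    rw [QuotientGroup.ker_mk', Subgroup.range_subtype])

end Cfsg.Agent.S0227
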