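import Cfsg.Statements.S0229
import Cfsg.Agent.S0231

set_option autoImplicit false
open Cfsg

namespace Cfsg.Agent.S0229

/-- Let t be an involution of a Sylow 2-subgroup S of a finite group G, conjugate in G to no other element of S, and let s be an involution of G not conjugate to t. Then the order of st is twice an odd number. -/
theorem result {G : Type*} [Group G] [Finite G] (S : Sylow 2 G) (t : G) (ht : orderOf t = 2) (htS : t ∈ S) (hiso : ∀ g : G, g * t * g⁻¹ ∈ S → g * t * g⁻¹ = t) (s : G) (hs : orderOf s = 2) (hns : ¬ IsConj s t) : orderOf (s * t) % 4 = 2 := by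
  classical
  have hss := Cfsg.Agent.S0231.mul_self_of_orderOf_two hs
  have htt := Cfsg.Agent.S0231.mul_self_of_orderOf_two ht
  set r := s * t with hr
  -- the order of r is even
  have heven : Even (orderOf r) := by
    rw [← Nat.not_odd_iff_even]
    intro hodd
    exact hns (Cfsg.Agent.S0231.isConj_of_odd hs ht hodd)
  obtain ⟨m, hm⟩ := heven
  have hm' : orderOf r = 2 * m := by rw [hm]; ring
  rcases Nat.even_or_odd m with ⟨k, hk⟩ | hodd
  · exfalso
    have hn4 : orderOf r = 4 * k := by rw [hm', hk]; ring
    have hk0 : k ≠ 0 := by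
      rintro rfl
      have := orderOf_pos r
      omega
    -- t inverts r
    have htr : ∀ j : ℕ, t * r ^ j * t = (r ^ j)⁻¹ := by
      intro j
      have h1 := Cfsg.Agent.S0231.conj_pow_left ht hs j
      rw [Cfsg.Agent.S0231.ts_eq_inv ht hs] at h1
      -- h1 : t * (t * s) ^ j * t = ((t * s)⁻¹) ^ j  and (t*s)⁻¹ = s * t
      have h2 : (t * s)⁻¹ = r := by
        rw [hr, mul_inv_rev, Cfsg.Agent.S0231.inv_eq_self_of_orderOf_two hs,
          Cfsg.Agent.S0231.inv_eq_self_of_orderOf_two ht]
      have h3 : t * s = r⁻¹ := by rw [← h2, inv_inv]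
      rw [h3] at h1
      rw [inv_inv] at h1
      -- h1 : t * (r⁻¹)^j * t = r ^ j
      have h4 : t * r ^ j * t = (t * (r⁻¹) ^ j * t)⁻¹ := by
        rw [mul_inv_rev, mul_inv_rev, Cfsg.Agent.S0231.inv_eq_self_of_orderOf_two ht, inv_pow, inv_inv,
          mul_assoc]
      rw [h4, h1]
    set z := r ^ (2 * k) with hz
    set t' := r ^ k * t * (r ^ k)⁻¹ with ht'
    have hzt : t' = z * t := by
      have h1 : t * (r ^ k)⁻¹ = r ^ k * t := by
        have := htr k
        calc t * (r ^ k)⁻¹ = t * (t * r ^ k * t) := by rw [this]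
          _ = (t * t) * r ^ k * t := by simp only [mul_assoc]
          _ = r ^ k * t := by rw [htt, one_mul]
      rw [ht', mul_assoc, h1, ← mul_assoc, ← pow_add, hz]
      congr 2
      ring
    have hz1 : z ≠ 1 := by
      intro h
      have hdvd := orderOf_dvd_of_pow_eq_one h
      rw [hn4] at hdvd
      have := Nat.le_of_dvd (by omega) hdvd
      omega
    have hz2 : z * z = 1 := by
      rw [hz, ← pow_add]
      have : 2 * k + 2 * k = orderOf r := by rw [hn4]; ring
      rw [this]; exact pow_orderOf_eq_one r
    have hzinv : z⁻¹ = z := by rw [inv_eq_iff_mul_eq_one]; exact hz2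
    have htz : t * z * t = z := by
      have := htr (2 * k)
      rw [← hz] at this
      rw [this, hzinv]
    have ht'2 : orderOf t' = 2 := by
      rw [ht', ← ht]
      exact (MulAut.conj (r ^ k)).orderOf_eq t
    have hcomm : t * t' = t' * t := by
      rw [hzt]
      calc t * (z * t) = t * z * t := by rw [mul_assoc]
        _ = z := htz
        _ = z * (t * t) := by rw [htt, mul_one]
        _ = z * t * t := by rw [mul_assoc]
    -- the four-group generated by t and t' is a 2-group
    have hpg1 : IsPGroup 2 (Subgroup.zpowers t) := by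
      rw [IsPGroup.iff_card, Nat.card_zpowers, ht]
      exact ⟨1, by norm_num⟩
    have hpg2 : IsPGroup 2 (Subgroup.zpowers t') := by
      rw [IsPGroup.iff_card, Nat.card_zpowers, ht'2]
      exact ⟨1, by norm_num⟩
    have hnorm : Subgroup.zpowers t ≤ Subgroup.normalizer ((Subgroup.zpowers t' : Subgroup G) : Set G) := by
      rw [Subgroup.zpowers_le]
      rw [Subgroup.mem_normalizer_iff]
      intro h
      have hconj : ∀ x : G, x ∈ Subgroup.zpowers t' → t * x * t⁻¹ ∈ Subgroup.zpowers t' := by
        intro x hx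
        obtain ⟨j, rfl⟩ := hx
        have : t * t' ^ j * t⁻¹ = t' ^ j := by
          rw [mul_inv_eq_iff_eq_mul]
          have hc : Commute t t' := hcomm
          exact (hc.zpow_right j).eq
        rw [this]; exact ⟨j, rfl⟩
      constructor
      · exact hconj h
      · intro hx
        have := hconj _ hx
        have h5 : t * (t * h * t⁻¹) * t⁻¹ = h := by
          rw [Cfsg.Agent.S0231.inv_eq_self_of_orderOf_two ht]
          calc t * (t * h * t) * t = (t * t) * h * (t * t) := by simp only [mul_assoc]
            _ = h := by rw [htt, one_mul, mul_one]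
        rwa [h5] at this
    have hpg := IsPGroup.to_sup_of_normal_right' hpg1 hpg2 hnorm
    obtain ⟨Q, hQ⟩ := hpg.exists_le_sylow
    obtain ⟨g, rfl⟩ := MulAction.exists_smul_eq G S Q
    have htQ : t ∈ ((g • S : Sylow 2 G) : Subgroup G) :=
      hQ (Subgroup.mem_sup_left (Subgroup.mem_zpowers t))
    have ht'Q : t' ∈ ((g • S : Sylow 2 G) : Subgroup G) :=
      hQ (Subgroup.mem_sup_right (Subgroup.mem_zpowers t'))
    rw [Cfsg.Agent.S0231.mem_smul_sylow] at htQ ht'Q
    have e1 : g⁻¹ * t * g = t := by
      have := hiso g⁻¹ (by rw [inv_inv]; exact htQ)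
      rwa [inv_inv] at this
    have e2 : g⁻¹ * t' * g = t := by
      have h6 : g⁻¹ * t' * g = (g⁻¹ * r ^ k) * t * (g⁻¹ * r ^ k)⁻¹ := by
        rw [ht']; group
      rw [h6]
      apply hiso
      rw [← h6]; exact ht'Q
    have e3 : t' = t := by
      have : g⁻¹ * t' * g = g⁻¹ * t * g := by rw [e1, e2]
      have h7 := mul_right_cancel this
      exact mul_left_cancel h7
    rw [hzt] at e3
    apply hz1
    calc z = z * t * t := by rw [mul_assoc, htt, mul_one]
      _ = t * t := by rw [e3]
      _ = 1 := htt
  · obtain ⟨k, hk⟩ := hodd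
    rw [hm', hk]
    omega

end Cfsg.Agent.S0229
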