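import Cfsg.Statements.S0232
import Mathlib
import Cfsg.Agent.S0111
import Cfsg.Agent.S0233
-- import your own Cfsg.Agent.* helpers here

set_option autoImplicit false
open Cfsg

namespace Cfsg.Agent.S0232

universe u

open Cfsg.Agent.S0233 in
/-- The number of involutions is at least the index of the centralizer of an involution. -/
theorem index_centralizer_le_card_invs {G : Type*} [Group G] [Fintype G] {t : G}
    (ht : t ∈ invs G) : (Subgroup.centralizer ({t} : Set G)).index ≤ (invs G).card := by
  classical
  have hconj : ∀ g : G, g * t * g⁻¹ ∈ invs G := by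
    intro g
    rw [mem_invs] at ht ⊢
    have h : g * t * g⁻¹ = MulAut.conj g t := by simp [MulAut.conj_apply]
    rw [h, MulEquiv.orderOf_eq]
    exact ht
  let f : (G ⧸ Subgroup.centralizer ({t} : Set G)) → {x : G // x ∈ invs G} := fun q =>
    Quotient.liftOn' q (fun g => (⟨g * t * g⁻¹, hconj g⟩ : {x : G // x ∈ invs G})) (by
      intro g₁ g₂ h
      rw [QuotientGroup.leftRel_apply, mem_centralizer_singleton] at h
      apply Subtype.ext
      show g₁ * t * g₁⁻¹ = g₂ * t * g₂⁻¹
      calc g₁ * t * g₁⁻¹ = g₁ * (g₁⁻¹ * g₂ * t * (g₁⁻¹ * g₂)⁻¹) * g₁⁻¹ := by rw [h]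
        _ = g₂ * t * g₂⁻¹ := by group)
  have hf : Function.Injective f := by
    intro q₁ q₂
    induction q₁ using Quotient.inductionOn' with
    | h g₁ =>
      induction q₂ using Quotient.inductionOn' with
      | h g₂ =>
        intro h
        have h' : g₁ * t * g₁⁻¹ = g₂ * t * g₂⁻¹ := congrArg Subtype.val h
        apply Quotient.sound'
        rw [QuotientGroup.leftRel_apply, mem_centralizer_singleton]
        calc g₁⁻¹ * g₂ * t * (g₁⁻¹ * g₂)⁻¹ = g₁⁻¹ * (g₂ * t * g₂⁻¹) * g₁ := by group
          _ = g₁⁻¹ * (g₁ * t * g₁⁻¹) * g₁ := by rw [h']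
          _ = t := by group
  have : Fintype (G ⧸ Subgroup.centralizer ({t} : Set G)) := Fintype.ofFinite _
  have h1 := Fintype.card_le_of_injective f hf
  rw [Fintype.card_coe] at h1
  rw [Subgroup.index_eq_card, Nat.card_eq_fintype_card]
  exact h1

/-- A finite group of order `2k` with `k` odd has a subgroup of index `2`. -/
theorem exists_index_two_of_card {G : Type*} [Group G] [Finite G] (k : ℕ) (hk : Odd k)
    (hG : Nat.card G = 2 * k) : ∃ H : Subgroup G, H.index = 2 := by
  classical
  have : Fintype G := Fintype.ofFinite G
  have : Fact (Nat.Prime 2) := ⟨Nat.prime_two⟩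
  obtain ⟨z, hz⟩ := exists_prime_orderOf_dvd_card' (G := G) 2 (by rw [hG]; exact dvd_mul_right 2 k)
  let φ : G →* Equiv.Perm G := MulAction.toPermHom G G
  have hφ2 : orderOf (φ z) = 2 := by
    refine orderOf_eq_prime ?_ ?_
    · rw [← map_pow, ← hz, pow_orderOf_eq_one, map_one]
    · intro h
      have h1 : (φ z) 1 = (1 : G) := by rw [h]; rfl
      have h2 : z * 1 = 1 := h1
      rw [mul_one] at h2
      rw [h2, orderOf_one] at hz
      omega
  have hfix : ∀ x : G, (φ z) x ≠ x := by
    intro x h
    have h2 : z * x = x := h
    have h3 : z = 1 := mul_right_cancel (h2.trans (one_mul x).symm)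
    rw [h3, orderOf_one] at hz
    omega
  have hcard : Fintype.card G = 2 * k := by rw [← Nat.card_eq_fintype_card]; exact hG
  have hsign : Equiv.Perm.sign (φ z) = -1 :=
    Cfsg.Agent.S0111.sign_fpf_involution (φ z) hφ2 hfix k hcard hk
  let f : G →* ℤˣ := (Equiv.Perm.sign).comp φ
  refine ⟨f.ker, ?_⟩
  rw [Subgroup.index_ker]
  have hdvd : Nat.card f.range ∣ Nat.card ℤˣ := Subgroup.card_subgroup_dvd_card _
  have h2 : Nat.card ℤˣ = 2 := by
    rw [Nat.card_eq_fintype_card]; rfl
  rw [h2] at hdvd
  rcases (Nat.dvd_prime Nat.prime_two).mp hdvd with h1 | h1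
  · exfalso
    have hbot : f.range = ⊥ := Subgroup.card_eq_one.mp h1
    have hmem : f z ∈ f.range := ⟨z, rfl⟩
    rw [hbot, Subgroup.mem_bot] at hmem
    have : f z = -1 := hsign
    rw [this] at hmem
    exact absurd hmem (by decide)
  · exact h1

open Cfsg.Agent.S0233 in
theorem main : ∀ (n : ℕ) (G : Type u) [Group G] [Finite G], Nat.card G = n → Even n → 2 < n →
    ∃ H : Subgroup G, H ≠ ⊤ ∧ Nat.card G < (Nat.card H) ^ 3 := by
  intro n
  induction n using Nat.strong_induction_on with
  | _ n ih =>
    intro G _ _ hG heven hgt
    classical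
    have : Fintype G := Fintype.ofFinite G
    have : Fact (Nat.Prime 2) := ⟨Nat.prime_two⟩
    by_cases h2 : ∃ H : Subgroup G, H.index = 2
    · -- a subgroup of index 2
      obtain ⟨H, hH⟩ := h2
      refine ⟨H, ?_, ?_⟩
      · intro h
        rw [h, Subgroup.index_top] at hH
        omega
      · have h1 := Subgroup.card_mul_index H
        rw [hH, hG] at h1
        rw [hG]
        have hh : 2 ≤ Nat.card H := by omega
        have h3 : Nat.card H ^ 3 = Nat.card H * (Nat.card H * Nat.card H) := by ring
        rw [h3]
        nlinarith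
    · rw [not_exists] at h2
      by_cases hZ : Odd (Nat.card (Subgroup.center G))
      · -- centre of odd order: the Brauer-Fowler counting inequality
        have hbot : (⊥ : Subgroup G) ≠ ⊤ := by
          intro h
          have h1 : Nat.card (⊥ : Subgroup G) = Nat.card (⊤ : Subgroup G) := by rw [h]
          rw [Subgroup.card_bot, Subgroup.card_top] at h1
          omega
        have hP : ∃ m, ∃ H : Subgroup G, H ≠ ⊤ ∧ H.index = m := ⟨_, ⊥, hbot, rfl⟩
        obtain ⟨H, hHne, hHm⟩ := Nat.find_spec hP
        have hmin : ∀ K : Subgroup G, K ≠ ⊤ → Nat.find hP ≤ K.index :=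
          fun K hK => Nat.find_min' hP ⟨K, hK, rfl⟩
        have hcore := core h2 hZ (Nat.find hP) hmin
        rw [← hHm] at hcore hmin
        obtain ⟨t, ht⟩ := exists_prime_orderOf_dvd_card' (G := G) 2
          (by rw [hG]; exact even_iff_two_dvd.mp heven)
        have htI : t ∈ invs G := mem_invs.mpr ht
        have hCt := centralizer_ne_top_of_odd_center hZ htI
        have hnm : H.index ≤ (invs G).card :=
          (hmin _ hCt).trans (index_centralizer_le_card_invs htI)
        refine ⟨H, hHne, ?_⟩
        have hcard := Subgroup.card_mul_index H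
        have hmpos : 0 < H.index := Nat.pos_of_ne_zero Subgroup.index_ne_zero_of_finite
        have hhpos : 0 < Nat.card H := Nat.card_pos
        rw [← Nat.card_eq_fintype_card, ← hcard] at hcore
        rw [← hcard]
        -- arithmetic
        generalize Nat.card H = h at *
        generalize H.index = m at *
        generalize (invs G).card = k at *
        have e1 : m * (2 * k ^ 2 + 2 * k) ≤ m * (h * (h * m + k)) := by
          calc m * (2 * k ^ 2 + 2 * k) = 2 * m * k ^ 2 + 2 * m * k := by ring
            _ ≤ h * m * (h * m + k) := hcore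
            _ = m * (h * (h * m + k)) := by ring
        have e2 : 2 * k ^ 2 + 2 * k ≤ h * (h * m + k) := Nat.le_of_mul_le_mul_left e1 hmpos
        have hkpos : 0 < k := lt_of_lt_of_le hmpos hnm
        have e3 : k * (2 * k + 2) ≤ k * (h ^ 2 + h) := by
          calc k * (2 * k + 2) = 2 * k ^ 2 + 2 * k := by ring
            _ ≤ h * (h * m + k) := e2
            _ = h ^ 2 * m + h * k := by ring
            _ ≤ h ^ 2 * k + h * k := by
                have := Nat.mul_le_mul_left (h ^ 2) hnm
                omega
            _ = k * (h ^ 2 + h) := by ring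
        have e4 : 2 * k + 2 ≤ h ^ 2 + h := Nat.le_of_mul_le_mul_left e3 hkpos
        have e5 : h * m ≤ h * k := Nat.mul_le_mul_left h hnm
        have e6 : h * (2 * k + 2) ≤ h * (h ^ 2 + h) := Nat.mul_le_mul_left h e4
        have e7 : h ^ 2 ≤ h ^ 3 := Nat.pow_le_pow_right hhpos (by norm_num)
        have e8 : h * (h ^ 2 + h) = h ^ 3 + h ^ 2 := by ring
        have e9 : h * (2 * k + 2) = 2 * (h * k) + 2 * h := by ring
        omega
      · -- centre of even order: pass to the quotient by a central involution
        rw [Nat.not_odd_iff_even] at hZ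
        obtain ⟨z, hz⟩ := exists_prime_orderOf_dvd_card' (G := Subgroup.center G) 2
          (even_iff_two_dvd.mp hZ)
        have hNn : (Subgroup.zpowers (z : G)).Normal := by
          refine ⟨fun x hx g => ?_⟩
          have hxc : x ∈ Subgroup.center G := (Subgroup.zpowers_le.mpr z.2) hx
          have h1 : g * x * g⁻¹ = x := by
            rw [Subgroup.mem_center_iff] at hxc
            rw [hxc g]; group
          rw [h1]; exact hx
        have hNcard : Nat.card (Subgroup.zpowers (z : G)) = 2 := by
          rw [Nat.card_zpowers, Subgroup.orderOf_coe, hz]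
        have hQ : Nat.card (G ⧸ Subgroup.zpowers (z : G)) * 2 = n := by
          rw [← hG, ← hNcard]
          exact (Subgroup.card_eq_card_quotient_mul_card_subgroup _).symm
        rcases Nat.even_or_odd (Nat.card (G ⧸ Subgroup.zpowers (z : G))) with hQe | hQo
        · by_cases hQ2 : Nat.card (G ⧸ Subgroup.zpowers (z : G)) = 2
          · exfalso
            apply h2 (Subgroup.zpowers (z : G))
            rw [Subgroup.index_eq_card]; exact hQ2
          · have hQgt : 2 < Nat.card (G ⧸ Subgroup.zpowers (z : G)) := by
              obtain ⟨k, hk⟩ := hQe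
              omega
            have hlt : Nat.card (G ⧸ Subgroup.zpowers (z : G)) < n := by omega
            obtain ⟨Hbar, hHbar, hlt2⟩ :=
              ih _ hlt (G ⧸ Subgroup.zpowers (z : G)) rfl hQe hQgt
            have hsurj := QuotientGroup.mk'_surjective (Subgroup.zpowers (z : G))
            refine ⟨Hbar.comap (QuotientGroup.mk' (Subgroup.zpowers (z : G))), ?_, ?_⟩
            · intro h
              apply hHbar
              have h1 := Subgroup.map_comap_eq_self_of_surjective hsurj Hbar
              rw [h, Subgroup.map_top_of_surjective _ hsurj] at h1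
              exact h1.symm
            · have hidx : (Hbar.comap (QuotientGroup.mk' (Subgroup.zpowers (z : G)))).index
                  = Hbar.index := Subgroup.index_comap_of_surjective _ hsurj
              have h1 := Subgroup.card_mul_index
                (Hbar.comap (QuotientGroup.mk' (Subgroup.zpowers (z : G))))
              have h2' := Subgroup.card_mul_index Hbar
              rw [hidx] at h1
              have hidxpos : 0 < Hbar.index :=
                Nat.pos_of_ne_zero Subgroup.index_ne_zero_of_finite
              have hc : Nat.card (Hbar.comap (QuotientGroup.mk' (Subgroup.zpowers (z : G))))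
                  = 2 * Nat.card Hbar := by
                apply Nat.eq_of_mul_eq_mul_right hidxpos
                rw [h1, hG, ← hQ, ← h2']; ring
              rw [hc, hG, ← hQ]
              have h3 : (2 * Nat.card Hbar) ^ 3 = 8 * Nat.card Hbar ^ 3 := by ring
              rw [h3]
              omega
        · exfalso
          obtain ⟨H, hH⟩ := exists_index_two_of_card (G := G)
            (Nat.card (G ⧸ Subgroup.zpowers (z : G))) hQo (by rw [hG, ← hQ]; ring)
          exact h2 H hH

/-- A finite group G of even order greater than 2 has a proper subgroup H with |G| < |H|^3. -/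
theorem result {G : Type*} [Group G] [Finite G] (heven : Even (Nat.card G)) (hgt : 2 < Nat.card G) : ∃ H : Subgroup G, H ≠ ⊤ ∧ Nat.card G < (Nat.card H) ^ 3 := by
  exact main _ G rfl heven hgt

end Cfsg.Agent.S0232
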