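import Cfsg.Statements.S0234
import Mathlib
import Cfsg.Agent.S0233
import Cfsg.Agent.S0991
-- import your own Cfsg.Agent.* helpers here

set_option autoImplicit false
open Cfsg

namespace Cfsg.Agent.S0234

theorem card_alt (m : ℕ) (hm : 2 ≤ m) :
    2 * Nat.card (alternatingGroup (Fin m)) = m.factorial := by
  have : Nontrivial (Fin m) := Fin.nontrivial_iff_two_le.mpr hm
  rw [Nat.card_eq_fintype_card, two_mul_card_alternatingGroup, Fintype.card_perm,
    Fintype.card_fin]

/-- The alternating group of degree five has at most 15 involutions. -/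
theorem invs_A5 : Nat.card {σ : alternatingGroup (Fin 5) // orderOf σ = 2} ≤ 15 := by
  classical
  have h15 : (Finset.univ.filter (fun σ : Equiv.Perm (Fin 5) =>
      Equiv.Perm.sign σ = 1 ∧ σ ≠ 1 ∧ σ * σ = 1)).card = 15 := by decide
  rw [← h15, Nat.card_eq_fintype_card, ← Fintype.card_subtype]
  refine Fintype.card_le_of_injective
    (fun σ => ⟨σ.1.1, Equiv.Perm.mem_alternatingGroup.mp σ.1.2, ?_, ?_⟩) ?_
  · intro h
    have h1 : σ.1 = 1 := Subtype.ext h
    have h2 := σ.2
    rw [h1, orderOf_one] at h2
    omega
  · have h2 := σ.2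
    have h3 := pow_orderOf_eq_one σ.1
    rw [h2, sq] at h3
    have h4 := congrArg Subtype.val h3
    exact h4
  · intro σ τ h
    have h1 : σ.1.1 = τ.1.1 := Subtype.mk.inj h
    exact Subtype.ext (Subtype.ext h1)

/-- The case analysis on the minimal index `m ≤ 5`. -/
theorem aux {G : Type*} [Group G] [Finite G] [IsSimpleGroup G] (hnc : ¬ IsMulCommutative G)
    (heven : Even (Nat.card G)) (hgt : 2 < Nat.card G)
    (m : ℕ) (f : G →* ↥(alternatingGroup (Fin m))) (hf : Function.Injective f)
    (h : ℕ) (hg : h * m = Nat.card G)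
    (hmin : ∀ K : Subgroup G, K ≠ ⊤ → m ≤ K.index) (hm2 : 2 < m) (hm5 : m ≤ 5)
    (k : ℕ) (hk : k = Nat.card {t : G // orderOf t = 2})
    (hcore : 2 * m * k ^ 2 + 2 * m * k ≤ Nat.card G * (Nat.card G + k))
    (hcon : Nat.card G ≤ 3 * k) : False := by
  have : Fact (Nat.Prime 2) := ⟨Nat.prime_two⟩
  have hdvd : Nat.card G ∣ Nat.card (alternatingGroup (Fin m)) :=
    Subgroup.card_dvd_of_injective f hf
  have h2dvd : 2 ∣ Nat.card G := even_iff_two_dvd.mp heven
  interval_cases m
  · -- m = 3
    have hc := card_alt 3 (by norm_num)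
    have hc3 : Nat.card (alternatingGroup (Fin 3)) = 3 := by
      have : Nat.factorial 3 = 6 := by decide
      omega
    rw [hc3] at hdvd
    have := Nat.le_of_dvd (by norm_num) hdvd
    have h3 : Nat.card G = 3 := by omega
    omega
  · -- m = 4
    have hc := card_alt 4 (by norm_num)
    have hc4 : Nat.card (alternatingGroup (Fin 4)) = 12 := by
      have : Nat.factorial 4 = 24 := by decide
      omega
    rw [hc4] at hdvd
    have hle := Nat.le_of_dvd (by norm_num) hdvd
    have hcases : Nat.card G = 4 ∨ Nat.card G = 12 := by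
      have hmem : Nat.card G ∈ Nat.divisors 12 := Nat.mem_divisors.mpr ⟨hdvd, by norm_num⟩
      have hdiv : Nat.divisors 12 = {1, 2, 3, 4, 6, 12} := by decide
      rw [hdiv] at hmem
      simp only [Finset.mem_insert, Finset.mem_singleton] at hmem
      omega
    rcases hcases with h4 | h12
    · apply hnc
      exact IsPGroup.isMulCommutative_of_card_eq_prime_sq (p := 2) (by rw [h4]; norm_num)
    · obtain ⟨K, hK⟩ := Sylow.exists_subgroup_card_pow_prime (G := G) 2 (n := 2)
        (by rw [h12]; norm_num)
      have hKidx := Subgroup.card_mul_index K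
      rw [hK, h12] at hKidx
      have hKne : K ≠ ⊤ := by
        intro htop
        rw [htop, Subgroup.card_top, h12] at hK
        omega
      have := hmin K hKne
      omega
  · -- m = 5
    have hc := card_alt 5 (by norm_num)
    have hc5 : Nat.card (alternatingGroup (Fin 5)) = 60 := by
      have : Nat.factorial 5 = 120 := by decide
      omega
    rw [hc5] at hdvd
    have hle := Nat.le_of_dvd (by norm_num) hdvd
    have hcases : Nat.card G = 10 ∨ Nat.card G = 20 ∨ Nat.card G = 30 ∨ Nat.card G = 60 := by
      have hmem : Nat.card G ∈ Nat.divisors 60 := Nat.mem_divisors.mpr ⟨hdvd, by norm_num⟩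
      have hdiv : Nat.divisors 60 = {1, 2, 3, 4, 5, 6, 10, 12, 15, 20, 30, 60} := by decide
      rw [hdiv] at hmem
      simp only [Finset.mem_insert, Finset.mem_singleton] at hmem
      omega
    rcases hcases with h10 | h20 | h30 | h60
    · rw [h10, sq] at hcore
      rw [h10] at hcon
      have hk4 : 4 ≤ k := by omega
      have := Nat.mul_le_mul_right k hk4
      omega
    · rw [h20, sq] at hcore
      rw [h20] at hcon
      have hk7 : 7 ≤ k := by omega
      have := Nat.mul_le_mul_right k hk7
      omega
    · -- the image has index 2 in the simple group A₅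
      have hrange : Nat.card f.range = 30 := by
        rw [← h30]
        exact (Nat.card_congr (Equiv.ofInjective f hf)).symm
      have hidx := Subgroup.card_mul_index f.range
      rw [hrange, hc5] at hidx
      have hidx2 : f.range.index = 2 := by omega
      have hn : f.range.Normal := Subgroup.normal_of_index_eq_two hidx2
      rcases hn.eq_bot_or_eq_top with hb | ht
      · rw [hb, Subgroup.card_bot] at hrange
        omega
      · rw [ht, Subgroup.card_top, hc5] at hrange
        omega
    · -- G ≅ A₅, which has 15 involutions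
      have hle15 : k ≤ 15 := by
        rw [hk]
        refine le_trans ?_ invs_A5
        refine Nat.card_le_card_of_injective
          (fun t : {t : G // orderOf t = 2} =>
            (⟨f t.1, by rw [orderOf_injective f hf]; exact t.2⟩ :
              {σ : alternatingGroup (Fin 5) // orderOf σ = 2})) ?_
        intro a b hab
        have h1 : f a.1 = f b.1 := congrArg Subtype.val hab
        exact Subtype.ext (hf h1)
      omega

/-- In a finite simple group G of even order greater than 2, the number n of involutions satisfies 3n < |G|. -/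
theorem result {G : Type*} [Group G] [Finite G] [IsSimpleGroup G] (heven : Even (Nat.card G)) (hgt : 2 < Nat.card G) : 3 * Nat.card {t : G // orderOf t = 2} < Nat.card G := by
  classical
  by_contra hcon
  rw [not_lt] at hcon
  have : Fintype G := Fintype.ofFinite G
  have : Fact (Nat.Prime 2) := ⟨Nat.prime_two⟩
  obtain ⟨t, ht⟩ := exists_prime_orderOf_dvd_card' (G := G) 2 (even_iff_two_dvd.mp heven)
  -- `G` is not commutative
  have hnc : ¬ IsMulCommutative G := by
    intro hc
    have hN : (Subgroup.zpowers t).Normal := by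
      refine ⟨fun x hx g => ?_⟩
      have h1 : g * x * g⁻¹ = x := by
        rw [mul_comm' g x, mul_assoc, mul_inv_cancel, mul_one]
      rw [h1]; exact hx
    rcases hN.eq_bot_or_eq_top with hb | htop
    · have h1 : t ∈ (⊥ : Subgroup G) := hb ▸ Subgroup.mem_zpowers t
      rw [Subgroup.mem_bot] at h1
      rw [h1, orderOf_one] at ht
      omega
    · have h1 : Nat.card (Subgroup.zpowers t) = Nat.card G := by
        rw [htop, Subgroup.card_top]
      rw [Nat.card_zpowers, ht] at h1
      omega
  -- no subgroup of index 2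
  have hno2 : ∀ K : Subgroup G, K.index ≠ 2 := by
    intro K hK
    have hKn : K.Normal := Subgroup.normal_of_index_eq_two hK
    rcases hKn.eq_bot_or_eq_top with hb | htop
    · rw [hb, Subgroup.index_bot] at hK; omega
    · rw [htop, Subgroup.index_top] at hK; omega
  -- the centre is trivial
  have hZ : Odd (Nat.card (Subgroup.center G)) := by
    rcases (inferInstance : (Subgroup.center G).Normal).eq_bot_or_eq_top with hb | htop
    · rw [hb, Subgroup.card_bot]; exact odd_one
    · exfalso
      apply hnc
      refine ⟨⟨fun a b => ?_⟩⟩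
      have hb : b ∈ Subgroup.center G := htop ▸ Subgroup.mem_top b
      exact Subgroup.mem_center_iff.mp hb a
  -- a proper subgroup of minimal index
  have hbot : (⊥ : Subgroup G) ≠ ⊤ := by
    intro h
    have h1 : Nat.card (⊥ : Subgroup G) = Nat.card (⊤ : Subgroup G) := by rw [h]
    rw [Subgroup.card_bot, Subgroup.card_top] at h1
    omega
  have hP : ∃ m, ∃ H : Subgroup G, H ≠ ⊤ ∧ H.index = m := ⟨_, ⊥, hbot, rfl⟩
  obtain ⟨H, hHne, hHm⟩ := Nat.find_spec hP
  have hmin : ∀ K : Subgroup G, K ≠ ⊤ → Nat.find hP ≤ K.index :=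
    fun K hK => Nat.find_min' hP ⟨K, hK, rfl⟩
  have hcore := Cfsg.Agent.S0233.core hno2 hZ (Nat.find hP) hmin
  rw [← hHm] at hcore hmin
  have hcardn : Nat.card {t : G // orderOf t = 2} = (Cfsg.Agent.S0233.invs G).card := by
    rw [Nat.card_eq_fintype_card, Fintype.card_subtype]
    rfl
  rw [← Nat.card_eq_fintype_card, ← hcardn] at hcore
  have hkpos : 0 < Nat.card {t : G // orderOf t = 2} := by
    rw [hcardn]
    exact Finset.card_pos.mpr ⟨t, Cfsg.Agent.S0233.mem_invs.mpr ht⟩
  have hmpos : 0 < H.index := Nat.pos_of_ne_zero Subgroup.index_ne_zero_of_finite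
  have hm1 : H.index ≠ 1 := by
    rw [Ne, Subgroup.index_eq_one]; exact hHne
  have hm2 : H.index ≠ 2 := hno2 H
  have hm5 : H.index ≤ 5 := by
    by_contra h6
    rw [not_le] at h6
    have h6' : 6 ≤ H.index := h6
    nlinarith [Nat.mul_le_mul h6' (le_refl (Nat.card {t : G // orderOf t = 2} ^ 2))]
  obtain ⟨f, hf⟩ := Cfsg.Agent.S0991.result hnc H hHne
  exact aux hnc heven hgt H.index f hf (Nat.card H) (Subgroup.card_mul_index H) hmin
    (by omega) hm5 _ rfl hcore hcon

end Cfsg.Agent.S0234
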