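import Mathlib
import Cfsg.Statements.S0238
import Cfsg.Agent.Lib.Helper4.Invol
import Cfsg.Agent.S0236
import Cfsg.Agent.S0237

set_option autoImplicit false
open Cfsg

namespace Cfsg.Agent.S0238

open Cfsg.Agent.Lib.Helper4

theorem fst_inverts {G : Type*} [Group G] {x u v : G} (hu : orderOf u = 2) (hv : orderOf v = 2)
    (huv : u * v = x) : u * x * u⁻¹ = x⁻¹ := by
  rw [← huv, mul_inv_rev, inv_eq_self_of_orderOf_two hu, inv_eq_self_of_orderOf_two hv,
      ← mul_assoc, mul_self_of_orderOf_two hu, one_mul]

theorem card_pairs_le {G : Type*} [Group G] [Finite G] (x : G) :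
    Nat.card {p : G × G // orderOf p.1 = 2 ∧ orderOf p.2 = 2 ∧ p.1 * p.2 = x} ≤
      Nat.card {g : G // g * x * g⁻¹ = x⁻¹} := by
  apply Nat.card_le_card_of_injective
    (fun p : {p : G × G // orderOf p.1 = 2 ∧ orderOf p.2 = 2 ∧ p.1 * p.2 = x} =>
      (⟨p.1.1, fst_inverts p.2.1 p.2.2.1 p.2.2.2⟩ : {g : G // g * x * g⁻¹ = x⁻¹}))
  rintro ⟨⟨u, v⟩, hu, hv, huv⟩ ⟨⟨u', v'⟩, hu', hv', huv'⟩ h
  simp only [Subtype.mk.injEq] at h
  subst h
  apply Subtype.ext
  simp only [Prod.mk.injEq, true_and]
  have : u * v = u * v' := huv.trans huv'.symm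
  exact mul_left_cancel this

/-- For every x in a finite group G, the number c of ordered pairs (u, v) of involutions with uv = x is at most |C_G(x)|; c = 0 when x is not conjugate to x⁻¹; and c + 2 ≤ |C_G(x)| when x is an involution. -/
theorem result {G : Type*} [Group G] [Finite G] (x : G) : Nat.card {p : G × G // orderOf p.1 = 2 ∧ orderOf p.2 = 2 ∧ p.1 * p.2 = x} ≤ Nat.card (Subgroup.centralizer ({x} : Set G)) ∧ (¬ IsConj x x⁻¹ → Nat.card {p : G × G // orderOf p.1 = 2 ∧ orderOf p.2 = 2 ∧ p.1 * p.2 = x} = 0) ∧ (orderOf x = 2 → Nat.card {p : G × G // orderOf p.1 = 2 ∧ orderOf p.2 = 2 ∧ p.1 * p.2 = x} + 2 ≤ Nat.card (Subgroup.centralizer ({x} : Set G))) := by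
  have h2 : ¬ IsConj x x⁻¹ → Nat.card {p : G × G // orderOf p.1 = 2 ∧ orderOf p.2 = 2 ∧ p.1 * p.2 = x} = 0 := by
    intro hnc
    rw [Nat.card_eq_zero]
    left
    constructor
    rintro ⟨⟨u, v⟩, hu, hv, huv⟩
    exact hnc (isConj_iff.mpr ⟨u, fst_inverts hu hv huv⟩)
  refine ⟨?_, h2, ?_⟩
  · by_cases hc : IsConj x x⁻¹
    · rw [← Cfsg.Agent.S0237.result x hc]
      exact card_pairs_le x
    · rw [h2 hc]; exact Nat.zero_le _
  · intro hx
    have h := Cfsg.Agent.S0236.result x hx
    have : Nat.card {t : G // orderOf t = 2 ∧ Commute t x} + 1 ≤ Nat.card (Subgroup.centralizer ({x} : Set G)) := by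
      rw [← Finite.card_option]
      apply Nat.card_le_card_of_injective
        (fun o : Option {t : G // orderOf t = 2 ∧ Commute t x} => match o with
          | none => (1 : Subgroup.centralizer ({x} : Set G))
          | some t => ⟨t.1, Subgroup.mem_centralizer_singleton_iff.mpr t.2.2.eq⟩)
      intro a b hab
      cases a with
      | none =>
        cases b with
        | none => rfl
        | some t =>
          exfalso
          simp only at hab
          have := congrArg Subtype.val hab
          simp only [Subgroup.coe_one] at this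
          exact ne_one_of_orderOf_two t.2.1 this.symm
      | some s =>
        cases b with
        | none =>
          exfalso
          simp only at hab
          have := congrArg Subtype.val hab
          simp only [Subgroup.coe_one] at this
          exact ne_one_of_orderOf_two s.2.1 this
        | some t =>
          simp only at hab
          have := congrArg Subtype.val hab
          simp only at this
          congr 1
          exact Subtype.ext this
    omega

end Cfsg.Agent.S0238
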