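import Mathlib
import Cfsg.Statements.S0240
import Cfsg.Agent.Lib.Helper4.Invol

set_option autoImplicit false
open Cfsg

namespace Cfsg.Agent.S0240

open Cfsg.Agent.Lib.Helper4

/-- Let G be a finite group with n involutions and H a subgroup with |H|·(n+1) > |G|. Then some nontrivial h ∈ H is strongly real in G: an involution t of G satisfies t h t⁻¹ = h⁻¹. -/
theorem result {G : Type*} [Group G] [Finite G] (H : Subgroup G) (hH : Nat.card G < Nat.card H * (Nat.card {t : G // orderOf t = 2} + 1)) : ∃ h : G, h ∈ H ∧ h ≠ 1 ∧ ∃ t : G, orderOf t = 2 ∧ t * h * t⁻¹ = h⁻¹ := by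
  classical
  let f : Option {t : G // orderOf t = 2} → G ⧸ H := fun o => match o with
    | none => ((1 : G) : G ⧸ H)
    | some t => ((t.1 : G) : G ⧸ H)
  have hnotinj : ¬ Function.Injective f := by
    intro hinj
    have h1 := Nat.card_le_card_of_injective f hinj
    rw [Finite.card_option] at h1
    have h2 := Subgroup.card_eq_card_quotient_mul_card_subgroup H
    have hpos : 0 < Nat.card H := Nat.card_pos
    have : Nat.card H * (Nat.card {t : G // orderOf t = 2} + 1) ≤ Nat.card H * Nat.card (G ⧸ H) :=
      Nat.mul_le_mul_left _ h1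
    rw [mul_comm (Nat.card H) (Nat.card (G ⧸ H)), ← h2] at this
    omega
  rw [Function.Injective] at hnotinj
  push_neg at hnotinj
  obtain ⟨a, b, hab, hne⟩ := hnotinj
  -- the two cases
  have case1 : ∀ t : {t : G // orderOf t = 2}, ((1 : G) : G ⧸ H) = ((t.1 : G) : G ⧸ H) →
      ∃ h : G, h ∈ H ∧ h ≠ 1 ∧ ∃ t : G, orderOf t = 2 ∧ t * h * t⁻¹ = h⁻¹ := by
    intro t ht
    rw [QuotientGroup.eq] at ht
    simp only [inv_one, one_mul] at ht
    refine ⟨t.1, ht, ne_one_of_orderOf_two t.2, t.1, t.2, ?_⟩
    simp [inv_eq_self_of_orderOf_two t.2, mul_self_of_orderOf_two t.2]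
  cases a with
  | none =>
    cases b with
    | none => exact absurd rfl hne
    | some t => exact case1 t hab
  | some u =>
    cases b with
    | none => exact case1 u hab.symm
    | some v =>
      have huv : ((u.1 : G) : G ⧸ H) = ((v.1 : G) : G ⧸ H) := hab
      rw [QuotientGroup.eq] at huv
      have hu := u.2
      have hv := v.2
      have hui := inv_eq_self_of_orderOf_two hu
      have hvi := inv_eq_self_of_orderOf_two hv
      refine ⟨u.1⁻¹ * v.1, huv, ?_, u.1, hu, ?_⟩
      · intro h1
        apply hne
        have : u.1 = v.1 := by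
          have := congrArg (fun z => u.1 * z) h1
          simpa using this.symm
        exact congrArg some (Subtype.ext this)
      · rw [mul_inv_rev, inv_inv, hui, hvi, ← mul_assoc, mul_self_of_orderOf_two hu, one_mul]

end Cfsg.Agent.S0240
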