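import Mathlib
import Cfsg.Statements.S0241
import Cfsg.Agent.Lib.Helper4.Invol

set_option autoImplicit false
open Cfsg

namespace Cfsg.Agent.S0241

open Cfsg.Agent.Lib.Helper4

/-- If x ≠ 1 is conjugate to x⁻¹ in a finite group G and |C_G(x)| is odd, then some involution t satisfies t x t⁻¹ = x⁻¹. -/
theorem result {G : Type*} [Group G] [Finite G] (x : G) (hx : x ≠ 1) (hreal : IsConj x x⁻¹) (hodd : Odd (Nat.card (Subgroup.centralizer ({x} : Set G)))) : ∃ t : G, orderOf t = 2 ∧ t * x * t⁻¹ = x⁻¹ := by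
  obtain ⟨c, hc⟩ := isConj_iff.mp hreal
  have h1 : c * x⁻¹ * c⁻¹ = x := by
    have : (c * x * c⁻¹)⁻¹ = x := by rw [hc, inv_inv]
    simpa [mul_assoc] using this
  have h2 : Commute (c ^ 2) x := by
    have : c ^ 2 * x * (c ^ 2)⁻¹ = x := by
      calc c ^ 2 * x * (c ^ 2)⁻¹ = c * (c * x * c⁻¹) * c⁻¹ := by
            simp [pow_two, mul_assoc]
        _ = x := by rw [hc, h1]
    exact (mul_inv_eq_iff_eq_mul.mp this)
  have hmem : c ^ 2 ∈ Subgroup.centralizer ({x} : Set G) :=
    Subgroup.mem_centralizer_singleton_iff.mpr h2.eq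
  have hm : Odd (orderOf (c ^ 2)) := by
    have := orderOf_dvd_natCard (⟨c ^ 2, hmem⟩ : Subgroup.centralizer ({x} : Set G))
    rw [Subgroup.orderOf_mk] at this
    exact Odd.of_dvd_nat hodd this
  obtain ⟨k, hk⟩ := hm
  have hck : Commute ((c ^ 2) ^ k) x⁻¹ := (h2.pow_left k).inv_right
  refine ⟨(c ^ 2) ^ k * c, ?_, ?_⟩
  · apply orderOf_two_of
    · have hcc : Commute ((c ^ 2) ^ k) c := ((Commute.refl c).pow_left 2).pow_left k
      calc (c ^ 2) ^ k * c * ((c ^ 2) ^ k * c) = (c ^ 2) ^ k * (c * (c ^ 2) ^ k) * c := by group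
        _ = (c ^ 2) ^ k * ((c ^ 2) ^ k * c) * c := by rw [hcc.eq]
        _ = (c ^ 2) ^ (2 * k + 1) := by
            have hcc2 : c * c = c ^ 2 := (pow_two c).symm
            generalize c ^ 2 = d at *
            rw [mul_assoc, mul_assoc, hcc2, ← mul_assoc, ← pow_add, ← pow_succ, two_mul]
        _ = 1 := by rw [← hk, pow_orderOf_eq_one]
    · intro ht1
      -- then c = ((c^2)^k)⁻¹ commutes with x
      have hc' : c = ((c ^ 2) ^ k)⁻¹ := by
        have := congrArg (fun z => ((c ^ 2) ^ k)⁻¹ * z) ht1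
        simpa using this
      have hcx : Commute c x := by
        rw [hc']; exact (h2.pow_left k).inv_left
      have hxx : x = x⁻¹ := by
        rw [← hc, hcx.eq, mul_inv_cancel_right]
      have hx2 : x * x = 1 := by
        nth_rewrite 1 [hxx]; simp
      have ho : orderOf x = 2 := orderOf_two_of hx2 hx
      have hxmem : x ∈ Subgroup.centralizer ({x} : Set G) :=
        Subgroup.mem_centralizer_singleton_iff.mpr rfl
      have := orderOf_dvd_natCard (⟨x, hxmem⟩ : Subgroup.centralizer ({x} : Set G))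
      rw [Subgroup.orderOf_mk, ho] at this
      exact (Nat.not_even_iff_odd.mpr hodd) (even_iff_two_dvd.mpr this)
  · calc (c ^ 2) ^ k * c * x * ((c ^ 2) ^ k * c)⁻¹ = (c ^ 2) ^ k * (c * x * c⁻¹) * ((c ^ 2) ^ k)⁻¹ := by
          group
      _ = x⁻¹ := by rw [hc, hck.eq, mul_inv_cancel_right]

end Cfsg.Agent.S0241
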