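import Cfsg.Statements.S0254
import Cfsg.Agent.Lib.Helper57.ListSL2
import Cfsg.Agent.Lib.Helper57.CardSL
import Cfsg.Agent.Lib.Helper57.SpecPSU33
import Cfsg.Agent.Lib.Helper57.BinIco9
import Cfsg.Agent.Lib.Helper57.CosetAlt
import Cfsg.Agent.Lib.Helper57.PSLMap

set_option autoImplicit false
open Cfsg

namespace Cfsg.Agent.S0254

open Cfsg.Agent.Lib.Helper57 Cfsg.Agent.Lib.Helper57.BinIco9 Matrix

/-- The list group. -/
lemma hL : IsListGroup (CH.map (fC 3 2)) adj2 := CH_group.isListGroup (by norm_num)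

local notation "G" => SpecialLinearGroup (Fin 2) K9

/-- The subgroup `2.A₅`. -/
abbrev H1 : Subgroup G := hL.slSubgroup

lemma card_H1 : Nat.card H1 = 120 := by
  rw [IsListGroup.card_slSubgroup hL (nodup_map_fC 3 2 (by norm_num) CH CH_nodup CH_canon),
    List.length_map, CH_length]

lemma card_G : Nat.card G = 720 := by
  have h := card_SL_formula (F := K9) 2 (by norm_num)
  rw [card_K9, Fin.prod_univ_two] at h
  have h2 : (9 - 1) * Nat.card G = 5760 := by
    rw [h]
    norm_num
  omega

lemma index_H1 : H1.index = 6 := by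
  have h := Subgroup.card_mul_index H1
  rw [card_H1, card_G] at h
  omega

/-- Elements of `G` from codes of determinant one. -/
def rG (c : ℕ) (hc : (fC 3 2 c).det = 1) : G := ⟨fC 3 2 c, hc⟩

lemma det_r1 : (fC 3 2 270).det = 1 := by rw [Matrix.det_fin_two]; decide +kernel
lemma det_r2 : (fC 3 2 387).det = 1 := by rw [Matrix.det_fin_two]; decide +kernel
lemma det_r3 : (fC 3 2 477).det = 1 := by rw [Matrix.det_fin_two]; decide +kernel

lemma conj_mem_iff (r : ℕ) (hr : (fC 3 2 r).det = 1) (x : G) (c : ℕ)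
    (hx : (x : Matrix (Fin 2) (Fin 2) K9) = fC 3 2 c) :
    ((rG r hr)⁻¹ * x * ((rG r hr)⁻¹)⁻¹ ∈ H1) ↔ fC 3 2 (conjC r c) ∈ CH.map (fC 3 2) := by
  rw [IsListGroup.mem_slSubgroup, inv_inv]
  have h1 : (((rG r hr)⁻¹ * x * rG r hr : G) : Matrix (Fin 2) (Fin 2) K9) = fC 3 2 (conjC r c) := by
    rw [Matrix.SpecialLinearGroup.coe_mul, Matrix.SpecialLinearGroup.coe_mul,
      Matrix.SpecialLinearGroup.coe_inv, hx, ← adj2_eq_adjugate]
    simp only [conjC, rG]
    rw [fC_mulC 3 2 (by norm_num), fC_mulC 3 2 (by norm_num), fC_invC 3 2 (by norm_num)]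
  rw [h1]

lemma mem_map_fC_iff (c : ℕ) (hc : NM2.enc 3 (NM2.dec 3 c) = c) :
    fC 3 2 c ∈ CH.map (fC 3 2) ↔ c ∈ CH := by
  constructor
  · intro h
    obtain ⟨a, ha, hac⟩ := List.mem_map.1 h
    have h1 : NM2.dec 3 a = NM2.dec 3 c :=
      NM2.toM_injOn 3 2 _ _ (NM2.dec_reduced 3 (by norm_num) a) (NM2.dec_reduced 3 (by norm_num) c) hac
    have : a = c := by rw [← CH_canon a ha, ← hc, h1]
    rwa [← this]
  · exact fun h => List.mem_map_of_mem h

lemma canon_conjC (r c : ℕ) : NM2.enc 3 (NM2.dec 3 (conjC r c)) = conjC r c := by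
  simp only [conjC, mulC, natForce_eq]
  rw [NM2.dec_enc 3 _ (NM2.mul_reduced 3 2 (by norm_num) _ _)]

lemma fC_one_code : fC 3 2 730 = 1 := fC_oneC 3 2 (by norm_num)

lemma fC_neg_one_code : fC 3 2 1460 = -1 := by decide +kernel

lemma one_mem_CH : (730 : ℕ) ∈ CH := by decide +kernel

lemma neg_one_mem_CH : (1460 : ℕ) ∈ CH := by decide +kernel

lemma neg_one_mem_center : (-1 : G) ∈ Subgroup.center G := by
  rw [Matrix.SpecialLinearGroup.mem_center_iff]
  refine ⟨-1, by simp, ?_⟩
  apply Matrix.ext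
  intro i j
  fin_cases i <;> fin_cases j <;> simp [Matrix.scalar_apply]

lemma normalCore_H1 : H1.normalCore = Subgroup.center G := by
  apply le_antisymm
  · intro x hx
    have hx1 : x ∈ H1 := Subgroup.normalCore_le _ hx
    rw [IsListGroup.mem_slSubgroup] at hx1
    obtain ⟨c, hc, hcx⟩ := List.mem_map.1 hx1
    have k1 := (conj_mem_iff 270 det_r1 x c hcx.symm).1 (hx _)
    have k2 := (conj_mem_iff 387 det_r2 x c hcx.symm).1 (hx _)
    have k3 := (conj_mem_iff 477 det_r3 x c hcx.symm).1 (hx _)
    rw [mem_map_fC_iff _ (canon_conjC _ _), ← memB_iff] at k1 k2 k3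
    rcases core_check c hc k1 k2 k3 with rfl | rfl
    · have : x = 1 := by
        apply Subtype.ext
        rw [← hcx, fC_one_code]
        rfl
      rw [this]
      exact Subgroup.one_mem _
    · have : x = -1 := by
        apply Subtype.ext
        rw [← hcx, fC_neg_one_code]
        rfl
      rw [this]
      exact neg_one_mem_center
  · rw [Subgroup.normal_le_normalCore]
    intro x hx
    rw [Matrix.SpecialLinearGroup.mem_center_iff] at hx
    obtain ⟨r, hr, hrx⟩ := hx
    rw [IsListGroup.mem_slSubgroup, ← hrx]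
    have hr2 : r = 1 ∨ r = -1 := by
      have h2 : (r - 1) * (r + 1) = 0 := by
        have : r ^ 2 = 1 := by simpa using hr
        linear_combination this
      rcases mul_eq_zero.1 h2 with h | h
      · left; linear_combination h
      · right; linear_combination h
    rcases hr2 with rfl | rfl
    · rw [map_one, ← fC_one_code]
      exact List.mem_map_of_mem one_mem_CH
    · have : (Matrix.scalar (Fin 2)) (-1 : K9) = -1 := by
        apply Matrix.ext
        intro i j
        fin_cases i <;> fin_cases j <;> simp [Matrix.scalar_apply]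
      rw [this, ← fC_neg_one_code]
      exact List.mem_map_of_mem neg_one_mem_CH

lemma card_center_G : Nat.card (Subgroup.center G) = 2 := by
  rw [card_center_SL 2 (by norm_num), card_K9]
  norm_num

lemma card_quotient : 2 * Nat.card (G ⧸ Subgroup.center G) = Nat.factorial 6 := by
  have h := Subgroup.card_eq_card_quotient_mul_card_subgroup (Subgroup.center G)
  rw [card_G, card_center_G] at h
  have : Nat.factorial 6 = 720 := by decide
  omega

lemma psl_K9 : Nonempty (ProjectiveSpecialLinearGroup (Fin 2) K9 ≃* alternatingGroup (Fin 6)) :=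
  quotient_core_equiv_alternating H1 6 (by norm_num) index_H1 (Subgroup.center G) normalCore_H1
    card_quotient

/-- PSL_2(9) is isomorphic to A_6. -/
theorem result {F : Type*} [Field F] [Fintype F] (hF : Fintype.card F = 9) : Nonempty (Matrix.ProjectiveSpecialLinearGroup (Fin 2) F ≃* alternatingGroup (Fin 6)) := by
  obtain ⟨φ⟩ := psl_K9
  have e : F ≃+* K9 := FiniteField.ringEquivOfCardEq (hF.trans card_K9.symm)
  exact ⟨(pslMapEquiv e).trans φ⟩

end Cfsg.Agent.S0254
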