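import Cfsg.Statements.S0256
import Cfsg.Agent.Lib.Helper57.DataA7
import Cfsg.Agent.Lib.Helper57.ListSLn
import Cfsg.Agent.Lib.Helper57.CosetAlt
import Cfsg.Agent.Lib.Helper57.PSLMap
import Cfsg.Agent.Lib.Helper57.CardSL

set_option autoImplicit false
open Cfsg

namespace Cfsg.Agent.S0256

open Cfsg.Agent.Lib.Helper57 Cfsg.Agent.Lib.Helper57.DataA7 Matrix

local notation "G" => SpecialLinearGroup (Fin 4) (ZMod 2)

lemma exists_LG : ∃ inv, IsListGroup (L.map f4C) inv :=
  cert.exists_isListGroup f4C f4C_mul4C f4C_one4C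

/-- The inverse function on the list. -/
noncomputable def invA7 : Matrix (Fin 4) (Fin 4) (ZMod 2) → Matrix (Fin 4) (Fin 4) (ZMod 2) :=
  Classical.choose exists_LG

lemma hLG : IsListGroup (L.map f4C) invA7 := Classical.choose_spec exists_LG

/-- The subgroup `A₇` of `SL₄(2)`. -/
noncomputable abbrev H1 : Subgroup G := hLG.slnSubgroup

lemma L_nodup : L.Nodup := by
  have h := List.isChain_iff_pairwise.1 L_chain
  exact h.imp (fun hab => Nat.ne_of_lt hab)

lemma nodup_map : (L.map f4C).Nodup := by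
  rw [List.nodup_map_iff_inj_on L_nodup]
  intro a ha b hb hab
  exact f4C_injOn a b (L_canon a ha) (L_canon b hb) hab

lemma det_one : ∀ x ∈ L.map f4C, x.det = 1 := fun x hx =>
  det_eq_one_of_mul_eq_one_zmod2 x (invA7 x) (hLG.mul_inv x hx)

lemma card_H1 : Nat.card H1 = 2520 := by
  rw [IsListGroup.card_slnSubgroup hLG det_one nodup_map, List.length_map, L_length]

lemma card_G : Nat.card G = 20160 := by
  have h := card_SL_formula (F := ZMod 2) 4 (by norm_num)
  rw [ZMod.card, Fin.prod_univ_four] at h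
  have h2 : (2 - 1) * Nat.card G = 20160 := by
    rw [h]
    norm_num
  omega

lemma index_H1 : H1.index = 8 := by
  have h := Subgroup.card_mul_index H1
  rw [card_H1, card_G] at h
  omega

lemma det_of_mul (c c' : ℕ) (h : mul4C c c' = one4C) : (f4C c).det = 1 :=
  det_eq_one_of_mul_eq_one_zmod2 (f4C c) (f4C c') (by rw [← f4C_mul4C, h, f4C_one4C])

/-- Elements of `G` from codes with a given right inverse. -/
def rG (c c' : ℕ) (h : mul4C c c' = one4C) : G := ⟨f4C c, det_of_mul c c' h⟩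

lemma coe_inv_rG (c c' : ℕ) (h : mul4C c c' = one4C) :
    (((rG c c' h)⁻¹ : G) : Matrix (Fin 4) (Fin 4) (ZMod 2)) = f4C c' := by
  have h1 : f4C c * f4C c' = 1 := by rw [← f4C_mul4C, h, f4C_one4C]
  have h2 : ((rG c c' h : G) : Matrix (Fin 4) (Fin 4) (ZMod 2)) = f4C c := rfl
  have h3 : (((rG c c' h)⁻¹ : G) : Matrix (Fin 4) (Fin 4) (ZMod 2)) * f4C c = 1 := by
    rw [← h2, ← Matrix.SpecialLinearGroup.coe_mul, inv_mul_cancel,
      Matrix.SpecialLinearGroup.coe_one]
  calc (((rG c c' h)⁻¹ : G) : Matrix (Fin 4) (Fin 4) (ZMod 2))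
      = (((rG c c' h)⁻¹ : G) : Matrix (Fin 4) (Fin 4) (ZMod 2)) * (f4C c * f4C c') := by
        rw [h1, mul_one]
    _ = f4C c' := by rw [← mul_assoc, h3, one_mul]

lemma conj_testBit (c c' : ℕ) (h : mul4C c c' = one4C) (x : G) (a : ℕ)
    (hx : (x : Matrix (Fin 4) (Fin 4) (ZMod 2)) = f4C a)
    (hmem : (rG c c' h)⁻¹ * x * ((rG c c' h)⁻¹)⁻¹ ∈ H1) :
    Nat.testBit mask (conj4C c c' a) = true := by
  rw [IsListGroup.mem_slnSubgroup, inv_inv] at hmem
  have h1 : (((rG c c' h)⁻¹ * x * rG c c' h : G) : Matrix (Fin 4) (Fin 4) (ZMod 2)) =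
      f4C (conj4C c c' a) := by
    rw [Matrix.SpecialLinearGroup.coe_mul, Matrix.SpecialLinearGroup.coe_mul, coe_inv_rG, hx]
    simp only [conj4C]
    rw [f4C_mul4C, f4C_mul4C]
    rfl
  rw [h1] at hmem
  obtain ⟨b, hb, hba⟩ := List.mem_map.1 hmem
  have hb2 : b = conj4C c c' a :=
    f4C_injOn b _ (L_canon b hb) (by simp only [conj4C]; exact enc_dec_mul4C _ _) hba
  rw [cert.mask_eq]
  exact testBit_maskOf_of_mem L _ (hb2 ▸ hb)

lemma normalCore_H1 : H1.normalCore = ⊥ := by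
  rw [Subgroup.eq_bot_iff_forall]
  intro x hx
  have hx1 : x ∈ H1 := Subgroup.normalCore_le _ hx
  rw [IsListGroup.mem_slnSubgroup] at hx1
  obtain ⟨a, ha, hax⟩ := List.mem_map.1 hx1
  obtain ⟨k1, k2, k3, k4, k5⟩ := conj_inv
  have e := core_check a ha (conj_testBit _ _ k1 x a hax.symm (hx _))
    (conj_testBit _ _ k2 x a hax.symm (hx _)) (conj_testBit _ _ k3 x a hax.symm (hx _))
    (conj_testBit _ _ k4 x a hax.symm (hx _)) (conj_testBit _ _ k5 x a hax.symm (hx _))
  apply Subtype.ext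
  rw [← hax, e, f4C_one4C]
  rfl

lemma center_G : Subgroup.center G = ⊥ := by
  rw [← Subgroup.card_eq_one, card_center_SL 4 (by norm_num), ZMod.card]
  norm_num

lemma card_quotient : 2 * Nat.card (G ⧸ Subgroup.center G) = Nat.factorial 8 := by
  have h := Subgroup.card_eq_card_quotient_mul_card_subgroup (Subgroup.center G)
  rw [card_G, center_G, Subgroup.card_bot, mul_one] at h
  have : Nat.factorial 8 = 40320 := by decide
  rw [center_G]
  omega

lemma psl_ZMod2 : Nonempty (ProjectiveSpecialLinearGroup (Fin 4) (ZMod 2) ≃*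
    alternatingGroup (Fin 8)) :=
  quotient_core_equiv_alternating H1 8 (by norm_num) index_H1 (Subgroup.center G)
    (normalCore_H1.trans center_G.symm) card_quotient

/-- PSL_4(2) is isomorphic to A_8. -/
theorem result {F : Type*} [Field F] [Fintype F] (hF : Fintype.card F = 2) : Nonempty (Matrix.ProjectiveSpecialLinearGroup (Fin 4) F ≃* alternatingGroup (Fin 8)) := by
  obtain ⟨φ⟩ := psl_ZMod2
  have : Fact (Nat.Prime 2) := ⟨Nat.prime_two⟩
  have e : ZMod 2 ≃+* F := ZMod.ringEquivOfPrime F Nat.prime_two hF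
  exact ⟨(pslMapEquiv e.symm).trans φ⟩

end Cfsg.Agent.S0256
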