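import Cfsg.Statements.S0257
import Mathlib
-- import your own Cfsg.Agent.* helpers here
import Cfsg.Agent.Lib.Helper5.PSL2Small
import Cfsg.Agent.Lib.Helper5.SL2Sylow
import Cfsg.Agent.Lib.Helper95.QuaternionRecog

set_option autoImplicit false
open Cfsg

namespace Cfsg.Agent.S0257

open Matrix
open scoped MatrixGroups

variable {F : Type*} [Field F]

def qa (F : Type*) [Field F] : SL(2, F) := ⟨!![0, -1; 1, 0], by simp [Matrix.det_fin_two_of]⟩

def qw (F : Type*) [Field F] (h3 : (3 : F) = 0) : SL(2, F) :=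
  ⟨!![1, 1; 1, -1], by rw [Matrix.det_fin_two_of]; linear_combination (-1 : F) * h3⟩

def qu (F : Type*) [Field F] : SL(2, F) := ⟨!![1, 1; 0, 1], by simp [Matrix.det_fin_two_of]⟩

theorem sl2_ext' {A B : SL(2, F)} (h00 : A.1 0 0 = B.1 0 0) (h01 : A.1 0 1 = B.1 0 1)
    (h10 : A.1 1 0 = B.1 1 0) (h11 : A.1 1 1 = B.1 1 1) : A = B := by
  apply Subtype.ext
  ext i j
  fin_cases i <;> fin_cases j <;> assumption

theorem qa_val : (qa F).1 = !![0, -1; 1, 0] := rfl
theorem qw_val (h3 : (3 : F) = 0) : (qw F h3).1 = !![1, 1; 1, -1] := rfl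
theorem qu_val : (qu F).1 = !![1, 1; 0, 1] := rfl

theorem qa_sq : (qa F) ^ 2 = -1 := by
  apply sl2_ext' <;> simp [qa_val, pow_two]

theorem qw_sq (h3 : (3 : F) = 0) : (qw F h3) ^ 2 = -1 := by
  apply sl2_ext' <;> simp [qw_val, pow_two]
  · linear_combination h3
  · linear_combination h3

theorem qa_inv : (qa F)⁻¹ = -(qa F) := by
  apply sl2_ext' <;> simp [qa_val, Matrix.adjugate_fin_two]

theorem qw_conj (h3 : (3 : F) = 0) : qw F h3 * qa F * (qw F h3)⁻¹ = (qa F)⁻¹ := by
  rw [mul_inv_eq_iff_eq_mul, qa_inv]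
  apply sl2_ext' <;> simp [qw_val, qa_val]

theorem qu_conj_qa (h3 : (3 : F) = 0) : qu F * qa F * (qu F)⁻¹ = qw F h3 := by
  rw [mul_inv_eq_iff_eq_mul]
  apply sl2_ext' <;> simp [qw_val, qa_val, qu_val]
  linear_combination (-1 : F) * h3

theorem qu_conj_qw (h3 : (3 : F) = 0) : qu F * qw F h3 * (qu F)⁻¹ = qa F * qw F h3 := by
  rw [mul_inv_eq_iff_eq_mul]
  apply sl2_ext' <;> simp [qw_val, qa_val, qu_val]
  · linear_combination h3
  · linear_combination (-1 : F) * h3

/-- SL_2(3) has a normal subgroup of index 3 isomorphic to the quaternion group of order 8, and its centre has order 2. -/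
theorem result {F : Type*} [Field F] [Fintype F] (hF : Fintype.card F = 3) : (∃ Q : Subgroup (Matrix.SpecialLinearGroup (Fin 2) F), Q.Normal ∧ Q.index = 3 ∧ Nonempty (Q ≃* QuaternionGroup 2)) ∧ Nat.card (Subgroup.center (Matrix.SpecialLinearGroup (Fin 2) F)) = 2 := by
  have h3 : (3 : F) = 0 := by
    have := Nat.cast_card_eq_zero F
    rw [hF] at this
    exact_mod_cast this
  have h2 : (2 : F) ≠ 0 := by
    intro h
    have : (1 : F) = 0 := by linear_combination h3 - h
    exact one_ne_zero this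
  refine ⟨?_, Cfsg.Agent.Lib.Helper5.card_center_SL2_of_two_ne_zero h2⟩
  have hneg : (-1 : SL(2, F)) ≠ 1 := by
    intro h
    have := congrArg (fun A : SL(2, F) => A.1 0 0) h
    simp at this
    apply h2
    linear_combination (-1 : F) * this
  have ha : orderOf (qa F) = 2 * 2 := by
    have : orderOf (qa F) = 2 ^ (1 + 1) := by
      apply orderOf_eq_prime_pow
      · rw [pow_one, qa_sq]; exact hneg
      · have : (qa F) ^ 2 ^ (1 + 1) = ((qa F) ^ 2) ^ 2 := by rw [← pow_mul]; norm_num
        rw [this, qa_sq]; simp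
    rw [this]; norm_num
  have hw2 : (qw F h3) ^ 2 = (qa F) ^ 2 := by rw [qw_sq, qa_sq]
  have hw := qw_conj (F := F) h3
  obtain ⟨e⟩ := Cfsg.Agent.Lib.Helper95.closure_equiv_quaternionGroup (le_refl 2) ha hw2 hw
  have hcardQ := Cfsg.Agent.Lib.Helper95.card_closure_quaternion (le_refl 2) ha hw2 hw
  set Q := Subgroup.closure ({qa F, qw F h3} : Set SL(2, F)) with hQ
  have hcardG : Nat.card SL(2, F) = 24 := by
    rw [Cfsg.Agent.Lib.Helper5.card_SL2, hF]; norm_num
  have hindex : Q.index = 3 := by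
    have := Q.card_mul_index
    rw [hcardQ, hcardG] at this
    omega
  refine ⟨Q, ?_, hindex, ⟨e⟩⟩
  -- normality
  have haQ : qa F ∈ Q := Subgroup.subset_closure (by simp)
  have hwQ : qw F h3 ∈ Q := Subgroup.subset_closure (by simp)
  have huN : qu F ∈ Subgroup.normalizer (Q : Set SL(2, F)) := by
    apply Subgroup.mem_normalizer_fintype
    intro n hn
    have hle : Q ≤ Q.comap (MulAut.conj (qu F)).toMonoidHom := by
      rw [hQ, Subgroup.closure_le]
      rintro x (rfl | rfl)
      · change qu F * qa F * (qu F)⁻¹ ∈ Q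
        rw [qu_conj_qa h3]; exact hwQ
      · change qu F * qw F h3 * (qu F)⁻¹ ∈ Q
        rw [qu_conj_qw h3]; exact Q.mul_mem haQ hwQ
    exact hle hn
  have huQ : qu F ∉ Q := by
    intro hu
    have h1 : orderOf (qu F) ∣ 8 := by
      have := Subgroup.orderOf_dvd_natCard Q hu
      rwa [hcardQ] at this
    have h2' : orderOf (qu F) ∣ 3 := by
      apply orderOf_dvd_of_pow_eq_one
      apply sl2_ext' <;> simp [qu_val, pow_succ]
      linear_combination h3
    have h3' : orderOf (qu F) ∣ 1 := by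
      have := Nat.dvd_gcd h1 h2'
      simpa using this
    have : qu F = 1 := by
      rw [← orderOf_eq_one_iff]; exact Nat.dvd_one.mp h3'
    have := congrArg (fun A : SL(2, F) => A.1 0 1) this
    simp [qu_val] at this
  have hle : Q ≤ Subgroup.normalizer (Q : Set SL(2, F)) := Subgroup.le_normalizer
  have hd1 : Nat.card Q ∣ Nat.card (Subgroup.normalizer (Q : Set SL(2, F))) :=
    Subgroup.card_dvd_of_le hle
  have hd2 : Nat.card (Subgroup.normalizer (Q : Set SL(2, F))) ∣ Nat.card SL(2, F) :=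
    Subgroup.card_subgroup_dvd_card _
  rw [hcardQ] at hd1
  rw [hcardG] at hd2
  have hne : Nat.card (Subgroup.normalizer (Q : Set SL(2, F))) ≠ 8 := by
    intro h8
    have : Q = Subgroup.normalizer (Q : Set SL(2, F)) := by
      apply Subgroup.eq_of_le_of_card_ge hle
      rw [h8, hcardQ]
    apply huQ
    rw [this]; exact huN
  have h24 : Nat.card (Subgroup.normalizer (Q : Set SL(2, F))) = 24 := by
    obtain ⟨k, hk⟩ := hd1
    rw [hk] at hd2 hne ⊢
    have hk3 : k ∣ 3 := by
      have : 4 * 2 * k ∣ 4 * 2 * 3 := by simpa using hd2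
      exact Nat.dvd_of_mul_dvd_mul_left (by norm_num) this
    have := (Nat.dvd_prime Nat.prime_three).mp hk3
    rcases this with rfl | rfl
    · exact absurd rfl hne
    · rfl
  have htop : Subgroup.normalizer (Q : Set SL(2, F)) = ⊤ := by
    apply Subgroup.eq_top_of_card_eq
    rw [h24, hcardG]
  exact Subgroup.normalizer_eq_top_iff.mp htop

end Cfsg.Agent.S0257
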