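import Cfsg.Statements.S0267
import Mathlib
-- import your own Cfsg.Agent.* helpers here
import Cfsg.Agent.S0266

set_option autoImplicit false
open Cfsg

namespace Cfsg.Agent.S0267

open Matrix Projectivization
open scoped MatrixGroups LinearAlgebra.Projectivization
open Cfsg.Agent.S0266

variable {F : Type*} [Field F]

theorem sl_smul_eq (g : SL(2, F)) (v : Fin 2 → F) : g • v = g.1 *ᵥ v := rfl

/-- If every element of `F` is a square, any three distinct points are the image of the
standard triple under an element of `SL₂`. -/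
theorem exists_sl_smul (hsq : ∀ a : F, IsSquare a) (a b c : ℙ F (Fin 2 → F))
    (hab : a ≠ b) (hac : a ≠ c) (hbc : b ≠ c) :
    ∃ g : SL(2, F), g • Projectivization.mk F (e0 F) e0_ne = a ∧
      g • Projectivization.mk F (e1 F) e1_ne = b ∧ g • Projectivization.mk F (e2 F) e2_ne = c := by
  obtain ⟨g, g0, g1, g2⟩ := exists_pgl_smul a b c hab hac hbc
  obtain ⟨M, rfl⟩ := Matrix.ProjGenLinGroup.mk_surjective g
  rw [PGL.mk_smul_mk] at g0 g1 g2
  obtain ⟨s, hs⟩ := hsq (M.1.det)
  have hdet : M.1.det ≠ 0 := by
    have := M.det.ne_zero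
    simpa using this
  have hs0 : s ≠ 0 := by
    intro h
    rw [h, mul_zero] at hs
    exact hdet hs
  have hN : (s⁻¹ • M.1).det = 1 := by
    rw [det_smul, Fintype.card_fin, hs]
    field_simp
  obtain ⟨N, hNdef⟩ : ∃ N : SL(2, F), N.1 = s⁻¹ • M.1 := ⟨⟨_, hN⟩, rfl⟩
  have key : ∀ (v : Fin 2 → F) (hv : v ≠ 0),
      N • Projectivization.mk F v hv
        = Projectivization.mk F (M • v) ((smul_ne_zero_iff_ne M).mpr hv) := by
    intro v hv
    rw [Projectivization.smul_mk, mk_eq_mk_iff]
    refine ⟨Units.mk0 s⁻¹ (inv_ne_zero hs0), ?_⟩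
    rw [sl_smul_eq, gl_smul_eq, hNdef]
    simp only [Units.smul_def, Units.val_mk0]
    rw [smul_mulVec]
  refine ⟨N, ?_, ?_, ?_⟩
  · rw [key, g0]
  · rw [key, g1]
  · rw [key, g2]


/-- SL_2(q) is 3-transitive on the q+1 points of the projective line if and only if q is even. -/
theorem result {F : Type*} [Field F] [Fintype F] : MulAction.IsMultiplyPretransitive (Matrix.SpecialLinearGroup (Fin 2) F) (Projectivization F (Fin 2 → F)) 3 ↔ ringChar F = 2 := by
  constructor
  · intro h3
    by_contra hchar
    obtain ⟨n, hn⟩ := FiniteField.exists_nonsquare hchar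
    have hn0 : n ≠ 0 := by
      rintro rfl
      exact hn ⟨0, by simp⟩
    have hv_ne : (![1, n] : Fin 2 → F) ≠ 0 := by
      intro h; have := congrFun h 0; simp at this
    -- the two triples
    have h01 : Projectivization.mk F (e0 F) e0_ne ≠ Projectivization.mk F (e1 F) e1_ne := by
      intro h
      rw [Projectivization.mk_eq_mk_iff] at h
      obtain ⟨t, ht⟩ := h
      have := congrFun ht 0
      simp [e0, e1, Units.smul_def] at this
    have h02 : Projectivization.mk F (e0 F) e0_ne ≠ Projectivization.mk F (e2 F) e2_ne := by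
      intro h
      rw [Projectivization.mk_eq_mk_iff] at h
      obtain ⟨t, ht⟩ := h
      have := congrFun ht 1
      simp [e0, e2, Units.smul_def] at this
    have h12 : Projectivization.mk F (e1 F) e1_ne ≠ Projectivization.mk F (e2 F) e2_ne := by
      intro h
      rw [Projectivization.mk_eq_mk_iff] at h
      obtain ⟨t, ht⟩ := h
      have := congrFun ht 0
      simp [e1, e2, Units.smul_def] at this
    have h0v : Projectivization.mk F (e0 F) e0_ne ≠ Projectivization.mk F ![1, n] hv_ne := by
      intro h
      rw [Projectivization.mk_eq_mk_iff] at h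
      obtain ⟨t, ht⟩ := h
      have := congrFun ht 1
      simp [e0, Units.smul_def, hn0] at this
    have h1v : Projectivization.mk F (e1 F) e1_ne ≠ Projectivization.mk F ![1, n] hv_ne := by
      intro h
      rw [Projectivization.mk_eq_mk_iff] at h
      obtain ⟨t, ht⟩ := h
      have := congrFun ht 0
      simp [e1, Units.smul_def] at this
    let x : Fin 3 ↪ Projectivization F (Fin 2 → F) :=
      ⟨![Projectivization.mk F (e0 F) e0_ne, Projectivization.mk F (e1 F) e1_ne,
          Projectivization.mk F (e2 F) e2_ne], by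
        intro i j hij
        fin_cases i <;> fin_cases j <;> simp_all [Ne.symm]⟩
    let y : Fin 3 ↪ Projectivization F (Fin 2 → F) :=
      ⟨![Projectivization.mk F (e0 F) e0_ne, Projectivization.mk F (e1 F) e1_ne,
          Projectivization.mk F ![1, n] hv_ne], by
        intro i j hij
        fin_cases i <;> fin_cases j <;> simp_all [Ne.symm]⟩
    obtain ⟨g, hg⟩ := h3.exists_smul_eq x y
    have hg0 : g • Projectivization.mk F (e0 F) e0_ne = Projectivization.mk F (e0 F) e0_ne := by
      have := DFunLike.congr_fun hg 0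
      rwa [Function.Embedding.smul_apply] at this
    have hg1 : g • Projectivization.mk F (e1 F) e1_ne = Projectivization.mk F (e1 F) e1_ne := by
      have := DFunLike.congr_fun hg 1
      rwa [Function.Embedding.smul_apply] at this
    have hg2 : g • Projectivization.mk F (e2 F) e2_ne = Projectivization.mk F ![1, n] hv_ne := by
      have := DFunLike.congr_fun hg 2
      rwa [Function.Embedding.smul_apply] at this
    rw [Projectivization.smul_mk, Projectivization.mk_eq_mk_iff] at hg0 hg1 hg2
    obtain ⟨l, hl⟩ := hg0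
    obtain ⟨m, hm⟩ := hg1
    obtain ⟨k, hk⟩ := hg2
    rw [sl_smul_eq] at hl hm hk
    have hl0 := congrFun hl 0
    have hl1 := congrFun hl 1
    have hm0 := congrFun hm 0
    have hm1 := congrFun hm 1
    have hk0 := congrFun hk 0
    have hk1 := congrFun hk 1
    simp [e0, e1, e2, Units.smul_def, Matrix.mulVec, dotProduct, Fin.sum_univ_two] at hl0 hl1 hm0 hm1 hk0 hk1
    have hdet : g.1 0 0 * g.1 1 1 - g.1 0 1 * g.1 1 0 = 1 := by
      have := g.2
      rwa [Matrix.det_fin_two] at this
    rw [← hl1, ← hm0] at hdet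
    rw [← hm0] at hk0
    rw [← hl1] at hk1
    simp only [add_zero, zero_add, mul_zero, sub_zero] at hdet hk0 hk1
    -- k = g00, k n = g11, g00 g11 = 1 → n = g11^2
    apply hn
    refine ⟨g.1 1 1, ?_⟩
    have hk' : (k : F) ≠ 0 := k.ne_zero
    have : (k : F) * n = (k : F) * (g.1 1 1 * g.1 1 1) := by
      rw [hk1]
      rw [hk0]
      rw [← mul_assoc, hdet, one_mul]
    exact mul_left_cancel₀ hk' this
  · intro hchar
    have hsq := FiniteField.isSquare_of_char_two hchar
    constructor
    intro x y
    have hx01 : x 0 ≠ x 1 := fun h => by simpa using x.injective h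
    have hx02 : x 0 ≠ x 2 := fun h => by simpa using x.injective h
    have hx12 : x 1 ≠ x 2 := fun h => by simpa using x.injective h
    have hy01 : y 0 ≠ y 1 := fun h => by simpa using y.injective h
    have hy02 : y 0 ≠ y 2 := fun h => by simpa using y.injective h
    have hy12 : y 1 ≠ y 2 := fun h => by simpa using y.injective h
    obtain ⟨g, g0, g1, g2⟩ := exists_sl_smul hsq (x 0) (x 1) (x 2) hx01 hx02 hx12
    obtain ⟨h, h0, h1, h2⟩ := exists_sl_smul hsq (y 0) (y 1) (y 2) hy01 hy02 hy12
    refine ⟨h * g⁻¹, ?_⟩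
    ext i
    rw [Function.Embedding.smul_apply, mul_smul]
    fin_cases i
    · change h • g⁻¹ • x 0 = y 0
      rw [← g0, inv_smul_smul, h0]
    · change h • g⁻¹ • x 1 = y 1
      rw [← g1, inv_smul_smul, h1]
    · change h • g⁻¹ • x 2 = y 2
      rw [← g2, inv_smul_smul, h2]

end Cfsg.Agent.S0267
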