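import Cfsg.Statements.S0275
import Mathlib
import Cfsg.Agent.S0261
import Cfsg.Agent.Lib.Helper41.SL2OddSylow
import Cfsg.Agent.Lib.Helper41.QuatSubgroup

set_option autoImplicit false
open Cfsg

namespace Cfsg.Agent.S0275

open Cfsg.Agent.Lib.Helper41

/-- If p is odd and H is a subgroup of SL_2(q), q a power of p, with more than one Sylow p-subgroup, then the Sylow 2-subgroups of H are generalised quaternion. -/
theorem result {F : Type*} [Field F] [Fintype F] (p : ℕ) [Fact p.Prime] [CharP F p] (hp : p ≠ 2) (H : Subgroup (Matrix.SpecialLinearGroup (Fin 2) F)) (hH : 1 < Nat.card (Sylow p H)) (S : Sylow 2 H) : ∃ k : ℕ, 1 ≤ k ∧ Nonempty ((S : Subgroup H) ≃* QuaternionGroup (2 ^ k)) := by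
  classical
  have hfin : Finite (Matrix.SpecialLinearGroup (Fin 2) F) := Subtype.finite
  have hnc : ¬ IsCyclic (S : Subgroup H) := not_isCyclic_sylow_two p hp H hH S
  -- the image of `S` in `SL₂(F)`
  set S' : Subgroup (Matrix.SpecialLinearGroup (Fin 2) F) := (S : Subgroup H).map H.subtype with hS'
  have hS'p : IsPGroup 2 S' := S.2.map H.subtype
  obtain ⟨Q, hQ⟩ := hS'p.exists_le_sylow
  -- `|F|` is odd
  have hFodd : Odd (Fintype.card F) := by
    obtain ⟨n, -, hn⟩ := FiniteField.card F p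
    rw [hn]
    exact ((Fact.out : p.Prime).odd_of_ne_two hp).pow
  obtain ⟨k0, hk0, ⟨e⟩⟩ := Cfsg.Agent.S0261.result hFodd Q
  -- transport `S'` into the quaternion group
  let e1 : (S : Subgroup H) ≃* S' := (S : Subgroup H).equivMapOfInjective H.subtype H.subtype_injective
  let e2 : ↥(S'.subgroupOf (Q : Subgroup (Matrix.SpecialLinearGroup (Fin 2) F))) ≃* S' :=
    Subgroup.subgroupOfEquivOfLe hQ
  set R : Subgroup (QuaternionGroup (2 ^ k0)) :=
    (S'.subgroupOf (Q : Subgroup (Matrix.SpecialLinearGroup (Fin 2) F))).map e.toMonoidHom with hR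
  let e3 : ↥(S'.subgroupOf (Q : Subgroup (Matrix.SpecialLinearGroup (Fin 2) F))) ≃* R :=
    (S'.subgroupOf (Q : Subgroup (Matrix.SpecialLinearGroup (Fin 2) F))).equivMapOfInjective
      e.toMonoidHom e.injective
  let E : (S : Subgroup H) ≃* R := (e1.trans e2.symm).trans e3
  have hRnc : ¬ IsCyclic R := by
    intro hc
    exact hnc (isCyclic_of_surjective E.symm E.symm.surjective)
  obtain ⟨m, hm2, hmdvd, ⟨e4⟩⟩ := exists_equiv_quaternionGroup_of_not_isCyclic (2 ^ k0) R hRnc
  have hdvd : 2 * m ∣ 2 ^ (k0 + 2) := by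
    have : 4 * 2 ^ k0 = 2 ^ (k0 + 2) := by ring
    rwa [this] at hmdvd
  obtain ⟨j, -, hj⟩ := (Nat.dvd_prime_pow Nat.prime_two).mp hdvd
  have hj1 : 2 ≤ j := by
    by_contra hlt
    have hj' : j = 0 ∨ j = 1 := by omega
    rcases hj' with rfl | rfl
    · simp at hj
    · simp at hj; omega
  obtain ⟨k, rfl⟩ : ∃ k, j = k + 1 := ⟨j - 1, by omega⟩
  have hmk : m = 2 ^ k := by
    rw [pow_succ] at hj
    omega
  subst hmk
  exact ⟨k, by omega, ⟨E.trans e4⟩⟩

end Cfsg.Agent.S0275
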