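import Cfsg.Statements.S0293
import Mathlib
import Cfsg.Agent.Lib.Helper44.POmegaOrder
import Cfsg.Agent.S0287
import Cfsg.Agent.S2236
-- import your own Cfsg.Agent.* helpers here

set_option autoImplicit false
open Cfsg

namespace Cfsg.Agent.S0293

/-- gcd(4, q^m - 1) |PΩ^+_{2m}(q)| = q^(m(m-1)) (q^m - 1) prod_{i=1}^{m-1} (q^(2i) - 1), m at least 4 (type D_m). -/
theorem result {F : Type*} [Field F] [Fintype F] {q : ℕ} (hF : Fintype.card F = q) (m : ℕ) (hm : 4 ≤ m) : Nat.gcd 4 (q ^ m - 1) * Nat.card (Cfsg.POmega F (Cfsg.quadFormPlus m F)) = q ^ (m * (m - 1)) * (q ^ m - 1) * ∏ i ∈ Finset.range (m - 1), (q ^ (2 * (i + 1)) - 1) := by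
  classical
  have hq1 : 1 ≤ q := by rw [← hF]; exact Fintype.card_pos
  have hqm : 1 ≤ q ^ m := Nat.one_le_pow _ _ hq1
  have hO := Cfsg.Agent.S0287.result hF m (by omega)
  have key := Cfsg.Agent.Lib.Helper44.gcd_mul_card_POmega (F := F)
    (Cfsg.Agent.Lib.Helper44.hypQF m F) Cfsg.Agent.Lib.Helper44.hypQF_nondeg
    (by simp only [Fintype.card_sum, Fintype.card_fin]; omega)
    (q ^ (m * (m - 1)) * (q ^ m - 1) * ∏ i ∈ Finset.range (m - 1), (q ^ (2 * (i + 1)) - 1))
    (q ^ m - 1)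
    (hO.trans (by ring)) ?_ ?_
  · exact key
  · intro h2
    have hq2 : q % 2 = 0 := by
      rw [← hF]; exact Cfsg.Agent.Lib.Helper44.two_eq_zero_iff_even_card.1 h2
    have : q ^ m % 2 = 0 := by
      rw [Nat.pow_mod, hq2, zero_pow (by omega), Nat.zero_mod]
    omega
  · intro h2
    have hq2 : q % 2 = 1 := by
      have : ¬ q % 2 = 0 := fun h =>
        h2 (Cfsg.Agent.Lib.Helper44.two_eq_zero_iff_even_card.2 (by rw [hF]; exact h))
      omega
    have hodd : Odd (Fintype.card F) := by rw [hF, Nat.odd_iff]; exact hq2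
    have hpm : q ^ m % 2 = 1 := by rw [Nat.pow_mod, hq2]; simp
    refine ⟨by omega, ?_⟩
    have h3 := Cfsg.Agent.S2236.neg_one_iff hodd m (by omega)
    rw [hF] at h3
    exact h3.trans ⟨fun h => by omega, fun h => by omega⟩

end Cfsg.Agent.S0293
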