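import Mathlib
import Cfsg.Statements.S0295
import Cfsg.Agent.Lib.Helper14.OddTransport
import Cfsg.Agent.Lib.Helper14.OmegaSimple
-- import your own Cfsg.Agent.* helpers here

set_option autoImplicit false
open Cfsg

namespace Cfsg.Agent.S0295

open Cfsg.Agent.Lib.Helper14

theorem two_ne_zero_of_odd_card {F : Type*} [Field F] [Fintype F] (hodd : Odd (Fintype.card F)) :
    (2 : F) ≠ 0 := by
  apply Ring.two_ne_zero
  intro h
  have := FiniteField.even_card_iff_char_two.1 h
  rw [Nat.odd_iff] at hodd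
  omega


/-- PΩ_{2m+1}(q) is simple for q odd and m at least 3. -/
theorem result {F : Type*} [Field F] [Fintype F] (hodd : Odd (Fintype.card F)) (m : ℕ) (hm : 3 ≤ m) : IsSimpleGroup (Cfsg.POmega F (Cfsg.quadFormOdd m F)) := by
  have h2 : (2 : F) ≠ 0 := two_ne_zero_of_odd_card hodd
  have hcen := center_Omega_quadFormOdd m F h2 (by omega)
  have hs' : IsSimpleGroup ↥(Cfsg.Omega F ⇑(oddQ' m F)) :=
    Omega_simple_of_odd (oddQ' m F) h2 (by omega) ⟨m, rfl⟩ (oddQ'_nondeg m F h2)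
  have hs : IsSimpleGroup ↥(Cfsg.Omega F (Cfsg.quadFormOdd m F)) :=
    (oddOmegaIso m F).isSimpleGroup
  let e : Cfsg.POmega F (Cfsg.quadFormOdd m F) ≃* ↥(Cfsg.Omega F (Cfsg.quadFormOdd m F)) :=
    (QuotientGroup.quotientMulEquivOfEq hcen).trans QuotientGroup.quotientBot
  exact e.isSimpleGroup

end Cfsg.Agent.S0295
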