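import Cfsg.Statements.S0304
import Mathlib
-- import your own Cfsg.Agent.* helpers here
import Cfsg.Agent.Lib.Helper5.Symplectic

set_option autoImplicit false
open Cfsg

namespace Cfsg.Agent.S0304

open Matrix Cfsg.Agent.Lib.Helper5

variable {m : ℕ} {F : Type*} [Field F]

/-- the polar form of `quadFormPlus`. -/
def polarPlus (m : ℕ) (F : Type*) [Field F] (x y : Fin m ⊕ Fin m → F) : F :=
  ∑ i : Fin m, (x (Sum.inl i) * y (Sum.inr i) + x (Sum.inr i) * y (Sum.inl i))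

theorem quadFormPlus_add (x y : Fin m ⊕ Fin m → F) :
    quadFormPlus m F (x + y) = quadFormPlus m F x + quadFormPlus m F y + polarPlus m F x y := by
  simp only [quadFormPlus, polarPlus, Pi.add_apply, ← Finset.sum_add_distrib]
  apply Finset.sum_congr rfl
  intro i _
  ring

theorem quadFormPlus_smul (c : F) (x : Fin m ⊕ Fin m → F) :
    quadFormPlus m F (c • x) = c ^ 2 * quadFormPlus m F x := by
  simp only [quadFormPlus, Pi.smul_apply, smul_eq_mul, Finset.mul_sum]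
  apply Finset.sum_congr rfl
  intro i _
  ring

theorem quadFormOdd_eq (v : Unit ⊕ (Fin m ⊕ Fin m) → F) :
    quadFormOdd m F v = v (Sum.inl ()) ^ 2 + quadFormPlus m F (v ∘ Sum.inr) := rfl

theorem sympForm_eq_polarPlus [CharP F 2] (x y : Fin m ⊕ Fin m → F) :
    sympForm (Fin m) F x y = polarPlus m F x y := by
  rw [sympForm_eq_sum, polarPlus]
  apply Finset.sum_congr rfl
  intro i _
  rw [CharTwo.sub_eq_add]
  ring

theorem mem_isometryGroup_iff (g : GL (Unit ⊕ (Fin m ⊕ Fin m)) F) :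
    g ∈ isometryGroup F (quadFormOdd m F) ↔
      ∀ u, quadFormOdd m F ((g : Matrix _ _ F) *ᵥ u) = quadFormOdd m F u := by
  constructor
  · intro h u
    exact h u u
  · intro h u v
    exact h u


section struct
variable {m : ℕ} {F : Type*} [Field F] [CharP F 2]

theorem quadFormOdd_polar (u v : Unit ⊕ (Fin m ⊕ Fin m) → F) :
    quadFormOdd m F (u + v) = quadFormOdd m F u + quadFormOdd m F v +
      polarPlus m F (u ∘ Sum.inr) (v ∘ Sum.inr) := by
  simp only [quadFormOdd_eq, Pi.add_apply]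
  have : (u + v) ∘ Sum.inr = u ∘ Sum.inr + v ∘ Sum.inr := rfl
  rw [this, quadFormPlus_add, CharTwo.add_sq]
  ring

omit [CharP F 2] in
theorem polarPlus_zero_left (y : Fin m ⊕ Fin m → F) : polarPlus m F 0 y = 0 := by
  simp [polarPlus]

theorem sq_eq_one_char_two {a : F} (h : a ^ 2 = 1) : a = 1 := by
  apply CharTwo.sq_inj.mp
  rw [h, one_pow]

/-- An isometry of `quadFormOdd` fixes the radical vector `e₀`. -/
theorem isometry_col_zero (g : GL (Unit ⊕ (Fin m ⊕ Fin m)) F)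
    (hg : g ∈ isometryGroup F (quadFormOdd m F)) :
    g.1 (Sum.inl ()) (Sum.inl ()) = 1 ∧ ∀ k, g.1 (Sum.inr k) (Sum.inl ()) = 0 := by
  rw [mem_isometryGroup_iff] at hg
  set e₀ : Unit ⊕ (Fin m ⊕ Fin m) → F := Pi.single (Sum.inl ()) 1 with he₀
  have hcol : ∀ x, (g.1 *ᵥ e₀) x = g.1 x (Sum.inl ()) := by
    intro x; rw [he₀, mulVec_single_one]; rfl
  have hpol : ∀ v, polarPlus m F ((g.1 *ᵥ e₀) ∘ Sum.inr) ((g.1 *ᵥ v) ∘ Sum.inr) = 0 := by
    intro v
    have h1 := quadFormOdd_polar (g.1 *ᵥ e₀) (g.1 *ᵥ v)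
    rw [← mulVec_add, hg, hg, hg, quadFormOdd_polar e₀ v] at h1
    have h2 : e₀ ∘ Sum.inr = (0 : Fin m ⊕ Fin m → F) := by
      ext k; simp [he₀]
    rw [h2, polarPlus_zero_left, add_zero] at h1
    exact (left_eq_add.mp h1)
  have hzero : (g.1 *ᵥ e₀) ∘ Sum.inr = (0 : Fin m ⊕ Fin m → F) := by
    by_contra hne
    obtain ⟨y, hy⟩ := exists_sympForm_ne_zero hne
    apply hy
    rw [sympForm_eq_polarPlus]
    have := hpol (g⁻¹.1 *ᵥ (Sum.elim 0 y))
    rw [mulVec_mulVec, ← Units.val_mul, mul_inv_cancel, Units.val_one, one_mulVec] at this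
    simpa using this
  have h0 : ∀ k, g.1 (Sum.inr k) (Sum.inl ()) = 0 := by
    intro k
    rw [← hcol]
    exact congrFun hzero k
  refine ⟨?_, h0⟩
  have hq := hg e₀
  rw [quadFormOdd_eq, quadFormOdd_eq, hzero] at hq
  have h2 : e₀ ∘ Sum.inr = (0 : Fin m ⊕ Fin m → F) := by
    ext k; simp [he₀]
  rw [h2, hcol] at hq
  simp only [he₀, Pi.single_eq_same, one_pow, add_left_inj] at hq
  exact sq_eq_one_char_two hq

end struct

section hom
variable {m : ℕ} {F : Type*} [Field F]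

/-- the top row (without its first entry) -/
def rowR (M : Matrix (Unit ⊕ (Fin m ⊕ Fin m)) (Unit ⊕ (Fin m ⊕ Fin m)) F) : (Fin m ⊕ Fin m) → F :=
  fun k => M (Sum.inl ()) (Sum.inr k)

theorem mulVec_inr_of_col_zero (M : Matrix (Unit ⊕ (Fin m ⊕ Fin m)) (Unit ⊕ (Fin m ⊕ Fin m)) F)
    (h0 : ∀ k, M (Sum.inr k) (Sum.inl ()) = 0) (v : Unit ⊕ (Fin m ⊕ Fin m) → F) :
    (M *ᵥ v) ∘ Sum.inr = M.toBlocks₂₂ *ᵥ (v ∘ Sum.inr) := by
  ext k
  simp [mulVec, dotProduct, Fintype.sum_sum_type, h0, toBlocks₂₂]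

theorem mulVec_inl_of_one (M : Matrix (Unit ⊕ (Fin m ⊕ Fin m)) (Unit ⊕ (Fin m ⊕ Fin m)) F)
    (h1 : M (Sum.inl ()) (Sum.inl ()) = 1) (v : Unit ⊕ (Fin m ⊕ Fin m) → F) :
    (M *ᵥ v) (Sum.inl ()) = v (Sum.inl ()) + rowR M ⬝ᵥ (v ∘ Sum.inr) := by
  simp [mulVec, dotProduct, Fintype.sum_sum_type, h1, rowR]

variable [CharP F 2]

theorem isometry_iff_of_shape (M : Matrix (Unit ⊕ (Fin m ⊕ Fin m)) (Unit ⊕ (Fin m ⊕ Fin m)) F)
    (h1 : M (Sum.inl ()) (Sum.inl ()) = 1) (h0 : ∀ k, M (Sum.inr k) (Sum.inl ()) = 0) :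
    (∀ u, quadFormOdd m F (M *ᵥ u) = quadFormOdd m F u) ↔
      ∀ x, (rowR M ⬝ᵥ x) ^ 2 + quadFormPlus m F (M.toBlocks₂₂ *ᵥ x) = quadFormPlus m F x := by
  constructor
  · intro h x
    have := h (Sum.elim 0 x)
    rw [quadFormOdd_eq, quadFormOdd_eq, mulVec_inr_of_col_zero M h0, mulVec_inl_of_one M h1] at this
    simpa using this
  · intro h u
    rw [quadFormOdd_eq, quadFormOdd_eq, mulVec_inr_of_col_zero M h0, mulVec_inl_of_one M h1,
      CharTwo.add_sq, add_assoc, h]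

theorem block_mem_symplectic (M : Matrix (Unit ⊕ (Fin m ⊕ Fin m)) (Unit ⊕ (Fin m ⊕ Fin m)) F)
    (h : ∀ x, (rowR M ⬝ᵥ x) ^ 2 + quadFormPlus m F (M.toBlocks₂₂ *ᵥ x) = quadFormPlus m F x) :
    M.toBlocks₂₂ ∈ symplecticGroup (Fin m) F := by
  rw [mem_symplecticGroup_iff_form]
  intro x y
  rw [sympForm_eq_polarPlus, sympForm_eq_polarPlus]
  have hx := h x
  have hy := h y
  have hxy := h (x + y)
  rw [dotProduct_add, CharTwo.add_sq, mulVec_add, quadFormPlus_add, quadFormPlus_add] at hxy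
  linear_combination hxy - hx - hy

theorem isometry_block_mem (g : GL (Unit ⊕ (Fin m ⊕ Fin m)) F)
    (hg : g ∈ isometryGroup F (quadFormOdd m F)) :
    g.1.toBlocks₂₂ ∈ symplecticGroup (Fin m) F := by
  obtain ⟨h1, h0⟩ := isometry_col_zero g hg
  apply block_mem_symplectic
  rw [← isometry_iff_of_shape g.1 h1 h0]
  exact (mem_isometryGroup_iff g).mp hg

omit [CharP F 2] in
theorem toBlocks₂₂_mul (M N : Matrix (Unit ⊕ (Fin m ⊕ Fin m)) (Unit ⊕ (Fin m ⊕ Fin m)) F)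
    (h0 : ∀ k, M (Sum.inr k) (Sum.inl ()) = 0) :
    (M * N).toBlocks₂₂ = M.toBlocks₂₂ * N.toBlocks₂₂ := by
  ext k l
  simp [toBlocks₂₂, Matrix.mul_apply, Fintype.sum_sum_type, h0]

/-- The homomorphism `O_{2m+1}(F) → Sp_{2m}(F)`. -/
def toSp : isometryGroup F (quadFormOdd m F) →* symplecticGroup (Fin m) F where
  toFun g := ⟨g.1.1.toBlocks₂₂, isometry_block_mem g.1 g.2⟩
  map_one' := by
    apply Subtype.ext
    show (1 : Matrix (Unit ⊕ (Fin m ⊕ Fin m)) (Unit ⊕ (Fin m ⊕ Fin m)) F).toBlocks₂₂ = 1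
    ext k l
    simp [toBlocks₂₂, Matrix.one_apply]
  map_mul' g h := by
    apply Subtype.ext
    show (g.1.1 * h.1.1).toBlocks₂₂ = g.1.1.toBlocks₂₂ * h.1.1.toBlocks₂₂
    exact toBlocks₂₂_mul _ _ (isometry_col_zero g.1 g.2).2

theorem toSp_coe (g : isometryGroup F (quadFormOdd m F)) :
    (toSp g : Matrix (Fin m ⊕ Fin m) (Fin m ⊕ Fin m) F) = g.1.1.toBlocks₂₂ := rfl

theorem toSp_injective : Function.Injective (toSp (m := m) (F := F)) := by
  rw [injective_iff_map_eq_one]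
  intro g hg
  have hA : g.1.1.toBlocks₂₂ = 1 := by
    rw [← toSp_coe, hg]; rfl
  obtain ⟨h1, h0⟩ := isometry_col_zero g.1 g.2
  have hiso := (isometry_iff_of_shape g.1.1 h1 h0).mp ((mem_isometryGroup_iff g.1).mp g.2)
  have hr : ∀ k, g.1.1 (Sum.inl ()) (Sum.inr k) = 0 := by
    intro k
    have := hiso (Pi.single k 1)
    rw [hA, one_mulVec, add_eq_right] at this
    have h2 := pow_eq_zero_iff (two_ne_zero) |>.mp this
    simpa [rowR] using h2
  apply Subtype.ext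
  apply Units.ext
  ext i j
  rcases i with ⟨⟩ | i <;> rcases j with ⟨⟩ | j
  · simpa using h1
  · simpa using hr j
  · simpa using h0 i
  · have := congrFun (congrFun hA i) j
    simpa [toBlocks₂₂, Matrix.one_apply] using this

end hom


section surj
variable {m : ℕ} {F : Type*} [Field F] [Fintype F] [CharP F 2]

/-- The linear functional `x ↦ sqrt (Q x + Q (A x))`. -/
theorem exists_row (A : Matrix (Fin m ⊕ Fin m) (Fin m ⊕ Fin m) F)
    (hA : A ∈ symplecticGroup (Fin m) F) :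
    ∃ r : Fin m ⊕ Fin m → F, ∀ x,
      (r ⬝ᵥ x) ^ 2 + quadFormPlus m F (A *ᵥ x) = quadFormPlus m F x := by
  haveI : ExpChar F 2 := ExpChar.prime Nat.prime_two
  haveI : PerfectRing F 2 := inferInstance
  rw [mem_symplecticGroup_iff_form] at hA
  let sq := (frobeniusEquiv F 2).symm
  have hsq : ∀ a, sq a ^ 2 = a := frobeniusEquiv_symm_pow_p F 2
  have hsq2 : ∀ a, sq (a ^ 2) = a := by
    intro a
    apply CharTwo.sq_inj.mp
    rw [hsq]
  let ψ : (Fin m ⊕ Fin m → F) →ₗ[F] F :=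
    { toFun := fun x => sq (quadFormPlus m F x + quadFormPlus m F (A *ᵥ x))
      map_add' := by
        intro x y
        rw [← map_add]
        congr 1
        rw [mulVec_add, quadFormPlus_add, quadFormPlus_add, ← sympForm_eq_polarPlus,
          ← sympForm_eq_polarPlus, hA]
        have := CharTwo.add_self_eq_zero (sympForm (Fin m) F x y)
        linear_combination this
      map_smul' := by
        intro c x
        rw [mulVec_smul, quadFormPlus_smul, quadFormPlus_smul, ← mul_add, map_mul, hsq2]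
        rfl }
  have hψ : ∀ x, ψ x = sq (quadFormPlus m F x + quadFormPlus m F (A *ᵥ x)) := fun x => rfl
  refine ⟨fun k => ψ (fun j => if k = j then 1 else 0), ?_⟩
  intro x
  have h1 : (fun k => ψ (fun j => if k = j then 1 else 0)) ⬝ᵥ x = ψ x := by
    rw [LinearMap.pi_apply_eq_sum_univ ψ x, dotProduct]
    apply Finset.sum_congr rfl
    intro i _
    rw [smul_eq_mul, mul_comm]
  rw [h1, hψ, hsq]
  have := CharTwo.add_self_eq_zero (quadFormPlus m F (A *ᵥ x))
  linear_combination this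

theorem toSp_surjective : Function.Surjective (toSp (m := m) (F := F)) := by
  intro A
  obtain ⟨r, hr⟩ := exists_row A.1 A.2
  let M : Matrix (Unit ⊕ (Fin m ⊕ Fin m)) (Unit ⊕ (Fin m ⊕ Fin m)) F :=
    fromBlocks 1 (Matrix.of fun _ k => r k) 0 A.1
  have hdet : M.det ≠ 0 := by
    rw [det_fromBlocks_zero₂₁, det_one, one_mul, SymplecticGroup.det_eq_one A.2]
    exact one_ne_zero
  let g : GL (Unit ⊕ (Fin m ⊕ Fin m)) F := GeneralLinearGroup.mkOfDetNeZero M hdet
  have hgM : g.1 = M := rfl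
  have h1 : M (Sum.inl ()) (Sum.inl ()) = 1 := by simp [M]
  have h0 : ∀ k, M (Sum.inr k) (Sum.inl ()) = 0 := by intro k; simp [M]
  have hblock : M.toBlocks₂₂ = A.1 := toBlocks_fromBlocks₂₂ _ _ _ _
  have hrow : rowR M = r := by
    ext k; simp [rowR, M]
  have hg : g ∈ isometryGroup F (quadFormOdd m F) := by
    rw [mem_isometryGroup_iff, hgM, isometry_iff_of_shape M h1 h0, hblock, hrow]
    exact hr
  refine ⟨⟨g, hg⟩, ?_⟩
  apply Subtype.ext
  rw [toSp_coe]
  exact hblock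

end surj

/-- In characteristic 2, O_{2m+1}(q) is isomorphic to Sp_{2m}(q). -/
theorem result {F : Type*} [Field F] [Fintype F] [CharP F 2] (m : ℕ) : Nonempty (Cfsg.isometryGroup F (Cfsg.quadFormOdd m F) ≃* Matrix.symplecticGroup (Fin m) F) := by
  exact ⟨MulEquiv.ofBijective toSp ⟨toSp_injective, toSp_surjective⟩⟩

end Cfsg.Agent.S0304
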