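import Cfsg.Statements.S0305
import Mathlib
import Cfsg.Agent.Lib.Helper6.DihedralRec

set_option autoImplicit false
open Cfsg

namespace Cfsg.Agent.S0305


open scoped Matrix

section aux
variable {F : Type*} [Field F]

/-- a 2×2 matrix indexed by `Fin 1 ⊕ Fin 1` -/
def mat2 (p q r s : F) : Matrix (Fin 1 ⊕ Fin 1) (Fin 1 ⊕ Fin 1) F :=
  Matrix.of fun i j => Sum.elim (fun _ => Sum.elim (fun _ => p) (fun _ => q) j)
    (fun _ => Sum.elim (fun _ => r) (fun _ => s) j) i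

theorem mat2_mul (p q r s p' q' r' s' : F) :
    mat2 p q r s * mat2 p' q' r' s' =
      mat2 (p * p' + q * r') (p * q' + q * s') (r * p' + s * r') (r * q' + s * s') := by
  ext i j
  rcases i with i | i <;> rcases j with j | j <;>
    simp [mat2, Matrix.mul_apply, Fintype.sum_sum_type]

theorem mat2_one : mat2 (1 : F) 0 0 1 = 1 := by
  ext i j
  rcases i with i | i <;> rcases j with j | j <;>
    simp [mat2, Matrix.one_apply, Subsingleton.elim i j]

theorem eq_mat2 (M : Matrix (Fin 1 ⊕ Fin 1) (Fin 1 ⊕ Fin 1) F) :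
    M = mat2 (M (.inl 0) (.inl 0)) (M (.inl 0) (.inr 0)) (M (.inr 0) (.inl 0)) (M (.inr 0) (.inr 0)) := by
  ext i j
  rcases i with i | i <;> rcases j with j | j <;>
    simp [mat2, Subsingleton.elim i 0, Subsingleton.elim j 0]

theorem mat2_inj {p q r s p' q' r' s' : F} (h : mat2 p q r s = mat2 p' q' r' s') :
    p = p' ∧ q = q' ∧ r = r' ∧ s = s' := by
  refine ⟨?_, ?_, ?_, ?_⟩
  · simpa [mat2] using congrFun (congrFun h (.inl 0)) (.inl 0)
  · simpa [mat2] using congrFun (congrFun h (.inl 0)) (.inr 0)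
  · simpa [mat2] using congrFun (congrFun h (.inr 0)) (.inl 0)
  · simpa [mat2] using congrFun (congrFun h (.inr 0)) (.inr 0)

theorem quad_mat2 (p q r s : F) (u : Fin 1 ⊕ Fin 1 → F) :
    Cfsg.quadFormPlus 1 F (mat2 p q r s *ᵥ u) =
      (p * u (.inl 0) + q * u (.inr 0)) * (r * u (.inl 0) + s * u (.inr 0)) := by
  simp [Cfsg.quadFormPlus, mat2, Matrix.mulVec, dotProduct, Fintype.sum_sum_type]

theorem quad_apply (u : Fin 1 ⊕ Fin 1 → F) :
    Cfsg.quadFormPlus 1 F u = u (.inl 0) * u (.inr 0) := by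
  simp [Cfsg.quadFormPlus]

/-- the diagonal element `diag(a, a⁻¹)` of `GL` -/
def dUnit : Fˣ →* Matrix.GeneralLinearGroup (Fin 1 ⊕ Fin 1) F where
  toFun a := ⟨mat2 (a : F) 0 0 ((a⁻¹ : Fˣ) : F), mat2 ((a⁻¹ : Fˣ) : F) 0 0 (a : F),
    by rw [mat2_mul]; simp [mat2_one], by rw [mat2_mul]; simp [mat2_one]⟩
  map_one' := by
    apply Units.ext
    simp [mat2_one]
  map_mul' a b := by
    apply Units.ext
    show mat2 _ _ _ _ = mat2 _ _ _ _ * mat2 _ _ _ _
    rw [mat2_mul]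
    simp [mul_comm]

theorem dUnit_val (a : Fˣ) : ((dUnit a : Matrix.GeneralLinearGroup (Fin 1 ⊕ Fin 1) F) :
    Matrix (Fin 1 ⊕ Fin 1) (Fin 1 ⊕ Fin 1) F) = mat2 (a : F) 0 0 ((a⁻¹ : Fˣ) : F) := rfl

/-- the swap `[[0,1],[1,0]]` -/
def tauUnit : Matrix.GeneralLinearGroup (Fin 1 ⊕ Fin 1) F :=
  ⟨mat2 0 1 1 0, mat2 0 1 1 0, by rw [mat2_mul]; simp [mat2_one], by rw [mat2_mul]; simp [mat2_one]⟩

theorem mem_isometry_iff (g : Matrix.GeneralLinearGroup (Fin 1 ⊕ Fin 1) F) :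
    g ∈ Cfsg.isometryGroup F (Cfsg.quadFormPlus 1 F) ↔
      ∀ u, Cfsg.quadFormPlus 1 F ((g : Matrix (Fin 1 ⊕ Fin 1) (Fin 1 ⊕ Fin 1) F) *ᵥ u) =
        Cfsg.quadFormPlus 1 F u := by
  constructor
  · intro h u
    exact h u u
  · intro h u _
    exact h u

end aux


/-- GO^+_2(q) is dihedral of order 2(q-1). -/
theorem result {F : Type*} [Field F] [Fintype F] {q : ℕ} (hF : Fintype.card F = q) : Nonempty (Cfsg.isometryGroup F (Cfsg.quadFormPlus 1 F) ≃* DihedralGroup (q - 1)) := by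
  classical
  have hq2 : 2 ≤ q := by
    rw [← hF]; exact Fintype.one_lt_card
  have hcard : Nat.card Fˣ = q - 1 := by
    rw [Nat.card_eq_fintype_card, Fintype.card_units, hF]
  obtain ⟨e, -⟩ : ∃ e : Multiplicative (ZMod (q - 1)) ≃* Fˣ, True := by
    rw [← hcard]; exact ⟨zmodCyclicMulEquiv inferInstance, trivial⟩
  have hD : ∀ a : Fˣ, dUnit a ∈ Cfsg.isometryGroup F (Cfsg.quadFormPlus 1 F) := by
    intro a
    rw [mem_isometry_iff]
    intro u
    rw [dUnit_val, quad_mat2, quad_apply]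
    have : (a : F) * ((a⁻¹ : Fˣ) : F) = 1 := by simp
    linear_combination (u (.inl 0) * u (.inr 0)) * this
  have hτ : tauUnit ∈ Cfsg.isometryGroup F (Cfsg.quadFormPlus 1 F) := by
    rw [mem_isometry_iff]
    intro u
    show Cfsg.quadFormPlus 1 F (mat2 0 1 1 0 *ᵥ u) = _
    rw [quad_mat2, quad_apply]
    ring
  let ρ : Multiplicative (ZMod (q - 1)) →* Cfsg.isometryGroup F (Cfsg.quadFormPlus 1 F) :=
    (dUnit.comp e.toMonoidHom).codRestrict _ (fun x => hD (e x))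
  have hρval : ∀ i, ((ρ i : Matrix.GeneralLinearGroup (Fin 1 ⊕ Fin 1) F) :
      Matrix (Fin 1 ⊕ Fin 1) (Fin 1 ⊕ Fin 1) F) = mat2 ((e i : Fˣ) : F) 0 0 (((e i)⁻¹ : Fˣ) : F) :=
    fun i => rfl
  let τ : Cfsg.isometryGroup F (Cfsg.quadFormPlus 1 F) := ⟨tauUnit, hτ⟩
  have hτval : ((τ : Matrix.GeneralLinearGroup (Fin 1 ⊕ Fin 1) F) :
      Matrix (Fin 1 ⊕ Fin 1) (Fin 1 ⊕ Fin 1) F) = mat2 0 1 1 0 := rfl
  have hext : ∀ g h : Cfsg.isometryGroup F (Cfsg.quadFormPlus 1 F),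
      ((g : Matrix.GeneralLinearGroup (Fin 1 ⊕ Fin 1) F) : Matrix (Fin 1 ⊕ Fin 1) (Fin 1 ⊕ Fin 1) F) =
      ((h : Matrix.GeneralLinearGroup (Fin 1 ⊕ Fin 1) F) : Matrix (Fin 1 ⊕ Fin 1) (Fin 1 ⊕ Fin 1) F) →
      g = h := fun g h hh => Subtype.ext (Units.ext hh)
  apply Cfsg.Agent.Lib.Helper6.nonempty_mulEquiv_dihedral ρ ?_ τ ?_ ?_ ?_ ?_
  · intro i j hij
    have h1 := congrArg (fun g : Cfsg.isometryGroup F (Cfsg.quadFormPlus 1 F) =>
      ((g : Matrix.GeneralLinearGroup (Fin 1 ⊕ Fin 1) F) : Matrix (Fin 1 ⊕ Fin 1) (Fin 1 ⊕ Fin 1) F)) hij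
    simp only [hρval] at h1
    have := (mat2_inj h1).1
    exact e.injective (Units.ext this)
  · apply hext
    show mat2 0 1 1 0 * mat2 0 1 1 0 = 1
    rw [mat2_mul]; simp [mat2_one]
  · intro i
    apply hext
    show mat2 0 1 1 0 * mat2 _ _ _ _ * mat2 0 1 1 0 = _
    rw [hρval, mat2_mul, mat2_mul, map_inv, inv_inv]
    simp
  · intro i h
    have h1 := congrArg (fun g : Cfsg.isometryGroup F (Cfsg.quadFormPlus 1 F) =>
      ((g : Matrix.GeneralLinearGroup (Fin 1 ⊕ Fin 1) F) : Matrix (Fin 1 ⊕ Fin 1) (Fin 1 ⊕ Fin 1) F)) h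
    simp only [hρval, hτval] at h1
    have := (mat2_inj h1).1
    exact (e i).ne_zero this.symm
  · intro g
    have hg := (mem_isometry_iff g.1).1 g.2
    obtain ⟨p, q', r, s, hMeq⟩ : ∃ p q' r s : F, ((g : Matrix.GeneralLinearGroup (Fin 1 ⊕ Fin 1) F) :
        Matrix (Fin 1 ⊕ Fin 1) (Fin 1 ⊕ Fin 1) F) = mat2 p q' r s := ⟨_, _, _, _, eq_mat2 _⟩
    rw [hMeq] at hg
    have h10 := hg (Sum.elim (fun _ => 1) (fun _ => 0))
    have h01 := hg (Sum.elim (fun _ => 0) (fun _ => 1))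
    have h11 := hg (Sum.elim (fun _ => 1) (fun _ => 1))
    rw [quad_mat2, quad_apply] at h10 h01 h11
    simp only [Sum.elim_inl, Sum.elim_inr, mul_one, mul_zero, add_zero, zero_add] at h10 h01 h11
    by_cases hp : p = 0
    · right
      have hqr : q' * r = 1 := by rw [hp] at h11; linear_combination h11 - h01
      have hr0 : r ≠ 0 := by rintro h; rw [h] at hqr; simp at hqr
      have hq0 : q' ≠ 0 := by rintro h; rw [h] at hqr; simp at hqr
      have hs : s = 0 := by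
        rcases mul_eq_zero.1 h01 with h | h
        · exact absurd h hq0
        · exact h
      obtain ⟨i, hi⟩ := e.surjective (Units.mk0 r hr0)
      refine ⟨i, ?_⟩
      apply hext
      have hprod : (((τ * ρ i : Cfsg.isometryGroup F (Cfsg.quadFormPlus 1 F)) :
          Matrix.GeneralLinearGroup (Fin 1 ⊕ Fin 1) F) : Matrix (Fin 1 ⊕ Fin 1) (Fin 1 ⊕ Fin 1) F) =
          mat2 0 1 1 0 * mat2 ((e i : Fˣ) : F) 0 0 (((e i)⁻¹ : Fˣ) : F) := rfl
      rw [hprod, hMeq, mat2_mul, hi]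
      have hq'r : q' = r⁻¹ := eq_inv_of_mul_eq_one_left hqr
      simp [hp, hs, hq'r]
    · left
      have hr : r = 0 := by
        rcases mul_eq_zero.1 h10 with h | h
        · exact absurd h hp
        · exact h
      have hps : p * s = 1 := by rw [hr] at h11; linear_combination h11 - h01
      have hs0 : s ≠ 0 := by rintro h; rw [h] at hps; simp at hps
      have hq : q' = 0 := by
        rcases mul_eq_zero.1 h01 with h | h
        · exact h
        · exact absurd h hs0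
      obtain ⟨i, hi⟩ := e.surjective (Units.mk0 p hp)
      refine ⟨i, ?_⟩
      apply hext
      rw [hρval, hMeq, hi]
      have hsp : s = p⁻¹ := eq_inv_of_mul_eq_one_right hps
      simp [hq, hr, hsp]

end Cfsg.Agent.S0305
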