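import Cfsg.Statements.S0306
import Mathlib
import Cfsg.Agent.Lib.Helper6.DihedralRec
import Cfsg.Agent.Lib.Helper41.SL2Nonsplit
import Cfsg.Agent.Lib.Helper95.IsometryReindex

set_option autoImplicit false
open Cfsg

namespace Cfsg.Agent.S0306

open Matrix QuadraticAlgebra

section fin2

variable {F : Type*} [Field F] (a b : F)

/-- the binary form on `Fin 2` -/
def Q2 (v : Fin 2 → F) : F := v 0 ^ 2 + a * v 0 * v 1 + b * v 1 ^ 2

/-- coordinates to the quadratic algebra -/
def toE (v : Fin 2 → F) : QuadraticAlgebra F (-b) a := ⟨v 0, v 1⟩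

theorem Q2_eq_norm (v : Fin 2 → F) : Q2 a b v = norm (toE a b v) := by
  simp only [Q2, toE, QuadraticAlgebra.norm_def]
  ring

/-- matrix of multiplication by `z` -/
def Rmat (z : QuadraticAlgebra F (-b) a) : Matrix (Fin 2) (Fin 2) F :=
  !![z.re, -b * z.im; z.im, z.re + a * z.im]

theorem Rmat_mulVec (z : QuadraticAlgebra F (-b) a) (v : Fin 2 → F) :
    toE a b (Rmat a b z *ᵥ v) = z * toE a b v := by
  ext
  · simp [toE, Rmat, Matrix.mulVec, dotProduct, Fin.sum_univ_two]
  · simp [toE, Rmat, Matrix.mulVec, dotProduct, Fin.sum_univ_two]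
    ring

theorem Rmat_one : Rmat a b 1 = 1 := by
  ext i j
  fin_cases i <;> fin_cases j <;> simp [Rmat]

theorem Rmat_mul (z w : QuadraticAlgebra F (-b) a) :
    Rmat a b (z * w) = Rmat a b z * Rmat a b w := by
  ext i j
  fin_cases i <;> fin_cases j <;> simp [Rmat, Matrix.mul_apply, Fin.sum_univ_two] <;> ring

/-- rotations as a monoid hom -/
def Rhom : QuadraticAlgebra F (-b) a →* Matrix (Fin 2) (Fin 2) F where
  toFun := Rmat a b
  map_one' := Rmat_one a b
  map_mul' := Rmat_mul a b

theorem Rmat_injective : Function.Injective (Rmat a b) := by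
  intro z w h
  ext
  · simpa [Rmat] using congrFun (congrFun h 0) 0
  · simpa [Rmat] using congrFun (congrFun h 1) 0

/-- the reflection (conjugation) -/
def Smat : Matrix (Fin 2) (Fin 2) F := !![1, a; 0, -1]

theorem Smat_mul_self : Smat a * Smat a = 1 := by
  ext i j
  fin_cases i <;> fin_cases j <;> simp [Smat, Matrix.mul_apply, Fin.sum_univ_two]

theorem Smat_mulVec (v : Fin 2 → F) : toE a b (Smat a *ᵥ v) = star (toE a b v) := by
  ext
  · simp [toE, Smat, Matrix.mulVec, dotProduct, Fin.sum_univ_two]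
  · simp [toE, Smat, Matrix.mulVec, dotProduct, Fin.sum_univ_two]

theorem Smat_Rmat_Smat (z : QuadraticAlgebra F (-b) a) :
    Smat a * Rmat a b z * Smat a = Rmat a b (star z) := by
  ext i j
  fin_cases i <;> fin_cases j <;> simp [Smat, Rmat, Matrix.mul_apply, Fin.sum_univ_two] <;> ring

theorem Q2_Rmat (z : QuadraticAlgebra F (-b) a) (hz : norm z = 1) (v : Fin 2 → F) :
    Q2 a b (Rmat a b z *ᵥ v) = Q2 a b v := by
  rw [Q2_eq_norm, Rmat_mulVec, map_mul, hz, one_mul, Q2_eq_norm]

theorem Q2_Smat (v : Fin 2 → F) : Q2 a b (Smat a *ᵥ v) = Q2 a b v := by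
  rw [Q2_eq_norm, Smat_mulVec, QuadraticAlgebra.norm_star, Q2_eq_norm]

end fin2

section main

variable {F : Type*} [Field F] [Fintype F] (a b : F)

omit [Fintype F] in
theorem fact_of_aniso
    (hab : ∀ z₁ z₂ : F, z₁ ^ 2 + a * z₁ * z₂ + b * z₂ ^ 2 = 0 → z₁ = 0 ∧ z₂ = 0) :
    ∀ r : F, r ^ 2 ≠ -b + a * r := by
  intro r hr
  have := (hab r (-1) (by rw [hr]; ring)).2
  exact one_ne_zero (neg_eq_zero.mp this)

theorem not_a_zero_and_char_two
    (hab : ∀ z₁ z₂ : F, z₁ ^ 2 + a * z₁ * z₂ + b * z₂ ^ 2 = 0 → z₁ = 0 ∧ z₂ = 0) :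
    ¬ (a = 0 ∧ (2 : F) = 0) := by
  rintro ⟨rfl, h2⟩
  have hchar : ringChar F = 2 :=
    CharP.ringChar_of_prime_eq_zero Nat.prime_two (by exact_mod_cast h2)
  obtain ⟨c, hc⟩ := FiniteField.isSquare_of_char_two hchar b
  have := (hab c 1 (by rw [hc]; linear_combination (c ^ 2) * h2)).2
  exact one_ne_zero this

variable [hfact : Fact (∀ r : F, r ^ 2 ≠ -b + a * r)]

theorem pow_card_add_one (z : QuadraticAlgebra F (-b) a) :
    z ^ (Fintype.card F + 1) = algebraMap F _ (QuadraticAlgebra.norm z) := by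
  rw [← Cfsg.Agent.Lib.Helper41.algebra_norm_eq, FiniteField.algebraMap_norm_eq_pow,
    Cfsg.Agent.Lib.Helper41.card_sub_one_div]

theorem mem_ker_iff (u : (QuadraticAlgebra F (-b) a)ˣ) :
    u ∈ (powMonoidHom (Fintype.card F + 1) : (QuadraticAlgebra F (-b) a)ˣ →* _).ker ↔
      QuadraticAlgebra.norm (u : QuadraticAlgebra F (-b) a) = 1 := by
  rw [MonoidHom.mem_ker, powMonoidHom_apply, ← Units.val_inj, Units.val_pow_eq_pow_val,
    Units.val_one, pow_card_add_one, ← map_one (algebraMap F (QuadraticAlgebra F (-b) a))]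
  exact QuadraticAlgebra.algebraMap_inj

theorem card_ker :
    Nat.card (powMonoidHom (Fintype.card F + 1) : (QuadraticAlgebra F (-b) a)ˣ →* _).ker
      = Fintype.card F + 1 := by
  rw [IsCyclic.card_powMonoidHom_ker, Nat.card_units,
    Cfsg.Agent.Lib.Helper41.card_quadraticAlgebra]
  apply Nat.gcd_eq_right
  have h1 : 1 < Fintype.card F := Fintype.one_lt_card
  refine ⟨Fintype.card F - 1, ?_⟩
  obtain ⟨r, hr⟩ : ∃ r, Fintype.card F = r + 1 := ⟨Fintype.card F - 1, by omega⟩
  rw [hr]
  have : (r + 1) ^ 2 = (r + 1 + 1) * r + 1 := by ring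
  rw [this]
  simp

end main

section final

theorem exists_zmod_equiv {G : Type*} [Group G] [IsCyclic G] (n : ℕ) (h : Nat.card G = n) :
    Nonempty (Multiplicative (ZMod n) ≃* G) := by
  subst h
  exact ⟨zmodCyclicMulEquiv inferInstance⟩

variable {F : Type*} [Field F] [Fintype F]

theorem fin2_result {q : ℕ} (hF : Fintype.card F = q) (a b : F)
    (hab : ∀ z₁ z₂ : F, z₁ ^ 2 + a * z₁ * z₂ + b * z₂ ^ 2 = 0 → z₁ = 0 ∧ z₂ = 0) :
    Nonempty (Cfsg.isometryGroup F (Q2 a b) ≃* DihedralGroup (q + 1)) := by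
  classical
  subst hF
  have hfact : Fact (∀ r : F, r ^ 2 ≠ -b + a * r) := ⟨fact_of_aniso a b hab⟩
  have hmemG : ∀ g : Matrix.GeneralLinearGroup (Fin 2) F,
      g ∈ Cfsg.isometryGroup F (Q2 a b) ↔
        ∀ v, Q2 a b ((g : Matrix (Fin 2) (Fin 2) F) *ᵥ v) = Q2 a b v :=
    fun g => ⟨fun h v => h v v, fun h u _ => h u⟩
  obtain ⟨e⟩ : Nonempty (Multiplicative (ZMod (Fintype.card F + 1)) ≃*
      (powMonoidHom (Fintype.card F + 1) : (QuadraticAlgebra F (-b) a)ˣ →* _).ker) :=
    exists_zmod_equiv _ (card_ker a b)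
  -- rotations
  have hRmem : ∀ u : (powMonoidHom (Fintype.card F + 1) : (QuadraticAlgebra F (-b) a)ˣ →* _).ker,
      Units.map (Rhom a b) u.1 ∈ Cfsg.isometryGroup F (Q2 a b) := fun u =>
    (hmemG _).mpr (fun v => Q2_Rmat a b _ ((mem_ker_iff a b u.1).mp u.2) v)
  let ρ : Multiplicative (ZMod (Fintype.card F + 1)) →* Cfsg.isometryGroup F (Q2 a b) :=
    (((Units.map (Rhom a b)).comp (Subgroup.subtype _)).comp e.toMonoidHom).codRestrict _
      (fun i => hRmem (e i))
  let τ : Cfsg.isometryGroup F (Q2 a b) :=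
    ⟨⟨Smat a, Smat a, Smat_mul_self a, Smat_mul_self a⟩, (hmemG _).mpr (fun v => Q2_Smat a b v)⟩
  have hext : ∀ g h : Cfsg.isometryGroup F (Q2 a b),
      ((g : Matrix.GeneralLinearGroup (Fin 2) F) : Matrix (Fin 2) (Fin 2) F) =
      ((h : Matrix.GeneralLinearGroup (Fin 2) F) : Matrix (Fin 2) (Fin 2) F) → g = h :=
    fun g h hh => Subtype.ext (Units.ext hh)
  have hρval : ∀ i, ((ρ i : Matrix.GeneralLinearGroup (Fin 2) F) : Matrix (Fin 2) (Fin 2) F)
      = Rmat a b (((e i : (QuadraticAlgebra F (-b) a)ˣ)) : QuadraticAlgebra F (-b) a) := fun i => rfl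
  have hτval : ((τ : Matrix.GeneralLinearGroup (Fin 2) F) : Matrix (Fin 2) (Fin 2) F) = Smat a := rfl
  have hτρval : ∀ i, (((τ * ρ i : Cfsg.isometryGroup F (Q2 a b)) :
      Matrix.GeneralLinearGroup (Fin 2) F) : Matrix (Fin 2) (Fin 2) F)
      = Smat a * Rmat a b (((e i : (QuadraticAlgebra F (-b) a)ˣ)) : QuadraticAlgebra F (-b) a) :=
    fun i => rfl
  -- norm-one elements give indices
  have hidx : ∀ u : QuadraticAlgebra F (-b) a, QuadraticAlgebra.norm u = 1 →
      ∃ i, (((e i : (QuadraticAlgebra F (-b) a)ˣ)) : QuadraticAlgebra F (-b) a) = u := by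
    intro u hu
    have hu0 : u ≠ 0 := by
      rintro rfl
      rw [QuadraticAlgebra.norm_zero] at hu
      exact zero_ne_one hu
    refine ⟨e.symm ⟨Units.mk0 u hu0, (mem_ker_iff a b _).mpr (by simpa using hu)⟩, ?_⟩
    rw [MulEquiv.apply_symm_apply]
    rfl
  apply Cfsg.Agent.Lib.Helper6.nonempty_mulEquiv_dihedral ρ ?_ τ ?_ ?_ ?_ ?_
  · -- injective
    intro i j hij
    have h1 := congrArg (fun g : Cfsg.isometryGroup F (Q2 a b) =>
      ((g : Matrix.GeneralLinearGroup (Fin 2) F) : Matrix (Fin 2) (Fin 2) F)) hij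
    simp only [hρval] at h1
    exact e.injective (Subtype.ext (Units.ext (Rmat_injective a b h1)))
  · apply hext
    show Smat a * Smat a = 1
    exact Smat_mul_self a
  · intro i
    apply hext
    show Smat a * Rmat a b _ * Smat a = Rmat a b _
    rw [Smat_Rmat_Smat]
    congr 1
    rw [map_inv]
    have hn := (mem_ker_iff a b (e i).1).mp (e i).2
    have h3 : (((e i : (QuadraticAlgebra F (-b) a)ˣ)) : QuadraticAlgebra F (-b) a)
        * star (((e i : (QuadraticAlgebra F (-b) a)ˣ)) : QuadraticAlgebra F (-b) a) = 1 := by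
      rw [← QuadraticAlgebra.algebraMap_norm_eq_mul_star, hn, map_one]
    exact (Units.inv_eq_of_mul_eq_one_right h3).symm
  · -- τ ≠ ρ i
    intro i h
    have h1 := congrArg (fun g : Cfsg.isometryGroup F (Q2 a b) =>
      ((g : Matrix.GeneralLinearGroup (Fin 2) F) : Matrix (Fin 2) (Fin 2) F)) h
    simp only [hρval, hτval] at h1
    set u := (((e i : (QuadraticAlgebra F (-b) a)ˣ)) : QuadraticAlgebra F (-b) a) with hu
    have e00 : (1 : F) = u.re := by simpa [Smat, Rmat] using congrFun (congrFun h1 0) 0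
    have e01 : a = -b * u.im := by simpa [Smat, Rmat] using congrFun (congrFun h1 0) 1
    have e10 : (0 : F) = u.im := by simpa [Smat, Rmat] using congrFun (congrFun h1 1) 0
    have e11 : (-1 : F) = u.re + a * u.im := by simpa [Smat, Rmat] using congrFun (congrFun h1 1) 1
    apply not_a_zero_and_char_two a b hab
    refine ⟨by rw [e01, ← e10, mul_zero], ?_⟩
    rw [← e00, ← e10, mul_zero, add_zero] at e11
    linear_combination -e11
  · -- every isometry
    intro g
    have hg := (hmemG g.1).mp g.2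
    set M := ((g : Matrix.GeneralLinearGroup (Fin 2) F) : Matrix (Fin 2) (Fin 2) F) with hM
    set u : QuadraticAlgebra F (-b) a := ⟨M 0 0, M 1 0⟩ with hu
    set v : QuadraticAlgebra F (-b) a := ⟨M 0 1, M 1 1⟩ with hv
    have hunorm : QuadraticAlgebra.norm u = 1 := by
      have := hg ![1, 0]
      rw [Q2_eq_norm, Q2_eq_norm] at this
      have h1 : toE a b (M *ᵥ ![1, 0]) = u := by
        ext <;> simp [toE, hu, Matrix.mulVec, dotProduct, Fin.sum_univ_two]
      rw [h1] at this
      rw [this]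
      simp [toE, QuadraticAlgebra.norm_def]
    have hvnorm : QuadraticAlgebra.norm v = b := by
      have := hg ![0, 1]
      rw [Q2_eq_norm, Q2_eq_norm] at this
      have h1 : toE a b (M *ᵥ ![0, 1]) = v := by
        ext <;> simp [toE, hv, Matrix.mulVec, dotProduct, Fin.sum_univ_two]
      rw [h1] at this
      rw [this]
      simp [toE, QuadraticAlgebra.norm_def]
    have huvnorm : QuadraticAlgebra.norm (u + v) = 1 + a + b := by
      have := hg ![1, 1]
      rw [Q2_eq_norm, Q2_eq_norm] at this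
      have h1 : toE a b (M *ᵥ ![1, 1]) = u + v := by
        ext <;> simp [toE, hu, hv, Matrix.mulVec, dotProduct, Fin.sum_univ_two]
      rw [h1] at this
      rw [this]
      simp [toE, QuadraticAlgebra.norm_def]
    set w := star u * v with hw
    have hwnorm : QuadraticAlgebra.norm w = b := by
      rw [hw, map_mul, QuadraticAlgebra.norm_star, hunorm, one_mul, hvnorm]
    have huw : u * w = v := by
      rw [hw, ← mul_assoc, ← QuadraticAlgebra.algebraMap_norm_eq_mul_star, hunorm, map_one, one_mul]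
    have hwtr : w + star w = algebraMap F _ a := by
      have h1 := QuadraticAlgebra.algebraMap_norm_eq_mul_star (u + v)
      have h2 := QuadraticAlgebra.algebraMap_norm_eq_mul_star u
      have h3 := QuadraticAlgebra.algebraMap_norm_eq_mul_star v
      rw [huvnorm, star_add, map_add, map_add] at h1
      rw [hunorm] at h2
      rw [hvnorm] at h3
      rw [hw, star_mul, star_star]
      linear_combination h2 + h3 - h1
    have htr : 2 * w.re + a * w.im = a := by
      have := congrArg QuadraticAlgebra.re hwtr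
      simp only [QuadraticAlgebra.re_add, QuadraticAlgebra.re_star,
        QuadraticAlgebra.algebraMap_re] at this
      linear_combination this
    have hn : w.re * w.re + a * w.re * w.im + b * w.im * w.im = b := by
      have := hwnorm
      rw [QuadraticAlgebra.norm_def] at this
      linear_combination this
    have hprod : (w - ⟨0, 1⟩) * (w - ⟨a, -1⟩) = 0 := by
      ext
      · simp only [QuadraticAlgebra.re_mul, QuadraticAlgebra.re_sub, QuadraticAlgebra.im_sub,
          QuadraticAlgebra.re_zero]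
        linear_combination w.re * htr - hn
      · simp only [QuadraticAlgebra.im_mul, QuadraticAlgebra.re_sub, QuadraticAlgebra.im_sub,
          QuadraticAlgebra.im_zero]
        linear_combination w.im * htr
    have hMeta := Matrix.eta_fin_two M
    rcases mul_eq_zero.mp hprod with h | h
    · -- rotation
      rw [sub_eq_zero] at h
      rw [h] at huw
      have hre := congrArg QuadraticAlgebra.re huw
      have him := congrArg QuadraticAlgebra.im huw
      simp only [QuadraticAlgebra.re_mul, QuadraticAlgebra.im_mul, hu, hv] at hre him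
      obtain ⟨i, hi⟩ := hidx u hunorm
      left
      refine ⟨i, hext _ _ ?_⟩
      rw [hρval, hi]
      show M = Rmat a b u
      rw [hMeta, Rmat, hu]
      simp only
      rw [← hre, ← him]
      ring_nf
    · -- reflection
      rw [sub_eq_zero] at h
      rw [h] at huw
      have hre := congrArg QuadraticAlgebra.re huw
      have him := congrArg QuadraticAlgebra.im huw
      simp only [QuadraticAlgebra.re_mul, QuadraticAlgebra.im_mul, hu, hv] at hre him
      obtain ⟨i, hi⟩ := hidx (star u) (by rw [QuadraticAlgebra.norm_star, hunorm])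
      right
      refine ⟨i, hext _ _ ?_⟩
      rw [hτρval, hi]
      show M = Smat a * Rmat a b (star u)
      rw [hMeta, Rmat, Smat, hu]
      ext i' j'
      fin_cases i' <;> fin_cases j' <;>
        simp [Matrix.mul_apply, Fin.sum_univ_two, ← hre, ← him] <;> ring

end final

/-- GO^-_2(q) is dihedral of order 2(q+1). -/
theorem result {F : Type*} [Field F] [Fintype F] {q : ℕ} (hF : Fintype.card F = q) (a b : F) (hab : ∀ z₁ z₂ : F, z₁ ^ 2 + a * z₁ * z₂ + b * z₂ ^ 2 = 0 → z₁ = 0 ∧ z₂ = 0) : Nonempty (Cfsg.isometryGroup F (Cfsg.quadFormMinus 0 F a b) ≃* DihedralGroup (q + 1)) := by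
  obtain ⟨φ⟩ := Cfsg.Agent.Lib.Helper95.isometryGroup_reindex F
    (Equiv.emptySum (Fin 0 ⊕ Fin 0) (Fin 2)).symm (Q2 a b) (Cfsg.quadFormMinus 0 F a b)
    (fun w => by simp [Cfsg.quadFormMinus, Q2])
  obtain ⟨ψ⟩ := fin2_result hF a b hab
  exact ⟨φ.trans ψ⟩

end Cfsg.Agent.S0306
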