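import Cfsg.Statements.S0313
import Cfsg.Agent.Lib.Helper6.BNParabolic

set_option autoImplicit false
open Cfsg

namespace Cfsg.Agent.S0313

/-- Two standard parabolic subgroups of a group with a (B,N)-pair which are conjugate in `G` coincide. -/
theorem result {G : Type*} [Group G] (P : Cfsg.BNPair G) {J K : Set G}
    (hJ : J ⊆ P.S) (hK : K ⊆ P.S) (g : G)
    (h : (P.parabolic J).map (MulAut.conj g).toMonoidHom = P.parabolic K) :
    P.parabolic J = P.parabolic K := by
  have hg : g ∈ P.parabolic K := by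
    apply Cfsg.Agent.Lib.Helper6.mem_of_conj_le P (Cfsg.Agent.Lib.Helper6.B_le_parabolic P K)
    intro b hb
    rw [← h]
    exact ⟨b, Cfsg.Agent.Lib.Helper6.B_le_parabolic P J hb, rfl⟩
  apply le_antisymm
  · intro x hx
    have h1 : g * x * g⁻¹ ∈ P.parabolic K := by
      rw [← h]
      exact ⟨x, hx, rfl⟩
    have : x = g⁻¹ * (g * x * g⁻¹) * g := by group
    rw [this]
    exact Subgroup.mul_mem _ (Subgroup.mul_mem _ (Subgroup.inv_mem _ hg) h1) hg
  · intro x hx
    have h1 : g * (g⁻¹ * x * g) * g⁻¹ ∈ P.parabolic K := by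
      have : g * (g⁻¹ * x * g) * g⁻¹ = x := by group
      rw [this]; exact hx
    rw [← h] at h1
    obtain ⟨y, hy, e⟩ := h1
    have e' : g * y * g⁻¹ = g * (g⁻¹ * x * g) * g⁻¹ := e
    have : y = g⁻¹ * x * g := by
      have := congrArg (fun z => g⁻¹ * z * g) e'
      simpa [mul_assoc] using this
    have hy' : g⁻¹ * x * g ∈ P.parabolic J := this ▸ hy
    -- x = g (g⁻¹ x g) g⁻¹, but we want x ∈ P_J: use g ∈ P_K and map back
    -- g⁻¹ x g ∈ P_J; also P_J = g⁻¹ P_K g ∋ g⁻¹ g g = g
    have hgJ : g ∈ P.parabolic J := by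
      have h2 : g * (g⁻¹ * g * g) * g⁻¹ ∈ P.parabolic K := by
        have : g * (g⁻¹ * g * g) * g⁻¹ = g := by group
        rw [this]; exact hg
      rw [← h] at h2
      obtain ⟨z, hz, ez⟩ := h2
      have ez' : g * z * g⁻¹ = g * (g⁻¹ * g * g) * g⁻¹ := ez
      have : z = g := by
        have := congrArg (fun w => g⁻¹ * w * g) ez'
        simpa [mul_assoc] using this
      exact this ▸ hz
    have : x = g * (g⁻¹ * x * g) * g⁻¹ := by group
    rw [this]
    exact Subgroup.mul_mem _ (Subgroup.mul_mem _ hgJ hy') (Subgroup.inv_mem _ hgJ)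

end Cfsg.Agent.S0313
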