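import Cfsg.Statements.S0320
import Cfsg.Agent.Lib.Helper6.BNParabolic
import Cfsg.Agent.Lib.Helper19.ExchangeCoxeter

set_option autoImplicit false
open Cfsg

namespace Cfsg.Agent.S0320

open Cfsg.Agent.Lib.Helper6 Cfsg.Agent.Lib.Helper19.Exch

set_option linter.unusedSectionVars false

section Aux

variable {G : Type*} [Group G] (P : Cfsg.BNPair G) [hN : ((P.B ⊓ P.N).subgroupOf P.N).Normal]

/-- the distinguished generators of the Weyl group -/
def wgen (b : P.S) : P.N ⧸ (P.B ⊓ P.N).subgroupOf P.N :=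
  QuotientGroup.mk (⟨(b : G), P.subset b.2⟩ : P.N)

/-- the underlying word in `G` -/
def uw (ω : List P.S) : List G := ω.map Subtype.val

theorem isWord_uw (ω : List P.S) : IsWord P.S (uw P ω) := by
  intro g hg
  obtain ⟨b, _, rfl⟩ := List.mem_map.1 hg
  exact b.2

theorem mk_eq_iff_rel {n n' : G} (hn : n ∈ P.N) (hn' : n' ∈ P.N) :
    (QuotientGroup.mk (⟨n, hn⟩ : P.N) : P.N ⧸ (P.B ⊓ P.N).subgroupOf P.N) =
      QuotientGroup.mk (⟨n', hn'⟩ : P.N) ↔ Rel P n n' := by
  rw [QuotientGroup.eq, Subgroup.mem_subgroupOf]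
  constructor
  · intro h
    exact h.1
  · intro h
    exact rel_mem_T P hn hn' h

theorem wprod_wgen (ω : List P.S) :
    wprod (wgen P) ω = QuotientGroup.mk (⟨(uw P ω).prod, prod_mem_N P (isWord_uw P ω)⟩ : P.N) := by
  induction ω with
  | nil =>
    rw [wprod_nil]
    rfl
  | cons b ω ih =>
    rw [wprod_cons, ih]
    rfl

theorem exists_lift {l : List G} (hl : IsWord P.S l) : ∃ ω : List P.S, uw P ω = l := by
  induction l with
  | nil => exact ⟨[], rfl⟩
  | cons a l ih =>
    obtain ⟨ω, hω⟩ := ih (isWord_cons.1 hl).2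
    exact ⟨⟨a, (isWord_cons.1 hl).1⟩ :: ω, by simp [uw] at hω ⊢; exact hω⟩

theorem wprod_eq_iff (ω ω' : List P.S) :
    wprod (wgen P) ω = wprod (wgen P) ω' ↔ Rel P (uw P ω).prod (uw P ω').prod := by
  rw [wprod_wgen, wprod_wgen, mk_eq_iff_rel]

theorem len_of_red {ω : List P.S} (h : Red (wgen P) ω) : len P (uw P ω).prod = ω.length := by
  have hle : len P (uw P ω).prod ≤ (uw P ω).length := len_le_of_rep P (rep_prod P (isWord_uw P ω))
  have hlen : (uw P ω).length = ω.length := by simp [uw]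
  obtain ⟨l', hrep, hl'⟩ := exists_rep_len P (prod_mem_N P (isWord_uw P ω))
  obtain ⟨ω', rfl⟩ := exists_lift P hrep.1
  have := h ω' ((wprod_eq_iff P ω' ω).2 hrep.2)
  have hlen' : (uw P ω').length = ω'.length := by simp [uw]
  omega

theorem exchSys : ExchSys (wgen P) where
  sq := by
    intro b
    have h := sq_mem_T P b.2
    have hb : (b : G) ∈ P.N := P.subset b.2
    show (QuotientGroup.mk (⟨(b : G), hb⟩ : P.N) : P.N ⧸ (P.B ⊓ P.N).subgroupOf P.N) *
      QuotientGroup.mk (⟨(b : G), hb⟩ : P.N) = 1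
    rw [← QuotientGroup.mk_mul, QuotientGroup.eq_one_iff, Subgroup.mem_subgroupOf]
    exact h
  inj := by
    intro b b' h
    have := (mk_eq_iff_rel P (P.subset b.2) (P.subset b'.2)).1 h
    exact Subtype.ext (P.inj b b.2 b' b'.2 this)
  exch := by
    intro b ω hω hb
    -- a shorter word for `b :: ω`
    have hb' : ∃ ω'', wprod (wgen P) ω'' = wprod (wgen P) (b :: ω) ∧ ω''.length ≤ ω.length := by
      by_contra hcon
      apply hb
      intro ω'' hω''
      by_contra hlt
      apply hcon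
      refine ⟨ω'', hω'', ?_⟩
      simp only [List.length_cons] at hlt
      omega
    obtain ⟨ω'', hω'', hlen''⟩ := hb'
    have h1 : len P (uw P ω).prod = ω.length := len_of_red P hω
    have e : (uw P (b :: ω)).prod = (b : G) * (uw P ω).prod := by simp [uw]
    have h2 : len P ((b : G) * (uw P ω).prod) ≤ len P (uw P ω).prod := by
      have hrel := (wprod_eq_iff P ω'' (b :: ω)).1 hω''
      rw [e] at hrel
      have hrep : Rep P (uw P ω'') ((b : G) * (uw P ω).prod) := ⟨isWord_uw P ω'', hrel⟩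
      have := len_le_of_rep P hrep
      have hl : (uw P ω'').length = ω''.length := by simp [uw]
      omega
    obtain ⟨l₁, s', l₂, hl, hrel⟩ := exchange P b.2 (isWord_uw P ω) h2
    -- pull the decomposition back
    unfold uw at hl
    obtain ⟨ω₁, ω₂', rfl, h₁, h₂⟩ := List.map_eq_append_iff.1 hl
    obtain ⟨b', ω₂, rfl, hb's, h₂'⟩ := List.map_eq_cons_iff.1 h₂
    refine ⟨ω₁, b', ω₂, rfl, ?_⟩
    have e1 : wgen P b * wprod (wgen P) ω₁ = wprod (wgen P) (b :: ω₁) := (wprod_cons _ _ _).symm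
    have e2 : wprod (wgen P) ω₁ * wgen P b' = wprod (wgen P) (ω₁ ++ [b']) := by
      rw [wprod_append, wprod_singleton]
    rw [e1, e2, wprod_eq_iff]
    have e3 : (uw P (b :: ω₁)).prod = (b : G) * l₁.prod := by
      rw [← h₁]; simp [uw]
    have e4 : (uw P (ω₁ ++ [b'])).prod = l₁.prod * s' := by
      rw [← h₁, ← hb's]; simp [uw]
    rw [e3, e4]
    exact hrel

theorem wgen_closure : Subgroup.closure (Set.range (wgen P)) = ⊤ := by
  rw [eq_top_iff]
  intro w _
  induction w using QuotientGroup.induction_on with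
  | H n =>
    obtain ⟨n, hn⟩ := n
    obtain ⟨l, hl, hrel⟩ := exists_rep P hn
    obtain ⟨ω, rfl⟩ := exists_lift P hl
    have : (QuotientGroup.mk (⟨n, hn⟩ : P.N) : P.N ⧸ (P.B ⊓ P.N).subgroupOf P.N) =
        wprod (wgen P) ω := by
      rw [wprod_wgen, mk_eq_iff_rel]
      exact rel_symm P hrel
    rw [this]
    unfold wprod
    apply Subgroup.list_prod_mem
    intro x hx
    obtain ⟨b, _, rfl⟩ := List.mem_map.1 hx
    exact Subgroup.subset_closure ⟨b, rfl⟩

end Aux

/-- The Weyl group `W = N / (B ⊓ N)` of a (B,N)-pair, with its distinguished involutions, is a Coxeter system. -/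
theorem result {G : Type*} [Group G] (P : Cfsg.BNPair G)
    [hN : ((P.B ⊓ P.N).subgroupOf P.N).Normal] :
    ∃ (M : CoxeterMatrix P.S) (cs : CoxeterSystem M (P.N ⧸ (P.B ⊓ P.N).subgroupOf P.N)),
      ∀ s : P.S, cs.simple s = QuotientGroup.mk (⟨(s : G), P.subset s.2⟩ : P.N) := by
  exact exists_coxeterSystem (exchSys P) (wgen_closure P)

end Cfsg.Agent.S0320
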