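import Cfsg.Statements.S0321
import Cfsg.Agent.Lib.Helper6.BNRankOne

set_option autoImplicit false
open Cfsg

namespace Cfsg.Agent.S0321

/-- For `n ∈ N` not in `B`, the union `B ∪ B n B` is (the underlying set of) a subgroup exactly when `n` agrees
modulo `B ⊓ N` with one of the distinguished representatives; thus the distinguished involutions are
determined by `B` and `N`. -/
theorem result {G : Type*} [Group G] (P : Cfsg.BNPair G) {n : G}
    (hn : n ∈ P.N) (hnB : n ∉ P.B) :
    (∃ H : Subgroup G, (H : Set G) = (P.B : Set G) ∪ DoubleCoset.doubleCoset n (P.B : Set G) P.B) ↔ ∃ s ∈ P.S, s⁻¹ * n ∈ P.B := by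
  constructor
  · rintro ⟨H, hH⟩
    have hB : P.B ≤ H := by
      intro b hb
      have : b ∈ (H : Set G) := by rw [hH]; exact Or.inl hb
      exact this
    have hnH : n ∈ H := by
      have : n ∈ (H : Set G) := by
        rw [hH]; exact Or.inr (DoubleCoset.mem_doubleCoset_self _ _ _)
      exact this
    obtain ⟨s, hsS, hsH⟩ := Cfsg.Agent.Lib.Helper6.exists_S_mem_of_mem P hB hn hnH hnB
    refine ⟨s, hsS, ?_⟩
    have hs' : s ∈ (H : Set G) := hsH
    rw [hH] at hs'
    rcases hs' with h | h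
    · exact absurd h (Cfsg.Agent.Lib.Helper6.S_not_mem_B P hsS)
    · have h1 := (Cfsg.Agent.Lib.Helper6.inDC_iff P).2 h
      exact Cfsg.Agent.Lib.Helper6.rel_symm P (Cfsg.Agent.Lib.Helper6.bruhat_unique P hn (P.subset hsS) h1)
  · rintro ⟨s, hsS, hr⟩
    refine ⟨P.parabolic {s}, ?_⟩
    ext g
    rw [SetLike.mem_coe, Cfsg.Agent.Lib.Helper6.mem_parabolic_singleton_iff P hsS g, Set.mem_union, SetLike.mem_coe,
      ← Cfsg.Agent.Lib.Helper6.inDC_iff P, Cfsg.Agent.Lib.Helper6.inDC_congr_left P hr]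

end Cfsg.Agent.S0321
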