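import Cfsg.Statements.S0322
import Cfsg.Agent.Lib.Helper6.BNRankOne

set_option autoImplicit false
open Cfsg

namespace Cfsg.Agent.S0322

/-- A group with a (B,N)-pair of rank one acts doubly transitively on the left cosets of `B`. -/
theorem result {G : Type*} [Group G] (P : Cfsg.BNPair G) (h : P.rank = 1) : MulAction.IsMultiplyPretransitive G (G ⧸ P.B) 2 := by
  -- S is a singleton
  have hS : ∃ s, P.S = {s} := by
    have h1 : Nat.card P.S = 1 := h
    rw [Nat.card_eq_one_iff_unique] at h1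
    obtain ⟨hsub, ⟨s⟩⟩ := h1
    refine ⟨s.1, ?_⟩
    ext t
    constructor
    · intro ht
      have : (⟨t, ht⟩ : P.S) = s := Subsingleton.elim _ _
      rw [Set.mem_singleton_iff]
      exact congrArg Subtype.val this
    · intro ht
      rw [Set.mem_singleton_iff] at ht
      rw [ht]; exact s.2
  obtain ⟨s, hS⟩ := hS
  have hsS : s ∈ P.S := by rw [hS]; exact rfl
  have htop : P.parabolic {s} = ⊤ := by
    rw [eq_top_iff, ← P.sup_eq_top]
    refine sup_le (Cfsg.Agent.Lib.Helper6.B_le_parabolic P _) ?_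
    rw [← P.closure_sup, hS]
    exact sup_le (Cfsg.Agent.Lib.Helper6.closure_le_parabolic P _) (le_trans inf_le_left (Cfsg.Agent.Lib.Helper6.B_le_parabolic P _))
  have hcases : ∀ g : G, g ∈ P.B ∨ Cfsg.Agent.Lib.Helper6.InDC P s g := by
    intro g
    rw [← Cfsg.Agent.Lib.Helper6.mem_parabolic_singleton_iff P hsS g, htop]
    exact Subgroup.mem_top g
  rw [MulAction.is_two_pretransitive_iff]
  intro a b c d hab hcd
  induction a using QuotientGroup.induction_on with | _ g₁ => ?_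
  induction b using QuotientGroup.induction_on with | _ g₂ => ?_
  induction c using QuotientGroup.induction_on with | _ g₃ => ?_
  induction d using QuotientGroup.induction_on with | _ g₄ => ?_
  have h12 : g₁⁻¹ * g₂ ∉ P.B := fun hc => hab (QuotientGroup.eq.2 hc)
  have h34 : g₃⁻¹ * g₄ ∉ P.B := fun hc => hcd (QuotientGroup.eq.2 hc)
  obtain ⟨x, hx, y, hy, e⟩ := (hcases (g₁⁻¹ * g₂)).resolve_left h12
  obtain ⟨x', hx', y', hy', e'⟩ := (hcases (g₃⁻¹ * g₄)).resolve_left h34
  refine ⟨g₃ * x' * x⁻¹ * g₁⁻¹, ?_, ?_⟩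
  · rw [MulAction.Quotient.smul_mk, QuotientGroup.eq]
    have : (g₃ * x' * x⁻¹ * g₁⁻¹ * g₁)⁻¹ * g₃ = x * x'⁻¹ := by group
    rw [smul_eq_mul, this]
    exact P.B.mul_mem hx (P.B.inv_mem hx')
  · rw [MulAction.Quotient.smul_mk, QuotientGroup.eq]
    have e2 : g₂ = g₁ * (x * s * y) := by rw [← e]; group
    have e4 : g₄ = g₃ * (x' * s * y') := by rw [← e']; group
    have : (g₃ * x' * x⁻¹ * g₁⁻¹ * g₂)⁻¹ * g₄ = y⁻¹ * y' := by
      rw [e2, e4]; group
    rw [smul_eq_mul, this]
    exact P.B.mul_mem (P.B.inv_mem hy) hy'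

end Cfsg.Agent.S0322
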