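import Cfsg.Statements.S0323
import Mathlib

set_option autoImplicit false
open scoped Pointwise
open Cfsg

namespace Cfsg.Agent.S0323

/-- A doubly transitive action on a set with at least three points yields a (B,N)-pair of rank one:
`B` is the stabiliser of a point `x`, `N` the setwise stabiliser of a pair `{x, y}`. -/
theorem result {G Ω : Type*} [Group G] [MulAction G Ω]
    (h2 : MulAction.IsMultiplyPretransitive G Ω 2) {x y z : Ω} (hxy : x ≠ y) (hyz : y ≠ z) (hxz : x ≠ z) :
    ∃ P : Cfsg.BNPair G, P.B = MulAction.stabilizer G x ∧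
      P.N = MulAction.stabilizer G ({x, y} : Set Ω) ∧ P.rank = 1 := by
  rw [MulAction.is_two_pretransitive_iff] at h2
  obtain ⟨s, hsx, hsy⟩ := h2 hxy (Ne.symm hxy)
  -- basic facts on the setwise stabiliser of {x, y}
  have memN : ∀ g : G, g ∈ MulAction.stabilizer G ({x, y} : Set Ω) ↔
      (g • x = x ∧ g • y = y) ∨ (g • x = y ∧ g • y = x) := by
    intro g
    rw [MulAction.mem_stabilizer_iff]
    constructor
    · intro h
      have hx : g • x ∈ ({x, y} : Set Ω) := by
        rw [← h]; exact Set.smul_mem_smul_set (by simp)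
      have hy : g • y ∈ ({x, y} : Set Ω) := by
        rw [← h]; exact Set.smul_mem_smul_set (by simp)
      have hne : g • x ≠ g • y := fun hc => hxy (MulAction.injective g hc)
      rcases hx with hx | hx <;> rcases hy with hy | hy
      · exact absurd (hx.trans hy.symm) hne
      · exact Or.inl ⟨hx, hy⟩
      · exact Or.inr ⟨hx, hy⟩
      · exact absurd (hx.trans hy.symm) hne
    · rintro (⟨h1, h2⟩ | ⟨h1, h2⟩)
      · rw [← Set.image_smul, Set.image_pair, h1, h2]
      · rw [← Set.image_smul, Set.image_pair, h1, h2, Set.pair_comm]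
  have hsN : s ∈ MulAction.stabilizer G ({x, y} : Set Ω) := (memN s).2 (Or.inr ⟨hsx, hsy⟩)
  have hsinvy : s⁻¹ • y = x := by rw [← hsx]; simp
  have hsinvx : s⁻¹ • x = y := by rw [← hsy]; simp
  have memB : ∀ g : G, g ∈ MulAction.stabilizer G x ↔ g • x = x := fun g =>
    MulAction.mem_stabilizer_iff
  refine ⟨{ B := MulAction.stabilizer G x
            N := MulAction.stabilizer G ({x, y} : Set Ω)
            S := {s}
            sup_eq_top := ?_
            conj_mem := ?_
            subset := ?_
            sq_mem := ?_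
            inj := ?_
            closure_sup := ?_
            mul_mem_union := ?_
            conj_ne := ?_ }, rfl, rfl, ?_⟩
  · -- B ⊔ N = ⊤
    rw [eq_top_iff]
    intro g _
    by_cases hg : g • x = x
    · exact Subgroup.mem_sup_left ((memB g).2 hg)
    · obtain ⟨b, hbx, hbg⟩ := h2 (a := x) (b := g • x) (c := x) (d := y) (Ne.symm hg) hxy
      have hb' : s⁻¹ * b * g ∈ MulAction.stabilizer G x := by
        rw [memB, mul_smul, mul_smul, hbg, hsinvy]
      have : g = b⁻¹ * s * (s⁻¹ * b * g) := by group
      rw [this]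
      refine Subgroup.mul_mem _ (Subgroup.mul_mem _ ?_ (Subgroup.mem_sup_right hsN))
        (Subgroup.mem_sup_left hb')
      exact Subgroup.mem_sup_left (Subgroup.inv_mem _ ((memB b).2 hbx))
  · -- conj_mem
    rintro n hn t ⟨htB, htN⟩
    replace htB : t • x = x := (memB t).1 htB
    replace htN : t ∈ MulAction.stabilizer G ({x, y} : Set Ω) := htN
    have hty : t • y = y := by
      rcases (memN t).1 htN with ⟨_, h⟩ | ⟨h, _⟩
      · exact h
      · exact absurd (htB.symm.trans h) hxy
    rw [memB, mul_smul, mul_smul]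
    have hn' := (memN n⁻¹).1 (Subgroup.inv_mem _ hn)
    rcases hn' with ⟨h1, _⟩ | ⟨h1, _⟩
    · rw [h1, htB]; exact (inv_smul_eq_iff.1 h1).symm
    · rw [h1, hty]; exact (inv_smul_eq_iff.1 h1).symm
  · -- subset
    intro a ha
    rw [Set.mem_singleton_iff] at ha
    subst ha
    exact hsN
  · -- sq_mem
    intro a ha
    rw [Set.mem_singleton_iff] at ha
    subst ha
    rw [memB, mul_smul, hsx, hsy]
  · -- inj
    intro a ha b hb _
    rw [Set.mem_singleton_iff] at ha hb
    rw [ha, hb]
  · -- closure_sup
    apply le_antisymm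
    · refine sup_le ?_ inf_le_right
      rw [Subgroup.closure_le]
      intro a ha
      rw [Set.mem_singleton_iff] at ha
      subst ha
      exact hsN
    · intro n hn
      rcases (memN n).1 hn with ⟨h1, _⟩ | ⟨h1, _⟩
      · exact Subgroup.mem_sup_right ⟨(memB n).2 h1, hn⟩
      · have hmem : s⁻¹ * n ∈ MulAction.stabilizer G x ⊓ MulAction.stabilizer G ({x, y} : Set Ω) := by
          refine ⟨(memB _).2 ?_, Subgroup.mul_mem _ (Subgroup.inv_mem _ hsN) hn⟩
          rw [mul_smul, h1, hsinvy]
        have : n = s * (s⁻¹ * n) := by group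
        rw [this]
        exact Subgroup.mul_mem _ (Subgroup.mem_sup_left (Subgroup.subset_closure rfl))
          (Subgroup.mem_sup_right hmem)
  · -- mul_mem_union
    intro a ha n hn b hb
    rw [Set.mem_singleton_iff] at ha
    subst ha
    rw [memB] at hb
    rcases (memN n).1 hn with ⟨h1, _⟩ | ⟨h1, h1'⟩
    · -- n ∈ B
      left
      rw [DoubleCoset.mem_doubleCoset]
      refine ⟨1, Subgroup.one_mem _, n⁻¹ * b * n, (memB _).2 ?_, by group⟩
      rw [mul_smul, mul_smul, h1, hb]
      exact inv_smul_eq_iff.2 h1.symm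
    · by_cases hby : b • y = y
      · left
        rw [DoubleCoset.mem_doubleCoset]
        refine ⟨a * b * n * (a * n)⁻¹, (memB _).2 ?_, 1, Subgroup.one_mem _, by group⟩
        have e : a * b * n * (a * n)⁻¹ = a * b * a⁻¹ := by group
        rw [e, mul_smul, mul_smul, hsinvx, hby, hsy]
      · right
        have hne1 : a • b • y ≠ x := by
          intro hc
          apply hby
          have : b • y = a⁻¹ • x := by rw [← hc]; simp
          rw [this, hsinvx]
        obtain ⟨c, hcx, hcy⟩ := h2 (a := x) (b := a • b • y) (c := x) (d := y) (Ne.symm hne1) hxy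
        rw [DoubleCoset.mem_doubleCoset]
        refine ⟨c⁻¹, Subgroup.inv_mem _ ((memB c).2 hcx), n⁻¹ * c * a * b * n, (memB _).2 ?_, by group⟩
        simp only [mul_smul]
        rw [h1, hcy]
        exact inv_smul_eq_iff.2 h1.symm
  · -- conj_ne
    intro a ha
    rw [Set.mem_singleton_iff] at ha
    subst ha
    intro hc
    obtain ⟨b, hbx, hby⟩ := h2 (a := x) (b := y) (c := x) (d := z) hxy hxz
    have hmem : a * b * a ∈ (fun b : G => a * b * a) '' (MulAction.stabilizer G x : Set G) :=
      ⟨b, (memB b).2 hbx, rfl⟩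
    rw [hc] at hmem
    replace hmem := (memB _).1 hmem
    rw [mul_smul, mul_smul, hsx, hby] at hmem
    apply hyz
    have : z = a⁻¹ • x := by rw [← hmem]; simp
    rw [this, hsinvx]
  · -- rank
    show Nat.card ({s} : Set G) = 1
    simp

end Cfsg.Agent.S0323
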