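import Cfsg.Statements.S0328
import Cfsg.Agent.Lib.Helper6.SzStab

set_option autoImplicit false
open Cfsg

namespace Cfsg.Agent.S0328

open Cfsg.Agent.Lib.Helper6 Matrix

/-- The stabiliser in the Suzuki group of the two ovoid points spanned by `(1,0,0,0)` and `(0,0,0,1)` is
isomorphic to the multiplicative group of the field (cyclic of order `q - 1`). -/
theorem result {F : Type*} [Field F] [Fintype F] {m : ℕ} (hm : 1 ≤ m)
    (hF : Fintype.card F = 2 ^ (2 * m + 1)) :
    Nonempty (↥(MulAction.stabilizer (Cfsg.Sz F m) (Cfsg.suzukiPointInfinity F) ⊓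
        MulAction.stabilizer (Cfsg.Sz F m) (Cfsg.suzukiPointZero F)) ≃* Fˣ) := by
  have := sz_charP hF
  have hσ : SgSq (F := F) m := sgSq_of_card m hF
  let S : Subgroup (Sz F m) := MulAction.stabilizer (Cfsg.Sz F m) (Cfsg.suzukiPointInfinity F) ⊓
        MulAction.stabilizer (Cfsg.Sz F m) (Cfsg.suzukiPointZero F)
  let φ : Fˣ →* S :=
    { toFun := fun k => ⟨⟨szH m k, szH_mem hσ k⟩, ⟨szH_smul_infPt k, szH_smul_zeroPt k⟩⟩
      map_one' := by
        apply Subtype.ext
        apply Subtype.ext
        exact szH_one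
      map_mul' := by
        intro k1 k2
        apply Subtype.ext
        apply Subtype.ext
        exact szH_mul k1 k2 }
  have hinj : Function.Injective φ := by
    intro k1 k2 h
    apply szH_injective (m := m)
    exact congrArg (fun z : S => ((z : Sz F m) : SpecialLinearGroup (Fin 4) F)) h
  have hsurj : Function.Surjective φ := by
    rintro ⟨⟨g, hg⟩, h1, h2⟩
    obtain ⟨k, hk⟩ := eq_szH_of_fix hm hF hg h1 h2
    refine ⟨k, ?_⟩
    apply Subtype.ext
    apply Subtype.ext
    exact hk.symm
  exact ⟨(MulEquiv.ofBijective φ ⟨hinj, hsurj⟩).symm⟩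

end Cfsg.Agent.S0328
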