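import Cfsg.Statements.S0330
import Cfsg.Agent.Lib.Helper6.SzSylow

set_option autoImplicit false
open Cfsg

namespace Cfsg.Agent.S0330

open Cfsg.Agent.Lib.Helper6 Matrix

/-- Transfer of the centre along a group isomorphism. -/
theorem map_center_eq {A B : Type*} [Group A] [Group B] (e : A ≃* B) :
    (Subgroup.center A).map e.toMonoidHom = Subgroup.center B := by
  ext y
  constructor
  · rintro ⟨x, hx, rfl⟩
    rw [SetLike.mem_coe] at hx
    rw [Subgroup.mem_center_iff] at hx ⊢
    intro g
    obtain ⟨g', rfl⟩ := e.surjective g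
    show e g' * e x = e x * e g'
    rw [← map_mul, ← map_mul, hx g']
  · intro hy
    rw [Subgroup.mem_center_iff] at hy
    refine ⟨e.symm y, ?_, by simp⟩
    rw [SetLike.mem_coe, Subgroup.mem_center_iff]
    intro g
    apply e.injective
    rw [map_mul, map_mul, e.apply_symm_apply, hy]

theorem map_commutator_eq {A B : Type*} [Group A] [Group B] (e : A ≃* B) :
    (commutator A).map e.toMonoidHom = commutator B := by
  rw [commutator_def, commutator_def, Subgroup.map_commutator]
  have : (⊤ : Subgroup A).map e.toMonoidHom = ⊤ :=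
    Subgroup.map_top_of_surjective _ e.surjective
  rw [this]

theorem factorization_two_pow_mul {n r : ℕ} (hr : ¬ 2 ∣ r) : (2 ^ n * r).factorization 2 = n := by
  have hr0 : r ≠ 0 := fun h => hr (h ▸ dvd_zero 2)
  rw [Nat.factorization_mul (by positivity) hr0, Finsupp.add_apply,
    Nat.Prime.factorization_pow Nat.prime_two, Finsupp.single_eq_same,
    Nat.factorization_eq_zero_of_not_dvd hr, add_zero]

/-- A Sylow 2-subgroup `P` of the Suzuki group (field with `q = 2^(2m+1)` elements, `m ≥ 1`) has order `q²` and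
exponent `4`; its centre coincides with its commutator subgroup and has order `q`. -/
theorem result {F : Type*} [Field F] [Fintype F] {m : ℕ} (hm : 1 ≤ m)
    (hF : Fintype.card F = 2 ^ (2 * m + 1)) (P : Sylow 2 (Cfsg.Sz F m)) :
    Nat.card P = (2 ^ (2 * m + 1)) ^ 2 ∧ Monoid.exponent P = 4 ∧
      Subgroup.center P = commutator P ∧ Nat.card (Subgroup.center P) = 2 ^ (2 * m + 1) := by
  have := sz_charP hF
  have hσ : SgSq (F := F) m := sgSq_of_card m hF
  have hne := exists_sg_ne hm hF hσ
  have hcF : Nat.card F = 2 ^ (2 * m + 1) := by rw [Nat.card_eq_fintype_card, hF]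
  have hfact : (Nat.card (Sz F m)).factorization 2 = 2 * (2 * m + 1) := by
    rw [card_Sz hm hF]
    have e1 : (2 ^ (2 * m + 1)) ^ 2 * ((2 ^ (2 * m + 1)) ^ 2 + 1) * (2 ^ (2 * m + 1) - 1) =
        2 ^ (2 * (2 * m + 1)) * (((2 ^ (2 * m + 1)) ^ 2 + 1) * (2 ^ (2 * m + 1) - 1)) := by
      rw [← pow_mul, mul_comm (2 * m + 1) 2, mul_assoc]
    rw [e1]
    apply factorization_two_pow_mul
    have hq : ∃ q', 2 ^ (2 * m + 1) = 2 * q' ∧ 1 ≤ q' := ⟨2 ^ (2 * m), by ring, Nat.one_le_two_pow⟩
    obtain ⟨q', hq', hq1⟩ := hq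
    rw [hq']
    intro h
    rcases (Nat.Prime.dvd_mul Nat.prime_two).mp h with h | h
    · have : (2 * q') ^ 2 = 2 * (2 * q' * q') := by ring
      omega
    · omega
  have hcardT : Nat.card (szTsub hσ) = 2 ^ (Nat.card (Sz F m)).factorization 2 := by
    rw [hfact, card_szTsub, hcF, ← pow_mul, mul_comm]
  let Q : Sylow 2 (Sz F m) := Sylow.ofCard (szTsub hσ) hcardT
  have e : P ≃* szTsub hσ := Sylow.equiv P Q
  refine ⟨?_, ?_, ?_, ?_⟩
  · rw [Nat.card_congr e.toEquiv, card_szTsub, hcF]
  · rw [Monoid.exponent_eq_of_mulEquiv e, exponent_szTsub]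
  · apply Subgroup.map_injective (f := e.toMonoidHom) e.injective
    show (Subgroup.center P).map e.toMonoidHom = (commutator P).map e.toMonoidHom
    rw [map_center_eq, map_commutator_eq, center_szTsub_eq_commutator hσ hne]
  · have h1 : Nat.card (Subgroup.center P) = Nat.card ((Subgroup.center P).map e.toMonoidHom) :=
      Nat.card_congr ((Subgroup.center P).equivMapOfInjective e.toMonoidHom e.injective).toEquiv
    rw [h1, map_center_eq, card_center_szTsub hσ hne, hcF]

end Cfsg.Agent.S0330
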