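import Cfsg.Statements.S0334
import Cfsg.Agent.Lib.Helper6.SzGen

set_option autoImplicit false
open Cfsg

namespace Cfsg.Agent.S0334

open Cfsg.Agent.Lib.Helper6 Matrix

theorem form_szT {F : Type*} [Field F] [CharP F 2] (m : ℕ) (a b : F) :
    (szTmat m a b).transpose * suzukiForm F * szTmat m a b = suzukiForm F := by
  have h2 : (2 : F) = 0 := two_eq_zero'
  ext i j
  rw [Matrix.mul_apply, Fin.sum_univ_four]
  simp only [Matrix.mul_apply, Fin.sum_univ_four, Matrix.transpose_apply]
  fin_cases i <;> fin_cases j <;> simp [szTmat, suzukiForm] <;> grind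

theorem form_szH {F : Type*} [Field F] [CharP F 2] (m : ℕ) (k : Fˣ) :
    (szHmat m k).transpose * suzukiForm F * szHmat m k = suzukiForm F := by
  ext i j
  rw [Matrix.mul_apply, Fin.sum_univ_four]
  simp only [Matrix.mul_apply, Fin.sum_univ_four, Matrix.transpose_apply]
  fin_cases i <;> fin_cases j <;> simp [szHmat, suzukiForm]

theorem form_szW {F : Type*} [Field F] :
    (szWmat (F := F)).transpose * suzukiForm F * szWmat = suzukiForm F := by
  ext i j
  rw [Matrix.mul_apply, Fin.sum_univ_four]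
  simp only [Matrix.mul_apply, Fin.sum_univ_four, Matrix.transpose_apply]
  fin_cases i <;> fin_cases j <;> simp [szWmat, suzukiForm]

/-- Every element of the Suzuki group preserves the alternating form with antidiagonal matrix:
`gᵀ J g = J`. Hence the Suzuki group is a subgroup of a 4-dimensional symplectic group. -/
theorem result {F : Type*} [Field F] [Fintype F] {m : ℕ} (hm : 1 ≤ m)
    (hF : Fintype.card F = 2 ^ (2 * m + 1)) {g : Matrix.SpecialLinearGroup (Fin 4) F}
    (hg : g ∈ Cfsg.Sz F m) :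
    (g : Matrix (Fin 4) (Fin 4) F).transpose * Cfsg.suzukiForm F * (g : Matrix (Fin 4) (Fin 4) F) =
      Cfsg.suzukiForm F := by
  have := sz_charP hF
  refine Sz_induction hm hF
    (fun g => (g : Matrix (Fin 4) (Fin 4) F).transpose * Cfsg.suzukiForm F *
      (g : Matrix (Fin 4) (Fin 4) F) = Cfsg.suzukiForm F) (fun a b => form_szT m a b)
    (fun k => form_szH m k) form_szW ?_ ?_ g hg
  · intro g h hg hh
    show ((g * h : SpecialLinearGroup (Fin 4) F) : Matrix (Fin 4) (Fin 4) F).transpose *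
      suzukiForm F * ((g * h : SpecialLinearGroup (Fin 4) F) : Matrix (Fin 4) (Fin 4) F) = _
    have e : ((g * h : SpecialLinearGroup (Fin 4) F) : Matrix (Fin 4) (Fin 4) F) =
      (g : Matrix (Fin 4) (Fin 4) F) * (h : Matrix (Fin 4) (Fin 4) F) := rfl
    rw [e, Matrix.transpose_mul]
    calc (h : Matrix (Fin 4) (Fin 4) F).transpose * (g : Matrix (Fin 4) (Fin 4) F).transpose *
          suzukiForm F * ((g : Matrix (Fin 4) (Fin 4) F) * (h : Matrix (Fin 4) (Fin 4) F))
        = (h : Matrix (Fin 4) (Fin 4) F).transpose * ((g : Matrix (Fin 4) (Fin 4) F).transpose *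
          suzukiForm F * (g : Matrix (Fin 4) (Fin 4) F)) * (h : Matrix (Fin 4) (Fin 4) F) := by
          simp only [Matrix.mul_assoc]
      _ = suzukiForm F := by rw [hg, hh]
  · intro g hg
    have h1 : (g : Matrix (Fin 4) (Fin 4) F) * ((g⁻¹ : SpecialLinearGroup (Fin 4) F) :
        Matrix (Fin 4) (Fin 4) F) = 1 := by
      have e : (g : Matrix (Fin 4) (Fin 4) F) * ((g⁻¹ : SpecialLinearGroup (Fin 4) F) :
        Matrix (Fin 4) (Fin 4) F) = ((g * g⁻¹ : SpecialLinearGroup (Fin 4) F) :
        Matrix (Fin 4) (Fin 4) F) := rfl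
      rw [e, mul_inv_cancel]
      rfl
    show ((g⁻¹ : SpecialLinearGroup (Fin 4) F) : Matrix (Fin 4) (Fin 4) F).transpose *
      suzukiForm F * ((g⁻¹ : SpecialLinearGroup (Fin 4) F) : Matrix (Fin 4) (Fin 4) F) = _
    have hg' : (g : Matrix (Fin 4) (Fin 4) F).transpose * Cfsg.suzukiForm F *
      (g : Matrix (Fin 4) (Fin 4) F) = Cfsg.suzukiForm F := hg
    calc ((g⁻¹ : SpecialLinearGroup (Fin 4) F) : Matrix (Fin 4) (Fin 4) F).transpose *
          suzukiForm F * ((g⁻¹ : SpecialLinearGroup (Fin 4) F) : Matrix (Fin 4) (Fin 4) F)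
        = ((g⁻¹ : SpecialLinearGroup (Fin 4) F) : Matrix (Fin 4) (Fin 4) F).transpose *
          ((g : Matrix (Fin 4) (Fin 4) F).transpose * Cfsg.suzukiForm F *
            (g : Matrix (Fin 4) (Fin 4) F)) *
          ((g⁻¹ : SpecialLinearGroup (Fin 4) F) : Matrix (Fin 4) (Fin 4) F) := by rw [hg']
      _ = ((g : Matrix (Fin 4) (Fin 4) F) * ((g⁻¹ : SpecialLinearGroup (Fin 4) F) :
            Matrix (Fin 4) (Fin 4) F)).transpose * suzukiForm F *
          ((g : Matrix (Fin 4) (Fin 4) F) * ((g⁻¹ : SpecialLinearGroup (Fin 4) F) :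
            Matrix (Fin 4) (Fin 4) F)) := by
          rw [Matrix.transpose_mul]
          simp only [Matrix.mul_assoc]
      _ = suzukiForm F := by rw [h1]; simp

end Cfsg.Agent.S0334
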