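import Cfsg.Statements.S0335
import Cfsg.Agent.Lib.Helper6.SzTrans

set_option autoImplicit false
open Cfsg

namespace Cfsg.Agent.S0335

open Cfsg.Agent.Lib.Helper6 Matrix

/-- The action of `SL₄` preserves projective independence. -/
theorem independent_smul {F : Type*} [Field F] {ι : Type*}
    (g : SpecialLinearGroup (Fin 4) F) {f : ι → Projectivization F (Fin 4 → F)}
    (h : Projectivization.Independent f) : Projectivization.Independent (fun i => g • f i) := by
  obtain ⟨v, hv, hl⟩ := h
  have : (fun i => g • Projectivization.mk F (v i) (hv i)) =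
      fun i => Projectivization.mk F (g • v i) ((smul_ne_zero_iff_ne g).mpr (hv i)) := rfl
  rw [this]
  refine Projectivization.Independent.mk _ _ ?_
  have hker : LinearMap.ker (DistribSMul.toLinearMap F (Fin 4 → F) g) = ⊥ :=
    LinearMap.ker_eq_bot.mpr (MulAction.injective g)
  exact hl.map' (DistribSMul.toLinearMap F (Fin 4 → F) g) hker

theorem independent_std {F : Type*} [Field F] (m : ℕ) (x y : F) (hxy : ¬ (x = 0 ∧ y = 0)) :
    Projectivization.Independent
      ![suzukiPointInfinity F, suzukiPointZero F, szPt m x y] := by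
  have hz : (![0, 0, 0, 1] : Fin 4 → F) ≠ 0 := by
    intro h
    have := congrFun h 3
    simp at this
  let f : Fin 3 → (Fin 4 → F) := ![![1, 0, 0, 0], ![0, 0, 0, 1], szVec m x y]
  have hf : ∀ i, f i ≠ 0 := by
    intro i
    fin_cases i
    · exact szInf_ne_zero
    · exact hz
    · exact szVec_ne_zero m x y
  have hl : LinearIndependent F f := by
    rw [Fintype.linearIndependent_iff]
    intro c hc
    rw [Fin.sum_univ_three] at hc
    have h0 := congrFun hc 0
    have h1 := congrFun hc 1
    have h2 := congrFun hc 2
    have h3 := congrFun hc 3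
    simp [f, szVec] at h0 h1 h2 h3
    have hc2 : c 2 = 0 := by
      by_contra hne
      apply hxy
      exact ⟨by simpa [hne] using h2, by simpa [hne] using h1⟩
    rw [hc2] at h0 h3
    intro i
    fin_cases i
    · simpa using h0
    · simpa using h3
    · exact hc2
  have := Projectivization.Independent.mk f hf hl
  convert this using 1
  ext i
  fin_cases i <;> rfl

/-- The Suzuki–Tits point set is an ovoid: any three distinct points of it are projectively independent
(no line of projective 3-space meets it in more than two points). -/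
theorem result {F : Type*} [Field F] [Fintype F] {m : ℕ} (hm : 1 ≤ m)
    (hF : Fintype.card F = 2 ^ (2 * m + 1)) (p : Fin 3 ↪ Cfsg.suzukiOvoid F m) :
    Projectivization.Independent (fun i => (p i : Projectivization F (Fin 4 → F))) := by
  have := sz_charP hF
  have hσ : SgSq (F := F) m := sgSq_of_card m hF
  have h01 : (p 0 : Projectivization F (Fin 4 → F)) ≠ p 1 := fun h =>
    absurd (p.injective (Subtype.ext h)) (by decide)
  have h02 : (p 0 : Projectivization F (Fin 4 → F)) ≠ p 2 := fun h =>
    absurd (p.injective (Subtype.ext h)) (by decide)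
  have h12 : (p 1 : Projectivization F (Fin 4 → F)) ≠ p 2 := fun h =>
    absurd (p.injective (Subtype.ext h)) (by decide)
  obtain ⟨g, hg, hg0, hg1⟩ := sz_exists_map hσ (p 0).2 (p 1).2 h01
  have hg2 : g • (p 2 : Projectivization F (Fin 4 → F)) ∈ suzukiOvoid F m :=
    sz_smul_mem hg (p 2).2
  rcases (mem_suzukiOvoid_iff m _).1 hg2 with h | ⟨x, y, hxy⟩
  · exfalso
    rw [← hg0] at h
    exact h02 (smul_left_cancel g h).symm
  have hne : ¬ (x = 0 ∧ y = 0) := by
    rintro ⟨rfl, rfl⟩
    rw [szPt_zero, ← hg1] at hxy
    exact h12 (smul_left_cancel g hxy).symm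
  have hind := independent_smul g⁻¹ (independent_std m x y hne)
  convert hind using 1
  ext i
  fin_cases i
  · show (p 0 : Projectivization F (Fin 4 → F)) = g⁻¹ • suzukiPointInfinity F
    rw [← hg0, inv_smul_smul]
  · show (p 1 : Projectivization F (Fin 4 → F)) = g⁻¹ • suzukiPointZero F
    rw [← hg1, inv_smul_smul]
  · show (p 2 : Projectivization F (Fin 4 → F)) = g⁻¹ • szPt m x y
    rw [← hxy, inv_smul_smul]

end Cfsg.Agent.S0335
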