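import Cfsg.Statements.S0339
import Cfsg.Agent.Lib.Helper6.Zassenhaus

set_option autoImplicit false
open Cfsg

namespace Cfsg.Agent.S0339

open MulAction Cfsg.Agent.Lib.Helper6

/-- `M` is a regular subgroup contained in and normalised by `N`. -/
def RegIn {G Ω : Type*} [Group G] [MulAction G Ω] (N M : Subgroup G) : Prop :=
  M ≤ N ∧ (∀ y ∈ N, ∀ m ∈ M, y * m * y⁻¹ ∈ M) ∧ (∀ c d : Ω, ∃ m ∈ M, m • c = d) ∧
    (∀ m ∈ M, ∀ c : Ω, m • c = c → m = 1)

section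

variable {G Ω : Type*} [Group G] [MulAction G Ω] [Finite Ω]

theorem RegIn.eq_of_smul_eq {N M : Subgroup G} (hM : RegIn (Ω := Ω) N M) {m1 m2 : G}
    (h1 : m1 ∈ M) (h2 : m2 ∈ M) {c : Ω} (h : m1 • c = m2 • c) : m1 = m2 := by
  have := hM.2.2.2 (m2⁻¹ * m1) (M.mul_mem (M.inv_mem h2) h1) c (by rw [mul_smul, h, inv_smul_smul])
  have := congrArg (fun z => m2 * z) this
  simpa using this

/-- A nontrivial subgroup of `M` normalised by `N` is all of `M`. -/
theorem RegIn.eq_of_le (hZ : Cfsg.IsZassenhausGroup G Ω) {N : Subgroup G} [hN : N.Normal]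
    (hne : N ≠ ⊥) {M D : Subgroup G} (hM : RegIn (Ω := Ω) N M) (hDM : D ≤ M)
    (hDn : ∀ y ∈ N, ∀ m ∈ D, y * m * y⁻¹ ∈ D) (hD : D ≠ ⊥) : D = M := by
  apply le_antisymm hDM
  intro m1 hm1
  by_cases h1 : m1 = 1
  · rw [h1]; exact D.one_mem
  obtain ⟨d, hdD, hd1⟩ := (D.bot_or_exists_ne_one).resolve_left hD
  obtain ⟨a, b, hab, -⟩ := zass_exists_two_point hZ N hne
  have hda : a ≠ d • a := fun h => hd1 (hM.2.2.2 d (hDM hdD) a h.symm)
  have hma : a ≠ m1 • a := fun h => h1 (hM.2.2.2 m1 hm1 a h.symm)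
  obtain ⟨y, hyN, hya, hyd⟩ := zass_normal_two_transitive hZ N hne hda hma
  have hmem := hDn y hyN d hdD
  have : y * d * y⁻¹ = m1 := by
    apply hM.eq_of_smul_eq (hDM hmem) hm1 (c := a)
    rw [mul_smul, mul_smul]
    nth_rewrite 1 [← hya]
    rw [inv_smul_smul, hyd]
  rw [← this]
  exact hmem

/-- Every element of a regular normal subgroup of `N` is an involution. -/
theorem RegIn.mul_self (hZ : Cfsg.IsZassenhausGroup G Ω) {N : Subgroup G} [hN : N.Normal]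
    (hne : N ≠ ⊥) {M : Subgroup G} (hM : RegIn (Ω := Ω) N M) {m1 : G} (hm1 : m1 ∈ M) :
    m1 * m1 = 1 := by
  by_cases h1 : m1 = 1
  · rw [h1, one_mul]
  obtain ⟨a, b, hab, h, hhN, hh1, hha, hhb⟩ := zass_exists_two_point hZ N hne
  have hma : a ≠ m1 • a := fun h => h1 (hM.2.2.2 m1 hm1 a h.symm)
  obtain ⟨y, hyN, hya, hyb⟩ := zass_normal_two_transitive hZ N hne hma hab
  -- m = y m1 y⁻¹ maps a to b
  have hmM : y * m1 * y⁻¹ ∈ M := hM.2.1 y hyN m1 hm1
  have hmab : (y * m1 * y⁻¹) • a = b := by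
    rw [mul_smul, mul_smul]
    nth_rewrite 1 [← hya]
    rw [inv_smul_smul, hyb]
  -- h commutes with m
  have hcomm : h * (y * m1 * y⁻¹) * h⁻¹ = y * m1 * y⁻¹ := by
    apply hM.eq_of_smul_eq (hM.2.1 h hhN _ hmM) hmM (c := a)
    have hinv : h⁻¹ • a = a := by rw [inv_smul_eq_iff, hha]
    rw [mul_smul, mul_smul, hinv, hmab, hhb]
  have hcomm' : h * (y * m1 * y⁻¹) = (y * m1 * y⁻¹) * h := by
    have := congrArg (fun z => z * h) hcomm
    simpa using this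
  -- m² a is fixed by h
  have hfix : h • ((y * m1 * y⁻¹) • b) = (y * m1 * y⁻¹) • b := by
    rw [← mul_smul, hcomm', mul_smul, hhb]
  have hmb : (y * m1 * y⁻¹) • b = a := by
    by_contra hne'
    have hbb : (y * m1 * y⁻¹) • b ≠ b := by
      intro hb
      have := hM.2.2.2 _ hmM b hb
      rw [this, one_smul] at hmab
      exact hab hmab
    exact hh1 (hZ.2.2.1 h a b _ hab (Ne.symm hbb) (Ne.symm hne') hha hhb hfix)
  have hsq : (y * m1 * y⁻¹) * (y * m1 * y⁻¹) = 1 := by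
    apply hM.2.2.2 _ (M.mul_mem hmM hmM) a
    rw [mul_smul, hmab, hmb]
  have : y * (m1 * m1) * y⁻¹ = 1 := by
    rw [← hsq]; group
  have := congrArg (fun z => y⁻¹ * z * y) this
  simpa [mul_assoc] using this

theorem RegIn.comm (hZ : Cfsg.IsZassenhausGroup G Ω) {N : Subgroup G} [hN : N.Normal]
    (hne : N ≠ ⊥) {M : Subgroup G} (hM : RegIn (Ω := Ω) N M) {m1 m2 : G} (hm1 : m1 ∈ M)
    (hm2 : m2 ∈ M) : m1 * m2 = m2 * m1 := by
  have e1 := hM.mul_self hZ hne hm1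
  have e2 := hM.mul_self hZ hne hm2
  have e3 := hM.mul_self hZ hne (M.mul_mem hm1 hm2)
  have : m1 * m2 = m1 * (m1 * m2 * (m1 * m2)) * m2 := by
    rw [e3, mul_one]
  rw [this]
  calc m1 * (m1 * m2 * (m1 * m2)) * m2 = (m1 * m1) * m2 * m1 * (m2 * m2) := by group
    _ = m2 * m1 := by rw [e1, e2, one_mul, mul_one]

/-- Two regular normal subgroups of `N` coincide. -/
theorem RegIn.unique (hZ : Cfsg.IsZassenhausGroup G Ω) {N : Subgroup G} [hN : N.Normal]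
    (hne : N ≠ ⊥) {M M' : Subgroup G} (hM : RegIn (Ω := Ω) N M) (hM' : RegIn (Ω := Ω) N M') :
    M = M' := by
  have := hZ.1
  by_cases hD : M ⊓ M' = ⊥
  · exfalso
    -- M' centralises M
    have hcent : ∀ z ∈ M', ∀ m ∈ M, z * m = m * z := by
      intro z hz m hm
      have h1 : z * m * z⁻¹ * m⁻¹ ∈ M := M.mul_mem (hM.2.1 z (hM'.1 hz) m hm) (M.inv_mem hm)
      have h2 : z * m * z⁻¹ * m⁻¹ ∈ M' := by
        have := M'.mul_mem hz (hM'.2.1 m (hM.1 hm) z⁻¹ (M'.inv_mem hz))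
        simpa [mul_assoc] using this
      have h3 : z * m * z⁻¹ * m⁻¹ ∈ M ⊓ M' := ⟨h1, h2⟩
      rw [hD, Subgroup.mem_bot] at h3
      have := congrArg (fun w => w * m * z) h3
      simpa [mul_assoc] using this
    obtain ⟨a, b, hab, -⟩ := zass_exists_two_point hZ N hne
    obtain ⟨z, hz, hza⟩ := hM'.2.2.1 a b
    obtain ⟨m1, hm1, hm1a⟩ := hM.2.2.1 a b
    -- u = m1⁻¹ z fixes everything
    have hu : m1⁻¹ * z = 1 := by
      apply FaithfulSMul.eq_of_smul_eq_smul (α := Ω)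
      intro c
      obtain ⟨m2, hm2, rfl⟩ := hM.2.2.1 a c
      rw [one_smul, ← mul_smul, mul_assoc, hcent z hz m2 hm2, ← mul_assoc,
        hM.comm hZ hne (M.inv_mem hm1) hm2, mul_assoc, mul_smul, mul_smul, hza, ← hm1a,
        inv_smul_smul]
    have hzm : z = m1 := by
      have := congrArg (fun w => m1 * w) hu
      simpa using this
    have : z ∈ M ⊓ M' := ⟨hzm ▸ hm1, hz⟩
    rw [hD, Subgroup.mem_bot] at this
    rw [this, one_smul] at hza
    exact hab hza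
  · have hDn : ∀ y ∈ N, ∀ m ∈ M ⊓ M', y * m * y⁻¹ ∈ M ⊓ M' := fun y hy m hm =>
      ⟨hM.2.1 y hy m hm.1, hM'.2.1 y hy m hm.2⟩
    exact (hM.eq_of_le hZ hne inf_le_left hDn hD).symm.trans
      (hM'.eq_of_le hZ hne inf_le_right hDn hD)

/-- Conjugates in `G` of a regular normal subgroup of `N` are again such. -/
theorem RegIn.conj {N : Subgroup G} [hN : N.Normal] {M : Subgroup G}
    (hM : RegIn (Ω := Ω) N M) (g : G) :
    RegIn (Ω := Ω) N (M.map (MulAut.conj g).toMonoidHom) := by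
  refine ⟨?_, ?_, ?_, ?_⟩
  · rintro _ ⟨m, hm, rfl⟩
    exact hN.conj_mem m (hM.1 hm) g
  · rintro y hy _ ⟨m, hm, rfl⟩
    have hy' : g⁻¹ * y * g⁻¹⁻¹ ∈ N := hN.conj_mem y hy g⁻¹
    refine ⟨(g⁻¹ * y * g⁻¹⁻¹) * m * (g⁻¹ * y * g⁻¹⁻¹)⁻¹, hM.2.1 _ hy' m hm, ?_⟩
    simp only [MulEquiv.coe_toMonoidHom, MulAut.conj_apply]
    group
  · intro c d
    obtain ⟨m, hm, hmc⟩ := hM.2.2.1 (g⁻¹ • c) (g⁻¹ • d)
    refine ⟨_, ⟨m, hm, rfl⟩, ?_⟩
    simp only [MulEquiv.coe_toMonoidHom, MulAut.conj_apply]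
    rw [mul_smul, mul_smul, hmc, smul_inv_smul]
  · rintro _ ⟨m, hm, rfl⟩ c hc
    simp only [MulEquiv.coe_toMonoidHom, MulAut.conj_apply] at hc ⊢
    have : m = 1 := by
      apply hM.2.2.2 m hm (g⁻¹ • c)
      rw [mul_smul, mul_smul] at hc
      exact (smul_eq_iff_eq_inv_smul g).mp hc
    rw [this]
    group

end

/-- A non-trivial normal subgroup of a Zassenhaus group is itself a Zassenhaus group on the same set. -/
theorem result {G Ω : Type*} [Group G] [MulAction G Ω] [Finite Ω]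
    (hZ : Cfsg.IsZassenhausGroup G Ω) (N : Subgroup G) [N.Normal] (hN : N ≠ ⊥) :
    Cfsg.IsZassenhausGroup N Ω := by
  have hfaith := hZ.1
  refine ⟨?_, zass_normal_isMultiplyPretransitive hZ N hN, ?_, ?_, ?_⟩
  · constructor
    intro x y h
    apply Subtype.ext
    exact FaithfulSMul.eq_of_smul_eq_smul (α := Ω) h
  · intro g a b c hab hbc hac ha hb hc
    apply Subtype.ext
    exact hZ.2.2.1 (g : G) a b c hab hbc hac ha hb hc
  · obtain ⟨a, b, hab, x, hxN, hx1, hxa, hxb⟩ := zass_exists_two_point hZ N hN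
    exact ⟨⟨x, hxN⟩, fun h => hx1 (congrArg Subtype.val h), a, b, hab, hxa, hxb⟩
  · intro M hMn hMtr
    by_contra hcon
    push Not at hcon
    have hM' : RegIn (Ω := Ω) N (M.map N.subtype) := by
      refine ⟨?_, ?_, ?_, ?_⟩
      · rintro _ ⟨m, hm, rfl⟩
        exact m.2
      · rintro y hy _ ⟨m, hm, rfl⟩
        exact ⟨⟨y, hy⟩ * m * ⟨y, hy⟩⁻¹, hMn.conj_mem m hm ⟨y, hy⟩, rfl⟩
      · intro c d
        obtain ⟨m, hm⟩ := hMtr.exists_smul_eq c d
        exact ⟨((m : N) : G), ⟨(m : N), m.2, rfl⟩, hm⟩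
      · rintro _ ⟨m, hm, rfl⟩ c hc
        have h1 : (⟨m, hm⟩ : M) ∈ stabilizer M c := hc
        rw [hcon c, Subgroup.mem_bot] at h1
        have h2 : m = 1 := congrArg Subtype.val h1
        rw [h2]
        rfl
    have hnorm : (M.map N.subtype).Normal := by
      constructor
      intro m hm g
      rw [hM'.unique hZ hN (hM'.conj g)]
      exact ⟨m, hm, rfl⟩
    have hpre : IsPretransitive (M.map N.subtype) Ω := ⟨fun c d => by
      obtain ⟨m, hm, h⟩ := hM'.2.2.1 c d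
      exact ⟨⟨m, hm⟩, h⟩⟩
    obtain ⟨a, ha⟩ := hZ.2.2.2.2 _ hnorm hpre
    apply ha
    rw [eq_bot_iff]
    rintro ⟨m, hm⟩ hma
    rw [Subgroup.mem_bot]
    apply Subtype.ext
    exact hM'.2.2.2 m hm a hma

end Cfsg.Agent.S0339
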