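import Cfsg.Statements.S0729
import Cfsg.Agent.S0689
import Cfsg.Agent.Lib.Helper65.Sharp3IndexTwo

set_option autoImplicit false
open Cfsg

namespace Cfsg.Agent.S0729

/-- In a sharply triply transitive group of even degree at least 6, the two-point stabiliser `H = G_{a,b}` has a normal subgroup of index 2 that is normalised by the element `s` interchanging `a, b` and fixing a third point `c`. -/
theorem result {α : Type*} [Fintype α] [DecidableEq α] (heven : Even (Fintype.card α)) (h6 : 6 ≤ Fintype.card α) (G : Subgroup (Equiv.Perm α)) (h3 : MulAction.IsMultiplyPretransitive G α 3) (hsharp : ∀ x : Fin 3 ↪ α, MulAction.stabilizer G x = ⊥) {a b c : α} (hab : a ≠ b) (hac : a ≠ c) (hbc : b ≠ c) (s : G) (hsa : s • a = b) (hsb : s • b = a) (hsc : s • c = c) : ∃ N : Subgroup G, N ≤ MulAction.stabilizer G a ⊓ MulAction.stabilizer G b ∧ (N.subgroupOf (MulAction.stabilizer G a ⊓ MulAction.stabilizer G b)).Normal ∧ N.relIndex (MulAction.stabilizer G a ⊓ MulAction.stabilizer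 G b) = 2 ∧ ∀ n ∈ N, s * n * s⁻¹ ∈ N := by
  have hM := Cfsg.Agent.Lib.Helper65.Sharp3.main
    (fun p _ V _ _ _ H hreg hns => Cfsg.Agent.S0689.result H hreg hns) heven h6 G h3 hsharp hab
  have S3 := Cfsg.Agent.S0730.S3_of G hsharp
  have hsa' : (s : Equiv.Perm α) a = b := hsa
  have hsb' : (s : Equiv.Perm α) b = a := hsb
  have hsc' : (s : Equiv.Perm α) c = c := hsc
  have hs2 : s * s = 1 := by
    apply Subtype.ext
    apply S3 _ (G.mul_mem s.2 s.2) a b c hab hac hbc
    · rw [Equiv.Perm.mul_apply, hsa', hsb']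
    · rw [Equiv.Perm.mul_apply, hsb', hsa']
    · rw [Equiv.Perm.mul_apply, hsc', hsc']
  have hsinv_a : (s : Equiv.Perm α)⁻¹ a = b := by rw [Equiv.Perm.inv_eq_iff_eq, hsb']
  have hsinv_b : (s : Equiv.Perm α)⁻¹ b = a := by rw [Equiv.Perm.inv_eq_iff_eq, hsa']
  have hs : ∀ h ∈ MulAction.stabilizer G a ⊓ MulAction.stabilizer G b,
      s * h * s⁻¹ ∈ MulAction.stabilizer G a ⊓ MulAction.stabilizer G b := by
    intro h hh
    rw [Subgroup.mem_inf, MulAction.mem_stabilizer_iff, MulAction.mem_stabilizer_iff] at hh ⊢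
    obtain ⟨ha, hb⟩ := hh
    have ha' : (h : Equiv.Perm α) a = a := ha
    have hb' : (h : Equiv.Perm α) b = b := hb
    constructor
    · show ((s : Equiv.Perm α) * (h : Equiv.Perm α) * (s : Equiv.Perm α)⁻¹) a = a
      rw [Equiv.Perm.mul_apply, Equiv.Perm.mul_apply, hsinv_a, hb', hsb']
    · show ((s : Equiv.Perm α) * (h : Equiv.Perm α) * (s : Equiv.Perm α)⁻¹) b = b
      rw [Equiv.Perm.mul_apply, Equiv.Perm.mul_apply, hsinv_b, ha', hsa']
  exact Cfsg.Agent.Lib.Helper65.Sharp3.exists_invariant_of_exists _ s hs hs2 hM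

end Cfsg.Agent.S0729
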