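import Cfsg.Statements.S0344
import Cfsg.Agent.S0729
import Cfsg.Agent.S0742
import Cfsg.Agent.Lib.Helper64.ZassEvenHalf

set_option autoImplicit false
open Cfsg

namespace Cfsg.Agent.S0344

set_option linter.style.haveILetI false

/-- A finite simple Zassenhaus group with a two-point stabiliser of even order is isomorphic to `PSL₂(F)` for a finite
field `F` with more than three elements. -/
theorem result {G Ω : Type*} [Group G] [Finite G] [MulAction G Ω] [Finite Ω]
    (hZ : Cfsg.IsZassenhausGroup G Ω) [IsSimpleGroup G]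
    {a b : Ω} (hab : a ≠ b) (heven : Even (Nat.card ↥(MulAction.stabilizer G a ⊓ MulAction.stabilizer G b))) :
    ∃ (F : Type) (_ : Field F) (_ : Fintype F), 3 < Fintype.card F ∧ Nonempty (G ≃* Matrix.ProjectiveSpecialLinearGroup (Fin 2) F) := by
  classical
  letI : Fintype Ω := Fintype.ofFinite Ω
  have h729 : Cfsg.Agent.Lib.Helper64.Stmt0729 Ω := by
    intro _ _ heven h6 G h3 hsharp a b c hab hac hbc s hsa hsb hsc
    exact Cfsg.Agent.S0729.result heven h6 G h3 hsharp hab hac hbc s hsa hsb hsc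
  have hd := Cfsg.Agent.Lib.Helper64.zass_simple_even_half hZ h729 hab heven
  obtain ⟨p, f, K, fK, ftK, hp, hp2, hcardK, hΩ, hiso⟩ :=
    Cfsg.Agent.S0742.result hZ hab heven hd
  refine ⟨K, fK, ftK, ?_, hiso⟩
  rw [hcardK]
  have hpos : 0 < Nat.card ↥(MulAction.stabilizer G a ⊓ MulAction.stabilizer G b) := Nat.card_pos
  obtain ⟨m, hm⟩ := heven
  omega

end Cfsg.Agent.S0344
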