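import Cfsg.Statements.S0347
import Cfsg.Agent.Lib.Helper6.SuzOrd7

set_option autoImplicit false
open Cfsg

namespace Cfsg.Agent.S0347

open Cfsg.Agent.Lib.Helper6.SuzOrd

set_option linter.style.haveILetI false

/-- If in a finite simple Zassenhaus group the stabiliser of a point `x` has a normal `2`-subgroup `U` which is
non-abelian and acts regularly on the points other than `x`, then the group is simple of Suzuki order (order-level
predicate `IsSuzuki`). -/
theorem result {G Ω : Type*} [Group G] [Finite G] [MulAction G Ω] [Finite Ω]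
    (hZ : Cfsg.IsZassenhausGroup G Ω) [IsSimpleGroup G]
    (x : Ω) (U : Subgroup G) (hUle : U ≤ MulAction.stabilizer G x) (hUn : (U.subgroupOf (MulAction.stabilizer G x)).Normal)
    (hU2 : IsPGroup 2 U) (hUna : ∃ u v : U, u * v ≠ v * u)
    (hreg : ∀ y z : Ω, y ≠ x → z ≠ x → ∃! u : U, (u : G) • y = z) :
    Cfsg.IsSuzuki G := by
  classical
  letI : Fintype Ω := Fintype.ofFinite Ω
  have hUn' : ∀ h ∈ MulAction.stabilizer G x, ∀ u ∈ U, h * u * h⁻¹ ∈ U := by
    intro g hg u hu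
    have h := hUn.conj_mem ⟨u, hUle hu⟩ (Subgroup.mem_subgroupOf.mpr hu) ⟨g, hg⟩
    exact Subgroup.mem_subgroupOf.mp h
  have hUna' : ∃ u ∈ U, ∃ v ∈ U, u * v ≠ v * u := by
    obtain ⟨u, v, huv⟩ := hUna
    exact ⟨u, u.2, v, v.2, fun h => huv (Subtype.ext h)⟩
  have D := kdata_of_zassenhaus hZ U hUle hUn' hreg hU2 hUna'
  obtain ⟨f, hfodd, hf3, hq, hn⟩ := D.order_theorem
  obtain ⟨b, hb⟩ := D.exists_ne
  obtain ⟨m, hm⟩ := hfodd
  refine ⟨inferInstance, m, by omega, ?_⟩
  have hcG := Cfsg.Agent.Lib.Helper25.ZassInv.card_group_eq D.h2 (Ne.symm hb)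
  have hK := D.card_cen_eq hb
  rw [hq] at hK
  have hΩ : Fintype.card Ω = (2 ^ f) ^ 2 + 1 := by
    rw [← Nat.card_eq_fintype_card, D.card_pts, hn]
  have hK' : Nat.card ↥(MulAction.stabilizer G x ⊓ MulAction.stabilizer G b : Subgroup G)
      = 2 ^ f - 1 := by omega
  rw [hcG, hΩ, hK', Nat.add_sub_cancel, ← hm]
  ring

end Cfsg.Agent.S0347
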