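import Cfsg.Statements.S0340
import Cfsg.Agent.S0344
import Cfsg.Agent.S0347
import Cfsg.Agent.S0738
import Cfsg.Agent.S0885
import Cfsg.Agent.Lib.Helper6.ZassOdd5
import Cfsg.Agent.Lib.Helper6.ZassPSL8
import Cfsg.Agent.Lib.Helper6.SuzOrd8

set_option autoImplicit false
open Cfsg

namespace Cfsg.Agent.S0340

open Cfsg.Agent.Lib.Helper6.ZassPSL
open scoped MatrixGroups

set_option linter.style.haveILetI false

/-- Classification of Zassenhaus groups, simple case, order-level form: a finite simple Zassenhaus group is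
isomorphic to `PSL₂(F)` for some finite field `F` or is simple of Suzuki order. -/
theorem result {G Ω : Type*} [Group G] [Finite G] [MulAction G Ω]
    [Finite Ω] (hZ : Cfsg.IsZassenhausGroup G Ω) [IsSimpleGroup G] :
    (∃ (F : Type) (_ : Field F) (_ : Fintype F), Nonempty (G ≃* Matrix.ProjectiveSpecialLinearGroup (Fin 2) F)) ∨ Cfsg.IsSuzuki G := by
  classical
  letI : Fintype Ω := Fintype.ofFinite Ω
  obtain ⟨a, b, hab⟩ : ∃ a b : Ω, a ≠ b := by
    obtain ⟨g, -, c, d, hcd, -, -⟩ := hZ.2.2.2.1
    exact ⟨c, d, hcd⟩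
  rcases Nat.even_or_odd (Nat.card ↥(MulAction.stabilizer G a ⊓ MulAction.stabilizer G b))
    with heven | hodd
  · left
    obtain ⟨F, fF, ftF, -, hiso⟩ := Cfsg.Agent.S0344.result hZ hab heven
    exact ⟨F, fF, ftF, hiso⟩
  · obtain ⟨F, hFle, hFconj, hFfix, hFtr, hFn, hreg, hFcard⟩ := exists_kernel' hZ hab
    have hΩge : 2 ≤ Fintype.card Ω := Fintype.one_lt_card_iff_nontrivial.mpr ⟨⟨a, b, hab⟩⟩
    have h885 := Cfsg.Agent.S0885.result hZ hab (Fintype.card Ω - 1) _ (by omega) rfl hodd F
      hFle hFcard hFfix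
    rcases h885 with hle | ⟨hF2, hFna, -⟩
    · left
      rcases stab2_card_cases hZ hab with hd | hd
      · -- sharply 3-transitive of odd degree
        obtain ⟨htr, -⟩ := sharp3_of_card hZ hab hd
        haveI : FaithfulSMul G Ω := hZ.1
        have hpos : 0 < Nat.card ↥(MulAction.stabilizer G a ⊓ MulAction.stabilizer G b) :=
          Nat.card_pos
        have hoddΩ : Odd (Fintype.card Ω) := by
          obtain ⟨k, hk⟩ := hodd
          exact ⟨k + 1, by omega⟩
        exact Cfsg.Agent.Lib.Helper6.SuzOrd.psl_of_sharp3_odd hoddΩ (by omega) htr hZ.2.2.1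
      · -- the kernel is abelian
        have h738 := Cfsg.Agent.S0738.result hZ hab (by omega) F hFle hFn hreg
        have hFcomm : ∀ u ∈ F, ∀ v ∈ F, u * v = v * u := by
          intro u hu v hv
          have := h738.1.is_comm.comm (⟨u, hu⟩ : F) ⟨v, hv⟩
          exact congrArg Subtype.val this
        have hFfree : ∀ u ∈ F, ∀ c : Ω, c ≠ a → u • c = c → u = 1 := by
          intro u hu c hc huc
          by_contra hu1
          exact hc (hFfix u hu hu1 c huc)
        obtain ⟨C, fC, ftC, -, hiso⟩ := psl_of_odd_half hZ hab hodd (by omega) F hFle hFconj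
          hFcomm hFtr hFfree
        exact ⟨C, fC, ftC, hiso⟩
    · right
      exact Cfsg.Agent.S0347.result hZ a F hFle hFn hF2 hFna hreg

end Cfsg.Agent.S0340
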