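import Cfsg.Statements.S0341
import Cfsg.Agent.Lib.Helper6.SingerField
import Cfsg.Agent.Lib.Helper6.FrobNilp
import Cfsg.Agent.Lib.Helper6.FpfLinear
import Cfsg.Agent.Lib.Helper6.Zassenhaus
import Cfsg.Agent.Lib.Helper51.UniqueOrderP

set_option autoImplicit false
open Cfsg

namespace Cfsg.Agent.S0341

open MulAction Cfsg.Agent.Lib.Helper6

/-- conjugation action of a subgroup `X` on a normal subgroup `N`, written additively -/
@[reducible] def conjDMA {G : Type*} [Group G] (N : Subgroup G) [hN : N.Normal] (X : Subgroup G) :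
    DistribMulAction X (Additive N) where
  smul x v := Additive.ofMul
    ⟨(x : G) * (Additive.toMul v : N) * (x : G)⁻¹, hN.conj_mem _ (Additive.toMul v).2 _⟩
  one_smul v := by
    show Additive.ofMul _ = v
    apply Additive.toMul.injective
    apply Subtype.ext
    simp
  mul_smul x y v := by
    show Additive.ofMul _ = Additive.ofMul _
    congr 1
    apply Subtype.ext
    show ((x * y : X) : G) * _ * ((x * y : X) : G)⁻¹ = (x : G) * ((y : G) * _ * (y : G)⁻¹) * (x : G)⁻¹
    rw [Subgroup.coe_mul, mul_inv_rev]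
    simp only [mul_assoc]
  smul_zero x := by
    show Additive.ofMul _ = 0
    apply Additive.toMul.injective
    apply Subtype.ext
    simp
  smul_add x v w := by
    show Additive.ofMul _ = Additive.ofMul _ + Additive.ofMul _
    rw [← ofMul_mul]
    congr 1
    apply Subtype.ext
    simp [mul_assoc]

theorem conjDMA_smul_def {G : Type*} [Group G] (N : Subgroup G) [hN : N.Normal] (X : Subgroup G)
    (x : X) (v : Additive N) :
    letI := conjDMA N X
    ((Additive.toMul (x • v) : N) : G) = (x : G) * (Additive.toMul v : N) * (x : G)⁻¹ := rfl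


/-- If a finite group acts faithfully and doubly transitively, no non-identity element fixes three points, some
non-identity element fixes two points, and some normal subgroup acts regularly, then the number of points
is `2^p` with `p` prime. -/
theorem result {G Ω : Type*} [Group G]
    [MulAction G Ω] [Fintype Ω] [FaithfulSMul G Ω] (h2 : MulAction.IsMultiplyPretransitive G Ω 2)
    (h3 : ∀ g : G, ∀ a b c : Ω, a ≠ b → b ≠ c → a ≠ c → g • a = a → g • b = b → g • c = c → g = 1)
    (hfix : ∃ g : G, g ≠ 1 ∧ ∃ a b : Ω, a ≠ b ∧ g • a = a ∧ g • b = b)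
    (N : Subgroup G) [N.Normal] (hNt : MulAction.IsPretransitive N Ω)
    (hNr : ∀ a : Ω, MulAction.stabilizer N a = ⊥) :
    ∃ p : ℕ, p.Prime ∧ Fintype.card Ω = 2 ^ p := by
  classical
  haveI : Finite G := finite_of_faithful (Ω := Ω)
  have hNn : N.Normal := inferInstance
  have h2' : ∀ a b c d : Ω, a ≠ b → c ≠ d → ∃ g : G, g • a = c ∧ g • b = d :=
    fun a b c d hab hcd => (is_two_pretransitive_iff.mp h2) hab hcd
  obtain ⟨g0, hg0, a, b, hab, hg0a, hg0b⟩ := hfix
  -- regularity
  have hR1 : ∀ c : Ω, ∃ n ∈ N, n • a = c := by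
    intro c
    obtain ⟨n, hn⟩ := hNt.exists_smul_eq a c
    exact ⟨n, n.2, hn⟩
  have hR2 : ∀ n ∈ N, ∀ c : Ω, n • c = c → n = 1 := by
    intro n hn c hc
    have hmem : (⟨n, hn⟩ : N) ∈ stabilizer N c := hc
    rw [hNr c, Subgroup.mem_bot] at hmem
    exact congrArg Subtype.val hmem
  have hR3 : ∀ n ∈ N, ∀ m ∈ N, n • a = m • a → n = m := by
    intro n hn m hm h
    have h1 := hR2 (m⁻¹ * n) (N.mul_mem (N.inv_mem hm) hn) a (by rw [mul_smul, h, inv_smul_smul])
    exact (inv_mul_eq_one.mp h1).symm
  -- a third point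
  obtain ⟨c0, hc0a, hc0b⟩ : ∃ c : Ω, c ≠ a ∧ c ≠ b := by
    by_contra hcon
    push Not at hcon
    apply hg0
    apply FaithfulSMul.eq_of_smul_eq_smul (α := Ω)
    intro c
    rw [one_smul]
    by_cases hca : c = a
    · rw [hca, hg0a]
    · rw [hcon c hca, hg0b]
  -- the element `nb`
  obtain ⟨nb, hnbN, hnb⟩ := hR1 b
  have hnb1 : nb ≠ 1 := by
    intro h; rw [h, one_smul] at hnb; exact hab hnb
  have hcent : ∀ x : G, x • a = a → x • b = b → x * nb * x⁻¹ = nb := by
    intro x hxa hxb
    apply hR3 _ (hNn.conj_mem nb hnbN x) _ hnbN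
    rw [mul_smul, mul_smul, inv_smul_eq_iff.mpr hxa.symm, hnb, hxb]
  have hnb2 : nb * nb = 1 := by
    by_contra hne
    have hcomm : g0 * nb = nb * g0 := by
      calc g0 * nb = g0 * nb * g0⁻¹ * g0 := by group
        _ = nb * g0 := by rw [hcent g0 hg0a hg0b]
    have h1 : g0 • ((nb * nb) • a) = (nb * nb) • a := by
      rw [← mul_smul, ← mul_assoc, hcomm, mul_assoc, hcomm, ← mul_assoc, mul_smul, hg0a]
    have hne_a : (nb * nb) • a ≠ a := fun h => hne (hR2 _ (N.mul_mem hnbN hnbN) a h)
    have hne_b : (nb * nb) • a ≠ b := by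
      intro h
      rw [mul_smul, hnb] at h
      exact hnb1 (hR2 nb hnbN b h)
    exact hg0 (h3 g0 a b _ hab (Ne.symm hne_b) (Ne.symm hne_a) hg0a hg0b h1)
  have hN2 : ∀ n ∈ N, n * n = 1 := by
    intro n hn
    by_cases hn1 : n = 1
    · rw [hn1, one_mul]
    have hna : n • a ≠ a := fun h => hn1 (hR2 n hn a h)
    obtain ⟨g, hga, hgb⟩ := h2' a b a (n • a) hab (Ne.symm hna)
    have hconj : g * nb * g⁻¹ = n := by
      apply hR3 _ (hNn.conj_mem nb hnbN g) _ hn
      rw [mul_smul, mul_smul, inv_smul_eq_iff.mpr hga.symm, hnb, hgb]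
    rw [← hconj]
    calc g * nb * g⁻¹ * (g * nb * g⁻¹) = g * (nb * nb) * g⁻¹ := by group
      _ = 1 := by rw [hnb2]; group
  have hN2' : ∀ n : N, n * n = 1 := fun n => Subtype.ext (hN2 n n.2)
  have hNinv : ∀ n : N, n⁻¹ = n := fun n => inv_eq_of_mul_eq_one_left (hN2' n)
  have hNcomm : ∀ n m : N, n * m = m * n := by
    intro n m
    calc n * m = (n * m)⁻¹ := (hNinv _).symm
      _ = m⁻¹ * n⁻¹ := mul_inv_rev n m
      _ = m * n := by rw [hNinv, hNinv]
  letI : CommGroup N := { (inferInstance : Group N) with mul_comm := hNcomm }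
  let X : Subgroup G := stabilizer G a
  letI : DistribMulAction X (Additive N) := conjDMA N X
  have hsmul : ∀ (x : X) (v : Additive N),
      ((Additive.toMul (x • v) : N) : G) = (x : G) * (Additive.toMul v : N) * (x : G)⁻¹ :=
    fun x v => rfl
  have hV2 : ∀ v : Additive N, v + v = 0 := by
    intro v
    apply Additive.toMul.injective
    exact hN2' (Additive.toMul v)
  have hpt : ∀ (x : X) (v : Additive N),
      ((Additive.toMul (x • v) : N) : G) • a = (x : G) • ((Additive.toMul v : N) : G) • a := by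
    intro x v
    rw [hsmul, mul_smul, mul_smul, inv_smul_eq_iff.mpr (show (x : G) • a = a from x.2).symm]
  have hv_eq : ∀ v w : Additive N,
      ((Additive.toMul v : N) : G) • a = ((Additive.toMul w : N) : G) • a → v = w := by
    intro v w h
    apply Additive.toMul.injective
    exact Subtype.ext (hR3 _ (Additive.toMul v).2 _ (Additive.toMul w).2 h)
  have hv_zero : ∀ v : Additive N, ((Additive.toMul v : N) : G) • a = a → v = 0 := by
    intro v h
    apply hv_eq
    rw [h]
    show a = (1 : G) • a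
    rw [one_smul]
  -- Frobenius kernel
  let Δ := SubMulAction.ofStabilizer G a
  have hΔ : ∀ e : Δ, (e : Ω) ≠ a := fun e => (SubMulAction.mem_ofStabilizer_iff G a).mp e.2
  haveI : IsPretransitive X Δ := ⟨fun e f => by
    obtain ⟨g, hga, hge⟩ := h2' a (e : Ω) a (f : Ω) (Ne.symm (hΔ e)) (Ne.symm (hΔ f))
    exact ⟨⟨g, hga⟩, Subtype.ext hge⟩⟩
  let b' : Δ := ⟨b, (SubMulAction.mem_ofStabilizer_iff G a).mpr (Ne.symm hab)⟩
  let g0' : X := ⟨g0, hg0a⟩
  have hg0'1 : g0' ≠ 1 := fun h => hg0 (congrArg Subtype.val h)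
  have hstab : stabilizer X b' ≠ ⊥ := by
    intro h
    have hmem : g0' ∈ stabilizer X b' := Subtype.ext hg0b
    rw [h, Subgroup.mem_bot] at hmem
    exact hg0'1 hmem
  have hnt : ∃ e : Δ, e ≠ b' :=
    ⟨⟨c0, (SubMulAction.mem_ofStabilizer_iff G a).mpr hc0a⟩,
      fun h => hc0b (congrArg Subtype.val h)⟩
  have h2'' : ∀ e f : Δ, e ≠ f → ∀ y : X, y • e = e → y • f = f → y = 1 := by
    intro e f hef y hye hyf
    apply Subtype.ext
    have hef' : (e : Ω) ≠ (f : Ω) := fun h => hef (Subtype.ext h)
    exact h3 (y : G) a e f (Ne.symm (hΔ e)) hef' (Ne.symm (hΔ f)) y.2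
      (congrArg Subtype.val hye) (congrArg Subtype.val hyf)
  obtain ⟨K, hKn, hKnil, hKmem, hKtr⟩ :=
    exists_regular_normal_nilpotent_of_frobenius_action (X := X) b' hstab hnt h2''
  -- `v0`
  let v0 : Additive N := Additive.ofMul ⟨nb, hnbN⟩
  have hv0a : ((Additive.toMul v0 : N) : G) • a = b := hnb
  have hv0 : v0 ≠ 0 := by
    intro h
    have h1 : ((Additive.toMul v0 : N) : G) = 1 := by rw [h]; rfl
    exact hnb1 h1
  -- `K` acts fixed-point-freely
  have hKfpf : ∀ k ∈ K, k ≠ 1 → ∀ v : Additive N, k • v = v → v = 0 := by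
    intro k hk hk1 v hv
    by_contra hv0'
    have hva : ((Additive.toMul v : N) : G) • a ≠ a := fun h => hv0' (hv_zero v h)
    have hkfix : (k : G) • (((Additive.toMul v : N) : G) • a) = ((Additive.toMul v : N) : G) • a := by
      rw [← hpt, hv]
    rcases (hKmem k).mp hk with h | h
    · exact hk1 h
    · exact h ⟨_, (SubMulAction.mem_ofStabilizer_iff G a).mpr hva⟩ (Subtype.ext hkfix)
  have hKinv : ∀ k ∈ K, k * k = 1 → k = 1 := by
    intro k hk hk2
    by_contra hk1
    have h1 : k • (k • v0 + v0) = k • v0 + v0 := by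
      rw [smul_add, ← mul_smul, hk2, one_smul, add_comm]
    have h0 := hKfpf k hk hk1 _ h1
    have h4 : k • v0 = v0 := add_right_cancel (h0.trans (hV2 v0).symm)
    exact hv0 (hKfpf k hk hk1 v0 h4)
  haveI : Group.IsNilpotent K := hKnil
  haveI : IsZGroup K := ⟨fun p hp P => by
    haveI := Fact.mk hp
    by_cases hp2 : p = 2
    · subst hp2
      obtain ⟨n, hn⟩ := (P.isPGroup').exists_card_eq
      rcases Nat.eq_zero_or_pos n with h0 | hpos
      · have hc1 : Nat.card (P : Subgroup K) = 1 := by rw [hn, h0, pow_zero]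
        haveI := (Nat.card_eq_one_iff_unique.mp hc1).1
        exact isCyclic_of_subsingleton
      · exfalso
        have hdvd : 2 ∣ Nat.card (P : Subgroup K) := by rw [hn]; exact dvd_pow_self 2 hpos.ne'
        obtain ⟨x, hx⟩ := exists_prime_orderOf_dvd_card' 2 hdvd
        have hx2 : x * x = 1 := by
          have h6 := pow_orderOf_eq_one x
          rw [hx, pow_two] at h6
          exact h6
        have hx1 : x ≠ 1 := by
          intro h; rw [h, orderOf_one] at hx; norm_num at hx
        have hx2' : ((x : K) : X) * ((x : K) : X) = 1 :=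
          congrArg (fun w : (P : Subgroup K) => ((w : K) : X)) hx2
        exact hx1 (Subtype.ext (Subtype.ext (hKinv ((x : K) : X) (x : K).2 hx2')))
    · have hpv : ∃ v : Additive N, p • v ≠ 0 := by
        refine ⟨v0, ?_⟩
        rcases hp.eq_two_or_odd' with h | ⟨t, ht⟩
        · exact absurd h hp2
        · have h5 : (2 * t) • v0 = 0 := by
            rw [mul_comm, mul_smul, two_smul, hV2, smul_zero]
          rw [ht, add_smul, h5, zero_add, one_smul]
          exact hv0
      have huniq := uniqueOrderP_of_fpf (P := (P : Subgroup K)) (V := Additive N) P.isPGroup' hpv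
        (fun g hg v hv => hKfpf ((g : K) : X) (g : K).2
          (fun h => hg (Subtype.ext (Subtype.ext h))) v hv)
      rcases Cfsg.Agent.Lib.Helper51.cyclic_or_quaternion_of_uniqueOrderP p P.isPGroup' huniq with
        h | ⟨h, -⟩
      · exact h
      · exact absurd h hp2⟩
  have hKcyc : IsCyclic K := inferInstance
  have hKcomm : ∀ x ∈ K, ∀ y ∈ K, x * y = y * x := by
    intro x hx y hy
    have h := (IsCyclic.commGroup (α := K)).mul_comm ⟨x, hx⟩ ⟨y, hy⟩
    exact congrArg Subtype.val h
  -- transitivity of `K` on nonzero vectors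
  have hKtrans : ∀ v w : Additive N, v ≠ 0 → w ≠ 0 → ∃ k ∈ K, k • v = w := by
    intro v w hv hw
    have hva : ((Additive.toMul v : N) : G) • a ≠ a := fun h => hv (hv_zero v h)
    have hwa : ((Additive.toMul w : N) : G) • a ≠ a := fun h => hw (hv_zero w h)
    obtain ⟨k, hk, hkvw⟩ := hKtr ⟨_, (SubMulAction.mem_ofStabilizer_iff G a).mpr hva⟩
      ⟨_, (SubMulAction.mem_ofStabilizer_iff G a).mpr hwa⟩
    refine ⟨k, hk, ?_⟩
    apply hv_eq
    rw [hpt]
    exact congrArg Subtype.val hkvw
  -- assemble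
  have hg0pow : ∀ j : ℕ, ((g0' ^ j : X) : G) • a = a ∧ ((g0' ^ j : X) : G) • b = b := by
    intro j
    induction j with
    | zero => simp
    | succ j ih =>
      rw [pow_succ, Subgroup.coe_mul, mul_smul, mul_smul]
      exact ⟨by rw [show ((g0' : X) : G) • a = a from hg0a, ih.1],
        by rw [show ((g0' : X) : G) • b = b from hg0b, ih.2]⟩
  have hmain := card_eq_two_pow_prime_of_singer (X := X) (V := Additive N) hV2 K hKcomm hKtrans g0'
    (fun k => ⟨fun hk => hKn.conj_mem k hk g0', fun hk => by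
      have := hKn.conj_mem _ hk g0'⁻¹
      simpa [mul_assoc] using this⟩)
    v0 hv0
    (by
      apply hv_eq
      rw [hpt, hv0a]
      exact hg0b)
    (by
      intro j hj v hv
      by_contra hcon
      push Not at hcon
      apply hj
      apply Subtype.ext
      have hva : ((Additive.toMul v : N) : G) • a ≠ a := fun h => hcon.1 (hv_zero v h)
      have hvb : ((Additive.toMul v : N) : G) • a ≠ b := fun h => hcon.2 (hv_eq v v0 (h.trans hv0a.symm))
      have hfixv : ((g0' ^ j : X) : G) • (((Additive.toMul v : N) : G) • a) =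
          ((Additive.toMul v : N) : G) • a := by
        rw [← hpt, hv]
      exact h3 _ a b _ hab (Ne.symm hvb) (Ne.symm hva) (hg0pow j).1 (hg0pow j).2 hfixv)
    hg0'1
    (by
      obtain ⟨nc, hncN, hnc⟩ := hR1 c0
      refine ⟨Additive.ofMul ⟨nc, hncN⟩, ?_, ?_⟩
      · intro h
        have h1 : nc = 1 := by
          have : ((Additive.toMul (Additive.ofMul (⟨nc, hncN⟩ : N)) : N) : G) = 1 := by rw [h]; rfl
          exact this
        rw [h1, one_smul] at hnc
        exact hc0a hnc.symm
      · intro h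
        have h1 : nc = nb := by
          have : ((Additive.toMul (Additive.ofMul (⟨nc, hncN⟩ : N)) : N) : G) = nb := by rw [h]; rfl
          exact this
        rw [h1, hnb] at hnc
        exact hc0b hnc.symm)
  obtain ⟨p, hp, hcard⟩ := hmain
  refine ⟨p, hp, ?_⟩
  rw [← hcard, ← Nat.card_eq_fintype_card]
  -- Nat.card Ω = Nat.card (Additive N)
  symm
  apply Nat.card_congr
  exact Equiv.ofBijective (fun v : Additive N => ((Additive.toMul v : N) : G) • a)
    ⟨fun v w h => hv_eq v w h, fun c => by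
      obtain ⟨n, hn, hnc⟩ := hR1 c
      exact ⟨Additive.ofMul ⟨n, hn⟩, hnc⟩⟩

end Cfsg.Agent.S0341
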