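import Mathlib
import Cfsg.Statements.S0346
import Cfsg.Agent.S0885
import Cfsg.Agent.S0738
import Cfsg.Agent.S0741
import Cfsg.Agent.Lib.Helper6.Zassenhaus
import Cfsg.Agent.Lib.Helper59.ZassKernel
-- import your own Cfsg.Agent.* helpers here

set_option autoImplicit false
open Cfsg

namespace Cfsg.Agent.S0346

open MulAction Cfsg.Agent.Lib.Helper6 Cfsg.Agent.Lib.Helper59

/-- The Frobenius kernel of a point stabiliser of a Zassenhaus group, as a subgroup of `G`. -/
theorem exists_kernel {G Ω : Type*} [Group G] [Finite G] [MulAction G Ω] [Fintype Ω]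
    (hZ : Cfsg.IsZassenhausGroup G Ω) {a b : Ω} (hab : a ≠ b) :
    ∃ F : Subgroup G, F ≤ stabilizer G a ∧ (F.subgroupOf (stabilizer G a)).Normal ∧
      Nat.card F + 1 = Fintype.card Ω ∧ (∀ u ∈ F, u ≠ 1 → ∀ c : Ω, u • c = c → c = a) ∧
      (∀ y z : Ω, y ≠ a → z ≠ a → ∃! u : F, (u : G) • y = z) := by
  classical
  obtain ⟨x, hx1, hxa, hxb⟩ := zass_stab2_ne_bot hZ hab
  have hZ' := hZ
  obtain ⟨hfaith, h2, h3, -, hreg⟩ := hZ
  have := hfaith
  rw [is_two_pretransitive_iff] at h2
  let X := stabilizer G a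
  let Δ := SubMulAction.ofStabilizer G a
  have hΔ : ∀ e : Δ, (e : Ω) ≠ a := fun e => (SubMulAction.mem_ofStabilizer_iff G a).mp e.2
  have hsm : ∀ (g : X) (e : Δ), ((g • e : Δ) : Ω) = (g : G) • (e : Ω) := fun g e => rfl
  have : IsPretransitive X Δ := ⟨fun e f => by
    obtain ⟨g, hga, hge⟩ := h2 (a := a) (b := (e : Ω)) (c := a) (d := (f : Ω))
      (Ne.symm (hΔ e)) (Ne.symm (hΔ f))
    exact ⟨⟨g, hga⟩, Subtype.ext hge⟩⟩
  let b' : Δ := ⟨b, (SubMulAction.mem_ofStabilizer_iff G a).mpr (Ne.symm hab)⟩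
  let x' : X := ⟨x, hxa⟩
  have hx'1 : x' ≠ 1 := fun h => hx1 (congrArg Subtype.val h)
  have hx'b : x' • b' = b' := Subtype.ext hxb
  have hstab : stabilizer X b' ≠ ⊥ := by
    intro h
    have : x' ∈ stabilizer X b' := hx'b
    rw [h, Subgroup.mem_bot] at this
    exact hx'1 this
  have hnt : ∃ e : Δ, e ≠ b' := by
    obtain ⟨e, he⟩ := exists_smul_ne_of_ne_one (Ω := Ω) hx1
    have hea : e ≠ a := fun h => he (h ▸ hxa)
    have heb : e ≠ b := fun h => he (h ▸ hxb)
    exact ⟨⟨e, (SubMulAction.mem_ofStabilizer_iff G a).mpr hea⟩,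
      fun h => heb (congrArg Subtype.val h)⟩
  have h2' : ∀ e f : Δ, e ≠ f → ∀ y : X, y • e = e → y • f = f → y = 1 := by
    intro e f hef y hye hyf
    apply Subtype.ext
    have hef' : (e : Ω) ≠ (f : Ω) := fun h => hef (Subtype.ext h)
    exact h3 (y : G) a e f (Ne.symm (hΔ e)) hef' (Ne.symm (hΔ f)) y.2
      (congrArg Subtype.val hye) (congrArg Subtype.val hyf)
  obtain ⟨K, hKn, hKmem, hKtr⟩ :=
    exists_regular_normal_of_frobenius_action (X := X) b' hstab hnt h2'
  -- the image in `G`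
  have hfix : ∀ u ∈ K.map X.subtype, u ≠ 1 → ∀ c : Ω, u • c = c → c = a := by
    rintro u ⟨k, hk, rfl⟩ hu1 c hc
    by_contra hca
    rcases (hKmem k).mp hk with h1 | hfpf
    · apply hu1; rw [h1]; rfl
    · exact hfpf ⟨c, (SubMulAction.mem_ofStabilizer_iff G a).mpr hca⟩ (Subtype.ext hc)
  have hle : K.map X.subtype ≤ stabilizer G a := by
    rintro u ⟨k, -, rfl⟩
    exact k.2
  have hsub : (K.map X.subtype).subgroupOf (stabilizer G a) = K := by
    ext k
    rw [Subgroup.mem_subgroupOf]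
    constructor
    · rintro ⟨k', hk', hkk⟩
      have : k' = k := Subtype.ext hkk
      rw [← this]; exact hk'
    · intro hk
      exact ⟨k, hk, rfl⟩
  refine ⟨K.map X.subtype, hle, ?_, ?_, hfix, ?_⟩
  · rw [hsub]; exact hKn
  · -- cardinality via the kernel set
    have hset : ((K.map X.subtype : Subgroup G) : Set G) = zassKernel G a := by
      ext u
      constructor
      · intro hu
        refine ⟨hle hu, ?_⟩
        by_cases hu1 : u = 1
        · exact Or.inl hu1
        · exact Or.inr (hfix u hu hu1)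
      · rintro ⟨hua, hu⟩
        refine ⟨⟨u, hua⟩, ?_, rfl⟩
        rw [SetLike.mem_coe, hKmem]
        rcases hu with h1 | h
        · left; exact Subtype.ext h1
        · right
          intro d hd
          exact hΔ d (h d (congrArg Subtype.val hd))
    have hc := zass_card_kernel hZ' a
    rw [← hset, ← Nat.card_coe_set_eq] at hc
    rw [← Nat.card_eq_fintype_card]
    exact hc
  · intro y z hy hz
    obtain ⟨k, hk, hkc⟩ := hKtr ⟨y, (SubMulAction.mem_ofStabilizer_iff G a).mpr hy⟩
      ⟨z, (SubMulAction.mem_ofStabilizer_iff G a).mpr hz⟩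
    refine ⟨⟨(k : G), ⟨k, hk, rfl⟩⟩, congrArg Subtype.val hkc, ?_⟩
    rintro ⟨u, hu⟩ huz
    apply Subtype.ext
    show u = (k : G)
    have hkz : (k : G) • y = z := congrArg Subtype.val hkc
    have huz' : u • y = z := huz
    -- `k⁻¹ u` fixes `y ≠ a`
    have hmem : (k : G)⁻¹ * u ∈ K.map X.subtype :=
      (K.map X.subtype).mul_mem ((K.map X.subtype).inv_mem ⟨k, hk, rfl⟩) hu
    by_contra hne
    have h1 : (k : G)⁻¹ * u ≠ 1 := by
      intro h
      apply hne
      have := congrArg (fun t => (k : G) * t) h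
      simpa using this
    have hfixy : ((k : G)⁻¹ * u) • y = y := by
      rw [mul_smul, huz', ← hkz, inv_smul_smul]
    exact hy (hfix _ hmem h1 y hfixy)


/-- The number of points of a finite simple Zassenhaus group is `p^k + 1` for some prime power `p^k` (the regular normal
subgroup of a point stabiliser is a `p`-group). -/
theorem result {G Ω : Type*} [Group G] [Finite G] [MulAction G Ω] [Fintype Ω]
    (hZ : Cfsg.IsZassenhausGroup G Ω) [IsSimpleGroup G] :
    IsPrimePow (Fintype.card Ω - 1) := by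
  classical
  obtain ⟨g₀, hg₀, a, b, hab, -, -⟩ := hZ.2.2.2.1
  obtain ⟨F, hFle, hFn, hFcard, hFfix, hFreg⟩ := exists_kernel hZ hab
  -- at least three points
  have h3 : 3 ≤ Fintype.card Ω := by
    obtain ⟨x, hx1, hxa, hxb⟩ := zass_stab2_ne_bot hZ hab
    have := hZ.1
    obtain ⟨e, he⟩ := exists_smul_ne_of_ne_one (Ω := Ω) hx1
    have hea : e ≠ a := fun h => he (h ▸ hxa)
    have heb : e ≠ b := fun h => he (h ▸ hxb)
    have : ({a, b, e} : Finset Ω).card = 3 := by
      rw [Finset.card_insert_of_notMem, Finset.card_insert_of_notMem, Finset.card_singleton]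
      · simpa using (Ne.symm heb)
      · simp only [Finset.mem_insert, Finset.mem_singleton, not_or]
        exact ⟨hab, Ne.symm hea⟩
    rw [← this]
    exact Finset.card_le_univ _
  -- the elementary abelian case
  have hcase : Fintype.card Ω - 2 ≤
      2 * Nat.card ↥(stabilizer G a ⊓ stabilizer G b) → IsPrimePow (Fintype.card Ω - 1) := by
    intro hd
    obtain ⟨-, p, f, hp, -, hcard⟩ := Cfsg.Agent.S0738.result hZ hab hd F hFle hFn hFreg
    have hf : f ≠ 0 := by
      intro h
      rw [h, pow_zero] at hcard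
      omega
    rw [hcard, Nat.add_sub_cancel]
    exact hp.isPrimePow.pow hf
  rcases Nat.even_or_odd (Nat.card ↥(stabilizer G a ⊓ stabilizer G b)) with heven | hodd
  · exact hcase (Cfsg.Agent.S0741.result hZ hab heven)
  · obtain ⟨h, hh⟩ : ∃ h, Fintype.card Ω = h + 1 := ⟨Fintype.card Ω - 1, by omega⟩
    rcases Cfsg.Agent.S0885.result hZ hab h _ hh rfl hodd F hFle hFcard hFfix with hle | ⟨hF2, -, -⟩
    · apply hcase
      omega
    · haveI : Fact (Nat.Prime 2) := ⟨Nat.prime_two⟩
      obtain ⟨k, hk⟩ := hF2.exists_card_eq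
      have hk0 : k ≠ 0 := by
        intro h0
        rw [h0, pow_zero] at hk
        omega
      have : Fintype.card Ω - 1 = 2 ^ k := by omega
      rw [this]
      exact Nat.prime_two.isPrimePow.pow hk0

end Cfsg.Agent.S0346
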