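import Cfsg.Statements.S0353
import Cfsg.Agent.Lib.Helper6.Steiner
import Cfsg.Agent.S0352

set_option autoImplicit false
open Cfsg

namespace Cfsg.Agent.S0353

open Finset Cfsg.Agent.Lib.Helper6

section aux
variable {α : Type*} [Fintype α] [DecidableEq α]

/-- the family of unions `I ∪ K`, `I` a `p`-subset of `X`, `K` an `r`-subset of `Y` -/
def unionFam (X Y : Finset α) (p r : ℕ) : Finset (Finset α) :=
  (X.powersetCard p ×ˢ Y.powersetCard r).image (fun IK => IK.1 ∪ IK.2)

theorem card_unionFam {X Y : Finset α} (hXY : Disjoint X Y) (p r : ℕ) :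
    (unionFam X Y p r).card = X.card.choose p * Y.card.choose r := by
  unfold unionFam
  rw [Finset.card_image_of_injOn, Finset.card_product, Finset.card_powersetCard,
    Finset.card_powersetCard]
  rintro ⟨I, K⟩ hIK ⟨I', K'⟩ hIK' h
  simp only [Finset.coe_product, Set.mem_prod, Finset.mem_coe, Finset.mem_powersetCard] at hIK hIK'
  simp only at h
  have hI : I = I' := by
    have h1 : (I ∪ K) ∩ X = I := by
      rw [Finset.union_inter_distrib_right, Finset.inter_eq_left.2 hIK.1.1]
      have : K ∩ X = ∅ := by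
        rw [← Finset.disjoint_iff_inter_eq_empty]
        exact (Finset.disjoint_of_subset_left hIK.2.1 hXY.symm)
      rw [this, Finset.union_empty]
    have h2 : (I' ∪ K') ∩ X = I' := by
      rw [Finset.union_inter_distrib_right, Finset.inter_eq_left.2 hIK'.1.1]
      have : K' ∩ X = ∅ := by
        rw [← Finset.disjoint_iff_inter_eq_empty]
        exact (Finset.disjoint_of_subset_left hIK'.2.1 hXY.symm)
      rw [this, Finset.union_empty]
    rw [← h1, ← h2, h]
  have hK : K = K' := by
    have h1 : (I ∪ K) ∩ Y = K := by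
      rw [Finset.union_inter_distrib_right, Finset.inter_eq_left.2 hIK.2.1]
      have : I ∩ Y = ∅ := by
        rw [← Finset.disjoint_iff_inter_eq_empty]
        exact (Finset.disjoint_of_subset_left hIK.1.1 hXY)
      rw [this, Finset.empty_union]
    have h2 : (I' ∪ K') ∩ Y = K' := by
      rw [Finset.union_inter_distrib_right, Finset.inter_eq_left.2 hIK'.2.1]
      have : I' ∩ Y = ∅ := by
        rw [← Finset.disjoint_iff_inter_eq_empty]
        exact (Finset.disjoint_of_subset_left hIK'.1.1 hXY)
      rw [this, Finset.empty_union]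
    rw [← h1, ← h2, h]
  rw [hI, hK]

theorem card_of_mem_unionFam {X Y : Finset α} (hXY : Disjoint X Y) {p r : ℕ} {J : Finset α}
    (hJ : J ∈ unionFam X Y p r) : J.card = p + r := by
  unfold unionFam at hJ
  rw [Finset.mem_image] at hJ
  obtain ⟨⟨I, K⟩, hIK, rfl⟩ := hJ
  simp only [Finset.mem_product, Finset.mem_powersetCard] at hIK
  rw [Finset.card_union_of_disjoint (Finset.disjoint_of_subset_left hIK.1.1
    (Finset.disjoint_of_subset_right hIK.2.1 hXY)), hIK.1.2, hIK.2.2]

theorem filter_unionFam (X Y d : Finset α) (p r : ℕ) :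
    (unionFam X Y p r).filter (fun J => J ⊆ d) = unionFam (X ∩ d) (Y ∩ d) p r := by
  ext J
  unfold unionFam
  simp only [Finset.mem_filter, Finset.mem_image, Finset.mem_product, Finset.mem_powersetCard,
    Prod.exists]
  constructor
  · rintro ⟨⟨I, K, ⟨⟨hI, hIc⟩, ⟨hK, hKc⟩⟩, rfl⟩, hsub⟩
    refine ⟨I, K, ⟨⟨?_, hIc⟩, ⟨?_, hKc⟩⟩, rfl⟩
    · exact Finset.subset_inter hI (Finset.subset_union_left.trans hsub)
    · exact Finset.subset_inter hK (Finset.subset_union_right.trans hsub)
  · rintro ⟨I, K, ⟨⟨hI, hIc⟩, ⟨hK, hKc⟩⟩, rfl⟩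
    refine ⟨⟨I, K, ⟨⟨hI.trans Finset.inter_subset_left, hIc⟩,
      ⟨hK.trans Finset.inter_subset_left, hKc⟩⟩, rfl⟩, ?_⟩
    exact Finset.union_subset (hI.trans Finset.inter_subset_right)
      (hK.trans Finset.inter_subset_right)

/-- two-set counting identity -/
theorem sum_choose_mul_choose {B : Set (Finset α)} {X Y : Finset α} (hXY : Disjoint X Y)
    (p r lam : ℕ) (hlam : ∀ J : Finset α, J.card = p + r → (blocksThrough B J).card = lam) :
    ∑ d ∈ blocksOf B, (X ∩ d).card.choose p * (Y ∩ d).card.choose r =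
      X.card.choose p * Y.card.choose r * lam := by
  have h1 := sum_card_filter_subset B (unionFam X Y p r)
  have hL : ∀ d : Finset α, ((unionFam X Y p r).filter (fun J => J ⊆ d)).card =
      (X ∩ d).card.choose p * (Y ∩ d).card.choose r := by
    intro d
    rw [filter_unionFam, card_unionFam]
    exact Finset.disjoint_of_subset_left Finset.inter_subset_left
      (Finset.disjoint_of_subset_right Finset.inter_subset_left hXY)
  simp only [hL] at h1
  rw [h1, Finset.sum_const_nat (m := lam), card_unionFam hXY]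
  intro J hJ
  exact hlam J (card_of_mem_unionFam hXY hJ)

theorem arith_key : ∀ i j k : ℕ, i ≤ 4 → j ≤ 4 → k ≤ 4 →
    (i + j = 0 ∨ i + j = 2 ∨ i + j = 4 ∨ i + j = 8) →
    (i + k = 0 ∨ i + k = 2 ∨ i + k = 4 ∨ i + k = 8) → ¬ (j = 4 ∧ k = 4) →
    j.choose 3 * k.choose 2 = 2 * (j.choose 4 * k.choose 1) + 3 * (j.choose 3 * k.choose 3) := by
  intro i j k hi hj hk
  interval_cases i <;> interval_cases j <;> interval_cases k <;> decide

end aux

/-- In an S(5, 8, 24), the symmetric difference of two blocks meeting in four points is a block. -/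
theorem result {α : Type*} [Fintype α] [DecidableEq α] (hα : Fintype.card α = 24) {B : Set (Finset α)} (hB : Cfsg.IsSteinerSystem 5 8 B) {b c : Finset α} (hb : b ∈ B) (hc : c ∈ B) (h4 : (b ∩ c).card = 4) : symmDiff b c ∈ B := by
  have lam5 : ∀ J : Finset α, J.card = 5 → (blocksThrough B J).card = 1 :=
    fun J hJ => card_blocksThrough_eq_one hB hJ
  set A := b ∩ c with hA
  set X := b \ c with hX
  set Y := c \ b with hY
  have hXY : Disjoint X Y := by
    rw [hX, hY, Finset.disjoint_left]
    intro x hx hx'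
    rw [Finset.mem_sdiff] at hx hx'
    exact hx.2 hx'.1
  have hXc : X.card = 4 := by
    have := Finset.card_sdiff_add_card_inter b c
    rw [hB.1 b hb, h4] at this
    rw [hX]; omega
  have hYc : Y.card = 4 := by
    have := Finset.card_sdiff_add_card_inter c b
    rw [hB.1 c hc, Finset.inter_comm, h4] at this
    rw [hY]; omega
  have hbdec : ∀ d : Finset α, (b ∩ d).card = (A ∩ d).card + (X ∩ d).card := by
    intro d
    rw [← Finset.card_union_of_disjoint]
    · congr 1
      ext x
      simp only [hA, hX, Finset.mem_inter, Finset.mem_union, Finset.mem_sdiff]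
      tauto
    · rw [Finset.disjoint_left]
      intro x hx hx'
      simp only [hA, hX, Finset.mem_inter, Finset.mem_sdiff] at hx hx'
      exact hx'.1.2 hx.1.2
  have hcdec : ∀ d : Finset α, (c ∩ d).card = (A ∩ d).card + (Y ∩ d).card := by
    intro d
    rw [← Finset.card_union_of_disjoint]
    · congr 1
      ext x
      simp only [hA, hY, Finset.mem_inter, Finset.mem_union, Finset.mem_sdiff]
      tauto
    · rw [Finset.disjoint_left]
      intro x hx hx'
      simp only [hA, hY, Finset.mem_inter, Finset.mem_sdiff] at hx hx'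
      exact hx'.1.2 hx.1.1
  by_contra hcon
  -- no block contains X ∪ Y
  have hno : ∀ d ∈ blocksOf B, ¬ ((X ∩ d).card = 4 ∧ (Y ∩ d).card = 4) := by
    intro d hd ⟨h1, h2⟩
    rw [mem_blocksOf] at hd
    apply hcon
    have hXd : X ⊆ d := by
      have : X ∩ d = X := Finset.eq_of_subset_of_card_le Finset.inter_subset_left (by rw [h1, hXc])
      rw [← this]; exact Finset.inter_subset_right
    have hYd : Y ⊆ d := by
      have : Y ∩ d = Y := Finset.eq_of_subset_of_card_le Finset.inter_subset_left (by rw [h2, hYc])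
      rw [← this]; exact Finset.inter_subset_right
    have hsd : symmDiff b c = X ∪ Y := rfl
    have hsub : X ∪ Y ⊆ d := Finset.union_subset hXd hYd
    have hcard : d.card ≤ (X ∪ Y).card := by
      rw [Finset.card_union_of_disjoint hXY, hXc, hYc, hB.1 d hd]
    have : X ∪ Y = d := Finset.eq_of_subset_of_card_le hsub hcard
    rw [hsd, this]; exact hd
  have hpt : ∀ d ∈ blocksOf B, (X ∩ d).card.choose 3 * (Y ∩ d).card.choose 2 =
      2 * ((X ∩ d).card.choose 4 * (Y ∩ d).card.choose 1) +
      3 * ((X ∩ d).card.choose 3 * (Y ∩ d).card.choose 3) := by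
    intro d hd
    have hdB := mem_blocksOf.1 hd
    have hi : (A ∩ d).card ≤ 4 := by
      rw [← h4]; exact Finset.card_le_card Finset.inter_subset_left
    have hj : (X ∩ d).card ≤ 4 := by
      rw [← hXc]; exact Finset.card_le_card Finset.inter_subset_left
    have hk : (Y ∩ d).card ≤ 4 := by
      rw [← hYc]; exact Finset.card_le_card Finset.inter_subset_left
    have hb' : (b ∩ d).card = 0 ∨ (b ∩ d).card = 2 ∨ (b ∩ d).card = 4 ∨ (b ∩ d).card = 8 := by
      by_cases hbd : b = d
      · right; right; right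
        rw [hbd, Finset.inter_self, hB.1 d hdB]
      · rcases Cfsg.Agent.S0352.result hα hB hb hdB hbd with h | h | h
        · exact Or.inl h
        · exact Or.inr (Or.inl h)
        · exact Or.inr (Or.inr (Or.inl h))
    have hc' : (c ∩ d).card = 0 ∨ (c ∩ d).card = 2 ∨ (c ∩ d).card = 4 ∨ (c ∩ d).card = 8 := by
      by_cases hcd : c = d
      · right; right; right
        rw [hcd, Finset.inter_self, hB.1 d hdB]
      · rcases Cfsg.Agent.S0352.result hα hB hc hdB hcd with h | h | h
        · exact Or.inl h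
        · exact Or.inr (Or.inl h)
        · exact Or.inr (Or.inr (Or.inl h))
    rw [hbdec] at hb'
    rw [hcdec] at hc'
    exact arith_key _ _ _ hi hj hk hb' hc' (hno d hd)
  have hsum := Finset.sum_congr rfl hpt
  rw [Finset.sum_add_distrib, ← Finset.mul_sum, ← Finset.mul_sum] at hsum
  have e1 := sum_choose_mul_choose (B := B) hXY 3 2 1 lam5
  have e2 := sum_choose_mul_choose (B := B) hXY 4 1 1 lam5
  rw [hXc, hYc] at e1 e2
  rw [e1, e2] at hsum
  have c1 : Nat.choose 4 3 = 4 := by decide
  have c2 : Nat.choose 4 2 = 6 := by decide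
  have c3 : Nat.choose 4 4 = 1 := by decide
  have c4 : Nat.choose 4 1 = 4 := by decide
  rw [c1, c2, c3, c4] at hsum
  omega

end Cfsg.Agent.S0353
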