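import Cfsg.Statements.S0357
import Cfsg.Agent.Lib.Helper6.Steiner

set_option autoImplicit false
open Cfsg

namespace Cfsg.Agent.S0357

/-- In a Steiner system S(5, 6, 12), the complement of every block is again a block. -/
theorem result {α : Type*} [Fintype α] [DecidableEq α] (hα : Fintype.card α = 12) {B : Set (Finset α)} (hB : Cfsg.IsSteinerSystem 5 6 B) {b : Finset α} (hb : b ∈ B) : bᶜ ∈ B := by
  have lam : ∀ (j l : ℕ), j ≤ 5 → l * (6 - j).choose (5 - j) = (12 - j).choose (5 - j) →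
      ∀ J : Finset α, J.card = j → (Cfsg.Agent.Lib.Helper6.blocksThrough B J).card = l := by
    intro j l hj hl J hJ
    have h := Cfsg.Agent.Lib.Helper6.card_blocksThrough_mul hB J (by omega)
    rw [hα, hJ] at h
    have hpos : 0 < (6 - j).choose (5 - j) := Nat.choose_pos (by omega)
    exact Nat.eq_of_mul_eq_mul_right hpos (h.trans hl.symm)
  have e0 := Cfsg.Agent.Lib.Helper6.sum_choose_inter hB hb 0 132 (lam 0 132 (by omega) (by decide))
  have e1 := Cfsg.Agent.Lib.Helper6.sum_choose_inter hB hb 1 66 (lam 1 66 (by omega) (by decide))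
  have e2 := Cfsg.Agent.Lib.Helper6.sum_choose_inter hB hb 2 30 (lam 2 30 (by omega) (by decide))
  have e3 := Cfsg.Agent.Lib.Helper6.sum_choose_inter hB hb 3 12 (lam 3 12 (by omega) (by decide))
  have e4 := Cfsg.Agent.Lib.Helper6.sum_choose_inter hB hb 4 4 (lam 4 4 (by omega) (by decide))
  have c0 : Nat.choose 6 0 = 1 := by decide
  have c1 : Nat.choose 6 1 = 6 := by decide
  have c2 : Nat.choose 6 2 = 15 := by decide
  have c3 : Nat.choose 6 3 = 20 := by decide
  have c4 : Nat.choose 6 4 = 15 := by decide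
  rw [c0] at e0; rw [c1] at e1; rw [c2] at e2; rw [c3] at e3; rw [c4] at e4
  set 𝒞 := (Cfsg.Agent.Lib.Helper6.blocksOf B).erase b with h𝒞
  have hpt : ∀ d ∈ 𝒞, (if (b ∩ d).card = 0 then 1 else 0) + (b ∩ d).card.choose 1 +
      (b ∩ d).card.choose 3 = (b ∩ d).card.choose 0 + (b ∩ d).card.choose 2 +
      (b ∩ d).card.choose 4 := by
    intro d hd
    rw [h𝒞, Finset.mem_erase, Cfsg.Agent.Lib.Helper6.mem_blocksOf] at hd
    have hlt := Cfsg.Agent.Lib.Helper6.card_inter_lt hB hb hd.2 (Ne.symm hd.1)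
    generalize (b ∩ d).card = f at hlt ⊢
    interval_cases f <;> decide
  have hsum := Finset.sum_congr rfl hpt
  simp only [Finset.sum_add_distrib] at hsum
  have hcard : (𝒞.filter (fun d => (b ∩ d).card = 0)).card = 1 := by
    rw [Finset.card_filter]
    omega
  obtain ⟨c, hc⟩ := Finset.card_eq_one.1 hcard
  have hcm : c ∈ 𝒞.filter (fun d => (b ∩ d).card = 0) := by rw [hc]; exact Finset.mem_singleton_self c
  rw [Finset.mem_filter, h𝒞, Finset.mem_erase, Cfsg.Agent.Lib.Helper6.mem_blocksOf, Finset.card_eq_zero] at hcm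
  obtain ⟨⟨_, hcB⟩, hdisj⟩ := hcm
  have hsub : c ⊆ bᶜ := by
    intro x hx
    rw [Finset.mem_compl]
    intro hxb
    have : x ∈ b ∩ c := Finset.mem_inter.2 ⟨hxb, hx⟩
    rw [hdisj] at this
    simp at this
  have hcard2 : bᶜ.card ≤ c.card := by
    rw [Finset.card_compl, hα, hB.1 b hb, hB.1 c hcB]
  have : c = bᶜ := Finset.eq_of_subset_of_card_le hsub hcard2
  rw [← this]; exact hcB

end Cfsg.Agent.S0357
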