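import Cfsg.Statements.S0371
import Cfsg.Agent.Lib.Helper7.M24Mem

set_option autoImplicit false
open Cfsg

namespace Cfsg.Agent.S0371

/-- Multiplication by a nonzero square residue modulo 23, fixing the extra point, lies in the group of the length-24 code. -/
theorem result (u : (ZMod 23)ˣ) (hu : IsSquare u) : Equiv.optionCongr (Units.mulLeft u) ∈ Cfsg.M24 := by
  apply Cfsg.Agent.Lib.Helper7.mem_M24_of_forall_qrWord
  intro t
  obtain ⟨s, rfl⟩ := hu
  have : (fun i => qrWord t ((Equiv.optionCongr (Units.mulLeft (s * s))) i))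
      = qrWord (((s * s)⁻¹ : (ZMod 23)ˣ) * t) := by
    funext i
    cases i with
    | none => rfl
    | some x =>
      simp only [Equiv.optionCongr_apply, Option.map_some, Units.mulLeft_apply, qrWord]
      congr 1
      apply propext
      have hs : ((s⁻¹ : (ZMod 23)ˣ) : ZMod 23) * (s : ZMod 23) = 1 := by
        rw [← Units.val_mul]; simp
      constructor
      · rintro ⟨r, hr⟩
        refine ⟨((s⁻¹ : (ZMod 23)ˣ) : ZMod 23) * r, ?_⟩
        simp only [mul_inv_rev, Units.val_mul] at hr ⊢
        linear_combination (((s⁻¹ : (ZMod 23)ˣ) : ZMod 23))^2 * hr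
          - (x * (((s⁻¹ : (ZMod 23)ˣ) : ZMod 23) * (s : ZMod 23) + 1)) * hs
      · rintro ⟨r, hr⟩
        refine ⟨(s : ZMod 23) * r, ?_⟩
        simp only [mul_inv_rev, Units.val_mul] at hr ⊢
        linear_combination (s : ZMod 23)^2 * hr
          + (t * (((s⁻¹ : (ZMod 23)ˣ) : ZMod 23) * (s : ZMod 23) + 1)) * hs
  rw [this]
  exact Submodule.subset_span (Or.inl ⟨_, rfl⟩)

end Cfsg.Agent.S0371
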