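import Cfsg.Statements.S0380
import Cfsg.Agent.Lib.Helper56.F4
import Cfsg.Agent.Lib.Helper7.SimpleMathieu2
import Cfsg.Agent.Lib.Helper5.SLGen
import Cfsg.Agent.Lib.Helper57.CardSL
import Cfsg.Agent.Lib.Helper57.PSLMap

set_option autoImplicit false
open Cfsg

namespace Cfsg.Agent.S0380

open Cfsg.Agent.Lib.Helper7 Cfsg.Agent.Lib.Helper56 Cfsg.Agent.Lib.Helper56.F4 Matrix

/-- Numerical code of an element of `F4`. -/
def fcode : F4 → ℕ
  | z => 0
  | o => 1
  | w => 2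
  | v => 3

/-- Numerical code of a vector. -/
def vcode (x : Fin 3 → F4) : ℕ := fcode (x 0) + 4 * fcode (x 1) + 16 * fcode (x 2)

set_option maxRecDepth 100000 in
def labT : List ℕ :=  [24, 4, 4, 4, 3, 19, 20, 11, 3, 11, 19, 20, 3, 20, 11, 19, 2, 16, 22, 13, 5, 7, 15, 8, 14, 18, 21, 10, 17, 9, 12, 6, 2, 13, 16, 22, 17, 6, 9, 12, 5, 8, 7, 15, 14, 10, 18, 21, 2, 22, 13, 16, 14, 21, 10, 18, 17, 12, 6, 9, 5, 15, 8, 7]
set_option maxRecDepth 100000 in
def repT : List (F4 × F4 × F4) := [(z, z, z), (z, z, z), (z, z, o), (z, o, z), (o, z, z), (z, o, o), (o, o, w), (o, o, o), (o, w, w), (o, v, o), (o, v, w), (o, w, z), (o, w, v), (o, z, w), (z, o, v), (o, v, v), (o, z, o), (z, o, w), (o, w, o), (o, o, z), (o, v, z), (o, o, v), (o, z, v), (z, z, z)]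

/-- The label (a point of the 24) of the projective point spanned by a nonzero vector. -/
def lab (x : Fin 3 → F4) : GolayPt := pt (labT.getD (vcode x) 0)

/-- A representative vector of each of the 21 points. -/
def rep (p : GolayPt) : Fin 3 → F4 :=
  ![(repT.getD (idx p) (z, z, z)).1, (repT.getD (idx p) (z, z, z)).2.1,
    (repT.getD (idx p) (z, z, z)).2.2]

/-- The three fixed points `∞, 0, 1`. -/
def isFix (p : GolayPt) : Bool := idx p == 23 || idx p == 0 || idx p == 1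

/-- The action of a matrix on the 24 points. -/
def act (g : Matrix (Fin 3) (Fin 3) F4) (p : GolayPt) : GolayPt :=
  if isFix p then p else lab (g *ᵥ rep p)

theorem vec3_eta (x : Fin 3 → F4) : x = ![x 0, x 1, x 2] := by
  funext i; fin_cases i <;> rfl

theorem lab_smul_aux : ∀ c a b d : F4, c ≠ 0 → lab (c • ![a, b, d]) = lab ![a, b, d] := by
  decide

theorem lab_smul (c : F4) (hc : c ≠ 0) (x : Fin 3 → F4) : lab (c • x) = lab x := by
  rw [vec3_eta x]; exact lab_smul_aux c _ _ _ hc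

theorem rep_lab_aux : ∀ a b d : F4, (a ≠ 0 ∨ b ≠ 0 ∨ d ≠ 0) →
    isFix (lab ![a, b, d]) = false ∧
      ∃ c : F4, c ≠ 0 ∧ rep (lab ![a, b, d]) = c • ![a, b, d] := by
  decide

theorem ne_zero_iff (x : Fin 3 → F4) : x ≠ 0 ↔ (x 0 ≠ 0 ∨ x 1 ≠ 0 ∨ x 2 ≠ 0) := by
  constructor
  · intro h
    by_contra hcon
    push Not at hcon
    apply h
    funext i; fin_cases i
    · exact hcon.1
    · exact hcon.2.1
    · exact hcon.2.2
  · rintro h rfl
    simp at h

theorem isFix_lab (x : Fin 3 → F4) (hx : x ≠ 0) : isFix (lab x) = false := by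
  rw [vec3_eta x]
  exact (rep_lab_aux _ _ _ ((ne_zero_iff x).mp hx)).1

theorem rep_lab (x : Fin 3 → F4) (hx : x ≠ 0) : ∃ c : F4, c ≠ 0 ∧ rep (lab x) = c • x := by
  have h := (rep_lab_aux _ _ _ ((ne_zero_iff x).mp hx)).2
  rw [← vec3_eta x] at h
  exact h

theorem lab_rep_aux : ∀ p : GolayPt, isFix p = false → lab (rep p) = p ∧ rep p ≠ 0 := by
  decide

local notation "SL3" => SpecialLinearGroup (Fin 3) F4

theorem mulVec_ne_zero (g : SL3) {u : Fin 3 → F4} (hu : u ≠ 0) :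
    (g : Matrix (Fin 3) (Fin 3) F4) *ᵥ u ≠ 0 := by
  intro h
  apply hu
  have h1 : ((g⁻¹ : SL3) : Matrix (Fin 3) (Fin 3) F4) *ᵥ ((g : Matrix (Fin 3) (Fin 3) F4) *ᵥ u) = u := by
    rw [Matrix.mulVec_mulVec, ← Matrix.SpecialLinearGroup.coe_mul, inv_mul_cancel,
      Matrix.SpecialLinearGroup.coe_one, Matrix.one_mulVec]
  rw [← h1, h, Matrix.mulVec_zero]

theorem act_one (p : GolayPt) : act 1 p = p := by
  unfold act
  by_cases hp : isFix p = true
  · rw [if_pos hp]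
  · rw [if_neg hp, Matrix.one_mulVec]
    exact (lab_rep_aux p (by simpa using hp)).1

theorem act_mul (g h : SL3) (p : GolayPt) :
    act ((g * h : SL3) : Matrix (Fin 3) (Fin 3) F4) p =
      act (g : Matrix (Fin 3) (Fin 3) F4) (act (h : Matrix (Fin 3) (Fin 3) F4) p) := by
  unfold act
  by_cases hp : isFix p = true
  · rw [if_pos hp, if_pos hp, if_pos hp]
  · have hp' : isFix p = false := by simpa using hp
    obtain ⟨hl, hr⟩ := lab_rep_aux p hp'
    have hu := mulVec_ne_zero h hr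
    have hfl : ¬ isFix (lab ((h : Matrix (Fin 3) (Fin 3) F4) *ᵥ rep p)) = true := by
      rw [isFix_lab _ hu]; simp
    rw [if_neg hp, if_neg hp, if_neg hfl]
    obtain ⟨c, hc, hrep⟩ := rep_lab _ hu
    rw [hrep, Matrix.mulVec_smul, lab_smul c hc, Matrix.SpecialLinearGroup.coe_mul, Matrix.mulVec_mulVec]

/-- The permutation of the 24 points induced by an element of `SL₃(𝔽₄)`. -/
def permOf (g : SL3) : Equiv.Perm GolayPt where
  toFun := act (g : Matrix (Fin 3) (Fin 3) F4)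
  invFun := act ((g⁻¹ : SL3) : Matrix (Fin 3) (Fin 3) F4)
  left_inv p := by
    rw [← act_mul, inv_mul_cancel, Matrix.SpecialLinearGroup.coe_one, act_one]
  right_inv p := by
    rw [← act_mul, mul_inv_cancel, Matrix.SpecialLinearGroup.coe_one, act_one]

/-- The homomorphism `SL₃(𝔽₄) → Sym(24)`. -/
def Φ : SL3 →* Equiv.Perm GolayPt where
  toFun := permOf
  map_one' := by
    refine Equiv.ext fun p => ?_
    show act ((1 : SL3) : Matrix (Fin 3) (Fin 3) F4) p = p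
    rw [Matrix.SpecialLinearGroup.coe_one, act_one]
  map_mul' g h := by
    refine Equiv.ext fun p => ?_
    exact act_mul g h p

theorem Φ_apply (g : SL3) (p : GolayPt) : Φ g p = act (g : Matrix (Fin 3) (Fin 3) F4) p := rfl

set_option maxRecDepth 100000 in
/-- Image tables of the transvections. -/
def tabOf : ℕ → ℕ → ℕ → List ℕ
  | 0, 1, 1 => [0, 1, 2, 19, 4, 7, 17, 5, 15, 12, 18, 20, 9, 13, 21, 8, 16, 6, 10, 3, 11, 14, 22, 23]
  | 0, 1, 2 => [0, 1, 2, 20, 4, 15, 12, 8, 7, 17, 14, 19, 6, 13, 10, 5, 16, 9, 21, 11, 3, 18, 22, 23]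
  | 0, 1, 3 => [0, 1, 2, 11, 4, 8, 9, 15, 5, 6, 21, 3, 17, 13, 18, 7, 16, 12, 14, 20, 19, 10, 22, 23]
  | 0, 2, 1 => [0, 1, 16, 3, 4, 7, 12, 5, 15, 17, 21, 11, 6, 22, 18, 8, 2, 9, 14, 19, 20, 10, 13, 23]
  | 0, 2, 2 => [0, 1, 22, 3, 4, 15, 9, 8, 7, 6, 18, 11, 17, 16, 21, 5, 13, 12, 10, 19, 20, 14, 2, 23]
  | 0, 2, 3 => [0, 1, 13, 3, 4, 8, 17, 15, 5, 12, 14, 11, 9, 2, 10, 7, 22, 6, 21, 19, 20, 18, 16, 23]
  | 1, 0, 1 => [0, 1, 2, 3, 19, 5, 13, 16, 10, 18, 8, 20, 15, 6, 14, 12, 7, 17, 9, 4, 11, 22, 21, 23]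
  | 1, 0, 2 => [0, 1, 2, 3, 11, 5, 10, 9, 13, 7, 6, 4, 22, 8, 14, 21, 18, 17, 16, 20, 19, 15, 12, 23]
  | 1, 0, 3 => [0, 1, 2, 3, 20, 5, 8, 18, 6, 16, 13, 19, 21, 10, 14, 22, 9, 17, 7, 11, 4, 12, 15, 23]
  | 1, 2, 1 => [0, 1, 5, 3, 4, 2, 10, 16, 13, 18, 6, 11, 21, 8, 17, 22, 7, 14, 9, 19, 20, 12, 15, 23]
  | 1, 2, 2 => [0, 1, 14, 3, 4, 17, 8, 9, 6, 7, 13, 11, 15, 10, 2, 12, 18, 5, 16, 19, 20, 22, 21, 23]
  | 1, 2, 3 => [0, 1, 17, 3, 4, 14, 13, 18, 10, 16, 8, 11, 22, 6, 5, 21, 9, 2, 7, 19, 20, 15, 12, 23]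
  | 2, 0, 1 => [0, 1, 2, 3, 16, 5, 21, 19, 12, 20, 15, 18, 8, 22, 14, 10, 4, 17, 11, 7, 9, 6, 13, 23]
  | 2, 0, 2 => [0, 1, 2, 3, 13, 5, 19, 21, 11, 15, 20, 8, 18, 4, 14, 9, 22, 17, 12, 6, 10, 7, 16, 23]
  | 2, 0, 3 => [0, 1, 2, 3, 22, 5, 7, 6, 18, 10, 9, 12, 11, 16, 14, 20, 13, 17, 8, 21, 15, 19, 4, 23]
  | 2, 1, 1 => [0, 1, 2, 5, 4, 3, 21, 19, 11, 10, 9, 8, 18, 13, 17, 20, 16, 14, 12, 7, 15, 6, 22, 23]
  | 2, 1, 2 => [0, 1, 2, 17, 4, 14, 19, 21, 18, 20, 15, 12, 11, 13, 5, 10, 16, 3, 8, 6, 9, 7, 22, 23]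
  | 2, 1, 3 => [0, 1, 2, 14, 4, 17, 7, 6, 12, 15, 20, 18, 8, 13, 3, 9, 16, 5, 11, 21, 10, 19, 22, 23]
  | _, _, _ => [0, 1, 2, 3, 4, 5, 6, 7, 8, 9, 10, 11, 12, 13, 14, 15, 16, 17, 18, 19, 20, 21, 22, 23]
set_option maxRecDepth 100000 in
/-- Code indices of the images of the generating code words. -/
def csOf : ℕ → ℕ → ℕ → List ℕ
  | 0, 1, 1 => [1559, 254, 3476, 952, 2800, 1249, 1834, 2349, 2626, 1876, 1673, 2907, 4006, 332, 3441, 1499, 3278, 3693, 3130, 2717, 2435, 55, 999]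
  | 0, 1, 2 => [215, 3862, 1212, 2416, 984, 1921, 3554, 2477, 1738, 628, 3137, 3707, 1390, 3748, 1849, 2739, 2574, 2893, 2458, 3293, 43, 1303, 999]
  | 0, 1, 3 => [2679, 2390, 3004, 4056, 816, 1897, 738, 237, 3178, 1244, 2313, 667, 1414, 3748, 2257, 1459, 846, 3589, 3130, 1397, 4035, 1567, 2479]
  | 0, 2, 1 => [95, 698, 2456, 3580, 756, 3745, 354, 2341, 3662, 3920, 2253, 2899, 1510, 1804, 829, 1943, 2694, 1641, 3130, 1233, 1419, 3127, 3051]
  | 0, 2, 2 => [1755, 346, 3768, 2936, 916, 4033, 2022, 2529, 2250, 3188, 3085, 2611, 1314, 684, 1405, 1203, 3654, 1801, 3486, 213, 623, 2839, 2479]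
  | 0, 2, 3 => [575, 1374, 3512, 2968, 884, 3429, 1698, 2213, 3690, 2772, 3853, 3799, 1926, 1260, 1241, 499, 2370, 585, 2110, 1841, 399, 3091, 3051]
  | 1, 0, 1 => [1743, 382, 3884, 184, 3552, 1633, 1810, 3541, 3466, 836, 1017, 2131, 2790, 1244, 2697, 1971, 2742, 2845, 3674, 3125, 2411, 391, 1071]
  | 1, 0, 2 => [3471, 3054, 3196, 3768, 3936, 1969, 1730, 981, 218, 2516, 377, 3347, 806, 1292, 2697, 2147, 1206, 1613, 2842, 2213, 1515, 3671, 575]
  | 1, 0, 3 => [1999, 3118, 508, 2856, 1904, 1505, 2498, 3669, 602, 1156, 3753, 3347, 1718, 3916, 665, 2787, 2998, 2461, 3290, 2165, 1339, 775, 111]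
  | 1, 2, 1 => [1979, 382, 3708, 3228, 1492, 3845, 1602, 2529, 2250, 2928, 3021, 3347, 934, 1448, 665, 727, 3750, 1641, 2842, 53, 1359, 3315, 2095]
  | 1, 2, 2 => [1499, 1726, 2396, 2968, 1904, 4069, 966, 3777, 2286, 3248, 3085, 3383, 1542, 1388, 701, 115, 2466, 809, 3674, 213, 1419, 2839, 2667]
  | 1, 2, 3 => [1755, 382, 3512, 2584, 1876, 3301, 1442, 3905, 3886, 2516, 3049, 2167, 738, 1644, 701, 1943, 2694, 397, 3290, 1073, 331, 2867, 3087]
  | 2, 0, 1 => [2335, 174, 3628, 1528, 816, 2145, 3458, 1685, 858, 3396, 2489, 1923, 3958, 1244, 3609, 3315, 2742, 3021, 2762, 997, 1643, 87, 1327]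
  | 2, 0, 2 => [2079, 126, 3884, 1000, 3120, 2481, 2626, 3925, 3466, 916, 377, 1875, 1718, 2780, 1545, 2787, 1382, 1229, 3546, 3301, 1723, 391, 2863]
  | 2, 0, 3 => [3471, 1646, 940, 3304, 2800, 1505, 4050, 1605, 3594, 3860, 2873, 2179, 2406, 156, 1369, 803, 1462, 3021, 346, 3125, 1723, 727, 2175]
  | 2, 1, 1 => [3127, 1726, 2876, 1528, 2584, 3401, 3714, 3973, 3938, 1876, 937, 403, 78, 2276, 1073, 2779, 1422, 741, 2546, 3293, 1643, 855, 2351]
  | 2, 1, 2 => [2327, 126, 1844, 3280, 2584, 425, 3426, 1605, 2730, 3484, 2401, 3707, 4006, 1260, 1849, 1499, 846, 3021, 978, 2805, 1667, 183, 3087]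
  | 2, 1, 3 => [2455, 126, 3740, 976, 1520, 2281, 3018, 1605, 1322, 2868, 2313, 1979, 3918, 684, 3705, 2611, 3238, 3557, 3154, 1309, 1667, 223, 871]
  | _, _, _ => [863, 1726, 3452, 2808, 1520, 3041, 1986, 3973, 3850, 3604, 3113, 2131, 166, 332, 665, 1331, 2662, 1229, 2458, 821, 1643, 3287, 2479]

/-- Table criterion for membership in `M24`. -/
theorem mem_M24_of_table (σ : Equiv.Perm GolayPt) (tab cs : List ℕ)
    (hσ : ∀ p, idx (σ p) = tab.getD (idx p) 0)
    (hc : ∀ t < 23, cs.getD t 0 < 4096 ∧ ∀ k < 24,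
      (qrMask t).testBit (tab.getD k 0) = (enc (cs.getD t 0)).testBit k) : σ ∈ M24 := by
  apply mem_M24_of_forall_qrWord
  intro t
  rw [mem_golayCode_iff]
  obtain ⟨h1, h2⟩ := hc t.val (ZMod.val_lt t)
  refine ⟨cs.getD t.val 0, h1, ?_⟩
  funext p
  rw [← wordOf_qrMask' t]
  simp only [wordOf]
  rw [hσ p, h2 (idx p) (idx_lt p)]

theorem act_transvection : ∀ i j : Fin 3, i ≠ j → ∀ c : F4, ∀ p : GolayPt,
    idx (act (Matrix.transvection i j c) p) = (tabOf i.val j.val (fcode c)).getD (idx p) 0 := by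
  decide

theorem cs_check : ∀ i < 3, ∀ j < 3, ∀ c < 4, ∀ t < 23, (csOf i j c).getD t 0 < 4096 ∧ ∀ k < 24,
    (qrMask t).testBit ((tabOf i j c).getD k 0) = (enc ((csOf i j c).getD t 0)).testBit k := by
  decide +kernel

theorem fcode_lt (c : F4) : fcode c < 4 := by cases c <;> decide

theorem Φ_transvection_mem (i j : Fin 3) (hij : i ≠ j) (c : F4) :
    Φ (Matrix.SpecialLinearGroup.transvection hij c) ∈ M24 := by
  apply mem_M24_of_table _ (tabOf i.val j.val (fcode c)) (csOf i.val j.val (fcode c))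
  · intro p
    rw [Φ_apply, Matrix.SpecialLinearGroup.transvection_coe]
    exact act_transvection i j hij c p
  · exact cs_check i.val i.isLt j.val j.isLt (fcode c) (fcode_lt c)

theorem Φ_mem_M24 (g : SL3) : Φ g ∈ M24 := by
  refine Cfsg.Agent.Lib.Helper5.transvection_induction (fun g => Φ g ∈ M24) ?_ ?_ ?_ g
  · rw [map_one]; exact M24.one_mem
  · intro i j hij c
    exact Φ_transvection_mem i j hij c
  · intro A B hA hB
    rw [map_mul]; exact M24.mul_mem hA hB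

theorem isFix_bp : ∀ j < 3, isFix (bp j) = true := by decide

theorem Φ_mem_Gst (g : SL3) : Φ g ∈ Gst 3 := by
  rw [mem_Gst]
  refine ⟨Φ_mem_M24 g, fun j hj => ?_⟩
  rw [Φ_apply]
  unfold act
  rw [if_pos (isFix_bp j hj)]

theorem eigen_of_ker (g : SL3) (hg : g ∈ Φ.ker) (u : Fin 3 → F4) (hu : u ≠ 0) :
    ∃ c : F4, (g : Matrix (Fin 3) (Fin 3) F4) *ᵥ u = c • u := by
  obtain ⟨c, hc, hrep⟩ := rep_lab u hu
  have hfu := isFix_lab u hu
  have h1 : Φ g (lab u) = lab u := by rw [MonoidHom.mem_ker.mp hg]; rfl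
  rw [Φ_apply] at h1
  unfold act at h1
  rw [if_neg (by rw [hfu]; simp), hrep, Matrix.mulVec_smul, lab_smul c hc] at h1
  have hgu := mulVec_ne_zero g hu
  obtain ⟨c1, hc1, h3⟩ := rep_lab _ hgu
  rw [h1, hrep] at h3
  refine ⟨c1⁻¹ * c, ?_⟩
  rw [mul_smul, h3, smul_smul, inv_mul_cancel₀ hc1, one_smul]

theorem pow_three_eq_one : ∀ c : F4, c ≠ 0 → c ^ 3 = 1 := by decide

theorem ker_le_center : Φ.ker ≤ Subgroup.center SL3 := by
  intro g hg
  rw [Matrix.SpecialLinearGroup.mem_center_iff]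
  have he := eigen_of_ker g hg
  have h0 : ∀ i : Fin 3, ∃ c : F4, ∀ k, (g : Matrix (Fin 3) (Fin 3) F4) k i = if k = i then c else 0 := by
    intro i
    obtain ⟨c, hc⟩ := he (Pi.single i 1) (by
      intro h
      have := congrFun h i
      simp at this)
    refine ⟨c, fun k => ?_⟩
    have h2 := congrFun hc k
    rw [Matrix.mulVec_single_one] at h2
    simp only [Matrix.col_apply, Pi.smul_apply, smul_eq_mul, Pi.single_apply, mul_ite, mul_one,
      mul_zero] at h2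
    exact h2
  choose d hd using h0
  obtain ⟨c, hc⟩ := he (fun _ => 1) (by
    intro h
    have := congrFun h 0
    simp at this)
  have hdc : ∀ k, d k = c := by
    intro k
    have h2 := congrFun hc k
    simp only [Matrix.mulVec, dotProduct, mul_one, Pi.smul_apply, smul_eq_mul] at h2
    rw [Finset.sum_eq_single k] at h2
    · rw [hd k k, if_pos rfl] at h2; exact h2
    · intro i _ hik
      rw [hd i k, if_neg (Ne.symm hik)]
    · intro h; exact absurd (Finset.mem_univ k) h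
  have hc0 : c ≠ 0 := by
    intro h
    have h3 := mulVec_ne_zero g (u := fun _ => 1) (by
      intro h
      have := congrFun h 0
      simp at this)
    apply h3
    rw [hc, h, zero_smul]
  refine ⟨c, ?_, ?_⟩
  · rw [Fintype.card_fin]; exact pow_three_eq_one c hc0
  · ext k i
    rw [hd i k, hdc i]
    simp [Matrix.scalar_apply, Matrix.diagonal_apply]

theorem card_SL3 : Nat.card SL3 = 60480 := by
  have h := Cfsg.Agent.Lib.Helper57.card_SL_formula (F := F4) 3 (by norm_num)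
  rw [F4.card, Fin.prod_univ_three] at h
  have h2 : (4 - 1) * Nat.card SL3 = 3 * Nat.card SL3 := by norm_num
  have h3 : (4 ^ 3 - 4 ^ ((0 : Fin 3) : ℕ)) * (4 ^ 3 - 4 ^ ((1 : Fin 3) : ℕ)) *
      (4 ^ 3 - 4 ^ ((2 : Fin 3) : ℕ)) = 181440 := by norm_num
  rw [h2, h3] at h
  omega

theorem card_center_SL3 : Nat.card (Subgroup.center SL3) = 3 := by
  have h := Cfsg.Agent.Lib.Helper57.card_center_SL (F := F4) 3 (by norm_num)
  rw [F4.card] at h
  exact h

theorem range_le : Φ.range ≤ Gst 3 := by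
  rintro _ ⟨g, rfl⟩
  exact Φ_mem_Gst g

theorem card_facts : Nat.card Φ.range = 20160 ∧ Nat.card Φ.ker = 3 := by
  have h1 : Nat.card Φ.ker * Nat.card Φ.range = 60480 := by
    rw [← card_SL3, ← Subgroup.index_ker, Subgroup.card_mul_index]
  have h2 : Nat.card Φ.ker ≤ 3 := by
    exact le_trans (Subgroup.card_le_of_le ker_le_center) (le_of_eq card_center_SL3)
  have h3 : Nat.card Φ.range ≤ 20160 := by
    exact le_trans (Subgroup.card_le_of_le range_le) (le_of_eq card_Gst_3)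
  constructor <;> nlinarith

theorem range_eq : Φ.range = Gst 3 := by
  apply Subgroup.eq_of_le_of_card_ge range_le
  rw [card_Gst_3, card_facts.1]

theorem ker_eq : Φ.ker = Subgroup.center SL3 := by
  apply Subgroup.eq_of_le_of_card_ge ker_le_center
  rw [card_center_SL3, card_facts.2]

/-- `PSL₃(𝔽₄)` is isomorphic to the pointwise stabilizer of the three base points. -/
noncomputable def pslEquivGst : Matrix.ProjectiveSpecialLinearGroup (Fin 3) F4 ≃* ↥(Gst 3) :=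
  (QuotientGroup.quotientMulEquivOfEq ker_eq.symm).trans
    ((QuotientGroup.quotientKerEquivRange Φ).trans (MulEquiv.subgroupCongr range_eq))

/-- The three-point stabilizer is isomorphic to `Gst 3`. -/
theorem stab_equiv_Gst (p q r : GolayPt) (hpq : p ≠ q) (hpr : p ≠ r) (hqr : q ≠ r) :
    Nonempty (↥(MulAction.stabilizer M24 p ⊓ MulAction.stabilizer M24 q ⊓
      MulAction.stabilizer M24 r) ≃* ↥(Gst 3)) := by
  let Y : Subgroup (Equiv.Perm GolayPt) :=
    M24 ⊓ (MulAction.stabilizer (Equiv.Perm GolayPt) p ⊓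
      (MulAction.stabilizer (Equiv.Perm GolayPt) q ⊓ MulAction.stabilizer (Equiv.Perm GolayPt) r))
  have hY : ∀ x : Equiv.Perm GolayPt, x ∈ Y ↔ x ∈ M24 ∧ x p = p ∧ x q = q ∧ x r = r := fun x => by
    simp only [Y, Subgroup.mem_inf]
    exact Iff.rfl
  have e1 : ↥(MulAction.stabilizer M24 p ⊓ MulAction.stabilizer M24 q ⊓
      MulAction.stabilizer M24 r) ≃* ↥Y :=
    subgroupEquivOfMem _ _ inf_le_left (fun x => by
      rw [hY, Subgroup.mem_inf, Subgroup.mem_inf, MulAction.mem_stabilizer_iff,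
        MulAction.mem_stabilizer_iff, MulAction.mem_stabilizer_iff]
      exact ⟨fun h => ⟨x.2, h.1.1, h.1.2, h.2⟩, fun h => ⟨⟨h.2.1, h.2.2.1⟩, h.2.2.2⟩⟩)
  obtain ⟨ρ, hρ, hρp⟩ := exists_map_to_base 3 (by decide)
    (fun j => if j = 0 then p else if j = 1 then q else r)
    (fun a ha b hb h => by
      interval_cases a <;> interval_cases b <;> simp_all)
  have hρp' : ρ p = bp 0 := by simpa using hρp 0 (by decide)
  have hρq' : ρ q = bp 1 := by simpa using hρp 1 (by decide)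
  have hρr' : ρ r = bp 2 := by simpa using hρp 2 (by decide)
  have e2 : ↥Y ≃* ↥(Gst 3) :=
    conjSubgroupEquiv ρ⁻¹ _ _ (fun x => by
      rw [inv_inv, mem_Gst, hY]
      constructor
      · rintro ⟨hx, hxp, hxq, hxr⟩
        refine ⟨M24.mul_mem (M24.mul_mem hρ hx) (M24.inv_mem hρ), fun j hj => ?_⟩
        have : j = 0 ∨ j = 1 ∨ j = 2 := by omega
        rcases this with rfl | rfl | rfl
        · rw [← hρp', conj_apply_eq_iff]; exact hxp
        · rw [← hρq', conj_apply_eq_iff]; exact hxq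
        · rw [← hρr', conj_apply_eq_iff]; exact hxr
      · rintro ⟨hx, hfix⟩
        have hx' : x = ρ⁻¹ * (ρ * x * ρ⁻¹) * ρ := by group
        refine ⟨hx' ▸ M24.mul_mem (M24.mul_mem (M24.inv_mem hρ) hx) hρ, ?_, ?_, ?_⟩
        · have := hfix 0 (by decide)
          rw [← hρp', conj_apply_eq_iff] at this
          exact this
        · have := hfix 1 (by decide)
          rw [← hρq', conj_apply_eq_iff] at this
          exact this
        · have := hfix 2 (by decide)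
          rw [← hρr', conj_apply_eq_iff] at this
          exact this)
  exact ⟨e1.trans e2⟩

/-- A three-point stabiliser in the group of the length-24 code is isomorphic to PSL(3, F) for the field F with 4 elements. -/
theorem result (p q r : Cfsg.GolayPt) (hpq : p ≠ q) (hpr : p ≠ r) (hqr : q ≠ r) (F : Type) [Field F] [Fintype F] (hF : Fintype.card F = 4) : Nonempty (↥(MulAction.stabilizer Cfsg.M24 p ⊓ MulAction.stabilizer Cfsg.M24 q ⊓ MulAction.stabilizer Cfsg.M24 r) ≃* Matrix.ProjectiveSpecialLinearGroup (Fin 3) F) := by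
  obtain ⟨e⟩ := stab_equiv_Gst p q r hpq hpr hqr
  have eF : F ≃+* F4 := FiniteField.ringEquivOfCardEq (by rw [hF, F4.card])
  exact ⟨e.trans (pslEquivGst.symm.trans (Cfsg.Agent.Lib.Helper57.pslMapEquiv eF.symm))⟩

end Cfsg.Agent.S0380
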