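import Cfsg.Statements.S0402
import Mathlib
import Cfsg.Agent.Lib.Helper8.ConwaySimple
import Cfsg.Agent.S0144
import Cfsg.Agent.S0400
import Cfsg.Agent.S0394
import Cfsg.Agent.S0397

set_option autoImplicit false
open Cfsg

namespace Cfsg.Agent.S0402

open Cfsg.Agent.Lib.Helper8 Cfsg.Agent.Lib.Helper7 Cfsg.Spor

theorem solvable_of_card_dvd {H : Type*} [Group H] [Finite H] (a b : ℕ)
    (h : Nat.card H ∣ 2 ^ a * 3 ^ b) : Group.IsSolvable H := by
  obtain ⟨k1, k2, h1, h2, he⟩ := (Nat.dvd_mul).1 h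
  obtain ⟨a', _, rfl⟩ := (Nat.dvd_prime_pow Nat.prime_two).1 h1
  obtain ⟨b', _, rfl⟩ := (Nat.dvd_prime_pow Nat.prime_three).1 h2
  exact Cfsg.Agent.S0144.result 2 3 a' b' Nat.prime_two Nat.prime_three he.symm

theorem vOddL_apply (i : GolayPt) :
    ((Cfsg.Agent.S0400.vOddL : leechLattice) : GolayPt → ℤ) i = if i = none then -3 else 1 := rfl

theorem sqNorm_vOddL : sqNorm ((Cfsg.Agent.S0400.vOddL : leechLattice) : GolayPt → ℤ) = 32 := by
  show sqNorm vOdd = 32
  decide +kernel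

theorem orbit_vOddL : MulAction.orbit Co0 Cfsg.Agent.S0400.vOddL
    = {x : leechLattice | sqNorm (x : GolayPt → ℤ) = 32} := by
  ext x
  constructor
  · rintro ⟨g, rfl⟩
    show sqNorm ((g • Cfsg.Agent.S0400.vOddL : leechLattice) : GolayPt → ℤ) = 32
    rw [co0_sqNorm, sqNorm_vOddL]
  · intro hx
    obtain ⟨g, hg⟩ := Cfsg.Agent.S0400.result Cfsg.Agent.S0400.vOddL x sqNorm_vOddL hx
    exact ⟨g, hg⟩

theorem card_stab_vOddL :
    Nat.card (MulAction.stabilizer Co0 Cfsg.Agent.S0400.vOddL) = 42305421312000 := by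
  have h1 : (MulAction.stabilizer Co0 Cfsg.Agent.S0400.vOddL).index
      = (MulAction.orbit Co0 Cfsg.Agent.S0400.vOddL).ncard :=
    MulAction.index_stabilizer Co0 Cfsg.Agent.S0400.vOddL
  have h2 := Subgroup.card_mul_index (MulAction.stabilizer Co0 Cfsg.Agent.S0400.vOddL)
  rw [h1, orbit_vOddL, ncard_subtype_leech (fun x => sqNorm x = 32), Cfsg.Agent.S0394.result,
    Cfsg.Agent.S0397.result] at h2
  have h3 : 42305421312000 * 196560 = 8315553613086720000 := by norm_num
  exact Nat.eq_of_mul_eq_mul_right (by norm_num) (h2.trans h3.symm)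

theorem hpp41472 : ∀ p k : ℕ, p.Prime → 0 < k → p ^ k ∣ 41472 → p ^ k % 23 ≠ 1 := by
  intro p k hp hk hdvd
  have hp' : p ∣ 2 ^ 9 * 3 ^ 4 := (dvd_pow_self p hk.ne').trans hdvd
  rcases (Nat.Prime.dvd_mul hp).1 hp' with h | h
  · have : p = 2 := (Nat.prime_dvd_prime_iff_eq hp Nat.prime_two).1 (hp.dvd_of_dvd_pow h)
    subst this
    have hk1 : k ≤ 9 := by
      by_contra hc
      have hc := Nat.lt_of_not_le hc
      have : 2 ^ 10 ∣ 41472 := (pow_dvd_pow 2 hc).trans hdvd
      norm_num at this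
    interval_cases k <;> norm_num
  · have : p = 3 := (Nat.prime_dvd_prime_iff_eq hp Nat.prime_three).1 (hp.dvd_of_dvd_pow h)
    subst this
    have hk5 : k ≤ 4 := by
      by_contra hc
      have hc := Nat.lt_of_not_le hc
      have : 3 ^ 5 ∣ 41472 := (pow_dvd_pow 3 hc).trans hdvd
      norm_num at this
    interval_cases k <;> norm_num

/-- the stabiliser of `(-3, 1^23)` is simple -/
theorem isSimpleGroup_stab_vOddL :
    IsSimpleGroup (MulAction.stabilizer Co0 Cfsg.Agent.S0400.vOddL) := by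
  -- a Higman–Sims subgroup
  obtain ⟨g, hg⟩ := Cfsg.Agent.S0400.result yU Cfsg.Agent.S0400.vOddL sqNorm_yU sqNorm_vOddL
  set a : leechLattice := g • u3std with ha
  set b : leechLattice := g • w3std with hb
  have han : sqNorm (a : GolayPt → ℤ) = 48 := by rw [ha, co0_sqNorm, sqNorm_u3std]
  have hbn : sqNorm (b : GolayPt → ℤ) = 48 := by rw [hb, co0_sqNorm, sqNorm_w3std]
  have hdot : dotInt (a : GolayPt → ℤ) (b : GolayPt → ℤ) = -32 := by
    rw [ha, hb, co0_dotInt, dotInt_u3std_w3std]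
  have hsum : a + b = -Cfsg.Agent.S0400.vOddL := by
    rw [ha, hb, ← co0_smul_add, ← hg, ← co0_smul_neg]
    congr 1
    unfold w3std; abel
  obtain ⟨hKs, hKc⟩ := isHS_stabilizer a b han hbn hdot
  have hle : MulAction.stabilizer Co0 a ⊓ MulAction.stabilizer Co0 b
      ≤ MulAction.stabilizer Co0 Cfsg.Agent.S0400.vOddL := by
    intro x hx
    rw [Subgroup.mem_inf, MulAction.mem_stabilizer_iff, MulAction.mem_stabilizer_iff] at hx
    rw [MulAction.mem_stabilizer_iff]
    have h1 : x • (-Cfsg.Agent.S0400.vOddL) = -Cfsg.Agent.S0400.vOddL := by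
      rw [← hsum, co0_smul_add, hx.1, hx.2]
    rw [co0_smul_neg] at h1
    exact neg_injective h1
  refine isSimpleGroup_stab_ua (α := -3) (by norm_num) vOddL_apply 42305421312000 41472
    card_stab_vOddL
    (MulAction.stabilizer Co0 a ⊓ MulAction.stabilizer Co0 b) hle hKs hKc
    (by norm_num) (by norm_num) (by norm_num) (by norm_num) (by norm_num) ?_ hpp41472
  intro H hH
  haveI : Finite H := Nat.finite_of_card_ne_zero (fun h0 => by rw [h0] at hH; norm_num at hH)
  exact solvable_of_card_dvd 9 4 (by norm_num; exact hH)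

/-- Stabiliser of a minimal vector is simple of order 42305421312000. -/
theorem result (v : Cfsg.leechLattice) (hv : Cfsg.sqNorm (v : Cfsg.GolayPt → ℤ) = 32) : Cfsg.IsCo2 (MulAction.stabilizer Cfsg.Co0 v) := by
  obtain ⟨g, hg⟩ := Cfsg.Agent.S0400.result Cfsg.Agent.S0400.vOddL v sqNorm_vOddL hv
  have e : MulAction.stabilizer Co0 Cfsg.Agent.S0400.vOddL ≃* MulAction.stabilizer Co0 v :=
    MulAction.stabilizerEquivStabilizer hg.symm
  have := isSimpleGroup_stab_vOddL
  exact ⟨MulEquiv.isSimpleGroup e.symm, by rw [← Nat.card_congr e.toEquiv]; exact card_stab_vOddL⟩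

end Cfsg.Agent.S0402
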