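import Cfsg.Statements.S0403
import Mathlib
import Cfsg.Agent.Lib.Helper8.ConwaySimple
import Cfsg.Agent.S0144
import Cfsg.Agent.S0401
import Cfsg.Agent.S0395
import Cfsg.Agent.S0397

set_option autoImplicit false
open Cfsg

namespace Cfsg.Agent.S0403

open Cfsg.Agent.Lib.Helper8 Cfsg.Agent.Lib.Helper7 Cfsg.Spor

theorem solvable_of_card_dvd {H : Type*} [Group H] [Finite H] (a b : ℕ)
    (h : Nat.card H ∣ 2 ^ a * 3 ^ b) : Group.IsSolvable H := by
  obtain ⟨k1, k2, h1, h2, he⟩ := (Nat.dvd_mul).1 h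
  obtain ⟨a', _, rfl⟩ := (Nat.dvd_prime_pow Nat.prime_two).1 h1
  obtain ⟨b', _, rfl⟩ := (Nat.dvd_prime_pow Nat.prime_three).1 h2
  exact Cfsg.Agent.S0144.result 2 3 a' b' Nat.prime_two Nat.prime_three he.symm

theorem u5L_apply (i : GolayPt) :
    ((Cfsg.Agent.S0401.u5L : leechLattice) : GolayPt → ℤ) i = if i = none then 5 else 1 := rfl

theorem sqNorm_u5L : sqNorm ((Cfsg.Agent.S0401.u5L : leechLattice) : GolayPt → ℤ) = 48 := by
  show sqNorm Cfsg.Agent.S0401.u5 = 48
  decide +kernel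

theorem orbit_u5L : MulAction.orbit Co0 Cfsg.Agent.S0401.u5L
    = {x : leechLattice | sqNorm (x : GolayPt → ℤ) = 48} := by
  ext x
  constructor
  · rintro ⟨g, rfl⟩
    show sqNorm ((g • Cfsg.Agent.S0401.u5L : leechLattice) : GolayPt → ℤ) = 48
    rw [co0_sqNorm, sqNorm_u5L]
  · intro hx
    obtain ⟨g, hg⟩ := Cfsg.Agent.S0401.result Cfsg.Agent.S0401.u5L x sqNorm_u5L hx
    exact ⟨g, hg⟩

theorem card_stab_u5L : Nat.card (MulAction.stabilizer Co0 Cfsg.Agent.S0401.u5L) = 495766656000 := by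
  have h1 : (MulAction.stabilizer Co0 Cfsg.Agent.S0401.u5L).index
      = (MulAction.orbit Co0 Cfsg.Agent.S0401.u5L).ncard :=
    MulAction.index_stabilizer Co0 Cfsg.Agent.S0401.u5L
  have h2 := Subgroup.card_mul_index (MulAction.stabilizer Co0 Cfsg.Agent.S0401.u5L)
  rw [h1, orbit_u5L, ncard_subtype_leech (fun x => sqNorm x = 48), Cfsg.Agent.S0395.result,
    Cfsg.Agent.S0397.result] at h2
  have h3 : 495766656000 * 16773120 = 8315553613086720000 := by norm_num
  exact Nat.eq_of_mul_eq_mul_right (by norm_num) (h2.trans h3.symm)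

theorem hpp486 : ∀ p k : ℕ, p.Prime → 0 < k → p ^ k ∣ 486 → p ^ k % 23 ≠ 1 := by
  intro p k hp hk hdvd
  have hp486 : p ∣ 2 * 3 ^ 5 := (dvd_pow_self p hk.ne').trans hdvd
  rcases (Nat.Prime.dvd_mul hp).1 hp486 with h | h
  · have : p = 2 := (Nat.prime_dvd_prime_iff_eq hp Nat.prime_two).1 h
    subst this
    have hk1 : k ≤ 1 := by
      by_contra hc
      have hc := Nat.lt_of_not_le hc
      have : 2 ^ 2 ∣ 486 := (pow_dvd_pow 2 hc).trans hdvd
      norm_num at this
    interval_cases k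
    norm_num
  · have : p = 3 := (Nat.prime_dvd_prime_iff_eq hp Nat.prime_three).1 (hp.dvd_of_dvd_pow h)
    subst this
    have hk5 : k ≤ 5 := by
      by_contra hc
      have hc := Nat.lt_of_not_le hc
      have : 3 ^ 6 ∣ 486 := (pow_dvd_pow 3 hc).trans hdvd
      norm_num at this
    interval_cases k <;> norm_num

/-- the stabiliser of `(5, 1^23)` is simple -/
theorem isSimpleGroup_stab_u5L : IsSimpleGroup (MulAction.stabilizer Co0 Cfsg.Agent.S0401.u5L) := by
  -- a Higman–Sims subgroup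
  obtain ⟨g, hg⟩ := Cfsg.Agent.S0401.result u3std Cfsg.Agent.S0401.u5L sqNorm_u3std sqNorm_u5L
  set w : leechLattice := g • w3std with hw
  have hwn : sqNorm (w : GolayPt → ℤ) = 48 := by rw [hw, co0_sqNorm, sqNorm_w3std]
  have hdot : dotInt ((Cfsg.Agent.S0401.u5L : leechLattice) : GolayPt → ℤ) (w : GolayPt → ℤ) = -32 := by
    rw [← hg, hw, co0_dotInt, dotInt_u3std_w3std]
  obtain ⟨hKs, hKc⟩ := isHS_stabilizer Cfsg.Agent.S0401.u5L w sqNorm_u5L hwn hdot
  refine isSimpleGroup_stab_ua (α := 5) (by norm_num) u5L_apply 495766656000 486 card_stab_u5L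
    (MulAction.stabilizer Co0 Cfsg.Agent.S0401.u5L ⊓ MulAction.stabilizer Co0 w) inf_le_left hKs hKc
    (by norm_num) (by norm_num) (by norm_num) (by norm_num) (by norm_num) ?_ hpp486
  intro H hH
  haveI : Finite H := Nat.finite_of_card_ne_zero (fun h0 => by rw [h0] at hH; norm_num at hH)
  exact solvable_of_card_dvd 1 5 (by norm_num; exact hH)

/-- Stabiliser of a vector of sum of squares 48 is simple of order 495766656000. -/
theorem result (v : Cfsg.leechLattice) (hv : Cfsg.sqNorm (v : Cfsg.GolayPt → ℤ) = 48) : Cfsg.IsCo3 (MulAction.stabilizer Cfsg.Co0 v) := by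
  obtain ⟨g, hg⟩ := Cfsg.Agent.S0401.result Cfsg.Agent.S0401.u5L v sqNorm_u5L hv
  have e : MulAction.stabilizer Co0 Cfsg.Agent.S0401.u5L ≃* MulAction.stabilizer Co0 v :=
    MulAction.stabilizerEquivStabilizer hg.symm
  have := isSimpleGroup_stab_u5L
  exact ⟨MulEquiv.isSimpleGroup e.symm, by rw [← Nat.card_congr e.toEquiv]; exact card_stab_u5L⟩

end Cfsg.Agent.S0403
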