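import Cfsg.Statements.S0412
import Cfsg.Agent.Lib.Helper93.SteinerMain
import Cfsg.Agent.Lib.Helper93.AutTransport
import Cfsg.Agent.Lib.Helper7.SimpleMathieu
import Cfsg.Agent.Lib.Helper7.M24Octads

set_option autoImplicit false
open Cfsg

namespace Cfsg.Agent.S0412

/-- Aut of an S(5, 8, 24) is simple of order 244823040 and 5-transitive on points. -/
theorem result {α : Type*} [Fintype α] [DecidableEq α] (hα : Fintype.card α = 24) {B : Set (Finset α)} (hB : Cfsg.IsSteinerSystem 5 8 B) : Cfsg.IsM24 (Cfsg.setSystemAut B) ∧ MulAction.IsMultiplyPretransitive (Cfsg.setSystemAut B) α 5 := by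
  classical
  obtain ⟨e, he⟩ := Cfsg.Agent.Lib.Helper93.SteinerMain.iso_octads hα hB
  have hM : Cfsg.M24 = Cfsg.setSystemAut Cfsg.octads :=
    Cfsg.Agent.Lib.Helper7.M24_eq_setSystemAut_octads
  have hs : IsSimpleGroup (Cfsg.setSystemAut Cfsg.octads) := by
    rw [← hM]; exact Cfsg.Agent.Lib.Helper7.isSimpleGroup_M24
  have hc : Nat.card (Cfsg.setSystemAut Cfsg.octads) = 244823040 := by
    rw [← hM]; exact Cfsg.Agent.Lib.Helper7.card_M24
  have ht : MulAction.IsMultiplyPretransitive (Cfsg.setSystemAut Cfsg.octads) Cfsg.GolayPt 5 := by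
    rw [← hM]; exact Cfsg.Agent.Lib.Helper7.M24_isMultiplyPretransitive (le_refl 5)
  refine ⟨⟨?_, ?_⟩, ?_⟩
  · exact Cfsg.Agent.Lib.Helper93.AutTransport.isSimpleGroup_aut e he hs
  · rw [Cfsg.Agent.Lib.Helper93.AutTransport.card_aut_eq e he, hc]
  · exact Cfsg.Agent.Lib.Helper93.AutTransport.isMultiplyPretransitive_aut e he 5 ht

end Cfsg.Agent.S0412
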