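import Cfsg.Statements.S0413
import Cfsg.Agent.Lib.Helper93.SteinerMain
import Cfsg.Agent.Lib.Helper93.AutTransport
import Cfsg.Agent.Lib.Helper93.AutC23

set_option autoImplicit false
open Cfsg

namespace Cfsg.Agent.S0413

/-- Aut of an S(4, 7, 23) is simple of order 10200960 and 4-transitive. -/
theorem result {α : Type*} [Fintype α] [DecidableEq α] (hα : Fintype.card α = 23) {B : Set (Finset α)} (hB : Cfsg.IsSteinerSystem 4 7 B) : Cfsg.IsM23 (Cfsg.setSystemAut B) ∧ MulAction.IsMultiplyPretransitive (Cfsg.setSystemAut B) α 4 := by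
  classical
  obtain ⟨e, he⟩ := Cfsg.Agent.Lib.Helper93.SteinerMain.iso_C23_none hα hB
  refine ⟨⟨?_, ?_⟩, ?_⟩
  · exact Cfsg.Agent.Lib.Helper93.AutTransport.isSimpleGroup_aut e he
      Cfsg.Agent.Lib.Helper93.AutC23.isSimpleGroup_autC23
  · rw [Cfsg.Agent.Lib.Helper93.AutTransport.card_aut_eq e he,
      Cfsg.Agent.Lib.Helper93.AutC23.card_autC23]
  · exact Cfsg.Agent.Lib.Helper93.AutTransport.isMultiplyPretransitive_aut e he 4
      Cfsg.Agent.Lib.Helper93.AutC23.isMultiplyPretransitive_autC23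

end Cfsg.Agent.S0413
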