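import Cfsg.Statements.S0419
-- import your own Cfsg.Agent.* helpers here
import Mathlib
import Cfsg.Agent.S0418

set_option autoImplicit false
open Cfsg

namespace Cfsg.Agent.S0419

open MulAction

/-- The point stabilizer of a sharply `(n+1)`-transitive group is sharply `n`-transitive on the
remaining points. -/
theorem stabilizer_sharp {G : Type*} [Group G] {α : Type*} [MulAction G α] (a : α) (n : ℕ)
    (hsharp : ∀ x : Fin (n+1) ↪ α, stabilizer G x = ⊥) :
    ∀ x : Fin n ↪ SubMulAction.ofStabilizer G a, stabilizer (stabilizer G a) x = ⊥ := by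
  intro x
  rw [eq_bot_iff]
  intro h hh
  rw [Subgroup.mem_bot]
  have h1 : (h : G) ∈ stabilizer G (SubMulAction.ofStabilizer.snoc x) := by
    rw [mem_stabilizer_iff]
    ext i
    rw [Function.Embedding.smul_apply]
    rcases Fin.eq_castSucc_or_eq_last i with ⟨j, rfl⟩ | rfl
    · rw [SubMulAction.ofStabilizer.snoc_castSucc]
      have h2 : h • x = x := mem_stabilizer_iff.mp hh
      have h3 : (h • x) j = x j := by rw [h2]
      rw [Function.Embedding.smul_apply] at h3
      have h4 := congrArg Subtype.val h3
      exact h4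
    · rw [SubMulAction.ofStabilizer.snoc_last]
      exact h.2
  rw [hsharp] at h1
  exact Subtype.ext (Subgroup.mem_bot.mp h1)

theorem faithful_stabilizer {G : Type*} [Group G] {α : Type*} [MulAction G α] [FaithfulSMul G α]
    (a : α) : FaithfulSMul (stabilizer G a) (SubMulAction.ofStabilizer G a) := by
  refine ⟨fun {h₁ h₂} hh => ?_⟩
  apply Subtype.ext
  apply FaithfulSMul.eq_of_smul_eq_smul (α := α)
  intro b
  by_cases hb : b = a
  · rw [hb]
    have e1 : (h₁ : G) • a = a := h₁.2
    have e2 : (h₂ : G) • a = a := h₂.2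
    rw [e1, e2]
  · have hb' : b ∈ SubMulAction.ofStabilizer G a :=
      (SubMulAction.mem_ofStabilizer_iff G a).mpr hb
    have h3 := hh ⟨b, hb'⟩
    exact congrArg Subtype.val h3

/-- A faithful 2-transitive group whose point stabilizer is simple, on a set whose size is
divisible by two different primes, is simple. -/
theorem simple_of_simple_stabilizer {G : Type*} [Group G] [Finite G] {α : Type*} [Fintype α]
    [MulAction G α] [FaithfulSMul G α] [IsMultiplyPretransitive G α 2] (a : α)
    (hH : IsSimpleGroup (stabilizer G a)) (p q : ℕ) [Fact p.Prime] [Fact q.Prime] (hpq : p ≠ q)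
    (hp : p ∣ Fintype.card α) (hq : q ∣ Fintype.card α) : IsSimpleGroup G := by
  have hprim : IsPreprimitive G α := isPreprimitive_of_is_two_pretransitive inferInstance
  have hnt : Nontrivial G := by
    obtain ⟨x, y, hxy⟩ := hH.toNontrivial
    exact ⟨⟨x, y, fun h => hxy (Subtype.ext h)⟩⟩
  refine ⟨fun N hN => ?_⟩
  by_cases hNbot : N = ⊥
  · left; exact hNbot
  right
  have hNt : IsPretransitive N α := S0418.pretransitive_of_normal N hNbot
  have hK : (N.subgroupOf (stabilizer G a)).Normal := inferInstance
  rcases hH.eq_bot_or_eq_top_of_normal _ hK with hbot | htop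
  · exfalso
    have hinf : ∀ n ∈ N, n • a = a → n = 1 := by
      intro n hn hna
      have h1 : (⟨n, hna⟩ : stabilizer G a) ∈ N.subgroupOf (stabilizer G a) := by
        rw [Subgroup.mem_subgroupOf]; exact hn
      rw [hbot, Subgroup.mem_bot] at h1
      exact congrArg Subtype.val h1
    have hstab : stabilizer N a = ⊥ := by
      rw [eq_bot_iff]
      intro n hn
      rw [Subgroup.mem_bot]
      apply Subtype.ext
      exact hinf n n.2 (mem_stabilizer_iff.mp hn)
    have hcardN : Nat.card N = Fintype.card α := by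
      have h1 := MulAction.index_stabilizer N a
      rw [hstab, Subgroup.index_bot, MulAction.orbit_eq_univ, Set.ncard_univ] at h1
      rw [h1, Nat.card_eq_fintype_card]
    obtain ⟨n₁, hn₁⟩ := exists_prime_orderOf_dvd_card' p (hcardN ▸ hp)
    obtain ⟨n₂, hn₂⟩ := exists_prime_orderOf_dvd_card' q (hcardN ▸ hq)
    have hp' : p.Prime := Fact.out
    have hq' : q.Prime := Fact.out
    have hn₁1 : (n₁ : G) • a ≠ a := by
      intro h
      have := hinf n₁ n₁.2 h
      have h1 : n₁ = 1 := Subtype.ext this
      rw [h1, orderOf_one] at hn₁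
      exact hp'.one_lt.ne hn₁
    have hn₂1 : (n₂ : G) • a ≠ a := by
      intro h
      have := hinf n₂ n₂.2 h
      have h1 : n₂ = 1 := Subtype.ext this
      rw [h1, orderOf_one] at hn₂
      exact hq'.one_lt.ne hn₂
    obtain ⟨g, hga, hgn⟩ := (is_two_pretransitive_iff (G := G) (α := α)).mp inferInstance
      (Ne.symm hn₁1) (Ne.symm hn₂1)
    have hm : g * n₁ * g⁻¹ ∈ N := hN.conj_mem n₁ n₁.2 g
    have hga' : g⁻¹ • a = a := by rw [inv_smul_eq_iff, hga]
    have hma : (g * n₁ * g⁻¹) • a = (n₂ : G) • a := by
      rw [mul_smul, mul_smul, hga', hgn]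
    have h5 : ((n₂ : G)⁻¹ * (g * n₁ * g⁻¹)) = 1 := by
      apply hinf _ (N.mul_mem (N.inv_mem n₂.2) hm)
      rw [mul_smul, hma, inv_smul_smul]
    have h6 : g * n₁ * g⁻¹ = n₂ := by
      rw [inv_mul_eq_one] at h5; exact h5.symm
    have h7 : orderOf (n₂ : G) = orderOf (n₁ : G) := by
      rw [← h6]
      have := MulEquiv.orderOf_eq (MulAut.conj g) (n₁ : G)
      rwa [MulAut.conj_apply] at this
    rw [Subgroup.orderOf_coe, Subgroup.orderOf_coe, hn₁, hn₂] at h7
    exact hpq h7.symm
  · have hle : stabilizer G a ≤ N := by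
      intro h hh
      have h1 : (⟨h, hh⟩ : stabilizer G a) ∈ N.subgroupOf (stabilizer G a) := by
        rw [htop]; exact Subgroup.mem_top _
      exact Subgroup.mem_subgroupOf.mp h1
    rw [eq_top_iff]
    intro g _
    obtain ⟨n, hn⟩ := MulAction.exists_smul_eq N a (g • a)
    have h1 : (n : G)⁻¹ * g ∈ stabilizer G a := by
      rw [mem_stabilizer_iff, mul_smul, inv_smul_eq_iff]
      exact hn.symm
    have h2 := N.mul_mem n.2 (hle h1)
    rwa [mul_inv_cancel_left] at h2

/-- A sharply 5-transitive group of degree 12 is simple of order 95040. -/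
theorem result {α : Type*} [Fintype α] [DecidableEq α] (hα : Fintype.card α = 12) (G : Subgroup (Equiv.Perm α)) [MulAction.IsMultiplyPretransitive G α 5] (hsharp : ∀ x : Fin 5 ↪ α, MulAction.stabilizer G x = ⊥) : Cfsg.IsM12 G := by
  classical
  have hcard : Nat.card G = 95040 := by
    rw [S0418.card_of_sharp 5 (by omega) hsharp, hα]; rfl
  have hfin : Finite G := Nat.finite_of_card_ne_zero (by omega)
  have hne : Nonempty α := Fintype.card_pos_iff.mp (by omega)
  obtain ⟨a⟩ := hne
  have h2 : IsMultiplyPretransitive G α 2 :=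
    isMultiplyPretransitive_of_le (G := G) (α := α) (m := 2) (n := 5) (by omega)
      (by rw [Nat.card_eq_fintype_card, hα]; omega)
  have h1 : IsPretransitive G α := isPretransitive_of_is_two_pretransitive
  have h4 : IsMultiplyPretransitive (stabilizer G a) (SubMulAction.ofStabilizer G a) 4 :=
    (SubMulAction.ofStabilizer.isMultiplyPretransitive (G := G) (α := α) (n := 4) (a := a)).mp
      inferInstance
  let _ : Fintype (SubMulAction.ofStabilizer G a) := Fintype.ofFinite _
  have hβ : Fintype.card (SubMulAction.ofStabilizer G a) = 11 := by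
    rw [← Nat.card_eq_fintype_card, SubMulAction.nat_card_ofStabilizer_eq,
      Nat.card_eq_fintype_card, hα]
  have hfaith : FaithfulSMul (stabilizer G a) (SubMulAction.ofStabilizer G a) :=
    faithful_stabilizer a
  have hs4 := stabilizer_sharp (G := G) a 4 hsharp
  have hH := (S0418.simple_of_sharp4 (H := stabilizer G a) (β := SubMulAction.ofStabilizer G a)
    hβ hs4).1
  have : Fact (Nat.Prime 2) := ⟨by norm_num⟩
  have : Fact (Nat.Prime 3) := ⟨by norm_num⟩
  exact ⟨simple_of_simple_stabilizer a hH 2 3 (by norm_num) (by rw [hα]; norm_num)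
    (by rw [hα]; norm_num), hcard⟩

end Cfsg.Agent.S0419
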