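import Cfsg.Statements.S0423
import Cfsg.Agent.Lib.Helper56.SchreierSims

set_option autoImplicit false
open Cfsg

namespace Cfsg.Agent.S0423

open Cfsg.Agent.Lib.Helper56

/-- Lookup in a table packed with seven bits per entry. -/
def app (T i : ℕ) : ℕ := (T >>> (7 * i)) % 128

set_option maxRecDepth 100000 in
/-- Packed image tables of the letters (even: generators, odd: their inverses). -/
def tabL : ℕ → ℕ

  | 0 => 0xc28dd5eb148c8b3072132a6d314fa2c0b861a82baf4f722e371263dd892c3811214da206849c680a5892145871f9565e252001adf5d59f26576e411c0f47847674aad9aa21aa349065572da8089852d4e6f5013f3cb20b3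

  | 1 => 0x915719f518224a442575f9a98806af7a98da820b8b84be3218ae24c32b640b70894f2d37847c70e394d60161ad2989cc024651b169691612c4f1d4e600cd5a7a4eedba2c8c8a72d102b3ac6791b8cdf8c8341f1c761602a

  | 2 => 0x7866e1d885ec008b8210e7430556aed1c08416e1c6463e0825069a908e991370f79f1f06ef09eb38c685be50c484afeeb6720539b9302d3212a5984582d7bd9b292523856a62a2b4321984a71626c154f22b98d0a7565ab

  | 3 => 0x6c51cda66f96e19c95bdda75011506609841034d8f02693b08732ddf9b664a65cf4e63755d5d180b22d2429028a3a1891f00251475309799970484f78e3017511b131bc30b3216383c49561ad63d551d07e45a20772155c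

  | 4 => 0x969a9b86316ac37b69fad513aeb5c3117c94f59d3cc72a84856b2f52b8c94aeb2fadcc7335de06eaaa33690afb0a302c468eda0d79f8928634210a03e4c595368c3851858e143c0889012286973a387a23290c040648080

  | 5 => 0x969a9b86316ac37b69fad513aeb5c3117c94f59d3cc72a84856b2f52b8c94aeb2fadcc7335de06eaaa33690afb0a302c468eda0d79f8928634210a03e4c595368c3851858e143c0889012286973a387a23290c040648080

  | 6 => 0xc0f59b55aedbaf4ea9e364aae543b9216324cd18b950a6dc09b4e855af0acc69d070cf8f6a94c7d46230bb16c3fad525c970e975fbd8b18f405891c36546a1267518e20611112e64f8a16181880224214481c10c0a68f00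

  | 7 => 0x4a99ee3509d9d392ea0b186be22e8ce5b4578fe3b85b556527701935a909f4860df159bcaa62bbb6304ec3426b4b8a6fd1ad6a54bb73eb873254e232204d203e089162688f083684a174860e841e4050c0c381891a14580

  | 8 => 0x969a9b86316ac37b69fad513aeb5c3117c94f59d3cc72a84856b2f52b8c94aeb2fadcc7335de06eaaa33690afb0a302c468eda0d79f8928634210a03e4c595368c3851858e143c0889012286973a387a23290c040648080

  | 9 => 0x969a9b86316ac37b69fad513aeb5c3117c94f59d3cc72a84856b2f52b8c94aeb2fadcc7335de06eaaa33690afb0a302c468eda0d79f8928634210a03e4c595368c3851858e143c0889012286973a387a23290c040648080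

  | 10 => 0x9919bdfb7166e372ea7c8ad060575ea56c74b659348982d616752c28c5421b6a4c18a67cb28de70aaabfbb0a9bd76f254b6a9ee49573971438601050e4479e2e343201410d1f208c6092a4d08b2438da20690b083274080

  | 11 => 0xb90e44ac0e19a9bf26745a95dac662fdcc2b29aee358b5458a18af4b82cab5568ed82e5f6adb7c3015cc8f35ebea6968ba4eda94454f27862420698287012312541a236147a41c2cf133a28d11185c8043e650160e84080

  | 12 => 0xa55a2d15b854c7736a6df5c9a0b2bd2dc3c8d89fd0892a630869e9e35752ed774dddc9b765eaf7cce13654d6c48c0a18cfb8d2ac0593929904608043e749971a483082a58603168c8a1143cd9c3c24705481d1202868080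

  | 13 => 0x893af2fb14e0ab7769d3181894c28b8f04c589acc9a529e30b93f0cb8ed6aa89addcd07afedd17cd192a6d516c8715efa786ceeae8d5928724148043e2cf0c1a092223858b833a688a11c24d95263c5180c64420288c080

  | _ => 0

set_option maxRecDepth 100000 in
/-- Transversal words: level, point. -/
def wTab : List (List (List ℕ)) :=
  [[[], [2, 1], [3, 3, 0, 0], [1, 3, 0, 3], [1, 1, 3, 1], [1, 3, 3, 0, 0], [3, 3, 1, 3, 1], [0, 0, 2, 1], [0, 3, 1, 1, 2, 0], [3, 1], [0, 0], [0, 3], [3, 1, 1, 2, 0], [1, 2, 1, 1, 3, 1], [2, 0, 2, 0], [1, 2, 2], [0, 2], [2, 0, 0, 2, 1], [2, 2, 0, 2, 0], [0, 2, 2], [1, 1], [2, 1, 1, 2, 0], [1, 1, 2, 0], [3, 0, 0, 3, 1], [3, 1, 2, 0, 0], [2, 2, 1, 1], [3, 1, 3], [2, 1, 2, 0], [0, 0, 3, 1], [1, 1, 2, 2], [3, 0, 3], [0, 2, 0, 0], [3, 1, 1, 3, 1], [3, 0], [2, 0, 2, 1], [1, 2], [3, 3, 1, 1], [3, 0, 3, 1], [3, 1, 2, 1], [0, 2, 2, 1], [1, 2, 0], [2, 2, 0, 2, 1], [1], [2], [2, 0, 2, 0, 0], [3, 3, 0, 2, 0], [3, 1, 3, 1], [1, 1, 3], [2, 0, 0], [1, 2, 0,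 2, 0], [3, 1, 1], [0], [2, 1, 2, 0, 0], [1, 1, 2, 0, 2, 0], [3, 1, 3, 3], [1, 1, 2, 1], [3, 3, 0, 3], [2, 2], [1, 3, 0], [2, 1, 3, 0], [2, 1, 3, 3], [0, 3, 0, 3], [0, 3, 0, 3, 1], [1, 3, 1], [1, 2, 1], [0, 2, 1], [1, 2, 2, 1], [1, 2, 2, 0], [2, 2, 0], [1, 3, 1, 2, 0], [2, 0, 0, 3], [3, 1, 2, 0], [0, 3, 0], [3, 0, 2, 1], [1, 3], [2, 2, 1], [0, 0, 3], [2, 2, 1, 2, 0], [3, 0, 2, 0, 2, 1], [3, 3, 1, 1, 3, 1], [2, 1, 1, 3, 1], [2, 0, 2, 2], [1, 2, 0, 0], [0, 3, 1, 3, 0], [2, 2, 1, 1, 2, 0], [3, 0, 0], [0, 3, 1, 2, 1], [3, 1, 3, 0], [0, 2, 0], [2, 1, 1, 2, 1], [0, 3, 1], [0, 2, 0, 2, 1], [3], [3, 0, 2, 0], [1, 1, 2, 0, 0], [2, 0], [2, 0, 3, 1], [3, 3], [2, 1, 1], [1, 3, 3]],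
   [[], [], [7, 7, 4, 7], [6, 6, 4, 7], [6, 4, 7, 7], [6, 6, 6, 4, 7], [4, 7, 7, 7], [7, 7, 7, 7], [4, 6, 6, 6], [4, 7, 7], [7, 4, 7, 7], [7], [4, 6, 4, 6], [6, 4, 7], [4, 7, 4, 7, 7], [7, 7], [6, 6, 4, 6], [7, 7, 7, 4, 6], [6, 6, 4, 6, 6], [4, 6], [6, 4, 6, 6, 6], [6, 6], [6, 6, 6, 6], [6, 4, 6], [6, 6, 6, 6, 6], [7, 4, 7, 4, 7], [7, 4, 7], [7, 4, 6], [4, 6, 6], [4, 7], [6], [7, 7, 4, 6], [7, 4, 6, 6], [6, 4, 6, 6], [6, 6, 6], [4, 7, 4, 7], [7, 7, 7], [], [], [], [], [], [], [], [], [], [], [], [], [], [], [], [], [], [], [], [], [], [], [], [], [], [], [], [], [], [], [], [], [], [], [], [], [], [], [], [], [], [], [], [], [], [], [], [], [], [], [], [], [], [], [], [], [], [], [], [], [], [], []],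
   [[], [], [], [], [], [], [], [], [], [], [], [], [], [], [], [], [], [], [], [], [], [], [], [], [], [], [], [], [], [], [], [], [], [], [], [], [], [], [10, 10, 10], [8, 11], [10, 8, 10, 8, 11, 11], [10, 10, 8, 11, 11], [11, 8, 11], [10, 8, 11], [11, 8, 11, 8, 10, 10], [], [10], [], [], [], [10, 10, 8, 11, 8, 10], [11, 8, 11, 8, 10], [10, 8, 10, 10], [11, 11, 8, 10], [10, 8, 10], [], [], [], [8, 10, 8, 11, 8, 10], [], [10, 10], [], [], [8, 11, 11], [8, 10], [10, 8, 11, 11, 11], [11, 11, 8, 10, 8, 11], [11, 8, 10, 10, 10], [8, 10, 8, 11, 11], [], [10, 8, 10, 10, 10], [8, 10, 8, 11], [], [8, 11, 8, 10, 8, 11], [], [8, 11, 8, 10, 10], [8, 10, 10], [10, 8, 11, 8, 10], [11, 11, 11], [11], [11, 8, 10, 8, 11], [], [10, 8, 11, 11], [], [8, 11, 11, 8, 10], [11, 8, 10], [8, 11, 11, 11], [11, 8, 11, 11, 11], [], [11, 11], [11, 8, 10, 8, 11, 8, 10], [], [11, 11, 8, 10, 10], [8, 11, 8, 10], [], [], [], [], [8, 10, 10, 10], [11, 8, 10, 10]],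
   [[], [], [], [], [], [], [], [], [], [], [], [], [], [], [], [], [], [], [12, 12], [], [], [], [], [], [], [], [12], [], [], [], [], [], [], [], [], [13], [], [], [], [], [], [], [], [], [], [], [], [], [], [], [], [], [], [], [], [], [], [], [], [], [], [], [], [], [], [], [], [], [], [], [], [], [], [], [], [], [], [], [], [], [], [], [], [], [], [], [], [], [], [], [], [], [], [], [], [], [], [], [], []]]

set_option maxRecDepth 100000 in
/-- Lower-level words of the Schreier generators: level, generator index, point. -/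
def kWTab : List (List (List (List ℕ))) :=
  [[[[], [], [4, 6, 6, 8, 10], [], [], [], [6, 4, 7, 7, 11, 11, 8, 10, 8, 11, 12, 12], [], [10, 8, 11, 11, 11, 13], [], [], [], [], [], [6, 6, 4, 6, 11, 8, 10, 8, 11, 8, 10], [], [4, 6, 6, 8, 11, 8, 10, 8, 11, 12], [6, 6, 10, 10, 8, 11, 11], [7, 7, 4, 6, 8, 10, 8, 11, 8, 10], [7, 7, 4, 7], [], [7, 7, 7, 4, 6, 8, 10, 8, 11, 8, 10], [], [7, 4, 7, 7, 10, 10, 8, 11, 11], [11, 8, 10, 8, 11, 8, 10, 12, 12], [6, 4, 7, 7, 11, 11, 8, 10, 8, 11, 12, 12], [6, 4, 6, 6], [6, 11, 8, 10, 8, 11, 8, 10, 12, 12], [], [], [], [7, 4, 6, 6, 11, 8, 11, 8, 10, 10, 13], [6, 6, 4, 6, 6, 10, 8, 10, 10, 13], [], [], [], [4, 7, 7, 7, 8, 11, 11, 8, 10, 12, 12], [], [], [4, 6, 11, 11, 8, 10, 10, 13], [], [7, 7, 4, 7, 11, 8, 10, 8, 11, 8, 10, 12, 12], [], [], [6, 6, 6, 4, 7, 11, 8, 10, 8, 11, 8, 10], [7, 7, 7, 4, 6, 11, 11, 11, 13], [7, 4, 7, 7, 10, 10, 10, 12], [], [], [], [6, 4, 7, 7, 8, 10, 10, 13], [], [4, 6, 6, 8, 11, 8, 10, 8,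 11, 13], [], [], [], [4, 6, 6, 11, 12, 12], [], [], [4, 6, 11, 8, 10, 8, 11, 8, 10], [10, 10, 8, 11, 11], [4, 7, 4, 7, 12, 12], [4, 7, 7, 7, 8, 10, 10], [], [], [], [], [], [4, 6, 4, 6, 11, 8, 10, 8, 11], [], [7, 7, 4, 7, 8, 10, 8, 11, 13], [11, 8, 10, 8, 11, 8, 10], [7], [6, 4, 6, 6, 8, 10], [], [], [], [6], [6, 6, 6, 6, 6, 8, 11, 8, 10, 12, 12], [6, 6, 6, 6, 6, 8, 11, 11, 11, 13], [4, 6, 6, 11, 12, 12], [6, 4, 6, 6, 8, 11, 8, 10, 8, 11, 13], [], [6, 11, 8, 10, 8, 11, 8, 10, 12, 12], [4, 6, 10, 8, 11, 8, 10, 12, 12], [6, 6, 4, 6, 11, 8, 11, 8, 10, 12], [6, 6, 4, 7, 11, 11, 11, 12, 12], [], [7, 7, 4, 6, 8, 10, 8, 11, 11, 12, 12], [7, 7, 4, 7, 8, 10, 8, 11, 11], [], [4, 7, 4, 7, 7, 11, 11, 13], [], [7, 4, 6, 6, 10, 8, 11, 11], [], [], [4, 7, 7, 7, 8, 11, 11, 8, 10, 12, 12], [6], [8, 11, 8, 10, 10, 13], []],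
    [[], [], [], [4, 7, 11, 8, 10, 8, 11, 8, 10], [], [11, 8, 10, 8, 11, 8, 10, 12, 12], [], [], [4, 6, 10, 8, 11, 8, 10], [], [], [11, 8, 10, 8, 11, 8, 10, 12, 12], [], [4, 6, 4, 6, 8, 10, 8, 11, 8, 10], [], [6, 6, 4, 6, 8, 11, 11, 11, 12], [12, 12], [6, 6, 4, 6], [], [], [], [], [], [], [], [], [], [], [4, 7], [11, 11, 8, 10, 10, 13], [], [], [], [], [], [10, 8, 11, 11, 11, 13], [], [], [], [11, 8, 10, 8, 11, 8, 10], [], [11, 8, 10, 8, 11, 8, 10], [], [], [6, 4, 7, 7, 8, 11, 13], [], [], [7, 4, 7, 7, 12, 12], [4, 6, 4, 6, 8, 11, 12], [4, 6, 4, 6, 8, 11, 12], [], [], [4, 6, 6, 8, 11, 8, 10, 8, 11, 13], [6, 6, 4, 6, 6, 11, 8, 10, 8, 11, 8, 10, 12, 12], [], [], [], [], [], [12, 12], [4, 7, 7, 7, 10, 8, 10, 10, 12, 12], [6, 6, 6, 11, 12, 12], [7, 7, 7, 8, 10, 8, 11, 11, 13], [7, 4, 7, 7], [4, 7, 7, 7, 8, 10, 8, 11, 11, 13], [], [11, 8, 11, 12, 12], [11, 8, 10, 8, 11, 8, 10], [12, 12], [4, 7, 11, 8, 10, 8, 11, 8, 10, 12, 12], [7, 4, 7, 7, 11, 11, 8,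 10, 10, 12, 12], [], [4, 6, 4, 6, 8, 11, 12], [], [10, 10, 8, 11, 11], [10, 8, 11, 11, 11, 13], [], [11, 8, 10, 8, 11, 8, 10], [], [], [7, 4, 7, 7, 10, 10, 8, 11, 11], [11, 8, 10, 8, 11, 8, 10, 12, 12], [], [6, 11, 8, 10, 8, 11, 8, 10, 12, 12], [7, 7, 7, 11, 8, 10, 13], [], [6, 4, 7, 7, 8, 10, 8, 11, 8, 10, 12, 12], [], [], [6, 6, 6, 6, 6, 10, 8, 11, 11, 11], [], [7, 7, 7, 8, 11, 11, 8, 10, 12, 12], [], [], [4, 7, 8, 11, 13], [], [6, 4, 6, 6, 10, 8, 11, 11, 11, 13], [], [], []]],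
   [[[], [12, 12], [11, 8, 10, 8, 11, 8, 10], [11, 8, 10, 8, 11, 8, 10, 12], [11, 8, 10, 8, 11, 8, 10, 12, 12], [10, 12, 12], [], [10, 10, 8, 11, 8, 10, 13], [], [], [], [], [], [11, 8, 10, 8, 11, 8, 10], [], [], [8, 11, 11, 11, 12], [10, 8, 11], [11, 8, 10, 8, 11, 8, 10], [], [10, 10, 10, 12], [], [10, 8, 11], [], [8, 11], [8, 10, 8, 11, 11, 12], [], [11, 8, 10, 8, 11, 8, 10, 12, 12], [], [], [], [11, 8, 10, 8, 11, 8, 10, 12], [11, 8, 10, 8, 11, 8, 10], [10, 8, 10, 10, 12], [], [], [], [], [], [], [], [], [], [], [], [], [], [], [], [], [], [], [], [], [], [], [], [], [], [], [], [], [], [], [], [], [], [], [], [], [], [], [], [], [], [], [], [], [], [], [], [], [], [], [], [], [], [], [], [], [], [], [], [], [], [], [], [], [], []],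
    [[], [], [], [], [10, 8, 11, 11, 11], [10, 8, 10, 12, 12], [10], [], [], [], [], [], [8, 11, 11, 8, 10, 13], [], [11, 11, 11], [], [11, 11, 8, 10, 13], [], [8, 11, 11, 8, 10], [], [10, 8, 11, 12, 12], [], [], [], [10, 10], [], [], [], [], [], [], [], [], [], [], [10, 10, 8, 11, 11, 12], [], [], [], [], [], [], [], [], [], [], [], [], [], [], [], [], [], [], [], [], [], [], [], [], [], [], [], [], [], [], [], [], [], [], [], [], [], [], [], [], [], [], [], [], [], [], [], [], [], [], [], [], [], [], [], [], [], [], [], [], [], [], [], []]],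
   [[[], [], [], [], [], [], [], [], [], [], [], [], [], [], [], [], [], [], [], [], [], [], [], [], [], [], [], [], [], [], [], [], [], [], [], [], [], [12, 12], [], [], [], [12], [12, 12], [], [], [], [], [], [], [], [12], [], [], [], [12, 12], [], [], [], [], [], [], [], [], [], [], [13], [13], [12], [], [], [], [], [], [], [], [], [], [], [], [], [], [], [], [], [], [], [], [], [], [], [12, 12], [], [13], [], [], [], [], [], [], []],
    [[], [], [], [], [], [], [], [], [], [], [], [], [], [], [], [], [], [], [], [], [], [], [], [], [], [], [], [], [], [], [], [], [], [], [], [], [], [], [], [], [], [12, 12], [], [13], [], [], [], [], [], [], [12, 12], [], [12, 12], [], [12], [], [], [], [], [], [], [], [], [], [], [13], [], [], [], [], [], [12, 12], [], [12], [], [13], [], [], [], [], [], [], [], [], [12], [], [], [], [], [], [], [], [], [], [], [], [], [], [], []]],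
   [[[], [], [], [], [], [], [], [], [], [], [], [], [], [], [], [], [], [], [], [], [], [], [], [], [], [], [], [], [], [], [], [], [], [], [], [], [], [], [], [], [], [], [], [], [], [], [], [], [], [], [], [], [], [], [], [], [], [], [], [], [], [], [], [], [], [], [], [], [], [], [], [], [], [], [], [], [], [], [], [], [], [], [], [], [], [], [], [], [], [], [], [], [], [], [], [], [], [], [], []]]]

/-- Generators (letters) of each level. -/
def gensTab : List (List ℕ) := [[0, 2], [4, 6], [8, 10], [12]]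

/-- Base points. -/
def baseTab : List ℕ := [0, 1, 37, 2]

/-- Words expressing the generators of a level in the letters of the previous level. -/
def genWordTab : List (List ℕ) := [[], [], [], [], [1, 2, 2, 0, 2], [], [1, 2, 0, 0, 3, 3], [], [4], [], [6, 6, 6, 6, 6, 4, 7, 7, 7], [], [10, 9, 10, 10, 10, 8, 10], []]

set_option maxRecDepth 100000 in
/-- Words of the point stabilizer mapping the point 37 to the 63 points of the second suborbit. -/
def w63Tab : List (List ℕ) := [[], [], [], [], [], [], [], [], [], [], [], [], [], [], [], [], [], [], [], [], [], [], [], [], [], [], [], [], [], [], [], [], [], [], [], [], [], [], [6, 6, 4, 6, 4, 6, 6], [4, 6, 4, 6, 4, 6, 6], [4, 7], [7, 7, 7, 7, 7], [4, 6, 4, 7, 4, 6], [7, 4, 6, 6], [6, 4, 6, 4, 7, 7], [7, 4, 6], [7, 7, 7, 7], [6, 4, 7, 7], [7, 4, 7, 4, 6, 4, 6, 6], [4, 6, 4, 7], [7, 4, 7, 4, 6, 6, 4, 6, 6], [6, 4, 7, 4, 7, 7], [6, 4, 7, 7, 4, 6, 6], [6, 6, 6], [6, 4, 7, 4, 6], [6, 4, 6, 6, 6, 6, 6],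 [4, 6, 6], [6, 6, 4, 6, 6], [4, 7, 4, 6, 4, 7], [4, 6, 6, 4, 6, 6], [4, 6, 4, 6, 6], [7, 4, 7, 4, 7, 7], [7, 4, 7, 7, 7, 7, 7], [4, 7, 4, 6, 4, 6, 6], [4, 7, 7, 7, 7], [4, 7, 7, 7, 7, 7], [4, 7, 4, 7, 4, 6, 6, 4, 6, 6], [7, 7], [6, 6, 6, 6], [4, 7, 4, 6, 6, 4, 6, 6], [7, 7, 4, 7, 7], [4, 7, 4, 6, 6], [6, 4, 6, 6, 6, 6], [6, 6, 4, 6, 4, 7, 7], [6, 6, 6, 6, 6, 6], [4, 6], [6, 4, 6, 6], [7, 4, 6, 4, 7], [4, 7, 7, 4, 6, 6], [6, 4, 6, 4, 6, 6], [4, 6, 6, 4, 6, 4, 7, 7], [4, 6, 4, 7, 7], [4, 6, 6, 6, 6], [7, 4, 7, 7], [7, 7, 7], [6, 6, 6, 6, 6], [7, 7, 4, 6, 6], [7], [4, 7, 4, 6], [7, 4, 6, 4, 6, 6], [7, 4, 6, 4, 7, 4, 6], [4, 7, 4, 7, 4, 7, 7], [4, 7, 7], [4, 6, 6, 6, 6, 6], [7, 4, 6, 6, 4, 6, 6], [6, 4, 7], [6, 6], [4, 7, 4, 7, 7], [7, 7, 4, 7, 4, 7, 7], [6]]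


/-- Evaluate a word on a point (rightmost letter acts first). -/
def evalW (w : List ℕ) (i : ℕ) : ℕ := w.foldr (fun l acc => app (tabL l) acc) i

theorem evalW_nil (i : ℕ) : evalW [] i = i := rfl

theorem evalW_cons (l : ℕ) (w : List ℕ) (i : ℕ) : evalW (l :: w) i = app (tabL l) (evalW w i) := rfl

theorem evalW_append (w w' : List ℕ) (i : ℕ) : evalW (w ++ w') i = evalW w (evalW w' i) := by
  induction w with
  | nil => rfl
  | cons l w ih => rw [List.cons_append, evalW_cons, evalW_cons, ih]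

theorem tab_valid : ∀ l < 14, ∀ i < 100,
    app (tabL l) i < 100 ∧ app (tabL (l ^^^ 1)) (app (tabL l) i) = i := by
  decide +kernel

theorem xor_one_lt : ∀ l < 14, l ^^^ 1 < 14 ∧ (l ^^^ 1) ^^^ 1 = l := by decide

/-- The permutation denoted by a letter. -/
def letterPerm (l : ℕ) : Equiv.Perm (Fin 100) :=
  if h : l < 14 then
    { toFun := fun i => ⟨app (tabL l) i, (tab_valid l h i i.2).1⟩
      invFun := fun i => ⟨app (tabL (l ^^^ 1)) i, (tab_valid (l ^^^ 1) (xor_one_lt l h).1 i i.2).1⟩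
      left_inv := fun i => Fin.ext (tab_valid l h i i.2).2
      right_inv := fun i => Fin.ext (by
        have h1 := (tab_valid (l ^^^ 1) (xor_one_lt l h).1 i i.2).2
        rw [(xor_one_lt l h).2] at h1
        exact h1) }
  else 1

theorem letterPerm_apply {l : ℕ} (h : l < 14) (i : Fin 100) :
    ((letterPerm l i : Fin 100) : ℕ) = app (tabL l) i := by
  simp [letterPerm, h]

theorem letterPerm_xor {l : ℕ} (h : l < 14) : letterPerm (l ^^^ 1) = (letterPerm l)⁻¹ := by
  refine Equiv.ext fun i => Fin.ext ?_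
  rw [letterPerm_apply (xor_one_lt l h).1]
  simp [letterPerm, h]

/-- The permutation denoted by a word. -/
def wordPerm (w : List ℕ) : Equiv.Perm (Fin 100) := evalWord letterPerm w

theorem wordPerm_nil : wordPerm [] = 1 := rfl

theorem wordPerm_cons (l : ℕ) (w : List ℕ) : wordPerm (l :: w) = letterPerm l * wordPerm w :=
  evalWord_cons _ _ _

theorem wordPerm_append (w w' : List ℕ) : wordPerm (w ++ w') = wordPerm w * wordPerm w' :=
  evalWord_append _ _ _

/-- All letters of a word lie in `[lo, hi)`. -/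
def lettersIn (lo hi : ℕ) (w : List ℕ) : Bool := w.all fun l => decide (lo ≤ l) && decide (l < hi)

theorem lettersIn_cons {lo hi l : ℕ} {w : List ℕ} (h : lettersIn lo hi (l :: w) = true) :
    lo ≤ l ∧ l < hi ∧ lettersIn lo hi w = true := by
  simp only [lettersIn, List.all_cons, Bool.and_eq_true, decide_eq_true_eq] at h
  exact ⟨h.1.1, h.1.2, h.2⟩

theorem wordPerm_apply {hi : ℕ} (hhi : hi ≤ 14) {lo : ℕ} :
    ∀ (w : List ℕ), lettersIn lo hi w = true → ∀ i : Fin 100,
      ((wordPerm w i : Fin 100) : ℕ) = evalW w i := by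
  intro w
  induction w with
  | nil => intro _ i; rfl
  | cons l w ih =>
    intro h i
    obtain ⟨_, h2, h3⟩ := lettersIn_cons h
    rw [wordPerm_cons, Equiv.Perm.mul_apply, letterPerm_apply (by omega), ih h3, evalW_cons]

/-- Two words agree on all points. -/
def sameW (w w' : List ℕ) : Bool := (List.range 100).all fun i => evalW w i == evalW w' i

theorem wordPerm_eq_of_sameW {w w' : List ℕ} {lo lo' hi hi' : ℕ} (hhi : hi ≤ 14) (hhi' : hi' ≤ 14)
    (hw : lettersIn lo hi w = true) (hw' : lettersIn lo' hi' w' = true) (h : sameW w w' = true) :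
    wordPerm w = wordPerm w' := by
  refine Equiv.ext fun i => Fin.ext ?_
  rw [wordPerm_apply hhi w hw, wordPerm_apply hhi' w' hw']
  simp only [sameW, List.all_eq_true, List.mem_range, beq_iff_eq] at h
  exact h i i.2

/-- Base point of a level. -/
def base (lev : ℕ) : ℕ := baseTab.getD lev 0

/-- First letter of a level. -/
def lo (lev : ℕ) : ℕ := [0, 4, 8, 12, 14].getD lev 14

/-- Generators of a level. -/
def gensOf (lev : ℕ) : List ℕ := gensTab.getD lev []

/-- Transversal word. -/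
def wT (lev β : ℕ) : List ℕ := (wTab.getD lev []).getD β []

/-- Lower-level word of a Schreier generator. -/
def kW (lev si β : ℕ) : List ℕ := ((kWTab.getD lev []).getD si []).getD β []

/-- Membership in the basic orbit of a level. -/
def inO (lev β : ℕ) : Bool := β == base lev || !(wT lev β).isEmpty

/-- The generating set of a level. -/
def S (lev : ℕ) : Set (Equiv.Perm (Fin 100)) := {g | ∃ s ∈ gensOf lev, g = letterPerm s}

/-- The group of a level. -/
def H (lev : ℕ) : Subgroup (Equiv.Perm (Fin 100)) := Subgroup.closure (S lev)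

theorem lo_le : ∀ lev, lo lev ≤ 14 := by
  intro lev
  unfold lo
  rcases lev with _ | _ | _ | _ | _ | lev <;> simp

theorem letter_level_aux : ∀ lev < 4, ∀ l < 14, (decide (lo lev ≤ l) && decide (l < lo (lev + 1))) = true →
    ((gensOf lev).contains l || (gensOf lev).contains (l ^^^ 1)) = true := by decide

theorem letter_level (lev : ℕ) (hlev : lev < 4) (l : ℕ) (hl : l < 14) (h1 : lo lev ≤ l)
    (h2 : l < lo (lev + 1)) : (l ∈ gensOf lev ∨ l ^^^ 1 ∈ gensOf lev) := by
  have h := letter_level_aux lev hlev l hl (by simp [h1, h2])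
  simpa using h

theorem letterPerm_mem_H {lev l : ℕ} (hlev : lev < 4) (h1 : lo lev ≤ l) (h2 : l < lo (lev + 1)) :
    letterPerm l ∈ H lev := by
  have hl : l < 14 := lt_of_lt_of_le h2 (lo_le _)
  rcases letter_level lev hlev l hl h1 h2 with h | h
  · exact Subgroup.subset_closure ⟨l, h, rfl⟩
  · have h3 : letterPerm l = (letterPerm (l ^^^ 1))⁻¹ := by
      rw [← letterPerm_xor (xor_one_lt l hl).1, (xor_one_lt l hl).2]
    rw [h3]
    exact (H lev).inv_mem (Subgroup.subset_closure ⟨l ^^^ 1, h, rfl⟩)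

theorem lettersIn_forall {lo' hi : ℕ} {w : List ℕ} (h : lettersIn lo' hi w = true) :
    ∀ l ∈ w, lo' ≤ l ∧ l < hi := by
  intro l hl
  simp only [lettersIn, List.all_eq_true, Bool.and_eq_true, decide_eq_true_eq] at h
  exact h l hl

theorem wordPerm_mem_H {lev : ℕ} (hlev : lev < 4) {w : List ℕ}
    (h : lettersIn (lo lev) (lo (lev + 1)) w = true) : wordPerm w ∈ H lev := by
  apply evalWord_mem
  intro l hl
  obtain ⟨h1, h2⟩ := lettersIn_forall h l hl
  exact letterPerm_mem_H hlev h1 h2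

/-- Certificate: the generators of level `lev + 1` are words in the letters of level `lev` and fix
the base point of level `lev`. -/
def genOK (lev : ℕ) : Bool :=
  (gensOf (lev + 1)).all fun g =>
    lettersIn (lo lev) (lo (lev + 1)) (genWordTab.getD g []) &&
      sameW [g] (genWordTab.getD g []) && (app (tabL g) (base lev) == base lev) &&
      decide (g < 14)

theorem H_succ_le {lev : ℕ} (hlev : lev < 4) (h : genOK lev = true) : H (lev + 1) ≤ H lev := by
  unfold H
  rw [Subgroup.closure_le]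
  rintro _ ⟨g, hg, rfl⟩
  simp only [genOK, List.all_eq_true, Bool.and_eq_true, decide_eq_true_eq, beq_iff_eq] at h
  obtain ⟨⟨⟨h1, h2⟩, _⟩, h4⟩ := h g hg
  have h5 : wordPerm [g] = wordPerm (genWordTab.getD g []) :=
    wordPerm_eq_of_sameW (lo := g) (hi := 14) le_rfl (lo_le _) (by simp [lettersIn, h4]) h1 h2
  have h6 : wordPerm [g] = letterPerm g := by
    rw [wordPerm_cons, wordPerm_nil, mul_one]
  rw [SetLike.mem_coe, ← h6, h5]
  exact wordPerm_mem_H hlev h1

theorem H_succ_fix {lev : ℕ} (hb : base lev < 100) (h : genOK lev = true) :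
    ∀ k ∈ H (lev + 1), k ⟨base lev, hb⟩ = ⟨base lev, hb⟩ := by
  have hle : H (lev + 1) ≤ MulAction.stabilizer (Equiv.Perm (Fin 100)) (⟨base lev, hb⟩ : Fin 100) := by
    unfold H
    rw [Subgroup.closure_le]
    rintro _ ⟨g, hg, rfl⟩
    simp only [genOK, List.all_eq_true, Bool.and_eq_true, decide_eq_true_eq, beq_iff_eq] at h
    obtain ⟨⟨_, h3⟩, h4⟩ := h g hg
    rw [SetLike.mem_coe, MulAction.mem_stabilizer_iff]
    apply Fin.ext
    rw [Equiv.Perm.smul_def, letterPerm_apply h4]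
    exact h3
  intro k hk
  exact MulAction.mem_stabilizer_iff.mp (hle hk)

/-- Certificate: transversal words of a level. -/
def transOK (lev : ℕ) : Bool :=
  (wT lev (base lev)).isEmpty && decide (base lev < 100) &&
  (List.range 100).all fun β =>
    !(inO lev β) ||
      (lettersIn (lo lev) (lo (lev + 1)) (wT lev β) && (evalW (wT lev β) (base lev) == β))

/-- Certificate: Schreier generators of a level. -/
def stepOK (lev : ℕ) : Bool :=
  (List.range (gensOf lev).length).all fun si =>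
    (List.range 100).all fun β =>
      !(inO lev β) ||
        (inO lev (app (tabL ((gensOf lev).getD si 0)) β) &&
          lettersIn (lo (lev + 1)) 14 (kW lev si β) &&
          decide ((gensOf lev).getD si 0 < lo (lev + 1)) && decide (lo lev ≤ (gensOf lev).getD si 0) &&
          sameW ((gensOf lev).getD si 0 :: wT lev β)
            (wT lev (app (tabL ((gensOf lev).getD si 0)) β) ++ kW lev si β))

/-- The basic orbit of a level. -/
def orb (lev : ℕ) : Set (Fin 100) := {β | inO lev β = true}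

theorem lettersIn_mono {a b a' b' : ℕ} (ha : a' ≤ a) (hb : b ≤ b') {w : List ℕ}
    (h : lettersIn a b w = true) : lettersIn a' b' w = true := by
  simp only [lettersIn, List.all_eq_true, Bool.and_eq_true, decide_eq_true_eq] at h ⊢
  intro l hl
  obtain ⟨h1, h2⟩ := h l hl
  exact ⟨by omega, by omega⟩

theorem lettersIn_append {a b : ℕ} {w w' : List ℕ} (h : lettersIn a b w = true)
    (h' : lettersIn a b w' = true) : lettersIn a b (w ++ w') = true := by
  simp only [lettersIn, List.all_append, Bool.and_eq_true] at h h' ⊢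
  exact ⟨h, h'⟩

theorem lo_mono : ∀ lev, lo lev ≤ lo (lev + 1) := by
  intro lev
  unfold lo
  rcases lev with _ | _ | _ | _ | _ | lev <;> simp

/-- Words in the letters of deeper levels lie in the group of the next level. -/
theorem wordPerm_mem_H_deep (hg : ∀ j < 3, genOK j = true) :
    ∀ lev < 4, ∀ w : List ℕ, lettersIn (lo lev) 14 w = true → wordPerm w ∈ H lev := by
  have h32 : H 3 ≤ H 2 := H_succ_le (by decide) (hg 2 (by decide))
  have h21 : H 2 ≤ H 1 := H_succ_le (by decide) (hg 1 (by decide))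
  have h10 : H 1 ≤ H 0 := H_succ_le (by decide) (hg 0 (by decide))
  have key : ∀ lev < 4, ∀ l, lo lev ≤ l → l < 14 → letterPerm l ∈ H lev := by
    intro lev hlev l h1 h2
    have hcase : (l < 4) ∨ (4 ≤ l ∧ l < 8) ∨ (8 ≤ l ∧ l < 12) ∨ (12 ≤ l ∧ l < 14) := by omega
    have m0 : l < 4 → letterPerm l ∈ H 0 := fun h =>
      letterPerm_mem_H (lev := 0) (by decide) (by simp [lo]) (by simpa [lo] using h)
    have m1 : 4 ≤ l → l < 8 → letterPerm l ∈ H 1 := fun h h' =>
      letterPerm_mem_H (lev := 1) (by decide) (by simpa [lo] using h) (by simpa [lo] using h')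
    have m2 : 8 ≤ l → l < 12 → letterPerm l ∈ H 2 := fun h h' =>
      letterPerm_mem_H (lev := 2) (by decide) (by simpa [lo] using h) (by simpa [lo] using h')
    have m3 : 12 ≤ l → l < 14 → letterPerm l ∈ H 3 := fun h h' =>
      letterPerm_mem_H (lev := 3) (by decide) (by simpa [lo] using h) (by simpa [lo] using h')
    interval_cases lev
    · rcases hcase with h | ⟨h, h'⟩ | ⟨h, h'⟩ | ⟨h, h'⟩
      · exact m0 h
      · exact h10 (m1 h h')
      · exact h10 (h21 (m2 h h'))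
      · exact h10 (h21 (h32 (m3 h h')))
    · have : 4 ≤ l := by simpa [lo] using h1
      rcases hcase with h | ⟨h, h'⟩ | ⟨h, h'⟩ | ⟨h, h'⟩
      · omega
      · exact m1 h h'
      · exact h21 (m2 h h')
      · exact h21 (h32 (m3 h h'))
    · have : 8 ≤ l := by simpa [lo] using h1
      rcases hcase with h | ⟨h, h'⟩ | ⟨h, h'⟩ | ⟨h, h'⟩
      · omega
      · omega
      · exact m2 h h'
      · exact h32 (m3 h h')
    · have : 12 ≤ l := by simpa [lo] using h1
      rcases hcase with h | ⟨h, h'⟩ | ⟨h, h'⟩ | ⟨h, h'⟩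
      · omega
      · omega
      · omega
      · exact m3 h h'
  intro lev hlev w hw
  apply evalWord_mem
  intro l hl
  obtain ⟨h1, h2⟩ := lettersIn_forall hw l hl
  exact key lev hlev l h1 h2

theorem H_four : H 4 = ⊥ := by
  unfold H S
  have : gensOf 4 = [] := by decide
  rw [this]
  simp

theorem level_card (hg : ∀ j < 3, genOK j = true) {lev : ℕ} (hlev : lev < 4)
    (ht : transOK lev = true) (hs : stepOK lev = true) :
    Nat.card (H lev) = Nat.card (orb lev) * Nat.card (H (lev + 1)) := by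
  simp only [transOK, Bool.and_eq_true, decide_eq_true_eq, List.all_eq_true, List.mem_range,
    Bool.or_eq_true, Bool.not_eq_eq_eq_not, Bool.not_true, beq_iff_eq, List.isEmpty_iff] at ht
  obtain ⟨⟨ht1, hb⟩, ht2⟩ := ht
  have hgen : lev < 3 → genOK lev = true := fun h => hg lev h
  have hK1 : H (lev + 1) ≤ H lev := by
    by_cases h3 : lev < 3
    · exact H_succ_le hlev (hgen h3)
    · have : lev = 3 := by omega
      subst this
      rw [H_four]; exact bot_le
  have hK2 : ∀ k ∈ H (lev + 1), k • (⟨base lev, hb⟩ : Fin 100) = ⟨base lev, hb⟩ := by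
    by_cases h3 : lev < 3
    · exact H_succ_fix hb (hgen h3)
    · have : lev = 3 := by omega
      subst this
      intro k hk
      rw [H_four, Subgroup.mem_bot] at hk
      rw [hk, one_smul]
  refine chain_card (S lev) (H (lev + 1)) (⟨base lev, hb⟩ : Fin 100) (orb lev)
    (fun β => wordPerm (wT lev β)) ?_ ?_ ?_ ?_ hK1 hK2
  · show inO lev (base lev) = true
    simp [inO]
  · show wordPerm (wT lev (base lev)) = 1
    rw [ht1]; rfl
  · intro β hβ
    have hβ' : inO lev β = true := hβ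
    rcases ht2 β β.2 with h | ⟨h1, h2⟩
    · rw [hβ'] at h; exact absurd h (by simp)
    · refine ⟨wordPerm_mem_H hlev h1, ?_⟩
      apply Fin.ext
      rw [Equiv.Perm.smul_def, wordPerm_apply (lo_le _) _ h1]
      exact h2
  · rintro _ ⟨g, hg', rfl⟩ β hβ
    have hβ' : inO lev β = true := hβ
    obtain ⟨si, hsi, hgsi⟩ := List.getElem_of_mem hg'
    have hgD : (gensOf lev).getD si 0 = g := by
      rw [List.getD_eq_getElem _ _ hsi, hgsi]
    simp only [stepOK, List.all_eq_true, List.mem_range, Bool.or_eq_true, Bool.not_eq_eq_eq_not,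
      Bool.not_true, Bool.and_eq_true, decide_eq_true_eq] at hs
    rcases hs si hsi β β.2 with h | ⟨⟨⟨⟨h1, h2⟩, h3⟩, h3'⟩, h4⟩
    · rw [hβ'] at h; exact absurd h (by simp)
    · rw [hgD] at h1 h3 h3' h4
      have hg14 : g < 14 := lt_of_lt_of_le h3 (lo_le _)
      have hval : ((letterPerm g β : Fin 100) : ℕ) = app (tabL g) β := letterPerm_apply hg14 β
      have hlw : lettersIn (lo lev) (lo (lev + 1)) (wT lev β) = true := by
        rcases ht2 β β.2 with h | ⟨h1', _⟩
        · rw [hβ'] at h; exact absurd h (by simp)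
        · exact h1'
      have hlw' : lettersIn (lo lev) (lo (lev + 1)) (wT lev (app (tabL g) β)) = true := by
        have hlt : app (tabL g) β < 100 := by rw [← hval]; exact (letterPerm g β).2
        rcases ht2 _ hlt with h | ⟨h1', _⟩
        · rw [h1] at h; exact absurd h (by simp)
        · exact h1'
      refine ⟨?_, wordPerm (kW lev si β), ?_, ?_⟩
      · show inO lev ((letterPerm g • β : Fin 100) : ℕ) = true
        rw [Equiv.Perm.smul_def, hval]; exact h1
      · by_cases h3lev : lev < 3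
        · exact wordPerm_mem_H_deep hg (lev + 1) (by omega) _ h2
        · have hl3 : lev = 3 := by omega
          subst hl3
          have hnil : kW 3 si β = [] := by
            cases hk : kW 3 si β with
            | nil => rfl
            | cons l w =>
              rw [hk] at h2
              obtain ⟨ha, hb', _⟩ := lettersIn_cons h2
              simp [lo] at ha
              omega
          rw [hnil]
          exact one_mem _
      · show letterPerm g * wordPerm (wT lev β) =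
          wordPerm (wT lev ((letterPerm g • β : Fin 100) : ℕ)) * wordPerm (kW lev si β)
        rw [Equiv.Perm.smul_def, hval, ← wordPerm_cons, ← wordPerm_append]
        refine wordPerm_eq_of_sameW (lo := lo lev) (hi := lo (lev + 1)) (lo' := lo lev) (hi' := 14)
          (lo_le _) le_rfl ?_ ?_ h4
        · simp only [lettersIn, List.all_cons, Bool.and_eq_true, decide_eq_true_eq]
          exact ⟨⟨h3', h3⟩, by simpa [lettersIn] using hlw⟩
        · exact lettersIn_append (lettersIn_mono le_rfl (lo_le _) hlw')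
            (lettersIn_mono (lo_mono lev) le_rfl h2)

theorem genOK_all : ∀ j < 3, genOK j = true := by decide +kernel

theorem transOK_all : ∀ lev < 4, transOK lev = true := by decide +kernel

theorem stepOK_all : ∀ lev < 4, stepOK lev = true := by decide +kernel

theorem card_orb (lev : ℕ) : Nat.card (orb lev) = ((List.range 100).filter (inO lev)).length := by
  have h1 : Nat.card (orb lev) = Fintype.card {β : Fin 100 // inO lev β = true} := by
    rw [← Nat.card_eq_fintype_card]; rfl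
  rw [h1, Fintype.card_subtype, ← List.toFinset_card_of_nodup
    (List.Nodup.filter _ (List.nodup_range (n := 100)))]
  apply Finset.card_bij (fun (β : Fin 100) _ => (β : ℕ))
  · intro β hβ
    simp only [Finset.mem_filter, Finset.mem_univ, true_and] at hβ
    simp only [List.mem_toFinset, List.mem_filter, List.mem_range]
    exact ⟨β.2, hβ⟩
  · intro a _ b _ h
    exact Fin.ext h
  · intro b hb
    simp only [List.mem_toFinset, List.mem_filter, List.mem_range] at hb
    exact ⟨⟨b, hb.1⟩, by simp [hb.2], rfl⟩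

theorem orb_sizes : ((List.range 100).filter (inO 0)).length = 100 ∧
    ((List.range 100).filter (inO 1)).length = 36 ∧
    ((List.range 100).filter (inO 2)).length = 42 ∧
    ((List.range 100).filter (inO 3)).length = 4 := by decide +kernel

theorem card_H0 : Nat.card (H 0) = 604800 := by
  have h0 := level_card genOK_all (lev := 0) (by decide) (transOK_all 0 (by decide))
    (stepOK_all 0 (by decide))
  have h1 := level_card genOK_all (lev := 1) (by decide) (transOK_all 1 (by decide))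
    (stepOK_all 1 (by decide))
  have h2 := level_card genOK_all (lev := 2) (by decide) (transOK_all 2 (by decide))
    (stepOK_all 2 (by decide))
  have h3 := level_card genOK_all (lev := 3) (by decide) (transOK_all 3 (by decide))
    (stepOK_all 3 (by decide))
  rw [card_orb, orb_sizes.1] at h0
  rw [card_orb, orb_sizes.2.1] at h1
  rw [card_orb, orb_sizes.2.2.1] at h2
  rw [card_orb, orb_sizes.2.2.2, H_four, Subgroup.card_bot] at h3
  rw [h0, h1, h2, h3]

/-! ### Simplicity -/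

/-- Certificate for the second suborbit: words of level 1 mapping the point `37` to the 63 points
outside the first suborbit. -/
def w63OK : Bool :=
  (List.range 100).all fun β =>
    (β == 0) || inO 1 β ||
      (lettersIn (lo 1) (lo 2) (w63Tab.getD β []) && (evalW (w63Tab.getD β []) 37 == β))

theorem w63OK_true : w63OK = true := by decide +kernel

theorem misc_checks : (∀ β < 100, inO 0 β = true) ∧ inO 1 0 = false ∧ inO 1 37 = false ∧
    sameW [0, 0, 0, 0, 0] [] = true ∧ sameW [2, 2, 2, 2, 2] [] = true := by decide +kernel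

/-- If `p ^ k` divides the order of a normal subgroup but `p ^ (k + 1)` does not divide the order
of the group, the normal subgroup contains every element of order `p`. -/
theorem mem_normal_of_pow_eq_one {G : Type*} [Group G] [Finite G] (N : Subgroup G) [N.Normal]
    (p k : ℕ) (hp : p.Prime) (hpN : p ^ k ∣ Nat.card N) (hpG : ¬ p ^ (k + 1) ∣ Nat.card G)
    (a : G) (ha : a ^ p = 1) : a ∈ N := by
  have hcard : Nat.card G = Nat.card (G ⧸ N) * Nat.card N :=
    Subgroup.card_eq_card_quotient_mul_card_subgroup N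
  have hcop : Nat.Coprime p (Nat.card (G ⧸ N)) := by
    rw [hp.coprime_iff_not_dvd]
    intro hdvd
    apply hpG
    rw [hcard, pow_succ, mul_comm (p ^ k) p]
    exact Nat.mul_dvd_mul hdvd hpN
  have h1 : (QuotientGroup.mk a : G ⧸ N) ^ p = 1 := by
    rw [← QuotientGroup.mk_pow, ha]; rfl
  have h2 : (QuotientGroup.mk a : G ⧸ N) ^ Nat.card (G ⧸ N) = 1 := pow_card_eq_one'
  have h3 := pow_gcd_eq_one.mpr ⟨h1, h2⟩
  rw [Nat.Coprime.gcd_eq_one hcop, pow_one] at h3
  exact (QuotientGroup.eq_one_iff a).mp h3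

/-- The base point `0`. -/
def b0 : Fin 100 := ⟨0, by decide⟩

theorem transT (lev : ℕ) (hlev : lev < 4) (β : Fin 100) (hβ : inO lev β = true) :
    wordPerm (wT lev β) ∈ H lev ∧ ∃ hb : base lev < 100, wordPerm (wT lev β) ⟨base lev, hb⟩ = β := by
  have ht := transOK_all lev hlev
  simp only [transOK, Bool.and_eq_true, decide_eq_true_eq, List.all_eq_true, List.mem_range,
    Bool.or_eq_true, Bool.not_eq_eq_eq_not, Bool.not_true, beq_iff_eq, List.isEmpty_iff] at ht
  obtain ⟨⟨_, hb⟩, ht2⟩ := ht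
  rcases ht2 β β.2 with h | ⟨h1, h2⟩
  · rw [hβ] at h; exact absurd h (by simp)
  · refine ⟨wordPerm_mem_H hlev h1, hb, ?_⟩
    apply Fin.ext
    rw [wordPerm_apply (lo_le _) _ h1]
    exact h2

theorem H1_le_H0 : H 1 ≤ H 0 := H_succ_le (by decide) (genOK_all 0 (by decide))

theorem H1_fix : ∀ k ∈ H 1, k b0 = b0 :=
  H_succ_fix (lev := 0) (by decide) (genOK_all 0 (by decide))

/-- The point stabilizer is transitive on the first suborbit. -/
theorem H1_trans_delta (d e : Fin 100) (hd : inO 1 d = true) (he : inO 1 e = true) :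
    ∃ h ∈ H 1, h d = e := by
  obtain ⟨h1, hb, h2⟩ := transT 1 (by decide) d hd
  obtain ⟨h3, _, h4⟩ := transT 1 (by decide) e he
  refine ⟨wordPerm (wT 1 e) * (wordPerm (wT 1 d))⁻¹, (H 1).mul_mem h3 ((H 1).inv_mem h1), ?_⟩
  have h5 : (wordPerm (wT 1 d))⁻¹ d = ⟨base 1, hb⟩ := Equiv.Perm.inv_eq_iff_eq.mpr h2.symm
  rw [Equiv.Perm.mul_apply, h5]
  exact h4

theorem w63T (β : Fin 100) (h0 : β ≠ b0) (hβ : inO 1 β = false) :
    wordPerm (w63Tab.getD β []) ∈ H 1 ∧ wordPerm (w63Tab.getD β []) ⟨37, by decide⟩ = β := by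
  have h := w63OK_true
  simp only [w63OK, List.all_eq_true, List.mem_range, Bool.or_eq_true, beq_iff_eq,
    Bool.and_eq_true] at h
  rcases h β β.2 with (h | h) | ⟨h1, h2⟩
  · exact absurd (Fin.ext h) h0
  · rw [hβ] at h; exact absurd h (by simp)
  · refine ⟨wordPerm_mem_H (lev := 1) (by decide) h1, ?_⟩
    apply Fin.ext
    rw [wordPerm_apply (lo_le _) _ h1]
    exact h2

/-- The point stabilizer is transitive on the second suborbit. -/
theorem H1_trans_gamma (d e : Fin 100) (hd0 : d ≠ b0) (he0 : e ≠ b0) (hd : inO 1 d = false)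
    (he : inO 1 e = false) : ∃ h ∈ H 1, h d = e := by
  obtain ⟨h1, h2⟩ := w63T d hd0 hd
  obtain ⟨h3, h4⟩ := w63T e he0 he
  refine ⟨wordPerm (w63Tab.getD e []) * (wordPerm (w63Tab.getD d []))⁻¹,
    (H 1).mul_mem h3 ((H 1).inv_mem h1), ?_⟩
  have h5 : (wordPerm (w63Tab.getD d []))⁻¹ d = ⟨37, by decide⟩ :=
    Equiv.Perm.inv_eq_iff_eq.mpr h2.symm
  rw [Equiv.Perm.mul_apply, h5]
  exact h4

theorem H0_trans (β : Fin 100) : ∃ g ∈ H 0, g b0 = β := by
  obtain ⟨h1, _, h2⟩ := transT 0 (by decide) β (misc_checks.1 β β.2)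
  exact ⟨_, h1, h2⟩

theorem x_pow : letterPerm 0 ^ 5 = 1 := by
  have h : wordPerm [0, 0, 0, 0, 0] = wordPerm [] :=
    wordPerm_eq_of_sameW (lo := 0) (hi := 14) (lo' := 0) (hi' := 14) le_rfl le_rfl (by decide)
      (by decide) misc_checks.2.2.2.1
  simpa [wordPerm_cons, wordPerm_nil, pow_succ, mul_assoc] using h

theorem y_pow : letterPerm 2 ^ 5 = 1 := by
  have h : wordPerm [2, 2, 2, 2, 2] = wordPerm [] :=
    wordPerm_eq_of_sameW (lo := 0) (hi := 14) (lo' := 0) (hi' := 14) le_rfl le_rfl (by decide)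
      (by decide) misc_checks.2.2.2.2
  simpa [wordPerm_cons, wordPerm_nil, pow_succ, mul_assoc] using h

theorem H0_eq : H 0 = Subgroup.closure {letterPerm 0, letterPerm 2} := by
  unfold H S
  congr 1
  ext g
  have : gensOf 0 = [0, 2] := by decide
  rw [this]
  simp

theorem cls_card : ∀ t : Bool,
    (Finset.univ.filter (fun c : Fin 100 => c = b0 ∨ inO 1 c = t)).card = if t then 37 else 64 := by
  decide +kernel

instance pretransitive_H0 : MulAction.IsPretransitive ↥(H 0) (Fin 100) := by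
  refine ⟨fun a b => ?_⟩
  obtain ⟨g, hg, hga⟩ := H0_trans a
  obtain ⟨g', hg', hgb⟩ := H0_trans b
  refine ⟨⟨g' * g⁻¹, (H 0).mul_mem hg' ((H 0).inv_mem hg)⟩, ?_⟩
  show (g' * g⁻¹) a = b
  have h5 : g⁻¹ a = b0 := Equiv.Perm.inv_eq_iff_eq.mpr hga.symm
  rw [Equiv.Perm.mul_apply, h5, hgb]

theorem simple_H0 : IsSimpleGroup ↥(H 0) := by
  have hnt : Nontrivial ↥(H 0) := by
    apply Finite.one_lt_card_iff_nontrivial.mp
    rw [card_H0]; norm_num
  refine ⟨fun N hN => ?_⟩
  by_cases hN1 : N = ⊥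
  · exact Or.inl hN1
  right
  -- an element of `N` moving the base point
  obtain ⟨n0, hn0N, hn0⟩ : ∃ n ∈ N, ((n : ↥(H 0)) : Equiv.Perm (Fin 100)) b0 ≠ b0 := by
    obtain ⟨⟨n, hn⟩, hn1⟩ := (Subgroup.ne_bot_iff_exists_ne_one (H := N)).mp hN1
    have hn1' : (n : Equiv.Perm (Fin 100)) ≠ 1 := by
      intro h
      apply hn1
      apply Subtype.ext
      apply Subtype.ext
      exact h
    have : ∃ c, (n : Equiv.Perm (Fin 100)) c ≠ c := by
      by_contra hcon
      push Not at hcon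
      exact hn1' (Equiv.ext hcon)
    obtain ⟨c, hc⟩ := this
    obtain ⟨g, hg, hgc⟩ := H0_trans c
    refine ⟨(⟨g, hg⟩ : ↥(H 0))⁻¹ * n * (⟨g, hg⟩ : ↥(H 0)), ?_, ?_⟩
    · have := hN.conj_mem n hn (⟨g, hg⟩ : ↥(H 0))⁻¹
      rwa [inv_inv] at this
    · show (g⁻¹ * (n : Equiv.Perm (Fin 100)) * g) b0 ≠ b0
      rw [Equiv.Perm.mul_apply, Equiv.Perm.mul_apply, hgc]
      intro h
      rw [Equiv.Perm.inv_eq_iff_eq, hgc] at h
      exact hc h
  set O : Set (Fin 100) := MulAction.orbit ↥N b0 with hO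
  have hmem : ∀ c, c ∈ O ↔ ∃ n ∈ N, ((n : ↥(H 0)) : Equiv.Perm (Fin 100)) b0 = c := by
    intro c
    rw [hO, MulAction.mem_orbit_iff]
    constructor
    · rintro ⟨⟨n, hn⟩, h⟩
      exact ⟨n, hn, h⟩
    · rintro ⟨n, hn, h⟩
      exact ⟨⟨n, hn⟩, h⟩
  have hb0O : b0 ∈ O := MulAction.mem_orbit_self b0
  have hblock : MulAction.IsBlock ↥(H 0) O := MulAction.IsBlock.orbit_of_normal b0
  have hdvd : O.ncard ∣ 100 := by
    have := hblock.ncard_dvd_card ⟨b0, hb0O⟩
    simpa using this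
  -- invariance under the point stabilizer
  have hinv : ∀ h ∈ H 1, ∀ c ∈ O, h c ∈ O := by
    intro h hh c hc
    obtain ⟨n, hn, hnc⟩ := (hmem c).mp hc
    have hh0 : h ∈ H 0 := H1_le_H0 hh
    refine (hmem _).mpr ⟨(⟨h, hh0⟩ : ↥(H 0)) * n * (⟨h, hh0⟩ : ↥(H 0))⁻¹,
      hN.conj_mem n hn _, ?_⟩
    show (h * (n : Equiv.Perm (Fin 100)) * h⁻¹) b0 = h c
    have h5 : h⁻¹ b0 = b0 := Equiv.Perm.inv_eq_iff_eq.mpr (H1_fix h hh).symm
    rw [Equiv.Perm.mul_apply, Equiv.Perm.mul_apply, h5, hnc]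
  have hcls : ∀ d ∈ O, d ≠ b0 → ∀ e, e ≠ b0 → inO 1 e = inO 1 d → e ∈ O := by
    intro d hd hd0 e he0 hde
    cases hcase : inO 1 (d : ℕ) with
    | true =>
      rw [hcase] at hde
      obtain ⟨h, hh, hhd⟩ := H1_trans_delta d e hcase hde
      rw [← hhd]; exact hinv h hh d hd
    | false =>
      rw [hcase] at hde
      obtain ⟨h, hh, hhd⟩ := H1_trans_gamma d e hd0 he0 hcase hde
      rw [← hhd]; exact hinv h hh d hd
  have hd0O : ((n0 : ↥(H 0)) : Equiv.Perm (Fin 100)) b0 ∈ O := (hmem _).mpr ⟨n0, hn0N, rfl⟩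
  -- the orbit is everything
  have hOuniv : ∀ c, c ∈ O := by
    by_contra hcon
    push Not at hcon
    obtain ⟨e, heO⟩ := hcon
    have he0 : e ≠ b0 := fun h => heO (h ▸ hb0O)
    set d := ((n0 : ↥(H 0)) : Equiv.Perm (Fin 100)) b0 with hd
    have hne : inO 1 (e : ℕ) ≠ inO 1 (d : ℕ) := fun h => heO (hcls d hd0O hn0 e he0 h)
    have hOeq : O = ↑(Finset.univ.filter (fun c : Fin 100 => c = b0 ∨ inO 1 c = inO 1 (d : ℕ))) := by
      ext c
      simp only [Finset.coe_filter, Finset.mem_univ, true_and, Set.mem_ofPred_eq]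
      constructor
      · intro hc
        by_cases hc0 : c = b0
        · exact Or.inl hc0
        · right
          by_contra hcd
          have : inO 1 (e : ℕ) = inO 1 (c : ℕ) := by
            cases h1 : inO 1 (e : ℕ) <;> cases h2 : inO 1 (c : ℕ) <;> cases h3 : inO 1 (d : ℕ) <;>
              simp_all
          exact heO (hcls c hc hc0 e he0 this)
      · rintro (hc | hc)
        · rw [hc]; exact hb0O
        · by_cases hc0 : c = b0
          · rw [hc0]; exact hb0O
          · exact hcls d hd0O hn0 c hc0 hc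
    rw [hOeq, Set.ncard_coe_finset, cls_card] at hdvd
    cases h3 : inO 1 (d : ℕ) <;> rw [h3] at hdvd <;> norm_num at hdvd
  -- `N` is transitive, so `100 ∣ |N|`
  have h100 : 100 ∣ Nat.card N := by
    have h1 : (MulAction.stabilizer ↥N b0).index = O.ncard := MulAction.index_stabilizer ↥N b0
    have h2 : O = Set.univ := Set.eq_univ_of_forall hOuniv
    rw [h2, Set.ncard_univ, Nat.card_eq_fintype_card, Fintype.card_fin] at h1
    have h3 := Subgroup.index_dvd_card (MulAction.stabilizer ↥N b0)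
    rwa [h1] at h3
  have h25 : 5 ^ 2 ∣ Nat.card N := Dvd.dvd.trans (by norm_num) h100
  have h125 : ¬ 5 ^ (2 + 1) ∣ Nat.card ↥(H 0) := by rw [card_H0]; norm_num
  have hx0 : letterPerm 0 ∈ H 0 := by
    rw [H0_eq]; exact Subgroup.subset_closure (by simp)
  have hy0 : letterPerm 2 ∈ H 0 := by
    rw [H0_eq]; exact Subgroup.subset_closure (by simp)
  have hxN : (⟨letterPerm 0, hx0⟩ : ↥(H 0)) ∈ N :=
    mem_normal_of_pow_eq_one N 5 2 (by norm_num) h25 h125 _ (Subtype.ext x_pow)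
  have hyN : (⟨letterPerm 2, hy0⟩ : ↥(H 0)) ∈ N :=
    mem_normal_of_pow_eq_one N 5 2 (by norm_num) h25 h125 _ (Subtype.ext y_pow)
  have hle : H 0 ≤ N.map (H 0).subtype := by
    have hcl : Subgroup.closure {letterPerm 0, letterPerm 2} ≤ N.map (H 0).subtype := by
      rw [Subgroup.closure_le]
      rintro g (rfl | rfl)
      · exact ⟨_, hxN, rfl⟩
      · exact ⟨_, hyN, rfl⟩
    exact le_trans (le_of_eq H0_eq) hcl
  rw [eq_top_iff]
  intro g _
  obtain ⟨g', hg', hgg'⟩ := hle g.2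
  have : g' = g := Subtype.ext hgg'
  rwa [← this]

/-- Existence of a simple group of order 604800. -/
theorem result : ∃ G : Subgroup (Equiv.Perm (Fin 100)), Cfsg.IsJ2 G := by
  exact ⟨H 0, simple_H0, card_H0⟩

end Cfsg.Agent.S0423
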