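import Cfsg.Statements.S0426
import Cfsg.Agent.Lib.Helper61.M11Group

set_option autoImplicit false
open Cfsg

namespace Cfsg.Agent.S0426

open Cfsg.Agent.Lib.Helper61.M11Aut Cfsg.Agent.Lib.Helper7

section Transport

variable {α : Type*} [DecidableEq α] {B : Set (Finset α)} (e : α ≃ Fin 11)
  (he : (fun b : Finset α => b.image e) '' B = Bref)

include he

theorem permCongr_mem_iff (g : Equiv.Perm α) :
    e.permCongr g ∈ setSystemAut Bref ↔ g ∈ setSystemAut B := by
  rw [mem_aut_iff, mem_aut_iff]
  have key : ∀ b : Finset α, (b.image e).image (e.permCongr g) = (b.image g).image e := by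
    intro b
    rw [Finset.image_image, Finset.image_image]
    congr 1
    funext a
    simp [Equiv.permCongr_apply]
  have hinj : Function.Injective (fun b : Finset α => b.image e) :=
    Finset.image_injective e.injective
  constructor
  · intro h
    rw [← he, Set.image_image] at h
    simp only [key] at h
    rw [← Set.image_image (fun b : Finset α => b.image e) (fun b : Finset α => b.image g)] at h
    exact hinj.image_injective h
  · intro h
    rw [← he, Set.image_image]
    simp only [key]
    rw [← Set.image_image (fun b : Finset α => b.image e) (fun b : Finset α => b.image g), h]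

/-- The induced isomorphism of automorphism groups. -/
noncomputable def autEquiv : setSystemAut B ≃* setSystemAut Bref where
  toFun g := ⟨e.permCongr g, (permCongr_mem_iff e he g).mpr g.2⟩
  invFun g := ⟨e.symm.permCongr g, by
    rw [← permCongr_mem_iff e he]
    have : e.permCongr (e.symm.permCongr (g : Equiv.Perm (Fin 11))) = g := by
      ext a; simp [Equiv.permCongr_apply]
    rw [this]; exact g.2⟩
  left_inv g := by
    apply Subtype.ext
    ext a; simp [Equiv.permCongr_apply]
  right_inv g := by
    apply Subtype.ext
    ext a; simp [Equiv.permCongr_apply]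
  map_mul' g h := by
    apply Subtype.ext
    ext a; simp [Equiv.permCongr_apply]

theorem autEquiv_apply (g : setSystemAut B) (a : α) :
    ((autEquiv e he g : setSystemAut Bref) : Equiv.Perm (Fin 11)) (e a) =
      e ((g : Equiv.Perm α) a) := by
  simp [autEquiv, Equiv.permCongr_apply]

end Transport

/-- Aut of an S(4, 5, 11) is simple of order 7920 and sharply 4-transitive on points. -/
theorem result {α : Type*} [Fintype α] [DecidableEq α] (hα : Fintype.card α = 11) {B : Set (Finset α)} (hB : Cfsg.IsSteinerSystem 4 5 B) : Cfsg.IsM11 (Cfsg.setSystemAut B) ∧ MulAction.IsMultiplyPretransitive (Cfsg.setSystemAut B) α 4 ∧ ∀ x : Fin 4 ↪ α, MulAction.stabilizer (Cfsg.setSystemAut B) x = ⊥ := by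
  obtain ⟨e, he⟩ := steiner_4511_iso_ref hα hB
  set ψ := autEquiv e he with hψ
  have hsimple : IsSimpleGroup (setSystemAut B) := by
    have := G_simple
    exact ψ.isSimpleGroup
  have hcard : Nat.card (setSystemAut B) = 7920 := by
    rw [Nat.card_congr ψ.toEquiv]; exact G_card
  refine ⟨⟨hsimple, hcard⟩, ?_, ?_⟩
  · rw [MulAction.isMultiplyPretransitive_iff]
    intro x y
    obtain ⟨g', hg', hxy⟩ := G_trans (x.trans e.toEmbedding) (y.trans e.toEmbedding)
    refine ⟨ψ.symm ⟨g', hg'⟩, ?_⟩
    ext i
    apply e.injective
    have h1 := autEquiv_apply e he (ψ.symm ⟨g', hg'⟩) (x i)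
    rw [← hψ, ψ.apply_symm_apply] at h1
    have h2 := hxy i
    simp only [Function.Embedding.trans_apply, Equiv.coe_toEmbedding] at h2
    rw [Function.Embedding.smul_apply]
    show e (((ψ.symm ⟨g', hg'⟩ : setSystemAut B) : Equiv.Perm α) (x i)) = e (y i)
    rw [← h1, ← h2]
  · intro x
    rw [eq_bot_iff]
    intro g hg
    rw [MulAction.mem_stabilizer_iff] at hg
    rw [Subgroup.mem_bot]
    have h1 : ((ψ g : setSystemAut Bref) : Equiv.Perm (Fin 11)) = 1 := by
      apply G_sharp (x.trans e.toEmbedding) (ψ g).2
      intro i
      simp only [Function.Embedding.trans_apply, Equiv.coe_toEmbedding]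
      rw [hψ, autEquiv_apply]
      congr 1
      have := congrArg (fun f : Fin 4 ↪ α => f i) hg
      exact this
    have h2 : ψ g = 1 := Subtype.ext h1
    exact (MulEquiv.map_eq_one_iff ψ).mp h2

end Cfsg.Agent.S0426
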