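import Cfsg.Statements.S0427
import Cfsg.Agent.Lib.Helper8.Steiner22

set_option autoImplicit false
open Cfsg

namespace Cfsg.Agent.S0427


open Cfsg.Agent.Lib.Helper8 Finset

theorem card_set_eq {α : Type*} [Fintype α] [DecidableEq α] {B : Set (Finset α)}
    (S : Set ↥B) [Fintype S] (P : Finset α → Prop)
    [DecidablePred P] (h : ∀ v : ↥B, v ∈ S ↔ P v.1) :
    Fintype.card S = #{c ∈ blocksF B | P c} := by
  rw [Fintype.card_eq_nat_card, ← Fintype.card_coe, Fintype.card_eq_nat_card]
  apply Nat.card_congr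
  refine ⟨fun x => ⟨x.1.1, mem_filter.mpr ⟨mem_blocksF.mpr x.1.2, (h x.1).mp x.2⟩⟩,
    fun y => ⟨⟨y.1, mem_blocksF.mp (mem_filter.mp y.2).1⟩, (h _).mpr (mem_filter.mp y.2).2⟩,
    fun x => rfl, fun y => rfl⟩

theorem card_B {α : Type*} [Fintype α] [DecidableEq α] {B : Set (Finset α)} [Fintype B] :
    Fintype.card B = (blocksF B).card := by
  rw [Fintype.card_eq_nat_card, ← Fintype.card_coe, Fintype.card_eq_nat_card]
  apply Nat.card_congr
  exact ⟨fun x => ⟨x.1, mem_blocksF.mpr x.2⟩, fun y => ⟨y.1, mem_blocksF.mp y.2⟩,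
    fun x => rfl, fun y => rfl⟩

theorem adj_iff {α : Type*} [Fintype α] [DecidableEq α] {B : Set (Finset α)}
    (hB : IsSteinerSystem 3 6 B) (v w : ↥B) :
    (blockGraph B).Adj v w ↔ Disjoint v.1 w.1 := by
  unfold blockGraph
  rw [SimpleGraph.fromRel_adj]
  constructor
  · rintro ⟨_, h | h⟩
    · exact h
    · exact h.symm
  · intro h
    refine ⟨?_, Or.inl h⟩
    rintro rfl
    exact not_disjoint_self hB (mem_blocksF.mpr v.2) h

/-- The block graph (adjacent = disjoint) of an S(3, 6, 22) is strongly regular with parameters (77, 16, 0, 4). -/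
theorem result {α : Type*} [Fintype α] (hα : Fintype.card α = 22) {B : Set (Finset α)} (hB : Cfsg.IsSteinerSystem 3 6 B) [Fintype B] [DecidableRel (Cfsg.blockGraph B).Adj] : (Cfsg.blockGraph B).IsSRGWith 77 16 0 4 := by
  classical
  refine ⟨?_, ?_, ?_, ?_⟩
  · rw [card_B, lam0 hα hB]
  · intro v
    rw [← SimpleGraph.card_neighborSet_eq_degree,
      card_set_eq ((blockGraph B).neighborSet v) (fun c => Disjoint v.1 c)
        (fun w => by rw [SimpleGraph.mem_neighborSet, adj_iff hB])]
    exact disj16 hα hB (mem_blocksF.mpr v.2)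
  · intro v w hvw
    have hne : v.1 ≠ w.1 := fun h => (blockGraph B).ne_of_adj hvw (Subtype.ext h)
    rw [card_set_eq ((blockGraph B).commonNeighbors v w)
        (fun c => Disjoint v.1 c ∧ Disjoint w.1 c)
        (fun u => by rw [SimpleGraph.mem_commonNeighbors, adj_iff hB, adj_iff hB]),
      common hα hB (mem_blocksF.mpr v.2) (mem_blocksF.mpr w.2) hne]
    rw [adj_iff hB, disjoint_iff_card] at hvw
    rw [hvw]
  · intro v w hvw hnadj
    have hne : v.1 ≠ w.1 := fun h => hvw (Subtype.ext h)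
    rw [card_set_eq ((blockGraph B).commonNeighbors v w)
        (fun c => Disjoint v.1 c ∧ Disjoint w.1 c)
        (fun u => by rw [SimpleGraph.mem_commonNeighbors, adj_iff hB, adj_iff hB]),
      common hα hB (mem_blocksF.mpr v.2) (mem_blocksF.mpr w.2) hne]
    rw [adj_iff hB, disjoint_iff_card] at hnadj
    rcases inter_02 hα hB (mem_blocksF.mpr v.2) (mem_blocksF.mpr w.2) hne with h | h
    · exact absurd h hnadj
    · rw [h]

end Cfsg.Agent.S0427
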