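import Cfsg.Statements.S0430
import Cfsg.Agent.Lib.Helper93.S22Unique
import Cfsg.Agent.Lib.Helper93.HSDesign

set_option autoImplicit false
open Cfsg

namespace Cfsg.Agent.S0430

/-- Uniqueness of the strongly regular graph with parameters (100, 22, 0, 6). -/
theorem result {V W : Type*} [Fintype V] [Fintype W] {G : SimpleGraph V} {H : SimpleGraph W} [DecidableRel G.Adj] [DecidableRel H.Adj] (hG : G.IsSRGWith 100 22 0 6) (hH : H.IsSRGWith 100 22 0 6) : Nonempty (G ≃g H) := by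
  classical
  have hG' := Cfsg.Agent.Lib.Helper93.HSCount.isHS_of_srg G hG
  have hH' := Cfsg.Agent.Lib.Helper93.HSCount.isHS_of_srg H hH
  have hV : Nonempty V := Fintype.card_pos_iff.mp (by rw [hG.card]; norm_num)
  have hW : Nonempty W := Fintype.card_pos_iff.mp (by rw [hH.card]; norm_num)
  obtain ⟨x⟩ := hV
  obtain ⟨y⟩ := hW
  obtain ⟨e, he⟩ := Cfsg.Agent.Lib.Helper93.S22Unique.setSystemIso
    (Cfsg.Agent.Lib.Helper93.HSDesign.card_Pt hG' x) (Cfsg.Agent.Lib.Helper93.HSDesign.card_Pt hH' y)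
    (Cfsg.Agent.Lib.Helper93.HSDesign.design_steiner hG' x)
    (Cfsg.Agent.Lib.Helper93.HSDesign.design_steiner hH' y)
  exact ⟨(Cfsg.Agent.Lib.Helper93.HSDesign.isoPBG hG' x).trans
    ((Cfsg.Agent.Lib.Helper93.HSDesign.pbgIso e he).trans
      (Cfsg.Agent.Lib.Helper93.HSDesign.isoPBG hH' y).symm)⟩

end Cfsg.Agent.S0430
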