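import Cfsg.Statements.S0431
import Mathlib
import Cfsg.Agent.Lib.Helper8.HSGraph
import Cfsg.Agent.Lib.Helper8.GraphTransport
import Cfsg.Agent.S0410

set_option autoImplicit false
open Cfsg

namespace Cfsg.Agent.S0431

/-- Aut of the point-block graph of an S(3, 6, 22) contains a simple subgroup of order 44352000. -/
theorem result {α : Type*} [Fintype α] (hα : Fintype.card α = 22) {B : Set (Finset α)} (hB : Cfsg.IsSteinerSystem 3 6 B) : ∃ H : Subgroup (Cfsg.pointBlockGraph B ≃g Cfsg.pointBlockGraph B), Cfsg.IsHS H := by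
  classical
  obtain ⟨e, he⟩ := Cfsg.Agent.S0410.result hα Cfsg.Agent.Lib.Helper8.card_P22 hB
    Cfsg.Agent.Lib.Helper8.B0_steiner
  let φ := Cfsg.Agent.Lib.Helper8.pointBlockGraphIso e he
  let ψ := (Cfsg.Agent.Lib.Helper8.autCongrGraph φ).symm
  let H0 := Cfsg.Agent.Lib.Helper8.PhiG.range
  obtain ⟨h1, h2⟩ := Cfsg.Agent.Lib.Helper8.isHS_range
  let E : H0 ≃* H0.map ψ.toMonoidHom := ψ.subgroupMap H0
  exact ⟨H0.map ψ.toMonoidHom, MulEquiv.isSimpleGroup E.symm,
    by rw [← Nat.card_congr E.toEquiv]; exact h2⟩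

end Cfsg.Agent.S0431
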