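import Mathlib
import Cfsg.Statements.S0435
import Cfsg.Agent.Lib.Helper14.M11F
-- import your own Cfsg.Agent.* helpers here

set_option autoImplicit false
open Cfsg

namespace Cfsg.Agent.S0435


/-- Involution centralisers in a simple group of order 7920 have order 48. -/
theorem result {G : Type*} [Group G] [Finite G] (hG : Cfsg.IsM11 G) (x : G) (hx : orderOf x = 2) : Nat.card (Subgroup.centralizer ({x} : Set G)) = 48 := by
  obtain ⟨hs, hc⟩ := hG
  have := hs
  apply Cfsg.Agent.Lib.Helper14.M11.case_one hc _ x hx
  intro Y
  rcases Cfsg.Agent.Lib.Helper14.M11.card_centralizer_sylow5 hc Y with h | h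
  · exact h
  · exact (Cfsg.Agent.Lib.Helper14.M11.case_two_false hc Y h).elim

end Cfsg.Agent.S0435
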