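import Cfsg.Statements.S0436
-- import your own Cfsg.Agent.* helpers here

set_option autoImplicit false
open Cfsg

namespace Cfsg.Agent.S0436


theorem sq_one {G : Type*} [Group G] {d : G} (h : orderOf d = 2) : d * d = 1 := by
  rw [← pow_two, ← h, pow_orderOf_eq_one]

theorem key {G : Type*} [Group G] (a b e : G) (ha : a * a = 1) (hb : b * b = 1) (he : e * e = 1)
    (hab : a * b = b * a) (hc : e * (a * b) = (a * b) * e)
    (h1 : (e * a) ^ 2 = 1 ∨ (e * a) ^ 3 = 1) (h2 : (e * b) ^ 2 = 1 ∨ (e * b) ^ 3 = 1)
    (hne : a ≠ b) : e * a = a * e ∧ e * b = b * e := by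
  simp only [pow_succ, pow_zero, one_mul] at h1 h2
  rcases h1 with h1 | h1 <;> rcases h2 with h2 | h2
  · constructor <;> grind
  · constructor <;> grind
  · constructor <;> grind
  · exfalso
    apply hne
    grind

/-- For distinct commuting members a, b of a set of 3-transpositions E, a member e of E centralises the product a * b if and only if it centralises both a and b. -/
theorem result {G : Type*} [Group G] {E : Set G} (hE : Cfsg.IsThreeTranspositionSet E) {a b e : G} (ha : a ∈ E) (hb : b ∈ E) (he : e ∈ E) (hab : a ≠ b) (hcomm : Commute a b) : Commute e (a * b) ↔ (Commute e a ∧ Commute e b) := by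
  obtain ⟨hord, h3⟩ := hE
  constructor
  · intro hc
    have := key a b e (sq_one (hord a ha)) (sq_one (hord b hb)) (sq_one (hord e he)) hcomm.eq hc.eq
      (h3 e he a ha) (h3 e he b hb) hab
    exact ⟨this.1, this.2⟩
  · rintro ⟨h1, h2⟩
    exact h1.mul_right h2

end Cfsg.Agent.S0436
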