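import Cfsg.Statements.S0437
-- import your own Cfsg.Agent.* helpers here

set_option autoImplicit false
open Cfsg

namespace Cfsg.Agent.S0437


theorem sq_one {G : Type*} [Group G] {d : G} (h : orderOf d = 2) : d * d = 1 := by
  rw [← pow_two, ← h, pow_orderOf_eq_one]

theorem step1 {G : Type*} [Group G] (a b e : G) (ha : a * a = 1) (hb : b * b = 1) (he : e * e = 1)
    (hab : a * b = b * a)
    (h1 : e * a * e = a * e * a) (h2 : e * b * e = b * e * b) :
    (b * a * e * a * b) * e = e * (b * a * e * a * b) := by
  grind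

theorem step2 {G : Type*} [Group G] (a b c e : G) (ha : a * a = 1) (hb : b * b = 1) (hc : c * c = 1)
    (hcomm : e * (a * b * c) = (a * b * c) * e) : b * a * e * a * b = c * e * c := by
  have ha' : ∀ x, a * (a * x) = x := fun x => by rw [← mul_assoc, ha, one_mul]
  have hb' : ∀ x, b * (b * x) = x := fun x => by rw [← mul_assoc, hb, one_mul]
  have hc' : ∀ x, c * (c * x) = x := fun x => by rw [← mul_assoc, hc, one_mul]
  have h2 : c * b * a * (e * (a * b * c)) = e := by
    rw [hcomm]; simp only [mul_assoc, ha', hb', hc']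
  have h3 : c * (c * b * a * (e * (a * b * c))) * c = c * e * c := by rw [h2]
  rw [← h3]
  simp only [mul_assoc, ha', hb', hc', hc, mul_one]

theorem step3 {G : Type*} [Group G] (c e : G) (hc : c * c = 1) (he : e * e = 1)
    (h : (c * e * c) * e = e * (c * e * c))
    (h3 : e * c * e = c * e * c) : e * c = c * e := by
  grind

/-- all three braid: then `e` commutes with `c`. -/
theorem allbraid {G : Type*} [Group G] (a b c e : G) (ha : a * a = 1) (hb : b * b = 1)
    (hc : c * c = 1) (he : e * e = 1)
    (hab : a * b = b * a)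
    (hcomm : e * (a * b * c) = (a * b * c) * e)
    (h1 : e * a * e = a * e * a) (h2 : e * b * e = b * e * b) (h3 : e * c * e = c * e * c) :
    e * c = c * e := by
  have s1 := step1 a b e ha hb he hab h1 h2
  have s2 := step2 a b c e ha hb hc hcomm
  rw [s2] at s1
  exact step3 c e hc he s1 h3

/-- if `e` commutes with one of them, say `c`, and braids with the others, then `a = b`. -/
theorem onecomm {G : Type*} [Group G] (a b c e : G) (ha : a * a = 1) (hb : b * b = 1)
    (hc : c * c = 1) (he : e * e = 1)
    (hab : a * b = b * a) (hac : a * c = c * a) (hbc : b * c = c * b)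
    (hcomm : e * (a * b * c) = (a * b * c) * e)
    (h1 : e * a * e = a * e * a) (h2 : e * b * e = b * e * b) (h3 : e * c = c * e) :
    a = b := by
  have hc' : ∀ x, c * (c * x) = x := fun x => by rw [← mul_assoc, hc, one_mul]
  have hcomm2 : e * (a * b) = (a * b) * e := by
    have : e * (a * b * c) * c = (a * b * c) * e * c := by rw [hcomm]
    have h4 : (a * b * c) * e * c = a * b * e := by
      rw [mul_assoc (a * b * c), h3, mul_assoc (a * b), ← mul_assoc c, hc, one_mul]
    rw [h4] at this
    rw [← this]
    simp only [mul_assoc, hc, mul_one]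
  grind

theorem braid_of_cube {G : Type*} [Group G] (e a : G) (ha : a * a = 1) (he : e * e = 1)
    (h : (e * a) ^ 3 = 1) : e * a * e = a * e * a := by
  simp only [pow_succ, pow_zero, one_mul] at h
  grind

theorem comm_of_sq {G : Type*} [Group G] (e a : G) (ha : a * a = 1) (he : e * e = 1)
    (h : (e * a) ^ 2 = 1) : e * a = a * e := by
  simp only [pow_succ, pow_zero, one_mul] at h
  grind

theorem comm_or_braid {G : Type*} [Group G] (e a : G) (ha : a * a = 1) (he : e * e = 1)
    (h : (e * a) ^ 2 = 1 ∨ (e * a) ^ 3 = 1) : e * a = a * e ∨ e * a * e = a * e * a :=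
  h.imp (comm_of_sq e a ha he) (braid_of_cube e a ha he)

/-- two commute: third commutes -/
theorem twocomm {G : Type*} [Group G] (a b c e : G) (ha : a * a = 1) (hb : b * b = 1)
    (hcomm : e * (a * b * c) = (a * b * c) * e)
    (h1 : e * a = a * e) (h2 : e * b = b * e) : e * c = c * e := by
  have ha' : ∀ x, a * (a * x) = x := fun x => by rw [← mul_assoc, ha, one_mul]
  have hb' : ∀ x, b * (b * x) = x := fun x => by rw [← mul_assoc, hb, one_mul]
  have e1 : e * (a * b * c) = a * b * (e * c) := by
    rw [mul_assoc a b c, ← mul_assoc e a, h1, mul_assoc a e, ← mul_assoc e b, h2]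
    simp only [mul_assoc]
  have e2 : b * (a * (a * b * (e * c))) = e * c := by
    simp only [mul_assoc, ha', hb']
  have e3 : b * (a * (a * b * c * e)) = c * e := by
    simp only [mul_assoc, ha', hb']
  rw [← e2, ← e1, hcomm, e3]

/-- For three distinct, pairwise commuting members a, b, c of a set of 3-transpositions E, a member e of E centralises a * b * c if and only if it centralises each of a, b and c. -/
theorem result {G : Type*} [Group G] {E : Set G} (hE : Cfsg.IsThreeTranspositionSet E) {a b c e : G} (ha : a ∈ E) (hb : b ∈ E) (hc : c ∈ E) (he : e ∈ E) (hab : a ≠ b) (hac : a ≠ c) (hbc : b ≠ c) (h₁ : Commute a b) (h₂ : Commute a c) (h₃ : Commute b c) : Commute e (a * b * c) ↔ (Commute e a ∧ Commute e b ∧ Commute e c) := by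
  obtain ⟨hord, h3⟩ := hE
  have ha2 := sq_one (hord a ha)
  have hb2 := sq_one (hord b hb)
  have hc2 := sq_one (hord c hc)
  have he2 := sq_one (hord e he)
  constructor
  · intro hcm
    have hcomm : e * (a * b * c) = (a * b * c) * e := hcm.eq
    have p1 : b * c * a = a * b * c := by
      rw [mul_assoc, ← h₂.eq] at *; rw [← mul_assoc, ← h₁.eq, mul_assoc]
    have p2 : c * a * b = a * b * c := by
      rw [← h₂.eq, mul_assoc, ← h₃.eq, ← mul_assoc]
    have p3 : a * c * b = a * b * c := by
      rw [mul_assoc, ← h₃.eq, ← mul_assoc]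
    have hcomm_bca : e * (b * c * a) = (b * c * a) * e := by rw [p1]; exact hcomm
    have hcomm_cab : e * (c * a * b) = (c * a * b) * e := by rw [p2]; exact hcomm
    have hcomm_acb : e * (a * c * b) = (a * c * b) * e := by rw [p3]; exact hcomm
    rcases comm_or_braid e a ha2 he2 (h3 e he a ha) with A | A <;>
    rcases comm_or_braid e b hb2 he2 (h3 e he b hb) with B | B <;>
    rcases comm_or_braid e c hc2 he2 (h3 e he c hc) with C | C
    · exact ⟨A, B, C⟩
    · exact ⟨A, B, twocomm a b c e ha2 hb2 hcomm A B⟩
    · exact ⟨A, twocomm c a b e hc2 ha2 hcomm_cab C A, C⟩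
    · -- A commutes; B, C braid: b = c
      exact absurd (onecomm b c a e hb2 hc2 ha2 he2 h₃.eq h₁.eq.symm h₂.eq.symm hcomm_bca B C A) hbc
    · exact ⟨twocomm b c a e hb2 hc2 hcomm_bca B C, B, C⟩
    · -- B commutes; A, C braid: a = c
      exact absurd (onecomm a c b e ha2 hc2 hb2 he2 h₂.eq h₁.eq h₃.eq.symm hcomm_acb A C B) hac
    · -- C commutes; A, B braid: a = b
      exact absurd (onecomm a b c e ha2 hb2 hc2 he2 h₁.eq h₂.eq h₃.eq hcomm A B C) hab
    · -- all braid
      have C' := allbraid a b c e ha2 hb2 hc2 he2 h₁.eq hcomm A B C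
      exact absurd (onecomm a b c e ha2 hb2 hc2 he2 h₁.eq h₂.eq h₃.eq hcomm A B C') hab
  · rintro ⟨h1, h2, h3'⟩
    exact (h1.mul_right h2).mul_right h3'

end Cfsg.Agent.S0437
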