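import Cfsg.Statements.S0438
-- import your own Cfsg.Agent.* helpers here

set_option autoImplicit false
open Cfsg

namespace Cfsg.Agent.S0438


theorem sq_one {G : Type*} [Group G] {d : G} (h : orderOf d = 2) : d * d = 1 := by
  rw [← pow_two, ← h, pow_orderOf_eq_one]

theorem braid_of_cube {G : Type*} [Group G] (e a : G) (ha : a * a = 1) (he : e * e = 1)
    (h : (e * a) ^ 3 = 1) : e * a * e = a * e * a := by
  simp only [pow_succ, pow_zero, one_mul] at h
  grind

theorem comm_of_sq {G : Type*} [Group G] (e a : G) (ha : a * a = 1) (he : e * e = 1)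
    (h : (e * a) ^ 2 = 1) : e * a = a * e := by
  simp only [pow_succ, pow_zero, one_mul] at h
  grind

/-- Let E be a set of 3-transpositions closed under conjugation, and x an involutory automorphism of the group mapping E to itself. If some a in E fails to commute with its image x a, then x fixes an element of E. -/
theorem result {G : Type*} [Group G] {E : Set G} (hE : Cfsg.IsThreeTranspositionSet E) (hconj : ∀ g : G, ∀ d ∈ E, g * d * g⁻¹ ∈ E) (x : G ≃* G) (hx : ∀ g : G, x (x g) = g) (hxE : ∀ d ∈ E, x d ∈ E) {a : G} (ha : a ∈ E) (h : ¬ Commute a (x a)) : ∃ d ∈ E, x d = d := by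
  obtain ⟨hord, h3⟩ := hE
  have hb : x a ∈ E := hxE a ha
  have ha2 := sq_one (hord a ha)
  have hb2 := sq_one (hord _ hb)
  have hainv : a⁻¹ = a := inv_eq_of_mul_eq_one_right ha2
  have hbinv : (x a)⁻¹ = x a := inv_eq_of_mul_eq_one_right hb2
  rcases h3 a ha _ hb with h2 | h2
  · exact absurd (comm_of_sq a (x a) hb2 ha2 h2) h
  · have hbr := braid_of_cube a (x a) hb2 ha2 h2
    refine ⟨a * x a * a⁻¹, hconj a _ hb, ?_⟩
    rw [map_mul, map_mul, map_inv, hx, hbinv, hainv]
    exact hbr.symm

end Cfsg.Agent.S0438
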