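import Cfsg.Statements.S0439
-- import your own Cfsg.Agent.* helpers here

set_option autoImplicit false
open Cfsg

namespace Cfsg.Agent.S0439


theorem swap_mul_swap_cases {α : Type*} [DecidableEq α] [Fintype α] (a b c d : α) (hab : a ≠ b)
    (hcd : c ≠ d) :
    (Equiv.swap a b * Equiv.swap c d) ^ 2 = 1 ∨ (Equiv.swap a b * Equiv.swap c d) ^ 3 = 1 := by
  have three : ∀ x y z : α, x ≠ y → x ≠ z → y ≠ z → (Equiv.swap x y * Equiv.swap x z) ^ 3 = 1 := by
    intro x y z hxy hxz hyz
    have := (Equiv.Perm.isThreeCycle_swap_mul_swap_same hxy hxz hyz).orderOf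
    rw [← this]; exact pow_orderOf_eq_one _
  by_cases hac : a = c
  · subst hac
    by_cases hbd : b = d
    · subst hbd
      left; simp
    · right; exact three a b d hab hcd hbd
  · by_cases had : a = d
    · subst had
      by_cases hbc : b = c
      · subst hbc
        left; rw [Equiv.swap_comm b a]; simp
      · right
        rw [Equiv.swap_comm c a]
        exact three a b c hab (Ne.symm hcd) hbc
    · by_cases hbc : b = c
      · subst hbc
        right
        rw [Equiv.swap_comm a b]
        exact three b a d (Ne.symm hab) hcd had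
      · by_cases hbd : b = d
        · subst hbd
          right
          rw [Equiv.swap_comm a b, Equiv.swap_comm c b]
          exact three b a c (Ne.symm hab) (Ne.symm hcd) hac
        · left
          have hdisj : Equiv.Perm.Disjoint (Equiv.swap a b) (Equiv.swap c d) := by
            intro x
            by_cases hxa : x = a
            · right; subst hxa; exact Equiv.swap_apply_of_ne_of_ne hac had
            · by_cases hxb : x = b
              · right; subst hxb; exact Equiv.swap_apply_of_ne_of_ne hbc hbd
              · left; exact Equiv.swap_apply_of_ne_of_ne hxa hxb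
          rw [hdisj.commute.mul_pow]
          simp [pow_two]

/-- In the symmetric group of degree n ≥ 2, the set of transpositions is a conjugacy class of 3-transpositions which generates the group. -/
theorem result (n : ℕ) (hn : 2 ≤ n) : Cfsg.IsThreeTranspositionClass {σ : Equiv.Perm (Fin n) | σ.IsSwap} := by
  refine ⟨⟨fun σ hσ => Equiv.Perm.IsSwap.orderOf hσ, ?_⟩, ?_, Equiv.Perm.closure_isSwap⟩
  · rintro σ ⟨a, b, hab, rfl⟩ τ ⟨c, d, hcd, rfl⟩
    exact swap_mul_swap_cases a b c d hab hcd
  · have h01 : (⟨0, by omega⟩ : Fin n) ≠ ⟨1, by omega⟩ := by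
      intro h; simp [Fin.ext_iff] at h
    refine ⟨Equiv.swap ⟨0, by omega⟩ ⟨1, by omega⟩, ⟨_, _, h01, rfl⟩, ?_⟩
    ext σ
    change σ.IsSwap ↔ IsConj _ σ
    constructor
    · rintro ⟨a, b, hab, rfl⟩
      exact Equiv.Perm.isConj_swap h01 hab
    · intro hc
      obtain ⟨g, hg⟩ := isConj_iff.mp hc
      refine ⟨g ⟨0, by omega⟩, g ⟨1, by omega⟩, fun h => h01 (g.injective h), ?_⟩
      rw [← hg, Equiv.swap_apply_apply]

end Cfsg.Agent.S0439
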