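import Cfsg.Statements.S0441
import Cfsg.Agent.S0215
import Cfsg.Agent.Lib.Helper8.FischerTrans4

set_option autoImplicit false
open Cfsg

namespace Cfsg.Agent.S0441

/-- Fischer's rank-three property. Let a finite group be generated by a conjugacy class D of 3-transpositions, with non-abelian simple commutator subgroup. Then for a in D there are members of D other than a commuting with a and members not commuting with a, and the centraliser of a acts transitively on each of these two sets. -/
theorem result {G : Type*} [Group G] [Finite G] {D : Set G} (hD : Cfsg.IsThreeTranspositionClass D) (hsimple : IsSimpleGroup (commutator G)) (hnonab : ∃ x y : commutator G, x * y ≠ y * x) {a : G} (ha : a ∈ D) : (∃ b ∈ D, b ≠ a ∧ Commute a b) ∧ (∃ c ∈ D, ¬ Commute a c) ∧ (∀ b ∈ D, ∀ b' ∈ D, b ≠ a → b' ≠ a → Commute a b → Commute a b' → ∃ g : G, Commute g a ∧ g * b * g⁻¹ = b') ∧ (∀ c ∈ D, ∀ c' ∈ D, ¬ Commute a c → ¬ Commute a c' → ∃ g : G, Commute g a ∧ g * c * g⁻¹ = c') := by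
  have hZs : ∀ H : Subgroup G, Cfsg.Agent.Lib.Helper58.ZStarProd.ZStarHyp ↥H :=
    fun H P u hu huP hiso => Cfsg.Agent.S0215.result P u hu huP hiso
  obtain ⟨hprim, hw⟩ := Cfsg.Agent.Lib.Helper8.FT.prim_of_simple_nonab hZs hD hsimple hnonab
  have hG := Cfsg.Agent.Lib.Helper90.class_to_group hD
  have hH := Cfsg.Agent.Lib.Helper8.FT.hyp_of_prim hG hprim hw
  have hc := hG.2.1
  -- some member of `D` does not commute with `a`
  have hnc : ∃ c ∈ D, ¬ Commute a c := by
    by_contra hcon
    push Not at hcon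
    obtain ⟨x, hx, y, hy, hxy, -⟩ := hw
    have hatop : ∀ g ∈ Subgroup.closure D, Commute a g := by
      intro g hg
      induction hg using Subgroup.closure_induction with
      | mem v hv => exact hcon v hv
      | one => exact Commute.one_right a
      | mul p q _ _ hp hq => exact hp.mul_right hq
      | inv p _ hp => exact hp.inv_right
    have hfix : ∀ v ∈ D, v = a := by
      intro v hv
      obtain ⟨g, hg⟩ := hprim.1 a ha v hv
      have h1 := (hatop g (by rw [hG.2.2]; exact Subgroup.mem_top g)).eq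
      rw [← hg, ← h1]; group
    exact hxy ((hfix x hx).trans (hfix y hy).symm)
  refine ⟨?_, hnc, ?_, ?_⟩
  · -- a commuting partner
    obtain ⟨x, hx, y, hy, hxy, hcom⟩ := hw
    obtain ⟨g, hg⟩ := hprim.1 x hx a ha
    refine ⟨g * y * g⁻¹, hc g y hy, ?_, ?_⟩
    · intro h
      apply hxy
      rw [← hg] at h
      have := congrArg (fun t => g⁻¹ * t * g) h
      simpa [mul_assoc] using this.symm
    · rw [← hg]
      show g * x * g⁻¹ * (g * y * g⁻¹) = g * y * g⁻¹ * (g * x * g⁻¹)
      calc g * x * g⁻¹ * (g * y * g⁻¹) = g * (x * y) * g⁻¹ := by group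
        _ = g * (y * x) * g⁻¹ := by rw [hcom.eq]
        _ = g * y * g⁻¹ * (g * x * g⁻¹) := by group
  · intro b hb b' hb' hba hb'a hab hab'
    obtain ⟨g, hg, h⟩ := Cfsg.Agent.Lib.Helper8.FT.orb_eq hH ha
      (e := b) (f := b') ⟨hb, hba, hab⟩ ⟨hb', hb'a, hab'⟩
    exact ⟨g, Cfsg.Agent.Lib.Helper8.FT.commute_of_mem_Xd hg, h.symm⟩
  · intro c hcD c' hc'D hac hac'
    exact Cfsg.Agent.Lib.Helper8.FT.prim_Ad_transitive hG hprim hw ha hcD hc'D hac hac'

end Cfsg.Agent.S0441
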