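import Cfsg.Statements.S0442
import Mathlib
-- import your own Cfsg.Agent.* helpers here

set_option autoImplicit false
open Cfsg

namespace Cfsg.Agent.S0442


theorem sq_one {G : Type*} [Group G] {d : G} (h : orderOf d = 2) : d * d = 1 := by
  rw [← pow_two, ← h, pow_orderOf_eq_one]

/-- an involution `a` inverts `a * b` when `b` is an involution. -/
theorem semiconj_inv {G : Type*} [Group G] (a b : G) (ha : a * a = 1) (hb : b * b = 1) :
    SemiconjBy a (a * b) (a * b)⁻¹ := by
  unfold SemiconjBy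
  have hainv : a⁻¹ = a := inv_eq_of_mul_eq_one_right ha
  have hbinv : b⁻¹ = b := inv_eq_of_mul_eq_one_right hb
  rw [mul_inv_rev, hainv, hbinv, ← mul_assoc, ha, one_mul, mul_assoc, ha, mul_one]

/-- even case -/
theorem even_case {G : Type*} [Group G] (a b : G) (ha : a * a = 1) (hb : b * b = 1) (m : ℕ)
    (h : (a * b) ^ (2 * m) = 1) : Commute ((a * b) ^ m) a := by
  have hsc := (semiconj_inv a b ha hb).pow_right m
  have h1 : (a * b) ^ m * (a * b) ^ m = 1 := by rw [← pow_add, ← two_mul]; exact h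
  have h2 : ((a * b)⁻¹) ^ m = (a * b) ^ m := by
    rw [inv_pow]; exact inv_eq_of_mul_eq_one_right h1
  rw [h2] at hsc
  exact hsc.eq.symm

theorem odd_case' {G : Type*} [Group G] (a g b : G) (ha : a * a = 1) (hb : b * b = 1)
    (hag : a * g = g * b) (m : ℕ)
    (h : (a * b) ^ (2 * m + 1) = 1) :
    Commute (g * (a * b) ^ m) a := by
  have hsc := (semiconj_inv a b ha hb).pow_right (m + 1)
  have h1 : (a * b) ^ m * (a * b) ^ (m + 1) = 1 := by
    rw [← pow_add]; rw [show m + (m + 1) = 2 * m + 1 by omega]; exact h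
  have h2 : ((a * b)⁻¹) ^ (m + 1) = (a * b) ^ m := by
    rw [inv_pow]; exact (eq_inv_of_mul_eq_one_left h1).symm
  rw [h2] at hsc
  have hbx : b * (a * b) ^ m = a * (a * b) ^ (m + 1) := by
    rw [pow_succ', ← mul_assoc a, ← mul_assoc a, ha, one_mul]
  unfold Commute SemiconjBy
  rw [← mul_assoc a, hag, mul_assoc g b, hbx, hsc.eq, mul_assoc]

theorem odd_case {G : Type*} [Group G] (a g : G) (ha : a * a = 1) (m : ℕ)
    (h : (a * (g⁻¹ * a * g)) ^ (2 * m + 1) = 1) :
    Commute (g * (a * (g⁻¹ * a * g)) ^ m) a := by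
  have hb : (g⁻¹ * a * g) * (g⁻¹ * a * g) = 1 := by
    simp only [mul_assoc, mul_inv_cancel_left]; rw [← mul_assoc a, ha, one_mul, inv_mul_cancel]
  have hag : a * g = g * (g⁻¹ * a * g) := by simp only [← mul_assoc, mul_inv_cancel, one_mul]
  exact odd_case' a g _ ha hb hag m h

/-- A standard trick for producing elements of an involution centraliser: for an involution a and an element g, let b be the conjugate g⁻¹ * a * g. If a * b has odd order 2m + 1 then g * (a * b) ^ m commutes with a; if a * b has even order 2m then (a * b) ^ m and (a * (g * a * g⁻¹)) ^ m commute with a. -/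
theorem result {G : Type*} [Group G] (a g : G) (ha : orderOf a = 2) : (∀ m : ℕ, orderOf (a * (g⁻¹ * a * g)) = 2 * m + 1 → Commute (g * (a * (g⁻¹ * a * g)) ^ m) a) ∧ (∀ m : ℕ, orderOf (a * (g⁻¹ * a * g)) = 2 * m → Commute ((a * (g⁻¹ * a * g)) ^ m) a ∧ Commute ((a * (g * a * g⁻¹)) ^ m) a) := by
  have ha2 := sq_one ha
  refine ⟨fun m hm => ?_, fun m hm => ⟨?_, ?_⟩⟩
  · apply odd_case a g ha2 m
    rw [← hm]; exact pow_orderOf_eq_one _
  · have hb : (g⁻¹ * a * g) * (g⁻¹ * a * g) = 1 := by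
      simp only [mul_assoc, mul_inv_cancel_left]; rw [← mul_assoc a, ha2, one_mul, inv_mul_cancel]
    apply even_case a _ ha2 hb m
    rw [← hm]; exact pow_orderOf_eq_one _
  · have hb : (g * a * g⁻¹) * (g * a * g⁻¹) = 1 := by
      simp only [mul_assoc, inv_mul_cancel_left]; rw [← mul_assoc a, ha2, one_mul, mul_inv_cancel]
    apply even_case a _ ha2 hb m
    -- a * (g a g⁻¹) = g (a * (g⁻¹ a g))⁻¹ g⁻¹
    have hainv : a⁻¹ = a := inv_eq_of_mul_eq_one_right ha2
    have hconj : a * (g * a * g⁻¹) = g * (a * (g⁻¹ * a * g))⁻¹ * g⁻¹ := by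
      simp only [mul_inv_rev, inv_inv, hainv, mul_assoc, mul_inv_cancel_left]
    rw [hconj, conj_pow, inv_pow, ← hm, pow_orderOf_eq_one, inv_one, mul_one, mul_inv_cancel]

end Cfsg.Agent.S0442
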