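import Cfsg.Statements.S0443
-- import your own Cfsg.Agent.* helpers here

set_option autoImplicit false
open Cfsg

namespace Cfsg.Agent.S0443

/-- Two definitions of a 2-central involution agree: an element t of order 2 of a finite group lies in the centre of some Sylow 2-subgroup if and only if its centraliser contains some Sylow 2-subgroup. -/
theorem result {G : Type*} [Group G] [Finite G] (t : G) (ht : orderOf t = 2) : Cfsg.IsTwoCentralInvolution t ↔ ∃ P : Sylow 2 G, (P : Subgroup G) ≤ Subgroup.centralizer ({t} : Set G) := by
  have : Fact (Nat.Prime 2) := ⟨Nat.prime_two⟩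
  constructor
  · rintro ⟨_, P, _, hP⟩
    refine ⟨P, fun x hx => ?_⟩
    rw [Subgroup.mem_centralizer_singleton_iff]
    exact hP x hx
  · rintro ⟨P, hP⟩
    refine ⟨ht, P, ?_, fun x hx => ?_⟩
    · -- t ∈ P by maximality
      have hz : IsPGroup 2 (Subgroup.zpowers t) := by
        rintro ⟨g, hg⟩
        refine ⟨1, ?_⟩
        obtain ⟨k, rfl⟩ := Subgroup.mem_zpowers_iff.mp hg
        apply Subtype.ext
        simp only [pow_one, Subgroup.coe_pow, Subgroup.coe_one]
        rw [← zpow_natCast, ← zpow_mul, mul_comm, zpow_mul, zpow_natCast, ← ht, pow_orderOf_eq_one,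
          one_zpow]
      have hnorm : (P : Subgroup G) ≤ Subgroup.normalizer (Subgroup.zpowers t : Set G) := by
        intro x hx
        have hxt : x * t = t * x := by
          have := hP hx
          rwa [Subgroup.mem_centralizer_singleton_iff] at this
        rw [Subgroup.mem_normalizer_iff]
        intro h
        have hcomm : ∀ h ∈ Subgroup.zpowers t, x * h * x⁻¹ = h := by
          intro h hh
          obtain ⟨k, rfl⟩ := Subgroup.mem_zpowers_iff.mp hh
          have : Commute x (t ^ k) := (show Commute x t from hxt).zpow_right k
          rw [this.eq, mul_inv_cancel_right]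
        constructor
        · intro hh
          rw [hcomm h hh]; exact hh
        · intro hh
          have := hcomm _ hh
          have h2 : x * h * x⁻¹ = h := by
            have h3 : x * (x * h * x⁻¹) * x⁻¹ = x * h * x⁻¹ := this
            have h4 : x⁻¹ * (x * (x * h * x⁻¹) * x⁻¹) * x = x⁻¹ * (x * h * x⁻¹) * x := by rw [h3]
            simpa [mul_assoc] using h4
          rw [← h2]; exact hh
      have hsup : IsPGroup 2 ((P : Subgroup G) ⊔ Subgroup.zpowers t : Subgroup G) :=
        IsPGroup.to_sup_of_normal_right' P.isPGroup' hz hnorm
      have := P.is_maximal' hsup le_sup_left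
      have ht' : t ∈ (P : Subgroup G) ⊔ Subgroup.zpowers t :=
        (le_sup_right : Subgroup.zpowers t ≤ _) (Subgroup.mem_zpowers t)
      rw [this] at ht'
      exact ht'
    · have := hP hx
      rw [Subgroup.mem_centralizer_singleton_iff] at this
      exact this

end Cfsg.Agent.S0443
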