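import Cfsg.Statements.S0445
import Mathlib
-- import your own Cfsg.Agent.* helpers here

set_option autoImplicit false
open Cfsg

namespace Cfsg.Agent.S0445


open Matrix

/-- the field with two elements -/
abbrev R := ZMod 2

theorem zmod2_unit : ∀ a : R, IsUnit a → a = 1 := by decide

theorem card_SL3 : Nat.card (Matrix.SpecialLinearGroup (Fin 3) R) = 168 := by
  have hf : Fact (Nat.Prime 2) := ⟨Nat.prime_two⟩
  have h : Nat.card (GL (Fin 3) R) = 168 := by
    rw [Matrix.card_GL_field]
    simp [Fin.prod_univ_succ, ZMod.card]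
  rw [← h]
  apply Nat.card_congr
  refine Equiv.ofBijective (Matrix.SpecialLinearGroup.toGL) ⟨?_, ?_⟩
  · intro a b hab
    apply Subtype.ext
    have := congrArg (fun g : GL (Fin 3) R => (g : Matrix (Fin 3) (Fin 3) R)) hab
    simpa using this
  · intro g
    have hdet : (g : Matrix (Fin 3) (Fin 3) R).det = 1 := by
      have hu : IsUnit (g : Matrix (Fin 3) (Fin 3) R).det := by
        rw [← Matrix.isUnit_iff_isUnit_det]; exact g.isUnit
      exact zmod2_unit _ hu
    refine ⟨⟨g, hdet⟩, ?_⟩
    apply Units.ext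
    rfl

theorem det_shape {R : Type*} [CommRing R] (M : Matrix (Fin 5) (Fin 5) R)
    (h0 : ∀ i : Fin 4, M i.succ 0 = 0) (h1 : ∀ j : Fin 3, M 1 j.succ.succ = 0) :
    M.det = M 0 0 * (M 1 1 * (M.submatrix (Fin.succ ∘ Fin.succ) (Fin.succ ∘ Fin.succ)).det) := by
  rw [Matrix.det_succ_column_zero, Fin.sum_univ_succ]
  have : ∀ i : Fin 4,
      (-1 : R) ^ (i.succ : ℕ) * M i.succ 0 * (M.submatrix i.succ.succAbove Fin.succ).det = 0 := by
    intro i; rw [h0 i]; ring
  simp only [this, Finset.sum_const_zero, add_zero, Fin.val_zero, pow_zero, one_mul,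
    Fin.succAbove_zero]
  congr 1
  rw [Matrix.det_succ_row_zero, Fin.sum_univ_succ]
  have h2 : ∀ j : Fin 3, (-1 : R) ^ (j.succ : ℕ) * (M.submatrix Fin.succ Fin.succ) 0 j.succ *
      ((M.submatrix Fin.succ Fin.succ).submatrix Fin.succ j.succ.succAbove).det = 0 := by
    intro j
    have : (M.submatrix Fin.succ Fin.succ) 0 j.succ = 0 := h1 j
    rw [this]; ring
  simp only [h2, Finset.sum_const_zero, add_zero, Fin.val_zero, pow_zero, one_mul,
    Fin.succAbove_zero]
  rfl

/-- the shape of matrices commuting with the elementary matrix `E₀₁` -/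
def Shape (M : Matrix (Fin 5) (Fin 5) R) : Prop :=
  (∀ i : Fin 4, M i.succ 0 = 0) ∧ (∀ j : Fin 3, M 1 j.succ.succ = 0) ∧ M 0 0 = M 1 1

theorem mul_single_entry (M : Matrix (Fin 5) (Fin 5) R) (i j : Fin 5) :
    (M * Matrix.single (0 : Fin 5) (1 : Fin 5) (1 : R)) i j = if j = 1 then M i 0 else 0 := by
  by_cases hj : j = 1
  · subst hj; simp
  · rw [if_neg hj]
    rw [Matrix.mul_single_apply_of_ne]
    exact hj

theorem single_mul_entry (M : Matrix (Fin 5) (Fin 5) R) (i j : Fin 5) :
    (Matrix.single (0 : Fin 5) (1 : Fin 5) (1 : R) * M) i j = if i = 0 then M 1 j else 0 := by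
  by_cases hi : i = 0
  · subst hi; simp
  · rw [if_neg hi]
    rw [Matrix.single_mul_apply_of_ne]
    exact hi

theorem comm_iff (M : Matrix (Fin 5) (Fin 5) R) :
    M * Matrix.single (0 : Fin 5) (1 : Fin 5) (1 : R) =
      Matrix.single (0 : Fin 5) (1 : Fin 5) (1 : R) * M ↔ Shape M := by
  constructor
  · intro h
    have key : ∀ i j : Fin 5, (if j = 1 then M i 0 else 0) = if i = 0 then M 1 j else 0 := by
      intro i j
      rw [← mul_single_entry, ← single_mul_entry, h]
    refine ⟨fun i => ?_, fun j => ?_, ?_⟩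
    · have := key i.succ 1
      rw [if_pos rfl, if_neg (Fin.succ_ne_zero i)] at this
      exact this
    · have := key 0 j.succ.succ
      rw [if_pos rfl, if_neg] at this
      · exact this.symm
      · intro h; have := congrArg Fin.val h; simp at this
    · have := key 0 1
      rw [if_pos rfl, if_pos rfl] at this
      exact this
  · rintro ⟨h0, h1, h2⟩
    ext i j
    rw [mul_single_entry, single_mul_entry]
    by_cases hj : j = 1
    · subst hj
      rw [if_pos rfl]
      refine Fin.cases ?_ (fun i => ?_) i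
      · rw [if_pos rfl]; exact h2
      · rw [if_neg (Fin.succ_ne_zero i)]; exact h0 i
    · rw [if_neg hj]
      by_cases hi : i = 0
      · subst hi
        rw [if_pos rfl]
        revert hj
        refine Fin.cases ?_ (fun j => ?_) j
        · intro _; exact (h0 0).symm
        · refine Fin.cases ?_ (fun j => ?_) j
          · intro h; exact absurd rfl h
          · intro _; exact (h1 j).symm
      · rw [if_neg hi]

/-- build a matrix of the right shape -/
def build (u : Fin 4 → R) (v : Fin 3 → R) (A : Matrix (Fin 3) (Fin 3) R) :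
    Matrix (Fin 5) (Fin 5) R :=
  Matrix.of (Fin.cons (Fin.cons 1 u)
    (Fin.cons (Fin.cons 0 (Fin.cons 1 (fun _ => 0))) (fun i => Fin.cons 0 (Fin.cons (v i) (A i)))))

theorem build_shape (u : Fin 4 → R) (v : Fin 3 → R) (A : Matrix (Fin 3) (Fin 3) R) :
    Shape (build u v A) := by
  refine ⟨fun i => ?_, fun j => rfl, rfl⟩
  refine Fin.cases rfl (fun i => rfl) i

theorem build_block (u : Fin 4 → R) (v : Fin 3 → R) (A : Matrix (Fin 3) (Fin 3) R) :
    (build u v A).submatrix (Fin.succ ∘ Fin.succ) (Fin.succ ∘ Fin.succ) = A := by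
  ext i j; rfl

theorem build_det (u : Fin 4 → R) (v : Fin 3 → R) (A : Matrix (Fin 3) (Fin 3) R) :
    (build u v A).det = A.det := by
  rw [det_shape _ (build_shape u v A).1 (build_shape u v A).2.1, build_block]
  have h00 : build u v A 0 0 = 1 := rfl
  have h11 : build u v A 1 1 = 1 := rfl
  rw [h00, h11, one_mul, one_mul]

theorem zmod2_mul3 : ∀ a b c : R, a * (b * c) = 1 → a = 1 ∧ b = 1 ∧ c = 1 := by decide

/-- the equivalence with the product -/
def shapeEquiv : {M : Matrix (Fin 5) (Fin 5) R // Shape M ∧ M.det = 1} ≃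
    (Fin 4 → R) × (Fin 3 → R) × Matrix.SpecialLinearGroup (Fin 3) R where
  toFun M := (fun j => M.1 0 j.succ, fun i => M.1 i.succ.succ 1,
    ⟨M.1.submatrix (Fin.succ ∘ Fin.succ) (Fin.succ ∘ Fin.succ), by
      have h := det_shape M.1 M.2.1.1 M.2.1.2.1
      rw [M.2.2] at h
      exact (zmod2_mul3 _ _ _ h.symm).2.2⟩)
  invFun p := ⟨build p.1 p.2.1 p.2.2.1, build_shape _ _ _, by rw [build_det]; exact p.2.2.2⟩
  left_inv := by
    rintro ⟨M, ⟨h0, h1, h2⟩, hdet⟩
    apply Subtype.ext
    have h := det_shape M h0 h1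
    rw [hdet] at h
    obtain ⟨h00, h11, -⟩ := zmod2_mul3 _ _ _ h.symm
    ext i j
    refine Fin.cases ?_ (fun i => ?_) i
    · refine Fin.cases ?_ (fun j => ?_) j
      · exact h00.symm
      · rfl
    · refine Fin.cases ?_ (fun i => ?_) i
      · refine Fin.cases ?_ (fun j => ?_) j
        · exact (h0 0).symm
        · refine Fin.cases ?_ (fun j => ?_) j
          · exact h11.symm
          · exact (h1 j).symm
      · refine Fin.cases ?_ (fun j => ?_) j
        · exact (h0 i.succ).symm
        · refine Fin.cases ?_ (fun j => ?_) j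
          · rfl
          · rfl
  right_inv := by
    rintro ⟨u, v, ⟨A, hA⟩⟩
    rfl

theorem mem_centralizer_iff_shape (s : Matrix.SpecialLinearGroup (Fin 5) R)
    (hs : (s : Matrix (Fin 5) (Fin 5) R) = Matrix.transvection 0 1 1)
    (g : Matrix.SpecialLinearGroup (Fin 5) R) :
    g ∈ Subgroup.centralizer ({s} : Set (Matrix.SpecialLinearGroup (Fin 5) R)) ↔
      Shape (g : Matrix (Fin 5) (Fin 5) R) := by
  rw [Subgroup.mem_centralizer_singleton_iff, ← comm_iff]
  have key : (g * s = s * g) ↔
      ((g : Matrix (Fin 5) (Fin 5) R) * (s : Matrix (Fin 5) (Fin 5) R) =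
        (s : Matrix (Fin 5) (Fin 5) R) * (g : Matrix (Fin 5) (Fin 5) R)) := by
    constructor
    · intro h
      have := congrArg (fun x : Matrix.SpecialLinearGroup (Fin 5) R =>
        (x : Matrix (Fin 5) (Fin 5) R)) h
      simpa only [Matrix.SpecialLinearGroup.coe_mul] using this
    · intro h
      apply Subtype.ext
      simpa only [Matrix.SpecialLinearGroup.coe_mul] using h
  rw [key, hs, Matrix.transvection, mul_add, add_mul, mul_one, one_mul]
  exact add_right_inj _

/-- the centraliser as a subtype of matrices -/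
def centEquiv (s : Matrix.SpecialLinearGroup (Fin 5) R)
    (hs : (s : Matrix (Fin 5) (Fin 5) R) = Matrix.transvection 0 1 1) :
    Subgroup.centralizer ({s} : Set (Matrix.SpecialLinearGroup (Fin 5) R)) ≃
      {M : Matrix (Fin 5) (Fin 5) R // Shape M ∧ M.det = 1} where
  toFun g := ⟨g.1.1, (mem_centralizer_iff_shape s hs g.1).mp g.2, g.1.2⟩
  invFun M := ⟨⟨M.1, M.2.2⟩, (mem_centralizer_iff_shape s hs _).mpr M.2.1⟩
  left_inv _ := rfl
  right_inv _ := rfl

/-- In the special linear group of dimension 5 over the field with two elements, the centraliser of a transvection has order 21504 = 2 ^ 7 · 168 (it is an extension of an extraspecial group of order 2 ^ 7 by the simple group of order 168). -/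
theorem result (s : Matrix.SpecialLinearGroup (Fin 5) (ZMod 2)) (hs : (s : Matrix (Fin 5) (Fin 5) (ZMod 2)) = Matrix.transvection 0 1 1) : Nat.card (Subgroup.centralizer ({s} : Set (Matrix.SpecialLinearGroup (Fin 5) (ZMod 2)))) = 21504 := by
  rw [Nat.card_congr ((centEquiv s hs).trans shapeEquiv), Nat.card_prod, Nat.card_prod, card_SL3]
  simp [Nat.card_eq_fintype_card, ZMod.card]

end Cfsg.Agent.S0445
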