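import Cfsg.Statements.S0458
import Cfsg.Agent.Lib.Helper93.J3L216
import Cfsg.Agent.Lib.Helper60.PermRep6156
import Cfsg.Agent.Lib.Helper56.F4
import Cfsg.Agent.S1625

set_option autoImplicit false
open Cfsg

namespace Cfsg.Agent.S0458

/-- Janko's third group exists as a transitive permutation group of degree 6156 with point stabiliser of order 8160: a simple group of order 50232960. -/
theorem result : ∃ H : Subgroup (Equiv.Perm (Fin 6156)), Cfsg.IsJ3 H ∧ MulAction.IsPretransitive H (Fin 6156) ∧ Nat.card (MulAction.stabilizer H (0 : Fin 6156)) = 8160 := by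
  have hw : Cfsg.Agent.Lib.Helper56.F4.w ^ 2 + Cfsg.Agent.Lib.Helper56.F4.w + 1 = 0 := by decide
  have hF := Cfsg.Agent.Lib.Helper56.F4.card
  have h := Cfsg.Agent.S1625.result Cfsg.Agent.Lib.Helper56.F4 hF Cfsg.Agent.Lib.Helper56.F4.w hw
  obtain ⟨_, _, hJ, hsimple⟩ := h
  have hchar : CharP Cfsg.Agent.Lib.Helper56.F4 2 := Cfsg.Agent.Lib.Helper93.J3.charP_two_of_card hF
  obtain ⟨K, hK⟩ := Cfsg.Agent.Lib.Helper93.J3.exists_subgroup_8160 Cfsg.Agent.Lib.Helper56.F4.w hw hF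
  have hfin : Finite (Cfsg.Spor.J3 Cfsg.Agent.Lib.Helper56.F4 Cfsg.Agent.Lib.Helper56.F4.w) :=
    Nat.finite_of_card_ne_zero (by rw [hJ]; norm_num)
  exact Cfsg.Agent.Lib.Helper60.PermRep.perm_rep_6156 hJ K hK

end Cfsg.Agent.S0458
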