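import Cfsg.Statements.S0481
-- import your own Cfsg.Agent.* helpers here

set_option autoImplicit false
open Cfsg

namespace Cfsg.Agent.S0481

/-- Large extraspecial subgroups: let z be an involution of a finite group G whose centraliser C contains a normal 2-subgroup Q with centre of order 2 and all squares central, such that every element of G centralising Q lies in Q. Then C contains a Sylow 2-subgroup of G, and any involution of G whose centraliser contains a Sylow 2-subgroup of G is conjugate to z. -/
theorem result {G : Type*} [Group G] [Finite G] (z : G) (hz : orderOf z = 2) (Q : Subgroup G) (hQC : Q ≤ Subgroup.centralizer ({z} : Set G)) (hQn : ∀ g ∈ Subgroup.centralizer ({z} : Set G), ∀ q ∈ Q, g * q * g⁻¹ ∈ Q) (hQ2 : IsPGroup 2 Q) (hZ : Nat.card (Subgroup.center Q) = 2) (hsq : ∀ x : Q, x ^ 2 ∈ Subgroup.center Q) (hlarge : Subgroup.centralizer (Q : Set G) ≤ Q) : (∃ P : Sylow 2 G, (P : Subgroup G) ≤ Subgroup.centralizer ({z} : Set G)) ∧ ∀ u : G, orderOf u = 2 → (∃ P : Sylow 2 G, (P : Subgroup G) ≤ Subgroup.centralizer ({u} :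 Set G)) → IsConj z u := by
  have hf : Fact (Nat.Prime 2) := ⟨Nat.prime_two⟩
  have hz1 : z ≠ 1 := by
    intro h; rw [h, orderOf_one] at hz; omega
  -- z ∈ Q
  have hzcQ : z ∈ Subgroup.centralizer (Q : Set G) := by
    rw [Subgroup.mem_centralizer_iff]
    intro q hq
    have := hQC hq
    rwa [Subgroup.mem_centralizer_singleton_iff] at this
  have hzQ : z ∈ Q := hlarge hzcQ
  -- the centre of Q is {1, z}
  have hzc : (⟨z, hzQ⟩ : Q) ∈ Subgroup.center Q := by
    rw [Subgroup.mem_center_iff]
    rintro ⟨q, hq⟩
    apply Subtype.ext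
    have := hQC hq
    rw [Subgroup.mem_centralizer_singleton_iff] at this
    exact this
  obtain ⟨y, _, hyuniq⟩ := (Nat.card_eq_two_iff' (1 : Subgroup.center Q)).mp hZ
  have hzy : (⟨⟨z, hzQ⟩, hzc⟩ : Subgroup.center Q) = y := by
    apply hyuniq
    intro h
    apply hz1
    have := congrArg (fun w : Subgroup.center Q => ((w : Q) : G)) h
    exact this
  -- anything centralising a subgroup containing Q is 1 or z
  have claimA : ∀ S : Subgroup G, Q ≤ S → ∀ w : G, (∀ s ∈ S, s * w = w * s) → w = 1 ∨ w = z := by
    intro S hQS w hw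
    have hwcQ : w ∈ Subgroup.centralizer (Q : Set G) := by
      rw [Subgroup.mem_centralizer_iff]
      intro q hq
      exact hw q (hQS hq)
    have hwQ : w ∈ Q := hlarge hwcQ
    have hwc : (⟨w, hwQ⟩ : Q) ∈ Subgroup.center Q := by
      rw [Subgroup.mem_center_iff]
      rintro ⟨q, hq⟩
      apply Subtype.ext
      exact hw q (hQS hq)
    by_cases h1 : w = 1
    · left; exact h1
    · right
      have : (⟨⟨w, hwQ⟩, hwc⟩ : Subgroup.center Q) = y := by
        apply hyuniq
        intro h
        apply h1
        have := congrArg (fun w : Subgroup.center Q => ((w : Q) : G)) h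
        exact this
      have h2 := this.trans hzy.symm
      have := congrArg (fun w : Subgroup.center Q => ((w : Q) : G)) h2
      exact this
  obtain ⟨S, hQS⟩ := hQ2.exists_le_sylow
  -- z is central in S
  have hzS : ∀ s ∈ (S : Subgroup G), s * z = z * s := by
    have hnt : Nontrivial (S : Subgroup G) := by
      rw [Subgroup.nontrivial_iff_ne_bot]
      intro hbot
      have : z ∈ (S : Subgroup G) := hQS hzQ
      rw [hbot, Subgroup.mem_bot] at this
      exact hz1 this
    have hZnt : Nontrivial (Subgroup.center (S : Subgroup G)) := S.isPGroup'.center_nontrivial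
    obtain ⟨w, hw1⟩ := exists_ne (1 : Subgroup.center (S : Subgroup G))
    have hwcomm : ∀ s ∈ (S : Subgroup G), s * ((w : (S : Subgroup G)) : G) = ((w : (S : Subgroup G)) : G) * s := by
      intro s hs
      have := Subgroup.mem_center_iff.mp w.2 ⟨s, hs⟩
      exact congrArg Subtype.val this
    rcases claimA S hQS _ hwcomm with h | h
    · exfalso; apply hw1
      apply Subtype.ext; apply Subtype.ext; exact h
    · rw [← h]; exact hwcomm
  refine ⟨⟨S, fun s hs => ?_⟩, ?_⟩
  · rw [Subgroup.mem_centralizer_singleton_iff]; exact hzS s hs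
  · rintro u hu ⟨P, hP⟩
    have hu1 : u ≠ 1 := by
      intro h; rw [h, orderOf_one] at hu; omega
    obtain ⟨g, hg⟩ := MulAction.exists_smul_eq G P S
    have hcomm : ∀ s ∈ (S : Subgroup G), s * (g * u * g⁻¹) = (g * u * g⁻¹) * s := by
      intro s hs
      rw [← hg, Sylow.smul_def, Sylow.pointwise_smul_def,
        Subgroup.mem_smul_pointwise_iff_exists] at hs
      obtain ⟨p, hp, rfl⟩ := hs
      have hpu : p * u = u * p := by
        have := hP hp
        rwa [Subgroup.mem_centralizer_singleton_iff] at this
      simp only [MulAut.smul_def, MulAut.conj_apply]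
      calc g * p * g⁻¹ * (g * u * g⁻¹) = g * (p * u) * g⁻¹ := by group
        _ = g * (u * p) * g⁻¹ := by rw [hpu]
        _ = g * u * g⁻¹ * (g * p * g⁻¹) := by group
    rcases claimA S hQS _ hcomm with h | h
    · exfalso; apply hu1
      have : g⁻¹ * (g * u * g⁻¹) * g = g⁻¹ * 1 * g := by rw [h]
      simpa [mul_assoc] using this
    · rw [isConj_comm, isConj_iff]
      exact ⟨g, h⟩

end Cfsg.Agent.S0481
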