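import Cfsg.Statements.S0496
import Cfsg.Agent.Lib.Helper9.SmallOrderSieveE
import Cfsg.Agent.Lib.Helper9.Simple1080
import Cfsg.Agent.Lib.Helper76.Simple612
import Cfsg.Agent.Lib.Helper76.Simple1008
import Cfsg.Agent.Lib.Helper14.Simple1040
import Cfsg.Agent.Lib.Helper14.Simple756
import Cfsg.Agent.Lib.Helper72.Simple720

set_option autoImplicit false
open Cfsg

namespace Cfsg.Agent.S0496

/-- A non-abelian finite simple group of order at most 1092 has order 60, 168, 360, 504, 660 or 1092. -/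
theorem result {G : Type*} [Group G] [Finite G] [IsSimpleGroup G]
    (hG : ¬ IsMulCommutative G) (h : Nat.card G ≤ 1092) :
    Nat.card G = 60 ∨ Nat.card G = 168 ∨ Nat.card G = 360 ∨ Nat.card G = 504 ∨ Nat.card G = 660 ∨
      Nat.card G = 1092 := by
  have hmem := Cfsg.Agent.Lib.Helper9.Sieve.card_mem_listed hG h
  simp only [Cfsg.Agent.Lib.Helper9.Sieve.listed, List.mem_cons, List.not_mem_nil, or_false] at hmem
  rcases hmem with h1 | h1 | h1 | h1 | h1 | h1 | h1 | h1 | h1 | h1 | h1 | h1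
  · exact Or.inl h1
  · exact Or.inr (Or.inl h1)
  · exact Or.inr (Or.inr (Or.inl h1))
  · exact Or.inr (Or.inr (Or.inr (Or.inl h1)))
  · exact Or.inr (Or.inr (Or.inr (Or.inr (Or.inl h1))))
  · exact Or.inr (Or.inr (Or.inr (Or.inr (Or.inr h1))))
  · exact (Cfsg.Agent.Lib.Helper76.Simple612.not_simple_of_card_612 h1).elim
  · exact (Cfsg.Agent.Lib.Helper72.Simple720.not_simple_of_card_720 h1).elim
  · exact (Cfsg.Agent.Lib.Helper14.Simple756.not_simple_of_card_756 h1).elim
  · exact (Cfsg.Agent.Lib.Helper76.Simple1008.not_simple_of_card_1008 h1).elim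
  · exact (Cfsg.Agent.Lib.Helper14.Simple1040.not_simple_of_card_1040 h1).elim
  · exact (Cfsg.Agent.Lib.Helper9.Simple1080.not_simple_of_card_1080 h1).elim

end Cfsg.Agent.S0496
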