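import Cfsg.Statements.S0499
import Cfsg.Agent.Lib.Helper9.PrimePowerWitness
import Cfsg.Agent.Lib.Helper2.FusionComplement

set_option autoImplicit false
open Cfsg

namespace Cfsg.Agent.S0499

open Cfsg.Agent.Lib.Helper9

/-- A non-abelian simple group of even order has no normal 2-complement. -/
theorem not_hasNormalPComplement_two {G : Type*} [Group G] [Finite G] [IsSimpleGroup G]
    (hG : ¬ IsMulCommutative G) (h2 : Even (Nat.card G)) : ¬ Cfsg.HasNormalPComplement 2 G := by
  have : Fact (Nat.Prime 2) := ⟨Nat.prime_two⟩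
  rintro ⟨P, N, hN, hcompl⟩
  rcases hN.eq_bot_or_eq_top with hNb | hNt
  · subst hNb
    have hP : (P : Subgroup G) = ⊤ := Subgroup.isComplement'_bot_left.1 hcompl
    have h2G : IsPGroup 2 G := by
      intro x
      have hx : x ∈ (P : Subgroup G) := hP ▸ Subgroup.mem_top x
      obtain ⟨k, hk⟩ := P.isPGroup' ⟨x, hx⟩
      exact ⟨k, by simpa using congrArg Subtype.val hk⟩
    have : Nontrivial G := IsSimpleGroup.toNontrivial
    have hc : Nontrivial (Subgroup.center G) := h2G.center_nontrivial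
    have hcn : Subgroup.center G = ⊤ := by
      rcases (inferInstance : (Subgroup.center G).Normal).eq_bot_or_eq_top with hb | ht
      · exact absurd hb ((Subgroup.nontrivial_iff_ne_bot _).1 hc)
      · exact ht
    exact hG (Subgroup.center_eq_top_iff.1 hcn)
  · subst hNt
    have hP : (P : Subgroup G) = ⊥ := Subgroup.isComplement'_top_left.1 hcompl
    have hcard : Nat.card P = 2 ^ (Nat.card G).factorization 2 := P.card_eq_multiplicity
    have h1 : Nat.card (P : Subgroup G) = 1 := by rw [hP]; exact Subgroup.card_bot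
    have hd : 2 ∣ Nat.card G := even_iff_two_dvd.1 h2
    have h3 : 1 ≤ (Nat.card G).factorization 2 :=
      (Nat.prime_two.dvd_iff_one_le_factorization Nat.card_pos.ne').1 hd
    have h4 : 2 ^ 1 ≤ 2 ^ (Nat.card G).factorization 2 := Nat.pow_le_pow_right (by norm_num) h3
    have h5 : Nat.card (P : Subgroup G) = Nat.card P := rfl
    omega

/-- A non-abelian finite simple group of even order has order divisible by 12, 16 or 56. -/
theorem result {G : Type*} [Group G] [Finite G] [IsSimpleGroup G]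
    (hG : ¬ IsMulCommutative G) (h2 : Even (Nat.card G)) :
    12 ∣ Nat.card G ∨ 16 ∣ Nat.card G ∨ 56 ∣ Nat.card G := by
  have : Fact (Nat.Prime 2) := ⟨Nat.prime_two⟩
  have hncc : ¬ Cfsg.Agent.Lib.Helper2.CoprimeCentralizes 2 G := fun hc =>
    not_hasNormalPComplement_two hG h2
      (Cfsg.Agent.Lib.Helper2.hasNormalPComplement_of_coprimeCentralizes hc)
  unfold Cfsg.Agent.Lib.Helper2.CoprimeCentralizes at hncc
  push Not at hncc
  obtain ⟨H, hH, g, hgN, hgodd, hgC⟩ := hncc
  obtain ⟨r, k, j, hr, hrn, ho, hK⟩ := exists_pow_prime_pow_order_not_mem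
    (Subgroup.centralizer (H : Set G)) _ g rfl (orderOf_pos g) hgC
  have : Fact r.Prime := ⟨hr⟩
  have hxN : g ^ j ∈ Subgroup.normalizer (H : Set G) := Subgroup.pow_mem _ hgN j
  have hRp : IsPGroup r (Subgroup.zpowers (g ^ j)) :=
    IsPGroup.of_card (n := k) (by rw [Nat.card_zpowers, ho])
  have hRN : Subgroup.zpowers (g ^ j) ≤ Subgroup.normalizer (H : Set G) :=
    (Subgroup.zpowers_le).2 hxN
  have hcong := card_modEq_card_inf_centralizer r H (Subgroup.zpowers (g ^ j)) hRp hRN
  obtain ⟨a, ha⟩ := IsPGroup.iff_card.1 hH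
  have hF2 : IsPGroup 2 (H ⊓ Subgroup.centralizer ((Subgroup.zpowers (g ^ j) : Subgroup G) : Set G) :
      Subgroup G) := hH.to_le inf_le_left
  obtain ⟨b, hb⟩ := IsPGroup.iff_card.1 hF2
  have hFne : (H ⊓ Subgroup.centralizer ((Subgroup.zpowers (g ^ j) : Subgroup G) : Set G) :
      Subgroup G) ≠ H := by
    intro heq
    apply hK
    rw [Subgroup.mem_centralizer_iff]
    intro h hh
    have hh' : h ∈ (H ⊓ Subgroup.centralizer
        ((Subgroup.zpowers (g ^ j) : Subgroup G) : Set G) : Subgroup G) := by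
      rw [heq]; exact hh
    have := (Subgroup.mem_centralizer_iff.1 hh'.2) (g ^ j) (Subgroup.mem_zpowers _)
    exact this.symm
  have hba : b < a := by
    have hdvd : Nat.card (H ⊓ Subgroup.centralizer
        ((Subgroup.zpowers (g ^ j) : Subgroup G) : Set G) : Subgroup G) ∣ Nat.card H :=
      Subgroup.card_dvd_of_le inf_le_left
    rw [ha, hb] at hdvd
    have hle : b ≤ a := (Nat.pow_dvd_pow_iff_le_right (by norm_num)).1 hdvd
    rcases hle.lt_or_eq with hlt | heq
    · exact hlt
    · exfalso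
      apply hFne
      apply Subgroup.eq_of_le_of_card_ge inf_le_left
      rw [ha, hb, heq]
  rw [ha, hb] at hcong
  have hr2 : r ≠ 2 := by
    rintro rfl
    have : (2 : ℕ) ∣ 1 := by
      have := Nat.dvd_gcd hrn (dvd_refl 2)
      rwa [hgodd] at this
    omega
  have hr_dvd_G : r ∣ Nat.card G := hrn.trans (orderOf_dvd_natCard g)
  have h2a : 2 ^ a ∣ Nat.card G := ha ▸ Subgroup.card_subgroup_dvd_card H
  have hrd : r ∣ 2 ^ a - 2 ^ b :=
    (Nat.modEq_iff_dvd' (Nat.pow_le_pow_right (by norm_num) hba.le)).1 hcong.symm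
  by_cases ha4 : 4 ≤ a
  · right; left
    exact (pow_dvd_pow 2 ha4).trans h2a
  · have ha3 : a ≤ 3 := by omega
    have h3 : r ∣ 3 → r = 3 := fun h => (Nat.prime_dvd_prime_iff_eq hr Nat.prime_three).1 h
    have h2' : r ∣ 2 → False := fun h => hr2 ((Nat.prime_dvd_prime_iff_eq hr Nat.prime_two).1 h)
    have h7 : r ∣ 7 → r = 7 := fun h => (Nat.prime_dvd_prime_iff_eq hr (by norm_num)).1 h
    interval_cases a <;> interval_cases b
    · -- (1,0): r ∣ 1
      exfalso
      have : r ∣ 1 := by simpa using hrd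
      exact hr.one_lt.ne' (Nat.dvd_one.1 this)
    · -- (2,0): r ∣ 3
      left
      have hr3 : r = 3 := h3 (by simpa using hrd)
      rw [hr3] at hr_dvd_G
      exact Nat.Coprime.mul_dvd_of_dvd_of_dvd (by norm_num : Nat.Coprime 4 3)
        (by simpa using h2a) hr_dvd_G
    · -- (2,1): r ∣ 2
      exfalso
      exact h2' (by simpa using hrd)
    · -- (3,0): r ∣ 7
      right; right
      have hr7 : r = 7 := h7 (by simpa using hrd)
      rw [hr7] at hr_dvd_G
      exact Nat.Coprime.mul_dvd_of_dvd_of_dvd (by norm_num : Nat.Coprime 8 7)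
        (by simpa using h2a) hr_dvd_G
    · -- (3,1): r ∣ 6
      left
      have h6 : r ∣ 2 * 3 := by simpa using hrd
      rcases (Nat.Prime.dvd_mul hr).1 h6 with h | h
      · exact absurd h h2'
      · have hr3 : r = 3 := h3 h
        rw [hr3] at hr_dvd_G
        have h8 : 8 ∣ Nat.card G := by simpa using h2a
        exact Nat.Coprime.mul_dvd_of_dvd_of_dvd (by norm_num : Nat.Coprime 4 3)
          ((by norm_num : (4 : ℕ) ∣ 8).trans h8) hr_dvd_G
    · -- (3,2): r ∣ 4
      exfalso
      have h4 : r ∣ 2 * 2 := by simpa using hrd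
      rcases (Nat.Prime.dvd_mul hr).1 h4 with h | h <;> exact h2' h

end Cfsg.Agent.S0499
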