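import Cfsg.Statements.S0502
import Cfsg.Agent.Lib.Helper38.KleinFour
import Cfsg.Agent.Lib.Helper9.PrimePowerWitness

set_option autoImplicit false
open Cfsg

namespace Cfsg.Agent.S0502

open Cfsg.Agent.Lib.Helper9 Cfsg.Agent.Lib.Helper38

/-- For an involution `a` acting on a normal elementary abelian 2-subgroup `E`,
`|E| ≤ |C_E(a)|²`. -/
theorem card_le_card_centralizer_sq {P : Type*} [Group P] [Finite P] (E : Subgroup P)
    [hEn : E.Normal] (hEc : ∀ x ∈ E, ∀ y ∈ E, x * y = y * x) (hE2 : ∀ e ∈ E, e * e = 1)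
    (a : P) (ha : a * a = 1) :
    Nat.card E ≤ Nat.card (E ⊓ Subgroup.centralizer {a} : Subgroup P) ^ 2 := by
  have hainv : a⁻¹ = a := inv_eq_of_mul_eq_one_left ha
  let φ : E →* E :=
    { toFun := fun x => ⟨(x : P) * (a * x * a⁻¹), E.mul_mem x.2 (hEn.conj_mem x x.2 a)⟩
      map_one' := by
        apply Subtype.ext
        simp
      map_mul' := by
        intro x y
        apply Subtype.ext
        simp only [Subgroup.coe_mul]
        have h2 := hEc y y.2 (a * x * a⁻¹) (hEn.conj_mem x x.2 a)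
        calc (x : P) * y * (a * (x * y) * a⁻¹)
            = x * (y * (a * x * a⁻¹)) * (a * y * a⁻¹) := by group
          _ = x * ((a * x * a⁻¹) * y) * (a * y * a⁻¹) := by rw [h2]
          _ = x * (a * x * a⁻¹) * (y * (a * y * a⁻¹)) := by group }
  have hφ : ∀ x : E, ((φ x : E) : P) = (x : P) * (a * x * a⁻¹) := fun _ => rfl
  have hcard : Nat.card φ.ker * Nat.card φ.range = Nat.card E := by
    rw [← Subgroup.index_ker, mul_comm]
    exact Subgroup.index_mul_card _
  have hker : Nat.card φ.ker ≤ Nat.card (E ⊓ Subgroup.centralizer {a} : Subgroup P) := by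
    refine Nat.card_le_card_of_injective
      (fun x => ⟨((x : E) : P), (x : E).2, ?_⟩) ?_
    · change ((x : E) : P) ∈ Subgroup.centralizer {a}
      rw [Subgroup.mem_centralizer_singleton_iff]
      have hx : φ (x : E) = 1 := x.2
      have hx' := congrArg Subtype.val hx
      rw [hφ] at hx'
      change ((x : E) : P) * (a * (x : E) * a⁻¹) = 1 at hx'
      have hxx : ((x : E) : P) * ((x : E) : P) = 1 := hE2 _ (x : E).2
      have h3 : a * ((x : E) : P) * a⁻¹ = ((x : E) : P) := by
        have : a * ((x : E) : P) * a⁻¹ = ((x : E) : P)⁻¹ := eq_inv_of_mul_eq_one_right hx'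
        rw [this]
        exact inv_eq_of_mul_eq_one_left hxx
      calc ((x : E) : P) * a = (a * ((x : E) : P) * a⁻¹) * a := by rw [h3]
        _ = a * ((x : E) : P) := by group
    · intro x y hxy
      apply Subtype.ext
      apply Subtype.ext
      have := congrArg Subtype.val hxy
      exact this
  have hrange : Nat.card φ.range ≤ Nat.card (E ⊓ Subgroup.centralizer {a} : Subgroup P) := by
    refine Nat.card_le_card_of_injective
      (fun y => ⟨((y : E) : P), (y : E).2, ?_⟩) ?_
    · change ((y : E) : P) ∈ Subgroup.centralizer {a}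
      rw [Subgroup.mem_centralizer_singleton_iff]
      obtain ⟨x, hx⟩ := y.2
      have hy : ((y : E) : P) = (x : P) * (a * x * a⁻¹) := by rw [← hx]; rfl
      have h2 := hEc x x.2 (a * x * a⁻¹) (hEn.conj_mem x x.2 a)
      rw [hy]
      calc (x : P) * (a * x * a⁻¹) * a = (a * x * a⁻¹) * x * a := by rw [h2]
        _ = a * x * (a⁻¹ * x * a) := by group
        _ = a * x * (a * x * a⁻¹) := by
            have : a⁻¹ * (x : P) * a = a * x * a⁻¹ := by rw [hainv]
            rw [this]
        _ = a * ((x : P) * (a * x * a⁻¹)) := by group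
    · intro x y hxy
      apply Subtype.ext
      apply Subtype.ext
      have := congrArg Subtype.val hxy
      exact this
  calc Nat.card E = Nat.card φ.ker * Nat.card φ.range := hcard.symm
    _ ≤ Nat.card (E ⊓ Subgroup.centralizer {a} : Subgroup P) *
        Nat.card (E ⊓ Subgroup.centralizer {a} : Subgroup P) := Nat.mul_le_mul hker hrange
    _ = _ := (sq _).symm

theorem reflTransGen_symm {α : Type*} {r : α → α → Prop} (hr : ∀ x y, r x y → r y x) {a b : α}
    (h : Relation.ReflTransGen r a b) : Relation.ReflTransGen r b a := by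
  induction h with
  | refl => exact Relation.ReflTransGen.refl
  | tail _ hbc ih => exact Relation.ReflTransGen.head (hr _ _ hbc) ih

theorem exists_mem_ne_ne {P : Type*} [Group P] [Finite P] (C : Subgroup P)
    (h : 3 ≤ Nat.card C) (x y : P) : ∃ z ∈ C, z ≠ x ∧ z ≠ y := by
  have h1 : ({x, y} : Set P).ncard < ((C : Set P)).ncard := by
    have h2 : ({x, y} : Set P).ncard ≤ 2 := by
      calc ({x, y} : Set P).ncard ≤ ({y} : Set P).ncard + 1 := Set.ncard_insert_le x {y}
        _ = 2 := by rw [Set.ncard_singleton]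
    have h3 : ((C : Set P)).ncard = Nat.card C := (Nat.card_coe_set_eq (C : Set P)).symm
    omega
  obtain ⟨z, hzC, hz⟩ := Set.exists_mem_notMem_of_ncard_lt_ncard h1 (Set.toFinite _)
  refine ⟨z, hzC, ?_, ?_⟩
  · rintro rfl
    exact hz (Set.mem_insert _ _)
  · rintro rfl
    exact hz (Set.mem_insert_of_mem _ rfl)

/-- Every four-subgroup is joined to a four-subgroup of `E`. -/
theorem step {P : Type*} [Group P] [Finite P] (hP : IsPGroup 2 P)
    (E : Subgroup P) [hEn : E.Normal] (hEc : ∀ x ∈ E, ∀ y ∈ E, x * y = y * x)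
    (hE2 : ∀ e ∈ E, e * e = 1) (hE8 : 8 ≤ Nat.card E) (U : Subgroup P) (hU : IsKleinFour U) :
    ∃ A : Subgroup P, IsKleinFour A ∧ A ≤ E ∧ Relation.ReflTransGen
      (fun A B : Subgroup P => IsKleinFour A ∧ IsKleinFour B ∧ ∀ a ∈ A, ∀ b ∈ B, a * b = b * a)
      U A := by
  have : Fact (Nat.Prime 2) := ⟨Nat.prime_two⟩
  -- a nontrivial element of `E` centralizing `U`
  have hUN : U ≤ Subgroup.normalizer (E : Set P) := by
    intro u _
    rw [Subgroup.mem_normalizer_iff]
    intro h
    refine ⟨fun hh => hEn.conj_mem h hh u, fun hh => ?_⟩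
    have := hEn.conj_mem _ hh u⁻¹
    simpa [mul_assoc] using this
  have hcong := card_modEq_card_inf_centralizer 2 E U (hP.to_subgroup U) hUN
  have hEeven : 2 ∣ Nat.card E := by
    obtain ⟨k, hk⟩ := IsPGroup.iff_card.1 (hP.to_subgroup E)
    rw [hk]
    apply dvd_pow_self
    rintro rfl
    rw [hk] at hE8
    norm_num at hE8
  have hCne : (E ⊓ Subgroup.centralizer (U : Set P) : Subgroup P) ≠ ⊥ := by
    intro hbot
    rw [hbot, Subgroup.card_bot] at hcong
    have h0 : Nat.card E % 2 = 0 := Nat.mod_eq_zero_of_dvd hEeven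
    have h1 : Nat.card E % 2 = 1 % 2 := hcong
    omega
  obtain ⟨e, heC, he1⟩ := (Subgroup.bot_or_exists_ne_one _).resolve_left hCne
  have heE : e ∈ E := heC.1
  have heU : ∀ u ∈ U, e * u = u * e := fun u hu =>
    ((Subgroup.mem_centralizer_iff.1 heC.2) u hu).symm
  -- an element of `U` outside `{1, e}`
  obtain ⟨a, haU, ha1, hae⟩ := exists_mem_ne_ne U (by rw [hU.card_four]; norm_num) 1 e
  have haa : a * a = 1 := IsKleinFour_mul_self U hU haU
  have hee : e * e = 1 := hE2 e heE
  have hac : a * e = e * a := (heU a haU).symm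
  -- two elements of `C_E(a)`
  have hsq := card_le_card_centralizer_sq E hEc hE2 a haa
  have hC3 : 3 ≤ Nat.card (E ⊓ Subgroup.centralizer {a} : Subgroup P) := by
    by_contra hlt
    have hle : Nat.card (E ⊓ Subgroup.centralizer {a} : Subgroup P) ≤ 2 := by omega
    have : Nat.card (E ⊓ Subgroup.centralizer {a} : Subgroup P) ^ 2 ≤ 2 ^ 2 :=
      Nat.pow_le_pow_left hle 2
    omega
  obtain ⟨e₁, he₁C, he₁1, -⟩ := exists_mem_ne_ne _ hC3 1 1
  obtain ⟨e₂, he₂C, he₂1, he₂e₁⟩ := exists_mem_ne_ne _ hC3 1 e₁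
  have he₁a : e₁ * a = a * e₁ := Subgroup.mem_centralizer_singleton_iff.1 he₁C.2
  have he₂a : e₂ * a = a * e₂ := Subgroup.mem_centralizer_singleton_iff.1 he₂C.2
  have h12 : e₁ * e₂ = e₂ * e₁ := hEc e₁ he₁C.1 e₂ he₂C.1
  -- the chain
  refine ⟨klein4 e₁ e₂ (hE2 e₁ he₁C.1) (hE2 e₂ he₂C.1) h12,
    isKleinFour_klein4 _ _ _ _ _ he₁1 he₂1 (Ne.symm he₂e₁), ?_, ?_⟩
  · intro x hx
    rcases (mem_klein4 _ _ _ _ _ x).1 hx with rfl | rfl | rfl | rfl
    · exact E.one_mem
    · exact he₁C.1
    · exact he₂C.1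
    · exact E.mul_mem he₁C.1 he₂C.1
  · have hU' : IsKleinFour (klein4 a e haa hee hac) :=
      isKleinFour_klein4 _ _ _ _ _ ha1 he1 hae
    have hA : IsKleinFour (klein4 e₁ e₂ (hE2 e₁ he₁C.1) (hE2 e₂ he₂C.1) h12) :=
      isKleinFour_klein4 _ _ _ _ _ he₁1 he₂1 (Ne.symm he₂e₁)
    refine Relation.ReflTransGen.tail (Relation.ReflTransGen.single ⟨hU, hU', ?_⟩) ⟨hU', hA, ?_⟩
    · intro u hu w hw
      rcases (mem_klein4 _ _ _ _ _ w).1 hw with rfl | rfl | rfl | rfl
      · simp
      · exact IsKleinFour_comm U hU hu haU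
      · exact (heU u hu).symm
      · rw [← mul_assoc, IsKleinFour_comm U hU hu haU, mul_assoc, ← heU u hu, mul_assoc]
    · intro w hw x hx
      -- `x ∈ E` commutes with `a` and with `e`
      have hxE : x ∈ E ∧ x * a = a * x := by
        rcases (mem_klein4 _ _ _ _ _ x).1 hx with rfl | rfl | rfl | rfl
        · exact ⟨E.one_mem, by simp⟩
        · exact ⟨he₁C.1, he₁a⟩
        · exact ⟨he₂C.1, he₂a⟩
        · refine ⟨E.mul_mem he₁C.1 he₂C.1, ?_⟩
          rw [mul_assoc, he₂a, ← mul_assoc, he₁a, mul_assoc]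
      have hxe : x * e = e * x := hEc x hxE.1 e heE
      rcases (mem_klein4 _ _ _ _ _ w).1 hw with rfl | rfl | rfl | rfl
      · simp
      · exact hxE.2.symm
      · exact hxe.symm
      · rw [mul_assoc, ← hxe, ← mul_assoc, ← hxE.2, mul_assoc]

/-- If a finite 2-group has a normal elementary abelian subgroup of order at least 8, then any two of its Klein
four-subgroups are joined by a chain of Klein four-subgroups with consecutive members commuting elementwise. -/
theorem result {P : Type*} [Group P] [Finite P] (hP : IsPGroup 2 P)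
    (E : Subgroup P) [E.Normal] (hE : IsMulCommutative E) (hE2 : ∀ e ∈ E, e ^ 2 = 1) (hE8 : 8 ≤ Nat.card E) :
    Cfsg.IsFourConnected P := by
  have hEc : ∀ x ∈ E, ∀ y ∈ E, x * y = y * x := by
    intro x hx y hy
    have h1 := mul_comm' (⟨x, hx⟩ : E) ⟨y, hy⟩
    exact congrArg Subtype.val h1
  have hE2' : ∀ e ∈ E, e * e = 1 := fun e he => by rw [← sq]; exact hE2 e he
  intro U V hU hV
  obtain ⟨A, hA, hAE, hUA⟩ := step hP E hEc hE2' hE8 U hU
  obtain ⟨B, hB, hBE, hVB⟩ := step hP E hEc hE2' hE8 V hV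
  have hsymm : ∀ X Y : Subgroup P, (fun A B : Subgroup P =>
      IsKleinFour A ∧ IsKleinFour B ∧ ∀ a ∈ A, ∀ b ∈ B, a * b = b * a) X Y →
      (fun A B : Subgroup P =>
      IsKleinFour A ∧ IsKleinFour B ∧ ∀ a ∈ A, ∀ b ∈ B, a * b = b * a) Y X := by
    rintro X Y ⟨hX, hY, hXY⟩
    exact ⟨hY, hX, fun y hy x hx => (hXY x hx y hy).symm⟩
  have hBV := reflTransGen_symm hsymm hVB
  have hAB : (fun A B : Subgroup P =>
      IsKleinFour A ∧ IsKleinFour B ∧ ∀ a ∈ A, ∀ b ∈ B, a * b = b * a) A B :=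
    ⟨hA, hB, fun a ha b hb => hEc a (hAE ha) b (hBE hb)⟩
  exact (hUA.tail hAB).trans hBV

end Cfsg.Agent.S0502
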