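import Mathlib
import Cfsg.Statements.S0505
import Cfsg.Agent.S1789

set_option autoImplicit false
open Cfsg

namespace Cfsg.Agent.S0505

open Cfsg.Agent.Lib.Helper31

theorem no_component_of_solvable {H : Type*} [Group H] (hs : Group.IsSolvable H)
    (K : Subgroup H) : ¬ IsComponent K := by
  rintro ⟨-, hperf, hsimple⟩
  have hnt : Nontrivial (↥K ⧸ Subgroup.center ↥K) := hsimple.toNontrivial
  have hntK : Nontrivial ↥K :=
    Function.Surjective.nontrivial (QuotientGroup.mk'_surjective (Subgroup.center ↥K))
  have hsK : Group.IsSolvable ↥K := inferInstance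
  exact Group.IsPerfect.not_isSolvable ↥K hsK

/-- Let G be a finite group of even order in which the centralizer of every involution is solvable and has trivial
core (no nontrivial normal subgroup of odd order). Then G is of characteristic 2 type. -/
theorem result {G : Type*} [Group G] [Finite G]
    (h2 : Even (Nat.card G))
    (hs : ∀ t : G, orderOf t = 2 → Group.IsSolvable (Subgroup.centralizer ({t} : Set G)))
    (hc : ∀ t : G, orderOf t = 2 → Cfsg.oddCore (Subgroup.centralizer ({t} : Set G)) = ⊥) :
    Cfsg.IsCharacteristicTwoType G := by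
  have : Fact (Nat.Prime 2) := ⟨Nat.prime_two⟩
  have hcent : ∀ x : G, orderOf x = 2 → CharP 2 (Subgroup.centralizer ({x} : Set G)) := by
    intro x hx
    rw [charP_iff_generalizedFittingSubgroup_eq]
    apply Cfsg.Agent.S1789.gfs_eq_pCore (hc x hx)
    intro K
    have hsx := hs x hx
    exact no_component_of_solvable inferInstance K
  refine ⟨h2, ?_⟩
  intro T hT hTne
  have h2' : 2 ∣ Nat.card T := by
    rcases hT.card_eq_or_dvd with h1 | h1
    · exact absurd (Subgroup.eq_bot_of_card_eq T h1) hTne
    · exact h1
  obtain ⟨t, ht⟩ := exists_prime_orderOf_dvd_card' 2 h2'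
  have ht' : orderOf (t : G) = 2 := by rw [Subgroup.orderOf_coe]; exact ht
  have hA : CharP 2 (Subgroup.normalizer ((Subgroup.zpowers (t : G) : Subgroup G) : Set G)) := by
    rw [Cfsg.Agent.S1789.normalizer_zpowers_eq _ ht']
    exact hcent _ ht'
  exact charP_normalizer_of_le_of_charP hT (Subgroup.zpowers_le.mpr t.2) hA

end Cfsg.Agent.S0505
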