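import Cfsg.Statements.S0520
import Cfsg.Agent.Lib.Helper9.FourGroups
import Cfsg.Agent.Lib.Helper9.WielandtThree
import Cfsg.Agent.Lib.Helper9.ComplSys

set_option autoImplicit false
open Cfsg
open scoped Pointwise

namespace Cfsg.Agent.S0520

open Cfsg.Agent.Lib.Helper9

/-- If every element of `X` conjugates `W` into itself, then `X` normalizes `W`. -/
theorem le_normalizer_of_forall_conj_smul_le' {G : Type*} [Group G] (X W : Subgroup G)
    (h : ∀ x ∈ X, MulAut.conj x • W ≤ W) : X ≤ Subgroup.normalizer (W : Set G) := by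
  intro x hx
  rw [mem_normalizer_iff_conj_smul_eq_h9]
  apply le_antisymm (h x hx)
  rw [Subgroup.subset_pointwise_smul_iff, ← map_inv]
  exact h x⁻¹ (X.inv_mem hx)

/-- 2-subgroups of `M ≥ S` are `M`-conjugate into `S`. -/
theorem exists_conj_smul_le_of_le {G : Type*} [Group G] [Finite G] (S : Sylow 2 G)
    (M T : Subgroup G) (hSM : (S : Subgroup G) ≤ M) (hTM : T ≤ M) (hT : IsPGroup 2 T) :
    ∃ m ∈ M, MulAut.conj m • T ≤ (S : Subgroup G) := by
  have : Fact (Nat.Prime 2) := ⟨Nat.prime_two⟩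
  have hT' : IsPGroup 2 (T.subgroupOf M) := hT.comap_subtype
  have hH : ¬ 2 ∣ ((S : Subgroup G).subgroupOf M).index := by
    intro hd
    apply S.not_dvd_index
    have h1 := Subgroup.relIndex_mul_index hSM
    rw [← h1]
    exact Dvd.dvd.mul_right hd _
  obtain ⟨g, hg⟩ := exists_conj_le_of_not_dvd_index 2 (T.subgroupOf M)
    ((S : Subgroup G).subgroupOf M) hT' hH
  refine ⟨((g⁻¹ : M) : G), (g⁻¹).2, ?_⟩
  intro x hx
  obtain ⟨t, ht, rfl⟩ := (mem_conj_smul_iff _ x T).1 hx
  have h1 := hg ⟨t, hTM ht⟩ (Subgroup.mem_subgroupOf.2 ht)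
  have h2 := Subgroup.mem_subgroupOf.1 h1
  simpa using h2

theorem core_eq_top_of_connected {G : Type*} [Group G] [Finite G] (h2 : ¬ Cfsg.PRankLE 2 1 G)
    (S : Sylow 2 G) (hconn : Cfsg.IsFourConnected G) :
    (⨆ Q : {Q : Subgroup G // Q ≤ (S : Subgroup G) ∧ ¬ Cfsg.PRankLE 2 1 Q},
          Subgroup.normalizer ((Q : Subgroup G) : Set G)) = ⊤ := by
  have : Fact (Nat.Prime 2) := ⟨Nat.prime_two⟩
  set M := (⨆ Q : {Q : Subgroup G // Q ≤ (S : Subgroup G) ∧ ¬ Cfsg.PRankLE 2 1 Q},
          Subgroup.normalizer ((Q : Subgroup G) : Set G)) with hM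
  have hF1 : ∀ Q A : Subgroup G, Q ≤ (S : Subgroup G) → IsKleinFour A → A ≤ Q →
      Subgroup.normalizer (Q : Set G) ≤ M := by
    intro Q A hQS hA hAQ
    exact le_iSup (fun Q : {Q : Subgroup G // Q ≤ (S : Subgroup G) ∧ ¬ Cfsg.PRankLE 2 1 Q} =>
      Subgroup.normalizer ((Q : Subgroup G) : Set G))
      ⟨Q, hQS, not_pRankLE_of_isKleinFour_le Q A hA hAQ⟩
  obtain ⟨V, hV⟩ := exists_isKleinFour_of_not_pRankLE h2
  obtain ⟨g₀, hg₀⟩ := exists_conj_smul_le_sylow 2 S V (isPGroup_two_of_isKleinFour V hV)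
  have hU₀ : IsKleinFour (MulAut.conj g₀ • V : Subgroup G) := isKleinFour_conj_smul g₀ V hV
  have hSN : Subgroup.normalizer ((S : Subgroup G) : Set G) ≤ M := hF1 S _ le_rfl hU₀ hg₀
  have hSM : (S : Subgroup G) ≤ M := le_trans Subgroup.le_normalizer hSN
  -- Claim A
  have hA : ∀ T A : Subgroup G, T ≤ M → IsPGroup 2 T → IsKleinFour A → A ≤ T →
      Subgroup.normalizer (T : Set G) ≤ M := by
    intro T A hTM hT hA hAT
    obtain ⟨m, hmM, hmT⟩ := exists_conj_smul_le_of_le S M T hSM hTM hT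
    have hN := hF1 (MulAut.conj m • T) (MulAut.conj m • A) hmT (isKleinFour_conj_smul m A hA)
      (Subgroup.pointwise_smul_le_pointwise_smul_iff.2 hAT)
    intro x hx
    have hx' : m * x * m⁻¹ ∈
        Subgroup.normalizer ((MulAut.conj m • T : Subgroup G) : Set G) := by
      rw [mem_normalizer_iff_conj_smul_eq_h9] at hx ⊢
      rw [← mul_smul, ← map_mul]
      have : m * x * m⁻¹ * m = m * x := by group
      rw [this, map_mul, mul_smul, hx]
    have h3 := hN hx'
    have : x = m⁻¹ * (m * x * m⁻¹) * m := by group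
    rw [this]
    exact M.mul_mem (M.mul_mem (M.inv_mem hmM) h3) hmM
  -- Claim B: paths stay in M
  have hB : ∀ A B : Subgroup G, Relation.ReflTransGen (FourRel G) A B → A ≤ M → B ≤ M := by
    intro A B hAB
    induction hAB with
    | refl => exact id
    | @tail X Y _ hXY ih =>
      intro hAM
      have hXM := ih hAM
      intro y hy
      apply hA X X hXM (isPGroup_two_of_isKleinFour _ hXY.1) hXY.1 le_rfl
      rw [Subgroup.mem_normalizer_iff]
      intro x
      constructor
      · intro hx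
        have hc := hXY.2.2 x hx y hy
        have : y * x * y⁻¹ = x := by rw [← hc]; group
        rw [this]; exact hx
      · intro hx
        have hc := hXY.2.2 _ hx y hy
        have h' : y * x = y * (y * x * y⁻¹) := by rw [← hc]; group
        have hx2 : x = y * x * y⁻¹ := mul_left_cancel h'
        rw [hx2]; exact hx
  have hall : ∀ A : Subgroup G, IsKleinFour A → A ≤ M := fun A hA' =>
    hB _ A ((isFourConnected_iff G).1 hconn _ A hU₀ hA') (hg₀.trans hSM)
  rw [eq_top_iff]
  intro g _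
  have hT2 : IsPGroup 2 (MulAut.conj g • (S : Subgroup G) : Subgroup G) :=
    (g • S : Sylow 2 G).isPGroup'
  have hT₀M : (⨆ A : {A : Subgroup G // IsKleinFour A ∧ A ≤ MulAut.conj g • (S : Subgroup G)},
      (A : Subgroup G)) ≤ M := iSup_le (fun A => hall A.1 A.2.1)
  have hT₀T : (⨆ A : {A : Subgroup G // IsKleinFour A ∧ A ≤ MulAut.conj g • (S : Subgroup G)},
      (A : Subgroup G)) ≤ MulAut.conj g • (S : Subgroup G) := iSup_le (fun A => A.2.2)
  have hgU : MulAut.conj g • (MulAut.conj g₀ • V) ≤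
      (⨆ A : {A : Subgroup G // IsKleinFour A ∧ A ≤ MulAut.conj g • (S : Subgroup G)},
      (A : Subgroup G)) :=
    le_iSup (fun A : {A : Subgroup G // IsKleinFour A ∧ A ≤ MulAut.conj g • (S : Subgroup G)} =>
      (A : Subgroup G)) ⟨MulAut.conj g • (MulAut.conj g₀ • V), isKleinFour_conj_smul g _ hU₀,
        Subgroup.pointwise_smul_le_pointwise_smul_iff.2 hg₀⟩
  have hTN : MulAut.conj g • (S : Subgroup G) ≤ Subgroup.normalizer
      (((⨆ A : {A : Subgroup G // IsKleinFour A ∧ A ≤ MulAut.conj g • (S : Subgroup G)},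
      (A : Subgroup G)) : Subgroup G) : Set G) := by
    apply le_normalizer_of_forall_conj_smul_le'
    intro t ht
    change Subgroup.map (MulAut.conj t).toMonoidHom _ ≤ _
    rw [Subgroup.map_iSup]
    apply iSup_le
    intro A
    change MulAut.conj t • (A : Subgroup G) ≤ _
    refine le_iSup (fun A : {A : Subgroup G // IsKleinFour A ∧
      A ≤ MulAut.conj g • (S : Subgroup G)} => (A : Subgroup G))
      ⟨MulAut.conj t • (A : Subgroup G), isKleinFour_conj_smul t A A.2.1, ?_⟩
    intro x hx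
    obtain ⟨a, ha, rfl⟩ := (mem_conj_smul_iff t x A).1 hx
    exact Subgroup.mul_mem _ (Subgroup.mul_mem _ ht (A.2.2 ha)) (Subgroup.inv_mem _ ht)
  have hTM : MulAut.conj g • (S : Subgroup G) ≤ M :=
    hTN.trans (hA _ (MulAut.conj g • (MulAut.conj g₀ • V)) hT₀M (hT2.to_le hT₀T)
      (isKleinFour_conj_smul g _ hU₀) hgU)
  obtain ⟨m, hmM, hmT⟩ := exists_conj_smul_le_of_le S M _ hSM hTM hT2
  have heq : MulAut.conj m • (MulAut.conj g • (S : Subgroup G)) = (S : Subgroup G) :=
    Subgroup.eq_of_le_of_card_ge hmT (by rw [card_conj_smul_h9, card_conj_smul_h9])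
  have hmg : m * g ∈ Subgroup.normalizer ((S : Subgroup G) : Set G) := by
    rw [mem_normalizer_iff_conj_smul_eq_h9, map_mul, mul_smul]
    exact heq
  have h5 := hSN hmg
  have : g = m⁻¹ * (m * g) := by group
  rw [this]
  exact M.mul_mem (M.inv_mem hmM) h5

theorem connected_of_core_eq_top {G : Type*} [Group G] [Finite G] (h2 : ¬ Cfsg.PRankLE 2 1 G)
    (S : Sylow 2 G) (hS : Cfsg.IsFourConnected (S : Subgroup G))
    (hM : (⨆ Q : {Q : Subgroup G // Q ≤ (S : Subgroup G) ∧ ¬ Cfsg.PRankLE 2 1 Q},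
          Subgroup.normalizer ((Q : Subgroup G) : Set G)) = ⊤) : Cfsg.IsFourConnected G := by
  have : Fact (Nat.Prime 2) := ⟨Nat.prime_two⟩
  obtain ⟨V, hV⟩ := exists_isKleinFour_of_not_pRankLE h2
  obtain ⟨g₀, hg₀⟩ := exists_conj_smul_le_sylow 2 S V (isPGroup_two_of_isKleinFour V hV)
  have hU₀ : IsKleinFour (MulAut.conj g₀ • V : Subgroup G) := isKleinFour_conj_smul g₀ V hV
  generalize MulAut.conj g₀ • V = U₀ at hg₀ hU₀
  -- the stabilizer-like subgroup
  let H' : Subgroup G :=
    { carrier := {g | Relation.ReflTransGen (FourRel G) U₀ (MulAut.conj g • U₀)}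
      one_mem' := by
        change Relation.ReflTransGen (FourRel G) U₀ (MulAut.conj (1 : G) • U₀)
        rw [map_one, one_smul]
      mul_mem' := by
        intro a b ha hb
        change Relation.ReflTransGen (FourRel G) U₀ (MulAut.conj (a * b) • U₀)
        rw [map_mul, mul_smul]
        exact Relation.ReflTransGen.trans ha (fourConn_conj a hb)
      inv_mem' := by
        intro a ha
        change Relation.ReflTransGen (FourRel G) U₀ (MulAut.conj a⁻¹ • U₀)
        have h1 := fourConn_conj a⁻¹ ha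
        rw [← mul_smul, ← map_mul, inv_mul_cancel, map_one, one_smul] at h1
        exact fourConn_symm h1 }
  have hH'mem : ∀ g, g ∈ H' ↔ Relation.ReflTransGen (FourRel G) U₀ (MulAut.conj g • U₀) :=
    fun _ => Iff.rfl
  have hNH : ∀ Q : {Q : Subgroup G // Q ≤ (S : Subgroup G) ∧ ¬ Cfsg.PRankLE 2 1 Q},
      Subgroup.normalizer ((Q : Subgroup G) : Set G) ≤ H' := by
    rintro ⟨Q, hQS, hQr⟩ g hg
    obtain ⟨A, hA, hAQ⟩ := exists_isKleinFour_le_of_not_pRankLE Q hQr
    rw [hH'mem]
    have hgQ : MulAut.conj g • Q = Q := (mem_normalizer_iff_conj_smul_eq_h9 g Q).1 hg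
    have hgA : MulAut.conj g • A ≤ (S : Subgroup G) := by
      refine le_trans ?_ hQS
      rw [← hgQ]
      exact Subgroup.pointwise_smul_le_pointwise_smul_iff.2 hAQ
    have h1 := fourConn_of_le S hS U₀ A hU₀ hA hg₀ (hAQ.trans hQS)
    have h2' := fourConn_of_le S hS U₀ (MulAut.conj g • A) hU₀ (isKleinFour_conj_smul g A hA)
      hg₀ hgA
    have h3 := fourConn_conj g h1
    exact Relation.ReflTransGen.trans h2' (fourConn_symm h3)
  have hH' : H' = ⊤ := by
    rw [eq_top_iff, ← hM]
    exact iSup_le hNH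
  have key : ∀ U : Subgroup G, IsKleinFour U → Relation.ReflTransGen (FourRel G) U₀ U := by
    intro U hU
    obtain ⟨g, hg⟩ := exists_conj_smul_le_sylow 2 S U (isPGroup_two_of_isKleinFour U hU)
    have h1 := fourConn_of_le S hS U₀ _ hU₀ (isKleinFour_conj_smul g U hU) hg₀ hg
    have h2' := fourConn_conj g⁻¹ h1
    rw [← mul_smul, ← map_mul, inv_mul_cancel, map_one, one_smul] at h2'
    have h3 : g⁻¹ ∈ H' := by rw [hH']; exact Subgroup.mem_top _
    exact Relation.ReflTransGen.trans ((hH'mem _).1 h3) h2'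
  rw [isFourConnected_iff]
  intro U W hU hW
  exact Relation.ReflTransGen.trans (fourConn_symm (key U hU)) (key W hW)

/-- Let G be a finite group of 2-rank at least 2 and S a Sylow 2-subgroup whose commuting graph of Klein four-subgroups is
connected. Then the commuting graph of Klein four-subgroups of G is disconnected if and only if the 2-generated core — the
subgroup generated by the normalizers N_G(Q) of the subgroups Q of S that contain a Klein four-group — is a proper
subgroup of G. -/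
theorem result {G : Type*} [Group G] [Finite G] (h2 : ¬ Cfsg.PRankLE 2 1 G)
    (S : Sylow 2 G) (hS : Cfsg.IsFourConnected (S : Subgroup G)) :
    ¬ Cfsg.IsFourConnected G ↔
      (⨆ Q : {Q : Subgroup G // Q ≤ (S : Subgroup G) ∧ ¬ Cfsg.PRankLE 2 1 Q},
          Subgroup.normalizer ((Q : Subgroup G) : Set G)) ≠ ⊤ := by
  constructor
  · intro hnc hM
    exact hnc (connected_of_core_eq_top h2 S hS hM)
  · intro hM hc
    exact hM (core_eq_top_of_connected h2 S hc)

end Cfsg.Agent.S0520
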