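import Cfsg.Statements.S0521
import Mathlib
import Cfsg.Agent.S0199
import Cfsg.Agent.Lib.Helper55.Cores
import Cfsg.Agent.Lib.Helper1.MinimalNormal

set_option autoImplicit false
open Cfsg

namespace Cfsg.Agent.S0521

open Cfsg.Agent.Lib.Helper55
open scoped Pointwise commutatorElement

universe u

/-- A `p`-element normalizing a subgroup of order dividing `p` centralizes it. -/
theorem centralizes_of_card_dvd_prime {G : Type*} [Group G] [Finite G] {p : ℕ} [hp : Fact p.Prime]
    (A : Subgroup G) (hA : Nat.card A ∣ p) (x : G) (hxN : x ∈ Subgroup.normalizer (A : Set G))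
    (m : ℕ) (hx : x ^ (p ^ m) = 1) : ∀ a ∈ A, x * a * x⁻¹ = a := by
  have hcyc : IsCyclic ↥A := isCyclic_of_card_dvd_prime hA
  have h1 : (A.normalizerMonoidHom ⟨x, hxN⟩) ^ (p ^ m) = 1 := by
    rw [← map_pow]
    have : (⟨x, hxN⟩ : Subgroup.normalizer (A : Set G)) ^ (p ^ m) = 1 :=
      Subtype.ext (by simpa using hx)
    rw [this, map_one]
  have h2 : orderOf (A.normalizerMonoidHom ⟨x, hxN⟩) ∣ p ^ m := orderOf_dvd_of_pow_eq_one h1
  have h3 : orderOf (A.normalizerMonoidHom ⟨x, hxN⟩) ∣ Nat.card (MulAut ↥A) :=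
    orderOf_dvd_natCard _
  rw [IsCyclic.card_mulAut] at h3
  have h4 : (Nat.totient (Nat.card A)).Coprime (p ^ m) := by
    rcases (Nat.dvd_prime hp.out).mp hA with h | h
    · rw [h, Nat.totient_one]; exact Nat.coprime_one_left _
    · rw [h, Nat.totient_prime hp.out]
      apply Nat.Coprime.pow_right
      apply Nat.Coprime.symm
      rw [Nat.Prime.coprime_iff_not_dvd hp.out]
      intro hd
      have h2le := hp.out.two_le
      have := Nat.le_of_dvd (by omega) hd
      omega
  have h5 : orderOf (A.normalizerMonoidHom ⟨x, hxN⟩) = 1 :=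
    Nat.eq_one_of_dvd_coprimes h4 h3 h2
  rw [orderOf_eq_one_iff] at h5
  intro a ha
  have h6 := congrArg (fun σ : MulAut ↥A => ((σ ⟨a, ha⟩ : ↥A) : G)) h5
  simpa using h6

/-- The key computation: two "transvections" with different centres generate a group of even
order. -/
theorem even_contra {G : Type*} [Group G] [Finite G] (hodd : Odd (Nat.card G)) (a b b' x y : G)
    (hab : a * b = b * a) (hxa : x * a * x⁻¹ = a) (hxb : x * b * x⁻¹ = a * b)
    (hyb : y * b * y⁻¹ = b) (hya : y * a * y⁻¹ = a * b') (hyb' : y * b' * y⁻¹ = b')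
    (hb' : b ∈ Subgroup.zpowers b') (hba : b ∉ Subgroup.zpowers a) : False := by
  have hbinv : b⁻¹ ∈ Subgroup.zpowers b' := Subgroup.inv_mem _ hb'
  rw [← (isOfFinOrder_of_finite b').mem_powers_iff_mem_zpowers] at hbinv
  obtain ⟨j, hj⟩ := hbinv
  simp only at hj
  -- conjugation by powers of y
  have hyja : y ^ j * a * (y ^ j)⁻¹ = a * b' ^ j := by
    clear hj
    induction j with
    | zero => simp
    | succ j ih =>
      have h1 : y ^ (j + 1) * a * (y ^ (j + 1))⁻¹ = y * (y ^ j * a * (y ^ j)⁻¹) * y⁻¹ := by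
        rw [pow_succ']; group
      rw [h1, ih]
      have h2 : y * (a * b' ^ j) * y⁻¹ = (y * a * y⁻¹) * (y * b' * y⁻¹) ^ j := by
        rw [conj_pow]; group
      rw [h2, hya, hyb', pow_succ, mul_assoc]
      congr 1
      exact (pow_mul_comm' b' j).symm
  have hyjb : y ^ j * b * (y ^ j)⁻¹ = b := by
    have hc : Commute y b := by
      have : y * b = b * y := by
        calc y * b = (y * b * y⁻¹) * y := by group
          _ = b * y := by rw [hyb]
      exact this
    have := (hc.pow_left j).eq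
    calc y ^ j * b * (y ^ j)⁻¹ = (b * y ^ j) * (y ^ j)⁻¹ := by rw [this]
      _ = b := by group
  rw [hj] at hyja
  obtain ⟨w, hw⟩ : ∃ w : G, w = x * y ^ j * x := ⟨_, rfl⟩
  have hwa : w * a * w⁻¹ = b⁻¹ := by
    calc w * a * w⁻¹ = x * (y ^ j * (x * a * x⁻¹) * (y ^ j)⁻¹) * x⁻¹ := by rw [hw]; group
      _ = x * (a * b⁻¹) * x⁻¹ := by rw [hxa, hyja]
      _ = (x * a * x⁻¹) * (x * b * x⁻¹)⁻¹ := by group
      _ = a * (a * b)⁻¹ := by rw [hxa, hxb]
      _ = b⁻¹ := by rw [hab]; group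
  have hwb : w * b * w⁻¹ = a := by
    calc w * b * w⁻¹ = x * (y ^ j * (x * b * x⁻¹) * (y ^ j)⁻¹) * x⁻¹ := by rw [hw]; group
      _ = x * ((y ^ j * a * (y ^ j)⁻¹) * (y ^ j * b * (y ^ j)⁻¹)) * x⁻¹ := by rw [hxb]; group
      _ = x * (a * b⁻¹ * b) * x⁻¹ := by rw [hyja, hyjb]
      _ = x * a * x⁻¹ := by group
      _ = a := hxa
  have hw2 : w ^ 2 * a * (w ^ 2)⁻¹ = a⁻¹ := by
    calc w ^ 2 * a * (w ^ 2)⁻¹ = w * (w * a * w⁻¹) * w⁻¹ := by rw [pow_two]; group
      _ = (w * b * w⁻¹)⁻¹ := by rw [hwa]; group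
      _ = a⁻¹ := by rw [hwb]
  have hw2' : w ^ 2 * a⁻¹ * (w ^ 2)⁻¹ = a := by
    calc w ^ 2 * a⁻¹ * (w ^ 2)⁻¹ = (w ^ 2 * a * (w ^ 2)⁻¹)⁻¹ := by group
      _ = a := by rw [hw2, inv_inv]
  have hall : ∀ n : ℕ, (w ^ 2) ^ n * a * ((w ^ 2) ^ n)⁻¹ = a ∨
      (w ^ 2) ^ n * a * ((w ^ 2) ^ n)⁻¹ = a⁻¹ := by
    intro n
    induction n with
    | zero => left; simp
    | succ n ih =>
      have h1 : (w ^ 2) ^ (n + 1) * a * ((w ^ 2) ^ (n + 1))⁻¹ =
          w ^ 2 * ((w ^ 2) ^ n * a * ((w ^ 2) ^ n)⁻¹) * (w ^ 2)⁻¹ := by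
        rw [pow_succ']; group
      rw [h1]
      rcases ih with h | h
      · right; rw [h, hw2]
      · left; rw [h, hw2']
  have hwodd : Odd (orderOf w) := hodd.of_dvd_nat (orderOf_dvd_natCard w)
  obtain ⟨k, hk⟩ := hwodd
  have hww : w = (w ^ 2) ^ (k + 1) := by
    rw [← pow_mul, show 2 * (k + 1) = orderOf w + 1 by omega, pow_succ, pow_orderOf_eq_one,
      one_mul]
  apply hba
  rcases hall (k + 1) with h | h
  · rw [← hww, hwa] at h
    have : b = a⁻¹ := by rw [← h, inv_inv]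
    rw [this]; exact Subgroup.inv_mem _ (Subgroup.mem_zpowers a)
  · rw [← hww, hwa] at h
    have : b = a := inv_injective h
    rw [this]; exact Subgroup.mem_zpowers a

/-- The hypothesis: every `p`-subgroup has cyclic commutator subgroup. -/
def HC (p : ℕ) (X : Type*) [Group X] : Prop :=
  ∀ Q : Subgroup X, IsPGroup p Q → IsCyclic ↥⁅Q, Q⁆

theorem HC.subgroup {p : ℕ} {X : Type*} [Group X] (h : HC p X) (Y : Subgroup X) : HC p ↥Y := by
  intro Q hQ
  have h1 := h (Q.map Y.subtype) (hQ.map _)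
  rw [← Subgroup.map_commutator] at h1
  exact (MulEquiv.isCyclic
    (Subgroup.equivMapOfInjective ⁅Q, Q⁆ Y.subtype Y.subtype_injective)).mpr h1

theorem isCyclic_map {G H : Type*} [Group G] [Group H] (f : G →* H) (K : Subgroup G)
    (hK : IsCyclic ↥K) : IsCyclic ↥(K.map f) :=
  isCyclic_of_surjective (f.subgroupMap K) (f.subgroupMap_surjective K)

theorem HC.quotient {p : ℕ} [Fact p.Prime] {X : Type*} [Group X] [Finite X] (h : HC p X)
    (N : Subgroup X) [N.Normal] : HC p (X ⧸ N) := by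
  intro Q hQ
  obtain ⟨T', hT'⟩ := hQ.exists_le_sylow
  obtain ⟨T, rfl⟩ := Sylow.mapSurjective_surjective (QuotientGroup.mk'_surjective N) p T'
  rw [Sylow.coe_mapSurjective] at hT'
  have h1 := h (T : Subgroup X) T.isPGroup'
  have h2 : IsCyclic ↥((⁅(T : Subgroup X), (T : Subgroup X)⁆).map (QuotientGroup.mk' N)) :=
    isCyclic_map _ _ h1
  rw [Subgroup.map_commutator] at h2
  exact Subgroup.isCyclic_of_le (Subgroup.commutator_mono hT' hT')

theorem mem_map_conj {G : Type*} [Group G] (U : Subgroup G) (x y : G) :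
    y ∈ U.map (MulAut.conj x).toMonoidHom ↔ x⁻¹ * y * x ∈ U := by
  constructor
  · rintro ⟨k, hk, rfl⟩
    have : x⁻¹ * ((MulAut.conj x).toMonoidHom k) * x = k := by
      simp only [MulEquiv.toMonoidHom_eq_coe, MonoidHom.coe_coe, MulAut.conj_apply]
      group
    rw [this]; exact hk
  · intro h
    refine ⟨x⁻¹ * y * x, h, ?_⟩
    simp only [MulEquiv.toMonoidHom_eq_coe, MonoidHom.coe_coe, MulAut.conj_apply]
    group

theorem smul_eq_map {G : Type*} [Group G] (U : Subgroup G) (x : G) :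
    MulAut.conj x • U = U.map (MulAut.conj x).toMonoidHom := by
  ext y
  rw [mem_map_conj, Subgroup.mem_pointwise_smul_iff_inv_smul_mem]
  simp only [MulAut.smul_def, MulAut.conj_inv_apply]

theorem HC.of_sylow {p : ℕ} [Fact p.Prime] {X : Type*} [Group X] [Finite X] (S : Sylow p X)
    (hS : IsCyclic (commutator (S : Subgroup X))) : HC p X := by
  intro Q hQ
  obtain ⟨Q', hQ'⟩ := hQ.exists_le_sylow
  obtain ⟨g, hg⟩ := MulAction.exists_smul_eq X S Q'
  have h1 : IsCyclic ↥⁅(S : Subgroup X), (S : Subgroup X)⁆ := by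
    rw [← Subgroup.map_subtype_commutator]
    exact isCyclic_map _ _ hS
  have h2 : IsCyclic ↥⁅(Q' : Subgroup X), (Q' : Subgroup X)⁆ := by
    rw [← hg, Sylow.coe_subgroup_smul, smul_eq_map, ← Subgroup.map_commutator]
    exact isCyclic_map _ _ h1
  exact Subgroup.isCyclic_of_le (Subgroup.commutator_mono hQ' hQ')

/-- `O_{p'}` of a normal subgroup is trivial when `O_{p'}` of the group is. -/
theorem pPrimeCore_eq_bot_of_normal {p : ℕ} {X : Type*} [Group X] [Finite X]
    (hK : pPrimeCore p X = ⊥) (Y : Subgroup X) [hY : Y.Normal] : pPrimeCore p ↥Y = ⊥ := by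
  have hMn : ((pPrimeCore p ↥Y).map Y.subtype).Normal := by
    constructor
    rintro _ ⟨c, hc, rfl⟩ g
    have hcore : (pPrimeCore p ↥Y).map (MulAut.conjNormal g : MulAut ↥Y).toMonoidHom ≤
        pPrimeCore p ↥Y := by
      apply le_pPrimeCore
      · exact (pPrimeCore_normal' p).map _ (MulAut.conjNormal g : MulAut ↥Y).surjective
      · have hinj : Function.Injective ((MulAut.conjNormal g : MulAut ↥Y).toMonoidHom) :=
          (MulAut.conjNormal g : MulAut ↥Y).injective
        rw [Subgroup.card_map_of_injective hinj]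
        exact card_pPrimeCore_coprime p
    have h1 : (MulAut.conjNormal g : MulAut ↥Y) c ∈ pPrimeCore p ↥Y :=
      hcore ⟨c, hc, rfl⟩
    refine ⟨(MulAut.conjNormal g : MulAut ↥Y) c, h1, ?_⟩
    simp
  have hMc : (Nat.card ↥((pPrimeCore p ↥Y).map Y.subtype)).Coprime p := by
    rw [Subgroup.card_map_of_injective Y.subtype_injective]
    exact card_pPrimeCore_coprime p
  have h2 := le_pPrimeCore hMn hMc
  rw [hK] at h2
  rw [eq_bot_iff]
  intro c hc
  have h3 : (c : X) ∈ (pPrimeCore p ↥Y).map Y.subtype := ⟨c, hc, rfl⟩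
  have h4 := h2 h3
  rw [Subgroup.mem_bot] at h4 ⊢
  exact Subtype.ext h4

/-- In the configuration `X / V = O_{p'}(X / V) S / V` with `O_{p'}(X) = 1`, the centralizer of the
abelian normal `p`-subgroup `V` is a `p`-group. -/
theorem centralizer_isPGroup {p : ℕ} [hp : Fact p.Prime] {X : Type*} [Group X] [Finite X]
    (hK : pPrimeCore p X = ⊥) (V : Subgroup X) [hVn : V.Normal] (hVp : IsPGroup p V)
    (hVc : ∀ a ∈ V, ∀ b ∈ V, a * b = b * a) (S : Sylow p X)
    (htop : pPrimeCore p (X ⧸ V) ⊔ (S : Subgroup X).map (QuotientGroup.mk' V) = ⊤) :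
    IsPGroup p ↥(Subgroup.centralizer (V : Set X)) := by
  have hLn : (pPrimeCore p (X ⧸ V)).Normal := pPrimeCore_normal' p
  obtain ⟨L, hL⟩ : ∃ L : Subgroup X, L = (pPrimeCore p (X ⧸ V)).comap (QuotientGroup.mk' V) :=
    ⟨_, rfl⟩
  have hLnorm : L.Normal := hL ▸ hLn.comap _
  obtain ⟨CL, hCL⟩ : ∃ CL : Subgroup X, CL = Subgroup.centralizer (V : Set X) ⊓ L := ⟨_, rfl⟩
  have hCLn : CL.Normal := by
    rw [hCL]; exact Subgroup.normal_inf_normal _ _
  have hVL : V ≤ L := by
    intro v hv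
    rw [hL, Subgroup.mem_comap]
    have : (QuotientGroup.mk' V) v = 1 := (QuotientGroup.eq_one_iff v).mpr hv
    rw [this]; exact Subgroup.one_mem _
  have hVC : V ≤ Subgroup.centralizer (V : Set X) := by
    intro v hv
    rw [Subgroup.mem_centralizer_iff]
    intro w hw
    exact hVc w hw v hv
  have hVCL : V ≤ CL := by rw [hCL]; exact le_inf hVC hVL
  -- the index of `V` in `CL` is prime to `p`
  have hrel : (V.relIndex CL).Coprime p := by
    have h1 : (QuotientGroup.mk' V).ker.relIndex CL = Nat.card (CL.map (QuotientGroup.mk' V)) :=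
      Subgroup.relIndex_ker CL (QuotientGroup.mk' V)
    rw [QuotientGroup.ker_mk'] at h1
    rw [h1]
    have h2 : CL.map (QuotientGroup.mk' V) ≤ pPrimeCore p (X ⧸ V) := by
      rw [Subgroup.map_le_iff_le_comap, ← hL, hCL]; exact inf_le_right
    exact Nat.Coprime.coprime_dvd_left (Subgroup.card_dvd_of_le h2) (card_pPrimeCore_coprime p)
  -- Burnside transfer inside `CL`
  have hCLeq : CL ≤ V := by
    have hcore : pPrimeCore p ↥CL = ⊥ := pPrimeCore_eq_bot_of_normal hK CL
    have hV'p : IsPGroup p (V.subgroupOf CL) :=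
      hVp.of_equiv (Subgroup.subgroupOfEquivOfLe hVCL).symm
    have hV'i : ¬ p ∣ (V.subgroupOf CL).index := by
      intro hd
      have : p ∣ V.relIndex CL := hd
      have h2 := Nat.Coprime.eq_one_of_dvd hrel.symm this
      exact hp.out.one_lt.ne' h2
    have hcent : Subgroup.normalizer ((hV'p.toSylow hV'i : Sylow p ↥CL) : Set ↥CL) ≤
        Subgroup.centralizer ((hV'p.toSylow hV'i : Sylow p ↥CL) : Set ↥CL) := by
      intro c _
      rw [Subgroup.mem_centralizer_iff]
      intro v hv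
      have hv' : (v : X) ∈ V := Subgroup.mem_subgroupOf.mp hv
      have hc' : (c : X) ∈ Subgroup.centralizer (V : Set X) := (hCL.le c.2).1
      exact Subtype.ext ((Subgroup.mem_centralizer_iff.mp hc') v hv')
    have hcompl := MonoidHom.ker_transferSylow_isComplement' (hV'p.toSylow hV'i) hcent
    have hker : (MonoidHom.transferSylow (hV'p.toSylow hV'i) hcent).ker = ⊥ := by
      have h1 : (MonoidHom.transferSylow (hV'p.toSylow hV'i) hcent).ker ≤ pPrimeCore p ↥CL := by
        apply le_pPrimeCore (MonoidHom.normal_ker _)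
        rw [← hcompl.index_eq_card]
        exact hrel
      rw [hcore] at h1
      exact le_bot_iff.mp h1
    rw [hker, Subgroup.isComplement'_bot_left] at hcompl
    intro c hc
    have h1 : (⟨c, hc⟩ : ↥CL) ∈ ((hV'p.toSylow hV'i : Sylow p ↥CL) : Subgroup ↥CL) := by
      rw [hcompl]; exact Subgroup.mem_top _
    exact Subgroup.mem_subgroupOf.mp h1
  -- `X / L` is a `p`-group
  have hidx : ∃ j : ℕ, (pPrimeCore p (X ⧸ V)).index = p ^ j := by
    have h1 := card_sup_dvd_mul ((S : Subgroup X).map (QuotientGroup.mk' V))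
      (pPrimeCore p (X ⧸ V))
    rw [sup_comm, htop] at h1
    have h2 : Nat.card (⊤ : Subgroup (X ⧸ V)) = Nat.card (X ⧸ V) := Subgroup.card_top
    rw [h2, ← (pPrimeCore p (X ⧸ V)).card_mul_index, mul_comm _ (Nat.card ↥(pPrimeCore p (X ⧸ V)))]
      at h1
    have h3 : (pPrimeCore p (X ⧸ V)).index ∣
        Nat.card ↥((S : Subgroup X).map (QuotientGroup.mk' V)) :=
      Nat.dvd_of_mul_dvd_mul_left Nat.card_pos h1
    obtain ⟨i, hi⟩ := IsPGroup.iff_card.mp (S.isPGroup'.map (QuotientGroup.mk' V))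
    rw [hi] at h3
    obtain ⟨j, -, hj⟩ := (Nat.dvd_prime_pow hp.out).mp h3
    exact ⟨j, hj⟩
  obtain ⟨j, hj⟩ := hidx
  intro c
  have h1 : ((c : X) : X ⧸ V) ^ (p ^ j) ∈ pPrimeCore p (X ⧸ V) := by
    have h2 : (QuotientGroup.mk (((c : X) : X ⧸ V)) :
        (X ⧸ V) ⧸ pPrimeCore p (X ⧸ V)) ^ (p ^ j) = 1 := by
      rw [← hj, Subgroup.index_eq_card]; exact pow_card_eq_one'
    rw [← QuotientGroup.mk_pow, QuotientGroup.eq_one_iff] at h2
    exact h2
  have h2 : (c : X) ^ (p ^ j) ∈ CL := by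
    rw [hCL, Subgroup.mem_inf]
    refine ⟨Subgroup.pow_mem _ c.2 _, ?_⟩
    rw [hL, Subgroup.mem_comap]
    simpa using h1
  obtain ⟨i, hi⟩ := hVp ⟨(c : X) ^ (p ^ j), hCLeq h2⟩
  refine ⟨j + i, ?_⟩
  apply Subtype.ext
  have h3 := congrArg Subtype.val hi
  simp only [Subgroup.coe_pow, Subgroup.coe_one] at h3 ⊢
  rw [pow_add, pow_mul]
  exact h3

theorem eq_one_of_pow_of_coprime {G : Type*} [Group G] {p : ℕ} [hp : Fact p.Prime] (z : G)
    (m n : ℕ) (hz : z ^ (p ^ m) = 1) (hn : z ^ n = 1) (hc : n.Coprime p) : z = 1 := by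
  have h1 : orderOf z ∣ p ^ m := orderOf_dvd_of_pow_eq_one hz
  have h2 : orderOf z ∣ n := orderOf_dvd_of_pow_eq_one hn
  have h3 : orderOf z = 1 := Nat.eq_one_of_dvd_coprimes (hc.pow_right m) h2 h1
  exact orderOf_eq_one_iff.mp h3

theorem isPGroup_zpowers {G : Type*} [Group G] {p : ℕ} (z : G) (m : ℕ) (hz : z ^ (p ^ m) = 1) :
    IsPGroup p ↥(Subgroup.zpowers z) := by
  rintro ⟨w, hw⟩
  obtain ⟨k, rfl⟩ := Subgroup.mem_zpowers_iff.mp hw
  refine ⟨m, Subtype.ext ?_⟩
  simp only [Subgroup.coe_pow, Subgroup.coe_one]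
  rw [← zpow_natCast, ← zpow_mul, mul_comm, zpow_mul, zpow_natCast, hz, one_zpow]

/-- A `p`-element lies in a normal Sylow `p`-subgroup. -/
theorem mem_of_normal_sylow {G : Type*} [Group G] [Finite G] {p : ℕ} [hp : Fact p.Prime]
    (T : Sylow p G) (hT : (T : Subgroup G).Normal) (z : G) (m : ℕ) (hz : z ^ (p ^ m) = 1) :
    z ∈ (T : Subgroup G) := by
  haveI := Sylow.unique_of_normal T hT
  obtain ⟨T', hT'⟩ := (isPGroup_zpowers z m hz).exists_le_sylow
  have h1 : T' = T := Subsingleton.elim _ _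
  rw [h1] at hT'
  exact hT' (Subgroup.mem_zpowers z)

/-- For a Sylow `p`-subgroup `S` with cyclic derived group and a normal elementary abelian
`p`-subgroup `V`: the subgroup `A = V ∩ S'` has order dividing `p`, contains `[V, S]` and is
centralized by `S`. -/
theorem sylow_data {p : ℕ} [hp : Fact p.Prime] {X : Type*} [Group X] [Finite X] (hc : HC p X)
    (V : Subgroup X) [hVn : V.Normal] (hVp : IsPGroup p V) (hVe : ∀ a ∈ V, a ^ p = 1)
    (S : Sylow p X) :
    ∃ A : Subgroup X, A ≤ V ∧ Nat.card A ∣ p ∧ (∀ s ∈ S, ∀ v ∈ V, s * v * s⁻¹ * v⁻¹ ∈ A) ∧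
      (∀ s ∈ S, ∀ a ∈ A, s * a * s⁻¹ = a) := by
  have hVS : V ≤ (S : Subgroup X) := hVp.le_sylow_of_normal S
  have hcyc : IsCyclic ↥⁅(S : Subgroup X), (S : Subgroup X)⁆ := hc _ S.isPGroup'
  have hSS : ⁅(S : Subgroup X), (S : Subgroup X)⁆ ≤ (S : Subgroup X) := by
    rw [Subgroup.commutator_le]
    intro g₁ h₁ g₂ h₂
    rw [commutatorElement_def]
    exact Subgroup.mul_mem _ (Subgroup.mul_mem _ (Subgroup.mul_mem _ h₁ h₂) (Subgroup.inv_mem _ h₁))
      (Subgroup.inv_mem _ h₂)
  refine ⟨V ⊓ ⁅(S : Subgroup X), (S : Subgroup X)⁆, inf_le_left, ?_, ?_, ?_⟩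
  · haveI : IsCyclic ↥(V ⊓ ⁅(S : Subgroup X), (S : Subgroup X)⁆) :=
      Subgroup.isCyclic_of_le inf_le_right
    obtain ⟨g, hg⟩ := IsCyclic.exists_generator
      (α := ↥(V ⊓ ⁅(S : Subgroup X), (S : Subgroup X)⁆))
    rw [← orderOf_eq_card_of_forall_mem_zpowers hg]
    apply orderOf_dvd_of_pow_eq_one
    apply Subtype.ext
    simp only [Subgroup.coe_pow, Subgroup.coe_one]
    exact hVe _ (g.2.1)
  · intro s hs v hv
    refine ⟨?_, ?_⟩
    · exact Subgroup.mul_mem _ (hVn.conj_mem v hv s) (Subgroup.inv_mem _ hv)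
    · have := Subgroup.commutator_mem_commutator (H₁ := (S : Subgroup X)) (H₂ := (S : Subgroup X))
        hs (hVS hv)
      rwa [commutatorElement_def] at this
  · intro s hs
    obtain ⟨m, hm⟩ := S.isPGroup' ⟨s, hs⟩
    have hm' : s ^ (p ^ m) = 1 := by
      have := congrArg Subtype.val hm
      simpa using this
    have hcard : Nat.card ↥(V ⊓ ⁅(S : Subgroup X), (S : Subgroup X)⁆) ∣ p := by
      haveI : IsCyclic ↥(V ⊓ ⁅(S : Subgroup X), (S : Subgroup X)⁆) :=
        Subgroup.isCyclic_of_le inf_le_right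
      obtain ⟨g, hg⟩ := IsCyclic.exists_generator
        (α := ↥(V ⊓ ⁅(S : Subgroup X), (S : Subgroup X)⁆))
      rw [← orderOf_eq_card_of_forall_mem_zpowers hg]
      apply orderOf_dvd_of_pow_eq_one
      apply Subtype.ext
      simp only [Subgroup.coe_pow, Subgroup.coe_one]
      exact hVe _ (g.2.1)
    apply centralizes_of_card_dvd_prime _ hcard s ?_ m hm'
    apply Subgroup.mem_normalizer_fintype
    intro a ha
    have ha' : a ∈ V ⊓ ⁅(S : Subgroup X), (S : Subgroup X)⁆ := ha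
    change s * a * s⁻¹ ∈ V ⊓ ⁅(S : Subgroup X), (S : Subgroup X)⁆
    refine ⟨hVn.conj_mem a ha'.1 s, ?_⟩
    have h1 : s * a * s⁻¹ = ⁅s, a⁆ * a := by rw [commutatorElement_def]; group
    rw [h1]
    exact Subgroup.mul_mem _ (Subgroup.commutator_mem_commutator hs (hSS ha'.2)) ha'.2

theorem mem_zpowers_of_card_dvd_prime {G : Type*} [Group G] {p : ℕ} [hp : Fact p.Prime]
    (A : Subgroup G) (hA : Nat.card A ∣ p) (a : G) (haA : a ∈ A) (ha1 : a ≠ 1) :
    ∀ a' ∈ A, a' ∈ Subgroup.zpowers a := by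
  have hcard : Nat.card A = p := by
    rcases (Nat.dvd_prime hp.out).mp hA with h | h
    · exfalso
      have hs : Subsingleton ↥A := (Nat.card_eq_one_iff_unique.mp h).1
      have := Subsingleton.elim (⟨a, haA⟩ : ↥A) 1
      exact ha1 (congrArg Subtype.val this)
    · exact h
  have htop := zpowers_eq_top_of_prime_card hcard (g := (⟨a, haA⟩ : ↥A))
    (fun h => ha1 (congrArg Subtype.val h))
  intro a' ha'
  have : (⟨a', ha'⟩ : ↥A) ∈ Subgroup.zpowers (⟨a, haA⟩ : ↥A) := by
    rw [htop]; exact Subgroup.mem_top _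
  obtain ⟨k, hk⟩ := Subgroup.mem_zpowers_iff.mp this
  exact Subgroup.mem_zpowers_iff.mpr ⟨k, by simpa using congrArg Subtype.val hk⟩

theorem le_centralizer_singleton_of_conj {G : Type*} [Group G] (x : G) (A : Subgroup G)
    (h : ∀ a ∈ A, x * a * x⁻¹ = a) : A ≤ Subgroup.centralizer {x} := by
  intro a ha
  rw [Subgroup.mem_centralizer_iff]
  intro k hk
  rw [Set.mem_singleton_iff] at hk
  subst hk
  calc k * a = (k * a * k⁻¹) * k := by group
    _ = a * k := by rw [h a ha]

theorem mem_centralizer_of_le_centralizer_singleton {G : Type*} [Group G] (x : G) (V : Subgroup G)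
    (h : V ≤ Subgroup.centralizer {x}) : x ∈ Subgroup.centralizer (V : Set G) := by
  rw [Subgroup.mem_centralizer_iff]
  intro v hv
  have := Subgroup.mem_centralizer_iff.mp (h hv) x (Set.mem_singleton x)
  exact this.symm

/-- The key step: a `p`-element `x` and any conjugate of it generate a `p`-group. -/
theorem pair_isPGroup {p : ℕ} [hp : Fact p.Prime] {X : Type u} [Group X] [Finite X]
    (hodd : Odd (Nat.card X)) (hc : HC p X)
    (V : Subgroup X) [hVn : V.Normal] (hVp : IsPGroup p V)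
    (hVc : ∀ a ∈ V, ∀ b ∈ V, a * b = b * a) (hVe : ∀ a ∈ V, a ^ p = 1)
    (hVmin : ∀ M : Subgroup X, M.Normal → M ≤ V → M = ⊥ ∨ M = V)
    (hCp : IsPGroup p ↥(Subgroup.centralizer (V : Set X)))
    (hind : ∀ Y : Subgroup X, Y ≠ ⊤ → ∀ T : Sylow p ↥Y,
      (pPrimeCore p ↥Y ⊔ (T : Subgroup ↥Y)).Normal)
    (S : Sylow p X) (x : X) (hx : x ∈ S) (g : X) :
    IsPGroup p ↥(Subgroup.zpowers x ⊔ (Subgroup.zpowers x).map (MulAut.conj g).toMonoidHom) := by
  obtain ⟨A, hAV, hAcard, hAcomm, hAcent⟩ := sylow_data hc V hVp hVe S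
  obtain ⟨B, hBV, hBcard, hBcomm, hBcent⟩ := sylow_data hc V hVp hVe (g • S)
  obtain ⟨y, hy⟩ : ∃ y : X, y = g * x * g⁻¹ := ⟨_, rfl⟩
  have hyS : y ∈ (g • S : Sylow p X) := by
    have h1 : y ∈ ((g • S : Sylow p X) : Subgroup X) := by
      rw [Sylow.coe_subgroup_smul, smul_eq_map, mem_map_conj, hy]
      have h2 : g⁻¹ * (g * x * g⁻¹) * g = x := by group
      rw [h2]; exact hx
    exact h1
  have hmap : (Subgroup.zpowers x).map (MulAut.conj g).toMonoidHom = Subgroup.zpowers y := by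
    rw [MonoidHom.map_zpowers, hy]
    rfl
  rw [hmap]
  obtain ⟨m, hm⟩ : ∃ m : ℕ, x ^ (p ^ m) = 1 := by
    obtain ⟨m, hm⟩ := S.isPGroup' ⟨x, hx⟩
    exact ⟨m, by simpa using congrArg Subtype.val hm⟩
  have hmy : y ^ (p ^ m) = 1 := by rw [hy, conj_pow, hm]; group
  have hxp := isPGroup_zpowers x m hm
  have hyp := isPGroup_zpowers y m hmy
  have hxA := hAcent x hx
  have hyB := hBcent y hyS
  have hxV := hAcomm x hx
  have hyV := hBcomm y hyS
  by_cases htop : V ⊔ (Subgroup.zpowers x ⊔ Subgroup.zpowers y) = ⊤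
  swap
  · -- inductive case
    obtain ⟨Y, hY⟩ : ∃ Y : Subgroup X, Y = V ⊔ (Subgroup.zpowers x ⊔ Subgroup.zpowers y) :=
      ⟨_, rfl⟩
    rw [← hY] at htop
    have hVY : V ≤ Y := hY ▸ le_sup_left
    have hDY : Subgroup.zpowers x ⊔ Subgroup.zpowers y ≤ Y := hY ▸ le_sup_right
    have hMn : (pPrimeCore p ↥Y).Normal := pPrimeCore_normal' p
    have hMc : (Nat.card ↥(pPrimeCore p ↥Y)).Coprime p := card_pPrimeCore_coprime p
    have hcoreY : pPrimeCore p ↥Y = ⊥ := by
      rw [eq_bot_iff]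
      intro c hcM
      rw [Subgroup.mem_bot]
      have hcC : (c : X) ∈ Subgroup.centralizer (V : Set X) := by
        rw [Subgroup.mem_centralizer_iff]
        intro v hv
        have hk1 : c * ⟨v, hVY hv⟩ * c⁻¹ * (⟨v, hVY hv⟩ : ↥Y)⁻¹ ∈ pPrimeCore p ↥Y := by
          have h1 := hMn.conj_mem c⁻¹ (inv_mem hcM) ⟨v, hVY hv⟩
          have h2 := Subgroup.mul_mem _ hcM h1
          have h3 : c * ⟨v, hVY hv⟩ * c⁻¹ * (⟨v, hVY hv⟩ : ↥Y)⁻¹ =
              c * (⟨v, hVY hv⟩ * c⁻¹ * (⟨v, hVY hv⟩ : ↥Y)⁻¹) := by group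
          rw [h3]; exact h2
        have hk2 : (c : X) * v * (c : X)⁻¹ * v⁻¹ ∈ V :=
          mul_mem (hVn.conj_mem v hv c) (inv_mem hv)
        obtain ⟨i, hi⟩ := hVp ⟨_, hk2⟩
        have hk3 : ((c : X) * v * (c : X)⁻¹ * v⁻¹) ^ (p ^ i) = 1 := by
          simpa using congrArg Subtype.val hi
        have hk4 : (c * ⟨v, hVY hv⟩ * c⁻¹ * (⟨v, hVY hv⟩ : ↥Y)⁻¹) ^
            (Nat.card (pPrimeCore p ↥Y)) = 1 := by
          have h1 := pow_card_eq_one' (G := ↥(pPrimeCore p ↥Y)) (x := ⟨_, hk1⟩)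
          have h2 := congrArg Subtype.val h1
          simpa only [Subgroup.coe_pow, Subgroup.coe_one] using h2
        have hk5 : ((c : X) * v * (c : X)⁻¹ * v⁻¹) ^ (Nat.card (pPrimeCore p ↥Y)) = 1 := by
          simpa using congrArg Subtype.val hk4
        have hk6 := eq_one_of_pow_of_coprime _ i _ hk3 hk5 hMc
        calc v * (c : X) = ((c : X) * v * (c : X)⁻¹ * v⁻¹)⁻¹ * (c : X) * v := by group
          _ = (c : X) * v := by rw [hk6]; group
      obtain ⟨i, hi⟩ := hCp ⟨c, hcC⟩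
      have h1 : (c : X) ^ (p ^ i) = 1 := by simpa using congrArg Subtype.val hi
      have h2 : (c : X) ^ (Nat.card (pPrimeCore p ↥Y)) = 1 := by
        have h3 := pow_card_eq_one' (G := ↥(pPrimeCore p ↥Y)) (x := ⟨c, hcM⟩)
        have h4 := congrArg Subtype.val (congrArg Subtype.val h3)
        simpa only [Subgroup.coe_pow, Subgroup.coe_one] using h4
      exact Subtype.ext (eq_one_of_pow_of_coprime _ i _ h1 h2 hMc)
    obtain ⟨T⟩ : Nonempty (Sylow p ↥Y) := inferInstance
    have hTn := hind Y htop T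
    rw [hcoreY, bot_sup_eq] at hTn
    have hle : Subgroup.zpowers x ⊔ Subgroup.zpowers y ≤ (T : Subgroup ↥Y).map Y.subtype := by
      apply sup_le
      · rw [Subgroup.zpowers_le]
        have hxY : x ∈ Y := hDY (le_sup_left (a := Subgroup.zpowers x) (Subgroup.mem_zpowers x))
        exact ⟨⟨x, hxY⟩, mem_of_normal_sylow T hTn ⟨x, hxY⟩ m (Subtype.ext (by simpa using hm)),
          rfl⟩
      · rw [Subgroup.zpowers_le]
        have hyY : y ∈ Y := hDY (le_sup_right (b := Subgroup.zpowers y) (Subgroup.mem_zpowers y))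
        exact ⟨⟨y, hyY⟩, mem_of_normal_sylow T hTn ⟨y, hyY⟩ m (Subtype.ext (by simpa using hmy)),
          rfl⟩
    exact (T.isPGroup'.map Y.subtype).to_le hle
  · -- the case `X = V ⟨x, y⟩`
    have hWV' : A ⊔ B ≤ V := sup_le hAV hBV
    have hconjmem : ∀ (z : X) (C₁ C₂ : Subgroup X), C₁ ≤ V → C₂ ≤ V →
        (∀ c ∈ C₁, z * c * z⁻¹ = c) → (∀ v ∈ V, z * v * z⁻¹ * v⁻¹ ∈ C₁) →
        z ∈ Subgroup.normalizer ((C₁ ⊔ C₂ : Subgroup X) : Set X) := by
      intro z C₁ C₂ h₁ h₂ hcen hcom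
      have hmapz : (C₁ ⊔ C₂).map (MulAut.conj z).toMonoidHom ≤ C₁ ⊔ C₂ := by
        rw [Subgroup.map_sup]
        apply sup_le
        · rintro _ ⟨a, ha, rfl⟩
          simp only [MulEquiv.toMonoidHom_eq_coe, MonoidHom.coe_coe, MulAut.conj_apply]
          rw [hcen a ha]; exact (le_sup_left : C₁ ≤ C₁ ⊔ C₂) ha
        · rintro _ ⟨b, hb, rfl⟩
          simp only [MulEquiv.toMonoidHom_eq_coe, MonoidHom.coe_coe, MulAut.conj_apply]
          have h3 : z * b * z⁻¹ = (z * b * z⁻¹ * b⁻¹) * b := by group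
          rw [h3]
          exact mul_mem ((le_sup_left : C₁ ≤ C₁ ⊔ C₂) (hcom b (h₂ hb)))
            ((le_sup_right : C₂ ≤ C₁ ⊔ C₂) hb)
      apply Subgroup.mem_normalizer_fintype
      intro w hw
      exact hmapz ⟨w, hw, by simp [MulAut.conj_apply]⟩
    have hW : (A ⊔ B).Normal := by
      rw [← Subgroup.normalizer_eq_top_iff, eq_top_iff, ← htop]
      apply sup_le
      · intro v hv
        apply Subgroup.mem_normalizer_fintype
        intro w hw
        have hw' : w ∈ V := hWV' hw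
        have h1 : v * w * v⁻¹ = w := by rw [hVc v hv w hw']; group
        rw [h1]; exact hw
      · apply sup_le
        · rw [Subgroup.zpowers_le]
          exact hconjmem x A B hAV hBV hxA hxV
        · rw [Subgroup.zpowers_le]
          have := hconjmem y B A hBV hAV hyB hyV
          rwa [sup_comm] at this
    by_cases hxC : x ∈ Subgroup.centralizer (V : Set X)
    · have hle : Subgroup.zpowers x ⊔ Subgroup.zpowers y ≤
          Subgroup.centralizer (V : Set X) ⊔ Subgroup.zpowers y :=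
        sup_le_sup_right (Subgroup.zpowers_le.mpr hxC) _
      exact (hCp.to_sup_of_normal_left hyp).to_le hle
    by_cases hyC : y ∈ Subgroup.centralizer (V : Set X)
    · have hle : Subgroup.zpowers x ⊔ Subgroup.zpowers y ≤
          Subgroup.centralizer (V : Set X) ⊔ Subgroup.zpowers x :=
        sup_le le_sup_right (le_sup_of_le_left (Subgroup.zpowers_le.mpr hyC))
      exact (hCp.to_sup_of_normal_left hxp).to_le hle
    exfalso
    have hWV : A ⊔ B = V := by
      rcases hVmin _ hW hWV' with h | h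
      · exfalso
        apply hxC
        have hA : A = ⊥ := by rw [eq_bot_iff, ← h]; exact le_sup_left
        rw [Subgroup.mem_centralizer_iff]
        intro v hv
        have h1 := hxV v hv
        rw [hA, Subgroup.mem_bot] at h1
        calc v * x = (x * v * x⁻¹ * v⁻¹)⁻¹ * x * v := by group
          _ = x * v := by rw [h1]; group
      · exact h
    have hexb : ∃ b ∈ B, x * b * x⁻¹ ≠ b := by
      by_contra hcon
      push Not at hcon
      apply hxC
      apply mem_centralizer_of_le_centralizer_singleton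
      rw [← hWV]
      exact sup_le (le_centralizer_singleton_of_conj x A hxA)
        (le_centralizer_singleton_of_conj x B hcon)
    obtain ⟨b, hbB, hxb⟩ := hexb
    obtain ⟨a, ha⟩ : ∃ a : X, a = x * b * x⁻¹ * b⁻¹ := ⟨_, rfl⟩
    have haA : a ∈ A := ha ▸ hxV b (hBV hbB)
    have ha1 : a ≠ 1 := by
      intro h
      apply hxb
      rw [ha] at h
      calc x * b * x⁻¹ = (x * b * x⁻¹ * b⁻¹) * b := by group
        _ = b := by rw [h, one_mul]
    have hAa := mem_zpowers_of_card_dvd_prime A hAcard a haA ha1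
    have hya : y * a * y⁻¹ ≠ a := by
      intro hcon
      apply hyC
      apply mem_centralizer_of_le_centralizer_singleton
      rw [← hWV]
      refine sup_le ?_ (le_centralizer_singleton_of_conj y B hyB)
      apply le_centralizer_singleton_of_conj
      intro a' ha'
      obtain ⟨k, rfl⟩ := Subgroup.mem_zpowers_iff.mp (hAa a' ha')
      have hcomm : Commute y a := by
        calc y * a = (y * a * y⁻¹) * y := by group
          _ = a * y := by rw [hcon]
      have h2 := (hcomm.zpow_right k).eq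
      calc y * a ^ k * y⁻¹ = (a ^ k * y) * y⁻¹ := by rw [h2]
        _ = a ^ k := by group
    obtain ⟨b', hb'⟩ : ∃ b' : X, b' = a⁻¹ * (y * a * y⁻¹) := ⟨_, rfl⟩
    have hb'B : b' ∈ B := by
      have h1 := hyV a (hAV haA)
      have h2 : a⁻¹ * (y * a * y⁻¹) = y * a * y⁻¹ * a⁻¹ :=
        hVc _ (inv_mem (hAV haA)) _ (hVn.conj_mem a (hAV haA) y)
      rw [hb', h2]; exact h1
    have hb'1 : b' ≠ 1 := by
      intro h
      apply hya
      rw [hb'] at h
      calc y * a * y⁻¹ = a * (a⁻¹ * (y * a * y⁻¹)) := by group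
        _ = a := by rw [h, mul_one]
    have hBb := mem_zpowers_of_card_dvd_prime B hBcard b' hb'B hb'1
    apply even_contra hodd a b b' x y
    · exact hVc a (hAV haA) b (hBV hbB)
    · exact hxA a haA
    · rw [ha]; group
    · exact hyB b hbB
    · rw [hb']; group
    · exact hyB b' hb'B
    · exact hBb b hbB
    · intro h
      exact hxb (hxA b (Subgroup.zpowers_le.mpr haA h))

theorem card_quotient_lt' {G : Type*} [Group G] [Finite G] (N : Subgroup G) [N.Normal]
    (hN : N ≠ ⊥) : Nat.card (G ⧸ N) < Nat.card G := by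
  rw [Subgroup.card_eq_card_quotient_mul_card_subgroup N]
  exact lt_mul_of_one_lt_right Nat.card_pos ((Subgroup.one_lt_card_iff_ne_bot (H := N)).mpr hN)

theorem main (p : ℕ) [hp : Fact p.Prime] : ∀ (n : ℕ) (X : Type u) [Group X] [Finite X],
    Nat.card X = n → Group.IsSolvable X → Odd (Nat.card X) → HC p X → ∀ S : Sylow p X,
    (pPrimeCore p X ⊔ (S : Subgroup X)).Normal := by
  intro n
  induction n using Nat.strong_induction_on with
  | _ n ih =>
  intro X _ _ hn hsol hodd hc S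
  by_cases hK : pPrimeCore p X = ⊥
  swap
  · -- pass to the quotient by `O_{p'}(X)`
    haveI hKn : (pPrimeCore p X).Normal := pPrimeCore_normal' p
    have hlt : Nat.card (X ⧸ pPrimeCore p X) < n := by
      rw [← hn]; exact card_quotient_lt' _ hK
    have hodd' : Odd (Nat.card (X ⧸ pPrimeCore p X)) :=
      hodd.of_dvd_nat (Subgroup.card_quotient_dvd_card _)
    have h1 := ih _ hlt (X ⧸ pPrimeCore p X) rfl inferInstance hodd' (hc.quotient _)
      (S.mapSurjective (QuotientGroup.mk'_surjective _))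
    rw [pPrimeCore_quotient_pPrimeCore, bot_sup_eq, Sylow.coe_mapSurjective] at h1
    have h2 := h1.comap (QuotientGroup.mk' (pPrimeCore p X))
    rw [Subgroup.comap_map_eq, QuotientGroup.ker_mk', sup_comm] at h2
    exact h2
  · rw [hK, bot_sup_eq]
    by_cases htriv : (⊤ : Subgroup X) = ⊥
    · have h1 : (S : Subgroup X) = ⊤ := by rw [eq_top_iff, htriv]; exact bot_le
      rw [h1]; infer_instance
    obtain ⟨q, V, hq, hVn, hV1, -, hVq, hVcomm, hVe, hVmin⟩ :=
      Cfsg.Agent.Lib.Helper1.exists_normal_pSubgroup_le_of_isSolvable (⊤ : Subgroup X)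
        inferInstance htriv
    -- the prime is `p`
    have hqp : q = p := by
      by_contra hne
      apply hV1
      have hcop : (Nat.card ↥V).Coprime p := by
        haveI : Fact q.Prime := ⟨hq⟩
        obtain ⟨k, hk⟩ := IsPGroup.iff_card.mp hVq
        rw [hk]
        exact Nat.Coprime.pow_left _ ((Nat.coprime_primes hq hp.out).mpr hne)
      have h1 := le_pPrimeCore hVn hcop
      rw [hK] at h1
      exact le_bot_iff.mp h1
    rw [hqp] at hVq hVe
    have hVc : ∀ a ∈ V, ∀ b ∈ V, a * b = b * a := by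
      intro a ha b hb
      have h1 : (⟨a, ha⟩ : ↥V) * ⟨b, hb⟩ = ⟨b, hb⟩ * ⟨a, ha⟩ :=
        hVcomm.is_comm.comm _ _
      exact congrArg Subtype.val h1
    -- induction on the quotient by `V`
    have hlt : Nat.card (X ⧸ V) < n := by
      rw [← hn]; exact card_quotient_lt' _ hV1
    have hodd' : Odd (Nat.card (X ⧸ V)) := hodd.of_dvd_nat (Subgroup.card_quotient_dvd_card _)
    have hYbar := ih _ hlt (X ⧸ V) rfl inferInstance hodd' (hc.quotient _)
      (S.mapSurjective (QuotientGroup.mk'_surjective _))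
    rw [Sylow.coe_mapSurjective] at hYbar
    -- the induction hypothesis for proper subgroups
    have hind : ∀ Y : Subgroup X, Y ≠ ⊤ → ∀ T : Sylow p ↥Y,
        (pPrimeCore p ↥Y ⊔ (T : Subgroup ↥Y)).Normal := by
      intro Y hY T
      have hltY : Nat.card ↥Y < n := by
        rw [← hn]
        apply lt_of_le_of_ne (Subgroup.card_le_card_group Y)
        intro h
        exact hY (Subgroup.eq_top_of_card_eq Y h)
      have hoddY : Odd (Nat.card ↥Y) := hodd.of_dvd_nat (Subgroup.card_subgroup_dvd_card Y)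
      exact ih _ hltY ↥Y rfl inferInstance hoddY (hc.subgroup Y) T
    by_cases hYtop : pPrimeCore p (X ⧸ V) ⊔ (S : Subgroup X).map (QuotientGroup.mk' V) = ⊤
    swap
    · -- `Y` proper: `S` is normal in the normal subgroup `Y`
      obtain ⟨Y, hY⟩ : ∃ Y : Subgroup X, Y = (pPrimeCore p (X ⧸ V) ⊔
          (S : Subgroup X).map (QuotientGroup.mk' V)).comap (QuotientGroup.mk' V) := ⟨_, rfl⟩
      haveI hYn : Y.Normal := hY ▸ hYbar.comap _
      have hYne : Y ≠ ⊤ := by
        intro h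
        apply hYtop
        rw [← Subgroup.map_comap_eq_self_of_surjective (QuotientGroup.mk'_surjective V)
          (pPrimeCore p (X ⧸ V) ⊔ (S : Subgroup X).map (QuotientGroup.mk' V)), ← hY, h]
        exact Subgroup.map_top_of_surjective _ (QuotientGroup.mk'_surjective V)
      have hSY : (S : Subgroup X) ≤ Y := by
        intro s hs
        rw [hY, Subgroup.mem_comap]
        exact (le_sup_right : (S : Subgroup X).map (QuotientGroup.mk' V) ≤ _) ⟨s, hs, rfl⟩
      have h1 := hind Y hYne (S.subtype hSY)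
      rw [pPrimeCore_eq_bot_of_normal hK Y, bot_sup_eq] at h1
      constructor
      intro s hs g
      have hgY : g * s * g⁻¹ ∈ Y := hYn.conj_mem s (hSY hs) g
      obtain ⟨m, hm⟩ := S.isPGroup' ⟨s, hs⟩
      have hm' : s ^ (p ^ m) = 1 := by simpa using congrArg Subtype.val hm
      have h2 : (⟨g * s * g⁻¹, hgY⟩ : ↥Y) ^ (p ^ m) = 1 := by
        apply Subtype.ext
        simp only [Subgroup.coe_pow, Subgroup.coe_one]
        rw [conj_pow, hm']; group
      have h3 := mem_of_normal_sylow (S.subtype hSY) h1 _ m h2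
      rw [Sylow.coe_subtype] at h3
      exact Subgroup.mem_subgroupOf.mp h3
    · -- `X / V` is `p`-nilpotent: Baer-Suzuki
      have hCp := centralizer_isPGroup hK V hVq hVc S hYtop
      constructor
      intro s hs g
      obtain ⟨N, hNn, hNp, hsN⟩ := Cfsg.Agent.S0199.result (Subgroup.zpowers s)
        (S.isPGroup'.to_le (Subgroup.zpowers_le.mpr hs))
        (fun g => pair_isPGroup hodd hc V hVq hVc hVe hVmin hCp hind S s hs g)
      have hNS : N ≤ (S : Subgroup X) := hNp.le_sylow_of_normal S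
      exact hNS (hNn.conj_mem s (hsN (Subgroup.mem_zpowers s)) g)

/-- Let X be a finite solvable group of odd order, p a prime and S a Sylow p-subgroup of X whose commutator subgroup is
cyclic. Then the product of the largest normal subgroup of X of order prime to p with S is a normal subgroup of X. -/
theorem result {X : Type*} [Group X] [Finite X] [Group.IsSolvable X]
    (hX : Odd (Nat.card X)) (p : ℕ) [Fact p.Prime] (S : Sylow p X) (hS : IsCyclic (commutator (S : Subgroup X))) :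
    (Cfsg.pPrimeCore p X ⊔ (S : Subgroup X)).Normal := by
  exact main p _ X rfl inferInstance hX (HC.of_sylow S hS) S

end Cfsg.Agent.S0521
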