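import Cfsg.Statements.S0522
import Cfsg.Agent.S1480
import Cfsg.Agent.Lib.Helper22.SolvableLocal
import Cfsg.Agent.Lib.Helper9.FourGroups

set_option autoImplicit false
open Cfsg

namespace Cfsg.Agent.S0522

open scoped Pointwise

/-- If `P` is a Sylow `p`-subgroup of `X` contained in `N`, then every `p`-subgroup `D ≤ N` is conjugate into `P`
by an element of `N`. -/
theorem exists_mem_conj_mem {X : Type*} [Group X] [Finite X] (p : ℕ) [Fact p.Prime]
    (P : Sylow p X) (N D : Subgroup X) (hPN : (P : Subgroup X) ≤ N) (hDN : D ≤ N) (hD : IsPGroup p D) :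
    ∃ n ∈ N, ∀ d ∈ D, n * d * n⁻¹ ∈ (P : Subgroup X) := by
  have hD' : IsPGroup p (D.subgroupOf N) :=
    hD.of_equiv (Subgroup.subgroupOfEquivOfLe hDN).symm
  obtain ⟨n, hn⟩ := Cfsg.Agent.Lib.Helper9.exists_conj_smul_le_sylow p (P.subtype hPN) (D.subgroupOf N) hD'
  refine ⟨n, n.2, ?_⟩
  intro d hd
  have h1 : (⟨d, hDN hd⟩ : N) ∈ D.subgroupOf N := by
    rw [Subgroup.mem_subgroupOf]; exact hd
  have h2 : MulAut.conj n • (⟨d, hDN hd⟩ : N) ∈ MulAut.conj n • D.subgroupOf N :=
    Subgroup.smul_mem_pointwise_smul _ _ _ h1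
  have h3 := hn h2
  rw [Sylow.coe_subtype, Subgroup.mem_subgroupOf] at h3
  simpa [MulAut.smul_def] using h3

/-- Transitivity Theorem (odd-order setting). Let X be a finite group of odd order in which the normalizer of every
nontrivial p-subgroup is solvable, P a Sylow p-subgroup, and B an abelian subgroup of P, normalized by P, with
C_P(B) = B and containing an elementary abelian subgroup of order p^3. Then for every prime q ≠ p, any two q-subgroups
that are maximal among the q-subgroups normalized by B are conjugate by an element of the centralizer of B. -/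
theorem result {X : Type*} [Group X] [Finite X] (hX : Odd (Nat.card X)) (p : ℕ)
    [Fact p.Prime] (hloc : ∀ T : Subgroup X, IsPGroup p T → T ≠ ⊥ → Group.IsSolvable (Subgroup.normalizer (T : Set X)))
    (P : Sylow p X) (B : Subgroup X) (hBP : B ≤ (P : Subgroup X))
    (hBn : ∀ x ∈ (P : Subgroup X), ∀ b ∈ B, x * b * x⁻¹ ∈ B) (hBa : IsMulCommutative B)
    (hBc : (P : Subgroup X) ⊓ Subgroup.centralizer (B : Set X) = B)
    (hB3 : ∃ E : Subgroup X, E ≤ B ∧ (∀ e ∈ E, e ^ p = 1) ∧ p ^ 3 ≤ Nat.card E)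
    (q : ℕ) [Fact q.Prime] (hqp : q ≠ p) (Q₁ Q₂ : Subgroup X)
    (h₁ : IsPGroup q Q₁ ∧ B ≤ Subgroup.normalizer (Q₁ : Set X) ∧
      ∀ R : Subgroup X, IsPGroup q R → B ≤ Subgroup.normalizer (R : Set X) → Q₁ ≤ R → R = Q₁)
    (h₂ : IsPGroup q Q₂ ∧ B ≤ Subgroup.normalizer (Q₂ : Set X) ∧
      ∀ R : Subgroup X, IsPGroup q R → B ≤ Subgroup.normalizer (R : Set X) → Q₂ ≤ R → R = Q₂) :
    ∃ c ∈ Subgroup.centralizer (B : Set X), Q₂ = Q₁.map (MulAut.conj c).toMonoidHom := by
  have hp : p.Prime := Fact.out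
  have hq : q.Prime := Fact.out
  obtain ⟨E, hEB, hEexp, hE3⟩ := hB3
  have hBcomm : ∀ x ∈ B, ∀ y ∈ B, x * y = y * x := by
    intro x hx y hy
    have := hBa.is_comm.comm (⟨x, hx⟩ : B) ⟨y, hy⟩
    exact congrArg Subtype.val this
  have hBp : IsPGroup p B := P.isPGroup'.to_le hBP
  -- local p-constraint
  have hloc' : ∀ T : Subgroup X, IsPGroup p T → T ≠ ⊥ →
      Cfsg.IsPConstrained p ↥(Subgroup.normalizer (T : Set X)) := fun T hT hne =>
    Cfsg.Agent.Lib.Helper22.isPConstrained_of_isSolvable p (hloc T hT hne)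
  -- p is odd
  have hp2 : p ≠ 2 := by
    rintro rfl
    have h1 : 2 ^ 3 ≤ Nat.card (P : Subgroup X) :=
      hE3.trans (Nat.card_mono (Set.toFinite _) (hEB.trans hBP) |>.trans le_rfl)
    obtain ⟨k, hk⟩ := IsPGroup.iff_card.1 P.isPGroup'
    have h2 : Nat.card (P : Subgroup X) ∣ Nat.card X := Subgroup.card_subgroup_dvd_card _
    rw [hk] at h2 h1
    rcases Nat.eq_zero_or_pos k with rfl | hkpos
    · norm_num at h1
    · have : 2 ∣ Nat.card X := (dvd_pow_self 2 hkpos.ne').trans h2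
      exact (Nat.not_even_iff_odd.2 hX) (even_iff_two_dvd.2 this)
  have h2 : p = 2 → ∀ S : Sylow p X, Group.IsNilpotent (S : Subgroup X) ∧
      Group.nilpotencyClass (S : Subgroup X) ≤ 2 := fun h => absurd h hp2
  -- rank
  have hrank : ¬ Cfsg.PRankLE p 2 B := by
    intro h
    have hc : IsMulCommutative (E.subgroupOf B) := by
      refine ⟨⟨fun a b => ?_⟩⟩
      exact Subtype.ext (hBa.is_comm.comm (a : B) (b : B))
    have h1 := h (E.subgroupOf B) hc (by
      intro a ha
      rw [Subgroup.mem_subgroupOf] at ha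
      exact Subtype.ext (by simpa using hEexp _ ha))
    rw [Nat.card_congr (Subgroup.subgroupOfEquivOfLe hEB).toEquiv] at h1
    have : p ^ 3 ≤ p ^ 2 := hE3.trans h1
    exact absurd (Nat.pow_le_pow_iff_right hp.one_lt |>.1 this) (by norm_num)
  -- fullness
  have hPN : (P : Subgroup X) ≤ Subgroup.normalizer (B : Set X) := by
    intro x hx
    rw [Subgroup.mem_normalizer_iff]
    intro b
    constructor
    · intro hb; exact hBn x hx b hb
    · intro hb
      have hx' : x⁻¹ ∈ (P : Subgroup X) := inv_mem hx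
      have := hBn x⁻¹ hx' _ hb
      simpa [mul_assoc] using this
  have hfull : ∀ x ∈ Subgroup.centralizer (B : Set X), IsPGroup p (Subgroup.zpowers x) → x ∈ B := by
    intro x hxC hxp
    -- D = B ⊔ zpowers x is a p-group inside N(B)
    have hBC : B ≤ Subgroup.centralizer (B : Set X) := by
      intro b hb
      rw [Subgroup.mem_centralizer_iff]
      intro c hc
      exact hBcomm c hc b hb
    have hCN : Subgroup.centralizer (B : Set X) ≤ Subgroup.normalizer (B : Set X) :=
      Subgroup.centralizer_le_normalizer _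
    have hzN : Subgroup.zpowers x ≤ Subgroup.normalizer (B : Set X) := by
      rw [Subgroup.zpowers_le]; exact hCN hxC
    have hDp : IsPGroup p (Subgroup.zpowers x ⊔ B : Subgroup X) :=
      IsPGroup.to_sup_of_normal_right' hxp hBp hzN
    have hDN : (Subgroup.zpowers x ⊔ B : Subgroup X) ≤ Subgroup.normalizer (B : Set X) :=
      sup_le hzN Subgroup.le_normalizer
    obtain ⟨n, hnN, hn⟩ := exists_mem_conj_mem p P _ _ hPN hDN hDp
    have hxD : x ∈ (Subgroup.zpowers x ⊔ B : Subgroup X) :=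
      (le_sup_left : Subgroup.zpowers x ≤ _) (Subgroup.mem_zpowers x)
    have h1 : n * x * n⁻¹ ∈ (P : Subgroup X) := hn x hxD
    have h2 : n * x * n⁻¹ ∈ Subgroup.centralizer (B : Set X) := by
      rw [Subgroup.mem_centralizer_iff]
      intro b hb
      have hb' : n⁻¹ * b * n ∈ B := by
        have := (Subgroup.mem_normalizer_iff.1 (inv_mem hnN) b).1 hb
        simpa using this
      rw [Subgroup.mem_centralizer_iff] at hxC
      have := hxC _ hb'
      calc b * (n * x * n⁻¹) = n * ((n⁻¹ * b * n) * x) * n⁻¹ := by group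
        _ = n * (x * (n⁻¹ * b * n)) * n⁻¹ := by rw [this]
        _ = n * x * n⁻¹ * b := by group
    have h3 : n * x * n⁻¹ ∈ B := by
      rw [← hBc]; exact ⟨h1, h2⟩
    have h4 := (Subgroup.mem_normalizer_iff.1 (inv_mem hnN) (n * x * n⁻¹)).1 h3
    simpa [mul_assoc] using h4
  -- membership in maxInvSubgroups
  have hmem : ∀ Q : Subgroup X, (IsPGroup q Q ∧ B ≤ Subgroup.normalizer (Q : Set X) ∧
      ∀ R : Subgroup X, IsPGroup q R → B ≤ Subgroup.normalizer (R : Set X) → Q ≤ R → R = Q) →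
      Q ∈ Cfsg.maxInvSubgroups ⊤ B {q} := by
    rintro Q ⟨hQq, hQB, hQmax⟩
    refine ⟨⟨le_top, ?_, hQB⟩, ?_⟩
    · intro r hr hrd
      obtain ⟨k, hk⟩ := IsPGroup.iff_card.1 hQq
      rw [hk] at hrd
      exact (Nat.prime_dvd_prime_iff_eq hr hq).1 (hr.dvd_of_dvd_pow hrd)
    · rintro R ⟨-, hRq, hRB⟩ hQR
      refine hQmax R ?_ hRB hQR
      have hne : Nat.card R ≠ 0 := Nat.card_pos.ne'
      have := Nat.eq_prime_pow_of_unique_prime_dvd hne (p := q) (fun {d} hd hdd => hRq d hd hdd)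
      exact IsPGroup.of_card this
  obtain ⟨k, hk, hkQ⟩ := Cfsg.Agent.S1480.result p hloc' h2 B hBp hBa hrank hfull q hqp
    Q₁ (hmem Q₁ h₁) Q₂ (hmem Q₂ h₂)
  refine ⟨k, ?_, hkQ⟩
  unfold Cfsg.piCoreOf at hk
  obtain ⟨y, -, rfl⟩ := hk
  exact y.2

end Cfsg.Agent.S0522
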