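import Cfsg.Statements.S0529
import Cfsg.Agent.Lib.Helper9.SS2
import Cfsg.Agent.Lib.Helper9.SS3
import Cfsg.Agent.Lib.Helper9.CLT
import Cfsg.Agent.S0531

set_option autoImplicit false
open Cfsg

namespace Cfsg.Agent.S0529

open Cfsg.Agent.Lib.Helper9

universe u

/-- `QChain M r`: there is a chain of normal subgroups from `M` up to `⊤` with prime relative
indices, non-increasing going up, all of them at most `r`. -/
inductive QChain {G : Type u} [Group G] : Subgroup G → ℕ → Prop
  | top (r : ℕ) : QChain ⊤ r
  | step {M M' : Subgroup G} {r r' : ℕ} (h : QChain M' r) (hle : M ≤ M') (hn : M.Normal)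
      (hp : (M.relIndex M').Prime) (h1 : r ≤ M.relIndex M') (h2 : M.relIndex M' ≤ r') :
      QChain M r'

theorem QChain.normal {G : Type u} [Group G] {M : Subgroup G} {r : ℕ} (h : QChain M r) :
    M.Normal := by
  cases h with
  | top => infer_instance
  | step _ _ hn _ _ _ => exact hn

theorem QChain.comap {G G' : Type u} [Group G] [Group G'] (f : G' →* G)
    (hf : Function.Surjective f) {M : Subgroup G} {r : ℕ} (h : QChain M r) :
    QChain (M.comap f) r := by
  induction h with
  | top r => rw [Subgroup.comap_top]; exact QChain.top r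
  | @step M M' r r' h hle hn hp h1 h2 ih =>
    have hidx : (M.comap f).relIndex (M'.comap f) = M.relIndex M' := by
      rw [Subgroup.relIndex_comap, Subgroup.map_comap_eq_self_of_surjective hf]
    refine QChain.step ih (Subgroup.comap_mono hle) (hn.comap f) ?_ ?_ ?_
    · rw [hidx]; exact hp
    · rw [hidx]; exact h1
    · rw [hidx]; exact h2

theorem exists_fin_chain {G : Type u} [Group G] {M : Subgroup G} {r : ℕ} (h : QChain M r) :
    ∃ (n : ℕ) (H : Fin (n + 1) → Subgroup G), H 0 = M ∧ H (Fin.last n) = ⊤ ∧
      (∀ i, (H i).Normal) ∧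
      (∀ i : Fin n, H i.castSucc ≤ H i.succ ∧ ((H i.castSucc).relIndex (H i.succ)).Prime) ∧
      (∀ i j : Fin n, i ≤ j →
        (H j.castSucc).relIndex (H j.succ) ≤ (H i.castSucc).relIndex (H i.succ)) ∧
      (∀ i : Fin n, (H i.castSucc).relIndex (H i.succ) ≤ r) := by
  induction h with
  | top r =>
    exact ⟨0, fun _ => ⊤, rfl, rfl, fun _ => inferInstance, fun i => i.elim0,
      fun i => i.elim0, fun i => i.elim0⟩
  | @step M M' r r' h hle hn hp h1 h2 ih =>
    obtain ⟨n, H, h0, hlast, hnorm, hstep, hmono, hbound⟩ := ih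
    refine ⟨n + 1, Fin.cons M H, ?_, ?_, ?_, ?_, ?_, ?_⟩
    · exact Fin.cons_zero _ _
    · rw [← Fin.succ_last, Fin.cons_succ]; exact hlast
    · intro i
      induction i using Fin.cases with
      | zero => rw [Fin.cons_zero]; exact hn
      | succ j => rw [Fin.cons_succ]; exact hnorm j
    · intro i
      induction i using Fin.cases with
      | zero =>
        rw [Fin.castSucc_zero, Fin.cons_zero, Fin.cons_succ, h0]
        exact ⟨hle, hp⟩
      | succ j =>
        rw [← Fin.succ_castSucc, Fin.cons_succ, Fin.cons_succ]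
        exact hstep j
    · intro i j hij
      induction j using Fin.cases with
      | zero =>
        have : i = 0 := Fin.le_zero_iff.1 hij
        rw [this]
      | succ j =>
        induction i using Fin.cases with
        | zero =>
          rw [← Fin.succ_castSucc, Fin.cons_succ, Fin.cons_succ, Fin.castSucc_zero,
            Fin.cons_zero, Fin.cons_succ, h0]
          exact (hbound j).trans h1
        | succ i =>
          rw [← Fin.succ_castSucc, Fin.cons_succ, Fin.cons_succ, ← Fin.succ_castSucc,
            Fin.cons_succ, Fin.cons_succ]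
          exact hmono i j (Fin.succ_le_succ_iff.1 hij)
    · intro i
      induction i using Fin.cases with
      | zero =>
        rw [Fin.castSucc_zero, Fin.cons_zero, Fin.cons_succ, h0]
        exact h2
      | succ j =>
        rw [← Fin.succ_castSucc, Fin.cons_succ, Fin.cons_succ]
        exact (hbound j).trans (h1.trans h2)

/-- In a finite nontrivial supersolvable group there is a normal subgroup whose order is the
largest prime divisor of the group order. -/
theorem exists_normal_card_eq_max_prime {G : Type u} [Group G] [Finite G]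
    (hG : Cfsg.IsSupersolvable G) (p : ℕ) (hp : p.Prime) (hpd : p ∣ Nat.card G)
    (hmax : ∀ q : ℕ, q.Prime → q ∣ Nat.card G → q ≤ p) :
    ∃ D : Subgroup G, D.Normal ∧ Nat.card D = p := by
  haveI : Fact p.Prime := ⟨hp⟩
  have hclt : ∀ H : Subgroup G, Cfsg.HasSubgroupOfEveryOrder H := fun H =>
    Cfsg.Agent.S0531.result (isSupersolvable_subgroup hG H)
  let P : Sylow p G := default
  haveI hPn : (P : Subgroup G).Normal := sylow_normal_of_hereditary_clt _ G rfl hclt p hmax P
  have hPne : (P : Subgroup G) ≠ ⊥ := Sylow.ne_bot_of_dvd_card P hpd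
  obtain ⟨D, hDle, hDn, hDp⟩ := exists_normal_prime_card_le hG (P : Subgroup G) hPne
  refine ⟨D, hDn, ?_⟩
  have h1 : Nat.card D ∣ Nat.card (P : Subgroup G) := Subgroup.card_dvd_of_le hDle
  rw [Sylow.card_eq_multiplicity] at h1
  exact (Nat.prime_dvd_prime_iff_eq hDp hp).1 (hDp.dvd_of_dvd_pow h1)

theorem main : ∀ (n : ℕ) (G : Type u) [Group G] [Finite G], Nat.card G = n →
    Cfsg.IsSupersolvable G → ∀ r : ℕ, (∀ q : ℕ, q.Prime → q ∣ Nat.card G → q ≤ r) →
    QChain (⊥ : Subgroup G) r := by
  intro n
  induction n using Nat.strong_induction_on with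
  | _ n ih =>
    intro G _ _ hcard hG r hr
    rcases subsingleton_or_nontrivial G with hs | hnt
    · have : (⊥ : Subgroup G) = ⊤ := Subsingleton.elim _ _
      rw [this]; exact QChain.top r
    have hne : (Nat.card G).primeFactors.Nonempty :=
      Nat.nonempty_primeFactors.2 (Finite.one_lt_card (α := G))
    obtain ⟨p, hpmem, hmax'⟩ : ∃ p ∈ (Nat.card G).primeFactors,
        ∀ q ∈ (Nat.card G).primeFactors, q ≤ p :=
      ⟨_, Finset.max'_mem _ hne, fun q hq => Finset.le_max' _ _ hq⟩
    have hpp : p.Prime := Nat.prime_of_mem_primeFactors hpmem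
    have hpd : p ∣ Nat.card G := Nat.dvd_of_mem_primeFactors hpmem
    have hmax : ∀ q : ℕ, q.Prime → q ∣ Nat.card G → q ≤ p := fun q hq hqd =>
      hmax' _ (Nat.mem_primeFactors.2 ⟨hq, hqd, Nat.card_pos.ne'⟩)
    obtain ⟨D, hDn, hDcard⟩ := exists_normal_card_eq_max_prime hG p hpp hpd hmax
    have hQcard := Subgroup.card_eq_card_quotient_mul_card_subgroup D
    have hlt : Nat.card (G ⧸ D) < n := by
      rw [← hcard, hQcard, hDcard]
      have hpos : 0 < Nat.card (G ⧸ D) := Nat.card_pos
      have := hpp.one_lt
      nlinarith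
    have hQ := ih _ hlt (G ⧸ D) rfl (isSupersolvable_quotient hG D) p
      (fun q hq hqd => hmax q hq (hqd.trans ⟨Nat.card D, hQcard⟩))
    have h1 := hQ.comap (QuotientGroup.mk' D) (QuotientGroup.mk'_surjective D)
    rw [MonoidHom.comap_bot, QuotientGroup.ker_mk'] at h1
    have hidx : (⊥ : Subgroup G).relIndex D = p := by rw [Subgroup.relIndex_bot_left, hDcard]
    refine QChain.step h1 bot_le inferInstance ?_ ?_ ?_
    · rw [hidx]; exact hpp
    · rw [hidx]
    · rw [hidx]; exact hr p hpp hpd

/-- A finite supersolvable group has a chain of normal subgroups, from the trivial subgroup to the whole group, in which every step has prime index and the primes occurring are non-increasing as one goes up the chain. -/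
theorem result {G : Type*} [Group G] [Finite G] (hG : Cfsg.IsSupersolvable G) : ∃ (n : ℕ) (H : Fin (n + 1) → Subgroup G), H 0 = ⊥ ∧ H (Fin.last n) = ⊤ ∧ (∀ i, (H i).Normal) ∧ (∀ i : Fin n, H i.castSucc ≤ H i.succ ∧ ((H i.castSucc).relIndex (H i.succ)).Prime) ∧ ∀ i j : Fin n, i ≤ j → (H j.castSucc).relIndex (H j.succ) ≤ (H i.castSucc).relIndex (H i.succ) := by
  have h := main _ G rfl hG (Nat.card G) (fun q _ hqd => Nat.le_of_dvd Nat.card_pos hqd)
  obtain ⟨n, H, h0, hlast, hnorm, hstep, hmono, -⟩ := exists_fin_chain h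
  exact ⟨n, H, h0, hlast, hnorm, hstep, hmono⟩

end Cfsg.Agent.S0529
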