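import Cfsg.Statements.S0530
import Cfsg.Agent.Lib.Helper9.SS3

set_option autoImplicit false
open Cfsg

namespace Cfsg.Agent.S0530

open Cfsg.Agent.Lib.Helper9

universe u

theorem mem_normalizer_zpowers {G : Type*} [Group G] (g x : G)
    (h : Subgroup.zpowers (g * x * g⁻¹) = Subgroup.zpowers x) :
    g ∈ Subgroup.normalizer ((Subgroup.zpowers x : Subgroup G) : Set G) := by
  rw [Subgroup.mem_normalizer_iff]
  intro y
  have h1 : (Subgroup.zpowers x).map (MulAut.conj g).toMonoidHom = Subgroup.zpowers x := by
    rw [MonoidHom.map_zpowers]; exact h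
  have h2 := Subgroup.mem_map_iff_mem (f := (MulAut.conj g).toMonoidHom)
    (MulAut.conj g).injective (K := Subgroup.zpowers x) (x := y)
  rw [h1] at h2
  exact h2.symm

theorem normal_zpowers_of {G : Type*} [Group G] (P : Subgroup G) (t x : G)
    (hsup : P ⊔ Subgroup.zpowers t = ⊤) (hP : ∀ u ∈ P, u * x * u⁻¹ = x)
    (ht : Subgroup.zpowers (t * x * t⁻¹) = Subgroup.zpowers x) :
    (Subgroup.zpowers x).Normal := by
  rw [← Subgroup.normalizer_eq_top_iff, ← top_le_iff, ← hsup]
  apply sup_le
  · intro u hu
    apply mem_normalizer_zpowers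
    rw [hP u hu]
  · rw [Subgroup.zpowers_le]
    exact mem_normalizer_zpowers _ _ ht

theorem aux : ∀ (k : ℕ) (G : Type u) [Group G] [Finite G] (p : ℕ), p.Prime →
    Nat.card G = 2 * p ^ k → Cfsg.IsSupersolvable G := by
  intro k
  induction k with
  | zero =>
    intro G _ _ p hp hG
    haveI : Fact (Nat.Prime 2) := ⟨Nat.prime_two⟩
    haveI : IsCyclic G := isCyclic_of_prime_card (p := 2) (by simpa using hG)
    exact isSupersolvable_of_isCyclic
  | succ k ih =>
    intro G _ _ p hp hG
    by_cases h2 : p = 2
    · subst h2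
      haveI : Fact (Nat.Prime 2) := ⟨Nat.prime_two⟩
      have hpg : IsPGroup 2 G := IsPGroup.of_card (n := k + 2) (by rw [hG]; ring)
      exact isSupersolvable_of_isPGroup 2 _ G rfl hpg
    · haveI : Fact p.Prime := ⟨hp⟩
      have h2p : Nat.Coprime 2 p := (Nat.coprime_primes Nat.prime_two hp).2 (Ne.symm h2)
      let P : Sylow p G := default
      have hfac : (Nat.card G).factorization p = k + 1 := by
        rw [hG, Nat.factorization_mul (by norm_num) (pow_ne_zero _ hp.ne_zero),
          Nat.factorization_pow]
        simp [Nat.Prime.factorization hp, Nat.Prime.factorization Nat.prime_two, Ne.symm h2]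
      have hPcard : Nat.card (P : Subgroup G) = p ^ (k + 1) := by
        rw [Sylow.card_eq_multiplicity, hfac]
      have hPidx : (P : Subgroup G).index = 2 := by
        have h1 := Subgroup.index_mul_card (P : Subgroup G)
        rw [hPcard, hG] at h1
        exact Nat.eq_of_mul_eq_mul_right (pow_pos hp.pos _) h1
      haveI hPn : (P : Subgroup G).Normal := Subgroup.normal_of_index_eq_two hPidx
      have hPnt : Nontrivial (P : Subgroup G) := by
        rw [← Finite.one_lt_card_iff_nontrivial, hPcard]
        exact Nat.one_lt_pow (Nat.succ_ne_zero k) hp.one_lt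
      have hc : Nontrivial (Subgroup.center (P : Subgroup G)) := P.isPGroup'.center_nontrivial
      have hcp : IsPGroup p (Subgroup.center (P : Subgroup G)) := P.isPGroup'.to_subgroup _
      have hdvd : p ∣ Nat.card (Subgroup.center (P : Subgroup G)) := by
        obtain ⟨j, hj0, hj⟩ := hcp.nontrivial_iff_card.mp hc
        exact hj.symm ▸ dvd_pow_self _ (ne_of_gt hj0)
      obtain ⟨z, hz⟩ := exists_prime_orderOf_dvd_card'
        (G := Subgroup.center (P : Subgroup G)) p hdvd
      obtain ⟨t, ht⟩ := exists_prime_orderOf_dvd_card' (G := G) 2 (by rw [hG]; exact dvd_mul_right _ _)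
      have htP : t ∉ (P : Subgroup G) := by
        intro h
        have h1 : orderOf (⟨t, h⟩ : (P : Subgroup G)) ∣ Nat.card (P : Subgroup G) :=
          orderOf_dvd_natCard _
        rw [hPcard, ← Subgroup.orderOf_coe, Subgroup.coe_mk, ht] at h1
        exact h2 ((Nat.prime_dvd_prime_iff_eq Nat.prime_two hp).1
          (Nat.prime_two.dvd_of_dvd_pow h1)).symm
      have hsup : (P : Subgroup G) ⊔ Subgroup.zpowers t = ⊤ :=
        sup_eq_top_of_index_prime _ _ (by rw [hPidx]; exact Nat.prime_two)
          (fun h => htP (h (Subgroup.mem_zpowers t)))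
      -- the elements
      obtain ⟨a, haP, hacent, ha_ord⟩ : ∃ a : G, a ∈ (P : Subgroup G) ∧
          (∀ u ∈ (P : Subgroup G), u * a * u⁻¹ = a) ∧ orderOf a = p := by
        refine ⟨((z : (P : Subgroup G)) : G), (z : (P : Subgroup G)).2, ?_, ?_⟩
        · intro u hu
          have h1 := Subgroup.mem_center_iff.1 z.2 ⟨u, hu⟩
          have h3 := congrArg Subtype.val h1
          simp only [Subgroup.coe_mul] at h3
          rw [mul_inv_eq_iff_eq_mul]
          exact h3
        · rw [Subgroup.orderOf_coe, Subgroup.orderOf_coe, hz]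
      have htt : t * t = 1 := by
        have := pow_orderOf_eq_one t
        rwa [ht, pow_two] at this
      have htinv : t⁻¹ = t := inv_eq_of_mul_eq_one_left htt
      have hbP : t * a * t⁻¹ ∈ (P : Subgroup G) := hPn.conj_mem a haP t
      have hbcent : ∀ u ∈ (P : Subgroup G), u * (t * a * t⁻¹) * u⁻¹ = t * a * t⁻¹ := by
        intro u hu
        have h1 : t⁻¹ * u * t ∈ (P : Subgroup G) := by
          have := hPn.conj_mem u hu t⁻¹
          rwa [inv_inv] at this
        have h3 := hacent _ h1
        have h4 : u * (t * a * t⁻¹) * u⁻¹ = t * ((t⁻¹ * u * t) * a * (t⁻¹ * u * t)⁻¹) * t⁻¹ := by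
          group
        rw [h4, h3]
      have hab : Commute a (t * a * t⁻¹) := by
        have h1 := hbcent a haP
        rw [mul_inv_eq_iff_eq_mul] at h1
        exact h1
      have htb : t * (t * a * t⁻¹) * t⁻¹ = a := by
        rw [htinv]
        calc t * (t * a * t) * t = (t * t) * a * (t * t) := by group
          _ = a := by rw [htt, one_mul, mul_one]
      have hap : a ^ p = 1 := by rw [← ha_ord]; exact pow_orderOf_eq_one a
      -- finish given a suitable normal subgroup of order p
      have finish : ∀ x : G, (Subgroup.zpowers x).Normal → orderOf x = p →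
          Cfsg.IsSupersolvable G := by
        intro x hxn hxo
        have hNcard : Nat.card (Subgroup.zpowers x) = p := by rw [Nat.card_zpowers, hxo]
        have hQcard : Nat.card (G ⧸ Subgroup.zpowers x) = 2 * p ^ k := by
          have h1 := Subgroup.card_eq_card_quotient_mul_card_subgroup (Subgroup.zpowers x)
          rw [hNcard, hG, pow_succ, ← mul_assoc] at h1
          exact (Nat.eq_of_mul_eq_mul_right hp.pos h1).symm
        have hQ := ih (G ⧸ Subgroup.zpowers x) p hp hQcard
        exact isSupersolvable_of_quotient_cyclic _ hQ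
      by_cases hw : a * (t * a * t⁻¹) = 1
      · -- t inverts a
        have hinv : t * a * t⁻¹ = a⁻¹ := (eq_inv_of_mul_eq_one_right hw)
        apply finish a _ ha_ord
        apply normal_zpowers_of (P : Subgroup G) t a hsup hacent
        rw [hinv, Subgroup.zpowers_inv]
      · have hwp : (a * (t * a * t⁻¹)) ^ p = 1 := by
          rw [hab.mul_pow, hap, conj_pow, hap]
          simp
        have hwo : orderOf (a * (t * a * t⁻¹)) = p := by
          have h1 := orderOf_dvd_of_pow_eq_one hwp
          rcases (Nat.dvd_prime hp).1 h1 with h3 | h3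
          · exact absurd (orderOf_eq_one_iff.1 h3) hw
          · exact h3
        apply finish _ _ hwo
        apply normal_zpowers_of (P : Subgroup G) t _ hsup
        · intro u hu
          have h1 := hacent u hu
          have h3 := hbcent u hu
          calc u * (a * (t * a * t⁻¹)) * u⁻¹ = (u * a * u⁻¹) * (u * (t * a * t⁻¹) * u⁻¹) := by
                group
            _ = a * (t * a * t⁻¹) := by rw [h1, h3]
        · have h1 : t * (a * (t * a * t⁻¹)) * t⁻¹ = (t * a * t⁻¹) * (t * (t * a * t⁻¹) * t⁻¹) := by
            group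
          rw [h1, htb, hab.eq]

/-- A finite group whose order is twice a prime power is supersolvable. -/
theorem result {G : Type*} [Group G] [Finite G] (p n : ℕ) (hp : p.Prime) (hG : Nat.card G = 2 * p ^ n) : Cfsg.IsSupersolvable G := by
  exact aux n G p hp hG

end Cfsg.Agent.S0530
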