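import Cfsg.Statements.S0533
import Cfsg.Agent.Lib.Helper9.SS2
import Cfsg.Agent.Lib.Helper9.CLT
import Cfsg.Agent.Lib.Helper9.Card
import Cfsg.Agent.Lib.Helper9.PGroupLemmas

set_option autoImplicit false
open Cfsg

namespace Cfsg.Agent.S0533

open Cfsg.Agent.Lib.Helper9
open scoped Pointwise

universe u

theorem exists_mul_of_sup_eq_top {G : Type*} [Group G] (M P : Subgroup G) [P.Normal]
    (hsup : M ⊔ P = ⊤) (g : G) : ∃ m ∈ M, ∃ u ∈ P, g = m * u := by
  have h1 : g ∈ ((M ⊔ P : Subgroup G) : Set G) := by rw [hsup]; trivial
  rw [Subgroup.mul_normal] at h1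
  obtain ⟨m, hm, u, hu, rfl⟩ := h1
  exact ⟨m, hm, u, hu, rfl⟩

theorem T : ∀ (n : ℕ) (G : Type u) [Group G] [Finite G], Nat.card G = n →
    ∀ (p : ℕ) [Fact p.Prime] (P M : Subgroup G), P.Normal → IsPGroup p P →
    Cfsg.IsSupersolvable M → M ⊔ P = ⊤ → (M ⊓ P).Normal →
    Nat.card P ∣ p * Nat.card (M ⊓ P : Subgroup G) → Cfsg.IsSupersolvable G := by
  intro n
  induction n using Nat.strong_induction_on with
  | _ n ih =>
    intro G _ _ hcard p hp P M hPn hPp hM hsup hMPn hidx
    -- G ⧸ P is supersolvable
    have hQ : Cfsg.IsSupersolvable (G ⧸ P) := by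
      apply isSupersolvable_of_surjective hM ((QuotientGroup.mk' P).comp M.subtype)
      intro q
      obtain ⟨g, rfl⟩ := QuotientGroup.mk'_surjective P q
      obtain ⟨m, hm, u, hu, rfl⟩ := exists_mul_of_sup_eq_top M P hsup g
      refine ⟨⟨m, hm⟩, ?_⟩
      simp only [MonoidHom.comp_apply, Subgroup.coe_subtype, map_mul]
      have : QuotientGroup.mk' P u = 1 := (QuotientGroup.eq_one_iff u).2 hu
      rw [this, mul_one]
    by_cases hbot : M ⊓ P = ⊥
    · rw [hbot, Subgroup.card_bot, mul_one] at hidx
      haveI : IsCyclic P := isCyclic_of_card_dvd_prime hidx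
      exact isSupersolvable_of_quotient_cyclic P hQ
    · -- find a normal subgroup of prime order inside M ⊓ P
      have hP₁n : ((M ⊓ P).subgroupOf P).Normal := hMPn.subgroupOf P
      have hP₁ne : (M ⊓ P).subgroupOf P ≠ ⊥ := by
        intro h
        rw [Subgroup.subgroupOf_eq_bot, disjoint_iff, inf_assoc, inf_idem] at h
        exact hbot h
      obtain ⟨z, hzN, hz1, hzc⟩ := exists_ne_one_mem_center_of_normal hPp _ hP₁ne
      have hcn : ((Subgroup.center P).map P.subtype).Normal := inferInstance
      have hZn : ((M ⊓ P) ⊓ (Subgroup.center P).map P.subtype).Normal :=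
        Subgroup.normal_inf_normal _ _
      have hZne : ((M ⊓ P) ⊓ (Subgroup.center P).map P.subtype) ≠ ⊥ := by
        intro h
        have : (z : G) ∈ ((M ⊓ P) ⊓ (Subgroup.center P).map P.subtype) :=
          ⟨hzN, Subgroup.mem_map_of_mem _ hzc⟩
        rw [h, Subgroup.mem_bot] at this
        exact hz1 (Subtype.ext this)
      have hZM : ((M ⊓ P) ⊓ (Subgroup.center P).map P.subtype) ≤ M :=
        inf_le_left.trans inf_le_left
      have hD₁n : (((M ⊓ P) ⊓ (Subgroup.center P).map P.subtype).subgroupOf M).Normal :=
        hZn.subgroupOf M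
      have hD₁ne : ((M ⊓ P) ⊓ (Subgroup.center P).map P.subtype).subgroupOf M ≠ ⊥ := by
        intro h
        rw [Subgroup.subgroupOf_eq_bot, disjoint_iff, inf_eq_left.2 hZM] at h
        exact hZne h
      obtain ⟨D, hDle, hDn, hDp⟩ := exists_normal_prime_card_le hM _ hD₁ne
      have hNle : D.map M.subtype ≤ (M ⊓ P) ⊓ (Subgroup.center P).map P.subtype := by
        rintro x ⟨d, hd, rfl⟩
        exact hDle hd
      have hNn : (D.map M.subtype).Normal := by
        constructor
        rintro x ⟨d, hd, rfl⟩ g
        obtain ⟨m, hm, u, hu, rfl⟩ := exists_mul_of_sup_eq_top M P hsup g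
        have h1 : u * (M.subtype d) * u⁻¹ = M.subtype d := by
          obtain ⟨c, hc, hcd⟩ := (hNle (Subgroup.mem_map_of_mem _ hd)).2
          have := (Subgroup.mem_center_iff.1 hc) ⟨u, hu⟩
          have h2 := congrArg Subtype.val this
          simp only [Subgroup.coe_mul] at h2
          rw [← hcd, Subgroup.coe_subtype, mul_inv_eq_iff_eq_mul]
          exact h2
        have h3 : m * u * M.subtype d * (m * u)⁻¹ =
            M.subtype (⟨m, hm⟩ * d * ⟨m, hm⟩⁻¹) := by
          have : m * u * M.subtype d * (m * u)⁻¹ = m * (u * M.subtype d * u⁻¹) * m⁻¹ := by group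
          rw [this, h1]
          simp
        rw [h3]
        exact Subgroup.mem_map_of_mem _ (hDn.conj_mem d hd _)
      have hNcard : Nat.card (D.map M.subtype) = Nat.card D :=
        Subgroup.card_map_of_injective M.subtype_injective
      haveI : Fact (Nat.card (D.map M.subtype)).Prime := ⟨by rw [hNcard]; exact hDp⟩
      haveI hNc : IsCyclic (D.map M.subtype) := isCyclic_of_prime_card rfl
      have hNM : D.map M.subtype ≤ M := hNle.trans hZM
      have hNP : D.map M.subtype ≤ P := hNle.trans (inf_le_left.trans inf_le_right)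
      have hsurj := QuotientGroup.mk'_surjective (D.map M.subtype)
      have hlt : Nat.card (G ⧸ D.map M.subtype) < n := by
        rw [← hcard, Subgroup.card_eq_card_quotient_mul_card_subgroup (D.map M.subtype)]
        have hpos : 0 < Nat.card (G ⧸ D.map M.subtype) := Nat.card_pos
        have : 1 < Nat.card (D.map M.subtype) := by rw [hNcard]; exact hDp.one_lt
        nlinarith
      have hM' : Cfsg.IsSupersolvable (M.map (QuotientGroup.mk' (D.map M.subtype))) :=
        isSupersolvable_of_surjective hM
          ((QuotientGroup.mk' (D.map M.subtype)).subgroupMap M)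
          (MonoidHom.subgroupMap_surjective _ _)
      have hinf : (M ⊓ P).map (QuotientGroup.mk' (D.map M.subtype)) =
          M.map (QuotientGroup.mk' (D.map M.subtype)) ⊓
            P.map (QuotientGroup.mk' (D.map M.subtype)) :=
        map_inf_eq_of_ker_le _ _ _ (by rw [QuotientGroup.ker_mk']; exact hNM)
      have hQss : Cfsg.IsSupersolvable (G ⧸ D.map M.subtype) := by
        apply ih _ hlt (G ⧸ D.map M.subtype) rfl p
          (P.map (QuotientGroup.mk' (D.map M.subtype)))
          (M.map (QuotientGroup.mk' (D.map M.subtype)))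
          (hPn.map _ hsurj) (hPp.map _) hM'
        · rw [← Subgroup.map_sup, hsup, Subgroup.map_top_of_surjective _ hsurj]
        · rw [← hinf]; exact hMPn.map _ hsurj
        · rw [← hinf]
          have h1 := card_map_mk'_mul_card (D.map M.subtype) P hNP
          have h2 := card_map_mk'_mul_card (D.map M.subtype) (M ⊓ P) (le_inf hNM hNP)
          rw [← h1, ← h2, ← mul_assoc] at hidx
          exact Nat.dvd_of_mul_dvd_mul_right Nat.card_pos hidx
      exact isSupersolvable_of_quotient_cyclic (D.map M.subtype) hQss

theorem main : ∀ (n : ℕ) (G : Type u) [Group G] [Finite G], Nat.card G = n →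
    (∀ H : Subgroup G, Cfsg.HasSubgroupOfEveryOrder H) → Cfsg.IsSupersolvable G := by
  intro n
  induction n using Nat.strong_induction_on with
  | _ n ih =>
    intro G _ _ hcard h
    rcases subsingleton_or_nontrivial G with hs | hnt
    · rw [isSupersolvable_iff_ssChain]
      have : (⊤ : Subgroup G) = ⊥ := Subsingleton.elim _ _
      rw [this]
      exact SSChain.refl inferInstance
    have hn1 : Nat.card G ≠ 1 := (Finite.one_lt_card (α := G)).ne'
    -- the largest prime divisor
    have hne : (Nat.card G).primeFactors.Nonempty :=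
      Nat.nonempty_primeFactors.2 (Finite.one_lt_card (α := G))
    obtain ⟨p, hpmem, hmax'⟩ : ∃ p ∈ (Nat.card G).primeFactors,
        ∀ q ∈ (Nat.card G).primeFactors, q ≤ p :=
      ⟨_, Finset.max'_mem _ hne, fun q hq => Finset.le_max' _ _ hq⟩
    have hpp : p.Prime := Nat.prime_of_mem_primeFactors hpmem
    have hpd : p ∣ Nat.card G := Nat.dvd_of_mem_primeFactors hpmem
    haveI : Fact p.Prime := ⟨hpp⟩
    have hmax : ∀ q : ℕ, q.Prime → q ∣ Nat.card G → q ≤ p := by
      intro q hq hqd
      exact hmax' _ (Nat.mem_primeFactors.2 ⟨hq, hqd, Nat.card_pos.ne'⟩)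
    let P : Sylow p G := default
    have hPn : (P : Subgroup G).Normal := sylow_normal_of_hereditary_clt _ G rfl h p hmax P
    obtain ⟨M, hMcard⟩ := clt_top h (Nat.card G / p) (Nat.div_dvd_of_dvd hpd)
    have hGM : p * Nat.card M = Nat.card G := by rw [hMcard]; exact Nat.mul_div_cancel' hpd
    have hlt : Nat.card M < n := by
      rw [← hcard, ← hGM]
      have hpos : 0 < Nat.card M := Nat.card_pos
      have := hpp.one_lt
      nlinarith
    have hMss : Cfsg.IsSupersolvable M := ih _ hlt M rfl (clt_hereditary h M)
    have hidxM : M.index = p := by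
      have h1 := Subgroup.index_mul_card M
      rw [← hGM] at h1
      exact Nat.eq_of_mul_eq_mul_right Nat.card_pos h1
    -- P is not contained in M
    have hPM : ¬ (P : Subgroup G) ≤ M := by
      intro hle
      have h1 : Nat.card P ∣ Nat.card M := Subgroup.card_dvd_of_le hle
      have h2 := Sylow.card_eq_multiplicity P
      have h3 : (Nat.card M).factorization p + 1 = (Nat.card G).factorization p := by
        rw [← hGM, Nat.factorization_mul hpp.ne_zero Nat.card_pos.ne']
        simp [Nat.Prime.factorization hpp, add_comm]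
      rw [h2] at h1
      have h4 := (Nat.Prime.pow_dvd_iff_le_factorization hpp Nat.card_pos.ne').1 h1
      omega
    have hsup : M ⊔ (P : Subgroup G) = ⊤ := by
      have h1 : (M ⊔ (P : Subgroup G)).index ∣ p := by
        have := Subgroup.index_dvd_of_le (le_sup_left : M ≤ M ⊔ (P : Subgroup G))
        rwa [hidxM] at this
      rcases (Nat.dvd_prime hpp).1 h1 with h2 | h2
      · exact Subgroup.index_eq_one.1 h2
      · exfalso
        apply hPM
        have h3 : Nat.card (M ⊔ (P : Subgroup G) : Subgroup G) = Nat.card M := by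
          have h4 := Subgroup.index_mul_card (M ⊔ (P : Subgroup G))
          rw [h2, ← hGM] at h4
          exact Nat.eq_of_mul_eq_mul_left hpp.pos h4
        have h5 : M = M ⊔ (P : Subgroup G) :=
          Subgroup.eq_of_le_of_card_ge le_sup_left h3.le
        rw [h5]; exact le_sup_right
    -- card of M ⊓ P
    have hcardinf : p * Nat.card (M ⊓ (P : Subgroup G) : Subgroup G) = Nat.card P := by
      have h1 : (P : Subgroup G).relIndex M = (P : Subgroup G).index := by
        rw [← Subgroup.relIndex_sup_right M (P : Subgroup G), hsup, Subgroup.relIndex_top_right]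
      have h2 : ((P : Subgroup G) ⊓ M).relIndex M = (P : Subgroup G).index := by
        rw [Subgroup.inf_relIndex_right, h1]
      have h3 := relIndex_mul_card_of_le (inf_le_right : (P : Subgroup G) ⊓ M ≤ M)
      have h4 := Subgroup.index_mul_card (P : Subgroup G)
      rw [h2] at h3
      rw [inf_comm]
      have hpos : 0 < (P : Subgroup G).index := Nat.pos_of_ne_zero Subgroup.index_ne_zero_of_finite
      apply Nat.eq_of_mul_eq_mul_left hpos
      rw [h4, ← hGM, ← h3]
      ring
    have hMPn : (M ⊓ (P : Subgroup G)).Normal := by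
      have hMn : M ≤ Subgroup.normalizer ((M ⊓ (P : Subgroup G) : Subgroup G) : Set G) := by
        intro m hm
        rw [Subgroup.mem_normalizer_iff]
        intro x
        constructor
        · rintro ⟨hx1, hx2⟩
          exact ⟨M.mul_mem (M.mul_mem hm hx1) (M.inv_mem hm), hPn.conj_mem x hx2 m⟩
        · rintro ⟨hx1, hx2⟩
          refine ⟨?_, ?_⟩
          · have := M.mul_mem (M.mul_mem (M.inv_mem hm) hx1) hm
            simpa [mul_assoc] using this
          · have := hPn.conj_mem _ hx2 m⁻¹
            have h7 : m⁻¹ * (m * x * m⁻¹) * m⁻¹⁻¹ = x := by group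
            rw [h7] at this
            exact this
      have hPn' : (P : Subgroup G) ≤ Subgroup.normalizer ((M ⊓ (P : Subgroup G) : Subgroup G) : Set G) := by
        have hcardP : Nat.card (P : Subgroup G) ≠ 1 := by
          rw [← hcardinf]
          have hpos : 0 < Nat.card (M ⊓ (P : Subgroup G) : Subgroup G) := Nat.card_pos
          have := hpp.one_lt
          nlinarith
        have h1 : ((M ⊓ (P : Subgroup G)).subgroupOf (P : Subgroup G)).index =
            (Nat.card (P : Subgroup G)).minFac := by
          have h2 : (Nat.card (P : Subgroup G)).minFac = p := by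
            have h3 : (Nat.card (P : Subgroup G)).minFac ∣ Nat.card (P : Subgroup G) :=
              Nat.minFac_dvd _
            have h3' : (Nat.card (P : Subgroup G)).minFac ∣ p ^ (Nat.card G).factorization p := by
              rw [← Sylow.card_eq_multiplicity]; exact h3
            exact (Nat.prime_dvd_prime_iff_eq (Nat.minFac_prime hcardP) hpp).1
              ((Nat.minFac_prime hcardP).dvd_of_dvd_pow h3')
          rw [h2]
          have h4 := relIndex_mul_card_of_le
            (inf_le_right : M ⊓ (P : Subgroup G) ≤ (P : Subgroup G))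
          rw [← hcardinf] at h4
          have hpos : 0 < Nat.card (M ⊓ (P : Subgroup G) : Subgroup G) := Nat.card_pos
          exact Nat.eq_of_mul_eq_mul_right hpos h4
        have h5 := Subgroup.normal_of_index_eq_minFac_card h1
        exact (Subgroup.normal_subgroupOf_iff_le_normalizer inf_le_right).1 h5
      have h6 : Subgroup.normalizer ((M ⊓ (P : Subgroup G) : Subgroup G) : Set G) = ⊤ := by
        rw [← top_le_iff, ← hsup]; exact sup_le hMn hPn'
      exact Subgroup.normalizer_eq_top_iff.1 h6
    exact T _ G rfl p (P : Subgroup G) M hPn P.isPGroup' hMss hsup hMPn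
      (by rw [hcardinf])

/-- If every subgroup of a finite group has subgroups of all orders dividing its order, then the group is supersolvable. -/
theorem result {G : Type*} [Group G] [Finite G] (h : ∀ H : Subgroup G, Cfsg.HasSubgroupOfEveryOrder H) : Cfsg.IsSupersolvable G := by
  exact main _ G rfl h

end Cfsg.Agent.S0533
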