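import Cfsg.Statements.S0534
import Cfsg.Agent.Lib.Helper9.Card
import Cfsg.Agent.S0003

set_option autoImplicit false
open Cfsg

namespace Cfsg.Agent.S0534

open Cfsg.Agent.Lib.Helper9

universe u

/-- Finite abelian groups satisfy the converse of Lagrange's theorem. -/
theorem clt_of_comm : ∀ (n : ℕ) (A : Type u) [CommGroup A] [Finite A], Nat.card A = n →
    ∀ d : ℕ, d ∣ Nat.card A → ∃ B : Subgroup A, Nat.card B = d := by
  intro n
  induction n using Nat.strong_induction_on with
  | _ n ih =>
    intro A _ _ hcard d hd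
    by_cases hd1 : d = 1
    · exact ⟨⊥, by rw [Subgroup.card_bot, hd1]⟩
    obtain ⟨q, hp, hpd⟩ : ∃ q : ℕ, q.Prime ∧ q ∣ d := ⟨d.minFac, Nat.minFac_prime hd1, Nat.minFac_dvd d⟩
    haveI : Fact q.Prime := ⟨hp⟩
    obtain ⟨x, hx⟩ := exists_prime_orderOf_dvd_card' (G := A) q (hpd.trans hd)
    have hNcard : Nat.card (Subgroup.zpowers x) = q := by rw [Nat.card_zpowers, hx]
    have hQ := Subgroup.card_eq_card_quotient_mul_card_subgroup (Subgroup.zpowers x)
    rw [hNcard] at hQ
    have hlt : Nat.card (A ⧸ Subgroup.zpowers x) < n := by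
      rw [← hcard, hQ]
      have hpos : 0 < Nat.card (A ⧸ Subgroup.zpowers x) := Nat.card_pos
      have := hp.one_lt
      nlinarith
    obtain ⟨d', rfl⟩ := hpd
    have hd' : d' ∣ Nat.card (A ⧸ Subgroup.zpowers x) := by
      rw [hQ, mul_comm (Nat.card (A ⧸ Subgroup.zpowers x))] at hd
      exact Nat.dvd_of_mul_dvd_mul_left hp.pos hd
    obtain ⟨B', hB'⟩ := ih _ hlt (A ⧸ Subgroup.zpowers x) rfl d' hd'
    refine ⟨B'.comap (QuotientGroup.mk' (Subgroup.zpowers x)), ?_⟩
    rw [card_comap_mk'_eq, hB', hNcard, mul_comm]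

/-- The arithmetic splitting. -/
theorem nt_split (n a d : ℕ) (hn : n ≠ 0) (ha : a ≠ 0)
    (hexp : ∀ p : ℕ, p.Prime → p ∣ n → a.factorization p + 1 = n.factorization p)
    (hd : d ∣ n * a) : ∃ m n' d' : ℕ, n = m * n' ∧ m.Coprime n' ∧ d = m * d' ∧ d' ∣ a := by
  classical
  have hd0 : d ≠ 0 := fun h => (mul_ne_zero hn ha) (by rw [h] at hd; exact zero_dvd_iff.1 hd)
  let P : ℕ → Prop := fun p => n.factorization p ≤ d.factorization p
  let f : ℕ →₀ ℕ := n.factorization.filter P
  let f' : ℕ →₀ ℕ := n.factorization.filter (fun p => ¬ P p)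
  have hfs : ∀ p ∈ f.support, p.Prime := by
    intro p hp
    rw [Finsupp.support_filter] at hp
    exact Nat.prime_of_mem_primeFactors (Nat.support_factorization n ▸ (Finset.mem_filter.1 hp).1)
  have hfs' : ∀ p ∈ f'.support, p.Prime := by
    intro p hp
    rw [Finsupp.support_filter] at hp
    exact Nat.prime_of_mem_primeFactors (Nat.support_factorization n ▸ (Finset.mem_filter.1 hp).1)
  have hm : (f.prod (· ^ ·)).factorization = f := Nat.prod_pow_factorization_eq_self hfs
  have hn' : (f'.prod (· ^ ·)).factorization = f' := Nat.prod_pow_factorization_eq_self hfs'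
  have hm0 : f.prod (· ^ ·) ≠ 0 := by
    rw [Finsupp.prod_ne_zero_iff]
    intro p hp
    exact pow_ne_zero _ (hfs p hp).ne_zero
  have hn'0 : f'.prod (· ^ ·) ≠ 0 := by
    rw [Finsupp.prod_ne_zero_iff]
    intro p hp
    exact pow_ne_zero _ (hfs' p hp).ne_zero
  have hfp : ∀ p, f p = if P p then n.factorization p else 0 := fun p => by
    simp only [f, Finsupp.filter_apply]
  have hfp' : ∀ p, f' p = if ¬ P p then n.factorization p else 0 := fun p => by
    simp only [f', Finsupp.filter_apply]
  have hmd : f.prod (· ^ ·) ∣ d := by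
    rw [← Nat.factorization_le_iff_dvd hm0 hd0, hm]
    intro p
    rw [hfp]
    split_ifs with h
    · exact h
    · exact Nat.zero_le _
  refine ⟨f.prod (· ^ ·), f'.prod (· ^ ·), d / f.prod (· ^ ·), ?_, ?_, ?_, ?_⟩
  · apply Nat.eq_of_factorization_eq hn (mul_ne_zero hm0 hn'0)
    intro p
    rw [Nat.factorization_mul hm0 hn'0, hm, hn', Finsupp.add_apply, hfp, hfp']
    split_ifs <;> simp
  · apply Nat.coprime_of_dvd
    intro p hp h1 h2
    have h3 : 0 < (f.prod (· ^ ·)).factorization p := hp.factorization_pos_of_dvd hm0 h1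
    have h4 : 0 < (f'.prod (· ^ ·)).factorization p := hp.factorization_pos_of_dvd hn'0 h2
    rw [hm, hfp] at h3
    rw [hn', hfp'] at h4
    split_ifs at h3 h4 <;> omega
  · exact (Nat.mul_div_cancel' hmd).symm
  · have hdm0 : d / f.prod (· ^ ·) ≠ 0 := by
      intro h
      have := Nat.mul_div_cancel' hmd
      rw [h, mul_zero] at this
      exact hd0 this.symm
    rw [← Nat.factorization_le_iff_dvd hdm0 ha, Nat.factorization_div hmd, hm]
    intro p
    rw [Finsupp.tsub_apply, hfp]
    have h1 : d.factorization p ≤ (n * a).factorization p :=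
      (Nat.factorization_le_iff_dvd hd0 (mul_ne_zero hn ha)).2 hd p
    rw [Nat.factorization_mul hn ha, Finsupp.add_apply] at h1
    split_ifs with h
    · omega
    · have h2 : d.factorization p < n.factorization p := not_le.1 h
      by_cases hp : p.Prime ∧ p ∣ n
      · have := hexp p hp.1 hp.2
        omega
      · have h3 : n.factorization p = 0 := by
          by_contra h4
          apply hp
          have h5 : p ∈ n.factorization.support := Finsupp.mem_support_iff.2 h4
          rw [Nat.support_factorization] at h5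
          exact ⟨Nat.prime_of_mem_primeFactors h5, Nat.dvd_of_mem_primeFactors h5⟩
        omega

/-- Let G be a finite solvable group and A a finite abelian group such that every prime dividing the order of A divides the order of G and, for each prime p dividing the order of G, the exponent of p in the order of A is one less than its exponent in the order of G. Then G × A has a subgroup of every order dividing its order. -/
theorem result {G A : Type*} [Group G] [CommGroup A] [Finite G] [Finite A] [Group.IsSolvable G] (hA : ∀ p : ℕ, p.Prime → p ∣ Nat.card A → p ∣ Nat.card G) (hexp : ∀ p : ℕ, p.Prime → p ∣ Nat.card G → (Nat.card A).factorization p + 1 = (Nat.card G).factorization p) : Cfsg.HasSubgroupOfEveryOrder (G × A) := by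
  intro d hd
  rw [Nat.card_prod] at hd
  obtain ⟨m, n', d', hmn, hcop, hdm, hd'a⟩ := nt_split (Nat.card G) (Nat.card A) d
    Nat.card_pos.ne' Nat.card_pos.ne' hexp hd
  obtain ⟨H, hH⟩ := Cfsg.Agent.S0003.result (G := G) m n' hmn hcop
  obtain ⟨B, hB⟩ := clt_of_comm _ A rfl d' hd'a
  refine ⟨H.prod B, ?_⟩
  rw [Nat.card_congr (Subgroup.prodEquiv H B).toEquiv, Nat.card_prod, hH, hB, hdm]

end Cfsg.Agent.S0534
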