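import Cfsg.Statements.S0535
import Cfsg.Agent.Lib.Helper9.WielandtThree
import Cfsg.Agent.S0144

set_option autoImplicit false
open Cfsg

namespace Cfsg.Agent.S0535

open Cfsg.Agent.Lib.Helper9

/-- A positive integer is of the form `p^a q^b` or has three distinct prime divisors. -/
theorem two_primes_or_three (n : ℕ) (hn : n ≠ 0) :
    (∃ p q a b : ℕ, p.Prime ∧ q.Prime ∧ n = p ^ a * q ^ b) ∨
    (∃ p q r : ℕ, p.Prime ∧ q.Prime ∧ r.Prime ∧ p ≠ q ∧ p ≠ r ∧ q ≠ r ∧
      p ∣ n ∧ q ∣ n ∧ r ∣ n) := by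
  by_cases h1 : n = 1
  · left
    exact ⟨2, 2, 0, 0, Nat.prime_two, Nat.prime_two, by simp [h1]⟩
  have hp : n.minFac.Prime := Nat.minFac_prime h1
  have hnm : n.minFac ^ n.factorization n.minFac * (n / n.minFac ^ n.factorization n.minFac) = n :=
    Nat.ordProj_mul_ordCompl_eq_self n n.minFac
  have hpm : ¬ n.minFac ∣ (n / n.minFac ^ n.factorization n.minFac) := Nat.not_dvd_ordCompl hp hn
  have hpn : n.minFac ∣ n := Nat.minFac_dvd n
  generalize n.minFac = p at hp hnm hpm hpn
  generalize n.factorization p = a at hnm hpm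
  generalize n / p ^ a = m at hnm hpm
  have hm0 : m ≠ 0 := by
    rintro h
    rw [h, mul_zero] at hnm
    exact hn hnm.symm
  by_cases h2 : m = 1
  · left
    refine ⟨p, p, a, 0, hp, hp, ?_⟩
    rw [pow_zero, ← hnm, h2]
  have hq : m.minFac.Prime := Nat.minFac_prime h2
  have hmm' : m.minFac ^ m.factorization m.minFac * (m / m.minFac ^ m.factorization m.minFac) = m :=
    Nat.ordProj_mul_ordCompl_eq_self m m.minFac
  have hqm' : ¬ m.minFac ∣ (m / m.minFac ^ m.factorization m.minFac) :=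
    Nat.not_dvd_ordCompl hq hm0
  have hqm : m.minFac ∣ m := Nat.minFac_dvd m
  generalize m.minFac = q at hq hmm' hqm' hqm
  generalize m.factorization q = b at hmm' hqm'
  generalize m / q ^ b = m' at hmm' hqm'
  by_cases h3 : m' = 1
  · left
    refine ⟨p, q, a, b, hp, hq, ?_⟩
    rw [← hnm, ← hmm', h3, mul_one]
  have hr : m'.minFac.Prime := Nat.minFac_prime h3
  have hrm' : m'.minFac ∣ m' := Nat.minFac_dvd m'
  generalize m'.minFac = r at hr hrm'
  right
  have hm'm : m' ∣ m := Dvd.intro_left _ hmm'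
  have hmn : m ∣ n := Dvd.intro_left _ hnm
  refine ⟨p, q, r, hp, hq, hr, ?_, ?_, ?_, hpn, hqm.trans hmn,
    (hrm'.trans hm'm).trans hmn⟩
  · rintro h
    exact hpm (h ▸ hqm)
  · rintro h
    exact hpm (h ▸ (hrm'.trans hm'm))
  · rintro h
    exact hqm' (h ▸ hrm')

theorem main {G : Type*} [Group G] [Finite G]
    (h : ∀ H : Subgroup G, H ≠ ⊥ → ∀ p : ℕ, p.Prime → p ∣ Nat.card H →
      ∃ K : Subgroup H, K ≠ ⊤ ∧ ∃ k : ℕ, K.index = p ^ k) :
    ∀ (n : ℕ) (H : Subgroup G), Nat.card H = n → Group.IsSolvable H := by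
  intro n
  induction n using Nat.strong_induction_on with
  | _ n ih =>
  intro H hn
  by_cases hH : H = ⊥
  · subst hH
    infer_instance
  rcases two_primes_or_three (Nat.card H) Nat.card_pos.ne' with
    ⟨p, q, a, b, hp, hq, hab⟩ | ⟨p, q, r, hp, hq, hr, hpq, hpr, hqr, hpn, hqn, hrn⟩
  · exact Cfsg.Agent.S0144.result p q a b hp hq hab
  · obtain ⟨K₁, hK₁, k₁, hk₁⟩ := h H hH p hp hpn
    obtain ⟨K₂, hK₂, k₂, hk₂⟩ := h H hH q hq hqn
    obtain ⟨K₃, hK₃, k₃, hk₃⟩ := h H hH r hr hrn
    have hsolv : ∀ K : Subgroup H, K ≠ ⊤ → Group.IsSolvable K := by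
      intro K hK
      have hlt : Nat.card (K.map H.subtype) < n := by
        rw [← hn, Nat.card_congr
          (K.equivMapOfInjective H.subtype H.subtype_injective).symm.toEquiv]
        exact lt_of_le_of_ne (Subgroup.card_le_card_group K)
          (fun h => hK (Subgroup.eq_top_of_card_eq K h))
      have hs := ih _ hlt (K.map H.subtype) rfl
      exact Group.isSolvable_of_isSolvable_injective
        (f := (K.equivMapOfInjective H.subtype H.subtype_injective).toMonoidHom)
        (MulEquiv.injective _)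
    refine isSolvable_of_three_coprime_index K₁ K₂ K₃ (hsolv K₁ hK₁) (hsolv K₂ hK₂)
      (hsolv K₃ hK₃) ?_ ?_ ?_
    · rw [hk₁, hk₂]
      exact Nat.Coprime.pow _ _ ((Nat.coprime_primes hp hq).2 hpq)
    · rw [hk₁, hk₃]
      exact Nat.Coprime.pow _ _ ((Nat.coprime_primes hp hr).2 hpr)
    · rw [hk₂, hk₃]
      exact Nat.Coprime.pow _ _ ((Nat.coprime_primes hq hr).2 hqr)

/-- Suppose that for every nontrivial subgroup H of a finite group and every prime p dividing the order of H there is a proper subgroup of H whose index in H is a power of p. Then the group is solvable. -/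
theorem result {G : Type*} [Group G] [Finite G] (h : ∀ H : Subgroup G, H ≠ ⊥ → ∀ p : ℕ, p.Prime → p ∣ Nat.card H → ∃ K : Subgroup H, K ≠ ⊤ ∧ ∃ k : ℕ, K.index = p ^ k) : Group.IsSolvable G := by
  have hs := main h _ ⊤ rfl
  exact Group.isSolvable_of_surjective (f := (Subgroup.topEquiv (G := G)).toMonoidHom)
    Subgroup.topEquiv.surjective

end Cfsg.Agent.S0535
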