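import Cfsg.Statements.S0537
import Cfsg.Agent.S0536
import Cfsg.Agent.Lib.Helper9.CoprimeIndex2

set_option autoImplicit false
open Cfsg

namespace Cfsg.Agent.S0537

open Cfsg.Agent.Lib.Helper9

/-- If `g` (with `g ^ n = 1`, `n` prime to `q`) commutes with every element of order dividing `q`
of the abelian normal subgroup `Q`, then it commutes with every `q`-element of `Q`. -/
theorem commute_of_commute_omega {G : Type*} [Group G] (Q : Subgroup G) (hQn : Q.Normal)
    (hQc : ∀ a ∈ Q, ∀ b ∈ Q, a * b = b * a) (q : ℕ) (g : G) (n : ℕ) (hgn : g ^ n = 1)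
    (hnq : n.Coprime q) (h1 : ∀ y ∈ Q, y ^ q = 1 → g * y = y * g) :
    ∀ k : ℕ, ∀ x ∈ Q, x ^ (q ^ k) = 1 → g * x = x * g := by
  intro k
  induction k with
  | zero =>
    intro x _ hx
    rw [pow_zero, pow_one] at hx
    rw [hx, mul_one, one_mul]
  | succ k ih =>
    intro x hxQ hx
    have hxq : (x ^ q) ^ (q ^ k) = 1 := by rw [← pow_mul, ← pow_succ']; exact hx
    have hcq : g * x ^ q = x ^ q * g := ih _ (Q.pow_mem hxQ q) hxq
    have hgx : g * x * g⁻¹ ∈ Q := hQn.conj_mem x hxQ g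
    set y := x⁻¹ * (g * x * g⁻¹) with hy
    have hyQ : y ∈ Q := Q.mul_mem (Q.inv_mem hxQ) hgx
    have hyq : y ^ q = 1 := by
      have hc : Commute x⁻¹ (g * x * g⁻¹) := hQc _ (Q.inv_mem hxQ) _ hgx
      rw [hy, hc.mul_pow, conj_pow, inv_pow]
      have : g * x ^ q * g⁻¹ = x ^ q := by rw [hcq, mul_assoc, mul_inv_cancel, mul_one]
      rw [this, inv_mul_cancel]
    have hgy : g * y = y * g := h1 y hyQ hyq
    have hgx' : g * x = x * y * g := by rw [hy]; group
    have hgyj : ∀ j : ℕ, g * y ^ j = y ^ j * g := fun j => (Commute.pow_right hgy j)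
    have hj : ∀ j : ℕ, g ^ j * x = x * y ^ j * g ^ j := by
      intro j
      induction j with
      | zero => simp
      | succ j ihj =>
        calc g ^ (j + 1) * x = g * (g ^ j * x) := by rw [pow_succ']; group
          _ = g * (x * y ^ j * g ^ j) := by rw [ihj]
          _ = (g * x) * y ^ j * g ^ j := by group
          _ = x * y * (g * y ^ j) * g ^ j := by rw [hgx']; group
          _ = x * y * (y ^ j * g) * g ^ j := by rw [hgyj j]
          _ = x * y ^ (j + 1) * g ^ (j + 1) := by rw [pow_succ' y j, pow_succ' g j]; group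
    have hyn : y ^ n = 1 := by
      have := hj n
      rw [hgn, one_mul, mul_one] at this
      exact (mul_eq_left.1 this.symm)
    have hy1 : y = 1 := by
      have h2 : orderOf y ∣ n := orderOf_dvd_of_pow_eq_one hyn
      have h3 : orderOf y ∣ q := orderOf_dvd_of_pow_eq_one hyq
      have h4 : orderOf y = 1 := Nat.eq_one_of_dvd_coprimes hnq h2 h3
      exact orderOf_eq_one_iff.1 h4
    rw [hgx', hy1, mul_one]

/-- A finite non-abelian group in which every proper subgroup is abelian is either of prime-power order, or is generated by a cyclic Sylow p-subgroup and a normal Sylow q-subgroup that is elementary abelian, for distinct primes p and q. -/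
theorem result {G : Type*} [Group G] [Finite G] (hna : ¬ IsMulCommutative G) (h : ∀ H : Subgroup G, H ≠ ⊤ → IsMulCommutative H) : (∃ p : ℕ, p.Prime ∧ IsPGroup p G) ∨ ∃ p q : ℕ, p.Prime ∧ q.Prime ∧ p ≠ q ∧ ∃ (P : Sylow p G) (Q : Sylow q G), IsCyclic P ∧ (Q : Subgroup G).Normal ∧ Cfsg.IsElementaryAbelian q (Q : Subgroup G) ∧ (P : Subgroup G) ⊔ Q = ⊤ := by
  classical
  by_cases hpg : ∃ p : ℕ, p.Prime ∧ IsPGroup p G
  · exact Or.inl hpg
  right
  -- Sylow subgroups are proper
  have hsyl : ∀ (p : ℕ) [Fact p.Prime] (P : Sylow p G), (P : Subgroup G) ≠ ⊤ := by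
    intro p _ P hP
    apply hpg
    refine ⟨p, Fact.out, ?_⟩
    intro x
    have hx : x ∈ (P : Subgroup G) := hP ▸ Subgroup.mem_top x
    obtain ⟨k, hk⟩ := P.isPGroup' ⟨x, hx⟩
    exact ⟨k, by simpa using congrArg Subtype.val hk⟩
  have hnil : ¬ Group.IsNilpotent G := by
    intro hnil
    apply hna
    obtain ⟨e⟩ := ((Group.isNilpotent_of_finite_tfae (G := G)).out 0 4).1 hnil
    rw [isMulCommutative_iff]
    intro a b
    obtain ⟨x, rfl⟩ := e.surjective a
    obtain ⟨y, rfl⟩ := e.surjective b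
    rw [← map_mul, ← map_mul]
    congr 1
    funext p P
    have : Fact (p : ℕ).Prime := ⟨Nat.prime_of_mem_primeFactors p.2⟩
    have hc := h (P : Subgroup G) (hsyl p P)
    exact mul_comm' (x p P) (y p P)
  have hmin : Cfsg.IsMinimalNonNilpotent G := by
    refine ⟨hnil, fun H hH => ?_⟩
    have hc := h H hH
    exact ⟨1, Subgroup.upperCentralSeries_one_eq_top_iff.2 hc⟩
  obtain ⟨p, q, hp, hq, hpq, P, Q, hPc, hQn, hPQ⟩ := Cfsg.Agent.S0536.result hmin
  have : Fact p.Prime := ⟨hp⟩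
  have : Fact q.Prime := ⟨hq⟩
  refine ⟨p, q, hp, hq, hpq, P, Q, hPc, hQn, ⟨h _ (hsyl q Q), ?_⟩, hPQ⟩
  have hQc : ∀ a ∈ (Q : Subgroup G), ∀ b ∈ (Q : Subgroup G), a * b = b * a := by
    intro a ha b hb
    have hc := h _ (hsyl q Q)
    have h1 := mul_comm' (⟨a, ha⟩ : (Q : Subgroup G)) ⟨b, hb⟩
    exact congrArg Subtype.val h1
  -- generator of P
  obtain ⟨g0, hg0⟩ := hPc.exists_generator
  have hgP : (g0 : G) ∈ (P : Subgroup G) := g0.2
  have hPz : ∀ x ∈ (P : Subgroup G), ∃ k : ℤ, (g0 : G) ^ k = x := by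
    intro x hx
    obtain ⟨k, hk⟩ := Subgroup.mem_zpowers_iff.1 (hg0 ⟨x, hx⟩)
    exact ⟨k, by simpa using congrArg Subtype.val hk⟩
  have hgn : (g0 : G) ^ Nat.card P = 1 := by
    have h2 := congrArg Subtype.val (pow_card_eq_one' (G := (P : Subgroup G)) (x := g0))
    exact_mod_cast h2
  have hnq : (Nat.card P).Coprime q := by
    obtain ⟨k, hk⟩ := IsPGroup.iff_card.1 P.isPGroup'
    rw [hk]
    exact Nat.Coprime.pow_left _ ((Nat.coprime_primes hp hq).2 hpq)
  by_contra hex
  -- the subgroup of elements of order dividing `q`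
  let Q₁ : Subgroup G :=
    { carrier := {x | x ∈ (Q : Subgroup G) ∧ x ^ q = 1}
      mul_mem' := by
        rintro a b ⟨ha, haq⟩ ⟨hb, hbq⟩
        refine ⟨Subgroup.mul_mem _ ha hb, ?_⟩
        have hc : Commute a b := hQc a ha b hb
        rw [hc.mul_pow, haq, hbq, one_mul]
      one_mem' := ⟨Subgroup.one_mem _, one_pow _⟩
      inv_mem' := by
        rintro a ⟨ha, haq⟩
        exact ⟨Subgroup.inv_mem _ ha, by rw [inv_pow, haq, inv_one]⟩ }
  have hQ₁mem : ∀ x, x ∈ Q₁ ↔ x ∈ (Q : Subgroup G) ∧ x ^ q = 1 := fun x => Iff.rfl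
  have hQ₁n : Q₁.Normal := by
    constructor
    intro x hx c
    rw [hQ₁mem] at hx ⊢
    refine ⟨hQn.conj_mem x hx.1 c, ?_⟩
    rw [conj_pow, hx.2, mul_one, mul_inv_cancel]
  have hdisj : (Q : Subgroup G) ⊓ (P : Subgroup G) = ⊥ := by
    apply disjoint_iff.1
    apply Subgroup.disjoint_of_coprime_natCard
    obtain ⟨k, hk⟩ := IsPGroup.iff_card.1 P.isPGroup'
    obtain ⟨l, hl⟩ := IsPGroup.iff_card.1 Q.isPGroup'
    rw [hk, hl]
    exact Nat.Coprime.pow _ _ ((Nat.coprime_primes hq hp).2 hpq.symm)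
  have hQ₁P : Q₁ ⊔ (P : Subgroup G) ≠ ⊤ := by
    intro htop
    apply hex
    intro x hx
    have hx' : x ∈ ((Q₁ ⊔ (P : Subgroup G) : Subgroup G) : Set G) := by
      rw [htop]; exact Set.mem_univ x
    rw [Subgroup.normal_mul] at hx'
    obtain ⟨a, ha, b, hb, hab⟩ := hx'
    change a * b = x at hab
    have ha' : a ∈ Q₁ := ha
    rw [hQ₁mem] at ha'
    have hbQ : b ∈ (Q : Subgroup G) := by
      have : b = a⁻¹ * x := by rw [← hab]; group
      rw [this]
      exact Subgroup.mul_mem _ (Subgroup.inv_mem _ ha'.1) hx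
    have hb1 : b ∈ (Q : Subgroup G) ⊓ (P : Subgroup G) := ⟨hbQ, hb⟩
    rw [hdisj, Subgroup.mem_bot] at hb1
    rw [← hab, hb1, mul_one]
    exact ha'.2
  have hcomm := h _ hQ₁P
  have h1 : ∀ y ∈ (Q : Subgroup G), y ^ q = 1 → (g0 : G) * y = y * (g0 : G) := by
    intro y hy hyq
    have hy1 : y ∈ Q₁ ⊔ (P : Subgroup G) :=
      (le_sup_left : Q₁ ≤ Q₁ ⊔ (P : Subgroup G)) ((hQ₁mem y).2 ⟨hy, hyq⟩)
    have hg1 : (g0 : G) ∈ Q₁ ⊔ (P : Subgroup G) :=
      (le_sup_right : (P : Subgroup G) ≤ Q₁ ⊔ (P : Subgroup G)) hgP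
    have h2 := mul_comm' (⟨(g0 : G), hg1⟩ : (Q₁ ⊔ (P : Subgroup G) : Subgroup G)) ⟨y, hy1⟩
    exact congrArg Subtype.val h2
  have hall : ∀ x ∈ (Q : Subgroup G), (g0 : G) * x = x * (g0 : G) := by
    intro x hx
    obtain ⟨k, hk⟩ := Q.isPGroup' ⟨x, hx⟩
    exact commute_of_commute_omega (Q : Subgroup G) hQn hQc q g0 _ hgn hnq h1 k x hx
      (by simpa using congrArg Subtype.val hk)
  -- `G` is commutative
  apply hna
  rw [← Subgroup.center_eq_top_iff, eq_top_iff, ← hPQ]
  have hg_center : (g0 : G) ∈ Subgroup.center G := by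
    have hle : (⊤ : Subgroup G) ≤ Subgroup.centralizer {(g0 : G)} := by
      rw [← hPQ]
      apply sup_le
      · intro x hx
        obtain ⟨k, rfl⟩ := hPz x hx
        rw [Subgroup.mem_centralizer_singleton_iff]
        exact ((Commute.refl (g0 : G)).zpow_right k).eq.symm
      · intro x hx
        rw [Subgroup.mem_centralizer_singleton_iff]
        exact (hall x hx).symm
    rw [Subgroup.mem_center_iff]
    intro z
    have hz := hle (Subgroup.mem_top z)
    rw [Subgroup.mem_centralizer_singleton_iff] at hz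
    exact hz
  apply sup_le
  · intro x hx
    obtain ⟨k, rfl⟩ := hPz x hx
    exact Subgroup.zpow_mem _ hg_center k
  · intro x hx
    have hle : (⊤ : Subgroup G) ≤ Subgroup.centralizer {x} := by
      rw [← hPQ]
      apply sup_le
      · intro z hz
        obtain ⟨k, rfl⟩ := hPz z hz
        rw [Subgroup.mem_centralizer_singleton_iff]
        have : Commute x (g0 : G) := (hall x hx).symm
        exact (this.zpow_right k).eq.symm
      · intro z hz
        rw [Subgroup.mem_centralizer_singleton_iff]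
        exact hQc z hz x hx
    rw [Subgroup.mem_center_iff]
    intro z
    have hz := hle (Subgroup.mem_top z)
    rw [Subgroup.mem_centralizer_singleton_iff] at hz
    exact hz

end Cfsg.Agent.S0537
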