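import Cfsg.Statements.S0540
import Cfsg.Agent.Lib.Helper9.Subnormal
import Cfsg.Agent.S0539

set_option autoImplicit false
open Pointwise
open Cfsg

namespace Cfsg.Agent.S0540

open Cfsg.Agent.Lib.Helper9

theorem map_subtype_conj_smul {G : Type*} [Group G] (V : Subgroup G) (v : V) (Y : Subgroup V) :
    (MulAut.conj v • Y).map V.subtype = MulAut.conj (v : G) • (Y.map V.subtype) := by
  ext x
  constructor
  · rintro ⟨y, ⟨z, hz, rfl⟩, rfl⟩
    exact ⟨(z : G), ⟨z, hz, rfl⟩, by simp [MulAut.smul_def]⟩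
  · rintro ⟨y, ⟨z, hz, rfl⟩, rfl⟩
    exact ⟨MulAut.conj v • z, ⟨z, hz, rfl⟩, by simp [MulAut.smul_def]⟩

section

variable {G : Type*} [Group G] [Finite G] (A : Subgroup G) (S : Subgroup G → Set (Subgroup G))
  (hS : ∀ V B : Subgroup G, B ∈ S V ↔ (∃ g : G, B = MulAut.conj g • A) ∧ B ≤ V ∧
    (B.subgroupOf V).IsSubnormal)

include hS

/-- `S V` is invariant under conjugation by elements of `V`. -/
theorem conj_mem_S (V : Subgroup G) (B : Subgroup G) (hB : B ∈ S V) (v : V) :
    MulAut.conj (v : G) • B ∈ S V := by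
  rw [hS] at hB ⊢
  obtain ⟨⟨g, rfl⟩, hle, hsn⟩ := hB
  refine ⟨⟨(v : G) * g, by rw [map_mul, mul_smul]⟩, Subgroup.conj_smul_le_of_le hle v, ?_⟩
  rw [← Subgroup.conj_smul_subgroupOf hle v]
  exact hsn.smul _

/-- `V` normalizes the join of `S V`. -/
theorem le_normalizer_sSup_S (V : Subgroup G) :
    V ≤ Subgroup.normalizer ((sSup (S V) : Subgroup G) : Set G) := by
  apply Cfsg.Agent.S0539.le_normalizer_of_forall_conj_smul_le
  intro x hx
  rw [Subgroup.pointwise_smul_subset_iff]
  apply sSup_le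
  intro B hB
  rw [← Subgroup.pointwise_smul_subset_iff]
  apply le_sSup
  exact conj_mem_S A S hS V B hB ⟨x, hx⟩

/-- Key step: if `Sg₀ ⊂ S V` then some member of `S V` outside `Sg₀` normalizes the join of `Sg₀`. -/
theorem exists_mem_S_normalizing (V : Subgroup G) (Sg₀ : Set (Subgroup G)) (hsub : Sg₀ ⊂ S V) :
    ∃ B ∈ S V, B ∉ Sg₀ ∧ B ≤ Subgroup.normalizer ((sSup Sg₀ : Subgroup G) : Set G) := by
  have hleV : ∀ B ∈ S V, B ≤ V := fun B hB => ((hS V B).1 hB).2.1
  have hDV : sSup Sg₀ ≤ V := sSup_le (fun B hB => hleV B (hsub.1 hB))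
  let T : Set (Subgroup V) := {Y | Y.map V.subtype ∈ S V}
  let T₀ : Set (Subgroup V) := {Y | Y.map V.subtype ∈ Sg₀}
  have hT : ∀ Y ∈ T, Y.IsSubnormal := by
    intro Y hY
    have h1 := ((hS V _).1 hY).2.2
    rwa [Subgroup.subgroupOf, Subgroup.comap_map_eq_self_of_injective V.subtype_injective] at h1
  have hconj : ∀ Y ∈ T, ∀ v : V, MulAut.conj v • Y ∈ T := by
    intro Y hY v
    change (MulAut.conj v • Y).map V.subtype ∈ S V
    rw [map_subtype_conj_smul]
    exact conj_mem_S A S hS V _ hY v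
  have hT₀ : T₀ ⊂ T := by
    constructor
    · intro Y hY
      exact hsub.1 hY
    · intro h
      obtain ⟨B, hB, hB0⟩ := Set.exists_of_ssubset hsub
      have h1 : (B.subgroupOf V).map V.subtype = B := Subgroup.map_subgroupOf_eq_of_le (hleV B hB)
      have h2 : B.subgroupOf V ∈ T := by change _ ∈ S V; rw [h1]; exact hB
      have h3 : B.subgroupOf V ∈ T₀ := h h2
      change _ ∈ Sg₀ at h3
      rw [h1] at h3
      exact hB0 h3
  obtain ⟨Y, hYT, hYT₀, hYn⟩ := Cfsg.Agent.S0539.result T T₀ hT hconj hT₀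
  have hmap : (sSup T₀ : Subgroup V).map V.subtype = sSup Sg₀ := by
    rw [(Subgroup.gc_map_comap V.subtype).l_sSup]
    apply le_antisymm
    · apply iSup₂_le
      intro Z hZ
      exact le_sSup hZ
    · apply sSup_le
      intro B hB
      have h1 : (B.subgroupOf V).map V.subtype = B :=
        Subgroup.map_subgroupOf_eq_of_le (hleV B (hsub.1 hB))
      have h2 : B.subgroupOf V ∈ T₀ := by change _ ∈ Sg₀; rw [h1]; exact hB
      calc B = (B.subgroupOf V).map V.subtype := h1.symm
        _ ≤ ⨆ a ∈ T₀, Subgroup.map V.subtype a := le_iSup₂ (f := fun a _ => Subgroup.map V.subtype a) _ h2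
  have hsub' : (sSup Sg₀ : Subgroup G).subgroupOf V = sSup T₀ := by
    rw [← hmap, Subgroup.subgroupOf, Subgroup.comap_map_eq_self_of_injective V.subtype_injective]
  refine ⟨Y.map V.subtype, hYT, hYT₀, ?_⟩
  rintro x ⟨y, hy, rfl⟩
  apply coe_mem_normalizer_of_mem_normalizer_subgroupOf hDV y
  rw [hsub']
  exact hYn hy

end

/-- A uniqueness lemma of zipper type. Let A be a subgroup of a finite group G and U a nonempty family of subgroups. For V in U write S(V) for the set of conjugates of A that lie in V and are subnormal in V. Assume: A belongs to S(V) for every V in U; a member of some S(W) that lies in V belongs to S(V); and for all V, W in U the normalizer of the join of S(V) ∩ S(W) lies in some member of U. Then U has a greatest element. -/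
theorem result {G : Type*} [Group G] [Finite G] (A : Subgroup G) (U : Set (Subgroup G)) (hU : U.Nonempty) (S : Subgroup G → Set (Subgroup G)) (hS : ∀ V B : Subgroup G, B ∈ S V ↔ (∃ g : G, B = MulAut.conj g • A) ∧ B ≤ V ∧ (B.subgroupOf V).IsSubnormal) (h1 : ∀ V ∈ U, A ∈ S V) (h2 : ∀ V ∈ U, ∀ W ∈ U, ∀ B ∈ S W, B ≤ V → B ∈ S V) (h3 : ∀ V ∈ U, ∀ W ∈ U, ∃ X ∈ U, Subgroup.normalizer ((sSup (S V ∩ S W) : Subgroup G) : Set G) ≤ X) : ∃ M ∈ U, ∀ V ∈ U, V ≤ M := by
  classical
  have hUfin : U.Finite := Set.toFinite U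
  by_cases hcase : ∀ V W : Subgroup G, Maximal (· ∈ U) V → Maximal (· ∈ U) W → V = W
  · obtain ⟨V₀, hV₀⟩ := hU
    obtain ⟨M, -, hM⟩ := hUfin.exists_le_maximal hV₀
    refine ⟨M, hM.1, ?_⟩
    intro V hV
    obtain ⟨M', hVM', hM'⟩ := hUfin.exists_le_maximal hV
    rw [hcase M M' hM hM']; exact hVM'
  · exfalso
    push Not at hcase
    obtain ⟨V₁, W₁, hV₁, hW₁, hne₁⟩ := hcase
    -- pairs of distinct maximal elements
    let P := {q : Subgroup G × Subgroup G // Maximal (· ∈ U) q.1 ∧ Maximal (· ∈ U) q.2 ∧ q.1 ≠ q.2}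
    haveI : Nonempty P := ⟨⟨(V₁, W₁), hV₁, hW₁, hne₁⟩⟩
    obtain ⟨⟨⟨V, W⟩, hV, hW, hVW⟩, hmax⟩ :=
      Finite.exists_max (fun q : P => (S q.1.1 ∩ S q.1.2).ncard)
    simp only at hV hW hVW hmax
    obtain ⟨X, hXU, hNX⟩ := h3 V hV.1 W hW.1
    obtain ⟨X', hXX', hX'⟩ := hUfin.exists_le_maximal hXU
    have hNX' := hNX.trans hXX'
    -- general claim
    have claim : ∀ V W : Subgroup G, Maximal (· ∈ U) V → Maximal (· ∈ U) W →
        (∀ q : P, (S q.1.1 ∩ S q.1.2).ncard ≤ (S V ∩ S W).ncard) →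
        Subgroup.normalizer ((sSup (S V ∩ S W) : Subgroup G) : Set G) ≤ X' → X' = V := by
      intro V W hV hW hmax hN
      by_cases heq : S V ∩ S W = S V
      · -- V normalizes the join
        have h4 : V ≤ X' := by
          rw [heq] at hN
          exact (le_normalizer_sSup_S A S hS V).trans hN
        exact (le_antisymm h4 (hV.2 hX'.1 h4)).symm
      · have hsub : S V ∩ S W ⊂ S V := LE.le.ssubset_of_ne Set.inter_subset_left heq
        obtain ⟨B, hBV, hB0, hBn⟩ := exists_mem_S_normalizing A S hS V _ hsub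
        by_contra hXV
        have hBX' : B ∈ S X' := h2 X' hX'.1 V hV.1 B hBV (hBn.trans hN)
        have hsub2 : S V ∩ S W ⊂ S V ∩ S X' := by
          constructor
          · intro B' hB'
            refine ⟨hB'.1, ?_⟩
            apply h2 X' hX'.1 V hV.1 B' hB'.1
            exact ((le_sSup hB').trans Subgroup.le_normalizer).trans hN
          · intro h
            exact hB0 (h ⟨hBV, hBX'⟩)
        have h5 := Set.ncard_lt_ncard hsub2 (Set.toFinite _)
        have h6 := hmax ⟨(V, X'), hV, hX', fun h => hXV h.symm⟩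
        simp only at h6
        omega
    have e1 := claim V W hV hW hmax hNX'
    have hmax' : ∀ q : P, (S q.1.1 ∩ S q.1.2).ncard ≤ (S W ∩ S V).ncard := by
      intro q; rw [Set.inter_comm (S W)]; exact hmax q
    have hNX'' : Subgroup.normalizer ((sSup (S W ∩ S V) : Subgroup G) : Set G) ≤ X' := by
      rw [Set.inter_comm]; exact hNX'
    have e2 := claim W V hW hV hmax' hNX''
    exact hVW (e1.symm.trans e2)

end Cfsg.Agent.S0540
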