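import Cfsg.Statements.S0541
import Cfsg.Agent.Lib.Helper9.Subnormal2

set_option autoImplicit false
open Pointwise
open Cfsg

namespace Cfsg.Agent.S0541

open Cfsg.Agent.Lib.Helper9

/-- Let Z and Y be subgroups of a finite group G and p a prime. Suppose that for every g in G the subgroup generated by the conjugates of g Z g⁻¹ under Y is a p-group. Then there is a Sylow p-subgroup P of G such that Y normalizes the subgroup generated by all conjugates of Z contained in P. -/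
theorem result {G : Type*} [Group G] [Finite G] (p : ℕ) [Fact p.Prime] (Z Y : Subgroup G) (h : ∀ g : G, IsPGroup p ↥(⨆ y ∈ Y, MulAut.conj (y * g) • Z)) : ∃ P : Sylow p G, Y ≤ Subgroup.normalizer ((⨆ g ∈ {g : G | MulAut.conj g • Z ≤ (P : Subgroup G)}, MulAut.conj g • Z : Subgroup G) : Set G) := by
  classical
  let ZZ : Set (Subgroup G) := {B | ∃ g : G, B = MulAut.conj g • Z}
  let CC : Set (Set (Subgroup G)) := {Sg | Sg ⊆ ZZ ∧
    (∀ B ∈ Sg, ∀ y ∈ Y, MulAut.conj y • B ∈ Sg) ∧ IsPGroup p ↥(sSup Sg : Subgroup G)}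
  have hempty : (∅ : Set (Subgroup G)) ∈ CC :=
    ⟨Set.empty_subset _, by simp, by rw [sSup_empty]; exact IsPGroup.of_bot⟩
  obtain ⟨Sg, -, hSg⟩ := (Set.toFinite CC).exists_le_maximal hempty
  obtain ⟨hSgZ, hSgY, hSgp⟩ := hSg.1
  obtain ⟨P, hTP⟩ := hSgp.exists_le_sylow
  refine ⟨P, ?_⟩
  have hYT : Y ≤ Subgroup.normalizer ((sSup Sg : Subgroup G) : Set G) :=
    le_normalizer_sSup_of_invariant Y Sg hSgY
  have key : ∀ g : G, MulAut.conj g • Z ≤ (P : Subgroup G) → MulAut.conj g • Z ∈ Sg := by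
    by_contra hcon
    push Not at hcon
    obtain ⟨g₁, hg₁P, hg₁⟩ := hcon
    let F : Set (Subgroup G) := {B | B ∈ ZZ ∧ B ≤ (P : Subgroup G)}
    have hsub : Sg ⊂ F :=
      ⟨fun B hB => ⟨hSgZ hB, (le_sSup hB).trans hTP⟩, fun h' => hg₁ (h' ⟨⟨g₁, rfl⟩, hg₁P⟩)⟩
    have hconjF : ∀ B ∈ F, ∀ v : (P : Subgroup G), MulAut.conj (v : G) • B ∈ F := by
      rintro B ⟨⟨g, rfl⟩, hBP⟩ v
      exact ⟨⟨(v : G) * g, by rw [map_mul, mul_smul]⟩, Subgroup.conj_smul_le_of_le hBP v⟩
    obtain ⟨B, hBF, hBSg, hBn⟩ := exists_mem_normalizing_sSup (P : Subgroup G) F Sg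
      (fun B hB => hB.2) (fun B _ => isSubnormal_of_isPGroup P.isPGroup' _) hconjF hsub
    obtain ⟨⟨g₂, rfl⟩, hBP⟩ := hBF
    have hRp : IsPGroup p ↥(⨆ y ∈ Y, MulAut.conj (y * g₂) • Z) := h g₂
    have hRn : (⨆ y ∈ Y, MulAut.conj (y * g₂) • Z) ≤
        Subgroup.normalizer ((sSup Sg : Subgroup G) : Set G) := by
      apply iSup₂_le
      intro y hy
      rw [map_mul, mul_smul]
      rintro x ⟨b, hb, rfl⟩
      have hyN := hYT hy
      have hbN := hBn hb
      exact Subgroup.mul_mem _ (Subgroup.mul_mem _ hyN hbN) (Subgroup.inv_mem _ hyN)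
    let Sg' : Set (Subgroup G) := Sg ∪ {B | ∃ y ∈ Y, B = MulAut.conj (y * g₂) • Z}
    have hsSup : (sSup Sg' : Subgroup G) = sSup Sg ⊔ ⨆ y ∈ Y, MulAut.conj (y * g₂) • Z := by
      rw [sSup_union]
      congr 1
      apply le_antisymm
      · apply sSup_le
        rintro B ⟨y, hy, rfl⟩
        exact le_iSup₂ (f := fun y _ => MulAut.conj (y * g₂) • Z) y hy
      · apply iSup₂_le
        intro y hy
        exact le_sSup ⟨y, hy, rfl⟩
    have hSg' : Sg' ∈ CC := by
      refine ⟨?_, ?_, ?_⟩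
      · rintro B (hB | ⟨y, -, rfl⟩)
        · exact hSgZ hB
        · exact ⟨y * g₂, rfl⟩
      · rintro B (hB | ⟨y, hy, rfl⟩) y' hy'
        · exact Or.inl (hSgY B hB y' hy')
        · right
          refine ⟨y' * y, Y.mul_mem hy' hy, ?_⟩
          rw [← mul_smul, ← map_mul, mul_assoc]
      · rw [hsSup]
        exact IsPGroup.to_sup_of_normal_left' hSgp hRp hRn
    have hle : Sg ≤ Sg' := Set.subset_union_left
    have hge := hSg.2 hSg' hle
    apply hBSg
    apply hge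
    right
    exact ⟨1, Y.one_mem, by rw [one_mul]⟩
  have hW : (⨆ g ∈ {g : G | MulAut.conj g • Z ≤ (P : Subgroup G)}, MulAut.conj g • Z :
      Subgroup G) = sSup Sg := by
    apply le_antisymm
    · apply iSup₂_le
      intro g hg
      exact le_sSup (key g hg)
    · apply sSup_le
      intro B hB
      obtain ⟨g, rfl⟩ := hSgZ hB
      exact le_iSup₂ (f := fun g _ => MulAut.conj g • Z) g ((le_sSup hB).trans hTP)
  rw [hW]
  exact hYT

end Cfsg.Agent.S0541
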