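import Cfsg.Statements.S0542
import Mathlib

set_option autoImplicit false
open Cfsg

namespace Cfsg.Agent.S0542

open scoped Pointwise

/-- For `N` normal and `T` a Sylow `p`-subgroup of the finite group `G`, `T ∩ N` is a Sylow
`p`-subgroup of `N`. -/
theorem sylow_inf_normal {G : Type*} [Group G] {p : ℕ} [Fact p.Prime] [Finite G] (T : Sylow p G)
    (N : Subgroup G) [N.Normal] :
    ∃ P : Sylow p ↥N, (P : Subgroup ↥N) = (T : Subgroup G).subgroupOf N := by
  obtain ⟨P₀⟩ : Nonempty (Sylow p ↥N) := inferInstance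
  obtain ⟨Q, hQ⟩ := P₀.exists_comap_subtype_eq
  obtain ⟨g, hg⟩ := MulAction.exists_smul_eq G Q T
  refine ⟨(MulAut.conjNormal g : MulAut ↥N) • P₀, ?_⟩
  ext x
  rw [Sylow.pointwise_smul_def, Subgroup.mem_pointwise_smul_iff_inv_smul_mem,
    Subgroup.mem_subgroupOf, ← hg, Sylow.coe_subgroup_smul,
    Subgroup.mem_pointwise_smul_iff_inv_smul_mem, ← hQ]
  simp only [Subgroup.mem_comap, Subgroup.coe_subtype]
  have : (((MulAut.conjNormal g : MulAut ↥N)⁻¹ • x : ↥N) : G) = (MulAut.conj g)⁻¹ • (x : G) := by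
    rw [← map_inv, MulAut.smul_def, MulAut.smul_def, ← map_inv, MulAut.conjNormal_apply]
    simp
  rw [this]

/-- A Sylow p-subgroup of a finite group meets every subnormal subgroup H in a Sylow p-subgroup of H. -/
theorem result {G : Type*} [Group G] [Finite G] (p : ℕ) [Fact p.Prime] (H : Subgroup G) (hH : H.IsSubnormal) (S : Sylow p G) : ∃ Q : Sylow p H, (Q : Subgroup H) = (S : Subgroup G).subgroupOf H := by
  induction hH with
  | top => exact ⟨S.subtype le_top, rfl⟩
  | step H K h_le hSubn hN ih =>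
    obtain ⟨PK, hPK⟩ := ih
    obtain ⟨PN, hPN⟩ := sylow_inf_normal PK (H.subgroupOf K)
    let e := Subgroup.subgroupOfEquivOfLe h_le
    have hsurj : Function.Surjective e.toMonoidHom := e.surjective
    refine ⟨PN.mapSurjective hsurj, ?_⟩
    rw [Sylow.coe_mapSurjective]
    ext x
    rw [Subgroup.mem_map, Subgroup.mem_subgroupOf]
    constructor
    · rintro ⟨y, hy, rfl⟩
      rw [hPN, Subgroup.mem_subgroupOf, hPK, Subgroup.mem_subgroupOf] at hy
      exact hy
    · intro hx
      refine ⟨e.symm x, ?_, by simp⟩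
      rw [hPN, Subgroup.mem_subgroupOf, hPK, Subgroup.mem_subgroupOf]
      exact hx

end Cfsg.Agent.S0542
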