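import Cfsg.Statements.S0548
import Cfsg.Agent.S0547
import Mathlib

set_option autoImplicit false
open Cfsg

namespace Cfsg.Agent.S0548

/-- Let a finite solvable group G act faithfully and primitively on a set, let M be a minimal normal subgroup and H the stabilizer of a point. Then H is a complement to M, no non-identity element of H centralizes M, and the only subgroups of M normalized by H are the trivial subgroup and M. -/
theorem result {G : Type*} [Group G] [Finite G] [Group.IsSolvable G] {Ω : Type*} [MulAction G Ω] [FaithfulSMul G Ω] (hprim : MulAction.IsPreprimitive G Ω) (M : Subgroup G) [M.Normal] (hM : M ≠ ⊥) (hmin : ∀ K : Subgroup G, K.Normal → K ≤ M → K = ⊥ ∨ K = M) (ω : Ω) : Subgroup.IsComplement' M (MulAction.stabilizer G ω) ∧ MulAction.stabilizer G ω ⊓ Subgroup.centralizer (M : Set G) = ⊥ ∧ ∀ K : Subgroup G, K ≤ M → MulAction.stabilizer G ω ≤ Subgroup.normalizer (K : Set G) → K = ⊥ ∨ K = M := by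
  classical
  obtain ⟨hMc, -⟩ := S0551.minimal_normal_solvable M hM hmin
  have htr := S0547.isPretransitive_of_normal hprim M hM
  have hstab := S0547.stabilizer_eq_bot_of_abelian M hMc htr
  have hdisj : M ⊓ MulAction.stabilizer G ω = ⊥ := by
    rw [eq_bot_iff]
    rintro m ⟨hmM, hmS⟩
    have h1 : (⟨m, hmM⟩ : M) ∈ MulAction.stabilizer M ω := hmS
    rw [hstab ω, Subgroup.mem_bot] at h1
    rw [Subgroup.mem_bot]
    exact congrArg Subtype.val h1
  have hsup : M ⊔ MulAction.stabilizer G ω = ⊤ := by
    rw [eq_top_iff]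
    intro g _
    obtain ⟨m, hm⟩ := htr.exists_smul_eq ω (g • ω)
    have hm' : (m : G) • ω = g • ω := hm
    have h1 : (m : G)⁻¹ * g ∈ MulAction.stabilizer G ω := by
      rw [MulAction.mem_stabilizer_iff, mul_smul, ← hm', inv_smul_smul]
    have : g = (m : G) * ((m : G)⁻¹ * g) := by group
    rw [this]
    exact Subgroup.mul_mem_sup m.2 h1
  refine ⟨?_, ?_, ?_⟩
  · apply Subgroup.isComplement'_of_disjoint_and_mul_eq_univ (disjoint_iff.mpr hdisj)
    rw [← Subgroup.normal_mul, hsup]
    rfl
  · rw [eq_bot_iff]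
    rintro x ⟨hxS, hxC⟩
    rw [Subgroup.mem_bot]
    apply FaithfulSMul.eq_of_smul_eq_smul (α := Ω)
    intro ω'
    obtain ⟨n, hn⟩ := htr.exists_smul_eq ω ω'
    have hn' : (n : G) • ω = ω' := hn
    have hx' : x • ω = ω := hxS
    have hcomm : (n : G) * x = x * (n : G) := hxC n n.2
    rw [one_smul, ← hn', ← mul_smul, ← hcomm, mul_smul, hx']
  · intro K hKM hKN
    have hKnorm : K.Normal := by
      rw [← Subgroup.normalizer_eq_top_iff, eq_top_iff, ← hsup]
      refine sup_le ?_ hKN
      rw [Subgroup.le_normalizer_iff]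
      intro m hm k hk
      have : m * k = k * m := (hMc hm k (hKM hk)).symm
      rw [this, mul_assoc, mul_inv_cancel, mul_one]
      exact hk
    exact hmin K hKnorm hKM

end Cfsg.Agent.S0548
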