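import Cfsg.Statements.S0550
import Cfsg.Agent.S0549
import Mathlib

set_option autoImplicit false
open Cfsg

namespace Cfsg.Agent.S0550

/-- Two subgroups meeting a normal subgroup trivially and generating the same subgroup with it are
isomorphic. -/
theorem nonempty_mulEquiv_of_sup_eq {G : Type*} [Group G] (X Y N : Subgroup G) [N.Normal]
    (hX : X ⊓ N = ⊥) (hY : Y ⊓ N = ⊥) (hXY : X ⊔ N = Y ⊔ N) : Nonempty (X ≃* Y) := by
  let φ : X →* G ⧸ N := (QuotientGroup.mk' N).comp X.subtype
  let ψ : Y →* G ⧸ N := (QuotientGroup.mk' N).comp Y.subtype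
  have hφ : Function.Injective φ := by
    rw [injective_iff_map_eq_one]
    rintro ⟨x, hx⟩ h
    have : x ∈ N := by
      have h' : (QuotientGroup.mk' N) x = 1 := h
      rwa [QuotientGroup.mk'_apply, QuotientGroup.eq_one_iff] at h'
    have hx' : x ∈ X ⊓ N := ⟨hx, this⟩
    rw [hX] at hx'
    exact Subtype.ext hx'
  have hψ : Function.Injective ψ := by
    rw [injective_iff_map_eq_one]
    rintro ⟨x, hx⟩ h
    have : x ∈ N := by
      have h' : (QuotientGroup.mk' N) x = 1 := h
      rwa [QuotientGroup.mk'_apply, QuotientGroup.eq_one_iff] at h'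
    have hx' : x ∈ Y ⊓ N := ⟨hx, this⟩
    rw [hY] at hx'
    exact Subtype.ext hx'
  have hrange : φ.range = ψ.range := by
    have h1 : φ.range = (X ⊔ N).map (QuotientGroup.mk' N) := by
      rw [MonoidHom.range_comp, Subgroup.range_subtype, Subgroup.map_sup, QuotientGroup.map_mk'_self,
        sup_bot_eq]
    have h2 : ψ.range = (Y ⊔ N).map (QuotientGroup.mk' N) := by
      rw [MonoidHom.range_comp, Subgroup.range_subtype, Subgroup.map_sup, QuotientGroup.map_mk'_self,
        sup_bot_eq]
    rw [h1, h2, hXY]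
  exact ⟨(MonoidHom.ofInjective hφ).trans
    ((MulEquiv.subgroupCongr hrange).trans (MonoidHom.ofInjective hψ).symm)⟩

/-- Let U be a maximal subgroup with trivial normal core in a finite group G, and A ≠ B two minimal normal subgroups. Then A is the centralizer of B and B that of A, U complements each of them, A and B are non-abelian, and A, B and (A ⊔ B) ∩ U are pairwise isomorphic. -/
theorem result {G : Type*} [Group G] [Finite G] (U : Subgroup G) (hU : IsCoatom U) (hcore : U.normalCore = ⊥) (A B : Subgroup G) [A.Normal] [B.Normal] (hA : A ≠ ⊥) (hB : B ≠ ⊥) (hAmin : ∀ K : Subgroup G, K.Normal → K ≤ A → K = ⊥ ∨ K = A) (hBmin : ∀ K : Subgroup G, K.Normal → K ≤ B → K = ⊥ ∨ K = B) (hAB : A ≠ B) : Subgroup.centralizer (B : Set G) = A ∧ Subgroup.centralizer (A : Set G) = B ∧ Subgroup.IsComplement' A U ∧ Subgroup.IsComplement' B U ∧ ¬ IsMulCommutative A ∧ Nonempty (A ≃* B) ∧ Nonempty (A ≃* ↥((A ⊔ B) ⊓ U)) := by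
  classical
  -- A ⊓ B = ⊥
  have hinf : A ⊓ B = ⊥ := by
    rcases hAmin (A ⊓ B) inferInstance inf_le_left with h | h
    · exact h
    · exfalso
      have hAleB : A ≤ B := by rw [← h]; exact inf_le_right
      rcases hBmin A inferInstance hAleB with h' | h'
      · exact hA h'
      · exact hAB h'
  have hcomm : ⁅A, B⁆ = ⊥ := by
    have := Subgroup.commutator_le_inf A B
    rw [hinf] at this
    exact le_bot_iff.mp this
  have hAleCB : A ≤ Subgroup.centralizer (B : Set G) :=
    Subgroup.commutator_eq_bot_iff_le_centralizer.mp hcomm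
  have hBleCA : B ≤ Subgroup.centralizer (A : Set G) := Subgroup.le_centralizer_iff.mp hAleCB
  obtain ⟨hCBU, hCB⟩ := S0549.result U hU hcore B hB
  obtain ⟨hCAU, hCA⟩ := S0549.result U hU hcore A hA
  have hCB_eq : Subgroup.centralizer (B : Set G) = A := by
    rcases hCB with h | ⟨_, h⟩
    · exfalso
      rw [h] at hAleCB
      exact hA (le_bot_iff.mp hAleCB)
    · rcases h A inferInstance hAleCB with h' | h'
      · exact absurd h' hA
      · exact h'.symm
  have hCA_eq : Subgroup.centralizer (A : Set G) = B := by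
    rcases hCA with h | ⟨_, h⟩
    · exfalso
      rw [h] at hBleCA
      exact hB (le_bot_iff.mp hBleCA)
    · rcases h B inferInstance hBleCA with h' | h'
      · exact absurd h' hB
      · exact h'.symm
  have hAU : A ⊓ U = ⊥ := by rw [← hCB_eq]; exact hCBU
  have hBU : B ⊓ U = ⊥ := by rw [← hCA_eq]; exact hCAU
  have hAUtop : A ⊔ U = ⊤ := S0549.sup_eq_top_of_normal U hU hcore A hA
  have hBUtop : B ⊔ U = ⊤ := S0549.sup_eq_top_of_normal U hU hcore B hB
  have hcompA : Subgroup.IsComplement' A U := by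
    apply Subgroup.isComplement'_of_disjoint_and_mul_eq_univ (disjoint_iff.mpr hAU)
    rw [← Subgroup.normal_mul, hAUtop]
    rfl
  have hcompB : Subgroup.IsComplement' B U := by
    apply Subgroup.isComplement'_of_disjoint_and_mul_eq_univ (disjoint_iff.mpr hBU)
    rw [← Subgroup.normal_mul, hBUtop]
    rfl
  have hnonab : ¬ IsMulCommutative A := by
    intro hc
    have hAA : A ≤ Subgroup.centralizer (A : Set G) := Subgroup.le_centralizer A
    rw [hCA_eq] at hAA
    have : A ≤ A ⊓ B := le_inf le_rfl hAA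
    rw [hinf] at this
    exact hA (le_bot_iff.mp this)
  set D : Subgroup G := (A ⊔ B) ⊓ U with hD
  have hDB : D ⊓ B = ⊥ := by
    apply le_bot_iff.mp
    rw [← hBU]
    exact le_inf inf_le_right (inf_le_left.trans inf_le_right)
  have hDA : D ⊓ A = ⊥ := by
    apply le_bot_iff.mp
    rw [← hAU]
    exact le_inf inf_le_right (inf_le_left.trans inf_le_right)
  have hDsupB : A ⊔ B = D ⊔ B := by
    apply le_antisymm
    · intro x hx
      have hx' : x ∈ B ⊔ U := by rw [hBUtop]; trivial
      rw [Subgroup.mem_sup_of_normal_left] at hx'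
      obtain ⟨b, hb, u, hu, rfl⟩ := hx'
      have huD : u ∈ D := by
        refine ⟨?_, hu⟩
        have : u = b⁻¹ * (b * u) := by group
        rw [this]
        exact Subgroup.mul_mem _ (Subgroup.inv_mem _ ((le_sup_right : B ≤ A ⊔ B) hb)) hx
      rw [sup_comm]
      exact Subgroup.mul_mem_sup hb huD
    · exact sup_le inf_le_left le_sup_right
  have hDsupA : B ⊔ A = D ⊔ A := by
    apply le_antisymm
    · intro x hx
      have hx' : x ∈ A ⊔ U := by rw [hAUtop]; trivial
      rw [Subgroup.mem_sup_of_normal_left] at hx'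
      obtain ⟨a, ha, u, hu, rfl⟩ := hx'
      have huD : u ∈ D := by
        refine ⟨?_, hu⟩
        have : u = a⁻¹ * (a * u) := by group
        rw [this]
        rw [sup_comm] at hx
        exact Subgroup.mul_mem _ (Subgroup.inv_mem _ ((le_sup_left : A ≤ A ⊔ B) ha)) hx
      rw [sup_comm]
      exact Subgroup.mul_mem_sup ha huD
    · rw [sup_comm B A]
      exact sup_le inf_le_left le_sup_left
  obtain ⟨e1⟩ := nonempty_mulEquiv_of_sup_eq A D B hinf hDB hDsupB
  obtain ⟨e2⟩ := nonempty_mulEquiv_of_sup_eq B D A (by rw [inf_comm]; exact hinf) hDA hDsupA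
  exact ⟨hCB_eq, hCA_eq, hcompA, hcompB, hnonab, ⟨e1.trans e2.symm⟩, ⟨e1⟩⟩

end Cfsg.Agent.S0550
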