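import Cfsg.Statements.S0552
import Cfsg.Agent.S0044
import Mathlib

set_option autoImplicit false
open Cfsg

namespace Cfsg.Agent.S0552

/-- Let σ be an automorphism of a finite solvable group G fixing every element of the Fitting subgroup. If σ is not the identity then the order of σ and the order of G have a common prime factor. -/
theorem result {G : Type*} [Group G] [Finite G] [Group.IsSolvable G] (σ : G ≃* G) (hσ : ∀ x ∈ Cfsg.fittingSubgroup G, σ x = x) (hne : σ ≠ MulEquiv.refl G) : ¬ (orderOf σ).Coprime (Nat.card G) := by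
  intro hcop
  apply hne
  have hFn : (Cfsg.fittingSubgroup G).Normal := Subgroup.sSup_normal _ (fun _ h => h.1)
  ext g
  show σ g = g
  set f : G := g⁻¹ * σ g with hf
  -- f centralizes F
  have hfC : f ∈ Subgroup.centralizer (Cfsg.fittingSubgroup G : Set G) := by
    rw [Subgroup.mem_centralizer_iff]
    intro x hx
    have h1 : g * x * g⁻¹ ∈ Cfsg.fittingSubgroup G := hFn.conj_mem x hx g
    have h2 : σ (g * x * g⁻¹) = g * x * g⁻¹ := hσ _ h1
    rw [map_mul, map_mul, map_inv, hσ x hx] at h2
    -- σ g * x * (σ g)⁻¹ = g * x * g⁻¹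
    calc x * f = g⁻¹ * (g * x * g⁻¹) * σ g := by rw [hf]; group
      _ = g⁻¹ * (σ g * x * (σ g)⁻¹) * σ g := by rw [h2]
      _ = f * x := by rw [hf]; group
  have hfF : f ∈ Cfsg.fittingSubgroup G := S0044.result hfC
  have hσf : σ f = f := hσ f hfF
  have hσg : σ g = g * f := by rw [hf]; group
  -- σ^n g = g * f^n
  have hpow : ∀ n : ℕ, (σ ^ n) g = g * f ^ n := by
    intro n
    induction n with
    | zero => simp
    | succ n ih =>
      rw [pow_succ', MulAut.mul_apply, ih, map_mul, map_pow, hσf, hσg, pow_succ']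
      group
  have h1 : f ^ orderOf σ = 1 := by
    have := hpow (orderOf σ)
    rw [pow_orderOf_eq_one, MulAut.one_apply] at this
    have h2 : g * 1 = g * f ^ orderOf σ := by rw [mul_one]; exact this
    exact (mul_left_cancel h2).symm
  have h2 : f ^ Nat.card G = 1 := pow_card_eq_one'
  have h3 : orderOf f ∣ Nat.gcd (orderOf σ) (Nat.card G) :=
    Nat.dvd_gcd (orderOf_dvd_of_pow_eq_one h1) (orderOf_dvd_of_pow_eq_one h2)
  rw [hcop] at h3
  have h4 : f = 1 := orderOf_eq_one_iff.mp (Nat.dvd_one.mp h3)
  rw [hσg, h4, mul_one]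

end Cfsg.Agent.S0552
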