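import Cfsg.Statements.S0553
import Mathlib
import Cfsg.Agent.S0580
import Cfsg.Agent.Lib.Helper1.MinimalNormal
-- import your own Cfsg.Agent.* helpers here

set_option autoImplicit false
open Cfsg

namespace Cfsg.Agent.S0553

/-- If one Sylow `p`-subgroup is normal, all are. -/
theorem all_sylow_normal {G : Type*} [Group G] [Finite G] {p : ℕ} [Fact p.Prime]
    (P0 : Sylow p G) (h0 : (P0 : Subgroup G).Normal) : ∀ P : Sylow p G, (P : Subgroup G).Normal := by
  intro P
  have := Sylow.unique_of_normal P0 h0
  have : P = P0 := Subsingleton.elim _ _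
  rw [this]; exact h0

/-- A normal `p`-subgroup of `p'`-index makes all Sylow `p`-subgroups normal. -/
theorem all_sylow_normal_of {G : Type*} [Group G] [Finite G] {p : ℕ} [Fact p.Prime]
    (Q : Subgroup G) (hn : Q.Normal) (hQ : IsPGroup p Q) (hidx : ¬ p ∣ Q.index) :
    ∀ P : Sylow p G, (P : Subgroup G).Normal := by
  apply all_sylow_normal (hQ.toSylow hidx)
  rw [IsPGroup.toSylow_coe]; exact hn

theorem main (n : ℕ) : ∀ {G : Type*} [Group G] [Finite G] [Group.IsSolvable G] [Nontrivial G],
    Nat.card G = n →
    (∀ M : Subgroup G, IsCoatom M → (Nat.card M).Coprime M.index) →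
    ∃ p : ℕ, p.Prime ∧ p ∣ Nat.card G ∧ ∀ P : Sylow p G, (P : Subgroup G).Normal := by
  induction n using Nat.strong_induction_on with
  | _ n ih =>
    intro G _ _ _ _ hn h
    obtain ⟨p, N, hp, hNn, hN1, hNp, hNc, hNexp, hNmin⟩ :=
      Cfsg.Agent.Lib.Helper1.exists_normal_pSubgroup_of_isSolvable (G := G)
    have : Fact p.Prime := ⟨hp⟩
    have := hNn
    -- p divides |N|
    have hNcard1 : Nat.card N ≠ 1 := by
      intro h1
      exact hN1 ((Subgroup.card_eq_one).mp h1)
    have hpN : p ∣ Nat.card N := by
      obtain ⟨k, hk⟩ := hNp.exists_card_eq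
      rw [hk] at hNcard1 ⊢
      cases k with
      | zero => simp at hNcard1
      | succ k => exact dvd_pow_self p (Nat.succ_ne_zero k)
    have hpG : p ∣ Nat.card G := dvd_trans hpN (Subgroup.card_subgroup_dvd_card N)
    have hNpos : 0 < Nat.card N := Nat.card_pos
    have hGN : Nat.card N * Nat.card (G ⧸ N) = Nat.card G := by
      rw [← Subgroup.index_eq_card]; exact Subgroup.card_mul_index N
    by_cases hquot : Nontrivial (G ⧸ N)
    · -- induction on the quotient
      have hqlt : Nat.card (G ⧸ N) < n := by
        have hqpos : 0 < Nat.card (G ⧸ N) := Nat.card_pos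
        have h2 : 2 ≤ Nat.card N := by omega
        rw [← hn, ← hGN]; nlinarith
      have hq' : ∀ M' : Subgroup (G ⧸ N), IsCoatom M' → (Nat.card M').Coprime M'.index := by
        intro M' hM'
        have hco := Cfsg.Agent.S0580.isCoatom_comap_mk N M' hM'
        have hcop := h _ hco
        rw [Subgroup.index_comap_of_surjective _ (QuotientGroup.mk'_surjective _)] at hcop
        have hdvd : Nat.card M' ∣ Nat.card (M'.comap (QuotientGroup.mk' N)) :=
          Subgroup.card_dvd_of_surjective ((QuotientGroup.mk' N).subgroupComap M')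
            (MonoidHom.subgroupComap_surjective_of_surjective _ _ (QuotientGroup.mk'_surjective _))
        exact Nat.Coprime.coprime_dvd_left hdvd hcop
      obtain ⟨q, hq, hqdvd, hqn⟩ := ih _ hqlt rfl hq'
      have : Fact q.Prime := ⟨hq⟩
      have hqG : q ∣ Nat.card G := dvd_trans hqdvd (Dvd.intro_left _ hGN)
      obtain ⟨Q0⟩ : Nonempty (Sylow q G) := inferInstance
      have hsurj := QuotientGroup.mk'_surjective N
      have hQ'n : ((Q0.mapSurjective hsurj : Sylow q (G ⧸ N)) : Subgroup (G ⧸ N)).Normal :=
        hqn _
      rw [Sylow.coe_mapSurjective] at hQ'n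
      -- Q = N ⊔ Q0 is normal
      have hQn : ((Q0 : Subgroup G) ⊔ N).Normal := by
        have h1 : ((Q0 : Subgroup G).map (QuotientGroup.mk' N)).comap (QuotientGroup.mk' N)
            = (Q0 : Subgroup G) ⊔ N := by
          rw [Subgroup.comap_map_eq, QuotientGroup.ker_mk']
        rw [← h1]
        exact hQ'n.comap _
      have hfrat : Subgroup.normalizer ((Q0 : Subgroup G) : Set G) ⊔ ((Q0 : Subgroup G) ⊔ N) = ⊤ :=
        Sylow.normalizer_sup_eq_top' Q0 le_sup_left
      have hfrat2 : Subgroup.normalizer ((Q0 : Subgroup G) : Set G) ⊔ N = ⊤ := by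
        rw [← sup_assoc, sup_eq_left.mpr (Subgroup.le_normalizer (H := (Q0 : Subgroup G)))] at hfrat
        exact hfrat
      by_cases hQ0 : Subgroup.normalizer ((Q0 : Subgroup G) : Set G) = ⊤
      · exact ⟨q, hq, hqG, all_sylow_normal Q0 (Subgroup.normalizer_eq_top_iff.mp hQ0)⟩
      · obtain ⟨M, hMco, hNM⟩ := (eq_top_or_exists_le_coatom _).resolve_left hQ0
        have hMN : M ⊔ N = ⊤ := by
          apply top_le_iff.mp
          rw [← hfrat2]
          exact sup_le_sup_right hNM N
        -- M ⊓ N is normal in G
        have hcomm : ∀ a ∈ N, ∀ b ∈ N, a * b = b * a := by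
          intro a ha b hb
          have := hNc.is_comm.comm (⟨a, ha⟩ : N) ⟨b, hb⟩
          exact congrArg Subtype.val this
        have hMNn : (M ⊓ N).Normal := by
          constructor
          intro x hx g
          have hg : g ∈ M ⊔ N := by rw [hMN]; trivial
          rw [Subgroup.mem_sup_of_normal_right] at hg
          obtain ⟨m, hm, k, hk, rfl⟩ := hg
          have h1 : k * x * k⁻¹ = x := by
            rw [hcomm k hk x hx.2, mul_assoc, mul_inv_cancel, mul_one]
          have h2 : m * k * x * (m * k)⁻¹ = m * (k * x * k⁻¹) * m⁻¹ := by group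
          rw [h2, h1]
          exact ⟨M.mul_mem (M.mul_mem hm hx.1) (M.inv_mem hm), hNn.conj_mem x hx.2 m⟩
        have hMNbot : M ⊓ N = ⊥ := by
          rcases hNmin (M ⊓ N) hMNn inf_le_right with h0 | h0
          · exact h0
          · exfalso
            have : N ≤ M := by rw [← h0]; exact inf_le_left
            have : M = ⊤ := by rw [← hMN]; exact (sup_eq_left.mpr this).symm
            exact hMco.1 this
        -- |G| = |M| * |N|
        have hcard : Nat.card G = Nat.card N * Nat.card M := by
          have e1 : N.relIndex (M ⊔ N) = N.relIndex M := Subgroup.relIndex_sup_right M N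
          rw [hMN, Subgroup.relIndex_top_right] at e1
          have e2 : N.relIndex M = Nat.card M := by
            rw [← Subgroup.inf_relIndex_right, inf_comm, hMNbot, Subgroup.relIndex_bot_left]
          rw [← Subgroup.card_mul_index N, e1, e2]
        have hidxM : M.index = Nat.card N := by
          have e3 := Subgroup.card_mul_index M
          have hMpos : 0 < Nat.card M := Nat.card_pos
          rw [hcard, mul_comm (Nat.card N)] at e3
          exact Nat.eq_of_mul_eq_mul_left hMpos e3
        have hidxN : N.index = Nat.card M := by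
          have e3 := Subgroup.card_mul_index N
          rw [hcard] at e3
          exact Nat.eq_of_mul_eq_mul_left hNpos e3
        have hcop := h M hMco
        rw [hidxM] at hcop
        have hpM : ¬ p ∣ Nat.card M := by
          intro hd
          have hcop2 : (Nat.card M).Coprime p := Nat.Coprime.coprime_dvd_right hpN hcop
          have := Nat.Coprime.eq_one_of_dvd hcop2.symm hd
          exact hp.one_lt.ne' this
        refine ⟨p, hp, hpG, all_sylow_normal_of N hNn hNp ?_⟩
        rw [hidxN]; exact hpM
    · -- G = N is a p-group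
      rw [not_nontrivial_iff_subsingleton] at hquot
      have hidx : N.index = 1 := by
        rw [Subgroup.index_eq_card]; exact Nat.card_unique
      refine ⟨p, hp, hpG, all_sylow_normal_of N hNn hNp ?_⟩
      rw [hidx]
      exact hp.one_lt.ne' ∘ Nat.dvd_one.mp

/-- Let G be a nontrivial finite solvable group in which every maximal subgroup has order coprime to its index. Then for some prime p dividing the order of G the Sylow p-subgroups of G are normal. -/
theorem result {G : Type*} [Group G] [Finite G] [Group.IsSolvable G] [Nontrivial G] (h : ∀ M : Subgroup G, IsCoatom M → (Nat.card M).Coprime M.index) : ∃ p : ℕ, p.Prime ∧ p ∣ Nat.card G ∧ ∀ P : Sylow p G, (P : Subgroup G).Normal := by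
  exact main _ rfl h

end Cfsg.Agent.S0553
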