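import Mathlib
import Cfsg.Statements.S0554
import Cfsg.Agent.S0551

set_option autoImplicit false
open Cfsg

namespace Cfsg.Agent.S0554

/-- Moving an element of a normal subgroup into position `j` of an ordered product. -/
theorem insert_normal {G : Type*} [Group G] (M : Subgroup G) [M.Normal] :
    ∀ (t : ℕ) (s : Fin t → G) (j : Fin t) (n : G), n ∈ M →
      ∃ n' ∈ M, (List.ofFn s).prod * n = (List.ofFn (Function.update s j (s j * n'))).prod := by
  intro t
  induction t with
  | zero => intro s j; exact j.elim0
  | succ t ih =>
    intro s j n hn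
    induction j using Fin.cases with
    | zero =>
      set rest := (List.ofFn (fun i : Fin t => s i.succ)).prod with hrest
      refine ⟨rest * n * rest⁻¹, ‹M.Normal›.conj_mem n hn rest, ?_⟩
      rw [List.ofFn_succ, List.ofFn_succ, List.prod_cons, List.prod_cons]
      simp only [Function.update_self]
      have : (fun i : Fin t => Function.update s 0 (s 0 * (rest * n * rest⁻¹)) i.succ) =
          fun i : Fin t => s i.succ := by
        funext i
        rw [Function.update_of_ne (Fin.succ_ne_zero i)]
      rw [this, ← hrest]
      group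
    | succ j' =>
      obtain ⟨n', hn', h⟩ := ih (fun i : Fin t => s i.succ) j' n hn
      refine ⟨n', hn', ?_⟩
      rw [List.ofFn_succ, List.ofFn_succ, List.prod_cons, List.prod_cons, mul_assoc, h]
      have h0 : Function.update s j'.succ (s j'.succ * n') 0 = s 0 := by
        rw [Function.update_of_ne (Fin.succ_ne_zero j').symm]
      have : (fun i : Fin t => Function.update s j'.succ (s j'.succ * n') i.succ) =
          Function.update (fun i : Fin t => s i.succ) j' (s j'.succ * n') := by
        funext i
        by_cases hij : i = j'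
        · subst hij; simp
        · rw [Function.update_of_ne hij, Function.update_of_ne]
          exact fun h => hij (Fin.succ_injective _ h)
      rw [h0, this]

theorem main (n : ℕ) : ∀ {G : Type*} [Group G] [Finite G] [Group.IsSolvable G], Nat.card G = n →
    ∀ (t : ℕ) (p : Fin t → ℕ) (hp : ∀ i, (p i).Prime) (hinj : Function.Injective p) (hall : ∀ q : ℕ, q.Prime → q ∣ Nat.card G → ∃ i, p i = q) (S : (i : Fin t) → Sylow (p i) G), ∀ g : G, ∃ s : (i : Fin t) → G, (∀ i, s i ∈ (S i : Subgroup G)) ∧ g = (List.ofFn s).prod := by
  induction n using Nat.strong_induction_on with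
  | _ n ih =>
  intro G _ _ _ hn t p hp hinj hall S g
  by_cases htriv : (⊤ : Subgroup G) = ⊥
  · refine ⟨fun _ => 1, fun i => Subgroup.one_mem _, ?_⟩
    have hg : g ∈ (⊥ : Subgroup G) := by rw [← htriv]; trivial
    rw [Subgroup.mem_bot] at hg
    rw [hg]
    simp
  · obtain ⟨M, hMn, hMne, -, hMmin⟩ := Cfsg.Agent.S0551.exists_minimal_normal (⊤ : Subgroup G) htriv
    haveI := hMn
    obtain ⟨-, q, hq, hMq⟩ := Cfsg.Agent.S0551.minimal_normal_solvable M hMne hMmin
    -- q divides |G|
    have hqM : q ∣ Nat.card M := by
      haveI : Fact q.Prime := ⟨hq⟩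
      obtain ⟨k, hk⟩ := IsPGroup.iff_card.mp hMq
      have hk0 : k ≠ 0 := by
        rintro rfl
        rw [pow_zero] at hk
        exact hMne (Subgroup.card_eq_one.mp hk)
      rw [hk]
      exact dvd_pow_self q hk0
    have hqG : q ∣ Nat.card G := hqM.trans M.card_subgroup_dvd_card
    obtain ⟨j, rfl⟩ := hall q hq hqG
    haveI : ∀ i, Fact (p i).Prime := fun i => ⟨hp i⟩
    have hMS : M ≤ S j := hMq.le_sylow_of_normal (S j)
    -- quotient
    have hsurj : Function.Surjective (QuotientGroup.mk' M) := QuotientGroup.mk'_surjective M
    have hcard : Nat.card (G ⧸ M) < n := by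
      rw [← hn, Subgroup.card_eq_card_quotient_mul_card_subgroup M]
      have h1 : 1 < Nat.card M := by
        rcases Nat.lt_or_ge 1 (Nat.card M) with h | h
        · exact h
        · exfalso
          have : Nat.card M = 1 := le_antisymm h Nat.card_pos
          exact hMne (Subgroup.card_eq_one.mp this)
      have h2 : 0 < Nat.card (G ⧸ M) := Nat.card_pos
      nlinarith
    have hall' : ∀ q : ℕ, q.Prime → q ∣ Nat.card (G ⧸ M) → ∃ i, p i = q := by
      intro q hq hqd
      exact hall q hq (hqd.trans (Subgroup.card_quotient_dvd_card M))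
    obtain ⟨s', hs', hg'⟩ := ih _ hcard rfl t p hp hinj hall'
      (fun i => (S i).mapSurjective hsurj) (QuotientGroup.mk' M g)
    have hlift : ∀ i, ∃ x ∈ (S i : Subgroup G), QuotientGroup.mk' M x = s' i := by
      intro i
      have := hs' i
      rw [Sylow.coe_mapSurjective, Subgroup.mem_map] at this
      exact this
    choose s hsS hss' using hlift
    have hprod : QuotientGroup.mk' M g = QuotientGroup.mk' M (List.ofFn s).prod := by
      rw [hg', map_list_prod, List.map_ofFn]
      congr 2
      funext i
      exact (hss' i).symm
    have hnM : (List.ofFn s).prod⁻¹ * g ∈ M := by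
      rw [← QuotientGroup.eq]
      exact hprod.symm
    obtain ⟨n', hn', hfin⟩ := insert_normal M t s j _ hnM
    refine ⟨Function.update s j (s j * n'), ?_, ?_⟩
    · intro i
      by_cases hij : i = j
      · subst hij
        rw [Function.update_self]
        exact (S i : Subgroup G).mul_mem (hsS i) (hMS hn')
      · rw [Function.update_of_ne hij]
        exact hsS i
    · rw [← hfin]
      group

/-- Let G be a finite solvable group and let S assign to each of t distinct primes, including every prime divisor of the order of G, a Sylow subgroup of G. Then every element of G is a product s_0 s_1 ⋯ s_(t-1) with s_i in S i, the factors taken in the given order. -/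
theorem result {G : Type*} [Group G] [Finite G] [Group.IsSolvable G] (t : ℕ) (p : Fin t → ℕ) (hp : ∀ i, (p i).Prime) (hinj : Function.Injective p) (hall : ∀ q : ℕ, q.Prime → q ∣ Nat.card G → ∃ i, p i = q) (S : (i : Fin t) → Sylow (p i) G) : ∀ g : G, ∃ s : (i : Fin t) → G, (∀ i, s i ∈ (S i : Subgroup G)) ∧ g = (List.ofFn s).prod :=
  main (Nat.card G) rfl t p hp hinj hall S

end Cfsg.Agent.S0554
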