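import Cfsg.Statements.S0556
import Cfsg.Agent.S0035
import Cfsg.Agent.S0034
import Cfsg.Agent.S0023
import Cfsg.Agent.Lib.Helper54.Coprime
-- import your own Cfsg.Agent.* helpers here

set_option autoImplicit false
open Cfsg

namespace Cfsg.Agent.S0556

open Pointwise
open scoped IsMulCommutative

section
variable {G : Type*} [Group G]

/-- the normal case -/
theorem case_normal [Finite G] (A : Subgroup G) (hA : IsCoatom A) [IsMulCommutative A]
    (hn : A.Normal) : derivedSeries G 3 = ⊥ := by
  obtain ⟨x, hx⟩ : ∃ x : G, x ∉ A := by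
    by_contra h
    push Not at h
    exact hA.1 (eq_top_iff.mpr fun g _ => h g)
  have hcyc : IsCyclic (G ⧸ A) := by
    refine ⟨⟨(QuotientGroup.mk' A x), ?_⟩⟩
    intro y
    have h1 : A ≤ (Subgroup.zpowers (QuotientGroup.mk' A x)).comap (QuotientGroup.mk' A) := by
      intro a ha
      rw [Subgroup.mem_comap]
      have : QuotientGroup.mk' A a = 1 := (QuotientGroup.eq_one_iff a).mpr ha
      rw [this]; exact Subgroup.one_mem _
    have h2 : x ∈ (Subgroup.zpowers (QuotientGroup.mk' A x)).comap (QuotientGroup.mk' A) :=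
      Subgroup.mem_comap.mpr (Subgroup.mem_zpowers _)
    have h3 : (Subgroup.zpowers (QuotientGroup.mk' A x)).comap (QuotientGroup.mk' A) = ⊤ := by
      rcases eq_or_lt_of_le h1 with h | h
      · exact absurd (h ▸ h2) hx
      · exact hA.2 _ h
    obtain ⟨g, rfl⟩ := QuotientGroup.mk'_surjective A y
    have : g ∈ (Subgroup.zpowers (QuotientGroup.mk' A x)).comap (QuotientGroup.mk' A) := by
      rw [h3]; trivial
    exact Subgroup.mem_comap.mp this
  have hcomm : IsMulCommutative (G ⧸ A) := IsCyclic.isMulCommutative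
  have h1 : commutator G ≤ A :=
    Subgroup.Normal.quotient_commutative_iff_commutator_le.mp hcomm
  have h2 : derivedSeries G 2 = ⊥ := by
    rw [derivedSeries_succ, derivedSeries_one, eq_bot_iff]
    calc ⁅commutator G, commutator G⁆ ≤ ⁅A, A⁆ := Subgroup.commutator_mono h1 h1
      _ = ⊥ := by
        rw [Subgroup.commutator_eq_bot_iff_le_centralizer]
        intro a ha
        rw [Subgroup.mem_centralizer_iff]
        intro b hb
        exact congrArg Subtype.val (mul_comm (⟨b, hb⟩ : A) ⟨a, ha⟩)
  rw [derivedSeries_succ, h2, Subgroup.commutator_bot_left]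

end


section nonnormal
variable {G : Type*} [Group G] [Finite G]

theorem coprime_of_mod_eq_one {a m : ℕ} (h : a % m = 1 % m) : Nat.Coprime m a := by
  have h1 : Nat.gcd a m = Nat.gcd 1 m := Nat.ModEq.gcd_eq h
  rw [Nat.gcd_one_left] at h1
  exact (Nat.coprime_comm).mp h1

/-- In a group with a maximal subgroup `B` which is an abelian Frobenius complement, the second
derived subgroup is trivial. -/
theorem frobenius_case (B : Subgroup G) (hBmax : ∀ C : Subgroup G, B ≤ C → C ≠ B → C = ⊤)
    [IsMulCommutative B] (hB : Cfsg.IsFrobeniusComplement B) : derivedSeries G 2 = ⊥ := by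
  obtain ⟨K, hKset, hKn, hKB⟩ := Cfsg.Agent.S0035.result B hB
  obtain ⟨h34a, h34b⟩ := Cfsg.Agent.S0034.result B hB
  have hcardK : Nat.card K = B.index := by
    rw [← h34a]
    exact Nat.card_congr (Equiv.setCongr hKset)
  have hcop : (Nat.card B).Coprime (Nat.card K) := by
    rw [hcardK]; exact coprime_of_mod_eq_one h34b
  have hcardG : Nat.card K * Nat.card B = Nat.card G := hKB.card_mul_card
  have hBK : B ≤ Subgroup.normalizer (K : Set G) := by
    rw [Subgroup.normalizer_eq_top]; exact le_top
  have hsolvB : Group.IsSolvable B := Group.isSolvable_of_comm (fun a b => mul_comm a b)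
  -- key: an invariant subgroup `Q ≤ K`, `Q ≠ ⊥` equals `K`
  have key : ∀ Q : Subgroup G, Q ≤ K → Q ≠ ⊥ → B ≤ Subgroup.normalizer (Q : Set G) → Q = K := by
    intro Q hQK hQ1 hBQ
    have hcopQ : (Nat.card Q).Coprime (Nat.card B) :=
      Nat.Coprime.coprime_dvd_left (Subgroup.card_dvd_of_le hQK) hcop.symm
    have hdisj : Q ⊓ B = ⊥ := (Subgroup.disjoint_of_coprime_natCard hcopQ).eq_bot
    have hcard : Nat.card (Q ⊔ B : Subgroup G) = Nat.card Q * Nat.card B :=
      Cfsg.Agent.Lib.Helper54.card_sup_of_le_normalizer hBQ hdisj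
    have hne : Q ⊔ B ≠ B := by
      intro h
      have : Q ≤ B := h ▸ le_sup_left
      exact hQ1 (le_bot_iff.mp (hdisj ▸ le_inf le_rfl this))
    have htop := hBmax (Q ⊔ B) le_sup_right hne
    rw [htop, Subgroup.card_top, ← hcardG] at hcard
    have h1 : Nat.card K = Nat.card Q := Nat.eq_of_mul_eq_mul_right Nat.card_pos hcard
    exact Subgroup.eq_of_le_of_card_ge hQK h1.le
  -- `K ≠ ⊥`
  have hK1 : K ≠ ⊥ := by
    intro h
    have h1 := hKB.sup_eq_top
    rw [h, bot_sup_eq] at h1
    exact hB.2.1 h1
  -- `K` is a `q`-group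
  have hcardK1 : Nat.card K ≠ 1 := fun h => hK1 (Subgroup.card_eq_one.mp h)
  obtain ⟨q, hq, hqK⟩ := Nat.exists_prime_and_dvd hcardK1
  have : Fact q.Prime := ⟨hq⟩
  obtain ⟨P, hP⟩ := Cfsg.Agent.S0023.result B K hBK hcop (Or.inl hsolvB) q
  have hPcard : Nat.card ((P : Subgroup K).map K.subtype) = q ^ (Nat.card K).factorization q :=
    Cfsg.Agent.Lib.Helper54.card_map_sylow K P
  have hP1 : (P : Subgroup K).map K.subtype ≠ ⊥ := by
    intro h
    rw [h, Subgroup.card_bot] at hPcard
    have hpos : 0 < (Nat.card K).factorization q :=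
      hq.factorization_pos_of_dvd Nat.card_pos.ne' hqK
    have : 1 < q ^ (Nat.card K).factorization q := Nat.one_lt_pow hpos.ne' hq.one_lt
    omega
  have hPK := key _ (Subgroup.map_subtype_le _) hP1 hP
  have hKq : IsPGroup q K := by
    have : IsPGroup q ((P : Subgroup K).map K.subtype) := P.isPGroup'.map K.subtype
    rwa [hPK] at this
  -- `K` is abelian
  have : Nontrivial K := (Subgroup.nontrivial_iff_ne_bot K).mpr hK1
  have hZ1 : (Subgroup.center K).map K.subtype ≠ ⊥ := by
    intro h
    rw [Subgroup.map_eq_bot_iff_of_injective _ K.subtype_injective] at h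
    exact (IsPGroup.bot_lt_center hKq).ne' h
  have hZn : ((Subgroup.center K).map K.subtype).Normal := inferInstance
  have hZK := key _ (Subgroup.map_subtype_le _) hZ1 (by
    rw [Subgroup.normalizer_eq_top]; exact le_top)
  have hKcomm : ⁅K, K⁆ = ⊥ := by
    rw [Subgroup.commutator_eq_bot_iff_le_centralizer]
    intro a ha
    rw [Subgroup.mem_centralizer_iff]
    intro b hb
    have ha' : a ∈ (Subgroup.center K).map K.subtype := by rw [hZK]; exact ha
    obtain ⟨z, hz, rfl⟩ := ha'
    have := (Subgroup.mem_center_iff.mp hz) ⟨b, hb⟩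
    exact congrArg Subtype.val this
  -- conclude
  have h1 : commutator G ≤ K :=
    Subgroup.Normal.commutator_le_of_self_sup_commutative_eq_top hKB.sup_eq_top inferInstance
  rw [derivedSeries_succ, derivedSeries_one, eq_bot_iff, ← hKcomm]
  exact Subgroup.commutator_mono h1 h1

end nonnormal


section main
variable {G : Type*} [Group G] [Finite G]

theorem case_nonnormal (A : Subgroup G) (hA : IsCoatom A) [IsMulCommutative A]
    (hn : ¬ A.Normal) : derivedSeries G 3 = ⊥ := by
  have hcomm : ∀ a ∈ A, ∀ b ∈ A, a * b = b * a := fun a ha b hb =>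
    congrArg Subtype.val (mul_comm (⟨a, ha⟩ : A) ⟨b, hb⟩)
  -- `N_G(A) = A`
  have hNA : Subgroup.normalizer (A : Set G) = A := by
    rcases eq_or_lt_of_le (Subgroup.le_normalizer : A ≤ Subgroup.normalizer (A : Set G)) with h | h
    · exact h.symm
    · exact absurd (Subgroup.normalizer_eq_top_iff.mp (hA.2 _ h)) hn
  set Z := Subgroup.center G with hZ
  -- `Z ≤ A`
  have hZA : Z ≤ A := by
    have h1 : A ⊔ Z ≤ Subgroup.normalizer (A : Set G) :=
      sup_le Subgroup.le_normalizer (by
        intro z hz
        rw [Subgroup.mem_normalizer_iff]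
        intro a
        have : z * a * z⁻¹ = a := by
          rw [← (Subgroup.mem_center_iff.mp hz) a, mul_inv_cancel_right]
        rw [this])
    rw [hNA] at h1
    exact le_sup_right.trans h1
  -- intersections of distinct conjugates are central
  have hint : ∀ g : G, g ∉ A → A ⊓ MulAut.conj g • A ≤ Z := by
    intro g hg
    have hne : ¬ MulAut.conj g • A ≤ A := by
      intro h
      have h2 : MulAut.conj g • A = A :=
        Subgroup.eq_of_le_of_card_ge h (by rw [Cfsg.Agent.Lib.Helper54.card_conj_smul])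
      apply hg
      rw [← hNA]
      exact Cfsg.Agent.Lib.Helper54.mem_normalizer_iff_conj_smul.mpr h2
    have htop : A ⊔ MulAut.conj g • A = ⊤ := by
      rcases eq_or_lt_of_le (le_sup_left : A ≤ A ⊔ MulAut.conj g • A) with h | h
      · exact absurd (le_sup_right.trans h.symm.le) hne
      · exact hA.2 _ h
    intro x hx
    have h1 : A ≤ Subgroup.centralizer {x} := by
      intro a ha
      rw [Subgroup.mem_centralizer_singleton_iff]
      exact hcomm a ha x (Subgroup.mem_inf.mp hx).1
    have h2 : MulAut.conj g • A ≤ Subgroup.centralizer {x} := by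
      intro b hb
      rw [Subgroup.mem_centralizer_singleton_iff]
      have hx2 := (Subgroup.mem_inf.mp hx).2
      rw [Cfsg.Agent.Lib.Helper54.mem_conj_smul_iff] at hb hx2
      have := hcomm _ hb _ hx2
      have e1 : b * x = g * ((g⁻¹ * b * g) * (g⁻¹ * x * g)) * g⁻¹ := by group
      have e2 : x * b = g * ((g⁻¹ * x * g) * (g⁻¹ * b * g)) * g⁻¹ := by group
      rw [e1, e2, this]
    have h3 : (⊤ : Subgroup G) ≤ Subgroup.centralizer {x} := htop.symm.le.trans (sup_le h1 h2)
    rw [Subgroup.mem_center_iff]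
    intro y
    exact (Subgroup.mem_centralizer_singleton_iff.mp (h3 (Subgroup.mem_top y)))
  -- pass to the quotient
  set f : G →* G ⧸ Z := QuotientGroup.mk' Z with hf
  have hfsurj : Function.Surjective f := QuotientGroup.mk'_surjective Z
  set B : Subgroup (G ⧸ Z) := A.map f with hB
  have hcomapB : B.comap f = A := by
    rw [hB, Subgroup.comap_map_eq, QuotientGroup.ker_mk', sup_of_le_left hZA]
  have hBcomm : IsMulCommutative B := by
    refine ⟨⟨?_⟩⟩
    rintro ⟨_, a, ha, rfl⟩ ⟨_, b, hb, rfl⟩
    apply Subtype.ext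
    show f a * f b = f b * f a
    rw [← map_mul, ← map_mul, hcomm a ha b hb]
  have hBmax : ∀ C : Subgroup (G ⧸ Z), B ≤ C → C ≠ B → C = ⊤ := by
    intro C hBC hne
    have h1 : A ≤ C.comap f := hcomapB ▸ Subgroup.comap_mono hBC
    rcases eq_or_lt_of_le h1 with h | h
    · exfalso
      apply hne
      rw [← Subgroup.map_comap_eq_self_of_surjective hfsurj C, ← h]
    · have := hA.2 _ h
      rw [← Subgroup.map_comap_eq_self_of_surjective hfsurj C, this,
        Subgroup.map_top_of_surjective f hfsurj]
  have hBfrob : Cfsg.IsFrobeniusComplement B := by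
    refine ⟨?_, ?_, ?_⟩
    · intro h
      have h1 : A ≤ Z := by
        rw [← QuotientGroup.ker_mk' Z]
        exact (Subgroup.map_eq_bot_iff A).mp h
      have h2 : A = Z := le_antisymm h1 hZA
      exact hn (h2 ▸ inferInstance)
    · intro h
      have h1 : B.comap f = ⊤ := by rw [h]; exact Subgroup.comap_top f
      rw [hcomapB] at h1
      exact hA.1 h1
    · intro gbar hgbar
      obtain ⟨g, rfl⟩ := hfsurj gbar
      have hg : g ∉ A := fun h => hgbar ⟨g, h, rfl⟩
      rw [eq_bot_iff]
      intro x hx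
      obtain ⟨a, ha, rfl⟩ := (Subgroup.mem_inf.mp hx).1
      have hx2 := (Subgroup.mem_inf.mp hx).2
      rw [Cfsg.Agent.Lib.Helper54.mem_conj_smul_iff] at hx2
      obtain ⟨a', ha', hfa'⟩ := hx2
      -- `f a' = (f g)⁻¹ * f a * f g`
      have h1 : f (g * a' * g⁻¹) = f a := by
        rw [map_mul, map_mul, hfa', map_inv]; group
      have h2 : a⁻¹ * (g * a' * g⁻¹) ∈ Z := by
        rw [← QuotientGroup.ker_mk' Z, MonoidHom.mem_ker, map_mul, h1, map_inv, inv_mul_cancel]
      have h3 : g * a' * g⁻¹ ∈ A := by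
        have : g * a' * g⁻¹ = a * (a⁻¹ * (g * a' * g⁻¹)) := by group
        rw [this]
        exact A.mul_mem ha (hZA h2)
      have h4 : g * a' * g⁻¹ ∈ MulAut.conj g • A :=
        Cfsg.Agent.Lib.Helper54.conj_mem_conj_smul ha'
      have h5 : g * a' * g⁻¹ ∈ Z := hint g hg (Subgroup.mem_inf.mpr ⟨h3, h4⟩)
      rw [Subgroup.mem_bot, ← h1]
      exact (QuotientGroup.eq_one_iff _).mpr h5
  have hbar : derivedSeries (G ⧸ Z) 2 = ⊥ := frobenius_case B hBmax hBfrob
  have h2 : derivedSeries G 2 ≤ Z := by
    have h3 := map_derivedSeries_eq hfsurj 2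
    rw [hbar] at h3
    rw [← QuotientGroup.ker_mk' Z]
    exact (Subgroup.map_eq_bot_iff _).mp h3
  rw [derivedSeries_succ, Subgroup.commutator_eq_bot_iff_le_centralizer]
  exact h2.trans (Subgroup.center_le_centralizer _)

end main


/-- If a finite group has a maximal subgroup that is abelian, then the third term of its derived series is trivial (so the group is solvable of derived length at most three). -/
theorem result {G : Type*} [Group G] [Finite G] (A : Subgroup G) (hA : IsCoatom A) [IsMulCommutative A] : derivedSeries G 3 = ⊥ := by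
  by_cases hn : A.Normal
  · exact case_normal A hA hn
  · exact case_nonnormal A hA hn

end Cfsg.Agent.S0556
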