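import Cfsg.Statements.S0559
import Mathlib
-- import your own Cfsg.Agent.* helpers here

set_option autoImplicit false
open Cfsg
open Pointwise

namespace Cfsg.Agent.S0559

/-- Let G = HK be a finite group (every element a product of an element of H and an element of K), and let A and B be conjugates of H and K. Then every element is a product of an element of A and one of B, and there is g with A = gHg⁻¹ and B = gKg⁻¹ simultaneously. -/
theorem result {G : Type*} [Group G] [Finite G] (H K A B : Subgroup G) (hHK : ∀ g : G, ∃ h ∈ H, ∃ k ∈ K, g = h * k) (hA : ∃ x : G, A = MulAut.conj x • H) (hB : ∃ y : G, B = MulAut.conj y • K) : (∀ g : G, ∃ a ∈ A, ∃ b ∈ B, g = a * b) ∧ ∃ g : G, A = MulAut.conj g • H ∧ B = MulAut.conj g • K := by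
  obtain ⟨x, rfl⟩ := hA
  obtain ⟨y, rfl⟩ := hB
  obtain ⟨h, hh, k, hk, hxy⟩ := hHK (x⁻¹ * y)
  -- g = x * h = y * k⁻¹
  have hg : x * h = y * k⁻¹ := by
    have : y = x * (h * k) := by rw [← hxy]; group
    rw [this]; group
  have hAeq : MulAut.conj x • H = MulAut.conj (x * h) • H := by
    rw [map_mul, mul_smul]
    congr 1
    ext z
    rw [Subgroup.mem_pointwise_smul_iff_inv_smul_mem]
    simp only [MulAut.smul_def, ← map_inv, MulAut.conj_apply, inv_inv]
    constructor
    · intro hz
      exact H.mul_mem (H.mul_mem (H.inv_mem hh) hz) hh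
    · intro hz
      have := H.mul_mem (H.mul_mem hh hz) (H.inv_mem hh)
      simpa [mul_assoc] using this
  have hBeq : MulAut.conj y • K = MulAut.conj (x * h) • K := by
    rw [hg, map_mul, mul_smul]
    congr 1
    ext z
    rw [Subgroup.mem_pointwise_smul_iff_inv_smul_mem]
    simp only [MulAut.smul_def, ← map_inv, MulAut.conj_apply, inv_inv]
    constructor
    · intro hz
      have := K.mul_mem (K.mul_mem hk hz) (K.inv_mem hk)
      simpa [mul_assoc] using this
    · intro hz
      have := K.mul_mem (K.mul_mem (K.inv_mem hk) hz) hk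
      simpa [mul_assoc] using this
  refine ⟨?_, x * h, hAeq, hBeq⟩
  intro g
  rw [hAeq, hBeq]
  set c := x * h with hc
  obtain ⟨a, ha, b, hb, hab⟩ := hHK (c⁻¹ * g * c)
  refine ⟨c * a * c⁻¹, ?_, c * b * c⁻¹, ?_, ?_⟩
  · rw [Subgroup.mem_pointwise_smul_iff_inv_smul_mem]
    simp only [MulAut.smul_def, ← map_inv, MulAut.conj_apply, inv_inv]
    simpa [mul_assoc] using ha
  · rw [Subgroup.mem_pointwise_smul_iff_inv_smul_mem]
    simp only [MulAut.smul_def, ← map_inv, MulAut.conj_apply, inv_inv]
    simpa [mul_assoc] using hb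
  · have : g = c * (c⁻¹ * g * c) * c⁻¹ := by group
    rw [this, hab]; group

end Cfsg.Agent.S0559
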