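import Mathlib
import Cfsg.Statements.S0560
import Cfsg.Agent.Lib.Helper50.ChermakDelgado

set_option autoImplicit false
open Pointwise
open Cfsg

namespace Cfsg.Agent.S0560

theorem mem_sylow_smul_iff {G : Type*} [Group G] {p : ℕ} (S : Sylow p G) (g x : G) :
    x ∈ ((g • S : Sylow p G) : Subgroup G) ↔ g⁻¹ * x * g ∈ (S : Subgroup G) := by
  rw [Sylow.coe_subgroup_smul, Subgroup.mem_pointwise_smul_iff_inv_smul_mem]
  simp [MulAut.smul_def]

theorem exists_sylow_inter {G : Type*} [Group G] [Finite G] (H K : Subgroup G)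
    (hHK : ∀ g : G, ∃ h ∈ H, ∃ k ∈ K, g = h * k) (p : ℕ) [Fact p.Prime] :
    ∃ (P : Sylow p H) (Q : Sylow p K) (R : Sylow p G),
      (P : Subgroup H).map H.subtype ≤ R ∧ (Q : Subgroup K).map K.subtype ≤ R := by
  obtain ⟨S₁, hS₁⟩ := (default : Sylow p H).exists_comap_subtype_eq
  obtain ⟨S₂, hS₂⟩ := (default : Sylow p K).exists_comap_subtype_eq
  obtain ⟨g, hg⟩ := MulAction.exists_smul_eq G S₁ S₂
  obtain ⟨h, hh, k, hk, hgk⟩ := hHK g⁻¹
  have hg' : g = k⁻¹ * h⁻¹ := by
    rw [← mul_inv_rev, ← hgk, inv_inv]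
  refine ⟨(⟨h, hh⟩ : H)⁻¹ • (default : Sylow p H), (⟨k, hk⟩ : K) • (default : Sylow p K),
    h⁻¹ • S₁, ?_, ?_⟩
  · rintro x ⟨y, hy, rfl⟩
    rw [SetLike.mem_coe, mem_sylow_smul_iff] at hy
    rw [mem_sylow_smul_iff]
    rw [← hS₁, Subgroup.mem_comap] at hy
    simpa using hy
  · have hR : h⁻¹ • S₁ = k • S₂ := by
      rw [← hg, hg', mul_smul, smul_smul k, mul_inv_cancel, one_smul]
    rw [hR]
    rintro x ⟨y, hy, rfl⟩
    rw [SetLike.mem_coe, mem_sylow_smul_iff] at hy
    rw [mem_sylow_smul_iff]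
    rw [← hS₂, Subgroup.mem_comap] at hy
    simpa using hy

theorem card_map_subtype {G : Type*} [Group G] (H : Subgroup G) (P : Subgroup H) :
    Nat.card (P.map H.subtype) = Nat.card P :=
  Subgroup.card_map_of_injective H.subtype_injective

/-- Let the finite group G be the product HK of two subgroups and p a prime. Then there are Sylow p-subgroups P of H and Q of K and a Sylow p-subgroup R of G whose underlying set is the product set of P and Q. -/
theorem result {G : Type*} [Group G] [Finite G] (H K : Subgroup G) (hHK : ∀ g : G, ∃ h ∈ H, ∃ k ∈ K, g = h * k) (p : ℕ) [Fact p.Prime] : ∃ (P : Sylow p H) (Q : Sylow p K) (R : Sylow p G), ((R : Subgroup G) : Set G) = (((P : Subgroup H).map H.subtype : Subgroup G) : Set G) * (((Q : Subgroup K).map K.subtype : Subgroup G) : Set G) := by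
  have hp : p.Prime := Fact.out
  obtain ⟨P, Q, R, hPR, hQR⟩ := exists_sylow_inter H K hHK p
  refine ⟨P, Q, R, ?_⟩
  set P' := (P : Subgroup H).map H.subtype with hP'
  set Q' := (Q : Subgroup K).map K.subtype with hQ'
  have hsub : (P' : Set G) * (Q' : Set G) ⊆ (R : Subgroup G) := by
    rintro x ⟨a, ha, b, hb, rfl⟩
    exact (R : Subgroup G).mul_mem (hPR ha) (hQR hb)
  symm
  apply Set.eq_of_subset_of_ncard_le hsub _ (Set.toFinite _)
  rw [← Nat.card_coe_set_eq, ← Nat.card_coe_set_eq]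
  -- cardinalities
  have hHKuniv : ((H : Set G) * (K : Set G)) = Set.univ := by
    ext g
    simp only [Set.mem_univ, iff_true]
    obtain ⟨h, hh, k, hk, rfl⟩ := hHK g
    exact Set.mul_mem_mul hh hk
  have f1 := Cfsg.Agent.Lib.Helper50.card_mul_card_eq_card_inf_mul_card_mul H K
  rw [hHKuniv, Nat.card_congr (Equiv.Set.univ G)] at f1
  have f2 := Cfsg.Agent.Lib.Helper50.card_mul_card_eq_card_inf_mul_card_mul P' Q'
  have cP : Nat.card P' = p ^ (Nat.card H).factorization p := by
    rw [hP', card_map_subtype]; exact P.card_eq_multiplicity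
  have cQ : Nat.card Q' = p ^ (Nat.card K).factorization p := by
    rw [hQ', card_map_subtype]; exact Q.card_eq_multiplicity
  have cR : Nat.card (R : Subgroup G) = p ^ (Nat.card G).factorization p := R.card_eq_multiplicity
  have hPH : P' ≤ H := by
    rintro x ⟨y, _, rfl⟩; exact y.2
  have hQK : Q' ≤ K := by
    rintro x ⟨y, _, rfl⟩; exact y.2
  have hpg : IsPGroup p (P' ⊓ Q' : Subgroup G) :=
    (R.isPGroup'.to_le hPR).to_le inf_le_left
  obtain ⟨γ, hγ⟩ := IsPGroup.iff_card.mp hpg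
  have hdvd : Nat.card (P' ⊓ Q' : Subgroup G) ∣ Nat.card (H ⊓ K : Subgroup G) :=
    Subgroup.card_dvd_of_le (inf_le_inf hPH hQK)
  have hγle : γ ≤ (Nat.card (H ⊓ K : Subgroup G)).factorization p := by
    rw [hγ] at hdvd
    exact (hp.pow_dvd_iff_le_factorization Nat.card_pos.ne').mp hdvd
  have hfac : (Nat.card H).factorization p + (Nat.card K).factorization p =
      (Nat.card (H ⊓ K : Subgroup G)).factorization p + (Nat.card G).factorization p := by
    have := congrArg (fun n => n.factorization p) f1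
    rw [Nat.factorization_mul Nat.card_pos.ne' Nat.card_pos.ne',
      Nat.factorization_mul Nat.card_pos.ne' Nat.card_pos.ne'] at this
    simpa using this
  change Nat.card (R : Subgroup G) ≤ _
  rw [cR]
  rw [cP, cQ, hγ, ← pow_add, hfac] at f2
  set δ := (Nat.card (H ⊓ K : Subgroup G)).factorization p
  set ρ := (Nat.card G).factorization p
  set m := Nat.card ((P' : Set G) * (Q' : Set G) : Set G)
  -- f2 : p ^ (δ + ρ) = p ^ γ * m
  have hpos : 0 < p ^ γ := pow_pos hp.pos γ
  have : p ^ γ * (p ^ (δ - γ) * p ^ ρ) = p ^ γ * m := by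
    rw [← f2, ← pow_add, ← pow_add]
    congr 1
    omega
  have hm : m = p ^ (δ - γ) * p ^ ρ := (Nat.eq_of_mul_eq_mul_left hpos this).symm
  rw [hm]
  exact Nat.le_mul_of_pos_left _ (pow_pos hp.pos _)

end Cfsg.Agent.S0560
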