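import Cfsg.Statements.S0566
import Mathlib

set_option autoImplicit false
open Pointwise
open Cfsg

namespace Cfsg.Agent.S0566

variable {G : Type*} [Group G]

/-- `K` permutes with `H`: `K H ⊆ H K`. -/
def Permutes (H K : Subgroup G) : Prop :=
  ∀ k ∈ K, ∀ h ∈ H, ∃ h' ∈ H, ∃ k' ∈ K, k * h = h' * k'

theorem le_of_coe_eq_mul_left {H K S : Subgroup G}
    (hS : (S : Set G) = (H : Set G) * (K : Set G)) : H ≤ S := by
  intro h hh
  rw [← SetLike.mem_coe, hS]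
  exact ⟨h, hh, 1, K.one_mem, mul_one h⟩

theorem le_of_coe_eq_mul_right {H K S : Subgroup G}
    (hS : (S : Set G) = (H : Set G) * (K : Set G)) : K ≤ S := by
  intro k hk
  rw [← SetLike.mem_coe, hS]
  exact ⟨1, H.one_mem, k, hk, one_mul k⟩

theorem permutes_of_coe_eq {H K S : Subgroup G}
    (hS : (S : Set G) = (H : Set G) * (K : Set G)) : Permutes H K := by
  intro k hk h hh
  have h1 : k * h ∈ (S : Set G) :=
    S.mul_mem (le_of_coe_eq_mul_right hS hk) (le_of_coe_eq_mul_left hS hh)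
  rw [hS] at h1
  obtain ⟨h', hh', k', hk', e⟩ := h1
  exact ⟨h', hh', k', hk', e.symm⟩

theorem Permutes.symm' {H K : Subgroup G} (hp : Permutes H K) :
    ∀ h ∈ H, ∀ k ∈ K, ∃ k' ∈ K, ∃ h' ∈ H, h * k = k' * h' := by
  intro h hh k hk
  obtain ⟨h', hh', k', hk', e⟩ := hp k⁻¹ (K.inv_mem hk) h⁻¹ (H.inv_mem hh)
  refine ⟨k'⁻¹, K.inv_mem hk', h'⁻¹, H.inv_mem hh', ?_⟩
  have : (h * k)⁻¹ = (k'⁻¹ * h'⁻¹)⁻¹ := by
    rw [mul_inv_rev, mul_inv_rev, inv_inv, inv_inv]; exact e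
  exact inv_injective this

theorem exists_subgroup_of_permutes {H K : Subgroup G} (hp : Permutes H K) :
    ∃ S : Subgroup G, (S : Set G) = (H : Set G) * (K : Set G) := by
  refine ⟨{ carrier := (H : Set G) * (K : Set G), mul_mem' := ?_, one_mem' := ?_, inv_mem' := ?_ }, rfl⟩
  · rintro _ _ ⟨h₁, hh₁, k₁, hk₁, rfl⟩ ⟨h₂, hh₂, k₂, hk₂, rfl⟩
    obtain ⟨h', hh', k', hk', e⟩ := hp k₁ hk₁ h₂ hh₂
    refine ⟨h₁ * h', H.mul_mem hh₁ hh', k' * k₂, K.mul_mem hk' hk₂, ?_⟩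
    calc h₁ * h' * (k' * k₂) = h₁ * (h' * k') * k₂ := by group
      _ = h₁ * (k₁ * h₂) * k₂ := by rw [e]
      _ = h₁ * k₁ * (h₂ * k₂) := by group
  · exact ⟨1, H.one_mem, 1, K.one_mem, mul_one 1⟩
  · rintro _ ⟨h, hh, k, hk, rfl⟩
    obtain ⟨h', hh', k', hk', e⟩ := hp k⁻¹ (K.inv_mem hk) h⁻¹ (H.inv_mem hh)
    exact ⟨h', hh', k', hk', by
      change h' * k' = (h * k)⁻¹
      rw [← e, mul_inv_rev]⟩

theorem Permutes.sup {H₁ H₂ K : Subgroup G} (h1 : Permutes H₁ K) (h2 : Permutes H₂ K) :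
    Permutes (H₁ ⊔ H₂) K := by
  have key : ∀ g ∈ H₁ ⊔ H₂,
      (∀ k ∈ K, ∃ j ∈ H₁ ⊔ H₂, ∃ k' ∈ K, k * g = j * k') ∧
      (∀ k ∈ K, ∃ k' ∈ K, ∃ j ∈ H₁ ⊔ H₂, g * k = k' * j) := by
    intro g hg
    rw [Subgroup.sup_eq_closure] at hg
    induction hg using Subgroup.closure_induction with
    | mem g hg =>
      rcases hg with hg | hg
      · refine ⟨fun k hk => ?_, fun k hk => ?_⟩
        · obtain ⟨h', hh', k', hk', e⟩ := h1 k hk g hg
          exact ⟨h', (le_sup_left : H₁ ≤ H₁ ⊔ H₂) hh', k', hk', e⟩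
        · obtain ⟨k', hk', h', hh', e⟩ := h1.symm' g hg k hk
          exact ⟨k', hk', h', (le_sup_left : H₁ ≤ H₁ ⊔ H₂) hh', e⟩
      · refine ⟨fun k hk => ?_, fun k hk => ?_⟩
        · obtain ⟨h', hh', k', hk', e⟩ := h2 k hk g hg
          exact ⟨h', (le_sup_right : H₂ ≤ H₁ ⊔ H₂) hh', k', hk', e⟩
        · obtain ⟨k', hk', h', hh', e⟩ := h2.symm' g hg k hk
          exact ⟨k', hk', h', (le_sup_right : H₂ ≤ H₁ ⊔ H₂) hh', e⟩
    | one =>
      exact ⟨fun k hk => ⟨1, Subgroup.one_mem _, k, hk, by simp⟩,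
        fun k hk => ⟨k, hk, 1, Subgroup.one_mem _, by simp⟩⟩
    | mul a b _ _ iha ihb =>
      refine ⟨fun k hk => ?_, fun k hk => ?_⟩
      · obtain ⟨j₁, hj₁, k₁, hk₁, e₁⟩ := iha.1 k hk
        obtain ⟨j₂, hj₂, k₂, hk₂, e₂⟩ := ihb.1 k₁ hk₁
        refine ⟨j₁ * j₂, Subgroup.mul_mem _ hj₁ hj₂, k₂, hk₂, ?_⟩
        calc k * (a * b) = (k * a) * b := by group
          _ = j₁ * (k₁ * b) := by rw [e₁]; group
          _ = j₁ * j₂ * k₂ := by rw [e₂]; group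
      · obtain ⟨k₁, hk₁, j₁, hj₁, e₁⟩ := ihb.2 k hk
        obtain ⟨k₂, hk₂, j₂, hj₂, e₂⟩ := iha.2 k₁ hk₁
        refine ⟨k₂, hk₂, j₂ * j₁, Subgroup.mul_mem _ hj₂ hj₁, ?_⟩
        calc a * b * k = a * (b * k) := by group
          _ = (a * k₁) * j₁ := by rw [e₁]; group
          _ = k₂ * (j₂ * j₁) := by rw [e₂]; group
    | inv a _ iha =>
      refine ⟨fun k hk => ?_, fun k hk => ?_⟩
      · obtain ⟨k', hk', j, hj, e⟩ := iha.2 k⁻¹ (K.inv_mem hk)
        refine ⟨j⁻¹, Subgroup.inv_mem _ hj, k'⁻¹, K.inv_mem hk', ?_⟩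
        have : (k * a⁻¹)⁻¹ = (j⁻¹ * k'⁻¹)⁻¹ := by
          rw [mul_inv_rev, mul_inv_rev, inv_inv, inv_inv, inv_inv]; exact e
        exact inv_injective this
      · obtain ⟨j, hj, k', hk', e⟩ := iha.1 k⁻¹ (K.inv_mem hk)
        refine ⟨k'⁻¹, K.inv_mem hk', j⁻¹, Subgroup.inv_mem _ hj, ?_⟩
        have : (a⁻¹ * k)⁻¹ = (k'⁻¹ * j⁻¹)⁻¹ := by
          rw [mul_inv_rev, mul_inv_rev, inv_inv, inv_inv, inv_inv]; exact e
        exact inv_injective this
  intro k hk g hg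
  exact (key g hg).1 k hk

theorem Permutes.conj {H K : Subgroup G} (hp : Permutes H K) (g : G) :
    Permutes (MulAut.conj g • H) (MulAut.conj g • K) := by
  rintro _ ⟨k, hk, rfl⟩ _ ⟨h, hh, rfl⟩
  obtain ⟨h', hh', k', hk', e⟩ := hp k hk h hh
  refine ⟨_, ⟨h', hh', rfl⟩, _, ⟨k', hk', rfl⟩, ?_⟩
  change MulAut.conj g k * MulAut.conj g h = MulAut.conj g h' * MulAut.conj g k'
  rw [← map_mul, ← map_mul, e]

/-- Let A and B be nontrivial subgroups of a finite group G such that for every x the product set of A and xBx⁻¹ is a proper subgroup of G. Then there is a proper normal subgroup of G containing A or containing B. -/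
theorem result {G : Type*} [Group G] [Finite G] (A B : Subgroup G) (hA : A ≠ ⊥) (hB : B ≠ ⊥) (h : ∀ x : G, ∃ S : Subgroup G, S ≠ ⊤ ∧ (S : Set G) = (A : Set G) * ((MulAut.conj x • B : Subgroup G) : Set G)) : ∃ N : Subgroup G, N.Normal ∧ N ≠ ⊤ ∧ (A ≤ N ∨ B ≤ N) := by
  by_cases hA' : Subgroup.normalClosure (A : Set G) = ⊤
  swap
  · exact ⟨_, Subgroup.normalClosure_normal, hA', Or.inl Subgroup.le_normalClosure⟩
  by_cases hB' : Subgroup.normalClosure (B : Set G) = ⊤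
  swap
  · exact ⟨_, Subgroup.normalClosure_normal, hB', Or.inr Subgroup.le_normalClosure⟩
  exfalso
  obtain ⟨A₀, -, hmax⟩ := Finite.exists_le_maximal
    (p := fun A' : Subgroup G => (∀ x : G, ∃ S : Subgroup G, S ≠ ⊤ ∧
      (S : Set G) = (A' : Set G) * ((MulAut.conj x • B : Subgroup G) : Set G)) ∧
      Subgroup.normalClosure (A' : Set G) = ⊤) (a := A) ⟨h, hA'⟩
  obtain ⟨hgood, hncl⟩ := hmax.prop
  -- `A₀` is proper
  have hA₀top : A₀ ≠ ⊤ := by
    intro htop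
    obtain ⟨S, hS, hSeq⟩ := hgood 1
    apply hS
    rw [eq_top_iff, ← htop]
    exact le_of_coe_eq_mul_left hSeq
  -- some conjugate of `B` does not normalize `A₀`
  have hex : ∃ x : G, ∃ b ∈ MulAut.conj x • B, b ∉ Subgroup.normalizer (A₀ : Set G) := by
    by_contra hcon
    push Not at hcon
    have hle : Subgroup.normalClosure (B : Set G) ≤ Subgroup.normalizer (A₀ : Set G) := by
      unfold Subgroup.normalClosure
      rw [Subgroup.closure_le]
      intro a ha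
      rw [Group.mem_conjugatesOfSet_iff] at ha
      obtain ⟨b, hb, hconj⟩ := ha
      obtain ⟨c, hc⟩ := isConj_iff.mp hconj
      exact hcon c a ⟨b, hb, by simpa [MulAut.smul_def] using hc⟩
    rw [hB', top_le_iff] at hle
    have hn : A₀.Normal := Subgroup.normalizer_eq_top_iff.mp hle
    have h1 : Subgroup.normalClosure (A₀ : Set G) = A₀ := Subgroup.normalClosure_eq_self A₀
    exact hA₀top (by rw [← h1, hncl])
  obtain ⟨x, b, hbB, hbN⟩ := hex
  obtain ⟨Sx, hSx, hSxeq⟩ := hgood x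
  have hA₀Sx : A₀ ≤ Sx := le_of_coe_eq_mul_left hSxeq
  have hBxSx : MulAut.conj x • B ≤ Sx := le_of_coe_eq_mul_right hSxeq
  have hA₁Sx : A₀ ⊔ MulAut.conj b • A₀ ≤ Sx :=
    sup_le hA₀Sx (Subgroup.conj_smul_le_of_le hA₀Sx ⟨b, hBxSx hbB⟩)
  have hlt : A₀ < A₀ ⊔ MulAut.conj b • A₀ := by
    refine lt_of_le_of_ne le_sup_left ?_
    intro heq
    apply hbN
    have hle : MulAut.conj b • A₀ ≤ A₀ := by
      calc MulAut.conj b • A₀ ≤ A₀ ⊔ MulAut.conj b • A₀ := le_sup_right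
        _ = A₀ := heq.symm
    have heq2 : MulAut.conj b • A₀ = A₀ := by
      apply Subgroup.eq_of_le_of_card_ge hle
      rw [Nat.card_congr (Subgroup.equivSMul (MulAut.conj b) A₀).toEquiv]
    exact Subgroup.mem_normalizer_iff_map_conj_eq.mpr heq2
  have hncl₁ : Subgroup.normalClosure ((A₀ ⊔ MulAut.conj b • A₀ : Subgroup G) : Set G) = ⊤ := by
    rw [eq_top_iff, ← hncl]
    exact Subgroup.normalClosure_mono (SetLike.coe_subset_coe.mpr le_sup_left)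
  -- `A₁` permutes with all conjugates of `B`
  have hperm : ∀ y : G, ∃ S : Subgroup G, (S : Set G) =
      ((A₀ ⊔ MulAut.conj b • A₀ : Subgroup G) : Set G) *
        ((MulAut.conj y • B : Subgroup G) : Set G) := by
    intro y
    apply exists_subgroup_of_permutes
    apply Permutes.sup
    · obtain ⟨S, _, hS⟩ := hgood y
      exact permutes_of_coe_eq hS
    · obtain ⟨S, _, hS⟩ := hgood (b⁻¹ * y)
      have h1 := (permutes_of_coe_eq hS).conj b
      rwa [smul_smul, ← map_mul, mul_inv_cancel_left] at h1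
  -- by maximality some product is everything
  have hy : ∃ y : G, ∀ S : Subgroup G, (S : Set G) =
      ((A₀ ⊔ MulAut.conj b • A₀ : Subgroup G) : Set G) *
        ((MulAut.conj y • B : Subgroup G) : Set G) → S = ⊤ := by
    by_contra hcon
    push Not at hcon
    have hg : (∀ x : G, ∃ S : Subgroup G, S ≠ ⊤ ∧
        (S : Set G) = ((A₀ ⊔ MulAut.conj b • A₀ : Subgroup G) : Set G) *
          ((MulAut.conj x • B : Subgroup G) : Set G)) ∧
        Subgroup.normalClosure ((A₀ ⊔ MulAut.conj b • A₀ : Subgroup G) : Set G) = ⊤ := by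
      refine ⟨fun y => ?_, hncl₁⟩
      obtain ⟨S, hS1, hS2⟩ := hcon y
      exact ⟨S, hS2, hS1⟩
    exact absurd (hmax.le_of_ge hg hlt.le) (not_le_of_gt hlt)
  obtain ⟨y, hy⟩ := hy
  obtain ⟨S, hS⟩ := hperm y
  have hStop := hy S hS
  have hmem : x * y⁻¹ ∈ (S : Set G) := by rw [hStop]; trivial
  rw [hS] at hmem
  obtain ⟨a₁, ha₁, b', hb', hprod⟩ := hmem
  have hBx : MulAut.conj x • B = MulAut.conj a₁ • (MulAut.conj y • B) := by
    have h1 : MulAut.conj b' • (MulAut.conj y • B) = MulAut.conj y • B :=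
      Subgroup.conj_smul_eq_self_of_mem hb'
    have h2 : x = a₁ * b' * y := by
      have : a₁ * b' = x * y⁻¹ := hprod
      rw [this]; group
    rw [h2, map_mul, map_mul, mul_smul, mul_smul, h1]
  apply hSx
  rw [eq_top_iff]
  intro g _
  have h3 : a₁⁻¹ * g * a₁ ∈ (S : Set G) := by rw [hStop]; trivial
  rw [hS] at h3
  obtain ⟨a₂, ha₂, b₂, hb₂, hprod2⟩ := h3
  have hg : g = (a₁ * a₂ * a₁⁻¹) * (a₁ * b₂ * a₁⁻¹) := by
    have : a₂ * b₂ = a₁⁻¹ * g * a₁ := hprod2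
    calc g = a₁ * (a₁⁻¹ * g * a₁) * a₁⁻¹ := by group
      _ = a₁ * (a₂ * b₂) * a₁⁻¹ := by rw [this]
      _ = (a₁ * a₂ * a₁⁻¹) * (a₁ * b₂ * a₁⁻¹) := by group
  rw [hg]
  apply Sx.mul_mem
  · exact hA₁Sx (Subgroup.mul_mem _ (Subgroup.mul_mem _ ha₁ ha₂) (Subgroup.inv_mem _ ha₁))
  · apply hBxSx
    rw [hBx]
    exact ⟨b₂, hb₂, rfl⟩

end Cfsg.Agent.S0566
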