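import Cfsg.Statements.S0567
import Mathlib

set_option autoImplicit false
open Cfsg
open scoped commutatorElement

namespace Cfsg.Agent.S0567

/-- The iterated commutator chain `[G, H, ..., H]`. -/
theorem iter_succ {G : Type*} [Group G] (H : Subgroup G) (m : ℕ) :
    (fun K : Subgroup G => ⁅K, H⁆)^[m + 1] ⊤ = ⁅(fun K : Subgroup G => ⁅K, H⁆)^[m] ⊤, H⁆ :=
  Function.iterate_succ_apply' _ _ _

theorem iter_mono {G : Type*} [Group G] {H K : Subgroup G} (hHK : H ≤ K) (m : ℕ) :
    (fun X : Subgroup G => ⁅X, H⁆)^[m] ⊤ ≤ (fun X : Subgroup G => ⁅X, K⁆)^[m] ⊤ := by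
  induction m with
  | zero => simp
  | succ m ih =>
    rw [iter_succ, iter_succ]
    exact Subgroup.commutator_mono ih hHK

theorem le_normalizer_iter {G : Type*} [Group G] (H : Subgroup G) (m : ℕ) :
    H ≤ Subgroup.normalizer (((fun X : Subgroup G => ⁅X, H⁆)^[m] ⊤ : Subgroup G) : Set G) := by
  cases m with
  | zero =>
    simp only [Function.iterate_zero, id_eq]
    rw [Subgroup.normalizer_eq_top]
    exact le_top
  | succ m =>
    rw [iter_succ]
    exact Subgroup.normalizer_commutator_ge_right _ _

theorem le_normalizer_sup {G : Type*} [Group G] (X A B : Subgroup G)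
    (hA : ∀ x ∈ X, ∀ a ∈ A, x * a * x⁻¹ ∈ A ⊔ B) (hB : ∀ x ∈ X, ∀ b ∈ B, x * b * x⁻¹ ∈ A ⊔ B) :
    X ≤ Subgroup.normalizer ((A ⊔ B : Subgroup G) : Set G) := by
  rw [Subgroup.sup_eq_closure, Subgroup.le_normalizer_closure_iff]
  intro x hx g hg
  rw [← Subgroup.sup_eq_closure]
  rcases hg with hg | hg
  · exact hA x hx g hg
  · exact hB x hx g hg

/-- A subgroup H of a group G is subnormal exactly when, for some m, the subgroup obtained from G by taking the commutator with H m times in succession is contained in H. -/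
theorem result {G : Type*} [Group G] (H : Subgroup G) : H.IsSubnormal ↔ ∃ m : ℕ, (fun K : Subgroup G => ⁅K, H⁆)^[m] ⊤ ≤ H := by
  constructor
  · intro h
    induction h with
    | top => exact ⟨0, le_top⟩
    | step H K hHK hK hN ih =>
      obtain ⟨m, hm⟩ := ih
      refine ⟨m + 1, ?_⟩
      rw [iter_succ]
      have h1 : (fun X : Subgroup G => ⁅X, H⁆)^[m] ⊤ ≤ K := (iter_mono hHK m).trans hm
      have h2 : K ≤ Subgroup.normalizer (H : Set G) :=
        (Subgroup.normal_subgroupOf_iff_le_normalizer hHK).mp hN
      calc ⁅(fun X : Subgroup G => ⁅X, H⁆)^[m] ⊤, H⁆ ≤ ⁅K, H⁆ := Subgroup.commutator_mono h1 le_rfl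
        _ ≤ H := Subgroup.le_normalizer_iff_commutator_le_right.mp h2
  · rintro ⟨m, hm⟩
    set c : ℕ → Subgroup G := fun i => (fun K : Subgroup G => ⁅K, H⁆)^[i] ⊤ with hc
    have hcs : ∀ i, c (i + 1) = ⁅c i, H⁆ := fun i => iter_succ H i
    have hnorm : ∀ i, H ≤ Subgroup.normalizer ((c i : Subgroup G) : Set G) :=
      fun i => le_normalizer_iter H i
    have hanti : ∀ i, c (i + 1) ≤ c i := by
      intro i
      rw [hcs]
      exact Subgroup.le_normalizer_iff_commutator_le_left.mp (hnorm i)
    have key : ∀ i, (H ⊔ c i).IsSubnormal := by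
      intro i
      induction i with
      | zero =>
        have : H ⊔ c 0 = ⊤ := by simp [hc]
        rw [this]
        exact Subgroup.IsSubnormal.top
      | succ i ih =>
        have hle : H ⊔ c (i + 1) ≤ H ⊔ c i := sup_le_sup_left (hanti i) H
        refine Subgroup.IsSubnormal.step _ _ hle ih ?_
        rw [Subgroup.normal_subgroupOf_iff_le_normalizer hle]
        refine sup_le ?_ ?_
        · apply le_normalizer_sup
          · intro x hx a ha
            exact (le_sup_left : H ≤ H ⊔ c (i + 1)) (H.mul_mem (H.mul_mem hx ha) (H.inv_mem hx))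
          · intro x hx b hb
            exact (le_sup_right : c (i + 1) ≤ H ⊔ c (i + 1))
              ((Subgroup.mem_normalizer_iff.mp (hnorm (i + 1) hx) b).mp hb)
        · apply le_normalizer_sup
          · intro k hk h hh
            have h1 : ⁅k, h⁆ ∈ c (i + 1) := by
              rw [hcs]
              exact Subgroup.commutator_mem_commutator hk hh
            have h2 : k * h * k⁻¹ = ⁅k, h⁆ * h := by
              rw [commutatorElement_def]; group
            rw [h2, sup_comm]
            exact Subgroup.mul_mem_sup h1 hh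
          · intro k hk b hb
            have h1 : c i ≤ Subgroup.normalizer ((c (i + 1) : Subgroup G) : Set G) := by
              rw [hcs]
              exact Subgroup.normalizer_commutator_ge_left _ _
            exact (le_sup_right : c (i + 1) ≤ H ⊔ c (i + 1))
              ((Subgroup.mem_normalizer_iff.mp (h1 hk) b).mp hb)
    have := key m
    rwa [sup_of_le_left hm] at this

end Cfsg.Agent.S0567
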