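import Cfsg.Statements.S0572
import Mathlib

set_option autoImplicit false
open Cfsg
open scoped commutatorElement

namespace Cfsg.Agent.S0572

-- The commutator identities below follow the argument of Cfsg.Agent.S0047 (helper45), reproduced here
-- so that this file is self-contained and does not need finiteness.
section Ito


variable {G : Type*} [Group G]

theorem comm_mul_right (x y z : G) : ⁅x, y * z⁆ = ⁅x, y⁆ * (y * ⁅x, z⁆ * y⁻¹) := by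
  simp only [commutatorElement_def]; group

theorem comm_mul_left (x y z : G) : ⁅x * y, z⁆ = (x * ⁅y, z⁆ * x⁻¹) * ⁅x, z⁆ := by
  simp only [commutatorElement_def]; group

/-- conjugating `⁅a, b⁆` by `a₁` commuting with `a`, where `a₁ b a₁⁻¹ = b₂ a₂` and `a₂` commutes with `a`. -/
theorem conjA (a a₁ a₂ b b₂ : G) (h1 : Commute a₁ a) (h2 : Commute a a₂)
    (h : a₁ * b * a₁⁻¹ = b₂ * a₂) : a₁ * ⁅a, b⁆ * a₁⁻¹ = ⁅a, b₂⁆ := by
  have : a₁ * a * a₁⁻¹ = a := by rw [h1.eq, mul_inv_cancel_right]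
  rw [conjugate_commutatorElement, h, this, comm_mul_right, h2.commutator_eq]
  simp

/-- conjugating `⁅a, b⁆` by `b₁` commuting with `b`, where `b₁ a b₁⁻¹ = a₃ b₃` and `b₃` commutes with `b`. -/
theorem conjB (a a₃ b b₁ b₃ : G) (h1 : Commute b₁ b) (h2 : Commute b₃ b)
    (h : b₁ * a * b₁⁻¹ = a₃ * b₃) : b₁ * ⁅a, b⁆ * b₁⁻¹ = ⁅a₃, b⁆ := by
  have : b₁ * b * b₁⁻¹ = b := by rw [h1.eq, mul_inv_cancel_right]
  rw [conjugate_commutatorElement, h, this, comm_mul_left, h2.commutator_eq]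
  simp

theorem commute_of_conj_eq (u v c : G) (h : u * v * c * v⁻¹ * u⁻¹ = v * u * c * u⁻¹ * v⁻¹) :
    Commute (u⁻¹ * v⁻¹ * u * v) c := by
  show u⁻¹ * v⁻¹ * u * v * c = c * (u⁻¹ * v⁻¹ * u * v)
  calc u⁻¹ * v⁻¹ * u * v * c = u⁻¹ * v⁻¹ * (u * v * c * v⁻¹ * u⁻¹) * u * v := by group
    _ = u⁻¹ * v⁻¹ * (v * u * c * u⁻¹ * v⁻¹) * u * v := by rw [h]
    _ = c * (u⁻¹ * v⁻¹ * u * v) := by group

end Ito

/-- Itô's Theorem: if a group G is the product AB of two abelian subgroups, then the commutator subgroup of G is abelian, i.e. the second term of the derived series is trivial. -/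
theorem result {G : Type*} [Group G] (A B : Subgroup G) [IsMulCommutative A] [IsMulCommutative B] (hAB : ∀ g : G, ∃ a ∈ A, ∃ b ∈ B, g = a * b) : derivedSeries G 2 = ⊥ := by
  have hA : ∀ x ∈ A, ∀ y ∈ A, Commute x y := by
    intro x hx y hy
    exact congrArg Subtype.val (IsMulCommutative.is_comm.comm (⟨x, hx⟩ : A) ⟨y, hy⟩)
  have hB : ∀ x ∈ B, ∀ y ∈ B, Commute x y := by
    intro x hx y hy
    exact congrArg Subtype.val (IsMulCommutative.is_comm.comm (⟨x, hx⟩ : B) ⟨y, hy⟩)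
  have hBA : ∀ g : G, ∃ b ∈ B, ∃ a ∈ A, g = b * a := by
    intro g
    obtain ⟨a, ha, b, hb, h⟩ := hAB g⁻¹
    refine ⟨b⁻¹, B.inv_mem hb, a⁻¹, A.inv_mem ha, ?_⟩
    rw [← mul_inv_rev, ← h, inv_inv]
  -- conjugation formulas
  have hconjA : ∀ a₁ ∈ A, ∀ a ∈ A, ∀ b ∈ B, ∃ b₂ ∈ B, ∀ a' ∈ A, a₁ * ⁅a', b⁆ * a₁⁻¹ = ⁅a', b₂⁆ := by
    intro a₁ ha₁ a _ b hb
    obtain ⟨b₂, hb₂, a₂, ha₂, h⟩ := hBA (a₁ * b * a₁⁻¹)
    exact ⟨b₂, hb₂, fun a' ha' => conjA a' a₁ a₂ b b₂ (hA _ ha₁ _ ha') (hA _ ha' _ ha₂) h⟩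
  have hconjB : ∀ b₁ ∈ B, ∀ a ∈ A, ∃ a₃ ∈ A, ∀ b' ∈ B, b₁ * ⁅a, b'⁆ * b₁⁻¹ = ⁅a₃, b'⁆ := by
    intro b₁ hb₁ a ha
    obtain ⟨a₃, ha₃, b₃, hb₃, h⟩ := hAB (b₁ * a * b₁⁻¹)
    exact ⟨a₃, ha₃, fun b' hb' => conjB a a₃ b' b₁ b₃ (hB _ hb₁ _ hb') (hB _ hb₃ _ hb') h⟩
  -- generators of `⁅A, B⁆` commute pairwise
  have hgen : ∀ a ∈ A, ∀ b ∈ B, ∀ a₁ ∈ A, ∀ b₁ ∈ B, Commute ⁅a₁, b₁⁆ ⁅a, b⁆ := by
    intro a ha b hb a₁ ha₁ b₁ hb₁
    obtain ⟨b₂, hb₂, hb₂'⟩ := hconjA a₁⁻¹ (A.inv_mem ha₁) a ha b hb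
    obtain ⟨a₃, ha₃, ha₃'⟩ := hconjB b₁⁻¹ (B.inv_mem hb₁) a ha
    have h1 : a₁⁻¹ * b₁⁻¹ * ⁅a, b⁆ * b₁⁻¹⁻¹ * a₁⁻¹⁻¹ = ⁅a₃, b₂⁆ := by
      have e1 := ha₃' b hb
      have e2 := hb₂' a₃ ha₃
      calc a₁⁻¹ * b₁⁻¹ * ⁅a, b⁆ * b₁⁻¹⁻¹ * a₁⁻¹⁻¹
          = a₁⁻¹ * (b₁⁻¹ * ⁅a, b⁆ * b₁⁻¹⁻¹) * a₁⁻¹⁻¹ := by group
        _ = ⁅a₃, b₂⁆ := by rw [e1, e2]
    have h2 : b₁⁻¹ * a₁⁻¹ * ⁅a, b⁆ * a₁⁻¹⁻¹ * b₁⁻¹⁻¹ = ⁅a₃, b₂⁆ := by
      have e1 := hb₂' a ha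
      have e2 := ha₃' b₂ hb₂
      calc b₁⁻¹ * a₁⁻¹ * ⁅a, b⁆ * a₁⁻¹⁻¹ * b₁⁻¹⁻¹
          = b₁⁻¹ * (a₁⁻¹ * ⁅a, b⁆ * a₁⁻¹⁻¹) * b₁⁻¹⁻¹ := by group
        _ = ⁅a₃, b₂⁆ := by rw [e1, e2]
    have := commute_of_conj_eq a₁⁻¹ b₁⁻¹ ⁅a, b⁆ (h1.trans h2.symm)
    simpa [commutatorElement_def] using this
  set N : Subgroup G := ⁅A, B⁆ with hN
  -- `N` is abelian
  have hNcomm : ∀ x y : N, x * y = y * x := by
    have hle : N ≤ Subgroup.centralizer (N : Set G) := by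
      rw [hN, Subgroup.commutator_def, Subgroup.centralizer_closure, Subgroup.closure_le]
      rintro _ ⟨a₁, ha₁, b₁, hb₁, rfl⟩
      rw [SetLike.mem_coe, Subgroup.mem_centralizer_iff]
      rintro _ ⟨a, ha, b, hb, rfl⟩
      exact ((hgen a ha b hb a₁ ha₁ b₁ hb₁).eq).symm
    intro x y
    apply Subtype.ext
    exact ((Subgroup.mem_centralizer_iff.mp (hle x.2)) y y.2).symm
  -- `N` is normal
  have hNA : ∀ a₁ ∈ A, ∀ n ∈ N, a₁ * n * a₁⁻¹ ∈ N := by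
    intro a₁ ha₁ n hn
    have : N.map (MulAut.conj a₁).toMonoidHom ≤ N := by
      rw [hN, Subgroup.commutator_def, MonoidHom.map_closure, Subgroup.closure_le]
      rintro _ ⟨_, ⟨a, ha, b, hb, rfl⟩, rfl⟩
      obtain ⟨b₂, hb₂, hb₂'⟩ := hconjA a₁ ha₁ a ha b hb
      show a₁ * ⁅a, b⁆ * a₁⁻¹ ∈ _
      rw [hb₂' a ha]
      exact Subgroup.subset_closure ⟨a, ha, b₂, hb₂, rfl⟩
    exact this ⟨n, hn, rfl⟩
  have hNB : ∀ b₁ ∈ B, ∀ n ∈ N, b₁ * n * b₁⁻¹ ∈ N := by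
    intro b₁ hb₁ n hn
    have : N.map (MulAut.conj b₁).toMonoidHom ≤ N := by
      rw [hN, Subgroup.commutator_def, MonoidHom.map_closure, Subgroup.closure_le]
      rintro _ ⟨_, ⟨a, ha, b, hb, rfl⟩, rfl⟩
      obtain ⟨a₃, ha₃, ha₃'⟩ := hconjB b₁ hb₁ a ha
      show b₁ * ⁅a, b⁆ * b₁⁻¹ ∈ _
      rw [ha₃' b hb]
      exact Subgroup.subset_closure ⟨a₃, ha₃, b, hb, rfl⟩
    exact this ⟨n, hn, rfl⟩
  have hNn : N.Normal := by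
    refine ⟨fun n hn g => ?_⟩
    obtain ⟨a, ha, b, hb, rfl⟩ := hAB g
    have := hNA a ha _ (hNB b hb n hn)
    have e : a * b * n * (a * b)⁻¹ = a * (b * n * b⁻¹) * a⁻¹ := by group
    rw [e]; exact this
  -- the quotient is abelian
  have hQcomm : ∀ x y : G ⧸ N, x * y = y * x := by
    have hab : ∀ a ∈ A, ∀ b ∈ B, (QuotientGroup.mk' N a) * (QuotientGroup.mk' N b) =
        (QuotientGroup.mk' N b) * (QuotientGroup.mk' N a) := by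
      intro a ha b hb
      have hmem : ⁅a, b⁆ ∈ N := Subgroup.commutator_mem_commutator ha hb
      have h1 : QuotientGroup.mk' N ⁅a, b⁆ = 1 := (QuotientGroup.eq_one_iff _).mpr hmem
      rw [map_commutatorElement, commutatorElement_eq_one_iff_commute] at h1
      exact h1.eq
    intro x y
    obtain ⟨g₁, rfl⟩ := QuotientGroup.mk'_surjective N x
    obtain ⟨g₂, rfl⟩ := QuotientGroup.mk'_surjective N y
    obtain ⟨a₁, ha₁, b₁, hb₁, rfl⟩ := hAB g₁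
    obtain ⟨a₂, ha₂, b₂, hb₂, rfl⟩ := hAB g₂
    have haa : (QuotientGroup.mk' N a₁) * (QuotientGroup.mk' N a₂) =
        (QuotientGroup.mk' N a₂) * (QuotientGroup.mk' N a₁) := by
      rw [← map_mul, ← map_mul, (hA _ ha₁ _ ha₂).eq]
    have hbb : (QuotientGroup.mk' N b₁) * (QuotientGroup.mk' N b₂) =
        (QuotientGroup.mk' N b₂) * (QuotientGroup.mk' N b₁) := by
      rw [← map_mul, ← map_mul, (hB _ hb₁ _ hb₂).eq]
    have h12 := hab a₁ ha₁ b₂ hb₂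
    have h21 := hab a₂ ha₂ b₁ hb₁
    rw [map_mul, map_mul]
    set α₁ := QuotientGroup.mk' N a₁
    set α₂ := QuotientGroup.mk' N a₂
    set β₁ := QuotientGroup.mk' N b₁
    set β₂ := QuotientGroup.mk' N b₂
    calc α₁ * β₁ * (α₂ * β₂) = α₁ * (β₁ * α₂) * β₂ := by group
      _ = α₁ * (α₂ * β₁) * β₂ := by rw [h21]
      _ = (α₁ * α₂) * (β₁ * β₂) := by group
      _ = (α₂ * α₁) * (β₂ * β₁) := by rw [haa, hbb]
      _ = α₂ * (α₁ * β₂) * β₁ := by group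
      _ = α₂ * (β₂ * α₁) * β₁ := by rw [h12]
      _ = α₂ * β₂ * (α₁ * β₁) := by group
  -- commutator subgroup lies in N
  have hGN : derivedSeries G 1 ≤ N := by
    rw [derivedSeries_succ, derivedSeries_zero, Subgroup.commutator_le]
    intro g _ h _
    have h1 : QuotientGroup.mk' N ⁅g, h⁆ = 1 := by
      rw [map_commutatorElement, commutatorElement_eq_one_iff_commute]
      exact hQcomm _ _
    exact (QuotientGroup.eq_one_iff _).mp h1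
  have hNN : ⁅N, N⁆ = ⊥ := by
    rw [Subgroup.commutator_eq_bot_iff_le_centralizer]
    intro x hx y hy
    exact congrArg Subtype.val (hNcomm ⟨y, hy⟩ ⟨x, hx⟩)
  rw [derivedSeries_succ, eq_bot_iff, ← hNN]
  exact Subgroup.commutator_mono hGN hGN

end Cfsg.Agent.S0572
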