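import Mathlib
import Cfsg.Statements.S0573
import Cfsg.Agent.S0551
import Cfsg.Agent.S0560
import Cfsg.Agent.S0572
import Cfsg.Agent.Lib.Helper9.PGroupLemmas

set_option autoImplicit false
open Cfsg

namespace Cfsg.Agent.S0573

open Pointwise
open scoped commutatorElement

section basic

variable {G : Type*} [Group G] (A B : Subgroup G)

/-- An element commuting with all of `A` and all of `B` is central when `G = AB`. -/
theorem mem_center_of_commute (hAB : ∀ g : G, ∃ a ∈ A, ∃ b ∈ B, g = a * b) (z : G)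
    (h1 : ∀ a ∈ A, a * z = z * a) (h2 : ∀ b ∈ B, b * z = z * b) : z ∈ Subgroup.center G := by
  rw [Subgroup.mem_center_iff]
  intro g
  obtain ⟨a, ha, b, hb, rfl⟩ := hAB g
  rw [mul_assoc, h2 b hb, ← mul_assoc, h1 a ha, mul_assoc]

theorem zpowers_normal_of_mem_center (z : G) (hz : z ∈ Subgroup.center G) :
    (Subgroup.zpowers z).Normal := by
  constructor
  intro x hx g
  obtain ⟨k, rfl⟩ := Subgroup.mem_zpowers_iff.mp hx
  have : g * z ^ k * g⁻¹ = z ^ k := by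
    have h1 : z ^ k ∈ Subgroup.center G := Subgroup.zpow_mem _ hz k
    rw [Subgroup.mem_center_iff] at h1
    rw [h1 g, mul_inv_cancel_right]
  rw [this]
  exact Subgroup.zpow_mem_zpowers z k

variable (hA : ∀ x ∈ A, ∀ y ∈ A, x * y = y * x) (hB : ∀ x ∈ B, ∀ y ∈ B, x * y = y * x)
  (hAB : ∀ g : G, ∃ a ∈ A, ∃ b ∈ B, g = a * b)
  (H0 : ∀ M : Subgroup G, M.Normal → (M ≤ A ∨ M ≤ B) → M = ⊥)

include hA hB hAB H0

theorem center_trivial (z : G) (hz : z ∈ Subgroup.center G) : z = 1 := by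
  obtain ⟨a, ha, b, hb, rfl⟩ := hAB z
  have hzc := Subgroup.mem_center_iff.mp hz
  -- a is central
  have hac : a ∈ Subgroup.center G := by
    apply mem_center_of_commute A B hAB
    · intro a' ha'; exact hA a' ha' a ha
    · intro b' hb'
      -- a = z * b⁻¹
      have e : a = (a * b) * b⁻¹ := by group
      have hc := hB b' hb' b⁻¹ (B.inv_mem hb)
      calc b' * a = b' * ((a * b) * b⁻¹) := by rw [← e]
        _ = (b' * (a * b)) * b⁻¹ := by group
        _ = ((a * b) * b') * b⁻¹ := by rw [hzc b']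
        _ = (a * b) * (b' * b⁻¹) := by group
        _ = (a * b) * (b⁻¹ * b') := by rw [hc]
        _ = a * b' := by group
  have hbc : b ∈ Subgroup.center G := by
    have : b = a⁻¹ * (a * b) := by group
    rw [this]
    exact Subgroup.mul_mem _ (Subgroup.inv_mem _ hac) hz
  have ha1 : a = 1 := by
    have := H0 (Subgroup.zpowers a) (zpowers_normal_of_mem_center a hac)
      (Or.inl (by rw [Subgroup.zpowers_le]; exact ha))
    rwa [Subgroup.zpowers_eq_bot] at this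
  have hb1 : b = 1 := by
    have := H0 (Subgroup.zpowers b) (zpowers_normal_of_mem_center b hbc)
      (Or.inr (by rw [Subgroup.zpowers_le]; exact hb))
    rwa [Subgroup.zpowers_eq_bot] at this
  rw [ha1, hb1, one_mul]

theorem inf_trivial (x : G) (hxA : x ∈ A) (hxB : x ∈ B) : x = 1 := by
  apply center_trivial A B hA hB hAB H0
  apply mem_center_of_commute A B hAB
  · intro a ha; exact hA a ha x hxA
  · intro b hb; exact hB b hb x hxB

theorem factor_unique (a a' b b' : G) (ha : a ∈ A) (ha' : a' ∈ A) (hb : b ∈ B) (hb' : b' ∈ B)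
    (h : a * b = a' * b') : a = a' ∧ b = b' := by
  have h1 : a'⁻¹ * a = b' * b⁻¹ := by
    have : a'⁻¹ * a = a'⁻¹ * (a * b) * b⁻¹ := by group
    rw [this, h]; group
  have h2 : a'⁻¹ * a = 1 :=
    inf_trivial A B hA hB hAB H0 _ (A.mul_mem (A.inv_mem ha') ha)
      (h1 ▸ B.mul_mem hb' (B.inv_mem hb))
  have h3 : a = a' := by
    have : a = a' * (a'⁻¹ * a) := by group
    rw [this, h2, mul_one]
  refine ⟨h3, ?_⟩
  subst h3
  exact mul_left_cancel h

end basic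

section minimal

variable {G : Type*} [Group G] (A B : Subgroup G)
  (hA : ∀ x ∈ A, ∀ y ∈ A, x * y = y * x) (hB : ∀ x ∈ B, ∀ y ∈ B, x * y = y * x)
  (hAB : ∀ g : G, ∃ a ∈ A, ∃ b ∈ B, g = a * b)
  (H0 : ∀ M : Subgroup G, M.Normal → (M ≤ A ∨ M ≤ B) → M = ⊥)
  (N : Subgroup G) [hNn : N.Normal]
  (hNmin : ∀ K : Subgroup G, K.Normal → K ≤ N → K = ⊥ ∨ K = N)
  (hNG' : N ≤ commutator G)
  (hG'comm : ∀ x ∈ commutator G, ∀ y ∈ commutator G, x * y = y * x)

theorem swap_factor (hAB : ∀ g : G, ∃ a ∈ A, ∃ b ∈ B, g = a * b) :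
    ∀ g : G, ∃ b ∈ B, ∃ a ∈ A, g = b * a := by
  intro g
  obtain ⟨a, ha, b, hb, h⟩ := hAB g⁻¹
  refine ⟨b⁻¹, B.inv_mem hb, a⁻¹, A.inv_mem ha, ?_⟩
  rw [← mul_inv_rev, ← h, inv_inv]

include hNG' hG'comm in
theorem commutator_le_centralizer :
    commutator G ≤ Subgroup.centralizer (N : Set G) := by
  intro c hc
  rw [Subgroup.mem_centralizer_iff]
  intro n hn
  exact hG'comm n (hNG' hn) c hc

include hNmin hNG' hG'comm in
/-- Elements outside `C_G(N)` act fixed-point-freely on `N`. -/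
theorem fpf (g : G) (hg : g ∉ Subgroup.centralizer (N : Set G)) (n : G) (hn : n ∈ N)
    (hgn : g * n = n * g) : n = 1 := by
  have hG'C := commutator_le_centralizer N hNG' hG'comm
  let K : Subgroup G := N ⊓ Subgroup.centralizer ({g} : Set G)
  have hKmem : ∀ m : G, m ∈ K ↔ m ∈ N ∧ m * g = g * m := by
    intro m
    rw [Subgroup.mem_inf, Subgroup.mem_centralizer_singleton_iff]
  have hKn : K.Normal := by
    constructor
    intro m hm h
    rw [hKmem] at hm ⊢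
    obtain ⟨hmN, hmz⟩ := hm
    refine ⟨hNn.conj_mem m hmN h, ?_⟩
    -- c = g⁻¹ h⁻¹ g h ∈ G' commutes with m
    have hc : ⁅g⁻¹, h⁻¹⁆ ∈ commutator G :=
      Subgroup.commutator_mem_commutator (Subgroup.mem_top _) (Subgroup.mem_top _)
    have hcm := (Subgroup.mem_centralizer_iff.mp (hG'C hc)) m hmN
    rw [commutatorElement_def] at hcm
    simp only [inv_inv] at hcm
    -- hcm : m * (g⁻¹ * h⁻¹ * g * h) = g⁻¹ * h⁻¹ * g * h * m
    symm
    calc g * (h * m * h⁻¹)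
        = h * (g * ((g⁻¹ * h⁻¹ * g * h) * m)) * h⁻¹ := by group
      _ = h * (g * (m * (g⁻¹ * h⁻¹ * g * h))) * h⁻¹ := by rw [← hcm]
      _ = h * ((g * m) * (g⁻¹ * h⁻¹ * g * h)) * h⁻¹ := by group
      _ = h * ((m * g) * (g⁻¹ * h⁻¹ * g * h)) * h⁻¹ := by rw [hmz]
      _ = h * m * h⁻¹ * g := by group
  rcases hNmin K hKn inf_le_left with hK | hK
  · have : n ∈ K := by
      rw [hKmem]
      exact ⟨hn, hgn.symm⟩
    rw [hK, Subgroup.mem_bot] at this
    exact this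
  · exfalso
    apply hg
    rw [Subgroup.mem_centralizer_iff]
    intro m hm
    have : m ∈ K := by rw [hK]; exact hm
    rw [hKmem] at this
    exact this.2

include hA hB hAB H0 in
/-- If `A` centralizes the normal subgroup `N`, then `N ≤ A`. -/
theorem le_of_le_centralizer (hAC : A ≤ Subgroup.centralizer (N : Set G)) : N ≤ A := by
  intro n hn
  obtain ⟨a, ha, b, hb, hnab⟩ := hAB n
  have hb1 : b = 1 := by
    apply center_trivial A B hA hB hAB H0
    apply mem_center_of_commute A B hAB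
    · intro a' ha'
      -- b = a⁻¹ * n
      have e : b = a⁻¹ * n := by rw [hnab]; group
      have h1 : a' * n = n * a' := ((Subgroup.mem_centralizer_iff.mp (hAC ha')) n hn).symm
      have h2 : a' * a⁻¹ = a⁻¹ * a' := hA a' ha' a⁻¹ (A.inv_mem ha)
      calc a' * b = (a' * a⁻¹) * n := by rw [e]; group
        _ = a⁻¹ * (a' * n) := by rw [h2]; group
        _ = a⁻¹ * (n * a') := by rw [h1]
        _ = b * a' := by rw [e]; group
    · intro b' hb'; exact hB b' hb' b hb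
  rw [hnab, hb1, mul_one]; exact ha

include hA hB hAB H0 in
theorem not_le_centralizer (hNne : N ≠ ⊥) : ¬ A ≤ Subgroup.centralizer (N : Set G) := by
  intro hAC
  exact hNne (H0 N hNn (Or.inl (le_of_le_centralizer A B hA hB hAB H0 N hAC)))

include hA hB hAB H0 hNmin hNG' hG'comm in
theorem inf_N_trivial (hNne : N ≠ ⊥) (m : G) (hmA : m ∈ A) (hmN : m ∈ N) : m = 1 := by
  by_contra hm1
  apply not_le_centralizer A B hA hB hAB H0 N hNne
  intro a ha
  by_contra haC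
  exact hm1 (fpf N hNmin hNG' hG'comm a haC m hmN (hA a ha m hmA))

include hNmin hNG' hG'comm in
/-- `p`-elements centralize the minimal normal `p`-subgroup `N`. -/
theorem pelem_mem_centralizer [Finite G] {p : ℕ} [Fact p.Prime] (hNp : IsPGroup p N)
    (hNne : N ≠ ⊥) (g : G) (hg : ∃ k : ℕ, g ^ p ^ k = 1) :
    g ∈ Subgroup.centralizer (N : Set G) := by
  by_contra hgC
  obtain ⟨k, hk⟩ := hg
  have hZ : IsPGroup p (Subgroup.zpowers g) := by
    rintro ⟨x, hx⟩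
    obtain ⟨i, rfl⟩ := Subgroup.mem_zpowers_iff.mp hx
    refine ⟨k, Subtype.ext ?_⟩
    simp only [Subgroup.coe_pow, Subgroup.coe_one]
    rw [← zpow_natCast, ← zpow_mul, mul_comm, zpow_mul, zpow_natCast, hk, one_zpow]
  set K : Subgroup G := N ⊔ Subgroup.zpowers g with hK
  have hKp : IsPGroup p K := IsPGroup.to_sup_of_normal_left hNp hZ
  have hNK : N ≤ K := le_sup_left
  have hgK : g ∈ K := (le_sup_right : Subgroup.zpowers g ≤ K) (Subgroup.mem_zpowers g)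
  have hN'ne : N.subgroupOf K ≠ ⊥ := by
    intro h
    rw [Subgroup.subgroupOf_eq_bot] at h
    exact hNne (eq_bot_iff.mpr (h le_rfl hNK))
  obtain ⟨z, hzN, hz1, hzc⟩ :=
    Cfsg.Agent.Lib.Helper9.exists_ne_one_mem_center_of_normal hKp (N.subgroupOf K) hN'ne
  rw [Subgroup.mem_subgroupOf] at hzN
  have hcomm := (Subgroup.mem_center_iff.mp hzc) ⟨g, hgK⟩
  have hcomm' : g * (z : G) = (z : G) * g := congrArg Subtype.val hcomm
  have := fpf N hNmin hNG' hG'comm g hgC (z : G) hzN hcomm'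
  exact hz1 (Subtype.ext this)

end minimal

/-- If a nontrivial finite group G is the product AB of abelian subgroups A and B, then some nontrivial normal subgroup of G is contained in A or in B. -/
theorem result {G : Type*} [Group G] [Finite G] [Nontrivial G] (A B : Subgroup G) [IsMulCommutative A] [IsMulCommutative B] (hAB : ∀ g : G, ∃ a ∈ A, ∃ b ∈ B, g = a * b) : ∃ N : Subgroup G, N.Normal ∧ N ≠ ⊥ ∧ (N ≤ A ∨ N ≤ B) := by
  by_contra hcon
  have H0 : ∀ M : Subgroup G, M.Normal → (M ≤ A ∨ M ≤ B) → M = ⊥ := by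
    intro M hM h
    by_contra hne
    exact hcon ⟨M, hM, hne, h⟩
  have H0' : ∀ M : Subgroup G, M.Normal → (M ≤ B ∨ M ≤ A) → M = ⊥ :=
    fun M hM h => H0 M hM h.symm
  have hA : ∀ x ∈ A, ∀ y ∈ A, x * y = y * x := by
    intro x hx y hy
    exact congrArg Subtype.val (IsMulCommutative.is_comm.comm (⟨x, hx⟩ : A) ⟨y, hy⟩)
  have hB : ∀ x ∈ B, ∀ y ∈ B, x * y = y * x := by
    intro x hx y hy
    exact congrArg Subtype.val (IsMulCommutative.is_comm.comm (⟨x, hx⟩ : B) ⟨y, hy⟩)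
  have hBA := swap_factor A B hAB
  have hmeta : derivedSeries G 2 = ⊥ := Cfsg.Agent.S0572.result A B hAB
  have hG'comm : ∀ x ∈ commutator G, ∀ y ∈ commutator G, x * y = y * x := by
    intro x hx y hy
    have : ⁅x, y⁆ ∈ derivedSeries G 2 := by
      rw [derivedSeries_succ, derivedSeries_one]
      exact Subgroup.commutator_mem_commutator hx hy
    rw [hmeta, Subgroup.mem_bot, commutatorElement_eq_one_iff_mul_comm] at this
    exact this
  haveI : Group.IsSolvable G := ⟨⟨2, hmeta⟩⟩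
  have hG'ne : commutator G ≠ ⊥ := by
    intro h
    obtain ⟨g, hg⟩ := exists_ne (1 : G)
    apply hg
    apply center_trivial A B hA hB hAB H0
    rw [Subgroup.mem_center_iff]
    intro x
    have : ⁅x, g⁆ ∈ commutator G :=
      Subgroup.commutator_mem_commutator (Subgroup.mem_top _) (Subgroup.mem_top _)
    rw [h, Subgroup.mem_bot, commutatorElement_eq_one_iff_mul_comm] at this
    exact this
  obtain ⟨N, hNn, hNne, hNG', hNmin⟩ :=
    Cfsg.Agent.S0551.exists_minimal_normal (commutator G) hG'ne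
  haveI := hNn
  obtain ⟨-, p, hp, hNp⟩ := Cfsg.Agent.S0551.minimal_normal_solvable N hNne hNmin
  haveI : Fact p.Prime := ⟨hp⟩
  set C := Subgroup.centralizer (N : Set G) with hC
  have hG'C : commutator G ≤ C := commutator_le_centralizer N hNG' hG'comm
  have hfpf := fpf N hNmin hNG' hG'comm
  have hAC : ¬ A ≤ C := not_le_centralizer A B hA hB hAB H0 N hNne
  have hBC : ¬ B ≤ C := not_le_centralizer B A hB hA hBA H0' N hNne
  have hAN : ∀ m ∈ A, m ∈ N → m = 1 :=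
    inf_N_trivial A B hA hB hAB H0 N hNmin hNG' hG'comm hNne
  have hBN : ∀ m ∈ B, m ∈ N → m = 1 :=
    inf_N_trivial B A hB hA hBA H0' N hNmin hNG' hG'comm hNne
  have hpC : ∀ g : G, (∃ k : ℕ, g ^ p ^ k = 1) → g ∈ C :=
    pelem_mem_centralizer N hNmin hNG' hG'comm hNp hNne
  obtain ⟨P₀, Q₀, R, hR⟩ := Cfsg.Agent.S0560.result A B hAB p
  have hNR : N ≤ R := hNp.le_sylow_of_normal R
  have hRfac : ∀ r ∈ (R : Subgroup G), ∃ a ∈ A, ∃ b ∈ B, a ∈ C ∧ b ∈ C ∧ r = a * b := by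
    intro r hr
    have hr' : r ∈ ((R : Subgroup G) : Set G) := hr
    rw [hR] at hr'
    obtain ⟨a', ha', b', hb', e⟩ := hr'
    obtain ⟨⟨a, haA⟩, haP, rfl⟩ := ha'
    obtain ⟨⟨b, hbB⟩, hbQ, rfl⟩ := hb'
    refine ⟨a, haA, b, hbB, ?_, ?_, e.symm⟩
    · apply hpC
      obtain ⟨k, hk⟩ := P₀.2 ⟨⟨a, haA⟩, haP⟩
      refine ⟨k, ?_⟩
      have := congrArg (fun x : (P₀ : Subgroup A) => ((x : A) : G)) hk
      simpa using this
    · apply hpC
      obtain ⟨k, hk⟩ := Q₀.2 ⟨⟨b, hbB⟩, hbQ⟩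
      refine ⟨k, ?_⟩
      have := congrArg (fun x : (Q₀ : Subgroup B) => ((x : B) : G)) hk
      simpa using this
  have hF1 : ∀ n ∈ N, ∀ a ∈ A, ∀ b ∈ B, n = a * b → a ∈ C ∧ b ∈ C := by
    intro n hn a ha b hb hnab
    obtain ⟨a', ha', b', hb', ha'C, hb'C, e⟩ := hRfac n (hNR hn)
    obtain ⟨rfl, rfl⟩ := factor_unique A B hA hB hAB H0 a a' b b' ha ha' hb hb' (hnab.symm.trans e)
    exact ⟨ha'C, hb'C⟩
  -- the subgroups A₁, B₁ and X
  set A₁ : Subgroup G := A ⊓ (N ⊔ B) with hA₁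
  set B₁ : Subgroup G := B ⊓ (N ⊔ A) with hB₁
  have hA₁A : A₁ ≤ A := inf_le_left
  have hB₁B : B₁ ≤ B := inf_le_left
  have hA₁C : A₁ ≤ C := by
    intro a₁ ha₁
    obtain ⟨ha₁A, ha₁NB⟩ := Subgroup.mem_inf.mp ha₁
    rw [Subgroup.mem_sup_of_normal_left] at ha₁NB
    obtain ⟨n, hn, b, hb, e⟩ := ha₁NB
    have : n = a₁ * b⁻¹ := by rw [← e]; group
    exact (hF1 n hn a₁ ha₁A b⁻¹ (B.inv_mem hb) this).1
  have hB₁C : B₁ ≤ C := by
    intro b₁ hb₁
    obtain ⟨hb₁B, hb₁NA⟩ := Subgroup.mem_inf.mp hb₁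
    rw [Subgroup.mem_sup_of_normal_left] at hb₁NA
    obtain ⟨n, hn, a, ha, e⟩ := hb₁NA
    have : n⁻¹ = a * b₁⁻¹ := by rw [← e]; group
    have h2 := (hF1 n⁻¹ (N.inv_mem hn) a ha b₁⁻¹ (B.inv_mem hb₁B) this).2
    simpa using C.inv_mem h2
  have hXeq : N ⊔ A₁ = N ⊔ B₁ := by
    apply le_antisymm
    · apply sup_le le_sup_left
      intro a₁ ha₁
      obtain ⟨ha₁A, ha₁NB⟩ := Subgroup.mem_inf.mp ha₁
      rw [Subgroup.mem_sup_of_normal_left] at ha₁NB ⊢
      obtain ⟨n, hn, b, hb, e⟩ := ha₁NB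
      refine ⟨n, hn, b, Subgroup.mem_inf.mpr ⟨hb, ?_⟩, e⟩
      rw [Subgroup.mem_sup_of_normal_left]
      exact ⟨n⁻¹, N.inv_mem hn, a₁, ha₁A, by rw [← e]; group⟩
    · apply sup_le le_sup_left
      intro b₁ hb₁
      obtain ⟨hb₁B, hb₁NA⟩ := Subgroup.mem_inf.mp hb₁
      rw [Subgroup.mem_sup_of_normal_left] at hb₁NA ⊢
      obtain ⟨n, hn, a, ha, e⟩ := hb₁NA
      refine ⟨n, hn, a, Subgroup.mem_inf.mpr ⟨ha, ?_⟩, e⟩
      rw [Subgroup.mem_sup_of_normal_left]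
      exact ⟨n⁻¹, N.inv_mem hn, b₁, hb₁B, by rw [← e]; group⟩
  set X : Subgroup G := N ⊔ A₁ with hX
  have hNX : N ≤ X := le_sup_left
  have hXA : ∀ x ∈ X, ∃ n ∈ N, ∃ a₁ ∈ A₁, n * a₁ = x := by
    intro x hx
    have hx' : x ∈ N ⊔ A₁ := hx
    rw [Subgroup.mem_sup_of_normal_left] at hx'
    exact hx'
  have hXB : ∀ x ∈ X, ∃ n ∈ N, ∃ b₁ ∈ B₁, n * b₁ = x := by
    intro x hx
    have hx' : x ∈ N ⊔ B₁ := hXeq ▸ hx
    rw [Subgroup.mem_sup_of_normal_left] at hx'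
    exact hx'
  have hconjA : ∀ a ∈ A, ∀ x ∈ X, a * x * a⁻¹ ∈ X ∧ a * x * a⁻¹ * x⁻¹ ∈ N := by
    intro a ha x hx
    obtain ⟨n, hn, a₁, ha₁, rfl⟩ := hXA x hx
    have hc : a * a₁ = a₁ * a := hA a ha a₁ (hA₁A ha₁)
    have e1 : a * (n * a₁) * a⁻¹ = (a * n * a⁻¹) * a₁ := by
      calc a * (n * a₁) * a⁻¹ = (a * n * a⁻¹) * (a * a₁) * a⁻¹ := by group
        _ = (a * n * a⁻¹) * (a₁ * a) * a⁻¹ := by rw [hc]
        _ = (a * n * a⁻¹) * a₁ := by group
    have hn' : a * n * a⁻¹ ∈ N := hNn.conj_mem n hn a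
    constructor
    · rw [e1]
      show _ ∈ N ⊔ A₁
      rw [Subgroup.mem_sup_of_normal_left]
      exact ⟨_, hn', a₁, ha₁, rfl⟩
    · rw [e1]
      have : a * n * a⁻¹ * a₁ * (n * a₁)⁻¹ = (a * n * a⁻¹) * n⁻¹ := by group
      rw [this]
      exact N.mul_mem hn' (N.inv_mem hn)
  have hconjB : ∀ b ∈ B, ∀ x ∈ X, b * x * b⁻¹ ∈ X ∧ b * x * b⁻¹ * x⁻¹ ∈ N := by
    intro b hb x hx
    obtain ⟨n, hn, b₁, hb₁, rfl⟩ := hXB x hx
    have hc : b * b₁ = b₁ * b := hB b hb b₁ (hB₁B hb₁)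
    have e1 : b * (n * b₁) * b⁻¹ = (b * n * b⁻¹) * b₁ := by
      calc b * (n * b₁) * b⁻¹ = (b * n * b⁻¹) * (b * b₁) * b⁻¹ := by group
        _ = (b * n * b⁻¹) * (b₁ * b) * b⁻¹ := by rw [hc]
        _ = (b * n * b⁻¹) * b₁ := by group
    have hn' : b * n * b⁻¹ ∈ N := hNn.conj_mem n hn b
    constructor
    · rw [e1, hXeq, Subgroup.mem_sup_of_normal_left]
      exact ⟨_, hn', b₁, hb₁, rfl⟩
    · rw [e1]
      have : b * n * b⁻¹ * b₁ * (n * b₁)⁻¹ = (b * n * b⁻¹) * n⁻¹ := by group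
      rw [this]
      exact N.mul_mem hn' (N.inv_mem hn)
  have hconjG : ∀ g : G, ∀ x ∈ X, g * x * g⁻¹ ∈ X ∧ g * x * g⁻¹ * x⁻¹ ∈ N := by
    intro g x hx
    obtain ⟨a, ha, b, hb, rfl⟩ := hAB g
    obtain ⟨h1, h2⟩ := hconjB b hb x hx
    obtain ⟨h3, h4⟩ := hconjA a ha _ h1
    obtain ⟨-, h5⟩ := hconjA a ha x hx
    constructor
    · have : a * b * x * (a * b)⁻¹ = a * (b * x * b⁻¹) * a⁻¹ := by group
      rw [this]; exact h3
    · have : a * b * x * (a * b)⁻¹ * x⁻¹ =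
          (a * (b * x * b⁻¹ * x⁻¹) * a⁻¹) * (a * x * a⁻¹ * x⁻¹) := by group
      rw [this]
      exact N.mul_mem (hNn.conj_mem _ h2 a) h5
  haveI hXn : X.Normal := ⟨fun x hx g => (hconjG g x hx).1⟩
  set T : Subgroup G := Subgroup.centralizer (X : Set G) with hT
  haveI hTn : T.Normal := Subgroup.normal_centralizer
  have hACT : ∀ a ∈ A, a ∈ C → a ∈ T := by
    intro a ha haC
    rw [hT, Subgroup.mem_centralizer_iff]
    intro x hx
    obtain ⟨n, hn, a₁, ha₁, rfl⟩ := hXA x hx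
    have h1 : n * a = a * n := (Subgroup.mem_centralizer_iff.mp haC) n hn
    have h2 : a₁ * a = a * a₁ := hA a₁ (hA₁A ha₁) a ha
    calc n * a₁ * a = n * (a₁ * a) := by group
      _ = n * (a * a₁) := by rw [h2]
      _ = (n * a) * a₁ := by group
      _ = (a * n) * a₁ := by rw [h1]
      _ = a * (n * a₁) := by group
  have hBCT : ∀ b ∈ B, b ∈ C → b ∈ T := by
    intro b hb hbC
    rw [hT, Subgroup.mem_centralizer_iff]
    intro x hx
    obtain ⟨n, hn, b₁, hb₁, rfl⟩ := hXB x hx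
    have h1 : n * b = b * n := (Subgroup.mem_centralizer_iff.mp hbC) n hn
    have h2 : b₁ * b = b * b₁ := hB b₁ (hB₁B hb₁) b hb
    calc n * b₁ * b = n * (b₁ * b) := by group
      _ = n * (b * b₁) := by rw [h2]
      _ = (n * b) * b₁ := by group
      _ = (b * n) * b₁ := by rw [h1]
      _ = b * (n * b₁) := by group
  have hRT : (R : Subgroup G) ≤ T := by
    intro r hr
    obtain ⟨a, ha, b, hb, haC, hbC, rfl⟩ := hRfac r hr
    exact T.mul_mem (hACT a ha haC) (hBCT b hb hbC)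
  have hTidx : ¬ p ∣ T.index := fun hd =>
    R.not_dvd_index (hd.trans (Subgroup.index_dvd_of_le hRT))
  have hCT : C ≤ T := by
    intro c hc
    -- c ^ card N ∈ T
    have hpow : c ^ Nat.card N ∈ T := by
      rw [hT, Subgroup.mem_centralizer_iff]
      intro x hx
      set y := c * x * c⁻¹ * x⁻¹ with hy
      have hyN : y ∈ N := (hconjG c x hx).2
      have hcy : y * c = c * y := (Subgroup.mem_centralizer_iff.mp hc) y hyN
      have hiter : ∀ j : ℕ, c ^ j * x = y ^ j * x * c ^ j := by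
        intro j
        induction j with
        | zero => simp
        | succ j ih =>
          have hcyj : c * y ^ j = y ^ j * c := by
            have : Commute c y := hcy.symm
            exact (this.pow_right j).eq
          calc c ^ (j + 1) * x = c * (c ^ j * x) := by rw [pow_succ']; group
            _ = c * (y ^ j * x * c ^ j) := by rw [ih]
            _ = (c * y ^ j) * x * c ^ j := by group
            _ = (y ^ j * c) * x * c ^ j := by rw [hcyj]
            _ = y ^ j * (c * x * c⁻¹ * x⁻¹) * x * c * c ^ j := by group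
            _ = y ^ j * y * x * (c * c ^ j) := by rw [← hy]; group
            _ = y ^ (j + 1) * x * c ^ (j + 1) := by rw [← pow_succ, ← pow_succ']
      have hy1 : y ^ Nat.card N = 1 := by
        have h0 : (⟨y, hyN⟩ : N) ^ Nat.card N = 1 := pow_card_eq_one'
        have h00 := congrArg Subtype.val h0
        rw [Subgroup.coe_pow, Subgroup.coe_one] at h00
        exact h00
      have := hiter (Nat.card N)
      rw [hy1, one_mul] at this
      exact this.symm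
    -- coprimality
    obtain ⟨k, hk⟩ := IsPGroup.iff_card.mp hNp
    have hcop : (T.index).Coprime (Nat.card N) := by
      rw [hk]
      exact Nat.Coprime.pow_right k ((Nat.Prime.coprime_iff_not_dvd hp).mpr hTidx).symm
    rw [← QuotientGroup.eq_one_iff]
    have h1 : (c : G ⧸ T) ^ Nat.card N = 1 := by
      rw [← QuotientGroup.mk_pow, QuotientGroup.eq_one_iff]; exact hpow
    have h2 : (c : G ⧸ T) ^ T.index = 1 := by
      rw [Subgroup.index_eq_card]; exact pow_card_eq_one'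
    have h3 : orderOf (c : G ⧸ T) ∣ Nat.gcd T.index (Nat.card N) :=
      Nat.dvd_gcd (orderOf_dvd_of_pow_eq_one h2) (orderOf_dvd_of_pow_eq_one h1)
    rw [hcop, Nat.dvd_one, orderOf_eq_one_iff] at h3
    exact h3
  -- final contradiction
  obtain ⟨α, hαA, hαC⟩ := SetLike.not_le_iff_exists.mp hAC
  obtain ⟨β, hβB, hβC⟩ := SetLike.not_le_iff_exists.mp hBC
  obtain ⟨⟨n₀, hn₀N⟩, hn₀1'⟩ := (Subgroup.ne_bot_iff_exists_ne_one).mp hNne
  have hn₀1 : n₀ ≠ 1 := fun h => hn₀1' (Subtype.ext h)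
  obtain ⟨a₀, ha₀, b₀, hb₀, hn₀⟩ := hAB n₀
  have hxA₁ : a₀ ∈ A₁ := by
    refine Subgroup.mem_inf.mpr ⟨ha₀, ?_⟩
    rw [Subgroup.mem_sup_of_normal_left]
    exact ⟨n₀, hn₀N, b₀⁻¹, B.inv_mem hb₀, by rw [hn₀]; group⟩
  have hxX : a₀ ∈ X := (le_sup_right : A₁ ≤ X) hxA₁
  set z := β * a₀ * β⁻¹ with hz
  have hzX : z ∈ X := (hconjG β a₀ hxX).1
  have hyN : z * a₀⁻¹ ∈ N := (hconjG β a₀ hxX).2
  have hy_eq : z * a₀⁻¹ = β * n₀ * β⁻¹ * n₀⁻¹ := by
    have e : a₀ = n₀ * b₀⁻¹ := by rw [hn₀]; group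
    have hc : b₀⁻¹ * β⁻¹ = β⁻¹ * b₀⁻¹ := hB b₀⁻¹ (B.inv_mem hb₀) β⁻¹ (B.inv_mem hβB)
    calc z * a₀⁻¹ = β * n₀ * (b₀⁻¹ * β⁻¹) * b₀ * n₀⁻¹ := by rw [hz, e]; group
      _ = β * n₀ * (β⁻¹ * b₀⁻¹) * b₀ * n₀⁻¹ := by rw [hc]
      _ = β * n₀ * β⁻¹ * n₀⁻¹ := by group
  have hy1 : z * a₀⁻¹ ≠ 1 := by
    intro h
    rw [hy_eq] at h
    apply hn₀1
    apply hfpf β hβC n₀ hn₀N
    calc β * n₀ = (β * n₀ * β⁻¹ * n₀⁻¹) * n₀ * β := by group
      _ = n₀ * β := by rw [h, one_mul]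
  -- the commutator of α and β centralizes X
  have hwT : ⁅α, β⁆ ∈ T :=
    hCT (hG'C (Subgroup.commutator_mem_commutator (Subgroup.mem_top _) (Subgroup.mem_top _)))
  have hw : z * ⁅α, β⁆ = ⁅α, β⁆ * z := (Subgroup.mem_centralizer_iff.mp hwT) z hzX
  have hαa₀ : α⁻¹ * a₀ = a₀ * α⁻¹ := hA α⁻¹ (A.inv_mem hαA) a₀ ha₀
  have hαz : α * z = z * α := by
    have e1 : ⁅α, β⁆ * z = α * z * (β * α⁻¹ * β⁻¹) := by
      calc ⁅α, β⁆ * z = α * β * (α⁻¹ * a₀) * β⁻¹ := by rw [commutatorElement_def, hz]; group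
        _ = α * β * (a₀ * α⁻¹) * β⁻¹ := by rw [hαa₀]
        _ = α * z * (β * α⁻¹ * β⁻¹) := by rw [hz]; group
    have e2 : z * ⁅α, β⁆ = z * α * (β * α⁻¹ * β⁻¹) := by
      rw [commutatorElement_def]; group
    have e3 : α * z * (β * α⁻¹ * β⁻¹) = z * α * (β * α⁻¹ * β⁻¹) := by
      rw [← e1, ← e2, hw]
    exact mul_right_cancel e3
  have hαy : α * (z * a₀⁻¹) = (z * a₀⁻¹) * α := by
    have hαa₀' : α * a₀⁻¹ = a₀⁻¹ * α := hA α hαA a₀⁻¹ (A.inv_mem ha₀)
    calc α * (z * a₀⁻¹) = (α * z) * a₀⁻¹ := by group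
      _ = (z * α) * a₀⁻¹ := by rw [hαz]
      _ = z * (α * a₀⁻¹) := by group
      _ = z * (a₀⁻¹ * α) := by rw [hαa₀']
      _ = (z * a₀⁻¹) * α := by group
  exact hy1 (hfpf α hαC _ hyN hαy)

end Cfsg.Agent.S0573
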