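import Mathlib
import Cfsg.Statements.S0571
import Cfsg.Agent.S0573
import Cfsg.Agent.Lib.Helper9.SS
import Cfsg.Agent.Lib.Helper9.SS3

set_option autoImplicit false
open Cfsg

namespace Cfsg.Agent.S0571

open Cfsg.Agent.Lib.Helper9

universe u

theorem main (n : ℕ) : ∀ (G : Type u) [Group G] [Finite G], Nat.card G = n →
    ∀ (A B : Subgroup G) [IsCyclic A] [IsCyclic B],
    (∀ g : G, ∃ a ∈ A, ∃ b ∈ B, g = a * b) → Cfsg.IsSupersolvable G := by
  induction n using Nat.strong_induction_on with
  | _ n ih =>
  intro G _ _ hn A B _ _ hAB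
  rcases subsingleton_or_nontrivial G with hs | hnt
  · exact isSupersolvable_of_subsingleton
  · obtain ⟨M, hMn, hMne, hM⟩ := Cfsg.Agent.S0573.result A B hAB
    haveI := hMn
    haveI : IsCyclic M := by
      rcases hM with h | h
      · exact Subgroup.isCyclic_of_le h
      · exact Subgroup.isCyclic_of_le h
    apply isSupersolvable_of_quotient_cyclic M
    have hsmall : Nat.card (G ⧸ M) < n := by
      rw [← hn, Subgroup.card_eq_card_quotient_mul_card_subgroup M]
      have h1 : 1 < Nat.card M := by
        rcases Nat.lt_or_ge 1 (Nat.card M) with h | h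
        · exact h
        · exfalso
          have : Nat.card M = 1 := le_antisymm h Nat.card_pos
          exact hMne (Subgroup.card_eq_one.mp this)
      have h2 : 0 < Nat.card (G ⧸ M) := Nat.card_pos
      nlinarith
    let π := QuotientGroup.mk' M
    haveI : IsCyclic (A.map π) :=
      isCyclic_of_surjective (π.subgroupMap A) (π.subgroupMap_surjective A)
    haveI : IsCyclic (B.map π) :=
      isCyclic_of_surjective (π.subgroupMap B) (π.subgroupMap_surjective B)
    apply ih _ hsmall (G ⧸ M) rfl (A.map π) (B.map π)
    intro q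
    obtain ⟨g, rfl⟩ := QuotientGroup.mk'_surjective M q
    obtain ⟨a, ha, b, hb, rfl⟩ := hAB g
    exact ⟨π a, Subgroup.mem_map_of_mem π ha, π b, Subgroup.mem_map_of_mem π hb, map_mul π a b⟩

/-- If a finite group G is the product AB of two cyclic subgroups (every element is a product ab), then G is supersolvable. -/
theorem result {G : Type*} [Group G] [Finite G] (A B : Subgroup G) [IsCyclic A] [IsCyclic B] (hAB : ∀ g : G, ∃ a ∈ A, ∃ b ∈ B, g = a * b) : Cfsg.IsSupersolvable G :=
  main (Nat.card G) G rfl A B hAB

end Cfsg.Agent.S0571
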