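import Cfsg.Statements.S0575
import Mathlib

set_option autoImplicit false
open Cfsg

namespace Cfsg.Agent.S0575

/-- If H is a normal subgroup of a finite group G, then the Frattini subgroup of H, viewed in G, lies in the Frattini subgroup of G. -/
theorem result {G : Type*} [Group G] [Finite G] (H : Subgroup G) [H.Normal] : (frattini ↥H).map H.subtype ≤ frattini G := by
  classical
  have hnorm : ((frattini ↥H).map H.subtype).Normal :=
    ConjAct.normal_of_characteristic_of_normal
  unfold frattini Order.radical
  refine le_iInf₂ ?_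
  intro M hM
  show (frattini ↥H).map H.subtype ≤ M
  by_contra hcon
  have hsup : (frattini ↥H).map H.subtype ⊔ M = ⊤ := by
    by_contra hne
    have hlt : M < (frattini ↥H).map H.subtype ⊔ M := by
      refine lt_of_le_of_ne le_sup_right ?_
      intro heq
      apply hcon
      rw [heq]
      exact le_sup_left
    exact hne (hM.2 _ hlt)
  have hgen : M.subgroupOf H ⊔ frattini ↥H = ⊤ := by
    rw [eq_top_iff]
    rintro ⟨x, hx⟩ _
    have hx' : x ∈ (frattini ↥H).map H.subtype ⊔ M := by rw [hsup]; trivial
    rw [Subgroup.mem_sup_of_normal_left] at hx'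
    obtain ⟨y, ⟨f, hf, rfl⟩, m, hm, hym⟩ := hx'
    have hmH : m ∈ H := by
      have : m = (H.subtype f)⁻¹ * x := by rw [← hym]; group
      rw [this]
      exact H.mul_mem (H.inv_mem f.2) hx
    have : (⟨x, hx⟩ : ↥H) = f * ⟨m, hmH⟩ := by
      apply Subtype.ext
      simpa using hym.symm
    rw [this, sup_comm]
    exact Subgroup.mul_mem_sup hf (by simpa [Subgroup.mem_subgroupOf] using hm)
  have htop : M.subgroupOf H = ⊤ := frattini_nongenerating hgen
  have hHM : H ≤ M := Subgroup.subgroupOf_eq_top.mp htop
  apply hcon
  exact (Subgroup.map_subtype_le _).trans hHM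

end Cfsg.Agent.S0575
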