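import Cfsg.Statements.S0576
-- import your own Cfsg.Agent.* helpers here

set_option autoImplicit false
open Cfsg

namespace Cfsg.Agent.S0576

/-- Let H be a normal subgroup of a finite group G with H contained in the Frattini subgroup of G. Then the group of inner automorphisms of H is contained in the Frattini subgroup of the automorphism group of H. -/
theorem result {G : Type*} [Group G] [Finite G] (H : Subgroup G) [H.Normal] (hH : H ≤ frattini G) : (MulAut.conj : ↥H →* MulAut ↥H).range ≤ frattini (MulAut ↥H) := by
  classical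
  -- it suffices to show the range is below every coatom
  unfold frattini Order.radical
  refine le_iInf₂ ?_
  intro U hU
  by_contra hcon
  -- Inn(H) ⊔ U = ⊤
  have hsup : (MulAut.conj : ↥H →* MulAut ↥H).range ⊔ U = ⊤ := by
    by_contra hne
    have hlt : U < (MulAut.conj : ↥H →* MulAut ↥H).range ⊔ U := by
      refine lt_of_le_of_ne le_sup_right ?_
      intro heq
      apply hcon
      rw [heq]
      exact le_sup_left
    exact hne (hU.2 _ hlt)
  -- Inn(H) is normal in Aut(H)
  have hnorm : ((MulAut.conj : ↥H →* MulAut ↥H).range).Normal := by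
    constructor
    intro n hn g
    obtain ⟨h, rfl⟩ := hn
    refine ⟨g h, ?_⟩
    ext x
    simp [MulAut.conj_apply]
  let φ : G →* MulAut ↥H := MulAut.conjNormal
  let K : Subgroup G := U.comap φ
  have hKH : K ⊔ frattini G = ⊤ := by
    rw [eq_top_iff]
    intro g _
    have hg : φ g ∈ (MulAut.conj : ↥H →* MulAut ↥H).range ⊔ U := by
      rw [hsup]; trivial
    rw [Subgroup.mem_sup_of_normal_left] at hg
    obtain ⟨y, ⟨h, rfl⟩, z, hz, hyz⟩ := hg
    have h1 : φ ((h : G)) = MulAut.conj h := MulAut.conjNormal_val
    have h2 : ((h : G))⁻¹ * g ∈ K := by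
      show φ (((h : G))⁻¹ * g) ∈ U
      rw [map_mul, map_inv, h1, ← hyz]
      simpa using hz
    have h4 : g = (h : G) * (((h : G))⁻¹ * g) := by group
    rw [h4]
    rw [sup_comm]
    exact Subgroup.mul_mem_sup (hH h.2) h2
  have hK : K = ⊤ := frattini_nongenerating hKH
  apply hcon
  rintro _ ⟨h, rfl⟩
  have h1 : φ ((h : G)) = MulAut.conj h := MulAut.conjNormal_val
  rw [← h1]
  have : (h : G) ∈ K := by rw [hK]; trivial
  exact this

end Cfsg.Agent.S0576
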