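import Cfsg.Statements.S0578
import Mathlib

set_option autoImplicit false
open Cfsg
open scoped commutatorElement

namespace Cfsg.Agent.S0578

/-- A nilpotent group in which normalizers of abelian subgroups coincide with their centralizers is
abelian. -/
theorem comm_of_nilpotent {P : Type*} [Group P] [Group.IsNilpotent P]
    (h : ∀ A : Subgroup P, IsMulCommutative A →
      Subgroup.normalizer (A : Set P) = Subgroup.centralizer (A : Set P)) :
    ∀ a b : P, a * b = b * a := by
  by_contra hcon
  have hZ : Subgroup.center P ≠ ⊤ := by
    intro htop
    apply hcon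
    intro a b
    have : a ∈ Subgroup.center P := by rw [htop]; trivial
    exact ((Subgroup.mem_center_iff.mp this) b).symm
  have hne : Subgroup.upperCentralSeries P 1 ≠ Subgroup.upperCentralSeries P 2 := by
    intro heq
    have := Subgroup.upperCentralSeries.eq_top (G := P) (a := 1) (b := 2) (by norm_num) heq
    rw [Subgroup.upperCentralSeries_one] at this
    exact hZ this
  have hle : Subgroup.upperCentralSeries P 1 ≤ Subgroup.upperCentralSeries P 2 :=
    Subgroup.upperCentralSeries_mono P (by norm_num)
  obtain ⟨x, hx2, hx1⟩ : ∃ x, x ∈ Subgroup.upperCentralSeries P 2 ∧ x ∉ Subgroup.upperCentralSeries P 1 := by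
    by_contra hno
    apply hne
    apply le_antisymm hle
    intro y hy
    by_contra hy1
    exact hno ⟨y, hy, hy1⟩
  rw [Subgroup.upperCentralSeries_one] at hx1
  have hx2' : ∀ y : P, x * y * x⁻¹ * y⁻¹ ∈ Subgroup.center P := by
    have := (Subgroup.mem_upperCentralSeries_succ_iff (n := 1) (x := x)).mp hx2
    intro y
    have h1 := this y
    rwa [Subgroup.upperCentralSeries_one] at h1
  set s : Set P := insert x (Subgroup.center P : Set P) with hs
  set A : Subgroup P := Subgroup.closure s with hA
  have hscomm : s ⊆ Subgroup.centralizer s := by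
    intro a ha b hb
    rcases ha with rfl | ha
    · rcases hb with rfl | hb
      · rfl
      · exact ((Subgroup.mem_center_iff.mp hb) a).symm
    · exact ((Subgroup.mem_center_iff.mp ha) b)
  have hAcomm : IsMulCommutative A := by
    rw [← Subgroup.le_centralizer_iff_isMulCommutative, hA, Subgroup.centralizer_closure]
    calc Subgroup.closure s ≤ Subgroup.centralizer (Subgroup.centralizer s : Set P) :=
          Subgroup.closure_le_centralizer_centralizer s
      _ ≤ Subgroup.centralizer s := Subgroup.centralizer_le hscomm
  have hnorm : (⊤ : Subgroup P) ≤ Subgroup.normalizer (A : Set P) := by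
    rw [hA, Subgroup.le_normalizer_closure_iff]
    intro g _ a ha
    rcases ha with rfl | ha
    · -- g * a * g⁻¹ = (g a g⁻¹ a⁻¹) * a
      have h1 : a * g * a⁻¹ * g⁻¹ ∈ Subgroup.center P := hx2' g
      have h2 : g * a * g⁻¹ = (a * g * a⁻¹ * g⁻¹)⁻¹ * a := by group
      rw [h2]
      exact Subgroup.mul_mem _
        (Subgroup.inv_mem _ (Subgroup.subset_closure (Set.mem_insert_of_mem _ h1)))
        (Subgroup.subset_closure (Set.mem_insert _ _))
    · have : g * a * g⁻¹ = a := by
        rw [(Subgroup.mem_center_iff.mp ha) g, mul_assoc, mul_inv_cancel, mul_one]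
      rw [this]
      exact Subgroup.subset_closure (Set.mem_insert_of_mem _ ha)
  rw [h A hAcomm] at hnorm
  apply hx1
  rw [Subgroup.mem_center_iff]
  intro g
  have hg : g ∈ Subgroup.centralizer (A : Set P) := hnorm (Subgroup.mem_top g)
  have hxA : x ∈ A := Subgroup.subset_closure (Set.mem_insert _ _)
  exact (hg x hxA).symm

/-- If in a finite group the normalizer of each abelian subgroup coincides with its centralizer, then the group is abelian. -/
theorem result {G : Type*} [Group G] [Finite G] (h : ∀ A : Subgroup G, IsMulCommutative A → Subgroup.normalizer (A : Set G) = Subgroup.centralizer (A : Set G)) : IsMulCommutative G := by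
  classical
  -- every Sylow subgroup is abelian
  have hsyl : ∀ (p : ℕ) [Fact p.Prime] (P : Sylow p G), IsMulCommutative P := by
    intro p _ P
    have hnil : Group.IsNilpotent P := P.isPGroup'.isNilpotent
    have hP : ∀ A : Subgroup P, IsMulCommutative A →
        Subgroup.normalizer (A : Set P) = Subgroup.centralizer (A : Set P) := by
      intro A hA
      apply le_antisymm
      · intro g hg
        have hA' : IsMulCommutative (A.map (P : Subgroup G).subtype) := inferInstance
        have h1 := h _ hA'
        have hg' : (g : G) ∈ Subgroup.normalizer ((A.map (P : Subgroup G).subtype : Subgroup G) : Set G) := by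
          rw [Subgroup.mem_normalizer_iff]
          intro y
          constructor
          · rintro ⟨a, ha, rfl⟩
            refine ⟨g * a * g⁻¹, (Subgroup.mem_normalizer_iff.mp hg a).mp ha, ?_⟩
            simp
          · rintro ⟨b, hb, hb'⟩
            have hyP : y ∈ (P : Subgroup G) := by
              have : y = (g : G)⁻¹ * ((g : G) * y * (g : G)⁻¹) * (g : G) := by group
              rw [this, ← hb']
              exact Subgroup.mul_mem _ (Subgroup.mul_mem _ (Subgroup.inv_mem _ g.2) b.2) g.2
            refine ⟨⟨y, hyP⟩, ?_, rfl⟩
            have h2 : g * ⟨y, hyP⟩ * g⁻¹ = b := by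
              apply Subtype.ext
              simpa using hb'.symm
            have := (Subgroup.mem_normalizer_iff.mp hg ⟨y, hyP⟩).mpr (by rw [h2]; exact hb)
            exact this
        rw [h1] at hg'
        intro a ha
        apply Subtype.ext
        have := hg' (a : G) ⟨a, ha, rfl⟩
        simpa using this
      · intro g hg
        rw [Subgroup.mem_normalizer_iff]
        intro a
        constructor
        · intro ha
          have : g * a * g⁻¹ = a := by
            rw [← hg a ha, mul_assoc, mul_inv_cancel, mul_one]
          rw [this]; exact ha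
        · intro ha
          have h2 : (g * a * g⁻¹) * g = g * (g * a * g⁻¹) := hg _ ha
          have : g * a * g⁻¹ = a := by
            have h3 : g * a = g * (g * a * g⁻¹) := by
              calc g * a = (g * a * g⁻¹) * g := by group
                _ = g * (g * a * g⁻¹) := h2
            exact (mul_left_cancel h3).symm
          rw [← this]; exact ha
    have hc := comm_of_nilpotent hP
    exact ⟨⟨hc⟩⟩
  -- the commutator subgroup is trivial
  have hcomm : commutator G = ⊥ := by
    by_contra hne
    have hcard : Nat.card (commutator G) ≠ 1 := fun h1 => hne (Subgroup.card_eq_one.mp h1)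
    obtain ⟨p, hp, hpdvd⟩ := Nat.exists_prime_and_dvd hcard
    have : Fact p.Prime := ⟨hp⟩
    obtain ⟨y, hy⟩ := exists_prime_orderOf_dvd_card' p hpdvd
    have hy1 : (y : G) ≠ 1 := by
      intro h1
      have : y = 1 := Subtype.ext h1
      rw [this, orderOf_one] at hy
      exact hp.one_lt.ne hy
    have hzp : IsPGroup p (Subgroup.zpowers (y : G)) := by
      apply IsPGroup.of_card (n := 1)
      rw [Nat.card_zpowers, pow_one, Subgroup.orderOf_coe, hy]
    obtain ⟨P, hP⟩ := hzp.exists_le_sylow
    have hPc : IsMulCommutative P := hsyl p P
    have hNC : Subgroup.normalizer ((P : Subgroup G) : Set G) ≤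
        Subgroup.centralizer ((P : Subgroup G) : Set G) := (h P hPc).le
    have hdisj := MonoidHom.ker_transferSylow_disjoint P hNC _ hzp
    have hker : commutator G ≤ (MonoidHom.transferSylow P hNC).ker := by
      rw [commutator_def, Subgroup.commutator_le]
      intro g _ k _
      rw [MonoidHom.mem_ker, map_commutatorElement, commutatorElement_eq_one_iff_commute]
      exact mul_comm' _ _
    have hmem : (y : G) ∈ (MonoidHom.transferSylow P hNC).ker ⊓ Subgroup.zpowers (y : G) :=
      ⟨hker y.2, Subgroup.mem_zpowers _⟩
    rw [disjoint_iff.mp hdisj] at hmem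
    exact hy1 hmem
  refine ⟨⟨fun a b => ?_⟩⟩
  have hab : ⁅a, b⁆ ∈ commutator G := by
    rw [commutator_def]
    exact Subgroup.commutator_mem_commutator (Subgroup.mem_top a) (Subgroup.mem_top b)
  rw [hcomm, Subgroup.mem_bot, commutatorElement_eq_one_iff_commute] at hab
  exact hab

end Cfsg.Agent.S0578
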