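import Mathlib
import Cfsg.Statements.S0582
import Cfsg.Agent.S0531
import Cfsg.Agent.Lib.Helper9.SS
import Cfsg.Agent.Lib.Helper9.CLT
import Cfsg.Agent.Lib.Helper9.Card

set_option autoImplicit false
open Cfsg

namespace Cfsg.Agent.S0582

open Pointwise
open Cfsg.Agent.Lib.Helper9

universe u

/-- supersolvable Hall subgroup -/
def HS {G : Type*} [Group G] (H : Subgroup G) : Prop :=
  Cfsg.IsSupersolvable H ∧ (Nat.card H).Coprime H.index

theorem mem_conj_smul {G : Type*} [Group G] (M : Subgroup G) (g x : G) :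
    x ∈ MulAut.conj g • M ↔ g⁻¹ * x * g ∈ M := by
  rw [Subgroup.mem_pointwise_smul_iff_inv_smul_mem, ← map_inv, MulAut.smul_def, MulAut.conj_apply,
    inv_inv]

theorem conj_mem_conj_smul {G : Type*} [Group G] (M : Subgroup G) (g x : G) (hx : x ∈ M) :
    g * x * g⁻¹ ∈ MulAut.conj g • M := by
  rw [mem_conj_smul]
  have : g⁻¹ * (g * x * g⁻¹) * g = x := by group
  rw [this]; exact hx

theorem card_conj_smul {G : Type*} [Group G] (H : Subgroup G) (g : G) :
    Nat.card (MulAut.conj g • H : Subgroup G) = Nat.card H :=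
  (Nat.card_congr (Subgroup.equivSMul (MulAut.conj g) H).toEquiv).symm

theorem index_conj_smul {G : Type*} [Group G] [Finite G] (H : Subgroup G) (g : G) :
    (MulAut.conj g • H : Subgroup G).index = H.index := by
  have h1 := Subgroup.index_mul_card (MulAut.conj g • H : Subgroup G)
  have h2 := Subgroup.index_mul_card H
  rw [card_conj_smul, ← h2] at h1
  exact Nat.eq_of_mul_eq_mul_right Nat.card_pos h1

theorem HS.conj {G : Type*} [Group G] [Finite G] {H : Subgroup G} (h : HS H) (g : G) :
    HS (MulAut.conj g • H : Subgroup G) := by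
  refine ⟨isSupersolvable_of_mulEquiv h.1 (Subgroup.equivSMul (MulAut.conj g) H), ?_⟩
  rw [card_conj_smul, index_conj_smul]
  exact h.2

theorem HS.subgroupOf {G : Type*} [Group G] [Finite G] {H N : Subgroup G} (h : HS H) (hHN : H ≤ N) :
    HS (H.subgroupOf N) := by
  refine ⟨isSupersolvable_of_mulEquiv h.1 (Subgroup.subgroupOfEquivOfLe hHN).symm, ?_⟩
  rw [Nat.card_congr (Subgroup.subgroupOfEquivOfLe hHN).toEquiv]
  exact Nat.Coprime.coprime_dvd_right (Subgroup.relIndex_dvd_index_of_le hHN) h.2

theorem HS.map {G : Type*} [Group G] [Finite G] {H : Subgroup G} (h : HS H) (Q : Subgroup G)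
    [Q.Normal] (hQH : Q ≤ H) : HS (H.map (QuotientGroup.mk' Q)) := by
  constructor
  · exact isSupersolvable_of_surjective h.1 ((QuotientGroup.mk' Q).subgroupMap H)
      ((QuotientGroup.mk' Q).subgroupMap_surjective H)
  · rw [Subgroup.index_map_eq _ (QuotientGroup.mk'_surjective Q) (by rw [QuotientGroup.ker_mk']; exact hQH)]
    have := card_map_mk'_mul_card Q H hQH
    exact Nat.Coprime.coprime_dvd_left (Dvd.intro _ this) h.2

theorem lift_quotient {G : Type*} [Group G] [Finite G] (Q H K : Subgroup G) [Q.Normal]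
    (hQK : Q ≤ K) (hcard : Nat.card H = Nat.card K) (xbar : G ⧸ Q)
    (h : MulAut.conj xbar • (H.map (QuotientGroup.mk' Q)) = K.map (QuotientGroup.mk' Q)) :
    ∃ x : G, MulAut.conj x • H = K := by
  obtain ⟨x, rfl⟩ := QuotientGroup.mk'_surjective Q xbar
  refine ⟨x, ?_⟩
  apply Subgroup.eq_of_le_of_card_ge
  · intro y hy
    rw [mem_conj_smul] at hy
    have h1 : QuotientGroup.mk' Q y ∈ MulAut.conj (QuotientGroup.mk' Q x) •
        (H.map (QuotientGroup.mk' Q)) := by
      rw [mem_conj_smul]
      refine ⟨x⁻¹ * y * x, hy, ?_⟩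
      simp
    rw [h] at h1
    obtain ⟨k, hk, hky⟩ := h1
    have h2 : k⁻¹ * y ∈ Q := by
      rw [← QuotientGroup.eq]; exact hky
    have : y = k * (k⁻¹ * y) := by group
    rw [this]
    exact K.mul_mem hk (hQK h2)
  · rw [card_conj_smul, hcard]

theorem lift_subgroup {G : Type*} [Group G] (N H K : Subgroup G) (hHN : H ≤ N) (hKN : K ≤ N)
    (x : N) (h : MulAut.conj x • (H.subgroupOf N) = K.subgroupOf N) :
    MulAut.conj (x : G) • H = K := by
  ext y
  rw [mem_conj_smul]
  constructor
  · intro hy
    have hyN : y ∈ N := by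
      have : y = (x : G) * ((x : G)⁻¹ * y * x) * (x : G)⁻¹ := by group
      rw [this]
      exact N.mul_mem (N.mul_mem x.2 (hHN hy)) (N.inv_mem x.2)
    have h1 : (⟨y, hyN⟩ : N) ∈ MulAut.conj x • (H.subgroupOf N) := by
      rw [mem_conj_smul, Subgroup.mem_subgroupOf]
      simpa using hy
    rw [h, Subgroup.mem_subgroupOf] at h1
    exact h1
  · intro hy
    have hyN : y ∈ N := hKN hy
    have h1 : (⟨y, hyN⟩ : N) ∈ K.subgroupOf N := by
      rw [Subgroup.mem_subgroupOf]; exact hy
    rw [← h, mem_conj_smul, Subgroup.mem_subgroupOf] at h1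
    simpa using h1

theorem conj_le_normalizer {G : Type*} [Group G] (H P : Subgroup G) (g : G)
    (h : H ≤ Subgroup.normalizer (P : Set G)) :
    MulAut.conj g • H ≤ Subgroup.normalizer ((MulAut.conj g • P : Subgroup G) : Set G) := by
  intro y hy
  rw [mem_conj_smul] at hy
  have hn := h hy
  rw [Subgroup.mem_normalizer_iff] at hn ⊢
  intro z
  rw [mem_conj_smul, mem_conj_smul, hn (g⁻¹ * z * g)]
  have : g⁻¹ * y * g * (g⁻¹ * z * g) * (g⁻¹ * y * g)⁻¹ = g⁻¹ * (y * z * y⁻¹) * g := by group
  rw [this]

theorem sylow_map_le_normalizer {G : Type*} [Group G] {p : ℕ} (H : Subgroup G) (P : Sylow p H)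
    (hP : (P : Subgroup H).Normal) :
    H ≤ Subgroup.normalizer (((P : Subgroup H).map H.subtype : Subgroup G) : Set G) := by
  have hle : (P : Subgroup H).map H.subtype ≤ H := Subgroup.map_subtype_le _
  rw [← Subgroup.normal_subgroupOf_iff_le_normalizer hle]
  have : ((P : Subgroup H).map H.subtype).subgroupOf H = (P : Subgroup H) := by
    rw [Subgroup.subgroupOf, Subgroup.comap_map_eq_self_of_injective H.subtype_injective]
  rw [this]; exact hP

theorem main (n : ℕ) : ∀ (G : Type u) [Group G] [Finite G], Nat.card G = n →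
    ∀ (H K : Subgroup G), HS H → Cfsg.IsSupersolvable K → Nat.card H = Nat.card K →
    ∃ x : G, MulAut.conj x • H = K := by
  induction n using Nat.strong_induction_on with
  | _ n ih =>
  intro G _ _ hn H K hH hK hcard
  by_cases hH1 : Nat.card H = 1
  · have hHbot : H = ⊥ := Subgroup.card_eq_one.mp hH1
    have hKbot : K = ⊥ := Subgroup.card_eq_one.mp (hcard ▸ hH1)
    refine ⟨1, ?_⟩
    rw [hHbot, hKbot, Subgroup.smul_bot]
  · have hcardpos : 0 < Nat.card H := Nat.card_pos
    have hne : (Nat.card H).primeFactors.Nonempty :=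
      Nat.nonempty_primeFactors.mpr (by omega)
    set p := (Nat.card H).primeFactors.max' hne with hpdef
    have hpmem : p ∈ (Nat.card H).primeFactors := Finset.max'_mem _ _
    have hp : p.Prime := Nat.prime_of_mem_primeFactors hpmem
    have hpd : p ∣ Nat.card H := Nat.dvd_of_mem_primeFactors hpmem
    have hmax : ∀ q : ℕ, q.Prime → q ∣ Nat.card H → q ≤ p := by
      intro q hq hqd
      exact Finset.le_max' _ q (Nat.mem_primeFactors.mpr ⟨hq, hqd, hcardpos.ne'⟩)
    haveI : Fact p.Prime := ⟨hp⟩
    let PH : Sylow p H := default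
    let PK : Sylow p K := default
    have hPHn : (PH : Subgroup H).Normal :=
      sylow_normal_of_hereditary_clt _ H rfl
        (fun L => Cfsg.Agent.S0531.result (isSupersolvable_subgroup hH.1 L)) p hmax PH
    have hPKn : (PK : Subgroup K).Normal :=
      sylow_normal_of_hereditary_clt _ K rfl
        (fun L => Cfsg.Agent.S0531.result (isSupersolvable_subgroup hK L)) p
        (by rw [← hcard]; exact hmax) PK
    set P : Subgroup G := (PH : Subgroup H).map H.subtype with hP
    set Q : Subgroup G := (PK : Subgroup K).map K.subtype with hQ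
    have hfac : (Nat.card G).factorization p = (Nat.card H).factorization p := by
      rw [← Subgroup.card_mul_index H,
        Nat.factorization_mul hcardpos.ne' Subgroup.index_ne_zero_of_finite]
      have : ¬ p ∣ H.index := fun hd =>
        hp.one_lt.ne' (Nat.eq_one_of_dvd_coprimes hH.2 hpd hd)
      simp [Nat.factorization_eq_zero_of_not_dvd this]
    have cP : Nat.card P = p ^ (Nat.card G).factorization p := by
      rw [hP, Subgroup.card_map_of_injective H.subtype_injective, hfac]
      exact PH.card_eq_multiplicity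
    have cQ : Nat.card Q = p ^ (Nat.card G).factorization p := by
      rw [hQ, Subgroup.card_map_of_injective K.subtype_injective, hfac, hcard]
      exact PK.card_eq_multiplicity
    obtain ⟨g, hg⟩ := MulAction.exists_smul_eq G (Sylow.ofCard P cP) (Sylow.ofCard Q cQ)
    have hgPQ : MulAut.conj g • P = Q := by
      have := congrArg (fun S : Sylow p G => (S : Subgroup G)) hg
      simpa [Sylow.coe_subgroup_smul] using this
    set H' : Subgroup G := MulAut.conj g • H with hH'def
    have hH' : HS H' := hH.conj g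
    have hcard' : Nat.card H' = Nat.card K := by rw [hH'def, card_conj_smul, hcard]
    have hPH : P ≤ H := Subgroup.map_subtype_le _
    have hQK : Q ≤ K := Subgroup.map_subtype_le _
    have hQH' : Q ≤ H' := by
      rw [← hgPQ, hH'def]
      exact Subgroup.pointwise_smul_le_pointwise_smul_iff.mpr hPH
    set N : Subgroup G := Subgroup.normalizer (Q : Set G) with hN
    have hKN : K ≤ N := sylow_map_le_normalizer K PK hPKn
    have hH'N : H' ≤ N := by
      rw [hN, ← hgPQ]
      exact conj_le_normalizer H P g (sylow_map_le_normalizer H PH hPHn)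
    have hQN : Q ≤ N := Subgroup.le_normalizer
    haveI hQ₁n : (Q.subgroupOf N).Normal := by
      rw [hN]; exact Subgroup.normal_in_normalizer
    -- the quotient group
    have hQcard : 1 < Nat.card Q := by
      rw [cQ, hfac]
      have : 0 < (Nat.card H).factorization p := hp.factorization_pos_of_dvd hcardpos.ne' hpd
      exact Nat.one_lt_pow this.ne' hp.one_lt
    have hsmall : Nat.card (N ⧸ Q.subgroupOf N) < n := by
      have h1 := Subgroup.card_eq_card_quotient_mul_card_subgroup (Q.subgroupOf N)
      rw [Nat.card_congr (Subgroup.subgroupOfEquivOfLe hQN).toEquiv] at h1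
      have h2 : Nat.card N ≤ Nat.card G := Subgroup.card_le_card_group N
      have h3 : 0 < Nat.card (N ⧸ Q.subgroupOf N) := Nat.card_pos
      rw [← hn]
      nlinarith
    have hQ₁H₁ : Q.subgroupOf N ≤ H'.subgroupOf N := Subgroup.subgroupOf_mono N hQH'
    have hQ₁K₁ : Q.subgroupOf N ≤ K.subgroupOf N := Subgroup.subgroupOf_mono N hQK
    have hH₁ : HS (H'.subgroupOf N) := hH'.subgroupOf hH'N
    have hHbar := hH₁.map (Q.subgroupOf N) hQ₁H₁
    have hK₁ss : Cfsg.IsSupersolvable (K.subgroupOf N) :=
      isSupersolvable_of_mulEquiv hK (Subgroup.subgroupOfEquivOfLe hKN).symm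
    have hKbar : Cfsg.IsSupersolvable ((K.subgroupOf N).map (QuotientGroup.mk' (Q.subgroupOf N))) :=
      isSupersolvable_of_surjective hK₁ss
        ((QuotientGroup.mk' (Q.subgroupOf N)).subgroupMap (K.subgroupOf N))
        ((QuotientGroup.mk' (Q.subgroupOf N)).subgroupMap_surjective (K.subgroupOf N))
    have hcard₁ : Nat.card (H'.subgroupOf N) = Nat.card (K.subgroupOf N) := by
      rw [Nat.card_congr (Subgroup.subgroupOfEquivOfLe hH'N).toEquiv,
        Nat.card_congr (Subgroup.subgroupOfEquivOfLe hKN).toEquiv, hcard']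
    have hcardbar : Nat.card ((H'.subgroupOf N).map (QuotientGroup.mk' (Q.subgroupOf N))) =
        Nat.card ((K.subgroupOf N).map (QuotientGroup.mk' (Q.subgroupOf N))) := by
      have e1 := card_map_mk'_mul_card (Q.subgroupOf N) (H'.subgroupOf N) hQ₁H₁
      have e2 := card_map_mk'_mul_card (Q.subgroupOf N) (K.subgroupOf N) hQ₁K₁
      rw [hcard₁, ← e2] at e1
      exact Nat.eq_of_mul_eq_mul_right Nat.card_pos e1
    obtain ⟨xbar, hxbar⟩ := ih _ hsmall (N ⧸ Q.subgroupOf N) rfl _ _ hHbar hKbar hcardbar
    obtain ⟨x₁, hx₁⟩ := lift_quotient (Q.subgroupOf N) (H'.subgroupOf N) (K.subgroupOf N)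
      hQ₁K₁ hcard₁ xbar hxbar
    have hx := lift_subgroup N H' K hH'N hKN x₁ hx₁
    refine ⟨(x₁ : G) * g, ?_⟩
    rw [map_mul, mul_smul, ← hH'def, hx]

/-- Let H and K be supersolvable subgroups of a finite group G of the same order, that order being coprime to their index. Then H and K are conjugate in G. -/
theorem result {G : Type*} [Group G] [Finite G] (H K : Subgroup G) (hH : Cfsg.IsSupersolvable H) (hK : Cfsg.IsSupersolvable K) (hcard : Nat.card H = Nat.card K) (hHall : (Nat.card H).Coprime H.index) : ∃ x : G, MulAut.conj x • H = K :=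
  main (Nat.card G) G rfl H K ⟨hH, hHall⟩ hK hcard

end Cfsg.Agent.S0582
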