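import Cfsg.Statements.S0583
import Mathlib

set_option autoImplicit false
open Cfsg

namespace Cfsg.Agent.S0583

theorem eq_bot_of_commutator_eq {G : Type*} [Group G] (M N : Subgroup G) (hMN : M ≤ N)
    (hN : Group.IsNilpotent N) (h : ⁅M, N⁆ = M) : M = ⊥ := by
  obtain ⟨n, hn⟩ := (Subgroup.isNilpotent_iff_lowerCentralSeries N).mp hN
  have key : ∀ k, M ≤ N.lowerCentralSeries k := by
    intro k
    induction k with
    | zero => simpa using hMN
    | succ k ih =>
      rw [Subgroup.lowerCentralSeries_succ]
      calc M = ⁅M, N⁆ := h.symm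
        _ ≤ ⁅N.lowerCentralSeries k, N⁆ := Subgroup.commutator_mono ih le_rfl
  have := key n
  rw [hn] at this
  exact le_bot_iff.mp this

/-- In a finite group the Fitting subgroup is contained in the centralizer of each minimal normal subgroup. -/
theorem result {G : Type*} [Group G] [Finite G] (M : Subgroup G) [M.Normal] (hM : M ≠ ⊥) (hmin : ∀ K : Subgroup G, K.Normal → K ≤ M → K = ⊥ ∨ K = M) : Cfsg.fittingSubgroup G ≤ Subgroup.centralizer (M : Set G) := by
  unfold Cfsg.fittingSubgroup
  apply sSup_le
  rintro N ⟨hNn, hNnil⟩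
  have hcomm : ⁅M, N⁆ = ⊥ := by
    rcases hmin (M ⊓ N) inferInstance inf_le_left with h | h
    · have := Subgroup.commutator_le_inf M N
      rw [h] at this
      exact le_bot_iff.mp this
    · have hMN : M ≤ N := by rw [← h]; exact inf_le_right
      rcases hmin ⁅M, N⁆ inferInstance (Subgroup.commutator_le_left M N) with h' | h'
      · exact h'
      · exact absurd (eq_bot_of_commutator_eq M N hMN hNnil h') hM
  rw [Subgroup.commutator_eq_bot_iff_le_centralizer] at hcomm
  exact Subgroup.le_centralizer_iff.mp hcomm

end Cfsg.Agent.S0583
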