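import Cfsg.Statements.S0584
import Mathlib

set_option autoImplicit false
open Cfsg
open Pointwise

namespace Cfsg.Agent.S0584

/-- Let B ≤ A be normal subgroups of a finite group G with B contained in the Frattini subgroup of G. If A modulo B is nilpotent then A is nilpotent. -/
theorem result {G : Type*} [Group G] [Finite G] (A B : Subgroup G) [A.Normal] [B.Normal] (hBA : B ≤ A) (hB : B ≤ frattini G) (h : Group.IsNilpotent (↥A ⧸ B.subgroupOf A)) : Group.IsNilpotent A := by
  classical
  have q := (Group.isNilpotent_of_finite_tfae (G := A)).out 0 3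
  rw [q]
  clear q
  intro p hp P
  -- the image of P in G
  set P₀ : Subgroup G := (P : Subgroup A).map A.subtype with hP₀
  have hP₀A : P₀ ≤ A := Subgroup.map_subtype_le _
  suffices hn : P₀.Normal from hn.of_map_subtype
  set B' : Subgroup A := B.subgroupOf A with hB'
  let π : A →* A ⧸ B' := QuotientGroup.mk' B'
  have hπ : Function.Surjective π := QuotientGroup.mk'_surjective B'
  have hB'map : B'.map A.subtype = B := by
    rw [hB', Subgroup.subgroupOf_map_subtype, inf_of_le_left hBA]
  -- K = P₀ ⊔ B is normal in G
  set K : Subgroup G := P₀ ⊔ B with hK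
  have hconj : ∀ g : G, MulAut.conj g • P₀ ⊔ B = P₀ ⊔ B := by
    intro g
    let Pg : Sylow p A := (MulAut.conjNormal g : MulAut A) • P
    have hPg : (Pg : Subgroup A).map A.subtype = MulAut.conj g • P₀ := by
      ext x
      constructor
      · rintro ⟨y, hy, rfl⟩
        have hy' : y ∈ (MulAut.conjNormal g : MulAut A) • (P : Subgroup A) := hy
        rw [Subgroup.mem_pointwise_smul_iff_inv_smul_mem] at hy' ⊢
        refine ⟨_, hy', ?_⟩
        simp [MulAut.smul_def]
      · intro hx
        rw [Subgroup.mem_pointwise_smul_iff_inv_smul_mem] at hx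
        obtain ⟨z, hz, hzx⟩ := hx
        have hxA : x ∈ A := by
          have : x = g * (z : G) * g⁻¹ := by
            have h1 : (z : G) = g⁻¹ * x * g := by
              simpa [MulAut.smul_def] using hzx
            rw [h1]; group
          rw [this]
          exact Subgroup.Normal.conj_mem inferInstance _ z.2 g
        refine ⟨⟨x, hxA⟩, ?_, rfl⟩
        show (⟨x, hxA⟩ : A) ∈ (MulAut.conjNormal g : MulAut A) • (P : Subgroup A)
        rw [Subgroup.mem_pointwise_smul_iff_inv_smul_mem]
        have : (MulAut.conjNormal g : MulAut A)⁻¹ • (⟨x, hxA⟩ : A) = z := by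
          apply Subtype.ext
          simp only [MulAut.smul_def, MulAut.conjNormal_inv_apply]
          simpa [MulAut.smul_def] using hzx.symm
        rw [this]
        exact hz
    -- uniqueness of Sylow subgroups in the nilpotent quotient
    have hQ1 : (P.mapSurjective hπ : Sylow p (A ⧸ B')) = Pg.mapSurjective hπ := by
      have hnorm : ((P.mapSurjective hπ : Sylow p (A ⧸ B')) : Subgroup (A ⧸ B')).Normal :=
        inferInstance
      have := Sylow.unique_of_normal (P.mapSurjective hπ) hnorm
      exact Subsingleton.elim _ _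
    have hQ2 : (P : Subgroup A).map π = (Pg : Subgroup A).map π := by
      have := congrArg (fun S : Sylow p (A ⧸ B') => (S : Subgroup (A ⧸ B'))) hQ1
      simpa using this
    have hQ3 : (P : Subgroup A) ⊔ B' = (Pg : Subgroup A) ⊔ B' := by
      have h1 := Subgroup.comap_map_eq π (P : Subgroup A)
      have h2 := Subgroup.comap_map_eq π (Pg : Subgroup A)
      rw [QuotientGroup.ker_mk'] at h1 h2
      rw [← h1, ← h2, hQ2]
    have hQ4 := congrArg (Subgroup.map A.subtype) hQ3
    rw [Subgroup.map_sup, Subgroup.map_sup, hB'map, hPg] at hQ4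
    exact hQ4.symm
  have hKn : K.Normal := by
    constructor
    intro x hx g
    have h1 : g * x * g⁻¹ ∈ MulAut.conj g • K := by
      rw [Subgroup.mem_pointwise_smul_iff_inv_smul_mem]
      simpa [MulAut.smul_def, mul_assoc] using hx
    rw [hK, Subgroup.smul_sup, Subgroup.Normal.conj_smul_eq_self g B, hconj g] at h1
    exact h1
  -- P₀ as a Sylow subgroup of K
  have hP₀K : P₀ ≤ K := le_sup_left
  have hKA : K ≤ A := sup_le hP₀A hBA
  have hP₀p : IsPGroup p (P₀.subgroupOf K) := (P.isPGroup'.map A.subtype).comap_subtype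
  have hidx : ¬ p ∣ (P₀.subgroupOf K).index := by
    intro hdvd
    have h1 : P₀.relIndex K ∣ P₀.relIndex A :=
      Dvd.intro _ (Subgroup.relIndex_mul_relIndex P₀ K A hP₀K hKA)
    have h2 : P₀.relIndex A = (P : Subgroup A).index := by
      rw [Subgroup.relIndex, hP₀]
      congr 1
      exact Subgroup.comap_map_eq_self_of_injective A.subtype_injective _
    rw [h2] at h1
    exact P.not_dvd_index (hdvd.trans h1)
  let P'' : Sylow p K := hP₀p.toSylow hidx
  have hP''map : (P'' : Subgroup K).map K.subtype = P₀ := by
    show (P₀.subgroupOf K).map K.subtype = P₀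
    rw [Subgroup.subgroupOf_map_subtype, inf_of_le_left hP₀K]
  have hfr := Sylow.normalizer_sup_eq_top P''
  rw [hP''map] at hfr
  -- normalizer P₀ ⊔ B = ⊤
  have hNB : Subgroup.normalizer (P₀ : Set G) ⊔ B = ⊤ := by
    rw [eq_top_iff, ← hfr, hK]
    refine sup_le le_sup_left (sup_le (Subgroup.le_normalizer.trans le_sup_left) le_sup_right)
  have hNF : Subgroup.normalizer (P₀ : Set G) ⊔ frattini G = ⊤ := by
    rw [eq_top_iff, ← hNB]
    exact sup_le le_sup_left (hB.trans le_sup_right)
  exact Subgroup.normalizer_eq_top_iff.mp (frattini_nongenerating hNF)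

end Cfsg.Agent.S0584
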