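import Cfsg.Statements.S0585
import Mathlib

set_option autoImplicit false
open Cfsg
open Pointwise

namespace Cfsg.Agent.S0585

/-- If the Frattini subgroup of a finite group G is trivial, then every abelian normal subgroup of G has a complement in G. -/
theorem result {G : Type*} [Group G] [Finite G] (hΦ : frattini G = ⊥) (A : Subgroup G) [A.Normal] [IsMulCommutative A] : ∃ H : Subgroup G, Subgroup.IsComplement' A H := by
  classical
  -- choose H minimal with A ⊔ H = ⊤
  obtain ⟨H, hHmin⟩ := (Set.toFinite {H : Subgroup G | A ⊔ H = ⊤}).exists_minimal ⟨⊤, by simp⟩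
  have hAH : A ⊔ H = ⊤ := hHmin.1
  have hmin : ∀ H' : Subgroup G, A ⊔ H' = ⊤ → H' ≤ H → H ≤ H' := fun H' h1 h2 => hHmin.2 h1 h2
  refine ⟨H, ?_⟩
  -- N = A ⊓ H is normal in G
  have hcomm : ∀ a ∈ A, ∀ b ∈ A, a * b = b * a := by
    intro a ha b hb
    exact setLike_mul_comm ha hb
  have hNnorm : (A ⊓ H).Normal := by
    constructor
    intro n hn g
    have hg : g ∈ A ⊔ H := by rw [hAH]; trivial
    rw [Subgroup.mem_sup_of_normal_left] at hg
    obtain ⟨a, ha, h, hh, rfl⟩ := hg
    have h1 : h * n * h⁻¹ ∈ A ⊓ H :=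
      ⟨Subgroup.Normal.conj_mem inferInstance n hn.1 h, H.mul_mem (H.mul_mem hh hn.2) (H.inv_mem hh)⟩
    have h2 : a * h * n * (a * h)⁻¹ = a * (h * n * h⁻¹) * a⁻¹ := by group
    rw [h2]
    have h3 : a * (h * n * h⁻¹) = (h * n * h⁻¹) * a := hcomm a ha _ h1.1
    rw [h3, mul_assoc, mul_inv_cancel, mul_one]
    exact h1
  -- N ≤ frattini G
  have hNfr : A ⊓ H ≤ frattini G := by
    unfold frattini Order.radical
    refine le_iInf₂ ?_
    intro M hM
    show A ⊓ H ≤ M
    by_contra hcon
    have hsup : (A ⊓ H) ⊔ M = ⊤ := by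
      by_contra hne
      have hlt : M < (A ⊓ H) ⊔ M := by
        refine lt_of_le_of_ne le_sup_right ?_
        intro heq
        apply hcon
        rw [heq]
        exact le_sup_left
      exact hne (hM.2 _ hlt)
    -- H ≤ (A ⊓ H) ⊔ (H ⊓ M)
    have hH : H ≤ (A ⊓ H) ⊔ (H ⊓ M) := by
      intro x hx
      have hx' : x ∈ (A ⊓ H) ⊔ M := by rw [hsup]; trivial
      rw [Subgroup.mem_sup_of_normal_left] at hx'
      obtain ⟨n, hn, m, hm, rfl⟩ := hx'
      have hmH : m ∈ H := by
        have : m = n⁻¹ * (n * m) := by group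
        rw [this]
        exact H.mul_mem (H.inv_mem hn.2) hx
      exact Subgroup.mul_mem_sup hn ⟨hmH, hm⟩
    have hgen : A ⊔ (H ⊓ M) = ⊤ := by
      rw [eq_top_iff, ← hAH]
      refine sup_le le_sup_left ?_
      refine hH.trans ?_
      refine sup_le (inf_le_left.trans le_sup_left) le_sup_right
    have hle : H ≤ H ⊓ M := hmin _ hgen inf_le_left
    apply hcon
    exact inf_le_right.trans (hle.trans inf_le_right)
  have hdisj : Disjoint A H := by
    rw [disjoint_iff]
    rw [hΦ] at hNfr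
    exact le_bot_iff.mp hNfr
  apply Subgroup.isComplement'_of_disjoint_and_mul_eq_univ hdisj
  rw [← Subgroup.normal_mul, hAH]
  rfl

end Cfsg.Agent.S0585
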