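import Cfsg.Statements.S0586
import Cfsg.Agent.S0008
import Cfsg.Agent.S0575
import Cfsg.Agent.S0585
import Cfsg.Agent.S0551
import Mathlib

set_option autoImplicit false
open Cfsg
open scoped commutatorElement

namespace Cfsg.Agent.S0586

/-- In a finite nilpotent group the commutator subgroup lies in the Frattini subgroup. -/
theorem commutator_le_frattini_of_nilpotent {N : Type*} [Group N] [Finite N]
    [Group.IsNilpotent N] : commutator N ≤ frattini N := by
  unfold frattini Order.radical
  refine le_iInf₂ ?_
  intro M hM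
  show commutator N ≤ M
  have hnc := Group.normalizerCondition_of_isNilpotent (G := N)
  have hMn : M.Normal := by
    rw [← Subgroup.normalizer_eq_top_iff]
    exact hM.2 _ (hnc M (lt_top_iff_ne_top.mpr hM.1))
  -- N ⧸ M is nontrivial nilpotent, so its center is nontrivial; its preimage is ⊤
  have hnt : Nontrivial (N ⧸ M) := by
    rw [← not_subsingleton_iff_nontrivial]
    intro hss
    exact hM.1 (QuotientGroup.subgroup_eq_top_of_subsingleton M hss)
  have hcne : Subgroup.center (N ⧸ M) ≠ ⊥ := Group.IsNilpotent.center_ne_bot (N ⧸ M)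
  have hlt : M < (Subgroup.center (N ⧸ M)).comap (QuotientGroup.mk' M) := by
    refine lt_of_le_of_ne ?_ ?_
    · intro m hm
      rw [Subgroup.mem_comap]
      have : QuotientGroup.mk' M m = 1 := (QuotientGroup.eq_one_iff m).mpr hm
      rw [this]
      exact Subgroup.one_mem _
    · intro heq
      apply hcne
      rw [eq_bot_iff]
      intro z hz
      obtain ⟨g, rfl⟩ := QuotientGroup.mk'_surjective M z
      have : g ∈ (Subgroup.center (N ⧸ M)).comap (QuotientGroup.mk' M) := hz
      rw [← heq] at this
      rw [Subgroup.mem_bot]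
      exact (QuotientGroup.eq_one_iff g).mpr this
  have htop := hM.2 _ hlt
  rw [commutator_def, Subgroup.commutator_le]
  intro a _ b _
  have ha : QuotientGroup.mk' M a ∈ Subgroup.center (N ⧸ M) := by
    have : a ∈ (Subgroup.center (N ⧸ M)).comap (QuotientGroup.mk' M) := by rw [htop]; trivial
    exact this
  have h1 : QuotientGroup.mk' M ⁅a, b⁆ = 1 := by
    rw [map_commutatorElement, commutatorElement_eq_one_iff_commute]
    exact ((Subgroup.mem_center_iff.mp ha) _).symm
  exact (QuotientGroup.eq_one_iff _).mp h1

/-- If the Frattini subgroup of a finite group G is trivial, then the Fitting subgroup of G equals the join of all abelian minimal normal subgroups of G. -/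
theorem result {G : Type*} [Group G] [Finite G] (hΦ : frattini G = ⊥) : Cfsg.fittingSubgroup G = sSup {N : Subgroup G | N.Normal ∧ N ≠ ⊥ ∧ IsMulCommutative N ∧ ∀ K : Subgroup G, K.Normal → K ≤ N → K = ⊥ ∨ K = N} := by
  classical
  set F : Subgroup G := Cfsg.fittingSubgroup G with hF
  have hFn : F.Normal := Subgroup.sSup_normal _ (fun _ h => h.1)
  have hFnil : Group.IsNilpotent F := S0008.result
  -- F is abelian
  have hfrF : frattini F = ⊥ := by
    have h1 : (frattini F).map F.subtype ≤ frattini G := S0575.result F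
    rw [hΦ] at h1
    exact (Subgroup.map_eq_bot_iff_of_injective _ F.subtype_injective).mp (le_bot_iff.mp h1)
  have hFcomm : IsMulCommutative F := by
    have h1 : commutator F ≤ frattini F := commutator_le_frattini_of_nilpotent
    rw [hfrF] at h1
    refine ⟨⟨fun a b => ?_⟩⟩
    have hab : ⁅a, b⁆ ∈ commutator F := by
      rw [commutator_def]
      exact Subgroup.commutator_mem_commutator (Subgroup.mem_top a) (Subgroup.mem_top b)
    have := h1 hab
    rw [Subgroup.mem_bot, commutatorElement_eq_one_iff_commute] at this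
    exact this
  have hFcent : F ≤ Subgroup.centralizer (F : Set G) := Subgroup.le_centralizer F
  set T : Set (Subgroup G) := {N : Subgroup G | N.Normal ∧ N ≠ ⊥ ∧ IsMulCommutative N ∧
    ∀ K : Subgroup G, K.Normal → K ≤ N → K = ⊥ ∨ K = N} with hT
  set S : Subgroup G := sSup T with hS
  have hSn : S.Normal := Subgroup.sSup_normal _ (fun _ h => h.1)
  have hSF : S ≤ F := by
    apply sSup_le
    rintro N ⟨hNn, -, hNc, -⟩
    apply le_sSup
    refine ⟨hNn, ?_⟩
    let _ : CommGroup N := { (inferInstance : Group N) with mul_comm := fun a b => mul_comm' a b }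
    exact CommGroup.isNilpotent
  apply le_antisymm _ hSF
  -- S is abelian, so has a complement H in G
  have hScomm : IsMulCommutative S := by
    rw [← Subgroup.le_centralizer_iff_isMulCommutative]
    exact hSF.trans (hFcent.trans (Subgroup.centralizer_le hSF))
  obtain ⟨H, hH⟩ := S0585.result hΦ S
  have hSH : S ⊓ H = ⊥ := disjoint_iff.mp hH.disjoint
  have hSHtop : S ⊔ H = ⊤ := hH.sup_eq_top
  -- T' = F ⊓ H is normal in G
  set W : Subgroup G := F ⊓ H with hW
  have hWn : W.Normal := by
    rw [← Subgroup.normalizer_eq_top_iff, eq_top_iff, ← hSHtop]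
    refine sup_le ?_ ?_
    · rw [Subgroup.le_normalizer_iff]
      intro s hs w hw
      have : s * w = w * s := (hFcent (hSF hs) w hw.1).symm
      rw [this, mul_assoc, mul_inv_cancel, mul_one]
      exact hw
    · rw [Subgroup.le_normalizer_iff]
      intro h hh w hw
      exact ⟨hFn.conj_mem w hw.1 h, H.mul_mem (H.mul_mem hh hw.2) (H.inv_mem hh)⟩
  have hWbot : W = ⊥ := by
    by_contra hWne
    obtain ⟨M, hMn, hMne, hMW, hMmin⟩ := S0551.exists_minimal_normal W hWne
    have hMF : M ≤ F := hMW.trans inf_le_left
    have hMc : IsMulCommutative M := by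
      rw [← Subgroup.le_centralizer_iff_isMulCommutative]
      exact hMF.trans (hFcent.trans (Subgroup.centralizer_le hMF))
    have hMS : M ≤ S := le_sSup ⟨hMn, hMne, hMc, hMmin⟩
    have : M ≤ S ⊓ H := le_inf hMS (hMW.trans inf_le_right)
    rw [hSH] at this
    exact hMne (le_bot_iff.mp this)
  -- F ≤ S ⊔ W
  intro x hx
  have hx' : x ∈ S ⊔ H := by rw [hSHtop]; trivial
  rw [Subgroup.mem_sup_of_normal_left] at hx'
  obtain ⟨s, hs, h, hh, rfl⟩ := hx'
  have hhW : h ∈ W := by
    refine ⟨?_, hh⟩
    have : h = s⁻¹ * (s * h) := by group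
    rw [this]
    exact F.mul_mem (F.inv_mem (hSF hs)) hx
  rw [hWbot, Subgroup.mem_bot] at hhW
  rw [hhW, mul_one]
  exact hs

end Cfsg.Agent.S0586
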