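import Cfsg.Statements.S0588
import Mathlib

set_option autoImplicit false
open Cfsg

namespace Cfsg.Agent.S0588

/-- If a subgroup H of a finite group G contains the centralizer of every non-identity element of H, then the order of H is coprime to its index. -/
theorem result {G : Type*} [Group G] [Finite G] (H : Subgroup G) (h : ∀ x ∈ H, x ≠ 1 → Subgroup.centralizer ({x} : Set G) ≤ H) : (Nat.card H).Coprime H.index := by
  classical
  apply Nat.coprime_of_dvd
  intro p hp hpH hpidx
  have : Fact p.Prime := ⟨hp⟩
  obtain ⟨x, hx⟩ := exists_prime_orderOf_dvd_card' p hpH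
  have hx1 : (x : G) ≠ 1 := by
    intro h1
    have : x = 1 := Subtype.ext h1
    rw [this, orderOf_one] at hx
    exact hp.one_lt.ne hx
  -- a Sylow p-subgroup containing x
  have hzp : IsPGroup p (Subgroup.zpowers (x : G)) := by
    apply IsPGroup.of_card (n := 1)
    rw [Nat.card_zpowers, pow_one, Subgroup.orderOf_coe, hx]
  obtain ⟨S, hS⟩ := hzp.exists_le_sylow
  have hxS : (x : G) ∈ S := hS (Subgroup.mem_zpowers _)
  have hSnt : Nontrivial S := ⟨⟨⟨x, hxS⟩, 1, fun heq => hx1 (congrArg Subtype.val heq)⟩⟩
  have hcnt : Nontrivial (Subgroup.center S) := IsPGroup.center_nontrivial (S.isPGroup')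
  obtain ⟨⟨z, hzc⟩, hz1⟩ := exists_ne (1 : Subgroup.center S)
  have hz1' : (z : G) ≠ 1 := by
    intro h1
    apply hz1
    apply Subtype.ext
    apply Subtype.ext
    exact h1
  -- z commutes with x
  have hzx : (z : G) ∈ Subgroup.centralizer ({(x : G)} : Set G) := by
    rw [Subgroup.mem_centralizer_singleton_iff]
    have := Subgroup.mem_center_iff.mp hzc ⟨x, hxS⟩
    have := congrArg Subtype.val this
    simpa using this.symm
  have hzH : (z : G) ∈ H := h x x.2 hx1 hzx
  have hSH : (S : Subgroup G) ≤ H := by
    intro s hs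
    apply h z hzH hz1'
    rw [Subgroup.mem_centralizer_singleton_iff]
    have := Subgroup.mem_center_iff.mp hzc ⟨s, hs⟩
    have := congrArg Subtype.val this
    simpa using this
  have h1 : H.index ∣ (S : Subgroup G).index := Subgroup.index_dvd_of_le hSH
  exact S.not_dvd_index (hpidx.trans h1)

end Cfsg.Agent.S0588
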