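import Cfsg.Statements.S0590
import Mathlib

set_option autoImplicit false
open Cfsg
open scoped commutatorElement

namespace Cfsg.Agent.S0590

/-- Quadratic action on an elementary abelian p-group forces the acting group modulo the kernel of the action to be elementary abelian. -/
theorem result {G : Type*} [Group G] [Finite G] {p : ℕ} [Fact p.Prime] (V H : Subgroup G) (hV : Cfsg.IsElementaryAbelian p V) (hHV : H ≤ Subgroup.normalizer (V : Set G)) (hq : ⁅⁅V, H⁆, H⁆ = ⊥) : ⁅H, H⁆ ≤ Subgroup.centralizer (V : Set G) ∧ ∀ a ∈ H, a ^ p ∈ Subgroup.centralizer (V : Set G) := by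
  obtain ⟨hVc, hVp⟩ := hV
  have hVcomm : ∀ u ∈ V, ∀ v ∈ V, u * v = v * u := fun u hu v hv => setLike_mul_comm hu hv
  have hconjV : ∀ h ∈ H, ∀ v ∈ V, h * v * h⁻¹ ∈ V := by
    intro h hh v hv
    exact (Subgroup.mem_normalizer_iff.mp (hHV hh) v).mp hv
  -- F1
  have F1 : ∀ h ∈ H, ∀ v ∈ V, ⁅h, v⁆ ∈ V := by
    intro h hh v hv
    rw [commutatorElement_def]
    exact V.mul_mem (hconjV h hh v hv) (V.inv_mem hv)
  -- F2
  have hcent : ⁅V, H⁆ ≤ Subgroup.centralizer (H : Set G) :=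
    Subgroup.commutator_eq_bot_iff_le_centralizer.mp hq
  have F2 : ∀ h ∈ H, ∀ v ∈ V, ∀ k ∈ H, k * ⁅h, v⁆ = ⁅h, v⁆ * k := by
    intro h hh v hv k hk
    have hmem : ⁅h, v⁆ ∈ ⁅V, H⁆ := by
      rw [Subgroup.commutator_comm]
      exact Subgroup.commutator_mem_commutator hh hv
    exact hcent hmem k hk
  have conj_eq : ∀ (h v : G), h * v * h⁻¹ = ⁅h, v⁆ * v := by
    intro h v
    rw [commutatorElement_def]; group
  have conj2 : ∀ h ∈ H, ∀ k ∈ H, ∀ v ∈ V, (h * k) * v * (h * k)⁻¹ = ⁅k, v⁆ * ⁅h, v⁆ * v := by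
    intro h hh k hk v hv
    calc (h * k) * v * (h * k)⁻¹ = h * (k * v * k⁻¹) * h⁻¹ := by group
      _ = h * (⁅k, v⁆ * v) * h⁻¹ := by rw [conj_eq k v]
      _ = (h * ⁅k, v⁆) * v * h⁻¹ := by group
      _ = (⁅k, v⁆ * h) * v * h⁻¹ := by rw [F2 k hk v hv h hh]
      _ = ⁅k, v⁆ * (h * v * h⁻¹) := by group
      _ = ⁅k, v⁆ * (⁅h, v⁆ * v) := by rw [conj_eq h v]
      _ = ⁅k, v⁆ * ⁅h, v⁆ * v := by group
  have E : ∀ h ∈ H, ∀ k ∈ H, ∀ v ∈ V, (h * k) * v * (h * k)⁻¹ = (k * h) * v * (k * h)⁻¹ := by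
    intro h hh k hk v hv
    rw [conj2 h hh k hk v hv, conj2 k hk h hh v hv,
      hVcomm _ (F1 k hk v hv) _ (F1 h hh v hv)]
  refine ⟨?_, ?_⟩
  · rw [Subgroup.commutator_le]
    intro h hh k hk
    rw [Subgroup.mem_centralizer_iff]
    intro v hv
    -- w = (k*h)⁻¹ * v * (k*h)
    have hw : (k * h)⁻¹ * v * (k * h)⁻¹⁻¹ ∈ V :=
      hconjV _ (H.inv_mem (H.mul_mem hk hh)) v hv
    have h1 := E h hh k hk _ hw
    have h2 : (k * h) * ((k * h)⁻¹ * v * (k * h)⁻¹⁻¹) * (k * h)⁻¹ = v := by group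
    rw [h2] at h1
    have h3 : ⁅h, k⁆ * v * ⁅h, k⁆⁻¹ = (h * k) * ((k * h)⁻¹ * v * (k * h)⁻¹⁻¹) * (h * k)⁻¹ := by
      rw [commutatorElement_def]; group
    rw [h1] at h3
    -- ⁅h,k⁆ * v * ⁅h,k⁆⁻¹ = v
    calc v * ⁅h, k⁆ = (⁅h, k⁆ * v * ⁅h, k⁆⁻¹) * ⁅h, k⁆ := by rw [h3]
      _ = ⁅h, k⁆ * v := by group
  · intro a ha
    rw [Subgroup.mem_centralizer_iff]
    intro v hv
    have hpow : ∀ n : ℕ, a ^ n * v * (a ^ n)⁻¹ = ⁅a, v⁆ ^ n * v := by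
      intro n
      induction n with
      | zero => simp
      | succ n ih =>
        have hc0 : Commute a ⁅a, v⁆ := F2 a ha v hv a ha
        have hc : Commute a (⁅a, v⁆ ^ n) := hc0.pow_right n
        calc a ^ (n + 1) * v * (a ^ (n + 1))⁻¹ = a * (a ^ n * v * (a ^ n)⁻¹) * a⁻¹ := by
              rw [pow_succ']; group
          _ = a * (⁅a, v⁆ ^ n * v) * a⁻¹ := by rw [ih]
          _ = (a * ⁅a, v⁆ ^ n) * v * a⁻¹ := by group
          _ = (⁅a, v⁆ ^ n * a) * v * a⁻¹ := by rw [hc.eq]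
          _ = ⁅a, v⁆ ^ n * (a * v * a⁻¹) := by group
          _ = ⁅a, v⁆ ^ n * (⁅a, v⁆ * v) := by rw [conj_eq a v]
          _ = ⁅a, v⁆ ^ (n + 1) * v := by rw [pow_succ]; group
    have h1 := hpow p
    rw [hVp _ (F1 a ha v hv), one_mul] at h1
    calc v * a ^ p = (a ^ p * v * (a ^ p)⁻¹) * a ^ p := by rw [h1]
      _ = a ^ p * v := by group

end Cfsg.Agent.S0590
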