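import Cfsg.Statements.S0591
import Mathlib

set_option autoImplicit false
open Cfsg
open scoped commutatorElement

namespace Cfsg.Agent.S0591

/-- For a quadratically acting element a on an elementary abelian p-group V, the fixed points C_V(a) have order at least the square root of the order of V. -/
theorem result {G : Type*} [Group G] [Finite G] {p : ℕ} [Fact p.Prime] (V : Subgroup G) (hV : Cfsg.IsElementaryAbelian p V) (a : G) (ha : a ∈ Subgroup.normalizer (V : Set G)) (hq : ⁅⁅V, Subgroup.zpowers a⁆, Subgroup.zpowers a⁆ = ⊥) : Nat.card V ≤ Nat.card ↥(V ⊓ Subgroup.centralizer (Subgroup.zpowers a : Set G)) ^ 2 := by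
  classical
  obtain ⟨hVc, -⟩ := hV
  have hVcomm : ∀ u ∈ V, ∀ v ∈ V, u * v = v * u := fun u hu v hv => setLike_mul_comm hu hv
  have hconjV : ∀ v ∈ V, a * v * a⁻¹ ∈ V := fun v hv => (Subgroup.mem_normalizer_iff.mp ha v).mp hv
  have F1 : ∀ v ∈ V, ⁅a, v⁆ ∈ V := by
    intro v hv
    rw [commutatorElement_def]
    exact V.mul_mem (hconjV v hv) (V.inv_mem hv)
  have hcent : ⁅V, Subgroup.zpowers a⁆ ≤ Subgroup.centralizer (Subgroup.zpowers a : Set G) :=
    Subgroup.commutator_eq_bot_iff_le_centralizer.mp hq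
  have F2 : ∀ v ∈ V, ⁅a, v⁆ ∈ Subgroup.centralizer (Subgroup.zpowers a : Set G) := by
    intro v hv
    apply hcent
    rw [Subgroup.commutator_comm]
    exact Subgroup.commutator_mem_commutator (Subgroup.mem_zpowers a) hv
  set C : Subgroup G := V ⊓ Subgroup.centralizer (Subgroup.zpowers a : Set G) with hC
  have hmul : ∀ u ∈ V, ∀ v ∈ V, ⁅a, u * v⁆ = ⁅a, u⁆ * ⁅a, v⁆ := by
    intro u hu v hv
    have h1 : ⁅a, u * v⁆ = ⁅a, u⁆ * (u * ⁅a, v⁆) * u⁻¹ := by
      simp only [commutatorElement_def]; group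
    rw [h1, hVcomm u hu _ (F1 v hv)]
    group
  let φ : V →* V :=
    { toFun := fun v => ⟨⁅a, (v : G)⁆, F1 v v.2⟩
      map_one' := by
        apply Subtype.ext
        simp
      map_mul' := by
        intro u v
        apply Subtype.ext
        simpa using hmul u u.2 v v.2 }
  have hker : φ.ker.map V.subtype ≤ C := by
    rintro _ ⟨v, hv, rfl⟩
    refine ⟨v.2, ?_⟩
    have h1 : ⁅a, (v : G)⁆ = 1 := by
      have := MonoidHom.mem_ker.mp hv
      exact congrArg Subtype.val this
    rw [Subgroup.zpowers_eq_closure, Subgroup.centralizer_closure]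
    show (v : G) ∈ Subgroup.centralizer {a}
    rw [Subgroup.mem_centralizer_singleton_iff]
    have h2 : a * (v : G) * a⁻¹ * (v : G)⁻¹ = 1 := by rw [← commutatorElement_def]; exact h1
    have h3 : a * (v : G) = (v : G) * a := by
      calc a * (v : G) = (a * (v : G) * a⁻¹ * (v : G)⁻¹) * ((v : G) * a) := by group
        _ = (v : G) * a := by rw [h2, one_mul]
    simpa using h3.symm
  have hrange : φ.range.map V.subtype ≤ C := by
    rintro _ ⟨_, ⟨v, rfl⟩, rfl⟩
    exact ⟨F1 v v.2, F2 v v.2⟩
  have hc1 : Nat.card φ.ker ≤ Nat.card C := by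
    rw [← Subgroup.card_map_of_injective V.subtype_injective]
    exact Subgroup.card_le_of_le hker
  have hc2 : Nat.card φ.range ≤ Nat.card C := by
    rw [← Subgroup.card_map_of_injective V.subtype_injective]
    exact Subgroup.card_le_of_le hrange
  have hcard : Nat.card φ.ker * Nat.card φ.range = Nat.card V := by
    rw [← Subgroup.index_ker]
    exact Subgroup.card_mul_index φ.ker
  calc Nat.card V = Nat.card φ.ker * Nat.card φ.range := hcard.symm
    _ ≤ Nat.card C * Nat.card C := Nat.mul_le_mul hc1 hc2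
    _ = Nat.card C ^ 2 := (sq _).symm

end Cfsg.Agent.S0591
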