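import Cfsg.Statements.S0597
import Cfsg.Agent.Lib.Helper97.Cores2
import Cfsg.Agent.Lib.Helper97.Replacement3
import Cfsg.Agent.Lib.Helper9.Subnormal

set_option autoImplicit false
open Cfsg

namespace Cfsg.Agent.S0597

open Cfsg.Agent.Lib.Helper97
open scoped commutatorElement

variable {G : Type*} [Group G]

/-- The stabiliser of the chain `V ≥ W ≥ 1` (elements normalising `V`, centralising `W` and acting trivially on
`V / W`). -/
def chainStab (V W : Subgroup G) : Subgroup G where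
  carrier := {x | x ∈ Subgroup.normalizer (V : Set G) ∧ x ∈ Subgroup.centralizer (W : Set G) ∧
    ∀ v ∈ V, ⁅v, x⁆ ∈ W}
  one_mem' := ⟨Subgroup.one_mem _, Subgroup.one_mem _, fun v _ => by simp [W.one_mem]⟩
  mul_mem' := by
    rintro x y ⟨hx1, hx2, hx3⟩ ⟨hy1, hy2, hy3⟩
    refine ⟨Subgroup.mul_mem _ hx1 hy1, Subgroup.mul_mem _ hx2 hy2, fun v hv => ?_⟩
    have hw := hy3 v hv
    have hcomm : ⁅v, y⁆ * x = x * ⁅v, y⁆ := Subgroup.mem_centralizer_iff.mp hx2 _ hw
    have : ⁅v, x * y⁆ = ⁅v, x⁆ * ⁅v, y⁆ := by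
      have e : ⁅v, x * y⁆ = ⁅v, x⁆ * (x * ⁅v, y⁆) * x⁻¹ := by
        simp only [commutatorElement_def]; group
      rw [e, ← hcomm]; group
    rw [this]
    exact W.mul_mem (hx3 v hv) hw
  inv_mem' := by
    rintro x ⟨hx1, hx2, hx3⟩
    refine ⟨Subgroup.inv_mem _ hx1, Subgroup.inv_mem _ hx2, fun v hv => ?_⟩
    have hw := hx3 v hv
    have hcomm : ⁅v, x⁆⁻¹ * x = x * ⁅v, x⁆⁻¹ :=
      Subgroup.mem_centralizer_iff.mp hx2 _ (W.inv_mem hw)
    have : ⁅v, x⁻¹⁆ = ⁅v, x⁆⁻¹ := by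
      have e : ⁅v, x⁻¹⁆ = x⁻¹ * (⁅v, x⁆⁻¹ * x) := by
        simp only [commutatorElement_def]; group
      rw [e, hcomm]; group
    rw [this]
    exact W.inv_mem hw

/-- Elements of the chain stabiliser have `p`-th power centralising `V`. -/
theorem pow_mem_centralizer_of_mem_chainStab {p : ℕ} {V W : Subgroup G} (hWV : W ≤ V)
    (hVp : ∀ v ∈ V, v ^ p = 1) {x : G} (hx : x ∈ chainStab V W) :
    x ^ p ∈ Subgroup.centralizer (V : Set G) := by
  obtain ⟨hx1, hx2, hx3⟩ := hx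
  rw [Subgroup.mem_centralizer_iff]
  intro v hv
  set w := ⁅v, x⁆ with hw
  have hwW : w ∈ W := hx3 v hv
  have hcomm : w * x = x * w := Subgroup.mem_centralizer_iff.mp hx2 _ hwW
  have key : ∀ k : ℕ, ⁅v, x ^ k⁆ = w ^ k := by
    intro k
    induction k with
    | zero => simp
    | succ k ih =>
      have hcommk : w ^ k * x = x * w ^ k := by
        have : Commute w x := hcomm
        exact (this.pow_left k).eq
      have e : ⁅v, x ^ (k + 1)⁆ = w * (x * ⁅v, x ^ k⁆) * x⁻¹ := by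
        rw [hw]; simp only [commutatorElement_def, pow_succ']; group
      rw [e, ih, ← hcommk, pow_succ']; group
  have h1 : ⁅v, x ^ p⁆ = 1 := by rw [key p, hVp w (hWV hwW)]
  exact (commutatorElement_eq_one_iff_mul_comm.mp h1)

/-- If two subnormal subgroups of a faithful group on an elementary abelian p-group satisfy [V, E₁, E₂] = 1, then their commutator lies in the largest normal p-subgroup. -/
theorem result {G : Type*} [Group G] [Finite G] {p : ℕ} [Fact p.Prime] (V H : Subgroup G) (hV : Cfsg.IsElementaryAbelian p V) (hHV : H ≤ Subgroup.normalizer (V : Set G)) (hf : H ⊓ Subgroup.centralizer (V : Set G) = ⊥) (E₁ E₂ : Subgroup G) (h₁ : E₁ ≤ H) (h₂ : E₂ ≤ H) (hs₁ : (E₁.subgroupOf H).IsSubnormal) (hs₂ : (E₂.subgroupOf H).IsSubnormal) (hc : ⁅⁅V, E₁⁆, E₂⁆ = ⊥) : ⁅E₁, E₂⁆ ≤ (Cfsg.pCore p H).map H.subtype := by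
  set W : Subgroup G := ⁅V, E₁⁆ with hW
  have hWV : W ≤ V := commutator_le_of_le_normalizer (h₁.trans hHV)
  have hE₂W : E₂ ≤ Subgroup.centralizer (W : Set G) := by
    rw [Subgroup.le_centralizer_iff]
    exact Subgroup.commutator_eq_bot_iff_le_centralizer.mp hc
  have hE₁W : E₁ ≤ Subgroup.normalizer (W : Set G) := Subgroup.normalizer_commutator_ge_right V E₁
  -- generators lie in the chain stabiliser
  have hgen : ⁅E₁, E₂⁆ ≤ chainStab V W := by
    rw [Subgroup.commutator_le]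
    intro a ha b hb
    have haN : a ∈ Subgroup.normalizer (V : Set G) := hHV (h₁ ha)
    have hbN : b ∈ Subgroup.normalizer (V : Set G) := hHV (h₂ hb)
    have hbC : b ∈ Subgroup.centralizer (W : Set G) := hE₂W hb
    have haW : a ∈ Subgroup.normalizer (W : Set G) := hE₁W ha
    -- a b a⁻¹ centralizes W
    have habC : a * b * a⁻¹ ∈ Subgroup.centralizer (W : Set G) := by
      rw [Subgroup.mem_centralizer_iff]
      intro w hw
      have hw' : a⁻¹ * w * a ∈ W := by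
        have := (Subgroup.mem_normalizer_iff.mp (Subgroup.inv_mem _ haW) w).mp hw
        simpa using this
      have h := Subgroup.mem_centralizer_iff.mp hbC _ hw'
      calc w * (a * b * a⁻¹) = a * ((a⁻¹ * w * a) * b) * a⁻¹ := by group
        _ = a * (b * (a⁻¹ * w * a)) * a⁻¹ := by rw [h]
        _ = a * b * a⁻¹ * w := by group
    refine ⟨?_, ?_, ?_⟩
    · rw [commutatorElement_def]
      exact Subgroup.mul_mem _ (Subgroup.mul_mem _ (Subgroup.mul_mem _ haN hbN)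
        (Subgroup.inv_mem _ haN)) (Subgroup.inv_mem _ hbN)
    · have : ⁅a, b⁆ = (a * b * a⁻¹) * b⁻¹ := by rw [commutatorElement_def]
      rw [this]
      exact Subgroup.mul_mem _ habC (Subgroup.inv_mem _ hbC)
    · intro v hv
      -- ⁅v, a * (b a⁻¹ b⁻¹)⁆ = ⁅v,a⁆ * a ⁅v, b a⁻¹ b⁻¹⁆ a⁻¹
      have hv' : b⁻¹ * v * b ∈ V := by
        have := (Subgroup.mem_normalizer_iff.mp (Subgroup.inv_mem _ hbN) v).mp hv
        simpa using this
      have hw1 : ⁅v, a⁆ ∈ W := Subgroup.commutator_mem_commutator hv ha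
      have hw2 : ⁅b⁻¹ * v * b, a⁻¹⁆ ∈ W :=
        Subgroup.commutator_mem_commutator hv' (E₁.inv_mem ha)
      have hw3 : b * ⁅b⁻¹ * v * b, a⁻¹⁆ * b⁻¹ = ⁅b⁻¹ * v * b, a⁻¹⁆ := by
        have h := Subgroup.mem_centralizer_iff.mp hbC _ hw2
        rw [← h]; group
      have hw4 : a * ⁅b⁻¹ * v * b, a⁻¹⁆ * a⁻¹ ∈ W :=
        (Subgroup.mem_normalizer_iff.mp haW _).mp hw2
      have e : ⁅v, ⁅a, b⁆⁆ = ⁅v, a⁆ * (a * (b * ⁅b⁻¹ * v * b, a⁻¹⁆ * b⁻¹) * a⁻¹) := by
        simp only [commutatorElement_def]; group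
      rw [e, hw3]
      exact W.mul_mem hw1 hw4
  -- T is a p-group
  have hTp : IsPGroup p (⁅E₁, E₂⁆ : Subgroup G) := by
    intro t
    refine ⟨1, ?_⟩
    have h1 : (t : G) ^ p ∈ Subgroup.centralizer (V : Set G) :=
      pow_mem_centralizer_of_mem_chainStab hWV hV.2 (hgen t.2)
    have hTH : ⁅E₁, E₂⁆ ≤ H := (Subgroup.commutator_le_sup E₁ E₂).trans (sup_le h₁ h₂)
    have h2 : (t : G) ^ p ∈ H := H.pow_mem (hTH t.2) p
    have h3 : (t : G) ^ p ∈ H ⊓ Subgroup.centralizer (V : Set G) := ⟨h2, h1⟩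
    rw [hf, Subgroup.mem_bot] at h3
    apply Subtype.ext
    simpa using h3
  -- join is subnormal
  have hD : ((E₁ ⊔ E₂).subgroupOf H).IsSubnormal := by
    rw [Subgroup.subgroupOf_sup h₁ h₂]
    exact Cfsg.Agent.Lib.Helper9.isSubnormal_sup _ H rfl _ _ hs₁ hs₂
  have h5 : ⁅E₁, E₂⁆ ≤ (pCore p (E₁ ⊔ E₂ : Subgroup G)).map (E₁ ⊔ E₂ : Subgroup G).subtype :=
    le_map_pCore_of_normal_subgroupOf (Subgroup.commutator_le_sup E₁ E₂) inferInstance hTp
  exact h5.trans (map_pCore_le_map_pCore_of_isSubnormal p (sup_le h₁ h₂) hD)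

end Cfsg.Agent.S0597
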