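import Cfsg.Statements.S0609
-- import your own Cfsg.Agent.* helpers here
import Cfsg.Agent.Lib.Helper97.CoprimeQuot
import Cfsg.Agent.Lib.Helper97.ThompsonMap

set_option autoImplicit false
open Cfsg

namespace Cfsg.Agent.S0609

open Cfsg.Agent.Lib.Helper97

/-- Thompson factorizability passes to and from the quotient by the largest normal subgroup of order prime to p. -/
theorem result {G : Type*} [Group G] [Finite G] {p : ℕ} [Fact p.Prime] : Cfsg.IsThompsonFactorizable p G ↔ Cfsg.IsThompsonFactorizable p (G ⧸ Cfsg.pPrimeCore p G) := by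
  have hNcop : (Nat.card (pPrimeCore p G)).Coprime p := card_pPrimeCore_coprime p
  have hsurj : Function.Surjective (QuotientGroup.mk' (pPrimeCore p G)) :=
    QuotientGroup.mk'_surjective _
  -- injectivity of the quotient map on Sylow subgroups
  have hinj : ∀ S : Sylow p G, ∀ x ∈ (S : Subgroup G),
      (QuotientGroup.mk' (pPrimeCore p G)) x = 1 → x = 1 := by
    intro S x hx h1
    have h2 : x ∈ pPrimeCore p G := (QuotientGroup.eq_one_iff x).mp h1
    have h3 : (S : Subgroup G) ⊓ pPrimeCore p G = ⊥ :=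
      inf_eq_bot_of_isPGroup_of_coprime S.isPGroup' hNcop
    have h4 : x ∈ (S : Subgroup G) ⊓ pPrimeCore p G := ⟨hx, h2⟩
    rw [h3, Subgroup.mem_bot] at h4
    exact h4
  constructor
  · intro hG T gbar
    obtain ⟨S, rfl⟩ := Sylow.mapSurjective_surjective hsurj p T
    obtain ⟨g, rfl⟩ := hsurj gbar
    obtain ⟨x, hx, c, hc, n, hn, rfl⟩ := hG S g
    rw [Sylow.coe_mapSurjective, omegaOne_center_map_of_injOn p _ _ (hinj S),
      thompsonSubgroupOf_map_of_injOn p _ _ (hinj S)]
    refine ⟨1, one_mem _, (QuotientGroup.mk' (pPrimeCore p G)) c, ?_,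
      (QuotientGroup.mk' (pPrimeCore p G)) n, ?_, ?_⟩
    · rw [Subgroup.mem_centralizer_iff]
      rintro _ ⟨v, hv, rfl⟩
      rw [← map_mul, ← map_mul, (Subgroup.mem_centralizer_iff.mp hc) v hv]
    · exact Subgroup.le_normalizer_map _ (Subgroup.mem_map_of_mem _ hn)
    · have : (QuotientGroup.mk' (pPrimeCore p G)) x = 1 := (QuotientGroup.eq_one_iff x).mpr hx
      rw [map_mul, map_mul, this]
  · intro hQ S g
    obtain ⟨xbar, hxbar, cbar, hcbar, nbar, hnbar, hg⟩ :=
      hQ (Sylow.mapSurjective hsurj S) ((QuotientGroup.mk' (pPrimeCore p G)) g)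
    rw [Sylow.coe_mapSurjective, omegaOne_center_map_of_injOn p _ _ (hinj S)] at hcbar
    rw [Sylow.coe_mapSurjective, thompsonSubgroupOf_map_of_injOn p _ _ (hinj S)] at hnbar
    rw [pPrimeCore_quotient_pPrimeCore, Subgroup.mem_bot] at hxbar
    have hΩ : IsPGroup p (omegaOne p ((S : Subgroup G) ⊓
        Subgroup.centralizer ((S : Subgroup G) : Set G))) :=
      S.isPGroup'.to_le ((omegaOne_le p _).trans inf_le_left)
    have hJ : IsPGroup p (thompsonSubgroupOf p (S : Subgroup G)) :=
      S.isPGroup'.to_le (thompsonSubgroupOf_le p _)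
    rw [centralizer_map_mk_of_coprime hΩ hNcop] at hcbar
    rw [normalizer_map_mk_of_coprime hJ hNcop] at hnbar
    obtain ⟨c, hc, rfl⟩ := hcbar
    obtain ⟨n, hn, rfl⟩ := hnbar
    refine ⟨g * (c * n)⁻¹, ?_, c, hc, n, hn, by group⟩
    rw [← QuotientGroup.eq_one_iff]
    have : ((g * (c * n)⁻¹ : G) : G ⧸ pPrimeCore p G) =
        (QuotientGroup.mk' (pPrimeCore p G)) g * ((QuotientGroup.mk' (pPrimeCore p G)) c *
          (QuotientGroup.mk' (pPrimeCore p G)) n)⁻¹ := by simp
    rw [this, hg, hxbar, one_mul, mul_inv_cancel]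

end Cfsg.Agent.S0609
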