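import Mathlib
import Cfsg.Statements.S0619
import Cfsg.Agent.Lib.Helper64.FaithfulAmbient
import Cfsg.Agent.Lib.Helper97.Thompson3
-- import your own Cfsg.Agent.* helpers here

set_option autoImplicit false
open Cfsg

namespace Cfsg.Agent.S0619

open Cfsg.Agent.Lib.Helper97 in
/-- the key step: for a maximal elementary abelian `A`, `[W, A] ≤ V`. -/
theorem key {G : Type*} [Group G] [Finite G] {p : ℕ} [Fact p.Prime] (hsep : Cfsg.IsPSolvable p G)
    (V : Subgroup G) [V.Normal] (hV : Cfsg.IsElementaryAbelian p V)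
    (hO : Cfsg.pCore p (G ⧸ Subgroup.centralizer (V : Set G)) = ⊥)
    (A : Subgroup G) (hA : A ∈ Cfsg.maxElementaryAbelianSubgroups p G)
    (w : G) (hw : w ∈ Cfsg.omegaOne p (Cfsg.centerThompsonOf p (Subgroup.centralizer (V : Set G))))
    (a : G) (ha : a ∈ A) : w * a * w⁻¹ * a⁻¹ ∈ V := by
  set C := Subgroup.centralizer (V : Set G) with hC
  have hbo := max_isBestOffenderOn V hV A hA
  have hcount := Cfsg.Agent.Lib.Helper64.FaithfulAmbient.card_mul_card_eq V hsep hV hO A hA.1 hbo.1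
  -- A₀ = C_A(V) V
  have hVC : V ≤ C := by
    intro v hv
    rw [hC, Subgroup.mem_centralizer_iff]
    intro u hu
    exact IsElementaryAbelian_comm hV hu hv
  have hcomm : ∀ x ∈ A ⊓ C, ∀ v ∈ V, x * v = v * x := by
    intro x hx v hv
    exact ((Subgroup.mem_centralizer_iff.mp hx.2) v hv).symm
  have hA₀el : Cfsg.IsElementaryAbelian p ((A ⊓ C) ⊔ V) :=
    isElementaryAbelian_sup (isElementaryAbelian_mono inf_le_left hA.1) hV hcomm
  have hinf : (A ⊓ C) ⊓ V ≤ V ⊓ Subgroup.centralizer (A : Set G) := by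
    intro x hx
    refine ⟨hx.2, ?_⟩
    show x ∈ Subgroup.centralizer (A : Set G)
    rw [Subgroup.mem_centralizer_iff]
    intro b hb
    exact IsElementaryAbelian_comm hA.1 hb hx.1.1
  have hcardA₀ : Nat.card A ≤ Nat.card ((A ⊓ C) ⊔ V : Subgroup G) := by
    have h1 := card_mul_card_le_sup_mul_inf (A ⊓ C) V
    have h2 : Nat.card ((A ⊓ C) ⊓ V : Subgroup G) ≤
        Nat.card (V ⊓ Subgroup.centralizer (A : Set G) : Subgroup G) :=
      Nat.card_mono (Set.toFinite _) hinf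
    have hpos : 0 < Nat.card (V ⊓ Subgroup.centralizer (A : Set G) : Subgroup G) := Nat.card_pos
    have h3 : Nat.card A * Nat.card (V ⊓ Subgroup.centralizer (A : Set G) : Subgroup G) ≤
        Nat.card ((A ⊓ C) ⊔ V : Subgroup G) *
          Nat.card (V ⊓ Subgroup.centralizer (A : Set G) : Subgroup G) := by
      calc Nat.card A * Nat.card (V ⊓ Subgroup.centralizer (A : Set G) : Subgroup G)
          = Nat.card (A ⊓ C : Subgroup G) * Nat.card V := by rw [hcount, mul_comm]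
        _ ≤ Nat.card ((A ⊓ C) ⊔ V : Subgroup G) * Nat.card ((A ⊓ C) ⊓ V : Subgroup G) := h1
        _ ≤ _ := Nat.mul_le_mul_left _ h2
    exact Nat.le_of_mul_le_mul_right h3 hpos
  have hA₀ : ((A ⊓ C) ⊔ V) ∈ Cfsg.maxElementaryAbelianSubgroups p G :=
    ⟨hA₀el, fun B hB => (hA.2 B hB).trans hcardA₀⟩
  have hA₀C : (A ⊓ C) ⊔ V ≤ C := sup_le inf_le_right hVC
  have hJ : (A ⊓ C) ⊔ V ≤ Cfsg.thompsonSubgroupOf p C := by
    rw [thompsonSubgroupOf_eq_sSup C hA₀ hA₀C]
    exact le_sSup ⟨hA₀, hA₀C⟩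
  -- W is elementary abelian and centralizes J(C)
  set W := Cfsg.omegaOne p (Cfsg.centerThompsonOf p C) with hW
  have hWcent : W ≤ Subgroup.centralizer (Cfsg.thompsonSubgroupOf p C : Set G) := by
    rw [hW]
    unfold Cfsg.omegaOne
    rw [Subgroup.closure_le]
    rintro x ⟨hx, -⟩
    exact hx.2
  have hWel : Cfsg.IsElementaryAbelian p W := by
    rw [hW]
    unfold Cfsg.omegaOne
    apply isElementaryAbelian_closure
    · rintro x ⟨hx, -⟩ y ⟨hy, -⟩
      exact ((Subgroup.mem_centralizer_iff.mp hy.2) x hx.1)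
    · rintro x ⟨-, hx⟩
      exact hx
  have hWA₀ : W ≤ (A ⊓ C) ⊔ V := by
    apply le_of_max_of_commute hA₀ hWel
    intro x hx y hy
    exact (Subgroup.mem_centralizer_iff.mp (hWcent hy)) x (hJ hx)
  have hw' : w ∈ ((A ⊓ C) ⊔ V : Subgroup G) := hWA₀ hw
  rw [← SetLike.mem_coe, Subgroup.mul_normal] at hw'
  obtain ⟨c, hc, v, hv, rfl⟩ := Set.mem_mul.mp hw'
  have hca : c * a = a * c := IsElementaryAbelian_comm hA.1 hc.1 ha
  have h1 : c * v * a * (c * v)⁻¹ * a⁻¹ = c * (v * (a * v⁻¹ * a⁻¹)) * c⁻¹ := by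
    have hca' : c⁻¹ * a⁻¹ = a⁻¹ * c⁻¹ := by
      rw [← mul_inv_rev, ← mul_inv_rev, hca]
    calc c * v * a * (c * v)⁻¹ * a⁻¹ = c * v * a * v⁻¹ * (c⁻¹ * a⁻¹) := by group
      _ = c * v * a * v⁻¹ * (a⁻¹ * c⁻¹) := by rw [hca']
      _ = _ := by group
  rw [h1]
  apply ‹V.Normal›.conj_mem
  exact V.mul_mem hv (‹V.Normal›.conj_mem _ (V.inv_mem hv) a)

/-- For a p-separable group and a normal elementary abelian p-subgroup V with no nontrivial normal p-subgroup modulo its centralizer C, the Thompson subgroup J(G) moves Ω₁(Z(J(C))) only inside V. -/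
theorem result {G : Type*} [Group G] [Finite G] {p : ℕ} [Fact p.Prime] (hsep : Cfsg.IsPSolvable p G) (V : Subgroup G) [V.Normal] (hV : Cfsg.IsElementaryAbelian p V) (hO : Cfsg.pCore p (G ⧸ Subgroup.centralizer (V : Set G)) = ⊥) : ⁅Cfsg.omegaOne p (Cfsg.centerThompsonOf p (Subgroup.centralizer (V : Set G))), Cfsg.thompsonSubgroup p G⁆ ≤ V := by
  -- the subgroup of elements centralizing `W` modulo `V`
  let W := Cfsg.omegaOne p (Cfsg.centerThompsonOf p (Subgroup.centralizer (V : Set G)))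
  let T : Subgroup G :=
    (Subgroup.centralizer ((W.map (QuotientGroup.mk' V) : Subgroup (G ⧸ V)) : Set (G ⧸ V))).comap
      (QuotientGroup.mk' V)
  have hT : ∀ g : G, g ∈ T ↔ ∀ w ∈ W, w * g * w⁻¹ * g⁻¹ ∈ V := by
    intro g
    show (QuotientGroup.mk' V g) ∈ Subgroup.centralizer _ ↔ _
    rw [Subgroup.mem_centralizer_iff]
    constructor
    · intro h w hw
      have h1 := h (QuotientGroup.mk' V w) ⟨w, hw, rfl⟩
      rw [← map_mul, ← map_mul] at h1
      have h2 : (g * w)⁻¹ * (w * g) ∈ V := by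
        have := (QuotientGroup.eq (s := V)).mp h1.symm
        exact this
      have h3 : w * g * w⁻¹ * g⁻¹ = (g * w) * ((g * w)⁻¹ * (w * g)) * (g * w)⁻¹ := by group
      rw [h3]
      exact ‹V.Normal›.conj_mem _ h2 _
    · rintro h _ ⟨w, hw, rfl⟩
      rw [← map_mul, ← map_mul]
      symm
      apply (QuotientGroup.eq (s := V)).mpr
      have h2 := h w hw
      have h3 : (g * w)⁻¹ * (w * g) = (g * w)⁻¹ * (w * g * w⁻¹ * g⁻¹) * (g * w)⁻¹⁻¹ := by group
      rw [h3]
      exact ‹V.Normal›.conj_mem _ h2 _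
  have hJT : Cfsg.thompsonSubgroup p G ≤ T := by
    unfold Cfsg.thompsonSubgroup
    apply sSup_le
    intro A hA a ha
    rw [hT]
    intro w hw
    exact key hsep V hV hO A hA w hw a ha
  rw [Subgroup.commutator_le]
  intro w hw g hg
  have := (hT g).mp (hJT hg) w hw
  rw [commutatorElement_def]
  exact this

end Cfsg.Agent.S0619
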