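import Cfsg.Statements.S0625
-- import your own Cfsg.Agent.* helpers here
import Cfsg.Agent.S0624
import Cfsg.Agent.Lib.Helper32.HHQStable
import Cfsg.Agent.Lib.Helper97.PAbelianP

set_option autoImplicit false
open Cfsg

namespace Cfsg.Agent.S0625

open Cfsg.Agent.Lib.Helper97 Cfsg.Agent.Lib.Helper32

universe u

/-- `p ≥ 5`: a finite `p`-solvable group is `p`-stable in the action sense
(adapted from `Cfsg.Agent.S0628.isActionPStable_of_isPAbelianP`, helper97). -/
theorem isActionPStable_of_isPSolvable {G : Type u} [Group G] [Finite G] {p : ℕ} [Fact p.Prime]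
    (h5 : 5 ≤ p) (hG : IsPSolvable p G) : IsActionPStable p G := by
  refine ⟨fun V _ hV => isPStableOn_of_isPSolvable h5 hG V hV, ?_, ?_⟩
  · exact isPStableOnSection_of_isPSolvable h5 hG _ _
      (commutator_le_map_frattini (isPGroup_pCore p G))
      (fun x hx => pow_prime_mem_map_frattini (isPGroup_pCore p G) hx)
  · intro S V _ hle
    apply isPStableOn_of_isPSolvable h5 (isPSolvable_subgroup p hG _) V
    apply isElementaryAbelian_of_map_subtype
    exact isElementaryAbelian_mono hle (isElementaryAbelian_map _
      (Cfsg.Agent.S0624.isElementaryAbelian_omegaCenterThompson p _))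

/-- A p-separable group with p at least 5 is p-stable in the action sense. -/
theorem result {G : Type*} [Group G] [Finite G] {p : ℕ} [Fact p.Prime] (hp : 5 ≤ p) (hsep : Cfsg.IsPSolvable p G) : Cfsg.IsActionPStable p G := by
  exact isActionPStable_of_isPSolvable hp hsep

end Cfsg.Agent.S0625
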