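import Cfsg.Statements.S0627
-- import your own Cfsg.Agent.* helpers here
import Cfsg.Agent.S0622
import Cfsg.Agent.S0624
import Cfsg.Agent.S0625
import Cfsg.Agent.Lib.Helper32.HHQStable
import Cfsg.Agent.Lib.Helper97.ThompsonMap
import Cfsg.Agent.Lib.Helper47.SylowLemmas

set_option autoImplicit false
open Cfsg

namespace Cfsg.Agent.S0627

open Cfsg.Agent.Lib.Helper97 Cfsg.Agent.Lib.Helper32 Cfsg.Agent.Lib.Helper76

universe u

/-- `W(S)` is transported by homomorphisms injective on `S`. -/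
theorem stableNormalClosure_map_of_injOn {G G' : Type u} [Group G] [Group G'] (p : ℕ)
    [Fact p.Prime] (f : G →* G') (P : Subgroup G) [Finite P] (hP : IsPGroup p P)
    (hf : ∀ x ∈ P, f x = 1 → x = 1) :
    ((stableNormalClosure p ↥P).map P.subtype).map f =
      (stableNormalClosure p ↥(P.map f)).map (P.map f).subtype := by
  have h1 := (Cfsg.Agent.S0622.result hP).2.2.2.2 ↥(P.map f) (equivMapOfInjOn f P hf)
  rw [← h1, Subgroup.map_map, Subgroup.map_map]
  congr 1

theorem main {G : Type u} [Group G] [Finite G] {p : ℕ} [Fact p.Prime] (hp : 5 ≤ p)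
    (hsep : Cfsg.IsPSolvable p G) (S : Sylow p G) :
    Cfsg.pPrimeCore p G ⊔ Subgroup.normalizer
      (((Cfsg.stableNormalClosure p ↥(S : Subgroup G)).map (S : Subgroup G).subtype) : Set G) = ⊤ := by
  have hpp : p.Prime := Fact.out
  have hKn : (pPrimeCore p G).Normal := inferInstance
  have hKcop : (Nat.card (pPrimeCore p G)).Coprime p := pPrimeCore_coprime p
  obtain ⟨K, hK⟩ : ∃ K : Subgroup G, K = pPrimeCore p G := ⟨_, rfl⟩
  rw [← hK] at hKn hKcop ⊢
  have hsurj : Function.Surjective (QuotientGroup.mk' K) := QuotientGroup.mk'_surjective K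
  -- `S ∩ K = 1`
  have hSK : ∀ x ∈ (S : Subgroup G), x ∈ K → x = 1 := by
    intro x hxS hxK
    obtain ⟨k, hk⟩ := (IsPGroup.iff_orderOf.mp S.isPGroup') ⟨x, hxS⟩
    rw [Subgroup.orderOf_mk] at hk
    have h1 : orderOf x ∣ Nat.card K := by
      have := orderOf_dvd_natCard (⟨x, hxK⟩ : K)
      rwa [Subgroup.orderOf_mk] at this
    have h2 : orderOf x ∣ Nat.gcd (Nat.card K) (p ^ k) := Nat.dvd_gcd h1 (by rw [hk])
    rw [(Nat.Coprime.pow_right k hKcop).gcd_eq_one, Nat.dvd_one] at h2
    exact orderOf_eq_one_iff.mp h2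
  have hinj : ∀ x ∈ (S : Subgroup G), (QuotientGroup.mk' K) x = 1 → x = 1 := by
    intro x hx h
    exact hSK x hx ((QuotientGroup.eq_one_iff x).mp h)
  -- the quotient
  have hsolv' : IsPSolvable p (G ⧸ K) := IsPSolvable_of_surjective p _ hsurj hsep
  have hcore : ∀ N : Subgroup (G ⧸ K), N.Normal → (Nat.card N).Coprime p → N = ⊥ := by
    subst hK
    exact quotient_pPrimeCore_core_trivial p
  have hc : Subgroup.centralizer (pCore p (G ⧸ K) : Set (G ⧸ K)) ≤ pCore p (G ⧸ K) :=
    centralizer_pCore_le p hsolv' hcore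
  have hst : IsActionPStable p (G ⧸ K) :=
    Cfsg.Agent.S0625.isActionPStable_of_isPSolvable hp hsolv'
  have hWn := Cfsg.Agent.S0624.result hst hc (S.mapSurjective hsurj)
  rw [Sylow.coe_mapSurjective,
    ← stableNormalClosure_map_of_injOn p (QuotientGroup.mk' K) (S : Subgroup G) S.isPGroup' hinj]
    at hWn
  obtain ⟨W, hW⟩ : ∃ W : Subgroup G,
    W = (stableNormalClosure p ↥(S : Subgroup G)).map (S : Subgroup G).subtype := ⟨_, rfl⟩
  rw [← hW] at hWn ⊢
  have hWS : W ≤ (S : Subgroup G) := by rw [hW]; exact Subgroup.map_subtype_le _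
  -- `N = W K` is normal
  have hNn : (W ⊔ K).Normal := by
    have h1 : (W.map (QuotientGroup.mk' K)).comap (QuotientGroup.mk' K) = W ⊔ K := by
      rw [Subgroup.comap_map_eq, QuotientGroup.ker_mk']
    rw [← h1]
    exact hWn.comap _
  -- `S ∩ N = W`
  have hSN : (S : Subgroup G) ⊓ (W ⊔ K) = W := by
    apply le_antisymm
    · rintro x ⟨hxS, hxN⟩
      have hxS : x ∈ (S : Subgroup G) := hxS
      have hxN : x ∈ W ⊔ K := hxN
      rw [Subgroup.mem_sup_of_normal_right] at hxN
      obtain ⟨w, hw, k, hk, rfl⟩ := hxN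
      have hkS : k ∈ (S : Subgroup G) := by
        have := mul_mem (inv_mem (hWS hw)) hxS
        simpa using this
      rw [hSK k hkS hk, mul_one]
      exact hw
    · exact le_inf hWS le_sup_left
  obtain ⟨P, hP⟩ := Cfsg.Agent.Lib.Helper47.exists_sylow_eq_subgroupOf_of_normal S (W ⊔ K)
  have hfr := Sylow.normalizer_sup_eq_top P
  have hPW : (P : Subgroup ↥(W ⊔ K)).map (W ⊔ K).subtype = W := by
    rw [hP, Subgroup.subgroupOf_map_subtype, hSN]
  rw [hPW] at hfr
  rw [eq_top_iff, ← hfr]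
  apply sup_le
  · exact le_sup_right
  · apply sup_le
    · exact (Subgroup.le_normalizer).trans le_sup_right
    · exact le_sup_left

/-- In a p-separable group with p at least 5, the normalizer of W(S) supplements the largest normal subgroup of order prime to p. -/
theorem result {G : Type*} [Group G] [Finite G] {p : ℕ} [Fact p.Prime] (hp : 5 ≤ p) (hsep : Cfsg.IsPSolvable p G) (S : Sylow p G) : Cfsg.pPrimeCore p G ⊔ Subgroup.normalizer (((Cfsg.stableNormalClosure p ↥(S : Subgroup G)).map (S : Subgroup G).subtype) : Set G) = ⊤ := by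
  exact main hp hsep S

end Cfsg.Agent.S0627
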