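import Cfsg.Statements.S0629
import Cfsg.Agent.Lib.Helper76.PCore
import Cfsg.Agent.Lib.Helper55.Cores2

set_option autoImplicit false
open Cfsg

namespace Cfsg.Agent.S0629

section general
variable {G : Type*} [Group G] [Finite G] {p : ℕ} [Fact p.Prime]

/-- the image of a Sylow `p`-subgroup of the preimage of a normal `p`-subgroup `R` of `G ⧸ K` is `R` -/
theorem map_sylow_eq (K : Subgroup G) [K.Normal] (R : Subgroup (G ⧸ K)) (hR : IsPGroup p R)
    (Q : Sylow p ↥(R.comap (QuotientGroup.mk' K))) :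
    ((Q : Subgroup ↥(R.comap (QuotientGroup.mk' K))).map
      (R.comap (QuotientGroup.mk' K)).subtype).map (QuotientGroup.mk' K) = R := by
  apply le_antisymm
  · rintro _ ⟨x, ⟨q, _, rfl⟩, rfl⟩
    exact q.2
  · intro y hy
    have hf : Function.Surjective ((QuotientGroup.mk' K).subgroupComap R) :=
      MonoidHom.subgroupComap_surjective_of_surjective _ R (QuotientGroup.mk'_surjective K)
    have htop : ((Q.mapSurjective hf : Sylow p ↥R) : Subgroup ↥R) = ⊤ := by
      have h1 : IsPGroup p (⊤ : Subgroup ↥R) := hR.to_subgroup ⊤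
      exact ((Q.mapSurjective hf).is_maximal' h1 le_top).symm
    have hy' : (⟨y, hy⟩ : ↥R) ∈ ((Q.mapSurjective hf : Sylow p ↥R) : Subgroup ↥R) := by
      rw [htop]; exact Subgroup.mem_top _
    rw [Sylow.coe_mapSurjective] at hy'
    obtain ⟨q, hq, hqy⟩ := hy'
    refine ⟨q.1, ⟨q, hq, rfl⟩, ?_⟩
    exact congrArg Subtype.val hqy

end general

section abstract
variable {H : Type*} [Group H] [Finite H] {p : ℕ} [Fact p.Prime]

/-- a normal `p`-solvable subgroup `D` of `H`, where `O_{p'}(H) = 1`, which centralizes `O_p(H)`,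
lies in `O_p(H)` -/
theorem le_pCore_of_psolvable_of_centralizes (D : Subgroup H) [hDn : D.Normal]
    (hDsol : IsPSolvable p ↥D) (hpp : pPrimeCore p H = ⊥)
    (hcent : ∀ d ∈ D, ∀ r ∈ pCore p H, r * d = d * r) : D ≤ pCore p H := by
  have hcore : ∀ N : Subgroup ↥D, N.Normal → (Nat.card N).Coprime p → N = ⊥ := by
    intro N hN hcop
    have h1 : pPrimeCore p ↥D = ⊥ := Cfsg.Agent.Lib.Helper55.pPrimeCore_eq_bot_of_normal p D hpp
    have h2 : N ≤ pPrimeCore p ↥D := Cfsg.Agent.Lib.Helper76.le_pPrimeCore p N hN hcop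
    rw [h1] at h2
    exact le_bot_iff.mp h2
  have hHH := Cfsg.Agent.Lib.Helper76.centralizer_pCore_le p hDsol hcore
  have hcent' : Subgroup.centralizer (pCore p ↥D : Set ↥D) = ⊤ := by
    rw [eq_top_iff]
    intro d _
    rw [Subgroup.mem_centralizer_iff]
    intro r hr
    have hr1 : (r : H) ∈ pCore p H :=
      Cfsg.Agent.Lib.Helper55.pCore_map_subtype_le p D ⟨r, hr, rfl⟩
    apply Subtype.ext
    exact hcent d.1 d.2 r.1 hr1
  rw [hcent'] at hHH
  have hDp : IsPGroup p ↥D := by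
    intro d
    obtain ⟨k, hk⟩ := (Cfsg.Agent.Lib.Helper76.pCore_isPGroup p (G := ↥D))
      ⟨d, hHH (Subgroup.mem_top d)⟩
    exact ⟨k, by simpa using congrArg Subtype.val hk⟩
  exact Cfsg.Agent.Lib.Helper76.le_pCore p D hDn hDp

end abstract

section main
variable {G : Type*} [Group G] [Finite G] {p : ℕ} [Fact p.Prime]

theorem pPrimePCore_normal : (pPrimePCore p G).Normal := by
  unfold pPrimePCore
  infer_instance

/-- image of a Sylow `p`-subgroup of `O_{p',p}(G)` in `G/O_{p'}(G)` -/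
theorem map_sylow_pPrimePCore (Q : Sylow p ↥(pPrimePCore p G)) :
    ((Q : Subgroup ↥(pPrimePCore p G)).map (pPrimePCore p G).subtype).map
      (QuotientGroup.mk' (pPrimeCore p G)) = pCore p (G ⧸ pPrimeCore p G) :=
  map_sylow_eq (pPrimeCore p G) (pCore p (G ⧸ pPrimeCore p G))
    (Cfsg.Agent.Lib.Helper76.pCore_isPGroup p) Q

/-- Frattini: every coset of `O_{p'}(G)` meets `N_G(P)` -/
theorem exists_mem_normalizer (P : Sylow p ↥(pPrimePCore p G)) (g : G) :
    ∃ n ∈ Subgroup.normalizer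
      (((P : Subgroup ↥(pPrimePCore p G)).map (pPrimePCore p G).subtype : Subgroup G) : Set G),
      QuotientGroup.mk' (pPrimeCore p G) n = QuotientGroup.mk' (pPrimeCore p G) g := by
  haveI : (pPrimePCore p G).Normal := pPrimePCore_normal
  have h := Sylow.normalizer_sup_eq_top P
  have hg : g ∈ Subgroup.normalizer
      (((P : Subgroup ↥(pPrimePCore p G)).map (pPrimePCore p G).subtype : Subgroup G) : Set G)
      ⊔ pPrimePCore p G := by
    rw [h]; exact Subgroup.mem_top g
  obtain ⟨n, hn, m, hm, rfl⟩ := Subgroup.mem_sup_of_normal_right.mp hg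
  have hm' : QuotientGroup.mk' (pPrimeCore p G) m ∈ pCore p (G ⧸ pPrimeCore p G) := hm
  rw [← map_sylow_pPrimePCore P] at hm'
  obtain ⟨x, hx, hxm⟩ := hm'
  refine ⟨n * x, Subgroup.mul_mem _ hn (Subgroup.le_normalizer hx), ?_⟩
  rw [map_mul, map_mul, hxm]

/-- the image of `C_G(P)` in `G/O_{p'}(G)` is normal -/
theorem map_centralizer_normal (P : Sylow p ↥(pPrimePCore p G)) :
    ((Subgroup.centralizer
      (((P : Subgroup ↥(pPrimePCore p G)).map (pPrimePCore p G).subtype : Subgroup G) : Set G)).map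
      (QuotientGroup.mk' (pPrimeCore p G))).Normal := by
  constructor
  rintro _ ⟨c, hc, rfl⟩ y
  obtain ⟨g, rfl⟩ := QuotientGroup.mk'_surjective _ y
  obtain ⟨n, hn, hng⟩ := exists_mem_normalizer P g
  rw [← hng, ← map_mul, ← map_inv, ← map_mul]
  refine ⟨n * c * n⁻¹, ?_, rfl⟩
  rw [SetLike.mem_coe, Subgroup.mem_centralizer_iff] at hc ⊢
  intro x hx
  have hx' : n⁻¹ * x * n ∈ ((P : Subgroup ↥(pPrimePCore p G)).map
      (pPrimePCore p G).subtype : Subgroup G) := by
    have := (Subgroup.mem_normalizer_iff.mp (inv_mem hn) x).mp hx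
    simpa using this
  have h1 := hc _ hx'
  calc x * (n * c * n⁻¹) = n * ((n⁻¹ * x * n) * c) * n⁻¹ := by group
    _ = n * (c * (n⁻¹ * x * n)) * n⁻¹ := by rw [h1]
    _ = n * c * n⁻¹ * x := by group

/-- the centralizer of one Sylow `p`-subgroup of `O_{p',p}(G)` lies in `O_{p',p}(G)` -/
theorem centralizer_le_one (P : Sylow p ↥(pPrimePCore p G))
    (hsol : IsPSolvable p ↥(Subgroup.centralizer
      (((P : Subgroup ↥(pPrimePCore p G)).map (pPrimePCore p G).subtype : Subgroup G) : Set G))) :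
    Subgroup.centralizer
      (((P : Subgroup ↥(pPrimePCore p G)).map (pPrimePCore p G).subtype : Subgroup G) : Set G)
      ≤ pPrimePCore p G := by
  haveI := map_centralizer_normal P
  have hDsol : IsPSolvable p ↥((Subgroup.centralizer
      (((P : Subgroup ↥(pPrimePCore p G)).map (pPrimePCore p G).subtype : Subgroup G) : Set G)).map
      (QuotientGroup.mk' (pPrimeCore p G))) :=
    Cfsg.Agent.Lib.Helper76.IsPSolvable_of_surjective p
      ((QuotientGroup.mk' (pPrimeCore p G)).subgroupMap _)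
      (MonoidHom.subgroupMap_surjective _ _) hsol
  have hpp : pPrimeCore p (G ⧸ pPrimeCore p G) = ⊥ :=
    Cfsg.Agent.Lib.Helper55.pPrimeCore_quotient_pPrimeCore p
  have hle := le_pCore_of_psolvable_of_centralizes (p := p) _ hDsol hpp (by
    rintro _ ⟨c, hc, rfl⟩ r hr
    rw [← map_sylow_pPrimePCore P] at hr
    obtain ⟨x, hx, rfl⟩ := hr
    rw [← map_mul, ← map_mul, Subgroup.mem_centralizer_iff.mp hc x hx])
  intro c hc
  show QuotientGroup.mk' (pPrimeCore p G) c ∈ pCore p (G ⧸ pPrimeCore p G)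
  exact hle ⟨c, hc, rfl⟩

end main

/-- A group in which the centralizer of a Sylow p-subgroup of O_{p',p}(G) is p-solvable is p-constrained. -/
theorem result {G : Type*} [Group G] [Finite G] {p : ℕ} [Fact p.Prime] (P : Sylow p ↥(Cfsg.pPrimePCore p G)) (hsol : Cfsg.IsPSolvable p ↥(Subgroup.centralizer (((P : Subgroup ↥(Cfsg.pPrimePCore p G)).map (Cfsg.pPrimePCore p G).subtype : Subgroup G) : Set G))) : Cfsg.IsPConstrained p G := by
  intro Q
  haveI : (pPrimePCore p G).Normal := pPrimePCore_normal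
  have hP := centralizer_le_one P hsol
  obtain ⟨g, hg⟩ := MulAction.exists_smul_eq ↥(pPrimePCore p G) P Q
  intro c hc
  rw [Subgroup.mem_centralizer_iff] at hc
  -- g⁻¹ c g centralizes P
  have h1 : (g : G)⁻¹ * c * g ∈ Subgroup.centralizer
      (((P : Subgroup ↥(pPrimePCore p G)).map (pPrimePCore p G).subtype : Subgroup G) : Set G) := by
    rw [Subgroup.mem_centralizer_iff]
    rintro _ ⟨x, hx, rfl⟩
    have hxQ : g * x * g⁻¹ ∈ (Q : Subgroup ↥(pPrimePCore p G)) := by
      rw [← hg, Sylow.coe_subgroup_smul, Subgroup.mem_pointwise_smul_iff_inv_smul_mem]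
      have : (MulAut.conj g)⁻¹ • (g * x * g⁻¹) = x := by
        rw [MulAut.smul_def, MulAut.conj_inv_apply]; group
      rw [this]; exact hx
    have h2 := hc ((pPrimePCore p G).subtype (g * x * g⁻¹)) ⟨_, hxQ, rfl⟩
    simp only [Subgroup.subtype_apply, Subgroup.coe_mul, InvMemClass.coe_inv] at h2 ⊢
    calc (x : G) * ((g : G)⁻¹ * c * g) = (g : G)⁻¹ * (((g : G) * x * (g : G)⁻¹) * c) * g := by group
      _ = (g : G)⁻¹ * (c * ((g : G) * x * (g : G)⁻¹)) * g := by rw [h2]
      _ = (g : G)⁻¹ * c * g * x := by group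
  have h3 := hP h1
  have h4 := (inferInstance : (pPrimePCore p G).Normal).conj_mem _ h3 (g : G)
  have h5 : (g : G) * ((g : G)⁻¹ * c * g) * (g : G)⁻¹ = c := by group
  rwa [h5] at h4

end Cfsg.Agent.S0629
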