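import Cfsg.Statements.S0632
import Cfsg.Agent.S0629

set_option autoImplicit false
open Cfsg

namespace Cfsg.Agent.S0632

section good
variable {G : Type*} [Group G] {p : ℕ} [Fact p.Prime]

/-- intrinsic form of the conclusion of `p`-stability -/
def Good (p : ℕ) (A P : Subgroup G) : Prop :=
  ∃ T : Subgroup G, T ≤ Subgroup.normalizer (P : Set G) ∧
    (∀ n ∈ Subgroup.normalizer (P : Set G), ∀ t ∈ T, n * t * n⁻¹ ∈ T) ∧
    A ⊓ Subgroup.normalizer (P : Set G) ≤ T ∧
    ∀ t ∈ T, ∃ k : ℕ, t ^ (p ^ k) ∈ Subgroup.centralizer (P : Set G)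

theorem good_iff (A P : Subgroup G) :
    (A.subgroupOf (Subgroup.normalizer (P : Set G))).map
          (QuotientGroup.mk' ((Subgroup.centralizer (P : Set G)).subgroupOf
            (Subgroup.normalizer (P : Set G))))
        ≤ pCore p _ ↔ Good p A P := by
  constructor
  · intro h
    refine ⟨((pCore p _).comap (QuotientGroup.mk' ((Subgroup.centralizer (P : Set G)).subgroupOf
            (Subgroup.normalizer (P : Set G))))).map (Subgroup.normalizer (P : Set G)).subtype,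
      Subgroup.map_subtype_le _, ?_, ?_, ?_⟩
    · rintro n hn _ ⟨t, ht, rfl⟩
      refine ⟨⟨n, hn⟩ * t * ⟨n, hn⟩⁻¹, ?_, rfl⟩
      have hnorm : ((pCore p _).comap (QuotientGroup.mk'
          ((Subgroup.centralizer (P : Set G)).subgroupOf
            (Subgroup.normalizer (P : Set G))))).Normal := inferInstance
      exact hnorm.conj_mem t ht ⟨n, hn⟩
    · rintro a ⟨haA, haN⟩
      refine ⟨⟨a, haN⟩, ?_, rfl⟩
      apply h
      exact ⟨⟨a, haN⟩, haA, rfl⟩
    · rintro _ ⟨t, ht, rfl⟩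
      obtain ⟨k, hk⟩ := (Cfsg.Agent.Lib.Helper76.pCore_isPGroup p) ⟨_, ht⟩
      refine ⟨k, ?_⟩
      have hk' := congrArg Subtype.val hk
      simp only [Subgroup.coe_pow, Subgroup.coe_one] at hk'
      rw [← map_pow, QuotientGroup.mk'_apply, QuotientGroup.eq_one_iff] at hk'
      simpa [Subgroup.mem_subgroupOf] using hk'
  · rintro ⟨T, hTN, hTconj, hAT, hTp⟩
    have hnorm : ((T.subgroupOf (Subgroup.normalizer (P : Set G))).map
        (QuotientGroup.mk' ((Subgroup.centralizer (P : Set G)).subgroupOf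
            (Subgroup.normalizer (P : Set G))))).Normal := by
      apply Subgroup.Normal.map _ _ (QuotientGroup.mk'_surjective _)
      constructor
      intro t ht n
      rw [Subgroup.mem_subgroupOf] at ht ⊢
      have := hTconj n.1 n.2 t.1 ht
      simpa using this
    have hpg : IsPGroup p ((T.subgroupOf (Subgroup.normalizer (P : Set G))).map
        (QuotientGroup.mk' ((Subgroup.centralizer (P : Set G)).subgroupOf
            (Subgroup.normalizer (P : Set G))))) := by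
      rintro ⟨_, t, ht, rfl⟩
      rw [SetLike.mem_coe, Subgroup.mem_subgroupOf] at ht
      obtain ⟨k, hk⟩ := hTp t.1 ht
      refine ⟨k, Subtype.ext ?_⟩
      simp only [Subgroup.coe_pow, Subgroup.coe_one]
      rw [← map_pow, QuotientGroup.mk'_apply, QuotientGroup.eq_one_iff, Subgroup.mem_subgroupOf]
      simpa using hk
    refine le_trans ?_ (Cfsg.Agent.Lib.Helper76.le_pCore p _ hnorm hpg)
    apply Subgroup.map_mono
    intro a ha
    rw [Subgroup.mem_subgroupOf] at ha ⊢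
    exact hAT ⟨ha, a.2⟩

end good

section main
variable {G : Type*} [Group G] [Finite G] {p : ℕ} [Fact p.Prime]

theorem inf_eq_bot_of_isPGroup (P : Subgroup G) (hP : IsPGroup p P) :
    pPrimeCore p G ⊓ P = ⊥ := by
  rw [← disjoint_iff]
  apply Subgroup.disjoint_of_coprime_natCard
  obtain ⟨k, hk⟩ := IsPGroup.iff_card.mp hP
  rw [hk]
  exact Nat.Coprime.pow_right k (Cfsg.Agent.Lib.Helper76.pPrimeCore_coprime p)

/-- lifting centralizing elements modulo `O_{p'}(G)` -/
theorem mem_centralizer_of_map (P : Subgroup G) (hP : IsPGroup p P) (x : G)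
    (hx : x ∈ Subgroup.normalizer (P : Set G))
    (hxc : QuotientGroup.mk' (pPrimeCore p G) x ∈ Subgroup.centralizer
      ((P.map (QuotientGroup.mk' (pPrimeCore p G)) : Subgroup (G ⧸ pPrimeCore p G)) :
        Set (G ⧸ pPrimeCore p G))) :
    x ∈ Subgroup.centralizer (P : Set G) := by
  rw [Subgroup.mem_centralizer_iff]
  intro y hy
  have h1 : x * y * x⁻¹ * y⁻¹ ∈ P :=
    P.mul_mem ((Subgroup.mem_normalizer_iff.mp hx y).mp hy) (P.inv_mem hy)
  have h2 : x * y * x⁻¹ * y⁻¹ ∈ pPrimeCore p G := by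
    rw [← QuotientGroup.ker_mk' (pPrimeCore p G), MonoidHom.mem_ker]
    have := Subgroup.mem_centralizer_iff.mp hxc (QuotientGroup.mk' (pPrimeCore p G) y) ⟨y, hy, rfl⟩
    simp only [map_mul, map_inv]
    rw [← this]; group
  have h3 : x * y * x⁻¹ * y⁻¹ ∈ pPrimeCore p G ⊓ P := ⟨h2, h1⟩
  rw [inf_eq_bot_of_isPGroup P hP, Subgroup.mem_bot] at h3
  calc y * x = (x * y * x⁻¹ * y⁻¹)⁻¹ * (x * y) := by group
    _ = x * y := by rw [h3]; group

/-- Frattini argument for a `p`-subgroup `P` with `O_{p'}(G) P` normal -/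
theorem frattini (P : Subgroup G) (hP : IsPGroup p P) (hn : (pPrimeCore p G ⊔ P).Normal) (g : G) :
    ∃ n ∈ Subgroup.normalizer (P : Set G),
      QuotientGroup.mk' (pPrimeCore p G) n = QuotientGroup.mk' (pPrimeCore p G) g := by
  have hp : p.Prime := Fact.out
  have hP' : IsPGroup p (P.subgroupOf (pPrimeCore p G ⊔ P)) := hP.comap_subtype
  have hidx : ¬ p ∣ (P.subgroupOf (pPrimeCore p G ⊔ P)).index := by
    show ¬ p ∣ P.relIndex (pPrimeCore p G ⊔ P)
    have h1 : Nat.card P * P.relIndex (pPrimeCore p G ⊔ P) = Nat.card (pPrimeCore p G ⊔ P : Subgroup G) := by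
      have h1 := Subgroup.card_mul_index (P.subgroupOf (pPrimeCore p G ⊔ P))
      rwa [Nat.card_congr (Subgroup.subgroupOfEquivOfLe (le_sup_right : P ≤ pPrimeCore p G ⊔ P)).toEquiv] at h1
    have h2 : Nat.card (pPrimeCore p G ⊔ P : Subgroup G) ∣ Nat.card P * Nat.card (pPrimeCore p G) := by
      rw [sup_comm]; exact Cfsg.Agent.Lib.Helper76.card_sup_dvd_of_normal P (pPrimeCore p G)
    rw [← h1] at h2
    have h3 : P.relIndex (pPrimeCore p G ⊔ P) ∣ Nat.card (pPrimeCore p G) :=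
      Nat.dvd_of_mul_dvd_mul_left Nat.card_pos h2
    intro h4
    have hcop := (Cfsg.Agent.Lib.Helper76.pPrimeCore_coprime p (G := G))
    exact (hp.coprime_iff_not_dvd.mp hcop.symm) (h4.trans h3)
  have h := Sylow.normalizer_sup_eq_top (hP'.toSylow hidx)
  rw [IsPGroup.toSylow_coe, Subgroup.subgroupOf_map_subtype, inf_eq_left.mpr le_sup_right] at h
  have hg : g ∈ Subgroup.normalizer (P : Set G) ⊔ (pPrimeCore p G ⊔ P) := by
    rw [h]; exact Subgroup.mem_top g
  obtain ⟨n, hn', y, hy, rfl⟩ := Subgroup.mem_sup_of_normal_right.mp hg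
  obtain ⟨k, hk, x, hx, rfl⟩ := Subgroup.mem_sup_of_normal_left.mp hy
  refine ⟨n * x, mul_mem hn' (Subgroup.le_normalizer hx), ?_⟩
  rw [map_mul, map_mul, map_mul]
  have : QuotientGroup.mk' (pPrimeCore p G) k = 1 := (QuotientGroup.eq_one_iff k).mpr hk
  rw [this, one_mul]

theorem stable_of_quotient (hO : pCore p G ≠ ⊥) (h : IsPStable p (G ⧸ pPrimeCore p G)) :
    IsPStable p G := by
  obtain ⟨hodd, _, hmain⟩ := h
  refine ⟨hodd, hO, ?_⟩
  intro A P hA hP hAP hPle hnorm hcomm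
  apply (good_iff A P).mpr
  have hbot : pPrimeCore p (G ⧸ pPrimeCore p G) = ⊥ :=
    Cfsg.Agent.Lib.Helper55.pPrimeCore_quotient_pPrimeCore p
  have hPbar_normal : (P.map (QuotientGroup.mk' (pPrimeCore p G))).Normal := by
    have h1 : P.map (QuotientGroup.mk' (pPrimeCore p G)) =
        (pPrimeCore p G ⊔ P).map (QuotientGroup.mk' (pPrimeCore p G)) := by
      rw [Subgroup.map_sup]
      have : (pPrimeCore p G).map (QuotientGroup.mk' (pPrimeCore p G)) = ⊥ :=
        (Subgroup.map_eq_bot_iff _).mpr (QuotientGroup.ker_mk' _).ge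
      rw [this, bot_sup_eq]
    rw [h1]
    exact hnorm.map _ (QuotientGroup.mk'_surjective _)
  have hnormalizer : Subgroup.normalizer
      ((P.map (QuotientGroup.mk' (pPrimeCore p G)) : Subgroup (G ⧸ pPrimeCore p G)) :
        Set (G ⧸ pPrimeCore p G)) = ⊤ := Subgroup.normalizer_eq_top_iff.mpr hPbar_normal
  have h1 := hmain (A.map (QuotientGroup.mk' (pPrimeCore p G)))
    (P.map (QuotientGroup.mk' (pPrimeCore p G))) (hA.map _) (hP.map _) ?_ ?_ ?_ ?_
  · obtain ⟨T, hTN, hTconj, hAT, hTp⟩ := (good_iff _ _).mp h1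
    refine ⟨T.comap (QuotientGroup.mk' (pPrimeCore p G)) ⊓ Subgroup.normalizer (P : Set G),
      inf_le_right, ?_, ?_, ?_⟩
    · rintro n hn t ⟨htT, htN⟩
      refine ⟨?_, Subgroup.mul_mem _ (Subgroup.mul_mem _ hn htN) (Subgroup.inv_mem _ hn)⟩
      show QuotientGroup.mk' (pPrimeCore p G) (n * t * n⁻¹) ∈ T
      rw [map_mul, map_mul, map_inv]
      exact hTconj _ (by rw [hnormalizer]; exact Subgroup.mem_top _) _ htT
    · rintro a ⟨haA, haN⟩
      refine ⟨hAT ⟨⟨a, haA, rfl⟩, by rw [hnormalizer]; exact Subgroup.mem_top _⟩, haN⟩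
    · rintro t ⟨htT, htN⟩
      obtain ⟨k, hk⟩ := hTp _ htT
      refine ⟨k, mem_centralizer_of_map P hP (t ^ (p ^ k)) (pow_mem htN _) ?_⟩
      rw [map_pow]
      exact hk
  · rintro _ ⟨a, ha, rfl⟩ _ ⟨x, hx, rfl⟩
    exact ⟨a * x * a⁻¹, hAP a ha x hx, by simp⟩
  · intro x hx
    show QuotientGroup.mk' _ x ∈ pCore p _
    exact Cfsg.Agent.Lib.Helper76.le_pCore p
      ((P.map (QuotientGroup.mk' (pPrimeCore p G))).map (QuotientGroup.mk' _))
      (hPbar_normal.map _ (QuotientGroup.mk'_surjective _)) ((hP.map _).map _) ⟨x, hx, rfl⟩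
  · rw [hbot, bot_sup_eq]
    exact hPbar_normal
  · rw [← Subgroup.map_commutator, ← Subgroup.map_commutator, hcomm, Subgroup.map_bot]

theorem stable_quotient (hO : pCore p G ≠ ⊥) (h : IsPStable p G) :
    IsPStable p (G ⧸ pPrimeCore p G) := by
  obtain ⟨hodd, _, hmain⟩ := h
  have hbot : pPrimeCore p (G ⧸ pPrimeCore p G) = ⊥ :=
    Cfsg.Agent.Lib.Helper55.pPrimeCore_quotient_pPrimeCore p
  refine ⟨hodd, ?_, ?_⟩
  · intro hb
    apply hO
    have h1 : (pCore p G).map (QuotientGroup.mk' (pPrimeCore p G)) ≤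
        pCore p (G ⧸ pPrimeCore p G) :=
      Cfsg.Agent.Lib.Helper76.le_pCore p _
        ((inferInstance : (pCore p G).Normal).map _ (QuotientGroup.mk'_surjective _))
        ((Cfsg.Agent.Lib.Helper76.pCore_isPGroup p).map _)
    rw [hb, le_bot_iff, Subgroup.map_eq_bot_iff, QuotientGroup.ker_mk'] at h1
    have h2 := inf_eq_bot_of_isPGroup (pCore p G) (Cfsg.Agent.Lib.Helper76.pCore_isPGroup p)
    rwa [inf_eq_right.mpr h1] at h2
  · intro Ab Pb hAb hPb hAPb hPble hnormb hcommb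
    rw [hbot, bot_sup_eq] at hnormb
    apply (good_iff Ab Pb).mpr
    have hsup : IsPGroup p (Pb ⊔ Ab : Subgroup (G ⧸ pPrimeCore p G)) :=
      hPb.to_sup_of_normal_left hAb
    obtain ⟨TG, hTGp, hTGmap⟩ : ∃ TG : Subgroup G, IsPGroup p TG ∧
        TG.map (QuotientGroup.mk' (pPrimeCore p G)) = Pb ⊔ Ab := by
      obtain ⟨T₀⟩ : Nonempty (Sylow p ↥((Pb ⊔ Ab).comap (QuotientGroup.mk' (pPrimeCore p G)))) :=
        inferInstance
      exact ⟨_, T₀.2.map _, Cfsg.Agent.S0629.map_sylow_eq (pPrimeCore p G) (Pb ⊔ Ab) hsup T₀⟩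
    have key : ∀ (X : Subgroup (G ⧸ pPrimeCore p G)), X ≤ Pb ⊔ Ab →
        (TG ⊓ X.comap (QuotientGroup.mk' (pPrimeCore p G))).map
          (QuotientGroup.mk' (pPrimeCore p G)) = X := by
      intro X hX
      apply le_antisymm
      · rintro _ ⟨t, ⟨_, ht⟩, rfl⟩
        exact ht
      · intro x hx
        have : x ∈ TG.map (QuotientGroup.mk' (pPrimeCore p G)) := by
          rw [hTGmap]; exact hX hx
        obtain ⟨t, ht, rfl⟩ := this
        exact ⟨t, ⟨ht, hx⟩, rfl⟩
    have hPmap := key Pb le_sup_left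
    have hAmap := key Ab le_sup_right
    have hPp : IsPGroup p ↥(TG ⊓ Pb.comap (QuotientGroup.mk' (pPrimeCore p G))) :=
      hTGp.to_le inf_le_left
    have hAp : IsPGroup p ↥(TG ⊓ Ab.comap (QuotientGroup.mk' (pPrimeCore p G))) :=
      hTGp.to_le inf_le_left
    have hAP : ∀ a ∈ TG ⊓ Ab.comap (QuotientGroup.mk' (pPrimeCore p G)),
        ∀ x ∈ TG ⊓ Pb.comap (QuotientGroup.mk' (pPrimeCore p G)),
        a * x * a⁻¹ ∈ TG ⊓ Pb.comap (QuotientGroup.mk' (pPrimeCore p G)) := by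
      rintro a ⟨haT, haA⟩ x ⟨hxT, hxP⟩
      refine ⟨Subgroup.mul_mem _ (Subgroup.mul_mem _ haT hxT) (Subgroup.inv_mem _ haT), ?_⟩
      show QuotientGroup.mk' (pPrimeCore p G) (a * x * a⁻¹) ∈ Pb
      rw [map_mul, map_mul, map_inv]
      exact hnormb.conj_mem _ hxP _
    have hKP : pPrimeCore p G ⊔ (TG ⊓ Pb.comap (QuotientGroup.mk' (pPrimeCore p G))) =
        Pb.comap (QuotientGroup.mk' (pPrimeCore p G)) := by
      conv_rhs => rw [← hPmap]
      rw [Subgroup.comap_map_eq, QuotientGroup.ker_mk', sup_comm]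
    have hnorm : (pPrimeCore p G ⊔
        (TG ⊓ Pb.comap (QuotientGroup.mk' (pPrimeCore p G)))).Normal := by
      rw [hKP]; exact hnormb.comap _
    have hPle : TG ⊓ Pb.comap (QuotientGroup.mk' (pPrimeCore p G)) ≤ pPrimePCore p G := by
      intro x hx
      show QuotientGroup.mk' (pPrimeCore p G) x ∈ pCore p _
      exact Cfsg.Agent.Lib.Helper76.le_pCore p Pb hnormb hPb hx.2
    have hcomm : ⁅⁅TG ⊓ Pb.comap (QuotientGroup.mk' (pPrimeCore p G)),
        TG ⊓ Ab.comap (QuotientGroup.mk' (pPrimeCore p G))⁆,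
        TG ⊓ Ab.comap (QuotientGroup.mk' (pPrimeCore p G))⁆ = ⊥ := by
      have h0 : ⁅TG ⊓ Pb.comap (QuotientGroup.mk' (pPrimeCore p G)),
          TG ⊓ Ab.comap (QuotientGroup.mk' (pPrimeCore p G))⁆ ≤ TG := by
        rw [Subgroup.commutator_le]
        intro x hx a ha
        exact Subgroup.mul_mem _ (Subgroup.mul_mem _ (Subgroup.mul_mem _ hx.1 ha.1)
          (Subgroup.inv_mem _ hx.1)) (Subgroup.inv_mem _ ha.1)
      have h1 : ⁅⁅TG ⊓ Pb.comap (QuotientGroup.mk' (pPrimeCore p G)),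
          TG ⊓ Ab.comap (QuotientGroup.mk' (pPrimeCore p G))⁆,
          TG ⊓ Ab.comap (QuotientGroup.mk' (pPrimeCore p G))⁆ ≤ TG := by
        rw [Subgroup.commutator_le]
        intro x hx a ha
        exact Subgroup.mul_mem _ (Subgroup.mul_mem _ (Subgroup.mul_mem _ (h0 hx) ha.1)
          (Subgroup.inv_mem _ (h0 hx))) (Subgroup.inv_mem _ ha.1)
      have h2 : ⁅⁅TG ⊓ Pb.comap (QuotientGroup.mk' (pPrimeCore p G)),
          TG ⊓ Ab.comap (QuotientGroup.mk' (pPrimeCore p G))⁆,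
          TG ⊓ Ab.comap (QuotientGroup.mk' (pPrimeCore p G))⁆ ≤ pPrimeCore p G := by
        have hker : (QuotientGroup.mk' (pPrimeCore p G)).ker = pPrimeCore p G :=
          QuotientGroup.ker_mk' _
        refine le_trans ((Subgroup.map_eq_bot_iff _).mp ?_) hker.le
        rw [Subgroup.map_commutator, Subgroup.map_commutator, hPmap, hAmap]
        exact hcommb
      have h3 := inf_eq_bot_of_isPGroup TG hTGp
      rw [eq_bot_iff, ← h3]
      exact le_inf h2 h1
    have h1 := hmain _ _ hAp hPp hAP hPle hnorm hcomm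
    obtain ⟨T, hTN, hTconj, hAT, hTp⟩ := (good_iff _ _).mp h1
    have hnormalizer : Subgroup.normalizer (Pb : Set (G ⧸ pPrimeCore p G)) = ⊤ :=
      Subgroup.normalizer_eq_top_iff.mpr hnormb
    refine ⟨T.map (QuotientGroup.mk' (pPrimeCore p G)), ?_, ?_, ?_, ?_⟩
    · rw [hnormalizer]; exact le_top
    · rintro nb _ _ ⟨t, ht, rfl⟩
      obtain ⟨g, rfl⟩ := QuotientGroup.mk'_surjective _ nb
      obtain ⟨n, hn, hng⟩ := frattini _ hPp hnorm g
      rw [← hng]
      exact ⟨n * t * n⁻¹, hTconj n hn t ht, by simp⟩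
    · rintro ab ⟨hab, _⟩
      rw [← hAmap] at hab
      obtain ⟨a, ha, rfl⟩ := hab
      refine ⟨a, hAT ⟨ha, ?_⟩, rfl⟩
      show a ∈ Subgroup.normalizer _
      rw [Subgroup.mem_normalizer_iff]
      intro x
      constructor
      · exact hAP a ha x
      · intro hx
        have := hAP a⁻¹ (Subgroup.inv_mem _ ha) _ hx
        simpa [mul_assoc] using this
    · rintro _ ⟨t, ht, rfl⟩
      obtain ⟨k, hk⟩ := hTp t ht
      refine ⟨k, ?_⟩
      rw [← map_pow, Subgroup.mem_centralizer_iff]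
      intro y hy
      have hy' : y ∈ Pb := hy
      rw [← hPmap] at hy'
      obtain ⟨z, hz, rfl⟩ := hy'
      rw [← map_mul, ← map_mul, Subgroup.mem_centralizer_iff.mp hk z hz]

end main

/-- For a group with a nontrivial normal p-subgroup, p-stability passes to and from the quotient by the largest normal subgroup of order prime to p. -/
theorem result {G : Type*} [Group G] [Finite G] {p : ℕ} [Fact p.Prime] (hO : Cfsg.pCore p G ≠ ⊥) : Cfsg.IsPStable p G ↔ Cfsg.IsPStable p (G ⧸ Cfsg.pPrimeCore p G) :=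
  ⟨stable_quotient hO, stable_of_quotient hO⟩

end Cfsg.Agent.S0632
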