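import Cfsg.Statements.S0634
import Cfsg.Agent.Lib.Helper76.PCore

set_option autoImplicit false
open Cfsg

namespace Cfsg.Agent.S0634

theorem upperPSeries_even_succ {G : Type*} [Group G] (p k : ℕ) :
    (upperPSeries p G (2 * k + 1)).1 =
      (pPrimeCore p (G ⧸ (upperPSeries p G (2 * k)).1)).comap (QuotientGroup.mk' _) := by
  have h : Even (2 * k) := ⟨k, by ring⟩
  rw [upperPSeries]
  simp only [h, if_true]

theorem upperPSeries_odd_succ {G : Type*} [Group G] (p k : ℕ) :
    (upperPSeries p G (2 * k + 2)).1 =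
      (pCore p (G ⧸ (upperPSeries p G (2 * k + 1)).1)).comap (QuotientGroup.mk' _) := by
  have h : ¬ Even (2 * k + 1) := by
    rw [Nat.not_even_iff_odd]; exact ⟨k, rfl⟩
  show (upperPSeries p G ((2 * k + 1) + 1)).1 = _
  rw [upperPSeries]
  simp only [h, if_false]

/-- triviality of the `p'`-core transports along isomorphisms. -/
theorem core_trivial_of_equiv {X Y : Type*} [Group X] [Group Y] (p : ℕ) (e : X ≃* Y)
    (h : ∀ N : Subgroup X, N.Normal → (Nat.card N).Coprime p → N = ⊥) :
    ∀ N : Subgroup Y, N.Normal → (Nat.card N).Coprime p → N = ⊥ := by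
  intro N hN hcop
  have h1 : (N.map e.symm.toMonoidHom).Normal :=
    hN.map _ e.symm.surjective
  have h2 : Nat.card (N.map e.symm.toMonoidHom) = Nat.card N :=
    Subgroup.card_map_of_injective e.symm.injective
  have h3 := h _ h1 (h2 ▸ hcop)
  rw [Subgroup.map_eq_bot_iff_of_injective _ e.symm.injective] at h3
  exact h3

/-- if `K/L = O_{p'}(G/L)` then `G/K` has trivial `p'`-core. -/
theorem core_trivial_quotient {G : Type*} [Group G] [Finite G] (p : ℕ) [Fact p.Prime]
    (L K : Subgroup G) [L.Normal] [K.Normal]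
    (hK : K = (pPrimeCore p (G ⧸ L)).comap (QuotientGroup.mk' L)) :
    ∀ N : Subgroup (G ⧸ K), N.Normal → (Nat.card N).Coprime p → N = ⊥ := by
  have hLK : L ≤ K := by
    rw [hK]
    intro x hx
    rw [Subgroup.mem_comap]
    have : (QuotientGroup.mk' L) x = 1 := (QuotientGroup.eq_one_iff x).mpr hx
    rw [this]; exact Subgroup.one_mem _
  have hmap : K.map (QuotientGroup.mk' L) = pPrimeCore p (G ⧸ L) := by
    rw [hK]
    exact Subgroup.map_comap_eq_self_of_surjective (QuotientGroup.mk'_surjective L) _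
  let e1 : (G ⧸ L) ⧸ (K.map (QuotientGroup.mk' L)) ≃* G ⧸ K :=
    QuotientGroup.quotientQuotientEquivQuotient L K hLK
  let e2 : (G ⧸ L) ⧸ (pPrimeCore p (G ⧸ L)) ≃* (G ⧸ L) ⧸ (K.map (QuotientGroup.mk' L)) :=
    QuotientGroup.quotientMulEquivOfEq hmap.symm
  exact core_trivial_of_equiv p (e2.trans e1)
    (Cfsg.Agent.Lib.Helper76.quotient_pPrimeCore_core_trivial (G := G ⧸ L) p)

/-- In a p-soluble group each p-factor of the upper p-series contains its own centralizer in the corresponding quotient. -/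
theorem result {G : Type*} [Group G] [Finite G] {p : ℕ} [Fact p.Prime] (hsol : Cfsg.IsPSolvable p G) (k : ℕ) : Subgroup.centralizer ((((Cfsg.upperPSeries p G (2 * k + 2)).1.map (QuotientGroup.mk' (Cfsg.upperPSeries p G (2 * k + 1)).1)) : Subgroup (G ⧸ (Cfsg.upperPSeries p G (2 * k + 1)).1)) : Set (G ⧸ (Cfsg.upperPSeries p G (2 * k + 1)).1)) ≤ (Cfsg.upperPSeries p G (2 * k + 2)).1.map (QuotientGroup.mk' (Cfsg.upperPSeries p G (2 * k + 1)).1) := by
  have hmap : (upperPSeries p G (2 * k + 2)).1.map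
      (QuotientGroup.mk' (upperPSeries p G (2 * k + 1)).1)
      = pCore p (G ⧸ (upperPSeries p G (2 * k + 1)).1) := by
    rw [upperPSeries_odd_succ]
    exact Subgroup.map_comap_eq_self_of_surjective (QuotientGroup.mk'_surjective _) _
  rw [hmap]
  apply Cfsg.Agent.Lib.Helper76.centralizer_pCore_le p
  · exact Cfsg.Agent.Lib.Helper76.IsPSolvable_of_surjective p
      (QuotientGroup.mk' (upperPSeries p G (2 * k + 1)).1) (QuotientGroup.mk'_surjective _) hsol
  · exact core_trivial_quotient p (upperPSeries p G (2 * k)).1 (upperPSeries p G (2 * k + 1)).1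
      (upperPSeries_even_succ p k)

end Cfsg.Agent.S0634
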