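import Cfsg.Statements.S0635
import Cfsg.Agent.S0634
import Cfsg.Agent.Lib.Helper97.Cores

set_option autoImplicit false
open Cfsg

namespace Cfsg.Agent.S0635

open Cfsg.Agent.S0634

theorem upperPSeries_le_succ {G : Type*} [Group G] (p n : ℕ) :
    (upperPSeries p G n).1 ≤ (upperPSeries p G (n + 1)).1 := by
  intro x hx
  have h1 : (QuotientGroup.mk' (upperPSeries p G n).1) x = 1 := (QuotientGroup.eq_one_iff x).mpr hx
  rw [upperPSeries]
  split_ifs
  · show x ∈ (pPrimeCore p (G ⧸ (upperPSeries p G n).1)).comap (QuotientGroup.mk' _)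
    rw [Subgroup.mem_comap, h1]; exact Subgroup.one_mem _
  · show x ∈ (pCore p (G ⧸ (upperPSeries p G n).1)).comap (QuotientGroup.mk' _)
    rw [Subgroup.mem_comap, h1]; exact Subgroup.one_mem _

theorem centralizer_pCore_quotient_le {G : Type*} [Group G] [Finite G] {p : ℕ} [Fact p.Prime]
    (hsol : Cfsg.IsPSolvable p G) (k : ℕ) :
    Subgroup.centralizer (pCore p (G ⧸ (upperPSeries p G (2 * k + 1)).1) :
      Set (G ⧸ (upperPSeries p G (2 * k + 1)).1)) ≤ pCore p (G ⧸ (upperPSeries p G (2 * k + 1)).1) := by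
  apply Cfsg.Agent.Lib.Helper76.centralizer_pCore_le p
  · exact Cfsg.Agent.Lib.Helper76.IsPSolvable_of_surjective p
      (QuotientGroup.mk' (upperPSeries p G (2 * k + 1)).1) (QuotientGroup.mk'_surjective _) hsol
  · exact core_trivial_quotient p (upperPSeries p G (2 * k)).1 (upperPSeries p G (2 * k + 1)).1
      (upperPSeries_even_succ p k)

theorem upperCentralSeries_le {G : Type*} [Group G] [Finite G] {p : ℕ} [Fact p.Prime]
    (hsol : Cfsg.IsPSolvable p G) (S : Sylow p G) (i : ℕ) :
    ∀ x : ↥(S : Subgroup G), x ∈ Subgroup.upperCentralSeries ↥(S : Subgroup G) i →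
      (x : G) ∈ (upperPSeries p G (2 * i)).1 := by
  induction i with
  | zero =>
    intro x hx
    rw [Subgroup.upperCentralSeries_zero, Subgroup.mem_bot] at hx
    rw [hx]
    exact Subgroup.one_mem _
  | succ i ih =>
    intro x hx
    rw [Subgroup.mem_upperCentralSeries_succ_iff] at hx
    have hstep : 2 * (i + 1) = 2 * i + 2 := by ring
    rw [hstep, upperPSeries_odd_succ, Subgroup.mem_comap]
    apply centralizer_pCore_quotient_le hsol i
    rw [Subgroup.mem_centralizer_iff]
    intro q hq
    -- q lies in the image of S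
    have hπ : Function.Surjective (QuotientGroup.mk' (upperPSeries p G (2 * i + 1)).1) :=
      QuotientGroup.mk'_surjective _
    have hqS : q ∈ ((S.mapSurjective hπ : Sylow p (G ⧸ (upperPSeries p G (2 * i + 1)).1)) :
        Subgroup (G ⧸ (upperPSeries p G (2 * i + 1)).1)) :=
      Cfsg.Agent.Lib.Helper97.pCore_le_sylow' _ hq
    rw [Sylow.coe_mapSurjective] at hqS
    obtain ⟨y, hy, rfl⟩ := hqS
    have h1 := ih _ (hx ⟨y, hy⟩)
    have h2 : (x : G) * y * (x : G)⁻¹ * y⁻¹ ∈ (upperPSeries p G (2 * i + 1)).1 :=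
      upperPSeries_le_succ p (2 * i) (by
        rw [commutatorElement_def] at h1
        simpa using h1)
    have h3 : (QuotientGroup.mk' (upperPSeries p G (2 * i + 1)).1) ((x : G) * y * (x : G)⁻¹ * y⁻¹) = 1 :=
      (QuotientGroup.eq_one_iff _).mpr h2
    rw [map_mul, map_mul, map_mul, map_inv, map_inv] at h3
    have h4 := mul_inv_eq_one.mp h3
    -- h4 : π x * π y * (π x)⁻¹ = π y
    calc (QuotientGroup.mk' (upperPSeries p G (2 * i + 1)).1) y *
          (QuotientGroup.mk' (upperPSeries p G (2 * i + 1)).1) (x : G)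
        = ((QuotientGroup.mk' (upperPSeries p G (2 * i + 1)).1) (x : G) *
            (QuotientGroup.mk' (upperPSeries p G (2 * i + 1)).1) y *
            ((QuotientGroup.mk' (upperPSeries p G (2 * i + 1)).1) (x : G))⁻¹) *
            (QuotientGroup.mk' (upperPSeries p G (2 * i + 1)).1) (x : G) := by rw [h4]
      _ = (QuotientGroup.mk' (upperPSeries p G (2 * i + 1)).1) (x : G) *
            (QuotientGroup.mk' (upperPSeries p G (2 * i + 1)).1) y := by group

/-- The p-length of a p-soluble group is at most the nilpotency class of its Sylow p-subgroups. -/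
theorem result {G : Type*} [Group G] [Finite G] {p : ℕ} [Fact p.Prime] (hsol : Cfsg.IsPSolvable p G) (S : Sylow p G) : Cfsg.PLengthLE p (Group.nilpotencyClass ↥(S : Subgroup G)) G := by
  have hnil : Group.IsNilpotent ↥(S : Subgroup G) := S.isPGroup'.isNilpotent
  have htop := Subgroup.upperCentralSeries_nilpotencyClass (G := ↥(S : Subgroup G))
  have hSle : (S : Subgroup G) ≤ (upperPSeries p G (2 * Group.nilpotencyClass ↥(S : Subgroup G))).1 := by
    intro x hx
    have := upperCentralSeries_le hsol S (Group.nilpotencyClass ↥(S : Subgroup G)) ⟨x, hx⟩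
      (by rw [htop]; exact Subgroup.mem_top _)
    exact this
  unfold PLengthLE
  rw [upperPSeries_even_succ, eq_top_iff]
  intro g _
  rw [Subgroup.mem_comap]
  have hcop : (Nat.card (⊤ : Subgroup (G ⧸ (upperPSeries p G
      (2 * Group.nilpotencyClass ↥(S : Subgroup G))).1))).Coprime p := by
    rw [Subgroup.card_top, ← Subgroup.index_eq_card]
    have h1 := Subgroup.index_dvd_of_le hSle
    have h2 : ¬ p ∣ (S : Subgroup G).index := S.not_dvd_index
    have h3 : ¬ p ∣ (upperPSeries p G (2 * Group.nilpotencyClass ↥(S : Subgroup G))).1.index :=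
      fun h => h2 (h.trans h1)
    exact ((Nat.Prime.coprime_iff_not_dvd Fact.out).mpr h3).symm
  have hle : (⊤ : Subgroup (G ⧸ (upperPSeries p G
      (2 * Group.nilpotencyClass ↥(S : Subgroup G))).1)) ≤ pPrimeCore p _ :=
    le_sSup ⟨inferInstance, hcop⟩
  exact hle (Subgroup.mem_top _)

end Cfsg.Agent.S0635
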