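import Mathlib
import Cfsg.Statements.S0636
import Cfsg.Agent.S0127
import Cfsg.Agent.Lib.Lead.NormalBetween
import Cfsg.Agent.Lib.Helper49.RankOneCyclic
-- import your own Cfsg.Agent.* helpers here

set_option autoImplicit false
open Cfsg

namespace Cfsg.Agent.S0636


open Cfsg.Agent.Lib.Lead

lemma closure_normal_of_conj_mem' {G : Type*} [Group G] {S : Set G}
    (h : ∀ s ∈ S, ∀ g : G, g * s * g⁻¹ ∈ S) : (Subgroup.closure S).Normal := by
  constructor
  intro n hn g
  induction hn using Subgroup.closure_induction with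
  | mem x hx => exact Subgroup.subset_closure (h x hx g)
  | one => simp
  | mul x y _ _ hx hy =>
    have : g * (x * y) * g⁻¹ = (g * x * g⁻¹) * (g * y * g⁻¹) := by group
    rw [this]; exact mul_mem hx hy
  | inv x _ hx =>
    have : g * x⁻¹ * g⁻¹ = (g * x * g⁻¹)⁻¹ := by group
    rw [this]; exact inv_mem hx

/-- A normal subgroup `S` of a finite `p`-group `R` contains a normal abelian subgroup `A` of `R`
with `C_S(A) = A`. -/
lemma exists_normal_abelian_self_centralizing_in {R : Type*} [Group R] [Finite R] {p : ℕ}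
    [hp : Fact p.Prime] (hR : IsPGroup p R) (S : Subgroup R) [hSn : S.Normal] :
    ∃ A : Subgroup R, A ≤ S ∧ A.Normal ∧ (∀ x ∈ A, ∀ y ∈ A, x * y = y * x) ∧
      Subgroup.centralizer (A : Set R) ⊓ S = A := by
  have hpp := hp.out
  let X : Type _ := {A : Subgroup R // A ≤ S ∧ A.Normal ∧ ∀ x ∈ A, ∀ y ∈ A, x * y = y * x}
  have : Nonempty X := ⟨⟨⊥, bot_le, inferInstance, by
    intro x hx y hy
    rw [Subgroup.mem_bot] at hx hy
    rw [hx, hy]⟩⟩
  obtain ⟨A, hmax⟩ := Finite.exists_max (fun A : X => Nat.card A.1)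
  obtain ⟨A, hAS, hAn, hAc⟩ := A
  simp only at hmax
  have hAle : A ≤ Subgroup.centralizer (A : Set R) ⊓ S := by
    refine le_inf ?_ hAS
    intro x hx
    rw [Subgroup.mem_centralizer_iff]
    intro y hy
    exact hAc y hy x hx
  refine ⟨A, hAS, hAn, hAc, ?_⟩
  by_contra hne
  have hlt : A < Subgroup.centralizer (A : Set R) ⊓ S := lt_of_le_of_ne hAle (Ne.symm hne)
  have hCn : (Subgroup.centralizer (A : Set R) ⊓ S).Normal := inferInstance
  obtain ⟨B, hBn, hAB, hBC, hBcard⟩ := exists_normal_between hR A _ hlt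
  -- `B` is commutative
  have hBcomm : ∀ x ∈ B, ∀ y ∈ B, x * y = y * x := by
    have hidx : (A.subgroupOf B).index = p := by
      have h1' := (A.subgroupOf B).card_mul_index
      have h2 : Nat.card (A.subgroupOf B) = Nat.card A :=
        Nat.card_congr (Subgroup.subgroupOfEquivOfLe hAB).toEquiv
      rw [h2, hBcard, mul_comm] at h1'
      exact Nat.eq_of_mul_eq_mul_right Nat.card_pos h1'
    have hn' : (A.subgroupOf B).Normal := inferInstance
    have hcyc : IsCyclic (↥B ⧸ A.subgroupOf B) := by
      apply isCyclic_of_prime_card (p := p)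
      rw [← Subgroup.index_eq_card, hidx]
    have hker : (QuotientGroup.mk' (A.subgroupOf B)).ker ≤ Subgroup.center ↥B := by
      rw [QuotientGroup.ker_mk']
      intro a ha
      rw [Subgroup.mem_subgroupOf] at ha
      rw [Subgroup.mem_center_iff]
      intro b
      apply Subtype.ext
      have hb : (b : R) ∈ Subgroup.centralizer (A : Set R) := (hBC b.2).1
      exact (Subgroup.mem_centralizer_iff.mp hb _ ha).symm
    have hcomm := (QuotientGroup.mk' (A.subgroupOf B)).isMulCommutative_of_isCyclic_of_ker_le_center hker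
    intro x hx y hy
    exact congrArg Subtype.val (hcomm.is_comm.comm ⟨x, hx⟩ ⟨y, hy⟩)
  have := hmax ⟨B, hBC.trans inf_le_right, hBn, hBcomm⟩
  simp only at this
  rw [hBcard] at this
  have h2 : 0 < Nat.card A := Nat.card_pos
  have h3 := hpp.one_lt
  nlinarith
/-- For odd p, every non-cyclic normal subgroup of a p-group contains a normal elementary abelian subgroup of the whole group of order p². -/
theorem result {R : Type*} [Group R] [Finite R] {p : ℕ} [Fact p.Prime] (hp : p ≠ 2) (hR : IsPGroup p R) (S : Subgroup R) [S.Normal] (hS : ¬ IsCyclic S) : ∃ A : Subgroup R, A ≤ S ∧ A.Normal ∧ Cfsg.IsElementaryAbelian p A ∧ Nat.card A = p ^ 2 := by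
  have hpp : p.Prime := Fact.out
  obtain ⟨A, hAS, hAn, hAcomm, hAC⟩ := exists_normal_abelian_self_centralizing_in hR S
  by_cases hAcyc : IsCyclic A
  · -- `A` cyclic
    have hAlt : A < S := by
      refine lt_of_le_of_ne hAS ?_
      intro h
      apply hS
      have e : A ≃* S := MulEquiv.subgroupCongr h
      exact isCyclic_of_surjective e e.surjective
    obtain ⟨B, hBn, hAB, hBS, hBcard⟩ := exists_normal_between hR A S hAlt
    have hBnc : ¬ IsCyclic B := by
      intro hBc
      have hBcomm : ∀ x ∈ B, ∀ y ∈ B, x * y = y * x := by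
        intro x hx y hy
        have := (IsCyclic.commGroup (α := B)).mul_comm ⟨x, hx⟩ ⟨y, hy⟩
        exact congrArg Subtype.val this
      have hBA : B ≤ A := by
        rw [← hAC]
        refine le_inf ?_ hBS
        intro x hx
        rw [Subgroup.mem_centralizer_iff]
        intro y hy
        exact hBcomm y (hAB hy) x hx
      have h1 := Subgroup.card_le_of_le hBA
      rw [hBcard] at h1
      have h2 : 0 < Nat.card A := Nat.card_pos
      have h3 := hpp.one_lt
      nlinarith
    have hC : IsCyclic (A.subgroupOf B) := by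
      have e : A.subgroupOf B ≃* A := Subgroup.subgroupOfEquivOfLe hAB
      exact isCyclic_of_surjective e.symm e.symm.surjective
    have hCi : (A.subgroupOf B).index = p := by
      have h1 := (A.subgroupOf B).card_mul_index
      have h2 : Nat.card (A.subgroupOf B) = Nat.card A :=
        Nat.card_congr (Subgroup.subgroupOfEquivOfLe hAB).toEquiv
      rw [h2, hBcard, mul_comm] at h1
      exact Nat.eq_of_mul_eq_mul_right Nat.card_pos h1
    obtain ⟨⟨hΩc, hΩe⟩, hΩcard⟩ :=
      Cfsg.Agent.S0127.result hp (hR.to_subgroup B) hBnc (A.subgroupOf B) hC hCi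
    refine ⟨(Subgroup.closure {x : ↥B | x ^ p = 1}).map B.subtype, ?_, ?_, ⟨?_, ?_⟩, ?_⟩
    · exact (Subgroup.map_subtype_le _).trans hBS
    · rw [MonoidHom.map_closure]
      apply closure_normal_of_conj_mem'
      rintro _ ⟨x, hx, rfl⟩ g
      refine ⟨⟨g * x * g⁻¹, hBn.conj_mem x x.2 g⟩, ?_, rfl⟩
      have hx' : (x : R) ^ p = 1 := by
        have := congrArg Subtype.val (show x ^ p = 1 from hx)
        simpa using this
      show (⟨g * x * g⁻¹, _⟩ : ↥B) ^ p = 1
      apply Subtype.ext
      simp only [Subgroup.coe_pow, Subgroup.coe_one]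
      rw [conj_pow, hx', mul_one, mul_inv_cancel]
    · refine ⟨⟨fun a b => ?_⟩⟩
      obtain ⟨a, ha⟩ := a
      obtain ⟨b, hb⟩ := b
      obtain ⟨a', ha', rfl⟩ := ha
      obtain ⟨b', hb', rfl⟩ := hb
      apply Subtype.ext
      have := hΩc.is_comm.comm ⟨a', ha'⟩ ⟨b', hb'⟩
      have h2 := congrArg Subtype.val this
      have h3 := congrArg Subtype.val h2
      simpa using h3
    · rintro _ ⟨x, hx, rfl⟩
      have := hΩe x hx
      have h2 := congrArg Subtype.val this
      simpa using h2
    · rw [Subgroup.card_map_of_injective B.subtype_injective]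
      exact hΩcard
  · -- `A` not cyclic
    let N : Subgroup R :=
      { carrier := {x | x ∈ A ∧ x ^ p = 1}
        mul_mem' := by
          rintro x y ⟨hx, hx'⟩ ⟨hy, hy'⟩
          refine ⟨mul_mem hx hy, ?_⟩
          have : Commute x y := hAcomm x hx y hy
          rw [this.mul_pow, hx', hy', one_mul]
        one_mem' := ⟨one_mem _, one_pow _⟩
        inv_mem' := by
          rintro x ⟨hx, hx'⟩
          exact ⟨inv_mem hx, by rw [inv_pow, hx', inv_one]⟩ }
    have hNmem : ∀ x, x ∈ N ↔ x ∈ A ∧ x ^ p = 1 := fun x => Iff.rfl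
    have hNn : N.Normal := by
      constructor
      intro x hx g
      rw [hNmem] at hx ⊢
      exact ⟨hAn.conj_mem x hx.1 g, by rw [conj_pow, hx.2, mul_one, mul_inv_cancel]⟩
    have hrk : ¬ Cfsg.PRankLE p 1 A := fun h =>
      hAcyc (Cfsg.Agent.Lib.Helper49.isCyclic_of_pRankLE_one hp (hR.to_subgroup A) h)
    unfold Cfsg.PRankLE at hrk
    push Not at hrk
    obtain ⟨E, hEc, hEe, hEcard⟩ := hrk
    rw [pow_one] at hEcard
    have hEN : E.map A.subtype ≤ N := by
      rintro _ ⟨e, he, rfl⟩
      rw [hNmem]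
      refine ⟨e.2, ?_⟩
      have := congrArg Subtype.val (hEe e he)
      simpa using this
    have hNcard : p < Nat.card N := by
      have := Subgroup.card_le_of_le hEN
      rw [Subgroup.card_map_of_injective A.subtype_injective] at this
      omega
    have hN0 : (⊥ : Subgroup R) < N := by
      rw [bot_lt_iff_ne_bot]
      intro h
      rw [h, Subgroup.card_bot] at hNcard
      have := hpp.one_lt
      omega
    obtain ⟨Z₁, hZ₁n, -, hZ₁N, hZ₁card⟩ := exists_normal_between hR ⊥ N hN0
    rw [Subgroup.card_bot, mul_one] at hZ₁card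
    have hZ₁lt : Z₁ < N := by
      refine lt_of_le_of_ne hZ₁N ?_
      intro h
      rw [h] at hZ₁card
      omega
    obtain ⟨A₂, hA₂n, -, hA₂N, hA₂card⟩ := exists_normal_between hR Z₁ N hZ₁lt
    refine ⟨A₂, ?_, hA₂n, ⟨⟨⟨fun a b => ?_⟩⟩, ?_⟩, ?_⟩
    · intro x hx
      exact hAS ((hNmem _).mp (hA₂N hx)).1
    · apply Subtype.ext
      exact hAcomm a.1 ((hNmem _).mp (hA₂N a.2)).1 b.1 ((hNmem _).mp (hA₂N b.2)).1
    · intro a ha
      exact ((hNmem _).mp (hA₂N ha)).2
    · rw [hA₂card, hZ₁card, sq]

end Cfsg.Agent.S0636
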