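import Mathlib
import Cfsg.Statements.S0637
import Cfsg.Agent.S0128
import Cfsg.Agent.Lib.Helper24.SectionRank
-- import your own Cfsg.Agent.* helpers here

set_option autoImplicit false
open Cfsg

namespace Cfsg.Agent.S0637

open Cfsg.Agent.Lib.Helper24

/-- `HP` from the bound on `Ω₁`. -/
theorem hp_of_omega {R : Type*} [Group R] [Finite R] {p : ℕ}
    (hO : Nat.card ↥(Cfsg.omegaOne p (⊤ : Subgroup R)) ≤ p ^ 2) : HP p R := by
  intro W hW
  have hle : W ≤ Cfsg.omegaOne p (⊤ : Subgroup R) := by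
    intro w hw
    exact Subgroup.subset_closure ⟨Subgroup.mem_top w, hW w hw⟩
  exact (Subgroup.card_le_of_le hle).trans hO

/-- `HP` bounds `Ω₁` (for `p > 3`). -/
theorem omega_le_of_hp {Q : Type*} [Group Q] [Finite Q] {p : ℕ} [Fact p.Prime] (hp : 3 < p)
    (hQ : IsPGroup p Q) (h : HP p Q) :
    Nat.card ↥(Cfsg.omegaOne p (⊤ : Subgroup Q)) ≤ p ^ 2 := by
  apply h
  intro w hw
  have hrk : ∀ E : Subgroup Q, Cfsg.IsElementaryAbelian p E → Nat.card E ≤ p ^ 2 :=
    fun E hE => h E hE.2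
  apply Cfsg.Agent.S0128.result hp hQ hrk w
  have hle : Cfsg.omegaOne p (⊤ : Subgroup Q) ≤ Subgroup.closure {x : Q | x ^ p = 1} := by
    unfold Cfsg.omegaOne
    apply Subgroup.closure_mono
    rintro x ⟨-, hx⟩
    exact hx
  exact hle hw


/-- For p greater than 3, the bound p² on the order of the subgroup generated by the elements of order dividing p passes from a p-group to all its quotients. -/
theorem result {R : Type*} [Group R] [Finite R] {p : ℕ} [Fact p.Prime] (hp : 3 < p) (hR : IsPGroup p R) (hO : Nat.card ↥(Cfsg.omegaOne p (⊤ : Subgroup R)) ≤ p ^ 2) (T : Subgroup R) [T.Normal] : Nat.card ↥(Cfsg.omegaOne p (⊤ : Subgroup (R ⧸ T))) ≤ p ^ 2 := by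
  exact omega_le_of_hp hp (hR.to_quotient T) (HP_quotient hp hR (hp_of_omega hO) T)

end Cfsg.Agent.S0637
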