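import Cfsg.Statements.S0640
import Cfsg.Agent.Lib.Helper24.RankTwoGen
import Cfsg.Agent.Lib.Helper24.RankTwoPrelude
-- import your own Cfsg.Agent.* helpers here

set_option autoImplicit false
open Cfsg

namespace Cfsg.Agent.S0640

open Cfsg.Agent.Lib.Helper24 in
/-- For odd p, a prime q ≠ p dividing the order of the automorphism group of a p-group of rank at most 2 divides p² - 1 and is less than p. -/
theorem result {R : Type*} [Group R] [Finite R] {p : ℕ} [Fact p.Prime] (hp : p ≠ 2) (hR : IsPGroup p R) (hrk : Cfsg.PRankLE p 2 R) (q : ℕ) (hq : q.Prime) (hqp : q ≠ p) (hdvd : q ∣ Nat.card (MulAut R)) : q ∣ p ^ 2 - 1 ∧ q < p := by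
  have hpp : p.Prime := Fact.out
  have : Fact q.Prime := ⟨hq⟩
  have hfinA : Finite (MulAut R) :=
    Finite.of_injective (fun f : MulAut R => (f : R → R)) (fun f g h => DFunLike.coe_injective h)
  obtain ⟨f, hf⟩ := exists_prime_orderOf_dvd_card' q hdvd
  -- the holomorph
  let φ : MulAut R →* MulAut R := MonoidHom.id _
  have hfinG : Finite (R ⋊[φ] MulAut R) :=
    Finite.of_equiv (R × MulAut R) SemidirectProduct.equivProd.symm
  let inl : R →* R ⋊[φ] MulAut R := SemidirectProduct.inl
  let inr : MulAut R →* R ⋊[φ] MulAut R := SemidirectProduct.inr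
  have hinl : Function.Injective inl := SemidirectProduct.inl_injective
  have hinr : Function.Injective inr := SemidirectProduct.inr_injective
  set Rr : Subgroup (R ⋊[φ] MulAut R) := inl.range with hRr
  have hRrp : IsPGroup p Rr := by
    intro g
    obtain ⟨r, hr⟩ := g.2
    obtain ⟨k, hk⟩ := hR r
    refine ⟨k, ?_⟩
    apply Subtype.ext
    rw [Subgroup.coe_pow, ← hr, ← map_pow, hk, map_one]
    rfl
  have hrank : RankLETwo p Rr := by
    intro E hE hEc hEe
    have h1 : (E.comap inl).map inl = E := by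
      rw [Subgroup.map_comap_eq, inf_eq_right]
      exact hE
    have h2 : Nat.card ((E.comap inl).map inl) = Nat.card (E.comap inl) :=
      Subgroup.card_map_of_injective hinl
    rw [← h1, h2]
    apply hrk
    · refine ⟨⟨?_⟩⟩
      rintro ⟨a, ha⟩ ⟨b, hb⟩
      apply Subtype.ext
      apply hinl
      change inl (a * b) = inl (b * a)
      rw [map_mul, map_mul]
      exact hEc _ ha _ hb
    · intro a ha
      apply hinl
      rw [map_pow, map_one]
      exact hEe _ ha
  have hx : inr f ∈ Subgroup.normalizer (Rr : Set (R ⋊[φ] MulAut R)) := by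
    have h1 : ∀ g : MulAut R, ∀ n ∈ Rr, inr g * n * (inr g)⁻¹ ∈ Rr := by
      rintro g _ ⟨r, rfl⟩
      refine ⟨g r, ?_⟩
      have := SemidirectProduct.inl_aut (φ := φ) g r
      rw [map_inv] at this
      exact this
    rw [Subgroup.mem_normalizer_iff]
    intro n
    constructor
    · exact h1 f n
    · intro hn
      have := h1 f⁻¹ _ hn
      rw [map_inv] at this
      have e : (inr f)⁻¹ * (inr f * n * (inr f)⁻¹) * (inr f)⁻¹⁻¹ = n := by group
      rwa [e] at this
  have hord : orderOf (inr f) = q := by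
    rw [orderOf_injective inr hinr, hf]
  have hnd : q ∣ (p ^ 2 - 1) * (p ^ 2 - p) := by
    by_contra hcon
    have hcop : (orderOf (inr f)).Coprime ((p ^ 2 - 1) * (p ^ 2 - p)) := by
      rw [hord]
      exact (Nat.Prime.coprime_iff_not_dvd hq).mpr hcon
    have hcent := centralizes_of_rankLETwo_of_coprime_card_GL2 p hp (inr f) hcop Rr hRrp hrank hx
    have hf1 : f = 1 := by
      ext r
      apply hinl
      have h1 := SemidirectProduct.inl_aut (φ := φ) f r
      have h2 := hcent (inl r) ⟨r, rfl⟩
      change inl (f r) = inl r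
      rw [show (inl (f r) : R ⋊[φ] MulAut R) = inr f * inl r * inr f⁻¹ from h1, h2, mul_assoc,
        ← map_mul, mul_inv_cancel, map_one, mul_one]
    rw [hf1, orderOf_one] at hf
    exact hq.one_lt.ne hf
  have hp1 : 1 ≤ p := hpp.pos
  have e1 : p ^ 2 - 1 = (p - 1) * (p + 1) := by
    obtain ⟨k, rfl⟩ : ∃ k, p = k + 1 := ⟨p - 1, by omega⟩
    apply Nat.sub_eq_of_eq_add
    simp
    ring
  have e2 : p ^ 2 - p = p * (p - 1) := by
    rw [Nat.mul_sub, mul_one, sq]
  have hnotp : ¬ q ∣ p := by
    intro h
    exact hqp ((Nat.prime_dvd_prime_iff_eq hq hpp).mp h)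
  have hq1 : q ∣ p ^ 2 - 1 := by
    rcases (Nat.Prime.dvd_mul hq).mp hnd with h | h
    · exact h
    · rw [e2] at h
      rcases (Nat.Prime.dvd_mul hq).mp h with h | h
      · exact absurd h hnotp
      · rw [e1]; exact Dvd.dvd.mul_right h _
  refine ⟨hq1, ?_⟩
  rw [e1] at hq1
  rcases (Nat.Prime.dvd_mul hq).mp hq1 with h | h
  · have hpos : 0 < p - 1 := by have := hpp.two_le; omega
    have := Nat.le_of_dvd hpos h
    omega
  · have hle := Nat.le_of_dvd (by omega) h
    have hpodd : Odd p := hpp.odd_of_ne_two hp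
    by_contra hcon
    rw [not_lt] at hcon
    have hq' : q = p + 1 := by omega
    have hev : Even (p + 1) := hpodd.add_one
    rw [← hq'] at hev
    have hq2 : q = 2 := (Nat.Prime.even_iff hq).mp hev
    have := hpp.two_le
    omega

end Cfsg.Agent.S0640
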