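import Cfsg.Statements.S0642

set_option autoImplicit false
open Cfsg
open scoped commutatorElement

namespace Cfsg.Agent.S0642

/-- The closure of a set of pairwise commuting elements is commutative. -/
theorem closure_comm_of_comm {S : Type*} [Group S] (T : Set S)
    (hcomm : ∀ y ∈ T, ∀ z ∈ T, y * z = z * y) :
    ∀ y ∈ Subgroup.closure T, ∀ z ∈ Subgroup.closure T, y * z = z * y := by
  have h1 : ∀ y ∈ Subgroup.closure T, ∀ z ∈ T, y * z = z * y := by
    intro y hy
    refine Subgroup.closure_induction (p := fun y _ => ∀ z ∈ T, y * z = z * y)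
      ?_ ?_ ?_ ?_ hy
    · intro y hy z hz; exact hcomm y hy z hz
    · intro z _; simp
    · intro y1 y2 _ _ h1 h2 z hz
      rw [mul_assoc, h2 z hz, ← mul_assoc, h1 z hz, mul_assoc]
    · intro y _ h z hz
      have := h z hz
      calc y⁻¹ * z = y⁻¹ * (z * y) * y⁻¹ := by group
        _ = y⁻¹ * (y * z) * y⁻¹ := by rw [this]
        _ = z * y⁻¹ := by group
  intro y hy z hz
  revert y
  refine Subgroup.closure_induction (p := fun z _ => ∀ y ∈ Subgroup.closure T, y * z = z * y)
    ?_ ?_ ?_ ?_ hz
  · intro z hz y hy; exact h1 y hy z hz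
  · intro y _; simp
  · intro z1 z2 _ _ h1' h2' y hy
    rw [← mul_assoc, h1' y hy, mul_assoc, h2' y hy, ← mul_assoc]
  · intro z _ h y hy
    have := h y hy
    calc y * z⁻¹ = z⁻¹ * (z * y) * z⁻¹ := by group
      _ = z⁻¹ * (y * z) * z⁻¹ := by rw [this]
      _ = z⁻¹ * y := by group

theorem map_powerClosure_le {G G' : Type*} [Group G] [Group G'] (f : G →* G') (p n : ℕ)
    (H : Subgroup G) : (powerClosure p n H).map f ≤ powerClosure p n (H.map f) := by
  unfold powerClosure
  rw [MonoidHom.map_closure, Subgroup.closure_le]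
  rintro _ ⟨y, ⟨x, hx, rfl⟩, rfl⟩
  apply Subgroup.subset_closure
  exact ⟨f x, Subgroup.mem_map_of_mem f hx, by rw [map_pow]⟩

theorem powerClosure_le {G : Type*} [Group G] (p n : ℕ) (H : Subgroup G) :
    powerClosure p n H ≤ H := by
  unfold powerClosure
  rw [Subgroup.closure_le]
  rintro _ ⟨x, hx, rfl⟩
  exact Subgroup.pow_mem _ hx _

/-- If a two-generator subgroup normalizes `K` and the generators commute modulo `K`, then the derived
subgroup lies in `K`. -/
theorem commutator_closure_pair_le {G : Type*} [Group G] (a b : G) (K : Subgroup G)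
    (hK : Subgroup.closure ({a, b} : Set G) ≤ Subgroup.normalizer (K : Set G))
    (hab : ⁅a, b⁆ ∈ K) :
    ⁅Subgroup.closure ({a, b} : Set G), Subgroup.closure ({a, b} : Set G)⁆ ≤ K := by
  set N := Subgroup.normalizer (K : Set G) with hN
  have haN : a ∈ N := hK (Subgroup.subset_closure (by simp))
  have hbN : b ∈ N := hK (Subgroup.subset_closure (by simp))
  let φ := QuotientGroup.mk' (K.subgroupOf N)
  let a' : N := ⟨a, haN⟩
  let b' : N := ⟨b, hbN⟩
  have hcomm' : φ a' * φ b' = φ b' * φ a' := by
    have h1 : ⁅a', b'⁆ ∈ K.subgroupOf N := by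
      rw [Subgroup.mem_subgroupOf]
      exact hab
    have h2 : φ ⁅a', b'⁆ = 1 := (QuotientGroup.eq_one_iff _).mpr h1
    rw [map_commutatorElement, commutatorElement_eq_one_iff_commute] at h2
    exact h2
  have hT : ∀ y ∈ ({φ a', φ b'} : Set (N ⧸ K.subgroupOf N)),
      ∀ z ∈ ({φ a', φ b'} : Set (N ⧸ K.subgroupOf N)), y * z = z * y := by
    intro y hy z hz
    rcases hy with rfl | hy <;> rcases hz with rfl | hz
    · rfl
    · rw [Set.mem_singleton_iff] at hz; subst hz; exact hcomm'
    · rw [Set.mem_singleton_iff] at hy; subst hy; exact hcomm'.symm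
    · rw [Set.mem_singleton_iff] at hy hz; subst hy; subst hz; rfl
  have hcl := closure_comm_of_comm _ hT
  have hmem : ∀ x (hx : x ∈ Subgroup.closure ({a, b} : Set G)),
      φ ⟨x, hK hx⟩ ∈ Subgroup.closure ({φ a', φ b'} : Set (N ⧸ K.subgroupOf N)) := by
    intro x hx
    have h1 : (Subgroup.closure ({a', b'} : Set N)).map N.subtype
        = Subgroup.closure ({a, b} : Set G) := by
      rw [MonoidHom.map_closure, Set.image_pair]
      rfl
    rw [← h1] at hx
    obtain ⟨x', hx', hxx'⟩ := hx
    have : (⟨x, hK (h1 ▸ ⟨x', hx', hxx'⟩)⟩ : N) = x' := Subtype.ext hxx'.symm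
    rw [this]
    have h2 : (Subgroup.closure ({a', b'} : Set N)).map φ
        = Subgroup.closure ({φ a', φ b'} : Set (N ⧸ K.subgroupOf N)) := by
      rw [MonoidHom.map_closure, Set.image_pair]
    rw [← h2]
    exact Subgroup.mem_map_of_mem _ hx'
  rw [Subgroup.commutator_le]
  intro x hx y hy
  have h3 := hcl _ (hmem x hx) _ (hmem y hy)
  have h4 : φ ⁅(⟨x, hK hx⟩ : N), ⟨y, hK hy⟩⁆ = 1 := by
    rw [map_commutatorElement, commutatorElement_eq_one_iff_commute]
    exact h3
  have h5 := (QuotientGroup.eq_one_iff _).mp h4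
  rw [Subgroup.mem_subgroupOf] at h5
  exact h5

/-- In a nontrivial finite `p`-subgroup `D`, the `p`-th powers generate a proper subgroup. -/
theorem powerClosure_ne_of_ne_bot {G : Type*} [Group G] [Finite G] (p : ℕ) [hp : Fact p.Prime]
    (D : Subgroup G) (hD : IsPGroup p D) (hne : D ≠ ⊥) : powerClosure p 1 D ≠ D := by
  classical
  obtain ⟨k, hk⟩ := IsPGroup.iff_card.mp hD
  have hk0 : k ≠ 0 := by
    rintro rfl
    rw [pow_zero] at hk
    exact hne (Subgroup.card_eq_one.mp hk)
  obtain ⟨k', rfl⟩ := Nat.exists_eq_succ_of_ne_zero hk0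
  have hdvd : p ^ k' ∣ Nat.card D := by rw [hk]; exact pow_dvd_pow p (Nat.le_succ k')
  obtain ⟨M, hM⟩ := Sylow.exists_subgroup_card_pow_prime p hdvd
  have hidx : M.index = p := by
    have := M.card_mul_index
    rw [hM, hk, pow_succ] at this
    exact Nat.eq_of_mul_eq_mul_left (pow_pos hp.out.pos k') this
  have hnorm : M.Normal := by
    apply Subgroup.normal_of_index_eq_minFac_card
    rw [hidx, hk, Nat.Prime.pow_minFac hp.out (Nat.succ_ne_zero k')]
  intro heq
  have hle : powerClosure p 1 D ≤ M.map D.subtype := by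
    unfold powerClosure
    rw [Subgroup.closure_le]
    rintro _ ⟨x, hx, rfl⟩
    have := M.pow_index_mem (⟨x, hx⟩ : D)
    rw [hidx] at this
    rw [pow_one]
    exact ⟨_, this, rfl⟩
  rw [heq] at hle
  have hcard : Nat.card D ≤ Nat.card (M.map D.subtype) := Subgroup.card_le_of_le hle
  rw [Subgroup.card_map_of_injective D.subtype_injective, hM, hk] at hcard
  have : p ^ k' < p ^ (k' + 1) := Nat.pow_lt_pow_right hp.out.one_lt (Nat.lt_succ_self k')
  exact absurd hcard (not_le.mpr this)

/-- Among finite 2-groups the regular ones are exactly the abelian ones. -/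
theorem result {G : Type*} [Group G] [Finite G] (hG : IsPGroup 2 G) : Cfsg.IsRegularPGroup 2 G ↔ ∀ a b : G, a * b = b * a := by
  have : Fact (Nat.Prime 2) := ⟨Nat.prime_two⟩
  constructor
  · rintro ⟨_, hreg⟩ a b
    set H := Subgroup.closure ({a, b} : Set G) with hH
    set D := ⁅H, H⁆ with hD
    set K := powerClosure 2 1 D with hK
    obtain ⟨c, hc, heq⟩ := hreg a b 1
    have haH : a ∈ H := Subgroup.subset_closure (by simp)
    have hbH : b ∈ H := Subgroup.subset_closure (by simp)
    have hKD : K ≤ D := powerClosure_le 2 1 D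
    -- H normalizes K
    have hmapH : ∀ h ∈ H, H.map (MulAut.conj h).toMonoidHom ≤ H := by
      rintro h hh _ ⟨x, hx, rfl⟩
      simp only [MulEquiv.coe_toMonoidHom, MulAut.conj_apply]
      exact H.mul_mem (H.mul_mem hh hx) (H.inv_mem hh)
    have hmapK : ∀ h ∈ H, K.map (MulAut.conj h).toMonoidHom ≤ K := by
      intro h hh
      refine (map_powerClosure_le _ 2 1 D).trans ?_
      unfold powerClosure
      apply Subgroup.closure_mono
      rintro _ ⟨x, hx, rfl⟩
      refine ⟨x, ?_, rfl⟩
      rw [hD, Subgroup.map_commutator] at hx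
      exact Subgroup.commutator_mono (hmapH h hh) (hmapH h hh) hx
    have hHN : H ≤ Subgroup.normalizer (K : Set G) := by
      intro h hh
      rw [Subgroup.mem_normalizer_iff]
      intro k
      constructor
      · intro hk
        have := hmapK h hh (Subgroup.mem_map_of_mem _ hk)
        simpa using this
      · intro hk
        have := hmapK h⁻¹ (H.inv_mem hh) (Subgroup.mem_map_of_mem _ hk)
        simpa [mul_assoc] using this
    have hc' : c = (a * a * (b * b))⁻¹ * (a * b * (a * b)) := by
      have : (a * b) ^ 2 = a ^ 2 * b ^ 2 * c := by simpa using heq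
      rw [pow_two, pow_two, pow_two] at this
      rw [this]; group
    have hcomm : ⁅b, a⁆ ∈ K := by
      have h1 : ⁅b, a⁆ = a * (b ^ 2 * c * (b ^ 2)⁻¹) * a⁻¹ := by
        rw [hc', commutatorElement_def]; group
      rw [h1]
      have hb2 : b ^ 2 ∈ Subgroup.normalizer (K : Set G) := hHN (H.pow_mem hbH 2)
      have h2 : b ^ 2 * c * (b ^ 2)⁻¹ ∈ K := (Subgroup.mem_normalizer_iff.mp hb2 c).mp hc
      exact (Subgroup.mem_normalizer_iff.mp (hHN haH) _).mp h2
    have hH' : H = Subgroup.closure ({b, a} : Set G) := by rw [hH, Set.pair_comm]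
    have hDK : D ≤ K := by
      have := commutator_closure_pair_le b a K (hH' ▸ hHN) hcomm
      rw [← hH'] at this
      exact this
    have hKeq : K = D := le_antisymm hKD hDK
    have hDbot : D = ⊥ := by
      by_contra hne
      exact powerClosure_ne_of_ne_bot 2 D (hG.to_subgroup D) hne hKeq
    have : ⁅a, b⁆ ∈ D := Subgroup.commutator_mem_commutator haH hbH
    rw [hDbot, Subgroup.mem_bot, commutatorElement_eq_one_iff_commute] at this
    exact this
  · intro hcomm
    refine ⟨hG, ?_⟩
    intro a b n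
    refine ⟨1, Subgroup.one_mem _, ?_⟩
    rw [mul_one]
    exact (show Commute a b from hcomm a b).mul_pow _

end Cfsg.Agent.S0642
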