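import Cfsg.Statements.S0644
-- import your own Cfsg.Agent.* helpers here
import Cfsg.Agent.Lib.Helper70.RegularP
import Cfsg.Agent.Lib.Helper1.PGroupMax
import Mathlib

set_option autoImplicit false
open Cfsg

namespace Cfsg.Agent.S0644

open scoped commutatorElement
open Cfsg.Agent.Lib.Helper70

universe u

/-- in a finite `p`-group the commutator subgroup lies in every maximal subgroup -/
theorem commutator_le_coatom {G : Type*} [Group G] [Finite G] {p : ℕ} [Fact p.Prime]
    (hG : IsPGroup p G) {M : Subgroup G} (hM : IsCoatom M) : commutator G ≤ M := by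
  have : M.Normal := Cfsg.Agent.Lib.Helper1.coatom_normal_of_isPGroup hG hM
  have hidx : M.index = p := Cfsg.Agent.Lib.Helper1.coatom_index_of_isPGroup hG hM
  have hcard : Nat.card (G ⧸ M) = p := by rw [← Subgroup.index_eq_card]; exact hidx
  have : IsCyclic (G ⧸ M) := isCyclic_of_prime_card hcard
  rw [← Subgroup.Normal.quotient_commutative_iff_commutator_le]
  exact ⟨⟨fun a b => IsCyclic.commGroup.mul_comm a b⟩⟩

/-- if `G = ⟨x, d⟩` with `d ∈ G'` in a finite `p`-group, then `x` and `d` commute. -/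
theorem commute_of_closure_pair_eq_top {G : Type*} [Group G] [Finite G] {p : ℕ} [Fact p.Prime]
    (hG : IsPGroup p G) (x d : G) (hd : d ∈ commutator G)
    (h : Subgroup.closure ({x, d} : Set G) = ⊤) : Commute x d := by
  by_cases hx : Subgroup.zpowers x = ⊤
  · have hd' : d ∈ Subgroup.zpowers x := by rw [hx]; trivial
    obtain ⟨k, rfl⟩ := Subgroup.mem_zpowers_iff.mp hd'
    exact (Commute.refl x).zpow_right k
  · exfalso
    obtain ⟨M, hM, hle⟩ := (eq_top_or_exists_le_coatom (Subgroup.zpowers x)).resolve_left hx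
    have hdM : d ∈ M := commutator_le_coatom hG hM hd
    have hxM : x ∈ M := hle (Subgroup.mem_zpowers x)
    have : Subgroup.closure ({x, d} : Set G) ≤ M := by
      rw [Subgroup.closure_le]
      rintro y (rfl | hy)
      · exact hxM
      · rw [Set.mem_singleton_iff] at hy; subst hy; exact hdM
    rw [h] at this
    exact hM.1 (top_le_iff.mp this)

/-- in a group where `q`-th powers are closed under products, every element of the power closure is a `q`-th power -/
theorem mem_powerClosure_of_mul_closed {G : Type*} [Group G] (p n : ℕ) (H : Subgroup G)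
    (hmul : ∀ a ∈ H, ∀ b ∈ H, ∃ c ∈ H, a ^ p ^ n * b ^ p ^ n = c ^ p ^ n) :
    ∀ y ∈ powerClosure p n H, ∃ x ∈ H, y = x ^ p ^ n := by
  intro y hy
  unfold powerClosure at hy
  induction hy using Subgroup.closure_induction with
  | mem y hy => exact hy
  | one => exact ⟨1, H.one_mem, by simp⟩
  | mul y z _ _ ihy ihz =>
    obtain ⟨a, ha, rfl⟩ := ihy
    obtain ⟨b, hb, rfl⟩ := ihz
    obtain ⟨c, hc, h⟩ := hmul a ha b hb
    exact ⟨c, hc, h⟩
  | inv y _ ihy =>
    obtain ⟨a, ha, rfl⟩ := ihy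
    exact ⟨a⁻¹, H.inv_mem ha, by simp⟩

/-- main induction: products of `p^n`-th powers are `p^n`-th powers in a regular `p`-group. -/
theorem pow_mul_pow_aux {p : ℕ} [Fact p.Prime] (n : ℕ) :
    ∀ (N : ℕ) (G : Type u) [Group G] [Finite G], Nat.card G = N → IsRegularPGroup p G →
      ∀ a b : G, ∃ c : G, a ^ p ^ n * b ^ p ^ n = c ^ p ^ n := by
  intro N
  induction N using Nat.strong_induction_on with
  | _ N ih =>
  intro G _ _ hN hG a b
  -- the induction hypothesis for proper subgroups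
  have ihK : ∀ K : Subgroup G, K ≠ ⊤ → ∀ x ∈ K, ∀ y ∈ K, ∃ z ∈ K,
      x ^ p ^ n * y ^ p ^ n = z ^ p ^ n := by
    intro K hK x hx y hy
    have hlt : Nat.card K < N := by
      rw [← hN, ← K.card_mul_index]
      exact lt_mul_of_one_lt_right Nat.card_pos (Subgroup.one_lt_index_of_ne_top hK)
    obtain ⟨z, hz⟩ := ih (Nat.card K) hlt K rfl (regular_subgroup hG K) ⟨x, hx⟩ ⟨y, hy⟩
    refine ⟨z, z.2, ?_⟩
    simpa using congrArg Subtype.val hz
  by_cases hK : Subgroup.closure ({a, b} : Set G) = ⊤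
  · -- generated by a, b
    obtain ⟨c0, hc0, hab⟩ := hG.2 a b n
    rw [hK] at hc0
    -- the commutator subgroup is proper
    by_cases htriv : Subsingleton G
    · exact ⟨1, by rw [Subsingleton.elim a 1, Subsingleton.elim b 1]; simp⟩
    have : Nontrivial G := not_subsingleton_iff_nontrivial.mp htriv
    have : Group.IsNilpotent G := hG.1.isNilpotent
    have hDlt : commutator G ≠ ⊤ := (Group.IsSolvable.commutator_lt_top_of_nontrivial G).ne
    have hD : ∀ y ∈ powerClosure p n (commutator G), ∃ x ∈ commutator G, y = x ^ p ^ n :=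
      mem_powerClosure_of_mul_closed p n (commutator G) (ihK (commutator G) hDlt)
    have hc0' : c0⁻¹ ∈ powerClosure p n (commutator G) := by
      apply inv_mem
      rw [commutator_def]
      exact hc0
    obtain ⟨d, hd, hdq⟩ := hD _ hc0'
    have hab' : a ^ p ^ n * b ^ p ^ n = (a * b) ^ p ^ n * d ^ p ^ n := by
      rw [← hdq, hab]; group
    by_cases hL : Subgroup.closure ({a * b, d} : Set G) = ⊤
    · have hcomm : Commute (a * b) d := commute_of_closure_pair_eq_top hG.1 (a * b) d hd hL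
      exact ⟨a * b * d, by rw [hab', hcomm.mul_pow]⟩
    · obtain ⟨z, _, hz⟩ := ihK _ hL (a * b) (Subgroup.subset_closure (by simp)) d
        (Subgroup.subset_closure (by simp))
      exact ⟨z, by rw [hab', hz]⟩
  · obtain ⟨z, _, hz⟩ := ihK _ hK a (Subgroup.subset_closure (by simp)) b
      (Subgroup.subset_closure (by simp))
    exact ⟨z, hz⟩

/-- In a regular p-group the p^n-th powers of the elements of any subgroup H form a subgroup, whose derived subgroup is contained in the subgroup generated by the p^n-th powers of elements of the derived subgroup of H. -/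
theorem result {G : Type*} [Group G] [Finite G] {p : ℕ} [Fact p.Prime] (hG : Cfsg.IsRegularPGroup p G) (H : Subgroup G) (n : ℕ) : {y : G | ∃ x ∈ H, y = x ^ (p ^ n)} = (Cfsg.powerClosure p n H : Set G) ∧ ⁅Cfsg.powerClosure p n H, Cfsg.powerClosure p n H⁆ ≤ Cfsg.powerClosure p n ⁅H, H⁆ := by
  have hmul : ∀ a ∈ H, ∀ b ∈ H, ∃ c ∈ H, a ^ p ^ n * b ^ p ^ n = c ^ p ^ n := by
    intro a ha b hb
    obtain ⟨c, hc⟩ := pow_mul_pow_aux (p := p) n (Nat.card H) H rfl (regular_subgroup hG H)
      ⟨a, ha⟩ ⟨b, hb⟩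
    refine ⟨c, c.2, ?_⟩
    simpa using congrArg Subtype.val hc
  have hmem := mem_powerClosure_of_mul_closed p n H hmul
  have hsub : powerClosure p n H ≤ H := by
    unfold powerClosure
    rw [Subgroup.closure_le]
    rintro y ⟨x, hx, rfl⟩
    exact H.pow_mem hx _
  refine ⟨?_, ?_⟩
  · ext y
    constructor
    · rintro ⟨x, hx, rfl⟩
      exact Subgroup.subset_closure ⟨x, hx, rfl⟩
    · intro hy
      exact hmem y hy
  · rw [Subgroup.commutator_le]
    intro g1 hg1 g2 hg2
    obtain ⟨x, hx, rfl⟩ := hmem g1 hg1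
    have hy : g2 ∈ H := hsub hg2
    -- u = x, v = g2 x⁻¹ g2⁻¹
    obtain ⟨c, hc, huv⟩ := hG.2 x (g2 * x⁻¹ * g2⁻¹) n
    have hv : g2 * x⁻¹ * g2⁻¹ ∈ H := H.mul_mem (H.mul_mem hy (H.inv_mem hx)) (H.inv_mem hy)
    have hle : Subgroup.closure ({x, g2 * x⁻¹ * g2⁻¹} : Set G) ≤ H := by
      rw [Subgroup.closure_le]
      rintro z (rfl | hz)
      · exact hx
      · rw [Set.mem_singleton_iff] at hz; subst hz; exact hv
    have hc' : c ∈ powerClosure p n ⁅H, H⁆ :=
      powerClosure_mono p n (Subgroup.commutator_mono hle hle) hc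
    have hcomm : ⁅x, g2⁆ ∈ ⁅H, H⁆ := Subgroup.commutator_mem_commutator hx hy
    have h1 : ⁅x, g2⁆ ^ p ^ n ∈ powerClosure p n ⁅H, H⁆ :=
      Subgroup.subset_closure ⟨_, hcomm, rfl⟩
    have h2 : ⁅x ^ p ^ n, g2⁆ = ⁅x, g2⁆ ^ p ^ n * c⁻¹ := by
      have e1 : x * (g2 * x⁻¹ * g2⁻¹) = ⁅x, g2⁆ := by
        rw [commutatorElement_def]; group
      rw [e1] at huv
      rw [huv, commutatorElement_def]
      have e2 : (g2 * x⁻¹ * g2⁻¹) ^ p ^ n = g2 * (x ^ p ^ n)⁻¹ * g2⁻¹ := by
        rw [conj_pow, inv_pow]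
      rw [e2]; group
    rw [h2]
    exact mul_mem h1 (inv_mem hc')

end Cfsg.Agent.S0644
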