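import Cfsg.Statements.S0656
import Cfsg.Agent.Lib.Helper11.NotStableSL2b
-- import your own Cfsg.Agent.* helpers here

set_option autoImplicit false
open Cfsg

namespace Cfsg.Agent.S0656

open scoped commutatorElement

/-- For odd p, a faithful group on an elementary abelian p-group with no nontrivial normal p-subgroup in which some nontrivial p-element acts quadratically has a section isomorphic to SL(2, p). -/
theorem result {G : Type*} [Group G] [Finite G] {p : ℕ} [Fact p.Prime] (hp : p ≠ 2) (V H : Subgroup G) (hV : Cfsg.IsElementaryAbelian p V) (hHV : H ≤ Subgroup.normalizer (V : Set G)) (hf : H ⊓ Subgroup.centralizer (V : Set G) = ⊥) (hO : Cfsg.pCore p ↥H = ⊥) (x : G) (hxH : x ∈ H) (hx1 : x ≠ 1) (hxp : ∃ k : ℕ, orderOf x = p ^ k) (hq : ⁅⁅V, Subgroup.zpowers x⁆, Subgroup.zpowers x⁆ = ⊥) : ∃ (K L : Subgroup G) (hL : (L.subgroupOf K).Normal), K ≤ H ∧ Nonempty ((K ⧸ L.subgroupOf K) ≃* Matrix.SpecialLinearGroup (Fin 2) (ZMod p)) :=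 by
  classical
  have hcV : ∀ x y : ↥V, x * y = y * x := fun x y => hV.1.is_comm.comm x y
  have hVexp : ∀ v : ↥V, v ^ p = 1 := fun v => Subtype.ext (by simpa using hV.2 _ v.2)
  let _ : CommGroup ↥V := { (inferInstance : Group ↥V) with mul_comm := hcV }
  obtain ⟨φ, hφ⟩ : ∃ φ : ↥H →* MulAut ↥V,
      φ = V.normalizerMonoidHom.comp (Subgroup.inclusion hHV) := ⟨_, rfl⟩
  have hφa : ∀ (g : ↥H) (v : ↥V), ((φ g v : ↥V) : G) = (g : G) * v * (g : G)⁻¹ := by
    intro g v
    rw [hφ]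
    rfl
  have hinj : Function.Injective φ := by
    rw [injective_iff_map_eq_one]
    intro g hg
    have hmem : (g : G) ∈ H ⊓ Subgroup.centralizer (V : Set G) := by
      refine Subgroup.mem_inf.mpr ⟨g.2, ?_⟩
      rw [Subgroup.mem_centralizer_iff]
      intro v hv
      have h1 := hφa g ⟨v, hv⟩
      rw [hg, MulAut.one_apply] at h1
      simp only at h1
      have h2 : (g : G) * v * (g : G)⁻¹ * (g : G) = v * (g : G) := by rw [← h1]
      rw [← h2]
      group
    rw [hf, Subgroup.mem_bot] at hmem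
    exact Subtype.ext hmem
  have hquad : ∀ v : ↥V, φ ⟨x, hxH⟩ (φ ⟨x, hxH⟩ v) * v = φ ⟨x, hxH⟩ v * φ ⟨x, hxH⟩ v := by
    intro v
    have hq1 := (Cfsg.Agent.Lib.Helper97.quad_iff V x).mp hq v v.2 x
      (Subgroup.mem_zpowers x) x (Subgroup.mem_zpowers x)
    have e1 : ⁅⁅(v : G), x⁆, x⁆ =
        (v : G) * (x * v * x⁻¹)⁻¹ * ((x * (x * v * x⁻¹) * x⁻¹) * (x * v * x⁻¹)⁻¹) := by
      rw [commutatorElement_def, commutatorElement_def]
      group
    rw [e1] at hq1
    have hq2 : v * (φ ⟨x, hxH⟩ v)⁻¹ * (φ ⟨x, hxH⟩ (φ ⟨x, hxH⟩ v) * (φ ⟨x, hxH⟩ v)⁻¹) = 1 := by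
      apply Subtype.ext
      simp only [Subgroup.coe_mul, Subgroup.coe_inv, hφa, Subgroup.coe_one]
      exact hq1
    exact Cfsg.Agent.Lib.Helper97.comm_rearr hcV _ _ _ hq2
  obtain ⟨D, f, hfs⟩ := Cfsg.Agent.Lib.Helper11.exists_surj_SL2_of_quadratic hp hVexp φ hinj hO
    ⟨x, hxH⟩ (fun h => hx1 (congrArg Subtype.val h)) hquad
  refine Cfsg.Agent.Lib.Helper11.exists_section_of_surj' H (D.map H.subtype) ?_
    (f.comp (D.equivMapOfInjective H.subtype H.subtype_injective).symm.toMonoidHom) ?_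
  · rintro _ ⟨d, _, rfl⟩
    exact d.2
  · intro t
    obtain ⟨d, hd⟩ := hfs t
    refine ⟨D.equivMapOfInjective H.subtype H.subtype_injective d, ?_⟩
    simp only [MonoidHom.coe_comp, MulEquiv.coe_toMonoidHom, Function.comp_apply,
      MulEquiv.symm_apply_apply]
    exact hd

end Cfsg.Agent.S0656
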