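import Cfsg.Statements.S0657
import Cfsg.Agent.Lib.Helper11.NoSL2Stable
-- import your own Cfsg.Agent.* helpers here

set_option autoImplicit false
open Cfsg

namespace Cfsg.Agent.S0657

/-- For odd p, a group that fails to be p-stable modulo its largest normal subgroup of order prime to p, and whose upper p-series does not stop there, has a section isomorphic to SL(2, p). -/
theorem result {G : Type*} [Group G] [Finite G] {p : ℕ} [Fact p.Prime] (hp : p ≠ 2) (hO : Cfsg.pPrimeCore p G < Cfsg.pPrimePCore p G) (hns : ¬ Cfsg.IsPStable p (G ⧸ Cfsg.pPrimeCore p G)) : ∃ (K L : Subgroup G) (hL : (L.subgroupOf K).Normal), K ≤ ⊤ ∧ Nonempty ((K ⧸ L.subgroupOf K) ≃* Matrix.SpecialLinearGroup (Fin 2) (ZMod p)) := by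
  by_contra hcon
  have hnoG : ¬ Cfsg.Agent.Lib.Helper11.InvolvesSL2 p G := by
    rintro ⟨D, f, hf⟩
    exact hcon (Cfsg.Agent.Lib.Helper11.exists_section_of_surj' ⊤ D le_top f hf)
  have hnoQ : ¬ Cfsg.Agent.Lib.Helper11.InvolvesSL2 p (G ⧸ Cfsg.pPrimeCore p G) := fun h =>
    hnoG (Cfsg.Agent.Lib.Helper11.InvolvesSL2.of_surjective (QuotientGroup.mk' _)
      (QuotientGroup.mk'_surjective _) h)
  have hstab := Cfsg.Agent.Lib.Helper11.isNormalizerPStable_of_noSL2 hp hnoQ
  apply hns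
  refine ⟨(Fact.out : p.Prime).odd_of_ne_two hp, ?_, ?_⟩
  · intro hbot
    unfold Cfsg.pPrimePCore at hO
    rw [hbot] at hO
    have : (⊥ : Subgroup (G ⧸ Cfsg.pPrimeCore p G)).comap (QuotientGroup.mk' (Cfsg.pPrimeCore p G)) =
        Cfsg.pPrimeCore p G := by
      exact QuotientGroup.ker_mk' _
    rw [this] at hO
    exact lt_irrefl _ hO
  · intro A P hA hP hAP hPle hPn hquad
    rintro _ ⟨⟨a, haN⟩, haA, rfl⟩
    have haA' : a ∈ A := haA
    have hle : Subgroup.zpowers a ≤ A := by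
      rw [Subgroup.zpowers_le]; exact haA'
    have hq : ⁅⁅P, Subgroup.zpowers a⁆, Subgroup.zpowers a⁆ = ⊥ :=
      eq_bot_iff.mpr (le_trans (Subgroup.commutator_mono
        (Subgroup.commutator_mono le_rfl hle) hle) hquad.le)
    exact hstab P hP a haN hq

end Cfsg.Agent.S0657
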