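import Cfsg.Statements.S0658
import Cfsg.Agent.S0653
import Cfsg.Agent.Lib.Helper11.ZJ2
import Cfsg.Agent.Lib.Helper17.SylowSub

set_option autoImplicit false
open Cfsg

namespace Cfsg.Agent.S0658

open Cfsg.Agent.Lib.Helper11

/-- the normalizer as a subgroup-valued function of a subgroup -/
abbrev nz {G : Type*} [Group G] (H : Subgroup G) : Subgroup G := Subgroup.normalizer (H : Set G)

theorem main {G : Type*} [Group G] [Finite G] {p : ℕ} [Fact p.Prime] (hp : p ≠ 2)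
    (hloc : ∀ Q : Subgroup G, IsPGroup p Q → Q ≠ ⊥ →
      Cfsg.pPrimeCore p ↥(Subgroup.normalizer (Q : Set G)) = ⊥ ∧
      Cfsg.IsPConstrained p ↥(Subgroup.normalizer (Q : Set G)) ∧
      Cfsg.IsPStable p ↥(Subgroup.normalizer (Q : Set G)))
    (P : Sylow p G) (Q : Subgroup G) (hQP : Q ≤ (P : Subgroup G)) (hQ1 : Q ≠ ⊥) :
    nz Q ≤ nz (zj (P : Subgroup G)) := by
  classical
  by_contra hcon
  let ℋ : Set (Subgroup G) := {Q' | Q' ≤ (P : Subgroup G) ∧ Q' ≠ ⊥ ∧ ¬ nz Q' ≤ nz (zj (P : Subgroup G))}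
  have hℋne : ℋ.Nonempty := ⟨Q, hQP, hQ1, hcon⟩
  obtain ⟨Q₀, ⟨hQ₀P, hQ₀1, hQ₀M⟩, hmax⟩ := Set.exists_max_image ℋ
    (fun Q' => Nat.card ↥(nz Q' ⊓ (P : Subgroup G))) (Set.toFinite ℋ) hℋne
  have hPM : (P : Subgroup G) ≤ nz (zj (P : Subgroup G)) :=
    Subgroup.le_normalizer.trans (normalizer_le_normalizer_zj _)
  have hQ₀p : IsPGroup p Q₀ := P.isPGroup'.to_le hQ₀P
  have hRp : IsPGroup p ↥(nz Q₀ ⊓ (P : Subgroup G)) := P.isPGroup'.to_le inf_le_right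
  have hQ₀R : Q₀ ≤ nz Q₀ ⊓ (P : Subgroup G) := le_inf Subgroup.le_normalizer hQ₀P
  have hR1 : nz Q₀ ⊓ (P : Subgroup G) ≠ ⊥ := fun h => hQ₀1 (le_bot_iff.mp (h ▸ hQ₀R))
  -- N(R) ≤ M
  have hNR : nz (nz Q₀ ⊓ (P : Subgroup G)) ≤ nz (zj (P : Subgroup G)) := by
    by_cases hRP : nz Q₀ ⊓ (P : Subgroup G) = P
    · rw [hRP]; exact normalizer_le_normalizer_zj _
    · by_contra hnot
      have hRlt : nz Q₀ ⊓ (P : Subgroup G) < P := lt_of_le_of_ne inf_le_right hRP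
      have h1 : nz Q₀ ⊓ (P : Subgroup G) < (P : Subgroup G) ⊓ nz (nz Q₀ ⊓ (P : Subgroup G)) :=
        Cfsg.Agent.Lib.Helper34.lt_inf_normalizer_of_lt P.isPGroup' hRlt
      have h2 := hmax _ ⟨inf_le_right, hR1, hnot⟩
      have h3 := card_lt_of_lt h1
      have h3' : Nat.card ↥((P : Subgroup G) ⊓ nz (nz Q₀ ⊓ (P : Subgroup G))) =
        Nat.card ↥(nz (nz Q₀ ⊓ (P : Subgroup G)) ⊓ (P : Subgroup G)) := by rw [inf_comm]
      have h2' : Nat.card ↥(nz (nz Q₀ ⊓ (P : Subgroup G)) ⊓ (P : Subgroup G)) ≤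
        Nat.card ↥(nz Q₀ ⊓ (P : Subgroup G)) := h2
      omega
  -- R is a Sylow subgroup of N(Q₀)
  obtain ⟨S', hS'⟩ := Cfsg.Agent.Lib.Helper17.exists_sylow_sub_ge (nz Q₀)
    (nz Q₀ ⊓ (P : Subgroup G)) inf_le_left hRp
  have hSle : (S' : Subgroup ↥(nz Q₀)).map (nz Q₀).subtype ≤ nz Q₀ :=
    Cfsg.Agent.Lib.Helper17.map_subtype_le' _ _
  have hSR : (S' : Subgroup ↥(nz Q₀)).map (nz Q₀).subtype = nz Q₀ ⊓ (P : Subgroup G) := by
    by_contra hne
    have hlt : nz Q₀ ⊓ (P : Subgroup G) < (S' : Subgroup ↥(nz Q₀)).map (nz Q₀).subtype :=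
      lt_of_le_of_ne hS' (Ne.symm hne)
    have hSp : IsPGroup p ↥((S' : Subgroup ↥(nz Q₀)).map (nz Q₀).subtype) :=
      Cfsg.Agent.Lib.Helper17.isPGroup_map_subtype _ S'
    have h1 : nz Q₀ ⊓ (P : Subgroup G) < (S' : Subgroup ↥(nz Q₀)).map (nz Q₀).subtype ⊓
        nz (nz Q₀ ⊓ (P : Subgroup G)) :=
      Cfsg.Agent.Lib.Helper34.lt_inf_normalizer_of_lt hSp hlt
    have hR₁M : (S' : Subgroup ↥(nz Q₀)).map (nz Q₀).subtype ⊓ nz (nz Q₀ ⊓ (P : Subgroup G)) ≤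
        nz (zj (P : Subgroup G)) := inf_le_right.trans hNR
    have hR₁p : IsPGroup p ↥((S' : Subgroup ↥(nz Q₀)).map (nz Q₀).subtype ⊓
        nz (nz Q₀ ⊓ (P : Subgroup G))) := hSp.to_le inf_le_left
    obtain ⟨m, hmM, hm⟩ := exists_conj_le_sylow_of_le P _ _ hPM hR₁M hR₁p
    have hQ₂ : Q₀.map (MulAut.conj m).toMonoidHom ∈ ℋ := by
      refine ⟨?_, ?_, ?_⟩
      · exact (Subgroup.map_mono (hQ₀R.trans h1.le)).trans hm
      · intro h
        apply hQ₀1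
        exact (Subgroup.map_eq_bot_iff_of_injective _ (MulAut.conj m).injective).mp h
      · intro hle
        apply hQ₀M
        have hle' : (nz Q₀).map (MulAut.conj m).toMonoidHom ≤ nz (zj (P : Subgroup G)) := by
          rw [Cfsg.Agent.Lib.Helper34.map_conj_normalizer]; exact hle
        intro x hx
        have h4 := hle' (Subgroup.mem_map_of_mem _ hx)
        have h4' : m * x * m⁻¹ ∈ nz (zj (P : Subgroup G)) := by simpa using h4
        have h5 : x = m⁻¹ * (m * x * m⁻¹) * m := by group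
        rw [h5]
        exact Subgroup.mul_mem _ (Subgroup.mul_mem _ (Subgroup.inv_mem _ hmM) h4') hmM
    have h6 := hmax _ hQ₂
    have h7 : ((S' : Subgroup ↥(nz Q₀)).map (nz Q₀).subtype ⊓
        nz (nz Q₀ ⊓ (P : Subgroup G))).map (MulAut.conj m).toMonoidHom ≤
        nz (Q₀.map (MulAut.conj m).toMonoidHom) ⊓ (P : Subgroup G) := by
      refine le_inf ?_ hm
      have : nz (Q₀.map (MulAut.conj m).toMonoidHom) = (nz Q₀).map (MulAut.conj m).toMonoidHom :=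
        (Cfsg.Agent.Lib.Helper34.map_conj_normalizer Q₀ m).symm
      rw [this]
      exact Subgroup.map_mono (inf_le_left.trans hSle)
    have h8 := Subgroup.card_le_of_le h7
    rw [Cfsg.Agent.Lib.Helper34.card_map_conj] at h8
    have h9 := card_lt_of_lt h1
    have h6' : Nat.card ↥(nz (Q₀.map (MulAut.conj m).toMonoidHom) ⊓ (P : Subgroup G)) ≤
        Nat.card ↥(nz Q₀ ⊓ (P : Subgroup G)) := h6
    omega
  -- Claim 2
  have hc2 : nz Q₀ ≤ nz (zj (nz Q₀ ⊓ (P : Subgroup G))) := by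
    obtain ⟨hO, hc, hs⟩ := hloc Q₀ hQ₀p hQ₀1
    have := le_normalizer_zj_of_sylow hp (nz Q₀) hO hc hs S'
    rwa [hSR] at this
  -- Claim 3
  have hc3 : nz (zj (nz Q₀ ⊓ (P : Subgroup G))) ≤ nz (zj (P : Subgroup G)) := by
    by_cases hRP : nz Q₀ ⊓ (P : Subgroup G) = P
    · rw [hRP]
    · by_contra hnot
      have hRlt : nz Q₀ ⊓ (P : Subgroup G) < P := lt_of_le_of_ne inf_le_right hRP
      have h1 : nz Q₀ ⊓ (P : Subgroup G) < (P : Subgroup G) ⊓ nz (nz Q₀ ⊓ (P : Subgroup G)) :=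
        Cfsg.Agent.Lib.Helper34.lt_inf_normalizer_of_lt P.isPGroup' hRlt
      have hZ₁ : zj (nz Q₀ ⊓ (P : Subgroup G)) ∈ ℋ :=
        ⟨(zj_le _).trans inf_le_right, zj_ne_bot _ hRp hR1, hnot⟩
      have h2 := hmax _ hZ₁
      have h3 : (P : Subgroup G) ⊓ nz (nz Q₀ ⊓ (P : Subgroup G)) ≤
          nz (zj (nz Q₀ ⊓ (P : Subgroup G))) ⊓ (P : Subgroup G) :=
        le_inf (inf_le_right.trans (normalizer_le_normalizer_zj _)) inf_le_left
      have h4 := Subgroup.card_le_of_le h3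
      have h5 := card_lt_of_lt h1
      have h2' : Nat.card ↥(nz (zj (nz Q₀ ⊓ (P : Subgroup G))) ⊓ (P : Subgroup G)) ≤
        Nat.card ↥(nz Q₀ ⊓ (P : Subgroup G)) := h2
      omega
  exact hQ₀M (hc2.trans hc3)

/-- In a group of characteristic p type all of whose p-locals are p-stable (p odd), the normalizer of Z(J(P)) contains the normalizer of every nontrivial subgroup of the Sylow p-subgroup P. -/
theorem result {G : Type*} [Group G] [Finite G] {p : ℕ} [Fact p.Prime] (hp : p ≠ 2) (hloc : ∀ Q : Subgroup G, IsPGroup p Q → Q ≠ ⊥ → Cfsg.pPrimeCore p ↥(Subgroup.normalizer (Q : Set G)) = ⊥ ∧ Cfsg.IsPConstrained p ↥(Subgroup.normalizer (Q : Set G)) ∧ Cfsg.IsPStable p ↥(Subgroup.normalizer (Q : Set G))) (P : Sylow p G) (Q : Subgroup G) (hQP : Q ≤ (P : Subgroup G)) (hQ1 : Q ≠ ⊥) : Subgroup.normalizer (Q : Set G) ≤ Subgroup.normalizer (Cfsg.centerThompsonAOf ((P : Subgroup G)) : Set G) := by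
  rw [Cfsg.Agent.S0653.centerThompsonAOf_eq_famInf]
  exact main hp hloc P Q hQP hQ1

end Cfsg.Agent.S0658
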