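import Cfsg.Statements.S0660
import Cfsg.Agent.S0055

set_option autoImplicit false
open Cfsg

namespace Cfsg.Agent.S0660

open scoped IsMulCommutative
open Cfsg.Agent.S0055

section
variable {G : Type*} [Group G] (V U W : Subgroup G) [IsMulCommutative V]

/-- a retraction of `V` onto the complemented subgroup `U`. -/
theorem exists_retraction (hUV : U ≤ V) (hWV : W ≤ V) (hUW : U ⊓ W = ⊥) (hUWV : U ⊔ W = V) :
    ∃ π : V →* V, (∀ v : V, (π v : G) ∈ U) ∧ ∀ v : V, (v : G) ∈ U → π v = v := by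
  classical
  -- unique decomposition
  have hex : ∀ v : V, ∃ u : V, (u : G) ∈ U ∧ ∃ w : V, (w : G) ∈ W ∧ u * w = v := by
    intro v
    have hv : (v : G) ∈ U ⊔ W := by rw [hUWV]; exact v.2
    have hcl : U ⊔ W = Subgroup.closure ((U : Set G) ∪ (W : Set G)) := Subgroup.sup_eq_closure _ _
    rw [hcl] at hv
    have key : ∀ x (hx : x ∈ Subgroup.closure ((U : Set G) ∪ (W : Set G))),
        ∃ u ∈ U, ∃ w ∈ W, u * w = x := by
      intro x hx
      refine Subgroup.closure_induction (p := fun x _ => ∃ u ∈ U, ∃ w ∈ W, u * w = x)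
        ?_ ?_ ?_ ?_ hx
      · rintro x (hx | hx)
        · exact ⟨x, hx, 1, W.one_mem, mul_one x⟩
        · exact ⟨1, U.one_mem, x, hx, one_mul x⟩
      · exact ⟨1, U.one_mem, 1, W.one_mem, mul_one 1⟩
      · rintro x y _ _ ⟨u, hu, w, hw, rfl⟩ ⟨u', hu', w', hw', rfl⟩
        refine ⟨u * u', U.mul_mem hu hu', w * w', W.mul_mem hw hw', ?_⟩
        have hc : w * u' = u' * w := by
          have := mul_comm (⟨w, hWV hw⟩ : V) ⟨u', hUV hu'⟩
          exact congrArg Subtype.val this
        calc u * u' * (w * w') = u * (u' * w) * w' := by group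
          _ = u * (w * u') * w' := by rw [hc]
          _ = u * w * (u' * w') := by group
      · rintro x _ ⟨u, hu, w, hw, rfl⟩
        refine ⟨u⁻¹, U.inv_mem hu, w⁻¹, W.inv_mem hw, ?_⟩
        have hc : w * u = u * w := by
          have := mul_comm (⟨w, hWV hw⟩ : V) ⟨u, hUV hu⟩
          exact congrArg Subtype.val this
        rw [← mul_inv_rev, hc]
    obtain ⟨u, hu, w, hw, huw⟩ := key v hv
    exact ⟨⟨u, hUV hu⟩, hu, ⟨w, hWV hw⟩, hw, Subtype.ext huw⟩
  have huniq : ∀ u u' w w' : V, (u : G) ∈ U → (u' : G) ∈ U → (w : G) ∈ W → (w' : G) ∈ W →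
      u * w = u' * w' → u = u' := by
    intro u u' w w' hu hu' hw hw' h
    have h1 : u'⁻¹ * u = w' * w⁻¹ := by
      calc u'⁻¹ * u = u'⁻¹ * (u * w) * w⁻¹ := by group
        _ = u'⁻¹ * (u' * w') * w⁻¹ := by rw [h]
        _ = w' * w⁻¹ := by group
    have h2 : ((u'⁻¹ * u : V) : G) ∈ U ⊓ W := by
      refine ⟨U.mul_mem (U.inv_mem hu') hu, ?_⟩
      rw [h1]
      exact W.mul_mem hw' (W.inv_mem hw)
    rw [hUW, Subgroup.mem_bot] at h2
    have h3 : u'⁻¹ * u = 1 := Subtype.ext h2
    exact (inv_mul_eq_one.mp h3).symm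
  let f : V → V := fun v => Classical.choose (hex v)
  have hf : ∀ v : V, (f v : G) ∈ U ∧ ∃ w : V, (w : G) ∈ W ∧ f v * w = v :=
    fun v => Classical.choose_spec (hex v)
  refine ⟨MonoidHom.mk' f ?_, fun v => (hf v).1, ?_⟩
  · intro v v'
    obtain ⟨hu, w, hw, hvw⟩ := hf v
    obtain ⟨hu', w', hw', hvw'⟩ := hf v'
    obtain ⟨hu'', w'', hw'', hvw''⟩ := hf (v * v')
    apply huniq (f (v * v')) (f v * f v') w'' (w * w') hu'' (U.mul_mem hu hu') hw''
      (W.mul_mem hw hw')
    rw [hvw'']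
    calc v * v' = (f v * w) * (f v' * w') := by rw [hvw, hvw']
      _ = f v * f v' * (w * w') := by
        rw [mul_mul_mul_comm]
  · intro v hv
    obtain ⟨hu, w, hw, hvw⟩ := hf v
    show f v = v
    apply huniq (f v) v w 1 hu hv hw W.one_mem
    rw [hvw, mul_one]

end

/-- Under a coprime action on an abelian group, an invariant subgroup that is complemented admits an invariant complement. -/
theorem result {G : Type*} [Group G] [Finite G] (V A U : Subgroup G) (hVab : IsMulCommutative V) (hAV : A ≤ Subgroup.normalizer (V : Set G)) (hcop : (Nat.card A).Coprime (Nat.card V)) (hUV : U ≤ V) (hAU : A ≤ Subgroup.normalizer (U : Set G)) (W : Subgroup G) (hWV : W ≤ V) (hUW : U ⊓ W = ⊥) (hUWV : U ⊔ W = V) : ∃ W' : Subgroup G, W' ≤ V ∧ A ≤ Subgroup.normalizer (W' : Set G) ∧ U ⊓ W' = ⊥ ∧ U ⊔ W' = V := by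
  classical
  have := hVab
  let _ : Fintype A := Fintype.ofFinite A
  obtain ⟨π, hπU, hπid⟩ := exists_retraction V U W hUV hWV hUW hUWV
  -- the averaged retraction
  let θ : V →* V := ∏ a : A, (conjV A V hAV a).comp (π.comp (conjV A V hAV a⁻¹))
  have hθ : ∀ v : V, θ v = ∏ a : A, conjV A V hAV a (π (conjV A V hAV a⁻¹ v)) := by
    intro v
    show (∏ a : A, (conjV A V hAV a).comp (π.comp (conjV A V hAV a⁻¹))) v = _
    rw [MonoidHom.finsetProd_apply]
    rfl
  -- A normalizes U: conjugation preserves U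
  have hconjU : ∀ (a : A) (v : V), (v : G) ∈ U → ((conjV A V hAV a v : V) : G) ∈ U := by
    intro a v hv
    rw [conjV_coe]
    exact (Subgroup.mem_normalizer_iff.mp (hAU a.2) v).mp hv
  -- θ maps into U
  have hθU : ∀ v : V, (θ v : G) ∈ U := by
    intro v
    rw [hθ]
    have : (∏ a : A, conjV A V hAV a (π (conjV A V hAV a⁻¹ v))) ∈ U.subgroupOf V := by
      apply Subgroup.prod_mem
      intro a _
      rw [Subgroup.mem_subgroupOf]
      exact hconjU a _ (hπU _)
    exact this
  -- θ on U is the n-th power map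
  have hθpow : ∀ v : V, (v : G) ∈ U → θ v = v ^ Nat.card A := by
    intro v hv
    rw [hθ]
    have : ∀ a : A, conjV A V hAV a (π (conjV A V hAV a⁻¹ v)) = v := by
      intro a
      rw [hπid _ (hconjU a⁻¹ v hv), conjV_mul, mul_inv_cancel]
      ext; simp
    simp_rw [this]
    rw [Finset.prod_const, Finset.card_univ, Nat.card_eq_fintype_card]
  -- equivariance
  have hθconj : ∀ (b : A) (v : V), θ (conjV A V hAV b v) = conjV A V hAV b (θ v) := by
    intro b v
    rw [hθ, hθ, map_prod]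
    have h1 : ∀ a : A, conjV A V hAV a (π (conjV A V hAV a⁻¹ (conjV A V hAV b v)))
        = conjV A V hAV b (conjV A V hAV (b⁻¹ * a) (π (conjV A V hAV (b⁻¹ * a)⁻¹ v))) := by
      intro a
      rw [conjV_mul, conjV_mul, mul_inv_rev, inv_inv, mul_inv_cancel_left]
    simp_rw [h1]
    exact Fintype.prod_equiv (Equiv.mulLeft b⁻¹) _ _ (fun a => rfl)
  refine ⟨θ.ker.map V.subtype, Subgroup.map_subtype_le _, ?_, ?_, ?_⟩
  · rw [Subgroup.le_normalizer_iff]
    rintro a ha _ ⟨v, hv, rfl⟩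
    refine ⟨conjV A V hAV ⟨a, ha⟩ v, ?_, rfl⟩
    have hv' : θ v = 1 := MonoidHom.mem_ker.mp hv
    show conjV A V hAV ⟨a, ha⟩ v ∈ θ.ker
    rw [MonoidHom.mem_ker, hθconj, hv', map_one]
  · rw [eq_bot_iff]
    rintro x ⟨hxU, v, hv, rfl⟩
    rw [Subgroup.mem_bot]
    have hv : θ v = 1 := MonoidHom.mem_ker.mp hv
    rw [hθpow v hxU] at hv
    have h1 : orderOf v ∣ Nat.card A := orderOf_dvd_of_pow_eq_one hv
    have h2 : orderOf v ∣ Nat.card V := orderOf_dvd_natCard v
    have h3 : orderOf v = 1 := Nat.eq_one_of_dvd_coprimes hcop h1 h2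
    have h4 : v = 1 := orderOf_eq_one_iff.mp h3
    rw [h4]; rfl
  · apply le_antisymm
    · exact sup_le hUV (Subgroup.map_subtype_le _)
    · intro x hx
      set v : V := ⟨x, hx⟩ with hvdef
      -- u ∈ U with u ^ n = θ v
      have hcopU : (Nat.card (U.subgroupOf V)).Coprime (Nat.card A) := by
        have hdvd : Nat.card (U.subgroupOf V) ∣ Nat.card V := Subgroup.card_subgroup_dvd_card _
        exact (Nat.Coprime.coprime_dvd_left hdvd hcop.symm)
      let y : U.subgroupOf V := ⟨θ v, hθU v⟩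
      obtain ⟨u, hu⟩ := (powCoprime hcopU).surjective y
      rw [powCoprime_apply] at hu
      have hu' : (u : V) ^ Nat.card A = θ v := by
        have := congrArg Subtype.val hu
        simpa using this
      have huU : ((u : V) : G) ∈ U := u.2
      have hker : (u : V)⁻¹ * v ∈ θ.ker := by
        rw [MonoidHom.mem_ker, map_mul, map_inv, hθpow _ huU, hu', inv_mul_cancel]
      have hx' : x = ((u : V) : G) * (((u : V)⁻¹ * v : V) : G) := by
        simp [hvdef]
      rw [hx']
      exact Subgroup.mul_mem _ (Subgroup.mem_sup_left huU)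
        (Subgroup.mem_sup_right ⟨_, hker, rfl⟩)

end Cfsg.Agent.S0660
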