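import Cfsg.Statements.S0661
import Cfsg.Agent.S0028
import Cfsg.Agent.Lib.Helper76.PCore
import Cfsg.Agent.Lib.Helper48.Coprime

set_option autoImplicit false
open Cfsg

namespace Cfsg.Agent.S0661

/-- an element killed by a power coprime to `p` and lying in a `p`-subgroup is trivial -/
theorem eq_one_of_mem_pgroup {A : Type*} [Group A] (p : ℕ) (U : Subgroup A) (hU : IsPGroup p U)
    (b : A) (hb : b ∈ U) (n : ℕ) (hn : n.Coprime p) (h1 : b ^ n = 1) : b = 1 := by
  obtain ⟨k, hk⟩ := hU ⟨b, hb⟩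
  have h2 : b ^ p ^ k = 1 := by
    have := congrArg Subtype.val hk
    simpa using this
  exact Cfsg.Agent.Lib.Helper76.eq_one_of_pow_eq_one_of_coprime p b n k hn h1 h2

theorem aux {G : Type*} [Group G] [Finite G] {p : ℕ} [Fact p.Prime] (K : Subgroup G) [K.Normal]
    (hK : (Nat.card K).Coprime p)
    (hc : Subgroup.centralizer (Cfsg.pCore p (G ⧸ K) : Set (G ⧸ K)) ≤ Cfsg.pCore p (G ⧸ K))
    (P : Subgroup G) (hP : IsPGroup p P)
    (X' : Subgroup ↥(Subgroup.normalizer (P : Set G))) [X'.Normal]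
    (hX' : (Nat.card X').Coprime p) :
    ∀ x ∈ X', ((x : ↥(Subgroup.normalizer (P : Set G))) : G) ∈ K := by
  -- powers
  have hpowX : ∀ x ∈ X', ((x : ↥(Subgroup.normalizer (P : Set G))) : G) ^ Nat.card X' = 1 := by
    intro x hx
    have h1 : orderOf ((x : ↥(Subgroup.normalizer (P : Set G))) : G) = orderOf (⟨x, hx⟩ : X') := by
      rw [Subgroup.orderOf_coe, ← Subgroup.orderOf_coe (⟨x, hx⟩ : X')]
    apply orderOf_dvd_iff_pow_eq_one.mp
    rw [h1]
    exact orderOf_dvd_natCard _
  -- Step 2: X' centralizes P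
  have hcomm : ∀ x ∈ X', ∀ y ∈ P,
      ((x : ↥(Subgroup.normalizer (P : Set G))) : G) * y = y * (x : G) := by
    intro x hx y hy
    have hyN : y ∈ Subgroup.normalizer (P : Set G) := Subgroup.le_normalizer hy
    have hcX : x * ((⟨y, hyN⟩ : ↥(Subgroup.normalizer (P : Set G))) * x⁻¹ * ⟨y, hyN⟩⁻¹) ∈ X' :=
      X'.mul_mem hx (Subgroup.Normal.conj_mem inferInstance _ (X'.inv_mem hx) _)
    have hcP : (x : G) * y * (x : G)⁻¹ * y⁻¹ ∈ P := by
      apply P.mul_mem _ (P.inv_mem hy)
      exact ((Subgroup.mem_normalizer_iff.mp x.2) y).mp hy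
    have hpow := hpowX _ hcX
    have hval : ((x * ((⟨y, hyN⟩ : ↥(Subgroup.normalizer (P : Set G))) * x⁻¹ * ⟨y, hyN⟩⁻¹) :
        ↥(Subgroup.normalizer (P : Set G))) : G) = (x : G) * y * (x : G)⁻¹ * y⁻¹ := by
      simp [mul_assoc]
    rw [hval] at hpow
    have h1 := eq_one_of_mem_pgroup p P hP _ hcP _ hX' hpow
    calc (x : G) * y = ((x : G) * y * (x : G)⁻¹ * y⁻¹) * y * (x : G) := by group
      _ = y * (x : G) := by rw [h1, one_mul]
  -- the quotient
  have hU : IsPGroup p (Cfsg.pCore p (G ⧸ K)) := Cfsg.Agent.Lib.Helper76.pCore_isPGroup p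
  have hnotdvd : ¬ p ∣ Nat.card K := by
    intro h
    have h2 : p ∣ Nat.gcd (Nat.card K) p := Nat.dvd_gcd h dvd_rfl
    rw [hK] at h2
    exact (Fact.out : p.Prime).one_lt.ne' (Nat.dvd_one.mp h2)
  -- apply Thompson's P × Q lemma in the quotient
  have hcent : (X'.map (Subgroup.normalizer (P : Set G)).subtype).map (QuotientGroup.mk' K) ≤
      Subgroup.centralizer (Cfsg.pCore p (G ⧸ K) : Set (G ⧸ K)) := by
    apply Cfsg.Agent.S0028.result p (P.map (QuotientGroup.mk' K)) _ _ (hP.map _) _ hU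
    · -- P̄ centralizes X̄
      rintro _ ⟨y, hy, rfl⟩
      rw [Subgroup.mem_centralizer_iff]
      rintro _ ⟨_, ⟨x, hx, rfl⟩, rfl⟩
      have := hcomm x hx y hy
      show QuotientGroup.mk' K ((x : G)) * QuotientGroup.mk' K y =
        QuotientGroup.mk' K y * QuotientGroup.mk' K (x : G)
      rw [← map_mul, ← map_mul, this]
    · have : Subgroup.normalizer ((Cfsg.pCore p (G ⧸ K) : Subgroup (G ⧸ K)) : Set (G ⧸ K)) = ⊤ :=
        Subgroup.normalizer_eq_top _
      rw [this]; exact le_top
    · have : Subgroup.normalizer ((Cfsg.pCore p (G ⧸ K) : Subgroup (G ⧸ K)) : Set (G ⧸ K)) = ⊤ :=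
        Subgroup.normalizer_eq_top _
      rw [this]; exact le_top
    · -- main step
      intro u hu
      obtain ⟨huU, huC⟩ := Subgroup.mem_inf.mp hu
      obtain ⟨d, rfl⟩ := QuotientGroup.mk'_surjective K u
      rw [Subgroup.mem_centralizer_iff] at huC
      rw [Subgroup.mem_centralizer_iff]
      rintro _ ⟨_, ⟨x, hx, rfl⟩, rfl⟩
      -- find d' in the coset dK centralizing P
      have hxd : ∀ b ∈ P, d⁻¹ * (b * d * b⁻¹) ∈ K := by
        intro b hb
        have h1 := huC _ (Subgroup.mem_map_of_mem _ hb)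
        rw [← QuotientGroup.eq_one_iff]
        show QuotientGroup.mk' K (d⁻¹ * (b * d * b⁻¹)) = 1
        rw [map_mul, map_mul, map_mul, map_inv, map_inv, h1]
        group
      obtain ⟨n, hn, hfix⟩ := Cfsg.Agent.Lib.Helper48.exists_fixed_in_coset P hP K hnotdvd
        (by
          have : Subgroup.normalizer ((K : Subgroup G) : Set G) = ⊤ := Subgroup.normalizer_eq_top _
          rw [this]; exact le_top) d hxd
      have hd'N : d * n ∈ Subgroup.normalizer (P : Set G) := by
        apply Subgroup.centralizer_le_normalizer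
        rw [Subgroup.mem_centralizer_iff]
        intro b hb
        have := hfix b hb
        calc b * (d * n) = (b * (d * n) * b⁻¹) * b := by group
          _ = d * n * b := by rw [this]
      have hπ : QuotientGroup.mk' K (d * n) = QuotientGroup.mk' K d := by
        rw [map_mul]
        have : QuotientGroup.mk' K n = 1 := (QuotientGroup.eq_one_iff n).mpr hn
        rw [this, mul_one]
      -- the commutator [x, d'] lies in X'
      have hcX : x * ((⟨d * n, hd'N⟩ : ↥(Subgroup.normalizer (P : Set G))) * x⁻¹ * ⟨d * n, hd'N⟩⁻¹) ∈ X' :=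
        X'.mul_mem hx (Subgroup.Normal.conj_mem inferInstance _ (X'.inv_mem hx) _)
      have hpow := hpowX _ hcX
      have hval : ((x * ((⟨d * n, hd'N⟩ : ↥(Subgroup.normalizer (P : Set G))) * x⁻¹ * ⟨d * n, hd'N⟩⁻¹) :
          ↥(Subgroup.normalizer (P : Set G))) : G) = (x : G) * (d * n) * (x : G)⁻¹ * (d * n)⁻¹ := by
        simp [mul_assoc]
      rw [hval] at hpow
      -- its image lies in U
      have himg : QuotientGroup.mk' K ((x : G) * (d * n) * (x : G)⁻¹ * (d * n)⁻¹) =
          QuotientGroup.mk' K (x : G) * QuotientGroup.mk' K d * (QuotientGroup.mk' K (x : G))⁻¹ *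
            (QuotientGroup.mk' K d)⁻¹ := by
        rw [map_mul, map_mul, map_mul, map_inv, map_inv, hπ]
      have hmemU : QuotientGroup.mk' K (x : G) * QuotientGroup.mk' K d * (QuotientGroup.mk' K (x : G))⁻¹ *
            (QuotientGroup.mk' K d)⁻¹ ∈ Cfsg.pCore p (G ⧸ K) := by
        apply Subgroup.mul_mem _ _ (Subgroup.inv_mem _ huU)
        exact Subgroup.Normal.conj_mem inferInstance _ huU _
      have hpow2 : (QuotientGroup.mk' K (x : G) * QuotientGroup.mk' K d * (QuotientGroup.mk' K (x : G))⁻¹ *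
            (QuotientGroup.mk' K d)⁻¹) ^ Nat.card X' = 1 := by
        rw [← himg, ← map_pow, hpow, map_one]
      have h1 := eq_one_of_mem_pgroup p _ hU _ hmemU _ hX' hpow2
      calc QuotientGroup.mk' K (x : G) * QuotientGroup.mk' K d
          = (QuotientGroup.mk' K (x : G) * QuotientGroup.mk' K d * (QuotientGroup.mk' K (x : G))⁻¹ *
            (QuotientGroup.mk' K d)⁻¹) * QuotientGroup.mk' K d * QuotientGroup.mk' K (x : G) := by group
        _ = QuotientGroup.mk' K d * QuotientGroup.mk' K (x : G) := by rw [h1, one_mul]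
    · -- X̄ is a p'-group
      have h1 : Nat.card ((X'.map (Subgroup.normalizer (P : Set G)).subtype).map (QuotientGroup.mk' K)) ∣
          Nat.card X' := by
        refine (Subgroup.card_map_dvd _ _).trans ?_
        rw [Subgroup.card_map_of_injective (Subgroup.subtype_injective _)]
      exact Nat.Coprime.coprime_dvd_left h1 hX'
  intro x hx
  have hmem : QuotientGroup.mk' K (x : G) ∈ Cfsg.pCore p (G ⧸ K) :=
    hc (hcent (Subgroup.mem_map_of_mem _ (Subgroup.mem_map_of_mem _ hx)))
  have hpow : (QuotientGroup.mk' K (x : G)) ^ Nat.card X' = 1 := by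
    rw [← map_pow, hpowX x hx, map_one]
  have h1 := eq_one_of_mem_pgroup p _ hU _ hmem _ hX' hpow
  exact (QuotientGroup.eq_one_iff _).mp h1

/-- If, modulo the largest normal subgroup of order prime to p, the largest normal p-subgroup contains its centralizer, then for every p-subgroup P the p'-core of N_G(P) is just O_p'(G) ∩ N_G(P). -/
theorem result {G : Type*} [Group G] [Finite G] {p : ℕ} [Fact p.Prime] (hc : Subgroup.centralizer (Cfsg.pCore p (G ⧸ Cfsg.pPrimeCore p G) : Set (G ⧸ Cfsg.pPrimeCore p G)) ≤ Cfsg.pCore p (G ⧸ Cfsg.pPrimeCore p G)) (P : Subgroup G) (hP : IsPGroup p P) : (Cfsg.pPrimeCore p ↥(Subgroup.normalizer (P : Set G))).map (Subgroup.normalizer (P : Set G)).subtype = Cfsg.pPrimeCore p G ⊓ Subgroup.normalizer (P : Set G) := by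
  have hKcop : (Nat.card (pPrimeCore p G)).Coprime p := Cfsg.Agent.Lib.Helper76.pPrimeCore_coprime p
  have hXcop : (Nat.card (pPrimeCore p ↥(Subgroup.normalizer (P : Set G)))).Coprime p :=
    Cfsg.Agent.Lib.Helper76.pPrimeCore_coprime p
  apply le_antisymm
  · rintro _ ⟨x, hx, rfl⟩
    exact ⟨aux (pPrimeCore p G) hKcop hc P hP _ hXcop x hx, x.2⟩
  · rintro g ⟨hgK, hgN⟩
    refine ⟨⟨g, hgN⟩, ?_, rfl⟩
    have hle : (pPrimeCore p G).subgroupOf (Subgroup.normalizer (P : Set G)) ≤
        pPrimeCore p ↥(Subgroup.normalizer (P : Set G)) := by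
      apply Cfsg.Agent.Lib.Helper76.le_pPrimeCore p _ inferInstance
      exact Nat.Coprime.coprime_dvd_left
        (Subgroup.card_comap_dvd_of_injective _ _ (Subgroup.subtype_injective _)) hKcop
    exact hle hgK

end Cfsg.Agent.S0661
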