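import Cfsg.Statements.S0663
import Cfsg.Agent.S0028

set_option autoImplicit false
open Cfsg

namespace Cfsg.Agent.S0663

open scoped commutatorElement

section general
variable {L : Type*} [Group L]

/-- if `Γ` normalizes `H` then `⁅H, Γ⁆ ≤ H` -/
theorem commutator_le_of_le_normalizer {H Γ : Subgroup L}
    (h : Γ ≤ Subgroup.normalizer (H : Set L)) : ⁅H, Γ⁆ ≤ H := by
  rw [Subgroup.commutator_le]
  intro x hx g hg
  have h1 : g * x⁻¹ * g⁻¹ ∈ H := ((Subgroup.mem_normalizer_iff.mp (h hg)) x⁻¹).mp (H.inv_mem hx)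
  have : ⁅x, g⁆ = x * (g * x⁻¹ * g⁻¹) := by rw [commutatorElement_def]; group
  rw [this]
  exact H.mul_mem hx h1

/-- elements of `H ⊔ K` when `H` normalizes `K` -/
theorem mem_sup_of_le_normalizer {H K : Subgroup L} (hHK : H ≤ Subgroup.normalizer (K : Set L))
    {x : L} (hx : x ∈ H ⊔ K) : ∃ h ∈ H, ∃ k ∈ K, x = h * k := by
  have hconj : ∀ h ∈ H, ∀ k ∈ K, h * k * h⁻¹ ∈ K := fun h hh k hk =>
    ((Subgroup.mem_normalizer_iff.mp (hHK hh)) k).mp hk
  rw [Subgroup.sup_eq_closure] at hx
  induction hx using Subgroup.closure_induction with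
  | mem y hy =>
    rcases hy with hy | hy
    · exact ⟨y, hy, 1, K.one_mem, by rw [mul_one]⟩
    · exact ⟨1, H.one_mem, y, hy, by rw [one_mul]⟩
  | one => exact ⟨1, H.one_mem, 1, K.one_mem, by rw [mul_one]⟩
  | mul y z _ _ ihy ihz =>
    obtain ⟨h, hh, k, hk, rfl⟩ := ihy
    obtain ⟨h', hh', k', hk', rfl⟩ := ihz
    refine ⟨h * h', H.mul_mem hh hh', (h'⁻¹ * k * h'⁻¹⁻¹) * k', K.mul_mem ?_ hk', by group⟩
    exact hconj h'⁻¹ (H.inv_mem hh') k hk
  | inv y _ ihy =>
    obtain ⟨h, hh, k, hk, rfl⟩ := ihy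
    refine ⟨h⁻¹, H.inv_mem hh, h * k⁻¹ * h⁻¹, hconj h hh k⁻¹ (K.inv_mem hk), by group⟩

theorem card_mul_relIndex {H K : Subgroup L} (h : H ≤ K) :
    Nat.card H * H.relIndex K = Nat.card K := by
  have h1 := Subgroup.card_mul_index (H.subgroupOf K)
  rwa [Nat.card_congr (Subgroup.subgroupOfEquivOfLe h).toEquiv] at h1

theorem card_mul_prime_le [Finite L] {p : ℕ} [Fact p.Prime] {H K : Subgroup L}
    (hH : IsPGroup p H) (hKH : K ≤ H) (hne : K ≠ H) : Nat.card K * p ≤ Nat.card H := by
  obtain ⟨a, ha⟩ := IsPGroup.iff_card.mp hH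
  obtain ⟨b, hb⟩ := IsPGroup.iff_card.mp (hH.to_le hKH)
  have hdvd : Nat.card K ∣ Nat.card H := Subgroup.card_dvd_of_le hKH
  rw [ha, hb] at hdvd ⊢
  have hp : p.Prime := Fact.out
  have hba : b ≤ a := (Nat.pow_dvd_pow_iff_le_right hp.one_lt).mp hdvd
  have hba' : b ≠ a := by
    intro h
    apply hne
    apply Subgroup.eq_of_le_of_card_ge hKH
    rw [ha, hb, h]
  have : b + 1 ≤ a := by omega
  calc p ^ b * p = p ^ (b + 1) := (pow_succ p b).symm
    _ ≤ p ^ a := Nat.pow_le_pow_right hp.pos this

end general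

section main
variable {L : Type*} [Group L] [Finite L] {p : ℕ} [Fact p.Prime] (N G : Subgroup L)

theorem iter_inv (hGN : G ≤ Subgroup.normalizer (N : Set L)) :
    ∀ i, G ≤ Subgroup.normalizer (Cfsg.iterCommutator N G i : Set L) := by
  intro i
  induction i with
  | zero => exact hGN
  | succ i ih =>
    exact Cfsg.Agent.S0028.le_normalizer_commutator ih Subgroup.le_normalizer

theorem iter_succ_le (hGN : G ≤ Subgroup.normalizer (N : Set L)) (i : ℕ) :
    Cfsg.iterCommutator N G (i + 1) ≤ Cfsg.iterCommutator N G i :=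
  commutator_le_of_le_normalizer (iter_inv N G hGN i)

theorem iter_antitone (hGN : G ≤ Subgroup.normalizer (N : Set L)) :
    ∀ i j, i ≤ j → Cfsg.iterCommutator N G j ≤ Cfsg.iterCommutator N G i := by
  intro i j hij
  induction j with
  | zero =>
    have : i = 0 := by omega
    rw [this]
  | succ j ih =>
    rcases Nat.eq_or_lt_of_le hij with h | h
    · rw [h]
    · exact (iter_succ_le N G hGN j).trans (ih (by omega))

theorem iter_le (hGN : G ≤ Subgroup.normalizer (N : Set L)) (i : ℕ) :
    Cfsg.iterCommutator N G i ≤ N :=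
  iter_antitone N G hGN 0 i (Nat.zero_le i)

/-- the key computation of orders -/
theorem key_cards (hN : IsPGroup p N) (hG : IsPGroup p G)
    (hGN : G ≤ Subgroup.normalizer (N : Set L)) (n : ℕ) (hn : Nat.card N = p ^ n)
    (hn1 : 1 ≤ n) (hne : Cfsg.iterCommutator N G (n - 1) ≠ ⊥) :
    ∀ i ≤ n, Nat.card (Cfsg.iterCommutator N G i) = p ^ (n - i) := by
  have hp : p.Prime := Fact.out
  have hpg : ∀ i, IsPGroup p (Cfsg.iterCommutator N G i) := fun i => hN.to_le (iter_le N G hGN i)
  have hnebot : ∀ i ≤ n - 1, Cfsg.iterCommutator N G i ≠ ⊥ := by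
    intro i hi h
    apply hne
    rw [eq_bot_iff, ← h]
    exact iter_antitone N G hGN i (n - 1) hi
  have hstep : ∀ i ≤ n - 1, Nat.card (Cfsg.iterCommutator N G (i + 1)) * p ≤
      Nat.card (Cfsg.iterCommutator N G i) := by
    intro i hi
    apply card_mul_prime_le (hpg i) (iter_succ_le N G hGN i)
    intro h
    exact hnebot i hi (Cfsg.Agent.S0028.eq_bot_of_commutator_eq (hpg i) hG (iter_inv N G hGN i) h)
  have hupper : ∀ i ≤ n, Nat.card (Cfsg.iterCommutator N G i) * p ^ i ≤ p ^ n := by
    intro i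
    induction i with
    | zero =>
      intro _
      show Nat.card N * p ^ 0 ≤ p ^ n
      rw [hn, pow_zero, mul_one]
    | succ i ih =>
      intro hi
      have h1 := hstep i (by omega)
      have h2 := ih (by omega)
      calc Nat.card (Cfsg.iterCommutator N G (i + 1)) * p ^ (i + 1)
          = (Nat.card (Cfsg.iterCommutator N G (i + 1)) * p) * p ^ i := by rw [pow_succ]; ring
        _ ≤ Nat.card (Cfsg.iterCommutator N G i) * p ^ i := Nat.mul_le_mul_right _ h1
        _ ≤ p ^ n := h2
  have hbase : p ≤ Nat.card (Cfsg.iterCommutator N G (n - 1)) := by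
    obtain ⟨a, ha⟩ := IsPGroup.iff_card.mp (hpg (n - 1))
    rw [ha]
    have ha0 : a ≠ 0 := by
      rintro rfl
      rw [pow_zero] at ha
      exact hne ((Subgroup.card_eq_one).mp ha)
    calc p = p ^ 1 := (pow_one p).symm
      _ ≤ p ^ a := Nat.pow_le_pow_right hp.pos (by omega)
  have hlower : ∀ j ≤ n - 1, p ^ (j + 1) ≤ Nat.card (Cfsg.iterCommutator N G (n - 1 - j)) := by
    intro j
    induction j with
    | zero =>
      intro _
      simpa using hbase
    | succ j ih =>
      intro hj
      have h1 := hstep (n - 1 - (j + 1)) (by omega)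
      have h2 := ih (by omega)
      have h3 : n - 1 - (j + 1) + 1 = n - 1 - j := by omega
      rw [h3] at h1
      calc p ^ (j + 1 + 1) = p ^ (j + 1) * p := pow_succ p (j + 1)
        _ ≤ Nat.card (Cfsg.iterCommutator N G (n - 1 - j)) * p := Nat.mul_le_mul_right _ h2
        _ ≤ _ := h1
  intro i hi
  apply le_antisymm
  · have h1 := hupper i hi
    have h2 : p ^ n = p ^ (n - i) * p ^ i := by rw [← pow_add]; congr 1; omega
    rw [h2] at h1
    exact Nat.le_of_mul_le_mul_right h1 (pow_pos hp.pos i)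
  · rcases Nat.eq_or_lt_of_le hi with h | h
    · rw [h, Nat.sub_self, pow_zero]
      exact Nat.card_pos
    · have h1 := hlower (n - 1 - i) (by omega)
      have h2 : n - 1 - (n - 1 - i) = i := by omega
      have h3 : n - 1 - i + 1 = n - i := by omega
      rw [h2, h3] at h1
      exact h1

/-- the chain terms are normalized by `N` -/
theorem key_normal (hN : IsPGroup p N) (hG : IsPGroup p G)
    (hGN : G ≤ Subgroup.normalizer (N : Set L)) (n : ℕ) (hn : Nat.card N = p ^ n)
    (hn1 : 1 ≤ n) (hne : Cfsg.iterCommutator N G (n - 1) ≠ ⊥) :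
    ∀ i ≤ n, N ⊔ G ≤ Subgroup.normalizer (Cfsg.iterCommutator N G i : Set L) := by
  have hp : p.Prime := Fact.out
  have hcards := key_cards N G hN hG hGN n hn hn1 hne
  have hΓ : IsPGroup p (N ⊔ G : Subgroup L) := hN.to_sup_of_normal_left' hG hGN
  intro i
  induction i with
  | zero =>
    intro _
    exact sup_le Subgroup.le_normalizer hGN
  | succ i ih =>
    intro hi
    have ihi := ih (by omega)
    -- M = ⁅N_i, Γ⁆
    have hMinv : N ⊔ G ≤ Subgroup.normalizer
        ((⁅Cfsg.iterCommutator N G i, N ⊔ G⁆ : Subgroup L) : Set L) :=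
      Cfsg.Agent.S0028.le_normalizer_commutator ihi Subgroup.le_normalizer
    have hMle : ⁅Cfsg.iterCommutator N G i, N ⊔ G⁆ ≤ Cfsg.iterCommutator N G i :=
      commutator_le_of_le_normalizer ihi
    have hle : Cfsg.iterCommutator N G (i + 1) ≤ ⁅Cfsg.iterCommutator N G i, N ⊔ G⁆ :=
      Subgroup.commutator_mono le_rfl le_sup_right
    have hpgi : IsPGroup p (Cfsg.iterCommutator N G i) := hN.to_le (iter_le N G hGN i)
    have hMne : ⁅Cfsg.iterCommutator N G i, N ⊔ G⁆ ≠ Cfsg.iterCommutator N G i := by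
      intro h
      have h1 := Cfsg.Agent.S0028.eq_bot_of_commutator_eq hpgi hΓ ihi h
      have h2 := hcards i (by omega)
      rw [h1, Subgroup.card_bot] at h2
      have : 1 < p ^ (n - i) := Nat.one_lt_pow (by omega) hp.one_lt
      omega
    have h3 := card_mul_prime_le hpgi hMle hMne
    rw [hcards i (by omega)] at h3
    have h4 : p ^ (n - i) = p ^ (n - (i + 1)) * p := by
      rw [← pow_succ]; congr 1; omega
    rw [h4] at h3
    have h5 : Nat.card (⁅Cfsg.iterCommutator N G i, N ⊔ G⁆ : Subgroup L) ≤ p ^ (n - (i + 1)) :=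
      Nat.le_of_mul_le_mul_right h3 hp.pos
    have heq : Cfsg.iterCommutator N G (i + 1) = ⁅Cfsg.iterCommutator N G i, N ⊔ G⁆ := by
      apply Subgroup.eq_of_le_of_card_ge hle
      rw [hcards (i + 1) hi]
      exact h5
    rw [heq]
    exact hMinv

/-- classification of the invariant subgroups -/
theorem key_class (hN : IsPGroup p N) (hG : IsPGroup p G)
    (hGN : G ≤ Subgroup.normalizer (N : Set L)) (n : ℕ) (hn : Nat.card N = p ^ n)
    (hn1 : 1 ≤ n) (hne : Cfsg.iterCommutator N G (n - 1) ≠ ⊥) :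
    ∀ d i, i + d = n → ∀ H : Subgroup L, G ≤ Subgroup.normalizer (H : Set L) →
      H ≤ Cfsg.iterCommutator N G i → ¬ H ≤ Cfsg.iterCommutator N G (i + 1) →
      H = Cfsg.iterCommutator N G i := by
  have hp : p.Prime := Fact.out
  have hcards := key_cards N G hN hG hGN n hn hn1 hne
  have hnorm := key_normal N G hN hG hGN n hn hn1 hne
  intro d
  induction d with
  | zero =>
    intro i hi H _ hHi hHi1
    exfalso
    -- i = n, N_n = ⊥
    have h1 := hcards i (by omega)
    have : n - i = 0 := by omega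
    rw [this, pow_zero, Subgroup.card_eq_one] at h1
    rw [h1] at hHi
    exact hHi1 (hHi.trans bot_le)
  | succ d ih =>
    intro i hi H hHinv hHi hHi1
    have hpgi : IsPGroup p (Cfsg.iterCommutator N G i) := hN.to_le (iter_le N G hGN i)
    have hci := hcards i (by omega)
    have hci1 := hcards (i + 1) (by omega)
    have hpow : p ^ (n - i) = p ^ (n - (i + 1)) * p := by
      rw [← pow_succ]; congr 1; omega
    -- it suffices to show N_{i+1} ≤ H
    have hsuff : Cfsg.iterCommutator N G (i + 1) ≤ H → H = Cfsg.iterCommutator N G i := by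
      intro hle
      by_contra hne'
      have h3 := card_mul_prime_le hpgi hHi hne'
      rw [hci, hpow] at h3
      have h5 : Nat.card H ≤ p ^ (n - (i + 1)) := Nat.le_of_mul_le_mul_right h3 hp.pos
      have h6 : Cfsg.iterCommutator N G (i + 1) = H := by
        apply Subgroup.eq_of_le_of_card_ge hle
        rw [hci1]; exact h5
      exact hHi1 (h6 ▸ le_rfl)
    rcases Nat.eq_zero_or_pos d with hd | hd
    · -- i + 1 = n : N_{i+1} = ⊥
      apply hsuff
      have : n - (i + 1) = 0 := by omega
      rw [this, pow_zero, Subgroup.card_eq_one] at hci1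
      rw [hci1]; exact bot_le
    · -- i + 2 ≤ n
      apply hsuff
      have hHN : H ≤ N := hHi.trans (iter_le N G hGN i)
      -- H ⊔ N_{i+1} = N_i
      have hHnorm : H ≤ Subgroup.normalizer (Cfsg.iterCommutator N G (i + 1) : Set L) :=
        (hHN.trans le_sup_left).trans (hnorm (i + 1) (by omega))
      have hsup : H ⊔ Cfsg.iterCommutator N G (i + 1) = Cfsg.iterCommutator N G i := by
        have hle : H ⊔ Cfsg.iterCommutator N G (i + 1) ≤ Cfsg.iterCommutator N G i :=
          sup_le hHi (iter_succ_le N G hGN i)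
        by_contra hne'
        have h3 := card_mul_prime_le hpgi hle hne'
        rw [hci, hpow] at h3
        have h5 : Nat.card (H ⊔ Cfsg.iterCommutator N G (i + 1) : Subgroup L) ≤ p ^ (n - (i + 1)) :=
          Nat.le_of_mul_le_mul_right h3 hp.pos
        have h6 : Cfsg.iterCommutator N G (i + 1) = H ⊔ Cfsg.iterCommutator N G (i + 1) := by
          apply Subgroup.eq_of_le_of_card_ge le_sup_right
          rw [hci1]; exact h5
        apply hHi1
        rw [h6]; exact le_sup_left
      -- N_{i+1} ≤ N_{i+2} ⊔ ⁅H, G⁆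
      have hcomm : Cfsg.iterCommutator N G (i + 1) ≤
          Cfsg.iterCommutator N G (i + 2) ⊔ ⁅H, G⁆ := by
        show ⁅Cfsg.iterCommutator N G i, G⁆ ≤ _
        rw [← hsup, Subgroup.commutator_le]
        intro x hx g hg
        obtain ⟨h, hh, k, hk, rfl⟩ := mem_sup_of_le_normalizer hHnorm hx
        have hid : ⁅h * k, g⁆ = (h * ⁅k, g⁆ * h⁻¹) * ⁅h, g⁆ := by
          simp only [commutatorElement_def]; group
        rw [hid]
        apply Subgroup.mul_mem
        · apply Subgroup.mem_sup_left
          have hkg : ⁅k, g⁆ ∈ Cfsg.iterCommutator N G (i + 2) :=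
            Subgroup.commutator_mem_commutator hk hg
          have hhn : h ∈ Subgroup.normalizer (Cfsg.iterCommutator N G (i + 2) : Set L) :=
            hnorm (i + 2) (by omega) (Subgroup.mem_sup_left (hHN hh))
          exact ((Subgroup.mem_normalizer_iff.mp hhn) _).mp hkg
        · apply Subgroup.mem_sup_right
          exact Subgroup.commutator_mem_commutator hh hg
      -- apply induction to H' = ⁅H, G⁆
      have hH'inv : G ≤ Subgroup.normalizer ((⁅H, G⁆ : Subgroup L) : Set L) :=
        Cfsg.Agent.S0028.le_normalizer_commutator hHinv Subgroup.le_normalizer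
      have hH'le : ⁅H, G⁆ ≤ Cfsg.iterCommutator N G (i + 1) :=
        Subgroup.commutator_mono hHi le_rfl
      have hH'not : ¬ ⁅H, G⁆ ≤ Cfsg.iterCommutator N G (i + 1 + 1) := by
        intro hle
        have h7 : Cfsg.iterCommutator N G (i + 1) ≤ Cfsg.iterCommutator N G (i + 2) :=
          hcomm.trans (sup_le le_rfl hle)
        have h8 := Subgroup.card_le_of_le h7
        rw [hci1, hcards (i + 2) (by omega)] at h8
        have h9 : n - (i + 2) < n - (i + 1) := by omega
        have := Nat.pow_lt_pow_right hp.one_lt h9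
        omega
      have hH'eq := ih (i + 1) (by omega) ⁅H, G⁆ hH'inv hH'le hH'not
      rw [← hH'eq]
      exact commutator_le_of_le_normalizer hHinv

/-- every invariant subgroup is a chain term -/
theorem class_all (hN : IsPGroup p N) (hG : IsPGroup p G)
    (hGN : G ≤ Subgroup.normalizer (N : Set L)) (n : ℕ) (hn : Nat.card N = p ^ n)
    (hn1 : 1 ≤ n) (hne : Cfsg.iterCommutator N G (n - 1) ≠ ⊥)
    (H : Subgroup L) (hHN : H ≤ N) (hHinv : G ≤ Subgroup.normalizer (H : Set L)) :
    ∃ i ≤ n, H = Cfsg.iterCommutator N G i ∧ (H ≠ ⊥ → i + 1 ≤ n) := by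
  have hcards := key_cards N G hN hG hGN n hn hn1 hne
  have hbot : Cfsg.iterCommutator N G n = ⊥ := by
    have h1 := hcards n le_rfl
    rwa [Nat.sub_self, pow_zero, Subgroup.card_eq_one] at h1
  by_cases hH : H = ⊥
  · exact ⟨n, le_rfl, by rw [hH, hbot], fun h => absurd hH h⟩
  · have hex : ∃ j, ¬ H ≤ Cfsg.iterCommutator N G j := by
      refine ⟨n, ?_⟩
      rw [hbot]
      intro h
      exact hH (eq_bot_iff.mpr h)
    classical
    have hspec := Nat.find_spec hex
    have hjn : Nat.find hex ≤ n := by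
      apply Nat.find_min' hex
      rw [hbot]
      intro h
      exact hH (eq_bot_iff.mpr h)
    have hj0 : Nat.find hex ≠ 0 := by
      intro h0
      rw [h0] at hspec
      exact hspec hHN
    obtain ⟨i, hi⟩ := Nat.exists_eq_succ_of_ne_zero hj0
    have hHi : H ≤ Cfsg.iterCommutator N G i := by
      by_contra hcon
      exact Nat.find_min hex (by omega : i < Nat.find hex) hcon
    rw [hi] at hspec hjn
    have := key_class N G hN hG hGN n hn hn1 hne (n - i) i (by omega) H hHinv hHi hspec
    exact ⟨i, by omega, this, fun _ => hjn⟩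

/-- uniserial implies the chain has full length -/
theorem uni_cards (hGN : G ≤ Subgroup.normalizer (N : Set L)) (n : ℕ)
    (hn : Nat.card N = p ^ n)
    (hU : ∀ H : Subgroup L, H ≤ N → G ≤ Subgroup.normalizer (H : Set L) → H ≠ ⊥ →
      (⁅H, G⁆).relIndex H = p) :
    ∀ i ≤ n, Nat.card (Cfsg.iterCommutator N G i) = p ^ (n - i) := by
  have hp : p.Prime := Fact.out
  intro i
  induction i with
  | zero =>
    intro _
    exact hn
  | succ i ih =>
    intro hi
    have h1 := ih (by omega)
    have hne : Cfsg.iterCommutator N G i ≠ ⊥ := by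
      intro h
      rw [h, Subgroup.card_bot] at h1
      have : 1 < p ^ (n - i) := Nat.one_lt_pow (by omega) hp.one_lt
      omega
    have h2 := hU _ (iter_le N G hGN i) (iter_inv N G hGN i) hne
    have h3 := card_mul_relIndex (iter_succ_le N G hGN i)
    have h4 : (Cfsg.iterCommutator N G (i + 1)).relIndex (Cfsg.iterCommutator N G i) = p := h2
    rw [h4, h1] at h3
    have h5 : p ^ (n - i) = p ^ (n - (i + 1)) * p := by
      rw [← pow_succ]; congr 1; omega
    rw [h5] at h3
    exact Nat.eq_of_mul_eq_mul_right hp.pos h3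

end main

/-- A p-group acts uniserially on a p-group N of order p^n exactly when the iterated commutator chain from N has length n; in that case the chain terms are all the invariant subgroups of N and they are normal in N. -/
theorem result {L : Type*} [Group L] [Finite L] {p : ℕ} [Fact p.Prime] (N G : Subgroup L) (hN : IsPGroup p N) (hG : IsPGroup p G) (hGN : G ≤ Subgroup.normalizer (N : Set L)) (n : ℕ) (hn : Nat.card N = p ^ n) : ((∀ H : Subgroup L, H ≤ N → G ≤ Subgroup.normalizer (H : Set L) → H ≠ ⊥ → (⁅H, G⁆).relIndex H = p) ↔ Cfsg.iterCommutator N G (n - 1) ≠ ⊥ ∨ n = 0) ∧ ((∀ H : Subgroup L, H ≤ N → G ≤ Subgroup.normalizer (H : Set L) → H ≠ ⊥ → (⁅H, G⁆).relIndex H = p) → ∀ H : Subgroup L, H ≤ N → G ≤ Subgroup.normalizer (H : Set L) → (∃ i ≤ n, H = Cfsg.iterCommutator N G i) ∧ N ≤ Subgroup.normalizer (H : Set L)) := by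
  have hp : p.Prime := Fact.out
  have hfwd : (∀ H : Subgroup L, H ≤ N → G ≤ Subgroup.normalizer (H : Set L) → H ≠ ⊥ →
      (⁅H, G⁆).relIndex H = p) → Cfsg.iterCommutator N G (n - 1) ≠ ⊥ ∨ n = 0 := by
    intro hU
    rcases Nat.eq_zero_or_pos n with h0 | h0
    · exact Or.inr h0
    · left
      have h1 := uni_cards N G hGN n hn hU (n - 1) (by omega)
      intro h
      rw [h, Subgroup.card_bot] at h1
      have : 1 < p ^ (n - (n - 1)) := Nat.one_lt_pow (by omega) hp.one_lt
      omega
  have hN0 : n = 0 → N = ⊥ := by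
    intro h0
    rw [h0, pow_zero, Subgroup.card_eq_one] at hn
    exact hn
  refine ⟨⟨hfwd, ?_⟩, ?_⟩
  · intro hor H hHN hHinv hHne
    rcases Nat.eq_zero_or_pos n with h0 | h0
    · exfalso
      apply hHne
      rw [eq_bot_iff, ← hN0 h0]
      exact hHN
    · have hne : Cfsg.iterCommutator N G (n - 1) ≠ ⊥ := by
        rcases hor with h | h
        · exact h
        · omega
      obtain ⟨i, hin, hHi, hi1⟩ := class_all N G hN hG hGN n hn h0 hne H hHN hHinv
      have hi1' := hi1 hHne
      have hcards := key_cards N G hN hG hGN n hn h0 hne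
      have h3 := card_mul_relIndex (iter_succ_le N G hGN i)
      rw [hcards i hin, hcards (i + 1) hi1'] at h3
      have h5 : p ^ (n - i) = p ^ (n - (i + 1)) * p := by
        rw [← pow_succ]; congr 1; omega
      rw [h5] at h3
      have h6 := Nat.eq_of_mul_eq_mul_left (pow_pos hp.pos _) h3
      rw [hHi]
      exact h6
  · intro hU H hHN hHinv
    rcases Nat.eq_zero_or_pos n with h0 | h0
    · have hNb := hN0 h0
      have hHb : H = ⊥ := by
        rw [eq_bot_iff, ← hNb]; exact hHN
      refine ⟨⟨0, by omega, ?_⟩, ?_⟩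
      · show H = N
        rw [hHb, hNb]
      · rw [hNb]; exact bot_le
    · have hne : Cfsg.iterCommutator N G (n - 1) ≠ ⊥ := by
        rcases hfwd hU with h | h
        · exact h
        · omega
      obtain ⟨i, hin, hHi, _⟩ := class_all N G hN hG hGN n hn h0 hne H hHN hHinv
      refine ⟨⟨i, hin, hHi⟩, ?_⟩
      rw [hHi]
      exact le_sup_left.trans (key_normal N G hN hG hGN n hn h0 hne i hin)

end Cfsg.Agent.S0663
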