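import Cfsg.Statements.S0667
import Cfsg.Agent.S0653
import Cfsg.Agent.Lib.Helper11.ZJ3

set_option autoImplicit false
open Cfsg

namespace Cfsg.Agent.S0667

open Cfsg.Agent.Lib.Helper11

theorem sup_normalizer_zj {G : Type*} [Group G] [Finite G] {p : ℕ} [Fact p.Prime] (hp : p ≠ 2)
    (hc : Cfsg.IsPConstrained p G) (hs : Cfsg.IsPStable p G) (P : Sylow p G) :
    Cfsg.pPrimeCore p G ⊔ Subgroup.normalizer ((zj (P : Subgroup G) : Subgroup G) : Set G) = ⊤ := by
  have hπ : Function.Surjective (QuotientGroup.mk' (pPrimeCore p G)) :=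
    QuotientGroup.mk'_surjective _
  have hO' : pPrimeCore p (G ⧸ pPrimeCore p G) = ⊥ :=
    Cfsg.Agent.Lib.Helper54.pPrimeCore_quotient_pPrimeCore p
  have hc' : IsPConstrained p (G ⧸ pPrimeCore p G) :=
    (Cfsg.Agent.Lib.Helper54.isPConstrained_iff_quotient p).mp hc
  have hc'' := (Cfsg.Agent.Lib.Helper54.isPConstrained_iff_of_pPrimeCore_eq_bot p hO').mp hc'
  have hst' := hst_quotient_of_isPStable hs
  have hn := famInf_normal' hp isMulCommutative_bot'' (fun _ h => h)
    (fun _ _ _ => Subgroup.map_isMulCommutative _ _) (replClosed_comm hp) hc'' hst'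
    (P.mapSurjective hπ)
  have hdisj : ∀ x, x ∈ pPrimeCore p G → x ∈ (P : Subgroup G) → x = 1 := fun x hxK hxP =>
    Cfsg.Agent.Lib.Helper54.eq_one_of_mem_pGroup_of_mem_coprime P.isPGroup'
      (Cfsg.Agent.Lib.Helper54.card_pPrimeCore_coprime p) hxP hxK
  have hinj : Set.InjOn (QuotientGroup.mk' (pPrimeCore p G)) ((P : Subgroup G) : Set G) := by
    intro x hx y hy hxy
    have h1 : x⁻¹ * y ∈ pPrimeCore p G := QuotientGroup.eq.mp hxy
    have h2 := hdisj _ h1 (Subgroup.mul_mem _ (Subgroup.inv_mem _ hx) hy)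
    calc x = x * (x⁻¹ * y) * y⁻¹ * y := by rw [h2]; group
      _ = y := by group
  have hzj : zj ((P : Subgroup G).map (QuotientGroup.mk' (pPrimeCore p G))) =
      (zj (P : Subgroup G)).map (QuotientGroup.mk' (pPrimeCore p G)) := zj_map _ _ hinj
  rw [Sylow.coe_mapSurjective] at hn
  have hn' : ((zj (P : Subgroup G)).map (QuotientGroup.mk' (pPrimeCore p G))).Normal := by
    rw [← hzj]; exact hn
  have hL₂n : (((zj (P : Subgroup G)).map (QuotientGroup.mk' (pPrimeCore p G))).comap
      (QuotientGroup.mk' (pPrimeCore p G))).Normal := inferInstance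
  rw [Subgroup.comap_map_eq, QuotientGroup.ker_mk'] at hL₂n
  obtain ⟨Z', hZ'⟩ := Cfsg.Agent.Lib.Helper47.exists_sylow_eq_subgroupOf_of_normal P
    (zj (P : Subgroup G) ⊔ pPrimeCore p G)
  have hfrat := Sylow.normalizer_sup_eq_top Z'
  have hZmap : (Z' : Subgroup ↥(zj (P : Subgroup G) ⊔ pPrimeCore p G)).map
      (zj (P : Subgroup G) ⊔ pPrimeCore p G).subtype = zj (P : Subgroup G) := by
    rw [hZ', Subgroup.subgroupOf_map_subtype]
    apply le_antisymm
    · rintro x ⟨hxP, hx⟩
      obtain ⟨z, hz, k, hk, rfl⟩ := Subgroup.mem_sup_of_normal_right.mp hx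
      have hkP : k ∈ (P : Subgroup G) := by
        have : k = z⁻¹ * (z * k) := by group
        rw [this]
        exact Subgroup.mul_mem _ (Subgroup.inv_mem _ (zj_le _ hz)) hxP
      rw [hdisj k hk hkP, mul_one]; exact hz
    · exact le_inf (zj_le _) le_sup_left
  rw [hZmap] at hfrat
  rw [eq_top_iff, ← hfrat]
  exact sup_le le_sup_right (sup_le (Subgroup.le_normalizer.trans le_sup_right) le_sup_left)

/-- Glauberman's Theorem in the p-constrained, p-stable vocabulary: for odd p such a group is the product of its largest normal subgroup of order prime to p with the normalizer of Z(J(P)), and Z(J(P)) is normal when that p'-subgroup is trivial. -/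
theorem result {G : Type*} [Group G] [Finite G] {p : ℕ} [Fact p.Prime] (hp : p ≠ 2) (hc : Cfsg.IsPConstrained p G) (hs : Cfsg.IsPStable p G) (P : Sylow p G) : Cfsg.pPrimeCore p G ⊔ Subgroup.normalizer (Cfsg.centerThompsonAOf ((P : Subgroup G)) : Set G) = ⊤ ∧ (Cfsg.pPrimeCore p G = ⊥ → (Cfsg.centerThompsonAOf ((P : Subgroup G))).Normal) := by
  rw [Cfsg.Agent.S0653.centerThompsonAOf_eq_famInf]
  exact ⟨sup_normalizer_zj hp hc hs P, fun hO => zj_normal_of_isPStable hp hO hc hs P⟩

end Cfsg.Agent.S0667
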