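import Cfsg.Statements.S0669
-- import your own Cfsg.Agent.* helpers here

set_option autoImplicit false
open Cfsg

namespace Cfsg.Agent.S0669

/-- The rank of a transitive action: orbits on ordered pairs correspond to orbits of a point stabiliser. -/
theorem result {G : Type*} [Group G] {Ω : Type*} [Finite Ω] [MulAction G Ω] [MulAction.IsPretransitive G Ω] (a : Ω) : Nat.card (MulAction.orbitRel.Quotient G (Ω × Ω)) = Nat.card (MulAction.orbitRel.Quotient (MulAction.stabilizer G a) Ω) := by
  symm
  let f : MulAction.orbitRel.Quotient (MulAction.stabilizer G a) Ω →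
      MulAction.orbitRel.Quotient G (Ω × Ω) :=
    Quotient.map' (fun b => (a, b)) (by
      intro b b' h
      rw [MulAction.orbitRel_apply, MulAction.mem_orbit_iff] at h ⊢
      obtain ⟨g, hg⟩ := h
      refine ⟨g.1, ?_⟩
      rw [Prod.smul_mk]
      have : g.1 • a = a := g.2
      rw [this]
      congr 1)
  apply Nat.card_congr
  refine Equiv.ofBijective f ⟨?_, ?_⟩
  · intro x y
    induction x using Quotient.inductionOn' with | _ b => ?_
    induction y using Quotient.inductionOn' with | _ b' => ?_
    intro h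
    simp only [f, Quotient.map'_mk''] at h
    rw [Quotient.eq''] at h ⊢
    rw [MulAction.orbitRel_apply, MulAction.mem_orbit_iff] at h ⊢
    obtain ⟨g, hg⟩ := h
    rw [Prod.smul_mk, Prod.mk.injEq] at hg
    exact ⟨⟨g, hg.1⟩, hg.2⟩
  · intro y
    induction y using Quotient.inductionOn' with | _ p => ?_
    obtain ⟨g, hg⟩ := MulAction.exists_smul_eq G a p.1
    refine ⟨Quotient.mk'' (g⁻¹ • p.2), ?_⟩
    simp only [f, Quotient.map'_mk'']
    rw [Quotient.eq'']
    rw [MulAction.orbitRel_apply, MulAction.mem_orbit_iff]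
    refine ⟨g⁻¹, ?_⟩
    obtain ⟨p1, p2⟩ := p
    simp only at hg
    rw [Prod.smul_mk, ← hg, inv_smul_smul]

end Cfsg.Agent.S0669
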