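import Cfsg.Statements.S0677
import Mathlib
import Cfsg.Agent.Lib.Helper12.PrimeDegree3
import Cfsg.Agent.Lib.Helper12.DiffSet
import Cfsg.Agent.Lib.Helper1.HallConj
import Cfsg.Agent.S0675
-- import your own Cfsg.Agent.* helpers here

set_option autoImplicit false
open Cfsg
open scoped Pointwise

namespace Cfsg.Agent.S0677

set_option maxHeartbeats 800000 in
open MulAction in
/-- In a transitive permutation group of prime degree `p` whose Sylow `p`-normaliser has even order, the point stabilisers are the only subgroups of index `p`. -/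
theorem result {α : Type*} [Fintype α] [DecidableEq α] {p : ℕ} [Fact p.Prime] (hα : Fintype.card α = p) (G : Subgroup (Equiv.Perm α)) [MulAction.IsPretransitive G α] (P : Sylow p G) (heven : Even (Nat.card (Subgroup.normalizer ((P : Subgroup G) : Set G)))) (H : Subgroup G) (hH : H.index = p) : ∃ a : α, H = MulAction.stabilizer G a := by
  classical
  have hp := (Fact.out : p.Prime)
  obtain ⟨a0⟩ : Nonempty α := by
    rw [← Fintype.card_pos_iff, hα]; exact hp.pos
  have hcardG := fun a : α => Cfsg.Agent.Lib.Helper12.card_eq_mul_card_stabilizer hα G a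
  have hnd := fun a : α => Cfsg.Agent.Lib.Helper12.not_dvd_card_stabilizer hα G a
  have hHcard : ∀ a : α, Nat.card H = Nat.card (stabilizer G a) := by
    intro a
    have h1 := H.card_mul_index
    rw [hH, hcardG a, mul_comm] at h1
    exact Nat.eq_of_mul_eq_mul_left hp.pos h1
  have hfin : ∀ a : α, H ≤ stabilizer G a → H = stabilizer G a := by
    intro a hle
    exact Subgroup.eq_of_le_of_card_ge hle (hHcard a).ge
  have hHnd : ¬ p ∣ Nat.card H := by rw [hHcard a0]; exact hnd a0
  by_cases hsolv : Group.IsSolvable G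
  · -- Hall conjugacy
    have := hsolv
    obtain ⟨g, hg⟩ := Cfsg.Agent.Lib.Helper1.hall_conj (Nat.card (stabilizer G a0)) p
      (by rw [hcardG a0, mul_comm])
      ((Nat.Prime.coprime_iff_not_dvd hp).mpr (hnd a0)).symm (stabilizer G a0) H rfl (hHcard a0)
    refine ⟨g • a0, ?_⟩
    rw [← hg, MulAction.stabilizer_smul_eq_stabilizer_map_conj]
    rfl
  · have hp5 : 5 ≤ p := by
      by_contra hlt
      push Not at hlt
      apply hsolv
      apply Cfsg.Agent.S0675.small_solvable G
      rw [hα]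
      have h2 := hp.two_le
      interval_cases p
      · left; rfl
      · right; rfl
      · exfalso; exact absurd hp (by norm_num)
    have hp2 : p ≠ 2 := by omega
    have h2t : IsMultiplyPretransitive G α 2 := by
      rcases Cfsg.Agent.S0675.result (by rw [hα]; exact hp) G with h | h
      · exact absurd h hsolv
      · exact h
    have h2t' : ∀ {a b c d : α}, a ≠ b → c ≠ d → ∃ g : G, g • a = c ∧ g • b = d :=
      MulAction.is_two_pretransitive_iff.mp h2t
    obtain ⟨σ, t, ι, c, hordσ, hσ, ht⟩ :=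
      Cfsg.Agent.Lib.Helper12.sylow_setup hα hp2 G P heven
    have hcompl : Subgroup.IsComplement' (Subgroup.zpowers σ) H := by
      apply Subgroup.isComplement'_of_coprime
      · rw [Nat.card_zpowers, hordσ, hHcard a0, ← hcardG a0]
      · rw [Nat.card_zpowers, hordσ]; exact (Nat.Prime.coprime_iff_not_dvd hp).mpr hHnd
    have hdecomp : ∀ g : G, ∃ k : ℕ, ∃ h ∈ H, g = σ ^ k * h := by
      intro g
      obtain ⟨⟨⟨z, hz⟩, ⟨h, hh⟩⟩, hx⟩ := hcompl.2 g
      have hfo : IsOfFinOrder σ := isOfFinOrder_of_finite σ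
      rw [SetLike.mem_coe, ← hfo.mem_powers_iff_mem_zpowers, Submonoid.mem_powers_iff] at hz
      obtain ⟨k, rfl⟩ := hz
      exact ⟨k, h, hh, hx.symm⟩
    have hpow : ∀ (n : ℕ) (z : ZMod p), σ ^ n • ι z = ι (z + n) := by
      intro n
      induction n with
      | zero => intro z; rw [pow_zero, one_smul, Nat.cast_zero, add_zero]
      | succ n ih =>
        intro z
        rw [pow_succ', mul_smul, ih, ← hσ, Nat.cast_succ, add_assoc]
    -- the orbit of `ι 0` under `H`
    obtain ⟨D, hD⟩ : ∃ D : Finset (ZMod p),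
        D = Finset.univ.filter (fun j => ∃ h : G, h ∈ H ∧ h • ι 0 = ι j) := ⟨_, rfl⟩
    have hmemD : ∀ j, j ∈ D ↔ ∃ h : G, h ∈ H ∧ h • ι 0 = ι j := by
      intro j; rw [hD]; simp
    have hinv : ∀ h : G, h ∈ H → ∀ y : α,
        (∃ h' : G, h' ∈ H ∧ h' • ι 0 = h • y) ↔ (∃ h' : G, h' ∈ H ∧ h' • ι 0 = y) := by
      intro h hh y
      constructor
      · rintro ⟨h', hh', e⟩
        refine ⟨h⁻¹ * h', H.mul_mem (H.inv_mem hh) hh', ?_⟩
        rw [mul_smul, e, inv_smul_smul]
      · rintro ⟨h', hh', e⟩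
        refine ⟨h * h', H.mul_mem hh hh', ?_⟩
        rw [mul_smul, e]
    have hD0 : D.Nonempty := ⟨0, (hmemD 0).mpr ⟨1, H.one_mem, one_smul _ _⟩⟩
    have hD1 : D ≠ Finset.univ := by
      intro hDu
      apply hHnd
      have htr : IsPretransitive H α := by
        refine ⟨fun x y => ?_⟩
        obtain ⟨jx, rfl⟩ := ι.surjective x
        obtain ⟨jy, rfl⟩ := ι.surjective y
        have hx : jx ∈ D := by rw [hDu]; exact Finset.mem_univ _
        have hy : jy ∈ D := by rw [hDu]; exact Finset.mem_univ _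
        rw [hmemD] at hx hy
        obtain ⟨h1, hh1, e1⟩ := hx
        obtain ⟨h2, hh2, e2⟩ := hy
        refine ⟨⟨h2 * h1⁻¹, H.mul_mem hh2 (H.inv_mem hh1)⟩, ?_⟩
        change (h2 * h1⁻¹) • ι jx = ι jy
        rw [← e1, ← e2, mul_smul, inv_smul_smul]
      have h1 := MulAction.index_stabilizer_of_transitive H (ι 0)
      have h2 := (stabilizer H (ι 0)).index_dvd_card
      rw [h1, Nat.card_eq_fintype_card, hα] at h2
      exact h2
    -- transport to `ZMod p`
    obtain ⟨conjP, hconjP⟩ : ∃ conjP : G → Equiv.Perm (ZMod p),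
        ∀ (g : G) (j : ZMod p), conjP g j = ι.symm (g • ι j) :=
      ⟨fun g => (ι.trans (g : Equiv.Perm α)).trans ι.symm, fun g j => rfl⟩
    have hblock : ∀ g' ∈ Set.range conjP, ∀ i : ZMod p, ∃ i' : ZMod p,
        ∀ x, g' x - i' ∈ D ↔ x - i ∈ D := by
      rintro _ ⟨g, rfl⟩ i
      obtain ⟨k, h, hh, hgk⟩ := hdecomp (g * σ ^ i.val)
      refine ⟨(k : ZMod p), fun x => ?_⟩
      have e1 : ι x = σ ^ i.val • ι (x - i) := by
        rw [hpow, ZMod.natCast_zmod_val, sub_add_cancel]
      obtain ⟨z, hz⟩ : ∃ z, ι z = h • ι (x - i) := ⟨ι.symm _, ι.apply_symm_apply _⟩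
      have e2 : conjP g x = z + k := by
        rw [hconjP, e1, ← mul_smul, hgk, mul_smul, ← hz, hpow, Equiv.symm_apply_apply]
      rw [e2, add_sub_cancel_right, hmemD, hmemD, hz]
      exact hinv h hh (ι (x - i))
    have h2 : ∀ d d' : ZMod p, d ≠ 0 → d' ≠ 0 →
        ∃ g' ∈ Set.range conjP, g' 0 = 0 ∧ g' d = d' := by
      intro d d' hd hd'
      obtain ⟨g, hg0, hgd⟩ := h2t' (a := ι 0) (b := ι d) (c := ι 0) (d := ι d')
        (fun e => hd (ι.injective e).symm) (fun e => hd' (ι.injective e).symm)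
      refine ⟨conjP g, ⟨g, rfl⟩, ?_, ?_⟩
      · rw [hconjP, hg0, Equiv.symm_apply_apply]
      · rw [hconjP, hgd, Equiv.symm_apply_apply]
    have htc : ∀ x, conjP t x = -x + c := by
      intro x
      rw [hconjP, ht, Equiv.symm_apply_apply]
    obtain ⟨e, he⟩ := Cfsg.Agent.Lib.Helper12.diffset hp2 D hD0 hD1 (Set.range conjP) hblock h2
      (conjP t) ⟨t, rfl⟩ c htc
    refine ⟨ι e, hfin (ι e) ?_⟩
    intro h hh
    rw [MulAction.mem_stabilizer_iff]
    obtain ⟨z, hz⟩ : ∃ z, ι z = h • ι e := ⟨ι.symm _, ι.apply_symm_apply _⟩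
    rw [← hz]
    congr 1
    rcases he with he | he
    · have heD : e ∈ D := (he e).mpr rfl
      have hzD : z ∈ D := by
        rw [hmemD, hz]
        exact (hinv h hh (ι e)).mpr ((hmemD e).mp heD)
      exact (he z).mp hzD
    · by_contra hne
      have hzD : z ∈ D := (he z).mpr hne
      rw [hmemD, hz] at hzD
      have heD : e ∈ D := (hmemD e).mpr ((hinv h hh (ι e)).mp hzD)
      exact (he e).mp heD rfl

end Cfsg.Agent.S0677
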