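import Cfsg.Statements.S0681
import Mathlib
-- import your own Cfsg.Agent.* helpers here

set_option autoImplicit false
open Cfsg

namespace Cfsg.Agent.S0681

section NF
variable {F : Type*} [Cfsg.NearField F]

theorem nf_zero_mul (a : F) : (0 : F) * a = 0 := by
  have h := Cfsg.NearField.right_distrib (0 : F) 0 a
  rw [add_zero] at h
  exact left_eq_add.mp h

theorem nf_neg_mul (x a : F) : (-x) * a = -(x * a) := by
  have h := Cfsg.NearField.right_distrib x (-x) a
  rw [add_neg_cancel, nf_zero_mul] at h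
  exact (neg_eq_of_add_eq_zero_right h.symm).symm

theorem nf_sub_mul (x y a : F) : (x - y) * a = x * a - y * a := by
  rw [sub_eq_add_neg, Cfsg.NearField.right_distrib, nf_neg_mul, ← sub_eq_add_neg]

theorem nf_one_ne_zero : (1 : F) ≠ 0 := fun h => Cfsg.NearField.zero_ne_one h.symm

theorem nf_exists_inv {a : F} (ha : a ≠ 0) : ∃ b : F, b ≠ 0 ∧ a * b = 1 ∧ b * a = 1 := by
  obtain ⟨b, h1, h2⟩ := Cfsg.NearField.exists_inv a ha
  refine ⟨b, ?_, h1, h2⟩
  rintro rfl
  rw [Cfsg.NearField.mul_zero] at h1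
  exact Cfsg.NearField.zero_ne_one h1

theorem nf_mul_ne_zero {a c : F} (ha : a ≠ 0) (hc : c ≠ 0) : a * c ≠ 0 := by
  intro h
  obtain ⟨b, _, _, h2⟩ := nf_exists_inv ha
  apply hc
  have : b * (a * c) = c := by rw [← mul_assoc, h2, one_mul]
  rw [← this, h, Cfsg.NearField.mul_zero]

end NF

/-- The affine maps `x ↦ x * a + b`, `a ≠ 0`, of a near-field form a sharply doubly transitive permutation group. -/
theorem result {F : Type*} [Cfsg.NearField F] : ∃ H : Subgroup (Equiv.Perm F), (∀ σ : Equiv.Perm F, σ ∈ H ↔ ∃ a b : F, a ≠ 0 ∧ ∀ x : F, σ x = x * a + b) ∧ MulAction.IsMultiplyPretransitive H F 2 ∧ ∀ x : Fin 2 ↪ F, MulAction.stabilizer H x = ⊥ := by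
  let H : Subgroup (Equiv.Perm F) :=
    { carrier := {σ | ∃ a b : F, a ≠ 0 ∧ ∀ x : F, σ x = x * a + b}
      one_mem' := ⟨1, 0, nf_one_ne_zero, fun x => by simp⟩
      mul_mem' := by
        rintro σ τ ⟨a, b, ha, hσ⟩ ⟨c, d, hc, hτ⟩
        refine ⟨c * a, d * a + b, nf_mul_ne_zero hc ha, fun x => ?_⟩
        rw [Equiv.Perm.mul_apply, hτ, hσ, Cfsg.NearField.right_distrib, mul_assoc, add_assoc]
      inv_mem' := by
        rintro σ ⟨a, b, ha, hσ⟩
        obtain ⟨a', ha', h1, h2⟩ := nf_exists_inv ha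
        refine ⟨a', (-b) * a', ha', fun y => ?_⟩
        apply σ.injective
        rw [Equiv.Perm.inv_def, Equiv.apply_symm_apply, hσ, Cfsg.NearField.right_distrib, mul_assoc,
          mul_assoc, h2, mul_one, mul_one, add_assoc, neg_add_cancel, add_zero] }
  have hmem : ∀ σ : Equiv.Perm F, σ ∈ H ↔ ∃ a b : F, a ≠ 0 ∧ ∀ x : F, σ x = x * a + b :=
    fun σ => Iff.rfl
  refine ⟨H, hmem, ?_, ?_⟩
  · rw [MulAction.is_two_pretransitive_iff]
    intro x1 x2 y1 y2 hx hy
    have hx' : x2 - x1 ≠ 0 := sub_ne_zero.mpr (Ne.symm hx)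
    have hy' : y2 - y1 ≠ 0 := sub_ne_zero.mpr (Ne.symm hy)
    obtain ⟨u, hu, hu1, hu2⟩ := nf_exists_inv hx'
    -- a = u * (y2 - y1), b = -(x1 * a) + y1
    set a := u * (y2 - y1) with ha
    have ha0 : a ≠ 0 := nf_mul_ne_zero hu hy'
    obtain ⟨a', ha', h1, h2⟩ := nf_exists_inv ha0
    set b := -(x1 * a) + y1 with hb
    let σ : Equiv.Perm F :=
      { toFun := fun x => x * a + b
        invFun := fun y => y * a' + (-b) * a'
        left_inv := fun x => by
          simp only
          rw [Cfsg.NearField.right_distrib, mul_assoc, h1, mul_one, nf_neg_mul, add_assoc,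
            add_neg_cancel, add_zero]
        right_inv := fun y => by
          simp only
          rw [Cfsg.NearField.right_distrib, mul_assoc, mul_assoc, h2, mul_one, mul_one, add_assoc,
            neg_add_cancel, add_zero] }
    have hσ : σ ∈ H := ⟨a, b, ha0, fun x => rfl⟩
    refine ⟨⟨σ, hσ⟩, ?_, ?_⟩
    · change x1 * a + b = y1
      rw [hb, ← add_assoc, add_neg_cancel, zero_add]
    · change x2 * a + b = y2
      rw [hb, ← add_assoc, ← sub_eq_add_neg, ← nf_sub_mul, ha, ← mul_assoc, hu1, one_mul,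
        sub_add_cancel]
  · intro x
    rw [eq_bot_iff]
    rintro ⟨σ, a, b, ha, hσ⟩ hstab
    rw [Subgroup.mem_bot]
    rw [MulAction.mem_stabilizer_iff] at hstab
    have h0 : σ (x 0) = x 0 := by
      have := congrArg (fun e : Fin 2 ↪ F => e 0) hstab
      exact this
    have h1 : σ (x 1) = x 1 := by
      have := congrArg (fun e : Fin 2 ↪ F => e 1) hstab
      exact this
    rw [hσ] at h0 h1
    have hne : x 0 - x 1 ≠ 0 := by
      rw [sub_ne_zero]
      intro h
      have := x.injective h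
      exact absurd this (by decide)
    have hua : (x 0 - x 1) * a = x 0 - x 1 := by
      rw [nf_sub_mul]
      conv_rhs => rw [← h0, ← h1]
      rw [add_sub_add_right_eq_sub]
    obtain ⟨u, hu, hu1, hu2⟩ := nf_exists_inv hne
    have ha1 : a = 1 := by
      have := congrArg (fun t => u * t) hua
      rwa [← mul_assoc, hu2, one_mul] at this
    have hb0 : b = 0 := by
      rw [ha1, mul_one] at h0
      exact left_eq_add.mp h0.symm
    apply Subtype.ext
    ext y
    change σ y = y
    rw [hσ, ha1, hb0, mul_one, add_zero]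

end Cfsg.Agent.S0681
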