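import Cfsg.Statements.S0686
import Mathlib
import Cfsg.Agent.S0016
import Cfsg.Agent.S0685
import Cfsg.Agent.S0688
import Cfsg.Agent.S0690
import Cfsg.Agent.Lib.Helper35.Sharp2Nonsolv

set_option autoImplicit false
open Cfsg

namespace Cfsg.Agent.S0686

open scoped commutatorElement

section GroupPart

variable {H : Type*} [Group H] [Finite H]

/-- a non-abelian normal `q`-subgroup all of whose abelian subgroups are cyclic and whose
commutators are central is quaternion of order 8 -/
theorem q8_of_pgroup (hcyc : ∀ B : Subgroup H, IsMulCommutative B → IsCyclic B)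
    (Q : Subgroup H) (q : ℕ) [hq : Fact q.Prime] (hQp : IsPGroup q Q) (hQna : ¬ IsMulCommutative Q)
    (hcl : ∀ x ∈ (⁅Q, Q⁆ : Subgroup H), ∀ y ∈ Q, x * y = y * x) :
    Nonempty (Q ≃* QuaternionGroup 2) := by
  have hcycQ : ∀ B : Subgroup Q, IsMulCommutative B → IsCyclic B := by
    intro B hB
    have hinj : Function.Injective Q.subtype := Q.subtype_injective
    have e : B ≃* B.map Q.subtype := B.equivMapOfInjective _ hinj
    have hc : IsMulCommutative (B.map Q.subtype) := by
      refine ⟨⟨fun x y => ?_⟩⟩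
      apply e.symm.injective
      rw [map_mul, map_mul]
      exact hB.is_comm.comm _ _
    have := hcyc _ hc
    exact isCyclic_of_surjective e.symm e.symm.surjective
  have huniq := Cfsg.Agent.S0688.unique_order hcycQ q hQp
  rcases Cfsg.Agent.S0016.result q hQp huniq with hc | ⟨hq2, n, ⟨e⟩⟩
  · exfalso
    apply hQna
    have := hc
    infer_instance
  · have hne : NeZero (2 ^ n) := ⟨by positivity⟩
    have hcl2 : ∀ X Y W : QuaternionGroup (2 ^ n), ⁅X, Y⁆ * W = W * ⁅X, Y⁆ := by
      intro X Y W
      apply e.symm.injective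
      rw [map_mul, map_mul, map_commutatorElement]
      apply Subtype.ext
      rw [Subgroup.coe_mul, Subgroup.coe_mul]
      have h1 : ((⁅e.symm X, e.symm Y⁆ : Q) : H) ∈ (⁅Q, Q⁆ : Subgroup H) := by
        have : ((⁅e.symm X, e.symm Y⁆ : Q) : H) = ⁅((e.symm X : Q) : H), ((e.symm Y : Q) : H)⁆ := by
          simp [commutatorElement_def]
        rw [this]
        exact Subgroup.commutator_mem_commutator (e.symm X).2 (e.symm Y).2
      exact hcl _ h1 _ (e.symm W).2
    have hdvd := Cfsg.Agent.S0688.quat_class_two (2 ^ n) hcl2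
    have hn : n ≤ 1 := by
      by_contra hn
      push Not at hn
      have h1 : 2 ^ 2 ∣ 2 ^ n := pow_dvd_pow 2 hn
      have h2 : 4 ∣ 2 := by
        have : (2 : ℕ) ^ 2 = 4 := by norm_num
        rw [← this]
        exact h1.trans hdvd
      omega
    interval_cases n
    · exfalso
      apply hQna
      have h1 : IsCyclic (QuaternionGroup (2 ^ 0)) := by
        rw [pow_zero]
        exact QuaternionGroup.quaternionGroup_one_isCyclic
      have h2 : IsCyclic Q := isCyclic_of_surjective e.symm e.symm.surjective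
      infer_instance
    · rw [pow_one] at e
      exact ⟨e⟩

/-- the group-theoretic core: a minimal non-abelian normal subgroup centralising a maximal normal
abelian subgroup is perfect or quaternion of order 8 -/
theorem perfect_or_q8 (hcyc : ∀ B : Subgroup H, IsMulCommutative B → IsCyclic B)
    (A : Subgroup H) (hAn : A.Normal) (hAc : IsMulCommutative A)
    (hAmax : ∀ B : Subgroup H, B.Normal → IsMulCommutative B → A ≤ B → B = A)
    (N : Subgroup H) (hNn : N.Normal) (hNle : N ≤ Subgroup.centralizer (A : Set H))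
    (hNna : ¬ IsMulCommutative N)
    (hNmin : ∀ M : Subgroup H, M.Normal → M ≤ N → ¬ IsMulCommutative M → M = N) :
    ⁅N, N⁆ = N ∨ Nonempty (N ≃* QuaternionGroup 2) := by
  have hN'n : (⁅N, N⁆ : Subgroup H).Normal := Subgroup.commutator_normal N N
  have hN'le : (⁅N, N⁆ : Subgroup H) ≤ N := Subgroup.commutator_le_right N N
  by_cases hN'c : IsMulCommutative (⁅N, N⁆ : Subgroup H)
  · right
    have hN'C : ⁅N, N⁆ ≤ Subgroup.centralizer (A : Set H) := hN'le.trans hNle
    have hsup := Cfsg.Agent.S0688.comm_sup hN'c hAc hN'C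
    have hsupn : (⁅N, N⁆ ⊔ A : Subgroup H).Normal := Subgroup.sup_normal _ _
    have hN'A : ⁅N, N⁆ ≤ A := by
      have := hAmax _ hsupn hsup le_sup_right
      rw [← this]
      exact le_sup_left
    have hcl : ∀ x ∈ (⁅N, N⁆ : Subgroup H), ∀ y ∈ N, x * y = y * x := by
      intro x hx y hy
      exact Subgroup.mem_centralizer_iff.mp (hNle hy) x (hN'A hx)
    obtain ⟨q, hq, Q, hQn, hQN, hQp, hQna⟩ :=
      Cfsg.Agent.S0688.exists_normal_pgroup N hNn hNna hcl
    have hQeq : Q = N := hNmin Q hQn hQN hQna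
    subst hQeq
    exact q8_of_pgroup hcyc Q q hQp hQna hcl
  · left
    exact hNmin _ hN'n hN'le hN'c

end GroupPart

/-- In a linear group over the prime field that is regular on non-zero vectors and has no irreducible cyclic normal subgroup, let `A` be a maximal normal abelian subgroup and `N` a normal subgroup centralising `A` that is minimal among non-abelian normal subgroups centralising `A`. Then `N` is quaternion of order 8 or isomorphic to `SL(2,5)`. -/
theorem result {p : ℕ} [Fact p.Prime] {V : Type*} [AddCommGroup V] [Module (ZMod p) V] [Finite V] (H : Subgroup (V ≃ₗ[ZMod p] V)) (hreg : ∀ v w : V, v ≠ 0 → w ≠ 0 → ∃! h : H, (h : V ≃ₗ[ZMod p] V) v = w) (hI : ∀ A : Subgroup H, A.Normal → IsCyclic A → ∃ W : Submodule (ZMod p) V, W ≠ ⊥ ∧ W ≠ ⊤ ∧ ∀ a ∈ A, ∀ v ∈ W, ((a : H) : V ≃ₗ[ZMod p] V) v ∈ W) (A : Subgroup H) (hAn : A.Normal) (hAc : IsMulCommutative A) (hAmax : ∀ B : Subgroup H, B.Normal → IsMulCommutative B → A ≤ B → B = A) (N : Subgroup H) (hNn : N.Normal) (hNle : N ≤ Subgroup.centralizer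 (A : Set H)) (hNna : ¬ IsMulCommutative N) (hNmin : ∀ M : Subgroup H, M.Normal → M ≤ N → ¬ IsMulCommutative M → M = N) : Nonempty (N ≃* QuaternionGroup 2) ∨ Nonempty (N ≃* Matrix.SpecialLinearGroup (Fin 2) (ZMod 5)) := by
  classical
  have hfinGL : Finite (V ≃ₗ[ZMod p] V) := Finite.of_injective (fun e => (e : V → V))
    (fun e f h => LinearEquiv.ext (congrFun h))
  have hfpf : ∀ h : H, ∀ v : V, v ≠ 0 → (h : V ≃ₗ[ZMod p] V) v = v → h = 1 := by
    intro h v hv hhv
    obtain ⟨h0, -, huniq⟩ := hreg v v hv hv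
    rw [huniq h hhv, huniq 1 (by simp)]
  have hVnt : Nontrivial V := by
    obtain ⟨W, hW1, hW2, -⟩ := hI ⊥ inferInstance inferInstance
    by_contra hnt
    rw [not_nontrivial_iff_subsingleton] at hnt
    exact hW1 (Subsingleton.elim _ _)
  have hcyc : ∀ B : Subgroup H, IsMulCommutative B → IsCyclic B :=
    fun B hB => Cfsg.Agent.S0685.isCyclic_of_free H hfpf B hB
  rcases perfect_or_q8 hcyc A hAn hAc hAmax N hNn hNle hNna hNmin with hperf | hq8
  · right
    have hNne : N ≠ ⊥ := by
      rintro rfl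
      apply hNna
      exact ⟨⟨fun a b => by
        have ha : a = 1 := Subtype.ext (Subgroup.mem_bot.mp a.2)
        have hb : b = 1 := Subtype.ext (Subgroup.mem_bot.mp b.2)
        rw [ha, hb]⟩⟩
    exact Cfsg.Agent.Lib.Helper35.Sharp2.perfect_iso
      (fun {K} _ _ G h1 h2 h3 => Cfsg.Agent.S0690.result G h1 h2 h3) H hfpf N hNne hperf
  · left
    exact hq8

end Cfsg.Agent.S0686
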