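import Cfsg.Statements.S0687
import Mathlib
import Cfsg.Agent.S0688
import Cfsg.Agent.S0690
import Cfsg.Agent.Lib.Helper35.Sharp2Nonsolv

set_option autoImplicit false
open Cfsg

namespace Cfsg.Agent.S0687

/-- a prime power equal to the square of a prime has exponent two -/
theorem exp_eq_two (p n q : ℕ) (hp : p.Prime) (hq : q.Prime) (h : p ^ n = q ^ 2) : n = 2 := by
  have hn : n ≠ 0 := by
    rintro rfl
    rw [pow_zero] at h
    have := hq.two_le
    nlinarith
  have hpq : p ∣ q ^ 2 := by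
    rw [← h]
    exact dvd_pow_self p hn
  have hpq' : p = q := (Nat.prime_dvd_prime_iff_eq hp hq).mp (hp.dvd_of_dvd_pow hpq)
  subst hpq'
  exact Nat.pow_right_injective hp.two_le h

section Linear

variable {p : ℕ} [Fact p.Prime] {V : Type*} [AddCommGroup V] [Module (ZMod p) V] [Finite V]

/-- in dimension two, a freely acting non-abelian subgroup is irreducible -/
theorem irreducible_of_finrank_two (hfr : Module.finrank (ZMod p) V = 2)
    (H : Subgroup (V ≃ₗ[ZMod p] V))
    (hfpf : ∀ h : H, ∀ v : V, v ≠ 0 → (h : V ≃ₗ[ZMod p] V) v = v → h = 1)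
    (N : Subgroup H) (hNna : ¬ IsMulCommutative N) (W : Submodule (ZMod p) V)
    (hW : ∀ n ∈ N, ∀ v ∈ W, ((n : H) : V ≃ₗ[ZMod p] V) v ∈ W) : W = ⊥ ∨ W = ⊤ := by
  by_contra hcon
  push Not at hcon
  obtain ⟨hb, ht⟩ := hcon
  have h1 : Module.finrank (ZMod p) W < 2 := by
    rw [← hfr]
    exact Submodule.finrank_lt ht
  have h0 : Module.finrank (ZMod p) W ≠ 0 := by
    intro h
    exact hb (Submodule.finrank_eq_zero.mp h)
  have h1' : Module.finrank (ZMod p) W = 1 := by omega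
  obtain ⟨w, hw0, hw⟩ := finrank_eq_one_iff'.mp h1'
  have hw0' : (w : V) ≠ 0 := fun h => hw0 (Subtype.ext h)
  have hsc : ∀ n ∈ N, ∃ c : ZMod p, ((n : H) : V ≃ₗ[ZMod p] V) (w : V) = c • (w : V) := by
    intro n hn
    obtain ⟨c, hc⟩ := hw ⟨_, hW n hn w w.2⟩
    exact ⟨c, (congrArg Subtype.val hc).symm⟩
  apply hNna
  refine ⟨⟨fun a b => ?_⟩⟩
  obtain ⟨α, hα⟩ := hsc a a.2
  obtain ⟨β, hβ⟩ := hsc b b.2
  have hab : (((a : H) * (b : H) : H) : V ≃ₗ[ZMod p] V) (w : V)
      = (((b : H) * (a : H) : H) : V ≃ₗ[ZMod p] V) (w : V) := by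
    show ((a : H) : V ≃ₗ[ZMod p] V) (((b : H) : V ≃ₗ[ZMod p] V) (w : V))
      = ((b : H) : V ≃ₗ[ZMod p] V) (((a : H) : V ≃ₗ[ZMod p] V) (w : V))
    rw [hα, hβ, map_smul, map_smul, hα, hβ, smul_smul, smul_smul, mul_comm]
  have h2 : ((b : H) * (a : H))⁻¹ * ((a : H) * (b : H)) = 1 := by
    apply hfpf _ (w : V) hw0'
    show (((b : H) * (a : H) : H) : V ≃ₗ[ZMod p] V).symm
      ((((a : H) * (b : H) : H) : V ≃ₗ[ZMod p] V) (w : V)) = (w : V)
    rw [hab, LinearEquiv.symm_apply_apply]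
  have h3 : (a : H) * (b : H) = (b : H) * (a : H) := (inv_mul_eq_one.mp h2).symm
  exact Subtype.ext h3

/-- in dimension two, the centraliser of an irreducible non-abelian freely acting subgroup consists
of scalars -/
theorem scalar_of_centralizes (hfr : Module.finrank (ZMod p) V = 2)
    (H : Subgroup (V ≃ₗ[ZMod p] V))
    (hfpf : ∀ h : H, ∀ v : V, v ≠ 0 → (h : V ≃ₗ[ZMod p] V) v = v → h = 1)
    (N : Subgroup H) (hNna : ¬ IsMulCommutative N) (t : H) (ht : ∀ n ∈ N, n * t = t * n) :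
    ∃ c : ZMod p, ∀ x : V, (t : V ≃ₗ[ZMod p] V) x = c • x := by
  have hVnt : Nontrivial V := by
    by_contra hnt
    rw [not_nontrivial_iff_subsingleton] at hnt
    have : Module.finrank (ZMod p) V = 0 := Module.finrank_zero_of_subsingleton
    omega
  obtain ⟨v, hv⟩ := exists_ne (0 : V)
  have hcomm : ∀ n ∈ N, ∀ x : V, ((n : H) : V ≃ₗ[ZMod p] V) ((t : V ≃ₗ[ZMod p] V) x)
      = (t : V ≃ₗ[ZMod p] V) (((n : H) : V ≃ₗ[ZMod p] V) x) := by
    intro n hn x
    have := ht n hn
    show ((n * t : H) : V ≃ₗ[ZMod p] V) x = _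
    rw [this]
    rfl
  by_cases hev : ∃ c : ZMod p, (t : V ≃ₗ[ZMod p] V) v = c • v
  · obtain ⟨c, hc⟩ := hev
    refine ⟨c, ?_⟩
    set K : Submodule (ZMod p) V :=
      LinearMap.ker (((t : V ≃ₗ[ZMod p] V) : V →ₗ[ZMod p] V) - c • LinearMap.id) with hK
    have hmemK : ∀ x : V, x ∈ K ↔ (t : V ≃ₗ[ZMod p] V) x = c • x := by
      intro x
      rw [hK, LinearMap.mem_ker, LinearMap.sub_apply, LinearMap.smul_apply, LinearMap.id_apply,
        sub_eq_zero]
      rfl
    have hKinv : ∀ n ∈ N, ∀ x ∈ K, ((n : H) : V ≃ₗ[ZMod p] V) x ∈ K := by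
      intro n hn x hx
      rw [hmemK] at hx ⊢
      rw [← hcomm n hn, hx, map_smul]
    rcases irreducible_of_finrank_two hfr H hfpf N hNna K hKinv with hKb | hKt
    · exfalso
      have : v ∈ K := (hmemK v).mpr hc
      rw [hKb, Submodule.mem_bot] at this
      exact hv this
    · intro x
      have : x ∈ K := by rw [hKt]; exact Submodule.mem_top
      exact (hmemK x).mp this
  · exfalso
    push Not at hev
    set tv : V := (t : V ≃ₗ[ZMod p] V) v with htv
    have hlt : Submodule.span (ZMod p) {v} < Submodule.span (ZMod p) {v, tv} := by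
      refine lt_of_le_of_ne (Submodule.span_mono (by simp)) ?_
      intro h
      have h1 : tv ∈ Submodule.span (ZMod p) {v, tv} := Submodule.subset_span (by simp)
      rw [← h, Submodule.mem_span_singleton] at h1
      obtain ⟨c, hc⟩ := h1
      exact hev c hc.symm
    have h1 := Submodule.finrank_lt_finrank_of_lt hlt
    rw [finrank_span_singleton hv] at h1
    have h2 : Module.finrank (ZMod p) (Submodule.span (ZMod p) {v, tv}) ≤ Module.finrank (ZMod p) V :=
      Submodule.finrank_le _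
    have htop : Submodule.span (ZMod p) {v, tv} = ⊤ := by
      apply Submodule.eq_top_of_finrank_eq
      omega
    have hsc : ∀ n ∈ N, ∃ α β : ZMod p, ((n : H) : V ≃ₗ[ZMod p] V) v = α • v + β • tv := by
      intro n _
      have : ((n : H) : V ≃ₗ[ZMod p] V) v ∈ Submodule.span (ZMod p) {v, tv} := by
        rw [htop]; exact Submodule.mem_top
      obtain ⟨α, β, h⟩ := Submodule.mem_span_pair.mp this
      exact ⟨α, β, h.symm⟩
    apply hNna
    refine ⟨⟨fun a b => ?_⟩⟩
    obtain ⟨α₁, β₁, h₁⟩ := hsc a a.2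
    obtain ⟨α₂, β₂, h₂⟩ := hsc b b.2
    have ha' : ((a : H) : V ≃ₗ[ZMod p] V) tv = α₁ • tv + β₁ • (t : V ≃ₗ[ZMod p] V) tv := by
      rw [htv, hcomm a a.2, h₁, map_add, map_smul, map_smul]
    have hb' : ((b : H) : V ≃ₗ[ZMod p] V) tv = α₂ • tv + β₂ • (t : V ≃ₗ[ZMod p] V) tv := by
      rw [htv, hcomm b b.2, h₂, map_add, map_smul, map_smul]
    have hab : (((a : H) * (b : H) : H) : V ≃ₗ[ZMod p] V) v
        = (((b : H) * (a : H) : H) : V ≃ₗ[ZMod p] V) v := by
      show ((a : H) : V ≃ₗ[ZMod p] V) (((b : H) : V ≃ₗ[ZMod p] V) v)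
        = ((b : H) : V ≃ₗ[ZMod p] V) (((a : H) : V ≃ₗ[ZMod p] V) v)
      rw [h₁, h₂, map_add, map_add, map_smul, map_smul, map_smul, map_smul, h₁, h₂, ha', hb']
      module
    have h3 : ((b : H) * (a : H))⁻¹ * ((a : H) * (b : H)) = 1 := by
      apply hfpf _ v hv
      show (((b : H) * (a : H) : H) : V ≃ₗ[ZMod p] V).symm
        ((((a : H) * (b : H) : H) : V ≃ₗ[ZMod p] V) v) = v
      rw [hab, LinearEquiv.symm_apply_apply]
    have h4 : (a : H) * (b : H) = (b : H) * (a : H) := (inv_mul_eq_one.mp h3).symm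
    exact Subtype.ext h4

end Linear

/-- In a linear group over the prime field that is regular on non-zero vectors and has no irreducible cyclic normal subgroup, a normal subgroup `N` minimal among the non-abelian normal subgroups centralising a maximal normal abelian subgroup `A` is irreducible on `V`, and its centraliser is `A`. -/
theorem result {p : ℕ} [Fact p.Prime] {V : Type*} [AddCommGroup V] [Module (ZMod p) V] [Finite V] (H : Subgroup (V ≃ₗ[ZMod p] V)) (hreg : ∀ v w : V, v ≠ 0 → w ≠ 0 → ∃! h : H, (h : V ≃ₗ[ZMod p] V) v = w) (hI : ∀ A : Subgroup H, A.Normal → IsCyclic A → ∃ W : Submodule (ZMod p) V, W ≠ ⊥ ∧ W ≠ ⊤ ∧ ∀ a ∈ A, ∀ v ∈ W, ((a : H) : V ≃ₗ[ZMod p] V) v ∈ W) (A : Subgroup H) (hAn : A.Normal) (hAc : IsMulCommutative A) (hAmax : ∀ B : Subgroup H, B.Normal → IsMulCommutative B → A ≤ B → B = A) (N : Subgroup H) (hNn : N.Normal) (hNle : N ≤ Subgroup.centralizer (A : Set H)) (hNna : ¬ IsMulCommutative N) (hNmin : ∀ M : Subgroup H, M.Normal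 → M ≤ N → ¬ IsMulCommutative M → M = N) : (∀ W : Submodule (ZMod p) V, (∀ n ∈ N, ∀ v ∈ W, ((n : H) : V ≃ₗ[ZMod p] V) v ∈ W) → W = ⊥ ∨ W = ⊤) ∧ Subgroup.centralizer (N : Set H) = A := by
  classical
  have hp : p.Prime := Fact.out
  have hfpf : ∀ h : H, ∀ v : V, v ≠ 0 → (h : V ≃ₗ[ZMod p] V) v = v → h = 1 := by
    intro h v hv hhv
    obtain ⟨h0, -, huniq⟩ := hreg v v hv hv
    rw [huniq h hhv, huniq 1 (by simp)]
  -- the dimension is two
  have hcardV : Nat.card V = p ^ Module.finrank (ZMod p) V := by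
    have : Fintype V := Fintype.ofFinite V
    rw [Nat.card_eq_fintype_card, Module.card_eq_pow_finrank (K := ZMod p) (V := V), ZMod.card]
  have hfr : Module.finrank (ZMod p) V = 2 := by
    by_cases hsolv : Group.IsSolvable H
    · rcases Cfsg.Agent.S0688.result H hreg hI hsolv with h | h | h | h
      · exact exp_eq_two p _ 5 hp (by norm_num) (by rw [← hcardV, h]; norm_num)
      · exact exp_eq_two p _ 7 hp (by norm_num) (by rw [← hcardV, h]; norm_num)
      · exact exp_eq_two p _ 11 hp (by norm_num) (by rw [← hcardV, h]; norm_num)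
      · exact exp_eq_two p _ 23 hp (by norm_num) (by rw [← hcardV, h]; norm_num)
    · rcases Cfsg.Agent.Lib.Helper35.Sharp2.result_of
        (fun {K} _ _ G h1 h2 h3 => Cfsg.Agent.S0690.result G h1 h2 h3) H hreg hsolv with
        ⟨h, -⟩ | ⟨h, -⟩ | ⟨h, -⟩
      · exact exp_eq_two p _ 11 hp (by norm_num) (by rw [← hcardV, h]; norm_num)
      · exact exp_eq_two p _ 29 hp (by norm_num) (by rw [← hcardV, h]; norm_num)
      · exact exp_eq_two p _ 59 hp (by norm_num) (by rw [← hcardV, h]; norm_num)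
  refine ⟨fun W hW => irreducible_of_finrank_two hfr H hfpf N hNna W hW, ?_⟩
  -- the centraliser
  have hTn : (Subgroup.centralizer (N : Set H)).Normal := Subgroup.normal_centralizer
  have hAT : A ≤ Subgroup.centralizer (N : Set H) := Subgroup.le_centralizer_iff.mp hNle
  have hTc : IsMulCommutative (Subgroup.centralizer (N : Set H)) := by
    refine ⟨⟨fun s t => ?_⟩⟩
    obtain ⟨c, hc⟩ := scalar_of_centralizes hfr H hfpf N hNna (s : H)
      (fun n hn => Subgroup.mem_centralizer_iff.mp s.2 n hn)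
    obtain ⟨d, hd⟩ := scalar_of_centralizes hfr H hfpf N hNna (t : H)
      (fun n hn => Subgroup.mem_centralizer_iff.mp t.2 n hn)
    apply Subtype.ext
    apply Subtype.ext
    apply LinearEquiv.ext
    intro x
    show ((s : H) : V ≃ₗ[ZMod p] V) (((t : H) : V ≃ₗ[ZMod p] V) x)
      = ((t : H) : V ≃ₗ[ZMod p] V) (((s : H) : V ≃ₗ[ZMod p] V) x)
    rw [hc, hd, hc, hd, smul_smul, smul_smul, mul_comm]
  exact hAmax _ hTn hTc hAT

end Cfsg.Agent.S0687
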