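import Cfsg.Statements.S0691
import Mathlib
import Cfsg.Agent.Lib.Helper12.SharpEngine
-- import your own Cfsg.Agent.* helpers here

set_option autoImplicit false
open Cfsg

namespace Cfsg.Agent.S0691

/-- the packed table: second columns, spanning tree parents and depths -/
def bigT : ℕ := 0x243300002ce900002dbb0000169b000014860000191000001f6e000020ef0000237e00001f4200002dae0000189b0000196d00002e5800000a440000228b000023710000244300000f3000000001000021b6000013b0000016fd00000cc600000000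

/-- table lookup -/
def entry (v : ℕ × ℕ) : ℕ := (bigT >>> (32 * (v.1 * 5 + v.2))) % 4294967296

/-- the generators, with natural number entries -/
def gens : List (ℕ × ℕ × ℕ × ℕ) := [(2, 0, 0, 3), (0, 4, 1, 0), (1, 2, 1, 3)]

/-- the second column as a function of the first -/
def Fn (v : ℕ × ℕ) : ℕ × ℕ := ((entry v % 25) / 5, (entry v % 25) % 5)

/-- the parent in the spanning tree -/
def par (v : ℕ × ℕ) : (ℕ × ℕ × ℕ × ℕ) × (ℕ × ℕ) :=
  (gens.getD ((entry v / 25 / 25) % 4) (0, 0, 0, 0),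
    (((entry v / 25) % 25) / 5, ((entry v / 25) % 25) % 5))

/-- the depth in the spanning tree -/
def dep (v : ℕ × ℕ) : ℕ := entry v / 25 / 25 / 4

theorem checkF : Cfsg.Agent.Lib.Helper12.CheckF 5 gens Fn := by decide +kernel

theorem checkT : Cfsg.Agent.Lib.Helper12.CheckT 5 gens par dep := by decide +kernel

theorem checkF1 : Fn (1, 0) = (0, 1) := by decide +kernel


theorem mat_eq_0 : (!![2, 0; 0, -2] : Matrix (Fin 2) (Fin 2) (ZMod 5)) =
    Cfsg.Agent.Lib.Helper12.nmat 5 (2, 0, 0, 3) := by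
  unfold Cfsg.Agent.Lib.Helper12.nmat
  decide

theorem mat_eq_1 : (!![0, -1; 1, 0] : Matrix (Fin 2) (Fin 2) (ZMod 5)) =
    Cfsg.Agent.Lib.Helper12.nmat 5 (0, 4, 1, 0) := by
  unfold Cfsg.Agent.Lib.Helper12.nmat
  decide

theorem mat_eq_2 : (!![1, 2; 1, -2] : Matrix (Fin 2) (Fin 2) (ZMod 5)) =
    Cfsg.Agent.Lib.Helper12.nmat 5 (1, 2, 1, 3) := by
  unfold Cfsg.Agent.Lib.Helper12.nmat
  decide


/-- An exceptional sharply doubly transitive group of degree 5^2: the listed matrices generate a subgroup of GL(2,5) of order 24 acting regularly on the non-zero vectors. -/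
theorem result (A : Matrix.GeneralLinearGroup (Fin 2) (ZMod 5)) (B : Matrix.GeneralLinearGroup (Fin 2) (ZMod 5)) (C : Matrix.GeneralLinearGroup (Fin 2) (ZMod 5)) (hA : (A : Matrix (Fin 2) (Fin 2) (ZMod 5)) = !![2, 0; 0, -2]) (hB : (B : Matrix (Fin 2) (Fin 2) (ZMod 5)) = !![0, -1; 1, 0]) (hC : (C : Matrix (Fin 2) (Fin 2) (ZMod 5)) = !![1, 2; 1, -2]) : Nat.card (Subgroup.closure ({A, B, C} : Set (Matrix.GeneralLinearGroup (Fin 2) (ZMod 5)))) = 24 ∧ ∀ v w : Fin 2 → ZMod 5, v ≠ 0 → w ≠ 0 → ∃! h : Subgroup.closure ({A, B, C} : Set (Matrix.GeneralLinearGroup (Fin 2) (ZMod 5))), Matrix.mulVec ((h : Matrix.GeneralLinearGroup (Fin 2) (ZMod 5)) : Matrix (Fin 2) (Fin 2) (ZMod 5)) v = w := by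
  have : Fact (Nat.Prime 5) := ⟨by norm_num⟩
  have hS : ∀ g ∈ ({A, B, C} : Set (Matrix.GeneralLinearGroup (Fin 2) (ZMod 5))),
      ∃ m ∈ gens, (g : Matrix (Fin 2) (Fin 2) (ZMod 5)) = Cfsg.Agent.Lib.Helper12.nmat 5 m := by
    rintro g (rfl | rfl | rfl)
    · exact ⟨(2, 0, 0, 3), by simp [gens], by rw [hA]; exact mat_eq_0⟩
    · exact ⟨(0, 4, 1, 0), by simp [gens], by rw [hB]; exact mat_eq_1⟩
    · exact ⟨(1, 2, 1, 3), by simp [gens], by rw [hC]; exact mat_eq_2⟩
  have hS' : ∀ m ∈ gens, ∃ g ∈ ({A, B, C} : Set (Matrix.GeneralLinearGroup (Fin 2) (ZMod 5))),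
      (g : Matrix (Fin 2) (Fin 2) (ZMod 5)) = Cfsg.Agent.Lib.Helper12.nmat 5 m := by
    intro m hm
    simp only [gens, List.mem_cons, List.not_mem_nil, or_false] at hm
    rcases hm with rfl | rfl | rfl
    · exact ⟨A, by simp, by rw [hA]; exact mat_eq_0⟩
    · exact ⟨B, by simp, by rw [hB]; exact mat_eq_1⟩
    · exact ⟨C, by simp, by rw [hC]; exact mat_eq_2⟩
  have key := Cfsg.Agent.Lib.Helper12.engine (p := 5) gens _ hS hS' Fn checkF1 checkF par dep checkT
  exact key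

end Cfsg.Agent.S0691
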