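import Cfsg.Statements.S0692
import Mathlib
import Cfsg.Agent.Lib.Helper12.SharpEngine
-- import your own Cfsg.Agent.* helpers here

set_option autoImplicit false
open Cfsg

namespace Cfsg.Agent.S0692

/-- the packed table: second columns, spanning tree parents and depths -/
def bigT : ℕ := 0x6764a0007557000083521000b1e2f000680eb0005b00c00073bbd000488000001d48c0005cb960001ca0b00031bcb00091fcb000ae4180003b8d80007467c00086e690004baf70009e50f000875d9000686ec000478f700020de7000783a2000960fb00049e14000ad9e60004b234000a228d0008721d000a166400077bb400080c6100085f0e0005c4d6000b0163000a306f0003b48900085528000b176f0003d112000300330009dbbe0007287a0006782000059be9000588c9000916b8000499ad0003edb400031c6f000a1d600006a34400092c44000691e40007619d00085a46000952cb0004ba820005b33e00065e6b000a19a4000738d700079819000813080004d896000b04a00004d7370002039f000ae138000a3b72000579fc000b0e77000958bf000769ee00069e030008f3050005b7d500087a36000a1e7d000868da00067f150009f29e0002c6f400076617000943700003fffb000937790004e38e000a1ac1000839290006af0a00068f2100090e34000575b8000903a8000ac7f50001235c000645f00003d55c0003c6f40002dd08000918e800077ec300087c9f00093bf3000655fc00056c30000481ce000000010002e2550005c2f60009309600085faa00078efc0005a50600069de00007967c0003ddfc0000ea6500000000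

/-- table lookup -/
def entry (v : ℕ × ℕ) : ℕ := (bigT >>> (32 * (v.1 * 11 + v.2))) % 4294967296

/-- the generators, with natural number entries -/
def gens : List (ℕ × ℕ × ℕ × ℕ) := [(0, 10, 1, 0), (2, 4, 1, 8)]

/-- the second column as a function of the first -/
def Fn (v : ℕ × ℕ) : ℕ × ℕ := ((entry v % 121) / 11, (entry v % 121) % 11)

/-- the parent in the spanning tree -/
def par (v : ℕ × ℕ) : (ℕ × ℕ × ℕ × ℕ) × (ℕ × ℕ) :=
  (gens.getD ((entry v / 121 / 121) % 4) (0, 0, 0, 0),
    (((entry v / 121) % 121) / 11, ((entry v / 121) % 121) % 11))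

/-- the depth in the spanning tree -/
def dep (v : ℕ × ℕ) : ℕ := entry v / 121 / 121 / 4

theorem checkF : Cfsg.Agent.Lib.Helper12.CheckF 11 gens Fn := by decide +kernel

theorem checkT : Cfsg.Agent.Lib.Helper12.CheckT 11 gens par dep := by decide +kernel

theorem checkF1 : Fn (1, 0) = (0, 1) := by decide +kernel

theorem mat_eq_0 : (!![0, -1; 1, 0] : Matrix (Fin 2) (Fin 2) (ZMod 11)) =
    Cfsg.Agent.Lib.Helper12.nmat 11 (0, 10, 1, 0) := by
  unfold Cfsg.Agent.Lib.Helper12.nmat
  decide

theorem mat_eq_1 : (!![2, 4; 1, -3] : Matrix (Fin 2) (Fin 2) (ZMod 11)) =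
    Cfsg.Agent.Lib.Helper12.nmat 11 (2, 4, 1, 8) := by
  unfold Cfsg.Agent.Lib.Helper12.nmat
  decide


/-- An exceptional sharply doubly transitive group of degree 11^2: the listed matrices generate a subgroup of GL(2,11) of order 120 acting regularly on the non-zero vectors. -/
theorem result (A : Matrix.GeneralLinearGroup (Fin 2) (ZMod 11)) (B : Matrix.GeneralLinearGroup (Fin 2) (ZMod 11)) (hA : (A : Matrix (Fin 2) (Fin 2) (ZMod 11)) = !![0, -1; 1, 0]) (hB : (B : Matrix (Fin 2) (Fin 2) (ZMod 11)) = !![2, 4; 1, -3]) : Nat.card (Subgroup.closure ({A, B} : Set (Matrix.GeneralLinearGroup (Fin 2) (ZMod 11)))) = 120 ∧ ∀ v w : Fin 2 → ZMod 11, v ≠ 0 → w ≠ 0 → ∃! h : Subgroup.closure ({A, B} : Set (Matrix.GeneralLinearGroup (Fin 2) (ZMod 11))), Matrix.mulVec ((h : Matrix.GeneralLinearGroup (Fin 2) (ZMod 11)) : Matrix (Fin 2) (Fin 2) (ZMod 11)) v = w := by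
  have : Fact (Nat.Prime 11) := ⟨by norm_num⟩
  have hS : ∀ g ∈ ({A, B} : Set (Matrix.GeneralLinearGroup (Fin 2) (ZMod 11))),
      ∃ m ∈ gens, (g : Matrix (Fin 2) (Fin 2) (ZMod 11)) = Cfsg.Agent.Lib.Helper12.nmat 11 m := by
    rintro g (rfl | rfl)
    · exact ⟨(0, 10, 1, 0), by simp [gens], by rw [hA]; exact mat_eq_0⟩
    · exact ⟨(2, 4, 1, 8), by simp [gens], by rw [hB]; exact mat_eq_1⟩
  have hS' : ∀ m ∈ gens, ∃ g ∈ ({A, B} : Set (Matrix.GeneralLinearGroup (Fin 2) (ZMod 11))),
      (g : Matrix (Fin 2) (Fin 2) (ZMod 11)) = Cfsg.Agent.Lib.Helper12.nmat 11 m := by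
    intro m hm
    simp only [gens, List.mem_cons, List.not_mem_nil, or_false] at hm
    rcases hm with rfl | rfl
    · exact ⟨A, by simp, by rw [hA]; exact mat_eq_0⟩
    · exact ⟨B, by simp, by rw [hB]; exact mat_eq_1⟩
  have key := Cfsg.Agent.Lib.Helper12.engine (p := 11) gens _ hS hS' Fn checkF1 checkF par dep checkT
  exact key

end Cfsg.Agent.S0692
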