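import Cfsg.Statements.S0694
import Mathlib
-- import your own Cfsg.Agent.* helpers here

set_option autoImplicit false
open Cfsg

namespace Cfsg.Agent.S0694

/-- the geometric sum `1 + q + ... + q^(i-1)` -/
def gs (q i : ℕ) : ℕ := ∑ j ∈ Finset.range i, q ^ j

theorem gs_zero (q : ℕ) : gs q 0 = 0 := by simp [gs]

theorem gs_one (q : ℕ) : gs q 1 = 1 := by simp [gs]

theorem gs_two (q : ℕ) : gs q 2 = 1 + q := by simp [gs, Finset.sum_range_succ]

theorem gs_add (q a b : ℕ) : gs q (a + b) = gs q a + q ^ a * gs q b := by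
  unfold gs
  rw [Finset.sum_range_add, Finset.mul_sum]
  congr 1
  apply Finset.sum_congr rfl
  intro j _
  rw [pow_add]

theorem gs_mul (q j m : ℕ) : gs q (j * m) = gs q j * gs (q ^ j) m := by
  induction m with
  | zero => simp [gs_zero]
  | succ m ih =>
    rw [Nat.mul_succ, gs_add, ih]
    have : gs (q ^ j) (m + 1) = gs (q ^ j) m + (q ^ j) ^ m := by
      unfold gs
      rw [Finset.sum_range_succ]
    rw [this, ← pow_mul]
    ring

/-- `q ^ i = gs q i * (q - 1) + 1` -/
theorem gs_mul_pred (q i : ℕ) (hq : 1 ≤ q) : gs q i * (q - 1) + 1 = q ^ i := by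
  have := geom_sum_mul_add (q - 1) i
  rw [Nat.sub_add_cancel hq] at this
  exact this

theorem gs_mul_pred' (q i : ℕ) (hq : 1 ≤ q) : gs q i * (q - 1) = q ^ i - 1 := by
  rw [← gs_mul_pred q i hq, Nat.add_sub_cancel]

/-- translation of the congruence -/
theorem modEq_iff (q n i : ℕ) (hq : 2 ≤ q) :
    q ^ i ≡ 1 [MOD n * (q - 1)] ↔ n ∣ gs q i := by
  have hx : 0 < q - 1 := by omega
  have h1 : 1 ≤ q ^ i := Nat.one_le_pow _ _ (by omega)
  rw [Nat.ModEq.comm, Nat.modEq_iff_dvd' h1, ← gs_mul_pred' q i (by omega),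
    Nat.mul_dvd_mul_iff_right hx]

theorem pow_modEq_one (s q : ℕ) (hq : 1 ≤ q) (hs : s ∣ q - 1) (j : ℕ) : q ^ j ≡ 1 [MOD s] := by
  have h1 : q ≡ 1 [MOD s] := by
    rw [Nat.ModEq.comm, Nat.modEq_iff_dvd' hq]
    exact hs
  have := h1.pow j
  rwa [one_pow] at this

theorem gs_modEq (s q : ℕ) (hq : 1 ≤ q) (hs : s ∣ q - 1) (i : ℕ) : gs q i ≡ i [MOD s] := by
  unfold gs
  induction i with
  | zero => simp; rfl
  | succ i ih =>
    rw [Finset.sum_range_succ]
    exact ih.add (pow_modEq_one s q hq hs i)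

theorem dvd_pow_sub_one (s q : ℕ) (hs : s ∣ q - 1) (j : ℕ) : s ∣ q ^ j - 1 := by
  have := Nat.sub_dvd_pow_sub_pow q 1 j
  rw [one_pow] at this
  exact hs.trans this

/-- the easy direction of lifting the exponent -/
theorem pow_dvd_gs (s : ℕ) : ∀ (k q i : ℕ), 1 ≤ q → s ∣ q - 1 → s ^ k ∣ i → s ^ k ∣ gs q i := by
  intro k
  induction k with
  | zero => intro q i _ _ _; simp
  | succ k ih =>
    intro q i hq hs hi
    obtain ⟨j, rfl⟩ : s ∣ i := (dvd_pow_self s (Nat.succ_ne_zero k)).trans hi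
    by_cases hs0 : s = 0
    · subst hs0
      rw [zero_pow (Nat.succ_ne_zero k)] at hi ⊢
      rw [zero_dvd_iff] at hi
      rw [hi, gs_zero]
    have hj : s ^ k ∣ j := by
      rw [pow_succ'] at hi
      exact (Nat.mul_dvd_mul_iff_left (Nat.pos_of_ne_zero hs0)).mp hi
    rw [gs_mul, pow_succ']
    apply Nat.mul_dvd_mul
    · have := gs_modEq s q hq hs s
      exact (Nat.modEq_zero_iff_dvd.mp (this.trans (Nat.modEq_zero_iff_dvd.mpr dvd_rfl)))
    · exact ih (q ^ s) j (Nat.one_le_pow _ _ (by omega)) (dvd_pow_sub_one s q hs s) hj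


/-- lifting the exponent, odd prime -/
theorem pow_dvd_gs_iff_odd (s q : ℕ) (hs : s.Prime) (hodd : Odd s) (hq : 2 ≤ q) (hsx : s ∣ q - 1)
    (k i : ℕ) : s ^ k ∣ gs q i ↔ s ^ k ∣ i := by
  refine ⟨fun h => ?_, pow_dvd_gs s k q i (by omega) hsx⟩
  have hsq : ¬ s ∣ q := by
    intro hsq
    have : s ∣ 1 := by
      have h2 := (Nat.dvd_sub hsq hsx)
      rwa [Nat.sub_sub_self (by omega)] at h2
    exact hs.one_lt.ne' (Nat.dvd_one.mp this)
  have hlte := Nat.emultiplicity_pow_sub_pow hs hodd (x := q) (y := 1) hsx hsq i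
  rw [one_pow, ← gs_mul_pred' q i (by omega), Nat.Prime.emultiplicity_mul hs] at hlte
  have hfin : FiniteMultiplicity s (q - 1) :=
    Nat.finiteMultiplicity_iff.mpr ⟨hs.one_lt.ne', by omega⟩
  have hne : emultiplicity s (q - 1) ≠ ⊤ :=
    finiteMultiplicity_iff_emultiplicity_ne_top.mp hfin
  rw [add_comm] at hlte
  have heq : emultiplicity s (gs q i) = emultiplicity s i :=
    WithTop.add_left_cancel hne hlte
  rw [pow_dvd_iff_le_emultiplicity] at h ⊢
  rwa [← heq]

/-- lifting the exponent at 2, when `4 ∣ q - 1` -/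
theorem pow_dvd_gs_iff_two : ∀ (k q i : ℕ), 2 ≤ q → 4 ∣ q - 1 → (2 ^ k ∣ gs q i ↔ 2 ^ k ∣ i) := by
  intro k q i hq h4
  have h2x : 2 ∣ q - 1 := (by decide : 2 ∣ 4).trans h4
  refine ⟨?_, pow_dvd_gs 2 k q i (by omega) h2x⟩
  induction k generalizing q i with
  | zero => intro _; simp
  | succ k ih =>
    intro h
    have h2 : 2 ∣ gs q i := (dvd_pow_self 2 (Nat.succ_ne_zero k)).trans h
    have h2i : 2 ∣ i := ((gs_modEq 2 q (by omega) h2x i).dvd_iff dvd_rfl).mp h2
    obtain ⟨j, rfl⟩ := h2i
    rw [gs_mul, gs_two] at h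
    -- 1 + q = 2 * u with u odd
    obtain ⟨t, ht⟩ := h4
    have hq' : q = 4 * t + 1 := by omega
    have h1q : 1 + q = 2 * (2 * t + 1) := by omega
    rw [h1q, pow_succ', mul_assoc] at h
    have h' : 2 ^ k ∣ (2 * t + 1) * gs (q ^ 2) j :=
      (Nat.mul_dvd_mul_iff_left (by norm_num)).mp h
    have hcop : Nat.Coprime (2 ^ k) (2 * t + 1) := by
      apply Nat.Coprime.pow_left
      rw [Nat.coprime_two_left]
      exact ⟨t, rfl⟩
    have h'' : 2 ^ k ∣ gs (q ^ 2) j := hcop.dvd_of_dvd_mul_left h'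
    have hq2 : 2 ≤ q ^ 2 := by nlinarith
    have h4' : 4 ∣ q ^ 2 - 1 := dvd_pow_sub_one 4 q ⟨t, by omega⟩ 2
    have := ih (q ^ 2) j hq2 h4' ((by decide : 2 ∣ 4).trans h4') h''
    rw [pow_succ']
    exact Nat.mul_dvd_mul_left 2 this

/-- closure of the exponents under gcd -/
theorem gs_gcd (q n i j : ℕ) (hq : 2 ≤ q) (hi : n ∣ gs q i) (hj : n ∣ gs q j) :
    n ∣ gs q (Nat.gcd i j) := by
  rw [← modEq_iff q n _ hq] at hi hj ⊢
  rw [← ZMod.natCast_eq_natCast_iff] at hi hj ⊢
  push_cast at hi hj ⊢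
  exact pow_gcd_eq_one.mpr ⟨hi, hj⟩


/-- The Dickson pair condition: for a prime power `q` and `n > 1`, (every prime factor of `n` divides `q - 1`, and `4 ∣ n → 4 ∣ q - 1`) holds exactly when `q ^ n ≡ 1` modulo `n * (q - 1)` but `q ^ i` is not, for `0 < i < n`. -/
theorem result (q n : ℕ) (hq : IsPrimePow q) (hn : 1 < n) : ((∀ r : ℕ, r.Prime → r ∣ n → r ∣ q - 1) ∧ (4 ∣ n → 4 ∣ q - 1)) ↔ (q ^ n ≡ 1 [MOD n * (q - 1)] ∧ ∀ i : ℕ, 0 < i → i < n → ¬ q ^ i ≡ 1 [MOD n * (q - 1)]) := by
  have hq2 : 2 ≤ q := hq.two_le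
  simp only [modEq_iff q n _ hq2]
  constructor
  · rintro ⟨hA1, hA2⟩
    have key : ∀ i, n ∣ gs q i ↔ n ∣ i := by
      intro i
      rw [Nat.dvd_iff_prime_pow_dvd_dvd (gs q i) n, Nat.dvd_iff_prime_pow_dvd_dvd i n]
      apply forall_congr'; intro s; apply forall_congr'; intro k
      apply imp_congr_right; intro hs; apply imp_congr_right; intro hk
      rcases Nat.eq_zero_or_pos k with rfl | hkpos
      · simp
      have hsn : s ∣ n := (dvd_pow_self s hkpos.ne').trans hk
      have hsx := hA1 s hs hsn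
      rcases hs.eq_two_or_odd' with rfl | hodd
      · by_cases h4 : 4 ∣ q - 1
        · exact pow_dvd_gs_iff_two k q i hq2 h4
        · have hk1 : k = 1 := by
            by_contra hne
            have h2k : 2 ≤ k := by omega
            apply h4; apply hA2
            exact (pow_dvd_pow 2 h2k).trans hk
          subst hk1
          rw [pow_one]
          exact (gs_modEq 2 q (by omega) hsx i).dvd_iff dvd_rfl
      · exact pow_dvd_gs_iff_odd s q hs hodd hq2 hsx k i
    refine ⟨(key n).mpr dvd_rfl, ?_⟩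
    intro i hi hin h
    have := Nat.le_of_dvd hi ((key i).mp h)
    omega
  · rintro ⟨hB1, hB2⟩
    -- an exponent not divisible by `n` gives a contradiction
    have noexp : ∀ i, n ∣ gs q i → n ∣ i := by
      intro i hi
      by_contra hni
      have hg := gs_gcd q n i n hq2 hi hB1
      have hgn : Nat.gcd i n ∣ n := Nat.gcd_dvd_right i n
      have hgpos : 0 < Nat.gcd i n := Nat.gcd_pos_of_pos_right i (by omega)
      have hglt : Nat.gcd i n < n := by
        apply lt_of_le_of_ne (Nat.le_of_dvd (by omega) hgn)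
        intro h
        apply hni
        rw [← h]; exact Nat.gcd_dvd_left i n
      exact hB2 _ hgpos hglt hg
    have hA1 : ∀ r : ℕ, r.Prime → r ∣ n → r ∣ q - 1 := by
      by_contra hno
      push Not at hno
      obtain ⟨r0, hr0, hr0n, hr0x⟩ := hno
      have hbad : (n.primeFactors.filter (fun s => ¬ s ∣ q - 1)).Nonempty := by
        refine ⟨r0, ?_⟩
        rw [Finset.mem_filter, Nat.mem_primeFactors]
        exact ⟨⟨hr0, hr0n, by omega⟩, hr0x⟩
      obtain ⟨r, hrbad, hrmax⟩ := Finset.exists_max_image _ id hbad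
      rw [Finset.mem_filter, Nat.mem_primeFactors] at hrbad
      obtain ⟨⟨hr, hrn, -⟩, hrx⟩ := hrbad
      have hnr : r * (n / r) = n := Nat.mul_div_cancel' hrn
      have hnrpos : 0 < n / r := Nat.div_pos (Nat.le_of_dvd (by omega) hrn) hr.pos
      obtain ⟨i, hi⟩ : ∃ i, i = (n / r) * (r - 1).factorial := ⟨_, rfl⟩
      have hni : ¬ n ∣ i := by
        intro h
        have h0 : (n / r) * r ∣ (n / r) * (r - 1).factorial := by
          rw [mul_comm (n / r) r, hnr, ← hi]
          exact h
        have h' := (Nat.mul_dvd_mul_iff_left hnrpos).mp h0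
        rw [hr.dvd_factorial] at h'
        have := hr.pos
        omega
      apply hni
      apply noexp
      rw [Nat.dvd_iff_prime_pow_dvd_dvd]
      intro s k hs hk
      rcases Nat.eq_zero_or_pos k with rfl | hkpos
      · simp
      have hsn : s ∣ n := (dvd_pow_self s hkpos.ne').trans hk
      -- `s ^ k ∣ n / r` when `s ≠ r`
      have hdiv_ne : s ≠ r → s ^ k ∣ n / r := by
        intro hsr
        have hcop : Nat.Coprime (s ^ k) r :=
          Nat.Coprime.pow_left k ((Nat.coprime_primes hs hr).mpr hsr)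
        have : s ^ k ∣ r * (n / r) := by rwa [hnr]
        exact hcop.dvd_of_dvd_mul_left this
      by_cases hsx : s ∣ q - 1
      · have hsr : s ≠ r := by rintro rfl; exact hrx hsx
        apply pow_dvd_gs s k q i (by omega) hsx
        rw [hi]
        exact Dvd.dvd.mul_right (hdiv_ne hsr) _
      · have hsle : s ≤ r := by
          apply hrmax s
          rw [Finset.mem_filter, Nat.mem_primeFactors]
          exact ⟨⟨hs, hsn, by omega⟩, hsx⟩
        have hsq : ¬ s ∣ q := by
          intro hsq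
          have h1 : gs q n = 1 + q * gs q (n - 1) := by
            have := gs_add q 1 (n - 1)
            rw [Nat.add_sub_cancel' (by omega : 1 ≤ n), gs_one, pow_one] at this
            exact this
          have h2 : s ∣ gs q n := hsn.trans hB1
          rw [h1] at h2
          have h3 : s ∣ 1 := (Nat.dvd_add_left (Dvd.dvd.mul_right hsq _)).mp h2
          exact hs.one_lt.ne' (Nat.dvd_one.mp h3)
        have hcop : Nat.Coprime q (s ^ k) :=
          Nat.Coprime.pow_right k ((Nat.Prime.coprime_iff_not_dvd hs).mpr hsq).symm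
        have heuler := Nat.ModEq.pow_totient hcop
        have htot : Nat.totient (s ^ k) ∣ i := by
          rw [Nat.totient_prime_pow hs hkpos, hi]
          apply Nat.mul_dvd_mul
          · by_cases hsr : s = r
            · subst hsr
              have : s * s ^ (k - 1) ∣ s * (n / s) := by
                rw [hnr, ← pow_succ', Nat.sub_add_cancel hkpos]
                exact hk
              exact (Nat.mul_dvd_mul_iff_left hs.pos).mp this
            · exact (pow_dvd_pow s (Nat.sub_le k 1)).trans (hdiv_ne hsr)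
          · have := hs.one_lt
            exact Nat.dvd_factorial (by omega) (by omega)
        obtain ⟨c, hc⟩ := htot
        have hqi : q ^ i ≡ 1 [MOD s ^ k] := by
          rw [hc, pow_mul]
          have := heuler.pow c
          rwa [one_pow] at this
        have hdvd : s ^ k ∣ gs q i * (q - 1) := by
          rw [gs_mul_pred' q i (by omega)]
          exact (Nat.modEq_iff_dvd' (Nat.one_le_pow _ _ (by omega))).mp hqi.symm
        have hcop2 : Nat.Coprime (s ^ k) (q - 1) :=
          Nat.Coprime.pow_left k ((Nat.Prime.coprime_iff_not_dvd hs).mpr hsx)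
        exact hcop2.dvd_of_dvd_mul_right hdvd
    have hA2 : 4 ∣ n → 4 ∣ q - 1 := by
      intro h4n
      by_contra h4x
      have h2x : 2 ∣ q - 1 := hA1 2 Nat.prime_two ((by decide : 2 ∣ 4).trans h4n)
      obtain ⟨m, hm⟩ := h4n
      have hm0 : 0 < m := by omega
      apply hB2 (2 * m) (by omega) (by omega)
      have h41q : 4 ∣ 1 + q := by omega
      rw [Nat.dvd_iff_prime_pow_dvd_dvd]
      intro s k hs hk
      rcases hs.eq_two_or_odd' with rfl | hodd
      · rw [gs_mul, gs_two]
        by_cases hk2 : k ≤ 2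
        · exact ((pow_dvd_pow 2 hk2).trans (by norm_num : 2 ^ 2 ∣ 4)).trans
            (Dvd.dvd.mul_right h41q _)
        · push Not at hk2
          obtain ⟨k', rfl⟩ : ∃ k', k = 2 + k' := ⟨k - 2, by omega⟩
          rw [pow_add]
          apply Nat.mul_dvd_mul (by norm_num; exact h41q)
          apply pow_dvd_gs 2 k' (q ^ 2) m (Nat.one_le_pow _ _ (by omega))
            (dvd_pow_sub_one 2 q h2x 2)
          rw [hm, pow_add] at hk
          exact (Nat.mul_dvd_mul_iff_left (by norm_num)).mp hk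
      · rcases Nat.eq_zero_or_pos k with rfl | hkpos
        · simp
        have hsn : s ∣ n := (dvd_pow_self s hkpos.ne').trans hk
        have hsx := hA1 s hs hsn
        have h4m : s ^ k ∣ 2 * (2 * m) := by
          rw [← mul_assoc]
          norm_num
          rwa [hm] at hk
        have hcop : Nat.Coprime (s ^ k) 2 :=
          Nat.Coprime.pow_left k (Nat.coprime_two_right.mpr hodd)
        have h2m : s ^ k ∣ 2 * m := hcop.dvd_of_dvd_mul_left h4m
        exact pow_dvd_gs s k q (2 * m) (by omega) hsx h2m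
    exact ⟨hA1, hA2⟩

end Cfsg.Agent.S0694
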