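import Cfsg.Statements.S0695
import Mathlib
-- import your own Cfsg.Agent.* helpers here

set_option autoImplicit false
open Cfsg
open scoped Pointwise

namespace Cfsg.Agent.S0695

section
variable {G : Type*} [Group G] {X : Type*} [MulAction G X]

/-- regularity: an element of `N` is determined by the image of `a` -/
theorem eq_of_smul_eq (N : Subgroup G) (hreg : ∀ x : X, MulAction.stabilizer N x = ⊥) (a : X)
    {m m' : G} (hm : m ∈ N) (hm' : m' ∈ N) (h : m • a = m' • a) : m = m' := by
  have : (⟨m', hm'⟩ : N)⁻¹ * ⟨m, hm⟩ ∈ MulAction.stabilizer N a := by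
    rw [MulAction.mem_stabilizer_iff, mul_smul]
    change (m')⁻¹ • (m • a) = a
    rw [h, inv_smul_smul]
  rw [hreg a, Subgroup.mem_bot] at this
  have := congrArg Subtype.val (inv_mul_eq_one.mp this)
  exact this.symm

/-- the pair `{n • a, n⁻¹ • a}` is a block for the stabiliser of `a` -/
theorem isBlock_pair (N : Subgroup G) [N.Normal] (hreg : ∀ x : X, MulAction.stabilizer N x = ⊥)
    (a : X) (n : G) (hn : n ∈ N) :
    MulAction.IsBlock (fixingSubgroup G ({a} : Set X)) ({n • a, n⁻¹ • a} : Set X) := by
  rw [MulAction.isBlock_iff_smul_eq_of_mem]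
  intro g x hx hgx
  have hga : (g : G) • a = a := by
    have := g.2
    rw [mem_fixingSubgroup_iff] at this
    exact this a (Set.mem_singleton a)
  -- action on points of the form m • a
  have hconj : ∀ m : G, (g : G) • (m • a) = ((g : G) * m * (g : G)⁻¹) • a := by
    intro m
    rw [mul_smul, mul_smul, inv_smul_eq_iff.mpr hga.symm]
  have hnN : (g : G) * n * (g : G)⁻¹ ∈ N := (inferInstance : N.Normal).conj_mem n hn g
  have hninvN : (g : G) * n⁻¹ * (g : G)⁻¹ ∈ N :=
    (inferInstance : N.Normal).conj_mem n⁻¹ (N.inv_mem hn) g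
  have hinv : (g : G) * n⁻¹ * (g : G)⁻¹ = ((g : G) * n * (g : G)⁻¹)⁻¹ := by group
  have hsmul : g • ({n • a, n⁻¹ • a} : Set X) =
      {((g : G) * n * (g : G)⁻¹) • a, ((g : G) * n * (g : G)⁻¹)⁻¹ • a} := by
    rw [Set.smul_set_insert, Set.smul_set_singleton]
    change ({(g : G) • (n • a), (g : G) • (n⁻¹ • a)} : Set X) = _
    rw [hconj, hconj, hinv]
  rw [hsmul]
  -- g n g⁻¹ is n or n⁻¹
  have key : (g : G) * n * (g : G)⁻¹ = n ∨ (g : G) * n * (g : G)⁻¹ = n⁻¹ := by
    have hgx' : (g : G) • x ∈ ({n • a, n⁻¹ • a} : Set X) := hgx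
    rcases hx with rfl | rfl
    · rw [hconj] at hgx'
      rcases hgx' with h | h
      · left; exact eq_of_smul_eq N hreg a hnN hn h
      · right; exact eq_of_smul_eq N hreg a hnN (N.inv_mem hn) h
    · rw [hconj, hinv] at hgx'
      rcases hgx' with h | h
      · right
        have := eq_of_smul_eq N hreg a (N.inv_mem hnN) hn h
        exact inv_eq_iff_eq_inv.mp this
      · left
        have := eq_of_smul_eq N hreg a (N.inv_mem hnN) (N.inv_mem hn) h
        exact inv_injective this
  rcases key with h | h
  · rw [h]
  · rw [h, inv_inv, Set.pair_comm]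

end

/-- A regular normal subgroup of a doubly primitive group of finite degree at least 2 is an elementary abelian 2-group (and the degree is a power of 2), unless the degree is 3. -/
theorem result {G : Type*} [Group G] {X : Type*} [Fintype X] [MulAction G X] (hX : 2 ≤ Fintype.card X) (h2 : MulAction.IsMultiplyPreprimitive G X 2) (N : Subgroup G) [N.Normal] (htrans : MulAction.IsPretransitive N X) (hreg : ∀ x : X, MulAction.stabilizer N x = ⊥) : Fintype.card X = 3 ∨ (IsMulCommutative N ∧ (∀ n ∈ N, n ^ 2 = 1) ∧ ∃ m : ℕ, Fintype.card X = 2 ^ m) := by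
  classical
  have hne : Nonempty X := by
    rw [← Fintype.card_pos_iff]; omega
  obtain ⟨a⟩ := hne
  have hprim : MulAction.IsPreprimitive (fixingSubgroup G ({a} : Set X))
      (SubMulAction.ofFixingSubgroup G ({a} : Set X)) :=
    h2.isPreprimitive_ofFixingSubgroup (by
      rw [Set.encard_singleton]; rfl)
  -- key dichotomy for every non-identity element of N
  have key : ∀ n ∈ N, n ≠ 1 → n ^ 2 = 1 ∨ Fintype.card X = 3 := by
    intro n hn hn1
    have hna : n • a ≠ a := by
      intro h
      apply hn1
      exact eq_of_smul_eq N hreg a hn N.one_mem (by rw [h, one_smul])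
    have hninva : n⁻¹ • a ≠ a := by
      intro h
      apply hn1
      have := eq_of_smul_eq N hreg a (N.inv_mem hn) N.one_mem (by rw [h, one_smul])
      exact inv_eq_one.mp this
    by_cases hsq : n • a = n⁻¹ • a
    · left
      have := eq_of_smul_eq N hreg a hn (N.inv_mem hn) hsq
      rw [pow_two]
      nth_rewrite 2 [this]
      exact mul_inv_cancel n
    · right
      have hblock := isBlock_pair N hreg a n hn
      let C := SubMulAction.ofFixingSubgroup G ({a} : Set X)
      let B : Set C := Subtype.val ⁻¹' ({n • a, n⁻¹ • a} : Set X)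
      have hBimage : (Subtype.val '' B : Set X) = {n • a, n⁻¹ • a} := by
        rw [Set.image_preimage_eq_inter_range, Set.inter_eq_left]
        rintro x (rfl | rfl)
        · exact ⟨⟨n • a, by
            rw [SubMulAction.mem_ofFixingSubgroup_iff]; exact hna⟩, rfl⟩
        · exact ⟨⟨n⁻¹ • a, by
            rw [SubMulAction.mem_ofFixingSubgroup_iff]; exact hninva⟩, rfl⟩
      have hB : MulAction.IsBlock (fixingSubgroup G ({a} : Set X)) B := by
        rw [← MulAction.isBlock_subtypeVal, hBimage]
        exact hblock
      have x1 : C := ⟨n • a, by rw [SubMulAction.mem_ofFixingSubgroup_iff]; exact hna⟩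
      have hx1 : (⟨n • a, by rw [SubMulAction.mem_ofFixingSubgroup_iff]; exact hna⟩ : C) ∈ B := by
        change n • a ∈ ({n • a, n⁻¹ • a} : Set X)
        exact Set.mem_insert _ _
      have hx2 : (⟨n⁻¹ • a, by rw [SubMulAction.mem_ofFixingSubgroup_iff]; exact hninva⟩ : C) ∈ B := by
        change n⁻¹ • a ∈ ({n • a, n⁻¹ • a} : Set X)
        exact Set.mem_insert_of_mem _ rfl
      rcases hprim.isTrivialBlock_of_isBlock hB with hsub | huniv
      · exfalso
        have := hsub hx1 hx2
        exact hsq (congrArg Subtype.val this)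
      · -- every point other than a is n • a or n⁻¹ • a
        have hall : ∀ x : X, x = a ∨ x = n • a ∨ x = n⁻¹ • a := by
          intro x
          by_cases hxa : x = a
          · exact Or.inl hxa
          · right
            have hxC : x ∈ C := by rw [SubMulAction.mem_ofFixingSubgroup_iff]; exact hxa
            have : (⟨x, hxC⟩ : C) ∈ B := by rw [huniv]; trivial
            exact this
        have huniv' : (Finset.univ : Finset X) = {a, n • a, n⁻¹ • a} := by
          ext x
          simp only [Finset.mem_univ, Finset.mem_insert, Finset.mem_singleton, true_iff]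
          exact hall x
        rw [← Finset.card_univ, huniv']
        rw [Finset.card_insert_of_notMem, Finset.card_pair hsq]
        simp only [Finset.mem_insert, Finset.mem_singleton, not_or]
        exact ⟨Ne.symm hna, Ne.symm hninva⟩
  by_cases h3 : Fintype.card X = 3
  · exact Or.inl h3
  · right
    have hsq : ∀ n ∈ N, n ^ 2 = 1 := by
      intro n hn
      by_cases hn1 : n = 1
      · rw [hn1, one_pow]
      · exact (key n hn hn1).resolve_right h3
    refine ⟨?_, hsq, ?_⟩
    · refine ⟨⟨fun x y => ?_⟩⟩
      apply Subtype.ext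
      have hx := hsq x.1 x.2
      have hy := hsq y.1 y.2
      have hxy := hsq (x.1 * y.1) (N.mul_mem x.2 y.2)
      change x.1 * y.1 = y.1 * x.1
      have e1 : x.1⁻¹ = x.1 := by
        rw [inv_eq_iff_mul_eq_one, ← pow_two]; exact hx
      have e2 : y.1⁻¹ = y.1 := by
        rw [inv_eq_iff_mul_eq_one, ← pow_two]; exact hy
      have e3 : (x.1 * y.1)⁻¹ = x.1 * y.1 := by
        rw [inv_eq_iff_mul_eq_one, ← pow_two]; exact hxy
      rw [← e3, mul_inv_rev, e1, e2]
    · have hcard : Fintype.card X = Nat.card N := by
        rw [← Nat.card_eq_fintype_card, ← MulAction.index_stabilizer_of_transitive (G := N) (x := a),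
          hreg a, Subgroup.index_bot]
      have hNfin : Finite N := by
        apply Nat.finite_of_card_ne_zero
        rw [← hcard]; omega
      have hPG : IsPGroup 2 N := by
        intro g
        refine ⟨1, ?_⟩
        rw [pow_one]
        apply Subtype.ext
        exact hsq g.1 g.2
      obtain ⟨m, hm⟩ := IsPGroup.iff_card.mp hPG
      exact ⟨m, by rw [hcard, hm]⟩

end Cfsg.Agent.S0695
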