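import Cfsg.Statements.S0696
import Mathlib
import Cfsg.Agent.S0695
-- import your own Cfsg.Agent.* helpers here

set_option autoImplicit false
open Cfsg
open scoped Pointwise

namespace Cfsg.Agent.S0696

open Cfsg.Agent.S0695 (eq_of_smul_eq)

section
variable {G : Type*} [Group G] {X : Type*} [MulAction G X]

/-- the pair `{y • a, (x * y) • a}` is a block for the stabiliser of `a` and `x • a` -/
theorem isBlock_pair' (N : Subgroup G) [N.Normal] (hreg : ∀ x : X, MulAction.stabilizer N x = ⊥)
    (a : X) (x y : G) (hx : x ∈ N) (hy : y ∈ N) (hx2 : x * x = 1) :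
    MulAction.IsBlock (fixingSubgroup G ({a, x • a} : Set X)) ({y • a, (x * y) • a} : Set X) := by
  rw [MulAction.isBlock_iff_smul_eq_of_mem]
  intro g z hz hgz
  have hg := g.2
  rw [mem_fixingSubgroup_iff] at hg
  have hga : (g : G) • a = a := hg a (Set.mem_insert _ _)
  have hgb : (g : G) • (x • a) = x • a := hg (x • a) (Set.mem_insert_of_mem _ rfl)
  have hconj : ∀ m : G, (g : G) • (m • a) = ((g : G) * m * (g : G)⁻¹) • a := by
    intro m
    rw [mul_smul, mul_smul, inv_smul_eq_iff.mpr hga.symm]
  have hconjN : ∀ m ∈ N, (g : G) * m * (g : G)⁻¹ ∈ N := fun m hm =>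
    (inferInstance : N.Normal).conj_mem m hm g
  -- g centralises x
  have hgx : (g : G) * x * (g : G)⁻¹ = x := by
    apply eq_of_smul_eq N hreg a (hconjN x hx) hx
    rw [← hconj, hgb]
  set y' := (g : G) * y * (g : G)⁻¹ with hy'
  have hy'N : y' ∈ N := hconjN y hy
  have hxy' : (g : G) * (x * y) * (g : G)⁻¹ = x * y' := by
    have : (g : G) * (x * y) * (g : G)⁻¹ = ((g : G) * x * (g : G)⁻¹) * ((g : G) * y * (g : G)⁻¹) := by
      group
    rw [this, hgx]
  have hsmul : g • ({y • a, (x * y) • a} : Set X) = {y' • a, (x * y') • a} := by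
    rw [Set.smul_set_insert, Set.smul_set_singleton]
    change ({(g : G) • (y • a), (g : G) • ((x * y) • a)} : Set X) = _
    rw [hconj, hconj, hxy']
  rw [hsmul]
  have key : y' = y ∨ y' = x * y := by
    have hgz' : (g : G) • z ∈ ({y • a, (x * y) • a} : Set X) := hgz
    rcases hz with rfl | rfl
    · rw [hconj] at hgz'
      rcases hgz' with h | h
      · left; exact eq_of_smul_eq N hreg a hy'N hy h
      · right; exact eq_of_smul_eq N hreg a hy'N (N.mul_mem hx hy) h
    · rw [hconj, hxy'] at hgz'
      rcases hgz' with h | h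
      · right
        have h1 := eq_of_smul_eq N hreg a (N.mul_mem hx hy'N) hy h
        calc y' = (x * x) * y' := by rw [hx2, one_mul]
          _ = x * (x * y') := by rw [mul_assoc]
          _ = x * y := by rw [h1]
      · left
        have h1 := eq_of_smul_eq N hreg a (N.mul_mem hx hy'N) (N.mul_mem hx hy) h
        exact mul_left_cancel h1
  rcases key with h | h
  · rw [h]
  · rw [h, ← mul_assoc, hx2, one_mul, Set.pair_comm]

end

/-- A triply primitive group of degree at least 3 having a regular normal subgroup has degree 3 or 4. -/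
theorem result {G : Type*} [Group G] {X : Type*} [Fintype X] [MulAction G X] (hX : 3 ≤ Fintype.card X) (h3 : MulAction.IsMultiplyPreprimitive G X 3) (N : Subgroup G) [N.Normal] (htrans : MulAction.IsPretransitive N X) (hreg : ∀ x : X, MulAction.stabilizer N x = ⊥) : Fintype.card X = 3 ∨ Fintype.card X = 4 := by
  classical
  have hcardX : (3 : ℕ∞) ≤ ENat.card X := by
    rw [ENat.card_eq_coe_fintype_card]
    exact_mod_cast hX
  have h2 : MulAction.IsMultiplyPreprimitive G X 2 :=
    MulAction.isMultiplyPreprimitive_of_le G X h3 (by norm_num) hcardX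
  rcases Cfsg.Agent.S0695.result (by omega) h2 N htrans hreg with h | ⟨_, hsq, _⟩
  · exact Or.inl h
  right
  have hne : Nonempty X := by
    rw [← Fintype.card_pos_iff]; omega
  obtain ⟨a⟩ := hne
  have hsq' : ∀ n ∈ N, n * n = 1 := fun n hn => by rw [← pow_two]; exact hsq n hn
  -- three distinct points a, b, c
  have h3' : 2 < (Finset.univ : Finset X).card := by rw [Finset.card_univ]; omega
  obtain ⟨p, q, r, _, _, _, hpq, hpr, hqr⟩ := Finset.two_lt_card_iff.mp h3'
  -- two points different from a
  have : ∃ b c : X, b ≠ a ∧ c ≠ a ∧ b ≠ c := by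
    by_cases hpa : p = a
    · exact ⟨q, r, fun h => hpq (hpa.trans h.symm), fun h => hpr (hpa.trans h.symm), hqr⟩
    · by_cases hqa : q = a
      · exact ⟨p, r, hpa, fun h => hqr (hqa.trans h.symm), hpr⟩
      · exact ⟨p, q, hpa, hqa, hpq⟩
  obtain ⟨b, c, hba, hca, hbc⟩ := this
  obtain ⟨x, hxb⟩ := MulAction.exists_smul_eq N a b
  obtain ⟨y, hyc⟩ := MulAction.exists_smul_eq N a c
  have hxb' : (x : G) • a = b := hxb
  have hyc' : (y : G) • a = c := hyc
  have hx2 := hsq' x.1 x.2
  have hprim : MulAction.IsPreprimitive (fixingSubgroup G ({a, (x : G) • a} : Set X))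
      (SubMulAction.ofFixingSubgroup G ({a, (x : G) • a} : Set X)) :=
    h3.isPreprimitive_ofFixingSubgroup (by
      rw [Set.encard_pair (by rw [hxb']; exact Ne.symm hba)]; rfl)
  have hblock := isBlock_pair' N hreg a x.1 y.1 x.2 y.2 hx2
  -- the four points are distinct
  have hxya : ((x : G) * y) • a ≠ a := by
    intro h
    have h1 := eq_of_smul_eq N hreg a (N.mul_mem x.2 y.2) N.one_mem (by rw [h, one_smul])
    -- x * y = 1 so y = x
    have h2 : (y : G) = x := by
      calc (y : G) = ((x : G) * x) * y := by rw [hx2, one_mul]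
        _ = x * ((x : G) * y) := by rw [mul_assoc]
        _ = x := by rw [h1, mul_one]
    apply hbc
    rw [← hxb', ← hyc', h2]
  have hxyb : ((x : G) * y) • a ≠ (x : G) • a := by
    intro h
    have h1 := eq_of_smul_eq N hreg a (N.mul_mem x.2 y.2) x.2 h
    have h2 : (y : G) = 1 := by
      have := mul_left_cancel (h1.trans (mul_one _).symm)
      exact this
    apply hca
    rw [← hyc', h2, one_smul]
  have hxyc : (y : G) • a ≠ ((x : G) * y) • a := by
    intro h
    have h1 := eq_of_smul_eq N hreg a y.2 (N.mul_mem x.2 y.2) h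
    have h2 : (x : G) = 1 := by
      have : (1 : G) * y = x * y := by rw [one_mul]; exact h1
      exact (mul_right_cancel this).symm
    apply hba
    rw [← hxb', h2, one_smul]
  let C := SubMulAction.ofFixingSubgroup G ({a, (x : G) • a} : Set X)
  have hmemC : ∀ z : X, z ≠ a → z ≠ (x : G) • a → z ∈ C := by
    intro z h1 h2
    rw [SubMulAction.mem_ofFixingSubgroup_iff]
    simp only [Set.mem_insert_iff, Set.mem_singleton_iff, not_or]
    exact ⟨h1, h2⟩
  have hyC : (y : G) • a ∈ C := hmemC _ (by rw [hyc']; exact hca) (by rw [hyc', hxb']; exact Ne.symm hbc)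
  have hxyC : ((x : G) * y) • a ∈ C := hmemC _ hxya hxyb
  let B : Set C := Subtype.val ⁻¹' ({(y : G) • a, ((x : G) * y) • a} : Set X)
  have hBimage : (Subtype.val '' B : Set X) = {(y : G) • a, ((x : G) * y) • a} := by
    rw [Set.image_preimage_eq_inter_range, Set.inter_eq_left]
    rintro z (rfl | rfl)
    · exact ⟨⟨_, hyC⟩, rfl⟩
    · exact ⟨⟨_, hxyC⟩, rfl⟩
  have hB : MulAction.IsBlock (fixingSubgroup G ({a, (x : G) • a} : Set X)) B := by
    rw [← MulAction.isBlock_subtypeVal, hBimage]
    exact hblock
  have hz1 : (⟨_, hyC⟩ : C) ∈ B := by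
    change (y : G) • a ∈ ({(y : G) • a, ((x : G) * y) • a} : Set X)
    exact Set.mem_insert _ _
  have hz2 : (⟨_, hxyC⟩ : C) ∈ B := by
    change ((x : G) * y) • a ∈ ({(y : G) • a, ((x : G) * y) • a} : Set X)
    exact Set.mem_insert_of_mem _ rfl
  rcases hprim.isTrivialBlock_of_isBlock hB with hsub | huniv
  · exfalso
    have := hsub hz1 hz2
    exact hxyc (congrArg Subtype.val this)
  · have hall : ∀ z : X, z = a ∨ z = (x : G) • a ∨ z = (y : G) • a ∨ z = ((x : G) * y) • a := by
      intro z
      by_cases hza : z = a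
      · exact Or.inl hza
      · by_cases hzb : z = (x : G) • a
        · exact Or.inr (Or.inl hzb)
        · right; right
          have : (⟨z, hmemC z hza hzb⟩ : C) ∈ B := by rw [huniv]; trivial
          exact this
    have huniv' : (Finset.univ : Finset X) =
        {a, (x : G) • a, (y : G) • a, ((x : G) * y) • a} := by
      ext z
      simp only [Finset.mem_univ, Finset.mem_insert, Finset.mem_singleton, true_iff]
      exact hall z
    rw [← Finset.card_univ, huniv']
    rw [Finset.card_insert_of_notMem, Finset.card_insert_of_notMem, Finset.card_pair hxyc]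
    · simp only [Finset.mem_insert, Finset.mem_singleton, not_or]
      refine ⟨?_, Ne.symm hxyb⟩
      rw [hxb', hyc']; exact hbc
    · simp only [Finset.mem_insert, Finset.mem_singleton, not_or]
      refine ⟨?_, ?_, Ne.symm hxya⟩
      · rw [hxb']; exact Ne.symm hba
      · rw [hyc']; exact Ne.symm hca

end Cfsg.Agent.S0696
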