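import Mathlib
import Cfsg.Statements.S0697
import Cfsg.Agent.S0698

set_option autoImplicit false
open Cfsg

namespace Cfsg.Agent.S0697

open MulAction Cfsg.Agent.S0698

variable {G α : Type*} [Group G] [MulAction G α]

/-- Interface with Mathlib's primitivity of the pointwise stabilizer on the complement. -/
theorem trivial_of_prim {Δ : Finset α}
    (hprim : IsPreprimitive (fixingSubgroup G (Δ : Set α))
      (SubMulAction.ofFixingSubgroup G (Δ : Set α)))
    (B : Set α)
    (hB : ∀ g : G, fixes g Δ → ∀ b ∈ B, g • b ∈ B → ∀ b' ∈ B, g • b' ∈ B) :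
    (∀ b ∈ B, ∀ b' ∈ B, b ∉ Δ → b' ∉ Δ → b = b') ∨ (∀ y, y ∉ Δ → y ∈ B) := by
  have hblock : IsBlock (fixingSubgroup G (Δ : Set α)) B := by
    rw [isBlock_iff_smul_eq_of_mem]
    intro g a ha hga
    have hgfix : fixes (g : G) Δ := fun d hd =>
      (mem_fixingSubgroup_iff G).mp g.2 d (by exact_mod_cast hd)
    apply Set.Subset.antisymm
    · rintro _ ⟨b', hb', rfl⟩
      exact hB g hgfix a ha hga b' hb'
    · intro b' hb'
      refine ⟨g⁻¹ • b', ?_, smul_inv_smul g b'⟩
      exact hB ((g : G)⁻¹) (fixes_inv hgfix) (g • a) hga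
        (by show (g : G)⁻¹ • (g : G) • a ∈ B; rw [inv_smul_smul]; exact ha) b' hb'
  have htriv := hprim.isTrivialBlock_of_isBlock
    (hblock.subtype_val_preimage (C := SubMulAction.ofFixingSubgroup G (Δ : Set α)))
  rcases htriv with h | h
  · left
    intro b hb b' hb' hbΔ hb'Δ
    have := @h (⟨b, by rw [SubMulAction.mem_ofFixingSubgroup_iff]; exact_mod_cast hbΔ⟩ :
        SubMulAction.ofFixingSubgroup G (Δ : Set α)) hb
      ⟨b', by rw [SubMulAction.mem_ofFixingSubgroup_iff]; exact_mod_cast hb'Δ⟩ hb'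
    exact congrArg Subtype.val this
  · right
    intro y hy
    have : (⟨y, by rw [SubMulAction.mem_ofFixingSubgroup_iff]; exact_mod_cast hy⟩ :
        SubMulAction.ofFixingSubgroup G (Δ : Set α)) ∈
        (Subtype.val ⁻¹' B : Set (SubMulAction.ofFixingSubgroup G (Δ : Set α))) := by
      rw [h]; trivial
    exact this

/-- Key lemma: a normal subgroup acting nontrivially off `Δ` (`|Δ| < k`) is transitive off `Δ`. -/
theorem transOn_of_nontrivial [FaithfulSMul G α] [Fintype α] [DecidableEq α] {k : ℕ}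
    (hkn : k ≤ Fintype.card α) (hG : IsMultiplyPreprimitive G α k) (H : Subgroup G) [H.Normal]
    (Δ : Finset α) (hΔ : Δ.card < k) (m : G) (hmH : m ∈ H) (hmΔ : fixes m Δ) (hm1 : m ≠ 1) :
    ∀ y ∉ Δ, ∀ z ∉ Δ, ∃ h ∈ H, fixes h Δ ∧ h • y = z := by
  have hGt : IsMultiplyPretransitive G α k := IsMultiplyPreprimitive.isMultiplyPretransitive G α k
  obtain ⟨x, hx⟩ : ∃ x : α, m • x ≠ x := by
    by_contra hall
    push Not at hall
    exact hm1 (FaithfulSMul.eq_of_smul_eq_smul (fun a => by rw [hall a, one_smul]))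
  by_cases hΔ2 : Δ.card + 2 ≤ k
  · exact fun y hy z hz => transOn_of_normal hkn hGt H Δ hΔ2 m hmH hmΔ x hx y hy z hz
  have hΔ1 : Δ.card + 1 = k := by omega
  have hprim : IsPreprimitive (fixingSubgroup G (Δ : Set α))
      (SubMulAction.ofFixingSubgroup G (Δ : Set α)) :=
    IsMultiplyPreprimitive.isPreprimitive_ofFixingSubgroup G k
      (by rw [Set.encard_coe_eq_coe_finsetCard]; exact_mod_cast hΔ1)
  have hxΔ : x ∉ Δ := fun h => hx (hmΔ x h)
  have key := trivial_of_prim hprim {z | ∃ h ∈ H, fixes h Δ ∧ h • x = z} ?_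
  · rcases key with h1 | h2
    · exfalso
      apply hx
      exact (h1 x ⟨1, H.one_mem, fixes_one Δ, one_smul _ _⟩ (m • x) ⟨m, hmH, hmΔ, rfl⟩ hxΔ
        (smul_notMem hmΔ hxΔ)).symm
    · intro y hy z hz
      obtain ⟨h, hhH, hhΔ, hh⟩ := h2 y hy
      obtain ⟨h', hh'H, hh'Δ, hh'⟩ := h2 z hz
      refine ⟨h' * h⁻¹, H.mul_mem hh'H (H.inv_mem hhH), fixes_mul hh'Δ (fixes_inv hhΔ), ?_⟩
      rw [mul_smul, ← hh, inv_smul_smul, hh']
  · rintro g hgΔ b ⟨h₁, hh₁H, hh₁Δ, rfl⟩ ⟨h₂, hh₂H, hh₂Δ, hh₂⟩ b' ⟨h₃, hh₃H, hh₃Δ, rfl⟩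
    refine ⟨(g * (h₃ * h₁⁻¹) * g⁻¹) * h₂,
      H.mul_mem (‹H.Normal›.conj_mem _ (H.mul_mem hh₃H (H.inv_mem hh₁H)) g) hh₂H, ?_, ?_⟩
    · exact fixes_mul (fixes_mul (fixes_mul hgΔ (fixes_mul hh₃Δ (fixes_inv hh₁Δ)))
        (fixes_inv hgΔ)) hh₂Δ
    · rw [mul_smul, hh₂]
      simp only [mul_smul, inv_smul_smul]


theorem reg_eq {H : Subgroup G} {Γ : Finset α} (hS : RegSetup H Γ) {a : α} (ha : a ∉ Γ)
    {u v : G} (huH : u ∈ H) (huΓ : fixes u Γ) (hvH : v ∈ H) (hvΓ : fixes v Γ)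
    (huv : u • a = v • a) : u = v := by
  have h1 : v⁻¹ * u = 1 := by
    apply hS.reg _ (H.mul_mem (H.inv_mem hvH) huH) (fixes_mul (fixes_inv hvΓ) huΓ) a ha
    rw [mul_smul, huv, inv_smul_smul]
  rw [inv_mul_eq_one] at h1
  exact h1.symm

/-- General form: `k`-primitive, `k + 2 ≤ n`, non-regular normal subgroup is `k`-transitive. -/
theorem kprim_general [FaithfulSMul G α] [Fintype α] [DecidableEq α] {k : ℕ}
    (hkn : k + 2 ≤ Fintype.card α) (hG : IsMultiplyPreprimitive G α k) (H : Subgroup G)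
    [H.Normal] (hH : H ≠ ⊥) (hnr : ∃ m ∈ H, m ≠ 1 ∧ ∃ a : α, m • a = a) :
    IsMultiplyPretransitive H α k := by
  have hGt : IsMultiplyPretransitive G α k := IsMultiplyPreprimitive.isMultiplyPretransitive G α k
  by_contra hcon
  have h1 : ∃ Δ : Finset α, Δ.card < k ∧ ∀ m ∈ H, fixes m Δ → m = 1 := by
    by_contra hno
    push Not at hno
    apply hcon
    apply isMultiplyPretransitive_of_transOn
    intro Δ hΔ y hy z hz
    obtain ⟨m, hmH, hmΔ, hm1⟩ := hno Δ hΔ
    exact transOn_of_nontrivial (by omega) hG H Δ hΔ m hmH hmΔ hm1 y hy z hz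
  classical
  have hP : ∃ j, ∃ Δ : Finset α, Δ.card = j ∧ Δ.card < k ∧ ∀ m ∈ H, fixes m Δ → m = 1 := by
    obtain ⟨Δ, h2, h3⟩ := h1
    exact ⟨_, Δ, rfl, h2, h3⟩
  obtain ⟨Δ, hΔj, hΔk, hΔtriv⟩ := Nat.find_spec hP
  have hmin : ∀ Δ' : Finset α, Δ'.card < Nat.find hP → ∃ m ∈ H, fixes m Δ' ∧ m ≠ 1 := by
    intro Δ' h'
    by_contra hno
    push Not at hno
    exact Nat.find_min hP h' ⟨Δ', rfl, by omega, hno⟩
  have hΔne : Δ.Nonempty := by
    by_contra hemp
    rw [Finset.not_nonempty_iff_eq_empty] at hemp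
    apply hH
    rw [Subgroup.eq_bot_iff_forall]
    intro m hm
    exact hΔtriv m hm (by rw [hemp]; intro d hd; simp at hd)
  obtain ⟨a, ha⟩ := hΔne
  have hΓcard : (Δ.erase a).card + 1 = Δ.card := Finset.card_erase_add_one ha
  obtain ⟨x₀, hx₀H, hx₀Γ, hx₀1⟩ := hmin (Δ.erase a) (by omega)
  have haΓ : a ∉ Δ.erase a := Finset.notMem_erase a Δ
  have hΔeq : insert a (Δ.erase a) = Δ := Finset.insert_erase ha
  have htrans : ∀ y ∉ Δ.erase a, ∀ z ∉ Δ.erase a, ∃ h ∈ H, fixes h (Δ.erase a) ∧ h • y = z :=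
    transOn_of_nontrivial (by omega) hG H (Δ.erase a) (by omega) x₀ hx₀H hx₀Γ hx₀1
  have hS : RegSetup H (Δ.erase a) := by
    refine ⟨htrans, fun m hmN hmΓ b hb hmb => ?_⟩
    obtain ⟨h, hhN, hhΓ, hh⟩ := htrans a haΓ b hb
    have h2 : h⁻¹ * m * h = 1 := by
      apply hΔtriv _ (H.mul_mem (H.mul_mem (H.inv_mem hhN) hmN) hhN)
      rw [← hΔeq]
      apply fixes_insert
      · rw [mul_smul, mul_smul, hh, hmb, ← hh, inv_smul_smul]
      · exact fixes_mul (fixes_mul (fixes_inv hhΓ) hmΓ) hhΓ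
    have : m = h * (h⁻¹ * m * h) * h⁻¹ := by group
    rw [this, h2]; group
  have hΓne : (Δ.erase a).Nonempty := by
    by_contra hemp
    rw [Finset.not_nonempty_iff_eq_empty] at hemp
    obtain ⟨m, hmH, hm1, b, hmb⟩ := hnr
    exact hm1 (hS.reg m hmH (by rw [hemp]; intro d hd; simp at hd) b (by rw [hemp]; simp) hmb)
  obtain ⟨c, hc⟩ := hΓne
  have hexp : ∀ x ∈ H, fixes x (Δ.erase a) → x ^ 2 = 1 := by
    intro y hyH hyΓ
    by_cases h3 : (Δ.erase a).card + 3 ≤ k
    · exact sq_eq_one_of_regSetup (by omega) hGt hS h3 hyH hyΓ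
    have h2 : Δ.card + 1 = k := by omega
    have hprim : IsPreprimitive (fixingSubgroup G (Δ : Set α))
        (SubMulAction.ofFixingSubgroup G (Δ : Set α)) :=
      IsMultiplyPreprimitive.isPreprimitive_ofFixingSubgroup G k
        (by rw [Set.encard_coe_eq_coe_finsetCard]; exact_mod_cast h2)
    by_contra hy2
    have hy'H : y⁻¹ ∈ H := H.inv_mem hyH
    have hy'Γ : fixes y⁻¹ (Δ.erase a) := fixes_inv hyΓ
    have hyy' : y • a ≠ y⁻¹ • a := by
      intro h
      apply hy2
      have := reg_eq hS haΓ hyH hyΓ hy'H hy'Γ h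
      rw [pow_two]
      nth_rewrite 1 [this]
      exact inv_mul_cancel y
    have hya : y • a ≠ a := by
      intro h
      apply hyy'
      rw [h, eq_inv_smul_iff, h]
    have hy'a : y⁻¹ • a ≠ a := by
      intro h
      apply hya
      rw [inv_smul_eq_iff] at h
      exact h.symm
    have hyaΔ : y • a ∉ Δ := by
      rw [← hΔeq, Finset.mem_insert, not_or]
      exact ⟨hya, smul_notMem hyΓ haΓ⟩
    have hy'aΔ : y⁻¹ • a ∉ Δ := by
      rw [← hΔeq, Finset.mem_insert, not_or]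
      exact ⟨hy'a, smul_notMem hy'Γ haΓ⟩
    have key := trivial_of_prim hprim {z | z = y • a ∨ z = y⁻¹ • a} ?_
    · rcases key with h1 | h2
      · exact hyy' (h1 (y • a) (Or.inl rfl) (y⁻¹ • a) (Or.inr rfl) hyaΔ hy'aΔ)
      · obtain ⟨z, hz⟩ := exists_notMem_of_card_lt (insert (y • a) (insert (y⁻¹ • a) Δ))
          (by
            have := Finset.card_insert_le (y • a) (insert (y⁻¹ • a) Δ)
            have := Finset.card_insert_le (y⁻¹ • a) Δ
            omega)
        simp only [Finset.mem_insert, not_or] at hz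
        rcases h2 z hz.2.2 with h | h
        · exact hz.1 h
        · exact hz.2.1 h
    · intro g hgΔ b hb hgb b' hb'
      have hga : g • a = a := hgΔ a ha
      have hgΓ : fixes g (Δ.erase a) := fixes_mono (Finset.erase_subset _ _) hgΔ
      have hcH : g * y * g⁻¹ ∈ H := ‹H.Normal›.conj_mem y hyH g
      have hcΓ : fixes (g * y * g⁻¹) (Δ.erase a) := fixes_mul (fixes_mul hgΓ hyΓ) (fixes_inv hgΓ)
      have hg'a : g⁻¹ • a = a := by rw [inv_smul_eq_iff, hga]
      have hca : g • y • a = (g * y * g⁻¹) • a := by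
        rw [mul_smul, mul_smul, hg'a]
      have hc'a : g • y⁻¹ • a = (g * y * g⁻¹)⁻¹ • a := by
        rw [show (g * y * g⁻¹)⁻¹ = g * y⁻¹ * g⁻¹ by group, mul_smul, mul_smul, hg'a]
      have hcases : g * y * g⁻¹ = y ∨ g * y * g⁻¹ = y⁻¹ := by
        rcases hb with rfl | rfl
        · rcases hgb with h | h
          · left; rw [hca] at h; exact reg_eq hS haΓ hcH hcΓ hyH hyΓ h
          · right; rw [hca] at h; exact reg_eq hS haΓ hcH hcΓ hy'H hy'Γ h
        · rcases hgb with h | h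
          · right
            rw [hc'a] at h
            have := reg_eq hS haΓ (H.inv_mem hcH) (fixes_inv hcΓ) hyH hyΓ h
            exact inv_eq_iff_eq_inv.mp this
          · left
            rw [hc'a] at h
            have := reg_eq hS haΓ (H.inv_mem hcH) (fixes_inv hcΓ) hy'H hy'Γ h
            exact inv_injective this
      rcases hb' with rfl | rfl
      · rw [hca]
        rcases hcases with h | h
        · left; rw [h]
        · right; rw [h]
      · rw [hc'a]
        rcases hcases with h | h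
        · right; rw [h]
        · left; rw [h, inv_inv]
  refine false_of_regSetup_erase hS hexp hc ?_ (by omega)
  have hc1 : ((Δ.erase a).erase c).card + 1 = (Δ.erase a).card := Finset.card_erase_add_one hc
  exact transOn_of_nontrivial (by omega) hG H ((Δ.erase a).erase c) (by omega) x₀ hx₀H
    (fixes_mono (Finset.erase_subset _ _) hx₀Γ) hx₀1

/-- In a `k`-primitive permutation group which is not the whole symmetric group, a non-trivial non-regular normal subgroup is `k`-transitive. -/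
theorem result {α : Type*} [Fintype α] [DecidableEq α] (G : Subgroup (Equiv.Perm α)) {k : ℕ} (hk : 1 ≤ k) (hkn : k ≤ Fintype.card α) (hG : MulAction.IsMultiplyPreprimitive G α k) (htop : G ≠ ⊤) (H : Subgroup G) [H.Normal] (hH : H ≠ ⊥) (hnr : ∃ a : α, MulAction.stabilizer H a ≠ ⊥) : MulAction.IsMultiplyPretransitive H α k := by
  by_cases hkn2 : k + 2 ≤ Fintype.card α
  · apply kprim_general hkn2 hG H hH
    obtain ⟨a, ha⟩ := hnr
    rw [Ne, Subgroup.eq_bot_iff_forall] at ha
    push Not at ha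
    obtain ⟨m, hm, hm1⟩ := ha
    exact ⟨m.1, m.2, fun h => hm1 (Subtype.ext h), a, hm⟩
  · exfalso
    apply htop
    apply Equiv.Perm.eq_top_of_isMultiplyPretransitive
    have hGt : MulAction.IsMultiplyPretransitive G α k :=
      MulAction.IsMultiplyPreprimitive.isMultiplyPretransitive G α k
    rw [Nat.card_eq_fintype_card]
    exact MulAction.isMultiplyPretransitive_of_le (n := k) (by omega)
      (by rw [Nat.card_eq_fintype_card]; exact hkn)

end Cfsg.Agent.S0697
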