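import Cfsg.Statements.S0700
import Cfsg.Agent.Lib.Helper59.TwoTransFrob
import Cfsg.Agent.Lib.Helper59.TwoTransSimple

set_option autoImplicit false
open Cfsg

namespace Cfsg.Agent.S0700

open MulAction Cfsg.Agent.Lib.Helper59 in
/-- Burnside's Theorem on doubly transitive groups: a minimal normal subgroup of a finite doubly transitive permutation group is elementary abelian and regular, or simple and primitive. -/
theorem result {α : Type*} [Fintype α] [DecidableEq α] (G : Subgroup (Equiv.Perm α)) (hG : MulAction.IsMultiplyPretransitive G α 2) (N : Subgroup G) [N.Normal] (hN : N ≠ ⊥) (hmin : ∀ M : Subgroup G, M.Normal → M ≤ N → M = ⊥ ∨ M = N) : (IsMulCommutative N ∧ (∃ p : ℕ, p.Prime ∧ ∀ n ∈ N, n ^ p = 1) ∧ ∀ a : α, MulAction.stabilizer N a = ⊥) ∨ (IsSimpleGroup N ∧ MulAction.IsPreprimitive N α) := by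
  have hfaith : FaithfulSMul G α := ⟨fun {x y} h => Subtype.ext (Equiv.ext h)⟩
  have hne : Nonempty α := by
    by_contra hemp
    rw [not_nonempty_iff] at hemp
    apply hN
    rw [eq_bot_iff]
    intro x _
    rw [Subgroup.mem_bot]
    apply Subtype.ext
    apply Equiv.ext
    intro a
    exact (hemp.false a).elim
  by_cases hreg : SSemireg α N
  · left
    obtain ⟨hcomm, p, hp, hexp⟩ := elementary_of_regular_normal hG N hN hmin hreg
    refine ⟨⟨⟨fun a b => Subtype.ext (hcomm a a.2 b b.2)⟩⟩, ⟨p, hp, hexp⟩, fun a => ?_⟩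
    rw [eq_bot_iff]
    intro x hx
    rw [mem_stabilizer_iff] at hx
    exact Subgroup.mem_bot.mpr (Subtype.ext (hreg x x.2 a hx))
  · right
    unfold SSemireg at hreg
    push Not at hreg
    obtain ⟨x₀, hx₀, a₀, hx₀a, hx₀1⟩ := hreg
    have hprim := isPreprimitive_of_nonregular hG N hN hmin a₀ x₀ hx₀ hx₀1 hx₀a
    exact ⟨isSimpleGroup_of_isPreprimitive hG N hN hmin hprim, hprim⟩

end Cfsg.Agent.S0700
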