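import Cfsg.Statements.S0701
-- import your own Cfsg.Agent.* helpers here

set_option autoImplicit false
open Cfsg

namespace Cfsg.Agent.S0701

theorem eq_of_regular {α : Type*} (G : Subgroup (Equiv.Perm α))
    (hreg : ∀ a : α, MulAction.stabilizer G a = ⊥) {g h : G} {a : α} (hgh : g • a = h • a) :
    g = h := by
  have : h⁻¹ * g ∈ MulAction.stabilizer G a := by
    rw [MulAction.mem_stabilizer_iff, mul_smul, hgh, inv_smul_smul]
  rw [hreg a, Subgroup.mem_bot] at this
  exact (inv_mul_eq_one.mp this).symm

/-- The centraliser in the full symmetric group of a transitive permutation group `G` is semiregular, and it is transitive if and only if `G` is regular. -/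
theorem result {α : Type*} (G : Subgroup (Equiv.Perm α)) [MulAction.IsPretransitive G α] : (∀ c ∈ Subgroup.centralizer (G : Set (Equiv.Perm α)), ∀ a : α, c a = a → c = 1) ∧ (MulAction.IsPretransitive (Subgroup.centralizer (G : Set (Equiv.Perm α))) α ↔ ∀ a : α, MulAction.stabilizer G a = ⊥) := by
  refine ⟨?_, ?_, ?_⟩
  · intro c hc a hca
    ext b
    obtain ⟨g, rfl⟩ := MulAction.exists_smul_eq G a b
    have h1 := (Subgroup.mem_centralizer_iff.mp hc) g.1 g.2
    have h2 : c (g.1 a) = g.1 (c a) := by
      have := congrArg (fun σ : Equiv.Perm α => σ a) h1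
      simpa using this.symm
    change c (g.1 a) = g.1 a
    rw [h2, hca]
  · intro hC a
    rw [eq_bot_iff]
    intro g hg
    rw [Subgroup.mem_bot]
    rw [MulAction.mem_stabilizer_iff] at hg
    apply Subtype.ext
    ext b
    obtain ⟨c, rfl⟩ := MulAction.exists_smul_eq (Subgroup.centralizer (G : Set (Equiv.Perm α))) a b
    have h1 := (Subgroup.mem_centralizer_iff.mp c.2) g.1 g.2
    have h2 : g.1 (c.1 a) = c.1 (g.1 a) := by
      have := congrArg (fun σ : Equiv.Perm α => σ a) h1
      simpa using this
    change g.1 (c.1 a) = c.1 a
    rw [h2]
    congr 1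
  · intro hreg
    refine ⟨fun a b => ?_⟩
    -- choose, for each x, an element of G sending a to x, and one sending b to x
    choose ga hga using fun x => MulAction.exists_smul_eq G a x
    choose gb hgb using fun x => MulAction.exists_smul_eq G b x
    have key1 : ∀ x, gb (ga x • b) = ga x := fun x =>
      eq_of_regular G hreg (hgb _)
    have key2 : ∀ y, ga (gb y • a) = gb y := fun y =>
      eq_of_regular G hreg (hga _)
    let c : Equiv.Perm α :=
      { toFun := fun x => ga x • b
        invFun := fun y => gb y • a
        left_inv := fun x => by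
          change gb (ga x • b) • a = x
          rw [key1, hga]
        right_inv := fun y => by
          change ga (gb y • a) • b = y
          rw [key2, hgb] }
    have hc : c ∈ Subgroup.centralizer (G : Set (Equiv.Perm α)) := by
      rw [Subgroup.mem_centralizer_iff]
      intro h hh
      ext x
      change h (ga x • b) = ga (h x) • b
      have : ga (h x) = (⟨h, hh⟩ : G) * ga x := by
        apply eq_of_regular G hreg (a := a)
        rw [hga, mul_smul, hga]
        rfl
      rw [this, mul_smul]
      rfl
    refine ⟨⟨c, hc⟩, ?_⟩
    change ga a • b = b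
    have : ga a = 1 := by
      apply eq_of_regular G hreg (a := a)
      rw [hga, one_smul]
    rw [this, one_smul]

end Cfsg.Agent.S0701
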