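import Cfsg.Statements.S0702
import Mathlib
-- import your own Cfsg.Agent.* helpers here

set_option autoImplicit false
open Cfsg

namespace Cfsg.Agent.S0702

section
variable {α : Type*} (G : Subgroup (Equiv.Perm α)) [MulAction.IsPretransitive G α] (a : α)

/-- the construction of centralising permutations from normalising elements -/
theorem exists_cent (n : G)
    (hn : n ∈ Subgroup.normalizer ((MulAction.stabilizer G a : Subgroup G) : Set G)) :
    ∃ c : Equiv.Perm α, c ∈ Subgroup.centralizer (G : Set (Equiv.Perm α)) ∧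
      ∀ g : G, c (g • a) = g • n • a := by
  choose γ hγ using fun x => MulAction.exists_smul_eq G a x
  have hninv : n⁻¹ ∈ Subgroup.normalizer ((MulAction.stabilizer G a : Subgroup G) : Set G) :=
    Subgroup.inv_mem _ hn
  -- key property for an arbitrary normalising element
  have key : ∀ (n' : G), n' ∈ Subgroup.normalizer ((MulAction.stabilizer G a : Subgroup G) : Set G) →
      ∀ g : G, γ (g • a) • n' • a = g • n' • a := by
    intro n' hn' g
    have hs : g⁻¹ * γ (g • a) ∈ MulAction.stabilizer G a := by
      rw [MulAction.mem_stabilizer_iff, mul_smul, hγ, inv_smul_smul]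
    have hs' : n'⁻¹ * (g⁻¹ * γ (g • a)) * n' ∈ MulAction.stabilizer G a := by
      have := (Subgroup.mem_normalizer_iff.mp hn' (n'⁻¹ * (g⁻¹ * γ (g • a)) * n')).mpr
      apply this
      have e : n' * (n'⁻¹ * (g⁻¹ * γ (g • a)) * n') * n'⁻¹ = g⁻¹ * γ (g • a) := by group
      rw [e]; exact hs
    rw [MulAction.mem_stabilizer_iff] at hs'
    have e2 : γ (g • a) • n' • a = g • n' • ((n'⁻¹ * (g⁻¹ * γ (g • a)) * n') • a) := by
      simp only [← mul_smul]
      congr 1
      group
    rw [e2, hs']
  let c : Equiv.Perm α :=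
    { toFun := fun x => γ x • n • a
      invFun := fun x => γ x • n⁻¹ • a
      left_inv := fun x => by
        simp only
        have h1 : γ x • n • a = (γ x * n) • a := (mul_smul _ _ _).symm
        rw [h1, key n⁻¹ hninv, ← mul_smul, mul_assoc, mul_inv_cancel, mul_one, hγ]
      right_inv := fun x => by
        simp only
        have h1 : γ x • n⁻¹ • a = (γ x * n⁻¹) • a := (mul_smul _ _ _).symm
        rw [h1, key n hn, ← mul_smul, mul_assoc, inv_mul_cancel, mul_one, hγ] }
  have hc : ∀ g : G, c (g • a) = g • n • a := fun g => key n hn g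
  refine ⟨c, ?_, hc⟩
  rw [Subgroup.mem_centralizer_iff]
  intro h hh
  ext x
  rw [Equiv.Perm.mul_apply, Equiv.Perm.mul_apply]
  have hx : x = γ x • a := (hγ x).symm
  have e1 : c x = γ x • n • a := rfl
  have e2 : c (h x) = ((⟨h, hh⟩ : G) * γ x) • n • a := by
    have : h x = ((⟨h, hh⟩ : G) * γ x) • a := by
      rw [mul_smul, hγ]; rfl
    rw [this, hc]
  rw [e1, e2, mul_smul]
  rfl

/-- elements of the centraliser commute with the action of `G` -/
theorem cent_comm (c : Equiv.Perm α) (hc : c ∈ Subgroup.centralizer (G : Set (Equiv.Perm α)))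
    (g : G) (x : α) : c (g • x) = g • c x := by
  have := (Subgroup.mem_centralizer_iff.mp hc) g.1 g.2
  have := congrArg (fun σ : Equiv.Perm α => σ x) this
  exact this.symm

/-- a point fixed by the stabiliser of `a` is the image of `a` under a normalising element -/
theorem mem_normalizer_of_fixed [Finite α] (n : G)
    (hfix : ∀ k ∈ MulAction.stabilizer G a, k • n • a = n • a) :
    n ∈ Subgroup.normalizer ((MulAction.stabilizer G a : Subgroup G) : Set G) := by
  have hconj : ∀ k ∈ MulAction.stabilizer G a, n⁻¹ * k * n ∈ MulAction.stabilizer G a := by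
    intro k hk
    rw [MulAction.mem_stabilizer_iff, mul_smul, mul_smul, hfix k hk, inv_smul_smul]
  -- conjugation by n⁻¹ is an injective self-map of the finite stabiliser, hence surjective
  let f : MulAction.stabilizer G a → MulAction.stabilizer G a :=
    fun k => ⟨n⁻¹ * k.1 * n, hconj k.1 k.2⟩
  have hfinj : Function.Injective f := by
    intro k₁ k₂ h
    have := congrArg Subtype.val h
    simp only [f, mul_left_inj, mul_right_inj] at this
    exact Subtype.ext this
  have hfsurj : Function.Surjective f := Finite.surjective_of_injective hfinj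
  rw [Subgroup.mem_normalizer_iff]
  intro h
  constructor
  · intro hh
    obtain ⟨k, hk⟩ := hfsurj ⟨h, hh⟩
    have : n⁻¹ * k.1 * n = h := congrArg Subtype.val hk
    rw [← this]
    have e : n * (n⁻¹ * k.1 * n) * n⁻¹ = k.1 := by group
    rw [e]; exact k.2
  · intro hh
    have := hconj _ hh
    have e : n⁻¹ * (n * h * n⁻¹) * n = h := by group
    rwa [e] at this

end

/-- For a transitive permutation group `G` on a finite set, the centraliser of `G` in the symmetric group is isomorphic to `N_G(G_ω)/G_ω`, and its orbit of `ω` is the set of fixed points of `G_ω`. -/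
theorem result {α : Type*} [Finite α] (G : Subgroup (Equiv.Perm α)) [MulAction.IsPretransitive G α] (a : α) : Nonempty (Subgroup.centralizer (G : Set (Equiv.Perm α)) ≃* Subgroup.normalizer ((MulAction.stabilizer G a : Subgroup G) : Set G) ⧸ (MulAction.stabilizer G a).subgroupOf (Subgroup.normalizer ((MulAction.stabilizer G a : Subgroup G) : Set G))) ∧ MulAction.orbit (Subgroup.centralizer (G : Set (Equiv.Perm α))) a = MulAction.fixedPoints (MulAction.stabilizer G a) α := by
  classical
  set C := Subgroup.centralizer (G : Set (Equiv.Perm α)) with hC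
  set K := MulAction.stabilizer G a with hK
  set Nm := Subgroup.normalizer ((K : Subgroup G) : Set G) with hNm
  -- fixed points of K
  have hfixmem : ∀ c ∈ C, ∀ k ∈ K, k • c a = c a := by
    intro c hc k hk
    rw [← cent_comm G c hc k a]
    congr 1
  -- for c ∈ C there's a normalising n with c a = n a
  have hCn : ∀ c ∈ C, ∃ n : G, n ∈ Nm ∧ c a = n • a := by
    intro c hc
    obtain ⟨n, hn⟩ := MulAction.exists_smul_eq G a (c a)
    refine ⟨n, ?_, hn.symm⟩
    apply mem_normalizer_of_fixed G a n
    intro k hk
    rw [hn]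
    exact hfixmem c hc k hk
  constructor
  · -- the homomorphism Nm → C
    have hex : ∀ n : Nm, ∃ c : C, ∀ g : G, (c : Equiv.Perm α) (g • a) = g • (n⁻¹ : G) • a := by
      intro n
      obtain ⟨c, hc, hcg⟩ := exists_cent G a (n⁻¹ : G) (Subgroup.inv_mem _ n.2)
      exact ⟨⟨c, hc⟩, hcg⟩
    choose ψ hψ using hex
    have huniq : ∀ c₁ c₂ : C, (∀ g : G, (c₁ : Equiv.Perm α) (g • a) = (c₂ : Equiv.Perm α) (g • a)) →
        c₁ = c₂ := by
      intro c₁ c₂ h
      apply Subtype.ext
      ext x
      obtain ⟨g, rfl⟩ := MulAction.exists_smul_eq G a x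
      exact h g
    have hmul : ∀ n₁ n₂ : Nm, ψ (n₁ * n₂) = ψ n₁ * ψ n₂ := by
      intro n₁ n₂
      apply huniq
      intro g
      rw [hψ]
      change _ = (ψ n₁ : Equiv.Perm α) ((ψ n₂ : Equiv.Perm α) (g • a))
      have e3 : g • ((n₂ : G))⁻¹ • a = (g * ((n₂ : G))⁻¹) • a := (mul_smul _ _ _).symm
      rw [hψ, e3, hψ, ← mul_smul, ← mul_smul]
      congr 1
    let Ψ : Nm →* C := MonoidHom.mk' ψ hmul
    have hker : Ψ.ker = K.subgroupOf Nm := by
      ext n
      rw [MonoidHom.mem_ker, Subgroup.mem_subgroupOf]
      constructor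
      · intro h
        have h1 := hψ n 1
        have h2 : ψ n = 1 := h
        rw [h2, one_smul, one_smul] at h1
        have h3 : (n⁻¹ : G) • a = a := h1.symm
        rw [hK, MulAction.mem_stabilizer_iff]
        rw [inv_smul_eq_iff] at h3
        exact h3.symm
      · intro h
        rw [hK, MulAction.mem_stabilizer_iff] at h
        change ψ n = 1
        apply huniq
        intro g
        rw [hψ]
        have : (n⁻¹ : G) • a = a := by rw [inv_smul_eq_iff]; exact h.symm
        rw [this]
        rfl
    have hsurj : Function.Surjective Ψ := by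
      intro c
      obtain ⟨n, hn, hca⟩ := hCn c.1 c.2
      refine ⟨(⟨n, hn⟩ : Nm)⁻¹, ?_⟩
      change ψ _ = c
      apply huniq
      intro g
      rw [hψ, cent_comm G c.1 c.2 g a, hca]
      simp
    have e1 : Nm ⧸ Ψ.ker ≃* C := QuotientGroup.quotientKerEquivOfSurjective Ψ hsurj
    have e2 : Nm ⧸ Ψ.ker ≃* Nm ⧸ K.subgroupOf Nm := QuotientGroup.quotientMulEquivOfEq hker
    exact ⟨e1.symm.trans e2⟩
  · ext b
    constructor
    · rintro ⟨c, rfl⟩
      intro k
      exact hfixmem c.1 c.2 k.1 k.2
    · intro hb
      obtain ⟨n, hn⟩ := MulAction.exists_smul_eq G a b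
      have hnN : n ∈ Nm := by
        apply mem_normalizer_of_fixed G a n
        intro k hk
        rw [hn]
        exact hb ⟨k, hk⟩
      obtain ⟨c, hc, hcg⟩ := exists_cent G a n hnN
      refine ⟨⟨c, hc⟩, ?_⟩
      have := hcg 1
      rw [one_smul, one_smul] at this
      change c a = b
      rw [this, hn]

end Cfsg.Agent.S0702
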