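import Cfsg.Statements.S0703
import Mathlib
-- import your own Cfsg.Agent.* helpers here

set_option autoImplicit false
open Cfsg

namespace Cfsg.Agent.S0703

/-- An abelian transitive minimal normal subgroup `M` of a permutation group on a finite set is self-centralising in the symmetric group, regular, elementary abelian, and is the unique minimal normal subgroup. -/
theorem result {α : Type*} [Finite α] (G : Subgroup (Equiv.Perm α)) (M : Subgroup G) [M.Normal] (hM : M ≠ ⊥) (hmin : ∀ L : Subgroup G, L.Normal → L ≤ M → L = ⊥ ∨ L = M) (hab : IsMulCommutative M) (htrans : MulAction.IsPretransitive M α) : Subgroup.centralizer ((M.map G.subtype : Subgroup (Equiv.Perm α)) : Set (Equiv.Perm α)) = M.map G.subtype ∧ (∀ a : α, MulAction.stabilizer M a = ⊥) ∧ (∃ p : ℕ, p.Prime ∧ ∀ m ∈ M, m ^ p = 1) ∧ ∀ L : Subgroup G, L.Normal → L ≠ ⊥ → (∀ L' : Subgroup G, L'.Normal → L' ≤ L → L' = ⊥ ∨ L' = L) → L = M := by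
  classical
  -- commutativity in M
  have hcomm : ∀ m₁ ∈ M, ∀ m₂ ∈ M, m₁ * m₂ = m₂ * m₁ := by
    intro m₁ h₁ m₂ h₂
    have := hab.is_comm.comm (⟨m₁, h₁⟩ : M) ⟨m₂, h₂⟩
    exact congrArg Subtype.val this
  -- transitivity, in elementary form
  have htr : ∀ a b : α, ∃ m ∈ M, (m : Equiv.Perm α) a = b := by
    intro a b
    obtain ⟨m, hm⟩ := MulAction.exists_smul_eq M a b
    exact ⟨m.1, m.2, hm⟩
  -- a permutation commuting with M and fixing a point is trivial
  have hsemi : ∀ (c : Equiv.Perm α), (∀ m ∈ M, (m : Equiv.Perm α) * c = c * (m : Equiv.Perm α)) →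
      ∀ a : α, c a = a → c = 1 := by
    intro c hc a hca
    ext b
    obtain ⟨m, hm, rfl⟩ := htr a b
    have := congrArg (fun σ : Equiv.Perm α => σ a) (hc m hm)
    simp only [Equiv.Perm.coe_mul, Function.comp_apply] at this
    rw [Equiv.Perm.one_apply, ← this, hca]
  -- α is nonempty
  have hne : Nonempty α := by
    by_contra hcon
    rw [not_nonempty_iff] at hcon
    apply hM
    rw [eq_bot_iff]
    intro m _
    rw [Subgroup.mem_bot]
    apply Subtype.ext
    ext x
    exact (hcon.false x).elim
  obtain ⟨a₀⟩ := hne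
  -- regularity
  have hreg : ∀ a : α, MulAction.stabilizer M a = ⊥ := by
    intro a
    rw [eq_bot_iff]
    intro m hm
    rw [Subgroup.mem_bot]
    rw [MulAction.mem_stabilizer_iff] at hm
    apply Subtype.ext
    apply Subtype.ext
    apply hsemi (m.1 : Equiv.Perm α) _ a hm
    intro m' hm'
    have := hcomm m' hm' m.1 m.2
    exact congrArg Subtype.val this
  -- the centraliser
  have hcent : Subgroup.centralizer ((M.map G.subtype : Subgroup (Equiv.Perm α)) : Set (Equiv.Perm α))
      = M.map G.subtype := by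
    apply le_antisymm
    · intro c hc
      rw [Subgroup.mem_centralizer_iff] at hc
      obtain ⟨m, hm, hma⟩ := htr a₀ (c a₀)
      have h1 : (m : Equiv.Perm α)⁻¹ * c = 1 := by
        apply hsemi _ _ a₀
        · rw [Equiv.Perm.mul_apply, ← hma]
          simp
        · intro m' hm'
          have e1 := hc (m' : Equiv.Perm α) ⟨m', hm', rfl⟩
          have e2 := congrArg Subtype.val (hcomm m' hm' m hm)
          simp only [Subgroup.coe_mul] at e2
          calc (m' : Equiv.Perm α) * ((m : Equiv.Perm α)⁻¹ * c)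
              = (m : Equiv.Perm α)⁻¹ * ((m : Equiv.Perm α) * (m' : Equiv.Perm α)) *
                  (m : Equiv.Perm α)⁻¹ * c := by group
            _ = (m : Equiv.Perm α)⁻¹ * ((m' : Equiv.Perm α) * (m : Equiv.Perm α)) *
                  (m : Equiv.Perm α)⁻¹ * c := by rw [e2]
            _ = (m : Equiv.Perm α)⁻¹ * ((m' : Equiv.Perm α) * c) := by group
            _ = (m : Equiv.Perm α)⁻¹ * (c * (m' : Equiv.Perm α)) := by rw [e1]
            _ = (m : Equiv.Perm α)⁻¹ * c * (m' : Equiv.Perm α) := by group
      have h2 : c = (m : Equiv.Perm α) := by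
        have := congrArg (fun σ => (m : Equiv.Perm α) * σ) h1
        simpa using this
      rw [h2]
      exact ⟨m, hm, rfl⟩
    · rintro _ ⟨m, hm, rfl⟩
      rw [Subgroup.mem_centralizer_iff]
      rintro _ ⟨m', hm', rfl⟩
      have := congrArg Subtype.val (hcomm m' hm' m hm)
      simpa using this
  -- elementary abelian
  have hGfin : Finite G := inferInstance
  have hMnt : Nontrivial M := (Subgroup.nontrivial_iff_ne_bot M).mpr hM
  have hcard : 1 < Nat.card M := Finite.one_lt_card
  obtain ⟨p, hp, hpd⟩ := Nat.exists_prime_and_dvd (Nat.ne_of_gt hcard)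
  have : Fact p.Prime := ⟨hp⟩
  have helem : ∀ m ∈ M, m ^ p = 1 := by
    let L : Subgroup G :=
      { carrier := {m | m ∈ M ∧ m ^ p = 1}
        one_mem' := ⟨M.one_mem, one_pow p⟩
        mul_mem' := by
          rintro x y ⟨hx, hxp⟩ ⟨hy, hyp⟩
          refine ⟨M.mul_mem hx hy, ?_⟩
          rw [(show Commute x y from hcomm x hx y hy).mul_pow, hxp, hyp, one_mul]
        inv_mem' := by
          rintro x ⟨hx, hxp⟩
          exact ⟨M.inv_mem hx, by rw [inv_pow, hxp, inv_one]⟩ }
    have hLn : L.Normal := by
      constructor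
      rintro x ⟨hx, hxp⟩ g
      refine ⟨(inferInstance : M.Normal).conj_mem x hx g, ?_⟩
      rw [conj_pow, hxp, mul_one, mul_inv_cancel]
    have hLM : L ≤ M := fun x hx => hx.1
    obtain ⟨x, hx⟩ := exists_prime_orderOf_dvd_card' (G := M) p hpd
    have hLne : L ≠ ⊥ := by
      intro hL
      have hxL : (x : G) ∈ L := by
        refine ⟨x.2, ?_⟩
        have := pow_orderOf_eq_one x
        rw [hx] at this
        exact_mod_cast congrArg Subtype.val this
      rw [hL, Subgroup.mem_bot] at hxL
      have hx1 : x = 1 := Subtype.ext hxL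
      rw [hx1, orderOf_one] at hx
      exact hp.one_lt.ne hx
    have hLeq : L = M := (hmin L hLn hLM).resolve_left hLne
    intro m hm
    have : m ∈ L := by rw [hLeq]; exact hm
    exact this.2
  refine ⟨hcent, hreg, ⟨p, hp, helem⟩, ?_⟩
  -- uniqueness
  intro L hLn hLne hLmin
  have hinf : (L ⊓ M).Normal := Subgroup.normal_inf_normal L M
  rcases hmin (L ⊓ M) hinf inf_le_right with h | h
  · exfalso
    apply hLne
    rw [eq_bot_iff]
    intro l hl
    have hdisj : Disjoint L M := disjoint_iff.mpr h
    have hlc : (l : Equiv.Perm α) ∈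
        Subgroup.centralizer ((M.map G.subtype : Subgroup (Equiv.Perm α)) : Set (Equiv.Perm α)) := by
      rw [Subgroup.mem_centralizer_iff]
      rintro _ ⟨m, hm, rfl⟩
      have := Subgroup.commute_of_normal_of_disjoint L M hLn inferInstance hdisj l m hl hm
      have := congrArg Subtype.val this.eq
      simpa using this.symm
    rw [hcent] at hlc
    obtain ⟨m, hm, hml⟩ := hlc
    have hlm : l = m := (Subtype.ext hml).symm
    have : l ∈ L ⊓ M := ⟨hl, hlm ▸ hm⟩
    rw [h] at this
    exact this
  · have hML : M ≤ L := by rw [← h]; exact inf_le_left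
    rcases hLmin M inferInstance hML with h' | h'
    · exact absurd h' hM
    · exact h'.symm

end Cfsg.Agent.S0703
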