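import Cfsg.Statements.S0704
import Mathlib
-- import your own Cfsg.Agent.* helpers here

set_option autoImplicit false
open Cfsg

namespace Cfsg.Agent.S0704

section
variable {α : Type*} (G : Subgroup (Equiv.Perm α))

/-- a permutation commuting with a transitive subgroup and fixing a point is trivial -/
theorem semi (X : Subgroup G) (hX : MulAction.IsPretransitive X α) (c : Equiv.Perm α)
    (hc : ∀ x ∈ X, (x : Equiv.Perm α) * c = c * (x : Equiv.Perm α)) (a : α) (hca : c a = a) :
    c = 1 := by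
  ext b
  obtain ⟨x, hx⟩ := MulAction.exists_smul_eq X a b
  have hx' : (x.1 : Equiv.Perm α) a = b := hx
  have := congrArg (fun σ : Equiv.Perm α => σ a) (hc x.1 x.2)
  simp only [Equiv.Perm.coe_mul, Function.comp_apply] at this
  rw [Equiv.Perm.one_apply, ← hx', ← this, hca]

/-- if `Y` commutes with a transitive `X`, then `Y` is semiregular -/
theorem stab_bot (X Y : Subgroup G) (hX : MulAction.IsPretransitive X α)
    (hXY : ∀ x ∈ X, ∀ y ∈ Y, x * y = y * x) (a : α) : MulAction.stabilizer Y a = ⊥ := by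
  rw [eq_bot_iff]
  intro y hy
  rw [Subgroup.mem_bot]
  rw [MulAction.mem_stabilizer_iff] at hy
  apply Subtype.ext
  apply Subtype.ext
  apply semi G X hX (y.1 : Equiv.Perm α) _ a hy
  intro x hx
  exact congrArg Subtype.val (hXY x hx y.1 y.2)

/-- if `Y` is transitive and commutes with the transitive `X`, the centraliser of `X` is `Y` -/
theorem cent_eq (X Y : Subgroup G) (hX : MulAction.IsPretransitive X α)
    (hY : MulAction.IsPretransitive Y α) (a₀ : α)
    (hXY : ∀ x ∈ X, ∀ y ∈ Y, x * y = y * x) :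
    Subgroup.centralizer ((X.map G.subtype : Subgroup (Equiv.Perm α)) : Set (Equiv.Perm α)) =
      Y.map G.subtype := by
  apply le_antisymm
  · intro c hc
    rw [Subgroup.mem_centralizer_iff] at hc
    obtain ⟨y, hy⟩ := MulAction.exists_smul_eq Y a₀ (c a₀)
    have hy' : (y.1 : Equiv.Perm α) a₀ = c a₀ := hy
    have h1 : (y.1 : Equiv.Perm α)⁻¹ * c = 1 := by
      apply semi G X hX _ _ a₀
      · rw [Equiv.Perm.mul_apply, ← hy']
        simp
      · intro x hx
        have e1 := hc (x : Equiv.Perm α) ⟨x, hx, rfl⟩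
        have e2 := congrArg Subtype.val (hXY x hx y.1 y.2)
        simp only [Subgroup.coe_mul] at e2
        calc (x : Equiv.Perm α) * ((y.1 : Equiv.Perm α)⁻¹ * c)
            = (y.1 : Equiv.Perm α)⁻¹ * ((y.1 : Equiv.Perm α) * (x : Equiv.Perm α)) *
                (y.1 : Equiv.Perm α)⁻¹ * c := by group
          _ = (y.1 : Equiv.Perm α)⁻¹ * ((x : Equiv.Perm α) * (y.1 : Equiv.Perm α)) *
                (y.1 : Equiv.Perm α)⁻¹ * c := by rw [e2]
          _ = (y.1 : Equiv.Perm α)⁻¹ * ((x : Equiv.Perm α) * c) := by group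
          _ = (y.1 : Equiv.Perm α)⁻¹ * (c * (x : Equiv.Perm α)) := by rw [e1]
          _ = (y.1 : Equiv.Perm α)⁻¹ * c * (x : Equiv.Perm α) := by group
    have h2 : c = (y.1 : Equiv.Perm α) := by
      have := congrArg (fun σ => (y.1 : Equiv.Perm α) * σ) h1
      simpa using this
    rw [h2]
    exact ⟨y.1, y.2, rfl⟩
  · rintro _ ⟨y, hy, rfl⟩
    rw [Subgroup.mem_centralizer_iff]
    rintro _ ⟨x, hx, rfl⟩
    have := congrArg Subtype.val (hXY x hx y hy)
    simpa using this

/-- two regular subgroups commuting with each other are isomorphic -/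
theorem iso_of_commute (X Y : Subgroup G) (hX : MulAction.IsPretransitive X α)
    (hY : MulAction.IsPretransitive Y α) (a₀ : α)
    (hXY : ∀ x ∈ X, ∀ y ∈ Y, x * y = y * x)
    (hXreg : ∀ a : α, MulAction.stabilizer X a = ⊥) (hYreg : ∀ a : α, MulAction.stabilizer Y a = ⊥) :
    Nonempty (X ≃* Y) := by
  -- uniqueness in regular groups
  have huniqY : ∀ y₁ y₂ : Y, y₁ • a₀ = y₂ • a₀ → y₁ = y₂ := by
    intro y₁ y₂ h
    have : y₂⁻¹ * y₁ ∈ MulAction.stabilizer Y a₀ := by
      rw [MulAction.mem_stabilizer_iff, mul_smul, h, inv_smul_smul]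
    rw [hYreg a₀, Subgroup.mem_bot] at this
    exact (inv_mul_eq_one.mp this).symm
  have huniqX : ∀ x₁ x₂ : X, x₁ • a₀ = x₂ • a₀ → x₁ = x₂ := by
    intro x₁ x₂ h
    have : x₂⁻¹ * x₁ ∈ MulAction.stabilizer X a₀ := by
      rw [MulAction.mem_stabilizer_iff, mul_smul, h, inv_smul_smul]
    rw [hXreg a₀, Subgroup.mem_bot] at this
    exact (inv_mul_eq_one.mp this).symm
  choose f hf using fun x : X => MulAction.exists_smul_eq Y a₀ (x⁻¹ • a₀)
  -- commutation of the actions
  have hcomm : ∀ (x : X) (y : Y) (b : α), x • y • b = y • x • b := by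
    intro x y b
    have := congrArg (fun σ : Equiv.Perm α => σ b) (congrArg Subtype.val (hXY x.1 x.2 y.1 y.2))
    exact this
  have hmul : ∀ x₁ x₂ : X, f (x₁ * x₂) = f x₁ * f x₂ := by
    intro x₁ x₂
    apply huniqY
    rw [hf, mul_smul, hf, ← hcomm, hf, mul_inv_rev, mul_smul]
  refine ⟨MulEquiv.ofBijective (MonoidHom.mk' f hmul) ⟨?_, ?_⟩⟩
  · intro x₁ x₂ h
    have h' : f x₁ = f x₂ := h
    have h1 : x₁⁻¹ • a₀ = x₂⁻¹ • a₀ := by rw [← hf x₁, ← hf x₂, h']
    have := huniqX _ _ h1
    exact inv_injective this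
  · intro y
    obtain ⟨x, hx⟩ := MulAction.exists_smul_eq X a₀ (y • a₀)
    refine ⟨x⁻¹, ?_⟩
    change f x⁻¹ = y
    apply huniqY
    rw [hf, inv_inv, hx]

end

/-- Two distinct transitive minimal normal subgroups `M`, `N` of a permutation group are regular, non-abelian, isomorphic, each other's centraliser in the symmetric group, and the only minimal normal subgroups. -/
theorem result {α : Type*} (G : Subgroup (Equiv.Perm α)) (M N : Subgroup G) [M.Normal] [N.Normal] (hM : M ≠ ⊥) (hN : N ≠ ⊥) (hMmin : ∀ L : Subgroup G, L.Normal → L ≤ M → L = ⊥ ∨ L = M) (hNmin : ∀ L : Subgroup G, L.Normal → L ≤ N → L = ⊥ ∨ L = N) (hMN : M ≠ N) (hMt : MulAction.IsPretransitive M α) (hNt : MulAction.IsPretransitive N α) : (∀ a : α, MulAction.stabilizer M a = ⊥) ∧ (∀ a : α, MulAction.stabilizer N a = ⊥) ∧ ¬ IsMulCommutative M ∧ Nonempty (M ≃* N) ∧ Subgroup.centralizer ((M.map G.subtype : Subgroup (Equiv.Perm α)) : Set (Equiv.Perm α)) = N.map G.subtype ∧ Subgroup.centralizer ((N.map G.subtype : Subgroup (Equiv.Perm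 α)) : Set (Equiv.Perm α)) = M.map G.subtype ∧ ∀ L : Subgroup G, L.Normal → L ≠ ⊥ → (∀ L' : Subgroup G, L'.Normal → L' ≤ L → L' = ⊥ ∨ L' = L) → L = M ∨ L = N := by
  classical
  have hMnorm : M.Normal := inferInstance
  have hNnorm : N.Normal := inferInstance
  -- M ⊓ N = ⊥
  have hinf : M ⊓ N = ⊥ := by
    rcases hMmin (M ⊓ N) (Subgroup.normal_inf_normal M N) inf_le_left with h | h
    · exact h
    · exfalso
      have hMleN : M ≤ N := by rw [← h]; exact inf_le_right
      rcases hNmin M hMnorm hMleN with h' | h'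
      · exact hM h'
      · exact hMN h'
  have hdisj : Disjoint M N := disjoint_iff.mpr hinf
  have hMNcomm : ∀ m ∈ M, ∀ n ∈ N, m * n = n * m := fun m hm n hn =>
    (Subgroup.commute_of_normal_of_disjoint M N hMnorm hNnorm hdisj m n hm hn).eq
  have hNMcomm : ∀ n ∈ N, ∀ m ∈ M, n * m = m * n := fun n hn m hm => (hMNcomm m hm n hn).symm
  -- α is nonempty
  have hne : Nonempty α := by
    by_contra hcon
    rw [not_nonempty_iff] at hcon
    apply hM
    rw [eq_bot_iff]
    intro m _
    rw [Subgroup.mem_bot]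
    apply Subtype.ext
    ext x
    exact (hcon.false x).elim
  obtain ⟨a₀⟩ := hne
  have hMreg : ∀ a : α, MulAction.stabilizer M a = ⊥ := stab_bot G N M hNt hNMcomm
  have hNreg : ∀ a : α, MulAction.stabilizer N a = ⊥ := stab_bot G M N hMt hMNcomm
  have hCM := cent_eq G M N hMt hNt a₀ hMNcomm
  have hCN := cent_eq G N M hNt hMt a₀ hNMcomm
  refine ⟨hMreg, hNreg, ?_, iso_of_commute G M N hMt hNt a₀ hMNcomm hMreg hNreg, hCM, hCN, ?_⟩
  · intro hab
    apply hM
    rw [eq_bot_iff, ← hinf]
    intro m hm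
    refine ⟨hm, ?_⟩
    have hmc : (m : Equiv.Perm α) ∈
        Subgroup.centralizer ((M.map G.subtype : Subgroup (Equiv.Perm α)) : Set (Equiv.Perm α)) := by
      rw [Subgroup.mem_centralizer_iff]
      rintro _ ⟨m', hm', rfl⟩
      have := hab.is_comm.comm (⟨m', hm'⟩ : M) ⟨m, hm⟩
      have := congrArg Subtype.val (congrArg Subtype.val this)
      simpa using this
    rw [hCM] at hmc
    obtain ⟨n, hn, hnm⟩ := hmc
    have : m = n := (Subtype.ext hnm).symm
    rw [this]; exact hn
  · intro L hLn hLne hLmin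
    rcases hMmin (L ⊓ M) (Subgroup.normal_inf_normal L M) inf_le_right with h | h
    · right
      have hdisj' : Disjoint L M := disjoint_iff.mpr h
      have hLN : L ≤ N := by
        intro l hl
        have hlc : (l : Equiv.Perm α) ∈
            Subgroup.centralizer ((M.map G.subtype : Subgroup (Equiv.Perm α)) : Set (Equiv.Perm α)) := by
          rw [Subgroup.mem_centralizer_iff]
          rintro _ ⟨m, hm, rfl⟩
          have := Subgroup.commute_of_normal_of_disjoint L M hLn hMnorm hdisj' l m hl hm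
          have := congrArg Subtype.val this.eq
          simpa using this.symm
        rw [hCM] at hlc
        obtain ⟨n, hn, hnl⟩ := hlc
        have : l = n := (Subtype.ext hnl).symm
        rw [this]; exact hn
      exact (hNmin L hLn hLN).resolve_left hLne
    · left
      have hML : M ≤ L := by rw [← h]; exact inf_le_left
      rcases hLmin M hMnorm hML with h' | h'
      · exact absurd h' hM
      · exact h'.symm

end Cfsg.Agent.S0704
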