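import Cfsg.Statements.S0705
import Mathlib
-- import your own Cfsg.Agent.* helpers here

set_option autoImplicit false
open Cfsg
open scoped Pointwise

namespace Cfsg.Agent.S0705

/-- one step: fix the first `m` coordinates and move coordinate `m` to the required value. -/
theorem step {α : Type*} [Fintype α] [DecidableEq α] (G : Subgroup (Equiv.Perm α)) {k : ℕ}
    (hk : k < Fintype.card α)
    (hgen : ∀ s : Finset α, s.card = k + 1 → ∀ σ : Equiv.Perm ↥s, ∃ g ∈ G, ∀ x : ↥s, g (x : α) = σ x)
    (x y : Fin k ↪ α) (m : Fin k) (hxy : ∀ i : Fin k, i.val < m.val → x i = y i) :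
    ∃ g ∈ G, ∀ i : Fin k, i.val < m.val + 1 → g (x i) = y i := by
  set c := y m with hc
  let t : Finset α := insert c (Finset.univ.map x)
  have htcard : t.card ≤ k + 1 := by
    refine (Finset.card_insert_le _ _).trans ?_
    simp
  obtain ⟨s, hts, _, hs⟩ := Finset.exists_subsuperset_card_eq (Finset.subset_univ t) htcard
    (by rw [Finset.card_univ]; omega)
  have hxs : ∀ i, x i ∈ s := fun i => hts (Finset.mem_insert_of_mem (by simp))
  have hcs : c ∈ s := hts (Finset.mem_insert_self _ _)
  obtain ⟨g, hg, hgσ⟩ := hgen s hs (Equiv.swap ⟨x m, hxs m⟩ ⟨c, hcs⟩)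
  refine ⟨g, hg, fun i hi => ?_⟩
  have h1 := hgσ ⟨x i, hxs i⟩
  simp only at h1
  rcases Nat.lt_succ_iff_lt_or_eq.mp hi with hlt | heq
  · have hne1 : (⟨x i, hxs i⟩ : ↥s) ≠ ⟨x m, hxs m⟩ := by
      intro h
      have := x.injective (Subtype.mk.inj h)
      rw [this] at hlt
      exact lt_irrefl _ hlt
    have hne2 : (⟨x i, hxs i⟩ : ↥s) ≠ ⟨c, hcs⟩ := by
      intro h
      have h2 : x i = y m := Subtype.mk.inj h
      rw [hxy i hlt] at h2
      have := y.injective h2
      rw [this] at hlt
      exact lt_irrefl _ hlt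
    rw [Equiv.swap_apply_of_ne_of_ne hne1 hne2] at h1
    rw [h1]
    exact hxy i hlt
  · have him : i = m := Fin.ext heq
    subst him
    rw [Equiv.swap_apply_left] at h1
    exact h1

theorem trans_aux {α : Type*} [Fintype α] [DecidableEq α] (G : Subgroup (Equiv.Perm α)) {k : ℕ}
    (hk : k < Fintype.card α)
    (hgen : ∀ s : Finset α, s.card = k + 1 → ∀ σ : Equiv.Perm ↥s, ∃ g ∈ G, ∀ x : ↥s, g (x : α) = σ x)
    (m : ℕ) (hm : m ≤ k) (x y : Fin k ↪ α) :
    ∃ g ∈ G, ∀ i : Fin k, i.val < m → g (x i) = y i := by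
  induction m with
  | zero => exact ⟨1, G.one_mem, fun i hi => absurd hi (Nat.not_lt_zero _)⟩
  | succ m ih =>
    obtain ⟨g0, hg0, h0⟩ := ih (Nat.le_of_succ_le hm)
    let x' : Fin k ↪ α := x.trans g0.toEmbedding
    obtain ⟨g1, hg1, h1⟩ := step G hk hgen x' y ⟨m, hm⟩ (fun i hi => h0 i hi)
    exact ⟨g1 * g0, G.mul_mem hg1 hg0, fun i hi => h1 i hi⟩

/-- A generously `k`-transitive permutation group (every `(k+1)`-subset has its full symmetric group induced by the setwise stabiliser) of degree greater than `k` is `k`-transitive, and for a `k`-subset the setwise and pointwise stabilisers have the same orbits outside it. -/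
theorem result {α : Type*} [Fintype α] [DecidableEq α] (G : Subgroup (Equiv.Perm α)) {k : ℕ} (hk : k < Fintype.card α) (hgen : ∀ s : Finset α, s.card = k + 1 → ∀ σ : Equiv.Perm ↥s, ∃ g ∈ G, ∀ x : ↥s, g (x : α) = σ x) : MulAction.IsMultiplyPretransitive G α k ∧ ∀ s : Finset α, s.card = k → ∀ a b : α, a ∉ s → b ∉ s → (∃ g ∈ G, g • s = s ∧ g a = b) → ∃ g ∈ G, (∀ x ∈ s, g x = x) ∧ g a = b := by
  constructor
  · refine ⟨fun x y => ?_⟩
    obtain ⟨g, hg, h⟩ := trans_aux G hk hgen k le_rfl x y
    refine ⟨⟨g, hg⟩, ?_⟩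
    ext i
    exact h i i.2
  · intro s hs a b ha hb ⟨g, hg, hgs, hgab⟩
    have hmem : ∀ z, z ∈ s ↔ g z ∈ s := by
      intro z
      constructor
      · intro hz
        rw [← hgs]
        exact Finset.smul_mem_smul_finset hz
      · intro hz
        rw [← hgs] at hz
        exact Finset.smul_mem_smul_finset_iff g |>.mp hz
    have hab : g⁻¹ b = a := by rw [← hgab]; simp
    let τ : Equiv.Perm α := Equiv.swap a b * g⁻¹
    have hτs : ∀ z ∈ s, τ z = g⁻¹ z := by
      intro z hz
      have hz' : g⁻¹ z ∈ s := by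
        rw [hmem]; simpa using hz
      change Equiv.swap a b (g⁻¹ z) = g⁻¹ z
      apply Equiv.swap_apply_of_ne_of_ne
      · rintro h; exact ha (h ▸ hz')
      · rintro h; exact hb (h ▸ hz')
    have hτb : τ b = b := by
      change Equiv.swap a b (g⁻¹ b) = b
      rw [hab, Equiv.swap_apply_left]
    let t : Finset α := insert b s
    have ht : t.card = k + 1 := by rw [Finset.card_insert_of_notMem hb, hs]
    have hτt : ∀ z, τ z ∈ t ↔ z ∈ t := by
      intro z
      by_cases hzb : z = b
      · subst hzb
        rw [hτb]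
      · by_cases hzs : z ∈ s
        · have hz' : g⁻¹ z ∈ s := by
            rw [hmem]; simpa using hzs
          rw [hτs z hzs]
          constructor
          · intro _; exact Finset.mem_insert_of_mem hzs
          · intro _; exact Finset.mem_insert_of_mem hz'
        · have h1 : z ∉ t := by simp [t, hzb, hzs]
          have h2 : τ z ∉ t := by
            intro h
            rcases Finset.mem_insert.mp h with h | h
            · apply hzb
              apply τ.injective
              rw [h, hτb]
            · -- τ z ∈ s, so z = τ⁻¹ (τ z)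
              have h3 : τ (g (τ z)) = τ z := by
                rw [hτs _ ((hmem _).mp h)]
                simp
              have h4 := τ.injective h3
              apply hzs
              rw [← h4]
              exact (hmem _).mp h
          simp [h1, h2]
    obtain ⟨h, hh, hhσ⟩ := hgen t ht (τ.subtypePerm hτt)
    refine ⟨h * g, G.mul_mem hh hg, ?_, ?_⟩
    · intro z hz
      have hgz : g z ∈ s := (hmem z).mp hz
      have := hhσ ⟨g z, Finset.mem_insert_of_mem hgz⟩
      simp only [Equiv.Perm.subtypePerm_apply] at this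
      change h (g z) = z
      rw [this, hτs _ hgz]
      simp
    · have := hhσ ⟨b, Finset.mem_insert_self _ _⟩
      simp only [Equiv.Perm.subtypePerm_apply] at this
      change h (g a) = b
      rw [hgab, this, hτb]

end Cfsg.Agent.S0705
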