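import Cfsg.Statements.S0706
import Mathlib
import Cfsg.Agent.S0738
-- import your own Cfsg.Agent.* helpers here

set_option autoImplicit false
open Cfsg

namespace Cfsg.Agent.S0706

open Cfsg.Agent.S0738 (IsAct elems mem_elems card_elems orb mem_orb self_mem_orb card_orb_mul)

section General

variable {G : Type*} [Group G] [Fintype G] {X : Type*}

/-- If `m` divides the size of every orbit in an invariant set, then `m` divides its size. -/
theorem dvd_card_of_dvd_orbits {act : G → X → X} (hact : IsAct act) (K : Subgroup G) (m : ℕ) :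
    ∀ (n : ℕ) (V : Finset X), V.card = n → (∀ k ∈ K, ∀ v ∈ V, act k v ∈ V) →
      (∀ v ∈ V, m ∣ (orb act K v).card) → m ∣ V.card := by
  classical
  intro n
  induction n using Nat.strong_induction_on with
  | _ n ih =>
    intro V hV hinv hs
    rcases V.eq_empty_or_nonempty with rfl | ⟨v, hv⟩
    · simp
    have hO : orb act K v ⊆ V := by
      intro w hw
      obtain ⟨k, hk, rfl⟩ := mem_orb.mp hw
      exact hinv k hk v hv
    have hsum := Finset.card_sdiff_add_card_eq_card hO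
    have hOpos : 0 < (orb act K v).card := Finset.card_pos.mpr ⟨v, self_mem_orb hact K v⟩
    have hlt : (V \ orb act K v).card < n := by omega
    have hinv' : ∀ k ∈ K, ∀ w ∈ V \ orb act K v, act k w ∈ V \ orb act K v := by
      intro k hk w hw
      rw [Finset.mem_sdiff] at hw ⊢
      refine ⟨hinv k hk w hw.1, fun h => hw.2 ?_⟩
      obtain ⟨k', hk', hk'w⟩ := mem_orb.mp h
      refine mem_orb.mpr ⟨k⁻¹ * k', K.mul_mem (K.inv_mem hk) hk', ?_⟩
      rw [hact.mul, hk'w, ← hact.mul, inv_mul_cancel, hact.one]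
    have hs' : ∀ w ∈ V \ orb act K v, m ∣ (orb act K w).card := fun w hw =>
      hs w (Finset.mem_sdiff.mp hw).1
    have h1 := ih _ hlt (V \ orb act K v) rfl hinv' hs'
    rw [← hsum]
    exact dvd_add h1 (hs v hv)

/-- A `p`-group acting on a set of size prime to `p` has a fixed point. -/
theorem exists_fixed_of_not_dvd {act : G → X → X} (hact : IsAct act) (R : Subgroup G) {p m : ℕ}
    (hp : p.Prime) (hR : Nat.card R = p ^ m) (V : Finset X)
    (hinv : ∀ r ∈ R, ∀ v ∈ V, act r v ∈ V) (hV : ¬ p ∣ V.card) :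
    ∃ v ∈ V, ∀ r ∈ R, act r v = v := by
  classical
  by_contra hcon
  push Not at hcon
  apply hV
  refine dvd_card_of_dvd_orbits hact R p V.card V rfl hinv ?_
  intro v hv
  have h1 := card_orb_mul hact R v
  rw [card_elems, hR] at h1
  have h2 : (orb act R v).card ∣ p ^ m := Dvd.intro _ h1
  obtain ⟨j, -, hj⟩ := (Nat.dvd_prime_pow hp).mp h2
  rcases Nat.eq_zero_or_pos j with rfl | hjpos
  · exfalso
    rw [pow_zero, Finset.card_eq_one] at hj
    obtain ⟨w, hw⟩ := hj
    obtain ⟨r, hr, hrv⟩ := hcon v hv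
    have h3 : v ∈ orb act R v := self_mem_orb hact R v
    have h4 : act r v ∈ orb act R v := mem_orb.mpr ⟨r, hr, rfl⟩
    rw [hw, Finset.mem_singleton] at h3 h4
    exact hrv (h4.trans h3.symm)
  · rw [hj]
    exact dvd_pow_self p hjpos.ne'

/-- Orbit-stabiliser with an arbitrary decidability instance. -/
theorem card_orb_mul' {act : G → X → X} (hact : IsAct act) (K : Subgroup G) (v : X)
    [DecidablePred fun k => act k v = v] :
    (orb act K v).card * ((elems K).filter (fun k => act k v = v)).card = (elems K).card := by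
  convert card_orb_mul hact K v

end General

section Main

variable {α : Type*} [Fintype α] [DecidableEq α]

/-- The evaluation action. -/
def ev (g : Equiv.Perm α) (x : α) : α := g x

theorem isAct_ev : IsAct (ev (α := α)) := ⟨fun _ => rfl, fun _ _ _ => rfl⟩

/-- The action on tuples indexed by a finset. -/
def evT (Γ : Finset α) (g : Equiv.Perm α) (φ : ↥Γ → α) : ↥Γ → α := fun γ => g (φ γ)

theorem isAct_evT (Γ : Finset α) : IsAct (evT Γ) := ⟨fun _ => rfl, fun _ _ _ => rfl⟩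

/-- The pointwise stabiliser in `G` of a finset. -/
def fixG (G : Subgroup (Equiv.Perm α)) (A : Finset α) : Subgroup (Equiv.Perm α) where
  carrier := {g | g ∈ G ∧ ∀ x ∈ A, g x = x}
  mul_mem' := by
    rintro g h ⟨h1, h2⟩ ⟨h3, h4⟩
    exact ⟨G.mul_mem h1 h3, fun x hx => by rw [Equiv.Perm.mul_apply, h4 x hx, h2 x hx]⟩
  one_mem' := ⟨G.one_mem, fun _ _ => rfl⟩
  inv_mem' := by
    rintro g ⟨h1, h2⟩
    exact ⟨G.inv_mem h1, fun x hx => by rw [Equiv.Perm.inv_eq_iff_eq, h2 x hx]⟩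

theorem mem_fixG {G : Subgroup (Equiv.Perm α)} {A : Finset α} {g : Equiv.Perm α} :
    g ∈ fixG G A ↔ g ∈ G ∧ ∀ x ∈ A, g x = x := Iff.rfl

theorem orbit_eq (G : Subgroup (Equiv.Perm α)) (Γ : Finset α) (x : α) :
    MulAction.orbit (fixingSubgroup G (Γ : Set α)) x = ↑(orb ev (fixG G Γ) x) := by
  ext z
  rw [MulAction.mem_orbit_iff, Finset.mem_coe, mem_orb]
  constructor
  · rintro ⟨⟨⟨g, hgG⟩, hg⟩, rfl⟩
    refine ⟨g, ⟨hgG, fun y hy => ?_⟩, rfl⟩
    exact (mem_fixingSubgroup_iff _).mp hg y (Finset.mem_coe.mpr hy)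
  · rintro ⟨g, ⟨hgG, hg⟩, rfl⟩
    refine ⟨⟨⟨g, hgG⟩, ?_⟩, rfl⟩
    rw [mem_fixingSubgroup_iff]
    intro y hy
    exact hg y (Finset.mem_coe.mp hy)

theorem card_orbit_eq (G : Subgroup (Equiv.Perm α)) (Γ : Finset α) (x : α) :
    Nat.card (MulAction.orbit (fixingSubgroup G (Γ : Set α)) x) = (orb ev (fixG G Γ) x).card := by
  rw [orbit_eq]
  simp

/-- Generosity, in a convenient form. -/
theorem exists_induce {G : Subgroup (Equiv.Perm α)} {k : ℕ}
    (hgen : ∀ s : Finset α, s.card = k + 1 → ∀ σ : Equiv.Perm ↥s, ∃ g ∈ G, ∀ x : ↥s, g (x : α) = σ x)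
    (s : Finset α) (hs : s.card = k + 1) (τ : Equiv.Perm α) (hτ : ∀ x ∈ s, τ x ∈ s) :
    ∃ g ∈ G, ∀ x ∈ s, g x = τ x := by
  obtain ⟨g, hg, h⟩ := hgen s hs (τ.subtypePermOfFintype hτ)
  refine ⟨g, hg, fun x hx => ?_⟩
  have := h ⟨x, hx⟩
  simpa using this

/-- Generosity implies homogeneity. -/
theorem exists_map {G : Subgroup (Equiv.Perm α)} {k : ℕ}
    (hgen : ∀ s : Finset α, s.card = k + 1 → ∀ σ : Equiv.Perm ↥s, ∃ g ∈ G, ∀ x : ↥s, g (x : α) = σ x)
    (B : Finset α) (hB : B.card = k) :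
    ∀ (n : ℕ) (A : Finset α), A.card = k → (A \ B).card = n → ∃ g ∈ G, ∀ x ∈ A, g x ∈ B := by
  intro n
  induction n with
  | zero =>
    intro A _ hn
    refine ⟨1, G.one_mem, fun x hx => ?_⟩
    rw [Finset.card_eq_zero, Finset.sdiff_eq_empty_iff_subset] at hn
    exact hn hx
  | succ n ih =>
    intro A hA hn
    obtain ⟨a, ha⟩ : (A \ B).Nonempty := Finset.card_pos.mp (by omega)
    have hcomm : (B \ A).card = (A \ B).card := Finset.card_sdiff_comm (by rw [hA, hB])
    obtain ⟨b, hb⟩ : (B \ A).Nonempty := Finset.card_pos.mp (by omega)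
    rw [Finset.mem_sdiff] at ha hb
    have hab : a ≠ b := fun h => ha.2 (h ▸ hb.1)
    obtain ⟨g₁, hg₁G, hg₁⟩ := exists_induce hgen (insert b A)
      (by rw [Finset.card_insert_of_notMem hb.2, hA]) (Equiv.swap a b) (by
        intro x hx
        by_cases hxa : x = a
        · rw [hxa, Equiv.swap_apply_left]; exact Finset.mem_insert_self _ _
        by_cases hxb : x = b
        · rw [hxb, Equiv.swap_apply_right]; exact Finset.mem_insert_of_mem ha.1
        · rw [Equiv.swap_apply_of_ne_of_ne hxa hxb]; exact hx)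
    set A' := insert b (A.erase a) with hA'
    have hbA' : b ∉ A.erase a := fun h => hb.2 (Finset.mem_of_mem_erase h)
    have hA'card : A'.card = k := by
      rw [hA', Finset.card_insert_of_notMem hbA', Finset.card_erase_of_mem ha.1, hA]
      have : 0 < k := by rw [← hA]; exact Finset.card_pos.mpr ⟨a, ha.1⟩
      omega
    have hA'B : (A' \ B).card = n := by
      have h1 : A' \ B = (A \ B).erase a := by
        ext x
        simp only [hA', Finset.mem_sdiff, Finset.mem_insert, Finset.mem_erase]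
        constructor
        · rintro ⟨hx | ⟨hxa, hxA⟩, hxB⟩
          · exact absurd (hx ▸ hb.1) hxB
          · exact ⟨hxa, hxA, hxB⟩
        · rintro ⟨hxa, hxA, hxB⟩
          exact ⟨Or.inr ⟨hxa, hxA⟩, hxB⟩
      rw [h1, Finset.card_erase_of_mem (Finset.mem_sdiff.mpr ha), hn]
      rfl
    obtain ⟨g₂, hg₂G, hg₂⟩ := ih A' hA'card hA'B
    refine ⟨g₂ * g₁, G.mul_mem hg₂G hg₁G, fun x hx => ?_⟩
    rw [Equiv.Perm.mul_apply, hg₁ x (Finset.mem_insert_of_mem hx)]
    apply hg₂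
    by_cases hxa : x = a
    · rw [hxa, Equiv.swap_apply_left, hA']; exact Finset.mem_insert_self _ _
    · have hxb : x ≠ b := fun h => hb.2 (h ▸ hx)
      rw [Equiv.swap_apply_of_ne_of_ne hxa hxb, hA']
      exact Finset.mem_insert_of_mem (Finset.mem_erase.mpr ⟨hxa, hx⟩)

end Main

/-- In a generously `k`-transitive permutation group, for a prime `p ≤ k` and a `k`-set `Γ`, there are no `p` points outside `Γ` lying in distinct orbits of the pointwise stabiliser of `Γ` all of length prime to `p` (at most `p - 1` such orbits). -/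
theorem result {α : Type*} [Fintype α] [DecidableEq α] (G : Subgroup (Equiv.Perm α)) {k : ℕ} (hk : k < Fintype.card α) (hgen : ∀ s : Finset α, s.card = k + 1 → ∀ σ : Equiv.Perm ↥s, ∃ g ∈ G, ∀ x : ↥s, g (x : α) = σ x) {p : ℕ} (hp : p.Prime) (hpk : p ≤ k) (Γ : Finset α) (hΓ : Γ.card = k) (f : Fin p → α) (hf : ∀ i, f i ∉ Γ) (hdist : ∀ i j, i ≠ j → f j ∉ MulAction.orbit (fixingSubgroup G (Γ : Set α)) (f i)) : ∃ i, p ∣ Nat.card (MulAction.orbit (fixingSubgroup G (Γ : Set α)) (f i)) := by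
  classical
  by_contra hcon
  push Not at hcon
  have hp' : Fact p.Prime := ⟨hp⟩
  set Y := fixG G Γ with hY
  have hcon' : ∀ i, ¬ p ∣ (orb ev Y (f i)).card := fun i => by
    rw [← card_orbit_eq]; exact hcon i
  have hdist' : ∀ i j, i ≠ j → f j ∉ orb ev Y (f i) := fun i j hij h => by
    apply hdist i j hij
    rw [orbit_eq]
    exact Finset.mem_coe.mpr h
  -- the p-cycle
  obtain ⟨Γ₁, hΓ₁Γ, hΓ₁card⟩ := Finset.exists_subset_card_eq (s := Γ) (n := p) (by rw [hΓ]; exact hpk)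
  obtain ⟨c, hcyc, hcsupp⟩ := Finset.exists_cycleOn Γ₁
  have hcfix : ∀ x ∉ Γ₁, c x = x := fun x hx =>
    Equiv.Perm.notMem_support.mp (fun h => hx (hcsupp h))
  -- the subgroup of permutations fixing everything off Γ₁
  let D : Subgroup (Equiv.Perm α) :=
    { carrier := {t | ∀ x ∉ Γ₁, t x = x}
      mul_mem' := by
        intro t t' h h' x hx
        rw [Equiv.Perm.mul_apply, h' x hx, h x hx]
      one_mem' := fun _ _ => rfl
      inv_mem' := by
        intro t h x hx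
        rw [Equiv.Perm.inv_eq_iff_eq, h x hx] }
  have hCD : Subgroup.zpowers c ≤ D := by
    rw [Subgroup.zpowers_le]
    exact hcfix
  have hZ1 : ∀ t ∈ Subgroup.zpowers c, ∀ x ∉ Γ₁, t x = x := fun t ht => hCD ht
  have hZ2 : ∀ t ∈ Subgroup.zpowers c, ∀ x ∈ Γ, t x ∈ Γ := by
    intro t ht x hx
    by_cases hx1 : x ∈ Γ₁
    · by_contra htx
      have htx1 : t x ∉ Γ₁ := fun h => htx (hΓ₁Γ h)
      have := hZ1 t ht (t x) htx1
      have hxx : t x = x := t.injective this
      rw [hxx] at htx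
      exact htx hx
    · rw [hZ1 t ht x hx1]; exact hx
  -- order of c
  obtain ⟨γ₁, hγ₁⟩ : Γ₁.Nonempty := Finset.card_pos.mp (by rw [hΓ₁card]; exact hp.pos)
  have hord : orderOf c = p := by
    rw [orderOf_eq_iff hp.pos]
    constructor
    · ext x
      by_cases hx : x ∈ Γ₁
      · have := hcyc.pow_card_apply hx
        rw [hΓ₁card] at this
        rw [this]; rfl
      · have : (c ^ p) x = x := hZ1 _ (Subgroup.pow_mem _ (Subgroup.mem_zpowers c) p) x hx
        rw [this]; rfl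
    · intro m hm hm0 h
      have h1 : (c ^ m) γ₁ = γ₁ := by rw [h]; rfl
      rw [hcyc.pow_apply_eq hγ₁, hΓ₁card] at h1
      exact absurd (Nat.le_of_dvd hm0 h1) (by omega)
  have hCcard : (elems (Subgroup.zpowers c)).card = p := by
    rw [card_elems, Nat.card_zpowers, hord]
  -- the subgroup M
  let M : Subgroup (Equiv.Perm α) :=
    { carrier := {g | g ∈ G ∧ ∃ t ∈ Subgroup.zpowers c, ∀ γ ∈ Γ, g γ = t γ}
      mul_mem' := by
        rintro g g' ⟨hg, t, ht, hgt⟩ ⟨hg', t', ht', hgt'⟩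
        refine ⟨G.mul_mem hg hg', t * t', Subgroup.mul_mem _ ht ht', fun γ hγ => ?_⟩
        rw [Equiv.Perm.mul_apply, Equiv.Perm.mul_apply, hgt' γ hγ, hgt _ (hZ2 t' ht' γ hγ)]
      one_mem' := ⟨G.one_mem, 1, Subgroup.one_mem _, fun _ _ => rfl⟩
      inv_mem' := by
        rintro g ⟨hg, t, ht, hgt⟩
        refine ⟨G.inv_mem hg, t⁻¹, Subgroup.inv_mem _ ht, fun γ hγ => ?_⟩
        rw [Equiv.Perm.inv_eq_iff_eq, hgt _ (hZ2 t⁻¹ (Subgroup.inv_mem _ ht) γ hγ)]
        simp }
  have hMmem : ∀ g, g ∈ M ↔ g ∈ G ∧ ∃ t ∈ Subgroup.zpowers c, ∀ γ ∈ Γ, g γ = t γ :=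
    fun g => Iff.rfl
  have hYM : Y ≤ M := by
    intro g hg
    exact ⟨hg.1, 1, Subgroup.one_mem _, fun γ hγ => hg.2 γ hγ⟩
  have hMG : M ≤ G := fun g hg => hg.1
  -- a point off Γ
  set δ₀ := f ⟨0, hp.pos⟩ with hδ₀
  have hδ₀Γ : δ₀ ∉ Γ := hf _
  -- realising elements of ⟨c⟩ in M
  have hreal : ∀ t ∈ Subgroup.zpowers c, ∃ g ∈ M, ∀ γ ∈ Γ, g γ = t γ := by
    intro t ht
    obtain ⟨g, hgG, hg⟩ := exists_induce hgen (insert δ₀ Γ)
      (by rw [Finset.card_insert_of_notMem hδ₀Γ, hΓ]) t (by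
        intro x hx
        rw [Finset.mem_insert] at hx
        rcases hx with rfl | hx
        · rw [hZ1 t ht _ (fun h => hδ₀Γ (hΓ₁Γ h))]; exact Finset.mem_insert_self _ _
        · exact Finset.mem_insert_of_mem (hZ2 t ht x hx))
    exact ⟨g, ⟨hgG, t, ht, fun γ hγ => hg γ (Finset.mem_insert_of_mem hγ)⟩,
      fun γ hγ => hg γ (Finset.mem_insert_of_mem hγ)⟩
  -- |M| = p |Y|
  have hMcard : Nat.card M = p * Nat.card Y := by
    have h1 := card_orb_mul' (isAct_evT Γ) M (fun γ : ↥Γ => (γ : α))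
    have h2 : (elems M).filter (fun g => evT Γ g (fun γ : ↥Γ => (γ : α)) = fun γ : ↥Γ => (γ : α)) =
        elems Y := by
      ext g
      rw [Finset.mem_filter, mem_elems, mem_elems]
      constructor
      · rintro ⟨hgM, hg⟩
        refine ⟨hgM.1, fun x hx => ?_⟩
        exact congrFun hg ⟨x, hx⟩
      · intro hg
        refine ⟨hYM hg, ?_⟩
        funext γ
        exact hg.2 γ γ.2
    have h3 : orb (evT Γ) M (fun γ : ↥Γ => (γ : α)) =
        (elems (Subgroup.zpowers c)).image (fun t => fun γ : ↥Γ => t (γ : α)) := by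
      ext φ
      rw [mem_orb, Finset.mem_image]
      constructor
      · rintro ⟨g, ⟨-, t, ht, hgt⟩, rfl⟩
        refine ⟨t, mem_elems.mpr ht, ?_⟩
        funext γ
        exact (hgt γ γ.2).symm
      · rintro ⟨t, ht, rfl⟩
        obtain ⟨g, hgM, hg⟩ := hreal t (mem_elems.mp ht)
        refine ⟨g, hgM, ?_⟩
        funext γ
        exact hg γ γ.2
    have h4 : ((elems (Subgroup.zpowers c)).image (fun t => fun γ : ↥Γ => t (γ : α))).card = p := by
      rw [Finset.card_image_of_injOn, hCcard]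
      intro t ht t' ht' h
      rw [Finset.mem_coe, mem_elems] at ht ht'
      ext x
      by_cases hx : x ∈ Γ₁
      · exact congrFun h ⟨x, hΓ₁Γ hx⟩
      · rw [hZ1 t ht x hx, hZ1 t' ht' x hx]
    rw [h2, h3, h4, card_elems, card_elems] at h1
    exact h1.symm
  -- every Y-orbit off Γ is M-invariant
  have hMorb : ∀ g ∈ M, ∀ δ ∉ Γ, ∃ y ∈ Y, g δ = y δ := by
    rintro g ⟨hgG, t, ht, hgt⟩ δ hδ
    obtain ⟨y₀, hy₀G, hy₀⟩ := exists_induce hgen (insert δ Γ)
      (by rw [Finset.card_insert_of_notMem hδ, hΓ]) t (by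
        intro x hx
        rw [Finset.mem_insert] at hx
        rcases hx with rfl | hx
        · rw [hZ1 t ht _ (fun h => hδ (hΓ₁Γ h))]; exact Finset.mem_insert_self _ _
        · exact Finset.mem_insert_of_mem (hZ2 t ht x hx))
    have hy₀δ : y₀ δ = δ := by
      rw [hy₀ δ (Finset.mem_insert_self _ _), hZ1 t ht _ (fun h => hδ (hΓ₁Γ h))]
    have hy₀inv : y₀⁻¹ δ = δ := by rw [Equiv.Perm.inv_eq_iff_eq, hy₀δ]
    refine ⟨g * y₀⁻¹, ⟨G.mul_mem hgG (G.inv_mem hy₀G), fun γ hγ => ?_⟩, ?_⟩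
    · have hγ' : t⁻¹ γ ∈ Γ := hZ2 t⁻¹ (Subgroup.inv_mem _ ht) γ hγ
      have h1 : y₀ (t⁻¹ γ) = γ := by
        rw [hy₀ _ (Finset.mem_insert_of_mem hγ')]; simp
      have h2 : y₀⁻¹ γ = t⁻¹ γ := by rw [Equiv.Perm.inv_eq_iff_eq, h1]
      rw [Equiv.Perm.mul_apply, h2, hgt _ hγ']
      simp
    · rw [Equiv.Perm.mul_apply, hy₀inv]
  -- a p-subgroup R of M of order p^(v+1)
  set v := (Nat.card Y).factorization p with hv
  have hYpos : Nat.card Y ≠ 0 := Nat.card_pos.ne'
  have hdvdM : p ^ (v + 1) ∣ Nat.card M := by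
    rw [hMcard, pow_succ']
    exact Nat.mul_dvd_mul_left p (Nat.ordProj_dvd _ p)
  obtain ⟨R', hR'⟩ := Sylow.exists_subgroup_card_pow_prime p hdvdM
  set R := R'.map M.subtype with hR
  have hRcard : Nat.card R = p ^ (v + 1) := by
    rw [hR, Subgroup.card_map_of_injective M.subtype_injective, hR']
  have hRM : R ≤ M := by
    rw [hR]
    exact Subgroup.map_subtype_le R'
  -- fixed points of R in the orbits
  have hfixpt : ∀ i, ∃ ε ∈ orb ev Y (f i), ∀ r ∈ R, r ε = ε := by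
    intro i
    refine exists_fixed_of_not_dvd isAct_ev R hp hRcard (orb ev Y (f i)) ?_ (hcon' i)
    intro r hr w hw
    obtain ⟨y, hy, rfl⟩ := mem_orb.mp hw
    have hwΓ : ev y (f i) ∉ Γ := by
      intro h
      apply hf i
      have hyinv : y⁻¹ (y (f i)) = y (f i) := (Y.inv_mem hy).2 _ h
      have hyinv' : f i = y (f i) := by simpa using hyinv
      rw [hyinv']; exact h
    obtain ⟨y', hy', hry⟩ := hMorb r (hRM hr) _ hwΓ
    refine mem_orb.mpr ⟨y' * y, Y.mul_mem hy' hy, ?_⟩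
    change (y' * y) (f i) = r (y (f i))
    rw [Equiv.Perm.mul_apply]
    exact hry.symm
  choose ε hεorb hεfix using hfixpt
  have hεΓ : ∀ i, ε i ∉ Γ := by
    intro i h
    obtain ⟨y, hy, hyε⟩ := mem_orb.mp (hεorb i)
    apply hf i
    have h1 : y⁻¹ (ε i) = f i := by
      rw [Equiv.Perm.inv_eq_iff_eq]; exact hyε.symm
    have h2 := (Y.inv_mem hy).2 _ h
    rw [h1] at h2
    rw [h2]; exact h
  have hεinj : Function.Injective ε := by
    intro i j hij
    by_contra hne
    obtain ⟨y, hy, hyε⟩ := mem_orb.mp (hεorb i)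
    obtain ⟨y', hy', hyε'⟩ := mem_orb.mp (hεorb j)
    apply hdist' i j hne
    refine mem_orb.mpr ⟨y'⁻¹ * y, Y.mul_mem (Y.inv_mem hy') hy, ?_⟩
    change (y'⁻¹ * y) (f i) = f j
    rw [Equiv.Perm.mul_apply, Equiv.Perm.inv_eq_iff_eq]
    change y (f i) = ε i at hyε
    change y' (f j) = ε j at hyε'
    rw [hyε, hyε', hij]
  -- the new k-set
  set E : Finset α := Finset.univ.image ε with hE
  have hEcard : E.card = p := by
    rw [hE, Finset.card_image_of_injective _ hεinj, Finset.card_univ, Fintype.card_fin]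
  set Γ' : Finset α := (Γ \ Γ₁) ∪ E with hΓ'
  have hdisj : Disjoint (Γ \ Γ₁) E := by
    rw [Finset.disjoint_left]
    intro x hx hxE
    rw [hE, Finset.mem_image] at hxE
    obtain ⟨i, -, rfl⟩ := hxE
    exact hεΓ i (Finset.mem_sdiff.mp hx).1
  have hΓ'card : Γ'.card = k := by
    rw [hΓ', Finset.card_union_of_disjoint hdisj, Finset.card_sdiff_of_subset hΓ₁Γ, hΓ, hΓ₁card,
      hEcard]
    omega
  have hRfix : ∀ r ∈ R, ∀ x ∈ Γ', r x = x := by
    intro r hr x hx
    rw [hΓ', Finset.mem_union] at hx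
    rcases hx with hx | hx
    · obtain ⟨-, t, ht, hrt⟩ := hRM hr
      rw [Finset.mem_sdiff] at hx
      rw [hrt x hx.1, hZ1 t ht x hx.2]
    · rw [hE, Finset.mem_image] at hx
      obtain ⟨i, -, rfl⟩ := hx
      exact hεfix i r hr
  -- conjugate R into Y
  obtain ⟨g, hgG, hg⟩ := exists_map hgen Γ' hΓ'card _ Γ hΓ rfl
  have hle : R.map (MulAut.conj g⁻¹).toMonoidHom ≤ Y := by
    rintro _ ⟨r, hr, rfl⟩
    simp only [MulEquiv.coe_toMonoidHom, MulAut.conj_apply, inv_inv]
    refine ⟨G.mul_mem (G.mul_mem (G.inv_mem hgG) (hMG (hRM hr))) hgG, fun x hx => ?_⟩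
    rw [Equiv.Perm.mul_apply, Equiv.Perm.mul_apply, hRfix r hr _ (hg x hx)]
    simp
  have hdvd : p ^ (v + 1) ∣ Nat.card Y := by
    rw [← hRcard, ← Subgroup.card_map_of_injective (K := R) (f := (MulAut.conj g⁻¹).toMonoidHom)
      (MulAut.conj g⁻¹).injective]
    exact Subgroup.card_dvd_of_le hle
  exact Nat.pow_succ_factorization_not_dvd hYpos hp hdvd

end Cfsg.Agent.S0706
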