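import Mathlib
import Cfsg.Statements.S0708

set_option autoImplicit false
open Cfsg

namespace Cfsg.Agent.S0708

open MulAction

variable {G Ω : Type*} [Group G] [MulAction G Ω]

/-- Four pairwise distinct points. -/
def Distinct4 (a b c d : Ω) : Prop := a ≠ b ∧ a ≠ c ∧ a ≠ d ∧ b ≠ c ∧ b ≠ d ∧ c ≠ d

/-- The embedding `Fin 4 ↪ Ω` of four distinct points. -/
def emb4 (a b c d : Ω) (h : Distinct4 a b c d) : Fin 4 ↪ Ω :=
  ⟨![a, b, c, d], by
    obtain ⟨h1, h2, h3, h4, h5, h6⟩ := h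
    intro i j hij
    fin_cases i <;> fin_cases j <;> simp_all [eq_comm]⟩

/-- Elementwise form of sharp 4-transitivity. -/
structure Sharp4 (G Ω : Type*) [Group G] [MulAction G Ω] : Prop where
  trans : ∀ a b c d a' b' c' d' : Ω, Distinct4 a b c d → Distinct4 a' b' c' d' →
    ∃ g : G, g • a = a' ∧ g • b = b' ∧ g • c = c' ∧ g • d = d'
  sharp : ∀ (g : G) (a b c d : Ω), Distinct4 a b c d → g • a = a → g • b = b → g • c = c →
    g • d = d → g = 1

theorem sharp4_of (h4 : IsMultiplyPretransitive G Ω 4)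
    (hsharp : ∀ x : Fin 4 ↪ Ω, stabilizer G x = ⊥) : Sharp4 G Ω := by
  constructor
  · intro a b c d a' b' c' d' h h'
    obtain ⟨g, hg⟩ := h4.exists_smul_eq (emb4 a b c d h) (emb4 a' b' c' d' h')
    refine ⟨g, ?_, ?_, ?_, ?_⟩
    · exact congrArg (fun f : Fin 4 ↪ Ω => f 0) hg
    · exact congrArg (fun f : Fin 4 ↪ Ω => f 1) hg
    · exact congrArg (fun f : Fin 4 ↪ Ω => f 2) hg
    · exact congrArg (fun f : Fin 4 ↪ Ω => f 3) hg
  · intro g a b c d h ha hb hc hd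
    have hmem : g ∈ stabilizer G (emb4 a b c d h) := by
      rw [mem_stabilizer_iff]
      ext i
      rw [Function.Embedding.smul_apply]
      fin_cases i
      · exact ha
      · exact hb
      · exact hc
      · exact hd
    rw [hsharp] at hmem
    exact Subgroup.mem_bot.mp hmem

/-- The context: an involution `t = (p₁ p₂)(p₃ p₄)…` in a sharply 4-transitive group. -/
structure Ctx (G Ω : Type*) [Group G] [MulAction G Ω] where
  S : Sharp4 G Ω
  p₁ : Ω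
  p₂ : Ω
  p₃ : Ω
  p₄ : Ω
  hp : Distinct4 p₁ p₂ p₃ p₄
  t : G
  ht₁ : t • p₁ = p₂
  ht₂ : t • p₂ = p₁
  ht₃ : t • p₃ = p₄
  ht₄ : t • p₄ = p₃

namespace Ctx

variable (C : Ctx G Ω)

theorem tt : C.t * C.t = 1 := by
  apply C.S.sharp _ C.p₁ C.p₂ C.p₃ C.p₄ C.hp
  · rw [mul_smul, C.ht₁, C.ht₂]
  · rw [mul_smul, C.ht₂, C.ht₁]
  · rw [mul_smul, C.ht₃, C.ht₄]
  · rw [mul_smul, C.ht₄, C.ht₃]

theorem tt_smul (q : Ω) : C.t • C.t • q = q := by
  rw [← mul_smul, C.tt, one_smul]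

theorem t_inv : C.t⁻¹ = C.t := inv_eq_of_mul_eq_one_right C.tt

theorem t_ne_one : C.t ≠ 1 := by
  intro h
  have := C.ht₁
  rw [h, one_smul] at this
  exact C.hp.1 this

theorem t_inj {a b : Ω} (h : C.t • a = C.t • b) : a = b := smul_left_cancel _ h

theorem moved_t {a : Ω} (h : C.t • a ≠ a) : C.t • (C.t • a) ≠ C.t • a := by
  rw [C.tt_smul]; exact fun e => h e.symm

/-- `t` has at most three fixed points. -/
theorem fix_lt_four {a b c d : Ω} (h : Distinct4 a b c d) (ha : C.t • a = a) (hb : C.t • b = b)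
    (hc : C.t • c = c) (hd : C.t • d = d) : False :=
  C.t_ne_one (C.S.sharp _ a b c d h ha hb hc hd)

theorem distinct_cycles {x y : Ω} (hx : C.t • x ≠ x) (hy : C.t • y ≠ y) (hyx : y ≠ x)
    (hyx' : y ≠ C.t • x) : Distinct4 x (C.t • x) y (C.t • y) := by
  refine ⟨fun e => hx e.symm, fun e => hyx e.symm, ?_, fun e => hyx' e.symm, ?_, fun e => hy e.symm⟩
  · intro e
    apply hyx'
    rw [e, C.tt_smul]
  · intro e
    exact hyx (C.t_inj e).symm

end Ctx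

/-- The element `z = (x tx)(y)(ty)…` attached to two distinct 2-cycles of `t`. -/
structure ZPack (C : Ctx G Ω) (x y : Ω) where
  hx : C.t • x ≠ x
  hy : C.t • y ≠ y
  hyx : y ≠ x
  hyx' : y ≠ C.t • x
  z : G
  zx : z • x = C.t • x
  ztx : z • (C.t • x) = x
  zy : z • y = y
  zty : z • (C.t • y) = C.t • y
  zz : z * z = 1
  zt : z * C.t = C.t * z

theorem exists_zpack (C : Ctx G Ω) {x y : Ω} (hx : C.t • x ≠ x) (hy : C.t • y ≠ y) (hyx : y ≠ x)
    (hyx' : y ≠ C.t • x) : Nonempty (ZPack C x y) := by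
  have hd := C.distinct_cycles hx hy hyx hyx'
  obtain ⟨z, h1, h2, h3, h4⟩ := C.S.trans x (C.t • x) y (C.t • y) (C.t • x) x y (C.t • y) hd
    ⟨hd.1.symm, hd.2.2.2.1, hd.2.2.2.2.1, hd.2.1, hd.2.2.1, hd.2.2.2.2.2⟩
  have hzz : z * z = 1 := by
    apply C.S.sharp _ _ _ _ _ hd
    · rw [mul_smul, h1, h2]
    · rw [mul_smul, h2, h1]
    · rw [mul_smul, h3, h3]
    · rw [mul_smul, h4, h4]
  have hc : z * C.t * z * C.t = 1 := by
    apply C.S.sharp _ _ _ _ _ hd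
    · rw [mul_smul, mul_smul, mul_smul, h2, h2]
    · rw [mul_smul, mul_smul, mul_smul, C.tt_smul, h1, C.tt_smul, h1]
    · rw [mul_smul, mul_smul, mul_smul, h4, C.tt_smul, h3]
    · rw [mul_smul, mul_smul, mul_smul, C.tt_smul, h3, h4]
  have hzt : z * C.t = C.t * z := by
    have h5 : z * C.t = (z * C.t)⁻¹ := by
      rw [eq_inv_iff_mul_eq_one, ← mul_assoc]; exact hc
    rw [h5, mul_inv_rev, C.t_inv, inv_eq_of_mul_eq_one_right hzz]
  exact ⟨⟨hx, hy, hyx, hyx', z, h1, h2, h3, h4, hzz, hzt⟩⟩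

namespace ZPack

variable {C : Ctx G Ω} {x y : Ω} (Z : ZPack C x y)

theorem zz_smul (q : Ω) : Z.z • Z.z • q = q := by
  rw [← mul_smul, Z.zz, one_smul]

theorem zt_smul (q : Ω) : Z.z • C.t • q = C.t • Z.z • q := by
  rw [← mul_smul, Z.zt, mul_smul]

theorem z_ne_one : Z.z ≠ 1 := by
  intro h
  have := Z.zx
  rw [h, one_smul] at this
  exact Z.hx this.symm

/-- `z` preserves the fixed points of `t`. -/
theorem z_fix {q : Ω} (hq : C.t • q = q) : C.t • Z.z • q = Z.z • q := by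
  rw [← Z.zt_smul, hq]

/-- (a) `z` moves every other 2-cycle of `t` to a different 2-cycle. -/
theorem z_moves {m : Ω} (hm : C.t • m ≠ m) (hmx : m ≠ x) (hmx' : m ≠ C.t • x) (hmy : m ≠ y)
    (hmy' : m ≠ C.t • y) : Z.z • m ≠ m ∧ Z.z • m ≠ C.t • m := by
  constructor
  · intro h
    apply Z.z_ne_one
    apply C.S.sharp _ y (C.t • y) m (C.t • m) (C.distinct_cycles Z.hy hm hmy hmy') Z.zy Z.zty h
    rw [Z.zt_smul, h]
  · intro h
    have h1 : Z.z * C.t = 1 := by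
      apply C.S.sharp _ x (C.t • x) m (C.t • m) (C.distinct_cycles Z.hx hm hmx hmx')
      · rw [mul_smul, Z.ztx]
      · rw [mul_smul, C.tt_smul, Z.zx]
      · rw [mul_smul, Z.zt_smul, h, C.tt_smul]
      · rw [mul_smul, C.tt_smul, h]
    have h2 : Z.z = C.t := by
      rw [← C.t_inv]; exact eq_inv_of_mul_eq_one_left h1
    have h3 := Z.zy
    rw [h2] at h3
    exact Z.hy h3

/-- (b) With a third 2-cycle available, `z` is conjugate to `t`. -/
theorem exists_conj {m : Ω} (hm : C.t • m ≠ m) (hmx : m ≠ x) (hmx' : m ≠ C.t • x) (hmy : m ≠ y)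
    (hmy' : m ≠ C.t • y) : ∃ g : G, ∀ q : Ω, Z.z • q = q ↔ C.t • (g • q) = g • q := by
  obtain ⟨hzm, hzm'⟩ := Z.z_moves hm hmx hmx' hmy hmy'
  have hd : Distinct4 x (C.t • x) m (Z.z • m) := by
    refine ⟨fun e => Z.hx e.symm, fun e => hmx e.symm, ?_, fun e => hmx' e.symm, ?_,
      fun e => hzm e.symm⟩
    · intro e
      apply hmx'
      have h := congrArg (fun q => Z.z • q) e
      simp only [Z.zz_smul, Z.zx] at h
      exact h.symm
    · intro e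
      apply hmx
      have h := congrArg (fun q => Z.z • q) e
      simp only [Z.zz_smul, Z.ztx] at h
      exact h.symm
  obtain ⟨g, h1, h2, h3, h4⟩ := C.S.trans _ _ _ _ C.p₁ C.p₂ C.p₃ C.p₄ hd C.hp
  have hg1 : g⁻¹ • C.p₁ = x := by rw [inv_smul_eq_iff, h1]
  have hg2 : g⁻¹ • C.p₂ = C.t • x := by rw [inv_smul_eq_iff, h2]
  have hg3 : g⁻¹ • C.p₃ = m := by rw [inv_smul_eq_iff, h3]
  have hg4 : g⁻¹ • C.p₄ = Z.z • m := by rw [inv_smul_eq_iff, h4]
  have hc : C.t * (g * Z.z * g⁻¹) = 1 := by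
    apply C.S.sharp _ _ _ _ _ C.hp
    · rw [mul_smul, mul_smul, mul_smul, hg1, Z.zx, h2, C.ht₂]
    · rw [mul_smul, mul_smul, mul_smul, hg2, Z.ztx, h1, C.ht₁]
    · rw [mul_smul, mul_smul, mul_smul, hg3, h4, C.ht₄]
    · rw [mul_smul, mul_smul, mul_smul, hg4, Z.zz_smul, h3, C.ht₃]
  have hconj : g * Z.z * g⁻¹ = C.t := by
    rw [← C.t_inv]; exact eq_inv_of_mul_eq_one_right hc
  refine ⟨g, fun q => ⟨fun h => ?_, fun h => ?_⟩⟩
  · rw [← hconj, mul_smul, mul_smul, inv_smul_smul, h]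
  · rw [← hconj, mul_smul, mul_smul, inv_smul_smul] at h
    exact smul_left_cancel g h

/-- `z` fixes at most one fixed point of `t`. -/
theorem fix_unique {r r' : Ω} (hr : C.t • r = r) (hr' : C.t • r' = r') (hzr : Z.z • r = r)
    (hzr' : Z.z • r' = r') : r = r' := by
  by_contra hne
  apply Z.z_ne_one
  have h1 : ∀ {q : Ω}, C.t • q = q → y ≠ q := fun hq e => Z.hy (e ▸ hq)
  have h2 : ∀ {q : Ω}, C.t • q = q → C.t • y ≠ q := fun {q} hq e => by
    apply Z.hy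
    have h3 : C.t • (C.t • y) = C.t • y := by rw [e]; exact hq
    rw [C.tt_smul] at h3
    exact h3.symm
  exact C.S.sharp _ y (C.t • y) r r'
    ⟨fun e => Z.hy e.symm, h1 hr, h1 hr', h2 hr, h2 hr', hne⟩ Z.zy Z.zty hzr hzr'

end ZPack


/-- Collision: two `z`'s (for distinct further cycles) agreeing on the fixed points of `t`. -/
theorem collision {C : Ctx G Ω} {x y y' : Ω} (Z : ZPack C x y) (Z' : ZPack C x y')
    (hy'y : y' ≠ y) (hy'ty : y' ≠ C.t • y) {u v : Ω} (hu : C.t • u = u) (hv : C.t • v = v)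
    (huv : u ≠ v) (hagree : ∀ q : Ω, C.t • q = q → Z.z • q = Z'.z • q) : False := by
  have hw : Z.z * Z'.z = 1 := by
    have h1 : ∀ {q : Ω}, C.t • q = q → x ≠ q := fun hq e => Z.hx (e ▸ hq)
    have h2 : ∀ {q : Ω}, C.t • q = q → C.t • x ≠ q := fun {q} hq e => by
      apply Z.hx
      have h3 : C.t • (C.t • x) = C.t • x := by rw [e]; exact hq
      rw [C.tt_smul] at h3
      exact h3.symm
    apply C.S.sharp _ x (C.t • x) u v
      ⟨fun e => Z.hx e.symm, h1 hu, h1 hv, h2 hu, h2 hv, huv⟩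
    · rw [mul_smul, Z'.zx, Z.ztx]
    · rw [mul_smul, Z'.ztx, Z.zx]
    · rw [mul_smul, ← hagree u hu, Z.zz_smul]
    · rw [mul_smul, ← hagree v hv, Z.zz_smul]
  have h3 : Z'.z = Z.z := by
    have h4 : Z'.z = Z.z⁻¹ := eq_inv_of_mul_eq_one_right hw
    rw [h4]; exact inv_eq_of_mul_eq_one_right Z.zz
  have h5 := (Z.z_moves Z'.hy Z'.hyx Z'.hyx' hy'y hy'ty).1
  apply h5
  rw [← h3]; exact Z'.zy

/-- Two distinct fixed points of `t`, once three 2-cycles exist. -/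
theorem exists_two_fixed {C : Ctx G Ω} {x y : Ω} (Z : ZPack C x y) {m : Ω} (hm : C.t • m ≠ m)
    (hmx : m ≠ x) (hmx' : m ≠ C.t • x) (hmy : m ≠ y) (hmy' : m ≠ C.t • y) :
    ∃ u v : Ω, C.t • u = u ∧ C.t • v = v ∧ u ≠ v := by
  obtain ⟨g, hg⟩ := Z.exists_conj hm hmx hmx' hmy hmy'
  refine ⟨g • y, g • (C.t • y), (hg y).mp Z.zy, (hg _).mp Z.zty, ?_⟩
  intro e
  exact Z.hy (smul_left_cancel g e).symm

/-- Case A: no fixed point of `t` is fixed by `z`. -/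
theorem no_fixed_of_caseA {C : Ctx G Ω} {x y : Ω} (Z : ZPack C x y) {m : Ω} (hm : C.t • m ≠ m)
    (hmx : m ≠ x) (hmx' : m ≠ C.t • x) (hmy : m ≠ y) (hmy' : m ≠ C.t • y)
    (hA : ∀ a b c : Ω, C.t • a = a → C.t • b = b → C.t • c = c → a = b ∨ a = c ∨ b = c)
    {r : Ω} (hr : C.t • r = r) : Z.z • r ≠ r := by
  intro hzr
  obtain ⟨g, hg⟩ := Z.exists_conj hm hmx hmx' hmy hmy'
  have hry : r ≠ y := fun e => Z.hy (e ▸ hr)
  have hrty : r ≠ C.t • y := by
    intro e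
    apply Z.hy
    have h3 : C.t • (C.t • y) = C.t • y := by rw [← e]; exact hr
    rw [C.tt_smul] at h3
    exact h3.symm
  rcases hA (g • r) (g • y) (g • (C.t • y)) ((hg r).mp hzr) ((hg y).mp Z.zy) ((hg _).mp Z.zty)
    with e | e | e
  · exact hry (smul_left_cancel g e)
  · exact hrty (smul_left_cancel g e)
  · exact Z.hy (smul_left_cancel g e).symm

/-- Case B: some fixed point of `t` is fixed by `z`. -/
theorem exists_fixed_of_caseB {C : Ctx G Ω} {x y : Ω} (Z : ZPack C x y) {m : Ω}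
    (hm : C.t • m ≠ m) (hmx : m ≠ x) (hmx' : m ≠ C.t • x) (hmy : m ≠ y) (hmy' : m ≠ C.t • y)
    {a b c : Ω} (ha : C.t • a = a) (hb : C.t • b = b) (hc : C.t • c = c) (hab : a ≠ b)
    (hac : a ≠ c) (hbc : b ≠ c) : ∃ r : Ω, C.t • r = r ∧ Z.z • r = r := by
  obtain ⟨g, hg⟩ := Z.exists_conj hm hmx hmx' hmy hmy'
  -- some `s ∈ {a, b, c}` differs from `g • y` and `g • t • y`
  obtain ⟨s, hs, hsy, hsty⟩ : ∃ s : Ω, C.t • s = s ∧ s ≠ g • y ∧ s ≠ g • (C.t • y) := by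
    by_cases h1 : a ≠ g • y ∧ a ≠ g • (C.t • y)
    · exact ⟨a, ha, h1.1, h1.2⟩
    by_cases h2 : b ≠ g • y ∧ b ≠ g • (C.t • y)
    · exact ⟨b, hb, h2.1, h2.2⟩
    by_cases h3 : c ≠ g • y ∧ c ≠ g • (C.t • y)
    · exact ⟨c, hc, h3.1, h3.2⟩
    exfalso
    rw [not_and_or, not_not, not_not] at h1 h2 h3
    rcases h1 with h1 | h1 <;> rcases h2 with h2 | h2 <;> rcases h3 with h3 | h3
    · exact hab (h1.trans h2.symm)
    · exact hab (h1.trans h2.symm)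
    · exact hac (h1.trans h3.symm)
    · exact hbc (h2.trans h3.symm)
    · exact hbc (h2.trans h3.symm)
    · exact hac (h1.trans h3.symm)
    · exact hab (h1.trans h2.symm)
    · exact hab (h1.trans h2.symm)
  have hzr : Z.z • (g⁻¹ • s) = g⁻¹ • s := by
    rw [hg, smul_inv_smul]; exact hs
  refine ⟨g⁻¹ • s, ?_, hzr⟩
  by_contra hmoved
  have h1 : g⁻¹ • s ≠ x := fun e => by
    rw [e, Z.zx] at hzr; exact Z.hx hzr
  have h2 : g⁻¹ • s ≠ C.t • x := fun e => by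
    rw [e, Z.ztx] at hzr; exact Z.hx hzr.symm
  have h3 : g⁻¹ • s ≠ y := fun e => hsy (by rw [← e, smul_inv_smul])
  have h4 : g⁻¹ • s ≠ C.t • y := fun e => hsty (by rw [← e, smul_inv_smul])
  exact (Z.z_moves hmoved h1 h2 h3 h4).1 hzr

/-- Pair lemma for case B: two `z`'s cannot fix the same fixed point of `t`. -/
theorem pair_caseB {C : Ctx G Ω} {x y y' : Ω} (Z : ZPack C x y) (Z' : ZPack C x y')
    (hy'y : y' ≠ y) (hy'ty : y' ≠ C.t • y) {r : Ω} (hr : C.t • r = r) (hzr : Z.z • r = r)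
    (hz'r : Z'.z • r = r) : False := by
  obtain ⟨u, v, hu, hv, huv⟩ := exists_two_fixed Z Z'.hy Z'.hyx Z'.hyx' hy'y hy'ty
  refine collision Z Z' hy'y hy'ty hu hv huv (fun q hq => ?_)
  by_cases hqr : q = r
  · rw [hqr, hzr, hz'r]
  by_contra hne
  have h1 : Z.z • q ≠ q := fun e => hqr (Z.fix_unique hq hr e hzr)
  have h2 : Z'.z • q ≠ q := fun e => hqr (Z'.fix_unique hq hr e hz'r)
  have h3 : Z.z • q ≠ r := fun e => hqr (by rw [← Z.zz_smul q, e, hzr])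
  have h4 : Z'.z • q ≠ r := fun e => hqr (by rw [← Z'.zz_smul q, e, hz'r])
  exact C.fix_lt_four (a := r) (b := q) (c := Z.z • q) (d := Z'.z • q)
    ⟨fun e => hqr e.symm, fun e => h3 e.symm, fun e => h4 e.symm, fun e => h1 e.symm,
      fun e => h2 e.symm, hne⟩ hr hq (Z.z_fix hq) (Z'.z_fix hq)


/-- `q` lies in a 2-cycle of `t` other than that of `x`. -/
abbrev Other (C : Ctx G Ω) (x q : Ω) : Prop := C.t • q ≠ q ∧ q ≠ x ∧ q ≠ C.t • x

theorem dc_symm (C : Ctx G Ω) {y y' : Ω} (h : y' ≠ y) (h' : y' ≠ C.t • y) :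
    y ≠ y' ∧ y ≠ C.t • y' := by
  refine ⟨h.symm, fun e => h' ?_⟩
  rw [e, C.tt_smul]

theorem caseA_false (C : Ctx G Ω) {x : Ω} (hx : C.t • x ≠ x) {y₁ y₂ : Ω} (h₁ : Other C x y₁)
    (h₂ : Other C x y₂) (h21 : y₂ ≠ y₁) (h21' : y₂ ≠ C.t • y₁)
    (hA : ∀ a b c : Ω, C.t • a = a → C.t • b = b → C.t • c = c → a = b ∨ a = c ∨ b = c) :
    False := by
  obtain ⟨Z₁⟩ := exists_zpack C hx h₁.1 h₁.2.1 h₁.2.2
  obtain ⟨Z₂⟩ := exists_zpack C hx h₂.1 h₂.2.1 h₂.2.2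
  obtain ⟨h12, h12'⟩ := dc_symm C h21 h21'
  obtain ⟨u, v, hu, hv, huv⟩ := exists_two_fixed Z₁ h₂.1 h₂.2.1 h₂.2.2 h21 h21'
  have huv_all : ∀ q : Ω, C.t • q = q → q = u ∨ q = v := by
    intro q hq
    rcases hA q u v hq hu hv with e | e | e
    · exact Or.inl e
    · exact Or.inr e
    · exact absurd e huv
  have n1 : ∀ {q : Ω}, C.t • q = q → Z₁.z • q ≠ q := fun hq =>
    no_fixed_of_caseA Z₁ h₂.1 h₂.2.1 h₂.2.2 h21 h21' hA hq
  have n2 : ∀ {q : Ω}, C.t • q = q → Z₂.z • q ≠ q := fun hq =>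
    no_fixed_of_caseA Z₂ h₁.1 h₁.2.1 h₁.2.2 h12 h12' hA hq
  have s1u : Z₁.z • u = v := (huv_all _ (Z₁.z_fix hu)).resolve_left (n1 hu)
  have s2u : Z₂.z • u = v := (huv_all _ (Z₂.z_fix hu)).resolve_left (n2 hu)
  have s1v : Z₁.z • v = u := (huv_all _ (Z₁.z_fix hv)).resolve_right (n1 hv)
  have s2v : Z₂.z • v = u := (huv_all _ (Z₂.z_fix hv)).resolve_right (n2 hv)
  refine collision Z₁ Z₂ h21 h21' hu hv huv (fun q hq => ?_)
  rcases huv_all q hq with e | e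
  · rw [e, s1u, s2u]
  · rw [e, s1v, s2v]

theorem caseB_false (C : Ctx G Ω) {x : Ω} (hx : C.t • x ≠ x) {y₁ y₂ y₃ y₄ : Ω}
    (h₁ : Other C x y₁) (h₂ : Other C x y₂) (h₃ : Other C x y₃) (h₄ : Other C x y₄)
    (h21 : y₂ ≠ y₁ ∧ y₂ ≠ C.t • y₁) (h31 : y₃ ≠ y₁ ∧ y₃ ≠ C.t • y₁)
    (h41 : y₄ ≠ y₁ ∧ y₄ ≠ C.t • y₁) (h32 : y₃ ≠ y₂ ∧ y₃ ≠ C.t • y₂)
    (h42 : y₄ ≠ y₂ ∧ y₄ ≠ C.t • y₂) (h43 : y₄ ≠ y₃ ∧ y₄ ≠ C.t • y₃)
    {a b c : Ω} (ha : C.t • a = a) (hb : C.t • b = b) (hc : C.t • c = c) (hab : a ≠ b)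
    (hac : a ≠ c) (hbc : b ≠ c) : False := by
  obtain ⟨Z₁⟩ := exists_zpack C hx h₁.1 h₁.2.1 h₁.2.2
  obtain ⟨Z₂⟩ := exists_zpack C hx h₂.1 h₂.2.1 h₂.2.2
  obtain ⟨Z₃⟩ := exists_zpack C hx h₃.1 h₃.2.1 h₃.2.2
  obtain ⟨Z₄⟩ := exists_zpack C hx h₄.1 h₄.2.1 h₄.2.2
  have h12 := dc_symm C h21.1 h21.2
  have h13 := dc_symm C h31.1 h31.2
  have h14 := dc_symm C h41.1 h41.2
  obtain ⟨r₁, hr₁, hz₁⟩ := exists_fixed_of_caseB Z₁ h₂.1 h₂.2.1 h₂.2.2 h21.1 h21.2 ha hb hc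
    hab hac hbc
  obtain ⟨r₂, hr₂, hz₂⟩ := exists_fixed_of_caseB Z₂ h₁.1 h₁.2.1 h₁.2.2 h12.1 h12.2 ha hb hc
    hab hac hbc
  obtain ⟨r₃, hr₃, hz₃⟩ := exists_fixed_of_caseB Z₃ h₁.1 h₁.2.1 h₁.2.2 h13.1 h13.2 ha hb hc
    hab hac hbc
  obtain ⟨r₄, hr₄, hz₄⟩ := exists_fixed_of_caseB Z₄ h₁.1 h₁.2.1 h₁.2.2 h14.1 h14.2 ha hb hc
    hab hac hbc
  by_cases e12 : r₁ = r₂
  · exact pair_caseB Z₁ Z₂ h21.1 h21.2 hr₁ hz₁ (e12 ▸ hz₂)
  by_cases e13 : r₁ = r₃
  · exact pair_caseB Z₁ Z₃ h31.1 h31.2 hr₁ hz₁ (e13 ▸ hz₃)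
  by_cases e14 : r₁ = r₄
  · exact pair_caseB Z₁ Z₄ h41.1 h41.2 hr₁ hz₁ (e14 ▸ hz₄)
  by_cases e23 : r₂ = r₃
  · exact pair_caseB Z₂ Z₃ h32.1 h32.2 hr₂ hz₂ (e23 ▸ hz₃)
  by_cases e24 : r₂ = r₄
  · exact pair_caseB Z₂ Z₄ h42.1 h42.2 hr₂ hz₂ (e24 ▸ hz₄)
  by_cases e34 : r₃ = r₄
  · exact pair_caseB Z₃ Z₄ h43.1 h43.2 hr₃ hz₃ (e34 ▸ hz₄)
  exact C.fix_lt_four ⟨e12, e13, e14, e23, e24, e34⟩ hr₁ hr₂ hr₃ hr₄

theorem finite_of_finset_bound (N : ℕ) (h : ∀ S : Finset Ω, S.card ≤ N) :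
    Finite Ω ∧ Nat.card Ω ≤ N := by
  have hfin : Finite Ω := by
    by_contra hinf
    rw [not_finite_iff_infinite] at hinf
    obtain ⟨S, hS⟩ := Infinite.exists_subset_card_eq Ω (N + 1)
    have := h S
    omega
  refine ⟨hfin, ?_⟩
  have := Fintype.ofFinite Ω
  rw [Nat.card_eq_fintype_card, ← Finset.card_univ]
  exact h _

theorem pick_one [DecidableEq Ω] (C : Ctx G Ω) (T : Finset Ω) (hT : 1 ≤ T.card) :
    ∃ y ∈ T, ∃ T' : Finset Ω, T' ⊆ T ∧ T.card ≤ T'.card + 2 ∧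
      ∀ q ∈ T', q ≠ y ∧ q ≠ C.t • y := by
  obtain ⟨y, hy⟩ := Finset.card_pos.mp hT
  refine ⟨y, hy, (T.erase y).erase (C.t • y),
    (Finset.erase_subset _ _).trans (Finset.erase_subset _ _), ?_, ?_⟩
  · have h1 := Finset.card_erase_of_mem hy
    have h2 := Finset.pred_card_le_card_erase (s := T.erase y) (a := C.t • y)
    omega
  · intro q hq
    rw [Finset.mem_erase, Finset.mem_erase] at hq
    exact ⟨hq.2.1, hq.1⟩

theorem exists_four_of_card [DecidableEq Ω] (F : Finset Ω) (h : 4 ≤ F.card) :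
    ∃ a ∈ F, ∃ b ∈ F, ∃ c ∈ F, ∃ d ∈ F, Distinct4 a b c d := by
  obtain ⟨F', hF', hc⟩ := Finset.exists_subset_card_eq h
  obtain ⟨a, F'', haF'', rfl, hc''⟩ := Finset.card_eq_succ.mp hc
  obtain ⟨b, c, d, hbc, hbd, hcd, rfl⟩ := Finset.card_eq_three.mp hc''
  simp only [Finset.mem_insert, Finset.mem_singleton, not_or] at haF''
  refine ⟨a, hF' (by simp), b, hF' (by simp), c, hF' (by simp), d, hF' (by simp),
    haF''.1, haF''.2.1, haF''.2.2, hbc, hbd, hcd⟩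

/-- Counting: many points give many points in other cycles. -/
theorem card_other [DecidableEq Ω] (C : Ctx G Ω) (x : Ω) (S : Finset Ω) (k : ℕ)
    (hF : (S.filter (fun q => C.t • q = q)).card ≤ k) :
    S.card ≤ (S.filter (fun q => Other C x q)).card + k + 2 := by
  classical
  have hcover : S ⊆ (S.filter (fun q => Other C x q)) ∪ (S.filter (fun q => C.t • q = q)) ∪
      {x, C.t • x} := by
    intro q hq
    by_cases h1 : C.t • q = q
    · exact Finset.mem_union_left _ (Finset.mem_union_right _ (Finset.mem_filter.mpr ⟨hq, h1⟩))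
    by_cases h2 : q = x
    · exact Finset.mem_union_right _ (by simp [h2])
    by_cases h3 : q = C.t • x
    · exact Finset.mem_union_right _ (by simp [h3])
    · exact Finset.mem_union_left _ (Finset.mem_union_left _
        (Finset.mem_filter.mpr ⟨hq, h1, h2, h3⟩))
  have h1 := Finset.card_le_card hcover
  have h2 := Finset.card_union_le ((S.filter (fun q => Other C x q)) ∪
    (S.filter (fun q => C.t • q = q))) {x, C.t • x}
  have h3 := Finset.card_union_le (S.filter (fun q => Other C x q))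
    (S.filter (fun q => C.t • q = q))
  have h4 : ({x, C.t • x} : Finset Ω).card ≤ 2 := Finset.card_le_two
  omega

/-- Tits' argument: a sharply 4-transitive group (no finiteness assumed) has finite degree at most 11, and at most 6 when the degree is even. -/
theorem result {G : Type*} [Group G] {Ω : Type*} [MulAction G Ω] (h4 : MulAction.IsMultiplyPretransitive G Ω 4) (hsharp : ∀ x : Fin 4 ↪ Ω, MulAction.stabilizer G x = ⊥) (hne : Nonempty (Fin 4 ↪ Ω)) : Finite Ω ∧ Nat.card Ω ≤ 11 ∧ (Even (Nat.card Ω) → Nat.card Ω ≤ 6) := by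
  classical
  obtain ⟨e⟩ := hne
  have S4 := sharp4_of h4 hsharp
  have hinj : ∀ i j : Fin 4, i ≠ j → e i ≠ e j := fun i j hij h => hij (e.injective h)
  have hp : Distinct4 (e 0) (e 1) (e 2) (e 3) :=
    ⟨hinj _ _ (by decide), hinj _ _ (by decide), hinj _ _ (by decide), hinj _ _ (by decide),
      hinj _ _ (by decide), hinj _ _ (by decide)⟩
  obtain ⟨t, ht₁, ht₂, ht₃, ht₄⟩ := S4.trans (e 0) (e 1) (e 2) (e 3) (e 1) (e 0) (e 3) (e 2) hp
    ⟨hp.1.symm, hp.2.2.2.2.1, hp.2.2.2.1, hp.2.2.1, hp.2.1, hp.2.2.2.2.2.symm⟩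
  let C : Ctx G Ω := ⟨S4, e 0, e 1, e 2, e 3, hp, t, ht₁, ht₂, ht₃, ht₄⟩
  have hx : C.t • (e 0) ≠ e 0 := by
    show t • (e 0) ≠ e 0
    rw [ht₁]; exact hp.1.symm
  by_cases hB : ∃ a b c : Ω, C.t • a = a ∧ C.t • b = b ∧ C.t • c = c ∧ a ≠ b ∧ a ≠ c ∧ b ≠ c
  · obtain ⟨a, b, c, ha, hb, hc, hab, hac, hbc⟩ := hB
    have hbound : ∀ S : Finset Ω, S.card ≤ 11 := by
      intro S
      by_contra hS
      have hF : (S.filter (fun q => C.t • q = q)).card ≤ 3 := by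
        by_contra hF4
        obtain ⟨a', ha', b', hb', c', hc', d', hd', hdist⟩ := exists_four_of_card _
          (by omega : 4 ≤ (S.filter (fun q => C.t • q = q)).card)
        exact C.fix_lt_four hdist (Finset.mem_filter.mp ha').2 (Finset.mem_filter.mp hb').2
          (Finset.mem_filter.mp hc').2 (Finset.mem_filter.mp hd').2
      have hT₀ := card_other C (e 0) S 3 hF
      obtain ⟨y₁, hy₁, T₁, hT₁, hc₁, hq₁⟩ := pick_one C (S.filter (fun q => Other C (e 0) q))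
        (by omega)
      obtain ⟨y₂, hy₂, T₂, hT₂, hc₂, hq₂⟩ := pick_one C T₁ (by omega)
      obtain ⟨y₃, hy₃, T₃, hT₃, hc₃, hq₃⟩ := pick_one C T₂ (by omega)
      obtain ⟨y₄, hy₄, T₄, hT₄, hc₄, hq₄⟩ := pick_one C T₃ (by omega)
      exact caseB_false C hx (Finset.mem_filter.mp hy₁).2
        (Finset.mem_filter.mp (hT₁ hy₂)).2 (Finset.mem_filter.mp (hT₁ (hT₂ hy₃))).2
        (Finset.mem_filter.mp (hT₁ (hT₂ (hT₃ hy₄)))).2
        (hq₁ y₂ hy₂) (hq₁ y₃ (hT₂ hy₃)) (hq₁ y₄ (hT₂ (hT₃ hy₄))) (hq₂ y₃ hy₃)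
        (hq₂ y₄ (hT₃ hy₄)) (hq₃ y₄ hy₄) ha hb hc hab hac hbc
    obtain ⟨hfin, hcard⟩ := finite_of_finset_bound 11 hbound
    refine ⟨hfin, hcard, fun heven => ?_⟩
    exfalso
    have := Fintype.ofFinite Ω
    have : Fact (Nat.Prime 2) := ⟨Nat.prime_two⟩
    have hσ : (MulAction.toPerm C.t : Equiv.Perm Ω) ^ 2 ^ 1 = 1 := by
      ext q
      simp only [pow_one, pow_two, Equiv.Perm.coe_mul, Function.comp_apply,
        MulAction.toPerm_apply, Equiv.Perm.coe_one, id_eq]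
      exact C.tt_smul q
    have hmod := Equiv.Perm.card_compl_support_modEq hσ
    have hsupp : (MulAction.toPerm C.t : Equiv.Perm Ω).supportᶜ = {a, b, c} := by
      ext q
      simp only [Finset.mem_compl, Equiv.Perm.mem_support, MulAction.toPerm_apply, not_not,
        Finset.mem_insert, Finset.mem_singleton]
      constructor
      · intro hq
        by_contra hne
        rw [not_or, not_or] at hne
        exact C.fix_lt_four ⟨hab, hac, fun e => hne.1 e.symm, hbc, fun e => hne.2.1 e.symm,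
          fun e => hne.2.2 e.symm⟩ ha hb hc hq
      · rintro (rfl | rfl | rfl) <;> assumption
    have h3 : ({a, b, c} : Finset Ω).card = 3 := Finset.card_eq_three.mpr
      ⟨a, b, c, hab, hac, hbc, rfl⟩
    rw [hsupp, h3, ← Nat.card_eq_fintype_card] at hmod
    obtain ⟨k, hk⟩ := heven
    rw [hk] at hmod
    have := hmod.symm
    unfold Nat.ModEq at this
    omega
  · have hA : ∀ a b c : Ω, C.t • a = a → C.t • b = b → C.t • c = c → a = b ∨ a = c ∨ b = c := by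
      intro a b c ha hb hc
      by_contra hne
      rw [not_or, not_or] at hne
      exact hB ⟨a, b, c, ha, hb, hc, hne.1, hne.2.1, hne.2.2⟩
    have hbound : ∀ S : Finset Ω, S.card ≤ 7 := by
      intro S
      by_contra hS
      have hF : (S.filter (fun q => C.t • q = q)).card ≤ 2 := by
        by_contra hF3
        obtain ⟨a', b', c', ha', hb', hc', hab', hac', hbc'⟩ := Finset.two_lt_card_iff.mp
          (by omega : 2 < (S.filter (fun q => C.t • q = q)).card)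
        rcases hA a' b' c' (Finset.mem_filter.mp ha').2 (Finset.mem_filter.mp hb').2
          (Finset.mem_filter.mp hc').2 with h | h | h
        · exact hab' h
        · exact hac' h
        · exact hbc' h
      have hT₀ := card_other C (e 0) S 2 hF
      obtain ⟨y₁, hy₁, T₁, hT₁, hc₁, hq₁⟩ := pick_one C (S.filter (fun q => Other C (e 0) q))
        (by omega)
      obtain ⟨y₂, hy₂, T₂, hT₂, hc₂, hq₂⟩ := pick_one C T₁ (by omega)
      exact caseA_false C hx (Finset.mem_filter.mp hy₁).2 (Finset.mem_filter.mp (hT₁ hy₂)).2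
        (hq₁ y₂ hy₂).1 (hq₁ y₂ hy₂).2 hA
    obtain ⟨hfin, hcard⟩ := finite_of_finset_bound 7 hbound
    refine ⟨hfin, by omega, fun heven => ?_⟩
    obtain ⟨k, hk⟩ := heven
    omega

end Cfsg.Agent.S0708
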