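import Cfsg.Statements.S0709
import Cfsg.Agent.S0698
-- import your own Cfsg.Agent.* helpers here

set_option autoImplicit false
open Cfsg

namespace Cfsg.Agent.S0709

open MulAction

/-! ### Abstract double coset lemma -/

/-- The set `W ∪ W s W`. -/
def dcSet {P : Type*} [Group P] (W : Subgroup P) (s : P) : Set P :=
  {x | x ∈ W ∨ ∃ a ∈ W, ∃ b ∈ W, x = a * s * b}

theorem dcSet_left {P : Type*} [Group P] {W : Subgroup P} {s : P} {w x : P} (hw : w ∈ W)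
    (hx : x ∈ dcSet W s) : w * x ∈ dcSet W s := by
  rcases hx with hx | ⟨a, ha, b, hb, rfl⟩
  · exact Or.inl (W.mul_mem hw hx)
  · exact Or.inr ⟨w * a, W.mul_mem hw ha, b, hb, by group⟩

theorem dcSet_right {P : Type*} [Group P] {W : Subgroup P} {s : P} {w x : P} (hw : w ∈ W)
    (hx : x ∈ dcSet W s) : x * w ∈ dcSet W s := by
  rcases hx with hx | ⟨a, ha, b, hb, rfl⟩
  · exact Or.inl (W.mul_mem hx hw)
  · exact Or.inr ⟨a, ha, b * w, W.mul_mem hb hw, by group⟩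

/-- If `s² ∈ W` and `s W s ⊆ W ∪ W s W` then `W ∪ W s W` is a subgroup. -/
def dcSubgroup {P : Type*} [Group P] (W : Subgroup P) (s : P) (hs2 : s ^ 2 ∈ W)
    (hkey : ∀ x ∈ W, s * x * s ∈ dcSet W s) : Subgroup P where
  carrier := dcSet W s
  one_mem' := Or.inl W.one_mem
  mul_mem' := by
    intro x y hx hy
    rcases hx with hx | ⟨a, ha, b, hb, rfl⟩
    · exact dcSet_left hx hy
    rcases hy with hy | ⟨c, hc, d, hd, rfl⟩
    · exact dcSet_right hy (Or.inr ⟨a, ha, b, hb, rfl⟩)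
    have h1 := hkey (b * c) (W.mul_mem hb hc)
    have h2 := dcSet_right hd (dcSet_left ha h1)
    have : a * s * b * (c * s * d) = a * (s * (b * c) * s) * d := by group
    rw [this]
    exact h2
  inv_mem' := by
    intro x hx
    rcases hx with hx | ⟨a, ha, b, hb, rfl⟩
    · exact Or.inl (W.inv_mem hx)
    · refine Or.inr ⟨b⁻¹, W.inv_mem hb, (s ^ 2)⁻¹ * a⁻¹,
        W.mul_mem (W.inv_mem hs2) (W.inv_mem ha), ?_⟩
      group

theorem mem_dcSubgroup {P : Type*} [Group P] (W : Subgroup P) (s : P) (hs2 : s ^ 2 ∈ W)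
    (hkey : ∀ x ∈ W, s * x * s ∈ dcSet W s) (x : P) :
    x ∈ dcSubgroup W s hs2 hkey ↔ x ∈ dcSet W s := Iff.rfl

/-! ### The data of Witt's lemma -/

/-- The data of Witt's lemma. -/
structure Setup (α : Type*) [Fintype α] [DecidableEq α] where
  t : ℕ
  ht : 2 ≤ t
  q : ℕ → α
  hq : ∀ i j : ℕ, 1 ≤ i → i ≤ t → 1 ≤ j → j ≤ t → q i = q j → i = j
  G : Subgroup (Equiv.Perm α)
  hfix : ∀ g ∈ G, ∀ i : ℕ, 3 ≤ i → i ≤ t → g (q i) = q i
  h2 : ∀ a b c d : α, (∀ i, 3 ≤ i → i ≤ t → a ≠ q i ∧ b ≠ q i ∧ c ≠ q i ∧ d ≠ q i) →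
    a ≠ b → c ≠ d → ∃ g ∈ G, g a = c ∧ g b = d
  s : ℕ → Equiv.Perm α
  hs1 : s 1 ∈ G
  hs1q : s 1 (q 1) = q 2 ∧ s 1 (q 2) = q 1
  hsq : ∀ i : ℕ, 2 ≤ i → i + 1 ≤ t → s i (q i) = q (i + 1) ∧ s i (q (i + 1)) = q i ∧
    ∀ j : ℕ, 1 ≤ j → j ≤ t → j ≠ i → j ≠ i + 1 → s i (q j) = q j
  H : Subgroup (Equiv.Perm α)
  hH : H = G ⊓ MulAction.stabilizer (Equiv.Perm α) (q 1) ⊓
    MulAction.stabilizer (Equiv.Perm α) (q 2)
  hsq2 : ∀ i : ℕ, 1 ≤ i → i + 1 ≤ t → s i ^ 2 ∈ H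
  hbraid : ∀ i : ℕ, 1 ≤ i → i + 2 ≤ t → (s i * s (i + 1)) ^ 3 ∈ H
  hcomm : ∀ i j : ℕ, 1 ≤ i → i + 2 ≤ j → j + 1 ≤ t → (s i * s j) ^ 2 ∈ H ∧ (s j * s i) ^ 2 ∈ H
  hnorm : ∀ i : ℕ, 2 ≤ i → i + 1 ≤ t → ∀ g ∈ G ⊓ MulAction.stabilizer (Equiv.Perm α) (q 2),
    s i * g * (s i)⁻¹ ∈ G ⊓ MulAction.stabilizer (Equiv.Perm α) (q 2)

namespace Setup

variable {α : Type*} [Fintype α] [DecidableEq α] (S : Setup α)

/-- The stabiliser of `q 2` in `G`. -/
def G2 : Subgroup (Equiv.Perm α) := S.G ⊓ MulAction.stabilizer (Equiv.Perm α) (S.q 2)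

/-- `W k = ⟨G_{q 2}, s 1, …, s (k-1)⟩`. -/
def W (k : ℕ) : Subgroup (Equiv.Perm α) :=
  Subgroup.closure ((S.G2 : Set (Equiv.Perm α)) ∪ {x | ∃ i : ℕ, 1 ≤ i ∧ i + 1 ≤ k ∧ x = S.s i})

theorem G2_le_W (k : ℕ) : S.G2 ≤ S.W k := fun _ hx =>
  Subgroup.subset_closure (Or.inl hx)

theorem s_mem_W {i k : ℕ} (hi : 1 ≤ i) (hik : i + 1 ≤ k) : S.s i ∈ S.W k :=
  Subgroup.subset_closure (Or.inr ⟨i, hi, hik, rfl⟩)

theorem W_mono {k l : ℕ} (h : k ≤ l) : S.W k ≤ S.W l := by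
  apply Subgroup.closure_mono
  rintro x (hx | ⟨i, hi, hik, rfl⟩)
  · exact Or.inl hx
  · exact Or.inr ⟨i, hi, by omega, rfl⟩

theorem H_le_G2 : S.H ≤ S.G2 := by
  intro x hx
  rw [S.hH] at hx
  exact ⟨hx.1.1, hx.2⟩

theorem mem_H_iff (x : Equiv.Perm α) : x ∈ S.H ↔ x ∈ S.G2 ∧ x (S.q 1) = S.q 1 := by
  rw [S.hH]
  constructor
  · intro hx
    exact ⟨⟨hx.1.1, hx.2⟩, hx.1.2⟩
  · intro hx
    exact ⟨⟨hx.1.1, hx.2⟩, hx.1.2⟩

theorem H_le_W (k : ℕ) : S.H ≤ S.W k := S.H_le_G2.trans (S.G2_le_W k)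

theorem W_one : S.W 1 = S.G2 := by
  apply le_antisymm
  · rw [W, Subgroup.closure_le]
    rintro x (hx | ⟨i, hi, hik, rfl⟩)
    · exact hx
    · omega
  · exact S.G2_le_W 1

/-- Elements of `W k` fix `q j` for `k < j ≤ t`. -/
theorem W_fix {k : ℕ} (hk : 1 ≤ k) {x : Equiv.Perm α} (hx : x ∈ S.W k) {j : ℕ} (hkj : k < j)
    (hjt : j ≤ S.t) : x (S.q j) = S.q j := by
  induction hx using Subgroup.closure_induction with
  | mem y hy =>
    rcases hy with hy | ⟨i, hi, hik, rfl⟩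
    · by_cases hj2 : j = 2
      · subst hj2
        exact hy.2
      · exact S.hfix y hy.1 j (by omega) hjt
    · by_cases hi1 : i = 1
      · subst hi1
        exact S.hfix _ S.hs1 j (by omega) hjt
      · exact (S.hsq i (by omega) (by omega)).2.2 j (by omega) hjt (by omega) (by omega)
  | one => rfl
  | mul y z _ _ hy hz => rw [Equiv.Perm.mul_apply, hz, hy]
  | inv y _ hy => rw [Equiv.Perm.inv_eq_iff_eq, hy]

/-- `G = G_{q 2} ∪ G_{q 2} s 1 G_{q 2}` by double transitivity. -/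
theorem G_subset_dc {g : Equiv.Perm α} (hg : g ∈ S.G) : g ∈ dcSet S.G2 (S.s 1) := by
  by_cases h : g (S.q 2) = S.q 2
  · exact Or.inl ⟨hg, h⟩
  · right
    have hq12 : S.q 1 ≠ S.q 2 := by
      intro h12
      have := S.hq 1 2 le_rfl (by have := S.ht; omega) (by omega) S.ht h12
      omega
    have hq2 : ∀ i, 3 ≤ i → i ≤ S.t → S.q 2 ≠ S.q i := by
      intro i hi hit h2i
      have := S.hq 2 i (by omega) S.ht (by omega) hit h2i
      omega
    have hq1 : ∀ i, 3 ≤ i → i ≤ S.t → S.q 1 ≠ S.q i := by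
      intro i hi hit h1i
      have := S.hq 1 i (by omega) (by omega) (by omega) hit h1i
      omega
    have hc : ∀ i, 3 ≤ i → i ≤ S.t → g (S.q 2) ≠ S.q i := by
      intro i hi hit hgi
      rw [← S.hfix g hg i hi hit] at hgi
      exact hq2 i hi hit (g.injective hgi)
    obtain ⟨a, haG, ha2, ha1⟩ := S.h2 (S.q 2) (S.q 1) (S.q 2) (g (S.q 2))
      (fun i hi hit => ⟨hq2 i hi hit, hq1 i hi hit, hq2 i hi hit, hc i hi hit⟩)
      hq12.symm (fun h' => h h'.symm)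
    refine ⟨a, ⟨haG, ha2⟩, (a * S.s 1)⁻¹ * g, ⟨?_, ?_⟩, by group⟩
    · exact S.G.mul_mem (S.G.inv_mem (S.G.mul_mem haG S.hs1)) hg
    · show ((a * S.s 1)⁻¹ * g) (S.q 2) = S.q 2
      rw [Equiv.Perm.mul_apply, Equiv.Perm.inv_eq_iff_eq, Equiv.Perm.mul_apply, S.hs1q.2, ha1]

theorem W_two : S.W 2 = S.G := by
  apply le_antisymm
  · rw [W, Subgroup.closure_le]
    rintro x (hx | ⟨i, hi, hik, rfl⟩)
    · exact hx.1
    · have : i = 1 := by omega
      subst this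
      exact S.hs1
  · intro g hg
    rcases S.G_subset_dc hg with h | ⟨a, ha, b, hb, rfl⟩
    · exact S.G2_le_W 2 h
    · exact (S.W 2).mul_mem ((S.W 2).mul_mem (S.G2_le_W 2 ha) (S.s_mem_W le_rfl le_rfl))
        (S.G2_le_W 2 hb)

theorem G_le_W {k : ℕ} (hk : 2 ≤ k) : S.G ≤ S.W k := by
  rw [← S.W_two]
  exact S.W_mono hk

theorem sq_mem_W {i : ℕ} (hi : 1 ≤ i) (hit : i + 1 ≤ S.t) (k : ℕ) : S.s i ^ 2 ∈ S.W k :=
  S.H_le_W k (S.hsq2 i hi hit)

/-- `s (j+1)` normalises `W j`. -/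
theorem conj_mem {j : ℕ} (hj : 1 ≤ j) (hjt : j + 2 ≤ S.t) {x : Equiv.Perm α} (hx : x ∈ S.W j) :
    S.s (j + 1) * x * (S.s (j + 1))⁻¹ ∈ S.W j := by
  induction hx using Subgroup.closure_induction with
  | mem y hy =>
    rcases hy with hy | ⟨i, hi, hik, rfl⟩
    · exact S.G2_le_W j (S.hnorm (j + 1) (by omega) (by omega) y hy)
    · have h1 : (S.s i)⁻¹ ∈ S.W j := (S.W j).inv_mem (S.s_mem_W hi hik)
      have h2 : (S.s i * S.s (j + 1)) ^ 2 ∈ S.W j :=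
        S.H_le_W j (S.hcomm i (j + 1) hi (by omega) (by omega)).1
      have h3 : (S.s (j + 1) ^ 2)⁻¹ ∈ S.W j :=
        (S.W j).inv_mem (S.sq_mem_W (by omega) (by omega) j)
      have : S.s (j + 1) * S.s i * (S.s (j + 1))⁻¹ =
          (S.s i)⁻¹ * (S.s i * S.s (j + 1)) ^ 2 * (S.s (j + 1) ^ 2)⁻¹ := by
        rw [pow_two, pow_two]; group
      rw [this]
      exact (S.W j).mul_mem ((S.W j).mul_mem h1 h2) h3
  | one => simp
  | mul y z _ _ hy hz =>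
    have : S.s (j + 1) * (y * z) * (S.s (j + 1))⁻¹ =
        (S.s (j + 1) * y * (S.s (j + 1))⁻¹) * (S.s (j + 1) * z * (S.s (j + 1))⁻¹) := by group
    rw [this]
    exact (S.W j).mul_mem hy hz
  | inv y _ hy =>
    have : S.s (j + 1) * y⁻¹ * (S.s (j + 1))⁻¹ = (S.s (j + 1) * y * (S.s (j + 1))⁻¹)⁻¹ := by group
    rw [this]
    exact (S.W j).inv_mem hy

theorem conj_mem' {j : ℕ} (hj : 1 ≤ j) (hjt : j + 2 ≤ S.t) {x : Equiv.Perm α} (hx : x ∈ S.W j) :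
    (S.s (j + 1))⁻¹ * x * S.s (j + 1) ∈ S.W j := by
  have h1 := S.conj_mem hj hjt hx
  have h2 : S.s (j + 1) ^ 2 ∈ S.W j := S.sq_mem_W (by omega) (by omega) j
  have : (S.s (j + 1))⁻¹ * x * S.s (j + 1) =
      (S.s (j + 1) ^ 2)⁻¹ * (S.s (j + 1) * x * (S.s (j + 1))⁻¹) * S.s (j + 1) ^ 2 := by group
  rw [this]
  exact (S.W j).mul_mem ((S.W j).mul_mem ((S.W j).inv_mem h2) h1) h2

/-- Double coset decomposition `W (k+1) = W k ∪ W k s_k W k`. -/
theorem dc (k : ℕ) (hk : 1 ≤ k) (hkt : k + 1 ≤ S.t) :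
    ∀ x ∈ S.W (k + 1), x ∈ dcSet (S.W k) (S.s k) := by
  induction k, hk using Nat.le_induction with
  | base =>
    intro x hx
    rw [S.W_two] at hx
    rw [S.W_one]
    exact S.G_subset_dc hx
  | succ k hk ih =>
    have ih := ih (by omega)
    -- key property
    have hkey : ∀ x ∈ S.W (k + 1), S.s (k + 1) * x * S.s (k + 1) ∈
        dcSet (S.W (k + 1)) (S.s (k + 1)) := by
      intro x hx
      have hsq : S.s (k + 1) ^ 2 ∈ S.W (k + 1) := S.sq_mem_W (by omega) (by omega) _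
      rcases ih x hx with hx | ⟨a, ha, b, hb, rfl⟩
      · left
        have h1 := S.W_mono (Nat.le_succ k) (S.conj_mem hk (by omega) hx)
        have : S.s (k + 1) * x * S.s (k + 1) =
            (S.s (k + 1) * x * (S.s (k + 1))⁻¹) * S.s (k + 1) ^ 2 := by group
        rw [this]
        exact (S.W (k + 1)).mul_mem h1 hsq
      · right
        have ha' := S.W_mono (Nat.le_succ k) (S.conj_mem hk (by omega) ha)
        have hb' := S.W_mono (Nat.le_succ k) (S.conj_mem' hk (by omega) hb)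
        have hsk : S.s k ∈ S.W (k + 1) := S.s_mem_W hk le_rfl
        have hbr : (S.s k * S.s (k + 1)) ^ 3 ∈ S.W (k + 1) :=
          S.H_le_W _ (S.hbraid k hk (by omega))
        refine ⟨(S.s (k + 1) * a * (S.s (k + 1))⁻¹) * (S.s k)⁻¹ * (S.s k * S.s (k + 1)) ^ 3, ?_,
          (S.s (k + 1) ^ 2)⁻¹ * (S.s k)⁻¹ * ((S.s (k + 1))⁻¹ * b * S.s (k + 1)), ?_, ?_⟩
        · exact (S.W (k + 1)).mul_mem ((S.W (k + 1)).mul_mem ha' ((S.W (k + 1)).inv_mem hsk)) hbr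
        · exact (S.W (k + 1)).mul_mem ((S.W (k + 1)).mul_mem ((S.W (k + 1)).inv_mem hsq)
            ((S.W (k + 1)).inv_mem hsk)) hb'
        · rw [pow_succ, pow_two, pow_two]; group
    have hs2 : S.s (k + 1) ^ 2 ∈ S.W (k + 1) := S.sq_mem_W (by omega) (by omega) _
    have hle : S.W (k + 1 + 1) ≤ dcSubgroup (S.W (k + 1)) (S.s (k + 1)) hs2 hkey := by
      rw [W, Subgroup.closure_le]
      rintro x (hx | ⟨i, hi, hik, rfl⟩)
      · exact Or.inl (S.G2_le_W _ hx)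
      · by_cases hik' : i + 1 ≤ k + 1
        · exact Or.inl (S.s_mem_W hi hik')
        · have : i = k + 1 := by omega
          subst this
          exact Or.inr ⟨1, (S.W _).one_mem, 1, (S.W _).one_mem, by group⟩
    intro x hx
    exact hle hx

theorem s_apply_succ {k : ℕ} (hk : 1 ≤ k) (hkt : k + 1 ≤ S.t) : S.s k (S.q (k + 1)) = S.q k := by
  by_cases hk1 : k = 1
  · subst hk1
    exact S.hs1q.2
  · exact (S.hsq k (by omega) hkt).2.1

theorem s_apply_self {k : ℕ} (hk : 1 ≤ k) (hkt : k + 1 ≤ S.t) : S.s k (S.q k) = S.q (k + 1) := by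
  by_cases hk1 : k = 1
  · subst hk1
    exact S.hs1q.1
  · exact (S.hsq k (by omega) hkt).1

/-- The stabiliser of `q (k+1)` in `W (k+1)` is `W k`. -/
theorem stab_step {k : ℕ} (hk : 1 ≤ k) (hkt : k + 1 ≤ S.t) {x : Equiv.Perm α}
    (hx : x ∈ S.W (k + 1)) (hxq : x (S.q (k + 1)) = S.q (k + 1)) : x ∈ S.W k := by
  rcases S.dc k hk hkt x hx with h | ⟨a, ha, b, hb, rfl⟩
  · exact h
  · exfalso
    rw [Equiv.Perm.mul_apply, Equiv.Perm.mul_apply, S.W_fix hk hb (Nat.lt_succ_self k) hkt,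
      S.s_apply_succ hk hkt] at hxq
    have h1 : a (S.q (k + 1)) = S.q (k + 1) := S.W_fix hk ha (Nat.lt_succ_self k) hkt
    rw [← h1] at hxq
    have := S.hq k (k + 1) hk (by omega) (by omega) hkt (a.injective hxq)
    omega

theorem stab_all (k : ℕ) (hk : 1 ≤ k) (hkt : k ≤ S.t) {x : Equiv.Perm α} (hx : x ∈ S.W k)
    (hxq : ∀ j, 1 ≤ j → j ≤ S.t → x (S.q j) = S.q j) : x ∈ S.G2 := by
  induction k, hk using Nat.le_induction with
  | base => rwa [S.W_one] at hx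
  | succ k hk ih =>
    exact ih (by omega) (S.stab_step hk hkt hx (hxq (k + 1) (by omega) hkt))

/-! ### Transitivity -/

/-- The points on which `W k` acts: all but `q j` for `k < j ≤ t`. -/
def Om (k : ℕ) : Set α := {x | ∀ j, k < j → j ≤ S.t → x ≠ S.q j}

theorem W_Om {k : ℕ} (hk : 1 ≤ k) {x : Equiv.Perm α} (hx : x ∈ S.W k) {y : α} (hy : y ∈ S.Om k) :
    x y ∈ S.Om k := by
  intro j hkj hjt h
  rw [← S.W_fix hk hx hkj hjt] at h
  exact hy j hkj hjt (x.injective h)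

theorem q_mem_Om {k : ℕ} (hk : 1 ≤ k) (hkt : k ≤ S.t) : S.q k ∈ S.Om k := by
  intro j hkj hjt h
  have := S.hq k j hk hkt (by omega) hjt h
  omega

theorem Om_succ {k : ℕ} {y : α} (hy : y ∈ S.Om (k + 1)) (hne : y ≠ S.q (k + 1)) : y ∈ S.Om k := by
  intro j hkj hjt
  by_cases h : j = k + 1
  · subst h; exact hne
  · exact hy j (by omega) hjt

theorem Om_mono {k : ℕ} {y : α} (hy : y ∈ S.Om k) : y ∈ S.Om (k + 1) := by
  intro j hkj hjt
  exact hy j (by omega) hjt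

theorem trans (k : ℕ) (hk : 2 ≤ k) (hkt : k ≤ S.t) :
    ∀ Δ : Finset α, Δ.card < k → (∀ d ∈ Δ, d ∈ S.Om k) → ∀ y ∈ S.Om k, y ∉ Δ →
      ∀ z ∈ S.Om k, z ∉ Δ → ∃ g ∈ S.W k, S0698.fixes g Δ ∧ g y = z := by
  induction k, hk using Nat.le_induction with
  | base =>
    intro Δ hΔ hΔO y hy hyΔ z hz hzΔ
    rw [S.W_two]
    have hO : ∀ {x : α}, x ∈ S.Om 2 → ∀ i, 3 ≤ i → i ≤ S.t → x ≠ S.q i :=
      fun hx i hi hit => hx i (by omega) hit
    rcases Nat.lt_succ_iff_lt_or_eq.mp hΔ with h0 | h1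
    · have hΔ0 : Δ = ∅ := by
        rw [← Finset.card_eq_zero]; omega
      subst hΔ0
      by_cases hyz : y = z
      · exact ⟨1, S.G.one_mem, S0698.fixes_one _, by rw [hyz]; rfl⟩
      · obtain ⟨g, hg, hg1, _⟩ := S.h2 y z z y
          (fun i hi hit => ⟨hO hy i hi hit, hO hz i hi hit, hO hz i hi hit, hO hy i hi hit⟩)
          hyz (fun h => hyz h.symm)
        exact ⟨g, hg, fun d hd => absurd hd (Finset.notMem_empty d), hg1⟩
    · obtain ⟨d, rfl⟩ := Finset.card_eq_one.mp h1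
      have hd : d ∈ S.Om 2 := hΔO d (Finset.mem_singleton_self d)
      have hyd : y ≠ d := fun h => hyΔ (by rw [h]; exact Finset.mem_singleton_self d)
      have hzd : z ≠ d := fun h => hzΔ (by rw [h]; exact Finset.mem_singleton_self d)
      obtain ⟨g, hg, hg1, hg2⟩ := S.h2 d y d z
        (fun i hi hit => ⟨hO hd i hi hit, hO hy i hi hit, hO hd i hi hit, hO hz i hi hit⟩)
        hyd.symm hzd.symm
      refine ⟨g, hg, fun e he => ?_, hg2⟩
      rw [Finset.mem_singleton] at he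
      subst he
      exact hg1
  | succ k hk ih =>
    have ih := ih (by omega)
    have hk1 : 1 ≤ k := by omega
    -- transitivity
    have htr : ∀ y ∈ S.Om (k + 1), ∃ u ∈ S.W (k + 1), u y = S.q (k + 1) := by
      intro y hy
      by_cases hyq : y = S.q (k + 1)
      · exact ⟨1, (S.W _).one_mem, by rw [hyq]; rfl⟩
      · obtain ⟨g, hg, _, hgy⟩ := ih ∅ (by simp; omega) (fun d hd => absurd hd (Finset.notMem_empty d))
          y (S.Om_succ hy hyq) (Finset.notMem_empty _) (S.q k) (S.q_mem_Om hk1 (by omega))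
          (Finset.notMem_empty _)
        refine ⟨S.s k * g, (S.W _).mul_mem (S.s_mem_W hk1 le_rfl) (S.W_mono (Nat.le_succ k) hg), ?_⟩
        rw [Equiv.Perm.mul_apply, hgy, S.s_apply_self hk1 hkt]
    intro Δ hΔ hΔO y hy hyΔ z hz hzΔ
    by_cases hΔ0 : Δ = ∅
    · subst hΔ0
      obtain ⟨u, hu, huy⟩ := htr y hy
      obtain ⟨v, hv, hvz⟩ := htr z hz
      refine ⟨v⁻¹ * u, (S.W _).mul_mem ((S.W _).inv_mem hv) hu,
        fun d hd => absurd hd (Finset.notMem_empty d), ?_⟩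
      rw [Equiv.Perm.mul_apply, huy, Equiv.Perm.inv_eq_iff_eq, hvz]
    · obtain ⟨d₀, hd₀⟩ := Finset.nonempty_iff_ne_empty.mpr hΔ0
      obtain ⟨u, hu, hud⟩ := htr d₀ (hΔO d₀ hd₀)
      have hk1' : 1 ≤ k + 1 := by omega
      -- the image set
      have hΔ' : ((Δ.erase d₀).image u).card < k := by
        have h1 := Finset.card_image_le (s := Δ.erase d₀) (f := u)
        have h2 := Finset.card_erase_of_mem hd₀
        have h3 : 0 < Δ.card := Finset.card_pos.mpr ⟨d₀, hd₀⟩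
        omega
      have himg : ∀ {w : α}, w ∈ S.Om (k + 1) → w ≠ d₀ → u w ∈ S.Om k := by
        intro w hw hwd
        apply S.Om_succ (S.W_Om hk1' hu hw)
        rw [← hud]
        exact fun h => hwd (u.injective h)
      have hnot : ∀ {w : α}, w ∉ Δ → u w ∉ (Δ.erase d₀).image u := by
        intro w hw h
        obtain ⟨e, he, heq⟩ := Finset.mem_image.mp h
        rw [u.injective heq] at he
        exact hw (Finset.mem_of_mem_erase he)
      obtain ⟨g, hg, hgΔ, hgy⟩ := ih ((Δ.erase d₀).image u) hΔ'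
        (by
          intro e he
          obtain ⟨d, hd, rfl⟩ := Finset.mem_image.mp he
          exact himg (hΔO d (Finset.mem_of_mem_erase hd)) (Finset.ne_of_mem_erase hd))
        (u y) (himg hy (fun h => hyΔ (h ▸ hd₀))) (hnot hyΔ)
        (u z) (himg hz (fun h => hzΔ (h ▸ hd₀))) (hnot hzΔ)
      refine ⟨u⁻¹ * g * u, (S.W _).mul_mem ((S.W _).mul_mem ((S.W _).inv_mem hu)
        (S.W_mono (Nat.le_succ k) hg)) hu, ?_, ?_⟩
      · intro d hd
        show (u⁻¹ * g * u) d = d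
        rw [Equiv.Perm.mul_apply, Equiv.Perm.mul_apply, Equiv.Perm.inv_eq_iff_eq]
        by_cases hdd : d = d₀
        · subst hdd
          rw [hud]
          exact S.W_fix hk1 hg (Nat.lt_succ_self k) hkt
        · exact hgΔ (u d) (Finset.mem_image.mpr ⟨d, Finset.mem_erase.mpr ⟨hdd, hd⟩, rfl⟩)
      · rw [Equiv.Perm.mul_apply, Equiv.Perm.mul_apply, hgy, Equiv.Perm.inv_eq_iff_eq]

/-- The generated group of the statement is `W t`. -/
theorem closure_eq :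
    Subgroup.closure ((S.G : Set (Equiv.Perm α)) ∪ {x | ∃ i : ℕ, 2 ≤ i ∧ i + 1 ≤ S.t ∧ x = S.s i})
      = S.W S.t := by
  apply le_antisymm
  · rw [Subgroup.closure_le]
    rintro x (hx | ⟨i, hi, hit, rfl⟩)
    · exact S.G_le_W S.ht hx
    · exact S.s_mem_W (by omega) hit
  · rw [W, Subgroup.closure_le]
    rintro x (hx | ⟨i, hi, hit, rfl⟩)
    · exact Subgroup.subset_closure (Or.inl hx.1)
    · by_cases hi1 : i = 1
      · subst hi1
        exact Subgroup.subset_closure (Or.inl S.hs1)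
      · exact Subgroup.subset_closure (Or.inr ⟨i, by omega, hit, rfl⟩)

theorem main :
    MulAction.IsMultiplyPretransitive ↥(S.W S.t) α S.t ∧
    S.W S.t ⊓ fixingSubgroup (Equiv.Perm α) {x | ∃ i : ℕ, 1 ≤ i ∧ i ≤ S.t ∧ x = S.q i} = S.H := by
  have ht := S.ht
  constructor
  · apply S0698.isMultiplyPretransitive_of_transOn
    intro Δ hΔ y hy z hz
    have hO : ∀ x : α, x ∈ S.Om S.t := fun x j h1 h2 => by omega
    obtain ⟨g, hg, hgΔ, hgy⟩ := S.trans S.t ht le_rfl Δ hΔ (fun d _ => hO d) y (hO y) hy z (hO z) hz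
    exact ⟨g, hg, hgΔ, hgy⟩
  · apply le_antisymm
    · rintro x ⟨hxW, hxf⟩
      have hxq : ∀ j, 1 ≤ j → j ≤ S.t → x (S.q j) = S.q j := by
        intro j hj hjt
        exact (mem_fixingSubgroup_iff (Equiv.Perm α)).mp hxf (S.q j) ⟨j, hj, hjt, rfl⟩
      rw [S.mem_H_iff]
      exact ⟨S.stab_all S.t (by omega) le_rfl hxW hxq, hxq 1 le_rfl (by omega)⟩
    · intro x hx
      refine ⟨S.H_le_W _ hx, ?_⟩
      show x ∈ fixingSubgroup (Equiv.Perm α) {x | ∃ i : ℕ, 1 ≤ i ∧ i ≤ S.t ∧ x = S.q i}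
      rw [mem_fixingSubgroup_iff]
      rintro y ⟨i, hi, hit, rfl⟩
      show x (S.q i) = S.q i
      have hx' := (S.mem_H_iff x).mp hx
      by_cases hi1 : i = 1
      · subst hi1; exact hx'.2
      · by_cases hi2 : i = 2
        · subst hi2; exact hx'.1.2
        · exact S.hfix x hx'.1.1 i (by omega) hit

end Setup

/-- Witt's Lemma for constructing transitive extensions. Points `q 1, …, q t` (`t ≥ 2`) of a finite set are given; `G` fixes `q i` for `i ≥ 3` and is doubly transitive on the remaining points; `s 1 ∈ G` swaps `q 1, q 2`; for `2 ≤ i ≤ t-1`, `s i` swaps `q i, q (i+1)` and fixes the other `q j`; with `H` the stabiliser of `q 1, q 2` in `G`: `s i ^ 2 ∈ H`, `(s i * s (i+1)) ^ 3 ∈ H`, `(s i * s j) ^ 2 ∈ H` for `j ≥ i + 2`, and `s i` (`i ≥ 2`) normalises the stabiliser of `q 2` in `G`. Then `G` and the `s i` generate a `t`-transitive group whose pointwise stabiliser of the `q`'s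 is `H`. -/
theorem result {α : Type*} [Fintype α] [DecidableEq α] (t : ℕ) (ht : 2 ≤ t) (q : ℕ → α) (hq : ∀ i j : ℕ, 1 ≤ i → i ≤ t → 1 ≤ j → j ≤ t → q i = q j → i = j) (G : Subgroup (Equiv.Perm α)) (hfix : ∀ g ∈ G, ∀ i : ℕ, 3 ≤ i → i ≤ t → g (q i) = q i) (h2 : ∀ a b c d : α, (∀ i, 3 ≤ i → i ≤ t → a ≠ q i ∧ b ≠ q i ∧ c ≠ q i ∧ d ≠ q i) → a ≠ b → c ≠ d → ∃ g ∈ G, g a = c ∧ g b = d) (s : ℕ → Equiv.Perm α) (hs1 : s 1 ∈ G) (hs1q : s 1 (q 1) = q 2 ∧ s 1 (q 2) = q 1) (hsq : ∀ i : ℕ, 2 ≤ i → i + 1 ≤ t → s i (q i) = q (i + 1) ∧ s i (q (i + 1)) = q i ∧ ∀ j : ℕ, 1 ≤ j → j ≤ t → j ≠ i → j ≠ i + 1 → s i (q j) = q j) (H : Subgroup (Equiv.Perm α)) (hH : H = G ⊓ MulAction.stabilizer (Equiv.Perm α) (q 1) ⊓ MulAction.stabilizer (Equiv.Perm α) (q 2)) (hsq2 : ∀ i : ℕ, 1 ≤ i → i + 1 ≤ t → s i ^ 2 ∈ H) (hbraid : ∀ i : ℕ, 1 ≤ i → i + 2 ≤ t → (s i * s (i + 1)) ^ 3 ∈ H) (hcomm : ∀ i j : ℕ, 1 ≤ i → i + 2 ≤ j →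 j + 1 ≤ t → (s i * s j) ^ 2 ∈ H ∧ (s j * s i) ^ 2 ∈ H) (hnorm : ∀ i : ℕ, 2 ≤ i → i + 1 ≤ t → ∀ g ∈ G ⊓ MulAction.stabilizer (Equiv.Perm α) (q 2), s i * g * (s i)⁻¹ ∈ G ⊓ MulAction.stabilizer (Equiv.Perm α) (q 2)) : MulAction.IsMultiplyPretransitive ↥(Subgroup.closure ((G : Set (Equiv.Perm α)) ∪ {x | ∃ i : ℕ, 2 ≤ i ∧ i + 1 ≤ t ∧ x = s i})) α t ∧ Subgroup.closure ((G : Set (Equiv.Perm α)) ∪ {x | ∃ i : ℕ, 2 ≤ i ∧ i + 1 ≤ t ∧ x = s i}) ⊓ fixingSubgroup (Equiv.Perm α) {x | ∃ i : ℕ, 1 ≤ i ∧ i ≤ t ∧ x = q i} = H := by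
  let S : Setup α := ⟨t, ht, q, hq, G, hfix, h2, s, hs1, hs1q, hsq, H, hH, hsq2, hbraid, hcomm, hnorm⟩
  have hcl := S.closure_eq
  have hmain := S.main
  rw [← hcl] at hmain
  exact hmain

end Cfsg.Agent.S0709
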