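import Cfsg.Statements.S0710
import Mathlib
-- import your own Cfsg.Agent.* helpers here

set_option autoImplicit false
open Cfsg

namespace Cfsg.Agent.S0710

theorem arith_key : ∀ m ∈ Nat.divisors 156, (1235520 / m) % 13 ≠ 1 := by decide +kernel

/-- No transitive permutation group on 13 points has order `13 * 12 * 11 * 10 * 9 * 8`. -/
theorem result {α : Type*} [Fintype α] [DecidableEq α] (hα : Fintype.card α = 13) (G : Subgroup (Equiv.Perm α)) [MulAction.IsPretransitive G α] : Nat.card G ≠ 13 * 12 * 11 * 10 * 9 * 8 := by
  intro hG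
  haveI : Fact (Nat.Prime 13) := ⟨by norm_num⟩
  have hG' : Nat.card G = 13 ^ 1 * 95040 := by rw [hG]; norm_num
  obtain P : Sylow 13 G := default
  have hPcard : Nat.card P = 13 := by
    rw [Sylow.card_eq_multiplicity, hG']
    have : (13 ^ 1 * 95040).factorization 13 = 1 := by
      rw [Nat.factorization_mul (by norm_num) (by norm_num)]
      simp only [Finsupp.coe_add, Pi.add_apply]
      rw [Nat.Prime.factorization_pow (by norm_num : Nat.Prime 13)]
      have : (95040).factorization 13 = 0 := Nat.factorization_eq_zero_of_not_dvd (by norm_num)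
      simp [this]
    rw [this, pow_one]
  haveI : IsCyclic P := isCyclic_of_prime_card hPcard
  obtain ⟨σ, hσ⟩ := IsCyclic.exists_generator (α := P)
  have hord : orderOf σ = 13 := by
    rw [orderOf_eq_card_of_forall_mem_zpowers hσ, hPcard]
  set s : Equiv.Perm α := ((σ : G) : Equiv.Perm α) with hs
  have hords : orderOf s = 13 := by
    rw [hs, Subgroup.orderOf_coe, Subgroup.orderOf_coe, hord]
  obtain ⟨n, hn⟩ := Equiv.Perm.cycleType_prime_order (σ := s) (by rw [hords]; norm_num)
  have hsum : s.cycleType.sum ≤ 13 := by
    rw [Equiv.Perm.sum_cycleType, ← hα]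
    exact Finset.card_le_univ _
  have hn0 : n = 0 := by
    rw [hn, hords] at hsum
    simp at hsum
    omega
  have hct : s.cycleType = {13} := by
    rw [hn, hn0, hords]; rfl
  have hcent : Nat.card (Subgroup.centralizer {s}) = 13 := by
    rw [Equiv.Perm.nat_card_centralizer, hct, hα]
    decide
  -- the centralizer of P in G has order dividing 13
  have hCdvd : Nat.card (Subgroup.centralizer ((P : Subgroup G) : Set G)) ∣ 13 := by
    have hle : (Subgroup.centralizer ((P : Subgroup G) : Set G)).map G.subtype ≤
        Subgroup.centralizer {s} := by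
      rintro _ ⟨g, hg, rfl⟩
      rw [Subgroup.mem_centralizer_iff]
      intro h hh
      rw [Set.mem_singleton_iff] at hh
      subst hh
      have := hg (σ : G) σ.2
      exact congrArg Subtype.val this
    have := Subgroup.card_dvd_of_le hle
    rwa [Subgroup.card_map_of_injective G.subtype_injective, hcent] at this
  -- N/C embeds in Aut(P)
  have key := Subgroup.card_dvd_of_injective _
    (QuotientGroup.kerLift_injective (P : Subgroup G).normalizerMonoidHom)
  rw [Subgroup.normalizerMonoidHom_ker, ← Subgroup.index, IsCyclic.card_mulAut, hPcard] at key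
  have htot : Nat.totient 13 = 12 := by decide
  rw [htot] at key
  -- card of N
  have hN := Subgroup.card_mul_index
    ((Subgroup.centralizer ((P : Subgroup G) : Set G)).subgroupOf (Subgroup.normalizer ((P : Subgroup G) : Set G)))
  have hCN : Nat.card ((Subgroup.centralizer ((P : Subgroup G) : Set G)).subgroupOf
      (Subgroup.normalizer ((P : Subgroup G) : Set G))) = Nat.card (Subgroup.centralizer ((P : Subgroup G) : Set G)) :=
    Nat.card_congr (Subgroup.subgroupOfEquivOfLe (Subgroup.centralizer_le_normalizer _)).toEquiv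
  rw [hCN] at hN
  have hNdvd : Nat.card (Subgroup.normalizer ((P : Subgroup G) : Set G)) ∣ 156 := by
    rw [← hN]
    exact Nat.mul_dvd_mul hCdvd key
  have hidx := Subgroup.card_mul_index (Subgroup.normalizer ((P : Subgroup G) : Set G))
  have hsyl : Nat.card (Sylow 13 G) ≡ 1 [MOD 13] := card_sylow_modEq_one 13 G
  rw [Sylow.card_eq_index_normalizer P] at hsyl
  rw [hG] at hidx
  have hm : Nat.card (Subgroup.normalizer ((P : Subgroup G) : Set G)) ∈ Nat.divisors 156 :=
    Nat.mem_divisors.mpr ⟨hNdvd, by norm_num⟩
  apply arith_key _ hm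
  have hpos : 0 < Nat.card (Subgroup.normalizer ((P : Subgroup G) : Set G)) := Nat.pos_of_dvd_of_pos hNdvd (by norm_num)
  have : (Subgroup.normalizer ((P : Subgroup G) : Set G)).index = 1235520 / Nat.card (Subgroup.normalizer ((P : Subgroup G) : Set G)) := by
    have h12 : (1235520 : ℕ) = 13 * 12 * 11 * 10 * 9 * 8 := by norm_num
    rw [h12, ← hidx, Nat.mul_div_cancel_left _ hpos]
  rw [← this]
  exact hsyl

end Cfsg.Agent.S0710
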