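import Cfsg.Statements.S0712
-- import your own Cfsg.Agent.* helpers here

set_option autoImplicit false
open Cfsg

namespace Cfsg.Agent.S0712

open MulAction SubMulAction Subgroup

theorem jordan_aux {G α : Type*} [Group G] [MulAction G α]
    (hG : IsPreprimitive G α) {s : Set α} {n : ℕ}
    (hsn : s.ncard = n + 1) (hsn' : n + 2 < Nat.card α)
    (h2 : IsMultiplyPretransitive (fixingSubgroup G s) (ofFixingSubgroup G s) 2) :
    IsMultiplyPretransitive G α (n + 3) := by
  have hα : Finite α := Or.resolve_right (finite_or_infinite α) (fun _ ↦ by
    simp [Nat.card_eq_zero_of_infinite] at hsn')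
  induction n generalizing α hα G with
  | zero =>
    simp only [zero_add, Set.ncard_eq_one] at hsn
    obtain ⟨a, rfl⟩ := hsn
    have : IsPretransitive G α := hG.toIsPretransitive
    rw [show (0 + 3) = Nat.succ 2 from rfl, ofStabilizer.isMultiplyPretransitive (a := a)]
    exact IsPretransitive.of_embedding (n := Fin 2)
      (ofFixingSubgroup_of_singleton_bijective (M := G) (a := a)).surjective
  | succ n hrec =>
    have hprim : IsPreprimitive (fixingSubgroup G s) (ofFixingSubgroup G s) :=
      isPreprimitive_of_is_two_pretransitive h2
    have : IsPretransitive G α := hG.toIsPretransitive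
    have hne : s.Nonempty := by
      rw [← Set.ncard_pos, hsn]; apply Nat.succ_pos
    obtain ⟨a, ha⟩ := hne
    let t : Set (SubMulAction.ofStabilizer G a) := Subtype.val ⁻¹' s
    have hst : s = insert a (Subtype.val '' t) := by
      ext x
      by_cases hx : x = a <;> simp [t, hx, mem_ofStabilizer_iff, ha]
    have ha' : a ∉ Subtype.val '' t := by
      intro h; rw [Set.mem_image] at h; obtain ⟨x, hx⟩ := h
      apply x.prop; rw [hx.right]; exact Set.mem_singleton a
    have ht_prim : IsPreprimitive (stabilizer G a) (SubMulAction.ofStabilizer G a) := by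
      rw [← is_one_preprimitive_iff]
      rw [← isMultiplyPreprimitive_succ_iff_ofStabilizer]
      · apply IsPreprimitive.is_two_preprimitive hG hsn hsn' hprim
      · norm_num
    have h2' : IsMultiplyPretransitive ↥(fixingSubgroup G (insert a (Subtype.val '' t)))
        (ofFixingSubgroup G (insert a (Subtype.val '' t))) 2 :=
      IsPretransitive.of_embedding (n := Fin 2)
        (ofFixingSubgroup_of_eq_bijective (hst := hst)).surjective
    have hGs' : IsMultiplyPretransitive (fixingSubgroup (stabilizer G a) t)
        (ofFixingSubgroup (stabilizer G a) t) 2 :=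
      IsPretransitive.of_embedding (n := Fin 2)
        ofFixingSubgroup_insert_map_bijective.surjective
    rw [show (n + 1 + 3) = Nat.succ (n + 3) from rfl,
      ofStabilizer.isMultiplyPretransitive (a := a)]
    refine hrec ht_prim ?_ ?_ hGs' Subtype.finite
    · rw [← Set.ncard_image_of_injective t Subtype.val_injective]
      apply Nat.add_right_cancel
      rw [← Set.ncard_insert_of_notMem ha', ← hst, hsn]
    · rw [← Nat.add_lt_add_iff_right, nat_card_ofStabilizer_add_one_eq]
      exact hsn'

/-- Jordan: a primitive group in which the pointwise stabiliser of a set `s` is doubly transitive on the complement of `s` (which has at least 2 points) is `(|s| + 2)`-transitive. -/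
theorem result {α : Type*} [Fintype α] [DecidableEq α] (G : Subgroup (Equiv.Perm α)) (hG : MulAction.IsPreprimitive G α) (s : Set α) {m : ℕ} (hsm : s.ncard = m) (hm : m + 2 ≤ Fintype.card α) (h2 : MulAction.IsMultiplyPretransitive (fixingSubgroup G s) (SubMulAction.ofFixingSubgroup G s) 2) : MulAction.IsMultiplyPretransitive G α (m + 2) := by
  rcases Nat.eq_zero_or_pos m with h0 | hpos
  · subst h0
    rw [Set.ncard_eq_zero] at hsm
    subst hsm
    exact IsPretransitive.of_embedding (n := Fin 2)
      (ofFixingSubgroupEmpty_equivariantMap_bijective (M := G) (α := α)).surjective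
  · obtain ⟨n, rfl⟩ := Nat.exists_eq_add_of_le' hpos
    have := jordan_aux hG (n := n) hsm (by rw [Nat.card_eq_fintype_card]; omega) h2
    simpa [add_assoc] using this

end Cfsg.Agent.S0712
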