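import Cfsg.Statements.S0714
import Mathlib
-- import your own Cfsg.Agent.* helpers here

set_option autoImplicit false
open Cfsg

namespace Cfsg.Agent.S0714

section
variable {α : Type*} [Fintype α] [DecidableEq α] {K : Type*} [Field K]

theorem permRep_apply (g : alternatingGroup α) (f : α → K) (x : α) :
    Cfsg.permRep K (alternatingGroup α) α g f x = f ((g : Equiv.Perm α)⁻¹ x) := rfl

/-- the product of two swaps is even -/
theorem swap_mul_swap_mem {a b c d : α} (hab : a ≠ b) (hcd : c ≠ d) :
    Equiv.swap a b * Equiv.swap c d ∈ alternatingGroup α := by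
  rw [Equiv.Perm.mem_alternatingGroup, Equiv.Perm.sign_mul, Equiv.Perm.sign_swap hab,
    Equiv.Perm.sign_swap hcd]
  rfl

/-- the alternating group of degree at least 4 is doubly transitive -/
theorem alt_two_trans (hα : 5 ≤ Fintype.card α) {x y x' y' : α} (hxy : x ≠ y) (hxy' : x' ≠ y') :
    ∃ g : alternatingGroup α, (g : Equiv.Perm α) x = x' ∧ (g : Equiv.Perm α) y = y' := by
  have h1 := alternatingGroup.isMultiplyPretransitive α
  have h2 : MulAction.IsMultiplyPretransitive (alternatingGroup α) α 2 :=
    MulAction.isMultiplyPretransitive_of_le (n := Nat.card α - 2)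
      (by rw [Nat.card_eq_fintype_card]; omega) (Nat.sub_le _ _)
  rw [MulAction.is_two_pretransitive_iff] at h2
  obtain ⟨g, hg1, hg2⟩ := h2 hxy hxy'
  exact ⟨g, hg1, hg2⟩

/-- Step 1: from a non-constant function, obtain a difference of two indicator functions. -/
theorem exists_single_sub_single (hα : 5 ≤ Fintype.card α)
    (W : Subrepresentation (Cfsg.permRep K (alternatingGroup α) α))
    (f : α → K) (hf : f ∈ W.toSubmodule) (a b : α) (hab : f a ≠ f b) :
    ∃ b' d : α, b' ≠ d ∧ (Pi.single b' (1 : K) - Pi.single d (1 : K) : α → K) ∈ W.toSubmodule := by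
  have hab' : a ≠ b := fun h => hab (h ▸ rfl)
  -- three more points
  have hcard : 2 < (Finset.univ \ {a, b} : Finset α).card := by
    have h1 : (Finset.univ \ {a, b} : Finset α).card = Fintype.card α - ({a, b} : Finset α).card := by
      rw [Finset.card_sdiff_of_subset (Finset.subset_univ _), Finset.card_univ]
    have h2 : ({a, b} : Finset α).card = 2 := Finset.card_pair hab'
    omega
  obtain ⟨c, d, e, hc, hd, he, hcd, hce, hde⟩ := Finset.two_lt_card_iff.mp hcard
  simp only [Finset.mem_sdiff, Finset.mem_univ, Finset.mem_insert, Finset.mem_singleton, true_and,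
    not_or] at hc hd he
  obtain ⟨hca, hcb⟩ := hc
  obtain ⟨hda, hdb⟩ := hd
  obtain ⟨hea, heb⟩ := he
  -- first 3-cycle
  let g1 : alternatingGroup α := ⟨(Equiv.swap b c * Equiv.swap a b)⁻¹,
    Subgroup.inv_mem _ (swap_mul_swap_mem (Ne.symm hcb) hab')⟩
  let h : α → K := f - Cfsg.permRep K (alternatingGroup α) α g1 f
  have hW : h ∈ W.toSubmodule := W.toSubmodule.sub_mem hf (W.apply_mem_toSubmodule g1 hf)
  have hval : ∀ x, h x = f x - f (Equiv.swap b c (Equiv.swap a b x)) := by
    intro x
    change f x - Cfsg.permRep K (alternatingGroup α) α g1 f x = _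
    rw [permRep_apply]
    simp [g1]
  have hb : h b = f b - f a := by
    rw [hval, Equiv.swap_apply_right, Equiv.swap_apply_of_ne_of_ne hab' (Ne.symm hca)]
  have hd0 : h d = 0 := by
    rw [hval, Equiv.swap_apply_of_ne_of_ne hda hdb, Equiv.swap_apply_of_ne_of_ne hdb (Ne.symm hcd),
      sub_self]
  have he0 : h e = 0 := by
    rw [hval, Equiv.swap_apply_of_ne_of_ne hea heb, Equiv.swap_apply_of_ne_of_ne heb (Ne.symm hce),
      sub_self]
  -- second 3-cycle
  let g2 : alternatingGroup α := ⟨(Equiv.swap d e * Equiv.swap b d)⁻¹,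
    Subgroup.inv_mem _ (swap_mul_swap_mem hde (Ne.symm hdb))⟩
  let h2 : α → K := h - Cfsg.permRep K (alternatingGroup α) α g2 h
  have hW2 : h2 ∈ W.toSubmodule := W.toSubmodule.sub_mem hW (W.apply_mem_toSubmodule g2 hW)
  have hval2 : ∀ x, h2 x = h x - h (Equiv.swap d e (Equiv.swap b d x)) := by
    intro x
    change h x - Cfsg.permRep K (alternatingGroup α) α g2 h x = _
    rw [permRep_apply]
    simp [g2]
  have hh2 : h2 = (f b - f a) • (Pi.single b (1 : K) - Pi.single d (1 : K) : α → K) := by
    funext x
    rw [hval2]
    simp only [Pi.smul_apply, Pi.sub_apply, smul_eq_mul]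
    by_cases hxb : x = b
    · subst hxb
      rw [Equiv.swap_apply_left, Equiv.swap_apply_left, he0, hb]
      simp [Ne.symm hdb]
    · by_cases hxd : x = d
      · subst hxd
        rw [Equiv.swap_apply_right, Equiv.swap_apply_of_ne_of_ne (Ne.symm hxb) (Ne.symm heb), hd0, hb]
        simp [hxb]
      · by_cases hxe : x = e
        · subst hxe
          rw [Equiv.swap_apply_of_ne_of_ne hxb hxd, Equiv.swap_apply_right, hd0, he0]
          simp [hxb, hxd]
        · rw [Equiv.swap_apply_of_ne_of_ne hxb hxd, Equiv.swap_apply_of_ne_of_ne hxd hxe]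
          simp [hxb, hxd]
  refine ⟨b, d, Ne.symm hdb, ?_⟩
  have hne : f b - f a ≠ 0 := sub_ne_zero.mpr (Ne.symm hab)
  have : (Pi.single b (1 : K) - Pi.single d (1 : K) : α → K) = (f b - f a)⁻¹ • h2 := by
    rw [hh2, smul_smul, inv_mul_cancel₀ hne, one_smul]
  rw [this]
  exact W.toSubmodule.smul_mem _ hW2

/-- Step 2: all differences of indicator functions -/
theorem single_sub_single_mem (hα : 5 ≤ Fintype.card α)
    (W : Subrepresentation (Cfsg.permRep K (alternatingGroup α) α))
    (b d : α) (hbd : b ≠ d)
    (hu : (Pi.single b (1 : K) - Pi.single d (1 : K) : α → K) ∈ W.toSubmodule) (x y : α) :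
    (Pi.single x (1 : K) - Pi.single y (1 : K) : α → K) ∈ W.toSubmodule := by
  by_cases hxy : x = y
  · subst hxy
    rw [sub_self]
    exact W.toSubmodule.zero_mem
  · obtain ⟨g, hg1, hg2⟩ := alt_two_trans hα hbd hxy
    have := W.apply_mem_toSubmodule g hu
    convert this using 1
    funext z
    rw [permRep_apply]
    simp only [Pi.sub_apply, Pi.single_apply]
    have e1 : ((g : Equiv.Perm α)⁻¹ z = b) ↔ z = x := by
      rw [← hg1]
      constructor
      · intro h; rw [← h]; simp
      · intro h; rw [h]; simp
    have e2 : ((g : Equiv.Perm α)⁻¹ z = d) ↔ z = y := by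
      rw [← hg2]
      constructor
      · intro h; rw [← h]; simp
      · intro h; rw [h]; simp
    simp only [e1, e2]

/-- Step 3: the sum-zero functions -/
theorem sumZero_le (hα : 5 ≤ Fintype.card α)
    (W : Subrepresentation (Cfsg.permRep K (alternatingGroup α) α))
    (f : α → K) (hf : f ∈ W.toSubmodule) (a b : α) (hab : f a ≠ f b) :
    (Cfsg.permSumZero K (alternatingGroup α) α).toSubmodule ≤ W.toSubmodule := by
  obtain ⟨b', d, hbd, hu⟩ := exists_single_sub_single hα W f hf a b hab
  have hall := single_sub_single_mem hα W b' d hbd hu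
  intro v hv
  have hv0 : ∑ x, v x = 0 := hv
  have hdecomp : v = ∑ x, v x • (Pi.single x (1 : K) - Pi.single a (1 : K) : α → K) := by
    funext z
    rw [Finset.sum_apply]
    simp only [Pi.smul_apply, Pi.sub_apply, smul_eq_mul, mul_sub, Finset.sum_sub_distrib,
      Pi.single_apply, mul_ite, mul_one, mul_zero]
    rw [Finset.sum_ite_eq Finset.univ z (fun x => v x)]
    simp only [Finset.mem_univ, if_true]
    by_cases hza : z = a
    · subst hza
      simp [hv0]
    · simp [hza]
  rw [hdecomp]
  apply Submodule.sum_mem
  intro x _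
  exact W.toSubmodule.smul_mem _ (hall x a)

end

/-- Over any field, the permutation module of the alternating group of degree at least 5 has exactly four invariant subspaces: zero, the constant functions, the functions with coordinate sum zero, and everything. -/
theorem result {α : Type*} [Fintype α] [DecidableEq α] (hα : 5 ≤ Fintype.card α) {K : Type*} [Field K] (W : Subrepresentation (Cfsg.permRep K (alternatingGroup α) α)) : W.toSubmodule = ⊥ ∨ W = Cfsg.permConstants K (alternatingGroup α) α ∨ W = Cfsg.permSumZero K (alternatingGroup α) α ∨ W.toSubmodule = ⊤ := by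
  classical
  by_cases hconst : ∀ f ∈ W.toSubmodule, ∀ a b : α, f a = f b
  · -- all functions in W are constant
    by_cases hbot : W.toSubmodule = ⊥
    · exact Or.inl hbot
    · right; left
      apply Subrepresentation.toSubmodule_injective
      change W.toSubmodule = Submodule.span K {fun _ => (1 : K)}
      have hne : Nonempty α := by
        rw [← Fintype.card_pos_iff]; omega
      obtain ⟨a0⟩ := hne
      apply le_antisymm
      · intro f hf
        rw [Submodule.mem_span_singleton]
        refine ⟨f a0, ?_⟩
        funext x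
        simp [hconst f hf x a0]
      · obtain ⟨f, hf, hf0⟩ := (Submodule.ne_bot_iff _).mp hbot
        have hfa : f a0 ≠ 0 := by
          intro h
          apply hf0
          funext x
          rw [hconst f hf x a0, h]; rfl
        rw [Submodule.span_le, Set.singleton_subset_iff]
        have : (fun _ : α => (1 : K)) = (f a0)⁻¹ • f := by
          funext x
          rw [Pi.smul_apply, smul_eq_mul, hconst f hf x a0, inv_mul_cancel₀ hfa]
        rw [this]
        exact W.toSubmodule.smul_mem _ hf
  · push Not at hconst
    obtain ⟨f, hf, a, b, hab⟩ := hconst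
    have hle := sumZero_le hα W f hf a b hab
    right; right
    by_cases heq : W.toSubmodule = (Cfsg.permSumZero K (alternatingGroup α) α).toSubmodule
    · left
      exact Subrepresentation.toSubmodule_injective heq
    · right
      -- some element of W has non-zero sum
      have : ∃ w ∈ W.toSubmodule, ∑ x, w x ≠ 0 := by
        by_contra hcon
        push Not at hcon
        apply heq
        apply le_antisymm _ hle
        intro w hw
        exact hcon w hw
      obtain ⟨w, hw, hws⟩ := this
      rw [eq_top_iff]
      intro v _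
      have hv : v = (v - ((∑ x, v x) / (∑ x, w x)) • w) + ((∑ x, v x) / (∑ x, w x)) • w := by
        rw [sub_add_cancel]
      rw [hv]
      apply W.toSubmodule.add_mem _ (W.toSubmodule.smul_mem _ hw)
      apply hle
      change ∑ x, (v - ((∑ x, v x) / (∑ x, w x)) • w) x = 0
      simp only [Pi.sub_apply, Pi.smul_apply, smul_eq_mul, Finset.sum_sub_distrib, ← Finset.mul_sum]
      rw [div_mul_cancel₀ _ hws, sub_self]

end Cfsg.Agent.S0714
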