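import Cfsg.Statements.S0717
import Mathlib
import Cfsg.Agent.Lib.Helper12.PermRepSym
-- import your own Cfsg.Agent.* helpers here

set_option autoImplicit false
open Cfsg

namespace Cfsg.Agent.S0717

open Cfsg.Agent.Lib.Helper12 in
/-- All suborbits of a transitive group are self-paired (every pair of points is interchanged by some group element) if and only if the permutation character is multiplicity-free and each of its irreducible constituents is real-valued. -/
theorem result {G : Type*} [Group G] [Fintype G] {Ω : Type*} [Fintype Ω] [MulAction G Ω] [MulAction.IsPretransitive G Ω] : (∀ a b : Ω, ∃ g : G, g • a = b ∧ g • b = a) ↔ ∀ χ : G → ℂ, Cfsg.IsIrrCharacter G χ → Cfsg.classInner (fun g : G => (Nat.card (MulAction.fixedBy Ω g) : ℂ)) χ ≠ 0 → Cfsg.classInner (fun g : G => (Nat.card (MulAction.fixedBy Ω g) : ℂ)) χ = 1 ∧ ∀ g : G, (starRingEnd ℂ) (χ g) = χ g := by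
  classical
  have hchar : (fun g : G => (Nat.card (MulAction.fixedBy Ω g) : ℂ)) =
      (Cfsg.permRep ℂ G Ω).character := funext (fun g => (permRep_character g).symm)
  rw [hchar]
  constructor
  · intro hsw χ hχ hne
    have hsym := fun S hS => symm_of_swap (G := G) (Ω := Ω) hsw S hS
    refine ⟨?_, real_of_symm hsym χ hχ hne⟩
    rcases multfree_of_comm (Cfsg.permRep ℂ G Ω)
      (fun S T hS hT => comm_of_symm hsym S T hS hT) χ hχ with h | h
    · exact absurd h hne
    · exact h
  · intro hH a b
    exact swap_of_symm (fun S hS => symm_of_multfree_real hH S hS) a b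

end Cfsg.Agent.S0717
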