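import Cfsg.Statements.S0718
import Mathlib
import Cfsg.Agent.Lib.Helper12.PermRepChar
-- import your own Cfsg.Agent.* helpers here

set_option autoImplicit false
open Cfsg

namespace Cfsg.Agent.S0718

open Cfsg.Agent.Lib.Helper12 in
/-- Multiplicity-freeness of the permutation character is equivalent to commutativity of the centraliser ring, i.e. of the algebra of `G`-equivariant endomorphisms of the complex permutation module. -/
theorem result {G : Type*} [Group G] [Fintype G] {Ω : Type*} [Fintype Ω] [MulAction G Ω] : (∀ χ : G → ℂ, Cfsg.IsIrrCharacter G χ → Cfsg.classInner (fun g : G => (Nat.card (MulAction.fixedBy Ω g) : ℂ)) χ = 0 ∨ Cfsg.classInner (fun g : G => (Nat.card (MulAction.fixedBy Ω g) : ℂ)) χ = 1) ↔ ∀ S T : (Ω → ℂ) →ₗ[ℂ] (Ω → ℂ), S ∈ ((Cfsg.permRep ℂ G Ω).linHom (Cfsg.permRep ℂ G Ω)).invariants → T ∈ ((Cfsg.permRep ℂ G Ω).linHom (Cfsg.permRep ℂ G Ω)).invariants → S ∘ₗ T = T ∘ₗ S := by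
  have hchar : (fun g : G => (Nat.card (MulAction.fixedBy Ω g) : ℂ)) =
      (Cfsg.permRep ℂ G Ω).character := funext (fun g => (permRep_character g).symm)
  rw [hchar]
  constructor
  · intro hmf S T hS hT
    exact comm_of_multfree (Cfsg.permRep ℂ G Ω) hmf S T
      (comm_of_mem_invariants _ hS) (comm_of_mem_invariants _ hT)
  · intro hcomm χ hχ
    exact multfree_of_comm (Cfsg.permRep ℂ G Ω)
      (fun S T hS hT => hcomm S T (mem_invariants_of_comm _ hS) (mem_invariants_of_comm _ hT)) χ hχ

end Cfsg.Agent.S0718
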