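import Cfsg.Statements.S0722
import Mathlib
-- import your own Cfsg.Agent.* helpers here

set_option autoImplicit false
open Cfsg

namespace Cfsg.Agent.S0722

open scoped Pointwise

/-- In a primitive group `H`, with `N` a minimal normal subgroup and `K` a point stabiliser, `K ⊓ N` is maximal among proper `K`-invariant subgroups of `N`. -/
theorem result {α : Type*} [Finite α] (H : Subgroup (Equiv.Perm α)) [MulAction.IsPreprimitive H α] (N : Subgroup H) [N.Normal] (hN : N ≠ ⊥) (hmin : ∀ M : Subgroup H, M.Normal → M ≤ N → M = ⊥ ∨ M = N) (a : α) (X : Subgroup H) (hX : X ≤ N) (hKX : MulAction.stabilizer H a ⊓ N ≤ X) (hinv : MulAction.stabilizer H a ≤ Subgroup.normalizer (X : Set H)) : X = MulAction.stabilizer H a ⊓ N ∨ X = N := by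
  -- α is nontrivial, since otherwise H is trivial
  have hnt : Nontrivial α := by
    by_contra hcon
    rw [not_nontrivial_iff_subsingleton] at hcon
    apply hN
    rw [eq_bot_iff]
    intro n _
    rw [Subgroup.mem_bot]
    apply Subtype.ext
    exact Subsingleton.elim _ _
  have hK : IsCoatom (MulAction.stabilizer H a) :=
    (MulAction.isCoatom_stabilizer_iff_preprimitive (G := H) (X := α) a).mpr inferInstance
  set K := MulAction.stabilizer H a with hKdef
  by_cases hle : X ≤ K
  · left
    exact le_antisymm (le_inf hle hX) hKX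
  · right
    have hlt : K < K ⊔ X := by
      refine lt_of_le_of_ne le_sup_left ?_
      intro heq
      apply hle
      rw [heq]
      exact le_sup_right
    have htop : K ⊔ X = ⊤ := hK.2 _ hlt
    apply le_antisymm hX
    intro n hn
    have hmem : n ∈ ((K ⊔ X : Subgroup H) : Set H) := by
      rw [htop]; exact Subgroup.mem_top n
    rw [Subgroup.coe_mul_of_left_le_normalizer_right K X hinv] at hmem
    obtain ⟨k, hk, x, hx, rfl⟩ := hmem
    change k * x ∈ N at hn
    change k * x ∈ X
    have hkN : k ∈ N := by
      have h1 : k = (k * x) * x⁻¹ := by group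
      rw [h1]
      exact N.mul_mem hn (N.inv_mem (hX hx))
    exact X.mul_mem (hKX ⟨hk, hkN⟩) hx

end Cfsg.Agent.S0722
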