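import Cfsg.Statements.S0723
import Cfsg.Agent.S0721
import Cfsg.Agent.S0722
import Cfsg.Agent.Lib.Helper12.ONanScott

set_option autoImplicit false
set_option linter.unusedSectionVars false
open Cfsg

namespace Cfsg.Agent.S0723

open Cfsg.Agent.Lib.Helper12

section transport
variable {H : Type*} [Group H] {N : Subgroup H} [N.Normal] {ι : Type*} {T : Type*} [Group T]

/-- conjugation by `h` transported to the power -/
noncomputable def conjAut (e₀ : N ≃* (ι → T)) (h : H) : (ι → T) ≃* (ι → T) :=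
  (e₀.symm.trans (MulAut.conjNormal h : N ≃* N)).trans e₀

theorem conjAut_apply (e₀ : N ≃* (ι → T)) (h : H) (n : N) :
    conjAut e₀ h (e₀ n) = e₀ (MulAut.conjNormal h n) := by
  simp [conjAut]

theorem conjAut_coe (e₀ : N ≃* (ι → T)) (n : N) (x : ι → T) :
    conjAut e₀ (n : H) x = e₀ n * x * (e₀ n)⁻¹ := by
  obtain ⟨n', rfl⟩ := e₀.surjective x
  rw [conjAut_apply, ← map_inv, ← map_mul, ← map_mul]
  congr 1

/-- pull-back of a subgroup of the power to the ambient group -/
def pull (e₀ : N ≃* (ι → T)) (Q : Subgroup (ι → T)) : Subgroup H :=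
  (Q.comap e₀.toMonoidHom).map N.subtype

theorem mem_pull (e₀ : N ≃* (ι → T)) (Q : Subgroup (ι → T)) (g : H) :
    g ∈ pull e₀ Q ↔ ∃ n : N, e₀ n ∈ Q ∧ (n : H) = g := by
  unfold pull
  rw [Subgroup.mem_map]
  rfl

theorem pull_le (e₀ : N ≃* (ι → T)) (Q : Subgroup (ι → T)) : pull e₀ Q ≤ N := by
  intro g hg
  obtain ⟨n, -, rfl⟩ := (mem_pull e₀ Q g).mp hg
  exact n.2

theorem coe_mem_pull (e₀ : N ≃* (ι → T)) (Q : Subgroup (ι → T)) (n : N) :
    (n : H) ∈ pull e₀ Q ↔ e₀ n ∈ Q := by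
  rw [mem_pull]
  constructor
  · rintro ⟨n', hn', h⟩
    have : n' = n := Subtype.ext h
    rw [← this]
    exact hn'
  · intro h
    exact ⟨n, h, rfl⟩

theorem pull_eq_top (e₀ : N ≃* (ι → T)) (Q : Subgroup (ι → T)) (h : pull e₀ Q = N) : Q = ⊤ := by
  rw [eq_top_iff]
  intro x _
  obtain ⟨n, rfl⟩ := e₀.surjective x
  rw [← coe_mem_pull, h]
  exact n.2

theorem pull_eq_bot (e₀ : N ≃* (ι → T)) (Q : Subgroup (ι → T)) (h : pull e₀ Q = ⊥) : Q = ⊥ := by
  rw [eq_bot_iff]
  intro x hx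
  obtain ⟨n, rfl⟩ := e₀.surjective x
  rw [← coe_mem_pull, h, Subgroup.mem_bot] at hx
  have : n = 1 := Subtype.ext hx
  rw [this, map_one]
  exact Subgroup.one_mem _

theorem mem_normalizer_pull (e₀ : N ≃* (ι → T)) (h : H) (Q : Subgroup (ι → T))
    (hQ : ∀ x, x ∈ Q ↔ conjAut e₀ h x ∈ Q) :
    h ∈ Subgroup.normalizer (pull e₀ Q : Set H) := by
  rw [Subgroup.mem_normalizer_iff]
  intro g
  constructor
  · intro hg
    obtain ⟨n, hn, rfl⟩ := (mem_pull e₀ Q g).mp hg
    rw [mem_pull]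
    refine ⟨MulAut.conjNormal h n, ?_, MulAut.conjNormal_apply h n⟩
    rw [← conjAut_apply]
    exact (hQ _).mp hn
  · intro hg
    obtain ⟨n', hn', heq⟩ := (mem_pull e₀ Q _).mp hg
    have hgN : g ∈ N := by
      have h1 : g = h⁻¹ * (n' : H) * h⁻¹⁻¹ := by
        rw [heq]
        group
      rw [h1]
      exact (inferInstance : N.Normal).conj_mem _ n'.2 h⁻¹
    rw [mem_pull]
    refine ⟨⟨g, hgN⟩, ?_, rfl⟩
    rw [hQ, conjAut_apply]
    have h2 : MulAut.conjNormal h ⟨g, hgN⟩ = n' := by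
      apply Subtype.ext
      rw [MulAut.conjNormal_apply]
      exact heq.symm
    rw [h2]
    exact hn'

theorem normal_invariant (e₀ : N ≃* (ι → T)) (M : Subgroup (ι → T)) (hM : M.Normal) (n : N)
    (x : ι → T) : x ∈ M ↔ conjAut e₀ (n : H) x ∈ M := by
  rw [conjAut_coe]
  constructor
  · intro hx
    exact hM.conj_mem x hx _
  · intro hx
    have h1 : x = (e₀ n)⁻¹ * (e₀ n * x * (e₀ n)⁻¹) * (e₀ n)⁻¹⁻¹ := by group
    rw [h1]
    exact hM.conj_mem _ hx _

end transport

/-- The core of the O'Nan–Scott Theorem. Let `H` be a primitive permutation group on a finite set whose unique minimal normal subgroup `N` is non-abelian, and `K` a point stabiliser. Then there are a non-abelian simple group `T` and an isomorphism `N ≃* T^m` (`m ≥ 1`) under which `K ⊓ N` becomes either a product `∏ K_i` of proper subgroups `K_i < T`, or the set of functions constant on each block of a partition of the index set into blocks of one common size `k ≥ 2`. -/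
theorem result {α : Type*} [Finite α] (H : Subgroup (Equiv.Perm α)) [MulAction.IsPreprimitive H α] (N : Subgroup H) [N.Normal] (hN : N ≠ ⊥) (hmin : ∀ M : Subgroup H, M.Normal → M ≤ N → M = ⊥ ∨ M = N) (huniq : ∀ L : Subgroup H, L.Normal → L ≠ ⊥ → (∀ M : Subgroup H, M.Normal → M ≤ L → M = ⊥ ∨ M = L) → L = N) (hnab : ¬ IsMulCommutative N) (a : α) : ∃ (T : Type) (_ : Group T) (m : ℕ) (e : N ≃* (Fin m → T)), IsSimpleGroup T ∧ ¬ IsMulCommutative T ∧ 0 < m ∧ ((∃ K : Fin m → Subgroup T, (∀ i, K i ≠ ⊤) ∧ ∀ n : N, (n : H) ∈ MulAction.stabilizer H a ↔ ∀ i, e n i ∈ K i) ∨ (∃ (k : ℕ) (c : Fin m → Fin m), 2 ≤ k ∧ (∀ j : Fin m, Nat.card {i : Fin m // c i = j} = k ∨ Nat.card {i : Fin m // c i = j} = 0) ∧ ∀ n : N, (n : H) ∈ MulAction.stabilizer H a ↔ ∀ i j : Fin m, c i = c j → e n i = e n j)) := by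
  classical
  -- α is nontrivial, since otherwise H is trivial
  have hnt : Nontrivial α := by
    by_contra hcon
    rw [not_nontrivial_iff_subsingleton] at hcon
    apply hN
    rw [eq_bot_iff]
    intro n _
    rw [Subgroup.mem_bot]
    apply Subtype.ext
    exact Subsingleton.elim _ _
  have hKco : IsCoatom (MulAction.stabilizer H a) :=
    (MulAction.isCoatom_stabilizer_iff_preprimitive (G := H) (X := α) a).mpr inferInstance
  set K := MulAction.stabilizer H a with hKdef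
  have hNn : N.Normal := inferInstance
  -- an element all of whose conjugates lie in `K` is trivial
  have hfix : ∀ f : H, (∀ h : H, h⁻¹ * f * h ∈ K) → f = 1 := by
    intro f hf
    apply Subtype.ext
    apply Equiv.ext
    intro b
    obtain ⟨h, rfl⟩ := MulAction.exists_smul_eq H a b
    have h1 := hf h
    rw [hKdef, MulAction.mem_stabilizer_iff] at h1
    have key : f • (h • a) = h • a := by
      have h2 : f * h = h * (h⁻¹ * f * h) := by group
      rw [← mul_smul, h2, mul_smul, h1]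
    exact key
  -- `N` is not contained in `K`
  have hNK : ¬ N ≤ K := by
    intro hle
    apply hN
    rw [eq_bot_iff]
    intro n hn
    rw [Subgroup.mem_bot]
    apply hfix
    intro h
    apply hle
    have := hNn.conj_mem n hn h⁻¹
    rwa [inv_inv] at this
  have hKN : K ⊔ N = ⊤ := by
    apply hKco.2
    refine lt_of_le_of_ne le_sup_left ?_
    intro heq
    apply hNK
    rw [heq]
    exact le_sup_right
  have hdec : ∀ h : H, ∃ κ ∈ K, ∃ n ∈ N, h = κ * n := by
    intro h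
    have hmem : h ∈ ((K ⊔ N : Subgroup H) : Set H) := by
      rw [hKN]
      trivial
    rw [Subgroup.mul_normal] at hmem
    obtain ⟨κ, hκ, n, hn, rfl⟩ := hmem
    exact ⟨κ, hκ, n, hn, rfl⟩
  -- the structure of `N`
  obtain ⟨T, instT, m, hTs, hm, ⟨e₀⟩⟩ := Cfsg.Agent.S0721.result N hN hmin
  have hT : ¬ IsMulCommutative T := by
    intro hc
    apply hnab
    constructor
    constructor
    intro x y
    apply e₀.injective
    rw [map_mul, map_mul]
    funext i
    rw [Pi.mul_apply, Pi.mul_apply]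
    exact hc.is_comm.comm _ _
  have hne : Nonempty (Fin m) := ⟨⟨0, hm⟩⟩
  -- the subgroup corresponding to `K ⊓ N`
  let L : Subgroup (Fin m → T) := (K.comap N.subtype).map e₀.toMonoidHom
  have hL : ∀ n : N, e₀ n ∈ L ↔ (n : H) ∈ K := by
    intro n
    constructor
    · rintro ⟨n', hn', h⟩
      have : n' = n := e₀.injective h
      rw [← this]
      exact hn'
    · intro h
      exact ⟨n, h, rfl⟩
  let A : Set ((Fin m → T) ≃* (Fin m → T)) := {φ | ∃ κ ∈ K, φ = conjAut e₀ κ}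
  have hinvL : ∀ φ ∈ A, ∀ x, x ∈ L ↔ φ x ∈ L := by
    rintro φ ⟨κ, hκ, rfl⟩ x
    obtain ⟨n, rfl⟩ := e₀.surjective x
    rw [conjAut_apply, hL, hL, MulAut.conjNormal_apply]
    constructor
    · intro h
      exact K.mul_mem (K.mul_mem hκ h) (K.inv_mem hκ)
    · intro h
      have h1 : (n : H) = κ⁻¹ * (κ * n * κ⁻¹) * κ := by group
      rw [h1]
      exact K.mul_mem (K.mul_mem (K.inv_mem hκ) h) hκ
  have hmaxL : ∀ P : Subgroup (Fin m → T), L ≤ P → (∀ φ ∈ A, ∀ x, x ∈ P ↔ φ x ∈ P) →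
      P = L ∨ P = ⊤ := by
    intro P hLP hPinv
    have h1 := Cfsg.Agent.S0722.result H N hN hmin a (pull e₀ P) (pull_le e₀ P) (by
      rintro g ⟨hgK, hgN⟩
      rw [mem_pull]
      exact ⟨⟨g, hgN⟩, hLP ((hL _).mpr hgK), rfl⟩) (by
      intro κ hκ
      exact mem_normalizer_pull e₀ κ P (hPinv _ ⟨κ, hκ, rfl⟩))
    rcases h1 with h1 | h1
    · left
      apply le_antisymm _ hLP
      intro x hx
      obtain ⟨n, rfl⟩ := e₀.surjective x
      rw [← coe_mem_pull, h1] at hx
      exact (hL n).mpr hx.1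
    · right
      exact pull_eq_top e₀ P h1
  have hminL : ∀ M : Subgroup (Fin m → T), M.Normal → (∀ φ ∈ A, ∀ x, x ∈ M ↔ φ x ∈ M) →
      M = ⊥ ∨ M = ⊤ := by
    intro M hM hMinv
    have hnorm : (pull e₀ M).Normal := by
      rw [← Subgroup.normalizer_eq_top_iff, eq_top_iff, ← hKN]
      apply sup_le
      · intro κ hκ
        exact mem_normalizer_pull e₀ κ M (hMinv _ ⟨κ, hκ, rfl⟩)
      · intro n hn
        exact mem_normalizer_pull e₀ n M (fun x => normal_invariant e₀ M hM ⟨n, hn⟩ x)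
    rcases hmin (pull e₀ M) hnorm (pull_le e₀ M) with h1 | h1
    · left
      exact pull_eq_bot e₀ M h1
    · right
      exact pull_eq_top e₀ M h1
  have hcoreL : ∀ M : Subgroup (Fin m → T), M.Normal → M ≤ L → M = ⊥ := by
    intro M hM hML
    apply pull_eq_bot e₀
    rw [eq_bot_iff]
    intro f hf
    rw [Subgroup.mem_bot]
    have hFK : ∀ g ∈ pull e₀ M, g ∈ K := by
      intro g hg
      obtain ⟨n, hn, rfl⟩ := (mem_pull e₀ M g).mp hg
      exact (hL n).mp (hML hn)
    apply hfix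
    intro h
    obtain ⟨κ, hκ, n, hn, hdecomp⟩ := hdec h⁻¹
    have h1 : h⁻¹ * f * h = κ * (n * f * n⁻¹) * κ⁻¹ := by
      have h2 : h = (κ * n)⁻¹ := by rw [← hdecomp, inv_inv]
      rw [h2]
      group
    rw [h1]
    have h3 : n * f * n⁻¹ ∈ pull e₀ M := by
      have := mem_normalizer_pull e₀ n M (fun x => normal_invariant e₀ M hM ⟨n, hn⟩ x)
      rw [Subgroup.mem_normalizer_iff] at this
      exact (this f).mp hf
    exact K.mul_mem (K.mul_mem hκ (hFK _ h3)) (K.inv_mem hκ)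
  rcases onan_scott_abstract hT L A hinvL hmaxL hminL hcoreL with
    ⟨K', hK', hiff⟩ | ⟨k, c, Ψ, hk2, hcard, hiff⟩
  · refine ⟨T, instT, m, e₀, hTs, hT, hm, Or.inl ⟨K', hK', fun n => ?_⟩⟩
    rw [← hL, hiff]
  · refine ⟨T, instT, m, e₀.trans (MulEquiv.piCongrRight Ψ), hTs, hT, hm,
      Or.inr ⟨k, c, hk2, hcard, fun n => ?_⟩⟩
    rw [← hL, hiff]
    rfl

end Cfsg.Agent.S0723
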