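import Cfsg.Statements.S0724
import Mathlib
-- import your own Cfsg.Agent.* helpers here

set_option autoImplicit false
open Cfsg

namespace Cfsg.Agent.S0724

open MulAction

/-- the fixed points of `g` on `Fin k → α` -/
theorem card_fixedBy_pi {G α : Type*} [Group G] [MulAction G α] [Finite α] (g : G) (k : ℕ) :
    Nat.card (fixedBy (Fin k → α) g) = Nat.card (fixedBy α g) ^ k := by
  have e : fixedBy (Fin k → α) g ≃ (Fin k → fixedBy α g) :=
    { toFun := fun f i => ⟨f.1 i, by
        have := f.2
        rw [mem_fixedBy] at this ⊢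
        exact congrFun this i⟩
      invFun := fun f => ⟨fun i => (f i).1, by
        rw [mem_fixedBy]
        funext i
        exact (f i).2⟩
      left_inv := fun f => rfl
      right_inv := fun f => rfl }
  rw [Nat.card_congr e, Nat.card_fun, Nat.card_fin]

/-- Burnside's lemma, in divisibility form, for the `k`-th power of the number of fixed points -/
theorem card_dvd_sum_pow {G α : Type*} [Group G] [Fintype G] [MulAction G α] [Finite α] (k : ℕ) :
    (Nat.card G : ℤ) ∣ ∑ g : G, (Nat.card (fixedBy α g) : ℤ) ^ k := by
  classical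
  have : Fintype α := Fintype.ofFinite α
  have hB := sum_card_fixedBy_eq_card_orbits_mul_card_group G (Fin k → α)
  have h1 : ∑ g : G, (Nat.card (fixedBy α g) : ℤ) ^ k =
      ((∑ g : G, Fintype.card (fixedBy (Fin k → α) g) : ℕ) : ℤ) := by
    push_cast
    apply Finset.sum_congr rfl
    intro g _
    rw [← Nat.card_eq_fintype_card, card_fixedBy_pi]
    push_cast
    rfl
  rw [h1, hB, Nat.card_eq_fintype_card]
  push_cast
  exact Dvd.intro_left _ rfl

/-- Blichfeldt's Theorem: if a finite set `L` of natural numbers contains the number of fixed points of every non-identity element of a permutation group `G` of degree `n`, then the order of `G` divides `∏ (n - l)` over `l ∈ L`. -/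
theorem result {α : Type*} [Fintype α] [DecidableEq α] (G : Subgroup (Equiv.Perm α)) (L : Finset ℕ) (hL : ∀ g ∈ G, g ≠ 1 → Nat.card (MulAction.fixedBy α g) ∈ L) : Nat.card G ∣ ∏ l ∈ L, (Fintype.card α - l) := by
  classical
  by_cases hbig : ∃ l ∈ L, Fintype.card α < l
  · obtain ⟨l, hl, hlt⟩ := hbig
    rw [Finset.prod_eq_zero hl (by omega)]
    exact dvd_zero _
  · push Not at hbig
    have : Fintype G := Fintype.ofFinite G
    -- the sum of the polynomial values
    have hsum : ∑ g : G, ∏ l ∈ L, ((Nat.card (fixedBy α g) : ℤ) - l) =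
        ∏ l ∈ L, ((Fintype.card α : ℤ) - l) := by
      rw [Finset.sum_eq_single (1 : G)]
      · have : Nat.card (fixedBy α (1 : G)) = Fintype.card α := by
          rw [fixedBy_one_eq_univ, Nat.card_coe_set_eq, Set.ncard_univ, Nat.card_eq_fintype_card]
        rw [this]
      · intro g _ hg
        have hg' : (g : Equiv.Perm α) ≠ 1 := fun h => hg (Subtype.ext h)
        have := hL g.1 g.2 hg'
        apply Finset.prod_eq_zero this
        have : fixedBy α g = fixedBy α (g : Equiv.Perm α) := rfl
        rw [this, sub_self]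
      · intro h; exact absurd (Finset.mem_univ _) h
    have hdvd : (Nat.card G : ℤ) ∣ ∑ g : G, ∏ l ∈ L, ((Nat.card (fixedBy α g) : ℤ) - l) := by
      have hexp : ∀ g : G, ∏ l ∈ L, ((Nat.card (fixedBy α g) : ℤ) - l) =
          ∑ t ∈ L.powerset, (Nat.card (fixedBy α g) : ℤ) ^ t.card * ∏ l ∈ L \ t, (-(l : ℤ)) := by
        intro g
        simp_rw [sub_eq_add_neg]
        rw [Finset.prod_add]
        apply Finset.sum_congr rfl
        intro t _
        rw [Finset.prod_const]
      simp_rw [hexp]
      rw [Finset.sum_comm]
      apply Finset.dvd_sum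
      intro t _
      rw [← Finset.sum_mul]
      exact Dvd.dvd.mul_right (card_dvd_sum_pow t.card) _
    rw [hsum] at hdvd
    have hcast : ((∏ l ∈ L, (Fintype.card α - l) : ℕ) : ℤ) = ∏ l ∈ L, ((Fintype.card α : ℤ) - l) := by
      push_cast
      apply Finset.prod_congr rfl
      intro l hl
      rw [Nat.cast_sub (hbig l hl)]
    rw [← hcast] at hdvd
    exact Int.natCast_dvd_natCast.mp hdvd

end Cfsg.Agent.S0724
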