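import Cfsg.Statements.S0726
-- import your own Cfsg.Agent.* helpers here

set_option autoImplicit false
open Cfsg

namespace Cfsg.Agent.S0726

theorem mem_centralizer_left_iff {G : Type*} [Group G] (c : Equiv.Perm G) :
    c ∈ Subgroup.centralizer ((MulAction.toPermHom G G).range : Set (Equiv.Perm G)) ↔
      c = MulAction.toPermHom Gᵐᵒᵖ G (MulOpposite.op (c 1)) := by
  constructor
  · intro hc
    ext g
    have h1 := (Subgroup.mem_centralizer_iff.mp hc) (MulAction.toPermHom G G g) ⟨g, rfl⟩
    have := congrArg (fun σ : Equiv.Perm G => σ 1) h1
    simp only [Equiv.Perm.coe_mul, Function.comp_apply, MulAction.toPermHom_apply,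
      MulAction.toPerm_apply, smul_eq_mul, mul_one] at this
    simp only [MulAction.toPermHom_apply, MulAction.toPerm_apply, MulOpposite.smul_eq_mul_unop,
      MulOpposite.unop_op]
    exact this.symm
  · intro hc
    rw [Subgroup.mem_centralizer_iff]
    rintro _ ⟨g, rfl⟩
    rw [hc]
    ext x
    simp [mul_assoc]

/-- The left and right regular permutation representations of a group are each other's centralisers in the symmetric group: the centraliser of the left regular image is the right regular image, and a transitive subgroup centralising the left regular image is the whole right regular image. -/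
theorem result {G : Type*} [Group G] : Subgroup.centralizer ((MulAction.toPermHom G G).range : Set (Equiv.Perm G)) = (MulAction.toPermHom Gᵐᵒᵖ G).range ∧ ∀ H : Subgroup (Equiv.Perm G), H ≤ Subgroup.centralizer ((MulAction.toPermHom G G).range : Set (Equiv.Perm G)) → MulAction.IsPretransitive H G → H = (MulAction.toPermHom Gᵐᵒᵖ G).range := by
  have h1 : Subgroup.centralizer ((MulAction.toPermHom G G).range : Set (Equiv.Perm G)) =
      (MulAction.toPermHom Gᵐᵒᵖ G).range := by
    ext c
    constructor
    · intro hc
      exact ⟨_, ((mem_centralizer_left_iff c).mp hc).symm⟩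
    · rintro ⟨x, rfl⟩
      rw [mem_centralizer_left_iff]
      simp
  refine ⟨h1, ?_⟩
  intro H hH htr
  apply le_antisymm (h1 ▸ hH)
  rintro _ ⟨x, rfl⟩
  obtain ⟨h, hh⟩ := MulAction.exists_smul_eq H (1 : G) (MulOpposite.unop x)
  have h2 := (mem_centralizer_left_iff h.1).mp (hH h.2)
  have h3 : h.1 1 = MulOpposite.unop x := hh
  rw [h3, MulOpposite.op_unop] at h2
  rw [← h2]
  exact h.2

end Cfsg.Agent.S0726
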