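import Cfsg.Statements.S0731
import Cfsg.Agent.S0742
import Cfsg.Agent.S0885
import Cfsg.Agent.Lib.Helper6.ZassOdd5

set_option autoImplicit false
open Cfsg

namespace Cfsg.Agent.S0731

open Cfsg.Agent.Lib.Helper6.ZassPSL
open scoped MatrixGroups

set_option linter.style.haveILetI false

/-- A finite Zassenhaus group whose point stabiliser has an abelian regular normal subgroup on the remaining points is sharply triply transitive or isomorphic to `PSL(2, F)` for a finite field `F` of odd characteristic. -/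
theorem result {G Ω : Type*} [Group G] [Finite G] [MulAction G Ω] [Finite Ω] (hZ : Cfsg.IsZassenhausGroup G Ω) (x : Ω) (F : Subgroup G) (hFle : F ≤ MulAction.stabilizer G x) (hFn : (F.subgroupOf (MulAction.stabilizer G x)).Normal) (hFab : IsMulCommutative F) (hreg : ∀ y z : Ω, y ≠ x → z ≠ x → ∃! u : F, (u : G) • y = z) : (MulAction.IsMultiplyPretransitive G Ω 3 ∧ ∀ t : Fin 3 ↪ Ω, MulAction.stabilizer G t = ⊥) ∨ ∃ (K : Type) (_ : Field K) (_ : Fintype K), ringChar K ≠ 2 ∧ Nonempty (G ≃* Matrix.ProjectiveSpecialLinearGroup (Fin 2) K) := by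
  classical
  letI : Fintype Ω := Fintype.ofFinite Ω
  -- a second point
  obtain ⟨b, hb⟩ : ∃ b : Ω, x ≠ b := by
    obtain ⟨g, -, c, d, hcd, -, -⟩ := hZ.2.2.2.1
    by_cases h : x = c
    · exact ⟨d, h ▸ hcd⟩
    · exact ⟨c, h⟩
  -- the kernel in the shapes needed
  have hFconj : ∀ g : G, g • x = x → ∀ u ∈ F, g * u * g⁻¹ ∈ F := by
    intro g hg u hu
    have h := hFn.conj_mem ⟨u, hFle hu⟩ (Subgroup.mem_subgroupOf.mpr hu) ⟨g, hg⟩
    exact Subgroup.mem_subgroupOf.mp h
  have hFcomm : ∀ u ∈ F, ∀ v ∈ F, u * v = v * u := by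
    intro u hu v hv
    have := hFab.is_comm.comm (⟨u, hu⟩ : F) ⟨v, hv⟩
    exact congrArg Subtype.val this
  have hFtr : ∀ y z : Ω, y ≠ x → z ≠ x → ∃ u ∈ F, u • y = z := by
    intro y z hy hz
    obtain ⟨u, hu, -⟩ := hreg y z hy hz
    exact ⟨u, u.2, hu⟩
  have hFfree : ∀ u ∈ F, ∀ c : Ω, c ≠ x → u • c = c → u = 1 := by
    intro u hu c hc huc
    obtain ⟨w, -, hw⟩ := hreg c c hc hc
    have h1 := hw ⟨u, hu⟩ huc
    have h2 := hw 1 (one_smul _ _)
    exact congrArg Subtype.val (h1.trans h2.symm)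
  have hFcard := kernel_card hb F hFle hFtr hFfree
  have hFfix : ∀ u ∈ F, u ≠ 1 → ∀ c : Ω, u • c = c → c = x := by
    intro u hu hu1 c hc
    by_contra hca
    exact hu1 (hFfree u hu c hca hc)
  have hΩge : 2 ≤ Fintype.card Ω := Fintype.one_lt_card_iff_nontrivial.mpr ⟨⟨x, b, hb⟩⟩
  rcases stab2_card_cases hZ hb with hd | hd
  · exact Or.inl (sharp3_of_card hZ hb hd)
  · right
    rcases Nat.even_or_odd (Nat.card ↥(MulAction.stabilizer G x ⊓ MulAction.stabilizer G b))
      with heven | hodd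
    · obtain ⟨p, f, K, fK, ftK, hp, hp2, hcardK, -, hiso⟩ :=
        Cfsg.Agent.S0742.result hZ hb heven hd
      refine ⟨K, fK, ftK, ?_, hiso⟩
      intro h2
      have hev := FiniteField.even_card_of_char_two h2
      rw [hcardK] at hev
      have h2p : 2 ∣ p ^ f := Nat.dvd_of_mod_eq_zero hev
      have := Nat.Prime.dvd_of_dvd_pow Nat.prime_two h2p
      exact hp2 ((Nat.prime_dvd_prime_iff_eq Nat.prime_two hp).mp this).symm
    · have h885 := Cfsg.Agent.S0885.result hZ hb (Fintype.card Ω - 1) _ (by omega) rfl hodd F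
        hFle hFcard hFfix
      have hle : Fintype.card Ω - 1 - 1 ≤
          2 * Nat.card ↥(MulAction.stabilizer G x ⊓ MulAction.stabilizer G b) := by
        rcases h885 with h | ⟨-, ⟨u, v, huv⟩, -⟩
        · exact h
        · exfalso
          apply huv
          exact Subtype.ext (hFcomm u u.2 v v.2)
      exact psl_of_odd_half hZ hb hodd (by omega) F hFle hFconj hFcomm hFtr hFfree

end Cfsg.Agent.S0731
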