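import Cfsg.Statements.S0732
import Cfsg.Agent.S0731
import Cfsg.Agent.Lib.Helper12.DegP1A
import Cfsg.Agent.Lib.Helper12.DegP1B
import Cfsg.Agent.Lib.Helper12.DegP1C
import Cfsg.Agent.Lib.Helper59.SharpTwo
import Cfsg.Agent.Lib.Helper65.AffineP1

set_option autoImplicit false
open Cfsg

namespace Cfsg.Agent.S0732

open MulAction Cfsg.Agent.Lib.Helper12.DegP1

/-- **Module E**: for `d = 1` the group is sharply doubly transitive, hence has a regular normal
subgroup. -/
theorem exists_regular_of_d_one {α : Type*} [Fintype α] [DecidableEq α] {p : ℕ} (hp : p.Prime)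
    (hα : Fintype.card α = p + 1) (G : Subgroup (Equiv.Perm α)) [MulAction.IsPretransitive G α]
    (hG : Nat.card G = (p + 1) * p * 1)
    (hcard2 : ∀ {a b : α}, a ≠ b →
      Nat.card (stabilizer G a ⊓ stabilizer G b : Subgroup G) = 1) :
    ∃ N : Subgroup G, N.Normal ∧ (∀ a b : α, ∃ n ∈ N, n • a = b) ∧
      (∀ n ∈ N, ∀ a : α, n • a = a → n = 1) := by
  classical
  have hfix2 : ∀ (g : G) (a b : α), a ≠ b → g • a = a → g • b = b → g = 1 := by
    intro g a b hab ha hb
    have h1 := hcard2 hab
    have hsub : Subsingleton (stabilizer G a ⊓ stabilizer G b : Subgroup G) :=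
      (Nat.card_eq_one_iff_unique.mp h1).1
    have hmem : g ∈ (stabilizer G a ⊓ stabilizer G b : Subgroup G) :=
      ⟨mem_stabilizer_iff.mpr ha, mem_stabilizer_iff.mpr hb⟩
    have := Subsingleton.elim (⟨g, hmem⟩ : (stabilizer G a ⊓ stabilizer G b : Subgroup G)) 1
    exact congrArg Subtype.val this
  have hcα : Nat.card α = p + 1 := by rw [Nat.card_eq_fintype_card, hα]
  have hn : 2 ≤ Nat.card α := by
    rw [hcα]
    have := hp.two_le
    omega
  have hcard : Nat.card G = Nat.card α * (Nat.card α - 1) := by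
    rw [hG, hcα]
    simp
  obtain ⟨N, hNn, hNmem, hNcard, -, -⟩ :=
    Cfsg.Agent.Lib.Helper59.exists_regular_normal (G := G) (Ω := α) hfix2 hn hcard
  have hNs : ∀ n ∈ N, ∀ a : α, n • a = a → n = 1 := by
    intro n hn a ha
    rcases (hNmem n).mp hn with h | h
    · exact h
    · exact absurd ha (h a)
  refine ⟨N, hNn, ?_, hNs⟩
  intro a b
  have hfinN : Finite N := inferInstance
  have hinj : Function.Injective (fun n : N => (n : G) • a) := by
    intro n m hnm
    have h1 : ((m : G)⁻¹ * (n : G)) • a = a := by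
      rw [mul_smul]
      simp only at hnm
      rw [hnm, inv_smul_smul]
    have h2 := hNs _ (N.mul_mem (N.inv_mem m.2) n.2) a h1
    apply Subtype.ext
    rw [inv_mul_eq_one] at h2
    exact h2.symm
  have hbij : Function.Bijective (fun n : N => (n : G) • a) := by
    rw [Nat.bijective_iff_injective_and_card]
    exact ⟨hinj, hNcard⟩
  obtain ⟨n, hn⟩ := hbij.2 b
  exact ⟨n, n.2, hn⟩

/-- A transitive permutation group on `p + 1` points (`p` prime) of order `(p+1) p d` with `d < p` is isomorphic to `PGL(2,p)` with `d = p - 1`, or to `PSL(2,p)` with `2d = p - 1`, or else `p + 1 = 2^q` for a prime `q`, `d = 1` or `d = q`, and the group is permutation-isomorphic to a group of semi-affine maps `x ↦ a φ(x) + b` of the field with `2^q` elements. -/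
theorem result {α : Type*} [Fintype α] [DecidableEq α] {p d : ℕ} (hp : p.Prime) (hα : Fintype.card α = p + 1) (G : Subgroup (Equiv.Perm α)) [MulAction.IsPretransitive G α] (hG : Nat.card G = (p + 1) * p * d) (hd : d < p) : (d = p - 1 ∧ Nonempty (G ≃* Matrix.ProjGenLinGroup (Fin 2) (ZMod p))) ∨ (2 * d = p - 1 ∧ Nonempty (G ≃* Matrix.ProjectiveSpecialLinearGroup (Fin 2) (ZMod p))) ∨ (∃ q : ℕ, q.Prime ∧ p + 1 = 2 ^ q ∧ (d = 1 ∨ d = q) ∧ ∃ e : α ≃ GaloisField 2 q, ∀ g : G, (e.symm.trans (((g : Equiv.Perm α)).trans e)) ∈ Cfsg.semiaffineGroup (GaloisField 2 q)) := by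
  classical
  have hker := fun a : α => exists_kernel hp hα G hG hd a
  have hstab := fun a : α => card_stabilizer hα G hG a
  have h3 : ∀ (g : G) {a b c : α}, a ≠ b → a ≠ c → b ≠ c → g • a = a → g • b = b → g • c = c →
      g = 1 := fun g {a b c} hab hac hbc ha hb hc => three_point hp G hker g hab hac hbc ha hb hc
  have hcard2 : ∀ {a b : α}, a ≠ b →
      Nat.card (stabilizer G a ⊓ stabilizer G b : Subgroup G) = d :=
    fun {a b} hab => card_two_stabilizer G hker hstab hab
  have hd0 : d ≠ 0 := by
    rintro rfl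
    have := Nat.card_pos (α := G)
    omega
  by_cases hdp : d = p - 1
  · -- `PGL(2,p)`
    left
    refine ⟨hdp, ?_⟩
    apply pgl_case hp hα G (fun {a b c e} hab hce => two_trans G hker hab hce) h3
    intro a b hab
    rw [hcard2 hab, hdp]
  · right
    have hd1 : d < p - 1 := by omega
    by_cases hreg : ∃ N : Subgroup G, N.Normal ∧ (∀ a b : α, ∃ n ∈ N, n • a = b) ∧
        (∀ n ∈ N, ∀ a : α, n • a = a → n = 1)
    · right
      obtain ⟨N, hNn, hNt, hNs⟩ := hreg
      exact Cfsg.Agent.Lib.Helper65.AffineP1.affine_case hp hα G hG hd1 N hNn hNt hNs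
    · left
      have hd2 : 1 < d := by
        by_contra hd2
        have hd1' : d = 1 := by omega
        subst hd1'
        exact hreg (exists_regular_of_d_one hp hα G hG (fun {a b} hab => hcard2 hab))
      have hnoreg : ∀ N : Subgroup G, N.Normal → IsPretransitive N α →
          ∃ a : α, stabilizer N a ≠ ⊥ := by
        intro N hNn hNt
        by_contra hcon
        push Not at hcon
        apply hreg
        refine ⟨N, hNn, ?_, ?_⟩
        · intro a b
          obtain ⟨n, hn⟩ := exists_smul_eq N a b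
          exact ⟨n, n.2, hn⟩
        · intro n hn a ha
          have hmem : (⟨n, hn⟩ : N) ∈ stabilizer N a := mem_stabilizer_iff.mpr ha
          rw [hcon a, Subgroup.mem_bot] at hmem
          exact congrArg Subtype.val hmem
      exact zassenhaus_case hp hα G hG hd hd1 hd2 hnoreg
        (fun hZ x F h1 h2 h3 h4 => Cfsg.Agent.S0731.result hZ x F h1 h2 h3 h4)

end Cfsg.Agent.S0732
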