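import Cfsg.Statements.S0733
import Mathlib

set_option autoImplicit false
open Cfsg

namespace Cfsg.Agent.S0733

open scoped Pointwise

/-- A permutation group of affine type — generated by the translations of a finite vector space `V` over `ZMod p` together with a group `G₀` of linear automorphisms — is primitive on `V` if and only if `G₀` is irreducible on `V`. -/
theorem result {p : ℕ} [Fact p.Prime] {V : Type*} [AddCommGroup V] [Module (ZMod p) V] [Finite V] [Nontrivial V] (G₀ : Subgroup (V ≃ₗ[ZMod p] V)) (G : Subgroup (Equiv.Perm V)) (hG : ∀ σ : Equiv.Perm V, σ ∈ G ↔ ∃ g ∈ G₀, ∃ b : V, ∀ x : V, σ x = (g : V ≃ₗ[ZMod p] V) x + b) : MulAction.IsPreprimitive G V ↔ ∀ W : Submodule (ZMod p) V, (∀ g ∈ G₀, ∀ v ∈ W, (g : V ≃ₗ[ZMod p] V) v ∈ W) → W = ⊥ ∨ W = ⊤ := by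
  classical
  -- translations and linear maps in G
  have htrans : ∀ b : V, ∃ σ : G, ∀ x : V, (σ : Equiv.Perm V) x = x + b := by
    intro b
    refine ⟨⟨Equiv.addRight b, (hG _).mpr ⟨1, G₀.one_mem, b, fun x => by simp⟩⟩, fun x => rfl⟩
  have hlin : ∀ g ∈ G₀, ∃ σ : G, ∀ x : V, (σ : Equiv.Perm V) x = (g : V ≃ₗ[ZMod p] V) x := by
    intro g hg
    refine ⟨⟨g.toEquiv, (hG _).mpr ⟨g, hg, 0, fun x => by simp⟩⟩, fun x => rfl⟩
  have hsmul : ∀ (σ : G) (x : V), σ • x = (σ : Equiv.Perm V) x := fun σ x => rfl
  have : MulAction.IsPretransitive G V := by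
    refine ⟨fun x y => ?_⟩
    obtain ⟨σ, hσ⟩ := htrans (y - x)
    refine ⟨σ, ?_⟩
    rw [hsmul, hσ]
    abel
  constructor
  · -- primitive → irreducible
    intro hprim W hW
    have hblock : MulAction.IsBlock G (W : Set V) := by
      rw [MulAction.isBlock_iff_smul_eq_of_mem]
      intro σ a ha hσa
      obtain ⟨g, hg, b, hσ⟩ := (hG _).mp σ.2
      have hb : b ∈ W := by
        have h1 : (σ : Equiv.Perm V) a ∈ W := hσa
        rw [hσ] at h1
        have h2 : (g : V ≃ₗ[ZMod p] V) a ∈ W := hW g hg a ha
        have := W.sub_mem h1 h2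
        simpa using this
      ext y
      constructor
      · rintro ⟨w, hw, rfl⟩
        change (σ : Equiv.Perm V) w ∈ W
        rw [hσ]
        exact W.add_mem (hW g hg w hw) hb
      · intro hy
        refine ⟨(g⁻¹ : V ≃ₗ[ZMod p] V) (y - b), ?_, ?_⟩
        · exact hW g⁻¹ (G₀.inv_mem hg) _ (W.sub_mem hy hb)
        · change (σ : Equiv.Perm V) _ = y
          rw [hσ]
          have : (g : V ≃ₗ[ZMod p] V) ((g⁻¹ : V ≃ₗ[ZMod p] V) (y - b)) = y - b := by
            change (g * g⁻¹) (y - b) = y - b
            rw [mul_inv_cancel]; rfl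
          rw [this]; abel
    rcases hprim.isTrivialBlock_of_isBlock hblock with hsub | huniv
    · left
      rw [Submodule.eq_bot_iff]
      intro x hx
      exact hsub hx W.zero_mem
    · right
      rw [Submodule.eq_top_iff']
      intro x
      have : x ∈ (W : Set V) := by rw [huniv]; trivial
      exact this
  · -- irreducible → primitive
    intro hirr
    refine MulAction.IsPreprimitive.of_isTrivialBlock_base (0 : V) ?_
    intro B h0 hB
    -- B is closed under translations by its elements
    have hadd : ∀ b ∈ B, ∀ x, x ∈ B ↔ x + b ∈ B := by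
      intro b hb x
      obtain ⟨σ, hσ⟩ := htrans b
      have hσ0 : σ • (0 : V) ∈ B := by rw [hsmul, hσ, zero_add]; exact hb
      have heq : σ • B = B := hB.smul_eq_of_mem h0 hσ0
      constructor
      · intro hx
        have : σ • x ∈ σ • B := Set.smul_mem_smul_set hx
        rw [heq, hsmul, hσ] at this
        exact this
      · intro hx
        have : x + b ∈ σ • B := by rw [heq]; exact hx
        obtain ⟨w, hw, hwx⟩ := this
        have hwx' : w + b = x + b := by
          have : σ • w = x + b := hwx
          rw [hsmul, hσ] at this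
          exact this
        have : w = x := add_right_cancel hwx'
        rw [← this]; exact hw
    let S : AddSubgroup V :=
      { carrier := B
        zero_mem' := h0
        add_mem' := fun {x y} hx hy => (hadd y hy x).mp hx
        neg_mem' := fun {x} hx => by
          have := (hadd x hx (-x)).mpr (by rw [neg_add_cancel]; exact h0)
          exact this }
    let W : Submodule (ZMod p) V := AddSubgroup.toZModSubmodule p S
    have hWB : (W : Set V) = B := rfl
    have hWinv : ∀ g ∈ G₀, ∀ v ∈ W, (g : V ≃ₗ[ZMod p] V) v ∈ W := by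
      intro g hg v hv
      obtain ⟨σ, hσ⟩ := hlin g hg
      have hσ0 : σ • (0 : V) ∈ B := by rw [hsmul, hσ, map_zero]; exact h0
      have heq : σ • B = B := hB.smul_eq_of_mem h0 hσ0
      have hvB : v ∈ B := hv
      have : σ • v ∈ σ • B := Set.smul_mem_smul_set hvB
      rw [heq, hsmul, hσ] at this
      exact this
    rcases hirr W hWinv with hbot | htop
    · left
      rw [← hWB, hbot]
      simp
    · right
      rw [← hWB, htop]
      rfl

end Cfsg.Agent.S0733
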