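import Cfsg.Statements.S0743
-- import your own Cfsg.Agent.* helpers here

set_option autoImplicit false
open Cfsg

namespace Cfsg.Agent.S0743


/-- `k`-transitivity from transitivity of pointwise stabilisers of small sets on the rest. -/
theorem multiply_pretransitive_of_fixing {G α : Type*} [Group G] [MulAction G α] [DecidableEq α]
    (k : ℕ)
    (H : ∀ (B : Finset α) (u v : α), B.card < k → u ∉ B → v ∉ B →
      ∃ g : G, (∀ b ∈ B, g • b = b) ∧ g • u = v) :
    MulAction.IsMultiplyPretransitive G α k := by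
  suffices h : ∀ m, m ≤ k → ∀ x y : Fin m ↪ α, ∃ g : G, g • x = y from ⟨h k le_rfl⟩
  intro m
  induction m with
  | zero =>
    intro _ x y
    exact ⟨1, by ext i; exact i.elim0⟩
  | succ m ih =>
    intro hm x y
    obtain ⟨g0, hg0⟩ := ih (by omega) (Fin.castSuccEmb.trans x) (Fin.castSuccEmb.trans y)
    have hg0' : ∀ j : Fin m, g0 • x (Fin.castSucc j) = y (Fin.castSucc j) := by
      intro j
      have := DFunLike.congr_fun hg0 j
      simpa [Function.Embedding.smul_apply] using this
    set B : Finset α := Finset.univ.map (Fin.castSuccEmb.trans y) with hB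
    have hBcard : B.card = m := by simp [hB]
    have hmemB : ∀ b, b ∈ B ↔ ∃ j : Fin m, y (Fin.castSucc j) = b := by
      intro b; simp [hB]
    have hu : g0 • x (Fin.last m) ∉ B := by
      rw [hmemB]
      rintro ⟨j, hj⟩
      rw [← hg0' j] at hj
      have := x.injective (smul_left_cancel g0 hj)
      exact (Fin.castSucc_lt_last j).ne this
    have hv : y (Fin.last m) ∉ B := by
      rw [hmemB]
      rintro ⟨j, hj⟩
      have := y.injective hj
      exact (Fin.castSucc_lt_last j).ne this
    obtain ⟨h, hfix, huv⟩ := H B _ _ (by omega) hu hv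
    refine ⟨h * g0, ?_⟩
    ext i
    rcases Fin.eq_castSucc_or_eq_last i with ⟨j, rfl⟩ | rfl
    · rw [Function.Embedding.smul_apply, mul_smul, hg0' j]
      exact hfix _ ((hmemB _).mpr ⟨j, rfl⟩)
    · rw [Function.Embedding.smul_apply, mul_smul]
      exact huv

/-- Extension of a small set to one of prescribed size avoiding two points. -/
theorem exists_superset_avoiding {α : Type*} [Fintype α] [DecidableEq α] (B : Finset α) (u v : α)
    (hu : u ∉ B) (hv : v ∉ B) (j : ℕ) (hB : B.card ≤ j) (hj : j + 2 ≤ Fintype.card α) :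
    ∃ A : Finset α, B ⊆ A ∧ A.card = j ∧ u ∉ A ∧ v ∉ A := by
  have hsub : B ⊆ Finset.univ \ {u, v} := by
    intro b hb
    simp only [Finset.mem_sdiff, Finset.mem_univ, Finset.mem_insert, Finset.mem_singleton, true_and]
    rintro (rfl | rfl)
    · exact hu hb
    · exact hv hb
  have hcard : j ≤ (Finset.univ \ {u, v} : Finset α).card := by
    have h1 := Finset.le_card_sdiff ({u, v} : Finset α) Finset.univ
    have h2 : ({u, v} : Finset α).card ≤ 2 := Finset.card_le_two
    rw [Finset.card_univ] at h1
    omega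
  obtain ⟨A, hBA, hAt, hAc⟩ := Finset.exists_subsuperset_card_eq hsub hB hcard
  refine ⟨A, hBA, hAc, ?_, ?_⟩
  · intro h
    have := hAt h
    simp at this
  · intro h
    have := hAt h
    simp at this

/-- A `p`-group acting on a finite type: an invariant subset has cardinality congruent mod `p`
to the number of its fixed points. -/
theorem card_modEq_of_invariant {P α : Type*} [Group P] [MulAction P α] [Finite α] {p : ℕ}
    [Fact p.Prime] (hP : IsPGroup p P) (S : Set α) (hS : ∀ (g : P), ∀ x ∈ S, g • x ∈ S) :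
    Nat.card S ≡ Nat.card ↥(S ∩ MulAction.fixedPoints P α) [MOD p] := by
  let T : SubMulAction P α := ⟨S, fun g x hx => hS g x hx⟩
  have h := hP.card_modEq_card_fixedPoints (α := T)
  have e : MulAction.fixedPoints P T ≃ ↥(S ∩ MulAction.fixedPoints P α) :=
    { toFun := fun x => ⟨x.1.1, x.1.2, fun g => congrArg Subtype.val (x.2 g)⟩
      invFun := fun y => ⟨⟨y.1, y.2.1⟩, fun g => Subtype.ext (y.2.2 g)⟩
      left_inv := fun x => rfl
      right_inv := fun y => rfl }
  rw [Nat.card_congr e] at h
  exact h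

/-- Gleason's lemma, one step. -/
theorem gleason_step {G α : Type*} [Group G] [MulAction G α] [Fintype α] [DecidableEq α] {p : ℕ}
    [Fact p.Prime] (A : Finset α) (u v : α) (_hu : u ∉ A) (hv : v ∉ A)
    (Pu Pv : Subgroup G) (hPu : IsPGroup p Pu) (hPv : IsPGroup p Pv)
    (hfu : MulAction.fixedPoints Pu α = ((insert u A : Finset α) : Set α))
    (hfv : MulAction.fixedPoints Pv α = ((insert v A : Finset α) : Set α)) :
    ∃ g : G, (∀ b ∈ A, g • b = b) ∧ g • u = v := by
  by_contra hno
  push Not at hno
  set S : Set α := {x | ∃ g : G, (∀ b ∈ A, g • b = b) ∧ g • v = x} with hS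
  have hvS : v ∈ S := ⟨1, fun b _ => one_smul _ _, one_smul _ _⟩
  -- points of `S` are outside `A` and different from `u`
  have hSA : ∀ x ∈ S, x ∉ A := by
    rintro x ⟨g, hg, rfl⟩ hx
    have := hg _ hx
    have h2 : v = g • v := smul_left_cancel g this.symm
    exact hv (h2 ▸ hx)
  have hSu : u ∉ S := by
    rintro ⟨g, hg, hgv⟩
    apply hno g⁻¹
    · intro b hb
      rw [inv_smul_eq_iff, hg b hb]
    · rw [inv_smul_eq_iff, hgv]
  -- invariance
  have hfixA : ∀ (P : Subgroup G) (w : α),
      MulAction.fixedPoints P α = ((insert w A : Finset α) : Set α) →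
      ∀ (g : P), ∀ b ∈ A, (g : G) • b = b := by
    intro P w hf g b hb
    have hb' : b ∈ MulAction.fixedPoints P α := by
      rw [hf]; simp [hb]
    exact hb' g
  have hinv : ∀ (P : Subgroup G) (w : α),
      MulAction.fixedPoints P α = ((insert w A : Finset α) : Set α) →
      ∀ (g : P), ∀ x ∈ S, g • x ∈ S := by
    rintro P w hf g x ⟨h, hh, rfl⟩
    refine ⟨(g : G) * h, fun b hb => ?_, ?_⟩
    · rw [mul_smul, hh b hb, hfixA P w hf g b hb]
    · rw [mul_smul]; rfl
  have h0 := card_modEq_of_invariant hPu S (hinv Pu u hfu)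
  have h1 := card_modEq_of_invariant hPv S (hinv Pv v hfv)
  have e0 : S ∩ MulAction.fixedPoints Pu α = ∅ := by
    rw [hfu]
    ext x
    simp only [Set.mem_inter_iff, Finset.coe_insert, Set.mem_insert_iff, Finset.mem_coe,
      Set.mem_empty_iff_false, iff_false, not_and, not_or]
    intro hx
    exact ⟨fun h => hSu (h ▸ hx), hSA x hx⟩
  have e1 : S ∩ MulAction.fixedPoints Pv α = {v} := by
    rw [hfv]
    ext x
    simp only [Set.mem_inter_iff, Finset.coe_insert, Set.mem_insert_iff, Finset.mem_coe,
      Set.mem_singleton_iff]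
    constructor
    · rintro ⟨hx, h | h⟩
      · exact h
      · exact absurd h (hSA x hx)
    · rintro rfl
      exact ⟨hvS, Or.inl rfl⟩
  rw [e0] at h0
  rw [e1] at h1
  simp only [Nat.card_eq_fintype_card, Fintype.card_unique] at h0 h1
  have h01 : 0 ≡ 1 [MOD p] := h0.symm.trans h1
  have hp : p.Prime := Fact.out
  have := (Nat.modEq_zero_iff_dvd.mp h01.symm)
  exact hp.one_lt.ne' (Nat.dvd_one.mp this)

/-- Gleason's Lemma: let `p` be a prime and `1 ≤ k < n`; if every `k`-subset of the `n` points is exactly the fixed-point set of some `p`-subgroup of `G`, then `G` is `k`-transitive. -/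
theorem result {α : Type*} [Fintype α] [DecidableEq α] (G : Subgroup (Equiv.Perm α)) {p k : ℕ} (hp : p.Prime) (hk : 1 ≤ k) (hkn : k < Fintype.card α) (h : ∀ s : Finset α, s.card = k → ∃ P : Subgroup G, IsPGroup p P ∧ MulAction.fixedPoints P α = (s : Set α)) : MulAction.IsMultiplyPretransitive G α k := by
  have : Fact p.Prime := ⟨hp⟩
  apply multiply_pretransitive_of_fixing
  intro B u v hB hu hv
  obtain ⟨A, hBA, hAc, huA, hvA⟩ := exists_superset_avoiding B u v hu hv (k - 1) (by omega) (by omega)
  obtain ⟨Pu, hPu, hfu⟩ := h (insert u A) (by rw [Finset.card_insert_of_notMem huA, hAc]; omega)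
  obtain ⟨Pv, hPv, hfv⟩ := h (insert v A) (by rw [Finset.card_insert_of_notMem hvA, hAc]; omega)
  obtain ⟨g, hg, hguv⟩ := gleason_step A u v huA hvA Pu Pv hPu hPv hfu hfv
  exact ⟨g, fun b hb => hg b (hBA hb), hguv⟩

end Cfsg.Agent.S0743
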