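import Mathlib
import Cfsg.Statements.S0744
import Cfsg.Agent.S0743

set_option autoImplicit false
open Cfsg

namespace Cfsg.Agent.S0744

open MulAction

section general

variable {G α : Type*} [Group G] [MulAction G α] [DecidableEq α]

/-- The stabiliser of `y` in the pointwise stabiliser of `C` is the pointwise stabiliser of
`insert y C`. -/
noncomputable def stabEquiv (C : Finset α) (y : α) :
    stabilizer (fixingSubgroup G (C : Set α)) y ≃
      fixingSubgroup G ((insert y C : Finset α) : Set α) where
  toFun x := ⟨x.1.1, by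
    rw [mem_fixingSubgroup_iff]
    intro z hz
    rw [Finset.coe_insert, Set.mem_insert_iff] at hz
    rcases hz with rfl | hz
    · exact x.2
    · exact (mem_fixingSubgroup_iff G).mp x.1.2 z hz⟩
  invFun g := ⟨⟨g.1, by
    rw [mem_fixingSubgroup_iff]
    intro z hz
    exact (mem_fixingSubgroup_iff G).mp g.2 z (by simp [hz])⟩, by
    rw [mem_stabilizer_iff]
    exact (mem_fixingSubgroup_iff G).mp g.2 y (by simp)⟩
  left_inv x := rfl
  right_inv g := rfl

theorem index_stab_mul {k l m : ℕ}
    (hkm1 : ∀ s : Finset α, s.card = k - 1 → Nat.card (fixingSubgroup G (s : Set α)) = l)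
    (hkm : ∀ s : Finset α, s.card = k → Nat.card (fixingSubgroup G (s : Set α)) = m)
    (hk : 1 ≤ k) (C : Finset α) (hC : C.card = k - 1) (y : α) (hy : y ∉ C) :
    (stabilizer (fixingSubgroup G (C : Set α)) y).index * m = l := by
  have h1 := Subgroup.index_mul_card (stabilizer (fixingSubgroup G (C : Set α)) y)
  rw [Nat.card_congr (stabEquiv C y), hkm1 C hC,
    hkm (insert y C) (by rw [Finset.card_insert_of_notMem hy, hC]; omega)] at h1
  exact h1

variable [Finite G]

omit [DecidableEq α] in
/-- A Sylow `p`-subgroup of the pointwise stabiliser of `C` moves `y` when `p` divides the orbit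
length of `y`. -/
theorem exists_not_fixed {p : ℕ} [Fact p.Prime] (C : Finset α)
    (Q : Sylow p (fixingSubgroup G (C : Set α))) (y : α)
    (hp : p ∣ (stabilizer (fixingSubgroup G (C : Set α)) y).index) :
    ∃ q : (Q : Subgroup (fixingSubgroup G (C : Set α))), q • y ≠ y := by
  by_contra h
  push Not at h
  have hle : (Q : Subgroup (fixingSubgroup G (C : Set α))) ≤
      stabilizer (fixingSubgroup G (C : Set α)) y := fun q hq => h ⟨q, hq⟩
  exact Q.not_dvd_index (hp.trans (Subgroup.index_dvd_of_le hle))

variable [Fintype α]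

theorem step {k l m : ℕ} (hk : 2 ≤ k)
    (hkm1 : ∀ s : Finset α, s.card = k - 1 → Nat.card (fixingSubgroup G (s : Set α)) = l)
    (hkm : ∀ s : Finset α, s.card = k → Nat.card (fixingSubgroup G (s : Set α)) = m)
    {p t : ℕ} [Fact p.Prime] (hpt : p ∣ t) (hlt : l = t * m) (hm : 0 < m)
    (A : Finset α) (hA : A.card = k - 2) (u v : α) (hu : u ∉ A) (hv : v ∉ A) :
    ∃ g : G, (∀ b ∈ A, g • b = b) ∧ g • u = v := by
  by_contra hno
  push Not at hno
  set S : Set α := {x | ∃ g : G, (∀ b ∈ A, g • b = b) ∧ g • v = x} with hS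
  have hvS : v ∈ S := ⟨1, fun b _ => one_smul _ _, one_smul _ _⟩
  have hSA : ∀ x ∈ S, x ∉ A := by
    rintro x ⟨g, hg, rfl⟩ hx
    have := hg _ hx
    have h2 : v = g • v := smul_left_cancel g this.symm
    exact hv (h2 ▸ hx)
  have hSu : u ∉ S := by
    rintro ⟨g, hg, hgv⟩
    apply hno g⁻¹
    · intro b hb
      rw [inv_smul_eq_iff, hg b hb]
    · rw [inv_smul_eq_iff, hgv]
  -- index of stabilisers
  have hidx : ∀ (C : Finset α), C.card = k - 1 → ∀ y, y ∉ C →
      p ∣ (stabilizer (fixingSubgroup G (C : Set α)) y).index := by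
    intro C hC y hy
    have h1 := index_stab_mul hkm1 hkm (by omega) C hC y hy
    rw [hlt] at h1
    rw [Nat.eq_of_mul_eq_mul_right hm h1]
    exact hpt
  have hcard : ∀ w, w ∉ A → (insert w A).card = k - 1 := by
    intro w hw
    rw [Finset.card_insert_of_notMem hw, hA]; omega
  -- invariance of S
  have hinv : ∀ (w : α) (Q : Sylow p (fixingSubgroup G ((insert w A : Finset α) : Set α)))
      (q : (Q : Subgroup (fixingSubgroup G ((insert w A : Finset α) : Set α)))),
      ∀ x ∈ S, q • x ∈ S := by
    rintro w Q q x ⟨h, hh, rfl⟩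
    refine ⟨((q : fixingSubgroup G ((insert w A : Finset α) : Set α)) : G) * h, fun b hb => ?_, ?_⟩
    · rw [mul_smul, hh b hb]
      exact (mem_fixingSubgroup_iff G).mp q.1.2 b (by simp [hb])
    · rw [mul_smul]; rfl
  obtain ⟨Qu⟩ : Nonempty (Sylow p (fixingSubgroup G ((insert u A : Finset α) : Set α))) :=
    inferInstance
  obtain ⟨Qv⟩ : Nonempty (Sylow p (fixingSubgroup G ((insert v A : Finset α) : Set α))) :=
    inferInstance
  have h0 := Cfsg.Agent.S0743.card_modEq_of_invariant Qu.isPGroup' S (hinv u Qu)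
  have h1 := Cfsg.Agent.S0743.card_modEq_of_invariant Qv.isPGroup' S (hinv v Qv)
  have e0 : S ∩ fixedPoints (Qu : Subgroup (fixingSubgroup G ((insert u A : Finset α) : Set α))) α
      = ∅ := by
    ext x
    simp only [Set.mem_inter_iff, Set.mem_empty_iff_false, iff_false, not_and]
    intro hx hfix
    have hxC : x ∉ insert u A := by
      rw [Finset.mem_insert, not_or]
      exact ⟨fun h => hSu (h ▸ hx), hSA x hx⟩
    obtain ⟨q, hq⟩ := exists_not_fixed (insert u A) Qu x (hidx _ (hcard u hu) x hxC)
    exact hq (hfix q)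
  have e1 : S ∩ fixedPoints (Qv : Subgroup (fixingSubgroup G ((insert v A : Finset α) : Set α))) α
      = {v} := by
    ext x
    simp only [Set.mem_inter_iff, Set.mem_singleton_iff]
    constructor
    · rintro ⟨hx, hfix⟩
      by_contra hxv
      have hxC : x ∉ insert v A := by
        rw [Finset.mem_insert, not_or]
        exact ⟨hxv, hSA x hx⟩
      obtain ⟨q, hq⟩ := exists_not_fixed (insert v A) Qv x (hidx _ (hcard v hv) x hxC)
      exact hq (hfix q)
    · rintro rfl
      refine ⟨hvS, fun q => ?_⟩
      exact (mem_fixingSubgroup_iff G).mp q.1.2 x (by simp)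
  rw [e0] at h0
  rw [e1] at h1
  simp only [Nat.card_eq_fintype_card, Fintype.card_unique] at h0 h1
  have h01 : 0 ≡ 1 [MOD p] := h0.symm.trans h1
  have hp : p.Prime := Fact.out
  have := (Nat.modEq_zero_iff_dvd.mp h01.symm)
  exact hp.one_lt.ne' (Nat.dvd_one.mp this)

theorem main [FaithfulSMul G α] {k : ℕ} (hk : 1 < k) (hkn : k ≤ Fintype.card α) (l m : ℕ)
    (hl : 1 < l)
    (hkm1 : ∀ s : Finset α, s.card = k - 1 → Nat.card (fixingSubgroup G (s : Set α)) = l)
    (hkm : ∀ s : Finset α, s.card = k → Nat.card (fixingSubgroup G (s : Set α)) = m) :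
    IsMultiplyPretransitive G α (k - 1) := by
  -- a (k-1)-subset and a point outside it
  obtain ⟨C, -, -, hC⟩ := Finset.exists_subsuperset_card_eq (Finset.empty_subset (Finset.univ : Finset α))
    (Nat.zero_le (k - 1)) (by rw [Finset.card_univ]; omega)
  have hexy : ∃ y, y ∉ C := by
    by_contra h
    push Not at h
    have : Finset.univ ⊆ C := fun y _ => h y
    have := Finset.card_le_card this
    rw [Finset.card_univ] at this
    omega
  obtain ⟨y0, hy0⟩ := hexy
  have hm : 0 < m := by
    rw [← hkm (insert y0 C) (by rw [Finset.card_insert_of_notMem hy0, hC]; omega)]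
    exact Nat.card_pos
  -- l = t * m
  set t := (stabilizer (fixingSubgroup G (C : Set α)) y0).index with ht
  have hlt : l = t * m := (index_stab_mul hkm1 hkm (by omega) C hC y0 hy0).symm
  -- t ≠ 1
  have ht1 : t ≠ 1 := by
    intro h1
    have hlm : l = m := by rw [hlt, h1, one_mul]
    -- then the pointwise stabiliser of C fixes everything
    have hbot : fixingSubgroup G (C : Set α) = ⊥ := by
      rw [eq_bot_iff]
      intro g hg
      rw [Subgroup.mem_bot]
      apply FaithfulSMul.eq_of_smul_eq_smul (α := α)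
      intro y
      rw [one_smul]
      by_cases hy : y ∈ C
      · exact (mem_fixingSubgroup_iff G).mp hg y hy
      · have h2 := index_stab_mul hkm1 hkm (by omega) C hC y hy
        rw [hlm] at h2
        have h3 : (stabilizer (fixingSubgroup G (C : Set α)) y).index = 1 := by
          have : (stabilizer (fixingSubgroup G (C : Set α)) y).index * m = 1 * m := by
            rw [h2, one_mul]
          exact Nat.eq_of_mul_eq_mul_right hm this
        rw [Subgroup.index_eq_one] at h3
        have : (⟨g, hg⟩ : fixingSubgroup G (C : Set α)) ∈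
            stabilizer (fixingSubgroup G (C : Set α)) y := by rw [h3]; trivial
        exact this
    have := hkm1 C hC
    rw [hbot, Subgroup.card_bot] at this
    omega
  obtain ⟨p, hp, hpt⟩ := Nat.exists_prime_and_dvd ht1
  have : Fact p.Prime := ⟨hp⟩
  apply Cfsg.Agent.S0743.multiply_pretransitive_of_fixing
  intro B u v hB hu hv
  obtain ⟨A, hBA, hAc, huA, hvA⟩ :=
    Cfsg.Agent.S0743.exists_superset_avoiding B u v hu hv (k - 2) (by omega) (by omega)
  obtain ⟨g, hg, hguv⟩ := step (by omega) hkm1 hkm hpt hlt hm A hAc u v huA hvA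
  exact ⟨g, fun b hb => hg b (hBA hb), hguv⟩

end general


/-- If for some `k > 1` the pointwise stabilisers of all `(k-1)`-subsets have the same order `> 1` and those of all `k`-subsets have the same order, then the group is `(k-1)`-transitive. -/
theorem result {α : Type*} [Fintype α] [DecidableEq α] (G : Subgroup (Equiv.Perm α)) {k : ℕ} (hk : 1 < k) (hkn : k ≤ Fintype.card α) (l m : ℕ) (hl : 1 < l) (hkm1 : ∀ s : Finset α, s.card = k - 1 → Nat.card (fixingSubgroup G (s : Set α)) = l) (hkm : ∀ s : Finset α, s.card = k → Nat.card (fixingSubgroup G (s : Set α)) = m) : MulAction.IsMultiplyPretransitive G α (k - 1) := by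
  exact main hk hkn l m hl hkm1 hkm

end Cfsg.Agent.S0744
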