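-- Statement S0747: in a k-transitive group (4 ≤ k < n) some (k+1)-set has at least the alternating
-- group induced on it.  Proof: induction on the degree (Lib/Helper71/LWMain.lean, `main747`).
import Cfsg.Statements.S0747
import Cfsg.Agent.Lib.Helper71.LWMain

set_option autoImplicit false
open scoped Pointwise
open Cfsg

namespace Cfsg.Agent.S0747

open Cfsg.Agent.Lib.Helper71.LW
open Cfsg.Agent.Lib.Helper59.LW (trans_iff homog_iff)

/-- In a `k`-transitive permutation group with `4 ≤ k < n`, some `(k+1)`-subset `Δ` has the property that every even permutation of `Δ` is induced by an element of the group stabilising `Δ`. -/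
theorem result {α : Type*} [Fintype α] [DecidableEq α] (G : Subgroup (Equiv.Perm α)) {k : ℕ} (hk : 4 ≤ k) (hkn : k < Fintype.card α) (hG : MulAction.IsMultiplyPretransitive G α k) : ∃ Δ : Finset α, Δ.card = k + 1 ∧ ∀ σ : Equiv.Perm ↥Δ, σ ∈ alternatingGroup ↥Δ → ∃ g ∈ G, ∀ x : ↥Δ, g (x : α) = σ x := by
  obtain ⟨Δ, hΔ, hA⟩ := main747 (Fintype.card α) rfl G k hk hkn ((trans_iff G k).2 hG)
  exact ⟨Δ, hΔ, hA⟩

end Cfsg.Agent.S0747
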