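import Cfsg.Statements.S0749
import Cfsg.Agent.Lib.Helper13.AltForm

set_option autoImplicit false
open Cfsg

namespace Cfsg.Agent.S0749

/-- Witt's Lemma for alternating forms. If B is a non-degenerate alternating bilinear form on a finite-dimensional vector space V (over any field) and φ is a linear equivalence between subspaces X and Y of V preserving B, then φ extends to a B-preserving linear automorphism of V. -/
theorem result {F V : Type*} [Field F] [AddCommGroup V] [Module F V] [FiniteDimensional F V] (B : LinearMap.BilinForm F V) (hB : B.Nondegenerate) (hA : B.IsAlt) (X Y : Submodule F V) (φ : X ≃ₗ[F] Y) (hφ : ∀ x x' : X, B (φ x : V) (φ x' : V) = B (x : V) (x' : V)) : ∃ g : V ≃ₗ[F] V, (∀ u v : V, B (g u) (g v) = B u v) ∧ ∀ x : X, g (x : V) = (φ x : V) := by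
  classical
  set bX := Module.finBasis F X with hbX
  set n := Module.finrank F X with hn
  let b : Fin n → V := fun i => (bX i : V)
  let c : Fin n → V := fun i => (φ (bX i) : V)
  have hb : LinearIndependent F b := by
    have := bX.linearIndependent.map' X.subtype (Submodule.ker_subtype X)
    exact this
  have hc : LinearIndependent F c := by
    have hker : LinearMap.ker (Y.subtype.comp φ.toLinearMap) = ⊥ := by
      rw [LinearMap.ker_eq_bot]
      exact (Submodule.injective_subtype Y).comp φ.injective
    have := bX.linearIndependent.map' (Y.subtype.comp φ.toLinearMap) hker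
    exact this
  have hbc : ∀ i j, B (b i) (b j) = B (c i) (c j) := fun i j => (hφ (bX i) (bX j)).symm
  obtain ⟨T, hT, hTb⟩ := Cfsg.Agent.Lib.Helper13.witt_families B hB hA n b c hb hc hbc
  refine ⟨T, Cfsg.Agent.Lib.Helper13.isom_of_mem_tvGroupL hT, ?_⟩
  have hlin : (T : V →ₗ[F] V).comp X.subtype = Y.subtype.comp φ.toLinearMap := by
    apply bX.ext
    intro i
    exact hTb i
  intro x
  exact LinearMap.congr_fun hlin x

end Cfsg.Agent.S0749
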