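import Cfsg.Statements.S0754
-- import your own Cfsg.Agent.* helpers here

set_option autoImplicit false
open Cfsg

namespace Cfsg.Agent.S0754

/-- In a field F with q^2 elements, every non-zero μ with μ^q = μ (that is, μ in the subfield of order q) has exactly q + 1 solutions λ of λ^(q+1) = μ. -/
theorem result {F : Type*} [Field F] [Fintype F] {q : ℕ} (hF : Fintype.card F = q ^ 2) (μ : F) (hμ : μ ≠ 0) (hμq : μ ^ q = μ) : Nat.card {x : F // x ^ (q + 1) = μ} = q + 1 := by
  classical
  have hq2 : 2 ≤ q := by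
    by_contra hlt
    have hq : q ≤ 1 := by omega
    have hc : 1 < Fintype.card F := Fintype.one_lt_card
    have : q ^ 2 ≤ 1 := by
      calc q ^ 2 ≤ 1 ^ 2 := Nat.pow_le_pow_left hq 2
        _ = 1 := by norm_num
    omega
  have hcardU : Nat.card Fˣ = q ^ 2 - 1 := by
    rw [Nat.card_eq_fintype_card, Fintype.card_units, hF]
  have hfac : q ^ 2 - 1 = (q - 1) * (q + 1) := by
    obtain ⟨r, rfl⟩ : ∃ r, q = r + 2 := ⟨q - 2, by omega⟩
    have : (r + 2) ^ 2 = (r + 2 - 1) * (r + 2 + 1) + 1 := by
      have : r + 2 - 1 = r + 1 := by omega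
      rw [this]; ring
    omega
  -- generator
  obtain ⟨g, hg⟩ := IsCyclic.exists_monoid_generator (α := Fˣ)
  have hordg : orderOf g = q ^ 2 - 1 := by
    rw [← hcardU]
    exact orderOf_eq_card_of_forall_mem_zpowers (fun x => Submonoid.powers_le_zpowers g (hg x))
  set μu : Fˣ := Units.mk0 μ hμ with hμu
  obtain ⟨k, hk⟩ := hg μu
  change g ^ k = μu at hk
  have hμu1 : μu ^ (q - 1) = 1 := by
    ext
    simp only [hμu, Units.val_pow_eq_pow_val, Units.val_mk0, Units.val_one]
    have h1 : μ ^ (q - 1) * μ = μ := by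
      rw [← pow_succ, Nat.sub_add_cancel (by omega)]; exact hμq
    have h2 : (μ ^ (q - 1) - 1) * μ = 0 := by rw [sub_mul, h1, one_mul, sub_self]
    rcases mul_eq_zero.mp h2 with h | h
    · exact sub_eq_zero.mp h
    · exact absurd h hμ
  have hdvd : (q + 1) ∣ k := by
    have h1 : g ^ (k * (q - 1)) = 1 := by rw [pow_mul, hk, hμu1]
    have h2 : orderOf g ∣ k * (q - 1) := orderOf_dvd_of_pow_eq_one h1
    rw [hordg, hfac, mul_comm k] at h2
    exact Nat.dvd_of_mul_dvd_mul_left (by omega) h2
  obtain ⟨j, rfl⟩ := hdvd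
  set x0 : Fˣ := g ^ j with hx0
  have hx0μ : x0 ^ (q + 1) = μu := by rw [hx0, ← pow_mul, mul_comm, hk]
  have hx0μ' : (x0 : F) ^ (q + 1) = μ := by
    have := congrArg Units.val hx0μ
    simpa [hμu] using this
  -- equivalence with the kernel
  have hker : Nat.card (powMonoidHom (q + 1) : Fˣ →* Fˣ).ker = q + 1 := by
    rw [IsCyclic.card_powMonoidHom_ker, hcardU, hfac]
    exact Nat.gcd_mul_left_left _ _
  refine (Nat.card_congr ?_).trans hker
  refine
    { toFun := fun x => ⟨Units.mk0 (x : F) (by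
          intro h0
          have := x.2
          rw [h0, zero_pow (by omega)] at this
          exact hμ this.symm) * x0⁻¹, ?_⟩
      invFun := fun y => ⟨((y : Fˣ) * x0 : Fˣ), ?_⟩
      left_inv := ?_
      right_inv := ?_ }
  · rw [MonoidHom.mem_ker, powMonoidHom_apply, mul_pow, inv_pow, hx0μ]
    rw [mul_inv_eq_one]
    ext
    simp only [hμu, Units.val_pow_eq_pow_val, Units.val_mk0]
    exact x.2
  · have hy := y.2
    rw [MonoidHom.mem_ker, powMonoidHom_apply] at hy
    have : ((y : Fˣ) * x0) ^ (q + 1) = μu := by rw [mul_pow, hy, one_mul, hx0μ]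
    have := congrArg Units.val this
    simpa [hμu] using this
  · intro x
    ext
    simp
  · intro y
    ext
    simp

end Cfsg.Agent.S0754
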