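import Cfsg.Statements.S0755
import Cfsg.Agent.Lib.Helper13.NormSurj

set_option autoImplicit false
open Cfsg

namespace Cfsg.Agent.S0755

open Cfsg.Agent.Lib.Helper13

variable {F V : Type*} [Field F] [AddCommGroup V] [Module F V] {σ : F →+* F}

/-- An orthonormal family. -/
def IsON (B : V →ₛₗ[σ] V →ₗ[F] F) {m : ℕ} (e : Fin m → V) : Prop :=
  ∀ i j, B (e i) (e j) = if i = j then 1 else 0

/-- The projection onto the span of an orthonormal family. -/
def projH (B : V →ₛₗ[σ] V →ₗ[F] F) {m : ℕ} (e : Fin m → V) : V →ₗ[F] V :=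
  ∑ i, (B (e i)).smulRight (e i)

theorem projH_apply (B : V →ₛₗ[σ] V →ₗ[F] F) {m : ℕ} (e : Fin m → V) (v : V) :
    projH B e v = ∑ i, B (e i) v • e i := by
  simp [projH, LinearMap.sum_apply, LinearMap.smulRight_apply]

/-- The orthogonal complement of a family. -/
def orthH (B : V →ₛₗ[σ] V →ₗ[F] F) {m : ℕ} (e : Fin m → V) : Submodule F V where
  carrier := {w | ∀ i, B (e i) w = 0}
  add_mem' := by
    intro a b ha hb i
    simp only [Set.mem_ofPred_eq] at ha hb
    simp [ha i, hb i]
  zero_mem' := by intro i; simp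
  smul_mem' := by
    intro c a ha i
    simp only [Set.mem_ofPred_eq] at ha
    simp [ha i]

theorem sub_projH_mem {B : V →ₛₗ[σ] V →ₗ[F] F} {m : ℕ} {e : Fin m → V} (h : IsON B e) (v : V) :
    v - projH B e v ∈ orthH B e := by
  intro j
  rw [map_sub, projH_apply, map_sum, Finset.sum_eq_single j]
  · rw [map_smul, h j j]; simp
  · intro i _ hij
    have : ¬ j = i := fun hh => hij hh.symm
    rw [map_smul, h j i]; simp [this]
  · intro hj; exact absurd (Finset.mem_univ j) hj

theorem on_linearIndependent {B : V →ₛₗ[σ] V →ₗ[F] F} {m : ℕ} {e : Fin m → V} (h : IsON B e) :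
    LinearIndependent F e := by
  have h' : ∀ i j, B (e i) (e j) = if i = j then 1 else 0 := h
  rw [Fintype.linearIndependent_iff]
  intro g hg j
  have := congrArg (fun x => B (e j) x) hg
  simp only [map_sum, map_smul, h', smul_eq_mul, mul_ite, mul_one, mul_zero,
    Finset.sum_ite_eq, Finset.mem_univ, if_true, map_zero] at this
  exact this

theorem smul_smul_apply (B : V →ₛₗ[σ] V →ₗ[F] F) (a c : F) (x y : V) :
    B (a • x) (c • y) = σ a * c * B x y := by
  rw [map_smul, LinearMap.map_smulₛₗ, LinearMap.smul_apply, smul_eq_mul, smul_eq_mul]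
  ring

theorem symm_zero {B : V →ₛₗ[σ] V →ₗ[F] F} (hS : B.IsSymm) {x y : V} (h : B x y = 0) :
    B y x = 0 := by
  rw [← hS.eq x y, h, map_zero]

theorem on_snoc {B : V →ₛₗ[σ] V →ₗ[F] F} (hS : B.IsSymm) {m : ℕ} {e : Fin m → V} (h : IsON B e)
    {w : V} (hw : w ∈ orthH B e) (hww : B w w = 1) :
    IsON B (Fin.snoc e w : Fin (m + 1) → V) := by
  intro i j
  rcases Fin.eq_castSucc_or_eq_last i with ⟨i', rfl⟩ | rfl
  · rcases Fin.eq_castSucc_or_eq_last j with ⟨j', rfl⟩ | rfl
    · simp only [Fin.snoc_castSucc, h i' j', Fin.castSucc_inj]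
    · simp only [Fin.snoc_castSucc, Fin.snoc_last]
      rw [hw i']
      have : Fin.castSucc i' ≠ Fin.last m := (Fin.castSucc_lt_last i').ne
      simp [this]
  · rcases Fin.eq_castSucc_or_eq_last j with ⟨j', rfl⟩ | rfl
    · simp only [Fin.snoc_castSucc, Fin.snoc_last]
      rw [symm_zero hS (hw j')]
      have : Fin.last m ≠ Fin.castSucc j' := (Fin.castSucc_lt_last j').ne'
      simp [this]
    · simp only [Fin.snoc_last, hww, if_true]

theorem exists_max_on [FiniteDimensional F V] (B : V →ₛₗ[σ] V →ₗ[F] F) :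
    ∃ (m : ℕ) (e : Fin m → V), IsON B e ∧ ¬ ∃ (e' : Fin (m + 1) → V), IsON B e' := by
  by_contra hcon
  push Not at hcon
  have hall : ∀ m : ℕ, ∃ (e : Fin m → V), IsON B e := by
    intro m
    induction m with
    | zero => exact ⟨Fin.elim0, fun i => i.elim0⟩
    | succ m ih =>
      obtain ⟨e, h⟩ := ih
      exact hcon m e h
  obtain ⟨e, h⟩ := hall (Module.finrank F V + 1)
  have := (on_linearIndependent h).fintype_card_le_finrank
  simp only [Fintype.card_fin] at this
  omega

/-- Relative version of: a conjugate-symmetric form vanishing on the diagonal vanishes. -/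
theorem zero_of_diag_zero (hσ : σ ≠ RingHom.id F) {B : V →ₛₗ[σ] V →ₗ[F] F} (hS : B.IsSymm)
    (W : Submodule F V) (h0 : ∀ v ∈ W, B v v = 0) : ∀ u ∈ W, ∀ v ∈ W, B u v = 0 := by
  have hsymm : ∀ x y, σ (B x y) = B y x := fun x y => hS.eq x y
  have hneg : ∀ u ∈ W, ∀ v ∈ W, B v u = -B u v := by
    intro u hu v hv
    have h := h0 (u + v) (W.add_mem hu hv)
    simp only [map_add, LinearMap.add_apply, h0 u hu, h0 v hv, zero_add, add_zero] at h
    exact eq_neg_of_add_eq_zero_left h
  obtain ⟨a, ha⟩ : ∃ a : F, σ a ≠ a := by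
    by_contra hcon
    push Not at hcon
    exact hσ (RingHom.ext hcon)
  intro u hu v hv
  by_contra hc
  have h1 : σ (B u v) = -B u v := by rw [hsymm, hneg u hu v hv]
  have h2 : σ (B (a • u) v) = -B (a • u) v := by
    rw [hsymm, hneg (a • u) (W.smul_mem a hu) v hv]
  rw [LinearMap.map_smulₛₗ, LinearMap.smul_apply, smul_eq_mul, map_mul, h1] at h2
  have h3 : σ (σ a) = σ a := by
    have : (σ (σ a) - σ a) * B u v = 0 := by linear_combination -h2
    rcases mul_eq_zero.mp this with h | h
    · exact sub_eq_zero.mp h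
    · exact absurd h hc
  exact ha (σ.injective h3)

/-- Classification of Hermitian forms over finite fields: if σ is a non-identity involutive automorphism of the finite field F and B is a non-degenerate conjugate-symmetric σ-sesquilinear form on the finite-dimensional space V, then V has a B-orthonormal basis. -/
theorem result {F V : Type*} [Field F] [Finite F] [AddCommGroup V] [Module F V] [FiniteDimensional F V] (σ : F →+* F) (hσ : σ ≠ RingHom.id F) (hσ2 : ∀ a : F, σ (σ a) = a) (B : V →ₛₗ[σ] V →ₗ[F] F) (hS : B.IsSymm) (hB : B.Nondegenerate) : ∃ b : Module.Basis (Fin (Module.finrank F V)) F V, ∀ i j, B (b i) (b j) = if i = j then 1 else 0 := by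
  classical
  obtain ⟨m, e, h, hmax⟩ := exists_max_on B
  set W := orthH B e with hW
  -- W = ⊥ by maximality
  have hWbot : W = ⊥ := by
    by_contra hne
    obtain ⟨w0, hw0W, hw0⟩ := (Submodule.ne_bot_iff W).mp hne
    -- some vector of W is non-isotropic
    have hex : ∃ w ∈ W, B w w ≠ 0 := by
      by_contra hcon
      push Not at hcon
      have hzero := zero_of_diag_zero hσ hS W hcon
      apply hw0
      apply hB.1 w0
      intro v
      have h1 : v = (v - projH B e v) + projH B e v := by abel
      rw [h1, map_add, hzero w0 hw0W _ (sub_projH_mem h v), zero_add, projH_apply, map_sum]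
      apply Finset.sum_eq_zero
      intro i _
      rw [map_smul, symm_zero hS (hw0W i), smul_zero]
    obtain ⟨w, hwW, hww⟩ := hex
    have hfix : σ (B w w) = B w w := hS.eq w w
    have hfix' : σ (B w w)⁻¹ = (B w w)⁻¹ := by rw [map_inv₀, hfix]
    obtain ⟨a, ha⟩ := exists_norm_eq σ hσ hσ2 (B w w)⁻¹ (inv_ne_zero hww) hfix'
    apply hmax
    refine ⟨Fin.snoc e (a • w), on_snoc hS h (W.smul_mem a hwW) ?_⟩
    rw [smul_smul_apply, mul_comm (σ a) a, ha, inv_mul_cancel₀ hww]
  -- e spans
  have hspan : ⊤ ≤ Submodule.span F (Set.range e) := by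
    intro v _
    have hmem : v - projH B e v ∈ W := sub_projH_mem h v
    rw [hWbot, Submodule.mem_bot, sub_eq_zero] at hmem
    rw [hmem, projH_apply]
    apply Submodule.sum_mem
    intro i _
    exact Submodule.smul_mem _ _ (Submodule.subset_span ⟨i, rfl⟩)
  set b0 : Module.Basis (Fin m) F V := Module.Basis.mk (on_linearIndependent h) hspan with hb0
  have hm : Module.finrank F V = m := by
    rw [Module.finrank_eq_card_basis b0, Fintype.card_fin]
  refine ⟨b0.reindex (finCongr hm.symm), ?_⟩
  intro i j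
  rw [Module.Basis.reindex_apply, Module.Basis.reindex_apply, hb0, Module.Basis.mk_apply,
    Module.Basis.mk_apply, h]
  simp

end Cfsg.Agent.S0755
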