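import Cfsg.Statements.S0756

set_option autoImplicit false
open Cfsg

namespace Cfsg.Agent.S0756

open Module

section
variable {F : Type*} [Field F] [Finite F]

theorem ringChar_ne_two (h2 : (2 : F) ≠ 0) : ringChar F ≠ 2 := by
  intro h
  apply h2
  have := ringChar.Nat.cast_ringChar (R := F)
  rw [h] at this
  exact_mod_cast this

/-- Binary diagonal forms over a finite field of odd characteristic represent `1`. -/
theorem exists_binary (h2 : (2 : F) ≠ 0) {a b : F} (ha : a ≠ 0) (hb : b ≠ 0) :
    ∃ x y : F, a * x ^ 2 + b * y ^ 2 = 1 := by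
  haveI := Fintype.ofFinite F
  have hf : (Polynomial.C a * Polynomial.X ^ 2 : Polynomial F).degree = 2 := by
    simpa using Polynomial.degree_C_mul_X_pow 2 ha
  have hg : (Polynomial.C b * Polynomial.X ^ 2 - 1 : Polynomial F).degree = 2 := by
    have hb2 : (Polynomial.C b * Polynomial.X ^ 2 : Polynomial F).degree = 2 := by
      simpa using Polynomial.degree_C_mul_X_pow 2 hb
    rw [Polynomial.degree_sub_eq_left_of_degree_lt, hb2]
    rw [hb2, Polynomial.degree_one]
    norm_num
  obtain ⟨x, y, h⟩ := FiniteField.exists_root_sum_quadratic hf hg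
    (FiniteField.odd_card_of_char_ne_two (ringChar_ne_two h2))
  refine ⟨x, y, ?_⟩
  simp only [Polynomial.eval_mul, Polynomial.eval_C, Polynomial.eval_pow, Polynomial.eval_X,
    Polynomial.eval_sub, Polynomial.eval_one] at h
  linear_combination h

/-- A nonzero element is either `d²` or `α d²` for a fixed non-square `α`. -/
theorem sq_or_nonsq_mul_sq (h2 : (2 : F) ≠ 0) {α : F} (hα : ¬ IsSquare α) {c : F} (hc : c ≠ 0) :
    ∃ d : F, d ≠ 0 ∧ (c = d * d ∨ c = α * (d * d)) := by
  haveI := Fintype.ofFinite F
  classical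
  have hchar := ringChar_ne_two (F := F) h2
  have hα0 : α ≠ 0 := by
    rintro rfl
    exact hα ⟨0, by simp⟩
  by_cases hsq : IsSquare c
  · obtain ⟨d, hd⟩ := hsq
    refine ⟨d, ?_, Or.inl hd⟩
    rintro rfl
    apply hc
    simpa using hd
  · have h1 : quadraticChar F c = -1 := (quadraticChar_neg_one_iff_not_isSquare).2 hsq
    have h2' : quadraticChar F α = -1 := (quadraticChar_neg_one_iff_not_isSquare).2 hα
    have h3 : quadraticChar F (c * α) = 1 := by
      rw [map_mul, h1, h2']; norm_num
    have hcα : c * α ≠ 0 := mul_ne_zero hc hα0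
    obtain ⟨d, hd⟩ := (quadraticChar_one_iff_isSquare hcα).1 h3
    have hd0 : d ≠ 0 := by
      rintro rfl
      apply hcα
      simpa using hd
    refine ⟨d / α, div_ne_zero hd0 hα0, Or.inr ?_⟩
    field_simp
    linear_combination hd

end

section
universe u v
variable {F : Type u} [Field F] [Finite F]

theorem exists_vec_one (h2 : (2 : F) ≠ 0) {V : Type v} [AddCommGroup V] [Module F V]
    [FiniteDimensional F V] (B : LinearMap.BilinForm F V) (hS : B.IsSymm) (hB : B.Nondegenerate)
    (hn : 2 ≤ finrank F V) : ∃ v : V, B v v = 1 := by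
  haveI : Invertible (2 : F) := invertibleOfNonzero h2
  obtain ⟨v, hv⟩ := LinearMap.BilinForm.exists_orthogonal_basis (LinearMap.BilinForm.isSymm_iff.1 hS)
  have hv' : B.iIsOrtho v := hv
  have hd := LinearMap.BilinForm.iIsOrtho.not_isOrtho_basis_self_of_nondegenerate hv' hB
  set i0 : Fin (finrank F V) := ⟨0, by omega⟩ with hi0
  set i1 : Fin (finrank F V) := ⟨1, by omega⟩ with hi1
  have hne : i0 ≠ i1 := by
    intro h
    have := congrArg Fin.val h
    simp [hi0, hi1] at this
  obtain ⟨x, y, hxy⟩ := exists_binary h2 (hd i0) (hd i1)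
  refine ⟨x • v i0 + y • v i1, ?_⟩
  have h01 : B (v i0) (v i1) = 0 := LinearMap.BilinForm.iIsOrtho_def.1 hv' _ _ hne
  have h10 : B (v i1) (v i0) = 0 := LinearMap.BilinForm.iIsOrtho_def.1 hv' _ _ hne.symm
  simp only [map_add, map_smul, LinearMap.add_apply, LinearMap.smul_apply, smul_eq_mul, h01, h10]
  linear_combination hxy

theorem exists_ortho_family (h2 : (2 : F) ≠ 0) (α : F) (hα : ¬ IsSquare α) :
    ∀ (n : ℕ) (V : Type v) [AddCommGroup V] [Module F V] [FiniteDimensional F V]
      (B : LinearMap.BilinForm F V), B.IsSymm → B.Nondegenerate → finrank F V = n + 1 →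
      ∃ b : Fin (n + 1) → V, (∀ i j, i ≠ j → B (b i) (b j) = 0) ∧
        (∀ i, i ≠ Fin.last n → B (b i) (b i) = 1) ∧
        (B (b (Fin.last n)) (b (Fin.last n)) = 1 ∨ B (b (Fin.last n)) (b (Fin.last n)) = α) := by
  intro n
  induction n with
  | zero =>
    intro V _ _ _ B hS hB hn
    haveI : Invertible (2 : F) := invertibleOfNonzero h2
    obtain ⟨v, hv⟩ := LinearMap.BilinForm.exists_orthogonal_basis (LinearMap.BilinForm.isSymm_iff.1 hS)
    have hv' : B.iIsOrtho v := hv
    have hd := LinearMap.BilinForm.iIsOrtho.not_isOrtho_basis_self_of_nondegenerate hv' hB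
    set i0 : Fin (finrank F V) := ⟨0, by omega⟩ with hi0
    obtain ⟨d, hd0, hcase⟩ := sq_or_nonsq_mul_sq h2 hα (hd i0)
    refine ⟨fun _ => d⁻¹ • v i0, ?_, ?_, ?_⟩
    · intro i j hij
      exact absurd (Fin.ext (by omega)) hij
    · intro i hi
      exact absurd (Fin.ext (by simp)) hi
    · simp only [map_smul, LinearMap.smul_apply, smul_eq_mul]
      rcases hcase with h | h
      · left
        rw [h]; field_simp
      · right
        rw [h]; field_simp
  | succ n ih =>
    intro V _ _ _ B hS hB hn
    obtain ⟨v, hv⟩ := exists_vec_one h2 B hS hB (by omega)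
    have hv0 : B v v ≠ 0 := by rw [hv]; exact one_ne_zero
    set W : Submodule F V := B.orthogonal (Submodule.span F {v}) with hW
    have hWnd : (B.restrict W).Nondegenerate :=
      LinearMap.BilinForm.restrict_nondegenerate_orthogonal_spanSingleton B hB hS.isRefl hv0
    have hWs : (B.restrict W).IsSymm := hS.restrict W
    have hv_ne : v ≠ 0 := by
      rintro rfl
      simp at hv0
    have hWdim : finrank F W = n + 1 := by
      rw [hW, LinearMap.BilinForm.finrank_orthogonal hB, finrank_span_singleton hv_ne, hn]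
      omega
    obtain ⟨w, hw1, hw2, hw3⟩ := ih W (B.restrict W) hWs hWnd hWdim
    have hvw : ∀ i, B v (w i : V) = 0 := by
      intro i
      have : (w i : V) ∈ B.orthogonal (Submodule.span F {v}) := (w i).2
      exact this v (Submodule.mem_span_singleton_self v)
    have hwv : ∀ i, B (w i : V) v = 0 := fun i => by rw [hS.eq]; exact hvw i
    refine ⟨Fin.cons v (fun i => (w i : V)), ?_, ?_, ?_⟩
    · intro i j
      refine Fin.cases ?_ (fun i' => ?_) i <;> refine Fin.cases ?_ (fun j' => ?_) j
      · intro hij; exact absurd rfl hij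
      · intro _; simpa using hvw j'
      · intro _; simpa using hwv i'
      · intro hij
        have hij' : i' ≠ j' := fun h => hij (by rw [h])
        simpa using hw1 i' j' hij'
    · intro i
      refine Fin.cases ?_ (fun i' => ?_) i
      · intro _; simpa using hv
      · intro hi
        have hi' : i' ≠ Fin.last n := fun h => hi (by rw [h, Fin.succ_last])
        simpa using hw2 i' hi'
    · rw [← Fin.succ_last]
      simpa using hw3

end

/-- Classification of symmetric bilinear forms over finite fields of odd characteristic: if B is non-degenerate symmetric on V of dimension n + 1 and α is a fixed non-square of F, there is an orthogonal basis b_0, ..., b_n with B(b_i, b_i) = 1 for i < n and B(b_n, b_n) ∈ {1, α}. -/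
theorem result {F V : Type*} [Field F] [Finite F] [AddCommGroup V] [Module F V] [FiniteDimensional F V] (h2 : (2 : F) ≠ 0) (B : LinearMap.BilinForm F V) (hS : B.IsSymm) (hB : B.Nondegenerate) {n : ℕ} (hn : Module.finrank F V = n + 1) (α : F) (hα : ¬ IsSquare α) : ∃ b : Module.Basis (Fin (n + 1)) F V, (∀ i j, i ≠ j → B (b i) (b j) = 0) ∧ (∀ i, i ≠ Fin.last n → B (b i) (b i) = 1) ∧ (B (b (Fin.last n)) (b (Fin.last n)) = 1 ∨ B (b (Fin.last n)) (b (Fin.last n)) = α) := by
  obtain ⟨b, hb1, hb2, hb3⟩ := exists_ortho_family h2 α hα n V B hS hB hn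
  have hα0 : α ≠ 0 := by
    rintro rfl
    exact hα ⟨0, by simp⟩
  have hdiag : ∀ i, B (b i) (b i) ≠ 0 := by
    intro i
    by_cases hi : i = Fin.last n
    · subst hi
      rcases hb3 with h | h <;> rw [h]
      · exact one_ne_zero
      · exact hα0
    · rw [hb2 i hi]; exact one_ne_zero
  have hli : LinearIndependent F b :=
    LinearMap.BilinForm.linearIndependent_of_iIsOrtho
      (LinearMap.BilinForm.iIsOrtho_def.2 hb1) hdiag
  refine ⟨basisOfLinearIndependentOfCardEqFinrank hli (by simp [hn]), ?_⟩
  rw [coe_basisOfLinearIndependentOfCardEqFinrank]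
  exact ⟨hb1, hb2, hb3⟩

end Cfsg.Agent.S0756
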