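import Cfsg.Statements.S0757
-- import your own Cfsg.Agent.* helpers here

set_option autoImplicit false
open Cfsg

namespace Cfsg.Agent.S0757

theorem polar_wss {F : Type*} [Field F] {ι : Type*} [Fintype ι] (w : ι → F) (x y : ι → F) :
    QuadraticMap.polar (⇑(QuadraticMap.weightedSumSquares F w)) x y
      = ∑ k, w k * (2 * x k * y k) := by
  unfold QuadraticMap.polar
  simp only [QuadraticMap.weightedSumSquares_apply, Pi.add_apply, smul_eq_mul]
  rw [← Finset.sum_sub_distrib, ← Finset.sum_sub_distrib]
  apply Finset.sum_congr rfl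
  intro k _
  ring

theorem toMatrix_polar_wss {F : Type*} [Field F] {ι : Type*} [Fintype ι] [DecidableEq ι]
    (w : ι → F) :
    LinearMap.BilinForm.toMatrix' (QuadraticMap.polarBilin (QuadraticMap.weightedSumSquares F w))
      = Matrix.diagonal (fun i => 2 * w i) := by
  ext i j
  rw [LinearMap.BilinForm.toMatrix'_apply]
  change QuadraticMap.polar (⇑(QuadraticMap.weightedSumSquares F w)) _ _ = _
  rw [polar_wss]
  by_cases hij : i = j
  · subst hij
    rw [Matrix.diagonal_apply_eq, Finset.sum_eq_single i]
    · simp; ring
    · intro k _ hk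
      simp [hk]
    · intro h
      exact absurd (Finset.mem_univ i) h
  · rw [Matrix.diagonal_apply_ne _ hij]
    apply Finset.sum_eq_zero
    intro k _
    by_cases hk : k = i
    · subst hk
      have : (Pi.single j (1 : F) : ι → F) k = 0 := by
        simp [hij]
      rw [this]; ring
    · have : (Pi.single i (1 : F) : ι → F) k = 0 := by
        simp [hk]
      rw [this]; ring

/-- The two diagonal forms Σ x_i^2 and Σ_(i<n) x_i^2 + α x_n^2 on F^(n+1), with α a non-square and 2 ≠ 0 in F, are inequivalent quadratic forms (so over a finite field of odd order there are exactly two classes of non-singular symmetric bilinear forms in each dimension). -/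
theorem result {F : Type*} [Field F] (h2 : (2 : F) ≠ 0) (n : ℕ) (α : F) (hα : ¬ IsSquare α) : ¬ (QuadraticMap.weightedSumSquares F (fun _ : Fin (n + 1) => (1 : F))).Equivalent (QuadraticMap.weightedSumSquares F (fun i : Fin (n + 1) => if i = Fin.last n then α else (1 : F))) := by
  classical
  rintro ⟨e⟩
  set w : Fin (n + 1) → F := fun i => if i = Fin.last n then α else (1 : F) with hw
  set Q1 := QuadraticMap.weightedSumSquares F (fun _ : Fin (n + 1) => (1 : F)) with hQ1
  set Q2 := QuadraticMap.weightedSumSquares F w with hQ2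
  set B1 : LinearMap.BilinForm F (Fin (n + 1) → F) := QuadraticMap.polarBilin Q1 with hB1
  set B2 : LinearMap.BilinForm F (Fin (n + 1) → F) := QuadraticMap.polarBilin Q2 with hB2
  set f : (Fin (n + 1) → F) →ₗ[F] (Fin (n + 1) → F) := e.toLinearEquiv.toLinearMap with hf
  have hcomp : B2.comp f f = B1 := by
    refine LinearMap.ext fun x => LinearMap.ext fun y => ?_
    rw [LinearMap.BilinForm.comp_apply]
    change QuadraticMap.polar (⇑Q2) (e x) (e y) = QuadraticMap.polar (⇑Q1) x y
    unfold QuadraticMap.polar
    rw [← map_add, e.map_app, e.map_app, e.map_app]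
  have hM := congrArg LinearMap.BilinForm.toMatrix' hcomp
  rw [LinearMap.BilinForm.toMatrix'_comp, hB1, hB2, hQ1, hQ2, toMatrix_polar_wss,
    toMatrix_polar_wss] at hM
  have hdet := congrArg Matrix.det hM
  rw [Matrix.det_mul, Matrix.det_mul, Matrix.det_transpose, Matrix.det_diagonal,
    Matrix.det_diagonal, Finset.prod_mul_distrib, Finset.prod_mul_distrib] at hdet
  simp only [Finset.prod_const, Finset.card_univ, Fintype.card_fin] at hdet
  have hprod : ∏ i : Fin (n + 1), w i = α := by
    rw [Finset.prod_eq_single (Fin.last n)]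
    · simp [hw]
    · intro i _ hi
      simp [hw, hi]
    · intro h
      exact absurd (Finset.mem_univ _) h
  rw [hprod] at hdet
  set d := (LinearMap.toMatrix' f).det with hd
  have h2n : (2 : F) ^ (n + 1) ≠ 0 := pow_ne_zero _ h2
  have h1 : d * d * α = 1 := by
    have : (2 : F) ^ (n + 1) * (d * d * α) = 2 ^ (n + 1) * 1 := by
      linear_combination hdet
    exact mul_left_cancel₀ h2n this
  have hd0 : d ≠ 0 := by
    rintro h0
    rw [h0] at h1
    simp at h1
  apply hα
  refine ⟨d⁻¹, ?_⟩
  field_simp
  linear_combination h1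

end Cfsg.Agent.S0757
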