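import Cfsg.Statements.S0759
-- import your own Cfsg.Agent.* helpers here

set_option autoImplicit false
open Cfsg

namespace Cfsg.Agent.S0759

open Matrix Module

variable {F : Type*} [Field F] {m : ℕ}

/-- the block swap matrix -/
def swapB (F : Type*) [Field F] (m : ℕ) : Matrix (Fin m ⊕ Fin m) (Fin m ⊕ Fin m) F :=
  Matrix.fromBlocks (0 : Matrix (Fin m) (Fin m) F) (1 : Matrix (Fin m) (Fin m) F)
    (1 : Matrix (Fin m) (Fin m) F) (0 : Matrix (Fin m) (Fin m) F)

/-- determinant of the block swap matrix -/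
theorem det_swapBlocks : (swapB F m).det = (-1) ^ m := by
  have h1 : Matrix.fromBlocks (1 : Matrix (Fin m) (Fin m) F) (0 : Matrix (Fin m) (Fin m) F)
        (-1 : Matrix (Fin m) (Fin m) F) (1 : Matrix (Fin m) (Fin m) F) *
      (Matrix.fromBlocks (1 : Matrix (Fin m) (Fin m) F) (1 : Matrix (Fin m) (Fin m) F)
        (0 : Matrix (Fin m) (Fin m) F) (1 : Matrix (Fin m) (Fin m) F) * swapB F m) =
      Matrix.fromBlocks (1 : Matrix (Fin m) (Fin m) F) (1 : Matrix (Fin m) (Fin m) F)
        (0 : Matrix (Fin m) (Fin m) F) (-1 : Matrix (Fin m) (Fin m) F) := by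
    simp [swapB, Matrix.fromBlocks_multiply]
  have h2 := congrArg Matrix.det h1
  rw [Matrix.det_mul, Matrix.det_mul, Matrix.det_fromBlocks_zero₁₂, Matrix.det_fromBlocks_zero₂₁,
    Matrix.det_fromBlocks_zero₂₁] at h2
  simp only [Matrix.det_one, one_mul] at h2
  rw [h2, Matrix.det_neg, Matrix.det_one, Fintype.card_fin, mul_one]

/-- Gram determinant: if `G = fromBlocks 0 1 1 S` then `det G = (-1)^m` -/
theorem det_gram (S : Matrix (Fin m) (Fin m) F) :
    (Matrix.fromBlocks (0 : Matrix (Fin m) (Fin m) F) (1 : Matrix (Fin m) (Fin m) F)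
      (1 : Matrix (Fin m) (Fin m) F) S).det = (-1) ^ m := by
  have h1 : Matrix.fromBlocks (0 : Matrix (Fin m) (Fin m) F) (1 : Matrix (Fin m) (Fin m) F)
      (1 : Matrix (Fin m) (Fin m) F) S * swapB F m =
      Matrix.fromBlocks (1 : Matrix (Fin m) (Fin m) F) (0 : Matrix (Fin m) (Fin m) F) S
        (1 : Matrix (Fin m) (Fin m) F) := by
    simp [swapB, Matrix.fromBlocks_multiply]
  have h2 := congrArg Matrix.det h1
  rw [Matrix.det_mul, det_swapBlocks, Matrix.det_fromBlocks_zero₁₂] at h2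
  simp only [Matrix.det_one, one_mul] at h2
  have h3 : ((-1 : F) ^ m) * ((-1 : F) ^ m) = 1 := by
    rw [← mul_pow]; simp
  calc _ = (Matrix.fromBlocks (0 : Matrix (Fin m) (Fin m) F) (1 : Matrix (Fin m) (Fin m) F)
              (1 : Matrix (Fin m) (Fin m) F) S).det * (((-1 : F) ^ m) * ((-1 : F) ^ m)) := by
        rw [h3, mul_one]
    _ = (-1) ^ m := by rw [← mul_assoc, h2, one_mul]

theorem isSquare_of_totally_singular (h2 : (2 : F) ≠ 0) (W : Submodule F (Fin m ⊕ Fin m → F))
    (hdim : finrank F W = m) (hW : ∀ w ∈ W, ∑ s, w s ^ 2 = 0) : IsSquare ((-1 : F) ^ m) := by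
  classical
  -- dot products vanish on W
  have hdot : ∀ w ∈ W, ∀ w' ∈ W, w ⬝ᵥ w' = 0 := by
    intro w hw w' hw'
    have h1 := hW (w + w') (W.add_mem hw hw')
    have h3 : ∑ s, (w + w') s ^ 2 = ∑ s, w s ^ 2 + 2 * (w ⬝ᵥ w') + ∑ s, w' s ^ 2 := by
      simp only [dotProduct, Finset.mul_sum, ← Finset.sum_add_distrib]
      apply Finset.sum_congr rfl
      intro s _
      simp only [Pi.add_apply]
      ring
    rw [h3, hW w hw, hW w' hw'] at h1
    have : (2 : F) * (w ⬝ᵥ w') = 0 := by linear_combination h1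
    rcases mul_eq_zero.mp this with h | h
    · exact absurd h h2
    · exact h
  -- basis of W
  let b : Basis (Fin m) F W := finBasisOfFinrankEq F W hdim
  let A : Matrix (Fin m) (Fin m ⊕ Fin m) F := Matrix.of (fun i => (b i : Fin m ⊕ Fin m → F))
  have hAA : A * Aᵀ = 0 := by
    ext i j
    rw [Matrix.mul_apply']
    exact hdot _ (b i).2 _ (b j).2
  -- rows independent
  have hli : LinearIndependent F A.row := by
    have : A.row = fun i => (W.subtype (b i)) := rfl
    rw [this]
    exact b.linearIndependent.map' W.subtype (Submodule.ker_subtype W)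
  have hrank : A.rank = m := by
    rw [hli.rank_matrix, Fintype.card_fin]
  have hsurj : Function.Surjective A.mulVecLin := by
    rw [← LinearMap.range_eq_top]
    apply Submodule.eq_top_of_finrank_eq
    rw [Module.finrank_fin_fun]
    exact hrank
  -- right inverse
  choose u hu using fun j : Fin m => hsurj (Pi.single j 1)
  let B : Matrix (Fin m ⊕ Fin m) (Fin m) F := Matrix.of (fun s j => u j s)
  have hAB : A * B = 1 := by
    ext i j
    have := congrFun (hu j) i
    rw [Matrix.mulVecLin_apply] at this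
    rw [Matrix.mul_apply, Matrix.one_apply]
    simp only [Matrix.mulVec, dotProduct] at this
    rw [show (∑ s, A i s * B s j) = ∑ s, A i s * u j s from rfl, this, Pi.single_apply]
  -- the square matrix T
  let T : Matrix (Fin m ⊕ Fin m) (Fin m ⊕ Fin m) F := Matrix.of (Sum.elim (fun i => A i) (fun j => Bᵀ j))
  have hTT : T * Tᵀ = Matrix.fromBlocks (0 : Matrix (Fin m) (Fin m) F) 1 1 (Bᵀ * B) := by
    have hBA : Bᵀ * Aᵀ = 1 := by
      rw [← Matrix.transpose_mul, hAB, Matrix.transpose_one]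
    ext s t
    rcases s with i | i <;> rcases t with j | j
    · have := congrFun (congrFun hAA i) j
      simpa [T, Matrix.mul_apply] using this
    · have := congrFun (congrFun hAB i) j
      simpa [T, Matrix.mul_apply] using this
    · have := congrFun (congrFun hBA i) j
      simpa [T, Matrix.mul_apply] using this
    · simp [T, Matrix.mul_apply]
  have hdet := congrArg Matrix.det hTT
  rw [Matrix.det_mul, Matrix.det_transpose, det_gram] at hdet
  exact ⟨T.det, hdet.symm⟩

/-- the graph of `C` -/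
def graphMap (C : Matrix (Fin m) (Fin m) F) : (Fin m → F) →ₗ[F] (Fin m ⊕ Fin m → F) where
  toFun x := Sum.elim x (C.mulVec x)
  map_add' x y := by
    funext s
    rcases s with i | i <;> simp [Matrix.mulVec_add]
  map_smul' c x := by
    funext s
    rcases s with i | i <;> simp [Matrix.mulVec_smul]

theorem graphMap_injective (C : Matrix (Fin m) (Fin m) F) : Function.Injective (graphMap C) := by
  intro x y h
  funext i
  have := congrFun h (Sum.inl i)
  simpa [graphMap] using this

theorem graphMap_sq (C : Matrix (Fin m) (Fin m) F) (hC : Cᵀ * C = -1) (x : Fin m → F) :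
    ∑ s, (graphMap C x) s ^ 2 = 0 := by
  rw [Fintype.sum_sum_type]
  simp only [graphMap, LinearMap.coe_mk, AddHom.coe_mk, Sum.elim_inl, Sum.elim_inr]
  have h1 : ∑ i, (C.mulVec x) i ^ 2 = (C.mulVec x) ⬝ᵥ (C.mulVec x) := by
    simp [dotProduct, pow_two]
  have h2 : ∑ i, x i ^ 2 = x ⬝ᵥ x := by
    simp [dotProduct, pow_two]
  have h3 : (C.mulVec x) ⬝ᵥ (C.mulVec x) = x ⬝ᵥ ((Cᵀ * C).mulVec x) := by
    rw [← Matrix.mulVec_mulVec, Matrix.dotProduct_mulVec x Cᵀ, Matrix.vecMul_transpose]
  rw [h1, h2, h3, hC, Matrix.neg_mulVec, Matrix.one_mulVec, dotProduct_neg, add_neg_cancel]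

theorem exists_C_of_isSquare (h : IsSquare (-1 : F)) : ∃ C : Matrix (Fin m) (Fin m) F, Cᵀ * C = -1 := by
  obtain ⟨i, hi⟩ := h
  refine ⟨i • (1 : Matrix (Fin m) (Fin m) F), ?_⟩
  rw [Matrix.transpose_smul, Matrix.transpose_one, Matrix.smul_mul, Matrix.mul_smul, Matrix.one_mul, smul_smul,
    ← hi, neg_one_smul]

theorem exists_C_of_even [Fintype F] (hm : Even m) :
    ∃ C : Matrix (Fin m) (Fin m) F, Cᵀ * C = -1 := by
  obtain ⟨r, rfl⟩ := hm
  -- a² + b² = -1
  have hp : (ringChar F).Prime := CharP.char_is_prime F (ringChar F)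
  have : NeZero (ringChar F) := ⟨hp.ne_zero⟩
  obtain ⟨a', b', hab⟩ := CharP.sq_add_sq F (ringChar F) (-1)
  set a : F := (a' : F)
  set b : F := (b' : F)
  have hab' : a ^ 2 + b ^ 2 = -1 := by simpa using hab
  let C' : Matrix (Fin r ⊕ Fin r) (Fin r ⊕ Fin r) F :=
    Matrix.fromBlocks (a • (1 : Matrix (Fin r) (Fin r) F)) ((-b) • (1 : Matrix (Fin r) (Fin r) F))
      (b • (1 : Matrix (Fin r) (Fin r) F)) (a • (1 : Matrix (Fin r) (Fin r) F))
  have hC' : C'ᵀ * C' = -1 := by
    simp only [C', Matrix.fromBlocks_transpose, Matrix.fromBlocks_multiply, Matrix.transpose_smul,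
      Matrix.transpose_one, Matrix.smul_mul, Matrix.mul_smul, Matrix.one_mul, smul_smul, ← add_smul]
    have e1 : a * a + b * b = -1 := by linear_combination hab'
    have e2 : -b * a + a * b = 0 := by ring
    have e3 : a * -b + b * a = 0 := by ring
    have e4 : -b * -b + a * a = -1 := by linear_combination hab'
    rw [e1, e2, e3, e4, ← Matrix.fromBlocks_one, Matrix.fromBlocks_neg]
    simp
  refine ⟨Matrix.reindex finSumFinEquiv finSumFinEquiv C', ?_⟩
  rw [Matrix.reindex_apply, Matrix.transpose_submatrix, Matrix.submatrix_mul_equiv, hC']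
  ext i j
  simp [Matrix.one_apply]

/-- the index equivalence -/
def eIdx (m : ℕ) : Fin m ⊕ Fin m ≃ Fin (2 * m) :=
  finSumFinEquiv.trans (finCongr (two_mul m).symm)

/-- the coordinate change -/
def Phi (F : Type*) [Field F] (m : ℕ) : (Fin m ⊕ Fin m → F) ≃ₗ[F] (Fin (2 * m) → F) :=
  LinearEquiv.funCongrLeft F F (eIdx m).symm

theorem Phi_sq (x : Fin m ⊕ Fin m → F) : ∑ j, (Phi F m x) j ^ 2 = ∑ s, x s ^ 2 := by
  show ∑ j, (x ((eIdx m).symm j)) ^ 2 = _
  exact Equiv.sum_comp (eIdx m).symm (fun s => x s ^ 2)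


/-- Type of the orthonormal form: over a finite field of odd order q and for m ≥ 1, the quadratic form Σ_(i<2m) x_i² on F^(2m) admits an m-dimensional subspace on which it vanishes identically if and only if it is not the case that q ≡ 3 (mod 4) and m is odd. -/
theorem result {F : Type*} [Field F] [Fintype F] (h2 : (2 : F) ≠ 0) (m : ℕ) (hm : 1 ≤ m) : (∃ W : Submodule F (Fin (2 * m) → F), Module.finrank F W = m ∧ ∀ w ∈ W, ∑ i, w i ^ 2 = 0) ↔ ¬ (Fintype.card F % 4 = 3 ∧ Odd m) := by
  constructor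
  · rintro ⟨W, hdim, hW⟩ ⟨hq, hodd⟩
    let W₀ : Submodule F (Fin m ⊕ Fin m → F) := W.map (Phi F m).symm.toLinearMap
    have hdim₀ : finrank F W₀ = m := by
      exact (LinearEquiv.finrank_map_eq (Phi F m).symm W).trans hdim
    have hW₀ : ∀ w ∈ W₀, ∑ s, w s ^ 2 = 0 := by
      rintro _ ⟨w, hw, rfl⟩
      have := Phi_sq (F := F) (m := m) ((Phi F m).symm w)
      rw [LinearEquiv.apply_symm_apply] at this
      rw [LinearEquiv.coe_coe, ← this]
      exact hW w hw
    have hsq := isSquare_of_totally_singular h2 W₀ hdim₀ hW₀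
    rw [hodd.neg_one_pow] at hsq
    exact (FiniteField.isSquare_neg_one_iff.mp hsq) hq
  · intro h
    have hC : ∃ C : Matrix (Fin m) (Fin m) F, Cᵀ * C = -1 := by
      by_cases hq : Fintype.card F % 4 = 3
      · have : ¬ Odd m := fun ho => h ⟨hq, ho⟩
        exact exists_C_of_even (Nat.not_odd_iff_even.mp this)
      · exact exists_C_of_isSquare (FiniteField.isSquare_neg_one_iff.mpr hq)
    obtain ⟨C, hC⟩ := hC
    refine ⟨(LinearMap.range (graphMap C)).map (Phi F m).toLinearMap, ?_, ?_⟩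
    · rw [LinearEquiv.finrank_map_eq (Phi F m), LinearMap.finrank_range_of_inj (graphMap_injective C),
        Module.finrank_fin_fun]
    · rintro _ ⟨_, ⟨x, rfl⟩, rfl⟩
      rw [LinearEquiv.coe_coe, Phi_sq]
      exact graphMap_sq C hC x

end Cfsg.Agent.S0759
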