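import Cfsg.Statements.S0760

set_option autoImplicit false
open Cfsg

namespace Cfsg.Agent.S0760

open Module

section
variable {F V : Type*} [Field F] [AddCommGroup V] [Module F V]

theorem polar_eq_zero_of_singular (Q : QuadraticForm F V) (W : Submodule F V)
    (h : ∀ w ∈ W, Q w = 0) {x y : V} (hx : x ∈ W) (hy : y ∈ W) :
    QuadraticMap.polarBilin Q x y = 0 := by
  simp [QuadraticMap.polar, h _ (W.add_mem hx hy), h _ hx, h _ hy]

theorem le_orthogonal_of_singular (Q : QuadraticForm F V) (W : Submodule F V)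
    (h : ∀ w ∈ W, Q w = 0) :
    W ≤ LinearMap.BilinForm.orthogonal (QuadraticMap.polarBilin Q) W :=
  fun _ hy _ hx => polar_eq_zero_of_singular Q W h hx hy

theorem inf_orthogonal_le (Q : QuadraticForm F V) (W₁ W₂ : Submodule F V)
    (h₁ : ∀ w ∈ W₁, Q w = 0) (h₂ : ∀ w ∈ W₂, Q w = 0)
    (hmax₁ : ∀ W : Submodule F V, W₁ ≤ W → (∀ w ∈ W, Q w = 0) → W = W₁) :
    W₂ ⊓ LinearMap.BilinForm.orthogonal (QuadraticMap.polarBilin Q) W₁ ≤ W₁ := by
  rintro w ⟨hw2, hwo⟩
  have hW : W₁ ⊔ Submodule.span F {w} = W₁ := hmax₁ _ le_sup_left (by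
    intro x hx
    obtain ⟨a, ha, b, hb, rfl⟩ := Submodule.mem_sup.1 hx
    obtain ⟨c, rfl⟩ := Submodule.mem_span_singleton.1 hb
    have hp : QuadraticMap.polar Q a (c • w) = 0 := by
      have := hwo a ha
      rw [QuadraticMap.polar_smul_right]
      simp only [QuadraticMap.polarBilin_apply_apply] at this
      rw [this, smul_zero]
    have hadd : Q (a + c • w) = Q a + Q (c • w) + QuadraticMap.polar Q a (c • w) := by
      simp [QuadraticMap.polar]
    rw [hadd, hp, h₁ a ha, QuadraticMap.map_smul, h₂ w hw2]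
    simp)
  have : w ∈ W₁ ⊔ Submodule.span F {w} :=
    (le_sup_right : Submodule.span F {w} ≤ _) (Submodule.mem_span_singleton_self w)
  rwa [hW] at this

variable [FiniteDimensional F V]

theorem finrank_le_of_max (Q : QuadraticForm F V)
    (hQ : (QuadraticMap.polarBilin Q).Nondegenerate) (W₁ W₂ : Submodule F V)
    (h₁ : ∀ w ∈ W₁, Q w = 0) (h₂ : ∀ w ∈ W₂, Q w = 0)
    (hmax₁ : ∀ W : Submodule F V, W₁ ≤ W → (∀ w ∈ W, Q w = 0) → W = W₁) :
    finrank F W₂ ≤ finrank F W₁ := by
  set B : LinearMap.BilinForm F V := QuadraticMap.polarBilin Q with hB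
  have hsub : W₂ ⊓ B.orthogonal W₁ ≤ W₁ ⊓ W₂ :=
    le_inf (inf_orthogonal_le Q W₁ W₂ h₁ h₂ hmax₁) inf_le_left
  have hsup : W₂ ⊔ B.orthogonal W₁ ≤ B.orthogonal (W₁ ⊓ W₂) :=
    sup_le ((le_orthogonal_of_singular Q W₂ h₂).trans
      (LinearMap.BilinForm.orthogonal_le inf_le_right))
      (LinearMap.BilinForm.orthogonal_le inf_le_left)
  have e1 := Submodule.finrank_sup_add_finrank_inf_eq W₂ (B.orthogonal W₁)
  have e2 := LinearMap.BilinForm.finrank_orthogonal (B := B) hQ W₁
  have e3 := LinearMap.BilinForm.finrank_orthogonal (B := B) hQ (W₁ ⊓ W₂)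
  have l1 := Submodule.finrank_mono hsub
  have l2 := Submodule.finrank_mono hsup
  have l3 := Submodule.finrank_le W₁
  have l4 := Submodule.finrank_le (W₁ ⊓ W₂)
  omega

end

/-- Witt index is well defined: if Q is a quadratic form on a finite-dimensional space V over a finite field with non-degenerate polar form, and W₁, W₂ are subspaces on which Q vanishes that are maximal with this property, then W₁ and W₂ have the same dimension, and twice this dimension is at most dim V. -/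
theorem result {F V : Type*} [Field F] [Finite F] [AddCommGroup V] [Module F V] [FiniteDimensional F V] (Q : QuadraticForm F V) (hQ : (QuadraticMap.polarBilin Q).Nondegenerate) (W₁ W₂ : Submodule F V) (h₁ : ∀ w ∈ W₁, Q w = 0) (h₂ : ∀ w ∈ W₂, Q w = 0) (hmax₁ : ∀ W : Submodule F V, W₁ ≤ W → (∀ w ∈ W, Q w = 0) → W = W₁) (hmax₂ : ∀ W : Submodule F V, W₂ ≤ W → (∀ w ∈ W, Q w = 0) → W = W₂) : Module.finrank F W₁ = Module.finrank F W₂ ∧ 2 * Module.finrank F W₁ ≤ Module.finrank F V := by
  refine ⟨le_antisymm (finrank_le_of_max Q hQ W₂ W₁ h₂ h₁ hmax₂)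
    (finrank_le_of_max Q hQ W₁ W₂ h₁ h₂ hmax₁), ?_⟩
  have e2 := LinearMap.BilinForm.finrank_orthogonal
    (B := (QuadraticMap.polarBilin Q : LinearMap.BilinForm F V)) hQ W₁
  have l1 := Submodule.finrank_mono (le_orthogonal_of_singular Q W₁ h₁)
  have l3 := Submodule.finrank_le W₁
  omega

end Cfsg.Agent.S0760
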