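import Cfsg.Statements.S0763
-- import your own Cfsg.Agent.* helpers here

set_option autoImplicit false
open Cfsg

namespace Cfsg.Agent.S0763

/-- Binary quadratic forms in characteristic two over a finite field: if Q is a quadratic form on a 2-dimensional space whose polar form is non-degenerate, then either there are vectors v, w with Q v = Q w = 0 and polar value 1 (Q is xy in these coordinates), or there are v, w and μ with Q v = 1, Q w = μ, polar value 1 and x² + x + μ without roots in F (Q is x² + xy + μy²). -/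
theorem result {F V : Type*} [Field F] [Finite F] [CharP F 2] [AddCommGroup V] [Module F V] (Q : QuadraticForm F V) (h2 : Module.finrank F V = 2) (hQ : (QuadraticMap.polarBilin Q).Nondegenerate) : (∃ v w : V, LinearIndependent F ![v, w] ∧ Q v = 0 ∧ Q w = 0 ∧ QuadraticMap.polar Q v w = 1) ∨ (∃ (v w : V) (μ : F), LinearIndependent F ![v, w] ∧ (∀ x : F, x ^ 2 + x + μ ≠ 0) ∧ Q v = 1 ∧ Q w = μ ∧ QuadraticMap.polar Q v w = 1) := by
  classical
  have h2F : (2 : F) = 0 := by
    have : ((2 : ℕ) : F) = 0 := CharP.cast_eq_zero F 2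
    exact_mod_cast this
  have hchar : ringChar F = 2 := ringChar.eq F 2
  have : Fintype F := Fintype.ofFinite F
  have hpolar_self : ∀ v : V, QuadraticMap.polar Q v v = 0 := by
    intro v
    rw [QuadraticMap.polar_self, nsmul_eq_mul]
    have : ((2 : ℕ) : F) = 0 := by exact_mod_cast h2F
    rw [this, zero_mul]
  have hQadd : ∀ (c : F) (v w : V), Q (c • v + w) = c * c * Q v + Q w
      + c * QuadraticMap.polar Q v w := by
    intro c v w
    have h1 : Q (c • v + w) = Q (c • v) + Q w + QuadraticMap.polar Q (c • v) w := by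
      unfold QuadraticMap.polar; ring
    rw [h1, QuadraticMap.map_smul, QuadraticMap.polar_smul_left, smul_eq_mul, smul_eq_mul]
  -- a partner with polar value 1
  have hpartner : ∀ v : V, v ≠ 0 → ∃ w : V, QuadraticMap.polar Q v w = 1 := by
    intro v hv
    have : ∃ w : V, QuadraticMap.polar Q v w ≠ 0 := by
      by_contra hcon
      push Not at hcon
      exact hv (hQ.1 v hcon)
    obtain ⟨w, hw⟩ := this
    refine ⟨(QuadraticMap.polar Q v w)⁻¹ • w, ?_⟩
    rw [QuadraticMap.polar_smul_right, smul_eq_mul, inv_mul_cancel₀ hw]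
  have hli : ∀ v w : V, v ≠ 0 → QuadraticMap.polar Q v w = 1 → LinearIndependent F ![v, w] := by
    intro v w hv hvw
    rw [LinearIndependent.pair_iff' hv]
    intro a ha
    rw [← ha, QuadraticMap.polar_smul_right, hpolar_self, smul_zero] at hvw
    exact zero_ne_one hvw
  have : Nontrivial V := Module.nontrivial_of_finrank_pos (R := F) (by omega)
  by_cases hex : ∃ v : V, v ≠ 0 ∧ Q v = 0
  · left
    obtain ⟨v, hv, hQv⟩ := hex
    obtain ⟨w, hvw⟩ := hpartner v hv
    refine ⟨v, Q w • v + w, ?_, hQv, ?_, ?_⟩
    · apply hli v _ hv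
      rw [QuadraticMap.polar_add_right, QuadraticMap.polar_smul_right, hpolar_self, smul_zero,
        zero_add, hvw]
    · rw [hQadd, hQv, hvw]
      linear_combination Q w * h2F
    · rw [QuadraticMap.polar_add_right, QuadraticMap.polar_smul_right, hpolar_self, smul_zero,
        zero_add, hvw]
  · right
    push Not at hex
    obtain ⟨v0, hv0⟩ := exists_ne (0 : V)
    have hQv0 : Q v0 ≠ 0 := hex v0 hv0
    obtain ⟨s, hs⟩ := FiniteField.isSquare_of_char_two hchar (Q v0)
    have hs0 : s ≠ 0 := by
      rintro rfl
      apply hQv0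
      rw [hs, mul_zero]
    set v : V := s⁻¹ • v0 with hv
    have hv0' : v ≠ 0 := smul_ne_zero (inv_ne_zero hs0) hv0
    have hQv : Q v = 1 := by
      rw [hv, QuadraticMap.map_smul, smul_eq_mul, hs]
      field_simp
    obtain ⟨w, hvw⟩ := hpartner v hv0'
    refine ⟨v, w, Q w, hli v w hv0' hvw, ?_, hQv, rfl, hvw⟩
    intro x hx
    have hne : x • v + w ≠ 0 := by
      intro h0
      have hw : w = (-x) • v := by
        rw [neg_smul]
        exact eq_neg_of_add_eq_zero_right h0
      rw [hw, QuadraticMap.polar_smul_right, hpolar_self, smul_zero] at hvw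
      exact zero_ne_one hvw
    apply hex _ hne
    rw [hQadd, hQv, hvw]
    linear_combination hx

end Cfsg.Agent.S0763
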