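import Cfsg.Statements.S0769
-- import your own Cfsg.Agent.* helpers here

set_option autoImplicit false
open Cfsg

namespace Cfsg.Agent.S0769

open Finset in
theorem prod_row {q n : ℕ} (i : Fin n) :
    ∏ j : Fin n, (if i < j then 1 else if i = j then (q - 1) else q) = (q - 1) * q ^ (i : ℕ) := by
  have h1 : ∀ j : Fin n, (if i < j then 1 else if i = j then (q - 1) else q)
      = (if j = i then (q - 1) else 1) * (if j < i then q else 1) := by
    intro j
    rcases lt_trichotomy i j with h | h | h
    · have h2 : ¬ j = i := fun hh => by rw [hh] at h; exact lt_irrefl _ h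
      have h3 : ¬ j < i := not_lt.mpr h.le
      simp [h, h2, h3]
    · subst h
      simp
    · have h2 : ¬ j = i := fun hh => by rw [hh] at h; exact lt_irrefl _ h
      have h3 : ¬ i < j := not_lt.mpr h.le
      have h4 : ¬ i = j := fun hh => h2 hh.symm
      simp [h, h2, h3, h4]
  simp_rw [h1]
  rw [Finset.prod_mul_distrib, Finset.prod_ite_eq' Finset.univ i, Finset.prod_ite,
    Finset.prod_const_one, mul_one, Finset.prod_const]
  simp only [Finset.mem_univ, if_true]
  congr 2
  have : (Finset.univ.filter (fun j : Fin n => j < i)) = Finset.Iio i := by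
    ext j; simp
  rw [this, Fin.card_Iio]

theorem sum_fin_id (n : ℕ) : ∑ i : Fin n, (i : ℕ) = n * (n - 1) / 2 := by
  rw [Fin.sum_univ_eq_sum_range (fun i => i) n, Finset.sum_range_id]

/-- Order of the Borel subgroup of GL_n(q): the invertible lower-triangular n × n matrices over a field with q elements number q^(n(n-1)/2) (q-1)^n (unitriangular part times the diagonal torus). -/
theorem result {F : Type*} [Field F] [Fintype F] {q : ℕ} (hF : Fintype.card F = q) (n : ℕ) : Nat.card {g : Matrix.GeneralLinearGroup (Fin n) F // ∀ i j : Fin n, i < j → (g : Matrix (Fin n) (Fin n) F) i j = 0} = q ^ (n * (n - 1) / 2) * (q - 1) ^ n := by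
  classical
  -- pass to matrices
  let P : (Fin n → Fin n → F) → Prop := fun M =>
    (∀ i j : Fin n, i < j → M i j = 0) ∧ ∀ i, M i i ≠ 0
  have hdet : ∀ M : Matrix (Fin n) (Fin n) F, (∀ i j : Fin n, i < j → M i j = 0) →
      M.det = ∏ i, M i i := by
    intro M hM
    apply Matrix.det_of_isLowerTriangular
    intro i j hij
    exact hM i j hij
  have hequiv : {g : Matrix.GeneralLinearGroup (Fin n) F //
      ∀ i j : Fin n, i < j → (g : Matrix (Fin n) (Fin n) F) i j = 0} ≃ {M // P M} :=
    { toFun := fun g => ⟨fun i j => (g.1 : Matrix (Fin n) (Fin n) F) i j, g.2, by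
        have h1 := hdet _ g.2
        have h2 : (g.1 : Matrix (Fin n) (Fin n) F).det ≠ 0 := by
          have := Matrix.GeneralLinearGroup.det_ne_zero g.1
          exact this
        rw [h1] at h2
        intro i
        exact Finset.prod_ne_zero_iff.mp h2 i (Finset.mem_univ i)⟩
      invFun := fun M => ⟨Matrix.GeneralLinearGroup.mkOfDetNeZero (Matrix.of M.1) (by
        rw [hdet (Matrix.of M.1) M.2.1]
        exact Finset.prod_ne_zero_iff.mpr (fun i _ => M.2.2 i)), M.2.1⟩
      left_inv := fun g => by
        apply Subtype.ext
        apply Units.ext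
        rfl
      right_inv := fun M => by
        apply Subtype.ext
        rfl }
  rw [Nat.card_congr hequiv, Nat.card_eq_fintype_card, Fintype.card_subtype]
  have hset : (Finset.univ.filter P) = Fintype.piFinset (fun i : Fin n =>
      Fintype.piFinset (fun j : Fin n =>
        if i < j then ({0} : Finset F) else if i = j then Finset.univ.erase 0 else Finset.univ)) := by
    ext M
    simp only [Finset.mem_filter, Finset.mem_univ, true_and, Fintype.mem_piFinset, P]
    constructor
    · rintro ⟨h1, h2⟩ i j
      by_cases hij : i < j
      · simp [hij, h1 i j hij]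
      · by_cases hij' : i = j
        · subst hij'
          simp [h2 i]
        · simp [hij, hij']
    · intro h
      constructor
      · intro i j hij
        have := h i j
        simpa [hij] using this
      · intro i
        have := h i i
        simpa using this
  rw [hset, Fintype.card_piFinset]
  simp_rw [Fintype.card_piFinset]
  have hcard : ∀ i j : Fin n, (if i < j then ({0} : Finset F) else if i = j then Finset.univ.erase 0
      else Finset.univ).card = (if i < j then 1 else if i = j then (q - 1) else q) := by
    intro i j
    split_ifs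
    · simp
    · rw [Finset.card_erase_of_mem (Finset.mem_univ _), Finset.card_univ, hF]
    · rw [Finset.card_univ, hF]
  simp_rw [hcard, prod_row]
  rw [Finset.prod_mul_distrib, Finset.prod_const, Finset.prod_pow_eq_pow_sum, sum_fin_id]
  simp only [Finset.card_univ, Fintype.card_fin]
  ring

end Cfsg.Agent.S0769
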