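import Cfsg.Statements.S0770
-- import your own Cfsg.Agent.* helpers here

set_option autoImplicit false
open Cfsg

namespace Cfsg.Agent.S0770

open Matrix

variable {F : Type*} [Field F] {n : ℕ}

/-- The diagonal torus. -/
abbrev torus (n : ℕ) (F : Type*) [Field F] : Subgroup (Matrix.GeneralLinearGroup (Fin n) F) :=
  (Units.map (Matrix.diagonalRingHom (Fin n) F).toMonoidHom).range

theorem mem_torus_iff (h : Matrix.GeneralLinearGroup (Fin n) F) :
    h ∈ torus n F ↔ ∃ d : Fin n → F, (h : Matrix (Fin n) (Fin n) F) = Matrix.diagonal d := by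
  constructor
  · rintro ⟨u, rfl⟩
    exact ⟨(u : Fin n → F), rfl⟩
  · rintro ⟨d, hd⟩
    have hdet : (h : Matrix (Fin n) (Fin n) F).det ≠ 0 :=
      Matrix.GeneralLinearGroup.det_ne_zero h
    rw [hd, Matrix.det_diagonal] at hdet
    have hd0 : ∀ i, d i ≠ 0 := fun i => Finset.prod_ne_zero_iff.mp hdet i (Finset.mem_univ i)
    refine ⟨⟨d, fun i => (d i)⁻¹, ?_, ?_⟩, ?_⟩
    · ext i; simp [hd0 i]
    · ext i; simp [hd0 i]
    · apply Units.ext
      rw [hd]
      rfl

theorem exists_row_ne_zero (g : Matrix.GeneralLinearGroup (Fin n) F) (i : Fin n) :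
    ∃ j, (g : Matrix (Fin n) (Fin n) F) i j ≠ 0 := by
  by_contra hcon
  push Not at hcon
  exact Matrix.GeneralLinearGroup.det_ne_zero g (Matrix.det_eq_zero_of_row_eq_zero i hcon)

theorem exists_col_ne_zero (g : Matrix.GeneralLinearGroup (Fin n) F) (j : Fin n) :
    ∃ i, (g : Matrix (Fin n) (Fin n) F) i j ≠ 0 := by
  by_contra hcon
  push Not at hcon
  exact Matrix.GeneralLinearGroup.det_ne_zero g (Matrix.det_eq_zero_of_column_eq_zero j hcon)

/-- For a field with at least 3 elements, an invertible matrix normalises the subgroup of invertible diagonal matrices of GL_n if and only if it is monomial (exactly one non-zero entry in each row). -/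
theorem result {F : Type*} [Field F] (hF : ∃ a : F, a ≠ 0 ∧ a ≠ 1) (n : ℕ) (g : Matrix.GeneralLinearGroup (Fin n) F) : g ∈ Subgroup.normalizer ((Units.map (Matrix.diagonalRingHom (Fin n) F).toMonoidHom).range : Subgroup (Matrix.GeneralLinearGroup (Fin n) F)) ↔ ∀ i : Fin n, ∃! j : Fin n, (g : Matrix (Fin n) (Fin n) F) i j ≠ 0 := by
  classical
  change g ∈ Subgroup.normalizer ((torus n F : Subgroup _) : Set _) ↔ _
  constructor
  · -- normaliser → monomial
    intro hg
    obtain ⟨a, ha0, ha1⟩ := hF
    have hclaim : ∀ i k : Fin n, (g : Matrix (Fin n) (Fin n) F) i k ≠ 0 →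
        ∀ j, j ≠ k → (g : Matrix (Fin n) (Fin n) F) i j = 0 := by
      intro i k hik j hjk
      set dk : Fin n → F := fun j => if j = k then a else 1 with hdk
      have hdk0 : (Matrix.diagonal dk).det ≠ 0 := by
        rw [Matrix.det_diagonal]
        apply Finset.prod_ne_zero_iff.mpr
        intro j _
        simp only [hdk]
        split_ifs
        · exact ha0
        · exact one_ne_zero
      set h : Matrix.GeneralLinearGroup (Fin n) F :=
        Matrix.GeneralLinearGroup.mkOfDetNeZero _ hdk0 with hh
      have hmem : h ∈ torus n F := (mem_torus_iff h).mpr ⟨dk, rfl⟩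
      have hconj := (Subgroup.mem_normalizer_iff.mp hg h).mp hmem
      obtain ⟨d', hd'⟩ := (mem_torus_iff _).mp hconj
      have hmul : (g : Matrix (Fin n) (Fin n) F) * Matrix.diagonal dk
          = Matrix.diagonal d' * (g : Matrix (Fin n) (Fin n) F) := by
        rw [← hd']
        have : ((g * h * g⁻¹ : Matrix.GeneralLinearGroup (Fin n) F) : Matrix (Fin n) (Fin n) F)
            * (g : Matrix (Fin n) (Fin n) F)
            = ((g * h * g⁻¹ * g : Matrix.GeneralLinearGroup (Fin n) F) :
              Matrix (Fin n) (Fin n) F) := by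
          rw [Units.val_mul (g * h * g⁻¹) g]
        rw [this, inv_mul_cancel_right, Units.val_mul]
        rfl
      have h1 := congrFun (congrFun hmul i) k
      have h2 := congrFun (congrFun hmul i) j
      rw [Matrix.mul_diagonal, Matrix.diagonal_mul] at h1 h2
      simp only [hdk, if_true, hjk, if_false, mul_one] at h1 h2
      have hd'i : d' i = a := by
        have : (d' i - a) * (g : Matrix (Fin n) (Fin n) F) i k = 0 := by
          linear_combination -h1
        rcases mul_eq_zero.mp this with h3 | h3
        · exact sub_eq_zero.mp h3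
        · exact absurd h3 hik
      rw [hd'i] at h2
      have : (1 - a) * (g : Matrix (Fin n) (Fin n) F) i j = 0 := by
        linear_combination h2
      rcases mul_eq_zero.mp this with h3 | h3
      · exfalso
        apply ha1
        have := sub_eq_zero.mp h3
        exact this.symm
      · exact h3
    intro i
    obtain ⟨k, hk⟩ := exists_row_ne_zero g i
    refine ⟨k, hk, ?_⟩
    intro j hj
    by_contra hjk
    exact hj (hclaim i k hk j hjk)
  · -- monomial → normaliser
    intro hmono
    choose π hπ hπu using hmono
    have hπ' : ∀ i j, (g : Matrix (Fin n) (Fin n) F) i j ≠ 0 → j = π i := fun i j h => hπu i j h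
    have hkey : ∀ d : Fin n → F, (g : Matrix (Fin n) (Fin n) F) * Matrix.diagonal d
        = Matrix.diagonal (d ∘ π) * (g : Matrix (Fin n) (Fin n) F) := by
      intro d
      ext i j
      rw [Matrix.mul_diagonal, Matrix.diagonal_mul]
      by_cases hij : (g : Matrix (Fin n) (Fin n) F) i j = 0
      · rw [hij]; ring
      · rw [hπ' i j hij]
        simp only [Function.comp_apply]
        ring
    have hsurj : Function.Surjective π := by
      intro j
      obtain ⟨i, hi⟩ := exists_col_ne_zero g j
      exact ⟨i, (hπ' i j hi).symm⟩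
    have hbij : Function.Bijective π := ⟨Finite.injective_iff_surjective.mpr hsurj, hsurj⟩
    set e : Fin n ≃ Fin n := Equiv.ofBijective π hbij with he
    rw [Subgroup.mem_normalizer_iff]
    intro h
    constructor
    · intro hh
      obtain ⟨d, hd⟩ := (mem_torus_iff h).mp hh
      rw [mem_torus_iff]
      refine ⟨d ∘ π, ?_⟩
      rw [Units.val_mul, Units.val_mul, hd, hkey, Matrix.mul_assoc, ← Units.val_mul,
        mul_inv_cancel, Units.val_one, Matrix.mul_one]
    · intro hh
      obtain ⟨d', hd'⟩ := (mem_torus_iff _).mp hh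
      rw [mem_torus_iff]
      refine ⟨d' ∘ e.symm, ?_⟩
      have h1 : (g : Matrix (Fin n) (Fin n) F) * Matrix.diagonal (d' ∘ e.symm)
          = (g : Matrix (Fin n) (Fin n) F) * (h : Matrix (Fin n) (Fin n) F) := by
        rw [hkey]
        have : (d' ∘ e.symm) ∘ π = d' := by
          ext i
          simp only [Function.comp_apply]
          have : π i = e i := rfl
          rw [this, Equiv.symm_apply_apply]
        rw [this, ← hd']
        have : ((g * h * g⁻¹ : Matrix.GeneralLinearGroup (Fin n) F) : Matrix (Fin n) (Fin n) F)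
            * (g : Matrix (Fin n) (Fin n) F)
            = ((g * h * g⁻¹ * g : Matrix.GeneralLinearGroup (Fin n) F) :
              Matrix (Fin n) (Fin n) F) := by
          rw [Units.val_mul (g * h * g⁻¹) g]
        rw [this, inv_mul_cancel_right, Units.val_mul]
      have h2 := congrArg (fun M => ((g⁻¹ : Matrix.GeneralLinearGroup (Fin n) F) :
        Matrix (Fin n) (Fin n) F) * M) h1
      simp only [← Matrix.mul_assoc, ← Units.val_mul, inv_mul_cancel, Units.val_one,
        Matrix.one_mul] at h2
      rw [inv_mul_cancel_left] at h2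
      exact h2.symm

end Cfsg.Agent.S0770
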