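import Mathlib
import Cfsg.Statements.S0771
import Cfsg.Agent.Lib.Helper40.BlockCount

set_option autoImplicit false
open Cfsg

namespace Cfsg.Agent.S0771

open Finset Cfsg.Agent.Lib.Helper40

/-- A subgroup of `GL` whose elements are exactly the block-triangular ones, as a set of matrices. -/
noncomputable def blockSubgroupEquiv {m α F : Type*} [Fintype m] [DecidableEq m] [LinearOrder α]
    [Field F] (b : m → α) (H : Subgroup (Matrix.GeneralLinearGroup m F))
    (hH : ∀ g : Matrix.GeneralLinearGroup m F, g ∈ H ↔ (g : Matrix m m F).BlockTriangular b) :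
    H ≃ {M : Matrix m m F // M.BlockTriangular b ∧ IsUnit M.det} where
  toFun g := ⟨(g.1 : Matrix m m F),
    ⟨(hH g.1).mp g.2, (Matrix.isUnit_iff_isUnit_det _).mp g.1.isUnit⟩⟩
  invFun M := ⟨((Matrix.isUnit_iff_isUnit_det _).mpr M.2.2).unit, (hH _).mpr M.2.1⟩
  left_inv _ := Subtype.ext (Units.ext rfl)
  right_inv _ := Subtype.ext rfl

section
variable {F : Type*} [Field F] (n k : ℕ)

/-- the two-block labelling -/
def lab (i : Fin n) : Fin 2 := if i.val < k then 0 else 1

lemma lab_lt_iff (i j : Fin n) : lab n k j < lab n k i ↔ j.val < k ∧ k ≤ i.val := by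
  unfold lab
  split_ifs with h1 h2 h2
  · simp; omega
  · simp; omega
  · simp; omega
  · simp; omega

lemma mulVec_mem (M : Matrix (Fin n) (Fin n) F) (hM : M.BlockTriangular (lab n k))
    (v : Fin n → F) (hv : ∀ i : Fin n, k ≤ (i : ℕ) → v i = 0) :
    ∀ i : Fin n, k ≤ (i : ℕ) → (M.mulVec v) i = 0 := by
  intro i hi
  rw [Matrix.mulVec, dotProduct]
  apply Finset.sum_eq_zero
  intro j _
  by_cases hj : k ≤ j.val
  · rw [hv j hj, mul_zero]
  · rw [hM ((lab_lt_iff n k i j).mpr ⟨by omega, hi⟩), zero_mul]

lemma mem_stab_iff (g : Matrix.GeneralLinearGroup (Fin n) F) :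
    g ∈ Cfsg.stabilizing (Cfsg.glToMat (Fin n) F)
        {v : Fin n → F | ∀ i : Fin n, k ≤ (i : ℕ) → v i = 0} ↔
      (g : Matrix (Fin n) (Fin n) F).BlockTriangular (lab n k) := by
  constructor
  · intro hg i j hij
    rw [lab_lt_iff] at hij
    have h1 := (hg (Pi.single j 1)).mp (by
      intro i' hi'
      have : i' ≠ j := by
        intro h; rw [h] at hi'; omega
      simp [this])
    have h2 := h1 i hij.2
    simpa using h2
  · intro hg v
    have hinv : ((g⁻¹ : Matrix.GeneralLinearGroup (Fin n) F) :
        Matrix (Fin n) (Fin n) F).BlockTriangular (lab n k) := by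
      have : Invertible (g : Matrix (Fin n) (Fin n) F) := g.invertible
      rw [Matrix.coe_units_inv]
      exact Matrix.blockTriangular_inv_of_blockTriangular hg
    constructor
    · intro hv
      exact mulVec_mem n k _ hg v hv
    · intro hv
      have h1 := mulVec_mem n k _ hinv _ hv
      have h2 : ((g⁻¹ : Matrix.GeneralLinearGroup (Fin n) F) : Matrix (Fin n) (Fin n) F).mulVec
          ((Cfsg.glToMat (Fin n) F g).mulVec v) = v := by
        change ((g⁻¹ : Matrix.GeneralLinearGroup (Fin n) F) : Matrix (Fin n) (Fin n) F).mulVec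
          ((g : Matrix (Fin n) (Fin n) F).mulVec v) = v
        rw [Matrix.mulVec_mulVec, ← Units.val_mul, inv_mul_cancel, Units.val_one,
          Matrix.one_mulVec]
      rw [h2] at h1
      exact h1

variable (hk : k ≤ n)
include hk

lemma card_fiber_zero : Fintype.card {i : Fin n // lab n k i = 0} = k := by
  rw [Fintype.card_subtype]
  have : (univ.filter fun i : Fin n => lab n k i = 0) = univ.filter fun i : Fin n => i.val < k := by
    apply Finset.filter_congr
    intro i _
    unfold lab
    split_ifs with h <;> simp [h]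
  rw [this, Fin.card_filter_val_lt]
  omega

lemma card_fiber_one : Fintype.card {i : Fin n // lab n k i = 1} = n - k := by
  have h0 := card_fiber_zero n k hk
  rw [Fintype.card_subtype] at h0 ⊢
  have h1 := Finset.card_filter_add_card_filter_not (s := (univ : Finset (Fin n)))
    (fun i : Fin n => lab n k i = 0)
  have : (univ.filter fun i : Fin n => ¬ lab n k i = 0) = univ.filter fun i : Fin n => lab n k i = 1 := by
    apply Finset.filter_congr
    intro i _
    unfold lab
    split_ifs with h <;> simp
  rw [this, Finset.card_univ, Fintype.card_fin] at h1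
  omega

lemma card_upper : Nat.card {p : Fin n × Fin n // lab n k p.1 < lab n k p.2} = k * (n - k) := by
  rw [Nat.card_eq_fintype_card, Fintype.card_subtype]
  have : (univ.filter fun p : Fin n × Fin n => lab n k p.1 < lab n k p.2) =
      (univ.filter fun i : Fin n => lab n k i = 0) ×ˢ (univ.filter fun i : Fin n => lab n k i = 1) := by
    ext p
    simp only [mem_filter, mem_univ, true_and, mem_product]
    rw [lab_lt_iff]
    unfold lab
    split_ifs with h1 h2 h2 <;> simp <;> omega
  rw [this, Finset.card_product, ← Fintype.card_subtype, ← Fintype.card_subtype,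
    card_fiber_zero n k hk, card_fiber_one n k hk]

end

/-- Maximal parabolic of GL_n(q): the stabiliser of the coordinate subspace spanned by the first k basis vectors has order q^(k(n-k)) · |GL_k(q)| · |GL_(n-k)(q)| (unipotent radical of order q^(k(n-k)) and Levi complement GL_k × GL_(n-k)). -/
theorem result {F : Type*} [Field F] [Fintype F] {q : ℕ} (hF : Fintype.card F = q) (n k : ℕ) (hk : k ≤ n) : Nat.card ↥(Cfsg.stabilizing (Cfsg.glToMat (Fin n) F) {v : Fin n → F | ∀ i : Fin n, k ≤ (i : ℕ) → v i = 0}) = q ^ (k * (n - k)) * (∏ i : Fin k, (q ^ k - q ^ (i : ℕ))) * ∏ i : Fin (n - k), (q ^ (n - k) - q ^ (i : ℕ)) := by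
  classical
  subst hF
  rw [Nat.card_congr (blockSubgroupEquiv (lab n k) _ (mem_stab_iff n k)), card_blockTri_units,
    Fin.prod_univ_two, card_isUnit_det, card_isUnit_det, card_fiber_zero n k hk,
    card_fiber_one n k hk, card_upper n k hk]
  ring

end Cfsg.Agent.S0771
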