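import Cfsg.Statements.S5631
import Cfsg.Agent.Lib.Helper93.SLGeneration

set_option autoImplicit false
open Cfsg

namespace Cfsg.Agent.S5631

open Matrix Cfsg.Geo Cfsg.Agent.Lib.Helper93

variable {ι : Type} [Fintype ι] [DecidableEq ι] {F : Type*} [Field F]

/-- a functional vanishing on `W` and non-zero at two given vectors outside `W` -/
theorem exists_functional_two (W : Submodule F (ι → F)) (a b : ι → F) (ha : a ∉ W) (hb : b ∉ W) :
    ∃ φ : ι → F, (∀ x ∈ W, φ ⬝ᵥ x = 0) ∧ φ ⬝ᵥ a ≠ 0 ∧ φ ⬝ᵥ b ≠ 0 := by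
  obtain ⟨φ1, h1W, h1a⟩ := exists_functional W a ha
  obtain ⟨φ2, h2W, h2b⟩ := exists_functional W b hb
  by_cases h1b : φ1 ⬝ᵥ b = 0
  · by_cases h2a : φ2 ⬝ᵥ a = 0
    · refine ⟨φ1 + φ2, fun x hx => ?_, ?_, ?_⟩
      · rw [add_dotProduct, h1W x hx, h2W x hx, add_zero]
      · rw [add_dotProduct, h1a, h2a, add_zero]; exact one_ne_zero
      · rw [add_dotProduct, h1b, h2b, zero_add]; exact one_ne_zero
    · exact ⟨φ2, h2W, h2a, by rw [h2b]; exact one_ne_zero⟩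
  · exact ⟨φ1, h1W, by rw [h1a]; exact one_ne_zero, h1b⟩

/-- the key step: a subgroup containing the stabiliser of `W` in SL and an element of SL moving some vector of `W`
out of `W` contains every general transvection -/
theorem all_tv_mem (W : Submodule F (ι → F)) (M : Subgroup (GL ι F))
    (hPM : subspaceStabilizer W ⊓ specialLinear ι F ≤ M) (g : GL ι F) (hgM : g ∈ M)
    (w : ι → F) (hw : w ∈ W) (hgw : (g : Matrix ι ι F) *ᵥ w ∉ W)
    (v φ : ι → F) (h : φ ⬝ᵥ v = 0) : tv v φ h ∈ M := by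
  set a := (g : Matrix ι ι F) *ᵥ w with ha
  -- Claim 2: every transvection with centre `a` lies in `M`
  have claim2 : ∀ (ψ : ι → F) (hψ : ψ ⬝ᵥ a = 0), tv a ψ hψ ∈ M := by
    intro ψ hψ
    have h0 : (ψ ᵥ* (g : Matrix ι ι F)) ⬝ᵥ w = 0 := by
      rw [← Matrix.dotProduct_mulVec]; exact hψ
    have hmem : tv w (ψ ᵥ* (g : Matrix ι ι F)) h0 ∈ M :=
      hPM ⟨tv_mem_subspaceStabilizer_of_mem W _ _ h0 hw, tv_mem_specialLinear _ _ h0⟩
    have hconj := conj_tv g w (ψ ᵥ* (g : Matrix ι ι F)) h0 (conj_tv_dot g w _ h0)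
    have hψ' : (ψ ᵥ* (g : Matrix ι ι F)) ᵥ* ((g⁻¹ : GL ι F) : Matrix ι ι F) = ψ := by
      rw [Matrix.vecMul_vecMul, ← Units.val_mul, mul_inv_cancel, Units.val_one, Matrix.vecMul_one]
    have hfin : tv a ψ hψ = g * tv w (ψ ᵥ* (g : Matrix ι ι F)) h0 * g⁻¹ := by
      rw [hconj]
      apply Units.ext
      simp only [tv_val]
      rw [hψ']
    rw [hfin]
    exact M.mul_mem (M.mul_mem hgM hmem) (M.inv_mem hgM)
  by_cases hv : v ∈ W
  · exact hPM ⟨tv_mem_subspaceStabilizer_of_mem W _ _ h hv, tv_mem_specialLinear _ _ h⟩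
  · -- Claim 3
    obtain ⟨φ0, hφW, hφa, hφb⟩ := exists_functional_two W a v hgw hv
    -- normalise so that φ0 ⬝ a = 1
    set α := φ0 ⬝ᵥ a with hα
    set φ1 := α⁻¹ • φ0 with hφ1
    have hφ1W : ∀ x ∈ W, φ1 ⬝ᵥ x = 0 := fun x hx => by
      rw [hφ1, smul_dotProduct, hφW x hx, smul_zero]
    have hφ1a : φ1 ⬝ᵥ a = 1 := by
      rw [hφ1, smul_dotProduct, smul_eq_mul, inv_mul_cancel₀ hφa]
    set β := φ1 ⬝ᵥ v with hβ
    have hβ0 : β ≠ 0 := by
      rw [hβ, hφ1, smul_dotProduct, smul_eq_mul]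
      exact mul_ne_zero (inv_ne_zero hφa) hφb
    set u := β⁻¹ • v - a with hu
    have hφ1u : φ1 ⬝ᵥ u = 0 := by
      rw [hu, dotProduct_sub, dotProduct_smul, hφ1a, ← hβ, smul_eq_mul, inv_mul_cancel₀ hβ0, sub_self]
    -- s ∈ P
    have hsM : tv u φ1 hφ1u ∈ M :=
      hPM ⟨tv_mem_subspaceStabilizer_of_vanish W _ _ hφ1u hφ1W, tv_mem_specialLinear _ _ hφ1u⟩
    have hsa : ((tv u φ1 hφ1u : GL ι F) : Matrix ι ι F) *ᵥ a = β⁻¹ • v := by
      rw [tv_mulVec, hφ1a, one_smul, hu]; abel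
    -- ψ' := (β • φ) ᵥ* s
    set s := tv u φ1 hφ1u with hs
    have hψ'a : ((β • φ) ᵥ* (s : Matrix ι ι F)) ⬝ᵥ a = 0 := by
      rw [← Matrix.dotProduct_mulVec, hsa, smul_dotProduct, dotProduct_smul, h, smul_zero, smul_zero]
    have hmem := claim2 _ hψ'a
    have hconj := conj_tv s a _ hψ'a (conj_tv_dot s a _ hψ'a)
    have hψ'' : ((β • φ) ᵥ* (s : Matrix ι ι F)) ᵥ* ((s⁻¹ : GL ι F) : Matrix ι ι F) = β • φ := by
      rw [Matrix.vecMul_vecMul, ← Units.val_mul, mul_inv_cancel, Units.val_one, Matrix.vecMul_one]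
    have hdot : (β • φ) ⬝ᵥ (β⁻¹ • v) = 0 := by
      rw [smul_dotProduct, dotProduct_smul, h, smul_zero, smul_zero]
    have hfin : tv v φ h = s * tv a ((β • φ) ᵥ* (s : Matrix ι ι F)) hψ'a * s⁻¹ := by
      rw [hconj, ← tv_smul_smul v φ β hβ0 h hdot]
      apply Units.ext
      simp only [tv_val]
      rw [hψ'', hsa]
    rw [hfin]
    exact M.mul_mem (M.mul_mem hsM hmem) (M.inv_mem hsM)

/-- For a finite field F and n ≥ 13, the stabiliser in SL_n(F) of any proper non-zero subspace W of F^n is a maximal subgroup of SL_n(F). Here SL_n(F) is the kernel of the determinant inside GL_n(F) and the stabiliser is the set of elements of determinant one mapping W onto itself. -/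
theorem result {F : Type*} [Field F] [Fintype F] (n : ℕ) (hn : 13 ≤ n) (W : Submodule F (Fin n → F)) (hW0 : W ≠ ⊥) (hW1 : W ≠ ⊤) : Cfsg.Geo.IsMaximalIn (Cfsg.Geo.specialLinear (Fin n) F) (Cfsg.Geo.subspaceStabilizer W ⊓ Cfsg.Geo.specialLinear (Fin n) F) := by
  have hnt : Nontrivial (Fin n) := Fin.nontrivial_iff_two_le.2 (by omega)
  refine ⟨?_, ?_⟩
  · rw [lt_iff_le_and_ne]
    refine ⟨inf_le_right, ?_⟩
    intro heq
    obtain ⟨g, hgSL, hgW⟩ := Cfsg.Agent.Lib.Helper93.exists_specialLinear_not_stab W hW0 hW1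
    rw [← heq] at hgSL
    exact hgW hgSL.1
  · intro M hPM hMSL
    by_cases hMP : M = Cfsg.Geo.subspaceStabilizer W ⊓ Cfsg.Geo.specialLinear (Fin n) F
    · exact Or.inl hMP
    · right
      apply le_antisymm hMSL
      -- an element of M outside P
      obtain ⟨g, hgM, hgP⟩ : ∃ g ∈ M, g ∉ Cfsg.Geo.subspaceStabilizer W ⊓ Cfsg.Geo.specialLinear (Fin n) F := by
        by_contra hcon
        push Not at hcon
        exact hMP (le_antisymm hcon hPM)
      have hgW : g ∉ Cfsg.Geo.subspaceStabilizer W := fun hgW => hgP ⟨hgW, hMSL hgM⟩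
      -- find g' ∈ M and w ∈ W with g' w ∉ W
      obtain ⟨g', hg'M, w, hw, hg'w⟩ : ∃ g' ∈ M, ∃ w ∈ W, (g' : Matrix (Fin n) (Fin n) F) *ᵥ w ∉ W := by
        rw [Cfsg.Agent.Lib.Helper93.mem_subspaceStabilizer_iff] at hgW
        push Not at hgW
        obtain ⟨x, hx⟩ := hgW
        rcases hx with ⟨hxW, hgx⟩ | ⟨hxW, hgx⟩
        · exact ⟨g, hgM, x, hxW, hgx⟩
        · refine ⟨g⁻¹, M.inv_mem hgM, (g : Matrix (Fin n) (Fin n) F) *ᵥ x, hgx, ?_⟩
          rw [Matrix.mulVec_mulVec, ← Units.val_mul, inv_mul_cancel, Units.val_one, Matrix.one_mulVec]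
          exact hxW
      apply Cfsg.Agent.Lib.Helper93.specialLinear_le_of_tv_mem M
      intro v φ h
      exact all_tv_mem W M hPM g' hg'M w hw hg'w v φ h

end Cfsg.Agent.S5631
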