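import Cfsg.Statements.S0772
import Cfsg.Agent.S5631

set_option autoImplicit false
open Cfsg

namespace Cfsg.Agent.S0772

open Matrix Cfsg.Geo Cfsg.Agent.Lib.Helper93 in
/-- the coordinate subspace spanned by the first `k` basis vectors -/
def coordSub (F : Type*) [Field F] (n k : ℕ) : Submodule F (Fin n → F) where
  carrier := {v | ∀ i : Fin n, k ≤ (i : ℕ) → v i = 0}
  add_mem' := by
    intro a b ha hb i hi
    rw [Pi.add_apply, ha i hi, hb i hi, add_zero]
  zero_mem' := by
    intro i _
    rfl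
  smul_mem' := by
    intro c a ha i hi
    rw [Pi.smul_apply, ha i hi, smul_zero]

open Matrix Cfsg.Geo Cfsg.Agent.Lib.Helper93 in
theorem coordSub_ne_bot {F : Type*} [Field F] (n k : ℕ) (hk0 : 0 < k) (hkn : k < n) :
    coordSub F n k ≠ ⊥ := by
  intro h
  have hmem : (Pi.single (⟨0, by omega⟩ : Fin n) (1 : F)) ∈ coordSub F n k := by
    intro i hi
    rw [Pi.single_apply, if_neg]
    intro hi0
    rw [hi0] at hi
    simp at hi
    omega
  rw [h, Submodule.mem_bot] at hmem
  have := congrFun hmem (⟨0, by omega⟩ : Fin n)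
  simp at this

open Matrix Cfsg.Geo Cfsg.Agent.Lib.Helper93 in
theorem coordSub_ne_top {F : Type*} [Field F] (n k : ℕ) (hk0 : 0 < k) (hkn : k < n) :
    coordSub F n k ≠ ⊤ := by
  intro h
  have hmem : (Pi.single (⟨k, hkn⟩ : Fin n) (1 : F)) ∈ coordSub F n k := by
    rw [h]; exact Submodule.mem_top
  have := hmem ⟨k, hkn⟩ le_rfl
  simp at this

open Matrix Cfsg.Geo Cfsg.Agent.Lib.Helper93 in
/-- invertible diagonal matrices stabilise the coordinate subspace -/
theorem diag_mem_stab {F : Type*} [Field F] (n k : ℕ) (d : Fin n → F) (g : GL (Fin n) F)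
    (hg : (g : Matrix (Fin n) (Fin n) F) = Matrix.diagonal d)
    (hd : ∀ i, d i ≠ 0) :
    g ∈ subspaceStabilizer (coordSub F n k) := by
  rw [mem_subspaceStabilizer_iff]
  intro x
  rw [hg]
  constructor
  · intro hx i hi
    rw [Matrix.mulVec_diagonal, hx i hi, mul_zero]
  · intro hx i hi
    have := hx i hi
    rw [Matrix.mulVec_diagonal] at this
    exact (mul_eq_zero.1 this).resolve_left (hd i)

/-- Maximal parabolics are maximal: over a finite field, for 0 < k < n the stabiliser in GL_n of the span of the first k coordinate vectors is a maximal proper subgroup. -/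
theorem result {F : Type*} [Field F] [Finite F] (n k : ℕ) (hk0 : 0 < k) (hkn : k < n) : IsCoatom (Cfsg.stabilizing (Cfsg.glToMat (Fin n) F) {v : Fin n → F | ∀ i : Fin n, k ≤ (i : ℕ) → v i = 0}) := by
  classical
  have hnt : Nontrivial (Fin n) := Fin.nontrivial_iff_two_le.2 (by omega)
  set W := coordSub F n k with hW
  have hP : Cfsg.stabilizing (Cfsg.glToMat (Fin n) F) {v : Fin n → F | ∀ i : Fin n, k ≤ (i : ℕ) → v i = 0}
      = Cfsg.Geo.subspaceStabilizer W := rfl
  rw [hP]
  have hW0 := coordSub_ne_bot (F := F) n k hk0 hkn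
  have hW1 := coordSub_ne_top (F := F) n k hk0 hkn
  refine ⟨?_, ?_⟩
  · intro htop
    obtain ⟨g, -, hgW⟩ := Cfsg.Agent.Lib.Helper93.exists_specialLinear_not_stab W hW0 hW1
    apply hgW
    rw [htop]
    exact Subgroup.mem_top g
  · intro M hPM
    obtain ⟨hle, hne⟩ := lt_iff_le_and_ne.1 hPM
    obtain ⟨g, hgM, hgW⟩ : ∃ g ∈ M, g ∉ Cfsg.Geo.subspaceStabilizer W := by
      by_contra hcon
      push Not at hcon
      exact hne (le_antisymm hle hcon)
    obtain ⟨g', hg'M, w, hw, hg'w⟩ : ∃ g' ∈ M, ∃ w ∈ W, Matrix.mulVec (g' : Matrix (Fin n) (Fin n) F) w ∉ W := by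
      rw [Cfsg.Agent.Lib.Helper93.mem_subspaceStabilizer_iff] at hgW
      push Not at hgW
      obtain ⟨x, hx⟩ := hgW
      rcases hx with ⟨hxW, hgx⟩ | ⟨hxW, hgx⟩
      · exact ⟨g, hgM, x, hxW, hgx⟩
      · refine ⟨g⁻¹, M.inv_mem hgM, Matrix.mulVec (g : Matrix (Fin n) (Fin n) F) x, hgx, ?_⟩
        rw [Matrix.mulVec_mulVec, ← Units.val_mul, inv_mul_cancel, Units.val_one, Matrix.one_mulVec]
        exact hxW
    have hSL : Cfsg.Geo.specialLinear (Fin n) F ≤ M := by
      apply Cfsg.Agent.Lib.Helper93.specialLinear_le_of_tv_mem M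
      intro v φ h
      exact Cfsg.Agent.S5631.all_tv_mem W M (le_trans inf_le_left hle) g' hg'M w hw hg'w v φ h
    rw [eq_top_iff]
    intro h _
    -- the diagonal matrix with determinant `det h`
    set i0 : Fin n := ⟨0, by omega⟩ with hi0
    set d : Fin n → F := Function.update (fun _ => (1 : F)) i0 ((h : Matrix (Fin n) (Fin n) F).det) with hd
    have hdet0 : (h : Matrix (Fin n) (Fin n) F).det ≠ 0 := by
      have := (Matrix.isUnit_iff_isUnit_det _).1 (Units.isUnit h)
      exact this.ne_zero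
    have hdne : ∀ i, d i ≠ 0 := by
      intro i
      rw [hd]
      by_cases hi : i = i0
      · rw [hi, Function.update_self]; exact hdet0
      · rw [Function.update_of_ne hi]; exact one_ne_zero
    have hddet : (Matrix.diagonal d).det = (h : Matrix (Fin n) (Fin n) F).det := by
      rw [Matrix.det_diagonal, hd, Finset.prod_update_of_mem (Finset.mem_univ i0)]
      simp
    have hdu : IsUnit (Matrix.diagonal d).det := by
      rw [hddet]; exact isUnit_iff_ne_zero.2 hdet0
    set D : Matrix.GeneralLinearGroup (Fin n) F := Matrix.GeneralLinearGroup.mk'' (Matrix.diagonal d) hdu with hD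
    have hDval : (D : Matrix (Fin n) (Fin n) F) = Matrix.diagonal d := rfl
    have hDM : D ∈ M := hle (diag_mem_stab n k d D hDval hdne)
    have hsl : h * D⁻¹ ∈ Cfsg.Geo.specialLinear (Fin n) F := by
      rw [Cfsg.Agent.Lib.Helper93.mem_specialLinear_iff]
      have h1 : ((h * D⁻¹ : Matrix.GeneralLinearGroup (Fin n) F) : Matrix (Fin n) (Fin n) F).det
          * (D : Matrix (Fin n) (Fin n) F).det = (h : Matrix (Fin n) (Fin n) F).det := by
        rw [← Matrix.det_mul, ← Units.val_mul, inv_mul_cancel_right]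
      rw [hDval, hddet] at h1
      exact mul_right_cancel₀ hdet0 (h1.trans (one_mul _).symm)
    have : h = (h * D⁻¹) * D := by rw [inv_mul_cancel_right]
    rw [this]
    exact M.mul_mem (hSL hsl) hDM

end Cfsg.Agent.S0772
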