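import Cfsg.Statements.S0774
import Cfsg.Agent.Lib.Helper13.StabFin
import Cfsg.Agent.S0769

set_option autoImplicit false
open Cfsg

namespace Cfsg.Agent.S0774

open Matrix Cfsg.Agent.Lib.Helper13

section

variable {F : Type*} [Field F] {m : ℕ}

/-- The members of the isotropic coordinate flag. -/
def flagSet (m : ℕ) (F : Type*) [Field F] (k : Fin m) : Set (Fin m ⊕ Fin m → F) :=
  {v : Fin m ⊕ Fin m → F | (∀ i : Fin m, (k : ℕ) < (i : ℕ) → v (Sum.inl i) = 0) ∧
    ∀ i : Fin m, v (Sum.inr i) = 0}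

theorem fromBlocks_mulVec_mem_flagSet (A B D : Matrix (Fin m) (Fin m) F)
    (hA : ∀ i j : Fin m, j < i → A i j = 0) (k : Fin m) (v : Fin m ⊕ Fin m → F)
    (hv : v ∈ flagSet m F k) : Matrix.fromBlocks A B 0 D *ᵥ v ∈ flagSet m F k := by
  obtain ⟨hv1, hv2⟩ := hv
  have hinr : v ∘ Sum.inr = 0 := funext hv2
  rw [Matrix.fromBlocks_mulVec, hinr, Matrix.mulVec_zero, Matrix.mulVec_zero, add_zero,
    Matrix.zero_mulVec, add_zero]
  refine ⟨?_, ?_⟩
  · intro i hi
    rw [Sum.elim_inl, Matrix.mulVec, dotProduct]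
    apply Finset.sum_eq_zero
    intro j _
    by_cases hj : (k : ℕ) < (j : ℕ)
    · rw [Function.comp_apply, hv1 j hj, mul_zero]
    · have hji : j < i := by
        rw [Fin.lt_def]; omega
      rw [hA i j hji, zero_mul]
  · intro i
    rfl

theorem blocks_of_flag (M : Matrix (Fin m ⊕ Fin m) (Fin m ⊕ Fin m) F)
    (hM : ∀ k : Fin m, ∀ v ∈ flagSet m F k, M *ᵥ v ∈ flagSet m F k) :
    (∀ i j : Fin m, j < i → M (Sum.inl i) (Sum.inl j) = 0) ∧
      (∀ i j : Fin m, M (Sum.inr i) (Sum.inl j) = 0) := by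
  have hmem : ∀ j : Fin m, (Pi.single (Sum.inl j) 1 : Fin m ⊕ Fin m → F) ∈ flagSet m F j := by
    intro j
    refine ⟨?_, ?_⟩
    · intro i hi
      have : (Sum.inl i : Fin m ⊕ Fin m) ≠ Sum.inl j := by
        intro h
        have := Sum.inl.inj h
        rw [this] at hi
        exact lt_irrefl _ hi
      rw [Pi.single_eq_of_ne this]
    · intro i
      rw [Pi.single_eq_of_ne (by simp)]
  refine ⟨?_, ?_⟩
  · intro i j hji
    have h := (hM j _ (hmem j)).1 i (by rw [Fin.lt_def] at hji; exact hji)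
    rw [Matrix.mulVec_single_one] at h
    exact h
  · intro i j
    have h := (hM j _ (hmem j)).2 i
    rw [Matrix.mulVec_single_one] at h
    exact h

end

section

variable {F : Type*} [Field F] [Fintype F] {m : ℕ}

/-- The Borel subgroup of the symplectic group. -/
def borel (m : ℕ) (F : Type*) [Field F] : Subgroup (Matrix.symplecticGroup (Fin m) F) :=
  ⨅ k : Fin m, Cfsg.stabilizing (Cfsg.spToMat m F) (flagSet m F k)

theorem mem_borel_iff (g : Matrix.symplecticGroup (Fin m) F) :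
    g ∈ borel m F ↔ ∀ k : Fin m, ∀ v ∈ flagSet m F k, g.1 *ᵥ v ∈ flagSet m F k := by
  unfold borel
  rw [Subgroup.mem_iInf]
  constructor
  · intro h k v hv
    exact ((h k) v).mp hv
  · intro h k
    exact mem_stabilizing_of_finite (Cfsg.spToMat m F) (flagSet m F k) (Set.toFinite _) g (h k)

/-- The parametrisation of the Borel subgroup by a lower triangular matrix and a symmetric
matrix. -/
noncomputable def borelMap (m : ℕ) (F : Type*) [Field F] [Fintype F] :
    {L : Matrix.GeneralLinearGroup (Fin m) F //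
        ∀ i j : Fin m, i < j → (L : Matrix (Fin m) (Fin m) F) i j = 0} ×
      {S : Matrix (Fin m) (Fin m) F // Sᵀ = S} → ↥(borel m F) := fun p =>
  ⟨⟨Matrix.fromBlocks (p.1.1 : Matrix (Fin m) (Fin m) F)ᵀ
      ((p.1.1 : Matrix (Fin m) (Fin m) F)ᵀ * p.2.1) 0
      ((p.1.1⁻¹ : Matrix.GeneralLinearGroup (Fin m) F) : Matrix (Fin m) (Fin m) F), by
    rw [SymplecticGroup.fromBlocks_mem_iff]
    refine ⟨by simp, ?_, ?_⟩
    · rw [Matrix.transpose_mul, Matrix.transpose_transpose, p.2.2, Matrix.mul_assoc,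
        ← Units.val_mul, mul_inv_cancel, Units.val_one, Matrix.mul_one, ← Matrix.mul_assoc,
        ← Matrix.transpose_mul, ← Units.val_mul, mul_inv_cancel, Units.val_one,
        Matrix.transpose_one, Matrix.one_mul]
    · rw [Matrix.transpose_transpose, ← Units.val_mul, mul_inv_cancel, Units.val_one]
      simp⟩, by
    rw [mem_borel_iff]
    intro k v hv
    apply fromBlocks_mulVec_mem_flagSet _ _ _ _ k v hv
    intro i j hji
    rw [Matrix.transpose_apply]
    exact p.1.2 j i hji⟩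

theorem borelMap_coe (p : {L : Matrix.GeneralLinearGroup (Fin m) F //
        ∀ i j : Fin m, i < j → (L : Matrix (Fin m) (Fin m) F) i j = 0} ×
      {S : Matrix (Fin m) (Fin m) F // Sᵀ = S}) :
    ((borelMap m F p : ↥(borel m F)) : Matrix.symplecticGroup (Fin m) F).1
      = Matrix.fromBlocks (p.1.1 : Matrix (Fin m) (Fin m) F)ᵀ
        ((p.1.1 : Matrix (Fin m) (Fin m) F)ᵀ * p.2.1) 0
        ((p.1.1⁻¹ : Matrix.GeneralLinearGroup (Fin m) F) : Matrix (Fin m) (Fin m) F) := rfl

theorem borelMap_injective : Function.Injective (borelMap m F) := by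
  intro p p' h
  have h1 : Matrix.fromBlocks (p.1.1 : Matrix (Fin m) (Fin m) F)ᵀ
        ((p.1.1 : Matrix (Fin m) (Fin m) F)ᵀ * p.2.1) 0
        ((p.1.1⁻¹ : Matrix.GeneralLinearGroup (Fin m) F) : Matrix (Fin m) (Fin m) F)
      = Matrix.fromBlocks (p'.1.1 : Matrix (Fin m) (Fin m) F)ᵀ
        ((p'.1.1 : Matrix (Fin m) (Fin m) F)ᵀ * p'.2.1) 0
        ((p'.1.1⁻¹ : Matrix.GeneralLinearGroup (Fin m) F) : Matrix (Fin m) (Fin m) F) := by
    rw [← borelMap_coe p, ← borelMap_coe p', h]
  obtain ⟨h11, h12, -, -⟩ := Matrix.fromBlocks_inj.mp h1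
  have hL : p.1.1 = p'.1.1 := Units.ext (Matrix.transpose_injective h11)
  have hS : p.2.1 = p'.2.1 := by
    rw [← hL] at h12
    have := congrArg (fun X => ((p.1.1⁻¹ : Matrix.GeneralLinearGroup (Fin m) F) :
      Matrix (Fin m) (Fin m) F)ᵀ * X) h12
    simp only [← Matrix.mul_assoc, ← Matrix.transpose_mul, ← Units.val_mul, mul_inv_cancel,
      Units.val_one, Matrix.transpose_one, Matrix.one_mul] at this
    exact this
  exact Prod.ext (Subtype.ext hL) (Subtype.ext hS)

theorem borelMap_surjective : Function.Surjective (borelMap m F) := by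
  intro g
  have hg := (mem_borel_iff g.1).mp g.2
  obtain ⟨hA, hC⟩ := blocks_of_flag g.1.1 hg
  obtain ⟨A, hAdef⟩ : ∃ A : Matrix (Fin m) (Fin m) F, A = g.1.1.toBlocks₁₁ := ⟨_, rfl⟩
  obtain ⟨B, hBdef⟩ : ∃ B : Matrix (Fin m) (Fin m) F, B = g.1.1.toBlocks₁₂ := ⟨_, rfl⟩
  obtain ⟨D, hDdef⟩ : ∃ D : Matrix (Fin m) (Fin m) F, D = g.1.1.toBlocks₂₂ := ⟨_, rfl⟩
  have hC0 : g.1.1.toBlocks₂₁ = 0 := by
    ext i j
    exact hC i j
  have hblocks : g.1.1 = Matrix.fromBlocks A B 0 D := by
    rw [hAdef, hBdef, hDdef, ← hC0]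
    exact (Matrix.fromBlocks_toBlocks g.1.1).symm
  have hAup : ∀ i j : Fin m, j < i → A i j = 0 := by
    intro i j hji
    rw [hAdef]
    exact hA i j hji
  have hsymp : Matrix.fromBlocks A B 0 D ∈ Matrix.symplecticGroup (Fin m) F := by
    rw [← hblocks]; exact g.1.2
  rw [SymplecticGroup.fromBlocks_mem_iff] at hsymp
  obtain ⟨-, hBD, hAD⟩ := hsymp
  have hAD' : Aᵀ * D = 1 := by
    simpa using hAD
  have hDA : D * Aᵀ = 1 := mul_eq_one_comm.mp hAD'
  have hADt : A * Dᵀ = 1 := by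
    have := congrArg Matrix.transpose hDA
    simpa [Matrix.transpose_mul] using this
  refine ⟨(⟨⟨Aᵀ, D, hAD', hDA⟩, ?_⟩, ⟨Dᵀ * B, ?_⟩), ?_⟩
  · intro i j hij
    change Aᵀ i j = 0
    rw [Matrix.transpose_apply]
    exact hAup j i hij
  · rw [Matrix.transpose_mul, Matrix.transpose_transpose]
    exact hBD
  · apply Subtype.ext
    apply Subtype.ext
    rw [borelMap_coe, hblocks]
    change Matrix.fromBlocks (Aᵀ)ᵀ ((Aᵀ)ᵀ * (Dᵀ * B)) 0 D = _
    rw [Matrix.transpose_transpose, ← Matrix.mul_assoc, hADt, Matrix.one_mul]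

end

/-- Borel subgroup of the symplectic group: the elements of Sp_2m(q) stabilising each of the totally isotropic coordinate subspaces ⟨e_0, ..., e_k⟩ (k < m) form a subgroup of order q^(m²) (q − 1)^m. -/
theorem result {F : Type*} [Field F] [Fintype F] {q : ℕ} (hF : Fintype.card F = q) (m : ℕ) : Nat.card ↥(⨅ k : Fin m, Cfsg.stabilizing (Cfsg.spToMat m F) {v : Fin m ⊕ Fin m → F | (∀ i : Fin m, (k : ℕ) < (i : ℕ) → v (Sum.inl i) = 0) ∧ ∀ i : Fin m, v (Sum.inr i) = 0}) = q ^ (m ^ 2) * (q - 1) ^ m := by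
  classical
  change Nat.card ↥(borel m F) = _
  rw [← Nat.card_congr (Equiv.ofBijective (borelMap m F) ⟨borelMap_injective, borelMap_surjective⟩),
    Nat.card_prod, Cfsg.Agent.S0769.result hF m]
  have hsym : Nat.card {S : Matrix (Fin m) (Fin m) F // Sᵀ = S} = q ^ ((m + 1) * m / 2) := by
    have e1 : {S : Matrix (Fin m) (Fin m) F // Sᵀ = S} ≃
        {f : Fin m → Fin m → F // ∀ a b, f a b = f b a} :=
      { toFun := fun S => ⟨fun a b => S.1 a b, fun a b => by
          have := congrFun (congrFun S.2 a) b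
          rw [Matrix.transpose_apply] at this
          exact this.symm⟩
        invFun := fun f => ⟨Matrix.of f.1, by
          ext a b
          rw [Matrix.transpose_apply]
          exact f.2 b a⟩
        left_inv := fun S => rfl
        right_inv := fun f => rfl }
    rw [Nat.card_congr (e1.trans Sym2.lift), Nat.card_eq_fintype_card, Fintype.card_fun,
      Sym2.card, Fintype.card_fin, hF, Nat.choose_two_right]
    rfl
  rw [hsym]
  have h1 : m * (m - 1) / 2 + (m + 1) * m / 2 = m ^ 2 := by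
    rcases Nat.even_or_odd' m with ⟨c, hc | hc⟩
    · subst hc
      rcases c with _ | c
      · rfl
      · have e1 : 2 * (c + 1) * (2 * (c + 1) - 1) = 2 * ((c + 1) * (2 * c + 1)) := by
          have : 2 * (c + 1) - 1 = 2 * c + 1 := by omega
          rw [this]; ring
        have e2 : (2 * (c + 1) + 1) * (2 * (c + 1)) = 2 * ((2 * c + 3) * (c + 1)) := by ring
        rw [e1, e2, Nat.mul_div_cancel_left _ (by norm_num : 0 < 2),
          Nat.mul_div_cancel_left _ (by norm_num : 0 < 2)]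
        ring
    · subst hc
      have e1 : (2 * c + 1) * (2 * c + 1 - 1) = 2 * ((2 * c + 1) * c) := by
        have : 2 * c + 1 - 1 = 2 * c := by omega
        rw [this]; ring
      have e2 : (2 * c + 1 + 1) * (2 * c + 1) = 2 * ((c + 1) * (2 * c + 1)) := by ring
      rw [e1, e2, Nat.mul_div_cancel_left _ (by norm_num : 0 < 2),
        Nat.mul_div_cancel_left _ (by norm_num : 0 < 2)]
      ring
  rw [← h1, pow_add]
  ring

end Cfsg.Agent.S0774
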