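import Mathlib
import Cfsg.Statements.S0777
import Cfsg.Agent.Lib.Helper13.Symp
-- import your own Cfsg.Agent.* helpers here

set_option autoImplicit false
open Cfsg

namespace Cfsg.Agent.S0777

open Matrix

section Basic

variable {F : Type*} [Field F] {m : ℕ}

theorem J_inl_inl (i j : Fin m) : Matrix.J (Fin m) F (Sum.inl i) (Sum.inl j) = 0 := by
  simp [Matrix.J]

theorem J_inr_inr (i j : Fin m) : Matrix.J (Fin m) F (Sum.inr i) (Sum.inr j) = 0 := by
  simp [Matrix.J]

theorem J_inl_inr (i j : Fin m) :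
    Matrix.J (Fin m) F (Sum.inl i) (Sum.inr j) = if i = j then -1 else 0 := by
  by_cases h : i = j <;> simp [Matrix.J, Matrix.one_apply, h]

theorem J_inr_inl (i j : Fin m) :
    Matrix.J (Fin m) F (Sum.inr i) (Sum.inl j) = if i = j then 1 else 0 := by
  simp [Matrix.J, Matrix.one_apply]

theorem J_ne_zero_iff (a b : Fin m ⊕ Fin m) :
    Matrix.J (Fin m) F a b ≠ 0 ↔ b = Sum.swap a := by
  rcases a with i | i <;> rcases b with j | j
  · simp [J_inl_inl]
  · rw [J_inl_inr]
    by_cases h : i = j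
    · simp [h]
    · simp [h, Ne.symm h]
  · rw [J_inr_inl]
    by_cases h : i = j
    · simp [h]
    · simp [h, Ne.symm h]
  · simp [J_inr_inr]

theorem J_eq_zero_iff (a b : Fin m ⊕ Fin m) :
    Matrix.J (Fin m) F a b = 0 ↔ b ≠ Sum.swap a := by
  rw [← not_iff_not, not_not]
  exact J_ne_zero_iff a b

theorem J_antisymm (a b : Fin m ⊕ Fin m) :
    Matrix.J (Fin m) F a b = - Matrix.J (Fin m) F b a := by
  rcases a with i | i <;> rcases b with j | j
  · simp [J_inl_inl]
  · rw [J_inl_inr, J_inr_inl]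
    by_cases h : i = j
    · simp [h]
    · simp [h, Ne.symm h]
  · rw [J_inl_inr, J_inr_inl]
    by_cases h : i = j
    · simp [h]
    · simp [h, Ne.symm h]
  · simp [J_inr_inr]

/-- monomial matrices -/
def mono (σ : Fin m ⊕ Fin m → Fin m ⊕ Fin m) (d : Fin m ⊕ Fin m → F) :
    Matrix (Fin m ⊕ Fin m) (Fin m ⊕ Fin m) F :=
  Matrix.of fun a b => if a = σ b then d b else 0

theorem mono_apply (σ : Fin m ⊕ Fin m → Fin m ⊕ Fin m) (d : Fin m ⊕ Fin m → F)
    (a b : Fin m ⊕ Fin m) : mono σ d a b = if a = σ b then d b else 0 := rfl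

/-- the symplectic condition for a monomial matrix -/
theorem mono_mem_iff (σ : Fin m ⊕ Fin m → Fin m ⊕ Fin m) (d : Fin m ⊕ Fin m → F) :
    mono σ d ∈ Matrix.symplecticGroup (Fin m) F ↔
      ∀ a b, d a * Matrix.J (Fin m) F (σ a) (σ b) * d b = Matrix.J (Fin m) F a b := by
  rw [SymplecticGroup.mem_iff']
  have key : ∀ a b, ((mono σ d)ᵀ * Matrix.J (Fin m) F * mono σ d) a b
      = d a * Matrix.J (Fin m) F (σ a) (σ b) * d b := by
    intro a b
    rw [Matrix.mul_apply]
    simp only [Matrix.mul_apply, Matrix.transpose_apply, mono_apply]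
    rw [Finset.sum_eq_single (σ b)]
    · rw [if_pos rfl, Finset.sum_eq_single (σ a)]
      · rw [if_pos rfl]
      · intro x _ hx
        rw [if_neg hx, zero_mul]
      · intro h; exact absurd (Finset.mem_univ _) h
    · intro y _ hy
      rw [if_neg hy, mul_zero]
    · intro h; exact absurd (Finset.mem_univ _) h
  constructor
  · intro h a b
    rw [← key, h]
  · intro h
    ext a b
    rw [key, h]

end Basic

section Torus

variable {F : Type*} [Field F] {m : ℕ}

theorem mem_span_single_iff (v : Fin m ⊕ Fin m → F) (i : Fin m ⊕ Fin m) :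
    v ∈ Submodule.span F {(Pi.single i (1 : F) : Fin m ⊕ Fin m → F)} ↔ ∀ a, a ≠ i → v a = 0 := by
  rw [Submodule.mem_span_singleton]
  constructor
  · rintro ⟨c, rfl⟩ a ha
    simp [Pi.single_apply, ha]
  · intro h
    refine ⟨v i, ?_⟩
    ext a
    by_cases ha : a = i
    · subst ha; simp
    · simp [Pi.single_apply, ha, h a ha]

/-- the diagonal torus, as in the statement -/
def torusSet (m : ℕ) (F : Type*) [Field F] : Set (Matrix.symplecticGroup (Fin m) F) :=
  ⨅ i : Fin m ⊕ Fin m, Cfsg.stabilizing (Cfsg.spToMat m F) ((Submodule.span F {(Pi.single i (1 : F) : Fin m ⊕ Fin m → F)} : Submodule F (Fin m ⊕ Fin m → F)) : Set (Fin m ⊕ Fin m → F))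

theorem val_mul_inv (g : Matrix.symplecticGroup (Fin m) F) :
    (g : Matrix (Fin m ⊕ Fin m) (Fin m ⊕ Fin m) F) * ((g⁻¹ : Matrix.symplecticGroup (Fin m) F) : Matrix (Fin m ⊕ Fin m) (Fin m ⊕ Fin m) F) = 1 := by
  have h2 : ((g * g⁻¹ : Matrix.symplecticGroup (Fin m) F) : Matrix (Fin m ⊕ Fin m) (Fin m ⊕ Fin m) F)
      = ((1 : Matrix.symplecticGroup (Fin m) F) : Matrix (Fin m ⊕ Fin m) (Fin m ⊕ Fin m) F) := by
    rw [mul_inv_cancel]
  exact h2

theorem val_inv_mul (g : Matrix.symplecticGroup (Fin m) F) :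
    ((g⁻¹ : Matrix.symplecticGroup (Fin m) F) : Matrix (Fin m ⊕ Fin m) (Fin m ⊕ Fin m) F) * (g : Matrix (Fin m ⊕ Fin m) (Fin m ⊕ Fin m) F) = 1 := by
  have h2 : ((g⁻¹ * g : Matrix.symplecticGroup (Fin m) F) : Matrix (Fin m ⊕ Fin m) (Fin m ⊕ Fin m) F)
      = ((1 : Matrix.symplecticGroup (Fin m) F) : Matrix (Fin m ⊕ Fin m) (Fin m ⊕ Fin m) F) := by
    rw [inv_mul_cancel]
  exact h2

theorem diag_ne_zero (g : Matrix.symplecticGroup (Fin m) F)
    (hd : ∀ a b, a ≠ b → (g : Matrix (Fin m ⊕ Fin m) (Fin m ⊕ Fin m) F) a b = 0) (a : Fin m ⊕ Fin m) :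
    (g : Matrix (Fin m ⊕ Fin m) (Fin m ⊕ Fin m) F) a a ≠ 0 := by
  intro h0
  have h := congrFun (congrFun (val_mul_inv g) a) a
  rw [Matrix.mul_apply, Matrix.one_apply_eq] at h
  rw [Finset.sum_eq_zero] at h
  · exact zero_ne_one h
  · intro x _
    by_cases hx : a = x
    · subst hx; rw [h0, zero_mul]
    · rw [hd a x hx, zero_mul]

theorem mem_torusSet_iff (g : Matrix.symplecticGroup (Fin m) F) :
    g ∈ torusSet m F ↔ ∀ a b, a ≠ b → (g : Matrix (Fin m ⊕ Fin m) (Fin m ⊕ Fin m) F) a b = 0 := by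
  unfold torusSet
  rw [Set.iInf_eq_iInter, Set.mem_iInter]
  have hmem : ∀ i : Fin m ⊕ Fin m, g ∈ ((Cfsg.stabilizing (Cfsg.spToMat m F) ((Submodule.span F {(Pi.single i (1 : F) : Fin m ⊕ Fin m → F)} : Submodule F (Fin m ⊕ Fin m → F)) : Set (Fin m ⊕ Fin m → F)) : Subgroup (Matrix.symplecticGroup (Fin m) F)) : Set (Matrix.symplecticGroup (Fin m) F)) ↔
      ∀ v : Fin m ⊕ Fin m → F, v ∈ Submodule.span F {(Pi.single i (1 : F) : Fin m ⊕ Fin m → F)} ↔
        (g : Matrix (Fin m ⊕ Fin m) (Fin m ⊕ Fin m) F) *ᵥ v ∈ Submodule.span F {(Pi.single i (1 : F) : Fin m ⊕ Fin m → F)} := by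
    intro i
    exact Iff.rfl
  constructor
  · intro h a b hab
    have h1 := ((hmem b).1 (h b) (Pi.single b 1)).1 (Submodule.mem_span_singleton_self _)
    rw [mem_span_single_iff] at h1
    have h2 := h1 a hab
    rw [Matrix.mulVec_single_one] at h2
    exact h2
  · intro hd i
    rw [hmem]
    intro v
    rw [mem_span_single_iff, mem_span_single_iff]
    have hmv : ∀ a, ((g : Matrix (Fin m ⊕ Fin m) (Fin m ⊕ Fin m) F) *ᵥ v) a
        = (g : Matrix (Fin m ⊕ Fin m) (Fin m ⊕ Fin m) F) a a * v a := by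
      intro a
      rw [Matrix.mulVec, dotProduct, Finset.sum_eq_single a]
      · intro b _ hb
        rw [hd a b (Ne.symm hb), zero_mul]
      · intro h; exact absurd (Finset.mem_univ _) h
    constructor
    · intro h a ha
      rw [hmv, h a ha, mul_zero]
    · intro h a ha
      have := h a ha
      rw [hmv] at this
      rcases mul_eq_zero.1 this with h0 | h0
      · exact absurd h0 (diag_ne_zero g hd a)
      · exact h0

end Torus

section Param

variable {F : Type*} [Field F] {m : ℕ}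

theorem mul_mono_apply (N : Matrix (Fin m ⊕ Fin m) (Fin m ⊕ Fin m) F)
    (σ : Fin m ⊕ Fin m → Fin m ⊕ Fin m) (d : Fin m ⊕ Fin m → F) (a b : Fin m ⊕ Fin m) :
    (N * mono σ d) a b = N a (σ b) * d b := by
  rw [Matrix.mul_apply, Finset.sum_eq_single (σ b)]
  · rw [mono_apply, if_pos rfl]
  · intro x _ hx
    rw [mono_apply, if_neg hx, mul_zero]
  · intro h; exact absurd (Finset.mem_univ _) h

theorem mono_mul_apply (N : Matrix (Fin m ⊕ Fin m) (Fin m ⊕ Fin m) F)
    (σ : Equiv.Perm (Fin m ⊕ Fin m)) (d : Fin m ⊕ Fin m → F) (a b : Fin m ⊕ Fin m) :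
    (mono σ d * N) a b = d (σ.symm a) * N (σ.symm a) b := by
  rw [Matrix.mul_apply, Finset.sum_eq_single (σ.symm a)]
  · rw [mono_apply, if_pos (by simp)]
  · intro x _ hx
    rw [mono_apply, if_neg, zero_mul]
    intro h
    apply hx
    rw [h]; simp
  · intro h; exact absurd (Finset.mem_univ _) h

/-- the coefficient vector attached to a permutation commuting with the swap and a family of units -/
def dvec (σ : Equiv.Perm (Fin m ⊕ Fin m)) (c : Fin m → Fˣ) : Fin m ⊕ Fin m → F :=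
  Sum.elim (fun i => (c i : F))
    (fun i => -((c i : F) * Matrix.J (Fin m) F (σ (Sum.inl i)) (σ (Sum.inr i)))⁻¹)

theorem dvec_J (σ : Equiv.Perm (Fin m ⊕ Fin m)) (hσ : ∀ a, σ (Sum.swap a) = Sum.swap (σ a))
    (c : Fin m → Fˣ) (a b : Fin m ⊕ Fin m) :
    dvec σ c a * Matrix.J (Fin m) F (σ a) (σ b) * dvec σ c b = Matrix.J (Fin m) F a b := by
  by_cases hb : b = Sum.swap a
  · subst hb
    rcases a with i | i
    · have hJ : Matrix.J (Fin m) F (σ (Sum.inl i)) (σ (Sum.inr i)) ≠ 0 := by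
        rw [J_ne_zero_iff, ← hσ]; rfl
      have hc : (c i : F) ≠ 0 := (c i).ne_zero
      show (c i : F) * Matrix.J (Fin m) F (σ (Sum.inl i)) (σ (Sum.inr i))
        * -((c i : F) * Matrix.J (Fin m) F (σ (Sum.inl i)) (σ (Sum.inr i)))⁻¹
        = Matrix.J (Fin m) F (Sum.inl i) (Sum.inr i)
      rw [J_inl_inr, if_pos rfl]
      field_simp
    · have hJ : Matrix.J (Fin m) F (σ (Sum.inl i)) (σ (Sum.inr i)) ≠ 0 := by
        rw [J_ne_zero_iff, ← hσ]; rfl
      have hc : (c i : F) ≠ 0 := (c i).ne_zero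
      show -((c i : F) * Matrix.J (Fin m) F (σ (Sum.inl i)) (σ (Sum.inr i)))⁻¹
        * Matrix.J (Fin m) F (σ (Sum.inr i)) (σ (Sum.inl i)) * (c i : F)
        = Matrix.J (Fin m) F (Sum.inr i) (Sum.inl i)
      rw [J_inr_inl, if_pos rfl, J_antisymm (σ (Sum.inr i))]
      field_simp
  · have h1 : Matrix.J (Fin m) F a b = 0 := (J_eq_zero_iff a b).2 hb
    have h2 : Matrix.J (Fin m) F (σ a) (σ b) = 0 := by
      rw [J_eq_zero_iff, ← hσ]
      intro h
      exact hb (σ.injective h)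
    rw [h1, h2, mul_zero, zero_mul]

theorem dvec_ne_zero (σ : Equiv.Perm (Fin m ⊕ Fin m)) (hσ : ∀ a, σ (Sum.swap a) = Sum.swap (σ a))
    (c : Fin m → Fˣ) (a : Fin m ⊕ Fin m) : dvec σ c a ≠ 0 := by
  intro h
  have := dvec_J σ hσ c a (Sum.swap a)
  rw [h, zero_mul, zero_mul] at this
  exact (J_ne_zero_iff a (Sum.swap a)).2 rfl this.symm

theorem mono_mem_normalizer (σ : Equiv.Perm (Fin m ⊕ Fin m)) (d : Fin m ⊕ Fin m → F)
    (hd : ∀ a, d a ≠ 0) (hmem : mono σ d ∈ Matrix.symplecticGroup (Fin m) F) :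
    (⟨mono σ d, hmem⟩ : Matrix.symplecticGroup (Fin m) F) ∈ Subgroup.normalizer (torusSet m F) := by
  rw [Subgroup.mem_set_normalizer_iff']
  intro n
  rw [mem_torusSet_iff, mem_torusSet_iff]
  have e1 : ∀ a b, ((n * ⟨mono σ d, hmem⟩ : Matrix.symplecticGroup (Fin m) F) :
      Matrix (Fin m ⊕ Fin m) (Fin m ⊕ Fin m) F) a b
      = (n : Matrix (Fin m ⊕ Fin m) (Fin m ⊕ Fin m) F) a (σ b) * d b := by
    intro a b
    exact mul_mono_apply _ _ _ _ _
  have e2 : ∀ a b, ((⟨mono σ d, hmem⟩ * n : Matrix.symplecticGroup (Fin m) F) :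
      Matrix (Fin m ⊕ Fin m) (Fin m ⊕ Fin m) F) a b
      = d (σ.symm a) * (n : Matrix (Fin m ⊕ Fin m) (Fin m ⊕ Fin m) F) (σ.symm a) b := by
    intro a b
    exact mono_mul_apply _ _ _ _ _
  constructor
  · intro h a b hab
    rw [e2]
    have := h (σ.symm a) (σ.symm b) (by
      intro hh; exact hab (σ.symm.injective hh))
    rw [e1, Equiv.apply_symm_apply] at this
    rcases mul_eq_zero.1 this with h0 | h0
    · rw [h0, mul_zero]
    · exact absurd h0 (hd _)
  · intro h a b hab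
    rw [e1]
    have := h (σ a) (σ b) (by
      intro hh; exact hab (σ.injective hh))
    rw [e2, Equiv.symm_apply_apply] at this
    rcases mul_eq_zero.1 this with h0 | h0
    · exact absurd h0 (hd _)
    · rw [h0, zero_mul]

end Param

section Normalizer

variable {F : Type*} [Field F] {m : ℕ}

theorem one_comm_swap (a : Fin m ⊕ Fin m) :
    (1 : Equiv.Perm (Fin m ⊕ Fin m)) (Sum.swap a) = Sum.swap ((1 : Equiv.Perm (Fin m ⊕ Fin m)) a) := rfl

theorem dvec_one_inl (c : Fin m → Fˣ) (i : Fin m) :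
    dvec (1 : Equiv.Perm (Fin m ⊕ Fin m)) c (Sum.inl i) = (c i : F) := rfl

theorem dvec_one_inr (c : Fin m → Fˣ) (i : Fin m) :
    dvec (1 : Equiv.Perm (Fin m ⊕ Fin m)) c (Sum.inr i) = ((c i : F))⁻¹ := by
  show -((c i : F) * Matrix.J (Fin m) F (Sum.inl i) (Sum.inr i))⁻¹ = _
  rw [J_inl_inr, if_pos rfl]
  have hc : (c i : F) ≠ 0 := (c i).ne_zero
  field_simp

/-- the diagonal element with entries `c`, `c⁻¹` -/
def tor (c : Fin m → Fˣ) : Matrix.symplecticGroup (Fin m) F :=
  ⟨mono (1 : Equiv.Perm (Fin m ⊕ Fin m)) (dvec 1 c),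
    (mono_mem_iff _ _).2 (dvec_J 1 one_comm_swap c)⟩

theorem tor_apply (c : Fin m → Fˣ) (a b : Fin m ⊕ Fin m) :
    ((tor c : Matrix.symplecticGroup (Fin m) F) : Matrix (Fin m ⊕ Fin m) (Fin m ⊕ Fin m) F) a b
      = if a = b then dvec 1 c b else 0 := rfl

theorem tor_mem (c : Fin m → Fˣ) : (tor c : Matrix.symplecticGroup (Fin m) F) ∈ torusSet m F := by
  rw [mem_torusSet_iff]
  intro a b hab
  rw [tor_apply, if_neg hab]

theorem exists_good [Fintype F] (hq : 4 ≤ Fintype.card F) : ∃ x : Fˣ, (x : F) ^ 2 ≠ 1 := by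
  classical
  have hcard : ({0, 1, -1} : Finset F).card < (Finset.univ : Finset F).card := by
    rw [Finset.card_univ]
    exact lt_of_le_of_lt (Finset.card_le_three) (by omega)
  obtain ⟨x, -, hx⟩ := Finset.exists_mem_notMem_of_card_lt_card hcard
  simp only [Finset.mem_insert, Finset.mem_singleton, not_or] at hx
  obtain ⟨h0, h1, h2⟩ := hx
  refine ⟨Units.mk0 x h0, ?_⟩
  rw [Units.val_mk0]
  intro h
  have : (x - 1) * (x + 1) = 0 := by linear_combination h
  rcases mul_eq_zero.1 this with h' | h'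
  · exact h1 (sub_eq_zero.1 h')
  · exact h2 (eq_neg_of_add_eq_zero_left h')

theorem col_unique (hx : ∃ x : Fˣ, (x : F) ^ 2 ≠ 1) (g : Matrix.symplecticGroup (Fin m) F)
    (hg : g ∈ Subgroup.normalizer (torusSet m F)) (b a a' : Fin m ⊕ Fin m)
    (ha : (g : Matrix (Fin m ⊕ Fin m) (Fin m ⊕ Fin m) F) a b ≠ 0)
    (ha' : (g : Matrix (Fin m ⊕ Fin m) (Fin m ⊕ Fin m) F) a' b ≠ 0) : a = a' := by
  classical
  by_contra hne
  obtain ⟨x, hx⟩ := hx
  have hx1 : (x : F) ≠ 1 := by
    intro h; apply hx; rw [h]; ring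
  have hxinv : ((x : F))⁻¹ ≠ 1 := by
    intro h; apply hx1; rw [← inv_inv (x : F), h, inv_one]
  have hxx : (x : F) ≠ ((x : F))⁻¹ := by
    intro h; apply hx
    have hx0 : (x : F) ≠ 0 := x.ne_zero
    rw [pow_two]
    nth_rewrite 2 [h]
    exact mul_inv_cancel₀ hx0
  -- key: for every `c`, the diagonal entries at `a`, `a'` agree
  have key : ∀ c : Fin m → Fˣ, dvec (1 : Equiv.Perm (Fin m ⊕ Fin m)) c a = dvec 1 c a' := by
    intro c
    have hs : g⁻¹ * tor c * g ∈ torusSet m F :=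
      ((Subgroup.mem_set_normalizer_iff''.1 hg) (tor c)).1 (tor_mem c)
    rw [mem_torusSet_iff] at hs
    have hmat : (g : Matrix (Fin m ⊕ Fin m) (Fin m ⊕ Fin m) F)
        * ((g⁻¹ * tor c * g : Matrix.symplecticGroup (Fin m) F) : Matrix (Fin m ⊕ Fin m) (Fin m ⊕ Fin m) F)
        = ((tor c : Matrix.symplecticGroup (Fin m) F) : Matrix (Fin m ⊕ Fin m) (Fin m ⊕ Fin m) F)
          * (g : Matrix (Fin m ⊕ Fin m) (Fin m ⊕ Fin m) F) := by
      have h1 : g * (g⁻¹ * tor c * g) = tor c * g := by group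
      have h2 : ((g * (g⁻¹ * tor c * g) : Matrix.symplecticGroup (Fin m) F) : Matrix (Fin m ⊕ Fin m) (Fin m ⊕ Fin m) F)
          = ((tor c * g : Matrix.symplecticGroup (Fin m) F) : Matrix (Fin m ⊕ Fin m) (Fin m ⊕ Fin m) F) := by
        rw [h1]
      exact h2
    have hentry : ∀ a₀, (g : Matrix (Fin m ⊕ Fin m) (Fin m ⊕ Fin m) F) a₀ b ≠ 0 →
        ((g⁻¹ * tor c * g : Matrix.symplecticGroup (Fin m) F) : Matrix (Fin m ⊕ Fin m) (Fin m ⊕ Fin m) F) b b
          = dvec 1 c a₀ := by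
      intro a₀ h0
      have h3 := congrFun (congrFun hmat a₀) b
      rw [Matrix.mul_apply, Finset.sum_eq_single b] at h3
      · have h4 : (((tor c : Matrix.symplecticGroup (Fin m) F) : Matrix (Fin m ⊕ Fin m) (Fin m ⊕ Fin m) F)
            * (g : Matrix (Fin m ⊕ Fin m) (Fin m ⊕ Fin m) F)) a₀ b
            = dvec 1 c a₀ * (g : Matrix (Fin m ⊕ Fin m) (Fin m ⊕ Fin m) F) a₀ b := by
          exact mono_mul_apply (g : Matrix (Fin m ⊕ Fin m) (Fin m ⊕ Fin m) F)
            (1 : Equiv.Perm (Fin m ⊕ Fin m)) (dvec 1 c) a₀ b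
        rw [h4, mul_comm] at h3
        exact mul_right_cancel₀ h0 h3
      · intro y _ hy
        rw [hs y b hy, mul_zero]
      · intro h; exact absurd (Finset.mem_univ _) h
    rw [← hentry a ha, ← hentry a' ha']
  rcases a with i | i <;> rcases a' with j | j
  · have hij : i ≠ j := fun h => hne (by rw [h])
    have := key (Function.update 1 i x)
    rw [dvec_one_inl, dvec_one_inl, Function.update_self, Function.update_of_ne (Ne.symm hij)] at this
    exact hx1 (by simpa using this)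
  · have := key (Function.update 1 i x)
    rw [dvec_one_inl, dvec_one_inr, Function.update_self] at this
    by_cases hij : i = j
    · subst hij
      rw [Function.update_self] at this
      exact hxx this
    · rw [Function.update_of_ne (Ne.symm hij)] at this
      exact hx1 (by simpa using this)
  · have := key (Function.update 1 i x)
    rw [dvec_one_inr, dvec_one_inl, Function.update_self] at this
    by_cases hij : i = j
    · subst hij
      rw [Function.update_self] at this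
      exact hxx this.symm
    · rw [Function.update_of_ne (Ne.symm hij)] at this
      exact hxinv (by simpa using this)
  · have hij : i ≠ j := fun h => hne (by rw [h])
    have := key (Function.update 1 i x)
    rw [dvec_one_inr, dvec_one_inr, Function.update_self, Function.update_of_ne (Ne.symm hij)] at this
    exact hxinv (by simpa using this)

end Normalizer

section Count

variable {F : Type*} [Field F] {m : ℕ}

/-- the swap as a permutation -/
def swapPerm (m : ℕ) : Equiv.Perm (Fin m ⊕ Fin m) := Equiv.sumComm (Fin m) (Fin m)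

theorem swapPerm_apply (a : Fin m ⊕ Fin m) : swapPerm m a = Sum.swap a := rfl

/-- the hyperoctahedral group -/
def W (m : ℕ) : Subgroup (Equiv.Perm (Fin m ⊕ Fin m)) := Subgroup.centralizer {swapPerm m}

theorem mem_W_iff (σ : Equiv.Perm (Fin m ⊕ Fin m)) :
    σ ∈ W m ↔ ∀ a, σ (Sum.swap a) = Sum.swap (σ a) := by
  unfold W
  rw [Subgroup.mem_centralizer_iff]
  constructor
  · intro h a
    have := h (swapPerm m) rfl
    have h2 := congrArg (fun τ : Equiv.Perm (Fin m ⊕ Fin m) => τ a) this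
    simp only [Equiv.Perm.mul_apply, swapPerm_apply] at h2
    exact h2.symm
  · intro h τ hτ
    rw [Set.mem_singleton_iff] at hτ
    subst hτ
    ext a
    simp only [Equiv.Perm.mul_apply, swapPerm_apply]
    rw [h a]

/-- the parametrisation of the normaliser, first as symplectic matrices -/
def PhiSp (p : ↥(W m) × (Fin m → Fˣ)) : Matrix.symplecticGroup (Fin m) F :=
  ⟨mono (p.1 : Equiv.Perm (Fin m ⊕ Fin m)) (dvec p.1 p.2),
      (mono_mem_iff _ _).2 (dvec_J p.1 ((mem_W_iff _).1 p.1.2) p.2)⟩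

theorem PhiSp_mem (p : ↥(W m) × (Fin m → Fˣ)) :
    (PhiSp p : Matrix.symplecticGroup (Fin m) F) ∈ Subgroup.normalizer (torusSet m F) :=
  mono_mem_normalizer (p.1 : Equiv.Perm (Fin m ⊕ Fin m)) (dvec p.1 p.2)
    (dvec_ne_zero p.1 ((mem_W_iff _).1 p.1.2) p.2)
    ((mono_mem_iff _ _).2 (dvec_J p.1 ((mem_W_iff _).1 p.1.2) p.2))

/-- the parametrisation of the normaliser -/
def Phi (p : ↥(W m) × (Fin m → Fˣ)) : ↥(Subgroup.normalizer (torusSet m F)) :=
  ⟨PhiSp p, PhiSp_mem p⟩

theorem Phi_val (p : ↥(W m) × (Fin m → Fˣ)) :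
    (((Phi p : ↥(Subgroup.normalizer (torusSet m F))) : Matrix.symplecticGroup (Fin m) F) :
      Matrix (Fin m ⊕ Fin m) (Fin m ⊕ Fin m) F) = mono (p.1 : Equiv.Perm (Fin m ⊕ Fin m)) (dvec p.1 p.2) := rfl

theorem mono_inj (σ σ' : Equiv.Perm (Fin m ⊕ Fin m)) (d d' : Fin m ⊕ Fin m → F)
    (hd : ∀ a, d a ≠ 0) (h : mono σ d = mono σ' d') : σ = σ' ∧ d = d' := by
  have key : ∀ b, σ b = σ' b ∧ d b = d' b := by
    intro b
    have h1 := congrFun (congrFun h (σ b)) b
    rw [mono_apply, mono_apply, if_pos rfl] at h1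
    by_cases hb : σ b = σ' b
    · rw [if_pos hb] at h1
      exact ⟨hb, h1⟩
    · rw [if_neg hb] at h1
      exact absurd h1 (hd b)
  exact ⟨Equiv.ext (fun b => (key b).1), funext (fun b => (key b).2)⟩

theorem Phi_injective : Function.Injective (Phi : ↥(W m) × (Fin m → Fˣ) → ↥(Subgroup.normalizer (torusSet m F))) := by
  intro p p' h
  have h1 : mono (p.1 : Equiv.Perm (Fin m ⊕ Fin m)) (dvec p.1 p.2)
      = mono (p'.1 : Equiv.Perm (Fin m ⊕ Fin m)) (dvec p'.1 p'.2) := by
    rw [← Phi_val, ← Phi_val, h]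
  obtain ⟨hσ, hd⟩ := mono_inj _ _ _ _ (dvec_ne_zero p.1 ((mem_W_iff _).1 p.1.2) p.2) h1
  apply Prod.ext
  · exact Subtype.ext hσ
  · funext i
    apply Units.ext
    have := congrFun hd (Sum.inl i)
    exact this

theorem Phi_surjective (hx : ∃ x : Fˣ, (x : F) ^ 2 ≠ 1) :
    Function.Surjective (Phi : ↥(W m) × (Fin m → Fˣ) → ↥(Subgroup.normalizer (torusSet m F))) := by
  classical
  rintro ⟨g, hg⟩
  -- every column has a nonzero entry
  have hcol : ∀ b, ∃ a, (g : Matrix (Fin m ⊕ Fin m) (Fin m ⊕ Fin m) F) a b ≠ 0 := by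
    intro b
    by_contra hcon
    push Not at hcon
    have h := congrFun (congrFun (val_inv_mul g) b) b
    rw [Matrix.mul_apply, Matrix.one_apply_eq, Finset.sum_eq_zero] at h
    · exact zero_ne_one h
    · intro x _
      rw [hcon x, mul_zero]
  choose σ₀ hσ₀ using hcol
  have huniq : ∀ a b, (g : Matrix (Fin m ⊕ Fin m) (Fin m ⊕ Fin m) F) a b ≠ 0 → a = σ₀ b :=
    fun a b h => col_unique hx g hg b a (σ₀ b) h (hσ₀ b)
  set d : Fin m ⊕ Fin m → F := fun b => (g : Matrix (Fin m ⊕ Fin m) (Fin m ⊕ Fin m) F) (σ₀ b) b with hd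
  have hgm : (g : Matrix (Fin m ⊕ Fin m) (Fin m ⊕ Fin m) F) = mono σ₀ d := by
    ext a b
    rw [mono_apply]
    by_cases hab : a = σ₀ b
    · rw [if_pos hab, hab]
    · rw [if_neg hab]
      by_contra h
      exact hab (huniq a b h)
  have hJ : ∀ a b, d a * Matrix.J (Fin m) F (σ₀ a) (σ₀ b) * d b = Matrix.J (Fin m) F a b := by
    rw [← mono_mem_iff, ← hgm]
    exact g.2
  have hd0 : ∀ a, d a ≠ 0 := hσ₀
  have hswap : ∀ a, σ₀ (Sum.swap a) = Sum.swap (σ₀ a) := by
    intro a
    rw [← J_ne_zero_iff (F := F)]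
    intro h0
    have := hJ a (Sum.swap a)
    rw [h0, mul_zero, zero_mul] at this
    exact (J_ne_zero_iff a (Sum.swap a)).2 rfl this.symm
  have hinj : Function.Injective σ₀ := by
    intro a b hab
    have h1 := hJ a (Sum.swap b)
    rw [hab, hswap b] at h1
    have h2 : Matrix.J (Fin m) F a (Sum.swap b) ≠ 0 := by
      rw [← h1]
      exact mul_ne_zero (mul_ne_zero (hd0 a) ((J_ne_zero_iff _ _).2 rfl)) (hd0 _)
    rw [J_ne_zero_iff] at h2
    exact (Sum.swap_leftInverse.injective h2).symm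
  set σ : Equiv.Perm (Fin m ⊕ Fin m) := Equiv.ofBijective σ₀ (Finite.injective_iff_bijective.1 hinj) with hσ
  have hσapp : ∀ a, σ a = σ₀ a := fun a => rfl
  have hσW : σ ∈ W m := by
    rw [mem_W_iff]
    intro a
    rw [hσapp, hσapp, hswap]
  set c : Fin m → Fˣ := fun i => Units.mk0 (d (Sum.inl i)) (hd0 _) with hc
  have hdvec : d = dvec σ c := by
    funext a
    rcases a with i | i
    · rfl
    · show d (Sum.inr i) = -((d (Sum.inl i)) * Matrix.J (Fin m) F (σ₀ (Sum.inl i)) (σ₀ (Sum.inr i)))⁻¹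
      have h1 := hJ (Sum.inl i) (Sum.inr i)
      rw [J_inl_inr, if_pos rfl] at h1
      have h2 : d (Sum.inl i) * Matrix.J (Fin m) F (σ₀ (Sum.inl i)) (σ₀ (Sum.inr i)) ≠ 0 := by
        intro h0
        rw [h0, zero_mul] at h1
        exact zero_ne_one (neg_eq_zero.1 h1.symm).symm
      apply mul_left_cancel₀ h2
      rw [mul_neg, mul_inv_cancel₀ h2]
      exact h1
  refine ⟨(⟨σ, hσW⟩, c), ?_⟩
  apply Subtype.ext
  apply Subtype.ext
  rw [Phi_val, hgm]
  show mono (σ : Fin m ⊕ Fin m → Fin m ⊕ Fin m) (dvec σ c) = mono σ₀ d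
  rw [← hdvec]
  rfl

end Count

section Final

variable {F : Type*} [Field F] {m : ℕ}

theorem swapPerm_cycleType (m : ℕ) : (swapPerm m).cycleType = Multiset.replicate m 2 := by
  rcases Nat.eq_zero_or_pos m with hm | hm
  · subst hm
    have : swapPerm 0 = 1 := Subsingleton.elim _ _
    rw [this, Equiv.Perm.cycleType_one]
    rfl
  · have hsq : swapPerm m ^ 2 = 1 := by
      ext a
      rw [pow_two, Equiv.Perm.mul_apply, swapPerm_apply, swapPerm_apply, Sum.swap_swap]
      rfl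
    have hne : swapPerm m ≠ 1 := by
      intro h
      have := congrArg (fun τ : Equiv.Perm (Fin m ⊕ Fin m) => τ (Sum.inl ⟨0, hm⟩)) h
      simp [swapPerm_apply] at this
    have hord : orderOf (swapPerm m) = 2 := orderOf_eq_prime hsq hne
    obtain ⟨n, hn⟩ := Equiv.Perm.cycleType_prime_order (σ := swapPerm m)
      (by rw [hord]; exact Nat.prime_two)
    rw [hord] at hn
    have hsum := Equiv.Perm.sum_cycleType (swapPerm m)
    have hsupp : (swapPerm m).support = Finset.univ := by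
      ext a
      simp only [Equiv.Perm.mem_support, Finset.mem_univ, iff_true, swapPerm_apply]
      rcases a with i | i <;> simp
    rw [hsupp, Finset.card_univ, hn, Multiset.sum_replicate, Fintype.card_sum, Fintype.card_fin,
      smul_eq_mul] at hsum
    have : n + 1 = m := by omega
    rw [hn, this]

theorem card_W (m : ℕ) : Nat.card (W m) = 2 ^ m * Nat.factorial m := by
  unfold W
  rw [Equiv.Perm.nat_card_centralizer, swapPerm_cycleType, Multiset.sum_replicate,
    Multiset.prod_replicate, Fintype.card_sum, Fintype.card_fin, smul_eq_mul]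
  rcases Nat.eq_zero_or_pos m with hm | hm
  · subst hm
    simp
  · have h1 : (Multiset.replicate m 2).toFinset = {2} := by
      ext x
      simp only [Multiset.mem_toFinset, Multiset.mem_replicate, Finset.mem_singleton]
      constructor
      · exact fun h => h.2
      · exact fun h => ⟨by omega, h⟩
    rw [h1, Finset.prod_singleton, Multiset.count_replicate_self]
    have : m + m - m * 2 = 0 := by omega
    rw [this]
    simp

end Final


/-- Weyl group of type C_m: for q ≥ 4 the diagonal matrices of Sp_2m(q) form a torus T ≅ (C_(q−1))^m (the elements stabilising every coordinate axis), and the normaliser of T in Sp_2m(q) has order 2^m · m! · (q − 1)^m. -/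
theorem result {F : Type*} [Field F] [Fintype F] {q : ℕ} (hF : Fintype.card F = q) (hq : 4 ≤ q) (m : ℕ) : Nat.card ↥(Subgroup.normalizer (⨅ i : Fin m ⊕ Fin m, Cfsg.stabilizing (Cfsg.spToMat m F) ((Submodule.span F {(Pi.single i (1 : F) : Fin m ⊕ Fin m → F)} : Submodule F (Fin m ⊕ Fin m → F)) : Set (Fin m ⊕ Fin m → F)) : Set (Matrix.symplecticGroup (Fin m) F))) = 2 ^ m * Nat.factorial m * (q - 1) ^ m := by
  classical
  have hx : ∃ x : Fˣ, (x : F) ^ 2 ≠ 1 := exists_good (by rw [hF]; exact hq)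
  have hbij : Function.Bijective (Phi : ↥(W m) × (Fin m → Fˣ) → ↥(Subgroup.normalizer (torusSet m F))) :=
    ⟨Phi_injective, Phi_surjective hx⟩
  have h1 : Nat.card ↥(Subgroup.normalizer (torusSet m F)) = Nat.card (↥(W m) × (Fin m → Fˣ)) :=
    (Nat.card_congr (Equiv.ofBijective _ hbij)).symm
  show Nat.card ↥(Subgroup.normalizer (torusSet m F)) = _
  rw [h1, Nat.card_prod, card_W, Nat.card_fun, Nat.card_eq_fintype_card (α := Fin m),
    Fintype.card_fin, Nat.card_eq_fintype_card (α := Fˣ), Fintype.card_units, hF]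

end Cfsg.Agent.S0777
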