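import Cfsg.Statements.S0778
import Cfsg.Agent.Lib.Helper13.Stab

set_option autoImplicit false
open Cfsg

namespace Cfsg.Agent.S0778

open Matrix

variable {F : Type*} [Field F] {m : ℕ}

/-- The Levi embedding `A ↦ diag(A, A⁻ᵀ)` of `GL_m` into `Sp_2m`. -/
noncomputable def levi (m : ℕ) (F : Type*) [Field F] :
    Matrix.GeneralLinearGroup (Fin m) F →* Matrix.symplecticGroup (Fin m) F where
  toFun A := ⟨Matrix.fromBlocks (A : Matrix (Fin m) (Fin m) F) 0 0
      ((A⁻¹ : Matrix.GeneralLinearGroup (Fin m) F) : Matrix (Fin m) (Fin m) F)ᵀ, by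
    rw [SymplecticGroup.fromBlocks_mem_iff]
    refine ⟨by simp, by simp, ?_⟩
    rw [← Matrix.transpose_mul, Units.inv_mul]
    simp⟩
  map_one' := by
    apply Subtype.ext
    simp [Matrix.fromBlocks_one]
  map_mul' A B := by
    apply Subtype.ext
    simp only [Submonoid.coe_mul, Matrix.fromBlocks_multiply, _root_.mul_inv_rev, Units.val_mul,
      Matrix.transpose_mul]
    simp

theorem levi_coe (A : Matrix.GeneralLinearGroup (Fin m) F) :
    ((levi m F A : Matrix.symplecticGroup (Fin m) F) :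
        Matrix (Fin m ⊕ Fin m) (Fin m ⊕ Fin m) F)
      = Matrix.fromBlocks (A : Matrix (Fin m) (Fin m) F) 0 0
        ((A⁻¹ : Matrix.GeneralLinearGroup (Fin m) F) : Matrix (Fin m) (Fin m) F)ᵀ := rfl

theorem levi_injective : Function.Injective (levi m F) := by
  intro A B h
  have h1 := congrArg (fun X : Matrix.symplecticGroup (Fin m) F =>
    (X : Matrix (Fin m ⊕ Fin m) (Fin m ⊕ Fin m) F)) h
  simp only [levi_coe] at h1
  have := (Matrix.fromBlocks_inj.mp h1).1
  exact Units.ext this

omit [Field F] in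
theorem vec_eq_elim (v : Fin m ⊕ Fin m → F) :
    v = Sum.elim (fun i => v (Sum.inl i)) (fun i => v (Sum.inr i)) := by
  ext x; cases x <;> rfl

theorem levi_mulVec (A : Matrix.GeneralLinearGroup (Fin m) F) (v : Fin m ⊕ Fin m → F) :
    (Cfsg.spToMat m F (levi m F A)) *ᵥ v
      = Sum.elim ((A : Matrix (Fin m) (Fin m) F) *ᵥ (fun i => v (Sum.inl i)))
          (((A⁻¹ : Matrix.GeneralLinearGroup (Fin m) F) : Matrix (Fin m) (Fin m) F)ᵀ *ᵥ
            (fun i => v (Sum.inr i))) := by
  conv_lhs => rw [vec_eq_elim v]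
  change (Matrix.fromBlocks _ _ _ _) *ᵥ _ = _
  rw [Matrix.fromBlocks_mulVec]
  simp

theorem levi_range :
    (levi m F).range = Cfsg.stabilizing (Cfsg.spToMat m F)
        {v : Fin m ⊕ Fin m → F | ∀ i : Fin m, v (Sum.inr i) = 0} ⊓
      Cfsg.stabilizing (Cfsg.spToMat m F)
        {v : Fin m ⊕ Fin m → F | ∀ i : Fin m, v (Sum.inl i) = 0} := by
  ext M
  constructor
  · rintro ⟨A, rfl⟩
    refine ⟨?_, ?_⟩
    · apply Cfsg.Agent.Lib.Helper13.map_mem_stabilizing
      intro g v hv
      rw [levi_mulVec]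
      intro i
      have hv' : (fun i => v (Sum.inr i)) = 0 := funext hv
      simp [hv']
    · apply Cfsg.Agent.Lib.Helper13.map_mem_stabilizing
      intro g v hv
      rw [levi_mulVec]
      intro i
      have hv' : (fun i => v (Sum.inl i)) = 0 := funext hv
      simp [hv']
  · rintro ⟨hW, hU⟩
    -- block decomposition
    set Mm : Matrix (Fin m ⊕ Fin m) (Fin m ⊕ Fin m) F := M.1 with hMm
    set A := Mm.toBlocks₁₁ with hA
    set B := Mm.toBlocks₁₂ with hB
    set C := Mm.toBlocks₂₁ with hC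
    set D := Mm.toBlocks₂₂ with hD
    have hblocks : Mm = Matrix.fromBlocks A B C D := (Matrix.fromBlocks_toBlocks Mm).symm
    have hC0 : C = 0 := by
      rw [Matrix.ext_iff_mulVec]
      intro x
      have hx : (Sum.elim x 0 : Fin m ⊕ Fin m → F) ∈
          {v : Fin m ⊕ Fin m → F | ∀ i : Fin m, v (Sum.inr i) = 0} := by
        intro i; simp
      have h1 := (hW _).mp hx
      change Mm *ᵥ _ ∈ _ at h1
      rw [hblocks, Matrix.fromBlocks_mulVec] at h1
      funext i
      have := h1 i
      simpa using this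
    have hB0 : B = 0 := by
      rw [Matrix.ext_iff_mulVec]
      intro x
      have hx : (Sum.elim 0 x : Fin m ⊕ Fin m → F) ∈
          {v : Fin m ⊕ Fin m → F | ∀ i : Fin m, v (Sum.inl i) = 0} := by
        intro i; simp
      have h1 := (hU _).mp hx
      change Mm *ᵥ _ ∈ _ at h1
      rw [hblocks, Matrix.fromBlocks_mulVec] at h1
      funext i
      have := h1 i
      simpa using this
    have hmem : Matrix.fromBlocks A B C D ∈ Matrix.symplecticGroup (Fin m) F := by
      rw [← hblocks]; exact M.2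
    rw [SymplecticGroup.fromBlocks_mem_iff, hB0, hC0] at hmem
    have hAD : Aᵀ * D = 1 := by
      have := hmem.2.2
      simpa using this
    have hDA : Dᵀ * A = 1 := by
      have := congrArg Matrix.transpose hAD
      simpa [Matrix.transpose_mul] using this
    have hAD' : A * Dᵀ = 1 := _root_.mul_eq_one_comm.mp hDA
    refine ⟨⟨A, Dᵀ, hAD', hDA⟩, ?_⟩
    apply Subtype.ext
    rw [levi_coe]
    change Matrix.fromBlocks A 0 0 (Dᵀ)ᵀ = Mm
    rw [Matrix.transpose_transpose, hblocks, hB0, hC0]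

/-- The elements of Sp_2m(F) stabilising both W = ⟨e_1..e_m⟩ and U = ⟨f_1..f_m⟩ form a subgroup isomorphic to GL_m(F) (block-diagonal matrices diag(X, X^(−ᵀ)) up to the sign convention of J), for m ≥ 1 or m = 0 alike. -/
theorem result {F : Type*} [Field F] (m : ℕ) : Nonempty (↥(Cfsg.stabilizing (Cfsg.spToMat m F) {v : Fin m ⊕ Fin m → F | ∀ i : Fin m, v (Sum.inr i) = 0} ⊓ Cfsg.stabilizing (Cfsg.spToMat m F) {v : Fin m ⊕ Fin m → F | ∀ i : Fin m, v (Sum.inl i) = 0}) ≃* Matrix.GeneralLinearGroup (Fin m) F) := by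
  have e1 := MonoidHom.ofInjective (levi_injective (F := F) (m := m))
  have e2 := MulEquiv.subgroupCongr (levi_range (F := F) (m := m))
  exact ⟨(e1.trans e2).symm⟩

end Cfsg.Agent.S0778
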