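import Cfsg.Statements.S0779
import Cfsg.Agent.Lib.Helper13.Herm

set_option autoImplicit false
open Cfsg

namespace Cfsg.Agent.S0779

/-- Unitary transvections: let |F| = q², h the standard Hermitian form Σ x_i y_i^q and v ≠ 0 with h(v, v) = 0. The linear map x ↦ x + c h(x, v) v is an isometry of h if and only if c = 0 or c^(q−1) = −1. -/
theorem result {F : Type*} [Field F] [Fintype F] {q : ℕ} (hF : Fintype.card F = q ^ 2) (n : ℕ) (v : Fin n → F) (hv : v ≠ 0) (hv0 : Cfsg.hermForm n F q v v = 0) (c : F) : (∀ x y : Fin n → F, Cfsg.hermForm n F q ((Cfsg.unitaryTransvection n q v c).mulVec x) ((Cfsg.unitaryTransvection n q v c).mulVec y) = Cfsg.hermForm n F q x y) ↔ (c = 0 ∨ c ^ (q - 1) = -1) := by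
  have hq2 : 2 ≤ q := Cfsg.Agent.Lib.Helper13.two_le_of_card_eq_sq hF
  have hkey := Cfsg.Agent.Lib.Helper13.hermForm_unitaryTransvection hF v hv0 c
  have hiff : (c = 0 ∨ c ^ (q - 1) = -1) ↔ c ^ q + c = 0 := by
    have hfac : c ^ q + c = c * (c ^ (q - 1) + 1) := by
      have : c ^ q = c * c ^ (q - 1) := by
        rw [← pow_succ', Nat.sub_add_cancel (by omega)]
      rw [this]; ring
    rw [hfac, mul_eq_zero]
    constructor
    · rintro (h | h)
      · left; exact h
      · right; rw [h]; ring
    · rintro (h | h)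
      · left; exact h
      · right; exact eq_neg_of_add_eq_zero_left h
  rw [hiff]
  constructor
  · intro h
    -- pick a coordinate where v is non-zero
    obtain ⟨i, hi⟩ : ∃ i, v i ≠ 0 := by
      by_contra hcon
      push Not at hcon
      exact hv (funext hcon)
    have h1 := h (Pi.single i 1) (Pi.single i 1)
    rw [hkey, Cfsg.Agent.Lib.Helper13.hermForm_single_left i v,
      Cfsg.Agent.Lib.Helper13.hermForm_single_right (by omega) i v] at h1
    have h2 : (c ^ q + c) * (v i ^ q * v i) = 0 := by
      have := h1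
      rw [add_eq_left] at this
      exact this
    rcases mul_eq_zero.mp h2 with h3 | h3
    · exact h3
    · exfalso
      rcases mul_eq_zero.mp h3 with h4 | h4
      · exact hi (pow_eq_zero_iff (by omega) |>.mp h4)
      · exact hi h4
  · intro h x y
    rw [hkey, h, zero_mul, add_zero]

end Cfsg.Agent.S0779
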