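import Cfsg.Statements.S0783
import Cfsg.Agent.Lib.Helper13.GU

set_option autoImplicit false
open Cfsg

namespace Cfsg.Agent.S0783

open Cfsg.Agent.Lib.Helper13

/-- The determinant from `GU_n(q)` to the norm-one group. -/
noncomputable def detU {F : Type*} [Field F] [Fintype F] {q : ℕ} (hF : Fintype.card F = q ^ 2)
    (n : ℕ) : ↥(Cfsg.GU n F q) →* ↥(U1 F q) :=
  (Matrix.GeneralLinearGroup.det.comp (Cfsg.GU n F q).subtype).codRestrict (U1 F q) (fun g => by
    rw [mem_U1_iff]
    exact det_pow_of_mem_GU hF g.2)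

theorem detU_coe {F : Type*} [Field F] [Fintype F] {q : ℕ} (hF : Fintype.card F = q ^ 2)
    (n : ℕ) (g : ↥(Cfsg.GU n F q)) :
    (((detU hF n g : ↥(U1 F q)) : Fˣ) : F)
      = ((g : Matrix.GeneralLinearGroup (Fin n) F) : Matrix (Fin n) (Fin n) F).det := rfl

/-- PGU_n(q)/PSU_n(q) is cyclic of order (n, q+1): for n ≥ 2 and |F| = q² there is a surjective homomorphism from GU_n(q) onto the cyclic group of order gcd(n, q + 1) whose kernel is generated by the determinant-one elements together with the centre. -/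
theorem result {F : Type*} [Field F] [Fintype F] {q : ℕ} (hF : Fintype.card F = q ^ 2) (n : ℕ) (hn : 2 ≤ n) : ∃ φ : ↥(Cfsg.GU n F q) →* Multiplicative (ZMod (Nat.gcd n (q + 1))), Function.Surjective φ ∧ φ.ker = (Matrix.GeneralLinearGroup.det : Matrix.GeneralLinearGroup (Fin n) F →* Fˣ).ker.subgroupOf (Cfsg.GU n F q) ⊔ Subgroup.center ↥(Cfsg.GU n F q) := by
  classical
  have hn0 : 0 < n := by omega
  obtain ⟨P, hP⟩ : ∃ P : Subgroup ↥(U1 F q),
      P = (powMonoidHom n : ↥(U1 F q) →* ↥(U1 F q)).range := ⟨_, rfl⟩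
  have hcard : Nat.card (↥(U1 F q) ⧸ P) = Nat.gcd n (q + 1) := by
    rw [← Subgroup.index_eq_card, hP, IsCyclic.index_powMonoidHom_range, card_U1 hF, Nat.gcd_comm]
  obtain ⟨e⟩ := cyclic_equiv_zmod (G := ↥(U1 F q) ⧸ P) _ hcard
  -- kernel characterisation
  have hker : ∀ g : ↥(Cfsg.GU n F q),
      g ∈ (e.toMonoidHom.comp ((QuotientGroup.mk' P).comp (detU hF n))).ker ↔
        ∃ y : Fˣ, (y : F) ^ (q + 1) = 1 ∧ (y : F) ^ n
          = ((g : Matrix.GeneralLinearGroup (Fin n) F) : Matrix (Fin n) (Fin n) F).det := by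
    intro g
    rw [MonoidHom.mem_ker, MonoidHom.comp_apply, MonoidHom.comp_apply]
    change e (QuotientGroup.mk' P (detU hF n g)) = 1 ↔ _
    rw [EmbeddingLike.map_eq_one_iff, QuotientGroup.mk'_apply, QuotientGroup.eq_one_iff, hP,
      MonoidHom.mem_range]
    constructor
    · rintro ⟨y, hy⟩
      refine ⟨(y : Fˣ), (mem_U1_iff _).mp y.2, ?_⟩
      rw [← detU_coe hF n g, ← hy]
      rfl
    · rintro ⟨y, hy1, hy⟩
      refine ⟨⟨y, (mem_U1_iff y).mpr hy1⟩, ?_⟩
      apply Subtype.ext
      apply Units.ext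
      rw [detU_coe hF n g, ← hy]
      rfl
  refine ⟨e.toMonoidHom.comp ((QuotientGroup.mk' P).comp (detU hF n)), ?_, ?_⟩
  · -- surjectivity
    have h1 : Function.Surjective (detU hF n) := by
      rintro ⟨x, hx⟩
      have hx' := (mem_U1_iff x).mp hx
      have hmem : diagGL n F (Function.update (fun _ => (1 : Fˣ)) ⟨0, hn0⟩ x) ∈ Cfsg.GU n F q := by
        apply diagGL_mem_GU
        intro k
        by_cases hk : k = ⟨0, hn0⟩
        · subst hk; simp [hx']
        · simp [Function.update_of_ne hk]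
      refine ⟨⟨_, hmem⟩, ?_⟩
      apply Subtype.ext
      apply Units.ext
      rw [detU_coe]
      exact det_diagGL_update _ x
    exact e.surjective.comp ((QuotientGroup.mk'_surjective P).comp h1)
  · apply le_antisymm
    · intro g hg
      obtain ⟨y, hy1, hy⟩ := (hker g).mp hg
      rw [Subgroup.mem_sup_of_normal_right]
      set s : ↥(Cfsg.GU n F q) := ⟨diagGL n F (fun _ => y), diagGL_mem_GU _ (fun _ => hy1)⟩ with hs
      refine ⟨g * s⁻¹, ?_, s, diagGL_const_mem_center y hy1, by group⟩
      rw [Subgroup.mem_subgroupOf, MonoidHom.mem_ker]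
      apply Units.ext
      rw [Matrix.GeneralLinearGroup.val_det_apply, Units.val_one]
      change (((g : Matrix.GeneralLinearGroup (Fin n) F) : Matrix (Fin n) (Fin n) F)
        * ((((s : Matrix.GeneralLinearGroup (Fin n) F))⁻¹ : Matrix.GeneralLinearGroup (Fin n) F)
          : Matrix (Fin n) (Fin n) F)).det = 1
      rw [Matrix.det_mul, ← hy]
      have h2 : ((((s : Matrix.GeneralLinearGroup (Fin n) F))⁻¹ :
          Matrix.GeneralLinearGroup (Fin n) F) : Matrix (Fin n) (Fin n) F).det
          = ((y : F) ^ n)⁻¹ := by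
        have h3 : ((s : Matrix.GeneralLinearGroup (Fin n) F) : Matrix (Fin n) (Fin n) F).det
            = (y : F) ^ n := det_diagGL_const y
        have h4 : ((s : Matrix.GeneralLinearGroup (Fin n) F) : Matrix (Fin n) (Fin n) F)
            * ((((s : Matrix.GeneralLinearGroup (Fin n) F))⁻¹ :
              Matrix.GeneralLinearGroup (Fin n) F) : Matrix (Fin n) (Fin n) F) = 1 := by
          rw [← Units.val_mul, mul_inv_cancel, Units.val_one]
        have h5 := congrArg Matrix.det h4
        rw [Matrix.det_mul, Matrix.det_one, h3] at h5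
        exact eq_inv_of_mul_eq_one_right h5
      rw [h2]
      exact mul_inv_cancel₀ (pow_ne_zero _ (Units.ne_zero y))
    · apply sup_le
      · intro g hg
        rw [hker]
        refine ⟨1, by simp, ?_⟩
        rw [Subgroup.mem_subgroupOf, MonoidHom.mem_ker] at hg
        have := congrArg (fun u : Fˣ => (u : F)) hg
        simp only [Matrix.GeneralLinearGroup.val_det_apply, Units.val_one] at this
        rw [Units.val_one, one_pow]
        exact this.symm
      · intro z hz
        rw [hker]
        obtain ⟨l, hl, hzl⟩ := center_GU_scalar hF hn0 z hz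
        refine ⟨l, hl, ?_⟩
        rw [hzl, det_diagGL_const]

end Cfsg.Agent.S0783
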