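import Cfsg.Statements.S0787
import Cfsg.Agent.Lib.Helper13.SOTransfer
import Cfsg.Agent.S0789

set_option autoImplicit false
open Cfsg

namespace Cfsg.Agent.S0787

open Cfsg.Agent.Lib.Helper13

/-- Existence and uniqueness of Ω: if F is finite, n ≥ 2, Q is a quadratic form on F^n with non-degenerate polar form and (|F|, n) ≠ (2, 4), then the group of isometries of determinant one has a unique subgroup of index 2. -/
theorem result {F : Type*} [Field F] [Fintype F] {n : ℕ} (hn : 2 ≤ n) (Q : QuadraticForm F (Fin n → F)) (hQ : (QuadraticMap.polarBilin Q).Nondegenerate) (h : Fintype.card F ≠ 2 ∨ n ≠ 4) : ∃! H : Subgroup ↥(Cfsg.specialIsometryGroup F ⇑Q), H.index = 2 := by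
  classical
  by_cases h0 : (2 : F) = 0
  · -- characteristic two: every isometry has determinant one
    have hchar : ringChar F = 2 :=
      CharP.ringChar_of_prime_eq_zero Nat.prime_two (by exact_mod_cast h0)
    have : CharP F 2 := ringChar.of_eq hchar
    have hidx := Cfsg.Agent.S0789.result hn Q hQ h
    have hex : ∃! H : Subgroup ↥(Cfsg.isometryGroup F ⇑Q), H.index = 2 :=
      existsUnique_index_two_of_commutator hidx
    rw [specialIsometryGroup_eq_top_of_two_eq_zero Q hQ h0]
    exact existsUnique_index_two_congr Subgroup.topEquiv hex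
  · exact specialIsometryGroup_existsUnique_odd Q hQ h0 (by rw [Fintype.card_fin]; exact hn)

end Cfsg.Agent.S0787
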