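import Mathlib
import Cfsg.Statements.S0796
-- import your own Cfsg.Agent.* helpers here

set_option autoImplicit false
open Cfsg

namespace Cfsg.Agent.S0796


open MulAction

theorem sup_eq_top {G X : Type*} [Group G] [MulAction G X] [FaithfulSMul G X]
    (hprim : MulAction.IsPreprimitive G X) (x : X) (A : Subgroup G)
    (hA : A ≤ MulAction.stabilizer G x)
    (hAn : (A.subgroupOf (MulAction.stabilizer G x)).Normal)
    (hgen : Subgroup.normalClosure (A : Set G) = ⊤) (K : Subgroup G) [K.Normal] (hK : K ≠ ⊥) :
    A ⊔ K = ⊤ := by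
  -- K acts nontrivially
  have hfix : MulAction.fixedPoints K X ≠ Set.univ := by
    intro h
    apply hK
    rw [Subgroup.eq_bot_iff_forall]
    intro k hk
    apply FaithfulSMul.eq_of_smul_eq_smul (α := X)
    intro y
    rw [one_smul]
    have : y ∈ MulAction.fixedPoints K X := by rw [h]; trivial
    exact this ⟨k, hk⟩
  have htrans : MulAction.IsPretransitive K X :=
    MulAction.IsQuasiPreprimitive.isPretransitive_of_normal hfix
  -- every g is k * h
  have hdecomp : ∀ g : G, ∃ k ∈ K, ∃ h ∈ MulAction.stabilizer G x, g = k * h := by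
    intro g
    obtain ⟨k, hk⟩ := MulAction.exists_smul_eq K x (g • x)
    refine ⟨k, k.2, (k : G)⁻¹ * g, ?_, by group⟩
    rw [MulAction.mem_stabilizer_iff, mul_smul, ← hk]
    show (k : G)⁻¹ • ((k : G) • x) = x
    rw [inv_smul_smul]
  -- A ⊔ K is normal
  have hN : (A ⊔ K).Normal := by
    rw [← Subgroup.normalizer_eq_top_iff, Subgroup.eq_top_iff']
    intro g
    obtain ⟨k, hk, h, hh, rfl⟩ := hdecomp g
    apply Subgroup.mul_mem
    · exact Subgroup.le_normalizer (le_sup_right (a := A) hk)
    · rw [Subgroup.mem_normalizer_iff_map_conj_eq, Subgroup.map_sup]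
      congr 1
      · -- A.map (conj h) = A
        have := hAn
        apply le_antisymm
        · rintro _ ⟨a, ha, rfl⟩
          have h1 := hAn.conj_mem ⟨a, hA ha⟩ (by simpa [Subgroup.mem_subgroupOf] using ha) ⟨h, hh⟩
          simpa [Subgroup.mem_subgroupOf] using h1
        · intro a ha
          have h1 := hAn.conj_mem ⟨a, hA ha⟩ (by simpa [Subgroup.mem_subgroupOf] using ha) ⟨h, hh⟩⁻¹
          refine ⟨h⁻¹ * a * h, ?_, ?_⟩
          · simpa [Subgroup.mem_subgroupOf] using h1
          · simp [MulAut.conj_apply, mul_assoc]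
      · exact Subgroup.Normal.map_conj_eq K h
  rw [eq_top_iff, ← hgen]
  exact Subgroup.normalClosure_le_normal (N := A ⊔ K) (fun a ha => le_sup_left (a := A) ha)


/-- If G is finite and acts faithfully and primitively on X, H is the stabiliser of a point, A is a normal subgroup of H whose normal closure in G is G, then for every non-trivial normal subgroup K of G the quotient G ⧸ K is isomorphic to A ⧸ B for some normal subgroup B of A. -/
theorem result {G X : Type*} [Group G] [Finite G] [MulAction G X] [FaithfulSMul G X] (hprim : MulAction.IsPreprimitive G X) (x : X) (A : Subgroup G) (hA : A ≤ MulAction.stabilizer G x) (hAn : (A.subgroupOf (MulAction.stabilizer G x)).Normal) (hgen : Subgroup.normalClosure (A : Set G) = ⊤) (K : Subgroup G) [K.Normal] (hK : K ≠ ⊥) : ∃ (B : Subgroup A) (_ : B.Normal), Nonempty (G ⧸ K ≃* A ⧸ B) := by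
  have htop := sup_eq_top hprim x A hA hAn hgen K hK
  let φ : A →* G ⧸ K := (QuotientGroup.mk' K).comp A.subtype
  have hφ : Function.Surjective φ := by
    intro y
    obtain ⟨g, rfl⟩ := QuotientGroup.mk_surjective y
    have hg : g ∈ A ⊔ K := by rw [htop]; trivial
    rw [Subgroup.mem_sup_of_normal_right] at hg
    obtain ⟨a, ha, k, hk, rfl⟩ := hg
    refine ⟨⟨a, ha⟩, ?_⟩
    show (QuotientGroup.mk a : G ⧸ K) = QuotientGroup.mk (a * k)
    rw [QuotientGroup.eq]
    simpa using hk
  exact ⟨φ.ker, inferInstance, ⟨(QuotientGroup.quotientKerEquivOfSurjective φ hφ).symm⟩⟩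


end Cfsg.Agent.S0796
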