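import Cfsg.Statements.S0797
import Cfsg.Agent.Lib.Helper13.SpinorIndex
import Cfsg.Agent.Lib.Helper13.IndexTwo
import Cfsg.Agent.S0788

set_option autoImplicit false
open Cfsg

namespace Cfsg.Agent.S0797

open Cfsg.Agent.Lib.Helper13

/-- O^ε_2m(q) ≅ Ω.2² for q odd: if F is finite of odd characteristic, n ≥ 2 is even and Q has non-degenerate polar form on F^n, the isometry group of Q has exactly three subgroups of index 2. -/
theorem result {F : Type*} [Field F] [Fintype F] (h2 : (2 : F) ≠ 0) {n : ℕ} (hn : 2 ≤ n) (heven : Even n) (Q : QuadraticForm F (Fin n → F)) (hQ : (QuadraticMap.polarBilin Q).Nondegenerate) : Nat.card {H : Subgroup ↥(Cfsg.isometryGroup F ⇑Q) // H.index = 2} = 3 := by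
  classical
  have hF : (∀ a b : F, ∃ x : F, x ≠ a ∧ x ≠ b) ∨ Module.finrank F (Fin n → F) ≠ 4 :=
    Or.inl (exists_ne_ne_of_two_ne_zero h2)
  have e : ↥(Cfsg.isometryGroup F ⇑Q) ≃* ↥(isoGroup Q) :=
    ((Cfsg.Agent.S0786.glEquiv n F).subgroupMap (Cfsg.isometryGroup F ⇑Q)).trans
      (MulEquiv.subgroupCongr (Cfsg.Agent.S0789.map_glEquiv_isometryGroup Q))
  obtain ⟨-, -, hsurj⟩ := commutator_isoGroup_eq_ker Q hQ h2
    (by rw [Module.finrank_fin_fun]; exact hn) hF
  apply card_index_two_of_surjective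
    (((parHom Q hQ hF).prod (spinHom Q hQ hF)).comp e.toMonoidHom)
  · exact hsurj.comp e.surjective
  · simp [Nat.card_eq_fintype_card]
  · rintro ⟨a1, a2⟩
    refine Prod.ext ?_ ?_
    · change a1 ^ 2 = 1
      revert a1
      decide
    · change a2 ^ 2 = 1
      rcases Int.units_eq_one_or a2 with rfl | rfl <;> simp
  · exact Cfsg.Agent.S0788.result h2 hn Q hQ

end Cfsg.Agent.S0797
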