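import Cfsg.Statements.S0798
import Cfsg.Agent.Lib.Helper13.ReflClass
import Cfsg.Agent.Lib.Helper13.SpinNeg

set_option autoImplicit false
open Cfsg

namespace Cfsg.Agent.S0798

open Cfsg.Agent.Lib.Helper13

/-- For q odd, n ≥ 2 even, Q with non-degenerate polar form (n, |F|) ≠ (4, 3), and a fixed c ≠ 0: the subgroup of the isometry group generated by the reflections r_v with Q(v) ∈ c·(F^×)² has index 2. -/
theorem result {F : Type*} [Field F] [Fintype F] (h2 : (2 : F) ≠ 0) {n : ℕ} (hn : 2 ≤ n) (heven : Even n) (Q : QuadraticForm F (Fin n → F)) (hQ : (QuadraticMap.polarBilin Q).Nondegenerate) (h43 : ¬ (n = 4 ∧ Fintype.card F = 3)) (c : F) (hc : c ≠ 0) : (Subgroup.closure {g : ↥(Cfsg.isometryGroup F ⇑Q) | ∃ (v : Fin n → F) (t : F), t ≠ 0 ∧ Q v = c * t ^ 2 ∧ ((g : Matrix.GeneralLinearGroup (Fin n) F) : Matrix (Fin n) (Fin n) F) = Cfsg.reflectionMatrix ⇑Q v}).index = 2 := by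
  classical
  have hfr : Module.finrank F (Fin n → F) = n := Module.finrank_fin_fun F
  obtain ⟨e, he⟩ : ∃ e : ↥(Cfsg.isometryGroup F ⇑Q) ≃* ↥(isoGroup Q),
      ∀ g : ↥(Cfsg.isometryGroup F ⇑Q), ∀ z,
      ((e g : ↥(isoGroup Q)) : (Fin n → F) ≃ₗ[F] (Fin n → F)) z
        = ((g : Matrix.GeneralLinearGroup (Fin n) F) : Matrix (Fin n) (Fin n) F).mulVec z :=
    ⟨((glEquivι (Fin n) F).subgroupMap (Cfsg.isometryGroup F ⇑Q)).trans
      (MulEquiv.subgroupCongr (map_glEquivι_isometryGroup Q)), fun g z => rfl⟩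
  have hmap : (Subgroup.closure {g : ↥(Cfsg.isometryGroup F ⇑Q) | ∃ (v : Fin n → F) (t : F),
      t ≠ 0 ∧ Q v = c * t ^ 2 ∧
      ((g : Matrix.GeneralLinearGroup (Fin n) F) : Matrix (Fin n) (Fin n) F)
        = Cfsg.reflectionMatrix ⇑Q v}).map e.toMonoidHom
      = Subgroup.closure {x : ↥(isoGroup Q) |
        (x : (Fin n → F) ≃ₗ[F] (Fin n → F)) ∈ reflClass Q (quadraticChar F c)} := by
    rw [MonoidHom.map_closure]
    congr 1
    ext x
    constructor
    · rintro ⟨g, ⟨v, t, ht, hQv, hg⟩, rfl⟩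
      have hv : Q v ≠ 0 := by
        rw [hQv]
        exact mul_ne_zero hc (pow_ne_zero 2 ht)
      refine ⟨v, hv, ?_, ?_⟩
      · rw [hQv, map_mul, map_pow, quadraticChar_sq_one ht, mul_one]
      · intro z
        change ((e g : ↥(isoGroup Q)) : (Fin n → F) ≃ₗ[F] (Fin n → F)) z = _
        rw [he, hg, reflectionMatrix_mulVec, reflLin_apply]
    · rintro ⟨v, hv, hχ, hxv⟩
      refine ⟨e.symm x, ?_, by simp⟩
      have hχ' : quadraticChar F (Q v * c) = 1 := by
        rw [map_mul, hχ, ← pow_two, quadraticChar_sq_one hc]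
      obtain ⟨s, hs⟩ := (quadraticChar_one_iff_isSquare (mul_ne_zero hv hc)).mp hχ'
      have hs0 : s ≠ 0 := by
        rintro rfl
        rw [mul_zero] at hs
        exact (mul_ne_zero hv hc) hs
      refine ⟨v, s / c, div_ne_zero hs0 hc, ?_, ?_⟩
      · field_simp
        linear_combination hs
      · ext i j
        have h3 := he (e.symm x) (Pi.single j 1)
        rw [MulEquiv.apply_symm_apply, hxv, reflLin_apply, ← reflectionMatrix_mulVec] at h3
        have h4 := congrFun h3 i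
        rw [Matrix.mulVec_single_one, Matrix.mulVec_single_one] at h4
        exact h4.symm
  have hidx := index_closure_reflClass Q hQ h2 (by rw [hfr]; exact hn) (by rw [hfr]; exact heven)
    (by rw [hfr]; exact h43) c hc
  rw [← hmap, Subgroup.map_equiv_eq_comap_symm',
    Subgroup.index_comap_of_surjective _ e.symm.surjective] at hidx
  exact hidx

end Cfsg.Agent.S0798
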