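import Mathlib
import Cfsg.Statements.S0800
-- import your own Cfsg.Agent.* helpers here

set_option autoImplicit false
open Cfsg

namespace Cfsg.Agent.S0800

open Polynomial

/-- If `X^2 - tX + 1` divides `X^k - 1` then `g^k = 1`. -/
theorem orderOf_dvd_of_poly_dvd {F : Type*} [Field F] (g : Matrix.SpecialLinearGroup (Fin 2) F)
    (k : ℕ)
    (h : (X ^ 2 - C (g : Matrix (Fin 2) (Fin 2) F).trace * X + 1 : F[X]) ∣ X ^ k - 1) :
    orderOf g ∣ k := by
  apply orderOf_dvd_of_pow_eq_one
  have hchar : (g : Matrix (Fin 2) (Fin 2) F).charpoly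
      = X ^ 2 - C (g : Matrix (Fin 2) (Fin 2) F).trace * X + 1 := by
    rw [Matrix.charpoly_fin_two, g.2, map_one]
  have h0 : aeval (g : Matrix (Fin 2) (Fin 2) F)
      (X ^ 2 - C (g : Matrix (Fin 2) (Fin 2) F).trace * X + 1 : F[X]) = 0 := by
    rw [← hchar]; exact Matrix.aeval_self_charpoly _
  obtain ⟨r, hr⟩ := h
  have h1 : aeval (g : Matrix (Fin 2) (Fin 2) F) (X ^ k - 1 : F[X]) = 0 := by
    rw [hr, map_mul, h0, zero_mul]
  simp only [map_sub, map_pow, aeval_X, map_one] at h1
  apply Subtype.ext
  rw [Matrix.SpecialLinearGroup.coe_pow]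
  exact sub_eq_zero.mp h1

/-- The degenerate case: `(M - s)^2 = 0` with `s = ±1`. -/
theorem case_double {F : Type*} [Field F] (p : ℕ) [Fact p.Prime] [CharP F p]
    (g : Matrix.SpecialLinearGroup (Fin 2) F) (s : F) (hs : s ^ 2 = 1)
    (ht : (g : Matrix (Fin 2) (Fin 2) F).trace = 2 * s) : orderOf g ∣ 2 * p := by
  apply orderOf_dvd_of_pow_eq_one
  set M := (g : Matrix (Fin 2) (Fin 2) F) with hM
  have hchar : M.charpoly = X ^ 2 - C M.trace * X + 1 := by
    rw [Matrix.charpoly_fin_two, g.2, map_one]
  have h0 : aeval M (X ^ 2 - C M.trace * X + 1 : F[X]) = 0 := by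
    rw [← hchar]; exact Matrix.aeval_self_charpoly _
  simp only [map_sub, map_add, map_pow, map_mul, aeval_X, aeval_C, map_one] at h0
  set S : Matrix (Fin 2) (Fin 2) F := algebraMap F _ s with hS
  have hSS : S * S = 1 := by
    rw [hS, ← map_mul, ← pow_two, hs, map_one]
  have hcomm : Commute S (M - S) := by
    rw [hS]
    exact Algebra.commute_algebraMap_left s _
  have hN : (M - S) ^ 2 = 0 := by
    have e : (M - S) ^ 2 = M ^ 2 - algebraMap F _ (M.trace) * M + 1 := by
      rw [ht, pow_two, pow_two, sub_mul, mul_sub, mul_sub, hSS]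
      have c1 : M * S = S * M := (Algebra.commute_algebraMap_left s M).eq.symm
      rw [c1, map_mul, ← hS]
      have : (algebraMap F (Matrix (Fin 2) (Fin 2) F)) 2 = 2 := map_ofNat _ 2
      rw [this, two_mul, add_mul]
      abel
    rw [e]; exact h0
  have hNp : (M - S) ^ p = 0 := by
    have h2p : 2 ≤ p := (Fact.out : p.Prime).two_le
    obtain ⟨j, rfl⟩ := Nat.exists_eq_add_of_le h2p
    rw [pow_add, hN, zero_mul]
  have hMp : M ^ p = S ^ p := by
    have : M = S + (M - S) := by abel
    conv_lhs => rw [this]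
    rw [add_pow_char_of_commute p hcomm, hNp, add_zero]
  apply Subtype.ext
  rw [Matrix.SpecialLinearGroup.coe_pow, ← hM, mul_comm, pow_mul, hMp, ← pow_mul, mul_comm, pow_mul,
    pow_two, hSS, one_pow]
  rfl

theorem two_dvd_sub_one_of_odd_char {F : Type*} [Field F] [Fintype F] (p : ℕ) [Fact p.Prime]
    [CharP F p] (hp2 : p ≠ 2) : 2 ∣ Fintype.card F - 1 := by
  obtain ⟨n, hp, hn⟩ := FiniteField.card F p
  rw [hn]
  have hodd : Odd p := hp.odd_of_ne_two hp2
  have : Odd (p ^ (n : ℕ)) := hodd.pow
  obtain ⟨m, hm⟩ := this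
  rw [hm]
  simp


/-- Tori of SL_2(q): if g ∈ SL_2(q) has order coprime to the characteristic p, then the order of g divides q − 1 or q + 1. -/
theorem result {F : Type*} [Field F] [Fintype F] {q : ℕ} (hF : Fintype.card F = q) (p : ℕ) [Fact p.Prime] [CharP F p] (g : Matrix.SpecialLinearGroup (Fin 2) F) (hg : Nat.Coprime (orderOf g) p) : orderOf g ∣ q - 1 ∨ orderOf g ∣ q + 1 := by
  subst hF
  set M := (g : Matrix (Fin 2) (Fin 2) F) with hM
  set t := M.trace with ht
  let L := AlgebraicClosure F
  let ι : F →+* L := algebraMap F L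
  have hinj : Function.Injective ι := (algebraMap F L).injective
  have : CharP L p := charP_of_injective_algebraMap hinj p
  -- a root lam of the characteristic polynomial in L
  have hdeg : (X ^ 2 - C (ι t) * X + 1 : L[X]).degree ≠ 0 := by
    have : (X ^ 2 - C (ι t) * X + 1 : L[X]).degree = 2 := by
      compute_degree!
    rw [this]; norm_num
  obtain ⟨lam, hlam⟩ := IsAlgClosed.exists_root _ hdeg
  simp only [IsRoot.def, eval_add, eval_sub, eval_pow, eval_X, eval_mul, eval_C, eval_one] at hlam
  have hlam0 : lam ≠ 0 := by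
    rintro rfl
    simp at hlam
  have htl : ι t = lam + lam⁻¹ := by
    have : lam * (ι t) = lam * (lam + lam⁻¹) := by
      rw [mul_add, mul_inv_cancel₀ hlam0]
      linear_combination -hlam
    exact mul_left_cancel₀ hlam0 this
  have hfac : (X ^ 2 - C (ι t) * X + 1 : L[X]) = (X - C lam) * (X - C lam⁻¹) := by
    rw [htl, map_add]
    have : (C lam : L[X]) * C lam⁻¹ = 1 := by
      rw [← map_mul, mul_inv_cancel₀ hlam0, map_one]
    linear_combination -this
  -- lam ^ q is again a root
  obtain ⟨n, hp, hn⟩ := FiniteField.card F p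
  have htq : (ι t) ^ (Fintype.card F) = ι t := by
    rw [← map_pow, FiniteField.pow_card]
  have hroot : (lam ^ Fintype.card F - lam) * (lam ^ Fintype.card F - lam⁻¹) = 0 := by
    have e1 : (lam ^ Fintype.card F - lam) * (lam ^ Fintype.card F - lam⁻¹)
        = (lam ^ Fintype.card F) ^ 2 - (ι t) * lam ^ Fintype.card F + 1 := by
      rw [htl]
      have : lam * lam⁻¹ = 1 := mul_inv_cancel₀ hlam0
      linear_combination this
    have e2 : (lam ^ Fintype.card F) ^ 2 - (ι t) * lam ^ Fintype.card F + 1
        = (lam ^ 2 - ι t * lam + 1) ^ Fintype.card F := by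
      conv_rhs => rw [hn]
      rw [add_pow_char_pow, sub_pow_char_pow, mul_pow, one_pow, ← hn, htq]
      ring
    rw [e1, e2, hlam, zero_pow Fintype.card_ne_zero]
  by_cases hdist : lam = lam⁻¹
  · -- double root
    have hl2 : lam ^ 2 = 1 := by
      rw [pow_two]
      nth_rewrite 2 [hdist]
      exact mul_inv_cancel₀ hlam0
    have hl1 : lam = 1 ∨ lam = -1 := by
      apply mul_self_eq_one_iff.mp
      rw [← pow_two]; exact hl2
    have h2p : orderOf g ∣ 2 * p := by
      rcases hl1 with h1 | h1
      · apply case_double p g 1 (by norm_num)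
        apply hinj
        rw [← hM, ← ht, htl, ← hdist, h1, map_mul, map_ofNat, map_one]
        ring
      · apply case_double p g (-1) (by norm_num)
        apply hinj
        rw [← hM, ← ht, htl, ← hdist, h1, map_mul, map_ofNat, map_neg, map_one]
        ring
    have h2 : orderOf g ∣ 2 := Nat.Coprime.dvd_of_dvd_mul_right hg h2p
    left
    by_cases hp2 : p = 2
    · subst hp2
      have : orderOf g ∣ 1 := by
        have := Nat.Coprime.dvd_of_dvd_mul_right hg (by simpa using h2 : orderOf g ∣ 1 * 2)
        exact this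
      exact dvd_trans this (one_dvd _)
    · exact dvd_trans h2 (two_dvd_sub_one_of_odd_char p hp2)
  · -- distinct roots
    have hcop : IsCoprime (X - C lam : L[X]) (X - C lam⁻¹) :=
      Polynomial.isCoprime_X_sub_C_of_isUnit_sub (sub_ne_zero.mpr hdist).isUnit
    have key : ∀ k : ℕ, lam ^ k = 1 → orderOf g ∣ k := by
      intro k hk
      apply orderOf_dvd_of_poly_dvd
      rw [← Polynomial.map_dvd_map' ι]
      have e : (X ^ 2 - C M.trace * X + 1 : F[X]).map ι = (X ^ 2 - C (ι t) * X + 1 : L[X]) := by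
        simp [Polynomial.map_sub, Polynomial.map_add, Polynomial.map_pow, Polynomial.map_mul, ht]
      have e' : (X ^ k - 1 : F[X]).map ι = (X ^ k - 1 : L[X]) := by
        simp
      rw [e, e', hfac]
      apply hcop.mul_dvd
      · rw [Polynomial.dvd_iff_isRoot]
        simp [hk]
      · rw [Polynomial.dvd_iff_isRoot]
        simp [hk]
    rcases mul_eq_zero.mp hroot with h | h
    · left
      apply key
      have hq : lam ^ Fintype.card F = lam := sub_eq_zero.mp h
      have hpos : 0 < Fintype.card F := Fintype.card_pos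
      have : lam ^ (Fintype.card F - 1) * lam = 1 * lam := by
        rw [← pow_succ, Nat.sub_add_cancel hpos, hq, one_mul]
      exact mul_right_cancel₀ hlam0 this
    · right
      apply key
      have hq : lam ^ Fintype.card F = lam⁻¹ := sub_eq_zero.mp h
      rw [pow_succ, hq, inv_mul_cancel₀ hlam0]

end Cfsg.Agent.S0800
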