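import Mathlib
import Cfsg.Statements.S0801
import Cfsg.Agent.Lib.Helper14.A5PresCard
import Cfsg.Agent.Lib.Helper14.PSL2Borel
import Cfsg.Agent.Lib.Helper14.PSL2Arith
import Cfsg.Agent.Lib.Helper14.PSL2MaxGroup
import Cfsg.Agent.Lib.Helper14.DicksonNormalForm
import Cfsg.Agent.Lib.Helper5.PSL2Small
import Cfsg.Agent.Lib.Helper41.DicksonSmall
-- import your own Cfsg.Agent.* helpers here

set_option autoImplicit false
open Cfsg

namespace Cfsg.Agent.S0801

open Cfsg.Agent.Lib.Helper41 Cfsg.Agent.Lib.Helper14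

variable {F : Type*} [Field F]

local notation "SL2" => Matrix.SpecialLinearGroup (Fin 2) F
local notation "PSL2" => Matrix.ProjectiveSpecialLinearGroup (Fin 2) F

omit [Field F] in
theorem mat2_ext_lit {a b c d a' b' c' d' : F} (h1 : a = a') (h2 : b = b') (h3 : c = c')
    (h4 : d = d') : (!![a, b; c, d] : Matrix (Fin 2) (Fin 2) F) = !![a', b'; c', d'] := by
  rw [h1, h2, h3, h4]

theorem neg_one_lit : (-1 : Matrix (Fin 2) (Fin 2) F) = !![-1, 0; 0, -1] := by
  ext i j; fin_cases i <;> fin_cases j <;> simp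

theorem exc_w_pow_five (lam : F) (hl : lam ^ 2 = -1) (h3 : (3 : F) = 0) :
    (!![1 - lam, 2 * lam - lam ^ 2; -1, 1 - lam] : Matrix (Fin 2) (Fin 2) F) ^ 5 = -1 := by
  have hl' : lam ^ 2 + 1 = 0 := by rw [hl]; ring
  simp only [pow_succ, pow_zero, one_mul, Matrix.mul_fin_two]
  rw [neg_one_lit]
  apply mat2_ext_lit
  · linear_combination ((20) + (-124)*lam + (80)*lam^2 + (-16)*lam^3) * hl' + ((-6) + (33)*lam) * h3
  · linear_combination ((111) + (112)*lam + (-196)*lam^2 + (96)*lam^3 + (-16)*lam^4) * hl' + ((-37) + (-34)*lam) * h3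
  · linear_combination ((-68) + (64)*lam + (-16)*lam^2) * hl' + ((21) + (-8)*lam) * h3
  · linear_combination ((20) + (-124)*lam + (80)*lam^2 + (-16)*lam^3) * hl' + ((-6) + (33)*lam) * h3

theorem exc_Lw_sq (lam : F) (hl : lam ^ 2 = -1) (h3 : (3 : F) = 0) :
    ((!![1, 0; 1, 1] : Matrix (Fin 2) (Fin 2) F) *
      !![1 - lam, 2 * lam - lam ^ 2; -1, 1 - lam]) ^ 2 = -1 := by
  have hl' : lam ^ 2 + 1 = 0 := by rw [hl]; ring
  simp only [pow_succ, pow_zero, one_mul, Matrix.mul_fin_two]
  rw [neg_one_lit]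
  apply mat2_ext_lit
  · linear_combination ((-1) + (1)*lam) * hl' + ((1) + (-1)*lam) * h3
  · linear_combination ((-3) + (-2)*lam + (1)*lam^2) * hl' + ((1) + (2)*lam) * h3
  · linear_combination ((1)*lam) * hl' + ((-1)*lam) * h3
  · linear_combination ((-4) + (-1)*lam + (1)*lam^2) * hl' + ((2) + (1)*lam) * h3

theorem exc_rel (lam : F) (hl : lam ^ 2 = -1) (h3 : (3 : F) = 0) :
    (!![1, 0; -1, 1] : Matrix (Fin 2) (Fin 2) F) *
      !![1 - lam, 2 * lam - lam ^ 2; -1, 1 - lam] *
      !![1 - lam, 2 * lam - lam ^ 2; -1, 1 - lam] * !![1, 0; -1, 1] = !![-1, -lam; 0, -1] := by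
  have hl' : lam ^ 2 + 1 = 0 := by rw [hl]; ring
  simp only [Matrix.mul_fin_two]
  apply mat2_ext_lit
  · linear_combination ((8) + (-2)*lam) * hl' + ((-2) + (-2)*lam) * h3
  · linear_combination ((-6) + (2)*lam) * hl' + ((2) + (1)*lam) * h3
  · linear_combination ((-10) + (2)*lam) * hl' + ((2) + (4)*lam) * h3
  · linear_combination ((8) + (-2)*lam) * hl' + ((-2) + (-2)*lam) * h3

theorem lowerU_mul_lowerU (a b : F) : lowerU a * lowerU b = lowerU (a + b) := by
  apply sl2_ext
  · rw [mul_apply_00]; simp [coe_lowerU]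
  · rw [mul_apply_01]; simp [coe_lowerU]
  · rw [mul_apply_10]; simp [coe_lowerU]
  · rw [mul_apply_11]; simp [coe_lowerU]

theorem lowerU_zero_eq : lowerU (0 : F) = 1 := by
  apply sl2_ext <;> simp [coe_lowerU]

theorem lowerU_neg_one : (lowerU (-1 : F)) = (lowerU (1 : F))⁻¹ := by
  apply eq_inv_of_mul_eq_one_left
  rw [lowerU_mul_lowerU, neg_add_cancel, lowerU_zero_eq]

/-- the element `w = U L⁻¹ U` -/
theorem coe_exc_w (lam : F) :
    ((upperU lam * (lowerU 1)⁻¹ * upperU lam : SL2) : Matrix (Fin 2) (Fin 2) F) =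
      !![1 - lam, 2 * lam - lam ^ 2; -1, 1 - lam] := by
  rw [← lowerU_neg_one, Matrix.SpecialLinearGroup.coe_mul, Matrix.SpecialLinearGroup.coe_mul,
    coe_upperU, coe_lowerU]
  simp only [Matrix.mul_fin_two]
  apply mat2_ext_lit <;> ring

/-- **The exceptional case of Dickson's generation theorem**: for `|F| = 9` (char 3) and
`λ² = -1` the two transvections generate a group of order `120`. -/
theorem card_closure_exceptional [Finite F] (h3 : (3 : F) = 0) (lam : F) (hl : lam ^ 2 = -1) :
    Nat.card (Subgroup.closure ({lowerU 1, upperU lam} : Set SL2)) = 120 := by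
  classical
  have hfin : Finite SL2 := finite_SL2
  have h2 : (2 : F) ≠ 0 := by
    intro h
    have : (1 : F) = 0 := by linear_combination h3 - h
    exact one_ne_zero this
  set H : Subgroup SL2 := Subgroup.closure ({lowerU 1, upperU lam} : Set SL2) with hH
  have hL : lowerU (1 : F) ∈ H := Subgroup.subset_closure (by simp)
  have hU : upperU lam ∈ H := Subgroup.subset_closure (by simp)
  set w : SL2 := upperU lam * (lowerU 1)⁻¹ * upperU lam with hw
  have hwH : w ∈ H := H.mul_mem (H.mul_mem hU (H.inv_mem hL)) hU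
  have hwcoe := coe_exc_w lam
  rw [← hw] at hwcoe
  -- the center is in `H`
  have hZ : Subgroup.center SL2 ≤ H := by
    intro z hz
    rcases (mem_center_iff_pm z).mp hz with h | h
    · have : z = 1 := Subtype.ext h
      rw [this]; exact H.one_mem
    · have : z = w ^ 5 := by
        apply Subtype.ext
        rw [h, Matrix.SpecialLinearGroup.coe_pow, hwcoe, exc_w_pow_five lam hl h3]
      rw [this]; exact H.pow_mem hwH 5
  -- the (3,5,2)-pair
  set a : PSL2 := QuotientGroup.mk (lowerU (1 : F)) with ha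
  set b : PSL2 := QuotientGroup.mk w with hb
  have ha3 : a ^ 3 = 1 := by
    rw [ha, mk_pow_eq_one_iff]
    left
    have : (lowerU (1 : F)) ^ 3 = 1 := by
      rw [pow_succ, pow_succ, pow_one, lowerU_mul_lowerU, lowerU_mul_lowerU]
      have : (1 : F) + 1 + 1 = 0 := by linear_combination h3
      rw [this, lowerU_zero_eq]
    rw [← Matrix.SpecialLinearGroup.coe_pow, this]; rfl
  have hb5 : b ^ 5 = 1 := by
    rw [hb, mk_pow_eq_one_iff]
    right
    rw [hwcoe, exc_w_pow_five lam hl h3]
  have hab2 : (a * b) ^ 2 = 1 := by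
    rw [ha, hb, ← QuotientGroup.mk_mul, mk_pow_eq_one_iff]
    right
    rw [Matrix.SpecialLinearGroup.coe_mul, hwcoe, coe_lowerU, exc_Lw_sq lam hl h3]
  have ha1 : a ≠ 1 := by
    rw [ha]
    intro h
    rcases (mk_eq_one_iff _).mp h with h | h
    · have := congrFun (congrFun h 1) 0
      simp [coe_lowerU] at this
    · have := congrFun (congrFun h 1) 0
      simp [coe_lowerU] at this
  have h60 := card_closure_pair_of_a5_pres a b ha3 hb5 hab2 ha1
  -- the image of `H`
  have hmap : H.map (QuotientGroup.mk' (Subgroup.center SL2)) =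
      Subgroup.closure ({a, b} : Set PSL2) := by
    rw [hH, MonoidHom.map_closure, Set.image_pair]
    apply le_antisymm
    · rw [Subgroup.closure_le]
      rintro x (rfl | rfl)
      · exact Subgroup.subset_closure (by simp [ha])
      · -- `prj U = a⁻¹ b b a⁻¹`
        have hrel : (QuotientGroup.mk' (Subgroup.center SL2)) (upperU lam) =
            a⁻¹ * b * b * a⁻¹ := by
          rw [ha, hb]
          show (QuotientGroup.mk (upperU lam) : PSL2) = _
          rw [← QuotientGroup.mk_inv, ← QuotientGroup.mk_mul, ← QuotientGroup.mk_mul,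
            ← QuotientGroup.mk_mul, mk_eq_mk_iff]
          right
          rw [← lowerU_neg_one, Matrix.SpecialLinearGroup.coe_mul,
            Matrix.SpecialLinearGroup.coe_mul, Matrix.SpecialLinearGroup.coe_mul, hwcoe,
            coe_lowerU, coe_upperU, exc_rel lam hl h3]
          ext i j; fin_cases i <;> fin_cases j <;> simp
        rw [SetLike.mem_coe, hrel]
        have haC : a ∈ Subgroup.closure ({a, b} : Set PSL2) := Subgroup.subset_closure (by simp)
        have hbC : b ∈ Subgroup.closure ({a, b} : Set PSL2) := Subgroup.subset_closure (by simp)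
        exact Subgroup.mul_mem _ (Subgroup.mul_mem _ (Subgroup.mul_mem _
          (Subgroup.inv_mem _ haC) hbC) hbC) (Subgroup.inv_mem _ haC)
    · rw [Subgroup.closure_le]
      rintro x (rfl | rfl)
      · exact Subgroup.subset_closure (by simp [ha])
      · have hbeq : b = (QuotientGroup.mk' (Subgroup.center SL2)) (upperU lam) *
            ((QuotientGroup.mk' (Subgroup.center SL2)) (lowerU 1))⁻¹ *
            (QuotientGroup.mk' (Subgroup.center SL2)) (upperU lam) := by
          rw [hb, hw]; rfl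
        rw [SetLike.mem_coe, hbeq]
        have h1 : (QuotientGroup.mk' (Subgroup.center SL2)) (lowerU (1 : F)) ∈ Subgroup.closure
            ({(QuotientGroup.mk' (Subgroup.center SL2)) (lowerU 1),
              (QuotientGroup.mk' (Subgroup.center SL2)) (upperU lam)} : Set PSL2) :=
          Subgroup.subset_closure (by simp)
        have h2 : (QuotientGroup.mk' (Subgroup.center SL2)) (upperU lam) ∈ Subgroup.closure
            ({(QuotientGroup.mk' (Subgroup.center SL2)) (lowerU 1),
              (QuotientGroup.mk' (Subgroup.center SL2)) (upperU lam)} : Set PSL2) :=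
          Subgroup.subset_closure (by simp)
        exact Subgroup.mul_mem _ (Subgroup.mul_mem _ h2 (Subgroup.inv_mem _ h1)) h2
  have hcard := card_map_mk_mul (Subgroup.center SL2) H hZ
  rw [hmap, h60, Cfsg.Agent.Lib.Helper5.card_center_SL2_of_two_ne_zero h2] at hcard
  omega

/-! ### powers of `g_μ = L U_μ` -/

theorem coe_gmu (mu : F) :
    ((lowerU 1 * upperU mu : SL2) : Matrix (Fin 2) (Fin 2) F) = !![1, mu; 1, 1 + mu] := by
  rw [Matrix.SpecialLinearGroup.coe_mul, coe_upperU, coe_lowerU]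
  simp only [Matrix.mul_fin_two]
  apply mat2_ext_lit <;> ring

omit [Field F] in
theorem lit_apply_10 (a b c d : F) : (!![a, b; c, d] : Matrix (Fin 2) (Fin 2) F) 1 0 = c := by
  simp

theorem neg_one_apply_10 : (-1 : Matrix (Fin 2) (Fin 2) F) 1 0 = 0 := by simp

theorem one_apply_10 : (1 : Matrix (Fin 2) (Fin 2) F) 1 0 = 0 := by simp

/-- if `prj g ^ n = 1` then the `(1,0)` entry of `g ^ n` vanishes -/
theorem pow_apply_10_of_prj_pow {g : SL2} {n : ℕ}
    (h : (QuotientGroup.mk g : PSL2) ^ n = 1) :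
    ((g : Matrix (Fin 2) (Fin 2) F) ^ n) 1 0 = 0 := by
  rcases (mk_pow_eq_one_iff g n).mp h with h | h
  · rw [h, one_apply_10]
  · rw [h, neg_one_apply_10]

theorem gmu_sq (mu : F) (h : (QuotientGroup.mk (lowerU 1 * upperU mu) : PSL2) ^ 2 = 1) :
    2 + mu = 0 := by
  have h1 := pow_apply_10_of_prj_pow h
  rw [coe_gmu] at h1
  simp only [pow_succ, pow_zero, one_mul, Matrix.mul_fin_two, lit_apply_10] at h1
  linear_combination h1

theorem gmu_cube (mu : F) (h : (QuotientGroup.mk (lowerU 1 * upperU mu) : PSL2) ^ 3 = 1) :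
    (2 + mu) ^ 2 - 1 = 0 := by
  have h1 := pow_apply_10_of_prj_pow h
  rw [coe_gmu] at h1
  simp only [pow_succ, pow_zero, one_mul, Matrix.mul_fin_two, lit_apply_10] at h1
  linear_combination h1

theorem gmu_four (mu : F) (h : (QuotientGroup.mk (lowerU 1 * upperU mu) : PSL2) ^ 4 = 1) :
    (2 + mu) * ((2 + mu) ^ 2 - 2) = 0 := by
  have h1 := pow_apply_10_of_prj_pow h
  rw [coe_gmu] at h1
  simp only [pow_succ, pow_zero, one_mul, Matrix.mul_fin_two, lit_apply_10] at h1
  linear_combination h1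

theorem gmu_five (mu : F) (h : (QuotientGroup.mk (lowerU 1 * upperU mu) : PSL2) ^ 5 = 1) :
    (2 + mu) ^ 4 - 3 * (2 + mu) ^ 2 + 1 = 0 := by
  have h1 := pow_apply_10_of_prj_pow h
  rw [coe_gmu] at h1
  simp only [pow_succ, pow_zero, one_mul, Matrix.mul_fin_two, lit_apply_10] at h1
  linear_combination h1

/-! ### field lemmas -/

/-- if `λ` lies in the prime field and generates `F`, then `|F| = p` -/
theorem card_eq_char_of_mem_bot [Fintype F] (p : ℕ) [Fact p.Prime] [CharP F p] (lam : F)
    (hgen : Subfield.closure ({lam} : Set F) = ⊤) (hbot : lam ∈ (⊥ : Subfield F)) :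
    Fintype.card F = p := by
  have h1 : (⊤ : Subfield F) ≤ ⊥ := by
    rw [← hgen, Subfield.closure_le]
    intro x hx
    rw [Set.mem_singleton_iff] at hx
    rw [hx]; exact hbot
  have h2 : (⊥ : Subfield F) = ⊤ := le_antisymm bot_le h1
  have h3 := Subfield.card_bot F p
  rw [h2] at h3
  rw [← h3, ← Nat.card_eq_fintype_card]
  exact (Nat.card_congr (Subfield.topEquiv (K := F)).toEquiv).symm

instance fact_zmod3 : Fact (∀ r : ZMod 3, r ^ 2 ≠ -1 + 0 * r) := ⟨by decide⟩

/-- characteristic `3`, `λ² = -1` and `λ` generates `F`: then `|F| = 9` -/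
theorem card_eq_nine [Fintype F] [CharP F 3] (lam : F) (hl : lam ^ 2 = -1)
    (hgen : Subfield.closure ({lam} : Set F) = ⊤) : Fintype.card F = 9 := by
  let _ : Algebra (ZMod 3) F := ZMod.algebra F 3
  have hrel : lam * lam = (-1 : ZMod 3) • (1 : F) + (0 : ZMod 3) • lam := by
    rw [zero_smul, add_zero, neg_smul, one_smul, ← pow_two, hl]
  let φ : QuadraticAlgebra (ZMod 3) (-1) 0 →ₐ[ZMod 3] F := QuadraticAlgebra.lift ⟨lam, hrel⟩
  have hφ : φ QuadraticAlgebra.omega = lam := by
    show (QuadraticAlgebra.omega : QuadraticAlgebra (ZMod 3) (-1) 0).re • (1 : F) +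
      (QuadraticAlgebra.omega : QuadraticAlgebra (ZMod 3) (-1) 0).im • lam = lam
    simp
  have hinj : Function.Injective φ := φ.toRingHom.injective
  have hsurj : Function.Surjective φ := by
    have h1 : (⊤ : Subfield F) ≤ φ.toRingHom.fieldRange := by
      rw [← hgen, Subfield.closure_le]
      intro x hx
      rw [Set.mem_singleton_iff] at hx
      rw [hx]
      exact ⟨QuadraticAlgebra.omega, hφ⟩
    intro x
    obtain ⟨y, hy⟩ := h1 (Subfield.mem_top x)
    exact ⟨y, hy⟩
  have hcard : Nat.card F = Nat.card (QuadraticAlgebra (ZMod 3) (-1) 0) :=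
    (Nat.card_congr (Equiv.ofBijective φ ⟨hinj, hsurj⟩)).symm
  rw [← Nat.card_eq_fintype_card, hcard, card_quadraticAlgebra, ZMod.card]
  norm_num

/-! ### from `H Z = SL₂` to `H = SL₂` -/

theorem eq_top_of_upper_lower (H : Subgroup SL2) (hu : ∀ t : F, upperU t ∈ H)
    (hl : ∀ t : F, lowerU t ∈ H) : H = ⊤ := by
  rw [eq_top_iff]
  intro s _
  have := map_mem_of_upper_lower (RingHom.id F) H hu hl s
  have hs : Matrix.SpecialLinearGroup.map (RingHom.id F) s = s := by
    apply Subtype.ext
    ext i j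
    simp
  rwa [hs] at this

theorem mul_self_eq_of_prj_eq {h u : SL2}
    (hp : (QuotientGroup.mk h : PSL2) = QuotientGroup.mk u) : h * h = u * u := by
  apply Subtype.ext
  rw [Matrix.SpecialLinearGroup.coe_mul, Matrix.SpecialLinearGroup.coe_mul]
  rcases (mk_eq_mk_iff h u).mp hp with h1 | h1
  · rw [h1]
  · rw [h1, neg_mul_neg]

theorem eq_top_of_comap_map_eq_top (h2 : (2 : F) ≠ 0) (H : Subgroup SL2)
    (htop : (H.map (QuotientGroup.mk' (Subgroup.center SL2))).comap
      (QuotientGroup.mk' (Subgroup.center SL2)) = ⊤) : H = ⊤ := by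
  have key : ∀ u : SL2, u * u ∈ H := by
    intro u
    have hu : u ∈ (H.map (QuotientGroup.mk' (Subgroup.center SL2))).comap
        (QuotientGroup.mk' (Subgroup.center SL2)) := by rw [htop]; trivial
    obtain ⟨h, hhH, hh⟩ := hu
    have := mul_self_eq_of_prj_eq (h := h) (u := u) hh
    rw [← this]; exact H.mul_mem hhH hhH
  apply eq_top_of_upper_lower
  · intro t
    have := key (upperU (t / 2))
    rw [← Cfsg.Agent.Lib.Helper41.upperU_add] at this
    have ht : t / 2 + t / 2 = t := by field_simp; ring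
    rwa [ht] at this
  · intro t
    have := key (lowerU (t / 2))
    rw [lowerU_mul_lowerU] at this
    have ht : t / 2 + t / 2 = t := by field_simp; ring
    rwa [ht] at this

/-! ### the generic case -/

theorem conj_upperU_neg_one_lowerU :
    ((upperU (-1 : F) * lowerU 1 * (upperU (-1 : F))⁻¹ : SL2) : Matrix (Fin 2) (Fin 2) F) =
      !![0, -1; 1, 2] := by
  have hinv : (upperU (-1 : F))⁻¹ = upperU 1 := by
    rw [Cfsg.Agent.Lib.Helper41.upperU_neg, inv_inv]
  rw [hinv, Matrix.SpecialLinearGroup.coe_mul, Matrix.SpecialLinearGroup.coe_mul, coe_upperU,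
    coe_upperU, coe_lowerU]
  simp only [Matrix.mul_fin_two]
  apply mat2_ext_lit <;> ring

theorem conj_upperU_neg_one_upperU (lam : F) :
    upperU (-1 : F) * upperU lam * (upperU (-1 : F))⁻¹ = upperU lam := by
  have hinv : (upperU (-1 : F))⁻¹ = upperU 1 := by
    rw [Cfsg.Agent.Lib.Helper41.upperU_neg, inv_inv]
  rw [hinv, ← Cfsg.Agent.Lib.Helper41.upperU_add, ← Cfsg.Agent.Lib.Helper41.upperU_add]
  congr 1
  ring

theorem diagAut_upperU (c : Fˣ) (t : F) : diagAut c (upperU t) = upperU ((c : F) * t) := by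
  rw [diagAut_apply]
  apply Subtype.ext
  rw [coe_diagAutFun, coe_upperU, coe_upperU]
  apply mat2_ext_lit <;> simp

theorem generic_case [Fintype F] (p : ℕ) [Fact p.Prime] [CharP F p] (h2 : (2 : F) ≠ 0) (lam : F)
    (hgen : Subfield.closure ({lam} : Set F) = ⊤)
    (Ht : Subgroup SL2) (hZ : Subgroup.center SL2 ≤ Ht) (hL : lowerU 1 ∈ Ht)
    (hU : upperU lam ∈ Ht) (hq : 4 ≤ Nat.card (uSet Ht)) : Ht = ⊤ := by
  have hc10 : ((lowerU (1 : F) : SL2) : Matrix (Fin 2) (Fin 2) F) 1 0 ≠ 0 := by
    simp [coe_lowerU]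
  obtain ⟨K, c, a, hw, haK, hUK, hlK⟩ := generic_normal_form p Ht hZ hq hL hc10
  have hg1 : upperU (-(((lowerU (1 : F) : SL2) : Matrix (Fin 2) (Fin 2) F) 0 0 /
      ((lowerU (1 : F) : SL2) : Matrix (Fin 2) (Fin 2) F) 1 0)) = upperU (-1 : F) := by
    congr 1
    simp [coe_lowerU]
  rw [hg1] at hw hUK hlK
  set H₂ : Subgroup SL2 := normalize Ht (upperU (-1 : F)) c with hH₂
  have hcc : (c : F) * ((c⁻¹ : Fˣ) : F) = 1 := by
    rw [← Units.val_mul, mul_inv_cancel, Units.val_one]
  -- `c λ ∈ K`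
  have he1 : diagAut c (upperU (-1 : F) * upperU lam * (upperU (-1 : F))⁻¹) ∈ H₂ :=
    mem_normalize_of_mem Ht _ c hU
  rw [conj_upperU_neg_one_upperU, diagAut_upperU] at he1
  have hclam : (c : F) * lam ∈ K := (hUK _).mp he1
  -- `c ∈ K`
  have he2 : diagAut c (upperU (-1 : F) * lowerU 1 * (upperU (-1 : F))⁻¹) ∈ H₂ :=
    mem_normalize_of_mem Ht _ c hL
  set e2 : SL2 := diagAut c (upperU (-1 : F) * lowerU 1 * (upperU (-1 : F))⁻¹) with he2def
  have he2coe : (e2 : Matrix (Fin 2) (Fin 2) F) = !![0, (c : F) * (-1); ((c⁻¹ : Fˣ) : F) * 1, 2] := by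
    rw [he2def, diagAut_apply, coe_diagAutFun, conj_upperU_neg_one_lowerU]
    apply mat2_ext_lit <;> simp
  have hl10 : ((e2⁻¹ : SL2) : Matrix (Fin 2) (Fin 2) F) 1 0 = -((c⁻¹ : Fˣ) : F) := by
    rw [inv_apply_10, he2coe]; simp
  have hl00 : ((e2⁻¹ : SL2) : Matrix (Fin 2) (Fin 2) F) 0 0 = 2 := by
    rw [inv_apply_00, he2coe]; simp
  have hcinv0 : ((c⁻¹ : Fˣ) : F) ≠ 0 := (c⁻¹).ne_zero
  obtain ⟨k, hkK, hk⟩ := hlK e2⁻¹ (H₂.inv_mem he2) (by rw [hl10]; exact neg_ne_zero.mpr hcinv0)
  rw [hl10, hl00] at hk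
  have h2K : (2 : F) ∈ K := by
    have : (2 : F) = 1 + 1 := by norm_num
    rw [this]; exact K.add_mem K.one_mem K.one_mem
  have hcK : (c : F) ∈ K := by
    have : (c : F) = (-k) * (2 : F)⁻¹ := by
      field_simp
      linear_combination (c : F) * hk - k * hcc
    rw [this]
    exact K.mul_mem (K.neg_mem hkK) (K.inv_mem h2K)
  have hlamK : lam ∈ K := by
    have : lam = (c : F)⁻¹ * ((c : F) * lam) := by
      field_simp
    rw [this]
    exact K.mul_mem (K.inv_mem hcK) hclam
  have hKtop : K = ⊤ := by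
    rw [eq_top_iff, ← hgen, Subfield.closure_le]
    intro x hx
    rw [Set.mem_singleton_iff] at hx
    rw [hx]; exact hlamK
  have hu : ∀ t : F, upperU t ∈ H₂ := fun t => (hUK t).mpr (by rw [hKtop]; trivial)
  have hl : ∀ t : F, lowerU t ∈ H₂ := by
    intro t
    have ha0 : (a : F) ≠ 0 := a.ne_zero
    have h1 := antiD_conj_upperU a (-t / (a : F) ^ 2)
    have h3 : -((a : F) ^ 2 * (-t / (a : F) ^ 2)) = t := by field_simp
    rw [h3] at h1
    rw [← h1]
    exact H₂.mul_mem (H₂.mul_mem hw (hu _)) (H₂.inv_mem hw)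
  have htop : H₂ = ⊤ := eq_top_of_upper_lower H₂ hu hl
  exact (normalize_eq_top_iff Ht _ c).mp htop

/-! ### the small case -/

set_option maxRecDepth 100000 in
theorem alt4_orders : ∀ x : alternatingGroup (Fin 4), x ^ 2 = 1 ∨ x ^ 3 = 1 := by
  decide

set_option maxRecDepth 100000 in
theorem perm4_orders : ∀ x : Equiv.Perm (Fin 4), x ^ 2 = 1 ∨ x ^ 3 = 1 ∨ x ^ 4 = 1 := by
  decide

/-- in characteristic 3: an element `L U_μ` (`μ = ±λ ≠ 0`) of projective order dividing 2 or 3
forces `λ = ±1` -/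
theorem small_of_sq_or_cube (h3 : (3 : F) = 0) {lam mu : F} (hmu0 : mu ≠ 0)
    (hmu : mu = lam ∨ mu = -lam)
    (h : (QuotientGroup.mk (lowerU 1 * upperU mu) : PSL2) ^ 2 = 1 ∨
      (QuotientGroup.mk (lowerU 1 * upperU mu) : PSL2) ^ 3 = 1) : lam = 1 ∨ lam = -1 := by
  have hmu' : mu = 1 ∨ mu = -1 := by
    rcases h with h | h
    · left
      have := gmu_sq mu h
      linear_combination this - h3
    · right
      have := gmu_cube mu h
      have h4 : (mu + 1) * mu = 0 := by linear_combination this - (mu + 1) * h3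
      rcases mul_eq_zero.mp h4 with h5 | h5
      · linear_combination h5
      · exact absurd h5 hmu0
  rcases hmu with rfl | rfl
  · exact hmu'
  · rcases hmu' with h | h
    · right; linear_combination -h
    · left; linear_combination -h

theorem small_case [Fintype F] (p : ℕ) [Fact p.Prime] [CharP F p] (h2 : (2 : F) ≠ 0) (lam : F)
    (hlam : lam ≠ 0) (hgen : Subfield.closure ({lam} : Set F) = ⊤)
    (hex : ¬ (Fintype.card F = 9 ∧ lam ^ 2 = -1))
    (Hb : Subgroup PSL2)
    (hL : lowerU 1 ∈ Hb.comap (QuotientGroup.mk' (Subgroup.center SL2)))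
    (hU : upperU lam ∈ Hb.comap (QuotientGroup.mk' (Subgroup.center SL2)))
    (hq : Nat.card (uSet (Hb.comap (QuotientGroup.mk' (Subgroup.center SL2)))) < 4) :
    Hb = ⊤ := by
  classical
  have hfinSL : Finite SL2 := finite_SL2
  -- the characteristic is 3
  have hp3 : p = 3 := by
    have hmem : lam ∈ uSet (Hb.comap (QuotientGroup.mk' (Subgroup.center SL2))) := hU
    have hord : addOrderOf (⟨lam, hmem⟩ :
        uSet (Hb.comap (QuotientGroup.mk' (Subgroup.center SL2)))) = p := by
      apply addOrderOf_eq_prime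
      · apply Subtype.ext
        simp only [AddSubgroup.coe_nsmul, AddSubgroup.coe_zero, nsmul_eq_mul]
        rw [CharP.cast_eq_zero F p, zero_mul]
      · intro h
        exact hlam (congrArg Subtype.val h)
    have hdvd : p ∣ Nat.card (uSet (Hb.comap (QuotientGroup.mk' (Subgroup.center SL2)))) := by
      rw [← hord]; exact addOrderOf_dvd_natCard _
    have hpos : 0 < Nat.card (uSet (Hb.comap (QuotientGroup.mk' (Subgroup.center SL2)))) :=
      Nat.card_pos
    have hle := Nat.le_of_dvd hpos hdvd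
    have hp2 : p ≠ 2 := by
      rintro rfl
      apply h2
      have := CharP.cast_eq_zero F 2
      exact_mod_cast this
    have := (Fact.out : p.Prime).two_le
    omega
  subst hp3
  have h3 : (3 : F) = 0 := by
    have := CharP.cast_eq_zero F 3
    exact_mod_cast this
  have hq3dvd : 3 ∣ Fintype.card F :=
    (CharP.cast_eq_zero_iff F 3 (Fintype.card F)).mp (Nat.cast_card_eq_zero F)
  have hnB : ¬ Hb.comap (QuotientGroup.mk' (Subgroup.center SL2)) ≤ borelSub F := by
    intro h
    have h1 : ((lowerU (1 : F) : SL2) : Matrix (Fin 2) (Fin 2) F) 1 0 = 0 := h hL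
    simp [coe_lowerU] at h1
  have hN := card_PSL2_mul_gcd (F := F)
  have hzc := gcd_two_cases (Fintype.card F) Fintype.card_pos
  -- `λ = ±1` forces `|G| = 12`
  have hsmall : (lam = 1 ∨ lam = -1) → Nat.card PSL2 = 12 := by
    intro h
    have hbot : lam ∈ (⊥ : Subfield F) := by
      rcases h with rfl | rfl
      · exact (⊥ : Subfield F).one_mem
      · exact (⊥ : Subfield F).neg_mem (⊥ : Subfield F).one_mem
    have hc3 := card_eq_char_of_mem_bot 3 lam hgen hbot
    rw [hc3] at hN
    have hg : Nat.gcd 2 (3 - 1) = 2 := by norm_num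
    rw [hg] at hN
    omega
  -- the elements
  have hUinv : upperU (-lam) ∈ Hb.comap (QuotientGroup.mk' (Subgroup.center SL2)) := by
    rw [Cfsg.Agent.Lib.Helper41.upperU_neg]
    exact Subgroup.inv_mem _ hU
  have hx : (QuotientGroup.mk (lowerU 1 * upperU lam) : PSL2) ∈ Hb :=
    Subgroup.mul_mem _ hL hU
  have hy : (QuotientGroup.mk (lowerU 1 * upperU (-lam)) : PSL2) ∈ Hb :=
    Subgroup.mul_mem _ hL hUinv
  have hneg0 : -lam ≠ 0 := neg_ne_zero.mpr hlam
  have hdvdG : Nat.card Hb ∣ Nat.card PSL2 := Subgroup.card_subgroup_dvd_card Hb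
  -- transport of power relations
  have transport : ∀ {X : Type} [Group X] (f : Hb ≃* X) (z : PSL2) (hz : z ∈ Hb) (n : ℕ),
      f ⟨z, hz⟩ ^ n = 1 → z ^ n = 1 := by
    intro X _ f z hz n h
    have h1 : (⟨z, hz⟩ : Hb) ^ n = 1 := by
      apply f.injective
      rw [map_pow, h, map_one]
    have := congrArg Subtype.val h1
    simpa using this
  rcases clause_ac_of_small 3 Hb hlam hU hq hnB with ⟨k, hk, hM⟩ | ⟨⟨f⟩⟩ | ⟨⟨f⟩⟩ | ⟨⟨f⟩⟩
  · -- cyclic or dihedral: impossible, 3 divides the order
    exfalso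
    have ha3 : (⟨QuotientGroup.mk (lowerU 1), hL⟩ : Hb) ^ 3 = 1 := by
      apply Subtype.ext
      simp only [Subgroup.coe_pow, Subgroup.coe_one]
      rw [← QuotientGroup.mk_pow]
      have : (lowerU (1 : F)) ^ 3 = 1 := by
        rw [pow_succ, pow_succ, pow_one, lowerU_mul_lowerU, lowerU_mul_lowerU]
        have : (1 : F) + 1 + 1 = 0 := by linear_combination h3
        rw [this, lowerU_zero_eq]
      rw [this]; rfl
    have ha1 : (⟨QuotientGroup.mk (lowerU 1), hL⟩ : Hb) ≠ 1 := by
      intro h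
      have h' : (QuotientGroup.mk (lowerU (1 : F)) : PSL2) = 1 := congrArg Subtype.val h
      rcases (mk_eq_one_iff _).mp h' with h | h
      · have := congrFun (congrFun h 1) 0
        simp [coe_lowerU] at this
      · have := congrFun (congrFun h 1) 0
        simp [coe_lowerU] at this
    have hord : orderOf (⟨QuotientGroup.mk (lowerU 1), hL⟩ : Hb) = 3 :=
      orderOf_eq_prime ha3 ha1
    have h3dvd : 3 ∣ Nat.card Hb := by rw [← hord]; exact orderOf_dvd_natCard _
    have h3k : 3 ∣ k := by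
      rcases hM with ⟨_, hcard⟩ | ⟨⟨f⟩⟩
      · rwa [hcard] at h3dvd
      · rw [Nat.card_congr f.toEquiv, DihedralGroup.nat_card] at h3dvd
        exact (Nat.Coprime.dvd_mul_left (by norm_num)).mp h3dvd
    have hzdvd1 : Nat.gcd 2 (Fintype.card F - 1) ∣ Fintype.card F + 1 := by
      rcases hzc with ⟨h, _⟩ | ⟨h, hodd⟩
      · rw [h]; exact one_dvd _
      · rw [h]; omega
    have hzdvd2 : Nat.gcd 2 (Fintype.card F - 1) ∣ Fintype.card F - 1 := Nat.gcd_dvd_right _ _
    rcases hk with hk | hk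
    · have := (h3k.trans hk).trans (Nat.div_dvd_of_dvd hzdvd1)
      omega
    · have := (h3k.trans hk).trans (Nat.div_dvd_of_dvd hzdvd2)
      have hq1 : 1 ≤ Fintype.card F := Fintype.card_pos
      omega
  · -- A4
    have hm : Nat.card Hb = 12 := by rw [Nat.card_congr f.toEquiv, card_alt4]
    have h1 := alt4_orders (f ⟨_, hx⟩)
    have h2' : (QuotientGroup.mk (lowerU 1 * upperU lam) : PSL2) ^ 2 = 1 ∨
        (QuotientGroup.mk (lowerU 1 * upperU lam) : PSL2) ^ 3 = 1 := by
      rcases h1 with h | h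
      · exact Or.inl (transport f _ hx 2 h)
      · exact Or.inr (transport f _ hx 3 h)
    have h12 := hsmall (small_of_sq_or_cube h3 hlam (Or.inl rfl) h2')
    exact (Subgroup.card_eq_iff_eq_top Hb).mp (by rw [hm, h12])
  · -- S4
    exfalso
    have hm : Nat.card Hb = 24 := by rw [Nat.card_congr f.toEquiv, card_perm4]
    have hno : ¬ (lam = 1 ∨ lam = -1) := by
      intro h
      have h12 := hsmall h
      rw [hm, h12] at hdvdG
      omega
    have hx4 : (2 + lam) * ((2 + lam) ^ 2 - 2) = 0 := by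
      rcases perm4_orders (f ⟨_, hx⟩) with h | h | h
      · exact absurd (small_of_sq_or_cube h3 hlam (Or.inl rfl)
          (Or.inl (transport f _ hx 2 h))) hno
      · exact absurd (small_of_sq_or_cube h3 hlam (Or.inl rfl)
          (Or.inr (transport f _ hx 3 h))) hno
      · exact gmu_four lam (transport f _ hx 4 h)
    have hy4 : (2 + -lam) * ((2 + -lam) ^ 2 - 2) = 0 := by
      rcases perm4_orders (f ⟨_, hy⟩) with h | h | h
      · exact absurd (small_of_sq_or_cube h3 hneg0 (Or.inr rfl)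
          (Or.inl (transport f _ hy 2 h))) hno
      · exact absurd (small_of_sq_or_cube h3 hneg0 (Or.inr rfl)
          (Or.inr (transport f _ hy 3 h))) hno
      · exact gmu_four (-lam) (transport f _ hy 4 h)
    have hx4' : (2 + lam) ^ 2 - 2 = 0 := by
      rcases mul_eq_zero.mp hx4 with h | h
      · exfalso; apply hno; left; linear_combination h - h3
      · exact h
    have hy4' : (2 + -lam) ^ 2 - 2 = 0 := by
      rcases mul_eq_zero.mp hy4 with h | h
      · exfalso; apply hno; right; linear_combination -h + h3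
      · exact h
    apply hlam
    linear_combination -(hx4' - hy4') + 3 * lam * h3
  · -- A5
    exfalso
    have hm : Nat.card Hb = 60 := by rw [Nat.card_congr f.toEquiv, card_alt5]
    have hno : ¬ (lam = 1 ∨ lam = -1) := by
      intro h
      have h12 := hsmall h
      rw [hm, h12] at hdvdG
      omega
    have hx5 : (2 + lam) ^ 4 - 3 * (2 + lam) ^ 2 + 1 = 0 := by
      rcases alt5_orders (f ⟨_, hx⟩) with h | h | h
      · exact absurd (small_of_sq_or_cube h3 hlam (Or.inl rfl)
          (Or.inl (transport f _ hx 2 h))) hno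
      · exact absurd (small_of_sq_or_cube h3 hlam (Or.inl rfl)
          (Or.inr (transport f _ hx 3 h))) hno
      · exact gmu_five lam (transport f _ hx 5 h)
    have hy5 : (2 + -lam) ^ 4 - 3 * (2 + -lam) ^ 2 + 1 = 0 := by
      rcases alt5_orders (f ⟨_, hy⟩) with h | h | h
      · exact absurd (small_of_sq_or_cube h3 hneg0 (Or.inr rfl)
          (Or.inl (transport f _ hy 2 h))) hno
      · exact absurd (small_of_sq_or_cube h3 hneg0 (Or.inr rfl)
          (Or.inr (transport f _ hy 3 h))) hno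
      · exact gmu_five (-lam) (transport f _ hy 5 h)
    have hkey : lam * (lam ^ 2 + 1) = 0 := by
      linear_combination (hx5 - hy5) - (5 * lam ^ 3 + 13 * lam) * h3
    have hl : lam ^ 2 = -1 := by
      rcases mul_eq_zero.mp hkey with h | h
      · exact absurd h hlam
      · linear_combination h
    exact hex ⟨card_eq_nine lam hl hgen, hl⟩

/-! ### assembly -/

theorem genSet_eq (lam : F) :
    {g : SL2 | (g : Matrix (Fin 2) (Fin 2) F) = !![1, 0; 1, 1] ∨
      (g : Matrix (Fin 2) (Fin 2) F) = !![1, lam; 0, 1]} = {lowerU 1, upperU lam} := by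
  ext g
  simp only [Set.mem_ofPred_eq, Set.mem_insert_iff, Set.mem_singleton_iff]
  constructor
  · rintro (h | h)
    · left; exact Subtype.ext h
    · right; exact Subtype.ext h
  · rintro (rfl | rfl)
    · left; rfl
    · right; rfl

theorem main_generic [Fintype F] (h2 : (2 : F) ≠ 0) (lam : F) (hlam : lam ≠ 0)
    (hgen : Subfield.closure ({lam} : Set F) = ⊤)
    (hex : ¬ (Fintype.card F = 9 ∧ lam ^ 2 = -1)) :
    Subgroup.closure ({lowerU 1, upperU lam} : Set SL2) = ⊤ := by
  obtain ⟨p, hp⟩ := CharP.exists F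
  obtain ⟨n, hpp, -⟩ := FiniteField.card F p
  have : Fact p.Prime := ⟨hpp⟩
  set H : Subgroup SL2 := Subgroup.closure ({lowerU 1, upperU lam} : Set SL2) with hH
  have hLH : lowerU (1 : F) ∈ H := Subgroup.subset_closure (by simp)
  have hUH : upperU lam ∈ H := Subgroup.subset_closure (by simp)
  set Hb : Subgroup PSL2 := H.map (QuotientGroup.mk' (Subgroup.center SL2)) with hHb
  have hZ : Subgroup.center SL2 ≤ Hb.comap (QuotientGroup.mk' (Subgroup.center SL2)) := by
    intro z hz
    show (QuotientGroup.mk z : PSL2) ∈ Hb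
    rw [(QuotientGroup.eq_one_iff z).mpr hz]; exact Hb.one_mem
  have hL : lowerU (1 : F) ∈ Hb.comap (QuotientGroup.mk' (Subgroup.center SL2)) :=
    ⟨lowerU 1, hLH, rfl⟩
  have hU : upperU lam ∈ Hb.comap (QuotientGroup.mk' (Subgroup.center SL2)) :=
    ⟨upperU lam, hUH, rfl⟩
  apply eq_top_of_comap_map_eq_top h2 H
  by_cases hq : 4 ≤ Nat.card (uSet (Hb.comap (QuotientGroup.mk' (Subgroup.center SL2))))
  · exact generic_case p h2 lam hgen _ hZ hL hU hq
  · have hb := small_case p h2 lam hlam hgen hex Hb hL hU (not_le.mp hq)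
    rw [← hHb, hb]; exact Subgroup.comap_top _


/-- Let F be a finite field of odd characteristic and λ ≠ 0 an element generating F as a field. Then the lower and upper unitriangular matrices with off-diagonal entries 1 and λ generate SL_2(F), unless |F| = 9 and λ² = −1, in which case they generate a subgroup of order 120. -/
theorem result {F : Type*} [Field F] [Fintype F] (h2 : (2 : F) ≠ 0) (lam : F) (hlam : lam ≠ 0) (hgen : Subfield.closure ({lam} : Set F) = ⊤) : (Subgroup.closure {g : Matrix.SpecialLinearGroup (Fin 2) F | (g : Matrix (Fin 2) (Fin 2) F) = !![1, 0; 1, 1] ∨ (g : Matrix (Fin 2) (Fin 2) F) = !![1, lam; 0, 1]} = ⊤ ∧ ¬ (Fintype.card F = 9 ∧ lam ^ 2 = -1)) ∨ (Fintype.card F = 9 ∧ lam ^ 2 = -1 ∧ Nat.card ↥(Subgroup.closure {g : Matrix.SpecialLinearGroup (Fin 2) F | (g : Matrix (Fin 2) (Fin 2) F) = !![1, 0; 1, 1] ∨ (g : Matrix (Fin 2) (Fin 2) F) = !![1, lam; 0, 1]}) = 120) := by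
  by_cases hex : Fintype.card F = 9 ∧ lam ^ 2 = -1
  · right
    refine ⟨hex.1, hex.2, ?_⟩
    rw [genSet_eq]
    have h3 : (3 : F) = 0 := by
      have h9 : ((Fintype.card F : ℕ) : F) = 0 := Nat.cast_card_eq_zero F
      rw [hex.1] at h9
      have h33 : (3 : F) * 3 = 0 := by
        have : ((9 : ℕ) : F) = 3 * 3 := by norm_num
        rw [← this]; exact h9
      exact mul_self_eq_zero.mp h33
    exact card_closure_exceptional h3 lam hex.2
  · left
    refine ⟨?_, hex⟩
    rw [genSet_eq]
    exact main_generic h2 lam hlam hgen hex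

end Cfsg.Agent.S0801
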