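import Mathlib
import Cfsg.Statements.S0806
import Cfsg.Agent.S0799
import Cfsg.Agent.Lib.Helper14.PSL2MaxMain
import Cfsg.Agent.Lib.Helper14.PSL2Dihedral
-- import your own Cfsg.Agent.* helpers here

set_option autoImplicit false
open Cfsg

namespace Cfsg.Agent.S0806

open Cfsg.Agent.Lib.Helper14 Cfsg.Agent.Lib.Helper41


/-- Minimal index (Galois): if q ∉ {2, 3, 5, 7, 9, 11} then every proper subgroup of PSL_2(q) has index ≥ q + 1, and some subgroup has index exactly q + 1. -/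
theorem result {F : Type*} [Field F] [Fintype F] {q : ℕ} (hF : Fintype.card F = q) (hq : q ∉ ({2, 3, 5, 7, 9, 11} : Finset ℕ)) : (∀ H : Subgroup (Matrix.ProjectiveSpecialLinearGroup (Fin 2) F), H ≠ ⊤ → q + 1 ≤ H.index) ∧ ∃ H : Subgroup (Matrix.ProjectiveSpecialLinearGroup (Fin 2) F), H.index = q + 1 := by
  subst hF
  obtain ⟨p, hp⟩ := CharP.exists F
  obtain ⟨n, hpp, -⟩ := FiniteField.card F p
  have : Fact p.Prime := ⟨hpp⟩
  have hD : ∀ M : Subgroup (Matrix.ProjectiveSpecialLinearGroup (Fin 2) F),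
      DicksonConcl (Fintype.card F) p M := fun M => Cfsg.Agent.S0799.result rfl p M
  have hq' : Fintype.card F ≠ 2 ∧ Fintype.card F ≠ 3 ∧ Fintype.card F ≠ 5 ∧ Fintype.card F ≠ 7 ∧
      Fintype.card F ≠ 9 ∧ Fintype.card F ≠ 11 := by
    simpa using hq
  exact min_index_PSL2 p hD hq'

end Cfsg.Agent.S0806
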