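import Cfsg.Statements.S0809
import Mathlib
import Cfsg.Agent.Lib.Helper41.SL2Basic
import Cfsg.Agent.Lib.Helper41.SL2Nonsplit
import Cfsg.Agent.Lib.Helper41.SL2SylowTwo
import Cfsg.Agent.Lib.Helper41.SL2SylowTwoTori
import Cfsg.Agent.Lib.Helper41.DicyclicSylow
import Cfsg.Agent.Lib.Helper41.DicyclicOrderFour

set_option autoImplicit false
open Cfsg

namespace Cfsg.Agent.S0809

open Cfsg.Agent.Lib.Helper41

theorem two_ne_zero_of_odd_card {F : Type*} [Field F] [Fintype F] (hodd : Odd (Fintype.card F)) :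
    (2 : F) ≠ 0 := by
  intro h
  have h' : ((2 : ℕ) : F) = 0 := by exact_mod_cast h
  have hchar : ringChar F = 2 := CharP.ringChar_of_prime_eq_zero Nat.prime_two h'
  have := FiniteField.even_card_of_char_two hchar
  rw [Nat.odd_iff] at hodd
  omega

/-- the common part, for any dicyclic torus of `SL₂(F)` -/
theorem main {F : Type*} [Field F] [Fintype F] (h2 : (2 : F) ≠ 0)
    {T : Subgroup (Matrix.SpecialLinearGroup (Fin 2) F)}
    (hD : DicyclicTorus T (negOne : Matrix.SpecialLinearGroup (Fin 2) F))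
    (A : Subgroup (Matrix.SpecialLinearGroup (Fin 2) F)) (hA : Nat.card A = 4) :
    (∀ B : Subgroup (Matrix.SpecialLinearGroup (Fin 2) F), Nat.card B = 4 →
      ∃ g : Matrix.SpecialLinearGroup (Fin 2) F, B = A.map (MulAut.conj g).toMonoidHom) ∧
    Nat.card ↥(Subgroup.normalizer (A : Set (Matrix.SpecialLinearGroup (Fin 2) F)))
      = 2 * Nat.card T ∧
    (∀ x y : Matrix.ProjectiveSpecialLinearGroup (Fin 2) F, orderOf x = 2 → orderOf y = 2 →
      IsConj x y) := by
  obtain ⟨x, hx, hAx⟩ := hD.exists_zpowers_of_card_four A hA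
  refine ⟨?_, ?_, ?_⟩
  · intro B hB
    obtain ⟨y, hy, hBy⟩ := hD.exists_zpowers_of_card_four B hB
    obtain ⟨g, hg⟩ := hD.conj4 x y hx hy
    refine ⟨g, ?_⟩
    rw [hAx, hBy, MonoidHom.map_zpowers]
    congr 1
    rw [← hg]
    rfl
  · rw [hAx]
    exact hD.card_normalizer_zpowers hx
  · intro x' y' hx' hy'
    have key : ∀ w : Matrix.ProjectiveSpecialLinearGroup (Fin 2) F, orderOf w = 2 →
        ∃ W : Matrix.SpecialLinearGroup (Fin 2) F, QuotientGroup.mk W = w ∧ W * W = negOne := by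
      intro w hw
      obtain ⟨W, rfl⟩ := QuotientGroup.mk_surjective w
      refine ⟨W, rfl, ?_⟩
      have h1 : (QuotientGroup.mk W : Matrix.ProjectiveSpecialLinearGroup (Fin 2) F) ^ 2 = 1 := by
        have := pow_orderOf_eq_one
          (QuotientGroup.mk W : Matrix.ProjectiveSpecialLinearGroup (Fin 2) F)
        rwa [hw] at this
      have hne : (QuotientGroup.mk W : Matrix.ProjectiveSpecialLinearGroup (Fin 2) F) ≠ 1 := by
        intro h'
        rw [h', orderOf_one] at hw
        omega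
      rw [← QuotientGroup.mk_pow, mk_eq_one_iff, pow_two] at h1
      rw [Ne, mk_eq_one_iff] at hne
      rcases h1 with h1 | h1
      · exfalso
        have : W * W = 1 := Subtype.ext h1
        rcases hD.invol W this with h3 | h3
        · exact hne (Or.inl (by rw [h3]; rfl))
        · exact hne (Or.inr (by rw [h3]; exact coe_negOne))
      · exact eq_negOne_of_coe h1
    obtain ⟨X, rfl, hX⟩ := key x' hx'
    obtain ⟨Y, rfl, hY⟩ := key y' hy'
    obtain ⟨g, hg⟩ := hD.conj4 X Y hX hY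
    rw [isConj_iff]
    refine ⟨QuotientGroup.mk g, ?_⟩
    rw [← QuotientGroup.mk_inv, ← QuotientGroup.mk_mul, ← QuotientGroup.mk_mul, hg]

/-- In SL_2(q), q odd: any two subgroups of order 4 are conjugate, and the normaliser of a subgroup of order 4 has order 2(q − 1) if q ≡ 1 (mod 4) and 2(q + 1) if q ≡ 3 (mod 4); consequently all involutions of PSL_2(q) are conjugate. -/
theorem result {F : Type*} [Field F] [Fintype F] {q : ℕ} (hF : Fintype.card F = q) (hodd : Odd q) (A : Subgroup (Matrix.SpecialLinearGroup (Fin 2) F)) (hA : Nat.card A = 4) : (∀ B : Subgroup (Matrix.SpecialLinearGroup (Fin 2) F), Nat.card B = 4 → ∃ g : Matrix.SpecialLinearGroup (Fin 2) F, B = A.map (MulAut.conj g).toMonoidHom) ∧ (q % 4 = 1 → Nat.card ↥(Subgroup.normalizer (A : Set (Matrix.SpecialLinearGroup (Fin 2) F))) = 2 * (q - 1)) ∧ (q % 4 = 3 → Nat.card ↥(Subgroup.normalizer (A : Set (Matrix.SpecialLinearGroup (Fin 2) F))) = 2 * (q + 1)) ∧ (∀ x y : Matrix.ProjectiveSpecialLinearGroup (Fin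 2) F, orderOf x = 2 → orderOf y = 2 → IsConj x y) := by
  subst hF
  have h2 : (2 : F) ≠ 0 := two_ne_zero_of_odd_card hodd
  have hq1 : 1 ≤ Fintype.card F := Fintype.card_pos
  rw [Nat.odd_iff] at hodd
  by_cases hq : Fintype.card F % 4 = 1
  · have hD := dicyclicTorus_diagSub h2 hq
    obtain ⟨p1, p2, p3⟩ := main h2 hD A hA
    rw [card_diagSub] at p2
    refine ⟨p1, fun _ => p2, fun h3 => ?_, p3⟩
    omega
  · have hq3 : Fintype.card F % 4 = 3 := by omega
    obtain ⟨t, ht⟩ := exists_nonsplit_trace (F := F)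
    have hD := dicyclicTorus_nsTorus h2 hq3 ht
    obtain ⟨p1, p2, p3⟩ := main h2 hD A hA
    rw [card_nsTorus ht] at p2
    refine ⟨p1, fun h1 => ?_, fun _ => p2, p3⟩
    omega

end Cfsg.Agent.S0809
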