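import Cfsg.Statements.S0810
import Mathlib
import Cfsg.Agent.Lib.Helper42.PSL2Solv
import Cfsg.Agent.S0804
import Cfsg.Agent.Lib.Helper41.SubfieldPSL

set_option autoImplicit false
open Cfsg

namespace Cfsg.Agent.S0810


open Cfsg.Agent.Lib.Helper42 Cfsg.Agent.Lib.Helper41

section Arith

theorem pow_eq_prime_pow {l r k m : ℕ} (hl : l.Prime) (hr : r = 1 ∨ r.Prime) (h : k ^ m = l ^ r) :
    k = l ^ r ∨ k = l := by
  have hr0 : r ≠ 0 := by
    rcases hr with h | h
    · omega
    · exact h.ne_zero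
  have hlr : 2 ≤ l ^ r := by
    calc 2 ≤ l := hl.two_le
      _ = l ^ 1 := (pow_one l).symm
      _ ≤ l ^ r := Nat.pow_le_pow_right hl.pos (by omega)
  have hm0 : m ≠ 0 := by
    rintro rfl
    rw [pow_zero] at h
    omega
  have hk : k ∣ l ^ r := by
    rw [← h]; exact dvd_pow_self k hm0
  obtain ⟨j, hj, rfl⟩ := (Nat.dvd_prime_pow hl).mp hk
  rw [← pow_mul] at h
  have hjm : j * m = r := Nat.pow_right_injective hl.two_le h
  have hjr : j ∣ r := Dvd.intro _ hjm
  rcases hr with hr1 | hrp
  · subst hr1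
    have : j = 1 := Nat.dvd_one.mp hjr
    subst this
    left; rfl
  · rcases (Nat.dvd_prime hrp).mp hjr with h1 | h1
    · right; rw [h1, pow_one]
    · left; rw [h1]

theorem five_dvd_of_sq_mod {k : ℕ} (h : k ^ 2 % 5 = 1) : 5 ∣ k * (k ^ 2 - 1) := by
  have h1 : 1 ≤ k ^ 2 := by
    rcases Nat.eq_zero_or_pos (k ^ 2) with h0 | h0
    · rw [h0] at h; omega
    · exact h0
  have h3 : (k ^ 2 - 1) % 5 = 0 := by omega
  exact Dvd.dvd.mul_left (Nat.dvd_of_mod_eq_zero h3) k

theorem not_five_dvd_of_sq_mod {k : ℕ} (hk : ¬ 5 ∣ k) (h : k ^ 2 % 5 = 4) :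
    ¬ 5 ∣ k * (k ^ 2 - 1) := by
  intro hd
  rcases (Nat.Prime.dvd_mul (by norm_num)).mp hd with h1 | h1
  · exact hk h1
  · have h1' : 1 ≤ k ^ 2 := by
      rcases Nat.eq_zero_or_pos (k ^ 2) with h0 | h0
      · rw [h0] at h; omega
      · exact h0
    rw [Nat.dvd_iff_mod_eq_zero] at h1
    omega

theorem pow_sq_mod_five_of_odd (b r : ℕ) (hb : b ^ 2 % 5 = 4) (hr : r % 2 = 1) :
    (b ^ r) ^ 2 % 5 = 4 := by
  obtain ⟨j, rfl⟩ : ∃ j, r = 2 * j + 1 := ⟨r / 2, by omega⟩
  have e : (b ^ (2 * j + 1)) ^ 2 = (b ^ 2) ^ (2 * j) * b ^ 2 := by ring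
  have h16 : ((b ^ 2) ^ 2) ^ j % 5 = 1 := by
    rw [Nat.pow_mod, Nat.pow_mod (b ^ 2), hb]
    norm_num
  rw [e, pow_mul, Nat.mul_mod, h16, hb]

theorem not_five_dvd_pow {b r : ℕ} (hb : b = 2 ∨ b = 3) : ¬ 5 ∣ b ^ r := by
  intro h
  have := Nat.Prime.dvd_of_dvd_pow (by norm_num : Nat.Prime 5) h
  rcases hb with rfl | rfl <;> omega

end Arith

variable {F : Type*} [Field F] [Fintype F]

theorem card_PSL2_ge : Fintype.card F * (Fintype.card F ^ 2 - 1)
    ≤ 2 * Nat.card (Matrix.ProjectiveSpecialLinearGroup (Fin 2) F) := by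
  have hG := natCard_PSL2_mul (F := F)
  have hg : Nat.gcd 2 (Fintype.card F - 1) ≤ 2 := Nat.le_of_dvd (by norm_num) (Nat.gcd_dvd_left _ _)
  have h3 : Nat.card (Matrix.ProjectiveSpecialLinearGroup (Fin 2) F) *
      Nat.gcd 2 (Fintype.card F - 1) ≤ Nat.card (Matrix.ProjectiveSpecialLinearGroup (Fin 2) F) * 2 :=
    Nat.mul_le_mul_left _ hg
  omega

theorem card_PSL2_le : Nat.card (Matrix.ProjectiveSpecialLinearGroup (Fin 2) F)
    ≤ Fintype.card F * (Fintype.card F ^ 2 - 1) := by
  have hG := natCard_PSL2_mul (F := F)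
  rw [← hG]
  exact Nat.le_mul_of_pos_right _ (gcd_two_pos _)

/-- the sufficient conditions for minimal simplicity -/
theorem minimal_of_conditions (p : ℕ) [Fact p.Prime] [CharP F p] (h4 : 4 ≤ Fintype.card F)
    (hA5 : 5 ∣ Fintype.card F * (Fintype.card F ^ 2 - 1) →
      Nat.card (Matrix.ProjectiveSpecialLinearGroup (Fin 2) F) ≤ 60)
    (hq : ∀ k m : ℕ, k ^ m = Fintype.card F → k ≠ Fintype.card F → k ≤ 3) :
    Cfsg.IsMinimalSimple (Matrix.ProjectiveSpecialLinearGroup (Fin 2) F) := by
  refine ⟨Matrix.ProjectiveSpecialLinearGroup.rank_two_simple (by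
      rw [Nat.card_eq_fintype_card]; exact h4), not_isMulCommutative_PSL2 h4, fun H hH => ?_⟩
  apply isSolvable_of_ne_top p H hH ?_ hq
  rintro ⟨e⟩
  have h5 := (Cfsg.Agent.S0804.result (F := F) rfl).mp ⟨H, ⟨e⟩⟩
  apply hH
  apply Subgroup.eq_top_of_le_card
  rw [Nat.card_congr e.toEquiv, natCard_alt_five]
  exact hA5 h5

theorem minimal_two_pow (r : ℕ) (hr : r.Prime) (hF : Fintype.card F = 2 ^ r) :
    Cfsg.IsMinimalSimple (Matrix.ProjectiveSpecialLinearGroup (Fin 2) F) := by
  have : Fact (Nat.Prime 2) := ⟨Nat.prime_two⟩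
  have : CharP F 2 := charP_of_card_eq_prime_pow hF
  have h4 : 4 ≤ Fintype.card F := by
    rw [hF]
    calc 4 = 2 ^ 2 := by norm_num
      _ ≤ 2 ^ r := Nat.pow_le_pow_right (by norm_num) hr.two_le
  apply minimal_of_conditions 2 h4
  · intro h5
    rcases hr.eq_two_or_odd with h2 | hodd
    · subst h2
      have hG := natCard_PSL2_mul (F := F)
      rw [hF] at hG
      norm_num at hG
      omega
    · exfalso
      rw [hF] at h5
      revert h5
      apply not_five_dvd_of_sq_mod (not_five_dvd_pow (Or.inl rfl))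
      exact pow_sq_mod_five_of_odd 2 r (by norm_num) hodd
  · intro k m hkm hk
    rw [hF] at hkm hk
    rcases pow_eq_prime_pow Nat.prime_two (Or.inr hr) hkm with h | h
    · exact absurd h hk
    · omega

theorem minimal_three_pow (r : ℕ) (hr : r.Prime) (hr2 : r ≠ 2) (hF : Fintype.card F = 3 ^ r) :
    Cfsg.IsMinimalSimple (Matrix.ProjectiveSpecialLinearGroup (Fin 2) F) := by
  have : Fact (Nat.Prime 3) := ⟨Nat.prime_three⟩
  have : CharP F 3 := charP_of_card_eq_prime_pow hF
  have h4 : 4 ≤ Fintype.card F := by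
    rw [hF]
    calc 4 ≤ 3 ^ 2 := by norm_num
      _ ≤ 3 ^ r := Nat.pow_le_pow_right (by norm_num) hr.two_le
  apply minimal_of_conditions 3 h4
  · intro h5
    rcases hr.eq_two_or_odd with h2 | hodd
    · exact absurd h2 hr2
    · exfalso
      rw [hF] at h5
      revert h5
      apply not_five_dvd_of_sq_mod (not_five_dvd_pow (Or.inr rfl))
      exact pow_sq_mod_five_of_odd 3 r (by norm_num) hodd
  · intro k m hkm hk
    rw [hF] at hkm hk
    rcases pow_eq_prime_pow Nat.prime_three (Or.inr hr) hkm with h | h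
    · exact absurd h hk
    · omega

theorem minimal_prime (q : ℕ) (hq : q.Prime) (h5 : 5 ≤ q)
    (hmod : q = 5 ∨ q % 5 = 2 ∨ q % 5 = 3) (hF : Fintype.card F = q) :
    Cfsg.IsMinimalSimple (Matrix.ProjectiveSpecialLinearGroup (Fin 2) F) := by
  have : Fact q.Prime := ⟨hq⟩
  have : CharP F q := charP_of_card_eq_prime hF
  have h4 : 4 ≤ Fintype.card F := by rw [hF]; omega
  apply minimal_of_conditions q h4
  · intro hd
    rcases hmod with h | h
    · subst h
      have hG := natCard_PSL2_mul (F := F)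
      rw [hF] at hG
      norm_num at hG
      omega
    · exfalso
      rw [hF] at hd
      revert hd
      apply not_five_dvd_of_sq_mod
      · rw [Nat.dvd_iff_mod_eq_zero]; omega
      · rw [Nat.pow_mod]
        rcases h with h | h <;> rw [h]
  · intro k m hkm hk
    rw [hF] at hkm hk
    rw [← pow_one q] at hkm
    rcases pow_eq_prime_pow hq (Or.inl rfl) hkm with h | h
    · rw [pow_one] at h; exact absurd h hk
    · exact absurd h hk

/-! ### the converse -/

section Converse

variable (hmin : Cfsg.IsMinimalSimple (Matrix.ProjectiveSpecialLinearGroup (Fin 2) F))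
include hmin

theorem four_le_card : 4 ≤ Fintype.card F := by
  by_contra hlt
  obtain ⟨hsimple, hnc, -⟩ := hmin
  have hs := (isSolvable_PSL2_PGL2_small (K := F) (by omega)).1
  apply hnc
  exact ⟨⟨IsSimpleGroup.comm_iff_isSolvable.mpr hs⟩⟩

theorem no_A5 (h5 : 5 ∣ Fintype.card F * (Fintype.card F ^ 2 - 1))
    (hbig : 60 < Nat.card (Matrix.ProjectiveSpecialLinearGroup (Fin 2) F)) : False := by
  obtain ⟨-, -, hsolv⟩ := hmin
  obtain ⟨H, ⟨e⟩⟩ := (Cfsg.Agent.S0804.result (F := F) rfl).mpr h5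
  have hH : H ≠ ⊤ := by
    intro h
    have hc : Nat.card H = 60 := by rw [Nat.card_congr e.toEquiv, natCard_alt_five]
    rw [h, Subgroup.card_top] at hc
    omega
  have := hsolv H hH
  apply not_isSolvable_alt_five
  exact Group.isSolvable_of_isSolvable_injective (f := e.symm.toMonoidHom) e.symm.injective

theorem no_subfield (p n a : ℕ) [Fact p.Prime] (hF : Fintype.card F = p ^ n) (han : a ∣ n)
    (hlt : a < n) (h4 : 4 ≤ p ^ a) : False := by
  have hpp : p.Prime := Fact.out
  obtain ⟨-, -, hsolv⟩ := hmin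
  have ha0 : a ≠ 0 := by
    rintro rfl
    rw [pow_zero] at h4
    omega
  let K := GaloisField p a
  let _ : Fintype K := Fintype.ofFinite K
  have hK : Fintype.card K = p ^ a := by
    rw [← Nat.card_eq_fintype_card]
    exact GaloisField.card p a ha0
  obtain ⟨m, rfl⟩ := han
  have hm2 : 2 ≤ m := by
    by_contra hm
    have : m = 0 ∨ m = 1 := by omega
    rcases this with rfl | rfl <;> omega
  have hKm : Fintype.card K ^ m = Fintype.card F := by
    rw [hK, hF, pow_mul]
  obtain ⟨φ⟩ := exists_ringHom_of_card_pow m (by omega) hKm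
  obtain ⟨H, ⟨e⟩⟩ := exists_subgroup_psl_of_ringHom φ
  have hH : H ≠ ⊤ := by
    intro h
    have hc : Nat.card H = Nat.card (Matrix.ProjectiveSpecialLinearGroup (Fin 2) K) :=
      Nat.card_congr e.toEquiv
    rw [h, Subgroup.card_top] at hc
    have h1 := card_PSL2_ge (F := F)
    have h2 := card_PSL2_le (F := K)
    rw [← hc] at h2
    set k := Fintype.card K with hk
    set q := Fintype.card F with hq
    have hk4 : 4 ≤ k := by rw [hK]; exact h4
    have hqk : k ^ 2 ≤ q := by
      rw [← hKm]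
      exact Nat.pow_le_pow_right (by omega) hm2
    have hk1 : 1 ≤ k ^ 2 := Nat.one_le_pow _ _ (by omega)
    have hq1 : 1 ≤ q ^ 2 := Nat.one_le_pow _ _ (by nlinarith)
    have e1 : 2 * k ≤ q := by nlinarith
    have e2 : k ^ 2 - 1 < q ^ 2 - 1 := by
      have : k < q := by nlinarith
      have : k ^ 2 < q ^ 2 := Nat.pow_lt_pow_left this (by norm_num)
      omega
    have e3 : 2 * k * (k ^ 2 - 1) < q * (q ^ 2 - 1) := by
      calc 2 * k * (k ^ 2 - 1) < 2 * k * (q ^ 2 - 1) :=
            Nat.mul_lt_mul_of_pos_left e2 (by omega)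
        _ ≤ q * (q ^ 2 - 1) := Nat.mul_le_mul_right _ e1
    nlinarith
  have := hsolv H hH
  apply not_isSolvable_PSL2 (F := K) (by rw [hK]; exact h4)
  exact Group.isSolvable_of_isSolvable_injective (f := e.symm.toMonoidHom) e.symm.injective

end Converse


/-- PSL_2(q) is minimal simple iff q is 2^r (r prime), 3^r (r an odd prime), a prime greater than 5 congruent to 2 or 3 mod 5, or 5. -/
theorem result {F : Type*} [Field F] [Fintype F] {q : ℕ} (hF : Fintype.card F = q) : Cfsg.IsMinimalSimple (Matrix.ProjectiveSpecialLinearGroup (Fin 2) F) ↔ ((∃ r : ℕ, r.Prime ∧ q = 2 ^ r) ∨ (∃ r : ℕ, r.Prime ∧ r ≠ 2 ∧ q = 3 ^ r) ∨ (q.Prime ∧ 5 < q ∧ (q % 5 = 2 ∨ q % 5 = 3)) ∨ q = 5) := by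
  subst hF
  constructor
  · intro hmin
    obtain ⟨p, _, n, hpp, hq⟩ := FiniteField.card' F
    have : Fact p.Prime := ⟨hpp⟩
    have h4 := four_le_card hmin
    have hG := card_PSL2_ge (F := F)
    have hn0 : (n : ℕ) ≠ 0 := n.pos.ne'
    by_cases hn1 : (n : ℕ) = 1
    · rw [hn1, pow_one] at hq
      have hp5 : 5 ≤ p := by
        rw [hq] at h4
        by_contra hlt
        have : p = 4 := by omega
        rw [this] at hpp
        exact absurd hpp (by norm_num)
      by_cases h5 : p = 5
      · right; right; right; rw [hq, h5]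
      · have hnd : ¬ 5 ∣ p := by
          intro hd
          rcases (Nat.dvd_prime hpp).mp hd with h | h
          · omega
          · exact h5 h.symm
        rw [Nat.dvd_iff_mod_eq_zero] at hnd
        by_cases hmod : p % 5 = 2 ∨ p % 5 = 3
        · right; right; left
          rw [hq]
          exact ⟨hpp, by omega, hmod⟩
        · exfalso
          have hmod' : p % 5 = 1 ∨ p % 5 = 4 := by omega
          apply no_A5 hmin
          · rw [hq]
            apply five_dvd_of_sq_mod
            rw [Nat.pow_mod]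
            rcases hmod' with h | h <;> rw [h]
          · rw [hq] at hG
            have hp7 : 7 ≤ p := by
              by_contra hlt
              have : p = 6 := by omega
              rw [this] at hpp
              exact absurd hpp (by norm_num)
            have h1 : 48 ≤ p ^ 2 - 1 := by
              have : 49 ≤ p ^ 2 := by nlinarith
              omega
            have h2 : 7 * 48 ≤ p * (p ^ 2 - 1) := Nat.mul_le_mul hp7 h1
            omega
    · have hn2 : 2 ≤ (n : ℕ) := by omega
      have hp3 : p ≤ 3 := by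
        by_contra hlt
        exact no_subfield hmin p n 1 hq (one_dvd _) (by omega) (by rw [pow_one]; omega)
      have hnprime : (n : ℕ).Prime := by
        by_contra hnp
        obtain ⟨a, ha1, ha2, ha3⟩ := Nat.exists_dvd_of_not_prime2 hn2 hnp
        apply no_subfield hmin p n a hq ha1 ha3
        calc 4 = 2 ^ 2 := by norm_num
          _ ≤ p ^ 2 := Nat.pow_le_pow_left hpp.two_le 2
          _ ≤ p ^ a := Nat.pow_le_pow_right hpp.pos ha2
      have hp23 : p = 2 ∨ p = 3 := by have := hpp.two_le; omega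
      rcases hp23 with rfl | rfl
      · left; exact ⟨n, hnprime, hq⟩
      · by_cases hn2' : (n : ℕ) = 2
        · exfalso
          rw [hn2'] at hq
          norm_num at hq
          apply no_A5 hmin
          · rw [hq]; norm_num
          · rw [hq] at hG
            norm_num at hG
            omega
        · right; left; exact ⟨n, hnprime, hn2', hq⟩
  · rintro (⟨r, hr, hq⟩ | ⟨r, hr, hr2, hq⟩ | ⟨hq, h5, hmod⟩ | hq)
    · exact minimal_two_pow r hr hq
    · exact minimal_three_pow r hr hr2 hq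
    · exact minimal_prime _ hq (by omega) (Or.inr hmod) rfl
    · exact minimal_prime 5 (by norm_num) (by norm_num) (Or.inl rfl) hq


end Cfsg.Agent.S0810
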