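import Mathlib
import Cfsg.Statements.S0811
import Cfsg.Agent.S0799
import Cfsg.Agent.Lib.Helper14.PSL2MaxMain
import Cfsg.Agent.Lib.Helper14.PSL2Dihedral
-- import your own Cfsg.Agent.* helpers here

set_option autoImplicit false
open Cfsg

namespace Cfsg.Agent.S0811

open Cfsg.Agent.Lib.Helper14 Cfsg.Agent.Lib.Helper41


/-- For q ∉ {2, 7, 9}, PSL_2(q) has a maximal subgroup isomorphic to the dihedral group of order 2(q + 1)/d, d = gcd(2, q − 1). -/
theorem result {F : Type*} [Field F] [Fintype F] {q : ℕ} (hF : Fintype.card F = q) (hq : q ∉ ({2, 7, 9} : Finset ℕ)) : ∃ H : Subgroup (Matrix.ProjectiveSpecialLinearGroup (Fin 2) F), IsCoatom H ∧ Nonempty (H ≃* DihedralGroup ((q + 1) / Nat.gcd 2 (q - 1))) := by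
  subst hF
  obtain ⟨p, hp⟩ := CharP.exists F
  obtain ⟨n, hpp, -⟩ := FiniteField.card F p
  have : Fact p.Prime := ⟨hpp⟩
  have hD : ∀ M : Subgroup (Matrix.ProjectiveSpecialLinearGroup (Fin 2) F),
      DicksonConcl (Fintype.card F) p M := fun M => Cfsg.Agent.S0799.result rfl p M
  have hq' : Fintype.card F ≠ 2 ∧ Fintype.card F ≠ 7 ∧ Fintype.card F ≠ 9 := by
    simpa using hq
  obtain ⟨t, ht⟩ := exists_nonsplit_trace (F := F)
  obtain ⟨e⟩ := nsDih_dihedral ht
  have hc : Nat.card (nsTorusBar t) * Nat.gcd 2 (Fintype.card F - 1) = Fintype.card F + 1 := by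
    rw [← card_center_SL2_eq_gcd]; exact card_nsTorusBar_mul ht
  have hzpos : 0 < Nat.gcd 2 (Fintype.card F - 1) := Nat.gcd_pos_of_pos_left _ (by norm_num)
  have hdiv : (Fintype.card F + 1) / Nat.gcd 2 (Fintype.card F - 1) = Nat.card (nsTorusBar t) :=
    Nat.div_eq_of_eq_mul_left hzpos hc.symm
  refine ⟨nsDih t, isCoatom_dihedral_plus p hD hq' (nsDih t) _ hc e, ?_⟩
  rw [hdiv]
  exact ⟨e⟩

end Cfsg.Agent.S0811
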