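import Cfsg.Statements.S2600
import Cfsg.Agent.Lib.Helper45.Sp4.Out

-- import your own Cfsg.Agent.* helpers here

set_option autoImplicit false
open Cfsg

namespace Cfsg.Agent.S2600



/-- Outer automorphism group of PSp_4(q) for q = 2^f even: it is cyclic of order 2f, generated by the class of the exceptional (graph-field) automorphism whose square is the Frobenius field automorphism. -/
theorem result {F : Type*} [Field F] [Fintype F] {f : ℕ} (hf : 1 ≤ f) (hF : Fintype.card F = 2 ^ f) : IsCyclic (Cfsg.Out (Cfsg.PSp 2 F)) ∧ Nat.card (Cfsg.Out (Cfsg.PSp 2 F)) = 2 * f := by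

  have : Fact (Nat.Prime 2) := ⟨Nat.prime_two⟩
  have hchar : CharP F 2 := Cfsg.Agent.Lib.Helper43.charP_of_card' hf hF
  set ψ : Cfsg.Out (Cfsg.PSp 2 F) :=
    QuotientGroup.mk (Cfsg.Agent.Lib.Helper45.Sp4.PsiP : MulAut (Cfsg.PSp 2 F)) with hψ
  have hgen : ∀ x : Cfsg.Out (Cfsg.PSp 2 F), x ∈ Subgroup.zpowers ψ :=
    Cfsg.Agent.Lib.Helper45.Sp4.mk_out_mem_zpowers
  refine ⟨isCyclic_iff_exists_zpowers_eq_top.2 ⟨ψ, (Subgroup.eq_top_iff' _).2 hgen⟩, ?_⟩
  rw [← orderOf_eq_card_of_forall_mem_zpowers hgen]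
  apply Nat.dvd_antisymm
  · apply orderOf_dvd_of_pow_eq_one
    rw [hψ, ← QuotientGroup.mk_pow, QuotientGroup.eq_one_iff]
    exact (Cfsg.Agent.Lib.Helper45.Sp4.PsiP_pow_mem_inn_iff hf hF _).2 (dvd_refl _)
  · apply (Cfsg.Agent.Lib.Helper45.Sp4.PsiP_pow_mem_inn_iff hf hF _).1
    rw [← QuotientGroup.eq_one_iff, QuotientGroup.mk_pow]
    exact pow_orderOf_eq_one ψ

end Cfsg.Agent.S2600
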