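import Cfsg.Statements.S0814
import Cfsg.Agent.S2600
import Cfsg.Agent.S2693
import Cfsg.Agent.Lib.Helper45.Sp4.AutCard

-- import your own Cfsg.Agent.* helpers here

set_option autoImplicit false
open Cfsg

namespace Cfsg.Agent.S0814



/-- |Aut(PSp_2m(q))| = gcd(2, q−1) · f · |PSp_2m(q)| for q = p^f, m ≥ 2, (m, q) ≠ (2, 2), with an extra factor 2 exactly when m = 2 and p = 2. -/
theorem result {F : Type*} [Field F] [Fintype F] (p f : ℕ) [Fact p.Prime] (hf : 1 ≤ f) (hF : Fintype.card F = p ^ f) (m : ℕ) (hm : 2 ≤ m) (h22 : m = 2 → 3 ≤ p ^ f) : Nat.card (MulAut (Cfsg.PSp m F)) = (if m = 2 ∧ p = 2 then 2 else 1) * Nat.gcd 2 (p ^ f - 1) * f * Nat.card (Cfsg.PSp m F) := by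

  have hchar : CharP F p := Cfsg.Agent.Lib.Helper43.charP_of_card' hf hF
  have hm1 : 1 ≤ m := by omega
  by_cases h : m = 2 ∧ p = 2
  · obtain ⟨rfl, rfl⟩ := h
    rw [if_pos ⟨rfl, rfl⟩]
    have hout : Nat.card (MulAut (Cfsg.PSp 2 F) ⧸ Cfsg.Inn (Cfsg.PSp 2 F)) = 2 * f :=
      (Cfsg.Agent.S2600.result hf hF).2
    have h1 : Nat.card (MulAut (Cfsg.PSp 2 F)) =
        Nat.card (MulAut (Cfsg.PSp 2 F) ⧸ Cfsg.Inn (Cfsg.PSp 2 F)) *
          Nat.card (Cfsg.Inn (Cfsg.PSp 2 F)) :=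
      Subgroup.card_eq_card_quotient_mul_card_subgroup _
    have hg : Nat.gcd 2 (2 ^ f - 1) = 1 := by
      rw [← Nat.coprime_iff_gcd_eq_one, Nat.coprime_two_left]
      exact Nat.Even.sub_odd (Nat.one_le_two_pow) (Nat.even_pow.2 ⟨even_two, by omega⟩) odd_one
    rw [h1, hout, Cfsg.Agent.Lib.Helper45.Sp4.card_inn_psp hm1, hg, mul_one]
  · rw [if_neg h]
    have h4 : m = 2 → p ≠ 2 := fun h2 hp => h ⟨h2, hp⟩
    have htop : Cfsg.gammaPSp m F = ⊤ := Cfsg.Agent.S2693.result hm h4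
    have hstd : Cfsg.Agent.Lib.Helper43.stdAutPSp m F = ⊤ := by
      rw [Subgroup.eq_top_iff']
      intro β
      exact Cfsg.Agent.Lib.Helper43.exists_std_of_gammaPSp_eq_top htop β
    have h1 : Nat.card (MulAut (Cfsg.PSp m F)) =
        Nat.card (Cfsg.Agent.Lib.Helper43.stdAutPSp m F) := by
      rw [hstd]
      exact (Nat.card_congr Subgroup.topEquiv.toEquiv).symm
    rw [h1, Cfsg.Agent.Lib.Helper45.Sp4.card_stdAutPSp' hf hF hm1]
    ring

end Cfsg.Agent.S0814
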