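import Cfsg.Statements.S0815
import Cfsg.Agent.S2691
import Cfsg.Agent.Lib.Helper13.PSUAutCard
import Cfsg.Agent.Lib.Helper43.PSUAutKer

set_option autoImplicit false
open Cfsg

namespace Cfsg.Agent.S0815

/-- |Aut(PSU_n(q))| = gcd(n, q+1) · 2f · |PSU_n(q)| for q = p^f, n ≥ 3, (n, q) ≠ (3, 2); the form is realised over F with |F| = q². -/
theorem result {F : Type*} [Field F] [Fintype F] (p f : ℕ) [Fact p.Prime] (hf : 1 ≤ f) {q : ℕ} (hq : q = p ^ f) (hF : Fintype.card F = q ^ 2) (n : ℕ) (hn : 3 ≤ n) (h32 : ¬ (n = 3 ∧ q = 2)) : Nat.card (MulAut (Cfsg.PSU n F q)) = Nat.gcd n (q + 1) * (2 * f) * Nat.card (Cfsg.PSU n F q) := by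
  have hn1 : 1 ≤ n := by omega
  have htop : Cfsg.gammaPSU n F q = ⊤ := Cfsg.Agent.S2691.result hq hf hF hn h32
  apply Cfsg.Agent.Lib.Helper13.card_mulAut_psu_of hf hq hF hn1
  · exact Cfsg.Agent.Lib.Helper43.exists_std_of_gammaPSU_eq_top htop
  · intro g σ h
    have h1 : (Cfsg.Agent.Lib.Helper43.psuDiag g : MulAut (Cfsg.PSU n F q)) *
        Cfsg.Agent.Lib.Helper43.psuField σ⁻¹ = 1 := by
      rw [map_inv, h, mul_inv_cancel]
    obtain ⟨hσ, c, hc⟩ :=
      Cfsg.Agent.Lib.Helper43.eq_one_of_psuDiag_mul_psuField_eq_one hF hn g σ⁻¹ h1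
    refine ⟨inv_eq_one.mp hσ, ?_⟩
    rw [Cfsg.Agent.Lib.Helper13.mem_guScalars_iff]
    have hc0 : c ≠ 0 := by
      rintro rfl
      have h2 : ((g : Matrix.GeneralLinearGroup (Fin n) F) : Matrix (Fin n) (Fin n) F) *
          (((g : Matrix.GeneralLinearGroup (Fin n) F)⁻¹ : Matrix.GeneralLinearGroup (Fin n) F) :
            Matrix (Fin n) (Fin n) F) = 1 := by
        rw [← Units.val_mul, mul_inv_cancel, Units.val_one]
      rw [hc, map_zero, Matrix.zero_mul] at h2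
      have h3 := congrFun (congrFun h2 ⟨0, by omega⟩) ⟨0, by omega⟩
      simp at h3
    refine ⟨Units.mk0 c hc0, ?_⟩
    apply Units.ext
    rw [Matrix.GeneralLinearGroup.coe_scalar, Units.val_mk0, hc]

end Cfsg.Agent.S0815
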