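import Cfsg.Statements.S0816
import Cfsg.Agent.Lib.Helper36.AutO.OddAut2
import Cfsg.Agent.S2694
-- import your own Cfsg.Agent.* helpers here

set_option autoImplicit false
open Cfsg

namespace Cfsg.Agent.S0816

/-- |Aut(PΩ_(2m+1)(q))| = 2 f · |PΩ_(2m+1)(q)| for q = p^f odd and m ≥ 3 (for the form quadFormOdd). -/
theorem result {F : Type*} [Field F] [Fintype F] (p f : ℕ) [Fact p.Prime] (hf : 1 ≤ f) (hF : Fintype.card F = p ^ f) (hodd : Odd p) (m : ℕ) (hm : 3 ≤ m) : Nat.card (MulAut (Cfsg.POmega F (Cfsg.quadFormOdd m F))) = 2 * f * Nat.card (Cfsg.POmega F (Cfsg.quadFormOdd m F)) := by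
  classical
  have hoddF : Odd (Fintype.card F) := by rw [hF]; exact hodd.pow
  have h2 : (2 : F) ≠ 0 := by
    intro h
    rw [Cfsg.Agent.Lib.Helper44.two_eq_zero_iff_even_card] at h
    rcases hoddF with ⟨k, hk⟩
    omega
  have hcard : Fintype.card (Unit ⊕ (Fin m ⊕ Fin m)) = 2 * m + 1 := by
    rw [Fintype.card_sum, Fintype.card_sum, Fintype.card_fin, Fintype.card_unit]; ring
  have htop := Cfsg.Agent.S2694.result (F := F) hoddF hm
  rw [← Cfsg.Agent.Lib.Helper44.oddQF_coe] at htop ⊢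
  exact Cfsg.Agent.Lib.Helper36.AutO.card_aut_odd (Cfsg.Agent.Lib.Helper44.oddQF m F)
    (Cfsg.Agent.Lib.Helper44.oddQF_nondeg m F h2) h2 (by rw [hcard]; omega) m hcard htop
    (Cfsg.Agent.Lib.Helper36.AutO.oddQF_pair_one m F) hf hF

end Cfsg.Agent.S0816
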