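import Cfsg.Statements.S0818
import Cfsg.Agent.Lib.Helper13.MinusAutCard
import Cfsg.Agent.Lib.Helper36.PsoInn
import Cfsg.Agent.S2696
import Cfsg.Agent.S0791

set_option autoImplicit false
open Cfsg

namespace Cfsg.Agent.S0818

theorem even_mul_pred_half_iff (q m : ℕ) (hq : q % 2 = 1) :
    Even (m * (q - 1) / 2) ↔ ¬ (Odd m ∧ q % 4 = 3) := by
  obtain ⟨k, hk⟩ : ∃ k, q = 2 * k + 1 := ⟨q / 2, by omega⟩
  have h1 : m * (q - 1) / 2 = m * k := by
    rw [hk, Nat.add_sub_cancel, show m * (2 * k) = 2 * (m * k) by ring,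
      Nat.mul_div_cancel_left _ (by norm_num : 0 < 2)]
  rw [h1, Nat.even_mul]
  have h2 : q % 4 = 3 ↔ Odd k := by
    rw [hk, Nat.odd_iff]
    omega
  rw [h2, ← Nat.not_even_iff_odd, ← Nat.not_even_iff_odd]
  tauto

/-- |Aut(PΩ⁻_2m(q))| for q = p^f, m ≥ 4 (form quadFormMinus (m−1) with anisotropic binary part): |PΩ⁻_2m(q)| times f, times 2 if p = 2, and times 4 or 8 if p is odd according as m(q−1)/2 is even or odd. -/
theorem result {F : Type*} [Field F] [Fintype F] (p f : ℕ) [Fact p.Prime] (hf : 1 ≤ f) (hF : Fintype.card F = p ^ f) (m : ℕ) (hm : 4 ≤ m) (a b : F) (hab : ∀ z₁ z₂ : F, z₁ ^ 2 + a * z₁ * z₂ + b * z₂ ^ 2 = 0 → z₁ = 0 ∧ z₂ = 0) : Nat.card (MulAut (Cfsg.POmega F (Cfsg.quadFormMinus (m - 1) F a b))) = (if p = 2 then 2 else (if Even (m * (p ^ f - 1) / 2) then 4 else 8)) * f * Nat.card (Cfsg.POmega F (Cfsg.quadFormMinus (m - 1) F a b)) := by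
  classical
  obtain ⟨k, rfl⟩ : ∃ k, m = k + 1 := ⟨m - 1, by omega⟩
  rw [Nat.add_sub_cancel]
  have hk : 3 ≤ k := by omega
  have hp := (Fact.out : p.Prime)
  have htop := Cfsg.Agent.S2696.result (F := F) hk a b hab
  have h1 := Cfsg.Agent.Lib.Helper13.card_aut_minus_eq hf hF k hk a b hab htop
  have hmul := Cfsg.Agent.Lib.Helper44.card_POmega_mul (F := F) (Cfsg.quadFormMinus k F a b)
  have hcard : Fintype.card ((Fin k ⊕ Fin k) ⊕ Fin 2) = 2 * k + 2 := by
    rw [Fintype.card_sum, Fintype.card_sum, Fintype.card_fin, Fintype.card_fin]; ring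
  have hQ := Cfsg.Agent.Lib.Helper44.minusQF_nondeg_of_aniso k a b hab
  have h7 : 7 ≤ Fintype.card ((Fin k ⊕ Fin k) ⊕ Fin 2) := by rw [hcard]; omega
  have hchar : CharP F p := Cfsg.Agent.Lib.Helper36.AutO.charP_of_card_pow hf hF
  rw [h1, ← hmul]
  rw [← Cfsg.Agent.Lib.Helper44.minusQF_coe]
  by_cases hp2 : p = 2
  · have h2 : (2 : F) = 0 := by
      have : ((p : ℕ) : F) = 0 := CharP.cast_eq_zero F p
      rw [hp2] at this
      exact_mod_cast this
    rw [Cfsg.Agent.Lib.Helper44.index_Omega_of_two_eq_zero _ hQ (by omega) h2,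
      Cfsg.Agent.Lib.Helper44.card_center_Omega_eq_one _ hQ h7 (Or.inl h2), if_pos hp2]
    ring
  · have h2 : (2 : F) ≠ 0 := by
      intro h
      have h3 : ((2 : ℕ) : F) = 0 := by exact_mod_cast h
      have := (CharP.cast_eq_zero_iff F p 2).mp h3
      exact hp2 ((Nat.prime_dvd_prime_iff_eq hp Nat.prime_two).mp this)
    have hpodd : Odd p := hp.odd_of_ne_two hp2
    have hqodd : Odd (p ^ f) := hpodd.pow
    have hq2 : p ^ f % 2 = 1 := Nat.odd_iff.mp hqodd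
    have hneg := Cfsg.Agent.S0791.result (F := F) hF hqodd (k + 1) (by omega) a b hab
    rw [Nat.add_sub_cancel, ← Cfsg.Agent.Lib.Helper44.minusQF_coe] at hneg
    rw [Cfsg.Agent.Lib.Helper44.index_Omega_of_two_ne_zero _ hQ (by omega) h2, if_neg hp2]
    have hpar := even_mul_pred_half_iff (p ^ f) (k + 1) hq2
    have h34 := Cfsg.Agent.Lib.Helper36.pow_mod_four_eq_three_iff (p ^ f) (k + 1) hq2
    by_cases h3 : (p ^ f) ^ (k + 1) % 4 = 3
    · rw [Cfsg.Agent.Lib.Helper44.card_center_Omega_eq_two _ hQ h7 h2 (hneg.mpr h3),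
        if_neg (fun he => (hpar.mp he) (h34.mp h3))]
      ring
    · rw [Cfsg.Agent.Lib.Helper44.card_center_Omega_eq_one _ hQ h7
        (Or.inr (fun hex => h3 (hneg.mp hex))),
        if_pos (hpar.mpr (fun hc => h3 (h34.mpr hc)))]
      ring

end Cfsg.Agent.S0818
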