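import Mathlib
import Cfsg.Statements.S0819

set_option autoImplicit false
set_option linter.unusedSimpArgs false
open Cfsg

namespace Cfsg.Agent.S0819
open Polynomial

section
variable {F : Type*} [Field F]

/-- the conclusion: `A ^ 3` or `A ^ 5` is a scalar matrix -/
def Concl (A : Matrix (Fin 3) (Fin 3) F) : Prop :=
  (∃ c : F, A ^ 3 = c • (1 : Matrix (Fin 3) (Fin 3) F)) ∨
    (∃ c : F, A ^ 5 = c • (1 : Matrix (Fin 3) (Fin 3) F))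

theorem charpoly_eq (h2 : (2 : F) = 0) (A : Matrix (Fin 3) (Fin 3) F) (hA : A.det = 1) :
    ∃ a b : F, A.charpoly = X ^ 3 + C a * X ^ 2 + C b * X + 1 := by
  refine ⟨A.charpoly.coeff 2, A.charpoly.coeff 1, ?_⟩
  have hdeg : A.charpoly.natDegree = 3 := by
    rw [Matrix.charpoly_natDegree_eq_dim]; rfl
  have hmonic : A.charpoly.Monic := Matrix.charpoly_monic A
  have h3 : A.charpoly.coeff 3 = 1 := by
    have := hmonic.coeff_natDegree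
    rwa [hdeg] at this
  have h0 : A.charpoly.coeff 0 = 1 := by
    have := Matrix.det_eq_sign_charpoly_coeff A
    rw [hA] at this
    simp at this
    linear_combination this - h2
  have := Polynomial.as_sum_range' A.charpoly 4 (by rw [hdeg]; norm_num)
  conv_lhs => rw [this]
  simp only [Finset.sum_range_succ, Finset.sum_range_zero, zero_add]
  rw [h3, h0]
  simp only [← C_mul_X_pow_eq_monomial]
  simp
  ring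

theorem transfer (A : Matrix (Fin 3) (Fin 3) F) (ζ : F)
    (h15 : A ^ 15 = ζ • (1 : Matrix (Fin 3) (Fin 3) F)) (T U V : F[X])
    (hid : T = U * (X ^ 15 - C ζ) + V * A.charpoly) : aeval A T = 0 := by
  rw [hid]
  simp [Matrix.aeval_self_charpoly, h15, Algebra.algebraMap_eq_smul_one]

theorem close1 (A : Matrix (Fin 3) (Fin 3) F) (ζ : F)
    (h15 : A ^ 15 = ζ • (1 : Matrix (Fin 3) (Fin 3) F)) (U V : F[X])
    (hid : 1 = U * (X ^ 15 - C ζ) + V * A.charpoly) : Concl A := by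
  exfalso
  have h := transfer A ζ h15 1 U V hid
  rw [map_one] at h
  exact one_ne_zero h

theorem close3 (A : Matrix (Fin 3) (Fin 3) F) (ζ : F)
    (h15 : A ^ 15 = ζ • (1 : Matrix (Fin 3) (Fin 3) F)) (U V : F[X])
    (hid : X ^ 3 - 1 = U * (X ^ 15 - C ζ) + V * A.charpoly) : Concl A := by
  have h := transfer A ζ h15 (X ^ 3 - 1) U V hid
  left
  refine ⟨1, ?_⟩
  rw [map_sub, map_pow, aeval_X, map_one, sub_eq_zero] at h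
  rw [h, one_smul]

theorem close5 (A : Matrix (Fin 3) (Fin 3) F) (ζ : F)
    (h15 : A ^ 15 = ζ • (1 : Matrix (Fin 3) (Fin 3) F)) (c : F) (U V : F[X])
    (hid : X ^ 5 - C c = U * (X ^ 15 - C ζ) + V * A.charpoly) : Concl A := by
  have h := transfer A ζ h15 (X ^ 5 - C c) U V hid
  right
  refine ⟨c, ?_⟩
  rw [map_sub, map_pow, aeval_X, aeval_C, sub_eq_zero, Algebra.algebraMap_eq_smul_one] at h
  exact h

theorem case_0_0_1 (A : Matrix (Fin 3) (Fin 3) F) (ω : F)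
    (hω' : (C ω : F[X]) ^ 2 + C ω + 1 = 0) (h2' : (2 : F[X]) = 0)
    (hχ : A.charpoly = X ^ 3 + C 0 * X ^ 2 + C 0 * X + 1)
    (h15 : A ^ 15 = (1 : F) • (1 : Matrix (Fin 3) (Fin 3) F)) : Concl A := by
  refine close3 A _ h15 (0) (1) ?_
  rw [hχ]
  try simp only [map_add, map_one, map_zero]
  linear_combination (exp := 1) (0) * hω' + ((-1)) * h2'

theorem case_0_0_2 (A : Matrix (Fin 3) (Fin 3) F) (ω : F)
    (hω' : (C ω : F[X]) ^ 2 + C ω + 1 = 0) (h2' : (2 : F[X]) = 0)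
    (hχ : A.charpoly = X ^ 3 + C 0 * X ^ 2 + C 0 * X + 1)
    (h15 : A ^ 15 = (ω : F) • (1 : Matrix (Fin 3) (Fin 3) F)) : Concl A := by
  refine close1 A _ h15 (C ω) (C ω + C ω * X ^ 3 + C ω * X ^ 6 + C ω * X ^ 9 + C ω * X ^ 12) ?_
  rw [hχ]
  try simp only [map_add, map_one, map_zero]
  linear_combination (exp := 1) ((1)) * hω' + ((-1) * C ω + (-1) * C ω * X ^ 3 + (-1) * C ω * X ^ 6 + (-1) * C ω * X ^ 9 + (-1) * C ω * X ^ 12 + (-1) * C ω * X ^ 15) * h2'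

theorem case_0_0_3 (A : Matrix (Fin 3) (Fin 3) F) (ω : F)
    (hω' : (C ω : F[X]) ^ 2 + C ω + 1 = 0) (h2' : (2 : F[X]) = 0)
    (hχ : A.charpoly = X ^ 3 + C 0 * X ^ 2 + C 0 * X + 1)
    (h15 : A ^ 15 = ((ω + 1) : F) • (1 : Matrix (Fin 3) (Fin 3) F)) : Concl A := by
  refine close1 A _ h15 ((C ω + 1)) ((C ω + 1) + (C ω + 1) * X ^ 3 + (C ω + 1) * X ^ 6 + (C ω + 1) * X ^ 9 + (C ω + 1) * X ^ 12) ?_
  rw [hχ]
  try simp only [map_add, map_one, map_zero]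
  linear_combination (exp := 1) ((1)) * hω' + ((-1) * X ^ 3 + (-1) * C ω * X ^ 3 + (-1) * X ^ 6 + (-1) * C ω * X ^ 6 + (-1) * X ^ 9 + (-1) * C ω * X ^ 9 + (-1) * X ^ 12 + (-1) * C ω * X ^ 12 + (-1) * X ^ 15 + (-1) * C ω * X ^ 15) * h2'

theorem case_0_1_1 (A : Matrix (Fin 3) (Fin 3) F) (ω : F)
    (hω' : (C ω : F[X]) ^ 2 + C ω + 1 = 0) (h2' : (2 : F[X]) = 0)
    (hχ : A.charpoly = X ^ 3 + C 0 * X ^ 2 + C 1 * X + 1)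
    (h15 : A ^ 15 = (1 : F) • (1 : Matrix (Fin 3) (Fin 3) F)) : Concl A := by
  refine close1 A _ h15 (X + X ^ 2) (1 + X ^ 2 + X ^ 5 + X ^ 6 + X ^ 7 + X ^ 9 + X ^ 12 + X ^ 13 + X ^ 14) ?_
  rw [hχ]
  try simp only [map_add, map_one, map_zero]
  linear_combination (exp := 1) (0) * hω' + ((-1) * X ^ 3 + (-1) * X ^ 5 + (-1) * X ^ 6 + (-1) * X ^ 7 + (-1) * X ^ 8 + (-1) * X ^ 9 + (-1) * X ^ 10 + (-1) * X ^ 12 + (-1) * X ^ 13 + (-1) * X ^ 14 + (-1) * X ^ 15 + (-1) * X ^ 16 + (-1) * X ^ 17) * h2'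

theorem case_0_1_2 (A : Matrix (Fin 3) (Fin 3) F) (ω : F)
    (hω' : (C ω : F[X]) ^ 2 + C ω + 1 = 0) (h2' : (2 : F[X]) = 0)
    (hχ : A.charpoly = X ^ 3 + C 0 * X ^ 2 + C 1 * X + 1)
    (h15 : A ^ 15 = (ω : F) • (1 : Matrix (Fin 3) (Fin 3) F)) : Concl A := by
  refine close1 A _ h15 (1 + X + (C ω + 1) * X ^ 2) ((C ω + 1) + X + (C ω + 1) * X ^ 3 + C ω * X ^ 4 + C ω * X ^ 5 + X ^ 6 + (C ω + 1) * X ^ 7 + X ^ 8 + (C ω + 1) * X ^ 10 + C ω * X ^ 11 + C ω * X ^ 12 + X ^ 13 + (C ω + 1) * X ^ 14) ?_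
  rw [hχ]
  try simp only [map_add, map_one, map_zero]
  linear_combination (exp := 1) ((1) * X ^ 2) * hω' + ((-1) * X + (-1) * X ^ 2 + (-1) * X ^ 3 + (-1) * C ω * X ^ 3 + (-1) * X ^ 4 + (-1) * C ω * X ^ 4 + (-1) * C ω * X ^ 5 + (-1) * X ^ 6 + (-1) * C ω * X ^ 6 + (-1) * X ^ 7 + (-1) * C ω * X ^ 7 + (-1) * X ^ 8 + (-1) * C ω * X ^ 8 + (-1) * X ^ 9 + (-1) * X ^ 10 + (-1) * C ω * X ^ 10 + (-1) * X ^ 11 + (-1) * C ω * X ^ 11 + (-1) * C ω * X ^ 12 + (-1) * X ^ 13 + (-1) * C ω * X ^ 13 + (-1) * X ^ 14 + (-1) * C ω * X ^ 14 + (-1) * X ^ 15 + (-1) * C ω * X ^ 15 + (-1) * X ^ 16 + (-1) * X ^ 17 + (-1) * C ω * X ^ 17) * h2'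

theorem case_0_1_3 (A : Matrix (Fin 3) (Fin 3) F) (ω : F)
    (hω' : (C ω : F[X]) ^ 2 + C ω + 1 = 0) (h2' : (2 : F[X]) = 0)
    (hχ : A.charpoly = X ^ 3 + C 0 * X ^ 2 + C 1 * X + 1)
    (h15 : A ^ 15 = ((ω + 1) : F) • (1 : Matrix (Fin 3) (Fin 3) F)) : Concl A := by
  refine close1 A _ h15 (1 + X + C ω * X ^ 2) (C ω + X + C ω * X ^ 3 + (C ω + 1) * X ^ 4 + (C ω + 1) * X ^ 5 + X ^ 6 + C ω * X ^ 7 + X ^ 8 + C ω * X ^ 10 + (C ω + 1) * X ^ 11 + (C ω + 1) * X ^ 12 + X ^ 13 + C ω * X ^ 14) ?_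
  rw [hχ]
  try simp only [map_add, map_one, map_zero]
  linear_combination (exp := 1) ((1) * X ^ 2) * hω' + ((1) + (-1) * X ^ 2 + (-1) * C ω * X ^ 3 + (-1) * X ^ 4 + (-1) * C ω * X ^ 4 + (-1) * X ^ 5 + (-1) * C ω * X ^ 5 + (-1) * X ^ 6 + (-1) * C ω * X ^ 6 + (-1) * X ^ 7 + (-1) * C ω * X ^ 7 + (-1) * X ^ 8 + (-1) * C ω * X ^ 8 + (-1) * X ^ 9 + (-1) * C ω * X ^ 10 + (-1) * X ^ 11 + (-1) * C ω * X ^ 11 + (-1) * X ^ 12 + (-1) * C ω * X ^ 12 + (-1) * X ^ 13 + (-1) * C ω * X ^ 13 + (-1) * X ^ 14 + (-1) * C ω * X ^ 14 + (-1) * X ^ 15 + (-1) * C ω * X ^ 15 + (-1) * X ^ 16 + (-1) * C ω * X ^ 17) * h2'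

theorem case_0_2_1 (A : Matrix (Fin 3) (Fin 3) F) (ω : F)
    (hω' : (C ω : F[X]) ^ 2 + C ω + 1 = 0) (h2' : (2 : F[X]) = 0)
    (hχ : A.charpoly = X ^ 3 + C 0 * X ^ 2 + C ω * X + 1)
    (h15 : A ^ 15 = (1 : F) • (1 : Matrix (Fin 3) (Fin 3) F)) : Concl A := by
  refine close1 A _ h15 (C ω * X + (C ω + 1) * X ^ 2) (1 + (C ω + 1) * X ^ 2 + (C ω + 1) * X ^ 5 + X ^ 6 + C ω * X ^ 7 + X ^ 9 + X ^ 12 + C ω * X ^ 13 + (C ω + 1) * X ^ 14) ?_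
  rw [hχ]
  try simp only [map_add, map_one, map_zero]
  linear_combination (exp := 1) ((-1) * X ^ 3 + (-1) * X ^ 6 + (-1) * X ^ 8 + (-1) * X ^ 14 + (-1) * X ^ 15) * hω' + ((-1) * X ^ 5 + (-1) * C ω * X ^ 5 + (-1) * C ω * X ^ 7 + (-1) * X ^ 9 + (-1) * C ω * X ^ 10 + (-1) * X ^ 12 + (-1) * C ω * X ^ 13 + (-1) * C ω * X ^ 16 + (-1) * X ^ 17 + (-1) * C ω * X ^ 17) * h2'

theorem case_0_2_2 (A : Matrix (Fin 3) (Fin 3) F) (ω : F)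
    (hω' : (C ω : F[X]) ^ 2 + C ω + 1 = 0) (h2' : (2 : F[X]) = 0)
    (hχ : A.charpoly = X ^ 3 + C 0 * X ^ 2 + C ω * X + 1)
    (h15 : A ^ 15 = (ω : F) • (1 : Matrix (Fin 3) (Fin 3) F)) : Concl A := by
  refine close1 A _ h15 (1 + C ω * X + C ω * X ^ 2) ((C ω + 1) + C ω * X + (C ω + 1) * X ^ 3 + (C ω + 1) * X ^ 4 + X ^ 5 + X ^ 6 + X ^ 7 + (C ω + 1) * X ^ 8 + X ^ 10 + X ^ 11 + C ω * X ^ 12 + C ω * X ^ 13 + C ω * X ^ 14) ?_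
  rw [hχ]
  try simp only [map_add, map_one, map_zero]
  linear_combination (exp := 1) ((-1) * X ^ 4 + (-1) * X ^ 5 + (-1) * X ^ 9 + (-1) * X ^ 13 + (-1) * X ^ 14 + (-1) * X ^ 15) * hω' + ((-1) * C ω * X + (-1) * X ^ 3 + (-1) * C ω * X ^ 3 + (-1) * C ω * X ^ 4 + (-1) * X ^ 6 + (-1) * C ω * X ^ 6 + (-1) * X ^ 7 + (-1) * C ω * X ^ 7 + (-1) * X ^ 8 + (-1) * C ω * X ^ 8 + (-1) * X ^ 10 + (-1) * X ^ 11 + (-1) * C ω * X ^ 11 + (-1) * C ω * X ^ 12 + (-1) * C ω * X ^ 16 + (-1) * C ω * X ^ 17) * h2'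

theorem case_0_2_3 (A : Matrix (Fin 3) (Fin 3) F) (ω : F)
    (hω' : (C ω : F[X]) ^ 2 + C ω + 1 = 0) (h2' : (2 : F[X]) = 0)
    (hχ : A.charpoly = X ^ 3 + C 0 * X ^ 2 + C ω * X + 1)
    (h15 : A ^ 15 = ((ω + 1) : F) • (1 : Matrix (Fin 3) (Fin 3) F)) : Concl A := by
  refine close1 A _ h15 (1 + C ω * X + X ^ 2) (C ω + C ω * X + C ω * X ^ 3 + X ^ 4 + C ω * X ^ 5 + X ^ 6 + (C ω + 1) * X ^ 7 + (C ω + 1) * X ^ 8 + (C ω + 1) * X ^ 10 + C ω * X ^ 11 + (C ω + 1) * X ^ 12 + C ω * X ^ 13 + X ^ 14) ?_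
  rw [hχ]
  try simp only [map_add, map_one, map_zero]
  linear_combination (exp := 1) ((-1) * X ^ 2 + (-1) * X ^ 4 + (-1) * X ^ 6 + (-1) * X ^ 8 + (-1) * X ^ 9 + (-1) * X ^ 11 + (-1) * X ^ 12 + (-1) * X ^ 13 + (-1) * X ^ 14) * hω' + ((1) + (1) * X ^ 2 + (1) * C ω * X ^ 2 + (-1) * C ω * X ^ 3 + (-1) * C ω * X ^ 5 + (-1) * X ^ 7 + (-1) * C ω * X ^ 7 + (-1) * C ω * X ^ 8 + (-1) * X ^ 10 + (-1) * C ω * X ^ 10 + (-1) * C ω * X ^ 11 + (-1) * C ω * X ^ 13 + (-1) * X ^ 15 + (-1) * C ω * X ^ 15 + (-1) * C ω * X ^ 16 + (-1) * X ^ 17) * h2'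

theorem case_0_3_1 (A : Matrix (Fin 3) (Fin 3) F) (ω : F)
    (hω' : (C ω : F[X]) ^ 2 + C ω + 1 = 0) (h2' : (2 : F[X]) = 0)
    (hχ : A.charpoly = X ^ 3 + C 0 * X ^ 2 + C (ω + 1) * X + 1)
    (h15 : A ^ 15 = (1 : F) • (1 : Matrix (Fin 3) (Fin 3) F)) : Concl A := by
  refine close1 A _ h15 ((C ω + 1) * X + C ω * X ^ 2) (1 + C ω * X ^ 2 + C ω * X ^ 5 + X ^ 6 + (C ω + 1) * X ^ 7 + X ^ 9 + X ^ 12 + (C ω + 1) * X ^ 13 + C ω * X ^ 14) ?_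
  rw [hχ]
  try simp only [map_add, map_one, map_zero]
  linear_combination (exp := 1) ((-1) * X ^ 3 + (-1) * X ^ 6 + (-1) * X ^ 8 + (-1) * X ^ 14 + (-1) * X ^ 15) * hω' + ((-1) * C ω * X ^ 5 + (-1) * X ^ 7 + (-1) * C ω * X ^ 7 + (-1) * C ω * X ^ 8 + (-1) * X ^ 9 + (-1) * X ^ 10 + (-1) * C ω * X ^ 10 + (-1) * X ^ 12 + (-1) * X ^ 13 + (-1) * C ω * X ^ 13 + (-1) * C ω * X ^ 14 + (-1) * X ^ 16 + (-1) * C ω * X ^ 16 + (-1) * C ω * X ^ 17) * h2'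

theorem case_0_3_2 (A : Matrix (Fin 3) (Fin 3) F) (ω : F)
    (hω' : (C ω : F[X]) ^ 2 + C ω + 1 = 0) (h2' : (2 : F[X]) = 0)
    (hχ : A.charpoly = X ^ 3 + C 0 * X ^ 2 + C (ω + 1) * X + 1)
    (h15 : A ^ 15 = (ω : F) • (1 : Matrix (Fin 3) (Fin 3) F)) : Concl A := by
  refine close1 A _ h15 (1 + (C ω + 1) * X + X ^ 2) ((C ω + 1) + (C ω + 1) * X + (C ω + 1) * X ^ 3 + X ^ 4 + (C ω + 1) * X ^ 5 + X ^ 6 + C ω * X ^ 7 + C ω * X ^ 8 + C ω * X ^ 10 + (C ω + 1) * X ^ 11 + C ω * X ^ 12 + (C ω + 1) * X ^ 13 + X ^ 14) ?_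
  rw [hχ]
  try simp only [map_add, map_one, map_zero]
  linear_combination (exp := 1) ((-1) * X ^ 2 + (-1) * X ^ 4 + (-1) * X ^ 6 + (-1) * X ^ 8 + (-1) * X ^ 9 + (-1) * X ^ 11 + (-1) * X ^ 12 + (-1) * X ^ 13 + (-1) * X ^ 14) * hω' + ((-1) * X + (-1) * C ω * X + (-1) * X ^ 3 + (-1) * C ω * X ^ 3 + (-1) * X ^ 4 + (-1) * C ω * X ^ 4 + (-1) * X ^ 5 + (-1) * C ω * X ^ 5 + (-1) * X ^ 6 + (-1) * C ω * X ^ 6 + (-1) * X ^ 7 + (-1) * C ω * X ^ 7 + (-1) * C ω * X ^ 8 + (-1) * C ω * X ^ 10 + (-1) * C ω * X ^ 11 + (-1) * C ω * X ^ 12 + (-1) * C ω * X ^ 13 + (-1) * X ^ 14 + (-1) * C ω * X ^ 14 + (-1) * X ^ 15 + (-1) * C ω * X ^ 15 + (-1) * X ^ 16 + (-1) * C ω * X ^ 16 + (-1) * X ^ 17) * h2'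

theorem case_0_3_3 (A : Matrix (Fin 3) (Fin 3) F) (ω : F)
    (hω' : (C ω : F[X]) ^ 2 + C ω + 1 = 0) (h2' : (2 : F[X]) = 0)
    (hχ : A.charpoly = X ^ 3 + C 0 * X ^ 2 + C (ω + 1) * X + 1)
    (h15 : A ^ 15 = ((ω + 1) : F) • (1 : Matrix (Fin 3) (Fin 3) F)) : Concl A := by
  refine close1 A _ h15 (1 + (C ω + 1) * X + (C ω + 1) * X ^ 2) (C ω + (C ω + 1) * X + C ω * X ^ 3 + C ω * X ^ 4 + X ^ 5 + X ^ 6 + X ^ 7 + C ω * X ^ 8 + X ^ 10 + X ^ 11 + (C ω + 1) * X ^ 12 + (C ω + 1) * X ^ 13 + (C ω + 1) * X ^ 14) ?_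
  rw [hχ]
  try simp only [map_add, map_one, map_zero]
  linear_combination (exp := 1) ((-1) * X ^ 4 + (-1) * X ^ 5 + (-1) * X ^ 9 + (-1) * X ^ 13 + (-1) * X ^ 14 + (-1) * X ^ 15) * hω' + ((1) + (-1) * C ω * X ^ 3 + (-1) * C ω * X ^ 4 + (-1) * X ^ 6 + (-1) * C ω * X ^ 6 + (-1) * X ^ 7 + (-1) * C ω * X ^ 7 + (-1) * X ^ 8 + (-1) * C ω * X ^ 8 + (-1) * X ^ 10 + (-1) * X ^ 11 + (-1) * C ω * X ^ 11 + (-1) * X ^ 12 + (-1) * C ω * X ^ 12 + (-1) * X ^ 13 + (-1) * C ω * X ^ 13 + (-1) * X ^ 14 + (-1) * C ω * X ^ 14 + (-1) * X ^ 15 + (-1) * C ω * X ^ 15 + (-1) * X ^ 16 + (-1) * C ω * X ^ 16 + (-1) * X ^ 17 + (-1) * C ω * X ^ 17) * h2'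

theorem case_1_0_1 (A : Matrix (Fin 3) (Fin 3) F) (ω : F)
    (hω' : (C ω : F[X]) ^ 2 + C ω + 1 = 0) (h2' : (2 : F[X]) = 0)
    (hχ : A.charpoly = X ^ 3 + C 1 * X ^ 2 + C 0 * X + 1)
    (h15 : A ^ 15 = (1 : F) • (1 : Matrix (Fin 3) (Fin 3) F)) : Concl A := by
  refine close1 A _ h15 (X ^ 2) (1 + X ^ 3 + X ^ 5 + X ^ 6 + X ^ 7 + X ^ 10 + X ^ 12 + X ^ 13 + X ^ 14) ?_
  rw [hχ]
  try simp only [map_add, map_one, map_zero]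
  linear_combination (exp := 1) (0) * hω' + ((-1) * X ^ 3 + (-1) * X ^ 5 + (-1) * X ^ 6 + (-1) * X ^ 7 + (-1) * X ^ 8 + (-1) * X ^ 9 + (-1) * X ^ 10 + (-1) * X ^ 12 + (-1) * X ^ 13 + (-1) * X ^ 14 + (-1) * X ^ 15 + (-1) * X ^ 16 + (-1) * X ^ 17) * h2'

theorem case_1_0_2 (A : Matrix (Fin 3) (Fin 3) F) (ω : F)
    (hω' : (C ω : F[X]) ^ 2 + C ω + 1 = 0) (h2' : (2 : F[X]) = 0)
    (hχ : A.charpoly = X ^ 3 + C 1 * X ^ 2 + C 0 * X + 1)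
    (h15 : A ^ 15 = (ω : F) • (1 : Matrix (Fin 3) (Fin 3) F)) : Concl A := by
  refine close1 A _ h15 (C ω + X + C ω * X ^ 2) (C ω + C ω * X + X ^ 2 + (C ω + 1) * X ^ 4 + X ^ 5 + (C ω + 1) * X ^ 6 + C ω * X ^ 7 + C ω * X ^ 8 + X ^ 9 + (C ω + 1) * X ^ 11 + X ^ 12 + (C ω + 1) * X ^ 13 + C ω * X ^ 14) ?_
  rw [hχ]
  try simp only [map_add, map_one, map_zero]
  linear_combination (exp := 1) ((1) + (1) * X ^ 2) * hω' + ((-1) * C ω + (-1) * X ^ 2 + (-1) * C ω * X ^ 2 + (-1) * C ω * X ^ 3 + (-1) * X ^ 4 + (-1) * C ω * X ^ 4 + (-1) * X ^ 5 + (-1) * X ^ 6 + (-1) * C ω * X ^ 6 + (-1) * X ^ 7 + (-1) * C ω * X ^ 7 + (-1) * X ^ 8 + (-1) * C ω * X ^ 8 + (-1) * X ^ 9 + (-1) * C ω * X ^ 9 + (-1) * C ω * X ^ 10 + (-1) * X ^ 11 + (-1) * C ω * X ^ 11 + (-1) * X ^ 12 + (-1) * X ^ 13 + (-1) * C ω * X ^ 13 + (-1) * X ^ 14 + (-1) *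 C ω * X ^ 14 + (-1) * X ^ 15 + (-1) * C ω * X ^ 15 + (-1) * X ^ 16 + (-1) * C ω * X ^ 16 + (-1) * C ω * X ^ 17) * h2'

theorem case_1_0_3 (A : Matrix (Fin 3) (Fin 3) F) (ω : F)
    (hω' : (C ω : F[X]) ^ 2 + C ω + 1 = 0) (h2' : (2 : F[X]) = 0)
    (hχ : A.charpoly = X ^ 3 + C 1 * X ^ 2 + C 0 * X + 1)
    (h15 : A ^ 15 = ((ω + 1) : F) • (1 : Matrix (Fin 3) (Fin 3) F)) : Concl A := by
  refine close1 A _ h15 ((C ω + 1) + X + (C ω + 1) * X ^ 2) ((C ω + 1) + (C ω + 1) * X + X ^ 2 + C ω * X ^ 4 + X ^ 5 + C ω * X ^ 6 + (C ω + 1) * X ^ 7 + (C ω + 1) * X ^ 8 + X ^ 9 + C ω * X ^ 11 + X ^ 12 + C ω * X ^ 13 + (C ω + 1) * X ^ 14) ?_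
  rw [hχ]
  try simp only [map_add, map_one, map_zero]
  linear_combination (exp := 1) ((1) + (1) * X ^ 2) * hω' + ((-1) * X ^ 2 + (-1) * X ^ 3 + (-1) * C ω * X ^ 3 + (-1) * X ^ 4 + (-1) * C ω * X ^ 4 + (-1) * X ^ 5 + (-1) * C ω * X ^ 6 + (-1) * X ^ 7 + (-1) * C ω * X ^ 7 + (-1) * X ^ 8 + (-1) * C ω * X ^ 8 + (-1) * X ^ 9 + (-1) * C ω * X ^ 9 + (-1) * X ^ 10 + (-1) * C ω * X ^ 10 + (-1) * X ^ 11 + (-1) * C ω * X ^ 11 + (-1) * X ^ 12 + (-1) * C ω * X ^ 13 + (-1) * X ^ 14 + (-1) * C ω * X ^ 14 + (-1) * X ^ 15 + (-1) * C ω * X ^ 15 + (-1) * X ^ 16 + (-1) * C ω * X ^ 16 + (-1) * X ^ 17 + (-1) * C ω * X ^ 17) * h2'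

theorem case_1_1_1 (A : Matrix (Fin 3) (Fin 3) F) (ω : F)
    (hω' : (C ω : F[X]) ^ 2 + C ω + 1 = 0) (h2' : (2 : F[X]) = 0)
    (hχ : A.charpoly = X ^ 3 + C 1 * X ^ 2 + C 1 * X + 1)
    (h15 : A ^ 15 = (1 : F) • (1 : Matrix (Fin 3) (Fin 3) F)) : Concl A := by
  refine close5 A _ h15 1 (X + X ^ 2 + X ^ 3 + X ^ 4 + X ^ 5) (1 + X ^ 4 + X ^ 5 + X ^ 8 + X ^ 9 + X ^ 12 + X ^ 13 + X ^ 17) ?_
  rw [hχ]
  try simp only [map_add, map_one, map_zero]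
  linear_combination (exp := 1) (0) * hω' + ((-1) + (-1) * X ^ 6 + (-1) * X ^ 7 + (-1) * X ^ 8 + (-1) * X ^ 9 + (-1) * X ^ 10 + (-1) * X ^ 11 + (-1) * X ^ 12 + (-1) * X ^ 13 + (-1) * X ^ 14 + (-1) * X ^ 15 + (-1) * X ^ 16 + (-1) * X ^ 17 + (-1) * X ^ 18 + (-1) * X ^ 19 + (-1) * X ^ 20) * h2'

theorem case_1_1_2 (A : Matrix (Fin 3) (Fin 3) F) (ω : F)
    (hω' : (C ω : F[X]) ^ 2 + C ω + 1 = 0) (h2' : (2 : F[X]) = 0)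
    (hχ : A.charpoly = X ^ 3 + C 1 * X ^ 2 + C 1 * X + 1)
    (h15 : A ^ 15 = (ω : F) • (1 : Matrix (Fin 3) (Fin 3) F)) : Concl A := by
  refine close1 A _ h15 ((C ω + 1) + (C ω + 1) * X + C ω * X ^ 2) (X + C ω * X ^ 2 + (C ω + 1) * X ^ 3 + X ^ 5 + C ω * X ^ 6 + (C ω + 1) * X ^ 7 + X ^ 9 + C ω * X ^ 10 + (C ω + 1) * X ^ 11 + X ^ 13 + C ω * X ^ 14) ?_
  rw [hχ]
  try simp only [map_add, map_one, map_zero]
  linear_combination (exp := 1) ((1) + (1) * X + (1) * X ^ 2) * hω' + ((-1) * X + (-1) * X ^ 2 + (-1) * C ω * X ^ 2 + (-1) * X ^ 3 + (-1) * C ω * X ^ 3 + (-1) * X ^ 4 + (-1) * C ω * X ^ 4 + (-1) * X ^ 5 + (-1) * C ω * X ^ 5 + (-1) * X ^ 6 + (-1) * C ω * X ^ 6 + (-1) * X ^ 7 + (-1) * C ω * X ^ 7 + (-1) * X ^ 8 + (-1) * C ω * X ^ 8 + (-1) * X ^ 9 + (-1) * C ω * X ^ 9 + (-1) * X ^ 10 + (-1) * C ω * X ^ 10 + (-1)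 * X ^ 11 + (-1) * C ω * X ^ 11 + (-1) * X ^ 12 + (-1) * C ω * X ^ 12 + (-1) * X ^ 13 + (-1) * C ω * X ^ 13 + (-1) * X ^ 14 + (-1) * C ω * X ^ 14 + (-1) * X ^ 15 + (-1) * C ω * X ^ 15 + (-1) * X ^ 16 + (-1) * C ω * X ^ 16 + (-1) * C ω * X ^ 17) * h2'

theorem case_1_1_3 (A : Matrix (Fin 3) (Fin 3) F) (ω : F)
    (hω' : (C ω : F[X]) ^ 2 + C ω + 1 = 0) (h2' : (2 : F[X]) = 0)
    (hχ : A.charpoly = X ^ 3 + C 1 * X ^ 2 + C 1 * X + 1)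
    (h15 : A ^ 15 = ((ω + 1) : F) • (1 : Matrix (Fin 3) (Fin 3) F)) : Concl A := by
  refine close1 A _ h15 (C ω + C ω * X + (C ω + 1) * X ^ 2) (X + (C ω + 1) * X ^ 2 + C ω * X ^ 3 + X ^ 5 + (C ω + 1) * X ^ 6 + C ω * X ^ 7 + X ^ 9 + (C ω + 1) * X ^ 10 + C ω * X ^ 11 + X ^ 13 + (C ω + 1) * X ^ 14) ?_
  rw [hχ]
  try simp only [map_add, map_one, map_zero]
  linear_combination (exp := 1) ((1) + (1) * X + (1) * X ^ 2) * hω' + ((-1) * X + (-1) * X ^ 2 + (-1) * X ^ 3 + (-1) * C ω * X ^ 3 + (-1) * X ^ 4 + (-1) * C ω * X ^ 4 + (-1) * X ^ 5 + (-1) * C ω * X ^ 5 + (-1) * X ^ 6 + (-1) * C ω * X ^ 6 + (-1) * X ^ 7 + (-1) * C ω * X ^ 7 + (-1) * X ^ 8 + (-1) * C ω * X ^ 8 + (-1) * X ^ 9 + (-1) * C ω * X ^ 9 + (-1) * X ^ 10 + (-1) * C ω * X ^ 10 + (-1) * X ^ 11 + (-1) * C ω * X ^ 11 + (-1) * X ^ 12 + (-1) * C ω * X ^ 12 + (-1)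 * X ^ 13 + (-1) * C ω * X ^ 13 + (-1) * X ^ 14 + (-1) * C ω * X ^ 14 + (-1) * X ^ 15 + (-1) * C ω * X ^ 15 + (-1) * X ^ 16 + (-1) * C ω * X ^ 16 + (-1) * X ^ 17 + (-1) * C ω * X ^ 17) * h2'

theorem case_1_2_1 (A : Matrix (Fin 3) (Fin 3) F) (ω : F)
    (hω' : (C ω : F[X]) ^ 2 + C ω + 1 = 0) (h2' : (2 : F[X]) = 0)
    (hχ : A.charpoly = X ^ 3 + C 1 * X ^ 2 + C ω * X + 1)
    (h15 : A ^ 15 = (1 : F) • (1 : Matrix (Fin 3) (Fin 3) F)) : Concl A := by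
  refine close5 A _ h15 (ω + 1) (0) ((C ω + 1) + X + X ^ 2) ?_
  rw [hχ]
  try simp only [map_add, map_one, map_zero]
  linear_combination (exp := 1) ((-1) * X) * hω' + ((-1) + (-1) * C ω + (-1) * X ^ 2 + (-1) * C ω * X ^ 2 + (-1) * X ^ 3 + (-1) * C ω * X ^ 3 + (-1) * X ^ 4) * h2'

theorem case_1_2_2 (A : Matrix (Fin 3) (Fin 3) F) (ω : F)
    (hω' : (C ω : F[X]) ^ 2 + C ω + 1 = 0) (h2' : (2 : F[X]) = 0)
    (hχ : A.charpoly = X ^ 3 + C 1 * X ^ 2 + C ω * X + 1)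
    (h15 : A ^ 15 = (ω : F) • (1 : Matrix (Fin 3) (Fin 3) F)) : Concl A := by
  refine close1 A _ h15 (C ω) (C ω + (C ω + 1) * X + (C ω + 1) * X ^ 2 + (C ω + 1) * X ^ 5 + X ^ 6 + X ^ 7 + X ^ 10 + C ω * X ^ 11 + C ω * X ^ 12) ?_
  rw [hχ]
  try simp only [map_add, map_one, map_zero]
  linear_combination (exp := 1) ((1) + (-1) * X + (-1) * X ^ 2 + (-1) * X ^ 3 + (-1) * X ^ 6 + (-1) * X ^ 12 + (-1) * X ^ 13) * hω' + ((-1) * C ω + (-1) * C ω * X ^ 2 + (-1) * C ω * X ^ 3 + (-1) * X ^ 4 + (-1) * C ω * X ^ 4 + (-1) * X ^ 5 + (-1) * C ω * X ^ 5 + (-1) * X ^ 7 + (-1) * C ω * X ^ 7 + (-1) * X ^ 8 + (-1) * C ω * X ^ 8 + (-1) * X ^ 9 + (-1) * X ^ 10 + (-1) * C ω * X ^ 11 + (-1) * C ω * X ^ 14 + (-1) * C ω * X ^ 15) * h2'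

theorem case_1_2_3 (A : Matrix (Fin 3) (Fin 3) F) (ω : F)
    (hω' : (C ω : F[X]) ^ 2 + C ω + 1 = 0) (h2' : (2 : F[X]) = 0)
    (hχ : A.charpoly = X ^ 3 + C 1 * X ^ 2 + C ω * X + 1)
    (h15 : A ^ 15 = ((ω + 1) : F) • (1 : Matrix (Fin 3) (Fin 3) F)) : Concl A := by
  refine close1 A _ h15 ((C ω + 1)) ((C ω + 1) + X + X ^ 2 + X ^ 5 + C ω * X ^ 6 + C ω * X ^ 7 + C ω * X ^ 10 + (C ω + 1) * X ^ 11 + (C ω + 1) * X ^ 12) ?_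
  rw [hχ]
  try simp only [map_add, map_one, map_zero]
  linear_combination (exp := 1) ((1) + (-1) * X + (-1) * X ^ 7 + (-1) * X ^ 8 + (-1) * X ^ 11 + (-1) * X ^ 12 + (-1) * X ^ 13) * hω' + ((-1) * X ^ 2 + (-1) * C ω * X ^ 2 + (-1) * X ^ 3 + (-1) * C ω * X ^ 3 + (-1) * X ^ 4 + (-1) * X ^ 5 + (-1) * C ω * X ^ 6 + (-1) * C ω * X ^ 9 + (-1) * C ω * X ^ 10 + (-1) * C ω * X ^ 12 + (-1) * C ω * X ^ 13 + (-1) * X ^ 14 + (-1) * C ω * X ^ 14 + (-1) * X ^ 15 + (-1) * C ω * X ^ 15) * h2'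

theorem case_1_3_1 (A : Matrix (Fin 3) (Fin 3) F) (ω : F)
    (hω' : (C ω : F[X]) ^ 2 + C ω + 1 = 0) (h2' : (2 : F[X]) = 0)
    (hχ : A.charpoly = X ^ 3 + C 1 * X ^ 2 + C (ω + 1) * X + 1)
    (h15 : A ^ 15 = (1 : F) • (1 : Matrix (Fin 3) (Fin 3) F)) : Concl A := by
  refine close5 A _ h15 ω (0) (C ω + X + X ^ 2) ?_
  rw [hχ]
  try simp only [map_add, map_one, map_zero]
  linear_combination (exp := 1) ((-1) * X) * hω' + ((-1) * C ω + (-1) * X ^ 2 + (-1) * C ω * X ^ 2 + (-1) * X ^ 3 + (-1) * C ω * X ^ 3 + (-1) * X ^ 4) * h2'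

theorem case_1_3_2 (A : Matrix (Fin 3) (Fin 3) F) (ω : F)
    (hω' : (C ω : F[X]) ^ 2 + C ω + 1 = 0) (h2' : (2 : F[X]) = 0)
    (hχ : A.charpoly = X ^ 3 + C 1 * X ^ 2 + C (ω + 1) * X + 1)
    (h15 : A ^ 15 = (ω : F) • (1 : Matrix (Fin 3) (Fin 3) F)) : Concl A := by
  refine close1 A _ h15 (C ω) (C ω + X + X ^ 2 + X ^ 5 + (C ω + 1) * X ^ 6 + (C ω + 1) * X ^ 7 + (C ω + 1) * X ^ 10 + C ω * X ^ 11 + C ω * X ^ 12) ?_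
  rw [hχ]
  try simp only [map_add, map_one, map_zero]
  linear_combination (exp := 1) ((1) + (-1) * X + (-1) * X ^ 7 + (-1) * X ^ 8 + (-1) * X ^ 11 + (-1) * X ^ 12 + (-1) * X ^ 13) * hω' + ((-1) * C ω + (-1) * X ^ 2 + (-1) * C ω * X ^ 2 + (-1) * X ^ 3 + (-1) * C ω * X ^ 3 + (-1) * X ^ 4 + (-1) * X ^ 5 + (-1) * X ^ 6 + (-1) * C ω * X ^ 6 + (-1) * X ^ 7 + (-1) * C ω * X ^ 7 + (-1) * X ^ 8 + (-1) * C ω * X ^ 8 + (-1) * X ^ 9 + (-1) * C ω * X ^ 9 + (-1) * X ^ 10 + (-1) * C ω * X ^ 10 + (-1) * C ω * X ^ 11 + (-1) * C ω * X ^ 12 + (-1) * C ω * X ^ 13 + (-1) * C ω * X ^ 14 + (-1) * C ω * X ^ 15) * h2'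

theorem case_1_3_3 (A : Matrix (Fin 3) (Fin 3) F) (ω : F)
    (hω' : (C ω : F[X]) ^ 2 + C ω + 1 = 0) (h2' : (2 : F[X]) = 0)
    (hχ : A.charpoly = X ^ 3 + C 1 * X ^ 2 + C (ω + 1) * X + 1)
    (h15 : A ^ 15 = ((ω + 1) : F) • (1 : Matrix (Fin 3) (Fin 3) F)) : Concl A := by
  refine close1 A _ h15 ((C ω + 1)) ((C ω + 1) + C ω * X + C ω * X ^ 2 + C ω * X ^ 5 + X ^ 6 + X ^ 7 + X ^ 10 + (C ω + 1) * X ^ 11 + (C ω + 1) * X ^ 12) ?_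
  rw [hχ]
  try simp only [map_add, map_one, map_zero]
  linear_combination (exp := 1) ((1) + (-1) * X + (-1) * X ^ 2 + (-1) * X ^ 3 + (-1) * X ^ 6 + (-1) * X ^ 12 + (-1) * X ^ 13) * hω' + ((-1) * C ω * X + (-1) * C ω * X ^ 2 + (-1) * C ω * X ^ 3 + (-1) * C ω * X ^ 4 + (-1) * C ω * X ^ 5 + (-1) * X ^ 7 + (-1) * C ω * X ^ 7 + (-1) * X ^ 8 + (-1) * C ω * X ^ 8 + (-1) * X ^ 9 + (-1) * X ^ 10 + (-1) * X ^ 11 + (-1) * C ω * X ^ 11 + (-1) * X ^ 12 + (-1) * C ω * X ^ 12 + (-1) * X ^ 13 + (-1) * C ω * X ^ 13 + (-1) * X ^ 14 + (-1) * C ω * X ^ 14 + (-1) * X ^ 15 + (-1) * C ω * X ^ 15) * h2'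

theorem case_2_0_1 (A : Matrix (Fin 3) (Fin 3) F) (ω : F)
    (hω' : (C ω : F[X]) ^ 2 + C ω + 1 = 0) (h2' : (2 : F[X]) = 0)
    (hχ : A.charpoly = X ^ 3 + C ω * X ^ 2 + C 0 * X + 1)
    (h15 : A ^ 15 = (1 : F) • (1 : Matrix (Fin 3) (Fin 3) F)) : Concl A := by
  refine close1 A _ h15 (C ω * X ^ 2) (1 + X ^ 3 + C ω * X ^ 5 + X ^ 6 + (C ω + 1) * X ^ 7 + (C ω + 1) * X ^ 10 + X ^ 12 + (C ω + 1) * X ^ 13 + C ω * X ^ 14) ?_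
  rw [hχ]
  try simp only [map_add, map_one, map_zero]
  linear_combination (exp := 1) ((-1) * X ^ 7 + (-1) * X ^ 9 + (-1) * X ^ 12 + (-1) * X ^ 15 + (-1) * X ^ 16) * hω' + ((-1) * X ^ 3 + (-1) * C ω * X ^ 5 + (-1) * X ^ 6 + (-1) * C ω * X ^ 8 + (-1) * X ^ 10 + (-1) * C ω * X ^ 10 + (-1) * X ^ 13 + (-1) * C ω * X ^ 13 + (-1) * C ω * X ^ 14 + (-1) * C ω * X ^ 17) * h2'

theorem case_2_0_2 (A : Matrix (Fin 3) (Fin 3) F) (ω : F)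
    (hω' : (C ω : F[X]) ^ 2 + C ω + 1 = 0) (h2' : (2 : F[X]) = 0)
    (hχ : A.charpoly = X ^ 3 + C ω * X ^ 2 + C 0 * X + 1)
    (h15 : A ^ 15 = (ω : F) • (1 : Matrix (Fin 3) (Fin 3) F)) : Concl A := by
  refine close1 A _ h15 (C ω + (C ω + 1) * X + (C ω + 1) * X ^ 2) (C ω + X + C ω * X ^ 2 + C ω * X ^ 4 + C ω * X ^ 5 + (C ω + 1) * X ^ 6 + X ^ 7 + (C ω + 1) * X ^ 8 + X ^ 9 + X ^ 11 + X ^ 12 + C ω * X ^ 13 + (C ω + 1) * X ^ 14) ?_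
  rw [hχ]
  try simp only [map_add, map_one, map_zero]
  linear_combination (exp := 1) ((1) + (1) * X + (-1) * X ^ 4 + (-1) * X ^ 6 + (-1) * X ^ 7 + (-1) * X ^ 8 + (-1) * X ^ 10 + (-1) * X ^ 15 + (-1) * X ^ 16) * hω' + ((-1) * C ω + (-1) * X + (-1) * C ω * X ^ 3 + (-1) * C ω * X ^ 5 + (-1) * C ω * X ^ 8 + (-1) * X ^ 9 + (-1) * C ω * X ^ 9 + (-1) * X ^ 11 + (-1) * C ω * X ^ 11 + (-1) * X ^ 12 + (-1) * C ω * X ^ 13 + (-1) * X ^ 14 + (-1) * C ω * X ^ 14 + (-1) * C ω * X ^ 16 + (-1) * X ^ 17 + (-1) * C ω * X ^ 17) * h2'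

theorem case_2_0_3 (A : Matrix (Fin 3) (Fin 3) F) (ω : F)
    (hω' : (C ω : F[X]) ^ 2 + C ω + 1 = 0) (h2' : (2 : F[X]) = 0)
    (hχ : A.charpoly = X ^ 3 + C ω * X ^ 2 + C 0 * X + 1)
    (h15 : A ^ 15 = ((ω + 1) : F) • (1 : Matrix (Fin 3) (Fin 3) F)) : Concl A := by
  refine close1 A _ h15 ((C ω + 1) + (C ω + 1) * X + X ^ 2) ((C ω + 1) + C ω * X + C ω * X ^ 2 + X ^ 4 + C ω * X ^ 5 + C ω * X ^ 6 + C ω * X ^ 7 + X ^ 8 + X ^ 9 + (C ω + 1) * X ^ 11 + X ^ 12 + X ^ 13 + X ^ 14) ?_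
  rw [hχ]
  try simp only [map_add, map_one, map_zero]
  linear_combination (exp := 1) ((1) + (1) * X + (-1) * X ^ 2 + (-1) * X ^ 3 + (-1) * X ^ 4 + (-1) * X ^ 7 + (-1) * X ^ 8 + (-1) * X ^ 9 + (-1) * X ^ 13) * hω' + ((1) * X ^ 2 + (-1) * C ω * X ^ 5 + (-1) * C ω * X ^ 6 + (-1) * C ω * X ^ 10 + (-1) * X ^ 11 + (-1) * C ω * X ^ 11 + (-1) * X ^ 12 + (-1) * X ^ 14 + (-1) * C ω * X ^ 14 + (-1) * X ^ 15 + (-1) * C ω * X ^ 15 + (-1) * X ^ 16 + (-1) * C ω * X ^ 16 + (-1) * X ^ 17) * h2'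

theorem case_2_1_1 (A : Matrix (Fin 3) (Fin 3) F) (ω : F)
    (hω' : (C ω : F[X]) ^ 2 + C ω + 1 = 0) (h2' : (2 : F[X]) = 0)
    (hχ : A.charpoly = X ^ 3 + C ω * X ^ 2 + C 1 * X + 1)
    (h15 : A ^ 15 = (1 : F) • (1 : Matrix (Fin 3) (Fin 3) F)) : Concl A := by
  refine close5 A _ h15 ω (0) (C ω + C ω * X + X ^ 2) ?_
  rw [hχ]
  try simp only [map_add, map_one, map_zero]
  linear_combination (exp := 1) ((-1) * X ^ 2 + (-1) * X ^ 3) * hω' + ((-1) * C ω + (-1) * C ω * X + (-1) * C ω * X ^ 4) * h2'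

theorem case_2_1_2 (A : Matrix (Fin 3) (Fin 3) F) (ω : F)
    (hω' : (C ω : F[X]) ^ 2 + C ω + 1 = 0) (h2' : (2 : F[X]) = 0)
    (hχ : A.charpoly = X ^ 3 + C ω * X ^ 2 + C 1 * X + 1)
    (h15 : A ^ 15 = (ω : F) • (1 : Matrix (Fin 3) (Fin 3) F)) : Concl A := by
  refine close1 A _ h15 (C ω) (C ω + C ω * X + X ^ 2 + X ^ 5 + X ^ 6 + (C ω + 1) * X ^ 7 + (C ω + 1) * X ^ 10 + (C ω + 1) * X ^ 11 + C ω * X ^ 12) ?_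
  rw [hχ]
  try simp only [map_add, map_one, map_zero]
  linear_combination (exp := 1) ((1) + (-1) * X ^ 2 + (-1) * X ^ 3 + (-1) * X ^ 9 + (-1) * X ^ 12 + (-1) * X ^ 13 + (-1) * X ^ 14) * hω' + ((-1) * C ω + (-1) * C ω * X + (-1) * C ω * X ^ 4 + (-1) * X ^ 5 + (-1) * X ^ 6 + (-1) * X ^ 7 + (-1) * C ω * X ^ 7 + (-1) * X ^ 8 + (-1) * C ω * X ^ 8 + (-1) * X ^ 10 + (-1) * C ω * X ^ 10 + (-1) * X ^ 11 + (-1) * C ω * X ^ 11 + (-1) * C ω * X ^ 12 + (-1) * C ω * X ^ 13 + (-1) * C ω * X ^ 15) * h2'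

theorem case_2_1_3 (A : Matrix (Fin 3) (Fin 3) F) (ω : F)
    (hω' : (C ω : F[X]) ^ 2 + C ω + 1 = 0) (h2' : (2 : F[X]) = 0)
    (hχ : A.charpoly = X ^ 3 + C ω * X ^ 2 + C 1 * X + 1)
    (h15 : A ^ 15 = ((ω + 1) : F) • (1 : Matrix (Fin 3) (Fin 3) F)) : Concl A := by
  refine close1 A _ h15 ((C ω + 1)) ((C ω + 1) + (C ω + 1) * X + C ω * X ^ 2 + C ω * X ^ 5 + C ω * X ^ 6 + X ^ 7 + X ^ 10 + X ^ 11 + (C ω + 1) * X ^ 12) ?_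
  rw [hχ]
  try simp only [map_add, map_one, map_zero]
  linear_combination (exp := 1) ((1) + (-1) * X ^ 2 + (-1) * X ^ 3 + (-1) * X ^ 4 + (-1) * X ^ 7 + (-1) * X ^ 8 + (-1) * X ^ 14) * hω' + ((-1) * X + (-1) * C ω * X + (-1) * C ω * X ^ 2 + (-1) * C ω * X ^ 3 + (-1) * C ω * X ^ 5 + (-1) * C ω * X ^ 6 + (-1) * C ω * X ^ 9 + (-1) * X ^ 10 + (-1) * X ^ 11 + (-1) * X ^ 12 + (-1) * C ω * X ^ 12 + (-1) * X ^ 13 + (-1) * C ω * X ^ 13 + (-1) * X ^ 15 + (-1) * C ω * X ^ 15) * h2'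

theorem case_2_2_1 (A : Matrix (Fin 3) (Fin 3) F) (ω : F)
    (hω' : (C ω : F[X]) ^ 2 + C ω + 1 = 0) (h2' : (2 : F[X]) = 0)
    (hχ : A.charpoly = X ^ 3 + C ω * X ^ 2 + C ω * X + 1)
    (h15 : A ^ 15 = (1 : F) • (1 : Matrix (Fin 3) (Fin 3) F)) : Concl A := by
  refine close5 A _ h15 1 (0) (1 + C ω * X + X ^ 2) ?_
  rw [hχ]
  try simp only [map_add, map_one, map_zero]
  linear_combination (exp := 1) ((-1) * X ^ 2 + (-1) * X ^ 3) * hω' + ((-1) + (-1) * C ω * X + (-1) * C ω * X ^ 4) * h2'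

theorem case_2_2_2 (A : Matrix (Fin 3) (Fin 3) F) (ω : F)
    (hω' : (C ω : F[X]) ^ 2 + C ω + 1 = 0) (h2' : (2 : F[X]) = 0)
    (hχ : A.charpoly = X ^ 3 + C ω * X ^ 2 + C ω * X + 1)
    (h15 : A ^ 15 = (ω : F) • (1 : Matrix (Fin 3) (Fin 3) F)) : Concl A := by
  refine close1 A _ h15 (C ω) (C ω + (C ω + 1) * X + C ω * X ^ 2 + C ω * X ^ 5 + (C ω + 1) * X ^ 6 + C ω * X ^ 7 + C ω * X ^ 10 + (C ω + 1) * X ^ 11 + C ω * X ^ 12) ?_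
  rw [hχ]
  try simp only [map_add, map_one, map_zero]
  linear_combination (exp := 1) ((1) + (-1) * X + (-2) * X ^ 2 + (-2) * X ^ 3 + (-1) * X ^ 4 + (-1) * X ^ 6 + (-2) * X ^ 7 + (-2) * X ^ 8 + (-1) * X ^ 9 + (-1) * X ^ 11 + (-2) * X ^ 12 + (-2) * X ^ 13 + (-1) * X ^ 14) * hω' + ((-1) * C ω + (1) * X ^ 2 + (1) * X ^ 3 + (-1) * C ω * X ^ 5 + (1) * X ^ 7 + (1) * X ^ 8 + (-1) * C ω * X ^ 10 + (1) * X ^ 12 + (1) * X ^ 13 + (-1) * C ω * X ^ 15) * h2'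

theorem case_2_2_3 (A : Matrix (Fin 3) (Fin 3) F) (ω : F)
    (hω' : (C ω : F[X]) ^ 2 + C ω + 1 = 0) (h2' : (2 : F[X]) = 0)
    (hχ : A.charpoly = X ^ 3 + C ω * X ^ 2 + C ω * X + 1)
    (h15 : A ^ 15 = ((ω + 1) : F) • (1 : Matrix (Fin 3) (Fin 3) F)) : Concl A := by
  refine close1 A _ h15 ((C ω + 1)) ((C ω + 1) + X + (C ω + 1) * X ^ 2 + (C ω + 1) * X ^ 5 + X ^ 6 + (C ω + 1) * X ^ 7 + (C ω + 1) * X ^ 10 + X ^ 11 + (C ω + 1) * X ^ 12) ?_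
  rw [hχ]
  try simp only [map_add, map_one, map_zero]
  linear_combination (exp := 1) ((1) + (-1) * X + (-1) * X ^ 2 + (-1) * X ^ 3 + (-1) * X ^ 4 + (-1) * X ^ 6 + (-1) * X ^ 7 + (-1) * X ^ 8 + (-1) * X ^ 9 + (-1) * X ^ 11 + (-1) * X ^ 12 + (-1) * X ^ 13 + (-1) * X ^ 14) * hω' + ((-1) * C ω * X ^ 2 + (-1) * C ω * X ^ 3 + (-1) * X ^ 5 + (-1) * C ω * X ^ 5 + (-1) * C ω * X ^ 7 + (-1) * C ω * X ^ 8 + (-1) * X ^ 10 + (-1) * C ω * X ^ 10 + (-1) * C ω * X ^ 12 + (-1) * C ω * X ^ 13 + (-1) * X ^ 15 + (-1) * C ω * X ^ 15) * h2'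

theorem case_2_3_1 (A : Matrix (Fin 3) (Fin 3) F) (ω : F)
    (hω' : (C ω : F[X]) ^ 2 + C ω + 1 = 0) (h2' : (2 : F[X]) = 0)
    (hχ : A.charpoly = X ^ 3 + C ω * X ^ 2 + C (ω + 1) * X + 1)
    (h15 : A ^ 15 = (1 : F) • (1 : Matrix (Fin 3) (Fin 3) F)) : Concl A := by
  refine close5 A _ h15 (ω + 1) (C ω * X + X ^ 2 + (C ω + 1) * X ^ 3 + C ω * X ^ 4 + X ^ 5) ((C ω + 1) + C ω * X ^ 4 + X ^ 5 + X ^ 8 + (C ω + 1) * X ^ 9 + (C ω + 1) * X ^ 12 + C ω * X ^ 13 + X ^ 17) ?_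
  rw [hχ]
  try simp only [map_add, map_one, map_zero]
  linear_combination (exp := 1) ((-1) * X + (-1) * X ^ 2 + (-1) * X ^ 5 + (-1) * X ^ 6 + (-1) * X ^ 10 + (-1) * X ^ 11 + (-1) * X ^ 13 + (-2) * X ^ 14 + (-1) * X ^ 15) * hω' + ((-1) + (-1) * C ω + (1) * X ^ 2 + (1) * X ^ 5 + (-1) * C ω * X ^ 7 + (-1) * X ^ 8 + (-1) * X ^ 9 + (-1) * C ω * X ^ 9 + (-1) * C ω * X ^ 10 + (-1) * X ^ 12 + (-1) * C ω * X ^ 12 + (-1) * C ω * X ^ 13 + (1) * X ^ 14 + (-1) * C ω * X ^ 16 + (-1) * X ^ 17 + (-1) * X ^ 18 + (-1) * C ω * X ^ 18 + (-1) * C ω * X ^ 19 + (-1) * X ^ 20) * h2'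

theorem case_2_3_2 (A : Matrix (Fin 3) (Fin 3) F) (ω : F)
    (hω' : (C ω : F[X]) ^ 2 + C ω + 1 = 0) (h2' : (2 : F[X]) = 0)
    (hχ : A.charpoly = X ^ 3 + C ω * X ^ 2 + C (ω + 1) * X + 1)
    (h15 : A ^ 15 = (ω : F) • (1 : Matrix (Fin 3) (Fin 3) F)) : Concl A := by
  refine close1 A _ h15 ((C ω + 1) + C ω * X + (C ω + 1) * X ^ 2) ((C ω + 1) * X + (C ω + 1) * X ^ 2 + (C ω + 1) * X ^ 3 + C ω * X ^ 5 + C ω * X ^ 6 + C ω * X ^ 7 + X ^ 9 + X ^ 10 + X ^ 11 + (C ω + 1) * X ^ 13 + (C ω + 1) * X ^ 14) ?_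
  rw [hχ]
  try simp only [map_add, map_one, map_zero]
  linear_combination (exp := 1) ((1) + (1) * X + (-2) * X ^ 3 + (-2) * X ^ 4 + (-1) * X ^ 5 + (-1) * X ^ 6 + (-2) * X ^ 7 + (-2) * X ^ 8 + (-1) * X ^ 9 + (-1) * X ^ 14 + (-2) * X ^ 15 + (-1) * X ^ 16) * hω' + ((-1) * X + (-1) * C ω * X + (-1) * X ^ 2 + (-1) * C ω * X ^ 2 + (-1) * C ω * X ^ 3 + (-1) * C ω * X ^ 4 + (-1) * C ω * X ^ 5 + (-1) * C ω * X ^ 6 + (1) * X ^ 7 + (1) * X ^ 8 + (-1) * X ^ 10 + (-1) * C ω * X ^ 10 + (-1) * X ^ 11 + (-1) * C ω * X ^ 11 + (-1) * X ^ 12 + (-1) * C ω * X ^ 12 + (-1) * X ^ 13 + (-1) * C ω * X ^ 13 + (-1) * X ^ 14 + (-1) * C ω * X ^ 14 + (-1) * C ω * X ^ 15 + (-1) * C ω * X ^ 16 + (-1) * X ^ 17 + (-1) * C ω * X ^ 17) * h2'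

theorem case_2_3_3 (A : Matrix (Fin 3) (Fin 3) F) (ω : F)
    (hω' : (C ω : F[X]) ^ 2 + C ω + 1 = 0) (h2' : (2 : F[X]) = 0)
    (hχ : A.charpoly = X ^ 3 + C ω * X ^ 2 + C (ω + 1) * X + 1)
    (h15 : A ^ 15 = ((ω + 1) : F) • (1 : Matrix (Fin 3) (Fin 3) F)) : Concl A := by
  refine close1 A _ h15 (C ω + X + X ^ 2) ((C ω + 1) * X + X ^ 2 + C ω * X ^ 3 + C ω * X ^ 5 + (C ω + 1) * X ^ 6 + X ^ 7 + X ^ 9 + C ω * X ^ 10 + (C ω + 1) * X ^ 11 + (C ω + 1) * X ^ 13 + X ^ 14) ?_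
  rw [hχ]
  try simp only [map_add, map_one, map_zero]
  linear_combination (exp := 1) ((1) + (-1) * X ^ 2 + (-1) * X ^ 3 + (-1) * X ^ 4 + (-1) * X ^ 5 + (-1) * X ^ 6 + (-2) * X ^ 7 + (-1) * X ^ 8 + (-1) * X ^ 11 + (-2) * X ^ 12 + (-1) * X ^ 13 + (-1) * X ^ 14 + (-1) * X ^ 15) * hω' + ((-1) * C ω * X ^ 3 + (-1) * C ω * X ^ 4 + (-1) * C ω * X ^ 6 + (-1) * C ω * X ^ 8 + (-1) * X ^ 9 + (-1) * C ω * X ^ 9 + (-1) * X ^ 10 + (-1) * C ω * X ^ 10 + (-1) * C ω * X ^ 11 + (-1) * C ω * X ^ 13 + (-1) * X ^ 14 + (-1) * C ω * X ^ 14 + (-1) * C ω * X ^ 15 + (-1) * X ^ 16 + (-1) * C ω * X ^ 16 + (-1) * X ^ 17) * h2'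

theorem case_3_0_1 (A : Matrix (Fin 3) (Fin 3) F) (ω : F)
    (hω' : (C ω : F[X]) ^ 2 + C ω + 1 = 0) (h2' : (2 : F[X]) = 0)
    (hχ : A.charpoly = X ^ 3 + C (ω + 1) * X ^ 2 + C 0 * X + 1)
    (h15 : A ^ 15 = (1 : F) • (1 : Matrix (Fin 3) (Fin 3) F)) : Concl A := by
  refine close1 A _ h15 ((C ω + 1) * X ^ 2) (1 + X ^ 3 + (C ω + 1) * X ^ 5 + X ^ 6 + C ω * X ^ 7 + C ω * X ^ 10 + X ^ 12 + C ω * X ^ 13 + (C ω + 1) * X ^ 14) ?_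
  rw [hχ]
  try simp only [map_add, map_one, map_zero]
  linear_combination (exp := 1) ((-1) * X ^ 7 + (-1) * X ^ 9 + (-1) * X ^ 12 + (-1) * X ^ 15 + (-1) * X ^ 16) * hω' + ((-1) * X ^ 3 + (-1) * X ^ 5 + (-1) * C ω * X ^ 5 + (-1) * X ^ 6 + (-1) * C ω * X ^ 7 + (-1) * X ^ 8 + (-1) * C ω * X ^ 8 + (-1) * C ω * X ^ 10 + (-1) * C ω * X ^ 13 + (-1) * X ^ 14 + (-1) * C ω * X ^ 14 + (-1) * C ω * X ^ 16 + (-1) * X ^ 17 + (-1) * C ω * X ^ 17) * h2'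

theorem case_3_0_2 (A : Matrix (Fin 3) (Fin 3) F) (ω : F)
    (hω' : (C ω : F[X]) ^ 2 + C ω + 1 = 0) (h2' : (2 : F[X]) = 0)
    (hχ : A.charpoly = X ^ 3 + C (ω + 1) * X ^ 2 + C 0 * X + 1)
    (h15 : A ^ 15 = (ω : F) • (1 : Matrix (Fin 3) (Fin 3) F)) : Concl A := by
  refine close1 A _ h15 (C ω + C ω * X + X ^ 2) (C ω + (C ω + 1) * X + (C ω + 1) * X ^ 2 + X ^ 4 + (C ω + 1) * X ^ 5 + (C ω + 1) * X ^ 6 + (C ω + 1) * X ^ 7 + X ^ 8 + X ^ 9 + C ω * X ^ 11 + X ^ 12 + X ^ 13 + X ^ 14) ?_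
  rw [hχ]
  try simp only [map_add, map_one, map_zero]
  linear_combination (exp := 1) ((1) + (1) * X + (-1) * X ^ 2 + (-1) * X ^ 3 + (-1) * X ^ 4 + (-1) * X ^ 7 + (-1) * X ^ 8 + (-1) * X ^ 9 + (-1) * X ^ 13) * hω' + ((-1) * C ω + (-1) * X + (-1) * C ω * X + (-1) * C ω * X ^ 3 + (-1) * X ^ 4 + (-1) * C ω * X ^ 4 + (-1) * X ^ 5 + (-1) * C ω * X ^ 5 + (-1) * X ^ 6 + (-1) * C ω * X ^ 6 + (-1) * X ^ 7 + (-1) * C ω * X ^ 7 + (-1) * X ^ 8 + (-1) * C ω * X ^ 8 + (-1) * X ^ 9 + (-1) * C ω * X ^ 9 + (-1) * X ^ 10 + (-1) * C ω * X ^ 10 + (-1) * X ^ 11 + (-1) * C ω * X ^ 11 + (-1) * X ^ 12 + (-1) * X ^ 14 + (-1) * C ω * X ^ 14 + (-1) * X ^ 15 + (-1) * C ω * X ^ 15 + (-1) * X ^ 16 + (-1) * C ω * X ^ 16 + (-1) * X ^ 17) * h2'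

theorem case_3_0_3 (A : Matrix (Fin 3) (Fin 3) F) (ω : F)
    (hω' : (C ω : F[X]) ^ 2 + C ω + 1 = 0) (h2' : (2 : F[X]) = 0)
    (hχ : A.charpoly = X ^ 3 + C (ω + 1) * X ^ 2 + C 0 * X + 1)
    (h15 : A ^ 15 = ((ω + 1) : F) • (1 : Matrix (Fin 3) (Fin 3) F)) : Concl A := by
  refine close1 A _ h15 ((C ω + 1) + C ω * X + C ω * X ^ 2) ((C ω + 1) + X + (C ω + 1) * X ^ 2 + (C ω + 1) * X ^ 4 + (C ω + 1) * X ^ 5 + C ω * X ^ 6 + X ^ 7 + C ω * X ^ 8 + X ^ 9 + X ^ 11 + X ^ 12 + (C ω + 1) * X ^ 13 + C ω * X ^ 14) ?_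
  rw [hχ]
  try simp only [map_add, map_one, map_zero]
  linear_combination (exp := 1) ((1) + (1) * X + (-1) * X ^ 4 + (-1) * X ^ 6 + (-1) * X ^ 7 + (-1) * X ^ 8 + (-1) * X ^ 10 + (-1) * X ^ 15 + (-1) * X ^ 16) * hω' + ((-1) * X + (-1) * X ^ 2 + (-1) * C ω * X ^ 2 + (-1) * X ^ 3 + (-1) * C ω * X ^ 3 + (-1) * X ^ 4 + (-1) * C ω * X ^ 4 + (-1) * X ^ 5 + (-1) * C ω * X ^ 5 + (-1) * C ω * X ^ 6 + (-1) * X ^ 7 + (-1) * C ω * X ^ 7 + (-1) * C ω * X ^ 8 + (-1) * X ^ 9 + (-1) * C ω * X ^ 9 + (-1) * X ^ 11 + (-1) * C ω * X ^ 11 + (-1) * X ^ 12 + (-1) * X ^ 13 + (-1) * C ω * X ^ 13 + (-1) * X ^ 14 + (-1) * C ω * X ^ 14 + (-1) * X ^ 15 + (-1) * C ω * X ^ 15 + (-1) * C ω * X ^ 16 + (-1) * C ω * X ^ 17) * h2'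

theorem case_3_1_1 (A : Matrix (Fin 3) (Fin 3) F) (ω : F)
    (hω' : (C ω : F[X]) ^ 2 + C ω + 1 = 0) (h2' : (2 : F[X]) = 0)
    (hχ : A.charpoly = X ^ 3 + C (ω + 1) * X ^ 2 + C 1 * X + 1)
    (h15 : A ^ 15 = (1 : F) • (1 : Matrix (Fin 3) (Fin 3) F)) : Concl A := by
  refine close5 A _ h15 (ω + 1) (0) ((C ω + 1) + (C ω + 1) * X + X ^ 2) ?_
  rw [hχ]
  try simp only [map_add, map_one, map_zero]
  linear_combination (exp := 1) ((-1) * X ^ 2 + (-1) * X ^ 3) * hω' + ((-1) + (-1) * C ω + (-1) * X + (-1) * C ω * X + (-1) * X ^ 2 + (-1) * C ω * X ^ 2 + (-1) * X ^ 3 + (-1) * C ω * X ^ 3 + (-1) * X ^ 4 + (-1) * C ω * X ^ 4) * h2'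

theorem case_3_1_2 (A : Matrix (Fin 3) (Fin 3) F) (ω : F)
    (hω' : (C ω : F[X]) ^ 2 + C ω + 1 = 0) (h2' : (2 : F[X]) = 0)
    (hχ : A.charpoly = X ^ 3 + C (ω + 1) * X ^ 2 + C 1 * X + 1)
    (h15 : A ^ 15 = (ω : F) • (1 : Matrix (Fin 3) (Fin 3) F)) : Concl A := by
  refine close1 A _ h15 (C ω) (C ω + C ω * X + (C ω + 1) * X ^ 2 + (C ω + 1) * X ^ 5 + (C ω + 1) * X ^ 6 + X ^ 7 + X ^ 10 + X ^ 11 + C ω * X ^ 12) ?_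
  rw [hχ]
  try simp only [map_add, map_one, map_zero]
  linear_combination (exp := 1) ((1) + (-1) * X ^ 2 + (-1) * X ^ 3 + (-1) * X ^ 4 + (-1) * X ^ 7 + (-1) * X ^ 8 + (-1) * X ^ 14) * hω' + ((-1) * C ω + (-1) * C ω * X + (-1) * C ω * X ^ 2 + (-1) * C ω * X ^ 3 + (-1) * C ω * X ^ 4 + (-1) * X ^ 5 + (-1) * C ω * X ^ 5 + (-1) * X ^ 6 + (-1) * C ω * X ^ 6 + (-1) * X ^ 7 + (-1) * C ω * X ^ 7 + (-1) * X ^ 8 + (-1) * C ω * X ^ 8 + (-1) * X ^ 9 + (-1) * C ω * X ^ 9 + (-1) * X ^ 10 + (-1) * X ^ 11 + (-1) * X ^ 12 + (-1) * C ω * X ^ 12 + (-1) * X ^ 13 + (-1) * C ω * X ^ 13 + (-1) * C ω * X ^ 15) * h2'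

theorem case_3_1_3 (A : Matrix (Fin 3) (Fin 3) F) (ω : F)
    (hω' : (C ω : F[X]) ^ 2 + C ω + 1 = 0) (h2' : (2 : F[X]) = 0)
    (hχ : A.charpoly = X ^ 3 + C (ω + 1) * X ^ 2 + C 1 * X + 1)
    (h15 : A ^ 15 = ((ω + 1) : F) • (1 : Matrix (Fin 3) (Fin 3) F)) : Concl A := by
  refine close1 A _ h15 ((C ω + 1)) ((C ω + 1) + (C ω + 1) * X + X ^ 2 + X ^ 5 + X ^ 6 + C ω * X ^ 7 + C ω * X ^ 10 + C ω * X ^ 11 + (C ω + 1) * X ^ 12) ?_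
  rw [hχ]
  try simp only [map_add, map_one, map_zero]
  linear_combination (exp := 1) ((1) + (-1) * X ^ 2 + (-1) * X ^ 3 + (-1) * X ^ 9 + (-1) * X ^ 12 + (-1) * X ^ 13 + (-1) * X ^ 14) * hω' + ((-1) * X + (-1) * C ω * X + (-1) * X ^ 2 + (-1) * C ω * X ^ 2 + (-1) * X ^ 3 + (-1) * C ω * X ^ 3 + (-1) * X ^ 4 + (-1) * C ω * X ^ 4 + (-1) * X ^ 5 + (-1) * X ^ 6 + (-1) * X ^ 7 + (-1) * C ω * X ^ 7 + (-1) * X ^ 8 + (-1) * C ω * X ^ 8 + (-1) * C ω * X ^ 10 + (-1) * C ω * X ^ 11 + (-1) * C ω * X ^ 12 + (-1) * C ω * X ^ 13 + (-1) * C ω * X ^ 14 + (-1) * X ^ 15 + (-1) * C ω * X ^ 15) * h2'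

theorem case_3_2_1 (A : Matrix (Fin 3) (Fin 3) F) (ω : F)
    (hω' : (C ω : F[X]) ^ 2 + C ω + 1 = 0) (h2' : (2 : F[X]) = 0)
    (hχ : A.charpoly = X ^ 3 + C (ω + 1) * X ^ 2 + C ω * X + 1)
    (h15 : A ^ 15 = (1 : F) • (1 : Matrix (Fin 3) (Fin 3) F)) : Concl A := by
  refine close5 A _ h15 ω ((C ω + 1) * X + X ^ 2 + C ω * X ^ 3 + (C ω + 1) * X ^ 4 + X ^ 5) (C ω + (C ω + 1) * X ^ 4 + X ^ 5 + X ^ 8 + C ω * X ^ 9 + C ω * X ^ 12 + (C ω + 1) * X ^ 13 + X ^ 17) ?_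
  rw [hχ]
  try simp only [map_add, map_one, map_zero]
  linear_combination (exp := 1) ((-1) * X + (-1) * X ^ 2 + (-1) * X ^ 5 + (-1) * X ^ 6 + (-1) * X ^ 10 + (-1) * X ^ 11 + (-1) * X ^ 13 + (-2) * X ^ 14 + (-1) * X ^ 15) * hω' + ((-1) * C ω + (1) * X + (1) * C ω * X + (1) * X ^ 2 + (1) * X ^ 5 + (-1) * C ω * X ^ 6 + (-1) * X ^ 7 + (-1) * C ω * X ^ 7 + (-1) * X ^ 8 + (-1) * C ω * X ^ 9 + (-1) * C ω * X ^ 12 + (1) * X ^ 14 + (-1) * C ω * X ^ 15 + (-1) * X ^ 16 + (-1) * C ω * X ^ 16 + (-1) * X ^ 17 + (-1) * C ω * X ^ 18 + (-1) * X ^ 19 + (-1) * C ω * X ^ 19 + (-1) * X ^ 20) * h2'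

theorem case_3_2_2 (A : Matrix (Fin 3) (Fin 3) F) (ω : F)
    (hω' : (C ω : F[X]) ^ 2 + C ω + 1 = 0) (h2' : (2 : F[X]) = 0)
    (hχ : A.charpoly = X ^ 3 + C (ω + 1) * X ^ 2 + C ω * X + 1)
    (h15 : A ^ 15 = (ω : F) • (1 : Matrix (Fin 3) (Fin 3) F)) : Concl A := by
  refine close1 A _ h15 ((C ω + 1) + X + X ^ 2) (C ω * X + X ^ 2 + (C ω + 1) * X ^ 3 + (C ω + 1) * X ^ 5 + C ω * X ^ 6 + X ^ 7 + X ^ 9 + (C ω + 1) * X ^ 10 + C ω * X ^ 11 + C ω * X ^ 13 + X ^ 14) ?_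
  rw [hχ]
  try simp only [map_add, map_one, map_zero]
  linear_combination (exp := 1) ((1) + (-1) * X ^ 2 + (-1) * X ^ 3 + (-1) * X ^ 4 + (-1) * X ^ 5 + (-1) * X ^ 6 + (-2) * X ^ 7 + (-1) * X ^ 8 + (-1) * X ^ 11 + (-2) * X ^ 12 + (-1) * X ^ 13 + (-1) * X ^ 14 + (-1) * X ^ 15) * hω' + ((1) * C ω * X ^ 2 + (-1) * C ω * X ^ 3 + (-1) * C ω * X ^ 4 + (-1) * X ^ 5 + (-1) * C ω * X ^ 5 + (-1) * C ω * X ^ 6 + (-1) * C ω * X ^ 8 + (-1) * X ^ 9 + (-1) * C ω * X ^ 9 + (-1) * X ^ 10 + (-1) * C ω * X ^ 10 + (-1) * C ω * X ^ 11 + (-1) * C ω * X ^ 13 + (-1) * C ω * X ^ 15 + (-1) * X ^ 16 + (-1) * C ω * X ^ 16 + (-1) * X ^ 17) * h2'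

theorem case_3_2_3 (A : Matrix (Fin 3) (Fin 3) F) (ω : F)
    (hω' : (C ω : F[X]) ^ 2 + C ω + 1 = 0) (h2' : (2 : F[X]) = 0)
    (hχ : A.charpoly = X ^ 3 + C (ω + 1) * X ^ 2 + C ω * X + 1)
    (h15 : A ^ 15 = ((ω + 1) : F) • (1 : Matrix (Fin 3) (Fin 3) F)) : Concl A := by
  refine close1 A _ h15 (C ω + (C ω + 1) * X + C ω * X ^ 2) (C ω * X + C ω * X ^ 2 + C ω * X ^ 3 + (C ω + 1) * X ^ 5 + (C ω + 1) * X ^ 6 + (C ω + 1) * X ^ 7 + X ^ 9 + X ^ 10 + X ^ 11 + C ω * X ^ 13 + C ω * X ^ 14) ?_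
  rw [hχ]
  try simp only [map_add, map_one, map_zero]
  linear_combination (exp := 1) ((1) + (1) * X + (-2) * X ^ 3 + (-2) * X ^ 4 + (-1) * X ^ 5 + (-1) * X ^ 6 + (-2) * X ^ 7 + (-2) * X ^ 8 + (-1) * X ^ 9 + (-1) * X ^ 14 + (-2) * X ^ 15 + (-1) * X ^ 16) * hω' + ((1) * X ^ 3 + (1) * X ^ 4 + (-1) * C ω * X ^ 5 + (-1) * C ω * X ^ 6 + (-1) * C ω * X ^ 7 + (-1) * C ω * X ^ 8 + (-1) * X ^ 9 + (-1) * C ω * X ^ 9 + (-1) * X ^ 10 + (-1) * C ω * X ^ 10 + (-1) * X ^ 11 + (-1) * C ω * X ^ 11 + (-1) * X ^ 12 + (-1) * C ω * X ^ 12 + (-1) * X ^ 13 + (-1) * C ω * X ^ 13 + (1) * X ^ 15 + (-1) * C ω * X ^ 16 + (-1) * C ω * X ^ 17) * h2'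

theorem case_3_3_1 (A : Matrix (Fin 3) (Fin 3) F) (ω : F)
    (hω' : (C ω : F[X]) ^ 2 + C ω + 1 = 0) (h2' : (2 : F[X]) = 0)
    (hχ : A.charpoly = X ^ 3 + C (ω + 1) * X ^ 2 + C (ω + 1) * X + 1)
    (h15 : A ^ 15 = (1 : F) • (1 : Matrix (Fin 3) (Fin 3) F)) : Concl A := by
  refine close5 A _ h15 1 (0) (1 + (C ω + 1) * X + X ^ 2) ?_
  rw [hχ]
  try simp only [map_add, map_one, map_zero]
  linear_combination (exp := 1) ((-1) * X ^ 2 + (-1) * X ^ 3) * hω' + ((-1) + (-1) * X + (-1) * C ω * X + (-1) * X ^ 2 + (-1) * C ω * X ^ 2 + (-1) * X ^ 3 + (-1) * C ω * X ^ 3 + (-1) * X ^ 4 + (-1) * C ω * X ^ 4) * h2'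

theorem case_3_3_2 (A : Matrix (Fin 3) (Fin 3) F) (ω : F)
    (hω' : (C ω : F[X]) ^ 2 + C ω + 1 = 0) (h2' : (2 : F[X]) = 0)
    (hχ : A.charpoly = X ^ 3 + C (ω + 1) * X ^ 2 + C (ω + 1) * X + 1)
    (h15 : A ^ 15 = (ω : F) • (1 : Matrix (Fin 3) (Fin 3) F)) : Concl A := by
  refine close1 A _ h15 (C ω) (C ω + X + C ω * X ^ 2 + C ω * X ^ 5 + X ^ 6 + C ω * X ^ 7 + C ω * X ^ 10 + X ^ 11 + C ω * X ^ 12) ?_
  rw [hχ]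
  try simp only [map_add, map_one, map_zero]
  linear_combination (exp := 1) ((1) + (-1) * X + (-1) * X ^ 2 + (-1) * X ^ 3 + (-1) * X ^ 4 + (-1) * X ^ 6 + (-1) * X ^ 7 + (-1) * X ^ 8 + (-1) * X ^ 9 + (-1) * X ^ 11 + (-1) * X ^ 12 + (-1) * X ^ 13 + (-1) * X ^ 14) * hω' + ((-1) * C ω + (-1) * C ω * X ^ 2 + (-1) * C ω * X ^ 3 + (-1) * C ω * X ^ 5 + (-1) * C ω * X ^ 7 + (-1) * C ω * X ^ 8 + (-1) * C ω * X ^ 10 + (-1) * C ω * X ^ 12 + (-1) * C ω * X ^ 13 + (-1) * C ω * X ^ 15) * h2'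

theorem case_3_3_3 (A : Matrix (Fin 3) (Fin 3) F) (ω : F)
    (hω' : (C ω : F[X]) ^ 2 + C ω + 1 = 0) (h2' : (2 : F[X]) = 0)
    (hχ : A.charpoly = X ^ 3 + C (ω + 1) * X ^ 2 + C (ω + 1) * X + 1)
    (h15 : A ^ 15 = ((ω + 1) : F) • (1 : Matrix (Fin 3) (Fin 3) F)) : Concl A := by
  refine close1 A _ h15 ((C ω + 1)) ((C ω + 1) + C ω * X + (C ω + 1) * X ^ 2 + (C ω + 1) * X ^ 5 + C ω * X ^ 6 + (C ω + 1) * X ^ 7 + (C ω + 1) * X ^ 10 + C ω * X ^ 11 + (C ω + 1) * X ^ 12) ?_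
  rw [hχ]
  try simp only [map_add, map_one, map_zero]
  linear_combination (exp := 1) ((1) + (-1) * X + (-2) * X ^ 2 + (-2) * X ^ 3 + (-1) * X ^ 4 + (-1) * X ^ 6 + (-2) * X ^ 7 + (-2) * X ^ 8 + (-1) * X ^ 9 + (-1) * X ^ 11 + (-2) * X ^ 12 + (-2) * X ^ 13 + (-1) * X ^ 14) * hω' + ((-1) * C ω * X + (-1) * C ω * X ^ 2 + (-1) * C ω * X ^ 3 + (-1) * C ω * X ^ 4 + (-1) * X ^ 5 + (-1) * C ω * X ^ 5 + (-1) * C ω * X ^ 6 + (-1) * C ω * X ^ 7 + (-1) * C ω * X ^ 8 + (-1) * C ω * X ^ 9 + (-1) * X ^ 10 + (-1) * C ω * X ^ 10 + (-1) * C ω * X ^ 11 + (-1) * C ω * X ^ 12 + (-1) * C ω * X ^ 13 + (-1) * C ω * X ^ 14 + (-1) * X ^ 15 + (-1) * C ω * X ^ 15) * h2'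

end

section
variable {F : Type*} [Field F] [Fintype F]

theorem two_eq_zero_of_card (hF : Fintype.card F = 4) : (2 : F) = 0 := by
  have : Fact (Nat.Prime 2) := ⟨by norm_num⟩
  have : CharP F 2 := charP_of_card_eq_prime_pow (f := 2) (by rw [hF]; norm_num)
  exact CharTwo.two_eq_zero

theorem exists_omega (hF : Fintype.card F = 4) :
    ∃ ω : F, ω ^ 2 + ω + 1 = 0 ∧ ∀ x : F, x = 0 ∨ x = 1 ∨ x = ω ∨ x = ω + 1 := by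
  have h2 := two_eq_zero_of_card hF
  have hp : ∀ t : F, t ^ 4 = t := by
    intro t
    have := FiniteField.pow_card t
    rwa [hF] at this
  classical
  obtain ⟨ω, -, hω⟩ : ∃ x ∈ (Finset.univ : Finset F), x ∉ ({0, 1} : Finset F) := by
    apply Finset.exists_mem_notMem_of_card_lt_card
    calc ({0, 1} : Finset F).card ≤ 2 := Finset.card_le_two
      _ < Finset.univ.card := by rw [Finset.card_univ, hF]; norm_num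
  simp only [Finset.mem_insert, Finset.mem_singleton, not_or] at hω
  have hω2 : ω ^ 2 + ω + 1 = 0 := by
    have h : ω * ((ω - 1) * (ω ^ 2 + ω + 1)) = 0 := by
      linear_combination hp ω
    rcases mul_eq_zero.mp h with h | h
    · exact absurd h hω.1
    rcases mul_eq_zero.mp h with h | h
    · exact absurd (sub_eq_zero.mp h) hω.2
    · exact h
  refine ⟨ω, hω2, fun x => ?_⟩
  have h : x * ((x - 1) * ((x - ω) * (x - (ω + 1)))) = 0 := by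
    linear_combination hp x + (x ^ 2 - x) * hω2 + (-(ω + 1) * x ^ 3 + ω * x ^ 2 + x) * h2
  rcases mul_eq_zero.mp h with h | h
  · left; exact h
  rcases mul_eq_zero.mp h with h | h
  · right; left; exact sub_eq_zero.mp h
  rcases mul_eq_zero.mp h with h | h
  · right; right; left; exact sub_eq_zero.mp h
  · right; right; right; exact sub_eq_zero.mp h

theorem key (hF : Fintype.card F = 4) (A : Matrix (Fin 3) (Fin 3) F) (hA : A.det = 1) (ζ : F)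
    (hζ : ζ ≠ 0) (h15 : A ^ 15 = ζ • (1 : Matrix (Fin 3) (Fin 3) F)) : Concl A := by
  have h2 := two_eq_zero_of_card hF
  obtain ⟨ω, hω, hall⟩ := exists_omega hF
  obtain ⟨a, b, hχ⟩ := charpoly_eq h2 A hA
  have hω' : (C ω : F[X]) ^ 2 + C ω + 1 = 0 := by
    rw [← C_pow, ← C_add, ← C_1, ← C_add, hω, C_0]
  have h2' : (2 : F[X]) = 0 := by
    have := congrArg (C : F → F[X]) h2
    rwa [C_0, map_ofNat] at this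
  rcases hall ζ with hz | hz | hz | hz
  · exact absurd hz hζ
  · rw [hz] at h15
    rcases hall a with ha | ha | ha | ha <;> rcases hall b with hb | hb | hb | hb <;> rw [ha, hb] at hχ
    · exact case_0_0_1 A ω hω' h2' hχ h15
    · exact case_0_1_1 A ω hω' h2' hχ h15
    · exact case_0_2_1 A ω hω' h2' hχ h15
    · exact case_0_3_1 A ω hω' h2' hχ h15
    · exact case_1_0_1 A ω hω' h2' hχ h15
    · exact case_1_1_1 A ω hω' h2' hχ h15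
    · exact case_1_2_1 A ω hω' h2' hχ h15
    · exact case_1_3_1 A ω hω' h2' hχ h15
    · exact case_2_0_1 A ω hω' h2' hχ h15
    · exact case_2_1_1 A ω hω' h2' hχ h15
    · exact case_2_2_1 A ω hω' h2' hχ h15
    · exact case_2_3_1 A ω hω' h2' hχ h15
    · exact case_3_0_1 A ω hω' h2' hχ h15
    · exact case_3_1_1 A ω hω' h2' hχ h15
    · exact case_3_2_1 A ω hω' h2' hχ h15
    · exact case_3_3_1 A ω hω' h2' hχ h15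
  · rw [hz] at h15
    rcases hall a with ha | ha | ha | ha <;> rcases hall b with hb | hb | hb | hb <;> rw [ha, hb] at hχ
    · exact case_0_0_2 A ω hω' h2' hχ h15
    · exact case_0_1_2 A ω hω' h2' hχ h15
    · exact case_0_2_2 A ω hω' h2' hχ h15
    · exact case_0_3_2 A ω hω' h2' hχ h15
    · exact case_1_0_2 A ω hω' h2' hχ h15
    · exact case_1_1_2 A ω hω' h2' hχ h15
    · exact case_1_2_2 A ω hω' h2' hχ h15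
    · exact case_1_3_2 A ω hω' h2' hχ h15
    · exact case_2_0_2 A ω hω' h2' hχ h15
    · exact case_2_1_2 A ω hω' h2' hχ h15
    · exact case_2_2_2 A ω hω' h2' hχ h15
    · exact case_2_3_2 A ω hω' h2' hχ h15
    · exact case_3_0_2 A ω hω' h2' hχ h15
    · exact case_3_1_2 A ω hω' h2' hχ h15
    · exact case_3_2_2 A ω hω' h2' hχ h15
    · exact case_3_3_2 A ω hω' h2' hχ h15
  · rw [hz] at h15
    rcases hall a with ha | ha | ha | ha <;> rcases hall b with hb | hb | hb | hb <;> rw [ha, hb] at hχ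
    · exact case_0_0_3 A ω hω' h2' hχ h15
    · exact case_0_1_3 A ω hω' h2' hχ h15
    · exact case_0_2_3 A ω hω' h2' hχ h15
    · exact case_0_3_3 A ω hω' h2' hχ h15
    · exact case_1_0_3 A ω hω' h2' hχ h15
    · exact case_1_1_3 A ω hω' h2' hχ h15
    · exact case_1_2_3 A ω hω' h2' hχ h15
    · exact case_1_3_3 A ω hω' h2' hχ h15
    · exact case_2_0_3 A ω hω' h2' hχ h15
    · exact case_2_1_3 A ω hω' h2' hχ h15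
    · exact case_2_2_3 A ω hω' h2' hχ h15
    · exact case_2_3_3 A ω hω' h2' hχ h15
    · exact case_3_0_3 A ω hω' h2' hχ h15
    · exact case_3_1_3 A ω hω' h2' hχ h15
    · exact case_3_2_3 A ω hω' h2' hχ h15
    · exact case_3_3_3 A ω hω' h2' hχ h15

end

/-- No element of PSL_3(4) has order 15. -/
theorem result {F : Type*} [Field F] [Fintype F] (hF : Fintype.card F = 4) (g : Matrix.ProjectiveSpecialLinearGroup (Fin 3) F) : orderOf g ≠ 15 := by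
  intro h
  obtain ⟨M, rfl⟩ := QuotientGroup.mk_surjective g
  have h15 : (QuotientGroup.mk M : Matrix.ProjectiveSpecialLinearGroup (Fin 3) F) ^ 15 = 1 := by
    rw [← h]; exact pow_orderOf_eq_one _
  have h3 : (QuotientGroup.mk M : Matrix.ProjectiveSpecialLinearGroup (Fin 3) F) ^ 3 ≠ 1 :=
    pow_ne_one_of_lt_orderOf (by norm_num) (by rw [h]; norm_num)
  have h5 : (QuotientGroup.mk M : Matrix.ProjectiveSpecialLinearGroup (Fin 3) F) ^ 5 ≠ 1 :=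
    pow_ne_one_of_lt_orderOf (by norm_num) (by rw [h]; norm_num)
  rw [← QuotientGroup.mk_pow, QuotientGroup.eq_one_iff,
    Matrix.SpecialLinearGroup.mem_center_iff] at h15
  obtain ⟨ζ, hζ, hM⟩ := h15
  have hζ0 : ζ ≠ 0 := by
    rintro rfl
    simp at hζ
  have hM' : (M : Matrix (Fin 3) (Fin 3) F) ^ 15 = ζ • (1 : Matrix (Fin 3) (Fin 3) F) := by
    rw [← Matrix.SpecialLinearGroup.coe_pow, ← hM]
    ext i j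
    simp [Matrix.one_apply, Matrix.diagonal_apply]
  have hcenter : ∀ (n : ℕ) (c : F), (M : Matrix (Fin 3) (Fin 3) F) ^ n = c • (1 : Matrix (Fin 3) (Fin 3) F) →
      (QuotientGroup.mk M : Matrix.ProjectiveSpecialLinearGroup (Fin 3) F) ^ n = 1 := by
    intro n c hc
    rw [← QuotientGroup.mk_pow, QuotientGroup.eq_one_iff, Matrix.SpecialLinearGroup.mem_center_iff]
    refine ⟨c, ?_, ?_⟩
    · have hdet := congrArg Matrix.det hc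
      rw [Matrix.det_pow, M.2, one_pow, Matrix.det_smul, Matrix.det_one, mul_one] at hdet
      exact hdet.symm
    · rw [Matrix.SpecialLinearGroup.coe_pow, hc]
      ext i j
      simp [Matrix.one_apply, Matrix.diagonal_apply]
  rcases key hF M.1 M.2 ζ hζ0 hM' with ⟨c, hc⟩ | ⟨c, hc⟩
  · exact h3 (hcenter 3 c hc)
  · exact h5 (hcenter 5 c hc)

end Cfsg.Agent.S0819
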