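import Mathlib
import Cfsg.Statements.S0839
-- import your own Cfsg.Agent.* helpers here

set_option autoImplicit false
open Cfsg

namespace Cfsg.Agent.S0839

open Matrix

/-- A rank one matrix is an outer product. -/
theorem exists_vecMulVec_of_rank_one {F : Type*} [Field F] {ι : Type*} [Fintype ι] [DecidableEq ι]
    (N : Matrix ι ι F) (h : N.rank = 1) : ∃ a b : ι → F, N = vecMulVec a b := by
  unfold Matrix.rank at h
  rw [finrank_eq_one_iff'] at h
  obtain ⟨⟨a, ha⟩, _, hspan⟩ := h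
  have hcol : ∀ j : ι, ∃ c : F, c • a = N *ᵥ (Pi.single j 1) := by
    intro j
    obtain ⟨c, hc⟩ := hspan ⟨N *ᵥ (Pi.single j 1), ⟨Pi.single j 1, rfl⟩⟩
    refine ⟨c, ?_⟩
    have := congrArg Subtype.val hc
    simpa using this
  choose b hb using hcol
  refine ⟨a, b, ?_⟩
  ext i j
  have := congrFun (hb j) i
  simp only [Pi.smul_apply, smul_eq_mul, mulVec_single_one] at this
  rw [vecMulVec_apply, mul_comm, this]
  rfl

theorem det_one_add_vecMulVec {F : Type*} [Field F] {ι : Type*} [Fintype ι] [DecidableEq ι]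
    (u w : ι → F) : (1 + vecMulVec u w).det = 1 + w ⬝ᵥ u := by
  rw [vecMulVec_eq Unit, det_one_add_replicateCol_mul_replicateRow]

/-- Move a nonzero row vector to a multiple of the first coordinate vector by an element of SL. -/
theorem exists_sl_vecMul {F : Type*} [Field F] (n : ℕ) (b : Fin (n + 2) → F) (hb : b ≠ 0) :
    ∃ (g : Matrix.SpecialLinearGroup (Fin (n + 2)) F) (β : F),
      b ᵥ* (g : Matrix (Fin (n + 2)) (Fin (n + 2)) F) = β • Pi.single 0 1 := by
  -- find u, β with b ⬝ u = 1, β * u 0 = 1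
  obtain ⟨u, β, hbu, hβ⟩ : ∃ (u : Fin (n + 2) → F) (β : F), b ⬝ᵥ u = 1 ∧ β * u 0 = 1 := by
    by_cases h0 : b 0 = 0
    · obtain ⟨k, hk⟩ : ∃ k, b k ≠ 0 := by
        by_contra hcon
        push Not at hcon
        exact hb (funext hcon)
      have hk0 : k ≠ 0 := by
        rintro rfl; exact hk h0
      refine ⟨(b k)⁻¹ • Pi.single k 1 + Pi.single 0 1, 1, ?_, ?_⟩
      · rw [dotProduct_add, dotProduct_smul, dotProduct_single, dotProduct_single, h0]
        simp [hk]
      · simp [hk0.symm]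
    · refine ⟨(b 0)⁻¹ • Pi.single 0 1, b 0, ?_, ?_⟩
      · rw [dotProduct_smul, dotProduct_single]
        simp [h0]
      · simp [h0]
  let w : Fin (n + 2) → F := β • Pi.single 0 1 - b
  have hdet : (1 + vecMulVec u w).det = 1 := by
    rw [det_one_add_vecMulVec]
    simp only [w, sub_dotProduct, smul_dotProduct, single_dotProduct, one_mul, smul_eq_mul, hβ, hbu]
    ring
  refine ⟨⟨1 + vecMulVec u w, hdet⟩, β, ?_⟩
  show b ᵥ* (1 + vecMulVec u w) = β • Pi.single 0 1
  rw [vecMul_add, vecMul_one, vecMul_vecMulVec, hbu, one_smul]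
  simp [w]


/-- Every transvection t ∈ SL_(n+2)(F) (rank(t − 1) = 1, (t − 1)² = 0) is conjugate in SL_(n+2)(F) to 1 + v·e_0ᵀ for some column vector v with v_0 = 0 (the group A of matrices that are the identity except in the first column below the diagonal); the dimension is written n + 2 ≥ 2. -/
theorem result {F : Type*} [Field F] (n : ℕ) (t : Matrix.SpecialLinearGroup (Fin (n + 2)) F) (ht : Cfsg.IsTransvection (t : Matrix (Fin (n + 2)) (Fin (n + 2)) F)) : ∃ (g : Matrix.SpecialLinearGroup (Fin (n + 2)) F) (v : Fin (n + 2) → F), v 0 = 0 ∧ ((g⁻¹ * t * g : Matrix.SpecialLinearGroup (Fin (n + 2)) F) : Matrix (Fin (n + 2)) (Fin (n + 2)) F) = 1 + Matrix.vecMulVec v (Pi.single 0 1) := by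
  obtain ⟨hrank, hsq⟩ := ht
  obtain ⟨a, b, hab⟩ := exists_vecMulVec_of_rank_one _ hrank
  have hN0 : vecMulVec a b ≠ 0 := by
    intro h0
    rw [← hab] at h0
    rw [h0, Matrix.rank_zero] at hrank
    exact zero_ne_one hrank
  have hb0 : b ≠ 0 := by
    rintro rfl
    apply hN0
    ext i j; simp [vecMulVec_apply]
  have hba : b ⬝ᵥ a = 0 := by
    rw [hab, vecMulVec_mul_vecMulVec, vecMulVec_smul] at hsq
    rcases smul_eq_zero.mp hsq with h | h
    · exact h
    · exact absurd h hN0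
  obtain ⟨g, β, hg⟩ := exists_sl_vecMul n b hb0
  set G : Matrix (Fin (n + 2)) (Fin (n + 2)) F := (g : Matrix (Fin (n + 2)) (Fin (n + 2)) F) with hG
  set Gi : Matrix (Fin (n + 2)) (Fin (n + 2)) F := ((g⁻¹ : Matrix.SpecialLinearGroup (Fin (n + 2)) F) : Matrix (Fin (n + 2)) (Fin (n + 2)) F) with hGi
  have hGiG : Gi * G = 1 := by
    rw [hGi, hG, ← Matrix.SpecialLinearGroup.coe_mul, inv_mul_cancel]; rfl
  have hGGi : G * Gi = 1 := by
    rw [hGi, hG, ← Matrix.SpecialLinearGroup.coe_mul, mul_inv_cancel]; rfl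
  have htm : (t : Matrix (Fin (n + 2)) (Fin (n + 2)) F) = 1 + vecMulVec a b := by
    rw [← hab]; abel
  refine ⟨g, β • (Gi *ᵥ a), ?_, ?_⟩
  · -- v 0 = 0
    have h1 : (β • (Gi *ᵥ a)) 0 = (β • (Pi.single 0 1 : Fin (n + 2) → F)) ⬝ᵥ (Gi *ᵥ a) := by
      rw [smul_dotProduct, single_dotProduct]
      simp
    rw [h1, ← hg, dotProduct_mulVec, vecMul_vecMul, hGGi, vecMul_one, hba]
  · rw [Matrix.SpecialLinearGroup.coe_mul, Matrix.SpecialLinearGroup.coe_mul, ← hG, ← hGi, htm,
      mul_add, add_mul, mul_one, hGiG, mul_vecMulVec, vecMulVec_mul, hg, vecMulVec_smul,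
      smul_vecMulVec]

end Cfsg.Agent.S0839
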