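import Mathlib
import Cfsg.Statements.S0820
import Cfsg.Agent.S0839
-- import your own Cfsg.Agent.* helpers here

set_option autoImplicit false
open Cfsg

namespace Cfsg.Agent.S0820

open Matrix

theorem two_eq_zero_of_card_four {F : Type*} [Field F] [Fintype F] (hF : Fintype.card F = 4) :
    (2 : F) = 0 := by
  have h4 : ((Fintype.card F : ℕ) : F) = 0 := Nat.cast_card_eq_zero F
  rw [hF] at h4
  have : (2 : F) * 2 = 0 := by
    have : ((4 : ℕ) : F) = 2 * 2 := by norm_num
    rw [← this]; exact h4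
  exact mul_self_eq_zero.mp this

/-- lift an involution of PSL₃ to an involution of SL₃ -/
theorem exists_involution_lift {F : Type*} [Field F]
    (x : Matrix.ProjectiveSpecialLinearGroup (Fin 3) F) (hx : orderOf x = 2) :
    ∃ A : Matrix.SpecialLinearGroup (Fin 3) F,
      (QuotientGroup.mk A : Matrix.ProjectiveSpecialLinearGroup (Fin 3) F) = x ∧
      A * A = 1 ∧ A ≠ 1 := by
  obtain ⟨A₀, rfl⟩ := QuotientGroup.mk_surjective x
  have h2 : (QuotientGroup.mk A₀ : Matrix.ProjectiveSpecialLinearGroup (Fin 3) F) ^ 2 = 1 := by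
    rw [← hx]; exact pow_orderOf_eq_one _
  rw [← QuotientGroup.mk_pow, QuotientGroup.eq_one_iff] at h2
  -- Z := A₀² is central
  set Z : Matrix.SpecialLinearGroup (Fin 3) F := A₀ ^ 2 with hZ
  have hZc : ∀ B : Matrix.SpecialLinearGroup (Fin 3) F, B * Z = Z * B :=
    fun B => Subgroup.mem_center_iff.mp h2 B
  have hZ3 : Z * Z * Z = 1 := by
    obtain ⟨r, hr3, hr⟩ := Matrix.SpecialLinearGroup.mem_center_iff.mp h2
    rw [Fintype.card_fin] at hr3
    apply Subtype.ext
    rw [Matrix.SpecialLinearGroup.coe_mul, Matrix.SpecialLinearGroup.coe_mul, ← hr, ← map_mul,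
      ← map_mul, ← pow_two, ← pow_succ, hr3, map_one]
    rfl
  refine ⟨Z * A₀, ?_, ?_, ?_⟩
  · rw [QuotientGroup.mk_mul, (QuotientGroup.eq_one_iff Z).mpr h2, one_mul]
  · calc Z * A₀ * (Z * A₀) = Z * (A₀ * Z) * A₀ := by group
      _ = Z * (Z * A₀) * A₀ := by rw [hZc A₀]
      _ = Z * Z * (A₀ * A₀) := by group
      _ = Z * Z * Z := by rw [hZ, pow_two]
      _ = 1 := hZ3
  · intro h1
    have : (QuotientGroup.mk A₀ : Matrix.ProjectiveSpecialLinearGroup (Fin 3) F) = 1 := by
      have h3 : (QuotientGroup.mk (Z * A₀) : Matrix.ProjectiveSpecialLinearGroup (Fin 3) F) = 1 := by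
        rw [h1]; rfl
      rwa [QuotientGroup.mk_mul, (QuotientGroup.eq_one_iff Z).mpr h2, one_mul] at h3
    rw [this, orderOf_one] at hx
    norm_num at hx

/-- a nonzero square-zero 3×3 matrix has rank one -/
theorem rank_eq_one_of_sq_zero {F : Type*} [Field F] (N : Matrix (Fin 3) (Fin 3) F) (hN : N ≠ 0)
    (hsq : N * N = 0) : N.rank = 1 := by
  unfold Matrix.rank
  set f := N.mulVecLin with hf
  have hle : LinearMap.range f ≤ LinearMap.ker f := by
    rintro _ ⟨v, rfl⟩
    rw [LinearMap.mem_ker, hf, Matrix.mulVecLin_apply, Matrix.mulVecLin_apply, Matrix.mulVec_mulVec,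
      hsq, Matrix.zero_mulVec]
  have h1 := LinearMap.finrank_range_add_finrank_ker f
  rw [Module.finrank_fin_fun] at h1
  have h2 := Submodule.finrank_mono hle
  have h3 : Module.finrank F (LinearMap.range f) ≠ 0 := by
    intro h0
    rw [Submodule.finrank_eq_zero] at h0
    apply hN
    have : f = 0 := LinearMap.range_eq_bot.mp h0
    rw [hf] at this
    ext i j
    have := congrFun (congrArg (fun g => g (Pi.single j 1)) this) i
    simpa using this
  omega

/-- the standard root element -/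
def T0 (F : Type*) [Field F] : Matrix.SpecialLinearGroup (Fin 3) F :=
  ⟨Matrix.transvection 1 0 1, Matrix.det_transvection_of_ne _ _ (by decide) _⟩

/-- every `1 + v e₀ᵀ` with `v ≠ 0`, `v 0 = 0` is conjugate in `SL₃` to the standard one -/
theorem isConj_T0 {F : Type*} [Field F] (t : Matrix.SpecialLinearGroup (Fin 3) F)
    (v : Fin 3 → F) (hv0 : v 0 = 0) (hv : v ≠ 0)
    (ht : (t : Matrix (Fin 3) (Fin 3) F) = 1 + Matrix.vecMulVec v (Pi.single 0 1)) :
    IsConj (T0 F) t := by
  rw [isConj_iff]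
  -- h = [[1,0,0],[0,v1,q],[0,v2,s]]
  obtain ⟨q, s, hdet⟩ : ∃ q s : F, v 1 * s - q * v 2 = 1 := by
    by_cases h1 : v 1 = 0
    · have h2 : v 2 ≠ 0 := by
        intro h2
        apply hv
        ext i
        fin_cases i <;> simp [hv0, h1, h2]
      refine ⟨-(v 2)⁻¹, 0, ?_⟩
      rw [h1]; field_simp; ring
    · refine ⟨0, (v 1)⁻¹, ?_⟩
      field_simp
      ring
  let h : Matrix.SpecialLinearGroup (Fin 3) F :=
    ⟨!![1, 0, 0; 0, v 1, q; 0, v 2, s], by
      rw [Matrix.det_fin_three]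
      simp
      linear_combination hdet⟩
  refine ⟨h, ?_⟩
  rw [mul_inv_eq_iff_eq_mul]
  apply Subtype.ext
  rw [Matrix.SpecialLinearGroup.coe_mul, Matrix.SpecialLinearGroup.coe_mul, ht]
  show !![1, 0, 0; 0, v 1, q; 0, v 2, s] * Matrix.transvection 1 0 1
    = (1 + Matrix.vecMulVec v (Pi.single 0 1)) * !![1, 0, 0; 0, v 1, q; 0, v 2, s]
  ext i j
  fin_cases i <;> fin_cases j <;>
    simp [Matrix.mul_apply, Fin.sum_univ_three, Matrix.transvection, Matrix.single_apply,
      Matrix.vecMulVec_apply, Matrix.one_apply, hv0, Pi.single_apply]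

theorem isConj_T0_of_involution {F : Type*} [Field F] [Fintype F] (hF : Fintype.card F = 4)
    (A : Matrix.SpecialLinearGroup (Fin 3) F) (hA2 : A * A = 1) (hA1 : A ≠ 1) :
    IsConj (T0 F) A := by
  have h2 := two_eq_zero_of_card_four hF
  set M : Matrix (Fin 3) (Fin 3) F := (A : Matrix (Fin 3) (Fin 3) F) with hM
  have hMM : M * M = 1 := by
    rw [hM, ← Matrix.SpecialLinearGroup.coe_mul, hA2]; rfl
  have hN0 : M - 1 ≠ 0 := by
    intro h
    apply hA1
    apply Subtype.ext
    exact sub_eq_zero.mp h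
  have hsq : (M - 1) * (M - 1) = 0 := by
    have : (M - 1) * (M - 1) = M * M - (2 : F) • M + 1 := by
      rw [two_smul]; noncomm_ring
    rw [this, hMM, h2, zero_smul, sub_zero]
    have : (1 : Matrix (Fin 3) (Fin 3) F) + 1 = (2 : F) • 1 := by rw [two_smul]
    rw [this, h2, zero_smul]
  have htr : Cfsg.IsTransvection M := ⟨rank_eq_one_of_sq_zero _ hN0 hsq, hsq⟩
  obtain ⟨g, v, hv0, hgv⟩ := Cfsg.Agent.S0839.result 1 A htr
  have hv : v ≠ 0 := by
    rintro rfl
    apply hA1
    have : g⁻¹ * A * g = 1 := by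
      apply Subtype.ext
      rw [hgv]
      simp
    calc A = g * (g⁻¹ * A * g) * g⁻¹ := by group
      _ = 1 := by rw [this]; group
  have hc := isConj_T0 (g⁻¹ * A * g) v hv0 hv hgv
  refine hc.trans ?_
  rw [isConj_iff]
  exact ⟨g, by group⟩


/-- Any two elements of order 2 of PSL_3(4) are conjugate. -/
theorem result {F : Type*} [Field F] [Fintype F] (hF : Fintype.card F = 4) (x y : Matrix.ProjectiveSpecialLinearGroup (Fin 3) F) (hx : orderOf x = 2) (hy : orderOf y = 2) : IsConj x y := by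
  obtain ⟨A, rfl, hA2, hA1⟩ := exists_involution_lift x hx
  obtain ⟨B, rfl, hB2, hB1⟩ := exists_involution_lift y hy
  have hAB : IsConj A B :=
    (isConj_T0_of_involution hF A hA2 hA1).symm.trans (isConj_T0_of_involution hF B hB2 hB1)
  exact MonoidHom.map_isConj (QuotientGroup.mk' _) hAB

end Cfsg.Agent.S0820
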