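import Mathlib
import Cfsg.Statements.S0821
import Cfsg.Agent.S2235
import Cfsg.Agent.Lib.Helper14.SpTwoRankD
import Cfsg.Agent.Lib.Helper14.OddTransport
-- import your own Cfsg.Agent.* helpers here

set_option autoImplicit false
open Cfsg

namespace Cfsg.Agent.S0821

open Cfsg.Agent.Lib.Helper14

theorem two_ne_zero_of_odd_card {F : Type*} [Field F] [Fintype F] (hodd : Odd (Fintype.card F)) :
    (2 : F) ≠ 0 := by
  apply Ring.two_ne_zero
  intro h
  have := FiniteField.even_card_iff_char_two.1 h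
  rw [Nat.odd_iff] at hodd
  omega

theorem pRankAtLeast_of_mulEquiv {X Y : Type*} [Group X] [Group Y] (e : X ≃* Y) (p k : ℕ)
    (h : Cfsg.PRankAtLeast p k X) : Cfsg.PRankAtLeast p k Y := by
  obtain ⟨A, hA1, hA2, hA3⟩ := h
  refine ⟨A.map e.toMonoidHom, inferInstance, ?_, ?_⟩
  · rintro _ ⟨a, ha, rfl⟩
    rw [← map_pow, hA2 a ha, map_one]
  · have : Nat.card (A.map e.toMonoidHom) = Nat.card A :=
      Nat.card_congr (A.equivMapOfInjective _ e.injective).symm.toEquiv
    rw [this]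
    exact hA3


/-- PSp_2m(q) ≇ PΩ_(2m+1)(q) for q odd and m ≥ 3 (they have the same order). -/
theorem result {F : Type*} [Field F] [Fintype F] (hodd : Odd (Fintype.card F)) (m : ℕ) (hm : 3 ≤ m) : IsEmpty (Cfsg.PSp m F ≃* Cfsg.POmega F (Cfsg.quadFormOdd m F)) := by
  constructor
  intro φ
  have h2 : (2 : F) ≠ 0 := two_ne_zero_of_odd_card hodd
  have hcen := center_Omega_quadFormOdd m F h2 (by omega)
  let e : Cfsg.POmega F (Cfsg.quadFormOdd m F) ≃* ↥(Cfsg.Omega F (Cfsg.quadFormOdd m F)) :=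
    (QuotientGroup.quotientMulEquivOfEq hcen).trans QuotientGroup.quotientBot
  have h1 := (Cfsg.Agent.S2235.result hodd m (by omega)).1
  have h3 := pRankAtLeast_of_mulEquiv (e.symm.trans φ.symm) 2 (2 * m) h1
  exact not_pRankAtLeast_PSp h2 m hm h3

end Cfsg.Agent.S0821
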