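import Mathlib
import Cfsg.Statements.S0823
import Cfsg.Agent.Lib.Helper13.Orth
-- import your own Cfsg.Agent.* helpers here

set_option autoImplicit false
open Cfsg

namespace Cfsg.Agent.S0823

open Matrix Cfsg.Agent.Lib.Helper13

section Concrete

abbrev ι := Unit ⊕ (Fin 1 ⊕ Fin 1)
abbrev V := ι → ZMod 3

abbrev ix : ι := Sum.inl ()
abbrev iy : ι := Sum.inr (Sum.inl 0)
abbrev iz : ι := Sum.inr (Sum.inr 0)

def mk (a b c : ZMod 3) : V
  | Sum.inl _ => a
  | Sum.inr (Sum.inl _) => b
  | Sum.inr (Sum.inr _) => c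

abbrev Qz : V → ZMod 3 := Cfsg.quadFormOdd 1 (ZMod 3)

theorem eq_mk (v : V) : v = mk (v ix) (v iy) (v iz) := by
  funext j
  rcases j with j | j | j
  · rfl
  · have : j = 0 := Subsingleton.elim _ _
    subst this; rfl
  · have : j = 0 := Subsingleton.elim _ _
    subst this; rfl

theorem sumι (f : ι → ZMod 3) : ∑ j, f j = f ix + f iy + f iz := by
  simp only [Fintype.sum_sum_type, Finset.univ_unique, Finset.sum_singleton,
    Fin.default_eq_zero]
  rw [add_assoc]

theorem Q_eq (v : V) : Qz v = v ix ^ 2 + v iy * v iz := by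
  simp [Cfsg.quadFormOdd]

/-- the polar form -/
def B (u v : V) : ZMod 3 := 2 * u ix * v ix + u iy * v iz + u iz * v iy

theorem Q_add (u v : V) : Qz (u + v) = Qz u + Qz v + B u v := by
  rw [Q_eq, Q_eq, Q_eq]
  simp only [Pi.add_apply, B]
  ring

theorem Q_smul (c : ZMod 3) (u : V) : Qz (c • u) = c * c * Qz u := by
  rw [Q_eq, Q_eq]
  simp only [Pi.smul_apply, smul_eq_mul]
  ring

theorem Q_neg (u : V) : Qz (-u) = Qz u := by
  rw [Q_eq, Q_eq]
  simp only [Pi.neg_apply]
  ring

theorem B_smul_right (c : ZMod 3) (u v : V) : B u (c • v) = c * B u v := by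
  simp only [B, Pi.smul_apply, smul_eq_mul]
  ring

theorem B_add_right (u v v' : V) : B u (v + v') = B u v + B u v' := by
  simp only [B, Pi.add_apply]
  ring

theorem B_comm (u v : V) : B u v = B v u := by
  simp only [B]
  ring

theorem B_self (u : V) : B u u = 2 * Qz u := by
  rw [Q_eq]
  simp only [B]
  ring

theorem cube_eq (c : ZMod 3) : c * c * c = c := by
  revert c; decide

end Concrete


section Reflection

/-- the vector representing `B u ·` -/
def Bv (u : V) : V := mk (2 * u ix) (u iz) (u iy)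

theorem Bv_dot (u v : V) : Bv u ⬝ᵥ v = B u v := by
  rw [dotProduct, sumι]
  simp only [Bv, mk, B]
  ring

/-- the reflection attached to `u` (the identity when `Q u = 0`); over `ZMod 3` one has
`(Q u)⁻¹ = Q u` for `Q u ≠ 0` -/
def R (u : V) : Matrix ι ι (ZMod 3) := 1 - Qz u • Matrix.vecMulVec u (Bv u)

theorem R_mulVec (u v : V) : R u *ᵥ v = v - (Qz u * B u v) • u := by
  rw [R, one_sub_smul_vecMulVec_mulVec, Bv_dot]

theorem Q_R (u v : V) : Qz (R u *ᵥ v) = Qz v := by
  rw [R_mulVec, sub_eq_add_neg, ← neg_smul, Q_add, Q_smul, B_smul_right, B_comm v u]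
  have := cube_eq (Qz u)
  linear_combination (B u v * B u v) * this

theorem R_R_mulVec (u v : V) : R u *ᵥ (R u *ᵥ v) = v := by
  rw [R_mulVec, R_mulVec]
  have h1 : B u (v - (Qz u * B u v) • u) = B u v - 2 * (Qz u * Qz u * B u v) := by
    rw [sub_eq_add_neg, ← neg_smul, B_add_right, B_smul_right, B_self]
    ring
  rw [h1]
  have := cube_eq (Qz u)
  funext j
  simp only [Pi.sub_apply, Pi.smul_apply, smul_eq_mul]
  linear_combination (2 * B u v * u j) * this

theorem R_mul_self (u : V) : R u * R u = 1 := by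
  apply Matrix.toLin'.injective
  apply LinearMap.ext
  intro v
  rw [Matrix.toLin'_mul, LinearMap.comp_apply, Matrix.toLin'_apply, Matrix.toLin'_apply,
    R_R_mulVec, Matrix.toLin'_one, LinearMap.id_apply]

theorem det_R (u : V) (hu : Qz u ≠ 0) : (R u).det = -1 := by
  rw [R, det_one_sub_smul_vecMulVec, Bv_dot, B_self]
  have h : Qz u * Qz u = 1 := by
    generalize Qz u = c at hu
    revert c; decide
  linear_combination (-2 : ZMod 3) * h

/-- minus the reflection, as an element of `GL` -/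
def nGL (u : V) : Matrix.GeneralLinearGroup ι (ZMod 3) :=
  ⟨-R u, -R u, by rw [neg_mul_neg, R_mul_self], by rw [neg_mul_neg, R_mul_self]⟩

theorem nGL_val (u : V) : ((nGL u : Matrix.GeneralLinearGroup ι (ZMod 3)) : Matrix ι ι (ZMod 3)) =
    -R u := rfl

theorem nGL_mulVec (u v : V) : ((nGL u : Matrix.GeneralLinearGroup ι (ZMod 3)) :
    Matrix ι ι (ZMod 3)) *ᵥ v = -(v - (Qz u * B u v) • u) := by
  rw [nGL_val, Matrix.neg_mulVec, R_mulVec]

theorem nGL_mem (u : V) : nGL u ∈ Cfsg.isometryGroup (ZMod 3) Qz := by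
  rw [mem_isometryGroup_iff]
  intro v
  rw [nGL_val, Matrix.neg_mulVec, Q_neg, Q_R]

theorem det_nGL (u : V) (hu : Qz u ≠ 0) :
    ((nGL u : Matrix.GeneralLinearGroup ι (ZMod 3)) : Matrix ι ι (ZMod 3)).det = 1 := by
  rw [nGL_val, Matrix.det_neg, det_R u hu]
  simp only [Fintype.card_sum, Fintype.card_unique]
  decide

end Reflection


section Lines

abbrev T3 := ZMod 3 × ZMod 3 × ZMod 3

def mkT (u : T3) : V := mk u.1 u.2.1 u.2.2

def Qc (u : T3) : ZMod 3 := u.1 ^ 2 + u.2.1 * u.2.2

def Bc (u v : T3) : ZMod 3 := 2 * u.1 * v.1 + u.2.1 * v.2.2 + u.2.2 * v.2.1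

def Nc (u v : T3) : T3 :=
  (-(v.1 - Qc u * Bc u v * u.1), -(v.2.1 - Qc u * Bc u v * u.2.1),
    -(v.2.2 - Qc u * Bc u v * u.2.2))

theorem Q_mkT (u : T3) : Qz (mkT u) = Qc u := by
  rw [Q_eq]; rfl

theorem B_mkT (u v : T3) : B (mkT u) (mkT v) = Bc u v := rfl

theorem nGL_mkT (u v : T3) :
    ((nGL (mkT u) : Matrix.GeneralLinearGroup ι (ZMod 3)) : Matrix ι ι (ZMod 3)) *ᵥ mkT v =
      mkT (Nc u v) := by
  rw [nGL_mulVec, Q_mkT, B_mkT]
  funext j
  rcases j with j | j | j <;> rfl

/-- representatives of the four isotropic lines -/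
def sc : Fin 4 → T3 := ![(0, 1, 0), (0, 0, 1), (1, 1, 2), (1, 2, 1)]

def s (i : Fin 4) : V := mkT (sc i)

def lineC (u : T3) : Fin 4 :=
  if u.1 = 0 then (if u.2.2 = 0 then 0 else 1) else (if u.1 * u.2.1 = 1 then 2 else 3)

def line (v : V) : Fin 4 := lineC (v ix, v iy, v iz)

theorem line_mkT (u : T3) : line (mkT u) = lineC u := rfl

theorem eq_mkT (v : V) : v = mkT (v ix, v iy, v iz) := eq_mk v

theorem line_s (i : Fin 4) : line (s i) = i := by
  rw [s, line_mkT]
  revert i; decide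

theorem line_neg (v : V) : line (-v) = line v := by
  have key : ∀ u : T3, lineC (-u.1, -u.2.1, -u.2.2) = lineC u := by decide
  exact key (v ix, v iy, v iz)

theorem mkT_injective : Function.Injective mkT := by
  intro u v h
  have h1 : mkT u ix = mkT v ix := by rw [h]
  have h2 : mkT u iy = mkT v iy := by rw [h]
  have h3 : mkT u iz = mkT v iz := by rw [h]
  exact Prod.ext h1 (Prod.ext h2 h3)

theorem neg_mkT (u : T3) : -mkT u = mkT (-u.1, -u.2.1, -u.2.2) := by
  funext j
  rcases j with j | j | j <;> rfl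

theorem s_line (v : V) (hv : v ≠ 0) (hQ : Qz v = 0) : s (line v) = v ∨ s (line v) = -v := by
  have key : ∀ u : T3, u ≠ (0, 0, 0) → Qc u = 0 →
      sc (lineC u) = u ∨ sc (lineC u) = (-u.1, -u.2.1, -u.2.2) := by decide
  rw [eq_mkT v] at hv hQ ⊢
  rw [Q_mkT] at hQ
  have hne : (v ix, v iy, v iz) ≠ ((0, 0, 0) : T3) := by
    intro h
    apply hv
    rw [h]
    funext j
    rcases j with j | j | j <;> rfl
  rw [line_mkT, s, neg_mkT]
  rcases key _ hne hQ with h | h
  · left; rw [h]
  · right; rw [h]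

theorem Q_s (i : Fin 4) : Qz (s i) = 0 := by
  rw [s, Q_mkT]
  revert i; decide

theorem s_ne_zero (i : Fin 4) : s i ≠ 0 := by
  intro h
  have h1 : Bc (sc i) (sc i) = 0 ∧ (sc i).1 = 0 ∧ (sc i).2.1 = 0 ∧ (sc i).2.2 = 0 := by
    refine ⟨?_, ?_, ?_, ?_⟩
    · rw [← B_mkT]; show B (s i) (s i) = 0; rw [h]; rfl
    · show s i ix = 0; rw [h]; rfl
    · show s i iy = 0; rw [h]; rfl
    · show s i iz = 0; rw [h]; rfl
  revert h1
  revert i
  decide

theorem B_s_ne (i j : Fin 4) (h : i ≠ j) : B (s i) (s j) ≠ 0 := by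
  rw [s, s, B_mkT]
  revert i j
  decide

theorem mk_decomp (a b c : ZMod 3) : mk a b c = (b - a) • s 0 + (c - 2 * a) • s 1 + a • s 2 := by
  funext j
  rcases j with j | j | j
  · simp only [Pi.add_apply, Pi.smul_apply, smul_eq_mul, s, mkT, mk, sc]
    revert a b c; decide
  · simp only [Pi.add_apply, Pi.smul_apply, smul_eq_mul, s, mkT, mk, sc]
    revert a b c; decide
  · simp only [Pi.add_apply, Pi.smul_apply, smul_eq_mul, s, mkT, mk, sc]
    revert a b c; decide

/-- every transposition of the four lines is induced by minus a reflection -/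
theorem exists_swap (i j : Fin 4) (h : i ≠ j) :
    ∃ u : T3, Qc u ≠ 0 ∧ ∀ k, lineC (Nc u (sc k)) = Equiv.swap i j k := by
  revert i j
  decide

end Lines


section Group

abbrev O3 := ↥(Cfsg.isometryGroup (ZMod 3) Qz)
abbrev G := ↥(Cfsg.specialIsometryGroup (ZMod 3) Qz)

/-- the matrix of a group element -/
def Mat (g : G) : Matrix ι ι (ZMod 3) := ((g.1.1 : Matrix.GeneralLinearGroup ι (ZMod 3)) :
  Matrix ι ι (ZMod 3))

theorem Mat_one : Mat 1 = 1 := rfl

theorem Mat_mul (g h : G) : Mat (g * h) = Mat g * Mat h := rfl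

theorem det_Mat (g : G) : (Mat g).det = 1 := by
  have h : (Matrix.GeneralLinearGroup.det.comp (Cfsg.isometryGroup (ZMod 3) Qz).subtype) g.1 = 1 :=
    g.2
  have h2 := congrArg Units.val h
  exact h2

theorem Q_Mat (g : G) (v : V) : Qz (Mat g *ᵥ v) = Qz v :=
  (mem_isometryGroup_iff Qz g.1.1).mp g.1.2 v

theorem B_Mat (g : G) (u v : V) : B (Mat g *ᵥ u) (Mat g *ᵥ v) = B u v := by
  have h1 := Q_add (Mat g *ᵥ u) (Mat g *ᵥ v)
  rw [← Matrix.mulVec_add, Q_Mat, Q_Mat, Q_Mat, Q_add] at h1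
  exact (add_left_cancel h1).symm

theorem Mat_ne_zero (g : G) (v : V) (hv : v ≠ 0) : Mat g *ᵥ v ≠ 0 := by
  intro h
  apply hv
  have h1 : Mat g⁻¹ *ᵥ (Mat g *ᵥ v) = v := by
    rw [Matrix.mulVec_mulVec, ← Mat_mul, inv_mul_cancel, Mat_one, Matrix.one_mulVec]
  rw [← h1, h, Matrix.mulVec_zero]

theorem s_line_Mat (g : G) (i : Fin 4) :
    s (line (Mat g *ᵥ s i)) = Mat g *ᵥ s i ∨ s (line (Mat g *ᵥ s i)) = -(Mat g *ᵥ s i) :=
  s_line _ (Mat_ne_zero g _ (s_ne_zero i)) (by rw [Q_Mat, Q_s])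

instance actL : MulAction G (Fin 4) where
  smul g i := line (Mat g *ᵥ s i)
  one_smul i := by
    show line (Mat 1 *ᵥ s i) = i
    rw [Mat_one, Matrix.one_mulVec, line_s]
  mul_smul g h i := by
    show line (Mat (g * h) *ᵥ s i) = line (Mat g *ᵥ s (line (Mat h *ᵥ s i)))
    rw [Mat_mul, ← Matrix.mulVec_mulVec]
    rcases s_line_Mat h i with h1 | h1
    · rw [h1]
    · rw [h1, Matrix.mulVec_neg, line_neg]

theorem smul_def' (g : G) (i : Fin 4) : g • i = line (Mat g *ᵥ s i) := rfl

/-- the permutation representation on the four isotropic lines -/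
def π : G →* Equiv.Perm (Fin 4) := MulAction.toPermHom G (Fin 4)

theorem π_apply (g : G) (i : Fin 4) : π g i = line (Mat g *ᵥ s i) := rfl

theorem ext_Mat (g : G) (h : Mat g = 1) : g = 1 := by
  apply Subtype.ext
  apply Subtype.ext
  apply Units.ext
  exact h

theorem π_injective : Function.Injective π := by
  rw [injective_iff_map_eq_one]
  intro g hg
  have h1 : ∀ i, Mat g *ᵥ s i = s i ∨ Mat g *ᵥ s i = -s i := by
    intro i
    have h2 : line (Mat g *ᵥ s i) = i := by
      rw [← π_apply, hg]; rfl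
    rcases s_line_Mat g i with h3 | h3
    · left; rw [← h3, h2]
    · right; rw [h2] at h3; exact neg_eq_iff_eq_neg.mp h3.symm
  -- sign consistency
  have h2 : ∀ i j, i ≠ j → Mat g *ᵥ s i = s i → Mat g *ᵥ s j = -s j → False := by
    intro i j hij hi hj
    have h3 := B_Mat g (s i) (s j)
    rw [hi, hj] at h3
    have h4 : B (s i) (-s j) = -B (s i) (s j) := by
      have : -s j = (-1 : ZMod 3) • s j := by rw [neg_one_smul]
      rw [this, B_smul_right]; ring
    rw [h4] at h3
    have h5 := B_s_ne i j hij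
    have h6 : (2 : ZMod 3) * B (s i) (s j) = 0 := by linear_combination -h3
    have : B (s i) (s j) = 0 := by
      generalize B (s i) (s j) = t at h6
      revert t; decide
    exact h5 this
  have hall : ∀ v : V, (∀ i, Mat g *ᵥ s i = s i) → Mat g *ᵥ v = v := by
    intro v hs
    rw [eq_mk v, mk_decomp]
    simp only [Matrix.mulVec_add, Matrix.mulVec_smul, hs]
  rcases h1 0 with h0 | h0
  · -- all signs are +
    have hs : ∀ i, Mat g *ᵥ s i = s i := by
      intro i
      by_cases hi : i = 0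
      · rw [hi]; exact h0
      · rcases h1 i with h | h
        · exact h
        · exact absurd (h2 0 i (Ne.symm hi) h0 h) id
    apply ext_Mat
    apply Matrix.toLin'.injective
    apply LinearMap.ext
    intro v
    rw [Matrix.toLin'_apply, hall v hs, Matrix.toLin'_one, LinearMap.id_apply]
  · -- all signs are -, contradicting det = 1
    exfalso
    have hs : ∀ i, Mat g *ᵥ s i = -s i := by
      intro i
      by_cases hi : i = 0
      · rw [hi]; exact h0
      · rcases h1 i with h | h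
        · exact absurd (h2 i 0 hi h h0) id
        · exact h
    have hneg : Mat g = -1 := by
      apply Matrix.toLin'.injective
      apply LinearMap.ext
      intro v
      rw [Matrix.toLin'_apply, eq_mk v, mk_decomp]
      simp only [Matrix.mulVec_add, Matrix.mulVec_smul, hs, map_neg, Matrix.toLin'_one,
        LinearMap.neg_apply, LinearMap.id_apply, smul_neg, neg_add]
    have hdet := det_Mat g
    rw [hneg, Matrix.det_neg, Matrix.det_one] at hdet
    simp only [Fintype.card_sum, Fintype.card_unique] at hdet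
    revert hdet
    decide

/-- minus a reflection, as an element of `SO₃(3)` -/
def nG (u : V) (hu : Qz u ≠ 0) : G :=
  ⟨⟨nGL u, nGL_mem u⟩, by
    show (Matrix.GeneralLinearGroup.det.comp (Cfsg.isometryGroup (ZMod 3) Qz).subtype)
      ⟨nGL u, nGL_mem u⟩ = 1
    apply Units.ext
    exact det_nGL u hu⟩

theorem Mat_nG (u : V) (hu : Qz u ≠ 0) : Mat (nG u hu) = -R u := rfl

theorem π_surjective : Function.Surjective π := by
  rw [← MonoidHom.range_eq_top, eq_top_iff, ← Equiv.Perm.closure_isSwap, Subgroup.closure_le]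
  rintro σ ⟨i, j, hij, rfl⟩
  obtain ⟨u, hu, hk⟩ := exists_swap i j hij
  have hu' : Qz (mkT u) ≠ 0 := by rw [Q_mkT]; exact hu
  refine ⟨nG (mkT u) hu', ?_⟩
  apply Equiv.ext
  intro k
  rw [π_apply]
  have : Mat (nG (mkT u) hu') *ᵥ s k = mkT (Nc u (sc k)) := nGL_mkT u (sc k)
  rw [this, line_mkT, hk]

theorem nonempty_mulEquiv : Nonempty (G ≃* Equiv.Perm (Fin 4)) :=
  ⟨MulEquiv.ofBijective π ⟨π_injective, π_surjective⟩⟩

end Group


section Transfer

variable {F : Type*} [Field F]

theorem Q_map (φ : F →+* ZMod 3) (u : ι → F) :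
    Qz (fun j => φ (u j)) = φ (Cfsg.quadFormOdd 1 F u) := by
  simp [Cfsg.quadFormOdd, map_add, map_mul, map_pow]

theorem map_mulVec' (φ : F →+* ZMod 3) (A : Matrix ι ι F) (u : ι → F) :
    (A.map φ) *ᵥ (fun j => φ (u j)) = fun j => φ ((A *ᵥ u) j) := by
  funext i
  exact (RingHom.map_mulVec φ A u i).symm

/-- the base-change isomorphism on general linear groups -/
noncomputable def ψ (e : F ≃+* ZMod 3) :
    Matrix.GeneralLinearGroup ι F ≃* Matrix.GeneralLinearGroup ι (ZMod 3) :=
  Units.mapEquiv (e.mapMatrix (m := ι)).toMulEquiv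

theorem ψ_val (e : F ≃+* ZMod 3) (g : Matrix.GeneralLinearGroup ι F) :
    ((ψ e g : Matrix.GeneralLinearGroup ι (ZMod 3)) : Matrix ι ι (ZMod 3)) =
      (g : Matrix ι ι F).map e := rfl

theorem mem_iff (e : F ≃+* ZMod 3) (g : Matrix.GeneralLinearGroup ι F) :
    g ∈ Cfsg.isometryGroup F (Cfsg.quadFormOdd 1 F) ↔
      ψ e g ∈ Cfsg.isometryGroup (ZMod 3) Qz := by
  rw [mem_isometryGroup_iff, mem_isometryGroup_iff, ψ_val]
  constructor
  · intro h u'
    have hu : u' = fun j => (e : F →+* ZMod 3) (e.symm (u' j)) := by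
      funext j; simp
    rw [hu]
    have h1' : (g : Matrix ι ι F).map ⇑e *ᵥ (fun j => (e : F →+* ZMod 3) (e.symm (u' j))) =
        fun j => (e : F →+* ZMod 3) (((g : Matrix ι ι F) *ᵥ fun j => e.symm (u' j)) j) :=
      map_mulVec' (e : F →+* ZMod 3) (g : Matrix ι ι F) (fun j => e.symm (u' j))
    rw [h1', Q_map, Q_map, h]
  · intro h u
    apply e.injective
    have h1 := h (fun j => (e : F →+* ZMod 3) (u j))
    have h2 : (g : Matrix ι ι F).map ⇑e *ᵥ (fun j => (e : F →+* ZMod 3) (u j)) =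
        fun j => (e : F →+* ZMod 3) (((g : Matrix ι ι F) *ᵥ u) j) :=
      map_mulVec' (e : F →+* ZMod 3) (g : Matrix ι ι F) u
    rw [h2, Q_map, Q_map] at h1
    exact h1

/-- transfer of the isometry group to `ZMod 3` -/
noncomputable def transferEquiv (e : F ≃+* ZMod 3) :
    ↥(Cfsg.isometryGroup F (Cfsg.quadFormOdd 1 F)) ≃* O3 where
  toFun g := ⟨ψ e g.1, (mem_iff e g.1).mp g.2⟩
  invFun g := ⟨(ψ e).symm g.1, (mem_iff e _).mpr (by
    rw [MulEquiv.apply_symm_apply]; exact g.2)⟩
  left_inv g := Subtype.ext (by simp)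
  right_inv g := Subtype.ext (by simp)
  map_mul' a b := Subtype.ext (by simp)

theorem det_transfer (e : F ≃+* ZMod 3) (g : ↥(Cfsg.isometryGroup F (Cfsg.quadFormOdd 1 F))) :
    (((transferEquiv e g).1 : Matrix.GeneralLinearGroup ι (ZMod 3)) : Matrix ι ι (ZMod 3)).det =
      e ((g.1 : Matrix ι ι F)).det := by
  show ((ψ e g.1 : Matrix.GeneralLinearGroup ι (ZMod 3)) : Matrix ι ι (ZMod 3)).det = _
  rw [ψ_val]
  exact (RingHom.map_det (e : F →+* ZMod 3) _).symm

theorem mem_special_iff {K : Type*} [Field K] (Q : (ι → K) → K) (g : ↥(Cfsg.isometryGroup K Q)) :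
    g ∈ Cfsg.specialIsometryGroup K Q ↔ ((g.1 : Matrix.GeneralLinearGroup ι K) : Matrix ι ι K).det = 1 := by
  constructor
  · intro h
    have h' : (Matrix.GeneralLinearGroup.det.comp (Cfsg.isometryGroup K Q).subtype) g = 1 := h
    exact congrArg Units.val h'
  · intro h
    show (Matrix.GeneralLinearGroup.det.comp (Cfsg.isometryGroup K Q).subtype) g = 1
    apply Units.ext
    exact h

theorem map_special (e : F ≃+* ZMod 3) :
    (Cfsg.specialIsometryGroup F (Cfsg.quadFormOdd 1 F)).map (transferEquiv e).toMonoidHom =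
      Cfsg.specialIsometryGroup (ZMod 3) Qz := by
  ext x
  constructor
  · rintro ⟨y, hy, rfl⟩
    rw [mem_special_iff]
    have := det_transfer e y
    rw [(mem_special_iff _ y).mp hy, map_one] at this
    exact this
  · intro hx
    refine ⟨(transferEquiv e).symm x, ?_, by simp⟩
    rw [SetLike.mem_coe, mem_special_iff]
    have := det_transfer e ((transferEquiv e).symm x)
    rw [MulEquiv.apply_symm_apply, (mem_special_iff _ x).mp hx] at this
    apply e.injective
    rw [← this, map_one]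

end Transfer


/-- SO_3(3) ≅ S_4: the determinant-one isometries of the form x_0² + x_1y_1 over the field with 3 elements form a group isomorphic to the symmetric group on 4 letters. -/
theorem result {F : Type*} [Field F] [Fintype F] (hF : Fintype.card F = 3) : Nonempty (↥(Cfsg.specialIsometryGroup F (Cfsg.quadFormOdd 1 F)) ≃* Equiv.Perm (Fin 4)) := by
  obtain ⟨e2⟩ := nonempty_mulEquiv
  let e : F ≃+* ZMod 3 := (ZMod.ringEquivOfPrime F Nat.prime_three hF).symm
  let e1 := (transferEquiv e).subgroupMap (Cfsg.specialIsometryGroup F (Cfsg.quadFormOdd 1 F))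
  have h := map_special e
  exact ⟨(e1.trans (MulEquiv.subgroupCongr h)).trans e2⟩

end Cfsg.Agent.S0823
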