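import Mathlib
import Cfsg.Statements.S0824
import Cfsg.Agent.Lib.Helper13.Orth
-- import your own Cfsg.Agent.* helpers here

set_option autoImplicit false
open Cfsg

namespace Cfsg.Agent.S0824

open Matrix Cfsg.Agent.Lib.Helper13

section Concrete

/-- coordinates -/
abbrev ι := (Fin 1 ⊕ Fin 1) ⊕ Fin 2
abbrev V := ι → ZMod 2

abbrev ix : ι := Sum.inl (Sum.inl 0)
abbrev iy : ι := Sum.inl (Sum.inr 0)
abbrev iz : ι := Sum.inr 0
abbrev it : ι := Sum.inr 1

def mk (a b c d : ZMod 2) : V
  | Sum.inl (Sum.inl _) => a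
  | Sum.inl (Sum.inr _) => b
  | Sum.inr k => if k = 0 then c else d

abbrev Qz : V → ZMod 2 := Cfsg.quadFormMinus 1 (ZMod 2) 1 1

theorem eq_mk (v : V) : v = mk (v ix) (v iy) (v iz) (v it) := by
  funext j
  rcases j with (j | j) | j
  · have : j = 0 := Subsingleton.elim _ _
    subst this; rfl
  · have : j = 0 := Subsingleton.elim _ _
    subst this; rfl
  · fin_cases j <;> rfl

theorem sumι (f : ι → ZMod 2) : ∑ j, f j = f ix + f iy + f iz + f it := by
  simp only [Fintype.sum_sum_type, Fin.sum_univ_two, Finset.univ_unique, Finset.sum_singleton,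
    Fin.default_eq_zero]
  ring

theorem Q_eq (v : V) : Qz v = v ix * v iy + (v iz ^ 2 + v iz * v it + v it ^ 2) := by
  simp [Cfsg.quadFormMinus]

/-- the polar form -/
def B (u v : V) : ZMod 2 := u ix * v iy + u iy * v ix + u iz * v it + u it * v iz

theorem Q_add (u v : V) : Qz (u + v) = Qz u + Qz v + B u v := by
  rw [Q_eq, Q_eq, Q_eq]
  simp only [Pi.add_apply, B]
  generalize u ix = a, u iy = b, u iz = c, u it = d, v ix = a', v iy = b', v iz = c', v it = d'
  revert a b c d a' b' c' d'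
  decide

theorem Q_smul (c : ZMod 2) (u : V) : Qz (c • u) = c * c * Qz u := by
  rw [Q_eq, Q_eq]
  simp only [Pi.smul_apply, smul_eq_mul]
  ring

theorem B_smul_right (c : ZMod 2) (u v : V) : B u (c • v) = c * B u v := by
  simp only [B, Pi.smul_apply, smul_eq_mul]
  ring

theorem B_add_left (u u' v : V) : B (u + u') v = B u v + B u' v := by
  simp only [B, Pi.add_apply]
  ring

theorem B_add_right (u v v' : V) : B u (v + v') = B u v + B u v' := by
  simp only [B, Pi.add_apply]
  ring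

theorem B_comm (u v : V) : B u v = B v u := by
  simp only [B]
  ring

theorem B_self (u : V) : B u u = 0 := by
  simp only [B]
  generalize u ix = a, u iy = b, u iz = c, u it = d
  revert a b c d
  decide

theorem add_self2 (x : ZMod 2) : x + x = 0 := CharTwo.add_self_eq_zero x

end Concrete


section Reflection

/-- the vector representing `B u ·` -/
def Bv (u : V) : V := mk (u iy) (u ix) (u it) (u iz)

theorem Bv_dot (u v : V) : Bv u ⬝ᵥ v = B u v := by
  rw [dotProduct, sumι]
  simp only [Bv, mk, B]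
  simp
  ring

/-- the orthogonal transvection (reflection) attached to `u` -/
def R (u : V) : Matrix ι ι (ZMod 2) := 1 + Matrix.vecMulVec u (Bv u)

theorem R_mulVec (u v : V) : R u *ᵥ v = v + B u v • u := by
  rw [R, Matrix.add_mulVec, Matrix.one_mulVec, Matrix.vecMulVec_mulVec, Bv_dot]
  funext j
  simp [mul_comm]

theorem R_R_mulVec (u v : V) : R u *ᵥ (R u *ᵥ v) = v := by
  rw [R_mulVec, R_mulVec, B_add_right, B_smul_right, B_self, mul_zero, add_zero, add_assoc,
    ← add_smul, add_self2, zero_smul, add_zero]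

theorem R_mul_self (u : V) : R u * R u = 1 := by
  apply Matrix.toLin'.injective
  apply LinearMap.ext
  intro v
  rw [Matrix.toLin'_mul, LinearMap.comp_apply, Matrix.toLin'_apply, Matrix.toLin'_apply,
    R_R_mulVec, Matrix.toLin'_one, LinearMap.id_apply]

theorem Q_R (u : V) (hu : Qz u = 1) (v : V) : Qz (R u *ᵥ v) = Qz v := by
  rw [R_mulVec, Q_add, Q_smul, hu, B_smul_right, B_comm v u]
  rw [mul_one, add_assoc, add_self2, add_zero]

/-- the reflection as an element of `GL` -/
def rGL (u : V) : Matrix.GeneralLinearGroup ι (ZMod 2) :=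
  ⟨R u, R u, R_mul_self u, R_mul_self u⟩

theorem rGL_mem (u : V) (hu : Qz u = 1) : rGL u ∈ Cfsg.isometryGroup (ZMod 2) Qz := by
  rw [mem_isometryGroup_iff]
  intro v
  exact Q_R u hu v

end Reflection


section Action

/-- coordinates of the five singular vectors -/
def sc : Fin 5 → ZMod 2 × ZMod 2 × ZMod 2 × ZMod 2 :=
  ![(1, 0, 0, 0), (0, 1, 0, 0), (1, 1, 1, 0), (1, 1, 0, 1), (1, 1, 1, 1)]

/-- the five singular vectors -/
def s (i : Fin 5) : V := mk (sc i).1 (sc i).2.1 (sc i).2.2.1 (sc i).2.2.2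

theorem Q_mk (a b c d : ZMod 2) : Qz (mk a b c d) = a * b + (c ^ 2 + c * d + d ^ 2) := by
  rw [Q_eq]; rfl

theorem B_mk (a b c d a' b' c' d' : ZMod 2) :
    B (mk a b c d) (mk a' b' c' d') = a * b' + b * a' + c * d' + d * c' := rfl

theorem Q_s (i : Fin 5) : Qz (s i) = 0 := by
  rw [s, Q_mk]
  revert i
  decide

theorem B_s (i j : Fin 5) (h : i ≠ j) : B (s i) (s j) = 1 := by
  rw [s, s, B_mk]
  revert i j
  decide

theorem s_ne_zero (i : Fin 5) : s i ≠ 0 := by
  intro h
  have h1 : s i ix = 0 := by rw [h]; rfl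
  have h2 : s i iy = 0 := by rw [h]; rfl
  have h3 : (sc i).1 = 0 := h1
  have h4 : (sc i).2.1 = 0 := h2
  revert h3 h4
  revert i
  decide

theorem s_injective : Function.Injective s := by
  intro i j hij
  by_contra hne
  have h1 := B_s i j hne
  rw [← hij, B_self] at h1
  exact absurd h1 (by decide)

theorem exists_s (v : V) (hv : v ≠ 0) (hQ : Qz v = 0) : ∃ i, v = s i := by
  rw [eq_mk v] at hQ hv ⊢
  rw [Q_mk] at hQ
  have key : ∀ a b c d : ZMod 2, a * b + (c ^ 2 + c * d + d ^ 2) = 0 →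
      (a, b, c, d) ≠ (0, 0, 0, 0) → ∃ i : Fin 5, (a, b, c, d) = sc i := by decide
  have hne : (v ix, v iy, v iz, v it) ≠ (0, 0, 0, 0) := by
    intro h
    apply hv
    simp only [Prod.mk.injEq] at h
    obtain ⟨h1, h2, h3, h4⟩ := h
    rw [h1, h2, h3, h4]
    funext j
    rcases j with (j | j) | j
    · rfl
    · rfl
    · simp [mk]
  obtain ⟨i, hi⟩ := key _ _ _ _ hQ hne
  refine ⟨i, ?_⟩
  simp only [Prod.ext_iff] at hi
  obtain ⟨h1, h2, h3, h4⟩ := hi
  rw [s, ← h1, ← h2, ← h3, ← h4]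

theorem mk_decomp (a b c d : ZMod 2) :
    mk a b c d = (a + c + d) • s 0 + (b + c + d) • s 1 + c • s 2 + d • s 3 := by
  funext j
  rcases j with (j | j) | j
  · simp only [Pi.add_apply, Pi.smul_apply, smul_eq_mul, s, mk, sc]
    revert a b c d
    decide
  · simp only [Pi.add_apply, Pi.smul_apply, smul_eq_mul, s, mk, sc]
    revert a b c d
    decide
  · fin_cases j
    · simp only [Pi.add_apply, Pi.smul_apply, smul_eq_mul, s, mk, sc]
      revert a b c d
      decide
    · simp only [Pi.add_apply, Pi.smul_apply, smul_eq_mul, s, mk, sc]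
      revert a b c d
      decide

end Action


section Group

abbrev G := ↥(Cfsg.isometryGroup (ZMod 2) Qz)
abbrev S := {v : V // v ≠ 0 ∧ Qz v = 0}

theorem mulVec_ne_zero (g : Matrix.GeneralLinearGroup ι (ZMod 2)) (v : V) (hv : v ≠ 0) :
    (g : Matrix ι ι (ZMod 2)) *ᵥ v ≠ 0 := by
  intro h
  apply hv
  have h1 : ((g⁻¹ : Matrix.GeneralLinearGroup ι (ZMod 2)) : Matrix ι ι (ZMod 2)) *ᵥ
      ((g : Matrix ι ι (ZMod 2)) *ᵥ v) = v := by
    rw [Matrix.mulVec_mulVec, ← Units.val_mul, inv_mul_cancel, Units.val_one, Matrix.one_mulVec]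
  rw [← h1, h, Matrix.mulVec_zero]

theorem Q_mulVec (g : G) (v : V) : Qz ((g.1 : Matrix ι ι (ZMod 2)) *ᵥ v) = Qz v :=
  (mem_isometryGroup_iff Qz g.1).mp g.2 v

instance actS : MulAction G S where
  smul g v := ⟨(g.1 : Matrix ι ι (ZMod 2)) *ᵥ v.1, mulVec_ne_zero g.1 v.1 v.2.1, by
    rw [Q_mulVec]; exact v.2.2⟩
  one_smul v := Subtype.ext (by
    show ((1 : G).1 : Matrix ι ι (ZMod 2)) *ᵥ v.1 = v.1
    simp)
  mul_smul g h v := Subtype.ext (by
    show ((g * h).1 : Matrix ι ι (ZMod 2)) *ᵥ v.1 =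
      (g.1 : Matrix ι ι (ZMod 2)) *ᵥ ((h.1 : Matrix ι ι (ZMod 2)) *ᵥ v.1)
    rw [Matrix.mulVec_mulVec]
    rfl)

theorem smul_val (g : G) (v : S) : (g • v).1 = (g.1 : Matrix ι ι (ZMod 2)) *ᵥ v.1 := rfl

/-- the five singular vectors as elements of `S` -/
def sS (i : Fin 5) : S := ⟨s i, s_ne_zero i, Q_s i⟩

theorem sS_bijective : Function.Bijective sS := by
  constructor
  · intro i j h
    exact s_injective (congrArg Subtype.val h)
  · rintro ⟨v, hv, hQ⟩
    obtain ⟨i, rfl⟩ := exists_s v hv hQ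
    exact ⟨i, rfl⟩

/-- the permutation representation -/
def π : G →* Equiv.Perm S := MulAction.toPermHom G S

theorem π_apply (g : G) (v : S) : π g v = g • v := rfl

theorem π_injective : Function.Injective π := by
  rw [injective_iff_map_eq_one]
  intro g hg
  have h1 : ∀ i, (g.1 : Matrix ι ι (ZMod 2)) *ᵥ s i = s i := by
    intro i
    have := congrArg (fun σ => (σ (sS i)).1) hg
    simpa [π_apply, smul_val, sS] using this
  have h2 : ∀ v : V, (g.1 : Matrix ι ι (ZMod 2)) *ᵥ v = v := by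
    intro v
    rw [eq_mk v, mk_decomp]
    simp only [Matrix.mulVec_add, Matrix.mulVec_smul, h1]
  have h3 : (g.1 : Matrix ι ι (ZMod 2)) = 1 := by
    apply Matrix.toLin'.injective
    apply LinearMap.ext
    intro v
    rw [Matrix.toLin'_apply, h2, Matrix.toLin'_one, LinearMap.id_apply]
  apply Subtype.ext
  apply Units.ext
  exact h3

theorem π_surjective : Function.Surjective π := by
  rw [← MonoidHom.range_eq_top, eq_top_iff, ← Equiv.Perm.closure_isSwap, Subgroup.closure_le]
  rintro σ ⟨x, y, hxy, rfl⟩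
  obtain ⟨i, rfl⟩ := sS_bijective.2 x
  obtain ⟨j, rfl⟩ := sS_bijective.2 y
  have hij : i ≠ j := fun h => hxy (by rw [h])
  have hu : Qz (s i + s j) = 1 := by
    rw [Q_add, Q_s, Q_s, B_s i j hij]; decide
  refine ⟨⟨rGL (s i + s j), rGL_mem _ hu⟩, ?_⟩
  apply Equiv.ext
  intro v
  apply Subtype.ext
  obtain ⟨k, rfl⟩ := sS_bijective.2 v
  rw [π_apply, smul_val]
  show R (s i + s j) *ᵥ s k = _
  rw [R_mulVec, B_add_left]
  by_cases hki : k = i
  · subst hki
    rw [Equiv.swap_apply_left, B_self, B_comm, B_s k j hij, zero_add, one_smul]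
    show s k + (s k + s j) = s j
    rw [← add_assoc]
    funext t
    simp only [Pi.add_apply, add_self2, zero_add]
  · by_cases hkj : k = j
    · subst hkj
      rw [Equiv.swap_apply_right, B_self, B_s i k hij, add_zero, one_smul]
      show s k + (s i + s k) = s i
      rw [add_comm (s i), ← add_assoc]
      funext t
      simp only [Pi.add_apply, add_self2, zero_add]
    · have h1 : sS k ≠ sS i := fun h => hki (sS_bijective.1 h)
      have h2 : sS k ≠ sS j := fun h => hkj (sS_bijective.1 h)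
      rw [Equiv.swap_apply_of_ne_of_ne h1 h2, B_s i k (Ne.symm hki), B_s j k (Ne.symm hkj)]
      show s k + ((1 : ZMod 2) + 1) • (s i + s j) = s k
      rw [add_self2, zero_smul, add_zero]

/-- the concrete isomorphism -/
theorem nonempty_mulEquiv : Nonempty (G ≃* Equiv.Perm (Fin 5)) := by
  let e1 : G ≃* Equiv.Perm S := MulEquiv.ofBijective π ⟨π_injective, π_surjective⟩
  let e2 : Fin 5 ≃ S := Equiv.ofBijective sS sS_bijective
  exact ⟨e1.trans e2.symm.permCongrHom⟩

end Group


section Transfer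

variable {F : Type*} [Field F]

theorem Q_map (φ : F →+* ZMod 2) (u : ι → F) :
    Qz (fun j => φ (u j)) = φ (Cfsg.quadFormMinus 1 F 1 1 u) := by
  simp [Cfsg.quadFormMinus, map_add, map_mul, map_pow]

theorem map_mulVec' (φ : F →+* ZMod 2) (A : Matrix ι ι F) (u : ι → F) :
    (A.map φ) *ᵥ (fun j => φ (u j)) = fun j => φ ((A *ᵥ u) j) := by
  funext i
  exact (RingHom.map_mulVec φ A u i).symm

/-- the base-change isomorphism on general linear groups -/
noncomputable def ψ (e : F ≃+* ZMod 2) :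
    Matrix.GeneralLinearGroup ι F ≃* Matrix.GeneralLinearGroup ι (ZMod 2) :=
  Units.mapEquiv (e.mapMatrix (m := ι)).toMulEquiv

theorem ψ_val (e : F ≃+* ZMod 2) (g : Matrix.GeneralLinearGroup ι F) :
    ((ψ e g : Matrix.GeneralLinearGroup ι (ZMod 2)) : Matrix ι ι (ZMod 2)) =
      (g : Matrix ι ι F).map e := rfl

theorem mem_iff (e : F ≃+* ZMod 2) (g : Matrix.GeneralLinearGroup ι F) :
    g ∈ Cfsg.isometryGroup F (Cfsg.quadFormMinus 1 F 1 1) ↔
      ψ e g ∈ Cfsg.isometryGroup (ZMod 2) Qz := by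
  rw [mem_isometryGroup_iff, mem_isometryGroup_iff, ψ_val]
  constructor
  · intro h u'
    have hu : u' = fun j => (e : F →+* ZMod 2) (e.symm (u' j)) := by
      funext j; simp
    rw [hu]
    have h1 := map_mulVec' (e : F →+* ZMod 2) (g : Matrix ι ι F) (fun j => e.symm (u' j))
    have h1' : (g : Matrix ι ι F).map ⇑e *ᵥ (fun j => (e : F →+* ZMod 2) (e.symm (u' j))) =
        fun j => (e : F →+* ZMod 2) (((g : Matrix ι ι F) *ᵥ fun j => e.symm (u' j)) j) := h1
    rw [h1', Q_map, Q_map, h]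
  · intro h u
    apply e.injective
    have h1 := h (fun j => (e : F →+* ZMod 2) (u j))
    have h2 : (g : Matrix ι ι F).map ⇑e *ᵥ (fun j => (e : F →+* ZMod 2) (u j)) =
        fun j => (e : F →+* ZMod 2) (((g : Matrix ι ι F) *ᵥ u) j) :=
      map_mulVec' (e : F →+* ZMod 2) (g : Matrix ι ι F) u
    rw [h2, Q_map, Q_map] at h1
    exact h1

/-- transfer of the isometry group to `ZMod 2` -/
noncomputable def transferEquiv (e : F ≃+* ZMod 2) :
    ↥(Cfsg.isometryGroup F (Cfsg.quadFormMinus 1 F 1 1)) ≃* G where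
  toFun g := ⟨ψ e g.1, (mem_iff e g.1).mp g.2⟩
  invFun g := ⟨(ψ e).symm g.1, (mem_iff e _).mpr (by
    rw [MulEquiv.apply_symm_apply]; exact g.2)⟩
  left_inv g := Subtype.ext (by simp)
  right_inv g := Subtype.ext (by simp)
  map_mul' a b := Subtype.ext (by simp)

end Transfer


/-- O⁻_4(2) ≅ S_5: the isometry group of the form x y + z_1² + z_1 z_2 + z_2² over the field with 2 elements is isomorphic to the symmetric group on 5 letters. -/
theorem result {F : Type*} [Field F] [Fintype F] (hF : Fintype.card F = 2) : Nonempty (↥(Cfsg.isometryGroup F (Cfsg.quadFormMinus 1 F 1 1)) ≃* Equiv.Perm (Fin 5)) := by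
  obtain ⟨e2⟩ := nonempty_mulEquiv
  let e : F ≃+* ZMod 2 := (ZMod.ringEquivOfPrime F Nat.prime_two hF).symm
  exact ⟨(transferEquiv e).trans e2⟩

end Cfsg.Agent.S0824
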