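import Mathlib
import Cfsg.Statements.S2563
import Cfsg.Agent.S0826
import Cfsg.Agent.Lib.Helper13.Orth
-- import your own Cfsg.Agent.* helpers here

set_option autoImplicit false
open Cfsg

namespace Cfsg.Agent.S2563

open Matrix

section Forms

/-- isometry of two functions on coordinate spaces over `ZMod 2` -/
def Isom {α β : Type*} (Q₁ : (α → ZMod 2) → ZMod 2) (Q₂ : (β → ZMod 2) → ZMod 2) : Prop :=
  ∃ L : (α → ZMod 2) ≃ₗ[ZMod 2] (β → ZMod 2), ∀ t, Q₂ (L t) = Q₁ t

theorem Isom.refl {α : Type*} (Q : (α → ZMod 2) → ZMod 2) : Isom Q Q :=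
  ⟨LinearEquiv.refl _ _, fun _ => rfl⟩

theorem Isom.trans {α β γ : Type*} {Q₁ : (α → ZMod 2) → ZMod 2} {Q₂ : (β → ZMod 2) → ZMod 2}
    {Q₃ : (γ → ZMod 2) → ZMod 2} (h₁ : Isom Q₁ Q₂) (h₂ : Isom Q₂ Q₃) : Isom Q₁ Q₃ := by
  obtain ⟨L₁, hL₁⟩ := h₁
  obtain ⟨L₂, hL₂⟩ := h₂
  exact ⟨L₁.trans L₂, fun t => by rw [LinearEquiv.trans_apply, hL₂, hL₁]⟩

variable {ι : Type*} [Fintype ι] [DecidableEq ι]

/-- orthogonal sum of binary forms `x² + x y + ε y²` (written over `ZMod 2` as `x + ε y + x y`) -/
def Qε (ε : ι → ZMod 2) (t : ι ⊕ ι → ZMod 2) : ZMod 2 :=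
  ∑ i, (t (Sum.inl i) + ε i * t (Sum.inr i) + t (Sum.inl i) * t (Sum.inr i))

/-- the substitution turning two anisotropic planes into two hyperbolic planes -/
def flipFun (i j : ι) (t : ι ⊕ ι → ZMod 2) : ι ⊕ ι → ZMod 2
  | Sum.inl l => if l = i then t (Sum.inr i) + t (Sum.inl j)
      else if l = j then t (Sum.inl i) + t (Sum.inr i) + t (Sum.inl j) + t (Sum.inr j)
      else t (Sum.inl l)
  | Sum.inr l => if l = i then t (Sum.inl j) + t (Sum.inr j)
      else if l = j then t (Sum.inr i)
      else t (Sum.inr l)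

/-- the inverse substitution -/
def flipInv (i j : ι) (t : ι ⊕ ι → ZMod 2) : ι ⊕ ι → ZMod 2
  | Sum.inl l => if l = i then t (Sum.inl j) + t (Sum.inr i) + t (Sum.inr j)
      else if l = j then t (Sum.inl i) + t (Sum.inr j)
      else t (Sum.inl l)
  | Sum.inr l => if l = i then t (Sum.inr j)
      else if l = j then t (Sum.inl i) + t (Sum.inr i) + t (Sum.inr j)
      else t (Sum.inr l)

theorem flipInv_flipFun (i j : ι) (hij : i ≠ j) (t : ι ⊕ ι → ZMod 2) :
    flipInv i j (flipFun i j t) = t := by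
  have hji : j ≠ i := Ne.symm hij
  funext c
  rcases c with l | l
  · by_cases hli : l = i
    · subst hli
      simp only [flipInv, flipFun, if_true, hji, if_false]
      generalize t (Sum.inl l) = x, t (Sum.inr l) = y, t (Sum.inl j) = z, t (Sum.inr j) = w
      revert x y z w; decide
    · by_cases hlj : l = j
      · subst hlj
        simp only [flipInv, flipFun, if_true, hij, if_false, hli]
        generalize t (Sum.inl i) = x, t (Sum.inr i) = y, t (Sum.inl l) = z, t (Sum.inr l) = w
        revert x y z w; decide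
      · simp only [flipInv, flipFun, hli, hlj, if_false]
  · by_cases hli : l = i
    · subst hli
      simp only [flipInv, flipFun, if_true, hji, if_false]
    · by_cases hlj : l = j
      · subst hlj
        simp only [flipInv, flipFun, if_true, hij, if_false, hli]
        generalize t (Sum.inl i) = x, t (Sum.inr i) = y, t (Sum.inl l) = z, t (Sum.inr l) = w
        revert x y z w; decide
      · simp only [flipInv, flipFun, hli, hlj, if_false]

theorem flipFun_flipInv (i j : ι) (hij : i ≠ j) (t : ι ⊕ ι → ZMod 2) :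
    flipFun i j (flipInv i j t) = t := by
  have hji : j ≠ i := Ne.symm hij
  funext c
  rcases c with l | l
  · by_cases hli : l = i
    · subst hli
      simp only [flipInv, flipFun, if_true, hji, if_false]
      generalize t (Sum.inl l) = x, t (Sum.inr l) = y, t (Sum.inl j) = z, t (Sum.inr j) = w
      revert x y z w; decide
    · by_cases hlj : l = j
      · subst hlj
        simp only [flipInv, flipFun, if_true, hij, if_false, hli]
        generalize t (Sum.inl i) = x, t (Sum.inr i) = y, t (Sum.inl l) = z, t (Sum.inr l) = w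
        revert x y z w; decide
      · simp only [flipInv, flipFun, hli, hlj, if_false]
  · by_cases hli : l = i
    · subst hli
      simp only [flipInv, flipFun, if_true, hji, if_false]
      generalize t (Sum.inl l) = x, t (Sum.inr l) = y, t (Sum.inl j) = z, t (Sum.inr j) = w
      revert x y z w; decide
    · by_cases hlj : l = j
      · subst hlj
        simp only [flipInv, flipFun, if_true, hij, if_false, hli]
      · simp only [flipInv, flipFun, hli, hlj, if_false]


/-- the substitution as a linear equivalence -/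
def flipEquiv (i j : ι) (hij : i ≠ j) : (ι ⊕ ι → ZMod 2) ≃ₗ[ZMod 2] (ι ⊕ ι → ZMod 2) where
  toFun := flipFun i j
  invFun := flipInv i j
  left_inv := flipInv_flipFun i j hij
  right_inv := flipFun_flipInv i j hij
  map_add' t t' := by
    funext c
    rcases c with l | l
    · simp only [flipFun, Pi.add_apply]
      split_ifs <;> ring
    · simp only [flipFun, Pi.add_apply]
      split_ifs <;> ring
  map_smul' a t := by
    funext c
    rcases c with l | l
    · simp only [flipFun, Pi.smul_apply, smul_eq_mul, RingHom.id_apply]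
      split_ifs <;> ring
    · simp only [flipFun, Pi.smul_apply, smul_eq_mul, RingHom.id_apply]
      split_ifs <;> ring

theorem add3 {a b c a' b' c' : ZMod 2} (h : a + b = a' + b') (hc : c = c') :
    a + (b + c) = a' + (b' + c') := by
  rw [← add_assoc, ← add_assoc, h, hc]

theorem sum_split (g : ι → ZMod 2) (i j : ι) (hij : i ≠ j) :
    ∑ l, g l = g i + (g j + ∑ l ∈ (Finset.univ.erase i).erase j, g l) := by
  rw [Finset.add_sum_erase _ g (Finset.mem_erase.mpr ⟨Ne.symm hij, Finset.mem_univ j⟩),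
    Finset.add_sum_erase _ g (Finset.mem_univ i)]

theorem Qε_flip (ε : ι → ZMod 2) (i j : ι) (hij : i ≠ j) (hi : ε i = 1) (hj : ε j = 1)
    (t : ι ⊕ ι → ZMod 2) :
    Qε (Function.update (Function.update ε i 0) j 0) (flipFun i j t) = Qε ε t := by
  have hji : j ≠ i := Ne.symm hij
  unfold Qε
  rw [sum_split _ i j hij, sum_split (fun l => t (Sum.inl l) + ε l * t (Sum.inr l) +
    t (Sum.inl l) * t (Sum.inr l)) i j hij]
  apply add3
  · simp only [flipFun, if_true, hji, if_false, Function.update_self,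
      Function.update_of_ne hij, hi, hj]
    generalize t (Sum.inl i) = x, t (Sum.inr i) = y, t (Sum.inl j) = z, t (Sum.inr j) = w
    revert x y z w; decide
  · apply Finset.sum_congr rfl
    intro l hl
    rw [Finset.mem_erase, Finset.mem_erase] at hl
    obtain ⟨hlj, hli, -⟩ := hl
    simp only [flipFun, hli, hlj, if_false, Function.update_of_ne hlj, Function.update_of_ne hli]

theorem isom_flip (ε : ι → ZMod 2) (i j : ι) (hij : i ≠ j) (hi : ε i = 1) (hj : ε j = 1) :
    Isom (Qε ε) (Qε (Function.update (Function.update ε i 0) j 0)) :=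
  ⟨flipEquiv i j hij, fun t => Qε_flip ε i j hij hi hj t⟩


theorem zmod2_cases (x : ZMod 2) : x = 0 ∨ x = 1 := by
  revert x; decide

theorem isom_reduce : ∀ (n : ℕ) (ε : ι → ZMod 2),
    (Finset.univ.filter (fun l => ε l = 1)).card = n →
    ∃ ε₀ : ι → ZMod 2, Isom (Qε ε) (Qε ε₀) ∧
      ((∑ l, ε l = 0 ∧ ε₀ = 0) ∨ (∑ l, ε l = 1 ∧ ∃ i₀, ε₀ = Pi.single i₀ 1)) := by
  intro n
  induction n using Nat.strong_induction_on with
  | _ n ih =>
    intro ε hn
    by_cases h2 : 2 ≤ n
    · -- flip two
      obtain ⟨i, hi, j, hj, hij⟩ := Finset.one_lt_card.mp (by omega :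
        1 < (Finset.univ.filter (fun l => ε l = 1)).card)
      rw [Finset.mem_filter] at hi hj
      set ε' := Function.update (Function.update ε i 0) j 0 with hε'
      have hfilter : Finset.univ.filter (fun l => ε' l = 1) =
          ((Finset.univ.filter (fun l => ε l = 1)).erase i).erase j := by
        ext l
        simp only [Finset.mem_filter, Finset.mem_univ, true_and, Finset.mem_erase]
        by_cases hlj : l = j
        · subst hlj
          simp [hε']
        · by_cases hli : l = i
          · subst hli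
            simp [hε', Function.update_of_ne hlj]
          · simp [hε', Function.update_of_ne hlj, Function.update_of_ne hli, hlj, hli]
      have hcard : (Finset.univ.filter (fun l => ε' l = 1)).card = n - 2 := by
        rw [hfilter, Finset.card_erase_of_mem, Finset.card_erase_of_mem, hn]
        · rfl
        · rw [Finset.mem_filter]; exact hi
        · rw [Finset.mem_erase, Finset.mem_filter]; exact ⟨Ne.symm hij, hj⟩
      have hsum : ∑ l, ε' l = ∑ l, ε l := by
        rw [sum_split ε' i j hij, sum_split ε i j hij]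
        apply add3
        · rw [hi.2, hj.2]
          simp only [hε', Function.update_self, Function.update_of_ne hij]
          decide
        · apply Finset.sum_congr rfl
          intro l hl
          rw [Finset.mem_erase, Finset.mem_erase] at hl
          obtain ⟨hlj, hli, -⟩ := hl
          simp only [hε', Function.update_of_ne hlj, Function.update_of_ne hli]
      obtain ⟨ε₀, hisom, halt⟩ := ih (n - 2) (by omega) ε' hcard
      refine ⟨ε₀, (isom_flip ε i j hij hi.2 hj.2).trans hisom, ?_⟩
      rw [← hsum]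
      exact halt
    · -- n ≤ 1
      have hn1 : n = 0 ∨ n = 1 := by omega
      rcases hn1 with rfl | rfl
      · have h0 : ε = 0 := by
          funext l
          rcases zmod2_cases (ε l) with h | h
          · exact h
          · exfalso
            have : l ∈ Finset.univ.filter (fun l => ε l = 1) := by
              rw [Finset.mem_filter]; exact ⟨Finset.mem_univ _, h⟩
            rw [Finset.card_eq_zero.mp hn] at this
            exact absurd this (Finset.notMem_empty _)
        subst h0
        exact ⟨0, Isom.refl _, Or.inl ⟨by simp, rfl⟩⟩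
      · obtain ⟨i₀, hi₀⟩ := Finset.card_eq_one.mp hn
        have h1 : ε = Pi.single i₀ 1 := by
          funext l
          by_cases hl : l = i₀
          · subst hl
            rw [Pi.single_eq_same]
            have : l ∈ Finset.univ.filter (fun l => ε l = 1) := by rw [hi₀]; simp
            rw [Finset.mem_filter] at this
            exact this.2
          · rw [Pi.single_eq_of_ne hl]
            rcases zmod2_cases (ε l) with h | h
            · exact h
            · exfalso
              have : l ∈ Finset.univ.filter (fun l => ε l = 1) := by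
                rw [Finset.mem_filter]; exact ⟨Finset.mem_univ _, h⟩
              rw [hi₀, Finset.mem_singleton] at this
              exact hl this
        subst h1
        refine ⟨Pi.single i₀ 1, Isom.refl _, Or.inr ⟨?_, i₀, rfl⟩⟩
        rw [Finset.sum_pi_single']
        simp

end Forms


section Standard

theorem add_self2 (x : ZMod 2) : x + x = 0 := CharTwo.add_self_eq_zero x

/-- substitution for the plus form -/
def plusFun (m : ℕ) (t : Fin m ⊕ Fin m → ZMod 2) : Fin m ⊕ Fin m → ZMod 2
  | Sum.inl i => t (Sum.inl i)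
  | Sum.inr i => t (Sum.inl i) + t (Sum.inr i)

theorem plusFun_plusFun (m : ℕ) (t : Fin m ⊕ Fin m → ZMod 2) : plusFun m (plusFun m t) = t := by
  funext c
  rcases c with i | i
  · rfl
  · simp only [plusFun]
    rw [← add_assoc, add_self2, zero_add]

def plusEquiv (m : ℕ) : (Fin m ⊕ Fin m → ZMod 2) ≃ₗ[ZMod 2] (Fin m ⊕ Fin m → ZMod 2) where
  toFun := plusFun m
  invFun := plusFun m
  left_inv := plusFun_plusFun m
  right_inv := plusFun_plusFun m
  map_add' t t' := by
    funext c
    rcases c with i | i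
    · rfl
    · simp only [plusFun, Pi.add_apply]; ring
  map_smul' a t := by
    funext c
    rcases c with i | i
    · rfl
    · simp only [plusFun, Pi.smul_apply, smul_eq_mul, RingHom.id_apply]; ring

theorem isom_plus (m : ℕ) :
    Isom (Qε (0 : Fin m → ZMod 2)) (Cfsg.quadFormPlus m (ZMod 2)) := by
  refine ⟨plusEquiv m, fun t => ?_⟩
  show Cfsg.quadFormPlus m (ZMod 2) (plusFun m t) = Qε 0 t
  unfold Cfsg.quadFormPlus Qε
  apply Finset.sum_congr rfl
  intro i _
  simp only [plusFun, Pi.zero_apply]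
  generalize t (Sum.inl i) = x, t (Sum.inr i) = y
  revert x y; decide

/-- substitution for the minus form -/
def minusFun (n : ℕ) (i₀ : Fin (n + 1)) (t : Fin (n + 1) ⊕ Fin (n + 1) → ZMod 2) :
    (Fin n ⊕ Fin n) ⊕ Fin 2 → ZMod 2
  | Sum.inl (Sum.inl l) => t (Sum.inl (i₀.succAbove l))
  | Sum.inl (Sum.inr l) => t (Sum.inl (i₀.succAbove l)) + t (Sum.inr (i₀.succAbove l))
  | Sum.inr k => if k = 0 then t (Sum.inl i₀) else t (Sum.inr i₀)

def minusInv (n : ℕ) (i₀ : Fin (n + 1)) (v : (Fin n ⊕ Fin n) ⊕ Fin 2 → ZMod 2) :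
    Fin (n + 1) ⊕ Fin (n + 1) → ZMod 2
  | Sum.inl i => Fin.insertNth (α := fun _ => ZMod 2) i₀ (v (Sum.inr 0))
      (fun l => v (Sum.inl (Sum.inl l))) i
  | Sum.inr i => Fin.insertNth (α := fun _ => ZMod 2) i₀ (v (Sum.inr 1))
      (fun l => v (Sum.inl (Sum.inl l)) + v (Sum.inl (Sum.inr l))) i

theorem minusInv_minusFun (n : ℕ) (i₀ : Fin (n + 1)) (t : Fin (n + 1) ⊕ Fin (n + 1) → ZMod 2) :
    minusInv n i₀ (minusFun n i₀ t) = t := by
  funext c
  rcases c with i | i
  · refine Fin.succAboveCases i₀ ?_ ?_ i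
    · simp only [minusInv, Fin.insertNth_apply_same, minusFun]
      simp
    · intro l
      simp only [minusInv, Fin.insertNth_apply_succAbove, minusFun]
  · refine Fin.succAboveCases i₀ ?_ ?_ i
    · simp only [minusInv, Fin.insertNth_apply_same, minusFun]
      simp
    · intro l
      simp only [minusInv, Fin.insertNth_apply_succAbove, minusFun]
      rw [← add_assoc, add_self2, zero_add]

theorem minusFun_minusInv (n : ℕ) (i₀ : Fin (n + 1)) (v : (Fin n ⊕ Fin n) ⊕ Fin 2 → ZMod 2) :
    minusFun n i₀ (minusInv n i₀ v) = v := by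
  funext c
  rcases c with (l | l) | k
  · simp only [minusFun, minusInv, Fin.insertNth_apply_succAbove]
  · simp only [minusFun, minusInv, Fin.insertNth_apply_succAbove]
    rw [← add_assoc, add_self2, zero_add]
  · fin_cases k
    · simp only [minusFun, minusInv, Fin.insertNth_apply_same]
      simp
    · simp only [minusFun, minusInv, Fin.insertNth_apply_same]
      simp

def minusEquiv (n : ℕ) (i₀ : Fin (n + 1)) :
    (Fin (n + 1) ⊕ Fin (n + 1) → ZMod 2) ≃ₗ[ZMod 2] ((Fin n ⊕ Fin n) ⊕ Fin 2 → ZMod 2) where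
  toFun := minusFun n i₀
  invFun := minusInv n i₀
  left_inv := minusInv_minusFun n i₀
  right_inv := minusFun_minusInv n i₀
  map_add' t t' := by
    funext c
    rcases c with (l | l) | k
    · rfl
    · simp only [minusFun, Pi.add_apply]; ring
    · simp only [minusFun, Pi.add_apply]; split_ifs <;> rfl
  map_smul' a t := by
    funext c
    rcases c with (l | l) | k
    · rfl
    · simp only [minusFun, Pi.smul_apply, smul_eq_mul, RingHom.id_apply]; ring
    · simp only [minusFun, Pi.smul_apply, smul_eq_mul, RingHom.id_apply]; split_ifs <;> rfl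

theorem isom_minus (n : ℕ) (i₀ : Fin (n + 1)) :
    Isom (Qε (Pi.single i₀ 1 : Fin (n + 1) → ZMod 2)) (Cfsg.quadFormMinus n (ZMod 2) 1 1) := by
  refine ⟨minusEquiv n i₀, fun t => ?_⟩
  show Cfsg.quadFormMinus n (ZMod 2) 1 1 (minusFun n i₀ t) = Qε (Pi.single i₀ 1) t
  unfold Cfsg.quadFormMinus Qε
  rw [Fin.sum_univ_succAbove _ i₀, add_comm]
  congr 1
  · simp only [minusFun, Pi.single_eq_same]
    simp only [if_true, one_ne_zero, if_false]
    generalize t (Sum.inl i₀) = x, t (Sum.inr i₀) = y
    revert x y; decide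
  · apply Finset.sum_congr rfl
    intro l _
    simp only [minusFun, Pi.single_eq_of_ne (Fin.succAbove_ne i₀ l)]
    generalize t (Sum.inl (i₀.succAbove l)) = x, t (Sum.inr (i₀.succAbove l)) = y
    revert x y; decide

end Standard


section Weight

open Cfsg.Agent.S0826

variable {m : ℕ}

/-- the weight of a vector, as a natural number -/
def wtN (w : X m → ZMod 2) : ℕ := ∑ x, (w x).val

/-- the quadratic form `half the weight, modulo 2` -/
def Qbar (w : X m → ZMod 2) : ZMod 2 := ((wtN w / 2 : ℕ) : ZMod 2)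

def dotN (u v : X m → ZMod 2) : ℕ := ∑ x, (u x).val * (v x).val

theorem wtN_act (σ : Equiv.Perm (X m)) (w : X m → ZMod 2) : wtN (act σ w) = wtN w := by
  simp only [wtN, act]
  exact Equiv.sum_comp σ.symm (fun x => (w x).val)

theorem Qbar_act (σ : Equiv.Perm (X m)) (w : X m → ZMod 2) : Qbar (act σ w) = Qbar w := by
  rw [Qbar, Qbar, wtN_act]

theorem wtN_add (u v : X m → ZMod 2) : wtN (u + v) + 2 * dotN u v = wtN u + wtN v := by
  simp only [wtN, dotN, Finset.mul_sum, ← Finset.sum_add_distrib, Pi.add_apply]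
  apply Finset.sum_congr rfl
  intro x _
  generalize u x = a, v x = b
  revert a b; decide

theorem dotN_cast (u v : X m → ZMod 2) : ((dotN u v : ℕ) : ZMod 2) = u ⬝ᵥ v := by
  simp only [dotN, dotProduct, Nat.cast_sum, Nat.cast_mul, ZMod.natCast_val, ZMod.cast_id', id]

theorem wtN_cast (w : X m → ZMod 2) : ((wtN w : ℕ) : ZMod 2) = ∑ x, w x := by
  simp only [wtN, Nat.cast_sum, ZMod.natCast_val, ZMod.cast_id', id]

theorem two_dvd_wtN (w : X m → ZMod 2) (hw : ∑ x, w x = 0) : 2 ∣ wtN w := by
  rw [← wtN_cast] at hw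
  exact (ZMod.natCast_eq_zero_iff _ _).mp hw

theorem Qbar_add (u v : X m → ZMod 2) (hu : ∑ x, u x = 0) (hv : ∑ x, v x = 0) :
    Qbar (u + v) = Qbar u + Qbar v + u ⬝ᵥ v := by
  obtain ⟨a, ha⟩ := two_dvd_wtN u hu
  obtain ⟨b, hb⟩ := two_dvd_wtN v hv
  have h := wtN_add u v
  rw [← dotN_cast]
  simp only [Qbar]
  rw [ha, hb] at h ⊢
  have h1 : wtN (u + v) = 2 * (a + b - dotN u v) := by omega
  have h2 : dotN u v ≤ a + b := by omega
  rw [h1, Nat.mul_div_cancel_left _ (by norm_num : 0 < 2), Nat.mul_div_cancel_left _ (by norm_num : 0 < 2),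
    Nat.mul_div_cancel_left _ (by norm_num : 0 < 2)]
  have h3 : ((a + b - dotN u v : ℕ) : ZMod 2) + (dotN u v : ZMod 2) = (a : ZMod 2) + b := by
    rw [← Nat.cast_add, Nat.sub_add_cancel h2, Nat.cast_add]
  have h4 : ((a + b - dotN u v : ℕ) : ZMod 2) = (a : ZMod 2) + b + (dotN u v : ZMod 2) := by
    rw [← h3, add_assoc, CharTwo.add_self_eq_zero, add_zero]
  exact h4

theorem Qbar_zero : Qbar (0 : X m → ZMod 2) = 0 := by
  simp [Qbar, wtN]

theorem sumXN (f : X m → ℕ) :
    ∑ x, f x = ∑ j, f (Sum.inl (Sum.inl j)) + ∑ j, f (Sum.inl (Sum.inr j)) + f (Sum.inr 0)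
      + f (Sum.inr 1) := by
  simp only [Fintype.sum_sum_type, Fin.sum_univ_two]
  ring

theorem ite_val (P : Prop) [Decidable P] : (if P then (1 : ZMod 2) else 0).val = if P then 1 else 0 := by
  split_ifs <;> rfl

theorem wtN_p (i : Fin m) : wtN (p m i) = 2 := by
  rw [wtN, sumXN]
  simp only [p, ite_val, Finset.sum_ite_eq', Finset.mem_univ, if_true]
  rfl

theorem wtN_q (i : Fin m) : wtN (q m i) = 2 * i.val + 2 := by
  rw [wtN, sumXN]
  simp only [q, ite_val, Finset.sum_boole]
  have h1 : (Finset.univ.filter (fun j : Fin m => j < i)).card = i.val := by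
    rw [← Fin.card_Iio i]
    congr 1
    ext j
    simp
  have h2 : (Finset.univ.filter (fun j : Fin m => j ≤ i)).card = i.val + 1 := by
    rw [← Fin.card_Iic i]
    congr 1
    ext j
    simp
  simp only [h1, h2, Nat.cast_id]
  simp
  ring

theorem Qbar_p (i : Fin m) : Qbar (p m i) = 1 := by
  rw [Qbar, wtN_p]; rfl

theorem Qbar_q (i : Fin m) : Qbar (q m i) = (i.val : ZMod 2) + 1 := by
  rw [Qbar, wtN_q]
  have : (2 * i.val + 2) / 2 = i.val + 1 := by omega
  rw [this]
  push_cast
  rfl

end Weight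


section QPrime

open Cfsg.Agent.S0826

variable {m : ℕ}

/-- the component of `comb t` in the `i`-th plane -/
def hvec (t : I m → ZMod 2) (i : Fin m) : X m → ZMod 2 :=
  t (Sum.inl i) • p m i + t (Sum.inr i) • q m i

theorem comb_eq (t : I m → ZMod 2) : comb t = ∑ i, hvec t i := by
  funext x
  simp only [comb, Fintype.sum_sum_type, b, hvec, Finset.sum_apply, Pi.add_apply, Pi.smul_apply,
    smul_eq_mul, Finset.sum_add_distrib]

theorem sum_hvec (t : I m → ZMod 2) (i : Fin m) : ∑ x, hvec t i x = 0 := by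
  simp only [hvec, Pi.add_apply, Pi.smul_apply, smul_eq_mul, Finset.sum_add_distrib,
    ← Finset.mul_sum, sum_p, sum_q, mul_zero, add_zero]

theorem hvec_dot (t : I m → ZMod 2) (i j : Fin m) (hij : i ≠ j) : hvec t i ⬝ᵥ hvec t j = 0 := by
  simp only [hvec, add_dotProduct, dotProduct_add, smul_dotProduct, dotProduct_smul, smul_eq_mul,
    gram_pp, gram_qq, gram_pq, hij, if_false, mul_zero, add_zero]
  rw [dotProduct_comm, gram_pq, if_neg (Ne.symm hij)]
  simp

theorem Qbar_hvec (t : I m → ZMod 2) (i : Fin m) :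
    Qbar (hvec t i) = t (Sum.inl i) + Qbar (q m i) * t (Sum.inr i) + t (Sum.inl i) * t (Sum.inr i) := by
  have hpq : Qbar (p m i + q m i) = Qbar (q m i) := by
    rw [Qbar_add _ _ (sum_p i) (sum_q i), Qbar_p, gram_pq, if_pos rfl]
    rw [add_comm (1 : ZMod 2), add_assoc, add_self2, add_zero]
  unfold hvec
  rcases zmod2_cases (t (Sum.inl i)) with hx | hx <;> rcases zmod2_cases (t (Sum.inr i)) with hy | hy
  · rw [hx, hy]; simp [Qbar_zero]
  · rw [hx, hy]; simp
  · rw [hx, hy]; simp [Qbar_p]
  · rw [hx, hy, one_smul, one_smul, hpq]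
    rw [mul_one, mul_one, add_comm (1 : ZMod 2), add_assoc, add_self2, add_zero]

theorem Qbar_sum_orth (h : Fin m → X m → ZMod 2) (hs : ∀ i, ∑ x, h i x = 0)
    (horth : ∀ i j, i ≠ j → h i ⬝ᵥ h j = 0) (s : Finset (Fin m)) :
    Qbar (∑ i ∈ s, h i) = ∑ i ∈ s, Qbar (h i) := by
  classical
  induction s using Finset.induction_on with
  | empty => simp [Qbar_zero]
  | insert a s ha ih =>
    rw [Finset.sum_insert ha, Finset.sum_insert ha, Qbar_add _ _ (hs a), ih]
    · have : h a ⬝ᵥ ∑ i ∈ s, h i = 0 := by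
        rw [dotProduct_sum]
        apply Finset.sum_eq_zero
        intro i hi
        exact horth a i (fun hai => ha (hai ▸ hi))
      rw [this, add_zero]
    · simp only [Finset.sum_apply]
      rw [Finset.sum_comm]
      exact Finset.sum_eq_zero (fun i _ => hs i)

/-- the quadratic form in symplectic coordinates -/
theorem Qbar_comb (t : I m → ZMod 2) : Qbar (comb t) = Qε (fun i => Qbar (q m i)) t := by
  rw [comb_eq, Qbar_sum_orth _ (sum_hvec t) (hvec_dot t)]
  unfold Qε
  apply Finset.sum_congr rfl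
  intro i _
  exact Qbar_hvec t i

end QPrime


section Assembly

open Cfsg.Agent.S0826 Cfsg.Agent.Lib.Helper13

variable {m : ℕ}

theorem Qbar_one (hm : Odd m) : Qbar (fun _ : X m => (1 : ZMod 2)) = 0 := by
  obtain ⟨k, rfl⟩ := hm
  have h1 : wtN (fun _ : X (2 * k + 1) => (1 : ZMod 2)) = 2 * (2 * k + 2) := by
    simp only [wtN, Finset.sum_const, Finset.card_univ, Fintype.card_sum, Fintype.card_fin,
      smul_eq_mul]
    have : (1 : ZMod 2).val = 1 := rfl
    rw [this]; ring
  rw [Qbar, h1, Nat.mul_div_cancel_left _ (by norm_num : 0 < 2)]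
  push_cast
  have h2 : (2 : ZMod 2) = 0 := by decide
  rw [h2]; ring

theorem sum_one : ∑ _x : X m, (1 : ZMod 2) = 0 := by
  simp only [Finset.sum_const, Finset.card_univ, nsmul_eq_mul, mul_one]
  exact card_X_zero

theorem Qbar_add_const (hm : Odd m) (w : X m → ZMod 2) (hw : ∑ x, w x = 0) (ε : ZMod 2) :
    Qbar (w + fun _ => ε) = Qbar w := by
  rcases zmod2_cases ε with rfl | rfl
  · have : (w + fun _ => (0 : ZMod 2)) = w := by funext x; simp
    rw [this]
  · rw [Qbar_add _ _ hw sum_one, Qbar_one hm, add_zero]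
    have : w ⬝ᵥ (fun _ => (1 : ZMod 2)) = ∑ x, w x := by simp [dotProduct]
    rw [this, hw, add_zero]

/-- the matrices `M σ` preserve the quadratic form in coordinates -/
theorem Qbar_comb_M (hm : Odd m) (σ : Equiv.Perm (X m)) (t : I m → ZMod 2) :
    Qbar (comb (M σ *ᵥ t)) = Qbar (comb t) := by
  rw [M_mulVec]
  have hw : ∑ x, act σ (comb t) x = 0 := by rw [sum_act, sum_comb]
  obtain ⟨ε, hε⟩ := expansion (act σ (comb t)) hw
  have h1 : comb (coords (act σ (comb t))) = act σ (comb t) + fun _ => ε := by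
    funext x
    rw [Pi.add_apply, hε x, add_assoc, add_self2, add_zero]
  rw [h1, Qbar_add_const hm _ hw, Qbar_act]

variable {J : Type} [Fintype J] [DecidableEq J]

theorem toMatrix_mul_symm (L : (I m → ZMod 2) ≃ₗ[ZMod 2] (J → ZMod 2)) :
    LinearMap.toMatrix' L.toLinearMap * LinearMap.toMatrix' L.symm.toLinearMap = 1 := by
  rw [← LinearMap.toMatrix'_comp, LinearEquiv.comp_symm, LinearMap.toMatrix'_id]

theorem toMatrix_symm_mul (L : (I m → ZMod 2) ≃ₗ[ZMod 2] (J → ZMod 2)) :
    LinearMap.toMatrix' L.symm.toLinearMap * LinearMap.toMatrix' L.toLinearMap = 1 := by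
  rw [← LinearMap.toMatrix'_comp, LinearEquiv.symm_comp, LinearMap.toMatrix'_id]

/-- the conjugated matrices -/
def gMat (L : (I m → ZMod 2) ≃ₗ[ZMod 2] (J → ZMod 2)) (σ : Equiv.Perm (X m)) :
    Matrix J J (ZMod 2) :=
  LinearMap.toMatrix' L.toLinearMap * M σ * LinearMap.toMatrix' L.symm.toLinearMap

theorem gMat_one (L : (I m → ZMod 2) ≃ₗ[ZMod 2] (J → ZMod 2)) : gMat L 1 = 1 := by
  rw [gMat, M_one, Matrix.mul_one, toMatrix_mul_symm]

theorem gMat_mul (L : (I m → ZMod 2) ≃ₗ[ZMod 2] (J → ZMod 2)) (σ τ : Equiv.Perm (X m)) :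
    gMat L (σ * τ) = gMat L σ * gMat L τ := by
  simp only [gMat, M_mul]
  have h := toMatrix_symm_mul L
  set P : Matrix J (I m) (ZMod 2) := LinearMap.toMatrix' L.toLinearMap with hP
  set P' : Matrix (I m) J (ZMod 2) := LinearMap.toMatrix' L.symm.toLinearMap with hP'
  calc P * (M σ * M τ) * P'
      = P * M σ * (1 : Matrix (I m) (I m) (ZMod 2)) * M τ * P' := by
        rw [Matrix.mul_one]; simp only [Matrix.mul_assoc]
    _ = P * M σ * (P' * P) * M τ * P' := by rw [h]
    _ = P * M σ * P' * (P * M τ * P') := by simp only [Matrix.mul_assoc]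

/-- the conjugated matrices as elements of `GL` -/
def gGL (L : (I m → ZMod 2) ≃ₗ[ZMod 2] (J → ZMod 2)) (σ : Equiv.Perm (X m)) :
    Matrix.GeneralLinearGroup J (ZMod 2) :=
  ⟨gMat L σ, gMat L σ⁻¹, by rw [← gMat_mul, mul_inv_cancel, gMat_one],
    by rw [← gMat_mul, inv_mul_cancel, gMat_one]⟩

theorem gGL_mem (hm : Odd m) (L : (I m → ZMod 2) ≃ₗ[ZMod 2] (J → ZMod 2))
    (Qs : (J → ZMod 2) → ZMod 2) (hL : ∀ t, Qs (L t) = Qbar (comb t)) (σ : Equiv.Perm (X m)) :
    gGL L σ ∈ Cfsg.isometryGroup (ZMod 2) Qs := by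
  rw [mem_isometryGroup_iff]
  intro u
  show Qs (gMat L σ *ᵥ u) = Qs u
  have h1 : gMat L σ *ᵥ u = L (M σ *ᵥ (L.symm u)) := by
    rw [gMat, ← Matrix.mulVec_mulVec, ← Matrix.mulVec_mulVec, LinearMap.toMatrix'_mulVec,
      LinearMap.toMatrix'_mulVec]
    rfl
  rw [h1, hL, Qbar_comb_M hm, ← hL, LinearEquiv.apply_symm_apply]

/-- the embedding of the symmetric group into the isometry group of a standard form -/
theorem exists_hom (hm : Odd m) (hm2 : 2 ≤ m) (Qs : (J → ZMod 2) → ZMod 2)
    (h : Isom (fun t : I m → ZMod 2 => Qbar (comb t)) Qs) :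
    ∃ φ : Equiv.Perm (X m) →* ↥(Cfsg.isometryGroup (ZMod 2) Qs), Function.Injective φ := by
  obtain ⟨L, hL⟩ := h
  let φ : Equiv.Perm (X m) →* ↥(Cfsg.isometryGroup (ZMod 2) Qs) :=
    { toFun := fun σ => ⟨gGL L σ, gGL_mem hm L Qs hL σ⟩
      map_one' := Subtype.ext (Units.ext (gMat_one L))
      map_mul' := fun σ τ => Subtype.ext (Units.ext (gMat_mul L σ τ)) }
  refine ⟨φ, ?_⟩
  rw [injective_iff_map_eq_one]
  intro σ hσ
  have h1 : gMat L σ = 1 := congrArg (fun g => ((g.1 : Matrix.GeneralLinearGroup J (ZMod 2)) :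
    Matrix J J (ZMod 2))) hσ
  apply eq_one_of_M_eq_one hm2
  have h3 := toMatrix_symm_mul L
  set P : Matrix J (I m) (ZMod 2) := LinearMap.toMatrix' L.toLinearMap with hP
  set P' : Matrix (I m) J (ZMod 2) := LinearMap.toMatrix' L.symm.toLinearMap with hP'
  have h2 : M σ = P' * gMat L σ * P := by
    rw [gMat]
    calc M σ = (1 : Matrix (I m) (I m) (ZMod 2)) * M σ * (1 : Matrix (I m) (I m) (ZMod 2)) := by
          rw [Matrix.one_mul, Matrix.mul_one]
      _ = (P' * P) * M σ * (P' * P) := by rw [h3]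
      _ = P' * (P * M σ * P') * P := by simp only [Matrix.mul_assoc]
  rw [h2, h1, Matrix.mul_one, h3]

end Assembly


section Final

open Cfsg.Agent.S0826

theorem sum_eps (k : ℕ) :
    ∑ i : Fin (2 * k + 1), Qbar (q (2 * k + 1) i) = (k : ZMod 2) + 1 := by
  simp only [Qbar_q]
  rw [Fin.sum_univ_eq_sum_range (fun j => ((j : ℕ) : ZMod 2) + 1) (2 * k + 1)]
  induction k with
  | zero => simp
  | succ k ih =>
    have : 2 * (k + 1) + 1 = (2 * k + 1) + 1 + 1 := by ring
    rw [this, Finset.sum_range_succ, Finset.sum_range_succ, ih]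
    push_cast
    have h2 : (2 : ZMod 2) = 0 := by decide
    linear_combination (2 * k + 2 : ZMod 2) * h2

theorem isom_coords (m : ℕ) :
    Isom (fun t : I m → ZMod 2 => Qbar (comb t)) (Qε (fun i : Fin m => Qbar (q m i))) := by
  have : (fun t : I m → ZMod 2 => Qbar (comb t)) = Qε (fun i : Fin m => Qbar (q m i)) :=
    funext Qbar_comb
  rw [this]
  exact Isom.refl _

theorem card_eq (k : ℕ) : Fintype.card (Fin (4 * k + 4)) = Fintype.card (X (2 * k + 1)) := by
  simp only [Fintype.card_sum, Fintype.card_fin]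
  omega

end Final

open Cfsg.Agent.S0826 in

/-- For k ≥ 1 the symmetric group of degree 4k + 4 embeds in a full orthogonal group in dimension 4k + 2 over the field of two elements: in the isometry group of the plus-type form Σ xᵢyᵢ when k is odd, and in that of the minus-type form Σ xᵢyᵢ + (z₁² + z₁z₂ + z₂²) when k is even (through its action on even partitions of a (4k+4)-set, with the form 'half the size of a part, modulo 2'). -/
theorem result (k : ℕ) (hk : 1 ≤ k) :
    (Odd k → ∃ φ : Equiv.Perm (Fin (4 * k + 4)) →* ↥(Cfsg.isometryGroup (ZMod 2) (Cfsg.quadFormPlus (2 * k + 1) (ZMod 2))), Function.Injective φ) ∧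
    (Even k → ∃ φ : Equiv.Perm (Fin (4 * k + 4)) →* ↥(Cfsg.isometryGroup (ZMod 2) (Cfsg.quadFormMinus (2 * k) (ZMod 2) 1 1)), Function.Injective φ) := by
  have hm : Odd (2 * k + 1) := ⟨k, rfl⟩
  have hm2 : 2 ≤ 2 * k + 1 := by omega
  let e : Fin (4 * k + 4) ≃ X (2 * k + 1) := Fintype.equivOfCardEq (card_eq k)
  obtain ⟨ε₀, hisom, halt⟩ := isom_reduce _ (fun i : Fin (2 * k + 1) => Qbar (q (2 * k + 1) i)) rfl
  rw [sum_eps] at halt
  have h2 : (2 : ZMod 2) = 0 := by decide
  constructor
  · intro hodd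
    obtain ⟨j, rfl⟩ := hodd
    have hsum : (((2 * j + 1 : ℕ)) : ZMod 2) + 1 = 0 := by
      push_cast; linear_combination (j + 1 : ZMod 2) * h2
    rcases halt with ⟨-, rfl⟩ | ⟨h1, -⟩
    · obtain ⟨φ, hφ⟩ := exists_hom hm hm2 _
        (((isom_coords _).trans hisom).trans (isom_plus _))
      exact ⟨φ.comp e.permCongrHom.toMonoidHom, hφ.comp e.permCongrHom.injective⟩
    · rw [hsum] at h1
      exact absurd h1 (by decide)
  · intro heven
    obtain ⟨j, rfl⟩ := heven
    have hsum : (((j + j : ℕ)) : ZMod 2) + 1 = 1 := by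
      push_cast; linear_combination (j : ZMod 2) * h2
    rcases halt with ⟨h1, -⟩ | ⟨-, i₀, rfl⟩
    · rw [hsum] at h1
      exact absurd h1 (by decide)
    · obtain ⟨φ, hφ⟩ := exists_hom hm hm2 _
        (((isom_coords _).trans hisom).trans (isom_minus _ i₀))
      exact ⟨φ.comp e.permCongrHom.toMonoidHom, hφ.comp e.permCongrHom.injective⟩

end Cfsg.Agent.S2563
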