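import Mathlib
import Cfsg.Statements.S0825
import Cfsg.Agent.S2563
import Cfsg.Agent.Lib.Helper13.ReflGen
import Cfsg.Agent.Lib.Helper13.Orth
-- import your own Cfsg.Agent.* helpers here

set_option autoImplicit false
open Cfsg

namespace Cfsg.Agent.S0825

open Matrix Cfsg.Agent.S0826 Cfsg.Agent.S2563 Cfsg.Agent.Lib.Helper13

section PlusQF

variable (m : ℕ) (F : Type*) [Field F]

/-- The polar form of the plus form. -/
def plusB : LinearMap.BilinForm F (Fin m ⊕ Fin m → F) :=
  LinearMap.mk₂ F (fun u v => ∑ i : Fin m, (u (Sum.inl i) * v (Sum.inr i) + v (Sum.inl i) * u (Sum.inr i)))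
    (by
      intro u u' v
      rw [← Finset.sum_add_distrib]
      apply Finset.sum_congr rfl
      intro i _
      simp only [Pi.add_apply]
      ring)
    (by
      intro c u v
      rw [smul_eq_mul, Finset.mul_sum]
      apply Finset.sum_congr rfl
      intro i _
      simp only [Pi.smul_apply, smul_eq_mul]
      ring)
    (by
      intro u v v'
      rw [← Finset.sum_add_distrib]
      apply Finset.sum_congr rfl
      intro i _
      simp only [Pi.add_apply]
      ring)
    (by
      intro c u v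
      rw [smul_eq_mul, Finset.mul_sum]
      apply Finset.sum_congr rfl
      intro i _
      simp only [Pi.smul_apply, smul_eq_mul]
      ring)

theorem plusB_apply (u v : Fin m ⊕ Fin m → F) :
    plusB m F u v = ∑ i : Fin m, (u (Sum.inl i) * v (Sum.inr i) + v (Sum.inl i) * u (Sum.inr i)) :=
  rfl

/-- The plus form as a quadratic form. -/
def plusQF : QuadraticForm F (Fin m ⊕ Fin m → F) where
  toFun := Cfsg.quadFormPlus m F
  toFun_smul := by
    intro a x
    unfold Cfsg.quadFormPlus
    rw [smul_eq_mul, Finset.mul_sum]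
    apply Finset.sum_congr rfl
    intro i _
    simp only [Pi.smul_apply, smul_eq_mul]
    ring
  exists_companion' := ⟨plusB m F, by
    intro x y
    rw [plusB_apply]
    unfold Cfsg.quadFormPlus
    rw [← Finset.sum_add_distrib, ← Finset.sum_add_distrib]
    apply Finset.sum_congr rfl
    intro i _
    simp only [Pi.add_apply]
    ring⟩

theorem plusQF_polar (u v : Fin m ⊕ Fin m → F) :
    QuadraticMap.polar (⇑(plusQF m F)) u v = plusB m F u v := by
  show Cfsg.quadFormPlus m F (u + v) - Cfsg.quadFormPlus m F u - Cfsg.quadFormPlus m F v = _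
  rw [plusB_apply]
  unfold Cfsg.quadFormPlus
  rw [← Finset.sum_sub_distrib, ← Finset.sum_sub_distrib]
  apply Finset.sum_congr rfl
  intro i _
  simp only [Pi.add_apply]
  ring

theorem plusQF_nondeg : (QuadraticMap.polarBilin (plusQF m F)).Nondegenerate := by
  classical
  have hleft : ∀ x : Fin m ⊕ Fin m → F,
      (∀ y, QuadraticMap.polar (⇑(plusQF m F)) x y = 0) → x = 0 := by
    intro x hx
    funext j
    rcases j with j | j
    · have h := hx (Pi.single (Sum.inr j) 1)
      rw [plusQF_polar, plusB_apply, Finset.sum_eq_single j] at h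
      · simpa using h
      · intro i _ hij
        simp [hij]
      · intro h'
        exact absurd (Finset.mem_univ j) h'
    · have h := hx (Pi.single (Sum.inl j) 1)
      rw [plusQF_polar, plusB_apply, Finset.sum_eq_single j] at h
      · simpa using h
      · intro i _ hij
        simp [hij]
      · intro h'
        exact absurd (Finset.mem_univ j) h'
  constructor
  · intro x hx
    exact hleft x hx
  · intro y hy
    apply hleft y
    intro x
    rw [QuadraticMap.polar_comm]
    exact hy x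

end PlusQF

section Weight2

variable {m : ℕ}

/-- the vector with ones exactly at `i` and `j` -/
def pairVec (i j : X m) : X m → ZMod 2 := Pi.single i 1 + Pi.single j 1

theorem val_eq_ite (a : ZMod 2) : a.val = if a = 1 then 1 else 0 := by
  revert a; decide

theorem wtN_eq_card (w : X m → ZMod 2) : wtN w = (Finset.univ.filter (fun x => w x = 1)).card := by
  simp only [wtN, val_eq_ite]
  rw [Finset.card_filter]

theorem exists_pair (w : X m → ZMod 2) (hw : wtN w = 2) :
    ∃ i j, i ≠ j ∧ w = pairVec i j := by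
  rw [wtN_eq_card, Finset.card_eq_two] at hw
  obtain ⟨i, j, hij, hs⟩ := hw
  refine ⟨i, j, hij, ?_⟩
  funext x
  have hx : w x = 1 ↔ x = i ∨ x = j := by
    have : x ∈ Finset.univ.filter (fun x => w x = 1) ↔ x ∈ ({i, j} : Finset (X m)) := by rw [hs]
    simpa using this
  simp only [pairVec, Pi.add_apply]
  by_cases hxi : x = i
  · subst hxi
    rw [Pi.single_eq_same, Pi.single_eq_of_ne hij, add_zero]
    exact hx.mpr (Or.inl rfl)
  · by_cases hxj : x = j
    · subst hxj
      rw [Pi.single_eq_same, Pi.single_eq_of_ne hxi, zero_add]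
      exact hx.mpr (Or.inr rfl)
    · rw [Pi.single_eq_of_ne hxi, Pi.single_eq_of_ne hxj, add_zero]
      rcases zmod2_cases (w x) with h | h
      · exact h
      · exact absurd (hx.mp h) (by tauto)

theorem wtN_add_one (w : X m → ZMod 2) :
    wtN (w + fun _ => (1 : ZMod 2)) + wtN w = Fintype.card (X m) := by
  simp only [wtN]
  rw [← Finset.sum_add_distrib, Fintype.card_eq_sum_ones]
  apply Finset.sum_congr rfl
  intro x _
  simp only [Pi.add_apply]
  generalize w x = a
  revert a; decide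

theorem wtN_le (w : X m → ZMod 2) : wtN w ≤ Fintype.card (X m) := by
  have := wtN_add_one w
  omega

theorem act_swap (i j : X m) (w : X m → ZMod 2) :
    act (Equiv.swap i j) w = w + (w i + w j) • pairVec i j := by
  funext x
  simp only [act, Equiv.symm_swap, Pi.add_apply, Pi.smul_apply, smul_eq_mul, pairVec]
  by_cases hxi : x = i
  · subst hxi
    rw [Equiv.swap_apply_left, Pi.single_eq_same]
    by_cases hxj : x = j
    · subst hxj
      rw [Pi.single_eq_same, S0826.add_self2, zero_mul, add_zero]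
    · rw [Pi.single_eq_of_ne hxj, add_zero, mul_one, ← add_assoc, S0826.add_self2, zero_add]
  · by_cases hxj : x = j
    · subst hxj
      rw [Equiv.swap_apply_right, Pi.single_eq_same, Pi.single_eq_of_ne hxi, zero_add, mul_one,
        add_comm (w i), ← add_assoc, S0826.add_self2, zero_add]
    · rw [Equiv.swap_apply_of_ne_of_ne hxi hxj, Pi.single_eq_of_ne hxi, Pi.single_eq_of_ne hxj,
        add_zero, mul_zero, add_zero]

theorem dot_pairVec (i j : X m) (w : X m → ZMod 2) : w ⬝ᵥ pairVec i j = w i + w j := by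
  simp only [pairVec, dotProduct_add, dotProduct_single, mul_one]

theorem coords_smul (c : ZMod 2) (w : X m → ZMod 2) : coords (c • w) = c • coords w := by
  funext a
  simp [coords, smul_dotProduct]

theorem comb_add (s t : I m → ZMod 2) : comb (s + t) = comb s + comb t := by
  funext x
  simp only [comb, Pi.add_apply, add_mul, Finset.sum_add_distrib]

end Weight2

section Three

/-- in the case of eight points, the nonsingular vectors are the pairs, modulo the all-ones
vector -/
theorem exists_pair_of_Qbar (w : X 3 → ZMod 2) (hw : ∑ x, w x = 0) (hQ : Qbar w = 1) :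
    ∃ i j, i ≠ j ∧ ∃ ε : ZMod 2, pairVec i j = w + fun _ => ε := by
  have h8 : Fintype.card (X 3) = 8 := by simp
  have h1 := wtN_add_one w
  obtain ⟨a, ha⟩ := two_dvd_wtN w hw
  have h2 : (wtN w / 2) % 2 = 1 := by
    have : ((wtN w / 2 : ℕ) : ZMod 2) = 1 := hQ
    have h3 := congrArg ZMod.val this
    rw [ZMod.val_natCast] at h3
    exact h3
  rw [h8] at h1
  have h4 : wtN w = 2 ∨ wtN w = 6 := by omega
  rcases h4 with h4 | h4
  · obtain ⟨i, j, hij, h⟩ := exists_pair w h4
    refine ⟨i, j, hij, 0, ?_⟩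
    rw [← h]
    funext x
    simp
  · have h5 : wtN (w + fun _ => (1 : ZMod 2)) = 2 := by omega
    obtain ⟨i, j, hij, h⟩ := exists_pair _ h5
    exact ⟨i, j, hij, 1, h.symm⟩

/-- a nonsingular vector gives a transposition acting as the reflection -/
theorem exists_swap (v : I 3 → ZMod 2) (hv : Qbar (comb v) = 1) :
    ∃ σ : Equiv.Perm (X 3), ∀ t : I 3 → ZMod 2,
      M σ *ᵥ t = t + (comb v ⬝ᵥ comb t) • v := by
  obtain ⟨i, j, hij, ε, hε⟩ := exists_pair_of_Qbar (comb v) (sum_comb v) hv
  refine ⟨Equiv.swap i j, fun t => ?_⟩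
  rw [M_mulVec, act_swap, ← dot_pairVec, hε, coords_add, coords_smul, coords_add, coords_const,
    add_zero, coords_comb, coords_comb, dotProduct_add]
  have h1 : comb t ⬝ᵥ (fun _ => ε) = 0 := by
    simp only [dotProduct, ← Finset.sum_mul, sum_comb, zero_mul]
  rw [h1, add_zero, dotProduct_comm]

end Three

section Group

/-- the index type of the standard form -/
abbrev J := Fin 3 ⊕ Fin 3

/-- the standard plus form as a quadratic form -/
abbrev Qs : QuadraticForm (ZMod 2) (J → ZMod 2) := plusQF 3 (ZMod 2)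

theorem exists_L : ∃ L : (I 3 → ZMod 2) ≃ₗ[ZMod 2] (J → ZMod 2),
    ∀ t, Cfsg.quadFormPlus 3 (ZMod 2) (L t) = Qbar (comb t) := by
  obtain ⟨ε₀, hisom, halt⟩ := isom_reduce _ (fun i : Fin 3 => Qbar (q 3 i)) rfl
  have hsum : ∑ i : Fin 3, Qbar (q 3 i) = 0 := by
    simp only [Qbar_q]
    decide
  rcases halt with ⟨-, rfl⟩ | ⟨h1, -⟩
  · exact ((isom_coords 3).trans hisom).trans (isom_plus 3)
  · rw [hsum] at h1
    exact absurd h1 (by decide)

variable (L : (I 3 → ZMod 2) ≃ₗ[ZMod 2] (J → ZMod 2))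

theorem gMat_mulVec (σ : Equiv.Perm (X 3)) (u : J → ZMod 2) :
    gMat L σ *ᵥ u = L (M σ *ᵥ (L.symm u)) := by
  rw [gMat, ← Matrix.mulVec_mulVec, ← Matrix.mulVec_mulVec, LinearMap.toMatrix'_mulVec,
    LinearMap.toMatrix'_mulVec]
  rfl

variable (hL : ∀ t, Cfsg.quadFormPlus 3 (ZMod 2) (L t) = Qbar (comb t))

include hL in
theorem polar_L (s t : I 3 → ZMod 2) :
    QuadraticMap.polar (⇑Qs) (L s) (L t) = comb s ⬝ᵥ comb t := by
  unfold QuadraticMap.polar
  show Cfsg.quadFormPlus 3 (ZMod 2) (L s + L t) - Cfsg.quadFormPlus 3 (ZMod 2) (L s) -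
    Cfsg.quadFormPlus 3 (ZMod 2) (L t) = _
  rw [← map_add, hL, hL, hL, comb_add, Qbar_add _ _ (sum_comb s) (sum_comb t)]
  ring

include hL in
theorem refl_eq (u : J → ZMod 2) (hu : Qs u ≠ 0) :
    ∃ σ : Equiv.Perm (X 3), ∀ z, gMat L σ *ᵥ z = reflLin Qs u z := by
  have hu1 : Qs u = 1 := by
    rcases zmod2_cases (Qs u) with h | h
    · exact absurd h hu
    · exact h
  have hv : Qbar (comb (L.symm u)) = 1 := by
    rw [← hL, LinearEquiv.apply_symm_apply]
    exact hu1
  obtain ⟨σ, hσ⟩ := exists_swap (L.symm u) hv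
  refine ⟨σ, fun z => ?_⟩
  have hpol : QuadraticMap.polar (⇑Qs) u z = comb (L.symm u) ⬝ᵥ comb (L.symm z) := by
    have := polar_L L hL (L.symm u) (L.symm z)
    rwa [LinearEquiv.apply_symm_apply, LinearEquiv.apply_symm_apply] at this
  rw [gMat_mulVec, hσ, reflLin_apply, hu1, inv_one, one_mul, map_add, map_smul,
    LinearEquiv.apply_symm_apply, LinearEquiv.apply_symm_apply, hpol, sub_eq_add_neg, ← neg_smul,
    CharTwo.neg_eq]

/-- invertible matrices as linear equivalences -/
noncomputable def glE : Matrix.GeneralLinearGroup J (ZMod 2) ≃*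
    ((J → ZMod 2) ≃ₗ[ZMod 2] (J → ZMod 2)) :=
  (Matrix.GeneralLinearGroup.toLin).trans
    (LinearMap.GeneralLinearGroup.generalLinearEquiv (ZMod 2) (J → ZMod 2))

theorem glE_apply (g : Matrix.GeneralLinearGroup J (ZMod 2)) (v : J → ZMod 2) :
    glE g v = (g : Matrix J J (ZMod 2)) *ᵥ v := rfl

include hL in
theorem reflGroup_le (T : (J → ZMod 2) ≃ₗ[ZMod 2] (J → ZMod 2)) (hT : T ∈ reflGroup Qs) :
    ∃ σ : Equiv.Perm (X 3), ∀ z, T z = gMat L σ *ᵥ z := by
  unfold reflGroup at hT
  induction hT using Subgroup.closure_induction with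
  | mem T hT =>
    obtain ⟨v, hv, hTv⟩ := hT
    obtain ⟨σ, hσ⟩ := refl_eq L hL v hv
    exact ⟨σ, fun z => by rw [hTv, hσ]⟩
  | one => exact ⟨1, fun z => by rw [gMat_one, Matrix.one_mulVec]; rfl⟩
  | mul T₁ T₂ _ _ ih₁ ih₂ =>
    obtain ⟨σ₁, h₁⟩ := ih₁
    obtain ⟨σ₂, h₂⟩ := ih₂
    refine ⟨σ₁ * σ₂, fun z => ?_⟩
    rw [gMat_mul, ← Matrix.mulVec_mulVec, ← h₂, ← h₁]
    rfl
  | inv T _ ih =>
    obtain ⟨σ, h⟩ := ih
    refine ⟨σ⁻¹, fun z => ?_⟩
    apply T.injective
    have hz : T (T⁻¹ z) = z := LinearEquiv.apply_symm_apply T z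
    rw [hz, h (gMat L σ⁻¹ *ᵥ z), Matrix.mulVec_mulVec, ← gMat_mul, mul_inv_cancel, gMat_one,
      Matrix.one_mulVec]

include hL in
theorem exists_perm (g : Matrix.GeneralLinearGroup J (ZMod 2))
    (hg : g ∈ Cfsg.isometryGroup (ZMod 2) (Cfsg.quadFormPlus 3 (ZMod 2))) :
    ∃ σ : Equiv.Perm (X 3), (g : Matrix J J (ZMod 2)) = gMat L σ := by
  have hmem : glE g ∈ reflGroup Qs := by
    apply isometry_mem_reflGroup Qs (plusQF_nondeg 3 (ZMod 2))
    · right
      rw [Module.finrank_pi]
      simp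
    · intro z
      rw [glE_apply]
      exact (mem_isometryGroup_iff _ g).mp hg z
  obtain ⟨σ, hσ⟩ := reflGroup_le L hL _ hmem
  refine ⟨σ, ?_⟩
  apply Matrix.toLin'.injective
  apply LinearMap.ext
  intro z
  rw [Matrix.toLin'_apply, Matrix.toLin'_apply]
  exact hσ z

theorem nonempty_mulEquiv :
    Nonempty (↥(Cfsg.isometryGroup (ZMod 2) (Cfsg.quadFormPlus 3 (ZMod 2))) ≃*
      Equiv.Perm (Fin 8)) := by
  obtain ⟨L, hL⟩ := exists_L
  have hm : Odd 3 := by decide
  let φ : Equiv.Perm (X 3) →* ↥(Cfsg.isometryGroup (ZMod 2) (Cfsg.quadFormPlus 3 (ZMod 2))) :=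
    { toFun := fun σ => ⟨gGL L σ, gGL_mem hm L _ hL σ⟩
      map_one' := Subtype.ext (Units.ext (gMat_one L))
      map_mul' := fun σ τ => Subtype.ext (Units.ext (gMat_mul L σ τ)) }
  have hinj : Function.Injective φ := by
    rw [injective_iff_map_eq_one]
    intro σ hσ
    have h1 : gMat L σ = 1 := congrArg (fun g => ((g.1 : Matrix.GeneralLinearGroup J (ZMod 2)) :
      Matrix J J (ZMod 2))) hσ
    apply eq_one_of_M_eq_one (by norm_num : 2 ≤ 3)
    have h3 := toMatrix_symm_mul L
    set P : Matrix J (I 3) (ZMod 2) := LinearMap.toMatrix' L.toLinearMap with hP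
    set P' : Matrix (I 3) J (ZMod 2) := LinearMap.toMatrix' L.symm.toLinearMap with hP'
    have h2 : M σ = P' * gMat L σ * P := by
      rw [gMat]
      calc M σ = (1 : Matrix (I 3) (I 3) (ZMod 2)) * M σ * (1 : Matrix (I 3) (I 3) (ZMod 2)) := by
            rw [Matrix.one_mul, Matrix.mul_one]
        _ = (P' * P) * M σ * (P' * P) := by rw [h3]
        _ = P' * (P * M σ * P') * P := by simp only [Matrix.mul_assoc]
    rw [h2, h1, Matrix.mul_one, h3]
  have hsurj : Function.Surjective φ := by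
    intro g
    obtain ⟨σ, hσ⟩ := exists_perm L hL g.1 g.2
    exact ⟨σ, Subtype.ext (Units.ext hσ.symm)⟩
  let e1 : Equiv.Perm (X 3) ≃* ↥(Cfsg.isometryGroup (ZMod 2) (Cfsg.quadFormPlus 3 (ZMod 2))) :=
    MulEquiv.ofBijective φ ⟨hinj, hsurj⟩
  let e2 : X 3 ≃ Fin 8 := Fintype.equivOfCardEq (by simp)
  exact ⟨e1.symm.trans e2.permCongrHom⟩

end Group


section Transfer

variable {F : Type*} [Field F]

theorem Q_map (φ : F →+* ZMod 2) (u : J → F) :
    Cfsg.quadFormPlus 3 (ZMod 2) (fun j => φ (u j)) = φ (Cfsg.quadFormPlus 3 F u) := by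
  simp [Cfsg.quadFormPlus, map_sum, map_mul]

theorem map_mulVec' (φ : F →+* ZMod 2) (A : Matrix J J F) (u : J → F) :
    (A.map φ) *ᵥ (fun j => φ (u j)) = fun j => φ ((A *ᵥ u) j) := by
  funext i
  exact (RingHom.map_mulVec φ A u i).symm

/-- the base-change isomorphism on general linear groups -/
noncomputable def ψ (e : F ≃+* ZMod 2) :
    Matrix.GeneralLinearGroup J F ≃* Matrix.GeneralLinearGroup J (ZMod 2) :=
  Units.mapEquiv (e.mapMatrix (m := J)).toMulEquiv

theorem ψ_val (e : F ≃+* ZMod 2) (g : Matrix.GeneralLinearGroup J F) :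
    ((ψ e g : Matrix.GeneralLinearGroup J (ZMod 2)) : Matrix J J (ZMod 2)) =
      (g : Matrix J J F).map e := rfl

theorem mem_iff (e : F ≃+* ZMod 2) (g : Matrix.GeneralLinearGroup J F) :
    g ∈ Cfsg.isometryGroup F (Cfsg.quadFormPlus 3 F) ↔
      ψ e g ∈ Cfsg.isometryGroup (ZMod 2) (Cfsg.quadFormPlus 3 (ZMod 2)) := by
  rw [mem_isometryGroup_iff, mem_isometryGroup_iff, ψ_val]
  constructor
  · intro h u'
    have hu : u' = fun j => (e : F →+* ZMod 2) (e.symm (u' j)) := by
      funext j; simp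
    rw [hu]
    have h1 := map_mulVec' (e : F →+* ZMod 2) (g : Matrix J J F) (fun j => e.symm (u' j))
    have h1' : (g : Matrix J J F).map ⇑e *ᵥ (fun j => (e : F →+* ZMod 2) (e.symm (u' j))) =
        fun j => (e : F →+* ZMod 2) (((g : Matrix J J F) *ᵥ fun j => e.symm (u' j)) j) := h1
    rw [h1', Q_map, Q_map, h]
  · intro h u
    apply e.injective
    have h1 := h (fun j => (e : F →+* ZMod 2) (u j))
    have h2 : (g : Matrix J J F).map ⇑e *ᵥ (fun j => (e : F →+* ZMod 2) (u j)) =
        fun j => (e : F →+* ZMod 2) (((g : Matrix J J F) *ᵥ u) j) :=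
      map_mulVec' (e : F →+* ZMod 2) (g : Matrix J J F) u
    rw [h2, Q_map, Q_map] at h1
    exact h1

/-- transfer of the isometry group to `ZMod 2` -/
noncomputable def transferEquiv (e : F ≃+* ZMod 2) :
    ↥(Cfsg.isometryGroup F (Cfsg.quadFormPlus 3 F)) ≃*
      ↥(Cfsg.isometryGroup (ZMod 2) (Cfsg.quadFormPlus 3 (ZMod 2))) where
  toFun g := ⟨ψ e g.1, (mem_iff e g.1).mp g.2⟩
  invFun g := ⟨(ψ e).symm g.1, (mem_iff e _).mpr (by
    rw [MulEquiv.apply_symm_apply]; exact g.2)⟩
  left_inv g := Subtype.ext (by simp)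
  right_inv g := Subtype.ext (by simp)
  map_mul' a b := Subtype.ext (by simp)

end Transfer


/-- O⁺_6(2) ≅ S_8: the isometry group of the hyperbolic form x_1y_1 + x_2y_2 + x_3y_3 over the field with 2 elements is isomorphic to the symmetric group on 8 letters. -/
theorem result {F : Type*} [Field F] [Fintype F] (hF : Fintype.card F = 2) : Nonempty (↥(Cfsg.isometryGroup F (Cfsg.quadFormPlus 3 F)) ≃* Equiv.Perm (Fin 8)) := by
  obtain ⟨e2⟩ := nonempty_mulEquiv
  let e : F ≃+* ZMod 2 := (ZMod.ringEquivOfPrime F Nat.prime_two hF).symm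
  exact ⟨(transferEquiv e).trans e2⟩

end Cfsg.Agent.S0825
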