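import Cfsg.Statements.S0828
import Cfsg.Agent.S0765

set_option autoImplicit false
open Cfsg

namespace Cfsg.Agent.S0828

open Cfsg.Agent.S0765 Module

section general

theorem double_count {α β : Type*} (s : Finset α) (t : Finset β)
    (r : α → β → Prop) [∀ a b, Decidable (r a b)] (m n : ℕ)
    (h1 : ∀ a ∈ s, (t.filter (fun b => r a b)).card = m)
    (h2 : ∀ b ∈ t, (s.filter (fun a => r a b)).card = n) : s.card * m = t.card * n := by
  have h := Finset.sum_card_bipartiteAbove_eq_sum_card_bipartiteBelow r (s := s) (t := t)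
  have e1 : ∑ a ∈ s, (Finset.bipartiteAbove r t a).card = s.card * m := by
    rw [Finset.sum_congr rfl (fun a ha => show (Finset.bipartiteAbove r t a).card = m from h1 a ha),
      Finset.sum_const, smul_eq_mul]
  have e2 : ∑ b ∈ t, (Finset.bipartiteBelow r s b).card = t.card * n := by
    rw [Finset.sum_congr rfl (fun b hb => show (Finset.bipartiteBelow r s b).card = n from h2 b hb),
      Finset.sum_const, smul_eq_mul]
  rw [← e1, ← e2, h]

end general

section
variable {F : Type*} [Field F]

/-- the functional `B v ·` -/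
def Bfun (v : Fin 2 ⊕ Fin 2 → F) : (Fin 2 ⊕ Fin 2 → F) →ₗ[F] F where
  toFun x := B v x
  map_add' x y := B_add_right v x y
  map_smul' c x := by
    simp only [RingHom.id_apply, smul_eq_mul]
    exact B_smul_right c v x

theorem Bfun_apply (v x : Fin 2 ⊕ Fin 2 → F) : Bfun v x = B v x := rfl

theorem finrank_V : finrank F (Fin 2 ⊕ Fin 2 → F) = 4 := by
  rw [Module.finrank_fintype_fun_eq_card]
  rfl

theorem finrank_perp (v : Fin 2 ⊕ Fin 2 → F) (hv : v ≠ 0) :
    finrank F (LinearMap.ker (Bfun v)) = 3 := by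
  have hsurj : LinearMap.range (Bfun v) = ⊤ := by
    rw [LinearMap.range_eq_top]
    intro c
    obtain ⟨y, hy⟩ := B_nondeg v hv
    refine ⟨(c / B v y) • y, ?_⟩
    rw [Bfun_apply, B_smul_right, div_mul_cancel₀ _ hy]
  have h := (Bfun v).finrank_range_add_finrank_ker
  rw [hsurj, finrank_top, finrank_self, finrank_V] at h
  omega

/-- number of elements of a subspace -/
theorem card_mem [Fintype F] [DecidableEq F] (W : Submodule F (Fin 2 ⊕ Fin 2 → F))
    [DecidablePred (fun x => x ∈ W)] :
    (Finset.univ.filter (fun x => x ∈ W)).card = Fintype.card F ^ finrank F W := by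
  rw [← Fintype.card_subtype]
  have h := Module.natCard_eq_pow_finrank (K := F) (V := W)
  rw [Nat.card_eq_fintype_card, Nat.card_eq_fintype_card] at h
  rw [← h]

/-- totally isotropic -/
def TI (W : Submodule F (Fin 2 ⊕ Fin 2 → F)) : Prop := ∀ u ∈ W, ∀ v ∈ W, B u v = 0

theorem TI_span_pair (v w : Fin 2 ⊕ Fin 2 → F) (h : B v w = 0) :
    TI (Submodule.span F {v, w}) := by
  have h' : B w v = 0 := by rw [B_skew, h, neg_zero]
  intro x hx y hy
  rw [Submodule.mem_span_pair] at hx hy
  obtain ⟨a, b, rfl⟩ := hx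
  obtain ⟨c, d, rfl⟩ := hy
  simp only [B_add_left, B_add_right, B_smul_left, B_smul_right, B_self, h, h']
  ring

theorem linInd_pair (v w : Fin 2 ⊕ Fin 2 → F) (hv : v ≠ 0) (hw : w ∉ Submodule.span F {v}) :
    LinearIndependent F ![v, w] := by
  rw [LinearIndependent.pair_iff' hv]
  intro a ha
  apply hw
  rw [Submodule.mem_span_singleton]
  exact ⟨a, ha⟩

theorem finrank_span_pair (v w : Fin 2 ⊕ Fin 2 → F) (hv : v ≠ 0)
    (hw : w ∉ Submodule.span F {v}) : finrank F (Submodule.span F {v, w}) = 2 := by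
  have h := finrank_span_eq_card (linInd_pair v w hv hw)
  have e : Set.range ![v, w] = {v, w} := by
    simp [Matrix.range_cons, Set.pair_comm]
  rw [e] at h
  rw [h]
  rfl

theorem eq_span_pair (W : Submodule F (Fin 2 ⊕ Fin 2 → F)) (hW : finrank F W = 2)
    (v w : Fin 2 ⊕ Fin 2 → F) (hv : v ≠ 0) (hvW : v ∈ W) (hwW : w ∈ W)
    (hw : w ∉ Submodule.span F {v}) : W = Submodule.span F {v, w} := by
  symm
  apply Submodule.eq_of_le_of_finrank_eq
  · rw [Submodule.span_le]
    intro x hx
    rcases hx with rfl | rfl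
    · exact hvW
    · exact hwW
  · rw [finrank_span_pair v w hv hw, hW]

end

section count
variable {F : Type*} [Field F] [Fintype F]

theorem two_le_card : 2 ≤ Fintype.card F := Fintype.one_lt_card

theorem mem_perp_iff (v w : Fin 2 ⊕ Fin 2 → F) : w ∈ LinearMap.ker (Bfun v) ↔ B v w = 0 := by
  rw [LinearMap.mem_ker, Bfun_apply]

theorem span_le_perp (v : Fin 2 ⊕ Fin 2 → F) :
    Submodule.span F {v} ≤ LinearMap.ker (Bfun v) := by
  rw [Submodule.span_le]
  intro x hx
  rw [Set.mem_singleton_iff] at hx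
  rw [hx, SetLike.mem_coe, mem_perp_iff, B_self]

/-- the number of totally isotropic planes through a non-zero vector -/
theorem count_through (v : Fin 2 ⊕ Fin 2 → F) (hv : v ≠ 0) :
    Nat.card {W : Submodule F (Fin 2 ⊕ Fin 2 → F) // finrank F W = 2 ∧ v ∈ W ∧ TI W} =
      Fintype.card F + 1 := by
  classical
  haveI : Fintype (Submodule F (Fin 2 ⊕ Fin 2 → F)) := Fintype.ofFinite _
  rw [Nat.card_eq_fintype_card, Fintype.card_subtype]
  set q := Fintype.card F with hq
  have hq2 : 2 ≤ q := two_le_card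
  set t : Finset (Submodule F (Fin 2 ⊕ Fin 2 → F)) :=
    Finset.univ.filter (fun W => finrank F W = 2 ∧ v ∈ W ∧ TI W) with ht
  set s : Finset (Fin 2 ⊕ Fin 2 → F) :=
    Finset.univ.filter (fun w => B v w = 0 ∧ w ∉ Submodule.span F {v}) with hs
  have hsub : (Finset.univ.filter (fun x => x ∈ Submodule.span F {v})) ⊆
      (Finset.univ.filter (fun x => x ∈ LinearMap.ker (Bfun v))) := by
    intro x hx
    rw [Finset.mem_filter] at hx ⊢
    exact ⟨hx.1, span_le_perp v hx.2⟩
  have hscard : s.card = q ^ 3 - q := by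
    have e : s = (Finset.univ.filter (fun x => x ∈ LinearMap.ker (Bfun v))) \
        (Finset.univ.filter (fun x => x ∈ Submodule.span F {v})) := by
      ext w
      simp only [hs, Finset.mem_filter, Finset.mem_univ, true_and, Finset.mem_sdiff, mem_perp_iff]
    rw [e, Finset.card_sdiff_of_subset hsub, card_mem, card_mem, finrank_perp v hv,
      finrank_span_singleton hv, pow_one]
  have h1 : ∀ w ∈ s, (t.filter (fun W => w ∈ W)).card = 1 := by
    intro w hw
    rw [hs, Finset.mem_filter] at hw
    obtain ⟨-, hvw, hwv⟩ := hw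
    rw [Finset.card_eq_one]
    refine ⟨Submodule.span F {v, w}, ?_⟩
    ext W
    simp only [ht, Finset.mem_filter, Finset.mem_univ, true_and, Finset.mem_singleton]
    constructor
    · rintro ⟨⟨hW2, hvW, -⟩, hwW⟩
      exact eq_span_pair W hW2 v w hv hvW hwW hwv
    · rintro rfl
      refine ⟨⟨finrank_span_pair v w hv hwv, Submodule.subset_span (by simp), TI_span_pair v w hvw⟩,
        Submodule.subset_span (by simp)⟩
  have h2 : ∀ W ∈ t, (s.filter (fun w => w ∈ W)).card = q ^ 2 - q := by
    intro W hW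
    rw [ht, Finset.mem_filter] at hW
    obtain ⟨-, hW2, hvW, hTI⟩ := hW
    have hsubW : (Finset.univ.filter (fun x => x ∈ Submodule.span F {v})) ⊆
        (Finset.univ.filter (fun x => x ∈ W)) := by
      intro x hx
      rw [Finset.mem_filter] at hx ⊢
      refine ⟨hx.1, ?_⟩
      have : Submodule.span F {v} ≤ W := by
        rw [Submodule.span_le]; intro y hy; rw [Set.mem_singleton_iff] at hy; rw [hy]; exact hvW
      exact this hx.2
    have e : s.filter (fun w => w ∈ W) = (Finset.univ.filter (fun x => x ∈ W)) \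
        (Finset.univ.filter (fun x => x ∈ Submodule.span F {v})) := by
      ext w
      simp only [hs, Finset.mem_filter, Finset.mem_univ, true_and, Finset.mem_sdiff]
      constructor
      · rintro ⟨⟨-, h⟩, hwW⟩
        exact ⟨hwW, h⟩
      · rintro ⟨hwW, h⟩
        exact ⟨⟨hTI v hvW w hwW, h⟩, hwW⟩
    rw [e, Finset.card_sdiff_of_subset hsubW, card_mem, card_mem, hW2,
      finrank_span_singleton hv, pow_one]
  have hdc := double_count s t (fun w W => w ∈ W) 1 (q ^ 2 - q) h1 h2
  rw [hscard, mul_one] at hdc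
  have hpos : 0 < q ^ 2 - q := by
    have : q < q ^ 2 := by nlinarith
    omega
  have hfac : q ^ 3 - q = (q + 1) * (q ^ 2 - q) := by
    have h1 : q ≤ q ^ 2 := by nlinarith
    have h2 : q ≤ q ^ 3 := by nlinarith [pow_pos (by omega : 0 < q) 2]
    zify [h1, h2]
    ring
  rw [hfac] at hdc
  exact (Nat.eq_of_mul_eq_mul_right hpos hdc).symm

/-- the number of totally isotropic planes -/
theorem count_all :
    Nat.card {W : Submodule F (Fin 2 ⊕ Fin 2 → F) // finrank F W = 2 ∧ TI W} =
      (Fintype.card F + 1) * (Fintype.card F ^ 2 + 1) := by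
  classical
  haveI : Fintype (Submodule F (Fin 2 ⊕ Fin 2 → F)) := Fintype.ofFinite _
  rw [Nat.card_eq_fintype_card, Fintype.card_subtype]
  set q := Fintype.card F with hq
  have hq2 : 2 ≤ q := two_le_card
  set t : Finset (Submodule F (Fin 2 ⊕ Fin 2 → F)) :=
    Finset.univ.filter (fun W => finrank F W = 2 ∧ TI W) with ht
  set s : Finset (Fin 2 ⊕ Fin 2 → F) := Finset.univ.filter (fun w => w ≠ 0) with hs
  have hscard : s.card = q ^ 4 - 1 := by
    have e : s = Finset.univ \ {0} := by
      ext w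
      simp [hs]
    rw [e, Finset.card_sdiff_of_subset (Finset.subset_univ _), Finset.card_univ,
      Finset.card_singleton, Fintype.card_fun]
    rfl
  have h1 : ∀ v ∈ s, (t.filter (fun W => v ∈ W)).card = q + 1 := by
    intro v hv
    rw [hs, Finset.mem_filter] at hv
    have h := count_through v hv.2
    rw [Nat.card_eq_fintype_card, Fintype.card_subtype] at h
    rw [← h]
    congr 1
    ext W
    simp only [ht, Finset.mem_filter, Finset.mem_univ, true_and]
    tauto
  have h2 : ∀ W ∈ t, (s.filter (fun w => w ∈ W)).card = q ^ 2 - 1 := by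
    intro W hW
    rw [ht, Finset.mem_filter] at hW
    obtain ⟨-, hW2, -⟩ := hW
    have e : s.filter (fun w => w ∈ W) = (Finset.univ.filter (fun x => x ∈ W)) \ {0} := by
      ext w
      simp only [hs, Finset.mem_filter, Finset.mem_univ, true_and, Finset.mem_sdiff,
        Finset.mem_singleton]
      tauto
    have h0 : ({0} : Finset (Fin 2 ⊕ Fin 2 → F)) ⊆ Finset.univ.filter (fun x => x ∈ W) := by
      intro x hx
      rw [Finset.mem_singleton] at hx
      rw [Finset.mem_filter, hx]
      exact ⟨Finset.mem_univ _, W.zero_mem⟩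
    rw [e, Finset.card_sdiff_of_subset h0, card_mem, hW2, Finset.card_singleton]
  have hdc := double_count s t (fun w W => w ∈ W) (q + 1) (q ^ 2 - 1) h1 h2
  rw [hscard] at hdc
  have hpos : 0 < q ^ 2 - 1 := by
    have : 1 < q ^ 2 := by nlinarith
    omega
  have hfac : (q ^ 4 - 1) * (q + 1) = ((q + 1) * (q ^ 2 + 1)) * (q ^ 2 - 1) := by
    have h1 : 1 ≤ q ^ 2 := by nlinarith
    have h2 : 1 ≤ q ^ 4 := Nat.one_le_pow _ _ (by omega)
    zify [h1, h2]
    ring
  rw [hfac] at hdc
  exact (Nat.eq_of_mul_eq_mul_right hpos hdc).symm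

end count

/-- The symplectic generalised quadrangle over a field with q elements: the number of 2-dimensional subspaces of F^4 on which the symplectic form vanishes is (q + 1)(q² + 1), and every non-zero vector lies in exactly q + 1 of them. -/
theorem result {F : Type*} [Field F] [Fintype F] {q : ℕ} (hF : Fintype.card F = q) : Nat.card {W : Submodule F (Fin 2 ⊕ Fin 2 → F) // Module.finrank F W = 2 ∧ ∀ u ∈ W, ∀ v ∈ W, Cfsg.sympForm 2 F u v = 0} = (q + 1) * (q ^ 2 + 1) ∧ ∀ v : Fin 2 ⊕ Fin 2 → F, v ≠ 0 → Nat.card {W : Submodule F (Fin 2 ⊕ Fin 2 → F) // Module.finrank F W = 2 ∧ v ∈ W ∧ ∀ u ∈ W, ∀ w ∈ W, Cfsg.sympForm 2 F u w = 0} = q + 1 := by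
  subst hF
  refine ⟨?_, fun v hv => ?_⟩
  · exact count_all
  · exact count_through v hv

end Cfsg.Agent.S0828
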