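import Cfsg.Statements.S0829
import Cfsg.Agent.Lib.Helper37.UnitaryLines

set_option autoImplicit false
open Cfsg

namespace Cfsg.Agent.S0829

open Cfsg.Agent.S0837 Cfsg.Agent.Lib.Helper37 Cfsg.Agent.Lib.Helper5

/-- The unitary quadrangle of PSU_4(q): with |F| = q², the number of 2-dimensional subspaces of F^4 on which the Hermitian form Σ x_i y_i^q vanishes is (q + 1)(q³ + 1). -/
theorem result {F : Type*} [Field F] [Fintype F] {q : ℕ} (hF : Fintype.card F = q ^ 2) : Nat.card {W : Submodule F (Fin 4 → F) // Module.finrank F W = 2 ∧ ∀ u ∈ W, ∀ v ∈ W, Cfsg.hermForm 4 F q u v = 0} = (q + 1) * (q ^ 3 + 1) := by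
  obtain ⟨σ, hσ, hσ2⟩ := Cfsg.Agent.Lib.Helper13.exists_frob hF
  have hq : 2 ≤ q := Cfsg.Agent.Lib.Helper13.two_le_of_card_eq_sq hF
  have hcongr : Nat.card {W : Submodule F (Fin 4 → F) // Module.finrank F W = 2 ∧
      ∀ u ∈ W, ∀ v ∈ W, Cfsg.hermForm 4 F q u v = 0} = Nat.card (Lines σ (2 + 2)) := by
    apply Nat.card_congr
    apply Equiv.subtypeEquivRight
    intro W
    simp only [hermForm_eq_hf σ hσ]
  rw [hcongr]
  have key := card_lines_mul σ hF hσ hσ2 2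
  rw [hermCount_zero hF, hermCount_zero hF] at key
  have e4 : Even (2 + 2) := by decide
  have e2 : Even 2 := by decide
  rw [if_pos e4, if_pos e2, Nat.add_sub_cancel, Nat.add_sub_cancel] at key
  set L := Nat.card (Lines σ (2 + 2)) with hL
  have h1 : 1 ≤ q ^ 2 := Nat.one_le_pow _ _ (by omega)
  have h2 : q ^ 2 ≤ (q ^ 2) ^ 2 := by
    calc q ^ 2 = q ^ 2 * 1 := (mul_one _).symm
      _ ≤ q ^ 2 * q ^ 2 := Nat.mul_le_mul_left _ h1
      _ = (q ^ 2) ^ 2 := (sq _).symm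
  have hA : (q ^ 2) ^ 2 - q ^ 2 = q ^ 2 * (q ^ 2 - 1) := by
    rw [Nat.mul_sub, mul_one, sq (q ^ 2)]
  have hB : (q ^ 2) ^ 2 - 1 = q ^ (2 + 2) - 1 := by
    rw [← pow_mul]
  have hq2 : 4 ≤ q ^ 2 := by nlinarith
  have hpos1 : 0 < q ^ (2 + 2) - 1 := by
    have : 16 ≤ q ^ (2 + 2) := by
      calc 16 = 2 ^ 4 := by norm_num
        _ ≤ q ^ 4 := Nat.pow_le_pow_left hq 4
    omega
  have hpos2 : 0 < q ^ 2 - 1 := by omega
  have hpos3 : 0 < q ^ 2 := by omega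
  rw [hA, hB] at key
  have h21 : (2 : ℕ) - 1 = 1 := rfl
  have h41 : (2 + 2 : ℕ) - 1 = 3 := rfl
  rw [h21, h41, pow_one] at key
  have key2 : L * ((q ^ (2 + 2) - 1) * (q ^ 2 * (q ^ 2 - 1))) =
      ((q + 1) * (q ^ 3 + 1)) * ((q ^ (2 + 2) - 1) * (q ^ 2 * (q ^ 2 - 1))) := by
    rw [key]; ring
  exact Nat.eq_of_mul_eq_mul_right (Nat.mul_pos hpos1 (Nat.mul_pos hpos3 hpos2)) key2

end Cfsg.Agent.S0829
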