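import Mathlib
import Cfsg.Statements.S0833
-- import your own Cfsg.Agent.* helpers here

set_option autoImplicit false
open Cfsg

namespace Cfsg.Agent.S0833

open TensorProduct Module

/-- value of the tensor product form on pure tensors -/
theorem tmul_apply_tmul {F U W : Type*} [Field F] [AddCommGroup U] [Module F U]
    [AddCommGroup W] [Module F W] (B₁ : LinearMap.BilinForm F U) (B₂ : LinearMap.BilinForm F W)
    (u u' : U) (w w' : W) :
    (B₁.tmul B₂) (u ⊗ₜ[F] w) (u' ⊗ₜ[F] w') = B₂ w w' * B₁ u u' := by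
  show (LinearMap.BilinForm.tensorDistrib F F (B₁ ⊗ₜ[F] B₂)) (u ⊗ₜ[F] w) (u' ⊗ₜ[F] w') = _
  rw [LinearMap.BilinForm.tensorDistrib_tmul, smul_eq_mul]

/-- tensor product of alternating forms is symmetric -/
theorem tmul_isSymm_of_isAlt {F U W : Type*} [Field F] [AddCommGroup U] [Module F U]
    [AddCommGroup W] [Module F W] (B₁ : LinearMap.BilinForm F U) (B₂ : LinearMap.BilinForm F W)
    (hA₁ : B₁.IsAlt) (hA₂ : B₂.IsAlt) : (B₁.tmul B₂).IsSymm := by
  rw [LinearMap.isSymm_iff_eq_flip]
  apply TensorProduct.ext'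
  intro u w
  apply TensorProduct.ext'
  intro u' w'
  rw [LinearMap.flip_apply, tmul_apply_tmul, tmul_apply_tmul, ← hA₁.neg_eq u' u, ← hA₂.neg_eq w' w]
  ring

/-- left separating via dual bases -/
theorem tmul_separatingLeft {F U W : Type*} [Field F] [AddCommGroup U] [Module F U]
    [FiniteDimensional F U] [AddCommGroup W] [Module F W] [FiniteDimensional F W]
    (B₁ : LinearMap.BilinForm F U) (B₂ : LinearMap.BilinForm F W)
    (h₁ : B₁.Nondegenerate) (h₂ : B₂.Nondegenerate) : (B₁.tmul B₂).SeparatingLeft := by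
  classical
  let b₁ := Module.finBasis F U
  let b₂ := Module.finBasis F W
  let b₁' := B₁.dualBasis h₁ b₁
  let b₂' := B₂.dualBasis h₂ b₂
  let T' := b₁'.tensorProduct b₂'
  intro x hx
  have hcoord : ∀ (j : Fin (finrank F U)) (b : Fin (finrank F W)),
      (B₁.tmul B₂).flip (b₁ j ⊗ₜ[F] b₂ b) = T'.coord (j, b) := by
    intro j b
    apply T'.ext
    rintro ⟨i, a⟩
    rw [LinearMap.flip_apply, Module.Basis.tensorProduct_apply, tmul_apply_tmul,
      LinearMap.BilinForm.apply_dualBasis_left, LinearMap.BilinForm.apply_dualBasis_left,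
      Module.Basis.coord_apply, ← Module.Basis.tensorProduct_apply, Module.Basis.repr_self,
      Finsupp.single_apply]
    rcases eq_or_ne j i with h1 | h1 <;> rcases eq_or_ne b a with h2 | h2
    · subst h1; subst h2; simp
    · subst h1; simp [h2, h2.symm]
    · subst h2; simp [h1, h1.symm]
    · simp [h1, h1.symm]
  have hrepr : T'.repr x = 0 := by
    ext ⟨j, b⟩
    have := hx (b₁ j ⊗ₜ[F] b₂ b)
    rw [← LinearMap.flip_apply, hcoord, Module.Basis.coord_apply] at this
    simpa using this
  exact (T'.repr.map_eq_zero_iff).mp hrepr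

/-- Existence of totally isotropic subspaces of every dimension up to half. -/
theorem exists_isotropic {F U : Type*} [Field F] [AddCommGroup U] [Module F U]
    [FiniteDimensional F U] (B : LinearMap.BilinForm F U) (h : B.Nondegenerate) (hA : B.IsAlt)
    (k : ℕ) (hU : finrank F U = 2 * k) :
    ∀ d : ℕ, d ≤ k → ∃ X : Submodule F U, finrank F X = d ∧ ∀ x ∈ X, ∀ y ∈ X, B x y = 0 := by
  intro d
  induction d with
  | zero =>
    intro _
    refine ⟨⊥, by simp, ?_⟩
    intro x hx
    rw [Submodule.mem_bot] at hx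
    subst hx
    simp
  | succ d ih =>
    intro hd
    obtain ⟨X, hXd, hXiso⟩ := ih (by omega)
    -- X^⊥ has dimension 2k - d > d
    have hperp : finrank F (B.orthogonal X) = 2 * k - d := by
      rw [LinearMap.BilinForm.finrank_orthogonal h, hU, hXd]
    have hnotle : ¬ (B.orthogonal X ≤ X) := by
      intro hle
      have := Submodule.finrank_mono hle
      omega
    obtain ⟨v, hvperp, hvX⟩ := SetLike.not_le_iff_exists.mp hnotle
    have hv0 : v ≠ 0 := by
      rintro rfl; exact hvX X.zero_mem
    rw [LinearMap.BilinForm.mem_orthogonal_iff] at hvperp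
    refine ⟨X ⊔ (F ∙ v), ?_, ?_⟩
    · have hdisj : Disjoint X (F ∙ v) := (Submodule.disjoint_span_singleton' hv0).mpr hvX
      have := Submodule.finrank_sup_add_finrank_inf_eq X (F ∙ v)
      rw [hdisj.eq_bot, finrank_bot, finrank_span_singleton hv0, hXd] at this
      omega
    · intro x hx y hy
      rw [Submodule.mem_sup] at hx hy
      obtain ⟨x₁, hx₁, x₂, hx₂, rfl⟩ := hx
      obtain ⟨y₁, hy₁, y₂, hy₂, rfl⟩ := hy
      rw [Submodule.mem_span_singleton] at hx₂ hy₂
      obtain ⟨a, rfl⟩ := hx₂
      obtain ⟨b, rfl⟩ := hy₂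
      have e1 : B x₁ v = 0 := hvperp x₁ hx₁
      have e2 : B v y₁ = 0 := by
        rw [← hA.neg_eq y₁ v, hvperp y₁ hy₁, neg_zero]
      have e3 : B v v = 0 := hA v
      simp only [map_add, LinearMap.add_apply, map_smul, LinearMap.smul_apply, smul_eq_mul,
        hXiso x₁ hx₁ y₁ hy₁, e1, e2, e3]
      ring


/-- If B₁, B₂ are non-degenerate alternating forms on U (dim 2k) and W (dim 2l), then B₁ ⊗ B₂ on U ⊗ W is symmetric, non-degenerate, and vanishes identically on some subspace of dimension 2kl (half of dim U ⊗ W). -/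
theorem result {F U W : Type*} [Field F] [Fintype F] [AddCommGroup U] [Module F U] [FiniteDimensional F U] [AddCommGroup W] [Module F W] [FiniteDimensional F W] (B₁ : LinearMap.BilinForm F U) (B₂ : LinearMap.BilinForm F W) (h₁ : B₁.Nondegenerate) (h₂ : B₂.Nondegenerate) (hA₁ : B₁.IsAlt) (hA₂ : B₂.IsAlt) (k l : ℕ) (hU : Module.finrank F U = 2 * k) (hW : Module.finrank F W = 2 * l) : (B₁.tmul B₂).IsSymm ∧ (B₁.tmul B₂).Nondegenerate ∧ (∃ X : Submodule F (TensorProduct F U W), Module.finrank F X = 2 * k * l ∧ ∀ x ∈ X, ∀ y ∈ X, (B₁.tmul B₂) x y = 0) := by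
  have hsymm := tmul_isSymm_of_isAlt B₁ B₂ hA₁ hA₂
  have hsep := tmul_separatingLeft B₁ B₂ h₁ h₂
  refine ⟨hsymm, ⟨hsep, ?_⟩, ?_⟩
  · intro y hy
    apply hsep y
    intro x
    have := hsymm.eq y x
    simp only [RingHom.id_apply] at this
    rw [this]
    exact hy x
  · obtain ⟨X₁, hX₁, hiso⟩ := exists_isotropic B₁ h₁ hA₁ k hU k le_rfl
    let f : X₁ ⊗[F] W →ₗ[F] U ⊗[F] W := LinearMap.rTensor W X₁.subtype
    have hf : Function.Injective f :=
      Module.Flat.rTensor_preserves_injective_linearMap _ X₁.injective_subtype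
    refine ⟨LinearMap.range f, ?_, ?_⟩
    · rw [LinearMap.finrank_range_of_inj hf, Module.finrank_tensorProduct, hX₁, hW]
      ring
    · rintro _ ⟨x, rfl⟩ _ ⟨y, rfl⟩
      induction x using TensorProduct.induction_on with
      | zero => simp
      | add x x' hx hx' => rw [map_add, map_add, LinearMap.add_apply, hx, hx', add_zero]
      | tmul u w =>
        induction y using TensorProduct.induction_on with
        | zero => simp
        | add y y' hy hy' => rw [map_add, map_add, hy, hy', add_zero]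
        | tmul u' w' =>
          simp only [f, LinearMap.rTensor_tmul, Submodule.subtype_apply]
          rw [tmul_apply_tmul, hiso u u.2 u' u'.2, mul_zero]

end Cfsg.Agent.S0833
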