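import Mathlib
import Cfsg.Statements.S0834
-- import your own Cfsg.Agent.* helpers here

set_option autoImplicit false
open Cfsg
set_option linter.unusedSectionVars false
set_option linter.unusedSimpArgs false

namespace Cfsg.Agent.S0834

open scoped TensorProduct
open Polynomial

section Field

variable {F : Type*} [Field F] [Fintype F]

/-- a non-degenerate binary diagonal form over a finite field of odd order represents everything -/
theorem exists_sq_add (h2 : (2 : F) ≠ 0) (β γ : F) (hβ : β ≠ 0) :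
    ∃ s t : F, s ^ 2 + β * t ^ 2 = γ := by
  have hchar : ringChar F ≠ 2 := by
    intro h
    apply h2
    have : ((2 : ℕ) : F) = 0 := by
      rw [← h]; exact ringChar.Nat.cast_ringChar
    exact_mod_cast this
  have hodd := FiniteField.odd_card_of_char_ne_two hchar
  have hf : degree (X ^ 2 : F[X]) = 2 := degree_X_pow 2
  have hg : degree (C β * X ^ 2 + C 0 * X + C (-γ) : F[X]) = 2 := degree_quadratic hβ
  obtain ⟨a, b, h⟩ := FiniteField.exists_root_sum_quadratic hf hg hodd
  refine ⟨a, b, ?_⟩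
  simp only [eval_pow, eval_X, eval_add, eval_mul, eval_C, zero_mul, add_zero] at h
  linear_combination h

end Field

section Similitude

variable {F W : Type*} [Field F] [Fintype F] [AddCommGroup W] [Module F W]

/-- similitudes with arbitrary factor for a diagonal form in even dimension -/
theorem exists_similitude (h2 : (2 : F) ≠ 0) (B₂ : LinearMap.BilinForm F W) {l : ℕ}
    (w : Module.Basis (Fin l × Fin 2) F W) (hw : ∀ p q, p ≠ q → B₂ (w p) (w q) = 0)
    (hb : ∀ p, B₂ (w p) (w p) ≠ 0) (γ : F) :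
    ∃ A : W →ₗ[F] W, ∀ x y, B₂ (A x) (A y) = γ * B₂ x y := by
  classical
  have hex : ∀ j : Fin l, ∃ s t : F,
      s ^ 2 + (B₂ (w (j, 1)) (w (j, 1)) / B₂ (w (j, 0)) (w (j, 0))) * t ^ 2 = γ := fun j =>
    exists_sq_add h2 _ γ (div_ne_zero (hb _) (hb _))
  choose s t hst using hex
  let img : Fin l × Fin 2 → W := fun p =>
    if p.2 = 0 then s p.1 • w (p.1, 0) + t p.1 • w (p.1, 1)
    else (-(B₂ (w (p.1, 1)) (w (p.1, 1)) / B₂ (w (p.1, 0)) (w (p.1, 0))) * t p.1) • w (p.1, 0)
      + s p.1 • w (p.1, 1)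
  let A : W →ₗ[F] W := w.constr F img
  have hA : ∀ p, A (w p) = img p := fun p => w.constr_basis F img p
  refine ⟨A, ?_⟩
  have key : (B₂.compl₁₂ A A) = γ • B₂ := by
    apply LinearMap.BilinForm.ext_basis w
    intro p q
    rw [LinearMap.compl₁₂_apply, hA, hA, LinearMap.smul_apply, LinearMap.smul_apply, smul_eq_mul]
    obtain ⟨j, r⟩ := p
    obtain ⟨j', r'⟩ := q
    have h01 : ((0 : Fin 2) ≠ 1) := by decide
    by_cases hjj : j = j'
    · subst hjj
      have hb0 := hb (j, 0)
      have h1 : B₂ (w (j, 0)) (w (j, 1)) = 0 := hw _ _ (by simp)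
      have h2' : B₂ (w (j, 1)) (w (j, 0)) = 0 := hw _ _ (by simp)
      have hst' := hst j
      have hst'' : s j ^ 2 * B₂ (w (j, 0)) (w (j, 0)) + B₂ (w (j, 1)) (w (j, 1)) * t j ^ 2 =
          γ * B₂ (w (j, 0)) (w (j, 0)) := by
        field_simp at hst'
        linear_combination hst'
      fin_cases r <;> fin_cases r'
      · simp only [img, Fin.zero_eta, Fin.isValue, if_true,
          map_add, map_smul, LinearMap.add_apply, LinearMap.smul_apply, smul_eq_mul, h1, h2',
          mul_zero, add_zero, zero_add]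
        linear_combination hst''
      · simp only [img, Fin.zero_eta, Fin.mk_one, Fin.isValue, if_true, if_false, one_ne_zero,
          map_add, map_smul, LinearMap.add_apply, LinearMap.smul_apply, smul_eq_mul, h1, h2',
          mul_zero, add_zero, zero_add]
        field_simp
        ring
      · simp only [img, Fin.zero_eta, Fin.mk_one, Fin.isValue, if_true, if_false, one_ne_zero,
          map_add, map_smul, LinearMap.add_apply, LinearMap.smul_apply, smul_eq_mul, h1, h2',
          mul_zero, add_zero, zero_add]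
        field_simp
        ring
      · simp only [img, Fin.mk_one, Fin.isValue, if_false, one_ne_zero,
          map_add, map_smul, LinearMap.add_apply, LinearMap.smul_apply, smul_eq_mul, h1, h2',
          mul_zero, add_zero, zero_add]
        field_simp
        linear_combination B₂ (w (j, 1)) (w (j, 1)) * hst''
    · have hne : ∀ a b : Fin 2, B₂ (w (j, a)) (w (j', b)) = 0 := fun a b =>
        hw _ _ (by simp [hjj])
      rw [hne r r', mul_zero]
      simp only [img]
      split_ifs <;>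
        simp only [map_add, map_smul, LinearMap.add_apply, LinearMap.smul_apply, smul_eq_mul, hne,
          mul_zero, add_zero]
  intro x y
  have := congrArg (fun f => f x y) key
  simpa using this

end Similitude

section Basis

variable {F V : Type*} [Field F] [AddCommGroup V] [Module F V] [FiniteDimensional F V]

/-- an orthogonal basis indexed by pairs -/
theorem exists_pair_basis (h2 : (2 : F) ≠ 0) (B : LinearMap.BilinForm F V) (hB : B.Nondegenerate)
    (hS : B.IsSymm) (k : ℕ) (hV : Module.finrank F V = 2 * k) :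
    ∃ u : Module.Basis (Fin k × Fin 2) F V, (∀ p q, p ≠ q → B (u p) (u q) = 0) ∧
      ∀ p, B (u p) (u p) ≠ 0 := by
  have : Invertible (2 : F) := invertibleOfNonzero h2
  obtain ⟨v, hv⟩ := LinearMap.BilinForm.exists_orthogonal_basis (LinearMap.BilinForm.isSymm_iff.mp hS)
  have hdiag : ∀ i, B (v i) (v i) ≠ 0 := fun i =>
    LinearMap.BilinForm.iIsOrtho.not_isOrtho_basis_self_of_nondegenerate hv hB i
  let e : Fin (Module.finrank F V) ≃ Fin k × Fin 2 :=
    (finCongr (hV.trans (mul_comm 2 k))).trans finProdFinEquiv.symm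
  refine ⟨v.reindex e, ?_, ?_⟩
  · intro p q hpq
    rw [Module.Basis.reindex_apply, Module.Basis.reindex_apply]
    exact LinearMap.BilinForm.iIsOrtho_def.mp hv _ _ (fun h => hpq (e.symm.injective h))
  · intro p
    rw [Module.Basis.reindex_apply]
    exact hdiag _

end Basis

section Main

variable {F U W : Type*} [Field F] [AddCommGroup U] [Module F U] [AddCommGroup W] [Module F W]

/-- the building block of the isotropic subspace -/
def τ (u0 u1 : U) (A : W →ₗ[F] W) : W →ₗ[F] U ⊗[F] W :=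
  (TensorProduct.mk F U W u0).comp A + TensorProduct.mk F U W u1

theorem τ_apply (u0 u1 : U) (A : W →ₗ[F] W) (y : W) :
    τ u0 u1 A y = u0 ⊗ₜ[F] A y + u1 ⊗ₜ[F] y := rfl

theorem tmul_apply' (B₁ : LinearMap.BilinForm F U) (B₂ : LinearMap.BilinForm F W) (u u' : U)
    (w w' : W) : (B₁.tmul B₂) (u ⊗ₜ[F] w) (u' ⊗ₜ[F] w') = B₂ w w' * B₁ u u' := rfl

variable {k : ℕ}

theorem τ_ortho (B₁ : LinearMap.BilinForm F U) (B₂ : LinearMap.BilinForm F W)
    (u : Module.Basis (Fin k × Fin 2) F U) (hu : ∀ p q, p ≠ q → B₁ (u p) (u q) = 0)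
    (ha : ∀ p, B₁ (u p) (u p) ≠ 0) (A : Fin k → W →ₗ[F] W)
    (hA : ∀ i x y, B₂ (A i x) (A i y) = (-(B₁ (u (i, 1)) (u (i, 1))) / B₁ (u (i, 0)) (u (i, 0))) * B₂ x y)
    (i i' : Fin k) (y y' : W) :
    (B₁.tmul B₂) (τ (u (i, 0)) (u (i, 1)) (A i) y) (τ (u (i', 0)) (u (i', 1)) (A i') y') = 0 := by
  rw [τ_apply, τ_apply]
  simp only [map_add, LinearMap.add_apply, tmul_apply']
  by_cases hii : i = i'
  · subst hii
    have h1 : B₁ (u (i, 0)) (u (i, 1)) = 0 := hu _ _ (by simp)
    have h2 : B₁ (u (i, 1)) (u (i, 0)) = 0 := hu _ _ (by simp)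
    rw [h1, h2, hA]
    have := ha (i, 0)
    field_simp
    ring
  · have hne : ∀ a b : Fin 2, B₁ (u (i, a)) (u (i', b)) = 0 := fun a b =>
      hu _ _ (by simp [hii])
    simp only [hne, mul_zero, add_zero]

/-- the parametrisation of the isotropic subspace -/
noncomputable def Φ (u : Module.Basis (Fin k × Fin 2) F U) (A : Fin k → W →ₗ[F] W) :
    (Fin k → W) →ₗ[F] U ⊗[F] W :=
  ∑ i, (τ (u (i, 0)) (u (i, 1)) (A i)).comp (LinearMap.proj i)

theorem Φ_apply (u : Module.Basis (Fin k × Fin 2) F U) (A : Fin k → W →ₗ[F] W) (y : Fin k → W) :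
    Φ u A y = ∑ i, τ (u (i, 0)) (u (i, 1)) (A i) (y i) := by
  simp [Φ, LinearMap.sum_apply]

/-- the retraction onto one coordinate -/
noncomputable def ρ (u : Module.Basis (Fin k × Fin 2) F U) (i : Fin k) : U ⊗[F] W →ₗ[F] W :=
  (TensorProduct.lid F W).toLinearMap.comp (TensorProduct.map (u.coord (i, 1)) LinearMap.id)

theorem ρ_tmul (u : Module.Basis (Fin k × Fin 2) F U) (i : Fin k) (x : U) (y : W) :
    ρ (W := W) u i (x ⊗ₜ[F] y) = u.coord (i, 1) x • y := by
  simp [ρ]

theorem ρ_Φ (u : Module.Basis (Fin k × Fin 2) F U) (A : Fin k → W →ₗ[F] W) (y : Fin k → W)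
    (i : Fin k) : ρ u i (Φ u A y) = y i := by
  classical
  rw [Φ_apply, map_sum, Finset.sum_eq_single i]
  · rw [τ_apply, map_add, ρ_tmul, ρ_tmul]
    simp [Module.Basis.coord_apply, Module.Basis.repr_self, Finsupp.single_apply]
  · intro i' _ hii'
    rw [τ_apply, map_add, ρ_tmul, ρ_tmul]
    simp [Module.Basis.coord_apply, Module.Basis.repr_self, Finsupp.single_apply, hii']
  · intro h
    exact absurd (Finset.mem_univ i) h

theorem Φ_injective (u : Module.Basis (Fin k × Fin 2) F U) (A : Fin k → W →ₗ[F] W) :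
    Function.Injective (Φ u A) := by
  intro y y' h
  funext i
  rw [← ρ_Φ u A y i, ← ρ_Φ u A y' i, h]

end Main


/-- Over a finite field with 2 ≠ 0: if B₁ on U (dim 2k, k ≥ 1) and B₂ on W (dim 2l, l ≥ 1) are non-degenerate symmetric forms admitting no totally isotropic subspaces of dimensions k, resp. l (minus type), then B₁ ⊗ B₂ admits a totally isotropic subspace of dimension 2kl (plus type). -/
theorem result {F U W : Type*} [Field F] [Fintype F] [AddCommGroup U] [Module F U] [FiniteDimensional F U] [AddCommGroup W] [Module F W] [FiniteDimensional F W] (h2 : (2 : F) ≠ 0) (B₁ : LinearMap.BilinForm F U) (B₂ : LinearMap.BilinForm F W) (h₁ : B₁.Nondegenerate) (h₂ : B₂.Nondegenerate) (hS₁ : B₁.IsSymm) (hS₂ : B₂.IsSymm) (k l : ℕ) (hk : 1 ≤ k) (hl : 1 ≤ l) (hU : Module.finrank F U = 2 * k) (hW : Module.finrank F W = 2 * l) (hm₁ : ¬ (∃ X : Submodule F (U), Module.finrank F X = k ∧ ∀ x ∈ X, ∀ y ∈ X, (B₁) x y = 0)) (hm₂ : ¬ (∃ X : Submodule F (W), Module.finrank F X = l ∧ ∀ x ∈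 X, ∀ y ∈ X, (B₂) x y = 0)) : (∃ X : Submodule F (TensorProduct F U W), Module.finrank F X = 2 * k * l ∧ ∀ x ∈ X, ∀ y ∈ X, (B₁.tmul B₂) x y = 0) := by
  obtain ⟨u, hu, ha⟩ := exists_pair_basis h2 B₁ h₁ hS₁ k hU
  obtain ⟨w, hw, hb⟩ := exists_pair_basis h2 B₂ h₂ hS₂ l hW
  have hex : ∀ i : Fin k, ∃ A : W →ₗ[F] W, ∀ x y, B₂ (A x) (A y) =
      (-(B₁ (u (i, 1)) (u (i, 1))) / B₁ (u (i, 0)) (u (i, 0))) * B₂ x y := fun i =>
    exists_similitude h2 B₂ w hw hb _
  choose A hA using hex
  refine ⟨LinearMap.range (Φ u A), ?_, ?_⟩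
  · rw [LinearMap.finrank_range_of_inj (Φ_injective u A), Module.finrank_pi_fintype]
    simp only [hW, Finset.sum_const, Finset.card_univ, Fintype.card_fin, smul_eq_mul]
    ring
  · rintro x ⟨y, rfl⟩ x' ⟨y', rfl⟩
    rw [Φ_apply, Φ_apply, map_sum]
    apply Finset.sum_eq_zero
    intro i' _
    rw [map_sum, LinearMap.sum_apply]
    apply Finset.sum_eq_zero
    intro i _
    exact τ_ortho B₁ B₂ u hu ha A hA i i' (y i) (y' i')

end Cfsg.Agent.S0834
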