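import Cfsg.Statements.S2620
-- import your own Cfsg.Agent.* helpers here

set_option autoImplicit false
open Cfsg

namespace Cfsg.Agent.S2620

theorem gram_det {F : Type*} [Field F] {n ι : Type*} [Fintype n] [DecidableEq n] [Fintype ι] [DecidableEq ι]
    (G₀ : Matrix n n F) (f : (n → F) → (n → F) → F) (hf : ∀ x y, f x y = x ⬝ᵥ (G₀.mulVec y))
    (b : Module.Basis ι F (n → F)) :
    ∃ d : F, d ≠ 0 ∧ (Matrix.of fun i j : ι => f (b i) (b j)).det = d * d * G₀.det := by
  classical
  let e : ι ≃ n := b.indexEquiv (Pi.basisFun F n)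
  let P : Matrix n n F := Matrix.of fun i k => b (e.symm i) k
  have hP : IsUnit P := by
    rw [← Matrix.linearIndependent_rows_iff_isUnit]
    have : P.row = b ∘ e.symm := by
      ext i k; rfl
    rw [this]
    exact b.linearIndependent.comp _ e.symm.injective
  have hdet : P.det ≠ 0 := by
    have := (Matrix.isUnit_iff_isUnit_det P).1 hP
    exact this.ne_zero
  refine ⟨P.det, hdet, ?_⟩
  have h1 : (Matrix.of fun i j : ι => f (b i) (b j)) = (P * G₀ * P.transpose).submatrix e e := by
    ext i j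
    simp only [Matrix.of_apply, Matrix.submatrix_apply, hf]
    rw [Matrix.mul_apply]
    simp only [Matrix.mul_apply, Matrix.transpose_apply, dotProduct, Matrix.mulVec, P, Matrix.of_apply,
      Equiv.symm_apply_apply]
    simp_rw [Finset.mul_sum, Finset.sum_mul]
    rw [Finset.sum_comm]
    apply Finset.sum_congr rfl
    intro k _
    apply Finset.sum_congr rfl
    intro l _
    ring
  rw [h1, Matrix.det_submatrix_equiv_self, Matrix.det_mul, Matrix.det_mul, Matrix.det_transpose]
  ring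

theorem polar_plus_eq {F : Type*} [Field F] (m : ℕ) (x y : Fin m ⊕ Fin m → F) :
    QuadraticMap.polar (Cfsg.quadFormPlus m F) x y =
      x ⬝ᵥ ((Matrix.fromBlocks (0 : Matrix (Fin m) (Fin m) F) (1 : Matrix (Fin m) (Fin m) F) (1 : Matrix (Fin m) (Fin m) F) (0 : Matrix (Fin m) (Fin m) F)).mulVec y) := by
  simp only [QuadraticMap.polar, Cfsg.quadFormPlus, dotProduct, Matrix.mulVec, Fintype.sum_sum_type,
    Matrix.fromBlocks_apply₁₁, Matrix.fromBlocks_apply₁₂, Matrix.fromBlocks_apply₂₁, Matrix.fromBlocks_apply₂₂,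
    Matrix.zero_apply, zero_mul, Finset.sum_const_zero, zero_add, add_zero, Matrix.one_apply, Pi.add_apply,
    ite_mul, one_mul, Finset.sum_ite_eq, Finset.mem_univ, if_true]
  rw [← Finset.sum_sub_distrib, ← Finset.sum_sub_distrib, ← Finset.sum_add_distrib]
  apply Finset.sum_congr rfl
  intro i _
  ring

theorem det_swap {F : Type*} [Field F] (m : ℕ) :
    (Matrix.fromBlocks (0 : Matrix (Fin m) (Fin m) F) (1 : Matrix (Fin m) (Fin m) F) (1 : Matrix (Fin m) (Fin m) F) (0 : Matrix (Fin m) (Fin m) F)).det = (-1) ^ m := by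
  have h1 : Matrix.fromBlocks (0 : Matrix (Fin m) (Fin m) F) (1 : Matrix (Fin m) (Fin m) F) (1 : Matrix (Fin m) (Fin m) F) (0 : Matrix (Fin m) (Fin m) F) * Matrix.fromBlocks (1 : Matrix (Fin m) (Fin m) F) (0 : Matrix (Fin m) (Fin m) F) (1 : Matrix (Fin m) (Fin m) F) (1 : Matrix (Fin m) (Fin m) F)
      = Matrix.fromBlocks (1 : Matrix (Fin m) (Fin m) F) (1 : Matrix (Fin m) (Fin m) F) (1 : Matrix (Fin m) (Fin m) F) (0 : Matrix (Fin m) (Fin m) F) := by
    simp [Matrix.fromBlocks_multiply]
  have h2 := congrArg Matrix.det h1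
  rw [Matrix.det_mul, Matrix.det_fromBlocks_one₁₁, Matrix.det_fromBlocks_one₁₁] at h2
  simp only [mul_zero, sub_zero, Matrix.det_one, mul_one, zero_sub] at h2
  rw [h2, Matrix.det_neg, Matrix.det_one, Fintype.card_fin, mul_one]

theorem isSquare_neg_one_pow {F : Type*} [Field F] [Fintype F] {q : ℕ} (hF : Fintype.card F = q) (hq : Odd q)
    (m : ℕ) : IsSquare ((-1 : F) ^ m) ↔ Even (m * (q - 1) / 2) := by
  obtain ⟨t, rfl⟩ := hq
  have h1 : m * (2 * t + 1 - 1) / 2 = m * t := by
    rw [Nat.add_sub_cancel, ← mul_assoc, mul_comm m 2, mul_assoc, Nat.mul_div_cancel_left _ (by norm_num)]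
  rw [h1, Nat.even_mul]
  have h2 : IsSquare (-1 : F) ↔ Even t := by
    rw [FiniteField.isSquare_neg_one_iff, hF]
    constructor
    · intro h
      rcases Nat.even_or_odd t with ht | ht
      · exact ht
      · exfalso; apply h; obtain ⟨s, rfl⟩ := ht; omega
    · intro ⟨s, hs⟩; omega
  rcases Nat.even_or_odd m with hm | hm
  · simp only [hm, true_or, iff_true]
    rw [hm.neg_one_pow]; exact ⟨1, by simp⟩
  · rw [hm.neg_one_pow, h2]
    constructor
    · intro h; exact Or.inr h
    · rintro (h | h)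
      · exact absurd h (Nat.not_even_iff_odd.2 hm)
      · exact h

theorem isSquare_sq_mul {F : Type*} [Field F] {d x : F} (hd : d ≠ 0) : IsSquare (d * d * x) ↔ IsSquare x := by
  constructor
  · rintro ⟨r, hr⟩
    refine ⟨r / d, ?_⟩
    rw [div_mul_div_comm, ← hr, mul_comm, mul_div_assoc, div_self (mul_ne_zero hd hd), mul_one]
  · rintro ⟨r, rfl⟩
    exact ⟨d * r, by ring⟩



/-- Discriminant of the hyperbolic quadratic form Σ_(i<m) x_i y_i over a field with q elements, q odd, m ≥ 1: the determinant of the Gram matrix of its polar form in any basis is a square if and only if m(q − 1)/2 is even (equivalently q^m ≡ 1 (mod 4)). -/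
theorem result {F : Type*} [Field F] [Fintype F] {q : ℕ} (hF : Fintype.card F = q) (hq : Odd q) {m : ℕ} (hm : 1 ≤ m) {ι : Type*} [Fintype ι] [DecidableEq ι] (b : Module.Basis ι F (Fin m ⊕ Fin m → F)) : IsSquare (Matrix.of (fun i j : ι => QuadraticMap.polar (Cfsg.quadFormPlus m F) (b i) (b j))).det ↔ Even (m * (q - 1) / 2) := by
  obtain ⟨d, hd, hdet⟩ := gram_det (Matrix.fromBlocks (0 : Matrix (Fin m) (Fin m) F) (1 : Matrix (Fin m) (Fin m) F) (1 : Matrix (Fin m) (Fin m) F) (0 : Matrix (Fin m) (Fin m) F))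
    (QuadraticMap.polar (Cfsg.quadFormPlus m F)) (polar_plus_eq m) b
  rw [hdet, isSquare_sq_mul hd, det_swap, isSquare_neg_one_pow hF hq]

end Cfsg.Agent.S2620
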