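import Mathlib
import Cfsg.Statements.S0835
import Cfsg.Agent.S2623
import Cfsg.Agent.S2620
import Cfsg.Agent.S0825
-- import your own Cfsg.Agent.* helpers here

set_option autoImplicit false
open Cfsg
set_option linter.unusedSectionVars false
set_option linter.unusedSimpArgs false

namespace Cfsg.Agent.S0835

open scoped TensorProduct

section Hyperbolic

variable {F V : Type*} [Field F] [AddCommGroup V] [Module F V] [FiniteDimensional F V]

/-- a space with a totally isotropic subspace of half the dimension has a hyperbolic basis -/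
theorem exists_hyp_basis (h2 : (2 : F) ≠ 0) (B : LinearMap.BilinForm F V) (hB : B.Nondegenerate)
    (hS : B.IsSymm) (m : ℕ) (X : Submodule F V) (hX : Module.finrank F X = m)
    (hV : Module.finrank F V = 2 * m) (hti : ∀ x ∈ X, ∀ y ∈ X, B x y = 0) :
    ∃ b : Module.Basis (Fin m ⊕ Fin m) F V, LinearMap.BilinForm.toMatrix b B =
      Matrix.fromBlocks (0 : Matrix (Fin m) (Fin m) F) 1 1 0 := by
  classical
  let x : Module.Basis (Fin m) F X := Module.finBasisOfFinrankEq F X hX
  have hex : ∀ i, ∃ g : V →ₗ[F] F, g.comp X.subtype = x.coord i := fun i =>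
    LinearMap.exists_extend (x.coord i)
  choose g hg using hex
  let y : Fin m → V := fun i => (B.toDual hB).symm (g i)
  have hy : ∀ i v, B (y i) v = g i v := fun i v =>
    LinearMap.BilinForm.apply_toDual_symm_apply (hB := hB) (g i) v
  have hgx : ∀ i j, g i (x j : V) = if i = j then 1 else 0 := by
    intro i j
    have h1 : g i (x j : V) = (g i).comp X.subtype (x j) := rfl
    rw [h1, hg, Module.Basis.coord_apply, Module.Basis.repr_self, Finsupp.single_apply]
    simp [eq_comm]
  have hxx : ∀ i j, B (x i : V) (x j : V) = 0 := fun i j =>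
    hti _ (x i).2 _ (x j).2
  have hyx : ∀ i j, B (y i) (x j : V) = if i = j then 1 else 0 := fun i j => by
    rw [hy, hgx]
  have hxy : ∀ i j, B (x j : V) (y i) = if i = j then 1 else 0 := fun i j => by
    rw [hS.eq, hyx]
  let y' : Fin m → V := fun i => y i - (2⁻¹ : F) • ∑ j, B (y i) (y j) • (x j : V)
  have hy'x : ∀ i j, B (y' i) (x j : V) = if i = j then 1 else 0 := by
    intro i j
    simp only [y', map_sub, map_smul, map_sum, LinearMap.sub_apply, LinearMap.smul_apply,
      LinearMap.sum_apply, hxx, smul_eq_mul, mul_zero, Finset.sum_const_zero, sub_zero, hyx]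
  have hxy' : ∀ i j, B (x j : V) (y' i) = if i = j then 1 else 0 := fun i j => by
    rw [hS.eq, hy'x]
  have hleft : ∀ i z, B (y' i) z = B (y i) z - 2⁻¹ * ∑ j, B (y i) (y j) * B (x j : V) z := by
    intro i z
    simp only [y', map_sub, map_smul, map_sum, LinearMap.sub_apply, LinearMap.smul_apply,
      LinearMap.sum_apply, smul_eq_mul]
  have hright : ∀ z k, B z (y' k) = B z (y k) - 2⁻¹ * ∑ j, B (y k) (y j) * B z (x j : V) := by
    intro z k
    simp only [y', map_sub, map_smul, map_sum, smul_eq_mul]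
  have hy'y' : ∀ i k, B (y' i) (y' k) = 0 := by
    intro i k
    rw [hleft i (y' k), hright (y i) k]
    simp only [hxy', hyx, mul_ite, mul_one, mul_zero, Finset.sum_ite_eq, Finset.sum_ite_eq',
      Finset.mem_univ, if_true]
    rw [hS.eq (y k) (y i)]
    field_simp
    ring
  let v : Fin m ⊕ Fin m → V := Sum.elim (fun i => (x i : V)) y'
  have hG : ∀ p q, B (v p) (v q) =
      Matrix.fromBlocks (0 : Matrix (Fin m) (Fin m) F) 1 1 0 p q := by
    intro p q
    rcases p with i | i <;> rcases q with j | j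
    · simp [v, hxx]
    · simp only [v, Sum.elim_inl, Sum.elim_inr, Matrix.fromBlocks_apply₁₂, Matrix.one_apply]
      rw [hxy']
      simp [eq_comm]
    · simp only [v, Sum.elim_inl, Sum.elim_inr, Matrix.fromBlocks_apply₂₁, Matrix.one_apply]
      rw [hy'x]
    · simp [v, hy'y']
  have hli : LinearIndependent F v := by
    rw [Fintype.linearIndependent_iff]
    intro c hc p
    have key : ∀ q, ∑ p, c p * B (v p) (v q) = 0 := by
      intro q
      have := congrArg (fun z => B z (v q)) hc
      simpa [map_sum, LinearMap.sum_apply] using this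
    rcases p with i | i
    · have := key (Sum.inr i)
      simp only [hG, Fintype.sum_sum_type, Matrix.fromBlocks_apply₁₂, Matrix.fromBlocks_apply₂₂,
        Matrix.one_apply, Matrix.zero_apply, mul_ite, mul_one, mul_zero, Finset.sum_ite_eq',
        Finset.mem_univ, if_true, Finset.sum_const_zero, add_zero] at this
      exact this
    · have := key (Sum.inl i)
      simp only [hG, Fintype.sum_sum_type, Matrix.fromBlocks_apply₁₁, Matrix.fromBlocks_apply₂₁,
        Matrix.one_apply, Matrix.zero_apply, mul_ite, mul_one, mul_zero, Finset.sum_ite_eq',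
        Finset.mem_univ, if_true, Finset.sum_const_zero, zero_add] at this
      exact this
  have hcard : Fintype.card (Fin m ⊕ Fin m) = Module.finrank F V := by
    rw [hV, Fintype.card_sum, Fintype.card_fin]; ring
  have hspan : Submodule.span F (Set.range v) = ⊤ :=
    hli.span_eq_top_of_card_eq_finrank' hcard
  let b : Module.Basis (Fin m ⊕ Fin m) F V := Module.Basis.mk hli (le_of_eq hspan.symm)
  refine ⟨b, ?_⟩
  ext p q
  rw [LinearMap.BilinForm.toMatrix_apply]
  have hb : ∀ p, b p = v p := fun p => by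
    simp [b]
  rw [hb, hb, hG]

/-- the discriminant of a space with a totally isotropic subspace of half the dimension -/
theorem disc_of_ti (h2 : (2 : F) ≠ 0) (B : LinearMap.BilinForm F V) (hB : B.Nondegenerate)
    (hS : B.IsSymm) (m : ℕ) (X : Submodule F V) (hX : Module.finrank F X = m)
    (hV : Module.finrank F V = 2 * m) (hti : ∀ x ∈ X, ∀ y ∈ X, B x y = 0)
    {κ : Type*} [Fintype κ] [DecidableEq κ] (c : Module.Basis κ F V) :
    ∃ s : F, s ≠ 0 ∧ (LinearMap.BilinForm.toMatrix c B).det = s * s * (-1) ^ m := by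
  obtain ⟨b, hb⟩ := exists_hyp_basis h2 B hB hS m X hX hV hti
  obtain ⟨s, hs, h⟩ := Cfsg.Agent.S2623.gram_change B b c
  refine ⟨s, hs, ?_⟩
  rw [h, hb, Cfsg.Agent.S2620.det_swap]

end Hyperbolic

section Converse

variable {F U : Type*} [Field F] [Fintype F] [AddCommGroup U] [Module F U] [FiniteDimensional F U]

/-- the embedding of the first coordinates -/
def inlMap (k : ℕ) : (Fin k → F) →ₗ[F] (Fin k ⊕ Fin k → F) where
  toFun a := Sum.elim a 0
  map_add' a b := by
    funext p
    rcases p with i | i <;> simp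
  map_smul' c a := by
    funext p
    rcases p with i | i <;> simp

theorem inlMap_injective (k : ℕ) : Function.Injective (inlMap (F := F) k) := by
  intro a b h
  funext i
  exact congrFun h (Sum.inl i)

theorem plus_inlMap (k : ℕ) (a : Fin k → F) : Cfsg.quadFormPlus k F (inlMap k a) = 0 := by
  simp [Cfsg.quadFormPlus, inlMap]

/-- a space whose discriminant is that of a hyperbolic space has a totally isotropic subspace of
half the dimension -/
theorem exists_ti_of_disc (h2 : (2 : F) ≠ 0) (B : LinearMap.BilinForm F U) (hB : B.Nondegenerate)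
    (hS : B.IsSymm) (k : ℕ) (hU : Module.finrank F U = 2 * k)
    {ι : Type*} [Fintype ι] [DecidableEq ι] (u : Module.Basis ι F U)
    (hsq : IsSquare ((-1) ^ k * (LinearMap.BilinForm.toMatrix u B).det)) :
    ∃ X : Submodule F U, Module.finrank F X = k ∧ ∀ x ∈ X, ∀ y ∈ X, B x y = 0 := by
  classical
  -- the two quadratic forms
  let Q₁ : QuadraticForm F U := LinearMap.BilinMap.toQuadraticMap B
  let Q₂ : QuadraticForm F (Fin k ⊕ Fin k → F) := Cfsg.Agent.S0825.plusQF k F
  have hflip : LinearMap.flip B = B := by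
    ext x y
    exact hS.eq y x
  have hpol : QuadraticMap.polarBilin Q₁ = (2 : F) • B := by
    rw [LinearMap.BilinMap.polarBilin_toQuadraticMap, hflip, two_smul]
  have hQ₁ : (QuadraticMap.polarBilin Q₁).Nondegenerate := by
    rw [hpol]
    constructor
    · intro x hx
      apply hB.1 x
      intro y
      have := hx y
      rw [LinearMap.smul_apply, LinearMap.smul_apply, smul_eq_mul] at this
      exact (mul_eq_zero.mp this).resolve_left h2
    · intro y hy
      apply hB.2 y
      intro x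
      have := hy x
      rw [LinearMap.smul_apply, LinearMap.smul_apply, smul_eq_mul] at this
      exact (mul_eq_zero.mp this).resolve_left h2
  have hQ₂ : (QuadraticMap.polarBilin Q₂).Nondegenerate := Cfsg.Agent.S0825.plusQF_nondeg k F
  have hV₂ : Module.finrank F (Fin k ⊕ Fin k → F) = 2 * k := by
    rw [Module.finrank_pi, Fintype.card_sum, Fintype.card_fin]; ring
  let b₁ : Module.Basis (Fin (2 * k)) F U := Module.finBasisOfFinrankEq F U hU
  let b₂ : Module.Basis (Fin (2 * k)) F (Fin k ⊕ Fin k → F) := Module.finBasisOfFinrankEq F _ hV₂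
  -- the first discriminant
  obtain ⟨s₁, hs₁, hd₁⟩ := Cfsg.Agent.S2623.gram_change B u b₁
  have hG₁ : (LinearMap.BilinForm.toMatrix b₁ (QuadraticMap.polarBilin Q₁)).det =
      2 ^ (2 * k) * (s₁ * s₁ * (LinearMap.BilinForm.toMatrix u B).det) := by
    rw [hpol, map_smul, Matrix.det_smul, Fintype.card_fin, hd₁]
  -- the second discriminant
  obtain ⟨d, hd, hd₂⟩ := Cfsg.Agent.S2620.gram_det
    (Matrix.fromBlocks (0 : Matrix (Fin k) (Fin k) F) 1 1 0)
    (fun x y => QuadraticMap.polar (Cfsg.quadFormPlus k F) x y)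
    (fun x y => Cfsg.Agent.S2620.polar_plus_eq k x y) b₂
  have hG₂ : (LinearMap.BilinForm.toMatrix b₂ (QuadraticMap.polarBilin Q₂)).det =
      d * d * (-1) ^ k := by
    rw [← Cfsg.Agent.S2620.det_swap (F := F) k, ← hd₂]
    congr 1
    ext i j
    rw [LinearMap.BilinForm.toMatrix_apply]
    rfl
  have hprod : IsSquare ((LinearMap.BilinForm.toMatrix b₁ (QuadraticMap.polarBilin Q₁)).det *
      (LinearMap.BilinForm.toMatrix b₂ (QuadraticMap.polarBilin Q₂)).det) := by
    obtain ⟨r, hr⟩ := hsq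
    refine ⟨2 ^ k * s₁ * d * r, ?_⟩
    rw [hG₁, hG₂]
    have : (2 : F) ^ (2 * k) = 2 ^ k * 2 ^ k := by rw [two_mul, pow_add]
    rw [this]
    linear_combination (2 ^ k * 2 ^ k * s₁ * s₁ * d * d) * hr
  obtain ⟨g, hg⟩ := Cfsg.Agent.S2623.iso_of_disc h2 (2 * k) U (Fin k ⊕ Fin k → F) Q₁ Q₂ hQ₁ hQ₂ hU hV₂
    b₁ b₂ hprod
  refine ⟨(LinearMap.range (inlMap (F := F) k)).map g.symm.toLinearMap, ?_, ?_⟩
  · rw [LinearEquiv.finrank_map_eq, LinearMap.finrank_range_of_inj (inlMap_injective k),
      Module.finrank_pi, Fintype.card_fin]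
  · have hzero : ∀ x ∈ (LinearMap.range (inlMap (F := F) k)).map g.symm.toLinearMap,
        B x x = 0 := by
      rintro x ⟨_, ⟨a, rfl⟩, rfl⟩
      have h1 : B (g.symm (inlMap k a)) (g.symm (inlMap k a)) = Q₁ (g.symm (inlMap k a)) := rfl
      have h3 : Q₂ (inlMap k a) = 0 := plus_inlMap k a
      change B (g.symm (inlMap k a)) (g.symm (inlMap k a)) = 0
      rw [h1, ← hg, LinearEquiv.apply_symm_apply, h3]
    intro x hx y hy
    have hxy := hzero (x + y) (Submodule.add_mem _ hx hy)
    rw [map_add, map_add, LinearMap.add_apply, LinearMap.add_apply, hzero x hx, hzero y hy,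
      hS.eq y x, zero_add, add_zero] at hxy
    have : (2 : F) * B x y = 0 := by linear_combination hxy
    exact (mul_eq_zero.mp this).resolve_left h2

end Converse

section Tensor

variable {F U W : Type*} [Field F] [AddCommGroup U] [Module F U] [AddCommGroup W] [Module F W]

theorem tmul_apply' (B₁ : LinearMap.BilinForm F U) (B₂ : LinearMap.BilinForm F W) (u u' : U)
    (w w' : W) : (B₁.tmul B₂) (u ⊗ₜ[F] w) (u' ⊗ₜ[F] w') = B₂ w w' * B₁ u u' := rfl

variable {ι κ : Type*} [Fintype ι] [DecidableEq ι] [Fintype κ] [DecidableEq κ]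

theorem toMatrix_of_ortho {V : Type*} [AddCommGroup V] [Module F V] (B : LinearMap.BilinForm F V)
    (u : Module.Basis ι F V) (hu : ∀ i j, i ≠ j → B (u i) (u j) = 0) :
    LinearMap.BilinForm.toMatrix u B = Matrix.diagonal (fun i => B (u i) (u i)) := by
  ext i j
  rw [LinearMap.BilinForm.toMatrix_apply, Matrix.diagonal_apply]
  split_ifs with h
  · rw [h]
  · exact hu i j h

theorem tensor_ortho (B₁ : LinearMap.BilinForm F U) (B₂ : LinearMap.BilinForm F W)
    (u : Module.Basis ι F U) (w : Module.Basis κ F W)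
    (hu : ∀ i j, i ≠ j → B₁ (u i) (u j) = 0) (hw : ∀ i j, i ≠ j → B₂ (w i) (w j) = 0)
    (p q : ι × κ) (hpq : p ≠ q) :
    (B₁.tmul B₂) (u.tensorProduct w p) (u.tensorProduct w q) = 0 := by
  obtain ⟨i, j⟩ := p
  obtain ⟨i', j'⟩ := q
  rw [Module.Basis.tensorProduct_apply, Module.Basis.tensorProduct_apply, tmul_apply']
  by_cases hi : i = i'
  · have hj : j ≠ j' := fun h => hpq (by rw [hi, h])
    rw [hw j j' hj, zero_mul]
  · rw [hu i i' hi, mul_zero]

theorem tensor_diag (B₁ : LinearMap.BilinForm F U) (B₂ : LinearMap.BilinForm F W)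
    (u : Module.Basis ι F U) (w : Module.Basis κ F W) (p : ι × κ) :
    (B₁.tmul B₂) (u.tensorProduct w p) (u.tensorProduct w p) =
      B₂ (w p.2) (w p.2) * B₁ (u p.1) (u p.1) := by
  obtain ⟨i, j⟩ := p
  rw [Module.Basis.tensorProduct_apply, tmul_apply']

end Tensor


/-- Over a finite field with 2 ≠ 0: if B₁ on U (dim 2k, k ≥ 1) is non-degenerate symmetric of minus type (no totally isotropic k-subspace) and B₂ on W (dim 2l + 1) is non-degenerate symmetric, then B₁ ⊗ B₂ (dimension 2k(2l+1)) admits no totally isotropic subspace of dimension k(2l+1) (minus type). -/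
theorem result {F U W : Type*} [Field F] [Fintype F] [AddCommGroup U] [Module F U] [FiniteDimensional F U] [AddCommGroup W] [Module F W] [FiniteDimensional F W] (h2 : (2 : F) ≠ 0) (B₁ : LinearMap.BilinForm F U) (B₂ : LinearMap.BilinForm F W) (h₁ : B₁.Nondegenerate) (h₂ : B₂.Nondegenerate) (hS₁ : B₁.IsSymm) (hS₂ : B₂.IsSymm) (k l : ℕ) (hk : 1 ≤ k) (hU : Module.finrank F U = 2 * k) (hW : Module.finrank F W = 2 * l + 1) (hm₁ : ¬ (∃ X : Submodule F (U), Module.finrank F X = k ∧ ∀ x ∈ X, ∀ y ∈ X, (B₁) x y = 0)) : ¬ (∃ X : Submodule F (TensorProduct F U W), Module.finrank F X = k * (2 * l + 1) ∧ ∀ x ∈ X, ∀ y ∈ X, (B₁.tmul B₂) x y = 0) := by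
  classical
  rintro ⟨X, hXdim, hXti⟩
  apply hm₁
  have : Invertible (2 : F) := invertibleOfNonzero h2
  obtain ⟨u, hu'⟩ := LinearMap.BilinForm.exists_orthogonal_basis
    (LinearMap.BilinForm.isSymm_iff.mp hS₁)
  obtain ⟨w, hw'⟩ := LinearMap.BilinForm.exists_orthogonal_basis
    (LinearMap.BilinForm.isSymm_iff.mp hS₂)
  have hu : ∀ i j, i ≠ j → B₁ (u i) (u j) = 0 := LinearMap.BilinForm.iIsOrtho_def.mp hu'
  have hw : ∀ i j, i ≠ j → B₂ (w i) (w j) = 0 := LinearMap.BilinForm.iIsOrtho_def.mp hw'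
  have ha : ∀ i, B₁ (u i) (u i) ≠ 0 := fun i =>
    LinearMap.BilinForm.iIsOrtho.not_isOrtho_basis_self_of_nondegenerate hu' h₁ i
  have hb : ∀ j, B₂ (w j) (w j) ≠ 0 := fun j =>
    LinearMap.BilinForm.iIsOrtho.not_isOrtho_basis_self_of_nondegenerate hw' h₂ j
  -- the tensor product form
  set T : LinearMap.BilinForm F (U ⊗[F] W) := B₁.tmul B₂ with hT
  let c := u.tensorProduct w
  have hc : ∀ p q, p ≠ q → T (c p) (c q) = 0 := tensor_ortho B₁ B₂ u w hu hw
  have hcd : ∀ p, T (c p) (c p) = B₂ (w p.2) (w p.2) * B₁ (u p.1) (u p.1) :=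
    tensor_diag B₁ B₂ u w
  have hTS : T.IsSymm := by
    rw [LinearMap.BilinForm.isSymm_iff]
    exact LinearMap.IsSymm.tmul (LinearMap.BilinForm.isSymm_iff.mp hS₁)
      (LinearMap.BilinForm.isSymm_iff.mp hS₂)
  have hTN : T.Nondegenerate := by
    apply (LinearMap.BilinForm.iIsOrtho.nondegenerate_iff_not_isOrtho_basis_self T c
      (LinearMap.BilinForm.iIsOrtho_def.mpr hc)).mpr
    intro p
    rw [hcd]
    exact mul_ne_zero (hb _) (ha _)
  have hTdim : Module.finrank F (U ⊗[F] W) = 2 * (k * (2 * l + 1)) := by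
    rw [Module.finrank_tensorProduct, hU, hW]; ring
  obtain ⟨s, hs, hdet⟩ := disc_of_ti h2 T hTN hTS (k * (2 * l + 1)) X hXdim hTdim hXti c
  rw [toMatrix_of_ortho T c hc, Matrix.det_diagonal] at hdet
  -- compute the product
  set A := ∏ i, B₁ (u i) (u i) with hA
  set Bb := ∏ j, B₂ (w j) (w j) with hBb
  have hA0 : A ≠ 0 := Finset.prod_ne_zero_iff.mpr (fun i _ => ha i)
  have hB0 : Bb ≠ 0 := Finset.prod_ne_zero_iff.mpr (fun j _ => hb j)
  have hprod : ∏ p, T (c p) (c p) = A ^ (2 * l + 1) * Bb ^ (2 * k) := by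
    simp only [hcd]
    rw [Fintype.prod_prod_type]
    simp only [Finset.prod_mul_distrib, Finset.prod_const, Finset.card_univ, Fintype.card_fin]
    rw [Finset.prod_pow]
    have e1 : Bb ^ Module.finrank F U = Bb ^ (2 * k) := congrArg (fun n => Bb ^ n) hU
    have e2 : A ^ Module.finrank F W = A ^ (2 * l + 1) := congrArg (fun n => A ^ n) hW
    change Bb ^ Module.finrank F U * A ^ Module.finrank F W = _
    rw [e1, e2]
    ring
  rw [hprod] at hdet
  apply exists_ti_of_disc h2 B₁ h₁ hS₁ k hU u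
  rw [toMatrix_of_ortho B₁ u hu, Matrix.det_diagonal]
  refine ⟨s / (A ^ l * Bb ^ k), ?_⟩
  have hε : ((-1 : F) ^ k) * ((-1 : F) ^ k) = 1 := by
    rw [← pow_add, ← two_mul, pow_mul]; simp
  have hε' : ((-1 : F)) ^ (k * (2 * l + 1)) = (-1) ^ k := by
    rw [pow_mul, pow_succ, pow_mul]
    have : ((-1 : F) ^ k) ^ 2 = 1 := by rw [pow_two]; exact hε
    rw [this, one_pow, one_mul]
  rw [hε'] at hdet
  have hne : A ^ l * Bb ^ k ≠ 0 := mul_ne_zero (pow_ne_zero _ hA0) (pow_ne_zero _ hB0)
  field_simp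
  have h3 : A ^ (2 * l + 1) * Bb ^ (2 * k) = A * (A ^ l * Bb ^ k) ^ 2 := by ring
  rw [h3] at hdet
  rw [← hA]
  linear_combination ((-1 : F) ^ k) * hdet + (s * s) * hε

end Cfsg.Agent.S0835
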