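import Mathlib
import Cfsg.Statements.S0836
-- import your own Cfsg.Agent.* helpers here

set_option autoImplicit false
set_option linter.unusedSimpArgs false
open Cfsg

namespace Cfsg.Agent.S0836

/-- inverse-free criterion for being a commutator -/
theorem mem_commutatorSet_of_mul_eq {G : Type*} [Group G] (t g h : G) (H : t * h * g = g * h) :
    t ∈ commutatorSet G := by
  refine ⟨g, h, ?_⟩
  rw [commutatorElement_def]
  have : t = g * h * g⁻¹ * h⁻¹ := by
    rw [← H]; group
  exact this.symm

theorem sl_ext_val {n : Type*} [DecidableEq n] [Fintype n] {R : Type*} [CommRing R]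
    (A B : Matrix.SpecialLinearGroup n R)
    (h : (A : Matrix n n R) = (B : Matrix n n R)) : A = B := Subtype.ext h

theorem exists_third (n : ℕ) (hn : 3 ≤ n) (i j : Fin n) : ∃ k : Fin n, k ≠ i ∧ k ≠ j := by
  by_contra hcon
  push Not at hcon
  have hsub : (Finset.univ : Finset (Fin n)) ⊆ {i, j} := by
    intro k _
    by_cases hk : k = i
    · simp [hk]
    · simp [hcon k hk]
  have := Finset.card_le_card hsub
  have h2 : ({i, j} : Finset (Fin n)).card ≤ 2 := Finset.card_le_two
  simp at this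
  omega

theorem case_ge_three {F : Type*} [Field F] (n : ℕ) (hn : 3 ≤ n) (i j : Fin n) (hij : i ≠ j) (c : F)
    (t : Matrix.SpecialLinearGroup (Fin n) F)
    (ht : (t : Matrix (Fin n) (Fin n) F) = Matrix.transvection i j c) :
    t ∈ commutatorSet (Matrix.SpecialLinearGroup (Fin n) F) := by
  obtain ⟨k, hki, hkj⟩ := exists_third n hn i j
  let g : Matrix.SpecialLinearGroup (Fin n) F :=
    ⟨Matrix.transvection i k c, Matrix.det_transvection_of_ne _ _ (Ne.symm hki) _⟩
  let h : Matrix.SpecialLinearGroup (Fin n) F :=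
    ⟨Matrix.transvection k j 1, Matrix.det_transvection_of_ne _ _ hkj _⟩
  have hg : (g : Matrix (Fin n) (Fin n) F) = Matrix.transvection i k c := rfl
  have hh : (h : Matrix (Fin n) (Fin n) F) = Matrix.transvection k j 1 := rfl
  apply mem_commutatorSet_of_mul_eq t g h
  apply sl_ext_val
  rw [Matrix.SpecialLinearGroup.coe_mul, Matrix.SpecialLinearGroup.coe_mul,
    Matrix.SpecialLinearGroup.coe_mul, ht, hg, hh]
  simp only [Matrix.transvection, add_mul, mul_add, one_mul, mul_one,
    Matrix.single_mul_single_same, Matrix.single_mul_single_of_ne _ _ _ _ (Ne.symm hkj),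
    Matrix.single_mul_single_of_ne _ _ _ _ (Ne.symm hij),
    Matrix.single_mul_single_of_ne _ _ _ _ (Ne.symm hki),
    Matrix.single_mul_single_of_ne _ _ _ _ hij,
    Matrix.single_mul_single_of_ne _ _ _ _ hki,
    Matrix.single_mul_single_of_ne _ _ _ _ hkj, add_zero, zero_add, mul_one]
  abel

theorem case_two {F : Type*} [Field F] (x : F) (hx0 : x ≠ 0) (hx1 : x ^ 2 ≠ 1)
    (i j : Fin 2) (hij : i ≠ j) (c : F)
    (t : Matrix.SpecialLinearGroup (Fin 2) F)
    (ht : (t : Matrix (Fin 2) (Fin 2) F) = Matrix.transvection i j c) :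
    t ∈ commutatorSet (Matrix.SpecialLinearGroup (Fin 2) F) := by
  have hx2 : x ^ 2 - 1 ≠ 0 := sub_ne_zero.mpr hx1
  set a : F := c / (x ^ 2 - 1) with ha
  have hca : c = (x ^ 2 - 1) * a := by
    rw [ha]; field_simp
  let h : Matrix.SpecialLinearGroup (Fin 2) F :=
    ⟨Matrix.transvection i j a, Matrix.det_transvection_of_ne _ _ hij _⟩
  have hh : (h : Matrix (Fin 2) (Fin 2) F) = Matrix.transvection i j a := rfl
  fin_cases i <;> fin_cases j
  · exact absurd rfl hij
  · -- i = 0, j = 1
    let g : Matrix.SpecialLinearGroup (Fin 2) F :=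
      ⟨!![x, 0; 0, x⁻¹], by simp [Matrix.det_fin_two, hx0]⟩
    have hg : (g : Matrix (Fin 2) (Fin 2) F) = !![x, 0; 0, x⁻¹] := rfl
    apply mem_commutatorSet_of_mul_eq t g h
    apply sl_ext_val
    rw [Matrix.SpecialLinearGroup.coe_mul, Matrix.SpecialLinearGroup.coe_mul,
      Matrix.SpecialLinearGroup.coe_mul, ht, hg, hh]
    ext r s
    fin_cases r <;> fin_cases s <;>
      simp [Matrix.transvection, Matrix.mul_apply, Fin.sum_univ_two, Matrix.single_apply,
        Matrix.one_apply, hca]
    field_simp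
    ring
  · -- i = 1, j = 0
    let g : Matrix.SpecialLinearGroup (Fin 2) F :=
      ⟨!![x⁻¹, 0; 0, x], by simp [Matrix.det_fin_two, hx0]⟩
    have hg : (g : Matrix (Fin 2) (Fin 2) F) = !![x⁻¹, 0; 0, x] := rfl
    apply mem_commutatorSet_of_mul_eq t g h
    apply sl_ext_val
    rw [Matrix.SpecialLinearGroup.coe_mul, Matrix.SpecialLinearGroup.coe_mul,
      Matrix.SpecialLinearGroup.coe_mul, ht, hg, hh]
    ext r s
    fin_cases r <;> fin_cases s <;>
      simp [Matrix.transvection, Matrix.mul_apply, Fin.sum_univ_two, Matrix.single_apply,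
        Matrix.one_apply, hca]
    field_simp
    ring
  · exact absurd rfl hij

/-- For i ≠ j and any scalar c, the elementary transvection 1 + c E_ij is a commutator ⁅g, h⁆ of two elements of SL_n(F) provided n ≥ 3, or n = 2 and F contains x ≠ 0 with x² ≠ 1. -/
theorem result {F : Type*} [Field F] (n : ℕ) (hn : 3 ≤ n ∨ (n = 2 ∧ ∃ x : F, x ≠ 0 ∧ x ^ 2 ≠ 1)) (i j : Fin n) (hij : i ≠ j) (c : F) (t : Matrix.SpecialLinearGroup (Fin n) F) (ht : (t : Matrix (Fin n) (Fin n) F) = Matrix.transvection i j c) : t ∈ commutatorSet (Matrix.SpecialLinearGroup (Fin n) F) := by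
  rcases hn with hn | ⟨rfl, x, hx0, hx1⟩
  · exact case_ge_three n hn i j hij c t ht
  · exact case_two x hx0 hx1 i j hij c t ht

end Cfsg.Agent.S0836
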