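import Mathlib
import Cfsg.Statements.S0838
-- import your own Cfsg.Agent.* helpers here

set_option autoImplicit false
open Cfsg

namespace Cfsg.Agent.S0838

open Module

/-- equivalence of diagonal forms with weights `w`, `w'`. -/
def DiagEquiv {F : Type*} [Field F] {ι : Type*} [Fintype ι] (w w' : ι → F) : Prop :=
  ∃ g : (ι → F) ≃ₗ[F] (ι → F), ∀ x, ∑ i, w i * (g x i) ^ 2 = ∑ i, w' i * (x i) ^ 2

theorem DiagEquiv.refl {F : Type*} [Field F] {ι : Type*} [Fintype ι] (w : ι → F) :
    DiagEquiv w w := ⟨LinearEquiv.refl F _, fun _ => rfl⟩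

theorem DiagEquiv.symm {F : Type*} [Field F] {ι : Type*} [Fintype ι] {w w' : ι → F}
    (h : DiagEquiv w w') : DiagEquiv w' w := by
  obtain ⟨g, hg⟩ := h
  refine ⟨g.symm, fun x => ?_⟩
  rw [← hg (g.symm x), g.apply_symm_apply]

theorem DiagEquiv.trans {F : Type*} [Field F] {ι : Type*} [Fintype ι] {w w' w'' : ι → F}
    (h : DiagEquiv w w') (h' : DiagEquiv w' w'') : DiagEquiv w w'' := by
  obtain ⟨g, hg⟩ := h
  obtain ⟨g', hg'⟩ := h'
  refine ⟨g'.trans g, fun x => ?_⟩
  rw [LinearEquiv.trans_apply, hg, hg']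

/-- extension to one more coordinate -/
theorem DiagEquiv.cons {F : Type*} [Field F] {n : ℕ} {t t' : Fin n → F} (a : F)
    (h : DiagEquiv t t') :
    DiagEquiv (Fin.cons a t : Fin (n + 1) → F) (Fin.cons a t') := by
  obtain ⟨g, hg⟩ := h
  let E := Fin.consLinearEquiv F (fun _ : Fin (n + 1) => F)
  refine ⟨E.symm.trans (((LinearEquiv.refl F F).prodCongr g).trans E), fun x => ?_⟩
  have hx : ∀ x : Fin (n + 1) → F, (E.symm.trans (((LinearEquiv.refl F F).prodCongr g).trans E)) x
      = Fin.cons (x 0) (g (Fin.tail x)) := by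
    intro x
    rfl
  rw [hx, Fin.sum_univ_succ, Fin.sum_univ_succ]
  simp only [Fin.cons_zero, Fin.cons_succ]
  rw [hg (Fin.tail x)]
  rfl

/-- scaling coordinates by nonzero scalars -/
theorem DiagEquiv.scale {F : Type*} [Field F] {ι : Type*} [Fintype ι] (w u : ι → F)
    (hu : ∀ i, u i ≠ 0) : DiagEquiv (fun i => (u i) ^ 2 * w i) w := by
  let g : (ι → F) ≃ₗ[F] (ι → F) :=
    { toFun := fun x i => (u i)⁻¹ * x i
      invFun := fun x i => u i * x i
      map_add' := by intro x y; ext i; simp [mul_add]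
      map_smul' := by intro c x; ext i; simp; ring
      left_inv := by intro x; ext i; simp [hu i]
      right_inv := by intro x; ext i; simp [hu i] }
  refine ⟨g, fun x => ?_⟩
  apply Finset.sum_congr rfl
  intro i _
  show (u i) ^ 2 * w i * ((u i)⁻¹ * x i) ^ 2 = w i * x i ^ 2
  have := hu i
  field_simp

theorem exists_sq_add_sq {F : Type*} [Field F] [Fintype F] (h2 : (2 : F) ≠ 0) (a b : F)
    (ha : a ≠ 0) (hb : b ≠ 0) : ∃ X Y : F, a * X ^ 2 + b * Y ^ 2 = 1 := by
  have hchar : ringChar F ≠ 2 := by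
    intro h
    apply h2
    have := CharP.cast_eq_zero F (ringChar F)
    rw [h] at this
    exact_mod_cast this
  have hodd := FiniteField.odd_card_of_char_ne_two hchar
  have hf2 : (Polynomial.C a * Polynomial.X ^ 2 : Polynomial F).degree = 2 := by
    rw [Polynomial.degree_C_mul_X_pow 2 ha]; rfl
  have hg2 : (Polynomial.C b * Polynomial.X ^ 2 - 1 : Polynomial F).degree = 2 := by
    rw [Polynomial.degree_sub_eq_left_of_degree_lt]
    · rw [Polynomial.degree_C_mul_X_pow 2 hb]; rfl
    · rw [Polynomial.degree_C_mul_X_pow 2 hb, Polynomial.degree_one]; norm_num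
  have := FiniteField.exists_root_sum_quadratic hf2 hg2 hodd
  obtain ⟨X, Y, h⟩ := this
  refine ⟨X, Y, ?_⟩
  simp only [Polynomial.eval_mul, Polynomial.eval_C, Polynomial.eval_pow, Polynomial.eval_X,
    Polynomial.eval_sub, Polynomial.eval_one] at h
  linear_combination h

/-- the binary move on the first two coordinates -/
theorem DiagEquiv.binary {F : Type*} [Field F] [Fintype F] (h2 : (2 : F) ≠ 0) {n : ℕ} (a b : F)
    (ha : a ≠ 0) (hb : b ≠ 0) (t : Fin n → F) :
    DiagEquiv (Fin.cons a (Fin.cons b t) : Fin (n + 2) → F) (Fin.cons (a * b) (Fin.cons 1 t)) := by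
  obtain ⟨X, Y, hXY⟩ := exists_sq_add_sq h2 a b ha hb
  -- new coordinates: e₀ ↦ (-bY, aX), e₁ ↦ (X, Y)
  let g : (Fin (n + 2) → F) ≃ₗ[F] (Fin (n + 2) → F) :=
    { toFun := fun x => Fin.cons (-b * Y * x 0 + X * x 1)
        (Fin.cons (a * X * x 0 + Y * x 1) (Fin.tail (Fin.tail x)))
      invFun := fun x => Fin.cons (-Y * x 0 + X * x 1)
        (Fin.cons (a * X * x 0 + b * Y * x 1) (Fin.tail (Fin.tail x)))
      map_add' := by
        intro x y
        ext i
        refine Fin.cases ?_ (fun i => Fin.cases ?_ (fun i => ?_) i) i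
        · simp; ring
        · simp; ring
        · simp [Fin.tail]
      map_smul' := by
        intro c x
        ext i
        refine Fin.cases ?_ (fun i => Fin.cases ?_ (fun i => ?_) i) i
        · simp; ring
        · simp; ring
        · simp [Fin.tail]
      left_inv := by
        intro x
        ext i
        refine Fin.cases ?_ (fun i => Fin.cases ?_ (fun i => ?_) i) i
        · simp
          linear_combination (x 0) * hXY
        · simp
          linear_combination (x 1) * hXY
        · simp [Fin.tail]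
      right_inv := by
        intro x
        ext i
        refine Fin.cases ?_ (fun i => Fin.cases ?_ (fun i => ?_) i) i
        · simp
          linear_combination (x 0) * hXY
        · simp
          linear_combination (x 1) * hXY
        · simp [Fin.tail] }
  refine ⟨g, fun x => ?_⟩
  have hg : ∀ x, g x = Fin.cons (-b * Y * x 0 + X * x 1)
        (Fin.cons (a * X * x 0 + Y * x 1) (Fin.tail (Fin.tail x))) := fun _ => rfl
  rw [hg, Fin.sum_univ_succ, Fin.sum_univ_succ, Fin.sum_univ_succ, Fin.sum_univ_succ]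
  simp only [Fin.cons_zero, Fin.cons_succ, Fin.tail]
  have : (1 : Fin (n + 2)) = Fin.succ 0 := rfl
  rw [this]
  linear_combination (a * b * (x 0) ^ 2 + (x (Fin.succ 0)) ^ 2) * hXY

/-- normal form: `⟨w⟩ ≅ ⟨∏ w, 1, …, 1⟩` -/
theorem DiagEquiv.normalForm {F : Type*} [Field F] [Fintype F] (h2 : (2 : F) ≠ 0) :
    ∀ (n : ℕ) (w : Fin (n + 1) → F), (∀ i, w i ≠ 0) →
      DiagEquiv w (Fin.cons (∏ i, w i) (fun _ => 1)) := by
  intro n
  induction n with
  | zero =>
    intro w _
    have : (Fin.cons (∏ i, w i) (fun _ => 1) : Fin 1 → F) = w := by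
      ext i
      have : i = 0 := Fin.ext (by have := i.2; simp only [Fin.val_zero]; omega)
      subst this
      simp
    rw [this]
    exact DiagEquiv.refl w
  | succ n ih =>
    intro w hw
    have hw' : w = Fin.cons (w 0) (Fin.tail w) := (Fin.cons_self_tail w).symm
    have ht : ∀ i, Fin.tail w i ≠ 0 := fun i => hw _
    have h1 := DiagEquiv.cons (w 0) (ih (Fin.tail w) ht)
    have hprod : (∏ i, Fin.tail w i) ≠ 0 := Finset.prod_ne_zero_iff.mpr (fun i _ => ht i)
    have h3 := DiagEquiv.binary h2 (w 0) (∏ i, Fin.tail w i) (hw 0) hprod (fun _ : Fin n => (1 : F))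
    have e1 : (Fin.cons (1 : F) (fun _ : Fin n => (1 : F)) : Fin (n + 1) → F) = fun _ => 1 := by
      ext i
      refine Fin.cases ?_ (fun i => ?_) i <;> simp
    have e2 : w 0 * ∏ i, Fin.tail w i = ∏ i, w i := (Fin.prod_univ_succ w).symm
    rw [e1, e2] at h3
    rw [← hw'] at h1
    exact h1.trans h3

/-- diagonalisation with the index type `Fin m` -/
theorem exists_diag {F : Type*} [Field F] [Invertible (2 : F)] {V : Type*} [AddCommGroup V]
    [Module F V] [FiniteDimensional F V] (Q : QuadraticForm F V)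
    (hQ : (QuadraticMap.associated (R := F) Q).SeparatingLeft) (m : ℕ) (hm : finrank F V = m) :
    ∃ w : Fin m → Fˣ, QuadraticMap.Equivalent Q (QuadraticMap.weightedSumSquares F w) := by
  subst hm
  exact QuadraticForm.equivalent_weightedSumSquares_units_of_nondegenerate' Q hQ

theorem exists_diag' {F : Type*} [Field F] (h2 : (2 : F) ≠ 0) {n : ℕ}
    (Q : QuadraticForm F (Fin n → F)) (hQ : (QuadraticMap.polarBilin Q).Nondegenerate) :
    ∃ (w : Fin n → F) (e : (Fin n → F) ≃ₗ[F] (Fin n → F)), (∀ i, w i ≠ 0) ∧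
      ∀ x, Q x = ∑ i, w i * (e x i) ^ 2 := by
  have : Invertible (2 : F) := invertibleOfNonzero h2
  have hsep : (QuadraticMap.associated (R := F) Q).SeparatingLeft := by
    intro x hx
    apply hQ.1 x
    intro y
    have h5 : QuadraticMap.polarBilin Q = 2 • QuadraticMap.associated (R := F) Q :=
      (QuadraticMap.two_nsmul_associated F Q).symm
    rw [h5, LinearMap.smul_apply, LinearMap.smul_apply, hx y, smul_zero]
  obtain ⟨w, ⟨e⟩⟩ := exists_diag Q hsep n (Module.finrank_fin_fun F)
  refine ⟨fun i => (w i : F), e.toLinearEquiv, fun i => (w i).ne_zero, fun x => ?_⟩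
  have := e.map_app x
  rw [QuadraticMap.weightedSumSquares_apply] at this
  rw [← this]
  apply Finset.sum_congr rfl
  intro i _
  rw [Units.smul_def, smul_eq_mul, pow_two]
  rfl


/-- Over a finite field with 2 ≠ 0 and n odd: two quadratic forms Q₁, Q₂ on F^n with non-degenerate polar forms are similar — there are an invertible linear map g and a scalar c ≠ 0 with Q₂ (g v) = c · Q₁ v for all v. -/
theorem result {F : Type*} [Field F] [Fintype F] (h2 : (2 : F) ≠ 0) {n : ℕ} (hn : Odd n) (Q₁ Q₂ : QuadraticForm F (Fin n → F)) (h₁ : (QuadraticMap.polarBilin Q₁).Nondegenerate) (h₂ : (QuadraticMap.polarBilin Q₂).Nondegenerate) : ∃ (g : (Fin n → F) ≃ₗ[F] (Fin n → F)) (c : F), c ≠ 0 ∧ ∀ v, Q₂ (g v) = c * Q₁ v := by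
  obtain ⟨k, rfl⟩ := hn
  obtain ⟨w, e₁, hw, hQ₁⟩ := exists_diag' h2 Q₁ h₁
  obtain ⟨w', e₂, hw', hQ₂⟩ := exists_diag' h2 Q₂ h₂
  set d := ∏ i, w i with hd
  set d' := ∏ i, w' i with hd'
  have hd0 : d ≠ 0 := Finset.prod_ne_zero_iff.mpr (fun i _ => hw i)
  have hd'0 : d' ≠ 0 := Finset.prod_ne_zero_iff.mpr (fun i _ => hw' i)
  set c := d' / d with hc
  have hc0 : c ≠ 0 := div_ne_zero hd'0 hd0
  -- the scaled weights
  have hcw : ∀ i, c * w i ≠ 0 := fun i => mul_ne_zero hc0 (hw i)
  have n1 := DiagEquiv.normalForm h2 (2 * k) (fun i => c * w i) hcw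
  have n2 := DiagEquiv.normalForm h2 (2 * k) w' hw'
  have hprod : (∏ i, c * w i) = (c ^ k) ^ 2 * d' := by
    rw [Finset.prod_mul_distrib, Finset.prod_const, Finset.card_univ, Fintype.card_fin, ← hd]
    have : c * d = d' := by rw [hc]; field_simp
    rw [← this]
    ring
  rw [hprod] at n1
  have n3 : DiagEquiv (Fin.cons ((c ^ k) ^ 2 * d') (fun _ => 1) : Fin (2 * k + 1) → F)
      (Fin.cons d' (fun _ => 1)) := by
    have := DiagEquiv.scale (Fin.cons d' (fun _ => 1) : Fin (2 * k + 1) → F)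
      (Fin.cons (c ^ k) (fun _ => 1)) (by
        intro i
        refine Fin.cases ?_ (fun i => ?_) i
        · simpa using pow_ne_zero k hc0
        · simp)
    have hwt : (fun i => (Fin.cons (c ^ k) (fun _ => 1) : Fin (2 * k + 1) → F) i ^ 2 *
        (Fin.cons d' (fun _ => 1) : Fin (2 * k + 1) → F) i)
        = Fin.cons ((c ^ k) ^ 2 * d') (fun _ => 1) := by
      ext i
      refine Fin.cases ?_ (fun i => ?_) i <;> simp
    rw [hwt] at this
    exact this
  obtain ⟨G, hG⟩ := (n1.trans n3).trans n2.symm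
  -- hG : ∑ c w_i (G x i)^2 = ∑ w'_i x_i^2
  refine ⟨e₁.trans (G.symm.trans e₂.symm), c, hc0, fun v => ?_⟩
  rw [hQ₂, hQ₁]
  simp only [LinearEquiv.trans_apply, LinearEquiv.apply_symm_apply]
  rw [← hG (G.symm (e₁ v)), G.apply_symm_apply, Finset.mul_sum]
  apply Finset.sum_congr rfl
  intro i _
  ring

end Cfsg.Agent.S0838
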