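import Mathlib
import Cfsg.Statements.S0841
-- import your own Cfsg.Agent.* helpers here

set_option autoImplicit false
open Cfsg

namespace Cfsg.Agent.S0841

theorem tri_succ (n : ℕ) : (n + 1) * (n + 1 - 1) / 2 = n * (n - 1) / 2 + n := by
  have h : (n + 1) * (n + 1 - 1) = n * (n - 1) + 2 * n := by
    cases n with
    | zero => rfl
    | succ k => simp only [Nat.add_sub_cancel]; ring
  rw [h, Nat.add_mul_div_left _ _ (by norm_num : 0 < 2)]

/-- If the commutator subgroup of G lies in the centre, then for all x, y in G and every natural number n one has (x * y) ^ n = x ^ n * y ^ n * c ^ (n * (n - 1) / 2) with c = y⁻¹ * x⁻¹ * y * x. -/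
theorem result {G : Type*} [Group G] (hG : commutator G ≤ Subgroup.center G) (x y : G) (n : ℕ) : (x * y) ^ n = x ^ n * y ^ n * (y⁻¹ * x⁻¹ * y * x) ^ (n * (n - 1) / 2) := by
  set c := y⁻¹ * x⁻¹ * y * x with hc
  have hcc : c ∈ Subgroup.center G := by
    apply hG
    have : c = y⁻¹ * x⁻¹ * (y⁻¹)⁻¹ * (x⁻¹)⁻¹ := by
      simp [hc]
    rw [this, ← commutatorElement_def]
    exact Subgroup.commutator_mem_commutator (Subgroup.mem_top _) (Subgroup.mem_top _)
  have hcomm : ∀ g : G, g * c = c * g := fun g => (Subgroup.mem_center_iff.mp hcc g)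
  have hcpow : ∀ (k : ℕ) (g : G), g * c ^ k = c ^ k * g := by
    intro k g
    exact ((Commute.pow_right (hcomm g) k)).eq
  -- x⁻¹ y x = y c
  have h1 : x⁻¹ * y * x = y * c := by
    simp [hc, mul_assoc]
  have h2 : ∀ k : ℕ, y ^ k * x = x * y ^ k * c ^ k := by
    intro k
    have : x⁻¹ * y ^ k * x = (y * c) ^ k := by
      rw [← h1]
      induction k with
      | zero => simp
      | succ k ih =>
        rw [pow_succ, pow_succ, ← ih]
        group
    have h3 : (y * c) ^ k = y ^ k * c ^ k := by
      exact (Commute.mul_pow (hcomm y) k)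
    rw [h3] at this
    calc y ^ k * x = x * (x⁻¹ * y ^ k * x) := by group
      _ = x * (y ^ k * c ^ k) := by rw [this]
      _ = x * y ^ k * c ^ k := by rw [mul_assoc]
  induction n with
  | zero => simp
  | succ n ih =>
    rw [pow_succ, ih, tri_succ]
    calc x ^ n * y ^ n * c ^ (n * (n - 1) / 2) * (x * y)
        = x ^ n * (y ^ n * x) * y * c ^ (n * (n - 1) / 2) := by
          rw [mul_assoc (x ^ n * y ^ n), ← hcpow]
          simp only [mul_assoc]
      _ = x ^ n * (x * y ^ n * c ^ n) * y * c ^ (n * (n - 1) / 2) := by rw [h2]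
      _ = x ^ (n + 1) * y ^ (n + 1) * c ^ (n * (n - 1) / 2 + n) := by
          rw [pow_succ x, pow_succ y, pow_add]
          have e1 : c ^ n * y = y * c ^ n := (hcpow n y).symm
          have e2 : c ^ n * c ^ (n * (n - 1) / 2) = c ^ (n * (n - 1) / 2) * c ^ n :=
            (hcpow n _).symm
          simp only [mul_assoc]
          rw [← mul_assoc (c ^ n) y, e1, mul_assoc y, e2]

end Cfsg.Agent.S0841
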