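import Cfsg.Statements.S0848
import Cfsg.Agent.Lib.Helper4.D8Main
-- import your own Cfsg.Agent.* helpers here

set_option autoImplicit false
open Cfsg

namespace Cfsg.Agent.S0848

open Cfsg.Agent.Lib.Helper4.D8

/-- the hypothesis `Hyp` from an isomorphism of the centralizer with `DihedralGroup 4`. -/
theorem hyp_of_equiv {G : Type*} [Group G] (t : G) (ht : orderOf t = 2)
    (e : Subgroup.centralizer ({t} : Set G) ≃* DihedralGroup 4) :
    Hyp t ((e.symm (DihedralGroup.r 1) : Subgroup.centralizer ({t} : Set G)) : G)
      ((e.symm (DihedralGroup.sr 0) : Subgroup.centralizer ({t} : Set G)) : G) where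
  ht := ht
  hcard := by rw [Nat.card_congr e.toEquiv, DihedralGroup.nat_card]
  ha := by
    rw [Subgroup.orderOf_coe, MulEquiv.orderOf_eq, DihedralGroup.orderOf_r_one]
  hb := by
    rw [Subgroup.orderOf_coe, MulEquiv.orderOf_eq, DihedralGroup.orderOf_sr]
  hab := by
    have h : (DihedralGroup.sr 0 : DihedralGroup 4) * DihedralGroup.r 1 * (DihedralGroup.sr 0)⁻¹ =
        (DihedralGroup.r 1)⁻¹ := by decide
    have h2 : e.symm (DihedralGroup.sr 0) * e.symm (DihedralGroup.r 1) *
        (e.symm (DihedralGroup.sr 0))⁻¹ = (e.symm (DihedralGroup.r 1))⁻¹ := by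
      rw [← map_inv, ← map_mul, ← map_mul, ← map_inv, h]
    have h3 := congrArg Subtype.val h2
    simpa only [Subgroup.coe_mul, Subgroup.coe_inv] using h3
  haD := (e.symm (DihedralGroup.r 1)).2
  hbD := (e.symm (DihedralGroup.sr 0)).2

/-- A finite perfect group containing an involution whose centralizer is dihedral of order 8 has order 168 or 360. -/
theorem result {G : Type*} [Group G] [Finite G] (hperf : commutator G = ⊤) (t : G) (ht : orderOf t = 2) (e : Subgroup.centralizer ({t} : Set G) ≃* DihedralGroup 4) : Nat.card G = 168 ∨ Nat.card G = 360 := by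
  classical
  have : Fintype G := Fintype.ofFinite G
  exact main (hyp_of_equiv t ht e) hperf

end Cfsg.Agent.S0848
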