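import Mathlib
import Cfsg.Statements.S0849
-- import your own Cfsg.Agent.* helpers here

set_option autoImplicit false
open Cfsg

namespace Cfsg.Agent.S0849

open Classical in
theorem finsum_mem_eq_sum_ite {α : Type*} [Fintype α] (s : Set α) (f : α → ℂ) :
    ∑ᶠ a ∈ s, f a = ∑ a, if a ∈ s then f a else 0 := by
  rw [finsum_mem_def, finsum_eq_sum_of_fintype]
  apply Finset.sum_congr rfl
  intro a _
  rw [Set.indicator_apply]

theorem ext_coe {G : Type*} [Group G] (H : Subgroup G) (φ : H → ℂ) (h : H) :
    Cfsg.extendByZero H φ (h : G) = φ h := by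
  unfold Cfsg.extendByZero
  exact Subtype.val_injective.extend_apply φ 0 h

theorem ext_not_mem {G : Type*} [Group G] (H : Subgroup G) (φ : H → ℂ) (g : G) (hg : g ∉ H) :
    Cfsg.extendByZero H φ g = 0 := by
  unfold Cfsg.extendByZero
  rw [Function.extend_apply']
  · rfl
  · rintro ⟨h, rfl⟩
    exact hg h.2

theorem involution_inv {G : Type*} [Group G] (a : G) (ha : orderOf a = 2) : a⁻¹ = a := by
  have h : a ^ 2 = 1 := by rw [← ha]; exact pow_orderOf_eq_one a
  rw [inv_eq_iff_mul_eq_one, ← pow_two, h]

theorem orderOf_of_isConj {G : Type*} [Group G] (u a : G) (h : IsConj u a) :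
    orderOf a = orderOf u := by
  obtain ⟨c, hc⟩ := isConj_iff.mp h
  rw [← hc]
  have := MulEquiv.orderOf_eq (MulAut.conj c) u
  rw [MulAut.conj_apply] at this
  exact this


/-- Let H be a subgroup of a finite group G and S a subset of H that is mapped to itself under conjugation by H, is disjoint from its conjugate by any element outside H, and is closed under inverses. Let φ be a class function of H vanishing on H away from S, and let u, v be involutions of G. Then the sum of the induced function of φ over all products a * b with a conjugate to u and b conjugate to v equals the index of H times the sum of φ (a * b) over such pairs with a and b in H. -/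
theorem result {G : Type*} [Group G] [Fintype G] (H : Subgroup G) (S : Set G) (hSH : S ⊆ H) (hHS : ∀ h ∈ H, ∀ s ∈ S, h * s * h⁻¹ ∈ S) (hTI : ∀ g : G, g ∉ H → ∀ s ∈ S, g * s * g⁻¹ ∉ S) (hinv : ∀ s ∈ S, s⁻¹ ∈ S) (φ : H → ℂ) (hφ : Cfsg.IsClassFunction H φ) (hφS : ∀ x : H, (x : G) ∉ S → φ x = 0) (u v : G) (hu : orderOf u = 2) (hv : orderOf v = 2) : ∑ᶠ p ∈ {p : G × G | IsConj u p.1 ∧ IsConj v p.2}, Cfsg.indFun H φ (p.1 * p.2) = (H.index : ℂ) * ∑ᶠ p ∈ {p : H × H | IsConj u (p.1 : G) ∧ IsConj v (p.2 : G)}, φ (p.1 * p.2) := by
  classical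
  rw [finsum_mem_eq_sum_ite, finsum_mem_eq_sum_ite]
  simp only [Set.mem_ofPred_eq]
  -- T : the sum of the extension by zero over the pairs
  set T : ℂ := ∑ p : G × G, if IsConj u p.1 ∧ IsConj v p.2 then
    Cfsg.extendByZero H φ (p.1 * p.2) else 0 with hT
  -- Step 1: the left-hand side equals |H|⁻¹ * |G| * T
  have step1 : (∑ p : G × G, if IsConj u p.1 ∧ IsConj v p.2 then Cfsg.indFun H φ (p.1 * p.2) else 0)
      = (Nat.card H : ℂ)⁻¹ * ((Nat.card G : ℂ) * T) := by
    have e1 : ∀ p : G × G, (if IsConj u p.1 ∧ IsConj v p.2 then Cfsg.indFun H φ (p.1 * p.2) else 0)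
        = (Nat.card H : ℂ)⁻¹ * ∑ x : G, (if IsConj u p.1 ∧ IsConj v p.2 then
          Cfsg.extendByZero H φ (x⁻¹ * (p.1 * p.2) * x) else 0) := by
      intro p
      by_cases hp : IsConj u p.1 ∧ IsConj v p.2
      · simp only [hp, and_self, if_true]
        rfl
      · simp only [hp, if_false, Finset.sum_const_zero, mul_zero]
    rw [Finset.sum_congr rfl (fun p _ => e1 p), ← Finset.mul_sum, Finset.sum_comm]
    congr 1
    have e2 : ∀ x : G, (∑ p : G × G, if IsConj u p.1 ∧ IsConj v p.2 then
          Cfsg.extendByZero H φ (x⁻¹ * (p.1 * p.2) * x) else 0) = T := by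
      intro x
      let e : G × G ≃ G × G :=
        { toFun := fun p => (x⁻¹ * p.1 * x, x⁻¹ * p.2 * x)
          invFun := fun p => (x * p.1 * x⁻¹, x * p.2 * x⁻¹)
          left_inv := by intro p; ext <;> simp [mul_assoc]
          right_inv := by intro p; ext <;> simp [mul_assoc] }
      have hsc := Equiv.sum_comp e (fun p : G × G => if IsConj u p.1 ∧ IsConj v p.2 then
        Cfsg.extendByZero H φ (p.1 * p.2) else 0)
      rw [hT, ← hsc]
      apply Finset.sum_congr rfl
      intro p _
      have c1 : IsConj u (x⁻¹ * p.1 * x) ↔ IsConj u p.1 := by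
        constructor
        · intro h
          refine h.trans ?_
          rw [isConj_iff]
          exact ⟨x, by group⟩
        · intro h
          refine h.trans ?_
          rw [isConj_iff]
          exact ⟨x⁻¹, by group⟩
      have c2 : IsConj v (x⁻¹ * p.2 * x) ↔ IsConj v p.2 := by
        constructor
        · intro h
          refine h.trans ?_
          rw [isConj_iff]
          exact ⟨x, by group⟩
        · intro h
          refine h.trans ?_
          rw [isConj_iff]
          exact ⟨x⁻¹, by group⟩
      have c3 : x⁻¹ * p.1 * x * (x⁻¹ * p.2 * x) = x⁻¹ * (p.1 * p.2) * x := by group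
      simp only [e, Equiv.coe_fn_mk, c1, c2, c3]
    rw [Finset.sum_congr rfl (fun x _ => e2 x), Finset.sum_const, Finset.card_univ,
      nsmul_eq_mul, Nat.card_eq_fintype_card]
  -- Step 2: T is the sum over H × H
  have step2 : T = ∑ q : H × H, if IsConj u (q.1 : G) ∧ IsConj v (q.2 : G) then
      φ (q.1 * q.2) else 0 := by
    symm
    rw [hT]
    apply Fintype.sum_of_injective (fun q : H × H => ((q.1 : G), (q.2 : G)))
    · intro q q' h
      simp only [Prod.mk.injEq] at h
      ext
      · exact h.1
      · exact h.2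
    · -- vanishing off the range
      intro p hp
      by_cases hc : IsConj u p.1 ∧ IsConj v p.2
      · simp only [hc, and_self, if_true]
        by_cases hmem : p.1 * p.2 ∈ H
        · have h0 : φ ⟨p.1 * p.2, hmem⟩ = 0 := by
            apply hφS
            intro hs
            -- both p.1 and p.2 lie in H
            have o1 : orderOf p.1 = 2 := by rw [orderOf_of_isConj u p.1 hc.1, hu]
            have o2 : orderOf p.2 = 2 := by rw [orderOf_of_isConj v p.2 hc.2, hv]
            have i1 := involution_inv p.1 o1
            have i2 := involution_inv p.2 o2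
            have hsinv : (p.1 * p.2)⁻¹ = p.2 * p.1 := by rw [mul_inv_rev, i1, i2]
            have m1 : p.1 ∈ H := by
              by_contra hn
              apply hTI p.1 hn (p.1 * p.2) hs
              have : p.1 * (p.1 * p.2) * p.1⁻¹ = (p.1 * p.2)⁻¹ := by
                rw [hsinv, i1, ← mul_assoc, ← pow_two]
                have : p.1 ^ 2 = 1 := by rw [← o1]; exact pow_orderOf_eq_one _
                rw [this, one_mul]
              rw [this]
              exact hinv _ hs
            have m2 : p.2 ∈ H := by
              by_contra hn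
              apply hTI p.2 hn (p.1 * p.2) hs
              have : p.2 * (p.1 * p.2) * p.2⁻¹ = (p.1 * p.2)⁻¹ := by
                rw [hsinv]; group
              rw [this]
              exact hinv _ hs
            apply hp
            exact ⟨(⟨p.1, m1⟩, ⟨p.2, m2⟩), rfl⟩
          have : Cfsg.extendByZero H φ (p.1 * p.2) = φ ⟨p.1 * p.2, hmem⟩ :=
            ext_coe H φ ⟨p.1 * p.2, hmem⟩
          rw [this, h0]
        · exact ext_not_mem H φ _ hmem
      · simp only [hc, if_false]
    · intro q
      simp only
      by_cases hc : IsConj u (q.1 : G) ∧ IsConj v (q.2 : G)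
      · simp only [hc, and_self, if_true]
        have : ((q.1 : G) * (q.2 : G)) = ((q.1 * q.2 : H) : G) := rfl
        rw [this, ext_coe]
      · simp only [hc, if_false]
  have hcard : (Nat.card G : ℂ) = (H.index : ℂ) * (Nat.card H : ℂ) := by
    rw [← Nat.cast_mul, Subgroup.index_mul_card]
  have hH0 : (Nat.card H : ℂ) ≠ 0 := by
    have : 0 < Nat.card H := Nat.card_pos
    exact_mod_cast this.ne'
  have final : (Nat.card H : ℂ)⁻¹ * ((Nat.card G : ℂ) * T) = (H.index : ℂ) * T := by
    rw [hcard]
    field_simp
  calc _ = (Nat.card H : ℂ)⁻¹ * ((Nat.card G : ℂ) * T) := by convert step1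
    _ = (H.index : ℂ) * T := final
    _ = _ := by
      congr 1
      convert step2

end Cfsg.Agent.S0849
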