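import Cfsg.Statements.S0850
import Mathlib
-- import your own Cfsg.Agent.* helpers here

set_option autoImplicit false
open Cfsg

namespace Cfsg.Agent.S0850

theorem part1 {G : Type*} [Group G] [Fintype G] (K : Subgroup G) (hTI : ∀ g : G, g ∉ Subgroup.normalizer (K : Set G) → ∀ k ∈ K, g * k * g⁻¹ ∈ K → k = 1) (hC : ∀ k ∈ K, k ≠ 1 → Subgroup.centralizer ({k} : Set G) ≤ K) : (∀ x ∈ Subgroup.normalizer (K : Set G), x ∉ K → ∀ g : G, g * x * g⁻¹ ∉ K) := by
  classical
  intro x hxN hxK g hk
  by_cases hg : g ∈ Subgroup.normalizer (K : Set G)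
  · have := (Subgroup.mem_normalizer_iff.1 (inv_mem hg) (g * x * g⁻¹)).1 hk
    apply hxK
    have h2 : g⁻¹ * (g * x * g⁻¹) * g⁻¹⁻¹ = x := by group
    rwa [h2] at this
  · have hx1 : x ≠ 1 := fun h => hxK (h ▸ K.one_mem)
    have hox : orderOf x ≠ 1 := fun h => hx1 (orderOf_eq_one_iff.1 h)
    have hox0 : orderOf x ≠ 0 := (orderOf_pos x).ne'
    obtain ⟨q, hq, hqx⟩ := Nat.exists_prime_and_dvd hox
    have : Fact q.Prime := ⟨hq⟩
    set y := x ^ (orderOf x / q) with hy
    have hoy : orderOf y = q := orderOf_pow_orderOf_div hox0 hqx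
    have hyN : y ∈ Subgroup.normalizer (K : Set G) := pow_mem hxN _
    have hy1 : y ≠ 1 := fun h => hq.one_lt.ne' (by rw [← hoy, h, orderOf_one])
    set k' := g * y * g⁻¹ with hk'
    have hk'K : k' ∈ K := by
      have : k' = (g * x * g⁻¹) ^ (orderOf x / q) := by
        rw [hk', hy, conj_pow]
      rw [this]; exact pow_mem hk _
    have hk'1 : k' ≠ 1 := by
      intro h
      apply hy1
      have : y = g⁻¹ * k' * g := by rw [hk']; group
      rw [this, h]; group
    have hk'q : k' ^ q = 1 := by
      rw [hk', conj_pow, ← hoy, pow_orderOf_eq_one]; group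
    have hok' : orderOf k' = q := orderOf_eq_prime hk'q hk'1
    have hqK : q ∣ Nat.card K := hok' ▸ K.orderOf_dvd_natCard hk'K
    -- the q-group generated by y acts on K
    have hQN : Subgroup.zpowers y ≤ Subgroup.normalizer (K : Set G) :=
      (Subgroup.zpowers_le).2 hyN
    have hQ : IsPGroup q (Subgroup.zpowers y) := by
      apply IsPGroup.of_card (n := 1)
      rw [Nat.card_zpowers, hoy, pow_one]
    let act : MulAction (Subgroup.zpowers y) K :=
      { smul := fun u n => ⟨(u : G) * (n : G) * (u : G)⁻¹,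
          (Subgroup.mem_normalizer_iff.1 (hQN u.2) (n : G)).1 n.2⟩
        one_smul := by
          intro n
          apply Subtype.ext
          simp [HSMul.hSMul]
        mul_smul := by
          intro u v n
          apply Subtype.ext
          simp [HSMul.hSMul, mul_assoc] }
    have key := hQ.card_modEq_card_fixedPoints (p := q) K
    have hfix : ∀ n : K, n ∈ MulAction.fixedPoints (Subgroup.zpowers y) K → n = 1 := by
      intro n hn
      have h1 := hn ⟨y, Subgroup.mem_zpowers y⟩
      have h2 : y * (n : G) * y⁻¹ = (n : G) := congrArg Subtype.val h1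
      have h3 : g * (n : G) * g⁻¹ ∈ Subgroup.centralizer ({k'} : Set G) := by
        rw [Subgroup.mem_centralizer_iff]
        intro z hz
        rw [Set.mem_singleton_iff] at hz
        subst hz
        rw [hk']
        have h4 : y * (n : G) = (n : G) * y := by
          calc y * (n : G) = y * (n : G) * y⁻¹ * y := by group
            _ = (n : G) * y := by rw [h2]
        calc g * y * g⁻¹ * (g * ↑n * g⁻¹) = g * (y * ↑n) * g⁻¹ := by group
          _ = g * (↑n * y) * g⁻¹ := by rw [h4]
          _ = g * ↑n * g⁻¹ * (g * y * g⁻¹) := by group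
      have h5 := hC k' hk'K hk'1 h3
      have := hTI g hg (n : G) n.2 h5
      exact Subtype.ext this
    have hcard : Nat.card (MulAction.fixedPoints (Subgroup.zpowers y) K) = 1 := by
      rw [Nat.card_eq_one_iff_unique]
      refine ⟨⟨?_⟩, ⟨⟨1, ?_⟩⟩⟩
      · intro a b
        apply Subtype.ext
        rw [hfix a.1 a.2, hfix b.1 b.2]
      · intro u
        apply Subtype.ext
        show (u : G) * ((1 : K) : G) * (u : G)⁻¹ = ((1 : K) : G)
        simp
    rw [hcard] at key
    have h0 : Nat.card K ≡ 0 [MOD q] := (Nat.modEq_zero_iff_dvd).2 hqK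
    have h01 : 0 ≡ 1 [MOD q] := h0.symm.trans key
    have := (Nat.modEq_iff_dvd' (by omega)).1 h01
    simp at this
    exact hq.one_lt.ne' this

theorem part2 {G : Type*} [Group G] [Fintype G] (K : Subgroup G) (hTI : ∀ g : G, g ∉ Subgroup.normalizer (K : Set G) → ∀ k ∈ K, g * k * g⁻¹ ∈ K → k = 1)
  (h1 : ∀ x ∈ Subgroup.normalizer (K : Set G), x ∉ K → ∀ g : G, g * x * g⁻¹ ∉ K) : ∀ (ϑ : Subgroup.normalizer (K : Set G) → ℂ), Cfsg.IsClassFunction (Subgroup.normalizer (K : Set G)) ϑ → (∀ x : Subgroup.normalizer (K : Set G), (x : G) ∉ K → ϑ x = 0) → ϑ 1 = 0 → ∀ x : Subgroup.normalizer (K : Set G), Cfsg.indFun (Subgroup.normalizer (K : Set G)) ϑ x = ϑ x := by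
  classical
  intro ϑ hcf hvan hone x
  have hterm : ∀ g : G, extendByZero (Subgroup.normalizer (K : Set G)) ϑ (g⁻¹ * (x : G) * g)
      = if g ∈ Subgroup.normalizer (K : Set G) then ϑ x else 0 := by
    intro g
    by_cases hg : g ∈ Subgroup.normalizer (K : Set G)
    · rw [if_pos hg]
      have hmem : g⁻¹ * (x : G) * g ∈ Subgroup.normalizer (K : Set G) :=
        mul_mem (mul_mem (inv_mem hg) x.2) hg
      have : g⁻¹ * (x : G) * g = ((⟨g⁻¹ * (x : G) * g, hmem⟩ : Subgroup.normalizer (K : Set G)) : G) := rfl
      unfold extendByZero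
      rw [this, Subtype.val_injective.extend_apply]
      have h2 := hcf x (⟨g, hg⟩⁻¹)
      rw [← h2]
      congr 1
      apply Subtype.ext
      simp
    · rw [if_neg hg]
      by_cases hmem : g⁻¹ * (x : G) * g ∈ Subgroup.normalizer (K : Set G)
      · have : g⁻¹ * (x : G) * g = ((⟨g⁻¹ * (x : G) * g, hmem⟩ : Subgroup.normalizer (K : Set G)) : G) := rfl
        unfold extendByZero
        rw [this, Subtype.val_injective.extend_apply]
        by_cases hyK : g⁻¹ * (x : G) * g ∈ K
        · by_cases hxK : (x : G) ∈ K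
          · have hg' : g⁻¹ ∉ Subgroup.normalizer (K : Set G) := fun h => hg (by simpa using inv_mem h)
            have hx1 : (x : G) = 1 := hTI g⁻¹ hg' x hxK (by simpa using hyK)
            have : (⟨g⁻¹ * (x : G) * g, hmem⟩ : Subgroup.normalizer (K : Set G)) = 1 := by
              apply Subtype.ext
              simp [hx1]
            rw [this, hone]
          · exfalso
            exact h1 x x.2 hxK g⁻¹ (by simpa using hyK)
        · exact hvan _ hyK
      · unfold extendByZero
        apply Function.extend_apply'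
        rintro ⟨a, ha⟩
        exact hmem (ha ▸ a.2)
  unfold indFun
  simp only [hterm]
  rw [Finset.sum_ite, Finset.sum_const_zero, add_zero, Finset.sum_const, nsmul_eq_mul]
  have hcard : (Finset.filter (fun g => g ∈ Subgroup.normalizer (K : Set G)) Finset.univ).card
      = Nat.card (Subgroup.normalizer (K : Set G)) := by
    rw [Nat.card_eq_fintype_card, Fintype.card_subtype]
  rw [hcard, ← mul_assoc, inv_mul_cancel₀, one_mul]
  have : Nat.card (Subgroup.normalizer (K : Set G)) ≠ 0 := Nat.card_pos.ne'
  exact_mod_cast this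


/-- Let K be a subgroup of the finite group G that meets each conjugate by an element outside its normalizer N trivially, is properly contained in N, and contains the centralizer of each of its non-identity elements (a T.I. subgroup with Frobenius normalizer). Then no element of N outside K is conjugate in G to an element of K, and for every class function ϑ of N that vanishes on N away from K and at the identity, the function induced from ϑ to G agrees with ϑ on all of N. -/
theorem result {G : Type*} [Group G] [Fintype G] (K : Subgroup G) (hTI : ∀ g : G, g ∉ Subgroup.normalizer (K : Set G) → ∀ k ∈ K, g * k * g⁻¹ ∈ K → k = 1) (hlt : K < Subgroup.normalizer (K : Set G)) (hC : ∀ k ∈ K, k ≠ 1 → Subgroup.centralizer ({k} : Set G) ≤ K) : (∀ x ∈ Subgroup.normalizer (K : Set G), x ∉ K → ∀ g : G, g * x * g⁻¹ ∉ K) ∧ ∀ (ϑ : Subgroup.normalizer (K : Set G) → ℂ), Cfsg.IsClassFunction (Subgroup.normalizer (K : Set G)) ϑ → (∀ x : Subgroup.normalizer (K : Set G), (x : G) ∉ K → ϑ x = 0) → ϑ 1 = 0 → ∀ x : Subgroup.normalizer (K : Set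 G), Cfsg.indFun (Subgroup.normalizer (K : Set G)) ϑ x = ϑ x := by
  exact ⟨part1 K hTI hC, part2 K hTI (part1 K hTI hC)⟩

end Cfsg.Agent.S0850
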