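import Cfsg.Statements.S0855
-- import your own Cfsg.Agent.* helpers here
import Cfsg.Agent.Lib.Helper79.ThompsonMain
import Cfsg.Agent.Lib.Helper79.Integrality
import Cfsg.Agent.S0169

set_option autoImplicit false
open Cfsg

namespace Cfsg.Agent.S0855
open scoped commutatorElement

open Cfsg.Agent.Lib.Helper78 Cfsg.Agent.Lib.Helper75 Cfsg.Agent.Lib.Helper77 Cfsg.Agent.Lib.Helper79

universe u

section helpers

variable {G : Type u} [Group G] [Fintype G] (N : Subgroup G) [hN : N.Normal] [Fintype N]

/-- The degree of an irreducible constituent of the restriction to a normal subgroup divides the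
degree of the character. -/
theorem charDegree_dvd_of_constituent {χ : G → ℂ} (hχ : IsIrrCharacter G χ) {θ : N → ℂ}
    (hθ : IsIrrCharacter N θ) (hconst : classInner (fun n : N => χ n) θ ≠ 0) :
    charDegree θ ∣ charDegree χ := by
  classical
  have hcl := clifford_finset N hχ hθ hconst
  have hres : IsCharacter N (fun n : N => χ n) :=
    isCharacter_res N (IsIrrCharacter.isCharacter hχ)
  obtain ⟨m, hm⟩ := IsCharacter.exists_nat_classInner hres ⟨θ, hθ⟩
  have h1 := congrFun hcl 1
  have hφ1 : ∀ φ ∈ conjOrbit N θ, (φ : N → ℂ) 1 = θ 1 := by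
    intro φ hφ
    obtain ⟨g, hg⟩ := (mem_conjOrbit N).mp hφ
    rw [← hg, conjFun_apply]
    congr 1
    apply Subtype.ext
    simp
  simp only [Pi.smul_apply, Finset.sum_apply, smul_eq_mul] at h1
  rw [Finset.sum_congr rfl hφ1, Finset.sum_const, nsmul_eq_mul] at h1
  have hm' : classInner (fun n : N => χ n) θ = (m : ℂ) := hm
  rw [hm', IsCharacter.apply_one_eq_charDegree (IsIrrCharacter.isCharacter hθ)] at h1
  have h2 : χ 1 = (charDegree χ : ℂ) :=
    IsCharacter.apply_one_eq_charDegree (IsIrrCharacter.isCharacter hχ)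
  have h3 : (χ (1 : N) : ℂ) = χ 1 := rfl
  rw [h3, h2] at h1
  have h4 : charDegree χ = m * ((conjOrbit N θ).card * charDegree θ) := by exact_mod_cast h1
  rw [h4]
  exact ⟨m * (conjOrbit N θ).card, by ring⟩

end helpers

/-- A finite group all of whose irreducible characters have degree one is abelian. -/
theorem commutative_of_forall_charDegree_eq_one {N : Type u} [Group N] [Finite N]
    (h : ∀ θ : IrrCharacter N, charDegree (θ : N → ℂ) = 1) : ∀ a b : N, a * b = b * a := by
  classical
  letI : Fintype N := Fintype.ofFinite N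
  have h1 : ∑ θ : IrrCharacter N, charDegree (θ : N → ℂ) ^ 2 = Nat.card N := sum_irr_charDegree_sq
  have h2 : Nat.card (IrrCharacter N) = Nat.card N := by
    rw [← h1, Nat.card_eq_fintype_card, ← Finset.card_univ, Finset.card_eq_sum_ones]
    exact Finset.sum_congr rfl (fun θ _ => by rw [h θ]; rfl)
  have h3 : Nat.card {χ : IrrCharacter N // (χ : N → ℂ) 1 = 1} = Nat.card (IrrCharacter N) := by
    apply Nat.card_congr
    refine (Equiv.subtypeUnivEquiv ?_)
    intro θ
    rw [IsCharacter.apply_one_eq_charDegree (IsIrrCharacter.isCharacter θ.2), h θ]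
    simp
  have h4 := card_linear_characters (G := N)
  rw [h3, h2] at h4
  have h5 := (commutator N).card_mul_index
  rw [← h4] at h5
  have h6 : Nat.card (commutator N) = 1 := by
    have hpos : 0 < Nat.card N := Nat.card_pos
    exact Nat.eq_of_mul_eq_mul_right hpos (by rw [h5, one_mul])
  have h7 : commutator N = ⊥ := Subgroup.card_eq_one.mp h6
  intro a b
  have : ⁅a, b⁆ ∈ commutator N := Subgroup.commutator_mem_commutator (Subgroup.mem_top a) (Subgroup.mem_top b)
  rw [h7, Subgroup.mem_bot, commutatorElement_eq_one_iff_mul_comm] at this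
  exact this

/-- For a finite group G and a prime p: every irreducible character of G has degree a power of p if and only if G has an abelian normal subgroup whose order is prime to p and whose index is a power of p. -/
theorem result {G : Type*} [Group G] [Finite G] (p : ℕ) (hp : p.Prime) : (∀ χ : Cfsg.IrrCharacter G, ∃ k : ℕ, (χ : G → ℂ) 1 = (p : ℂ) ^ k) ↔ ∃ A : Subgroup G, A.Normal ∧ (∀ a ∈ A, ∀ b ∈ A, a * b = b * a) ∧ Nat.Coprime (Nat.card A) p ∧ ∃ k : ℕ, A.index = p ^ k := by
  classical
  letI : Fintype G := Fintype.ofFinite G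
  constructor
  · intro hall
    have hdegpow : ∀ χ : IrrCharacter G, ∃ k : ℕ, charDegree (χ : G → ℂ) = p ^ k := by
      intro χ
      obtain ⟨k, hk⟩ := hall χ
      refine ⟨k, ?_⟩
      have h1 : (charDegree (χ : G → ℂ) : ℂ) = (p : ℂ) ^ k := by
        rw [← IsCharacter.apply_one_eq_charDegree (IsIrrCharacter.isCharacter χ.2), hk]
      exact_mod_cast h1
    have hyp : ThompsonHyp p G := by
      intro χ hne
      obtain ⟨k, hk⟩ := hdegpow χ
      rw [hk] at hne ⊢
      cases k with
      | zero => exact absurd (pow_zero p) hne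
      | succ k => exact dvd_pow_self p (Nat.succ_ne_zero k)
    obtain ⟨N, hNn, hNc, k, hk⟩ := thompson_degree p hp hyp
    refine ⟨N, hNn, ?_, hNc, k, hk⟩
    letI : Fintype N := Fintype.ofFinite N
    have hlin : ∀ θ : IrrCharacter N, charDegree (θ : N → ℂ) = 1 := by
      intro θ
      obtain ⟨χ, hχ⟩ := exists_classInner_indFun_ne_zero N θ.2
      have hcl : IsClassFunction G (χ : G → ℂ) :=
        IsCharacter.isClassFunction (IsIrrCharacter.isCharacter χ.2)
      rw [frobenius_reciprocity N (θ : N → ℂ) hcl] at hχ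
      have hχ' : classInner (fun n : N => (χ : G → ℂ) n) (θ : N → ℂ) ≠ 0 := by
        rw [← classInner_conj_symm]
        intro h0
        exact hχ ((map_eq_zero _).mp h0)
      have hdvd : charDegree (θ : N → ℂ) ∣ charDegree (χ : G → ℂ) :=
        charDegree_dvd_of_constituent N χ.2 θ.2 hχ'
      obtain ⟨j, hj⟩ := hdegpow χ
      rw [hj] at hdvd
      have hdvd2 : charDegree (θ : N → ℂ) ∣ Nat.card N := irr_charDegree_dvd_card θ
      have hcop : Nat.Coprime (Nat.card N) (p ^ j) := Nat.Coprime.pow_right j hNc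
      exact Nat.eq_one_of_dvd_coprimes hcop hdvd2 hdvd
    have hcomm := commutative_of_forall_charDegree_eq_one hlin
    intro a ha b hb
    exact congrArg Subtype.val (hcomm ⟨a, ha⟩ ⟨b, hb⟩)
  · rintro ⟨A, hAn, hAab, hAc, k, hk⟩ χ
    obtain ⟨n, ρ, hirr, hχ⟩ := χ.2
    have h1 := Cfsg.Agent.S0169.result ρ A hAab
    rw [Module.finrank_fin_fun, hk] at h1
    obtain ⟨j, _, hj⟩ := (Nat.dvd_prime_pow hp).mp h1
    refine ⟨j, ?_⟩
    rw [← hχ, Representation.char_one, Module.finrank_fin_fun, hj]
    push_cast
    rfl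

end Cfsg.Agent.S0855
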