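-- Statement S4956: k(X) = sum over orbit representatives of k(C_G(s)) for coprime split extensions.
import Cfsg.Statements.S4956
import Mathlib

set_option autoImplicit false
open Cfsg

namespace Cfsg.Agent.S4956

section ringpart
variable {R : Type*} [Ring R]

def normEl (a : R) (k : ℕ) : R := ∑ i ∈ Finset.range k, a ^ i
def quotEl (a : R) (k : ℕ) : R := ∑ i ∈ Finset.range k, ∑ j ∈ Finset.range i, a ^ j

theorem one_sub_mul_normEl (a : R) (k : ℕ) (ha : a ^ k = 1) : (1 - a) * normEl a k = 0 := by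
  rw [normEl, mul_neg_geom_sum, ha, sub_self]

theorem normEl_mul_one_sub (a : R) (k : ℕ) (ha : a ^ k = 1) : normEl a k * (1 - a) = 0 := by
  rw [normEl, geom_sum_mul_neg, ha, sub_self]

theorem one_sub_mul_quotEl (a : R) (k : ℕ) : (1 - a) * quotEl a k = (k : R) - normEl a k := by
  rw [quotEl, normEl, Finset.mul_sum]
  simp only [mul_neg_geom_sum]
  rw [Finset.sum_sub_distrib]
  simp

theorem commute_normEl {a b : R} (h : Commute b a) (k : ℕ) : Commute b (normEl a k) := by
  unfold normEl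
  exact Commute.sum_right _ _ _ fun i _ => h.pow_right i

theorem commute_quotEl {a b : R} (h : Commute b a) (k : ℕ) : Commute b (quotEl a k) := by
  unfold quotEl
  exact Commute.sum_right _ _ _ fun i _ => Commute.sum_right _ _ _ fun j _ => h.pow_right j

theorem avg_identities (a : R) (k : ℕ) (ha : a ^ k = 1) (z : ℤ) (hz : (z : R) * (k : R) = 1) :
    (1 - a) * ((z : R) * normEl a k) = 0 ∧ ((z : R) * normEl a k) * (1 - a) = 0 ∧
      (z : R) * normEl a k + (1 - a) * ((z : R) * quotEl a k) = 1 ∧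
      (z : R) * normEl a k + ((z : R) * quotEl a k) * (1 - a) = 1 := by
  have h3 : (z : R) * normEl a k + (1 - a) * ((z : R) * quotEl a k) = 1 := by
    rw [← mul_assoc, ← (Int.cast_commute z (1 - a)).eq, mul_assoc, one_sub_mul_quotEl, ← mul_add,
      add_sub_cancel, hz]
  refine ⟨?_, ?_, h3, ?_⟩
  · rw [← mul_assoc, ← (Int.cast_commute z (1 - a)).eq, mul_assoc, one_sub_mul_normEl a k ha,
      mul_zero]
  · rw [mul_assoc, normEl_mul_one_sub a k ha, mul_zero]
  · have hc : Commute (1 - a) ((z : R) * quotEl a k) :=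
      (Int.cast_commute z (1 - a)).symm.mul_right
        (commute_quotEl ((Commute.one_left a).sub_left (Commute.refl a)) k)
    rw [← hc.eq]; exact h3

end ringpart

section modpart

variable {M : Type*} [AddCommGroup M] [Finite M]

theorem exists_int_inv (m : ℕ) (hm : m.Coprime (Nat.card M)) :
    ∃ z : ℤ, ((z : AddMonoid.End M) * (m : AddMonoid.End M)) = 1 := by
  classical
  have := Fintype.ofFinite M
  refine ⟨Nat.gcdA m (Nat.card M), ?_⟩
  have h := Nat.gcd_eq_gcd_ab m (Nat.card M)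
  rw [hm, Nat.cast_one] at h
  have hn : ((Nat.card M : ℕ) : AddMonoid.End M) = 0 := by
    ext v
    rw [AddMonoid.End.natCast_apply, Nat.card_eq_fintype_card, card_nsmul_eq_zero]
    rfl
  have h2 : ((1 : ℤ) : AddMonoid.End M) =
      ((↑m * m.gcdA (Nat.card M) + ↑(Nat.card M) * m.gcdB (Nat.card M) : ℤ) : AddMonoid.End M) := by
    rw [h]
  push_cast at h2
  rw [hn, zero_mul, add_zero] at h2
  rw [h2, (Int.cast_commute _ _).eq]

theorem count_lemma (a b : AddMonoid.End M)
    (hab : Commute a b) (m : ℕ) (ha : a ^ m = 1) (hb : b ^ m = 1)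
    (hm : m.Coprime (Nat.card M)) :
    Nat.card {p : M × M // p.1 - b p.1 = p.2 - a p.2} =
      Nat.card M * Nat.card {v : M // a v = v ∧ b v = v} := by
  obtain ⟨z, hz⟩ := exists_int_inv (M := M) m hm
  obtain ⟨ha1, ha2, ha3, ha4⟩ := avg_identities a m ha z hz
  obtain ⟨hb1, hb2, hb3, hb4⟩ := avg_identities b m hb z hz
  set ea : AddMonoid.End M := (z : AddMonoid.End M) * normEl a m with hea
  set eb : AddMonoid.End M := (z : AddMonoid.End M) * normEl b m with heb
  set qa : AddMonoid.End M := (z : AddMonoid.End M) * quotEl a m with hqa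
  set qb : AddMonoid.End M := (z : AddMonoid.End M) * quotEl b m with hqb
  have hcomm_b_ea : Commute b ea := (Int.cast_commute z b).symm.mul_right (commute_normEl hab.symm m)
  have hcomm_a_eb : Commute a eb := (Int.cast_commute z a).symm.mul_right (commute_normEl hab m)
  have hcomm_ea_eb : Commute ea eb :=
    ((Int.cast_commute z eb).symm.mul_right (commute_normEl hcomm_a_eb.symm m)).symm
  have haea : a * ea = ea := by
    have := ha1; rw [sub_mul, one_mul, sub_eq_zero] at this; exact this.symm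
  have hbeb : b * eb = eb := by
    have := hb1; rw [sub_mul, one_mul, sub_eq_zero] at this; exact this.symm
  -- ring identities
  have hid : (1 : AddMonoid.End M) = ea * eb + (1 - a) * (qa * eb) + (1 - b) * qb := by
    calc (1 : AddMonoid.End M) = eb + (1 - b) * qb := hb3.symm
      _ = (ea + (1 - a) * qa) * eb + (1 - b) * qb := by rw [ha3, one_mul]
      _ = ea * eb + (1 - a) * (qa * eb) + (1 - b) * qb := by noncomm_ring
  have hk1 : (ea * eb) * (1 - b) = 0 := by rw [mul_assoc, hb2, mul_zero]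
  have hk2 : (ea * eb) * (1 - a) = 0 := by rw [hcomm_ea_eb.eq, mul_assoc, ha2, mul_zero]
  have hf1 : a * (ea * eb) = ea * eb := by rw [← mul_assoc, haea]
  have hf2 : b * (ea * eb) = ea * eb := by
    rw [← mul_assoc, hcomm_b_ea.eq, mul_assoc, hbeb]
  -- the two homs
  let Φ : M × M →+ M :=
    ((1 - b : AddMonoid.End M) : M →+ M).comp (AddMonoidHom.fst M M) -
      ((1 - a : AddMonoid.End M) : M →+ M).comp (AddMonoidHom.snd M M)
  let e : M →+ M := (ea * eb : AddMonoid.End M)
  have hΦ : ∀ p : M × M, Φ p = (p.1 - b p.1) - (p.2 - a p.2) := fun p => rfl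
  have hΦ' : ∀ p : M × M, Φ p = (1 - b : AddMonoid.End M) p.1 - (1 - a : AddMonoid.End M) p.2 :=
    fun p => rfl
  have hrange : Φ.range = e.ker := by
    ext v
    rw [AddMonoidHom.mem_range, AddMonoidHom.mem_ker]
    constructor
    · rintro ⟨p, rfl⟩
      rw [hΦ', map_sub]
      have e1 : e ((1 - b : AddMonoid.End M) p.1) = 0 := DFunLike.congr_fun hk1 p.1
      have e2 : e ((1 - a : AddMonoid.End M) p.2) = 0 := DFunLike.congr_fun hk2 p.2
      rw [e1, e2, sub_zero]
    · intro hv
      refine ⟨(qb v, - (qa (eb v))), ?_⟩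
      have := DFunLike.congr_fun hid v
      have h2 : v = e v + (1 - a : AddMonoid.End M) (qa (eb v)) + (1 - b : AddMonoid.End M) (qb v) :=
        this
      rw [hv, zero_add] at h2
      rw [hΦ']
      simp only [map_neg, sub_neg_eq_add]
      rw [add_comm]; exact h2.symm
  have hrange_e : ∀ v : M, v ∈ e.range ↔ (a v = v ∧ b v = v) := by
    intro v
    rw [AddMonoidHom.mem_range]
    constructor
    · rintro ⟨w, rfl⟩
      exact ⟨DFunLike.congr_fun hf1 w, DFunLike.congr_fun hf2 w⟩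
    · rintro ⟨h1, h2⟩
      refine ⟨v, ?_⟩
      have hb4' := DFunLike.congr_fun hb4 v
      have ha4' := DFunLike.congr_fun ha4 v
      have hbv : eb v = v := by
        have : eb v + qb (v - b v) = v := hb4'
        rwa [h2, sub_self, map_zero, add_zero] at this
      have hav : ea v = v := by
        have : ea v + qa (v - a v) = v := ha4'
        rwa [h1, sub_self, map_zero, add_zero] at this
      show ea (eb v) = v
      rw [hbv, hav]
  have hker : ∀ p : M × M, p ∈ Φ.ker ↔ p.1 - b p.1 = p.2 - a p.2 := by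
    intro p
    rw [AddMonoidHom.mem_ker, hΦ, sub_eq_zero]
  have c1 : Nat.card {p : M × M // p.1 - b p.1 = p.2 - a p.2} = Nat.card Φ.ker :=
    Nat.card_congr (Equiv.subtypeEquivRight fun p => (hker p).symm)
  have c2 : Nat.card {v : M // a v = v ∧ b v = v} = Nat.card e.range :=
    Nat.card_congr (Equiv.subtypeEquivRight fun v => (hrange_e v).symm)
  have c3 : Nat.card Φ.ker * Nat.card Φ.range = Nat.card M * Nat.card M := by
    rw [← AddSubgroup.index_ker, AddSubgroup.card_mul_index, Nat.card_prod]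
  have c4 : Nat.card e.ker * Nat.card e.range = Nat.card M := by
    rw [← AddSubgroup.index_ker, AddSubgroup.card_mul_index]
  rw [hrange] at c3
  rw [c1, c2]
  have hpos : 0 < Nat.card e.ker := Nat.card_pos
  apply Nat.eq_of_mul_eq_mul_right hpos
  rw [c3, mul_assoc, mul_comm (Nat.card e.range), c4]

end modpart

section mulpart

/-- Automorphisms of a commutative group as endomorphisms of its additive version. -/
def autToEnd {A : Type*} [CommGroup A] : MulAut A →* AddMonoid.End (Additive A) where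
  toFun σ := MonoidHom.toAdditive σ.toMonoidHom
  map_one' := rfl
  map_mul' _ _ := rfl

theorem count_lemma_mul' {A : Type*} [CommGroup A] [Finite A] (σ τ : MulAut A) (hc : Commute σ τ)
    (m : ℕ) (hσ : σ ^ m = 1) (hτ : τ ^ m = 1) (hm : m.Coprime (Nat.card A)) :
    Nat.card {p : A × A // p.1 * σ p.2 = p.2 * τ p.1} =
      Nat.card A * Nat.card {v : A // σ v = v ∧ τ v = v} := by
  have h := count_lemma (M := Additive A) (autToEnd σ) (autToEnd τ) (hc.map autToEnd) m
    (by rw [← map_pow, hσ, map_one]) (by rw [← map_pow, hτ, map_one]) hm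
  have e1 : Nat.card {p : A × A // p.1 * σ p.2 = p.2 * τ p.1} =
      Nat.card {p : Additive A × Additive A //
        p.1 - autToEnd τ p.1 = p.2 - autToEnd σ p.2} := by
    refine Nat.card_congr (Equiv.subtypeEquivRight fun p => ?_)
    show p.1 * σ p.2 = p.2 * τ p.1 ↔ p.1 / τ p.1 = p.2 / σ p.2
    rw [div_eq_div_iff_mul_eq_mul]
  have e2 : Nat.card {v : A // σ v = v ∧ τ v = v} =
      Nat.card {v : Additive A // autToEnd σ v = v ∧ autToEnd τ v = v} := rfl
  rw [e1, e2]
  exact h

theorem count_lemma_mul {A : Type*} [Group A] [Finite A] (hcomm : ∀ x y : A, x * y = y * x)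
    (σ τ : MulAut A) (hc : Commute σ τ) (m : ℕ)
    (hσ : σ ^ m = 1) (hτ : τ ^ m = 1) (hm : m.Coprime (Nat.card A)) :
    Nat.card {p : A × A // p.1 * σ p.2 = p.2 * τ p.1} =
      Nat.card A * Nat.card {v : A // σ v = v ∧ τ v = v} := by
  letI : CommGroup A := { ‹Group A› with mul_comm := hcomm }
  exact count_lemma_mul' σ τ hc m hσ hτ hm

end mulpart

theorem card_subtype_prod_eq_sum {A B : Type*} [Fintype A] [Finite B] (R : A → B → Prop) :
    Nat.card {q : A × B // R q.1 q.2} = ∑ a : A, Nat.card {b : B // R a b} := by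
  rw [Nat.card_congr (Equiv.subtypeProdEquivSigmaSubtype R), Nat.card_sigma]

section grouppart
variable {X : Type*} [Group X] (V : Subgroup X) [V.Normal] (G : Subgroup X)

theorem commute_mul_iff (hGV : Subgroup.IsComplement' V G) (u w : ↥V) (a b : ↥G) :
    Commute ((u : X) * a) ((w : X) * b) ↔
      (Commute a b ∧ u * MulAut.conjNormal (a : X) w = w * MulAut.conjNormal (b : X) u) := by
  have e1 : (u : X) * a * ((w : X) * b) =
      ((u * MulAut.conjNormal (a : X) w : ↥V) : X) * ((a * b : ↥G) : X) := by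
    simp only [Subgroup.coe_mul, MulAut.conjNormal_apply]; group
  have e2 : (w : X) * b * ((u : X) * a) =
      ((w * MulAut.conjNormal (b : X) u : ↥V) : X) * ((b * a : ↥G) : X) := by
    simp only [Subgroup.coe_mul, MulAut.conjNormal_apply]; group
  constructor
  · intro h
    have h' : (u : X) * a * ((w : X) * b) = (w : X) * b * ((u : X) * a) := h
    rw [e1, e2] at h'
    have := hGV.1 (a₁ := (u * MulAut.conjNormal (a : X) w, a * b))
      (a₂ := (w * MulAut.conjNormal (b : X) u, b * a)) h'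
    rw [Prod.mk.injEq] at this
    exact ⟨this.2, this.1⟩
  · rintro ⟨h1, h2⟩
    show (u : X) * a * ((w : X) * b) = (w : X) * b * ((u : X) * a)
    rw [e1, e2, h2, h1.eq]

theorem card_commPairs [Finite X] (hab : ∀ a ∈ V, ∀ b ∈ V, a * b = b * a)
    (hGV : Subgroup.IsComplement' V G) (hcop : (Nat.card V).Coprime (Nat.card G)) :
    Nat.card {p : X × X // Commute p.1 p.2} =
      Nat.card V * ∑ᶠ v : ↥V, Nat.card {q : ↥G × ↥G // Commute q.1 q.2 ∧
        MulAut.conjNormal (q.1 : X) v = v ∧ MulAut.conjNormal (q.2 : X) v = v} := by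
  classical
  have := Fintype.ofFinite ↥V
  have := Fintype.ofFinite ↥G
  rw [finsum_eq_sum_of_fintype]
  let e : ↥V × ↥G ≃ X := Equiv.ofBijective _ hGV
  let E : (↥G × ↥G) × (↥V × ↥V) ≃ X × X :=
    ((Equiv.prodComm _ _).trans (Equiv.prodProdProdComm ↥V ↥V ↥G ↥G)).trans (Equiv.prodCongr e e)
  let R : ↥G × ↥G → ↥V × ↥V → Prop := fun ab uw =>
    Commute ab.1 ab.2 ∧
      uw.1 * MulAut.conjNormal (ab.1 : X) uw.2 = uw.2 * MulAut.conjNormal (ab.2 : X) uw.1
  let R' : ↥G × ↥G → ↥V → Prop := fun ab v =>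
    Commute ab.1 ab.2 ∧ MulAut.conjNormal (ab.1 : X) v = v ∧ MulAut.conjNormal (ab.2 : X) v = v
  have s1 : Nat.card {p : X × X // Commute p.1 p.2} =
      Nat.card {r : (↥G × ↥G) × (↥V × ↥V) // R r.1 r.2} := by
    refine (Nat.card_congr (Equiv.subtypeEquiv E fun r => ?_)).symm
    exact (commute_mul_iff V G hGV r.2.1 r.2.2 r.1.1 r.1.2).symm
  have s4 : ∀ ab : ↥G × ↥G, Nat.card {uw : ↥V × ↥V // R ab uw} =
      Nat.card ↥V * Nat.card {v : ↥V // R' ab v} := by
    rintro ⟨a, b⟩
    by_cases hc : Commute a b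
    · have hcomm : ∀ x y : ↥V, x * y = y * x := fun x y => Subtype.ext (hab x x.2 y y.2)
      have hpow : ∀ g : ↥G, (MulAut.conjNormal (g : X) : MulAut ↥V) ^ Nat.card ↥G = 1 := by
        intro g
        rw [← map_pow, ← Subgroup.coe_pow, pow_card_eq_one', Subgroup.coe_one, map_one]
      have hc' : Commute (MulAut.conjNormal (a : X) : MulAut ↥V) (MulAut.conjNormal (b : X)) := by
        have : Commute (a : X) (b : X) := by
          have h1 := congrArg (Subtype.val) hc.eq
          simp only [Subgroup.coe_mul] at h1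
          exact h1
        exact this.map _
      have h := count_lemma_mul hcomm (MulAut.conjNormal (a : X) : MulAut ↥V)
        (MulAut.conjNormal (b : X)) hc' (Nat.card ↥G) (hpow a) (hpow b) hcop.symm
      rw [← Nat.card_congr (Equiv.subtypeEquivRight (p := fun v : ↥V =>
        MulAut.conjNormal (a : X) v = v ∧ MulAut.conjNormal (b : X) v = v)
        (q := fun v => R' (a, b) v) fun v => by simp [R', hc]), ← h]
      exact Nat.card_congr (Equiv.subtypeEquivRight fun uw => by simp [R, hc])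
    · have e1 : IsEmpty {uw : ↥V × ↥V // R (a, b) uw} := ⟨fun x => hc x.2.1⟩
      have e2 : IsEmpty {v : ↥V // R' (a, b) v} := ⟨fun x => hc x.2.1⟩
      rw [@Nat.card_of_isEmpty _ e1, @Nat.card_of_isEmpty _ e2, mul_zero]
  rw [s1, card_subtype_prod_eq_sum R, Finset.sum_congr rfl fun ab _ => s4 ab, ← Finset.mul_sum,
    ← card_subtype_prod_eq_sum R']
  congr 1
  rw [← card_subtype_prod_eq_sum (fun (v : ↥V) (ab : ↥G × ↥G) => R' ab v)]
  exact Nat.card_congr ((Equiv.prodComm _ _).subtypeEquiv fun r => Iff.rfl)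

end grouppart

section orbitpart
variable {X : Type*} [Group X] (V : Subgroup X) [V.Normal] (G : Subgroup X)

/-- conjugating the base point conjugates the centralizer in `G`. -/
def centConjEquiv (g : X) (hg : g ∈ G) (x : X) :
    ↥(G ⊓ Subgroup.centralizer ({x} : Set X)) ≃*
      ↥(G ⊓ Subgroup.centralizer ({g * x * g⁻¹} : Set X)) where
  toFun k := ⟨g * k * g⁻¹, by
    refine ⟨G.mul_mem (G.mul_mem hg k.2.1) (G.inv_mem hg), ?_⟩
    have h := Subgroup.mem_centralizer_singleton_iff.mp k.2.2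
    show g * ↑k * g⁻¹ ∈ Subgroup.centralizer {g * x * g⁻¹}
    rw [Subgroup.mem_centralizer_singleton_iff]
    calc g * ↑k * g⁻¹ * (g * x * g⁻¹) = g * (↑k * x) * g⁻¹ := by group
      _ = g * (x * ↑k) * g⁻¹ := by rw [h]
      _ = g * x * g⁻¹ * (g * ↑k * g⁻¹) := by group⟩
  invFun k := ⟨g⁻¹ * k * g, by
    refine ⟨G.mul_mem (G.mul_mem (G.inv_mem hg) k.2.1) hg, ?_⟩
    have h := Subgroup.mem_centralizer_singleton_iff.mp k.2.2
    show g⁻¹ * ↑k * g ∈ Subgroup.centralizer {x}
    rw [Subgroup.mem_centralizer_singleton_iff]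
    calc g⁻¹ * ↑k * g * x = g⁻¹ * (↑k * (g * x * g⁻¹)) * g := by group
      _ = g⁻¹ * ((g * x * g⁻¹) * ↑k) * g := by rw [h]
      _ = x * (g⁻¹ * ↑k * g) := by group⟩
  left_inv k := by ext; simp only; group
  right_inv k := by ext; simp only; group
  map_mul' k l := by ext; simp only [Subgroup.coe_mul]; group

theorem card_conjClasses_congr {H K : Type*} [Group H] [Group K] [Finite H] [Finite K]
    (e : H ≃* K) : Nat.card (ConjClasses H) = Nat.card (ConjClasses K) := by
  apply le_antisymm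
  · exact Nat.card_le_card_of_surjective _
      (ConjClasses.map_surjective (f := e.symm.toMonoidHom) e.symm.surjective)
  · exact Nat.card_le_card_of_surjective _
      (ConjClasses.map_surjective (f := e.toMonoidHom) e.surjective)

omit [V.Normal] in
theorem card_conj_mem (S : Finset X)
    (hrep : ∀ v ∈ V, ∃! s, s ∈ S ∧ ∃ g ∈ G, g * v * g⁻¹ = s) (v : X) (hv : v ∈ V) :
    Nat.card {g : ↥G // (g : X) * v * (g : X)⁻¹ ∈ S} =
      Nat.card ↥(G ⊓ Subgroup.centralizer ({v} : Set X)) := by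
  obtain ⟨s₀, ⟨hs₀, g₀, hg₀, hg₀s⟩, huniq⟩ := hrep v hv
  refine Nat.card_congr
    { toFun := fun g => ⟨g₀⁻¹ * g.1, ?_⟩
      invFun := fun k => ⟨⟨g₀ * k.1, G.mul_mem hg₀ k.2.1⟩, ?_⟩
      left_inv := fun g => by ext; simp
      right_inv := fun k => by ext; simp }
  · refine ⟨G.mul_mem (G.inv_mem hg₀) g.1.2, ?_⟩
    have h1 : (g.1 : X) * v * (g.1 : X)⁻¹ = s₀ :=
      huniq _ ⟨g.2, g.1, g.1.2, rfl⟩
    show g₀⁻¹ * ↑↑g ∈ Subgroup.centralizer {v}
    rw [Subgroup.mem_centralizer_singleton_iff]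
    have h2 : (g.1 : X) * v * (g.1 : X)⁻¹ = g₀ * v * g₀⁻¹ := by rw [h1, hg₀s]
    calc g₀⁻¹ * ↑↑g * v = g₀⁻¹ * (↑↑g * v * (↑↑g)⁻¹) * ↑↑g := by group
      _ = g₀⁻¹ * (g₀ * v * g₀⁻¹) * ↑↑g := by rw [h2]
      _ = v * (g₀⁻¹ * ↑↑g) := by group
  · have h := Subgroup.mem_centralizer_singleton_iff.mp k.2.2
    show g₀ * ↑k * v * (g₀ * ↑k)⁻¹ ∈ S
    have : g₀ * ↑k * v * (g₀ * ↑k)⁻¹ = s₀ := by
      calc g₀ * ↑k * v * (g₀ * ↑k)⁻¹ = g₀ * (↑k * v) * (↑k)⁻¹ * g₀⁻¹ := by group
        _ = g₀ * (v * ↑k) * (↑k)⁻¹ * g₀⁻¹ := by rw [h]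
        _ = g₀ * v * g₀⁻¹ := by group
        _ = s₀ := hg₀s
    rw [this]; exact hs₀

theorem orbit_sum [Finite X] (S : Finset X) (hSV : ∀ s ∈ S, s ∈ V)
    (hrep : ∀ v ∈ V, ∃! s, s ∈ S ∧ ∃ g ∈ G, g * v * g⁻¹ = s) :
    ∑ᶠ v : ↥V, Nat.card (ConjClasses ↥(G ⊓ Subgroup.centralizer ({(v : X)} : Set X))) *
        Nat.card ↥(G ⊓ Subgroup.centralizer ({(v : X)} : Set X)) =
      Nat.card ↥G * ∑ s ∈ S, Nat.card (ConjClasses ↥(G ⊓ Subgroup.centralizer ({s} : Set X))) := by
  classical
  have := Fintype.ofFinite ↥V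
  have := Fintype.ofFinite ↥G
  rw [finsum_eq_sum_of_fintype]
  set K : X → ℕ := fun x => Nat.card (ConjClasses ↥(G ⊓ Subgroup.centralizer ({x} : Set X)))
    with hK
  have hKinv : ∀ g : ↥G, ∀ x : X, K ((g : X) * x * (g : X)⁻¹) = K x := by
    intro g x
    exact (card_conjClasses_congr (centConjEquiv G (g : X) g.2 x)).symm
  have h1 : ∀ v : ↥V, Nat.card ↥(G ⊓ Subgroup.centralizer ({(v : X)} : Set X)) =
      ∑ g : ↥G, if (g : X) * v * (g : X)⁻¹ ∈ S then 1 else 0 := by
    intro v
    rw [← card_conj_mem V G S hrep v v.2, Nat.card_eq_fintype_card, Fintype.card_subtype,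
      Finset.card_filter]
  calc ∑ v : ↥V, K v * Nat.card ↥(G ⊓ Subgroup.centralizer ({(v : X)} : Set X))
      = ∑ v : ↥V, ∑ g : ↥G, if (g : X) * v * (g : X)⁻¹ ∈ S then K v else 0 := by
        refine Finset.sum_congr rfl fun v _ => ?_
        rw [h1 v, Finset.mul_sum]
        refine Finset.sum_congr rfl fun g _ => ?_
        split_ifs <;> simp
    _ = ∑ g : ↥G, ∑ v : ↥V, if (g : X) * v * (g : X)⁻¹ ∈ S then K ((g : X) * v * (g : X)⁻¹) else 0 := by
        rw [Finset.sum_comm]
        refine Finset.sum_congr rfl fun g _ => Finset.sum_congr rfl fun v _ => ?_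
        rw [hKinv g v]
    _ = ∑ g : ↥G, ∑ w : ↥V, if (w : X) ∈ S then K w else 0 := by
        refine Finset.sum_congr rfl fun g _ => ?_
        exact Fintype.sum_equiv (MulAut.conjNormal (g : X) : ↥V ≃* ↥V).toEquiv _ _ fun v => rfl
    _ = Nat.card ↥G * ∑ w : ↥V, if (w : X) ∈ S then K w else 0 := by
        rw [Finset.sum_const, Finset.card_univ, smul_eq_mul, Nat.card_eq_fintype_card]
    _ = Nat.card ↥G * ∑ s ∈ S, K s := by
        congr 1
        rw [← Finset.sum_filter]
        refine Finset.sum_bij (fun w _ => (w : X)) ?_ ?_ ?_ ?_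
        · intro w hw; exact (Finset.mem_filter.mp hw).2
        · intro w _ w' _ h; exact Subtype.ext h
        · intro s hs; exact ⟨⟨s, hSV s hs⟩, Finset.mem_filter.mpr ⟨Finset.mem_univ _, hs⟩, rfl⟩
        · intro w _; rfl

theorem card_pairs_eq [Finite X] (v : ↥V) :
    Nat.card {q : ↥G × ↥G // Commute q.1 q.2 ∧
        MulAut.conjNormal (q.1 : X) v = v ∧ MulAut.conjNormal (q.2 : X) v = v} =
      Nat.card (ConjClasses ↥(G ⊓ Subgroup.centralizer ({(v : X)} : Set X))) *
        Nat.card ↥(G ⊓ Subgroup.centralizer ({(v : X)} : Set X)) := by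
  rw [← card_comm_eq_card_conjClasses_mul_card]
  have hmem : ∀ a : ↥G, MulAut.conjNormal (a : X) v = v →
      (a : X) ∈ G ⊓ Subgroup.centralizer ({(v : X)} : Set X) := by
    intro a ha
    refine ⟨a.2, ?_⟩
    show (a : X) ∈ Subgroup.centralizer {(v : X)}
    rw [Subgroup.mem_centralizer_singleton_iff]
    have h := congrArg Subtype.val ha
    rw [MulAut.conjNormal_apply] at h
    calc (a : X) * v = (a : X) * v * (a : X)⁻¹ * a := by group
      _ = v * a := by rw [h]
  have hfix : ∀ k : ↥(G ⊓ Subgroup.centralizer ({(v : X)} : Set X)),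
      MulAut.conjNormal (k : X) v = v := by
    intro k
    have h := Subgroup.mem_centralizer_singleton_iff.mp k.2.2
    apply Subtype.ext
    rw [MulAut.conjNormal_apply, h]
    group
  refine Nat.card_congr
    { toFun := fun q => ⟨(⟨q.1.1, hmem q.1.1 q.2.2.1⟩, ⟨q.1.2, hmem q.1.2 q.2.2.2⟩), ?_⟩
      invFun := fun p => ⟨(⟨p.1.1, p.1.1.2.1⟩, ⟨p.1.2, p.1.2.2.1⟩), ?_, hfix p.1.1, hfix p.1.2⟩
      left_inv := fun q => rfl
      right_inv := fun p => rfl }
  · have h := q.2.1.eq
    show (⟨(q.1.1 : X), _⟩ : ↥(G ⊓ Subgroup.centralizer ({(v : X)} : Set X))) * ⟨(q.1.2 : X), _⟩ =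
      ⟨(q.1.2 : X), _⟩ * ⟨(q.1.1 : X), _⟩
    apply Subtype.ext
    have h' := congrArg (Subtype.val : ↥G → X) h
    simpa using h'
  · have h := p.2.eq
    show (⟨(p.1.1 : X), _⟩ : ↥G) * ⟨(p.1.2 : X), _⟩ = ⟨(p.1.2 : X), _⟩ * ⟨(p.1.1 : X), _⟩
    apply Subtype.ext
    have h' := congrArg (Subtype.val : ↥(G ⊓ Subgroup.centralizer ({(v : X)} : Set X)) → X) h
    simpa using h'

end orbitpart

/-- Let X be a finite group, V an abelian normal subgroup of X (any two elements of V commute) and G a complement to V in X whose order is coprime to that of V. Let S be a set of representatives of the orbits of G on V under conjugation: S lies in V and every element of V is conjugate under G to exactly one member of S. Then the number of conjugacy classes of X equals the sum, over s in S, of the number of conjugacy classes of the centralizer of s in G. -/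
theorem result {X : Type*} [Group X] [Finite X] (V : Subgroup X) [V.Normal] (hab : ∀ a ∈ V, ∀ b ∈ V, a * b = b * a) (G : Subgroup X) (hGV : Subgroup.IsComplement' V G) (hcop : (Nat.card V).Coprime (Nat.card G)) (S : Finset X) (hSV : ∀ s ∈ S, s ∈ V) (hrep : ∀ v ∈ V, ∃! s, s ∈ S ∧ ∃ g ∈ G, g * v * g⁻¹ = s) : Nat.card (ConjClasses X) = ∑ s ∈ S, Nat.card (ConjClasses ↥(G ⊓ Subgroup.centralizer ({s} : Set X))) := by
  have h1 := card_commPairs V G hab hGV hcop
  rw [card_comm_eq_card_conjClasses_mul_card] at h1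
  have h2 : ∀ v : ↥V, Nat.card {q : ↥G × ↥G // Commute q.1 q.2 ∧
        MulAut.conjNormal (q.1 : X) v = v ∧ MulAut.conjNormal (q.2 : X) v = v} =
      Nat.card (ConjClasses ↥(G ⊓ Subgroup.centralizer ({(v : X)} : Set X))) *
        Nat.card ↥(G ⊓ Subgroup.centralizer ({(v : X)} : Set X)) := card_pairs_eq V G
  rw [finsum_congr h2, orbit_sum V G S hSV hrep, ← mul_assoc, hGV.card_mul_card, mul_comm] at h1
  exact Nat.eq_of_mul_eq_mul_left Nat.card_pos h1

end Cfsg.Agent.S4956
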