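import Cfsg.Statements.S4955
import Mathlib
import Cfsg.Agent.Lib.Helper75.Clifford3
import Cfsg.Agent.Lib.Helper77.Linear
import Cfsg.Agent.Lib.Helper76.Galois
import Cfsg.Agent.S4956

set_option autoImplicit false
open Cfsg

namespace Cfsg.Agent.S4955

set_option linter.unusedSectionVars false
set_option linter.style.haveILetI false
set_option linter.unusedVariables false

open Cfsg.Agent.Lib.Helper78 Cfsg.Agent.Lib.Helper75 Cfsg.Agent.Lib.Helper76
open IntermediateField Module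
open scoped ComplexConjugate



section galois

variable {G : Type*} [Group G]

/-- Every embedding `σ` of `ℚ(ζ_N)` into `ℂ` acts on all character values as `χ(g) ↦ χ(g ^ u)`
for a fixed `u` coprime to `N` (the same `u` for all representations). -/
theorem exists_pow_all (N : ℕ) (hN : 0 < N) (ζ : ℂ) (hζ : IsPrimitiveRoot ζ N)
    (σ : adjoin ℚ ({ζ} : Set ℂ) →ₐ[ℚ] ℂ) :
    ∃ u : ℕ, u.Coprime N ∧ ∀ (n : ℕ) (ρ : Representation ℂ G (Fin n → ℂ)) (g : G),
      g ^ N = 1 → ∀ h : ρ.character g ∈ adjoin ℚ ({ζ} : Set ℂ),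
      σ ⟨ρ.character g, h⟩ = ρ.character (g ^ u) := by
  have : NeZero N := ⟨hN.ne'⟩
  obtain ⟨ζK, hζK⟩ : ∃ z : adjoin ℚ ({ζ} : Set ℂ), (z : ℂ) = ζ :=
    ⟨⟨ζ, mem_adjoin_simple_self ℚ ζ⟩, rfl⟩
  have hζKprim : IsPrimitiveRoot ζK N := by
    have : IsPrimitiveRoot ((algebraMap (adjoin ℚ ({ζ} : Set ℂ)) ℂ) ζK) N := by
      rw [IntermediateField.algebraMap_apply, hζK]; exact hζ
    exact IsPrimitiveRoot.of_map_of_injective (f := algebraMap (adjoin ℚ ({ζ} : Set ℂ)) ℂ) this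
      (algebraMap (adjoin ℚ ({ζ} : Set ℂ)) ℂ).injective
  have hσprim : IsPrimitiveRoot (σ ζK) N := hζKprim.map_of_injective σ.injective
  obtain ⟨u, -, hu⟩ := hζ.eq_pow_of_pow_eq_one hσprim.pow_eq_one
  have hucop : u.Coprime N := by
    rw [← hζ.pow_iff_coprime hN u, hu]; exact hσprim
  refine ⟨u, hucop, fun n ρ g hg h => ?_⟩
  obtain ⟨μ, hμ, hk⟩ := exists_character_pow_eq_sum ρ g N hN hg
  have h1 := hk 1
  rw [pow_one] at h1
  choose a ha using fun i => hζ.eq_pow_of_pow_eq_one (hμ i)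
  have hsum : (⟨ρ.character g, h⟩ : adjoin ℚ ({ζ} : Set ℂ)) = ∑ i, ζK ^ a i := by
    apply Subtype.ext
    rw [AddSubmonoidClass.coe_finsetSum]
    change ρ.character g = _
    rw [h1]
    refine Finset.sum_congr rfl fun i _ => ?_
    simp [hζK, (ha i).2]
  rw [hsum, map_sum, hk u]
  refine Finset.sum_congr rfl fun i _ => ?_
  rw [map_pow, ← hu, ← (ha i).2, ← pow_mul, ← pow_mul, mul_comm]

theorem character_isIntegral {n : ℕ} (ρ : Representation ℂ G (Fin n → ℂ)) (g : G) (N : ℕ)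
    (hN : 0 < N) (hg : g ^ N = 1) : IsIntegral ℤ (ρ.character g) := by
  obtain ⟨μ, hμ, hk⟩ := exists_character_pow_eq_sum ρ g N hN hg
  have h1 := hk 1
  rw [pow_one] at h1
  rw [h1]
  refine IsIntegral.sum _ fun i _ => ?_
  rw [pow_one]
  exact IsIntegral.of_pow hN (by rw [hμ i]; exact isIntegral_one)

/-- Galois average: if `χ(g) ≠ 0` then the sum of `‖σ(χ(g))‖²` over all embeddings is at least
the number of embeddings. -/
theorem card_le_sum_embeddings {n : ℕ} (ρ : Representation ℂ G (Fin n → ℂ)) (g : G) (N : ℕ)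
    (hN : 0 < N) (hg : g ^ N = 1) (ζ : ℂ)
    [FiniteDimensional ℚ (adjoin ℚ ({ζ} : Set ℂ))]
    (hne : ρ.character g ≠ 0) (h : ρ.character g ∈ adjoin ℚ ({ζ} : Set ℂ)) :
    (Fintype.card (adjoin ℚ ({ζ} : Set ℂ) →ₐ[ℚ] ℂ) : ℝ) ≤
      ∑ σ : adjoin ℚ ({ζ} : Set ℂ) →ₐ[ℚ] ℂ, ‖σ ⟨ρ.character g, h⟩‖ ^ 2 := by
  apply card_le_sum_of_one_le_prod
  · intro σ; positivity
  · rw [Finset.prod_pow, ← norm_prod]
    have hne' : (⟨ρ.character g, h⟩ : adjoin ℚ ({ζ} : Set ℂ)) ≠ 0 := by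
      intro h0
      apply hne
      have := congrArg Subtype.val h0
      simpa using this
    have hint : IsIntegral ℤ ((⟨ρ.character g, h⟩ : adjoin ℚ ({ζ} : Set ℂ)) : ℂ) :=
      character_isIntegral ρ g N hN hg
    have := one_le_norm_prod_embeddings _ _ hint hne'
    exact one_le_pow₀ this

end galois





/-- `1/p` is not an algebraic integer, so `p` is not a unit of `AlgInt`. -/
theorem exists_modular (p : ℕ) (hp : p.Prime) :
    ∃ M : Ideal AlgInt, M.IsMaximal ∧ (p : AlgInt) ∈ M := by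
  have hne : Ideal.span {(p : AlgInt)} ≠ ⊤ := by
    intro htop
    have h1 : (1 : AlgInt) ∈ Ideal.span {(p : AlgInt)} := by rw [htop]; trivial
    obtain ⟨a, ha⟩ := Ideal.mem_span_singleton'.mp h1
    have ha' : (a : ℂ) * (p : ℂ) = 1 := by
      have := congrArg (fun x : AlgInt => (x : ℂ)) ha
      simpa using this
    have hp0 : (p : ℂ) ≠ 0 := by exact_mod_cast hp.ne_zero
    have haval : (a : ℂ) = algebraMap ℚ ℂ ((1 : ℚ) / (p : ℚ)) := by
      have : (a : ℂ) = 1 / (p : ℂ) := by field_simp; exact ha'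
      rw [this]; simp
    have hint : IsIntegral ℤ (a : ℂ) := a.2
    rw [haval] at hint
    have h2 : IsIntegral ℤ ((1 : ℚ) / (p : ℚ)) :=
      (isIntegral_algebraMap_iff (algebraMap ℚ ℂ).injective).mp hint
    obtain ⟨z, hz⟩ := IsIntegrallyClosed.isIntegral_iff.mp h2
    have hpq : (p : ℚ) ≠ 0 := by exact_mod_cast hp.ne_zero
    have h3 : (p : ℚ) * (z : ℚ) = 1 := by
      have : ((z : ℤ) : ℚ) = 1 / (p : ℚ) := by simpa using hz
      rw [this]; field_simp
    have h4 : (p : ℤ) * z = 1 := by exact_mod_cast h3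
    have h5 : (p : ℤ) ∣ 1 := ⟨z, h4.symm⟩
    have h6 : p ∣ 1 := by exact_mod_cast h5
    exact hp.one_lt.ne' (Nat.dvd_one.mp h6)
  obtain ⟨M, hM, hle⟩ := Ideal.exists_le_maximal _ hne
  exact ⟨M, hM, hle (Ideal.subset_span (Set.mem_singleton _))⟩

/-- A sum of `t` many `p`-power roots of unity with `p ∤ t` is nonzero. -/
theorem sum_roots_ne_zero (p : ℕ) (hp : p.Prime) {ι : Type*} (s : Finset ι) (μ : ι → ℂ) (a : ℕ)
    (hμ : ∀ i ∈ s, μ i ^ (p ^ a) = 1) (hs : ¬ p ∣ s.card) : ∑ i ∈ s, μ i ≠ 0 := by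
  classical
  obtain ⟨M, hM, hpM⟩ := exists_modular p hp
  haveI := hM
  letI : Field (AlgInt ⧸ M) := Ideal.Quotient.field M
  have hp0 : ((p : ℕ) : AlgInt ⧸ M) = 0 := by
    have : (Ideal.Quotient.mk M) (p : AlgInt) = 0 := Ideal.Quotient.eq_zero_iff_mem.mpr hpM
    simpa using this
  haveI : CharP (AlgInt ⧸ M) p := (CharP.charP_iff_prime_eq_zero hp).mpr hp0
  haveI : Fact p.Prime := ⟨hp⟩
  intro hsum
  have hpa : 0 < p ^ a := pow_pos hp.pos a
  have hint : ∀ i ∈ s, IsIntegral ℤ (μ i) := fun i hi =>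
    IsIntegral.of_pow hpa (by rw [hμ i hi]; exact isIntegral_one)
  -- lift to AlgInt
  let m : ι → AlgInt := fun i => if hi : i ∈ s then ⟨μ i, hint i hi⟩ else 0
  have hm : ∀ i ∈ s, ((m i : AlgInt) : ℂ) = μ i := by
    intro i hi
    simp [m, hi]
  have hsum' : ∑ i ∈ s, m i = 0 := by
    apply Subtype.ext
    rw [AddSubmonoidClass.coe_finsetSum]
    rw [Finset.sum_congr rfl hm, hsum]
    rfl
  have hone : ∀ i ∈ s, (Ideal.Quotient.mk M) (m i) = 1 := by
    intro i hi
    have h1 : (m i) ^ (p ^ a) = 1 := by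
      apply Subtype.ext
      show ((m i : AlgInt) : ℂ) ^ (p ^ a) = 1
      rw [hm i hi, hμ i hi]
    have h2 : ((Ideal.Quotient.mk M) (m i)) ^ (p ^ a) = 1 := by
      rw [← map_pow, h1, map_one]
    have h3 : ((Ideal.Quotient.mk M) (m i) - 1) ^ (p ^ a) = 0 := by
      rw [sub_pow_char_pow, h2, one_pow, sub_self]
    exact sub_eq_zero.mp (pow_eq_zero_iff (pow_pos hp.pos a).ne' |>.mp h3)
  have h4 : (Ideal.Quotient.mk M) (∑ i ∈ s, m i) = (s.card : AlgInt ⧸ M) := by
    rw [map_sum, Finset.sum_congr rfl hone, Finset.sum_const, nsmul_eq_mul, mul_one]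
  rw [hsum', map_zero] at h4
  exact hs ((CharP.cast_eq_zero_iff (AlgInt ⧸ M) p s.card).mp h4.symm)





/-- Irreducible characters of a finite abelian group have degree one. -/
theorem irr_abelian_apply_one {A : Type*} [Group A] [Finite A] (hab : ∀ a b : A, a * b = b * a)
    (φ : IrrCharacter A) : (φ : A → ℂ) 1 = 1 := by
  classical
  haveI := Fintype.ofFinite A
  letI : CommGroup A := { (inferInstance : Group A) with mul_comm := hab }
  have h1 : ∑ χ : IrrCharacter A, (charDegree (χ : A → ℂ)) ^ 2 = Nat.card A :=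
    sum_irr_charDegree_sq
  have h2 : Nat.card (IrrCharacter A) = Nat.card A := by
    rw [card_irrCharacter]
    exact (Nat.card_congr (ConjClasses.mkEquiv (α := A))).symm
  have h3 : ∑ _χ : IrrCharacter A, 1 = Nat.card A := by
    rw [Finset.sum_const, Finset.card_univ, smul_eq_mul, mul_one, ← Nat.card_eq_fintype_card, h2]
  have hle : ∀ χ ∈ (Finset.univ : Finset (IrrCharacter A)),
      1 ≤ (charDegree (χ : A → ℂ)) ^ 2 := fun χ _ =>
    Nat.one_le_pow _ _ (IsIrrCharacter.charDegree_pos χ.2)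
  have h4 := (Finset.sum_eq_sum_iff_of_le hle).mp (h3.trans h1.symm)
  have h5 : (charDegree (φ : A → ℂ)) ^ 2 = 1 := (h4 φ (Finset.mem_univ _)).symm
  have h6 : charDegree (φ : A → ℂ) = 1 := by
    have := IsIrrCharacter.charDegree_pos φ.2
    nlinarith
  rw [IsCharacter.apply_one_eq_charDegree (IsIrrCharacter.isCharacter φ.2), h6, Nat.cast_one]

/-- Values of irreducible characters of a finite abelian group are roots of unity. -/
theorem irr_abelian_pow_card {A : Type*} [Group A] [Finite A] (hab : ∀ a b : A, a * b = b * a)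
    (φ : IrrCharacter A) (a : A) : (φ : A → ℂ) a ^ Nat.card A = 1 := by
  obtain ⟨ψ, hψ⟩ := Cfsg.Agent.Lib.Helper77.exists_monoidHom_of_degree_one
    (IsIrrCharacter.isCharacter φ.2) (irr_abelian_apply_one hab φ)
  rw [hψ a, ← Units.val_pow_eq_pow_val, ← map_pow, pow_card_eq_one', map_one, Units.val_one]







universe u

/-- Irreducible characters of `X` do not vanish on an abelian normal Sylow `p`-subgroup. -/
theorem char_ne_zero {X : Type u} [Group X] [Fintype X] (p : ℕ) [Fact p.Prime] (V : Subgroup X)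
    [V.Normal] (hVp : IsPGroup p V) (hidx : ¬ p ∣ V.index)
    (hab : ∀ a ∈ V, ∀ b ∈ V, a * b = b * a) {χ : X → ℂ} (hχ : IsIrrCharacter X χ)
    (v : X) (hv : v ∈ V) : χ v ≠ 0 := by
  classical
  haveI : Fintype V := Fintype.ofFinite V
  have hcl : IsClassFunction X χ := IsCharacter.isClassFunction (IsIrrCharacter.isCharacter hχ)
  obtain ⟨θ, hθ⟩ := exists_constituent_res V hχ
  have hcliff := clifford_finset V hχ θ.2 hθ
  -- the orbit is the set of constituents
  have horb : conjOrbit V (θ : V → ℂ) =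
      Finset.univ.filter (fun φ : IrrCharacter V =>
        classInner (fun n : V => χ n) (φ : V → ℂ) ≠ 0) := by
    ext φ
    rw [mem_conjOrbit, Finset.mem_filter]
    constructor
    · rintro ⟨g, hg⟩
      refine ⟨Finset.mem_univ _, ?_⟩
      rw [← hg, classInner_res_conjFun V hcl]
      exact hθ
    · rintro ⟨_, hφ⟩
      exact clifford_conj V hχ θ.2 φ.2 hθ hφ
  have hcard : (conjOrbit V (θ : V → ℂ)).card ∣ V.index := by
    have h := card_constituents_dvd_index V hχ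
    rw [Nat.card_eq_fintype_card, Fintype.card_subtype] at h
    rw [horb]
    exact h
  have hnd : ¬ p ∣ (conjOrbit V (θ : V → ℂ)).card := fun h => hidx (h.trans hcard)
  -- value at v
  have hval : χ v = classInner (fun n : V => χ n) (θ : V → ℂ) *
      ∑ φ ∈ conjOrbit V (θ : V → ℂ), (φ : V → ℂ) ⟨v, hv⟩ := by
    have := congrFun hcliff ⟨v, hv⟩
    simp only [Pi.smul_apply, Finset.sum_apply, smul_eq_mul] at this
    exact this
  rw [hval]
  apply mul_ne_zero hθ
  obtain ⟨a, ha⟩ := (IsPGroup.iff_card.mp hVp)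
  have habV : ∀ a b : V, a * b = b * a := fun a b => Subtype.ext (hab a a.2 b b.2)
  apply sum_roots_ne_zero p (Fact.out) _ _ a _ hnd
  intro φ _
  rw [← ha]
  exact irr_abelian_pow_card habV φ ⟨v, hv⟩




theorem card_centralizer_eq {X : Type*} [Group X] [Finite X] (V : Subgroup X)
    (hab : ∀ a ∈ V, ∀ b ∈ V, a * b = b * a) (G : Subgroup X)
    (hGV : Subgroup.IsComplement' V G) (v : X) (hv : v ∈ V) :
    Nat.card (Subgroup.centralizer ({v} : Set X)) =
      Nat.card ↥(G ⊓ Subgroup.centralizer ({v} : Set X)) * Nat.card V := by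
  set C := Subgroup.centralizer ({v} : Set X) with hC
  have hVC : V ≤ C := by
    intro a ha
    rw [hC, Subgroup.mem_centralizer_singleton_iff]
    exact hab a ha v hv
  let f : V × ↥(G ⊓ C) → C := fun x => ⟨x.1.1 * x.2.1, C.mul_mem (hVC x.1.2) x.2.2.2⟩
  have hbij : Function.Bijective f := by
    constructor
    · intro x y hxy
      have h1 : x.1.1 * x.2.1 = y.1.1 * y.2.1 := congrArg Subtype.val hxy
      have h2 := hGV.1 (a₁ := (x.1, ⟨x.2.1, x.2.2.1⟩)) (a₂ := (y.1, ⟨y.2.1, y.2.2.1⟩)) h1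
      have h3 : x.1 = y.1 := (Prod.ext_iff.mp h2).1
      have h4 : x.2.1 = y.2.1 := by
        have h5 := (Prod.ext_iff.mp h2).2
        simp only at h5
        exact Subtype.mk.inj h5
      exact Prod.ext h3 (Subtype.ext h4)
    · intro c
      obtain ⟨⟨a, g⟩, hag⟩ := hGV.2 c.1
      simp only at hag
      have hg : (g : X) ∈ C := by
        have : (g : X) = (a : X)⁻¹ * c.1 := by rw [← hag]; group
        rw [this]
        exact C.mul_mem (C.inv_mem (hVC a.2)) c.2
      exact ⟨(a, ⟨g.1, g.2, hg⟩), Subtype.ext hag⟩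
  rw [← Nat.card_congr (Equiv.ofBijective f hbij), Nat.card_prod, mul_comm]






section pieces

variable {X : Type u} [Group X] [Fintype X]

/-- second orthogonality at a coprime power of `v` -/
theorem sum_norm_sq_pow (v : X) (k : ℕ) (hk : k.Coprime (Fintype.card X)) :
    ∑ χ : IrrCharacter X, ‖(χ : X → ℂ) (v ^ k)‖ ^ 2 =
      (Nat.card (Subgroup.centralizer ({v} : Set X)) : ℝ) := by
  have h1 := second_orthogonality_of_isConj (G := X) (IsConj.refl (v ^ k))
  have hcent : Subgroup.centralizer ({v ^ k} : Set X) = Subgroup.centralizer ({v} : Set X) := by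
    ext x
    rw [Subgroup.mem_centralizer_singleton_iff, Subgroup.mem_centralizer_singleton_iff]
    constructor
    · intro h
      have hc : (Nat.card X).Coprime k := by
        rw [Nat.card_eq_fintype_card]; exact hk.symm
      have h2 : (v ^ k) ^ ((Nat.card X).gcdB k) = v := (powCoprime hc).left_inv v
      have h3 : Commute x (v ^ k) := h
      have h4 : Commute x ((v ^ k) ^ ((Nat.card X).gcdB k)) := h3.zpow_right _
      rw [h2] at h4
      exact h4.eq
    · intro h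
      have h3 : Commute x v := h
      exact (h3.pow_right k).eq
  rw [hcent] at h1
  have h2 : ∀ χ : IrrCharacter X, (χ : X → ℂ) (v ^ k) * conj ((χ : X → ℂ) (v ^ k)) =
      ((‖(χ : X → ℂ) (v ^ k)‖ ^ 2 : ℝ) : ℂ) := by
    intro χ
    rw [Complex.mul_conj']
    push_cast; rfl
  simp_rw [h2] at h1
  have h3 : ((∑ χ : IrrCharacter X, ‖(χ : X → ℂ) (v ^ k)‖ ^ 2 : ℝ) : ℂ) =
      ((Nat.card (Subgroup.centralizer ({v} : Set X)) : ℝ) : ℂ) := by
    push_cast
    simpa using h1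
  exact_mod_cast h3

end pieces






section pieces

variable {G : Type*} [Group G]



variable {X : Type u} [Group X] [Fintype X]



/-- The main inequality, in terms of `X ⧸ V`. -/
theorem main_ineq (p : ℕ) [Fact p.Prime] (V : Subgroup X)
    [V.Normal] (hVp : IsPGroup p V) (hidx : ¬ p ∣ V.index)
    (hab : ∀ a ∈ V, ∀ b ∈ V, a * b = b * a) (v : X) (hv : v ∈ V) :
    (Nat.card (X ⧸ V) : ℝ) + ((Nat.card (IrrCharacter X) : ℝ) -
      (Nat.card (IrrCharacter (X ⧸ V)) : ℝ)) ≤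
      (Nat.card (Subgroup.centralizer ({v} : Set X)) : ℝ) := by
  classical
  haveI : Fintype (X ⧸ V) := Fintype.ofFinite _
  set N := Fintype.card X with hNdef
  have hN : 0 < N := Fintype.card_pos
  have hG : ∀ g : X, g ^ N = 1 := fun g => pow_card_eq_one
  set ζ : ℂ := Complex.exp (2 * Real.pi * Complex.I / (N : ℂ)) with hζdef
  have hζ : IsPrimitiveRoot ζ N := Complex.isPrimitiveRoot_exp N hN.ne'
  have hζint : IsIntegral ℚ ζ := (hζ.isIntegral hN).tower_top
  haveI hfd : FiniteDimensional ℚ (adjoin ℚ ({ζ} : Set ℂ)) := adjoin.finiteDimensional hζint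
  choose u hucop hu using fun σ : adjoin ℚ ({ζ} : Set ℂ) →ₐ[ℚ] ℂ =>
    exists_pow_all (G := X) N hN ζ hζ σ
  set E : ℝ := (Fintype.card (adjoin ℚ ({ζ} : Set ℂ) →ₐ[ℚ] ℂ) : ℝ) with hE
  have hEpos : 0 < E := by
    have : Nonempty (adjoin ℚ ({ζ} : Set ℂ) →ₐ[ℚ] ℂ) := ⟨(adjoin ℚ ({ζ} : Set ℂ)).val⟩
    rw [hE]
    exact_mod_cast Fintype.card_pos
  -- the per-character Galois sums
  let S : IrrCharacter X → ℝ := fun χ =>
    ∑ σ : adjoin ℚ ({ζ} : Set ℂ) →ₐ[ℚ] ℂ, ‖(χ : X → ℂ) (v ^ u σ)‖ ^ 2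
  -- total
  have htotal : ∑ χ : IrrCharacter X, S χ =
      E * (Nat.card (Subgroup.centralizer ({v} : Set X)) : ℝ) := by
    show ∑ χ : IrrCharacter X, ∑ σ : adjoin ℚ ({ζ} : Set ℂ) →ₐ[ℚ] ℂ,
      ‖(χ : X → ℂ) (v ^ u σ)‖ ^ 2 = _
    rw [Finset.sum_comm]
    simp_rw [fun σ => sum_norm_sq_pow v (u σ) (hucop σ)]
    rw [Finset.sum_const, Finset.card_univ, nsmul_eq_mul]
  -- lemma A
  have hA : ∀ χ : IrrCharacter X, E ≤ S χ := by
    intro χ
    obtain ⟨n, ρ, hirr, hρ⟩ := χ.2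
    have hne : ρ.character v ≠ 0 := by
      rw [hρ]; exact char_ne_zero p V hVp hidx hab χ.2 v hv
    have hmem : ρ.character v ∈ adjoin ℚ ({ζ} : Set ℂ) :=
      character_mem_adjoin ρ N hN ζ hζ v (hG v)
    have h1 := card_le_sum_embeddings ρ v N hN (hG v) ζ hne hmem
    have h2 : ∀ σ : adjoin ℚ ({ζ} : Set ℂ) →ₐ[ℚ] ℂ,
        ‖σ ⟨ρ.character v, hmem⟩‖ ^ 2 = ‖(χ : X → ℂ) (v ^ u σ)‖ ^ 2 := by
      intro σ
      rw [hu σ n ρ v (hG v) hmem, hρ]
    rw [Finset.sum_congr rfl (fun σ _ => h2 σ)] at h1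
    exact h1
  -- lemma B
  have hB : ∀ χ : IrrCharacter X, (∀ n ∈ V, (χ : X → ℂ) n = (χ : X → ℂ) 1) →
      S χ = E * ‖(χ : X → ℂ) 1‖ ^ 2 := by
    intro χ hχ
    show ∑ σ : adjoin ℚ ({ζ} : Set ℂ) →ₐ[ℚ] ℂ, ‖(χ : X → ℂ) (v ^ u σ)‖ ^ 2 = _
    have : ∀ σ : adjoin ℚ ({ζ} : Set ℂ) →ₐ[ℚ] ℂ,
        ‖(χ : X → ℂ) (v ^ u σ)‖ ^ 2 = ‖(χ : X → ℂ) 1‖ ^ 2 := by
      intro σ
      rw [hχ _ (V.pow_mem hv _)]
    rw [Finset.sum_congr rfl (fun σ _ => this σ), Finset.sum_const, Finset.card_univ, nsmul_eq_mul]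
  -- the characters with V in the kernel
  set F₀ : Finset (IrrCharacter X) :=
    Finset.univ.filter (fun χ : IrrCharacter X => ∀ n ∈ V, (χ : X → ℂ) n = (χ : X → ℂ) 1) with hF₀
  have hsumF₀ : ∑ χ ∈ F₀, ‖(χ : X → ℂ) 1‖ ^ 2 = (Nat.card (X ⧸ V) : ℝ) := by
    have h1 : ∑ χ ∈ F₀, ‖(χ : X → ℂ) 1‖ ^ 2 =
        ∑ x : {χ : IrrCharacter X // ∀ n ∈ V, (χ : X → ℂ) n = (χ : X → ℂ) 1},
          ‖(x.1 : X → ℂ) 1‖ ^ 2 := by
      rw [hF₀]
      exact (Finset.sum_subtype _ (fun χ => by simp) _)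
    rw [h1, ← Fintype.sum_equiv (Cfsg.Agent.Lib.Helper77.irrQuotientEquiv V)
      (fun χ' : IrrCharacter (X ⧸ V) => ‖(χ' : X ⧸ V → ℂ) 1‖ ^ 2) _ (fun χ' => rfl)]
    have h2 := sum_norm_sq_pow (1 : X ⧸ V) 1 (Nat.coprime_one_left _)
    simp only [one_pow] at h2
    rw [h2]
    have hc : Subgroup.centralizer ({1} : Set (X ⧸ V)) = ⊤ := by
      ext x; simp [Subgroup.mem_centralizer_iff]
    rw [hc, Subgroup.card_top]
  have hcardF₀ : (F₀.card : ℝ) = (Nat.card (IrrCharacter (X ⧸ V)) : ℝ) := by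
    have h1 : F₀.card =
        Fintype.card {χ : IrrCharacter X // ∀ n ∈ V, (χ : X → ℂ) n = (χ : X → ℂ) 1} := by
      rw [hF₀, Fintype.card_subtype]
    rw [h1, ← Fintype.card_congr (Cfsg.Agent.Lib.Helper77.irrQuotientEquiv V),
      Nat.card_eq_fintype_card]
  -- combine
  have hsplit : ∑ χ : IrrCharacter X, S χ = ∑ χ ∈ F₀, S χ + ∑ χ ∈ F₀ᶜ, S χ :=
    (Finset.sum_add_sum_compl F₀ S).symm
  have h1 : ∑ χ ∈ F₀, S χ = E * (Nat.card (X ⧸ V) : ℝ) := by
    rw [← hsumF₀, Finset.mul_sum]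
    refine Finset.sum_congr rfl fun χ hχ => ?_
    exact hB χ (Finset.mem_filter.mp hχ).2
  have h2 : E * ((Nat.card (IrrCharacter X) : ℝ) - (Nat.card (IrrCharacter (X ⧸ V)) : ℝ)) ≤
      ∑ χ ∈ F₀ᶜ, S χ := by
    have h3 : ∑ _χ ∈ F₀ᶜ, E ≤ ∑ χ ∈ F₀ᶜ, S χ := Finset.sum_le_sum fun χ _ => hA χ
    rw [Finset.sum_const, nsmul_eq_mul, Finset.card_compl, Nat.cast_sub (Finset.card_le_univ _),
      hcardF₀, ← Nat.card_eq_fintype_card, mul_comm] at h3
    exact h3
  have h4 : E * ((Nat.card (X ⧸ V) : ℝ) + ((Nat.card (IrrCharacter X) : ℝ) -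
      (Nat.card (IrrCharacter (X ⧸ V)) : ℝ))) ≤
      E * (Nat.card (Subgroup.centralizer ({v} : Set X)) : ℝ) := by
    rw [← htotal, hsplit, h1, mul_add]
    linarith
  exact le_of_mul_le_mul_left h4 hEpos

end pieces



/-- Let X be a finite group with an abelian normal Sylow p-subgroup V (a normal p-subgroup of index prime to p in which any two elements commute), and let G be a complement to V in X. Then for every v in V, writing C for the centralizer of v in G, the number k(X) of conjugacy classes of X satisfies k(X) ≤ (order of C)·(order of V) − ((order of G) − k(G)); the statement is written with the subtracted term moved to the left. In particular, if some v in V is centralized by no nonidentity element of G, then k(X) is at most the order of V. -/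
theorem result {X : Type*} [Group X] [Finite X] (p : ℕ) [Fact p.Prime] (V : Subgroup X) [V.Normal] (hVp : IsPGroup p V) (hidx : ¬ p ∣ V.index) (hab : ∀ a ∈ V, ∀ b ∈ V, a * b = b * a) (G : Subgroup X) (hGV : Subgroup.IsComplement' V G) (v : X) (hv : v ∈ V) : Nat.card (ConjClasses X) + Nat.card G ≤ Nat.card ↥(G ⊓ Subgroup.centralizer ({v} : Set X)) * Nat.card V + Nat.card (ConjClasses G) := by
  classical
  haveI : Fintype X := Fintype.ofFinite X
  have hmain := main_ineq p V hVp hidx hab v hv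
  have h1 : Nat.card (X ⧸ V) = Nat.card G := by
    rw [← Subgroup.index_eq_card]
    exact hGV.symm.index_eq_card
  have h2 : Nat.card (IrrCharacter X) = Nat.card (ConjClasses X) := card_irrCharacter
  have h3 : Nat.card (IrrCharacter (X ⧸ V)) = Nat.card (ConjClasses G) := by
    haveI : Fintype (X ⧸ V) := Fintype.ofFinite _
    rw [card_irrCharacter]
    exact Cfsg.Agent.S4956.card_conjClasses_congr hGV.symm.QuotientMulEquiv
  have h4 := card_centralizer_eq V hab G hGV v hv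
  rw [h1, h2, h3, h4] at hmain
  have h5 : ((Nat.card (ConjClasses X) + Nat.card G : ℕ) : ℝ) ≤
      ((Nat.card ↥(G ⊓ Subgroup.centralizer ({v} : Set X)) * Nat.card V +
        Nat.card (ConjClasses G) : ℕ) : ℝ) := by
    push_cast at hmain ⊢
    linarith
  exact_mod_cast h5

end Cfsg.Agent.S4955
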