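import Cfsg.Statements.S0861
import Cfsg.Agent.S4955

set_option autoImplicit false
open Cfsg

namespace Cfsg.Agent.S0861

/-- Let P be a normal abelian Sylow p-subgroup of the finite group G and suppose some element g of P has centralizer exactly P. Then the number of irreducible characters of G is at most the order of P, and if equality holds then G / P is abelian (the commutator subgroup lies in P). -/
theorem result {G : Type*} [Group G] [Finite G] (p : ℕ) [Fact p.Prime] (P : Sylow p G) [(P : Subgroup G).Normal] (hab : ∀ a ∈ P, ∀ b ∈ P, a * b = b * a) (g : G) (hg : g ∈ P) (hC : Subgroup.centralizer ({g} : Set G) = P) : Nat.card (Cfsg.IrrCharacter G) ≤ Nat.card P ∧ (Nat.card (Cfsg.IrrCharacter G) = Nat.card P → commutator G ≤ P) := by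
  classical
  haveI : Fintype G := Fintype.ofFinite G
  haveI : Fintype (G ⧸ (P : Subgroup G)) := Fintype.ofFinite _
  have hVp : IsPGroup p (P : Subgroup G) := P.isPGroup'
  have hidx : ¬ p ∣ (P : Subgroup G).index := P.not_dvd_index
  have hmain := Cfsg.Agent.S4955.main_ineq p (P : Subgroup G) hVp hidx hab g hg
  rw [hC] at hmain
  have h3 : Nat.card (Cfsg.IrrCharacter (G ⧸ (P : Subgroup G))) =
      Nat.card (ConjClasses (G ⧸ (P : Subgroup G))) :=
    Cfsg.Agent.Lib.Helper78.card_irrCharacter
  have h4 : Nat.card (ConjClasses (G ⧸ (P : Subgroup G))) ≤ Nat.card (G ⧸ (P : Subgroup G)) :=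
    Nat.card_le_card_of_surjective ConjClasses.mk ConjClasses.mk_surjective
  rw [h3] at hmain
  have h4' : (Nat.card (ConjClasses (G ⧸ (P : Subgroup G))) : ℝ) ≤
      (Nat.card (G ⧸ (P : Subgroup G)) : ℝ) := by exact_mod_cast h4
  constructor
  · have h5 : (Nat.card (Cfsg.IrrCharacter G) : ℝ) ≤ (Nat.card (P : Subgroup G) : ℝ) := by
      linarith
    exact_mod_cast h5
  · intro heq
    have heq' : (Nat.card (Cfsg.IrrCharacter G) : ℝ) = (Nat.card (P : Subgroup G) : ℝ) := by
      exact_mod_cast heq
    have h6 : (Nat.card (G ⧸ (P : Subgroup G)) : ℝ) ≤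
        (Nat.card (ConjClasses (G ⧸ (P : Subgroup G))) : ℝ) := by linarith
    have h7 : Nat.card (G ⧸ (P : Subgroup G)) ≤ Nat.card (ConjClasses (G ⧸ (P : Subgroup G))) := by
      exact_mod_cast h6
    have h8 : Nat.card (G ⧸ (P : Subgroup G)) = Nat.card (ConjClasses (G ⧸ (P : Subgroup G))) :=
      le_antisymm h7 h4
    -- `ConjClasses.mk` is then injective
    have hinj : Function.Injective (ConjClasses.mk : G ⧸ (P : Subgroup G) → _) := by
      have hb : Function.Bijective (ConjClasses.mk : G ⧸ (P : Subgroup G) → _) := by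
        rw [Nat.bijective_iff_surjective_and_card]
        exact ⟨ConjClasses.mk_surjective, h8⟩
      exact hb.1
    have hcomm : ∀ a b : G ⧸ (P : Subgroup G), a * b = b * a := by
      intro a b
      have h9 : ConjClasses.mk (b * a * b⁻¹) = ConjClasses.mk a := by
        rw [ConjClasses.mk_eq_mk_iff_isConj]
        exact (isConj_iff.mpr ⟨b, rfl⟩).symm
      have h10 := hinj h9
      calc a * b = (b * a * b⁻¹) * b := by rw [h10]
        _ = b * a := by group
    letI : CommGroup (G ⧸ (P : Subgroup G)) :=
      { (inferInstance : Group (G ⧸ (P : Subgroup G))) with mul_comm := hcomm }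
    have h11 := Abelianization.commutator_subset_ker (QuotientGroup.mk' (P : Subgroup G))
    rw [QuotientGroup.ker_mk'] at h11
    exact h11

end Cfsg.Agent.S0861
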