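import Cfsg.Statements.S0869
import Mathlib.GroupTheory.Archimedean
import Mathlib.Tactic
-- import your own Cfsg.Agent.* helpers here

set_option autoImplicit false
open Cfsg

namespace Cfsg.Agent.S0869

/-- Let S be a nonempty finite type and R an additive subgroup of the integer-valued functions on S that is closed under pointwise multiplication. If the constant function 1 is not in R, then there exist a point x of S and a prime p such that p divides f x for every f in R. -/
theorem result {S : Type*} [Finite S] [Nonempty S] (R : AddSubgroup (S → ℤ)) (hmul : ∀ f ∈ R, ∀ g ∈ R, f * g ∈ R) (h1 : (1 : S → ℤ) ∉ R) : ∃ (x : S) (p : ℕ), p.Prime ∧ ∀ f ∈ R, (p : ℤ) ∣ f x := by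
  classical
  have := Fintype.ofFinite S
  by_contra hcon
  push Not at hcon
  -- for every point there is a member of `R` taking the value `1` there
  have hex : ∀ x : S, ∃ f ∈ R, f x = 1 := by
    intro x
    let I : AddSubgroup ℤ := R.map (Pi.evalAddMonoidHom (fun _ : S => ℤ) x)
    obtain ⟨n, hn⟩ := Int.subgroup_cyclic I
    have hmemI : ∀ f ∈ R, f x ∈ I := fun f hf => ⟨f, hf, rfl⟩
    have hdvd : ∀ f ∈ R, n ∣ f x := by
      intro f hf
      have := hmemI f hf
      rw [hn, ← AddSubgroup.zmultiples_eq_closure, Int.mem_zmultiples_iff] at this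
      exact this
    by_cases hunit : n.natAbs = 1
    · have hnI : n ∈ I := by
        rw [hn]; exact AddSubgroup.subset_closure (Set.mem_singleton n)
      obtain ⟨f, hf, hfx⟩ := hnI
      rcases Int.natAbs_eq n with h | h
      · refine ⟨f, hf, ?_⟩
        have : f x = n := hfx
        rw [this, h, hunit]; rfl
      · refine ⟨-f, R.neg_mem hf, ?_⟩
        have : f x = n := hfx
        show -(f x) = 1
        rw [this, h, hunit]; simp
    · exfalso
      obtain ⟨p, hp, hpn⟩ := Nat.exists_prime_and_dvd hunit
      obtain ⟨f, hf, hfx⟩ := hcon x p hp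
      apply hfx
      have h2 : (p : ℤ) ∣ n := by
        rw [← Int.natAbs_dvd_natAbs]; simpa using hpn
      exact h2.trans (hdvd f hf)
  choose F hFR hF1 using hex
  have hprod : ∀ T : Finset S, (∏ x ∈ T, (1 - F x)) - 1 ∈ R := by
    intro T
    induction T using Finset.induction_on with
    | empty => simp
    | insert a T ha ih =>
      rw [Finset.prod_insert ha]
      have : (1 - F a) * ∏ x ∈ T, (1 - F x) - 1
          = ((∏ x ∈ T, (1 - F x)) - 1) - F a - F a * ((∏ x ∈ T, (1 - F x)) - 1) := by ring
      rw [this]
      exact R.sub_mem (R.sub_mem ih (hFR a)) (hmul _ (hFR a) _ ih)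
  have hzero : (∏ x ∈ (Finset.univ : Finset S), (1 - F x)) = 0 := by
    funext y
    rw [Finset.prod_apply]
    apply Finset.prod_eq_zero (Finset.mem_univ y)
    simp [hF1 y]
  have := hprod Finset.univ
  rw [hzero, zero_sub] at this
  exact h1 (by simpa using R.neg_mem this)

end Cfsg.Agent.S0869
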