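import Cfsg.Statements.S0870
import Mathlib
import Cfsg.Agent.Lib.Helper15.PermChar
-- import your own Cfsg.Agent.* helpers here

set_option autoImplicit false
open Cfsg

namespace Cfsg.Agent.S0870

open Cfsg.Agent.Lib.Helper15

/-- Sum of an invariant function over a finite `Γ`-set, grouped by orbits. -/
theorem sum_eq_sum_orbits {Γ X M : Type*} [Group Γ] [MulAction Γ X] [Fintype X] [AddCommMonoid M]
    [Fintype (MulAction.orbitRel.Quotient Γ X)]
    (f : X → M) (hf : ∀ (γ : Γ) (x : X), f (γ • x) = f x) :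
    ∑ x : X, f x = ∑ O : MulAction.orbitRel.Quotient Γ X,
      (MulAction.orbit Γ (Quotient.out O)).ncard • f (Quotient.out O) := by
  classical
  rw [← Finset.sum_fiberwise (Finset.univ : Finset X)
    (fun x => (Quotient.mk'' x : MulAction.orbitRel.Quotient Γ X)) f]
  apply Finset.sum_congr rfl
  intro O _
  have h1 : ∀ x ∈ Finset.filter (fun x => (Quotient.mk'' x : MulAction.orbitRel.Quotient Γ X) = O) Finset.univ,
      f x = f (Quotient.out O) := by
    intro x hx
    rw [Finset.mem_filter] at hx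
    have h2 : (Quotient.mk'' x : MulAction.orbitRel.Quotient Γ X) = Quotient.mk'' (Quotient.out O) := by
      rw [hx.2, Quotient.out_eq']
    have h3 : x ∈ MulAction.orbit Γ (Quotient.out O) := by
      rw [← MulAction.orbitRel_apply]
      exact Quotient.exact' h2
    obtain ⟨γ, rfl⟩ := h3
    exact hf γ _
  rw [Finset.sum_congr rfl h1, Finset.sum_const]
  congr 1
  rw [← Set.ncard_coe_finset]
  congr 1
  ext x
  simp only [Finset.coe_filter, Finset.mem_univ, true_and, Set.mem_ofPred_eq]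
  rw [← MulAction.orbitRel_apply]
  constructor
  · intro hx
    apply Quotient.exact'
    rw [hx, Quotient.out_eq']
  · intro hx
    have := Quotient.sound' hx
    rw [this, Quotient.out_eq']

section
variable {G : Type*} [Group G] (H K : Subgroup G)

/-- The subgroup `H ∩ Stab(ω)` for a coset `ω ∈ G/K`. -/
def stabIn (ω : G ⧸ K) : Subgroup G := H ⊓ MulAction.stabilizer G ω

theorem stabIn_le (ω : G ⧸ K) : stabIn H K ω ≤ H := inf_le_left

theorem mem_stabIn (ω : G ⧸ K) (y : G) : y ∈ stabIn H K ω ↔ y ∈ H ∧ y • ω = ω := by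
  unfold stabIn
  rw [Subgroup.mem_inf, MulAction.mem_stabilizer_iff]

/-- pairs bijection -/
theorem card_pairs [Finite G] (g : G) :
    Nat.card {x : G // x⁻¹ * g * x ∈ H} * Nat.card {ω : G ⧸ K // g • ω = ω}
      = Nat.card (Σ ω : G ⧸ K, {x : G // x⁻¹ * g * x ∈ stabIn H K ω}) := by
  rw [← Nat.card_prod]
  apply Nat.card_congr
  refine
    { toFun := fun p => ⟨p.1.1⁻¹ • p.2.1, p.1.1, ?_⟩
      invFun := fun s => (⟨s.2.1, ((mem_stabIn H K _ _).1 s.2.2).1⟩, ⟨s.2.1 • s.1, ?_⟩)
      left_inv := ?_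
      right_inv := ?_ }
  · rw [mem_stabIn]
    refine ⟨p.1.2, ?_⟩
    rw [smul_smul]
    have : p.1.1⁻¹ * g * p.1.1 * p.1.1⁻¹ = p.1.1⁻¹ * g := by group
    rw [this, mul_smul, p.2.2]
  · have h2 := ((mem_stabIn H K _ _).1 s.2.2).2
    show g • s.2.1 • s.1 = s.2.1 • s.1
    rw [mul_smul, mul_smul, inv_smul_eq_iff] at h2
    exact h2
  · rintro ⟨⟨x, hx⟩, ⟨ω, hω⟩⟩
    simp
  · rintro ⟨ω, ⟨x, hx⟩⟩
    have h1 : x⁻¹ • x • ω = ω := inv_smul_smul x ω
    apply Sigma.ext
    · exact h1
    · simp only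
      have : ∀ (ω' : G ⧸ K) (hω' : ω' = ω) (h : x⁻¹ * g * x ∈ stabIn H K ω'),
          HEq (⟨x, h⟩ : {x : G // x⁻¹ * g * x ∈ stabIn H K ω'}) (⟨x, hx⟩ : {x : G // x⁻¹ * g * x ∈ stabIn H K ω}) := by
        intro ω' hω' h
        subst hω'
        rfl
      exact this _ h1 _

theorem smul_fix_iff {X : Type*} [MulAction G X] (a y : G) (ω : X) :
    (a⁻¹ * y * a) • ω = ω ↔ y • (a • ω) = a • ω := by
  rw [mul_smul, mul_smul, inv_smul_eq_iff]

theorem card_conj_stabIn_smul [Finite G] (g : G) (h : H) (ω : G ⧸ K) :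
    Nat.card {x : G // x⁻¹ * g * x ∈ stabIn H K (h • ω)}
      = Nat.card {x : G // x⁻¹ * g * x ∈ stabIn H K ω} := by
  have h3 : h • ω = (h : G) • ω := rfl
  apply Nat.card_congr
  refine
    { toFun := fun x => ⟨x.1 * (h : G), ?_⟩
      invFun := fun x => ⟨x.1 * (h : G)⁻¹, ?_⟩
      left_inv := fun x => by apply Subtype.ext; simp
      right_inv := fun x => by apply Subtype.ext; simp }
  · have := (mem_stabIn H K _ _).1 x.2
    rw [mem_stabIn]
    have h1 : (x.1 * (h : G))⁻¹ * g * (x.1 * (h : G)) = (h : G)⁻¹ * (x.1⁻¹ * g * x.1) * (h : G) := by group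
    rw [h1]
    refine ⟨mul_mem (mul_mem (inv_mem h.2) this.1) h.2, ?_⟩
    rw [smul_fix_iff]
    exact this.2
  · have := (mem_stabIn H K _ _).1 x.2
    rw [mem_stabIn]
    have h1 : (x.1 * (h : G)⁻¹)⁻¹ * g * (x.1 * (h : G)⁻¹) = ((h : G)⁻¹)⁻¹ * (x.1⁻¹ * g * x.1) * (h : G)⁻¹ := by group
    rw [h1]
    refine ⟨mul_mem (mul_mem (inv_mem (inv_mem h.2)) this.1) (inv_mem h.2), ?_⟩
    rw [smul_fix_iff, h3, inv_smul_smul]
    exact this.2

/-- orbit–stabilizer for the `H`-action on `G/K`. -/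
theorem ncard_orbit_mul_card_stabIn [Finite G] (ω : G ⧸ K) :
    (MulAction.orbit H ω).ncard * Nat.card (stabIn H K ω) = Nat.card H := by
  rw [← MulAction.index_stabilizer, ← Subgroup.index_mul_card (MulAction.stabilizer H ω)]
  congr 1
  apply Nat.card_congr
  refine
    { toFun := fun y => ⟨⟨y.1, ((mem_stabIn H K _ _).1 y.2).1⟩, ?_⟩
      invFun := fun y => ⟨y.1.1, ?_⟩
      left_inv := fun y => rfl
      right_inv := fun y => rfl }
  · rw [MulAction.mem_stabilizer_iff]
    exact ((mem_stabIn H K _ _).1 y.2).2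
  · rw [mem_stabIn]
    refine ⟨y.1.2, ?_⟩
    have := MulAction.mem_stabilizer_iff.1 y.2
    exact this

end

theorem main_S0870 {G : Type*} [Group G] [Fintype G] (H K : Subgroup G) : ∃ a : Subgroup G → ℕ, (∀ U, a U ≠ 0 → U ≤ H) ∧ Cfsg.indFun H (fun _ => 1) * Cfsg.indFun K (fun _ => 1) = ∑ U : Subgroup G, (a U : ℂ) • Cfsg.indFun U (fun _ => 1) := by
  classical
  have : Fintype (G ⧸ K) := Fintype.ofFinite _
  have : Fintype (MulAction.orbitRel.Quotient H (G ⧸ K)) := Fintype.ofFinite _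
  let φ : MulAction.orbitRel.Quotient H (G ⧸ K) → Subgroup G := fun O => stabIn H K (Quotient.out O)
  refine ⟨fun U => Nat.card {O : MulAction.orbitRel.Quotient H (G ⧸ K) // φ O = U}, ?_, ?_⟩
  · intro U hU
    have : Nonempty {O : MulAction.orbitRel.Quotient H (G ⧸ K) // φ O = U} := by
      by_contra hne
      rw [not_nonempty_iff] at hne
      exact hU Nat.card_of_isEmpty
    obtain ⟨O, hO⟩ := this
    rw [← hO]
    exact stabIn_le H K _
  · -- Step 1
    have step1 : ∑ U : Subgroup G, ((Nat.card {O : MulAction.orbitRel.Quotient H (G ⧸ K) // φ O = U} : ℕ) : ℂ) • Cfsg.indFun U (fun _ => (1 : ℂ))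
        = ∑ O : MulAction.orbitRel.Quotient H (G ⧸ K), Cfsg.indFun (φ O) (fun _ => (1 : ℂ)) := by
      rw [← Finset.sum_fiberwise (Finset.univ : Finset (MulAction.orbitRel.Quotient H (G ⧸ K))) φ
        (fun O => Cfsg.indFun (φ O) (fun _ => (1 : ℂ)))]
      apply Finset.sum_congr rfl
      intro U _
      have : ∀ O ∈ Finset.filter (fun O => φ O = U) (Finset.univ : Finset (MulAction.orbitRel.Quotient H (G ⧸ K))),
          Cfsg.indFun (φ O) (fun _ => (1 : ℂ)) = Cfsg.indFun U (fun _ => (1 : ℂ)) := by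
        intro O hO
        rw [(Finset.mem_filter.1 hO).2]
      rw [Finset.sum_congr rfl this, Finset.sum_const, Nat.card_eq_fintype_card, Fintype.card_subtype]
      rw [Nat.cast_smul_eq_nsmul]
    rw [step1]
    funext g
    rw [Pi.mul_apply, Finset.sum_apply]
    simp only [indFun_one_apply]
    rw [← indFun_one_apply K, indFun_one_eq_card_fixed]
    -- natural number identity
    have hnat : Nat.card {x : G // x⁻¹ * g * x ∈ H} * Nat.card {ω : G ⧸ K // g • ω = ω}
        = ∑ O : MulAction.orbitRel.Quotient H (G ⧸ K),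
            (MulAction.orbit H (Quotient.out O)).ncard * Nat.card {x : G // x⁻¹ * g * x ∈ φ O} := by
      rw [card_pairs H K g, Nat.card_sigma]
      rw [sum_eq_sum_orbits (Γ := H) (fun ω : G ⧸ K => Nat.card {x : G // x⁻¹ * g * x ∈ stabIn H K ω})
        (fun h ω => card_conj_stabIn_smul H K g h ω)]
      rfl
    have hH : (Nat.card H : ℂ) ≠ 0 := by
      have : Nat.card H ≠ 0 := Nat.card_pos.ne'
      exact_mod_cast this
    rw [mul_assoc, ← Nat.cast_mul, hnat, Nat.cast_sum, Finset.mul_sum]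
    apply Finset.sum_congr rfl
    intro O _
    have horb := ncard_orbit_mul_card_stabIn H K (Quotient.out O)
    have hφ : (Nat.card (φ O) : ℂ) ≠ 0 := by
      have : Nat.card (φ O) ≠ 0 := Nat.card_pos.ne'
      exact_mod_cast this
    have h2 : ((MulAction.orbit H (Quotient.out O)).ncard : ℂ) * (Nat.card (φ O) : ℂ) = (Nat.card H : ℂ) := by
      exact_mod_cast horb
    have horb0 : ((MulAction.orbit H (Quotient.out O)).ncard : ℂ) ≠ 0 := by
      intro h0
      rw [h0, zero_mul] at h2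
      exact hH h2.symm
    rw [Nat.cast_mul, ← h2]
    field_simp


/-- For subgroups H and K of a finite group G, the pointwise product of the functions induced from the constant function 1 on H and on K is a sum, over subgroups U of H with natural-number coefficients, of the functions induced from the constant function 1 on U. -/
theorem result {G : Type*} [Group G] [Fintype G] (H K : Subgroup G) : ∃ a : Subgroup G → ℕ, (∀ U, a U ≠ 0 → U ≤ H) ∧ Cfsg.indFun H (fun _ => 1) * Cfsg.indFun K (fun _ => 1) = ∑ U : Subgroup G, (a U : ℂ) • Cfsg.indFun U (fun _ => 1) := by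
  exact main_S0870 H K

end Cfsg.Agent.S0870
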