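import Cfsg.Statements.S0871
import Mathlib
import Cfsg.Agent.Lib.Helper15.PermChar
-- import your own Cfsg.Agent.* helpers here

set_option autoImplicit false
open Cfsg

namespace Cfsg.Agent.S0871

open Cfsg.Agent.Lib.Helper15

/-- A `p'`-element of a group having a normal subgroup `C'` with `p`-quotient image lies in `C'`. -/
theorem mem_ker_of_coprime_order {N Q : Type*} [Group N] [Group Q] (p : ℕ) [Fact p.Prime] (π : N →* Q)
    (S : Subgroup Q) (hS : IsPGroup p S) (w : N) (hw : π w ∈ S) (hcop : Nat.Coprime (orderOf w) p) :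
    π w = 1 := by
  obtain ⟨k, hk⟩ := hS ⟨π w, hw⟩
  have h1 : (π w) ^ (p ^ k) = 1 := by
    have := congrArg Subtype.val hk
    simpa using this
  have h2 : orderOf (π w) ∣ p ^ k := orderOf_dvd_of_pow_eq_one h1
  have h3 : orderOf (π w) ∣ orderOf w := orderOf_map_dvd π w
  have h4 : Nat.Coprime (orderOf w) (p ^ k) := Nat.Coprime.pow_right k hcop
  have h5 : orderOf (π w) = 1 := Nat.eq_one_of_dvd_coprimes h4 h3 h2
  exact orderOf_eq_one_iff.1 h5


section setup
variable {G : Type*} [Group G] (C : Subgroup G)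

/-- `C` as a (normal) subgroup of its normalizer. -/
abbrev CN : Subgroup (Subgroup.normalizer (C : Set G)) := C.subgroupOf (Subgroup.normalizer (C : Set G))

/-- The quotient map `N_G(C) → N_G(C)/C`. -/
abbrev piN : (Subgroup.normalizer (C : Set G)) →* (Subgroup.normalizer (C : Set G)) ⧸ CN C :=
  QuotientGroup.mk' (CN C)

/-- preimage in `N` of a subgroup of `N/C` -/
abbrev HN (S : Subgroup ((Subgroup.normalizer (C : Set G)) ⧸ CN C)) :
    Subgroup (Subgroup.normalizer (C : Set G)) := S.comap (piN C)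

/-- the same, as a subgroup of `G` -/
abbrev HG (S : Subgroup ((Subgroup.normalizer (C : Set G)) ⧸ CN C)) : Subgroup G :=
  (HN C S).map (Subgroup.normalizer (C : Set G)).subtype

variable (S : Subgroup ((Subgroup.normalizer (C : Set G)) ⧸ CN C))

theorem C_le_HG : C ≤ HG C S := by
  intro c hc
  refine ⟨⟨c, Subgroup.le_normalizer hc⟩, ?_, rfl⟩
  show piN C ⟨c, _⟩ ∈ S
  have : piN C ⟨c, Subgroup.le_normalizer hc⟩ = 1 := by
    rw [QuotientGroup.mk'_apply, QuotientGroup.eq_one_iff]
    exact hc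
  rw [this]
  exact S.one_mem

theorem HG_le_N : HG C S ≤ Subgroup.normalizer (C : Set G) := by
  rintro _ ⟨y, _, rfl⟩
  exact y.2

theorem mem_HG_iff (y : G) : y ∈ HG C S ↔ ∃ hy : y ∈ Subgroup.normalizer (C : Set G), piN C ⟨y, hy⟩ ∈ S := by
  constructor
  · rintro ⟨z, hz, rfl⟩
    exact ⟨z.2, hz⟩
  · rintro ⟨hy, h⟩
    exact ⟨⟨y, hy⟩, h, rfl⟩

theorem relIndex_C_HG : C.relIndex (HG C S) = Nat.card S := by
  have h1 : C.relIndex (HG C S) = (CN C).relIndex (HN C S) :=
    (Subgroup.relIndex_comap C (Subgroup.normalizer (C : Set G)).subtype (HN C S)).symm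
  rw [h1]
  have h2 : CN C = (⊥ : Subgroup ((Subgroup.normalizer (C : Set G)) ⧸ CN C)).comap (piN C) := by
    rw [MonoidHom.comap_bot, QuotientGroup.ker_mk']
  have h3 : (CN C).relIndex (HN C S)
      = ((⊥ : Subgroup ((Subgroup.normalizer (C : Set G)) ⧸ CN C)).comap (piN C)).relIndex (HN C S) :=
    congrArg (fun A => Subgroup.relIndex A (HN C S)) h2
  rw [h3, Subgroup.relIndex_comap, Subgroup.map_comap_eq_self_of_surjective (QuotientGroup.mk'_surjective _),
    Subgroup.relIndex_bot_left]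

theorem index_HN : (HN C S).index = S.index :=
  Subgroup.index_comap_of_surjective S (QuotientGroup.mk'_surjective _)

theorem card_HG : Nat.card (HG C S) = Nat.card (HN C S) :=
  Subgroup.card_map_of_injective (Subgroup.subtype_injective _)

theorem mem_C_of_mem_HG_of_coprime (p : ℕ) [Fact p.Prime] (hS : IsPGroup p S) (w : G) (hw : w ∈ HG C S)
    (hcop : Nat.Coprime (orderOf w) p) : w ∈ C := by
  obtain ⟨hwN, hwS⟩ := (mem_HG_iff C S w).1 hw
  have h1 := mem_ker_of_coprime_order p (piN C) S hS ⟨w, hwN⟩ hwS (by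
    rw [← Subgroup.orderOf_mk w hwN] at hcop; exact hcop)
  rw [QuotientGroup.mk'_apply, QuotientGroup.eq_one_iff] at h1
  exact h1

/-- `C` acts trivially on the cosets of `HN`. -/
theorem CN_smul_eq (c : Subgroup.normalizer (C : Set G)) (hc : c ∈ CN C)
    (q : (Subgroup.normalizer (C : Set G)) ⧸ HN C S) : c • q = q := by
  induction q using QuotientGroup.induction_on with
  | H y =>
    rw [MulAction.Quotient.smul_mk, eq_comm, QuotientGroup.eq, smul_eq_mul]
    show piN C (y⁻¹ * (c * y)) ∈ S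
    have : piN C (y⁻¹ * (c * y)) = 1 := by
      rw [QuotientGroup.mk'_apply, QuotientGroup.eq_one_iff]
      have hn : (CN C).Normal := Subgroup.normal_in_normalizer
      have := hn.conj_mem c hc y⁻¹
      simpa [mul_assoc] using this
    rw [this]
    exact S.one_mem

end setup

theorem main_S0871 {G : Type*} [Group G] [Fintype G] (x : G) (p : ℕ) (hp : p.Prime) : ∃ H : Subgroup G, (∃ C : Subgroup G, C ≤ H ∧ H ≤ Subgroup.normalizer (C : Set G) ∧ IsCyclic C ∧ Nat.Coprime (Nat.card C) p ∧ ∃ k : ℕ, C.relIndex H = p ^ k) ∧ ∃ n : ℕ, Cfsg.indFun H (fun _ => 1) x = (n : ℂ) ∧ ¬ p ∣ n := by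
  classical
  have : Fact p.Prime := ⟨hp⟩
  have hn₀ : orderOf x ≠ 0 := (orderOf_pos x).ne'
  obtain ⟨a, m, hpam, hmp⟩ : ∃ a m : ℕ, p ^ a * m = orderOf x ∧ Nat.Coprime m p :=
    ⟨(orderOf x).factorization p, ordCompl[p] (orderOf x), Nat.ordProj_mul_ordCompl_eq_self _ _,
      (Nat.coprime_ordCompl hp hn₀).symm⟩
  have hpa0 : p ^ a ≠ 0 := pow_ne_zero _ hp.ne_zero
  set v := x ^ (p ^ a) with hv
  have hvm : v ^ m = 1 := by
    rw [hv, ← pow_mul, hpam, pow_orderOf_eq_one]
  have hxv : Commute x v := (Commute.refl x).pow_right _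
  set C := Subgroup.zpowers v with hC
  have hcardC : Nat.Coprime (Nat.card C) p := by
    rw [hC, Nat.card_zpowers]
    exact Nat.Coprime.coprime_dvd_left (orderOf_dvd_of_pow_eq_one hvm) hmp
  have hxN : x ∈ Subgroup.normalizer (C : Set G) := by
    apply Subgroup.mem_normalizer_fintype
    intro n hn
    obtain ⟨i, rfl⟩ := Subgroup.mem_zpowers_iff.1 hn
    have : x * v ^ i * x⁻¹ = v ^ i := by
      rw [(hxv.zpow_right i).eq, mul_inv_cancel_right]
    rw [this]
    exact hn
  -- the image of x in N/C is a p-element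
  set xt : Subgroup.normalizer (C : Set G) := ⟨x, hxN⟩ with hxt
  have hvC : xt ^ (p ^ a) ∈ CN C := by
    show ((xt ^ (p ^ a) : Subgroup.normalizer (C : Set G)) : G) ∈ C
    rw [Subgroup.coe_pow]
    exact Subgroup.mem_zpowers v
  have hπx : (piN C xt) ^ (p ^ a) = 1 := by
    rw [← map_pow, QuotientGroup.mk'_apply, QuotientGroup.eq_one_iff]
    exact hvC
  have hPx : IsPGroup p (Subgroup.zpowers (piN C xt)) := by
    rintro ⟨g, hg⟩
    obtain ⟨i, rfl⟩ := Subgroup.mem_zpowers_iff.1 hg
    refine ⟨a, Subtype.ext ?_⟩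
    show ((piN C xt) ^ i) ^ (p ^ a) = 1
    rw [← zpow_natCast, ← zpow_mul, mul_comm, zpow_mul, zpow_natCast, hπx, one_zpow]
  obtain ⟨S, hS⟩ := hPx.exists_le_sylow
  have hxS : piN C xt ∈ (S : Subgroup _) := hS (Subgroup.mem_zpowers _)
  refine ⟨HG C S, ⟨C, C_le_HG C S, HG_le_N C S, inferInstance, hcardC, ?_⟩, ?_⟩
  · obtain ⟨k, hk⟩ := S.2.exists_card_eq
    exact ⟨k, (relIndex_C_HG C S).trans hk⟩
  -- the fixed point count
  refine ⟨Nat.card {q : G ⧸ HG C S // x • q = q}, indFun_one_eq_card_fixed _ _, ?_⟩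
  -- Claim A
  have claimA : ∀ y : G, y⁻¹ * x * y ∈ HG C S → y ∈ Subgroup.normalizer (C : Set G) := by
    intro y hy
    have hw : y⁻¹ * v * y ∈ HG C S := by
      have : y⁻¹ * v * y = (y⁻¹ * x * y) ^ (p ^ a) := by
        rw [hv]
        have := conj_pow (a := y⁻¹) (b := x) (i := p ^ a)
        rw [inv_inv] at this
        exact this.symm
      rw [this]
      exact pow_mem hy _
    have hwm : (y⁻¹ * v * y) ^ m = 1 := by
      have := conj_pow (a := y⁻¹) (b := v) (i := m)
      rw [inv_inv] at this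
      rw [this, hvm]; group
    have hwC : y⁻¹ * v * y ∈ C :=
      mem_C_of_mem_HG_of_coprime C S p S.2 _ hw
        (Nat.Coprime.coprime_dvd_left (orderOf_dvd_of_pow_eq_one hwm) hmp)
    have hyinv : y⁻¹ ∈ Subgroup.normalizer (C : Set G) := by
      apply Subgroup.mem_normalizer_fintype
      intro n hn
      obtain ⟨i, rfl⟩ := Subgroup.mem_zpowers_iff.1 hn
      have := conj_zpow (a := y⁻¹) (b := v) (i := i)
      rw [← this, inv_inv]
      exact zpow_mem hwC i
    simpa using inv_mem hyinv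
  -- transfer the count to N
  have hcount : Nat.card {q : G ⧸ HG C S // x • q = q}
      = Nat.card {q : (Subgroup.normalizer (C : Set G)) ⧸ HN C S // xt • q = q} := by
    have h1 := card_conj_mem (HG C S) x
    have h2 := card_conj_mem (HN C S) xt
    have h3 : Nat.card {y : G // y⁻¹ * x * y ∈ HG C S}
        = Nat.card {y : Subgroup.normalizer (C : Set G) // y⁻¹ * xt * y ∈ HN C S} := by
      apply Nat.card_congr
      refine
        { toFun := fun y => ⟨⟨y.1, claimA y.1 y.2⟩, ?_⟩
          invFun := fun y => ⟨y.1.1, ?_⟩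
          left_inv := fun y => rfl
          right_inv := fun y => rfl }
      · obtain ⟨hN, hmem⟩ := (mem_HG_iff C S _).1 y.2
        exact hmem
      · exact (mem_HG_iff C S _).2 ⟨(y.1⁻¹ * xt * y.1).2, y.2⟩
    rw [h3, h2, card_HG] at h1
    have hpos : 0 < Nat.card (HN C S) := Nat.card_pos
    exact (Nat.eq_of_mul_eq_mul_left hpos h1).symm
  rw [hcount]
  -- the p-group generated by u = xt^m
  set u := xt ^ m with hu
  have hupa : u ^ (p ^ a) = 1 := by
    rw [hu, ← pow_mul, mul_comm, hpam]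
    apply Subtype.ext
    rw [Subgroup.coe_pow]
    exact pow_orderOf_eq_one x
  have hPu : IsPGroup p (Subgroup.zpowers u) := by
    rintro ⟨g, hg⟩
    obtain ⟨i, rfl⟩ := Subgroup.mem_zpowers_iff.1 hg
    refine ⟨a, Subtype.ext ?_⟩
    show (u ^ i) ^ (p ^ a) = 1
    rw [← zpow_natCast, ← zpow_mul, mul_comm, zpow_mul, zpow_natCast, hupa, one_zpow]
  have key := hPu.card_modEq_card_fixedPoints (p := p) ((Subgroup.normalizer (C : Set G)) ⧸ HN C S)
  have hindex : ¬ p ∣ Nat.card ((Subgroup.normalizer (C : Set G)) ⧸ HN C S) := by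
    have : Nat.card ((Subgroup.normalizer (C : Set G)) ⧸ HN C S) = (HN C S).index := rfl
    rw [this, index_HN]
    exact S.not_dvd_index
  -- fixed points of the p-group = fixed points of xt
  obtain ⟨s, t, hst⟩ : IsCoprime (m : ℤ) ((p ^ a : ℕ) : ℤ) :=
    Nat.isCoprime_iff_coprime.2 (Nat.Coprime.pow_right a hmp)
  have hxt_eq : xt = u ^ s * (xt ^ (p ^ a)) ^ t := by
    rw [hu, ← zpow_natCast, ← zpow_natCast, ← zpow_mul, ← zpow_mul, ← zpow_add]
    have : (m : ℤ) * s + ((p ^ a : ℕ) : ℤ) * t = 1 := by linarith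
    rw [this, zpow_one]
  have hfix : Nat.card (MulAction.fixedPoints (Subgroup.zpowers u) ((Subgroup.normalizer (C : Set G)) ⧸ HN C S))
      = Nat.card {q : (Subgroup.normalizer (C : Set G)) ⧸ HN C S // xt • q = q} := by
    apply Nat.card_congr
    apply Equiv.subtypeEquivRight
    intro q
    constructor
    · intro hq
      have h1 : u • q = q := hq ⟨u, Subgroup.mem_zpowers u⟩
      have h2 : (u ^ s) • q = q := by
        have : u ^ s ∈ MulAction.stabilizer _ q := zpow_mem (MulAction.mem_stabilizer_iff.2 h1) s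
        exact MulAction.mem_stabilizer_iff.1 this
      have h3 : ((xt ^ (p ^ a)) ^ t) • q = q :=
        CN_smul_eq C S _ (zpow_mem hvC t) q
      rw [hxt_eq, mul_smul, h3, h2]
    · intro hq g
      obtain ⟨i, hi⟩ := Subgroup.mem_zpowers_iff.1 g.2
      have h1 : xt ∈ MulAction.stabilizer _ q := MulAction.mem_stabilizer_iff.2 hq
      have h2 : u ^ i ∈ MulAction.stabilizer _ q := zpow_mem (pow_mem h1 m) i
      have h3 : g • q = (g : Subgroup.normalizer (C : Set G)) • q := rfl
      rw [h3, ← hi]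
      exact MulAction.mem_stabilizer_iff.1 h2
  rw [hfix] at key
  intro hdvd
  apply hindex
  exact (Nat.modEq_zero_iff_dvd).1 (key.trans ((Nat.modEq_zero_iff_dvd).2 hdvd))


/-- Let x be an element of the finite group G and p a prime. Then there is a subgroup H having a cyclic normal subgroup C of order prime to p and p-power index in H, such that the value at x of the function induced from the constant function 1 on H is a natural number not divisible by p. -/
theorem result {G : Type*} [Group G] [Fintype G] (x : G) (p : ℕ) (hp : p.Prime) : ∃ H : Subgroup G, (∃ C : Subgroup G, C ≤ H ∧ H ≤ Subgroup.normalizer (C : Set G) ∧ IsCyclic C ∧ Nat.Coprime (Nat.card C) p ∧ ∃ k : ℕ, C.relIndex H = p ^ k) ∧ ∃ n : ℕ, Cfsg.indFun H (fun _ => 1) x = (n : ℂ) ∧ ¬ p ∣ n := by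
  exact main_S0871 x p hp

end Cfsg.Agent.S0871
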