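import Cfsg.Statements.S0872
import Mathlib
import Cfsg.Agent.Lib.Helper15.PermChar
import Cfsg.Agent.S0870
import Cfsg.Agent.S0871
-- import your own Cfsg.Agent.* helpers here

set_option autoImplicit false
open Cfsg

namespace Cfsg.Agent.S0872

open Cfsg.Agent.Lib.Helper15

section
variable {G : Type*} [Group G]

/-- `H` is `p`-quasi-elementary. -/
def QE (p : ℕ) (H : Subgroup G) : Prop :=
  ∃ C : Subgroup G, C ≤ H ∧ H ≤ Subgroup.normalizer (C : Set G) ∧ IsCyclic C ∧
    Nat.Coprime (Nat.card C) p ∧ ∃ k : ℕ, C.relIndex H = p ^ k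

theorem QE_of_le (p : ℕ) (hp : p.Prime) {U H : Subgroup G} (hUH : U ≤ H) (hH : QE p H) : QE p U := by
  obtain ⟨C, hCH, hHN, hcyc, hcop, k, hk⟩ := hH
  refine ⟨C ⊓ U, inf_le_right, ?_, ?_, ?_, ?_⟩
  · rw [Subgroup.le_normalizer_iff]
    intro u hu c hc
    rw [Subgroup.mem_inf] at hc ⊢
    refine ⟨?_, mul_mem (mul_mem hu hc.2) (inv_mem hu)⟩
    exact (Subgroup.mem_normalizer_iff.1 (hHN (hUH hu)) c).1 hc.1
  · exact Subgroup.isCyclic_of_le (inf_le_left : C ⊓ U ≤ C)
  · exact Nat.Coprime.coprime_dvd_left (Subgroup.card_dvd_of_le inf_le_left) hcop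
  · rw [Subgroup.inf_relIndex_right]
    have hnorm : (C.subgroupOf H).Normal := (Subgroup.normal_subgroupOf_iff_le_normalizer hCH).2 hHN
    have h1 : (C.subgroupOf H).relIndex (U.subgroupOf H) ∣ (C.subgroupOf H).index :=
      Subgroup.relIndex_dvd_index_of_normal _ _
    rw [Subgroup.relIndex_subgroupOf hUH] at h1
    have h2 : (C.subgroupOf H).index = C.relIndex H := rfl
    rw [h2, hk] at h1
    obtain ⟨j, _, hj⟩ := (Nat.dvd_prime_pow hp).1 h1
    exact ⟨j, hj⟩

end

section
variable {G : Type*} [Group G] [Fintype G]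

/-- the permutation character of `G` on `G/H`, as a function. -/
noncomputable abbrev permChar (H : Subgroup G) : G → ℂ := indFun H (fun _ => (1 : ℂ))

/-- membership in the ℤ-span of permutation characters on quasi-elementary subgroups -/
def InR (p : ℕ) (f : G → ℤ) : Prop :=
  ∃ a : Subgroup G → ℤ, (∀ H, a H ≠ 0 → QE p H) ∧
    (fun g => (f g : ℂ)) = ∑ H : Subgroup G, (a H : ℂ) • permChar H

theorem InR_zero (p : ℕ) : InR p (0 : G → ℤ) := by
  refine ⟨0, fun H h => absurd rfl h, ?_⟩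
  funext g
  simp

theorem InR_add (p : ℕ) {f f' : G → ℤ} (hf : InR p f) (hf' : InR p f') : InR p (f + f') := by
  obtain ⟨a, ha, hfa⟩ := hf
  obtain ⟨a', ha', hfa'⟩ := hf'
  refine ⟨a + a', ?_, ?_⟩
  · intro H hH
    by_cases h : a H = 0
    · apply ha'
      intro h'
      apply hH
      simp [h, h']
    · exact ha H h
  · have : (fun g => ((f + f') g : ℂ)) = (fun g => (f g : ℂ)) + (fun g => (f' g : ℂ)) := by
      funext g; simp
    rw [this, hfa, hfa', ← Finset.sum_add_distrib]
    apply Finset.sum_congr rfl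
    intro H _
    simp [add_smul]

theorem InR_zsmul (p : ℕ) (n : ℤ) {f : G → ℤ} (hf : InR p f) : InR p (n • f) := by
  obtain ⟨a, ha, hfa⟩ := hf
  refine ⟨n • a, ?_, ?_⟩
  · intro H hH
    apply ha
    intro h
    apply hH
    simp [h]
  · have : (fun g => ((n • f) g : ℂ)) = (n : ℂ) • (fun g => (f g : ℂ)) := by
      funext g; simp
    rw [this, hfa, Finset.smul_sum]
    apply Finset.sum_congr rfl
    intro H _
    simp [mul_smul]

theorem InR_neg (p : ℕ) {f : G → ℤ} (hf : InR p f) : InR p (-f) := by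
  have := InR_zsmul p (-1) hf
  simpa using this

theorem InR_sub (p : ℕ) {f f' : G → ℤ} (hf : InR p f) (hf' : InR p f') : InR p (f - f') := by
  rw [sub_eq_add_neg]
  exact InR_add p hf (InR_neg p hf')

theorem InR_mul (p : ℕ) (hp : p.Prime) {f f' : G → ℤ} (hf : InR p f) (hf' : InR p f') : InR p (f * f') := by
  classical
  obtain ⟨a, ha, hfa⟩ := hf
  obtain ⟨a', ha', hfa'⟩ := hf'
  choose b hb1 hb2 using fun H K : Subgroup G => Cfsg.Agent.S0870.result H K
  refine ⟨fun U => ∑ H : Subgroup G, ∑ K : Subgroup G, a H * a' K * (b H K U : ℤ), ?_, ?_⟩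
  · intro U hU
    obtain ⟨H, _, hH⟩ := Finset.exists_ne_zero_of_sum_ne_zero hU
    obtain ⟨K, _, hK⟩ := Finset.exists_ne_zero_of_sum_ne_zero hH
    have h1 : a H ≠ 0 := by
      intro h; apply hK; simp [h]
    have h2 : b H K U ≠ 0 := by
      intro h; apply hK; simp [h]
    exact QE_of_le p hp (hb1 H K U h2) (ha H h1)
  · funext g
    have e1 := congrFun hfa g
    have e2 := congrFun hfa' g
    simp only [Finset.sum_apply, Pi.smul_apply, smul_eq_mul] at e1 e2
    have e3 : ∀ H K : Subgroup G, permChar H g * permChar K g = ∑ U : Subgroup G, (b H K U : ℂ) * permChar U g := by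
      intro H K
      have := congrFun (hb2 H K) g
      simp only [Finset.sum_apply, Pi.smul_apply, smul_eq_mul, Pi.mul_apply] at this
      exact this
    simp only [Finset.sum_apply, Pi.smul_apply, smul_eq_mul, Pi.mul_apply]
    push_cast
    rw [e1, e2, Finset.sum_mul_sum]
    have : ∀ H K : Subgroup G, (a H : ℂ) * permChar H g * ((a' K : ℂ) * permChar K g)
        = ∑ U : Subgroup G, (a H : ℂ) * (a' K : ℂ) * (b H K U : ℂ) * permChar U g := by
      intro H K
      have : (a H : ℂ) * permChar H g * ((a' K : ℂ) * permChar K g)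
          = (a H : ℂ) * (a' K : ℂ) * (permChar H g * permChar K g) := by ring
      rw [this, e3, Finset.mul_sum]
      apply Finset.sum_congr rfl
      intro U _
      ring
    simp only [this]
    simp only [Finset.sum_mul]
    calc ∑ H : Subgroup G, ∑ K : Subgroup G, ∑ U : Subgroup G, (a H : ℂ) * (a' K : ℂ) * (b H K U : ℂ) * permChar U g
        = ∑ H : Subgroup G, ∑ U : Subgroup G, ∑ K : Subgroup G, (a H : ℂ) * (a' K : ℂ) * (b H K U : ℂ) * permChar U g :=
          Finset.sum_congr rfl (fun H _ => Finset.sum_comm)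
      _ = ∑ U : Subgroup G, ∑ H : Subgroup G, ∑ K : Subgroup G, (a H : ℂ) * (a' K : ℂ) * (b H K U : ℂ) * permChar U g :=
          Finset.sum_comm

theorem InR_permChar (p : ℕ) (H : Subgroup G) (hH : QE p H) :
    InR p (fun g : G => (Nat.card {q : G ⧸ H // g • q = q} : ℤ)) := by
  classical
  refine ⟨Pi.single H 1, ?_, ?_⟩
  · intro K hK
    by_cases h : K = H
    · rw [h]; exact hH
    · exfalso; apply hK; simp [h]
  · funext g
    rw [Finset.sum_eq_single H]
    · simp [permChar, indFun_one_eq_card_fixed]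
    · intro K _ hK
      simp [hK]
    · intro h; exact absurd (Finset.mem_univ H) h

end

theorem main_S0872 {G : Type*} [Group G] [Fintype G] (p : ℕ) (hp : p.Prime) : ∃ (m : ℤ) (a : Subgroup G → ℤ), ¬ (p : ℤ) ∣ m ∧ (∀ H, a H ≠ 0 → (∃ C : Subgroup G, C ≤ H ∧ H ≤ Subgroup.normalizer (C : Set G) ∧ IsCyclic C ∧ Nat.Coprime (Nat.card C) p ∧ ∃ k : ℕ, C.relIndex H = p ^ k)) ∧ (fun _ : G => (m : ℂ)) = ∑ H : Subgroup G, (a H : ℂ) • Cfsg.indFun H (fun _ => 1) := by
  classical
  -- for each x a quasi-elementary subgroup with p ∤ value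
  choose Hx hQE nx hval hnx using fun x : G => Cfsg.Agent.S0871.result x p hp
  let fx : G → (G → ℤ) := fun x g => (Nat.card {q : G ⧸ Hx x // g • q = q} : ℤ)
  have hfxR : ∀ x, InR p (fx x) := fun x => InR_permChar p (Hx x) (hQE x)
  have hfxx : ∀ x, fx x x = (nx x : ℤ) := by
    intro x
    have h1 := hval x
    rw [indFun_one_eq_card_fixed] at h1
    have h2 : Nat.card {q : G ⧸ Hx x // x • q = q} = nx x := by exact_mod_cast h1
    show (Nat.card {q : G ⧸ Hx x // x • q = q} : ℤ) = (nx x : ℤ)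
    rw [h2]
  -- product trick
  have hprod : ∀ T : Finset G, ∃ r : G → ℤ, InR p r ∧
      ∏ x ∈ T, ((nx x : ℤ) • (1 : G → ℤ) - fx x) = (∏ x ∈ T, (nx x : ℤ)) • (1 : G → ℤ) + r := by
    intro T
    induction T using Finset.induction_on with
    | empty => exact ⟨0, InR_zero p, by simp⟩
    | insert y T hy ih =>
      obtain ⟨r, hr, hrT⟩ := ih
      refine ⟨(nx y : ℤ) • r - (∏ x ∈ T, (nx x : ℤ)) • fx y - fx y * r, ?_, ?_⟩
      · exact InR_sub p (InR_sub p (InR_zsmul p _ hr) (InR_zsmul p _ (hfxR y))) (InR_mul p hp (hfxR y) hr)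
      · rw [Finset.prod_insert hy, Finset.prod_insert hy, hrT]
        funext g
        simp only [Pi.mul_apply, Pi.sub_apply, Pi.add_apply, Pi.smul_apply, Pi.one_apply, smul_eq_mul]
        ring
  obtain ⟨r, hr, hrT⟩ := hprod Finset.univ
  have hzero : ∏ x ∈ (Finset.univ : Finset G), ((nx x : ℤ) • (1 : G → ℤ) - fx x) = 0 := by
    funext g
    rw [Finset.prod_apply]
    apply Finset.prod_eq_zero (Finset.mem_univ g)
    simp [hfxx g]
  rw [hzero] at hrT
  obtain ⟨a, ha, hra⟩ := InR_neg p hr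
  refine ⟨∏ x ∈ (Finset.univ : Finset G), (nx x : ℤ), a, ?_, ha, ?_⟩
  · intro hdvd
    have hp' : Prime (p : ℤ) := Nat.prime_iff_prime_int.1 hp
    obtain ⟨x, _, hx⟩ := (Prime.dvd_finsetProd_iff hp' _).1 hdvd
    exact hnx x (by exact_mod_cast hx)
  · rw [← hra]
    funext g
    have := congrFun hrT g
    simp only [Pi.zero_apply, Pi.add_apply, Pi.smul_apply, Pi.one_apply, smul_eq_mul, mul_one] at this
    have h2 : (-r) g = ∏ x ∈ (Finset.univ : Finset G), (nx x : ℤ) := by
      simp only [Pi.neg_apply]; linarith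
    rw [h2]


/-- For a finite group G and a prime p there are an integer m not divisible by p and a ℤ-linear combination of functions induced from the constant function 1 on subgroups H, each having a cyclic normal subgroup of order prime to p and p-power index in H, that equals the constant function m. -/
theorem result {G : Type*} [Group G] [Fintype G] (p : ℕ) (hp : p.Prime) : ∃ (m : ℤ) (a : Subgroup G → ℤ), ¬ (p : ℤ) ∣ m ∧ (∀ H, a H ≠ 0 → (∃ C : Subgroup G, C ≤ H ∧ H ≤ Subgroup.normalizer (C : Set G) ∧ IsCyclic C ∧ Nat.Coprime (Nat.card C) p ∧ ∃ k : ℕ, C.relIndex H = p ^ k)) ∧ (fun _ : G => (m : ℂ)) = ∑ H : Subgroup G, (a H : ℂ) • Cfsg.indFun H (fun _ => 1) := by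
  exact main_S0872 p hp

end Cfsg.Agent.S0872
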