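import Cfsg.Statements.S0873
import Mathlib
-- import your own Cfsg.Agent.* helpers here

set_option autoImplicit false
open Cfsg

namespace Cfsg.Agent.S0873

theorem end_fin_one (f : (Fin 1 → ℂ) →ₗ[ℂ] (Fin 1 → ℂ)) :
    f = (LinearMap.trace ℂ (Fin 1 → ℂ) f) • (1 : (Fin 1 → ℂ) →ₗ[ℂ] (Fin 1 → ℂ)) := by
  have h1 : LinearMap.trace ℂ (Fin 1 → ℂ) f = f (fun _ => 1) 0 := by
    rw [LinearMap.trace_eq_matrix_trace ℂ (Pi.basisFun ℂ (Fin 1))]
    simp [Matrix.trace]
    have : (Pi.single 0 1 : Fin 1 → ℂ) = fun _ => 1 := by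
      funext i
      have hi : i = 0 := Subsingleton.elim _ _
      subst hi
      simp
    rw [this]
  apply LinearMap.ext
  intro v
  ext i
  have hi : i = 0 := Subsingleton.elim _ _
  subst hi
  have hv : v = (v 0) • (fun _ => (1 : ℂ)) := by
    ext j
    have hj : j = 0 := Subsingleton.elim _ _
    subst hj
    simp
  rw [h1]
  conv_lhs => rw [hv]
  rw [map_smul]
  simp [mul_comm]

theorem linear_char_mul {G : Type*} [Group G] (lam : G → ℂ) (h : IsCharacter G lam) (h1 : lam 1 = 1) :
    ∀ a b : G, lam (a * b) = lam a * lam b := by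
  obtain ⟨n, ρ, rfl⟩ := h
  have hn : n = 1 := by
    have := Representation.char_one ρ
    rw [h1] at this
    simp at this
    exact_mod_cast this.symm
  subst hn
  intro a b
  have ha := end_fin_one (ρ a)
  have hb := end_fin_one (ρ b)
  unfold Representation.character
  rw [map_mul]
  conv_lhs => rw [ha, hb]
  simp [LinearMap.trace_one, mul_comm]

/-- Let C be a normal subgroup of the finite group G of order prime to p and P a p-subgroup with C ⊔ P = G. Let λ be a character of C of degree 1 invariant under conjugation by G and equal to 1 at every element of C centralized by P. Then λ is identically 1. -/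
theorem result {G : Type*} [Group G] [Finite G] (p : ℕ) [Fact p.Prime] (C P : Subgroup G) [hC : C.Normal] (hP : IsPGroup p P) (hcop : Nat.Coprime (Nat.card C) p) (hCP : C ⊔ P = ⊤) (lam : C → ℂ) (hlam : Cfsg.IsCharacter C lam ∧ lam 1 = 1) (hinv : ∀ (g : G) (c : C), lam ⟨g * c * g⁻¹, hC.conj_mem (c : G) c.2 g⟩ = lam c) (hker : ∀ c : C, (c : G) ∈ Subgroup.centralizer (P : Set G) → lam c = 1) : lam = fun _ => 1 := by
  classical
  obtain ⟨hchar, hone⟩ := hlam
  have hmul := linear_char_mul lam hchar hone
  funext c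
  -- the monoid hom attached to `lam`
  let lamHom : C →* ℂ := { toFun := lam, map_one' := hone, map_mul' := hmul }
  let K : Subgroup C := lamHom.ker
  -- the coset of `c`
  let X := {x : C // lam x = lam c}
  have hinvlam : ∀ x : C, lam x⁻¹ * lam x = 1 := by
    intro x
    rw [← hmul, inv_mul_cancel, hone]
  have hXK : Nat.card X = Nat.card K := by
    apply Nat.card_congr
    refine
      { toFun := fun x => ⟨c⁻¹ * x.1, ?_⟩
        invFun := fun k => ⟨c * k.1, ?_⟩
        left_inv := fun x => by apply Subtype.ext; simp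
        right_inv := fun k => by apply Subtype.ext; simp }
    · show lamHom (c⁻¹ * x.1) = 1
      show lam (c⁻¹ * x.1) = 1
      rw [hmul, x.2, hinvlam]
    · have hk : lam k.1 = 1 := k.2
      rw [hmul, hk, mul_one]
  have hcopX : ¬ p ∣ Nat.card X := by
    rw [hXK]
    intro hdvd
    have h2 : p ∣ Nat.card C := hdvd.trans (Subgroup.card_subgroup_dvd_card K)
    have h3 : p ∣ Nat.gcd (Nat.card C) p := Nat.dvd_gcd h2 (dvd_refl p)
    rw [hcop] at h3
    exact (Fact.out : p.Prime).one_lt.ne' (Nat.dvd_one.1 h3)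
  have : Finite X := Subtype.finite
  -- `P` acts on `X` by conjugation
  let act : MulAction P X :=
    { smul := fun u x => ⟨⟨(u : G) * (x.1 : G) * (u : G)⁻¹, hC.conj_mem (x.1 : G) x.1.2 (u : G)⟩, by
        rw [hinv (u : G) x.1]; exact x.2⟩
      one_smul := by
        intro x
        apply Subtype.ext
        apply Subtype.ext
        simp [HSMul.hSMul]
      mul_smul := by
        intro u v x
        apply Subtype.ext
        apply Subtype.ext
        simp [HSMul.hSMul, mul_assoc] }
  obtain ⟨x, hx⟩ := hP.nonempty_fixed_point_of_prime_not_dvd_card X hcopX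
  have hxc : (x.1 : G) ∈ Subgroup.centralizer (P : Set G) := by
    rw [Subgroup.mem_centralizer_iff]
    intro u hu
    have h1 := hx ⟨u, hu⟩
    have h2 : u * (x.1 : G) * u⁻¹ = (x.1 : G) := congrArg (fun z : X => ((z.1 : C) : G)) h1
    calc u * (x.1 : G) = u * (x.1 : G) * u⁻¹ * u := by group
      _ = (x.1 : G) * u := by rw [h2]
  rw [← x.2]
  exact hker x.1 hxc

end Cfsg.Agent.S0873
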