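import Cfsg.Statements.S0875
import Cfsg.Agent.Lib.Helper3.BrChar
import Cfsg.Agent.Lib.Helper76.NilpPow
import Cfsg.Agent.Lib.Helper76.PRegular

set_option autoImplicit false
open Cfsg

namespace Cfsg.Agent.S0875

open scoped ComplexConjugate
open Cfsg.Agent.Lib.Helper3 Cfsg.Agent.Lib.Helper76

/-- The section condition is equivalent to `x ^ a` being conjugate to `g`, where `a` is the
CRT exponent. -/
theorem section_iff {G : Type*} [Group G] [Finite G] {m n a : ℕ} (hmn : Nat.card G = m * n)
    (hcop : Nat.Coprime m n) (ha1 : a ≡ 1 [MOD n]) (ha0 : a ≡ 0 [MOD m]) (g x : G) :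
    (∃ v : G, IsConj v g ∧ (∃ u : G, x = u * v ∧ Commute u v ∧ Nat.Coprime (orderOf u) n ∧
      Nat.Coprime (orderOf v) m)) ↔ IsConj (x ^ a) g := by
  have hm : m ∣ a := (Nat.modEq_zero_iff_dvd).mp ha0
  have hord : ∀ y : G, orderOf y ∣ m * n := fun y => hmn ▸ orderOf_dvd_natCard y
  constructor
  · rintro ⟨v, hvg, u, rfl, huv, hu, hv⟩
    have hu' : orderOf u ∣ m := hu.dvd_of_dvd_mul_right (hord u)
    have hv' : orderOf v ∣ n := hv.dvd_of_dvd_mul_left (hord v)
    have h1 : u ^ a = 1 := orderOf_dvd_iff_pow_eq_one.mp (hu'.trans hm)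
    have h2 : v ^ a = v := by
      calc v ^ a = v ^ 1 := (pow_eq_pow_iff_modEq).mpr (ha1.of_dvd hv')
        _ = v := pow_one v
    rw [huv.mul_pow, h1, h2, one_mul]
    exact hvg
  · intro h
    refine ⟨x ^ a, h, x * (x ^ a)⁻¹, by group, ?_, ?_, ?_⟩
    · exact ((Commute.refl x).pow_right a).mul_left (Commute.refl (x ^ a)).inv_left
    · have hxa : Commute x (x ^ a)⁻¹ := ((Commute.refl x).pow_right a).inv_right
      have h1 : (x * (x ^ a)⁻¹) ^ m = 1 := by
        rw [hxa.mul_pow, inv_pow, ← pow_mul, mul_inv_eq_one]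
        apply (pow_eq_pow_iff_modEq).mpr
        have : a * m ≡ 1 * m [MOD n * m] := Nat.ModEq.mul_right' m ha1
        rw [one_mul] at this
        exact (this.of_dvd (by rw [mul_comm n m]; exact hord x)).symm
      have : orderOf (x * (x ^ a)⁻¹) ∣ m := orderOf_dvd_of_pow_eq_one h1
      exact Nat.Coprime.coprime_dvd_left this hcop
    · have h1 : (x ^ a) ^ n = 1 := by
        rw [← pow_mul]
        apply orderOf_dvd_iff_pow_eq_one.mp
        exact (hord x).trans (Nat.mul_dvd_mul_right hm n)
      have : orderOf (x ^ a) ∣ n := orderOf_dvd_of_pow_eq_one h1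
      exact Nat.Coprime.coprime_dvd_left this hcop.symm


/-- Let G be a finite group of order m * n with m and n coprime, and g an element whose order is coprime to m. Every x in G factors uniquely as x = u * v with u, v commuting, the order of u coprime to n and the order of v coprime to m; let ϑ be the function on G equal to n at those x whose factor v is conjugate to g and equal to 0 elsewhere. Then ϑ is a linear combination of the irreducible characters of G with algebraic-integer coefficients. -/
theorem result {G : Type*} [Group G] [Fintype G] (m n : ℕ) (hmn : Nat.card G = m * n) (hcop : Nat.Coprime m n) (g : G) (hg : Nat.Coprime (orderOf g) m) (ϑ : G → ℂ) (hϑ1 : ∀ x : G, (∃ v : G, IsConj v g ∧ (∃ u : G, x = u * v ∧ Commute u v ∧ Nat.Coprime (orderOf u) n ∧ Nat.Coprime (orderOf v) m)) → ϑ x = n) (hϑ0 : ∀ x : G, (¬ ∃ v : G, IsConj v g ∧ (∃ u : G, x = u * v ∧ Commute u v ∧ Nat.Coprime (orderOf u) n ∧ Nat.Coprime (orderOf v) m)) → ϑ x = 0) : ∃ c : Cfsg.IrrCharacter G → ℂ, (∀ χ, c χ ∈ Cfsg.AlgInt) ∧ ϑ = ∑ᶠ χ : Cfsg.IrrCharacter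 G, c χ • (χ : G → ℂ) := by
  classical
  obtain ⟨a, ha1, ha0⟩ : ∃ a : ℕ, a ≡ 1 [MOD n] ∧ a ≡ 0 [MOD m] := by
    have := Nat.chineseRemainder hcop.symm 1 0
    exact ⟨this.1, this.2.1, this.2.2⟩
  have hform : ∀ x : G, ϑ x = if IsConj (x ^ a) g then (n : ℂ) else 0 := by
    intro x
    by_cases h : IsConj (x ^ a) g
    · rw [if_pos h]
      exact hϑ1 x ((section_iff hmn hcop ha1 ha0 g x).mpr h)
    · rw [if_neg h]
      exact hϑ0 x (fun h' => h ((section_iff hmn hcop ha1 ha0 g x).mp h'))
  have hcl : IsClassFunction G ϑ := by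
    intro x h
    rw [hform, hform, conj_pow]
    have : IsConj (h * x ^ a * h⁻¹) g ↔ IsConj (x ^ a) g := by
      constructor
      · intro h1
        exact (isConj_iff.mpr ⟨h, rfl⟩ : IsConj (x ^ a) (h * x ^ a * h⁻¹)).trans h1
      · intro h1
        exact (isConj_iff.mpr ⟨h, rfl⟩ : IsConj (x ^ a) (h * x ^ a * h⁻¹)).symm.trans h1
    simp only [this]
  have : Fintype (IrrCharacter G) := Fintype.ofFinite _
  have hmem : ϑ ∈ GC algIntSubring G := by
    apply mem_GC_of_forall_elementary algIntSubring_isIntegral
      (algIntSubring_root _ Nat.card_pos) hcl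
    intro E p hp hE
    have : Fintype E := Fintype.ofFinite E
    have : Group.IsNilpotent E := isNilpotent_of_isElementary hp hE
    have hEc : Nat.card E ∣ m * n := hmn ▸ Subgroup.card_subgroup_dvd_card E
    set π := powCrtHom hcop hEc ha1 ha0 with hπ
    have hPn : Nat.card π.range ∣ n := card_range_powCrtHom_dvd hcop hEc ha1 ha0
    let μ : π.range → ℂ := fun y => if IsConj (((y : E) : G)) g then (n : ℂ) else 0
    have : Fintype π.range := Fintype.ofFinite _
    have : Fintype (IrrCharacter π.range) := Fintype.ofFinite _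
    have hμ : μ ∈ GC algIntSubring π.range := by
      apply mem_GC_of_classInner
      · intro y h
        have : IsConj ((((h * y * h⁻¹ : π.range) : E) : G)) g ↔ IsConj (((y : E) : G)) g := by
          have hc : IsConj (((y : E) : G)) ((((h * y * h⁻¹ : π.range) : E) : G)) :=
            isConj_iff.mpr ⟨((h : E) : G), by simp⟩
          exact ⟨fun h1 => hc.trans h1, fun h1 => hc.symm.trans h1⟩
        simp only [μ, this]
      · intro β
        obtain ⟨k, hk⟩ := hPn
        have hne : (Nat.card π.range : ℂ) ≠ 0 := by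
          exact_mod_cast (Nat.card_pos (α := π.range)).ne'
        have : classInner μ (β : π.range → ℂ) =
            ∑ y : π.range, (if IsConj (((y : E) : G)) g then (k : ℂ) else 0) *
              conj ((β : π.range → ℂ) y) := by
          unfold classInner
          rw [Finset.mul_sum]
          apply Finset.sum_congr rfl
          intro y _
          simp only [μ]
          split_ifs
          · rw [hk]; push_cast; field_simp
          · simp
        rw [this, mem_algIntSubring]
        apply Subalgebra.sum_mem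
        intro y _
        apply Subalgebra.mul_mem
        · split_ifs
          · exact natCast_mem _ k
          · exact Subalgebra.zero_mem _
        · have h1 : IsIntegral ℤ ((β : π.range → ℂ) y) := irr_isIntegral β y
          exact h1.map (Complex.conjAe.toAlgHom.restrictScalars ℤ)
    have heq : (fun e : E => ϑ e) = fun e => μ (π.rangeRestrict e) := by
      funext e
      rw [hform]
      simp only [μ, MonoidHom.coe_rangeRestrict, hπ, powCrtHom_apply, Subgroup.coe_pow]
    rw [heq]
    exact comp_mem_GC π.rangeRestrict hμ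
  obtain ⟨_, hc⟩ := mem_GC_iff.mp hmem
  refine ⟨fun χ => classInner ϑ (χ : G → ℂ), fun χ => hc χ, ?_⟩
  rw [finsum_eq_sum_of_fintype]
  exact classFunction_expansion ϑ hcl

end Cfsg.Agent.S0875
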