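import Cfsg.Statements.S0876
import Cfsg.Agent.Lib.Helper76.PRegular

set_option autoImplicit false
open Cfsg

namespace Cfsg.Agent.S0876

/-- Let G be a finite group, p a prime and M a maximal ideal of the ring of algebraic integers containing p. Let x, y be elements with p-parts a and b (so a⁻¹ * x and b⁻¹ * y are their p-regular parts). Then a⁻¹ * x and b⁻¹ * y are conjugate in G if and only if, for every irreducible character χ, the difference χ x - χ y lies in the local ideal at M. -/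
theorem result {G : Type*} [Group G] [Finite G] (p : ℕ) (M : Ideal Cfsg.AlgInt) (hM : Cfsg.IsPModular p M) (x y a b : G) (ha : Cfsg.IsPPart p x a) (hb : Cfsg.IsPPart p y b) : IsConj (a⁻¹ * x) (b⁻¹ * y) ↔ ∀ χ : Cfsg.IrrCharacter G, Cfsg.MemLocalIdeal M ((χ : G → ℂ) x - (χ : G → ℂ) y) := by
  have hp : p.Prime := hM.1
  have hMp : M.IsPrime := Cfsg.Agent.Lib.Helper16.isPModular_isPrime hM
  have hxa := fun χ => Cfsg.Agent.Lib.Helper76.memLocalIdeal_irr_sub_pPart p M hM χ x a ha
  have hyb := fun χ => Cfsg.Agent.Lib.Helper76.memLocalIdeal_irr_sub_pPart p M hM χ y b hb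
  constructor
  · intro hconj χ
    have heq : (χ : G → ℂ) (a⁻¹ * x) = (χ : G → ℂ) (b⁻¹ * y) :=
      Cfsg.Agent.Lib.Helper3.isClassFunction_iff_isConj.mp (Cfsg.Agent.Lib.Helper3.IsIrrCharacter.isClassFunction χ.2) _ _ hconj
    have h1 := hxa χ
    have h2 := hyb χ
    rw [heq] at h1
    rw [Cfsg.Agent.Lib.Helper16.memLocalIdeal_sub_comm] at h2
    exact Cfsg.Agent.Lib.Helper16.memLocalIdeal_sub_trans h1 h2
  · intro hall
    have hreg : ∀ (z c : G), Cfsg.IsPPart p z c → (orderOf (c⁻¹ * z)).Coprime p := by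
      intro z c hc
      obtain ⟨w, hzw, -, -, hw⟩ := hc
      have : c⁻¹ * z = w := by rw [← hzw]; group
      rw [this]
      exact ((Nat.Prime.coprime_iff_not_dvd hp).mpr hw).symm
    apply Cfsg.Agent.Lib.Helper76.isConj_of_forall_memLocalIdeal p M hM _ _ (hreg x a ha) (hreg y b hb)
    intro χ
    have h1 := hxa χ
    have h2 := hyb χ
    rw [Cfsg.Agent.Lib.Helper16.memLocalIdeal_sub_comm] at h1
    exact Cfsg.Agent.Lib.Helper16.memLocalIdeal_sub_trans
      (Cfsg.Agent.Lib.Helper16.memLocalIdeal_sub_trans h1 (hall χ)) h2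

end Cfsg.Agent.S0876
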