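import Cfsg.Statements.S0877
import Cfsg.Agent.Lib.Helper3.BSNorm
-- import your own Cfsg.Agent.* helpers here

set_option autoImplicit false
open Cfsg

namespace Cfsg.Agent.S0877

open Cfsg.Agent.Lib.Helper3 Cfsg.Agent.Lib.Helper3.BS in
theorem star_isIrrCharacter {G : Type*} [Group G] [Fintype G] {H : Subgroup G} [Fintype H]
    [Fintype (IrrCharacter H)] (hy : Hyp H) (θ : IrrCharacter H) :
    IsIrrCharacter G (star hy (θ : H → ℂ)) := by
  have hcl : IsClassFunction H (θ : H → ℂ) := IsIrrCharacter.isClassFunction θ.2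
  apply Cfsg.Agent.Lib.Helper74.isIrrCharacter_of_int_coeff (star_isClassFunction hy hcl)
  · intro χ
    exact isGeneralizedCharacter_classInner_int
      (star_isGeneralizedCharacter hy (IsIrrCharacter.isCharacter θ.2)) χ
  · rw [classInner_star hy hcl hcl, classInner_irrCharacter θ.2 θ.2, if_pos rfl]
  · rw [star_one_eq hy hcl]
    obtain ⟨n, hn, h1⟩ := Cfsg.Agent.Lib.Helper26.irr_deg_pos _ θ.2
    rw [h1]
    simpa using hn

/-- Let H be a subgroup of the finite group G whose order is coprime to its index. Suppose that elements of H conjugate in G are conjugate in H, and that every subgroup E of G that is elementary for some prime (in the sense used for Brauer's characterisation of characters) and whose order divides the order of H is conjugate to a subgroup of H. Then there is a normal subgroup K with K ⊔ H = ⊤ and K ⊓ H trivial. -/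
theorem result {G : Type*} [Group G] [Finite G] (H : Subgroup G) (hHall : Nat.Coprime (Nat.card H) H.index) (hfus : ∀ x ∈ H, ∀ y ∈ H, IsConj x y → ∃ h ∈ H, h * x * h⁻¹ = y) (helem : ∀ (E : Subgroup G) (p : ℕ), p.Prime → Cfsg.IsElementary p E → Nat.card E ∣ Nat.card H → ∃ g : G, E.map (MulAut.conj g).toMonoidHom ≤ H) : ∃ K : Subgroup G, K.Normal ∧ K ⊔ H = ⊤ ∧ K ⊓ H = ⊥ := by

  classical
  haveI : Fintype G := Fintype.ofFinite G
  haveI : Fintype H := Fintype.ofFinite H
  haveI : Fintype (IrrCharacter H) := Fintype.ofFinite _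
  have hy : Cfsg.Agent.Lib.Helper3.BS.Hyp H := ⟨hHall, hfus, helem⟩
  -- representations affording the θ*
  have hirr := fun θ : IrrCharacter H => star_isIrrCharacter hy θ
  choose n ρ hρirr hρ using hirr
  let K : Subgroup G := ⨅ θ : IrrCharacter H, MonoidHom.ker (ρ θ)
  have hKn : K.Normal := Subgroup.normal_iInf_normal fun θ => MonoidHom.normal_ker _
  have hmemK : ∀ x : G, x ∈ K ↔ Cfsg.Agent.Lib.Helper3.BS.rep hy x = 1 := by
    intro x
    have h1 : x ∈ K ↔ ∀ θ : IrrCharacter H, (θ : H → ℂ) (Cfsg.Agent.Lib.Helper3.BS.rep hy x)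
        = (θ : H → ℂ) 1 := by
      simp only [K, Subgroup.mem_iInf, MonoidHom.mem_ker]
      refine forall_congr' fun θ => ?_
      have h2 := Cfsg.Agent.Lib.Helper3.character_eq_finrank_iff (ρ θ) x
      have h3 : (ρ θ).character x = (θ : H → ℂ) (Cfsg.Agent.Lib.Helper3.BS.rep hy x) := by
        rw [hρ θ]; rfl
      have h4 : ((Module.finrank ℂ (Fin (n θ) → ℂ) : ℕ) : ℂ) = (θ : H → ℂ) 1 := by
        rw [← Representation.char_one (ρ θ), hρ θ]
        exact Cfsg.Agent.Lib.Helper3.BS.star_one_eq hy
          (Cfsg.Agent.Lib.Helper3.IsIrrCharacter.isClassFunction θ.2)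
      rw [h3, h4] at h2
      rw [h2]
      rfl
    rw [h1, ← Cfsg.Agent.Lib.Helper3.isConj_iff_irrCharacter]
    constructor
    · intro h
      exact isConj_one_left.mp h
    · intro h
      rw [h]
  have hKH : K ⊓ H = ⊥ := by
    rw [eq_bot_iff]
    intro x hx
    obtain ⟨hxK, hxH⟩ := Subgroup.mem_inf.mp hx
    rw [hmemK] at hxK
    have h1 := Cfsg.Agent.Lib.Helper3.BS.isConj_rep_self hy ⟨x, hxH⟩
    have h2 : Cfsg.Agent.Lib.Helper3.BS.rep hy ((⟨x, hxH⟩ : H) : G) = 1 := hxK
    rw [h2] at h1
    have h3 : (⟨x, hxH⟩ : H) = 1 := isConj_one_left.mp h1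
    rw [Subgroup.mem_bot]
    exact congrArg Subtype.val h3
  have hcard : Nat.card K * Nat.card H = Nat.card G := by
    have hcl : IsClassFunction H (fun h : H => if h = 1 then (1 : ℂ) else 0) := by
      intro g h
      simp only
      congr 1
      apply propext
      constructor
      · intro h1
        have : g = h⁻¹ * (h * g * h⁻¹) * h := by group
        rw [this, h1]; group
      · intro h1
        rw [h1]; group
    have h1 := Cfsg.Agent.Lib.Helper3.BS.mean_star hy hcl
    have h2 : ∑ x : G, (if Cfsg.Agent.Lib.Helper3.BS.rep hy x = 1 then (1 : ℂ) else 0) =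
        (Nat.card K : ℂ) := by
      rw [← Finset.sum_filter, Finset.sum_const, nsmul_eq_mul, mul_one]
      congr 1
      rw [Nat.card_eq_fintype_card, Fintype.card_subtype]
      congr 1
      ext x
      simp only [Finset.mem_filter, Finset.mem_univ, true_and]
      exact (hmemK x).symm
    have h3 : ∑ h : H, (if h = 1 then (1 : ℂ) else 0) = 1 := by
      rw [Finset.sum_ite_eq' Finset.univ (1 : H) (fun _ => (1 : ℂ))]
      simp
    rw [h2, h3] at h1
    have hG : (Nat.card G : ℂ) ≠ 0 := Cfsg.Agent.Lib.Helper3.card_ne_zero_complex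
    have hH : (Nat.card H : ℂ) ≠ 0 := Cfsg.Agent.Lib.Helper3.card_ne_zero_complex
    have h4 : (Nat.card K : ℂ) * (Nat.card H : ℂ) = (Nat.card G : ℂ) := by
      field_simp at h1
      linear_combination h1
    exact_mod_cast h4
  refine ⟨K, hKn, ?_, hKH⟩
  have hcompl : K.IsComplement' H :=
    Subgroup.isComplement'_of_card_mul_and_disjoint hcard (disjoint_iff.mpr hKH)
  exact hcompl.sup_eq_top

end Cfsg.Agent.S0877
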