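import Cfsg.Statements.S0879
import Cfsg.Agent.Lib.Helper59.Zassenhaus

set_option autoImplicit false
open Cfsg

namespace Cfsg.Agent.S0879

open MulAction Cfsg.Agent.Lib.Helper59 in
/-- Let G be a Zassenhaus group on the finite set Ω and E the stabilizer of two distinct points a, b. Then an element outside the normalizer of E conjugates no non-identity element of E into E, and E has index 2 in its normalizer. -/
theorem result {G Ω : Type*} [Group G] [Finite G] [MulAction G Ω] [Fintype Ω] (hZ : Cfsg.IsZassenhausGroup G Ω) {a b : Ω} (hab : a ≠ b) : (∀ g : G, g ∉ Subgroup.normalizer ((MulAction.stabilizer G a ⊓ MulAction.stabilizer G b : Subgroup G) : Set G) → ∀ x ∈ (MulAction.stabilizer G a ⊓ MulAction.stabilizer G b : Subgroup G), g * x * g⁻¹ ∈ (MulAction.stabilizer G a ⊓ MulAction.stabilizer G b : Subgroup G) → x = 1) ∧ ((MulAction.stabilizer G a ⊓ MulAction.stabilizer G b : Subgroup G).subgroupOf (Subgroup.normalizer ((MulAction.stabilizer G a ⊓ MulAction.stabilizer G b : Subgroup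 G) : Set G))).index = 2 := by
  refine ⟨?_, ?_⟩
  · intro g hg x hx hgx
    by_contra hx1
    rw [mem_stab2] at hx hgx
    exact hg (mem_normalizer_stab2 (zass_conj hZ hab hx1 hx.1 hx.2 hgx.1 hgx.2))
  · rw [Subgroup.index_eq_two_iff]
    obtain ⟨t, hta, htb⟩ := zass_two_trans hZ a b b a hab (Ne.symm hab)
    have htN : t ∈ Subgroup.normalizer ((stabilizer G a ⊓ stabilizer G b : Subgroup G) : Set G) :=
      mem_normalizer_stab2 (Or.inr ⟨hta, htb⟩)
    refine ⟨⟨t, htN⟩, ?_⟩
    intro g
    rw [Subgroup.mem_subgroupOf, Subgroup.mem_subgroupOf, mem_stab2, mem_stab2]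
    show Xor (((g : G) * t) • a = a ∧ ((g : G) * t) • b = b) ((g : G) • a = a ∧ (g : G) • b = b)
    rw [mul_smul, mul_smul, hta, htb]
    rcases zass_of_mem_normalizer hZ hab g.2 with ⟨ha, hb⟩ | ⟨ha, hb⟩
    · right
      refine ⟨⟨ha, hb⟩, ?_⟩
      rintro ⟨h1, -⟩
      rw [hb] at h1
      exact hab h1.symm
    · left
      refine ⟨⟨hb, ha⟩, ?_⟩
      rintro ⟨h1, -⟩
      rw [ha] at h1
      exact hab h1.symm

end Cfsg.Agent.S0879
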