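import Cfsg.Statements.S0880
import Mathlib
import Cfsg.Agent.S0738
import Cfsg.Agent.S0741
-- import your own Cfsg.Agent.* helpers here

set_option autoImplicit false
open Cfsg

namespace Cfsg.Agent.S0880

open MulAction
open Cfsg.Agent.S0738 (IsAct elems mem_elems card_elems orb mem_orb self_mem_orb card_orb_mul cj
  isAct_cj isAct_smul)
open Cfsg.Agent.S0741 (tps mem_tps card_tps_eq)

section Aux

variable {G Ω : Type*} [Group G] [MulAction G Ω]

/-- The diagonal action on pairs. -/
def actP (g : G) (p : Ω × Ω) : Ω × Ω := (g • p.1, g • p.2)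

theorem isAct_actP : IsAct (actP (G := G) (Ω := Ω)) where
  one := fun p => by simp [actP]
  mul := fun g h p => by simp [actP, mul_smul]

open Classical in
/-- Orbit-stabiliser with an arbitrary decidability instance. -/
theorem card_orb_mul' [Fintype G] {X : Type*} {act : G → X → X} (hact : IsAct act)
    (K : Subgroup G) (v : X) [DecidablePred fun k => act k v = v] :
    (orb act K v).card * ((elems K).filter (fun k => act k v = v)).card = (elems K).card := by
  convert card_orb_mul hact K v

theorem elems_top [Fintype G] : elems (⊤ : Subgroup G) = Finset.univ := by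
  ext g
  simp [mem_elems]

/-- The final arithmetic. -/
theorem arith {A B N k : ℕ} (hB : 0 < B) (hAB : 3 * B < A) (h2N : 2 * N + B = A)
    (hNk : N * k = A) : False := by
  have h1 : k * (2 * N) = 2 * A := by rw [← hNk]; ring
  have h2 : 2 * N = A - B := by omega
  rcases Nat.lt_or_ge k 3 with hk | hk
  · have : k * (2 * N) ≤ 2 * (2 * N) := Nat.mul_le_mul_right _ (by omega)
    omega
  · have : 3 * (2 * N) ≤ k * (2 * N) := Nat.mul_le_mul_right _ hk
    omega

end Aux

/-- Let G be a finite simple Zassenhaus group on Ω with n points whose two-point stabilizer E has odd order less than n - 2. Then there are two elements of G, each fixing no point of Ω, that are not conjugate. -/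
theorem result {G Ω : Type*} [Group G] [Finite G] [MulAction G Ω] [Fintype Ω] (hZ : Cfsg.IsZassenhausGroup G Ω) {a b : Ω} (hab : a ≠ b) [IsSimpleGroup G] (hodd : Odd (Nat.card ↥(MulAction.stabilizer G a ⊓ MulAction.stabilizer G b : Subgroup G))) (hlt : Nat.card ↥(MulAction.stabilizer G a ⊓ MulAction.stabilizer G b : Subgroup G) < Fintype.card Ω - 2) : ∃ x y : G, (∀ c : Ω, x • c ≠ c) ∧ (∀ c : Ω, y • c ≠ c) ∧ ¬ IsConj x y := by
  classical
  have : Fintype G := Fintype.ofFinite G
  obtain ⟨-, h2, h3, ⟨g₀, hg₀1, x₀, y₀, hxy₀, hg₀x, hg₀y⟩, -⟩ := hZ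
  change Odd (Nat.card (tps G a b)) at hodd
  change Nat.card (tps G a b) < Fintype.card Ω - 2 at hlt
  set e := Nat.card (tps G a b) with he
  set n := Fintype.card Ω with hn
  have h2' : ∀ {a b c d : Ω}, a ≠ b → c ≠ d → ∃ g : G, g • a = c ∧ g • b = d :=
    is_two_pretransitive_iff.mp h2
  -- e ≥ 3
  have he3 : 3 ≤ e := by
    have h1 : Nat.card (tps G x₀ y₀) = e := card_tps_eq h2 hab hxy₀
    have h2 : 1 < Nat.card (tps G x₀ y₀) := by
      rw [Finite.one_lt_card_iff_nontrivial]
      exact ⟨⟨⟨g₀, mem_tps.mpr ⟨hg₀x, hg₀y⟩⟩, 1, fun h => hg₀1 (congrArg Subtype.val h)⟩⟩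
    rcases hodd with ⟨m, hm⟩
    omega
  have hn5 : 5 < n := by omega
  -- number of fixed points
  set fx : G → ℕ := fun g => (Finset.univ.filter (fun x : Ω => g • x = x)).card with hfx
  have hfx_one : fx 1 = n := by
    simp only [hfx, one_smul, Finset.filter_true_of_mem, implies_true, Finset.card_univ]
    rfl
  have hfx_le : ∀ g : G, g ≠ 1 → fx g ≤ 2 := by
    intro g hg
    by_contra hcon
    have hcon : 2 < fx g := by omega
    obtain ⟨x, hx, y, hy, z, hz, hxy, hxz, hyz⟩ := Finset.two_lt_card.mp hcon
    rw [Finset.mem_filter] at hx hy hz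
    exact hg (h3 g x y z hxy hyz hxz hx.2 hy.2 hz.2)
  -- |G| = (n*n - n) * e
  have hGcard : (n * n - n) * e = Fintype.card G := by
    have h1 := card_orb_mul' (isAct_actP (G := G) (Ω := Ω)) ⊤ (a, b)
    have horb : orb (actP (G := G) (Ω := Ω)) ⊤ (a, b) = (Finset.univ : Finset Ω).offDiag := by
      ext ⟨x, y⟩
      rw [mem_orb, Finset.mem_offDiag]
      constructor
      · rintro ⟨g, -, hg⟩
        simp only [actP, Prod.mk.injEq] at hg
        refine ⟨Finset.mem_univ _, Finset.mem_univ _, ?_⟩
        rw [← hg.1, ← hg.2]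
        exact fun h => hab (smul_left_cancel g h)
      · rintro ⟨-, -, hxy⟩
        obtain ⟨g, hga, hgb⟩ := h2' hab hxy
        exact ⟨g, Subgroup.mem_top g, by simp [actP, hga, hgb]⟩
    have hstab : (elems (⊤ : Subgroup G)).filter (fun g => actP g (a, b) = (a, b)) =
        elems (tps G a b) := by
      ext g
      rw [Finset.mem_filter, mem_elems, mem_elems, mem_tps]
      simp [actP]
    rw [horb, hstab, Finset.offDiag_card, Finset.card_univ, card_elems, elems_top,
      Finset.card_univ] at h1
    exact h1
  -- S₁ = |G|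
  have hS1 : ∑ g : G, fx g = Fintype.card G := by
    have h1 : ∀ x : Ω, n * (Finset.univ.filter (fun g : G => g • x = x)).card = Fintype.card G := by
      intro x
      have h := card_orb_mul' (isAct_smul (G := G) (Ω := Ω)) ⊤ x
      have horb : orb (fun (g : G) (ω : Ω) => g • ω) ⊤ x = Finset.univ := by
        ext y
        simp only [mem_orb, Finset.mem_univ, iff_true]
        by_cases hxy : x = y
        · exact ⟨1, Subgroup.mem_top _, by rw [one_smul, hxy]⟩
        · obtain ⟨z, hz⟩ : ∃ z : Ω, z ≠ x ∧ z ≠ y := by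
            by_contra hcon
            push Not at hcon
            have : (Finset.univ : Finset Ω) ⊆ {x, y} := by
              intro z _
              by_cases hzx : z = x
              · simp [hzx]
              · simp [hcon z hzx]
            have := Finset.card_le_card this
            rw [Finset.card_univ] at this
            have := Finset.card_le_two (a := x) (b := y)
            omega
          obtain ⟨g, hg, -⟩ := h2' (Ne.symm hz.1) (Ne.symm hz.2)
          exact ⟨g, Subgroup.mem_top _, hg⟩
      rw [horb, elems_top, Finset.card_univ, Finset.card_univ] at h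
      exact h
    have h2 : ∑ g : G, fx g = ∑ x : Ω, (Finset.univ.filter (fun g : G => g • x = x)).card := by
      simp only [hfx, Finset.card_filter]
      exact Finset.sum_comm
    have h3 : n * ∑ g : G, fx g = n * Fintype.card G := by
      rw [h2, Finset.mul_sum, Finset.sum_congr rfl (fun x _ => h1 x), Finset.sum_const,
        Finset.card_univ, smul_eq_mul]
    exact Nat.eq_of_mul_eq_mul_left (by omega) h3
  -- S₂ = |G|
  have hS2 : ∑ g : G, (fx g * fx g - fx g) = Fintype.card G := by
    have h1 : ∀ g : G, fx g * fx g - fx g =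
        ∑ p ∈ (Finset.univ : Finset Ω).offDiag, if (g • p.1 = p.1 ∧ g • p.2 = p.2) then 1 else 0 := by
      intro g
      rw [← Finset.offDiag_card, ← Finset.card_filter]
      congr 1
      ext ⟨x, y⟩
      simp only [Finset.mem_offDiag, Finset.mem_filter, Finset.mem_univ, true_and]
      tauto
    have h2 : ∀ p ∈ (Finset.univ : Finset Ω).offDiag,
        (∑ g : G, if (g • p.1 = p.1 ∧ g • p.2 = p.2) then 1 else 0) = e := by
      rintro ⟨x, y⟩ hp
      have hxy : x ≠ y := by simpa using hp
      rw [← Finset.card_filter, he, ← card_tps_eq h2 hab hxy, ← card_elems]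
      congr 1
      ext g
      simp [mem_elems]
    rw [Finset.sum_congr rfl (fun g _ => h1 g), Finset.sum_comm, Finset.sum_congr rfl h2,
      Finset.sum_const, Finset.offDiag_card, Finset.card_univ, smul_eq_mul]
    exact hGcard
  -- the fixed-point-free elements
  set F0 : Finset G := Finset.univ.filter (fun g => fx g = 0) with hF0
  have hF0mem : ∀ g : G, g ∈ F0 ↔ ∀ c : Ω, g • c ≠ c := by
    intro g
    rw [hF0, Finset.mem_filter]
    simp only [Finset.mem_univ, true_and, hfx, Finset.card_eq_zero, Finset.filter_eq_empty_iff]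
    constructor
    · intro h c
      exact h trivial
    · intro h c _
      exact h c
  set B := (n - 1) * (n - 2) with hB
  -- pointwise identity
  have hpt : ∀ g : G, (fx g * fx g - fx g) + 2 =
      2 * fx g + (if g = 1 then B else if fx g = 0 then 2 else 0) := by
    intro g
    by_cases hg : g = 1
    · rw [if_pos hg, hg, hfx_one, hB]
      obtain ⟨m, hm⟩ : ∃ m, n = m + 3 := ⟨n - 3, by omega⟩
      rw [hm]
      have h1 : m + 3 - 1 = m + 2 := by omega
      have h2 : m + 3 - 2 = m + 1 := by omega
      rw [h1, h2]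
      have h3 : (m + 3) * (m + 3) - (m + 3) = (m + 3) * (m + 2) := by
        have : (m + 3) * (m + 3) = (m + 3) * (m + 2) + (m + 3) := by ring
        omega
      rw [h3]
      ring
    · rw [if_neg hg]
      have := hfx_le g hg
      interval_cases (fx g) <;> simp
  have hsum : 2 * F0.card + B = Fintype.card G := by
    have h1 := Finset.sum_congr (s₁ := (Finset.univ : Finset G)) rfl (fun g _ => hpt g)
    rw [Finset.sum_add_distrib, Finset.sum_add_distrib, ← Finset.mul_sum, hS1, hS2,
      Finset.sum_const, Finset.card_univ, smul_eq_mul] at h1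
    have h4 : ∑ g : G, (if g = 1 then B else if fx g = 0 then 2 else 0) = B + 2 * F0.card := by
      rw [← Finset.add_sum_erase Finset.univ _ (Finset.mem_univ (1 : G)), if_pos rfl]
      congr 1
      have h5 : ∀ g ∈ Finset.univ.erase (1 : G),
          (if g = 1 then B else if fx g = 0 then 2 else 0) = if fx g = 0 then 2 else 0 := by
        intro g hg
        rw [if_neg (Finset.ne_of_mem_erase hg)]
      rw [Finset.sum_congr rfl h5, ← Finset.sum_filter, Finset.sum_const, smul_eq_mul, mul_comm]
      congr 1
      congr 1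
      ext g
      simp only [hF0, Finset.mem_filter, Finset.mem_erase, Finset.mem_univ, and_true, true_and,
        ne_eq, and_iff_right_iff_imp]
      intro hg h1
      rw [h1, hfx_one] at hg
      omega
    rw [h4] at h1
    omega
  -- sizes
  have hBpos : 0 < B := by
    rw [hB]
    exact Nat.mul_pos (by omega) (by omega)
  have hAB : 3 * B < Fintype.card G := by
    rw [← hGcard, hB]
    obtain ⟨m, hm⟩ : ∃ m, n = m + 3 := ⟨n - 3, by omega⟩
    rw [hm]
    have h1 : m + 3 - 1 = m + 2 := by omega
    have h2 : m + 3 - 2 = m + 1 := by omega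
    have h3 : (m + 3) * (m + 3) - (m + 3) = (m + 3) * (m + 2) := by
      have : (m + 3) * (m + 3) = (m + 3) * (m + 2) + (m + 3) := by ring
      omega
    rw [h1, h2, h3]
    calc 3 * ((m + 2) * (m + 1)) < 3 * ((m + 3) * (m + 2)) := by nlinarith
      _ = (m + 3) * (m + 2) * 3 := by ring
      _ ≤ (m + 3) * (m + 2) * e := Nat.mul_le_mul_left _ he3
  have hF0pos : 0 < F0.card := by omega
  obtain ⟨x₁, hx₁⟩ := Finset.card_pos.mp hF0pos
  by_contra hcon
  push Not at hcon
  -- F0 is the conjugacy class of x₁
  have hclass : orb cj (⊤ : Subgroup G) x₁ = F0 := by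
    ext y
    rw [mem_orb, hF0mem]
    constructor
    · rintro ⟨c, -, rfl⟩ d hd
      have hx := (hF0mem x₁).mp hx₁ (c⁻¹ • d)
      apply hx
      simp only [cj, mul_smul] at hd
      have h' : c⁻¹ • (c • x₁ • c⁻¹ • d) = c⁻¹ • d := by rw [hd]
      rwa [inv_smul_smul] at h'
    · intro hy
      have := hcon x₁ y ((hF0mem x₁).mp hx₁) hy
      obtain ⟨c, hc⟩ := isConj_iff.mp this
      exact ⟨c, Subgroup.mem_top _, hc⟩
  have hk := card_orb_mul' (isAct_cj (G := G)) ⊤ x₁
  rw [hclass, elems_top, Finset.card_univ] at hk
  exact arith hBpos hAB hsum hk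

end Cfsg.Agent.S0880
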