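import Cfsg.Statements.S0889
import Cfsg.Agent.Lib.Helper2.WinterChar
import Cfsg.Agent.Lib.Helper75.PGroupField3
import Cfsg.Agent.Lib.Helper15.BergerMaxSetup
import Cfsg.Agent.Lib.Helper15.BergerWolfGrp
import Cfsg.Agent.Lib.Helper83.BergerWolfMul
import Cfsg.Agent.Lib.Helper80.Berger.WolfMain
import Cfsg.Agent.Lib.Helper80.Berger.Tele

set_option autoImplicit false
open Cfsg

namespace Cfsg.Agent.S0889

/-- Let G be a finite solvable group and χ an irreducible character of G such that for every normal subgroup N the restriction of χ to N is a natural-number multiple of one irreducible character of N. Then χ is not induced from a character of any proper subgroup. -/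
theorem result {G : Type*} [Group G] [Fintype G] [Group.IsSolvable G] (χ : G → ℂ) (hχ : Cfsg.IsIrrCharacter G χ) (hqp : ∀ (N : Subgroup G), N.Normal → ∃ (ϑ : N → ℂ) (e : ℕ), Cfsg.IsIrrCharacter N ϑ ∧ (fun n : N => χ n) = (e : ℂ) • ϑ) (K : Subgroup G) (hK : K ≠ ⊤) (ψ : K → ℂ) (hψ : Cfsg.IsCharacter K ψ) : Cfsg.indFun K ψ ≠ χ := by
  classical
  intro hind
  have hψirr : IsIrrCharacter K ψ :=
    Cfsg.Agent.Lib.Helper75.isIrrCharacter_of_indFun_irr K hψ (hind ▸ hχ)
  obtain ⟨H, ψ', hH, hind'⟩ :=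
    Cfsg.Agent.Lib.Helper2.winter_exists_max_induced ⟨χ, hχ⟩ K hK ψ hψirr hind
  obtain ⟨K', p, n, hKn, hp, hNK, hsup, hinf, hcard, hn, hab, hexp, hirr, hfaith⟩ :=
    Cfsg.Agent.Lib.Helper15.Berger.max_setup H hH
  haveI := hKn
  haveI : Fact p.Prime := ⟨hp⟩
  have hsolv : Group.IsSolvable H := inferInstance
  have hNH : H.normalCore ≤ H := Subgroup.normalCore_le H
  have h1 := Cfsg.Agent.Lib.Helper80.Berger.tele H K' H.normalCore hsolv hNH hNK hsup hinf p n
    hcard χ hχ hqp ψ'.1 ψ'.2 hind'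
  have h2 := Cfsg.Agent.Lib.Helper15.Berger.wolf_group_of
    (fun p _ X V _ _ _ _ _ _ hexp φ hφ hirr =>
      Cfsg.Agent.Lib.Helper83.BergerWolfMul.wolf_mul_of_bound p
        (fun d => Cfsg.Agent.Lib.Helper80.Wolf.bound_all p d) hexp φ hφ hirr)
    H K' H.normalCore p n hsolv hNH hNK hcard hn hab hexp hirr hfaith
  omega

end Cfsg.Agent.S0889
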