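import Cfsg.Statements.S0890
import Cfsg.Agent.Lib.Helper15.Isaacs1132

set_option autoImplicit false
open Cfsg

namespace Cfsg.Agent.S0890

/-- Let L ≤ H < G with L normal in G, H a maximal subgroup and G / L solvable. Let ϑ be an irreducible character of H whose restriction to L is irreducible and whose induction χ to G is irreducible. Then there is a normal subgroup M of G containing L such that the restriction of χ to M is not a natural-number multiple of a single irreducible character of M. -/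
theorem result {G : Type*} [Group G] [Fintype G] (L H : Subgroup G) [L.Normal] (hLH : L ≤ H) (hmax : IsCoatom H) (hsolv : Group.IsSolvable (G ⧸ L)) (ϑ : H → ℂ) (hϑ : Cfsg.IsIrrCharacter H ϑ) (hϑL : Cfsg.IsIrrCharacter L (fun x : L => ϑ ⟨(x : G), hLH x.2⟩)) (hind : Cfsg.IsIrrCharacter G (Cfsg.indFun H ϑ)) : ∃ M : Subgroup G, M.Normal ∧ L ≤ M ∧ ¬ ∃ (φ : M → ℂ) (e : ℕ), Cfsg.IsIrrCharacter M φ ∧ (fun m : M => Cfsg.indFun H ϑ m) = (e : ℂ) • φ := by
  classical
  have hL₁n : (H.normalCore).Normal := Subgroup.normalCore_normal H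
  have hL₁H : H.normalCore ≤ H := Subgroup.normalCore_le H
  have hLL₁ : L ≤ H.normalCore := Subgroup.normal_le_normalCore.mpr hLH
  have hcore : ∀ N : Subgroup G, N.Normal → N ≤ H → N ≤ H.normalCore := by
    intro N hN h
    exact Subgroup.normal_le_normalCore.mpr h
  have hsolv₁ : Group.IsSolvable (G ⧸ H.normalCore) :=
    Cfsg.Agent.Lib.Helper15.isSolvable_quotient_of_le L H.normalCore hLL₁ hsolv
  have hϑL₁ : Cfsg.IsIrrCharacter H.normalCore
      (fun x : H.normalCore => ϑ ⟨(x : G), hL₁H x.2⟩) := by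
    apply Cfsg.Agent.Lib.Helper15.isIrrCharacter_of_res (L.subgroupOf H.normalCore)
    · exact Cfsg.Agent.Lib.Helper81.isCharacter_comp
        (Cfsg.Agent.Lib.Helper78.IsIrrCharacter.isCharacter hϑ) (Subgroup.inclusion hL₁H)
    · exact Cfsg.Agent.Lib.Helper81.isIrrCharacter_comp_mulEquiv hϑL
        (Subgroup.subgroupOfEquivOfLe hLL₁)
  obtain ⟨M, hMn, hL₁M, hM⟩ := Cfsg.Agent.Lib.Helper15.exists_not_homogeneous_of_core
    H.normalCore H hL₁H hmax hcore hsolv₁ ϑ hϑ hϑL₁ hind
  exact ⟨M, hMn, hLL₁.trans hL₁M, hM⟩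

end Cfsg.Agent.S0890
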