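import Cfsg.Statements.S0892
import Mathlib
import Cfsg.Agent.Lib.Helper53.AltPresented
import Cfsg.Agent.Lib.Helper53.A45Sylow

set_option autoImplicit false
open Cfsg

namespace Cfsg.Agent.S0892

/-- Let n ≥ 4 with n ≠ 6 and n ≠ 7, and let Γ be a finite group with a subgroup Z contained in both the centre and the commutator subgroup of Γ such that Γ / Z is isomorphic to the alternating group on n letters. Then Z has order at most 2. -/
theorem result (n : ℕ) (hn : 4 ≤ n) (h6 : n ≠ 6) (h7 : n ≠ 7) {Γ : Type*} [Group Γ] [Finite Γ] (Z : Subgroup Γ) [Z.Normal] (hZc : Z ≤ Subgroup.center Γ) (hZd : Z ≤ commutator Γ) (e : Γ ⧸ Z ≃* alternatingGroup (Fin n)) : Nat.card Z ≤ 2 := by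
  classical
  let π : Γ →* alternatingGroup (Fin n) := e.toMonoidHom.comp (QuotientGroup.mk' Z)
  have hπ : ∀ x : Γ, π x = e (QuotientGroup.mk x) := fun x => rfl
  have hsurj : Function.Surjective π := by
    intro a
    obtain ⟨x, hx⟩ := QuotientGroup.mk_surjective (e.symm a)
    exact ⟨x, by rw [hπ, hx, e.apply_symm_apply]⟩
  have hker : π.ker = Z := by
    ext x
    rw [MonoidHom.mem_ker, hπ, MulEquiv.map_eq_one_iff, QuotientGroup.eq_one_iff]
  have hc : π.ker ≤ Subgroup.center Γ := by rw [hker]; exact hZc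
  have hd : π.ker ≤ commutator Γ := by rw [hker]; exact hZd
  rw [← hker]
  rcases (by omega : n = 4 ∨ n = 5 ∨ 8 ≤ n) with rfl | rfl | h8
  · exact Cfsg.Agent.Lib.Helper53.A45.card_ker_le_two_A4 π ⟨hsurj, hc, hd⟩
  · exact Cfsg.Agent.Lib.Helper53.A45.card_ker_le_two_A5 π ⟨hsurj, hc, hd⟩
  · exact Cfsg.Agent.Lib.Helper53.AltMult.card_ker_le_two_of_eight_le n h8 π hsurj hc hd

end Cfsg.Agent.S0892
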