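import Mathlib
import Cfsg.Statements.S0893
import Cfsg.Agent.Lib.Helper15.Extraspecial
import Cfsg.Agent.Lib.Helper75.Clifford
import Cfsg.Agent.Lib.Helper77.Linear
import Cfsg.Agent.Lib.Helper78.CharMore
import Cfsg.Agent.S0148

set_option autoImplicit false
open Cfsg
open scoped ComplexConjugate

namespace Cfsg.Agent.S0893

open Cfsg.Agent.Lib.Helper15 Cfsg.Agent.Lib.Helper75

/-- `⟨χ, χ⟩` as a sum of squared norms. -/
lemma classInner_self_eq' {G : Type*} [Group G] [Fintype G] (f : G → ℂ) :
    Cfsg.classInner f f = (Nat.card G : ℂ)⁻¹ * ∑ g : G, ((‖f g‖ ^ 2 : ℝ) : ℂ) := by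
  unfold Cfsg.classInner
  congr 1
  apply Finset.sum_congr rfl
  intro g _
  rw [Complex.mul_conj, Complex.normSq_eq_norm_sq]

/-- Let P be an extraspecial p-group of order p ^ (2 * n + 1), A an abelian subgroup of order p ^ (n + 1), and λ a character of A of degree 1 that is not identically 1 on the elements of A lying in the centre of P. Then the function induced from λ to P is an irreducible character of P and vanishes at every element outside the centre. -/
theorem result {P : Type*} [Group P] [Fintype P] (p n : ℕ) [Fact p.Prime] (hP : Cfsg.IsExtraspecial p P) (hcard : Nat.card P = p ^ (2 * n + 1)) (A : Subgroup P) (hab : ∀ a ∈ A, ∀ b ∈ A, a * b = b * a) (hA : Nat.card A = p ^ (n + 1)) (lam : A → ℂ) (hlam : Cfsg.IsCharacter A lam ∧ lam 1 = 1) (hZ : ∃ a : A, (a : P) ∈ Subgroup.center P ∧ lam a ≠ 1) : Cfsg.IsIrrCharacter P (Cfsg.indFun A lam) ∧ ∀ x : P, x ∉ Subgroup.center P → Cfsg.indFun A lam x = 0 := by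
  classical
  have hp : p.Prime := Fact.out
  obtain ⟨hchar, hlam1⟩ := hlam
  obtain ⟨φ, hφ⟩ := Cfsg.Agent.Lib.Helper77.exists_monoidHom_of_degree_one hchar hlam1
  obtain ⟨a, haZ, hane⟩ := hZ
  have ha1 : (a : P) ≠ 1 := by
    intro h
    apply hane
    have : a = 1 := Subtype.ext h
    rw [this, hlam1]
  -- the centre lies in `A`
  have hZA : ∀ w ∈ Subgroup.center P, w ∈ A := by
    intro w hw
    have := extraspecial_mem_zpowers_of_center hP haZ ha1 hw
    exact (Subgroup.zpowers_le.mpr a.2) this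
  -- `lam` is nontrivial at every non-identity central element
  have hnt : ∀ z (hz : z ∈ Subgroup.center P), z ≠ 1 → lam ⟨z, hZA z hz⟩ ≠ 1 := by
    intro z hz hz1 h1
    obtain ⟨k, hk⟩ := Subgroup.mem_zpowers_iff.mp
      (extraspecial_mem_zpowers_of_center hP hz hz1 haZ)
    apply hane
    have e : a = (⟨z, hZA z hz⟩ : A) ^ k := Subtype.ext (by simp [hk])
    rw [e, hφ, map_zpow, Units.val_zpow_eq_zpow_val, ← hφ, h1, one_zpow]
  -- translation by central elements
  have hext : ∀ z (hz : z ∈ Subgroup.center P) (y : P),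
      Cfsg.extendByZero A lam (z * y) = lam ⟨z, hZA z hz⟩ * Cfsg.extendByZero A lam y := by
    intro z hz y
    by_cases hy : y ∈ A
    · rw [extendByZero_of_mem A lam (A.mul_mem (hZA z hz) hy), extendByZero_of_mem A lam hy,
        hφ, hφ, hφ, ← Units.val_mul, ← map_mul]
      rfl
    · have hzy : z * y ∉ A := fun h => hy (by
        have := A.mul_mem (A.inv_mem (hZA z hz)) h
        simpa using this)
      rw [extendByZero_of_not_mem A lam hzy, extendByZero_of_not_mem A lam hy, mul_zero]
  have hind : ∀ z (hz : z ∈ Subgroup.center P) (x : P),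
      Cfsg.indFun A lam (z * x) = lam ⟨z, hZA z hz⟩ * Cfsg.indFun A lam x := by
    intro z hz x
    unfold Cfsg.indFun
    have hc : ∀ g : P, g⁻¹ * (z * x) * g = z * (g⁻¹ * x * g) := by
      intro g
      have := Subgroup.mem_center_iff.mp hz g⁻¹
      rw [← mul_assoc, this]
      group
    simp only [hc, hext z hz]
    rw [← Finset.mul_sum]
    ring
  -- vanishing off the centre
  have hvan : ∀ x, x ∉ Subgroup.center P → Cfsg.indFun A lam x = 0 := by
    intro x hx
    obtain ⟨h, z, hz, hz1, hconj⟩ := extraspecial_exists_conj_eq_central_mul hP x hx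
    have h1 := isClassFunction_indFun A lam x h
    rw [hconj, hind z hz x] at h1
    by_contra hne
    apply hnt z hz hz1
    exact mul_right_cancel₀ hne (h1.trans (one_mul _).symm)
  refine ⟨?_, hvan⟩
  apply Cfsg.Agent.Lib.Helper78.isIrrCharacter_of_classInner_self_eq_one
    (Cfsg.Agent.S0148.result A lam hchar)
  rw [classInner_self_eq']
  have hAC : (Nat.card A : ℂ) ≠ 0 := by
    have : Nat.card A ≠ 0 := Nat.card_pos.ne'
    exact_mod_cast this
  have h1val : Cfsg.indFun A lam 1 = (p : ℂ) ^ n := by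
    unfold Cfsg.indFun
    have : ∀ g : P, g⁻¹ * 1 * g = 1 := by intro g; group
    simp only [this]
    rw [extendByZero_of_mem A lam A.one_mem]
    have e1 : lam ⟨1, A.one_mem⟩ = 1 := hlam1
    rw [e1, Finset.sum_const, Finset.card_univ, ← Nat.card_eq_fintype_card, hcard, hA, nsmul_eq_mul,
      mul_one]
    have e2 : p ^ (2 * n + 1) = p ^ (n + 1) * p ^ n := by ring
    rw [e2]
    have hpn : ((p ^ (n + 1) : ℕ) : ℂ) ≠ 0 := by
      exact_mod_cast pow_ne_zero (n + 1) hp.ne_zero
    push_cast at hpn ⊢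
    field_simp
  have hnormZ : ∀ z ∈ Subgroup.center P, ‖Cfsg.indFun A lam z‖ = (p : ℝ) ^ n := by
    intro z hz
    have h2 := hind z hz 1
    rw [mul_one] at h2
    have h3 : ‖lam ⟨z, hZA z hz⟩‖ = 1 := by
      rw [hφ]
      apply Complex.norm_eq_one_of_pow_eq_one (n := orderOf (⟨z, hZA z hz⟩ : A))
      · rw [← Units.val_pow_eq_pow_val, ← map_pow, pow_orderOf_eq_one, map_one, Units.val_one]
      · exact (orderOf_pos _).ne'
    rw [h2, norm_mul, h3, one_mul, h1val, norm_pow, Complex.norm_natCast]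
  have hterm : ∀ g : P, ((‖Cfsg.indFun A lam g‖ ^ 2 : ℝ) : ℂ) =
      if g ∈ Subgroup.center P then (((p : ℂ) ^ n) ^ 2) else 0 := by
    intro g
    split_ifs with hg
    · rw [hnormZ g hg]; push_cast; rfl
    · rw [hvan g hg]; simp
  simp only [hterm]
  rw [Finset.sum_ite, Finset.sum_const_zero, add_zero, Finset.sum_const, nsmul_eq_mul]
  have hcardZ : (Finset.univ.filter (· ∈ Subgroup.center P)).card = p := by
    rw [← extraspecial_card_center hP, Nat.card_eq_fintype_card, Fintype.card_subtype]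
  rw [hcardZ, hcard]
  have hpC : (p : ℂ) ≠ 0 := by exact_mod_cast hp.ne_zero
  push_cast
  field_simp
  ring
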