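import Mathlib
import Cfsg.Statements.S0894
import Cfsg.Agent.Lib.Helper15.Extraspecial
import Cfsg.Agent.Lib.Helper76.Central
import Cfsg.Agent.Lib.Helper77.Linear
import Cfsg.Agent.Lib.Helper78.CharMore
import Cfsg.Agent.Lib.Helper79.Integrality
import Cfsg.Agent.S0138

set_option autoImplicit false
open Cfsg
open scoped ComplexConjugate

namespace Cfsg.Agent.S0894

open Cfsg.Agent.Lib.Helper15

/-- `⟨χ, χ⟩` as a sum of squared norms. -/
lemma classInner_self_eq {G : Type*} [Group G] [Fintype G] (f : G → ℂ) :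
    Cfsg.classInner f f = (Nat.card G : ℂ)⁻¹ * ∑ g : G, ((‖f g‖ ^ 2 : ℝ) : ℂ) := by
  unfold Cfsg.classInner
  congr 1
  apply Finset.sum_congr rfl
  intro g _
  rw [Complex.mul_conj, Complex.normSq_eq_norm_sq]

/-- An irreducible representation on which the commutator subgroup acts trivially has all
character values of norm the degree. -/
lemma norm_eq_of_commutator_le_ker {G : Type*} [Group G] [Finite G] {V : Type*} [AddCommGroup V]
    [Module ℂ V] [FiniteDimensional ℂ V] (ρ : Representation ℂ G V) [ρ.IsIrreducible]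
    (h : ∀ c ∈ commutator G, ρ c = 1) (g : G) :
    ‖ρ.character g‖ = (Module.finrank ℂ V : ℝ) := by
  rw [Cfsg.Agent.S0138.result ρ g]
  refine ⟨_, Cfsg.Agent.Lib.Helper76.schur_eq_smul_id ρ (ρ g) ?_⟩
  intro x
  rw [← Module.End.mul_eq_comp, ← Module.End.mul_eq_comp, ← map_mul, ← map_mul]
  have hc : g * x * g⁻¹ * x⁻¹ ∈ commutator G := by
    rw [commutator_def]
    exact Subgroup.commutator_mem_commutator (Subgroup.mem_top g) (Subgroup.mem_top x)
  have e : g * x = (g * x * g⁻¹ * x⁻¹) * (x * g) := by group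
  rw [e, map_mul, h _ hc, one_mul]

/-- The degrees of the irreducible characters of an extraspecial group; the ones of degree `p ^ n`
vanish off the centre. -/
lemma degree_cases {P : Type*} [Group P] [Fintype P] (p n : ℕ) [hp : Fact p.Prime]
    (hP : Cfsg.IsExtraspecial p P) (hcard : Nat.card P = p ^ (2 * n + 1)) (χ : IrrCharacter P) :
    (χ : P → ℂ) 1 = 1 ∨ ((χ : P → ℂ) 1 = (p : ℂ) ^ n ∧
      ∀ x, x ∉ Subgroup.center P → (χ : P → ℂ) x = 0) := by
  classical
  obtain ⟨m, ρ, hirr, hρ⟩ := χ.2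
  have hfr : Module.finrank ℂ (Fin m → ℂ) = m := by simp
  have hm0 : m ≠ 0 := by
    have := Cfsg.Agent.Lib.Helper76.finrank_ne_zero_of_irr ρ
    rwa [hfr] at this
  have hmC : (m : ℂ) ≠ 0 := by exact_mod_cast hm0
  have hχ1 : (χ : P → ℂ) 1 = m := by rw [← hρ, Representation.char_one, hfr]
  have hself := Cfsg.Agent.Lib.Helper78.classInner_irr_self χ.2
  rw [classInner_self_eq] at hself
  have hcardC : (Nat.card P : ℂ) ≠ 0 := by
    have : Nat.card P ≠ 0 := Nat.card_pos.ne'
    exact_mod_cast this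
  have hsum : ∑ g : P, ((‖(χ : P → ℂ) g‖ ^ 2 : ℝ) : ℂ) = (Nat.card P : ℂ) := by
    have := congrArg (fun t => (Nat.card P : ℂ) * t) hself
    simp only [← mul_assoc, mul_inv_cancel₀ hcardC, one_mul, mul_one] at this
    exact this
  by_cases hcase : ∃ z ∈ Subgroup.center P, z ≠ 1 ∧ (χ : P → ℂ) z = m
  · left
    obtain ⟨z, hz, hz1, hzm⟩ := hcase
    have hρz : ρ z = 1 := by
      rw [Cfsg.Agent.Lib.Helper76.rho_central_eq_smul ρ z hz, hρ, hzm, hfr, div_self hmC, one_smul]
      rfl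
    have hker : ∀ c ∈ commutator P, ρ c = 1 := by
      intro c hc
      rw [extraspecial_commutator_eq_center hP] at hc
      obtain ⟨k, hk⟩ := (Submonoid.mem_powers_iff _ _).mp (mem_powers_iff_mem_zpowers.mpr
        (extraspecial_mem_zpowers_of_center hP hz hz1 hc))
      rw [← hk, map_pow, hρz, one_pow]
    have hnorm : ∀ g, ‖(χ : P → ℂ) g‖ = m := by
      intro g
      rw [← hρ, norm_eq_of_commutator_le_ker ρ hker g, hfr]
    simp only [hnorm] at hsum
    rw [Finset.sum_const, Finset.card_univ, ← Nat.card_eq_fintype_card, nsmul_eq_mul] at hsum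
    have h2 : (((m : ℝ) ^ 2 : ℝ) : ℂ) = 1 := mul_left_cancel₀ hcardC (by rw [hsum, mul_one])
    have hm1 : m = 1 := by
      have h3 : ((m ^ 2 : ℕ) : ℂ) = ((1 : ℕ) : ℂ) := by push_cast at h2 ⊢; exact h2
      have h4 : m ^ 2 = 1 := by exact_mod_cast h3
      have h5 : m ^ 2 = 1 ^ 2 := by simpa using h4
      exact Nat.pow_left_injective two_ne_zero h5
    rw [hχ1, hm1]; simp
  · right
    push Not at hcase
    have hvanish : ∀ x, x ∉ Subgroup.center P → (χ : P → ℂ) x = 0 := by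
      intro x hx
      obtain ⟨h, z, hz, hz1, hconj⟩ := extraspecial_exists_conj_eq_central_mul hP x hx
      have h1 := Cfsg.Agent.Lib.Helper78.isClassFunction_irr χ x h
      rw [hconj, ← hρ, Cfsg.Agent.Lib.Helper76.character_central_mul ρ z hz x, hρ, hfr] at h1
      by_contra hne
      apply hcase z hz hz1
      have h2 : (χ : P → ℂ) z / (m : ℂ) = 1 := by
        have := mul_right_cancel₀ hne (h1.trans (one_mul _).symm)
        exact this
      rw [div_eq_one_iff_eq hmC] at h2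
      exact h2
    refine ⟨?_, hvanish⟩
    have hnormZ : ∀ z ∈ Subgroup.center P, ‖(χ : P → ℂ) z‖ = m := by
      intro z hz
      rw [← hρ]
      have := (Cfsg.Agent.S0138.result ρ z).mpr ⟨_, Cfsg.Agent.Lib.Helper76.rho_central_eq_smul ρ z hz⟩
      rw [this, hfr]
    have hterm : ∀ g : P, ((‖(χ : P → ℂ) g‖ ^ 2 : ℝ) : ℂ) =
        if g ∈ Subgroup.center P then ((m : ℂ) ^ 2) else 0 := by
      intro g
      split_ifs with hg
      · rw [hnormZ g hg]; push_cast; rfl
      · rw [hvanish g hg]; simp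
    simp only [hterm] at hsum
    rw [Finset.sum_ite, Finset.sum_const_zero, add_zero, Finset.sum_const, nsmul_eq_mul] at hsum
    have hcardZ : (Finset.univ.filter (· ∈ Subgroup.center P)).card = p := by
      rw [← extraspecial_card_center hP, Nat.card_eq_fintype_card, Fintype.card_subtype]
    rw [hcardZ, hcard] at hsum
    have h3 : p * m ^ 2 = p ^ (2 * n + 1) := by exact_mod_cast hsum
    have h4 : m ^ 2 = (p ^ n) ^ 2 := by
      have e : p ^ (2 * n + 1) = p * (p ^ n) ^ 2 := by ring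
      rw [e] at h3
      exact Nat.eq_of_mul_eq_mul_left hp.out.pos h3
    have h5 : m = p ^ n := Nat.pow_left_injective (two_ne_zero) h4
    rw [hχ1, h5]; push_cast; rfl

/-- Let P be an extraspecial p-group of order p ^ (2 * n + 1). Then every irreducible character of P has degree 1 or p ^ n, and exactly p - 1 of them have degree p ^ n. -/
theorem result {P : Type*} [Group P] [Finite P] (p n : ℕ) [Fact p.Prime] (hP : Cfsg.IsExtraspecial p P) (hcard : Nat.card P = p ^ (2 * n + 1)) : (∀ χ : Cfsg.IrrCharacter P, (χ : P → ℂ) 1 = 1 ∨ (χ : P → ℂ) 1 = (p : ℂ) ^ n) ∧ Nat.card {χ : Cfsg.IrrCharacter P // (χ : P → ℂ) 1 = (p : ℂ) ^ n} = p - 1 := by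
  classical
  have := Fintype.ofFinite P
  have hn := extraspecial_width_ne_zero hP hcard
  have hp : p.Prime := Fact.out
  have hdeg : ∀ χ : Cfsg.IrrCharacter P, (χ : P → ℂ) 1 = 1 ∨ (χ : P → ℂ) 1 = (p : ℂ) ^ n :=
    fun χ => (degree_cases p n hP hcard χ).imp id And.left
  refine ⟨hdeg, ?_⟩
  have hsq := Cfsg.Agent.Lib.Helper78.sum_irr_charDegree_sq (G := P)
  have hlin := Cfsg.Agent.Lib.Helper77.card_linear_characters (G := P)
  rw [extraspecial_commutator_index hP hcard] at hlin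
  have hpn1 : p ^ n ≠ 1 := by
    intro h
    rcases (Nat.pow_eq_one).mp h with h | h
    · exact hp.one_lt.ne' h
    · exact hn h
  have hne : ∀ χ : Cfsg.IrrCharacter P, (χ : P → ℂ) 1 = (p : ℂ) ^ n ↔ ¬ (χ : P → ℂ) 1 = 1 := by
    intro χ
    constructor
    · intro h h1
      rw [h] at h1
      apply hpn1
      exact_mod_cast h1
    · intro h
      exact (hdeg χ).resolve_left h
  have hcd1 : ∀ χ : Cfsg.IrrCharacter P, (χ : P → ℂ) 1 = 1 → Cfsg.charDegree (χ : P → ℂ) = 1 := by
    intro χ h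
    rw [Cfsg.Agent.Lib.Helper79.irr_apply_one_eq_charDegree χ] at h
    exact_mod_cast h
  have hcd2 : ∀ χ : Cfsg.IrrCharacter P, ¬ (χ : P → ℂ) 1 = 1 →
      Cfsg.charDegree (χ : P → ℂ) = p ^ n := by
    intro χ h
    have h' := (hne χ).mpr h
    rw [Cfsg.Agent.Lib.Helper79.irr_apply_one_eq_charDegree χ] at h'
    exact_mod_cast h'
  rw [← Finset.sum_filter_add_sum_filter_not Finset.univ
    (fun χ : Cfsg.IrrCharacter P => (χ : P → ℂ) 1 = 1)] at hsq
  have hs1 : ∑ χ ∈ Finset.univ.filter (fun χ : Cfsg.IrrCharacter P => (χ : P → ℂ) 1 = 1),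
      Cfsg.charDegree (χ : P → ℂ) ^ 2 =
      (Finset.univ.filter (fun χ : Cfsg.IrrCharacter P => (χ : P → ℂ) 1 = 1)).card := by
    rw [Finset.sum_congr rfl (fun χ hχ => by rw [hcd1 χ (Finset.mem_filter.mp hχ).2])]
    simp
  have hs2 : ∑ χ ∈ Finset.univ.filter (fun χ : Cfsg.IrrCharacter P => ¬ (χ : P → ℂ) 1 = 1),
      Cfsg.charDegree (χ : P → ℂ) ^ 2 =
      (Finset.univ.filter (fun χ : Cfsg.IrrCharacter P => ¬ (χ : P → ℂ) 1 = 1)).card *
        (p ^ n) ^ 2 := by
    rw [Finset.sum_congr rfl (fun χ hχ => by rw [hcd2 χ (Finset.mem_filter.mp hχ).2])]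
    simp
  rw [hs1, hs2] at hsq
  have hc1 : (Finset.univ.filter (fun χ : Cfsg.IrrCharacter P => (χ : P → ℂ) 1 = 1)).card
      = p ^ (2 * n) := by
    rw [← hlin, Nat.card_eq_fintype_card, Fintype.card_subtype]
  have hc2 : Nat.card {χ : Cfsg.IrrCharacter P // (χ : P → ℂ) 1 = (p : ℂ) ^ n} =
      (Finset.univ.filter (fun χ : Cfsg.IrrCharacter P => ¬ (χ : P → ℂ) 1 = 1)).card := by
    rw [Nat.card_eq_fintype_card, Fintype.card_subtype]
    congr 1
    ext χ
    simp only [Finset.mem_filter, Finset.mem_univ, true_and]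
    exact hne χ
  rw [hc2]
  set N := (Finset.univ.filter (fun χ : Cfsg.IrrCharacter P => ¬ (χ : P → ℂ) 1 = 1)).card
  rw [hc1, hcard] at hsq
  have e1 : (p ^ n) ^ 2 = p ^ (2 * n) := by ring
  have e2 : p ^ (2 * n + 1) = p ^ (2 * n) * p := by ring
  rw [e1, e2] at hsq
  have hpos : 0 < p ^ (2 * n) := pow_pos hp.pos _
  have h3 : p ^ (2 * n) * (1 + N) = p ^ (2 * n) * p := by
    rw [← hsq]; ring
  have h4 := Nat.eq_of_mul_eq_mul_left hpos h3
  omega

end Cfsg.Agent.S0894
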