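import Cfsg.Statements.S0895
import Mathlib
import Cfsg.Agent.Lib.Helper74.FSReal
-- import your own Cfsg.Agent.* helpers here

set_option autoImplicit false
open Cfsg

namespace Cfsg.Agent.S0895

/-- Let χ be a real-valued irreducible character of a finite group G whose degree is an odd natural number. Then the average over s in G of χ (s * s) equals 1. -/
theorem result {G : Type*} [Group G] [Fintype G] (χ : G → ℂ) (hχ : Cfsg.IsIrrCharacter G χ) (hreal : ∀ g : G, (χ g).im = 0) (d : ℕ) (hd : χ 1 = d) (hodd : Odd d) : (Nat.card G : ℂ)⁻¹ * ∑ s : G, χ (s * s) = 1 := by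
  classical
  obtain ⟨n, ρ, hρ, rfl⟩ := hχ
  have : ρ.IsIrreducible := hρ
  have hn : n = d := by
    have h1 := Representation.char_one ρ
    rw [hd] at h1
    simp at h1
    exact_mod_cast h1.symm
  subst hn
  have hcard : (Nat.card G : ℂ) = (Fintype.card G : ℂ) := by rw [Nat.card_eq_fintype_card]
  rw [hcard, ← Cfsg.Agent.Lib.Helper74.fsInd_eq_sum_character]
  rcases Cfsg.Agent.Lib.Helper74.fsInd_trichotomy ρ with h0 | h1 | hm1
  · exfalso
    obtain ⟨s, hs⟩ := (Cfsg.Agent.Lib.Helper74.fsInd_eq_zero_iff_not_real ρ).1 h0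
    exact hs (hreal s)
  · exact h1
  · exfalso
    have hne : Cfsg.Agent.Lib.Helper74.fsInd ρ ≠ 0 := by rw [hm1]; norm_num
    obtain ⟨M, hM0, hM⟩ := (Cfsg.Agent.Lib.Helper74.fsInd_ne_zero_iff ρ).1 hne
    have hT := hM.transpose_eq_fsInd
    rw [hm1] at hT
    have hdet : M.det = - M.det := by
      calc M.det = (Matrix.transpose M).det := (Matrix.det_transpose M).symm
        _ = ((-1 : ℂ) • M).det := by rw [hT]
        _ = (-1 : ℂ) ^ Fintype.card (Fin n) * M.det := Matrix.det_smul M (-1)
        _ = - M.det := by rw [Fintype.card_fin, hodd.neg_one_pow]; ring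
    have hdet0 : M.det = 0 := by
      have : (2 : ℂ) * M.det = 0 := by linear_combination hdet
      rcases mul_eq_zero.1 this with h | h
      · norm_num at h
      · exact h
    have hu := hM.isUnit hM0
    rw [Matrix.isUnit_iff_isUnit_det, hdet0] at hu
    exact not_isUnit_zero hu

end Cfsg.Agent.S0895
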