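import Cfsg.Statements.S0899
import Cfsg.Agent.Lib.Helper15.HHApply
import Cfsg.Agent.S0898

set_option autoImplicit false
open Cfsg

namespace Cfsg.Agent.S0899

open Cfsg.Agent.Lib.Helper15 Cfsg.Agent.Lib.Helper78

universe u

/-- If all Sylow `p`-subgroups of `J` are normal in `J`, then `J` has a largest `p`-subgroup. -/
theorem exists_largest_pSubgroup {G : Type u} [Group G] [Finite G] (p : ℕ) [hp : Fact p.Prime]
    (J : Subgroup G) (hJ : ∀ S : Sylow p ↥J, (S : Subgroup ↥J).Normal) :
    ∃ S₀ : Subgroup G, S₀ ≤ J ∧ IsPGroup p S₀ ∧ ∀ T : Subgroup G, IsPGroup p T → T ≤ J → T ≤ S₀ := by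
  obtain ⟨S⟩ : Nonempty (Sylow p ↥J) := inferInstance
  have hSn := hJ S
  refine ⟨(S : Subgroup ↥J).map J.subtype, ?_, ?_, ?_⟩
  · rintro _ ⟨x, -, rfl⟩
    exact x.2
  · exact S.isPGroup'.map J.subtype
  · intro T hT hTJ
    have h1 : IsPGroup p (T.subgroupOf J) := hT.comap_of_injective _ (Subgroup.subtype_injective J)
    obtain ⟨S₂, hS₂⟩ := h1.exists_le_sylow
    have huniq := Sylow.unique_of_normal S hSn
    have h2 : S₂ = S := Subsingleton.elim _ _
    rw [h2] at hS₂
    intro t ht
    exact ⟨⟨t, hTJ ht⟩, hS₂ (Subgroup.mem_subgroupOf.mpr ht), rfl⟩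

/-- The inductive hypothesis, in a form that restricts to subgroups. -/
def Hyp (p n : ℕ) (G : Type u) [Group G] : Prop :=
  (n + 1) ^ 2 ≤ p ∨ (n + 1 < p ∧ ∀ (L : Type u) [Group L] [Finite L] (f : L →* G),
    Function.Injective f → ¬ p ^ 2 ∣ Nat.card L → ∀ Q : Sylow p L, (Q : Subgroup L).Normal)

theorem Hyp.lt {p n : ℕ} [hp : Fact p.Prime] {G : Type u} [Group G] (h : Hyp p n G) : n + 1 < p := by
  rcases h with h | h
  · by_cases hn : n = 0
    · subst hn
      exact hp.out.one_lt
    · nlinarith [Nat.pos_of_ne_zero hn]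
  · exact h.1

theorem Hyp.subgroup {p n : ℕ} {G : Type u} [Group G] (h : Hyp p n G) (J : Subgroup G) :
    Hyp p n ↥J := by
  rcases h with h | h
  · exact Or.inl h
  · refine Or.inr ⟨h.1, ?_⟩
    intro L _ _ f hf hL Q
    exact h.2 L (J.subtype.comp f) (J.subtype_injective.comp hf) hL Q

open scoped IsMulCommutative in
/-- For an abelian Sylow subgroup `P`, `P ∩ G' ∩ Z(G) = 1` (transfer). -/
theorem sylow_inf_commutator_inf_center {G : Type u} [Group G] [Finite G] (p : ℕ) [hp : Fact p.Prime]
    (P : Sylow p G) (hab : ∀ x ∈ (P : Subgroup G), ∀ y ∈ (P : Subgroup G), x * y = y * x) :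
    ((P : Subgroup G) ⊓ commutator G) ⊓ Subgroup.center G = ⊥ := by
  rw [eq_bot_iff]
  rintro z ⟨⟨hzP, hzc⟩, hzZ⟩
  rw [Subgroup.mem_bot]
  have : IsMulCommutative (P : Subgroup G) := ⟨⟨fun a b => Subtype.ext (hab a a.2 b b.2)⟩⟩
  have key : ∀ (k : ℕ) (g₀ : G), g₀⁻¹ * z ^ k * g₀ ∈ (P : Subgroup G) → g₀⁻¹ * z ^ k * g₀ = z ^ k := by
    intro k g₀ _
    have h1 : z ^ k ∈ Subgroup.center G := Subgroup.pow_mem _ hzZ k
    rw [Subgroup.mem_center_iff] at h1
    rw [mul_assoc, ← h1 g₀, inv_mul_cancel_left]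
  have h1 := MonoidHom.transfer_eq_pow (MonoidHom.id (P : Subgroup G)) z key
  have h2 : MonoidHom.transfer (MonoidHom.id (P : Subgroup G)) z = 1 := by
    have := Abelianization.commutator_subset_ker (MonoidHom.transfer (MonoidHom.id (P : Subgroup G))) hzc
    exact this
  rw [h2] at h1
  have h3 : z ^ (P : Subgroup G).index = 1 := by
    have := congrArg Subtype.val h1
    simpa using this.symm
  obtain ⟨k, hk⟩ := P.isPGroup' ⟨z, hzP⟩
  have h4 : z ^ p ^ k = 1 := by
    have := congrArg Subtype.val hk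
    simpa using this
  have h5 : orderOf z ∣ (P : Subgroup G).index := orderOf_dvd_of_pow_eq_one h3
  have h6 : orderOf z ∣ p ^ k := orderOf_dvd_of_pow_eq_one h4
  have hcop : Nat.Coprime ((P : Subgroup G).index) (p ^ k) :=
    Nat.Coprime.pow_right _ ((Nat.Prime.coprime_iff_not_dvd hp.out).mpr P.not_dvd_index).symm
  exact orderOf_eq_one_iff.mp (Nat.eq_one_of_dvd_coprimes hcop h5 h6)

theorem main (p n : ℕ) [hp : Fact p.Prime] : ∀ (N : ℕ) (G : Type u) [Group G] [Finite G],
    Nat.card G = N → ∀ χ : G → ℂ, IsCharacter G χ → (∀ g, χ g = χ 1 → g = 1) → charDegree χ = n →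
    Hyp p n G → ∀ P : Sylow p G, (P : Subgroup G).Normal := by
  intro N
  induction N using Nat.strong_induction_on with
  | _ N ih =>
  intro G _ _ hcard χ hχ hfaith hdeg hyp P
  classical
  by_contra hPn
  have hlt := hyp.lt
  -- the inductive hypothesis for proper subgroups
  have IH : ∀ J : Subgroup G, J ≠ ⊤ → ∀ S : Sylow p ↥J, (S : Subgroup ↥J).Normal := by
    intro J hJ S
    have hJcard : Nat.card J < N := by
      rw [← hcard]
      apply lt_of_le_of_ne (Subgroup.card_le_card_group J)
      intro h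
      exact hJ ((Subgroup.card_eq_iff_eq_top J).mp h)
    exact ih _ hJcard ↥J rfl (fun j : J => χ j) (Cfsg.Agent.Lib.Helper75.isCharacter_res J hχ)
      (fun g hg => Subtype.ext (hfaith _ hg)) hdeg (hyp.subgroup J) S
  have IH' : ∀ J : Subgroup G, J ≠ ⊤ → ∃ S₀ : Subgroup G, S₀ ≤ J ∧ IsPGroup p S₀ ∧
      ∀ T : Subgroup G, IsPGroup p T → T ≤ J → T ≤ S₀ :=
    fun J hJ => exists_largest_pSubgroup p J (IH J hJ)
  -- `p`-subgroups are abelian
  have habP : ∀ T : Subgroup G, IsPGroup p T → ∀ x ∈ T, ∀ y ∈ T, x * y = y * x :=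
    fun T hT => sylow_abelian_of_faithful_small hχ hfaith (by omega) T hT
  -- distinct Sylow subgroups intersect in the centre
  have hstep3 : ∀ P₁ P₂ : Sylow p G, P₁ ≠ P₂ → ∀ y, y ∈ P₁ → y ∈ P₂ → y ∈ Subgroup.center G := by
    intro P₁ P₂ hne y hy1 hy2
    have hJ : (P₁ : Subgroup G) ⊔ P₂ = ⊤ := by
      by_contra hJ
      obtain ⟨S₀, -, hS₀p, hS₀⟩ := IH' _ hJ
      have h1 := P₁.is_maximal' hS₀p (hS₀ _ P₁.isPGroup' le_sup_left)
      have h2 := P₂.is_maximal' hS₀p (hS₀ _ P₂.isPGroup' le_sup_right)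
      exact hne (Sylow.ext (h1.symm.trans h2))
    rw [Subgroup.mem_center_iff]
    have hcen : (P₁ : Subgroup G) ⊔ P₂ ≤ Subgroup.centralizer {y} := by
      apply sup_le
      · intro x hx
        rw [Subgroup.mem_centralizer_singleton_iff]
        exact habP _ P₁.isPGroup' x hx y hy1
      · intro x hx
        rw [Subgroup.mem_centralizer_singleton_iff]
        exact habP _ P₂.isPGroup' x hx y hy2
    intro g
    have hg : g ∈ Subgroup.centralizer {y} := hcen (by rw [hJ]; trivial)
    exact Subgroup.mem_centralizer_singleton_iff.mp hg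
  set H : Subgroup G := (P : Subgroup G) ⊓ commutator G with hH
  have hHZ : H ⊓ Subgroup.center G = ⊥ :=
    sylow_inf_commutator_inf_center p P (habP P P.isPGroup')
  by_cases hcase : ∃ M : Subgroup G, M.Normal ∧ H ≤ M ∧ M ≠ ⊤
  · obtain ⟨M, hMn, hHM, hMtop⟩ := hcase
    obtain ⟨R, hRM, hRp, hR⟩ := IH' M hMtop
    have hRn : R.Normal := by
      constructor
      intro x hx g
      have hconj : IsPGroup p (R.map (MulAut.conj g).toMonoidHom) := hRp.map _
      have hle : R.map (MulAut.conj g).toMonoidHom ≤ M := by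
        rintro _ ⟨r, hr, rfl⟩
        exact hMn.conj_mem r (hRM hr) g
      exact hR _ hconj hle ⟨x, hx, rfl⟩
    have hHR : H ≤ R := hR H (P.isPGroup'.to_le inf_le_left) hHM
    have hRP : R ≤ P := hRp.le_sylow_of_normal P
    have hCn : (Subgroup.centralizer (R : Set G)).Normal := Subgroup.normal_centralizer
    have hPC : (P : Subgroup G) ≤ Subgroup.centralizer (R : Set G) := by
      intro x hx
      rw [Subgroup.mem_centralizer_iff]
      intro r hr
      exact habP P P.isPGroup' r (hRP hr) x hx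
    have hCtop : Subgroup.centralizer (R : Set G) = ⊤ := by
      by_contra hC
      obtain ⟨S₀, hS₀C, hS₀p, hS₀⟩ := IH' _ hC
      have h1 := P.is_maximal' hS₀p (hS₀ _ P.isPGroup' hPC)
      apply hPn
      constructor
      intro x hx g
      have h2 : (MulAut.conj g) x ∈ S₀ :=
        hS₀ ((P : Subgroup G).map (MulAut.conj g).toMonoidHom) (P.isPGroup'.map _)
          (by
            rintro _ ⟨r, hr, rfl⟩
            exact hCn.conj_mem r (hPC hr) g) ⟨x, hx, rfl⟩
      rw [h1] at h2
      exact h2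
    have hRZ : R ≤ Subgroup.center G := by
      intro r hr
      rw [Subgroup.mem_center_iff]
      intro g
      have hg : g ∈ Subgroup.centralizer (R : Set G) := by rw [hCtop]; trivial
      rw [Subgroup.mem_centralizer_iff] at hg
      exact (hg r hr).symm
    have hH1 : H = ⊥ := by
      rw [eq_bot_iff, ← hHZ]
      exact le_inf le_rfl (hHR.trans hRZ)
    -- `N(P) ≤ C(P)`
    have hNC : Subgroup.normalizer ((P : Subgroup G) : Set G) ≤
        Subgroup.centralizer ((P : Subgroup G) : Set G) := by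
      intro t ht
      rw [Subgroup.mem_centralizer_iff]
      intro x hx
      have h1 : t * x * t⁻¹ ∈ (P : Subgroup G) := (Subgroup.mem_normalizer_iff.mp ht x).mp hx
      have h2 : t * x * t⁻¹ * x⁻¹ ∈ H := by
        refine ⟨(P : Subgroup G).mul_mem h1 ((P : Subgroup G).inv_mem hx), ?_⟩
        rw [commutator_def]
        exact Subgroup.commutator_mem_commutator (Subgroup.mem_top t) (Subgroup.mem_top x)
      rw [hH1, Subgroup.mem_bot] at h2
      have h3 : t * x * t⁻¹ = x := by
        have := mul_inv_eq_one.mp h2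
        exact this
      calc x * t = t * x * t⁻¹ * t := by rw [h3]
        _ = t * x := by group
    have hcompl := MonoidHom.ker_transferSylow_isComplement' P hNC
    set K := (MonoidHom.transferSylow P hNC).ker with hK
    have hKn : K.Normal := MonoidHom.normal_ker _
    have hKp : (Nat.card K).Coprime p :=
      ((Nat.Prime.coprime_iff_not_dvd hp.out).mpr
        (MonoidHom.not_dvd_card_ker_transferSylow P hNC)).symm
    have hnc : ∃ x ∈ (P : Subgroup G), ∃ a ∈ K, x * a ≠ a * x := by
      by_contra hcon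
      push Not at hcon
      apply hPn
      constructor
      intro x hx g
      obtain ⟨⟨k, y⟩, hky⟩ := hcompl.surjective g
      simp only at hky
      have hx' : (y : G) * x * (y : G)⁻¹ ∈ (P : Subgroup G) :=
        (P : Subgroup G).mul_mem ((P : Subgroup G).mul_mem y.2 hx) ((P : Subgroup G).inv_mem y.2)
      have h1 := hcon _ hx' k k.2
      have h2 : g * x * g⁻¹ = (k : G) * ((y : G) * x * (y : G)⁻¹) * (k : G)⁻¹ := by
        rw [← hky]; group
      rw [h2, ← h1, mul_inv_cancel_right]
      exact hx'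
    obtain ⟨x, hx, a, ha, hxa⟩ := hnc
    obtain ⟨m, hm⟩ := P.isPGroup' ⟨x, hx⟩
    have hx1 : x ^ p ^ m = 1 := by
      have := congrArg Subtype.val hm
      simpa using this
    have := faithful_degree_of_p_element_on_p'_normal K hKp x m hx1 ⟨a, ha, hxa⟩ hχ hfaith
      (by omega)
    omega
  · push Not at hcase
    have hcomm : commutator G = ⊤ := hcase _ inferInstance inf_le_right
    have hHP : H = P := by rw [hH, hcomm, inf_top_eq]
    have hPZ : (P : Subgroup G) ⊓ Subgroup.center G = ⊥ := by rw [← hHP]; exact hHZ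
    have hcase' : ∀ M : Subgroup G, M.Normal → (P : Subgroup G) ≤ M → M = ⊤ := by
      intro M hM hPM
      exact hcase M hM (by rw [hHP]; exact hPM)
    have hPbot : (P : Subgroup G) ≠ ⊥ := by
      intro h
      apply hPn
      rw [h]
      infer_instance
    have conjSylow : ∀ a : G, ∃ Pa : Sylow p G,
        (Pa : Subgroup G) = (P : Subgroup G).map (MulAut.conj a).toMonoidHom := by
      intro a
      have hc : Nat.card ↥((P : Subgroup G).map (MulAut.conj a).toMonoidHom) =
          p ^ (Nat.card G).factorization p := by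
        rw [Subgroup.card_map_of_injective (f := (MulAut.conj a).toMonoidHom)
          (MulAut.conj a).injective]
        exact P.card_eq_multiplicity
      exact ⟨Sylow.ofCard _ hc, rfl⟩
    have hone : ∀ g : G, g ∉ Subgroup.center G → ∀ a b : G,
        Subgroup.centralizer ({g} : Set G) ⊓ (P : Subgroup G).map (MulAut.conj a).toMonoidHom ≠ ⊥ →
        Subgroup.centralizer ({g} : Set G) ⊓ (P : Subgroup G).map (MulAut.conj b).toMonoidHom ≠ ⊥ →
        (P : Subgroup G).map (MulAut.conj a).toMonoidHom =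
          (P : Subgroup G).map (MulAut.conj b).toMonoidHom := by
      intro g hg a b ha hb
      have hCtop : Subgroup.centralizer ({g} : Set G) ≠ ⊤ := by
        intro h
        apply hg
        rw [Subgroup.mem_center_iff]
        intro x
        have hx : x ∈ Subgroup.centralizer ({g} : Set G) := by rw [h]; trivial
        exact Subgroup.mem_centralizer_singleton_iff.mp hx
      obtain ⟨S₀, -, hS₀p, hS₀⟩ := IH' _ hCtop
      obtain ⟨P₃, hP₃⟩ := hS₀p.exists_le_sylow
      have key : ∀ c : G, Subgroup.centralizer ({g} : Set G) ⊓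
          (P : Subgroup G).map (MulAut.conj c).toMonoidHom ≠ ⊥ →
          (P : Subgroup G).map (MulAut.conj c).toMonoidHom = P₃ := by
        intro c hc
        obtain ⟨Pc, hPc⟩ := conjSylow c
        by_contra hne
        have hne' : Pc ≠ P₃ := fun h => hne (by rw [← hPc, h])
        obtain ⟨y, hy1⟩ := (Subgroup.ne_bot_iff_exists_ne_one).mp hc
        have hyS : (y : G) ∈ S₀ :=
          hS₀ _ ((P.isPGroup'.map (MulAut.conj c).toMonoidHom).to_le inf_le_right) inf_le_left y.2
        have hyP₃ : (y : G) ∈ P₃ := hP₃ hyS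
        have hyPc : (y : G) ∈ Pc := by
          show (y : G) ∈ (Pc : Subgroup G)
          rw [hPc]; exact y.2.2
        have hyZ := hstep3 Pc P₃ hne' y hyPc hyP₃
        obtain ⟨x, hx, hxy⟩ := y.2.2
        have hxy' : c * x * c⁻¹ = (y : G) := hxy
        have hyx : x = (y : G) := by
          rw [Subgroup.mem_center_iff] at hyZ
          have h1 : x = c⁻¹ * (y : G) * c := by rw [← hxy']; group
          rw [h1, mul_assoc, ← hyZ c, inv_mul_cancel_left]
        have hybot : (y : G) ∈ (P : Subgroup G) ⊓ Subgroup.center G := ⟨hyx ▸ hx, hyZ⟩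
        rw [hPZ, Subgroup.mem_bot] at hybot
        exact hy1 (Subtype.ext hybot)
      exact (key a ha).trans (key b hb).symm
    obtain ⟨y, hy⟩ := (Subgroup.ne_bot_iff_exists_ne_one).mp hPbot
    have hy1 : (y : G) ≠ 1 := fun h => hy (Subtype.ext h)
    have := Fintype.ofFinite G
    obtain ⟨φ, hφ, hφh⟩ := exists_constituent_ne hχ (y : G) (fun hc => hy1 (hfaith _ hc))
    have hφ1 : (φ : G → ℂ) 1 ≠ 1 := by
      intro h1
      obtain ⟨f, hf⟩ := Cfsg.Agent.Lib.Helper77.exists_monoidHom_of_degree_one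
        (IsIrrCharacter.isCharacter φ.2) h1
      apply hφh
      have hker : (y : G) ∈ f.ker := by
        apply Abelianization.commutator_subset_ker f
        rw [hcomm]; trivial
      rw [hf, hf, MonoidHom.mem_ker.mp hker, map_one]
    have := Fintype.ofFinite ↥(P : Subgroup G)
    have hFT := (Cfsg.Agent.S0898.result (P : Subgroup G) (habP P P.isPGroup') hPZ hone
      (φ : G → ℂ) φ.2 ⟨y, y.2, hφh⟩).2 hφ1 hcase'
    have hd := Cfsg.Agent.Lib.Helper79.irr_apply_one_eq_charDegree φ
    have hle := (Cfsg.Agent.Lib.Helper75.constituent_degree hχ φ hφ).1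
    rw [hd] at hFT
    have hFT' : Nat.card (P : Subgroup G) < (1 + charDegree (φ : G → ℂ)) ^ 2 := by
      have : ((Nat.card (P : Subgroup G) : ℕ) : ℝ) < ((1 + charDegree (φ : G → ℂ) : ℕ) : ℝ) ^ 2 := by
        push_cast
        simpa using hFT
      exact_mod_cast this
    have hcardP := P.card_eq_multiplicity
    set k := (Nat.card G).factorization p with hk
    have hk0 : k ≠ 0 := by
      intro h0
      rw [h0, pow_zero] at hcardP
      exact hPbot (Subgroup.card_eq_one.mp hcardP)
    have hsq : (1 + charDegree (φ : G → ℂ)) ^ 2 ≤ (n + 1) ^ 2 := by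
      apply Nat.pow_le_pow_left
      omega
    rcases hyp with h1 | ⟨h1, h2⟩
    · have : p ≤ p ^ k := Nat.le_self_pow hk0 p
      omega
    · have h3 : (n + 1) ^ 2 < p ^ 2 := Nat.pow_lt_pow_left h1 (by norm_num)
      have h4 : p ^ k < p ^ 2 := by omega
      have h5 : k < 2 := (Nat.pow_lt_pow_iff_right hp.out.one_lt).mp h4
      have h6 : ¬ p ^ 2 ∣ Nat.card G := by
        intro hdvd
        have := (hp.out.pow_dvd_iff_le_factorization Nat.card_pos.ne').mp hdvd
        omega
      exact hPn (h2 G (MonoidHom.id G) (fun _ _ h => h) h6 P)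

/-- Let G be a finite group with a faithful complex representation of degree n (on Fin n → ℂ) and p a prime. Suppose either that (n + 1) ^ 2 ≤ p, or that n + 1 < p and every subgroup of G whose order is not divisible by p ^ 2 has a normal Sylow p-subgroup. Then every Sylow p-subgroup of G is normal. -/
theorem result {G : Type*} [Group G] [Finite G] (n : ℕ) (ρ : Representation ℂ G (Fin n → ℂ)) (hρ : Function.Injective ρ) (p : ℕ) [Fact p.Prime] (h : (n + 1) ^ 2 ≤ p ∨ (n + 1 < p ∧ ∀ K : Subgroup G, ¬ p ^ 2 ∣ Nat.card K → ∀ Q : Sylow p K, (Q : Subgroup K).Normal)) (P : Sylow p G) : (P : Subgroup G).Normal := by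
  have hχ : IsCharacter G ρ.character := ⟨n, ρ, rfl⟩
  have hfaith : ∀ g : G, ρ.character g = ρ.character 1 → g = 1 := by
    intro g hg
    have h1 := (Cfsg.Agent.Lib.Helper80.rep_char_eq_char_one_iff ρ g).mp hg
    apply hρ
    rw [h1, map_one]
  have hdeg : charDegree ρ.character = n := Cfsg.Agent.Lib.Helper79.charDegree_of_rep ρ
  have hyp : Hyp p n G := by
    rcases h with h | ⟨h1, h2⟩
    · exact Or.inl h
    · refine Or.inr ⟨h1, ?_⟩
      intro L _ _ f hf hL Q
      set e : L ≃* f.range := MonoidHom.ofInjective hf with he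
      have hcard : Nat.card f.range = Nat.card L := (Nat.card_congr e.toEquiv).symm
      have hK : ¬ p ^ 2 ∣ Nat.card f.range := by rw [hcard]; exact hL
      have hQ' := h2 f.range hK
        (Q.comapOfInjective e.symm.toMonoidHom e.symm.injective (by
          intro x _
          exact ⟨e x, by simp⟩))
      have hQ'' : ((Q : Subgroup L).comap e.symm.toMonoidHom).Normal := hQ'
      have h3 : (Q : Subgroup L) = ((Q : Subgroup L).comap e.symm.toMonoidHom).comap e.toMonoidHom := by
        ext x
        simp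
      rw [h3]
      exact hQ''.comap _
  exact main p n _ G rfl ρ.character hχ hfaith hdeg hyp P

end Cfsg.Agent.S0899
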