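import Cfsg.Statements.S0901
import Mathlib
-- import your own Cfsg.Agent.* helpers here

set_option autoImplicit false
open Cfsg

namespace Cfsg.Agent.S0901

section
variable (p : ℕ) [Fact p.Prime] (M : Ideal Cfsg.AlgInt) (hM : Cfsg.IsPModular p M)

omit [Fact p.Prime] in
include hM in
theorem natCast_not_mem_of_not_dvd (m : ℕ) (hm : ¬ p ∣ m) : (m : Cfsg.AlgInt) ∉ M := by
  intro hmem
  have hcop : Nat.Coprime m p := ((Nat.Prime.coprime_iff_not_dvd hM.1).2 hm).symm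
  have h1 : IsCoprime (m : ℤ) (p : ℤ) := Nat.isCoprime_iff_coprime.2 hcop
  obtain ⟨s, t, hst⟩ := h1
  have h2 : (1 : Cfsg.AlgInt) = (s : Cfsg.AlgInt) * (m : Cfsg.AlgInt) + (t : Cfsg.AlgInt) * (p : Cfsg.AlgInt) := by
    have := congrArg (fun z : ℤ => (z : Cfsg.AlgInt)) hst
    push_cast at this
    exact this.symm
  have h3 : (1 : Cfsg.AlgInt) ∈ M := by
    rw [h2]
    exact M.add_mem (M.mul_mem_left _ hmem) (M.mul_mem_left _ hM.2.2)
  exact hM.2.1.ne_top ((Ideal.eq_top_iff_one M).2 h3)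

include hM in
/-- Part 1 in the ring: distinct `m`-th roots of unity (p ∤ m) are incongruent mod `M`. -/
theorem root_inj_aux (m : ℕ) (hm : ¬ p ∣ m) (ε₁ ε₂ : Cfsg.AlgInt) (h1 : ε₁ ^ m = 1) (h2 : ε₂ ^ m = 1)
    (hmem : ε₁ - ε₂ ∈ M) : ε₁ = ε₂ := by
  by_contra hne
  have hgeom := Commute.geom_sum₂_mul (Commute.all ε₁ ε₂) m
  rw [h1, h2, sub_self] at hgeom
  have hS : ∑ i ∈ Finset.range m, ε₁ ^ i * ε₂ ^ (m - 1 - i) = 0 := by
    rcases mul_eq_zero.1 hgeom with h | h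
    · exact h
    · exact absurd (sub_eq_zero.1 h) hne
  -- modulo M the sum is m * ε₂^(m-1)
  have hcong : (∑ i ∈ Finset.range m, ε₁ ^ i * ε₂ ^ (m - 1 - i)) - (m : Cfsg.AlgInt) * ε₂ ^ (m - 1) ∈ M := by
    have : (m : Cfsg.AlgInt) * ε₂ ^ (m - 1) = ∑ i ∈ Finset.range m, ε₂ ^ i * ε₂ ^ (m - 1 - i) :=
      (geom_sum₂_self ε₂ m).symm
    rw [this, ← Finset.sum_sub_distrib]
    apply M.sum_mem
    intro i _
    rw [← sub_mul]
    apply M.mul_mem_right
    obtain ⟨c, hc⟩ := sub_dvd_pow_sub_pow ε₁ ε₂ i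
    rw [hc]
    exact M.mul_mem_right _ hmem
  rw [hS, zero_sub] at hcong
  have h3 : (m : Cfsg.AlgInt) * ε₂ ^ (m - 1) ∈ M := by simpa using M.neg_mem hcong
  have h4 : (m : Cfsg.AlgInt) ∈ M := by
    have hm0 : m ≠ 0 := fun h => hm (h ▸ dvd_zero p)
    have : (m : Cfsg.AlgInt) = (m : Cfsg.AlgInt) * ε₂ ^ (m - 1) * ε₂ := by
      rw [mul_assoc, ← pow_succ, Nat.sub_add_cancel (Nat.one_le_iff_ne_zero.2 hm0), h2, mul_one]
    rw [this]
    exact M.mul_mem_right _ h3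
  exact natCast_not_mem_of_not_dvd p M hM m hm h4

include hM in
theorem part1 : ∀ ε₁ ε₂ : Cfsg.AlgInt, (∃ m : ℕ, ¬ p ∣ m ∧ (ε₁ : ℂ) ^ m = 1) → (∃ m : ℕ, ¬ p ∣ m ∧ (ε₂ : ℂ) ^ m = 1) → ε₁ - ε₂ ∈ M → ε₁ = ε₂ := by
  rintro ε₁ ε₂ ⟨m₁, hm₁, h1⟩ ⟨m₂, hm₂, h2⟩ hmem
  have hm : ¬ p ∣ m₁ * m₂ := by
    intro h
    rcases (Nat.Prime.dvd_mul hM.1).1 h with h | h
    · exact hm₁ h
    · exact hm₂ h
  apply root_inj_aux p M hM (m₁ * m₂) hm ε₁ ε₂ _ _ hmem
  · apply Subtype.ext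
    push_cast
    rw [pow_mul, h1, one_pow]
  · apply Subtype.ext
    push_cast
    rw [mul_comm, pow_mul, h2, one_pow]

end

section
variable (p : ℕ) [Fact p.Prime] (M : Ideal Cfsg.AlgInt) (hM : Cfsg.IsPModular p M)

theorem card_nthRootsFinset_le' {F : Type*} [Field F] (n : ℕ) : (Polynomial.nthRootsFinset n (1 : F)).card ≤ n := by
  classical
  rw [Polynomial.nthRootsFinset_def]
  exact (Multiset.toFinset_card_le _).trans (Polynomial.card_nthRoots n 1)

/-- In a field of characteristic `p`, an element integral over `ℤ` and nonzero has finite order prime to `p`. -/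
theorem exists_pow_eq_one_of_integral {F : Type*} [Field F] [CharP F p] (b : F) (hb : b ≠ 0)
    (hint : IsIntegral ℤ b) : ∃ n : ℕ, 0 < n ∧ ¬ p ∣ n ∧ b ^ n = 1 := by
  classical
  let _ : Algebra (ZMod p) F := ZMod.algebra F p
  have hint' : IsIntegral (ZMod p) b := hint.tower_top
  have hfd : FiniteDimensional (ZMod p) (IntermediateField.adjoin (ZMod p) {b}) :=
    IntermediateField.adjoin.finiteDimensional hint'
  have hfin : Finite (IntermediateField.adjoin (ZMod p) {b}) := Module.finite_of_finite (ZMod p)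
  let _ : Fintype (IntermediateField.adjoin (ZMod p) {b}) := Fintype.ofFinite _
  let b' : IntermediateField.adjoin (ZMod p) {b} := ⟨b, IntermediateField.mem_adjoin_simple_self _ b⟩
  have hb' : b' ≠ 0 := by
    intro h
    apply hb
    exact congrArg Subtype.val h
  have hpow := FiniteField.pow_card_sub_one_eq_one b' hb'
  have : CharP (IntermediateField.adjoin (ZMod p) {b}) p :=
    charP_of_injective_algebraMap (algebraMap (ZMod p) (IntermediateField.adjoin (ZMod p) {b})).injective p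
  obtain ⟨k, _, hk⟩ := FiniteField.card (IntermediateField.adjoin (ZMod p) {b}) p
  refine ⟨Fintype.card (IntermediateField.adjoin (ZMod p) {b}) - 1, ?_, ?_, ?_⟩
  · have : 1 < Fintype.card (IntermediateField.adjoin (ZMod p) {b}) := Fintype.one_lt_card
    omega
  · rw [hk]
    intro hdvd
    have hp : p.Prime := Fact.out
    have h1 : p ∣ p ^ (k : ℕ) := dvd_pow_self p k.pos.ne'
    have h2 : 1 ≤ p ^ (k : ℕ) := Nat.one_le_pow _ _ hp.pos
    have h3 : p ∣ p ^ (k : ℕ) - (p ^ (k : ℕ) - 1) := Nat.dvd_sub h1 hdvd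
    have h4 : p ^ (k : ℕ) - (p ^ (k : ℕ) - 1) = 1 := by omega
    rw [h4] at h3
    exact hp.one_lt.ne' (Nat.dvd_one.1 h3)
  · have := congrArg Subtype.val hpow
    simpa [b'] using this

end

section
variable (p : ℕ) [Fact p.Prime] (M : Ideal Cfsg.AlgInt) (hM : Cfsg.IsPModular p M)

include hM in
theorem part2 : ∀ a : Cfsg.AlgInt, a ∉ M → ∃ ε : Cfsg.AlgInt, (∃ m : ℕ, ¬ p ∣ m ∧ (ε : ℂ) ^ m = 1) ∧ a - ε ∈ M := by
  classical
  intro a ha
  have hmax : M.IsMaximal := hM.2.1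
  let _ : Field (Cfsg.AlgInt ⧸ M) := Ideal.Quotient.field M
  let φ : Cfsg.AlgInt →+* Cfsg.AlgInt ⧸ M := Ideal.Quotient.mk M
  have hpF : ((p : ℕ) : Cfsg.AlgInt ⧸ M) = 0 := by
    have : φ (p : Cfsg.AlgInt) = 0 := Ideal.Quotient.eq_zero_iff_mem.2 hM.2.2
    simpa using this
  have hchar : CharP (Cfsg.AlgInt ⧸ M) p := (CharP.charP_iff_prime_eq_zero hM.1).2 hpF
  have ha0 : φ a ≠ 0 := fun h => ha (Ideal.Quotient.eq_zero_iff_mem.1 h)
  have hint : IsIntegral ℤ (φ a) := (integralClosure.isIntegral a).map (φ.toIntAlgHom)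
  obtain ⟨n, hn0, hpn, hn⟩ := exists_pow_eq_one_of_integral p (φ a) ha0 hint
  -- the complex n-th roots of unity
  have hζ : IsPrimitiveRoot (Complex.exp (2 * Real.pi * Complex.I / n)) n :=
    Complex.isPrimitiveRoot_exp n hn0.ne'
  have hcardA : (Polynomial.nthRootsFinset n (1 : ℂ)).card = n := hζ.card_nthRootsFinset
  have hintA : ∀ z : {z : ℂ // z ∈ Polynomial.nthRootsFinset n (1 : ℂ)}, IsIntegral ℤ (z : ℂ) := by
    intro z
    have hz : (z : ℂ) ^ n = 1 := (Polynomial.mem_nthRootsFinset hn0 1).1 z.2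
    apply IsIntegral.of_pow hn0
    rw [hz]
    exact isIntegral_one
  let ψ : {z : ℂ // z ∈ Polynomial.nthRootsFinset n (1 : ℂ)} → Cfsg.AlgInt ⧸ M :=
    fun z => φ ⟨z.1, hintA z⟩
  have hψinj : Function.Injective ψ := by
    intro z w hzw
    have h1 : (⟨z.1, hintA z⟩ : Cfsg.AlgInt) - ⟨w.1, hintA w⟩ ∈ M := Ideal.Quotient.eq.1 hzw
    have hz : (z : ℂ) ^ n = 1 := (Polynomial.mem_nthRootsFinset hn0 1).1 z.2
    have hw : (w : ℂ) ^ n = 1 := (Polynomial.mem_nthRootsFinset hn0 1).1 w.2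
    have h2 := root_inj_aux p M hM n hpn ⟨z.1, hintA z⟩ ⟨w.1, hintA w⟩
      (Subtype.ext (by push_cast; exact hz)) (Subtype.ext (by push_cast; exact hw)) h1
    apply Subtype.ext
    exact congrArg (fun e : Cfsg.AlgInt => (e : ℂ)) h2
  have hsub : Finset.image ψ Finset.univ ⊆ Polynomial.nthRootsFinset n (1 : Cfsg.AlgInt ⧸ M) := by
    intro y hy
    obtain ⟨z, _, rfl⟩ := Finset.mem_image.1 hy
    rw [Polynomial.mem_nthRootsFinset hn0]
    have hz : (z : ℂ) ^ n = 1 := (Polynomial.mem_nthRootsFinset hn0 1).1 z.2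
    show (φ ⟨z.1, hintA z⟩) ^ n = 1
    rw [← map_pow]
    have : (⟨z.1, hintA z⟩ : Cfsg.AlgInt) ^ n = 1 := Subtype.ext (by push_cast; exact hz)
    rw [this, map_one]
  have hcardB : (Finset.image ψ Finset.univ).card = n := by
    rw [Finset.card_image_of_injective _ hψinj, Finset.card_univ, Fintype.card_coe, hcardA]
  have heq : Finset.image ψ Finset.univ = Polynomial.nthRootsFinset n (1 : Cfsg.AlgInt ⧸ M) := by
    apply Finset.eq_of_subset_of_card_le hsub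
    rw [hcardB]
    exact card_nthRootsFinset_le' n
  have hmem : φ a ∈ Finset.image ψ Finset.univ := by
    rw [heq, Polynomial.mem_nthRootsFinset hn0]
    exact hn
  obtain ⟨z, _, hz⟩ := Finset.mem_image.1 hmem
  refine ⟨⟨z.1, hintA z⟩, ⟨n, hpn, (Polynomial.mem_nthRootsFinset hn0 1).1 z.2⟩, ?_⟩
  exact Ideal.Quotient.eq.1 hz.symm

end


/-- Let M be a maximal ideal of the ring of algebraic integers containing the prime p, and let U be the set of complex roots of unity of order prime to p. Then reduction modulo M is injective on U, and every algebraic integer not in M is congruent modulo M to an element of U (so U maps bijectively onto the nonzero residues). -/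
theorem result (p : ℕ) [Fact p.Prime] (M : Ideal Cfsg.AlgInt) (hM : Cfsg.IsPModular p M) : (∀ ε₁ ε₂ : Cfsg.AlgInt, (∃ m : ℕ, ¬ p ∣ m ∧ (ε₁ : ℂ) ^ m = 1) → (∃ m : ℕ, ¬ p ∣ m ∧ (ε₂ : ℂ) ^ m = 1) → ε₁ - ε₂ ∈ M → ε₁ = ε₂) ∧ (∀ a : Cfsg.AlgInt, a ∉ M → ∃ ε : Cfsg.AlgInt, (∃ m : ℕ, ¬ p ∣ m ∧ (ε : ℂ) ^ m = 1) ∧ a - ε ∈ M) := by
  exact ⟨part1 p M hM, part2 p M hM⟩

end Cfsg.Agent.S0901
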