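import Cfsg.Statements.S0902
import Cfsg.Agent.Lib.Helper76.GaloisBlock

set_option autoImplicit false
open Cfsg

namespace Cfsg.Agent.S0902

/-- If two irreducible characters of a finite group lie in the same block relative to one maximal ideal M of the algebraic integers containing the prime p, then at every element the difference of their central characters is an algebraic integer lying in every maximal ideal containing p; in particular they lie in the same block relative to any such ideal. -/
theorem result {G : Type*} [Group G] [Finite G] (p : ℕ) [Fact p.Prime] (M : Ideal Cfsg.AlgInt) (hM : Cfsg.IsPModular p M) (χ ψ : Cfsg.IrrCharacter G) (h : Cfsg.SameBlock M (χ : G → ℂ) (ψ : G → ℂ)) (M' : Ideal Cfsg.AlgInt) (hM' : Cfsg.IsPModular p M') (g : G) : ∃ r : Cfsg.AlgInt, r ∈ M' ∧ (r : ℂ) = Cfsg.centralChar (χ : G → ℂ) g - Cfsg.centralChar (ψ : G → ℂ) g := by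
  have hMp : M.IsPrime := Cfsg.Agent.Lib.Helper16.isPModular_isPrime hM
  have hint : ∀ (φ : Cfsg.IrrCharacter G) (x : G),
      IsIntegral ℤ (Cfsg.centralChar (φ : G → ℂ) x) :=
    fun φ x => Cfsg.Agent.Lib.Helper79.isIntegral_centralChar φ x
  apply Cfsg.Agent.Lib.Helper76.mem_of_forall_conj_mem p M M' hM hM' _
    ((hint χ g).sub (hint ψ g))
  intro a ha
  obtain ⟨u, -, hu⟩ := Cfsg.Agent.Lib.Helper76.exists_conj_centralChar_sub χ ψ g a ha
  have hz : IsIntegral ℤ (Cfsg.centralChar (χ : G → ℂ) (g ^ u) -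
      Cfsg.centralChar (ψ : G → ℂ) (g ^ u)) := (hint χ _).sub (hint ψ _)
  refine ⟨⟨_, hz⟩, ?_, hu.symm⟩
  have h1 := h (g ^ u)
  exact (Cfsg.Agent.Lib.Helper16.memLocalIdeal_coe_iff (z := ⟨_, hz⟩)).mp h1

end Cfsg.Agent.S0902
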