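import Cfsg.Statements.S0903
-- import your own Cfsg.Agent.* helpers here

set_option autoImplicit false
open Cfsg

namespace Cfsg.Agent.S0903

/-- Let P be a p-subgroup of the finite group G, let c centralize P and let g, h ∈ G. The number of pairs (x, y) with x conjugate to g, y conjugate to h and x * y = c is congruent modulo p to the number of such pairs in which x and y both centralize P. (This is why the Brauer map on class sums is multiplicative.) -/
theorem result {G : Type*} [Group G] [Finite G] (p : ℕ) [Fact p.Prime] (P : Subgroup G) (hP : IsPGroup p P) (c : G) (hc : c ∈ Subgroup.centralizer (P : Set G)) (g h : G) : Nat.card {xy : G × G // IsConj g xy.1 ∧ IsConj h xy.2 ∧ xy.1 * xy.2 = c} ≡ Nat.card {xy : G × G // IsConj g xy.1 ∧ IsConj h xy.2 ∧ xy.1 * xy.2 = c ∧ xy.1 ∈ Subgroup.centralizer (P : Set G) ∧ xy.2 ∈ Subgroup.centralizer (P : Set G)} [MOD p] := by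
  classical
  -- the action of `P` on the set of pairs by simultaneous conjugation
  let X := {xy : G × G // IsConj g xy.1 ∧ IsConj h xy.2 ∧ xy.1 * xy.2 = c}
  have hconj : ∀ (u : G) (a b : G), IsConj a b → IsConj a (u * b * u⁻¹) := by
    intro u a b hab
    exact hab.trans (isConj_iff.2 ⟨u, rfl⟩)
  let act : MulAction P X :=
    { smul := fun u xy => ⟨((u : G) * xy.1.1 * (u : G)⁻¹, (u : G) * xy.1.2 * (u : G)⁻¹),
        hconj _ _ _ xy.2.1, hconj _ _ _ xy.2.2.1, by
          have h3 := xy.2.2.2
          have hcu : (u : G) * c = c * (u : G) := (Subgroup.mem_centralizer_iff.1 hc (u : G) u.2)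
          calc (u : G) * xy.1.1 * (u : G)⁻¹ * ((u : G) * xy.1.2 * (u : G)⁻¹)
              = (u : G) * (xy.1.1 * xy.1.2) * (u : G)⁻¹ := by group
            _ = (u : G) * c * (u : G)⁻¹ := by rw [h3]
            _ = c := by rw [hcu]; group⟩
      one_smul := by
        intro xy
        apply Subtype.ext
        apply Prod.ext <;> simp [HSMul.hSMul]
      mul_smul := by
        intro u v xy
        apply Subtype.ext
        apply Prod.ext <;> simp [HSMul.hSMul, mul_assoc] }
  have key := hP.card_modEq_card_fixedPoints (p := p) X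
  refine key.trans ?_
  suffices hcard : Nat.card (MulAction.fixedPoints P X) = Nat.card {xy : G × G // IsConj g xy.1 ∧ IsConj h xy.2 ∧ xy.1 * xy.2 = c ∧ xy.1 ∈ Subgroup.centralizer (P : Set G) ∧ xy.2 ∈ Subgroup.centralizer (P : Set G)} by
    rw [hcard]
  -- bijection between fixed points and the second set
  apply Nat.card_congr
  refine
    { toFun := fun xy => ⟨xy.1.1, xy.1.2.1, xy.1.2.2.1, xy.1.2.2.2, ?_, ?_⟩
      invFun := fun xy => ⟨⟨xy.1, xy.2.1, xy.2.2.1, xy.2.2.2.1⟩, ?_⟩
      left_inv := fun xy => by apply Subtype.ext; apply Subtype.ext; rfl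
      right_inv := fun xy => by apply Subtype.ext; rfl }
  · rw [Subgroup.mem_centralizer_iff]
    intro u hu
    have := xy.2 ⟨u, hu⟩
    have h1 : u * xy.1.1.1 * u⁻¹ = xy.1.1.1 := congrArg (fun z : X => z.1.1) this
    calc u * xy.1.1.1 = u * xy.1.1.1 * u⁻¹ * u := by group
      _ = xy.1.1.1 * u := by rw [h1]
  · rw [Subgroup.mem_centralizer_iff]
    intro u hu
    have := xy.2 ⟨u, hu⟩
    have h1 : u * xy.1.1.2 * u⁻¹ = xy.1.1.2 := congrArg (fun z : X => z.1.2) this
    calc u * xy.1.1.2 = u * xy.1.1.2 * u⁻¹ * u := by group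
      _ = xy.1.1.2 * u := by rw [h1]
  · intro u
    apply Subtype.ext
    have h1 := Subgroup.mem_centralizer_iff.1 xy.2.2.2.2.1 (u : G) u.2
    have h2 := Subgroup.mem_centralizer_iff.1 xy.2.2.2.2.2 (u : G) u.2
    apply Prod.ext
    · show (u : G) * xy.1.1 * (u : G)⁻¹ = xy.1.1
      rw [h1]; group
    · show (u : G) * xy.1.2 * (u : G)⁻¹ = xy.1.2
      rw [h2]; group

end Cfsg.Agent.S0903
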