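import Mathlib
import Cfsg.Statements.S0910
import Cfsg.Agent.Lib.Helper16.LocalRing
import Cfsg.Agent.Lib.Helper77.Linear
import Cfsg.Agent.Lib.Helper78.CharMore
import Cfsg.Agent.Lib.Helper79.Integrality
import Cfsg.Agent.S0143
-- import your own Cfsg.Agent.* helpers here

set_option autoImplicit false
open Cfsg
open scoped commutatorElement

namespace Cfsg.Agent.S0910

/-- Let G be a non-abelian finite simple group and p a prime. If an irreducible character χ lies in the principal block (relative to a maximal ideal of the algebraic integers containing p) and χ 1 is a power of p, then χ is the principal character. -/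
theorem result {G : Type*} [Group G] [Finite G] (p : ℕ) [Fact p.Prime] (M : Ideal Cfsg.AlgInt) (hM : Cfsg.IsPModular p M) [IsSimpleGroup G] (hna : ∃ a b : G, a * b ≠ b * a) (χ : Cfsg.IrrCharacter G) (hχ : χ ∈ Cfsg.principalBlock M G) (k : ℕ) (hdeg : (χ : G → ℂ) 1 = (p : ℂ) ^ k) : (χ : G → ℂ) = fun _ => 1 := by
  classical
  have := Fintype.ofFinite G
  have hp : p.Prime := Fact.out
  have hcomm : ¬ ∀ a b : G, a * b = b * a := by
    obtain ⟨a, b, hab⟩ := hna
    intro h
    exact hab (h a b)
  have hd1 := Cfsg.Agent.Lib.Helper79.irr_apply_one_eq_charDegree χ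
  have hdk : Cfsg.charDegree (χ : G → ℂ) = p ^ k := by
    have : ((Cfsg.charDegree (χ : G → ℂ) : ℕ) : ℂ) = ((p ^ k : ℕ) : ℂ) := by
      rw [← hd1, hdeg]; push_cast; rfl
    exact_mod_cast this
  by_cases hk : k = 0
  · -- linear character of a perfect group
    subst hk
    have h1 : (χ : G → ℂ) 1 = 1 := by rw [hdeg]; simp
    have hperf : commutator G = ⊤ := by
      rcases (inferInstance : (commutator G).Normal).eq_bot_or_eq_top with h | h
      · exfalso
        apply hcomm
        intro a b
        have hab : ⁅a, b⁆ ∈ commutator G := by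
          rw [commutator_def]
          exact Subgroup.commutator_mem_commutator (Subgroup.mem_top a) (Subgroup.mem_top b)
        rw [h, Subgroup.mem_bot] at hab
        exact (commutatorElement_eq_one_iff_mul_comm).mp hab
      · exact h
    funext g
    exact Cfsg.Agent.Lib.Helper77.linear_character_eq_one_of_mem_commutator χ h1 g
      (by rw [hperf]; exact Subgroup.mem_top g)
  · -- p divides the degree, hence the group order
    have hpd : p ∣ Cfsg.charDegree (χ : G → ℂ) := by
      rw [hdk]; exact dvd_pow_self p hk
    have hpG : p ∣ Nat.card G :=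
      dvd_trans hpd (Cfsg.Agent.Lib.Helper79.irr_charDegree_dvd_card χ)
    obtain ⟨P⟩ : Nonempty (Sylow p G) := inferInstance
    have hPcard : p ∣ Nat.card (P : Subgroup G) := P.dvd_card_of_dvd_card hpG
    have hPnt : Nontrivial (P : Subgroup G) := by
      rw [← Finite.one_lt_card_iff_nontrivial]
      exact lt_of_lt_of_le hp.one_lt (Nat.le_of_dvd Nat.card_pos hPcard)
    have hcnt : Nontrivial (Subgroup.center (P : Subgroup G)) := P.2.center_nontrivial
    obtain ⟨⟨z, hz⟩, hz1⟩ := exists_ne (1 : Subgroup.center (P : Subgroup G))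
    have hzG : (z : G) ≠ 1 := by
      intro h
      apply hz1
      apply Subtype.ext
      apply Subtype.ext
      exact h
    have hPle : (P : Subgroup G) ≤ Subgroup.centralizer ({(z : G)} : Set G) := by
      intro x hx
      rw [Subgroup.mem_centralizer_singleton_iff]
      have := (Subgroup.mem_center_iff.mp hz) ⟨x, hx⟩
      have h2 := congrArg (fun y : (P : Subgroup G) => (y : G)) this
      simpa using h2
    have hidx : ¬ p ∣ (Subgroup.centralizer ({(z : G)} : Set G)).index := by
      intro h
      exact P.not_dvd_index (dvd_trans h (Subgroup.index_dvd_of_le hPle))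
    have hcop : Nat.Coprime (Cfsg.charDegree (χ : G → ℂ))
        (Subgroup.centralizer ({(z : G)} : Set G)).index := by
      rw [hdk]
      exact Nat.Coprime.pow_left k ((Nat.Prime.coprime_iff_not_dvd hp).mpr hidx)
    rcases Cfsg.Agent.Lib.Helper79.irr_burnside_coprime χ (z : G) hcop with h0 | hnorm
    · exfalso
      have hb := hχ (z : G)
      have hχ1 : (χ : G → ℂ) 1 ≠ 0 := by
        rw [hdeg]; exact pow_ne_zero k (by exact_mod_cast hp.ne_zero)
      have e : Cfsg.centralChar (fun _ : G => (1 : ℂ)) (z : G) - Cfsg.centralChar (χ : G → ℂ) (z : G)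
          = (((Subgroup.centralizer ({(z : G)} : Set G)).index : ℕ) : ℂ) := by
        unfold Cfsg.centralChar
        rw [h0]
        simp
      rw [e] at hb
      exact hidx ((Cfsg.Agent.Lib.Helper16.memLocalIdeal_natCast_iff hM _).mp hb)
    · obtain ⟨n, ρ, hirr, hρ⟩ := χ.2
      have hdn : Cfsg.charDegree (χ : G → ℂ) = n := by
        rw [← hρ]; exact Cfsg.Agent.Lib.Helper79.charDegree_of_rep ρ
      have hnorm' : ‖ρ.character (z : G)‖ = (Module.finrank ℂ (Fin n → ℂ) : ℝ) := by
        rw [hρ, hnorm, hdn]; simp
      have hscal := (Cfsg.Agent.S0138.result ρ (z : G)).mp hnorm'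
      have htriv := Cfsg.Agent.S0143.rep_trivial_of_scalar hcomm ρ (z : G) hzG hscal
      have hconst : ∀ x, (χ : G → ℂ) x = (n : ℂ) := by
        intro x
        rw [← hρ]
        show LinearMap.trace ℂ _ (ρ x) = _
        rw [htriv x]
        simp
      have hself := Cfsg.Agent.Lib.Helper78.classInner_irr_self χ.2
      unfold Cfsg.classInner at hself
      simp only [hconst] at hself
      have hcard : (Nat.card G : ℂ) ≠ 0 := by
        have : Nat.card G ≠ 0 := Nat.card_pos.ne'
        exact_mod_cast this
      have hn2 : (n : ℂ) * (n : ℂ) = 1 := by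
        simp only [Finset.sum_const, Finset.card_univ, nsmul_eq_mul, map_natCast] at hself
        rw [← Nat.card_eq_fintype_card, ← mul_assoc, inv_mul_cancel₀ hcard, one_mul] at hself
        exact hself
      have hn1 : n = 1 := by
        have : n * n = 1 := by exact_mod_cast hn2
        exact Nat.eq_one_of_mul_eq_one_left this
      funext x
      rw [hconst x, hn1]
      simp

end Cfsg.Agent.S0910
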