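import Cfsg.Statements.S0904
import Cfsg.Agent.S0910
import Cfsg.Agent.S0914
import Cfsg.Agent.Lib.Helper75.PQRDegree

set_option autoImplicit false
open Cfsg
open scoped ComplexConjugate

namespace Cfsg.Agent.S0904

/-- Key step: in a non-abelian simple group of order `s^x * s'^y * r` there is no element whose
order is divisible by both `s` and `r`.  (Weak block orthogonality for the principal `s`-block.) -/
theorem no_mixed_element {G : Type*} [Group G] [Finite G] [IsSimpleGroup G]
    (hna : ∃ a b : G, a * b ≠ b * a)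
    (s s' r x y : ℕ) (hs : s.Prime) (hs' : s'.Prime) (hr : r.Prime)
    (hs'r : s' ≠ r) (hsr : s ≠ r)
    (hcard : Nat.card G = s ^ x * s' ^ y * r) (g : G) (hsg : s ∣ orderOf g)
    (hrg : r ∣ orderOf g) : False := by
  classical
  have := Fintype.ofFinite G
  haveI : Fact s.Prime := ⟨hs⟩
  haveI : Fact r.Prime := ⟨hr⟩
  obtain ⟨M, hM⟩ := Cfsg.Agent.Lib.Helper75.exists_isPModular s hs
  have hMp : M.IsPrime := Cfsg.Agent.Lib.Helper16.isPModular_isPrime hM
  obtain ⟨B, hBdef⟩ : ∃ B : Set (IrrCharacter G),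
      B = blockOf M (Cfsg.Agent.Lib.Helper75.oneIrr G : G → ℂ) := ⟨_, rfl⟩
  have hB : IsPBlock M B := by
    rw [hBdef]; exact Cfsg.Agent.Lib.Helper16.isPBlock_blockOf (Cfsg.Agent.Lib.Helper75.oneIrr G)
  have h1B : Cfsg.Agent.Lib.Helper75.oneIrr G ∈ B := by
    rw [hBdef]
    exact Cfsg.Agent.Lib.Helper16.self_mem_blockOf hMp.ne_top (Cfsg.Agent.Lib.Helper75.oneIrr G)
  have hcoef := Cfsg.Agent.Lib.Helper75.blockCoeff_eq_zero_of_singular hM hB g hsg
  rw [Cfsg.Agent.Lib.Helper16.blockCoeff_eq_sum] at hcoef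
  have hG0 : (Nat.card G : ℂ)⁻¹ ≠ 0 := by
    apply inv_ne_zero
    exact_mod_cast Nat.card_pos.ne'
  have hsum := (mul_eq_zero.mp hcoef).resolve_left hG0
  -- restrict to the characters not vanishing at g
  have hsum' : ∑ χ ∈ (Finset.univ.filter (fun χ : IrrCharacter G => χ ∈ B)).filter
      (fun χ : IrrCharacter G => (χ : G → ℂ) g ≠ 0),
      (χ : G → ℂ) 1 * conj ((χ : G → ℂ) g) = 0 := by
    rw [Finset.sum_filter_of_ne]
    · exact hsum
    · intro χ _ hne h0
      apply hne
      rw [h0, map_zero, mul_zero]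
  have h1S : Cfsg.Agent.Lib.Helper75.oneIrr G ∈
      (Finset.univ.filter (fun χ : IrrCharacter G => χ ∈ B)).filter
      (fun χ : IrrCharacter G => (χ : G → ℂ) g ≠ 0) := by
    simp only [Finset.mem_filter, Finset.mem_univ, true_and]
    refine ⟨h1B, ?_⟩
    rw [Cfsg.Agent.Lib.Helper75.oneIrr_apply]
    exact one_ne_zero
  obtain ⟨χ, hχS, hχ1, hχs'⟩ :=
    Cfsg.Agent.Lib.Helper75.exists_ne_one_not_dvd_of_sum_eq_zero _ h1S g hsum' s' hs'
  simp only [Finset.mem_filter, Finset.mem_univ, true_and] at hχS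
  obtain ⟨hχB, hχg⟩ := hχS
  have hdvd := Cfsg.Agent.Lib.Helper79.irr_charDegree_dvd_card χ
  have hpos := Cfsg.Agent.Lib.Helper79.irr_charDegree_pos χ
  -- r does not divide the degree
  have hχr : ¬ r ∣ charDegree (χ : G → ℂ) := by
    intro hrd
    apply hχg
    have hdz : ¬ r ∣ Nat.card G / charDegree (χ : G → ℂ) := by
      intro h2
      obtain ⟨m, hm⟩ := hrd
      obtain ⟨m', hm'⟩ := h2
      have hmul : Nat.card G / charDegree (χ : G → ℂ) * charDegree (χ : G → ℂ) = Nat.card G :=
        Nat.div_mul_cancel hdvd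
      rw [hm', hm, hcard] at hmul
      have h3 : r * (m' * m * r) = r * (s ^ x * s' ^ y) := by
        have e1 : r * (m' * m * r) = r * m' * (r * m) := by ring
        rw [e1, hmul]; ring
      have h4 : m' * m * r = s ^ x * s' ^ y := Nat.eq_of_mul_eq_mul_left hr.pos h3
      have h5 : r ∣ s ^ x * s' ^ y := ⟨m' * m, by rw [← h4]; ring⟩
      rcases (Nat.Prime.dvd_mul hr).mp h5 with h6 | h6
      · exact hsr ((Nat.prime_dvd_prime_iff_eq hr hs).mp (hr.dvd_of_dvd_pow h6)).symm
      · exact hs'r ((Nat.prime_dvd_prime_iff_eq hr hs').mp (hr.dvd_of_dvd_pow h6)).symm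
    obtain ⟨M', hM'⟩ := Cfsg.Agent.Lib.Helper75.exists_isPModular r hr
    have hsing := Cfsg.Agent.S0914.block_singleton_of_defect_zero r M' hM' χ hdz
    exact Cfsg.Agent.S0914.vanish_of_block_singleton r M' hM' χ hsing g hrg
  -- the degree is a power of s
  rw [hcard] at hdvd
  have c1 : Nat.Coprime (charDegree (χ : G → ℂ)) r :=
    ((Nat.Prime.coprime_iff_not_dvd hr).mpr hχr).symm
  have c2 : Nat.Coprime (charDegree (χ : G → ℂ)) (s' ^ y) :=
    Nat.Coprime.pow_right y ((Nat.Prime.coprime_iff_not_dvd hs').mpr hχs').symm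
  have d1 := c1.dvd_of_dvd_mul_right hdvd
  have d2 := c2.dvd_of_dvd_mul_right d1
  obtain ⟨k, _, hk⟩ := (Nat.dvd_prime_pow hs).mp d2
  have hdeg : (χ : G → ℂ) 1 = (s : ℂ) ^ k := by
    rw [Cfsg.Agent.Lib.Helper79.irr_apply_one_eq_charDegree, hk]
    push_cast
    rfl
  have hχP : χ ∈ Cfsg.principalBlock M G := by
    have : B = Cfsg.principalBlock M G := by rw [hBdef]; rfl
    rw [← this]; exact hχB
  have hone := Cfsg.Agent.S0910.result s M hM hna χ hχP k hdeg
  exact hχ1 (Subtype.ext hone)

/-- Let G be a finite simple group of order p ^ a * q ^ b * r with p, q, r distinct primes. Then every Sylow r-subgroup S of G satisfies C_G(S) = S. -/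
theorem result {G : Type*} [Group G] [Finite G] [IsSimpleGroup G] (p q r a b : ℕ) (hp : p.Prime) (hq : q.Prime) [Fact r.Prime] (hpq : p ≠ q) (hpr : p ≠ r) (hqr : q ≠ r) (hcard : Nat.card G = p ^ a * q ^ b * r) (S : Sylow r G) : Subgroup.centralizer (S : Set G) = (S : Subgroup G) := by
  classical
  have hr : r.Prime := Fact.out
  -- |S| = r
  have hpa : p ^ a ≠ 0 := pow_ne_zero _ hp.ne_zero
  have hqb : q ^ b ≠ 0 := pow_ne_zero _ hq.ne_zero
  have hfac : (Nat.card G).factorization r = 1 := by
    rw [hcard, Nat.factorization_mul (mul_ne_zero hpa hqb) hr.ne_zero,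
      Nat.factorization_mul hpa hqb, Nat.factorization_pow, Nat.factorization_pow,
      hp.factorization, hq.factorization, hr.factorization]
    simp [hpr, hqr]
  have hScard : Nat.card (S : Subgroup G) = r := by
    rw [Sylow.card_eq_multiplicity, hfac, pow_one]
  -- S is commutative, hence S ≤ C(S)
  have hScomm : ∀ u ∈ (S : Subgroup G), ∀ v ∈ (S : Subgroup G), u * v = v * u := by
    intro u hu v hv
    have hcyc : IsCyclic (S : Subgroup G) := isCyclic_of_prime_card (p := r) hScard
    have hc : ∀ u v : (S : Subgroup G), u * v = v * u := by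
      intro u v
      have hcm : IsMulCommutative (S : Subgroup G) := IsCyclic.isMulCommutative
      exact hcm.is_comm.comm u v
    have := hc ⟨u, hu⟩ ⟨v, hv⟩
    exact congrArg Subtype.val this
  have hle : (S : Subgroup G) ≤ Subgroup.centralizer (S : Set G) := by
    intro u hu
    rw [Subgroup.mem_centralizer_iff]
    intro v hv
    exact hScomm v hv u hu
  by_contra hne
  have hlt : (S : Subgroup G) < Subgroup.centralizer (S : Set G) :=
    lt_of_le_of_ne hle (Ne.symm hne)
  -- the order of the centralizer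
  obtain ⟨C, hC⟩ : ∃ C : Subgroup G, C = Subgroup.centralizer (S : Set G) := ⟨_, rfl⟩
  rw [← hC] at hlt hle
  have hCdvd : Nat.card C ∣ p ^ a * q ^ b * r := by
    rw [← hcard]; exact Subgroup.card_subgroup_dvd_card C
  have hSdvd : r ∣ Nat.card C := by
    rw [← hScard]; exact Subgroup.card_dvd_of_le hle
  have hcardlt : r < Nat.card C := by
    by_contra hge
    push Not at hge
    have := Subgroup.eq_of_le_of_card_ge hle (by rw [hScard]; exact hge)
    exact hlt.ne this
  -- a prime s ∈ {p, q} dividing |C|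
  have hex : p ∣ Nat.card C ∨ q ∣ Nat.card C := by
    obtain ⟨m, hm⟩ := hSdvd
    have hm1 : 1 < m := by
      by_contra h
      push Not at h
      have hCpos : 0 < Nat.card C := Nat.card_pos
      have : m = 0 ∨ m = 1 := by omega
      rcases this with h0 | h1
      · rw [h0, mul_zero] at hm; omega
      · rw [h1, mul_one] at hm; omega
    have hmd : m ∣ p ^ a * q ^ b := by
      rw [hm] at hCdvd
      have : r * m ∣ r * (p ^ a * q ^ b) := by
        rw [mul_comm r (p ^ a * q ^ b)]; exact hCdvd
      exact (Nat.mul_dvd_mul_iff_left hr.pos).mp this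
    obtain ⟨t, ht, htm⟩ := Nat.exists_prime_and_dvd (show m ≠ 1 by omega)
    have htd : t ∣ p ^ a * q ^ b := htm.trans hmd
    rcases (Nat.Prime.dvd_mul ht).mp htd with h | h
    · left
      have := (Nat.prime_dvd_prime_iff_eq ht hp).mp (ht.dvd_of_dvd_pow h)
      rw [← this, hm]; exact htm.mul_left r
    · right
      have := (Nat.prime_dvd_prime_iff_eq ht hq).mp (ht.dvd_of_dvd_pow h)
      rw [← this, hm]; exact htm.mul_left r
  -- a generator of S
  have hrS : r ∣ Nat.card (S : Subgroup G) := by rw [hScard]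
  obtain ⟨ρ, hρ⟩ := exists_prime_orderOf_dvd_card' (G := (S : Subgroup G)) r hrS
  have hρ' : orderOf (ρ : G) = r := by rw [Subgroup.orderOf_coe]; exact hρ
  -- general contradiction from an element v ∈ C of prime order s ≠ r
  have main : ∀ (s s' x y : ℕ), s.Prime → s'.Prime → s' ≠ r → s ≠ r →
      Nat.card G = s ^ x * s' ^ y * r → s ∣ Nat.card C → False := by
    intro s s' x y hs hs' hs'r hsr hcard' hsC
    haveI : Fact s.Prime := ⟨hs⟩
    obtain ⟨v, hv⟩ := exists_prime_orderOf_dvd_card' (G := C) s hsC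
    have hv' : orderOf (v : G) = s := by rw [Subgroup.orderOf_coe]; exact hv
    have hcomm : Commute (ρ : G) (v : G) := by
      have hvC : (v : G) ∈ Subgroup.centralizer (S : Set G) := by rw [← hC]; exact v.2
      rw [Subgroup.mem_centralizer_iff] at hvC
      exact hvC (ρ : G) ρ.2
    have hcop : Nat.Coprime (orderOf (ρ : G)) (orderOf (v : G)) := by
      rw [hρ', hv']
      exact (Nat.coprime_primes hr hs).mpr (Ne.symm hsr)
    have hord : orderOf ((ρ : G) * (v : G)) = r * s := by
      rw [hcomm.orderOf_mul_eq_mul_orderOf_of_coprime hcop, hρ', hv']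
    by_cases hab : ∀ u w : G, u * w = w * u
    · -- abelian case: ⟨v⟩ is normal, hence everything
      have hnorm : (Subgroup.zpowers (v : G)).Normal := by
        constructor
        intro n hn g
        have : g * n * g⁻¹ = n := by rw [hab g n, mul_inv_cancel_right]
        rw [this]; exact hn
      have hvne : (v : G) ≠ 1 := by
        intro h1
        rw [h1, orderOf_one] at hv'
        exact hs.one_lt.ne hv'
      rcases hnorm.eq_bot_or_eq_top with h | h
      · apply hvne
        have : (v : G) ∈ Subgroup.zpowers (v : G) := Subgroup.mem_zpowers _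
        rw [h, Subgroup.mem_bot] at this
        exact this
      · have hGs : Nat.card G = s := by
          rw [← hv', ← Nat.card_zpowers, h, Subgroup.card_top]
        have hrG : r ∣ Nat.card G := by rw [hcard']; exact dvd_mul_left r _
        rw [hGs] at hrG
        exact hsr ((Nat.prime_dvd_prime_iff_eq hr hs).mp hrG).symm
    · push Not at hab
      obtain ⟨u, w, huw⟩ := hab
      exact no_mixed_element ⟨u, w, huw⟩ s s' r x y hs hs' hr hs'r hsr hcard'
        ((ρ : G) * (v : G)) (by rw [hord]; exact dvd_mul_left s r) (by rw [hord]; exact dvd_mul_right r s)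
  rcases hex with h | h
  · exact main p q a b hp hq hqr hpr hcard h
  · exact main q p b a hq hp hpr hqr (by rw [hcard]; ring) h

end Cfsg.Agent.S0904
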