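import Cfsg.Statements.S0909
import Mathlib
import Cfsg.Agent.Lib.Helper16.DefectClass
-- import your own Cfsg.Agent.* helpers here

set_option autoImplicit false
open Cfsg

namespace Cfsg.Agent.S0909

open Cfsg.Agent.Lib.Helper16 MonoidAlgebra
open scoped ComplexConjugate

theorem main_S0909 {G : Type*} [Group G] [Finite G] (p : ℕ) [Fact p.Prime] (M : Ideal Cfsg.AlgInt) (hM : Cfsg.IsPModular p M) (A : Set (Cfsg.IrrCharacter G)) (hA : ∀ g : G, Cfsg.MemLocalRing M (Cfsg.blockCoeff A g)) (χ : Cfsg.IrrCharacter G) (hχ : χ ∈ A) : Cfsg.blockOf M (χ : G → ℂ) ⊆ A := by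
  classical
  have := Fintype.ofFinite G
  have hMp : M.IsPrime := isPModular_isPrime hM
  -- the central element with coefficients blockCoeff A
  let z0 : MonoidAlgebra ℂ G := ∑ g : G, single g (blockCoeff A g)
  have hcoeff : ∀ x : G, z0.coeff x = blockCoeff A x := by
    intro x
    show (∑ g : G, single g (blockCoeff A g)).coeff x = blockCoeff A x
    rw [coeff_sum, Finsupp.finsetSum_apply]
    simp only [coeff_single, Finsupp.single_apply]
    rw [Finset.sum_ite_eq' Finset.univ x]
    simp
  have hcenter : z0 ∈ Subalgebra.center ℂ (MonoidAlgebra ℂ G) := by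
    apply mem_center_of_coeff_conj
    intro g h
    rw [hcoeff, hcoeff, blockCoeff_conj]
  let z : Subalgebra.center ℂ (MonoidAlgebra ℂ G) := ⟨z0, hcenter⟩
  have hzO : z ∈ centerOrder G M := by
    intro g
    show MemLocalRing M (z0.coeff g)
    rw [hcoeff]
    exact hA g
  have homega : ∀ ψ : IrrCharacter G, omegaHom ψ z = if ψ ∈ A then 1 else 0 := by
    intro ψ
    rw [omegaHom_apply]
    show omega (ψ : G → ℂ) z0 = _
    unfold omega
    simp only [hcoeff]
    rw [sum_blockCoeff_mul]
    have h1 : (ψ : G → ℂ) 1 ≠ 0 := Cfsg.Agent.Lib.Helper79.irr_apply_one_ne_zero ψ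
    by_cases h : ψ ∈ A
    · rw [if_pos h, if_pos h, div_self h1]
    · rw [if_neg h, if_neg h, zero_div]
  intro ψ hψ
  by_contra hψA
  have hsb : SameBlock M (χ : G → ℂ) (ψ : G → ℂ) := hψ
  have := sameBlock_omegaHom_congr hsb hzO
  rw [homega χ, homega ψ, if_pos hχ, if_neg hψA, sub_zero] at this
  exact one_not_memLocalIdeal this


/-- Let A be a set of irreducible characters of the finite group G such that, for every g, the inverse of the group order times the sum over χ ∈ A of χ 1 * conj (χ g) is a local integer at the maximal ideal M (containing the prime p) of the algebraic integers. Then A is a union of blocks relative to M: it contains the whole block of each of its members. -/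
theorem result {G : Type*} [Group G] [Finite G] (p : ℕ) [Fact p.Prime] (M : Ideal Cfsg.AlgInt) (hM : Cfsg.IsPModular p M) (A : Set (Cfsg.IrrCharacter G)) (hA : ∀ g : G, Cfsg.MemLocalRing M (Cfsg.blockCoeff A g)) (χ : Cfsg.IrrCharacter G) (hχ : χ ∈ A) : Cfsg.blockOf M (χ : G → ℂ) ⊆ A := by
  exact main_S0909 p M hM A hA χ hχ

end Cfsg.Agent.S0909
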