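import Cfsg.Statements.S0926
import Cfsg.Agent.S0911
import Cfsg.Agent.S0927
import Cfsg.Agent.S0924
import Cfsg.Agent.Lib.Helper78.DefectOrder

set_option autoImplicit false
open Cfsg

namespace Cfsg.Agent.S0926

open Cfsg.Agent.Lib.Helper16 Cfsg.Agent.Lib.Helper78

/-- Any two defect groups of a block are conjugate (one direction: containment). -/
theorem defectGroup_le_conj {G : Type*} [Group G] [Finite G] (p : ℕ) [Fact p.Prime]
    (M : Ideal Cfsg.AlgInt) (hM : Cfsg.IsPModular p M) (B : Set (Cfsg.IrrCharacter G))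
    (hB : Cfsg.IsPBlock M B) (D E : Subgroup G) (hD : Cfsg.IsDefectGroup p M B D)
    (hE : Cfsg.IsDefectGroup p M B E) :
    ∃ c : G, ∀ e ∈ E, c⁻¹ * e * c ∈ D := by
  obtain ⟨g, hg, Dsyl, rfl⟩ := hD
  obtain ⟨h, hh, PE, rfl⟩ := hE
  obtain ⟨x₁, Q, hQ⟩ := (Cfsg.Agent.S0911.result p M hM B hB g hg Dsyl h).1 hh.1 hh.2.1
  have hPEp : IsPGroup p ((PE : Subgroup (Subgroup.centralizer ({h} : Set G))).map
      (Subgroup.centralizer ({h} : Set G)).subtype) := PE.2.map _
  obtain ⟨z, _, hz⟩ := exists_conj_sylow_map_ge (Subgroup.centralizer ({h} : Set G)) Q _ hPEp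
    (Subgroup.map_subtype_le _)
  refine ⟨z * x₁, fun e he => ?_⟩
  have h1 := hz he
  rw [mem_map_conj_iff] at h1
  have h2 := hQ h1
  rw [mem_map_conj_iff] at h2
  have : (z * x₁)⁻¹ * e * (z * x₁) = x₁⁻¹ * (z⁻¹ * e * z) * x₁ := by group
  rw [this]
  exact h2

/-- Let B be a block of the finite group G with defect group D (relative to a maximal ideal M of the algebraic integers containing p), let χ ∈ B have height zero, and let x be a p-element. Then some conjugate of x lies in D if and only if χ does not vanish on the whole p-section of x (the elements whose p-part is conjugate to x). -/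
theorem result {G : Type*} [Group G] [Finite G] (p : ℕ) [Fact p.Prime] (M : Ideal Cfsg.AlgInt) (hM : Cfsg.IsPModular p M) (B : Set (Cfsg.IrrCharacter G)) (hB : Cfsg.IsPBlock M B) (D : Subgroup G) (hD : Cfsg.IsDefectGroup p M B D) (χ : Cfsg.IrrCharacter G) (hχ : χ ∈ B) (h0 : Cfsg.blockHeight p B (χ : G → ℂ) = 0) (x : G) (hx : ∃ k : ℕ, orderOf x = p ^ k) : (∃ g : G, g * x * g⁻¹ ∈ D) ↔ ∃ u : G, (∃ z : G, Cfsg.IsPPart p u z ∧ IsConj x z) ∧ (χ : G → ℂ) u ≠ 0 := by
  classical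
  have := Fintype.ofFinite G
  have hMp := isPModular_isPrime hM
  constructor
  · rintro ⟨g₀, hg₀⟩
    obtain ⟨y, hy, P, rfl⟩ := hD
    obtain ⟨xP, hxP, hxPe⟩ := hg₀
    have h1 := (Cfsg.Agent.S0927.result p M hM B hB y hy P xP hxP).1 χ hχ h0
    have hcomm : Commute (xP : G) y := by
      have := Subgroup.mem_centralizer_singleton_iff.mp xP.2
      exact this
    refine ⟨(xP : G) * y, ⟨(xP : G), ⟨y, rfl, hcomm, ?_, IsDefectClass.not_dvd_orderOf hM hB hy⟩, ?_⟩, ?_⟩
    · have hk := (IsPGroup.iff_orderOf.mp P.2) ⟨xP, hxP⟩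
      obtain ⟨k, hk⟩ := hk
      refine ⟨k, ?_⟩
      have h2 : orderOf (⟨xP, hxP⟩ : (P : Subgroup (Subgroup.centralizer ({y} : Set G)))) = orderOf (xP : G) := by
        rw [Subgroup.orderOf_mk, Subgroup.orderOf_coe]
      rw [← h2, hk]
    · rw [isConj_iff]
      exact ⟨g₀, hxPe.symm⟩
    · intro h3
      apply h1
      rw [h3]
      exact memLocalIdeal_zero hMp.ne_top
  · rintro ⟨u, ⟨z, hpp, hconj⟩, hne⟩
    have hBeq := IsPBlock_eq_blockOf hB hχ
    have hex : ∃ E : Subgroup G, Cfsg.IsDefectGroup p M (Cfsg.blockOf M (χ : G → ℂ)) E ∧ z ∈ E := by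
      by_contra hcon
      push Not at hcon
      exact hne (Cfsg.Agent.S0924.result p M hM χ u z hpp hcon)
    obtain ⟨E, hE, hzE⟩ := hex
    rw [← hBeq] at hE
    obtain ⟨c, hc⟩ := defectGroup_le_conj p M hM B hB D E hD hE
    obtain ⟨a, ha⟩ := isConj_iff.mp hconj
    refine ⟨c⁻¹ * a, ?_⟩
    have h4 := hc z hzE
    have : c⁻¹ * a * x * (c⁻¹ * a)⁻¹ = c⁻¹ * (a * x * a⁻¹) * c := by group
    rw [this, ha]
    exact h4

end Cfsg.Agent.S0926
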