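import Cfsg.Statements.S0928
import Cfsg.Agent.Lib.Helper82.VanishOrderP
import Cfsg.Agent.Lib.Helper75.PQRDegree

set_option autoImplicit false
open Cfsg

namespace Cfsg.Agent.S0928

/-- Let χ be an irreducible character of the finite group G and p a prime. If χ g = 0 for every element g of order p, then the exponent of p in the degree χ(1) equals the exponent of p in the order of G (χ has p-defect zero). -/
theorem result {G : Type*} [Group G] [Finite G] (p : ℕ) [Fact p.Prime] (χ : Cfsg.IrrCharacter G) (hvan : ∀ g : G, orderOf g = p → (χ : G → ℂ) g = 0) : (Cfsg.charDegree (χ : G → ℂ)).factorization p = (Nat.card G).factorization p := by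
  classical
  have : Fintype G := Fintype.ofFinite G
  have hp : p.Prime := Fact.out
  obtain ⟨M, hM⟩ := Cfsg.Agent.Lib.Helper75.exists_isPModular p hp
  have hMp := Cfsg.Agent.Lib.Helper16.isPModular_isPrime hM
  have hB : Cfsg.IsPBlock M (Cfsg.blockOf M (χ : G → ℂ)) :=
    Cfsg.Agent.Lib.Helper16.isPBlock_blockOf χ
  have hχ : χ ∈ Cfsg.blockOf M (χ : G → ℂ) := Cfsg.Agent.Lib.Helper16.self_mem_blockOf hMp.ne_top χ
  obtain ⟨D, hD⟩ := Cfsg.Agent.Lib.Helper16.exists_isDefectGroup p hB
  have hbot := Cfsg.Agent.Lib.Helper82.defectGroup_eq_bot_of_vanish hM χ hvan hB hχ D hD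
  have hcard := Cfsg.Agent.Lib.Helper78.card_defectGroup hM hB hD
  rw [hbot, Subgroup.card_bot] at hcard
  have hd0 : Cfsg.blockDefect p (Cfsg.blockOf M (χ : G → ℂ)) = 0 := by
    by_contra hne
    have : 1 < p ^ Cfsg.blockDefect p (Cfsg.blockOf M (χ : G → ℂ)) :=
      Nat.one_lt_pow hne hp.one_lt
    omega
  unfold Cfsg.blockDefect at hd0
  have h1 : sInf ((fun ψ : Cfsg.IrrCharacter G =>
      (Cfsg.charDegree (ψ : G → ℂ)).factorization p) '' Cfsg.blockOf M (χ : G → ℂ)) ≤
      (Cfsg.charDegree (χ : G → ℂ)).factorization p :=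
    Nat.sInf_le (Set.mem_image_of_mem _ hχ)
  have h2 : (Cfsg.charDegree (χ : G → ℂ)).factorization p ≤ (Nat.card G).factorization p := by
    have hdvd := Cfsg.Agent.Lib.Helper79.irr_charDegree_dvd_card χ
    exact (Nat.factorization_le_iff_dvd (Cfsg.Agent.Lib.Helper79.irr_charDegree_pos χ).ne'
      Nat.card_pos.ne').mpr hdvd p
  omega

end Cfsg.Agent.S0928
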