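import Cfsg.Statements.S0930
import Cfsg.Agent.S0927
import Cfsg.Agent.Lib.Helper16.NormalDefect

set_option autoImplicit false
open Cfsg

namespace Cfsg.Agent.S0930

open Cfsg.Agent.Lib.Helper16

/-- Let H be a subgroup of the finite group G and fix a maximal ideal M of the algebraic integers containing the prime p. If the block b of H with defect group D induces the block B of G with defect group P, then every element of the centre of P is conjugate in G to an element of the centre of D. -/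
theorem result {G : Type*} [Group G] [Finite G] (p : ℕ) [Fact p.Prime] (M : Ideal Cfsg.AlgInt) (hM : Cfsg.IsPModular p M) (H : Subgroup G) (b : Set (Cfsg.IrrCharacter H)) (B : Set (Cfsg.IrrCharacter G)) (hind : Cfsg.IsInducedBlock M H b B) (D : Subgroup H) (hD : Cfsg.IsDefectGroup p M b D) (P : Subgroup G) (hP : Cfsg.IsDefectGroup p M B P) (x : G) (hx : x ∈ P) (hxc : ∀ w ∈ P, x * w = w * x) : ∃ g : G, g * x * g⁻¹ ∈ D.map H.subtype ∧ ∀ w ∈ D.map H.subtype, (g * x * g⁻¹) * w = w * (g * x * g⁻¹) := by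
  classical
  have hMp : M.IsPrime := isPModular_isPrime hM
  have : Fintype G := Fintype.ofFinite G
  have : Fintype H := Fintype.ofFinite H
  have hb := hind.1
  have hB := hind.2.1
  obtain ⟨y, hy, Q, rfl⟩ := hP
  obtain ⟨x', hx'Q, rfl⟩ := hx
  have hcentral : ∀ w ∈ (Q : Subgroup (Subgroup.centralizer ({y} : Set G))), x' * w = w * x' := by
    intro w hw
    exact Subtype.ext (hxc (w : G) ⟨w, hw, rfl⟩)
  have h27 := (Cfsg.Agent.S0927.result p M hM B hB y hy Q x' hx'Q).2 hcentral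
  obtain ⟨χ, hχ⟩ := IsPBlock_nonempty hMp.ne_top hB
  obtain ⟨ξ, hξ⟩ := IsPBlock_nonempty hMp.ne_top hb
  have hnot : ¬ MemLocalIdeal M (inducedCentralChar H (ξ : H → ℂ) ((x' : G) * y)) := by
    rw [memLocalIdeal_congr (hind.2.2 ξ hξ χ hχ _)]
    exact h27 χ hχ
  obtain ⟨h, hconj, hh⟩ := exists_of_inducedCentralChar_not_mem H ξ _ hnot
  obtain ⟨h', hconj', -, hpp⟩ := exists_conj_centralizing_defectGroup hM hb D hD h hξ hh
  have hconjG : IsConj (h : G) (h' : G) := by
    obtain ⟨k, hk⟩ := isConj_iff.mp hconj'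
    refine isConj_iff.mpr ⟨(k : G), ?_⟩
    rw [← hk]
    push_cast
    rfl
  obtain ⟨t, ht⟩ := isConj_iff.mp (hconj.trans hconjG)
  have hxy : (x' : G) * y = y * (x' : G) := Subgroup.mem_centralizer_singleton_iff.mp x'.2
  have hyreg : ¬ p ∣ orderOf y := Cfsg.Agent.Lib.Helper78.IsDefectClass.not_dvd_orderOf hM hB hy
  obtain ⟨k, hk⟩ := (IsPGroup.iff_orderOf.mp Q.2) ⟨x', hx'Q⟩
  have hord : ∀ a : G, orderOf (t * a * t⁻¹) = orderOf a := fun a =>
    orderOf_injective (MulAut.conj t).toMonoidHom (MulAut.conj t).injective a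
  have hpart : IsPPart p (h' : G) (t * (x' : G) * t⁻¹) := by
    refine ⟨t * y * t⁻¹, ?_, ?_, ⟨k, ?_⟩, ?_⟩
    · rw [← ht]
      group
    · show t * (x' : G) * t⁻¹ * (t * y * t⁻¹) = t * y * t⁻¹ * (t * (x' : G) * t⁻¹)
      calc t * (x' : G) * t⁻¹ * (t * y * t⁻¹) = t * ((x' : G) * y) * t⁻¹ := by group
        _ = t * (y * (x' : G)) * t⁻¹ := by rw [hxy]
        _ = t * y * t⁻¹ * (t * (x' : G) * t⁻¹) := by group
    · rw [hord, ← hk]
      simp
    · rw [hord]
      exact hyreg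
  obtain ⟨z', hz'eq, hz'⟩ := isPPart_subgroup H h' hpart
  obtain ⟨hzD, hzc⟩ := hpp z' hz'
  refine ⟨t, ⟨z', hzD, hz'eq⟩, ?_⟩
  rintro _ ⟨w, hw, rfl⟩
  have := congrArg Subtype.val (hzc w hw)
  show t * (x' : G) * t⁻¹ * (w : G) = (w : G) * (t * (x' : G) * t⁻¹)
  rw [← hz'eq]
  exact this

end Cfsg.Agent.S0930
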