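import Cfsg.Statements.S0931
import Cfsg.Agent.Lib.Helper78.DefectClassVal
import Cfsg.Agent.Lib.Helper78.BlockRankDefect
import Cfsg.Agent.Lib.Helper16.Induced

set_option autoImplicit false
open Cfsg

namespace Cfsg.Agent.S0931

open Cfsg.Agent.Lib.Helper16 Cfsg.Agent.Lib.Helper78

set_option linter.style.haveILetI false

/-- Let H be a subgroup of the finite group G and fix a maximal ideal M of the algebraic integers containing the prime p. If the block b of H induces the block B of G, then b has defect 0 if and only if B has defect 0. -/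
theorem result {G : Type*} [Group G] [Finite G] (p : ℕ) [Fact p.Prime] (M : Ideal Cfsg.AlgInt) (hM : Cfsg.IsPModular p M) (H : Subgroup G) (b : Set (Cfsg.IrrCharacter H)) (B : Set (Cfsg.IrrCharacter G)) (hind : Cfsg.IsInducedBlock M H b B) : Cfsg.blockDefect p b = 0 ↔ Cfsg.blockDefect p B = 0 := by
  classical
  haveI := Fintype.ofFinite G
  haveI : Fintype H := Fintype.ofFinite H
  haveI hMp := isPModular_isPrime hM
  have hp : p.Prime := Fact.out
  obtain ⟨hb, hB, hcong⟩ := hind
  obtain ⟨ξ, hξ⟩ := IsPBlock_nonempty hMp.ne_top hb
  obtain ⟨χ, hχ⟩ := IsPBlock_nonempty hMp.ne_top hB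
  obtain ⟨g, hg⟩ := exists_isDefectClass hB
  -- transfer of non-vanishing central characters from `G` to `H`
  have transfer : ∀ g' : G, ¬ MemLocalIdeal M (centralChar (χ : G → ℂ) g') →
      ∃ h : H, IsConj g' (h : G) ∧ ¬ MemLocalIdeal M (centralChar (ξ : H → ℂ) h) := by
    intro g' hg'
    apply exists_of_inducedCentralChar_not_mem H ξ g'
    intro hmem
    apply hg'
    have h1 := hcong ξ hξ χ hχ g'
    have h2 := memLocalIdeal_sub hmem h1
    rwa [sub_sub_cancel] at h2
  constructor
  · -- defect zero for `b` implies defect zero for `B`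
    intro hb0
    by_contra hB0
    obtain ⟨P⟩ : Nonempty (Sylow p (Subgroup.centralizer ({g} : Set G))) := inferInstance
    have hcardP : Nat.card (P : Subgroup (Subgroup.centralizer ({g} : Set G))) =
        p ^ blockDefect p B := by
      rw [P.card_eq_multiplicity, factorization_card_centralizer_eq_blockDefect hM hB hg]
    haveI : Nontrivial (P : Subgroup (Subgroup.centralizer ({g} : Set G))) := by
      rw [← Finite.one_lt_card_iff_nontrivial, hcardP]
      exact Nat.one_lt_pow hB0 hp.one_lt
    haveI := P.2.center_nontrivial
    obtain ⟨z, hz⟩ := exists_ne (1 : Subgroup.center (P : Subgroup (Subgroup.centralizer ({g} : Set G))))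
    obtain ⟨x, hxdef⟩ : ∃ x : Subgroup.centralizer ({g} : Set G),
        x = ((z : (P : Subgroup (Subgroup.centralizer ({g} : Set G)))) :
          Subgroup.centralizer ({g} : Set G)) := ⟨_, rfl⟩
    have hxP : x ∈ (P : Subgroup (Subgroup.centralizer ({g} : Set G))) := by
      rw [hxdef]
      exact (z : (P : Subgroup (Subgroup.centralizer ({g} : Set G)))).2
    have hx1 : (x : G) ≠ 1 := by
      intro h1
      apply hz
      have h2 : x = 1 := Subtype.ext (by simpa using h1)
      rw [hxdef] at h2
      have h3 : (z : (P : Subgroup (Subgroup.centralizer ({g} : Set G)))) = 1 :=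
        Subtype.ext (by simpa using h2)
      exact Subtype.ext (by simpa using h3)
    have hxZ : ∀ w ∈ (P : Subgroup (Subgroup.centralizer ({g} : Set G))), x * w = w * x := by
      intro w hw
      have h1 := (Subgroup.mem_center_iff.mp z.2) ⟨w, hw⟩
      have h2 := congrArg (fun t : (P : Subgroup (Subgroup.centralizer ({g} : Set G))) =>
        (t : Subgroup.centralizer ({g} : Set G))) h1
      simp only [Subgroup.coe_mul] at h2
      rw [hxdef]
      exact h2.symm
    have hω := centralChar_mul_not_memLocalIdeal hM hB hg P x hxP hxZ hχ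
    obtain ⟨h, hconj, hωh⟩ := transfer _ hω
    -- `h` is `p`-singular
    have hxy : Commute (x : G) g := by
      have := x.2
      rw [Subgroup.mem_centralizer_singleton_iff] at this
      exact this
    have hxord : ∃ k : ℕ, orderOf (x : G) = p ^ k := by
      obtain ⟨k, hk⟩ := (P.2 ⟨x, hxP⟩)
      have h1 : x ^ p ^ k = 1 := by
        have := congrArg (Subtype.val) hk
        simpa using this
      have h2 : (x : G) ^ p ^ k = 1 := by
        have := congrArg (Subtype.val) h1
        simpa using this
      exact (Nat.dvd_prime_pow hp).mp (orderOf_dvd_of_pow_eq_one h2) |>.imp fun j hj => hj.2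
    obtain ⟨k, hk⟩ := hxord
    have hk0 : k ≠ 0 := by
      rintro rfl
      rw [pow_zero, orderOf_eq_one_iff] at hk
      exact hx1 hk
    have hgreg : ¬ p ∣ orderOf g := IsDefectClass.not_dvd_orderOf hM hB hg
    have hcop : Nat.Coprime (orderOf (x : G)) (orderOf g) := by
      rw [hk]
      exact Nat.Coprime.pow_left _ ((Nat.Prime.coprime_iff_not_dvd hp).mpr hgreg)
    have hord : orderOf ((x : G) * g) = orderOf (x : G) * orderOf g :=
      hxy.orderOf_mul_eq_mul_orderOf_of_coprime hcop
    have hsing : p ∣ orderOf (h : G) := by
      obtain ⟨c, hc⟩ := isConj_iff.mp hconj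
      have hoe : orderOf (h : G) = orderOf ((x : G) * g) := by
        rw [← hc]
        exact orderOf_injective (MulAut.conj c).toMonoidHom (MulAut.conj c).injective _
      rw [hoe, hord, hk]
      exact Dvd.dvd.mul_right (dvd_pow_self p hk0) _
    have hsing' : p ∣ orderOf h := by
      rwa [Subgroup.orderOf_coe] at hsing
    obtain ⟨ξ', hξ'⟩ := eq_singleton_of_blockDefect_eq_zero hM hb hb0
    have hξeq : ξ = ξ' := by
      rw [hξ'] at hξ
      exact hξ
    subst hξeq
    have hbo : blockOf M (ξ : H → ℂ) = {ξ} := by
      rw [← IsPBlock_eq_blockOf hb hξ]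
      exact hξ'
    have hvan := Cfsg.Agent.S0914.vanish_of_block_singleton p M hM ξ hbo h hsing'
    apply hωh
    unfold centralChar
    rw [hvan, mul_zero, zero_div]
    exact memLocalIdeal_zero hMp.ne_top
  · -- defect zero for `B` implies defect zero for `b`
    intro hB0
    obtain ⟨h, hconj, hωh⟩ := transfer g (hg.2.2 χ hχ)
    have h1 := blockDefect_le_factorization_card_centralizer hM hb hξ hωh
    have h2 : Nat.card (Subgroup.centralizer ({h} : Set H)) ∣
        Nat.card (Subgroup.centralizer ({(h : G)} : Set G)) := by
      have hle : (Subgroup.centralizer ({h} : Set H)).map H.subtype ≤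
          Subgroup.centralizer ({(h : G)} : Set G) := by
        rintro _ ⟨w, hw, rfl⟩
        rw [SetLike.mem_coe, Subgroup.mem_centralizer_singleton_iff] at hw
        rw [Subgroup.mem_centralizer_singleton_iff]
        have := congrArg (Subtype.val : H → G) hw
        simpa using this
      have := Subgroup.card_dvd_of_le hle
      rwa [Subgroup.card_map_of_injective (Subgroup.subtype_injective _)] at this
    have h3 : Nat.card (Subgroup.centralizer ({(h : G)} : Set G)) =
        Nat.card (Subgroup.centralizer ({g} : Set G)) :=
      (card_centralizer_eq_of_isConj hconj).symm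
    have h4 := factorization_card_centralizer_eq_blockDefect hM hB hg
    have h5 : (Nat.card (Subgroup.centralizer ({h} : Set H))).factorization p ≤
        (Nat.card (Subgroup.centralizer ({(h : G)} : Set G))).factorization p :=
      (Nat.factorization_le_iff_dvd Nat.card_pos.ne' Nat.card_pos.ne').mpr h2 p
    rw [h3, h4, hB0] at h5
    omega

end Cfsg.Agent.S0931
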