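import Cfsg.Statements.S0933
import Cfsg.Agent.Lib.Helper16.Induced
import Cfsg.Agent.S0932

set_option autoImplicit false
open Cfsg

namespace Cfsg.Agent.S0933

open Cfsg.Agent.Lib.Helper16

/-- Let H be a subgroup of the finite group G and ξ an irreducible character of H such that the induced function ξ^G is an irreducible character of G. Then, relative to any maximal ideal M of the algebraic integers containing the prime p, the block of ξ induces the block of ξ^G. -/
theorem result {G : Type*} [Group G] [Fintype G] (p : ℕ) [Fact p.Prime] (M : Ideal Cfsg.AlgInt) (hM : Cfsg.IsPModular p M) (H : Subgroup G) (ξ : Cfsg.IrrCharacter H) (hind : Cfsg.IsIrrCharacter G (Cfsg.indFun H (ξ : H → ℂ))) : Cfsg.IsInducedBlock M H (Cfsg.blockOf M (ξ : H → ℂ)) (Cfsg.blockOf M (Cfsg.indFun H (ξ : H → ℂ))) := by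
  classical
  have hMp : M.IsPrime := isPModular_isPrime hM
  have : Fintype H := Fintype.ofFinite H
  refine ⟨⟨ξ, rfl⟩, ⟨⟨indFun H (ξ : H → ℂ), hind⟩, rfl⟩, ?_⟩
  intro ξ' hξ' χ hχ g
  -- `ξ'` is in the block of `ξ`, `χ` in the block of `ξ^G`
  have h1 : MemLocalIdeal M (inducedCentralChar H (ξ' : H → ℂ) g -
      inducedCentralChar H (ξ : H → ℂ) g) :=
    inducedCentralChar_congr H (sameBlock_symm hξ') g
  have hchar : IsCharacter H (ξ : H → ℂ) := by
    obtain ⟨n, ρ, _, h⟩ := ξ.2
    exact ⟨n, ρ, h⟩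
  have h2 : inducedCentralChar H (ξ : H → ℂ) g = centralChar (indFun H (ξ : H → ℂ)) g :=
    Cfsg.Agent.S0932.result H (ξ : H → ℂ) hchar g
  have h3 : MemLocalIdeal M (centralChar (indFun H (ξ : H → ℂ)) g - centralChar (χ : G → ℂ) g) :=
    hχ g
  rw [← h2] at h3
  exact memLocalIdeal_sub_trans h1 h3

end Cfsg.Agent.S0933
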