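import Cfsg.Statements.S0935
import Cfsg.Agent.S0937
import Cfsg.Agent.S4431
import Cfsg.Agent.S4426
import Cfsg.Agent.Lib.Helper78.CharOrtho
import Cfsg.Agent.Lib.Helper79.Integrality

set_option autoImplicit false
open Cfsg

namespace Cfsg.Agent.S0935

open Cfsg.Agent.Lib Cfsg.Agent.Lib.Helper16 Cfsg.Agent.Lib.Helper77 Cfsg.Agent.Lib.Helper78

/-- Let H be a subgroup of the finite group G and χ an irreducible character of G whose restriction to H is irreducible; fix a maximal ideal M of the algebraic integers containing the prime p and suppose χ and its restriction have height zero in their blocks B and b. If e is a block of H whose induced block is defined, then e induces B if and only if e = b. -/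
theorem result {G : Type*} [Group G] [Finite G] (p : ℕ) [Fact p.Prime] (M : Ideal Cfsg.AlgInt) (hM : Cfsg.IsPModular p M) (H : Subgroup G) (χ : Cfsg.IrrCharacter G) (hres : Cfsg.IsIrrCharacter H (fun h : H => (χ : G → ℂ) h)) (hχ0 : Cfsg.blockHeight p (Cfsg.blockOf M (χ : G → ℂ)) (χ : G → ℂ) = 0) (hψ0 : Cfsg.blockHeight p (Cfsg.blockOf M (fun h : H => (χ : G → ℂ) h)) (fun h : H => (χ : G → ℂ) h) = 0) (e : Set (Cfsg.IrrCharacter H)) (he : Cfsg.InducedBlockDefined M H e) : Cfsg.IsInducedBlock M H e (Cfsg.blockOf M (χ : G → ℂ)) ↔ e = Cfsg.blockOf M (fun h : H => (χ : G → ℂ) h) := by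
  classical
  haveI : Fintype G := Fintype.ofFinite G
  haveI : Fintype H := Fintype.ofFinite H
  have hMp : M.IsPrime := isPModular_isPrime hM
  have hMt : M ≠ ⊤ := hMp.ne_top
  have hp : p.Prime := Fact.out
  set ψ : IrrCharacter H := ⟨fun h : H => (χ : G → ℂ) h, hres⟩ with hψdef
  have hψc : (ψ : H → ℂ) = fun h : H => (χ : G → ℂ) h := rfl
  constructor
  · intro hind
    obtain ⟨ξ, hξe, -, n, hn, hpn⟩ := Cfsg.Agent.S0937.result p M hM H e _ hind χ
      (self_mem_blockOf hMt χ) hχ0
    have hn0 : n ≠ 0 := by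
      rintro rfl
      exact hpn (dvd_zero p)
    have hψξ : ψ = ξ := by
      by_contra hne
      have hne' : (ψ : H → ℂ) ≠ (ξ : H → ℂ) := fun h => hne (Subtype.ext h)
      rw [← hψc, classInner_irr_ne ψ.2 ξ.2 hne'] at hn
      exact hn0 (by exact_mod_cast hn.symm)
    have hψe : ψ ∈ e := hψξ ▸ hξe
    exact IsPBlock_eq_blockOf hind.1 hψe
  · intro hee
    obtain ⟨B', hind⟩ := he
    have hψe : ψ ∈ e := by
      rw [hee]
      exact self_mem_blockOf hMt ψ
    have hχB' : χ ∈ B' := by
      by_contra hnot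
      have h1 := (Cfsg.Agent.S4431.result p M hM H e B' hind χ ψ hψe).1 hnot
      have h2 := ((Cfsg.Agent.S4426.result p M hM (blockOf M (ψ : H → ℂ)) (isPBlock_blockOf ψ) ψ
        (self_mem_blockOf hMt ψ)).2).1 hψ0 ψ (self_mem_blockOf hMt ψ)
      obtain ⟨n, hn, hn0, hval⟩ := h2
      have hD : charDegree (ψ : H → ℂ) ≠ 0 := (Helper79.irr_charDegree_pos ψ).ne'
      have h3 := Cfsg.Agent.S4431.ratio_not_memLocalIdeal (p := p) (M := M) hM hn0 hD hval
        (m := 1) (by
          intro h
          exact hp.one_lt.ne' (Nat.dvd_one.mp h))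
      apply h3
      rw [Helper79.irr_apply_one_eq_charDegree ψ] at h1
      have hn' : Cfsg.classInner (fun h : H => if p ∣ orderOf h then (0 : ℂ) else ((p ^ (Nat.card H).factorization p : ℕ) : ℂ) * (χ : G → ℂ) h) (ψ : H → ℂ) = (n : ℂ) := hn
      rw [hn'] at h1
      simpa using h1
    have hB' : B' = blockOf M (χ : G → ℂ) := IsPBlock_eq_blockOf hind.2.1 hχB'
    rw [← hB']
    exact hind

end Cfsg.Agent.S0935
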