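import Cfsg.Statements.S0940
import Cfsg.Agent.S0952
import Cfsg.Agent.Lib.Helper78.RotationTraceLocal
import Cfsg.Agent.Lib.Helper78.SMTOrtho2
import Cfsg.Agent.Lib.Helper78.BlockSums
import Cfsg.Agent.Lib.Helper74.PrincipalSMT
import Cfsg.Agent.Lib.Helper16.DefectClass
import Cfsg.Agent.Lib.Helper16.BrauerCC

set_option autoImplicit false
open Cfsg

namespace Cfsg.Agent.S0940

open Cfsg.Agent.Lib.Helper78 Cfsg.Agent.Lib.Helper16 Cfsg.Agent.Lib.Helper74 MonoidAlgebra
open scoped ComplexConjugate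

section Aux

variable {G : Type*} [Group G] [Fintype G] {p : ℕ} [Fact p.Prime] {M : Ideal AlgInt}

theorem orderOf_conj_eq (h x : G) : orderOf (h * x * h⁻¹) = orderOf x := by
  rw [← MulAut.conj_apply, MulEquiv.orderOf_eq]

open scoped Classical in
/-- The sum of the `p`-regular elements. -/
noncomputable def regSum (p : ℕ) (G : Type*) [Group G] [Fintype G] : MonoidAlgebra ℂ G :=
  ofFun (fun y : G => if ¬ p ∣ orderOf y then (1 : ℂ) else 0)

open scoped Classical in
/-- The sum of the `p`-elements. -/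
noncomputable def pelSum (p : ℕ) (G : Type*) [Group G] [Fintype G] : MonoidAlgebra ℂ G :=
  ofFun (fun x : G => if ∃ k : ℕ, orderOf x = p ^ k then (1 : ℂ) else 0)

omit [Fact p.Prime] in
theorem regSum_mem_center : regSum p G ∈ Subalgebra.center ℂ (MonoidAlgebra ℂ G) := by
  apply mem_center_of_coeff_conj
  intro g h
  unfold regSum
  rw [coeff_ofFun, coeff_ofFun, orderOf_conj_eq]

omit [Fact p.Prime] in
theorem pelSum_mem_center : pelSum p G ∈ Subalgebra.center ℂ (MonoidAlgebra ℂ G) := by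
  apply mem_center_of_coeff_conj
  intro g h
  unfold pelSum
  rw [coeff_ofFun, coeff_ofFun, orderOf_conj_eq]

/-- The trivial character. -/
noncomputable def triv (G : Type*) [Group G] [Fintype G] : IrrCharacter G :=
  ⟨fun _ => 1, Cfsg.Agent.Lib.Helper78.isIrrCharacter_one⟩

theorem blockOf_triv : blockOf M ((triv G : IrrCharacter G) : G → ℂ) = principalBlock M G := rfl

open scoped Classical in
/-- `ω_ψ` of the sum of the `p`-regular elements. -/
theorem omega_regSum (ψ : IrrCharacter G) :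
    omega (ψ : G → ℂ) (regSum p G) =
      (∑ y ∈ Finset.univ.filter (fun y : G => ¬ p ∣ orderOf y), (ψ : G → ℂ) y) / (ψ : G → ℂ) 1 := by
  unfold regSum
  rw [omega_ofFun, Finset.sum_filter]
  congr 1
  apply Finset.sum_congr rfl
  intro y _
  split_ifs <;> simp

open scoped Classical in
/-- The number of `p`-regular elements. -/
noncomputable def regCount (p : ℕ) (G : Type*) [Group G] [Fintype G] : ℕ :=
  (Finset.univ.filter (fun y : G => ¬ p ∣ orderOf y)).card

theorem omega_regSum_triv :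
    omega ((triv G : IrrCharacter G) : G → ℂ) (regSum p G) = (regCount p G : ℂ) := by
  classical
  rw [omega_regSum]
  show (∑ y ∈ Finset.univ.filter (fun y : G => ¬ p ∣ orderOf y), (1 : ℂ)) / 1 = _
  rw [Finset.sum_const, div_one, nsmul_eq_mul, mul_one]
  rfl

theorem regSum_mem_centerOrder [hMp : M.IsPrime] :
    (⟨regSum p G, regSum_mem_center⟩ : Subalgebra.center ℂ (MonoidAlgebra ℂ G)) ∈
      centerOrder G M := by
  classical
  intro g
  show MemLocalRing M ((regSum p G).coeff g)
  unfold regSum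
  rw [coeff_ofFun]
  split_ifs
  · exact memLocalRing_zero hMp.ne_top
  · exact memLocalRing_one hMp.ne_top

theorem omega_regSum_of_not_mem (hM : IsPModular p M) (ψ : IrrCharacter G)
    (hψ : ψ ∉ principalBlock M G) : omega (ψ : G → ℂ) (regSum p G) = 0 := by
  classical
  rw [omega_regSum]
  have h1 : ¬ SameBlock M (ψ : G → ℂ) ((triv G : IrrCharacter G) : G → ℂ) := by
    intro h
    exact hψ (sameBlock_symm h)
  have h2 := Cfsg.Agent.S0952.result p M hM ψ (triv G) h1
  rw [finsum_mem_eq_sum_filter_univ] at h2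
  have h3 : ∑ y ∈ Finset.univ.filter (fun y : G => ¬ p ∣ orderOf y), (ψ : G → ℂ) y = 0 := by
    rw [← h2]
    apply Finset.sum_congr
    · ext y; simp
    · intro y _
      show _ = (ψ : G → ℂ) y * conj (1 : ℂ)
      rw [map_one, mul_one]
  rw [h3, zero_div]

/-- The central element `w = u - R e`. -/
noncomputable def wElt (p : ℕ) (M : Ideal AlgInt) [M.IsPrime] (G : Type*) [Group G] [Fintype G] :
    Subalgebra.center ℂ (MonoidAlgebra ℂ G) :=
  (⟨regSum p G, regSum_mem_center⟩ : Subalgebra.center ℂ (MonoidAlgebra ℂ G)) -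
    algebraMap ℂ _ (regCount p G : ℂ) * blockIdem M (triv G)

theorem wElt_mem_centerOrder [hMp : M.IsPrime] : wElt p M G ∈ centerOrder G M := by
  unfold wElt
  apply (centerOrder G M).sub_mem regSum_mem_centerOrder
  exact (centerOrder G M).mul_mem
    (algebraMap_mem_centerOrder (memLocalRing_natCast hMp.ne_top _)) (blockIdem_mem _)

theorem omegaHom_wElt_mem (hM : IsPModular p M) [hMp : M.IsPrime] (ψ : IrrCharacter G) :
    MemLocalIdeal M (omegaHom ψ (wElt p M G)) := by
  unfold wElt
  rw [map_sub, map_mul, AlgHom.commutes]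
  by_cases hψ : ψ ∈ blockOf M ((triv G : IrrCharacter G) : G → ℂ)
  · rw [omegaHom_blockIdem_of_mem _ hψ]
    have h1 := sameBlock_omegaHom_congr (sameBlock_symm hψ) (regSum_mem_centerOrder (p := p) (M := M) (G := G))
    have h2 : omegaHom (triv G) (⟨regSum p G, regSum_mem_center⟩ :
        Subalgebra.center ℂ (MonoidAlgebra ℂ G)) = (regCount p G : ℂ) := omega_regSum_triv
    rw [h2] at h1
    simpa using h1
  · rw [omegaHom_blockIdem_of_not_mem _ hψ]
    have h2 : omegaHom ψ (⟨regSum p G, regSum_mem_center⟩ :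
        Subalgebra.center ℂ (MonoidAlgebra ℂ G)) = 0 := omega_regSum_of_not_mem hM ψ hψ
    rw [h2]
    simpa using memLocalIdeal_zero hMp.ne_top


omit [Fact p.Prime] in
open scoped Classical in
/-- `∑_{x a p-element} conj χ(x g) = ω_χ(v) χ(g⁻¹)`. -/
theorem sum_pel_conj_irr (χ : IrrCharacter G) (g : G) :
    ∑ x : G, (if ∃ k : ℕ, orderOf x = p ^ k then conj ((χ : G → ℂ) (x * g)) else 0) =
      (∑ x : G, (if ∃ k : ℕ, orderOf x = p ^ k then (χ : G → ℂ) x else 0)) / (χ : G → ℂ) 1 *
        (χ : G → ℂ) g⁻¹ := by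
  have h1 := sum_coeff_mul_irr_mul χ (pelSum_mem_center (p := p) (G := G)) g⁻¹
  unfold omega at h1
  simp only [pelSum, coeff_ofFun] at h1
  have h2 : ∑ x : G, (if ∃ k : ℕ, orderOf x = p ^ k then (χ : G → ℂ) x else 0) =
      ∑ x : G, (if ∃ k : ℕ, orderOf x = p ^ k then (1 : ℂ) else 0) * (χ : G → ℂ) x := by
    apply Finset.sum_congr rfl
    intro x _
    split_ifs <;> simp
  rw [h2, ← h1, ← Equiv.sum_comp (Equiv.inv G)]
  apply Finset.sum_congr rfl
  intro x _
  simp only [Equiv.inv_apply, orderOf_inv]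
  split_ifs
  · rw [one_mul, ← IsCharacter.inv (IsIrrCharacter.isCharacter χ.2), mul_inv_rev, inv_inv]
    have := isClassFunction_irr χ (g⁻¹ * x) x
    rw [← this]
    congr 1
    group
  · rw [zero_mul]


theorem isPPart_self {y : G} (hy : ∃ k : ℕ, orderOf y = p ^ k) : IsPPart p y y := by
  refine ⟨1, mul_one y, Commute.one_right y, hy, ?_⟩
  rw [orderOf_one]
  exact (Fact.out : p.Prime).one_lt.ne' ∘ Nat.dvd_one.mp

omit [Fintype G] [Fact p.Prime] in
theorem isPPart_one_of_regular {g : G} (hg : ¬ p ∣ orderOf g) : IsPPart p g 1 :=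
  ⟨g, one_mul g, Commute.one_left g, ⟨0, by rw [orderOf_one, pow_zero]⟩, hg⟩

open scoped Classical in
/-- The sum of the principal block idempotent coefficients over `x g`, `x` a `p`-element, is the
coefficient at `g`, for `p`-regular `g`. -/
theorem sum_pel_blockCoeff (hM : IsPModular p M) {g : G} (hg : ¬ p ∣ orderOf g) :
    ∑ x : G, (if ∃ k : ℕ, orderOf x = p ^ k then blockCoeff (principalBlock M G) (x * g) else 0) =
      blockCoeff (principalBlock M G) g := by
  have : M.IsPrime := hM.2.1.isPrime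
  have hbc : ∀ h : G, blockCoeff (principalBlock M G) h = (Nat.card G : ℂ)⁻¹ *
      ∑ χ ∈ Finset.univ.filter (fun χ : IrrCharacter G => χ ∈ principalBlock M G),
        (χ : G → ℂ) 1 * conj ((χ : G → ℂ) h) := by
    intro h
    unfold blockCoeff
    rw [finsum_mem_eq_sum_filter_univ]
  simp only [hbc]
  have h1 : ∀ x : G, (if ∃ k : ℕ, orderOf x = p ^ k then (Nat.card G : ℂ)⁻¹ *
      ∑ χ ∈ Finset.univ.filter (fun χ : IrrCharacter G => χ ∈ principalBlock M G),
        (χ : G → ℂ) 1 * conj ((χ : G → ℂ) (x * g)) else 0) =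
      (Nat.card G : ℂ)⁻¹ *
      ∑ χ ∈ Finset.univ.filter (fun χ : IrrCharacter G => χ ∈ principalBlock M G),
        (χ : G → ℂ) 1 * (if ∃ k : ℕ, orderOf x = p ^ k then conj ((χ : G → ℂ) (x * g)) else 0) := by
    intro x
    split_ifs
    · rfl
    · simp
  rw [Finset.sum_congr rfl (fun x _ => h1 x), ← Finset.mul_sum, Finset.sum_comm]
  congr 1
  have h2 : ∀ χ : IrrCharacter G, ∑ x : G, (χ : G → ℂ) 1 *
      (if ∃ k : ℕ, orderOf x = p ^ k then conj ((χ : G → ℂ) (x * g)) else 0) =
      ∑ x : G, (if ∃ k : ℕ, orderOf x = p ^ k then (χ : G → ℂ) x * (χ : G → ℂ) g⁻¹ else 0) := by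
    intro χ
    have hχ1 : (χ : G → ℂ) 1 ≠ 0 := Cfsg.Agent.Lib.Helper79.irr_apply_one_ne_zero χ
    rw [← Finset.mul_sum, sum_pel_conj_irr]
    have h3 : ∀ S c : ℂ, (χ : G → ℂ) 1 * (S / (χ : G → ℂ) 1 * c) = S * c := by
      intro S c
      field_simp
    rw [h3, Finset.sum_mul]
    apply Finset.sum_congr rfl
    intro x _
    split_ifs
    · rfl
    · rw [zero_mul]
  rw [Finset.sum_congr rfl (fun χ _ => h2 χ), Finset.sum_comm]
  rw [Finset.sum_eq_single (1 : G)]
  · have h11 : ∃ k : ℕ, orderOf (1 : G) = p ^ k := ⟨0, by rw [orderOf_one, pow_zero]⟩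
    simp only [if_pos h11]
    apply Finset.sum_congr rfl
    intro χ _
    rw [IsCharacter.inv (IsIrrCharacter.isCharacter χ.2)]
  · intro x _ hx1
    by_cases hx : ∃ k : ℕ, orderOf x = p ^ k
    · have hnc : ¬ IsConj x 1 := by
        intro h
        exact hx1 (isConj_one_left.mp h)
      have h3 := sum_block_mul_inv_eq_zero hM (isPPart_self hx) (isPPart_one_of_regular hg) hnc
        (isPBlock_principalBlock G M)
      simp only [if_pos hx]
      exact h3
    · simp only [if_neg hx]
      exact Finset.sum_const_zero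
  · intro h
    exact absurd (Finset.mem_univ _) h


open scoped Classical in
/-- Counting the pairs. -/
theorem card_pairs_eq (g : G) :
    (Nat.card {xy : G × G // (∃ k : ℕ, orderOf xy.1 = p ^ k) ∧ ¬ p ∣ orderOf xy.2 ∧
      xy.1 * xy.2 = g} : ℂ) =
      ∑ x : G, (if ∃ k : ℕ, orderOf x = p ^ k then (regSum p G).coeff (x * g) else 0) := by
  have h1 : ∀ x : G, (if ∃ k : ℕ, orderOf x = p ^ k then (regSum p G).coeff (x * g) else 0) =
      if ((∃ k : ℕ, orderOf x = p ^ k) ∧ ¬ p ∣ orderOf (x * g)) then (1 : ℂ) else 0 := by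
    intro x
    unfold regSum
    rw [coeff_ofFun]
    by_cases hx : ∃ k : ℕ, orderOf x = p ^ k
    · by_cases hy : ¬ p ∣ orderOf (x * g)
      · rw [if_pos hx, if_pos hy, if_pos ⟨hx, hy⟩]
      · rw [if_pos hx, if_neg hy, if_neg (fun h => hy h.2)]
    · rw [if_neg hx, if_neg (fun h => hx h.1)]
  rw [Finset.sum_congr rfl (fun x _ => h1 x), Finset.sum_boole, ← Fintype.card_subtype,
    ← Nat.card_eq_fintype_card]
  congr 1
  apply Nat.card_congr
  refine
    { toFun := fun xy => ⟨xy.1.1⁻¹, ?_, ?_⟩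
      invFun := fun x => ⟨(x.1⁻¹, x.1 * g), ?_, ?_, ?_⟩
      left_inv := ?_
      right_inv := ?_ }
  · rw [orderOf_inv]; exact xy.2.1
  · have h3 : xy.1.1⁻¹ * g = xy.1.2 := by
      have h4 : xy.1.1 * xy.1.2 = g := xy.2.2.2
      exact inv_mul_eq_iff_eq_mul.mpr h4.symm
    rw [h3]; exact xy.2.2.1
  · show ∃ k : ℕ, orderOf (x.1⁻¹) = p ^ k
    rw [orderOf_inv]; exact x.2.1
  · exact x.2.2
  · show x.1⁻¹ * (x.1 * g) = g
    rw [inv_mul_cancel_left]
  · rintro ⟨⟨a, b⟩, h1, h2, h3⟩
    apply Subtype.ext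
    show ((a⁻¹)⁻¹, a⁻¹ * g) = (a, b)
    rw [inv_inv, ← h3, inv_mul_cancel_left]
  · rintro ⟨x, h1, h2⟩
    apply Subtype.ext
    show (x⁻¹)⁻¹ = x
    rw [inv_inv]

open scoped Classical in
theorem sum_pel_regSum_one :
    ∑ x : G, (if ∃ k : ℕ, orderOf x = p ^ k then (regSum p G).coeff (x * 1) else 0) = (1 : ℂ) := by
  rw [Finset.sum_eq_single (1 : G)]
  · have h11 : ∃ k : ℕ, orderOf (1 : G) = p ^ k := ⟨0, by rw [orderOf_one, pow_zero]⟩
    rw [if_pos h11]
    unfold regSum
    rw [coeff_ofFun, mul_one, orderOf_one, if_pos]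
    exact (Fact.out : p.Prime).one_lt.ne' ∘ Nat.dvd_one.mp
  · intro x _ hx1
    by_cases hx : ∃ k : ℕ, orderOf x = p ^ k
    · rw [if_pos hx]
      unfold regSum
      rw [coeff_ofFun, mul_one, if_neg]
      rw [not_not]
      obtain ⟨k, hk⟩ := hx
      rw [hk]
      apply dvd_pow_self
      intro hk0
      rw [hk0, pow_zero, orderOf_eq_one_iff] at hk
      exact hx1 hk
    · rw [if_neg hx]
  · intro h
    exact absurd (Finset.mem_univ _) h

theorem coeff_wElt [hMp : M.IsPrime] (y : G) :
    ((wElt p M G : Subalgebra.center ℂ (MonoidAlgebra ℂ G)) : MonoidAlgebra ℂ G).coeff y =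
      (regSum p G).coeff y - (regCount p G : ℂ) * blockCoeff (principalBlock M G) y := by
  unfold wElt
  rw [Subalgebra.coe_sub, Subalgebra.coe_mul, Subalgebra.coe_algebraMap, coeff_sub,
    Finsupp.sub_apply, Algebra.algebraMap_eq_smul_one, smul_mul_assoc, one_mul,
    coeff_smul_apply, smul_eq_mul, coeff_blockIdem]
  rfl


open scoped Classical in
/-- The key congruence `N_h ≡ R ε₀(h)` for `p`-regular `h`. -/
theorem key_congr (hM : IsPModular p M) {h : G} (hh : ¬ p ∣ orderOf h) :
    MemLocalIdeal M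
      ((∑ x : G, (if ∃ k : ℕ, orderOf x = p ^ k then (regSum p G).coeff (x * h) else 0)) -
        (regCount p G : ℂ) * blockCoeff (principalBlock M G) h) := by
  have hMp : M.IsPrime := hM.2.1.isPrime
  obtain ⟨a, ha⟩ : ∃ a : MonoidAlgebra ℂ G,
      a = ((wElt p M G : Subalgebra.center ℂ (MonoidAlgebra ℂ G)) : MonoidAlgebra ℂ G) *
        single h⁻¹ 1 := ⟨_, rfl⟩
  have hacoeff : ∀ x : G, a.coeff x =
      ((wElt p M G : Subalgebra.center ℂ (MonoidAlgebra ℂ G)) : MonoidAlgebra ℂ G).coeff (x * h) := by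
    intro x
    rw [ha, coeff_mul_single_apply, inv_inv, mul_one]
  have haR : CoeffsInRing M a := by
    intro x
    rw [hacoeff]
    exact wElt_mem_centerOrder (p := p) (M := M) (G := G) (x * h)
  have hsR : ∀ n : ℕ, CoeffsInRing M ((single h⁻¹ (1 : ℂ) : MonoidAlgebra ℂ G) ^ n) := by
    intro n x
    rw [single_pow, one_pow, coeff_single, Finsupp.single_apply]
    split_ifs
    · exact memLocalRing_one hMp.ne_top
    · exact memLocalRing_zero hMp.ne_top
  have ham : CoeffsInIdeal M (a ^ Nat.card (IrrCharacter G)) := by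
    have hcomm : Commute
        ((wElt p M G : Subalgebra.center ℂ (MonoidAlgebra ℂ G)) : MonoidAlgebra ℂ G)
        (single h⁻¹ (1 : ℂ)) :=
      ((Subalgebra.mem_center_iff.mp (wElt p M G).2) (single h⁻¹ 1)).symm
    rw [ha, hcomm.mul_pow]
    apply CoeffsInIdeal.mul_right _ (hsR _)
    rw [← Subalgebra.coe_pow]
    exact exists_pow_coeffsInIdeal wElt_mem_centerOrder (omegaHom_wElt_mem hM)
  have h1 := sum_coeff_pElements_memLocalIdeal hM a haR ham
  have h2 : ∑ x : G, (if ∃ j : ℕ, orderOf x = p ^ j then a.coeff x else 0) =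
      (∑ x : G, (if ∃ k : ℕ, orderOf x = p ^ k then (regSum p G).coeff (x * h) else 0)) -
        (regCount p G : ℂ) * blockCoeff (principalBlock M G) h := by
    rw [← sum_pel_blockCoeff hM hh, Finset.mul_sum, ← Finset.sum_sub_distrib]
    apply Finset.sum_congr rfl
    intro x _
    rw [hacoeff, coeff_wElt]
    split_ifs
    · rfl
    · simp
  rw [h2] at h1
  exact h1

end Aux


/-- Let G be a finite group and M a maximal ideal of the algebraic integers containing the prime p. For every p-regular g, the idempotent coefficient of the principal block at g (the inverse of the group order times the sum over χ in the principal block of χ 1 * conj (χ g)) is congruent modulo the local ideal at M to N / R, where N is the number of pairs (x, y) with x of p-power order, y of order prime to p and x * y = g, and R is the number of elements of G of order prime to p. -/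
theorem result {G : Type*} [Group G] [Finite G] (p : ℕ) [Fact p.Prime] (M : Ideal Cfsg.AlgInt) (hM : Cfsg.IsPModular p M) (g : G) (hg : ¬ p ∣ orderOf g) : Cfsg.MemLocalIdeal M (Cfsg.blockCoeff (Cfsg.principalBlock M G) g - (Nat.card {xy : G × G // (∃ k : ℕ, orderOf xy.1 = p ^ k) ∧ ¬ p ∣ orderOf xy.2 ∧ xy.1 * xy.2 = g} : ℂ) / (Nat.card {y : G // ¬ p ∣ orderOf y} : ℂ)) := by
  classical
  haveI : Fintype G := Fintype.ofFinite G
  have hMp : M.IsPrime := hM.2.1.isPrime
  have hkey := key_congr hM hg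
  have hkey1 := key_congr (G := G) hM (h := 1) (by
    rw [orderOf_one]
    exact (Fact.out : p.Prime).one_lt.ne' ∘ Nat.dvd_one.mp)
  rw [sum_pel_regSum_one] at hkey1
  have hε1 : MemLocalRing M (blockCoeff (principalBlock M G) (1 : G)) :=
    blockCoeff_memLocalRing (isPBlock_principalBlock G M) 1
  -- `R` is a unit
  have hR : ¬ MemLocalIdeal M (regCount p G : ℂ) := by
    intro hR
    apply one_not_memLocalIdeal (M := M)
    have h1 := memLocalIdeal_add hkey1 (memLocalIdeal_mul_right hR hε1)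
    rwa [sub_add_cancel] at h1
  have hRdvd : ¬ p ∣ regCount p G := fun h => hR ((memLocalIdeal_natCast_iff hM _).mpr h)
  have hRinv : MemLocalRing M ((regCount p G : ℂ))⁻¹ := memLocalRing_inv_natCast hM hRdvd
  have hR0 : (regCount p G : ℂ) ≠ 0 := ne_zero_of_not_memLocalIdeal hR
  have hRcard : (Nat.card {y : G // ¬ p ∣ orderOf y} : ℂ) = (regCount p G : ℂ) := by
    rw [Nat.card_eq_fintype_card, Fintype.card_subtype]
    rfl
  rw [hRcard, card_pairs_eq]
  have h3 := memLocalIdeal_neg (memLocalIdeal_mul_right hkey hRinv)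
  have h4 : -(((∑ x : G, (if ∃ k : ℕ, orderOf x = p ^ k then (regSum p G).coeff (x * g) else 0)) -
        (regCount p G : ℂ) * blockCoeff (principalBlock M G) g) * ((regCount p G : ℂ))⁻¹) =
      blockCoeff (principalBlock M G) g -
        (∑ x : G, (if ∃ k : ℕ, orderOf x = p ^ k then (regSum p G).coeff (x * g) else 0)) /
          (regCount p G : ℂ) := by
    field_simp
    ring
  rw [h4] at h3
  exact h3

end Cfsg.Agent.S0940
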