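import Cfsg.Statements.S0945
import Cfsg.Agent.Lib.Helper55.HomocyclicSylow

set_option autoImplicit false
open Cfsg

namespace Cfsg.Agent.S0945

open Cfsg.Agent.Lib.Helper55 Subgroup

/-- Let P be a Sylow 2-subgroup of the finite group G isomorphic to Z/2^m × Z/2^m with m ≥ 1. Then (i) the index of C_G(P) in N_G(P) is 1 or 3, and (ii) if it is not 1, then for every z ≠ 1 in P, C_G(z) ∩ N_G(P) = C_G(P). -/
theorem result {G : Type*} [Group G] [Finite G] (P : Sylow 2 G) (m : ℕ) (hm : 1 ≤ m) (e : (P : Subgroup G) ≃* Multiplicative (ZMod (2 ^ m) × ZMod (2 ^ m))) : ((Subgroup.centralizer (P : Set G)).relIndex (Subgroup.normalizer (P : Set G)) = 1 ∨ (Subgroup.centralizer (P : Set G)).relIndex (Subgroup.normalizer (P : Set G)) = 3) ∧ ((Subgroup.centralizer (P : Set G)).relIndex (Subgroup.normalizer (P : Set G)) ≠ 1 → ∀ z ∈ (P : Subgroup G), z ≠ 1 → Subgroup.centralizer ({z} : Set G) ⊓ Subgroup.normalizer (P : Set G) = Subgroup.centralizer (P : Set G)) := by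
  classical
  obtain ⟨m, rfl⟩ : ∃ m', m = m' + 1 := ⟨m - 1, by omega⟩
  have hcomm := comm_of_mulEquiv (P : Subgroup G) e
  have hodd : Odd ((centralizer ((P : Subgroup G) : Set G)).relIndex
      (normalizer ((P : Subgroup G) : Set G))) := odd_relIndex_centralizer_normalizer P hcomm
  obtain ⟨t₁, t₂, h₁P, h₂P, h₁2, h₂2, h₁1, h₂1, h12, hdesc⟩ :=
    homocyclic_involutions (P : Subgroup G) m e
  have hCN : centralizer ((P : Subgroup G) : Set G) ≤ normalizer ((P : Subgroup G) : Set G) := by
    intro g hg
    rw [mem_centralizer_iff] at hg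
    rw [mem_normalizer_iff]
    intro x
    constructor
    · intro hx
      have : g * x * g⁻¹ = x := by rw [← hg x hx]; group
      rw [this]; exact hx
    · intro hx
      have h1 := hg _ hx
      -- g x g⁻¹ commutes with g, so x = g x g⁻¹
      have : x = g * x * g⁻¹ := by
        have h2 : g * x * g⁻¹ * g = g * (g * x * g⁻¹) := h1
        have h3 : g * x = g * (g * x * g⁻¹) := by rw [← h2]; group
        exact mul_left_cancel h3
      rw [this]; exact hx
  -- the key fact: the stabilizer of an involution is the centralizer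
  have hM : ∀ t ∈ (P : Subgroup G), t ^ 2 = 1 → t ≠ 1 → ∀ n ∈ normalizer ((P : Subgroup G) : Set G),
      n * t * n⁻¹ = t → n ∈ centralizer ((P : Subgroup G) : Set G) :=
    fun t htP ht2 ht1 n hn hnt => mem_centralizer_of_fix_involution P m e t htP ht2 ht1 n hn hnt
  have main : ((centralizer ((P : Subgroup G) : Set G)).relIndex (normalizer ((P : Subgroup G) : Set G)) = 1 ∨
      (centralizer ((P : Subgroup G) : Set G)).relIndex (normalizer ((P : Subgroup G) : Set G)) = 3) ∧
      ((centralizer ((P : Subgroup G) : Set G)).relIndex (normalizer ((P : Subgroup G) : Set G)) ≠ 1 →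
        ∀ z ∈ (P : Subgroup G), z ≠ 1 →
          centralizer ({z} : Set G) ⊓ normalizer ((P : Subgroup G) : Set G) =
            centralizer ((P : Subgroup G) : Set G)) := ?_
  · exact main
  constructor
  · -- the index is 1 or 3
    set x₁ : ↥(P : Subgroup G) := ⟨t₁, h₁P⟩ with hx₁
    have hstab : MulAction.stabilizer ↥(normalizer ((P : Subgroup G) : Set G)) x₁ =
        (centralizer ((P : Subgroup G) : Set G)).subgroupOf (normalizer ((P : Subgroup G) : Set G)) := by
      ext n
      rw [MulAction.mem_stabilizer_iff, mem_subgroupOf]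
      constructor
      · intro h
        have h' : (n : G) * t₁ * (n : G)⁻¹ = t₁ := congrArg Subtype.val h
        exact hM t₁ h₁P h₁2 h₁1 n n.2 h'
      · intro h
        rw [mem_centralizer_iff] at h
        apply Subtype.ext
        show (n : G) * t₁ * (n : G)⁻¹ = t₁
        rw [← h t₁ h₁P]; group
    have hidx := MulAction.index_stabilizer (G := ↥(normalizer ((P : Subgroup G) : Set G))) (x := x₁)
    rw [hstab] at hidx
    have hsub : MulAction.orbit ↥(normalizer ((P : Subgroup G) : Set G)) x₁ ⊆
        ({⟨t₁, h₁P⟩, ⟨t₂, h₂P⟩, ⟨t₁ * t₂, mul_mem h₁P h₂P⟩} : Set ↥(P : Subgroup G)) := by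
      rintro _ ⟨n, rfl⟩
      have hval : ((n • x₁ : ↥(P : Subgroup G)) : G) = (n : G) * t₁ * (n : G)⁻¹ := rfl
      have hmem : (n : G) * t₁ * (n : G)⁻¹ ∈ (P : Subgroup G) := by rw [← hval]; exact (n • x₁).2
      have hsq : ((n : G) * t₁ * (n : G)⁻¹) ^ 2 = 1 := by rw [conj_pow, h₁2]; group
      have hne : (n : G) * t₁ * (n : G)⁻¹ ≠ 1 := by
        intro h; exact h₁1 (conj_eq_one_iff.mp h)
      simp only [Set.mem_insert_iff, Set.mem_singleton_iff]
      rcases hdesc _ hmem hsq with h | h | h | h
      · exact absurd h hne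
      · left; exact Subtype.ext (hval.trans h)
      · right; left; exact Subtype.ext (hval.trans h)
      · right; right; exact Subtype.ext (hval.trans h)
    have hle : (MulAction.orbit ↥(normalizer ((P : Subgroup G) : Set G)) x₁).ncard ≤ 3 := by
      refine (Set.ncard_le_ncard hsub (Set.toFinite _)).trans ?_
      refine (Set.ncard_insert_le _ _).trans ?_
      have := Set.ncard_insert_le (⟨t₂, h₂P⟩ : ↥(P : Subgroup G))
        ({⟨t₁ * t₂, mul_mem h₁P h₂P⟩} : Set ↥(P : Subgroup G))
      rw [Set.ncard_singleton] at this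
      omega
    rw [← hidx] at hle
    have hk : (centralizer ((P : Subgroup G) : Set G)).relIndex (normalizer ((P : Subgroup G) : Set G)) ≤ 3 := hle
    obtain ⟨j, hj⟩ := hodd
    rcases (by omega : j = 0 ∨ j = 1) with rfl | rfl
    · left; omega
    · right; omega
  · -- centralizers of nontrivial elements
    intro _ z hzP hz1
    apply le_antisymm
    · intro n hn
      obtain ⟨hnz, hnN⟩ := Subgroup.mem_inf.mp hn
      -- an involution among the powers of z
      obtain ⟨j, hj⟩ := (IsPGroup.iff_orderOf.mp P.isPGroup') ⟨z, hzP⟩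
      rw [Subgroup.orderOf_mk] at hj
      have hjpos : j ≠ 0 := by
        rintro rfl
        rw [pow_zero, orderOf_eq_one_iff] at hj
        exact hz1 hj
      obtain ⟨j', rfl⟩ : ∃ j', j = j' + 1 := ⟨j - 1, by omega⟩
      set t := z ^ (2 ^ j') with ht
      have htP : t ∈ (P : Subgroup G) := (P : Subgroup G).pow_mem hzP _
      have ht2 : t ^ 2 = 1 := by
        rw [ht, ← pow_mul, ← pow_succ, ← hj]; exact pow_orderOf_eq_one z
      have ht1 : t ≠ 1 := by
        intro h
        have h1 := orderOf_dvd_of_pow_eq_one h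
        rw [hj] at h1
        have h2 := Nat.le_of_dvd (by positivity) h1
        have h3 : j' + 1 ≤ j' := (Nat.pow_le_pow_iff_right (by norm_num)).mp h2
        omega
      have hnz' : z * n = n * z := by
        rw [mem_centralizer_iff] at hnz
        exact hnz z rfl
      have hnt : n * t * n⁻¹ = t := by
        have hc : Commute n z := hnz'.symm
        have hc' : Commute n t := hc.pow_right _
        calc n * t * n⁻¹ = t * n * n⁻¹ := by rw [hc'.eq]
          _ = t := by group
      exact hM t htP ht2 ht1 n hnN hnt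
    · intro n hn
      refine Subgroup.mem_inf.mpr ⟨?_, hCN hn⟩
      rw [mem_centralizer_iff]
      intro y hy
      rw [Set.mem_singleton_iff] at hy
      subst hy
      rw [mem_centralizer_iff] at hn
      exact hn y hzP

end Cfsg.Agent.S0945
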