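import Cfsg.Statements.S0949
import Cfsg.Agent.S0945
import Cfsg.Agent.Lib.Helper77.HomoChar
import Cfsg.Agent.Lib.Helper77.HomoNormal
import Cfsg.Agent.Lib.Helper75.PQRDegree
import Cfsg.Agent.Lib.Helper34.NormalPComplement
import Cfsg.Agent.Lib.Helper55.Homocyclic

set_option autoImplicit false
open Cfsg

namespace Cfsg.Agent.S0949

open Subgroup Cfsg.Agent.Lib.Helper77

universe u

/-- A normal complement to a Sylow 2-subgroup is trivial when `O(G) = 1`. -/
theorem sylow_eq_top_of_complement {G : Type u} [Group G] [Finite G] (P : Sylow 2 G)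
    (hcore : pPrimeCore 2 G = ⊥) (K : Subgroup G) (hKn : K.Normal)
    (hK : K.IsComplement' (P : Subgroup G)) : (P : Subgroup G) = ⊤ := by
  have hc := Cfsg.Agent.Lib.Helper34.card_coprime_of_isComplement' P K hK
  have hle := Cfsg.Agent.Lib.Helper55.le_pPrimeCore hKn hc
  rw [hcore, le_bot_iff] at hle
  rw [hle] at hK
  exact Subgroup.isComplement'_bot_left.mp hK

theorem homo_main : ∀ n : ℕ, ∀ (G : Type u) [Group G] [Finite G], Nat.card G = n →
    ∀ (P : Sylow 2 G) (m : ℕ), 2 ≤ m →
    Nonempty (↥(P : Subgroup G) ≃* Multiplicative (ZMod (2 ^ m) × ZMod (2 ^ m))) →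
    pPrimeCore 2 G = ⊥ → (P : Subgroup G).Normal := by
  intro n
  induction n using Nat.strong_induction_on with
  | _ n ih =>
  intro G _ _ hn P m hm ⟨e⟩ hcore
  have IH : HomoIH.{u} (Nat.card G) := by
    intro H _ _ hlt Q m' hm' e' hc'
    exact ih (Nat.card H) (by omega) H rfl Q m' hm' e' hc'
  have hcomm := Cfsg.Agent.Lib.Helper55.comm_of_mulEquiv (P : Subgroup G) e
  obtain ⟨hidx, hfrob⟩ : ((centralizer ((P : Subgroup G) : Set G)).relIndex
        (normalizer ((P : Subgroup G) : Set G)) = 1 ∨
      (centralizer ((P : Subgroup G) : Set G)).relIndex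
        (normalizer ((P : Subgroup G) : Set G)) = 3) ∧
      ((centralizer ((P : Subgroup G) : Set G)).relIndex
        (normalizer ((P : Subgroup G) : Set G)) ≠ 1 → ∀ z ∈ (P : Subgroup G), z ≠ 1 →
        centralizer ({z} : Set G) ⊓ normalizer ((P : Subgroup G) : Set G) =
          centralizer ((P : Subgroup G) : Set G)) := Cfsg.Agent.S0945.result P m (by omega) e
  rcases hidx with h1 | h3
  · -- Burnside
    have hNC : normalizer ((P : Subgroup G) : Set G) ≤ centralizer ((P : Subgroup G) : Set G) :=
      relIndex_eq_one.mp h1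
    have hK := MonoidHom.ker_transferSylow_isComplement' P hNC
    have := sylow_eq_top_of_complement P hcore _ inferInstance hK
    rw [this]
    infer_instance
  · have hfrob' := hfrob (by omega)
    have hNC : ¬ normalizer ((P : Subgroup G) : Set G) ≤ centralizer ((P : Subgroup G) : Set G) := by
      intro hle
      have := relIndex_eq_one.mpr hle
      omega
    obtain ⟨s, hsN, hsC⟩ := SetLike.not_le_iff_exists.mp hNC
    by_contra hPn
    -- the order of P
    have hcardP : Nat.card (P : Subgroup G) = 2 ^ m * 2 ^ m := by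
      rw [Nat.card_congr e.toEquiv, Nat.card_congr Multiplicative.toAdd, Nat.card_prod,
        Nat.card_zmod]
    have h4 : 4 ≤ 2 ^ m := by
      calc 4 = 2 ^ 2 := by norm_num
        _ ≤ 2 ^ m := Nat.pow_le_pow_right (by norm_num) hm
    have hcard16 : 16 ≤ Nat.card (P : Subgroup G) := by
      rw [hcardP]; nlinarith
    -- an involution in P
    have h2P : 2 ∣ Nat.card (P : Subgroup G) := by
      rw [hcardP]
      exact Dvd.dvd.mul_right (dvd_pow_self 2 (by omega)) _
    obtain ⟨t', ht'⟩ := exists_prime_orderOf_dvd_card' (G := ↥(P : Subgroup G)) 2 h2P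
    have ht : orderOf (t' : G) = 2 := by rw [Subgroup.orderOf_coe]; exact ht'
    -- an element with nontrivial square
    have : NeZero (2 ^ m) := ⟨by positivity⟩
    obtain ⟨w', hw'⟩ : ∃ w' : ↥(P : Subgroup G), w' ^ 2 ≠ 1 := by
      refine ⟨e.symm (Multiplicative.ofAdd (1, 0)), ?_⟩
      intro h
      have h5 := congrArg e h
      rw [map_pow, MulEquiv.apply_symm_apply, map_one] at h5
      have h6 := congrArg (fun x => (Multiplicative.toAdd x).1) h5
      simp only [toAdd_pow, toAdd_ofAdd, toAdd_one, Prod.smul_fst, Prod.fst_zero] at h6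
      have h7 : ((2 : ℕ) : ZMod (2 ^ m)) = 0 := by
        simpa using h6
      rw [ZMod.natCast_eq_zero_iff] at h7
      have := Nat.le_of_dvd (by norm_num) h7
      omega
    have hw : (w' : G) ^ 2 ≠ 1 := by
      intro h
      apply hw'
      exact Subtype.ext (by simpa using h)
    -- no proper normal subgroup contains the involution
    have hnoK : ∀ K : Subgroup G, K.Normal → (t' : G) ∈ K → K = ⊤ := by
      intro K hKn htK
      by_contra hK
      apply hPn
      have hK2 : 2 ∣ Nat.card K := by
        have := orderOf_dvd_natCard (⟨(t' : G), htK⟩ : K)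
        rwa [Subgroup.orderOf_mk, ht] at this
      exact normal_of_proper_normal_even IH P m hm e hcore hcomm hfrob' s hsN hsC K hK hK2
    obtain ⟨M, hM⟩ := Cfsg.Agent.Lib.Helper75.exists_isPModular 2 Nat.prime_two
    exact false_of_no_normal_aux M hM P hcomm hcard16 h3 hfrob' (t' : G) ht t'.2 (w' : G) w'.2 hw
      hnoK

/-- Let the finite group G have a Sylow 2-subgroup P isomorphic to Z/2^m × Z/2^m with m ≥ 2, and suppose G has no nontrivial normal subgroup of odd order. Then P is normal in G, C_G(P) = P, and the index of P is 1 or 3. -/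
theorem result {G : Type*} [Group G] [Finite G] (P : Sylow 2 G) (m : ℕ) (hm : 2 ≤ m) (e : (P : Subgroup G) ≃* Multiplicative (ZMod (2 ^ m) × ZMod (2 ^ m))) (hO : ∀ N : Subgroup G, N.Normal → Odd (Nat.card N) → N = ⊥) : (P : Subgroup G).Normal ∧ Subgroup.centralizer (P : Set G) = (P : Subgroup G) ∧ ((P : Subgroup G).index = 1 ∨ (P : Subgroup G).index = 3) := by
  have hcore : pPrimeCore 2 G = ⊥ :=
    hO _ (Cfsg.Agent.Lib.Helper55.pPrimeCore_normal' 2)
      (Nat.coprime_two_right.mp (Cfsg.Agent.Lib.Helper55.card_pPrimeCore_coprime 2))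
  have hPn : (P : Subgroup G).Normal := homo_main (Nat.card G) G rfl P m hm ⟨e⟩ hcore
  have hcomm := Cfsg.Agent.Lib.Helper55.comm_of_mulEquiv (P : Subgroup G) e
  have hPC : (P : Subgroup G) ≤ centralizer ((P : Subgroup G) : Set G) := by
    intro x hx
    rw [mem_centralizer_iff]
    intro y hy
    exact hcomm y hy x hx
  -- `C_G(P) = P`
  have hCn : (centralizer ((P : Subgroup G) : Set G)).Normal := Subgroup.normal_centralizer
  have hCP : centralizer ((P : Subgroup G) : Set G) = (P : Subgroup G) := by
    apply le_antisymm _ hPC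
    obtain ⟨PC, hPCeq⟩ := Cfsg.Agent.Lib.Helper47.exists_sylow_eq_subgroupOf_of_normal P
      (centralizer ((P : Subgroup G) : Set G))
    have hcen : (PC : Subgroup ↥(centralizer ((P : Subgroup G) : Set G))) ≤
        Subgroup.center ↥(centralizer ((P : Subgroup G) : Set G)) := by
      rw [hPCeq]
      intro x hx
      rw [mem_subgroupOf] at hx
      rw [Subgroup.mem_center_iff]
      intro g
      apply Subtype.ext
      have := g.2
      rw [mem_centralizer_iff] at this
      simpa using (this (x : G) hx).symm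
    obtain ⟨K, hKn, hK⟩ := Cfsg.Agent.Lib.Helper34.exists_normal_complement_of_sylow_le_center PC hcen
    have hcoreC := Cfsg.Agent.Lib.Helper55.pPrimeCore_eq_bot_of_normal 2
      (centralizer ((P : Subgroup G) : Set G)) hcore
    have htop := sylow_eq_top_of_complement PC hcoreC K hKn hK
    rw [hPCeq] at htop
    intro x hx
    have : (⟨x, hx⟩ : ↥(centralizer ((P : Subgroup G) : Set G))) ∈
        (P : Subgroup G).subgroupOf (centralizer ((P : Subgroup G) : Set G)) := by
      rw [htop]; exact mem_top _
    rwa [mem_subgroupOf] at this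
  refine ⟨hPn, hCP, ?_⟩
  obtain ⟨hidx, -⟩ : ((centralizer ((P : Subgroup G) : Set G)).relIndex
        (normalizer ((P : Subgroup G) : Set G)) = 1 ∨
      (centralizer ((P : Subgroup G) : Set G)).relIndex
        (normalizer ((P : Subgroup G) : Set G)) = 3) ∧
      ((centralizer ((P : Subgroup G) : Set G)).relIndex
        (normalizer ((P : Subgroup G) : Set G)) ≠ 1 → ∀ z ∈ (P : Subgroup G), z ≠ 1 →
        centralizer ({z} : Set G) ⊓ normalizer ((P : Subgroup G) : Set G) =
          centralizer ((P : Subgroup G) : Set G)) := Cfsg.Agent.S0945.result P m (by omega) e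
  rw [hCP, Subgroup.normalizer_eq_top_iff.mpr hPn, Subgroup.relIndex_top_right] at hidx
  exact hidx

end Cfsg.Agent.S0949
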