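import Cfsg.Statements.S0950
import Cfsg.Agent.Lib.Helper9.PrimePowerWitness
import Cfsg.Agent.Lib.Helper9.Subnormal
import Cfsg.Agent.Lib.Helper2.FusionComplement
import Cfsg.Agent.S0502

set_option autoImplicit false
open Cfsg

namespace Cfsg.Agent.S0950

open Cfsg.Agent.Lib.Helper9

set_option maxRecDepth 100000 in
theorem q8_unique_inv : ∀ s s' : QuaternionGroup 2, s ^ 2 = 1 → s ≠ 1 → s' ^ 2 = 1 → s' ≠ 1 →
    s = s' := by
  decide

set_option maxRecDepth 100000 in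
set_option synthInstance.maxSize 2000 in
set_option synthInstance.maxHeartbeats 400000 in
theorem q8_cover : ∀ u v w t : QuaternionGroup 2, (u ^ 2 ≠ 1 ∧ v ^ 2 ≠ 1 ∧ w ^ 2 ≠ 1 ∧ t ^ 2 ≠ 1 ∧
    v ≠ u ∧ v ≠ u⁻¹ ∧ w ≠ u ∧ w ≠ u⁻¹ ∧ w ≠ v ∧ w ≠ v⁻¹) →
    (t = u ∨ t = u⁻¹ ∨ t = v ∨ t = v⁻¹ ∨ t = w ∨ t = w⁻¹) := by
  decide

theorem mem_map_conj_iff {G : Type*} [Group G] (n y : G) (A : Subgroup G) :
    y ∈ A.map (MulAut.conj n).toMonoidHom ↔ ∃ a ∈ A, n * a * n⁻¹ = y := by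
  rw [Subgroup.mem_map]
  simp

theorem card_map_conj {G : Type*} [Group G] (n : G) (A : Subgroup G) :
    Nat.card (A.map (MulAut.conj n).toMonoidHom) = Nat.card A :=
  Subgroup.card_map_of_injective (MulAut.conj n).injective

/-- Transport of the two `Q₈` facts to a subgroup `S ≃* Q₈`. -/
theorem unique_inv_of_equiv {G : Type*} [Group G] (S : Subgroup G) (e : S ≃* QuaternionGroup 2)
    (s s' : G) (hs : s ∈ S) (hs' : s' ∈ S) (h1 : s ^ 2 = 1) (h2 : s ≠ 1) (h3 : s' ^ 2 = 1)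
    (h4 : s' ≠ 1) : s = s' := by
  have key : ∀ (t : G) (ht : t ∈ S), t ^ 2 = 1 → t ≠ 1 →
      (e ⟨t, ht⟩) ^ 2 = 1 ∧ e ⟨t, ht⟩ ≠ 1 := by
    intro t ht ht2 ht1
    constructor
    · rw [← map_pow]
      have : (⟨t, ht⟩ : S) ^ 2 = 1 := Subtype.ext (by simpa using ht2)
      rw [this, map_one]
    · intro h
      have : (⟨t, ht⟩ : S) = 1 := e.injective (by rw [h, map_one])
      exact ht1 (congrArg Subtype.val this)
  obtain ⟨a1, a2⟩ := key s hs h1 h2
  obtain ⟨b1, b2⟩ := key s' hs' h3 h4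
  have := q8_unique_inv _ _ a1 a2 b1 b2
  exact congrArg Subtype.val (e.injective this)

theorem cover_of_equiv {G : Type*} [Group G] (S : Subgroup G) (e : S ≃* QuaternionGroup 2)
    (u v w t : G) (hu : u ∈ S) (hv : v ∈ S) (hw : w ∈ S) (ht : t ∈ S)
    (hu2 : u ^ 2 ≠ 1) (hv2 : v ^ 2 ≠ 1) (hw2 : w ^ 2 ≠ 1) (ht2 : t ^ 2 ≠ 1)
    (h1 : v ≠ u) (h2 : v ≠ u⁻¹) (h3 : w ≠ u) (h4 : w ≠ u⁻¹) (h5 : w ≠ v) (h6 : w ≠ v⁻¹) :
    t = u ∨ t = u⁻¹ ∨ t = v ∨ t = v⁻¹ ∨ t = w ∨ t = w⁻¹ := by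
  have sq : ∀ (y : G) (hy : y ∈ S), y ^ 2 ≠ 1 → (e ⟨y, hy⟩) ^ 2 ≠ 1 := by
    intro y hy hy2 h
    rw [← map_pow] at h
    have : (⟨y, hy⟩ : S) ^ 2 = 1 := e.injective (by rw [h, map_one])
    exact hy2 (by simpa using congrArg Subtype.val this)
  have ne : ∀ (y y' : G) (hy : y ∈ S) (hy' : y' ∈ S), y ≠ y' → e ⟨y, hy⟩ ≠ e ⟨y', hy'⟩ := by
    intro y y' hy hy' hne h
    exact hne (congrArg Subtype.val (e.injective h))
  have inv : ∀ (y : G) (hy : y ∈ S), (e ⟨y, hy⟩)⁻¹ = e ⟨y⁻¹, S.inv_mem hy⟩ := by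
    intro y hy
    rw [← map_inv]
    rfl
  have eq : ∀ (y y' : G) (hy : y ∈ S) (hy' : y' ∈ S), e ⟨y, hy⟩ = e ⟨y', hy'⟩ → y = y' := by
    intro y y' hy hy' h
    exact congrArg Subtype.val (e.injective h)
  have := q8_cover (e ⟨u, hu⟩) (e ⟨v, hv⟩) (e ⟨w, hw⟩) (e ⟨t, ht⟩)
    ⟨sq u hu hu2, sq v hv hv2, sq w hw hw2, sq t ht ht2, ne _ _ hv hu h1,
      by rw [inv]; exact ne _ _ hv _ h2, ne _ _ hw hu h3, by rw [inv]; exact ne _ _ hw _ h4,
      ne _ _ hw hv h5, by rw [inv]; exact ne _ _ hw _ h6⟩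
  rcases this with h | h | h | h | h | h
  · exact Or.inl (eq _ _ _ _ h)
  · rw [inv] at h
    exact Or.inr (Or.inl (eq _ _ _ _ h))
  · exact Or.inr (Or.inr (Or.inl (eq _ _ _ _ h)))
  · rw [inv] at h
    exact Or.inr (Or.inr (Or.inr (Or.inl (eq _ _ _ _ h))))
  · exact Or.inr (Or.inr (Or.inr (Or.inr (Or.inl (eq _ _ _ _ h)))))
  · rw [inv] at h
    exact Or.inr (Or.inr (Or.inr (Or.inr (Or.inr (eq _ _ _ _ h)))))

/-- A subgroup of order 4 is determined by any of its elements with `y ^ 2 ≠ 1`. -/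
theorem eq_of_mem_of_sq_ne_one {G : Type*} [Group G] (A A' : Subgroup G) (hA4 : Nat.card A = 4)
    (hA'4 : Nat.card A' = 4) (y : G) (hy : y ∈ A) (hy' : y ∈ A') (hy2 : y ^ 2 ≠ 1) : A = A' := by
  have key : ∀ X : Subgroup G, Nat.card X = 4 → y ∈ X → Subgroup.zpowers y = X := by
    intro X hX hyX
    have : Finite X := Nat.finite_of_card_ne_zero (by rw [hX]; norm_num)
    have hle : Subgroup.zpowers y ≤ X := (Subgroup.zpowers_le).2 hyX
    apply Subgroup.eq_of_le_of_card_ge hle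
    rw [hX, Nat.card_zpowers]
    have hdvd : orderOf y ∣ 4 := by
      have h1 : orderOf (⟨y, hyX⟩ : X) ∣ Nat.card X := orderOf_dvd_natCard _
      rwa [hX, Subgroup.orderOf_mk] at h1
    have hle4 : orderOf y ≤ 4 := Nat.le_of_dvd (by norm_num) hdvd
    have h0 : orderOf y ≠ 0 := fun h => by rw [h] at hdvd; norm_num at hdvd
    have h1 : orderOf y ≠ 1 := fun h => hy2 (by rw [orderOf_eq_one_iff.1 h, one_pow])
    have h2 : orderOf y ≠ 2 := fun h => hy2 (by rw [← h, pow_orderOf_eq_one])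
    have h3 : orderOf y ≠ 3 := fun h => by rw [h] at hdvd; norm_num at hdvd
    omega
  rw [← key A hA4 hy, key A' hA'4 hy']

/-- A nontrivial 2-subgroup contains an involution. -/
theorem exists_involution_mem {G : Type*} [Group G] [Finite G] (Q : Subgroup G)
    (h2 : 2 ∣ Nat.card Q) : ∃ z ∈ Q, z ^ 2 = 1 ∧ z ≠ 1 := by
  have : Fact (Nat.Prime 2) := ⟨Nat.prime_two⟩
  obtain ⟨z, hz⟩ := exists_prime_orderOf_dvd_card' (G := Q) 2 h2
  refine ⟨(z : G), z.2, ?_, ?_⟩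
  · have := pow_orderOf_eq_one z
    rw [hz] at this
    simpa using congrArg Subtype.val this
  · intro h
    have h1 : z = 1 := Subtype.ext h
    rw [h1, orderOf_one] at hz
    norm_num at hz

theorem mem_of_sq_mem_of_odd {G : Type*} [Group G] (N : Subgroup G) (x : G)
    (hodd : Odd (orderOf x)) (hx : x * x ∈ N) : x ∈ N := by
  obtain ⟨m, hm⟩ := hodd
  have h1 : (x * x) ^ (m + 1) = x := by
    rw [← pow_two, ← pow_mul]
    have : 2 * (m + 1) = orderOf x + 1 := by omega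
    rw [this, pow_succ, pow_orderOf_eq_one, one_mul]
  rw [← h1]
  exact N.pow_mem hx _

theorem core {G : Type*} [Group G] [Finite G] (S : Sylow 2 G)
    (hS8 : Nat.card (S : Subgroup G) = 8)
    (huniq : ∀ s s' : G, s ∈ (S : Subgroup G) → s' ∈ (S : Subgroup G) → s ^ 2 = 1 → s ≠ 1 →
      s' ^ 2 = 1 → s' ≠ 1 → s = s')
    (hcover : ∀ u v w t : G, u ∈ (S : Subgroup G) → v ∈ (S : Subgroup G) → w ∈ (S : Subgroup G) →
      t ∈ (S : Subgroup G) → u ^ 2 ≠ 1 → v ^ 2 ≠ 1 → w ^ 2 ≠ 1 → t ^ 2 ≠ 1 → v ≠ u → v ≠ u⁻¹ →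
      w ≠ u → w ≠ u⁻¹ → w ≠ v → w ≠ v⁻¹ → t = u ∨ t = u⁻¹ ∨ t = v ∨ t = v⁻¹ ∨ t = w ∨ t = w⁻¹)
    (hnpc : ¬ Cfsg.HasNormalPComplement 2 G)
    (A B : Subgroup G) (hA : A ≤ S) (hB : B ≤ S) (hA4 : Nat.card A = 4) (hB4 : Nat.card B = 4) :
    ∃ n ∈ Subgroup.normalizer ((S : Subgroup G) : Set G),
      B = A.map (MulAut.conj n).toMonoidHom := by
  have : Fact (Nat.Prime 2) := ⟨Nat.prime_two⟩
  have hncc : ¬ ∀ Q : Subgroup G, Q ≤ (S : Subgroup G) →
      ∀ g ∈ Subgroup.normalizer (Q : Set G),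
      Nat.Coprime (orderOf g) 2 → g ∈ Subgroup.centralizer (Q : Set G) := fun hall =>
    hnpc (Cfsg.Agent.Lib.Helper2.hasNormalPComplement_of_coprimeCentralizes
      (Cfsg.Agent.Lib.Helper2.coprimeCentralizes_of_forall_le_sylow S hall))
  push Not at hncc
  obtain ⟨Q, hQS, g, hgN, hgodd, hgC⟩ := hncc
  obtain ⟨r, k, j, hr, hrn, ho, hK⟩ := exists_pow_prime_pow_order_not_mem
    (Subgroup.centralizer (Q : Set G)) _ g rfl (orderOf_pos g) hgC
  have : Fact r.Prime := ⟨hr⟩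
  generalize hx : g ^ j = x at ho hK
  have hxN : x ∈ Subgroup.normalizer (Q : Set G) := hx ▸ Subgroup.pow_mem _ hgN j
  have hRp : IsPGroup r (Subgroup.zpowers x) :=
    IsPGroup.of_card (n := k) (by rw [Nat.card_zpowers, ho])
  have hr2 : r ≠ 2 := by
    rintro rfl
    have : (2 : ℕ) ∣ 1 := by
      have := Nat.dvd_gcd hrn (dvd_refl 2)
      rwa [hgodd] at this
    omega
  generalize hR : Subgroup.zpowers x = R at hRp
  have hxR : x ∈ R := hR ▸ Subgroup.mem_zpowers x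
  have hRle : ∀ X : Subgroup G, x ∈ X → R ≤ X := fun X hX => hR ▸ (Subgroup.zpowers_le).2 hX
  have hcong : ∀ X : Subgroup G, x ∈ Subgroup.normalizer (X : Set G) →
      Nat.card X ≡ Nat.card (X ⊓ Subgroup.centralizer (R : Set G) : Subgroup G) [MOD r] :=
    fun X hX => card_modEq_card_inf_centralizer r X R hRp (hRle _ hX)
  -- the involution z
  obtain ⟨z, hzS, hz2, hz1⟩ := exists_involution_mem (S : Subgroup G) (by rw [hS8]; norm_num)
  have hzmem : ∀ X : Subgroup G, X ≤ (S : Subgroup G) → 2 ∣ Nat.card X → z ∈ X := by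
    intro X hXS h2
    obtain ⟨z', hz'X, hz'2, hz'1⟩ := exists_involution_mem X h2
    rw [huniq z z' hzS (hXS hz'X) hz2 hz1 hz'2 hz'1]
    exact hz'X
  have hzc : ∀ X : Subgroup G, X ≤ (S : Subgroup G) → z ∈ X →
      x ∈ Subgroup.normalizer (X : Set G) → z ∈ Subgroup.centralizer (R : Set G) := by
    intro X hXS hzX hxX
    have h1 : x * z * x⁻¹ ∈ X := (Subgroup.mem_normalizer_iff.1 hxX z).1 hzX
    have h2 : (x * z * x⁻¹) ^ 2 = 1 := by rw [conj_pow, hz2]; group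
    have h3 : x * z * x⁻¹ ≠ 1 := by
      intro h
      apply hz1
      have : z = x⁻¹ * (x * z * x⁻¹) * x := by group
      rw [this, h]
      group
    have h4 : x * z * x⁻¹ = z := huniq _ _ (hXS h1) hzS h2 h3 hz2 hz1
    have hxz : x ∈ Subgroup.centralizer ({z} : Set G) := by
      rw [Subgroup.mem_centralizer_singleton_iff]
      calc x * z = (x * z * x⁻¹) * x := by group
        _ = z * x := by rw [h4]
    rw [Subgroup.mem_centralizer_iff]
    intro y hy
    have := (hRle _ hxz) hy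
    rw [Subgroup.mem_centralizer_singleton_iff] at this
    exact this
  -- numbers for Q
  have hQ2 : IsPGroup 2 Q := S.isPGroup'.to_le hQS
  obtain ⟨a, ha⟩ := IsPGroup.iff_card.1 hQ2
  obtain ⟨b, hb⟩ := IsPGroup.iff_card.1
    (hQ2.to_le (inf_le_left : Q ⊓ Subgroup.centralizer (R : Set G) ≤ Q))
  have hFne : (Q ⊓ Subgroup.centralizer (R : Set G) : Subgroup G) ≠ Q := by
    intro heq
    apply hK
    rw [Subgroup.mem_centralizer_iff]
    intro h hh
    have hh' : h ∈ (Q ⊓ Subgroup.centralizer (R : Set G) : Subgroup G) := by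
      rw [heq]; exact hh
    have := (Subgroup.mem_centralizer_iff.1 hh'.2) x hxR
    exact this.symm
  have hba : b < a := by
    have hdvd : Nat.card (Q ⊓ Subgroup.centralizer (R : Set G) : Subgroup G) ∣ Nat.card Q :=
      Subgroup.card_dvd_of_le inf_le_left
    rw [ha, hb] at hdvd
    have hle : b ≤ a := (Nat.pow_dvd_pow_iff_le_right (by norm_num)).1 hdvd
    rcases hle.lt_or_eq with hlt | heq
    · exact hlt
    · exfalso
      apply hFne
      apply Subgroup.eq_of_le_of_card_ge inf_le_left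
      rw [ha, hb, heq]
  have ha3 : a ≤ 3 := by
    have hdvd : Nat.card Q ∣ Nat.card (S : Subgroup G) := Subgroup.card_dvd_of_le hQS
    rw [ha, hS8] at hdvd
    have : (2 : ℕ) ^ a ∣ 2 ^ 3 := by norm_num; exact hdvd
    exact (Nat.pow_dvd_pow_iff_le_right (by norm_num)).1 this
  have hzQ : z ∈ Q := hzmem Q hQS (by rw [ha]; exact dvd_pow_self 2 (by omega))
  have hzF : z ∈ (Q ⊓ Subgroup.centralizer (R : Set G) : Subgroup G) :=
    ⟨hzQ, hzc Q hQS hzQ hxN⟩
  have hb1 : 1 ≤ b := by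
    by_contra hb0
    have hb0' : b = 0 := by omega
    rw [hb0', pow_zero] at hb
    have hbot : (Q ⊓ Subgroup.centralizer (R : Set G) : Subgroup G) = ⊥ :=
      Subgroup.card_eq_one.1 hb
    rw [hbot, Subgroup.mem_bot] at hzF
    exact hz1 hzF
  have hrd : r ∣ 2 ^ a - 2 ^ b := by
    have h := hcong Q hxN
    rw [ha, hb] at h
    exact (Nat.modEq_iff_dvd' (Nat.pow_le_pow_right (by norm_num) hba.le)).1 h.symm
  have h2' : r ∣ 2 → False := fun h => hr2 ((Nat.prime_dvd_prime_iff_eq hr Nat.prime_two).1 h)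
  have hab : a = 3 ∧ b = 1 ∧ r = 3 := by
    interval_cases a <;> interval_cases b
    · exfalso
      exact h2' (by simpa using hrd)
    · refine ⟨rfl, rfl, ?_⟩
      have h6 : r ∣ 2 * 3 := by simpa using hrd
      rcases (Nat.Prime.dvd_mul hr).1 h6 with h | h
      · exact absurd h h2'
      · exact (Nat.prime_dvd_prime_iff_eq hr Nat.prime_three).1 h
    · exfalso
      have h4 : r ∣ 2 * 2 := by simpa using hrd
      rcases (Nat.Prime.dvd_mul hr).1 h4 with h | h <;> exact h2' h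
  obtain ⟨ha', hb', hr'⟩ := hab
  subst ha' hb' hr'
  have hQeq : Q = (S : Subgroup G) :=
    Subgroup.eq_of_le_of_card_ge hQS (by rw [hS8, ha]; norm_num)
  rw [hQeq] at hxN hb
  -- x normalizes no subgroup of order 4
  have hno : ∀ A' : Subgroup G, A' ≤ (S : Subgroup G) → Nat.card A' = 4 →
      x ∉ Subgroup.normalizer (A' : Set G) := by
    intro A' hA'S hA'4 hxA'
    have hc := hcong A' hxA'
    rw [hA'4] at hc
    have hzA' : z ∈ A' := hzmem A' hA'S (by rw [hA'4]; norm_num)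
    have hzF' : z ∈ (A' ⊓ Subgroup.centralizer (R : Set G) : Subgroup G) :=
      ⟨hzA', hzc A' hA'S hzA' hxA'⟩
    have hdvd : Nat.card (A' ⊓ Subgroup.centralizer (R : Set G) : Subgroup G) ∣ 4 :=
      hA'4 ▸ Subgroup.card_dvd_of_le inf_le_left
    have hne1 : Nat.card (A' ⊓ Subgroup.centralizer (R : Set G) : Subgroup G) ≠ 1 := by
      intro h1
      have hbot := Subgroup.card_eq_one.1 h1
      rw [hbot, Subgroup.mem_bot] at hzF'
      exact hz1 hzF'
    have hc4 : Nat.card (A' ⊓ Subgroup.centralizer (R : Set G) : Subgroup G) = 4 := by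
      have hle : Nat.card (A' ⊓ Subgroup.centralizer (R : Set G) : Subgroup G) ≤ 4 :=
        Nat.le_of_dvd (by norm_num) hdvd
      have hmod : 4 % 3 = Nat.card (A' ⊓ Subgroup.centralizer (R : Set G) : Subgroup G) % 3 := hc
      generalize Nat.card (A' ⊓ Subgroup.centralizer (R : Set G) : Subgroup G) = c at *
      interval_cases c <;> omega
    have heq : (A' ⊓ Subgroup.centralizer (R : Set G) : Subgroup G) = A' :=
      Subgroup.eq_of_le_of_card_ge inf_le_left (by rw [hc4, hA'4])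
    have hle : A' ≤ ((S : Subgroup G) ⊓ Subgroup.centralizer (R : Set G) : Subgroup G) := by
      intro y hy
      have hy' : y ∈ (A' ⊓ Subgroup.centralizer (R : Set G) : Subgroup G) := by rw [heq]; exact hy
      exact ⟨hA'S hy, hy'.2⟩
    have := Subgroup.card_le_of_le hle
    rw [hA'4, hb] at this
    omega
  -- elements of order 4
  have hex : ∀ X : Subgroup G, X ≤ (S : Subgroup G) → Nat.card X = 4 → ∃ u ∈ X, u ^ 2 ≠ 1 := by
    intro X hXS hX4
    by_contra hcon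
    push Not at hcon
    obtain ⟨e₁, he₁, he₁1, -⟩ :=
      Cfsg.Agent.S0502.exists_mem_ne_ne X (by rw [hX4]; norm_num) 1 1
    obtain ⟨e₂, he₂, he₂1, he₂e₁⟩ :=
      Cfsg.Agent.S0502.exists_mem_ne_ne X (by rw [hX4]; norm_num) 1 e₁
    exact he₂e₁ (huniq e₂ e₁ (hXS he₂) (hXS he₁) (hcon e₂ he₂) he₂1 (hcon e₁ he₁) he₁1)
  obtain ⟨u, huA, hu2⟩ := hex A hA hA4
  obtain ⟨t, htB, ht2⟩ := hex B hB hB4
  -- conjugation by x preserves S
  have hSx : ∀ y ∈ (S : Subgroup G), x * y * x⁻¹ ∈ (S : Subgroup G) := fun y hy =>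
    (Subgroup.mem_normalizer_iff.1 hxN y).1 hy
  have hmapS : ∀ X : Subgroup G, X ≤ (S : Subgroup G) →
      X.map (MulAut.conj x).toMonoidHom ≤ (S : Subgroup G) := by
    intro X hXS y hy
    obtain ⟨c, hc, rfl⟩ := (mem_map_conj_iff x y X).1 hy
    exact hSx c (hXS hc)
  have hsq : ∀ y : G, y ^ 2 ≠ 1 → (x * y * x⁻¹) ^ 2 ≠ 1 := by
    intro y hy h
    apply hy
    rw [conj_pow] at h
    have : y ^ 2 = x⁻¹ * (x * y ^ 2 * x⁻¹) * x := by group
    rw [this, h]
    group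
  have hoddx : Odd (orderOf x) := by
    rw [ho]
    exact Odd.pow (by decide)
  -- the three subgroups
  have hA₁S := hmapS A hA
  have hA₁4 : Nat.card (A.map (MulAut.conj x).toMonoidHom) = 4 := by rw [card_map_conj, hA4]
  have hA₂S := hmapS _ hA₁S
  have hA₂4 : Nat.card ((A.map (MulAut.conj x).toMonoidHom).map (MulAut.conj x).toMonoidHom) = 4 := by
    rw [card_map_conj, hA₁4]
  have hvA₁ : x * u * x⁻¹ ∈ A.map (MulAut.conj x).toMonoidHom :=
    (mem_map_conj_iff x _ A).2 ⟨u, huA, rfl⟩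
  have hwA₂ : x * (x * u * x⁻¹) * x⁻¹ ∈
      (A.map (MulAut.conj x).toMonoidHom).map (MulAut.conj x).toMonoidHom :=
    (mem_map_conj_iff x _ _).2 ⟨_, hvA₁, rfl⟩
  have hv2 := hsq u hu2
  have hw2 := hsq _ hv2
  have hA₂eq : (A.map (MulAut.conj x).toMonoidHom).map (MulAut.conj x).toMonoidHom =
      A.map (MulAut.conj (x * x)).toMonoidHom := by
    rw [Subgroup.map_map]
    congr 1
    ext y
    simp [mul_assoc]
  -- distinctness
  have hvA : x * u * x⁻¹ ∉ A := by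
    intro h
    have := eq_of_mem_of_sq_ne_one _ _ hA₁4 hA4 _ hvA₁ h hv2
    exact hno A hA hA4 ((mem_normalizer_iff_map_conj_eq x A).2 this)
  have hwA : x * (x * u * x⁻¹) * x⁻¹ ∉ A := by
    intro h
    have h1 := eq_of_mem_of_sq_ne_one _ _ hA₂4 hA4 _ hwA₂ h hw2
    rw [hA₂eq] at h1
    have h2 : x * x ∈ Subgroup.normalizer (A : Set G) :=
      (mem_normalizer_iff_map_conj_eq (x * x) A).2 h1
    exact hno A hA hA4 (mem_of_sq_mem_of_odd _ x hoddx h2)
  have hwA₁ : x * (x * u * x⁻¹) * x⁻¹ ∉ A.map (MulAut.conj x).toMonoidHom := by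
    intro h
    have h1 := eq_of_mem_of_sq_ne_one _ _ hA₂4 hA₁4 _ hwA₂ h hw2
    exact hno _ hA₁S hA₁4 ((mem_normalizer_iff_map_conj_eq x _).2 h1)
  have huinv : u⁻¹ ∈ A := A.inv_mem huA
  have hvinv : (x * u * x⁻¹)⁻¹ ∈ A.map (MulAut.conj x).toMonoidHom := Subgroup.inv_mem _ hvA₁
  have hcov := hcover u (x * u * x⁻¹) (x * (x * u * x⁻¹) * x⁻¹) t (hA huA) (hA₁S hvA₁)
    (hA₂S hwA₂) (hB htB) hu2 hv2 hw2 ht2
    (fun h => hvA (by rw [h]; exact huA)) (fun h => hvA (by rw [h]; exact huinv))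
    (fun h => hwA (by rw [h]; exact huA)) (fun h => hwA (by rw [h]; exact huinv))
    (fun h => hwA₁ (by rw [h]; exact hvA₁)) (fun h => hwA₁ (by rw [h]; exact hvinv))
  have hBA : t ∈ A → B = A := fun h => eq_of_mem_of_sq_ne_one _ _ hB4 hA4 t htB h ht2
  have hBA₁ : t ∈ A.map (MulAut.conj x).toMonoidHom → B = A.map (MulAut.conj x).toMonoidHom :=
    fun h => eq_of_mem_of_sq_ne_one _ _ hB4 hA₁4 t htB h ht2
  have hBA₂ : t ∈ (A.map (MulAut.conj x).toMonoidHom).map (MulAut.conj x).toMonoidHom →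
      B = A.map (MulAut.conj (x * x)).toMonoidHom :=
    fun h => hA₂eq ▸ eq_of_mem_of_sq_ne_one _ _ hB4 hA₂4 t htB h ht2
  have h1mem : (1 : G) ∈ Subgroup.normalizer ((S : Subgroup G) : Set G) := Subgroup.one_mem _
  have hmap1 : A.map (MulAut.conj (1 : G)).toMonoidHom = A := by
    ext y
    rw [mem_map_conj_iff]
    simp
  rcases hcov with h | h | h | h | h | h
  · exact ⟨1, h1mem, by rw [hmap1]; exact hBA (by rw [h]; exact huA)⟩
  · exact ⟨1, h1mem, by rw [hmap1]; exact hBA (by rw [h]; exact huinv)⟩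
  · exact ⟨x, hxN, hBA₁ (by rw [h]; exact hvA₁)⟩
  · exact ⟨x, hxN, hBA₁ (by rw [h]; exact hvinv)⟩
  · exact ⟨x * x, Subgroup.mul_mem _ hxN hxN, hBA₂ (by rw [h]; exact hwA₂)⟩
  · exact ⟨x * x, Subgroup.mul_mem _ hxN hxN, hBA₂ (by rw [h]; exact Subgroup.inv_mem _ hwA₂)⟩

/-- Let S be a Sylow 2-subgroup of the finite group G that is isomorphic to the quaternion group of order 8, and suppose S has no normal complement in G. Then any two subgroups of order 4 of S are conjugate by an element of the normalizer of S. -/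
theorem result {G : Type*} [Group G] [Finite G] (S : Sylow 2 G) (e : (S : Subgroup G) ≃* QuaternionGroup 2) (hnc : ∀ N : Subgroup G, N.Normal → ¬ Subgroup.IsComplement' N (S : Subgroup G)) (A B : Subgroup G) (hA : A ≤ S) (hB : B ≤ S) (hA4 : Nat.card A = 4) (hB4 : Nat.card B = 4) : ∃ n ∈ Subgroup.normalizer ((S : Subgroup G) : Set G), B = A.map (MulAut.conj n).toMonoidHom := by
  have : Fact (Nat.Prime 2) := ⟨Nat.prime_two⟩
  have hS8 : Nat.card (S : Subgroup G) = 8 := by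
    rw [Nat.card_congr e.toEquiv, Nat.card_eq_fintype_card, QuaternionGroup.card]
  have hnpc : ¬ Cfsg.HasNormalPComplement 2 G := by
    rintro ⟨P, N, hN, hcompl⟩
    apply hnc N hN
    have hcard : Nat.card N * Nat.card (P : Subgroup G) = Nat.card G := hcompl.card_mul_card
    have hPS : Nat.card (P : Subgroup G) = Nat.card (S : Subgroup G) := by
      have h1 : Nat.card (P : Subgroup G) = Nat.card P := rfl
      have h2 : Nat.card (S : Subgroup G) = Nat.card S := rfl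
      rw [h1, h2, Sylow.card_eq_multiplicity, Sylow.card_eq_multiplicity]
    apply Subgroup.isComplement'_of_coprime (by rw [← hPS]; exact hcard)
    have hP : Nat.card (P : Subgroup G) = 2 ^ (Nat.card G).factorization 2 :=
      P.card_eq_multiplicity
    have hNc : Nat.card N = Nat.card G / 2 ^ (Nat.card G).factorization 2 := by
      rw [hP] at hcard
      exact (Nat.div_eq_of_eq_mul_left (pow_pos (by norm_num) _) hcard.symm).symm
    rw [← hPS, hP, hNc]
    exact Nat.Coprime.pow_right _ (Nat.coprime_ordCompl Nat.prime_two Nat.card_pos.ne').symm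
  exact core S hS8 (unique_inv_of_equiv (S : Subgroup G) e)
    (fun u v w t hu hv hw ht hu2 hv2 hw2 ht2 h1 h2 h3 h4 h5 h6 =>
      cover_of_equiv (S : Subgroup G) e u v w t hu hv hw ht hu2 hv2 hw2 ht2 h1 h2 h3 h4 h5 h6)
    hnpc A B hA hB hA4 hB4

end Cfsg.Agent.S0950
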