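import Cfsg.Statements.S0957
-- import your own Cfsg.Agent.* helpers here

set_option autoImplicit false
open Cfsg

namespace Cfsg.Agent.S0957

variable {G : Type*} [Group G]

/-- The centralizer of a conjugate is the conjugate of the centralizer. -/
theorem centralizer_conj_eq_map (g c : G) :
    Subgroup.centralizer ({c * g * c⁻¹} : Set G) =
      (Subgroup.centralizer ({g} : Set G)).map (MulAut.conj c).toMonoidHom := by
  ext x
  rw [Subgroup.mem_map_equiv, Subgroup.mem_centralizer_singleton_iff,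
    Subgroup.mem_centralizer_singleton_iff]
  simp only [MulAut.conj_symm_apply]
  constructor
  · intro h
    calc c⁻¹ * x * c * g = c⁻¹ * (x * (c * g * c⁻¹)) * c := by group
      _ = c⁻¹ * ((c * g * c⁻¹) * x) * c := by rw [h]
      _ = g * (c⁻¹ * x * c) := by group
  · intro h
    calc x * (c * g * c⁻¹) = c * (c⁻¹ * x * c * g) * c⁻¹ := by group
      _ = c * (g * (c⁻¹ * x * c)) * c⁻¹ := by rw [h]
      _ = c * g * c⁻¹ * x := by group

theorem card_centralizer_conj (g c : G) :
    Nat.card (Subgroup.centralizer ({c * g * c⁻¹} : Set G)) =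
      Nat.card (Subgroup.centralizer ({g} : Set G)) := by
  rw [centralizer_conj_eq_map]
  exact Subgroup.card_map_of_injective (MulAut.conj c).injective

/-- A `p`-subgroup of `G` contained in `K` has order dividing that of a Sylow `p`-subgroup
of `K`. -/
theorem card_dvd_card_sylow_of_le [Finite G] (p : ℕ) [Fact p.Prime] (K : Subgroup G)
    (S : Sylow p K) (Q : Subgroup G) (hQ : IsPGroup p Q) (hQK : Q ≤ K) :
    Nat.card Q ∣ Nat.card S := by
  have hQ' : IsPGroup p (Q.subgroupOf K) := hQ.comap_subtype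
  obtain ⟨S', hS'⟩ := hQ'.exists_le_sylow
  have h1 : Nat.card (Q.subgroupOf K) ∣ Nat.card S' := Subgroup.card_dvd_of_le hS'
  have h2 : Nat.card (Q.subgroupOf K) = Nat.card Q :=
    Nat.card_congr (Subgroup.subgroupOfEquivOfLe hQK).toEquiv
  have h3 : Nat.card S' = Nat.card S := by
    rw [Sylow.card_eq_multiplicity, Sylow.card_eq_multiplicity]
  rw [← h2, ← h3]
  exact h1

/-- If every stabilizer has index divisible by `k`, the cardinality of the set acted on is
divisible by `k`. -/
theorem dvd_card_of_forall_dvd_index {P X : Type*} [Group P] [Finite P] [MulAction P X]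
    [Finite X] (k : ℕ) (hk : ∀ x : X, k ∣ (MulAction.stabilizer P x).index) :
    k ∣ Nat.card X := by
  classical
  have : Fintype (Quotient (MulAction.orbitRel P X)) := Fintype.ofFinite _
  rw [Nat.card_congr (MulAction.selfEquivSigmaOrbitsQuotientStabilizer P X), Nat.card_sigma]
  exact Finset.dvd_sum (fun ω _ => hk _)

/-- The set of pairs in the statement. -/
def pairSet (P : Subgroup G) (g h : G) : Set (G × G) :=
  {yz | IsConj g yz.1 ∧ IsConj h yz.2 ∧ yz.2 * yz.1⁻¹ ∈ P}

theorem isConj_conj {a b : G} (u : G) (h : IsConj a b) : IsConj a (u * b * u⁻¹) :=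
  h.trans (isConj_iff.mpr ⟨u, rfl⟩)

/-- `P` acts on the set of pairs by simultaneous conjugation. -/
@[reducible] def pairAction (P : Subgroup G) (g h : G) : MulAction P (pairSet P g h) where
  smul u yz := ⟨((u : G) * yz.1.1 * (u : G)⁻¹, (u : G) * yz.1.2 * (u : G)⁻¹),
    isConj_conj _ yz.2.1, isConj_conj _ yz.2.2.1, by
      have h3 := yz.2.2.2
      have : (u : G) * yz.1.2 * (u : G)⁻¹ * ((u : G) * yz.1.1 * (u : G)⁻¹)⁻¹ =
          (u : G) * (yz.1.2 * yz.1.1⁻¹) * (u : G)⁻¹ := by group
      show (u : G) * yz.1.2 * (u : G)⁻¹ * ((u : G) * yz.1.1 * (u : G)⁻¹)⁻¹ ∈ P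
      rw [this]
      exact P.mul_mem (P.mul_mem u.2 h3) (P.inv_mem u.2)⟩
  one_smul yz := by
    apply Subtype.ext
    show (((1 : P) : G) * yz.1.1 * ((1 : P) : G)⁻¹, ((1 : P) : G) * yz.1.2 * ((1 : P) : G)⁻¹) = yz.1
    simp
  mul_smul u v yz := by
    apply Subtype.ext
    show (((u * v : P) : G) * yz.1.1 * ((u * v : P) : G)⁻¹,
      ((u * v : P) : G) * yz.1.2 * ((u * v : P) : G)⁻¹) =
      ((u : G) * ((v : G) * yz.1.1 * (v : G)⁻¹) * (u : G)⁻¹,
        (u : G) * ((v : G) * yz.1.2 * (v : G)⁻¹) * (u : G)⁻¹)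
    simp only [Subgroup.coe_mul, mul_inv_rev, Prod.mk.injEq]
    constructor <;> group

theorem pairAction_smul_fst (P : Subgroup G) (g h : G) (u : P) (yz : pairSet P g h) :
    ((pairAction P g h).smul u yz).1.1 = (u : G) * yz.1.1 * (u : G)⁻¹ := rfl

/-- A `p`-subgroup has order dividing the order of a Sylow `p`-subgroup. -/
theorem card_pgroup_dvd_card_sylow [Finite G] (p : ℕ) [Fact p.Prime] (P : Sylow p G)
    (Q : Subgroup G) (hQ : IsPGroup p Q) : Nat.card Q ∣ Nat.card P := by
  obtain ⟨P', hP'⟩ := hQ.exists_le_sylow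
  have h1 : Nat.card Q ∣ Nat.card P' := Subgroup.card_dvd_of_le hP'
  have h3 : Nat.card P' = Nat.card P := by
    rw [Sylow.card_eq_multiplicity, Sylow.card_eq_multiplicity]
  rw [← h3]
  exact h1

/-- Let P be a Sylow p-subgroup of the finite group G, let g, h ∈ G and let p ^ d be the order of a Sylow p-subgroup of the centralizer of g. Then the number of pairs (y, z) with y conjugate to g, z conjugate to h and z * y⁻¹ ∈ P is divisible by the order of P divided by p ^ d. -/
theorem result {G : Type*} [Group G] [Finite G] (p : ℕ) [Fact p.Prime] (P : Sylow p G) (g h : G) (S : Sylow p (Subgroup.centralizer ({g} : Set G))) : Nat.card P / Nat.card S ∣ Nat.card {yz : G × G // IsConj g yz.1 ∧ IsConj h yz.2 ∧ yz.2 * yz.1⁻¹ ∈ (P : Subgroup G)} := by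
  letI : MulAction (P : Subgroup G) (pairSet (P : Subgroup G) g h) := pairAction (P : Subgroup G) g h
  show Nat.card P / Nat.card S ∣ Nat.card (pairSet (P : Subgroup G) g h)
  have hSP : Nat.card S ∣ Nat.card P := by
    have h1 : IsPGroup p ((S : Subgroup (Subgroup.centralizer ({g} : Set G))).map
        (Subgroup.centralizer ({g} : Set G)).subtype) := S.2.map _
    have h2 := card_pgroup_dvd_card_sylow p P _ h1
    rwa [Subgroup.card_subtype] at h2
  obtain ⟨q, hq⟩ := hSP
  have hSpos : 0 < Nat.card S := Nat.card_pos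
  have hdiv : Nat.card P / Nat.card S = q := by
    rw [hq]; exact Nat.mul_div_cancel_left q hSpos
  rw [hdiv]
  apply dvd_card_of_forall_dvd_index (P := (P : Subgroup G))
  intro x
  set T := MulAction.stabilizer (P : Subgroup G) x with hT
  set y := x.1.1 with hy
  have hQp : IsPGroup p (T.map (P : Subgroup G).subtype) := (P.2.to_subgroup T).map _
  have hQle : T.map (P : Subgroup G).subtype ≤ Subgroup.centralizer ({y} : Set G) := by
    rintro _ ⟨u, hu, rfl⟩
    rw [Subgroup.mem_centralizer_singleton_iff]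
    have hux : u • x = x := hu
    have h1 : (u • x).1.1 = x.1.1 := by rw [hux]
    have h2 : (u : G) * y * (u : G)⁻¹ = y := h1
    show (u : G) * y = y * (u : G)
    calc (u : G) * y = (u : G) * y * (u : G)⁻¹ * (u : G) := by group
      _ = y * (u : G) := by rw [h2]
  obtain ⟨c, hc⟩ := isConj_iff.mp x.2.1
  have hc' : c * g * c⁻¹ = y := hc
  obtain ⟨S'⟩ := (Sylow.nonempty : Nonempty (Sylow p (Subgroup.centralizer ({y} : Set G))))
  have hQS' := card_dvd_card_sylow_of_le p _ S' _ hQp hQle
  have hS'S : Nat.card S' = Nat.card S := by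
    rw [Sylow.card_eq_multiplicity, Sylow.card_eq_multiplicity, ← hc', card_centralizer_conj]
  rw [Subgroup.card_subtype, hS'S] at hQS'
  obtain ⟨m, hm⟩ := hQS'
  have hTpos : 0 < Nat.card T := Nat.card_pos
  have hmul : Nat.card T * T.index = Nat.card T * (m * q) := by
    rw [Subgroup.card_mul_index, hq, hm, mul_assoc]
  have hidx : T.index = m * q := Nat.eq_of_mul_eq_mul_left hTpos hmul
  rw [hidx]
  exact Dvd.intro_left m rfl

end Cfsg.Agent.S0957
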