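import Cfsg.Statements.S0968
import Cfsg.Agent.Lib.Helper82.CentralProductBlock
import Cfsg.Agent.Lib.Helper78.CharOrtho

set_option autoImplicit false
open Cfsg

namespace Cfsg.Agent.S0968

set_option linter.style.haveILetI false

open Cfsg.Agent.Lib.Helper16 Cfsg.Agent.Lib.Helper78 Cfsg.Agent.Lib.Helper82

/-- Let P be a p-subgroup of the finite group G with P ⊔ C_G(P) = G, and let B be a block with defect group P relative to a maximal ideal M of the algebraic integers containing p. Then there is exactly one θ ∈ B with θ x = θ 1 for all x ∈ P; for this θ the exponent of p in θ(1) equals the exponent of p in the index of P; and the number of members of B equals the number of conjugacy classes of P. -/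
theorem result {G : Type*} [Group G] [Finite G] (p : ℕ) [Fact p.Prime] (M : Ideal Cfsg.AlgInt) (hM : Cfsg.IsPModular p M) (P : Subgroup G) (hP : IsPGroup p P) (hG : P ⊔ Subgroup.centralizer (P : Set G) = ⊤) (B : Set (Cfsg.IrrCharacter G)) (hB : Cfsg.IsPBlock M B) (hD : Cfsg.IsDefectGroup p M B P) : (∃! θ : Cfsg.IrrCharacter G, θ ∈ B ∧ ∀ x ∈ P, (θ : G → ℂ) x = (θ : G → ℂ) 1) ∧ (∀ θ ∈ B, (∀ x ∈ P, (θ : G → ℂ) x = (θ : G → ℂ) 1) → (Cfsg.charDegree (θ : G → ℂ)).factorization p = P.index.factorization p) ∧ Nat.card B = Nat.card (ConjClasses P) := by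
  classical
  haveI : Fintype G := Fintype.ofFinite G
  -- uniqueness of the member with `P` in its kernel
  have huniq : ∀ θ θ' : IrrCharacter G, θ ∈ B → θ' ∈ B →
      (∀ x ∈ P, (θ : G → ℂ) x = (θ : G → ℂ) 1) → (∀ x ∈ P, (θ' : G → ℂ) x = (θ' : G → ℂ) 1) →
      θ = θ' := by
    intro θ θ' hθ hθ' h h'
    exact eq_of_isPFactor hM hP hG hB hD hθ hθ' (isPFactor_trivIrr h) (isPFactor_trivIrr h')
  obtain ⟨θ₀, hθ₀B, hθ₀ker, hθ₀deg⟩ := exists_mem_ker hM hP hG hB hD
  refine ⟨⟨θ₀, ⟨hθ₀B, hθ₀ker⟩, ?_⟩, ?_, ?_⟩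
  · rintro θ ⟨hθB, hθker⟩
    exact huniq θ θ₀ hθB hθ₀B hθker hθ₀ker
  · intro θ hθB hθker
    rw [huniq θ θ₀ hθB hθ₀B hθker hθ₀ker]
    exact hθ₀deg
  · rw [← card_irrCharacter (G := P)]
    -- the bijection `θ ↦ P`-factor of `θ`
    have hex : ∀ θ : B, ∃ ζ : IrrCharacter P, IsPFactor P ((θ : IrrCharacter G) : G → ℂ) (ζ : P → ℂ) :=
      fun θ => exists_isPFactor hG θ
    choose f hf using hex
    apply Nat.card_eq_of_bijective f
    constructor
    · intro θ θ' h
      have h1 := hf θ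
      have h2 := hf θ'
      rw [← h] at h2
      exact Subtype.ext (eq_of_isPFactor hM hP hG hB hD θ.2 θ'.2 h1 h2)
    · intro ζ
      obtain ⟨θ, hθB, hθ⟩ := exists_mem_isPFactor hM hP hG hB ζ
      refine ⟨⟨θ, hθB⟩, ?_⟩
      exact IsPFactor.unique (hf ⟨θ, hθB⟩) hθ

end Cfsg.Agent.S0968
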