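import Cfsg.Statements.S0972
import Cfsg.Agent.Lib.Helper82.NormalDefectCover
import Cfsg.Agent.S0187
import Cfsg.Agent.S0887

set_option autoImplicit false
open Cfsg

namespace Cfsg.Agent.S0972

set_option linter.style.haveILetI false

open Cfsg.Agent.Lib.Helper16 Cfsg.Agent.Lib.Helper78 Cfsg.Agent.Lib.Helper82

/-- Let B be a block of the finite group G (relative to a maximal ideal M of the algebraic integers containing the prime p) with a defect group P that is normal in G. Then P is commutative if and only if every member of B has height zero. -/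
theorem result {G : Type*} [Group G] [Finite G] (p : ℕ) [Fact p.Prime] (M : Ideal Cfsg.AlgInt) (hM : Cfsg.IsPModular p M) (B : Set (Cfsg.IrrCharacter G)) (hB : Cfsg.IsPBlock M B) (P : Subgroup G) [P.Normal] (hP : Cfsg.IsDefectGroup p M B P) : (∀ a ∈ P, ∀ c ∈ P, a * c = c * a) ↔ ∀ χ ∈ B, Cfsg.blockHeight p B (χ : G → ℂ) = 0 := by
  classical
  haveI : Fintype G := Fintype.ofFinite G
  haveI hMp := isPModular_isPrime hM
  have hp : p.Prime := Fact.out
  -- the minimal `p`-exponent of the degrees in `B`
  set m := sInf ((fun ψ : IrrCharacter G => (charDegree (ψ : G → ℂ)).factorization p) '' B) with hm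
  have hmle : ∀ χ ∈ B, m ≤ (charDegree (χ : G → ℂ)).factorization p :=
    fun χ hχ => Nat.sInf_le ⟨χ, hχ, rfl⟩
  have hdega : ∀ χ : IrrCharacter G,
      (charDegree (χ : G → ℂ)).factorization p ≤ (Nat.card G).factorization p := fun χ =>
    (Nat.factorization_le_iff_dvd (Cfsg.Agent.Lib.Helper79.irr_charDegree_pos χ).ne'
      Nat.card_pos.ne').mpr (Cfsg.Agent.Lib.Helper79.irr_charDegree_dvd_card χ) p
  obtain ⟨χ₁, hχ₁⟩ := IsPBlock_nonempty hMp.ne_top hB
  have hma : m ≤ (Nat.card G).factorization p := (hmle χ₁ hχ₁).trans (hdega χ₁)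
  have hcardP : Nat.card P = p ^ ((Nat.card G).factorization p - m) := card_defectGroup hM hB hP
  have hvP : (Nat.card P).factorization p = (Nat.card G).factorization p - m := by
    rw [hcardP, hp.factorization_pow]
    simp
  have hPidx := P.card_mul_index
  have hvidx : (Nat.card G).factorization p =
      (Nat.card P).factorization p + P.index.factorization p := by
    rw [← hPidx, Nat.factorization_mul Nat.card_pos.ne' Subgroup.index_ne_zero_of_finite]
    rfl
  have hheight : ∀ χ : IrrCharacter G, blockHeight p B (χ : G → ℂ) =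
      (charDegree (χ : G → ℂ)).factorization p - m := fun χ => rfl
  constructor
  · -- abelian defect group: all heights are zero (Ito)
    intro hab χ hχ
    rw [hheight]
    haveI : Fintype P := Fintype.ofFinite _
    obtain ⟨ϑ, hϑ⟩ := exists_constituent P χ
    have hϑ1 : (ϑ : P → ℂ) 1 = 1 :=
      (Cfsg.Agent.S0187.result (G := P)).mp
        (fun a b => Subtype.ext (hab a a.2 b b.2)) ϑ
    have h887 := Cfsg.Agent.S0887.result P (χ : G → ℂ) χ.2 (ϑ : P → ℂ) ϑ.2 hϑ
      (charDegree (χ : G → ℂ)) 1 (Cfsg.Agent.Lib.Helper79.irr_apply_one_eq_charDegree χ)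
      (by rw [hϑ1]; simp)
    have hdvd : charDegree (χ : G → ℂ) ∣ P.index := by
      have := h887.2
      rwa [Nat.div_one] at this
    have hle : (charDegree (χ : G → ℂ)).factorization p ≤ P.index.factorization p :=
      (Nat.factorization_le_iff_dvd (Cfsg.Agent.Lib.Helper79.irr_charDegree_pos χ).ne'
        Subgroup.index_ne_zero_of_finite).mpr hdvd p
    omega
  · -- all heights zero: the defect group is abelian (Reynolds)
    intro hht
    set N : Subgroup G := P ⊔ Subgroup.centralizer (P : Set G) with hN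
    haveI : Fintype N := Fintype.ofFinite _
    haveI hNn : N.Normal := by rw [hN]; infer_instance
    have hPN : P ≤ N := le_sup_left
    have hPp : IsPGroup p P := IsPGroup.of_card hcardP
    obtain ⟨θ₁, hθ₁⟩ := exists_constituent N χ₁
    set b : Set (IrrCharacter N) := blockOf M (θ₁ : N → ℂ) with hbdef
    have hb : IsPBlock M b := isPBlock_blockOf θ₁
    have hθ₁b : θ₁ ∈ b := self_mem_blockOf hMp.ne_top θ₁
    obtain ⟨hind, hbD⟩ := covered_block_facts hM hB hP N hN hb ⟨χ₁, hχ₁, θ₁, hθ₁b, hθ₁⟩
    have hG' := sup_centralizer_subgroupOf_eq_top (P := P) N hN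
    have hP'p : IsPGroup p (P.subgroupOf N) := hPp.comap_subtype
    -- every irreducible character of `P` (inside `N`) is linear
    have hlin : ∀ ζ : IrrCharacter (P.subgroupOf N), (ζ : P.subgroupOf N → ℂ) 1 = 1 := by
      intro ζ
      obtain ⟨θ, hθb, hζ⟩ := exists_mem_isPFactor hM hP'p hG' hb ζ
      obtain ⟨χ, hχθ⟩ := exists_irr_over N θ
      have hχB : χ ∈ B :=
        mem_of_over_covered hM hPp hB N hN hb ⟨χ₁, hχ₁, θ₁, hθ₁b, hθ₁⟩ hθb hχθ
      have h1 := factorization_degree_over hM hB hP N hN hb hbD hχB hθb hχθ hζ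
      have h2 : blockHeight p B (χ : G → ℂ) = 0 := hht χ hχB
      rw [hheight] at h2
      have h3 := hmle χ hχB
      have hζ0 : (charDegree (ζ : P.subgroupOf N → ℂ)).factorization p = 0 := by omega
      -- the degree of `ζ` is a power of `p`
      have hdvd : charDegree (ζ : P.subgroupOf N → ℂ) ∣ Nat.card (P.subgroupOf N) :=
        Cfsg.Agent.Lib.Helper79.irr_charDegree_dvd_card ζ
      obtain ⟨k, hk⟩ := IsPGroup.iff_card.mp hP'p
      rw [hk] at hdvd
      obtain ⟨j, -, hj⟩ := (Nat.dvd_prime_pow hp).mp hdvd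
      rw [hj, hp.factorization_pow] at hζ0
      simp only [Finsupp.single_eq_same] at hζ0
      rw [Cfsg.Agent.Lib.Helper79.irr_apply_one_eq_charDegree ζ, hj, hζ0, pow_zero, Nat.cast_one]
    have hcomm := (Cfsg.Agent.S0187.result (G := P.subgroupOf N)).mpr hlin
    intro a ha c hc
    have := hcomm ⟨⟨a, hPN ha⟩, ha⟩ ⟨⟨c, hPN hc⟩, hc⟩
    exact congrArg (fun x : P.subgroupOf N => ((x : N) : G)) this

end Cfsg.Agent.S0972
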