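import Cfsg.Statements.S0976
import Cfsg.Agent.Lib.Helper17.Simple4032
import Cfsg.Agent.Lib.Helper78.Dihedral4032

set_option autoImplicit false
open Cfsg

namespace Cfsg.Agent.S0976

/-- No finite simple group has order 4032 = 2^6 * 3^2 * 7. -/
theorem result {G : Type*} [Group G] [Finite G] [IsSimpleGroup G] : Nat.card G ≠ 4032 := by
  intro hcard
  have : Fact (Nat.Prime 7) := ⟨by norm_num⟩
  obtain ⟨P⟩ : Nonempty (Sylow 7 G) := inferInstance
  exact Cfsg.Agent.Lib.Helper78.no_simple_4032_of_card_normalizer hcard P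
    (Cfsg.Agent.Lib.Helper17.Simple4032.card_normalizer_sylow7_eq_14 hcard P)

end Cfsg.Agent.S0976
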