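import Cfsg.Statements.S0981
import Cfsg.Agent.Lib.Helper17.Simple4080

set_option autoImplicit false
open Cfsg

namespace Cfsg.Agent.S0981

open Cfsg.Agent.Lib.Helper17 Cfsg.Agent.Lib.Helper17.Simple4080

/-- A simple group of order 4080 is isomorphic to the projective special linear group of dimension 2 over the field with 16 elements. -/
theorem result {G : Type*} [Group G] [Finite G] [IsSimpleGroup G] (h : Nat.card G = 4080) {F : Type*} [Field F] [Fintype F] (hF : Fintype.card F = 16) : Nonempty (G ≃* Matrix.ProjectiveSpecialLinearGroup (Fin 2) F) := by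
  have hF' : Fintype.card F = 2 ^ 4 := by rw [hF]; norm_num
  exact nonempty_mulEquiv_PSL_of_two_elements 4 255 (by rw [h]; norm_num) (by norm_num)
    (by norm_num) (by norm_num) (card_two_elements_le h)
    (fun w hw1 hw => card_centralizer2_dvd h w hw1 hw) hF'

end Cfsg.Agent.S0981
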