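import Cfsg.Statements.S0983
import Mathlib
import Cfsg.Agent.S0974
import Cfsg.Agent.S0975
import Cfsg.Agent.S0976
import Cfsg.Agent.S0977
import Cfsg.Agent.S0978
import Cfsg.Agent.S0979
import Cfsg.Agent.S0980
import Cfsg.Agent.Lib.Helper72.Range6232Orders
import Cfsg.Agent.Lib.Helper72.Range6232Sieve
import Cfsg.Agent.Lib.Helper3.Simple5400M4

set_option autoImplicit false
open Cfsg

namespace Cfsg.Agent.S0983

/-- A non-abelian finite simple group of order greater than 3640 and at most 6232 has order 4080, 5616, 6048 or 6072. -/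
theorem result {G : Type*} [Group G] [Finite G] [IsSimpleGroup G] (hG : ¬ IsMulCommutative G) (h1 : 3640 < Nat.card G) (h2 : Nat.card G ≤ 6232) : Nat.card G = 4080 ∨ Nat.card G = 5616 ∨ Nat.card G = 6048 ∨ Nat.card G = 6072 := by
  have hmem := Cfsg.Agent.Lib.Helper72.Range6232Sieve.card_mem_listed hG h1 h2
  simp only [Cfsg.Agent.Lib.Helper72.Range6232Sieve.listed, List.mem_cons, List.not_mem_nil, or_false] at hmem
  rcases hmem with h | h | h | h | h | h | h | h | h | h | h | h | h | h | h | h | h | h | h | h | h | h | h | h | h | h | h | h | h | h | h | h | h | h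
  · exact absurd h Cfsg.Agent.S0974.result
  · exact (Cfsg.Agent.Lib.Helper72.Range6232.not_simple_of_card_3696 h).elim
  · exact absurd h Cfsg.Agent.S0975.result
  · exact (Cfsg.Agent.Lib.Helper72.Range6232.not_simple_of_card_3780 h).elim
  · exact (Cfsg.Agent.Lib.Helper72.Range6232.not_simple_of_card_3960 h).elim
  · exact absurd h Cfsg.Agent.S0976.result
  · exact Or.inl h
  · exact (Cfsg.Agent.Lib.Helper72.Range6232.not_simple_of_card_4200 h).elim
  · exact (Cfsg.Agent.Lib.Helper72.Range6232.not_simple_of_card_4212 h).elim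
  · exact absurd h Cfsg.Agent.S0977.result
  · exact (Cfsg.Agent.Lib.Helper72.Range6232.not_simple_of_card_4400 h).elim
  · exact (Cfsg.Agent.Lib.Helper72.Range6232.not_simple_of_card_4536 h).elim
  · exact (Cfsg.Agent.Lib.Helper72.Range6232.not_simple_of_card_4620 h).elim
  · exact (Cfsg.Agent.Lib.Helper72.Range6232.not_simple_of_card_4680 h).elim
  · exact (Cfsg.Agent.Lib.Helper72.Range6232.not_simple_of_card_4760 h).elim
  · exact (Cfsg.Agent.Lib.Helper72.Range6232.not_simple_of_card_4800 h).elim
  · exact (Cfsg.Agent.Lib.Helper72.Range6232.not_simple_of_card_4928 h).elim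
  · exact (Cfsg.Agent.Lib.Helper72.Range6232.not_simple_of_card_4960 h).elim
  · exact absurd h Cfsg.Agent.S0978.result
  · exact (Cfsg.Agent.Lib.Helper72.Range6232.not_simple_of_card_5104 h).elim
  · exact (Cfsg.Agent.Lib.Helper72.Range6232.not_simple_of_card_5148 h).elim
  · exact (Cfsg.Agent.Lib.Helper72.Range6232.not_simple_of_card_5200 h).elim
  · exact (Cfsg.Agent.Lib.Helper72.Range6232.not_simple_of_card_5376 h).elim
  · exact (Cfsg.Agent.Lib.Helper3.Simple5400.not_simple_of_card_5400 h).elim
  · exact (Cfsg.Agent.Lib.Helper72.Range6232.not_simple_of_card_5460 h).elim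
  · exact absurd h Cfsg.Agent.S0979.result
  · exact (Cfsg.Agent.Lib.Helper72.Range6232.not_simple_of_card_5600 h).elim
  · exact Or.inr (Or.inl h)
  · exact (Cfsg.Agent.Lib.Helper72.Range6232.not_simple_of_card_5724 h).elim
  · exact absurd h Cfsg.Agent.S0980.result
  · exact (Cfsg.Agent.Lib.Helper72.Range6232.not_simple_of_card_5880 h).elim
  · exact (Cfsg.Agent.Lib.Helper72.Range6232.not_simple_of_card_5940 h).elim
  · exact Or.inr (Or.inr (Or.inl h))
  · exact Or.inr (Or.inr (Or.inr h))

end Cfsg.Agent.S0983
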