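import Cfsg.Statements.S0986
import Cfsg.Agent.Lib.Helper17.SylowSub

set_option autoImplicit false
open Cfsg

namespace Cfsg.Agent.S0986

open Cfsg.Agent.Lib.Helper17 Subgroup

section

variable {G : Type*} [Group G] [Finite G] {p : ℕ} [Fact p.Prime]

/-- `D < P ⊓ N(D)` in cardinality, for `D = P ⊓ R` with `P ≠ R`. -/
theorem card_lt_card_inf_normalizer (P R : Sylow p G) (hne : P ≠ R) (D N : Subgroup G)
    (hD : D = (P : Subgroup G) ⊓ (R : Subgroup G)) (hN : N = normalizer (D : Set G)) :
    Nat.card D < Nat.card ↥((P : Subgroup G) ⊓ N) := by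
  subst hN
  have hDP : D ≤ (P : Subgroup G) := hD ▸ inf_le_left
  have hDne : D ≠ (P : Subgroup G) := by
    intro h
    have hPR : (P : Subgroup G) ≤ (R : Subgroup G) := by rw [← h, hD]; exact inf_le_right
    exact hne (Sylow.ext (P.3 R.2 hPR)).symm
  obtain ⟨x, hxP, hxN, hxD⟩ := exists_mem_normalizer_not_mem_of_ne (P : Subgroup G) D P.2 hDP hDne
  have hle : D ≤ (P : Subgroup G) ⊓ normalizer (D : Set G) := le_inf hDP Subgroup.le_normalizer
  by_contra hcon
  have hge : Nat.card ↥((P : Subgroup G) ⊓ normalizer (D : Set G)) ≤ Nat.card D := not_lt.1 hcon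
  have heq : D = (P : Subgroup G) ⊓ normalizer (D : Set G) := Subgroup.eq_of_le_of_card_ge hle hge
  apply hxD
  rw [heq]
  exact ⟨hxP, hxN⟩

variable (P Q : Sylow p G) (hPQ : P ≠ Q)
  (hmax : ∀ P' Q' : Sylow p G, P' ≠ Q' → Nat.card ↥((P' : Subgroup G) ⊓ (Q' : Subgroup G)) ≤ Nat.card ↥((P : Subgroup G) ⊓ (Q : Subgroup G)))
  (D N : Subgroup G) (hD : D = (P : Subgroup G) ⊓ (Q : Subgroup G)) (hN : N = normalizer (D : Set G))

include hPQ hD hN in
/-- Every Sylow `p`-subgroup of `N(D)` is strictly larger than `D`. -/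
theorem card_lt_card_sylow_normalizer (S : Sylow p N) :
    Nat.card D < Nat.card (S : Subgroup N) := by
  have h1 := card_lt_card_inf_normalizer P Q hPQ D N hD hN
  obtain ⟨S', hS'⟩ := exists_sylow_sub_ge N ((P : Subgroup G) ⊓ N) inf_le_right (P.2.to_inf_left)
  have h2 : Nat.card ↥((P : Subgroup G) ⊓ N) ≤ Nat.card ((S' : Subgroup N).map N.subtype) :=
    Nat.card_le_card_of_injective _ (Subgroup.inclusion_injective hS')
  rw [card_map_subtype] at h2
  have h3 : Nat.card (S' : Subgroup N) = Nat.card (S : Subgroup N) := by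
    rw [S'.card_eq_multiplicity, S.card_eq_multiplicity]
  omega

include hPQ hmax hD hN in
/-- Uniqueness of the Sylow subgroup of `G` above a Sylow subgroup of `N(D)`. -/
theorem sylow_above_unique (S : Sylow p N) (T T' : Sylow p G)
    (hT : (S : Subgroup N).map N.subtype ≤ (T : Subgroup G))
    (hT' : (S : Subgroup N).map N.subtype ≤ (T' : Subgroup G)) :
    T = T' := by
  by_contra hne
  have h1 := card_lt_card_sylow_normalizer P Q hPQ D N hD hN S
  have h2 := hmax T T' hne
  rw [← hD] at h2
  have h3 : Nat.card ((S : Subgroup N).map N.subtype) ≤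
      Nat.card ↥((T : Subgroup G) ⊓ (T' : Subgroup G)) :=
    Nat.card_le_card_of_injective _ (Subgroup.inclusion_injective (le_inf hT hT'))
  rw [card_map_subtype] at h3
  omega

include hPQ hmax hD hN in
theorem main :
    1 < Nat.card (Sylow p N) ∧
    (∀ S T : Sylow p N, S ≠ T → (S : Subgroup N) ⊓ (T : Subgroup N) = D.subgroupOf N) ∧
    ∀ S : Sylow p N, ∃! T : Sylow p G, (S : Subgroup N).map N.subtype ≤ (T : Subgroup G) := by
  have hlt := card_lt_card_sylow_normalizer P Q hPQ D N hD hN
  have huniq := sylow_above_unique P Q hPQ hmax D N hD hN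
  have hDN : D ≤ N := hN ▸ Subgroup.le_normalizer
  have hDp : IsPGroup p D := hD ▸ P.2.to_inf_left
  have hmax' : ∀ P' Q' : Sylow p G, P' ≠ Q' →
      Nat.card ↥((P' : Subgroup G) ⊓ (Q' : Subgroup G)) ≤ Nat.card D := by
    intro P' Q' h
    rw [hD]; exact hmax P' Q' h
  refine ⟨?_, ?_, ?_⟩
  · -- more than one Sylow subgroup
    by_contra hcon
    have hsub : Subsingleton (Sylow p N) := by
      rw [← Finite.card_le_one_iff_subsingleton]; omega
    obtain ⟨S1, hS1⟩ := exists_sylow_sub_ge N ((P : Subgroup G) ⊓ N) inf_le_right (P.2.to_inf_left)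
    obtain ⟨S2, hS2⟩ := exists_sylow_sub_ge N ((Q : Subgroup G) ⊓ N) inf_le_right (Q.2.to_inf_left)
    rw [Subsingleton.elim S2 S1] at hS2
    obtain ⟨T, hT⟩ := exists_sylow_ge_map_subtype N S1
    have hP1 := card_lt_card_inf_normalizer P Q hPQ D N hD hN
    have hQ1 := card_lt_card_inf_normalizer Q P hPQ.symm D N (by rw [hD, inf_comm]) hN
    have hTP : T = P := by
      by_contra hne
      have h2 := hmax' P T (Ne.symm hne)
      have h3 : Nat.card ↥((P : Subgroup G) ⊓ N) ≤ Nat.card ↥((P : Subgroup G) ⊓ (T : Subgroup G)) :=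
        Nat.card_le_card_of_injective _
          (Subgroup.inclusion_injective (le_inf inf_le_left (hS1.trans hT)))
      omega
    have hTQ : T = Q := by
      by_contra hne
      have h2 := hmax' Q T (Ne.symm hne)
      have h3 : Nat.card ↥((Q : Subgroup G) ⊓ N) ≤ Nat.card ↥((Q : Subgroup G) ⊓ (T : Subgroup G)) :=
        Nat.card_le_card_of_injective _
          (Subgroup.inclusion_injective (le_inf inf_le_left (hS2.trans hT)))
      omega
    exact hPQ (hTP.symm.trans hTQ)
  · -- distinct Sylow subgroups of N meet in D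
    intro S S' hne
    obtain ⟨T, hT⟩ := exists_sylow_ge_map_subtype N S
    obtain ⟨T', hT'⟩ := exists_sylow_ge_map_subtype N S'
    have hTT' : T ≠ T' := by
      intro h
      rw [← h] at hT'
      have e1 := map_subtype_eq_of_le N ((T : Subgroup G) ⊓ N) inf_le_right (T.2.to_inf_left) S
        (le_inf hT (map_subtype_le' N _))
      have e2 := map_subtype_eq_of_le N ((T : Subgroup G) ⊓ N) inf_le_right (T.2.to_inf_left) S'
        (le_inf hT' (map_subtype_le' N _))
      apply hne
      apply Sylow.ext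
      exact Subgroup.map_injective N.subtype_injective (e1.trans e2.symm)
    have h2 := hmax' T T' hTT'
    have hNle : N ≤ normalizer (D : Set G) := hN ▸ le_rfl
    have hDS : D ≤ (S : Subgroup N).map N.subtype := le_map_subtype_of_normal N D hDN hNle hDp S
    have hDS' : D ≤ (S' : Subgroup N).map N.subtype := le_map_subtype_of_normal N D hDN hNle hDp S'
    have hle : D ≤ (S : Subgroup N).map N.subtype ⊓ (S' : Subgroup N).map N.subtype := le_inf hDS hDS'
    have hle2 : (S : Subgroup N).map N.subtype ⊓ (S' : Subgroup N).map N.subtype ≤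
        (T : Subgroup G) ⊓ (T' : Subgroup G) := inf_le_inf hT hT'
    have hcard : Nat.card ↥((S : Subgroup N).map N.subtype ⊓ (S' : Subgroup N).map N.subtype) ≤ Nat.card D :=
      (Nat.card_le_card_of_injective _ (Subgroup.inclusion_injective hle2)).trans h2
    have heq : D = (S : Subgroup N).map N.subtype ⊓ (S' : Subgroup N).map N.subtype :=
      Subgroup.eq_of_le_of_card_ge hle hcard
    ext x
    rw [Subgroup.mem_inf, Subgroup.mem_subgroupOf, heq, Subgroup.mem_inf,
      mem_map_subtype_iff, mem_map_subtype_iff]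
  · intro S
    obtain ⟨T, hT⟩ := exists_sylow_ge_map_subtype N S
    exact ⟨T, hT, fun T' hT' => huniq S T' T hT' hT⟩

end

/-- Let P and Q be distinct Sylow p-subgroups of a finite group G chosen so that the order of P ∩ Q is as large as possible among intersections of two distinct Sylow p-subgroups, and let N be the normalizer of P ∩ Q. Then N has more than one Sylow p-subgroup, any two distinct Sylow p-subgroups of N intersect exactly in P ∩ Q, and each Sylow p-subgroup of N lies in exactly one Sylow p-subgroup of G. -/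
theorem result {G : Type*} [Group G] [Finite G] (p : ℕ) [Fact p.Prime] (P Q : Sylow p G) (hPQ : P ≠ Q) (hmax : ∀ P' Q' : Sylow p G, P' ≠ Q' → Nat.card ↥((P' : Subgroup G) ⊓ (Q' : Subgroup G)) ≤ Nat.card ↥((P : Subgroup G) ⊓ (Q : Subgroup G))) : 1 < Nat.card (Sylow p ↥(Subgroup.normalizer (((P : Subgroup G) ⊓ (Q : Subgroup G) : Subgroup G) : Set G))) ∧ (∀ S T : Sylow p ↥(Subgroup.normalizer (((P : Subgroup G) ⊓ (Q : Subgroup G) : Subgroup G) : Set G)), S ≠ T → (S : Subgroup _) ⊓ (T : Subgroup _) = ((P : Subgroup G) ⊓ (Q : Subgroup G)).subgroupOf (Subgroup.normalizer (((P : Subgroup G) ⊓ (Q : Subgroup G) : Subgroup G) : Set G))) ∧ ∀ S : Sylow p ↥(Subgroup.normalizer (((P : Subgroup G) ⊓ (Q : Subgroup G) : Subgroup G) : Set G)), ∃! T : Sylow p G, (S : Subgroup _).map (Subgroup.normalizer (((P : Subgroup G) ⊓ (Q : Subgroup G) : Subgroup G) : Set G)).subtype ≤ (T : Subgroup G) := by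
  exact main P Q hPQ hmax _ _ rfl rfl

end Cfsg.Agent.S0986
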