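import Cfsg.Statements.S0987
import Cfsg.Agent.Lib.Helper17.NormalSup
import Cfsg.Agent.Lib.Helper17.OrderCount
import Mathlib.Tactic.Linarith
import Mathlib.Tactic.Ring

set_option autoImplicit false
open Cfsg

namespace Cfsg.Agent.S0987

open Cfsg.Agent.Lib.Helper17

theorem card_orderOf_eq_one {G : Type*} [Group G] : Nat.card {g : G // orderOf g = 1} = 1 := by
  have : Unique {g : G // orderOf g = 1} :=
    { default := ⟨1, orderOf_one⟩
      uniq := fun g => Subtype.ext (orderOf_eq_one_iff.1 g.2) }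
  exact Nat.card_unique

theorem arith_contra (p q r np nq : ℕ) (hp : 2 ≤ p) (hpq : p < q) (hqr : q < r)
    (hnq : r ≤ nq) (hnp : q ≤ np)
    (hsum : 1 + p * q * (r - 1) + nq * (q - 1) + np * (p - 1) ≤ p * q * r) : False := by
  obtain ⟨a, rfl⟩ : ∃ a, r = a + 1 := ⟨r - 1, by omega⟩
  obtain ⟨b, rfl⟩ : ∃ b, q = b + 1 := ⟨q - 1, by omega⟩
  obtain ⟨c, rfl⟩ : ∃ c, p = c + 1 := ⟨p - 1, by omega⟩
  simp only [Nat.add_sub_cancel] at hsum
  have h1 : (a + 1) * b ≤ nq * b := Nat.mul_le_mul_right b hnq
  have h2 : (b + 1) * c ≤ np * c := Nat.mul_le_mul_right c hnp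
  have hb : 1 ≤ b := by omega
  have ha : 1 ≤ a := by omega
  have hab : 1 ≤ a * b := Nat.mul_pos ha hb
  nlinarith

/-- If a finite group has order pqr for primes p < q < r, then its Sylow r-subgroups are normal. -/
theorem result {G : Type*} [Group G] [Finite G] (p q r : ℕ) (hp : p.Prime) (hq : q.Prime) [Fact r.Prime] (hpq : p < q) (hqr : q < r) (hG : Nat.card G = p * q * r) (R : Sylow r G) : (R : Subgroup G).Normal := by
  have hr : r.Prime := Fact.out
  have : Fact p.Prime := ⟨hp⟩
  have : Fact q.Prime := ⟨hq⟩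
  have hp2 : 2 ≤ p := hp.two_le
  -- non-divisibilities
  have hr_pq : ¬ r ∣ p * q := by
    intro h
    rcases (Nat.Prime.dvd_mul hr).1 h with h | h
    · have := Nat.le_of_dvd hp.pos h; omega
    · have := Nat.le_of_dvd hq.pos h; omega
  have hq_pr : ¬ q ∣ p * r := by
    intro h
    rcases (Nat.Prime.dvd_mul hq).1 h with h | h
    · have := Nat.le_of_dvd hp.pos h; omega
    · have := (Nat.prime_dvd_prime_iff_eq hq hr).1 h; omega
  have hp_qr : ¬ p ∣ q * r := by
    intro h
    rcases (Nat.Prime.dvd_mul hp).1 h with h | h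
    · have := (Nat.prime_dvd_prime_iff_eq hp hq).1 h; omega
    · have := (Nat.prime_dvd_prime_iff_eq hp hr).1 h; omega
  have hGr : Nat.card G = r ^ 1 * (p * q) := by rw [hG]; ring
  have hGq : Nat.card G = q ^ 1 * (p * r) := by rw [hG]; ring
  have hGp : Nat.card G = p ^ 1 * (q * r) := by rw [hG]; ring
  have hRcard : ∀ R : Sylow r G, Nat.card (R : Subgroup G) = r := fun R => by
    rw [sylow_card_of_card_eq R hGr hr_pq, pow_one]
  have hQcard : ∀ Q : Sylow q G, Nat.card (Q : Subgroup G) = q := fun Q => by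
    rw [sylow_card_of_card_eq Q hGq hq_pr, pow_one]
  have hPcard : ∀ P : Sylow p G, Nat.card (P : Subgroup G) = p := fun P => by
    rw [sylow_card_of_card_eq P hGp hp_qr, pow_one]
  by_contra hnot
  have hnr1 : Nat.card (Sylow r G) ≠ 1 := fun h => hnot (sylow_normal_of_card_eq_one h R)
  have hnr_dvd : Nat.card (Sylow r G) ∣ p * q := card_sylow_dvd_of_card_eq hGr hr_pq
  have hnq_dvd : Nat.card (Sylow q G) ∣ p * r := card_sylow_dvd_of_card_eq hGq hq_pr
  have hnp_dvd : Nat.card (Sylow p G) ∣ q * r := card_sylow_dvd_of_card_eq hGp hp_qr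
  have hnr_mod : Nat.card (Sylow r G) % r = 1 % r := card_sylow_modEq_one r G
  have hnq_mod : Nat.card (Sylow q G) % q = 1 % q := card_sylow_modEq_one q G
  rw [Nat.mod_eq_of_lt hr.one_lt] at hnr_mod
  rw [Nat.mod_eq_of_lt hq.one_lt] at hnq_mod
  -- n_r = p * q
  have hnr : Nat.card (Sylow r G) = p * q := by
    rcases dvd_prime_mul_prime hp hq hnr_dvd with h | h | h | h
    · exact (hnr1 h).elim
    · rw [h, Nat.mod_eq_of_lt (by omega)] at hnr_mod; omega
    · rw [h, Nat.mod_eq_of_lt (by omega)] at hnr_mod; omega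
    · exact h
  -- the normalizer of R has order r
  have hNR : Nat.card (Subgroup.normalizer ((R : Subgroup G) : Set G)) = r := by
    have := card_sylow_mul_card_normalizer R
    rw [hnr, hG] at this
    exact Nat.eq_of_mul_eq_mul_left (Nat.mul_pos hp.pos hq.pos) this
  -- a normal subgroup of prime order s < r is impossible
  have key : ∀ (N : Subgroup G) (s : ℕ), N.Normal → s.Prime → s < r → Nat.card N = s → False := by
    intro N s hN hs hsr hNs
    have := mul_dvd_card_normalizer_of_normal_prime R (hRcard R) N hs hsr hNs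
    rw [hNR] at this
    have h2 : s * r ≤ r := Nat.le_of_dvd hr.pos this
    have : 2 * r ≤ s * r := Nat.mul_le_mul_right r hs.two_le
    have := hr.pos
    omega
  have hnq1 : Nat.card (Sylow q G) ≠ 1 := by
    intro h
    obtain ⟨Q⟩ := (Sylow.nonempty : Nonempty (Sylow q G))
    exact key (Q : Subgroup G) q (sylow_normal_of_card_eq_one h Q) hq hqr (hQcard Q)
  have hnp1 : Nat.card (Sylow p G) ≠ 1 := by
    intro h
    obtain ⟨P⟩ := (Sylow.nonempty : Nonempty (Sylow p G))
    exact key (P : Subgroup G) p (sylow_normal_of_card_eq_one h P) hp (by omega) (hPcard P)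
  have hnq_ge : r ≤ Nat.card (Sylow q G) := by
    rcases dvd_prime_mul_prime hp hr hnq_dvd with h | h | h | h
    · exact (hnq1 h).elim
    · rw [h, Nat.mod_eq_of_lt hpq] at hnq_mod; omega
    · omega
    · rw [h]; exact Nat.le_mul_of_pos_left r hp.pos
  have hnp_ge : q ≤ Nat.card (Sylow p G) := by
    rcases dvd_prime_mul_prime hq hr hnp_dvd with h | h | h | h
    · exact (hnp1 h).elim
    · omega
    · omega
    · rw [h]; exact Nat.le_mul_of_pos_right q hr.pos
  -- counting elements
  have hcount := sum_card_orderOf_le (G := G) ({1, p, q, r} : Finset ℕ)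
  have h1p : (1 : ℕ) ∉ ({p, q, r} : Finset ℕ) := by
    simp only [Finset.mem_insert, Finset.mem_singleton]; omega
  have hpqr : p ∉ ({q, r} : Finset ℕ) := by
    simp only [Finset.mem_insert, Finset.mem_singleton]; omega
  have hqr' : q ∉ ({r} : Finset ℕ) := by
    simp only [Finset.mem_singleton]; omega
  rw [Finset.sum_insert h1p, Finset.sum_insert hpqr, Finset.sum_insert hqr', Finset.sum_singleton,
    card_orderOf_eq_one, card_orderOf_eq_prime hPcard, card_orderOf_eq_prime hQcard,
    card_orderOf_eq_prime hRcard, hnr, hG] at hcount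
  apply arith_contra p q r (Nat.card (Sylow p G)) (Nat.card (Sylow q G)) hp2 hpq hqr hnq_ge hnp_ge
  omega

end Cfsg.Agent.S0987
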