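import Cfsg.Statements.S0988
import Cfsg.Agent.S0144
import Cfsg.Agent.Lib.Helper17.PrimeSylow
import Cfsg.Agent.Lib.Helper17.SylowCard
import Cfsg.Agent.Lib.Helper17.Burnside
import Cfsg.Agent.Lib.Helper17.CoprimeAct
-- import your own Cfsg.Agent.* helpers here

set_option autoImplicit false
open Cfsg

namespace Cfsg.Agent.S0988

open Cfsg.Agent.Lib.Helper17 Subgroup

/-- In a non-commutative simple group, if `s` exactly divides the order then some prime divisor of
the order divides `s - 1`. -/
theorem exists_prime_dvd_pred {G : Type*} [Group G] [Finite G] [IsSimpleGroup G]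
    (hGc : ¬ IsMulCommutative G) (s m : ℕ) (hs : s.Prime) (hcard : Nat.card G = s ^ 1 * m)
    (hm : ¬ s ∣ m) : ∃ l : ℕ, l.Prime ∧ l ∣ s - 1 ∧ l ∣ Nat.card G := by
  have : Fact s.Prime := ⟨hs⟩
  obtain ⟨P⟩ := (Sylow.nonempty : Nonempty (Sylow s G))
  have hP : Nat.card (P : Subgroup G) = s := by
    rw [sylow_card_of_card_eq P hcard hm, pow_one]
  have hdvd : s ∣ Nat.card G := by rw [hcard, pow_one]; exact Dvd.intro _ rfl
  have h1 := relIndex_cent_norm_dvd_pred_of_card_prime P hP
  have h2 := relIndex_cent_norm_ne_one_of_simple hGc P hdvd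
  have h3 := mul_relIndex_cent_norm_dvd_of_card_prime P hP
  set k := (centralizer ((P : Subgroup G) : Set G)).relIndex (normalizer ((P : Subgroup G) : Set G))
  refine ⟨k.minFac, Nat.minFac_prime h2, (Nat.minFac_dvd k).trans h1, ?_⟩
  exact (Nat.minFac_dvd k).trans ((Dvd.intro_left _ rfl).trans
    (h3.trans (Subgroup.card_subgroup_dvd_card _)))

theorem arith_twelve (s : ℕ) (hs : s.Prime) (h5 : 5 ≤ s) (n N k : ℕ) (hn12 : n ∣ 12)
    (hmod : n % s = 1) (hne1 : n ≠ 1) (hNcard : n * N = 12 * s) (h3 : s * k ∣ N) (h2 : k ≠ 1) :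
    s = 5 := by
  have hnle : n ≤ 12 := Nat.le_of_dvd (by norm_num) hn12
  have hnpos : 0 < n := Nat.pos_of_ne_zero (fun h => by rw [h] at hn12; simp at hn12)
  have hs12 : s ≠ 12 := by rintro rfl; exact absurd hs (by decide)
  have hs11 : s ≤ 11 := by
    by_contra hcon
    have : n % s = n := Nat.mod_eq_of_lt (by omega)
    omega
  interval_cases s
  · rfl
  · exact absurd hs (by decide)
  · exfalso
    interval_cases n <;> omega
  · exact absurd hs (by decide)
  · exact absurd hs (by decide)
  · exact absurd hs (by decide)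
  · exfalso
    have hn : n = 12 := by interval_cases n <;> omega
    rw [hn] at hNcard
    have hN : N = 11 := by omega
    rw [hN] at h3
    have : k = 1 := by
      have h4 : 11 * k ∣ 11 * 1 := by simpa using h3
      exact Nat.dvd_one.1 (Nat.dvd_of_mul_dvd_mul_left (by norm_num) h4)
    exact h2 this

/-- The final step: a simple group of order `12 s` with `s ≥ 5` prime has order 60. -/
theorem card_eq_sixty_of_card_eq {G : Type*} [Group G] [Finite G] [IsSimpleGroup G]
    (hGc : ¬ IsMulCommutative G) (s : ℕ) (hs : s.Prime) (h5 : 5 ≤ s)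
    (hcard : Nat.card G = 12 * s) : Nat.card G = 60 := by
  have : Fact s.Prime := ⟨hs⟩
  have hs12 : ¬ s ∣ 12 := by
    intro h
    have hle := Nat.le_of_dvd (by norm_num) h
    interval_cases s <;> first | exact absurd h (by decide) | exact absurd hs (by decide)
  have hcard' : Nat.card G = s ^ 1 * 12 := by rw [hcard, pow_one, mul_comm]
  obtain ⟨P⟩ := (Sylow.nonempty : Nonempty (Sylow s G))
  have hP : Nat.card (P : Subgroup G) = s := by
    rw [sylow_card_of_card_eq P hcard' hs12, pow_one]
  have hdvd : s ∣ Nat.card G := by rw [hcard]; exact Dvd.intro_left _ rfl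
  have hn12 : Nat.card (Sylow s G) ∣ 12 := card_sylow_dvd_of_card_eq hcard' hs12
  have hmod : Nat.card (Sylow s G) % s = 1 % s := card_sylow_modEq_one s G
  have hne1 : Nat.card (Sylow s G) ≠ 1 :=
    card_sylow_ne_one_of_simple hcard' hs12 (by norm_num) (by norm_num)
  have hNcard := card_sylow_mul_card_normalizer P
  have h2 := relIndex_cent_norm_ne_one_of_simple hGc P hdvd
  have h3 := mul_relIndex_cent_norm_dvd_of_card_prime P hP
  rw [Nat.mod_eq_of_lt (by omega : 1 < s)] at hmod
  rw [hcard] at hNcard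
  have := arith_twelve s hs h5 _ _ _ hn12 hmod hne1 hNcard h3 h2
  rw [hcard, this]

theorem prime_mem_of_dvd {p q r l : ℕ} (hp : p.Prime) (hq : q.Prime) (hr : r.Prime) (hl : l.Prime)
    (h : l ∣ p ^ 2 * q * r) : l = p ∨ l = q ∨ l = r := by
  rcases (Nat.Prime.dvd_mul hl).1 h with h1 | h1
  · rcases (Nat.Prime.dvd_mul hl).1 h1 with h2 | h2
    · left
      exact (Nat.prime_dvd_prime_iff_eq hl hp).1 (hl.dvd_of_dvd_pow h2)
    · right; left
      exact (Nat.prime_dvd_prime_iff_eq hl hq).1 h2
  · right; right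
    exact (Nat.prime_dvd_prime_iff_eq hl hr).1 h1

theorem arith_two_three {p l : ℕ} (hp : p.Prime) (hl : l.Prime) (hlt : p < l)
    (h : p ^ 2 ≡ 1 [MOD l] ∨ p ^ 2 ≡ p [MOD l]) : p = 2 ∧ l = 3 := by
  have hp2 := hp.two_le
  have hnot1 : ¬ l ∣ p - 1 := fun hd => by
    have := Nat.le_of_dvd (by omega) hd
    omega
  have hnotp : ¬ l ∣ p := fun hd => by
    have := Nat.le_of_dvd (by omega) hd
    omega
  rcases h with h | h
  · have h1 : l ∣ p ^ 2 - 1 := (Nat.modEq_iff_dvd' (Nat.one_le_pow _ _ (by omega))).1 h.symm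
    have e : p ^ 2 - 1 = (p - 1) * (p + 1) := by
      obtain ⟨m, rfl⟩ : ∃ m, p = m + 1 := ⟨p - 1, by omega⟩
      simp only [Nat.add_sub_cancel]
      have : (m + 1) ^ 2 = m * (m + 1 + 1) + 1 := by ring
      rw [this, Nat.add_sub_cancel]
    rw [e] at h1
    rcases (Nat.Prime.dvd_mul hl).1 h1 with h2 | h2
    · exact absurd h2 hnot1
    · have hle := Nat.le_of_dvd (by omega) h2
      have hlp : l = p + 1 := by omega
      rcases hp.eq_two_or_odd with h2p | hodd
      · exact ⟨h2p, by omega⟩
      · have h2l : 2 ∣ l := by omega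
        rcases hl.eq_one_or_self_of_dvd 2 h2l with h3 | h3 <;> omega
  · have h1 : l ∣ p ^ 2 - p := (Nat.modEq_iff_dvd' (by nlinarith)).1 h.symm
    have e : p ^ 2 - p = p * (p - 1) := by
      obtain ⟨m, rfl⟩ : ∃ m, p = m + 1 := ⟨p - 1, by omega⟩
      simp only [Nat.add_sub_cancel]
      have : (m + 1) ^ 2 = (m + 1) * m + (m + 1) := by ring
      rw [this, Nat.add_sub_cancel]
    rw [e] at h1
    rcases (Nat.Prime.dvd_mul hl).1 h1 with h2 | h2
    · exact absurd h2 hnotp
    · exact absurd h2 hnot1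

/-- If a finite simple group has order p^2 * q * r with p, q and r prime, then its order is 60. -/
theorem result {G : Type*} [Group G] [Finite G] [IsSimpleGroup G] (p q r : ℕ) (hp : p.Prime) (hq : q.Prime) (hr : r.Prime) (hG : Nat.card G = p ^ 2 * q * r) : Nat.card G = 60 := by
  have hp2 := hp.two_le
  have hq2 := hq.two_le
  have hr2 := hr.two_le
  have hnp : ¬ (Nat.card G).Prime := by
    rw [hG]
    apply Nat.not_prime_mul
    · have : 0 < p ^ 2 * q := by positivity
      have : 4 ≤ p ^ 2 := by nlinarith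
      nlinarith
    · omega
  have hGc : ¬ IsMulCommutative G := not_comm_of_simple_of_not_prime hnp
  have hns : ¬ Group.IsSolvable G := fun h =>
    hGc ⟨⟨IsSimpleGroup.comm_iff_isSolvable.2 h⟩⟩
  have hpq : p ≠ q := by
    rintro rfl
    exact hns (Cfsg.Agent.S0144.result p r 3 1 hp hr (by rw [hG]; ring))
  have hpr : p ≠ r := by
    rintro rfl
    exact hns (Cfsg.Agent.S0144.result p q 3 1 hp hq (by rw [hG]; ring))
  have hqr : q ≠ r := by
    rintro rfl
    exact hns (Cfsg.Agent.S0144.result p q 2 2 hp hq (by rw [hG]; ring))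
  have hne : ∀ {a b : ℕ}, a.Prime → b.Prime → a ≠ b → ¬ a ∣ b := fun ha hb hab hd =>
    hab ((Nat.prime_dvd_prime_iff_eq ha hb).1 hd)
  -- `p` is the smallest of the three primes
  have key : p < q ∧ p < r := by
    obtain ⟨l1, hl1, hl1d, hl1G⟩ := exists_prime_dvd_pred hGc q (p ^ 2 * r) hq
      (by rw [hG]; ring) (fun h => by
        rcases (Nat.Prime.dvd_mul hq).1 h with h1 | h1
        · exact hne hq hp hpq.symm (hq.dvd_of_dvd_pow h1)
        · exact hne hq hr hqr h1)
    obtain ⟨l2, hl2, hl2d, hl2G⟩ := exists_prime_dvd_pred hGc r (p ^ 2 * q) hr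
      (by rw [hG]; ring) (fun h => by
        rcases (Nat.Prime.dvd_mul hr).1 h with h1 | h1
        · exact hne hr hp hpr.symm (hr.dvd_of_dvd_pow h1)
        · exact hne hr hq hqr.symm h1)
    rw [hG] at hl1G hl2G
    have h1 := prime_mem_of_dvd hp hq hr hl1 hl1G
    have h2 := prime_mem_of_dvd hp hq hr hl2 hl2G
    have h1' : l1 ≤ q - 1 := Nat.le_of_dvd (by omega) hl1d
    have h2' : l2 ≤ r - 1 := Nat.le_of_dvd (by omega) hl2d
    omega
  obtain ⟨hpq', hpr'⟩ := key
  have : Fact p.Prime := ⟨hp⟩
  obtain ⟨P⟩ := (Sylow.nonempty : Nonempty (Sylow p G))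
  have hcardP : Nat.card G = p ^ 2 * (q * r) := by rw [hG]; ring
  have hqr' : ¬ p ∣ q * r := fun h => by
    rcases (Nat.Prime.dvd_mul hp).1 h with h1 | h1
    · exact hne hp hq hpq h1
    · exact hne hp hr hpr h1
  have hP : Nat.card (P : Subgroup G) = p ^ 2 := sylow_card_of_card_eq P hcardP hqr'
  have hcomm : IsMulCommutative (P : Subgroup G) := IsPGroup.isMulCommutative_of_card_eq_prime_sq hP
  have hdvd : p ∣ Nat.card G := by
    rw [hcardP]
    exact dvd_mul_of_dvd_left (dvd_pow_self p two_ne_zero) _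
  have h2 := relIndex_cent_norm_ne_one_of_simple hGc P hdvd
  have h3 := card_mul_relIndex_cent_norm_dvd (P : Subgroup G)
  set C := centralizer ((P : Subgroup G) : Set G) with hC
  set N := normalizer ((P : Subgroup G) : Set G) with hN
  set k := C.relIndex N with hk
  rw [hP] at h3
  have hkqr : k ∣ q * r := by
    have h4 : p ^ 2 * k ∣ p ^ 2 * (q * r) := by
      rw [← hcardP]
      exact h3.trans (Subgroup.card_subgroup_dvd_card _)
    exact Nat.dvd_of_mul_dvd_mul_left (pow_pos hp.pos 2) h4
  have hl : (k.minFac).Prime := Nat.minFac_prime h2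
  have hlk : k.minFac ∣ k := Nat.minFac_dvd k
  set l := k.minFac with hldef
  have : Fact l.Prime := ⟨hl⟩
  have hlqr : l = q ∨ l = r := by
    rcases (Nat.Prime.dvd_mul hl).1 (hlk.trans hkqr) with h | h
    · left; exact (Nat.prime_dvd_prime_iff_eq hl hq).1 h
    · right; exact (Nat.prime_dvd_prime_iff_eq hl hr).1 h
  have hlp : p < l := by rcases hlqr with h | h <;> omega
  have hlN : l ∣ Nat.card N := hlk.trans ((Dvd.intro_left _ rfl).trans h3)
  obtain ⟨x', hx'⟩ := exists_prime_orderOf_dvd_card' l hlN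
  have hox : orderOf (x' : G) = l := by rw [Subgroup.orderOf_coe, hx']
  have hxN : (x' : G) ∈ N := x'.2
  have hxC : (x' : G) ∉ C := by
    intro hc
    have hmem : x' ∈ C.subgroupOf N := by rw [Subgroup.mem_subgroupOf]; exact hc
    have h5 : l ∣ Nat.card (C.subgroupOf N) := by
      have := orderOf_dvd_natCard (⟨x', hmem⟩ : C.subgroupOf N)
      rwa [Subgroup.orderOf_mk, hx'] at this
    have h6 := Subgroup.card_mul_index (C.subgroupOf N)
    have h7 : l * l ∣ Nat.card N := by
      rw [← h6]
      exact Nat.mul_dvd_mul h5 hlk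
    have h8 : l * l ∣ p ^ 2 * q * r := by
      rw [← hG]
      exact h7.trans (Subgroup.card_subgroup_dvd_card _)
    rcases hlqr with h | h
    · rw [h] at h8
      have h9 : q * q ∣ q * (p ^ 2 * r) := by
        have : p ^ 2 * q * r = q * (p ^ 2 * r) := by ring
        rwa [this] at h8
      have h10 := Nat.dvd_of_mul_dvd_mul_left hq.pos h9
      rcases (Nat.Prime.dvd_mul hq).1 h10 with h1 | h1
      · exact hne hq hp hpq.symm (hq.dvd_of_dvd_pow h1)
      · exact hne hq hr hqr h1
    · rw [h] at h8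
      have h9 : r * r ∣ r * (p ^ 2 * q) := by
        have : p ^ 2 * q * r = r * (p ^ 2 * q) := by ring
        rwa [this] at h8
      have h10 := Nat.dvd_of_mul_dvd_mul_left hr.pos h9
      rcases (Nat.Prime.dvd_mul hr).1 h10 with h1 | h1
      · exact hne hr hp hpr.symm (hr.dvd_of_dvd_pow h1)
      · exact hne hr hq hqr.symm h1
  have hmod := card_modEq_card_centralizer_of_normalizes (ℓ := l) (P : Subgroup G) (x' : G) hxN hox
  rw [hP] at hmod
  set Fx := (centralizer ({(x' : G)} : Set G)).subgroupOf (P : Subgroup G) with hFx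
  have hFdvd : Nat.card Fx ∣ p ^ 2 := by
    rw [← hP]
    exact Subgroup.card_subgroup_dvd_card _
  have hFne : Nat.card Fx ≠ p ^ 2 := by
    intro h
    rw [← hP] at h
    have htop : Fx = ⊤ := (Subgroup.card_eq_iff_eq_top _).1 h
    rw [hFx, Subgroup.subgroupOf_eq_top] at htop
    apply hxC
    rw [hC, Subgroup.mem_centralizer_iff]
    intro g hg
    have := htop hg
    rw [Subgroup.mem_centralizer_iff] at this
    exact (this _ rfl).symm
  obtain ⟨j, hj, hFj⟩ := (Nat.dvd_prime_pow hp).1 hFdvd
  have h23 : p = 2 ∧ l = 3 := by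
    apply arith_two_three hp hl hlp
    interval_cases j
    · left; rw [hFj] at hmod; simpa using hmod
    · right; rw [hFj] at hmod; simpa using hmod
    · exact absurd hFj hFne
  obtain ⟨rfl, hl3⟩ := h23
  rcases hlqr with h | h
  · have hq3 : q = 3 := by omega
    subst hq3
    apply card_eq_sixty_of_card_eq hGc r hr
    · rcases Nat.lt_or_ge r 5 with h5 | h5
      · interval_cases r
        · omega
        · exact absurd hr (by decide)
      · exact h5
    · rw [hG]; ring
  · have hr3 : r = 3 := by omega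
    subst hr3
    apply card_eq_sixty_of_card_eq hGc q hq
    · rcases Nat.lt_or_ge q 5 with h5 | h5
      · interval_cases q
        · omega
        · exact absurd hq (by decide)
      · exact h5
    · rw [hG]; ring

end Cfsg.Agent.S0988
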