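import Cfsg.Statements.S0990

set_option autoImplicit false
open Cfsg

namespace Cfsg.Agent.S0990

theorem card_subgroupOf_eq_card_inf {G : Type*} [Group G] (H K : Subgroup G) :
    Nat.card (H.subgroupOf K) = Nat.card (H ⊓ K : Subgroup G) := by
  rw [← Subgroup.inf_subgroupOf_right]
  exact Nat.card_congr (Subgroup.subgroupOfEquivOfLe (inf_le_right : H ⊓ K ≤ K)).toEquiv

/-- Let p be an odd prime and P a Sylow p-subgroup of the symmetric group on a finite set with at least two elements. Then P is contained in the alternating group, and twice the order of the normalizer of P inside the alternating group equals the order of the normalizer of P in the symmetric group. -/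
theorem result {α : Type*} [Fintype α] [DecidableEq α] (hα : 2 ≤ Fintype.card α) (p : ℕ) [Fact p.Prime] (hp : p ≠ 2) (P : Sylow p (Equiv.Perm α)) : (P : Subgroup (Equiv.Perm α)) ≤ alternatingGroup α ∧ 2 * Nat.card ↥(Subgroup.normalizer ((((P : Subgroup (Equiv.Perm α)).subgroupOf (alternatingGroup α) : Subgroup ↥(alternatingGroup α)) : Set ↥(alternatingGroup α)))) = Nat.card ↥(Subgroup.normalizer ((P : Subgroup (Equiv.Perm α)) : Set (Equiv.Perm α))) := by
  have hpp : p.Prime := Fact.out
  have hnt : Nontrivial α := Fintype.one_lt_card_iff_nontrivial.1 (by omega)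
  have hPA : (P : Subgroup (Equiv.Perm α)) ≤ alternatingGroup α := by
    intro σ hσ
    rw [Equiv.Perm.mem_alternatingGroup]
    obtain ⟨k, hk⟩ := (P.2 ⟨σ, hσ⟩)
    have hk' : σ ^ p ^ k = 1 := by
      have := congrArg Subtype.val hk
      simpa using this
    have hodd : Odd (p ^ k) := (hpp.odd_of_ne_two hp).pow
    have h1 : Equiv.Perm.sign σ ^ (p ^ k) = 1 := by
      rw [← map_pow, hk', map_one]
    rw [Int.units_pow_eq_pow_mod_two, Nat.odd_iff.1 hodd, pow_one] at h1
    exact h1
  refine ⟨hPA, ?_⟩
  set N := Subgroup.normalizer ((P : Subgroup (Equiv.Perm α)) : Set (Equiv.Perm α)) with hN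
  set A := alternatingGroup α with hA
  have hfrat : N ⊔ A = ⊤ := Sylow.normalizer_sup_eq_top' P hPA
  have h1 : Subgroup.normalizer (((P : Subgroup (Equiv.Perm α)).subgroupOf A : Subgroup ↥A) : Set ↥A) = N.subgroupOf A :=
    (Subgroup.subgroupOf_normalizer_eq hPA).symm
  rw [h1, card_subgroupOf_eq_card_inf]
  have h2 : A.relIndex N = 2 := by
    rw [← Subgroup.relIndex_sup_right, hfrat, Subgroup.relIndex_top_right]
    exact alternatingGroup.index_eq_two
  have h3 : (A.subgroupOf N).index * Nat.card (A.subgroupOf N) = Nat.card N :=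
    Subgroup.index_mul_card _
  rw [card_subgroupOf_eq_card_inf] at h3
  rw [← h3, inf_comm]
  congr 1
  exact h2.symm

end Cfsg.Agent.S0990
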