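import Cfsg.Statements.S0994
import Cfsg.Agent.Lib.Helper17.PrimeSylow
import Mathlib.Tactic.IntervalCases
import Mathlib.Tactic.NormNum.Prime

set_option autoImplicit false
open Cfsg

namespace Cfsg.Agent.S0994

open Cfsg.Agent.Lib.Helper17 Subgroup

/-- No finite simple group has order 1188 = 2^2 * 3^3 * 11. -/
theorem result {G : Type*} [Group G] [Finite G] [IsSimpleGroup G] : Nat.card G ≠ 1188 := by
  intro h
  have hG : ¬ IsMulCommutative G := not_comm_of_simple_of_not_prime (by rw [h]; norm_num)
  have : Fact (Nat.Prime 11) := ⟨by norm_num⟩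
  have hcard : Nat.card G = 11 ^ 1 * 108 := by rw [h]; norm_num
  have h108 : ¬ 11 ∣ 108 := by norm_num
  have hdvd : Nat.card (Sylow 11 G) ∣ 108 := card_sylow_dvd_of_card_eq hcard h108
  have hmod : Nat.card (Sylow 11 G) % 11 = 1 := card_sylow_modEq_one 11 G
  have hne1 : Nat.card (Sylow 11 G) ≠ 1 :=
    card_sylow_ne_one_of_simple hcard h108 (by norm_num) (by norm_num)
  have hn : Nat.card (Sylow 11 G) = 12 := by
    have hle : Nat.card (Sylow 11 G) ≤ 108 := Nat.le_of_dvd (by norm_num) hdvd
    generalize Nat.card (Sylow 11 G) = c at *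
    interval_cases c <;> omega
  obtain ⟨P⟩ := (Sylow.nonempty : Nonempty (Sylow 11 G))
  have hP : Nat.card (P : Subgroup G) = 11 := by
    rw [sylow_card_of_card_eq P hcard h108, pow_one]
  have hN : Nat.card (normalizer ((P : Subgroup G) : Set G)) = 99 := by
    have := card_sylow_mul_card_normalizer P
    rw [hn, h] at this
    omega
  have h1 := relIndex_cent_norm_dvd_pred_of_card_prime P hP
  have h2 := mul_relIndex_cent_norm_dvd_of_card_prime P hP
  have h3 := relIndex_cent_norm_ne_one_of_simple hG P (by rw [h]; norm_num)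
  rw [hN] at h2
  have hle : (centralizer ((P : Subgroup G) : Set G)).relIndex (normalizer ((P : Subgroup G) : Set G)) ≤ 10 :=
    Nat.le_of_dvd (by norm_num) h1
  generalize (centralizer ((P : Subgroup G) : Set G)).relIndex (normalizer ((P : Subgroup G) : Set G)) = e at *
  interval_cases e <;> omega

end Cfsg.Agent.S0994
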