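import Cfsg.Statements.S0995
import Cfsg.Agent.Lib.Helper17.PrimeSylow
import Cfsg.Agent.Lib.Helper17.CosetAction
import Cfsg.Agent.Lib.Helper17.OrderCount
import Mathlib.Tactic.Ring
import Mathlib.Tactic.Linarith

set_option autoImplicit false
open Cfsg

namespace Cfsg.Agent.S0995

open Cfsg.Agent.Lib.Helper17 Subgroup

/-- A Sylow subgroup containing a self-centralizing element `z` of order `p` is `⟨z⟩`. -/
theorem sylow_eq_zpowers {G : Type*} [Group G] [Finite G] (p : ℕ) [hp : Fact p.Prime] (z : G)
    (hz : orderOf z = p) (hC : Subgroup.centralizer ({z} : Set G) = Subgroup.zpowers z)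
    (P : Sylow p G) (hzP : z ∈ (P : Subgroup G)) : (P : Subgroup G) = zpowers z := by
  have hz1 : z ≠ 1 := by
    intro h1
    rw [h1, orderOf_one] at hz
    exact hp.out.one_lt.ne hz
  have hcz : Nat.card (zpowers z) = p := by rw [Nat.card_zpowers, hz]
  have hnt : Nontrivial (P : Subgroup G) := ⟨⟨⟨z, hzP⟩, 1, fun h => hz1 (congrArg Subtype.val h)⟩⟩
  have hcen : Nontrivial (Subgroup.center (P : Subgroup G)) := P.2.center_nontrivial
  obtain ⟨⟨c, hc⟩, hc1⟩ := exists_ne (1 : Subgroup.center (P : Subgroup G))
  have hc1' : (c : G) ≠ 1 := by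
    intro h
    apply hc1
    apply Subtype.ext
    apply Subtype.ext
    exact h
  -- c commutes with everything in P
  have hcP : ∀ x ∈ (P : Subgroup G), x * (c : G) = (c : G) * x := by
    intro x hx
    have := (Subgroup.mem_center_iff.1 hc) ⟨x, hx⟩
    exact congrArg Subtype.val this
  -- c ∈ C(z) = ⟨z⟩
  have hcz' : (c : G) ∈ zpowers z := by
    rw [← hC, Subgroup.mem_centralizer_singleton_iff]
    exact (hcP z hzP).symm
  -- ⟨z⟩ = ⟨c⟩
  have hzc : zpowers z = zpowers (c : G) := eq_zpowers_of_card_prime _ hp.out hcz hcz' hc1'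
  apply le_antisymm
  · intro x hx
    rw [← hC, Subgroup.mem_centralizer_singleton_iff]
    have hzmem : z ∈ zpowers (c : G) := hzc ▸ Subgroup.mem_zpowers z
    obtain ⟨k, hk⟩ := Subgroup.mem_zpowers_iff.1 hzmem
    rw [← hk]
    have hcomm : Commute x (c : G) := hcP x hx
    exact (hcomm.zpow_right k).eq
  · rw [Subgroup.zpowers_le]; exact hzP

/-- The centralizer of a non-identity element of `⟨z⟩` is `⟨z⟩`. -/
theorem centralizer_eq_of_mem_zpowers {G : Type*} [Group G] [Finite G] (p : ℕ) [hp : Fact p.Prime]
    (z : G) (hz : orderOf z = p) (hC : Subgroup.centralizer ({z} : Set G) = Subgroup.zpowers z)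
    (w : G) (hw : w ∈ zpowers z) (hw1 : w ≠ 1) :
    Subgroup.centralizer ({w} : Set G) = zpowers z := by
  have hcz : Nat.card (zpowers z) = p := by rw [Nat.card_zpowers, hz]
  have hzw : zpowers z = zpowers w := eq_zpowers_of_card_prime _ hp.out hcz hw hw1
  ext x
  rw [Subgroup.mem_centralizer_singleton_iff]
  constructor
  · intro hx
    rw [← hC, Subgroup.mem_centralizer_singleton_iff]
    have hzmem : z ∈ zpowers w := hzw ▸ Subgroup.mem_zpowers z
    obtain ⟨k, hk⟩ := Subgroup.mem_zpowers_iff.1 hzmem
    rw [← hk]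
    have hcomm : Commute x w := hx
    exact (hcomm.zpow_right k).eq
  · intro hx
    rw [← hC, Subgroup.mem_centralizer_singleton_iff] at hx
    obtain ⟨k, hk⟩ := Subgroup.mem_zpowers_iff.1 hw
    rw [← hk]
    have hcomm : Commute x z := hx
    exact (hcomm.zpow_right k).eq

/-- Let G be a finite perfect group containing an element z of prime order p whose centralizer is the cyclic group it generates. Let t be the number of conjugacy classes of elements of order p. Then t divides p - 1, the number of Sylow p-subgroups has the form 1 + n * p, and |G| * t = (p - 1) * p * (1 + n * p). -/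
theorem result {G : Type*} [Group G] [Finite G] (hperf : commutator G = ⊤) (p : ℕ) [Fact p.Prime] (z : G) (hz : orderOf z = p) (hC : Subgroup.centralizer ({z} : Set G) = Subgroup.zpowers z) : ∃ n t : ℕ, t = Nat.card {c : ConjClasses G // ∃ g : G, ConjClasses.mk g = c ∧ orderOf g = p} ∧ t ∣ p - 1 ∧ Nat.card (Sylow p G) = 1 + n * p ∧ Nat.card G * t = (p - 1) * p * (1 + n * p) := by
  classical
  have hp : p.Prime := Fact.out
  have hcz : Nat.card (zpowers z) = p := by rw [Nat.card_zpowers, hz]
  obtain ⟨P, hzP⟩ := exists_sylow_mem_of_orderOf_eq z hz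
  have hPz : (P : Subgroup G) = zpowers z := sylow_eq_zpowers p z hz hC P hzP
  have hPcard : Nat.card (P : Subgroup G) = p := by rw [hPz, hcz]
  have hcards : ∀ Q : Sylow p G, Nat.card (Q : Subgroup G) = p := by
    intro Q
    rw [Q.card_eq_multiplicity, ← P.card_eq_multiplicity, hPcard]
  -- number of elements of order p
  have hcount := card_orderOf_eq_prime hcards
  -- class sizes
  have hclass : ∀ g0 : G, orderOf g0 = p → Nat.card {y : G // IsConj g0 y} * p = Nat.card G := by
    intro g0 hg0
    obtain ⟨Q, hQ⟩ := exists_sylow_mem_of_orderOf_eq g0 hg0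
    obtain ⟨h, hh⟩ := MulAction.exists_smul_eq G P Q
    rw [← hh, mem_smul_sylow_iff, hPz] at hQ
    set w := h⁻¹ * g0 * h with hw
    have hw1 : w ≠ 1 := by
      intro h1
      have : orderOf w = p := by
        have := orderOf_conj_eq h⁻¹ g0
        rw [inv_inv] at this
        rw [hw, this, hg0]
      rw [h1, orderOf_one] at this
      exact hp.one_lt.ne this
    have hCw := centralizer_eq_of_mem_zpowers p z hz hC w hQ hw1
    have hconj : IsConj g0 w := isConj_iff.2 ⟨h⁻¹, by rw [inv_inv]⟩
    have e1 : Nat.card {y : G // IsConj g0 y} = Nat.card {y : G // IsConj w y} := by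
      apply Nat.card_congr
      apply Equiv.subtypeEquivRight
      intro y
      exact ⟨fun hy => hconj.symm.trans hy, fun hy => hconj.trans hy⟩
    rw [e1, ← card_conj_mul_card_centralizer w, hCw, hcz]
  -- the set of classes
  set T := {c : ConjClasses G // ∃ g : G, ConjClasses.mk g = c ∧ orderOf g = p} with hT
  have := Fintype.ofFinite T
  let f : {g : G // orderOf g = p} → T := fun g => ⟨ConjClasses.mk g.1, g.1, rfl, g.2⟩
  have hfib : ∀ c : T, Nat.card {g : {g : G // orderOf g = p} // f g = c} * p = Nat.card G := by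
    rintro ⟨c, g0, rfl, hg0⟩
    rw [← hclass g0 hg0]
    congr 1
    apply Nat.card_congr
    refine ⟨fun g => ⟨g.1.1, ?_⟩, fun y => ⟨⟨y.1, ?_⟩, ?_⟩, ?_, ?_⟩
    · have := congrArg Subtype.val g.2
      simp only [f] at this
      rw [ConjClasses.mk_eq_mk_iff_isConj] at this
      exact this.symm
    · rw [orderOf_eq_of_isConj y.2, hg0]
    · apply Subtype.ext
      simp only [f]
      rw [ConjClasses.mk_eq_mk_iff_isConj]
      exact y.2.symm
    · intro g; rfl
    · intro y; rfl
  have hsum : Nat.card {g : G // orderOf g = p} =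
      ∑ c : T, Nat.card {g : {g : G // orderOf g = p} // f g = c} := by
    rw [← Nat.card_sigma]
    exact Nat.card_congr (Equiv.sigmaFiberEquiv f).symm
  have hmain : Nat.card G * Nat.card T = (p - 1) * p * Nat.card (Sylow p G) := by
    have h1 : Nat.card {g : G // orderOf g = p} * p = Nat.card T * Nat.card G := by
      rw [hsum, Finset.sum_mul]
      rw [Finset.sum_congr rfl (fun c _ => hfib c)]
      rw [Finset.sum_const, Finset.card_univ, smul_eq_mul, ← Nat.card_eq_fintype_card (α := T)]
    rw [hcount] at h1
    rw [mul_comm (Nat.card G), ← h1]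
    ring
  -- n_p = 1 + n * p
  have hmod : Nat.card (Sylow p G) % p = 1 % p := card_sylow_modEq_one p G
  rw [Nat.mod_eq_of_lt hp.one_lt] at hmod
  have hnp : Nat.card (Sylow p G) = 1 + (Nat.card (Sylow p G) / p) * p := by
    have := Nat.div_add_mod (Nat.card (Sylow p G)) p
    rw [hmod] at this
    linarith
  refine ⟨Nat.card (Sylow p G) / p, Nat.card T, rfl, ?_, hnp, ?_⟩
  · -- t ∣ p - 1
    have h1 := relIndex_cent_norm_dvd_pred_of_card_prime P hPcard
    -- centralizer of P equals P
    have hCP : centralizer ((P : Subgroup G) : Set G) = (P : Subgroup G) := by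
      apply le_antisymm
      · intro x hx
        rw [hPz, ← hC, Subgroup.mem_centralizer_singleton_iff]
        exact (hx z hzP).symm
      · have hc : IsCyclic (P : Subgroup G) := isCyclic_of_prime_card hPcard
        have hcomm : IsMulCommutative (P : Subgroup G) := ⟨⟨IsCyclic.commGroup.mul_comm⟩⟩
        exact Subgroup.le_centralizer _
    set m := (centralizer ((P : Subgroup G) : Set G)).relIndex (normalizer ((P : Subgroup G) : Set G)) with hm
    have hNcard : Nat.card (normalizer ((P : Subgroup G) : Set G)) = m * p := by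
      have e := Subgroup.relIndex_mul_relIndex (⊥ : Subgroup G) (centralizer ((P : Subgroup G) : Set G))
        (normalizer ((P : Subgroup G) : Set G)) bot_le (Subgroup.centralizer_le_normalizer _)
      rw [Subgroup.relIndex_bot_left, Subgroup.relIndex_bot_left, hCP, hPcard] at e
      rw [← e, hm, hCP, mul_comm]
    have hGN := card_sylow_mul_card_normalizer P
    rw [hNcard] at hGN
    -- |G| t = (p-1) p n_p and |G| = n_p m p
    have hnpos : 0 < Nat.card (Sylow p G) := Nat.card_pos
    have h2 : m * Nat.card T = p - 1 := by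
      have h3 : (Nat.card (Sylow p G) * p) * (m * Nat.card T) = (Nat.card (Sylow p G) * p) * (p - 1) := by
        calc (Nat.card (Sylow p G) * p) * (m * Nat.card T)
            = (Nat.card (Sylow p G) * (m * p)) * Nat.card T := by ring
          _ = Nat.card G * Nat.card T := by rw [hGN]
          _ = (p - 1) * p * Nat.card (Sylow p G) := hmain
          _ = (Nat.card (Sylow p G) * p) * (p - 1) := by ring
      exact Nat.eq_of_mul_eq_mul_left (Nat.mul_pos hnpos hp.pos) h3
    exact Dvd.intro_left _ h2
  · rw [← hnp]
    exact hmain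

end Cfsg.Agent.S0995
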