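import Cfsg.Statements.S0999
import Cfsg.Agent.Lib.Helper79.BrauerN.Main
import Cfsg.Agent.Lib.Helper79.BrauerN.Wrap

set_option autoImplicit false
open Cfsg

namespace Cfsg.Agent.S0999

/-- Let G be a non-cyclic finite simple group and p a prime divisor of its order with p^3 > |G|. Then p > 3 and G is isomorphic to the projective special linear group of dimension 2 over the field with p elements, or p - 1 is a power of 2 and G is isomorphic to that group over the field with p - 1 elements. -/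
theorem result {G : Type*} [Group G] [Finite G] [IsSimpleGroup G] (hG : ¬ IsCyclic G) (p : ℕ) (hp : p.Prime) (hdvd : p ∣ Nat.card G) (hbig : Nat.card G < p ^ 3) : (∃ (F : Type) (_ : Field F) (_ : Fintype F), Fintype.card F = p ∧ 3 < p ∧ Nonempty (G ≃* Matrix.ProjectiveSpecialLinearGroup (Fin 2) F)) ∨ (∃ (m : ℕ) (F : Type) (_ : Field F) (_ : Fintype F), Fintype.card F = 2 ^ m ∧ p = 2 ^ m + 1 ∧ 3 < p ∧ Nonempty (G ≃* Matrix.ProjectiveSpecialLinearGroup (Fin 2) F)) := by
  have hpf : Fact p.Prime := ⟨hp⟩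
  have hperf : commutator G = ⊤ :=
    Cfsg.Agent.Lib.Helper79.BrauerN.commutator_eq_top_of_simple_not_cyclic hG
  have P : Sylow p G := default
  have hP : ¬ (P : Subgroup G).Normal :=
    Cfsg.Agent.Lib.Helper79.BrauerN.sylow_not_normal_of_simple_not_cyclic hG p hdvd P
  have hK : ∀ K : Subgroup G, K.Normal → (Nat.card K).Coprime p → K = ⊥ := by
    intro K hKn hcop
    rcases hKn.eq_bot_or_eq_top with h | h
    · exact h
    · exfalso
      rw [h, Subgroup.card_top] at hcop
      have := Nat.Coprime.eq_one_of_dvd hcop.symm hdvd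
      exact hp.one_lt.ne' this
  rcases Cfsg.Agent.Lib.Helper79.BrauerN.core hperf p hdvd hbig P hP hK with
    ⟨hp3, ⟨e⟩⟩ | ⟨hp3, m, F, hF1, hF2, hcard, hpm, ⟨e⟩⟩
  · left
    exact ⟨ZMod p, inferInstance, inferInstance, ZMod.card p, hp3, ⟨e⟩⟩
  · right
    have hchar : CharP F 2 := Cfsg.Agent.Lib.Helper79.BrauerN.charP_two_of_card hcard
    exact ⟨m, F, hF1, hF2, hcard, hpm, hp3,
      ⟨e.trans (Cfsg.Agent.Lib.Helper79.BrauerN.pslEquivSLOfCharTwo F).symm⟩⟩

end Cfsg.Agent.S0999
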