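import Cfsg.Statements.S0997
import Cfsg.Agent.Lib.Helper17.BT.Basic
import Cfsg.Agent.Lib.Helper17.SylowCard
import Cfsg.Agent.Lib.Helper54.BTArith
import Cfsg.Agent.Lib.Helper62.BTCount
import Cfsg.Agent.Lib.Helper12.BTNV
import Cfsg.Agent.Lib.Helper14.BTYBlock
import Cfsg.Agent.Lib.Helper97.BTToolOne
import Cfsg.Agent.Lib.Helper62.BTTool2
import Cfsg.Agent.Lib.Helper78.BTNorm
import Cfsg.Agent.Lib.Helper78.BTArith97
import Cfsg.Agent.Lib.Helper92.BT97EndA
import Cfsg.Agent.Lib.Helper92.BT97EndB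
import Cfsg.Agent.Lib.Helper92.BT97TypesB
import Cfsg.Agent.S0999

set_option autoImplicit false
set_option maxHeartbeats 1000000
open Cfsg

namespace Cfsg.Agent.S0997

open Cfsg.Agent.Lib.Helper17.BT
open Cfsg.Agent.Lib.Helper78.BTArith97 Cfsg.Agent.Lib.Helper78.BTNorm Cfsg.Agent.Lib.Helper92.BT97

/-- The exponent of `q` in `q ^ b * m`, `q ∤ m`. -/
theorem factorization_of_eq {n q b m : ℕ} (hq : q.Prime) (h : n = q ^ b * m) (hm : ¬ q ∣ m) :
    n.factorization q = b := by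
  subst h
  have hm0 : m ≠ 0 := fun h0 => hm (h0 ▸ dvd_zero q)
  rw [Nat.factorization_mul (pow_ne_zero _ hq.ne_zero) hm0, Finsupp.add_apply,
    Nat.Prime.factorization_pow hq, Finsupp.single_eq_same,
    Nat.factorization_eq_zero_of_not_dvd hm, add_zero]

theorem two_pow_le_of_dvd_int {b : ℕ} {c : ℤ} (hc : c ≠ 0) (h : (2 : ℤ) ^ b ∣ c) :
    2 ^ b ≤ c.natAbs := by
  have h1 := Int.natAbs_dvd_natAbs.2 h
  rw [Int.natAbs_pow] at h1
  exact Nat.le_of_dvd (Int.natAbs_pos.2 hc) h1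

section pack

variable {G : Type*} [Group G] [Finite G] {p : ℕ} [Fact p.Prime] {M : Ideal Cfsg.AlgInt}
  {P : Sylow p G} {e t : ℕ} {ε : ℤ} {a : IrrCharacter G → ℤ} {X Y : Finset (IrrCharacter G)}

/-- The information from the principal `2`-block. -/
theorem two_pack (D : BTData p M P e t ε a X Y) (hM : IsPModular p M) (hp2 : p ≠ 2) (b : ℕ)
    (hb1 : 1 ≤ b) (y : ℕ) (hy : y = if ε = 1 then e else p - e) (hyodd : ¬ 2 ∣ y)
    (hcard : Nat.card G = p * 2 ^ b * y) (triv : IrrCharacter G) (htrivX : triv ∈ X)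
    (htriv : (triv : G → ℂ) = fun _ => 1) (hZ : Subgroup.center G = ⊥)
    (hfaith : ∀ χ : IrrCharacter G, χ ≠ triv → ∀ g : G,
      (χ : G → ℂ) g = (χ : G → ℂ) 1 → g = 1) :
    ∃ (S : Finset (IrrCharacter G)) (δ : ℤ), S ⊆ X ∧ triv ∈ S ∧ (δ = 0 ∨ δ = 1) ∧
      (∀ χ ∈ S, χ ≠ triv → ∀ n : ℕ, charDegree (χ : G → ℂ) ≠ 2 ^ n) ∧
      (2 : ℤ) ^ b ∣ (∑ χ ∈ S, a χ * (charDegree (χ : G → ℂ) : ℤ) - δ * (ε * (y : ℤ))) ∧
      (∑ χ ∈ S, a χ * (charDegree (χ : G → ℂ) : ℤ) - δ * (ε * (y : ℤ))) ^ 2 ≤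
        ((p * Nat.card G : ℕ) : ℤ) := by
  classical
  have hp : p.Prime := Fact.out
  haveI : Fact (Nat.Prime 2) := ⟨Nat.prime_two⟩
  obtain ⟨M2, hM2⟩ := Cfsg.Agent.Lib.Helper75.exists_isPModular 2 Nat.prime_two
  have hB2 : IsPBlock M2 (principalBlock M2 G) :=
    ⟨⟨fun _ => 1, Cfsg.Agent.Lib.Helper78.isIrrCharacter_one⟩, rfl⟩
  have htrivB2 : triv ∈ principalBlock M2 G := by
    have h := Cfsg.Agent.Lib.Helper74.one_mem_principalBlock (p := 2) hM2 G
    have heq : ∀ (hh : IsIrrCharacter G (fun _ : G => (1 : ℂ))),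
        triv = (⟨fun _ => 1, hh⟩ : IrrCharacter G) := fun hh => Subtype.ext htriv
    rw [heq _]; exact h
  have h2dvd : 2 ∣ Nat.card G := by
    rw [hcard]
    exact Dvd.dvd.mul_right (Dvd.dvd.mul_left (dvd_pow_self 2 (by omega)) _) _
  have hk : Nat.card G = p * (if ε = 1 then e else p - e) * (2 * 2 ^ (b - 1)) := by
    rw [← hy, hcard, ← pow_succ']
    have : b - 1 + 1 = b := by omega
    rw [this]; ring
  have hY := Cfsg.Agent.Lib.Helper14.BTY.bt_Y_sameBlock D 2 M2 hM2 (2 ^ (b - 1)) hk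
    (principalBlock M2 G) hB2
  have hb : (Nat.card G).factorization 2 = b := by
    apply factorization_of_eq Nat.prime_two (m := p * y) (by rw [hcard]; ring)
    intro h2
    rcases (Nat.Prime.dvd_mul Nat.prime_two).1 h2 with h3 | h3
    · exact hp2 ((Nat.prime_dvd_prime_iff_eq Nat.prime_two hp).1 h3).symm
    · exact hyodd h3
  have hdvd := Cfsg.Agent.Lib.Helper97.BTTool.bt_block_sum_dvd D hM 2 hp2 M2 hM2 b hb
    (principalBlock M2 G) hB2 hY
  have hnorm := bt_block_sum_sq_le D (principalBlock M2 G) hY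
  rw [← hy] at hdvd hnorm
  rw [Nat.cast_ofNat] at hdvd
  have hpowS : ∀ χ ∈ X.filter (fun χ => χ ∈ principalBlock M2 G), χ ≠ triv → ∀ n : ℕ,
      charDegree (χ : G → ℂ) ≠ 2 ^ n := by
    intro χ hχ hne n hn
    have hχB := (Finset.mem_filter.1 hχ).2
    exact Cfsg.Agent.Lib.Helper62.BT.not_mem_principalBlock_of_prime_pow_degree 2 M2 hM2 hZ h2dvd χ
      (hfaith χ hne) n hn hχB
  by_cases hc : ∀ θ ∈ Y, θ ∈ principalBlock M2 G
  · rw [if_pos hc] at hdvd hnorm
    refine ⟨X.filter (fun χ => χ ∈ principalBlock M2 G), 1, Finset.filter_subset _ _,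
      Finset.mem_filter.2 ⟨htrivX, htrivB2⟩, Or.inr rfl, hpowS, ?_, ?_⟩
    · rw [one_mul]; convert hdvd using 3
    · rw [one_mul]; convert hnorm using 4
  · rw [if_neg hc] at hdvd hnorm
    refine ⟨X.filter (fun χ => χ ∈ principalBlock M2 G), 0, Finset.filter_subset _ _,
      Finset.mem_filter.2 ⟨htrivX, htrivB2⟩, Or.inl rfl, hpowS, ?_, ?_⟩
    · rw [zero_mul]; convert hdvd using 3
    · rw [zero_mul]; convert hnorm using 4

end pack

/-- The order of `G` is less than `p ^ 3` and `p = 2 ^ m ± 1`. -/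
theorem main {G : Type*} [Group G] [Finite G] [IsSimpleGroup G] (hG : ¬ IsCyclic G)
    (p q b g₀ : ℕ) (hp : p.Prime) (hq : q.Prime) (hpq : p ≠ q)
    (hG' : Nat.card G = p * q ^ b * g₀) (hg : g₀ < p - 1) (hqg : ¬ q ∣ g₀) :
    Nat.card G < p ^ 3 ∧ ∃ m : ℕ, p = 2 ^ m + 1 ∨ p = 2 ^ m - 1 := by
  classical
  haveI : Fact p.Prime := ⟨hp⟩
  obtain ⟨M, P, e, t, ε, a, X, Y, triv, hM, D, htrivX, htriv, hatriv, hdtriv, hg_eq, hXq, hXdvd,
    hXmod, hsum, hp2g, hfaith, hchar1, hlin, hperf, hZ⟩ := bt_basic hG p q b g₀ hq hpq hG' hg hqg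
  have hsplit : ∑ χ ∈ X, a χ * (charDegree (χ : G → ℂ) : ℤ) =
      1 + ∑ χ ∈ X.erase triv, a χ * (charDegree (χ : G → ℂ) : ℤ) := by
    rw [← Finset.add_sum_erase X _ htrivX, hatriv, hdtriv]
    simp
  have hqsum : (q : ℤ) ∣ ∑ χ ∈ X.erase triv, a χ * (charDegree (χ : G → ℂ) : ℤ) := by
    apply Finset.dvd_sum
    intro χ hχ
    obtain ⟨hne, hχX⟩ := Finset.mem_erase.mp hχ
    exact Dvd.dvd.mul_left (Int.natCast_dvd_natCast.2 (hXq χ hχX hne)) _
  have he2 := D.he
  have ht2' := D.ht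
  have hpet := D.hpet
  rcases D.hε with hε | hε
  · -- `ε = 1`
    rw [if_pos hε] at hg_eq
    subst hg_eq
    have ht2 : t = 2 := by
      have h3 : g₀ * t ≤ g₀ * 2 := by omega
      have := Nat.le_of_mul_le_mul_left h3 (by omega : 0 < g₀)
      omega
    have hpe : p = 2 * g₀ + 1 := by rw [ht2] at hpet; omega
    -- `q ∣ g₀ - 1`, so `g₀ ≥ 3`
    have hq1 : (q : ℤ) ∣ (g₀ : ℤ) - 1 := by
      have h1 : (g₀ : ℤ) - 1 = ∑ χ ∈ X.erase triv, a χ * (charDegree (χ : G → ℂ) : ℤ) := by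
        rw [hε, one_mul, hsplit] at hsum
        linarith
      rw [h1]; exact hqsum
    have he3 : 3 ≤ g₀ := by
      by_contra hcon
      have : g₀ = 2 := by omega
      rw [this] at hq1
      have h1 : (q : ℤ) ∣ 1 := by simpa using hq1
      have := Int.natCast_dvd_natCast.1 (by simpa using h1 : ((q : ℕ) : ℤ) ∣ ((1 : ℕ) : ℤ))
      exact hq.one_lt.ne' (Nat.dvd_one.1 this)
    have hp7 : 7 ≤ p := by omega
    obtain ⟨hvan, hsumP, hnormP⟩ := Cfsg.Agent.Lib.Helper12.BT.bt_nv D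
    obtain ⟨i₂, hi₂, hai₂, hi₂1⟩ := Cfsg.Agent.Lib.Helper62.BT.bt_exists_degree_succ D hε ht2 hp7
      (fun χ _ h1 => by
        have h2 : charDegree (χ : G → ℂ) = 1 := by
          have : ((charDegree (χ : G → ℂ) : ℕ) : ℂ) = ((1 : ℕ) : ℂ) := by
            rw [← hchar1, h1]; simp
          exact_mod_cast this
        rw [hlin χ h2, htriv]) hvan hsumP hnormP
    have hdi₂ : charDegree (i₂ : G → ℂ) = p + 1 := by
      have : ((charDegree (i₂ : G → ℂ) : ℕ) : ℂ) = ((p + 1 : ℕ) : ℂ) := by rw [← hchar1, hi₂1]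
      exact_mod_cast this
    have hsum' : (g₀ : ℤ) = ∑ χ ∈ X, a χ * (charDegree (χ : G → ℂ) : ℤ) := by
      rw [← hsum, hε, one_mul]
    obtain ⟨hq2, m, hm2, hem, hpm, hmb⟩ :=
      arith_plus_q2 X a (fun χ => charDegree (χ : G → ℂ)) triv p q b g₀ hq he2 hpe htrivX hatriv
        hdtriv hXq hsum' i₂ hi₂ hdi₂ (hXdvd i₂ hi₂)
    subst hq2
    have hpow : 4 ≤ 2 ^ m := by
      calc 4 = 2 ^ 2 := by norm_num
        _ ≤ 2 ^ m := Nat.pow_le_pow_right (by norm_num) hm2
    have hyodd : ¬ 2 ∣ g₀ := by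
      rw [hem]
      have : 2 ∣ 2 ^ m := dvd_pow_self 2 (by omega)
      omega
    obtain ⟨S, δ, hSX, htrivS, hδ, hSpow, hSdvd, -⟩ := two_pack D hM hpq b (by omega) g₀
      (by rw [if_pos hε]) hyodd hG' triv htrivX htriv hZ hfaith
    have hble : b ≤ m + 1 := by
      by_contra hcon
      push Not at hcon
      apply end_A S a (fun χ => charDegree (χ : G → ℂ)) triv m b δ hm2 (by omega) hδ htrivS
        hatriv hdtriv
      · intro χ hχ hne
        have hχX := hSX hχ
        have h1 := hXdvd χ hχX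
        have h2 := hXmod χ hχX
        rw [hem] at h1
        rw [hpm] at h2
        rcases types_A m b (charDegree (χ : G → ℂ)) (a χ) hm2 (D.haX χ hχX) h1 h2 with
          ⟨-, k, hk⟩ | ⟨ha, hk⟩
        · exact absurd hk (hSpow χ hχ hne _)
        · exact ⟨ha, hk⟩
      · rw [← hem, ← D.hXcard]
        exact Finset.card_le_card hSX
      · rw [hε, one_mul, hem] at hSdvd
        exact hSdvd
    have hb : b = m + 1 := by omega
    refine ⟨?_, m + 1, Or.inr hpm⟩
    rw [hG', hb, hem, hpm]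
    exact card_lt_A m (by omega)
  · -- `ε = -1`
    have hne1 : ε ≠ 1 := by rw [hε]; norm_num
    rw [if_neg hne1] at hg_eq
    have hedvd : e ∣ p * q ^ b * g₀ := by
      have h1 : Nat.card (Subgroup.normalizer ((P : Subgroup G) : Set G)) ∣ Nat.card G :=
        Subgroup.card_subgroup_dvd_card _
      rw [D.hNcard, hG'] at h1
      exact (Dvd.intro_left p rfl).trans h1
    have hsum' : -(g₀ : ℤ) = ∑ χ ∈ X, a χ * (charDegree (χ : G → ℂ) : ℤ) := by
      rw [← hsum, hε]; ring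
    obtain ⟨hq2, α, hα, heα, hαt⟩ :=
      Cfsg.Agent.Lib.Helper54.BTArith.arith_minus X a (fun χ => charDegree (χ : G → ℂ)) triv
        p q b e t g₀ hp hq hpq D.hpet D.he D.ht hg_eq hqg hedvd htrivX hatriv hdtriv D.haX hXq
        hXdvd hXmod hsum' D.hXcard
    subst hq2
    have hp5 : 5 ≤ p := by
      have : e * 2 ≤ e * t := Nat.mul_le_mul_left e ht2'
      omega
    have hpodd : ¬ 2 ∣ p := by
      intro h
      have := (Nat.prime_dvd_prime_iff_eq Nat.prime_two hp).1 h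
      omega
    by_cases hα1 : α = 1
    · -- `e = 2`
      have he : e = 2 := by rw [heα, hα1]; norm_num
      rw [he] at hg_eq
      subst hg_eq
      obtain ⟨i₂, hi₂, hi₂t, hdi₂, hai₂, hXeq, m, hpm, hmb⟩ :=
        arith_B1 X a (fun χ => charDegree (χ : G → ℂ)) triv p b hp5 htrivX hatriv hdtriv D.haX
          hXdvd hsum' (by rw [D.hXcard, he])
      have hm2 : 2 ≤ m := by
        by_contra hcon
        push Not at hcon
        interval_cases m <;> omega
      have hyodd : ¬ 2 ∣ p - 2 := by omega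
      obtain ⟨S, δ, hSX, htrivS, hδ, hSpow, hSdvd, -⟩ := two_pack D hM hpq b (by omega) (p - 2)
        (by rw [if_neg hne1, he]) hyodd hG' triv htrivX htriv hZ hfaith
      have hS : S = {triv} := by
        ext χ
        rw [Finset.mem_singleton]
        constructor
        · intro hχ
          have hχX := hSX hχ
          rw [hXeq, Finset.mem_insert, Finset.mem_singleton] at hχX
          rcases hχX with h | h
          · exact h
          · exfalso
            rw [h] at hχ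
            exact hSpow i₂ hχ hi₂t m (by rw [hdi₂, hpm])
        · intro h
          rw [h]; exact htrivS
      rw [hS, Finset.sum_singleton, hatriv, hdtriv, hε] at hSdvd
      have hT : 2 ^ b ≤ p - 1 := by
        rcases hδ with h | h <;> rw [h] at hSdvd
        · have := two_pow_le_of_dvd_int (by norm_num) hSdvd
          have h1 : ((1 : ℤ) * ((1 : ℕ) : ℤ) - 0 * (-1 * ((p - 2 : ℕ) : ℤ))).natAbs = 1 := by
            simp
          omega
        · have h0 : (1 : ℤ) * ((1 : ℕ) : ℤ) - 1 * (-1 * ((p - 2 : ℕ) : ℤ)) = ((p - 1 : ℕ) : ℤ) := by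
            push_cast [Nat.cast_sub (by omega : 2 ≤ p), Nat.cast_sub (by omega : 1 ≤ p)]
            ring
          rw [h0] at hSdvd
          have := two_pow_le_of_dvd_int (by
            have : 0 < p - 1 := by omega
            exact_mod_cast this.ne') hSdvd
          simpa using this
      refine ⟨?_, m, Or.inl (by omega)⟩
      rw [hG']
      obtain ⟨u, rfl⟩ : ∃ u, p = u + 2 := ⟨p - 2, by omega⟩
      have h1 : 2 ^ b ≤ u + 1 := by simpa using hT
      have h2 : u + 2 - 2 = u := by omega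
      rw [h2]
      calc (u + 2) * 2 ^ b * u ≤ (u + 2) * (u + 1) * u :=
            Nat.mul_le_mul_right u (Nat.mul_le_mul_left (u + 2) h1)
        _ < (u + 2) ^ 3 := by nlinarith
    · -- `t = 2`, `α ≥ 2`
      have hα2 : 2 ≤ α := by omega
      have ht2 : t = 2 := by
        rcases hαt with h | h
        · exact absurd h hα1
        · exact h
      have hpα : p = 2 ^ (α + 1) + 1 := by
        rw [hpet, ht2, heα, pow_succ]
      have hgα : g₀ = 2 ^ α + 1 := by
        rw [hg_eq, hpα, heα, pow_succ]; omega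
      have hpow : 4 ≤ 2 ^ α := by
        calc 4 = 2 ^ 2 := by norm_num
          _ ≤ 2 ^ α := Nat.pow_le_pow_right (by norm_num) hα2
      have hyodd : ¬ 2 ∣ g₀ := by
        rw [hgα]
        have : 2 ∣ 2 ^ α := dvd_pow_self 2 (by omega)
        omega
      -- `b ≥ 1`
      have hb1 : 1 ≤ b := by
        by_contra hcon
        have hb0 : b = 0 := by omega
        rw [hb0, pow_zero, mul_one] at hedvd
        have h2e : 2 ∣ e := by rw [heα]; exact dvd_pow_self 2 (by omega)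
        have := h2e.trans hedvd
        rcases (Nat.Prime.dvd_mul Nat.prime_two).1 this with h | h
        · exact hpodd h
        · exact hyodd h
      obtain ⟨S, δ, hSX, htrivS, hδ, hSpow, hSdvd, hSnorm⟩ := two_pack D hM hpq b hb1 g₀
        (by rw [if_neg hne1, hg_eq]) hyodd hG' triv htrivX htriv hZ hfaith
      have hStype : ∀ χ ∈ S, χ ≠ triv →
          ∃ k : ℕ, charDegree (χ : G → ℂ) = 2 ^ (k * (α + 1) + 1) * (2 ^ α + 1) := by
        intro χ hχ hne
        have hχX := hSX hχ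
        have h1 := hXdvd χ hχX
        have h2 := hXmod χ hχX
        rw [hgα] at h1
        rw [hpα] at h2
        rcases types_B α b (charDegree (χ : G → ℂ)) (a χ) hα (D.haX χ hχX) h1 h2 with
          ⟨k, hk, -⟩ | ⟨k, hk, -⟩
        · exact absurd hk (hSpow χ hχ hne _)
        · exact ⟨k, hk⟩
      have hS₀ := S0_ne_zero_B S a (fun χ => charDegree (χ : G → ℂ)) triv α δ ε hα htrivS hatriv
        hdtriv hStype
      rw [hgα] at hSdvd hSnorm
      have hn : Nat.card (Sylow p G) * 2 ^ α = 2 ^ b * (2 ^ α + 1) := by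
        have h1 := Cfsg.Agent.Lib.Helper17.card_sylow_mul_card_normalizer P
        rw [D.hNcard, hG', heα, hgα] at h1
        have h2 : p * (Nat.card (Sylow p G) * 2 ^ α) = p * (2 ^ b * (2 ^ α + 1)) := by
          calc p * (Nat.card (Sylow p G) * 2 ^ α) = Nat.card (Sylow p G) * (p * 2 ^ α) := by ring
            _ = p * 2 ^ b * (2 ^ α + 1) := h1
            _ = p * (2 ^ b * (2 ^ α + 1)) := by ring
        exact Nat.eq_of_mul_eq_mul_left (by omega) h2
      have hn1 : Nat.card (Sylow p G) ≡ 1 [MOD 2 ^ (α + 1) + 1] := by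
        rw [← hpα]
        exact card_sylow_modEq_one p G
      have hb : b = α + 1 := by
        apply end_B α b (Nat.card (Sylow p G)) _ hα2 hS₀ hSdvd _ hn hn1
        rw [hG', hpα, hgα] at hSnorm
        exact hSnorm
      refine ⟨?_, α + 1, Or.inl hpα⟩
      rw [hG', hb, hgα, hpα]
      exact card_lt_B α hα

/-- Brauer–Tuan. -/
theorem result {G : Type*} [Group G] [Finite G] [IsSimpleGroup G] (hG : ¬ IsCyclic G) (p q b g₀ : ℕ) (hp : p.Prime) (hq : q.Prime) (hpq : p ≠ q) (hG' : Nat.card G = p * q ^ b * g₀) (hg : g₀ < p - 1) : (∃ (m : ℕ) (F : Type) (_ : Field F) (_ : Fintype F), Fintype.card F = p ∧ (p = 2 ^ m + 1 ∨ p = 2 ^ m - 1) ∧ Nonempty (G ≃* Matrix.ProjectiveSpecialLinearGroup (Fin 2) F)) ∨ (∃ (m : ℕ) (F : Type) (_ : Field F) (_ : Fintype F), Fintype.card F = 2 ^ m ∧ p = 2 ^ m + 1 ∧ 3 < p ∧ Nonempty (G ≃* Matrix.ProjectiveSpecialLinearGroup (Fin 2) F)) := by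
  have hg₀ : g₀ ≠ 0 := by
    intro h
    rw [h, mul_zero] at hG'
    have : 0 < Nat.card G := Nat.card_pos
    omega
  obtain ⟨c, g₁, hqg₁, hg₁⟩ := Nat.exists_eq_pow_mul_and_not_dvd hg₀ q hq.ne_one
  have hcard : Nat.card G = p * q ^ (b + c) * g₁ := by
    rw [hG', hg₁, pow_add]; ring
  have hg₁le : g₁ ≤ g₀ := by
    rw [hg₁]
    exact Nat.le_mul_of_pos_left g₁ (Nat.pos_of_ne_zero (pow_ne_zero _ hq.ne_zero))
  obtain ⟨hlt, m, hm⟩ := main hG p q (b + c) g₁ hp hq hpq hcard (by omega) hqg₁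
  have hdvd : p ∣ Nat.card G := by rw [hG', mul_assoc]; exact Dvd.intro _ rfl
  rcases Cfsg.Agent.S0999.result hG p hp hdvd hlt with ⟨F, i1, i2, hF, -, hiso⟩ | h
  · left
    exact ⟨m, F, i1, i2, hF, hm, hiso⟩
  · right
    exact h

end Cfsg.Agent.S0997
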