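import Cfsg.Statements.S0998
import Cfsg.Agent.Lib.Helper17.BT.Basic
import Cfsg.Agent.Lib.Helper54.BTArith
import Cfsg.Agent.Lib.Helper62.BTCount
import Cfsg.Agent.Lib.Helper12.BTNV
import Cfsg.Agent.Lib.Helper14.BTYBlock
import Cfsg.Agent.Lib.Helper97.BTToolOne
import Cfsg.Agent.Lib.Helper62.BTTool2
import Cfsg.Agent.S0494
import Cfsg.Agent.S0495
import Cfsg.Agent.S0253

set_option autoImplicit false
set_option maxHeartbeats 1000000
open Cfsg

namespace Cfsg.Agent.S0998

open Cfsg.Agent.Lib.Helper17.BT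

/-- The exponent of `q` in `q ^ b * m`, `q ∤ m`. -/
theorem factorization_of_eq {n q b m : ℕ} (hq : q.Prime) (h : n = q ^ b * m) (hm : ¬ q ∣ m) :
    n.factorization q = b := by
  subst h
  have hm0 : m ≠ 0 := fun h0 => hm (h0 ▸ dvd_zero q)
  rw [Nat.factorization_mul (pow_ne_zero _ hq.ne_zero) hm0, Finsupp.add_apply,
    Nat.Prime.factorization_pow hq, Finsupp.single_eq_same,
    Nat.factorization_eq_zero_of_not_dvd hm, add_zero]

/-- A non-cyclic simple group does not have order `2 m` with `m` odd. -/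
theorem not_card_eq_two_mul_odd {G : Type*} [Group G] [Finite G] [IsSimpleGroup G]
    (hG : ¬ IsCyclic G) (m : ℕ) (hm : ¬ 2 ∣ m) (hcard : Nat.card G = 2 * m) : False := by
  have hnc : ¬ IsMulCommutative G := fun h => hG (by
    let _ : CommGroup G := { (inferInstance : Group G) with mul_comm := h.is_comm.comm }
    exact IsSimpleGroup.isCyclic)
  haveI : Fact (Nat.Prime 2) := ⟨Nat.prime_two⟩
  obtain ⟨P⟩ := (Sylow.nonempty : Nonempty (Sylow 2 G))
  have hPcard : Nat.card (P : Subgroup G) = 2 := by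
    have := Cfsg.Agent.Lib.Helper17.sylow_card_of_card_eq P (k := 1) (m := m)
      (by rw [hcard, pow_one]) hm
    rwa [pow_one] at this
  have h1 := Cfsg.Agent.Lib.Helper17.relIndex_cent_norm_dvd_pred_of_card_prime P hPcard
  have h2 := Cfsg.Agent.Lib.Helper17.relIndex_cent_norm_ne_one_of_simple hnc P
    (by rw [hcard]; exact Dvd.intro _ rfl)
  exact h2 (Nat.dvd_one.1 h1)

theorem two_pow_le_of_dvd_int {b : ℕ} {c : ℤ} (hc : c ≠ 0) (h : (2 : ℤ) ^ b ∣ c) :
    2 ^ b ≤ c.natAbs := by
  have h1 := Int.natAbs_dvd_natAbs.2 h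
  rw [Int.natAbs_pow] at h1
  exact Nat.le_of_dvd (Int.natAbs_pos.2 hc) h1

theorem le_of_two_pow_le {b n : ℕ} (h : 2 ^ b ≤ 2 ^ n) : b ≤ n :=
  (Nat.pow_le_pow_iff_right (by norm_num)).1 h

/-- The order of `G` is `60` or `168` (case `r < p`). -/
theorem card_of_lt {G : Type*} [Group G] [Finite G] [IsSimpleGroup G] (hG : ¬ IsCyclic G)
    (p q r b : ℕ) (hp : p.Prime) (hq : q.Prime) (hr : r.Prime) (hpq : p ≠ q) (hpr : p ≠ r)
    (hqr : q ≠ r) (hG' : Nat.card G = p * r * q ^ b) (hrp : r < p) :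
    Nat.card G = 60 ∨ Nat.card G = 168 := by
  classical
  haveI : Fact p.Prime := ⟨hp⟩
  have hr2 : 2 ≤ r := hr.two_le
  have hq2 : 2 ≤ q := hq.two_le
  -- `r = 2` is impossible
  have hrne2 : r ≠ 2 := by
    intro h
    apply not_card_eq_two_mul_odd hG (p * q ^ b) _ (by rw [hG', h]; ring)
    intro h2
    rcases (Nat.Prime.dvd_mul Nat.prime_two).1 h2 with h3 | h3
    · have := (Nat.prime_dvd_prime_iff_eq Nat.prime_two hp).1 h3
      omega
    · have := (Nat.prime_dvd_prime_iff_eq Nat.prime_two hq).1 (Nat.prime_two.dvd_of_dvd_pow h3)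
      omega
  have hr3 : 3 ≤ r := by omega
  have hg : r < p - 1 := by
    have : r ≠ p - 1 := by
      intro h
      -- `r` and `r + 1` both prime and `r ≥ 3`
      have hp' : p = r + 1 := by omega
      rcases Nat.Prime.eq_two_or_odd hr with h2 | h2
      · omega
      · rcases Nat.Prime.eq_two_or_odd hp with h3 | h3
        · omega
        · omega
    omega
  have hp5 : 5 ≤ p := by omega
  have hcard' : Nat.card G = p * q ^ b * r := by rw [hG']; ring
  have hqr' : ¬ q ∣ r := fun h => hqr ((Nat.prime_dvd_prime_iff_eq hq hr).1 h)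
  obtain ⟨M, P, e, t, ε, a, X, Y, triv, hM, D, htrivX, htriv, hatriv, hdtriv, hr_eq, hXq, hXdvd,
    hXmod, hsum, hp2r, hfaith, hchar1, hlin, hperf, hZ⟩ := bt_basic hG p q b r hq hpq hcard' hg hqr'
  -- the `2`-modular data (used once `q = 2` is known)
  obtain ⟨M2, hM2⟩ := Cfsg.Agent.Lib.Helper75.exists_isPModular 2 Nat.prime_two
  have hB2 : IsPBlock M2 (principalBlock M2 G) :=
    ⟨⟨fun _ => 1, Cfsg.Agent.Lib.Helper78.isIrrCharacter_one⟩, rfl⟩
  have htrivB2 : triv ∈ principalBlock M2 G := by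
    have h := Cfsg.Agent.Lib.Helper74.one_mem_principalBlock (p := 2) hM2 G
    have heq : ∀ (hh : IsIrrCharacter G (fun _ : G => (1 : ℂ))),
        triv = (⟨fun _ => 1, hh⟩ : IrrCharacter G) := fun hh => Subtype.ext htriv
    rw [heq _]; exact h
  rcases D.hε with hε | hε
  · -- `ε = 1`
    rw [if_pos hε] at hr_eq
    have ht2 : t = 2 := by
      have h1 := D.hpet
      have h2 := D.ht
      have h3 : e * t ≤ e * 2 := by
        have h4 := hp2r
        rw [hr_eq] at h4
        omega
      have := Nat.le_of_mul_le_mul_left h3 (by omega : 0 < e)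
      omega
    have hpr' : p = 2 * r + 1 := by
      have h1 := D.hpet
      rw [ht2, ← hr_eq] at h1
      omega
    have hp7 : 7 ≤ p := by omega
    obtain ⟨hvan, hsumP, hnormP⟩ := Cfsg.Agent.Lib.Helper12.BT.bt_nv D
    obtain ⟨i₂, hi₂, hai₂, hi₂1⟩ := Cfsg.Agent.Lib.Helper62.BT.bt_exists_degree_succ D hε ht2 hp7
      (fun χ _ h1 => by
        have h2 : charDegree (χ : G → ℂ) = 1 := by
          have : ((charDegree (χ : G → ℂ) : ℕ) : ℂ) = ((1 : ℕ) : ℂ) := by
            rw [← hchar1, h1]; simp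
          exact_mod_cast this
        rw [hlin χ h2, htriv]) hvan hsumP hnormP
    have hdi₂ : charDegree (i₂ : G → ℂ) = p + 1 := by
      have : ((charDegree (i₂ : G → ℂ) : ℕ) : ℂ) = ((p + 1 : ℕ) : ℂ) := by rw [← hchar1, hi₂1]
      exact_mod_cast this
    have hsum' : (r : ℤ) = ∑ χ ∈ X, a χ * (charDegree (χ : G → ℂ) : ℤ) := by
      rw [← hsum, hε, one_mul]
    have hXcard' : X.card = r := by rw [D.hXcard, hr_eq]
    obtain ⟨hq2', hp7', hr3', i₃, hi₃, hi₃t, hi₃2, hdi₃, hai₃, hXeq⟩ :=
      Cfsg.Agent.Lib.Helper54.BTArith.arith_plus_prime X a (fun χ => charDegree (χ : G → ℂ)) triv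
        p q b r hp hq hr hr3 hpr' hqr hpq.symm htrivX hatriv hdtriv D.haX hXdvd hXmod hsum' hXcard'
        i₂ hi₂ hai₂ hdi₂
    subst hq2'
    haveI : Fact (Nat.Prime 2) := ⟨Nat.prime_two⟩
    have hi₂t : i₂ ≠ triv := by
      intro h
      rw [h, hdtriv] at hdi₂
      omega
    -- `b ≥ 3`
    have hb3 : 3 ≤ b := by
      have h1 := hXdvd i₂ hi₂
      rw [hdi₂, hp7', hr3'] at h1
      by_contra hcon
      push Not at hcon
      interval_cases b <;> omega
    have h2dvd : 2 ∣ Nat.card G := by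
      rw [hG']
      exact Dvd.dvd.mul_left (dvd_pow_self 2 (by omega)) _
    have hi₂B : i₂ ∉ principalBlock M2 G :=
      Cfsg.Agent.Lib.Helper62.BT.not_mem_principalBlock_of_prime_pow_degree 2 M2 hM2 hZ h2dvd i₂
        (hfaith i₂ hi₂t) 3 (by rw [hdi₂, hp7']; norm_num)
    have hk : Nat.card G = p * (if ε = 1 then e else p - e) * (2 * 2 ^ (b - 1)) := by
      rw [if_pos hε, ← hr_eq, hG', ← pow_succ']
      congr 2
      omega
    have hY := Cfsg.Agent.Lib.Helper14.BTY.bt_Y_sameBlock D 2 M2 hM2 (2 ^ (b - 1)) hk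
      (principalBlock M2 G) hB2
    have hb : (Nat.card G).factorization 2 = b := by
      apply factorization_of_eq Nat.prime_two (m := p * r) (by rw [hG']; ring)
      intro h2
      rcases (Nat.Prime.dvd_mul Nat.prime_two).1 h2 with h3 | h3
      · have := (Nat.prime_dvd_prime_iff_eq Nat.prime_two hp).1 h3
        omega
      · have := (Nat.prime_dvd_prime_iff_eq Nat.prime_two hr).1 h3
        omega
    have hdvd := Cfsg.Agent.Lib.Helper97.BTTool.bt_block_sum_dvd D hM 2 hpq M2 hM2 b hb
      (principalBlock M2 G) hB2 hY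
    rw [if_pos hε, hε, one_mul, ← hr_eq, hr3'] at hdvd
    have hble : b ≤ 3 := by
      apply le_of_two_pow_le
      have hfil : ∀ c : ℤ, c ≠ 0 → c.natAbs ≤ 8 → (2 : ℤ) ^ b ∣ c → 2 ^ b ≤ 2 ^ 3 :=
        fun c hc hc8 h => (two_pow_le_of_dvd_int hc h).trans hc8
      by_cases hi₃B : i₃ ∈ principalBlock M2 G
      · have hf : X.filter (fun χ => χ ∈ principalBlock M2 G) = {triv, i₃} := by
          rw [hXeq]
          ext χ
          simp only [Finset.mem_filter, Finset.mem_insert, Finset.mem_singleton]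
          constructor
          · rintro ⟨h | h | h, hB⟩
            · exact Or.inl h
            · rw [h] at hB; exact absurd hB hi₂B
            · exact Or.inr h
          · rintro (h | h)
            · exact ⟨Or.inl h, h ▸ htrivB2⟩
            · exact ⟨Or.inr (Or.inr h), h ▸ hi₃B⟩
        rw [hf, Finset.sum_pair hi₃t.symm, hatriv, hdtriv, hai₃, hdi₃] at hdvd
        split_ifs at hdvd
        · exact hfil _ (by norm_num) (by norm_num) hdvd
        · exact hfil _ (by norm_num) (by norm_num) hdvd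
      · have hf : X.filter (fun χ => χ ∈ principalBlock M2 G) = {triv} := by
          rw [hXeq]
          ext χ
          simp only [Finset.mem_filter, Finset.mem_insert, Finset.mem_singleton]
          constructor
          · rintro ⟨h | h | h, hB⟩
            · exact h
            · rw [h] at hB; exact absurd hB hi₂B
            · rw [h] at hB; exact absurd hB hi₃B
          · intro h
            exact ⟨Or.inl h, h ▸ htrivB2⟩
        rw [hf, Finset.sum_singleton, hatriv, hdtriv] at hdvd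
        split_ifs at hdvd
        · exact hfil _ (by norm_num) (by norm_num) hdvd
        · exact hfil _ (by norm_num) (by norm_num) hdvd
    right
    have : b = 3 := by omega
    rw [hG', hp7', hr3', this]
    norm_num
  · -- `ε = -1`
    have hne1 : ε ≠ 1 := by rw [hε]; norm_num
    rw [if_neg hne1] at hr_eq
    have hedvd : e ∣ p * q ^ b * r := by
      have h1 : Nat.card (Subgroup.normalizer ((P : Subgroup G) : Set G)) ∣ Nat.card G :=
        Subgroup.card_subgroup_dvd_card _
      rw [D.hNcard, hcard'] at h1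
      exact (Dvd.intro_left p rfl).trans h1
    have hsum' : -(r : ℤ) = ∑ χ ∈ X, a χ * (charDegree (χ : G → ℂ) : ℤ) := by
      rw [← hsum, hε]; ring
    obtain ⟨hq2', α, hα, heα, hαt⟩ :=
      Cfsg.Agent.Lib.Helper54.BTArith.arith_minus X a (fun χ => charDegree (χ : G → ℂ)) triv
        p q b e t r hp hq hpq D.hpet D.he D.ht hr_eq hqr' hedvd htrivX hatriv hdtriv D.haX hXq
        hXdvd hXmod hsum' D.hXcard
    subst hq2'
    haveI : Fact (Nat.Prime 2) := ⟨Nat.prime_two⟩
    obtain ⟨hp5', hr3', he2, i₂, hi₂, hi₂t, hdi₂, hai₂, hXeq⟩ :=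
      Cfsg.Agent.Lib.Helper54.BTArith.arith_minus_prime X a (fun χ => charDegree (χ : G → ℂ)) triv
        p b e t r hp hr hp5 D.hpet D.ht hr_eq α hα heα hαt htrivX hatriv hdtriv D.haX hXdvd hXmod
        hsum' D.hXcard
    -- `b ≥ 2`
    have hb2 : 2 ≤ b := by
      have h1 := hXdvd i₂ hi₂
      simp only [hdi₂] at h1
      rw [hr3'] at h1
      by_contra hcon
      push Not at hcon
      interval_cases b <;> omega
    have h2dvd : 2 ∣ Nat.card G := by
      rw [hG']
      exact Dvd.dvd.mul_left (dvd_pow_self 2 (by omega)) _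
    have hi₂B : i₂ ∉ principalBlock M2 G :=
      Cfsg.Agent.Lib.Helper62.BT.not_mem_principalBlock_of_prime_pow_degree 2 M2 hM2 hZ h2dvd i₂
        (hfaith i₂ hi₂t) 2 (by rw [hdi₂]; norm_num)
    have hk : Nat.card G = p * (if ε = 1 then e else p - e) * (2 * 2 ^ (b - 1)) := by
      rw [if_neg hne1, ← hr_eq, hG', ← pow_succ']
      congr 2
      omega
    have hY := Cfsg.Agent.Lib.Helper14.BTY.bt_Y_sameBlock D 2 M2 hM2 (2 ^ (b - 1)) hk
      (principalBlock M2 G) hB2
    have hb : (Nat.card G).factorization 2 = b := by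
      apply factorization_of_eq Nat.prime_two (m := p * r) (by rw [hG']; ring)
      intro h2
      rcases (Nat.Prime.dvd_mul Nat.prime_two).1 h2 with h3 | h3
      · have := (Nat.prime_dvd_prime_iff_eq Nat.prime_two hp).1 h3
        omega
      · have := (Nat.prime_dvd_prime_iff_eq Nat.prime_two hr).1 h3
        omega
    have hdvd := Cfsg.Agent.Lib.Helper97.BTTool.bt_block_sum_dvd D hM 2 hpq M2 hM2 b hb
      (principalBlock M2 G) hB2 hY
    rw [if_neg hne1, hε, ← hr_eq, hr3'] at hdvd
    have hf : X.filter (fun χ => χ ∈ principalBlock M2 G) = {triv} := by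
      rw [hXeq]
      ext χ
      simp only [Finset.mem_filter, Finset.mem_insert, Finset.mem_singleton]
      constructor
      · rintro ⟨h | h, hB⟩
        · exact h
        · rw [h] at hB; exact absurd hB hi₂B
      · intro h
        exact ⟨Or.inl h, h ▸ htrivB2⟩
    rw [hf, Finset.sum_singleton, hatriv, hdtriv] at hdvd
    have hble : b ≤ 2 := by
      apply le_of_two_pow_le
      have hfil : ∀ c : ℤ, c ≠ 0 → c.natAbs ≤ 4 → (2 : ℤ) ^ b ∣ c → 2 ^ b ≤ 2 ^ 2 :=
        fun c hc hc8 h => (two_pow_le_of_dvd_int hc h).trans hc8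
      split_ifs at hdvd
      · exact hfil _ (by norm_num) (by norm_num) hdvd
      · exact hfil _ (by norm_num) (by norm_num) hdvd
    left
    have : b = 2 := by omega
    rw [hG', hp5', hr3', this]
    norm_num

/-- The order of `G` is `60` or `168`. -/
theorem card_cases {G : Type*} [Group G] [Finite G] [IsSimpleGroup G] (hG : ¬ IsCyclic G)
    (p q r b : ℕ) (hp : p.Prime) (hq : q.Prime) (hr : r.Prime) (hpq : p ≠ q) (hpr : p ≠ r)
    (hqr : q ≠ r) (hG' : Nat.card G = p * r * q ^ b) :
    Nat.card G = 60 ∨ Nat.card G = 168 := by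
  rcases Nat.lt_or_ge r p with h | h
  · exact card_of_lt hG p q r b hp hq hr hpq hpr hqr hG' h
  · have h' : p < r := lt_of_le_of_ne h hpr
    exact card_of_lt hG r q p b hr hq hp hqr.symm hpr.symm hpq.symm (by rw [hG']; ring) h'

/-- A non-cyclic finite simple group whose order has the form p * r * q^b for distinct primes p, q, r is isomorphic to the projective special linear group of dimension 2 over the field with 5 or with 7 elements. -/
theorem result {G : Type*} [Group G] [Finite G] [IsSimpleGroup G] (hG : ¬ IsCyclic G) (p q r b : ℕ) (hp : p.Prime) (hq : q.Prime) (hr : r.Prime) (hpq : p ≠ q) (hpr : p ≠ r) (hqr : q ≠ r) (hG' : Nat.card G = p * r * q ^ b) : (∃ (F : Type) (_ : Field F) (_ : Fintype F), Fintype.card F = 5 ∧ Nonempty (G ≃* Matrix.ProjectiveSpecialLinearGroup (Fin 2) F)) ∨ (∃ (F : Type) (_ : Field F) (_ : Fintype F), Fintype.card F = 7 ∧ Nonempty (G ≃* Matrix.ProjectiveSpecialLinearGroup (Fin 2) F)) := by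
  rcases card_cases hG p q r b hp hq hr hpq hpr hqr hG' with h | h
  · left
    haveI : Fact (Nat.Prime 5) := ⟨by norm_num⟩
    obtain ⟨f⟩ := Cfsg.Agent.S0494.result (G := G) h
    obtain ⟨g⟩ := Cfsg.Agent.S0253.result (F := ZMod 5) (ZMod.card 5)
    exact ⟨ZMod 5, inferInstance, inferInstance, ZMod.card 5, ⟨f.trans g.symm⟩⟩
  · right
    haveI : Fact (Nat.Prime 7) := ⟨by norm_num⟩
    obtain ⟨f⟩ := Cfsg.Agent.S0495.result (G := G) h (F := ZMod 7) (ZMod.card 7)
    exact ⟨ZMod 7, inferInstance, inferInstance, ZMod.card 7, ⟨f⟩⟩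

end Cfsg.Agent.S0998
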