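import Cfsg.Statements.S1001
import Cfsg.Agent.S0904
import Cfsg.Agent.S0144

set_option autoImplicit false
open Cfsg

namespace Cfsg.Agent.S1001

/-- In a finite simple group whose order has the form p * 3^a * 2^b with p prime, the centralizer of any element of order p is the cyclic group it generates. -/
theorem result {G : Type*} [Group G] [Finite G] [IsSimpleGroup G] (p a b : ℕ) (hp : p.Prime) (hG : Nat.card G = p * 3 ^ a * 2 ^ b) (x : G) (hx : orderOf x = p) : Subgroup.centralizer ({x} : Set G) = Subgroup.zpowers x := by
  classical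
  have hle : Subgroup.zpowers x ≤ Subgroup.centralizer ({x} : Set G) := by
    rw [Subgroup.zpowers_le]
    exact Subgroup.mem_centralizer_singleton_iff.2 rfl
  have hx1 : x ≠ 1 := by
    intro h
    rw [h, orderOf_one] at hx
    exact hp.one_lt.ne hx
  by_cases hab : ∀ u w : G, u * w = w * u
  · -- abelian case: ⟨x⟩ is normal, hence everything
    have hnorm : (Subgroup.zpowers x).Normal := by
      constructor
      intro n hn g
      rw [hab g n, mul_inv_cancel_right]
      exact hn
    rcases hnorm.eq_bot_or_eq_top with h | h
    · exfalso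
      exact hx1 (Subgroup.zpowers_eq_bot.mp h)
    · rw [h]
      rw [h] at hle
      exact top_le_iff.mp hle
  · have hna : ∃ u w : G, u * w ≠ w * u := by
      push Not at hab
      exact hab
    have hns : ¬ Group.IsSolvable G := fun h => hab (IsSimpleGroup.comm_iff_isSolvable.2 h)
    have hp2 : p ≠ 2 := by
      intro h2
      apply hns
      refine Cfsg.Agent.S0144.result 2 3 (b + 1) a Nat.prime_two Nat.prime_three ?_
      rw [hG, h2]; ring
    have hp3 : p ≠ 3 := by
      intro h3
      apply hns
      refine Cfsg.Agent.S0144.result 3 2 (a + 1) b Nat.prime_three Nat.prime_two ?_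
      rw [hG, h3]; ring
    by_contra hne
    have hlt : Subgroup.zpowers x < Subgroup.centralizer ({x} : Set G) :=
      lt_of_le_of_ne hle (Ne.symm hne)
    obtain ⟨C, hC⟩ : ∃ C : Subgroup G, C = Subgroup.centralizer ({x} : Set G) := ⟨_, rfl⟩
    rw [← hC] at hlt hle
    have hZcard : Nat.card (Subgroup.zpowers x) = p := by
      rw [Nat.card_zpowers, hx]
    have hCdvd : Nat.card C ∣ p * 3 ^ a * 2 ^ b := by
      rw [← hG]; exact Subgroup.card_subgroup_dvd_card C
    have hSdvd : p ∣ Nat.card C := by
      rw [← hZcard]; exact Subgroup.card_dvd_of_le hle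
    have hcardlt : p < Nat.card C := by
      by_contra hge
      push Not at hge
      have := Subgroup.eq_of_le_of_card_ge hle (by rw [hZcard]; exact hge)
      exact hlt.ne this
    -- a prime t ∈ {2, 3} dividing |C|
    have hex : 2 ∣ Nat.card C ∨ 3 ∣ Nat.card C := by
      obtain ⟨m, hm⟩ := hSdvd
      have hm1 : 1 < m := by
        by_contra h
        push Not at h
        have hCpos : 0 < Nat.card C := Nat.card_pos
        have : m = 0 ∨ m = 1 := by omega
        rcases this with h0 | h1
        · rw [h0, mul_zero] at hm; omega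
        · rw [h1, mul_one] at hm; omega
      have hmd : m ∣ 3 ^ a * 2 ^ b := by
        rw [hm] at hCdvd
        have : p * m ∣ p * (3 ^ a * 2 ^ b) := by
          rw [← mul_assoc]; exact hCdvd
        exact (Nat.mul_dvd_mul_iff_left hp.pos).mp this
      obtain ⟨t, ht, htm⟩ := Nat.exists_prime_and_dvd (show m ≠ 1 by omega)
      have htd : t ∣ 3 ^ a * 2 ^ b := htm.trans hmd
      rcases (Nat.Prime.dvd_mul ht).mp htd with h | h
      · right
        have := (Nat.prime_dvd_prime_iff_eq ht Nat.prime_three).mp (ht.dvd_of_dvd_pow h)
        rw [← this, hm]; exact htm.mul_left p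
      · left
        have := (Nat.prime_dvd_prime_iff_eq ht Nat.prime_two).mp (ht.dvd_of_dvd_pow h)
        rw [← this, hm]; exact htm.mul_left p
    -- general contradiction from an element v ∈ C of prime order s ≠ p
    have main : ∀ (s s' i j : ℕ), s.Prime → s'.Prime → s' ≠ p → s ≠ p →
        Nat.card G = s ^ i * s' ^ j * p → s ∣ Nat.card C → False := by
      intro s s' i j hs hs' hs'r hsr hcard' hsC
      have : Fact s.Prime := ⟨hs⟩
      obtain ⟨v, hv⟩ := exists_prime_orderOf_dvd_card' (G := C) s hsC
      have hv' : orderOf (v : G) = s := by rw [Subgroup.orderOf_coe]; exact hv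
      have hcomm : Commute x (v : G) := by
        have hvC : (v : G) ∈ Subgroup.centralizer ({x} : Set G) := by rw [← hC]; exact v.2
        rw [Subgroup.mem_centralizer_singleton_iff] at hvC
        exact hvC.symm
      have hcop : Nat.Coprime (orderOf x) (orderOf (v : G)) := by
        rw [hx, hv']
        exact (Nat.coprime_primes hp hs).mpr (Ne.symm hsr)
      have hord : orderOf (x * (v : G)) = p * s := by
        rw [hcomm.orderOf_mul_eq_mul_orderOf_of_coprime hcop, hx, hv']
      exact Cfsg.Agent.S0904.no_mixed_element hna s s' p i j hs hs' hp hs'r hsr hcard'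
        (x * (v : G)) (by rw [hord]; exact dvd_mul_left s p) (by rw [hord]; exact dvd_mul_right p s)
    rcases hex with h2 | h3
    · exact main 2 3 b a Nat.prime_two Nat.prime_three (Ne.symm hp3) (Ne.symm hp2)
        (by rw [hG]; ring) h2
    · exact main 3 2 a b Nat.prime_three Nat.prime_two (Ne.symm hp2) (Ne.symm hp3)
        (by rw [hG]; ring) h3

end Cfsg.Agent.S1001
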