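import Cfsg.Statements.S1002
import Cfsg.Agent.Lib.Helper17.SylowCard
import Cfsg.Agent.Lib.Helper17.PrimeSylow
import Cfsg.Agent.Lib.Helper17.SimpleIndex
import Cfsg.Agent.Lib.Helper17.OrderCount
import Cfsg.Agent.Lib.Helper17.CosetAction
import Cfsg.Agent.Lib.Helper17.ConjCount
import Cfsg.Agent.Lib.Helper17.Misc
import Mathlib.Tactic.IntervalCases
import Mathlib.Tactic.NormNum.Prime
-- import your own Cfsg.Agent.* helpers here

set_option autoImplicit false
open Cfsg

namespace Cfsg.Agent.S1002

open Cfsg.Agent.Lib.Helper17 Subgroup MulAction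

theorem dvd409 {d : ℕ} (h : d ∣ 409) : d = 1 ∨ d = 409 := (Nat.dvd_prime (by norm_num)).1 h

theorem arith13 (n : ℕ) (hd : n ∣ 77301) (hm : n % 13 = 1) : n = 1 ∨ n = 27 ∨ n = 25767 := by
  have e : (77301 : ℕ) = 27 * (7 * 409) := by norm_num
  rw [e] at hd
  obtain ⟨a, b, ha, hb, rfl⟩ := (Nat.dvd_mul).1 hd
  obtain ⟨c, d, hc, hd', rfl⟩ := (Nat.dvd_mul).1 hb
  have ha' : a ≤ 27 := Nat.le_of_dvd (by norm_num) ha
  have hc' : c ≤ 7 := Nat.le_of_dvd (by norm_num) hc
  rcases dvd409 hd' with rfl | rfl <;> interval_cases a <;> interval_cases c <;> omega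

theorem arith7 (n : ℕ) (hd : n ∣ 143559) (hm : n % 7 = 1) : n = 1 ∨ n = 351 ∨ n = 47853 := by
  have e : (143559 : ℕ) = 27 * (13 * 409) := by norm_num
  rw [e] at hd
  obtain ⟨a, b, ha, hb, rfl⟩ := (Nat.dvd_mul).1 hd
  obtain ⟨c, d, hc, hd', rfl⟩ := (Nat.dvd_mul).1 hb
  have ha' : a ≤ 27 := Nat.le_of_dvd (by norm_num) ha
  have hc' : c ≤ 13 := Nat.le_of_dvd (by norm_num) hc
  rcases dvd409 hd' with rfl | rfl <;> interval_cases a <;> interval_cases c <;> omega

theorem arith409 (n : ℕ) (hd : n ∣ 2457) (hm : n % 409 = 1) : n = 1 ∨ n = 819 := by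
  have hle : n ≤ 2457 := Nat.le_of_dvd (by norm_num) hd
  have h1 := Nat.div_add_mod n 409
  have hj : n / 409 ≤ 6 := by omega
  have hn : n = 409 * (n / 409) + 1 := by omega
  generalize n / 409 = j at *
  subst hn
  interval_cases j <;> omega

/-- No finite simple group has order 1004913 = 3^3 * 7 * 13 * 409. -/
theorem result {G : Type*} [Group G] [Finite G] [IsSimpleGroup G] : Nat.card G ≠ 1004913 := by
  intro h
  have hGc : ¬ IsMulCommutative G := not_comm_of_simple_of_not_prime (by rw [h]; norm_num)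
  have f409 : Fact (Nat.Prime 409) := ⟨by norm_num⟩
  have f13 : Fact (Nat.Prime 13) := ⟨by norm_num⟩
  have f7 : Fact (Nat.Prime 7) := ⟨by norm_num⟩
  have hc409 : Nat.card G = 409 ^ 1 * 2457 := by rw [h]; norm_num
  have hc13 : Nat.card G = 13 ^ 1 * 77301 := by rw [h]; norm_num
  have hc7 : Nat.card G = 7 ^ 1 * 143559 := by rw [h]; norm_num
  have h409G : 409 ∣ 2 * Nat.card G := by rw [h]; norm_num
  -- the Sylow numbers
  have hn409 : Nat.card (Sylow 409 G) = 819 := by
    rcases arith409 _ (card_sylow_dvd_of_card_eq hc409 (by norm_num))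
      (card_sylow_modEq_one 409 G) with h1 | h1
    · exact absurd h1
        (card_sylow_ne_one_of_simple hc409 (by norm_num) (by norm_num) (by norm_num))
    · exact h1
  have hn13 : Nat.card (Sylow 13 G) = 25767 := by
    rcases arith13 _ (card_sylow_dvd_of_card_eq hc13 (by norm_num))
      (card_sylow_modEq_one 13 G) with h1 | h1 | h1
    · exact absurd h1
        (card_sylow_ne_one_of_simple hc13 (by norm_num) (by norm_num) (by norm_num))
    · exfalso
      have h2 := two_mul_card_dvd_factorial_card_sylow_of_simple hGc (p := 13)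
        (by rw [h1]; norm_num)
      rw [h1] at h2
      have h3 : 409 ≤ 27 := (Nat.Prime.dvd_factorial (by norm_num)).1 (h409G.trans h2)
      omega
    · exact h1
  have hn7 : Nat.card (Sylow 7 G) = 47853 := by
    rcases arith7 _ (card_sylow_dvd_of_card_eq hc7 (by norm_num))
      (card_sylow_modEq_one 7 G) with h1 | h1 | h1
    · exact absurd h1
        (card_sylow_ne_one_of_simple hc7 (by norm_num) (by norm_num) (by norm_num))
    · exfalso
      have h2 := two_mul_card_dvd_factorial_card_sylow_of_simple hGc (p := 7)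
        (by rw [h1]; norm_num)
      rw [h1] at h2
      have h3 : 409 ≤ 351 := (Nat.Prime.dvd_factorial (by norm_num)).1 (h409G.trans h2)
      omega
    · exact h1
  -- numbers of elements of orders 409, 13, 7
  have e409 : Nat.card {g : G // orderOf g = 409} = 819 * 408 := by
    rw [card_orderOf_eq_prime (p := 409) (fun P => by
      rw [sylow_card_of_card_eq P hc409 (by norm_num), pow_one]), hn409]
  have e13 : Nat.card {g : G // orderOf g = 13} = 25767 * 12 := by
    rw [card_orderOf_eq_prime (p := 13) (fun P => by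
      rw [sylow_card_of_card_eq P hc13 (by norm_num), pow_one]), hn13]
  have e7 : Nat.card {g : G // orderOf g = 7} = 47853 * 6 := by
    rw [card_orderOf_eq_prime (p := 7) (fun P => by
      rw [sylow_card_of_card_eq P hc7 (by norm_num), pow_one]), hn7]
  -- the normalizer of a Sylow 409-subgroup
  obtain ⟨P⟩ := (Sylow.nonempty : Nonempty (Sylow 409 G))
  have hP : Nat.card (P : Subgroup G) = 409 := by
    rw [sylow_card_of_card_eq P hc409 (by norm_num), pow_one]
  have hNcard := card_sylow_mul_card_normalizer P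
  have hk1 := relIndex_cent_norm_dvd_pred_of_card_prime P hP
  have hk2 := relIndex_cent_norm_ne_one_of_simple hGc P (by rw [h]; norm_num)
  have hk3 := mul_relIndex_cent_norm_dvd_of_card_prime P hP
  set C := centralizer ((P : Subgroup G) : Set G) with hC
  set N := normalizer ((P : Subgroup G) : Set G) with hN
  rw [hn409, h] at hNcard
  have hNc : Nat.card N = 1227 := by omega
  rw [hNc] at hk3
  have hk : C.relIndex N = 3 := by
    have h4 : 409 * C.relIndex N ∣ 409 * 3 := by simpa using hk3
    have h5 : C.relIndex N ∣ 3 := Nat.dvd_of_mul_dvd_mul_left (by norm_num) h4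
    rcases (Nat.dvd_prime (by norm_num)).1 h5 with h6 | h6
    · exact absurd h6 hk2
    · exact h6
  have hCN : Nat.card (C.subgroupOf N) = 409 := by
    have h6 := Subgroup.card_mul_index (C.subgroupOf N)
    have h7 : (C.subgroupOf N).index = 3 := hk
    rw [h7, hNc] at h6
    omega
  -- an element of order 3 in the normalizer
  have f3 : Fact (Nat.Prime 3) := ⟨by norm_num⟩
  obtain ⟨τ', hτ'⟩ := exists_prime_orderOf_dvd_card' (G := N) 3 (by rw [hNc]; norm_num)
  have hτo : orderOf (τ' : G) = 3 := by rw [Subgroup.orderOf_coe, hτ']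
  have hτN : (τ' : G) ∈ N := τ'.2
  have hτC : (τ' : G) ∉ C := by
    intro hc
    have hmem : τ' ∈ C.subgroupOf N := by rw [Subgroup.mem_subgroupOf]; exact hc
    have h8 := orderOf_dvd_natCard (⟨τ', hmem⟩ : C.subgroupOf N)
    rw [Subgroup.orderOf_mk, hτ', hCN] at h8
    omega
  set τ : G := (τ' : G) with hτ
  -- fixed points of τ
  have hfix := card_fixedBy_le_card_orbits P hP τ hτN hτC
  have horb := card_orbits_mul_eq P hP
  rw [hn409] at horb
  rw [← hN] at hfix horb
  have hform := card_fixedBy_mul_card_conj N τ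
  have hidx : N.index = 819 := by
    rw [← hn409]
    exact (P.card_eq_index_normalizer).symm
  rw [hidx] at hform
  -- at least 409 conjugates of τ lie in N
  have hconj : 409 ≤ Nat.card {g : G // IsConj τ g ∧ g ∈ N} := by
    rw [← hP]
    let f : ↥(P : Subgroup G) → {g : G // IsConj τ g ∧ g ∈ N} := fun y =>
      ⟨(y : G) * τ * (y : G)⁻¹, isConj_iff.2 ⟨(y : G), rfl⟩,
        N.mul_mem (N.mul_mem (le_normalizer y.2) hτN) (N.inv_mem (le_normalizer y.2))⟩
    apply Nat.card_le_card_of_injective f
    intro y y' hyy'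
    have h9 : (y : G) * τ * (y : G)⁻¹ = (y' : G) * τ * (y' : G)⁻¹ := congrArg Subtype.val hyy'
    by_contra hne
    apply hτC
    have hz : (y' : G)⁻¹ * (y : G) ∈ (P : Subgroup G) :=
      (P : Subgroup G).mul_mem ((P : Subgroup G).inv_mem y'.2) y.2
    have hz1 : (y' : G)⁻¹ * (y : G) ≠ 1 := by
      intro h10
      apply hne
      apply Subtype.ext
      have := inv_mul_eq_one.1 h10
      exact this.symm
    apply mem_centralizer_of_commute_of_card_prime (P : Subgroup G) (by norm_num) hP hz hz1
    calc τ * ((y' : G)⁻¹ * (y : G)) = (y' : G)⁻¹ * ((y' : G) * τ * (y' : G)⁻¹) * (y : G) := by group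
      _ = (y' : G)⁻¹ * ((y : G) * τ * (y : G)⁻¹) * (y : G) := by rw [h9]
      _ = (y' : G)⁻¹ * (y : G) * τ := by group
  -- elements of order 3
  have h3 : Nat.card {g : G // IsConj τ g} ≤ Nat.card {g : G // orderOf g = 3} := by
    let f : {g : G // IsConj τ g} → {g : G // orderOf g = 3} := fun g =>
      ⟨g.1, by rw [orderOf_eq_of_isConj g.2, hτo]⟩
    apply Nat.card_le_card_of_injective f
    intro a b hab
    apply Subtype.ext
    have : (f a).1 = (f b).1 := congrArg Subtype.val hab
    exact this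
  have hsum := sum_card_orderOf_le (G := G) ({3, 7, 13, 409} : Finset ℕ)
  rw [Finset.sum_insert (by decide), Finset.sum_insert (by decide), Finset.sum_insert (by decide),
    Finset.sum_singleton, e409, e13, e7, h] at hsum
  have horb3 : Nat.card (orbitRel.Quotient (P : Subgroup G) (G ⧸ N)) = 3 := by omega
  rw [horb3] at hfix
  have hcl : 819 * 409 ≤ 3 * Nat.card {g : G // IsConj τ g} := by
    calc 819 * 409 ≤ 819 * Nat.card {g : G // IsConj τ g ∧ g ∈ N} := Nat.mul_le_mul_left _ hconj
      _ = Nat.card (fixedBy (G ⧸ N) τ) * Nat.card {g : G // IsConj τ g} := hform.symm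
      _ ≤ 3 * Nat.card {g : G // IsConj τ g} := Nat.mul_le_mul_right _ hfix
  omega

end Cfsg.Agent.S1002
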