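import Cfsg.Statements.S1004
import Mathlib
import Cfsg.Agent.Lib.Helper61.Sub168

set_option autoImplicit false
open Cfsg

namespace Cfsg.Agent.S1004

open Cfsg.Agent.Lib.Helper61

/-- the coding of the dihedral group of order eight -/
def dcode : DihedralGroup 4 → ℕ
  | DihedralGroup.r i => cpow 1549030 i.val
  | DihedralGroup.sr i => cmul 2773435 (cpow 1549030 i.val)

theorem dcode_mul : ∀ a b : DihedralGroup 4, dcode (a * b) = cmul (dcode a) (dcode b) := by
  decide +kernel

theorem dcode_inj : Function.Injective dcode := by decide +kernel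

theorem dcode_mem : ∀ a : DihedralGroup 4, dcode a ∈ T0 := by decide +kernel

theorem dcode_surj : ∀ c ∈ T0, ∃ a : DihedralGroup 4, dcode a = c := by decide +kernel

theorem check_norm : (codes.all fun c => T0.contains c || !(normChk T0 c)) = true := by
  decide +kernel

theorem check_cent : (T0.all fun z0 => z0 == idc || !(T0.all fun t => cmul t z0 == cmul z0 t) ||
    codes.all fun c => (cmul z0 c == cmul c z0) == T0.contains c) = true := by
  decide +kernel

/-- Let G be a simple group of order 168 and T a Sylow 2-subgroup. Then T is dihedral of order 8, T is its own normalizer, and T is the centralizer of any non-identity element of T that commutes with every element of T. -/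
theorem result {G : Type*} [Group G] [Finite G] [IsSimpleGroup G] (h : Nat.card G = 168) (T : Sylow 2 G) : Nonempty (↥(T : Subgroup G) ≃* DihedralGroup 4) ∧ Subgroup.normalizer ((T : Subgroup G) : Set G) = T ∧ ∀ z : G, z ∈ (T : Subgroup G) → z ≠ 1 → (∀ t ∈ (T : Subgroup G), t * z = z * t) → Subgroup.centralizer ({z} : Set G) = T := by
  obtain ⟨C, hT⟩ := exists_coding_sylow2 h T
  refine ⟨?_, ?_, ?_⟩
  · exact C.nonempty_mulEquiv_of_codes (T : Subgroup G) T0 hT T0_sub' dcode dcode_inj dcode_mul
      dcode_mem dcode_surj
  · apply le_antisymm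
    · intro x hx
      rw [C.mem_normalizer_iff (T : Subgroup G) T0 hT T0_sub'] at hx
      have hall := check_norm
      rw [List.all_eq_true] at hall
      have h1 := hall (C.cd x) (C.cd_mem x)
      rw [hx] at h1
      rw [hT]
      simpa using h1
    · exact Subgroup.le_normalizer
  · intro z hzT hz1 hcomm
    have hall := check_cent
    rw [List.all_eq_true] at hall
    have h1 := hall (C.cd z) ((hT z).mp hzT)
    have h2 : (C.cd z == idc) = false := by
      rw [beq_eq_false_iff_ne]
      intro e
      exact hz1 ((C.eq_one_iff z).mpr e)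
    have h3 : (T0.all fun t => cmul t (C.cd z) == cmul (C.cd z) t) = true := by
      rw [List.all_eq_true]
      intro t ht
      obtain ⟨y, rfl⟩ := C.cd_surj t (T0_sub' t ht)
      rw [beq_iff_eq, ← C.cd_mul, ← C.cd_mul, hcomm y ((hT y).mpr ht)]
    rw [h2, h3] at h1
    simp only [Bool.not_true, Bool.or_self, Bool.false_or, List.all_eq_true, beq_iff_eq] at h1
    ext x
    rw [C.mem_centralizer_iff, hT]
    have h4 := h1 (C.cd x) (C.cd_mem x)
    rw [← List.contains_iff_mem, ← h4, beq_iff_eq]

end Cfsg.Agent.S1004
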