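import Cfsg.Statements.S1003
import Mathlib
import Cfsg.Agent.Lib.Helper17.SylowCard
import Cfsg.Agent.Lib.Helper17.OrderCount
import Cfsg.Agent.Lib.Helper61.Simple168a
import Cfsg.Agent.S1004
import Cfsg.Agent.S1006

set_option autoImplicit false
open Cfsg

namespace Cfsg.Agent.S1003

/-- A simple group of order 168 has exactly 21 Sylow 2-subgroups, 28 Sylow 3-subgroups and 8 Sylow 7-subgroups. -/
theorem result {G : Type*} [Group G] [Finite G] [IsSimpleGroup G] (h : Nat.card G = 168) : Nat.card (Sylow 2 G) = 21 ∧ Nat.card (Sylow 3 G) = 28 ∧ Nat.card (Sylow 7 G) = 8 := by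
  have : Fact (Nat.Prime 2) := ⟨Nat.prime_two⟩
  have : Fact (Nat.Prime 3) := ⟨Nat.prime_three⟩
  refine ⟨?_, ?_, Cfsg.Agent.Lib.Helper61.card_sylow7 h⟩
  · obtain ⟨T⟩ := (Sylow.nonempty : Nonempty (Sylow 2 G))
    have hN := (Cfsg.Agent.S1004.result h T).2.1
    have hT : Nat.card (T : Subgroup G) = 2 ^ 3 :=
      Cfsg.Agent.Lib.Helper17.sylow_card_of_card_eq T (m := 21) (by rw [h]; norm_num) (by norm_num)
    have hmul := Cfsg.Agent.Lib.Helper17.card_sylow_mul_card_normalizer T
    rw [hN, hT, h] at hmul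
    omega
  · have hP : ∀ P : Sylow 3 G, Nat.card (P : Subgroup G) = 3 := by
      intro P
      have := Cfsg.Agent.Lib.Helper17.sylow_card_of_card_eq P (k := 1) (m := 56)
        (by rw [h]; norm_num) (by norm_num)
      simpa using this
    have h1 := Cfsg.Agent.Lib.Helper17.card_orderOf_eq_prime (G := G) (p := 3) hP
    rw [(Cfsg.Agent.S1006.result h).1] at h1
    omega

end Cfsg.Agent.S1003
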