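import Cfsg.Statements.S1008
import Mathlib
import Cfsg.Agent.Lib.Helper61.Max168Data

set_option autoImplicit false
open Cfsg

namespace Cfsg.Agent.S1008

open Cfsg.Agent.Lib.Helper61 Cfsg.Agent.Lib.Helper61.Max168

section
variable {G : Type*} [Group G]

/-- a subgroup described by a twisted coding is a conjugate -/
theorem eq_map_conj [Finite G] (C : Coding G) (g : G) (M : Subgroup G) (L : List ℕ) (hid : idc ∈ L)
    (hcl : ∀ a ∈ L, ∀ b ∈ L, cmul a b ∈ L) (hM : ∀ x, x ∈ M ↔ (C.conj g).cd x ∈ L) :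
    M = (C.sub L hid hcl).map (MulAut.conj g).toMonoidHom := by
  ext x
  rw [hM, Subgroup.mem_map, Coding.conj_cd]
  constructor
  · intro hx
    refine ⟨g⁻¹ * x * g, hx, ?_⟩
    simp only [MulEquiv.coe_toMonoidHom, MulAut.conj_apply]
    group
  · rintro ⟨y, hy, rfl⟩
    simp only [MulEquiv.coe_toMonoidHom, MulAut.conj_apply]
    have : g⁻¹ * (g * y * g⁻¹) * g = y := by group
    rw [this]
    exact hy

theorem exists_conj_cd_eq (C : Coding G) (a b : G) (hab : IsConj a b) :
    ∃ g, (C.conj g).cd b = C.cd a := by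
  obtain ⟨c, hc⟩ := isConj_iff.mp hab
  refine ⟨c, ?_⟩
  rw [Coding.conj_cd, ← hc]
  congr 1
  group

/-- a subgroup covered by two subgroups lies in one of them -/
theorem le_or_le_of_forall (M X Y : Subgroup G) (h : ∀ x ∈ M, x ∈ X ∨ x ∈ Y) : M ≤ X ∨ M ≤ Y := by
  by_contra hcon
  push Not at hcon
  obtain ⟨h1, h2⟩ := hcon
  obtain ⟨a, haM, haX⟩ := SetLike.not_le_iff_exists.mp h1
  obtain ⟨b, hbM, hbY⟩ := SetLike.not_le_iff_exists.mp h2
  have haY : a ∈ Y := (h a haM).resolve_left haX
  have hbX : b ∈ X := (h b hbM).resolve_right hbY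
  rcases h (a * b) (M.mul_mem haM hbM) with hab | hab
  · apply haX
    have : a = a * b * b⁻¹ := by group
    rw [this]
    exact X.mul_mem hab (X.inv_mem hbX)
  · apply hbY
    have : b = a⁻¹ * (a * b) := by group
    rw [this]
    exact Y.mul_mem (Y.inv_mem haY) hab

variable [Finite G] [IsSimpleGroup G]

theorem card_le_of_ne_top (h : Nat.card G = 168) (M : Subgroup G) (hM : M ≠ ⊤) :
    Nat.card M ≤ 24 := by
  have hnc : ¬ IsMulCommutative G :=
    Cfsg.Agent.Lib.Helper17.not_comm_of_simple_of_not_prime (by rw [h]; norm_num)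
  have h1 := Cfsg.Agent.Lib.Helper17.two_mul_card_dvd_factorial_index_of_simple hnc M hM
  have h2 := Subgroup.card_mul_index M
  rw [h] at h1 h2
  have h7 : 7 ≤ M.index := by
    by_contra hlt
    push Not at hlt
    generalize M.index = n at *
    interval_cases n <;> simp [Nat.factorial] at h1
  nlinarith

theorem isCoatom_of_card (h : Nat.card G = 168) (M : Subgroup G)
    (hM : Nat.card M = 24 ∨ Nat.card M = 21) : IsCoatom M := by
  have hne : M ≠ ⊤ := by
    intro e
    rw [e, Subgroup.card_top, h] at hM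
    omega
  refine ⟨hne, fun H hlt => ?_⟩
  by_contra hH
  have h1 := card_le_of_ne_top h H hH
  obtain ⟨k, hk⟩ := Subgroup.card_dvd_of_le hlt.le
  have h3 : Nat.card M < Nat.card H := by
    by_contra hge
    push Not at hge
    exact hlt.ne (Subgroup.eq_of_le_of_card_ge hlt.le hge)
  rcases hM with hM | hM <;> rw [hM] at hk h3 <;> omega


theorem qp7_sigc : qp 7 sigc = true := by decide +kernel

/-- the three kinds of maximal subgroups, in terms of codings twisted by inner automorphisms -/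
theorem coatom_cases (h : Nat.card G = 168) (C : Coding G) (M : Subgroup G) (hM : IsCoatom M) :
    (∃ g, ∀ x, x ∈ M ↔ (C.conj g).cd x ∈ bcodes) ∨
      (∃ g, ∀ x, x ∈ M ↔ (C.conj g).cd x ∈ S1) ∨ (∃ g, ∀ x, x ∈ M ↔ (C.conj g).cd x ∈ S2) := by
  have : Fact (Nat.Prime 2) := ⟨Nat.prime_two⟩
  have : Fact (Nat.Prime 3) := ⟨Nat.prime_three⟩
  have : Fact (Nat.Prime 7) := ⟨by norm_num⟩
  have hcard := card_le_of_ne_top h M hM.1
  have hmax : ∀ X : Subgroup G, X ≠ ⊤ → M ≤ X → M = X :=
    fun X hX hle => ((hM.le_iff_eq hX).mp hle).symm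
  by_cases h7 : ∃ x ∈ M, orderOf x = 7
  · left
    obtain ⟨x, hxM, hx⟩ := h7
    obtain ⟨g, x', hx'M, hx'⟩ : ∃ g x', x' ∈ M ∧ (C.conj g).cd x' = sigc := by
      obtain ⟨s1, hs1⟩ := C.cd_surj sigc Cfsg.Agent.S1006.sigc_mem
      obtain ⟨s2, hs2⟩ := C.cd_surj Cfsg.Agent.S1006.sig6c Cfsg.Agent.S1006.sig6c_mem
      have hall := Cfsg.Agent.S1006.check_conj7
      rw [List.all_eq_true] at hall
      have h1 := hall (C.cd x) (C.cd_mem x)
      rw [(C.orderOf_prime_iff 7 x).mp hx] at h1
      simp only [Bool.not_true, Bool.false_or, Bool.or_eq_true] at h1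
      rcases h1 with h1 | h1
      · have hc : IsConj s1 x :=
          (Cfsg.Agent.S1006.isConj_iff_cls C s1 x).mpr (by rw [hs1]; exact h1)
        obtain ⟨g, hg⟩ := exists_conj_cd_eq C s1 x hc
        exact ⟨g, x, hxM, by rw [hg, hs1]⟩
      · have hc : IsConj s2 x :=
          (Cfsg.Agent.S1006.isConj_iff_cls C s2 x).mpr (by rw [hs2]; exact h1)
        obtain ⟨g, hg⟩ := exists_conj_cd_eq C s2 x hc
        refine ⟨g, x ^ 6, M.pow_mem hxM 6, ?_⟩
        rw [Coding.cd_pow, hg, hs2, sig6_pow]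
    refine ⟨g, ?_⟩
    obtain ⟨C', hC'⟩ : ∃ C', C' = C.conj g := ⟨_, rfl⟩
    rw [← hC'] at hx' ⊢
    have hx'7 : orderOf x' = 7 := (C'.orderOf_prime_iff 7 x').mpr (by rw [hx']; exact qp7_sigc)
    have hin : ∀ y ∈ M, C'.cd y ∈ bcodes := by
      intro y hyM
      by_contra hyb
      have hall := check_F2
      rw [List.all_eq_true] at hall
      have h1 := hall (C'.cd y) (C'.cd_mem y)
      have hnb : bcodes.contains (C'.cd y) = false := by
        rw [← Bool.not_eq_true, List.contains_iff_mem]; exact hyb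
      rw [hnb, Bool.false_or, Bool.and_eq_true, List.any_eq_true, List.any_eq_true] at h1
      obtain ⟨⟨a, -, ha⟩, ⟨b, -, hb⟩⟩ := h1
      have e1 : orderOf (x' ^ a * y) = 3 := by
        rw [C'.orderOf_prime_iff 3, C'.cd_mul, C'.cd_pow, hx']; exact ha
      have e2 : 2 ∣ orderOf (x' ^ b * y) := by
        rw [Bool.or_eq_true] at hb
        rcases hb with hb | hb
        · have : orderOf (x' ^ b * y) = 2 := by
            rw [C'.orderOf_prime_iff 2, C'.cd_mul, C'.cd_pow, hx']; exact hb
          rw [this]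
        · have : orderOf (x' ^ b * y) = 4 := by
            rw [C'.orderOf_four_iff, C'.cd_mul, C'.cd_pow, hx']; exact hb
          rw [this]; norm_num
      have d3 : 3 ∣ Nat.card M := by
        rw [← e1]
        exact Subgroup.orderOf_dvd_natCard M (M.mul_mem (M.pow_mem hx'M a) hyM)
      have d2 : 2 ∣ Nat.card M :=
        e2.trans (Subgroup.orderOf_dvd_natCard M (M.mul_mem (M.pow_mem hx'M b) hyM))
      have d7 : 7 ∣ Nat.card M := by
        rw [← hx'7]; exact Subgroup.orderOf_dvd_natCard M hx'M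
      have hpos : 0 < Nat.card M := Nat.card_pos
      omega
    obtain ⟨hid, hcl⟩ := closed_of_chk bcodes bcodes_closed
    have hB'card : Nat.card (C'.sub bcodes hid hcl) = 21 := by
      rw [C'.card_of_codes _ bcodes (fun x => Iff.rfl), bcodes_count]
    have hB'ne : C'.sub bcodes hid hcl ≠ ⊤ := by
      intro e
      rw [e, Subgroup.card_top, h] at hB'card
      omega
    have hMB := hmax _ hB'ne (fun y hy => hin y hy)
    intro x
    constructor
    · exact hin x
    · intro hx
      rw [hMB]; exact hx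
  · by_cases h3 : ∃ t ∈ M, orderOf t = 3
    · right
      obtain ⟨t, htM, ht⟩ := h3
      obtain ⟨tC, htC⟩ := C.cd_surj tauc Cfsg.Agent.S1006.tauc_mem
      have hc : IsConj tC t := by
        rw [Cfsg.Agent.S1006.isConj_iff_cls C, htC]
        have hall := Cfsg.Agent.S1006.check_conj3
        rw [List.all_eq_true] at hall
        have h1 := hall (C.cd t) (C.cd_mem t)
        rw [(C.orderOf_prime_iff 3 t).mp ht] at h1
        simpa using h1
      obtain ⟨g, hg⟩ := exists_conj_cd_eq C tC t hc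
      rw [htC] at hg
      obtain ⟨C', hC'⟩ : ∃ C', C' = C.conj g := ⟨_, rfl⟩
      rw [← hC'] at hg
      have hin : ∀ x ∈ M, C'.cd x ∈ S1 ∨ C'.cd x ∈ S2 := by
        intro x hxM
        have hall := check_F1
        rw [List.all_eq_true] at hall
        have h1 := hall (C'.cd x) (C'.cd_mem x)
        simp only [Bool.or_eq_true, List.contains_iff_mem] at h1
        rcases h1 with (h1 | h1) | h1
        · left; exact h1
        · right; exact h1
        · exfalso
          apply h7
          rcases h1 with ((h1 | h1) | h1) | h1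
          · exact ⟨x, hxM, (C'.orderOf_prime_iff 7 x).mpr h1⟩
          · refine ⟨t * x, M.mul_mem htM hxM, (C'.orderOf_prime_iff 7 _).mpr ?_⟩
            rw [C'.cd_mul, hg]; exact h1
          · refine ⟨t * (t * x), M.mul_mem htM (M.mul_mem htM hxM),
              (C'.orderOf_prime_iff 7 _).mpr ?_⟩
            rw [C'.cd_mul, C'.cd_mul, hg]; exact h1
          · refine ⟨t * (t * (x * (t * (x * x)))), ?_, (C'.orderOf_prime_iff 7 _).mpr ?_⟩
            · exact M.mul_mem htM (M.mul_mem htM (M.mul_mem hxM (M.mul_mem htM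
                (M.mul_mem hxM hxM))))
            · rw [C'.cd_mul, C'.cd_mul, C'.cd_mul, C'.cd_mul, C'.cd_mul, hg]; exact h1
      obtain ⟨hid1, hcl1⟩ := closed_of_chk S1 S1_closed
      obtain ⟨hid2, hcl2⟩ := closed_of_chk S2 S2_closed
      have hX1ne : C'.sub S1 hid1 hcl1 ≠ ⊤ := by
        intro e
        have hc := C'.card_of_codes (C'.sub S1 hid1 hcl1) S1 (fun x => Iff.rfl)
        rw [e, Subgroup.card_top, h, S1_count] at hc
        omega
      have hX2ne : C'.sub S2 hid2 hcl2 ≠ ⊤ := by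
        intro e
        have hc := C'.card_of_codes (C'.sub S2 hid2 hcl2) S2 (fun x => Iff.rfl)
        rw [e, Subgroup.card_top, h, S2_count] at hc
        omega
      rcases le_or_le_of_forall M (C'.sub S1 hid1 hcl1) (C'.sub S2 hid2 hcl2) hin with hle | hle
      · left
        refine ⟨g, ?_⟩
        rw [← hC']
        have hMX := hmax _ hX1ne hle
        intro x
        constructor
        · exact fun hx => hle hx
        · intro hx
          rw [hMX]; exact hx
      · right
        refine ⟨g, ?_⟩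
        rw [← hC']
        have hMX := hmax _ hX2ne hle
        intro x
        constructor
        · exact fun hx => hle hx
        · intro hx
          rw [hMX]; exact hx
    · exfalso
      have hord := (Cfsg.Agent.S1005.result h).1
      have hpg : IsPGroup 2 M := by
        intro y
        refine ⟨2, ?_⟩
        have hy := hord (y : G)
        have h7' : orderOf (y : G) ≠ 7 := fun e => h7 ⟨y, y.2, e⟩
        have h3' : orderOf (y : G) ≠ 3 := fun e => h3 ⟨y, y.2, e⟩
        have h4 : (y : G) ^ 4 = 1 := by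
          rcases hy with e | e | e | e | e
          · rw [orderOf_eq_one_iff.mp e, one_pow]
          · have h2 := pow_orderOf_eq_one (y : G)
            rw [e] at h2
            calc (y : G) ^ 4 = ((y : G) ^ 2) ^ 2 := by rw [← pow_mul]
            _ = 1 := by rw [h2, one_pow]
          · exact absurd e h3'
          · rw [← e]; exact pow_orderOf_eq_one _
          · exact absurd e h7'
        apply Subtype.ext
        simpa using h4
      obtain ⟨T, hMT⟩ := hpg.exists_le_sylow
      obtain ⟨C', hT⟩ := exists_coding_sylow2 h T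
      obtain ⟨hidN, hclN⟩ := closed_of_chk Cfsg.Agent.S1007.N1 N1_closed
      have hXcard : Nat.card (C'.sub Cfsg.Agent.S1007.N1 hidN hclN) = 24 := by
        rw [C'.card_of_codes _ Cfsg.Agent.S1007.N1 (fun x => Iff.rfl), N1_count]
      have hXne : C'.sub Cfsg.Agent.S1007.N1 hidN hclN ≠ ⊤ := by
        intro e
        rw [e, Subgroup.card_top, h] at hXcard
        omega
      have hTX : (T : Subgroup G) ≤ C'.sub Cfsg.Agent.S1007.N1 hidN hclN :=
        fun x hx => T0_sub_N1 _ ((hT x).mp hx)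
      have hMX := hmax _ hXne (hMT.trans hTX)
      have hTcard : Nat.card (T : Subgroup G) = 2 ^ 3 :=
        Cfsg.Agent.Lib.Helper17.sylow_card_of_card_eq T (m := 21) (by rw [h]; norm_num)
          (by norm_num)
      have hle := Subgroup.card_le_of_le hMT
      rw [hMX, hXcard, hTcard] at hle
      norm_num at hle


omit [Finite G] [IsSimpleGroup G] in
theorem conj_comp (g g' : G) :
    (MulAut.conj (g' * g⁻¹)).toMonoidHom.comp (MulAut.conj g).toMonoidHom =
      (MulAut.conj g').toMonoidHom := by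
  ext x
  simp only [MonoidHom.comp_apply, MulEquiv.coe_toMonoidHom, MulAut.conj_apply]
  group

theorem card_perm_four : Nat.card (Equiv.Perm (Fin 4)) = 24 := by
  rw [Nat.card_perm, Nat.card_fin]
  rfl

end

/-- In a simple group of order 168 every maximal subgroup is either isomorphic to the symmetric group of degree 4 or non-abelian of order 21; the maximal subgroups of order 21 form one conjugacy class and those isomorphic to the symmetric group of degree 4 form exactly two conjugacy classes. -/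
theorem result {G : Type*} [Group G] [Finite G] [IsSimpleGroup G] (h : Nat.card G = 168) : (∀ M : Subgroup G, IsCoatom M → Nonempty (↥M ≃* Equiv.Perm (Fin 4)) ∨ (Nat.card ↥M = 21 ∧ ¬ IsMulCommutative ↥M)) ∧ (∀ M M' : Subgroup G, IsCoatom M → IsCoatom M' → Nat.card ↥M = 21 → Nat.card ↥M' = 21 → ∃ g : G, M' = M.map (MulAut.conj g).toMonoidHom) ∧ ∃ M₁ M₂ : Subgroup G, IsCoatom M₁ ∧ IsCoatom M₂ ∧ Nonempty (↥M₁ ≃* Equiv.Perm (Fin 4)) ∧ Nonempty (↥M₂ ≃* Equiv.Perm (Fin 4)) ∧ (∀ g : G, M₂ ≠ M₁.map (MulAut.conj g).toMonoidHom) ∧ ∀ M : Subgroup G, IsCoatom M → Nonempty (↥M ≃* Equiv.Perm (Fin 4)) → ∃ g : G, M = M₁.map (MulAut.conj g).toMonoidHom ∨ M = M₂.map (MulAut.conj g).toMonoidHom := by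
  have : Fact (Nat.Prime 7) := ⟨by norm_num⟩
  obtain ⟨C⟩ := exists_coding h
  obtain ⟨hidb, hclb⟩ := closed_of_chk bcodes bcodes_closed
  obtain ⟨hid1, hcl1⟩ := closed_of_chk S1 S1_closed
  obtain ⟨hid2, hcl2⟩ := closed_of_chk S2 S2_closed
  have hcardb : ∀ (g : G) (M : Subgroup G), (∀ x, x ∈ M ↔ (C.conj g).cd x ∈ bcodes) →
      Nat.card M = 21 := by
    intro g M hM
    rw [(C.conj g).card_of_codes M bcodes hM, bcodes_count]
  have hcard1 : ∀ (g : G) (M : Subgroup G), (∀ x, x ∈ M ↔ (C.conj g).cd x ∈ S1) →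
      Nat.card M = 24 := by
    intro g M hM
    rw [(C.conj g).card_of_codes M S1 hM, S1_count]
  have hcard2 : ∀ (g : G) (M : Subgroup G), (∀ x, x ∈ M ↔ (C.conj g).cd x ∈ S2) →
      Nat.card M = 24 := by
    intro g M hM
    rw [(C.conj g).card_of_codes M S2 hM, S2_count]
  have hiso1 : ∀ (g : G) (M : Subgroup G), (∀ x, x ∈ M ↔ (C.conj g).cd x ∈ S1) →
      Nonempty (M ≃* Equiv.Perm (Fin 4)) := by
    intro g M hM
    exact (C.conj g).nonempty_mulEquiv_of_codes M S1 hM S1_sub ks1 ks1_inj ks1_mul ks1_mem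
      ks1_surj
  have hiso2 : ∀ (g : G) (M : Subgroup G), (∀ x, x ∈ M ↔ (C.conj g).cd x ∈ S2) →
      Nonempty (M ≃* Equiv.Perm (Fin 4)) := by
    intro g M hM
    exact (C.conj g).nonempty_mulEquiv_of_codes M S2 hM S2_sub ks2 ks2_inj ks2_mul ks2_mem
      ks2_surj
  refine ⟨?_, ?_, ?_⟩
  · intro M hM
    rcases coatom_cases h C M hM with ⟨g, hg⟩ | ⟨g, hg⟩ | ⟨g, hg⟩
    · right
      refine ⟨hcardb g M hg, ?_⟩
      intro hcomm
      obtain ⟨s', hs'⟩ := (C.conj g).cd_surj sigc (bcodes_sub _ sigc_mem_b)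
      obtain ⟨t', ht'⟩ := (C.conj g).cd_surj tauc (bcodes_sub _ tauc_mem_b)
      have hs'M : s' ∈ M := (hg s').mpr (by rw [hs']; exact sigc_mem_b)
      have ht'M : t' ∈ M := (hg t').mpr (by rw [ht']; exact tauc_mem_b)
      have hc := hcomm.is_comm.comm (⟨s', hs'M⟩ : M) ⟨t', ht'M⟩
      have hc2 : s' * t' = t' * s' := congrArg Subtype.val hc
      apply bcodes_noncomm
      rw [← hs', ← ht', ← (C.conj g).cd_mul, ← (C.conj g).cd_mul, hc2]
    · left; exact hiso1 g M hg
    · left; exact hiso2 g M hg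
  · intro M M' hM hM' hc hc'
    have key : ∀ N : Subgroup G, IsCoatom N → Nat.card N = 21 →
        ∃ g, N = (C.sub bcodes hidb hclb).map (MulAut.conj g).toMonoidHom := by
      intro N hN hcN
      rcases coatom_cases h C N hN with ⟨g, hg⟩ | ⟨g, hg⟩ | ⟨g, hg⟩
      · exact ⟨g, eq_map_conj C g N bcodes hidb hclb hg⟩
      · have := hcard1 g N hg; omega
      · have := hcard2 g N hg; omega
    obtain ⟨g, hg⟩ := key M hM hc
    obtain ⟨g', hg'⟩ := key M' hM' hc'
    refine ⟨g' * g⁻¹, ?_⟩
    rw [hg, hg', Subgroup.map_map, conj_comp]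
  · refine ⟨C.sub S1 hid1 hcl1, C.sub S2 hid2 hcl2, ?_, ?_, ?_, ?_, ?_, ?_⟩
    · apply isCoatom_of_card h
      left
      rw [C.card_of_codes _ S1 (fun x => Iff.rfl), S1_count]
    · apply isCoatom_of_card h
      left
      rw [C.card_of_codes _ S2 (fun x => Iff.rfl), S2_count]
    · exact C.nonempty_mulEquiv_of_codes _ S1 (fun x => Iff.rfl) S1_sub ks1 ks1_inj ks1_mul ks1_mem
        ks1_surj
    · exact C.nonempty_mulEquiv_of_codes _ S2 (fun x => Iff.rfl) S2_sub ks2 ks2_inj ks2_mul ks2_mem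
        ks2_surj
    · intro g hmap
      have hchk := check_nonconjS
      rw [List.all_eq_true] at hchk
      have h1 := hchk (C.cd g) (C.cd_mem g)
      rw [List.any_eq_true] at h1
      obtain ⟨a, ha, h2⟩ := h1
      rw [List.all_eq_true] at h2
      obtain ⟨x, rfl⟩ := C.cd_surj a (S1_sub a ha)
      have hx : x ∈ C.sub S1 hid1 hcl1 := ha
      have hgx : g * x * g⁻¹ ∈ C.sub S2 hid2 hcl2 := by
        rw [hmap]
        exact ⟨x, hx, by simp [MulAut.conj_apply]⟩
      have h3 := h2 (C.cd (g * x * g⁻¹)) hgx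
      rw [bne_iff_ne] at h3
      apply h3
      rw [← C.cd_mul, ← C.cd_mul]
      congr 1
      group
    · intro M hM hiso
      obtain ⟨e⟩ := hiso
      have hcM : Nat.card M = 24 := by
        rw [Nat.card_congr e.toEquiv, card_perm_four]
      rcases coatom_cases h C M hM with ⟨g, hg⟩ | ⟨g, hg⟩ | ⟨g, hg⟩
      · have := hcardb g M hg; omega
      · exact ⟨g, Or.inl (eq_map_conj C g M S1 hid1 hcl1 hg)⟩
      · exact ⟨g, Or.inr (eq_map_conj C g M S2 hid2 hcl2 hg)⟩

end Cfsg.Agent.S1008
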