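import Cfsg.Statements.S1009
import Cfsg.Agent.Lib.Helper17.SylowBasic
import Mathlib.Data.Fintype.Lattice

set_option autoImplicit false
open Cfsg

namespace Cfsg.Agent.S1009

open Cfsg.Agent.Lib.Helper17

/-- Brodkey's Theorem: if a finite group has abelian Sylow p-subgroups, then there are two Sylow p-subgroups whose intersection equals the intersection of all Sylow p-subgroups. -/
theorem result {G : Type*} [Group G] [Finite G] (p : ℕ) [Fact p.Prime] (hab : ∀ P : Sylow p G, IsMulCommutative ↥(P : Subgroup G)) : ∃ P Q : Sylow p G, (P : Subgroup G) ⊓ (Q : Subgroup G) = ⨅ R : Sylow p G, (R : Subgroup G) := by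
  have : Nonempty (Sylow p G × Sylow p G) := ⟨(default, default)⟩
  obtain ⟨⟨P, Q⟩, hmin⟩ := Finite.exists_min
    (fun PQ : Sylow p G × Sylow p G => Nat.card ↥((PQ.1 : Subgroup G) ⊓ (PQ.2 : Subgroup G)))
  refine ⟨P, Q, ?_⟩
  set D : Subgroup G := (P : Subgroup G) ⊓ (Q : Subgroup G) with hD
  -- commutativity in P and Q
  have hPc : ∀ a ∈ (P : Subgroup G), ∀ b ∈ (P : Subgroup G), a * b = b * a := by
    intro a ha b hb
    have := (hab P).is_comm.comm ⟨a, ha⟩ ⟨b, hb⟩
    exact congrArg Subtype.val this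
  have hQc : ∀ a ∈ (Q : Subgroup G), ∀ b ∈ (Q : Subgroup G), a * b = b * a := by
    intro a ha b hb
    have := (hab Q).is_comm.comm ⟨a, ha⟩ ⟨b, hb⟩
    exact congrArg Subtype.val this
  have hPN : (P : Subgroup G) ≤ Subgroup.normalizer (D : Set G) := by
    intro x hx
    rw [Subgroup.mem_normalizer_iff]
    intro h
    constructor
    · intro hh
      have : x * h * x⁻¹ = h := by
        rw [hPc x hx h hh.1]; group
      rw [this]; exact hh
    · intro hh
      have h1 : x⁻¹ * (x * h * x⁻¹) * x = x * h * x⁻¹ := by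
        rw [mul_assoc, hPc _ hh.1 x hx]; group
      have h2 : x⁻¹ * (x * h * x⁻¹) * x = h := by group
      rw [← h2, h1]; exact hh
  have hQN : (Q : Subgroup G) ≤ Subgroup.normalizer (D : Set G) := by
    intro x hx
    rw [Subgroup.mem_normalizer_iff]
    intro h
    constructor
    · intro hh
      have : x * h * x⁻¹ = h := by
        rw [hQc x hx h hh.2]; group
      rw [this]; exact hh
    · intro hh
      have h1 : x⁻¹ * (x * h * x⁻¹) * x = x * h * x⁻¹ := by
        rw [mul_assoc, hQc _ hh.2 x hx]; group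
      have h2 : x⁻¹ * (x * h * x⁻¹) * x = h := by group
      rw [← h2, h1]; exact hh
  -- D is contained in every Sylow subgroup
  have hDR : ∀ R : Sylow p G, D ≤ (R : Subgroup G) := by
    intro R
    set N := Subgroup.normalizer (D : Set G) with hN
    obtain ⟨n, hnN, hn⟩ := exists_conj_le_sylow_of_le P N ((R : Subgroup G) ⊓ N) hPN inf_le_right
      (R.2.to_inf_left)
    -- S' = n • R
    have hle : ((n • R : Sylow p G) : Subgroup G) ⊓ (Q : Subgroup G) ≤ D := by
      intro z hz
      refine ⟨?_, hz.2⟩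
      have hz1 : n⁻¹ * z * n ∈ (R : Subgroup G) := (mem_smul_sylow_iff R n z).1 hz.1
      have hz2 : n⁻¹ * z * n ∈ N := by
        have hzN : z ∈ N := hQN hz.2
        have := N.mul_mem (N.mul_mem (N.inv_mem hnN) hzN) hnN
        exact this
      have := hn (n⁻¹ * z * n) ⟨hz1, hz2⟩
      have h3 : n * (n⁻¹ * z * n) * n⁻¹ = z := by group
      rwa [h3] at this
    have hcard := hmin (n • R, Q)
    have heq : ((n • R : Sylow p G) : Subgroup G) ⊓ (Q : Subgroup G) = D :=
      Subgroup.eq_of_le_of_card_ge hle hcard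
    intro d hd
    have hnd : n * d * n⁻¹ ∈ D := (Subgroup.mem_normalizer_iff.1 hnN d).1 hd
    rw [← heq] at hnd
    exact (conj_mem_smul_sylow_iff R n d).1 hnd.1
  apply le_antisymm
  · exact le_iInf hDR
  · exact le_inf (iInf_le _ P) (iInf_le _ Q)

end Cfsg.Agent.S1009
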