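import Cfsg.Statements.S4303
import Cfsg.Agent.Lib.Helper71.SylowNumber

set_option autoImplicit false
universe u
open Cfsg

namespace Cfsg.Agent.S4303

open Cfsg.Agent.Lib.Helper71

/-- `n` is a product of admissible factors. -/
def HallNum (p n : ℕ) : Prop :=
  ∃ l : List ℕ, l.prod = n ∧
    ∀ m ∈ l, (IsPrimePow m ∧ m % p = 1) ∨
      ∃ (S : Type u) (_ : Group S) (_ : Finite S), IsSimpleGroup S ∧ m = Nat.card (Sylow p S)

theorem hallNum_one (p : ℕ) : HallNum.{u} p 1 :=
  ⟨[], by simp, by simp⟩

theorem hallNum_mul {p a b : ℕ} (ha : HallNum.{u} p a) (hb : HallNum.{u} p b) :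
    HallNum.{u} p (a * b) := by
  obtain ⟨la, hla, hla'⟩ := ha
  obtain ⟨lb, hlb, hlb'⟩ := hb
  refine ⟨la ++ lb, by rw [List.prod_append, hla, hlb], ?_⟩
  intro m hm
  rcases List.mem_append.mp hm with h | h
  · exact hla' m h
  · exact hlb' m h

/-- A nonzero number all of whose prime-power parts are `≡ 1 (mod p)`. -/
theorem hallNum_of_parts {p : ℕ} [hp : Fact p.Prime] {m : ℕ} (hm : m ≠ 0)
    (h : ∀ q : ℕ, q.Prime → q ^ m.factorization q ≡ 1 [MOD p]) : HallNum.{u} p m := by
  refine ⟨m.primeFactors.toList.map (fun q => q ^ m.factorization q), ?_, ?_⟩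
  · rw [Finset.prod_map_toList]
    exact Nat.prod_factorization_pow_eq_self hm
  · intro k hk
    rw [List.mem_map] at hk
    obtain ⟨q, hq, rfl⟩ := hk
    rw [Finset.mem_toList, Nat.mem_primeFactors] at hq
    left
    refine ⟨?_, ?_⟩
    · have hpos : m.factorization q ≠ 0 := by
        have := (hq.1.dvd_iff_one_le_factorization hm).mp hq.2.1
        omega
      exact (hq.1.isPrimePow).pow hpos
    · have := h q hq.1
      have h1 : 1 % p = 1 := Nat.mod_eq_of_lt hp.out.one_lt
      rw [Nat.ModEq, h1] at this
      exact this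

/-- The number of Sylow `p`-subgroups of a `p`-group is `1`. -/
theorem card_sylow_of_isPGroup {X : Type*} [Group X] [Finite X] {p : ℕ} [Fact p.Prime]
    (hX : IsPGroup p X) : Nat.card (Sylow p X) = 1 := by
  obtain ⟨S⟩ : Nonempty (Sylow p X) := inferInstance
  have h1 : (⊤ : Subgroup X) = S := S.3 (hX.to_subgroup ⊤) le_top
  rw [Sylow.card_eq_index_normalizer S]
  have h2 : Subgroup.normalizer ((S : Subgroup X) : Set X) = ⊤ := by
    rw [← h1]
    exact Subgroup.normalizer_eq_top_iff.mpr (inferInstance : (⊤ : Subgroup X).Normal)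
  have h3 : Subgroup.normalizer (S : Set X) = ⊤ := h2
  rw [h3, Subgroup.index_top]

theorem main {G : Type u} [Group G] [Finite G] (p : ℕ) [Fact p.Prime] :
    HallNum.{u} p (Nat.card (Sylow p G)) := by
  induction hn : Nat.card G using Nat.strong_induction_on generalizing G with
  | _ n ih =>
  by_cases hsimple : IsSimpleGroup G
  · refine ⟨[Nat.card (Sylow p G)], by simp, ?_⟩
    intro m hm
    rw [List.mem_singleton] at hm
    exact Or.inr ⟨G, inferInstance, inferInstance, hsimple, hm⟩
  by_cases htriv : Subsingleton G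
  · have hX : IsPGroup p G := by
      intro g
      exact ⟨0, Subsingleton.elim _ _⟩
    rw [card_sylow_of_isPGroup hX]
    exact hallNum_one p
  -- a proper non-trivial normal subgroup
  obtain ⟨K, hKn, hKbot, hKtop⟩ : ∃ K : Subgroup G, K.Normal ∧ K ≠ ⊥ ∧ K ≠ ⊤ := by
    by_contra hcon
    push Not at hcon
    apply hsimple
    have : Nontrivial G := not_subsingleton_iff_nontrivial.mp htriv
    exact ⟨fun H hH => by
      by_cases h : H = ⊥
      · exact Or.inl h
      · exact Or.inr (hcon H hH h)⟩
  obtain ⟨Q₀⟩ : Nonempty (Sylow p K) := inferInstance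
  obtain ⟨P, hQ₀⟩ := (Q₀.2.map K.subtype).exists_le_sylow
  have hKlt : Nat.card K < n := by
    rw [← hn]
    by_contra hge
    push Not at hge
    exact hKtop (Subgroup.eq_top_of_le_card K hge)
  have hquot : ∀ (M : Subgroup G) [M.Normal], M ≠ ⊥ → Nat.card (G ⧸ M) < n := by
    intro M _ hM
    rw [← hn, ← Subgroup.index_eq_card, ← M.card_mul_index]
    have h1 : 1 < Nat.card M := by
      rw [Subgroup.one_lt_card_iff_ne_bot]; exact hM
    have h2 : 0 < M.index := Nat.pos_of_ne_zero Subgroup.index_ne_zero_of_finite
    nlinarith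
  by_cases hL : Subgroup.normalizer (((Q₀ : Subgroup K).map K.subtype : Subgroup G) : Set G) = ⊤
  · -- `Q` is normal in `G`
    by_cases hQbot : (Q₀ : Subgroup K).map K.subtype = ⊥
    · -- `K` is a `p'`-group
      have hpK : (Nat.card K).Coprime p := by
        have h1 : Nat.card (Q₀ : Subgroup K) = 1 := by
          have := Subgroup.card_map_of_injective (K := (Q₀ : Subgroup K)) K.subtype_injective
          rw [hQbot, Subgroup.card_bot] at this
          exact this.symm
        have h2 := Q₀.card_eq_multiplicity
        rw [h1] at h2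
        have h3 : (Nat.card K).factorization p = 0 := by
          by_contra h0
          have : 1 < p ^ (Nat.card K).factorization p :=
            Nat.one_lt_pow h0 (Fact.out : p.Prime).one_lt
          omega
        have h4 : ¬ p ∣ Nat.card K := by
          intro hd
          have := ((Fact.out : p.Prime).dvd_iff_one_le_factorization Nat.card_pos.ne').mp hd
          omega
        exact ((Nat.Prime.coprime_iff_not_dvd Fact.out).mpr h4).symm
      rw [card_sylow_eq_mul_quotient K P, card_sylow_sup_normal K P]
      apply hallNum_mul (ih _ (hquot K hKbot) rfl)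
      have hne : (Subgroup.normalizer ((P : Subgroup G) : Set G)).relIndex K ≠ 0 := by
        intro h0
        have h5 := Subgroup.relIndex_dvd_card (Subgroup.normalizer ((P : Subgroup G) : Set G)) K
        rw [h0, zero_dvd_iff] at h5
        exact Nat.card_pos.ne' h5
      apply hallNum_of_parts hne
      intro q hq
      have : Fact q.Prime := ⟨hq⟩
      exact pow_factorization_relIndex_modEq_one (P : Subgroup G) K P.2
        (by rw [Subgroup.normalizer_eq_top]; exact le_top) hpK q
    · -- `Q ≠ 1` is a normal `p`-subgroup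
      have hQn : ((Q₀ : Subgroup K).map K.subtype).Normal :=
        Subgroup.normalizer_eq_top_iff.mp hL
      rw [card_sylow_eq_mul_quotient ((Q₀ : Subgroup K).map K.subtype) P,
        card_sylow_sup_normal ((Q₀ : Subgroup K).map K.subtype) P]
      have h1 : (Subgroup.normalizer ((P : Subgroup G) : Set G)).relIndex
          ((Q₀ : Subgroup K).map K.subtype) = 1 :=
        Subgroup.relIndex_eq_one.mpr (hQ₀.trans Subgroup.le_normalizer)
      rw [h1, mul_one]
      exact ih _ (hquot _ hQbot) rfl
  · -- `L = N_G(Q) < G`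
    have hLlt : Nat.card ↥(Subgroup.normalizer
        (((Q₀ : Subgroup K).map K.subtype : Subgroup G) : Set G)) < n := by
      rw [← hn]
      by_contra hge
      push Not at hge
      exact hL (Subgroup.eq_top_of_le_card _ hge)
    rw [card_sylow_eq_mul_of_normal K P Q₀ hQ₀]
    exact hallNum_mul (ih _ hKlt rfl) (ih _ hLlt rfl)

/-- For a finite group `G` and a prime `p`, the number of Sylow `p`-subgroups of `G` is a product of natural numbers each of which is either a prime power congruent to 1 modulo `p` or the number of Sylow `p`-subgroups of some finite simple group. -/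
theorem result {G : Type u} [Group G] [Finite G]
    (p : ℕ) [Fact p.Prime] :
    ∃ l : List ℕ, l.prod = Nat.card (Sylow p G) ∧
      ∀ m ∈ l, (IsPrimePow m ∧ m % p = 1) ∨
        ∃ (S : Type u) (_ : Group S) (_ : Finite S), IsSimpleGroup S ∧ m = Nat.card (Sylow p S) := by
  exact main p

end Cfsg.Agent.S4303
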