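import Mathlib
import Cfsg.Statements.S1010
import Cfsg.Agent.S4303
import Cfsg.Agent.Lib.Helper38.Hall21C

set_option autoImplicit false
open Cfsg

namespace Cfsg.Agent.S1010

open Cfsg.Agent.Lib.Helper38.Hall21

/-- No finite simple group has exactly 21 Sylow 5-subgroups. -/
theorem simple_case {S : Type*} [Group S] [Finite S] [IsSimpleGroup S] :
    Nat.card (Sylow 5 S) ≠ 21 := by
  intro h21
  classical
  have : Fintype (Sylow 5 S) := Fintype.ofFinite _
  exact false_of_card_sylow_five h21

/-- No finite group has exactly twenty-one Sylow 5-subgroups. -/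
theorem result {G : Type*} [Group G] [Finite G] : Nat.card (Sylow 5 G) ≠ 21 := by
  intro h
  have : Fact (Nat.Prime 5) := ⟨by norm_num⟩
  obtain ⟨l, hl, hm⟩ := Cfsg.Agent.S4303.result (G := G) 5
  have hall : ∀ m ∈ l, m = 1 := by
    intro m hml
    have hdvd : m ∣ 21 := by rw [← h, ← hl]; exact List.dvd_prod hml
    have hle : m ≤ 21 := Nat.le_of_dvd (by norm_num) hdvd
    rcases hm m hml with ⟨hpp, hmod⟩ | ⟨S, _, _, hS, hmS⟩
    · exfalso
      have h121 : m = 1 ∨ m = 21 := by
        interval_cases m <;> omega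
      rcases h121 with rfl | rfl
      · exact not_isPrimePow_one hpp
      · obtain ⟨q, k, hq, hk, hqk⟩ := hpp
        have hq' : Nat.Prime q := hq.nat_prime
        have h3 : 3 ∣ q ^ k := by rw [hqk]; norm_num
        have h7 : 7 ∣ q ^ k := by rw [hqk]; norm_num
        have e3 := (Nat.prime_dvd_prime_iff_eq (by norm_num) hq').1
          ((by norm_num : Nat.Prime 3).dvd_of_dvd_pow h3)
        have e7 := (Nat.prime_dvd_prime_iff_eq (by norm_num) hq').1
          ((by norm_num : Nat.Prime 7).dvd_of_dvd_pow h7)
        omega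
    · have hmod : m ≡ 1 [MOD 5] := by rw [hmS]; exact card_sylow_modEq_one 5 S
      have hne : m ≠ 21 := by rw [hmS]; exact simple_case
      unfold Nat.ModEq at hmod
      interval_cases m <;> omega
  rw [List.prod_eq_one hall] at hl
  omega

end Cfsg.Agent.S1010
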