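import Cfsg.Statements.S1011
import Cfsg.Agent.Lib.Helper17.Simple504
import Cfsg.Agent.Lib.Helper21.ElemAbPSL

set_option autoImplicit false
open Cfsg

namespace Cfsg.Agent.S1011

open Cfsg.Agent.Lib.Helper17 Cfsg.Agent.Lib.Helper17.Simple504 Cfsg.Agent.Lib.Helper21

/-- In a simple group of order 504 the centralizer of every involution is an elementary abelian
2-group. -/
theorem invCentElemAb {G : Type*} [Group G] [Finite G] [IsSimpleGroup G]
    (h : Nat.card G = 504) : InvCentElemAb G := by
  intro t ht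
  have hsq : ∀ c ∈ Subgroup.centralizer ({t} : Set G), c ^ 2 = 1 :=
    fun c hc => sq_eq_one_of_mem_centralizer_involution h ht hc
  refine ⟨⟨⟨fun a b => ?_⟩⟩, hsq⟩
  apply Subtype.ext
  show (a : G) * b = b * a
  have ha := hsq a a.2
  have hb := hsq b b.2
  have hab := hsq (a * b) (Subgroup.mul_mem _ a.2 b.2)
  have ha' : (a : G)⁻¹ = a := by
    rw [inv_eq_iff_mul_eq_one, ← pow_two]; exact ha
  have hb' : (b : G)⁻¹ = b := by
    rw [inv_eq_iff_mul_eq_one, ← pow_two]; exact hb
  have hab' : ((a : G) * b)⁻¹ = a * b := by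
    rw [inv_eq_iff_mul_eq_one, ← pow_two]; exact hab
  rw [← hab', mul_inv_rev, ha', hb']

/-- A simple group of order 504 is isomorphic to the projective special linear group of dimension 2 over the field with 8 elements. -/
theorem result {G : Type*} [Group G] [Finite G] [IsSimpleGroup G] (h : Nat.card G = 504) {F : Type*} [Field F] [Fintype F] (hF : Fintype.card F = 8) : Nonempty (G ≃* Matrix.ProjectiveSpecialLinearGroup (Fin 2) F) := by
  obtain ⟨T⟩ := (Sylow.nonempty : Nonempty (Sylow 2 G))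
  obtain ⟨K, instK, instFK, hK, ⟨φ⟩⟩ := eab_nonempty_mulEquiv_PSL T (sylow2_not_isCyclic h T)
    (sylow2_not_normal h T) (invCentElemAb h)
  rw [card_sylow2_sub h T] at hK
  have e : K ≃+* F := FiniteField.ringEquivOfCardEq (hK.trans hF.symm)
  obtain ⟨ψ⟩ := nonempty_psl_mulEquiv_of_ringEquiv e (Fin 2)
  exact ⟨φ.trans ψ⟩

end Cfsg.Agent.S1011
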