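import Cfsg.Statements.S1013
import Cfsg.Agent.Lib.Helper17.PrimeDegree
import Cfsg.Agent.Lib.Helper17.Misc
import Cfsg.Agent.Lib.Helper17.SylowBasic
import Cfsg.Agent.Lib.Helper17.CosetAction

set_option autoImplicit false
open Cfsg

namespace Cfsg.Agent.S1013

open Cfsg.Agent.Lib.Helper17 Subgroup MulAction

/-- A normal subgroup containing an element of order `p` contains every Sylow `p`-subgroup, if these
have order `p`. -/
theorem sylow_le_of_normal {Γ : Type*} [Group Γ] [Finite Γ] {p : ℕ} [hp : Fact p.Prime]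
    (hcard : ∀ Q : Sylow p Γ, Nat.card (Q : Subgroup Γ) = p)
    (H : Subgroup Γ) [hH : H.Normal] (hdvd : p ∣ Nat.card H) (P : Sylow p Γ) :
    (P : Subgroup Γ) ≤ H := by
  obtain ⟨x, hxH, hxo⟩ := exists_mem_orderOf_eq_of_dvd_card H p hdvd
  obtain ⟨Q, hxQ⟩ := exists_sylow_mem_of_orderOf_eq x hxo
  have hx1 : x ≠ 1 := by
    intro h1
    rw [h1, orderOf_one] at hxo
    exact hp.out.one_lt.ne hxo
  have hQ : (Q : Subgroup Γ) = zpowers x := eq_zpowers_of_card_prime _ hp.out (hcard Q) hxQ hx1
  have hQH : (Q : Subgroup Γ) ≤ H := by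
    rw [hQ, Subgroup.zpowers_le]; exact hxH
  obtain ⟨g, hg⟩ := MulAction.exists_smul_eq Γ Q P
  intro y hy
  rw [← hg, mem_smul_sylow_iff] at hy
  have h1 := hH.conj_mem _ (hQH hy) g
  have h2 : g * (g⁻¹ * y * g) * g⁻¹ = y := by group
  rwa [h2] at h1

/-- Let G be a transitive permutation group of prime degree p having more than one Sylow p-subgroup, and suppose a Sylow p-subgroup P has prime index in its normalizer. Then G is simple. -/
theorem result {α : Type*} [Fintype α] [DecidableEq α] {p : ℕ} [Fact p.Prime] (hα : Fintype.card α = p) (G : Subgroup (Equiv.Perm α)) [MulAction.IsPretransitive ↥G α] (P : Sylow p ↥G) (hn : 1 < Nat.card (Sylow p ↥G)) (ht : (((P : Subgroup ↥G).subgroupOf (Subgroup.normalizer ((P : Subgroup ↥G) : Set ↥G))).index).Prime) : IsSimpleGroup ↥G := by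
  have hp : p.Prime := Fact.out
  have hα' : Nat.card α = p := by rw [Nat.card_eq_fintype_card, hα]
  have hcard : ∀ Q : Sylow p ↥G, Nat.card (Q : Subgroup ↥G) = p :=
    fun Q => sylow_card_of_prime_degree hα' Q
  have hdvdG : p ∣ Nat.card ↥G := dvd_card_of_pretransitive (Γ := ↥G) hα'
  have hnt : Nontrivial ↥G := by
    rw [← Finite.one_lt_card_iff_nontrivial]
    have := Nat.le_of_dvd Nat.card_pos hdvdG
    have := hp.one_lt
    omega
  refine { toNontrivial := hnt, eq_bot_or_eq_top_of_normal := ?_ }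
  intro H hHn
  by_cases hHb : H = ⊥
  · left; exact hHb
  right
  have htr : IsPretransitive H α := isPretransitive_of_normal_of_prime_degree hα' H hHb
  have hdvdH : p ∣ Nat.card H := dvd_card_of_pretransitive (Γ := H) hα'
  have hPH : (P : Subgroup ↥G) ≤ H := sylow_le_of_normal hcard H hdvdH P
  set N := normalizer ((P : Subgroup ↥G) : Set ↥G) with hN
  have hfrat : N ⊔ H = ⊤ := Sylow.normalizer_sup_eq_top' P hPH
  have hPNH : (P : Subgroup ↥G) ≤ N ⊓ H := le_inf Subgroup.le_normalizer hPH
  have hmul := Subgroup.relIndex_mul_relIndex (P : Subgroup ↥G) (N ⊓ H) N hPNH inf_le_left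
  have ht' : ((P : Subgroup ↥G).relIndex N).Prime := ht
  rw [← hmul] at ht'
  rcases (Nat.prime_mul_iff.1 ht') with ⟨_, h1⟩ | ⟨_, h1⟩
  · -- (N ⊓ H).relIndex N = 1, so N ≤ H
    have hNH : N ≤ N ⊓ H := Subgroup.relIndex_eq_one.1 h1
    have hNH' : N ≤ H := hNH.trans inf_le_right
    rw [sup_eq_right.2 hNH'] at hfrat
    exact hfrat
  · -- P.relIndex (N ⊓ H) = 1, so N ⊓ H ≤ P
    exfalso
    have hNHP : N ⊓ H ≤ (P : Subgroup ↥G) := Subgroup.relIndex_eq_one.1 h1
    -- the Sylow subgroup of H
    let P' : Sylow p H := P.subtype hPH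
    have hP'c : IsMulCommutative (P' : Subgroup H) := by
      have hc : IsCyclic (P' : Subgroup H) :=
        isCyclic_of_prime_card (sylow_card_of_prime_degree (Γ := H) hα' P')
      exact ⟨⟨IsCyclic.commGroup.mul_comm⟩⟩
    have hnc : normalizer ((P' : Subgroup H) : Set H) ≤ centralizer ((P' : Subgroup H) : Set H) := by
      intro x hx
      have hx' : x ∈ (N.subgroupOf H) := by
        have := Subgroup.subgroupOf_normalizer_eq (H := (P : Subgroup ↥G)) (N := H) hPH
        rw [hN, this]
        exact hx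
      have hxP : (x : ↥G) ∈ (P : Subgroup ↥G) := hNHP ⟨Subgroup.mem_subgroupOf.1 hx', x.2⟩
      have hxP' : x ∈ (P' : Subgroup H) := by
        show x ∈ (P : Subgroup ↥G).subgroupOf H
        exact Subgroup.mem_subgroupOf.2 hxP
      exact (Subgroup.le_centralizer (P' : Subgroup H)) hxP'
    have htop : (P' : Subgroup H) = ⊤ :=
      sylow_eq_top_of_normalizer_le_centralizer (Γ := H) hα' P' hnc
    have hHP : H ≤ (P : Subgroup ↥G) := by
      have : (P : Subgroup ↥G).subgroupOf H = ⊤ := htop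
      exact Subgroup.subgroupOf_eq_top.1 this
    have hPeq : (P : Subgroup ↥G) = H := le_antisymm hPH hHP
    have hPn : (P : Subgroup ↥G).Normal := hPeq ▸ hHn
    have : Nat.card (Sylow p ↥G) = 1 := by
      have e : Nat.card (Sylow p ↥G) = (normalizer ((P : Subgroup ↥G) : Set ↥G)).index :=
        P.card_eq_index_normalizer
      rw [e, Subgroup.normalizer_eq_top_iff.2 hPn, Subgroup.index_top]
    omega

end Cfsg.Agent.S1013
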