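import Cfsg.Statements.S1014
import Cfsg.Agent.Lib.Helper17.PrimeSylow
import Cfsg.Agent.Lib.Helper17.CosetAction
import Cfsg.Agent.Lib.Helper17.InvolutionParity
import Mathlib.Tactic.IntervalCases
import Mathlib.Tactic.NormNum.Prime

set_option autoImplicit false
open Cfsg

namespace Cfsg.Agent.S1014

open Cfsg.Agent.Lib.Helper17 Subgroup MulAction

/-- No finite simple group has order 1104 = 2^4 * 3 * 23. -/
theorem result {G : Type*} [Group G] [Finite G] [IsSimpleGroup G] : Nat.card G ≠ 1104 := by
  intro h
  have hG : ¬ IsMulCommutative G := not_comm_of_simple_of_not_prime (by rw [h]; norm_num)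
  have : Fact (Nat.Prime 23) := ⟨by norm_num⟩
  have : Fact (Nat.Prime 2) := ⟨by norm_num⟩
  have hcard : Nat.card G = 23 ^ 1 * 48 := by rw [h]; norm_num
  have h48 : ¬ 23 ∣ 48 := by norm_num
  have hdvd : Nat.card (Sylow 23 G) ∣ 48 := card_sylow_dvd_of_card_eq hcard h48
  have hmod : Nat.card (Sylow 23 G) % 23 = 1 := card_sylow_modEq_one 23 G
  have hne1 : Nat.card (Sylow 23 G) ≠ 1 :=
    card_sylow_ne_one_of_simple hcard h48 (by norm_num) (by norm_num)
  have hn : Nat.card (Sylow 23 G) = 24 := by
    have hle : Nat.card (Sylow 23 G) ≤ 48 := Nat.le_of_dvd (by norm_num) hdvd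
    generalize Nat.card (Sylow 23 G) = c at *
    interval_cases c <;> omega
  obtain ⟨P⟩ := (Sylow.nonempty : Nonempty (Sylow 23 G))
  have hP : Nat.card (P : Subgroup G) = 23 := by
    rw [sylow_card_of_card_eq P hcard h48, pow_one]
  set N := normalizer ((P : Subgroup G) : Set G) with hNdef
  set C := centralizer ((P : Subgroup G) : Set G) with hCdef
  have hN : Nat.card N = 46 := by
    have := card_sylow_mul_card_normalizer P
    rw [hn, h, ← hNdef] at this
    omega
  have hidx : N.index = 24 := by
    rw [← hn]; exact P.card_eq_index_normalizer.symm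
  have h1 := relIndex_cent_norm_dvd_pred_of_card_prime P hP
  have h2 := mul_relIndex_cent_norm_dvd_of_card_prime P hP
  have h3 := relIndex_cent_norm_ne_one_of_simple hG P (by rw [h]; norm_num)
  rw [← hNdef, ← hCdef] at h1 h2 h3
  rw [hN] at h2
  have hrel : C.relIndex N = 2 := by
    have hle : C.relIndex N ≤ 22 := Nat.le_of_dvd (by norm_num) h1
    generalize C.relIndex N = e at *
    interval_cases e <;> omega
  have hCN : C ≤ N := Subgroup.centralizer_le_normalizer _
  have hCcard : Nat.card C = 23 := by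
    have e1 := Subgroup.index_mul_card (C.subgroupOf N)
    have e2 : Nat.card (C.subgroupOf N) = Nat.card C :=
      Nat.card_congr (Subgroup.subgroupOfEquivOfLe hCN).toEquiv
    rw [e2, hN] at e1
    have : (C.subgroupOf N).index = 2 := hrel
    rw [this] at e1
    omega
  obtain ⟨t, htN, hto⟩ := exists_mem_orderOf_eq_of_dvd_card N 2 (by rw [hN]; norm_num)
  have htC : t ∉ C := by
    intro htC
    have := Subgroup.orderOf_dvd_natCard C htC
    rw [hto, hCcard] at this
    omega
  have hfix_le := card_fixedBy_le_card_orbits P hP t htN htC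
  have horb := card_orbits_mul_eq P hP
  rw [hn] at horb
  rw [← hNdef] at hfix_le horb
  have horb2 : Nat.card (orbitRel.Quotient (P : Subgroup G) (G ⧸ N)) = 2 := by omega
  rw [horb2] at hfix_le
  have hfix_pos : 0 < Nat.card (fixedBy (G ⧸ N) t) := by
    have : Nonempty (fixedBy (G ⧸ N) t) := ⟨⟨((1 : G) : G ⧸ N), by
      rw [mk_mem_fixedBy_iff]; simpa using htN⟩⟩
    exact Nat.card_pos
  have ht2 : t ^ 2 = 1 := by rw [← hto]; exact pow_orderOf_eq_one t
  have hpar := four_dvd_index_sub_card_fixedBy_of_simple hG N t ht2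
  rw [hidx] at hpar
  generalize Nat.card (fixedBy (G ⧸ N) t) = f at *
  interval_cases f <;> omega

end Cfsg.Agent.S1014
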