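import Cfsg.Statements.S1015
import Cfsg.Agent.Lib.Helper17.PrimeSylow
import Cfsg.Agent.Lib.Helper17.SylowInter
import Cfsg.Agent.Lib.Helper17.SimpleIndex
import Mathlib.Tactic.IntervalCases
import Mathlib.Tactic.NormNum.Prime

set_option autoImplicit false
open Cfsg

namespace Cfsg.Agent.S1015

open Cfsg.Agent.Lib.Helper17 Subgroup

/-- No finite simple group has order 1200 = 2^4 * 3 * 5^2. -/
theorem result {G : Type*} [Group G] [Finite G] [IsSimpleGroup G] : Nat.card G ≠ 1200 := by
  intro h
  have hG : ¬ IsMulCommutative G := not_comm_of_simple_of_not_prime (by rw [h]; norm_num)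
  have : Fact (Nat.Prime 5) := ⟨by norm_num⟩
  have hcard : Nat.card G = 5 ^ 2 * 48 := by rw [h]; norm_num
  have h48 : ¬ 5 ∣ 48 := by norm_num
  have hdvd : Nat.card (Sylow 5 G) ∣ 48 := card_sylow_dvd_of_card_eq hcard h48
  have hmod : Nat.card (Sylow 5 G) % 5 = 1 := card_sylow_modEq_one 5 G
  have hne1 : Nat.card (Sylow 5 G) ≠ 1 :=
    card_sylow_ne_one_of_simple hcard h48 (by norm_num) (by norm_num)
  have hfact := two_mul_card_dvd_factorial_card_sylow_of_simple hG hne1
  have hn : Nat.card (Sylow 5 G) = 6 ∨ Nat.card (Sylow 5 G) = 16 := by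
    have hle : Nat.card (Sylow 5 G) ≤ 48 := Nat.le_of_dvd (by norm_num) hdvd
    generalize Nat.card (Sylow 5 G) = c at *
    interval_cases c <;> omega
  rcases hn with hn | hn
  · rw [hn, h] at hfact
    revert hfact
    decide
  · have hnot : ¬ Nat.card (Sylow 5 G) ≡ 1 [MOD 5 ^ 2] := by
      rw [hn]; decide
    obtain ⟨P, R, hne, hPN, hRN, hD⟩ := exists_sylow_pair_normalizing_inter hnot
    have hP : Nat.card (P : Subgroup G) = 25 := by
      rw [sylow_card_of_card_eq P hcard h48]; norm_num
    rw [hP] at hD
    set D : Subgroup G := (P : Subgroup G) ⊓ (R : Subgroup G) with hDdef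
    set M : Subgroup G := normalizer (D : Set G) with hM
    have hDcard : Nat.card D = 5 := by omega
    have h6 : 5 + 1 ≤ Nat.card (Sylow 5 M) := succ_le_card_sylow_subgroup M P R hne hPN hRN
    have hdvdM := card_sylow_subgroup_mul_card_dvd M P hPN
    rw [hP] at hdvdM
    have hMtop : M ≠ ⊤ := by
      intro htop
      have hnorm : D.Normal := Subgroup.normalizer_eq_top_iff.1 htop
      rcases hnorm.eq_bot_or_eq_top with hb | ht
      · rw [hb, Subgroup.card_bot] at hDcard; omega
      · rw [ht, Subgroup.card_top, h] at hDcard; omega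
    have hfactM := two_mul_card_dvd_factorial_index_of_simple hG M hMtop
    have hidx := M.index_mul_card
    rw [h] at hidx hfactM
    have hMge : 150 ≤ Nat.card M := by
      have hpos : 0 < Nat.card M := Nat.card_pos
      have := Nat.le_of_dvd hpos hdvdM
      nlinarith
    have hidx8 : M.index ≤ 8 := by
      by_contra hcon
      have : 9 ≤ M.index := by omega
      nlinarith
    have hidx0 : M.index ≠ 0 := Subgroup.index_ne_zero_of_finite
    generalize M.index = k at *
    interval_cases k <;> revert hfactM <;> decide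

end Cfsg.Agent.S1015
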