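import Cfsg.Statements.S1017
import Cfsg.Agent.Lib.Helper19.PermSylowNormalizer
import Cfsg.Agent.Lib.Helper17.PrimeSylow
import Cfsg.Agent.Lib.Helper17.SylowInter
import Cfsg.Agent.Lib.Helper17.SylowSub
import Cfsg.Agent.Lib.Helper17.SimpleTools
import Mathlib.Tactic.IntervalCases
import Mathlib.Tactic.NormNum.Prime

set_option autoImplicit false
open Cfsg

namespace Cfsg.Agent.S1017

open Cfsg.Agent.Lib.Helper17 Cfsg.Agent.Lib.Helper19 Subgroup

/-- No finite simple group has order 2016 = 2^5 * 3^2 * 7. -/
theorem result {G : Type*} [Group G] [Finite G] [IsSimpleGroup G] : Nat.card G ≠ 2016 := by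
  intro h
  have hG : ¬ IsMulCommutative G := not_comm_of_simple_of_not_prime (by rw [h]; norm_num)
  have hp7 : Fact (Nat.Prime 7) := ⟨by norm_num⟩
  have hp2 : Fact (Nat.Prime 2) := ⟨by norm_num⟩
  have hcard : Nat.card G = 7 ^ 1 * 288 := by rw [h]; norm_num
  have h288 : ¬ 7 ∣ 288 := by norm_num
  have h7dvd : 7 ∣ Nat.card G := by rw [h]; norm_num
  have hPcard : ∀ P : Sylow 7 G, Nat.card (P : Subgroup G) = 7 := fun P => by
    rw [sylow_card_of_card_eq P hcard h288]; norm_num
  -- proper subgroups of index ≤ 9 force |N(P)| ∣ 84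
  have hA : ∀ (H : Subgroup G), H ≠ ⊤ → H.index ≤ 9 → ∀ P : Sylow 7 G,
      Nat.card (normalizer ((P : Subgroup G) : Set G)) ∣ 84 := by
    intro H hH hidx P
    have hfact := two_mul_card_dvd_factorial_index_of_simple hG H hH
    rw [h] at hfact
    have h0 : H.index ≠ 0 := Subgroup.index_ne_zero_of_finite
    have h8 : 8 ≤ H.index := by
      by_contra hlt
      have hle : H.index ≤ 7 := by omega
      generalize H.index = k at *
      interval_cases k <;> revert hfact <;> decide
    have h1 := card_normalizer_dvd_of_index_of_simple' hG 7 H hH (by omega) (by omega) P h7dvd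
    refine h1.trans ?_
    have h89 : H.index = 8 ∨ H.index = 9 := by omega
    rcases h89 with e | e <;> rw [e] <;> decide
  have hdvd : Nat.card (Sylow 7 G) ∣ 288 := card_sylow_dvd_of_card_eq hcard h288
  have hmod : Nat.card (Sylow 7 G) % 7 = 1 := card_sylow_modEq_one 7 G
  have hne1 : Nat.card (Sylow 7 G) ≠ 1 :=
    card_sylow_ne_one_of_simple hcard h288 (by norm_num) (by norm_num)
  have hn : Nat.card (Sylow 7 G) = 8 ∨ Nat.card (Sylow 7 G) = 36 ∨
      Nat.card (Sylow 7 G) = 288 := by
    have hle : Nat.card (Sylow 7 G) ≤ 288 := Nat.le_of_dvd (by norm_num) hdvd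
    generalize Nat.card (Sylow 7 G) = c at *
    interval_cases c <;> omega
  have hNmul : ∀ P : Sylow 7 G, Nat.card (Sylow 7 G) *
      Nat.card (normalizer ((P : Subgroup G) : Set G)) = 2016 := fun P => by
    rw [card_sylow_mul_card_normalizer P, h]
  obtain ⟨P⟩ := (Sylow.nonempty : Nonempty (Sylow 7 G))
  rcases hn with hn | hn | hn
  · -- n_7 = 8
    have hN : Nat.card (normalizer ((P : Subgroup G) : Set G)) = 252 := by
      have := hNmul P
      rw [hn] at this
      omega
    have hidx : (normalizer ((P : Subgroup G) : Set G)).index = 8 := by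
      have e : Nat.card (Sylow 7 G) = (normalizer ((P : Subgroup G) : Set G)).index :=
        P.card_eq_index_normalizer
      rw [← e, hn]
    have hne : normalizer ((P : Subgroup G) : Set G) ≠ ⊤ := by
      intro htop
      rw [htop, Subgroup.index_top] at hidx
      omega
    have := hA _ hne (by omega) P
    rw [hN] at this
    revert this
    decide
  · -- n_7 = 36
    have hN : ∀ Q : Sylow 7 G, Nat.card (normalizer ((Q : Subgroup G) : Set G)) = 56 := by
      intro Q
      have := hNmul Q
      rw [hn] at this
      omega
    have hidx10 : ∀ H : Subgroup G, H ≠ ⊤ → 10 ≤ H.index := by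
      intro H hH
      by_contra hlt
      have := hA H hH (by omega) P
      rw [hN P] at this
      revert this
      decide
    have hrel : ∀ Q : Sylow 7 G, (centralizer ((Q : Subgroup G) : Set G)).relIndex
        (normalizer ((Q : Subgroup G) : Set G)) = 2 := by
      intro Q
      have h1 := relIndex_cent_norm_dvd_pred_of_card_prime Q (hPcard Q)
      have h2 := mul_relIndex_cent_norm_dvd_of_card_prime Q (hPcard Q)
      have h3 := relIndex_cent_norm_ne_one_of_simple hG Q h7dvd
      rw [hN Q] at h2
      generalize (centralizer ((Q : Subgroup G) : Set G)).relIndex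
        (normalizer ((Q : Subgroup G) : Set G)) = r at *
      have hr6 : r ∣ 6 := h1
      have hr8 : r ∣ 8 := Nat.dvd_of_mul_dvd_mul_left (by norm_num : 0 < 7) h2
      have hle : r ≤ 6 := Nat.le_of_dvd (by norm_num) hr6
      interval_cases r <;> omega
    have hC : Nat.card (centralizer ((P : Subgroup G) : Set G)) = 28 := by
      have := card_mul_relIndex_of_le
        (Subgroup.centralizer_le_normalizer (s := ((P : Subgroup G) : Set G)))
      rw [hrel P, hN P] at this
      omega
    set C := centralizer ((P : Subgroup G) : Set G) with hCdef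
    obtain ⟨K', hK'⟩ := Sylow.exists_subgroup_card_pow_prime 2 (n := 2)
      (G := C) (by rw [hC]; norm_num)
    set K : Subgroup G := K'.map C.subtype with hKdef
    have hKcard : Nat.card K = 4 := by rw [card_map_subtype, hK']; norm_num
    have hKC : K ≤ C := map_subtype_le' C K'
    have hK2 : IsPGroup 2 K := IsPGroup.of_card (n := 2) (by rw [hKcard]; norm_num)
    have hKcomm : ∀ a ∈ K, ∀ b ∈ K, a * b = b * a := by
      intro a ha b hb
      have hc : IsMulCommutative K :=
        IsPGroup.isMulCommutative_of_card_eq_prime_sq (p := 2) (by rw [hKcard]; norm_num)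
      have := hc.is_comm.comm (⟨a, ha⟩ : K) ⟨b, hb⟩
      exact congrArg Subtype.val this
    have hfix := hK2.card_modEq_card_fixedPoints (Sylow 7 G)
    have hPfix : P ∈ MulAction.fixedPoints K (Sylow 7 G) := by
      intro k
      rw [Subgroup.smul_def, Sylow.smul_eq_iff_mem_normalizer]
      exact Subgroup.centralizer_le_normalizer _ (hKC k.2)
    obtain ⟨Q, hQfix, hQP⟩ : ∃ Q ∈ MulAction.fixedPoints K (Sylow 7 G), Q ≠ P := by
      by_contra hcon
      push Not at hcon
      have hs : MulAction.fixedPoints K (Sylow 7 G) = {P} := by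
        ext Q
        constructor
        · intro hQ
          exact hcon Q hQ
        · intro hQ
          rw [Set.mem_singleton_iff] at hQ
          rw [hQ]
          exact hPfix
      rw [hs, hn] at hfix
      have h1 : Nat.card ({P} : Set (Sylow 7 G)) = 1 := by
        rw [Nat.card_coe_set_eq, Set.ncard_singleton]
      rw [h1] at hfix
      revert hfix
      decide
    have hKNQ : K ≤ normalizer ((Q : Subgroup G) : Set G) := by
      intro k hk
      have := hQfix ⟨k, hk⟩
      rw [Subgroup.smul_def] at this
      exact Sylow.smul_eq_iff_mem_normalizer.1 this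
    obtain ⟨w, hwK, hwC, hw1⟩ : ∃ w ∈ K, w ∈ centralizer ((Q : Subgroup G) : Set G) ∧ w ≠ 1 := by
      by_contra hcon
      push Not at hcon
      have hbot : centralizer ((Q : Subgroup G) : Set G) ⊓ K = ⊥ := by
        rw [eq_bot_iff]
        intro x hx
        rw [Subgroup.mem_bot]
        exact hcon x hx.2 hx.1
      have h1 : (centralizer ((Q : Subgroup G) : Set G)).relIndex K ≤ 2 := by
        have := Subgroup.relIndex_le_of_le_right
          (H := centralizer ((Q : Subgroup G) : Set G)) hKNQ (by rw [hrel Q]; norm_num)
        rwa [hrel Q] at this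
      have h2 : (centralizer ((Q : Subgroup G) : Set G)).relIndex K = 4 := by
        rw [← Subgroup.inf_relIndex_right, hbot, Subgroup.relIndex_bot_left, hKcard]
      omega
    set M : Subgroup G := centralizer ({w} : Set G) with hMdef
    have hmemM : ∀ x : G, x * w = w * x → x ∈ M := by
      intro x hx
      rw [hMdef, Subgroup.mem_centralizer_iff]
      intro y hy
      rw [Set.mem_singleton_iff] at hy
      rw [hy]
      exact hx.symm
    have hPM : (P : Subgroup G) ≤ M := by
      intro x hx
      apply hmemM
      exact (Subgroup.mem_centralizer_iff.1 (hKC hwK) x hx)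
    have hQM : (Q : Subgroup G) ≤ M := by
      intro x hx
      apply hmemM
      exact (Subgroup.mem_centralizer_iff.1 hwC x hx)
    have hKM : K ≤ M := by
      intro x hx
      apply hmemM
      exact hKcomm x hx w hwK
    have hMtop : M ≠ ⊤ := by
      intro htop
      have hwZ : w ∈ center G := by
        rw [Subgroup.mem_center_iff]
        intro g
        have hg : g ∈ M := by rw [htop]; trivial
        rw [hMdef, Subgroup.mem_centralizer_iff] at hg
        exact (hg w (Set.mem_singleton w)).symm
      have hnorm : (center G).Normal := inferInstance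
      rcases hnorm.eq_bot_or_eq_top with hb | ht
      · rw [hb, Subgroup.mem_bot] at hwZ
        exact hw1 hwZ
      · apply hG
        refine ⟨⟨fun a b => ?_⟩⟩
        have ha : a ∈ center G := by rw [ht]; trivial
        exact ((Subgroup.mem_center_iff.1 ha) b).symm
    have h8 : 7 + 1 ≤ Nat.card (Sylow 7 M) := succ_le_card_sylow_subgroup M P Q hQP.symm hPM hQM
    have hmulM := card_sylow_mul_card_normalizer (P.subtype hPM)
    have h28 : 28 ∣ Nat.card (normalizer (((P.subtype hPM : Sylow 7 M) : Subgroup M) : Set M)) := by
      rw [Sylow.coe_subtype, ← Subgroup.subgroupOf_normalizer_eq hPM, card_subgroupOf_eq_card_inf']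
      have h7 : 7 ∣ Nat.card (normalizer ((P : Subgroup G) : Set G) ⊓ M : Subgroup G) := by
        have := Subgroup.card_dvd_of_le
          (le_inf (le_normalizer : (P : Subgroup G) ≤ normalizer ((P : Subgroup G) : Set G)) hPM)
        rwa [hPcard P] at this
      have h4 : 4 ∣ Nat.card (normalizer ((P : Subgroup G) : Set G) ⊓ M : Subgroup G) := by
        have := Subgroup.card_dvd_of_le
          (le_inf (hKC.trans (Subgroup.centralizer_le_normalizer _)) hKM)
        rwa [hKcard] at this
      exact Nat.Coprime.mul_dvd_of_dvd_of_dvd (by norm_num : Nat.Coprime 7 4) h7 h4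
    have hMidx := hidx10 M hMtop
    have hMc := M.index_mul_card
    rw [h] at hMc
    obtain ⟨c, hc⟩ := h28
    rw [hc] at hmulM
    have hcpos : 0 < c := by
      rcases Nat.eq_zero_or_pos c with h0 | h0
      · rw [h0, mul_zero] at hc
        have : 0 < Nat.card (normalizer (((P.subtype hPM : Sylow 7 M) : Subgroup M) : Set M)) :=
          Nat.card_pos
        omega
      · exact h0
    nlinarith
  · -- n_7 = 288
    have hN : Nat.card (normalizer ((P : Subgroup G) : Set G)) = 7 := by
      have := hNmul P
      rw [hn] at this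
      omega
    have h1 := mul_relIndex_cent_norm_dvd_of_card_prime P (hPcard P)
    rw [hN] at h1
    have h2 : (centralizer ((P : Subgroup G) : Set G)).relIndex
        (normalizer ((P : Subgroup G) : Set G)) ∣ 1 :=
      Nat.dvd_of_mul_dvd_mul_left (by norm_num : 0 < 7) (by simpa using h1)
    exact relIndex_cent_norm_ne_one_of_simple hG P h7dvd (Nat.dvd_one.1 h2)

end Cfsg.Agent.S1017
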