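import Cfsg.Statements.S1046
import Cfsg.Agent.Lib.Helper18.Order4
import Cfsg.Agent.S1050
-- import your own Cfsg.Agent.* helpers here

set_option autoImplicit false
open Cfsg

namespace Cfsg.Agent.S1046

open Cfsg.Lie Cfsg.Agent.Lib.Helper18 Cfsg.Agent.Lib.Helper17 Cfsg.Agent.Lib.Helper6

universe u

/-- Conjugating an ordered product of root elements by an element of `H` gives an ordered product over the same roots. -/
theorem conj_prodL {F : Type u} [Field F] (D : ChevalleyDatum)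
    (hD : D ∈ [chevG2, chevB2, chevD4, chevF4, chevE6, chevE7, chevE8]) (h : GL D.Idx F)
    (hh : h ∈ D.diagonalSubgroup F) (l : List ℕ) (hl : ∀ r ∈ l, r < D.nroots) (hnd : l.Nodup) (t : ℕ → F) :
    ∃ t' : ℕ → F, h * prodL hD l t * h⁻¹ = prodL hD l t' := by
  classical
  induction l with
  | nil => exact ⟨t, by rw [prodL_nil]; group⟩
  | cons a l ih =>
    rw [List.nodup_cons] at hnd
    obtain ⟨t'', ht''⟩ := ih (fun r hr => hl r (List.mem_cons_of_mem _ hr)) hnd.2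
    obtain ⟨c, hc⟩ := Cfsg.Agent.S1036.conj_root_elem D hD h hh (xG hD a (t a)) a (hl a List.mem_cons_self) (t a)
      (coe_xG hD a (t a))
    have hc' : h * xG hD a (t a) * h⁻¹ = xG hD a c := eq_xG hD _ a c hc
    refine ⟨Function.update t'' a c, ?_⟩
    rw [prodL_cons, prodL_cons, Function.update_self]
    have e : prodL hD l (Function.update t'' a c) = prodL hD l t'' := by
      apply prodL_congr
      intro r hr
      rw [Function.update_of_ne]
      rintro rfl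
      exact hnd.1 hr
    rw [e, ← ht'', ← hc']
    group

/-- Two elements of `H` conjugate in `G` are conjugate in `N`. -/
theorem result {F : Type*} [Field F] (D : Cfsg.Lie.ChevalleyDatum) (hD : D ∈ [Cfsg.Lie.chevG2, Cfsg.Lie.chevB2, Cfsg.Lie.chevD4, Cfsg.Lie.chevF4, Cfsg.Lie.chevE6, Cfsg.Lie.chevE7, Cfsg.Lie.chevE8]) (h₁ h₂ g : GL D.Idx F) (h1 : h₁ ∈ D.diagonalSubgroup F) (h2 : h₂ ∈ D.diagonalSubgroup F)
    (hg : g ∈ D.group F) (hc : g * h₁ * g⁻¹ = h₂) :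
    ∃ n ∈ D.monomialSubgroup F, n * h₁ * n⁻¹ = h₂ := by
  obtain ⟨C⟩ := nonempty_chevData.{u_1} D hD
  obtain ⟨L⟩ := nonempty_levelData D hD
  obtain ⟨P, hPB, hPN, -⟩ := Cfsg.Agent.S1042.exists_bnPair (F := F) D hD C
  obtain ⟨n, hn, x, hx, y, hy, hxy⟩ := bruhat_exists P ⟨g, hg⟩
  rw [hPN, Subgroup.mem_subgroupOf] at hn
  rw [hPB, Subgroup.mem_subgroupOf] at hx hy
  have hg' : g = (x : GL D.Idx F) * n * y := by
    have := congrArg Subtype.val hxy
    simpa using this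
  obtain ⟨ws, h, hws, hh, hnw⟩ := isWordH_of_mem_monomial hD C _ hn
  obtain ⟨b, hb, t, hbt⟩ := exists_cell_form hD C L ws hws (x : GL D.Idx F) (h * y) hx
    (mul_mem (borel_of_diagonal _ hh) hy)
  have hgb : g = b * nW hD C ws * prodL hD (negList C ws) t := by
    rw [← hbt, hg', hnw]; group
  have hlt : ∀ r ∈ negList C ws, r < D.nroots := fun r hr => ((mem_negList C ws r).mp hr).1.1
  have hnd : (negList C ws).Nodup := (negList_sorted C ws).imp (fun h => Nat.ne_of_lt h)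
  obtain ⟨t', ht'⟩ := conj_prodL D hD h₁⁻¹ (inv_mem h1) (negList C ws) hlt hnd t
  rw [inv_inv] at ht'
  have hk : nW hD C ws * h₁ * (nW hD C ws)⁻¹ ∈ D.diagonalSubgroup F := nW_conj_H hD C ws h₁ h1
  have e1 : g * h₁ = h₂ * g := by rw [← hc]; group
  have e2 : (b * (nW hD C ws * h₁ * (nW hD C ws)⁻¹)) * nW hD C ws * prodL hD (negList C ws) t'
      = (h₂ * b) * nW hD C ws * prodL hD (negList C ws) t := by
    rw [← ht']
    have : b * (nW hD C ws * h₁ * (nW hD C ws)⁻¹) * nW hD C ws * (h₁⁻¹ * prodL hD (negList C ws) t * h₁)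
        = (b * nW hD C ws * prodL hD (negList C ws) t) * h₁ := by group
    rw [this, ← hgb, e1, hgb]; group
  obtain ⟨hbb, -⟩ := cell_form_unique hD C ws hws _ _ (mul_mem hb (borel_of_diagonal _ hk))
    (mul_mem (borel_of_diagonal _ h2) hb) t' t e2
  obtain ⟨ub, hub, hb', hhb', rfl⟩ := (mem_borel_iff D hD b).mp hb
  refine ⟨nW hD C ws, nW_mem_monomial hD C ws, ?_⟩
  set k := nW hD C ws * h₁ * (nW hD C ws)⁻¹ with hkdef
  -- `z = ub⁻¹ (h₂ ub h₂⁻¹) ∈ U ∩ H`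
  have hzU : ub⁻¹ * (h₂ * ub * h₂⁻¹) ∈ D.posUnipotent F :=
    mul_mem (inv_mem hub) (((Cfsg.Agent.S1036.result D hD).1 h2 ub).mp hub)
  have hz : ub⁻¹ * (h₂ * ub * h₂⁻¹) = hb' * k * hb'⁻¹ * h₂⁻¹ := by
    have : h₂ * ub = ub * hb' * k * hb'⁻¹ := by
      rw [hbb]; group
    rw [this]; group
  have hzH : ub⁻¹ * (h₂ * ub * h₂⁻¹) ∈ D.diagonalSubgroup F := by
    rw [hz]
    exact mul_mem (mul_mem (mul_mem hhb' hk) (inv_mem hhb')) (inv_mem h2)
  have hz1 : ub⁻¹ * (h₂ * ub * h₂⁻¹) = 1 := by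
    have : ub⁻¹ * (h₂ * ub * h₂⁻¹) ∈ D.posUnipotent F ⊓ D.diagonalSubgroup F := ⟨hzU, hzH⟩
    rwa [(Cfsg.Agent.S1036.result D hD).2, Subgroup.mem_bot] at this
  rw [hz1] at hz
  have hcomm := Cfsg.Agent.S1050.diagonal_comm D hD hb' k hhb' hk
  have : hb' * k * hb'⁻¹ = k := by rw [hcomm]; group
  rw [this] at hz
  -- `1 = k h₂⁻¹`
  have h3 : k = k * h₂⁻¹ * h₂ := by group
  rw [h3, ← hz, one_mul]

end Cfsg.Agent.S1046
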