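import Cfsg.Statements.S1054
import Cfsg.Agent.Lib.Helper18.SimpleAll
import Cfsg.Agent.S1052
-- import your own Cfsg.Agent.* helpers here

set_option autoImplicit false
open Cfsg

namespace Cfsg.Agent.S1054

open Cfsg.Lie Cfsg.Agent.Lib.Helper18

/-- The Chevalley groups of types D₄, F₄, E₆, E₇, E₈ are simple over every field. -/
theorem result {F : Type*} [Field F] (D : Cfsg.Lie.ChevalleyDatum)
    (hD : D ∈ [Cfsg.Lie.chevD4, Cfsg.Lie.chevF4, Cfsg.Lie.chevE6, Cfsg.Lie.chevE7, Cfsg.Lie.chevE8]) :
    IsSimpleGroup ↥(D.group F) ∧ ¬ IsMulCommutative ↥(D.group F) := by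
  simp only [List.mem_cons, List.not_mem_nil, or_false] at hD
  rcases hD with rfl | rfl | rfl | rfl | rfl
  · exact chev_simple (by simp) chevData_D4.{u_1} _ dynkinOK_D4
      (Cfsg.Agent.S1052.result chevD4 (by simp) (fun h => by rcases h with h | h <;> exact absurd (congrArg ChevalleyDatum.rank h) (by decide)))
  · exact chev_simple (by simp) chevData_F4.{u_1} _ dynkinOK_F4
      (Cfsg.Agent.S1052.result chevF4 (by simp) (fun h => by rcases h with h | h <;> exact absurd (congrArg ChevalleyDatum.rank h) (by decide)))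
  · exact chev_simple (by simp) chevData_E6.{u_1} _ dynkinOK_E6
      (Cfsg.Agent.S1052.result chevE6 (by simp) (fun h => by rcases h with h | h <;> exact absurd (congrArg ChevalleyDatum.rank h) (by decide)))
  · exact chev_simple (by simp) chevData_E7.{u_1} _ dynkinOK_E7
      (Cfsg.Agent.S1052.result chevE7 (by simp) (fun h => by rcases h with h | h <;> exact absurd (congrArg ChevalleyDatum.rank h) (by decide)))
  · exact chev_simple (by simp) chevData_E8.{u_1} _ dynkinOK_E8
      (Cfsg.Agent.S1052.result chevE8 (by simp) (fun h => by rcases h with h | h <;> exact absurd (congrArg ChevalleyDatum.rank h) (by decide)))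

end Cfsg.Agent.S1054
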