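import Cfsg.Statements.S1057
import Cfsg.Agent.Lib.Helper57.G22

set_option autoImplicit false
open Cfsg

namespace Cfsg.Agent.S1057

open Cfsg.Lie Cfsg.Agent.Lib.Helper57 Cfsg.Agent.Lib.Helper57.G22

/-- G₂(2)′ ≅ PSU₃(3). -/
theorem result {F K : Type*} [Field F] [Fintype F] [Field K] [Fintype K] (hF : Fintype.card F = 2) (hK : Fintype.card K = 9) :
    Nonempty (↥(commutator ↥(Cfsg.Lie.chevG2.group F)) ≃* Cfsg.PSU 3 K 3) := by
  classical
  have e2 : ZMod 2 ≃+* F := ZMod.ringEquivOfPrime F Nat.prime_two hF
  have h2 : (2 : F) = 0 := by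
    have h : ((2 : ZMod 2) : ZMod 2) = 0 := by decide
    have := congrArg e2 h
    rwa [map_ofNat, map_zero] at this
  have ht : ∀ t : F, t = 0 ∨ t = 1 := by
    intro t
    obtain ⟨s, rfl⟩ := e2.surjective t
    fin_cases s
    · left; exact map_zero e2
    · right; exact map_one e2
  -- the root elements over `F`
  have hx1 : ∀ r : Fin 12, chevG2.xMat F r 1 = fG F (gC r.val) := by
    intro r
    have := B22.xMat_map chevG2 (e2 : ZMod 2 →+* F) r 1
    rw [map_one] at this
    rw [← this, xMat_one_eq r]
    exact fB_map eIdx (ZMod 2) (e2 : ZMod 2 →+* F) _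
  have hx0 : ∀ r : Fin 12, chevG2.xMat F r 0 = 1 := by
    intro r
    have := B22.xMat_map chevG2 (e2 : ZMod 2 →+* F) r 0
    rw [map_zero] at this
    rw [← this, xMat_zero_eq r, Matrix.map_one _ (map_zero _) (map_one _)]
  -- the group is generated by the root elements `x_r(1)`
  have hgroup : chevG2.group F = Subgroup.closure (Set.range (X h2)) := by
    apply le_antisymm
    · rw [ChevalleyDatum.group, Subgroup.closure_le]
      rintro g ⟨r, t, hg⟩
      rw [SetLike.mem_coe]
      rcases ht t with rfl | rfl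
      · have : g = 1 := Units.ext (hg.trans (hx0 r))
        rw [this]
        exact one_mem _
      · have : g = X h2 r := Units.ext (hg.trans (hx1 r))
        rw [this]
        exact Subgroup.subset_closure ⟨r, rfl⟩
    · rw [Subgroup.closure_le]
      rintro _ ⟨r, rfl⟩
      exact Subgroup.subset_closure ⟨r, 1, (hx1 r).symm⟩
  have hcomm : (commutator ↥(chevG2.group F)).map (chevG2.group F).subtype = N h2 := by
    rw [Subgroup.map_subtype_commutator, hgroup, commutator_closure_X h2]
  obtain ⟨e⟩ := exists_equiv_SU33 h2 hK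
  have := charP_three_of_card_nine hK
  exact ⟨((Subgroup.equivMapOfInjective _ _ (Subgroup.subtype_injective _)).trans
    (MulEquiv.subgroupCongr hcomm)).trans
    (e.trans (quotientCenterEquivOfEqBot center_SU33_eq_bot).symm)⟩

end Cfsg.Agent.S1057
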