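import Cfsg.Statements.S1058
import Cfsg.Agent.Lib.Helper57.DataB22

set_option autoImplicit false
open Cfsg

namespace Cfsg.Agent.S1058

open Cfsg.Lie Cfsg.Agent.Lib.Helper57 Cfsg.Agent.Lib.Helper57.B22

/-- B₂(2) ≅ S₆. -/
theorem result {F : Type*} [Field F] [Fintype F] (hF : Fintype.card F = 2) :
    Nonempty (↥(Cfsg.Lie.chevB2.group F) ≃* Equiv.Perm (Fin 6)) := by
  classical
  have e2 : ZMod 2 ≃+* F := ZMod.ringEquivOfPrime F Nat.prime_two hF
  have h2 : (2 : F) = 0 := by
    have h : ((2 : ZMod 2) : ZMod 2) = 0 := by decide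
    have := congrArg e2 h
    rwa [map_ofNat, map_zero] at this
  have ht : ∀ t : F, t = 0 ∨ t = 1 := by
    intro t
    obtain ⟨s, rfl⟩ := e2.surjective t
    fin_cases s
    · left; exact map_zero e2
    · right; exact map_one e2
  -- the root elements over `F`
  have hx1 : ∀ r : Fin 8, chevB2.xMat F r 1 = fB eIdx F (gensC.getD r.val 0) := by
    intro r
    have := xMat_map chevB2 (e2 : ZMod 2 →+* F) r 1
    rw [map_one] at this
    rw [← this, xMat_one_eq r, fB_map]
  have hx0 : ∀ r : Fin 8, chevB2.xMat F r 0 = 1 := by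
    intro r
    have := xMat_map chevB2 (e2 : ZMod 2 →+* F) r 0
    rw [map_zero] at this
    rw [← this, xMat_zero_eq r, Matrix.map_one _ (map_zero _) (map_one _)]
  -- the homomorphism from the symmetric group
  let φ₀ : Equiv.Perm (Fin 6) → Matrix chevB2.Idx chevB2.Idx F := fun σ => fB eIdx F (phiC σ)
  have hφ1 : φ₀ 1 = 1 := by
    show fB eIdx F (phiC 1) = 1
    rw [check_one]
    exact fB_oneB eIdx F
  have hφmul : ∀ g : Equiv.Perm (Fin 6),
      ∀ s ∈ Set.range (fun i : Fin 5 => Equiv.swap i.castSucc i.succ), φ₀ (g * s) = φ₀ g * φ₀ s := by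
    rintro g _ ⟨k, rfl⟩
    show fB eIdx F (phiC _) = fB eIdx F (phiC g) * fB eIdx F (phiC _)
    have hchk := allPerm_spec _ check_hom g
    rw [List.all_eq_true] at hchk
    have hk := hchk k.val (List.mem_range.2 k.2)
    rw [beq_iff_eq] at hk
    rw [← fB_mulB eIdx F h2, check_cox k]
    show fB eIdx F (phiC (g * Equiv.swap k.castSucc k.succ)) =
      fB eIdx F (mulB 10 (tab (rankC (pcode g))) (coxC.getD k.val 0))
    rw [← hk, phiC, pcode_mul_swap]
  let ΦM : Equiv.Perm (Fin 6) →* Matrix chevB2.Idx chevB2.Idx F :=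
    homOfClosure φ₀ _ (Equiv.Perm.mclosure_swap_castSucc_succ 5) hφ1 hφmul
  let Φ : Equiv.Perm (Fin 6) →* GL chevB2.Idx F := ΦM.toHomUnits
  have hΦval : ∀ σ, ((Φ σ : GL chevB2.Idx F) : Matrix chevB2.Idx chevB2.Idx F) =
      fB eIdx F (phiC σ) := fun σ => rfl
  have hΦinj : Function.Injective Φ := by
    rw [injective_iff_map_eq_one]
    intro σ hσ
    have h1 : fB eIdx F (phiC σ) = 1 := by
      rw [← hΦval, hσ]
      rfl
    have h3 := eqOneB_of_fB_eq_one eIdx F _ h1
    have hchk := allPerm_spec _ check_ker σ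
    rw [Bool.or_eq_true, Bool.not_eq_true', beq_iff_eq] at hchk
    rcases hchk with hchk | hchk
    · rw [phiC] at h3
      rw [h3] at hchk
      exact absurd hchk (by decide)
    · exact pcode_injective (hchk.trans pcode_one.symm)
  have hτ : ∀ r : Fin 8, ((Φ (tau r) : GL chevB2.Idx F) : Matrix chevB2.Idx chevB2.Idx F) =
      chevB2.xMat F r 1 := by
    intro r
    rw [hΦval, check_tau r, hx1 r]
  have hτmem : ∀ r : Fin 8, Φ (tau r) ∈ chevB2.group F :=
    fun r => Subgroup.subset_closure ⟨r, 1, hτ r⟩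
  -- the range is the Chevalley group
  have hrange : Φ.range = chevB2.group F := by
    apply le_antisymm
    · rw [MonoidHom.range_eq_map,
        ← Subgroup.closure_eq_top_of_mclosure_eq_top (Equiv.Perm.mclosure_swap_castSucc_succ 5),
        MonoidHom.map_closure, Subgroup.closure_le]
      rintro _ ⟨_, ⟨k, rfl⟩, rfl⟩
      rw [SetLike.mem_coe]
      fin_cases k
      · show Φ (Equiv.swap ((0 : Fin 5).castSucc) ((0 : Fin 5).succ)) ∈ _
        rw [check_word0]
        simp only [map_mul]
        exact mul_mem (mul_mem (mul_mem (mul_mem (hτmem _) (hτmem _)) (hτmem _)) (hτmem _)) (hτmem _)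
      · show Φ (Equiv.swap ((1 : Fin 5).castSucc) ((1 : Fin 5).succ)) ∈ _
        rw [check_word1]
        exact hτmem _
      · show Φ (Equiv.swap ((2 : Fin 5).castSucc) ((2 : Fin 5).succ)) ∈ _
        rw [check_word2]
        simp only [map_mul]
        exact mul_mem (mul_mem (hτmem _) (hτmem _)) (hτmem _)
      · show Φ (Equiv.swap ((3 : Fin 5).castSucc) ((3 : Fin 5).succ)) ∈ _
        rw [check_word3]
        simp only [map_mul]
        exact mul_mem (mul_mem (hτmem _) (hτmem _)) (hτmem _)
      · show Φ (Equiv.swap ((4 : Fin 5).castSucc) ((4 : Fin 5).succ)) ∈ _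
        rw [check_word4]
        simp only [map_mul]
        exact mul_mem (mul_mem (hτmem _) (hτmem _)) (hτmem _)
    · rw [ChevalleyDatum.group, Subgroup.closure_le]
      rintro g ⟨r, t, hg⟩
      rw [SetLike.mem_coe]
      rcases ht t with rfl | rfl
      · have : g = 1 := Units.ext (hg.trans (hx0 r))
        rw [this]
        exact one_mem _
      · have : g = Φ (tau r) := Units.ext (hg.trans (hτ r).symm)
        rw [this]
        exact ⟨_, rfl⟩
  exact ⟨(MulEquiv.subgroupCongr hrange.symm).trans (MonoidHom.ofInjective hΦinj).symm⟩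

end Cfsg.Agent.S1058
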