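import Cfsg.Statements.S1062
import Cfsg.Agent.Lib.Helper18.OrderF4
import Cfsg.Agent.S1035
-- import your own Cfsg.Agent.* helpers here

set_option autoImplicit false
open Cfsg

namespace Cfsg.Agent.S1062

open Cfsg.Lie Cfsg.Agent.Lib.Helper18

/-- `|F₄(q)| = q²⁴ (q² - 1)(q⁶ - 1)(q⁸ - 1)(q¹² - 1)`. -/
theorem result {F : Type*} [Field F] [Fintype F] {q : ℕ} (hq : Fintype.card F = q) : Nat.card ↥(Cfsg.Lie.chevF4.group F) = q ^ 24 * (q ^ 2 - 1) * (q ^ 6 - 1) * (q ^ 8 - 1) * (q ^ 12 - 1) := by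
  subst hq
  have hD : chevF4 ∈ [chevG2, chevB2, chevD4, chevF4, chevE6, chevE7, chevE8] := by simp
  have hd := Cfsg.Agent.S1035.result (F := F) rfl (chevF4, 1) (by simp)
  have h := order_formula (F := F) hD chevData_F4 _ hd [2, 6, 8, 12] rfl wsum_F4
  rw [show chevF4.nroots / 2 = 24 from rfl] at h
  simp only [List.map_cons, List.map_nil, List.prod_cons, List.prod_nil, mul_one, one_mul] at h
  rw [h]
  simp only [mul_assoc]

end Cfsg.Agent.S1062
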