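import Cfsg.Statements.S1075
-- import your own Cfsg.Agent.* helpers here
import Cfsg.Agent.Lib.Helper57.Ree3

set_option autoImplicit false
open Cfsg

namespace Cfsg.Agent.S1075

open Cfsg.Lie Cfsg.Agent.Lib.Helper57 Cfsg.Agent.Lib.Helper57.Ree3

/-- The derived subgroup of ²G₂(3) (θ = identity over the field with three elements) has order 504 = 1512/3 and is isomorphic to PSL₂ over the field with eight elements. -/
theorem result {L : Type*} [Field L] [Fintype L] (hL : Fintype.card L = 8) :
    Nat.card ↥(commutator ↥(Cfsg.Lie.twistedG2 (ZMod 3) 1)) = 504 ∧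
      Nonempty (↥(commutator ↥(Cfsg.Lie.twistedG2 (ZMod 3) 1)) ≃* Matrix.ProjectiveSpecialLinearGroup (Fin 2) L) := by
  have hcomm : (commutator ↥(twistedG2 (ZMod 3) 1)).map (twistedG2 (ZMod 3) 1).subtype = N := by
    rw [Subgroup.map_subtype_commutator, twistedG2_eq, commutator_H]
  let e0 : ↥(commutator ↥(twistedG2 (ZMod 3) 1)) ≃* N :=
    (Subgroup.equivMapOfInjective _ _ (Subgroup.subtype_injective _)).trans
      (MulEquiv.subgroupCongr hcomm)
  refine ⟨by rw [Nat.card_congr e0.toEquiv, card_N], ?_⟩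
  obtain ⟨e⟩ := exists_equiv_SL28 hL
  have hc : Subgroup.center (Matrix.SpecialLinearGroup (Fin 2) L) = ⊥ := by
    rw [← Subgroup.card_eq_one, card_center_SL 2 (by norm_num), hL]
    decide
  exact ⟨e0.trans (e.trans (quotientCenterEquivOfEqBot hc).symm)⟩

end Cfsg.Agent.S1075
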