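import Cfsg.Statements.S1078
import Cfsg.Agent.Lib.Helper35.StMain3
import Cfsg.Agent.Lib.Helper35.StCover

set_option autoImplicit false
open Cfsg

namespace Cfsg.Agent.S1078

open Cfsg.Agent.Lib.Helper35.St

/-- For G₂, F₄, E₈ the presented group has trivial centre (the universal and adjoint groups coincide). -/
theorem result {K : Type*} [Field K] (D : Cfsg.Lie.ChevalleyDatum) (hD : D ∈ [Cfsg.Lie.chevG2, Cfsg.Lie.chevF4, Cfsg.Lie.chevE8]) :
    Subgroup.center (D.SteinbergGroup K) = ⊥ := by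
  have hD7 : D ∈ [Cfsg.Lie.chevG2, Cfsg.Lie.chevB2, Cfsg.Lie.chevD4, Cfsg.Lie.chevF4, Cfsg.Lie.chevE6,
      Cfsg.Lie.chevE7, Cfsg.Lie.chevE8] := by
    simp only [List.mem_cons, List.not_mem_nil, or_false] at hD ⊢
    rcases hD with rfl | rfl | rfl <;> simp
  have tf := tf_main hD7
  apply center_eq_bot_main (stModel (K := K) hD7) hD (stModel_gen hD7)
  intro i hi t₁ t₂ h₁ h₂
  exact stModel_hbar_mul hD7 _ (tf.pos_lt _ (tf.simple_pos i hi)) t₁ t₂ h₁ h₂

end Cfsg.Agent.S1078
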