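import Cfsg.Statements.S1097
import Cfsg.Agent.Lib.Helper35.StMain2
import Cfsg.Agent.Lib.Helper35.StCover

set_option autoImplicit false
open Cfsg

namespace Cfsg.Agent.S1097

open Cfsg.Agent.Lib.Helper35.St Cfsg.Agent.Lib.Helper18

/-- Any homomorphism from the presented group to the Chevalley group with `x̄_r(t) ↦ x_r(t)` has kernel contained in `H̄ = ⟨h̄_p(t) : p fundamental, t ≠ 0⟩`. -/
theorem result {K : Type*} [Field K] (D : Cfsg.Lie.ChevalleyDatum) (hD : D ∈ [Cfsg.Lie.chevG2, Cfsg.Lie.chevB2, Cfsg.Lie.chevD4, Cfsg.Lie.chevF4, Cfsg.Lie.chevE6, Cfsg.Lie.chevE7, Cfsg.Lie.chevE8]) (θ : D.SteinbergGroup K →* ↥(D.group K))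
    (hθ : ∀ (r : ℕ) (t : K), r < D.nroots → ((θ (D.stGen K r t) : GL D.Idx K) : Matrix D.Idx D.Idx K) = D.x K r t) :
    θ.ker ≤ Subgroup.closure {h | ∃ (i : ℕ) (t : K), i < D.rank ∧ t ≠ 0 ∧ h = PresentedGroup.mk (D.steinbergRels K) (D.stH (D.simple i) t)} := by
  have hgen := stModel_gen (K := K) hD
  have hcomp : (D.group K).subtype.comp θ = (stModel (K := K) hD).π := by
    apply PresentedGroup.ext
    rintro ⟨r, t⟩
    apply Units.ext
    have e : (PresentedGroup.of (r, t) : D.SteinbergGroup K) = D.stGen K r.val t := by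
      unfold Cfsg.Lie.ChevalleyDatum.stGen Cfsg.Lie.ChevalleyDatum.stX
      rw [dif_pos r.isLt]
      rfl
    rw [e]
    have h1 := hθ r.val t r.isLt
    have h2 := (stModel (K := K) hD).hπ r.val r.isLt t
    rw [MonoidHom.comp_apply, Subgroup.coe_subtype, h1]
    exact h2.symm
  intro k hk
  have hk' : k ∈ (stModel (K := K) hD).π.ker := by
    rw [MonoidHom.mem_ker, ← hcomp, MonoidHom.comp_apply, MonoidHom.mem_ker.mp hk, map_one]
  have h := ker_le_Hbar_main (stModel (K := K) hD) hD hgen hk'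
  have hset : {g : D.SteinbergGroup K | ∃ (i : ℕ) (t : K), i < D.rank ∧ t ≠ 0 ∧
        g = (stModel (K := K) hD).hbar (D.simple i) t}
      = {h | ∃ (i : ℕ) (t : K), i < D.rank ∧ t ≠ 0 ∧
        h = PresentedGroup.mk (D.steinbergRels K) (D.stH (D.simple i) t)} := by
    ext g
    constructor
    · rintro ⟨i, t, hi, ht, rfl⟩
      exact ⟨i, t, hi, ht, stModel_hbar hD _ t⟩
    · rintro ⟨i, t, hi, ht, rfl⟩
      exact ⟨i, t, hi, ht, (stModel_hbar hD _ t).symm⟩
  unfold Model.Hbar at h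
  rw [hset] at h
  exact h

end Cfsg.Agent.S1097
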