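import Cfsg.Statements.S1118
import Cfsg.Agent.Lib.Helper19.RankOne

set_option autoImplicit false
open Cfsg

namespace Cfsg.Agent.S1118

open Cfsg.Agent.Lib.Helper19

/-- `Q` has a non-identity element. -/
theorem exists_ne_one {G Ω : Type*} [Group G] [Finite G] [MulAction G Ω] {a : Ω} {t : G} {Q : Subgroup G}
    (hS : Cfsg.IsRankOneSetup G Ω a t Q) : ∃ x ∈ Q, x ≠ 1 := by
  by_contra h
  have hQ : Q = ⊥ := by
    rw [Subgroup.eq_bot_iff_forall]
    intro x hx
    by_contra hx1
    exact h ⟨x, hx, hx1⟩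
  have := hS.even_card
  rw [hQ, Subgroup.card_bot] at this
  exact absurd this (by decide)

/-- In the rank-one set-up (`G` finite and doubly transitive on `Ω`, `t` an involution moving `a`, `Q` normal in `G_a` with `G_a = Q D`, `Q ⊓ D = 1` for the two-point stabiliser `D = G_a ⊓ G_{t • a}`, `|Q|` even, `|D|` odd), the normaliser of a subset of `Q` containing a non-identity element lies in `G_a`; consequently `N_G(Q) = N_G(G_a) = G_a`. -/
theorem result {G Ω : Type*} [Group G] [Finite G] [MulAction G Ω] {a : Ω} {t : G} {Q : Subgroup G}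
    (hS : Cfsg.IsRankOneSetup G Ω a t Q) :
    (∀ X : Set G, X ⊆ (Q : Set G) → (∃ x ∈ X, x ≠ 1) → Subgroup.normalizer X ≤ MulAction.stabilizer G a) ∧
      Subgroup.normalizer (Q : Set G) = MulAction.stabilizer G a ∧
      Subgroup.normalizer (MulAction.stabilizer G a : Set G) = MulAction.stabilizer G a := by
  have part1 : ∀ X : Set G, X ⊆ (Q : Set G) → (∃ x ∈ X, x ≠ 1) →
      Subgroup.normalizer X ≤ MulAction.stabilizer G a := by
    intro X hXQ ⟨x, hxX, hx1⟩ g hg
    rw [Subgroup.mem_set_normalizer_iff] at hg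
    have h1 : g * x * g⁻¹ ∈ X := (hg x).1 hxX
    have h2 : g * x * g⁻¹ ∈ Q := hXQ h1
    have h3 : g * x * g⁻¹ ≠ 1 := by
      intro h
      apply hx1
      calc x = g⁻¹ * (g * x * g⁻¹) * g := by group
        _ = 1 := by rw [h]; group
    have h4 : (g * x * g⁻¹) • (g • a) = g • a := by
      rw [smul_smul, mul_assoc, mul_assoc, inv_mul_cancel, mul_one, mul_smul, ro_Q_fix hS (hXQ hxX)]
    rw [MulAction.mem_stabilizer_iff]
    exact (ro_Q_fix_iff hS h2 h3 (g • a)).1 h4
  obtain ⟨x0, hx0Q, hx01⟩ := exists_ne_one hS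
  refine ⟨part1, ?_, ?_⟩
  · apply le_antisymm
    · exact part1 (Q : Set G) (le_refl _) ⟨x0, hx0Q, hx01⟩
    · intro g hg
      rw [Subgroup.mem_set_normalizer_iff]
      intro h
      constructor
      · intro hh
        exact hS.conj_mem g hg h hh
      · intro hh
        have := hS.conj_mem g⁻¹ (Subgroup.inv_mem _ hg) _ hh
        have e : g⁻¹ * (g * h * g⁻¹) * g⁻¹⁻¹ = h := by group
        rw [e] at this
        exact this
  · apply le_antisymm
    · intro g hg
      rw [Subgroup.mem_set_normalizer_iff] at hg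
      have h1 : g⁻¹ * x0 * g ∈ (MulAction.stabilizer G a : Set G) := by
        rw [hg (g⁻¹ * x0 * g)]
        have e : g * (g⁻¹ * x0 * g) * g⁻¹ = x0 := by group
        rw [e]
        exact hS.le hx0Q
      have h2 : x0 • (g • a) = g • a := by
        have h3 : (g⁻¹ * x0 * g) • a = a := MulAction.mem_stabilizer_iff.1 h1
        calc x0 • (g • a) = g • ((g⁻¹ * x0 * g) • a) := by
              rw [smul_smul, smul_smul]; congr 1; group
          _ = g • a := by rw [h3]
      rw [MulAction.mem_stabilizer_iff]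
      exact (ro_Q_fix_iff hS hx0Q hx01 (g • a)).1 h2
    · exact Subgroup.le_normalizer

end Cfsg.Agent.S1118
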