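import Cfsg.Statements.S1120
import Cfsg.Agent.S0058
import Cfsg.Agent.Lib.Helper19.RankOneInvol

set_option autoImplicit false
open Cfsg

namespace Cfsg.Agent.S1120

open Cfsg.Agent.Lib.Helper19

section Klein

variable {G : Type*} [Group G]

/-- the four-group generated by two commuting involutions -/
def kleinSub (x y : G) (hx : x * x = 1) (hy : y * y = 1) (hxy : x * y = y * x) : Subgroup G where
  carrier := {1, x, y, x * y}
  one_mem' := by simp
  mul_mem' := by
    have hx' : ∀ z : G, x * (x * z) = z := fun z => by rw [← mul_assoc, hx, one_mul]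
    have hy' : ∀ z : G, y * (y * z) = z := fun z => by rw [← mul_assoc, hy, one_mul]
    have hc' : ∀ z : G, y * (x * z) = x * (y * z) := fun z => by
      rw [← mul_assoc, ← hxy, mul_assoc]
    rintro a b (rfl | rfl | rfl | rfl) (rfl | rfl | rfl | rfl) <;>
      simp [mul_assoc, hx, hy, hx', hy', hc', ← hxy]
  inv_mem' := by
    have hxi : x⁻¹ = x := inv_eq_of_mul_eq_one_left hx
    have hyi : y⁻¹ = y := inv_eq_of_mul_eq_one_left hy
    rintro a (rfl | rfl | rfl | rfl)
    · simp
    · simp [hxi]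
    · simp [hyi]
    · simp [mul_inv_rev, hxi, hyi, ← hxy]

theorem mem_kleinSub {x y : G} {hx : x * x = 1} {hy : y * y = 1} {hxy : x * y = y * x} {g : G} :
    g ∈ kleinSub x y hx hy hxy ↔ g = 1 ∨ g = x ∨ g = y ∨ g = x * y := Iff.rfl

theorem kleinSub_sq {x y : G} {hx : x * x = 1} {hy : y * y = 1} {hxy : x * y = y * x} {g : G}
    (hg : g ∈ kleinSub x y hx hy hxy) : g * g = 1 := by
  rcases mem_kleinSub.1 hg with rfl | rfl | rfl | rfl
  · simp
  · exact hx
  · exact hy
  · calc x * y * (x * y) = x * (y * x) * y := by group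
      _ = x * (x * y) * y := by rw [← hxy]
      _ = (x * x) * (y * y) := by group
      _ = 1 := by rw [hx, hy, one_mul]

theorem kleinSub_comm {x y : G} {hx : x * x = 1} {hy : y * y = 1} {hxy : x * y = y * x} {g : G}
    (hg : g ∈ kleinSub x y hx hy hxy) : x * g = g * x := by
  rcases mem_kleinSub.1 hg with rfl | rfl | rfl | rfl
  · simp
  · rfl
  · exact hxy
  · calc x * (x * y) = x * (y * x) := by rw [hxy]
      _ = x * y * x := by group

theorem kleinSub_commutative {x y : G} {hx : x * x = 1} {hy : y * y = 1} {hxy : x * y = y * x} :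
    IsMulCommutative (kleinSub x y hx hy hxy) := by
  refine ⟨⟨?_⟩⟩
  rintro ⟨g, hg⟩ ⟨h, hh⟩
  apply Subtype.ext
  show g * h = h * g
  -- in a group of exponent 2 everything commutes
  have h1 := kleinSub_sq hg
  have h2 := kleinSub_sq hh
  have h3 := kleinSub_sq ((kleinSub x y hx hy hxy).mul_mem hg hh)
  have hgi : g⁻¹ = g := inv_eq_of_mul_eq_one_left h1
  have hhi : h⁻¹ = h := inv_eq_of_mul_eq_one_left h2
  calc g * h = (g * h)⁻¹ := (inv_eq_of_mul_eq_one_left h3).symm
    _ = h * g := by rw [mul_inv_rev, hgi, hhi]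

theorem kleinSub_not_cyclic {x y : G} {hx : x * x = 1} {hy : y * y = 1} {hxy : x * y = y * x}
    (hx1 : x ≠ 1) (hy1 : y ≠ 1) (hne : x ≠ y) : ¬ IsCyclic (kleinSub x y hx hy hxy) := by
  rintro ⟨gen, hgen⟩
  have hg2 : gen ^ (2 : ℤ) = 1 := by
    have := kleinSub_sq gen.2
    rw [zpow_two]
    exact Subtype.ext this
  -- every element is 1 or the generator
  have key : ∀ z : kleinSub x y hx hy hxy, z = 1 ∨ z = gen := by
    intro z
    obtain ⟨n, hn⟩ := hgen z
    have hn' : gen ^ n = z := hn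
    rcases Int.even_or_odd' n with ⟨k, rfl | rfl⟩
    · left
      rw [← hn', zpow_mul, hg2, one_zpow]
    · right
      rw [← hn', zpow_add, zpow_one, zpow_mul, hg2, one_zpow, one_mul]
  have hxm : x ∈ kleinSub x y hx hy hxy := mem_kleinSub.2 (Or.inr (Or.inl rfl))
  have hym : y ∈ kleinSub x y hx hy hxy := mem_kleinSub.2 (Or.inr (Or.inr (Or.inl rfl)))
  rcases key ⟨x, hxm⟩ with h | h
  · exact hx1 (congrArg Subtype.val h)
  · rcases key ⟨y, hym⟩ with h' | h'
    · exact hy1 (congrArg Subtype.val h')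
    · have e1 : x = (gen : G) := congrArg Subtype.val h
      have e2 : y = (gen : G) := congrArg Subtype.val h'
      exact hne (e1.trans e2.symm)

theorem kleinSub_pgroup {x y : G} {hx : x * x = 1} {hy : y * y = 1} {hxy : x * y = y * x} :
    IsPGroup 2 (kleinSub x y hx hy hxy) := by
  intro g
  refine ⟨1, ?_⟩
  apply Subtype.ext
  have := kleinSub_sq g.2
  simpa [pow_two] using this

end Klein

section Main

universe u v
variable {G : Type u} {Ω : Type v} [Group G] [Finite G] [MulAction G Ω] {a : Ω} {t : G} {Q : Subgroup G}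

/-- a normal subgroup of odd order lies in a point stabiliser, given two commuting involutions -/
theorem odd_normal_le_stab (hS : Cfsg.IsRankOneSetup G Ω a t Q)
    {x y : G} (hx1 : x ≠ 1) (hy1 : y ≠ 1) (hne : x ≠ y) (hx : x * x = 1) (hy : y * y = 1)
    (hxy : x * y = y * x) (N : Subgroup G) [hN : N.Normal] (hodd : (Nat.card N).Coprime 2) :
    N ≤ MulAction.stabilizer G a := by
  -- the fixed point of x
  obtain ⟨c, hc⟩ := ro_invol_fix hS hx1 hx
  have hxc : x • c = c := (hc c).2 rfl
  set A := kleinSub x y hx hy hxy with hA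
  have : IsMulCommutative A := kleinSub_commutative
  have hAnc : ¬ IsCyclic A := kleinSub_not_cyclic hx1 hy1 hne
  have hAN : A ≤ Subgroup.normalizer (N : Set G) := by
    rw [Subgroup.normalizer_eq_top]
    exact le_top
  have hcop : (Nat.card A).Coprime (Nat.card N) := by
    obtain ⟨k, hk⟩ := (IsPGroup.iff_card (p := 2)).1 (kleinSub_pgroup (x := x) (y := y) (hx := hx) (hy := hy) (hxy := hxy))
    rw [← hA] at hk
    rw [hk]
    exact Nat.Coprime.pow_left k hodd.symm
  have hgen := Cfsg.Agent.S0058.result A N hAnc hAN hcop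
  -- each piece lies in the stabiliser of c
  have hpiece : ∀ a' ∈ {a' : G | a' ∈ A ∧ a' ≠ 1}, N ⊓ Subgroup.centralizer {a'} ≤ MulAction.stabilizer G c := by
    rintro a' ⟨ha'A, ha'1⟩ g ⟨_, hgC⟩
    have ha'2 : a' * a' = 1 := kleinSub_sq ha'A
    have hcomm : x * a' = a' * x := kleinSub_comm ha'A
    have ha'c : a' • c = c := ro_comm_fix hS hx1 hx ha'1 ha'2 hcomm hxc
    -- the only fixed point of a' is c
    obtain ⟨c', hc'⟩ := ro_invol_fix hS ha'1 ha'2
    have hcc' : c = c' := (hc' c).1 ha'c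
    have hga : a' * g = g * a' := (Subgroup.mem_centralizer_iff.1 hgC) a' (Set.mem_singleton a')
    have h1 : a' • (g • c) = g • c := by
      rw [smul_smul, hga, mul_smul, ha'c]
    rw [MulAction.mem_stabilizer_iff]
    rw [hcc']
    rw [hcc'] at h1
    exact (hc' _).1 h1
  have hNc : N ≤ MulAction.stabilizer G c := by
    rw [← hgen]
    exact iSup₂_le hpiece
  -- move c to a
  have := ro_pretransitive hS
  obtain ⟨g, hg⟩ := MulAction.exists_smul_eq G c a
  intro n hn
  have h1 : g⁻¹ * n * g⁻¹⁻¹ ∈ N := hN.conj_mem n hn g⁻¹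
  have h2 := hNc h1
  rw [MulAction.mem_stabilizer_iff] at h2 ⊢
  rw [inv_inv] at h2
  have h3 : g • ((g⁻¹ * n * g) • c) = g • c := by rw [h2]
  rw [smul_smul, hg] at h3
  have e : g * (g⁻¹ * n * g) = n * g := by group
  rw [e, mul_smul, hg] at h3
  exact h3

/-- the core of the point stabiliser has odd order -/
theorem core_odd (hS : Cfsg.IsRankOneSetup G Ω a t Q) :
    (Nat.card (MulAction.stabilizer G a).normalCore).Coprime 2 := by
  have hle : (MulAction.stabilizer G a).normalCore ≤ roD G a t := by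
    intro g hg
    refine ⟨Subgroup.normalCore_le _ hg, MulAction.mem_stabilizer_iff.2 ?_⟩
    have h1 : t⁻¹ * g * t⁻¹⁻¹ ∈ MulAction.stabilizer G a := hg t⁻¹
    rw [MulAction.mem_stabilizer_iff] at h1
    rw [inv_inv, ro_tinv hS] at h1
    have h2 : t • ((t * g * t) • a) = t • a := by rw [h1]
    rw [smul_smul] at h2
    have e : t * (t * g * t) = (t * t) * g * t := by group
    rw [e, hS.mul_self, one_mul, mul_smul] at h2
    exact h2
  have hdvd : Nat.card (MulAction.stabilizer G a).normalCore ∣ Nat.card (roD G a t) :=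
    Subgroup.card_dvd_of_le hle
  have hodd := hS.odd_card
  rw [Nat.coprime_two_right]
  exact Odd.of_dvd_nat hodd hdvd

theorem core_main (hS : Cfsg.IsRankOneSetup G Ω a t Q)
    (h2 : ∃ x y : G, x ≠ 1 ∧ y ≠ 1 ∧ x ≠ y ∧ x * x = 1 ∧ y * y = 1 ∧ x * y = y * x) :
    Cfsg.pPrimeCore 2 G = (MulAction.stabilizer G a).normalCore := by
  obtain ⟨x, y, hx1, hy1, hne, hx, hy, hxy⟩ := h2
  apply le_antisymm
  · apply sSup_le
    rintro N ⟨hN, hodd⟩
    have := hN
    rw [Subgroup.normal_le_normalCore]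
    exact odd_normal_le_stab hS hx1 hy1 hne hx hy hxy N hodd
  · apply le_sSup
    exact ⟨inferInstance, core_odd hS⟩

end Main


/-- In the rank-one set-up (`G` finite and doubly transitive on `Ω`, `t` an involution moving `a`, `Q` normal in `G_a` with `G_a = Q D`, `Q ⊓ D = 1` for the two-point stabiliser `D = G_a ⊓ G_{t • a}`, `|Q|` even, `|D|` odd), if `G` has 2-rank at least 2 then `O_{2'}(G)` equals the normal core of `G_a`. -/
theorem result {G Ω : Type*} [Group G] [Finite G] [MulAction G Ω] {a : Ω} {t : G} {Q : Subgroup G}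
    (hS : Cfsg.IsRankOneSetup G Ω a t Q)
    (h2 : ∃ x y : G, x ≠ 1 ∧ y ≠ 1 ∧ x ≠ y ∧ x * x = 1 ∧ y * y = 1 ∧ x * y = y * x) :
    Cfsg.pPrimeCore 2 G = (MulAction.stabilizer G a).normalCore := by
  exact core_main hS h2

end Cfsg.Agent.S1120
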