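import Cfsg.Statements.S1158
-- import your own Cfsg.Agent.* helpers here
import Cfsg.Agent.Lib.Helper61.ReeW2.Main
import Cfsg.Agent.S1101

set_option autoImplicit false
open Cfsg

namespace Cfsg.Agent.S1158

/-- In the small Ree group ²G₂(q), q = 3^(2m+1) with m ≥ 1, realised as G¹ inside the Chevalley group G₂ over the field with q elements (θ the 3^m-th power map), with `r = 3^(m+1)` (so `r² = 3q`): for each `k ∈ {(q-1)/2, (q+1)/4, q - r + 1, q + r + 1}` there is a cyclic subgroup `A` of order `k` whose normaliser has order `2(q-1)`, `6(q+1)`, `6(q-r+1)`, `6(q+r+1)` respectively, and `N(A₀) = N(A)` for every non-trivial `A₀ ≤ A`. -/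
theorem result {K : Type*} [Field K] [Fintype K] {m : ℕ} (hm : 1 ≤ m) (hK : Fintype.card K = 3 ^ (2 * m + 1)) :
    ∀ kn ∈ ({((3 ^ (2 * m + 1) - 1) / 2, 2 * (3 ^ (2 * m + 1) - 1)), ((3 ^ (2 * m + 1) + 1) / 4, 6 * (3 ^ (2 * m + 1) + 1)),
        (3 ^ (2 * m + 1) - 3 ^ (m + 1) + 1, 6 * (3 ^ (2 * m + 1) - 3 ^ (m + 1) + 1)),
        (3 ^ (2 * m + 1) + 3 ^ (m + 1) + 1, 6 * (3 ^ (2 * m + 1) + 3 ^ (m + 1) + 1))} : Set (ℕ × ℕ)),
      ∃ A : Subgroup ↥(Cfsg.Lie.twistedG2 K (3 ^ m)), IsCyclic A ∧ Nat.card A = kn.1 ∧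
        Nat.card (Subgroup.normalizer (A : Set ↥(Cfsg.Lie.twistedG2 K (3 ^ m)))) = kn.2 ∧
        ∀ A₀ : Subgroup ↥(Cfsg.Lie.twistedG2 K (3 ^ m)), A₀ ≤ A → A₀ ≠ ⊥ →
          Subgroup.normalizer (A₀ : Set ↥(Cfsg.Lie.twistedG2 K (3 ^ m))) = Subgroup.normalizer (A : Set ↥(Cfsg.Lie.twistedG2 K (3 ^ m))) := by
  haveI : CharP K 3 := Cfsg.Agent.S1101.charP_three hK
  intro kn hkn
  simp only [Set.mem_insert_iff, Set.mem_singleton_iff] at hkn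
  rcases hkn with rfl | rfl | rfl | rfl
  · exact Cfsg.Agent.Lib.Helper61.ReeW2.torus_sub_one hm hK
  · exact (Cfsg.Agent.Lib.Helper61.ReeW2.four_torus_ree hm hK).1
  · obtain ⟨x, hx1, hxN, hc⟩ := (Cfsg.Agent.Lib.Helper61.ReeW2.N_tori hm hK).2.1
    refine ⟨Subgroup.centralizer {x}, (Cfsg.Agent.Lib.Helper61.ReeW2.N_struct hm hK x hx1 hxN).1, hc, ?_,
      Cfsg.Agent.Lib.Helper61.ReeW2.torus_of_centralizer hm hK x hx1 hxN⟩
    rw [((Cfsg.Agent.Lib.Helper61.ReeW2.N_tori hm hK).1 x hx1 hxN).2, hc]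
  · obtain ⟨x, hx1, hxN, hc⟩ := (Cfsg.Agent.Lib.Helper61.ReeW2.N_tori hm hK).2.2
    refine ⟨Subgroup.centralizer {x}, (Cfsg.Agent.Lib.Helper61.ReeW2.N_struct hm hK x hx1 hxN).1, hc, ?_,
      Cfsg.Agent.Lib.Helper61.ReeW2.torus_of_centralizer hm hK x hx1 hxN⟩
    rw [((Cfsg.Agent.Lib.Helper61.ReeW2.N_tori hm hK).1 x hx1 hxN).2, hc]

end Cfsg.Agent.S1158
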