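import Cfsg.Statements.S1159
-- import your own Cfsg.Agent.* helpers here
import Cfsg.Agent.Lib.Helper61.ReeW2.Main
import Cfsg.Agent.S1101

set_option autoImplicit false
open Cfsg

namespace Cfsg.Agent.S1159

/-- A positive count gives an element. -/
theorem exists_of_card_pos {α : Type*} (P : α → Prop) (h : 0 < Nat.card {x : α // P x}) : ∃ x : α, P x := by
  have hne : Nonempty {x : α // P x} := by
    by_contra hcon
    rw [not_nonempty_iff] at hcon
    rw [Nat.card_of_isEmpty] at h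
    omega
  obtain ⟨x⟩ := hne
  exact ⟨x.1, x.2⟩

/-- In the small Ree group ²G₂(q), q = 3^(2m+1) with m ≥ 1, realised as G¹ inside the Chevalley group G₂ over the field with q elements (θ the 3^m-th power map), with `r = 3^(m+1)`: a natural number is the order of an element of `G¹` iff it divides one of `6`, `9`, `q - 1`, `(q + 1)/2`, `q - r + 1`, `q + r + 1`. -/
theorem result {K : Type*} [Field K] [Fintype K] {m : ℕ} (hm : 1 ≤ m) (hK : Fintype.card K = 3 ^ (2 * m + 1)) (d : ℕ) :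
    (∃ g : ↥(Cfsg.Lie.twistedG2 K (3 ^ m)), orderOf g = d) ↔
      (d ∣ 6 ∨ d ∣ 9 ∨ d ∣ 3 ^ (2 * m + 1) - 1 ∨ d ∣ (3 ^ (2 * m + 1) + 1) / 2 ∨
        d ∣ 3 ^ (2 * m + 1) - 3 ^ (m + 1) + 1 ∨ d ∣ 3 ^ (2 * m + 1) + 3 ^ (m + 1) + 1) := by
  haveI : CharP K 3 := Cfsg.Agent.S1101.charP_three hK
  have hq := Cfsg.Agent.Lib.Helper61.ReeW2.q_ge m hm
  have h8 := Cfsg.Agent.Lib.Helper61.ReeW2.q_mod_eight m
  constructor
  · rintro ⟨g, rfl⟩
    rcases Cfsg.Agent.Lib.Helper61.ReeW2.order_cases hm hK g with h | h | h | h | h | h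
    · exact Or.inr (Or.inl (orderOf_dvd_of_pow_eq_one h))
    · exact Or.inl (h ▸ dvd_rfl)
    · left
      rw [h]
      norm_num
    · exact Or.inr (Or.inr (Or.inl (orderOf_dvd_of_pow_eq_one h.2)))
    · exact Or.inr (Or.inr (Or.inr (Or.inl (orderOf_dvd_of_pow_eq_one h.2))))
    · have hgC : g ∈ Subgroup.centralizer ({g} : Set ↥(Cfsg.Lie.twistedG2 K (3 ^ m))) :=
        Subgroup.mem_centralizer_singleton_iff.mpr rfl
      have hd := Subgroup.orderOf_dvd_natCard _ hgC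
      rcases ((Cfsg.Agent.Lib.Helper61.ReeW2.N_tori hm hK).1 g h.1 h.2).1 with hc | hc
      · rw [hc] at hd
        exact Or.inr (Or.inr (Or.inr (Or.inr (Or.inl hd))))
      · rw [hc] at hd
        exact Or.inr (Or.inr (Or.inr (Or.inr (Or.inr hd))))
  · have hGpos : 0 < Nat.card ↥(Cfsg.Lie.twistedG2 K (3 ^ m)) := Nat.card_pos
    rintro (h | h | h | h | h | h)
    · have hpos : 0 < Nat.card {x : ↥(Cfsg.Lie.twistedG2 K (3 ^ m)) // orderOf x = 6} := by
        rw [Cfsg.Agent.Lib.Helper61.ReeW2.card_order_six hm hK]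
        have h1 : 0 < 3 ^ (2 * m + 1) - 1 := by omega
        positivity
      obtain ⟨x, hx⟩ := exists_of_card_pos _ hpos
      exact Cfsg.Agent.Lib.Helper61.ReeW2.exists_orderOf_of_dvd x d (hx ▸ h)
    · obtain ⟨x, hx⟩ := Cfsg.Agent.Lib.Helper61.ReeW2.exists_order_nine (K := K) (m := m) hK
      exact Cfsg.Agent.Lib.Helper61.ReeW2.exists_orderOf_of_dvd x d (hx ▸ h)
    · apply Cfsg.Agent.Lib.Helper61.ReeW2.exists_orderOf_of_cyclic (Cfsg.Agent.Lib.Helper61.ReeW.Hs K m)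
        (Cfsg.Agent.Lib.Helper61.ReeW.isCyclic_Hs hK) d
      rw [Cfsg.Agent.Lib.Helper61.ReeW.card_Hs hK]
      exact h
    · obtain ⟨k, hkodd, hk1, hk4, hkdiv, hk2⟩ := Cfsg.Agent.Lib.Helper61.ReeW2.k_one_facts m hm
      have hcount := ((Cfsg.Agent.Lib.Helper61.ReeW2.four_torus_ree hm hK).2.1 k hk1 (by rw [hkdiv])).2
      have hpos : 0 < Nat.card {x : ↥(Cfsg.Lie.twistedG2 K (3 ^ m)) // orderOf x = 2 * k} := by
        by_contra hcon
        have h0 : Nat.card {x : ↥(Cfsg.Lie.twistedG2 K (3 ^ m)) // orderOf x = 2 * k} = 0 := by omega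
        rw [h0, zero_mul] at hcount
        have : 0 < 3 * Nat.totient k * Nat.card ↥(Cfsg.Lie.twistedG2 K (3 ^ m)) := by
          have := Nat.totient_pos.mpr (show 0 < k by omega)
          positivity
        omega
      obtain ⟨x, hx⟩ := exists_of_card_pos _ hpos
      rw [hk2] at h
      exact Cfsg.Agent.Lib.Helper61.ReeW2.exists_orderOf_of_dvd x d (hx ▸ h)
    · obtain ⟨x, hx1, hxN, hc⟩ := (Cfsg.Agent.Lib.Helper61.ReeW2.N_tori hm hK).2.1
      exact Cfsg.Agent.Lib.Helper61.ReeW2.exists_orderOf_of_cyclic _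
        (Cfsg.Agent.Lib.Helper61.ReeW2.N_struct hm hK x hx1 hxN).1 d (hc ▸ h)
    · obtain ⟨x, hx1, hxN, hc⟩ := (Cfsg.Agent.Lib.Helper61.ReeW2.N_tori hm hK).2.2
      exact Cfsg.Agent.Lib.Helper61.ReeW2.exists_orderOf_of_cyclic _
        (Cfsg.Agent.Lib.Helper61.ReeW2.N_struct hm hK x hx1 hxN).1 d (hc ▸ h)

end Cfsg.Agent.S1159
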