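import Cfsg.Statements.S1163
import Mathlib
import Cfsg.Agent.Lib.Helper95.SzIso
import Cfsg.Agent.S2247
set_option autoImplicit false
open Cfsg

namespace Cfsg.Agent.S1163

open MulAction

section general

variable {G' Ω : Type*} [Group G'] [MulAction G' Ω]

theorem two_trans_quot (ω : Ω) (h2 : IsMultiplyPretransitive G' Ω 2) :
    IsMultiplyPretransitive G' (G' ⧸ stabilizer G' ω) 2 := by
  rw [is_two_pretransitive_iff] at h2 ⊢
  intro a b c d hab hcd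
  have hinj := injective_ofQuotientStabilizer G' ω
  obtain ⟨g, h1, h2'⟩ := h2 (hinj.ne hab) (hinj.ne hcd)
  refine ⟨g, hinj ?_, hinj ?_⟩
  · rw [ofQuotientStabilizer_smul, h1]
  · rw [ofQuotientStabilizer_smul, h2']

theorem regular_quot (ω : Ω) (S : Subgroup G')
    (hreg : ∀ p q : Ω, p ≠ ω → q ≠ ω → ∃! s : S, (s : G') • p = q) :
    ∀ x y : G' ⧸ stabilizer G' ω, x ≠ (QuotientGroup.mk 1) → y ≠ (QuotientGroup.mk 1) →
      ∃! s : S, (s : G') • x = y := by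
  intro x y hx hy
  have hinj := injective_ofQuotientStabilizer G' ω
  have h1 : ofQuotientStabilizer G' ω (QuotientGroup.mk 1) = ω := by
    rw [ofQuotientStabilizer_mk, one_smul]
  have hx' : ofQuotientStabilizer G' ω x ≠ ω := fun h => hx (hinj (h.trans h1.symm))
  have hy' : ofQuotientStabilizer G' ω y ≠ ω := fun h => hy (hinj (h.trans h1.symm))
  obtain ⟨s, hs, hu⟩ := hreg _ _ hx' hy'
  refine ⟨s, ?_, ?_⟩
  · apply hinj
    rw [ofQuotientStabilizer_smul]; exact hs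
  · intro t ht
    apply hu
    show (t : G') • ofQuotientStabilizer G' ω x = ofQuotientStabilizer G' ω y
    rw [← ofQuotientStabilizer_smul, ht]

theorem core (ω : Ω) (S : Subgroup G') (N' : Subgroup G') (hN : N' = stabilizer G' ω)
    (h2 : IsMultiplyPretransitive G' Ω 2)
    (hreg : ∀ p q : Ω, p ≠ ω → q ≠ ω → ∃! s : S, (s : G') • p = q) :
    IsMultiplyPretransitive G' (G' ⧸ N') 2 ∧
    ∀ x y : G' ⧸ N', x ≠ (QuotientGroup.mk 1) → y ≠ (QuotientGroup.mk 1) →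
      ∃! s : S, (s : G') • x = y := by
  subst hN
  exact ⟨two_trans_quot ω h2, regular_quot ω S hreg⟩

end general

open Cfsg.Agent.Lib.Helper6 Cfsg.Agent.Lib.Helper95 Cfsg.Agent.S2247

section main

variable {F : Type*} [Field F] [Fintype F] [CharP F 2] {m : ℕ}
variable (hσ : SgSq (F := F) m)

/-- regular action of `T` on the affine points. -/
theorem regular_T (p q : suzukiOvoid F m) (hp : p ≠ infPt F m) (hq : q ≠ infPt F m) :
    ∃! t : szTsub hσ, (t : Sz F m) • p = q := by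
  rcases ovoid_cases p with rfl | ⟨x, y, rfl⟩
  · exact absurd rfl hp
  rcases ovoid_cases q with rfl | ⟨x', y', rfl⟩
  · exact absurd rfl hq
  obtain ⟨t, ht, htt⟩ := exists_tz_smul hσ x y x' y'
  refine ⟨⟨t, ht⟩, htt, ?_⟩
  rintro ⟨u, hu⟩ huu
  apply Subtype.ext
  show u = t
  obtain ⟨a, b, rfl⟩ := (mem_szTsub_iff hσ u).mp hu
  obtain ⟨c, d, rfl⟩ := (mem_szTsub_iff hσ t).mp ht
  have huu' : tz hσ a b • affPt m x y = affPt m x' y' := huu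
  rw [tz_smul_aff] at huu' htt
  obtain ⟨e1, e2⟩ := affPt_inj (huu'.trans htt.symm)
  have hac : a = c := add_left_cancel e1
  subst hac
  have hbd : b = d := add_left_cancel e2
  subst hbd
  rfl

end main

/-- For the Suzuki group Sz(q), ... -/
theorem result {F : Type*} [Field F] [Fintype F] {m : ℕ} (hm : 1 ≤ m) (hF : Fintype.card F = 2 ^ (2 * m + 1)) :
    Nat.card ↥(Cfsg.Lie.Sz F (2 ^ (m + 1))) = (2 ^ (2 * m + 1)) ^ 2 * (2 ^ (2 * m + 1) - 1) * ((2 ^ (2 * m + 1)) ^ 2 + 1) ∧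
    ∃ S : Sylow 2 ↥(Cfsg.Lie.Sz F (2 ^ (m + 1))),
      Nat.card (Subgroup.normalizer ((S : Subgroup ↥(Cfsg.Lie.Sz F (2 ^ (m + 1)))) : Set ↥(Cfsg.Lie.Sz F (2 ^ (m + 1))))) = (2 ^ (2 * m + 1)) ^ 2 * (2 ^ (2 * m + 1) - 1) ∧
      (Subgroup.normalizer ((S : Subgroup ↥(Cfsg.Lie.Sz F (2 ^ (m + 1)))) : Set ↥(Cfsg.Lie.Sz F (2 ^ (m + 1))))).index = (2 ^ (2 * m + 1)) ^ 2 + 1 ∧
      MulAction.IsMultiplyPretransitive ↥(Cfsg.Lie.Sz F (2 ^ (m + 1))) (↥(Cfsg.Lie.Sz F (2 ^ (m + 1))) ⧸ Subgroup.normalizer ((S : Subgroup ↥(Cfsg.Lie.Sz F (2 ^ (m + 1)))) : Set ↥(Cfsg.Lie.Sz F (2 ^ (m + 1))))) 2 ∧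
      ∀ x y : ↥(Cfsg.Lie.Sz F (2 ^ (m + 1))) ⧸ Subgroup.normalizer ((S : Subgroup ↥(Cfsg.Lie.Sz F (2 ^ (m + 1)))) : Set ↥(Cfsg.Lie.Sz F (2 ^ (m + 1)))),
        x ≠ (QuotientGroup.mk 1) → y ≠ (QuotientGroup.mk 1) → ∃! s : ↥(S : Subgroup ↥(Cfsg.Lie.Sz F (2 ^ (m + 1)))), (s : ↥(Cfsg.Lie.Sz F (2 ^ (m + 1)))) • x = y := by
  have hchar := sz_charP hF
  have hσ : SgSq (F := F) m := sgSq_of_card m hF
  have hG' := card_lieSz hm hF
  have hG'' : Nat.card ↥(Cfsg.Lie.Sz F (2 ^ (m + 1))) =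
      (2 ^ (2 * m + 1)) ^ 2 * (2 ^ (2 * m + 1) - 1) * ((2 ^ (2 * m + 1)) ^ 2 + 1) := by
    rw [hG']; ring
  refine ⟨hG'', ?_⟩
  let e := szIso hm hF
  let act : MulAction ↥(Cfsg.Lie.Sz F (2 ^ (m + 1))) (suzukiOvoid F m) :=
    MulAction.compHom _ e.symm.toMonoidHom
  have hsm : ∀ (g : ↥(Cfsg.Lie.Sz F (2 ^ (m + 1)))) (p : suzukiOvoid F m),
      g • p = e.symm g • p := fun _ _ => rfl
  let P' : Subgroup ↥(Cfsg.Lie.Sz F (2 ^ (m + 1))) := (szTsub hσ).map e.toMonoidHom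
  have hcardP' : Nat.card P' = 2 ^ (2 * (2 * m + 1)) := by
    rw [Subgroup.card_map_of_injective e.injective, card_szTsub, Nat.card_eq_fintype_card, hF,
      ← pow_mul, mul_comm]
  have hp : IsPGroup 2 P' := IsPGroup.of_card hcardP'
  have he : Even (2 ^ (2 * m + 1)) := Nat.even_pow.mpr ⟨even_two, by omega⟩
  have ho1 : Odd ((2 ^ (2 * m + 1)) ^ 2 + 1) :=
    Even.add_one (Even.pow_of_ne_zero he (by norm_num))
  have ho2 : Odd (2 ^ (2 * m + 1) - 1) := Nat.Even.sub_odd Nat.one_le_two_pow he odd_one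
  have hidx : ¬ 2 ∣ P'.index := by
    have h1 := P'.card_mul_index
    have hG3 : Nat.card ↥(Cfsg.Lie.Sz F (2 ^ (m + 1))) =
        2 ^ (2 * (2 * m + 1)) * (((2 ^ (2 * m + 1)) ^ 2 + 1) * (2 ^ (2 * m + 1) - 1)) := by
      rw [hG', pow_mul', mul_assoc]
    rw [hcardP', hG3] at h1
    have hpos : 0 < 2 ^ (2 * (2 * m + 1)) := pow_pos (by norm_num) _
    have hi : P'.index = ((2 ^ (2 * m + 1)) ^ 2 + 1) * (2 ^ (2 * m + 1) - 1) :=
      Nat.eq_of_mul_eq_mul_left hpos h1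
    rw [hi]
    exact (Nat.odd_mul.mpr ⟨ho1, ho2⟩).not_two_dvd_nat
  let S : Sylow 2 ↥(Cfsg.Lie.Sz F (2 ^ (m + 1))) := hp.toSylow hidx
  have hS : (S : Subgroup ↥(Cfsg.Lie.Sz F (2 ^ (m + 1)))) = P' := hp.toSylow_coe hidx
  have hN1 : Subgroup.normalizer ((S : Subgroup ↥(Cfsg.Lie.Sz F (2 ^ (m + 1)))) : Set ↥(Cfsg.Lie.Sz F (2 ^ (m + 1)))) =
      (stabilizer (Sz F m) (infPt F m)).map e.toMonoidHom := by
    rw [hS]
    show Subgroup.normalizer ((((szTsub hσ).map e.toMonoidHom : Subgroup ↥(Cfsg.Lie.Sz F (2 ^ (m + 1)))) : Set ↥(Cfsg.Lie.Sz F (2 ^ (m + 1))))) = _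
    rw [← Subgroup.map_equiv_normalizer_eq, normalizer_eq hσ hm hF]
  have hN2 : Subgroup.normalizer ((S : Subgroup ↥(Cfsg.Lie.Sz F (2 ^ (m + 1)))) : Set ↥(Cfsg.Lie.Sz F (2 ^ (m + 1)))) =
      stabilizer ↥(Cfsg.Lie.Sz F (2 ^ (m + 1))) (infPt F m) := by
    rw [hN1]
    ext g
    rw [Subgroup.mem_map_equiv, mem_stabilizer_iff, mem_stabilizer_iff]
    rfl
  have hstab : stabilizer (Sz F m) (infPt F m) = stabilizer (Sz F m) (suzukiPointInfinity F) := by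
    ext g
    rw [mem_stabilizer_iff, mem_stabilizer_iff, Subtype.ext_iff]
    rfl
  have hcardN : Nat.card (Subgroup.normalizer ((S : Subgroup ↥(Cfsg.Lie.Sz F (2 ^ (m + 1)))) : Set ↥(Cfsg.Lie.Sz F (2 ^ (m + 1))))) = (2 ^ (2 * m + 1)) ^ 2 * (2 ^ (2 * m + 1) - 1) := by
    rw [hN1, Subgroup.card_map_of_injective e.injective, hstab, card_stab_inf hm hF]
  have hindex : (Subgroup.normalizer ((S : Subgroup ↥(Cfsg.Lie.Sz F (2 ^ (m + 1)))) : Set ↥(Cfsg.Lie.Sz F (2 ^ (m + 1))))).index = (2 ^ (2 * m + 1)) ^ 2 + 1 := by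
    have h1 := (Subgroup.normalizer ((S : Subgroup ↥(Cfsg.Lie.Sz F (2 ^ (m + 1)))) : Set ↥(Cfsg.Lie.Sz F (2 ^ (m + 1))))).card_mul_index
    rw [hcardN, hG''] at h1
    have hpos : 0 < (2 ^ (2 * m + 1)) ^ 2 * (2 ^ (2 * m + 1) - 1) :=
      Nat.mul_pos (pow_pos (pow_pos (by norm_num) _) _) ho2.pos
    exact Nat.eq_of_mul_eq_mul_left hpos h1
  have hZ := Cfsg.Agent.S0327.result hm hF
  have h2 : IsMultiplyPretransitive (Sz F m) (suzukiOvoid F m) 2 := hZ.2.1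
  have h2' : IsMultiplyPretransitive ↥(Cfsg.Lie.Sz F (2 ^ (m + 1))) (suzukiOvoid F m) 2 := by
    rw [is_two_pretransitive_iff] at h2 ⊢
    intro a b c d hab hcd
    obtain ⟨g, h1, h2''⟩ := h2 hab hcd
    refine ⟨e g, ?_, ?_⟩
    · rw [hsm, e.symm_apply_apply, h1]
    · rw [hsm, e.symm_apply_apply, h2'']
  have hreg : ∀ p q : suzukiOvoid F m, p ≠ infPt F m → q ≠ infPt F m →
      ∃! s : (S : Subgroup ↥(Cfsg.Lie.Sz F (2 ^ (m + 1)))), (s : ↥(Cfsg.Lie.Sz F (2 ^ (m + 1)))) • p = q := by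
    intro p q hp' hq'
    obtain ⟨t, ht, hu⟩ := regular_T hσ p q hp' hq'
    have hmem : e (t : Sz F m) ∈ (S : Subgroup ↥(Cfsg.Lie.Sz F (2 ^ (m + 1)))) := by
      rw [hS]; exact Subgroup.mem_map_of_mem _ t.2
    refine ⟨⟨e (t : Sz F m), hmem⟩, ?_, ?_⟩
    · show e (t : Sz F m) • p = q
      rw [hsm, e.symm_apply_apply]; exact ht
    · rintro ⟨s, hs⟩ hss
      have hs' : s ∈ P' := hS ▸ hs
      obtain ⟨u, hu', rfl⟩ := Subgroup.mem_map.mp hs'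
      have := hu ⟨u, hu'⟩ (by
        have h3 : (e.toMonoidHom u) • p = q := hss
        rw [hsm] at h3
        simpa using h3)
      apply Subtype.ext
      show e.toMonoidHom u = e (t : Sz F m)
      rw [← this]; rfl
  obtain ⟨c1, c2⟩ := core (infPt F m) (S : Subgroup ↥(Cfsg.Lie.Sz F (2 ^ (m + 1)))) _ hN2 h2' hreg
  exact ⟨S, hcardN, hindex, c1, c2⟩

end Cfsg.Agent.S1163
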