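import Cfsg.Statements.S1165
-- import your own Cfsg.Agent.* helpers here

set_option autoImplicit false
open Cfsg

namespace Cfsg.Agent.S1165

section helpers

variable {G Ω : Type*} [Group G] [MulAction G Ω] {a : Ω} {t : G} {Q : Subgroup G}

/-- `t` normalises the two-point stabiliser. -/
theorem tDt (hS : Cfsg.IsRankOneSetup G Ω a t Q) {c : G}
    (hc : c ∈ (MulAction.stabilizer G a ⊓ MulAction.stabilizer G (t • a))) :
    t * c * t ∈ (MulAction.stabilizer G a ⊓ MulAction.stabilizer G (t • a)) := by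
  have htt : t • t • a = a := by rw [smul_smul, hS.mul_self, one_smul]
  obtain ⟨hc1, hc2⟩ := Subgroup.mem_inf.mp hc
  rw [MulAction.mem_stabilizer_iff] at hc1 hc2
  refine Subgroup.mem_inf.mpr ⟨?_, ?_⟩
  · rw [MulAction.mem_stabilizer_iff, mul_smul, mul_smul, hc2, htt]
  · rw [MulAction.mem_stabilizer_iff, mul_smul, mul_smul, htt, hc1]

/-- Uniqueness of the canonical form `g h t f`. -/
theorem uniq (hS : Cfsg.IsRankOneSetup G Ω a t Q) {g h f g' h' f' : G}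
    (hg : g ∈ Q) (hh : h ∈ (MulAction.stabilizer G a ⊓ MulAction.stabilizer G (t • a))) (hf : f ∈ Q)
    (hg' : g' ∈ Q) (hh' : h' ∈ (MulAction.stabilizer G a ⊓ MulAction.stabilizer G (t • a))) (hf' : f' ∈ Q)
    (heq : g * h * t * f = g' * h' * t * f') : g = g' ∧ h = h' ∧ f = f' := by
  have htt : t • t • a = a := by rw [smul_smul, hS.mul_self, one_smul]
  obtain ⟨hh1, hh2⟩ := Subgroup.mem_inf.mp hh
  obtain ⟨hh'1, hh'2⟩ := Subgroup.mem_inf.mp hh'
  have hgS : g ∈ MulAction.stabilizer G a := hS.le hg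
  have hgS' : g' ∈ MulAction.stabilizer G a := hS.le hg'
  -- f * f'⁻¹ fixes t • a
  have key : t * (f * f'⁻¹) * t = (g * h)⁻¹ * (g' * h') := by
    have : t * f = (g * h)⁻¹ * (g' * h' * t * f') := by
      rw [← heq]; group
    calc t * (f * f'⁻¹) * t = (t * f) * f'⁻¹ * t := by group
      _ = (g * h)⁻¹ * (g' * h' * t * f') * f'⁻¹ * t := by rw [this]
      _ = (g * h)⁻¹ * (g' * h') * (t * t) := by group
      _ = (g * h)⁻¹ * (g' * h') := by rw [hS.mul_self, mul_one]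
  have hstab : (g * h)⁻¹ * (g' * h') ∈ MulAction.stabilizer G a :=
    mul_mem (inv_mem (mul_mem hgS hh1)) (mul_mem hgS' hh'1)
  rw [← key, MulAction.mem_stabilizer_iff, mul_smul, mul_smul] at hstab
  have hff : f * f'⁻¹ ∈ MulAction.stabilizer G (t • a) := by
    rw [MulAction.mem_stabilizer_iff]
    have := congrArg (fun w => t • w) hstab
    rw [smul_smul t t, hS.mul_self, one_smul] at this
    exact this
  have hff1 : f * f'⁻¹ = 1 := by
    have : f * f'⁻¹ ∈ Q ⊓ MulAction.stabilizer G (t • a) :=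
      Subgroup.mem_inf.mpr ⟨mul_mem hf (inv_mem hf'), hff⟩
    rw [hS.inf_eq_bot] at this
    exact this
  have hfeq : f = f' := by
    have := mul_inv_eq_one.mp hff1
    exact this
  subst hfeq
  have h2 : g * h = g' * h' := by
    have := mul_right_cancel heq
    exact mul_right_cancel this
  have h3 : g'⁻¹ * g = h' * h⁻¹ := by
    calc g'⁻¹ * g = g'⁻¹ * (g * h) * h⁻¹ := by group
      _ = g'⁻¹ * (g' * h') * h⁻¹ := by rw [h2]
      _ = h' * h⁻¹ := by group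
  have h4 : g'⁻¹ * g ∈ Q ⊓ MulAction.stabilizer G (t • a) := by
    refine Subgroup.mem_inf.mpr ⟨mul_mem (inv_mem hg') hg, ?_⟩
    rw [h3]
    exact mul_mem hh'2 (inv_mem hh2)
  rw [hS.inf_eq_bot] at h4
  have hgeq : g = g' := by
    have : g'⁻¹ * g = 1 := h4
    exact (inv_mul_eq_one.mp this).symm
  subst hgeq
  exact ⟨rfl, mul_left_cancel h2, rfl⟩

end helpers

/-- In the rank-one set-up (`G` finite and doubly transitive on `Ω`, `t` an involution moving `a`, `Q` normal in `G_a` with `G_a = Q D`, `Q ⊓ D = 1` for the two-point stabiliser `D = G_a ⊓ G_{t • a}`, `|Q|` even, `|D|` odd): every `x ∈ Q`, `x ≠ 1`, determines unique `g, f ∈ Q`, `h ∈ D` with `t x t = g h t f` (a consequence of the canonical form). For these: (H1) the `f`-part of `x⁻¹` is `g⁻¹`; (H2) the `f`-part of `f` is `x`; (H3) for `a ∈ D` the `f`-part of `a⁻¹ x a` is `(t a t)⁻¹ f (t a t)`; (H4) the `h`-part of `a⁻¹ x a` is `(t a t)⁻¹ h a`,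 that of `x⁻¹` is `t h⁻¹ t`, and that of `f` is `h⁻¹`. -/
theorem result {G Ω : Type*} [Group G] [Finite G] [MulAction G Ω] {a : Ω} {t : G} {Q : Subgroup G}
    (hS : Cfsg.IsRankOneSetup G Ω a t Q)
    (x g h f : G) (hx : x ∈ Q) (hx1 : x ≠ 1) (hg : g ∈ Q) (hh : h ∈ (MulAction.stabilizer G a ⊓ MulAction.stabilizer G (t • a))) (hf : f ∈ Q)
    (heq : t * x * t = g * h * t * f) :
    (∀ g₁ h₁ f₁ : G, g₁ ∈ Q → h₁ ∈ (MulAction.stabilizer G a ⊓ MulAction.stabilizer G (t • a)) → f₁ ∈ Q → t * x⁻¹ * t = g₁ * h₁ * t * f₁ →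
        f₁ = g⁻¹ ∧ h₁ = t * h⁻¹ * t) ∧
      (∀ g₂ h₂ f₂ : G, g₂ ∈ Q → h₂ ∈ (MulAction.stabilizer G a ⊓ MulAction.stabilizer G (t • a)) → f₂ ∈ Q → t * f * t = g₂ * h₂ * t * f₂ →
        f₂ = x ∧ h₂ = h⁻¹) ∧
      ∀ c ∈ (MulAction.stabilizer G a ⊓ MulAction.stabilizer G (t • a)), ∀ g₃ h₃ f₃ : G, g₃ ∈ Q → h₃ ∈ (MulAction.stabilizer G a ⊓ MulAction.stabilizer G (t • a)) → f₃ ∈ Q →
        t * (c⁻¹ * x * c) * t = g₃ * h₃ * t * f₃ →
          f₃ = (t * c * t)⁻¹ * f * (t * c * t) ∧ h₃ = (t * c * t)⁻¹ * h * c := by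
  have htinv : t⁻¹ = t := inv_eq_of_mul_eq_one_right hS.mul_self
  have ht2 : t * t = 1 := hS.mul_self
  refine ⟨?_, ?_, ?_⟩
  · intro g₁ h₁ f₁ hg₁ hh₁ hf₁ e₁
    -- t x⁻¹ t = (t x t)⁻¹ = f⁻¹ (t h⁻¹ t) t g⁻¹
    have e : g₁ * h₁ * t * f₁ = f⁻¹ * (t * h⁻¹ * t) * t * g⁻¹ := by
      rw [← e₁]
      have : t * x⁻¹ * t = (t * x * t)⁻¹ := by
        simp only [mul_inv_rev, htinv, mul_assoc]
      rw [this, heq]
      simp only [mul_inv_rev, htinv, mul_assoc]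
      rw [← mul_assoc t t, ht2, one_mul]
    obtain ⟨-, e2, e3⟩ := uniq hS hg₁ hh₁ hf₁ (inv_mem hf) (tDt hS (inv_mem hh)) (inv_mem hg) e
    exact ⟨e3, e2⟩
  · intro g₂ h₂ f₂ hg₂ hh₂ hf₂ e₂
    have hQn : h⁻¹ * g⁻¹ * h ∈ Q := by
      have := hS.conj_mem h⁻¹ (inv_mem (Subgroup.mem_inf.mp hh).1) g⁻¹ (inv_mem hg)
      simpa using this
    have e : g₂ * h₂ * t * f₂ = (h⁻¹ * g⁻¹ * h) * h⁻¹ * t * x := by
      rw [← e₂]
      have hfe : f = t * h⁻¹ * g⁻¹ * (t * x * t) := by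
        rw [heq]
        simp only [mul_assoc]
        rw [← mul_assoc g⁻¹ g, inv_mul_cancel, one_mul, ← mul_assoc h⁻¹ h, inv_mul_cancel, one_mul,
          ← mul_assoc t t, ht2, one_mul]
      calc t * f * t = t * (t * h⁻¹ * g⁻¹ * (t * x * t)) * t := by rw [← hfe]
        _ = (t * t) * h⁻¹ * g⁻¹ * t * x * (t * t) := by group
        _ = h⁻¹ * g⁻¹ * h * h⁻¹ * t * x := by rw [ht2]; group
    obtain ⟨-, e2, e3⟩ := uniq hS hg₂ hh₂ hf₂ hQn (inv_mem hh) hx e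
    exact ⟨e3, e2⟩
  · intro c hc g₃ h₃ f₃ hg₃ hh₃ hf₃ e₃
    have hc' := tDt hS hc
    have hQ1 : (t * c * t)⁻¹ * g * (t * c * t) ∈ Q := by
      have := hS.conj_mem (t * c * t)⁻¹ (inv_mem (Subgroup.mem_inf.mp hc').1) g hg
      simpa using this
    have hQ2 : (t * c * t)⁻¹ * f * (t * c * t) ∈ Q := by
      have := hS.conj_mem (t * c * t)⁻¹ (inv_mem (Subgroup.mem_inf.mp hc').1) f hf
      simpa using this
    have hD : (t * c * t)⁻¹ * h * c ∈ (MulAction.stabilizer G a ⊓ MulAction.stabilizer G (t • a)) :=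
      mul_mem (mul_mem (inv_mem hc') hh) hc
    have e : g₃ * h₃ * t * f₃ = ((t * c * t)⁻¹ * g * (t * c * t)) * ((t * c * t)⁻¹ * h * c) * t *
        ((t * c * t)⁻¹ * f * (t * c * t)) := by
      rw [← e₃]
      have e1 : t * (c⁻¹ * x * c) * t = (t * c * t)⁻¹ * (t * x * t) * (t * c * t) := by
        simp only [mul_inv_rev, htinv, mul_assoc]
        rw [← mul_assoc t t, ht2, one_mul, ← mul_assoc t t, ht2, one_mul]
      rw [e1, heq]
      simp only [mul_inv_rev, htinv, mul_assoc]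
      -- both sides are words; reduce using t*t = 1
      have r1 : ∀ w : G, t * (t * w) = w := fun w => by rw [← mul_assoc, ht2, one_mul]
      have r2 : ∀ w : G, c * (c⁻¹ * w) = w := fun w => by rw [← mul_assoc, mul_inv_cancel, one_mul]
      simp only [r1, r2]
    obtain ⟨-, e2, e3⟩ := uniq hS hg₃ hh₃ hf₃ hQ1 hD hQ2 e
    exact ⟨e3, e2⟩

end Cfsg.Agent.S1165
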