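import Cfsg.Statements.S1166
-- import your own Cfsg.Agent.* helpers here

set_option autoImplicit false
open Cfsg

namespace Cfsg.Agent.S1166

section helpers

variable {G Ω : Type*} [Group G] [MulAction G Ω] {a : Ω} {t : G} {Q : Subgroup G}

/-- `t` normalises the two-point stabiliser. -/
theorem tDt (hS : Cfsg.IsRankOneSetup G Ω a t Q) {c : G}
    (hc : c ∈ (MulAction.stabilizer G a ⊓ MulAction.stabilizer G (t • a))) :
    t * c * t ∈ (MulAction.stabilizer G a ⊓ MulAction.stabilizer G (t • a)) := by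
  have htt : t • t • a = a := by rw [smul_smul, hS.mul_self, one_smul]
  obtain ⟨hc1, hc2⟩ := Subgroup.mem_inf.mp hc
  rw [MulAction.mem_stabilizer_iff] at hc1 hc2
  refine Subgroup.mem_inf.mpr ⟨?_, ?_⟩
  · rw [MulAction.mem_stabilizer_iff, mul_smul, mul_smul, hc2, htt]
  · rw [MulAction.mem_stabilizer_iff, mul_smul, mul_smul, htt, hc1]

/-- Uniqueness of the canonical form `g h t f`. -/
theorem uniq (hS : Cfsg.IsRankOneSetup G Ω a t Q) {g h f g' h' f' : G}
    (hg : g ∈ Q) (hh : h ∈ (MulAction.stabilizer G a ⊓ MulAction.stabilizer G (t • a))) (hf : f ∈ Q)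
    (hg' : g' ∈ Q) (hh' : h' ∈ (MulAction.stabilizer G a ⊓ MulAction.stabilizer G (t • a))) (hf' : f' ∈ Q)
    (heq : g * h * t * f = g' * h' * t * f') : g = g' ∧ h = h' ∧ f = f' := by
  have htt : t • t • a = a := by rw [smul_smul, hS.mul_self, one_smul]
  obtain ⟨hh1, hh2⟩ := Subgroup.mem_inf.mp hh
  obtain ⟨hh'1, hh'2⟩ := Subgroup.mem_inf.mp hh'
  have hgS : g ∈ MulAction.stabilizer G a := hS.le hg
  have hgS' : g' ∈ MulAction.stabilizer G a := hS.le hg'
  -- f * f'⁻¹ fixes t • a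
  have key : t * (f * f'⁻¹) * t = (g * h)⁻¹ * (g' * h') := by
    have : t * f = (g * h)⁻¹ * (g' * h' * t * f') := by
      rw [← heq]; group
    calc t * (f * f'⁻¹) * t = (t * f) * f'⁻¹ * t := by group
      _ = (g * h)⁻¹ * (g' * h' * t * f') * f'⁻¹ * t := by rw [this]
      _ = (g * h)⁻¹ * (g' * h') * (t * t) := by group
      _ = (g * h)⁻¹ * (g' * h') := by rw [hS.mul_self, mul_one]
  have hstab : (g * h)⁻¹ * (g' * h') ∈ MulAction.stabilizer G a :=
    mul_mem (inv_mem (mul_mem hgS hh1)) (mul_mem hgS' hh'1)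
  rw [← key, MulAction.mem_stabilizer_iff, mul_smul, mul_smul] at hstab
  have hff : f * f'⁻¹ ∈ MulAction.stabilizer G (t • a) := by
    rw [MulAction.mem_stabilizer_iff]
    have := congrArg (fun w => t • w) hstab
    rw [smul_smul t t, hS.mul_self, one_smul] at this
    exact this
  have hff1 : f * f'⁻¹ = 1 := by
    have : f * f'⁻¹ ∈ Q ⊓ MulAction.stabilizer G (t • a) :=
      Subgroup.mem_inf.mpr ⟨mul_mem hf (inv_mem hf'), hff⟩
    rw [hS.inf_eq_bot] at this
    exact this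
  have hfeq : f = f' := by
    have := mul_inv_eq_one.mp hff1
    exact this
  subst hfeq
  have h2 : g * h = g' * h' := by
    have := mul_right_cancel heq
    exact mul_right_cancel this
  have h3 : g'⁻¹ * g = h' * h⁻¹ := by
    calc g'⁻¹ * g = g'⁻¹ * (g * h) * h⁻¹ := by group
      _ = g'⁻¹ * (g' * h') * h⁻¹ := by rw [h2]
      _ = h' * h⁻¹ := by group
  have h4 : g'⁻¹ * g ∈ Q ⊓ MulAction.stabilizer G (t • a) := by
    refine Subgroup.mem_inf.mpr ⟨mul_mem (inv_mem hg') hg, ?_⟩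
    rw [h3]
    exact mul_mem hh'2 (inv_mem hh2)
  rw [hS.inf_eq_bot] at h4
  have hgeq : g = g' := by
    have : g'⁻¹ * g = 1 := h4
    exact (inv_mul_eq_one.mp this).symm
  subst hgeq
  exact ⟨rfl, mul_left_cancel h2, rfl⟩

end helpers

/-- In the rank-one set-up (`G` finite and doubly transitive on `Ω`, `t` an involution moving `a`, `Q` normal in `G_a` with `G_a = Q D`, `Q ⊓ D = 1` for the two-point stabiliser `D = G_a ⊓ G_{t • a}`, `|Q|` even, `|D|` odd), with `t x t = g_x h_x t f_x` and `t y t = g_y h_y t f_y` (`g, f ∈ Q`, `h ∈ D`) for `x, y ∈ Q ∖ 1` with `x y ≠ 1`: then `z = f_x g_y ≠ 1`, and if `t z t = g_z h_z t f_z` and `t (x y) t = g' h' t f'` then `f' = (t h_y t)⁻¹ f_z (t h_y t) f_y` and `h' = h_x h_z h_y` (H6). -/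
theorem result {G Ω : Type*} [Group G] [Finite G] [MulAction G Ω] {a : Ω} {t : G} {Q : Subgroup G}
    (hS : Cfsg.IsRankOneSetup G Ω a t Q)
    (x y gx hx fx gy hy fy : G) (hxQ : x ∈ Q) (hx1 : x ≠ 1) (hyQ : y ∈ Q) (hy1 : y ≠ 1) (hxy : x * y ≠ 1)
    (hgx : gx ∈ Q) (hhx : hx ∈ (MulAction.stabilizer G a ⊓ MulAction.stabilizer G (t • a))) (hfx : fx ∈ Q) (ex : t * x * t = gx * hx * t * fx)
    (hgy : gy ∈ Q) (hhy : hy ∈ (MulAction.stabilizer G a ⊓ MulAction.stabilizer G (t • a))) (hfy : fy ∈ Q) (ey : t * y * t = gy * hy * t * fy) :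
    fx * gy ≠ 1 ∧
      ∀ gz hz fz g' h' f' : G, gz ∈ Q → hz ∈ (MulAction.stabilizer G a ⊓ MulAction.stabilizer G (t • a)) → fz ∈ Q → t * (fx * gy) * t = gz * hz * t * fz →
        g' ∈ Q → h' ∈ (MulAction.stabilizer G a ⊓ MulAction.stabilizer G (t • a)) → f' ∈ Q → t * (x * y) * t = g' * h' * t * f' →
          f' = (t * hy * t)⁻¹ * fz * (t * hy * t) * fy ∧ h' = hx * hz * hy := by
  have htinv : t⁻¹ = t := inv_eq_of_mul_eq_one_right hS.mul_self
  have ht2 : t * t = 1 := hS.mul_self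
  have htt : t • t • a = a := by rw [smul_smul, hS.mul_self, one_smul]
  have hz1 : fx * gy ≠ 1 := by
    intro h1
    -- then t (x y) t ∈ G_a, so x y fixes t • a, so x y ∈ Q ⊓ G_{ta} = 1
    have e : t * (x * y) * t = gx * hx * ((t * hy * t) * fy) := by
      calc t * (x * y) * t = (t * x * t) * (t * y * t) := by
            simp only [mul_assoc]; rw [← mul_assoc t t, ht2, one_mul]
        _ = gx * hx * t * (fx * gy) * hy * t * fy := by rw [ex, ey]; group
        _ = gx * hx * ((t * hy * t) * fy) := by rw [h1]; group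
    have hmem : t * (x * y) * t ∈ MulAction.stabilizer G a := by
      rw [e]
      exact mul_mem (mul_mem (hS.le hgx) (Subgroup.mem_inf.mp hhx).1)
        (mul_mem (Subgroup.mem_inf.mp (tDt hS hhy)).1 (hS.le hfy))
    rw [MulAction.mem_stabilizer_iff, mul_smul, mul_smul] at hmem
    have h2 : (x * y) • t • a = t • a := by
      have := congrArg (fun w => t • w) hmem
      rw [smul_smul t t, hS.mul_self, one_smul] at this
      exact this
    have h3 : x * y ∈ Q ⊓ MulAction.stabilizer G (t • a) :=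
      Subgroup.mem_inf.mpr ⟨mul_mem hxQ hyQ, h2⟩
    rw [hS.inf_eq_bot] at h3
    exact hxy h3
  refine ⟨hz1, ?_⟩
  intro gz hz fz g' h' f' hgz hhz hfz ez hg' hh' hf' e'
  have hd := tDt hS hhy
  have hQ1 : (t * hy * t)⁻¹ * fz * (t * hy * t) ∈ Q := by
    have := hS.conj_mem (t * hy * t)⁻¹ (inv_mem (Subgroup.mem_inf.mp hd).1) fz hfz
    simpa using this
  have hQ2 : hx * gz * hx⁻¹ ∈ Q := hS.conj_mem hx (Subgroup.mem_inf.mp hhx).1 gz hgz
  have e : g' * h' * t * f' = (gx * (hx * gz * hx⁻¹)) * (hx * hz * hy) * t *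
      ((t * hy * t)⁻¹ * fz * (t * hy * t) * fy) := by
    rw [← e']
    have e1 : t * (x * y) * t = gx * hx * (t * (fx * gy) * t) * t * hy * t * fy := by
      calc t * (x * y) * t = (t * x * t) * (t * y * t) := by
            simp only [mul_assoc]; rw [← mul_assoc t t, ht2, one_mul]
        _ = gx * hx * t * (fx * gy) * hy * t * fy := by rw [ex, ey]; group
        _ = gx * hx * (t * (fx * gy) * (t * t)) * hy * t * fy := by rw [ht2]; group
        _ = gx * hx * (t * (fx * gy) * t) * t * hy * t * fy := by group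
    rw [e1, ez]
    simp only [mul_inv_rev, htinv, mul_assoc]
    have r1 : ∀ w : G, t * (t * w) = w := fun w => by rw [← mul_assoc, ht2, one_mul]
    have r2 : ∀ w : G, hy * (hy⁻¹ * w) = w := fun w => by rw [← mul_assoc, mul_inv_cancel, one_mul]
    have r3 : ∀ w : G, hx⁻¹ * (hx * w) = w := fun w => by rw [← mul_assoc, inv_mul_cancel, one_mul]
    simp only [r1, r2, r3]
  obtain ⟨-, e2, e3⟩ := uniq hS hg' hh' hf' (mul_mem hgx hQ2) (mul_mem (mul_mem hhx hhz) hhy)
    (mul_mem hQ1 hfy) e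
  exact ⟨e3, e2⟩

end Cfsg.Agent.S1166
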