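import Cfsg.Statements.S1167
import Cfsg.Agent.S0740
import Cfsg.Agent.S0885

set_option autoImplicit false
open Cfsg

namespace Cfsg.Agent.S1167

open MulAction Cfsg.Agent.Lib.Helper59

/-- the points other than `a, b`, as a sub-action of the two-point stabiliser -/
def offPts {G Ω : Type*} [Group G] [MulAction G Ω] (a b : Ω) :
    SubMulAction ↥(stabilizer G a ⊓ stabilizer G b : Subgroup G) Ω where
  carrier := {x | x ≠ a ∧ x ≠ b}
  smul_mem' := by
    intro h x hx
    have hh := mem_stab2.mp h.2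
    constructor
    · intro hxa
      apply hx.1
      have : (h : G) • x = (h : G) • a := by rw [hh.1]; exact hxa
      exact MulAction.injective (h : G) this
    · intro hxb
      apply hx.2
      have : (h : G) • x = (h : G) • b := by rw [hh.2]; exact hxb
      exact MulAction.injective (h : G) this

theorem offPts_free {G Ω : Type*} [Group G] [MulAction G Ω]
    (hZ : Cfsg.IsZassenhausGroup G Ω) {a b : Ω} (hab : a ≠ b) (x : offPts (G := G) a b) :
    stabilizer ↥(stabilizer G a ⊓ stabilizer G b : Subgroup G) x = ⊥ := by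
  rw [eq_bot_iff]
  intro h hh
  rw [mem_stabilizer_iff] at hh
  rw [Subgroup.mem_bot]
  have h2 := mem_stab2.mp h.2
  have hx : (h : G) • (x : Ω) = x := by
    have := congrArg Subtype.val hh
    rw [SubMulAction.val_smul] at this
    exact this
  have := zass_three hZ (h : G) a b (x : Ω) hab (Ne.symm x.2.2) (Ne.symm x.2.1) h2.1 h2.2 hx
  exact Subtype.ext this


theorem offPts_card {G Ω : Type*} [Group G] [MulAction G Ω] [Fintype Ω] {a b : Ω} (hab : a ≠ b) :
    Nat.card (offPts (G := G) a b) + 2 = Fintype.card Ω := by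
  classical
  have h1 : Nat.card (offPts (G := G) a b) = Set.ncard ({x : Ω | x ≠ a ∧ x ≠ b}) := by
    rw [← Nat.card_coe_set_eq]
    rfl
  have h2 : ({x : Ω | x ≠ a ∧ x ≠ b}) = ({a, b} : Set Ω)ᶜ := by
    ext x
    simp only [Set.mem_ofPred_eq, Set.mem_compl_iff, Set.mem_insert_iff, Set.mem_singleton_iff,
      not_or]
  rw [h1, h2, Set.ncard_compl, Set.ncard_pair hab, Nat.card_eq_fintype_card]
  have : 2 ≤ Fintype.card Ω := by
    have := Set.ncard_le_card ({a, b} : Set Ω)
    rw [Set.ncard_pair hab, Nat.card_eq_fintype_card] at this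
    exact this
  omega

theorem offPts_dvd {G Ω : Type*} [Group G] [MulAction G Ω]
    (hZ : Cfsg.IsZassenhausGroup G Ω) {a b : Ω} (hab : a ≠ b) :
    Nat.card ↥(stabilizer G a ⊓ stabilizer G b : Subgroup G) ∣ Nat.card (offPts (G := G) a b) := by
  have := Nat.card_congr (selfEquivOrbitsQuotientProd (offPts_free hZ hab))
  rw [Nat.card_prod] at this
  rw [this]
  exact Dvd.intro_left _ rfl

theorem offPts_trans {G Ω : Type*} [Group G] [Finite G] [MulAction G Ω] [Finite Ω]
    (hZ : Cfsg.IsZassenhausGroup G Ω) {a b : Ω} (hab : a ≠ b)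
    (hc : Nat.card (offPts (G := G) a b) ≤
      Nat.card ↥(stabilizer G a ⊓ stabilizer G b : Subgroup G))
    (x y : Ω) (hxa : x ≠ a) (hxb : x ≠ b) (hya : y ≠ a) (hyb : y ≠ b) :
    ∃ h : G, h • a = a ∧ h • b = b ∧ h • x = y := by
  let X : offPts (G := G) a b := ⟨x, hxa, hxb⟩
  let Y : offPts (G := G) a b := ⟨y, hya, hyb⟩
  have hinj : Function.Injective
      (fun h : ↥(stabilizer G a ⊓ stabilizer G b : Subgroup G) => h • X) := by
    intro h h' hh
    have h1 : (h'⁻¹ * h) • X = X := by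
      rw [mul_smul]
      show h'⁻¹ • (h • X) = X
      have : h • X = h' • X := hh
      rw [this, inv_smul_smul]
    have h2 : h'⁻¹ * h ∈ stabilizer _ X := h1
    rw [offPts_free hZ hab X, Subgroup.mem_bot] at h2
    have : h = h' * (h'⁻¹ * h) := by group
    rw [this, h2, mul_one]
  have hbij := hinj.bijective_of_nat_card_le hc
  obtain ⟨h, hh⟩ := hbij.2 Y
  have h2 := mem_stab2.mp h.2
  refine ⟨(h : G), h2.1, h2.2, ?_⟩
  have := congrArg Subtype.val hh
  simp only [SubMulAction.val_smul] at this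
  exact this


/-- `|U| + 1 = |Ω|` for a subgroup regular off `a` -/
theorem card_reg {G Ω : Type*} [Group G] [Finite G] [MulAction G Ω] [Fintype Ω] {a b : Ω} (hab : a ≠ b)
    (U : Subgroup G) (hUle : U ≤ stabilizer G a)
    (hreg : ∀ c d : Ω, c ≠ a → d ≠ a → ∃! u : U, (u : G) • c = d) :
    Nat.card U + 1 = Fintype.card Ω := by
  classical
  let f : Option U → Ω := fun o => match o with
    | none => a
    | some u => (u : G) • b
  have hua : ∀ u : U, (u : G) • a = a := fun u => mem_stabilizer_iff.mp (hUle u.2)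
  have hub : ∀ u : U, (u : G) • b ≠ a := by
    intro u h
    apply hab
    have : (u : G) • b = (u : G) • a := by rw [hua u]; exact h
    exact (MulAction.injective (u : G) this).symm
  have hf : Function.Bijective f := by
    constructor
    · intro o o' h
      cases o with
      | none =>
        cases o' with
        | none => rfl
        | some u' => exact absurd h.symm (hub u')
      | some u =>
        cases o' with
        | none => exact absurd h (hub u)
        | some u' =>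
          obtain ⟨w, _, hw⟩ := hreg b ((u' : G) • b) (Ne.symm hab) (hub u')
          have h1 := hw u h
          have h2 := hw u' rfl
          rw [h1, h2]
    · intro x
      by_cases hx : x = a
      · exact ⟨none, hx.symm⟩
      · obtain ⟨w, hw, _⟩ := hreg b x (Ne.symm hab) hx
        exact ⟨some w, hw⟩
  have := Nat.card_congr (Equiv.ofBijective f hf)
  rw [Finite.card_option, Nat.card_eq_fintype_card (α := Ω)] at this
  exact this

theorem result_of {G Ω : Type*} [Group G] [Finite G] [MulAction G Ω] [Fintype Ω]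
    (hfeit : ∀ {a b : Ω} (_ : a ≠ b) (h e : ℕ) (_ : Fintype.card Ω = h + 1)
      (_ : Nat.card ↥(stabilizer G a ⊓ stabilizer G b : Subgroup G) = e) (_ : Odd e)
      (H : Subgroup G) (_ : H ≤ stabilizer G a) (_ : Nat.card H + 1 = Fintype.card Ω)
      (_ : ∀ u ∈ H, u ≠ 1 → ∀ c : Ω, u • c = c → c = a),
      h - 1 ≤ 2 * e ∨ (IsPGroup 2 H ∧ (∃ u v : H, u * v ≠ v * u) ∧
        (commutator H).index ≤ 4 * e ^ 2 + 1))
    (hZ : Cfsg.IsZassenhausGroup G Ω) {a : Ω}
    (U : Subgroup G) (hUle : U ≤ stabilizer G a)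
    (hUn : ∀ h ∈ stabilizer G a, ∀ u ∈ U, h * u * h⁻¹ ∈ U)
    (hreg : ∀ c d : Ω, c ≠ a → d ≠ a → ∃! u : U, (u : G) • c = d)
    (hU2 : IsPGroup 2 U) (hUab : ∀ u ∈ U, ∀ u' ∈ U, u * u' = u' * u)
    (v : G) (hv1 : v ≠ 1) (hv2 : v * v = 1) (hva : v • a ≠ a) :
    ∃! u₀ : G, u₀ ∈ U ∧ u₀ ≠ 1 ∧ v * u₀ * v = u₀ * v * u₀ := by
  classical
  obtain ⟨b, hb⟩ : ∃ b, b = v • a := ⟨_, rfl⟩
  have hab : a ≠ b := by rw [hb]; exact Ne.symm hva
  have hvb : v • b = a := by rw [hb, ← mul_smul, hv2, one_smul]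
  have hva' : v • a = b := hb.symm
  have hov : orderOf v = 2 := orderOf_eq_prime (by rw [pow_two]; exact hv2) hv1
  have hua : ∀ u ∈ U, u • a = a := fun u hu => mem_stabilizer_iff.mp (hUle hu)
  -- fixity
  have hfix : ∀ u ∈ U, u ≠ 1 → ∀ c : Ω, u • c = c → c = a := by
    intro u hu hu1 c hc
    by_contra hca
    obtain ⟨w, _, hw⟩ := hreg c c hca hca
    have h1 := hw ⟨u, hu⟩ hc
    have h2 := hw 1 (by simp)
    apply hu1
    have := h1.trans h2.symm
    exact congrArg Subtype.val this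
  have hcard := card_reg hab U hUle hreg
  -- the two-point stabiliser
  obtain ⟨e, he⟩ : ∃ e, Nat.card ↥(stabilizer G a ⊓ stabilizer G b : Subgroup G) = e := ⟨_, rfl⟩
  have hepos : 0 < e := by rw [← he]; exact Nat.card_pos
  have hT := offPts_card (G := G) hab
  have hdiv := offPts_dvd hZ hab
  rw [he] at hdiv
  -- `offPts` is nonempty
  have hTne : 0 < Nat.card (offPts (G := G) a b) := by
    obtain ⟨x, hx1, hxa, hxb⟩ := zass_stab2_ne_bot hZ hab
    have hex : ∃ y : Ω, x • y ≠ y := by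
      by_contra hcon
      push Not at hcon
      apply hx1
      have := hZ.1
      apply FaithfulSMul.eq_of_smul_eq_smul (α := Ω)
      intro d
      rw [hcon d, one_smul]
    obtain ⟨y, hy⟩ := hex
    have : Nonempty (offPts (G := G) a b) :=
      ⟨⟨y, fun h => hy (by rw [h]; exact hxa), fun h => hy (by rw [h]; exact hxb)⟩⟩
    exact Nat.card_pos
  obtain ⟨k, hk⟩ := IsPGroup.iff_card.mp hU2
  have hk0 : k ≠ 0 := by
    intro h0
    rw [h0, pow_zero] at hk
    omega
  obtain ⟨k', rfl⟩ := Nat.exists_eq_succ_of_ne_zero hk0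
  rw [pow_succ] at hk
  have hmpos : 0 < 2 ^ k' := pos_of_ne_zero (by positivity)
  have hToddval : Nat.card (offPts (G := G) a b) = 2 * (2 ^ k' - 1) + 1 := by omega
  have hTodd : Odd (Nat.card (offPts (G := G) a b)) := ⟨_, hToddval⟩
  have heodd : Odd e := Odd.of_dvd_nat hTodd hdiv
  -- Feit
  have hF := hfeit hab (Nat.card U) e hcard.symm he heodd U hUle hcard hfix
  have hle : Nat.card U - 1 ≤ 2 * e := by
    rcases hF with h | ⟨_, ⟨u, w, huw⟩, _⟩
    · exact h
    · exfalso
      apply huw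
      exact Subtype.ext (hUab u u.2 w w.2)
  -- `e = |offPts|`
  have heq : Nat.card (offPts (G := G) a b) = e := by
    obtain ⟨q, hq⟩ := hdiv
    have hq2 : q ≤ 2 := by
      by_contra hcon
      push Not at hcon
      have : e * 3 ≤ e * q := Nat.mul_le_mul_left e hcon
      omega
    have hq0 : q ≠ 0 := by
      intro h0
      rw [h0, mul_zero] at hq
      omega
    have hq2' : q ≠ 2 := by
      intro h2
      rw [h2] at hq
      rw [hq] at hTodd
      exact (Nat.not_even_iff_odd.mpr hTodd) ⟨e, by ring⟩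
    have : q = 1 := by omega
    rw [hq, this, mul_one]
  -- involutions
  have hinv : ∀ u ∈ U, u * u = 1 := by
    have h2 : 2 ∣ Nat.card U := ⟨2 ^ k', by rw [hk]; ring⟩
    have : Fact (Nat.Prime 2) := ⟨Nat.prime_two⟩
    obtain ⟨u₁, hu₁⟩ := exists_prime_orderOf_dvd_card' (G := U) 2 h2
    have hu₁1 : u₁ ≠ 1 := by
      intro h
      rw [h, orderOf_one] at hu₁
      omega
    have hu₁sq : (u₁ : G) * u₁ = 1 := by
      have := pow_orderOf_eq_one u₁
      rw [hu₁, pow_two] at this
      exact congrArg Subtype.val this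
    have hu₁1' : (u₁ : G) ≠ 1 := fun h => hu₁1 (Subtype.ext h)
    intro u hu
    by_cases hu1 : u = 1
    · rw [hu1, mul_one]
    have hx : ∀ w ∈ U, w ≠ 1 → w • b ≠ a ∧ w • b ≠ b := by
      intro w hw hw1
      constructor
      · intro h
        apply hab
        have : w • b = w • a := by rw [hua w hw]; exact h
        exact (MulAction.injective w this).symm
      · intro h
        exact hab (hfix w hw hw1 b h).symm
    obtain ⟨h, hha, hhb, hh⟩ := offPts_trans hZ hab (le_of_eq (heq.trans he.symm))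
      ((u₁ : G) • b) (u • b) (hx _ u₁.2 hu₁1').1 (hx _ u₁.2 hu₁1').2 (hx u hu hu1).1 (hx u hu hu1).2
    have hmem : h * u₁ * h⁻¹ ∈ U := hUn h (mem_stabilizer_iff.mpr hha) u₁ u₁.2
    have hval : (h * u₁ * h⁻¹) • b = u • b := by
      rw [mul_smul, mul_smul]
      have : h⁻¹ • b = b := by rw [inv_smul_eq_iff, hhb]
      rw [this, hh]
    obtain ⟨w, _, hw⟩ := hreg b (u • b) (Ne.symm hab) (hx u hu hu1).1
    have h1 := hw ⟨h * u₁ * h⁻¹, hmem⟩ hval
    have h2 := hw ⟨u, hu⟩ rfl
    have h3 : h * u₁ * h⁻¹ = u := congrArg Subtype.val (h1.trans h2.symm)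
    rw [← h3]
    have : h * ↑u₁ * h⁻¹ * (h * ↑u₁ * h⁻¹) = h * (↑u₁ * ↑u₁) * h⁻¹ := by group
    rw [this, hu₁sq]
    group
  -- the fixed point of `v`
  have hoddΩ : Odd (Fintype.card Ω) := by
    rw [← hcard, hk]
    exact ⟨2 ^ k', by ring⟩
  have hfixv := ((Cfsg.Agent.S0740.result hZ hab).2.1 v hov hva' hvb).1 hoddΩ
  obtain ⟨hsub, ⟨⟨c, hc⟩⟩⟩ := Nat.card_eq_one_iff_unique.mp hfixv
  have hc' : v • c = c := hc
  have hcuniq : ∀ c' : Ω, v • c' = c' → c' = c := by
    intro c' h'
    have := hsub.elim ⟨c', h'⟩ ⟨c, hc⟩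
    exact congrArg Subtype.val this
  have hca : c ≠ a := by
    intro h
    rw [h] at hc'
    exact hva hc'
  have hcb : c ≠ b := by
    intro h
    rw [h, hvb] at hc'
    exact hab hc'
  obtain ⟨u₀, hu₀, hu₀uniq⟩ := hreg b c (Ne.symm hab) hca
  have hu₀1 : (u₀ : G) ≠ 1 := by
    intro h
    rw [h, one_smul] at hu₀
    exact hcb hu₀.symm
  have hu₀sq := hinv u₀ u₀.2
  have hu₀c : (u₀ : G) • c = b := by
    rw [← hu₀, ← mul_smul, hu₀sq, one_smul]
  have hu₀a := hua u₀ u₀.2
  refine ⟨u₀, ⟨u₀.2, hu₀1, ?_⟩, ?_⟩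
  · -- the structure equation
    have e1 : (v * u₀ * v) • a = c := by
      rw [mul_smul, mul_smul, hva', hu₀, hc']
    have e2 : ((u₀ : G) * v * u₀) • a = c := by
      rw [mul_smul, mul_smul, hu₀a, hva', hu₀]
    have e3 : (v * u₀ * v) • b = b := by
      rw [mul_smul, mul_smul, hvb, hu₀a, hva']
    have e4 : ((u₀ : G) * v * u₀) • b = b := by
      rw [mul_smul, mul_smul, hu₀, hc', hu₀c]
    have e5 : (v * u₀ * v) • c = a := by
      rw [mul_smul, mul_smul, hc', hu₀c, hvb]
    have e6 : ((u₀ : G) * v * u₀) • c = a := by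
      rw [mul_smul, mul_smul, hu₀c, hvb, hu₀a]
    have hg : ((u₀ : G) * v * u₀)⁻¹ * (v * u₀ * v) = 1 := by
      apply zass_three hZ _ a b c hab (Ne.symm hcb) (Ne.symm hca)
      · rw [mul_smul, e1, inv_smul_eq_iff, e2]
      · rw [mul_smul, e3, inv_smul_eq_iff, e4]
      · rw [mul_smul, e5, inv_smul_eq_iff, e6]
    have := congrArg (fun t => ((u₀ : G) * v * u₀) * t) hg
    simp only [mul_inv_cancel_left, mul_one] at this
    exact this
  · rintro u ⟨hu, hu1, hequ⟩
    have h1 : v • (u • b) = u • b := by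
      have := congrArg (fun t => t • a) hequ
      simp only [mul_smul] at this
      rw [hva', hua u hu, hva'] at this
      exact this
    have h2 := hcuniq _ h1
    have := hu₀uniq ⟨u, hu⟩ h2
    exact congrArg Subtype.val this

/-- Let `G` be a finite simple Zassenhaus group on `Ω`, `U` a normal subgroup of `G_a` regular on `Ω` minus `a` which is an abelian 2-group, and `v` an involution with `v • a ≠ a`. Then there is a unique `u₀ ∈ U`, `u₀ ≠ 1`, with `v u₀ v = u₀ v u₀`. -/
theorem result {G Ω : Type*} [Group G] [Finite G] [MulAction G Ω] [Finite Ω]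
    (hZ : Cfsg.IsZassenhausGroup G Ω) [IsSimpleGroup G] {a : Ω}
    (U : Subgroup G) (hUle : U ≤ MulAction.stabilizer G a)
    (hUn : ∀ h ∈ MulAction.stabilizer G a, ∀ u ∈ U, h * u * h⁻¹ ∈ U)
    (hreg : ∀ c d : Ω, c ≠ a → d ≠ a → ∃! u : U, (u : G) • c = d)
    (hU2 : IsPGroup 2 U) (hUab : ∀ u ∈ U, ∀ u' ∈ U, u * u' = u' * u)
    (v : G) (hv1 : v ≠ 1) (hv2 : v * v = 1) (hva : v • a ≠ a) :
    ∃! u₀ : G, u₀ ∈ U ∧ u₀ ≠ 1 ∧ v * u₀ * v = u₀ * v * u₀ := by
  let _ : Fintype Ω := Fintype.ofFinite Ω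
  exact result_of (fun hab h e hh he hodd H hHa hHcard hHfix =>
    Cfsg.Agent.S0885.result hZ hab h e hh he hodd H hHa hHcard hHfix)
    hZ U hUle hUn hreg hU2 hUab v hv1 hv2 hva

end Cfsg.Agent.S1167
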