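import Cfsg.Statements.S1168


set_option autoImplicit false
open Cfsg

namespace Cfsg.Agent.S1168

open Module

section lemmaA

variable {F : Type*} [Field F] [Fintype F] [Algebra (ZMod 2) F]

/-- every `ZMod 2`-linear map is an `F`-combination of automorphisms -/
theorem exists_coeff (L : F →ₗ[ZMod 2] F) :
    ∃ c : (F ≃ₐ[ZMod 2] F) → F, ∀ x, L x = ∑ σ, c σ * σ x := by
  have hli0 := linearIndependent_toLinearMap (ZMod 2) F F
  have hinj : Function.Injective (fun σ : F ≃ₐ[ZMod 2] F => (σ : F →ₐ[ZMod 2] F)) := by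
    intro σ τ h
    ext x
    exact DFunLike.congr_fun h x
  have hli := hli0.comp _ hinj
  have hcard : Fintype.card (F ≃ₐ[ZMod 2] F) = finrank F (F →ₗ[ZMod 2] F) := by
    rw [Module.finrank_linearMap_self, ← Nat.card_eq_fintype_card, IsGalois.card_aut_eq_finrank]
  have hspan := hli.span_eq_top_of_card_eq_finrank' hcard
  have hL : L ∈ Submodule.span F (Set.range
      (AlgHom.toLinearMap ∘ fun σ : F ≃ₐ[ZMod 2] F => (σ : F →ₐ[ZMod 2] F))) := by
    rw [hspan]; trivial
  rw [Submodule.mem_span_range_iff_exists_fun] at hL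
  obtain ⟨c, hc⟩ := hL
  refine ⟨c, fun x => ?_⟩
  rw [← hc]
  simp

end lemmaA



section quad

variable {F : Type*} [Field F] [CharP F 2] (q : F → F)

/-- the polarization of `q` -/
def B (u v : F) : F := q (u + v) + q u + q v

variable {q}

omit [CharP F 2] in
theorem B_comm (u v : F) : B q u v = B q v u := by
  unfold B
  rw [add_comm u v]; ring

theorem q_add (u v : F) : q (u + v) = q u + q v + B q u v := by
  have h2 : (2 : F) = 0 := CharTwo.two_eq_zero
  unfold B
  linear_combination (-(q u + q v)) * h2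

variable (hq : ∀ x y z : F, q (x + y + z) + q (x + y) + q (x + z) + q (y + z) + q x + q y + q z = 0)
include hq

theorem q_zero : q 0 = 0 := by
  have h := hq 0 0 0
  have h2 : (2 : F) = 0 := CharTwo.two_eq_zero
  simp only [add_zero] at h
  linear_combination h - 3 * q 0 * h2

theorem B_zero_right (u : F) : B q u 0 = 0 := by
  unfold B
  rw [add_zero, q_zero hq, add_zero]
  exact CharTwo.add_self_eq_zero _

theorem B_add_right (u v w : F) : B q u (v + w) = B q u v + B q u w := by
  have h := hq u v w
  have h2 : (2 : F) = 0 := CharTwo.two_eq_zero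
  unfold B
  rw [← add_assoc]
  linear_combination h - (q (u + v) + q (u + w) + q u + q v + q w) * h2

theorem B_sum_right {ι : Type*} (u : F) (T : Finset ι) (e : ι → F) :
    B q u (∑ l ∈ T, e l) = ∑ l ∈ T, B q u (e l) := by
  classical
  induction T using Finset.induction_on with
  | empty => simp [B_zero_right hq]
  | insert a T ha ih => rw [Finset.sum_insert ha, Finset.sum_insert ha, B_add_right hq, ih]

/-- coefficients of the quadratic form in a basis -/
def dd {ι : Type*} [LinearOrder ι] (q : F → F) (e : ι → F) (k l : ι) : F :=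
  if k = l then q (e k) else if k < l then B q (e k) (e l) else 0

omit [CharP F 2] hq in
theorem dd_add {ι : Type*} [LinearOrder ι] (e : ι → F) {a l : ι} (h : l ≠ a) :
    dd q e a l + dd q e l a = B q (e a) (e l) := by
  unfold dd
  rcases lt_or_gt_of_ne h with h1 | h1
  · rw [if_neg h.symm, if_neg (not_lt.mpr h1.le), if_neg h, if_pos h1, zero_add, B_comm]
  · rw [if_neg h.symm, if_pos h1, if_neg h, if_neg (not_lt.mpr h1.le), add_zero]

theorem q_sum {ι : Type*} [LinearOrder ι] (e : ι → F) (T : Finset ι) :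
    q (∑ k ∈ T, e k) = ∑ k ∈ T, ∑ l ∈ T, dd q e k l := by
  induction T using Finset.induction_on with
  | empty => simp [q_zero hq]
  | insert a T ha ih =>
    rw [Finset.sum_insert ha, q_add (q := q), ih, B_sum_right hq, Finset.sum_insert ha, Finset.sum_insert ha]
    have h1 : ∑ k ∈ T, ∑ l ∈ insert a T, dd q e k l =
        ∑ k ∈ T, dd q e k a + ∑ k ∈ T, ∑ l ∈ T, dd q e k l := by
      rw [← Finset.sum_add_distrib]
      apply Finset.sum_congr rfl
      intro k _
      rw [Finset.sum_insert ha]
    have h2 : ∑ l ∈ T, B q (e a) (e l) = ∑ l ∈ T, dd q e a l + ∑ k ∈ T, dd q e k a := by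
      rw [← Finset.sum_add_distrib]
      apply Finset.sum_congr rfl
      intro l hl
      have hla : l ≠ a := fun h => ha (h ▸ hl)
      rw [dd_add e hla]
    have h3 : dd q e a a = q (e a) := by unfold dd; rw [if_pos rfl]
    rw [h1, h2, h3]
    ring

end quad


section main

open Module

variable {F : Type*} [Field F] [Fintype F] [CharP F 2]

theorem zmod_two_cases (t : ZMod 2) : t = 0 ∨ t = 1 := by
  revert t; decide

end main


/-- For a finite field `F` of characteristic 2: if `q : F → F` is quadratic over the prime field, i.e. `(x, y) ↦ q (x + y) + q x + q y` is additive in each variable, then `q x = Σ c_{σ,τ} σ(x) τ(x)` for some coefficients indexed by pairs of field automorphisms. -/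
theorem result {F : Type*} [Field F] [Fintype F] [CharP F 2]
    (q : F → F)
    (hq : ∀ x y z : F, q (x + y + z) + q (x + y) + q (x + z) + q (y + z) + q x + q y + q z = 0) :
    ∃ (s : Finset ((F ≃+* F) × (F ≃+* F))) (c : (F ≃+* F) × (F ≃+* F) → F),
      ∀ x : F, q x = ∑ p ∈ s, c p * (p.1 x * p.2 x) := by
  classical
  letI : Algebra (ZMod 2) F := ZMod.algebra F 2
  let b : Basis (Fin (finrank (ZMod 2) F)) (ZMod 2) F := Module.finBasis (ZMod 2) F
  let χ : Fin (finrank (ZMod 2) F) → F →ₗ[ZMod 2] F :=
    fun k => (LinearMap.toSpanSingleton (ZMod 2) F 1).comp (b.coord k)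
  have hχ : ∀ k x, χ k x = (b.repr x k) • (1 : F) := fun k x => rfl
  choose a ha using fun k => exists_coeff (χ k)
  have hkey : ∀ x, q x = ∑ k, ∑ l, dd q b k l * χ k x * χ l x := by
    intro x
    have hind : ∀ k, χ k x = if b.repr x k = 1 then 1 else 0 := by
      intro k
      rw [hχ]
      rcases zmod_two_cases (b.repr x k) with h | h
      · rw [h, zero_smul, if_neg zero_ne_one]
      · rw [h, one_smul, if_pos rfl]
    have hx : x = ∑ k ∈ Finset.univ.filter (fun k => b.repr x k = 1), b k := by
      conv_lhs => rw [← b.sum_repr x]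
      rw [Finset.sum_filter]
      apply Finset.sum_congr rfl
      intro k _
      rcases zmod_two_cases (b.repr x k) with h | h
      · rw [h, zero_smul, if_neg zero_ne_one]
      · rw [h, one_smul, if_pos rfl]
    conv_lhs => rw [hx]
    rw [q_sum hq, Finset.sum_filter]
    apply Finset.sum_congr rfl
    intro k _
    by_cases hk : b.repr x k = 1
    · rw [if_pos hk, Finset.sum_filter]
      apply Finset.sum_congr rfl
      intro l _
      rw [hind k, hind l, if_pos hk]
      by_cases hl : b.repr x l = 1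
      · rw [if_pos hl, if_pos hl, mul_one, mul_one]
      · rw [if_neg hl, if_neg hl, mul_zero]
    · rw [if_neg hk]
      symm
      apply Finset.sum_eq_zero
      intro l _
      rw [hind k, if_neg hk, mul_zero, zero_mul]
  let C : (F ≃ₐ[ZMod 2] F) × (F ≃ₐ[ZMod 2] F) → F :=
    fun p => ∑ k, ∑ l, dd q b k l * a k p.1 * a l p.2
  have h2 : ∀ x, q x = ∑ p : (F ≃ₐ[ZMod 2] F) × (F ≃ₐ[ZMod 2] F), C p * (p.1 x * p.2 x) := by
    intro x
    rw [hkey x]
    have e1 : ∀ k l, dd q b k l * χ k x * χ l x =
        ∑ p : (F ≃ₐ[ZMod 2] F) × (F ≃ₐ[ZMod 2] F),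
          dd q b k l * a k p.1 * a l p.2 * (p.1 x * p.2 x) := by
      intro k l
      rw [ha k x, ha l x, mul_assoc, Finset.sum_mul_sum, Finset.mul_sum, Fintype.sum_prod_type]
      apply Finset.sum_congr rfl
      intro σ _
      rw [Finset.mul_sum]
      apply Finset.sum_congr rfl
      intro τ _
      ring
    simp only [e1]
    have e2 : ∀ k, ∑ l, ∑ p : (F ≃ₐ[ZMod 2] F) × (F ≃ₐ[ZMod 2] F),
          dd q b k l * a k p.1 * a l p.2 * (p.1 x * p.2 x) =
        ∑ p : (F ≃ₐ[ZMod 2] F) × (F ≃ₐ[ZMod 2] F), ∑ l,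
          dd q b k l * a k p.1 * a l p.2 * (p.1 x * p.2 x) := fun k => Finset.sum_comm
    simp only [e2]
    rw [Finset.sum_comm]
    apply Finset.sum_congr rfl
    intro p _
    simp only [C, Finset.sum_mul]
  let g : (F ≃ₐ[ZMod 2] F) × (F ≃ₐ[ZMod 2] F) → (F ≃+* F) × (F ≃+* F) :=
    fun p => ((p.1 : F ≃+* F), (p.2 : F ≃+* F))
  have hg : Function.Injective g := by
    intro p p' h
    have h1 := AlgEquiv.coe_ringEquiv_injective (congrArg Prod.fst h)
    have h2 := AlgEquiv.coe_ringEquiv_injective (congrArg Prod.snd h)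
    exact Prod.ext h1 h2
  refine ⟨Finset.univ.image g, Function.extend g C 0, fun x => ?_⟩
  rw [Finset.sum_image (fun p _ p' _ h => hg h), h2 x]
  apply Finset.sum_congr rfl
  intro p _
  rw [hg.extend_apply]
  rfl

end Cfsg.Agent.S1168
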