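import Cfsg.Statements.S1176
import Cfsg.Agent.Lib.Helper20.Isolated

set_option autoImplicit false
open Cfsg

namespace Cfsg.Agent.S1176

open Cfsg.Agent.Lib.Helper20
open scoped commutatorElement


/-- Let x₀ be an involution of the finite group G and D its conjugacy class. Assume (a) for each x ∈ D the subgroup W(x) generated by the members of D commuting with x is a 2-group of nilpotency class at most 2, and (b) the product of two distinct commuting members of D again lies in D. Then for all x, y ∈ D, if xy has even order greater than 2, its order is 4. -/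
theorem result {G : Type*} [Group G] [Finite G] (x₀ : G) (hx₀ : orderOf x₀ = 2) (ha : ∀ x : G, IsConj x₀ x → IsPGroup 2 ↥(Subgroup.closure {y : G | IsConj x₀ y ∧ Commute y x}) ∧ ⁅⁅Subgroup.closure {y : G | IsConj x₀ y ∧ Commute y x}, Subgroup.closure {y : G | IsConj x₀ y ∧ Commute y x}⁆, Subgroup.closure {y : G | IsConj x₀ y ∧ Commute y x}⁆ = ⊥) (hb : ∀ x y : G, IsConj x₀ x → IsConj x₀ y → x ≠ y → Commute x y → IsConj x₀ (x * y)) (x y : G) (hx : IsConj x₀ x) (hy : IsConj x₀ y) (heven : Even (orderOf (x * y))) (hgt : 2 < orderOf (x * y)) : orderOf (x * y) = 4 := by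
  have hx₀2 : x₀ * x₀ = 1 := by
    have := pow_orderOf_eq_one x₀
    rwa [hx₀, pow_two] at this
  have hsq : ∀ w : G, IsConj x₀ w → w * w = 1 := by
    intro w hw
    obtain ⟨c, hc⟩ := isConj_iff.mp hw
    rw [← hc]; exact conj_mul_self hx₀2 c
  have hxx := hsq x hx
  have hyy := hsq y hy
  have hxi : x⁻¹ = x := inv_eq_of_mul_eq_one_right hxx
  have hyi : y⁻¹ = y := inv_eq_of_mul_eq_one_right hyy
  obtain ⟨k, hk⟩ := heven
  have hk2 : 2 ≤ k := by omega
  have hklt : k < orderOf (x * y) := by omega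
  have hu1 : (x * y) ^ k ≠ 1 := pow_ne_one_of_lt_orderOf (by omega) hklt
  have huu : (x * y) ^ k * (x * y) ^ k = 1 := by
    rw [← pow_add, ← hk, pow_orderOf_eq_one]
  have hui : ((x * y) ^ k)⁻¹ = (x * y) ^ k := inv_eq_of_mul_eq_one_right huu
  -- u commutes with x and y
  have hcx : x * (x * y) ^ k = (x * y) ^ k * x := by
    rw [dih_mul_pow hxx hyy, hui]
  have hcy : y * (x * y) ^ k = (x * y) ^ k * y := by
    have h1 : (x * y) ^ k = x * ((x * y) ^ k * x) := by
      rw [← hcx, ← mul_assoc, hxx, one_mul]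
    -- y u = y x (u x)... use: (x*y)^k commutes with x*y
    have h2 : (x * y) * (x * y) ^ k = (x * y) ^ k * (x * y) := by
      rw [← pow_succ, ← pow_succ']
    calc y * (x * y) ^ k = x * (x * y * (x * y) ^ k) := by rw [mul_assoc x y, ← mul_assoc x x, hxx, one_mul]
      _ = x * ((x * y) ^ k * (x * y)) := by rw [h2]
      _ = (x * (x * y) ^ k) * (x * y) := by rw [mul_assoc]
      _ = ((x * y) ^ k * x) * (x * y) := by rw [hcx]
      _ = (x * y) ^ k * y := by rw [mul_assoc, ← mul_assoc x x, hxx, one_mul]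
  -- x * u is conjugate to x₀
  have hxu : IsConj x₀ (x * (x * y) ^ k) := by
    rcases Nat.even_or_odd' k with ⟨j, hj | hj⟩
    · have := dih_conj_even hxx hyy j
      rw [hj, two_mul, ← this]
      obtain ⟨c, hc⟩ := isConj_iff.mp hx
      rw [isConj_iff]
      refine ⟨((x * y) ^ j)⁻¹ * c, ?_⟩
      rw [← hc]; group
    · have := dih_conj_odd hxx hyy j
      rw [hj, two_mul, ← this]
      obtain ⟨c, hc⟩ := isConj_iff.mp hy
      rw [isConj_iff]
      refine ⟨((x * y) ^ j)⁻¹ * c, ?_⟩
      rw [← hc]; group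
  have hne : x ≠ x * (x * y) ^ k := by
    intro h
    apply hu1
    have : x * 1 = x * (x * y) ^ k := by rw [mul_one]; exact h
    exact (mul_left_cancel this).symm
  have hcomm : Commute x (x * (x * y) ^ k) := by
    show x * (x * (x * y) ^ k) = (x * (x * y) ^ k) * x
    rw [mul_assoc, ← hcx]
  have hu : IsConj x₀ ((x * y) ^ k) := by
    have := hb x (x * (x * y) ^ k) hx hxu hne hcomm
    rwa [← mul_assoc, hxx, one_mul] at this
  -- x, y ∈ W(u)
  obtain ⟨-, hW⟩ := ha _ hu
  have hxW : x ∈ Subgroup.closure {w : G | IsConj x₀ w ∧ Commute w ((x * y) ^ k)} :=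
    Subgroup.subset_closure ⟨hx, hcx⟩
  have hyW : y ∈ Subgroup.closure {w : G | IsConj x₀ w ∧ Commute w ((x * y) ^ k)} :=
    Subgroup.subset_closure ⟨hy, hcy⟩
  have h1 : ⁅⁅x, y⁆, y⁆ ∈ ⁅⁅Subgroup.closure {w : G | IsConj x₀ w ∧ Commute w ((x * y) ^ k)},
      Subgroup.closure {w : G | IsConj x₀ w ∧ Commute w ((x * y) ^ k)}⁆,
      Subgroup.closure {w : G | IsConj x₀ w ∧ Commute w ((x * y) ^ k)}⁆ :=
    Subgroup.commutator_mem_commutator (Subgroup.commutator_mem_commutator hxW hyW) hyW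
  rw [hW] at h1
  have h2 : ⁅⁅x, y⁆, y⁆ = 1 := h1
  have h3 : ⁅⁅x, y⁆, y⁆ = (x * y) ^ 4 := by
    rw [commutatorElement_def, commutatorElement_def]
    simp only [mul_inv_rev, hxi, hyi, inv_inv]
    have : (x * y) ^ 4 = x * y * (x * y) * (x * y) * (x * y) := by
      rw [pow_succ, pow_succ, pow_succ, pow_one]
    rw [this]
    simp only [mul_assoc]
    rw [← mul_assoc y y, hyy, one_mul]
  rw [h3] at h2
  have hdvd : orderOf (x * y) ∣ 4 := orderOf_dvd_of_pow_eq_one h2
  have hle : orderOf (x * y) ≤ 4 := Nat.le_of_dvd (by norm_num) hdvd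
  interval_cases h : orderOf (x * y)
  · omega
  · rfl

end Cfsg.Agent.S1176
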