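import Cfsg.Statements.S1177
import Cfsg.Agent.Lib.Helper20.ConjMap

set_option autoImplicit false
open Cfsg

namespace Cfsg.Agent.S1177

open Cfsg.Agent.Lib.Helper20

/-- Symmetric core of the argument. -/
theorem core {G : Type*} [Group G] (A B : Subgroup G)
    (hAc : ∀ x ∈ A, ∀ y ∈ A, x * y = y * x) (hA2 : ∀ x ∈ A, x * x = 1)
    (hBc : ∀ x ∈ B, ∀ y ∈ B, x * y = y * x) (hB2 : ∀ x ∈ B, x * x = 1)
    (hTIA : ∀ b ∈ B, A.map (MulAut.conj b).toMonoidHom ⊓ A = ⊥ ∨ A.map (MulAut.conj b).toMonoidHom = A)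
    (hTIB : ∀ y ∈ A, B.map (MulAut.conj y).toMonoidHom ⊓ B = ⊥ ∨ B.map (MulAut.conj y).toMonoidHom = B)
    (hbB : ∀ x ∈ A, (∀ b ∈ B, ∀ c ∈ B.map (MulAut.conj x).toMonoidHom, b * c = c * b) →
      B.map (MulAut.conj x).toMonoidHom = B)
    (a : G) (ha : a ∈ A) (ha1 : a ≠ 1) (hBa : B ≤ Subgroup.centralizer ({a} : Set G))
    (hAB : A ⊓ B = ⊥) : ∀ x ∈ A, ∀ b ∈ B, x * b = b * x := by
  -- 1. B normalizes A
  have hBN : ∀ b ∈ B, ∀ x ∈ A, b * x * b⁻¹ ∈ A := by
    intro b hb x hx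
    have hba : b * a * b⁻¹ = a := by
      have := hBa hb
      rw [Subgroup.mem_centralizer_singleton_iff] at this
      rw [this]; group
    have hne : A.map (MulAut.conj b).toMonoidHom ⊓ A ≠ ⊥ := by
      intro h
      have hmem : a ∈ A.map (MulAut.conj b).toMonoidHom ⊓ A := by
        refine Subgroup.mem_inf.mpr ⟨?_, ha⟩
        rw [← hba]; exact conj_mem_map_conj ha
      rw [h] at hmem
      exact ha1 hmem
    have heq := (hTIA b hb).resolve_left hne
    rw [← heq]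
    exact conj_mem_map_conj hx
  -- 2. elements of A centralizing a nontrivial element of B centralize B
  have hcent : ∀ y ∈ A, ∀ b ∈ B, b ≠ 1 → y * b = b * y → ∀ b' ∈ B, y * b' = b' * y := by
    intro y hy b hb hb1 hyb b' hb'
    have hyby : y * b * y⁻¹ = b := by rw [hyb]; group
    have hne : B.map (MulAut.conj y).toMonoidHom ⊓ B ≠ ⊥ := by
      intro h
      have hmem : b ∈ B.map (MulAut.conj y).toMonoidHom ⊓ B := by
        refine Subgroup.mem_inf.mpr ⟨?_, hb⟩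
        rw [← hyby]; exact conj_mem_map_conj hb
      rw [h] at hmem
      exact hb1 hmem
    have heq := (hTIB y hy).resolve_left hne
    have h1 : y * b' * y⁻¹ ∈ B := by
      rw [← heq]; exact conj_mem_map_conj hb'
    have h2 : y * b' * y⁻¹ * b'⁻¹ ∈ A ⊓ B := by
      refine Subgroup.mem_inf.mpr ⟨?_, mul_mem h1 (inv_mem hb')⟩
      have : y * b' * y⁻¹ * b'⁻¹ = y * (b' * y⁻¹ * b'⁻¹) := by group
      rw [this]
      exact mul_mem hy (hBN b' hb' y⁻¹ (inv_mem hy))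
    rw [hAB] at h2
    have h3 : y * b' * y⁻¹ * b'⁻¹ = 1 := h2
    calc y * b' = (y * b' * y⁻¹ * b'⁻¹) * b' * y := by group
      _ = b' * y := by rw [h3, one_mul]
  -- 3. every x ∈ A normalizes B
  have hAN : ∀ x ∈ A, B.map (MulAut.conj x).toMonoidHom = B := by
    intro x hx
    apply hbB x hx
    intro b' hb' c hc
    rw [mem_map_conj] at hc
    -- c = x b x⁻¹ with b = x⁻¹ c x ∈ B
    obtain ⟨b, hbdef⟩ : ∃ b, b = x⁻¹ * c * x := ⟨_, rfl⟩
    have hb : b ∈ B := hbdef ▸ hc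
    have hcb : c = x * b * x⁻¹ := by rw [hbdef]; group
    -- commutator k = x b x⁻¹ b⁻¹ ∈ A is centralized by b
    have hbi : b⁻¹ = b := inv_eq_of_mul_eq_one_right (hB2 b hb)
    have hx' : b * x * b⁻¹ ∈ A := hBN b hb x hx
    have hk : x * b * x⁻¹ * b⁻¹ = x * (b * x * b⁻¹)⁻¹ := by group
    have hkA : x * b * x⁻¹ * b⁻¹ ∈ A := by
      rw [hk]; exact mul_mem hx (inv_mem hx')
    have hkb : (x * b * x⁻¹ * b⁻¹) * b = b * (x * b * x⁻¹ * b⁻¹) := by
      -- b k b⁻¹ = x' x⁻¹ = (x x'⁻¹)⁻¹ = k⁻¹ = k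
      have hkinv : (x * b * x⁻¹ * b⁻¹)⁻¹ = x * b * x⁻¹ * b⁻¹ :=
        inv_eq_of_mul_eq_one_right (hA2 _ hkA)
      have e1 : b * (x * b * x⁻¹ * b⁻¹) * b⁻¹ = (x * b * x⁻¹ * b⁻¹)⁻¹ := by
        have hbb : b * b = 1 := hB2 b hb
        have e0 : b * x * b * x⁻¹ = b * x * b⁻¹ * x⁻¹ := by rw [hbi]
        calc b * (x * b * x⁻¹ * b⁻¹) * b⁻¹ = b * x * b * x⁻¹ * (b * b)⁻¹ := by group
          _ = b * x * b * x⁻¹ := by rw [hbb, inv_one, mul_one]
          _ = b * x * b⁻¹ * x⁻¹ := e0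
          _ = (x * b * x⁻¹ * b⁻¹)⁻¹ := by group
      rw [hkinv] at e1
      calc (x * b * x⁻¹ * b⁻¹) * b = (b * (x * b * x⁻¹ * b⁻¹) * b⁻¹) * b := by rw [e1]
        _ = b * (x * b * x⁻¹ * b⁻¹) := by group
    -- k commutes with all of B
    have hkB : ∀ b'' ∈ B, (x * b * x⁻¹ * b⁻¹) * b'' = b'' * (x * b * x⁻¹ * b⁻¹) := by
      intro b'' hb''
      by_cases hb1 : b = 1
      · rw [hb1]; simp
      · exact hcent _ hkA b hb hb1 hkb b'' hb''
    have hcdecomp : c = (x * b * x⁻¹ * b⁻¹) * b := by rw [hcb]; group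
    rw [hcdecomp]
    calc b' * ((x * b * x⁻¹ * b⁻¹) * b) = (b' * (x * b * x⁻¹ * b⁻¹)) * b := by group
      _ = ((x * b * x⁻¹ * b⁻¹) * b') * b := by rw [hkB b' hb']
      _ = (x * b * x⁻¹ * b⁻¹) * (b' * b) := by group
      _ = (x * b * x⁻¹ * b⁻¹) * (b * b') := by rw [hBc b' hb' b hb]
      _ = (x * b * x⁻¹ * b⁻¹) * b * b' := by group
  -- 4. conclude
  intro x hx b hb
  have h1 : x * b * x⁻¹ ∈ B := by
    rw [← hAN x hx]; exact conj_mem_map_conj hb
  have h2 : x * b * x⁻¹ * b⁻¹ ∈ A ⊓ B := by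
    refine Subgroup.mem_inf.mpr ⟨?_, mul_mem h1 (inv_mem hb)⟩
    have : x * b * x⁻¹ * b⁻¹ = x * (b * x⁻¹ * b⁻¹) := by group
    rw [this]
    exact mul_mem hx (hBN b hb x⁻¹ (inv_mem hx))
  rw [hAB] at h2
  have h3 : x * b * x⁻¹ * b⁻¹ = 1 := h2
  calc x * b = (x * b * x⁻¹ * b⁻¹) * b * x := by group
    _ = b * x := by rw [h3, one_mul]


/-- Let A be a nontrivial elementary abelian 2-subgroup of a finite group G which is a T.I. set (each conjugate of A meets A trivially or equals A) and which does not commute elementwise with any conjugate of A other than A itself. Then for every a ∈ A, a ≠ 1, every conjugate of A contained in C_G(a) is equal to A (A is weakly closed in C_G(a)). -/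
theorem result {G : Type*} [Group G] [Finite G] (A : Subgroup G) (hA : Cfsg.IsElementaryAbelian 2 A) (hA1 : A ≠ ⊥) (hTI : ∀ g : G, A.map (MulAut.conj g).toMonoidHom ⊓ A = ⊥ ∨ A.map (MulAut.conj g).toMonoidHom = A) (hb : ∀ g : G, (∀ a ∈ A, ∀ b ∈ A.map (MulAut.conj g).toMonoidHom, a * b = b * a) → A.map (MulAut.conj g).toMonoidHom = A) (a : G) (ha : a ∈ A) (ha1 : a ≠ 1) (g : G) (hg : A.map (MulAut.conj g).toMonoidHom ≤ Subgroup.centralizer ({a} : Set G)) : A.map (MulAut.conj g).toMonoidHom = A := by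
  obtain ⟨hAcomm, hAexp⟩ := hA
  have hAc : ∀ x ∈ A, ∀ y ∈ A, x * y = y * x := by
    intro x hx y hy
    have := hAcomm.is_comm.comm (⟨x, hx⟩ : A) ⟨y, hy⟩
    exact congrArg Subtype.val this
  have hA2 : ∀ x ∈ A, x * x = 1 := by
    intro x hx
    have := hAexp x hx
    rwa [pow_two] at this
  rcases hTI g with hdisj | heq
  swap
  · exact heq
  apply hb g
  -- B = A^g
  have hBc : ∀ x ∈ A.map (MulAut.conj g).toMonoidHom, ∀ y ∈ A.map (MulAut.conj g).toMonoidHom, x * y = y * x := by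
    intro x hx y hy
    rw [mem_map_conj] at hx hy
    have := hAc _ hx _ hy
    calc x * y = g * ((g⁻¹ * x * g) * (g⁻¹ * y * g)) * g⁻¹ := by group
      _ = g * ((g⁻¹ * y * g) * (g⁻¹ * x * g)) * g⁻¹ := by rw [this]
      _ = y * x := by group
  have hB2 : ∀ x ∈ A.map (MulAut.conj g).toMonoidHom, x * x = 1 := by
    intro x hx
    rw [mem_map_conj] at hx
    have := hA2 _ hx
    calc x * x = g * ((g⁻¹ * x * g) * (g⁻¹ * x * g)) * g⁻¹ := by group
      _ = 1 := by rw [this]; group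
  have hTIB : ∀ y ∈ A, (A.map (MulAut.conj g).toMonoidHom).map (MulAut.conj y).toMonoidHom ⊓ A.map (MulAut.conj g).toMonoidHom = ⊥ ∨
      (A.map (MulAut.conj g).toMonoidHom).map (MulAut.conj y).toMonoidHom = A.map (MulAut.conj g).toMonoidHom := by
    intro y _
    rcases hTI (g⁻¹ * y * g) with h | h
    · left
      rw [eq_bot_iff]
      intro x hx
      obtain ⟨hx1, hx2⟩ := Subgroup.mem_inf.mp hx
      rw [← map_conj_mul, mem_map_conj] at hx1
      rw [mem_map_conj] at hx2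
      have hmem : g⁻¹ * x * g ∈ A.map (MulAut.conj (g⁻¹ * y * g)).toMonoidHom ⊓ A := by
        refine Subgroup.mem_inf.mpr ⟨?_, hx2⟩
        rw [mem_map_conj]
        have : (g⁻¹ * y * g)⁻¹ * (g⁻¹ * x * g) * (g⁻¹ * y * g) = (y * g)⁻¹ * x * (y * g) := by group
        rw [this]; exact hx1
      rw [h] at hmem
      have h1 : g⁻¹ * x * g = 1 := hmem
      have : x = g * (g⁻¹ * x * g) * g⁻¹ := by group
      rw [this, h1]
      simp
    · right
      rw [← map_conj_mul]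
      have : y * g = g * (g⁻¹ * y * g) := by group
      rw [this, map_conj_mul, h]
  have hbB : ∀ x ∈ A, (∀ b ∈ A.map (MulAut.conj g).toMonoidHom, ∀ c ∈ (A.map (MulAut.conj g).toMonoidHom).map (MulAut.conj x).toMonoidHom, b * c = c * b) →
      (A.map (MulAut.conj g).toMonoidHom).map (MulAut.conj x).toMonoidHom = A.map (MulAut.conj g).toMonoidHom := by
    intro x _ hcomm
    have key : A.map (MulAut.conj (g⁻¹ * x * g)).toMonoidHom = A := by
      apply hb
      intro a' ha' c hc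
      rw [mem_map_conj] at hc
      have h1 : g * a' * g⁻¹ ∈ A.map (MulAut.conj g).toMonoidHom := conj_mem_map_conj ha'
      have h2 : g * c * g⁻¹ ∈ (A.map (MulAut.conj g).toMonoidHom).map (MulAut.conj x).toMonoidHom := by
        rw [← map_conj_mul, mem_map_conj]
        have : (x * g)⁻¹ * (g * c * g⁻¹) * (x * g) = (g⁻¹ * x * g)⁻¹ * c * (g⁻¹ * x * g) := by group
        rw [this]; exact hc
      have := hcomm _ h1 _ h2
      calc a' * c = g⁻¹ * ((g * a' * g⁻¹) * (g * c * g⁻¹)) * g := by group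
        _ = g⁻¹ * ((g * c * g⁻¹) * (g * a' * g⁻¹)) * g := by rw [this]
        _ = c * a' := by group
    rw [← map_conj_mul]
    have : x * g = g * (g⁻¹ * x * g) := by group
    rw [this, map_conj_mul, key]
  have hAB : A ⊓ A.map (MulAut.conj g).toMonoidHom = ⊥ := by rw [inf_comm]; exact hdisj
  exact core A (A.map (MulAut.conj g).toMonoidHom) hAc hA2 hBc hB2 (fun b _ => hTI b) hTIB hbB a ha ha1 hg hAB

end Cfsg.Agent.S1177
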