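import Cfsg.Statements.S1178
import Cfsg.Agent.Lib.Helper20.ConjMap

set_option autoImplicit false
open Cfsg

namespace Cfsg.Agent.S1178

open Cfsg.Agent.Lib.Helper20


/-- Let A be a subgroup of a Sylow 2-subgroup S of the finite group G which is weakly closed in S. If a conjugate g A g⁻¹ commutes elementwise with A, then g A g⁻¹ = A. -/
theorem result {G : Type*} [Group G] [Finite G] (S : Sylow 2 G) (A : Subgroup G) (hW : Cfsg.IsWeaklyClosed A (S : Subgroup G)) (g : G) (hc : ∀ a ∈ A, ∀ b ∈ A.map (MulAut.conj g).toMonoidHom, a * b = b * a) : A.map (MulAut.conj g).toMonoidHom = A := by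
  obtain ⟨hAS, hwc⟩ := hW
  have hA2 : IsPGroup 2 A := S.isPGroup'.to_le hAS
  have hB2 : IsPGroup 2 (A.map (MulAut.conj g).toMonoidHom) := isPGroup_map_conj hA2 g
  -- B normalizes A
  have hBN : A.map (MulAut.conj g).toMonoidHom ≤ Subgroup.normalizer (A : Set G) := by
    intro b hb
    rw [Subgroup.mem_normalizer_iff]
    intro a
    constructor
    · intro ha
      have : b * a * b⁻¹ = a := by
        have := hc a ha b hb
        calc b * a * b⁻¹ = (a * b) * b⁻¹ := by rw [this]
          _ = a := by group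
      rw [this]; exact ha
    · intro ha
      have h1 := hc _ ha b hb
      -- (b a b⁻¹) b = b (b a b⁻¹) → b a = b b a b⁻¹ → a = b a b⁻¹
      have : b * a * b⁻¹ = a := by
        have h2 : b * a = b * (b * a * b⁻¹) := by
          calc b * a = (b * a * b⁻¹) * b := by group
            _ = b * (b * a * b⁻¹) := h1
        exact (mul_left_cancel h2).symm
      rw [← this]; exact ha
  have hsup : IsPGroup 2 (A ⊔ A.map (MulAut.conj g).toMonoidHom : Subgroup G) :=
    hA2.to_sup_of_normal_left' hB2 hBN
  obtain ⟨h, hh⟩ := pgroup_le_map_conj_sylow S hsup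
  -- A ≤ S^h, so A^(h⁻¹) ≤ S
  have h1 : A.map (MulAut.conj h⁻¹).toMonoidHom ≤ S := by
    intro x hx
    rw [mem_map_conj, inv_inv] at hx
    have := hh (le_sup_left (a := A) hx)
    rw [mem_map_conj] at this
    have e : h⁻¹ * (h * x * h⁻¹) * h = x := by group
    rwa [e] at this
  have h2 : A.map (MulAut.conj (h⁻¹ * g)).toMonoidHom ≤ S := by
    intro x hx
    rw [map_conj_mul, mem_map_conj, inv_inv] at hx
    have := hh (le_sup_right (a := A) hx)
    rw [mem_map_conj] at this
    have e : h⁻¹ * (h * x * h⁻¹) * h = x := by group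
    rwa [e] at this
  have e1 := hwc _ h1
  have e2 := hwc _ h2
  have e3 : A.map (MulAut.conj h).toMonoidHom = A := by
    have := map_conj_inv_eq e1
    rwa [inv_inv] at this
  calc A.map (MulAut.conj g).toMonoidHom = A.map (MulAut.conj (h * (h⁻¹ * g))).toMonoidHom := by
        rw [mul_inv_cancel_left]
    _ = (A.map (MulAut.conj (h⁻¹ * g)).toMonoidHom).map (MulAut.conj h).toMonoidHom := map_conj_mul _ _ _
    _ = A.map (MulAut.conj h).toMonoidHom := by rw [e2]
    _ = A := e3

end Cfsg.Agent.S1178
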