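import Cfsg.Statements.S1181
import Cfsg.Agent.Lib.Helper20.Isolated

set_option autoImplicit false
open Cfsg

namespace Cfsg.Agent.S1181

open Cfsg.Agent.Lib.Helper20

theorem cent_eq {G : Type*} [Group G] [Finite G] (z : G) (hz : Cfsg.IsIsolatedInvolution z)
    (N : Subgroup G) [N.Normal] :
    Subgroup.centralizer ({(QuotientGroup.mk z : G ⧸ N)} : Set (G ⧸ N)) =
      (Subgroup.centralizer ({z} : Set G)).map (QuotientGroup.mk' N) := by
  have hzi := iso_inv hz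
  ext q
  constructor
  · intro hq
    obtain ⟨g, rfl⟩ := QuotientGroup.mk_surjective q
    rw [mem_centralizer_iff_conj] at hq
    -- g z g⁻¹ z ∈ N
    have h1 : g * z * g⁻¹ * z ∈ N := by
      have : ((g * z * g⁻¹ * z : G) : G ⧸ N) = 1 := by
        have e : ((g * z * g⁻¹ * z : G) : G ⧸ N) = ((g : G ⧸ N) * (z : G ⧸ N) * (g : G ⧸ N)⁻¹) * (z : G ⧸ N) := by
          simp
        rw [e, hq, ← QuotientGroup.mk_mul, iso_mul_self hz]
        rfl
      exact (QuotientGroup.eq_one_iff _).mp this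
    obtain ⟨m, hm⟩ := iso_conj_by_pow hz g
    have hl : (g * z * g⁻¹ * z) ^ m ∈ N := pow_mem h1 m
    refine ⟨((g * z * g⁻¹ * z) ^ m)⁻¹ * g, ?_, ?_⟩
    · rw [SetLike.mem_coe, mem_centralizer_iff_conj]
      calc ((g * z * g⁻¹ * z) ^ m)⁻¹ * g * z * (((g * z * g⁻¹ * z) ^ m)⁻¹ * g)⁻¹
          = ((g * z * g⁻¹ * z) ^ m)⁻¹ * (g * z * g⁻¹) * ((g * z * g⁻¹ * z) ^ m) := by group
        _ = ((g * z * g⁻¹ * z) ^ m)⁻¹ * ((g * z * g⁻¹ * z) ^ m * z * ((g * z * g⁻¹ * z) ^ m)⁻¹) * ((g * z * g⁻¹ * z) ^ m) := by rw [hm]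
        _ = z := by group
    · show ((((g * z * g⁻¹ * z) ^ m)⁻¹ * g : G) : G ⧸ N) = (g : G ⧸ N)
      rw [QuotientGroup.mk_mul, QuotientGroup.mk_inv, (QuotientGroup.eq_one_iff _).mpr hl, inv_one, one_mul]
  · rintro ⟨c, hc, rfl⟩
    rw [SetLike.mem_coe, Subgroup.mem_centralizer_singleton_iff] at hc
    rw [Subgroup.mem_centralizer_singleton_iff]
    show ((c : G) : G ⧸ N) * ((z : G) : G ⧸ N) = ((z : G) : G ⧸ N) * ((c : G) : G ⧸ N)
    rw [← QuotientGroup.mk_mul, ← QuotientGroup.mk_mul, hc]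


/-- Let z be an isolated involution of the finite group G and N a normal subgroup with z ∉ N. Then the centralizer of zN in G/N is the image of C_G(z), and zN is an isolated involution of G/N. -/
theorem result {G : Type*} [Group G] [Finite G] (z : G) (hz : Cfsg.IsIsolatedInvolution z) (N : Subgroup G) [N.Normal] (hzN : z ∉ N) : Subgroup.centralizer ({(QuotientGroup.mk z : G ⧸ N)} : Set (G ⧸ N)) = (Subgroup.centralizer ({z} : Set G)).map (QuotientGroup.mk' N) ∧ Cfsg.IsIsolatedInvolution (QuotientGroup.mk z : G ⧸ N) := by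
  refine ⟨cent_eq z hz N, ?_, ?_⟩
  · refine orderOf_eq_prime ?_ ?_
    · rw [← QuotientGroup.mk_pow, pow_two, iso_mul_self hz]; rfl
    · intro h
      exact hzN ((QuotientGroup.eq_one_iff _).mp h)
  · intro q hq
    obtain ⟨g, rfl⟩ := QuotientGroup.mk_surjective q
    have hmem : ((g : G ⧸ N) * (z : G ⧸ N) * (g : G ⧸ N)⁻¹) ∈
        Subgroup.centralizer ({(QuotientGroup.mk z : G ⧸ N)} : Set (G ⧸ N)) := by
      rw [Subgroup.mem_centralizer_singleton_iff]
      exact hq.eq.symm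
    rw [cent_eq z hz N] at hmem
    obtain ⟨c, hc, hcw⟩ := hmem
    rw [SetLike.mem_coe, Subgroup.mem_centralizer_singleton_iff] at hc
    obtain ⟨m, hm⟩ := iso_conj_by_pow hz g
    have hcw' : ((c : G) : G ⧸ N) = (g : G ⧸ N) * (z : G ⧸ N) * (g : G ⧸ N)⁻¹ := hcw
    have hcz : Commute ((c : G) : G ⧸ N) ((z : G) : G ⧸ N) := by
      show ((c : G) : G ⧸ N) * ((z : G) : G ⧸ N) = ((z : G) : G ⧸ N) * ((c : G) : G ⧸ N)
      rw [← QuotientGroup.mk_mul, ← QuotientGroup.mk_mul, hc]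
    have hlz : Commute ((((c : G) : G ⧸ N) * ((z : G) : G ⧸ N)) ^ m) ((z : G) : G ⧸ N) :=
      (hcz.mul_left (Commute.refl _)).pow_left m
    have e : (g : G ⧸ N) * (z : G ⧸ N) * (g : G ⧸ N)⁻¹ =
        ((((c : G) : G ⧸ N) * ((z : G) : G ⧸ N)) ^ m) * ((z : G) : G ⧸ N) * ((((c : G) : G ⧸ N) * ((z : G) : G ⧸ N)) ^ m)⁻¹ := by
      have := congrArg (fun w : G => (w : G ⧸ N)) hm
      simp only [QuotientGroup.mk_mul, QuotientGroup.mk_inv, QuotientGroup.mk_pow] at this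
      rw [hcw', this]
    rw [e, hlz.eq]
    group

end Cfsg.Agent.S1181
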