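import Cfsg.Statements.S1184
import Cfsg.Agent.Lib.Helper20.Isolated

set_option autoImplicit false
open Cfsg

namespace Cfsg.Agent.S1184

open Cfsg.Agent.Lib.Helper20

theorem aux {G : Type*} [Group G] [Finite G] (z : G) (hz : Cfsg.IsIsolatedInvolution z) (g h s t r : G)
    (hs : s = g * z * g⁻¹) (ht : t = h * z * h⁻¹) (hr : r = s * t) (hcomm : Commute r z) : s = t := by
  have hzz := iso_mul_self hz
  have hzi := iso_inv hz
  have hsiso : Cfsg.IsIsolatedInvolution s := by rw [hs]; exact iso_conj hz g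
  have hss : s * s = 1 := iso_mul_self hsiso
  have hsi : s⁻¹ = s := iso_inv hsiso
  have htt : t * t = 1 := by rw [ht]; exact conj_mul_self hzz h
  have hti : t⁻¹ = t := inv_eq_of_mul_eq_one_right htt
  -- t is a conjugate of s
  have htconj : t = (h * g⁻¹) * s * (h * g⁻¹)⁻¹ := by rw [hs, ht]; group
  -- r has odd order
  have hodd : Odd (orderOf r) := by
    rw [hr, htconj]; exact iso_odd_order_mul hsiso (h * g⁻¹)
  -- s inverts r
  have hsr : s * r * s⁻¹ = r⁻¹ := by
    rw [hr, mul_inv_rev, hsi, hti, ← mul_assoc, hss, one_mul]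
  -- C = centralizer of r; s z normalizes C
  have hzC : z ∈ Subgroup.centralizer ({r} : Set G) := by
    rw [Subgroup.mem_centralizer_singleton_iff]
    exact hcomm.eq.symm
  have hnorm : s * z ∈ Subgroup.normalizer ((Subgroup.centralizer ({r} : Set G) : Subgroup G) : Set G) := by
    rw [Subgroup.mem_normalizer_iff]
    intro c
    rw [Subgroup.mem_centralizer_singleton_iff, Subgroup.mem_centralizer_singleton_iff]
    have hzr : z * r = r * z := hcomm.eq.symm
    have hszr : (s * z) * r * (s * z)⁻¹ = r⁻¹ := by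
      rw [mul_inv_rev, hzi, hsi]
      calc s * z * r * (z * s) = s * (z * r) * z * s := by group
        _ = s * (r * z) * z * s := by rw [hzr]
        _ = s * r * (z * z) * s := by group
        _ = s * r * s⁻¹ := by rw [hzz, mul_one, hsi]
        _ = r⁻¹ := hsr
    have hszr' : (s * z)⁻¹ * r * (s * z) = r⁻¹ := by
      have : r = (s * z)⁻¹ * r⁻¹ * (s * z) := by rw [← hszr]; group
      calc (s * z)⁻¹ * r * (s * z) = ((s * z)⁻¹ * r⁻¹ * (s * z))⁻¹ := by group
        _ = r⁻¹ := by rw [← this]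
    constructor
    · intro hc
      have e1 : s * z * c * (s * z)⁻¹ * r = (s * z) * (c * r⁻¹) * (s * z)⁻¹ := by
        calc s * z * c * (s * z)⁻¹ * r = (s * z) * c * ((s * z)⁻¹ * r * (s * z)) * (s * z)⁻¹ := by group
          _ = (s * z) * (c * r⁻¹) * (s * z)⁻¹ := by rw [hszr']; group
      have e2 : r * (s * z * c * (s * z)⁻¹) = (s * z) * (r⁻¹ * c) * (s * z)⁻¹ := by
        calc r * (s * z * c * (s * z)⁻¹) = (s * z) * (((s * z)⁻¹ * r * (s * z)) * c) * (s * z)⁻¹ := by group
          _ = (s * z) * (r⁻¹ * c) * (s * z)⁻¹ := by rw [hszr']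
      have e3 : c * r⁻¹ = r⁻¹ * c := by
        calc c * r⁻¹ = r⁻¹ * (r * c) * r⁻¹ := by group
          _ = r⁻¹ * (c * r) * r⁻¹ := by rw [hc]
          _ = r⁻¹ * c := by group
      rw [e2, e1, e3]
    · intro hc
      have e1 : c * r = (s * z)⁻¹ * ((s * z * c * (s * z)⁻¹) * r⁻¹) * (s * z) := by
        calc c * r = (s * z)⁻¹ * ((s * z * c * (s * z)⁻¹) * ((s * z) * r * (s * z)⁻¹)) * (s * z) := by group
          _ = (s * z)⁻¹ * ((s * z * c * (s * z)⁻¹) * r⁻¹) * (s * z) := by rw [hszr]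
      have e2 : r * c = (s * z)⁻¹ * (r⁻¹ * (s * z * c * (s * z)⁻¹)) * (s * z) := by
        calc r * c = (s * z)⁻¹ * (((s * z) * r * (s * z)⁻¹) * (s * z * c * (s * z)⁻¹)) * (s * z) := by group
          _ = (s * z)⁻¹ * (r⁻¹ * (s * z * c * (s * z)⁻¹)) * (s * z) := by rw [hszr]
      obtain ⟨d, hd⟩ : ∃ d, d = s * z * c * (s * z)⁻¹ := ⟨_, rfl⟩
      rw [← hd] at hc e1 e2
      have e3 : d * r⁻¹ = r⁻¹ * d := by
        calc d * r⁻¹ = r⁻¹ * (r * d) * r⁻¹ := by group
          _ = r⁻¹ * (d * r) * r⁻¹ := by rw [hc]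
          _ = r⁻¹ * d := by group
      rw [e2, e1, e3]
  -- s = l z l⁻¹ with l a power of s z
  obtain ⟨m, hm⟩ := iso_conj_by_pow hz g
  rw [← hs] at hm
  have hl : (s * z) ^ m ∈ Subgroup.normalizer ((Subgroup.centralizer ({r} : Set G) : Subgroup G) : Set G) :=
    pow_mem hnorm m
  have hsC : s ∈ Subgroup.centralizer ({r} : Set G) := by
    rw [← hm]
    exact (Subgroup.mem_normalizer_iff.mp hl z).mp hzC
  rw [Subgroup.mem_centralizer_singleton_iff] at hsC
  -- so r = r⁻¹
  have hrr : r * r = 1 := by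
    have : r⁻¹ = r := by
      rw [← hsr]
      calc s * r * s⁻¹ = (r * s) * s⁻¹ := by rw [hsC]
        _ = r := by group
    calc r * r = r * r⁻¹ := by rw [this]
      _ = 1 := mul_inv_cancel r
  have hr1 : r = 1 := by
    have h2 : orderOf r ∣ 2 := orderOf_dvd_of_pow_eq_one (by rw [pow_two]; exact hrr)
    have h1 : orderOf r = 1 := by
      rcases (Nat.dvd_prime Nat.prime_two).mp h2 with h | h
      · exact h
      · rw [h] at hodd; exact absurd hodd (by decide)
    exact orderOf_eq_one_iff.mp h1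
  -- s * t = 1 → t = s⁻¹ = s
  rw [hr] at hr1
  have : t = s⁻¹ := (inv_eq_of_mul_eq_one_right hr1).symm
  rw [this, hsi]


/-- Let z be an isolated involution of the finite group G. If s and t are distinct conjugates of z, then st does not commute with z. -/
theorem result {G : Type*} [Group G] [Finite G] (z : G) (hz : Cfsg.IsIsolatedInvolution z) (g h : G) (hne : g * z * g⁻¹ ≠ h * z * h⁻¹) : ¬ Commute (g * z * g⁻¹ * (h * z * h⁻¹)) z := by
  intro hcomm
  exact hne (aux z hz g h _ _ _ rfl rfl rfl hcomm)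

end Cfsg.Agent.S1184
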