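import Cfsg.Statements.S1185
import Cfsg.Agent.Lib.Helper20.Isolated

set_option autoImplicit false
open Cfsg

namespace Cfsg.Agent.S1185

open Cfsg.Agent.Lib.Helper20


/-- Let z be an isolated involution of the finite group G with centralizer C. Then for every g ∈ G there is exactly one element k in the coset gC that has odd order and is inverted by z. -/
theorem result {G : Type*} [Group G] [Finite G] (z : G) (hz : Cfsg.IsIsolatedInvolution z) (g : G) : ∃! k : G, (Odd (orderOf k) ∧ z * k * z⁻¹ = k⁻¹) ∧ g⁻¹ * k ∈ Subgroup.centralizer ({z} : Set G) := by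
  obtain ⟨k, hk1, hk2, hk3, -⟩ := iso_K_exists hz g
  refine ⟨k, ⟨⟨hk1, hk2⟩, ?_⟩, ?_⟩
  · rw [mem_centralizer_iff_conj]
    calc g⁻¹ * k * z * (g⁻¹ * k)⁻¹ = g⁻¹ * (k * z * k⁻¹) * g := by group
      _ = z := by rw [hk3]; group
  · rintro k' ⟨⟨hk1', hk2'⟩, hk3'⟩
    rw [mem_centralizer_iff_conj] at hk3'
    have : k' * z * k'⁻¹ = g * z * g⁻¹ := by
      calc k' * z * k'⁻¹ = g * (g⁻¹ * k' * z * (g⁻¹ * k')⁻¹) * g⁻¹ := by group
        _ = g * z * g⁻¹ := by rw [hk3']
    exact iso_K_unique hk1' hk2' hk1 hk2 (this.trans hk3.symm)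

end Cfsg.Agent.S1185
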