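import Cfsg.Statements.S1186
import Cfsg.Agent.Lib.Helper20.Isolated
import Cfsg.Agent.S1184

set_option autoImplicit false
open Cfsg

namespace Cfsg.Agent.S1186

open Cfsg.Agent.Lib.Helper20

variable {G : Type*} [Group G]

/-- If `k` has odd order and `k * k` commutes with `t`, then `k` commutes with `t`. -/
theorem commute_of_sq {k t : G} (hk : Odd (orderOf k)) (h : Commute (k * k) t) : Commute k t := by
  obtain ⟨i, hi⟩ := hk
  have hk' : k = (k * k) ^ (i + 1) := by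
    rw [← pow_two, ← pow_mul]
    have : 2 * (i + 1) = orderOf k + 1 := by omega
    rw [this, pow_succ, pow_orderOf_eq_one, one_mul]
  rw [hk']
  exact h.pow_left _

/-- If `k ∈ K` and `t` commutes with `z` and with `k z k⁻¹`, then `t` commutes with `k`. -/
theorem commute_of_conj_commute {z k t : G} (hk : Odd (orderOf k)) (hkz : z * k * z⁻¹ = k⁻¹)
    (htz : Commute t z) (h : Commute (k * z * k⁻¹) t) : Commute k t := by
  apply commute_of_sq hk
  rw [conj_of_inverted hkz] at h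
  show k * k * t = t * (k * k)
  have h1 : k * k * z * t = t * (k * k * z) := h.eq
  have h2 : z * t = t * z := htz.eq.symm
  have h3 : k * k * t * z = t * (k * k) * z := by
    calc k * k * t * z = k * k * (t * z) := by group
      _ = k * k * (z * t) := by rw [h2]
      _ = k * k * z * t := by group
      _ = t * (k * k * z) := h1
      _ = t * (k * k) * z := by group
  exact mul_right_cancel h3

theorem calc1 {u u' w : G} (hu2i : u'⁻¹ = u') (h : u * w * u⁻¹ = u' * w * u'⁻¹) :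
    Commute (u' * u) w := by
  show u' * u * w = w * (u' * u)
  calc u' * u * w = u' * (u * w * u⁻¹) * u := by group
    _ = u' * (u' * w * u'⁻¹) * u := by rw [h]
    _ = (u' * u') * w * (u'⁻¹ * u) := by group
    _ = (u' * u'⁻¹) * w * (u' * u) := by rw [hu2i]
    _ = w * (u' * u) := by group

theorem calc2 {u w s : G} (hui : u⁻¹ = u) (hsi : s⁻¹ = s) (h : u * w * u⁻¹ = s * w * s⁻¹) :
    (s * u * s⁻¹) * w * (s * u * s⁻¹)⁻¹ = s * w * s⁻¹ := by
  have h2 : u * (s * w * s⁻¹) * u⁻¹ = w := by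
    rw [← h, hui]
    calc u * (u * w * u) * u = (u * u) * w * (u * u) := by group
      _ = (u * u⁻¹) * w * (u * u⁻¹) := by rw [hui]
      _ = w := by group
  calc s * u * s⁻¹ * w * (s * u * s⁻¹)⁻¹ = s * (u * (s⁻¹ * w * s) * u⁻¹) * s⁻¹ := by group
    _ = s * (u * (s * w * s⁻¹) * u⁻¹) * s⁻¹ := by rw [hsi]
    _ = s * w * s⁻¹ := by rw [h2]

theorem conj_eq_of_commute {v s z : G} (hsi : s⁻¹ = s) (h : Commute v (s * z)) :
    z * v * z⁻¹ = s * v * s⁻¹ := by
  have h1 : (s * z) * v * (s * z)⁻¹ = v := by rw [← h.eq]; group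
  have h2 : s⁻¹ * v * s = s * v * s⁻¹ := by rw [hsi]
  calc z * v * z⁻¹ = s⁻¹ * ((s * z) * v * (s * z)⁻¹) * s := by group
    _ = s⁻¹ * v * s := by rw [h1]
    _ = s * v * s⁻¹ := h2

theorem calc3 {k w : G} : k * w * w * (k * w)⁻¹ = k * w * k⁻¹ := by group

/-- Uniqueness of midpoints. -/
theorem midpoint_unique [Finite G] {z : G} (hz : Cfsg.IsIsolatedInvolution z) (g g₁ g₂ : G)
    (h : (g₁ * z * g₁⁻¹) * (g * z * g⁻¹) * (g₁ * z * g₁⁻¹)⁻¹ =
      (g₂ * z * g₂⁻¹) * (g * z * g⁻¹) * (g₂ * z * g₂⁻¹)⁻¹) :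
    g₁ * z * g₁⁻¹ = g₂ * z * g₂⁻¹ := by
  have hw := iso_conj hz g
  have hu2i : (g₂ * z * g₂⁻¹)⁻¹ = g₂ * z * g₂⁻¹ := iso_inv (iso_conj hz g₂)
  have hu1i : (g₁ * z * g₁⁻¹)⁻¹ = g₁ * z * g₁⁻¹ := iso_inv (iso_conj hz g₁)
  symm
  apply Cfsg.Agent.S1184.aux (g * z * g⁻¹) hw (g₂ * g⁻¹) (g₁ * g⁻¹) (g₂ * z * g₂⁻¹) (g₁ * z * g₁⁻¹)
    ((g₂ * z * g₂⁻¹) * (g₁ * z * g₁⁻¹)) (by group) (by group) rfl
  exact calc1 hu2i h

/-- Existence of midpoints. -/
theorem midpoint_exists [Finite G] {z : G} (hz : Cfsg.IsIsolatedInvolution z) (s g : G) :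
    ∃ g₁ : G, (g₁ * z * g₁⁻¹) * (g * z * g⁻¹) * (g₁ * z * g₁⁻¹)⁻¹ = s * (g * z * g⁻¹) * s⁻¹ := by
  have hw := iso_conj hz g
  obtain ⟨k, hk1, hk2, hk3, -⟩ := iso_K_exists hw s
  obtain ⟨i, hi⟩ := hk1
  have hhh : k ^ (i + 1) * k ^ (i + 1) = k := by
    rw [← pow_add]
    have : i + 1 + (i + 1) = orderOf k + 1 := by omega
    rw [this, pow_succ, pow_orderOf_eq_one, one_mul]
  have hinv : (g * z * g⁻¹) * k ^ (i + 1) * (g * z * g⁻¹)⁻¹ = (k ^ (i + 1))⁻¹ := by
    rw [← conj_pow, hk2, inv_pow]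
  have hu : k ^ (i + 1) * (g * z * g⁻¹) * (k ^ (i + 1))⁻¹ = k * (g * z * g⁻¹) := by
    rw [conj_of_inverted hinv, hhh]
  refine ⟨k ^ (i + 1) * g, ?_⟩
  have e : (k ^ (i + 1) * g) * z * (k ^ (i + 1) * g)⁻¹ = k * (g * z * g⁻¹) := by
    rw [← hu]; group
  rw [e, ← hk3]
  exact calc3

/-- The midpoint commutes with `s` when `s` is an involution. -/
theorem midpoint_commute [Finite G] {z : G} (hz : Cfsg.IsIsolatedInvolution z) (s g g₁ : G)
    (hs : s * s = 1)
    (h : (g₁ * z * g₁⁻¹) * (g * z * g⁻¹) * (g₁ * z * g₁⁻¹)⁻¹ = s * (g * z * g⁻¹) * s⁻¹) :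
    Commute (g₁ * z * g₁⁻¹) s := by
  have hsi : s⁻¹ = s := inv_eq_of_mul_eq_one_right hs
  have hui : (g₁ * z * g₁⁻¹)⁻¹ = g₁ * z * g₁⁻¹ := iso_inv (iso_conj hz g₁)
  -- s u s⁻¹ is also a midpoint
  have key : ((s * g₁) * z * (s * g₁)⁻¹) * (g * z * g⁻¹) * ((s * g₁) * z * (s * g₁)⁻¹)⁻¹ =
      (g₁ * z * g₁⁻¹) * (g * z * g⁻¹) * (g₁ * z * g₁⁻¹)⁻¹ := by
    have e : (s * g₁) * z * (s * g₁)⁻¹ = s * (g₁ * z * g₁⁻¹) * s⁻¹ := by group
    rw [e, h]
    exact calc2 hui hsi h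
  have := midpoint_unique hz g (s * g₁) g₁ key
  have e : (s * g₁) * z * (s * g₁)⁻¹ = s * (g₁ * z * g₁⁻¹) * s⁻¹ := by group
  rw [e] at this
  show (g₁ * z * g₁⁻¹) * s = s * (g₁ * z * g₁⁻¹)
  calc (g₁ * z * g₁⁻¹) * s = (s * (g₁ * z * g₁⁻¹) * s⁻¹) * s := by rw [this]
    _ = s * (g₁ * z * g₁⁻¹) := by group


/-- Let z be an isolated involution of the finite group G, C = C_G(z), K the set of elements of odd order inverted by z, and s an involution of C. Then |G| = |C| · |C_K(sz)| · |C_K(s)|. -/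
theorem result {G : Type*} [Group G] [Finite G] (z : G) (hz : Cfsg.IsIsolatedInvolution z) (s : G) (hs : orderOf s = 2) (hsz : Commute s z) : Nat.card G = Nat.card (Subgroup.centralizer ({z} : Set G)) * Nat.card {k : G // Odd (orderOf k) ∧ z * k * z⁻¹ = k⁻¹ ∧ Commute k (s * z)} * Nat.card {k : G // Odd (orderOf k) ∧ z * k * z⁻¹ = k⁻¹ ∧ Commute k s} := by
  have hss : s * s = 1 := by
    have := pow_orderOf_eq_one s
    rwa [hs, pow_two] at this
  have hsi : s⁻¹ = s := inv_eq_of_mul_eq_one_right hss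
  have hzz := iso_mul_self hz
  have hzi := iso_inv hz
  -- the product map
  let f : (Subgroup.centralizer ({z} : Set G)) × {k : G // Odd (orderOf k) ∧ z * k * z⁻¹ = k⁻¹ ∧ Commute k (s * z)} ×
      {k : G // Odd (orderOf k) ∧ z * k * z⁻¹ = k⁻¹ ∧ Commute k s} → G :=
    fun p => (p.2.2 : G) * (p.2.1 : G) * (p.1 : G)
  have hf : Function.Bijective f := by
    constructor
    · rintro ⟨⟨c, hc⟩, ⟨b, hb1, hb2, hb3⟩, ⟨a, ha1, ha2, ha3⟩⟩ ⟨⟨c', hc'⟩, ⟨b', hb1', hb2', hb3'⟩, ⟨a', ha1', ha2', ha3'⟩⟩ h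
      simp only [f] at h
      rw [mem_centralizer_iff_conj] at hc hc'
      -- w = (ab) z (ab)⁻¹
      have hw : (a * b) * z * (a * b)⁻¹ = (a' * b') * z * (a' * b')⁻¹ := by
        calc (a * b) * z * (a * b)⁻¹ = (a * b) * (c * z * c⁻¹) * (a * b)⁻¹ := by rw [hc]
          _ = (a * b * c) * z * (a * b * c)⁻¹ := by group
          _ = (a' * b' * c') * z * (a' * b' * c')⁻¹ := by rw [h]
          _ = (a' * b') * (c' * z * c'⁻¹) * (a' * b')⁻¹ := by group
          _ = (a' * b') * z * (a' * b')⁻¹ := by rw [hc']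
      -- a z a⁻¹ is a midpoint of w
      have hmid : ∀ (a b : G), Commute a s → Commute b (s * z) →
          (a * z * a⁻¹) * ((a * b) * z * (a * b)⁻¹) * (a * z * a⁻¹)⁻¹ = s * ((a * b) * z * (a * b)⁻¹) * s⁻¹ := by
        intro a b has hbsz
        have h1 : s * a = a * s := has.eq.symm
        have hz_sz : Commute z (s * z) := by
          show z * (s * z) = (s * z) * z
          rw [← mul_assoc, ← hsz.eq]
        have hv : Commute (b * z * b⁻¹) (s * z) := (hbsz.mul_left hz_sz).mul_left hbsz.inv_left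
        have h3 : z * (b * z * b⁻¹) * z⁻¹ = s * (b * z * b⁻¹) * s⁻¹ := conj_eq_of_commute hsi hv
        calc (a * z * a⁻¹) * ((a * b) * z * (a * b)⁻¹) * (a * z * a⁻¹)⁻¹
            = a * (z * (b * z * b⁻¹) * z⁻¹) * a⁻¹ := by group
          _ = a * (s * (b * z * b⁻¹) * s⁻¹) * a⁻¹ := by rw [h3]
          _ = (a * s) * (b * z * b⁻¹) * (a * s)⁻¹ := by group
          _ = (s * a) * (b * z * b⁻¹) * (s * a)⁻¹ := by rw [h1]
          _ = s * ((a * b) * z * (a * b)⁻¹) * s⁻¹ := by group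
      have hm1 := hmid a b ha3 hb3
      have hm2 := hmid a' b' ha3' hb3'
      rw [← hw] at hm2
      have haa : a * z * a⁻¹ = a' * z * a'⁻¹ := midpoint_unique hz (a * b) a a' (hm1.trans hm2.symm)
      have ha_eq : a = a' := iso_K_unique ha1 ha2 ha1' ha2' haa
      subst ha_eq
      have hbb : b * z * b⁻¹ = b' * z * b'⁻¹ := by
        calc b * z * b⁻¹ = a⁻¹ * ((a * b) * z * (a * b)⁻¹) * a := by group
          _ = a⁻¹ * ((a * b') * z * (a * b')⁻¹) * a := by rw [hw]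
          _ = b' * z * b'⁻¹ := by group
      have hb_eq : b = b' := iso_K_unique hb1 hb2 hb1' hb2' hbb
      subst hb_eq
      have hc_eq : c = c' := mul_left_cancel h
      subst hc_eq
      rfl
    · intro g
      -- midpoint u of w = g z g⁻¹ and s w s⁻¹
      obtain ⟨g₁, hg₁⟩ := midpoint_exists hz s g
      have hus : Commute (g₁ * z * g₁⁻¹) s := midpoint_commute hz s g g₁ hss hg₁
      obtain ⟨a, ha1, ha2, ha3, -⟩ := iso_K_exists hz g₁
      have has : Commute a s := by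
        apply commute_of_conj_commute ha1 ha2 hsz
        rw [ha3]; exact hus
      -- v = a⁻¹ w a
      obtain ⟨b, hb1, hb2, hb3, -⟩ := iso_K_exists hz (a⁻¹ * g)
      have hv : b * z * b⁻¹ = a⁻¹ * (g * z * g⁻¹) * a := by rw [hb3]; group
      have hbsz : Commute b (s * z) := by
        apply commute_of_conj_commute hb1 hb2
        · show (s * z) * z = z * (s * z)
          rw [mul_assoc, hzz, mul_one, ← mul_assoc, ← hsz.eq, mul_assoc, hzz, mul_one]
        · -- v commutes with s z : from z v z⁻¹ = s v s⁻¹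
          have h1 : s * a = a * s := has.eq.symm
          have h1' : a⁻¹ * s = s * a⁻¹ := by
            calc a⁻¹ * s = a⁻¹ * (s * a) * a⁻¹ := by group
              _ = a⁻¹ * (a * s) * a⁻¹ := by rw [h1]
              _ = s * a⁻¹ := by group
          have h3 : z * (b * z * b⁻¹) * z⁻¹ = s * (b * z * b⁻¹) * s⁻¹ := by
            rw [hv]
            calc z * (a⁻¹ * (g * z * g⁻¹) * a) * z⁻¹
                = a⁻¹ * ((a * z * a⁻¹) * (g * z * g⁻¹) * (a * z * a⁻¹)⁻¹) * a := by group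
              _ = a⁻¹ * (s * (g * z * g⁻¹) * s⁻¹) * a := by rw [ha3, hg₁]
              _ = (a⁻¹ * s) * (g * z * g⁻¹) * (a⁻¹ * s)⁻¹ := by group
              _ = (s * a⁻¹) * (g * z * g⁻¹) * (s * a⁻¹)⁻¹ := by rw [h1']
              _ = s * (a⁻¹ * (g * z * g⁻¹) * a) * s⁻¹ := by group
          show (b * z * b⁻¹) * (s * z) = (s * z) * (b * z * b⁻¹)
          obtain ⟨v, hvdef⟩ : ∃ v, v = b * z * b⁻¹ := ⟨_, rfl⟩
          rw [← hvdef] at h3 ⊢
          have h4 : v * z⁻¹ = z⁻¹ * (s * v * s⁻¹) := by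
            rw [← h3]; group
          rw [hzi, hsi] at h4
          -- v z = z s v s  ⇒  v (s z) = v z s = z s v s s = z s v = s z v
          calc v * (s * z) = v * (z * s) := by rw [hsz.eq]
            _ = (v * z) * s := by group
            _ = (z * (s * v * s)) * s := by rw [h4]
            _ = z * s * v * (s * s) := by group
            _ = (z * s) * v := by rw [hss, mul_one]
            _ = (s * z) * v := by rw [hsz.eq]
      have hc : (a * b)⁻¹ * g ∈ Subgroup.centralizer ({z} : Set G) := by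
        rw [mem_centralizer_iff_conj]
        calc (a * b)⁻¹ * g * z * ((a * b)⁻¹ * g)⁻¹ = b⁻¹ * (a⁻¹ * (g * z * g⁻¹) * a) * b := by group
          _ = b⁻¹ * (b * z * b⁻¹) * b := by rw [hv]
          _ = z := by group
      refine ⟨(⟨(a * b)⁻¹ * g, hc⟩, ⟨b, hb1, hb2, hbsz⟩, ⟨a, ha1, ha2, has⟩), ?_⟩
      simp only [f]
      group
  rw [← Nat.card_congr (Equiv.ofBijective f hf), Nat.card_prod, Nat.card_prod, mul_assoc]

end Cfsg.Agent.S1186
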