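import Cfsg.Statements.S1189
import Cfsg.Agent.Lib.Helper20.QuasiDihedral
import Cfsg.Agent.Lib.Helper20.ClassCount

set_option autoImplicit false
open Cfsg

namespace Cfsg.Agent.S1189

open Cfsg.Agent.Lib.Helper20 Cfsg.Agent.Lib.Helper20.QD


/-- A quasi-dihedral 2-group has exactly two conjugacy classes of elements of order 2 and exactly two conjugacy classes of elements of order 4. -/
theorem result {S : Type*} [Group S] [Finite S] (hS : Cfsg.IsQuasiDihedral S) : Nat.card {C : ConjClasses S // ∃ t : S, orderOf t = 2 ∧ ConjClasses.mk t = C} = 2 ∧ Nat.card {C : ConjClasses S // ∃ t : S, orderOf t = 4 ∧ ConjClasses.mk t = C} = 2 := by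
  obtain ⟨n, x, y, d⟩ := exists_data hS
  have hn := d.hn
  -- conjugating f (2k) y to y and f (2k+1) y to f 1 y
  have hconj_even : ∀ k : ZMod (2 ^ n), IsConj y (f x n (2 * k) * y) := by
    intro k
    apply IsConj.symm
    apply isConj_of_conj_eq (g := f x n (-(k * (1 + qt n))))
    rw [conj_f_fy d]
    have h0 : 2 * k + (2 - hf n) * -(k * (1 + qt n)) = 0 := by
      have := two_sub_hf_mul (n := n) hn
      linear_combination (-k) * this
    rw [h0, f_zero d, one_mul]
  have hconj_odd : ∀ k : ZMod (2 ^ n), IsConj (f x n 1 * y) (f x n (2 * k + 1) * y) := by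
    intro k
    apply IsConj.symm
    apply isConj_of_conj_eq (g := f x n (-(k * (1 + qt n))))
    rw [conj_f_fy d]
    have h0 : 2 * k + 1 + (2 - hf n) * -(k * (1 + qt n)) = 1 := by
      have := two_sub_hf_mul (n := n) hn
      linear_combination (-k) * this
    rw [h0]
  constructor
  · -- involutions: f h and y
    apply card_classes_eq_two (fun t => orderOf t = 2) (f x n (hf n)) y
    · exact (orderOf_f_eq_two_iff d _).mpr rfl
    · exact d.oy
    · intro hc
      obtain ⟨g, hg⟩ := isConj_iff.mp hc
      -- f h is central so y = f h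
      have hcentral : ∀ g : S, g * f x n (hf n) * g⁻¹ = f x n (hf n) := by
        intro g
        rcases normal_form d g with ⟨i, rfl⟩ | ⟨i, rfl⟩
        · exact conj_f_f d _ _
        · rw [conj_fy_f d]; congr 1
          have h1 := hf_mul_hf (n := n) (by omega)
          have h2 := two_mul_hf (n := n) (by omega)
          unfold ep; linear_combination h1 - h2
      rw [hcentral] at hg
      exact y_ne_f d _ hg.symm
    · intro t ht
      rcases normal_form d t with ⟨i, rfl⟩ | ⟨i, rfl⟩
      · left
        rw [(orderOf_f_eq_two_iff d i).mp ht]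
      · right
        rcases even_or_odd i with ⟨j, rfl⟩ | ⟨j, rfl⟩
        · exact hconj_even j
        · rw [orderOf_fy_odd d] at ht; omega
  · -- order 4: f q and f 1 y
    apply card_classes_eq_two (fun t => orderOf t = 4) (f x n (qt n)) (f x n 1 * y)
    · exact (orderOf_f_eq_four_iff d _).mpr (two_mul_qt (by omega))
    · have := orderOf_fy_odd d 0
      simpa using this
    · intro hc
      obtain ⟨g, hg⟩ := isConj_iff.mp hc
      rcases normal_form d g with ⟨i, rfl⟩ | ⟨i, rfl⟩
      · rw [conj_f_f d] at hg
        exact f_mul_y_ne_f d _ _ hg.symm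
      · rw [conj_fy_f d] at hg
        exact f_mul_y_ne_f d _ _ hg.symm
    · intro t ht
      rcases normal_form d t with ⟨i, rfl⟩ | ⟨i, rfl⟩
      · left
        have h2 := (orderOf_f_eq_four_iff d i).mp ht
        rcases (two_mul_eq_hf_iff (by omega) i).mp h2 with h | h
        · rw [h]
        · -- f (q + h) = y f q y⁻¹
          apply isConj_of_conj_eq (g := y)
          rw [y_conj_f d, h]; congr 1
          have h1 := hf_mul_qt (n := n) hn
          have h3 := two_mul_qt (n := n) (by omega)
          have h4 := two_mul_hf (n := n) (by omega)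
          unfold ep; linear_combination h1 - h3 - h4
      · right
        rcases even_or_odd i with ⟨j, rfl⟩ | ⟨j, rfl⟩
        · rw [orderOf_fy_even d] at ht; omega
        · exact hconj_odd j

end Cfsg.Agent.S1189
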