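import Cfsg.Statements.S1192
import Cfsg.Agent.Lib.Helper20.QDSub
import Cfsg.Agent.Lib.Helper1.PGroupMax

set_option autoImplicit false
open Cfsg

namespace Cfsg.Agent.S1192

open Cfsg.Agent.Lib.Helper20 Cfsg.Agent.Lib.Helper20.QD


/-- A quasi-dihedral group S of order 2^(n+1) has exactly three maximal subgroups; one is cyclic, one is isomorphic to the generalized quaternion group of order 2^n and one to the dihedral group of order 2^n. -/
theorem result {S : Type*} [Group S] [Finite S] (hS : Cfsg.IsQuasiDihedral S) (n : ℕ) (hn : Nat.card S = 2 ^ (n + 1)) : ∃ M₁ M₂ M₃ : Subgroup S, IsCoatom M₁ ∧ IsCoatom M₂ ∧ IsCoatom M₃ ∧ M₁ ≠ M₂ ∧ M₁ ≠ M₃ ∧ M₂ ≠ M₃ ∧ (∀ M : Subgroup S, IsCoatom M → M = M₁ ∨ M = M₂ ∨ M = M₃) ∧ IsCyclic M₁ ∧ Nonempty (M₂ ≃* QuaternionGroup (2 ^ (n - 2))) ∧ Nonempty (M₃ ≃* DihedralGroup (2 ^ (n - 1))) := by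
  obtain ⟨n', x, y, d⟩ := exists_data hS
  have hnn : n' = n := by
    have h := d.card
    rw [hn] at h
    have := Nat.pow_right_injective (le_refl 2) h
    omega
  subst hnn
  have hp : IsPGroup 2 S := IsPGroup.of_card hn
  have : Fact (Nat.Prime 2) := ⟨Nat.prime_two⟩
  refine ⟨M1 d, M2 d, M3 d, isCoatom_of_index_two (M1_index d), isCoatom_of_index_two (M2_index d),
    isCoatom_of_index_two (M3_index d), M1_ne_M2 d, M1_ne_M3 d, M2_ne_M3 d, ?_, M1_isCyclic d,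
    M2_iso d, M3_iso d⟩
  intro M hM
  exact index_two_cases d M (Cfsg.Agent.Lib.Helper1.coatom_index_of_isPGroup hp hM)

end Cfsg.Agent.S1192
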