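import Cfsg.Statements.S1194
import Cfsg.Agent.Lib.Helper20.QDSub
import Cfsg.Agent.S1193

set_option autoImplicit false
open Cfsg

namespace Cfsg.Agent.S1194

open Cfsg.Agent.Lib.Helper20 Cfsg.Agent.Lib.Helper20.QD

variable {S : Type*} [Group S] {n : ℕ} {x y : S}

theorem odd_isUnit (j : ZMod (2 ^ n)) : IsUnit (2 * j + 1) := by
  apply IsNilpotent.isUnit_add_one
  refine ⟨n, ?_⟩
  rw [mul_pow]
  have : (2 : ZMod (2 ^ n)) ^ n = ((2 ^ n : ℕ) : ZMod (2 ^ n)) := by push_cast; rfl
  rw [this, ZMod.natCast_self, zero_mul]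

/-- A subgroup containing an odd power of `x` contains all powers of `x`. -/
theorem lemmaA [Finite S] (d : Data S n x y) (N : Subgroup S) (j : ZMod (2 ^ n))
    (h : f x n (2 * j + 1) ∈ N) : M1 d ≤ N := by
  obtain ⟨u, hu⟩ := odd_isUnit j
  intro s hs
  rw [mem_M1] at hs
  obtain ⟨i, rfl⟩ := hs
  have e : i = (((i * (u⁻¹ : (ZMod (2 ^ n))ˣ)).val : ℕ) : ZMod (2 ^ n)) * (2 * j + 1) := by
    rw [ZMod.natCast_zmod_val, ← hu, mul_assoc, Units.inv_mul, mul_one]
  rw [e, ← f_pow d]
  exact Subgroup.pow_mem _ h _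

/-- A normal subgroup containing some `f i * y` contains `Phi`. -/
theorem lemmaB [Finite S] (d : Data S n x y) (N : Subgroup S) [hN : N.Normal] (i : ZMod (2 ^ n))
    (h : f x n i * y ∈ N) : Phi d ≤ N := by
  intro s hs
  rw [mem_Phi] at hs
  obtain ⟨m, rfl⟩ := hs
  have h1 : f x n ((1 + qt n) * m) * (f x n i * y) * (f x n ((1 + qt n) * m))⁻¹ ∈ N :=
    hN.conj_mem _ h _
  have h2 := mul_mem h1 (inv_mem h)
  rw [conj_f_fy d, fy_inv d, fy_mul_fy d] at h2
  have e : i + (2 - hf n) * ((1 + qt n) * m) + ep n * -(ep n * i) = 2 * m := by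
    have h3 := two_sub_hf_mul (n := n) d.hn
    have h4 := ep_mul_ep (n := n) (by have := d.hn; omega)
    linear_combination m * h3 - i * h4
  rwa [e] at h2

theorem coatom_of_le [Finite S] {M N : Subgroup S} (hM : M.index = 2) (hle : M ≤ N) (hN : N ≠ ⊤) :
    IsCoatom N := by
  have hco := isCoatom_of_index_two hM
  rcases hco.le_iff.mp hle with h | h
  · exact absurd h hN
  · rw [h]; exact hco


/-- In a quasi-dihedral 2-group S, every proper normal subgroup is either a maximal subgroup or a cyclic subgroup contained in the derived subgroup S'. -/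
theorem result {S : Type*} [Group S] [Finite S] (hS : Cfsg.IsQuasiDihedral S) (N : Subgroup S) [N.Normal] (hN : N ≠ ⊤) : IsCoatom N ∨ (IsCyclic N ∧ N ≤ commutator S) := by
  obtain ⟨n, x, y, d⟩ := exists_data hS
  by_cases hle : N ≤ Phi d
  · right
    rw [Cfsg.Agent.S1193.commutator_eq_Phi d]
    have := Phi_isCyclic d
    exact ⟨Subgroup.isCyclic_of_le hle, hle⟩
  · left
    obtain ⟨s, hsN, hsP⟩ := SetLike.not_le_iff_exists.mp hle
    rcases normal_form d s with ⟨i, rfl⟩ | ⟨i, rfl⟩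
    · rcases even_or_odd i with ⟨j, rfl⟩ | ⟨j, rfl⟩
      · exact absurd ((mem_Phi d _).mpr ⟨j, rfl⟩) hsP
      · exact coatom_of_le (M1_index d) (lemmaA d N j hsN) hN
    · have hPhi := lemmaB d N i hsN
      rcases even_or_odd i with ⟨j, rfl⟩ | ⟨j, rfl⟩
      · refine coatom_of_le (M3_index d) ?_ hN
        intro t ht
        rw [mem_M3] at ht
        rcases ht with ⟨k, rfl⟩ | ⟨k, rfl⟩
        · exact hPhi ((mem_Phi d _).mpr ⟨k, rfl⟩)
        · have e : f x n (2 * k) * y = f x n (2 * (k - j)) * (f x n (2 * j) * y) := by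
            rw [← mul_assoc, ← f_add d]; congr 2; ring
          rw [e]
          exact mul_mem (hPhi ((mem_Phi d _).mpr ⟨_, rfl⟩)) hsN
      · refine coatom_of_le (M2_index d) ?_ hN
        intro t ht
        rw [mem_M2] at ht
        rcases ht with ⟨k, rfl⟩ | ⟨k, rfl⟩
        · exact hPhi ((mem_Phi d _).mpr ⟨k, rfl⟩)
        · have e : f x n (2 * k + 1) * y = f x n (2 * (k - j)) * (f x n (2 * j + 1) * y) := by
            rw [← mul_assoc, ← f_add d]; congr 2; ring
          rw [e]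
          exact mul_mem (hPhi ((mem_Phi d _).mpr ⟨_, rfl⟩)) hsN

end Cfsg.Agent.S1194
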