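import Cfsg.Statements.S1195
import Cfsg.Agent.Lib.Helper38.WreathedInv
-- import your own Cfsg.Agent.* helpers here

set_option autoImplicit false
open Cfsg
open Cfsg.Agent.Lib.Helper38

namespace Cfsg.Agent.S1195

/-- A wreathed 2-group has exactly three conjugacy classes of elements of order 2. -/
theorem result {S : Type*} [Group S] [Finite S] (hS : Cfsg.IsWreathed S) : Nat.card {C : ConjClasses S // ∃ t : S, orderOf t = 2 ∧ ConjClasses.mk t = C} = 3 := by
  obtain ⟨n, x, y, z, h⟩ := exists_isWr hS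
  have hset : {C : ConjClasses S | ∃ t : S, orderOf t = 2 ∧ ConjClasses.mk t = C} =
      {ConjClasses.mk z, ConjClasses.mk (al x y ((2 ^ (n - 1) : ℕ) : ℤ) 0),
        ConjClasses.mk (al x y ((2 ^ (n - 1) : ℕ) : ℤ) ((2 ^ (n - 1) : ℕ) : ℤ))} := by
    ext C
    simp only [Set.mem_ofPred_eq, Set.mem_insert_iff, Set.mem_singleton_iff]
    constructor
    · rintro ⟨t, ht, rfl⟩
      rcases h.involution_cases ht with rfl | rfl | rfl | ⟨i, rfl⟩
      · right; left; rfl
      · right; left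
        rw [ConjClasses.mk_eq_mk_iff_isConj, isConj_iff]
        refine ⟨al x y 0 0 * z, ?_⟩
        rw [h.conj_al_by_alz]
      · right; right; rfl
      · left
        rw [ConjClasses.mk_eq_mk_iff_isConj, isConj_iff]
        exact ⟨_, h.conj_to_z i⟩
    · rintro (rfl | rfl | rfl)
      · exact ⟨z, h.hz, rfl⟩
      · exact ⟨_, h.orderOf_a, rfl⟩
      · exact ⟨_, h.orderOf_ab, rfl⟩
  show Nat.card ↥{C : ConjClasses S | ∃ t : S, orderOf t = 2 ∧ ConjClasses.mk t = C} = 3
  rw [Nat.card_coe_set_eq, hset, Set.ncard_eq_three]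
  have hzA : ∀ g : S, g ∈ h.A → ConjClasses.mk z ≠ ConjClasses.mk g := by
    intro g hg hc
    rw [ConjClasses.mk_eq_mk_iff_isConj, isConj_iff] at hc
    obtain ⟨c, hc⟩ := hc
    have h1 : z = c⁻¹ * g * c⁻¹⁻¹ := by rw [← hc]; group
    have h2 := h.A_normal.conj_mem g hg c⁻¹
    rw [← h1] at h2
    exact h.z_notMem_A h2
  refine ⟨_, _, _, hzA _ (h.al_mem_A _ _), hzA _ (h.al_mem_A _ _), ?_, rfl⟩
  intro hc
  rw [ConjClasses.mk_eq_mk_iff_isConj, isConj_comm, isConj_iff] at hc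
  obtain ⟨c, hc⟩ := hc
  have hcen : al x y ((2 ^ (n - 1) : ℕ) : ℤ) ((2 ^ (n - 1) : ℕ) : ℤ) ∈ Subgroup.center S := by
    rw [h.al_mem_center_iff]; simp
  rw [Subgroup.mem_center_iff] at hcen
  rw [hcen c, mul_inv_cancel_right, h.al_eq_al_iff] at hc
  have := hc.2
  simp only [sub_zero] at this
  exact h.not_N_dvd_M this
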