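import Cfsg.Statements.S1198
import Cfsg.Agent.Lib.Helper38.WreathedMore
import Cfsg.Agent.Lib.Helper38.KleinFour
-- import your own Cfsg.Agent.* helpers here

set_option autoImplicit false
open Cfsg
open Cfsg.Agent.Lib.Helper38

namespace Cfsg.Agent.S1198


variable {S : Type*} [Group S] {x y z : S} {n : ℕ}

theorem N_dvd_MM (h : IsWr x y z n) : ((2 ^ n : ℕ) : ℤ) ∣ ((2 ^ (n - 1) : ℕ) : ℤ) + ((2 ^ (n - 1) : ℕ) : ℤ) := by
  rw [h.N_eq]; exact ⟨1, by ring⟩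

theorem a2 (h : IsWr x y z n) : al x y ((2 ^ (n - 1) : ℕ) : ℤ) 0 * al x y ((2 ^ (n - 1) : ℕ) : ℤ) 0 = 1 := by
  rw [h.al_mul_al, h.al_eq_one_iff]; exact ⟨N_dvd_MM h, by simp⟩

theorem b2 (h : IsWr x y z n) : al x y 0 ((2 ^ (n - 1) : ℕ) : ℤ) * al x y 0 ((2 ^ (n - 1) : ℕ) : ℤ) = 1 := by
  rw [h.al_mul_al, h.al_eq_one_iff]; exact ⟨by simp, N_dvd_MM h⟩

theorem ab2 (h : IsWr x y z n) : al x y ((2 ^ (n - 1) : ℕ) : ℤ) ((2 ^ (n - 1) : ℕ) : ℤ) * al x y ((2 ^ (n - 1) : ℕ) : ℤ) ((2 ^ (n - 1) : ℕ) : ℤ) = 1 := by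
  rw [h.al_mul_al, h.al_eq_one_iff]; exact ⟨N_dvd_MM h, N_dvd_MM h⟩

theorem a_mul_b (h : IsWr x y z n) : al x y ((2 ^ (n - 1) : ℕ) : ℤ) 0 * al x y 0 ((2 ^ (n - 1) : ℕ) : ℤ) = al x y ((2 ^ (n - 1) : ℕ) : ℤ) ((2 ^ (n - 1) : ℕ) : ℤ) := by
  rw [h.al_mul_al, add_zero, zero_add]

theorem z_ab (h : IsWr x y z n) : z * al x y ((2 ^ (n - 1) : ℕ) : ℤ) ((2 ^ (n - 1) : ℕ) : ℤ) = al x y ((2 ^ (n - 1) : ℕ) : ℤ) ((2 ^ (n - 1) : ℕ) : ℤ) * z := h.z_mul_al _ _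

theorem a_ne_one (h : IsWr x y z n) : al x y ((2 ^ (n - 1) : ℕ) : ℤ) 0 ≠ 1 := by
  rw [Ne, h.al_eq_one_iff]; exact fun hh => h.not_N_dvd_M hh.1

theorem b_ne_one (h : IsWr x y z n) : al x y 0 ((2 ^ (n - 1) : ℕ) : ℤ) ≠ 1 := by
  rw [Ne, h.al_eq_one_iff]; exact fun hh => h.not_N_dvd_M hh.2

theorem ab_ne_one (h : IsWr x y z n) : al x y ((2 ^ (n - 1) : ℕ) : ℤ) ((2 ^ (n - 1) : ℕ) : ℤ) ≠ 1 := by
  rw [Ne, h.al_eq_one_iff]; exact fun hh => h.not_N_dvd_M hh.2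

theorem a_ne_b (h : IsWr x y z n) : al x y ((2 ^ (n - 1) : ℕ) : ℤ) 0 ≠ al x y 0 ((2 ^ (n - 1) : ℕ) : ℤ) := by
  rw [Ne, h.al_eq_al_iff]
  intro hh
  have := hh.1
  simp only [sub_zero] at this
  exact h.not_N_dvd_M this

/-- the normal four-group `{1, a, b, ab}` -/
def T (h : IsWr x y z n) : Subgroup S :=
  klein4 (al x y ((2 ^ (n - 1) : ℕ) : ℤ) 0) (al x y 0 ((2 ^ (n - 1) : ℕ) : ℤ)) (a2 h) (b2 h) (h.al_comm _ _ _ _)

/-- the four-group `{1, z, ab, z ab}` -/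
def Tz (h : IsWr x y z n) : Subgroup S :=
  klein4 z (al x y ((2 ^ (n - 1) : ℕ) : ℤ) ((2 ^ (n - 1) : ℕ) : ℤ)) h.z_mul_z (ab2 h) (z_ab h)

theorem T_klein (h : IsWr x y z n) : IsKleinFour (T h) :=
  isKleinFour_klein4 _ _ _ _ _ (a_ne_one h) (b_ne_one h) (a_ne_b h)

theorem Tz_klein (h : IsWr x y z n) : IsKleinFour (Tz h) :=
  isKleinFour_klein4 _ _ _ _ _ h.z_ne_one (ab_ne_one h) (fun hh => h.al_ne_z _ _ hh.symm)

theorem mem_T_iff (h : IsWr x y z n) (s : S) :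
    s ∈ T h ↔ ∃ i j : ℤ, ((2 ^ (n - 1) : ℕ) : ℤ) ∣ i ∧ ((2 ^ (n - 1) : ℕ) : ℤ) ∣ j ∧ s = al x y i j := by
  unfold T
  rw [mem_klein4]
  constructor
  · rintro (rfl | rfl | rfl | rfl)
    · exact ⟨0, 0, dvd_zero _, dvd_zero _, IsWr.al_zero_zero.symm⟩
    · exact ⟨_, _, dvd_rfl, dvd_zero _, rfl⟩
    · exact ⟨_, _, dvd_zero _, dvd_rfl, rfl⟩
    · exact ⟨_, _, dvd_rfl, dvd_rfl, a_mul_b h⟩
  · rintro ⟨i, j, hi, hj, rfl⟩
    rw [a_mul_b h]
    rcases h.dvd_or_dvd_sub hi with hi' | hi' <;> rcases h.dvd_or_dvd_sub hj with hj' | hj'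
    · left; rw [h.al_eq_one_iff]; exact ⟨hi', hj'⟩
    · right; right; left
      rw [h.al_eq_al_iff]; exact ⟨by simpa using hi', hj'⟩
    · right; left
      rw [h.al_eq_al_iff]; exact ⟨hi', by simpa using hj'⟩
    · right; right; right
      rw [h.al_eq_al_iff]; exact ⟨hi', hj'⟩

theorem T_le_A (h : IsWr x y z n) : T h ≤ h.A := by
  intro s hs
  rw [mem_T_iff] at hs
  obtain ⟨i, j, _, _, rfl⟩ := hs
  exact h.al_mem_A i j

theorem T_normal (h : IsWr x y z n) : (T h).Normal := by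
  constructor
  intro s hs g
  rw [mem_T_iff] at hs ⊢
  obtain ⟨i, j, hi, hj, rfl⟩ := hs
  rcases h.exists_rep g with ⟨k, l, rfl⟩ | ⟨k, l, rfl⟩
  · exact ⟨i, j, hi, hj, h.conj_al_by_al k l i j⟩
  · exact ⟨j, i, hj, hi, h.conj_al_by_alz k l i j⟩

theorem z_mem_Tz (h : IsWr x y z n) : z ∈ Tz h := by
  unfold Tz; rw [mem_klein4]; right; left; rfl

theorem Tz_ne_T (h : IsWr x y z n) : Tz h ≠ T h := by
  intro he
  have h1 := z_mem_Tz h
  rw [he] at h1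
  exact h.z_notMem_A (T_le_A h h1)

/-- a four-group inside `A` is `T` -/
theorem eq_T_of_le_A (h : IsWr x y z n) (T₁ : Subgroup S) (hT₁ : IsKleinFour T₁)
    (hle : T₁ ≤ h.A) : T₁ = T h := by
  have := h.finite
  apply Subgroup.eq_of_le_of_card_ge
  · intro t ht
    obtain ⟨i, j, rfl⟩ := hle ht
    have h1 := IsKleinFour_mul_self T₁ hT₁ ht
    rw [h.al_mul_al, h.al_eq_one_iff, ← two_mul, ← two_mul, h.N_dvd_two_mul_iff,
      h.N_dvd_two_mul_iff] at h1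
    rw [mem_T_iff]
    exact ⟨i, j, h1.1, h1.2, rfl⟩
  · rw [hT₁.card_four, (T_klein h).card_four]

/-- a four-group containing `z` is `Tz` -/
theorem eq_Tz_of_mem (h : IsWr x y z n) (T₁ : Subgroup S) (hT₁ : IsKleinFour T₁)
    (hz : z ∈ T₁) : T₁ = Tz h := by
  have := h.finite
  apply Subgroup.eq_of_le_of_card_ge
  · intro t ht
    have h1 := IsKleinFour_mul_self T₁ hT₁ ht
    have h2' := IsKleinFour_comm T₁ hT₁ ht hz
    have hz' : z = al x y 0 0 * z := by rw [IsWr.al_zero_zero, one_mul]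
    unfold Tz
    rw [mem_klein4, z_ab h]
    rcases h.exists_rep t with ⟨i, j, rfl⟩ | ⟨i, j, rfl⟩
    · rw [h.al_mul_al, h.al_eq_one_iff, ← two_mul, ← two_mul, h.N_dvd_two_mul_iff,
        h.N_dvd_two_mul_iff] at h1
      have h2 : al x y i j * (al x y 0 0 * z) = (al x y 0 0 * z) * al x y i j := by
        rw [← hz']; exact h2'
      rw [h.al_comm_alz_iff] at h2
      rcases h.dvd_or_dvd_sub h1.1 with hi | hi
      · left
        rw [h.al_eq_one_iff]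
        refine ⟨hi, ?_⟩
        have := dvd_sub hi h2
        simpa using this
      · right; right; left
        rw [h.al_eq_al_iff]
        refine ⟨hi, ?_⟩
        have := dvd_sub hi h2
        have e : i - ((2 ^ (n - 1) : ℕ) : ℤ) - (i - j) = j - ((2 ^ (n - 1) : ℕ) : ℤ) := by ring
        rwa [e] at this
    · rw [h.alz_mul_alz, h.al_eq_one_iff] at h1
      have h2 : (al x y i j * z) * (al x y 0 0 * z) = (al x y 0 0 * z) * (al x y i j * z) := by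
        rw [← hz']; exact h2'
      rw [h.alz_comm_alz_iff] at h2
      simp only [add_zero] at h2
      have h3 : ((2 ^ n : ℕ) : ℤ) ∣ 2 * i := by
        have := dvd_add h1.1 h2
        have e : i + j + (i - j) = 2 * i := by ring
        rwa [e] at this
      rw [h.N_dvd_two_mul_iff] at h3
      rcases h.dvd_or_dvd_sub h3 with hi | hi
      · right; left
        conv_rhs => rw [hz']
        rw [h.alz_eq_alz_iff]
        refine ⟨by simpa using hi, ?_⟩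
        have := dvd_sub hi h2
        simpa using this
      · right; right; right
        rw [h.alz_eq_alz_iff]
        refine ⟨hi, ?_⟩
        have := dvd_sub hi h2
        have e : i - ((2 ^ (n - 1) : ℕ) : ℤ) - (i - j) = j - ((2 ^ (n - 1) : ℕ) : ℤ) := by ring
        rwa [e] at this
  · rw [hT₁.card_four, (Tz_klein h).card_four]

theorem map_conj_klein {G : Type*} [Group G] (T₁ : Subgroup G) (hT₁ : IsKleinFour T₁) (s : G) :
    IsKleinFour (T₁.map (MulAut.conj s).toMonoidHom) := by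
  have e : T₁ ≃* T₁.map (MulAut.conj s).toMonoidHom :=
    T₁.equivMapOfInjective _ (MulAut.conj s).injective
  refine ⟨?_, ?_⟩
  · rw [← Nat.card_congr e.toEquiv, hT₁.card_four]
  · rw [← Monoid.exponent_eq_of_mulEquiv e, hT₁.exponent_two]

theorem conj_to_Tz (h : IsWr x y z n) (T₁ : Subgroup S) (hT₁ : IsKleinFour T₁)
    (hne : T₁ ≠ T h) : ∃ s : S, T₁.map (MulAut.conj s).toMonoidHom = Tz h := by
  have hnle : ¬ T₁ ≤ h.A := fun hle => hne (eq_T_of_le_A h T₁ hT₁ hle)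
  obtain ⟨u, huT, huA⟩ := SetLike.not_le_iff_exists.mp hnle
  obtain ⟨i, j, rfl⟩ := h.notMem_A huA
  have h1 := IsKleinFour_mul_self T₁ hT₁ huT
  rw [h.alz_mul_alz, h.al_eq_one_iff] at h1
  have h2 : al x y i j * z = al x y i (-i) * z := by
    rw [h.alz_eq_alz_iff]
    refine ⟨by simp, ?_⟩
    have e : j - -i = i + j := by ring
    rw [e]; exact h1.1
  refine ⟨al x y (-i) 0, ?_⟩
  apply eq_Tz_of_mem h _ (map_conj_klein T₁ hT₁ _)
  rw [Subgroup.mem_map]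
  refine ⟨al x y i j * z, huT, ?_⟩
  rw [h2]
  simp only [MulEquiv.toMonoidHom_eq_coe, MonoidHom.coe_coe, MulAut.conj_apply]
  exact h.conj_to_z i

/-- A wreathed 2-group S has a normal Klein four-subgroup T such that every Klein four-subgroup of S other than T is conjugate in S to any other such subgroup; in particular S has exactly two conjugacy classes of Klein four-subgroups. -/
theorem result {S : Type*} [Group S] [Finite S] (hS : Cfsg.IsWreathed S) : ∃ T : Subgroup S, IsKleinFour T ∧ T.Normal ∧ (∃ T₀ : Subgroup S, IsKleinFour T₀ ∧ T₀ ≠ T) ∧ ∀ T₁ T₂ : Subgroup S, IsKleinFour T₁ → IsKleinFour T₂ → T₁ ≠ T → T₂ ≠ T → ∃ s : S, T₁.map (MulAut.conj s).toMonoidHom = T₂ := by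
  obtain ⟨n, x, y, z, h⟩ := exists_isWr hS
  refine ⟨T h, T_klein h, T_normal h, ⟨Tz h, Tz_klein h, Tz_ne_T h⟩, ?_⟩
  intro T₁ T₂ hT₁ hT₂ hne₁ hne₂
  obtain ⟨s₁, hs₁⟩ := conj_to_Tz h T₁ hT₁ hne₁
  obtain ⟨s₂, hs₂⟩ := conj_to_Tz h T₂ hT₂ hne₂
  refine ⟨s₂⁻¹ * s₁, ?_⟩
  have h1 : (MulAut.conj (s₂⁻¹ * s₁)).toMonoidHom =
      (MulAut.conj s₂⁻¹).toMonoidHom.comp (MulAut.conj s₁).toMonoidHom := by
    ext g
    simp [MulAut.conj_apply, mul_assoc]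
  rw [h1, ← Subgroup.map_map, hs₁, ← hs₂, Subgroup.map_map]
  have h2 : (MulAut.conj s₂⁻¹).toMonoidHom.comp (MulAut.conj s₂).toMonoidHom =
      MonoidHom.id S := by
    ext g
    simp [MulAut.conj_apply, mul_assoc]
  rw [h2, Subgroup.map_id]

end Cfsg.Agent.S1198
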