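import Cfsg.Statements.S1200
import Cfsg.Agent.Lib.Helper38.WreathedMore
-- import your own Cfsg.Agent.* helpers here

set_option autoImplicit false
open Cfsg
open Cfsg.Agent.Lib.Helper38

namespace Cfsg.Agent.S1200


variable {S : Type*} [Group S] {x y z : S} {n : ℕ}

theorem M_dvd_N_nat (n : ℕ) : 2 ^ (n - 1) ∣ 2 ^ n := pow_dvd_pow 2 (Nat.sub_le n 1)

/-- the "sum of exponents" function -/
noncomputable def sigFun (h : IsWr x y z n) (s : S) : Multiplicative (ZMod (2 ^ (n - 1))) :=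
  Multiplicative.ofAdd (ZMod.castHom (M_dvd_N_nat n) (ZMod (2 ^ (n - 1)))
    ((h.nf s).1 + (h.nf s).2.1))

theorem sigFun_al (h : IsWr x y z n) (i j : ℤ) :
    sigFun h (al x y i j) = Multiplicative.ofAdd (((i + j : ℤ) : ZMod (2 ^ (n - 1)))) := by
  unfold sigFun
  rw [h.nf_al]
  simp only [map_add, map_intCast]
  push_cast
  rfl

theorem sigFun_alz (h : IsWr x y z n) (i j : ℤ) :
    sigFun h (al x y i j * z) = Multiplicative.ofAdd (((i + j : ℤ) : ZMod (2 ^ (n - 1)))) := by
  unfold sigFun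
  rw [h.nf_alz]
  simp only [map_add, map_intCast]
  push_cast
  rfl

/-- the "sum of exponents" homomorphism `S → Z_{2^(n-1)}` -/
noncomputable def sig (h : IsWr x y z n) : S →* Multiplicative (ZMod (2 ^ (n - 1))) :=
  MonoidHom.mk' (sigFun h) (by
    intro s t
    rcases h.exists_rep s with ⟨i, j, rfl⟩ | ⟨i, j, rfl⟩ <;>
      rcases h.exists_rep t with ⟨k, l, rfl⟩ | ⟨k, l, rfl⟩
    · rw [h.al_mul_al, sigFun_al, sigFun_al, sigFun_al, ← ofAdd_add]
      congr 1; push_cast; ring
    · rw [h.al_mul_alz, sigFun_al, sigFun_alz, sigFun_alz, ← ofAdd_add]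
      congr 1; push_cast; ring
    · rw [h.alz_mul_al, sigFun_al, sigFun_alz, sigFun_alz, ← ofAdd_add]
      congr 1; push_cast; ring
    · rw [h.alz_mul_alz, sigFun_al, sigFun_alz, sigFun_alz, ← ofAdd_add]
      congr 1; push_cast; ring)

theorem sig_al (h : IsWr x y z n) (i j : ℤ) :
    sig h (al x y i j) = Multiplicative.ofAdd (((i + j : ℤ) : ZMod (2 ^ (n - 1)))) :=
  sigFun_al h i j

theorem sig_alz (h : IsWr x y z n) (i j : ℤ) :
    sig h (al x y i j * z) = Multiplicative.ofAdd (((i + j : ℤ) : ZMod (2 ^ (n - 1)))) :=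
  sigFun_alz h i j

theorem al_mem_ker (h : IsWr x y z n) (i j : ℤ) :
    al x y i j ∈ (sig h).ker ↔ ((2 ^ (n - 1) : ℕ) : ℤ) ∣ i + j := by
  rw [MonoidHom.mem_ker, sig_al, ← ofAdd_zero, Multiplicative.ofAdd.apply_eq_iff_eq]
  exact ZMod.intCast_zmod_eq_zero_iff_dvd _ _

theorem alz_mem_ker (h : IsWr x y z n) (i j : ℤ) :
    al x y i j * z ∈ (sig h).ker ↔ ((2 ^ (n - 1) : ℕ) : ℤ) ∣ i + j := by
  rw [MonoidHom.mem_ker, sig_alz, ← ofAdd_zero, Multiplicative.ofAdd.apply_eq_iff_eq]
  exact ZMod.intCast_zmod_eq_zero_iff_dvd _ _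

theorem sig_surjective (h : IsWr x y z n) : Function.Surjective (sig h) := by
  intro p
  obtain ⟨i, hi⟩ := ZMod.intCast_surjective (Multiplicative.toAdd p)
  refine ⟨al x y i 0, ?_⟩
  rw [sig_al, add_zero, hi]
  rfl

theorem card_ker (h : IsWr x y z n) : Nat.card (sig h).ker = 2 ^ (n + 2) := by
  have h1 := (sig h).ker.card_mul_index
  have h0 : Nat.card (Multiplicative (ZMod (2 ^ (n - 1)))) = 2 ^ (n - 1) := by
    rw [Nat.card_eq_fintype_card, Fintype.card_multiplicative, ZMod.card]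
  rw [Subgroup.index_ker, MonoidHom.range_eq_top.mpr (sig_surjective h), Subgroup.card_top,
    h.card, h0] at h1
  have hn := h.hn
  have h2 : 2 ^ (2 * n + 1) = 2 ^ (n + 2) * 2 ^ (n - 1) := by
    rw [← pow_add]; congr 1; omega
  rw [h2] at h1
  exact Nat.eq_of_mul_eq_mul_right (by positivity) h1

theorem closure_eq_ker (h : IsWr x y z n) :
    Subgroup.closure {t : S | orderOf t = 2} = (sig h).ker := by
  apply le_antisymm
  · rw [Subgroup.closure_le]
    intro t ht
    rw [Set.mem_ofPred_eq] at ht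
    rw [SetLike.mem_coe]
    rcases h.involution_cases ht with rfl | rfl | rfl | ⟨i, rfl⟩
    · rw [al_mem_ker]; simp
    · rw [al_mem_ker]; simp
    · rw [al_mem_ker]; exact dvd_add dvd_rfl dvd_rfl
    · rw [alz_mem_ker]; simp
  · have hz : z ∈ Subgroup.closure {t : S | orderOf t = 2} := Subgroup.subset_closure h.hz
    have hb : al x y 0 ((2 ^ (n - 1) : ℕ) : ℤ) ∈ Subgroup.closure {t : S | orderOf t = 2} :=
      Subgroup.subset_closure h.orderOf_b
    have hi : ∀ i : ℤ, al x y i (-i) ∈ Subgroup.closure {t : S | orderOf t = 2} := by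
      intro i
      have h1 : al x y i (-i) * z ∈ Subgroup.closure {t : S | orderOf t = 2} := by
        apply Subgroup.subset_closure
        rw [Set.mem_ofPred_eq, h.orderOf_alz_eq_two_iff]; simp
      have h2 := Subgroup.mul_mem _ h1 hz
      rwa [mul_assoc, h.z_mul_z, mul_one] at h2
    have hal : ∀ i j : ℤ, ((2 ^ (n - 1) : ℕ) : ℤ) ∣ i + j →
        al x y i j ∈ Subgroup.closure {t : S | orderOf t = 2} := by
      intro i j hd
      obtain ⟨c, hc⟩ := hd
      have h1 : al x y i j = al x y i (-i) * (al x y 0 ((2 ^ (n - 1) : ℕ) : ℤ)) ^ c := by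
        rw [h.al_zpow, h.al_mul_al]
        congr 1
        · ring
        · rw [← hc]; ring
      rw [h1]
      exact Subgroup.mul_mem _ (hi i) (Subgroup.zpow_mem _ hb c)
    intro s hs
    rcases h.exists_rep s with ⟨i, j, rfl⟩ | ⟨i, j, rfl⟩
    · rw [al_mem_ker] at hs; exact hal i j hs
    · rw [alz_mem_ker] at hs; exact Subgroup.mul_mem _ (hal i j hs) hz

theorem sup_eq_top (h : IsWr x y z n) :
    Subgroup.closure {t : S | orderOf t = 2} ⊔ Subgroup.zpowers x = ⊤ := by
  rw [closure_eq_ker h, eq_top_iff]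
  intro s _
  have hal : ∀ i j : ℤ, al x y i j ∈ (sig h).ker ⊔ Subgroup.zpowers x := by
    intro i j
    have h1 : al x y i j = al x y (-j) j * x ^ (i + j) := by
      have h2 : x ^ (i + j) = al x y (i + j) 0 := by simp [al]
      rw [h2, h.al_mul_al]; congr 1 <;> ring
    rw [h1]
    apply Subgroup.mul_mem_sup
    · rw [al_mem_ker]; simp
    · exact Subgroup.zpow_mem_zpowers x _
  have hz : z ∈ (sig h).ker ⊔ Subgroup.zpowers x := by
    apply Subgroup.mem_sup_left
    have := (alz_mem_ker h 0 0).mpr (by simp)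
    rwa [IsWr.al_zero_zero, one_mul] at this
  rcases h.exists_rep s with ⟨i, j, rfl⟩ | ⟨i, j, rfl⟩
  · exact hal i j
  · exact Subgroup.mul_mem _ (hal i j) hz

/-- Let S be a wreathed 2-group of order 2^(2n+1) and Ω the subgroup generated by its involutions. Then Ω has order 2^(n+2) and S/Ω is cyclic: some s ∈ S together with Ω generates S. -/
theorem result {S : Type*} [Group S] [Finite S] (hS : Cfsg.IsWreathed S) (n : ℕ) (hn : Nat.card S = 2 ^ (2 * n + 1)) : Nat.card (Subgroup.closure {x : S | orderOf x = 2}) = 2 ^ (n + 2) ∧ ∃ s : S, Subgroup.closure {x : S | orderOf x = 2} ⊔ Subgroup.zpowers s = ⊤ := by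
  obtain ⟨x, y, z, h⟩ := exists_isWr_of_card hS n hn
  refine ⟨?_, x, sup_eq_top h⟩
  rw [closure_eq_ker h, card_ker h]

end Cfsg.Agent.S1200
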