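import Cfsg.Statements.S1203
import Cfsg.Agent.Lib.Helper20.QDFusion

set_option autoImplicit false
open Cfsg

namespace Cfsg.Agent.S1203

open Cfsg.Agent.Lib.Helper20 Cfsg.Agent.Lib.Helper20.QD Cfsg.Agent.Lib.Helper20.QDF


/-- Let G be a finite group with quasi-dihedral Sylow 2-subgroup S, T a Klein four-subgroup of S and Q a quaternion subgroup of order 8 of S. Then |N_G(T) : C_G(T)| ∈ {2, 6} and |N_G(Q) : Q C_G(Q)| ∈ {2, 6}. -/
theorem result {G : Type*} [Group G] [Finite G] (S : Sylow 2 G) (hS : Cfsg.IsQuasiDihedral (S : Subgroup G)) (T : Subgroup G) (hT : IsKleinFour T) (hTS : T ≤ S) (Q : Subgroup G) (hQS : Q ≤ S) (eQ : Q ≃* QuaternionGroup 2) : ((Subgroup.centralizer (T : Set G)).relIndex (Subgroup.normalizer (T : Set G)) = 2 ∨ (Subgroup.centralizer (T : Set G)).relIndex (Subgroup.normalizer (T : Set G)) = 6) ∧ ((Q ⊔ Subgroup.centralizer (Q : Set G)).relIndex (Subgroup.normalizer (Q : Set G)) = 2 ∨ (Q ⊔ Subgroup.centralizer (Q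 : Set G)).relIndex (Subgroup.normalizer (Q : Set G)) = 6) := by
  obtain ⟨n, x, y, d⟩ := exists_data hS
  exact ⟨rT_two_or_six d T hT hTS, rQ_two_or_six d Q hQS eQ⟩

end Cfsg.Agent.S1203
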