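import Cfsg.Statements.S1206
import Cfsg.Agent.Lib.Helper20.QDFusion5

set_option autoImplicit false
open Cfsg

namespace Cfsg.Agent.S1206

open Cfsg.Agent.Lib.Helper20 Cfsg.Agent.Lib.Helper20.QD Cfsg.Agent.Lib.Helper20.QDF

section

variable {G : Type*} [Group G] [Finite G] (S : Sylow 2 G) {n : ℕ} {x y : (S : Subgroup G)}

/-- Identification of `S ∩ K`. -/
theorem K2_inter (d : Data (S : Subgroup G) n x y) (K : Subgroup G) [K.Normal] (hK : K.index = 2)
    (hW : ((f x n 1 * y : (S : Subgroup G)) : G) ∉ K) (hinv : ∀ t : G, t * t = 1 → t ∈ K) :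
    K.subgroupOf (S : Subgroup G) = M3 d := by
  have hidx := index_subgroupOf_of_index_two (S : Subgroup G) K hK
    (fun h => hW (h (f x n 1 * y).2))
  have hyK : y ∈ K.subgroupOf (S : Subgroup G) := by
    rw [Subgroup.mem_subgroupOf]
    apply hinv
    have := congrArg Subtype.val (y_mul_self d)
    simpa using this
  rcases index_two_cases d _ hidx with h | h | h
  · exfalso
    rw [h] at hyK
    exact y_not_mem_M1 d hyK
  · exfalso
    rw [h] at hyK
    exact y_not_mem_M2 d hyK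
  · exact h

theorem no_index_two_K (d : Data (S : Subgroup G) n x y) (K : Subgroup G) [K.Normal]
    (hK : K.index = 2) (hKS : K.subgroupOf (S : Subgroup G) = M3 d)
    (hZY : IsConj ((f x n (hf n) : (S : Subgroup G)) : G) (y : G)) (H : Subgroup K) : H.index ≠ 2 := by
  intro hH
  have hn := d.hn
  obtain ⟨e3, he3⟩ := qt_even (n := n) hn
  have h2q := two_mul_qt (n := n) (by omega)
  have hmem : ∀ s : (S : Subgroup G), (s : G) ∈ K ↔ s ∈ M3 d := by
    intro s; rw [← hKS]; exact Subgroup.mem_subgroupOf.symm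
  have hVK : ((f x n (qt n) : (S : Subgroup G)) : G) ∈ K :=
    (hmem _).mpr ((mem_M3 d _).mpr (Or.inl ⟨e3, by rw [he3]⟩))
  have hZK : ((f x n (hf n) : (S : Subgroup G)) : G) ∈ K :=
    (hmem _).mpr ((mem_M3 d _).mpr (Or.inl ⟨qt n, by rw [h2q]⟩))
  have hxK : (x : G) ∉ K := fun h => x_not_mem_M3 d ((hmem x).mp h)
  have htK : ∀ j, ((f x n (2 * j) * y : (S : Subgroup G)) : G) ∈ K :=
    fun j => (hmem _).mpr ((mem_M3 d _).mpr (Or.inr ⟨j, rfl⟩))
  have hA : ∀ j, IsConj (⟨_, hZK⟩ : K) ⟨_, htK j⟩ := by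
    intro j
    have h1 : IsConj ((f x n (hf n) : (S : Subgroup G)) : G) ((f x n (2 * j) * y : (S : Subgroup G)) : G) := hZY.trans (isConj_coe (conjP_even d j))
    obtain ⟨g, hg⟩ := isConj_iff.mp h1
    have hxZ : (x : G) * ((f x n (hf n) : (S : Subgroup G)) : G) * (x : G)⁻¹ = ((f x n (hf n) : (S : Subgroup G)) : G) := by
      rw [Z_comm_G S d _ x.2]; group
    exact isConj_in_K hK hZK (htK j) hxK hxZ hg
  have hz : (⟨_, hZK⟩ : K) ∈ H := by
    have e : (⟨_, hZK⟩ : K) = (⟨_, hVK⟩ : K) * ⟨_, hVK⟩ := by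
      apply Subtype.ext
      show ((f x n (hf n) : (S : Subgroup G)) : G) = ((f x n (qt n) : (S : Subgroup G)) : G) * ((f x n (qt n) : (S : Subgroup G)) : G)
      rw [← Subgroup.coe_mul, ← f_add d]
      congr 2
      linear_combination -h2q
    rw [e]
    exact Subgroup.mul_self_mem_of_index_two hH _
  have hinv : ∀ j, (⟨_, htK j⟩ : K) ∈ H := fun j => (mem_iff_of_isConj hH (hA j)).mp hz
  apply false_of_sylow_le S K H hH
  apply subgroupOf_le_of_forall
  intro s hs
  have hsM := (hmem s).mp hs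
  rcases (mem_M3 d s).mp hsM with ⟨j, hj⟩ | ⟨j, hj⟩
  · have e : (⟨(s : G), hs⟩ : K) = ⟨_, htK j⟩ * (⟨_, htK 0⟩ : K) := by
      apply Subtype.ext
      show (s : G) = ((f x n (2 * j) * y : (S : Subgroup G)) : G) * ((f x n (2 * 0) * y : (S : Subgroup G)) : G)
      rw [hj, ← Subgroup.coe_mul, fy_mul_fy d]
      congr 2
      ring
    rw [e]; exact mul_mem (hinv j) (hinv 0)
  · have e0 : (s : G) = ((f x n (2 * j) * y : (S : Subgroup G)) : G) := by rw [hj]
    have e : (⟨(s : G), hs⟩ : K) = ⟨_, htK j⟩ := Subtype.ext e0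
    rw [e]; exact hinv j

end


/-- Let G be a finite group with quasi-dihedral Sylow 2-subgroup S, T a Klein four-subgroup and Q a quaternion subgroup of order 8 of S, with |N_G(T) : C_G(T)| = 6 and |N_G(Q) : Q C_G(Q)| = 2. Then G has a normal subgroup K of index 2 whose Sylow 2-subgroups are dihedral and which has no subgroup of index 2, and G has exactly one class of involutions and two classes of elements of order 4. -/
theorem result {G : Type*} [Group G] [Finite G] (S : Sylow 2 G) (hS : Cfsg.IsQuasiDihedral (S : Subgroup G)) (T : Subgroup G) (hT : IsKleinFour T) (hTS : T ≤ S) (Q : Subgroup G) (hQS : Q ≤ S) (eQ : Q ≃* QuaternionGroup 2) (h₁ : (Subgroup.centralizer (T : Set G)).relIndex (Subgroup.normalizer (T : Set G)) = 6) (h₂ : (Q ⊔ Subgroup.centralizer (Q : Set G)).relIndex (Subgroup.normalizer (Q : Set G)) = 2) : (∃ K : Subgroup G, K.Normal ∧ K.index = 2 ∧ (∀ P : Sylow 2 ↥K, ∃ m : ℕ, Nonempty ((P : Subgroup ↥K) ≃* DihedralGroup m))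 ∧ (∀ H : Subgroup ↥K, H.index ≠ 2)) ∧ Nat.card {C : ConjClasses G // ∃ t : G, orderOf t = 2 ∧ ConjClasses.mk t = C} = 1 ∧ Nat.card {C : ConjClasses G // ∃ t : G, orderOf t = 4 ∧ ConjClasses.mk t = C} = 2 := by
  obtain ⟨n, x, y, d⟩ := exists_data hS
  have hZY := conj_Z_Y_of_six S d T hT hTS h₁
  have hVW : ¬ IsConj ((f x n (qt n) : (S : Subgroup G)) : G)
      ((f x n 1 * y : (S : Subgroup G)) : G) :=
    fun h => rQ_ne_two_of_conj S d Q hQS eQ h h₂
  obtain ⟨K, hKn, hKi, hWK, hinv⟩ := exists_K2 S d hVW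
  have hKS := K2_inter S d K hKi hWK hinv
  refine ⟨⟨K, hKn, hKi, ?_, no_index_two_K S d K hKi hKS hZY⟩,
    card_invol_one S d hZY, card_order4_two S d hVW⟩
  intro P
  refine ⟨2 ^ (n - 1), ?_⟩
  obtain ⟨e1⟩ := sylow_iso_of_normal S K P
  obtain ⟨e2⟩ := M3_iso d
  exact ⟨(e1.trans (MulEquiv.subgroupCongr hKS)).trans e2⟩

end Cfsg.Agent.S1206
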