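import Cfsg.Statements.S1207
import Cfsg.Agent.Lib.Helper20.QDFusion5
import Cfsg.Agent.Lib.Helper55.IndexTwoLift
import Cfsg.Agent.S1206

set_option autoImplicit false
open Cfsg

namespace Cfsg.Agent.S1207

open Cfsg.Agent.Lib.Helper20 Cfsg.Agent.Lib.Helper20.QD Cfsg.Agent.Lib.Helper20.QDF

section

variable {G : Type*} [Group G] [Finite G] (S : Sylow 2 G) {n : ℕ} {x y : (S : Subgroup G)}

theorem M2_inf_M3_le (d : Data (S : Subgroup G) n x y) : M2 d ⊓ M3 d ≤ Phi d := by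
  have hn := d.hn
  intro s hs
  rw [Subgroup.mem_inf, mem_M2, mem_M3] at hs
  rw [mem_Phi]
  obtain ⟨h2, h3⟩ := hs
  rcases h2 with ⟨j, hj⟩ | ⟨j, hj⟩
  · exact ⟨j, hj⟩
  · exfalso
    rcases h3 with ⟨j', hj'⟩ | ⟨j', hj'⟩
    · rw [hj] at hj'
      exact f_mul_y_ne_f d _ _ hj'
    · rw [hj] at hj'
      have := f_injective d (mul_right_cancel hj')
      exact not_even_and_odd (by omega) j' j this.symm

/-- `S ∩ K₁ ∩ K₂` is cyclic. -/
theorem inter_le_Phi (d : Data (S : Subgroup G) n x y) (K₁ K₂ : Subgroup G) [K₁.Normal] [K₂.Normal]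
    (hK₁ : K₁.index = 2) (hY : (y : G) ∉ K₁)
    (hKS₂ : K₂.subgroupOf (S : Subgroup G) = M3 d) :
    (K₁ ⊓ K₂).subgroupOf (S : Subgroup G) ≤ Phi d := by
  have hidx := index_subgroupOf_of_index_two (S : Subgroup G) K₁ hK₁ (fun h => hY (h y.2))
  intro s hs
  rw [Subgroup.mem_subgroupOf, Subgroup.mem_inf] at hs
  have hs1 : s ∈ K₁.subgroupOf (S : Subgroup G) := Subgroup.mem_subgroupOf.mpr hs.1
  have hs2 : s ∈ M3 d := by rw [← hKS₂]; exact Subgroup.mem_subgroupOf.mpr hs.2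
  rcases index_two_cases d _ hidx with h | h | h
  · rw [h] at hs1
    exact Subgroup.mem_inf.mpr ⟨hs1, hs2⟩
  · rw [h] at hs1
    exact M2_inf_M3_le S d (Subgroup.mem_inf.mpr ⟨hs1, hs2⟩)
  · exfalso
    have : y ∈ M3 d := y_mem_M3 d
    rw [← h] at this
    exact hY (Subgroup.mem_subgroupOf.mp this)

theorem hasNormalPComplement_of_two (d : Data (S : Subgroup G) n x y) (K₁ K₂ : Subgroup G)
    [K₁.Normal] [K₂.Normal] (hK₁ : K₁.index = 2) (hK₂ : K₂.index = 2) (hY : (y : G) ∉ K₁)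
    (hKS₂ : K₂.subgroupOf (S : Subgroup G) = M3 d) : Cfsg.HasNormalPComplement 2 G := by
  have : Fact (Nat.Prime 2) := ⟨Nat.prime_two⟩
  have hall : ∀ g : G, Nat.Coprime (orderOf g) 2 → g ∈ K₁ ⊓ K₂ := fun g hg =>
    Subgroup.mem_inf.mpr ⟨Cfsg.Agent.Lib.Helper55.mem_of_odd_orderOf_of_index_two K₁ hK₁ g hg,
      Cfsg.Agent.Lib.Helper55.mem_of_odd_orderOf_of_index_two K₂ hK₂ g hg⟩
  rw [Cfsg.Agent.Lib.Helper34.hasNormalPComplement_iff_pResidual_coprime,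
    Cfsg.Agent.Lib.Helper55.pResidual_eq_map_of_forall_mem 2 (K₁ ⊓ K₂) hall,
    Subgroup.card_map_of_injective (K₁ ⊓ K₂).subtype_injective,
    ← Cfsg.Agent.Lib.Helper34.hasNormalPComplement_iff_pResidual_coprime]
  -- the Sylow 2-subgroup of `K₁ ⊓ K₂` is cyclic
  obtain ⟨R, hR⟩ := exists_sylow_eq_subgroupOf_normal (K₁ ⊓ K₂) S
  obtain ⟨e⟩ := sylow_iso_of_normal S (K₁ ⊓ K₂) R
  have hcyc0 : IsCyclic ((K₁ ⊓ K₂).subgroupOf (S : Subgroup G)) := by
    have := Phi_isCyclic d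
    exact Subgroup.isCyclic_of_le (inter_le_Phi S d K₁ K₂ hK₁ hY hKS₂)
  have hcyc : IsCyclic (R : Subgroup (K₁ ⊓ K₂ : Subgroup G)) :=
    isCyclic_of_surjective e.symm.toMonoidHom e.symm.surjective
  have hZL : ((f x n (hf n) : (S : Subgroup G)) : G) ∈ K₁ ⊓ K₂ :=
    Subgroup.mem_inf.mpr ⟨Z_mem_of_index_two S d K₁ hK₁, Z_mem_of_index_two S d K₂ hK₂⟩
  have hminfac : (Nat.card (K₁ ⊓ K₂ : Subgroup G)).minFac = 2 := by
    rw [Nat.minFac_eq_two_iff]
    have h1 : orderOf (⟨_, hZL⟩ : (K₁ ⊓ K₂ : Subgroup G)) = 2 := by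
      rw [Subgroup.orderOf_mk]; exact orderOf_Z S d
    rw [← h1]; exact orderOf_dvd_natCard _
  have hcomp := IsCyclic.isComplement' hminfac hcyc
  exact ⟨R, _, inferInstance, hcomp⟩

end


/-- Let G be a finite group with quasi-dihedral Sylow 2-subgroup S, T a Klein four-subgroup and Q a quaternion subgroup of order 8 of S, with |N_G(T) : C_G(T)| = 2 and |N_G(Q) : Q C_G(Q)| = 2. Then G has a normal 2-complement, exactly two classes of involutions and exactly two classes of elements of order 4. -/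
theorem result {G : Type*} [Group G] [Finite G] (S : Sylow 2 G) (hS : Cfsg.IsQuasiDihedral (S : Subgroup G)) (T : Subgroup G) (hT : IsKleinFour T) (hTS : T ≤ S) (Q : Subgroup G) (hQS : Q ≤ S) (eQ : Q ≃* QuaternionGroup 2) (h₁ : (Subgroup.centralizer (T : Set G)).relIndex (Subgroup.normalizer (T : Set G)) = 2) (h₂ : (Q ⊔ Subgroup.centralizer (Q : Set G)).relIndex (Subgroup.normalizer (Q : Set G)) = 2) : Cfsg.HasNormalPComplement 2 G ∧ Nat.card {C : ConjClasses G // ∃ t : G, orderOf t = 2 ∧ ConjClasses.mk t = C} = 2 ∧ Nat.card {C : ConjClasses G // ∃ t : G, orderOf t = 4 ∧ ConjClasses.mk t = C} = 2 := by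
  obtain ⟨n, x, y, d⟩ := exists_data hS
  have hZY : ¬ IsConj ((f x n (hf n) : (S : Subgroup G)) : G) (y : G) :=
    fun h => rT_ne_two_of_conj S d T hT hTS h h₁
  have hVW : ¬ IsConj ((f x n (qt n) : (S : Subgroup G)) : G)
      ((f x n 1 * y : (S : Subgroup G)) : G) :=
    fun h => rQ_ne_two_of_conj S d Q hQS eQ h h₂
  obtain ⟨K₁, hK₁n, hK₁i, hYK⟩ := exists_K1 S d hZY
  obtain ⟨K₂, hK₂n, hK₂i, hWK, hinv⟩ := exists_K2 S d hVW
  have hKS₂ := Cfsg.Agent.S1206.K2_inter S d K₂ hK₂i hWK hinv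
  exact ⟨hasNormalPComplement_of_two S d K₁ K₂ hK₁i hK₂i hYK hKS₂,
    card_invol_two S d hZY, card_order4_two S d hVW⟩

end Cfsg.Agent.S1207
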