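import Cfsg.Statements.S1213
import Cfsg.Agent.Lib.Helper20.CentInv

set_option autoImplicit false
open Cfsg

namespace Cfsg.Agent.S1213

open Cfsg.Agent.Lib.Helper38 Cfsg.Agent.Lib.Helper20 Cfsg.Agent.Lib.Helper20.QD
  Cfsg.Agent.Lib.Helper20.Wr Cfsg.Agent.Lib.Helper20.CI


/-- Let G be a finite group with quasi-dihedral or wreathed Sylow 2-subgroups and no subgroup of index 2, and let x be an involution with centralizer C. Then C has a Sylow 2-subgroup R which is a Sylow 2-subgroup of G; C has a normal subgroup K of index a power of 2 which has no subgroup of index 2 and whose Sylow 2-subgroups are generalized quaternion; and every subgroup of the centre of R is weakly closed in R with respect to C. -/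
theorem result {G : Type*} [Group G] [Finite G] (S : Sylow 2 G) (hS : Cfsg.IsQuasiDihedral (S : Subgroup G) ∨ Cfsg.IsWreathed (S : Subgroup G)) (hG : ∀ H : Subgroup G, H.index ≠ 2) (x : G) (hx : orderOf x = 2) : ∃ R : Sylow 2 ↥(Subgroup.centralizer ({x} : Set G)), Nat.card R = Nat.card S ∧ (∃ K : Subgroup ↥(Subgroup.centralizer ({x} : Set G)), K.Normal ∧ (∃ a : ℕ, K.index = 2 ^ a) ∧ (∀ H : Subgroup ↥K, H.index ≠ 2) ∧ (∀ P : Sylow 2 ↥K, ∃ m : ℕ, 1 ≤ m ∧ Nonempty ((P : Subgroup ↥K) ≃* QuaternionGroup (2 ^ m)))) ∧ (∀ Z₀ : Subgroup ↥(Subgroup.centralizer ({x} : Set G)), Z₀ ≤ ((Subgroup.center (R : Subgroup ↥(Subgroup.centralizer ({x} : Set G)))).map (R : Subgroup ↥(Subgroup.centralizer ({x} : Set G))).subtype) → Cfsg.IsWeaklyClosed Z₀ (R : Subgroup ↥(Subgroup.centralizer ({x} : Set G)))) := by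
  have : Fact (Nat.Prime 2) := ⟨Nat.prime_two⟩
  have hA : ∃ S' : Sylow 2 G, x ∈ (S' : Subgroup G) ∧ ∀ s ∈ (S' : Subgroup G), s * x = x * s := by
    rcases hS with hS | hS
    · obtain ⟨n, xs, ys, d⟩ := exists_data hS
      obtain ⟨g, hg⟩ := isConj_iff.mp (isConj_Z_of_no_index_two S d hG x hx).symm
      refine exists_sylow_central S hg (f xs n (hf n)).2 (fun s hs => ?_)
      have := Subgroup.mem_center_iff.mp (Cfsg.Agent.S1193.z_mem_center d) ⟨s, hs⟩
      exact congrArg Subtype.val this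
    · obtain ⟨n, xs, ys, zs, h⟩ := exists_isWr hS
      have h1 := rU_six_of_no_index_two S h hG
      have h2 := rV_six_of_no_index_two S h hG
      obtain ⟨g, hg⟩ := isConj_iff.mp (isConj_e_of_six_six S h h1 h2 x hx).symm
      refine exists_sylow_central S hg
        (al xs ys ((2 ^ (n - 1) : ℕ) : ℤ) ((2 ^ (n - 1) : ℕ) : ℤ)).2 (fun s hs => ?_)
      have := Subgroup.mem_center_iff.mp (e_mem_center h) ⟨s, hs⟩
      exact congrArg Subtype.val this
  obtain ⟨S', hxS', hxc'⟩ := hA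
  have hcard : Nat.card S' = Nat.card S := Nat.card_congr (S'.equiv S).toEquiv
  have hS' : Cfsg.IsQuasiDihedral (S' : Subgroup G) ∨ Cfsg.IsWreathed (S' : Subgroup G) :=
    hS.imp (isQuasiDihedral_of_equiv (S.equiv S')) (isWreathed_of_equiv (S.equiv S'))
  rcases hS' with hS' | hS'
  · obtain ⟨n, xs, ys, d⟩ := exists_data hS'
    obtain ⟨R, hR, rest⟩ := qd_central S' d hG x hx hxS' hxc'
    exact ⟨R, hR.trans hcard, rest⟩
  · obtain ⟨n, xs, ys, zs, h⟩ := exists_isWr hS'
    obtain ⟨R, hR, rest⟩ := wreathed_central S' h hG x hx hxS' hxc'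
    exact ⟨R, hR.trans hcard, rest⟩

end Cfsg.Agent.S1213
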