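import Mathlib
import Cfsg.Statements.S1236
-- import your own Cfsg.Agent.* helpers here

set_option autoImplicit false
open Cfsg

namespace Cfsg.Agent.S1236

/-- "dihedral-like": a cyclic subgroup of index two such that elements outside it only centralize
its elements of square one -/
def HasCyc (D : Type*) [Group D] : Prop :=
  ∃ x : D, (Subgroup.zpowers x).index = 2 ∧
    ∀ y : D, y ∉ Subgroup.zpowers x → ∀ c ∈ Subgroup.zpowers x, y * c = c * y → c ^ 2 = 1

/-- in a cyclic group at most two elements square to one -/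
theorem sq_eq_one_cases {D : Type*} [Group D] [Finite D] (x c₁ c₂ : D)
    (h1 : c₁ ∈ Subgroup.zpowers x) (h2 : c₂ ∈ Subgroup.zpowers x)
    (hc1 : c₁ ^ 2 = 1) (hc2 : c₂ ^ 2 = 1) (hne : c₁ ≠ 1) : c₂ = 1 ∨ c₂ = c₁ := by
  classical
  have : Fintype ↥(Subgroup.zpowers x) := Fintype.ofFinite _
  have hle := IsCyclic.card_pow_eq_one_le (α := ↥(Subgroup.zpowers x)) (n := 2) two_pos
  by_contra hcon
  push Not at hcon
  obtain ⟨hc21, hc2c1⟩ := hcon
  have hsub : ({1, ⟨c₁, h1⟩, ⟨c₂, h2⟩} : Finset ↥(Subgroup.zpowers x)) ⊆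
      Finset.univ.filter (fun a : ↥(Subgroup.zpowers x) => a ^ 2 = 1) := by
    intro a ha
    simp only [Finset.mem_insert, Finset.mem_singleton] at ha
    simp only [Finset.mem_filter, Finset.mem_univ, true_and]
    rcases ha with rfl | rfl | rfl
    · simp
    · exact Subtype.ext hc1
    · exact Subtype.ext hc2
  have hcard : ({1, ⟨c₁, h1⟩, ⟨c₂, h2⟩} : Finset ↥(Subgroup.zpowers x)).card = 3 := by
    rw [Finset.card_insert_of_notMem, Finset.card_insert_of_notMem, Finset.card_singleton]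
    · simp only [Finset.mem_singleton, Subtype.mk.injEq]
      exact fun h => hc2c1 h.symm
    · simp only [Finset.mem_insert, Finset.mem_singleton, not_or]
      constructor
      · intro h
        exact hne (congrArg Subtype.val h).symm
      · intro h
        exact hc21 (congrArg Subtype.val h).symm
  have := Finset.card_le_card hsub
  omega

/-- a subgroup of order four has an element outside any given triple -/
theorem exists_not_mem_triple {D : Type*} [Group D] (V : Subgroup D) (hV4 : Nat.card V = 4)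
    (a b c : D) : ∃ v ∈ V, v ≠ a ∧ v ≠ b ∧ v ≠ c := by
  by_contra hcon
  push Not at hcon
  have hsub : (V : Set D) ⊆ {a, b, c} := by
    intro v hv
    by_cases h1 : v = a
    · simp [h1]
    by_cases h2 : v = b
    · simp [h2]
    have := hcon v hv h1 h2
    simp [this]
  have h1 : (V : Set D).ncard ≤ ({a, b, c} : Set D).ncard :=
    Set.ncard_le_ncard hsub (Set.toFinite _)
  have h2 : ({a, b, c} : Set D).ncard ≤ 3 := by
    calc ({a, b, c} : Set D).ncard ≤ ({b, c} : Set D).ncard + 1 := Set.ncard_insert_le _ _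
      _ ≤ (({c} : Set D).ncard + 1) + 1 := by gcongr; exact Set.ncard_insert_le _ _
      _ = 3 := by rw [Set.ncard_singleton]
  have h3 : (V : Set D).ncard = Nat.card V := (Nat.card_coe_set_eq _).symm
  omega

theorem self_centralizing {D : Type*} [Group D] [Finite D] (h : HasCyc D) (V : Subgroup D)
    (hV4 : Nat.card V = 4) (hVexp : ∀ v ∈ V, v ^ 2 = 1) (g : D)
    (hg : ∀ v ∈ V, g * v = v * g) : g ∈ V := by
  obtain ⟨x, hidx, hact⟩ := h
  -- an element of `V` outside `C`
  obtain ⟨y', hy'V, hy'C⟩ : ∃ y' ∈ V, y' ∉ Subgroup.zpowers x := by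
    by_contra hall
    push Not at hall
    obtain ⟨v₁, hv₁V, hv₁, -, -⟩ := exists_not_mem_triple V hV4 1 1 1
    obtain ⟨v₂, hv₂V, hv₂1, hv₂v₁, -⟩ := exists_not_mem_triple V hV4 1 v₁ v₁
    rcases sq_eq_one_cases x v₁ v₂ (hall _ hv₁V) (hall _ hv₂V) (hVexp _ hv₁V) (hVexp _ hv₂V) hv₁
      with h | h
    · exact hv₂1 h
    · exact hv₂v₁ h
  -- a nontrivial element of `V ∩ C`
  obtain ⟨c, hcV, hcC, hc1⟩ : ∃ c ∈ V, c ∈ Subgroup.zpowers x ∧ c ≠ 1 := by
    obtain ⟨a, haV, ha1, hay', -⟩ := exists_not_mem_triple V hV4 1 y' y'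
    by_cases haC : a ∈ Subgroup.zpowers x
    · exact ⟨a, haV, haC, ha1⟩
    · refine ⟨a * y'⁻¹, V.mul_mem haV (V.inv_mem hy'V), ?_, ?_⟩
      · rw [Subgroup.mul_mem_iff_of_index_two hidx]
        simp [haC, hy'C]
      · intro h
        exact hay' (mul_inv_eq_one.1 h)
  have hcsq : c ^ 2 = 1 := hVexp _ hcV
  have hy'inv : y'⁻¹ ∉ Subgroup.zpowers x := by
    intro h
    exact hy'C (by simpa using (Subgroup.zpowers x).inv_mem h)
  by_cases hgC : g ∈ Subgroup.zpowers x
  · have hsq : g ^ 2 = 1 := hact y' hy'C g hgC (hg y' hy'V).symm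
    rcases sq_eq_one_cases x c g hcC hgC hcsq hsq hc1 with h | h
    · rw [h]; exact V.one_mem
    · rw [h]; exact hcV
  · have hg'C : g * y'⁻¹ ∈ Subgroup.zpowers x := by
      rw [Subgroup.mul_mem_iff_of_index_two hidx]
      simp [hgC, hy'inv]
    have hcomm : y' * (g * y'⁻¹) = (g * y'⁻¹) * y' := by
      rw [← mul_assoc, ← hg y' hy'V]
      group
    have hsq : (g * y'⁻¹) ^ 2 = 1 := hact y' hy'C _ hg'C hcomm
    have hgy : g = (g * y'⁻¹) * y' := by group
    rcases sq_eq_one_cases x c (g * y'⁻¹) hcC hg'C hcsq hsq hc1 with h | h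
    · rw [hgy, h, one_mul]; exact hy'V
    · rw [hgy, h]; exact V.mul_mem hcV hy'V

theorem hasCyc_of_dihedral {D : Type*} [Group D] [Finite D] (m : ℕ) (hm : 2 ≤ m)
    (e : D ≃* DihedralGroup m) : HasCyc D := by
  have : NeZero m := ⟨by omega⟩
  refine ⟨e.symm (DihedralGroup.r 1), ?_, ?_⟩
  · have hcardD : Nat.card D = 2 * m := by
      rw [Nat.card_congr e.toEquiv, DihedralGroup.nat_card]
    have hord : orderOf (e.symm (DihedralGroup.r 1)) = m := by
      rw [MulEquiv.orderOf_eq, DihedralGroup.orderOf_r_one]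
    have h1 := Subgroup.card_mul_index (Subgroup.zpowers (e.symm (DihedralGroup.r (1 : ZMod m))))
    rw [Nat.card_zpowers, hord, hcardD] at h1
    have h2 : m * (Subgroup.zpowers (e.symm (DihedralGroup.r (1 : ZMod m)))).index = m * 2 := by
      rw [h1, mul_comm]
    exact Nat.eq_of_mul_eq_mul_left (by omega) h2
  · intro y hy c hc hyc
    obtain ⟨k, rfl⟩ := hc
    have hec : e ((e.symm (DihedralGroup.r 1)) ^ k) = DihedralGroup.r (k : ZMod m) := by
      rw [map_zpow, MulEquiv.apply_symm_apply, DihedralGroup.r_one_zpow]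
    have hyc' : e y * DihedralGroup.r (k : ZMod m) = DihedralGroup.r (k : ZMod m) * e y := by
      rw [← hec, ← map_mul, ← map_mul]
      exact congrArg e hyc
    apply e.injective
    rw [map_pow, hec, map_one]
    cases hey : e y with
    | r i =>
      exfalso
      apply hy
      refine ⟨(i.val : ℤ), ?_⟩
      apply e.injective
      simp only
      rw [map_zpow, MulEquiv.apply_symm_apply, DihedralGroup.r_one_zpow, hey]
      simp
    | sr i =>
      rw [hey, DihedralGroup.sr_mul_r, DihedralGroup.r_mul_sr] at hyc'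
      have h3 : i + (k : ZMod m) = i - (k : ZMod m) := by
        injection hyc'
      have h4 : (k : ZMod m) + (k : ZMod m) = 0 := by linear_combination h3
      rw [pow_two, DihedralGroup.r_mul_r, h4]
      rfl

theorem hasCyc_of_qd {D : Type*} [Group D] [Finite D] (h : Cfsg.IsQuasiDihedral D) : HasCyc D := by
  obtain ⟨n, hn, hcard, x, y₀, hx, hy₀, hrel⟩ := h
  have hidx : (Subgroup.zpowers x).index = 2 := by
    have h1 := Subgroup.card_mul_index (Subgroup.zpowers x)
    rw [Nat.card_zpowers, hx, hcard, pow_succ] at h1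
    exact Nat.eq_of_mul_eq_mul_left (by positivity) h1
  have hpos : 2 < 2 ^ (n - 1) := by
    calc 2 = 2 ^ 1 := by norm_num
      _ < 2 ^ (n - 1) := Nat.pow_lt_pow_right (by norm_num) (by omega)
  have hlt : 2 ^ (n - 1) < 2 ^ n := Nat.pow_lt_pow_right (by norm_num) (by omega)
  -- conjugation by `y₀` on the cyclic subgroup
  have hconj : ∀ c ∈ Subgroup.zpowers x, y₀ * c * y₀⁻¹ = c ^ (2 ^ (n - 1) - 1) := by
    rintro _ ⟨i, rfl⟩
    have e : y₀ * x ^ i * y₀⁻¹ = (y₀ * x * y₀⁻¹) ^ i := by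
      have := map_zpow (MulAut.conj y₀) x i
      simp only [MulAut.conj_apply] at this
      exact this
    rw [e, hrel, ← zpow_natCast, ← zpow_natCast, ← zpow_mul, ← zpow_mul, mul_comm]
  -- consequence: elements of the cyclic group commuting with `y₀` have square one
  have hfix : ∀ c ∈ Subgroup.zpowers x, y₀ * c = c * y₀ → c ^ 2 = 1 := by
    intro c hc hcomm
    have h1 : c ^ (2 ^ (n - 1) - 1) = c := by
      rw [← hconj c hc, hcomm]; group
    have h2 : c ^ (2 ^ (n - 1) - 2) = 1 := by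
      have h3 : c ^ (2 ^ (n - 1) - 1) = c ^ (2 ^ (n - 1) - 2) * c := by
        rw [← pow_succ]; congr 1; omega
      rw [h3] at h1
      exact mul_right_cancel (h1.trans (one_mul c).symm)
    have h4 : c ^ (2 ^ n) = 1 := by
      obtain ⟨i, rfl⟩ := hc
      rw [← zpow_natCast, ← zpow_mul, mul_comm, zpow_mul, zpow_natCast, ← hx, pow_orderOf_eq_one,
        one_zpow]
    have h5 : orderOf c ∣ Nat.gcd (2 ^ n) (2 ^ (n - 1) - 2) :=
      Nat.dvd_gcd (orderOf_dvd_of_pow_eq_one h4) (orderOf_dvd_of_pow_eq_one h2)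
    have h6 : Nat.gcd (2 ^ n) (2 ^ (n - 1) - 2) = 2 := by
      obtain ⟨r, rfl⟩ : ∃ r, n = r + 3 := ⟨n - 3, by omega⟩
      have e1 : 2 ^ (r + 3) = 2 * 2 ^ (r + 2) := by ring
      have e2 : 2 ^ (r + 3 - 1) - 2 = 2 * (2 ^ (r + 1) - 1) := by
        have : 2 ^ (r + 3 - 1) = 2 * 2 ^ (r + 1) := by
          rw [show r + 3 - 1 = (r + 1) + 1 by omega, pow_succ]; ring
        have h1 : 1 ≤ 2 ^ (r + 1) := Nat.one_le_two_pow
        omega
      rw [e1, e2, Nat.gcd_mul_left]
      have hodd : Odd (2 ^ (r + 1) - 1) := by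
        have h1 : 1 ≤ 2 ^ (r + 1) := Nat.one_le_two_pow
        have : Even (2 ^ (r + 1)) := by
          rw [pow_succ]; exact even_two.mul_left _
        exact Nat.Even.sub_odd h1 this odd_one
      have hcop : Nat.Coprime (2 ^ (r + 2)) (2 ^ (r + 1) - 1) :=
        Nat.Coprime.pow_left _ (Nat.coprime_two_left.2 hodd)
      rw [hcop, mul_one]
    rw [h6] at h5
    exact orderOf_dvd_iff_pow_eq_one.1 h5
  -- `y₀` is outside the cyclic subgroup
  have hy₀C : y₀ ∉ Subgroup.zpowers x := by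
    intro hmem
    obtain ⟨i, hi⟩ := hmem
    have hcomm : y₀ * x = x * y₀ := by
      rw [← hi]
      exact (Commute.zpow_left (Commute.refl x) i).eq
    have h1 := hfix x (Subgroup.mem_zpowers x) hcomm
    have h2 : orderOf x ∣ 2 := orderOf_dvd_of_pow_eq_one h1
    rw [hx] at h2
    have h3 := Nat.le_of_dvd (by norm_num) h2
    omega
  refine ⟨x, hidx, ?_⟩
  intro y hy c hc hyc
  apply hfix c hc
  -- `y = y₀ * c₀` with `c₀` in the cyclic subgroup
  have hc₀ : y₀⁻¹ * y ∈ Subgroup.zpowers x := by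
    rw [Subgroup.mul_mem_iff_of_index_two hidx]
    have : y₀⁻¹ ∉ Subgroup.zpowers x := by
      intro h
      exact hy₀C (by simpa using (Subgroup.zpowers x).inv_mem h)
    simp [this, hy]
  have hcc : (y₀⁻¹ * y) * c = c * (y₀⁻¹ * y) := by
    obtain ⟨i, hi⟩ := hc₀
    obtain ⟨j, hj⟩ := hc
    rw [← hi, ← hj, ← zpow_add, ← zpow_add, add_comm]
  have hy' : y = y₀ * (y₀⁻¹ * y) := by group
  rw [hy'] at hyc
  have h1 : y₀ * c * (y₀⁻¹ * y) = c * y₀ * (y₀⁻¹ * y) := by
    calc y₀ * c * (y₀⁻¹ * y) = y₀ * ((y₀⁻¹ * y) * c) := by rw [hcc]; exact mul_assoc _ _ _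
      _ = y₀ * (y₀⁻¹ * y) * c := (mul_assoc _ _ _).symm
      _ = c * (y₀ * (y₀⁻¹ * y)) := hyc
      _ = c * y₀ * (y₀⁻¹ * y) := (mul_assoc _ _ _).symm
  exact mul_right_cancel h1

/-- Let R be a finite group, t a central involution of R such that R ⧸ ⟨t⟩ is dihedral (of order ≥ 4) or quasi-dihedral, and A ≤ R an elementary abelian subgroup of order 8 containing t. Then C_R(A) = A. -/
theorem result {R : Type*} [Group R] [Finite R] (t : R) (ht : orderOf t = 2) (htz : t ∈ Subgroup.center R) [(Subgroup.zpowers t).Normal] (hq : (∃ m : ℕ, 2 ≤ m ∧ Nonempty (R ⧸ Subgroup.zpowers t ≃* DihedralGroup m)) ∨ Cfsg.IsQuasiDihedral (R ⧸ Subgroup.zpowers t)) (A : Subgroup R) (hA : Cfsg.IsElementaryAbelian 2 A) (hA8 : Nat.card A = 8) (htA : t ∈ A) : Subgroup.centralizer (A : Set R) = A := by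
  have hD : HasCyc (R ⧸ Subgroup.zpowers t) := by
    rcases hq with ⟨m, hm, ⟨e⟩⟩ | h
    · exact hasCyc_of_dihedral m hm e
    · exact hasCyc_of_qd h
  have hNA : Subgroup.zpowers t ≤ A := by rw [Subgroup.zpowers_le]; exact htA
  have hNcard : Nat.card (Subgroup.zpowers t) = 2 := by rw [Nat.card_zpowers, ht]
  have hV4 : Nat.card (A.map (QuotientGroup.mk' (Subgroup.zpowers t))) = 4 := by
    rw [← Subgroup.relIndex_ker, QuotientGroup.ker_mk']
    have h1 := Subgroup.card_mul_index ((Subgroup.zpowers t).subgroupOf A)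
    rw [Nat.card_congr (Subgroup.subgroupOfEquivOfLe hNA).toEquiv, hNcard, hA8] at h1
    show ((Subgroup.zpowers t).subgroupOf A).index = 4
    omega
  have hVexp : ∀ v ∈ A.map (QuotientGroup.mk' (Subgroup.zpowers t)), v ^ 2 = 1 := by
    rintro _ ⟨a, ha, rfl⟩
    rw [← map_pow, hA.2 a ha, map_one]
  apply le_antisymm
  · intro g hg
    rw [Subgroup.mem_centralizer_iff] at hg
    have h1 := self_centralizing hD _ hV4 hVexp (QuotientGroup.mk' (Subgroup.zpowers t) g) (by
      rintro _ ⟨a, ha, rfl⟩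
      rw [← map_mul, ← map_mul, hg a ha])
    obtain ⟨a, ha, hag⟩ := h1
    have h2 : a⁻¹ * g ∈ Subgroup.zpowers t := by
      rw [← QuotientGroup.eq]
      exact hag
    have h3 : g = a * (a⁻¹ * g) := by group
    rw [h3]
    exact A.mul_mem ha (hNA h2)
  · intro a ha
    rw [Subgroup.mem_centralizer_iff]
    intro b hb
    have := hA.1.is_comm.comm (⟨b, hb⟩ : A) ⟨a, ha⟩
    exact congrArg Subtype.val this

end Cfsg.Agent.S1236
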