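import Cfsg.Statements.S1237
import Cfsg.Agent.Lib.Helper98.ThreeInvMain
import Cfsg.Agent.Lib.Helper98.Fpf64Main

set_option autoImplicit false
set_option linter.unusedSimpArgs false
set_option linter.style.haveILetI false
open Cfsg

namespace Cfsg.Agent.S1237

open Subgroup
open Cfsg.Agent.Lib.Helper98
open Cfsg.Agent.Lib.Helper98.ThreeInv

/-- An automorphism preserves the centre (powers included). -/
theorem aut_center {T : Type*} [Group T] (α : MulAut T) (z : T) (hz : z ∈ center T) :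
    α z ∈ center T := by
  rw [mem_center_iff] at hz ⊢
  intro g
  have := congrArg α (hz (α.symm g))
  simpa using this

/-- The unitriangular group over the field with four elements has two noncommuting involutions. -/
theorem ut_noncomm {F4 : Type*} [Field F4] [Fintype F4] (hF4 : Fintype.card F4 = 4) :
    ∃ u v : UT4.UT F4, u ^ 2 = 1 ∧ v ^ 2 = 1 ∧ u * v ≠ v * u := by
  have h2 : (2 : F4) = 0 := UT4.two_eq_zero4 hF4
  have h11 : (1 : F4) + 1 = 0 := by rw [one_add_one_eq_two]; exact h2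
  refine ⟨⟨1, 0, 0⟩, ⟨0, 0, 1⟩, ?_, ?_, ?_⟩
  · rw [UT4.sq_eq]
    apply UT4.UT.ext
    · change (1 : F4) + 1 = 0; exact h11
    · change (0 : F4) + 0 + 1 * 0 = 0; ring
    · change (0 : F4) + 0 = 0; ring
  · rw [UT4.sq_eq]
    apply UT4.UT.ext
    · change (0 : F4) + 0 = 0; ring
    · change (0 : F4) + 0 + 0 * 1 = 0; ring
    · change (1 : F4) + 1 = 0; exact h11
  · intro h
    have hb := congrArg UT4.UT.b h
    rw [UT4.mul_b, UT4.mul_b] at hb
    change (0 : F4) + 0 + 1 * 1 = 0 + 0 + 0 * 0 at hb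
    norm_num at hb

theorem result {T : Type*} [Group T] [Finite T] (hT : IsPGroup 2 T) (h2 : Cfsg.PRankLE 2 2 T) (h1 : ¬ Cfsg.PRankLE 2 1 T) (φ : MulAut T) (htrans : ∀ s t : T, orderOf s = 2 → orderOf t = 2 → ∃ k : ℕ, (φ ^ k) s = t) {F : Type*} [Field F] [Fintype F] (hF : Fintype.card F = 16) (P : Sylow 2 (Cfsg.PSU 3 F 4)) : (∃ n : ℕ, 1 ≤ n ∧ Nonempty (T ≃* Multiplicative (ZMod (2 ^ n) × ZMod (2 ^ n)))) ∨ Nonempty (T ≃* (P : Subgroup (Cfsg.PSU 3 F 4))) := by
  classical
  haveI : Fact (Nat.Prime 2) := ⟨Nat.prime_two⟩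
  -- an elementary abelian subgroup of order at least three
  unfold Cfsg.PRankLE at h1 h2
  push Not at h1
  obtain ⟨A, hAc, hA2, hAcard⟩ := h1
  have hTnt : Nontrivial T := by
    by_contra hnt
    rw [not_nontrivial_iff_subsingleton] at hnt
    have : Nat.card A ≤ 1 := Finite.card_le_one_iff_subsingleton.mpr inferInstance
    omega
  -- a central involution
  haveI : Nontrivial (center T) := hT.center_nontrivial
  obtain ⟨c, hc1⟩ := exists_ne (1 : center T)
  have hc1' : (c : T) ≠ 1 := fun h => hc1 (Subtype.ext h)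
  obtain ⟨m, hm2, hm1⟩ := exists_involution_pow hT (c : T) hc1'
  set z0 : T := (c : T) ^ m with hz0
  have hz0c : z0 ∈ center T := (center T).pow_mem c.2 m
  have hz0o : orderOf z0 = 2 := orderOf_eq_prime hm2 hm1
  -- all involutions are central
  have hinvc : ∀ s : T, s ^ 2 = 1 → s ∈ center T := by
    intro s hs
    by_cases hs1 : s = 1
    · rw [hs1]; exact (center T).one_mem
    · obtain ⟨k, hk⟩ := htrans z0 s hz0o (orderOf_eq_prime hs hs1)
      rw [← hk]
      exact aut_center _ z0 hz0c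
  -- the subgroup of involutions
  let Z0 : Subgroup T :=
    { carrier := {x | x ^ 2 = 1}
      mul_mem' := by
        intro a b ha hb
        change (a * b) ^ 2 = 1
        have hcab : Commute a b := (mem_center_iff.mp (hinvc b hb) a)
        rw [hcab.mul_pow, ha, hb, one_mul]
      one_mem' := one_pow 2
      inv_mem' := by
        intro a ha
        change a⁻¹ ^ 2 = 1
        rw [inv_pow, ha, inv_one] }
  have hZ0 : ∀ x, x ∈ Z0 ↔ x ^ 2 = 1 := fun x => Iff.rfl
  have hZ0comm : IsMulCommutative Z0 := by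
    rw [isMulCommutative_iff]
    intro a b
    apply Subtype.ext
    exact (mem_center_iff.mp (hinvc b b.2) (a : T))
  have hZ0le : Nat.card Z0 ≤ 2 ^ 2 := h2 Z0 hZ0comm (fun a ha => ha)
  have hAZ0 : A ≤ Z0 := fun a ha => hA2 a ha
  have hZ0ge : 2 ^ 1 < Nat.card Z0 := lt_of_lt_of_le hAcard (Subgroup.card_le_of_le hAZ0)
  have hZ04 : Nat.card Z0 = 4 := by
    obtain ⟨k, hk⟩ := IsPGroup.iff_card.mp (hT.to_subgroup Z0)
    rw [hk] at hZ0le hZ0ge ⊢
    have hk1 : 1 < k := (Nat.pow_lt_pow_iff_right (by norm_num)).mp hZ0ge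
    have hk2 : k ≤ 2 := (Nat.pow_le_pow_iff_right (by norm_num)).mp hZ0le
    have : k = 2 := by omega
    rw [this]
    norm_num
  -- `φ` moves every involution
  have hmoveφ : ∀ z ∈ Z0, z ≠ 1 → φ z ≠ z := by
    intro z hz hz1 hfix
    -- another involution
    obtain ⟨t, htZ, ht1, htz⟩ : ∃ t ∈ Z0, t ≠ 1 ∧ t ≠ z := by
      by_contra hcon
      push Not at hcon
      have hle : Z0 ≤ zpowers z := by
        intro t ht
        by_cases ht1 : t = 1
        · rw [ht1]; exact one_mem _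
        · rw [hcon t ht ht1]; exact mem_zpowers z
      have h1 := Subgroup.card_le_of_le hle
      rw [Nat.card_zpowers, orderOf_eq_prime ((hZ0 z).mp hz) hz1, hZ04] at h1
      omega
    obtain ⟨k, hk⟩ := htrans z t (orderOf_eq_prime ((hZ0 z).mp hz) hz1)
      (orderOf_eq_prime ((hZ0 t).mp htZ) ht1)
    have hfixk : ∀ k : ℕ, (φ ^ k) z = z := by
      intro k
      induction k with
      | zero => simp
      | succ k ih => rw [pow_succ, MulAut.mul_apply, hfix, ih]
    rw [hfixk k] at hk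
    exact htz hk.symm
  -- the `3`-part of `φ`
  have hN0 : orderOf φ ≠ 0 := (orderOf_pos φ).ne'
  obtain ⟨a, m', hm'3, hN⟩ := Nat.exists_eq_pow_mul_and_not_dvd hN0 3 (by norm_num)
  set ρ : MulAut T := φ ^ m' with hρ
  have hρa : ρ ^ (3 ^ a) = 1 := by
    rw [hρ, ← pow_mul, mul_comm, ← hN]
    exact pow_orderOf_eq_one φ
  have hmoveρ : ∀ z ∈ Z0, z ≠ 1 → ρ z ≠ z := by
    intro z hz hz1 hfix
    have h3q : ∀ q : ℕ, ((φ ^ 3) ^ q) z = z := fun q => pow3_fix Z0 hZ0 hZ04 φ hmoveφ q z hz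
    have hdecomp : ∀ r : ℕ, m' = r + 3 * (m' / 3) → ρ z = (φ ^ r) z := by
      intro r hr
      have e : φ ^ m' = φ ^ r * (φ ^ 3) ^ (m' / 3) := by
        conv_lhs => rw [hr]
        rw [pow_add, pow_mul]
      rw [hρ, e, MulAut.mul_apply, h3q]
    have hr : m' % 3 = 1 ∨ m' % 3 = 2 := by
      have : m' % 3 ≠ 0 := fun h => hm'3 (Nat.dvd_of_mod_eq_zero h)
      omega
    rcases hr with hr | hr
    · have := hdecomp 1 (by omega)
      rw [pow_one] at this
      rw [this] at hfix
      exact hmoveφ z hz hz1 hfix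
    · have := hdecomp 2 (by omega)
      rw [pow_two, MulAut.mul_apply] at this
      rw [this, rho2_eq Z0 hZ0 hZ04 φ hmoveφ z hz hz1] at hfix
      have h4 : φ z = 1 := mul_eq_left.mp hfix
      apply hz1
      have := congrArg φ.symm h4
      simpa using this
  have h3 : ρ ^ 3 = 1 := pow_three_eq_one hT Z0 hZ0 hZ04 ρ hmoveρ a hρa
  have hfp := fpf_of_move hT Z0 hZ0 ρ hmoveρ
  by_cases hab : ∀ a b : T, a * b = b * a
  · left
    obtain ⟨n, hn, ⟨e⟩⟩ := abelian_case' hT Z0 hZ0 hZ04 ρ hmoveρ h3 hab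
    exact ⟨n, hn, ⟨e.trans (MulEquiv.prodMultiplicative (G := ZMod (2 ^ n)) (H := ZMod (2 ^ n))).symm⟩⟩
  · right
    push Not at hab
    have h64 := card_eq_sixty_four' hT Z0 hZ0 hZ04 ρ hmoveρ h3 hab
    letI i4 : Fintype (GaloisField 2 2) := Fintype.ofFinite _
    have hF4 : Fintype.card (GaloisField 2 2) = 4 := by
      rw [← Nat.card_eq_fintype_card, GaloisField.card 2 2 (by norm_num)]
      norm_num
    rcases Fpf64.classification_fields h64 hab ρ h3 hfp hF4 hF with h | h
    · exfalso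
      obtain ⟨e⟩ := h default
      obtain ⟨e'⟩ := UT4.iso_sylow hF4 (default : Sylow 2 _)
      obtain ⟨u, v, hu, hv, huv⟩ := ut_noncomm hF4
      set f := e'.trans e.symm with hf
      have hfu : f u ∈ Z0 := by rw [hZ0, ← map_pow, hu, map_one]
      have hfv : f v ∈ Z0 := by rw [hZ0, ← map_pow, hv, map_one]
      have := Z0_comm Z0 hZ0 _ _ hfu hfv
      rw [← map_mul, ← map_mul] at this
      exact huv (f.injective this)
    · exact h P

end Cfsg.Agent.S1237
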