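import Cfsg.Statements.S1241
import Cfsg.Agent.Lib.Helper55.TransferEval

set_option autoImplicit false
open Cfsg

namespace Cfsg.Agent.S1241

/-- Let G be a finite group, p a prime, H a subgroup of index prime to p, K a subgroup of H normal in H with H/K commutative, and g ∈ H ∖ K an element of p-power order such that for all integers m and all a ∈ G with a g^m a⁻¹ ∈ H one has a g^m a⁻¹ ∈ g^m K. Then g ∉ G'. -/
theorem result {G : Type*} [Group G] [Finite G] {p : ℕ} [Fact p.Prime] (H K : Subgroup G) (hHK : K ≤ H) (hKn : (K.subgroupOf H).Normal) (hab : ∀ x ∈ H, ∀ y ∈ H, x * y * x⁻¹ * y⁻¹ ∈ K) (hidx : Nat.Coprime p H.index) (g : G) (hgH : g ∈ H) (hgK : g ∉ K) (hgp : ∃ k : ℕ, orderOf g = p ^ k) (hctrl : ∀ (m : ℤ) (a : G), a * g ^ m * a⁻¹ ∈ H → (a * g ^ m * a⁻¹) * (g ^ m)⁻¹ ∈ K) : g ∉ commutator G := by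
  classical
  haveI : H.FiniteIndex := ⟨by
    have := Subgroup.index_ne_zero_of_finite (H := H)
    exact this⟩
  haveI := hKn
  -- the commutative quotient `H ⧸ K`
  letI instC : CommGroup (↥H ⧸ K.subgroupOf H) :=
    { (inferInstance : Group (↥H ⧸ K.subgroupOf H)) with
      mul_comm := by
        intro a b
        induction a using QuotientGroup.induction_on with
        | H x =>
          induction b using QuotientGroup.induction_on with
          | H y =>
            rw [← QuotientGroup.mk_mul, ← QuotientGroup.mk_mul, QuotientGroup.eq]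
            rw [Subgroup.mem_subgroupOf]
            have h := hab (y⁻¹ : H) (y⁻¹ : H).2 (x⁻¹ : H) (x⁻¹ : H).2
            have e : (((x * y)⁻¹ * (y * x) : H) : G)
                = ((y⁻¹ : H) : G) * ((x⁻¹ : H) : G) * ((y⁻¹ : H) : G)⁻¹ * ((x⁻¹ : H) : G)⁻¹ := by
              simp [mul_assoc]
            rw [e]
            exact h }
  let ϕ : ↥H →* (↥H ⧸ K.subgroupOf H) := QuotientGroup.mk' (K.subgroupOf H)
  have hϕ1 : ∀ x : H, ϕ x = 1 ↔ (x : G) ∈ K := by
    intro x
    show (QuotientGroup.mk' (K.subgroupOf H)) x = 1 ↔ _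
    rw [QuotientGroup.mk'_apply, QuotientGroup.eq_one_iff, Subgroup.mem_subgroupOf]
  have key : ∀ (k : ℕ) (g₀ : G) (hk : g₀⁻¹ * g ^ k * g₀ ∈ H),
      ϕ ⟨g₀⁻¹ * g ^ k * g₀, hk⟩ = ϕ ⟨g, hgH⟩ ^ k := by
    intro k g₀ hk
    have h1 := hctrl (k : ℤ) g₀⁻¹ (by simpa using hk)
    rw [← map_pow]
    rw [← mul_inv_eq_one, ← map_inv, ← map_mul, hϕ1]
    simpa using h1
  have htr := Cfsg.Agent.Lib.Helper55.transfer_eq_pow_index ϕ g hgH key
  intro hgc
  have hker := Cfsg.Agent.Lib.Helper55.commutator_le_ker_transfer ϕ hgc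
  rw [MonoidHom.mem_ker, htr] at hker
  obtain ⟨k, hk⟩ := hgp
  have hord : ∃ k : ℕ, orderOf (ϕ ⟨g, hgH⟩) ∣ p ^ k := by
    refine ⟨k, ?_⟩
    rw [← hk]
    have : orderOf (⟨g, hgH⟩ : H) = orderOf g := by
      rw [← Subgroup.orderOf_coe]
    rw [← this]
    exact orderOf_map_dvd ϕ _
  have h1 := Cfsg.Agent.Lib.Helper55.eq_one_of_pow_eq_one_of_coprime hord hidx hker
  rw [hϕ1] at h1
  exact hgK h1

end Cfsg.Agent.S1241
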