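import Cfsg.Statements.S1242
import Cfsg.Agent.Lib.Helper55.TransferEval
import Cfsg.Agent.Lib.Helper34.PResidual

set_option autoImplicit false
open Cfsg

namespace Cfsg.Agent.S1242

open Cfsg.Agent.Lib.Helper55 Cfsg.Agent.Lib.Helper34
open scoped commutatorElement

/-- The `p'`-part power of `x` has `p`-power order. -/
theorem orderOf_pow_ordCompl {N : Type*} [Group N] [Finite N] (p : ℕ) [hp : Fact p.Prime] (x : N) :
    orderOf (x ^ (orderOf x / p ^ (orderOf x).factorization p)) = p ^ (orderOf x).factorization p := by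
  have hpos : 0 < orderOf x := orderOf_pos x
  have hdvd : orderOf x / p ^ (orderOf x).factorization p ∣ orderOf x := Nat.ordCompl_dvd _ _
  have hne : orderOf x / p ^ (orderOf x).factorization p ≠ 0 :=
    (Nat.ordCompl_pos p hpos.ne').ne'
  rw [orderOf_pow_of_dvd hne hdvd]
  have h := Nat.ordProj_mul_ordCompl_eq_self (orderOf x) p
  exact Nat.div_eq_of_eq_mul_left (Nat.pos_of_ne_zero hne) h.symm

/-- The image of `O^p(H)` in `G` lies in `O^p(G)`. -/
theorem map_pResidual_le {G : Type*} [Group G] (p : ℕ) (H : Subgroup G) :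
    (Cfsg.pResidual p ↥H).map H.subtype ≤ Cfsg.pResidual p G := by
  unfold Cfsg.pResidual
  rw [MonoidHom.map_closure, Subgroup.closure_le]
  rintro _ ⟨x, hx, rfl⟩
  apply Subgroup.subset_closure
  show Nat.Coprime (orderOf ((x : H) : G)) p
  rw [Subgroup.orderOf_coe]
  exact hx

/-- The image of `H'` in `G` lies in `G'`. -/
theorem map_commutator_le {G : Type*} [Group G] (H : Subgroup G) :
    (commutator ↥H).map H.subtype ≤ commutator G := by
  rw [commutator_def, commutator_def, Subgroup.map_commutator]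
  exact Subgroup.commutator_mono le_top le_top

/-- Let G be a finite group, p a prime and H a subgroup of index prime to p such that any two elements of H of p-power order that are conjugate in G are conjugate in H. Then (O^p(G)·G') ∩ H = O^p(H)·H', where O^p denotes the subgroup generated by the elements of order prime to p. -/
theorem result {G : Type*} [Group G] [Finite G] {p : ℕ} [Fact p.Prime] (H : Subgroup G) (hidx : Nat.Coprime p H.index) (hfus : ∀ g ∈ H, (∃ k : ℕ, orderOf g = p ^ k) → ∀ a : G, a * g * a⁻¹ ∈ H → ∃ h ∈ H, h * g * h⁻¹ = a * g * a⁻¹) : (Cfsg.pResidual p G ⊔ commutator G) ⊓ H = (Cfsg.pResidual p ↥H ⊔ commutator ↥H).map H.subtype := by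
  classical
  haveI : H.FiniteIndex := ⟨Subgroup.index_ne_zero_of_finite⟩
  set K : Subgroup ↥H := Cfsg.pResidual p ↥H ⊔ commutator ↥H with hK
  haveI hn1 : (Cfsg.pResidual p ↥H).Normal := pResidual_normal p ↥H
  haveI hn2 : (commutator ↥H).Normal := by rw [commutator_def]; infer_instance
  haveI hKn : K.Normal := by rw [hK]; infer_instance
  have hcomK : commutator ↥H ≤ K := le_sup_right
  have hresK : Cfsg.pResidual p ↥H ≤ K := le_sup_left
  let instC : CommGroup (↥H ⧸ K) :=
    { (inferInstance : Group (↥H ⧸ K)) with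
      mul_comm := by
        intro a b
        induction a using QuotientGroup.induction_on with
        | H x =>
          induction b using QuotientGroup.induction_on with
          | H y =>
            rw [← QuotientGroup.mk_mul, ← QuotientGroup.mk_mul, QuotientGroup.eq]
            apply hcomK
            rw [commutator_def]
            have e : (x * y)⁻¹ * (y * x) = ⁅y⁻¹, x⁻¹⁆ := by
              rw [commutatorElement_def]; group
            rw [e]
            exact Subgroup.commutator_mem_commutator (Subgroup.mem_top _) (Subgroup.mem_top _) }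
  let ϕ : ↥H →* (↥H ⧸ K) := QuotientGroup.mk' K
  have hϕ1 : ∀ x : H, ϕ x = 1 ↔ x ∈ K := by
    intro x
    show (QuotientGroup.mk' K) x = 1 ↔ _
    rw [QuotientGroup.mk'_apply, QuotientGroup.eq_one_iff]
  -- `H ⧸ K` is a `p`-group
  have hpgrp : ∀ y : ↥H ⧸ K, ∃ k : ℕ, orderOf y ∣ p ^ k := by
    intro y
    induction y using QuotientGroup.induction_on with
    | H x =>
      refine ⟨(orderOf x).factorization p, ?_⟩
      apply orderOf_dvd_of_pow_eq_one
      have := hresK (pow_ordProj_mem_pResidual p x)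
      rw [← QuotientGroup.mk_pow]
      exact (QuotientGroup.eq_one_iff _).mpr this
  let V : G →* (↥H ⧸ K) := MonoidHom.transfer ϕ
  -- `V` kills `O^p(G) ⊔ G'`
  have hVker : Cfsg.pResidual p G ⊔ commutator G ≤ V.ker := by
    refine sup_le ?_ (commutator_le_ker_transfer ϕ)
    unfold Cfsg.pResidual
    rw [Subgroup.closure_le]
    intro y hy
    have hy' : Nat.Coprime (orderOf y) p := hy
    rw [SetLike.mem_coe, MonoidHom.mem_ker]
    obtain ⟨k, hk⟩ := hpgrp (V y)
    have h1 : orderOf (V y) ∣ orderOf y := orderOf_map_dvd V y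
    have h2 : orderOf (V y) ∣ Nat.gcd (orderOf y) (p ^ k) := Nat.dvd_gcd h1 hk
    rw [Nat.Coprime.pow_right k hy', Nat.dvd_one] at h2
    exact orderOf_eq_one_iff.mp h2
  apply le_antisymm
  · -- the hard inclusion, by transfer
    intro x hx
    obtain ⟨hx1, hxH⟩ := hx
    have hVx : V x = 1 := hVker hx1
    set m := orderOf x / p ^ (orderOf x).factorization p with hm
    have hmcop : Nat.Coprime p m := by
      have hpos : 0 < orderOf x := orderOf_pos x
      exact Nat.coprime_ordCompl (Fact.out : p.Prime) hpos.ne'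
    -- u = x ^ m is a p-element of H
    have huH : x ^ m ∈ H := H.pow_mem hxH m
    have huord : orderOf (x ^ m) = p ^ (orderOf x).factorization p := orderOf_pow_ordCompl p x
    have key : ∀ (k : ℕ) (g₀ : G) (hk : g₀⁻¹ * (x ^ m) ^ k * g₀ ∈ H),
        ϕ ⟨g₀⁻¹ * (x ^ m) ^ k * g₀, hk⟩ = ϕ ⟨x ^ m, huH⟩ ^ k := by
      intro k g₀ hk
      have hpk : ∃ j : ℕ, orderOf ((x ^ m) ^ k) = p ^ j := by
        have hd : orderOf ((x ^ m) ^ k) ∣ p ^ (orderOf x).factorization p := by
          rw [← huord]; exact orderOf_pow_dvd k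
        obtain ⟨j, _, hj⟩ := (Nat.dvd_prime_pow (Fact.out : p.Prime)).mp hd
        exact ⟨j, hj⟩
      obtain ⟨h, hhH, hh⟩ := hfus ((x ^ m) ^ k) (H.pow_mem huH k) hpk g₀⁻¹ (by simpa using hk)
      have e : (⟨g₀⁻¹ * (x ^ m) ^ k * g₀, hk⟩ : H)
          = (⟨h, hhH⟩ : H) * (⟨x ^ m, huH⟩ : H) ^ k * (⟨h, hhH⟩ : H)⁻¹ := by
        apply Subtype.ext
        simp only [Subgroup.coe_mul, Subgroup.coe_pow, Subgroup.coe_inv]
        rw [hh]; simp
      rw [e, map_mul, map_mul, map_inv, map_pow, mul_comm, ← mul_assoc, inv_mul_cancel, one_mul]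
    have htr := transfer_eq_pow_index ϕ (x ^ m) huH key
    have hVu : V (x ^ m) = 1 := by rw [map_pow, hVx, one_pow]
    have h0 : ϕ ⟨x ^ m, huH⟩ ^ H.index = 1 := by rw [← htr]; exact hVu
    have h1 : ϕ ⟨x ^ m, huH⟩ = 1 :=
      eq_one_of_pow_eq_one_of_coprime (hpgrp _) hidx h0
    have h2 : ϕ ⟨x, hxH⟩ ^ m = 1 := by
      rw [← map_pow]; exact h1
    have h3 : ϕ ⟨x, hxH⟩ = 1 := eq_one_of_pow_eq_one_of_coprime (hpgrp _) hmcop h2
    rw [hϕ1] at h3
    exact ⟨⟨x, hxH⟩, h3, rfl⟩
  · -- the easy inclusion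
    refine le_inf ?_ ?_
    · rw [hK, Subgroup.map_sup]
      exact sup_le_sup (map_pResidual_le p H) (map_commutator_le H)
    · rintro _ ⟨y, _, rfl⟩
      exact y.2

end Cfsg.Agent.S1242
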