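import Cfsg.Statements.S1244
import Cfsg.Agent.Lib.Helper55.TransferEval
import Cfsg.Agent.Lib.Helper55.IndexP

set_option autoImplicit false
open Cfsg

namespace Cfsg.Agent.S1244

open Cfsg.Agent.Lib.Helper55

/-- `Ω₁` of a commutative subgroup, as a subgroup of `G`. -/
def omegaTwo {G : Type*} [Group G] (S : Subgroup G) (hS : IsMulCommutative S) : Subgroup G where
  carrier := {x | x ∈ S ∧ x ^ 2 = 1}
  one_mem' := ⟨S.one_mem, one_pow 2⟩
  mul_mem' := by
    rintro a b ⟨ha, ha2⟩ ⟨hb, hb2⟩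
    refine ⟨S.mul_mem ha hb, ?_⟩
    have hc : a * b = b * a := by
      have := hS.is_comm.comm (⟨a, ha⟩ : S) ⟨b, hb⟩
      exact congrArg Subtype.val this
    have hcm : Commute a b := hc
    rw [hcm.mul_pow, ha2, hb2, one_mul]
  inv_mem' := by
    rintro a ⟨ha, ha2⟩
    exact ⟨S.inv_mem ha, by rw [inv_pow, ha2, inv_one]⟩

theorem mem_omegaTwo {G : Type*} [Group G] (S : Subgroup G) (hS : IsMulCommutative S) (x : G) :
    x ∈ omegaTwo S hS ↔ x ∈ S ∧ x ^ 2 = 1 := Iff.rfl

/-- A finite `2`-group of order strictly between `2^(j)` and at most `2^(j+1)` has order `2^(j+1)`. -/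
theorem card_eq_of_lt_of_le {n j : ℕ} (hn : ∃ i, n = 2 ^ i) (h1 : 2 ^ j < n) (h2 : n ≤ 2 ^ (j + 1)) :
    n = 2 ^ (j + 1) := by
  obtain ⟨i, rfl⟩ := hn
  have h3 : j < i := (Nat.pow_lt_pow_iff_right (by norm_num)).mp h1
  have h4 : i ≤ j + 1 := (Nat.pow_le_pow_iff_right (by norm_num)).mp h2
  have : i = j + 1 := by omega
  rw [this]

/-- Let G be a finite group with no subgroup of index 2 whose Sylow 2-subgroup S is commutative, and let R ≤ S be a subgroup whose 2-rank is exactly one less than the 2-rank r of S. Then every involution of S is conjugate, by an element of N_G(S), to an element of R. -/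
theorem result {G : Type*} [Group G] [Finite G] (hG : ∀ H : Subgroup G, H.index ≠ 2) (S : Sylow 2 G) (hS : IsMulCommutative (S : Subgroup G)) (r : ℕ) (hr1 : 1 ≤ r) (hSr : Cfsg.PRankLE 2 r (S : Subgroup G) ∧ ¬ Cfsg.PRankLE 2 (r - 1) (S : Subgroup G)) (R : Subgroup G) (hRS : R ≤ S) (hRr : Cfsg.PRankLE 2 (r - 1) R ∧ (r = 1 ∨ ¬ Cfsg.PRankLE 2 (r - 2) R)) (t : G) (ht : orderOf t = 2) (htS : t ∈ S) : ∃ n ∈ Subgroup.normalizer ((S : Subgroup G) : Set G), n * t * n⁻¹ ∈ R := by
  classical
  by_contra hcon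
  push Not at hcon
  haveI : (S : Subgroup G).FiniteIndex := ⟨Subgroup.index_ne_zero_of_finite⟩
  have hScomm : ∀ a ∈ (S : Subgroup G), ∀ b ∈ (S : Subgroup G), a * b = b * a := by
    intro a ha b hb
    have := hS.is_comm.comm (⟨a, ha⟩ : (S : Subgroup G)) ⟨b, hb⟩
    exact congrArg Subtype.val this
  set E : Subgroup G := omegaTwo (S : Subgroup G) hS with hE
  set F : Subgroup G := E ⊓ R with hF
  have hES : E ≤ S := fun x hx => hx.1
  have hFE : F ≤ E := inf_le_left
  have hFS : F ≤ S := hFE.trans hES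
  have hE2 : ∀ x ∈ E, x ^ 2 = 1 := fun x hx => hx.2
  have htE : t ∈ E := ⟨htS, by rw [← ht]; exact pow_orderOf_eq_one t⟩
  -- E and F are 2-groups
  have hSp : IsPGroup 2 (S : Subgroup G) := S.isPGroup'
  have hEp : IsPGroup 2 E := hSp.to_le hES
  have hFp : IsPGroup 2 F := hSp.to_le hFS
  -- cardinalities
  have hEcard : Nat.card E = 2 ^ r := by
    obtain ⟨r', rfl⟩ : ∃ r', r = r' + 1 := ⟨r - 1, by omega⟩
    apply card_eq_of_lt_of_le hEp.exists_card_eq
    · -- lower bound
      have h := hSr.2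
      unfold Cfsg.PRankLE at h
      push Not at h
      obtain ⟨A, hAc, hA2, hAcard⟩ := h
      have hle : A.map (S : Subgroup G).subtype ≤ E := by
        rintro _ ⟨a, ha, rfl⟩
        refine ⟨a.2, ?_⟩
        have := hA2 a ha
        exact congrArg Subtype.val this
      have hc : Nat.card (A.map (S : Subgroup G).subtype) = Nat.card A :=
        Subgroup.card_map_of_injective (S : Subgroup G).subtype_injective
      have := Subgroup.card_le_of_le hle
      simp only [Nat.add_sub_cancel] at hAcard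
      omega
    · have h := hSr.1 (E.subgroupOf S) ?_ ?_
      · rwa [Nat.card_congr (Subgroup.subgroupOfEquivOfLe hES).toEquiv] at h
      · refine ⟨⟨fun a b => ?_⟩⟩
        apply Subtype.ext
        exact hS.is_comm.comm a.1 b.1
      · intro a ha
        have := hE2 _ (Subgroup.mem_subgroupOf.mp ha)
        exact Subtype.ext this
  have hFR : F ≤ R := inf_le_right
  have hFcard : Nat.card F = 2 ^ (r - 1) := by
    have hup : Nat.card F ≤ 2 ^ (r - 1) := by
      have h := hRr.1 (F.subgroupOf R) ?_ ?_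
      · rwa [Nat.card_congr (Subgroup.subgroupOfEquivOfLe hFR).toEquiv] at h
      · refine ⟨⟨fun a b => ?_⟩⟩
        apply Subtype.ext
        apply Subtype.ext
        exact hScomm _ (hFS (Subgroup.mem_subgroupOf.mp a.2)) _ (hFS (Subgroup.mem_subgroupOf.mp b.2))
      · intro a ha
        have := hE2 _ (hFE (Subgroup.mem_subgroupOf.mp ha))
        exact Subtype.ext this
    rcases Nat.lt_or_ge r 2 with hr2 | hr2
    · have hr : r = 1 := by omega
      subst hr
      simp only [Nat.sub_self, pow_zero] at hup ⊢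
      have : 0 < Nat.card F := Nat.card_pos
      omega
    · obtain ⟨r', rfl⟩ : ∃ r', r = r' + 2 := ⟨r - 2, by omega⟩
      rcases hRr.2 with h | h
      · omega
      · have e1 : r' + 2 - 1 = r' + 1 := by omega
        rw [e1] at hup ⊢
        apply card_eq_of_lt_of_le hFp.exists_card_eq _ hup
        unfold Cfsg.PRankLE at h
        push Not at h
        obtain ⟨A, hAc, hA2, hAcard⟩ := h
        have hle : A.map R.subtype ≤ F := by
          rintro _ ⟨a, ha, rfl⟩
          refine ⟨⟨hRS a.2, ?_⟩, a.2⟩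
          have := hA2 a ha
          exact congrArg Subtype.val this
        have hc : Nat.card (A.map R.subtype) = Nat.card A :=
          Subgroup.card_map_of_injective R.subtype_injective
        have := Subgroup.card_le_of_le hle
        simp only [Nat.add_sub_cancel] at hAcard
        omega
  have hcard2 : Nat.card E = 2 * Nat.card F := by
    rw [hEcard, hFcard, ← pow_succ']
    congr 1
    omega
  -- no N-conjugate of t in F
  have hnoF : ∀ n ∈ Subgroup.normalizer ((S : Subgroup G) : Set G), n * t * n⁻¹ ∉ F := by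
    intro n hn hmem
    exact hcon n hn (hFR hmem)
  have htF : t ∉ F := by
    have := hnoF 1 (Subgroup.one_mem _)
    simpa using this
  -- the quotient S / F
  have hFn : (F.subgroupOf S).Normal := by
    refine ⟨fun n hn g => ?_⟩
    have : g * n * g⁻¹ = n := by
      rw [hS.is_comm.comm g n, mul_assoc, mul_inv_cancel, mul_one]
    rwa [this]
  let instC : CommGroup (↥(S : Subgroup G) ⧸ F.subgroupOf S) :=
    { (inferInstance : Group (↥(S : Subgroup G) ⧸ F.subgroupOf S)) with
      mul_comm := by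
        intro a b
        induction a using QuotientGroup.induction_on with
        | H x =>
          induction b using QuotientGroup.induction_on with
          | H y =>
            rw [← QuotientGroup.mk_mul, ← QuotientGroup.mk_mul, hS.is_comm.comm x y] }
  let ϕ : ↥(S : Subgroup G) →* (↥(S : Subgroup G) ⧸ F.subgroupOf S) :=
    QuotientGroup.mk' (F.subgroupOf S)
  have hϕ1 : ∀ x : (S : Subgroup G), ϕ x = 1 ↔ (x : G) ∈ F := by
    intro x
    show (QuotientGroup.mk' (F.subgroupOf S)) x = 1 ↔ _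
    rw [QuotientGroup.mk'_apply, QuotientGroup.eq_one_iff, Subgroup.mem_subgroupOf]
  have ht2 : t ^ 2 = 1 := by rw [← ht]; exact pow_orderOf_eq_one t
  have hϕt2 : ϕ ⟨t, htS⟩ ^ 2 = 1 := by
    rw [← map_pow, hϕ1]
    simp only [Subgroup.coe_pow]
    rw [ht2]; exact F.one_mem
  have key : ∀ (k : ℕ) (g₀ : G) (hk : g₀⁻¹ * t ^ k * g₀ ∈ (S : Subgroup G)),
      ϕ ⟨g₀⁻¹ * t ^ k * g₀, hk⟩ = ϕ ⟨t, htS⟩ ^ k := by
    intro k g₀ hk
    rcases Nat.even_or_odd' k with ⟨j, hj | hj⟩
    · have e1 : t ^ k = 1 := by rw [hj, pow_mul, ht2, one_pow]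
      have e2 : ϕ ⟨t, htS⟩ ^ k = 1 := by rw [hj, pow_mul, hϕt2, one_pow]
      rw [e2, hϕ1]
      simp only [e1, mul_one, inv_mul_cancel]
      exact F.one_mem
    · have e1 : t ^ k = t := by rw [hj, pow_succ, pow_mul, ht2, one_pow, one_mul]
      have e2 : ϕ ⟨t, htS⟩ ^ k = ϕ ⟨t, htS⟩ := by rw [hj, pow_succ, pow_mul, hϕt2, one_pow, one_mul]
      rw [e2]
      have hk' : g₀⁻¹ * t * g₀ ∈ (S : Subgroup G) := by rwa [e1] at hk
      obtain ⟨n, hn, hnq⟩ := S.conj_eq_normalizer_conj_of_mem t g₀ htS hk'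
      have hninv : n⁻¹ ∈ Subgroup.normalizer ((S : Subgroup G) : Set G) := Subgroup.inv_mem _ hn
      have hnF : g₀⁻¹ * t * g₀ ∉ F := by
        rw [hnq]
        have := hnoF n⁻¹ hninv
        simpa using this
      have hcE : g₀⁻¹ * t * g₀ ∈ E := by
        refine ⟨hk', ?_⟩
        have : (g₀⁻¹ * t * g₀) ^ 2 = g₀⁻¹ * t ^ 2 * g₀ := by
          rw [pow_two, pow_two]; group
        rw [this, ht2]; group
      have hm := mul_inv_mem_of_card_eq_two_mul E F hFE hcard2 hcE htE hnF htF
      rw [← mul_inv_eq_one, ← map_inv, ← map_mul, hϕ1]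
      simpa [e1] using hm
  have htr := transfer_eq_pow_index ϕ t htS key
  -- the index of S is odd
  have hodd : Odd (S : Subgroup G).index := by
    have h2 : ¬ 2 ∣ (S : Subgroup G).index := S.not_dvd_index
    exact Nat.odd_iff.mpr (Nat.two_dvd_ne_zero.mp h2)
  obtain ⟨j, hj⟩ := hodd
  have hVt : MonoidHom.transfer ϕ t = ϕ ⟨t, htS⟩ := by
    rw [htr, hj, pow_succ, pow_mul, hϕt2, one_pow, one_mul]
  have hVne : MonoidHom.transfer ϕ t ≠ 1 := by
    rw [hVt]
    intro h
    rw [hϕ1] at h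
    exact htF h
  -- S / F is a 2-group
  have hQp : IsPGroup 2 (↥(S : Subgroup G) ⧸ F.subgroupOf S) := hSp.to_quotient _
  obtain ⟨H, hH⟩ := exists_index_eq_prime_of_hom hQp (MonoidHom.transfer ϕ) t hVne
  exact hG H hH

end Cfsg.Agent.S1244
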