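import Cfsg.Statements.S1248
import Mathlib
import Cfsg.Agent.S0781
import Cfsg.Agent.S0280
import Cfsg.Agent.S0261
import Cfsg.Agent.Lib.Helper5.UnitarySU2b
-- Template for statement S1248 (row 1248; see /opt/grader/pristine/manifest.json for weights).
-- Copy to Cfsg/Agent/S1248.lean and replace the sorry. The statement below is byte-identical to the frozen
-- statement Cfsg.CfsgFrozen.S1248 (Cfsg/Statements/S1248.lean; the theorem Cfsg.u34_type_sylow_two_structure);
-- the grader kernel-checks Cfsg.Agent.S1248.result against that frozen type. Keep the theorem IN THIS FILE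
-- (a `result` declared elsewhere and merely imported here is not credited); helpers may live anywhere
-- under Cfsg/Agent/.
-- import your own Cfsg.Agent.* helpers here

set_option autoImplicit false
set_option linter.unusedSectionVars false
open Cfsg

namespace Cfsg.Agent.S1248

open scoped commutatorElement

section Model

variable {F : Type*} [Field F] (σ : F →+* F)

/-- the Heisenberg-type coordinate set -/
abbrev HS : Type _ := {p : F × F // p.2 + σ p.2 + p.1 * σ p.1 = 0}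

variable {σ}
variable (hσ2 : ∀ a : F, σ (σ a) = a) (h2 : (2 : F) = 0)
include hσ2 h2

/-- multiplication of coordinates -/
def mulS (p q : HS σ) : HS σ :=
  ⟨(p.1.1 + q.1.1, p.1.2 + q.1.2 + q.1.1 * σ p.1.1), by
    have hp := p.2
    have hq := q.2
    simp only [map_add, map_mul, hσ2] at hp hq ⊢
    linear_combination hp + hq + (q.1.1 * σ p.1.1 + p.1.1 * σ q.1.1) * h2⟩

/-- inverse of coordinates -/
def invS (p : HS σ) : HS σ :=
  ⟨(p.1.1, p.1.2 + p.1.1 * σ p.1.1), by
    have hp := p.2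
    simp only [map_add, map_mul, hσ2] at hp ⊢
    linear_combination hp + (p.1.1 * σ p.1.1) * h2⟩

omit hσ2 h2 in
/-- the zero coordinate -/
def zeroS : HS σ := ⟨(0, 0), by simp⟩

omit hσ2 in
/-- central coordinates -/
def cenS (c : F) (hc : σ c = c) : HS σ := ⟨(0, c), by
  simp only [hc, map_zero, mul_zero, add_zero]
  linear_combination c * h2⟩


end Model

section Facts

variable {F : Type*} [Field F] {σ : F →+* F}
variable (hσ2 : ∀ a : F, σ (σ a) = a) (h2 : (2 : F) = 0) (hθ : ∃ θ : F, σ θ ≠ θ)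
include hσ2 h2 hθ

theorem tr_surj (c : F) (hc : σ c = c) : ∃ β : F, β + σ β = c := by
  obtain ⟨θ, hθ'⟩ := hθ
  have hne : θ + σ θ ≠ 0 := by
    intro h
    apply hθ'
    have : σ θ = -θ := eq_neg_of_add_eq_zero_right h
    rw [this]
    linear_combination (-θ) * h2
  refine ⟨c * θ / (θ + σ θ), ?_⟩
  rw [map_div₀, map_mul, map_add, hσ2, hc, add_comm (σ θ) θ, ← add_div, ← mul_add, mul_div_assoc,
    div_self hne, mul_one]

theorem exists_valid (t : F) : ∃ p : HS σ, p.1.1 = t := by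
  obtain ⟨β, hβ⟩ := tr_surj hσ2 h2 hθ (t * σ t) (by rw [map_mul, hσ2, mul_comm])
  exact ⟨⟨(t, β), by
    show β + σ β + t * σ t = 0
    rw [hβ]
    linear_combination (t * σ t) * h2⟩, rfl⟩

theorem card_fiber [Fintype F] (t : F) :
    Nat.card {β : F // β + σ β + t * σ t = 0} = Nat.card {x : F // σ x = x} := by
  obtain ⟨p, hp⟩ := exists_valid hσ2 h2 hθ t
  have hp2 := p.2
  rw [hp] at hp2
  set β0 := p.1.2 with hβ0
  refine Nat.card_congr ⟨fun β => ⟨β.1 + β0, ?_⟩, fun x => ⟨x.1 + β0, ?_⟩, ?_, ?_⟩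
  · have := β.2
    rw [map_add]
    linear_combination this + hp2 - (β.1 + β0 + t * σ t) * h2
  · have := x.2
    rw [map_add, this]
    linear_combination hp2 + x.1 * h2
  · intro β
    apply Subtype.ext
    show β.1 + β0 + β0 = β.1
    linear_combination β0 * h2
  · intro x
    apply Subtype.ext
    show x.1 + β0 + β0 = x.1
    linear_combination β0 * h2

theorem card_HS [Fintype F] (hfix : Nat.card {x : F // σ x = x} = 4) (hcardF : Nat.card F = 16) :
    Nat.card (HS σ) = 64 := by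
  have e : HS σ ≃ (Σ t : F, {β : F // β + σ β + t * σ t = 0}) :=
    { toFun := fun p => ⟨p.1.1, ⟨p.1.2, p.2⟩⟩
      invFun := fun s => ⟨(s.1, s.2.1), s.2.2⟩
      left_inv := fun p => rfl
      right_inv := fun s => rfl }
  rw [Nat.card_congr e, Nat.card_sigma]
  have : ∀ t : F, Nat.card {β : F // β + σ β + t * σ t = 0} = 4 := fun t => by
    rw [card_fiber hσ2 h2 hθ t, hfix]
  simp only [this]
  rw [Finset.sum_const, Finset.card_univ, ← Nat.card_eq_fintype_card, hcardF]
  rfl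

end Facts

section ModelGroup

variable {F : Type*} [Field F] {σ : F →+* F}
variable (hσ2 : ∀ a : F, σ (σ a) = a) (h2 : (2 : F) = 0) (hθ : ∃ θ : F, σ θ ≠ θ)
variable {G : Type*} [Group G] {φ : HS σ → G}
variable (hbij : Function.Bijective φ)
  (hmul : ∀ p q : HS σ, φ p * φ q = φ (mulS hσ2 h2 p q))

omit [Group G] in
theorem phi_congr {p q : HS σ} (h1 : p.1.1 = q.1.1) (h2' : p.1.2 = q.1.2) : φ p = φ q := by
  congr 1
  exact Subtype.ext (Prod.ext h1 h2')

include hmul

theorem phi_zero : φ zeroS = 1 := by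
  have := hmul zeroS zeroS
  have e : mulS hσ2 h2 zeroS zeroS = (zeroS : HS σ) :=
    Subtype.ext (Prod.ext (by simp [mulS, zeroS]) (by simp [mulS, zeroS]))
  rw [e] at this
  exact mul_eq_left.mp this

theorem phi_inv (p : HS σ) : (φ p)⁻¹ = φ (invS hσ2 h2 p) := by
  rw [inv_eq_iff_mul_eq_one, hmul, ← phi_zero hσ2 h2 hmul]
  apply phi_congr
  · show p.1.1 + p.1.1 = 0
    linear_combination p.1.1 * h2
  · show p.1.2 + (p.1.2 + p.1.1 * σ p.1.1) + p.1.1 * σ p.1.1 = 0
    linear_combination (p.1.2 + p.1.1 * σ p.1.1) * h2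

theorem phi_sq (p : HS σ) :
    φ p ^ 2 = φ (cenS h2 (p.1.1 * σ p.1.1) (by rw [map_mul, hσ2, mul_comm])) := by
  rw [sq, hmul]
  apply phi_congr
  · show p.1.1 + p.1.1 = 0
    linear_combination p.1.1 * h2
  · show p.1.2 + p.1.2 + p.1.1 * σ p.1.1 = p.1.1 * σ p.1.1
    linear_combination p.1.2 * h2

theorem phi_comm (p q : HS σ) :
    ⁅φ p, φ q⁆ = φ (cenS h2 (q.1.1 * σ p.1.1 + p.1.1 * σ q.1.1)
      (by simp only [map_add, map_mul, hσ2]; ring)) := by
  rw [commutatorElement_def, phi_inv hσ2 h2 hmul, phi_inv hσ2 h2 hmul, hmul, hmul, hmul]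
  apply phi_congr
  · show p.1.1 + q.1.1 + p.1.1 + q.1.1 = 0
    linear_combination (p.1.1 + q.1.1) * h2
  · show p.1.2 + q.1.2 + q.1.1 * σ p.1.1 + (p.1.2 + p.1.1 * σ p.1.1) +
      p.1.1 * σ (p.1.1 + q.1.1) + (q.1.2 + q.1.1 * σ q.1.1) + q.1.1 * σ (p.1.1 + q.1.1 + p.1.1) =
      q.1.1 * σ p.1.1 + p.1.1 * σ q.1.1
    simp only [map_add]
    linear_combination (p.1.2 + q.1.2 + p.1.1 * σ p.1.1 + q.1.1 * σ p.1.1 + q.1.1 * σ q.1.1) * h2


include hbij hθ

theorem mem_center_iff (p : HS σ) : φ p ∈ Subgroup.center G ↔ p.1.1 = 0 := by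
  rw [Subgroup.mem_center_iff]
  constructor
  · intro h
    obtain ⟨θ, hθ'⟩ := hθ
    obtain ⟨q1, hq1⟩ := exists_valid hσ2 h2 ⟨θ, hθ'⟩ (1 : F)
    obtain ⟨qθ, hqθ⟩ := exists_valid hσ2 h2 ⟨θ, hθ'⟩ θ
    have e1 := h (φ q1)
    rw [hmul, hmul] at e1
    have e1' := congrArg (fun x : HS σ => x.1.2) (hbij.1 e1)
    have eθ := h (φ qθ)
    rw [hmul, hmul] at eθ
    have eθ' := congrArg (fun x : HS σ => x.1.2) (hbij.1 eθ)
    simp only [mulS, hq1, hqθ, map_one, mul_one, one_mul] at e1' eθ'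
    -- e1' : q1.2 + p.2 + t = p.2 + q1.2 + σ t ; eθ' : qθ.2 + p.2 + t σθ = p.2 + qθ.2 + θ σ t
    have ht : σ p.1.1 = p.1.1 := by linear_combination -e1'
    rw [ht] at eθ'
    have h3 : p.1.1 * (σ θ - θ) = 0 := by linear_combination eθ'
    rcases mul_eq_zero.mp h3 with h4 | h4
    · exact h4
    · exact absurd (sub_eq_zero.mp h4) hθ'
  · intro ht g
    obtain ⟨q, rfl⟩ := hbij.2 g
    rw [hmul, hmul]
    apply phi_congr
    · show q.1.1 + p.1.1 = p.1.1 + q.1.1
      ring
    · show q.1.2 + p.1.2 + p.1.1 * σ q.1.1 = p.1.2 + q.1.2 + q.1.1 * σ p.1.1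
      rw [ht, map_zero]
      ring

theorem model_main [Fintype F] (hfix : Nat.card {x : F // σ x = x} = 4) (hcardF : Nat.card F = 16) :
    Nat.card G = 64 ∧ IsKleinFour (Subgroup.center G) ∧
      Subgroup.center G = Subgroup.closure {x : G | orderOf x = 2} ∧
      Subgroup.center G = commutator G ∧
      Nat.card (G ⧸ Subgroup.center G) = 16 ∧ ∀ x : G ⧸ Subgroup.center G, x ^ 2 = 1 := by
  have hcardG : Nat.card G = 64 := by
    rw [← Nat.card_congr (Equiv.ofBijective φ hbij), card_HS hσ2 h2 hθ hfix hcardF]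
  have hsqc : ∀ z ∈ Subgroup.center G, z ^ 2 = 1 := by
    intro z hz
    obtain ⟨p, rfl⟩ := hbij.2 z
    have ht := (mem_center_iff hσ2 h2 hθ hbij hmul p).mp hz
    rw [phi_sq hσ2 h2 hmul, ← phi_zero hσ2 h2 hmul]
    apply phi_congr
    · rfl
    · show p.1.1 * σ p.1.1 = 0
      rw [ht, zero_mul]
  have hcardZ : Nat.card (Subgroup.center G) = 4 := by
    have hset : (Subgroup.center G : Set G) =
        Set.range (fun x : {x : F // σ x = x} => φ (cenS h2 x.1 x.2)) := by
      ext z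
      constructor
      · intro hz
        obtain ⟨p, rfl⟩ := hbij.2 z
        have ht := (mem_center_iff hσ2 h2 hθ hbij hmul p).mp hz
        have hp := p.2
        rw [ht] at hp
        have hfixp : σ p.1.2 = p.1.2 := by
          simp only [map_zero, mul_zero, add_zero] at hp
          linear_combination hp - p.1.2 * h2
        exact ⟨⟨p.1.2, hfixp⟩, phi_congr ht.symm rfl⟩
      · rintro ⟨x, rfl⟩
        exact (mem_center_iff hσ2 h2 hθ hbij hmul _).mpr rfl
    rw [← SetLike.coe_sort_coe, hset, Nat.card_range_of_injective, hfix]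
    intro x y hxy
    have := congrArg (fun x : HS σ => x.1.2) (hbij.1 hxy)
    exact Subtype.ext this
  refine ⟨hcardG, ?_, ?_, ?_, ?_, ?_⟩
  · refine ⟨hcardZ, ?_⟩
    have hdvd : Monoid.exponent (Subgroup.center G) ∣ 2 :=
      Monoid.exponent_dvd_of_forall_pow_eq_one (fun z => by
        apply Subtype.ext
        rw [Subgroup.coe_pow]
        exact hsqc z.1 z.2)
    rcases (Nat.dvd_prime Nat.prime_two).mp hdvd with h | h
    · exfalso
      have hsub : Subsingleton (Subgroup.center G) := Monoid.exp_eq_one_iff.mp h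
      have := Nat.card_eq_one_iff_unique.mpr ⟨hsub, ⟨1⟩⟩
      omega
    · exact h
  · apply le_antisymm
    · intro z hz
      by_cases hz1 : z = 1
      · rw [hz1]; exact one_mem _
      · apply Subgroup.subset_closure
        exact orderOf_eq_prime (hsqc z hz) hz1
    · rw [Subgroup.closure_le]
      intro x hx
      obtain ⟨p, rfl⟩ := hbij.2 x
      have hx2 : φ p ^ 2 = 1 := by
        have := pow_orderOf_eq_one (φ p)
        rwa [hx] at this
      rw [phi_sq hσ2 h2 hmul, ← phi_zero hσ2 h2 hmul] at hx2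
      have := congrArg (fun x : HS σ => x.1.2) (hbij.1 hx2)
      have ht : p.1.1 * σ p.1.1 = 0 := this
      have ht0 : p.1.1 = 0 := by
        rcases mul_eq_zero.mp ht with h | h
        · exact h
        · exact (map_eq_zero σ).mp h
      exact (mem_center_iff hσ2 h2 hθ hbij hmul p).mpr ht0
  · apply le_antisymm
    · intro z hz
      obtain ⟨p, rfl⟩ := hbij.2 z
      have ht := (mem_center_iff hσ2 h2 hθ hbij hmul p).mp hz
      have hp := p.2
      rw [ht] at hp
      have hfixp : σ p.1.2 = p.1.2 := by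
        simp only [map_zero, mul_zero, add_zero] at hp
        linear_combination hp - p.1.2 * h2
      obtain ⟨τ, hτ⟩ := tr_surj hσ2 h2 hθ p.1.2 hfixp
      obtain ⟨q1, hq1⟩ := exists_valid hσ2 h2 hθ (1 : F)
      obtain ⟨qτ, hqτ⟩ := exists_valid hσ2 h2 hθ τ
      have hcomm : φ p = ⁅φ q1, φ qτ⁆ := by
        rw [phi_comm hσ2 h2 hmul]
        apply phi_congr
        · exact ht
        · show p.1.2 = qτ.1.1 * σ q1.1.1 + q1.1.1 * σ qτ.1.1
          rw [hq1, hqτ, map_one, mul_one, one_mul, hτ]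
      rw [hcomm, commutator_def]
      exact Subgroup.commutator_mem_commutator (Subgroup.mem_top _) (Subgroup.mem_top _)
    · rw [commutator_def, Subgroup.commutator_le]
      intro g _ h _
      obtain ⟨p, rfl⟩ := hbij.2 g
      obtain ⟨q, rfl⟩ := hbij.2 h
      rw [phi_comm hσ2 h2 hmul]
      exact (mem_center_iff hσ2 h2 hθ hbij hmul _).mpr rfl
  · have h1 := Subgroup.card_eq_card_quotient_mul_card_subgroup (Subgroup.center G)
    rw [hcardG, hcardZ] at h1
    omega
  · intro x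
    induction x using QuotientGroup.induction_on with
    | H g =>
      rw [← QuotientGroup.mk_pow, QuotientGroup.eq_one_iff]
      obtain ⟨p, rfl⟩ := hbij.2 g
      rw [phi_sq hσ2 h2 hmul]
      exact (mem_center_iff hσ2 h2 hθ hbij hmul _).mpr rfl

end ModelGroup

section Concrete

open Matrix Cfsg.Agent.S0837 Cfsg.Agent.S0781 Cfsg.Agent.Lib.Helper5

variable {F : Type*} [Field F] (σ : F →+* F)

/-- the isotropic vector `(1,1,0)` -/
def vv : Fin 3 → F := ![1, 1, 0]

/-- the vectors `(0,0,t)` -/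
def uu (t : F) : Fin 3 → F := ![0, 0, t]

theorem hf_vv (h2 : (2 : F) = 0) : hf σ (vv : Fin 3 → F) vv = 0 := by
  simp only [hf, vv, Fin.sum_univ_three]
  simp
  linear_combination h2

theorem hf_uv (t : F) : hf σ (uu t) vv = 0 := by
  simp [hf, vv, uu, Fin.sum_univ_three]

theorem hf_uu (s t : F) : hf σ (uu s) (uu t) = s * σ t := by
  simp [hf, uu, Fin.sum_univ_three]

theorem uu_add (s t : F) : uu s + uu t = uu (s + t) := by
  ext i
  fin_cases i <;> simp [uu]


variable {σ}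
variable (hσ2 : ∀ a : F, σ (σ a) = a) (h2 : (2 : F) = 0) (hσ : ∀ x : F, σ x = x ^ 4)

/-- the Siegel element with coordinates `p` -/
noncomputable def EE (p : HS σ) : SU 3 F 4 :=
  SUofPreserves (sieg σ vv (uu p.1.1) p.1.2)
    (sieg_det σ hσ2 vv (uu p.1.1) p.1.2 (hf_vv σ h2) (hf_uv σ _))
    (fun u v => by
      rw [hermForm_eq_hf σ hσ, hermForm_eq_hf σ hσ]
      exact sieg_preserves σ hσ2 vv (uu p.1.1) p.1.2 (hf_vv σ h2) (hf_uv σ _)
        (by rw [hf_uu]; exact p.2) u v)

theorem EE_coe (p : HS σ) :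
    ((EE hσ2 h2 hσ p : SU 3 F 4) : Matrix.SpecialLinearGroup (Fin 3) F).1 =
      sieg σ vv (uu p.1.1) p.1.2 := rfl

theorem EE_mul (p q : HS σ) : EE hσ2 h2 hσ p * EE hσ2 h2 hσ q = EE hσ2 h2 hσ (mulS hσ2 h2 p q) := by
  apply Subtype.ext
  apply Subtype.ext
  show sieg σ vv (uu p.1.1) p.1.2 * sieg σ vv (uu q.1.1) q.1.2 =
    sieg σ vv (uu (p.1.1 + q.1.1)) (p.1.2 + q.1.2 + q.1.1 * σ p.1.1)
  rw [sieg_mul σ hσ2 vv _ _ _ _ (hf_vv σ h2) (hf_uv σ _) (hf_uv σ _), uu_add, hf_uu]
  congr 1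
  linear_combination (-(q.1.1 * σ p.1.1)) * h2

omit hσ2 h2 hσ in
theorem sieg_apply {n : ℕ} (v u : Fin n → F) (β : F) (i j : Fin n) :
    sieg σ v u β i j = (1 : Matrix (Fin n) (Fin n) F) i j + (u i + β * v i) * σ (v j) - v i * σ (u j) := by
  simp [sieg, vecMulVec_apply]

theorem EE_inj : Function.Injective (EE hσ2 h2 hσ) := by
  intro p q h
  have hm : sieg σ vv (uu p.1.1) p.1.2 = sieg σ vv (uu q.1.1) q.1.2 :=
    congrArg (fun x : SU 3 F 4 => (x : Matrix.SpecialLinearGroup (Fin 3) F).1) h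
  have h20 := congrFun (congrFun hm 2) 0
  have h01 := congrFun (congrFun hm 0) 1
  rw [sieg_apply, sieg_apply] at h20 h01
  simp [vv, uu] at h20 h01
  exact Subtype.ext (Prod.ext h20 h01)


theorem EE_zero : EE hσ2 h2 hσ zeroS = 1 := by
  have := EE_mul hσ2 h2 hσ zeroS zeroS
  have e : mulS hσ2 h2 zeroS zeroS = (zeroS : HS σ) :=
    Subtype.ext (Prod.ext (by simp [mulS, zeroS]) (by simp [mulS, zeroS]))
  rw [e] at this
  exact mul_eq_left.mp this

theorem EE_inv (p : HS σ) : (EE hσ2 h2 hσ p)⁻¹ = EE hσ2 h2 hσ (invS hσ2 h2 p) := by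
  rw [inv_eq_iff_mul_eq_one, EE_mul, ← EE_zero hσ2 h2 hσ]
  congr 1
  apply Subtype.ext
  apply Prod.ext
  · show p.1.1 + p.1.1 = 0
    linear_combination p.1.1 * h2
  · show p.1.2 + (p.1.2 + p.1.1 * σ p.1.1) + p.1.1 * σ p.1.1 = 0
    linear_combination (p.1.2 + p.1.1 * σ p.1.1) * h2

/-- the subgroup of Siegel elements -/
noncomputable def TT : Subgroup (SU 3 F 4) where
  carrier := Set.range (EE hσ2 h2 hσ)
  mul_mem' := by
    rintro _ _ ⟨p, rfl⟩ ⟨q, rfl⟩
    exact ⟨_, (EE_mul hσ2 h2 hσ p q).symm⟩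
  one_mem' := ⟨zeroS, EE_zero hσ2 h2 hσ⟩
  inv_mem' := by
    rintro _ ⟨p, rfl⟩
    exact ⟨_, (EE_inv hσ2 h2 hσ p).symm⟩

end Concrete

/-- Let F be a field with 16 elements and S a Sylow 2-subgroup of PSU(3) over F (the unitary group U₃(4)). Then |S| = 64; the centre Z(S) is a Klein four-group and coincides with the subgroup generated by the involutions of S and with the derived subgroup; and every element of S ⧸ Z(S) squares to the identity, S ⧸ Z(S) having order 16. -/
theorem result {F : Type*} [Field F] [Fintype F] (hF : Fintype.card F = 16) (S : Sylow 2 (Cfsg.PSU 3 F 4)) : Nat.card S = 64 ∧ IsKleinFour (Subgroup.center (S : Subgroup (Cfsg.PSU 3 F 4))) ∧ Subgroup.center (S : Subgroup (Cfsg.PSU 3 F 4)) = Subgroup.closure {x : (S : Subgroup (Cfsg.PSU 3 F 4)) | orderOf x = 2} ∧ Subgroup.center (S : Subgroup (Cfsg.PSU 3 F 4)) = commutator (S : Subgroup (Cfsg.PSU 3 F 4)) ∧ Nat.card ((S : Subgroup (Cfsg.PSU 3 F 4)) ⧸ Subgroup.center (S : Subgroup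 (Cfsg.PSU 3 F 4))) = 16 ∧ ∀ x : (S : Subgroup (Cfsg.PSU 3 F 4)) ⧸ Subgroup.center (S : Subgroup (Cfsg.PSU 3 F 4)), x ^ 2 = 1 := by
  open Cfsg.Agent.Lib.Helper5 in
  have hF' : Fintype.card F = 4 ^ 2 := by rw [hF]; norm_num
  set σ : F →+* F := conjHom hF' with hσdef
  have hσ : ∀ x : F, σ x = x ^ 4 := fun x => rfl
  have hσ2 : ∀ a : F, σ (σ a) = a := conjHom_conjHom hF'
  have h2 : (2 : F) = 0 := by
    obtain ⟨p, k, hp, hchar, hk⟩ := exists_prime_pow_eq hF'
    have hp2 : p = 2 := by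
      have hdvd : p ∣ 2 ^ 2 := by
        have : (4 : ℕ) = 2 ^ 2 := by norm_num
        rw [← this, hk]
        have hk0 : k ≠ 0 := by
          rintro rfl
          simp at hk
        exact dvd_pow_self p hk0
      exact (Nat.prime_dvd_prime_iff_eq hp Nat.prime_two).mp (hp.dvd_of_dvd_pow hdvd)
    subst hp2
    exact_mod_cast CharP.cast_eq_zero F 2
  have hθ : ∃ θ : F, σ θ ≠ θ := exists_pow_q_ne hF'
  have hfix : Nat.card {x : F // σ x = x} = 4 := card_fixed hF'
  have hcardF : Nat.card F = 16 := by rw [Nat.card_eq_fintype_card, hF]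
  -- the centre of `SU` is trivial
  have hZ : Subgroup.center (SU 3 F 4) = ⊥ := by
    apply Subgroup.eq_bot_of_card_eq
    rw [card_center_SU hF' (by norm_num)]
    rfl
  set π : SU 3 F 4 →* PSU 3 F 4 := QuotientGroup.mk' (Subgroup.center (SU 3 F 4)) with hπ
  have hπinj : Function.Injective π := by
    rw [← MonoidHom.ker_eq_bot_iff, hπ, QuotientGroup.ker_mk', hZ]
  set T : Subgroup (PSU 3 F 4) := (TT hσ2 h2 hσ).map π with hT
  let ψ : HS σ → T := fun p => ⟨π (EE hσ2 h2 hσ p), Subgroup.mem_map_of_mem π ⟨p, rfl⟩⟩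
  have hψbij : Function.Bijective ψ := by
    constructor
    · intro p q h
      have : π (EE hσ2 h2 hσ p) = π (EE hσ2 h2 hσ q) := congrArg Subtype.val h
      exact EE_inj hσ2 h2 hσ (hπinj this)
    · rintro ⟨y, x, ⟨p, rfl⟩, rfl⟩
      exact ⟨p, rfl⟩
  have hψmul : ∀ p q : HS σ, ψ p * ψ q = ψ (mulS hσ2 h2 p q) := by
    intro p q
    apply Subtype.ext
    show π (EE hσ2 h2 hσ p) * π (EE hσ2 h2 hσ q) = π (EE hσ2 h2 hσ (mulS hσ2 h2 p q))
    rw [← map_mul, EE_mul]
  have hcardT : Nat.card T = 2 ^ 6 := by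
    rw [← Nat.card_congr (Equiv.ofBijective ψ hψbij), card_HS hσ2 h2 hθ hfix hcardF]
    norm_num
  have hcardG : Nat.card (PSU 3 F 4) = 2 ^ 6 * 975 := by
    have h := Cfsg.Agent.S0280.result hF' 3 (by norm_num)
    simp only [Finset.prod_range_succ, Finset.prod_range_zero] at h
    norm_num at h
    omega
  obtain ⟨e⟩ := Cfsg.Agent.S0261.sylow_equiv_of_card 2 T 6 975 hcardT hcardG (by norm_num) S
  let φ : HS σ → (S : Subgroup (PSU 3 F 4)) := fun p => e.symm (ψ p)
  have hφbij : Function.Bijective φ := e.symm.bijective.comp hψbij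
  have hφmul : ∀ p q : HS σ, φ p * φ q = φ (mulS hσ2 h2 p q) := by
    intro p q
    show e.symm (ψ p) * e.symm (ψ q) = e.symm (ψ (mulS hσ2 h2 p q))
    rw [← map_mul, hψmul]
  exact model_main hσ2 h2 hθ hφbij hφmul hfix hcardF

end Cfsg.Agent.S1248
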