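import Cfsg.Statements.S1249

set_option autoImplicit false
open Cfsg
open scoped Pointwise

namespace Cfsg.Agent.S1249

/-- Let P and Q be Sylow p-subgroups of the finite group G both containing the subgroup A. If A is strongly closed in P, then A is strongly closed in Q. -/
theorem result {G : Type*} [Group G] [Finite G] {p : ℕ} [Fact p.Prime] (P Q : Sylow p G) (A : Subgroup G) (hAQ : A ≤ Q) (hA : Cfsg.IsStronglyClosed A (P : Subgroup G)) : Cfsg.IsStronglyClosed A (Q : Subgroup G) := by
  obtain ⟨hAP, hcl⟩ := hA
  refine ⟨hAQ, ?_⟩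
  obtain ⟨h, hh⟩ := MulAction.exists_smul_eq G Q P
  -- h • Q = P
  have hmem : ∀ y : G, y ∈ (Q : Subgroup G) → h * y * h⁻¹ ∈ (P : Subgroup G) := by
    intro y hy
    rw [← hh]
    have : h * y * h⁻¹ ∈ (MulAut.conj h • (Q : Subgroup G)) := by
      rw [Subgroup.mem_pointwise_smul_iff_inv_smul_mem]
      simpa [MulAut.smul_def, mul_assoc] using hy
    exact this
  -- conjugation by h maps A into A
  have hconj : ∀ a ∈ A, h * a * h⁻¹ ∈ A := fun a ha => hcl a ha h (hmem a (hAQ ha))
  -- hence, by finiteness, conjugation by h⁻¹ maps A into A as well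
  have hconj' : ∀ a ∈ A, h⁻¹ * a * h ∈ A := by
    intro a ha
    let f : A → A := fun a => ⟨h * a * h⁻¹, hconj a a.2⟩
    have hf : Function.Injective f := by
      intro a b hab
      have := congrArg Subtype.val hab
      simp only [f] at this
      apply Subtype.ext
      simpa using this
    have hs : Function.Surjective f := Finite.surjective_of_injective hf
    obtain ⟨b, hb⟩ := hs ⟨a, ha⟩
    have hb' : h * b * h⁻¹ = a := congrArg Subtype.val hb
    rw [← hb']
    simp [mul_assoc]
  intro x hx g hg
  have h1 : (h * g) * x * (h * g)⁻¹ ∈ A := by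
    apply hcl x hx
    have := hmem _ hg
    simpa [mul_assoc] using this
  have h2 := hconj' _ h1
  simpa [mul_assoc] using h2

end Cfsg.Agent.S1249
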