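import Cfsg.Statements.S1250

set_option autoImplicit false
open Cfsg
open scoped Pointwise

namespace Cfsg.Agent.S1250

/-- A `p`-element of `S N` is `N`-conjugate into the Sylow subgroup `S`. -/
theorem exists_conj_mem_sylow {G : Type*} [Group G] [Finite G] {p : ℕ} [Fact p.Prime] (S : Sylow p G)
    (N : Subgroup G) [N.Normal] (y : G) (hy : y ∈ (S : Subgroup G) ⊔ N)
    (hyp : IsPGroup p (Subgroup.zpowers y)) : ∃ n ∈ N, n * y * n⁻¹ ∈ (S : Subgroup G) := by
  set K : Subgroup G := (S : Subgroup G) ⊔ N with hK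
  have hSK : (S : Subgroup G) ≤ K := le_sup_left
  let S' : Sylow p K := S.subtype hSK
  let Y : Subgroup K := Subgroup.zpowers (⟨y, hy⟩ : K)
  have hY : IsPGroup p Y := by
    have : Y.map K.subtype = Subgroup.zpowers y := by
      simp [Y, MonoidHom.map_zpowers]
    have h2 : IsPGroup p (Y.map K.subtype) := by rw [this]; exact hyp
    exact h2.of_equiv (Subgroup.equivMapOfInjective Y K.subtype K.subtype_injective).symm
  obtain ⟨Q, hQ⟩ := hY.exists_le_sylow
  obtain ⟨k, hk⟩ := MulAction.exists_smul_eq K Q S'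
  have hyQ : (⟨y, hy⟩ : K) ∈ (Q : Subgroup K) := hQ (Subgroup.mem_zpowers _)
  have h1 : k * ⟨y, hy⟩ * k⁻¹ ∈ (S' : Subgroup K) := by
    rw [← hk]
    have : k * ⟨y, hy⟩ * k⁻¹ ∈ (MulAut.conj k • (Q : Subgroup K)) := by
      rw [Subgroup.mem_pointwise_smul_iff_inv_smul_mem]
      simpa [MulAut.smul_def, mul_assoc] using hyQ
    exact this
  have h2 : (k : G) * y * (k : G)⁻¹ ∈ (S : Subgroup G) := by
    have h1' : k * ⟨y, hy⟩ * k⁻¹ ∈ (S : Subgroup G).subgroupOf K := by
      rw [← Sylow.coe_subtype]; exact h1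
    simpa [Subgroup.mem_subgroupOf] using h1'
  have hkK : (k : G) ∈ (S : Subgroup G) ⊔ N := k.2
  have hkK' : (k : G) ∈ ((S : Subgroup G) : Set G) * (N : Set G) := by
    rw [← Subgroup.mul_normal]; exact hkK
  obtain ⟨s, hs, n, hn, hsn⟩ := Set.mem_mul.mp hkK'
  refine ⟨n, hn, ?_⟩
  have h3 : s⁻¹ * ((k : G) * y * (k : G)⁻¹) * s ∈ (S : Subgroup G) :=
    mul_mem (mul_mem (inv_mem hs) h2) hs
  rw [← hsn] at h3
  simpa [mul_assoc] using h3

/-- Let S be a Sylow p-subgroup of the finite group G, A ≤ S strongly closed in S, and N a normal subgroup. Then the image of A in G ⧸ N is strongly closed in the image of S (which is a Sylow p-subgroup of G ⧸ N). -/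
theorem result {G : Type*} [Group G] [Finite G] {p : ℕ} [Fact p.Prime] (S : Sylow p G) (A : Subgroup G) (hA : Cfsg.IsStronglyClosed A (S : Subgroup G)) (N : Subgroup G) [N.Normal] : Cfsg.IsStronglyClosed (A.map (QuotientGroup.mk' N)) ((S : Subgroup G).map (QuotientGroup.mk' N)) := by
  obtain ⟨hAS, hcl⟩ := hA
  refine ⟨Subgroup.map_mono hAS, ?_⟩
  intro xbar hxbar gbar hg
  obtain ⟨a, ha, rfl⟩ := hxbar
  obtain ⟨g, rfl⟩ := QuotientGroup.mk'_surjective N gbar
  obtain ⟨s, hs, hsg⟩ := hg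
  -- g a g⁻¹ ∈ S N
  have hy : g * a * g⁻¹ ∈ (S : Subgroup G) ⊔ N := by
    have h1 : s⁻¹ * (g * a * g⁻¹) ∈ N := by
      rw [← QuotientGroup.eq]
      simpa using hsg
    have : g * a * g⁻¹ = s * (s⁻¹ * (g * a * g⁻¹)) := by group
    rw [this]
    exact Subgroup.mul_mem_sup hs h1
  have hyp : IsPGroup p (Subgroup.zpowers (g * a * g⁻¹)) := by
    have haS : IsPGroup p (Subgroup.zpowers a) :=
      S.isPGroup'.to_le ((Subgroup.zpowers_le).mpr (hAS ha))
    have : Subgroup.zpowers (g * a * g⁻¹) = (Subgroup.zpowers a).map (MulAut.conj g).toMonoidHom := by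
      rw [MonoidHom.map_zpowers]; simp
    rw [this]
    exact haS.map _
  obtain ⟨n, hn, hns⟩ := exists_conj_mem_sylow S N _ hy hyp
  have h4 : (n * g) * a * (n * g)⁻¹ ∈ A := by
    apply hcl a ha
    simpa [mul_assoc] using hns
  refine ⟨(n * g) * a * (n * g)⁻¹, h4, ?_⟩
  have hn1 : (QuotientGroup.mk' N) n = 1 := by
    simpa using hn
  simp only [map_mul, map_inv, hn1, one_mul, mul_inv_rev, inv_one, mul_one]

end Cfsg.Agent.S1250
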