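import Cfsg.Statements.S1254
import Mathlib
import Cfsg.Agent.S0071
import Cfsg.Agent.Lib.Helper91.DihedralSub
import Cfsg.Agent.Lib.Helper91.MaxClass2

set_option autoImplicit false
open Cfsg

namespace Cfsg.Agent.S1254

open Cfsg.Agent.Lib.Helper91

variable {X : Type*} [Group X]

/-- If `g` (of odd order) acts on `Q` as the 2-element `s` does, then `g` centralizes `Q`. -/
theorem centralizes_of_agrees (Q : Subgroup X) (g s : X) (j m : ℕ) (hs : s ^ (2 ^ j) = 1)
    (hm : Odd m) (hgm : g ^ m = 1) (hsQ : ∀ q ∈ Q, s * q * s⁻¹ ∈ Q)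
    (hgs : ∀ q ∈ Q, g * q * g⁻¹ = s * q * s⁻¹) : ∀ q ∈ Q, g * q * g⁻¹ = q := by
  have hpow : ∀ n : ℕ, ∀ q ∈ Q, g ^ n * q * (g ^ n)⁻¹ = s ^ n * q * (s ^ n)⁻¹ ∧
      s ^ n * q * (s ^ n)⁻¹ ∈ Q := by
    intro n
    induction n with
    | zero => intro q hq; simp [hq]
    | succ n ih =>
      intro q hq
      obtain ⟨h1, h2⟩ := ih q hq
      have e1 : g ^ (n+1) * q * (g ^ (n+1))⁻¹ = g * (g ^ n * q * (g ^ n)⁻¹) * g⁻¹ := by
        rw [pow_succ']; group
      have e2 : s ^ (n+1) * q * (s ^ (n+1))⁻¹ = s * (s ^ n * q * (s ^ n)⁻¹) * s⁻¹ := by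
        rw [pow_succ']; group
      rw [e1, e2, h1, hgs _ h2]
      exact ⟨rfl, hsQ _ h2⟩
  intro q hq
  have h1 := (hpow (2 ^ j) q hq).1
  rw [hs] at h1
  simp only [one_mul, inv_one, mul_one] at h1
  have hcomm : Commute (g ^ (2 ^ j)) q := by
    have : g ^ (2 ^ j) * q = q * g ^ (2 ^ j) := by
      calc g ^ (2 ^ j) * q = (g ^ (2 ^ j) * q * (g ^ (2 ^ j))⁻¹) * g ^ (2 ^ j) := by group
        _ = q * g ^ (2 ^ j) := by rw [h1]
    exact this
  have hcop : (2 ^ j).Coprime (orderOf g) := by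
    have hdvd : orderOf g ∣ m := orderOf_dvd_of_pow_eq_one hgm
    have hodd : Odd (orderOf g) := hm.of_dvd_nat hdvd
    exact Nat.Coprime.pow_left j hodd.coprime_two_left
  obtain ⟨k, hk⟩ := exists_pow_eq_self_of_coprime hcop
  have hc : Commute g q := by rw [← hk]; exact hcomm.pow_left k
  rw [hc.eq]; group

/-- A subgroup of exponent two with a "half" subgroup `zpowers c` has at most two elements,
or is a Klein four-group. -/
theorem klein_or_small [Finite X] (Q : Subgroup X) (hsq : ∀ q ∈ Q, q * q = 1) (c : X) (hc : c ∈ Q)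
    (hhalf : ∀ a ∈ Q, ∀ b ∈ Q, a ∉ Subgroup.zpowers c → b ∉ Subgroup.zpowers c →
      a * b ∈ Subgroup.zpowers c) :
    Nat.card Q ≤ 2 ∨ IsKleinFour Q := by
  have hcQ : Subgroup.zpowers c ≤ Q := Subgroup.zpowers_le.mpr hc
  have hcard : Nat.card Q = Nat.card (Subgroup.zpowers c) * (Subgroup.zpowers c).relIndex Q := by
    have := Subgroup.card_mul_index ((Subgroup.zpowers c).subgroupOf Q)
    rw [card_subgroupOf_of_le hcQ] at this
    exact this.symm
  have hc2 : Nat.card (Subgroup.zpowers c) ≤ 2 := by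
    rw [Nat.card_zpowers]
    apply Nat.le_of_dvd (by norm_num)
    apply orderOf_dvd_of_pow_eq_one
    rw [pow_two]; exact hsq c hc
  have hc0 : 0 < Nat.card (Subgroup.zpowers c) := Nat.card_pos
  have hrel : (Subgroup.zpowers c).relIndex Q = 1 ∨ (Subgroup.zpowers c).relIndex Q = 2 := by
    by_cases hle : Q ≤ Subgroup.zpowers c
    · left; exact Subgroup.relIndex_eq_one.mpr hle
    · right
      rw [SetLike.not_le_iff_exists] at hle
      obtain ⟨a, haQ, hac⟩ := hle
      rw [Subgroup.relIndex_eq_two_iff_exists_notMem_and']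
      refine ⟨a, haQ, hac, ?_⟩
      intro b hb
      by_cases hbc : b ∈ Subgroup.zpowers c
      · right; exact hbc
      · left; exact hhalf a haQ b hb hac hbc
  have hexp : ∀ q : Q, q ^ 2 = 1 := by
    intro q
    apply Subtype.ext
    rw [pow_two]
    exact hsq q q.2
  have hcases : Nat.card Q ≤ 2 ∨ Nat.card Q = 4 := by
    rcases hrel with h | h
    · left; rw [hcard, h]; omega
    · rw [hcard, h]
      interval_cases (Nat.card (Subgroup.zpowers c)) <;> simp
  rcases hcases with h | h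
  · left; exact h
  · right
    refine ⟨h, ?_⟩
    have hdvd : Monoid.exponent Q ∣ 2 := Monoid.exponent_dvd_of_forall_pow_eq_one hexp
    have hne1 : Monoid.exponent Q ≠ 1 := by
      intro h1
      rw [Monoid.exp_eq_one_iff] at h1
      have : Nat.card Q = 1 := Nat.card_eq_one_iff_unique.mpr ⟨h1, ⟨1⟩⟩
      omega
    have := (Nat.dvd_prime Nat.prime_two).mp hdvd
    tauto

/-- A normalizing element centralizes a subgroup with at most two elements. -/
theorem centralizes_of_card_le_two [Finite X] (Q : Subgroup X) (hQ : Nat.card Q ≤ 2) (g : X)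
    (hgQ : ∀ q ∈ Q, g * q * g⁻¹ ∈ Q) : ∀ q ∈ Q, g * q * g⁻¹ = q := by
  intro q hq
  by_contra hne
  have hq1 : q ≠ 1 := by
    rintro rfl
    apply hne; group
  have hgq1 : g * q * g⁻¹ ≠ 1 := by
    intro h
    apply hq1
    have : q = g⁻¹ * (g * q * g⁻¹) * g := by group
    rw [this, h]; group
  have h3 : 3 ≤ Nat.card Q := by
    classical
    have hfin : Fintype Q := Fintype.ofFinite Q
    have : ({⟨1, Q.one_mem⟩, ⟨q, hq⟩, ⟨g * q * g⁻¹, hgQ q hq⟩} : Finset Q).card = 3 := by
      rw [Finset.card_eq_three]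
      refine ⟨_, _, _, ?_, ?_, ?_, rfl⟩
      · intro h; exact hq1 (congrArg Subtype.val h).symm
      · intro h; exact hgq1 (congrArg Subtype.val h).symm
      · intro h; exact hne (congrArg Subtype.val h).symm
    rw [← this, Nat.card_eq_fintype_card]
    exact Finset.card_le_univ _
  omega

/-- Elements of `N(Q)` acting on `Q` like some element of `A ≤ N(Q)`. -/
def actsLike (Q A : Subgroup X) (hA : A ≤ Subgroup.normalizer (Q : Set X)) : Subgroup X where
  carrier := {x | x ∈ Subgroup.normalizer (Q : Set X) ∧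
    ∃ s ∈ A, ∀ q ∈ Q, x * q * x⁻¹ = s * q * s⁻¹}
  one_mem' := ⟨Subgroup.one_mem _, 1, A.one_mem, fun q _ => rfl⟩
  mul_mem' := by
    rintro x y ⟨hx, s, hs, hxs⟩ ⟨hy, t, ht, hyt⟩
    refine ⟨Subgroup.mul_mem _ hx hy, s * t, A.mul_mem hs ht, ?_⟩
    intro q hq
    have h1 : t * q * t⁻¹ ∈ Q := (Subgroup.mem_normalizer_iff.mp (hA ht) q).mp hq
    calc x * y * q * (x * y)⁻¹ = x * (y * q * y⁻¹) * x⁻¹ := by group
      _ = x * (t * q * t⁻¹) * x⁻¹ := by rw [hyt q hq]
      _ = s * (t * q * t⁻¹) * s⁻¹ := hxs _ h1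
      _ = s * t * q * (s * t)⁻¹ := by group
  inv_mem' := by
    rintro x ⟨hx, s, hs, hxs⟩
    refine ⟨Subgroup.inv_mem _ hx, s⁻¹, A.inv_mem hs, ?_⟩
    intro q hq
    have h1 : x⁻¹ * q * x⁻¹⁻¹ ∈ Q :=
      (Subgroup.mem_normalizer_iff.mp (Subgroup.inv_mem _ hx) q).mp hq
    have h2 := hxs _ h1
    have h3 : q = s * (x⁻¹ * q * x⁻¹⁻¹) * s⁻¹ := by rw [← h2]; group
    calc x⁻¹ * q * x⁻¹⁻¹ = s⁻¹ * (s * (x⁻¹ * q * x⁻¹⁻¹) * s⁻¹) * s⁻¹⁻¹ := by group
      _ = s⁻¹ * q * s⁻¹⁻¹ := by rw [← h3]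

/-- Let X be a finite group whose Sylow 2-subgroup S is dihedral (of order at least 4). Then X has a normal 2-complement if and only if, for every Klein four-subgroup U ≤ S, the normalizer N_X(U) is generated by C_X(U) and N_S(U). -/
theorem result {X : Type*} [Group X] [Finite X] (S : Sylow 2 X) (m : ℕ) (hm : 2 ≤ m) (eS : (S : Subgroup X) ≃* DihedralGroup m) : Cfsg.HasNormalPComplement 2 X ↔ ∀ U : Subgroup X, U ≤ S → IsKleinFour U → Subgroup.normalizer (U : Set X) = Subgroup.centralizer (U : Set X) ⊔ ((S : Subgroup X) ⊓ Subgroup.normalizer (U : Set X)) := by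
  have hf2 : Fact (Nat.Prime 2) := ⟨Nat.prime_two⟩
  have hne : NeZero m := ⟨by omega⟩
  constructor
  · rintro ⟨P, K, hKn, hKP⟩ U hUS hU4
    have hKS : K.IsComplement' (S : Subgroup X) := by
      apply Subgroup.isComplement'_of_coprime
      · rw [← hKP.card_mul_card, Sylow.card_eq_multiplicity, Sylow.card_eq_multiplicity]
      · have h1 : Nat.card K = (P : Subgroup X).index := hKP.index_eq_card.symm
        rw [h1, Sylow.card_eq_multiplicity]
        apply Nat.Coprime.pow_right
        rw [Nat.coprime_comm, Nat.Prime.coprime_iff_not_dvd Nat.prime_two]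
        exact P.not_dvd_index
    have hdisj : K ⊓ (S : Subgroup X) = ⊥ := hKS.disjoint.eq_bot
    have hkey : ∀ k ∈ K, ∀ v ∈ (S : Subgroup X), k * v * k⁻¹ ∈ (S : Subgroup X) →
        k * v * k⁻¹ = v := by
      intro k hk v hv hkv
      have h1 : k * v * k⁻¹ * v⁻¹ ∈ K := by
        have : k * v * k⁻¹ * v⁻¹ = k * (v * k⁻¹ * v⁻¹) := by group
        rw [this]
        exact K.mul_mem hk (hKn.conj_mem _ (K.inv_mem hk) v)
      have h2 : k * v * k⁻¹ * v⁻¹ ∈ (S : Subgroup X) :=
        Subgroup.mul_mem _ hkv (Subgroup.inv_mem _ hv)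
      have h3 : k * v * k⁻¹ * v⁻¹ ∈ K ⊓ (S : Subgroup X) := ⟨h1, h2⟩
      rw [hdisj, Subgroup.mem_bot] at h3
      calc k * v * k⁻¹ = (k * v * k⁻¹ * v⁻¹) * v := by group
        _ = v := by rw [h3, one_mul]
    apply le_antisymm
    · intro x hx
      obtain ⟨⟨⟨k, hk⟩, ⟨s, hs⟩⟩, hks, -⟩ := hKS.existsUnique x
      simp only at hks
      have hxU : ∀ u ∈ U, x * u * x⁻¹ ∈ U :=
        fun u hu => (Subgroup.mem_normalizer_iff.mp hx u).mp hu
      have hsu : ∀ u ∈ U, s * u * s⁻¹ = x * u * x⁻¹ := by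
        intro u hu
        have hv : s * u * s⁻¹ ∈ (S : Subgroup X) :=
          Subgroup.mul_mem _ (Subgroup.mul_mem _ hs (hUS hu)) (Subgroup.inv_mem _ hs)
        have hx' : x * u * x⁻¹ = k * (s * u * s⁻¹) * k⁻¹ := by rw [← hks]; group
        rw [hx', hkey k hk _ hv]
        rw [← hx']; exact hUS (hxU u hu)
      have hsN : s ∈ Subgroup.normalizer (U : Set X) := by
        apply Subgroup.mem_normalizer_fintype
        intro u hu
        rw [hsu u hu]; exact hxU u hu
      have hkN : k ∈ Subgroup.normalizer (U : Set X) := by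
        have : k = x * s⁻¹ := by rw [← hks]; group
        rw [this]
        exact Subgroup.mul_mem _ hx (Subgroup.inv_mem _ hsN)
      have hkC : k ∈ Subgroup.centralizer (U : Set X) := by
        rw [Subgroup.mem_centralizer_iff]
        intro u hu
        have h1 : k * u * k⁻¹ ∈ U := (Subgroup.mem_normalizer_iff.mp hkN u).mp hu
        have h2 := hkey k hk u (hUS hu) (hUS h1)
        calc u * k = (k * u * k⁻¹) * k := by rw [h2]
          _ = k * u := by group
      rw [← hks]
      exact Subgroup.mul_mem_sup hkC ⟨hs, hsN⟩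
    · exact sup_le (Subgroup.centralizer_le_normalizer _) inf_le_right
  · intro H
    obtain ⟨N, hN, hNS⟩ := (Cfsg.Agent.S0071.result S).mpr (by
      intro Q hQS g hg hcop
      have hodd : Odd (orderOf g) := Nat.Coprime.odd_of_right hcop
      have hgQ : ∀ q ∈ Q, g * q * g⁻¹ ∈ Q :=
        fun q hq => (Subgroup.mem_normalizer_iff.mp hg q).mp hq
      have hQ2 : ∀ h ∈ Q, ∃ k : ℕ, h ^ (2 ^ k) = 1 := by
        intro h hh
        obtain ⟨k, hk⟩ := S.isPGroup' ⟨h, hQS hh⟩
        exact ⟨k, congrArg Subtype.val hk⟩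
      have hcent : ∀ q ∈ Q, g * q * g⁻¹ = q := by
        rcases centralizes_or_exponent_two (S : Subgroup X) m eS Q hQS hQ2 g (orderOf g) hodd
          (pow_orderOf_eq_one g) hgQ with h | ⟨hsq, c, hcQ, hhalf⟩
        · exact h
        · rcases klein_or_small Q hsq c hcQ hhalf with h2 | h4
          · exact centralizes_of_card_le_two Q h2 g hgQ
          · have hNQ := H Q hQS h4
            have hle : Subgroup.normalizer (Q : Set X) ≤
                actsLike Q ((S : Subgroup X) ⊓ Subgroup.normalizer (Q : Set X)) inf_le_right := by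
              refine hNQ.le.trans (sup_le ?_ ?_)
              · intro x hx
                refine ⟨Subgroup.centralizer_le_normalizer _ hx, 1, Subgroup.one_mem _, ?_⟩
                intro q hq
                have := (Subgroup.mem_centralizer_iff.mp hx) q hq
                calc x * q * x⁻¹ = (q * x) * x⁻¹ := by rw [this]
                  _ = 1 * q * 1⁻¹ := by group
              · intro x hx
                exact ⟨hx.2, x, hx, fun q _ => rfl⟩
            obtain ⟨-, s, ⟨hsS, hsN⟩, hgs⟩ := hle hg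
            obtain ⟨j, hj⟩ := S.isPGroup' ⟨s, hsS⟩
            have hj' : s ^ (2 ^ j) = 1 := congrArg Subtype.val hj
            exact centralizes_of_agrees Q g s j (orderOf g) hj' hodd (pow_orderOf_eq_one g)
              (fun q hq => (Subgroup.mem_normalizer_iff.mp hsN q).mp hq) hgs
      rw [Subgroup.mem_centralizer_iff]
      intro q hq
      calc q * g = (g * q * g⁻¹) * g := by rw [hcent q hq]
        _ = g * q := by group)
    exact ⟨S, N, hN, hNS⟩

end Cfsg.Agent.S1254
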