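import Cfsg.Statements.S1255
import Mathlib
import Cfsg.Agent.S0111
import Cfsg.Agent.S0107
import Cfsg.Agent.S0514
import Cfsg.Agent.Lib.Helper38.KleinFour

set_option autoImplicit false
open Cfsg

namespace Cfsg.Agent.S1255

open Cfsg.Agent.S0514

variable {X : Type*} [Group X]

theorem klein_third {U : Subgroup X} (hU : IsKleinFour U) {a b c : X} (ha : a ∈ U) (hb : b ∈ U)
    (hc : c ∈ U) (ha1 : a ≠ 1) (hb1 : b ≠ 1) (hab : a ≠ b) (hc1 : c ≠ 1) (hca : c ≠ a)
    (hcb : c ≠ b) : c = a * b := by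
  have := IsKleinFour.eq_mul_of_ne_all (G := U) (x := ⟨a, ha⟩) (y := ⟨b, hb⟩) (z := ⟨c, hc⟩)
    (fun h => ha1 (congrArg Subtype.val h)) (fun h => hb1 (congrArg Subtype.val h))
    (fun h => hab (congrArg Subtype.val h)) (fun h => hc1 (congrArg Subtype.val h))
    (fun h => hca (congrArg Subtype.val h)) (fun h => hcb (congrArg Subtype.val h))
  exact congrArg Subtype.val this

/-- If `3` divides `|N(U) : C(U)|` for a Klein four-subgroup `U`, there is an element of `N(U)`
outside `C(U)` whose cube centralizes `U`. -/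
theorem exists_order_three_aut [Finite X] (U : Subgroup X)
    (h3 : 3 ∣ (Subgroup.centralizer (U : Set X)).relIndex (Subgroup.normalizer (U : Set X))) :
    ∃ x ∈ Subgroup.normalizer (U : Set X), x ∉ Subgroup.centralizer (U : Set X) ∧
      x ^ 3 ∈ Subgroup.centralizer (U : Set X) := by
  have hf3 : Fact (Nat.Prime 3) := ⟨Nat.prime_three⟩
  set N := Subgroup.normalizer (U : Set X) with hN
  set C := (Subgroup.centralizer (U : Set X)).subgroupOf N with hC
  have hcard : 3 ∣ Nat.card (N ⧸ C) := by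
    rw [← Subgroup.index_eq_card]; exact h3
  obtain ⟨q, hq⟩ := exists_prime_orderOf_dvd_card' 3 hcard
  obtain ⟨x, rfl⟩ := QuotientGroup.mk_surjective q
  refine ⟨x.1, x.2, ?_, ?_⟩
  · intro hx
    have h1 : (QuotientGroup.mk x : N ⧸ C) = 1 := (QuotientGroup.eq_one_iff x).mpr hx
    rw [h1, orderOf_one] at hq
    norm_num at hq
  · have h1 : (QuotientGroup.mk x : N ⧸ C) ^ 3 = 1 := by rw [← hq]; exact pow_orderOf_eq_one _
    rw [← QuotientGroup.mk_pow, QuotientGroup.eq_one_iff] at h1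
    exact h1

/-- If `3` divides `|N(U) : C(U)|` for a Klein four-subgroup `U`, all involutions of `U` are
conjugate. -/
theorem klein_conj_of_three_dvd [Finite X] (U : Subgroup X) (hU : IsKleinFour U)
    (h3 : 3 ∣ (Subgroup.centralizer (U : Set X)).relIndex (Subgroup.normalizer (U : Set X))) :
    ∀ a ∈ U, ∀ b ∈ U, a ≠ 1 → b ≠ 1 → ∃ g : X, g * a * g⁻¹ = b := by
  obtain ⟨x, hxN, hxC, hx3⟩ := exists_order_three_aut U h3
  have hsq : ∀ u ∈ U, u * u = 1 := fun u hu => Cfsg.Agent.Lib.Helper38.IsKleinFour_mul_self U hU hu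
  -- σ u = x u x⁻¹
  have hσU : ∀ u ∈ U, x * u * x⁻¹ ∈ U := fun u hu => (Subgroup.mem_normalizer_iff.mp hxN u).mp hu
  have hσ3 : ∀ u ∈ U, x * (x * (x * u * x⁻¹) * x⁻¹) * x⁻¹ = u := by
    intro u hu
    have h1 := (Subgroup.mem_centralizer_iff.mp hx3) u hu
    have e3 : x ^ 3 = x * x * x := by rw [pow_succ, pow_two]
    rw [e3] at h1
    calc x * (x * (x * u * x⁻¹) * x⁻¹) * x⁻¹ = (x * x * x * u) * (x * x * x)⁻¹ := by group
      _ = u := by rw [← h1]; group
  have hσinj : ∀ u v : X, x * u * x⁻¹ = x * v * x⁻¹ → u = v := by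
    intro u v h
    have : u = x⁻¹ * (x * u * x⁻¹) * x := by group
    rw [this, h]; group
  have hσ1 : ∀ u : X, u ≠ 1 → x * u * x⁻¹ ≠ 1 := by
    intro u hu h
    apply hu
    apply hσinj
    rw [h]; group
  obtain ⟨b₀, hb₀U, hb₀⟩ : ∃ b₀ ∈ U, x * b₀ * x⁻¹ ≠ b₀ := by
    by_contra hcon
    apply hxC
    rw [Subgroup.mem_centralizer_iff]
    intro u hu
    have : x * u * x⁻¹ = u := by
      by_contra h
      exact hcon ⟨u, hu, h⟩
    calc u * x = (x * u * x⁻¹) * x := by rw [this]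
      _ = x * u := by group
  have hfree : ∀ a ∈ U, a ≠ 1 → x * a * x⁻¹ ≠ a := by
    intro a haU ha1 hfix
    have hb1 : b₀ ≠ 1 := by
      rintro rfl
      apply hb₀; group
    have hba : b₀ ≠ a := by
      rintro rfl
      exact hb₀ hfix
    have h1 : x * b₀ * x⁻¹ = a * b₀ := by
      apply klein_third hU haU hb₀U (hσU _ hb₀U) ha1 hb1 (Ne.symm hba) (hσ1 _ hb1) _ hb₀
      intro h
      apply hba
      apply hσinj
      rw [h, hfix]
    have h2 : x * (x * b₀ * x⁻¹) * x⁻¹ = b₀ := by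
      rw [h1]
      calc x * (a * b₀) * x⁻¹ = (x * a * x⁻¹) * (x * b₀ * x⁻¹) := by group
        _ = a * (a * b₀) := by rw [hfix, h1]
        _ = (a * a) * b₀ := by group
        _ = b₀ := by rw [hsq a haU, one_mul]
    have h3 := hσ3 b₀ hb₀U
    rw [h2] at h3
    exact hb₀ h3
  intro a haU b hbU ha1 hb1
  by_cases hab : a = b
  · exact ⟨1, by rw [hab]; group⟩
  by_cases hab' : x * a * x⁻¹ = b
  · exact ⟨x, hab'⟩
  have hσa := hfree a haU ha1
  have hσaU := hσU a haU
  have hb_eq : b = a * (x * a * x⁻¹) :=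
    klein_third hU haU hσaU hbU ha1 (hσ1 _ ha1) (Ne.symm hσa) hb1 (Ne.symm hab) (Ne.symm hab')
  have hσσ : x * (x * a * x⁻¹) * x⁻¹ = a * (x * a * x⁻¹) := by
    apply klein_third hU haU hσaU (hσU _ hσaU) ha1 (hσ1 _ ha1) (Ne.symm hσa)
      (hσ1 _ (hσ1 _ ha1))
    · intro h
      have h3 := hσ3 a haU
      rw [h] at h3
      exact hσa h3
    · exact hfree _ hσaU (hσ1 _ ha1)
  refine ⟨x * x, ?_⟩
  rw [hb_eq, ← hσσ]; group

/-- The rotation subgroup of a subgroup `P ≃* DihedralGroup n`, as a subgroup of `X`. -/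
def rotS (P : Subgroup X) (n : ℕ) (e : P ≃* DihedralGroup n) : Subgroup X :=
  ((rot n).comap e.toMonoidHom).map P.subtype

theorem mem_rotS (P : Subgroup X) (n : ℕ) (e : P ≃* DihedralGroup n) (x : X) (hx : x ∈ P) :
    x ∈ rotS P n e ↔ e ⟨x, hx⟩ ∈ rot n := by
  constructor
  · rintro ⟨y, hy, hyx⟩
    have : y = ⟨x, hx⟩ := Subtype.ext hyx
    rw [← this]; exact hy
  · intro h
    exact ⟨⟨x, hx⟩, h, rfl⟩

theorem rotS_le (P : Subgroup X) (n : ℕ) (e : P ≃* DihedralGroup n) : rotS P n e ≤ P :=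
  Subgroup.map_subtype_le _

theorem rotS_relIndex (P : Subgroup X) (n : ℕ) (e : P ≃* DihedralGroup n) :
    (rotS P n e).relIndex P = 2 := by
  rw [Subgroup.relIndex_eq_two_iff_exists_notMem_and']
  have ha : ((e.symm (DihedralGroup.sr 0) : P) : X) ∈ P := (e.symm (DihedralGroup.sr 0)).2
  have hsr : DihedralGroup.sr (0 : ZMod n) ∉ rot n := by
    rintro ⟨i, hi⟩
    cases hi
  refine ⟨_, ha, ?_, ?_⟩
  · rw [mem_rotS P n e _ ha]
    simpa using hsr
  · intro b hb
    by_cases hbr : b ∈ rotS P n e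
    · right; exact hbr
    · left
      rw [mem_rotS P n e _ (P.mul_mem ha hb)]
      rw [mem_rotS P n e _ hb] at hbr
      have := not_rot_mul _ _ hsr hbr
      rw [← MulMemClass.mk_mul_mk _ _ _ ha hb, map_mul]
      simpa using this

theorem rotS_cyclic (P : Subgroup X) (n : ℕ) [NeZero n] (e : P ≃* DihedralGroup n) :
    IsCyclic (rotS P n e) := by
  have := rot_cyclic n
  have hle := rotS_le P n e
  let φ : rotS P n e →* rot n :=
    (e.toMonoidHom.comp (Subgroup.inclusion hle)).codRestrict (rot n)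
      (fun y => (mem_rotS P n e y.1 (hle y.2)).mp y.2)
  have hφ : Function.Injective φ := by
    intro a b hab
    have h1 : e (Subgroup.inclusion hle a) = e (Subgroup.inclusion hle b) :=
      congrArg Subtype.val hab
    exact Subgroup.inclusion_injective hle (e.injective h1)
  exact isCyclic_of_injective φ hφ

/-- Any two involutions of `rotS` are equal. -/
theorem rotS_involution_unique [Finite X] (P : Subgroup X) (n : ℕ) [NeZero n]
    (e : P ≃* DihedralGroup n) {a b : X} (ha : a ∈ rotS P n e) (hb : b ∈ rotS P n e)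
    (ha2 : orderOf a = 2) (hb2 : orderOf b = 2) : a = b := by
  have := rotS_cyclic P n e
  have h := Cfsg.Agent.S0107.unique_involution_of_isCyclic (C := rotS P n e)
    (u := ⟨a, ha⟩) (v := ⟨b, hb⟩) (by rw [← ha2]; exact Subgroup.orderOf_mk a ha)
    (by rw [← hb2]; exact Subgroup.orderOf_mk b hb)
  exact congrArg Subtype.val h

/-- With no subgroup of index two, every involution is conjugate into `rotS`. -/
theorem exists_conj_mem_rotS [Finite X] (S : Sylow 2 X) (n : ℕ)
    (e : (S : Subgroup X) ≃* DihedralGroup n) (h2 : ∀ H : Subgroup X, H.index ≠ 2) (a : X)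
    (ha : orderOf a = 2) : ∃ g : X, g * a * g⁻¹ ∈ rotS (S : Subgroup X) n e := by
  obtain ⟨g, hg⟩ := Cfsg.Agent.S0107.exists_conj_mem_sylow S a ha
  by_cases hr : g * a * g⁻¹ ∈ rotS (S : Subgroup X) n e
  · exact ⟨g, hr⟩
  · have ho : orderOf (g * a * g⁻¹) = 2 := by rw [Cfsg.Agent.S0107.orderOf_conj']; exact ha
    rcases Cfsg.Agent.S0111.result S (rotS (S : Subgroup X) n e) (rotS_le _ n e)
      (rotS_relIndex _ n e) (g * a * g⁻¹) ho hg hr with ⟨M, -, hMi, -⟩ | ⟨g', hg'⟩
    · exact absurd hMi (h2 M)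
    · refine ⟨g' * g, ?_⟩
      have : g' * g * a * (g' * g)⁻¹ = g' * (g * a * g⁻¹) * g'⁻¹ := by group
      rw [this]; exact hg'

theorem all_conj_of_no_index_two [Finite X] (S : Sylow 2 X) (n : ℕ) [NeZero n]
    (e : (S : Subgroup X) ≃* DihedralGroup n) (h2 : ∀ H : Subgroup X, H.index ≠ 2) :
    ∀ a b : X, orderOf a = 2 → orderOf b = 2 → IsConj a b := by
  intro a b ha hb
  obtain ⟨g₁, hg₁⟩ := exists_conj_mem_rotS S n e h2 a ha
  obtain ⟨g₂, hg₂⟩ := exists_conj_mem_rotS S n e h2 b hb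
  have heq := rotS_involution_unique (S : Subgroup X) n e hg₁ hg₂
    (by rw [Cfsg.Agent.S0107.orderOf_conj']; exact ha)
    (by rw [Cfsg.Agent.S0107.orderOf_conj']; exact hb)
  rw [isConj_iff]
  refine ⟨g₂⁻¹ * g₁, ?_⟩
  calc g₂⁻¹ * g₁ * a * (g₂⁻¹ * g₁)⁻¹ = g₂⁻¹ * (g₁ * a * g₁⁻¹) * g₂ := by group
    _ = g₂⁻¹ * (g₂ * b * g₂⁻¹) * g₂ := by rw [heq]
    _ = b := by group

theorem half_add_half (n : ℕ) (hn : Even n) :
    ((n / 2 : ℕ) : ZMod n) + ((n / 2 : ℕ) : ZMod n) = 0 := by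
  rw [← Nat.cast_add]
  have : n / 2 + n / 2 = n := by obtain ⟨k, rfl⟩ := hn; omega
  rw [this, ZMod.natCast_self]

theorem half_ne_zero (n : ℕ) (hn : 2 ≤ n) : ((n / 2 : ℕ) : ZMod n) ≠ 0 := by
  intro h
  rw [ZMod.natCast_eq_zero_iff] at h
  have := Nat.le_of_dvd (by omega) h
  omega

theorem orderOf_r_half (n : ℕ) (hn : 2 ≤ n) (he : Even n) :
    orderOf (DihedralGroup.r ((n / 2 : ℕ) : ZMod n)) = 2 := by
  apply orderOf_eq_prime
  · rw [pow_two, DihedralGroup.r_mul_r, half_add_half n he]; rfl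
  · intro h
    rw [DihedralGroup.one_def] at h
    injection h with h
    exact half_ne_zero n hn h

/-- The element of `X` corresponding to `y : DihedralGroup n`. -/
def el (P : Subgroup X) (n : ℕ) (e : P ≃* DihedralGroup n) (y : DihedralGroup n) : X :=
  ((e.symm y : P) : X)

theorem el_mem (P : Subgroup X) (n : ℕ) (e : P ≃* DihedralGroup n) (y : DihedralGroup n) :
    el P n e y ∈ P := (e.symm y).2

theorem el_mul (P : Subgroup X) (n : ℕ) (e : P ≃* DihedralGroup n) (y₁ y₂ : DihedralGroup n) :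
    el P n e (y₁ * y₂) = el P n e y₁ * el P n e y₂ := by
  simp [el]

theorem el_orderOf (P : Subgroup X) (n : ℕ) (e : P ≃* DihedralGroup n) (y : DihedralGroup n) :
    orderOf (el P n e y) = orderOf y := by
  unfold el
  rw [Subgroup.orderOf_coe, MulEquiv.orderOf_eq]

theorem el_apply (P : Subgroup X) (n : ℕ) (e : P ≃* DihedralGroup n) (x : X) (hx : x ∈ P) :
    el P n e (e ⟨x, hx⟩) = x := by
  simp [el]

theorem apply_el (P : Subgroup X) (n : ℕ) (e : P ≃* DihedralGroup n) (y : DihedralGroup n) :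
    e ⟨el P n e y, el_mem P n e y⟩ = y := by
  simp [el]

theorem el_injective (P : Subgroup X) (n : ℕ) (e : P ≃* DihedralGroup n) :
    Function.Injective (el P n e) := by
  intro y₁ y₂ h
  exact e.symm.injective (Subtype.ext h)

theorem el_sr_orderOf (P : Subgroup X) (n : ℕ) (e : P ≃* DihedralGroup n) (i : ZMod n) :
    orderOf (el P n e (DihedralGroup.sr i)) = 2 := by
  rw [el_orderOf, DihedralGroup.orderOf_sr]

theorem no_index_two_of_all_conj [Finite X] (S : Sylow 2 X) (n : ℕ) (hn : 2 ≤ n) (he : Even n)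
    (e : (S : Subgroup X) ≃* DihedralGroup n)
    (hall : ∀ a b : X, orderOf a = 2 → orderOf b = 2 → IsConj a b) :
    ∀ H : Subgroup X, H.index ≠ 2 := by
  intro H hH
  have hf2 : Fact (Nat.Prime 2) := ⟨Nat.prime_two⟩
  have hHn : H.Normal := Subgroup.normal_of_index_eq_two hH
  obtain ⟨t, htH, ht2⟩ : ∃ t ∈ H, orderOf t = 2 := by
    by_cases h0 : el _ n e (DihedralGroup.sr 0) ∈ H
    · exact ⟨_, h0, el_sr_orderOf _ n e 0⟩
    by_cases h1 : el _ n e (DihedralGroup.sr ((n / 2 : ℕ) : ZMod n)) ∈ H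
    · exact ⟨_, h1, el_sr_orderOf _ n e _⟩
    refine ⟨el _ n e (DihedralGroup.sr 0) * el _ n e (DihedralGroup.sr ((n / 2 : ℕ) : ZMod n)),
      ?_, ?_⟩
    · rw [Subgroup.mul_mem_iff_of_index_two hH]; tauto
    · rw [← el_mul, DihedralGroup.sr_mul_sr, el_orderOf, sub_zero]; exact orderOf_r_half n hn he
  have hinv : ∀ a, orderOf a = 2 → a ∈ H := by
    intro a ha
    obtain ⟨c, hc⟩ := isConj_iff.mp (hall t a ht2 ha)
    rw [← hc]; exact hHn.conj_mem t htH c
  have hSH : (S : Subgroup X) ≤ H := by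
    intro x hx
    rw [← el_apply _ n e x hx]
    rcases e ⟨x, hx⟩ with i | i
    · have : DihedralGroup.r i = DihedralGroup.sr 0 * DihedralGroup.sr i := by
        rw [DihedralGroup.sr_mul_sr, sub_zero]
      rw [this, el_mul]
      exact H.mul_mem (hinv _ (el_sr_orderOf _ n e 0)) (hinv _ (el_sr_orderOf _ n e i))
    · exact hinv _ (el_sr_orderOf _ n e i)
  have hdvd : H.index ∣ (S : Subgroup X).index := Subgroup.index_dvd_of_le hSH
  rw [hH] at hdvd
  exact S.not_dvd_index hdvd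

theorem no_isolated_of_all_conj [Finite X] (S : Sylow 2 X) (n : ℕ) (hn : 2 ≤ n) (he : Even n)
    (e : (S : Subgroup X) ≃* DihedralGroup n)
    (hall : ∀ a b : X, orderOf a = 2 → orderOf b = 2 → IsConj a b) :
    ∀ z : X, ¬ Cfsg.IsIsolatedInvolution z := by
  rintro w ⟨hw2, hw⟩
  set s₀ := el _ n e (DihedralGroup.sr 0) with hs₀
  set z₀ := el _ n e (DihedralGroup.r ((n / 2 : ℕ) : ZMod n)) with hz₀
  have hs2 : orderOf s₀ = 2 := el_sr_orderOf _ n e 0
  have hz2 : orderOf z₀ = 2 := by rw [hz₀, el_orderOf]; exact orderOf_r_half n hn he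
  have hcomm : s₀ * z₀ = z₀ * s₀ := by
    rw [hs₀, hz₀, ← el_mul, ← el_mul, DihedralGroup.sr_mul_r, DihedralGroup.r_mul_sr]
    congr 2
    have := half_add_half n he
    linear_combination this
  have hne : s₀ ≠ z₀ := by
    intro h
    have := el_injective _ n e h
    cases this
  obtain ⟨c, hc⟩ := isConj_iff.mp (hall s₀ w hs2 hw2)
  obtain ⟨d, hd⟩ := isConj_iff.mp (hall w z₀ hw2 hz2)
  have hcd : (c * d) * w * (c * d)⁻¹ = c * z₀ * c⁻¹ := by rw [← hd]; group
  have h1 : Commute w ((c * d) * w * (c * d)⁻¹) := by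
    rw [hcd, ← hc]
    unfold Commute SemiconjBy
    calc c * s₀ * c⁻¹ * (c * z₀ * c⁻¹) = c * (s₀ * z₀) * c⁻¹ := by group
      _ = c * (z₀ * s₀) * c⁻¹ := by rw [hcomm]
      _ = c * z₀ * c⁻¹ * (c * s₀ * c⁻¹) := by group
  have h2 := hw (c * d) h1
  rw [hcd, ← hc] at h2
  apply hne
  have : s₀ = c⁻¹ * (c * s₀ * c⁻¹) * c := by group
  rw [this, ← h2]; group

theorem all_conj_of_index [Finite X] (S : Sylow 2 X) (n : ℕ) (hn : 2 ≤ n) (he : Even n)
    (e : (S : Subgroup X) ≃* DihedralGroup n)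
    (hidx : ∀ U : Subgroup X, U ≤ S → IsKleinFour U →
      3 ∣ (Subgroup.centralizer (U : Set X)).relIndex (Subgroup.normalizer (U : Set X))) :
    ∀ a b : X, orderOf a = 2 → orderOf b = 2 → IsConj a b := by
  have hne : NeZero n := ⟨by omega⟩
  set z₀ := el _ n e (DihedralGroup.r ((n / 2 : ℕ) : ZMod n)) with hz₀
  have hz2 : orderOf z₀ = 2 := by rw [hz₀, el_orderOf]; exact orderOf_r_half n hn he
  have hzS : z₀ ∈ (S : Subgroup X) := el_mem _ n e _
  have hzrot : z₀ ∈ rotS (S : Subgroup X) n e := by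
    rw [mem_rotS _ n e _ hzS]
    have h := apply_el (S : Subgroup X) n e (DihedralGroup.r ((n / 2 : ℕ) : ZMod n))
    exact ⟨_, h⟩
  have hzz : z₀ * z₀ = 1 := by rw [← pow_two, ← hz2]; exact pow_orderOf_eq_one _
  have hz1 : z₀ ≠ 1 := by
    intro h; rw [h, orderOf_one] at hz2; norm_num at hz2
  have key : ∀ a : X, orderOf a = 2 → ∃ g : X, g * a * g⁻¹ = z₀ := by
    intro a ha
    obtain ⟨g, hg⟩ := Cfsg.Agent.S0107.exists_conj_mem_sylow S a ha
    have ho : orderOf (g * a * g⁻¹) = 2 := by rw [Cfsg.Agent.S0107.orderOf_conj']; exact ha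
    by_cases hr : g * a * g⁻¹ ∈ rotS (S : Subgroup X) n e
    · exact ⟨g, rotS_involution_unique _ n e hr hzrot ho hz2⟩
    · set a' := g * a * g⁻¹ with ha'
      have ha'a' : a' * a' = 1 := by rw [← pow_two, ← ho]; exact pow_orderOf_eq_one _
      have ha'1 : a' ≠ 1 := by
        intro h; rw [h, orderOf_one] at ho; norm_num at ho
      have hza' : z₀ ≠ a' := by
        intro h; rw [← h] at hr; exact hr hzrot
      have hcomm : z₀ * a' = a' * z₀ := by
        rw [mem_rotS _ n e _ hg] at hr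
        rw [← el_apply _ n e a' hg]
        rcases hy : e ⟨a', hg⟩ with i | i
        · exact absurd ⟨i, hy⟩ hr
        · rw [hz₀, ← el_mul, ← el_mul, DihedralGroup.sr_mul_r, DihedralGroup.r_mul_sr]
          congr 2
          have := half_add_half n he
          linear_combination (-1 : ZMod n) * this
      set U := Cfsg.Agent.Lib.Helper38.klein4 z₀ a' hzz ha'a' hcomm with hU
      have hUK : IsKleinFour U :=
        Cfsg.Agent.Lib.Helper38.isKleinFour_klein4 z₀ a' hzz ha'a' hcomm hz1 ha'1 hza'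
      have hUS : U ≤ (S : Subgroup X) := by
        intro x hx
        rw [hU, Cfsg.Agent.Lib.Helper38.mem_klein4] at hx
        rcases hx with rfl | rfl | rfl | rfl
        · exact Subgroup.one_mem _
        · exact hzS
        · exact hg
        · exact Subgroup.mul_mem _ hzS hg
      have hzU : z₀ ∈ U := by
        rw [hU, Cfsg.Agent.Lib.Helper38.mem_klein4]; tauto
      have ha'U : a' ∈ U := by
        rw [hU, Cfsg.Agent.Lib.Helper38.mem_klein4]; tauto
      obtain ⟨g', hg'⟩ := klein_conj_of_three_dvd U hUK (hidx U hUS hUK) a' ha'U z₀ hzU ha'1 hz1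
      refine ⟨g' * g, ?_⟩
      rw [← hg', ha']; group
  intro a b ha hb
  obtain ⟨g₁, hg₁⟩ := key a ha
  obtain ⟨g₂, hg₂⟩ := key b hb
  rw [isConj_iff]
  refine ⟨g₂⁻¹ * g₁, ?_⟩
  calc g₂⁻¹ * g₁ * a * (g₂⁻¹ * g₁)⁻¹ = g₂⁻¹ * (g₁ * a * g₁⁻¹) * g₂ := by group
    _ = g₂⁻¹ * (g₂ * b * g₂⁻¹) * g₂ := by rw [hg₁, hg₂]
    _ = b := by group

theorem even_of_sylow [Finite X] (S : Sylow 2 X) (n : ℕ) (hn : 2 ≤ n)
    (e : (S : Subgroup X) ≃* DihedralGroup n) : Even n := by
  have hf2 : Fact (Nat.Prime 2) := ⟨Nat.prime_two⟩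
  have h1 : Nat.card (S : Subgroup X) = 2 * n := by
    rw [Nat.card_congr e.toEquiv, DihedralGroup.nat_card]
  have h2 := S.card_eq_multiplicity
  rw [h1] at h2
  generalize (Nat.card X).factorization 2 = k at h2
  rcases k with _ | _ | k
  · omega
  · simp at h2; omega
  · rw [pow_succ, pow_succ] at h2
    exact ⟨2 ^ k, by omega⟩

/-- Let X be a finite group whose Sylow 2-subgroup S is dihedral of order 2m ≥ 4. Then X has no subgroup of index 2 and no isolated involution if and only if either all involutions of X are conjugate, or for every Klein four-subgroup U ≤ S the index |N_X(U) : C_X(U)| equals 3 when |S| = 4 and equals 6 when |S| > 4. -/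
theorem result {X : Type*} [Group X] [Finite X] (S : Sylow 2 X) (m : ℕ) (hm : 2 ≤ m) (eS : (S : Subgroup X) ≃* DihedralGroup m) : ((∀ H : Subgroup X, H.index ≠ 2) ∧ (∀ z : X, ¬ Cfsg.IsIsolatedInvolution z)) ↔ ((∀ a b : X, orderOf a = 2 → orderOf b = 2 → IsConj a b) ∨ (∀ U : Subgroup X, U ≤ S → IsKleinFour U → (Subgroup.centralizer (U : Set X)).relIndex (Subgroup.normalizer (U : Set X)) = (if Nat.card S = 4 then 3 else 6))) := by
  have hne : NeZero m := ⟨by omega⟩
  have he : Even m := even_of_sylow S m hm eS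
  constructor
  · rintro ⟨h2, -⟩
    left
    exact all_conj_of_no_index_two S m eS h2
  · intro h
    have hall : ∀ a b : X, orderOf a = 2 → orderOf b = 2 → IsConj a b := by
      rcases h with h | h
      · exact h
      · apply all_conj_of_index S m hm he eS
        intro U hUS hUK
        rw [h U hUS hUK]
        split_ifs <;> norm_num
    exact ⟨no_index_two_of_all_conj S m hm he eS hall, no_isolated_of_all_conj S m hm he eS hall⟩

end Cfsg.Agent.S1255
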