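import Cfsg.Statements.S3864
import Mathlib
import Cfsg.Agent.S1254
import Cfsg.Agent.S1255
import Cfsg.Agent.S0202
import Cfsg.Agent.Lib.Helper20.QDFusion

set_option autoImplicit false
open Cfsg

namespace Cfsg.Agent.S3864

open Cfsg.Agent.S1255 Cfsg.Agent.S0514

variable {G : Type*} [Group G]

theorem el_one (P : Subgroup G) (n : ℕ) (e : P ≃* DihedralGroup n) : el P n e 1 = 1 := by
  simp [el]

theorem el_inv (P : Subgroup G) (n : ℕ) (e : P ≃* DihedralGroup n) (y : DihedralGroup n) :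
    el P n e y⁻¹ = (el P n e y)⁻¹ := by
  simp [el]

theorem el_pow (P : Subgroup G) (n : ℕ) (e : P ≃* DihedralGroup n) (y : DihedralGroup n) (k : ℕ) :
    el P n e (y ^ k) = (el P n e y) ^ k := by
  simp [el]

theorem el_conj (P : Subgroup G) (n : ℕ) (e : P ≃* DihedralGroup n) (w y : DihedralGroup n) :
    el P n e w * el P n e y * (el P n e w)⁻¹ = el P n e (w * y * w⁻¹) := by
  rw [el_mul, el_mul, el_inv]

theorem r_conj_sr (n : ℕ) (k i : ZMod n) :
    DihedralGroup.r k * DihedralGroup.sr i * (DihedralGroup.r k)⁻¹ = DihedralGroup.sr (i - k - k) := by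
  rw [DihedralGroup.inv_r, DihedralGroup.r_mul_sr, DihedralGroup.sr_mul_r]
  congr 1
  ring

theorem sr_conj_sr (n : ℕ) (k i : ZMod n) :
    DihedralGroup.sr k * DihedralGroup.sr i * (DihedralGroup.sr k)⁻¹ =
      DihedralGroup.sr (k + k - i) := by
  rw [DihedralGroup.inv_sr, DihedralGroup.sr_mul_sr, DihedralGroup.r_mul_sr]
  congr 1
  ring

theorem exists_half (m : ℕ) [NeZero m] (i : ZMod m) :
    ∃ k : ZMod m, i - k - k = 0 ∨ i - k - k = 1 := by
  obtain ⟨v, hv⟩ : ∃ v : ℕ, v = i.val := ⟨_, rfl⟩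
  have h1 : i = ((v : ℕ) : ZMod m) := by rw [hv]; exact (ZMod.natCast_zmod_val i).symm
  obtain ⟨w, hw⟩ : ∃ w : ℕ, w = v / 2 := ⟨_, rfl⟩
  have h2 : v = 2 * w + v % 2 := by rw [hw]; exact (Nat.div_add_mod _ _).symm
  refine ⟨((w : ℕ) : ZMod m), ?_⟩
  rcases Nat.mod_two_eq_zero_or_one v with h | h
  · left
    rw [h] at h2
    rw [h1, h2]
    push_cast
    ring
  · right
    rw [h] at h2
    rw [h1, h2]
    push_cast
    ring

theorem add_self_ne_one (m : ℕ) (hm : Even m) (k : ZMod m) : k + k ≠ 1 := by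
  intro h
  have h2 : 2 ∣ m := hm.two_dvd
  have := congrArg (ZMod.castHom h2 (ZMod 2)) h
  rw [map_add, map_one, CharTwo.add_self_eq_zero] at this
  exact absurd this (by decide)

/-- the central involution -/
noncomputable def zz (P : Subgroup G) (m : ℕ) (e : P ≃* DihedralGroup m) : G :=
  el P m e (DihedralGroup.r ((m / 2 : ℕ) : ZMod m))

/-- the reflections -/
noncomputable def ss (P : Subgroup G) (m : ℕ) (e : P ≃* DihedralGroup m) (i : ZMod m) : G :=
  el P m e (DihedralGroup.sr i)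

theorem zz_orderOf (P : Subgroup G) (m : ℕ) (hm : 2 ≤ m) (he : Even m)
    (e : P ≃* DihedralGroup m) : orderOf (zz P m e) = 2 := by
  unfold zz
  rw [el_orderOf]; exact orderOf_r_half m hm he

theorem ss_orderOf (P : Subgroup G) (m : ℕ) (e : P ≃* DihedralGroup m) (i : ZMod m) :
    orderOf (ss P m e i) = 2 := el_sr_orderOf P m e i

theorem zz_mem (P : Subgroup G) (m : ℕ) (e : P ≃* DihedralGroup m) : zz P m e ∈ P :=
  el_mem P m e _

theorem ss_mem (P : Subgroup G) (m : ℕ) (e : P ≃* DihedralGroup m) (i : ZMod m) :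
    ss P m e i ∈ P := el_mem P m e _

theorem zz_mem_rotS (P : Subgroup G) (m : ℕ) (e : P ≃* DihedralGroup m) :
    zz P m e ∈ rotS P m e := by
  rw [mem_rotS P m e _ (zz_mem P m e)]
  have h := apply_el P m e (DihedralGroup.r ((m / 2 : ℕ) : ZMod m))
  exact ⟨_, h⟩

theorem ss_not_mem_rotS (P : Subgroup G) (m : ℕ) (e : P ≃* DihedralGroup m) (i : ZMod m) :
    ss P m e i ∉ rotS P m e := by
  rw [mem_rotS P m e _ (ss_mem P m e i)]
  have h := apply_el P m e (DihedralGroup.sr i)
  rintro ⟨j, hj⟩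
  have : DihedralGroup.sr i = DihedralGroup.r j := h.symm.trans hj
  cases this

theorem zz_ne_one (P : Subgroup G) (m : ℕ) (hm : 2 ≤ m) (he : Even m)
    (e : P ≃* DihedralGroup m) : zz P m e ≠ 1 := by
  intro h
  have := zz_orderOf P m hm he e
  rw [h, orderOf_one] at this
  norm_num at this

theorem zz_mul_self (P : Subgroup G) (m : ℕ) (hm : 2 ≤ m) (he : Even m)
    (e : P ≃* DihedralGroup m) : zz P m e * zz P m e = 1 := by
  rw [← pow_two, ← zz_orderOf P m hm he e]; exact pow_orderOf_eq_one _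

/-- `z * sr i = sr (i - h)`. -/
theorem zz_mul_ss (P : Subgroup G) (m : ℕ) (e : P ≃* DihedralGroup m) (i : ZMod m) :
    zz P m e * ss P m e i = ss P m e (i - ((m / 2 : ℕ) : ZMod m)) := by
  unfold zz ss
  rw [← el_mul, DihedralGroup.r_mul_sr]

/-- Every involution is conjugate to `z`, `s` or `sr`. -/
theorem involution_conj [Finite G] (P : Sylow 2 G) (m : ℕ) (hm : 2 ≤ m) (he : Even m)
    (e : (P : Subgroup G) ≃* DihedralGroup m) (a : G) (ha : orderOf a = 2) :
    ∃ g : G, g * a * g⁻¹ = zz _ m e ∨ g * a * g⁻¹ = ss _ m e 0 ∨ g * a * g⁻¹ = ss _ m e 1 := by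
  have hne : NeZero m := ⟨by omega⟩
  obtain ⟨g, hg⟩ := Cfsg.Agent.S0107.exists_conj_mem_sylow P a ha
  have ho : orderOf (g * a * g⁻¹) = 2 := by rw [Cfsg.Agent.S0107.orderOf_conj']; exact ha
  have hrep := el_apply _ m e _ hg
  rcases hy : e ⟨g * a * g⁻¹, hg⟩ with i | i
  · refine ⟨g, Or.inl ?_⟩
    have hr : g * a * g⁻¹ ∈ rotS (P : Subgroup G) m e := by
      rw [mem_rotS _ m e _ hg]; exact ⟨i, hy⟩
    exact rotS_involution_unique _ m e hr (zz_mem_rotS _ m e) ho (zz_orderOf _ m hm he e)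
  · obtain ⟨k, hk⟩ := exists_half m i
    refine ⟨el _ m e (DihedralGroup.r k) * g, ?_⟩
    have : el _ m e (DihedralGroup.r k) * g * a * (el _ m e (DihedralGroup.r k) * g)⁻¹ =
        el _ m e (DihedralGroup.r k) * (g * a * g⁻¹) * (el _ m e (DihedralGroup.r k))⁻¹ := by
      group
    rw [this, ← hrep, hy, el_conj, r_conj_sr]
    rcases hk with hk | hk
    · right; left; rw [hk]; rfl
    · right; right; rw [hk]; rfl

theorem classes_eq [Finite G] (P : Sylow 2 G) (m : ℕ) (hm : 2 ≤ m) (he : Even m)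
    (e : (P : Subgroup G) ≃* DihedralGroup m) :
    {C : ConjClasses G | ∃ g : G, ConjClasses.mk g = C ∧ orderOf g = 2} =
      {ConjClasses.mk (zz (P : Subgroup G) m e), ConjClasses.mk (ss (P : Subgroup G) m e 0),
        ConjClasses.mk (ss (P : Subgroup G) m e 1)} := by
  ext C
  simp only [Set.mem_setOf_eq, Set.mem_insert_iff, Set.mem_singleton_iff]
  constructor
  · rintro ⟨a, rfl, ha⟩
    obtain ⟨g, hg⟩ := involution_conj P m hm he e a ha
    have hconj : IsConj a (g * a * g⁻¹) := isConj_iff.mpr ⟨g, rfl⟩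
    have := ConjClasses.mk_eq_mk_iff_isConj.mpr hconj
    rcases hg with h | h | h
    · left; rw [this, h]
    · right; left; rw [this, h]
    · right; right; rw [this, h]
  · rintro (h | h | h)
    · exact ⟨_, h.symm, zz_orderOf _ m hm he e⟩
    · exact ⟨_, h.symm, ss_orderOf _ m e 0⟩
    · exact ⟨_, h.symm, ss_orderOf _ m e 1⟩

theorem card_classes_eq [Finite G] (P : Sylow 2 G) (m : ℕ) (hm : 2 ≤ m) (he : Even m)
    (e : (P : Subgroup G) ≃* DihedralGroup m) :
    Nat.card {C : ConjClasses G // ∃ g : G, ConjClasses.mk g = C ∧ orderOf g = 2} =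
      ({ConjClasses.mk (zz (P : Subgroup G) m e), ConjClasses.mk (ss (P : Subgroup G) m e 0),
        ConjClasses.mk (ss (P : Subgroup G) m e 1)} : Set (ConjClasses G)).ncard := by
  rw [← classes_eq P m hm he e]
  exact Nat.card_coe_set_eq _

/-- If `z` is conjugate to a reflection, there is no normal subgroup of index four. -/
theorem no_index_four [Finite G] (P : Sylow 2 G) (m : ℕ) (hm4 : 4 ∣ m) (hm0 : m ≠ 0)
    (e : (P : Subgroup G) ≃* DihedralGroup m) (i₀ : ZMod m)
    (hconj : IsConj (zz (P : Subgroup G) m e) (ss (P : Subgroup G) m e i₀))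
    (N : Subgroup G) (hN : N.Normal) : N.index ≠ 4 := by
  intro hidx
  have hf2 : Fact (Nat.Prime 2) := ⟨Nat.prime_two⟩
  have hne : NeZero m := ⟨hm0⟩
  have hcard : Nat.card (G ⧸ N) = 2 ^ 2 := by rw [← Subgroup.index_eq_card, hidx]; norm_num
  have hcomm := IsPGroup.commutative_of_card_eq_prime_sq hcard
  -- commutators lie in N
  have hcommN : ∀ x y : G, x * y * x⁻¹ * y⁻¹ ∈ N := by
    intro x y
    rw [← QuotientGroup.eq_one_iff]
    have h1 : ((x * y * x⁻¹ * y⁻¹ : G) : G ⧸ N) = (x : G ⧸ N) * y * (x : G ⧸ N)⁻¹ * (y : G ⧸ N)⁻¹ := by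
      simp
    rw [h1, hcomm (x : G ⧸ N) y]
    group
  set ρ : G ⧸ N := ((el (P : Subgroup G) m e (DihedralGroup.r 1) : G) : G ⧸ N) with hρ
  -- ρ² = 1
  have hr2 : el (P : Subgroup G) m e (DihedralGroup.r 1) * el (P : Subgroup G) m e (DihedralGroup.r 1) ∈ N := by
    have h := hcommN (el (P : Subgroup G) m e (DihedralGroup.sr 0)) (el (P : Subgroup G) m e (DihedralGroup.r (-1)))
    rw [← el_inv, ← el_inv, ← el_mul, ← el_mul, ← el_mul] at h
    rw [← el_mul]
    have : DihedralGroup.sr (0 : ZMod m) * DihedralGroup.r (-1) * (DihedralGroup.sr 0)⁻¹ * (DihedralGroup.r (-1))⁻¹ =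
        DihedralGroup.r 1 * DihedralGroup.r 1 := by
      rw [DihedralGroup.inv_sr, DihedralGroup.inv_r, DihedralGroup.sr_mul_r, DihedralGroup.sr_mul_sr,
        DihedralGroup.r_mul_r, DihedralGroup.r_mul_r]
      congr 1
      ring
    rw [this] at h
    exact h
  have hρ2 : ρ ^ 2 = 1 := by
    rw [hρ, pow_two, ← QuotientGroup.mk_mul, QuotientGroup.eq_one_iff]
    exact hr2
  -- z ∈ N
  have hzN : zz (P : Subgroup G) m e ∈ N := by
    obtain ⟨q, hq⟩ := hm4
    have h := hcommN (el (P : Subgroup G) m e (DihedralGroup.sr 0))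
      (el (P : Subgroup G) m e (DihedralGroup.r ((q : ℕ) : ZMod m)))
    rw [← el_inv, ← el_inv, ← el_mul, ← el_mul, ← el_mul] at h
    have : DihedralGroup.sr (0 : ZMod m) * DihedralGroup.r ((q : ℕ) : ZMod m) * (DihedralGroup.sr 0)⁻¹ *
        (DihedralGroup.r ((q : ℕ) : ZMod m))⁻¹ = DihedralGroup.r ((m / 2 : ℕ) : ZMod m) := by
      rw [DihedralGroup.inv_sr, DihedralGroup.inv_r, DihedralGroup.sr_mul_r, DihedralGroup.sr_mul_sr,
        DihedralGroup.r_mul_r]
      congr 1
      have h2 : m / 2 = q + q := by omega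
      have h3 : ((m : ℕ) : ZMod m) = 0 := ZMod.natCast_self m
      rw [h2]
      push_cast
      have h4 : ((q : ℕ) : ZMod m) + q + q + q = 0 := by
        have : ((q + q + q + q : ℕ) : ZMod m) = 0 := by
          rw [show q + q + q + q = m by omega]; exact h3
        push_cast at this
        exact this
      linear_combination (-1 : ZMod m) * h4
    rw [this] at h
    exact h
  -- the reflection lies in N
  have hsN : ss (P : Subgroup G) m e i₀ ∈ N := by
    obtain ⟨c, hc⟩ := isConj_iff.mp hconj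
    rw [← hc]; exact hN.conj_mem _ hzN c
  -- images of P
  have hpow : ∀ k : ℕ, ρ ^ k = 1 ∨ ρ ^ k = ρ := by
    intro k
    rw [pow_eq_pow_mod k hρ2]
    rcases Nat.mod_two_eq_zero_or_one k with h | h
    · left; rw [h, pow_zero]
    · right; rw [h, pow_one]
  have hr : ∀ i : ZMod m, ((el (P : Subgroup G) m e (DihedralGroup.r i) : G) : G ⧸ N) = 1 ∨
      ((el (P : Subgroup G) m e (DihedralGroup.r i) : G) : G ⧸ N) = ρ := by
    intro i
    have h1 : DihedralGroup.r i = (DihedralGroup.r (1 : ZMod m)) ^ i.val := by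
      rw [DihedralGroup.r_one_pow, ZMod.natCast_zmod_val]
    rw [h1, el_pow, QuotientGroup.mk_pow]
    exact hpow _
  have hP : ∀ x ∈ (P : Subgroup G), ((x : G) : G ⧸ N) = 1 ∨ ((x : G) : G ⧸ N) = ρ := by
    intro x hx
    rw [← el_apply _ m e x hx]
    rcases e ⟨x, hx⟩ with i | i
    · exact hr i
    · have h1 : DihedralGroup.sr i = DihedralGroup.sr i₀ * DihedralGroup.r (i - i₀) := by
        rw [DihedralGroup.sr_mul_r]; congr 1; ring
      rw [h1, el_mul, QuotientGroup.mk_mul]
      have h2 : ((el (P : Subgroup G) m e (DihedralGroup.sr i₀) : G) : G ⧸ N) = 1 :=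
        (QuotientGroup.eq_one_iff _).mpr hsN
      rw [h2, one_mul]
      exact hr _
  -- P ⊔ N = ⊤
  have htop : (P : Subgroup G) ⊔ N = ⊤ := by
    rw [← Subgroup.index_eq_one]
    have h1 : ((P : Subgroup G) ⊔ N).index ∣ (P : Subgroup G).index := Subgroup.index_dvd_of_le le_sup_left
    have h2 : ((P : Subgroup G) ⊔ N).index ∣ N.index := Subgroup.index_dvd_of_le le_sup_right
    rw [hidx] at h2
    have h3 : ¬ 2 ∣ (P : Subgroup G).index := P.not_dvd_index
    have h4 : ((P : Subgroup G) ⊔ N).index ∈ Nat.divisors 4 := Nat.mem_divisors.mpr ⟨h2, by norm_num⟩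
    have hdiv : Nat.divisors 4 = {1, 2, 4} := by decide
    rw [hdiv] at h4
    simp only [Finset.mem_insert, Finset.mem_singleton] at h4
    rcases h4 with h | h | h
    · exact h
    · rw [h] at h1; exact absurd h1 h3
    · rw [h] at h1; exact absurd (dvd_trans (by norm_num : 2 ∣ 4) h1) h3
  have hall : ∀ q : G ⧸ N, q = 1 ∨ q = ρ := by
    intro q
    obtain ⟨g, rfl⟩ := QuotientGroup.mk_surjective q
    have hg : g ∈ (P : Subgroup G) ⊔ N := by rw [htop]; exact Subgroup.mem_top g
    rw [Subgroup.mem_sup_of_normal_right] at hg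
    obtain ⟨p, hp, n', hn', rfl⟩ := hg
    rw [QuotientGroup.mk_mul, (QuotientGroup.eq_one_iff n').mpr hn', mul_one]
    exact hP p hp
  have hle : Nat.card (G ⧸ N) ≤ 2 := by
    have hsurj : Function.Surjective (fun b : Bool => if b then ρ else (1 : G ⧸ N)) := by
      intro q
      rcases hall q with h | h
      · exact ⟨false, by simp [h]⟩
      · exact ⟨true, by simp [h]⟩
    have := Nat.card_le_card_of_surjective _ hsurj
    simpa using this
  rw [hcard] at hle
  norm_num at hle

theorem rotS_mul_mem (P : Subgroup G) (m : ℕ) (e : P ≃* DihedralGroup m) {x y : G} (hx : x ∈ P)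
    (hy : y ∈ P) (hxr : x ∉ rotS P m e) (hyr : y ∉ rotS P m e) : x * y ∈ rotS P m e := by
  rw [mem_rotS P m e _ hx] at hxr
  rw [mem_rotS P m e _ hy] at hyr
  rw [mem_rotS P m e _ (P.mul_mem hx hy)]
  have := not_rot_mul _ _ hxr hyr
  rw [← MulMemClass.mk_mul_mk _ _ _ hx hy, map_mul]
  exact this

theorem orderOf_two_of_sq {x : G} (h1 : x ≠ 1) (h2 : x * x = 1) : orderOf x = 2 := by
  apply orderOf_eq_prime
  · rw [pow_two]; exact h2
  · exact h1

/-- Structure of a four-subgroup of `P`: it is `{1, z, t, z t}` with `t` a reflection. -/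
theorem four_structure [Finite G] (P : Sylow 2 G) (m : ℕ) (hm : 2 ≤ m) (he : Even m)
    (e : (P : Subgroup G) ≃* DihedralGroup m) (U : Subgroup G) (hUP : U ≤ P)
    (hU : IsKleinFour U) :
    zz (P : Subgroup G) m e ∈ U ∧ ∃ i : ZMod m, ss (P : Subgroup G) m e i ∈ U ∧
      ∀ u ∈ U, u = 1 ∨ u = zz (P : Subgroup G) m e ∨ u = ss (P : Subgroup G) m e i ∨
        u = zz (P : Subgroup G) m e * ss (P : Subgroup G) m e i := by
  have hne : NeZero m := ⟨by omega⟩
  obtain ⟨a, b, haU, hbU, ha1, hb1, hab1, hab, haab, hbab, hsq, hcomm, hall⟩ :=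
    Cfsg.Agent.S0202.exists_fourData U
  have hz2 := zz_orderOf (P : Subgroup G) m hm he e
  have hzr := zz_mem_rotS (P : Subgroup G) m e
  have huniq : ∀ x ∈ U, x ≠ 1 → x ∈ rotS (P : Subgroup G) m e → x = zz (P : Subgroup G) m e := by
    intro x hx hx1 hxr
    exact rotS_involution_unique _ m e hxr hzr (orderOf_two_of_sq hx1 (hsq x hx)) hz2
  have hrefl : ∀ t ∈ U, t ∉ rotS (P : Subgroup G) m e → ∃ i : ZMod m, t = ss (P : Subgroup G) m e i := by
    intro t ht htr
    have htP := hUP ht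
    rw [mem_rotS _ m e _ htP] at htr
    have hrep := el_apply _ m e t htP
    rcases hy : e ⟨t, htP⟩ with i | i
    · exact absurd ⟨i, hy⟩ htr
    · exact ⟨i, by rw [← hrep, hy]; rfl⟩
  by_cases har : a ∈ rotS (P : Subgroup G) m e
  · have haz := huniq a haU ha1 har
    have hbr : b ∉ rotS (P : Subgroup G) m e := by
      intro hbr
      exact hab (haz.trans (huniq b hbU hb1 hbr).symm)
    obtain ⟨i, hi⟩ := hrefl b hbU hbr
    refine ⟨haz ▸ haU, i, hi ▸ hbU, ?_⟩
    intro u hu
    rw [← haz, ← hi]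
    exact hall u hu
  · by_cases hbr : b ∈ rotS (P : Subgroup G) m e
    · have hbz := huniq b hbU hb1 hbr
      obtain ⟨i, hi⟩ := hrefl a haU har
      refine ⟨hbz ▸ hbU, i, hi ▸ haU, ?_⟩
      intro u hu
      rw [← hbz, ← hi]
      rcases hall u hu with h | h | h | h
      · left; exact h
      · right; right; left; exact h
      · right; left; exact h
      · right; right; right; rw [h]; exact hcomm a haU b hbU
    · have habr := rotS_mul_mem (P : Subgroup G) m e (hUP haU) (hUP hbU) har hbr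
      have habz := huniq (a * b) (U.mul_mem haU hbU) hab1 habr
      obtain ⟨i, hi⟩ := hrefl a haU har
      refine ⟨habz ▸ U.mul_mem haU hbU, i, hi ▸ haU, ?_⟩
      intro u hu
      rw [← habz, ← hi]
      rcases hall u hu with h | h | h | h
      · left; exact h
      · right; right; left; exact h
      · right; right; right
        rw [h, hcomm a haU b hbU, mul_assoc, hsq a haU, mul_one]
      · right; left; exact h

/-- every reflection is `P`-conjugate to `s` or `sr`. -/
theorem ss_conj (P : Subgroup G) (m : ℕ) [NeZero m] (e : P ≃* DihedralGroup m) (i : ZMod m) :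
    ∃ p ∈ P, p * ss P m e i * p⁻¹ = ss P m e 0 ∨ p * ss P m e i * p⁻¹ = ss P m e 1 := by
  obtain ⟨k, hk⟩ := exists_half m i
  refine ⟨el P m e (DihedralGroup.r k), el_mem P m e _, ?_⟩
  unfold ss
  rw [el_conj, r_conj_sr]
  rcases hk with hk | hk
  · left; rw [hk]
  · right; rw [hk]

theorem normalizer_eq [Finite G] (P : Sylow 2 G) (m : ℕ) (hm4 : 4 ∣ m) (hm0 : m ≠ 0)
    (e : (P : Subgroup G) ≃* DihedralGroup m)
    (hA : ¬ IsConj (zz (P : Subgroup G) m e) (ss (P : Subgroup G) m e 0))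
    (hB : ¬ IsConj (zz (P : Subgroup G) m e) (ss (P : Subgroup G) m e 1))
    (U : Subgroup G) (hUP : U ≤ P) (hU : IsKleinFour U) :
    Subgroup.normalizer (U : Set G) =
      Subgroup.centralizer (U : Set G) ⊔ ((P : Subgroup G) ⊓ Subgroup.normalizer (U : Set G)) := by
  have hne : NeZero m := ⟨hm0⟩
  have hm : 2 ≤ m := by obtain ⟨q, rfl⟩ := hm4; omega
  have he : Even m := by obtain ⟨q, rfl⟩ := hm4; exact ⟨2 * q, by ring⟩
  obtain ⟨hzU, i, htU, hall⟩ := four_structure P m hm he e U hUP hU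
  set z := zz (P : Subgroup G) m e with hz
  set t := ss (P : Subgroup G) m e i with ht
  have hz1 : z ≠ 1 := zz_ne_one _ m hm he e
  have hzz : z * z = 1 := zz_mul_self _ m hm he e
  have ht1 : t ≠ 1 := by
    intro h
    have := ss_orderOf (P : Subgroup G) m e i
    rw [← ht, h, orderOf_one] at this
    norm_num at this
  -- 3 does not divide the index
  have h3 : ¬ 3 ∣ (Subgroup.centralizer (U : Set G)).relIndex (Subgroup.normalizer (U : Set G)) := by
    intro h3
    obtain ⟨g, hg⟩ := klein_conj_of_three_dvd U hU h3 z hzU t htU hz1 ht1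
    obtain ⟨p, -, hp⟩ := ss_conj (P : Subgroup G) m e i
    have hconj : ∀ w : G, p * t * p⁻¹ = w → IsConj z w := by
      intro w hw
      rw [isConj_iff]
      refine ⟨p * g, ?_⟩
      rw [← hw, ← hg]; group
    rcases hp with hp | hp
    · exact hA (hconj _ hp)
    · exact hB (hconj _ hp)
  have h6 := Cfsg.Agent.Lib.Helper20.QDF.relIndex_dvd_six U hU
  have h2 : (Subgroup.centralizer (U : Set G)).relIndex (Subgroup.normalizer (U : Set G)) ∣ 2 := by
    have hcop : Nat.Coprime ((Subgroup.centralizer (U : Set G)).relIndex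
        (Subgroup.normalizer (U : Set G))) 3 := by
      rw [Nat.coprime_comm, Nat.Prime.coprime_iff_not_dvd Nat.prime_three]
      exact h3
    have h23 : (6 : ℕ) = 2 * 3 := rfl
    rw [h23] at h6
    exact hcop.dvd_of_dvd_mul_right h6
  -- the element x
  obtain ⟨q, hq⟩ := hm4
  have hqq : ((q : ℕ) : ZMod m) + ((q : ℕ) : ZMod m) = ((m / 2 : ℕ) : ZMod m) := by
    rw [← Nat.cast_add]
    congr 1
    omega
  set x := el (P : Subgroup G) m e (DihedralGroup.r ((q : ℕ) : ZMod m)) with hx
  have hxP : x ∈ (P : Subgroup G) := el_mem _ m e _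
  have hxz : x * z * x⁻¹ = z := by
    rw [hx, hz]
    unfold zz
    rw [el_conj, DihedralGroup.inv_r, DihedralGroup.r_mul_r, DihedralGroup.r_mul_r]
    congr 2
    ring
  have hxt : x * t * x⁻¹ = z * t := by
    rw [hx, ht, hz, zz_mul_ss]
    unfold ss
    rw [el_conj, r_conj_sr]
    congr 2
    rw [← hqq]; ring
  have hzt : z * t = t * z :=
    Cfsg.Agent.Lib.Helper38.IsKleinFour_comm U hU hzU htU
  have hxN : x ∈ Subgroup.normalizer (U : Set G) := by
    apply Subgroup.mem_normalizer_fintype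
    intro u hu
    rcases hall u hu with h | h | h | h
    · rw [h]; simp
    · rw [h, hxz]; exact hzU
    · rw [h, hxt]; exact U.mul_mem hzU htU
    · have : x * u * x⁻¹ = (x * z * x⁻¹) * (x * t * x⁻¹) := by rw [h]; group
      rw [this, hxz, hxt, ← mul_assoc, hzz, one_mul]
      exact htU
  have hxC : x ∉ Subgroup.centralizer (U : Set G) := by
    intro hxC
    have h1 := (Subgroup.mem_centralizer_iff.mp hxC) t htU
    have h2 : x * t * x⁻¹ = t := by rw [← h1]; group
    rw [hxt] at h2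
    apply hz1
    calc z = (z * t) * t⁻¹ := by group
      _ = 1 := by rw [h2]; group
  set K := Subgroup.centralizer (U : Set G) ⊔
    ((P : Subgroup G) ⊓ Subgroup.normalizer (U : Set G)) with hK
  have hCK : Subgroup.centralizer (U : Set G) ≤ K := le_sup_left
  have hKN : K ≤ Subgroup.normalizer (U : Set G) :=
    sup_le (Subgroup.centralizer_le_normalizer _) inf_le_right
  have hxK : x ∈ K := Subgroup.mem_sup_right ⟨hxP, hxN⟩
  have hmul := Subgroup.relIndex_mul_relIndex _ _ _ hCK hKN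
  have hne1 : (Subgroup.centralizer (U : Set G)).relIndex K ≠ 1 := by
    intro h
    rw [Subgroup.relIndex_eq_one] at h
    exact hxC (h hxK)
  have hpos : (Subgroup.centralizer (U : Set G)).relIndex (Subgroup.normalizer (U : Set G)) ≠ 0 := by
    unfold Subgroup.relIndex
    exact Subgroup.index_ne_zero_of_finite
  have hK1 : K.relIndex (Subgroup.normalizer (U : Set G)) = 1 := by
    have hle : (Subgroup.centralizer (U : Set G)).relIndex (Subgroup.normalizer (U : Set G)) ≤ 2 :=
      Nat.le_of_dvd (by norm_num) h2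
    have h0 : (Subgroup.centralizer (U : Set G)).relIndex K ≠ 0 := by
      intro h; rw [h, zero_mul] at hmul; exact hpos hmul.symm
    have h0' : K.relIndex (Subgroup.normalizer (U : Set G)) ≠ 0 := by
      intro h; rw [h, mul_zero] at hmul; exact hpos hmul.symm
    by_contra hcon
    have ha : 2 ≤ (Subgroup.centralizer (U : Set G)).relIndex K := by omega
    have hb : 2 ≤ K.relIndex (Subgroup.normalizer (U : Set G)) := by omega
    have : 4 ≤ (Subgroup.centralizer (U : Set G)).relIndex K *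
        K.relIndex (Subgroup.normalizer (U : Set G)) := by nlinarith
    omega
  rw [Subgroup.relIndex_eq_one] at hK1
  exact le_antisymm hK1 hKN

theorem complement_of_hasNormalPComplement [Finite G] (P : Sylow 2 G)
    (h : Cfsg.HasNormalPComplement 2 G) :
    ∃ N : Subgroup G, N.Normal ∧ N.IsComplement' (P : Subgroup G) := by
  have hf2 : Fact (Nat.Prime 2) := ⟨Nat.prime_two⟩
  obtain ⟨P₀, K, hKn, hKP⟩ := h
  refine ⟨K, hKn, ?_⟩
  apply Subgroup.isComplement'_of_coprime
  · rw [← hKP.card_mul_card, Sylow.card_eq_multiplicity, Sylow.card_eq_multiplicity]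
  · have h1 : Nat.card K = (P₀ : Subgroup G).index := hKP.index_eq_card.symm
    rw [h1, Sylow.card_eq_multiplicity]
    apply Nat.Coprime.pow_right
    rw [Nat.coprime_comm, Nat.Prime.coprime_iff_not_dvd Nat.prime_two]
    exact P₀.not_dvd_index

theorem conj_in_sylow [Finite G] (P : Sylow 2 G) (N : Subgroup G) (hN : N.Normal)
    (hc : N.IsComplement' (P : Subgroup G)) {x y : G} (hx : x ∈ (P : Subgroup G))
    (hy : y ∈ (P : Subgroup G)) (g : G) (hg : g * x * g⁻¹ = y) :
    ∃ u ∈ (P : Subgroup G), u * x * u⁻¹ = y := by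
  have hdisj : N ⊓ (P : Subgroup G) = ⊥ := hc.disjoint.eq_bot
  obtain ⟨⟨⟨k, hk⟩, ⟨u, hu⟩⟩, hku, -⟩ := hc.existsUnique g
  simp only at hku
  refine ⟨u, hu, ?_⟩
  set v := u * x * u⁻¹ with hv
  have hvP : v ∈ (P : Subgroup G) :=
    Subgroup.mul_mem _ (Subgroup.mul_mem _ hu hx) (Subgroup.inv_mem _ hu)
  have hy' : y = k * v * k⁻¹ := by rw [← hg, ← hku, hv]; group
  have h1 : k * v * k⁻¹ * v⁻¹ ∈ N := by
    have : k * v * k⁻¹ * v⁻¹ = k * (v * k⁻¹ * v⁻¹) := by group
    rw [this]
    exact N.mul_mem hk (hN.conj_mem _ (N.inv_mem hk) v)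
  have h2 : k * v * k⁻¹ * v⁻¹ ∈ (P : Subgroup G) := by
    rw [← hy']; exact Subgroup.mul_mem _ hy (Subgroup.inv_mem _ hvP)
  have h3 : k * v * k⁻¹ * v⁻¹ ∈ N ⊓ (P : Subgroup G) := ⟨h1, h2⟩
  rw [hdisj, Subgroup.mem_bot] at h3
  rw [hy']
  calc v = (k * v * k⁻¹ * v⁻¹)⁻¹ * (k * v * k⁻¹) := by group
    _ = k * v * k⁻¹ := by rw [h3, inv_one, one_mul]

theorem ss_not_conj [Finite G] (P : Sylow 2 G) (m : ℕ) (he : Even m)
    (e : (P : Subgroup G) ≃* DihedralGroup m) (hnc : Cfsg.HasNormalPComplement 2 G) :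
    ¬ IsConj (ss (P : Subgroup G) m e 0) (ss (P : Subgroup G) m e 1) := by
  intro h
  obtain ⟨g, hg⟩ := isConj_iff.mp h
  obtain ⟨N, hN, hc⟩ := complement_of_hasNormalPComplement P hnc
  obtain ⟨u, hu, huu⟩ := conj_in_sylow P N hN hc (ss_mem _ m e 0) (ss_mem _ m e 1) g hg
  rw [← el_apply _ m e u hu] at huu
  unfold ss at huu
  rw [el_conj] at huu
  have h1 := el_injective _ m e huu
  generalize e ⟨u, hu⟩ = w at h1
  rcases w with k | k
  · rw [r_conj_sr] at h1
    injection h1 with h1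
    apply add_self_ne_one m he (-k)
    rw [← h1]; ring
  · rw [sr_conj_sr] at h1
    injection h1 with h1
    apply add_self_ne_one m he k
    rw [← h1]; ring

theorem main [Finite G] (P : Sylow 2 G) (m : ℕ) (hm4 : 4 ∣ m) (hm0 : m ≠ 0)
    (e : (P : Subgroup G) ≃* DihedralGroup m) :
    (Nat.card {C : ConjClasses G // ∃ g : G, ConjClasses.mk g = C ∧ orderOf g = 2} = 1 ∧
      ∀ N : Subgroup G, N.Normal → N.index ≠ 2) ∨
    (Nat.card {C : ConjClasses G // ∃ g : G, ConjClasses.mk g = C ∧ orderOf g = 2} = 2 ∧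
      (∃ N : Subgroup G, N.Normal ∧ N.index = 2) ∧ ∀ N : Subgroup G, N.Normal → N.index ≠ 4) ∨
    (Nat.card {C : ConjClasses G // ∃ g : G, ConjClasses.mk g = C ∧ orderOf g = 2} = 3 ∧
      Cfsg.HasNormalPComplement 2 G) := by
  have hne : NeZero m := ⟨hm0⟩
  have hm : 2 ≤ m := by obtain ⟨q, rfl⟩ := hm4; omega
  have he : Even m := by obtain ⟨q, rfl⟩ := hm4; exact ⟨2 * q, by ring⟩
  have hcard := card_classes_eq P m hm he e
  set z := zz (P : Subgroup G) m e with hz
  set s₀ := ss (P : Subgroup G) m e 0 with hs₀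
  set s₁ := ss (P : Subgroup G) m e 1 with hs₁
  have hz2 : orderOf z = 2 := zz_orderOf _ m hm he e
  have hs₀2 : orderOf s₀ = 2 := ss_orderOf _ m e 0
  have hs₁2 : orderOf s₁ = 2 := ss_orderOf _ m e 1
  -- existence of a normal subgroup of index two when not all involutions are conjugate
  have hex2 : ∀ t : G, orderOf t = 2 → ¬ IsConj z t → ∃ N : Subgroup G, N.Normal ∧ N.index = 2 := by
    intro t ht hzt
    by_contra hno
    have h2 : ∀ H : Subgroup G, H.index ≠ 2 :=
      fun H hH => hno ⟨H, Subgroup.normal_of_index_eq_two hH, hH⟩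
    exact hzt (all_conj_of_no_index_two P m e h2 z t hz2 ht)
  by_cases hA : IsConj z s₀
  · by_cases hB : IsConj z s₁
    · left
      constructor
      · rw [hcard, ← ConjClasses.mk_eq_mk_iff_isConj.mpr hA, ← ConjClasses.mk_eq_mk_iff_isConj.mpr hB]
        simp
      · have hall : ∀ a b : G, orderOf a = 2 → orderOf b = 2 → IsConj a b := by
          have key : ∀ a : G, orderOf a = 2 → IsConj a z := by
            intro a ha
            obtain ⟨g, hg⟩ := involution_conj P m hm he e a ha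
            have hconj : IsConj a (g * a * g⁻¹) := isConj_iff.mpr ⟨g, rfl⟩
            rcases hg with h | h | h
            · rw [h] at hconj; exact hconj
            · rw [h] at hconj; exact hconj.trans hA.symm
            · rw [h] at hconj; exact hconj.trans hB.symm
          intro a b ha hb
          exact (key a ha).trans (key b hb).symm
        intro N _
        exact no_index_two_of_all_conj P m hm he e hall N
    · right; left
      refine ⟨?_, hex2 s₁ hs₁2 hB, no_index_four P m hm4 hm0 e 0 hA⟩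
      rw [hcard, ← ConjClasses.mk_eq_mk_iff_isConj.mpr hA]
      rw [Set.insert_eq_of_mem (Set.mem_insert _ _)]
      apply Set.ncard_pair
      intro h
      exact hB (ConjClasses.mk_eq_mk_iff_isConj.mp h)
  · by_cases hB : IsConj z s₁
    · right; left
      refine ⟨?_, hex2 s₀ hs₀2 hA, no_index_four P m hm4 hm0 e 1 hB⟩
      rw [hcard, ← ConjClasses.mk_eq_mk_iff_isConj.mpr hB]
      rw [Set.insert_comm, Set.insert_eq_of_mem (Set.mem_singleton _), Set.pair_comm]
      apply Set.ncard_pair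
      intro h
      exact hA (ConjClasses.mk_eq_mk_iff_isConj.mp h)
    · right; right
      have hnc : Cfsg.HasNormalPComplement 2 G :=
        (Cfsg.Agent.S1254.result P m hm e).mpr
          (fun U hUP hU => normalizer_eq P m hm4 hm0 e hA hB U hUP hU)
      refine ⟨?_, hnc⟩
      rw [hcard]
      apply Set.ncard_eq_three.mpr
      refine ⟨_, _, _, ?_, ?_, ?_, rfl⟩
      · exact fun h => hA (ConjClasses.mk_eq_mk_iff_isConj.mp h)
      · exact fun h => hB (ConjClasses.mk_eq_mk_iff_isConj.mp h)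
      · exact fun h => ss_not_conj P m he e hnc (ConjClasses.mk_eq_mk_iff_isConj.mp h)

/-- Let G be a finite group whose Sylow 2-subgroups are dihedral of order 2 ^ n with n ≥ 3, and count the conjugacy classes of involutions of G. Then exactly one of the following holds: there is one class of involutions and no normal subgroup of index 2; there are two classes of involutions, a normal subgroup of index 2 and none of index 4; there are three classes of involutions and G has a normal 2-complement. -/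
theorem result {G : Type*} [Group G] [Finite G] (P : Sylow 2 G) (n : ℕ) (hn : 3 ≤ n) (hdih : Nonempty (↥(P : Subgroup G) ≃* DihedralGroup (2 ^ (n - 1)))) : (Nat.card {C : ConjClasses G // ∃ g : G, ConjClasses.mk g = C ∧ orderOf g = 2} = 1 ∧ ∀ N : Subgroup G, N.Normal → N.index ≠ 2) ∨ (Nat.card {C : ConjClasses G // ∃ g : G, ConjClasses.mk g = C ∧ orderOf g = 2} = 2 ∧ (∃ N : Subgroup G, N.Normal ∧ N.index = 2) ∧ ∀ N : Subgroup G, N.Normal → N.index ≠ 4) ∨ (Nat.card {C : ConjClasses G // ∃ g : G, ConjClasses.mk g = C ∧ orderOf g = 2} = 3 ∧ Cfsg.HasNormalPComplement 2 G) := by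
  obtain ⟨e⟩ := hdih
  have h4 : 4 ∣ 2 ^ (n - 1) := by
    obtain ⟨k, rfl⟩ : ∃ k, n = k + 3 := ⟨n - 3, by omega⟩
    exact ⟨2 ^ k, by rw [show k + 3 - 1 = k + 2 by omega, pow_add]; ring⟩
  exact main P (2 ^ (n - 1)) h4 (by positivity) e

end Cfsg.Agent.S3864
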