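import Cfsg.Statements.S4082
import Mathlib
import Cfsg.Agent.Lib.Helper73.QuatIso

set_option autoImplicit false
open Cfsg

namespace Cfsg.Agent.S4082

variable {G : Type*} [Group G]

/-- Data extracted from a subgroup `H` with a normal Sylow `p`-subgroup `S₀` and cyclic quotient:
`c` is a `p'`-element whose image generates `H / S₀`. -/
structure Data (p : ℕ) (H S₀ : Subgroup G) (c : G) (m' : ℕ) : Prop where
  le : S₀ ≤ H
  norm : ∀ h ∈ H, ∀ s ∈ S₀, h * s * h⁻¹ ∈ S₀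
  pgrp : ∀ s ∈ S₀, ∃ k : ℕ, s ^ (p ^ k) = 1
  cH : c ∈ H
  cop : Nat.Coprime p m'
  cpow : c ^ m' = 1
  dec : ∀ h ∈ H, ∃ s ∈ S₀, ∃ i : ℕ, h = s * c ^ i

theorem coprime_pow_orderOf {p : ℕ} {c : G} {m' : ℕ} (hcop : Nat.Coprime p m') (hc : c ^ m' = 1)
    (k : ℕ) : (p ^ k).Coprime (orderOf c) := by
  have hdvd : orderOf c ∣ m' := orderOf_dvd_of_pow_eq_one hc
  exact Nat.Coprime.pow_left k (Nat.Coprime.coprime_dvd_right hdvd hcop)

theorem coprime_orderOf_of_pow {p : ℕ} {s : G} {m' k : ℕ} (hcop : Nat.Coprime p m')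
    (hs : s ^ (p ^ k) = 1) : m'.Coprime (orderOf s) := by
  have hdvd : orderOf s ∣ p ^ k := orderOf_dvd_of_pow_eq_one hs
  exact Nat.Coprime.coprime_dvd_right hdvd (Nat.Coprime.pow_right k hcop.symm)

/-- An element which is both a `p`-element and a `p'`-element is trivial. -/
theorem eq_one_of_coprime {p : ℕ} {c : G} {m' k : ℕ} (hcop : Nat.Coprime p m') (hc : c ^ m' = 1)
    (hk : c ^ (p ^ k) = 1) : c = 1 := by
  have h1 : orderOf c ∣ m' := orderOf_dvd_of_pow_eq_one hc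
  have h2 : orderOf c ∣ p ^ k := orderOf_dvd_of_pow_eq_one hk
  have hcop' : Nat.Coprime m' (p ^ k) := Nat.Coprime.pow_right k hcop.symm
  have : orderOf c ∣ 1 := by
    have := Nat.dvd_gcd h1 h2
    rwa [hcop'] at this
  exact orderOf_eq_one_iff.mp (Nat.dvd_one.mp this)

/-- The cyclic case: if `S₀` is cyclic and centralized by `c`, then `H` is cyclic. -/
theorem cyclic_case {p : ℕ} {H S₀ : Subgroup G} {c : G} {m' : ℕ} (d : Data p H S₀ c m') (s₀ : G)
    (hs₀ : s₀ ∈ S₀) (hgen : ∀ s ∈ S₀, s ∈ Subgroup.zpowers s₀) (hcs : c * s₀ * c⁻¹ = s₀) :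
    IsCyclic ↥H := by
  have hcomm : Commute s₀ c := by
    have : c * s₀ = s₀ * c := by
      calc c * s₀ = (c * s₀ * c⁻¹) * c := by group
        _ = s₀ * c := by rw [hcs]
    exact this.symm
  obtain ⟨k, hk⟩ := d.pgrp s₀ hs₀
  set x := s₀ * c with hx
  have hs₀x : s₀ ∈ Subgroup.zpowers x := by
    have h1 : x ^ m' = s₀ ^ m' := by rw [hx, hcomm.mul_pow, d.cpow, mul_one]
    obtain ⟨u, hu⟩ := exists_pow_eq_self_of_coprime (coprime_orderOf_of_pow (s := s₀) d.cop hk)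
    rw [← hu, ← h1]
    exact Subgroup.pow_mem _ (Subgroup.pow_mem _ (Subgroup.mem_zpowers x) _) _
  have hcx : c ∈ Subgroup.zpowers x := by
    have h1 : x ^ (p ^ k) = c ^ (p ^ k) := by rw [hx, hcomm.mul_pow, hk, one_mul]
    obtain ⟨u, hu⟩ := exists_pow_eq_self_of_coprime (coprime_pow_orderOf d.cop d.cpow k)
    rw [← hu, ← h1]
    exact Subgroup.pow_mem _ (Subgroup.pow_mem _ (Subgroup.mem_zpowers x) _) _
  have hH : H = Subgroup.zpowers x := by
    apply le_antisymm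
    · intro h hh
      obtain ⟨s, hs, i, rfl⟩ := d.dec h hh
      exact Subgroup.mul_mem _ (Subgroup.zpowers_le.mpr hs₀x (hgen s hs))
        (Subgroup.pow_mem _ hcx _)
    · exact Subgroup.zpowers_le.mpr (H.mul_mem (d.le hs₀) d.cH)
  rw [hH]
  exact Subgroup.isCyclic_zpowers x

/-- Dihedral recognition inside a subgroup. -/
theorem dihedral_of_gens [Finite G] (D : Subgroup G) (ρ t : G) (hρ : ρ ∈ D) (ht : t ∈ D) (n : ℕ)
    (hρo : orderOf ρ = n) (htt : t * t = 1) (hinv : t * ρ * t⁻¹ = ρ⁻¹)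
    (ht' : t ∉ Subgroup.zpowers ρ) (hcard : Nat.card D = 2 * n) :
    Nonempty (↥D ≃* DihedralGroup n) := by
  have hn0 : n ≠ 0 := by rw [← hρo]; exact (orderOf_pos ρ).ne'
  have h1 : (⟨ρ, hρ⟩ : D) ^ n = 1 := by
    apply Subtype.ext
    rw [Subgroup.coe_pow, Subgroup.coe_one, ← hρo]
    exact pow_orderOf_eq_one ρ
  have h2 : (⟨t, ht⟩ : D) ^ 2 = 1 := by
    apply Subtype.ext
    rw [Subgroup.coe_pow, Subgroup.coe_one, pow_two]
    exact htt
  have h3 : (⟨t, ht⟩ : D) * ⟨ρ, hρ⟩ * (⟨t, ht⟩ : D)⁻¹ = (⟨ρ, hρ⟩ : D)⁻¹ := by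
    apply Subtype.ext
    simp only [Subgroup.coe_mul, Subgroup.coe_inv]
    exact hinv
  have ho : orderOf (⟨ρ, hρ⟩ : D) = n := by rw [Subgroup.orderOf_mk]; exact hρo
  have h4 : (⟨t, ht⟩ : D) ∉ Subgroup.zpowers (⟨ρ, hρ⟩ : D) := by
    rintro ⟨k, hk⟩
    apply ht'
    refine ⟨k, ?_⟩
    have := congrArg Subtype.val hk
    simpa using this
  have hgen := Cfsg.Agent.Lib.Helper73.zpowers_sup_zpowers_eq_top (⟨ρ, hρ⟩ : D) ⟨t, ht⟩
    (by rw [ho]; exact hcard) h4
  obtain ⟨e⟩ := Cfsg.Agent.Lib.Helper73.dihedral_equiv (⟨ρ, hρ⟩ : D) ⟨t, ht⟩ n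
    hn0 h1 h2 h3 hgen hcard
  exact ⟨e.symm⟩

/-- The dihedral case: if `S₀` is cyclic and inverted by the involution `c ∉ S₀`,
then `H` is dihedral. -/
theorem dihedral_case [Finite G] {p : ℕ} {H S₀ : Subgroup G} {c : G} {m' : ℕ}
    (d : Data p H S₀ c m') (s₀ : G)
    (hs₀ : s₀ ∈ S₀) (hgen : ∀ s ∈ S₀, s ∈ Subgroup.zpowers s₀) (hcc : c * c = 1)
    (hcs : c * s₀ * c⁻¹ = s₀⁻¹) (hcS : c ∉ S₀) :
    Nonempty (↥H ≃* DihedralGroup (orderOf s₀)) := by
  have hSeq : S₀ = Subgroup.zpowers s₀ :=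
    le_antisymm (fun s hs => hgen s hs) (Subgroup.zpowers_le.mpr hs₀)
  have hrel : S₀.relIndex H = 2 := by
    rw [Subgroup.relIndex_eq_two_iff_exists_notMem_and']
    refine ⟨c, d.cH, hcS, ?_⟩
    intro b hb
    obtain ⟨s, hs, i, rfl⟩ := d.dec b hb
    rcases Nat.even_or_odd' i with ⟨j, hj | hj⟩
    · right
      have : c ^ i = 1 := by rw [hj, pow_mul, pow_two, hcc, one_pow]
      rw [this, mul_one]; exact hs
    · left
      have h1 : c ^ i = c := by rw [hj, pow_succ, pow_mul, pow_two, hcc, one_pow, one_mul]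
      have h2 : c⁻¹ = c := by rw [inv_eq_iff_mul_eq_one]; exact hcc
      rw [h1]
      have : c * (s * c) = c * s * c⁻¹ := by rw [h2]; group
      rw [this]
      exact d.norm c d.cH s hs
  have hcard : Nat.card H = 2 * orderOf s₀ := by
    have h1 := Subgroup.card_mul_index (S₀.subgroupOf H)
    rw [Nat.card_congr (Subgroup.subgroupOfEquivOfLe d.le).toEquiv] at h1
    have h2 : (S₀.subgroupOf H).index = 2 := hrel
    rw [h2, hSeq, Nat.card_zpowers] at h1
    omega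
  exact dihedral_of_gens H s₀ c (d.le hs₀) d.cH (orderOf s₀) rfl hcc hcs
    (fun h => hcS (hSeq ▸ h)) hcard

/-- Extraction of the data from a subgroup with normal Sylow `p`-subgroup and cyclic quotient. -/
theorem exists_data [Finite G] {p : ℕ} [hp : Fact p.Prime] (H : Subgroup G) (S : Sylow p ↥H)
    (hSn : (S : Subgroup ↥H).Normal) (hcyc : IsCyclic (↥H ⧸ (S : Subgroup ↥H))) :
    ∃ (c : G) (m' : ℕ), Data p H ((S : Subgroup ↥H).map H.subtype) c m' := by
  obtain ⟨q, hq⟩ := hcyc.exists_generator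
  obtain ⟨h₀, rfl⟩ := QuotientGroup.mk_surjective q
  have ho0 : orderOf h₀ ≠ 0 := (orderOf_pos h₀).ne'
  obtain ⟨k, m', hm'nd, hkm⟩ := Nat.exists_eq_pow_mul_and_not_dvd ho0 p hp.out.ne_one
  have hcop : Nat.Coprime p m' := (Nat.Prime.coprime_iff_not_dvd hp.out).mpr hm'nd
  set c' : ↥H := h₀ ^ (p ^ k) with hc'
  have hc'pow : c' ^ m' = 1 := by
    rw [hc', ← pow_mul, ← hkm]; exact pow_orderOf_eq_one h₀
  -- the quotient has order prime to p
  have hqodd : (p ^ k).Coprime (orderOf (QuotientGroup.mk h₀ : ↥H ⧸ (S : Subgroup ↥H))) := by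
    have hdvd : orderOf (QuotientGroup.mk h₀ : ↥H ⧸ (S : Subgroup ↥H)) ∣
        (S : Subgroup ↥H).index := by
      rw [Subgroup.index_eq_card]; exact orderOf_dvd_natCard _
    have hnd : ¬ p ∣ (S : Subgroup ↥H).index := S.not_dvd_index
    have h2 : Nat.Coprime p (orderOf (QuotientGroup.mk h₀ : ↥H ⧸ (S : Subgroup ↥H))) := by
      rw [Nat.Prime.coprime_iff_not_dvd hp.out]
      exact fun h => hnd (dvd_trans h hdvd)
    exact Nat.Coprime.pow_left k h2
  obtain ⟨u, hu⟩ := exists_pow_eq_self_of_coprime hqodd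
  refine ⟨(c' : G), m', ?_⟩
  refine ⟨Subgroup.map_subtype_le _, ?_, ?_, c'.2, hcop, ?_, ?_⟩
  · rintro h hh _ ⟨s', hs', rfl⟩
    refine ⟨(⟨h, hh⟩ : ↥H) * s' * (⟨h, hh⟩ : ↥H)⁻¹, hSn.conj_mem s' hs' _, ?_⟩
    simp
  · rintro _ ⟨s', hs', rfl⟩
    obtain ⟨j, hj⟩ := S.isPGroup' ⟨s', hs'⟩
    refine ⟨j, ?_⟩
    have := congrArg Subtype.val hj
    have h2 := congrArg (H.subtype) this
    simpa using h2
  · have := congrArg Subtype.val hc'pow
    simpa using this
  · intro h hh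
    have hmem := hq (QuotientGroup.mk (⟨h, hh⟩ : ↥H))
    rw [← (isOfFinOrder_of_finite _).mem_powers_iff_mem_zpowers] at hmem
    obtain ⟨n, hn⟩ := hmem
    simp only at hn
    have h1 : (QuotientGroup.mk (⟨h, hh⟩ : ↥H) : ↥H ⧸ (S : Subgroup ↥H)) =
        QuotientGroup.mk (c' ^ (u * n)) := by
      rw [← hn, QuotientGroup.mk_pow, pow_mul, hc', QuotientGroup.mk_pow, hu]
    have h2 : (⟨h, hh⟩ : ↥H) * (c' ^ (u * n))⁻¹ ∈ (S : Subgroup ↥H) := by
      rw [← QuotientGroup.eq_one_iff, QuotientGroup.mk_mul, h1, QuotientGroup.mk_inv]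
      exact mul_inv_cancel _
    refine ⟨_, ⟨_, h2, rfl⟩, u * n, ?_⟩
    simp

/-- A group generated by a normal `p`-subgroup `R` and one element `y` is `p`-by-cyclic. -/
theorem pbc {H : Type*} [Group H] [Finite H] {p : ℕ} [Fact p.Prime] (R : Subgroup H)
    [hRn : R.Normal] (hR : IsPGroup p R) (y : H)
    (hrep : ∀ h : H, ∃ r ∈ R, ∃ j : ℤ, h = r * y ^ j) (S : Sylow p H) :
    (S : Subgroup H).Normal ∧ ∀ [(S : Subgroup H).Normal], IsCyclic (H ⧸ (S : Subgroup H)) := by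
  have hRS : R ≤ S := hR.le_sylow_of_normal S
  have hyS : ∀ (r : H) (j : ℤ), r ∈ R → r * y ^ j ∈ (S : Subgroup H) →
      y ^ j ∈ (S : Subgroup H) := by
    intro r j hr h
    have : y ^ j = r⁻¹ * (r * y ^ j) := by group
    rw [this]; exact Subgroup.mul_mem _ (Subgroup.inv_mem _ (hRS hr)) h
  have hn : (S : Subgroup H).Normal := by
    constructor
    intro s hs h
    obtain ⟨r', hr', i, rfl⟩ := hrep s
    obtain ⟨r, hr, j, rfl⟩ := hrep h
    have hyi := hyS r' i hr' hs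
    have h1 : r * y ^ j * (r' * y ^ i) * (r * y ^ j)⁻¹ =
        r * (y ^ j * r' * (y ^ j)⁻¹) * (y ^ i * r⁻¹ * (y ^ i)⁻¹) * y ^ i := by
      group
    rw [h1]
    refine Subgroup.mul_mem _ (Subgroup.mul_mem _ (Subgroup.mul_mem _ (hRS hr) ?_) ?_) hyi
    · exact hRS (hRn.conj_mem _ hr' _)
    · exact hRS (hRn.conj_mem _ (R.inv_mem hr) _)
  refine ⟨hn, ?_⟩
  intro hn'
  refine ⟨⟨QuotientGroup.mk y, ?_⟩⟩
  intro q
  obtain ⟨h, rfl⟩ := QuotientGroup.mk_surjective q
  obtain ⟨r, hr, j, rfl⟩ := hrep h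
  refine ⟨j, ?_⟩
  show (QuotientGroup.mk y : H ⧸ (S : Subgroup H)) ^ j = QuotientGroup.mk (r * y ^ j)
  rw [QuotientGroup.mk_mul, (QuotientGroup.eq_one_iff _).mpr (hRS hr), one_mul,
    QuotientGroup.mk_zpow]

/-- The left-hand side of the statement. -/
def Hyp (p : ℕ) (G : Type*) [Group G] : Prop :=
  ∀ H : Subgroup G, (∀ S : Sylow p ↥H, (S : Subgroup ↥H).Normal) →
    (∀ (S : Sylow p ↥H) [(S : Subgroup ↥H).Normal], IsCyclic (↥H ⧸ (S : Subgroup ↥H))) →
    IsCyclic H ∨ (∃ n : ℕ, Nonempty (H ≃* DihedralGroup (p ^ n)))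

/-- Under the hypothesis, the group generated by a `p`-subgroup `R` and an element `y`
normalizing it is cyclic or dihedral. -/
theorem hyp_apply [Finite G] {p : ℕ} [Fact p.Prime] (hyp : Hyp p G) (R : Subgroup G)
    (hR : IsPGroup p R) (y : G) (hy : y ∈ Subgroup.normalizer (R : Set G)) :
    ∃ H : Subgroup G, R ≤ H ∧ y ∈ H ∧
      (IsCyclic H ∨ (∃ n : ℕ, Nonempty (H ≃* DihedralGroup (p ^ n)))) := by
  set H : Subgroup G := Subgroup.closure ((R : Set G) ∪ {y}) with hH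
  have hRH : R ≤ H := fun k hk => Subgroup.subset_closure (Or.inl hk)
  have hyH : y ∈ H := Subgroup.subset_closure (Or.inr rfl)
  have hyN : ∀ (i : ℤ) (r : G), r ∈ R → y ^ i * r * (y ^ i)⁻¹ ∈ R := by
    intro i r hr
    have h1 : y ^ i ∈ Subgroup.normalizer (R : Set G) := Subgroup.zpow_mem _ hy i
    exact (Subgroup.mem_normalizer_iff.mp h1 r).mp hr
  have hrep : ∀ x ∈ H, ∃ k ∈ R, ∃ j : ℤ, x = k * y ^ j := by
    intro x hx
    induction hx using Subgroup.closure_induction with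
    | mem x hx =>
      rcases hx with hx | hx
      · exact ⟨x, hx, 0, by simp⟩
      · rw [Set.mem_singleton_iff] at hx
        exact ⟨1, R.one_mem, 1, by simp [hx]⟩
    | one => exact ⟨1, R.one_mem, 0, by simp⟩
    | mul x z _ _ hx hz =>
      obtain ⟨k, hk, i, rfl⟩ := hx
      obtain ⟨k', hk', j, rfl⟩ := hz
      refine ⟨k * (y ^ i * k' * (y ^ i)⁻¹), R.mul_mem hk (hyN i k' hk'), i + j, ?_⟩
      rw [zpow_add]; group
    | inv x _ hx =>
      obtain ⟨k, hk, i, rfl⟩ := hx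
      refine ⟨y ^ (-i) * k⁻¹ * (y ^ (-i))⁻¹, hyN (-i) _ (R.inv_mem hk), -i, ?_⟩
      group
  refine ⟨H, hRH, hyH, ?_⟩
  have hRn : (R.subgroupOf H).Normal := by
    constructor
    rintro ⟨n, hn⟩ hnR ⟨g, hg⟩
    rw [Subgroup.mem_subgroupOf] at hnR ⊢
    simp only [Subgroup.coe_mul, Subgroup.coe_inv]
    obtain ⟨k, hk, j, rfl⟩ := hrep g hg
    have h1 : k * y ^ j * n * (k * y ^ j)⁻¹ = k * (y ^ j * n * (y ^ j)⁻¹) * k⁻¹ := by group
    rw [h1]
    exact R.mul_mem (R.mul_mem hk (hyN j n hnR)) (R.inv_mem hk)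
  have hRp : IsPGroup p (R.subgroupOf H) :=
    hR.of_equiv (Subgroup.subgroupOfEquivOfLe hRH).symm
  have hrep' : ∀ h : ↥H, ∃ r ∈ R.subgroupOf H, ∃ j : ℤ, h = r * (⟨y, hyH⟩ : ↥H) ^ j := by
    rintro ⟨h, hh⟩
    obtain ⟨k, hk, j, rfl⟩ := hrep h hh
    refine ⟨⟨k, hRH hk⟩, Subgroup.mem_subgroupOf.mpr hk, j, ?_⟩
    apply Subtype.ext
    simp
  apply hyp H
  · intro S
    exact (pbc (R.subgroupOf H) hRp ⟨y, hyH⟩ hrep' S).1
  · intro S hSn
    exact (pbc (R.subgroupOf H) hRp ⟨y, hyH⟩ hrep' S).2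

theorem sr_pow_odd (n : ℕ) (i : ZMod n) (k : ℕ) (hk : Odd k) :
    (DihedralGroup.sr i) ^ k = DihedralGroup.sr i := by
  obtain ⟨j, rfl⟩ := hk
  rw [pow_succ, pow_mul, pow_two, DihedralGroup.sr_mul_self, one_pow, one_mul]

theorem comm_of_isCyclic {H : Type*} [Group H] (h : IsCyclic H) (a b : H) : a * b = b * a :=
  (isMulCommutative_iff.mp inferInstance) a b

/-- Under the hypothesis, an element normalizing but not centralizing a `p`-subgroup
is an involution inverting it. -/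
theorem inv_of_not_centralizes [Finite G] {p : ℕ} [hp : Fact p.Prime] (hp2 : p ≠ 2)
    (hyp : Hyp p G) (R : Subgroup G) (hR : IsPGroup p R) (y : G)
    (hy : y ∈ Subgroup.normalizer (R : Set G)) (hyC : y ∉ Subgroup.centralizer (R : Set G)) :
    y * y = 1 ∧ ∀ r ∈ R, y * r * y⁻¹ = r⁻¹ := by
  obtain ⟨H, hRH, hyH, hH⟩ := hyp_apply hyp R hR y hy
  have hpodd : Odd p := hp.out.odd_of_ne_two hp2
  rcases hH with hc | ⟨n, ⟨e⟩⟩
  · exfalso
    apply hyC
    rw [Subgroup.mem_centralizer_iff]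
    intro r hr
    have := comm_of_isCyclic hc (⟨r, hRH hr⟩ : ↥H) ⟨y, hyH⟩
    exact congrArg Subtype.val this
  · -- elements of R map to rotations
    have hrot : ∀ r (hr : r ∈ R), ∃ b, e ⟨r, hRH hr⟩ = DihedralGroup.r b := by
      intro r hr
      generalize hw : e ⟨r, hRH hr⟩ = w
      rcases w with b | b
      · exact ⟨b, rfl⟩
      · exfalso
        obtain ⟨k, hk⟩ := hR ⟨r, hr⟩
        have h1 : (⟨r, hRH hr⟩ : ↥H) ^ (p ^ k) = 1 := by
          apply Subtype.ext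
          have := congrArg Subtype.val hk
          simpa using this
        have h2 := congrArg e h1
        rw [map_pow, hw, map_one, sr_pow_odd _ _ _ (hpodd.pow)] at h2
        rw [DihedralGroup.one_def] at h2
        cases h2
    -- y maps to a reflection
    generalize hw : e ⟨y, hyH⟩ = w
    rcases w with a | a
    · exfalso
      apply hyC
      rw [Subgroup.mem_centralizer_iff]
      intro r hr
      obtain ⟨b, hb⟩ := hrot r hr
      have h1 : e (⟨r, hRH hr⟩ * ⟨y, hyH⟩) = e (⟨y, hyH⟩ * ⟨r, hRH hr⟩) := by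
        rw [map_mul, map_mul, hw, hb, DihedralGroup.r_mul_r, DihedralGroup.r_mul_r, add_comm]
      exact congrArg Subtype.val (e.injective h1)
    · constructor
      · have h1 : e (⟨y, hyH⟩ * ⟨y, hyH⟩) = e 1 := by
          rw [map_mul, hw, DihedralGroup.sr_mul_self, map_one]
        exact congrArg Subtype.val (e.injective h1)
      · intro r hr
        obtain ⟨b, hb⟩ := hrot r hr
        have h1 : e (⟨y, hyH⟩ * ⟨r, hRH hr⟩ * (⟨y, hyH⟩ : ↥H)⁻¹) = e (⟨r, hRH hr⟩ : ↥H)⁻¹ := by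
          rw [map_mul, map_mul, map_inv, map_inv, hw, hb, DihedralGroup.inv_sr,
            DihedralGroup.sr_mul_r, DihedralGroup.sr_mul_sr, DihedralGroup.inv_r]
          congr 1; ring
        exact congrArg Subtype.val (e.injective h1)

theorem sylow_top_of_isPGroup {H : Type*} [Group H] {p : ℕ} (hH : IsPGroup p H)
    (S : Sylow p H) : (S : Subgroup H) = ⊤ :=
  (S.is_maximal' (hH.to_subgroup ⊤) le_top).symm

theorem isCyclic_sylow [Finite G] {p : ℕ} [hp : Fact p.Prime] (hp2 : p ≠ 2) (P : Sylow p G)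
    (hyp : Hyp p G) : IsCyclic ↥(P : Subgroup G) := by
  have hH : IsPGroup p ↥(P : Subgroup G) := P.isPGroup'
  have htop : ∀ S : Sylow p ↥(P : Subgroup G), (S : Subgroup ↥(P : Subgroup G)) = ⊤ :=
    fun S => sylow_top_of_isPGroup hH S
  rcases hyp (P : Subgroup G) (fun S => by rw [htop S]; infer_instance) (fun S _ => by
      have h1 : Nat.card (↥(P : Subgroup G) ⧸ (S : Subgroup ↥(P : Subgroup G))) = 1 := by
        rw [← Subgroup.index_eq_card, htop S, Subgroup.index_top]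
      have := (Nat.card_eq_one_iff_unique.mp h1).1
      exact isCyclic_of_subsingleton) with h | ⟨n, ⟨e⟩⟩
  · exact h
  · exfalso
    have h2 : Nat.card ↥(P : Subgroup G) = 2 * p ^ n := by
      rw [Nat.card_congr e.toEquiv, DihedralGroup.nat_card]
    obtain ⟨k, hk⟩ := IsPGroup.iff_card.mp hH
    rw [h2] at hk
    have h3 : 2 ∣ p ^ k := ⟨p ^ n, hk.symm⟩
    have h4 := Nat.Prime.dvd_of_dvd_pow Nat.prime_two h3
    exact hp2 ((Nat.prime_dvd_prime_iff_eq Nat.prime_two hp.out).mp h4).symm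

theorem q_part [Finite G] {p : ℕ} [hp : Fact p.Prime] (hp2 : p ≠ 2) (hyp : Hyp p G)
    (Q : Subgroup G) (hQ : Nat.card Q = p) (x₀ : G)
    (hx₀N : x₀ ∈ Subgroup.normalizer (Q : Set G)) (hx₀C : x₀ ∉ Subgroup.centralizer (Q : Set G)) :
    IsMulCommutative ↥(Subgroup.centralizer (Q : Set G)) ∧
      ∀ x : G, x ∈ Subgroup.normalizer (Q : Set G) → x ∉ Subgroup.centralizer (Q : Set G) →
        orderOf x = 2 ∧ ∀ c : G, c ∈ Subgroup.centralizer (Q : Set G) → x * c * x⁻¹ = c⁻¹ := by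
  have hQp : IsPGroup p Q := IsPGroup.of_card (n := 1) (by rw [hQ, pow_one])
  have key : ∀ x : G, x ∈ Subgroup.normalizer (Q : Set G) →
      x ∉ Subgroup.centralizer (Q : Set G) →
      x * x = 1 ∧ ∀ c : G, c ∈ Subgroup.centralizer (Q : Set G) → x * c * x⁻¹ = c⁻¹ := by
    intro x hxN hxC
    obtain ⟨hxx, -⟩ := inv_of_not_centralizes hp2 hyp Q hQp x hxN hxC
    refine ⟨hxx, fun c hc => ?_⟩
    have hcN : c ∈ Subgroup.normalizer (Q : Set G) := Subgroup.centralizer_le_normalizer _ hc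
    have hxcN : x * c ∈ Subgroup.normalizer (Q : Set G) := Subgroup.mul_mem _ hxN hcN
    have hxcC : x * c ∉ Subgroup.centralizer (Q : Set G) := by
      intro h
      apply hxC
      have := Subgroup.mul_mem _ h (Subgroup.inv_mem _ hc)
      simpa using this
    obtain ⟨h1, -⟩ := inv_of_not_centralizes hp2 hyp Q hQp (x * c) hxcN hxcC
    have hxinv' : x⁻¹ = x := inv_eq_iff_mul_eq_one.mpr hxx
    calc x * c * x⁻¹ = x * c * x := by rw [hxinv']
      _ = (x * c * (x * c)) * c⁻¹ := by group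
      _ = c⁻¹ := by rw [h1, one_mul]
  constructor
  · rw [isMulCommutative_iff]
    rintro ⟨c, hc⟩ ⟨d, hd⟩
    apply Subtype.ext
    show c * d = d * c
    obtain ⟨-, hinv⟩ := key x₀ hx₀N hx₀C
    have h1 := hinv (c * d) (Subgroup.mul_mem _ hc hd)
    have h2 : x₀ * (c * d) * x₀⁻¹ = (x₀ * c * x₀⁻¹) * (x₀ * d * x₀⁻¹) := by group
    rw [h2, hinv c hc, hinv d hd, mul_inv_rev] at h1
    have h3 := congrArg (fun z => z⁻¹) h1
    simp only [mul_inv_rev, inv_inv] at h3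
    exact h3.symm
  · intro x hxN hxC
    obtain ⟨hxx, hinv⟩ := key x hxN hxC
    refine ⟨?_, hinv⟩
    apply orderOf_eq_prime
    · rw [pow_two]; exact hxx
    · rintro rfl
      exact hxC (Subgroup.one_mem _)

theorem forward [Finite G] {p : ℕ} [hp : Fact p.Prime] (hp2 : p ≠ 2) (P : Sylow p G)
    (hyp : Hyp p G) :
    IsCyclic ↥(P : Subgroup G) ∧
      (Subgroup.normalizer ((P : Subgroup G) : Set G) =
          Subgroup.centralizer ((P : Subgroup G) : Set G) ∨
       ((Subgroup.centralizer ((P : Subgroup G) : Set G)).relIndex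
          (Subgroup.normalizer ((P : Subgroup G) : Set G)) = 2 ∧
        ∀ Q : Subgroup G, Q ≤ P → Nat.card Q = p →
          IsMulCommutative ↥(Subgroup.centralizer (Q : Set G)) ∧
          ∀ x : G, x ∈ Subgroup.normalizer (Q : Set G) →
            x ∉ Subgroup.centralizer (Q : Set G) →
            orderOf x = 2 ∧
              ∀ c : G, c ∈ Subgroup.centralizer (Q : Set G) → x * c * x⁻¹ = c⁻¹)) := by
  refine ⟨isCyclic_sylow hp2 P hyp, ?_⟩
  by_cases hNC : Subgroup.normalizer ((P : Subgroup G) : Set G) =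
      Subgroup.centralizer ((P : Subgroup G) : Set G)
  · exact Or.inl hNC
  right
  have hex : ∃ x₀, x₀ ∈ Subgroup.normalizer ((P : Subgroup G) : Set G) ∧
      x₀ ∉ Subgroup.centralizer ((P : Subgroup G) : Set G) := by
    by_contra h
    push Not at h
    exact hNC (le_antisymm h (Subgroup.centralizer_le_normalizer _))
  obtain ⟨x₀, hx₀N, hx₀C⟩ := hex
  have hinvP := fun y hyN hyC =>
    inv_of_not_centralizes hp2 hyp (P : Subgroup G) P.isPGroup' y hyN hyC
  obtain ⟨hx₀x₀, hx₀inv⟩ := hinvP x₀ hx₀N hx₀C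
  constructor
  · rw [Subgroup.relIndex_eq_two_iff_exists_notMem_and']
    refine ⟨x₀, hx₀N, hx₀C, ?_⟩
    intro b hb
    by_cases hbC : b ∈ Subgroup.centralizer ((P : Subgroup G) : Set G)
    · exact Or.inr hbC
    · left
      obtain ⟨-, hbinv⟩ := hinvP b hb hbC
      rw [Subgroup.mem_centralizer_iff]
      intro r hr
      have h1 : x₀ * b * r * (x₀ * b)⁻¹ = r := by
        calc x₀ * b * r * (x₀ * b)⁻¹ = x₀ * (b * r * b⁻¹) * x₀⁻¹ := by group
          _ = x₀ * r⁻¹ * x₀⁻¹ := by rw [hbinv r hr]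
          _ = r := by rw [hx₀inv _ (Subgroup.inv_mem _ hr), inv_inv]
      calc r * (x₀ * b) = (x₀ * b * r * (x₀ * b)⁻¹) * (x₀ * b) := by rw [h1]
        _ = x₀ * b * r := by group
  · intro Q hQP hQ
    apply q_part hp2 hyp Q hQ x₀
    · apply Subgroup.mem_normalizer_fintype
      intro q hq
      rw [hx₀inv q (hQP hq)]
      exact Q.inv_mem hq
    · intro hC
      obtain ⟨q, hq⟩ := exists_prime_orderOf_dvd_card' (G := ↥Q) p (by rw [hQ])
      have h1 := (Subgroup.mem_centralizer_iff.mp hC) (q : G) q.2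
      have h2 := hx₀inv (q : G) (hQP q.2)
      have h3 : (q : G) = (q : G)⁻¹ := by
        calc (q : G) = ((q : G) * x₀) * x₀⁻¹ := by group
          _ = x₀ * (q : G) * x₀⁻¹ := by rw [h1]
          _ = (q : G)⁻¹ := h2
      have h4 : (q : G) ^ 2 = 1 := by
        rw [pow_two]
        nth_rewrite 1 [h3]
        exact inv_mul_cancel _
      have h5 : orderOf (q : G) = p := by rw [Subgroup.orderOf_coe]; exact hq
      have h6 := orderOf_dvd_of_pow_eq_one h4
      rw [h5] at h6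
      exact hp2 ((Nat.prime_dvd_prime_iff_eq hp.out Nat.prime_two).mp h6)

theorem exists_gen_of_isCyclic (S₀ : Subgroup G) (hcyc : IsCyclic ↥S₀) :
    ∃ s₀ ∈ S₀, ∀ s ∈ S₀, s ∈ Subgroup.zpowers s₀ := by
  obtain ⟨g, hg⟩ := hcyc.exists_generator
  refine ⟨g.1, g.2, ?_⟩
  intro s hs
  obtain ⟨k, hk⟩ := hg ⟨s, hs⟩
  refine ⟨k, ?_⟩
  have := congrArg Subtype.val hk
  simpa using this

/-- Pull a subgroup of a conjugate Sylow subgroup back into the Sylow subgroup. -/
theorem exists_conj_le {p : ℕ} (P : Sylow p G) (g : G) (K : Subgroup G)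
    (hKP : K ≤ ((g • P : Sylow p G) : Subgroup G)) :
    ∃ K₀ : Subgroup G, K₀ ≤ P ∧ Nat.card K₀ = Nat.card K ∧ ∀ x, x ∈ K₀ ↔ g * x * g⁻¹ ∈ K := by
  set K₀ : Subgroup G := K.map (MulAut.conj g⁻¹).toMonoidHom with hK₀
  have hmem : ∀ x, x ∈ K₀ ↔ g * x * g⁻¹ ∈ K := by
    intro x
    constructor
    · rintro ⟨k, hk, rfl⟩
      have : g * ((MulAut.conj g⁻¹).toMonoidHom k) * g⁻¹ = k := by
        simp only [MulEquiv.toMonoidHom_eq_coe, MonoidHom.coe_coe, MulAut.conj_apply]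
        group
      rw [this]; exact hk
    · intro hx
      refine ⟨g * x * g⁻¹, hx, ?_⟩
      simp only [MulEquiv.toMonoidHom_eq_coe, MonoidHom.coe_coe, MulAut.conj_apply]
      group
  refine ⟨K₀, ?_, ?_, hmem⟩
  · intro x hx
    have h1 : g * x * g⁻¹ ∈ ((g • P : Sylow p G) : Subgroup G) := hKP ((hmem x).mp hx)
    rw [Sylow.coe_subgroup_smul, Subgroup.mem_smul_pointwise_iff_exists] at h1
    obtain ⟨q, hq, hqx⟩ := h1
    have h2 : g * q * g⁻¹ = g * x * g⁻¹ := by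
      rw [← hqx]; simp [MulAut.smul_def, MulAut.conj_apply]
    have h3 : q = x := by
      have : q = g⁻¹ * (g * q * g⁻¹) * g := by group
      rw [this, h2]; group
    rw [← h3]; exact hq
  · exact Nat.card_congr
      (K.equivMapOfInjective _ (MulAut.conj g⁻¹).injective).symm.toEquiv

/-- Transport of the condition on `Q` along conjugation. -/
theorem cond_conj [Finite G] (g : G) (Q₀ Q : Subgroup G)
    (hmem : ∀ x, x ∈ Q ↔ g * x * g⁻¹ ∈ Q₀)
    (hcomm : IsMulCommutative ↥(Subgroup.centralizer (Q : Set G)))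
    (hinv : ∀ x : G, x ∈ Subgroup.normalizer (Q : Set G) →
      x ∉ Subgroup.centralizer (Q : Set G) →
      orderOf x = 2 ∧ ∀ c : G, c ∈ Subgroup.centralizer (Q : Set G) → x * c * x⁻¹ = c⁻¹) :
    (∀ a ∈ Subgroup.centralizer (Q₀ : Set G), ∀ b ∈ Subgroup.centralizer (Q₀ : Set G),
      a * b = b * a) ∧
    (∀ x : G, x ∈ Subgroup.normalizer (Q₀ : Set G) →
      x ∉ Subgroup.centralizer (Q₀ : Set G) →
      x * x = 1 ∧ ∀ c : G, c ∈ Subgroup.centralizer (Q₀ : Set G) → x * c * x⁻¹ = c⁻¹) := by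
  have hmem' : ∀ k, k ∈ Q₀ → g⁻¹ * k * g ∈ Q := by
    intro k hk
    rw [hmem]
    have : g * (g⁻¹ * k * g) * g⁻¹ = k := by group
    rw [this]; exact hk
  have hC : ∀ x, x ∈ Subgroup.centralizer (Q₀ : Set G) ↔
      g⁻¹ * x * g ∈ Subgroup.centralizer (Q : Set G) := by
    intro x
    rw [Subgroup.mem_centralizer_iff, Subgroup.mem_centralizer_iff]
    constructor
    · intro h k' hk'
      have h1 := h (g * k' * g⁻¹) ((hmem k').mp hk')
      calc k' * (g⁻¹ * x * g) = g⁻¹ * ((g * k' * g⁻¹) * x) * g := by group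
        _ = g⁻¹ * (x * (g * k' * g⁻¹)) * g := by rw [h1]
        _ = g⁻¹ * x * g * k' := by group
    · intro h k hk
      have h1 := h (g⁻¹ * k * g) (hmem' k hk)
      calc k * x = g * ((g⁻¹ * k * g) * (g⁻¹ * x * g)) * g⁻¹ := by group
        _ = g * ((g⁻¹ * x * g) * (g⁻¹ * k * g)) * g⁻¹ := by rw [h1]
        _ = x * k := by group
  have hN : ∀ x, x ∈ Subgroup.normalizer (Q₀ : Set G) →
      g⁻¹ * x * g ∈ Subgroup.normalizer (Q : Set G) := by
    intro x hx
    apply Subgroup.mem_normalizer_fintype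
    intro k' hk'
    show g⁻¹ * x * g * k' * (g⁻¹ * x * g)⁻¹ ∈ Q
    rw [hmem]
    have h1 : g * (g⁻¹ * x * g * k' * (g⁻¹ * x * g)⁻¹) * g⁻¹ = x * (g * k' * g⁻¹) * x⁻¹ := by
      group
    rw [h1]
    exact (Subgroup.mem_normalizer_iff.mp hx _).mp ((hmem k').mp hk')
  constructor
  · intro a ha b hb
    have h1 := (isMulCommutative_iff.mp hcomm) ⟨_, (hC a).mp ha⟩ ⟨_, (hC b).mp hb⟩
    have h2 : (g⁻¹ * a * g) * (g⁻¹ * b * g) = (g⁻¹ * b * g) * (g⁻¹ * a * g) :=
      congrArg Subtype.val h1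
    calc a * b = g * ((g⁻¹ * a * g) * (g⁻¹ * b * g)) * g⁻¹ := by group
      _ = g * ((g⁻¹ * b * g) * (g⁻¹ * a * g)) * g⁻¹ := by rw [h2]
      _ = b * a := by group
  · intro x hxN hxC
    obtain ⟨h2, h3⟩ := hinv (g⁻¹ * x * g) (hN x hxN) (fun h => hxC ((hC x).mpr h))
    constructor
    · have h4 : (g⁻¹ * x * g) ^ 2 = 1 := by rw [← h2]; exact pow_orderOf_eq_one _
      calc x * x = g * (g⁻¹ * x * g) ^ 2 * g⁻¹ := by rw [pow_two]; group
        _ = 1 := by rw [h4]; group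
    · intro c hc
      have h4 := h3 (g⁻¹ * c * g) ((hC c).mp hc)
      calc x * c * x⁻¹ = g * ((g⁻¹ * x * g) * (g⁻¹ * c * g) * (g⁻¹ * x * g)⁻¹) * g⁻¹ := by group
        _ = g * (g⁻¹ * c * g)⁻¹ * g⁻¹ := by rw [h4]
        _ = c⁻¹ := by group

theorem backward [Finite G] {p : ℕ} [hp : Fact p.Prime] (P : Sylow p G)
    (hPc : IsCyclic ↥(P : Subgroup G))
    (hcond : Subgroup.normalizer ((P : Subgroup G) : Set G) =
          Subgroup.centralizer ((P : Subgroup G) : Set G) ∨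
       ((Subgroup.centralizer ((P : Subgroup G) : Set G)).relIndex
          (Subgroup.normalizer ((P : Subgroup G) : Set G)) = 2 ∧
        ∀ Q : Subgroup G, Q ≤ P → Nat.card Q = p →
          IsMulCommutative ↥(Subgroup.centralizer (Q : Set G)) ∧
          ∀ x : G, x ∈ Subgroup.normalizer (Q : Set G) →
            x ∉ Subgroup.centralizer (Q : Set G) →
            orderOf x = 2 ∧
              ∀ c : G, c ∈ Subgroup.centralizer (Q : Set G) → x * c * x⁻¹ = c⁻¹)) :
    Hyp p G := by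
  intro H h1 h2
  obtain ⟨S⟩ : Nonempty (Sylow p ↥H) := inferInstance
  have hSn := h1 S
  have hcyc := @h2 S hSn
  obtain ⟨c, m', d⟩ := exists_data H S hSn hcyc
  set S₀ := (S : Subgroup ↥H).map H.subtype with hS₀
  have hS₀p : IsPGroup p S₀ := S.isPGroup'.map _
  obtain ⟨P', hP'⟩ := hS₀p.exists_le_sylow
  obtain ⟨g, hg⟩ := MulAction.exists_smul_eq G P P'
  have hP'c : IsCyclic ↥(P' : Subgroup G) := by
    rw [← hg]; exact (MulEquiv.isCyclic (Sylow.equivSMul P g)).mp hPc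
  have hS₀c : IsCyclic ↥S₀ := Subgroup.isCyclic_of_le hP'
  obtain ⟨s₀, hs₀, hgen⟩ := exists_gen_of_isCyclic S₀ hS₀c
  rcases hcond with hNC | ⟨-, hQ⟩
  · left
    have hP : Subgroup.normalizer ((P : Subgroup G) : Set G) ≤
        Subgroup.centralizer ((P : Subgroup G) : Set G) := le_of_eq hNC
    set K := (MonoidHom.transferSylow P hP).ker with hK
    have hcK : c ∈ K := by
      rw [hK, MonoidHom.mem_ker]
      have h1 : (MonoidHom.transferSylow P hP c) ^ m' = 1 := by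
        rw [← map_pow, d.cpow, map_one]
      obtain ⟨k, hk⟩ := P.isPGroup' (MonoidHom.transferSylow P hP c)
      exact eq_one_of_coprime d.cop h1 hk
    have hdisj := MonoidHom.ker_transferSylow_disjoint P hP S₀ hS₀p
    have h3 : c * s₀ * c⁻¹ * s₀⁻¹ ∈ K ⊓ S₀ := by
      constructor
      · have : c * s₀ * c⁻¹ * s₀⁻¹ = c * (s₀ * c⁻¹ * s₀⁻¹) := by group
        rw [this]
        exact K.mul_mem hcK ((MonoidHom.normal_ker _).conj_mem _ (K.inv_mem hcK) s₀)
      · exact S₀.mul_mem (d.norm c d.cH s₀ hs₀) (S₀.inv_mem hs₀)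
    rw [hdisj.eq_bot, Subgroup.mem_bot] at h3
    have hcs : c * s₀ * c⁻¹ = s₀ := by
      calc c * s₀ * c⁻¹ = (c * s₀ * c⁻¹ * s₀⁻¹) * s₀ := by group
        _ = s₀ := by rw [h3, one_mul]
    exact cyclic_case d s₀ hs₀ hgen hcs
  · by_cases hs₀1 : s₀ = 1
    · left
      exact cyclic_case d s₀ hs₀ hgen (by rw [hs₀1]; group)
    · obtain ⟨k, hk⟩ := d.pgrp s₀ hs₀
      obtain ⟨n, -, hn⟩ := (Nat.dvd_prime_pow hp.out).mp (orderOf_dvd_of_pow_eq_one hk)
      have hn1 : 1 ≤ n := by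
        rcases Nat.eq_zero_or_pos n with rfl | h
        · exfalso; apply hs₀1; rw [pow_zero] at hn; exact orderOf_eq_one_iff.mp hn
        · exact h
      set q₀ := s₀ ^ (p ^ (n - 1)) with hq₀
      have hq₀o : orderOf q₀ = p := by
        rw [hq₀, orderOf_pow_of_dvd (pow_ne_zero _ hp.out.ne_zero)
          (by rw [hn]; exact pow_dvd_pow p (Nat.sub_le n 1)), hn,
          Nat.pow_div (Nat.sub_le n 1) hp.out.pos]
        have : n - (n - 1) = 1 := by omega
        rw [this, pow_one]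
      set Q₀ := Subgroup.zpowers q₀ with hQ₀
      have hQ₀card : Nat.card Q₀ = p := by rw [hQ₀, Nat.card_zpowers, hq₀o]
      have hq₀S : q₀ ∈ S₀ := S₀.pow_mem hs₀ _
      have hQ₀S : Q₀ ≤ S₀ := Subgroup.zpowers_le.mpr hq₀S
      have hQ₀P' : Q₀ ≤ ((g • P : Sylow p G) : Subgroup G) := by
        rw [hg]; exact hQ₀S.trans hP'
      obtain ⟨Q, hQP, hQcard, hQmem⟩ := exists_conj_le P g Q₀ hQ₀P'
      obtain ⟨hQcomm, hQinv⟩ := hQ Q hQP (by rw [hQcard, hQ₀card])
      obtain ⟨hA, hB⟩ := cond_conj g Q₀ Q hQmem hQcomm hQinv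
      have hSC : ∀ s ∈ S₀, s ∈ Subgroup.centralizer (Q₀ : Set G) := by
        intro s hs
        rw [Subgroup.mem_centralizer_iff]
        intro u hu
        obtain ⟨i, rfl⟩ := Subgroup.mem_zpowers_iff.mp (hgen s hs)
        obtain ⟨j, rfl⟩ := Subgroup.mem_zpowers_iff.mp hu
        exact ((((Commute.refl s₀).pow_left (p ^ (n - 1))).zpow_left j).zpow_right i).eq
      have hcN : c ∈ Subgroup.normalizer (Q₀ : Set G) := by
        apply Subgroup.mem_normalizer_fintype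
        intro u hu
        obtain ⟨j, rfl⟩ := Subgroup.mem_zpowers_iff.mp hu
        obtain ⟨i, hi⟩ := Subgroup.mem_zpowers_iff.mp (hgen _ (d.norm c d.cH s₀ hs₀))
        show c * q₀ ^ j * c⁻¹ ∈ Q₀
        have h1 : c * q₀ * c⁻¹ = q₀ ^ i := by
          rw [hq₀, ← conj_pow, ← hi, ← zpow_natCast, ← zpow_natCast, ← zpow_mul, ← zpow_mul,
            mul_comm]
        rw [← conj_zpow, h1]
        exact Subgroup.zpow_mem _ (Subgroup.zpow_mem _ (Subgroup.mem_zpowers q₀) _) _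
      by_cases hcC : c ∈ Subgroup.centralizer (Q₀ : Set G)
      · left
        have h1 := hA c hcC s₀ (hSC s₀ hs₀)
        exact cyclic_case d s₀ hs₀ hgen (by rw [h1]; group)
      · right
        obtain ⟨hcc, hcinv⟩ := hB c hcN hcC
        obtain ⟨e⟩ := dihedral_case d s₀ hs₀ hgen hcc (hcinv s₀ (hSC s₀ hs₀))
          (fun h => hcC (hSC c h))
        rw [hn] at e
        exact ⟨n, ⟨e⟩⟩

/-- Let p be an odd prime and G a finite group with Sylow p-subgroup P. Say that G has restricted p-by-cyclic subgroups when every subgroup H of G whose Sylow p-subgroup is normal in H with cyclic quotient is itself cyclic or dihedral of order 2pⁿ for some n. Then G has restricted p-by-cyclic subgroups if and only if P is cyclic and one of the following holds: (1) N_G(P) = C_G(P); or (2) N_G(P)/C_G(P) has order 2 and, for the subgroup Q of order p of P, the centralizer C_G(Q) is abelian and every element of N_G(Q) outside C_G(Q) is an involution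 inverting every element of C_G(Q). -/
theorem result {G : Type*} [Group G] [Finite G] {p : ℕ}
    [Fact p.Prime] (hp : p ≠ 2) (P : Sylow p G) :
    (∀ H : Subgroup G, (∀ S : Sylow p ↥H, (S : Subgroup ↥H).Normal) →
        (∀ (S : Sylow p ↥H) [(S : Subgroup ↥H).Normal], IsCyclic (↥H ⧸ (S : Subgroup ↥H))) →
        IsCyclic H ∨ (∃ n : ℕ, Nonempty (H ≃* DihedralGroup (p ^ n)))) ↔
    (IsCyclic P ∧
      (Subgroup.normalizer ((P : Subgroup G) : Set G) = Subgroup.centralizer ((P : Subgroup G) : Set G) ∨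
       ((Subgroup.centralizer ((P : Subgroup G) : Set G)).relIndex (Subgroup.normalizer ((P : Subgroup G) : Set G)) = 2 ∧
        ∀ Q : Subgroup G, Q ≤ P → Nat.card Q = p →
          IsMulCommutative ↥(Subgroup.centralizer (Q : Set G)) ∧
          ∀ x : G, x ∈ Subgroup.normalizer (Q : Set G) → x ∉ Subgroup.centralizer (Q : Set G) →
            orderOf x = 2 ∧ ∀ c : G, c ∈ Subgroup.centralizer (Q : Set G) → x * c * x⁻¹ = c⁻¹))) := by
  constructor
  · intro hyp
    exact forward hp P hyp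
  · rintro ⟨hPc, hcond⟩
    exact backward P hPc hcond

end Cfsg.Agent.S4082
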