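import Cfsg.Statements.S1256
import Mathlib
import Cfsg.Agent.S3864
import Cfsg.Agent.S4082

set_option autoImplicit false
open Cfsg

namespace Cfsg.Agent.S1256

open Cfsg.Agent.S1255 Cfsg.Agent.S0514 Cfsg.Agent.S3864 Cfsg.Agent.Lib.Helper38
open scoped Pointwise

variable {G : Type*} [Group G]

theorem mem_map_conj (U : Subgroup G) (x y : G) :
    y ∈ U.map (MulAut.conj x).toMonoidHom ↔ x⁻¹ * y * x ∈ U := by
  constructor
  · rintro ⟨k, hk, rfl⟩
    have : x⁻¹ * ((MulAut.conj x).toMonoidHom k) * x = k := by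
      simp only [MulEquiv.toMonoidHom_eq_coe, MonoidHom.coe_coe, MulAut.conj_apply]
      group
    rw [this]; exact hk
  · intro h
    refine ⟨x⁻¹ * y * x, h, ?_⟩
    simp only [MulEquiv.toMonoidHom_eq_coe, MonoidHom.coe_coe, MulAut.conj_apply]
    group

theorem card_map_conj (U : Subgroup G) (x : G) :
    Nat.card (U.map (MulAut.conj x).toMonoidHom) = Nat.card U :=
  Nat.card_congr (U.equivMapOfInjective _ (MulAut.conj x).injective).symm.toEquiv

theorem isKleinFour_of_card_of_sq (T : Subgroup G) (h4 : Nat.card T = 4)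
    (hsq : ∀ t ∈ T, t * t = 1) : IsKleinFour T := by
  refine ⟨h4, ?_⟩
  have h1 : Monoid.exponent ↥T ∣ 2 := by
    apply Monoid.exponent_dvd_of_forall_pow_eq_one
    rintro ⟨x, hx⟩
    apply Subtype.ext
    simp only [Subgroup.coe_one, pow_two]
    exact hsq x hx
  rcases (Nat.dvd_prime Nat.prime_two).mp h1 with h | h
  · exfalso
    rw [Monoid.exp_eq_one_iff] at h
    have := Nat.card_eq_one_iff_unique.mpr ⟨h, ⟨1⟩⟩
    omega
  · exact h

/-- `4 ∣ m` when the Sylow 2-subgroup is dihedral of order `2m > 4`. -/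
theorem four_dvd_of_sylow [Finite G] (S : Sylow 2 G) (m : ℕ)
    (e : (S : Subgroup G) ≃* DihedralGroup m) (h4 : 4 < Nat.card (S : Subgroup G)) : 4 ∣ m := by
  have hf2 : Fact (Nat.Prime 2) := ⟨Nat.prime_two⟩
  have h1 : Nat.card (S : Subgroup G) = 2 * m := by
    rw [Nat.card_congr e.toEquiv, DihedralGroup.nat_card]
  have h2 := S.card_eq_multiplicity
  rw [h1] at h2 h4
  generalize (Nat.card G).factorization 2 = k at h2
  rcases k with _ | _ | _ | k
  · omega
  · simp at h2; omega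
  · simp at h2; omega
  · rw [pow_succ, pow_succ, pow_succ] at h2
    exact ⟨2 ^ k, by omega⟩

theorem zz_central (P : Subgroup G) (m : ℕ) (he : Even m) (e : P ≃* DihedralGroup m) {x : G}
    (hx : x ∈ P) : zz P m e * x = x * zz P m e := by
  rw [← el_apply P m e x hx]
  unfold zz
  rw [← el_mul, ← el_mul]
  congr 1
  have hh := half_add_half m he
  generalize e ⟨x, hx⟩ = w
  rcases w with k | k
  · rw [DihedralGroup.r_mul_r, DihedralGroup.r_mul_r, add_comm]
  · rw [DihedralGroup.r_mul_sr, DihedralGroup.sr_mul_r]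
    congr 1
    have : (k - ((m / 2 : ℕ) : ZMod m)) = k + ((m / 2 : ℕ) : ZMod m) -
        (((m / 2 : ℕ) : ZMod m) + ((m / 2 : ℕ) : ZMod m)) := by ring
    rw [this, hh, sub_zero]

theorem ss_mul_self (P : Subgroup G) (m : ℕ) (e : P ≃* DihedralGroup m) (i : ZMod m) :
    ss P m e i * ss P m e i = 1 := by
  rw [← pow_two, ← ss_orderOf P m e i]; exact pow_orderOf_eq_one _

theorem ss_ne_one (P : Subgroup G) (m : ℕ) (e : P ≃* DihedralGroup m) (i : ZMod m) :
    ss P m e i ≠ 1 := by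
  intro h
  have := ss_orderOf P m e i
  rw [h, orderOf_one] at this
  norm_num at this

theorem zz_ne_ss (P : Subgroup G) (m : ℕ) (e : P ≃* DihedralGroup m) (i : ZMod m) :
    zz P m e ≠ ss P m e i := by
  intro h
  exact ss_not_mem_rotS P m e i (h ▸ zz_mem_rotS P m e)

/-- The four-group `{1, z, s_i, z s_i}`. -/
noncomputable def UU (P : Subgroup G) (m : ℕ) (hm : 2 ≤ m) (he : Even m) (e : P ≃* DihedralGroup m)
    (i : ZMod m) : Subgroup G :=
  klein4 (zz P m e) (ss P m e i) (zz_mul_self P m hm he e) (ss_mul_self P m e i)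
    (zz_central P m he e (ss_mem P m e i))

theorem mem_UU (P : Subgroup G) (m : ℕ) (hm : 2 ≤ m) (he : Even m) (e : P ≃* DihedralGroup m)
    (i : ZMod m) (x : G) : x ∈ UU P m hm he e i ↔
      (x = 1 ∨ x = zz P m e ∨ x = ss P m e i ∨ x = zz P m e * ss P m e i) := Iff.rfl

theorem isKleinFour_UU (P : Subgroup G) (m : ℕ) (hm : 2 ≤ m) (he : Even m)
    (e : P ≃* DihedralGroup m) (i : ZMod m) : IsKleinFour (UU P m hm he e i) :=
  isKleinFour_klein4 _ _ _ _ _ (zz_ne_one P m hm he e) (ss_ne_one P m e i) (zz_ne_ss P m e i)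

theorem UU_le (P : Subgroup G) (m : ℕ) (hm : 2 ≤ m) (he : Even m) (e : P ≃* DihedralGroup m)
    (i : ZMod m) : UU P m hm he e i ≤ P := by
  intro x hx
  rcases hx with rfl | rfl | rfl | rfl
  · exact P.one_mem
  · exact zz_mem P m e
  · exact ss_mem P m e i
  · exact P.mul_mem (zz_mem P m e) (ss_mem P m e i)

theorem smul_eq_map (U : Subgroup G) (x : G) :
    MulAut.conj x • U = U.map (MulAut.conj x).toMonoidHom := by
  ext y
  rw [mem_map_conj, Subgroup.mem_pointwise_smul_iff_inv_smul_mem]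
  simp only [MulAut.smul_def, MulAut.conj_inv_apply]

/-- When `|S| = 4`, all four-subgroups are Sylow subgroups, hence conjugate. -/
theorem part_card_four [Finite G] (S : Sylow 2 G) (h4 : Nat.card (S : Subgroup G) = 4)
    (U V : Subgroup G) (hU : IsKleinFour U) (hV : IsKleinFour V) :
    ∃ x : G, U.map (MulAut.conj x).toMonoidHom = V := by
  have hf2 : Fact (Nat.Prime 2) := ⟨Nat.prime_two⟩
  have hc := S.card_eq_multiplicity
  rw [h4] at hc
  have hUc : Nat.card U = 2 ^ (Nat.card G).factorization 2 := by rw [← hc]; exact hU.card_four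
  have hVc : Nat.card V = 2 ^ (Nat.card G).factorization 2 := by rw [← hc]; exact hV.card_four
  obtain ⟨x, hx⟩ := MulAction.exists_smul_eq G (Sylow.ofCard U hUc) (Sylow.ofCard V hVc)
  refine ⟨x, ?_⟩
  have h1 : ((x • Sylow.ofCard U hUc : Sylow 2 G) : Subgroup G) = V := by rw [hx]; rfl
  rw [Sylow.coe_subgroup_smul] at h1
  rw [← smul_eq_map]
  exact h1

/-- Every four-subgroup is conjugate to `UU 0` or to `UU 1`. -/
theorem part_conj [Finite G] (S : Sylow 2 G) (m : ℕ) (hm : 2 ≤ m) (he : Even m)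
    (e : (S : Subgroup G) ≃* DihedralGroup m) (V : Subgroup G) (hV : IsKleinFour V) :
    (∃ x : G, V.map (MulAut.conj x).toMonoidHom = UU (S : Subgroup G) m hm he e 0) ∨
    (∃ x : G, V.map (MulAut.conj x).toMonoidHom = UU (S : Subgroup G) m hm he e 1) := by
  have hf2 : Fact (Nat.Prime 2) := ⟨Nat.prime_two⟩
  have hne : NeZero m := ⟨by omega⟩
  have hVp : IsPGroup 2 V := IsPGroup.of_card (n := 2) hV.card_four
  obtain ⟨Q, hQ⟩ := hVp.exists_le_sylow
  obtain ⟨g, hg⟩ := MulAction.exists_smul_eq G S Q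
  obtain ⟨V₀, hV₀P, hV₀card, hV₀mem⟩ := Cfsg.Agent.S4082.exists_conj_le S g V (hg ▸ hQ)
  have hV₀ : IsKleinFour V₀ :=
    isKleinFour_of_card_of_sq V₀ (hV₀card.trans hV.card_four) (fun t ht => by
      have := IsKleinFour_mul_self V hV ((hV₀mem t).mp ht)
      calc t * t = g⁻¹ * ((g * t * g⁻¹) * (g * t * g⁻¹)) * g := by group
        _ = 1 := by rw [this]; group)
  obtain ⟨hzV, i, hiV, hall⟩ := four_structure S m hm he e V₀ hV₀P hV₀
  obtain ⟨p, hpP, hp⟩ := ss_conj (S : Subgroup G) m e i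
  have hpz : p * zz (S : Subgroup G) m e * p⁻¹ = zz (S : Subgroup G) m e := by
    have := zz_central (S : Subgroup G) m he e hpP
    calc p * zz (S : Subgroup G) m e * p⁻¹ = (zz (S : Subgroup G) m e * p) * p⁻¹ := by rw [this]
      _ = zz (S : Subgroup G) m e := by group
  have key : ∀ j, p * ss (S : Subgroup G) m e i * p⁻¹ = ss (S : Subgroup G) m e j →
      V.map (MulAut.conj (p * g⁻¹)).toMonoidHom = UU (S : Subgroup G) m hm he e j := by
    intro j hj
    apply Subgroup.eq_of_le_of_card_ge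
    · intro y hy
      rw [mem_map_conj] at hy
      have h1 : p⁻¹ * y * p ∈ V₀ := by
        rw [hV₀mem]
        have : g * (p⁻¹ * y * p) * g⁻¹ = (p * g⁻¹)⁻¹ * y * (p * g⁻¹) := by group
        rw [this]; exact hy
      have hy' : y = p * (p⁻¹ * y * p) * p⁻¹ := by group
      rw [mem_UU]
      rcases hall _ h1 with h | h | h | h
      · left; rw [hy', h]; group
      · right; left; rw [hy', h]; exact hpz
      · right; right; left; rw [hy', h, hj]
      · right; right; right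
        rw [hy', h]
        calc p * (zz (S : Subgroup G) m e * ss (S : Subgroup G) m e i) * p⁻¹
            = (p * zz (S : Subgroup G) m e * p⁻¹) * (p * ss (S : Subgroup G) m e i * p⁻¹) := by
              group
          _ = zz (S : Subgroup G) m e * ss (S : Subgroup G) m e j := by rw [hpz, hj]
    · rw [card_map_conj, hV.card_four, (isKleinFour_UU (S : Subgroup G) m hm he e j).card_four]
  rcases hp with hp | hp
  · left; exact ⟨_, key 0 hp⟩
  · right; exact ⟨_, key 1 hp⟩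

/-- Sylow's theorem inside a subgroup `C` containing the Sylow subgroup `Q`. -/
theorem sylow_conj_in [Finite G] (C : Subgroup G) (Q : Sylow 2 G) (hQC : (Q : Subgroup G) ≤ C)
    (R : Subgroup G) (hRC : R ≤ C) (hR : IsPGroup 2 R) :
    ∃ c ∈ C, ∀ r ∈ R, c⁻¹ * r * c ∈ (Q : Subgroup G) := by
  have hf2 : Fact (Nat.Prime 2) := ⟨Nat.prime_two⟩
  have hRp : IsPGroup 2 (R.subgroupOf C) := hR.of_equiv (Subgroup.subgroupOfEquivOfLe hRC).symm
  obtain ⟨Q', hQ'⟩ := hRp.exists_le_sylow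
  obtain ⟨c, hc⟩ := MulAction.exists_smul_eq ↥C (Q.subtype hQC) Q'
  refine ⟨c, c.2, ?_⟩
  intro r hr
  have h1 : (⟨r, hRC hr⟩ : ↥C) ∈ ((c • Q.subtype hQC : Sylow 2 ↥C) : Subgroup ↥C) := by
    rw [hc]; exact hQ' (Subgroup.mem_subgroupOf.mpr hr)
  rw [Sylow.coe_subgroup_smul, Subgroup.mem_pointwise_smul_iff_inv_smul_mem] at h1
  simp only [MulAut.smul_def, MulAut.conj_inv_apply] at h1
  rw [Sylow.coe_subtype, Subgroup.mem_subgroupOf] at h1
  simpa using h1

theorem conj_sr_zero (m : ℕ) (w : DihedralGroup m) (j : ZMod m)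
    (h : w * DihedralGroup.sr 0 * w⁻¹ = DihedralGroup.sr j) : ∃ k : ZMod m, j = k + k := by
  rcases w with k | k
  · rw [r_conj_sr] at h
    injection h with h
    exact ⟨-k, by rw [← h]; ring⟩
  · rw [sr_conj_sr] at h
    injection h with h
    exact ⟨k, by rw [← h]; ring⟩

theorem half_eq_quarter (m : ℕ) (hm4 : 4 ∣ m) :
    ((m / 2 : ℕ) : ZMod m) = ((m / 4 : ℕ) : ZMod m) + ((m / 4 : ℕ) : ZMod m) := by
  obtain ⟨q, rfl⟩ := hm4
  have h1 : 4 * q / 2 = q + q := by omega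
  have h2 : 4 * q / 4 = q := by omega
  rw [h1, h2]; push_cast; ring

/-- No element of `P` conjugates `s₀` into `UU 1`. -/
theorem no_P_conj (P : Subgroup G) (m : ℕ) (hm : 2 ≤ m) (he : Even m) (hm4 : 4 ∣ m)
    (e : P ≃* DihedralGroup m) (u : G) (hu : u ∈ P)
    (h : u * ss P m e 0 * u⁻¹ ∈ UU P m hm he e 1) : False := by
  rw [mem_UU] at h
  rcases h with h | h | h | h
  · apply ss_ne_one P m e 0
    calc ss P m e 0 = u⁻¹ * (u * ss P m e 0 * u⁻¹) * u := by group
      _ = 1 := by rw [h]; group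
  · apply zz_ne_ss P m e 0
    have hc := zz_central P m he e hu
    calc zz P m e = u⁻¹ * (zz P m e * u) := by rw [hc]; group
      _ = u⁻¹ * (u * ss P m e 0 * u⁻¹) * u := by rw [h]; group
      _ = ss P m e 0 := by group
  · rw [← el_apply P m e u hu] at h
    unfold ss at h
    rw [el_conj] at h
    obtain ⟨k, hk⟩ := conj_sr_zero m _ _ (el_injective P m e h)
    exact add_self_ne_one m he k hk.symm
  · rw [zz_mul_ss, ← el_apply P m e u hu] at h
    unfold ss at h
    rw [el_conj] at h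
    obtain ⟨k, hk⟩ := conj_sr_zero m _ _ (el_injective P m e h)
    apply add_self_ne_one m he (k + ((m / 4 : ℕ) : ZMod m))
    rw [half_eq_quarter m hm4] at hk
    calc k + ((m / 4 : ℕ) : ZMod m) + (k + ((m / 4 : ℕ) : ZMod m))
        = (k + k) + (((m / 4 : ℕ) : ZMod m) + ((m / 4 : ℕ) : ZMod m)) := by ring
      _ = 1 := by rw [← hk]; ring

/-- An element centralizing `z` cannot conjugate `s₀` into `UU 1`. -/
theorem step3 [Finite G] (S : Sylow 2 G) (m : ℕ) (hm : 2 ≤ m) (he : Even m) (hm4 : 4 ∣ m)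
    (e : (S : Subgroup G) ≃* DihedralGroup m) (g : G)
    (hgz : g * zz (S : Subgroup G) m e * g⁻¹ = zz (S : Subgroup G) m e)
    (hg : g * ss (S : Subgroup G) m e 0 * g⁻¹ ∈ UU (S : Subgroup G) m hm he e 1) : False := by
  have hf2 : Fact (Nat.Prime 2) := ⟨Nat.prime_two⟩
  have hmemC : ∀ x, x ∈ Subgroup.centralizer ({zz (S : Subgroup G) m e} : Set G) ↔
      zz (S : Subgroup G) m e * x = x * zz (S : Subgroup G) m e := by
    intro x
    rw [Subgroup.mem_centralizer_iff]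
    simp
  have hPC : (S : Subgroup G) ≤ Subgroup.centralizer ({zz (S : Subgroup G) m e} : Set G) :=
    fun x hx => (hmemC x).mpr (zz_central _ m he e hx)
  have hgC : g ∈ Subgroup.centralizer ({zz (S : Subgroup G) m e} : Set G) := by
    rw [hmemC]
    calc zz (S : Subgroup G) m e * g = (g * zz (S : Subgroup G) m e * g⁻¹) * g := by rw [hgz]
      _ = g * zz (S : Subgroup G) m e := by group
  obtain ⟨N, hNn, hNodd, k, hk⟩ := result_aux S m hm e (zz (S : Subgroup G) m e)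
    (zz_orderOf _ m hm he e) (Subgroup.centralizer ({zz (S : Subgroup G) m e} : Set G))
    (fun x hx => ((hmemC x).mp hx).symm)
  have hcompl : N.IsComplement' ((S.subtype hPC : Sylow 2
      ↥(Subgroup.centralizer ({zz (S : Subgroup G) m e} : Set G))) : Subgroup
      ↥(Subgroup.centralizer ({zz (S : Subgroup G) m e} : Set G))) := by
    obtain ⟨j, hj⟩ := IsPGroup.iff_card.mp (S.subtype hPC).isPGroup'
    have hidx := (S.subtype hPC).not_dvd_index
    have h1 := N.card_mul_index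
    have h2 := ((S.subtype hPC : Sylow 2
      ↥(Subgroup.centralizer ({zz (S : Subgroup G) m e} : Set G))) : Subgroup
      ↥(Subgroup.centralizer ({zz (S : Subgroup G) m e} : Set G))).card_mul_index
    rw [hk] at h1
    rw [hj] at h2
    have hcopN : ∀ i : ℕ, Nat.Coprime (2 ^ i) (Nat.card N) :=
      fun i => Nat.Coprime.pow_left i hNodd.coprime_two_left
    have hcopI : ∀ i : ℕ, Nat.Coprime (2 ^ i) ((S.subtype hPC : Sylow 2
        ↥(Subgroup.centralizer ({zz (S : Subgroup G) m e} : Set G))) : Subgroup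
        ↥(Subgroup.centralizer ({zz (S : Subgroup G) m e} : Set G))).index :=
      fun i => Nat.Coprime.pow_left i ((Nat.Prime.coprime_iff_not_dvd Nat.prime_two).mpr hidx)
    have hjk : 2 ^ j = 2 ^ k := by
      apply Nat.dvd_antisymm
      · apply (hcopN j).dvd_of_dvd_mul_left
        rw [h1, ← h2]; exact Dvd.intro _ rfl
      · apply (hcopI k).dvd_of_dvd_mul_right
        rw [h2, ← h1]; exact Dvd.intro_left _ rfl
    apply Subgroup.isComplement'_of_coprime
    · rw [hj, hjk]; exact h1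
    · rw [hj]; exact (hcopN j).symm
  have hs0 : ss (S : Subgroup G) m e 0 ∈ (S : Subgroup G) := ss_mem _ m e 0
  have hy : g * ss (S : Subgroup G) m e 0 * g⁻¹ ∈ (S : Subgroup G) := UU_le _ m hm he e 1 hg
  obtain ⟨u, huP, huu⟩ := conj_in_sylow (S.subtype hPC) N hNn hcompl
    (x := ⟨ss (S : Subgroup G) m e 0, hPC hs0⟩)
    (y := ⟨g * ss (S : Subgroup G) m e 0 * g⁻¹, hPC hy⟩)
    (by rw [Sylow.coe_subtype, Subgroup.mem_subgroupOf]; exact hs0)
    (by rw [Sylow.coe_subtype, Subgroup.mem_subgroupOf]; exact hy) ⟨g, hgC⟩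
    (Subtype.ext (by simp))
  have huP' : (u : G) ∈ (S : Subgroup G) := by
    rw [Sylow.coe_subtype, Subgroup.mem_subgroupOf] at huP; exact huP
  have huu' : (u : G) * ss (S : Subgroup G) m e 0 * (u : G)⁻¹ =
      g * ss (S : Subgroup G) m e 0 * g⁻¹ := by
    have := congrArg Subtype.val huu
    simpa using this
  exact no_P_conj _ m hm he hm4 e u huP' (huu' ▸ hg)

/-- If `UU 0` and `UU 1` are conjugate, the conjugating element can be chosen in `C(z)`. -/
theorem step2 [Finite G] (S : Sylow 2 G) (m : ℕ) (hm : 2 ≤ m) (he : Even m) (hm4 : 4 ∣ m)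
    (e : (S : Subgroup G) ≃* DihedralGroup m) (x : G)
    (hx : (UU (S : Subgroup G) m hm he e 0).map (MulAut.conj x).toMonoidHom =
      UU (S : Subgroup G) m hm he e 1) :
    ∃ g : G, g * zz (S : Subgroup G) m e * g⁻¹ = zz (S : Subgroup G) m e ∧
      g * ss (S : Subgroup G) m e 0 * g⁻¹ ∈ UU (S : Subgroup G) m hm he e 1 := by
  have hf2 : Fact (Nat.Prime 2) := ⟨Nat.prime_two⟩
  have hne : NeZero m := ⟨by omega⟩
  obtain ⟨P, hP⟩ : ∃ P : Subgroup G, P = (S : Subgroup G) := ⟨_, rfl⟩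
  obtain ⟨z, hz⟩ : ∃ z : G, z = zz (S : Subgroup G) m e := ⟨_, rfl⟩
  obtain ⟨s₀, hs₀⟩ : ∃ s₀ : G, s₀ = ss (S : Subgroup G) m e 0 := ⟨_, rfl⟩
  obtain ⟨U₀, hU₀⟩ : ∃ U₀ : Subgroup G, U₀ = UU (S : Subgroup G) m hm he e 0 := ⟨_, rfl⟩
  obtain ⟨U₁, hU₁d⟩ : ∃ U₁ : Subgroup G, U₁ = UU (S : Subgroup G) m hm he e 1 := ⟨_, rfl⟩
  rw [← hz, ← hs₀, ← hU₁d]
  rw [← hU₀, ← hU₁d] at hx
  have hK₁ : IsKleinFour U₁ := hU₁d ▸ isKleinFour_UU (S : Subgroup G) m hm he e 1
  have hU₁P : U₁ ≤ (S : Subgroup G) := hU₁d ▸ UU_le (S : Subgroup G) m hm he e 1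
  have hzcent : ∀ v ∈ (S : Subgroup G), z * v = v * z := fun v hv =>
    hz ▸ zz_central (S : Subgroup G) m he e hv
  have hzz : z * z = 1 := hz ▸ zz_mul_self (S : Subgroup G) m hm he e
  have hz2 : orderOf z = 2 := hz ▸ zz_orderOf (S : Subgroup G) m hm he e
  have hmemU₁ : ∀ u, u ∈ U₁ ↔ (u = 1 ∨ u = z ∨ u = ss (S : Subgroup G) m e 1 ∨
      u = z * ss (S : Subgroup G) m e 1) := by
    intro u; rw [hU₁d, hz]; exact mem_UU _ m hm he e 1 u
  have hxU : ∀ v ∈ U₀, x * v * x⁻¹ ∈ U₁ := by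
    intro v hv
    rw [← hx, mem_map_conj]
    have : x⁻¹ * (x * v * x⁻¹) * x = v := by group
    rw [this]; exact hv
  have hzU₀ : z ∈ U₀ := by rw [hU₀, hz]; exact Or.inr (Or.inl rfl)
  have hs₀U₀ : s₀ ∈ U₀ := by rw [hU₀, hs₀]; exact Or.inr (Or.inr (Or.inl rfl))
  have hzU₁ : z ∈ U₁ := (hmemU₁ z).mpr (Or.inr (Or.inl rfl))
  obtain ⟨t', ht'⟩ : ∃ t' : G, t' = x * z * x⁻¹ := ⟨_, rfl⟩
  have ht'U : t' ∈ U₁ := ht' ▸ hxU z hzU₀
  by_cases htz : t' = z
  · exact ⟨x, by rw [← ht', htz], hxU s₀ hs₀U₀⟩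
  have ht'1 : t' ≠ 1 := by
    intro h
    have : z = x⁻¹ * t' * x := by rw [ht']; group
    rw [h] at this
    have hz1 : z = 1 := by rw [this]; group
    rw [hz1, orderOf_one] at hz2
    omega
  have ht'P : t' ∈ (S : Subgroup G) := hU₁P ht'U
  have ht't' : t' * t' = 1 := IsKleinFour_mul_self U₁ hK₁ ht'U
  have ht'z : t' * z = z * t' := (hzcent t' ht'P).symm
  have hzt'U₁ : z * t' ∈ U₁ := U₁.mul_mem hzU₁ ht'U
  have hU₁ : ∀ u ∈ U₁, u = 1 ∨ u = z ∨ u = t' ∨ u = z * t' := by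
    intro u hu
    rw [hmemU₁] at hu
    rcases (hmemU₁ t').mp ht'U with h | h | h | h
    · exact absurd h ht'1
    · exact absurd h htz
    · rw [h]; exact hu
    · have h2 : z * t' = ss (S : Subgroup G) m e 1 := by rw [h, ← mul_assoc, hzz, one_mul]
      rcases hu with hu | hu | hu | hu
      · left; exact hu
      · right; left; exact hu
      · right; right; right; rw [h2]; exact hu
      · right; right; left; rw [h]; exact hu
  obtain ⟨j, hj⟩ : ∃ j, t' = ss (S : Subgroup G) m e j := by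
    rcases (hmemU₁ t').mp ht'U with h | h | h | h
    · exact absurd h ht'1
    · exact absurd h htz
    · exact ⟨1, h⟩
    · exact ⟨1 - ((m / 2 : ℕ) : ZMod m), by rw [h, hz, zz_mul_ss]⟩
  obtain ⟨ρ, hρ⟩ : ∃ ρ : G, ρ = el (S : Subgroup G) m e
      (DihedralGroup.r ((m / 4 : ℕ) : ZMod m)) := ⟨_, rfl⟩
  have hρP : ρ ∈ (S : Subgroup G) := hρ ▸ el_mem (S : Subgroup G) m e _
  have hρz : ρ * z * ρ⁻¹ = z := by
    have := hzcent ρ hρP
    calc ρ * z * ρ⁻¹ = (z * ρ) * ρ⁻¹ := by rw [this]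
      _ = z := by group
  have hρss : ∀ i, ρ * ss (S : Subgroup G) m e i * ρ⁻¹ = z * ss (S : Subgroup G) m e i := by
    intro i
    rw [hz, zz_mul_ss, hρ]
    unfold ss
    rw [el_conj, r_conj_sr, half_eq_quarter m hm4]
    congr 2
    ring
  have hQC : ((x • S : Sylow 2 G) : Subgroup G) ≤ Subgroup.centralizer ({t'} : Set G) := by
    intro y hy
    rw [Sylow.coe_subgroup_smul, Subgroup.mem_pointwise_smul_iff_inv_smul_mem] at hy
    simp only [MulAut.smul_def, MulAut.conj_inv_apply] at hy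
    rw [Subgroup.mem_centralizer_iff]
    intro h hh
    rw [Set.mem_singleton_iff] at hh
    rw [hh]
    have hc := hzcent _ hy
    calc t' * y = x * (z * (x⁻¹ * y * x)) * x⁻¹ := by rw [ht']; group
      _ = x * ((x⁻¹ * y * x) * z) * x⁻¹ := by rw [hc]
      _ = y * t' := by rw [ht']; group
  have hRC : U₁ ≤ Subgroup.centralizer ({t'} : Set G) := by
    intro u hu
    rw [Subgroup.mem_centralizer_iff]
    intro h hh
    rw [Set.mem_singleton_iff] at hh
    rw [hh]
    exact IsKleinFour_comm U₁ hK₁ ht'U hu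
  have hRp : IsPGroup 2 U₁ := IsPGroup.of_card (n := 2) hK₁.card_four
  obtain ⟨c, hcC, hc⟩ := sylow_conj_in _ (x • S) hQC U₁ hRC hRp
  have hct' : c * t' * c⁻¹ = t' := by
    have := (Subgroup.mem_centralizer_iff.mp hcC) t' rfl
    calc c * t' * c⁻¹ = (t' * c) * c⁻¹ := by rw [this]
      _ = t' := by group
  have hg'P : ∀ r ∈ U₁, (c * x)⁻¹ * r * (c * x) ∈ (S : Subgroup G) := by
    intro r hr
    have h1 := hc r hr
    rw [Sylow.coe_subgroup_smul, Subgroup.mem_pointwise_smul_iff_inv_smul_mem] at h1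
    simp only [MulAut.smul_def, MulAut.conj_inv_apply] at h1
    have : (c * x)⁻¹ * r * (c * x) = x⁻¹ * (c⁻¹ * r * c) * x := by group
    rw [this]; exact h1
  have hg'z : (c * x) * z * (c * x)⁻¹ = t' := by
    calc (c * x) * z * (c * x)⁻¹ = c * (x * z * x⁻¹) * c⁻¹ := by group
      _ = t' := by rw [← ht']; exact hct'
  obtain ⟨a, ha⟩ : ∃ a : G, a = (c * x)⁻¹ * z * (c * x) := ⟨_, rfl⟩
  have haP : a ∈ (S : Subgroup G) := ha ▸ hg'P z hzU₁
  have haz : a ≠ z := by
    intro h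
    apply htz
    calc t' = (c * x) * z * (c * x)⁻¹ := hg'z.symm
      _ = (c * x) * a * (c * x)⁻¹ := by rw [h]
      _ = z := by rw [ha]; group
  have ha2 : orderOf a = 2 := by
    have : a = (c * x)⁻¹ * z * ((c * x)⁻¹)⁻¹ := by rw [ha, inv_inv]
    rw [this, Cfsg.Agent.S0107.orderOf_conj']
    exact hz2
  have har : a ∉ rotS (S : Subgroup G) m e := fun h =>
    haz (rotS_involution_unique (S : Subgroup G) m e h (hz ▸ zz_mem_rotS (S : Subgroup G) m e)
      ha2 hz2)
  obtain ⟨i, hi⟩ : ∃ i, a = ss (S : Subgroup G) m e i := by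
    rw [mem_rotS (S : Subgroup G) m e _ haP] at har
    have hrep := el_apply (S : Subgroup G) m e a haP
    rcases hy : e ⟨a, haP⟩ with i | i
    · exact absurd ⟨i, hy⟩ har
    · exact ⟨i, by rw [← hrep, hy]; rfl⟩
  have hρa : ρ * a * ρ⁻¹ = z * a := by rw [hi]; exact hρss i
  obtain ⟨y, hy⟩ : ∃ y : G, y = (c * x) * ρ * (c * x)⁻¹ := ⟨_, rfl⟩
  have hg't' : (c * x)⁻¹ * t' * (c * x) = z := by rw [← hg'z]; group
  have hyt' : y * t' * y⁻¹ = t' := by
    calc y * t' * y⁻¹ = (c * x) * (ρ * ((c * x)⁻¹ * t' * (c * x)) * ρ⁻¹) * (c * x)⁻¹ := by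
          rw [hy]; group
      _ = (c * x) * z * (c * x)⁻¹ := by rw [hg't', hρz]
      _ = t' := hg'z
  have hyz : y * z * y⁻¹ = t' * z := by
    calc y * z * y⁻¹ = (c * x) * (ρ * a * ρ⁻¹) * (c * x)⁻¹ := by rw [hy, ha]; group
      _ = (c * x) * (z * a) * (c * x)⁻¹ := by rw [hρa]
      _ = ((c * x) * z * (c * x)⁻¹) * ((c * x) * a * (c * x)⁻¹) := by group
      _ = t' * z := by rw [hg'z, ha]; group
  have hρt' : ρ * t' * ρ⁻¹ = z * t' := by rw [hj]; exact hρss j
  have hnt' : (y * ρ) * t' * (y * ρ)⁻¹ = z := by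
    calc (y * ρ) * t' * (y * ρ)⁻¹ = y * (ρ * t' * ρ⁻¹) * y⁻¹ := by group
      _ = y * (z * t') * y⁻¹ := by rw [hρt']
      _ = (y * z * y⁻¹) * (y * t' * y⁻¹) := by group
      _ = t' * z * t' := by rw [hyz, hyt']
      _ = z := by rw [ht'z, mul_assoc, ht't', mul_one]
  have hnz : (y * ρ) * z * (y * ρ)⁻¹ = t' * z := by
    calc (y * ρ) * z * (y * ρ)⁻¹ = y * (ρ * z * ρ⁻¹) * y⁻¹ := by group
      _ = t' * z := by rw [hρz, hyz]
  refine ⟨(y * ρ) * x, ?_, ?_⟩
  · calc (y * ρ) * x * z * ((y * ρ) * x)⁻¹ = (y * ρ) * (x * z * x⁻¹) * (y * ρ)⁻¹ := by group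
      _ = z := by rw [← ht']; exact hnt'
  · have hv := hxU s₀ hs₀U₀
    have h0 : (y * ρ) * x * s₀ * ((y * ρ) * x)⁻¹ = (y * ρ) * (x * s₀ * x⁻¹) * (y * ρ)⁻¹ := by
      group
    rw [h0]
    rcases hU₁ _ hv with h | h | h | h
    · rw [h]
      have : (y * ρ) * 1 * (y * ρ)⁻¹ = 1 := by group
      rw [this]; exact U₁.one_mem
    · rw [h, hnz, ht'z]; exact hzt'U₁
    · rw [h, hnt']; exact hzU₁
    · rw [h]
      have : (y * ρ) * (z * t') * (y * ρ)⁻¹ =
          ((y * ρ) * z * (y * ρ)⁻¹) * ((y * ρ) * t' * (y * ρ)⁻¹) := by group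
      rw [this, hnz, hnt', mul_assoc, hzz, mul_one]; exact ht'U

/-- Let X be a finite group whose Sylow 2-subgroup S is dihedral of order 2m ≥ 4. If |S| = 4, any two Klein four-subgroups of X are conjugate; if |S| > 4, there are Klein four-subgroups U₁, U₂ of X that are not conjugate, and every Klein four-subgroup of X is conjugate to U₁ or to U₂. -/
theorem result {X : Type*} [Group X] [Finite X] (S : Sylow 2 X) (m : ℕ) (hm : 2 ≤ m) (eS : (S : Subgroup X) ≃* DihedralGroup m) : (Nat.card S = 4 → ∀ U V : Subgroup X, IsKleinFour U → IsKleinFour V → (∃ x : X, U.map (MulAut.conj x).toMonoidHom = V)) ∧ (4 < Nat.card S → ∃ U₁ U₂ : Subgroup X, IsKleinFour U₁ ∧ IsKleinFour U₂ ∧ ¬ (∃ x : X, U₁.map (MulAut.conj x).toMonoidHom = U₂) ∧ ∀ V : Subgroup X, IsKleinFour V → (∃ x : X, V.map (MulAut.conj x).toMonoidHom = U₁) ∨ (∃ x : X, V.map (MulAut.conj x).toMonoidHom = U₂)) := by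
  have he : Even m := even_of_sylow S m hm eS
  constructor
  · intro h4 U V hU hV
    exact part_card_four S h4 U V hU hV
  · intro h4
    have hm4 : 4 ∣ m := four_dvd_of_sylow S m eS h4
    refine ⟨UU (S : Subgroup X) m hm he eS 0, UU (S : Subgroup X) m hm he eS 1,
      isKleinFour_UU _ m hm he eS 0, isKleinFour_UU _ m hm he eS 1, ?_, ?_⟩
    · rintro ⟨x, hx⟩
      obtain ⟨g, hgz, hg⟩ := step2 S m hm he hm4 eS x hx
      exact step3 S m hm he hm4 eS g hgz hg
    · intro V hV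
      exact part_conj S m hm he eS V hV

end Cfsg.Agent.S1256
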