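import Cfsg.Statements.S1270
import Cfsg.Agent.Lib.Helper31.Diagonal

set_option autoImplicit false
open Cfsg

namespace Cfsg.Agent.S1270

open Cfsg.Agent.Lib.Helper31 in
/-- Let G be finite with O_{p'}(G) = 1, x of order p, and L a component with ⁅L, ⟨x⟩⁆ ≠ L. Then ⁅L, O_{p'}(C_G(x))⁆ = 1. -/
theorem result {G : Type*} [Group G] [Finite G] (p : ℕ) [Fact p.Prime] (hO : Cfsg.pPrimeCore p G = ⊥) (x : G) (hx : orderOf x = p) (L : Subgroup G) (hL : Cfsg.IsComponent L) (hne : ⁅L, Subgroup.zpowers x⁆ ≠ L) : ⁅L, Cfsg.centralizerPPrimeCore p x⁆ = ⊥ := by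
  have hxp : x ^ p = 1 := by rw [← hx]; exact pow_orderOf_eq_one x
  by_cases hxL : x ∈ Subgroup.normalizer (L : Set G)
  · -- `x` normalizes `L`: then `x` centralizes `L`
    have hA : Subgroup.zpowers x ≤ Subgroup.normalizer (L : Set G) := Subgroup.zpowers_le.mpr hxL
    rcases commutator_eq_self_or_eq_bot_of_le_normalizer hL hA with h | h
    · exact absurd h hne
    · rw [Subgroup.commutator_eq_bot_iff_le_centralizer,
        ← centralizer_singleton_eq_centralizer_zpowers] at h
      exact commutator_centralizerPPrimeCore_eq_bot_of_le_centralizer hO hL h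
  · -- `x` moves `L`: the diagonal argument
    exact commutator_eq_bot_of_not_mem_normalizer hO hxp hL hxL
      (card_centralizerPPrimeCore_coprime p x)
      (fun w hw => commute_of_mem_centralizerPPrimeCore hw)
      (fun g hg => mem_normalizer_centralizerPPrimeCore_of_commute hg)
      (centralizerPPrimeCore_le_normalizer_component hO hxp hL)

end Cfsg.Agent.S1270
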