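import Cfsg.Statements.S1271
-- import your own Cfsg.Agent.* helpers here

import Cfsg.Agent.Lib.Helper31.BalanceLocal

set_option autoImplicit false
open Cfsg

namespace Cfsg.Agent.S1271

open Cfsg.Agent.Lib.Helper31 in
/-- Let G be finite with O_{p'}(G) = 1. Suppose that for every component L of G and every subgroup H ≥ L in which L is normal, the quotient H / C_H(L) is balanced for the prime p. Then G is balanced for p. -/
theorem result {G : Type*} [Group G] [Finite G] (p : ℕ) [Fact p.Prime] (hO : Cfsg.pPrimeCore p G = ⊥) (h : ∀ L : Subgroup G, Cfsg.IsComponent L → ∀ H : Subgroup G, L ≤ H → (L.subgroupOf H).Normal → ∀ [((Subgroup.centralizer (L : Set G)).subgroupOf H).Normal], Cfsg.IsBalancedFor p (↥H ⧸ (Subgroup.centralizer (L : Set G)).subgroupOf H)) : Cfsg.IsBalancedFor p G := by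
  intro x hx
  have hxp : x ^ p = 1 := by rw [← hx]; exact pow_orderOf_eq_one x
  rw [hO]
  apply le_of_eq
  apply eq_bot_of_centralizes_pCore_and_components hO (card_centralizerPPrimeCore_coprime p x)
    (centralizerPPrimeCore_le_centralizer_pCore hxp)
  intro K hK
  by_cases hxN : x ∈ Subgroup.normalizer (K : Set G)
  · by_cases hxC : x ∈ Subgroup.centralizer (K : Set G)
    · apply commutator_centralizerPPrimeCore_eq_bot_of_le_centralizer hO hK
      intro y hy
      rw [Subgroup.mem_centralizer_iff] at hxC ⊢
      intro t ht
      rw [Set.mem_singleton_iff] at ht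
      rw [ht]
      exact (hxC y hy).symm
    · exact commutator_centralizerPPrimeCore_eq_bot_of_balanced_quotient hO hxp hK hxN hxC (h K hK)
  · exact commutator_eq_bot_of_not_mem_normalizer hO hxp hK hxN
      (card_centralizerPPrimeCore_coprime p x)
      (fun w hw => commute_of_mem_centralizerPPrimeCore hw)
      (fun g hg => mem_normalizer_centralizerPPrimeCore_of_commute hg)
      (centralizerPPrimeCore_le_normalizer_component hO hxp hK)

end Cfsg.Agent.S1271
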