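import Cfsg.Statements.S1273
import Cfsg.Agent.Lib.Helper22.PComponents2

set_option autoImplicit false
open Cfsg

namespace Cfsg.Agent.S1273

open Cfsg.Agent.Lib.Helper22

/-- A `p`-component is generated by its `p`-elements. -/
theorem pPrimeResidual_pComponent_eq_top {X : Type*} [Group X] [Finite X] (p : ℕ) [Fact p.Prime]
    (K : Subgroup X) (hK : Cfsg.IsPComponent p K) : pPrimeResidual p ↥K = ⊤ := by
  have hKeq := pComponent_eq_pComponentOver p hK
  rw [pComponentOver_eq_closure] at hKeq
  rw [eq_top_iff]
  intro x _
  have hx : (x : X) ∈ (pPrimeResidual p ↥K).map K.subtype := by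
    have hle : K ≤ (pPrimeResidual p ↥K).map K.subtype := by
      conv_lhs => rw [hKeq]
      rw [Subgroup.closure_le]
      rintro g ⟨hg, k, hk⟩
      have hgK : g ∈ K := by
        rw [hKeq]
        exact Subgroup.subset_closure ⟨hg, k, hk⟩
      refine ⟨⟨g, hgK⟩, ?_, rfl⟩
      apply mem_pPrimeResidual_of_pow_eq_one (k := k)
      exact Subtype.ext (by simpa using hk)
    exact hle x.2
  obtain ⟨y, hy, hyx⟩ := hx
  have : y = x := Subtype.ext hyx
  rwa [← this]

/-- Let K be a p-component of the finite group X and N a normal subgroup of K whose index in K is prime to p. Then N = K. -/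
theorem result {X : Type*} [Group X] [Finite X] (p : ℕ) [Fact p.Prime] (K : Subgroup X) (hK : Cfsg.IsPComponent p K) (N : Subgroup ↥K) [N.Normal] (hidx : (N.index).Coprime p) : N = ⊤ := by
  have hN : N.IsSubnormal := Subgroup.Normal.isSubnormal inferInstance
  have hle := pPrimeResidual_le_of_isSubnormal_of_index_coprime hN hidx
  rw [pPrimeResidual_pComponent_eq_top p K hK] at hle
  exact top_le_iff.1 hle

end Cfsg.Agent.S1273
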