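import Cfsg.Statements.S1274
import Cfsg.Agent.Lib.Helper22.PComponents2

set_option autoImplicit false
open Cfsg

namespace Cfsg.Agent.S1274

open Cfsg.Agent.Lib.Helper22

/-- The `p`-layer normalizes every `p`-component. -/
theorem pLayer_le_normalizer_pComponent {X : Type*} [Group X] [Finite X] (p : ℕ) [Fact p.Prime]
    (K : Subgroup X) (hK : Cfsg.IsPComponent p K) :
    Cfsg.pLayer p X ≤ Subgroup.normalizer (K : Set X) := by
  unfold Cfsg.pLayer
  apply sSup_le
  intro L hL
  by_cases hne : K = L
  · subst hne
    exact Subgroup.le_normalizer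
  · have h := pComponent_commutator_le p hK hL hne
    exact Subgroup.le_normalizer_iff_commutator_le_left.mpr
      (h.trans (inf_le_left.trans inf_le_right))

/-- A p-component K of the finite group X is a normal subgroup of L_{p'}(X). -/
theorem result {X : Type*} [Group X] [Finite X] (p : ℕ) [Fact p.Prime] (K : Subgroup X) (hK : Cfsg.IsPComponent p K) : (K.subgroupOf (Cfsg.pLayer p X)).Normal := by
  exact Subgroup.normal_subgroupOf_of_le_normalizer (pLayer_le_normalizer_pComponent p K hK)

end Cfsg.Agent.S1274
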