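import Cfsg.Statements.S1277
import Cfsg.Agent.Lib.Helper22.ComponentsMap

set_option autoImplicit false
open Cfsg
open scoped commutatorElement

namespace Cfsg.Agent.S1277


open Cfsg.Agent.Lib.Helper22

/-- For a finite group X with core O(X): the image of E(X) in X / O(X) is all of E(X / O(X)) if and only if every 2-component of X is a component, i.e. L_{2'}(X) ≤ E(X). -/
theorem result {X : Type*} [Group X] [Finite X] : (Cfsg.layer X).map (QuotientGroup.mk' (Cfsg.oddCore X)) = Cfsg.layer (X ⧸ Cfsg.oddCore X) ↔ Cfsg.pLayer 2 X ≤ Cfsg.layer X := by
  haveI : Fact (Nat.Prime 2) := ⟨Nat.prime_two⟩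
  show (layer X).map (QuotientGroup.mk' (pPrimeCore 2 X)) = layer (X ⧸ pPrimeCore 2 X) ↔ _
  set π := QuotientGroup.mk' (pPrimeCore 2 X) with hπ
  have hsurj : Function.Surjective π := QuotientGroup.mk'_surjective _
  constructor
  · intro h
    apply sSup_le
    intro K hK
    have hKbar : IsComponent (K.map π) := hK.2.1
    -- some component of `X` maps onto the image of `K`
    have hex : ∃ L : Subgroup X, IsComponent L ∧ L.map π = K.map π := by
      by_contra hcon
      push Not at hcon
      have h1 : (layer X).map π ≤ Subgroup.centralizer (K.map π : Set (X ⧸ pPrimeCore 2 X)) := by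
        unfold layer
        rw [sSup_eq_iSup, Subgroup.map_iSup]
        refine iSup_le fun L => ?_
        rw [Subgroup.map_iSup]
        refine iSup_le fun hL => ?_
        rw [← Subgroup.commutator_eq_bot_iff_le_centralizer]
        rcases component_map_of_surjective hL hsurj with h0 | h0
        · rw [h0, Subgroup.commutator_bot_left]
        · exact component_commutator_eq_bot_of_ne h0 hKbar (hcon L hL)
      have h2 : K.map π ≤ Subgroup.centralizer (K.map π : Set (X ⧸ pPrimeCore 2 X)) := by
        refine le_trans ?_ h1
        rw [h]
        exact component_le_layer hKbar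
      rw [← Subgroup.commutator_eq_bot_iff_le_centralizer, component_commutator_self hKbar] at h2
      exact component_ne_bot hKbar h2
    obtain ⟨L, hL, hLK⟩ := hex
    rw [pComponent_eq_pComponentOver 2 hK]
    exact (pComponentOver_le_of_map_eq 2 hL.1 hLK).trans (component_le_layer hL)
  · intro h
    apply le_antisymm (layer_map_le_of_surjective hsurj)
    rw [← pLayer_map_eq_layer 2]
    exact Subgroup.map_mono h

end Cfsg.Agent.S1277
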