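import Cfsg.Statements.S1278
import Cfsg.Agent.Lib.Helper22.PComponents2

set_option autoImplicit false
open Cfsg
open scoped commutatorElement

namespace Cfsg.Agent.S1278


open Cfsg.Agent.Lib.Helper22

/-- Let K ≠ L be 2-components of the finite group X. Then ⁅K, L⁆ ≤ O(K) ⊓ O(L), and if K is quasisimple then ⁅K, L⁆ = 1. -/
theorem result {X : Type*} [Group X] [Finite X] (K L : Subgroup X) (hK : Cfsg.IsPComponent 2 K) (hL : Cfsg.IsPComponent 2 L) (hne : K ≠ L) : ⁅K, L⁆ ≤ ((Cfsg.oddCore ↥K).map K.subtype) ⊓ ((Cfsg.oddCore ↥L).map L.subtype) ∧ (Cfsg.IsQuasisimple ↥K → ⁅K, L⁆ = ⊥) := by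
  haveI : Fact (Nat.Prime 2) := ⟨Nat.prime_two⟩
  have h1 := pComponent_commutator_le 2 hK hL hne
  constructor
  · show ⁅K, L⁆ ≤ (pPrimeCore 2 K).map K.subtype ⊓ (pPrimeCore 2 L).map L.subtype
    rw [pComponent_pPrimeCore_map 2 hK, pComponent_pPrimeCore_map 2 hL]
    refine le_inf (h1.trans ?_) (h1.trans ?_)
    · exact inf_le_left
    · exact le_inf (inf_le_left.trans inf_le_left) inf_le_right
  · intro hq
    have hKc : IsComponent K := ⟨hK.1, hq⟩
    rcases component_le_or_commutator_eq_bot hKc hL.1 with h | h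
    · exfalso
      -- then the image of `K` is a subnormal subgroup of the quasisimple image of `L`
      set π := QuotientGroup.mk' (pPrimeCore 2 X) with hπ
      have hle : K.map π ≤ L.map π := Subgroup.map_mono h
      have hsn : ((K.map π).subgroupOf (L.map π)).IsSubnormal := hK.2.1.1.subgroupOf
      rcases quasisimple_subnormal_le_center_or_eq_top hL.2.1.2 hsn with h2 | h2
      · have h3 : ⁅K.map π, K.map π⁆ = ⊥ := by
          rw [eq_bot_iff, Subgroup.commutator_le]
          intro a ha b hb
          have hac : (⟨a, hle ha⟩ : L.map π) ∈ Subgroup.center (L.map π) := h2 ha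
          rw [Subgroup.mem_center_iff] at hac
          have := hac ⟨b, hle hb⟩
          rw [Subgroup.mem_bot, commutatorElement_eq_one_iff_mul_comm]
          exact (congrArg Subtype.val this).symm
        rw [component_commutator_self hK.2.1] at h3
        exact component_ne_bot hK.2.1 h3
      · rw [Subgroup.subgroupOf_eq_top] at h2
        exact hne (pComponent_eq_of_map_eq 2 hK hL (le_antisymm hle h2))
    · exact h

end Cfsg.Agent.S1278
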