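import Cfsg.Statements.S1279
import Cfsg.Agent.Lib.Helper22.SolvableLocal

set_option autoImplicit false
open Cfsg
open scoped commutatorElement

namespace Cfsg.Agent.S1279


open Cfsg.Agent.Lib.Helper22

theorem cpc_eq {G : Type*} [Group G] (p : ℕ) (a : G) :
    centralizerPPrimeCore p a = Cfsg.Agent.Lib.Helper54.relK p (Subgroup.centralizer ({a} : Set G)) :=
  rfl

theorem cpc_le {G : Type*} [Group G] (p : ℕ) (a : G) :
    centralizerPPrimeCore p a ≤ Subgroup.centralizer ({a} : Set G) :=
  Subgroup.map_subtype_le _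

theorem cpc_card {G : Type*} [Group G] [Finite G] (p : ℕ) (a : G) :
    (Nat.card (centralizerPPrimeCore p a)).Coprime p := by
  rw [cpc_eq]
  exact Cfsg.Agent.Lib.Helper54.card_relK_coprime p _

theorem cpc_normalizer {G : Type*} [Group G] (p : ℕ) (a : G) :
    Subgroup.centralizer ({a} : Set G) ≤ Subgroup.normalizer (centralizerPPrimeCore p a : Set G) := by
  rw [cpc_eq]
  exact Cfsg.Agent.Lib.Helper54.le_normalizer_relK p _

theorem balance {G : Type*} [Group G] [Finite G] (p : ℕ) [Fact p.Prime] (a b : G)
    (hab : a * b = b * a) (hap : a ^ p = 1)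
    (hsolv : Group.IsSolvable ↥(Subgroup.centralizer ({b} : Set G))) :
    centralizerPPrimeCore p a ⊓ Subgroup.centralizer {b} ≤ centralizerPPrimeCore p b := by
  rintro x ⟨hxa, hxb⟩
  -- work in H = C_G(b)
  have hconstr : IsPConstrained p ↥(Subgroup.centralizer ({b} : Set G)) :=
    isPConstrained_of_isSolvable p hsolv
  have haH : a ∈ Subgroup.centralizer ({b} : Set G) := by
    rw [Subgroup.mem_centralizer_iff]
    intro h hh
    rw [Set.mem_singleton_iff] at hh
    subst hh
    exact hab.symm
  obtain ⟨H, hH⟩ : ∃ H : Subgroup G, H = Subgroup.centralizer ({b} : Set G) := ⟨_, rfl⟩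
  have hmain : (⟨x, hxb⟩ : ↥(Subgroup.centralizer ({b} : Set G))) ∈
      pPrimeCore p ↥(Subgroup.centralizer ({b} : Set G)) := by
    have hTp : IsPGroup p (Subgroup.zpowers
        (⟨a, haH⟩ : ↥(Subgroup.centralizer ({b} : Set G)))) := by
      rw [IsPGroup]
      rintro ⟨t, ht⟩
      obtain ⟨k, rfl⟩ := Subgroup.mem_zpowers_iff.mp ht
      refine ⟨1, ?_⟩
      apply Subtype.ext
      apply Subtype.ext
      simp only [pow_one, Subgroup.coe_pow, Subgroup.coe_zpow, Subgroup.coe_one]
      rw [← zpow_natCast, ← zpow_mul, mul_comm, zpow_mul, zpow_natCast, hap, one_zpow]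
    -- the subgroup X = (θ a ⊓ H) inside H
    refine le_pPrimeCore_of_normal_centralizer p hconstr _ hTp
      ((centralizerPPrimeCore p a).subgroupOf (Subgroup.centralizer ({b} : Set G))) ?_ ?_ ?_ ?_
    · -- coprime card
      have h1 : Nat.card ((centralizerPPrimeCore p a).subgroupOf
          (Subgroup.centralizer ({b} : Set G))) ∣ Nat.card (centralizerPPrimeCore p a) :=
        Subgroup.card_comap_dvd_of_injective _ _ (Subgroup.subtype_injective _)
      exact Nat.Coprime.coprime_dvd_left h1 (cpc_card p a)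
    · -- X ≤ C(T)
      intro z hz
      rw [Subgroup.zpowers_eq_closure, Subgroup.centralizer_closure, Subgroup.mem_centralizer_iff]
      intro h hh
      rw [Set.mem_singleton_iff] at hh
      subst hh
      apply Subtype.ext
      simp only [Subgroup.coe_mul]
      have hz' : (z : G) ∈ Subgroup.centralizer ({a} : Set G) :=
        cpc_le p a (Subgroup.mem_subgroupOf.mp hz)
      exact (Subgroup.mem_centralizer_iff.mp hz') a rfl
    · -- C(T) ≤ N(X)
      intro y hy
      rw [Subgroup.zpowers_eq_closure, Subgroup.centralizer_closure,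
        Subgroup.mem_centralizer_iff] at hy
      have hy1 := hy ⟨a, haH⟩ rfl
      have hya : (y : G) ∈ Subgroup.centralizer ({a} : Set G) := by
        rw [Subgroup.mem_centralizer_iff]
        intro h hh
        rw [Set.mem_singleton_iff] at hh
        subst hh
        have := congrArg Subtype.val hy1
        simpa using this
      have hyn := cpc_normalizer p a hya
      rw [Subgroup.mem_normalizer_iff]
      intro h
      rw [Subgroup.mem_subgroupOf, Subgroup.mem_subgroupOf]
      have := (Subgroup.mem_normalizer_iff.mp hyn) (h : G)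
      simpa using this
    · exact Subgroup.mem_subgroupOf.mpr hxa
  exact ⟨⟨x, hxb⟩, hmain, rfl⟩

/-- Let A be a noncyclic elementary abelian p-subgroup of the finite group G such that C_G(a) is solvable for every non-identity a ∈ A. Then a ↦ O_{p'}(C_G(a)) is a solvable A-signalizer functor on G. -/
theorem result {G : Type*} [Group G] [Finite G] (p : ℕ) [Fact p.Prime] (A : Subgroup G) (hA : Cfsg.IsElementaryAbelian p A) (hA2 : p ^ 2 ≤ Nat.card ↥A) (hsolv : ∀ a ∈ A, a ≠ 1 → Group.IsSolvable ↥(Subgroup.centralizer ({a} : Set G))) : Cfsg.IsSolvableSignalizerFunctor p A (fun a => Cfsg.centralizerPPrimeCore p a) := by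
  have hcomm : ∀ a ∈ A, ∀ b ∈ A, a * b = b * a := by
    intro a ha b hb
    haveI := hA.1
    have := mul_comm' (⟨a, ha⟩ : ↥A) ⟨b, hb⟩
    exact congrArg Subtype.val this
  have hmemC : ∀ a ∈ A, ∀ b ∈ A, b ∈ Subgroup.centralizer ({a} : Set G) := by
    intro a ha b hb
    rw [Subgroup.mem_centralizer_iff]
    intro h hh
    rw [Set.mem_singleton_iff] at hh
    subst hh
    exact hcomm h ha b hb
  refine ⟨⟨?_, ?_, ?_, ?_⟩, ?_⟩
  · intro a _ _
    exact cpc_le p a
  · intro a _ _
    have h := cpc_card p a
    exact ((Nat.Prime.coprime_iff_not_dvd (Fact.out : p.Prime)).mp h.symm)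
  · intro a ha _ b hb x hx
    have hb' := cpc_normalizer p a (hmemC a ha b hb)
    exact (Subgroup.mem_normalizer_iff.mp hb' x).mp hx
  · intro a ha _ b hb hb1
    exact balance p a b (hcomm a ha b hb) (hA.2 a ha) (hsolv b hb hb1)
  · intro a ha ha1
    haveI := hsolv a ha ha1
    exact Group.isSolvable_of_isSolvable_injective (f := Subgroup.inclusion (cpc_le p a))
      (Subgroup.inclusion_injective _)

end Cfsg.Agent.S1279
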