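import Cfsg.Statements.S1280
import Cfsg.Agent.Lib.Helper22.Solvable
import Cfsg.Agent.S0030

set_option autoImplicit false
open Cfsg
open scoped commutatorElement

namespace Cfsg.Agent.S1280


open Cfsg.Agent.Lib.Helper22

/-- Let θ be a solvable A-signalizer functor (A a noncyclic elementary abelian p-subgroup of the finite group G), and X, Y members of its family with Y ≤ N_G(X). Then X ⊔ Y (= XY) is again in the family. -/
theorem result {G : Type*} [Group G] [Finite G] (p : ℕ) [Fact p.Prime] (A : Subgroup G) (hA : Cfsg.IsElementaryAbelian p A) (hA2 : p ^ 2 ≤ Nat.card ↥A) (θ : G → Subgroup G) (hθ : Cfsg.IsSolvableSignalizerFunctor p A θ) (X Y : Subgroup G) (hX : X ∈ Cfsg.signalizerFamily p A θ) (hY : Y ∈ Cfsg.signalizerFamily p A θ) (hn : Y ≤ Subgroup.normalizer (X : Set G)) : X ⊔ Y ∈ Cfsg.signalizerFamily p A θ := by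
  obtain ⟨hXs, hXp, hXA, hXθ⟩ := hX
  obtain ⟨hYs, hYp, hYA, hYθ⟩ := hY
  have hpp : p.Prime := Fact.out
  have hKp : ¬ p ∣ Nat.card (X ⊔ Y : Subgroup G) := by
    intro h
    have := h.trans (card_sup_dvd_mul_of_le_normalizer hn)
    rcases (Nat.Prime.dvd_mul hpp).mp this with h1 | h1
    · exact hXp h1
    · exact hYp h1
  have hXnorm : A ≤ Subgroup.normalizer (X : Set G) :=
    Subgroup.le_normalizer_iff.mpr hXA
  have hYnorm : A ≤ Subgroup.normalizer (Y : Set G) :=
    Subgroup.le_normalizer_iff.mpr hYA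
  have hKA : ∀ b ∈ A, ∀ u ∈ X ⊔ Y, b * u * b⁻¹ ∈ X ⊔ Y := by
    intro b hb u hu
    have h1 : (X ⊔ Y).map (MulAut.conj b).toMonoidHom ≤ X ⊔ Y := by
      rw [Subgroup.map_sup]
      apply sup_le_sup
      · rintro _ ⟨x, hx, rfl⟩; exact hXA b hb x hx
      · rintro _ ⟨y, hy, rfl⟩; exact hYA b hb y hy
    exact h1 ⟨u, hu, rfl⟩
  refine ⟨isSolvable_sup_of_le_normalizer hn hXs hYs, hKp, hKA, ?_⟩
  intro a ha ha1
  -- apply the factorization of fixed points to the cyclic group generated by `a`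
  have hZA : Subgroup.zpowers a ≤ A := by rw [Subgroup.zpowers_le]; exact ha
  have hZK : Subgroup.zpowers a ≤ Subgroup.normalizer ((X ⊔ Y : Subgroup G) : Set G) :=
    hZA.trans (Subgroup.le_normalizer_iff.mpr hKA)
  have hcardZ : Nat.card (Subgroup.zpowers a) = p := by
    rw [Nat.card_zpowers]
    exact orderOf_eq_prime (hA.2 a ha) ha1
  have hcop : (Nat.card (Subgroup.zpowers a)).Coprime (Nat.card (X ⊔ Y : Subgroup G)) := by
    rw [hcardZ]
    exact (Nat.Prime.coprime_iff_not_dvd hpp).mpr hKp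
  have hsolvZ : Group.IsSolvable (Subgroup.zpowers a) := inferInstance
  have hXY : ∀ k ∈ X ⊔ Y, ∃ x ∈ X, ∃ y ∈ Y, k = x * y := by
    intro k hk
    have hk' : k ∈ ((X ⊔ Y : Subgroup G) : Set G) := hk
    rw [Subgroup.coe_mul_of_right_le_normalizer_left X Y hn] at hk'
    obtain ⟨x, hx, y, hy, rfl⟩ := Set.mem_mul.mp hk'
    exact ⟨x, hx, y, hy, rfl⟩
  have hcentZ : Subgroup.centralizer ((Subgroup.zpowers a : Subgroup G) : Set G)
      = Subgroup.centralizer {a} := by
    rw [Subgroup.zpowers_eq_closure, Subgroup.centralizer_closure]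
  intro k hk
  have hk' : k ∈ (X ⊔ Y) ⊓ Subgroup.centralizer ((Subgroup.zpowers a : Subgroup G) : Set G) := by
    rw [hcentZ]; exact hk
  obtain ⟨x, hx, y, hy, rfl⟩ := Cfsg.Agent.S0030.result (Subgroup.zpowers a) (X ⊔ Y) hZK hcop
    (Or.inl hsolvZ) X Y le_sup_left le_sup_right (hZA.trans hXnorm) (hZA.trans hYnorm) hXY k hk'
  rw [hcentZ] at hx hy
  exact (θ a).mul_mem (hXθ a ha ha1 hx) (hYθ a ha ha1 hy)

end Cfsg.Agent.S1280
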