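import Cfsg.Statements.S1281
import Cfsg.Agent.Lib.Helper22.Coprime

set_option autoImplicit false
open Cfsg
open scoped commutatorElement

namespace Cfsg.Agent.S1281


open Cfsg.Agent.Lib.Helper22

/-- Let θ be a solvable A-signalizer functor on the finite group G (A a noncyclic elementary abelian p-subgroup) and N a normal subgroup of order prime to p. Then for all non-identity a, b ∈ A, the image of θ a in G / N meets the centralizer of the image of b inside the image of θ b. -/
theorem result {G : Type*} [Group G] [Finite G] (p : ℕ) [Fact p.Prime] (A : Subgroup G) (hA : Cfsg.IsElementaryAbelian p A) (hA2 : p ^ 2 ≤ Nat.card ↥A) (θ : G → Subgroup G) (hθ : Cfsg.IsSolvableSignalizerFunctor p A θ) (N : Subgroup G) [N.Normal] (hN : ¬ p ∣ Nat.card ↥N) (a b : G) (ha : a ∈ A) (ha1 : a ≠ 1) (hb : b ∈ A) (hb1 : b ≠ 1) : (θ a).map (QuotientGroup.mk' N) ⊓ Subgroup.centralizer {QuotientGroup.mk' N b} ≤ (θ b).map (QuotientGroup.mk' N) := by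
  obtain ⟨⟨_, _, hinvar, hbal⟩, _⟩ := hθ
  set π := QuotientGroup.mk' N with hπ
  rintro ybar ⟨⟨x, hx, rfl⟩, hcent⟩
  have hcent' : π b * π x = π x * π b := by
    have := Subgroup.mem_centralizer_iff.mp hcent (π b) (Set.mem_singleton _)
    exact this
  -- the cyclic group generated by `b` is a `p`-group inside `A`
  have hPA : Subgroup.zpowers b ≤ A := by
    rw [Subgroup.zpowers_le]; exact hb
  have hP : IsPGroup p (Subgroup.zpowers b) := by
    intro g
    refine ⟨1, ?_⟩
    apply Subtype.ext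
    have := hA.2 (g : G) (hPA g.2)
    simpa using this
  have hMc : (Nat.card (N ⊓ θ a : Subgroup G)).Coprime p := by
    have h1 : Nat.card (N ⊓ θ a : Subgroup G) ∣ Nat.card N := Subgroup.card_dvd_of_le inf_le_left
    have h2 : (Nat.card N).Coprime p :=
      Nat.coprime_comm.mp ((Nat.Prime.coprime_iff_not_dvd Fact.out).mpr hN)
    exact Nat.Coprime.coprime_dvd_left h1 h2
  have hcommg : ∀ g ∈ Subgroup.zpowers b, π g * π x = π x * π g := by
    intro g hg
    obtain ⟨k, rfl⟩ := Subgroup.mem_zpowers_iff.mp hg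
    rw [map_zpow]
    exact (Commute.zpow_left (show Commute (π b) (π x) from hcent') k).eq
  have hinv : ∀ g ∈ Subgroup.zpowers b, ∀ m ∈ (N ⊓ θ a : Subgroup G),
      x⁻¹ * (g * (x * m) * g⁻¹) ∈ (N ⊓ θ a : Subgroup G) := by
    intro g hg m hm
    refine Subgroup.mem_inf.mpr ⟨?_, ?_⟩
    · have hm1 : π m = 1 := (QuotientGroup.eq_one_iff m).mpr hm.1
      have key : π (x⁻¹ * (g * (x * m) * g⁻¹)) = 1 := by
        rw [map_mul, map_mul, map_mul, map_mul, map_inv, map_inv, hm1, mul_one, hcommg g hg]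
        group
      exact (QuotientGroup.eq_one_iff _).mp key
    · apply (θ a).mul_mem ((θ a).inv_mem hx)
      exact hinvar a ha ha1 g (hPA hg) _ ((θ a).mul_mem hx hm.2)
  obtain ⟨m, hm, hfix⟩ := exists_centralized_mem_coset (Subgroup.zpowers b) (N ⊓ θ a) hP hMc x hinv
  have hyb : x * m ∈ θ a ⊓ Subgroup.centralizer {b} := by
    refine Subgroup.mem_inf.mpr ⟨(θ a).mul_mem hx hm.2, ?_⟩
    rw [Subgroup.mem_centralizer_iff]
    intro c hc
    rw [Set.mem_singleton_iff] at hc
    subst hc
    exact hfix c (Subgroup.mem_zpowers c)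
  have hyθb : x * m ∈ θ b := hbal a ha ha1 b hb hb1 hyb
  refine ⟨x * m, hyθb, ?_⟩
  have hm1 : π m = 1 := (QuotientGroup.eq_one_iff m).mpr hm.1
  rw [map_mul, hm1, mul_one]

end Cfsg.Agent.S1281
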