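import Cfsg.Statements.S1284
import Cfsg.Agent.S0023
import Cfsg.Agent.Lib.Helper23.Signalizer

set_option autoImplicit false
open Cfsg

namespace Cfsg.Agent.S1284

open Cfsg.Agent.Lib.Helper23

variable {G : Type*} [Group G] [Finite G]

/-- Part (a). -/
theorem partA (p : ℕ) [hp : Fact p.Prime] (A : Subgroup G) (hA : Cfsg.IsElementaryAbelian p A)
    (hA3 : p ^ 3 ≤ Nat.card ↥A) (θ : G → Subgroup G) (hθ : Cfsg.IsSolvableSignalizerFunctor p A θ)
    (q : ℕ) [Fact q.Prime] (Q : Subgroup G) (hQ : IsMaxQMember p A θ q Q) (H : Subgroup G)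
    (hH : H ∈ Cfsg.signalizerFamily p A θ) :
    ∃ c ∈ Cfsg.signalizerInf A θ, ∃ S : Sylow q ↥H,
      (S : Subgroup ↥H).map H.subtype = Q.map (MulAut.conj c).toMonoidHom ⊓ H := by
  have hAH : A ≤ Subgroup.normalizer (H : Set G) := le_normalizer_of_conj_mem hH.2.2.1
  have hcop : (Nat.card ↥A).Coprime (Nat.card ↥H) := by
    have hAp : IsPGroup p ↥A := by
      intro x
      refine ⟨1, ?_⟩
      rw [pow_one]
      exact Subtype.ext (by simpa using hA.2 x.1 x.2)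
    obtain ⟨k, hk⟩ := IsPGroup.iff_card.1 hAp
    rw [hk]
    apply Nat.Coprime.pow_left
    exact (Nat.Prime.coprime_iff_not_dvd hp.out).2 hH.2.1
  obtain ⟨S, hAS⟩ := Cfsg.Agent.S0023.result A H hAH hcop (Or.inr hH.1) q
  have hTfam : (S : Subgroup ↥H).map H.subtype ∈ Cfsg.signalizerFamily p A θ :=
    signalizerFamily_of_le hH (Subgroup.map_subtype_le _) hAS
  obtain ⟨P, hPfam, hPq, hTP, hPmax⟩ :=
    exists_maximal_q_member q _ hTfam (S.isPGroup'.map _) le_rfl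
  obtain ⟨c, hc, hcQ⟩ := transitivity hA hA3 hθ q hQ ⟨hPfam, hPq, hPmax⟩
  refine ⟨c, hc, S, ?_⟩
  rw [hcQ]
  -- `(P ⊓ H)` viewed in `H` is a `q`-group containing `S`
  have hq' : IsPGroup q ↥((P ⊓ H).subgroupOf H) := by
    have : IsPGroup q ↥(P ⊓ H : Subgroup G) := hPq.to_le inf_le_left
    exact this.comap_subtype
  have hle : (S : Subgroup ↥H) ≤ (P ⊓ H).subgroupOf H := by
    intro x hx
    rw [Subgroup.mem_subgroupOf]
    exact ⟨hTP ⟨x, hx, rfl⟩, x.2⟩
  have heq := S.is_maximal' hq' hle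
  rw [← heq, Subgroup.subgroupOf_map_subtype, inf_assoc, inf_idem]

/-- Let θ be a solvable A-signalizer functor on the finite group G, A elementary abelian of rank at least 3, q a prime dividing some |θ a|, and Q maximal among the q-subgroups in the family of θ. Then (a) for every member H of the family, some c in the intersection of the θ a (a ∈ A non-identity) makes c Q c⁻¹ ∩ H a Sylow q-subgroup of H; and (b) for every nontrivial subgroup B ≤ A, C_Q(B) is a Sylow q-subgroup of the intersection of the θ b over the non-identity b ∈ B. -/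
theorem result {G : Type*} [Group G] [Finite G] (p : ℕ) [Fact p.Prime] (A : Subgroup G) (hA : Cfsg.IsElementaryAbelian p A) (hA3 : p ^ 3 ≤ Nat.card ↥A) (θ : G → Subgroup G) (hθ : Cfsg.IsSolvableSignalizerFunctor p A θ) (q : ℕ) [Fact q.Prime] (hq : ∃ a ∈ A, a ≠ 1 ∧ q ∣ Nat.card ↥(θ a)) (Q : Subgroup G) (hQW : Q ∈ Cfsg.signalizerFamily p A θ) (hQq : IsPGroup q ↥Q) (hQmax : ∀ R ∈ Cfsg.signalizerFamily p A θ, IsPGroup q ↥R → Q ≤ R → R = Q) : (∀ H : Subgroup G, H ∈ Cfsg.signalizerFamily p A θ → ∃ c ∈ Cfsg.signalizerInf A θ, ∃ S : Sylow q ↥H, (S : Subgroup ↥H).map H.subtype = Q.map (MulAut.conj c).toMonoidHom ⊓ H) ∧ (∀ B : Subgroup G, B ≤ A → B ≠ ⊥ → ∃ S : Sylow q ↥(Cfsg.signalizerInf B θ), (S : Subgroup ↥(Cfsg.signalizerInf B θ)).map (Cfsg.signalizerInf B θ).subtype = Q ⊓ Subgroup.centralizer (B : Set G)) := by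
  have hQ : IsMaxQMember p A θ q Q := ⟨hQW, hQq, hQmax⟩
  refine ⟨fun H hH => partA p A hA hA3 θ hθ q Q hQ H hH, ?_⟩
  intro B hBA hB
  obtain ⟨⟨b₀, hb₀B⟩, hb₀1⟩ := (Subgroup.ne_bot_iff_exists_ne_one).1 hB
  have hb₀1' : b₀ ≠ 1 := fun h => hb₀1 (Subtype.ext h)
  -- `θ(B)` is in the family
  have hΘb₀ : Cfsg.signalizerInf B θ ≤ θ b₀ := by
    intro x hx
    exact mem_signalizerInf_iff.1 hx b₀ hb₀B hb₀1'
  have hAΘ : A ≤ Subgroup.normalizer ((Cfsg.signalizerInf B θ : Subgroup G) : Set G) := by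
    apply le_normalizer_of_conj_mem
    intro a ha x hx
    rw [mem_signalizerInf_iff] at hx ⊢
    intro b hb hb1
    exact hθ.1.2.2.1 b (hBA hb) hb1 a ha x (hx b hb hb1)
  have hΘfam : Cfsg.signalizerInf B θ ∈ Cfsg.signalizerFamily p A θ :=
    signalizerFamily_of_le (theta_mem_signalizerFamily hθ (hBA hb₀B) hb₀1') hΘb₀ hAΘ
  obtain ⟨c, hc, S, hS⟩ := partA p A hA hA3 θ hθ q Q hQ _ hΘfam
  have hcB : c ∈ Cfsg.signalizerInf B θ := by
    rw [mem_signalizerInf_iff] at hc ⊢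
    intro b hb hb1
    exact hc b (hBA hb) hb1
  -- conjugate back by `c⁻¹`
  let d : ↥(Cfsg.signalizerInf B θ) := ⟨c⁻¹, inv_mem hcB⟩
  refine ⟨MulAut.conj d • S, ?_⟩
  rw [Sylow.pointwise_smul_def, map_subtype_conj_smul, hS]
  have hd : ((d : ↥(Cfsg.signalizerInf B θ)) : G) = c⁻¹ := rfl
  rw [hd]
  -- `(Q^c ⊓ θ(B))^{c⁻¹} = Q ⊓ θ(B)`
  have h1 : (Q.map (MulAut.conj c).toMonoidHom ⊓ Cfsg.signalizerInf B θ).map
      (MulAut.conj c⁻¹).toMonoidHom = Q ⊓ Cfsg.signalizerInf B θ := by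
    rw [Subgroup.map_inf _ _ _ (MulAut.conj c⁻¹).injective, map_conj_map_conj, inv_mul_cancel,
      sgz_map_conj_one, map_conj_eq_of_mem_normalizer (Subgroup.le_normalizer (inv_mem hcB))]
  rw [h1]
  -- `Q ⊓ θ(B) = C_Q(B)`
  apply le_antisymm
  · apply le_inf inf_le_left
    intro x hx
    rw [Subgroup.mem_centralizer_iff]
    intro b hb
    by_cases hb1 : b = 1
    · rw [hb1, one_mul, mul_one]
    · have h2 := hθ.1.1 b (hBA hb) hb1 (mem_signalizerInf_iff.1 hx.2 b hb hb1)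
      exact (Subgroup.mem_centralizer_singleton_iff.1 h2).symm
  · apply le_inf inf_le_left
    intro x hx
    rw [mem_signalizerInf_iff]
    intro b hb hb1
    apply hQW.2.2.2 b (hBA hb) hb1
    refine ⟨hx.1, ?_⟩
    exact Subgroup.centralizer_le (Set.singleton_subset_iff.2 hb) hx.2

end Cfsg.Agent.S1284
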