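import Cfsg.Statements.S1286
-- (no extra imports)

set_option autoImplicit false
open Cfsg

namespace Cfsg.Agent.S1286


abbrev XX := Equiv.Perm (Fin 5)

def ea : XX := Equiv.swap 0 1
def eb : XX := Equiv.swap 3 4
def es : XX := Equiv.swap 0 1 * Equiv.swap 1 2
def et : XX := Equiv.swap 2 3 * Equiv.swap 3 4

def AA : Subgroup XX where
  carrier := {g | g = 1 ∨ g = ea ∨ g = eb ∨ g = ea * eb}
  mul_mem' := by
    rintro x y (rfl|rfl|rfl|rfl) (rfl|rfl|rfl|rfl) <;> simp only [Set.mem_ofPred_eq] <;> decide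
  one_mem' := Or.inl rfl
  inv_mem' := by
    rintro x (rfl|rfl|rfl|rfl) <;> simp only [Set.mem_ofPred_eq] <;> decide

theorem mem_AA {g : XX} : g ∈ AA ↔ g = 1 ∨ g = ea ∨ g = eb ∨ g = ea * eb := Iff.rfl

noncomputable def th (g : XX) : Subgroup XX :=
  if g = ea then Subgroup.zpowers et else if g = eb then Subgroup.zpowers es else ⊥

theorem th_ea : th ea = Subgroup.zpowers et := by
  unfold th; rw [if_pos rfl]

theorem th_eb : th eb = Subgroup.zpowers es := by
  unfold th; rw [if_neg (by decide), if_pos rfl]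

theorem th_eab : th (ea * eb) = ⊥ := by
  unfold th; rw [if_neg (by decide), if_neg (by decide)]

theorem mem_zpowers_of_pow_three {G : Type*} [Group G] {g x : G} (hg : g ^ 3 = 1)
    (hx : x ∈ Subgroup.zpowers g) : x = 1 ∨ x = g ∨ x = g ^ 2 := by
  obtain ⟨k, rfl⟩ := Subgroup.mem_zpowers_iff.mp hx
  have hg' : g ^ (3 : ℤ) = 1 := by exact_mod_cast hg
  rw [zpow_eq_zpow_emod k hg']
  have h0 : 0 ≤ k % 3 := Int.emod_nonneg _ (by norm_num)
  have h3 : k % 3 < 3 := Int.emod_lt_of_pos _ (by norm_num)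
  obtain ⟨r, hr⟩ : ∃ r, r = k % 3 := ⟨_, rfl⟩
  rw [← hr] at h0 h3 ⊢
  interval_cases r
  · left; simp
  · right; left; simp
  · right; right; norm_cast

theorem mem_zpowers_of_eq {G : Type*} [Group G] {g x : G} (hx : x = 1 ∨ x = g ∨ x = g ^ 2) :
    x ∈ Subgroup.zpowers g := by
  rcases hx with (rfl|rfl|rfl)
  · exact Subgroup.one_mem _
  · exact Subgroup.mem_zpowers _
  · exact Subgroup.pow_mem _ (Subgroup.mem_zpowers _) 2

theorem conj_mem_zpowers {G : Type*} [Group G] {g c : G} (hc : c * g * c⁻¹ ∈ Subgroup.zpowers g)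
    {x : G} (hx : x ∈ Subgroup.zpowers g) : c * x * c⁻¹ ∈ Subgroup.zpowers g := by
  obtain ⟨k, rfl⟩ := Subgroup.mem_zpowers_iff.mp hx
  rw [← conj_zpow]
  exact Subgroup.zpow_mem _ hc k

theorem es_pow : es ^ 3 = 1 := by decide
theorem et_pow : et ^ 3 = 1 := by decide

theorem card_zpowers_of_pow_three {G : Type*} [Group G] {g : G} (hg : g ^ 3 = 1) (h1 : g ≠ 1) :
    Nat.card (Subgroup.zpowers g) = 3 := by
  rw [Nat.card_zpowers]
  have : Fact (Nat.Prime 3) := ⟨Nat.prime_three⟩
  exact orderOf_eq_prime hg h1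

theorem balance_aux {g c : XX} (hg : g ^ 3 = 1) (h1 : ¬ (c * g = g * c))
    (h2 : ¬ (c * g ^ 2 = g ^ 2 * c)) (K : Subgroup XX) :
    Subgroup.zpowers g ⊓ Subgroup.centralizer {c} ≤ K := by
  rintro x ⟨hx1, hx2⟩
  have hc := Subgroup.mem_centralizer_iff.mp hx2 c rfl
  rcases mem_zpowers_of_pow_three hg hx1 with (rfl|rfl|rfl)
  · exact K.one_mem
  · exact absurd hc h1
  · exact absurd hc h2

theorem isSolvable_zpowers {G : Type*} [Group G] (g : G) :
    Group.IsSolvable (Subgroup.zpowers g) :=
  Group.isSolvable_of_comm (fun a b => mul_comm' a b)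

theorem isSig : IsSignalizerFunctor 2 AA th := by
  refine ⟨?_, ?_, ?_, ?_⟩
  · rintro a (rfl|rfl|rfl|rfl) ha
    · exact absurd rfl ha
    · rw [th_ea, Subgroup.zpowers_le, Subgroup.mem_centralizer_iff]
      intro h hh
      rw [Set.mem_singleton_iff] at hh
      subst hh
      decide
    · rw [th_eb, Subgroup.zpowers_le, Subgroup.mem_centralizer_iff]
      intro h hh
      rw [Set.mem_singleton_iff] at hh
      subst hh
      decide
    · rw [th_eab]; exact bot_le
  · rintro a (rfl|rfl|rfl|rfl) ha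
    · exact absurd rfl ha
    · rw [th_ea, card_zpowers_of_pow_three et_pow (by decide)]; decide
    · rw [th_eb, card_zpowers_of_pow_three es_pow (by decide)]; decide
    · rw [th_eab, Subgroup.card_bot]; decide
  · rintro a (rfl|rfl|rfl|rfl) ha
    · exact absurd rfl ha
    · rw [th_ea]
      rintro b (rfl|rfl|rfl|rfl) x hx
      · exact conj_mem_zpowers (mem_zpowers_of_eq (by decide)) hx
      · exact conj_mem_zpowers (mem_zpowers_of_eq (by decide)) hx
      · exact conj_mem_zpowers (mem_zpowers_of_eq (by decide)) hx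
      · exact conj_mem_zpowers (mem_zpowers_of_eq (by decide)) hx
    · rw [th_eb]
      rintro b (rfl|rfl|rfl|rfl) x hx
      · exact conj_mem_zpowers (mem_zpowers_of_eq (by decide)) hx
      · exact conj_mem_zpowers (mem_zpowers_of_eq (by decide)) hx
      · exact conj_mem_zpowers (mem_zpowers_of_eq (by decide)) hx
      · exact conj_mem_zpowers (mem_zpowers_of_eq (by decide)) hx
    · rw [th_eab]
      intro b _ x hx
      rw [Subgroup.mem_bot] at hx ⊢
      subst hx
      group
  · rintro a (rfl|rfl|rfl|rfl) ha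
    · exact absurd rfl ha
    · rintro b (rfl|rfl|rfl|rfl) hb
      · exact absurd rfl hb
      · exact inf_le_left
      · rw [th_ea]; exact balance_aux et_pow (by decide) (by decide) _
      · rw [th_ea]; exact balance_aux et_pow (by decide) (by decide) _
    · rintro b (rfl|rfl|rfl|rfl) hb
      · exact absurd rfl hb
      · rw [th_eb]; exact balance_aux es_pow (by decide) (by decide) _
      · exact inf_le_left
      · rw [th_eb]; exact balance_aux es_pow (by decide) (by decide) _
    · intro b _ _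
      rw [th_eab]
      exact inf_le_left.trans bot_le

/-- There exist a finite group X, an elementary abelian subgroup A of order 4 and a solvable A-signalizer functor θ on X for the prime 2 which is not complete. -/
theorem result : ∃ (X : Type) (_ : Group X) (_ : Finite X) (A : Subgroup X) (θ : X → Subgroup X), Cfsg.IsElementaryAbelian 2 A ∧ Nat.card ↥A = 4 ∧ Cfsg.IsSolvableSignalizerFunctor 2 A θ ∧ ¬ Cfsg.IsCompleteSignalizerFunctor 2 A θ := by
  refine ⟨XX, inferInstance, inferInstance, AA, th, ?_, ?_, ⟨isSig, ?_⟩, ?_⟩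
  · -- elementary abelian
    refine ⟨⟨⟨?_⟩⟩, ?_⟩
    · rintro ⟨x, hx⟩ ⟨y, hy⟩
      apply Subtype.ext
      show x * y = y * x
      rcases hx with (rfl|rfl|rfl|rfl) <;> rcases hy with (rfl|rfl|rfl|rfl) <;> decide
    · rintro x (rfl|rfl|rfl|rfl) <;> decide
  · -- card
    have hset : (AA : Set XX) = ↑({1, ea, eb, ea * eb} : Finset XX) := by
      ext g
      simp only [SetLike.mem_coe, mem_AA, Finset.coe_insert, Finset.coe_singleton,
        Set.mem_insert_iff, Set.mem_singleton_iff]
    have h1 : Nat.card ↥AA = Set.ncard (AA : Set XX) := Nat.card_coe_set_eq _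
    rw [h1, hset, Set.ncard_coe_finset]
    decide
  · rintro a (rfl|rfl|rfl|rfl) ha
    · exact absurd rfl ha
    · rw [th_ea]; exact isSolvable_zpowers _
    · rw [th_eb]; exact isSolvable_zpowers _
    · rw [th_eab]; exact Group.isSolvable_of_comm (fun a b => Subsingleton.elim _ _)
  · rintro ⟨_, X', _, hodd, hX⟩
    have h1 := hX ea (Or.inr (Or.inl rfl)) (by decide)
    have h2 := hX eb (Or.inr (Or.inr (Or.inl rfl))) (by decide)
    rw [th_ea] at h1
    rw [th_eb] at h2
    have ht : et ∈ X' := by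
      have : et ∈ X' ⊓ Subgroup.centralizer {ea} := h1 ▸ Subgroup.mem_zpowers et
      exact this.1
    have hs : es ∈ X' := by
      have : es ∈ X' ⊓ Subgroup.centralizer {eb} := h2 ▸ Subgroup.mem_zpowers es
      exact this.1
    have hw : es * et * es * et⁻¹ ∈ X' :=
      X'.mul_mem (X'.mul_mem (X'.mul_mem hs ht) hs) (X'.inv_mem ht)
    have : Fact (Nat.Prime 2) := ⟨Nat.prime_two⟩
    have ho : orderOf (es * et * es * et⁻¹) = 2 := orderOf_eq_prime (by decide) (by decide)
    apply hodd
    rw [← ho]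
    exact Subgroup.orderOf_dvd_natCard X' hw

end Cfsg.Agent.S1286
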