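import Cfsg.Statements.S1287
import Cfsg.Agent.S0030
import Cfsg.Agent.Lib.Helper23.Wielandt
-- import your own Cfsg.Agent.* helpers here

set_option autoImplicit false
open scoped Pointwise
open Cfsg

namespace Cfsg.Agent.S1287

open Cfsg.Agent.Lib.Helper23

/-- For a nontrivial `B ≤ A`, the centralizer `C_K(B)` factorizes as `C_X(B) C_Y(B)`. -/
theorem centralizer_factor {H : Type*} [Group H] [Finite H] (p : ℕ) [Fact p.Prime]
    (A K X Y : Subgroup H) (hA : Cfsg.IsElementaryAbelian p A) (hK : ¬ p ∣ Nat.card ↥K)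
    (hAK : A ≤ Subgroup.normalizer (K : Set H)) (hX : X ≤ K) (hY : Y ≤ K)
    (hAX : A ≤ Subgroup.normalizer (X : Set H)) (hAY : A ≤ Subgroup.normalizer (Y : Set H))
    (hfac : ∀ a ∈ A, a ≠ 1 → ((K ⊓ Subgroup.centralizer {a} : Subgroup H) : Set H) =
      ((X ⊓ Subgroup.centralizer {a} : Subgroup H) : Set H) *
        ((Y ⊓ Subgroup.centralizer {a} : Subgroup H) : Set H))
    (B : Subgroup H) (hBA : B ≤ A) (hB : B ≠ ⊥) :
    ((K ⊓ Subgroup.centralizer (B : Set H) : Subgroup H) : Set H) =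
      ((X ⊓ Subgroup.centralizer (B : Set H) : Subgroup H) : Set H) *
        ((Y ⊓ Subgroup.centralizer (B : Set H) : Subgroup H) : Set H) := by
  classical
  have hAc := Cfsg.Agent.S1324.comm_of_mem hA
  obtain ⟨⟨a, haB⟩, ha1⟩ := (Subgroup.ne_bot_iff_exists_ne_one).mp hB
  have ha1' : a ≠ 1 := fun h => ha1 (Subtype.ext h)
  have haA : a ∈ A := hBA haB
  -- `A` normalizes `C(a)`
  have hAC : A ≤ Subgroup.normalizer ((Subgroup.centralizer ({a} : Set H) : Subgroup H) : Set H) := by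
    intro c hc
    apply Subgroup.le_normalizer
    rw [Subgroup.mem_centralizer_iff]
    intro b hb
    rw [Set.mem_singleton_iff] at hb
    rw [hb]
    exact hAc a haA c hc
  have hCBa : Subgroup.centralizer (B : Set H) ≤ Subgroup.centralizer ({a} : Set H) := by
    apply Subgroup.centralizer_le
    intro x hx
    rw [Set.mem_singleton_iff] at hx
    rw [hx]; exact haB
  obtain ⟨k, hk⟩ := Cfsg.Agent.S1324.card_eq_pow (p := p) hA
  have hcopA : (Nat.card ↥A).Coprime (Nat.card ↥K) := by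
    rw [hk]
    exact Nat.Coprime.pow_left k ((Nat.Prime.coprime_iff_not_dvd Fact.out).mpr hK)
  have hcop : (Nat.card ↥B).Coprime
      (Nat.card ↥(K ⊓ Subgroup.centralizer ({a} : Set H) : Subgroup H)) :=
    (hcopA.coprime_dvd_left (Subgroup.card_dvd_of_le hBA)).coprime_dvd_right
      (Subgroup.card_dvd_of_le inf_le_left)
  have hBsolv : Group.IsSolvable ↥B :=
    Group.isSolvable_of_comm (fun a b => Subtype.ext (hAc a (hBA a.2) b (hBA b.2)))
  apply Set.Subset.antisymm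
  · intro g hg
    have hg' : g ∈ (K ⊓ Subgroup.centralizer ({a} : Set H)) ⊓ Subgroup.centralizer (B : Set H) :=
      ⟨⟨hg.1, hCBa hg.2⟩, hg.2⟩
    obtain ⟨x, hx, y, hy, hxy⟩ := Cfsg.Agent.S0030.result B
      (K ⊓ Subgroup.centralizer ({a} : Set H))
      (hBA.trans (le_normalizer_inf' hAK hAC)) hcop (Or.inl hBsolv)
      (X ⊓ Subgroup.centralizer ({a} : Set H)) (Y ⊓ Subgroup.centralizer ({a} : Set H))
      (inf_le_inf_right _ hX) (inf_le_inf_right _ hY)
      (hBA.trans (le_normalizer_inf' hAX hAC)) (hBA.trans (le_normalizer_inf' hAY hAC))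
      (by
        intro k hk
        have : k ∈ ((K ⊓ Subgroup.centralizer {a} : Subgroup H) : Set H) := hk
        rw [hfac a haA ha1'] at this
        obtain ⟨x, hx, y, hy, hxy⟩ := this
        exact ⟨x, hx, y, hy, hxy.symm⟩) g hg'
    exact ⟨x, ⟨hx.1.1, hx.2⟩, y, ⟨hy.1.1, hy.2⟩, hxy.symm⟩
  · rintro _ ⟨x, hx, y, hy, rfl⟩
    exact ⟨K.mul_mem (hX hx.1) (hY hy.1), Subgroup.mul_mem _ hx.2 hy.2⟩

/-- The counting consequence of `centralizer_factor`. -/
theorem card_centralizer_factor {H : Type*} [Group H] [Finite H] (p : ℕ) [Fact p.Prime]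
    (A K X Y : Subgroup H) (hA : Cfsg.IsElementaryAbelian p A) (hK : ¬ p ∣ Nat.card ↥K)
    (hAK : A ≤ Subgroup.normalizer (K : Set H)) (hX : X ≤ K) (hY : Y ≤ K)
    (hAX : A ≤ Subgroup.normalizer (X : Set H)) (hAY : A ≤ Subgroup.normalizer (Y : Set H))
    (hfac : ∀ a ∈ A, a ≠ 1 → ((K ⊓ Subgroup.centralizer {a} : Subgroup H) : Set H) =
      ((X ⊓ Subgroup.centralizer {a} : Subgroup H) : Set H) *
        ((Y ⊓ Subgroup.centralizer {a} : Subgroup H) : Set H))
    (B : Subgroup H) (hBA : B ≤ A) (hB : B ≠ ⊥) :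
    Nat.card ↥(X ⊓ Subgroup.centralizer (B : Set H) : Subgroup H) *
        Nat.card ↥(Y ⊓ Subgroup.centralizer (B : Set H) : Subgroup H) =
      Nat.card ↥((X ⊓ Y) ⊓ Subgroup.centralizer (B : Set H) : Subgroup H) *
        Nat.card ↥(K ⊓ Subgroup.centralizer (B : Set H) : Subgroup H) := by
  have h1 := Cfsg.Agent.Lib.Helper50.card_mul_card_eq_card_inf_mul_card_mul
    (X ⊓ Subgroup.centralizer (B : Set H)) (Y ⊓ Subgroup.centralizer (B : Set H))
  have h2 := centralizer_factor p A K X Y hA hK hAK hX hY hAX hAY hfac B hBA hB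
  have h3 : (X ⊓ Subgroup.centralizer (B : Set H)) ⊓ (Y ⊓ Subgroup.centralizer (B : Set H)) =
      (X ⊓ Y) ⊓ Subgroup.centralizer (B : Set H) := by
    apply le_antisymm
    · exact le_inf (le_inf (inf_le_left.trans inf_le_left) (inf_le_right.trans inf_le_left))
        (inf_le_left.trans inf_le_right)
    · exact le_inf (le_inf (inf_le_left.trans inf_le_left) inf_le_right)
        (le_inf (inf_le_left.trans inf_le_right) inf_le_right)
  rw [h3, ← h2] at h1
  exact h1

/-- Let A be a noncyclic elementary abelian p-subgroup of a finite group H normalizing a subgroup K of order prime to p, and X, Y ≤ K subgroups normalized by A with C_K(a) = C_X(a) C_Y(a) (as sets) for every non-identity a ∈ A, where X is also normalized by C_K(A). Then K = XY as sets. -/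
theorem result {H : Type*} [Group H] [Finite H] (p : ℕ) [Fact p.Prime] (A K X Y : Subgroup H) (hA : Cfsg.IsElementaryAbelian p A) (hA2 : p ^ 2 ≤ Nat.card ↥A) (hK : ¬ p ∣ Nat.card ↥K) (hAK : A ≤ Subgroup.normalizer (K : Set H)) (hX : X ≤ K) (hY : Y ≤ K) (hAX : A ≤ Subgroup.normalizer (X : Set H)) (hAY : A ≤ Subgroup.normalizer (Y : Set H)) (hCX : K ⊓ Subgroup.centralizer (A : Set H) ≤ Subgroup.normalizer (X : Set H)) (hfac : ∀ a ∈ A, a ≠ 1 → ((K ⊓ Subgroup.centralizer {a} : Subgroup H) : Set H) = ((X ⊓ Subgroup.centralizer {a} : Subgroup H) : Set H) * ((Y ⊓ Subgroup.centralizer {a} : Subgroup H) : Set H)) : (K : Set H) = (X : Set H) * (Y : Set H) := by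
  classical
  have hp : p.Prime := Fact.out
  have hnd : ∀ Z : Subgroup H, Z ≤ K → ¬ p ∣ Nat.card ↥Z :=
    fun Z hZ h => hK (h.trans (Subgroup.card_dvd_of_le hZ))
  have hDK : X ⊓ Y ≤ K := inf_le_left.trans hX
  have hAD : A ≤ Subgroup.normalizer ((X ⊓ Y : Subgroup H) : Set H) := le_normalizer_inf' hAX hAY
  -- `A` and hyperplanes are nontrivial
  have hAbot : A ≠ ⊥ := by
    intro h
    rw [h, Subgroup.card_bot] at hA2
    have := hp.two_le
    nlinarith
  have hBbot : ∀ B : Hyp p A, (B : Subgroup H) ≠ ⊥ := by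
    intro B h
    have h1 := card_mul_relIndex_of_le B.2.1
    rw [B.2.2, h, Subgroup.card_bot, one_mul] at h1
    rw [← h1] at hA2
    have := hp.two_le
    nlinarith
  have hWK := wielandt_formula p A hA hA2 K hK hAK
  have hWX := wielandt_formula p A hA hA2 X (hnd X hX) hAX
  have hWY := wielandt_formula p A hA hA2 Y (hnd Y hY) hAY
  have hWD := wielandt_formula p A hA hA2 (X ⊓ Y) (hnd _ hDK) hAD
  have hcA := card_centralizer_factor p A K X Y hA hK hAK hX hY hAX hAY hfac A le_rfl hAbot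
  have hcB : ∀ B : Hyp p A,
      Nat.card ↥(X ⊓ Subgroup.centralizer ((B : Subgroup H) : Set H) : Subgroup H) *
        Nat.card ↥(Y ⊓ Subgroup.centralizer ((B : Subgroup H) : Set H) : Subgroup H) =
      Nat.card ↥((X ⊓ Y) ⊓ Subgroup.centralizer ((B : Subgroup H) : Set H) : Subgroup H) *
        Nat.card ↥(K ⊓ Subgroup.centralizer ((B : Subgroup H) : Set H) : Subgroup H) :=
    fun B => card_centralizer_factor p A K X Y hA hK hAK hX hY hAX hAY hfac B B.2.1 (hBbot B)
  have hprod : (∏ B : Hyp p A,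
        Nat.card ↥(X ⊓ Subgroup.centralizer ((B : Subgroup H) : Set H) : Subgroup H)) *
      (∏ B : Hyp p A,
        Nat.card ↥(Y ⊓ Subgroup.centralizer ((B : Subgroup H) : Set H) : Subgroup H)) =
      (∏ B : Hyp p A,
        Nat.card ↥((X ⊓ Y) ⊓ Subgroup.centralizer ((B : Subgroup H) : Set H) : Subgroup H)) *
      (∏ B : Hyp p A,
        Nat.card ↥(K ⊓ Subgroup.centralizer ((B : Subgroup H) : Set H) : Subgroup H)) := by
    rw [← Finset.prod_mul_distrib, ← Finset.prod_mul_distrib]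
    exact Finset.prod_congr rfl (fun (B : Hyp p A) _ => hcB B)
  -- abbreviations
  set ΦK := ∏ B : Hyp p A,
    Nat.card ↥(K ⊓ Subgroup.centralizer ((B : Subgroup H) : Set H) : Subgroup H) with hΦK
  set ΦX := ∏ B : Hyp p A,
    Nat.card ↥(X ⊓ Subgroup.centralizer ((B : Subgroup H) : Set H) : Subgroup H) with hΦX
  set ΦY := ∏ B : Hyp p A,
    Nat.card ↥(Y ⊓ Subgroup.centralizer ((B : Subgroup H) : Set H) : Subgroup H) with hΦY
  set ΦD := ∏ B : Hyp p A,
    Nat.card ↥((X ⊓ Y) ⊓ Subgroup.centralizer ((B : Subgroup H) : Set H) : Subgroup H) with hΦD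
  set cK := Nat.card ↥(K ⊓ Subgroup.centralizer (A : Set H) : Subgroup H) with hcK
  set cX := Nat.card ↥(X ⊓ Subgroup.centralizer (A : Set H) : Subgroup H) with hcX
  set cY := Nat.card ↥(Y ⊓ Subgroup.centralizer (A : Set H) : Subgroup H) with hcY
  set cD := Nat.card ↥((X ⊓ Y) ⊓ Subgroup.centralizer (A : Set H) : Subgroup H) with hcD
  set h := Fintype.card (Hyp p A) with hh
  have hcKpos : 0 < cK := Nat.card_pos
  have hcDpos : 0 < cD := Nat.card_pos
  have hΦKpos : 0 < ΦK := Finset.prod_pos (fun _ _ => Nat.card_pos)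
  have hΦDpos : 0 < ΦD := Finset.prod_pos (fun _ _ => Nat.card_pos)
  -- combine
  have e1 : (ΦX * cX) * (ΦY * cY) = (Nat.card ↥X * cX ^ h) * (Nat.card ↥Y * cY ^ h) := by
    rw [hWX, hWY]
  have e2 : (ΦD * cD) * (ΦK * cK) = (Nat.card ↥(X ⊓ Y : Subgroup H) * cD ^ h) *
      (Nat.card ↥K * cK ^ h) := by
    rw [hWD, hWK]
  have e3 : (ΦX * cX) * (ΦY * cY) = (ΦD * cD) * (ΦK * cK) := by
    calc (ΦX * cX) * (ΦY * cY) = (ΦX * ΦY) * (cX * cY) := by ring
      _ = (ΦD * ΦK) * (cD * cK) := by rw [hprod, hcA]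
      _ = (ΦD * cD) * (ΦK * cK) := by ring
  have e4 : (Nat.card ↥X * Nat.card ↥Y) * (cD * cK) ^ h =
      (Nat.card ↥(X ⊓ Y : Subgroup H) * Nat.card ↥K) * (cD * cK) ^ h := by
    calc (Nat.card ↥X * Nat.card ↥Y) * (cD * cK) ^ h
        = (Nat.card ↥X * Nat.card ↥Y) * (cX * cY) ^ h := by rw [hcA]
      _ = (Nat.card ↥X * cX ^ h) * (Nat.card ↥Y * cY ^ h) := by rw [mul_pow]; ring
      _ = (ΦX * cX) * (ΦY * cY) := e1.symm
      _ = (ΦD * cD) * (ΦK * cK) := e3
      _ = (Nat.card ↥(X ⊓ Y : Subgroup H) * cD ^ h) * (Nat.card ↥K * cK ^ h) := e2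
      _ = (Nat.card ↥(X ⊓ Y : Subgroup H) * Nat.card ↥K) * (cD * cK) ^ h := by
          rw [mul_pow]; ring
  have e5 : Nat.card ↥X * Nat.card ↥Y = Nat.card ↥(X ⊓ Y : Subgroup H) * Nat.card ↥K :=
    Nat.eq_of_mul_eq_mul_right (pow_pos (Nat.mul_pos hcDpos hcKpos) h) e4
  have e6 := Cfsg.Agent.Lib.Helper50.card_mul_card_eq_card_inf_mul_card_mul X Y
  rw [e5] at e6
  have e7 : Nat.card ↥K = Nat.card ((X : Set H) * (Y : Set H) : Set H) :=
    Nat.eq_of_mul_eq_mul_left Nat.card_pos e6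
  have hsub : (X : Set H) * (Y : Set H) ⊆ (K : Set H) := by
    rintro _ ⟨x, hx, y, hy, rfl⟩
    exact K.mul_mem (hX hx) (hY hy)
  symm
  apply Set.eq_of_subset_of_ncard_le hsub _ (Set.toFinite _)
  rw [← Nat.card_coe_set_eq, ← Nat.card_coe_set_eq]
  exact e7.le

end Cfsg.Agent.S1287
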