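import Cfsg.Statements.S1288
import Cfsg.Agent.S1324
import Cfsg.Agent.Lib.Helper22.SolvableLocal

set_option autoImplicit false
open Cfsg
open scoped commutatorElement

namespace Cfsg.Agent.S1288


open Cfsg.Agent.Lib.Helper22 Cfsg.Agent.Lib.Helper54

/-- conjugation by an element of the normalizer, as an automorphism of the subgroup -/
def conjNorm {H : Type*} [Group H] (K : Subgroup H) (g : H)
    (hg : g ∈ Subgroup.normalizer (K : Set H)) : ↥K ≃* ↥K where
  toFun x := ⟨g * x * g⁻¹, (Subgroup.mem_normalizer_iff.mp hg x).mp x.2⟩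
  invFun x := ⟨g⁻¹ * x * g, by
    have := (Subgroup.mem_normalizer_iff.mp (Subgroup.inv_mem _ hg) x).mp x.2
    simpa using this⟩
  left_inv x := by apply Subtype.ext; simp only; group
  right_inv x := by apply Subtype.ext; simp only; group
  map_mul' x y := by apply Subtype.ext; simp only [Subgroup.coe_mul]; group

theorem normalizer_le_normalizer_relR {H : Type*} [Group H] [Finite H] (q : ℕ) [Fact q.Prime]
    (K : Subgroup H) :
    Subgroup.normalizer (K : Set H) ≤ Subgroup.normalizer (relR q K : Set H) := by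
  have key : ∀ g ∈ Subgroup.normalizer (K : Set H), ∀ r ∈ relR q K, g * r * g⁻¹ ∈ relR q K := by
    intro g hg r hr
    obtain ⟨x, hx, rfl⟩ := hr
    have h1 := (mem_pPrimePCore_equiv_iff q (conjNorm K g hg) x).mpr hx
    exact ⟨_, h1, rfl⟩
  intro g hg
  rw [Subgroup.mem_normalizer_iff]
  intro r
  constructor
  · exact key g hg r
  · intro h
    have := key g⁻¹ (Subgroup.inv_mem _ hg) _ h
    have e : g⁻¹ * (g * r * g⁻¹) * g⁻¹⁻¹ = r := by group
    rwa [e] at this

theorem card_mul_relIndex' {G : Type*} [Group G] {K L : Subgroup G} (h : K ≤ L) :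
    Nat.card ↥K * K.relIndex L = Nat.card ↥L := by
  have := Subgroup.relIndex_mul_relIndex (⊥ : Subgroup G) K L bot_le h
  rwa [Subgroup.relIndex_bot_left, Subgroup.relIndex_bot_left] at this

theorem exists_hyperplane_le {H : Type*} [Group H] [Finite H] (p : ℕ) [hp : Fact p.Prime]
    (A : Subgroup H) (hA : Cfsg.IsElementaryAbelian p A) (hA2 : p ^ 2 ≤ Nat.card ↥A)
    (B : Subgroup H) (hBA : B ≤ A) (hB : B.relIndex A ≤ p) :
    ∃ B₀ : Subgroup H, B₀ ≤ B ∧ B₀ ≤ A ∧ B₀.relIndex A = p := by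
  have hAp : IsPGroup p ↥A := by
    intro a
    refine ⟨1, ?_⟩
    rw [pow_one]
    exact Subtype.ext (by simpa using hA.2 a.1 a.2)
  obtain ⟨n, hn⟩ := IsPGroup.iff_card.1 hAp
  have hmul := card_mul_relIndex' hBA
  have hdvd : B.relIndex A ∣ p ^ n := by
    rw [← hn, ← hmul]; exact dvd_mul_left _ _
  obtain ⟨j, hj, hrel⟩ := (Nat.dvd_prime_pow hp.out).mp hdvd
  by_cases hj1 : j = 0
  · -- B = A
    have hBA' : B = A := by
      apply le_antisymm hBA
      rw [← Subgroup.relIndex_eq_one, hrel, hj1, pow_zero]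
    have hn2 : 2 ≤ n := by
      by_contra hcon
      have hle : n ≤ 1 := by omega
      have : p ^ n ≤ p ^ 1 := Nat.pow_le_pow_right hp.out.pos hle
      have h2 : p ^ 1 < p ^ 2 := Nat.pow_lt_pow_right hp.out.one_lt (by norm_num)
      omega
    obtain ⟨k, rfl⟩ : ∃ k, n = k + 1 := ⟨n - 1, by omega⟩
    obtain ⟨K₀, hK₀⟩ := Sylow.exists_subgroup_card_pow_prime (G := ↥A) p (n := k)
      (by rw [hn]; exact pow_dvd_pow p (Nat.le_succ k))
    refine ⟨K₀.map A.subtype, ?_, Subgroup.map_subtype_le K₀, ?_⟩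
    · rw [hBA']; exact Subgroup.map_subtype_le K₀
    · have hcard : Nat.card ↥(K₀.map A.subtype) = p ^ k := by
        rw [← hK₀]
        exact Nat.card_congr (K₀.equivMapOfInjective A.subtype A.subtype_injective).symm.toEquiv
      have h1 := card_mul_relIndex' (Subgroup.map_subtype_le K₀)
      rw [hcard, hn, pow_succ] at h1
      exact Nat.eq_of_mul_eq_mul_left (pow_pos hp.out.pos k) h1
  · -- relIndex = p
    refine ⟨B, le_rfl, hBA, ?_⟩
    have hj' : 1 ≤ j := Nat.one_le_iff_ne_zero.mpr hj1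
    have : p ^ 1 ≤ p ^ j := Nat.pow_le_pow_right hp.out.pos hj'
    rw [hrel] at hB ⊢
    rw [pow_one] at this
    omega

/-- Let A be a noncyclic elementary abelian p-subgroup of a finite group H normalizing a solvable subgroup K of order prime to p, q a prime dividing |K|, and U ≤ K a subgroup of order prime to q such that ⁅U, C_K(B)⁆ has order prime to q for every subgroup B of index p in A. Then U ≤ O_{q'}(K). -/
theorem result {H : Type*} [Group H] [Finite H] (p : ℕ) [Fact p.Prime] (A K : Subgroup H) (hA : Cfsg.IsElementaryAbelian p A) (hA2 : p ^ 2 ≤ Nat.card ↥A) (hK : ¬ p ∣ Nat.card ↥K) (hKs : Group.IsSolvable ↥K) (hAK : A ≤ Subgroup.normalizer (K : Set H)) (q : ℕ) [Fact q.Prime] (hqK : q ∣ Nat.card ↥K) (U : Subgroup H) (hU : U ≤ K) (hUq : ¬ q ∣ Nat.card ↥U) (hcomm : ∀ B : Subgroup H, B ≤ A → B.relIndex A = p → ¬ q ∣ Nat.card ↥⁅U, K ⊓ Subgroup.centralizer (B : Set H)⁆) : U ≤ (Cfsg.pPrimeCore q ↥K).map K.subtype := by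
  have hconstr : IsPConstrained q ↥K := isPConstrained_of_isSolvable q hKs
  have hRK : relR q K ≤ K := relR_le q K
  -- R is a p'-group normalized by A
  have hRp : ¬ p ∣ Nat.card ↥(relR q K) := fun h => hK (h.trans (Subgroup.card_dvd_of_le hRK))
  have hAR : A ≤ Subgroup.normalizer (relR q K : Set H) :=
    hAK.trans (normalizer_le_normalizer_relR q K)
  have hgen := Cfsg.Agent.S1324.result p A (relR q K) hA hA2 hRp hAR
  -- the subgroup C* of elements of K commuting with U modulo N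
  let Cs : Subgroup H :=
    { carrier := {y | y ∈ K ∧ ∀ c ∈ U, ⁅c, y⁆ ∈ relK q K}
      one_mem' := ⟨K.one_mem, fun c _ => by simp [commutatorElement_def, Subgroup.one_mem]⟩
      mul_mem' := by
        rintro y₁ y₂ ⟨h1K, h1⟩ ⟨h2K, h2⟩
        refine ⟨K.mul_mem h1K h2K, fun c hc => ?_⟩
        have e : ⁅c, y₁ * y₂⁆ = ⁅c, y₁⁆ * (y₁ * ⁅c, y₂⁆ * y₁⁻¹) := by
          simp only [commutatorElement_def]; group
        rw [e]
        exact Subgroup.mul_mem _ (h1 c hc)
          ((Subgroup.mem_normalizer_iff.mp (le_normalizer_relK q K h1K) _).mp (h2 c hc))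
      inv_mem' := by
        rintro y ⟨hyK, hy⟩
        refine ⟨K.inv_mem hyK, fun c hc => ?_⟩
        have e : ⁅c, y⁻¹⁆ = y⁻¹ * (⁅c, y⁆)⁻¹ * y⁻¹⁻¹ := by
          simp only [commutatorElement_def]; group
        rw [e]
        exact (Subgroup.mem_normalizer_iff.mp (le_normalizer_relK q K (K.inv_mem hyK)) _).mp
          (Subgroup.inv_mem _ (hy c hc)) }
  have hCs : relR q K ≤ Cs := by
    rw [hgen]
    apply iSup_le
    rintro ⟨B, hBA, hBp⟩
    obtain ⟨B₀, hB₀B, hB₀A, hB₀p⟩ := exists_hyperplane_le p A hA hA2 B hBA hBp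
    rintro y ⟨hyR, hyB⟩
    refine ⟨hRK hyR, fun c hc => ?_⟩
    have hyB₀ : y ∈ K ⊓ Subgroup.centralizer (B₀ : Set H) :=
      ⟨hRK hyR, Subgroup.centralizer_le (by exact_mod_cast hB₀B) hyB⟩
    have hW : ⁅c, y⁆ ∈ ⁅U, K ⊓ Subgroup.centralizer (B₀ : Set H)⁆ :=
      Subgroup.commutator_mem_commutator hc hyB₀
    have hcop : (orderOf ⁅c, y⁆).Coprime q := by
      have h1 := Subgroup.orderOf_dvd_natCard _ hW
      have h2 : (Nat.card ↥⁅U, K ⊓ Subgroup.centralizer (B₀ : Set H)⁆).Coprime q :=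
        ((Nat.Prime.coprime_iff_not_dvd (Fact.out : q.Prime)).mpr (hcomm B₀ hB₀A hB₀p)).symm
      exact Nat.Coprime.coprime_dvd_left h1 h2
    apply mem_relK_of_coprime q _ hcop
    rw [commutatorElement_def]
    exact Subgroup.mul_mem _
      ((Subgroup.mem_normalizer_iff.mp (le_normalizer_relR q K (hU hc)) y).mp hyR)
      (Subgroup.inv_mem _ hyR)
  intro c hc
  have hcK : c ∈ K := hU hc
  have hcq : (orderOf (⟨c, hcK⟩ : ↥K)).Coprime q := by
    rw [Subgroup.orderOf_mk]
    have h1 := Subgroup.orderOf_dvd_natCard _ hc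
    exact Nat.Coprime.coprime_dvd_left h1
      ((Nat.Prime.coprime_iff_not_dvd (Fact.out : q.Prime)).mpr hUq).symm
  have hmem := mem_pPrimeCore_of_isPConstrained q hconstr hcq (by
    intro y hy
    rw [← coe_mem_relK_iff]
    have hyR : (y : H) ∈ relR q K := (coe_mem_relR_iff q K y).mpr hy
    have := (hCs hyR).2 c hc
    simpa [commutatorElement_def] using this)
  exact ⟨⟨c, hcK⟩, hmem, rfl⟩

end Cfsg.Agent.S1288
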