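import Cfsg.Statements.S1289
import Cfsg.Agent.Lib.Helper22.PComponents2

set_option autoImplicit false
open Cfsg
open scoped commutatorElement

namespace Cfsg.Agent.S1289


open Cfsg.Agent.Lib.Helper22

/-- A p-component K of the finite group X is subnormal, perfect, of order divisible by p, and minimal among the subnormal perfect subgroups of X of order divisible by p. -/
theorem result {X : Type*} [Group X] [Finite X] (p : ℕ) [Fact p.Prime] (K : Subgroup X) (hK : Cfsg.IsPComponent p K) : K.IsSubnormal ∧ ⁅K, K⁆ = K ∧ p ∣ Nat.card ↥K ∧ ∀ H : Subgroup X, H ≤ K → H.IsSubnormal → ⁅H, H⁆ = H → p ∣ Nat.card ↥H → H = K := by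
  refine ⟨hK.1, pComponent_commutator_self p hK, pComponent_dvd_card p hK, ?_⟩
  intro H hHK hHsn hHperf hpH
  set π := QuotientGroup.mk' (pPrimeCore p X) with hπ
  have hle : H.map π ≤ K.map π := Subgroup.map_mono hHK
  have hsn : ((H.map π).subgroupOf (K.map π)).IsSubnormal :=
    (hHsn.map (QuotientGroup.mk'_surjective _)).subgroupOf
  rcases quasisimple_subnormal_le_center_or_eq_top hK.2.1.2 hsn with h | h
  · exfalso
    -- the image of `H` is abelian and perfect, hence trivial
    have h1 : ⁅H.map π, H.map π⁆ = ⊥ := by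
      rw [eq_bot_iff, Subgroup.commutator_le]
      intro a ha b hb
      have hac : (⟨a, hle ha⟩ : K.map π) ∈ Subgroup.center (K.map π) := h ha
      rw [Subgroup.mem_center_iff] at hac
      have := hac ⟨b, hle hb⟩
      rw [Subgroup.mem_bot, commutatorElement_eq_one_iff_mul_comm]
      exact (congrArg Subtype.val this).symm
    rw [← Subgroup.map_commutator, hHperf] at h1
    rw [Subgroup.map_eq_bot_iff, QuotientGroup.ker_mk'] at h1
    have hc : (Nat.card H).Coprime p :=
      Nat.Coprime.coprime_dvd_left (Subgroup.card_dvd_of_le h1) (pPrimeCore_card_coprime p)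
    have : p ∣ 1 := by
      have := Nat.dvd_gcd hpH (dvd_refl p)
      rwa [hc] at this
    exact (Fact.out : p.Prime).one_lt.ne' (Nat.dvd_one.mp this)
  · rw [Subgroup.subgroupOf_eq_top] at h
    exact hK.2.2 H hHsn hHK (le_antisymm hle h)

end Cfsg.Agent.S1289
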