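import Cfsg.Statements.S1292
import Cfsg.Agent.Lib.Helper31.CharPLocals

set_option autoImplicit false
open Cfsg

namespace Cfsg.Agent.S1292


open Cfsg.Agent.Lib.Helper31 in

/-- Let G be a finite group such that F*(C_G(t)) = O_2(C_G(t)) for every involution t. Then F*(N_G(T)) = O_2(N_G(T)) for every nontrivial 2-subgroup T of G. -/
theorem result {G : Type*} [Group G] [Finite G] (h : ∀ t : G, orderOf t = 2 → Cfsg.generalizedFittingSubgroup ↥(Subgroup.centralizer ({t} : Set G)) = Cfsg.pCore 2 ↥(Subgroup.centralizer ({t} : Set G))) (T : Subgroup G) (hT : IsPGroup 2 ↥T) (hT1 : T ≠ ⊥) : Cfsg.generalizedFittingSubgroup ↥(Subgroup.normalizer (T : Set G)) = Cfsg.pCore 2 ↥(Subgroup.normalizer (T : Set G)) := by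
  haveI : Fact (Nat.Prime 2) := ⟨Nat.prime_two⟩
  -- find an involution in T
  have hTnt : Nontrivial T := (Subgroup.nontrivial_iff_ne_bot T).mpr hT1
  obtain ⟨n, hn⟩ := (IsPGroup.iff_card.mp hT)
  have hn0 : n ≠ 0 := by
    rintro rfl
    have : Nat.card T = 1 := by simpa using hn
    have := (Nat.card_eq_one_iff_unique.mp this).1
    exact not_subsingleton T this
  have hdvd : 2 ∣ Nat.card T := by
    rw [hn]; exact dvd_pow_self 2 hn0
  obtain ⟨t', ht'⟩ := exists_prime_orderOf_dvd_card' 2 hdvd
  set t : G := (t' : G) with ht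
  have hto : orderOf t = 2 := by rw [ht, Subgroup.orderOf_coe]; exact ht'
  have htT : t ∈ T := t'.2
  have hA : Subgroup.zpowers t ≤ T := by
    rw [Subgroup.zpowers_le]; exact htT
  have hcent : Subgroup.centralizer ({t} : Set G) = Subgroup.centralizer ((Subgroup.zpowers t : Subgroup G) : Set G) := by
    rw [Subgroup.zpowers_eq_closure, Subgroup.centralizer_closure]
  have h1 : CharP 2 (Subgroup.centralizer ({t} : Set G)) :=
    charP_iff_generalizedFittingSubgroup_eq.mpr (h t hto)
  rw [hcent] at h1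
  have hAp : IsPGroup 2 (Subgroup.zpowers t) := hT.to_le hA
  have h2 : CharP 2 (Subgroup.normalizer ((Subgroup.zpowers t : Subgroup G) : Set G)) :=
    charP_normalizer_of_charP_centralizer hAp h1
  have h3 := charP_normalizer_of_le_of_charP hT hA h2
  exact charP_iff_generalizedFittingSubgroup_eq.mp h3

end Cfsg.Agent.S1292
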