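import Cfsg.Statements.S1303
import Cfsg.Agent.Lib.Helper22.PConstrained

set_option autoImplicit false
open Cfsg

namespace Cfsg.Agent.S1303


open Cfsg.Agent.Lib.Helper22

/-- the group `SL₂(3)` -/
abbrev G3 := Matrix.SpecialLinearGroup (Fin 2) (ZMod 3)

set_option maxRecDepth 100000 in
theorem pow24 : ∀ g : G3, g ^ 24 = 1 := by decide +kernel

set_option maxRecDepth 100000 in
theorem pow4_mul : ∀ a b : G3, a ^ 4 = 1 → b ^ 4 = 1 → (a * b) ^ 4 = 1 := by decide +kernel

set_option maxRecDepth 100000 in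
theorem comm_pow4 : ∀ a b : G3, (a * b * a⁻¹ * b⁻¹) ^ 4 = 1 := by decide +kernel

set_option maxRecDepth 100000 in
theorem exists_comm_ne : ∀ n : G3, n ≠ 1 → n ^ 3 = 1 → ∃ g : G3, g * n * g⁻¹ * n⁻¹ ≠ 1 := by
  decide +kernel

set_option maxRecDepth 100000 in
theorem invol_central : ∀ t : G3, t ^ 2 = 1 → ∀ g : G3, g * t = t * g := by decide +kernel

/-- the quaternion subgroup -/
def Q8 : Subgroup G3 where
  carrier := {g | g ^ 4 = 1}
  mul_mem' := fun {a b} ha hb => pow4_mul a b ha hb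
  one_mem' := one_pow 4
  inv_mem' := fun {a} ha => by
    show (a⁻¹) ^ 4 = 1
    rw [inv_pow, ha, inv_one]

theorem mem_Q8 (g : G3) : g ∈ Q8 ↔ g ^ 4 = 1 := Iff.rfl

instance Q8_normal : Q8.Normal := ⟨fun n hn g => by
  rw [mem_Q8] at hn ⊢
  rw [conj_pow, hn, mul_one, mul_inv_cancel]⟩

theorem isPGroup_Q8 : IsPGroup 2 Q8 := by
  intro g
  refine ⟨2, ?_⟩
  apply Subtype.ext
  have := g.2
  rw [mem_Q8] at this
  simpa using this

theorem isSolvable_of_commutator_le {G : Type*} [Group G] (N : Subgroup G)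
    (hN : Group.IsSolvable N) (h : commutator G ≤ N) : Group.IsSolvable G := by
  haveI := hN
  exact Group.isSolvable_of_ker_le_range N.subtype (Abelianization.of (G := G))
    (by rw [Abelianization.ker_of, Subgroup.range_subtype]; exact h)

theorem isSolvable_of_isPGroup {G : Type*} [Group G] [Finite G] {p : ℕ} [Fact p.Prime]
    (N : Subgroup G) (hN : IsPGroup p N) : Group.IsSolvable N := by
  haveI := hN.isNilpotent
  infer_instance

theorem isSolvable_G3 : Group.IsSolvable G3 := by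
  haveI : Fact (Nat.Prime 2) := ⟨Nat.prime_two⟩
  apply isSolvable_of_commutator_le Q8 (isSolvable_of_isPGroup Q8 isPGroup_Q8)
  rw [commutator_def, Subgroup.commutator_le]
  intro a _ b _
  rw [mem_Q8, commutatorElement_def]
  exact comm_pow4 a b

theorem layer_eq_bot_of_isSolvable {H : Type*} [Group H] (h : Group.IsSolvable H) : layer H = ⊥ := by
  unfold layer
  rw [eq_bot_iff]
  apply sSup_le
  intro K hK
  exfalso
  exact component_not_isSolvable hK inferInstance

theorem pPrimeCore_G3 : pPrimeCore 2 G3 = ⊥ := by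
  unfold pPrimeCore
  rw [eq_bot_iff]
  apply sSup_le
  rintro N ⟨hN, hcop⟩
  intro n hn
  rw [Subgroup.mem_bot]
  by_contra hne
  have ho : orderOf n ∣ Nat.card N := Subgroup.orderOf_dvd_natCard N hn
  have hc : (orderOf n).Coprime 2 := Nat.Coprime.coprime_dvd_left ho hcop
  have h24 : orderOf n ∣ 8 * 3 := orderOf_dvd_of_pow_eq_one (pow24 n)
  have h3 : orderOf n ∣ 3 :=
    Nat.Coprime.dvd_of_dvd_mul_left (Nat.Coprime.pow_right 3 hc) h24
  have hn3 : n ^ 3 = 1 := orderOf_dvd_iff_pow_eq_one.mp h3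
  obtain ⟨g, hg⟩ := exists_comm_ne n hne hn3
  have hmem : g * n * g⁻¹ * n⁻¹ ∈ N := N.mul_mem (hN.conj_mem n hn g) (N.inv_mem hn)
  have ho' : orderOf (g * n * g⁻¹ * n⁻¹) ∣ Nat.card N := Subgroup.orderOf_dvd_natCard N hmem
  have hc' : (orderOf (g * n * g⁻¹ * n⁻¹)).Coprime (2 ^ 2) :=
    Nat.Coprime.pow_right 2 (Nat.Coprime.coprime_dvd_left ho' hcop)
  have h4 : orderOf (g * n * g⁻¹ * n⁻¹) ∣ 2 ^ 2 := orderOf_dvd_of_pow_eq_one (comm_pow4 g n)
  have h1 : orderOf (g * n * g⁻¹ * n⁻¹) = 1 := Nat.Coprime.eq_one_of_dvd hc' h4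
  exact hg (orderOf_eq_one_iff.mp h1)

def uu : G3 := ⟨!![1, 1; 0, 1], by decide⟩

/-- The group X = SL(2, 3): it is 2-constrained, O_{2'}(X) = 1, its centre A = Z(X) contains every involution of X = C_X(A), and X has a subgroup of order 3 (normalized by A) not contained in O_{2'}(X). -/
theorem result : Cfsg.IsPConstrained 2 (Matrix.SpecialLinearGroup (Fin 2) (ZMod 3)) ∧ Cfsg.pPrimeCore 2 (Matrix.SpecialLinearGroup (Fin 2) (ZMod 3)) = ⊥ ∧ (∀ t : Matrix.SpecialLinearGroup (Fin 2) (ZMod 3), orderOf t = 2 → t ∈ Subgroup.center (Matrix.SpecialLinearGroup (Fin 2) (ZMod 3))) ∧ ∃ Q : Subgroup (Matrix.SpecialLinearGroup (Fin 2) (ZMod 3)), Nat.card ↥Q = 3 ∧ ¬ (Q ≤ Cfsg.pPrimeCore 2 (Matrix.SpecialLinearGroup (Fin 2) (ZMod 3))) := by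
  haveI : Fact (Nat.Prime 2) := ⟨Nat.prime_two⟩
  refine ⟨?_, pPrimeCore_G3, ?_, ?_⟩
  · rw [isPConstrained_iff_layer_quotient_eq_bot]
    haveI := isSolvable_G3
    exact layer_eq_bot_of_isSolvable inferInstance
  · intro t ht
    rw [Subgroup.mem_center_iff]
    have : t ^ 2 = 1 := by have h := pow_orderOf_eq_one t; rwa [ht] at h
    exact invol_central t this
  · refine ⟨Subgroup.zpowers uu, ?_, ?_⟩
    · rw [Nat.card_zpowers]
      haveI : Fact (Nat.Prime 3) := ⟨Nat.prime_three⟩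
      exact orderOf_eq_prime (by decide) (by decide)
    · rw [pPrimeCore_G3]
      intro h
      have := h (Subgroup.mem_zpowers uu)
      rw [Subgroup.mem_bot] at this
      revert this
      decide

end Cfsg.Agent.S1303
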