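import Cfsg.Statements.S1306
import Cfsg.Agent.Lib.Helper22.FStar

set_option autoImplicit false
open Cfsg
open scoped commutatorElement

namespace Cfsg.Agent.S1306


open Cfsg.Agent.Lib.Helper22

/-- transport of a component of a subgroup under an isomorphism -/
theorem component_subgroupOf_map {G G' : Type*} [Group G] [Group G'] (φ : G ≃* G')
    {H C : Subgroup G} (h : IsComponent (H.subgroupOf C)) :
    IsComponent ((H.map φ.toMonoidHom).subgroupOf (C.map φ.toMonoidHom)) := by
  let e : ↥C ≃* ↥(C.map φ.toMonoidHom) := φ.subgroupMap C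
  have he : ∀ c : ↥C, ((e c : ↥(C.map φ.toMonoidHom)) : G') = φ (c : G) := fun c => rfl
  have h1 := Cfsg.Agent.Lib.Helper29.isComponent_map_mulEquiv e h
  have e' : (H.subgroupOf C).map e.toMonoidHom =
      (H.map φ.toMonoidHom).subgroupOf (C.map φ.toMonoidHom) := by
    ext z
    constructor
    · rintro ⟨c, hc, rfl⟩
      show ((e c : ↥(C.map φ.toMonoidHom)) : G') ∈ H.map φ.toMonoidHom
      rw [he]
      exact Subgroup.mem_map_of_mem _ (Subgroup.mem_subgroupOf.mp hc)
    · intro hz'
      have hz'' : (z : G') ∈ H.map φ.toMonoidHom := hz'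
      obtain ⟨l, hl, hlz⟩ := Subgroup.mem_map.mp hz''
      obtain ⟨c, hc, hcz⟩ := Subgroup.mem_map.mp z.2
      have hlc : l = c := φ.injective (hlz.trans hcz.symm)
      refine ⟨⟨c, hc⟩, ?_, ?_⟩
      · show c ∈ H
        rw [← hlc]; exact hl
      · apply Subtype.ext
        show ((e ⟨c, hc⟩ : ↥(C.map φ.toMonoidHom)) : G') = z
        rw [he]
        exact hcz
  rwa [e'] at h1

theorem map_conj_centralizer_singleton {G : Type*} [Group G] (g y : G) :
    (Subgroup.centralizer ({y} : Set G)).map (MulAut.conj g).toMonoidHom =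
      Subgroup.centralizer ({g * y * g⁻¹} : Set G) := by
  ext z
  rw [Subgroup.mem_map]
  constructor
  · rintro ⟨c, hc, rfl⟩
    rw [Subgroup.mem_centralizer_iff] at hc ⊢
    intro h hh
    rw [Set.mem_singleton_iff] at hh
    subst hh
    have := hc y rfl
    simp only [MulEquiv.coe_toMonoidHom, MulAut.conj_apply]
    calc g * y * g⁻¹ * (g * c * g⁻¹) = g * (y * c) * g⁻¹ := by group
      _ = g * (c * y) * g⁻¹ := by rw [this]
      _ = _ := by group
  · intro hz
    rw [Subgroup.mem_centralizer_iff] at hz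
    have := hz _ rfl
    refine ⟨g⁻¹ * z * g, ?_, ?_⟩
    · rw [Subgroup.mem_centralizer_iff]
      intro h hh
      rw [Set.mem_singleton_iff] at hh
      subst hh
      calc h * (g⁻¹ * z * g) = g⁻¹ * (g * h * g⁻¹ * z) * g := by group
        _ = g⁻¹ * (z * (g * h * g⁻¹)) * g := by rw [this]
        _ = _ := by group
    · simp only [MulEquiv.coe_toMonoidHom, MulAut.conj_apply]
      group

theorem mem_normalizer_of_map_conj_eq {G : Type*} [Group G] {L : Subgroup G} {g : G}
    (h : L.map (MulAut.conj g).toMonoidHom = L) : g ∈ Subgroup.normalizer (L : Set G) := by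
  rw [Subgroup.mem_normalizer_iff]
  intro x
  constructor
  · intro hx
    rw [← h]
    exact ⟨x, hx, rfl⟩
  · intro hx
    rw [← h] at hx
    obtain ⟨l, hl, hlx⟩ := hx
    simp only [MulEquiv.coe_toMonoidHom, MulAut.conj_apply] at hlx
    have : l = x := by
      have := congrArg (fun t => g⁻¹ * t * g) hlx
      simpa [mul_assoc] using this
    rwa [← this]

theorem map_conj_eq_of_mem_normalizer {G : Type*} [Group G] {L : Subgroup G} {g : G}
    (h : g ∈ Subgroup.normalizer (L : Set G)) : L.map (MulAut.conj g).toMonoidHom = L := by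
  ext x
  rw [Subgroup.mem_map]
  constructor
  · rintro ⟨l, hl, rfl⟩
    exact (Subgroup.mem_normalizer_iff.mp h l).mp hl
  · intro hx
    refine ⟨g⁻¹ * x * g, ?_, ?_⟩
    · rw [Subgroup.mem_normalizer_iff.mp h]
      have : g * (g⁻¹ * x * g) * g⁻¹ = x := by group
      rwa [this]
    · simp only [MulEquiv.coe_toMonoidHom, MulAut.conj_apply]
      group

theorem map_conj_centralizer {G : Type*} [Group G] (L : Subgroup G) (g : G) :
    (Subgroup.centralizer (L : Set G)).map (MulAut.conj g).toMonoidHom =
      Subgroup.centralizer ((L.map (MulAut.conj g).toMonoidHom : Subgroup G) : Set G) := by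
  ext z
  rw [Subgroup.mem_map]
  constructor
  · rintro ⟨c, hc, rfl⟩
    rw [Subgroup.mem_centralizer_iff] at hc ⊢
    rintro _ ⟨l, hl, rfl⟩
    have := hc l hl
    simp only [MulEquiv.coe_toMonoidHom, MulAut.conj_apply]
    calc g * l * g⁻¹ * (g * c * g⁻¹) = g * (l * c) * g⁻¹ := by group
      _ = g * (c * l) * g⁻¹ := by rw [this]
      _ = _ := by group
  · intro hz
    rw [Subgroup.mem_centralizer_iff] at hz
    refine ⟨g⁻¹ * z * g, ?_, ?_⟩
    · rw [Subgroup.mem_centralizer_iff]
      intro l hl
      have := hz (g * l * g⁻¹) ⟨l, hl, rfl⟩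
      calc l * (g⁻¹ * z * g) = g⁻¹ * (g * l * g⁻¹ * z) * g := by group
        _ = g⁻¹ * (z * (g * l * g⁻¹)) * g := by rw [this]
        _ = _ := by group
    · simp only [MulEquiv.coe_toMonoidHom, MulAut.conj_apply]
      group

/-- Let G be finite, x an involution and L ≤ C_G(x) a component of C_G(x). Suppose L is a component of C_G(y) for every involution y ∈ C_G(L), and ⁅L, g L g⁻¹⁆ ≠ 1 whenever g L g⁻¹ ≠ L. Then L is a standard subgroup of G. -/
theorem result {G : Type*} [Group G] [Finite G] (x : G) (hx : orderOf x = 2) (L : Subgroup G) (hLx : L ≤ Subgroup.centralizer ({x} : Set G)) (hL : Cfsg.IsComponent (L.subgroupOf (Subgroup.centralizer ({x} : Set G)))) (hne : ∀ y : G, orderOf y = 2 → y ∈ Subgroup.centralizer (L : Set G) → L ≤ Subgroup.centralizer ({y} : Set G) ∧ Cfsg.IsComponent (L.subgroupOf (Subgroup.centralizer ({y} : Set G)))) (hnc : ∀ g : G, L.map (MulAut.conj g).toMonoidHom ≠ L → ⁅L, L.map (MulAut.conj g).toMonoidHom⁆ ≠ ⊥) : Cfsg.IsStandardSubgroup L := by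
  have hxK : x ∈ Subgroup.centralizer (L : Set G) := by
    rw [Subgroup.mem_centralizer_iff]
    intro l hl
    have := (Subgroup.mem_centralizer_iff.mp (hLx hl)) x rfl
    exact this.symm
  -- key claim
  have key : ∀ (g y' : G), orderOf y' = 2 → y' ∈ Subgroup.centralizer (L : Set G) →
      g * y' * g⁻¹ ∈ Subgroup.centralizer (L : Set G) → L.map (MulAut.conj g).toMonoidHom = L := by
    intro g y' hy'o hy'K hyK
    by_contra hcon
    have ho : orderOf (g * y' * g⁻¹) = 2 := by
      have : g * y' * g⁻¹ = MulAut.conj g y' := by simp [MulAut.conj_apply]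
      rw [this, MulEquiv.orderOf_eq]
      exact hy'o
    obtain ⟨h1, h2⟩ := hne _ ho hyK
    obtain ⟨h3, h4⟩ := hne _ hy'o hy'K
    have h5 := component_subgroupOf_map (MulAut.conj g) h4
    rw [map_conj_centralizer_singleton] at h5
    have h6 : L.map (MulAut.conj g).toMonoidHom ≤ Subgroup.centralizer ({g * y' * g⁻¹} : Set G) := by
      rw [← map_conj_centralizer_singleton]
      exact Subgroup.map_mono h3
    have hne' : L.subgroupOf (Subgroup.centralizer ({g * y' * g⁻¹} : Set G)) ≠
        (L.map (MulAut.conj g).toMonoidHom).subgroupOf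
          (Subgroup.centralizer ({g * y' * g⁻¹} : Set G)) := by
      intro heq
      apply hcon
      apply le_antisymm
      · exact le_of_subgroupOf_le h6 heq.symm.le
      · exact le_of_subgroupOf_le h1 heq.le
    have h7 := component_commutator_eq_bot_of_ne h2 h5 hne'
    exact hnc g hcon (commutator_eq_bot_of_subgroupOf h1 h6 h7)
  have hNK : ∀ g : G, L.map (MulAut.conj g).toMonoidHom = L →
      g ∈ Subgroup.normalizer ((Subgroup.centralizer (L : Set G) : Subgroup G) : Set G) := by
    intro g hg
    apply mem_normalizer_of_map_conj_eq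
    rw [map_conj_centralizer, hg]
  refine ⟨?_, ⟨?_, ?_⟩, hnc, ?_⟩
  · exact Cfsg.Agent.Lib.Helper29.isQuasisimple_of_mulEquiv (Subgroup.subgroupOfEquivOfLe hLx) hL.2
  · -- even order
    have : orderOf x ∣ Nat.card (Subgroup.centralizer (L : Set G)) :=
      Subgroup.orderOf_dvd_natCard _ hxK
    rw [hx] at this
    exact (even_iff_two_dvd).mpr this
  · intro g hg
    by_contra hodd
    rw [Nat.not_odd_iff_even, even_iff_two_dvd] at hodd
    haveI : Fact (Nat.Prime 2) := ⟨Nat.prime_two⟩
    obtain ⟨y, hy⟩ := exists_prime_orderOf_dvd_card' 2 hodd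
    have hyo : orderOf (y : G) = 2 := by rw [Subgroup.orderOf_coe]; exact hy
    obtain ⟨hyK, hyKg⟩ := y.2
    obtain ⟨y', hy'K, hy'⟩ := Subgroup.mem_map.mp hyKg
    simp only [MulEquiv.coe_toMonoidHom, MulAut.conj_apply] at hy'
    have hy'o : orderOf y' = 2 := by
      have : (y : G) = MulAut.conj g y' := by rw [← hy']; simp [MulAut.conj_apply]
      rw [this, MulEquiv.orderOf_eq] at hyo
      exact hyo
    have := key g y' hy'o hy'K (by rw [hy']; exact hyK)
    exact hg (hNK g this)
  · apply le_antisymm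
    · intro g hg
      exact hNK g (map_conj_eq_of_mem_normalizer hg)
    · intro g hg
      apply mem_normalizer_of_map_conj_eq
      apply key g x hx hxK
      exact (Subgroup.mem_normalizer_iff.mp hg x).mp hxK

end Cfsg.Agent.S1306
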