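import Cfsg.Statements.S1307
import Cfsg.Agent.Lib.Helper51.UniqueOrderP
import Cfsg.Agent.Lib.Helper22.Quasisimple
import Cfsg.Agent.Lib.Helper29.Iso
import Cfsg.Agent.Lib.Helper49.RankOneCyclic
import Cfsg.Agent.S0215
-- import your own Cfsg.Agent.* helpers here

set_option autoImplicit false
open Cfsg

namespace Cfsg.Agent.S1307

/-- a homomorphism from a perfect group to a commutative group is trivial -/
theorem hom_trivial_of_perfect {Q A : Type*} [Group Q] [Group A] (hQ : Group.IsPerfect Q)
    (hA : ∀ a b : A, a * b = b * a) (f : Q →* A) (g : Q) : f g = 1 := by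
  have hg : g ∈ commutator Q := by
    rw [hQ.commutator_eq_top]; trivial
  rw [commutator_eq_closure] at hg
  induction hg using Subgroup.closure_induction with
  | mem x hx =>
    obtain ⟨a, b, rfl⟩ := hx
    rw [map_commutatorElement, commutatorElement_def, hA (f a) (f b)]
    group
  | one => exact map_one f
  | mul x y _ _ hx hy => rw [map_mul, hx, hy, one_mul]
  | inv x _ hx => rw [map_inv, hx, inv_one]

/-- an element central modulo the centre of a perfect group is central -/
theorem central_of_comm_mem_center {Q : Type*} [Group Q] (hQ : Group.IsPerfect Q) (u : Q)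
    (h : ∀ g : Q, u * g * u⁻¹ * g⁻¹ ∈ Subgroup.center Q) : u ∈ Subgroup.center Q := by
  let φ : Q →* Subgroup.center Q := MonoidHom.mk' (fun g => ⟨u * g * u⁻¹ * g⁻¹, h g⟩) (by
    intro a b
    apply Subtype.ext
    show u * (a * b) * u⁻¹ * (a * b)⁻¹ = (u * a * u⁻¹ * a⁻¹) * (u * b * u⁻¹ * b⁻¹)
    have hz : a * (u * b * u⁻¹ * b⁻¹) = (u * b * u⁻¹ * b⁻¹) * a :=
      Subgroup.mem_center_iff.mp (h b) a
    calc u * (a * b) * u⁻¹ * (a * b)⁻¹
        = (u * a * u⁻¹ * a⁻¹) * (a * (u * b * u⁻¹ * b⁻¹)) * a⁻¹ := by group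
      _ = (u * a * u⁻¹ * a⁻¹) * ((u * b * u⁻¹ * b⁻¹) * a) * a⁻¹ := by rw [hz]
      _ = (u * a * u⁻¹ * a⁻¹) * (u * b * u⁻¹ * b⁻¹) := by group)
  rw [Subgroup.mem_center_iff]
  intro g
  have h1 := hom_trivial_of_perfect hQ (fun a b : Subgroup.center Q => Subtype.ext (by
      exact Subgroup.mem_center_iff.mp b.2 a)) φ g
  have h2 : u * g * u⁻¹ * g⁻¹ = 1 := congrArg Subtype.val h1
  calc g * u = (u * g * u⁻¹ * g⁻¹)⁻¹ * u * g := by group
    _ = u * g := by rw [h2]; group

/-- a perfect group of even order has no cyclic Sylow 2-subgroup -/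
theorem not_isCyclic_sylow_of_perfect {Q : Type*} [Group Q] [Finite Q] (hQ : Group.IsPerfect Q)
    (h2 : 2 ∣ Nat.card Q) (P : Sylow 2 Q) (hcyc : IsCyclic ↥(P : Subgroup Q)) : False := by
  have hmin : (Nat.card Q).minFac = 2 := (Nat.minFac_eq_two_iff _).mpr h2
  have hcyc' : IsCyclic P := hcyc
  have hcomp := IsCyclic.isComplement' hmin hcyc'
  have hcomm : ∀ a b : P, a * b = b * a := fun a b =>
    Std.Commutative.comm (op := (· * ·)) a b
  have hker : (MonoidHom.transferSylow P (hcyc'.normalizer_le_centralizer hmin)).ker = ⊤ := by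
    rw [eq_top_iff]
    intro g _
    exact MonoidHom.mem_ker.mpr (hom_trivial_of_perfect hQ hcomm _ g)
  rw [hker] at hcomp
  have hcard := hcomp.card_mul_card
  rw [Subgroup.card_top] at hcard
  have hP1 : Nat.card (P : Subgroup Q) = 1 := by
    have hpos : 0 < Nat.card Q := Nat.card_pos
    exact Nat.eq_of_mul_eq_mul_left hpos (by rw [hcard, mul_one])
  have hdvd : 2 ∣ Nat.card (P : Subgroup Q) := P.dvd_card_of_dvd_card h2
  rw [hP1] at hdvd
  omega

open Cfsg.Agent.Lib in
theorem core {G : Type*} [Group G] [Finite G] (L : Subgroup G) (hqs : IsQuasisimple ↥L)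
    (heven : Even (Nat.card ↥L)) (hrk : Cfsg.PRankLE 2 1 ↥L)
    (hne : ∀ y : G, orderOf y = 2 → y ∈ Subgroup.centralizer (L : Set G) → L ≤ Subgroup.centralizer ({y} : Set G) ∧ Cfsg.IsComponent (L.subgroupOf (Subgroup.centralizer ({y} : Set G))))
    (hZ : ∀ (P : Sylow 2 ↥L) (u : ↥L), orderOf u = 2 → u ∈ P →
      (∀ g : ↥L, g * u * g⁻¹ ∈ P → g * u * g⁻¹ = u) →
      ∃ N : Subgroup ↥L, N.Normal ∧ Odd (Nat.card N) ∧ ∀ g : ↥L, (u * g * u⁻¹ * g⁻¹) ∈ N) :
    ∃ t ∈ L, Cfsg.IsClassicalInvolution t := by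
  classical
  have : Fact (Nat.Prime 2) := ⟨Nat.prime_two⟩
  have hperf : Group.IsPerfect ↥L := hqs.1
  obtain ⟨P⟩ : Nonempty (Sylow 2 ↥L) := inferInstance
  have h2L : 2 ∣ Nat.card ↥L := heven.two_dvd
  have hPcard : 2 ∣ Nat.card (P : Subgroup ↥L) := P.dvd_card_of_dvd_card h2L
  have hPnt : Nontrivial ↥(P : Subgroup ↥L) := by
    rw [← Finite.one_lt_card_iff_nontrivial]
    have := Nat.le_of_dvd Nat.card_pos hPcard
    omega
  have hPp : IsPGroup 2 ↥(P : Subgroup ↥L) := P.isPGroup'
  have hPrk : PRankLE 2 1 ↥(P : Subgroup ↥L) := Helper49.pRankLE_one_subgroup hrk _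
  obtain ⟨z, hzc, hz2, hzall⟩ := Helper49.exists_central_zpowers hPp hPrk
  have huniq : ∀ H K : Subgroup ↥(P : Subgroup ↥L), Nat.card H = 2 → Nat.card K = 2 → H = K := by
    have key : ∀ H : Subgroup ↥(P : Subgroup ↥L), Nat.card H = 2 → H = Subgroup.zpowers z := by
      intro H hH
      apply Subgroup.eq_of_le_of_card_ge
      · intro h hh
        apply hzall
        have h3 : (⟨h, hh⟩ : H) ^ Nat.card H = 1 := pow_card_eq_one'
        rw [hH] at h3
        exact congrArg Subtype.val h3
      · rw [Nat.card_zpowers, hz2, hH]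
    intro H K hH hK
    rw [key H hH, key K hK]
  rcases Helper51.cyclic_or_quaternion_of_uniqueOrderP 2 hPp huniq with hcyc | ⟨-, n, ⟨e⟩⟩
  · exact (not_isCyclic_sylow_of_perfect hperf h2L P hcyc).elim
  · rcases n with _ | m
    · exfalso
      apply not_isCyclic_sylow_of_perfect hperf h2L P
      have e' : ↥(P : Subgroup ↥L) ≃* QuaternionGroup 1 := e
      have := QuaternionGroup.quaternionGroup_one_isCyclic
      exact isCyclic_of_surjective e'.symm e'.symm.surjective
    · set u : ↥L := (z : ↥L) with hu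
      have hu2 : orderOf u = 2 := by
        rw [hu, Subgroup.orderOf_coe]; exact hz2
      have huP : u ∈ P := z.2
      have hiso : ∀ g : ↥L, g * u * g⁻¹ ∈ P → g * u * g⁻¹ = u := by
        intro g hg
        have h1 : (⟨g * u * g⁻¹, hg⟩ : ↥(P : Subgroup ↥L)) ^ 2 = 1 := by
          apply Subtype.ext
          show (g * u * g⁻¹) ^ 2 = 1
          rw [conj_pow, ← hu2, pow_orderOf_eq_one]
          group
        have h2 := hzall _ h1
        obtain ⟨k, hk⟩ := Subgroup.mem_zpowers_iff.mp h2
        have hk' : z ^ (k % 2) = ⟨g * u * g⁻¹, hg⟩ := by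
          rw [← hk]
          have := zpow_mod_orderOf z k
          rw [hz2] at this
          exact_mod_cast this
        rcases Int.emod_two_eq_zero_or_one k with h0 | h1'
        · rw [h0, zpow_zero] at hk'
          exfalso
          have h3 : g * u * g⁻¹ = 1 := (congrArg Subtype.val hk').symm
          have hu1 : u = 1 := by
            have := congrArg (fun y => g⁻¹ * y * g) h3
            simpa [mul_assoc] using this
          rw [hu1, orderOf_one] at hu2
          omega
        · rw [h1', zpow_one] at hk'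
          exact (congrArg Subtype.val hk').symm
      obtain ⟨N, hNn, hNodd, hNc⟩ := hZ P u hu2 huP hiso
      have hNtop : N ≠ ⊤ := by
        intro h
        rw [h, Subgroup.card_top] at hNodd
        exact (Nat.not_even_iff_odd.mpr hNodd) heven
      have hNcen : N ≤ Subgroup.center ↥L := by
        rcases Helper22.quasisimple_normal_le_center_or_eq_top hqs N with h | h
        · exact h
        · exact absurd h hNtop
      have hucen : u ∈ Subgroup.center ↥L :=
        central_of_comm_mem_center hperf u (fun g => hNcen (hNc g))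
      have ht2 : orderOf (u : G) = 2 := by
        rw [Subgroup.orderOf_coe]; exact hu2
      have htc : (u : G) ∈ Subgroup.centralizer (L : Set G) := by
        rw [Subgroup.mem_centralizer_iff]
        intro l hl
        have := Subgroup.mem_center_iff.mp hucen ⟨l, hl⟩
        exact congrArg Subtype.val this
      obtain ⟨hLt, hcomp⟩ := hne (u : G) ht2 htc
      exact ⟨(u : G), u.2, ht2, L, hLt, u.2, hcomp.1, P, m, ⟨e⟩⟩

/-- Let G be finite, x an involution and L ≤ C_G(x) a component of C_G(x) of even order and 2-rank 1, such that L is a component of C_G(y) for every involution y ∈ C_G(L). Then some involution of L is a classical involution of G. -/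
theorem result {G : Type*} [Group G] [Finite G] (x : G) (hx : orderOf x = 2) (L : Subgroup G) (hLx : L ≤ Subgroup.centralizer ({x} : Set G)) (hL : Cfsg.IsComponent (L.subgroupOf (Subgroup.centralizer ({x} : Set G)))) (heven : Even (Nat.card ↥L)) (hrk : Cfsg.PRankLE 2 1 ↥L) (hne : ∀ y : G, orderOf y = 2 → y ∈ Subgroup.centralizer (L : Set G) → L ≤ Subgroup.centralizer ({y} : Set G) ∧ Cfsg.IsComponent (L.subgroupOf (Subgroup.centralizer ({y} : Set G)))) : ∃ t ∈ L, Cfsg.IsClassicalInvolution t := by
  have hqs : IsQuasisimple ↥L :=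
    Cfsg.Agent.Lib.Helper29.isQuasisimple_of_mulEquiv (Subgroup.subgroupOfEquivOfLe hLx) hL.2
  exact core L hqs heven hrk hne
    (fun P u hu huP hiso => Cfsg.Agent.S0215.result P u hu huP hiso)

end Cfsg.Agent.S1307
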