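import Cfsg.Statements.S3752
-- import your own Cfsg.Agent.* helpers here
import Cfsg.Agent.Lib.Helper22.FStar
import Cfsg.Agent.Lib.Helper1.Fitting
import Cfsg.Agent.Lib.Helper29.Iso
import Cfsg.Agent.Lib.Helper47.Subnormal
import Cfsg.Agent.Lib.Helper47.Coprime
import Cfsg.Agent.Lib.Helper49.CharP2

set_option autoImplicit false
set_option linter.style.haveILetI false
set_option linter.unusedSectionVars false
open Cfsg

namespace Cfsg.Agent.S3752

open scoped commutatorElement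
open Cfsg.Agent.Lib.Helper47 (pCoreOf_le pCoreOf_isPGroup le_pCoreOf normalizer_le_normalizer_pCoreOf)

section General

variable {G : Type*} [Group G]

/-- Commutator of two subgroups normalizing each other. -/
lemma commutator_le_inf_of_le_normalizer {X Y : Subgroup G}
    (hXY : X ≤ Subgroup.normalizer (Y : Set G)) (hYX : Y ≤ Subgroup.normalizer (X : Set G)) :
    ⁅X, Y⁆ ≤ X ⊓ Y := by
  rw [Subgroup.commutator_le]
  intro x hx y hy
  refine Subgroup.mem_inf.mpr ⟨?_, ?_⟩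
  · have h1 : y * x⁻¹ * y⁻¹ ∈ X :=
      (Subgroup.mem_normalizer_iff.mp (hYX hy) x⁻¹).mp (X.inv_mem hx)
    have : ⁅x, y⁆ = x * (y * x⁻¹ * y⁻¹) := by rw [commutatorElement_def]; group
    rw [this]; exact X.mul_mem hx h1
  · have h1 : x * y * x⁻¹ ∈ Y := (Subgroup.mem_normalizer_iff.mp (hXY hx) y).mp hy
    have : ⁅x, y⁆ = (x * y * x⁻¹) * y⁻¹ := by rw [commutatorElement_def]
    rw [this]; exact Y.mul_mem h1 (Y.inv_mem hy)

/-- The `p`-elements of an abelian subgroup. -/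
def pPart (p : ℕ) (A : Subgroup G) (hA : ∀ a ∈ A, ∀ b ∈ A, a * b = b * a) : Subgroup G where
  carrier := {z | z ∈ A ∧ ∃ k : ℕ, z ^ p ^ k = 1}
  one_mem' := ⟨A.one_mem, 0, by simp⟩
  mul_mem' := by
    rintro a b ⟨ha, k, hk⟩ ⟨hb, l, hl⟩
    refine ⟨A.mul_mem ha hb, k + l, ?_⟩
    have hc : Commute a b := hA a ha b hb
    rw [hc.mul_pow, pow_add, pow_mul, hk, one_pow, mul_comm (p ^ k) (p ^ l), pow_mul, hl, one_pow,
      mul_one]
  inv_mem' := by
    rintro a ⟨ha, k, hk⟩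
    exact ⟨A.inv_mem ha, k, by rw [inv_pow, hk, inv_one]⟩

lemma mem_pPart {p : ℕ} {A : Subgroup G} {hA : ∀ a ∈ A, ∀ b ∈ A, a * b = b * a} {z : G} :
    z ∈ pPart p A hA ↔ z ∈ A ∧ ∃ k : ℕ, z ^ p ^ k = 1 := Iff.rfl

lemma isPGroup_pPart (p : ℕ) (A : Subgroup G) (hA : ∀ a ∈ A, ∀ b ∈ A, a * b = b * a) :
    IsPGroup p (pPart p A hA) := by
  rintro ⟨z, hz⟩
  obtain ⟨k, hk⟩ := hz.2
  exact ⟨k, Subtype.ext (by simpa using hk)⟩

lemma le_normalizer_pPart {p : ℕ} {A M : Subgroup G} (hA : ∀ a ∈ A, ∀ b ∈ A, a * b = b * a)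
    (hM : M ≤ Subgroup.normalizer (A : Set G)) :
    M ≤ Subgroup.normalizer ((pPart p A hA : Subgroup G) : Set G) := by
  intro m hm
  rw [Subgroup.mem_normalizer_iff]
  intro z
  have hmA := Subgroup.mem_normalizer_iff.mp (hM hm)
  constructor
  · rintro ⟨hz, k, hk⟩
    exact ⟨(hmA z).mp hz, k, by rw [conj_pow, hk]; simp⟩
  · rintro ⟨hz, k, hk⟩
    refine ⟨(hmA z).mpr hz, k, ?_⟩
    rw [conj_pow] at hk
    have : z ^ p ^ k = m⁻¹ * (m * z ^ p ^ k * m⁻¹) * m := by group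
    rw [this, hk]; simp

/-- An element-wise stability lemma: a `p`-element `x` and a `p'`-element `h` whose commutator
lies in an abelian subgroup `A` normalized by `x`, with `x` centralizing the `p'`-elements of `A`
and `h` centralizing the `p`-elements of `A`, commute. -/
lemma commute_of_stab [Finite G] {p : ℕ} [Fact p.Prime] (A : Subgroup G)
    (hA : ∀ a ∈ A, ∀ b ∈ A, a * b = b * a) (x h : G) (hxA : ∀ z ∈ A, x * z * x⁻¹ ∈ A)
    (hx : ∃ b : ℕ, x ^ p ^ b = 1) (hh : (orderOf h).Coprime p) (hc : ⁅x, h⁆ ∈ A)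
    (hx' : ∀ z ∈ A, (orderOf z).Coprime p → x * z = z * x)
    (hh' : ∀ z ∈ A, (∃ k : ℕ, z ^ p ^ k = 1) → h * z = z * h) : x * h = h * x := by
  have hp : p.Prime := Fact.out
  set c : G := ⁅x, h⁆ with hcdef
  set a : ℕ := (Nat.card A).factorization p with ha
  set m : ℕ := Nat.card A / p ^ a with hm
  have hcard : p ^ a * m = Nat.card A := Nat.ordProj_mul_ordCompl_eq_self (Nat.card A) p
  have hmcop : m.Coprime p := (Nat.coprime_ordCompl hp Nat.card_pos.ne').symm
  have hpowA : ∀ z ∈ A, z ^ Nat.card A = 1 := by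
    intro z hz
    have h1 : (⟨z, hz⟩ : ↥A) ^ Nat.card ↥A = 1 := pow_card_eq_one'
    have h2 := congrArg Subtype.val h1
    rwa [Subgroup.coe_pow, Subgroup.coe_one] at h2
  set t : G := c ^ p ^ a with htdef
  have htA : t ∈ A := A.pow_mem hc _
  have htm : t ^ m = 1 := by rw [htdef, ← pow_mul, hcard]; exact hpowA c hc
  have htcop : (orderOf t).Coprime p :=
    Nat.Coprime.coprime_dvd_left (orderOf_dvd_of_pow_eq_one htm) hmcop
  have hxt : Commute x t := hx' t htA htcop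
  obtain ⟨b, hb⟩ := hx
  -- u = h x⁻¹ h⁻¹ = x⁻¹ c
  have hu : h * x⁻¹ * h⁻¹ = x⁻¹ * c := by rw [hcdef, commutatorElement_def]; group
  have hupow : (x⁻¹ * c) ^ p ^ b = 1 := by
    rw [← hu, conj_pow, inv_pow, hb]; simp
  have key : ∀ j : ℕ, ∃ d ∈ A, (x⁻¹ * c) ^ j = (x⁻¹) ^ j * d ∧ d ^ p ^ a = t ^ j := by
    intro j
    induction j with
    | zero => exact ⟨1, A.one_mem, by simp, by simp⟩
    | succ j ih =>
      obtain ⟨d, hdA, hd1, hd2⟩ := ih
      refine ⟨x * d * x⁻¹ * c, A.mul_mem (hxA d hdA) hc, ?_, ?_⟩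
      · rw [pow_succ, hd1, pow_succ]; group
      · have hcomm : Commute (x * d * x⁻¹) c := hA _ (hxA d hdA) _ hc
        rw [hcomm.mul_pow, conj_pow, hd2, ← htdef, pow_succ]
        have : x * t ^ j * x⁻¹ = t ^ j := by
          have := (hxt.pow_right j).eq
          rw [this]; group
        rw [this]
  obtain ⟨d, -, hd1, hd2⟩ := key (p ^ b)
  rw [hupow, inv_pow, hb, inv_one, one_mul] at hd1
  rw [← hd1, one_pow] at hd2
  have ht1 : t = 1 := by
    have h1 : orderOf t ∣ p ^ b := orderOf_dvd_of_pow_eq_one hd2.symm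
    have h2 : (orderOf t).Coprime (p ^ b) := Nat.Coprime.pow_right b htcop
    exact orderOf_eq_one_iff.mp (Nat.eq_one_of_dvd_coprimes h2 dvd_rfl h1)
  have hcp : c ^ p ^ a = 1 := ht1
  have hhc : Commute c h := ((hh' c hc ⟨a, hcp⟩).symm : c * h = h * c)
  have hc1 : c = 1 :=
    Cfsg.Agent.Lib.Helper47.commutator_eq_one_of_coprime (p := p) x h hhc hh ⟨a, hcp⟩
  exact commutatorElement_eq_one_iff_mul_comm.mp hc1

end General

section Relative

variable {G : Type*} [Group G]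

/-- `E(M)` as a subgroup of the ambient group. -/
def EOf (M : Subgroup G) : Subgroup G := (layer ↥M).map M.subtype

/-- `F(M)` as a subgroup of the ambient group. -/
def FitOf (M : Subgroup G) : Subgroup G := (fittingSubgroup ↥M).map M.subtype

/-- `F*(M)` as a subgroup of the ambient group. -/
def FsOf (M : Subgroup G) : Subgroup G := (generalizedFittingSubgroup ↥M).map M.subtype

lemma FsOf_eq (M : Subgroup G) : FsOf M = EOf M ⊔ FitOf M := by
  rw [FsOf, EOf, FitOf, generalizedFittingSubgroup, Subgroup.map_sup]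

lemma le_normalizer_map_subtype_of_normal (M : Subgroup G) (N : Subgroup ↥M) (hN : N.Normal) :
    M ≤ Subgroup.normalizer ((N.map M.subtype : Subgroup G) : Set G) := by
  have h1 := Subgroup.le_normalizer_map (H := N) M.subtype
  rw [Subgroup.normalizer_eq_top_iff.mpr hN, ← MonoidHom.range_eq_map, Subgroup.range_subtype] at h1
  exact h1

lemma le_normalizer_EOf (M : Subgroup G) : M ≤ Subgroup.normalizer (EOf M : Set G) :=
  le_normalizer_map_subtype_of_normal M _ (Cfsg.Agent.Lib.Helper29.layer_normal ↥M)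

lemma le_normalizer_FitOf (M : Subgroup G) : M ≤ Subgroup.normalizer (FitOf M : Set G) :=
  le_normalizer_map_subtype_of_normal M _ (Cfsg.Agent.Lib.Helper29.fittingSubgroup_normal ↥M)

lemma le_normalizer_FsOf (M : Subgroup G) : M ≤ Subgroup.normalizer (FsOf M : Set G) :=
  le_normalizer_map_subtype_of_normal M _
    (Cfsg.Agent.Lib.Helper29.generalizedFittingSubgroup_normal ↥M)

lemma le_normalizer_pCoreOf (p : ℕ) (M : Subgroup G) :
    M ≤ Subgroup.normalizer ((pCoreOf p M : Subgroup G) : Set G) :=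
  Subgroup.le_normalizer.trans (normalizer_le_normalizer_pCoreOf p M)

lemma EOf_le (M : Subgroup G) : EOf M ≤ M := Subgroup.map_subtype_le _
lemma FitOf_le (M : Subgroup G) : FitOf M ≤ M := Subgroup.map_subtype_le _
lemma FsOf_le (M : Subgroup G) : FsOf M ≤ M := Subgroup.map_subtype_le _

lemma FitOf_eq [Finite G] (M : Subgroup G) :
    FitOf M = ⨆ r : Nat.Primes, pCoreOf (r : ℕ) M := by
  rw [FitOf, Cfsg.Agent.Lib.Helper1.fittingSubgroup_eq_iSup_pCore, Subgroup.map_iSup]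
  rfl

lemma pCoreOf_le_FitOf [Finite G] {r : ℕ} (hr : r.Prime) (M : Subgroup G) :
    pCoreOf r M ≤ FitOf M := by
  rw [FitOf_eq]
  exact le_iSup (fun r : Nat.Primes => pCoreOf (r : ℕ) M) ⟨r, hr⟩

lemma centralizer_FsOf_le [Finite G] (M : Subgroup G) :
    M ⊓ Subgroup.centralizer (FsOf M : Set G) ≤ FsOf M := by
  intro x hx
  obtain ⟨hxM, hxc⟩ := Subgroup.mem_inf.mp hx
  have h1 : (⟨x, hxM⟩ : ↥M) ∈ Subgroup.centralizer (generalizedFittingSubgroup ↥M : Set ↥M) := by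
    rw [Subgroup.mem_centralizer_iff]
    intro y hy
    apply Subtype.ext
    rw [Subgroup.mem_centralizer_iff] at hxc
    exact hxc (y : G) ⟨y, hy, rfl⟩
  exact ⟨⟨x, hxM⟩,
    Cfsg.Agent.Lib.Helper22.centralizer_generalizedFittingSubgroup_le h1, rfl⟩

lemma EOf_commutator_self (M : Subgroup G) : ⁅EOf M, EOf M⁆ = EOf M := by
  rw [EOf, ← Subgroup.map_commutator, Cfsg.Agent.Lib.Helper22.layer_commutator_self]

/-- `E(M)` centralizes every solvable subgroup of `M` that it normalizes. -/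
lemma EOf_commutator_eq_bot [Finite G] (M X : Subgroup G) (hXM : X ≤ M)
    (hEX : EOf M ≤ Subgroup.normalizer (X : Set G)) (hs : Group.IsSolvable X) :
    ⁅EOf M, X⁆ = ⊥ := by
  set L : Subgroup ↥M := layer ↥M with hL
  set X' : Subgroup ↥M := X.subgroupOf M with hX'
  haveI hLn : L.Normal := Cfsg.Agent.Lib.Helper29.layer_normal ↥M
  have hLX' : L ≤ Subgroup.normalizer (X' : Set ↥M) := by
    intro l hl
    have hl' : (l : G) ∈ Subgroup.normalizer (X : Set G) := hEX ⟨l, hl, rfl⟩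
    rw [Subgroup.mem_normalizer_iff] at hl' ⊢
    intro y
    rw [hX', Subgroup.mem_subgroupOf, Subgroup.mem_subgroupOf]
    exact hl' y
  have hX'L : X' ≤ Subgroup.normalizer (L : Set ↥M) := by
    rw [Subgroup.normalizer_eq_top_iff.mpr hLn]; exact le_top
  have h1 : ⁅L, X'⁆ ≤ L ⊓ X' := commutator_le_inf_of_le_normalizer hLX' hX'L
  set I : Subgroup ↥M := L ⊓ X' with hI
  have hIL : I ≤ L := inf_le_left
  have hIn : (I.subgroupOf L).Normal := by
    rw [Subgroup.normal_subgroupOf_iff_le_normalizer hIL]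
    intro l hl
    exact Cfsg.Agent.Lib.Helper49.mem_normalizer_inf (Subgroup.le_normalizer hl) (hLX' hl)
  have hIsn : I.IsSubnormal := Subgroup.IsSubnormal.step I L hIL hLn.isSubnormal hIn
  have hIs : Group.IsSolvable I := by
    have e : ↥X' ≃* ↥X := Subgroup.subgroupOfEquivOfLe hXM
    haveI : Group.IsSolvable ↥X' :=
      Group.isSolvable_of_isSolvable_injective (f := e.toMonoidHom) e.injective
    exact Group.isSolvable_of_isSolvable_injective (f := Subgroup.inclusion (inf_le_right : I ≤ X'))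
      (Subgroup.inclusion_injective _)
  have h2 : ⁅L, I⁆ = ⊥ := Cfsg.Agent.Lib.Helper22.layer_commutator_eq_bot_of_isSolvable hIsn hIs
  have h3 : ⁅⁅L, X'⁆, L⁆ = ⊥ := by
    rw [eq_bot_iff, ← h2, Subgroup.commutator_comm L I]
    exact Subgroup.commutator_mono h1 le_rfl
  have h4 : ⁅⁅X', L⁆, L⁆ = ⊥ := by rw [Subgroup.commutator_comm X' L]; exact h3
  have h5 : ⁅⁅L, L⁆, X'⁆ = ⊥ := Subgroup.commutator_commutator_eq_bot_of_rotate h3 h4
  rw [Cfsg.Agent.Lib.Helper22.layer_commutator_self] at h5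
  have h6 := congrArg (Subgroup.map M.subtype) h5
  rwa [Subgroup.map_commutator, Subgroup.map_bot, hX', Subgroup.map_subgroupOf_eq_of_le hXM] at h6

end Relative


section Main

variable {G : Type*} [Group G] [Finite G]

/-- One half of the primitive pair condition. -/
def Prim (M N : Subgroup G) : Prop :=
  ∀ A : Subgroup G, A ≠ ⊥ → A ≤ M → A ≤ N → M ≤ Subgroup.normalizer (A : Set G) →
    N ⊓ Subgroup.normalizer (A : Set G) ≤ M

lemma le_of_prim {M N : Subgroup G} (h : Prim M N) (A : Subgroup G) (hA : A ≠ ⊥) (hAM : A ≤ M)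
    (hAN : A ≤ N) (hM : M ≤ Subgroup.normalizer (A : Set G))
    (hN : N ≤ Subgroup.normalizer (A : Set G)) : N ≤ M :=
  (le_inf le_rfl hN).trans (h A hA hAM hAN hM)

lemma commutator_eq_bot_of_isPGroup {r s : ℕ} (hr : r.Prime) (hs : s.Prime) (hrs : r ≠ s)
    {X Y : Subgroup G} (hX : IsPGroup r X) (hY : IsPGroup s Y)
    (hXY : X ≤ Subgroup.normalizer (Y : Set G)) (hYX : Y ≤ Subgroup.normalizer (X : Set G)) :
    ⁅X, Y⁆ = ⊥ := by
  haveI := Fact.mk hr
  haveI := Fact.mk hs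
  rw [eq_bot_iff]
  refine (commutator_le_inf_of_le_normalizer hXY hYX).trans ?_
  exact (IsPGroup.disjoint_of_ne r s hrs X Y hX hY).le_bot

lemma EOf_le_FsOf (M : Subgroup G) : EOf M ≤ FsOf M := by rw [FsOf_eq]; exact le_sup_left
lemma FitOf_le_FsOf (M : Subgroup G) : FitOf M ≤ FsOf M := by rw [FsOf_eq]; exact le_sup_right

lemma pCoreOf_le_other {r : ℕ} (hr : r.Prime) {M N : Subgroup G} (h : FsOf M ≤ N) :
    pCoreOf r M ≤ N :=
  (pCoreOf_le_FitOf hr M).trans ((FitOf_le_FsOf M).trans h)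

lemma pCoreOf_commutator_pCoreOf {r s : ℕ} (hr : r.Prime) (hs : s.Prime) (hrs : r ≠ s)
    {M N : Subgroup G} (h1 : FsOf M ≤ N) (h2 : FsOf N ≤ M) :
    ⁅pCoreOf r M, pCoreOf s N⁆ = ⊥ :=
  commutator_eq_bot_of_isPGroup hr hs hrs (pCoreOf_isPGroup r M) (pCoreOf_isPGroup s N)
    ((pCoreOf_le_other hr h1).trans (le_normalizer_pCoreOf s N))
    ((pCoreOf_le_other hs h2).trans (le_normalizer_pCoreOf r M))

lemma EOf_commutator_pCoreOf {r : ℕ} (hr : r.Prime) {M N : Subgroup G} (h1 : FsOf M ≤ N)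
    (h2 : FsOf N ≤ M) : ⁅EOf N, pCoreOf r M⁆ = ⊥ := by
  haveI := Fact.mk hr
  apply EOf_commutator_eq_bot N (pCoreOf r M) (pCoreOf_le_other hr h1)
    (((EOf_le_FsOf N).trans h2).trans (le_normalizer_pCoreOf r M))
  haveI : Group.IsNilpotent (pCoreOf r M) := (pCoreOf_isPGroup r M).isNilpotent
  infer_instance

lemma commutator_mem_centralizer_left {X : Subgroup G} {x h : G}
    (hx : x ∈ Subgroup.centralizer (X : Set G)) (hh : h ∈ Subgroup.normalizer (X : Set G)) :
    ⁅x, h⁆ ∈ Subgroup.centralizer (X : Set G) := by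
  have h1 := Cfsg.Agent.Lib.Helper49.normalizer_le_normalizer_centralizer X hh
  have h2 : h * x⁻¹ * h⁻¹ ∈ Subgroup.centralizer (X : Set G) :=
    (Subgroup.mem_normalizer_iff.mp h1 x⁻¹).mp (Subgroup.inv_mem _ hx)
  have : ⁅x, h⁆ = x * (h * x⁻¹ * h⁻¹) := by rw [commutatorElement_def]; group
  rw [this]; exact Subgroup.mul_mem _ hx h2

lemma commutator_mem_centralizer_right {X : Subgroup G} {x h : G}
    (hx : x ∈ Subgroup.normalizer (X : Set G)) (hh : h ∈ Subgroup.centralizer (X : Set G)) :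
    ⁅x, h⁆ ∈ Subgroup.centralizer (X : Set G) := by
  have h1 := Cfsg.Agent.Lib.Helper49.normalizer_le_normalizer_centralizer X hx
  have h2 : x * h * x⁻¹ ∈ Subgroup.centralizer (X : Set G) :=
    (Subgroup.mem_normalizer_iff.mp h1 h).mp hh
  have : ⁅x, h⁆ = (x * h * x⁻¹) * h⁻¹ := by rw [commutatorElement_def]
  rw [this]; exact Subgroup.mul_mem _ h2 (Subgroup.inv_mem _ hh)


/-- The abelian normal subgroup `C_N(F*(N))` of `N`. -/
def ZOf (N : Subgroup G) : Subgroup G := N ⊓ Subgroup.centralizer (FsOf N : Set G)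

lemma ZOf_le (N : Subgroup G) : ZOf N ≤ N := inf_le_left

lemma ZOf_le_FsOf (N : Subgroup G) : ZOf N ≤ FsOf N := centralizer_FsOf_le N

lemma ZOf_comm (N : Subgroup G) : ∀ a ∈ ZOf N, ∀ b ∈ ZOf N, a * b = b * a := by
  intro a ha b hb
  have hb' := (Subgroup.mem_inf.mp hb).2
  rw [Subgroup.mem_centralizer_iff] at hb'
  exact hb' a (ZOf_le_FsOf N ha)

lemma le_normalizer_ZOf (N : Subgroup G) : N ≤ Subgroup.normalizer (ZOf N : Set G) := by
  intro n hn
  exact Cfsg.Agent.Lib.Helper49.mem_normalizer_inf (Subgroup.le_normalizer hn)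
    (Cfsg.Agent.Lib.Helper49.normalizer_le_normalizer_centralizer _ (le_normalizer_FsOf N hn))

lemma pPart_ZOf_le (p : ℕ) (N : Subgroup G) : pPart p (ZOf N) (ZOf_comm N) ≤ pCoreOf p N := by
  apply le_pCoreOf
  · intro z hz; exact ZOf_le N hz.1
  · exact le_normalizer_pPart (ZOf_comm N) (le_normalizer_ZOf N)
  · exact isPGroup_pPart p _ _

/-- Membership in `C(F*(N))` can be tested on `E(N)` and the `O_r(N)`. -/
lemma mem_centralizer_FsOf {N : Subgroup G} {c : G}
    (hE : c ∈ Subgroup.centralizer (EOf N : Set G))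
    (hr : ∀ r : ℕ, r.Prime → c ∈ Subgroup.centralizer (pCoreOf r N : Set G)) :
    c ∈ Subgroup.centralizer (FsOf N : Set G) := by
  have h1 : FsOf N ≤ Subgroup.centralizer ((Subgroup.zpowers c : Subgroup G) : Set G) := by
    rw [FsOf_eq, FitOf_eq]
    refine sup_le ?_ (iSup_le fun r => ?_)
    · rw [Subgroup.le_centralizer_iff, Subgroup.zpowers_le]; exact hE
    · rw [Subgroup.le_centralizer_iff, Subgroup.zpowers_le]; exact hr r r.2
  rw [Subgroup.le_centralizer_iff, Subgroup.zpowers_le] at h1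
  exact h1

/-- Key step: a `p'`-element of `C_N(O_p(N))` centralizes `O_p(M)`. -/
lemma commute_of_centralizes_pCoreOf {p : ℕ} (hp : p.Prime) {M N : Subgroup G}
    (h1 : FsOf M ≤ N) (h2 : FsOf N ≤ M) {x h : G} (hx : x ∈ pCoreOf p M) (hhN : h ∈ N)
    (hhQ : h ∈ Subgroup.centralizer (pCoreOf p N : Set G)) (hh : (orderOf h).Coprime p) :
    x * h = h * x := by
  haveI := Fact.mk hp
  have hxN : x ∈ N := pCoreOf_le_other hp h1 hx
  have hxA : ∀ z ∈ ZOf N, x * z * x⁻¹ ∈ ZOf N := fun z hz =>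
    (Subgroup.mem_normalizer_iff.mp (le_normalizer_ZOf N hxN) z).mp hz
  have hxp : ∃ b : ℕ, x ^ p ^ b = 1 := by
    obtain ⟨k, hk⟩ := pCoreOf_isPGroup p M ⟨x, hx⟩
    exact ⟨k, by simpa using congrArg Subtype.val hk⟩
  -- the commutator lies in `ZOf N`
  have hc : ⁅x, h⁆ ∈ ZOf N := by
    refine Subgroup.mem_inf.mpr ⟨?_, ?_⟩
    · rw [commutatorElement_def]
      exact N.mul_mem (N.mul_mem (N.mul_mem hxN hhN) (N.inv_mem hxN)) (N.inv_mem hhN)
    · apply mem_centralizer_FsOf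
      · apply commutator_mem_centralizer_left _ (le_normalizer_EOf N hhN)
        have := EOf_commutator_pCoreOf hp h1 h2
        rw [Subgroup.commutator_eq_bot_iff_le_centralizer, Subgroup.le_centralizer_iff] at this
        exact this hx
      · intro r hr
        by_cases hrp : r = p
        · subst hrp
          exact commutator_mem_centralizer_right (le_normalizer_pCoreOf r N hxN) hhQ
        · apply commutator_mem_centralizer_left _ (le_normalizer_pCoreOf r N hhN)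
          have := pCoreOf_commutator_pCoreOf hp hr (Ne.symm hrp) h1 h2
          rw [Subgroup.commutator_eq_bot_iff_le_centralizer] at this
          exact this hx
  apply commute_of_stab (p := p) (ZOf N) (ZOf_comm N) x h hxA hxp hh hc
  · intro z hz hzc
    have hzM : z ∈ M := h2 (ZOf_le_FsOf N hz)
    have hzn := le_normalizer_pCoreOf p M hzM
    have hcR : ⁅x, z⁆ ∈ pCoreOf p M := by
      have h3 : z * x⁻¹ * z⁻¹ ∈ pCoreOf p M :=
        (Subgroup.mem_normalizer_iff.mp hzn x⁻¹).mp (Subgroup.inv_mem _ hx)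
      have : ⁅x, z⁆ = x * (z * x⁻¹ * z⁻¹) := by rw [commutatorElement_def]; group
      rw [this]; exact Subgroup.mul_mem _ hx h3
    have hcA : ⁅x, z⁆ ∈ ZOf N := by
      have : ⁅x, z⁆ = (x * z * x⁻¹) * z⁻¹ := by rw [commutatorElement_def]
      rw [this]; exact Subgroup.mul_mem _ (hxA z hz) (Subgroup.inv_mem _ hz)
    have hcz : Commute ⁅x, z⁆ z := ZOf_comm N _ hcA _ hz
    exact (Cfsg.Agent.Lib.Helper47.commute_of_coprime_of_commutator_commute
      (pCoreOf_isPGroup p M) z hzc x hcR hcz).eq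
  · intro z hz hzp
    have hzQ : z ∈ pCoreOf p N := pPart_ZOf_le p N ⟨hz, hzp⟩
    rw [Subgroup.mem_centralizer_iff] at hhQ
    exact (hhQ z hzQ).symm


/-- `C_M(O_p(M))` in the ambient group. -/
def COf (p : ℕ) (M : Subgroup G) : Subgroup G :=
  M ⊓ Subgroup.centralizer (pCoreOf p M : Set G)

lemma le_normalizer_COf (p : ℕ) (M : Subgroup G) :
    M ≤ Subgroup.normalizer (COf p M : Set G) := by
  intro m hm
  exact Cfsg.Agent.Lib.Helper49.mem_normalizer_inf (Subgroup.le_normalizer hm)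
    (Cfsg.Agent.Lib.Helper49.normalizer_le_normalizer_centralizer _ (le_normalizer_pCoreOf p M hm))

/-- `p'`-elements of `C_N(O_p(N))` lie in `C_M(O_p(M))`. -/
lemma mem_COf_of_mem_COf {p : ℕ} (hp : p.Prime) {M N : Subgroup G} (hMN : Prim M N)
    (h1 : FsOf M ≤ N) (h2 : FsOf N ≤ M) (hP : pCoreOf p M ≠ ⊥) {h : G} (hh : h ∈ COf p N)
    (hc : (orderOf h).Coprime p) : h ∈ COf p M := by
  obtain ⟨hhN, hhQ⟩ := Subgroup.mem_inf.mp hh
  have hcent : h ∈ Subgroup.centralizer (pCoreOf p M : Set G) := by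
    rw [Subgroup.mem_centralizer_iff]
    intro x hx
    exact commute_of_centralizes_pCoreOf hp h1 h2 hx hhN hhQ hc
  refine Subgroup.mem_inf.mpr ⟨?_, hcent⟩
  have h3 := hMN (pCoreOf p M) hP (pCoreOf_le p M) (pCoreOf_le_other hp h1)
    (le_normalizer_pCoreOf p M)
  exact h3 (Subgroup.mem_inf.mpr ⟨hhN, Subgroup.centralizer_le_normalizer _ hcent⟩)

/-- In the common prime case, `N` has characteristic `p`. -/
lemma charP_of_common_prime {p : ℕ} (hp : p.Prime) {M N : Subgroup G} (hne : M ≠ N)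
    (hMN : Prim M N) (hNM : Prim N M) (h1 : FsOf M ≤ N) (h2 : FsOf N ≤ M)
    (hP : pCoreOf p M ≠ ⊥) (hQ : pCoreOf p N ≠ ⊥) :
    Subgroup.centralizer (pCore p ↥N : Set ↥N) ≤ pCore p ↥N := by
  haveI := Fact.mk hp
  have hYeq : Cfsg.Agent.Lib.Helper47.opOf p (COf p M) = Cfsg.Agent.Lib.Helper47.opOf p (COf p N) := by
    apply le_antisymm
    · rw [Cfsg.Agent.Lib.Helper47.opOf_le_iff]
      intro x hx hxc
      rw [Cfsg.Agent.Lib.Helper47.opOf_eq_closure]
      exact Subgroup.subset_closure ⟨mem_COf_of_mem_COf hp hNM h2 h1 hQ hx hxc, hxc⟩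
    · rw [Cfsg.Agent.Lib.Helper47.opOf_le_iff]
      intro x hx hxc
      rw [Cfsg.Agent.Lib.Helper47.opOf_eq_closure]
      exact Subgroup.subset_closure ⟨mem_COf_of_mem_COf hp hMN h1 h2 hP hx hxc, hxc⟩
  set Y : Subgroup G := Cfsg.Agent.Lib.Helper47.opOf p (COf p M) with hY
  have hYM : Y ≤ M := (Cfsg.Agent.Lib.Helper47.opOf_le p _).trans inf_le_left
  have hYN : Y ≤ N := by rw [hYeq]; exact (Cfsg.Agent.Lib.Helper47.opOf_le p _).trans inf_le_left
  have hMY : M ≤ Subgroup.normalizer (Y : Set G) :=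
    (le_normalizer_COf p M).trans (Cfsg.Agent.Lib.Helper47.normalizer_le_normalizer_opOf p _)
  have hNY : N ≤ Subgroup.normalizer (Y : Set G) := by
    rw [hYeq]
    exact (le_normalizer_COf p N).trans (Cfsg.Agent.Lib.Helper47.normalizer_le_normalizer_opOf p _)
  have hYbot : Y = ⊥ := by
    by_contra hYne
    exact hne (le_antisymm (le_of_prim hNM Y hYne hYN hYM hNY hMY)
      (le_of_prim hMN Y hYne hYM hYN hMY hNY))
  apply Cfsg.Agent.Lib.Helper49.charP_subgroup_of_forall N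
  intro x hxN hxc hxcop
  have hxY : x ∈ Cfsg.Agent.Lib.Helper47.opOf p (COf p N) := by
    rw [Cfsg.Agent.Lib.Helper47.opOf_eq_closure]
    exact Subgroup.subset_closure ⟨Subgroup.mem_inf.mpr ⟨hxN, hxc⟩, hxcop⟩
  rw [← hYeq, hYbot] at hxY
  exact Subgroup.mem_bot.mp hxY


lemma mem_centralizer_bot (x : G) : x ∈ Subgroup.centralizer ((⊥ : Subgroup G) : Set G) := by
  rw [Subgroup.mem_centralizer_iff]
  intro y hy
  have : y = 1 := Subgroup.mem_bot.mp hy
  rw [this]; simp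

/-- Without a common prime, `F(M) = 1`. -/
lemma FitOf_eq_bot_of_no_common_prime {M N : Subgroup G} (h1 : FsOf M ≤ N) (h2 : FsOf N ≤ M)
    (hno : ∀ r : ℕ, r.Prime → pCoreOf r M = ⊥ ∨ pCoreOf r N = ⊥) : FitOf M = ⊥ := by
  have hcent : ∀ r : ℕ, r.Prime → pCoreOf r M ≤ ZOf N := by
    intro r hr z hz
    refine Subgroup.mem_inf.mpr ⟨pCoreOf_le_other hr h1 hz, ?_⟩
    apply mem_centralizer_FsOf
    · have := EOf_commutator_pCoreOf hr h1 h2
      rw [Subgroup.commutator_eq_bot_iff_le_centralizer, Subgroup.le_centralizer_iff] at this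
      exact this hz
    · intro s hs
      by_cases hrs : r = s
      · subst hrs
        rcases hno r hr with h | h
        · rw [h] at hz; rw [Subgroup.mem_bot.mp hz]; exact Subgroup.one_mem _
        · rw [h]; exact mem_centralizer_bot z
      · have := pCoreOf_commutator_pCoreOf hr hs hrs h1 h2
        rw [Subgroup.commutator_eq_bot_iff_le_centralizer] at this
        exact this hz
  rw [FitOf_eq, eq_bot_iff]
  refine iSup_le fun r => ?_
  have hr : (r : ℕ).Prime := r.2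
  have h3 : pCoreOf (r : ℕ) M ≤ pCoreOf (r : ℕ) N := by
    intro z hz
    apply pPart_ZOf_le (r : ℕ) N
    refine ⟨hcent r hr hz, ?_⟩
    obtain ⟨k, hk⟩ := pCoreOf_isPGroup (r : ℕ) M ⟨z, hz⟩
    exact ⟨k, by simpa using congrArg Subtype.val hk⟩
  rcases hno r hr with h | h
  · rw [h]
  · rw [← h]; exact h3

/-- If `F(N) = 1` then `E(M) ≤ E(N)`. -/
lemma EOf_le_EOf {M N : Subgroup G} (h1 : FsOf M ≤ N) (h2 : FsOf N ≤ M) (hN : FitOf N = ⊥) :
    EOf M ≤ EOf N := by
  have hFs : FsOf N = EOf N := by rw [FsOf_eq, hN, sup_bot_eq]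
  set D₁ : Subgroup ↥M := N.subgroupOf M with hD₁
  set E₂ : Subgroup ↥M := (EOf N).subgroupOf M with hE₂
  have hE₂M : EOf N ≤ M := (EOf_le_FsOf N).trans h2
  have hE₂D : E₂ ≤ D₁ := by
    intro x hx
    exact EOf_le N hx
  have hnorm : (E₂.subgroupOf D₁).Normal := by
    rw [Subgroup.normal_subgroupOf_iff_le_normalizer hE₂D]
    intro d hd
    have hdN : (d : G) ∈ N := hd
    have := le_normalizer_EOf N hdN
    rw [Subgroup.mem_normalizer_iff] at this ⊢
    intro y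
    rw [hE₂, Subgroup.mem_subgroupOf, Subgroup.mem_subgroupOf]
    exact this y
  rw [EOf, layer, sSup_eq_iSup, Subgroup.map_iSup]
  refine iSup_le fun K => ?_
  rw [Subgroup.map_iSup]
  refine iSup_le fun hK => ?_
  have hKE : K.map M.subtype ≤ EOf M :=
    Subgroup.map_mono (Cfsg.Agent.Lib.Helper22.component_le_layer hK)
  have hKD : K ≤ D₁ := by
    intro x hx
    have : (x : G) ∈ K.map M.subtype := ⟨x, hx, rfl⟩
    exact h1 (EOf_le_FsOf M (hKE this))
  have hcomp := Cfsg.Agent.Lib.Helper22.component_subgroupOf hK hKD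
  rcases Cfsg.Agent.Lib.Helper22.component_le_or_commutator_eq_bot hcomp hnorm.isSubnormal with h | h
  · have hKE₂ : K ≤ E₂ := Cfsg.Agent.Lib.Helper22.le_of_subgroupOf_le hKD h
    have := Subgroup.map_mono (f := M.subtype) hKE₂
    rwa [hE₂, Subgroup.map_subgroupOf_eq_of_le hE₂M] at this
  · have hc : ⁅K, E₂⁆ = ⊥ := Cfsg.Agent.Lib.Helper22.commutator_eq_bot_of_subgroupOf hKD hE₂D h
    have hc' : ⁅K.map M.subtype, EOf N⁆ = ⊥ := by
      have := congrArg (Subgroup.map M.subtype) hc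
      rwa [Subgroup.map_commutator, Subgroup.map_bot, hE₂,
        Subgroup.map_subgroupOf_eq_of_le hE₂M] at this
    rw [Subgroup.commutator_eq_bot_iff_le_centralizer] at hc'
    intro z hz
    have hzN : z ∈ N := h1 (EOf_le_FsOf M (hKE hz))
    have hzZ : z ∈ ZOf N := Subgroup.mem_inf.mpr ⟨hzN, by rw [hFs]; exact hc' hz⟩
    have := ZOf_le_FsOf N hzZ
    rwa [hFs] at this

lemma eq_bot_of_FsOf_eq_bot {M : Subgroup G} (h : FsOf M = ⊥) : M = ⊥ := by
  rw [eq_bot_iff]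
  intro x hx
  have h1 : x ∈ ZOf M := Subgroup.mem_inf.mpr ⟨hx, by rw [h]; exact mem_centralizer_bot x⟩
  have := ZOf_le_FsOf M h1
  rwa [h] at this

/-- The case without a common prime is impossible. -/
lemma false_of_no_common_prime {M N : Subgroup G} (hne : M ≠ N) (hMN : Prim M N)
    (hNM : Prim N M) (h1 : FsOf M ≤ N) (h2 : FsOf N ≤ M)
    (hno : ∀ r : ℕ, r.Prime → pCoreOf r M = ⊥ ∨ pCoreOf r N = ⊥) : False := by
  have hFM : FitOf M = ⊥ := FitOf_eq_bot_of_no_common_prime h1 h2 hno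
  have hFN : FitOf N = ⊥ :=
    FitOf_eq_bot_of_no_common_prime h2 h1 (fun r hr => (hno r hr).symm)
  have hE : EOf M = EOf N := le_antisymm (EOf_le_EOf h1 h2 hFN) (EOf_le_EOf h2 h1 hFM)
  have hFsM : FsOf M = EOf M := by rw [FsOf_eq, hFM, sup_bot_eq]
  have hFsN : FsOf N = EOf N := by rw [FsOf_eq, hFN, sup_bot_eq]
  by_cases hbot : EOf M = ⊥
  · have hM : M = ⊥ := eq_bot_of_FsOf_eq_bot (hFsM.trans hbot)
    have hN : N = ⊥ := eq_bot_of_FsOf_eq_bot (hFsN.trans (hE.symm.trans hbot))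
    exact hne (hM.trans hN.symm)
  · have hEN : EOf M ≤ N := by rw [hE]; exact EOf_le N
    have hNE : N ≤ Subgroup.normalizer (EOf M : Set G) := by rw [hE]; exact le_normalizer_EOf N
    exact hne (le_antisymm
      (le_of_prim hNM (EOf M) hbot hEN (EOf_le M) hNE (le_normalizer_EOf M))
      (le_of_prim hMN (EOf M) hbot (EOf_le M) hEN (le_normalizer_EOf M) hNE))

end Main

/-- Bender's Theorem on primitive pairs. Two distinct subgroups M₁, M₂ of G form a primitive pair when, for {i, j} = {1, 2}, every non-trivial normal subgroup A of M_i contained in M₁ ∩ M₂ satisfies N_{M_j}(A) = M₁ ∩ M₂; the pair has characteristic p when moreover C_{M_i}(O_p(M_i)) ≤ O_p(M_i) for both i and O_p(M₁)O_p(M₂) ≤ M₁ ∩ M₂. If (M₁, M₂) is a primitive pair of the finite group G with F*(M₁) ≤ M₂ and F*(M₂) ≤ M₁, then for some prime p the pair has characteristic p. -/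
theorem result {G : Type*} [Group G] [Finite G] (M₁ M₂ : Subgroup G) (hne : M₁ ≠ M₂) (hP : ∀ A : Subgroup G, A ≠ ⊥ → A ≤ M₁ ⊓ M₂ → (M₁ ≤ Subgroup.normalizer (A : Set G) → M₂ ⊓ Subgroup.normalizer (A : Set G) = M₁ ⊓ M₂) ∧ (M₂ ≤ Subgroup.normalizer (A : Set G) → M₁ ⊓ Subgroup.normalizer (A : Set G) = M₁ ⊓ M₂)) (h₁ : (Cfsg.generalizedFittingSubgroup ↥M₁).map M₁.subtype ≤ M₂) (h₂ : (Cfsg.generalizedFittingSubgroup ↥M₂).map M₂.subtype ≤ M₁) : ∃ p : ℕ, p.Prime ∧ Subgroup.centralizer (Cfsg.pCore p ↥M₁ : Set ↥M₁) ≤ Cfsg.pCore p ↥M₁ ∧ Subgroup.centralizer (Cfsg.pCore p ↥M₂ : Set ↥M₂) ≤ Cfsg.pCore p ↥M₂ ∧ (Cfsg.pCore p ↥M₁).map M₁.subtype ⊔ (Cfsg.pCore p ↥M₂).map M₂.subtype ≤ M₁ ⊓ M₂ := by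
  have hMN : Prim M₁ M₂ := by
    intro A hA hAM hAN hM
    have := (hP A hA (le_inf hAM hAN)).1 hM
    rw [this]; exact inf_le_left
  have hNM : Prim M₂ M₁ := by
    intro A hA hAN hAM hN
    have := (hP A hA (le_inf hAM hAN)).2 hN
    rw [this]; exact inf_le_right
  have h1 : FsOf M₁ ≤ M₂ := h₁
  have h2 : FsOf M₂ ≤ M₁ := h₂
  by_cases hc : ∃ p : ℕ, p.Prime ∧ pCoreOf p M₁ ≠ ⊥ ∧ pCoreOf p M₂ ≠ ⊥
  · obtain ⟨p, hp, hP1, hP2⟩ := hc
    refine ⟨p, hp, charP_of_common_prime hp hne.symm hNM hMN h2 h1 hP2 hP1,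
      charP_of_common_prime hp hne hMN hNM h1 h2 hP1 hP2, ?_⟩
    exact sup_le (le_inf (pCoreOf_le p M₁) (pCoreOf_le_other hp h1))
      (le_inf (pCoreOf_le_other hp h2) (pCoreOf_le p M₂))
  · exfalso
    apply false_of_no_common_prime hne hMN hNM h1 h2
    intro r hr
    by_contra hcon
    push_neg at hcon
    exact hc ⟨r, hr, hcon.1, hcon.2⟩

end Cfsg.Agent.S3752
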