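import Cfsg.Statements.S1312
-- import your own Cfsg.Agent.* helpers here
import Cfsg.Agent.S3752
import Cfsg.Agent.Lib.Helper31.CharPLocals

set_option autoImplicit false
open Cfsg

namespace Cfsg.Agent.S1312

/-- Let G be a non-abelian finite simple group and M ≠ N maximal subgroups of G with F*(M) ≤ N and F*(N) ≤ M. Then there is a prime p such that F*(M) and F*(N) are both p-groups. -/
theorem result {G : Type*} [Group G] [Finite G] [IsSimpleGroup G] (hna : ¬ IsMulCommutative G) (M N : Subgroup G) (hM : IsCoatom M) (hN : IsCoatom N) (hMN : M ≠ N) (h1 : (Cfsg.generalizedFittingSubgroup ↥M).map M.subtype ≤ N) (h2 : (Cfsg.generalizedFittingSubgroup ↥N).map N.subtype ≤ M) : ∃ p : ℕ, p.Prime ∧ IsPGroup p ↥(Cfsg.generalizedFittingSubgroup ↥M) ∧ IsPGroup p ↥(Cfsg.generalizedFittingSubgroup ↥N) := by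
  -- the pair `(M, N)` is primitive
  have key : ∀ K L : Subgroup G, IsCoatom K → ∀ A : Subgroup G, A ≠ ⊥ → A ≤ K →
      K ≤ Subgroup.normalizer (A : Set G) → L ⊓ Subgroup.normalizer (A : Set G) = L ⊓ K := by
    intro K L hK A hA hAK hKA
    have hNK : Subgroup.normalizer (A : Set G) = K := by
      rcases hK.le_iff.mp hKA with h | h
      · exfalso
        have hAn : A.Normal := Subgroup.normalizer_eq_top_iff.mp h
        rcases hAn.eq_bot_or_eq_top with h' | h'
        · exact hA h'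
        · exact hK.1 (top_le_iff.mp (h' ▸ hAK))
      · exact h
    rw [hNK]
  have hP : ∀ A : Subgroup G, A ≠ ⊥ → A ≤ M ⊓ N →
      (M ≤ Subgroup.normalizer (A : Set G) → N ⊓ Subgroup.normalizer (A : Set G) = M ⊓ N) ∧
      (N ≤ Subgroup.normalizer (A : Set G) → M ⊓ Subgroup.normalizer (A : Set G) = M ⊓ N) := by
    intro A hA hAle
    refine ⟨fun h => ?_, fun h => ?_⟩
    · rw [key M N hM A hA (hAle.trans inf_le_left) h, inf_comm]
    · rw [key N M hN A hA (hAle.trans inf_le_right) h]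
  obtain ⟨p, hp, hc1, hc2, -⟩ := Cfsg.Agent.S3752.result M N hMN hP h1 h2
  haveI := Fact.mk hp
  refine ⟨p, hp, ?_, ?_⟩
  · rw [Cfsg.Agent.Lib.Helper31.generalizedFittingSubgroup_eq_pCore_of_centralizer_le hc1]
    exact Cfsg.Agent.Lib.Helper1.pCore_isPGroup p
  · rw [Cfsg.Agent.Lib.Helper31.generalizedFittingSubgroup_eq_pCore_of_centralizer_le hc2]
    exact Cfsg.Agent.Lib.Helper1.pCore_isPGroup p

end Cfsg.Agent.S1312
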