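import Cfsg.Statements.S1314
-- (no extra imports)

set_option autoImplicit false
open Cfsg
open scoped commutatorElement Pointwise

namespace Cfsg.Agent.S1314


theorem comm_mul_left_of_commute {G : Type*} [Group G] (a b z : G) (hz : z * b = b * z) :
    ⁅a * z, b⁆ = ⁅a, b⁆ := by
  rw [commutatorElement_def, commutatorElement_def]
  calc a * z * b * (a * z)⁻¹ * b⁻¹ = a * (z * b) * z⁻¹ * a⁻¹ * b⁻¹ := by group
    _ = a * (b * z) * z⁻¹ * a⁻¹ * b⁻¹ := by rw [hz]
    _ = a * b * a⁻¹ * b⁻¹ := by group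

theorem comm_mul_right_of_commute {G : Type*} [Group G] (a b z : G) (hz : z * a = a * z) :
    ⁅a, b * z⁆ = ⁅a, b⁆ := by
  have hz' : z * a⁻¹ = a⁻¹ * z := (Commute.inv_right (show Commute z a from hz)).eq
  rw [commutatorElement_def, commutatorElement_def]
  calc a * (b * z) * a⁻¹ * (b * z)⁻¹ = a * b * (z * a⁻¹) * z⁻¹ * b⁻¹ := by group
    _ = a * b * (a⁻¹ * z) * z⁻¹ * b⁻¹ := by rw [hz']
    _ = a * b * a⁻¹ * b⁻¹ := by group

/-- Let x be an involution of a group G and L a perfect subgroup with ⁅L, x L x⁻¹⁆ = 1. Then l ↦ l (x l x⁻¹) is a group homomorphism π from L to G whose kernel is central in L and whose image lies in C_G(x); and the commutator subgroup of C_{L ⊔ xLx⁻¹}(x) equals the image of π. -/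
theorem result {G : Type*} [Group G] [Finite G] (x : G) (hx : orderOf x = 2) (L : Subgroup G) (hperf : ⁅L, L⁆ = L) (hcomm : ⁅L, L.map (MulAut.conj x).toMonoidHom⁆ = ⊥) : ∃ π : ↥L →* G, (∀ l : ↥L, π l = (l : G) * (x * (l : G) * x⁻¹)) ∧ π.ker ≤ Subgroup.center ↥L ∧ π.range ≤ Subgroup.centralizer ({x} : Set G) ∧ ⁅(L ⊔ L.map (MulAut.conj x).toMonoidHom) ⊓ Subgroup.centralizer ({x} : Set G), (L ⊔ L.map (MulAut.conj x).toMonoidHom) ⊓ Subgroup.centralizer ({x} : Set G)⁆ = π.range := by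
  obtain ⟨M, hM⟩ : ∃ M, M = L.map (MulAut.conj x).toMonoidHom := ⟨_, rfl⟩
  rw [← hM] at hcomm ⊢
  have hx2 : x * x = 1 := by
    have := pow_orderOf_eq_one x
    rw [hx, pow_two] at this
    exact this
  have hxinv : x⁻¹ = x := inv_eq_of_mul_eq_one_left hx2
  have hmemM : ∀ m, m ∈ M ↔ ∃ l ∈ L, x * l * x⁻¹ = m := by
    intro m
    rw [hM, Subgroup.mem_map]
    simp [MulAut.conj_apply]
  have hLM : ∀ a ∈ L, ∀ m ∈ M, a * m = m * a := by
    have h1 := Subgroup.commutator_eq_bot_iff_le_centralizer.mp hcomm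
    intro a ha m hm
    exact ((Subgroup.mem_centralizer_iff.mp (h1 ha)) m hm).symm
  have hconjM : ∀ l ∈ L, x * l * x⁻¹ ∈ M := fun l hl => (hmemM _).mpr ⟨l, hl, rfl⟩
  let π : ↥L →* G := MonoidHom.mk' (fun l => (l : G) * (x * (l : G) * x⁻¹)) (by
    intro a b
    have hc := hLM b b.2 (x * a * x⁻¹) (hconjM a a.2)
    simp only [Subgroup.coe_mul]
    calc (a:G) * b * (x * (a * b) * x⁻¹) = a * (b * (x * a * x⁻¹)) * (x * b * x⁻¹) := by group
      _ = a * ((x * a * x⁻¹) * b) * (x * b * x⁻¹) := by rw [hc]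
      _ = _ := by group)
  have hπ : ∀ l : ↥L, π l = (l : G) * (x * (l : G) * x⁻¹) := fun l => rfl
  have hπL : ∀ l : ↥L, π l ∈ L ⊔ M := fun l =>
    Subgroup.mul_mem _ (Subgroup.mem_sup_left l.2) (Subgroup.mem_sup_right (hconjM l l.2))
  have hπx : ∀ l : ↥L, π l ∈ Subgroup.centralizer ({x} : Set G) := by
    intro l
    rw [Subgroup.mem_centralizer_iff]
    intro h hh
    rw [Set.mem_singleton_iff] at hh
    subst hh
    rw [hπ]
    have hc := hLM l l.2 (h * l * h⁻¹) (hconjM l l.2)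
    calc h * ((l : G) * (h * l * h⁻¹)) = h * ((h * l * h⁻¹) * l) := by rw [hc]
      _ = (h * h) * l * h⁻¹ * l := by group
      _ = l * h⁻¹ * l := by rw [hx2, one_mul]
      _ = l * h * l := by rw [hxinv]
      _ = l * (h * l * h⁻¹) * h := by group
  refine ⟨π, hπ, ?_, ?_, ?_⟩
  · intro l hl
    rw [MonoidHom.mem_ker, hπ] at hl
    have hlM : (l : G) ∈ M := by
      have : (l : G) = x * (l⁻¹ : ↥L) * x⁻¹ := by
        have h2 : (l : G) = (x * (l : G) * x⁻¹)⁻¹ := eq_inv_of_mul_eq_one_left hl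
        rw [h2]
        simp only [Subgroup.coe_inv]
        group
      rw [this]
      exact hconjM _ (l⁻¹).2
    rw [Subgroup.mem_center_iff]
    intro g
    apply Subtype.ext
    simp only [Subgroup.coe_mul]
    exact hLM g g.2 l hlM
  · rintro _ ⟨l, rfl⟩
    exact hπx l
  · have hcentral : ∀ z, z ∈ L → z ∈ M → ∀ g ∈ L ⊔ M, z * g = g * z := by
      intro z hzL hzM g hg
      have hle : L ⊔ M ≤ Subgroup.centralizer {z} := by
        refine sup_le ?_ ?_
        · intro a ha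
          rw [Subgroup.mem_centralizer_iff]
          intro h hh
          rw [Set.mem_singleton_iff] at hh
          subst hh
          exact (hLM a ha h hzM).symm
        · intro m hm
          rw [Subgroup.mem_centralizer_iff]
          intro h hh
          rw [Set.mem_singleton_iff] at hh
          subst hh
          exact hLM h hzL m hm
      exact (Subgroup.mem_centralizer_iff.mp (hle hg)) z rfl
    have hdecomp : ∀ c ∈ (L ⊔ M) ⊓ Subgroup.centralizer {x},
        ∃ a : ↥L, ∃ z, z ∈ L ∧ z ∈ M ∧ c = π a * z := by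
      intro c hc
      obtain ⟨hcLM, hcx⟩ := hc
      have hnorm : L ≤ Subgroup.normalizer (M : Set G) :=
        (Subgroup.commutator_eq_bot_iff_le_centralizer.mp hcomm).trans
          (Subgroup.centralizer_le_normalizer _)
      have hmul : ((L ⊔ M : Subgroup G) : Set G) = (L : Set G) * (M : Set G) :=
        Subgroup.coe_mul_of_left_le_normalizer_right L M hnorm
      have hc' : c ∈ ((L : Set G) * (M : Set G) : Set G) := by rw [← hmul]; exact hcLM
      obtain ⟨a, ha, m, hm, rfl⟩ := Set.mem_mul.mp hc'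
      obtain ⟨b, hb, rfl⟩ := (hmemM m).mp hm
      have hcx' := (Subgroup.mem_centralizer_iff.mp hcx) x rfl
      -- h1 : (x a x⁻¹) b = a (x b x⁻¹)
      have h1 : (x * a * x⁻¹) * b = a * (x * b * x⁻¹) := by
        calc (x * a * x⁻¹) * b = (x * a * x) * b * (x * x) := by rw [hx2, mul_one, hxinv]
          _ = (x * (a * (x * b * x))) * x := by group
          _ = (x * (a * (x * b * x⁻¹))) * x := by rw [hxinv]
          _ = (a * (x * b * x⁻¹) * x) * x := by rw [hcx']
          _ = a * (x * b * x⁻¹) * (x * x) := by group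
          _ = a * (x * b * x⁻¹) := by rw [hx2, mul_one]
      have h2 : b * (x * a * x⁻¹) = (x * a * x⁻¹) * b := hLM b hb _ (hconjM a ha)
      have h3 : b * (x * a * x⁻¹) = a * (x * b * x⁻¹) := h2.trans h1
      have E1 : a⁻¹ * b = x * (b * a⁻¹) * x⁻¹ := by
        calc a⁻¹ * b = a⁻¹ * (b * (x * a * x⁻¹)) * (x * a * x⁻¹)⁻¹ := by group
          _ = a⁻¹ * (a * (x * b * x⁻¹)) * (x * a * x⁻¹)⁻¹ := by rw [h3]
          _ = x * (b * a⁻¹) * x⁻¹ := by group
      have E2 : b * a⁻¹ = x * (a⁻¹ * b) * x⁻¹ := by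
        rw [E1]
        calc b * a⁻¹ = (x * x) * (b * a⁻¹) * (x * x)⁻¹ := by rw [hx2]; group
          _ = x * (x * (b * a⁻¹) * x⁻¹) * x⁻¹ := by group
      refine ⟨⟨a, ha⟩, x * (a⁻¹ * b) * x⁻¹, ?_, ?_, ?_⟩
      · rw [← E2]
        exact L.mul_mem hb (L.inv_mem ha)
      · exact hconjM _ (L.mul_mem (L.inv_mem ha) hb)
      · rw [hπ]
        simp only
        group
    apply le_antisymm
    · rw [Subgroup.commutator_le]
      intro c₁ hc₁ c₂ hc₂
      obtain ⟨a₁, z₁, hz₁L, hz₁M, rfl⟩ := hdecomp c₁ hc₁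
      obtain ⟨a₂, z₂, hz₂L, hz₂M, h2⟩ := hdecomp c₂ hc₂
      rw [comm_mul_left_of_commute _ _ _ (hcentral z₁ hz₁L hz₁M c₂ hc₂.1), h2,
        comm_mul_right_of_commute _ _ _ (hcentral z₂ hz₂L hz₂M _ (hπL a₁))]
      rw [← map_commutatorElement]
      exact ⟨_, rfl⟩
    · have htop : ⁅(⊤ : Subgroup ↥L), (⊤ : Subgroup ↥L)⁆ = (⊤ : Subgroup ↥L) := by
        apply Subgroup.map_injective L.subtype_injective
        rw [Subgroup.map_commutator, ← MonoidHom.range_eq_map, Subgroup.range_subtype, hperf]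
      have hr : π.range = ⁅π.range, π.range⁆ := by
        conv_lhs => rw [MonoidHom.range_eq_map, ← htop, Subgroup.map_commutator,
          ← MonoidHom.range_eq_map]
      rw [hr]
      apply Subgroup.commutator_mono
      · rintro _ ⟨l, rfl⟩
        exact ⟨hπL l, hπx l⟩
      · rintro _ ⟨l, rfl⟩
        exact ⟨hπL l, hπx l⟩

end Cfsg.Agent.S1314
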