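import Cfsg.Statements.S1316
import Cfsg.Agent.Lib.Helper22.FStar

set_option autoImplicit false
open Cfsg
open scoped commutatorElement

namespace Cfsg.Agent.S1316


open Cfsg.Agent.Lib.Helper22

/-- For a finite group X, E(X) equals the intersection of the derived series of F*(X) (its last term). -/
theorem result {X : Type*} [Group X] [Finite X] : (⨅ n : ℕ, (derivedSeries ↥(Cfsg.generalizedFittingSubgroup X) n).map (Cfsg.generalizedFittingSubgroup X).subtype) = Cfsg.layer X := by
  set Fs := generalizedFittingSubgroup X with hFs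
  have hEn : (layer X).Normal := Cfsg.Agent.Lib.Helper29.layer_normal X
  have hEle : layer X ≤ Fs := layer_le_generalizedFittingSubgroup
  set E' : Subgroup Fs := (layer X).subgroupOf Fs with hE'
  have hE'map : E'.map Fs.subtype = layer X := Subgroup.map_subgroupOf_eq_of_le hEle
  have hE'n : E'.Normal := hEn.subgroupOf Fs
  apply le_antisymm
  · -- the quotient `F* / E` is solvable, being an image of `F`
    have hnil : Group.IsNilpotent (fittingSubgroup X) :=
      Cfsg.Agent.Lib.Helper1.fittingSubgroup_isNilpotent
    have hFle : fittingSubgroup X ≤ Fs := fittingSubgroup_le_generalizedFittingSubgroup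
    let g : fittingSubgroup X →* Fs ⧸ E' :=
      (QuotientGroup.mk' E').comp (Subgroup.inclusion hFle)
    have hg : Function.Surjective g := by
      intro y
      obtain ⟨⟨x, hx⟩, rfl⟩ := QuotientGroup.mk'_surjective E' y
      -- `x = e * f`
      have hx' : x ∈ ((layer X ⊔ fittingSubgroup X : Subgroup X) : Set X) := hx
      rw [Subgroup.normal_mul] at hx'
      obtain ⟨e, he, f, hf, rfl⟩ := Set.mem_mul.mp hx'
      refine ⟨⟨f, hf⟩, ?_⟩
      show (QuotientGroup.mk' E') (⟨f, hFle hf⟩ : Fs) = (QuotientGroup.mk' E') ⟨e * f, hx⟩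
      rw [QuotientGroup.mk'_eq_mk']
      refine ⟨⟨f⁻¹ * e * f, ?_⟩, ?_, ?_⟩
      · exact Fs.mul_mem (Fs.mul_mem (Fs.inv_mem (hFle hf)) (hEle he)) (hFle hf)
      · show f⁻¹ * e * f ∈ layer X
        have := hEn.conj_mem e he f⁻¹
        simpa using this
      · apply Subtype.ext
        show f * (f⁻¹ * e * f) = e * f
        group
    have hsolv : Group.IsSolvable (Fs ⧸ E') := Group.isSolvable_of_surjective hg
    obtain ⟨n, hn⟩ := (Group.isSolvable_def _).mp hsolv
    refine (iInf_le _ n).trans ?_
    have h1 : (derivedSeries Fs n).map (QuotientGroup.mk' E') = ⊥ := by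
      rw [map_derivedSeries_eq (QuotientGroup.mk'_surjective E'), hn]
    have h2 : derivedSeries Fs n ≤ E' := by
      rw [Subgroup.map_eq_bot_iff, QuotientGroup.ker_mk'] at h1
      exact h1
    rw [← hE'map]
    exact Subgroup.map_mono h2
  · refine le_iInf fun n => ?_
    rw [← hE'map]
    apply Subgroup.map_mono
    have hperf : ⁅E', E'⁆ = E' := by
      apply Subgroup.map_injective Fs.subtype_injective
      rw [Subgroup.map_commutator, hE'map, layer_commutator_self]
    induction n with
    | zero => rw [derivedSeries_zero]; exact le_top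
    | succ n ih =>
      rw [derivedSeries_succ, ← hperf]
      exact Subgroup.commutator_mono ih ih

end Cfsg.Agent.S1316
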