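import Cfsg.Statements.S1317
import Cfsg.Agent.Lib.Helper22.FStar

set_option autoImplicit false
open Cfsg
open scoped commutatorElement

namespace Cfsg.Agent.S1317


open Cfsg.Agent.Lib.Helper22

/-- For a finite group X, the centre of the layer E(X) is F(X) ∩ E(X). -/
theorem result {X : Type*} [Group X] [Finite X] : (Subgroup.center ↥(Cfsg.layer X)).map (Cfsg.layer X).subtype = Cfsg.fittingSubgroup X ⊓ Cfsg.layer X := by
  have hEn : (layer X).Normal := Cfsg.Agent.Lib.Helper29.layer_normal X
  apply le_antisymm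
  · refine le_inf ?_ (Subgroup.map_subtype_le _)
    have hn : ((Subgroup.center ↥(layer X)).map (layer X).subtype).Normal :=
      ConjAct.normal_of_characteristic_of_normal
    have hcomm : IsMulCommutative ((Subgroup.center ↥(layer X)).map (layer X).subtype) :=
      inferInstance
    have h0 : ((Subgroup.center ↥(layer X)).map (layer X).subtype).lowerCentralSeries 1 = ⊥ :=
      Subgroup.commutator_self_eq_bot_iff.mpr hcomm
    have hnil : Group.IsNilpotent ((Subgroup.center ↥(layer X)).map (layer X).subtype) :=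
      Subgroup.isNilpotent_of_lowerCentralSeries_eq_bot h0
    exact le_sSup ⟨hn, hnil⟩
  · intro x hx
    obtain ⟨hxF, hxE⟩ := Subgroup.mem_inf.mp hx
    refine ⟨⟨x, hxE⟩, ?_, rfl⟩
    show (⟨x, hxE⟩ : layer X) ∈ Subgroup.center ↥(layer X)
    rw [Subgroup.mem_center_iff]
    rintro ⟨y, hy⟩
    have h1 : ⁅y, x⁆ ∈ ⁅layer X, fittingSubgroup X⁆ := Subgroup.commutator_mem_commutator hy hxF
    rw [layer_commutator_fittingSubgroup, Subgroup.mem_bot,
      commutatorElement_eq_one_iff_mul_comm] at h1
    exact Subtype.ext h1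

end Cfsg.Agent.S1317
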