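import Cfsg.Statements.S1319
import Cfsg.Agent.Lib.Helper22.FStar

set_option autoImplicit false
open Cfsg
open scoped commutatorElement

namespace Cfsg.Agent.S1319


open Cfsg.Agent.Lib.Helper22

/-- Let A be a subnormal subgroup of the finite group X with E(A) = A. Then A ≤ E(X) and A is normal in E(X). -/
theorem result {X : Type*} [Group X] [Finite X] (A : Subgroup X) (hsn : A.IsSubnormal) (hA : Cfsg.layer ↥A = ⊤) : A ≤ Cfsg.layer X ∧ (A.subgroupOf (Cfsg.layer X)).Normal := by
  constructor
  · have h1 : A = (layer ↥A).map A.subtype := by
      rw [hA, ← MonoidHom.range_eq_map, Subgroup.range_subtype]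
    rw [h1]
    unfold layer
    rw [sSup_eq_iSup, Subgroup.map_iSup]
    refine iSup_le fun K => ?_
    rw [Subgroup.map_iSup]
    refine iSup_le fun hK => ?_
    exact le_sSup (component_map_subtype hsn hK)
  · apply Subgroup.normal_subgroupOf_of_le_normalizer
    apply sSup_le
    intro L hL
    rcases component_le_or_commutator_eq_bot hL hsn with h | h
    · exact h.trans Subgroup.le_normalizer
    · rw [Subgroup.commutator_eq_bot_iff_le_centralizer] at h
      exact h.trans (Subgroup.centralizer_le_normalizer _)

end Cfsg.Agent.S1319
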