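import Cfsg.Statements.S1320
import Cfsg.Agent.Lib.Helper22.Layer

set_option autoImplicit false
open Cfsg
open scoped commutatorElement

namespace Cfsg.Agent.S1320


open Cfsg.Agent.Lib.Helper22

/-- Let B be a normal subgroup of the finite group A. Then F*(A) ∩ B = F*(B). -/
theorem result {A : Type*} [Group A] [Finite A] (B : Subgroup A) [B.Normal] : Cfsg.generalizedFittingSubgroup A ⊓ B = (Cfsg.generalizedFittingSubgroup ↥B).map B.subtype := by
  have hBsn : B.IsSubnormal := Subgroup.Normal.isSubnormal inferInstance
  apply le_antisymm
  · set S := generalizedFittingSubgroup A ⊓ B with hSdef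
    have hFn : (generalizedFittingSubgroup A).Normal :=
      Cfsg.Agent.Lib.Helper29.generalizedFittingSubgroup_normal A
    have hSn : S.Normal := inferInstance
    have hSsn : S.IsSubnormal := hSn.isSubnormal
    have hSB : S ≤ B := inf_le_right
    have htop := fittingSubgroup_sup_layer_eq_top_of_isSubnormal_of_le hSsn
      (inf_le_left : S ≤ generalizedFittingSubgroup A)
    have h1 : S = (fittingSubgroup S).map S.subtype ⊔ (layer S).map S.subtype := by
      rw [← Subgroup.map_sup, htop, ← MonoidHom.range_eq_map, Subgroup.range_subtype]
    have hsub : (S.subgroupOf B).IsSubnormal := hSsn.subgroupOf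
    rw [h1]
    unfold generalizedFittingSubgroup
    rw [Subgroup.map_sup, sup_comm]
    exact sup_le_sup (layer_map_subtype_mono_of_isSubnormal hSB hsub)
      (fittingSubgroup_map_subtype_mono_of_isSubnormal hSB hsub)
  · refine le_inf ?_ (Subgroup.map_subtype_le _)
    unfold generalizedFittingSubgroup
    rw [Subgroup.map_sup]
    exact sup_le_sup (layer_map_subtype_le_of_isSubnormal hBsn)
      (fittingSubgroup_map_subtype_le_of_isSubnormal hBsn)

end Cfsg.Agent.S1320
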