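import Cfsg.Statements.S1321
import Cfsg.Agent.Lib.Helper22.FStar

set_option autoImplicit false
open Cfsg
open scoped commutatorElement

namespace Cfsg.Agent.S1321


open Cfsg.Agent.Lib.Helper22

/-- If `k` commutes with `m` then `⁅l * k, m⁆ = ⁅l, m⁆`. -/
theorem commutator_mul_commuting {X : Type*} [Group X] (l k m : X) (h : k * m = m * k) :
    ⁅l * k, m⁆ = ⁅l, m⁆ := by
  rw [commutatorElement_def, commutatorElement_def]
  calc l * k * m * (l * k)⁻¹ * m⁻¹ = l * (k * m) * k⁻¹ * l⁻¹ * m⁻¹ := by group
    _ = l * (m * k) * k⁻¹ * l⁻¹ * m⁻¹ := by rw [h]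
    _ = l * m * l⁻¹ * m⁻¹ := by group

/-- a component not centralized by `U` lies in `⁅E, U⁆` -/
theorem component_le_commutator {X : Type*} [Group X] [Finite X] (U L : Subgroup X)
    (hL : IsComponent L) (hne : ⁅L, U⁆ ≠ ⊥) : L ≤ ⁅layer X, U⁆ := by
  have hLE : L ≤ layer X := component_le_layer hL
  by_cases hU : U ≤ Subgroup.normalizer (L : Set X)
  · have hNL : ⁅L, U⁆ ≤ L := Subgroup.le_normalizer_iff_commutator_le_left.mp hU
    have hNn : (⁅L, U⁆.subgroupOf L).Normal :=
      Subgroup.normal_subgroupOf_of_le_normalizer (Subgroup.normalizer_commutator_ge_left L U)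
    rcases quasisimple_normal_le_center_or_eq_top hL.2 (⁅L, U⁆.subgroupOf L) with h | h
    · exfalso
      have h1 : ⁅⁅L, U⁆, L⁆ = ⊥ := by
        rw [eq_bot_iff, Subgroup.commutator_le]
        intro n hn l hl
        have hnc : (⟨n, hNL hn⟩ : L) ∈ Subgroup.center L := h hn
        rw [Subgroup.mem_center_iff] at hnc
        have := hnc ⟨l, hl⟩
        rw [Subgroup.mem_bot, commutatorElement_eq_one_iff_mul_comm]
        exact (congrArg Subtype.val this).symm
      have h2 : ⁅⁅U, L⁆, L⁆ = ⊥ := by rwa [Subgroup.commutator_comm U L]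
      have h3 : ⁅⁅L, L⁆, U⁆ = ⊥ := Subgroup.commutator_commutator_eq_bot_of_rotate h1 h2
      rw [component_commutator_self hL] at h3
      exact hne h3
    · rw [Subgroup.subgroupOf_eq_top] at h
      exact h.trans (Subgroup.commutator_mono hLE le_rfl)
  · -- some `u ∈ U` moves `L`
    obtain ⟨u, huU, huL⟩ := SetLike.not_le_iff_exists.mp hU
    have hLu : IsComponent (L.map (MulAut.conj u).toMonoidHom) := component_conj hL u
    have hneq : L.map (MulAut.conj u).toMonoidHom ≠ L := by
      intro heq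
      apply huL
      rw [Subgroup.mem_normalizer_iff]
      intro n
      constructor
      · intro hn
        rw [← heq]
        exact ⟨n, hn, rfl⟩
      · intro hn
        rw [← heq] at hn
        obtain ⟨m, hm, hmn⟩ := hn
        have : m = n := (MulAut.conj u).injective hmn
        rwa [← this]
    have hcomm : ⁅L, L.map (MulAut.conj u).toMonoidHom⁆ = ⊥ :=
      component_commutator_eq_bot_of_ne hL hLu hneq.symm
    have h1 : L ≤ ⁅⁅L, U⁆, L⁆ := by
      conv_lhs => rw [← component_commutator_self hL]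
      rw [Subgroup.commutator_le]
      intro l hl m hm
      have hk : u * l⁻¹ * u⁻¹ ∈ L.map (MulAut.conj u).toMonoidHom :=
        ⟨l⁻¹, L.inv_mem hl, rfl⟩
      have hkm : (u * l⁻¹ * u⁻¹) * m = m * (u * l⁻¹ * u⁻¹) := by
        have : ⁅m, u * l⁻¹ * u⁻¹⁆ ∈ ⁅L, L.map (MulAut.conj u).toMonoidHom⁆ :=
          Subgroup.commutator_mem_commutator hm hk
        rw [hcomm, Subgroup.mem_bot, commutatorElement_eq_one_iff_mul_comm] at this
        exact this.symm
      have e : ⁅l, u⁆ = l * (u * l⁻¹ * u⁻¹) := by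
        rw [commutatorElement_def]; group
      have : ⁅⁅l, u⁆, m⁆ = ⁅l, m⁆ := by
        rw [e]; exact commutator_mul_commuting l _ m hkm
      rw [← this]
      exact Subgroup.commutator_mem_commutator (Subgroup.commutator_mem_commutator hl huU) hm
    refine h1.trans ((Subgroup.commutator_mono (Subgroup.commutator_mono hLE le_rfl) hLE).trans ?_)
    exact Subgroup.le_normalizer_iff_commutator_le_left.mp
      (Subgroup.normalizer_commutator_ge_left (layer X) U)

/-- Let X be finite and U ≤ X. Then E(X) is generated by C_{E(X)}(U) together with ⁅E(X), U⁆ (indeed it is their product, ⁅E(X), U⁆ being normal in E(X)). -/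
theorem result {X : Type*} [Group X] [Finite X] (U : Subgroup X) : Cfsg.layer X = (Cfsg.layer X ⊓ Subgroup.centralizer (U : Set X)) ⊔ ⁅Cfsg.layer X, U⁆ ∧ ⁅Cfsg.layer X, U⁆ ≤ Cfsg.layer X := by
  have hEn : (layer X).Normal := Cfsg.Agent.Lib.Helper29.layer_normal X
  have hle : ⁅layer X, U⁆ ≤ layer X := Subgroup.commutator_le_left (layer X) U
  refine ⟨le_antisymm ?_ (sup_le inf_le_left hle), hle⟩
  apply sSup_le
  intro L hL
  by_cases h : ⁅L, U⁆ = ⊥
  · refine le_sup_of_le_left (le_inf (component_le_layer hL) ?_)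
    exact Subgroup.commutator_eq_bot_iff_le_centralizer.mp h
  · exact le_sup_of_le_right (component_le_commutator U L hL h)

end Cfsg.Agent.S1321
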