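import Cfsg.Statements.S1323
import Cfsg.Agent.Lib.Helper22.FStar

set_option autoImplicit false
open Cfsg
open scoped commutatorElement

namespace Cfsg.Agent.S1323


open Equiv Equiv.Perm

/-- a nonabelian simple group is quasisimple -/
theorem isQuasisimple_of_simple {K : Type*} [Group K] (hs : IsSimpleGroup K)
    (hp : commutator K = ⊤) : IsQuasisimple K := by
  haveI : Nontrivial K := hs.toNontrivial
  apply Cfsg.Agent.Lib.Helper22.isQuasisimple_of_perfect_of_normal_le_center ⟨hp⟩
  intro N hN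
  rcases hs.eq_bot_or_eq_top_of_normal N hN with h | h
  · right; rw [h]; exact bot_le
  · left; exact h

variable {n : ℕ}

/-- the subgroup `L` of the statement -/
abbrev LL (n : ℕ) (h4 : 4 ≤ n) : Subgroup ↥(alternatingGroup (Fin n)) :=
  ⨅ i : Fin 4, MulAction.stabilizer ↥(alternatingGroup (Fin n)) (Fin.castLE h4 i : Fin n)

theorem mem_LL (h4 : 4 ≤ n) (g : ↥(alternatingGroup (Fin n))) :
    g ∈ LL n h4 ↔ ∀ j : Fin n, j.val < 4 → (g : Perm (Fin n)) j = j := by
  simp only [LL, Subgroup.mem_iInf, MulAction.mem_stabilizer_iff]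
  constructor
  · intro h j hj
    have := h ⟨j.val, hj⟩
    simpa [Subgroup.smul_def] using this
  · intro h i
    have := h (Fin.castLE h4 i) (by simp)
    simpa [Subgroup.smul_def] using this

/-- the points outside `T` -/
abbrev Bt (n : ℕ) := {j : Fin n // ¬ (j.val < 4)}

theorem card_Bt (hn : 9 ≤ n) : 5 ≤ Nat.card (Bt n) := by
  rw [Nat.card_eq_fintype_card]
  let f : Fin 5 → Bt n := fun i => ⟨⟨i.val + 4, by omega⟩, by simp⟩
  have hf : Function.Injective f := by
    intro a b hab
    have := congrArg (fun x : Bt n => (x : Fin n).val) hab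
    simp only [f] at this
    exact Fin.ext (by omega)
  simpa using Fintype.card_le_of_injective f hf

/-- embedding of `Alt(Bt)` into `Alt(Fin n)` -/
noncomputable def psi (n : ℕ) : ↥(alternatingGroup (Bt n)) →* ↥(alternatingGroup (Fin n)) :=
  ((ofSubtype (p := fun j : Fin n => ¬ (j.val < 4))).comp (alternatingGroup (Bt n)).subtype).codRestrict
    (alternatingGroup (Fin n)) (by
      intro f
      rw [mem_alternatingGroup]
      simp only [MonoidHom.coe_comp, Subgroup.coe_subtype, Function.comp_apply]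
      rw [sign_ofSubtype]
      exact f.2)

theorem psi_coe (f : ↥(alternatingGroup (Bt n))) :
    ((psi n f : ↥(alternatingGroup (Fin n))) : Perm (Fin n)) = ofSubtype (f : Perm (Bt n)) := rfl

theorem psi_injective : Function.Injective (psi n) := by
  intro a b hab
  have h1 := congrArg (fun x : ↥(alternatingGroup (Fin n)) => (x : Perm (Fin n))) hab
  simp only [psi_coe] at h1
  exact Subtype.ext (ofSubtype_injective h1)

theorem psi_range (h4 : 4 ≤ n) : (psi n).range = LL n h4 := by
  ext g
  rw [mem_LL]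
  constructor
  · rintro ⟨f, rfl⟩ j hj
    rw [psi_coe]
    exact ofSubtype_apply_of_not_mem _ (by simpa using hj)
  · intro h
    have h₁ : ∀ x : Fin n, ¬ ((g : Perm (Fin n)) x).val < 4 ↔ ¬ x.val < 4 := by
      intro x
      rw [not_iff_not]
      constructor
      · intro hx
        have h2 := h _ hx
        have h3 : (g : Perm (Fin n)) x = x := (g : Perm (Fin n)).injective h2
        rwa [h3] at hx
      · intro hx
        rwa [h x hx]
    have h₂ : ∀ x : Fin n, (g : Perm (Fin n)) x ≠ x → ¬ x.val < 4 := fun x hx hx' => hx (h x hx')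
    have h3 : ofSubtype ((g : Perm (Fin n)).subtypePerm (p := fun j : Fin n => ¬ (j.val < 4)) h₁) = (g : Perm (Fin n)) :=
      ofSubtype_subtypePerm h₁ h₂
    have hs : sign ((g : Perm (Fin n)).subtypePerm (p := fun j : Fin n => ¬ (j.val < 4)) h₁) = 1 := by
      rw [← sign_ofSubtype, h3]
      exact g.2
    refine ⟨⟨(g : Perm (Fin n)).subtypePerm (p := fun j : Fin n => ¬ (j.val < 4)) h₁, hs⟩, ?_⟩
    apply Subtype.ext
    rw [psi_coe]
    exact h3

theorem LL_quasisimple (h4 : 4 ≤ n) (hn : 9 ≤ n) : IsQuasisimple ↥(LL n h4) := by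
  have h5 := card_Bt hn
  have hq : IsQuasisimple ↥(alternatingGroup (Bt n)) :=
    isQuasisimple_of_simple (alternatingGroup.isSimpleGroup h5)
      (commutator_alternatingGroup_eq_top h5)
  have e1 : ↥(alternatingGroup (Bt n)) ≃* ↥((psi n).range) := MonoidHom.ofInjective psi_injective
  have e2 : ↥((psi n).range) ≃* ↥(LL n h4) := MulEquiv.subgroupCongr (psi_range h4)
  exact Cfsg.Agent.Lib.Helper29.isQuasisimple_of_mulEquiv (e1.trans e2) hq

/-! ### the set `T` and choosing points -/

/-- the set `T = {0,1,2,3}` as a finset -/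
def TT (n : ℕ) : Finset (Fin n) := Finset.univ.filter (fun j => j.val < 4)

theorem mem_TT (j : Fin n) : j ∈ TT n ↔ j.val < 4 := by simp [TT]

theorem card_TT (h4 : 4 ≤ n) : (TT n).card = 4 := by
  have : TT n = (Finset.univ : Finset (Fin 4)).image (Fin.castLE h4) := by
    ext j
    rw [mem_TT]
    simp only [Finset.mem_image, Finset.mem_univ, true_and]
    constructor
    · intro hj; exact ⟨⟨j.val, hj⟩, by simp⟩
    · rintro ⟨i, rfl⟩; simp
  rw [this, Finset.card_image_of_injective _ (Fin.castLE_injective h4)]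
  simp

theorem exists_two_notMem (S : Finset (Fin n)) (hS : S.card + 2 ≤ n) :
    ∃ a b : Fin n, a ≠ b ∧ a ∉ S ∧ b ∉ S := by
  have h1 : 1 < (Sᶜ).card := by
    rw [Finset.card_compl, Fintype.card_fin]; omega
  obtain ⟨a, ha, b, hb, hab⟩ := Finset.one_lt_card.mp h1
  exact ⟨a, b, hab, Finset.mem_compl.mp ha, Finset.mem_compl.mp hb⟩

theorem exists_notMem (S : Finset (Fin n)) (hS : S.card + 1 ≤ n) : ∃ a : Fin n, a ∉ S := by
  have h1 : 0 < (Sᶜ).card := by
    rw [Finset.card_compl, Fintype.card_fin]; omega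
  obtain ⟨a, ha⟩ := Finset.card_pos.mp h1
  exact ⟨a, Finset.mem_compl.mp ha⟩

/-! ### three-cycles -/

/-- the three-cycle `a → b → c → a` -/
def cyc (a b c : Fin n) : Perm (Fin n) := swap a b * swap b c

theorem cyc_sign {a b c : Fin n} (hab : a ≠ b) (hbc : b ≠ c) : sign (cyc a b c) = 1 := by
  unfold cyc
  rw [map_mul, sign_swap hab, sign_swap hbc]
  decide

theorem cyc_apply_left {a b c : Fin n} (hab : a ≠ b) (hac : a ≠ c) : cyc a b c a = b := by
  unfold cyc
  rw [Perm.mul_apply, swap_apply_of_ne_of_ne hab hac, swap_apply_left]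

theorem cyc_apply_of_ne {a b c x : Fin n} (hxa : x ≠ a) (hxb : x ≠ b) (hxc : x ≠ c) :
    cyc a b c x = x := by
  unfold cyc
  rw [Perm.mul_apply, swap_apply_of_ne_of_ne hxb hxc, swap_apply_of_ne_of_ne hxa hxb]

/-- the three-cycle as an element of the alternating group -/
def cycG (a b c : Fin n) (hab : a ≠ b) (hbc : b ≠ c) : ↥(alternatingGroup (Fin n)) :=
  ⟨cyc a b c, mem_alternatingGroup.mpr (cyc_sign hab hbc)⟩

/-! ### the centralizer of `L` -/

theorem commute_of_disjoint_supp {g l : ↥(alternatingGroup (Fin n))}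
    (hg : ∀ j : Fin n, ¬ j.val < 4 → (g : Perm (Fin n)) j = j)
    (hl : ∀ j : Fin n, j.val < 4 → (l : Perm (Fin n)) j = j) : l * g = g * l := by
  have hd : Perm.Disjoint (l : Perm (Fin n)) (g : Perm (Fin n)) := by
    intro x
    by_cases hx : x.val < 4
    · left; exact hl x hx
    · right; exact hg x hx
  apply Subtype.ext
  exact hd.commute.eq

theorem mem_centralizer_LL (h4 : 4 ≤ n) (hn : 9 ≤ n) (g : ↥(alternatingGroup (Fin n))) :
    g ∈ Subgroup.centralizer (LL n h4 : Set ↥(alternatingGroup (Fin n))) ↔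
      ∀ j : Fin n, ¬ j.val < 4 → (g : Perm (Fin n)) j = j := by
  constructor
  · intro hg j hj
    by_contra hne
    -- choose a, b outside T ∪ {j, g j}
    obtain ⟨a, b, hab, ha, hb⟩ := exists_two_notMem (TT n ∪ {j, (g : Perm (Fin n)) j}) (by
      have h1 := Finset.card_union_le (TT n) {j, (g : Perm (Fin n)) j}
      have h2 : ({j, (g : Perm (Fin n)) j} : Finset (Fin n)).card ≤ 2 := Finset.card_le_two
      rw [card_TT h4] at h1
      omega)
    simp only [Finset.mem_union, mem_TT, Finset.mem_insert, Finset.mem_singleton, not_or] at ha hb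
    obtain ⟨haT, haj, hag⟩ := ha
    obtain ⟨hbT, hbj, hbg⟩ := hb
    have hσL : cycG j a b (Ne.symm haj) hab ∈ LL n h4 := by
      rw [mem_LL]
      intro t ht
      show cyc j a b t = t
      apply cyc_apply_of_ne
      · rintro rfl; exact hj ht
      · rintro rfl; exact haT ht
      · rintro rfl; exact hbT ht
    have hcomm := (Subgroup.mem_centralizer_iff.mp hg) _ hσL
    have h1 := congrArg (fun x : ↥(alternatingGroup (Fin n)) => (x : Perm (Fin n)) j) hcomm
    simp only [Subgroup.coe_mul, Perm.mul_apply] at h1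
    change cyc j a b ((g : Perm (Fin n)) j) = (g : Perm (Fin n)) (cyc j a b j) at h1
    rw [cyc_apply_left (Ne.symm haj) (Ne.symm hbj),
      cyc_apply_of_ne hne (Ne.symm hag) (Ne.symm hbg)] at h1
    exact haj ((g : Perm (Fin n)).injective h1).symm
  · intro hg
    rw [Subgroup.mem_centralizer_iff]
    intro l hl
    exact commute_of_disjoint_supp hg ((mem_LL h4 l).mp hl)


/-! ### the setwise stabilizer of `T` -/

/-- `g` maps `T` into `T` -/
def stabT (g : Perm (Fin n)) : Prop := ∀ t : Fin n, t.val < 4 → (g t).val < 4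

theorem stabT_inv {g : Perm (Fin n)} (hg : stabT g) : stabT g⁻¹ := by
  have himg : (TT n).image g = TT n := by
    apply Finset.eq_of_subset_of_card_le
    · intro x hx
      obtain ⟨t, ht, rfl⟩ := Finset.mem_image.mp hx
      exact (mem_TT _).mpr (hg t ((mem_TT t).mp ht))
    · rw [Finset.card_image_of_injective _ g.injective]
  intro t ht
  have : t ∈ (TT n).image g := by rw [himg]; exact (mem_TT t).mpr ht
  obtain ⟨s, hs, rfl⟩ := Finset.mem_image.mp this
  have e : g⁻¹ (g s) = s := by simp
  rw [e]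
  exact (mem_TT s).mp hs

theorem conj_mem_LL (h4 : 4 ≤ n) {g l : ↥(alternatingGroup (Fin n))}
    (hg : stabT (g : Perm (Fin n))) (hl : l ∈ LL n h4) : g * l * g⁻¹ ∈ LL n h4 := by
  rw [mem_LL] at hl ⊢
  intro t ht
  have h1 := stabT_inv hg t ht
  simp only [Subgroup.coe_mul, Subgroup.coe_inv, Perm.mul_apply]
  rw [hl _ h1]
  simp

theorem map_conj_LL (h4 : 4 ≤ n) {g : ↥(alternatingGroup (Fin n))}
    (hg : stabT (g : Perm (Fin n))) : (LL n h4).map (MulAut.conj g).toMonoidHom = LL n h4 := by
  apply le_antisymm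
  · rintro _ ⟨l, hl, rfl⟩
    simp only [MulEquiv.coe_toMonoidHom, MulAut.conj_apply]
    exact conj_mem_LL h4 hg hl
  · intro l hl
    have hg' : stabT ((g⁻¹ : ↥(alternatingGroup (Fin n))) : Perm (Fin n)) := by
      rw [Subgroup.coe_inv]; exact stabT_inv hg
    refine ⟨g⁻¹ * l * g⁻¹⁻¹, conj_mem_LL h4 hg' hl, ?_⟩
    simp only [MulEquiv.coe_toMonoidHom, MulAut.conj_apply]
    group


/-! ### general facts on conjugation -/

theorem mem_normalizer_of_map_conj_eq {G : Type*} [Group G] {L : Subgroup G} {g : G}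
    (h : L.map (MulAut.conj g).toMonoidHom = L) : g ∈ Subgroup.normalizer (L : Set G) := by
  rw [Subgroup.mem_normalizer_iff]
  intro x
  constructor
  · intro hx
    rw [← h]
    exact ⟨x, hx, rfl⟩
  · intro hx
    rw [← h] at hx
    obtain ⟨l, hl, hlx⟩ := hx
    simp only [MulEquiv.coe_toMonoidHom, MulAut.conj_apply] at hlx
    have : l = x := by
      have := congrArg (fun t => g⁻¹ * t * g) hlx
      simpa [mul_assoc] using this
    rwa [← this]

theorem map_conj_eq_of_mem_normalizer {G : Type*} [Group G] {L : Subgroup G} {g : G}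
    (h : g ∈ Subgroup.normalizer (L : Set G)) : L.map (MulAut.conj g).toMonoidHom = L := by
  ext x
  rw [Subgroup.mem_map]
  constructor
  · rintro ⟨l, hl, rfl⟩
    exact (Subgroup.mem_normalizer_iff.mp h l).mp hl
  · intro hx
    refine ⟨g⁻¹ * x * g, ?_, ?_⟩
    · rw [Subgroup.mem_normalizer_iff.mp h]
      have : g * (g⁻¹ * x * g) * g⁻¹ = x := by group
      rwa [this]
    · simp only [MulEquiv.coe_toMonoidHom, MulAut.conj_apply]
      group

theorem map_conj_centralizer {G : Type*} [Group G] (L : Subgroup G) (g : G) :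
    (Subgroup.centralizer (L : Set G)).map (MulAut.conj g).toMonoidHom =
      Subgroup.centralizer ((L.map (MulAut.conj g).toMonoidHom : Subgroup G) : Set G) := by
  ext z
  rw [Subgroup.mem_map]
  constructor
  · rintro ⟨c, hc, rfl⟩
    rw [Subgroup.mem_centralizer_iff] at hc ⊢
    rintro _ ⟨l, hl, rfl⟩
    have := hc l hl
    simp only [MulEquiv.coe_toMonoidHom, MulAut.conj_apply]
    calc g * l * g⁻¹ * (g * c * g⁻¹) = g * (l * c) * g⁻¹ := by group
      _ = g * (c * l) * g⁻¹ := by rw [this]
      _ = _ := by group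
  · intro hz
    rw [Subgroup.mem_centralizer_iff] at hz
    refine ⟨g⁻¹ * z * g, ?_, ?_⟩
    · rw [Subgroup.mem_centralizer_iff]
      intro l hl
      have := hz (g * l * g⁻¹) ⟨l, hl, rfl⟩
      calc l * (g⁻¹ * z * g) = g⁻¹ * (g * l * g⁻¹ * z) * g := by group
        _ = g⁻¹ * (z * (g * l * g⁻¹)) * g := by rw [this]
        _ = _ := by group
    · simp only [MulEquiv.coe_toMonoidHom, MulAut.conj_apply]
      group

/-! ### (D): the normalizer of `K` stabilizes `T` -/

theorem stabT_of_mem_normalizer (h4 : 4 ≤ n) (hn : 9 ≤ n) {g : ↥(alternatingGroup (Fin n))}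
    (hg : g ∈ Subgroup.normalizer ((Subgroup.centralizer
      (LL n h4 : Set ↥(alternatingGroup (Fin n))) : Subgroup ↥(alternatingGroup (Fin n))) :
        Set ↥(alternatingGroup (Fin n)))) : stabT (g : Perm (Fin n)) := by
  intro t ht
  -- two more points of T
  have hc : 1 < ((TT n).erase t).card := by
    rw [Finset.card_erase_of_mem ((mem_TT t).mpr ht), card_TT h4]; norm_num
  obtain ⟨a, ha, b, hb, hab⟩ := Finset.one_lt_card.mp hc
  rw [Finset.mem_erase, mem_TT] at ha hb
  have hk : cycG t a b (Ne.symm ha.1) hab ∈ Subgroup.centralizer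
      (LL n h4 : Set ↥(alternatingGroup (Fin n))) := by
    rw [mem_centralizer_LL h4 hn]
    intro x hx
    show cyc t a b x = x
    apply cyc_apply_of_ne
    · rintro rfl; exact hx ht
    · rintro rfl; exact hx ha.2
    · rintro rfl; exact hx hb.2
  have hk' := (Subgroup.mem_normalizer_iff.mp hg _).mp hk
  rw [mem_centralizer_LL h4 hn] at hk'
  by_contra hcon
  have h1 := hk' _ hcon
  simp only [Subgroup.coe_mul, Subgroup.coe_inv, Perm.mul_apply] at h1
  change (g : Perm (Fin n)) (cyc t a b ((g : Perm (Fin n))⁻¹ ((g : Perm (Fin n)) t))) =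
    (g : Perm (Fin n)) t at h1
  have e : (g : Perm (Fin n))⁻¹ ((g : Perm (Fin n)) t) = t := by simp
  rw [e, cyc_apply_left (Ne.symm ha.1) (Ne.symm hb.1)] at h1
  exact ha.1 ((g : Perm (Fin n)).injective h1)


/-! ### (B) and (C): the case where `g` does not stabilize `T` -/

theorem card_image_TT (h4 : 4 ≤ n) (g : Perm (Fin n)) : ((TT n).image g).card = 4 := by
  rw [Finset.card_image_of_injective _ g.injective, card_TT h4]

theorem commutator_ne_bot_of_not_stabT (h4 : 4 ≤ n) (hn : 9 ≤ n)
    {g : ↥(alternatingGroup (Fin n))} (hg : ¬ stabT (g : Perm (Fin n))) :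
    ⁅LL n h4, (LL n h4).map (MulAut.conj g).toMonoidHom⁆ ≠ ⊥ := by
  unfold stabT at hg
  push Not at hg
  obtain ⟨t₀, ht₀, hv⟩ := hg
  have hvgT : (g : Perm (Fin n)) t₀ ∈ (TT n).image (g : Perm (Fin n)) :=
    Finset.mem_image_of_mem _ ((mem_TT t₀).mpr ht₀)
  obtain ⟨u, hu⟩ := exists_notMem (TT n ∪ (TT n).image (g : Perm (Fin n))) (by
    have h1 := Finset.card_union_le (TT n) ((TT n).image (g : Perm (Fin n)))
    rw [card_TT h4, card_image_TT h4] at h1
    omega)
  rw [Finset.mem_union, not_or, mem_TT] at hu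
  obtain ⟨huT, hugT⟩ := hu
  obtain ⟨w, hw⟩ := exists_notMem (TT n ∪ {u, (g : Perm (Fin n)) t₀}) (by
    have h1 := Finset.card_union_le (TT n) {u, (g : Perm (Fin n)) t₀}
    have h2 : ({u, (g : Perm (Fin n)) t₀} : Finset (Fin n)).card ≤ 2 := Finset.card_le_two
    rw [card_TT h4] at h1
    omega)
  simp only [Finset.mem_union, mem_TT, Finset.mem_insert, Finset.mem_singleton, not_or] at hw
  obtain ⟨hwT, hwu, hwv⟩ := hw
  obtain ⟨s, s', hss', hs, hs'⟩ := exists_two_notMem ((TT n).image (g : Perm (Fin n)) ∪ {u}) (by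
    have h1 := Finset.card_union_le ((TT n).image (g : Perm (Fin n))) {u}
    rw [card_image_TT h4, Finset.card_singleton] at h1
    omega)
  rw [Finset.mem_union, not_or, Finset.mem_singleton] at hs hs'
  have huv : u ≠ (g : Perm (Fin n)) t₀ := by
    rintro rfl; exact hugT hvgT
  have hvs : (g : Perm (Fin n)) t₀ ≠ s := by
    rintro rfl; exact hs.1 hvgT
  have hvs' : (g : Perm (Fin n)) t₀ ≠ s' := by
    rintro rfl; exact hs'.1 hvgT
  -- the two three-cycles
  have hl : cycG u ((g : Perm (Fin n)) t₀) w huv (Ne.symm hwv) ∈ LL n h4 := by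
    rw [mem_LL]
    intro t ht
    show cyc u ((g : Perm (Fin n)) t₀) w t = t
    apply cyc_apply_of_ne
    · rintro rfl; exact huT ht
    · rintro rfl; exact Nat.not_lt.mpr hv ht
    · rintro rfl; exact hwT ht
  have hl' : cycG u s s' (Ne.symm hs.2) hss' ∈ (LL n h4).map (MulAut.conj g).toMonoidHom := by
    refine Subgroup.mem_map.mpr ⟨g⁻¹ * cycG u s s' (Ne.symm hs.2) hss' * g, ?_, ?_⟩
    · rw [mem_LL]
      intro t ht
      simp only [Subgroup.coe_mul, Subgroup.coe_inv, Perm.mul_apply]
      change (g : Perm (Fin n))⁻¹ (cyc u s s' ((g : Perm (Fin n)) t)) = t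
      have htg : (g : Perm (Fin n)) t ∈ (TT n).image (g : Perm (Fin n)) :=
        Finset.mem_image_of_mem _ ((mem_TT t).mpr ht)
      rw [cyc_apply_of_ne]
      · simp
      · rintro h; rw [h] at htg; exact hugT htg
      · rintro h; rw [h] at htg; exact hs.1 htg
      · rintro h; rw [h] at htg; exact hs'.1 htg
    · simp only [MulEquiv.coe_toMonoidHom, MulAut.conj_apply]
      group
  intro hbot
  have hle := Subgroup.commutator_eq_bot_iff_le_centralizer.mp hbot
  have hcomm := (Subgroup.mem_centralizer_iff.mp (hle hl)) _ hl'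
  have h1 := congrArg (fun x : ↥(alternatingGroup (Fin n)) => (x : Perm (Fin n)) u) hcomm
  simp only [Subgroup.coe_mul, Perm.mul_apply] at h1
  change cyc u s s' (cyc u ((g : Perm (Fin n)) t₀) w u) =
    cyc u ((g : Perm (Fin n)) t₀) w (cyc u s s' u) at h1
  rw [cyc_apply_left huv (Ne.symm hwu), cyc_apply_left (Ne.symm hs.2) (Ne.symm hs'.2),
    cyc_apply_of_ne (Ne.symm huv) hvs hvs'] at h1
  -- now `g t₀ = cyc u (g t₀) w s`, but `cyc u (g t₀) w u = g t₀`
  have h2 : cyc u ((g : Perm (Fin n)) t₀) w u = (g : Perm (Fin n)) t₀ :=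
    cyc_apply_left huv (Ne.symm hwu)
  have h3 : cyc u ((g : Perm (Fin n)) t₀) w s = cyc u ((g : Perm (Fin n)) t₀) w u := by
    rw [h2, ← h1]
  exact hs.2 ((cyc u ((g : Perm (Fin n)) t₀) w).injective h3)

theorem not_even_involution_small_support {σ : Perm (Fin n)} (ho : orderOf σ = 2)
    (hs : sign σ = 1) (S : Finset (Fin n)) (hS : S.card ≤ 3) (hsupp : σ.support ⊆ S) : False := by
  obtain ⟨k, hk⟩ := cycleType_prime_order (σ := σ) (by rw [ho]; exact Nat.prime_two)
  rw [ho] at hk
  have h1 : σ.cycleType.sum = σ.support.card := sum_cycleType σ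
  have h2 : σ.support.card ≤ 3 := (Finset.card_le_card hsupp).trans hS
  rw [hk, Multiset.sum_replicate, smul_eq_mul] at h1
  have hk0 : k = 0 := by omega
  subst hk0
  have h3 := sign_of_cycleType σ
  rw [hk, hs] at h3
  revert h3
  decide

theorem odd_card_of_not_stabT (h4 : 4 ≤ n) (hn : 9 ≤ n)
    {g : ↥(alternatingGroup (Fin n))} (hg : ¬ stabT (g : Perm (Fin n))) :
    Odd (Nat.card ↥(Subgroup.centralizer (LL n h4 : Set ↥(alternatingGroup (Fin n))) ⊓
      (Subgroup.centralizer (LL n h4 : Set ↥(alternatingGroup (Fin n)))).map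
        (MulAut.conj g).toMonoidHom)) := by
  unfold stabT at hg
  push Not at hg
  obtain ⟨t₀, ht₀, hv⟩ := hg
  by_contra hodd
  rw [Nat.not_odd_iff_even, even_iff_two_dvd] at hodd
  haveI : Fact (Nat.Prime 2) := ⟨Nat.prime_two⟩
  obtain ⟨y, hy⟩ := exists_prime_orderOf_dvd_card' 2 hodd
  have hyK : (y : ↥(alternatingGroup (Fin n))) ∈
      Subgroup.centralizer (LL n h4 : Set ↥(alternatingGroup (Fin n))) := y.2.1
  have hyKg : (y : ↥(alternatingGroup (Fin n))) ∈
      (Subgroup.centralizer (LL n h4 : Set ↥(alternatingGroup (Fin n)))).map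
        (MulAut.conj g).toMonoidHom := y.2.2
  have ho : orderOf (((y : ↥(alternatingGroup (Fin n))) : Perm (Fin n))) = 2 := by
    rw [Subgroup.orderOf_coe, Subgroup.orderOf_coe]; exact hy
  rw [mem_centralizer_LL h4 hn] at hyK
  obtain ⟨k, hk, hky⟩ := Subgroup.mem_map.mp hyKg
  rw [mem_centralizer_LL h4 hn] at hk
  simp only [MulEquiv.coe_toMonoidHom, MulAut.conj_apply] at hky
  apply not_even_involution_small_support ho (mem_alternatingGroup.mp (y : ↥(alternatingGroup (Fin n))).2)
    (((TT n).image (g : Perm (Fin n))).erase ((g : Perm (Fin n)) t₀))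
  · rw [Finset.card_erase_of_mem (Finset.mem_image_of_mem _ ((mem_TT t₀).mpr ht₀)),
      card_image_TT h4]
  · intro x hx
    rw [Perm.mem_support] at hx
    have hxT : x.val < 4 := by
      by_contra hcon
      exact hx (hyK x hcon)
    rw [Finset.mem_erase]
    refine ⟨?_, ?_⟩
    · rintro rfl; exact Nat.not_lt.mpr hv hxT
    · have hgx : ((g : Perm (Fin n))⁻¹ x).val < 4 := by
        by_contra hcon
        apply hx
        have h1 := congrArg (fun z : ↥(alternatingGroup (Fin n)) => (z : Perm (Fin n)) x) hky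
        simp only [Subgroup.coe_mul, Subgroup.coe_inv, Perm.mul_apply] at h1
        rw [← h1, hk _ hcon]
        simp
      have : x = (g : Perm (Fin n)) ((g : Perm (Fin n))⁻¹ x) := by simp
      rw [this]
      exact Finset.mem_image_of_mem _ ((mem_TT _).mpr hgx)


/-! ### an involution in the centralizer -/

theorem even_card_centralizer (h4 : 4 ≤ n) (hn : 9 ≤ n) :
    Even (Nat.card ↥(Subgroup.centralizer (LL n h4 : Set ↥(alternatingGroup (Fin n))))) := by
  let a : Fin n := ⟨0, by omega⟩
  let b : Fin n := ⟨1, by omega⟩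
  let c : Fin n := ⟨2, by omega⟩
  let d : Fin n := ⟨3, by omega⟩
  have hab : a ≠ b := by simp [a, b, Fin.ext_iff]
  have hcd : c ≠ d := by simp [c, d, Fin.ext_iff]
  have hac : a ≠ c := by simp [a, c, Fin.ext_iff]
  have had : a ≠ d := by simp [a, d, Fin.ext_iff]
  have hbc : b ≠ c := by simp [b, c, Fin.ext_iff]
  have hbd : b ≠ d := by simp [b, d, Fin.ext_iff]
  have hdisj : Perm.Disjoint (swap a b) (swap c d) := by
    intro x
    by_cases hx : x = a ∨ x = b
    · right
      rcases hx with rfl | rfl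
      · exact swap_apply_of_ne_of_ne hac had
      · exact swap_apply_of_ne_of_ne hbc hbd
    · left
      rw [not_or] at hx
      exact swap_apply_of_ne_of_ne hx.1 hx.2
  have hsign : sign (swap a b * swap c d) = 1 := by
    rw [map_mul, sign_swap hab, sign_swap hcd]; decide
  let y : ↥(alternatingGroup (Fin n)) := ⟨swap a b * swap c d, mem_alternatingGroup.mpr hsign⟩
  have hyK : y ∈ Subgroup.centralizer (LL n h4 : Set ↥(alternatingGroup (Fin n))) := by
    rw [mem_centralizer_LL h4 hn]
    intro j hj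
    show (swap a b * swap c d) j = j
    have hja : j ≠ a := by rintro rfl; exact hj (by simp [a])
    have hjb : j ≠ b := by rintro rfl; exact hj (by simp [b])
    have hjc : j ≠ c := by rintro rfl; exact hj (by simp [c])
    have hjd : j ≠ d := by rintro rfl; exact hj (by simp [d])
    rw [Perm.mul_apply, swap_apply_of_ne_of_ne hjc hjd, swap_apply_of_ne_of_ne hja hjb]
  have hy2 : y ^ 2 = 1 := by
    apply Subtype.ext
    show (swap a b * swap c d) ^ 2 = 1
    rw [hdisj.commute.mul_pow, pow_two, pow_two, swap_mul_self, swap_mul_self, one_mul]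
  have hy1 : y ≠ 1 := by
    intro h
    have h1 := congrArg (fun z : ↥(alternatingGroup (Fin n)) => (z : Perm (Fin n)) a) h
    simp only [Subgroup.coe_one, Perm.one_apply] at h1
    change (swap a b * swap c d) a = a at h1
    rw [Perm.mul_apply, swap_apply_of_ne_of_ne hac had, swap_apply_left] at h1
    exact hab h1.symm
  haveI : Fact (Nat.Prime 2) := ⟨Nat.prime_two⟩
  have ho : orderOf y = 2 := orderOf_eq_prime hy2 hy1
  have := Subgroup.orderOf_dvd_natCard _ hyK
  rw [ho] at this
  exact even_iff_two_dvd.mpr this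

/-- For n ≥ 9, the subgroup of the alternating group on Fin n fixing each of the points 0, 1, 2, 3 is a standard subgroup. -/
theorem result (n : ℕ) (h4 : 4 ≤ n) (hn : 9 ≤ n) : Cfsg.IsStandardSubgroup (⨅ i : Fin 4, MulAction.stabilizer ↥(alternatingGroup (Fin n)) (Fin.castLE h4 i : Fin n)) := by
  show Cfsg.IsStandardSubgroup (LL n h4)
  have hA : ∀ g : ↥(alternatingGroup (Fin n)), stabT (g : Perm (Fin n)) →
      (LL n h4).map (MulAut.conj g).toMonoidHom = LL n h4 := fun g hg => map_conj_LL h4 hg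
  have hNK : ∀ g : ↥(alternatingGroup (Fin n)),
      (LL n h4).map (MulAut.conj g).toMonoidHom = LL n h4 →
      g ∈ Subgroup.normalizer ((Subgroup.centralizer
        (LL n h4 : Set ↥(alternatingGroup (Fin n))) : Subgroup ↥(alternatingGroup (Fin n))) :
          Set ↥(alternatingGroup (Fin n))) := by
    intro g hg
    apply mem_normalizer_of_map_conj_eq
    rw [map_conj_centralizer, hg]
  refine ⟨LL_quasisimple h4 hn, ⟨even_card_centralizer h4 hn, ?_⟩, ?_, ?_⟩
  · intro g hg
    apply odd_card_of_not_stabT h4 hn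
    intro hst
    exact hg (hNK g (hA g hst))
  · intro g hg
    apply commutator_ne_bot_of_not_stabT h4 hn
    intro hst
    exact hg (hA g hst)
  · apply le_antisymm
    · intro g hg
      exact hNK g (map_conj_eq_of_mem_normalizer hg)
    · intro g hg
      exact mem_normalizer_of_map_conj_eq (hA g (stabT_of_mem_normalizer h4 hn hg))

end Cfsg.Agent.S1323
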