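import Cfsg.Statements.S1326
import Cfsg.Agent.Lib.Helper22.FStar

set_option autoImplicit false
open Cfsg

namespace Cfsg.Agent.S1326


open Cfsg.Agent.Lib.Helper22

/-- For a finite group X: the Fitting subgroup contains its centralizer if and only if the layer of X is trivial. -/
theorem result {X : Type*} [Group X] [Finite X] : Subgroup.centralizer (Cfsg.fittingSubgroup X : Set X) ≤ Cfsg.fittingSubgroup X ↔ Cfsg.layer X = ⊥ := by
  constructor
  · intro h
    -- `E ≤ C(F) ≤ F`, so `E` is perfect and solvable
    have h1 : layer X ≤ fittingSubgroup X := by
      refine le_trans ?_ h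
      rw [← Subgroup.commutator_eq_bot_iff_le_centralizer]
      exact layer_commutator_fittingSubgroup
    have hnil : Group.IsNilpotent (fittingSubgroup X) :=
      Cfsg.Agent.Lib.Helper1.fittingSubgroup_isNilpotent
    have hsolv : Group.IsSolvable (layer X) :=
      Group.isSolvable_of_isSolvable_injective (Subgroup.inclusion_injective h1)
    have hperf : Group.IsPerfect (layer X) := Subgroup.isPerfect_iff.mpr layer_commutator_self
    by_contra hne
    have hnt : Nontrivial (layer X) := (Subgroup.nontrivial_iff_ne_bot _).mpr hne
    exact Group.IsPerfect.not_isSolvable (layer X) hsolv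
  · intro h
    have h1 : generalizedFittingSubgroup X = fittingSubgroup X := by
      unfold generalizedFittingSubgroup
      rw [h, bot_sup_eq]
    have := centralizer_generalizedFittingSubgroup_le (G := X)
    rwa [h1] at this

end Cfsg.Agent.S1326
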