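import Cfsg.Statements.S1328
import Cfsg.Agent.Lib.Helper31.Diagonal
import Cfsg.Agent.Lib.Helper31.BalanceLocal
import Cfsg.Agent.Lib.Helper31.KBalanceLocal
import Cfsg.Agent.Lib.Helper31.PPrimeLocal
import Cfsg.Agent.Lib.Helper22.Components

set_option autoImplicit false
open Cfsg
open scoped commutatorElement

namespace Cfsg.Agent.S1328


open Cfsg.Agent.Lib.Helper31 Cfsg.Agent.Lib.Helper22

/-- The core statement, inside a single group `X` with `O(X) = 1`. -/
theorem core {X : Type*} [Group X] [Finite X] (hO : pPrimeCore 2 X = ⊥) {x : X} (hx : x ^ 2 = 1)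
    {W : Subgroup X} (hW : W ≤ centralizerPPrimeCore 2 x) (hW1 : W ≠ ⊥) :
    ∃ K : Subgroup X, IsComponent K ∧ x ∈ Subgroup.normalizer (K : Set X) ∧
      W ≤ Subgroup.normalizer (K : Set X) ∧ x ∉ Subgroup.centralizer (K : Set X) ∧
      ¬ W ≤ Subgroup.centralizer (K : Set X) := by
  have : Fact (Nat.Prime 2) := ⟨Nat.prime_two⟩
  set W₀ := centralizerPPrimeCore 2 x with hW₀
  have hW₀c : (Nat.card W₀).Coprime 2 := card_centralizerPPrimeCore_coprime 2 x
  have hWc : (Nat.card W).Coprime 2 :=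
    Nat.Coprime.coprime_dvd_left (Subgroup.card_dvd_of_le hW) hW₀c
  have hQ : W ≤ Subgroup.centralizer (pCore 2 X : Set X) :=
    hW.trans (centralizerPPrimeCore_le_centralizer_pCore hx)
  have hex : ∃ K : Subgroup X, IsComponent K ∧ ⁅K, W⁆ ≠ ⊥ := by
    by_contra hcon
    push Not at hcon
    exact hW1 (eq_bot_of_centralizes_pCore_and_components hO hWc hQ hcon)
  obtain ⟨K, hK, hKW⟩ := hex
  have hKW₀ : ⁅K, W₀⁆ ≠ ⊥ := by
    intro h
    apply hKW
    rw [eq_bot_iff, ← h]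
    exact Subgroup.commutator_mono le_rfl hW
  have hWN : W₀ ≤ Subgroup.normalizer (K : Set X) :=
    centralizerPPrimeCore_le_normalizer_component hO hx hK
  refine ⟨K, hK, ?_, hW.trans hWN, ?_, ?_⟩
  · by_contra hxK
    apply hKW₀
    refine commutator_eq_bot_of_not_mem_normalizer hO hx hK hxK hW₀c ?_ ?_ hWN
    · intro w hw
      exact commute_of_mem_centralizerPPrimeCore hw
    · intro g hg
      exact mem_normalizer_centralizerPPrimeCore_of_commute hg
  · intro hxC
    apply hKW₀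
    apply commutator_centralizerPPrimeCore_eq_bot_of_le_centralizer hO hK
    intro k hk
    rw [Subgroup.mem_centralizer_iff] at hxC ⊢
    intro y hy
    rw [Set.mem_singleton_iff] at hy
    subst hy
    exact (hxC k hk).symm
  · intro hWC
    apply hKW
    rw [Subgroup.commutator_comm, Subgroup.commutator_eq_bot_iff_le_centralizer]
    exact hWC


/-- Squares of elements of `H⟨t⟩` lie in `H` (for `t² = 1` normalizing `H`). -/
theorem sq_mem {G : Type*} [Group G] {H : Subgroup G} {t : G} (ht2 : t ^ 2 = 1)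
    (htH : t ∈ Subgroup.normalizer (H : Set G)) {g : G} (hg : g ∈ H ⊔ Subgroup.zpowers t) :
    g ^ 2 ∈ H := by
  have hz : Subgroup.zpowers t ≤ Subgroup.normalizer (H : Set G) := Subgroup.zpowers_le.mpr htH
  have hset := Subgroup.coe_mul_of_right_le_normalizer_left H (Subgroup.zpowers t) hz
  have hg' : g ∈ ((H ⊔ Subgroup.zpowers t : Subgroup G) : Set G) := hg
  rw [hset] at hg'
  obtain ⟨h, hh, z, hz', rfl⟩ := Set.mem_mul.mp hg'
  have hzN : z ∈ Subgroup.normalizer (H : Set G) := hz hz'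
  have hz2 : z ^ 2 = 1 := by
    obtain ⟨k, rfl⟩ := Subgroup.mem_zpowers_iff.mp hz'
    rw [← zpow_natCast, ← zpow_mul, mul_comm, zpow_mul, zpow_natCast, ht2, one_zpow]
  have hzinv : z⁻¹ = z := by
    rw [inv_eq_iff_mul_eq_one, ← sq, hz2]
  have h1 : z * h * z⁻¹ ∈ H := (Subgroup.mem_normalizer_iff.mp hzN h).mp hh
  have h2 : (h * z) ^ 2 = h * (z * h * z⁻¹) := by
    rw [hzinv, sq]; simp only [mul_assoc]
  rw [h2]
  exact H.mul_mem hh h1

/-- Commutators of elements of `H⟨t⟩` lie in `H`. -/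
theorem comm_mem {G : Type*} [Group G] {H : Subgroup G} {t : G} (ht2 : t ^ 2 = 1)
    (htH : t ∈ Subgroup.normalizer (H : Set G)) {a b : G} (ha : a ∈ H ⊔ Subgroup.zpowers t)
    (hb : b ∈ H ⊔ Subgroup.zpowers t) : ⁅a, b⁆ ∈ H := by
  have hN : H ⊔ Subgroup.zpowers t ≤ Subgroup.normalizer (H : Set G) :=
    sup_le Subgroup.le_normalizer (Subgroup.zpowers_le.mpr htH)
  have h1 : ⁅a, b⁆ = (a * b) ^ 2 * (b⁻¹ * (a ^ 2)⁻¹ * b) * (b ^ 2)⁻¹ := by
    simp only [commutatorElement_def, sq]; group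
  rw [h1]
  have hbinv : b⁻¹ ∈ Subgroup.normalizer (H : Set G) := inv_mem (hN hb)
  have h2 : b⁻¹ * (a ^ 2)⁻¹ * b ∈ H := by
    have := (Subgroup.mem_normalizer_iff.mp hbinv ((a ^ 2)⁻¹)).mp (H.inv_mem (sq_mem ht2 htH ha))
    rwa [inv_inv] at this
  exact H.mul_mem (H.mul_mem (sq_mem ht2 htH (mul_mem ha hb)) h2) (H.inv_mem (sq_mem ht2 htH hb))

/-- `O(H⟨t⟩) = 1` when `O(H) = 1`. -/
theorem pPrimeCore_sup_zpowers_eq_bot {G : Type*} [Group G] [Finite G] {H : Subgroup G}
    (hO : pPrimeCore 2 ↥H = ⊥) {t : G} (ht2 : t ^ 2 = 1)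
    (htH : t ∈ Subgroup.normalizer (H : Set G)) :
    pPrimeCore 2 ↥(H ⊔ Subgroup.zpowers t) = ⊥ := by
  set H₁ : Subgroup G := H ⊔ Subgroup.zpowers t with hH₁
  have hHH₁ : H ≤ H₁ := le_sup_left
  set O : Subgroup ↥H₁ := pPrimeCore 2 ↥H₁ with hOdef
  have hOn : O.Normal := Cfsg.Agent.Lib.Helper1.pPrimeCore_normal 2
  have hOc : (Nat.card O).Coprime 2 := Cfsg.Agent.Lib.Helper1.pPrimeCore_card_coprime 2
  set OH : Subgroup ↥H := (O.map H₁.subtype).subgroupOf H with hOH
  have hOHn : OH.Normal := by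
    constructor
    intro n hn g
    rw [hOH, Subgroup.mem_subgroupOf] at hn ⊢
    obtain ⟨o, ho, hon⟩ := hn
    refine ⟨⟨g, hHH₁ g.2⟩ * o * ⟨g, hHH₁ g.2⟩⁻¹, hOn.conj_mem o ho _, ?_⟩
    simp [← hon]
  have hOHc : (Nat.card OH).Coprime 2 := by
    have h1 : Nat.card OH = Nat.card ((O.map H₁.subtype ⊓ H : Subgroup G)) := by
      rw [← Subgroup.subgroupOf_map_subtype, Subgroup.card_map_of_injective H.subtype_injective]
    rw [h1]
    refine Nat.Coprime.coprime_dvd_left (Subgroup.card_dvd_of_le inf_le_left) ?_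
    rw [Subgroup.card_map_of_injective H₁.subtype_injective]
    exact hOc
  have hOHbot : OH = ⊥ := by
    have := Cfsg.Agent.Lib.Helper1.le_pPrimeCore hOHn hOHc
    rw [hO] at this
    exact le_bot_iff.mp this
  rw [eq_bot_iff]
  intro o ho
  rw [Subgroup.mem_bot]
  have h2 : ((o : G)) ^ 2 ∈ H := sq_mem ht2 htH o.2
  have h3 : (⟨(o : G) ^ 2, h2⟩ : ↥H) ∈ OH := by
    rw [hOH, Subgroup.mem_subgroupOf]
    exact ⟨o ^ 2, O.pow_mem ho 2, by simp⟩
  rw [hOHbot, Subgroup.mem_bot] at h3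
  have h4 : o ^ 2 = 1 := by
    apply Subtype.ext
    have := congrArg Subtype.val h3
    simpa using this
  have h5 : orderOf o ∣ 2 := orderOf_dvd_of_pow_eq_one h4
  have h6 : orderOf o ∣ Nat.card O := Subgroup.orderOf_dvd_natCard O ho
  have h7 : orderOf o ∣ 1 := by
    have := Nat.dvd_gcd h6 h5
    rwa [Nat.Coprime.gcd_eq_one hOc] at this
  exact orderOf_eq_one_iff.mp (Nat.dvd_one.mp h7)

/-- Let G be finite, H ≤ G with O(H) = 1, t an involution of G normalizing H, and Y a nontrivial subgroup of O(C_H(t)). Then some component E of H is normalized by t and by Y and centralized by neither t nor Y. -/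
theorem result {G : Type*} [Group G] [Finite G] (H : Subgroup G) (hO : Cfsg.oddCore ↥H = ⊥) (t : G) (ht : orderOf t = 2) (htH : t ∈ Subgroup.normalizer (H : Set G)) (Y : Subgroup G) (hY1 : Y ≠ ⊥) (hY : Y ≤ (Cfsg.oddCore ↥(H ⊓ Subgroup.centralizer ({t} : Set G))).map (H ⊓ Subgroup.centralizer ({t} : Set G)).subtype) : ∃ E : Subgroup ↥H, Cfsg.IsComponent E ∧ (E.map H.subtype).map (MulAut.conj t).toMonoidHom = E.map H.subtype ∧ Y ≤ Subgroup.normalizer ((E.map H.subtype : Subgroup G) : Set G) ∧ ¬ (t ∈ Subgroup.centralizer ((E.map H.subtype : Subgroup G) : Set G)) ∧ ¬ (Y ≤ Subgroup.centralizer ((E.map H.subtype : Subgroup G) : Set G)) := by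
  have ht2 : t ^ 2 = 1 := by rw [← ht]; exact pow_orderOf_eq_one t
  set H₁ : Subgroup G := H ⊔ Subgroup.zpowers t with hH₁
  have hHH₁ : H ≤ H₁ := le_sup_left
  have htH₁ : t ∈ H₁ := (le_sup_right : Subgroup.zpowers t ≤ H₁) (Subgroup.mem_zpowers t)
  have hH₁N : H₁ ≤ Subgroup.normalizer (H : Set G) :=
    sup_le Subgroup.le_normalizer (Subgroup.zpowers_le.mpr htH)
  have hO₁ : pPrimeCore 2 ↥H₁ = ⊥ := pPrimeCore_sup_zpowers_eq_bot hO ht2 htH
  set D : Subgroup G := H ⊓ Subgroup.centralizer ({t} : Set G) with hD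
  set V : Subgroup G := (oddCore ↥D).map D.subtype with hV
  have hVD : V ≤ D := Subgroup.map_subtype_le _
  have hVn : Subgroup.normalizer (D : Set G) ≤ Subgroup.normalizer (V : Set G) :=
    normalizer_le_normalizer_map_subtype_of_characteristic _
  have hVH₁ : V ≤ H₁ := hVD.trans (inf_le_left.trans hHH₁)
  set t₁ : ↥H₁ := ⟨t, htH₁⟩ with ht₁
  have ht₁2 : t₁ ^ 2 = 1 := by
    apply Subtype.ext
    simpa using ht2
  set U : Subgroup ↥H₁ := V.subgroupOf H₁ with hU
  have hUc : (Nat.card U).Coprime 2 := by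
    rw [hU, Nat.card_congr (Subgroup.subgroupOfEquivOfLe hVH₁).toEquiv, hV,
      Subgroup.card_map_of_injective D.subtype_injective]
    exact Cfsg.Agent.Lib.Helper1.pPrimeCore_card_coprime 2
  have hUt : U ≤ Subgroup.centralizer ({t₁} : Set ↥H₁) := by
    intro u hu
    rw [Subgroup.mem_centralizer_iff]
    intro y hy
    rw [Set.mem_singleton_iff] at hy
    subst hy
    have h1 : (u : G) ∈ D := hVD (Subgroup.mem_subgroupOf.mp hu)
    have h2 := (Subgroup.mem_inf.mp h1).2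
    rw [Subgroup.mem_centralizer_iff] at h2
    exact Subtype.ext (h2 t rfl)
  have hn : Subgroup.centralizer ({t₁} : Set ↥H₁) ≤ Subgroup.normalizer (U : Set ↥H₁) := by
    intro g hg
    have hgH : (g : G) ∈ Subgroup.normalizer (H : Set G) := hH₁N g.2
    have hgt : (g : G) ∈ Subgroup.centralizer ({t} : Set G) := by
      rw [Subgroup.mem_centralizer_iff] at hg ⊢
      intro y hy
      rw [Set.mem_singleton_iff] at hy
      subst hy
      have := congrArg Subtype.val (hg t₁ rfl)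
      simpa using this
    have hgD : (g : G) ∈ Subgroup.normalizer (D : Set G) := by
      rw [Subgroup.mem_normalizer_iff]
      intro d
      rw [hD, Subgroup.mem_inf, Subgroup.mem_inf]
      constructor
      · rintro ⟨hd1, hd2⟩
        exact ⟨(Subgroup.mem_normalizer_iff.mp hgH d).mp hd1,
          mul_mem (mul_mem hgt hd2) (inv_mem hgt)⟩
      · rintro ⟨hd1, hd2⟩
        refine ⟨(Subgroup.mem_normalizer_iff.mp hgH d).mpr hd1, ?_⟩
        have := mul_mem (mul_mem (inv_mem hgt) hd2) hgt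
        simpa [mul_assoc] using this
    have hgV := hVn hgD
    rw [Subgroup.mem_normalizer_iff] at hgV ⊢
    intro u
    rw [hU, Subgroup.mem_subgroupOf, Subgroup.mem_subgroupOf]
    simpa using hgV (u : G)
  have hUle := le_centralizerPPrimeCore_of_le_normalizer hUc hUt hn
  set W : Subgroup ↥H₁ := Y.subgroupOf H₁ with hW
  have hYH₁ : Y ≤ H₁ := hY.trans hVH₁
  have hWle : W ≤ centralizerPPrimeCore 2 t₁ := by
    intro w hw
    exact hUle (Subgroup.mem_subgroupOf.mpr (hY (Subgroup.mem_subgroupOf.mp hw)))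
  have hW1 : W ≠ ⊥ := by
    intro h
    apply hY1
    rw [eq_bot_iff]
    intro y hy
    have : (⟨y, hYH₁ hy⟩ : ↥H₁) ∈ W := Subgroup.mem_subgroupOf.mpr hy
    rw [h, Subgroup.mem_bot] at this
    rw [Subgroup.mem_bot]
    simpa using congrArg Subtype.val this
  obtain ⟨K, hK, hKt, hKW, hKtc, hKWc⟩ := core hO₁ ht₁2 hWle hW1
  -- `K ≤ H`
  have hKH' : K ≤ H.subgroupOf H₁ := by
    rw [← component_commutator_self hK, Subgroup.commutator_le]
    intro a _ b _
    rw [Subgroup.mem_subgroupOf]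
    have : ((⁅a, b⁆ : ↥H₁) : G) = ⁅(a : G), (b : G)⁆ := by simp [commutatorElement_def]
    rw [this]
    exact comm_mem ht2 htH a.2 b.2
  set KG : Subgroup G := K.map H₁.subtype with hKG
  have hKH : KG ≤ H := by
    rintro _ ⟨k, hk, rfl⟩
    exact Subgroup.mem_subgroupOf.mp (hKH' hk)
  have hEmap : (KG.subgroupOf H).map H.subtype = KG := by
    rw [Subgroup.subgroupOf_map_subtype, inf_eq_left.mpr hKH]
  have hEcomp : IsComponent (KG.subgroupOf H) := by
    have h1 : IsComponent (K.subgroupOf (H.subgroupOf H₁)) := component_subgroupOf hK hKH'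
    let φ : ↥(H.subgroupOf H₁) ≃* ↥H := Subgroup.subgroupOfEquivOfLe hHH₁
    have h2 := Cfsg.Agent.Lib.Helper29.isComponent_map_mulEquiv φ h1
    have h3 : (K.subgroupOf (H.subgroupOf H₁)).map φ.toMonoidHom = KG.subgroupOf H := by
      ext e
      constructor
      · rintro ⟨k, hk, rfl⟩
        rw [Subgroup.mem_subgroupOf]
        exact ⟨(k : ↥H₁), hk, rfl⟩
      · intro he
        rw [Subgroup.mem_subgroupOf] at he
        obtain ⟨k, hk, hke⟩ := he
        refine ⟨⟨k, hKH' hk⟩, Subgroup.mem_subgroupOf.mpr hk, ?_⟩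
        apply Subtype.ext
        exact hke
    rwa [h3] at h2
  refine ⟨KG.subgroupOf H, hEcomp, ?_⟩
  rw [hEmap]
  have hnorm : ∀ g : ↥H₁, g ∈ Subgroup.normalizer (K : Set ↥H₁) →
      (g : G) ∈ Subgroup.normalizer (KG : Set G) := by
    intro g hg
    exact Subgroup.le_normalizer_map H₁.subtype ⟨g, hg, rfl⟩
  refine ⟨?_, ?_, ?_, ?_⟩
  · have htN : t ∈ Subgroup.normalizer (KG : Set G) := hnorm t₁ hKt
    rw [Subgroup.mem_normalizer_iff] at htN
    ext n
    constructor
    · rintro ⟨m, hm, rfl⟩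
      exact (htN m).mp hm
    · intro hn'
      refine ⟨t⁻¹ * n * t, (htN _).mpr ?_, ?_⟩
      · simpa [mul_assoc] using hn'
      · simp [mul_assoc]
  · intro y hy
    exact hnorm ⟨y, hYH₁ hy⟩ (hKW (Subgroup.mem_subgroupOf.mpr hy))
  · intro htc
    apply hKtc
    rw [Subgroup.mem_centralizer_iff] at htc ⊢
    intro k hk
    exact Subtype.ext (htc (k : G) ⟨k, hk, rfl⟩)
  · intro hYc
    apply hKWc
    intro w hw
    have h1 := hYc (Subgroup.mem_subgroupOf.mp hw)
    rw [Subgroup.mem_centralizer_iff] at h1 ⊢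
    intro k hk
    exact Subtype.ext (h1 (k : G) ⟨k, hk, rfl⟩)

end Cfsg.Agent.S1328
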