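import Cfsg.Statements.S1331
import Cfsg.Agent.S1324
import Cfsg.Agent.Lib.Helper23.TypeP

set_option autoImplicit false
open Cfsg


namespace Cfsg.Agent.S1331

open Cfsg.Agent.Lib.Helper23

/-- Centralizers of subgroups of `B` containing `D'` lie in `signalizerInf D' θ` inside a member of the family. -/
theorem inf_centralizer_le {G : Type*} [Group G] (A : Subgroup G) (θ : G → Subgroup G)
    (X : Subgroup G) (hXθ : ∀ a ∈ A, a ≠ 1 → X ⊓ Subgroup.centralizer {a} ≤ θ a)
    (D D' : Subgroup G) (hD'D : D' ≤ D) (hD'A : D' ≤ A) :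
    X ⊓ Subgroup.centralizer ((D : Subgroup G) : Set G) ≤ X ⊓ Cfsg.signalizerInf D' θ := by
  intro g hg
  rw [Subgroup.mem_inf] at hg ⊢
  refine ⟨hg.1, ?_⟩
  unfold Cfsg.signalizerInf
  rw [Subgroup.mem_iInf]
  rintro ⟨d, hd, hd1⟩
  apply hXθ d (hD'A hd) hd1
  rw [Subgroup.mem_inf]
  refine ⟨hg.1, ?_⟩
  rw [Subgroup.mem_centralizer_singleton_iff]
  exact ((Subgroup.mem_centralizer_iff.1 hg.2) d (hD'D hd)).symm

/-- A `p`-group of order at least `p²` (indeed any nontrivial one) has a subgroup of index `p`. -/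
theorem exists_relIndex_eq_prime {G : Type*} [Group G] [Finite G] (p : ℕ) [hp : Fact p.Prime]
    (B : Subgroup G) (k : ℕ) (hk : Nat.card ↥B = p ^ (k + 1)) :
    ∃ D : Subgroup G, D ≤ B ∧ D.relIndex B = p := by
  obtain ⟨K, hK⟩ := Sylow.exists_subgroup_card_pow_prime (G := ↥B) p (n := k)
    (by rw [hk]; exact pow_dvd_pow p (Nat.le_succ k))
  refine ⟨K.map B.subtype, Subgroup.map_subtype_le K, ?_⟩
  have hcard : Nat.card ↥(K.map B.subtype) = p ^ k := by
    rw [← hK]
    exact Nat.card_congr (K.equivMapOfInjective B.subtype B.subtype_injective).symm.toEquiv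
  have h1 := card_mul_relIndex_of_le (Subgroup.map_subtype_le K)
  rw [hcard, hk, pow_succ] at h1
  exact Nat.eq_of_mul_eq_mul_left (pow_pos hp.out.pos k) h1

/-- Let θ be a solvable A-signalizer functor on the finite group G for the prime p, A elementary abelian of rank at least 3, X a member of the family of θ, and B ≤ A with |B| ≥ p². Then X is generated by the subgroups X ∩ ⋂_{d ∈ D, d ≠ 1} θ d, D ranging over the subgroups of index p in B. -/
theorem result {G : Type*} [Group G] [Finite G] (p : ℕ) [Fact p.Prime] (A : Subgroup G) (hA : Cfsg.IsElementaryAbelian p A) (hA3 : p ^ 3 ≤ Nat.card ↥A) (θ : G → Subgroup G) (hθ : Cfsg.IsSolvableSignalizerFunctor p A θ) (X : Subgroup G) (hX : X ∈ Cfsg.signalizerFamily p A θ) (B : Subgroup G) (hB : B ≤ A) (hB2 : p ^ 2 ≤ Nat.card ↥B) : X = ⨆ D : {D : Subgroup G // D ≤ B ∧ D.relIndex B = p}, X ⊓ Cfsg.signalizerInf (D : Subgroup G) θ := by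
  have hp : p.Prime := Fact.out
  obtain ⟨-, hXp, hXinv, hXθ⟩ := hX
  have hAc := hA.1
  have hB' : Cfsg.IsElementaryAbelian p B :=
    ⟨⟨⟨fun a b => Subtype.ext (congrArg Subtype.val
      (mul_comm' (⟨a.1, hB a.2⟩ : ↥A) ⟨b.1, hB b.2⟩) : (a.1 * b.1 : G) = b.1 * a.1)⟩⟩,
      fun a ha => hA.2 a (hB ha)⟩
  have hBX : B ≤ Subgroup.normalizer (X : Set G) := by
    intro b hb
    rw [Subgroup.mem_normalizer_iff]
    intro x
    constructor
    · intro hx; exact hXinv b (hB hb) x hx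
    · intro hx
      have := hXinv b⁻¹ (inv_mem (hB hb)) _ hx
      simpa [mul_assoc] using this
  have h1 := Cfsg.Agent.S1324.result p B X hB' hB2 hXp hBX
  -- the order of B
  have hBp : IsPGroup p ↥B := by
    intro a
    refine ⟨1, ?_⟩
    rw [pow_one]
    exact Subtype.ext (by simpa using hB'.2 a.1 a.2)
  obtain ⟨k, hk⟩ := IsPGroup.iff_card.1 hBp
  have hk2 : 2 ≤ k := by
    by_contra hlt
    have hk1 : k ≤ 1 := by omega
    have : p ^ k ≤ p ^ 1 := Nat.pow_le_pow_right hp.pos hk1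
    rw [hk] at hB2
    have h3 : p ^ 1 < p ^ 2 := Nat.pow_lt_pow_right hp.one_lt (by norm_num)
    omega
  obtain ⟨k', rfl⟩ : ∃ k', k = k' + 1 := ⟨k - 1, by omega⟩
  obtain ⟨D₀, hD₀B, hD₀p⟩ := exists_relIndex_eq_prime p B k' hk
  apply le_antisymm
  · conv_lhs => rw [h1]
    apply iSup_le
    rintro ⟨D, hDB, hDp⟩
    have hdvd : D.relIndex B ∣ p ^ (k' + 1) := hk ▸ Subgroup.relIndex_dvd_card D B
    obtain ⟨m, -, hm⟩ := (Nat.dvd_prime_pow hp).1 hdvd
    have hm1 : m ≤ 1 := by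
      by_contra hlt
      have h2 : 2 ≤ m := by omega
      have : p ^ 2 ≤ p ^ m := Nat.pow_le_pow_right hp.pos h2
      have h3 : p ^ 1 < p ^ 2 := Nat.pow_lt_pow_right hp.one_lt (by norm_num)
      rw [pow_one] at h3
      rw [hm] at hDp
      omega
    rcases Nat.le_one_iff_eq_zero_or_eq_one.1 hm1 with h0 | h0
    · -- index 1: D = B
      rw [h0, pow_zero, Subgroup.relIndex_eq_one] at hm
      refine le_trans (inf_centralizer_le A θ X hXθ D D₀ (le_trans hD₀B hm) (le_trans hD₀B hB)) ?_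
      exact le_iSup (fun D : {D : Subgroup G // D ≤ B ∧ D.relIndex B = p} =>
        X ⊓ Cfsg.signalizerInf (D : Subgroup G) θ) ⟨D₀, hD₀B, hD₀p⟩
    · rw [h0, pow_one] at hm
      refine le_trans (inf_centralizer_le A θ X hXθ D D le_rfl (le_trans hDB hB)) ?_
      exact le_iSup (fun D : {D : Subgroup G // D ≤ B ∧ D.relIndex B = p} =>
        X ⊓ Cfsg.signalizerInf (D : Subgroup G) θ) ⟨D, hDB, hm⟩
  · exact iSup_le fun D => inf_le_left

end Cfsg.Agent.S1331
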