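import Cfsg.Statements.S1335
-- import your own Cfsg.Agent.* helpers here

set_option autoImplicit false
open Cfsg

namespace Cfsg.Agent.S1335

/-- `PRankLE` pulls back along injective homomorphisms. -/
theorem prankLE_of_injective {G G' : Type*} [Group G] [Group G'] {p k : ℕ} (f : G →* G')
    (hf : Function.Injective f) (h : Cfsg.PRankLE p k G') : Cfsg.PRankLE p k G := by
  intro A hA hexp
  have h1 : IsMulCommutative ↥(A.map f) := by
    refine ⟨⟨?_⟩⟩
    rintro ⟨x, hx⟩ ⟨y, hy⟩
    obtain ⟨a, ha, rfl⟩ := hx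
    obtain ⟨b, hb, rfl⟩ := hy
    apply Subtype.ext
    have hab : (⟨a, ha⟩ : A) * ⟨b, hb⟩ = ⟨b, hb⟩ * ⟨a, ha⟩ := mul_comm' _ _
    have hab' : a * b = b * a := congrArg Subtype.val hab
    show f a * f b = f b * f a
    rw [← map_mul, ← map_mul, hab']
  have h2 : ∀ a ∈ A.map f, a ^ p = 1 := by
    rintro _ ⟨a, ha, rfl⟩
    rw [← map_pow, hexp a ha, map_one]
  have h3 := h (A.map f) h1 h2
  have h4 : Nat.card ↥(A.map f) = Nat.card ↥A :=
    Nat.card_congr (A.equivMapOfInjective f hf).toEquiv.symm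
  rwa [h4] at h3

/-- Let H be a subgroup of the finite group G, p a prime, k ≥ 1, P a Sylow p-subgroup of H of p-rank at least k, and suppose N_G(X) ≤ H for every subgroup X ≤ P of p-rank at least k. Then P is a Sylow p-subgroup of G. -/
theorem result {G : Type*} [Group G] [Finite G] {p : ℕ} [Fact p.Prime] (k : ℕ) (hk : 1 ≤ k) (H : Subgroup G) (P : Sylow p ↥H) (hP : ¬ Cfsg.PRankLE p (k - 1) ↥(P : Subgroup ↥H)) (hΓ : (∀ X : Subgroup G, X ≤ (P : Subgroup ↥H).map H.subtype → ¬ Cfsg.PRankLE p (k - 1) ↥X → Subgroup.normalizer (X : Set G) ≤ H)) : ∃ Q : Sylow p G, (Q : Subgroup G) = (P : Subgroup ↥H).map H.subtype := by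
  classical
  set P' : Subgroup G := (P : Subgroup ↥H).map H.subtype with hP'
  have hP'H : P' ≤ H := by
    rintro _ ⟨x, _, rfl⟩
    exact x.2
  -- P' is a p-group
  have hP'p : IsPGroup p ↥P' := P.isPGroup'.map H.subtype
  -- rank transfer
  have hrank : ¬ Cfsg.PRankLE p (k - 1) ↥P' := by
    intro h
    apply hP
    let e : ↥(P : Subgroup ↥H) ≃* ↥P' :=
      (P : Subgroup ↥H).equivMapOfInjective H.subtype H.subtype_injective
    exact prankLE_of_injective e.toMonoidHom e.injective h
  have hN : Subgroup.normalizer (P' : Set G) ≤ H := hΓ P' le_rfl hrank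
  obtain ⟨Q, hQ⟩ := hP'p.exists_le_sylow
  refine ⟨Q, ?_⟩
  -- Q ⊓ H = P'
  have hQH : (Q : Subgroup G) ⊓ H = P' := by
    have hpg : IsPGroup p ↥(((Q : Subgroup G) ⊓ H).subgroupOf H) := by
      have : IsPGroup p ↥((Q : Subgroup G) ⊓ H) := Q.isPGroup'.to_le inf_le_left
      exact this.comap_subtype
    have hle : (P : Subgroup ↥H) ≤ ((Q : Subgroup G) ⊓ H).subgroupOf H := by
      intro x hx
      rw [Subgroup.mem_subgroupOf]
      refine ⟨hQ ?_, x.2⟩
      exact ⟨x, hx, rfl⟩
    have heq := P.is_maximal' hpg hle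
    rw [hP', ← heq]
    rw [Subgroup.subgroupOf_map_subtype]
    rw [inf_assoc, inf_idem]
  -- normalizer condition inside Q
  have : Group.IsNilpotent ↥(Q : Subgroup G) := Q.isPGroup'.isNilpotent
  have hnc := Group.normalizerCondition_of_isNilpotent (G := ↥(Q : Subgroup G))
  rw [normalizerCondition_iff_only_full_group_self_normalizing] at hnc
  have hself : Subgroup.normalizer ((P'.subgroupOf (Q : Subgroup G) : Subgroup ↥(Q : Subgroup G)) : Set ↥(Q : Subgroup G)) = P'.subgroupOf (Q : Subgroup G) := by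
    apply le_antisymm _ Subgroup.le_normalizer
    intro x hx
    rw [Subgroup.mem_subgroupOf]
    have hxN : (x : G) ∈ Subgroup.normalizer (P' : Set G) := by
      rw [Subgroup.mem_normalizer_iff] at hx ⊢
      intro g
      constructor
      · intro hg
        have := (hx ⟨g, hQ hg⟩).1 (by rw [Subgroup.mem_subgroupOf]; exact hg)
        rw [Subgroup.mem_subgroupOf] at this
        simpa using this
      · intro hg
        have hgQ : g ∈ (Q : Subgroup G) := by
          have h1 : (x : G) * g * (x : G)⁻¹ ∈ (Q : Subgroup G) := hQ hg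
          have h2 := (Q : Subgroup G).mul_mem ((Q : Subgroup G).mul_mem ((Q : Subgroup G).inv_mem x.2) h1) x.2
          simpa [mul_assoc] using h2
        have := (hx ⟨g, hgQ⟩).2 (by rw [Subgroup.mem_subgroupOf]; simpa using hg)
        rw [Subgroup.mem_subgroupOf] at this
        exact this
    have : (x : G) ∈ (Q : Subgroup G) ⊓ H := ⟨x.2, hN hxN⟩
    rw [hQH] at this
    exact this
  have htop := hnc _ hself
  rw [Subgroup.subgroupOf_eq_top] at htop
  exact le_antisymm htop hQ

end Cfsg.Agent.S1335
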