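import Cfsg.Statements.S1336
-- import your own Cfsg.Agent.* helpers here

set_option autoImplicit false
open Cfsg


namespace Cfsg.Agent.S1336

open Relation

variable {G : Type*} [Group G]

/-- conjugate of a subgroup -/
abbrev cj (g : G) (A : Subgroup G) : Subgroup G := A.map (MulAut.conj g).toMonoidHom

theorem mem_cj {A : Subgroup G} {g x : G} : x ∈ cj g A ↔ g⁻¹ * x * g ∈ A := by
  constructor
  · rintro ⟨y, hy, rfl⟩
    simpa [MulAut.conj_apply, mul_assoc] using hy
  · intro h
    exact ⟨g⁻¹ * x * g, h, by simp [MulAut.conj_apply, mul_assoc]⟩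

theorem cj_mul (g h : G) (A : Subgroup G) : cj (g * h) A = cj g (cj h A) := by
  ext x
  simp only [mem_cj]
  rw [mul_inv_rev]
  constructor <;> intro hx <;> convert hx using 1 <;> group

theorem cj_one (A : Subgroup G) : cj 1 A = A := by
  ext x
  simp

theorem cj_inv_cj (g : G) (A : Subgroup G) : cj g⁻¹ (cj g A) = A := by
  rw [← cj_mul, inv_mul_cancel, cj_one]

theorem cj_cj_inv (g : G) (A : Subgroup G) : cj g (cj g⁻¹ A) = A := by
  rw [← cj_mul, mul_inv_cancel, cj_one]

theorem cj_mono (g : G) {A B : Subgroup G} (h : A ≤ B) : cj g A ≤ cj g B := Subgroup.map_mono h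

theorem cj_self_of_mem {A : Subgroup G} {a : G} (ha : a ∈ A) : cj a A = A := by
  ext x
  rw [mem_cj]
  constructor
  · intro h
    have := A.mul_mem (A.mul_mem ha h) (A.inv_mem ha)
    simpa [mul_assoc] using this
  · intro h
    exact A.mul_mem (A.mul_mem (A.inv_mem ha) h) ha

theorem card_cj (g : G) (A : Subgroup G) : Nat.card ↥(cj g A) = Nat.card ↥A :=
  Nat.card_congr (A.equivMapOfInjective _ (MulAut.conj g).injective).toEquiv.symm

theorem cj_zpowers (g x : G) : cj g (Subgroup.zpowers x) = Subgroup.zpowers (g * x * g⁻¹) := by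
  unfold cj
  rw [MonoidHom.map_zpowers]
  rfl

theorem orderOf_conj' (a x : G) : orderOf (a⁻¹ * x * a) = orderOf x := by
  have := orderOf_injective (MulAut.conj a⁻¹).toMonoidHom (MulAut.conj a⁻¹).injective x
  simpa [MulAut.conj_apply] using this

/-- the vertex predicate -/
def IsV (p : ℕ) (A : Subgroup G) : Prop := IsElementaryAbelian p A ∧ p ^ 1 ≤ Nat.card ↥A

/-- the edge relation of the statement -/
abbrev R (p : ℕ) (A B : Subgroup G) : Prop :=
  IsElementaryAbelian p A ∧ p ^ 1 ≤ Nat.card ↥A ∧ IsElementaryAbelian p B ∧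
    p ^ 1 ≤ Nat.card ↥B ∧ ∀ a ∈ A, ∀ b ∈ B, a * b = b * a

theorem isElementaryAbelian_cj {p : ℕ} (g : G) {A : Subgroup G} (hA : IsElementaryAbelian p A) :
    IsElementaryAbelian p (cj g A) := by
  obtain ⟨hc, he⟩ := hA
  constructor
  · refine ⟨⟨?_⟩⟩
    rintro ⟨_, ⟨a, ha, rfl⟩⟩ ⟨_, ⟨b, hb, rfl⟩⟩
    apply Subtype.ext
    have hab : (⟨a, ha⟩ : ↥A) * ⟨b, hb⟩ = ⟨b, hb⟩ * ⟨a, ha⟩ := mul_comm' _ _
    have hab' : a * b = b * a := congrArg Subtype.val hab
    show (MulAut.conj g) a * (MulAut.conj g) b = (MulAut.conj g) b * (MulAut.conj g) a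
    rw [← map_mul, ← map_mul, hab']
  · rintro _ ⟨a, ha, rfl⟩
    show ((MulAut.conj g) a) ^ p = 1
    rw [← map_pow, he a ha, map_one]

theorem isV_cj {p : ℕ} (g : G) {A : Subgroup G} (hA : IsV p A) : IsV p (cj g A) :=
  ⟨isElementaryAbelian_cj g hA.1, by rw [card_cj]; exact hA.2⟩

theorem R_cj {p : ℕ} (g : G) {A B : Subgroup G} (h : R p A B) : R p (cj g A) (cj g B) := by
  obtain ⟨h1, h2, h3, h4, h5⟩ := h
  refine ⟨isElementaryAbelian_cj g h1, by rw [card_cj]; exact h2, isElementaryAbelian_cj g h3,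
    by rw [card_cj]; exact h4, ?_⟩
  rintro _ ⟨a, ha, rfl⟩ _ ⟨b, hb, rfl⟩
  show (MulAut.conj g) a * (MulAut.conj g) b = (MulAut.conj g) b * (MulAut.conj g) a
  rw [← map_mul, ← map_mul, h5 a ha b hb]

theorem R_symm {p : ℕ} {A B : Subgroup G} (h : R p A B) : R p B A :=
  ⟨h.2.2.1, h.2.2.2.1, h.1, h.2.1, fun b hb a ha => (h.2.2.2.2 a ha b hb).symm⟩

theorem conn_symm {p : ℕ} {A B : Subgroup G} (h : ReflTransGen (R p) A B) :
    ReflTransGen (R p) B A := by
  induction h with
  | refl => exact ReflTransGen.refl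
  | tail _ hbc ih => exact ReflTransGen.head (R_symm hbc) ih

theorem conn_cj {p : ℕ} (g : G) {A B : Subgroup G} (h : ReflTransGen (R p) A B) :
    ReflTransGen (R p) (cj g A) (cj g B) := by
  induction h with
  | refl => exact ReflTransGen.refl
  | tail _ hbc ih => exact ih.tail (R_cj g hbc)

theorem isPGroup_of_isV {p : ℕ} {A : Subgroup G} (hA : IsV p A) : IsPGroup p ↥A := by
  intro a
  refine ⟨1, ?_⟩
  apply Subtype.ext
  simpa using hA.1.2 a.1 a.2

theorem p_dvd_card_of_isV {p : ℕ} [hp : Fact p.Prime] [Finite G] {A : Subgroup G} (hA : IsV p A) :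
    p ∣ Nat.card ↥A := by
  have h1 : 1 < Nat.card ↥A := lt_of_lt_of_le hp.out.one_lt (by simpa using hA.2)
  have hne : A ≠ ⊥ := by
    intro h
    rw [h, Subgroup.card_bot] at h1
    exact lt_irrefl _ h1
  obtain ⟨a, ha, ha1⟩ := (A.bot_or_exists_ne_one).resolve_left hne
  have h2 : orderOf a ∣ p := orderOf_dvd_of_pow_eq_one (hA.1.2 a ha)
  have h3 : orderOf a = p := by
    rcases (Nat.dvd_prime hp.out).mp h2 with h | h
    · exact absurd (orderOf_eq_one_iff.mp h) ha1
    · exact h
  have h4 := orderOf_dvd_natCard (⟨a, ha⟩ : ↥A)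
  rwa [Subgroup.orderOf_mk, h3] at h4

theorem isV_zpowers {p : ℕ} {x : G} (hx : orderOf x = p) :
    IsV p (Subgroup.zpowers x) := by
  refine ⟨⟨inferInstance, ?_⟩, ?_⟩
  · intro a ha
    obtain ⟨k, rfl⟩ := Subgroup.mem_zpowers_iff.mp ha
    rw [← zpow_natCast, ← zpow_mul, mul_comm, zpow_mul, zpow_natCast, ← hx, pow_orderOf_eq_one,
      one_zpow]
  · rw [Nat.card_zpowers, hx, pow_one]

/-- two vertices inside a common `p`-subgroup are connected (through the centre) -/
theorem conn_of_le_pGroup {p : ℕ} [hp : Fact p.Prime] [Finite G] (P : Subgroup G)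
    (hP : IsPGroup p ↥P) {A B : Subgroup G} (hA : IsV p A) (hB : IsV p B) (hAP : A ≤ P)
    (hBP : B ≤ P) : ReflTransGen (R p) A B := by
  have hAne : ∃ a ∈ A, a ≠ 1 := by
    have h1 : 1 < Nat.card ↥A := lt_of_lt_of_le hp.out.one_lt (by simpa using hA.2)
    have hne : A ≠ ⊥ := by
      intro h
      rw [h, Subgroup.card_bot] at h1
      exact lt_irrefl _ h1
    exact (A.bot_or_exists_ne_one).resolve_left hne
  obtain ⟨a, ha, ha1⟩ := hAne
  have : Nontrivial ↥P := ⟨⟨⟨a, hAP ha⟩, 1, fun h => ha1 (congrArg Subtype.val h)⟩⟩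
  have hZ : Nontrivial ↥(Subgroup.center ↥P) := hP.center_nontrivial
  have hZp : IsPGroup p ↥(Subgroup.center ↥P) := hP.to_subgroup _
  obtain ⟨n, hn0, hn⟩ := hZp.nontrivial_iff_card.mp hZ
  have hdvd : p ∣ Nat.card ↥(Subgroup.center ↥P) := by
    rw [hn]; exact dvd_pow_self _ (ne_of_gt hn0)
  obtain ⟨z, hz⟩ := exists_prime_orderOf_dvd_card' p hdvd
  set z' : G := ((z : ↥P) : G) with hz'
  have hz'o : orderOf z' = p := by
    rw [hz', Subgroup.orderOf_coe, Subgroup.orderOf_coe, hz]
  have hzV : IsV p (Subgroup.zpowers z') := isV_zpowers hz'o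
  have hcomm : ∀ x ∈ P, ∀ y ∈ Subgroup.zpowers z', x * y = y * x := by
    intro x hx y hy
    obtain ⟨k, rfl⟩ := Subgroup.mem_zpowers_iff.mp hy
    have h1 : (⟨x, hx⟩ : ↥P) * (z : ↥P) = (z : ↥P) * ⟨x, hx⟩ :=
      Subgroup.mem_center_iff.mp z.2 ⟨x, hx⟩
    have h2 : x * z' = z' * x := congrArg Subtype.val h1
    exact (Commute.zpow_right h2 k).eq
  have hR1 : R p A (Subgroup.zpowers z') :=
    ⟨hA.1, hA.2, hzV.1, hzV.2, fun x hx y hy => hcomm x (hAP hx) y hy⟩
  have hR2 : R p (Subgroup.zpowers z') B :=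
    ⟨hzV.1, hzV.2, hB.1, hB.2, fun y hy x hx => (hcomm x (hBP hx) y hy).symm⟩
  exact (ReflTransGen.single hR1).tail hR2

/-- the stabilizer of the connected component of `E` -/
def stab (p : ℕ) (E : Subgroup G) : Subgroup G where
  carrier := {g | ReflTransGen (R p) E (cj g E)}
  one_mem' := by
    show ReflTransGen (R p) E (cj 1 E)
    rw [cj_one]
  mul_mem' := by
    intro g h hg hh
    show ReflTransGen (R p) E (cj (g * h) E)
    rw [cj_mul]
    exact hg.trans (conn_cj g hh)
  inv_mem' := by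
    intro g hg
    show ReflTransGen (R p) E (cj g⁻¹ E)
    have := conn_cj g⁻¹ hg
    rw [cj_inv_cj] at this
    exact conn_symm this

theorem mem_stab {p : ℕ} {E : Subgroup G} {g : G} :
    g ∈ stab p E ↔ ReflTransGen (R p) E (cj g E) := Iff.rfl

theorem le_stab_of_conn {p : ℕ} {E A : Subgroup G} (h : ReflTransGen (R p) E A) :
    A ≤ stab p E := by
  intro a ha
  rw [mem_stab]
  have h1 := conn_cj a h
  rw [cj_self_of_mem ha] at h1
  exact h.trans (conn_symm h1)

theorem mem_smul_sylow {p : ℕ} [Fact p.Prime] {S S' : Sylow p G} {g : G} (hg : g • S = S')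
    (x : G) : x ∈ S' ↔ g⁻¹ * x * g ∈ S := by
  rw [← hg]
  show x ∈ ((g • S : Sylow p G) : Subgroup G) ↔ _
  rw [Sylow.coe_subgroup_smul, Subgroup.mem_pointwise_smul_iff_inv_smul_mem]
  simp only [MulAut.smul_def, MulAut.conj_inv_apply]
  exact Iff.rfl

/-- Let G be finite and p prime. Then G has a proper subgroup H with p ∣ |H| and p ∤ |H ∩ gHg⁻¹| for every g ∉ H (a strongly p-embedded subgroup) if and only if G is not 1-connected for p. -/
theorem result {G : Type*} [Group G] [Finite G] (p : ℕ) [Fact p.Prime] : (∃ H : Subgroup G, H ≠ ⊤ ∧ p ∣ Nat.card ↥H ∧ ∀ g : G, g ∉ H → ¬ p ∣ Nat.card ↥(H ⊓ H.map (MulAut.conj g).toMonoidHom)) ↔ ¬ Cfsg.IsKConnected p 1 G := by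
  classical
  constructor
  · rintro ⟨H, hHtop, hpH, hH⟩ hconn
    apply hHtop
    -- an element of order p in H
    obtain ⟨x, hx⟩ := exists_prime_orderOf_dvd_card' p hpH
    have hxo : orderOf (x : G) = p := by rw [Subgroup.orderOf_coe, hx]
    have hE₀ : IsV p (Subgroup.zpowers (x : G)) := isV_zpowers hxo
    have hE₀H : Subgroup.zpowers (x : G) ≤ H := by
      rw [Subgroup.zpowers_le]; exact x.2
    -- key claim
    have key : ∀ A B : Subgroup G, R p A B → A ≤ H → B ≤ H := by
      intro A B hAB hAH b hb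
      by_contra hbH
      apply hH b hbH
      have hAle : A ≤ H ⊓ H.map (MulAut.conj b).toMonoidHom := by
        intro a ha
        refine ⟨hAH ha, ?_⟩
        show a ∈ cj b H
        rw [mem_cj]
        have hab : a * b = b * a := hAB.2.2.2.2 a ha b hb
        have : b⁻¹ * a * b = a := by rw [mul_assoc, hab]; group
        rw [this]
        exact hAH ha
      exact (p_dvd_card_of_isV ⟨hAB.1, hAB.2.1⟩).trans (Subgroup.card_dvd_of_le hAle)
    have hall : ∀ A : Subgroup G, IsV p A → A ≤ H := by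
      intro A hA
      have hc := hconn (Subgroup.zpowers (x : G)) A hE₀.1 hE₀.2 hA.1 hA.2
      have : ∀ B, ReflTransGen (R p) (Subgroup.zpowers (x : G)) B → B ≤ H := by
        intro B hB
        induction hB with
        | refl => exact hE₀H
        | tail _ hbc ih => exact key _ _ hbc ih
      exact this A hc
    rw [eq_top_iff]
    intro g _
    by_contra hgH
    apply hH g hgH
    have hle : cj g (Subgroup.zpowers (x : G)) ≤ H ⊓ H.map (MulAut.conj g).toMonoidHom :=
      le_inf (hall _ (isV_cj g hE₀)) (cj_mono g hE₀H)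
    exact (p_dvd_card_of_isV (isV_cj g hE₀)).trans (Subgroup.card_dvd_of_le hle)
  · intro hnc
    unfold Cfsg.IsKConnected at hnc
    push Not at hnc
    obtain ⟨E, E', hE1, hE2, hE'1, hE'2, hnot⟩ := hnc
    have hEV : IsV p E := ⟨hE1, hE2⟩
    have hE'V : IsV p E' := ⟨hE'1, hE'2⟩
    have hnot' : ¬ ReflTransGen (R p) E E' := hnot
    -- Sylow subgroups
    obtain ⟨S, hES⟩ := (isPGroup_of_isV hEV).exists_le_sylow
    obtain ⟨S', hE'S'⟩ := (isPGroup_of_isV hE'V).exists_le_sylow
    have hEH : E ≤ stab p E := le_stab_of_conn ReflTransGen.refl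
    have hSH : (S : Subgroup G) ≤ stab p E := by
      intro s hs
      rw [mem_stab]
      have hle : cj s E ≤ S := by
        intro y hy
        rw [mem_cj] at hy
        have h1 := hES hy
        have h2 := (S : Subgroup G).mul_mem ((S : Subgroup G).mul_mem hs h1) ((S : Subgroup G).inv_mem hs)
        simpa [mul_assoc] using h2
      exact conn_of_le_pGroup S S.isPGroup' hEV (isV_cj s hEV) hES hle
    -- K4
    have K4 : ∀ y ∈ stab p E, orderOf y = p → ReflTransGen (R p) E (Subgroup.zpowers y) := by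
      intro y hy hyo
      let S₀ : Sylow p ↥(stab p E) := S.subtype hSH
      have hyp : IsPGroup p ↥(Subgroup.zpowers (⟨y, hy⟩ : ↥(stab p E))) := by
        have hV : IsV p (Subgroup.zpowers (⟨y, hy⟩ : ↥(stab p E))) :=
          isV_zpowers (by rw [Subgroup.orderOf_mk, hyo])
        exact isPGroup_of_isV hV
      obtain ⟨Q, hQ⟩ := hyp.exists_le_sylow
      obtain ⟨h, hh⟩ := MulAction.exists_smul_eq ↥(stab p E) S₀ Q
      have hyQ : (⟨y, hy⟩ : ↥(stab p E)) ∈ Q := hQ (Subgroup.mem_zpowers _)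
      rw [mem_smul_sylow hh] at hyQ
      have hyS : (h : G)⁻¹ * y * (h : G) ∈ (S : Subgroup G) := by
        have : h⁻¹ * ⟨y, hy⟩ * h ∈ (S : Subgroup G).subgroupOf (stab p E) := hyQ
        rw [Subgroup.mem_subgroupOf] at this
        simpa using this
      set y' : G := (h : G)⁻¹ * y * (h : G) with hy'
      have hy'o : orderOf y' = p := by
        rw [hy', orderOf_conj', hyo]
      have hle : Subgroup.zpowers y' ≤ S := by
        rw [Subgroup.zpowers_le]; exact hyS
      have h1 := conn_of_le_pGroup S S.isPGroup' hEV (isV_zpowers hy'o) hES hle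
      have h2 := conn_cj (h : G) h1
      have h3 : cj (h : G) (Subgroup.zpowers y') = Subgroup.zpowers y := by
        rw [cj_zpowers, hy']
        congr 1
        group
      rw [h3] at h2
      exact (mem_stab.mp h.2).trans h2
    refine ⟨stab p E, ?_, ?_, ?_⟩
    · intro htop
      apply hnot'
      obtain ⟨g, hg⟩ := MulAction.exists_smul_eq G S S'
      have hgH : g ∈ stab p E := by rw [htop]; trivial
      have hle : cj g E ≤ S' := by
        intro y hy
        rw [mem_cj] at hy
        exact (mem_smul_sylow hg y).mpr (hES hy)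
      exact (mem_stab.mp hgH).trans
        (conn_of_le_pGroup S' S'.isPGroup' (isV_cj g hEV) hE'V hle hE'S')
    · exact (p_dvd_card_of_isV hEV).trans (Subgroup.card_dvd_of_le hEH)
    · intro g hg hdvd
      apply hg
      obtain ⟨x, hx⟩ := exists_prime_orderOf_dvd_card' p hdvd
      have hxo : orderOf (x : G) = p := by rw [Subgroup.orderOf_coe, hx]
      have hx1 : (x : G) ∈ stab p E := x.2.1
      have hx2 : g⁻¹ * (x : G) * g ∈ stab p E := mem_cj.mp x.2.2
      have hx2o : orderOf (g⁻¹ * (x : G) * g) = p := by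
        rw [orderOf_conj', hxo]
      have h1 := K4 _ hx1 hxo
      have h2 := conn_cj g (K4 _ hx2 hx2o)
      have h3 : cj g (Subgroup.zpowers (g⁻¹ * (x : G) * g)) = Subgroup.zpowers (x : G) := by
        rw [cj_zpowers]
        congr 1
        group
      rw [h3] at h2
      rw [mem_stab]
      exact h1.trans (conn_symm h2)

end Cfsg.Agent.S1336
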