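import Cfsg.Statements.S1337
import Mathlib
import Cfsg.Agent.Lib.Helper45.NormalEpp
import Cfsg.Agent.Lib.Helper45.RankTools

set_option autoImplicit false
open Cfsg

namespace Cfsg.Agent.S1337

open Cfsg.Agent.Lib.Helper45

/-- Let P be a finite p-group of p-rank greater than 2. Then P has a normal elementary abelian subgroup U of order p², and for every elementary abelian X ≤ P with |X| ≥ p²: X is joined to U by a chain of pairwise commuting elementary abelian subgroups of order ≥ p² if and only if C_P(X) has p-rank greater than 2. -/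
theorem result {P : Type*} [Group P] [Finite P] (p : ℕ) [Fact p.Prime] (hP : IsPGroup p P) (hrk : ¬ Cfsg.PRankLE p 2 P) : ∃ U : Subgroup P, U.Normal ∧ Cfsg.IsElementaryAbelian p U ∧ Nat.card ↥U = p ^ 2 ∧ ∀ X : Subgroup P, Cfsg.IsElementaryAbelian p X → p ^ 2 ≤ Nat.card ↥X → (Relation.ReflTransGen (fun A B : Subgroup P => Cfsg.IsElementaryAbelian p A ∧ p ^ 2 ≤ Nat.card ↥A ∧ Cfsg.IsElementaryAbelian p B ∧ p ^ 2 ≤ Nat.card ↥B ∧ ∀ a ∈ A, ∀ b ∈ B, a * b = b * a) X U ↔ ¬ Cfsg.PRankLE p 2 ↥(Subgroup.centralizer (X : Set P))) := by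
  classical
  have hp : p.Prime := Fact.out
  obtain ⟨E, hEea, hEcard⟩ := (not_pRankLE_iff 2).mp hrk
  obtain ⟨U, hUn, hUea, hUcard⟩ :=
    exists_normal_elementaryAbelian_sq hP E hEea.1 hEea.2 hEcard
  refine ⟨U, hUn, hUea, hUcard, ?_⟩
  have hCU : (Subgroup.centralizer (U : Set P)).index ≤ p :=
    index_centralizer_normal_sq_le hP U hUcard
  intro X hXea hXcard
  rw [not_pRankLE_subgroup_iff 2]
  constructor
  · -- a chain gives rank at least three in the centralizer
    intro hchain
    induction hchain using Relation.ReflTransGen.head_induction_on with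
    | refl =>
      by_cases hEU : E ≤ Subgroup.centralizer (U : Set P)
      · exact ⟨E, hEU, hEea, hEcard⟩
      · set E₀ := E ⊓ Subgroup.centralizer (U : Set P) with hE₀
        have hE₀card : p ^ 2 ≤ Nat.card E₀ := sq_le_card_inf_of_index_le hP E _ hCU hEcard
        have hE₀ea : IsElementaryAbelian p E₀ := isElementaryAbelian_of_le hEea inf_le_left
        have hcomm : ∀ a ∈ E₀, ∀ b ∈ U, a * b = b * a := by
          intro a ha b hb
          have := Subgroup.mem_centralizer_iff.mp ha.2 b hb
          exact this.symm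
        have hFea : IsElementaryAbelian p (E₀ ⊔ U) := isElementaryAbelian_sup hE₀ea hUea hcomm
        have hUcent : U ≤ Subgroup.centralizer (U : Set P) := by
          intro x hx
          rw [Subgroup.mem_centralizer_iff]
          intro h hh
          exact IsElementaryAbelian_comm hUea hh hx
        refine ⟨E₀ ⊔ U, sup_le inf_le_right hUcent, hFea, ?_⟩
        -- `U` is not contained in `E₀`
        have hUE₀ : ¬ U ≤ E₀ := by
          intro h
          apply hEU
          intro x hx
          rw [Subgroup.mem_centralizer_iff]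
          intro w hw
          exact IsElementaryAbelian_comm hEea ((h.trans inf_le_left) hw) hx
        by_contra hcon
        push Not at hcon
        have : E₀ = E₀ ⊔ U := Subgroup.eq_of_le_of_card_ge le_sup_left (hcon.trans hE₀card)
        apply hUE₀
        rw [this]
        exact le_sup_right
    | @head A B h' hcb ih =>
      obtain ⟨hAea, hAcard, hBea, hBcard, hAB⟩ := h'
      have hFea : IsElementaryAbelian p (A ⊔ B) := isElementaryAbelian_sup hAea hBea hAB
      have hle : A ⊔ B ≤ Subgroup.centralizer (A : Set P) := by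
        apply sup_le
        · intro x hx
          rw [Subgroup.mem_centralizer_iff]
          intro h hh
          exact IsElementaryAbelian_comm hAea hh hx
        · intro x hx
          rw [Subgroup.mem_centralizer_iff]
          intro h hh
          exact hAB h hh x hx
      by_cases hbig : p ^ 2 < Nat.card (A ⊔ B : Subgroup P)
      · exact ⟨A ⊔ B, hle, hFea, hbig⟩
      · push Not at hbig
        have h1 : A = A ⊔ B := Subgroup.eq_of_le_of_card_ge le_sup_left (hbig.trans hAcard)
        have h2 : B = A ⊔ B := Subgroup.eq_of_le_of_card_ge le_sup_right (hbig.trans hBcard)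
        have : A = B := h1.trans h2.symm
        rw [this]
        exact ih hBea hBcard
  · -- rank at least three in the centralizer gives a chain
    rintro ⟨F, hFX, hFea, hFcard⟩
    set F₀ := F ⊓ Subgroup.centralizer (U : Set P) with hF₀
    have hF₀card : p ^ 2 ≤ Nat.card F₀ := sq_le_card_inf_of_index_le hP F _ hCU hFcard
    have hF₀ea : IsElementaryAbelian p F₀ := isElementaryAbelian_of_le hFea inf_le_left
    have hUc : p ^ 2 ≤ Nat.card U := hUcard.ge
    have s1 : (fun A B : Subgroup P => Cfsg.IsElementaryAbelian p A ∧ p ^ 2 ≤ Nat.card ↥A ∧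
        Cfsg.IsElementaryAbelian p B ∧ p ^ 2 ≤ Nat.card ↥B ∧ ∀ a ∈ A, ∀ b ∈ B, a * b = b * a) X F := by
      refine ⟨hXea, hXcard, hFea, hFcard.le, ?_⟩
      intro a ha b hb
      exact Subgroup.mem_centralizer_iff.mp (hFX hb) a ha
    have s2 : (fun A B : Subgroup P => Cfsg.IsElementaryAbelian p A ∧ p ^ 2 ≤ Nat.card ↥A ∧
        Cfsg.IsElementaryAbelian p B ∧ p ^ 2 ≤ Nat.card ↥B ∧ ∀ a ∈ A, ∀ b ∈ B, a * b = b * a) F F₀ := by
      refine ⟨hFea, hFcard.le, hF₀ea, hF₀card, ?_⟩
      intro a ha b hb
      exact IsElementaryAbelian_comm hFea ha hb.1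
    have s3 : (fun A B : Subgroup P => Cfsg.IsElementaryAbelian p A ∧ p ^ 2 ≤ Nat.card ↥A ∧
        Cfsg.IsElementaryAbelian p B ∧ p ^ 2 ≤ Nat.card ↥B ∧ ∀ a ∈ A, ∀ b ∈ B, a * b = b * a) F₀ U := by
      refine ⟨hF₀ea, hF₀card, hUea, hUc, ?_⟩
      intro a ha b hb
      exact (Subgroup.mem_centralizer_iff.mp ha.2 b hb).symm
    exact Relation.ReflTransGen.head s1 (Relation.ReflTransGen.head s2 (Relation.ReflTransGen.single s3))

end Cfsg.Agent.S1337
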