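import Cfsg.Statements.S1338
-- import your own Cfsg.Agent.* helpers here
import Cfsg.Agent.S1337
import Cfsg.Agent.Lib.Helper30.MaxE9Rank

set_option autoImplicit false
open Cfsg

namespace Cfsg.Agent.S1338

open Cfsg.Agent.Lib.Helper45 Cfsg.Agent.Lib.Helper30.MaxE9

theorem reflTransGen_symm_aux {α : Type*} {r : α → α → Prop} (hr : ∀ a b, r a b → r b a) {a b : α}
    (h : Relation.ReflTransGen r a b) : Relation.ReflTransGen r b a := by
  induction h with
  | refl => exact Relation.ReflTransGen.refl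
  | tail _ hbc ih => exact Relation.ReflTransGen.head (hr _ _ hbc) ih

/-- A finite 3-group of 3-rank at least 4 is 2-connected for the prime 3: its commuting graph on elementary abelian subgroups of order ≥ 9 is connected. -/
theorem result {P : Type*} [Group P] [Finite P] (hP : IsPGroup 3 P) (hrk : ¬ Cfsg.PRankLE 3 3 P) : Cfsg.IsKConnected 3 2 P := by
  have hp : Fact (Nat.Prime 3) := ⟨by norm_num⟩
  obtain ⟨A, hAea, hAcard⟩ := (not_pRankLE_iff 3).mp hrk
  have hAcard' : 27 < Nat.card ↥A := by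
    have : (3 : ℕ) ^ 3 = 27 := by norm_num
    omega
  have hrk2 : ¬ Cfsg.PRankLE 3 2 P :=
    (not_pRankLE_iff 2).mpr ⟨A, hAea, by
      have : (3 : ℕ) ^ 2 = 9 := by norm_num
      omega⟩
  obtain ⟨U, hUn, hUea, hUcard, hU⟩ := Cfsg.Agent.S1337.result 3 hP hrk2
  have key : ∀ X : Subgroup P, Cfsg.IsElementaryAbelian 3 X → 3 ^ 2 ≤ Nat.card ↥X →
      Relation.ReflTransGen (fun A B : Subgroup P => Cfsg.IsElementaryAbelian 3 A ∧
        3 ^ 2 ≤ Nat.card ↥A ∧ Cfsg.IsElementaryAbelian 3 B ∧ 3 ^ 2 ≤ Nat.card ↥B ∧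
        ∀ a ∈ A, ∀ b ∈ B, a * b = b * a) X U := by
    intro X hX hXcard
    rw [hU X hX hXcard, not_pRankLE_subgroup_iff 2]
    have hXab : ∀ a ∈ X, ∀ b ∈ X, a * b = b * a :=
      fun a ha b hb => IsElementaryAbelian_comm hX ha hb
    have hXle : X ≤ Subgroup.centralizer (X : Set P) := by
      intro a ha
      rw [Subgroup.mem_centralizer_iff]
      intro b hb
      exact hXab b hb a ha
    by_cases h9 : 3 ^ 2 < Nat.card ↥X
    · exact ⟨X, hXle, hX, h9⟩
    · have hXc : Nat.card ↥X = 9 := by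
        have : (3 : ℕ) ^ 2 = 9 := by norm_num
        omega
      by_contra hcon
      push Not at hcon
      apply MaxSetup.false (X := X) (A := A)
      refine ⟨hP, hXab, hX.2, hXc, ?_, fun a ha b hb => IsElementaryAbelian_comm hAea ha hb,
        hAea.2, hAcard'⟩
      intro t ht ht3
      by_contra htX
      obtain ⟨hab, hexp⟩ := sup_zpowers_elemAb X t hXab hX.2 ht ht3
      have hle : X ⊔ Subgroup.zpowers t ≤ Subgroup.centralizer (X : Set P) := by
        apply sup_le hXle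
        rw [Subgroup.zpowers_le, Subgroup.mem_centralizer_iff]
        intro a ha
        exact (ht a ha).symm
      have hea : Cfsg.IsElementaryAbelian 3 (X ⊔ Subgroup.zpowers t) :=
        ⟨⟨⟨fun a b => Subtype.ext (hab a a.2 b b.2)⟩⟩, hexp⟩
      have h1 := hcon (X ⊔ Subgroup.zpowers t) hle hea
      have hlt : X < X ⊔ Subgroup.zpowers t := by
        refine lt_of_le_of_ne le_sup_left ?_
        intro heq
        apply htX
        rw [heq]
        exact (le_sup_right : Subgroup.zpowers t ≤ _) (Subgroup.mem_zpowers t)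
      have h2 := card_lt_of_lt hlt
      have : (3 : ℕ) ^ 2 = 9 := by norm_num
      omega
  intro E E' hE hEc hE' hE'c
  have h1 := key E hE hEc
  have h2 := key E' hE' hE'c
  have hsymm : ∀ A B : Subgroup P, (Cfsg.IsElementaryAbelian 3 A ∧
      3 ^ 2 ≤ Nat.card ↥A ∧ Cfsg.IsElementaryAbelian 3 B ∧ 3 ^ 2 ≤ Nat.card ↥B ∧
      ∀ a ∈ A, ∀ b ∈ B, a * b = b * a) → (Cfsg.IsElementaryAbelian 3 B ∧
      3 ^ 2 ≤ Nat.card ↥B ∧ Cfsg.IsElementaryAbelian 3 A ∧ 3 ^ 2 ≤ Nat.card ↥A ∧
      ∀ b ∈ B, ∀ a ∈ A, b * a = a * b) := by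
    rintro A B ⟨hA, hAc, hB, hBc, hcomm⟩
    exact ⟨hB, hBc, hA, hAc, fun b hb a ha => (hcomm a ha b hb).symm⟩
  exact h1.trans (reflTransGen_symm_aux hsymm h2)

end Cfsg.Agent.S1338
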