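import Cfsg.Statements.S1339
import Cfsg.Agent.Lib.Helper31.CharPLocals

set_option autoImplicit false
open Cfsg

namespace Cfsg.Agent.S1339

open Matrix

variable {F : Type*} [Field F] {n : ℕ}

/-- `N` is supported on row `i`, off the diagonal. -/
def RS (i : Fin n) (N : Matrix (Fin n) (Fin n) F) : Prop :=
  (∀ k, k ≠ i → ∀ l, N k l = 0) ∧ N i i = 0

/-- Column `i` of `B` is supported at the diagonal entry. -/
def CI (i : Fin n) (B : Matrix (Fin n) (Fin n) F) : Prop :=
  ∀ k, k ≠ i → B k i = 0

theorem RS.zero (i : Fin n) : RS i (0 : Matrix (Fin n) (Fin n) F) :=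
  ⟨fun _ _ _ => rfl, rfl⟩

theorem RS.add {i : Fin n} {N M : Matrix (Fin n) (Fin n) F} (hN : RS i N) (hM : RS i M) :
    RS i (N + M) := by
  refine ⟨fun k hk l => ?_, ?_⟩
  · rw [Matrix.add_apply, hN.1 k hk l, hM.1 k hk l, add_zero]
  · rw [Matrix.add_apply, hN.2, hM.2, add_zero]

theorem RS.neg {i : Fin n} {N : Matrix (Fin n) (Fin n) F} (hN : RS i N) : RS i (-N) := by
  refine ⟨fun k hk l => ?_, ?_⟩
  · rw [Matrix.neg_apply, hN.1 k hk l, neg_zero]
  · rw [Matrix.neg_apply, hN.2, neg_zero]

theorem RS.col {i : Fin n} {N : Matrix (Fin n) (Fin n) F} (hN : RS i N) (k : Fin n) : N k i = 0 := by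
  by_cases hk : k = i
  · rw [hk]; exact hN.2
  · exact hN.1 k hk i

theorem RS.mul_right {i : Fin n} {N B : Matrix (Fin n) (Fin n) F} (hN : RS i N) (hB : CI i B) :
    RS i (N * B) := by
  refine ⟨fun k hk l => ?_, ?_⟩
  · rw [Matrix.mul_apply]
    apply Finset.sum_eq_zero
    intro m _
    rw [hN.1 k hk m, zero_mul]
  · rw [Matrix.mul_apply]
    apply Finset.sum_eq_zero
    intro m _
    by_cases hm : m = i
    · rw [hm, hN.2, zero_mul]
    · rw [hB m hm, mul_zero]

theorem RS.mul_left {i : Fin n} {A M : Matrix (Fin n) (Fin n) F} (hA : CI i A) (hM : RS i M) :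
    RS i (A * M) := by
  refine ⟨fun k hk l => ?_, ?_⟩
  · rw [Matrix.mul_apply]
    apply Finset.sum_eq_zero
    intro m _
    by_cases hm : m = i
    · rw [hm, hA k hk, zero_mul]
    · rw [hM.1 m hm l, mul_zero]
  · rw [Matrix.mul_apply]
    apply Finset.sum_eq_zero
    intro m _
    rw [hM.col m, mul_zero]

theorem RS.mul_self_eq_zero {i : Fin n} {N M : Matrix (Fin n) (Fin n) F} (hN : RS i N)
    (hM : RS i M) : N * M = 0 := by
  ext k l
  rw [Matrix.mul_apply, Matrix.zero_apply]
  apply Finset.sum_eq_zero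
  intro m _
  by_cases hm : m = i
  · rw [hm, hN.col k, zero_mul]
  · rw [hM.1 m hm l, mul_zero]

theorem CI.one (i : Fin n) : CI i (1 : Matrix (Fin n) (Fin n) F) :=
  fun k hk => Matrix.one_apply_ne hk

theorem CI.of_RS {i : Fin n} {c : Matrix (Fin n) (Fin n) F} (h : RS i (c - 1)) : CI i c := by
  intro k hk
  have := h.1 k hk i
  rw [Matrix.sub_apply, Matrix.one_apply_ne hk, sub_zero] at this
  exact this

/-! ### The field with two elements -/

theorem eq_one_of_ne_zero [Fintype F] (hF : Fintype.card F = 2) {x : F} (hx : x ≠ 0) : x = 1 := by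
  have := FiniteField.pow_card_sub_one_eq_one x hx
  rwa [hF, show 2 - 1 = 1 from rfl, pow_one] at this

theorem one_add_one_eq_zero [Fintype F] (hF : Fintype.card F = 2) : (1 : F) + 1 = 0 := by
  by_contra h
  have := eq_one_of_ne_zero hF h
  have h1 : (1 : F) = 0 := by
    have h2 : (1 : F) + 1 = 1 + 0 := by rw [this, add_zero]
    exact add_left_cancel h2
  exact one_ne_zero h1

/-! ### The special linear group -/

local notation "SLn" => Matrix.SpecialLinearGroup (Fin n) F

theorem val_mul_val_inv (c : SLn) : c.1 * (c⁻¹).1 = 1 := by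
  have := congrArg Subtype.val (mul_inv_cancel c)
  rwa [Matrix.SpecialLinearGroup.coe_mul, Matrix.SpecialLinearGroup.coe_one] at this

/-- For `c` with `RS i (c - 1)`, in characteristic `2`, `c * c = 1`. -/
theorem mul_self_of_RS [Fintype F] (hF : Fintype.card F = 2) {i : Fin n}
    {c : Matrix (Fin n) (Fin n) F} (h : RS i (c - 1)) : c * c = 1 := by
  have h0 := RS.mul_self_eq_zero h h
  have h2 : (c - 1) + (c - 1) = 0 := by
    ext k l
    rw [Matrix.add_apply, Matrix.zero_apply]
    have : (c - 1) k l + (c - 1) k l = (1 + 1) * (c - 1) k l := by ring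
    rw [this, one_add_one_eq_zero hF, zero_mul]
  have : c * c = (c - 1) * (c - 1) + ((c - 1) + (c - 1)) + 1 := by noncomm_ring
  rw [this, h0, h2, zero_add, zero_add]

/-- The subgroup of matrices differing from `1` on row `i` only. -/
def rowGroup [Fintype F] (hF : Fintype.card F = 2) (i : Fin n) : Subgroup SLn where
  carrier := {c | RS i (c.1 - 1)}
  one_mem' := by
    show RS i ((1 : SLn).1 - 1)
    rw [Matrix.SpecialLinearGroup.coe_one, sub_self]
    exact RS.zero i
  mul_mem' := by
    intro a b ha hb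
    show RS i ((a * b).1 - 1)
    rw [Matrix.SpecialLinearGroup.coe_mul]
    have : a.1 * b.1 - 1 = (a.1 - 1) + (b.1 - 1) + (a.1 - 1) * (b.1 - 1) := by noncomm_ring
    rw [this]
    exact (RS.add ha hb).add (RS.mul_right ha (fun k _ => RS.col hb k))
  inv_mem' := by
    intro a ha
    have h1 : a * a = 1 := by
      apply Subtype.ext
      rw [Matrix.SpecialLinearGroup.coe_mul, Matrix.SpecialLinearGroup.coe_one]
      exact mul_self_of_RS hF ha
    have h2 : a⁻¹ = a := inv_eq_of_mul_eq_one_left h1
    rw [h2]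
    exact ha

theorem mem_rowGroup [Fintype F] (hF : Fintype.card F = 2) (i : Fin n) (c : SLn) :
    c ∈ rowGroup hF i ↔ RS i (c.1 - 1) := Iff.rfl

/-- Elements of the row group have order dividing `2`. -/
theorem rowGroup_mul_self [Fintype F] (hF : Fintype.card F = 2) (i : Fin n) {c : SLn}
    (hc : c ∈ rowGroup hF i) : c * c = 1 := by
  apply Subtype.ext
  rw [Matrix.SpecialLinearGroup.coe_mul, Matrix.SpecialLinearGroup.coe_one]
  exact mul_self_of_RS hF hc

/-- Entry analysis of commuting with a transvection. -/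
theorem commute_transvection [Fintype F] {i l : Fin n}
    {x : Matrix (Fin n) (Fin n) F} (h : x * transvection i l 1 = transvection i l 1 * x) :
    (∀ b, b ≠ l → x l b = 0) ∧ (∀ a, a ≠ i → x a i = 0) ∧ x i i = x l l := by
  refine ⟨fun b hb => ?_, fun a ha => ?_, ?_⟩
  · have := congrFun (congrFun h i) b
    rw [mul_transvection_apply_of_ne i l i b hb, transvection_mul_apply_same, one_mul] at this
    exact (add_eq_left.1 this.symm)
  · have := congrFun (congrFun h a) l
    rw [mul_transvection_apply_same, transvection_mul_apply_of_ne i l a l ha, one_mul] at this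
    exact (add_eq_left.1 this)
  · have := congrFun (congrFun h i) l
    rw [mul_transvection_apply_same, transvection_mul_apply_same, one_mul, one_mul] at this
    exact add_left_cancel this


/-- The transvection `1 + E_{il}` as an element of the special linear group. -/
def tvec {i l : Fin n} (hil : i ≠ l) : Matrix.SpecialLinearGroup (Fin n) F :=
  ⟨transvection i l 1, det_transvection_of_ne i l hil 1⟩

theorem tvec_val {i l : Fin n} (hil : i ≠ l) :
    (tvec (F := F) hil).1 = transvection i l 1 := rfl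

/-- The transvections `1 + E_{il}` lie in the row group. -/
theorem transvection_mem_rowGroup [Fintype F] (hF : Fintype.card F = 2) {i l : Fin n}
    (hil : i ≠ l) : tvec (F := F) hil ∈ rowGroup hF i := by
  rw [mem_rowGroup, tvec_val]
  have : transvection i l (1 : F) - 1 = Matrix.single i l 1 := by
    unfold transvection; rw [add_sub_cancel_left]
  rw [this]
  refine ⟨fun k hk b => ?_, ?_⟩
  · exact Matrix.single_apply_of_ne _ _ _ _ _ (fun h => hk h.1.symm)
  · exact Matrix.single_apply_of_ne _ _ _ _ _ (fun h => hil h.2.symm)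

/-- Elements commuting with `t = 1 + E_{ij}` have column `i` supported on the diagonal, with
diagonal entry `1`. -/
theorem CI_of_commute [Fintype F] (hF : Fintype.card F = 2) {i j : Fin n}
    {x : SLn} (h : x.1 * transvection i j 1 = transvection i j 1 * x.1) :
    CI i x.1 ∧ x.1 i i = 1 := by
  obtain ⟨-, h2, -⟩ := commute_transvection h
  refine ⟨h2, ?_⟩
  apply eq_one_of_ne_zero hF
  intro h0
  have hdet : x.1.det = 0 := by
    apply Matrix.det_eq_zero_of_column_eq_zero i
    intro k
    by_cases hk : k = i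
    · rw [hk]; exact h0
    · exact h2 k hk
  rw [x.2] at hdet
  exact one_ne_zero hdet

/-- The centralizer of the row group (inside the centralizer of `t`) is the row group. -/
theorem mem_rowGroup_of_commute [Fintype F] (hF : Fintype.card F = 2) {i j : Fin n} (hij : i ≠ j)
    {x : SLn} (hx : ∀ c ∈ rowGroup hF i, c * x = x * c) : x ∈ rowGroup hF i := by
  have hcomm : ∀ l, i ≠ l → x.1 * transvection i l 1 = transvection i l 1 * x.1 := by
    intro l hil
    have := hx _ (transvection_mem_rowGroup hF hil)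
    have h2 := congrArg Subtype.val this
    rw [Matrix.SpecialLinearGroup.coe_mul, Matrix.SpecialLinearGroup.coe_mul, tvec_val] at h2
    exact h2.symm
  obtain ⟨hci, hii⟩ := CI_of_commute hF (hcomm j hij)
  rw [mem_rowGroup]
  refine ⟨fun k hk b => ?_, ?_⟩
  · obtain ⟨h1, -, h3⟩ := commute_transvection (hcomm k (Ne.symm hk))
    rw [Matrix.sub_apply]
    by_cases hb : b = k
    · rw [hb, Matrix.one_apply_eq, ← h3, hii, sub_self]
    · rw [h1 b hb, Matrix.one_apply_ne (Ne.symm hb), sub_zero]
  · rw [Matrix.sub_apply, hii, Matrix.one_apply_eq, sub_self]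

/-- The row group commutes with `t`, being abelian and containing it. -/
theorem rowGroup_commute [Fintype F] (hF : Fintype.card F = 2) (i : Fin n) {a b : SLn}
    (ha : a ∈ rowGroup hF i) (hb : b ∈ rowGroup hF i) : a * b = b * a := by
  apply Subtype.ext
  rw [Matrix.SpecialLinearGroup.coe_mul, Matrix.SpecialLinearGroup.coe_mul]
  have h1 := RS.mul_self_eq_zero ha hb
  have h2 := RS.mul_self_eq_zero hb ha
  have e1 : a.1 * b.1 = (a.1 - 1) * (b.1 - 1) + (a.1 - 1) + (b.1 - 1) + 1 := by noncomm_ring
  have e2 : b.1 * a.1 = (b.1 - 1) * (a.1 - 1) + (a.1 - 1) + (b.1 - 1) + 1 := by noncomm_ring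
  rw [e1, e2, h1, h2]

/-- The row group is normalized by everything commuting with `t`. -/
theorem conj_mem_rowGroup [Fintype F] (hF : Fintype.card F = 2) {i j : Fin n}
    {g c : SLn} (hg : g.1 * transvection i j 1 = transvection i j 1 * g.1)
    (hg' : (g⁻¹).1 * transvection i j 1 = transvection i j 1 * (g⁻¹).1)
    (hc : c ∈ rowGroup hF i) : g * c * g⁻¹ ∈ rowGroup hF i := by
  rw [mem_rowGroup, Matrix.SpecialLinearGroup.coe_mul, Matrix.SpecialLinearGroup.coe_mul]
  have h1 : g.1 * c.1 * (g⁻¹).1 - 1 = g.1 * ((c.1 - 1) * (g⁻¹).1) := by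
    have := val_mul_val_inv g
    calc g.1 * c.1 * (g⁻¹).1 - 1 = g.1 * c.1 * (g⁻¹).1 - g.1 * (g⁻¹).1 := by rw [this]
      _ = g.1 * ((c.1 - 1) * (g⁻¹).1) := by noncomm_ring
  rw [h1]
  exact RS.mul_left (CI_of_commute hF hg).1 (RS.mul_right hc (CI_of_commute hF hg').1)


/-- Let F be a field with 2 elements, n ≥ 3, and t ∈ SL(n, F) a transvection (t = 1 + E_{ij}, i ≠ j). Then the generalized Fitting subgroup of C(t) is O_2(C(t)). -/
theorem result {F : Type*} [Field F] [Fintype F] [DecidableEq F] (hF : Fintype.card F = 2) (n : ℕ) (hn : 3 ≤ n) (i j : Fin n) (hij : i ≠ j) (t : Matrix.SpecialLinearGroup (Fin n) F) (ht : (t : Matrix (Fin n) (Fin n) F) = Matrix.transvection i j 1) : Cfsg.generalizedFittingSubgroup ↥(Subgroup.centralizer ({t} : Set (Matrix.SpecialLinearGroup (Fin n) F))) = Cfsg.pCore 2 ↥(Subgroup.centralizer ({t} : Set (Matrix.SpecialLinearGroup (Fin n) F))) := by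
  have hCmem : ∀ g : Matrix.SpecialLinearGroup (Fin n) F,
      g ∈ Subgroup.centralizer ({t} : Set (Matrix.SpecialLinearGroup (Fin n) F)) →
      g.1 * transvection i j 1 = transvection i j 1 * g.1 := by
    intro g hg
    rw [Subgroup.mem_centralizer_singleton_iff] at hg
    have := congrArg Subtype.val hg
    rw [Matrix.SpecialLinearGroup.coe_mul, Matrix.SpecialLinearGroup.coe_mul, ht] at this
    exact this
  have htQ : t ∈ rowGroup hF i := by
    have : t = tvec hij := Subtype.ext ht
    rw [this]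
    exact transvection_mem_rowGroup hF hij
  have hQC : rowGroup hF i ≤
      Subgroup.centralizer ({t} : Set (Matrix.SpecialLinearGroup (Fin n) F)) := by
    intro c hc
    rw [Subgroup.mem_centralizer_singleton_iff]
    exact rowGroup_commute hF i hc htQ
  have hQn : ((rowGroup hF i).subgroupOf
      (Subgroup.centralizer ({t} : Set (Matrix.SpecialLinearGroup (Fin n) F)))).Normal := by
    refine ⟨fun c hc g => ?_⟩
    rw [Subgroup.mem_subgroupOf] at hc ⊢
    exact conj_mem_rowGroup hF (hCmem g.1 g.2) (hCmem (g.1)⁻¹ (inv_mem g.2)) hc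
  have hQp : IsPGroup 2 ↥((rowGroup hF i).subgroupOf
      (Subgroup.centralizer ({t} : Set (Matrix.SpecialLinearGroup (Fin n) F)))) := by
    intro c
    refine ⟨1, ?_⟩
    rw [pow_one, pow_two]
    apply Subtype.ext
    apply Subtype.ext
    exact rowGroup_mul_self hF i (Subgroup.mem_subgroupOf.1 c.2)
  have hQle : (rowGroup hF i).subgroupOf
      (Subgroup.centralizer ({t} : Set (Matrix.SpecialLinearGroup (Fin n) F))) ≤
      Cfsg.pCore 2 ↥(Subgroup.centralizer ({t} : Set (Matrix.SpecialLinearGroup (Fin n) F))) :=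
    le_sSup ⟨hQn, hQp⟩
  apply Cfsg.Agent.Lib.Helper31.generalizedFittingSubgroup_eq_pCore_of_centralizer_le
  intro x hx
  apply hQle
  rw [Subgroup.mem_subgroupOf]
  apply mem_rowGroup_of_commute hF hij
  intro c hc
  have hcQ : (⟨c, hQC hc⟩ : ↥(Subgroup.centralizer
      ({t} : Set (Matrix.SpecialLinearGroup (Fin n) F)))) ∈
      Cfsg.pCore 2 ↥(Subgroup.centralizer ({t} : Set (Matrix.SpecialLinearGroup (Fin n) F))) :=
    hQle (Subgroup.mem_subgroupOf.2 hc)
  have := (Subgroup.mem_centralizer_iff.1 hx) _ hcQ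
  exact congrArg Subtype.val this

end Cfsg.Agent.S1339
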