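import Cfsg.Statements.S1340
import Cfsg.Agent.S0248
import Cfsg.Agent.S0249
import Cfsg.Agent.Lib.Helper19.GLBlock
import Cfsg.Agent.Lib.Helper19.ComponentQuot

set_option autoImplicit false
open Cfsg

namespace Cfsg.Agent.S1340

open Matrix Cfsg.Agent.Lib.Helper19

/-- `SL_k(F)` is quasisimple for `k ≥ 2` except `SL_2(2)`, `SL_2(3)`. -/
theorem isQuasisimple_SL {F : Type*} [Field F] [Fintype F] (k : ℕ) (hk : 2 ≤ k)
    (hex : ¬ (k = 2 ∧ Fintype.card F ≤ 3)) :
    IsQuasisimple (SpecialLinearGroup (Fin k) F) := by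
  classical
  rcases Nat.lt_or_ge k 3 with h3 | h3
  · have : k = 2 := by omega
    subst this
    have hcard : 4 ≤ Fintype.card F := by
      by_contra hc
      exact hex ⟨rfl, by omega⟩
    obtain ⟨a, ha⟩ : ∃ a : F, a ∉ ({0, 1, -1} : Finset F) := by
      by_contra hcon
      push Not at hcon
      have hsub : (Finset.univ : Finset F) ⊆ {0, 1, -1} := fun a _ => hcon a
      have := Finset.card_le_card hsub
      have h3 : ({0, 1, -1} : Finset F).card ≤ 3 := Finset.card_le_three
      rw [Finset.card_univ] at this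
      omega
    simp only [Finset.mem_insert, Finset.mem_singleton, not_or] at ha
    refine ⟨⟨Matrix.SL2.commutator_eq_top ha.1 ?_⟩, ?_⟩
    · intro hsq
      rcases sq_eq_one_iff.mp hsq with h | h
      · exact ha.2.1 h
      · exact ha.2.2 h
    · exact Matrix.ProjectiveSpecialLinearGroup.rank_two_simple
        (by rw [Nat.card_eq_fintype_card]; exact hcard)
  · exact ⟨⟨Cfsg.Agent.S0248.result k h3⟩, Cfsg.Agent.S0249.result k h3⟩

/-- An involution in `SL_k(F)`, `k ≥ 2`, odd characteristic. -/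
theorem exists_involution_SL {F : Type*} [Field F] (h2 : (2 : F) ≠ 0) (k : ℕ) (hk : 2 ≤ k) :
    ∃ s : SpecialLinearGroup (Fin k) F, orderOf s = 2 := by
  classical
  set i₀ : Fin k := ⟨0, by omega⟩ with hi₀
  set i₁ : Fin k := ⟨1, by omega⟩ with hi₁
  have hne : i₀ ≠ i₁ := by
    intro h
    have := congrArg Fin.val h
    simp [hi₀, hi₁] at this
  set d : Fin k → F := fun i => if i = i₀ ∨ i = i₁ then -1 else 1 with hd
  have hdet : (Matrix.diagonal d).det = 1 := by
    rw [Matrix.det_diagonal, hd, Finset.prod_ite]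
    simp only [Finset.prod_const_one, mul_one, Finset.prod_const]
    have hc : (Finset.univ.filter fun i : Fin k => i = i₀ ∨ i = i₁).card = 2 := by
      have : (Finset.univ.filter fun i : Fin k => i = i₀ ∨ i = i₁) = {i₀, i₁} := by
        ext i
        simp
      rw [this, Finset.card_pair hne]
    rw [hc]
    norm_num
  have hm1 : (-1 : F) ≠ 1 := by
    intro h
    apply h2
    have : (1 : F) + 1 = 0 := by
      nth_rewrite 1 [← h]
      exact neg_add_cancel _
    rw [← one_add_one_eq_two]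
    exact this
  refine ⟨⟨Matrix.diagonal d, hdet⟩, orderOf_eq_prime ?_ ?_⟩
  · apply Subtype.ext
    show (Matrix.diagonal d) ^ 2 = 1
    rw [Matrix.diagonal_pow]
    rw [← Matrix.diagonal_one]
    congr 1
    ext i
    simp only [Pi.pow_apply, hd]
    split_ifs <;> simp
  · intro h
    have h1 := congrArg (fun s : SpecialLinearGroup (Fin k) F => (s : Matrix (Fin k) (Fin k) F) i₀ i₀) h
    simp [hd] at h1
    exact hm1 h1

/-- Let F be a finite field of odd order and n ≥ 3 with (n, |F|) ≠ (3, 3). Then GL(n, F) has a non-central involution t such that C(t) / O(C(t)) has a component. -/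
theorem result {F : Type*} [Field F] [Fintype F] [DecidableEq F] (hF : Odd (Fintype.card F)) (n : ℕ) (hn : 3 ≤ n) (h33 : ¬ (n = 3 ∧ Fintype.card F = 3)) : ∃ t : Matrix.GeneralLinearGroup (Fin n) F, orderOf t = 2 ∧ t ∉ Subgroup.center (Matrix.GeneralLinearGroup (Fin n) F) ∧ Cfsg.HasComponent (↥(Subgroup.centralizer ({t} : Set (Matrix.GeneralLinearGroup (Fin n) F))) ⧸ Cfsg.oddCore ↥(Subgroup.centralizer ({t} : Set (Matrix.GeneralLinearGroup (Fin n) F)))) := by
  classical
  obtain ⟨k, rfl⟩ : ∃ k, n = 1 + k := ⟨n - 1, by omega⟩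
  have hk : 2 ≤ k := by omega
  have h2 : (2 : F) ≠ 0 := by
    intro h
    obtain ⟨m, hm⟩ := hF
    have h0 : ((Fintype.card F : ℕ) : F) = 0 := Nat.cast_card_eq_zero F
    rw [hm] at h0
    push_cast at h0
    rw [h, zero_mul, zero_add] at h0
    exact one_ne_zero h0
  set e : Fin 1 ⊕ Fin k ≃ Fin (1 + k) := finSumFinEquiv with he
  set t : GL (Fin (1 + k)) F := tGL (F := F) e with ht
  have hex : ¬ (k = 2 ∧ Fintype.card F ≤ 3) := by
    rintro ⟨rfl, hle⟩
    apply h33
    refine ⟨rfl, ?_⟩
    have h1 : 1 < Fintype.card F := Fintype.one_lt_card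
    obtain ⟨m, hm⟩ := hF
    omega
  have hS := isQuasisimple_SL (F := F) k hk hex
  obtain ⟨s, hs⟩ := exists_involution_SL h2 k hk
  have hsq : t ^ 2 = 1 := tGL_sq e
  have hm1 : (-1 : F) ≠ 1 := by
    intro h
    apply h2
    have : (1 : F) + 1 = 0 := by
      nth_rewrite 1 [← h]
      exact neg_add_cancel _
    rw [← one_add_one_eq_two]
    exact this
  have hnc : t ∉ Subgroup.center (GL (Fin (1 + k)) F) := by
    rw [Matrix.GeneralLinearGroup.mem_center_iff_val_mem_range_scalar]
    rintro ⟨a, ha⟩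
    have h1 := congrFun (congrFun ha (e (Sum.inl 0))) (e (Sum.inl 0))
    have h3 := congrFun (congrFun ha (e (Sum.inr ⟨0, by omega⟩))) (e (Sum.inr ⟨0, by omega⟩))
    rw [ht, tGL_val] at h1 h3
    simp [Matrix.coe_reindexAlgEquiv, Matrix.reindex_apply, Matrix.submatrix_apply] at h1 h3
    rw [h1] at h3
    exact hm1 h3
  have ht1 : t ≠ 1 := fun h => hnc (h ▸ Subgroup.one_mem _)
  have hord : orderOf t = 2 := orderOf_eq_prime hsq ht1
  refine ⟨t, hord, hnc, ?_⟩
  set Cn := Subgroup.centralizer ({t} : Set (GL (Fin (1 + k)) F)) with hCn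
  have hmem : ∀ A, psi1 (F := F) (α := Fin 1) e A ∈ Cn := by
    intro A
    rw [hCn, Subgroup.mem_centralizer_iff]
    intro y hy
    rw [Set.mem_singleton_iff] at hy
    subst hy
    exact (psi1_commute e A).symm
  set ψ : SpecialLinearGroup (Fin k) F →* Cn :=
    (psi1 (F := F) (α := Fin 1) e).codRestrict Cn hmem with hψ
  have hinj : Function.Injective ψ := by
    intro A B h
    apply psi1_injective (F := F) (α := Fin 1) e
    exact congrArg Subtype.val h
  have hnormal : ψ.range.Normal := by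
    constructor
    intro x hx g
    obtain ⟨A, rfl⟩ := hx
    have hg : (g : GL (Fin (1 + k)) F) * t = t * g := by
      have hg2 : (g : GL (Fin (1 + k)) F) ∈ Subgroup.centralizer ({t} : Set (GL (Fin (1 + k)) F)) :=
        g.2
      exact ((Subgroup.mem_centralizer_iff.1 hg2) t (Set.mem_singleton t)).symm
    obtain ⟨u, hu⟩ := exists_unit_of_commute e h2 (g : GL (Fin (1 + k)) F) hg
    obtain ⟨A', hA'⟩ := exists_psi0_conj (α := Fin 1) u A
    refine ⟨A', ?_⟩
    apply Subtype.ext
    show psi1 (F := F) (α := Fin 1) e A' =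
      (g : GL (Fin (1 + k)) F) * psi1 (F := F) (α := Fin 1) e A * (g : GL (Fin (1 + k)) F)⁻¹
    rw [← hu, psi1, MonoidHom.comp_apply, MonoidHom.comp_apply, hA', map_mul, map_mul, map_inv]
  exact hasComponent_quotient_oddCore hS s hs ψ hinj hnormal

end Cfsg.Agent.S1340
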