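import Cfsg.Statements.S1344
import Cfsg.Agent.S1274
import Cfsg.Agent.Lib.Helper23.ExtLayer
import Cfsg.Agent.Lib.Helper22.PComponents2
import Cfsg.Agent.Lib.Helper21.Components
import Cfsg.Agent.Lib.Helper49.SubnormalSylow

set_option autoImplicit false
open Cfsg

namespace Cfsg.Agent.S1344

open Cfsg.Agent.Lib.Helper23 Cfsg.Agent.Lib.Helper22

/-- An element centralizing a Sylow `p`-subgroup of a subgroup `N` containing the component `K`
(of order divisible by `p`) normalizes `K`. -/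
theorem mem_normalizer_component_of_centralizes_sylow {Y : Type*} [Group Y] [Finite Y] (p : ℕ)
    [hp : Fact p.Prime] {K N : Subgroup Y} (hK : IsComponent K) (hpK : p ∣ Nat.card ↥K)
    (hKN : K ≤ N) (T : Sylow p ↥N) {d : Y}
    (hd : ∀ t ∈ (T : Subgroup ↥N).map N.subtype, d * t = t * d) :
    d ∈ Subgroup.normalizer (K : Set Y) := by
  by_cases hne : K.map (MulAut.conj d).toMonoidHom = K
  · exact mem_normalizer_of_map_conj_le hne.le
  exfalso
  have hK₁ : IsComponent (K.map (MulAut.conj d).toMonoidHom) := component_conj hK d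
  have hcomm : ⁅K, K.map (MulAut.conj d).toMonoidHom⁆ = ⊥ :=
    component_commutator_eq_bot_of_ne hK hK₁ (fun h => hne h.symm)
  rw [Cfsg.Agent.Lib.Helper21.commutator_eq_bot_iff_commute] at hcomm
  -- the Sylow subgroup of `K` inside `N`
  have hsub : (K.subgroupOf N).IsSubnormal := hK.1.subgroupOf
  obtain ⟨P, hP⟩ := Cfsg.Agent.Lib.Helper49.exists_sylow_eq_subgroupOf_of_isSubnormal T hsub
  -- `Q = K` viewed inside `N` is quasisimple
  have e : ↥(K.subgroupOf N) ≃* ↥K := Subgroup.subgroupOfEquivOfLe hKN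
  have hQ : IsQuasisimple ↥(K.subgroupOf N) :=
    Cfsg.Agent.Lib.Helper29.isQuasisimple_of_mulEquiv e.symm hK.2
  have hpQ : p ∣ Nat.card ↥(K.subgroupOf N) := by
    rw [Nat.card_congr e.toEquiv]; exact hpK
  -- `P` is central
  have hPZ : (P : Subgroup ↥(K.subgroupOf N)) ≤ Subgroup.center ↥(K.subgroupOf N) := by
    intro y hy
    rw [hP, Subgroup.mem_subgroupOf] at hy
    have hyK : ((y : ↥N) : Y) ∈ K := y.2
    have hyT : ((y : ↥N) : Y) ∈ (T : Subgroup ↥N).map N.subtype := ⟨(y : ↥N), hy, rfl⟩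
    have hy₁ : ((y : ↥N) : Y) ∈ K.map (MulAut.conj d).toMonoidHom := by
      rw [mem_map_conj]
      have h1 := hd _ hyT
      have : d⁻¹ * ((y : ↥N) : Y) * d = ((y : ↥N) : Y) := by
        rw [mul_assoc, ← h1, ← mul_assoc, inv_mul_cancel, one_mul]
      rw [this]
      exact hyK
    rw [Subgroup.mem_center_iff]
    intro z
    apply Subtype.ext
    apply Subtype.ext
    exact hcomm _ z.2 _ hy₁
  have hidx : ((Subgroup.center ↥(K.subgroupOf N)).index).Coprime p := by
    have h1 : (Subgroup.center ↥(K.subgroupOf N)).index ∣ (P : Subgroup ↥(K.subgroupOf N)).index :=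
      Subgroup.index_dvd_of_le hPZ
    have h2 : ¬ p ∣ (P : Subgroup ↥(K.subgroupOf N)).index := P.not_dvd_index
    rw [Nat.coprime_comm, Nat.Prime.coprime_iff_not_dvd hp.out]
    exact fun h => h2 (h.trans h1)
  have htop := quasisimple_normal_eq_top_of_index_coprime hQ hpQ _ hidx
  apply Cfsg.Agent.Lib.Helper21.qs_not_isMulCommutative hQ
  refine ⟨⟨fun a b => ?_⟩⟩
  have hb : b ∈ Subgroup.center ↥(K.subgroupOf N) := by rw [htop]; trivial
  exact (Subgroup.mem_center_iff.1 hb a)

/-- Let K be a 2-component of the finite group X. Then K ≤ L*_{2'}(X) and K is normal in L*_{2'}(X). -/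
theorem result {X : Type*} [Group X] [Finite X] (K : Subgroup X) (hK : Cfsg.IsPComponent 2 K) : K ≤ Cfsg.extendedTwoLayer X ∧ (K.subgroupOf (Cfsg.extendedTwoLayer X)).Normal := by
  obtain ⟨T⟩ : Nonempty (Sylow 2 ↥(layerN X)) := inferInstance
  have hKL : K ≤ Cfsg.pLayer 2 X := le_sSup hK
  rw [extendedTwoLayer_eq T]
  refine ⟨hKL.trans (le_sup_left.trans le_sup_left), ?_⟩
  apply Subgroup.normal_subgroupOf_of_le_normalizer
  refine sup_le (sup_le ?_ ?_) ?_
  · exact Cfsg.Agent.S1274.pLayer_le_normalizer_pComponent 2 K hK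
  · exact pPrimeCore_le_normalizer_pComponent 2 hK
  · -- the core of the centralizer of `T`
    apply le_normalizer_pComponent_of_map_le 2 hK
    rintro _ ⟨d₀, hd₀, rfl⟩
    set π := QuotientGroup.mk' (Cfsg.pPrimeCore 2 X) with hπ
    have hKbar : IsComponent (K.map π) := hK.2.1
    have h2K : 2 ∣ Nat.card ↥(K.map π) := dvd_card_of_isComponent_quotient 2 hKbar
    have hKN : K.map π ≤ (layerN X).map π := Subgroup.map_mono (hKL.trans le_sup_left)
    have hf : Function.Surjective (π.subgroupMap (layerN X)) :=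
      MonoidHom.subgroupMap_surjective _ _
    refine mem_normalizer_component_of_centralizes_sylow 2 hKbar h2K hKN
      (T.mapSurjective hf) ?_
    rintro _ ⟨y, hy, rfl⟩
    rw [Sylow.coe_mapSurjective] at hy
    obtain ⟨t, ht, rfl⟩ := hy
    have hd₀c : d₀ ∈ Subgroup.centralizer ((sylX T : Subgroup X) : Set X) :=
      relPPrimeCore_le 2 _ hd₀
    have htT : ((t : ↥(layerN X)) : X) ∈ sylX T := ⟨t, ht, rfl⟩
    have h1 := (Subgroup.mem_centralizer_iff.1 hd₀c) _ htT
    show π d₀ * π ((t : ↥(layerN X)) : X) = π ((t : ↥(layerN X)) : X) * π d₀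
    rw [← map_mul, ← map_mul, h1]

end Cfsg.Agent.S1344
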