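import Cfsg.Statements.S1348
import Cfsg.Agent.S0248
import Cfsg.Agent.S0249
import Cfsg.Agent.Lib.Helper23.SLStandard
-- import your own Cfsg.Agent.* helpers here

set_option autoImplicit false
open Cfsg

namespace Cfsg.Agent.S1348

open Matrix Cfsg.Agent.Lib.Helper19 Cfsg.Agent.Lib.Helper23

/-- Let F be a finite field of odd order, n ≥ 7 odd, and t ∈ SL(n, F) the diagonal matrix with entries −1, …, −1, 1. Then E(C(t)) is a standard subgroup of SL(n, F). -/
theorem result {F : Type*} [Field F] [Fintype F] [DecidableEq F] (hF : Odd (Fintype.card F)) (n : ℕ) (hn : 7 ≤ n) (hodd : Odd n) (t : Matrix.SpecialLinearGroup (Fin n) F) (ht : (t : Matrix (Fin n) (Fin n) F) = Matrix.diagonal (fun i : Fin n => if (i : ℕ) + 1 = n then (1 : F) else -1)) : Cfsg.IsStandardSubgroup ((Cfsg.layer ↥(Subgroup.centralizer ({t} : Set (Matrix.SpecialLinearGroup (Fin n) F)))).map (Subgroup.centralizer ({t} : Set (Matrix.SpecialLinearGroup (Fin n) F))).subtype) := by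
  obtain ⟨k, rfl⟩ : ∃ k, n = k + 1 := ⟨n - 1, by omega⟩
  have hk : 6 ≤ k := by omega
  have hkeven : Even k := by
    rcases Nat.even_or_odd k with h | h
    · exact h
    · exfalso
      have := h.add_odd odd_one
      rw [← Nat.not_odd_iff_even] at this
      exact this hodd
  have h2 : (2 : F) ≠ 0 := by
    intro h
    obtain ⟨m, hm⟩ := hF
    have h0 : ((Fintype.card F : ℕ) : F) = 0 := Nat.cast_card_eq_zero F
    rw [hm] at h0
    push_cast at h0
    rw [h, zero_mul, zero_add] at h0
    exact one_ne_zero h0
  have hq : IsQuasisimple (SpecialLinearGroup (Fin k) F) :=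
    ⟨⟨Cfsg.Agent.S0248.result k (by omega)⟩, Cfsg.Agent.S0249.result k (by omega)⟩
  have ht' : (t : Matrix (Fin (k + 1)) (Fin (k + 1)) F) =
      tMat (F := F) (α := Fin k) (β := Fin 1) finSumFinEquiv := by
    rw [ht]
    ext i j
    obtain ⟨i', rfl⟩ := (finSumFinEquiv (m := k) (n := 1)).surjective i
    obtain ⟨j', rfl⟩ := (finSumFinEquiv (m := k) (n := 1)).surjective j
    rw [tMat, blk_apply_apply]
    rcases i' with i' | i' <;> rcases j' with j' | j'
    · simp only [finSumFinEquiv_apply_left, fromBlocks_apply₁₁]
      rw [Matrix.diagonal_apply, Matrix.neg_apply, Matrix.one_apply]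
      have h1 : ¬ ((Fin.castAdd 1 i' : Fin (k + 1)) : ℕ) + 1 = k + 1 := by
        have := i'.2
        simp only [Fin.val_castAdd]
        omega
      by_cases hij : i' = j'
      · subst hij
        simp only [if_true]
        rw [if_neg h1]
      · have : Fin.castAdd 1 i' ≠ Fin.castAdd 1 j' := by
          intro h
          exact hij (Fin.castAdd_injective _ _ h)
        simp [hij, this]
    · simp only [finSumFinEquiv_apply_left, finSumFinEquiv_apply_right, fromBlocks_apply₁₂]
      rw [Matrix.diagonal_apply_ne, Matrix.zero_apply]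
      intro h
      have := congrArg Fin.val h
      simp only [Fin.val_castAdd, Fin.val_natAdd] at this
      have := i'.2
      omega
    · simp only [finSumFinEquiv_apply_left, finSumFinEquiv_apply_right, fromBlocks_apply₂₁]
      rw [Matrix.diagonal_apply_ne, Matrix.zero_apply]
      intro h
      have := congrArg Fin.val h
      simp only [Fin.val_castAdd, Fin.val_natAdd] at this
      have := j'.2
      omega
    · simp only [finSumFinEquiv_apply_right, fromBlocks_apply₂₂]
      have hi : i' = 0 := Subsingleton.elim _ _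
      have hj : j' = 0 := Subsingleton.elim _ _
      subst hi hj
      rw [Matrix.diagonal_apply_eq, Matrix.one_apply_eq]
      simp
  exact isStandardSubgroup_layer_centralizer (F := F) (α := Fin k) (β := Fin 1) finSumFinEquiv t ht' h2
    (by rw [Fintype.card_fin]; exact hkeven) (by rw [Fintype.card_fin]; omega) hq

end Cfsg.Agent.S1348
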