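import Cfsg.Statements.S1349
import Cfsg.Agent.Lib.Helper20.DihQuatLift
import Cfsg.Agent.Lib.Helper23.TypeP
import Cfsg.Agent.Lib.Helper23.FaithfulAbelian2
-- import your own Cfsg.Agent.* helpers here

set_option autoImplicit false
open Cfsg

namespace Cfsg.Agent.S1349

open Cfsg.Agent.Lib.Helper23

section Aux

variable {G : Type*} [Group G]

theorem mem_centralizer_singleton_conj {x c : G} :
    c ∈ Subgroup.centralizer ({x} : Set G) ↔ c * x * c⁻¹ = x := by
  rw [Subgroup.mem_centralizer_iff]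
  simp only [Set.mem_singleton_iff, forall_eq]
  constructor
  · intro h
    rw [← h]; group
  · intro h
    calc x * c = (c * x * c⁻¹) * c := by rw [h]
      _ = c * x := by group

/-- If `c` inverts `x` and `b` centralizes or inverts `x`, then `b * c` or `b` centralizes `x`. -/
theorem mul_mem_or_mem_centralizer {x b c : G} (hcx : c * x * c⁻¹ = x⁻¹)
    (hb : b * x * b⁻¹ = x ∨ b * x * b⁻¹ = x⁻¹) :
    b * c ∈ Subgroup.centralizer ({x} : Set G) ∨ b ∈ Subgroup.centralizer ({x} : Set G) := by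
  rcases hb with h | h
  · right; exact mem_centralizer_singleton_conj.mpr h
  · left
    rw [mem_centralizer_singleton_conj]
    calc b * c * x * (b * c)⁻¹ = b * (c * x * c⁻¹) * b⁻¹ := by group
      _ = (b * x * b⁻¹)⁻¹ := by rw [hcx]; group
      _ = x := by rw [h, inv_inv]

/-- The centralizer of an eigenvector has relative index at most two. -/
theorem relIndex_centralizer_le_two {A A' : Subgroup G} (hA'A : A' ≤ A) {x : G}
    (hxA : ∀ b ∈ A, b * x * b⁻¹ = x ∨ b * x * b⁻¹ = x⁻¹) :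
    (Subgroup.centralizer ({x} : Set G)).relIndex A' ≤ 2 := by
  by_cases hall : A' ≤ Subgroup.centralizer ({x} : Set G)
  · rw [Subgroup.relIndex_eq_one.mpr hall]; norm_num
  · obtain ⟨c, hc, hcn⟩ := SetLike.not_le_iff_exists.mp hall
    have hcx : c * x * c⁻¹ = x⁻¹ := by
      rcases hxA c (hA'A hc) with h | h
      · exact absurd (mem_centralizer_singleton_conj.mpr h) hcn
      · exact h
    apply le_of_eq
    rw [Subgroup.relIndex_eq_two_iff_exists_notMem_and]
    exact ⟨c, hc, hcn, fun b hb => mul_mem_or_mem_centralizer hcx (hxA b (hA'A hb))⟩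

/-- The eigenvector lemma: an element of `A` acting nontrivially on the abelian group `M`
inverts some nontrivial `A`-eigenvector. -/
theorem exists_eigenvector [Finite G] {A M : Subgroup G}
    (hAc : ∀ a ∈ A, ∀ b ∈ A, a * b = b * a) (hA2 : ∀ a ∈ A, a * a = 1)
    (hMab : ∀ x ∈ M, ∀ y ∈ M, x * y = y * x)
    (hAM : ∀ b ∈ A, ∀ y ∈ M, b * y * b⁻¹ ∈ M)
    {b₀ : G} (hb₀ : b₀ ∈ A) {m : G} (hm : m ∈ M) (hbm : b₀ * m * b₀⁻¹ ≠ m) :
    ∃ x ∈ M, x ≠ 1 ∧ b₀ * x * b₀⁻¹ = x⁻¹ ∧
      ∀ b ∈ A, b * x * b⁻¹ = x ∨ b * x * b⁻¹ = x⁻¹ := by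
  classical
  let N₀ : Subgroup G :=
    { carrier := {y | y ∈ M ∧ b₀ * y * b₀⁻¹ = y⁻¹}
      one_mem' := ⟨M.one_mem, by simp⟩
      mul_mem' := by
        rintro y z ⟨hy, hy'⟩ ⟨hz, hz'⟩
        refine ⟨M.mul_mem hy hz, ?_⟩
        have h1 : b₀ * (y * z) * b₀⁻¹ = (b₀ * y * b₀⁻¹) * (b₀ * z * b₀⁻¹) := by group
        rw [h1, hy', hz', mul_inv_rev]
        exact hMab _ (M.inv_mem hy) _ (M.inv_mem hz)
      inv_mem' := by
        rintro y ⟨hy, hy'⟩
        refine ⟨M.inv_mem hy, ?_⟩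
        have h1 : b₀ * y⁻¹ * b₀⁻¹ = (b₀ * y * b₀⁻¹)⁻¹ := by group
        rw [h1, hy'] }
  have hbot : ∀ b ∈ A, ∀ y ∈ (⊥ : Subgroup G), b * y * b⁻¹ ∈ (⊥ : Subgroup G) := by
    intro b _ y hy
    rw [Subgroup.mem_bot] at hy ⊢
    rw [hy]; group
  have hAN₀ : ∀ c ∈ A, ∀ y ∈ N₀, c * y * c⁻¹ ∈ N₀ := by
    rintro c hc y ⟨hy, hy'⟩
    refine ⟨hAM c hc y hy, ?_⟩
    have hbc : b₀ * c = c * b₀ := hAc b₀ hb₀ c hc
    have hbc' : c⁻¹ * b₀⁻¹ = b₀⁻¹ * c⁻¹ := by rw [← mul_inv_rev, ← mul_inv_rev, hbc]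
    calc b₀ * (c * y * c⁻¹) * b₀⁻¹ = (b₀ * c) * y * (c⁻¹ * b₀⁻¹) := by group
      _ = (c * b₀) * y * (b₀⁻¹ * c⁻¹) := by rw [hbc, hbc']
      _ = c * (b₀ * y * b₀⁻¹) * c⁻¹ := by group
      _ = (c * y * c⁻¹)⁻¹ := by rw [hy']; group
  have hne : ¬ N₀ ≤ ⊥ := by
    intro hle
    have hy : m⁻¹ * (b₀ * m * b₀⁻¹) ∈ N₀ := by
      refine ⟨M.mul_mem (M.inv_mem hm) (hAM b₀ hb₀ m hm), ?_⟩
      have h1 : b₀ * (m⁻¹ * (b₀ * m * b₀⁻¹)) * b₀⁻¹ =
          (b₀ * m * b₀⁻¹)⁻¹ * ((b₀ * b₀) * m * (b₀ * b₀)⁻¹) := by group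
      rw [h1, hA2 b₀ hb₀]; group
    have h2 := hle hy
    rw [Subgroup.mem_bot] at h2
    exact hbm (inv_mul_eq_one.mp h2).symm
  obtain ⟨x, hxN, hx1, hxA⟩ := exists_eigen_mod hAc hA2 (bot_le : (⊥ : Subgroup G) ≤ N₀) hne hbot
    hAN₀ (by
      intro u hu v hv
      rw [Subgroup.mem_bot]
      have h3 := hMab u hu.1 v hv.1
      rw [h3]; group)
  refine ⟨x, hxN.1, fun h => hx1 (by rw [h]; exact Subgroup.one_mem _), hxN.2, ?_⟩
  intro b hb
  rcases hxA b hb with h | h
  · left; rw [Subgroup.mem_bot] at h; exact mul_inv_eq_one.mp h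
  · right; rw [Subgroup.mem_bot] at h; exact mul_eq_one_iff_eq_inv.mp h

/-- The abelian case: dual bases of eigenvectors. -/
theorem abelian_case [Finite G] {A M : Subgroup G}
    (hAc : ∀ a ∈ A, ∀ b ∈ A, a * b = b * a) (hA2 : ∀ a ∈ A, a * a = 1)
    (hMab : ∀ x ∈ M, ∀ y ∈ M, x * y = y * x) (hModd : Odd (Nat.card ↥M))
    (hAM : ∀ b ∈ A, ∀ y ∈ M, b * y * b⁻¹ ∈ M)
    (hfaith : ∀ a ∈ A, (∀ m ∈ M, a * m * a⁻¹ = m) → a = 1) :
    ∀ (k : ℕ) (A' : Subgroup G), A' ≤ A → Nat.card ↥A' = 2 ^ k →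
      ∃ a x : Fin k → G,
        (∀ i, a i ∈ A' ∧ x i ∈ M ∧ x i ≠ 1 ∧ a i * x i * (a i)⁻¹ = (x i)⁻¹ ∧
          ∀ b ∈ A, b * x i * b⁻¹ = x i ∨ b * x i * b⁻¹ = (x i)⁻¹) ∧
        (∀ i j, i ≠ j → a i * x j * (a i)⁻¹ = x j) ∧
        (∀ c ∈ A', (∀ i, c * x i * c⁻¹ = x i) → c = 1) ∧
        (⨆ i, Subgroup.zpowers (a i)) = A' := by
  classical
  intro k
  induction k with
  | zero =>
    intro A' _ hcard
    have hbot : A' = ⊥ := Subgroup.eq_bot_of_card_eq A' (by rw [hcard, pow_zero])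
    refine ⟨Fin.elim0, Fin.elim0, fun i => i.elim0, fun i => i.elim0, ?_, ?_⟩
    · intro c hc _
      rw [hbot, Subgroup.mem_bot] at hc
      exact hc
    · rw [hbot]; simp
  | succ k ih =>
    intro A' hA'A hcard
    have hne : A' ≠ ⊥ := by
      intro h
      rw [h, Subgroup.card_bot] at hcard
      have : 1 < 2 ^ (k + 1) := Nat.one_lt_two_pow (by omega)
      omega
    obtain ⟨b₀, hb₀, hb₀1⟩ := (Subgroup.bot_or_exists_ne_one A').resolve_left hne
    have hexm : ∃ m ∈ M, b₀ * m * b₀⁻¹ ≠ m := by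
      by_contra hcon
      push Not at hcon
      exact hb₀1 (hfaith b₀ (hA'A hb₀) hcon)
    obtain ⟨m, hm, hbm⟩ := hexm
    obtain ⟨x, hxM, hx1, hbx, hxA⟩ := exists_eigenvector hAc hA2 hMab hAM (hA'A hb₀) hm hbm
    have hxx : x⁻¹ ≠ x := by
      intro h
      apply hx1
      apply eq_one_of_mul_self_eq_one_of_odd hModd hxM
      nth_rewrite 1 [← h]
      exact inv_mul_cancel x
    have hb₀n : b₀ ∉ Subgroup.centralizer ({x} : Set G) := by
      intro h
      rw [mem_centralizer_singleton_conj, hbx] at h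
      exact hxx h
    have hidx : (Subgroup.centralizer ({x} : Set G)).relIndex A' = 2 := by
      rw [Subgroup.relIndex_eq_two_iff_exists_notMem_and]
      exact ⟨b₀, hb₀, hb₀n, fun b hb => mul_mem_or_mem_centralizer hbx (hxA b (hA'A hb))⟩
    have hcard'' : Nat.card ↥(A' ⊓ Subgroup.centralizer ({x} : Set G)) = 2 ^ k := by
      have h1 := card_mul_relIndex_of_le
        (inf_le_left : A' ⊓ Subgroup.centralizer ({x} : Set G) ≤ A')
      rw [Subgroup.inf_relIndex_left, hidx, hcard, pow_succ] at h1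
      omega
    obtain ⟨a, x', h1, h2, h3, h4⟩ := ih (A' ⊓ Subgroup.centralizer ({x} : Set G))
      (inf_le_left.trans hA'A) hcard''
    -- the joint centralizer of the `x' i` in `A'`
    have hCidx : (⨅ i, Subgroup.centralizer ({x' i} : Set G)).relIndex A' ≤ 2 ^ k := by
      calc (⨅ i, Subgroup.centralizer ({x' i} : Set G)).relIndex A'
          ≤ ∏ i, (Subgroup.centralizer ({x' i} : Set G)).relIndex A' :=
            Subgroup.relIndex_iInf_le _
        _ ≤ ∏ _i : Fin k, 2 := Finset.prod_le_prod (fun _ _ => Nat.zero_le _)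
            (fun i _ => relIndex_centralizer_le_two hA'A (h1 i).2.2.2.2)
        _ = 2 ^ k := by simp
    have hCne : A' ⊓ ⨅ i, Subgroup.centralizer ({x' i} : Set G) ≠ ⊥ := by
      intro hbot
      have h5 := card_mul_relIndex_of_le
        (inf_le_left : A' ⊓ ⨅ i, Subgroup.centralizer ({x' i} : Set G) ≤ A')
      rw [Subgroup.inf_relIndex_left, hcard, hbot, Subgroup.card_bot, pow_succ] at h5
      have h7 : 0 < 2 ^ k := by positivity
      omega
    obtain ⟨c, hcC, hc1⟩ := (Subgroup.bot_or_exists_ne_one _).resolve_left hCne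
    have hcA' : c ∈ A' := hcC.1
    have hc_cent : ∀ i, c * x' i * c⁻¹ = x' i := fun i =>
      mem_centralizer_singleton_conj.mp ((Subgroup.mem_iInf.mp hcC.2) i)
    have hcA'' : c ∉ A' ⊓ Subgroup.centralizer ({x} : Set G) := fun h => hc1 (h3 c h hc_cent)
    have hcx : c * x * c⁻¹ = x⁻¹ := by
      rcases hxA c (hA'A hcA') with h | h
      · exact absurd ⟨hcA', mem_centralizer_singleton_conj.mpr h⟩ hcA''
      · exact h
    refine ⟨Fin.cons c a, Fin.cons x x', ?_, ?_, ?_, ?_⟩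
    · intro i
      rcases Fin.eq_zero_or_eq_succ i with rfl | ⟨j, rfl⟩
      · simp only [Fin.cons_zero]
        exact ⟨hcA', hxM, hx1, hcx, hxA⟩
      · simp only [Fin.cons_succ]
        obtain ⟨p1, p2, p3, p4, p5⟩ := h1 j
        exact ⟨p1.1, p2, p3, p4, p5⟩
    · intro i j hij
      rcases Fin.eq_zero_or_eq_succ i with rfl | ⟨i', rfl⟩ <;>
        rcases Fin.eq_zero_or_eq_succ j with rfl | ⟨j', rfl⟩
      · exact absurd rfl hij
      · simp only [Fin.cons_zero, Fin.cons_succ]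
        exact hc_cent j'
      · simp only [Fin.cons_zero, Fin.cons_succ]
        exact mem_centralizer_singleton_conj.mp (h1 i').1.2
      · simp only [Fin.cons_succ]
        exact h2 i' j' (fun h => hij (by rw [h]))
    · intro c' hc' hcent
      have h0 := hcent 0
      simp only [Fin.cons_zero] at h0
      refine h3 c' ⟨hc', mem_centralizer_singleton_conj.mpr h0⟩ (fun i => ?_)
      have hi := hcent i.succ
      simpa only [Fin.cons_succ] using hi
    · have hc_mem : c ∈ ⨆ i, Subgroup.zpowers ((Fin.cons c a : Fin (k + 1) → G) i) := by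
        have h5 : Subgroup.zpowers ((Fin.cons c a : Fin (k + 1) → G) 0) ≤
            ⨆ i, Subgroup.zpowers ((Fin.cons c a : Fin (k + 1) → G) i) :=
          le_iSup (fun i => Subgroup.zpowers ((Fin.cons c a : Fin (k + 1) → G) i)) 0
        apply h5
        simp only [Fin.cons_zero]
        exact Subgroup.mem_zpowers c
      have hA''le : A' ⊓ Subgroup.centralizer ({x} : Set G) ≤
          ⨆ i, Subgroup.zpowers ((Fin.cons c a : Fin (k + 1) → G) i) := by
        rw [← h4]
        apply iSup_le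
        intro j
        have h5 : Subgroup.zpowers ((Fin.cons c a : Fin (k + 1) → G) j.succ) ≤
            ⨆ i, Subgroup.zpowers ((Fin.cons c a : Fin (k + 1) → G) i) :=
          le_iSup (fun i => Subgroup.zpowers ((Fin.cons c a : Fin (k + 1) → G) i)) j.succ
        simpa only [Fin.cons_succ] using h5
      apply le_antisymm
      · apply iSup_le
        intro i
        rcases Fin.eq_zero_or_eq_succ i with rfl | ⟨j, rfl⟩
        · simp only [Fin.cons_zero]
          rw [Subgroup.zpowers_le]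
          exact hcA'
        · simp only [Fin.cons_succ]
          rw [Subgroup.zpowers_le]
          exact (h1 j).1.1
      · intro u hu
        rcases mul_mem_or_mem_centralizer hcx (hxA u (hA'A hu)) with h | h
        · have h6 : u * c ∈ A' ⊓ Subgroup.centralizer ({x} : Set G) :=
            ⟨A'.mul_mem hu hcA', h⟩
          have h8 := Subgroup.mul_mem _ (hA''le h6) (Subgroup.inv_mem _ hc_mem)
          simpa using h8
        · exact hA''le ⟨hu, h⟩

/-- Two subgroups generated by pairwise commuting pairs commute elementwise. -/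
theorem comm_of_gens {a x b y : G} (h1 : a * b = b * a) (h2 : a * y = y * a)
    (h3 : x * b = b * x) (h4 : x * y = y * x) :
    ∀ u ∈ Subgroup.zpowers a ⊔ Subgroup.zpowers x,
      ∀ v ∈ Subgroup.zpowers b ⊔ Subgroup.zpowers y, u * v = v * u := by
  have hv : Subgroup.zpowers b ⊔ Subgroup.zpowers y ≤ Subgroup.centralizer ({a, x} : Set G) := by
    refine sup_le ?_ ?_ <;> rw [Subgroup.zpowers_le, Subgroup.mem_centralizer_iff]
    · intro h hh
      rcases hh with rfl | hh
      · exact h1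
      · rw [Set.mem_singleton_iff] at hh
        rw [hh]; exact h3
    · intro h hh
      rcases hh with rfl | hh
      · exact h2
      · rw [Set.mem_singleton_iff] at hh
        rw [hh]; exact h4
  have hu : Subgroup.zpowers a ⊔ Subgroup.zpowers x ≤
      Subgroup.centralizer ((Subgroup.zpowers b ⊔ Subgroup.zpowers y : Subgroup G) : Set G) := by
    refine sup_le ?_ ?_ <;> rw [Subgroup.zpowers_le, Subgroup.mem_centralizer_iff]
    · intro v hv'
      exact ((Subgroup.mem_centralizer_iff.mp (hv hv')) a (by simp)).symm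
    · intro v hv'
      exact ((Subgroup.mem_centralizer_iff.mp (hv hv')) x (by simp)).symm
  intro u hu' v hv'
  exact ((Subgroup.mem_centralizer_iff.mp (hu hu')) v hv').symm

/-- An involution inverting an element of odd order at least three generates with it a
dihedral group. -/
theorem nonempty_mulEquiv_dihedral_of_inverts {a x : G} (haa : a * a = 1)
    (hax : a * x * a⁻¹ = x⁻¹) (hn : 3 ≤ orderOf x) (hxx : x⁻¹ ≠ x) :
    Nonempty (↥(Subgroup.zpowers a ⊔ Subgroup.zpowers x) ≃* DihedralGroup (orderOf x)) := by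
  have : NeZero (orderOf x) := ⟨by omega⟩
  have hxn : x ^ orderOf x = 1 := pow_orderOf_eq_one x
  have hba : a ∉ Subgroup.zpowers x := by
    intro h
    obtain ⟨t, ht⟩ := Subgroup.mem_zpowers_iff.mp h
    apply hxx
    rw [← hax, ← ht]
    have : Commute (x ^ t) x := (Commute.refl x).zpow_left t
    rw [this.eq]; group
  refine Cfsg.Agent.Lib.Helper20.nonempty_mulEquiv_dihedral x a (orderOf x) hxn haa hax rfl hba _ ?_
  intro g
  rw [← Cfsg.Agent.Lib.Helper20.mem_dihHom_range x a (orderOf x) hxn haa hax g]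
  have hrange : Subgroup.zpowers a ⊔ Subgroup.zpowers x =
      (Cfsg.Agent.Lib.Helper20.dihHom x a (orderOf x) hxn haa hax).range := by
    apply le_antisymm
    · refine sup_le ?_ ?_ <;> rw [Subgroup.zpowers_le]
      · refine ⟨DihedralGroup.sr 0, ?_⟩
        rw [Cfsg.Agent.Lib.Helper20.dihHom_sr, Cfsg.Agent.Lib.Helper20.pw_zero, mul_one]
      · refine ⟨DihedralGroup.r ((1 : ℕ) : ZMod (orderOf x)), ?_⟩
        rw [Cfsg.Agent.Lib.Helper20.dihHom_r, Cfsg.Agent.Lib.Helper20.pw_natCast hxn, pow_one]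
    · rintro _ ⟨g, rfl⟩
      rcases g with i | i
      · rw [Cfsg.Agent.Lib.Helper20.dihHom_r]
        exact (le_sup_right : Subgroup.zpowers x ≤ _)
          (Cfsg.Agent.Lib.Helper20.pw_mem_zpowers i)
      · rw [Cfsg.Agent.Lib.Helper20.dihHom_sr]
        exact Subgroup.mul_mem _
          ((le_sup_left : Subgroup.zpowers a ≤ _) (Subgroup.mem_zpowers a))
          ((le_sup_right : Subgroup.zpowers x ≤ _) (Cfsg.Agent.Lib.Helper20.pw_mem_zpowers i))
  rw [hrange]

end Aux

/-- Let G be finite, L ≤ G solvable of odd order, and A an elementary abelian 2-subgroup of order 2^d (d ≥ 1) normalizing L with C_A(L) = 1. Then there are subgroups A_1, …, A_d of A of order 2 generating A and subgroups L_1, …, L_d of L such that each A_i ⊔ L_i is dihedral of order 2 n_i with n_i odd and at least 3, and A_i ⊔ L_i commutes elementwise with A_j ⊔ L_j for i ≠ j. -/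
theorem result {G : Type*} [Group G] [Finite G] (L A : Subgroup G) (hLs : Group.IsSolvable ↥L) (hLodd : Odd (Nat.card ↥L)) (hA : Cfsg.IsElementaryAbelian 2 A) (d : ℕ) (hd : 1 ≤ d) (hAd : Nat.card ↥A = 2 ^ d) (hAL : A ≤ Subgroup.normalizer (L : Set G)) (hfaith : A ⊓ Subgroup.centralizer (L : Set G) = ⊥) : ∃ (Ai : Fin d → Subgroup G) (Li : Fin d → Subgroup G) (n : Fin d → ℕ), (∀ i, Ai i ≤ A ∧ Nat.card ↥(Ai i) = 2 ∧ Li i ≤ L ∧ Odd (n i) ∧ 3 ≤ n i ∧ Nonempty (↥(Ai i ⊔ Li i) ≃* DihedralGroup (n i))) ∧ (⨆ i, Ai i) = A ∧ ∀ i j, i ≠ j → ∀ x ∈ Ai i ⊔ Li i, ∀ y ∈ Ai j ⊔ Li j, x * y = y * x := by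
  classical
  have hAc : ∀ a ∈ A, ∀ b ∈ A, a * b = b * a := by
    intro a ha b hb
    have := hA.1
    exact congrArg Subtype.val (mul_comm' (⟨a, ha⟩ : ↥A) ⟨b, hb⟩)
  have hA2 : ∀ a ∈ A, a * a = 1 := by
    intro a ha
    have := hA.2 a ha
    rwa [pow_two] at this
  obtain ⟨M, hML, hMab, hAM, hMfaith⟩ := exists_abelian_faithful hLs hLodd hAc hA2 hAL
  have hModd : Odd (Nat.card ↥M) := Odd.of_dvd_nat hLodd (Subgroup.card_dvd_of_le hML)
  have hfaith' : ∀ a ∈ A, (∀ m ∈ M, a * m * a⁻¹ = m) → a = 1 := by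
    intro a ha hm
    have h1 := hMfaith a ha hm
    have h2 : a ∈ A ⊓ Subgroup.centralizer (L : Set G) := by
      refine ⟨ha, ?_⟩
      show a ∈ Subgroup.centralizer (L : Set G)
      rw [Subgroup.mem_centralizer_iff]
      intro l hl
      have h3 := h1 l hl
      calc l * a = (a * l * a⁻¹) * a := by rw [h3]
        _ = a * l := by group
    rw [hfaith, Subgroup.mem_bot] at h2
    exact h2
  obtain ⟨a, x, h1, h2, h3, h4⟩ := abelian_case hAc hA2 hMab hModd hAM hfaith' d A le_rfl hAd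
  have hxx : ∀ i, (x i)⁻¹ ≠ x i := by
    intro i h
    apply (h1 i).2.2.1
    apply eq_one_of_mul_self_eq_one_of_odd hModd (h1 i).2.1
    nth_rewrite 1 [← h]
    exact inv_mul_cancel (x i)
  refine ⟨fun i => Subgroup.zpowers (a i), fun i => Subgroup.zpowers (x i),
    fun i => orderOf (x i), ?_, h4, ?_⟩
  · intro i
    obtain ⟨haA, hxM, hx1, hax, -⟩ := h1 i
    have ha1 : a i ≠ 1 := by
      intro h
      rw [h] at hax
      apply hxx i
      rw [← hax]; group
    have hodd : Odd (orderOf (x i)) := by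
      apply Odd.of_dvd_nat hLodd
      have := orderOf_dvd_natCard (⟨x i, hML hxM⟩ : ↥L)
      rwa [Subgroup.orderOf_mk] at this
    have h3' : 3 ≤ orderOf (x i) := by
      have hne1 : orderOf (x i) ≠ 1 := fun h => hx1 (orderOf_eq_one_iff.mp h)
      obtain ⟨t, ht⟩ := hodd
      omega
    refine ⟨?_, ?_, ?_, hodd, h3', ?_⟩
    · show Subgroup.zpowers (a i) ≤ A
      rw [Subgroup.zpowers_le]; exact haA
    · show Nat.card ↥(Subgroup.zpowers (a i)) = 2
      rw [Nat.card_zpowers]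
      have : Fact (Nat.Prime 2) := ⟨Nat.prime_two⟩
      exact orderOf_eq_prime (by rw [pow_two]; exact hA2 _ haA) ha1
    · show Subgroup.zpowers (x i) ≤ L
      rw [Subgroup.zpowers_le]; exact hML hxM
    · exact nonempty_mulEquiv_dihedral_of_inverts (hA2 _ haA) hax h3' (hxx i)
  · intro i j hij
    apply comm_of_gens
    · exact hAc _ (h1 i).1 _ (h1 j).1
    · have := h2 i j hij
      calc a i * x j = (a i * x j * (a i)⁻¹) * a i := by group
        _ = x j * a i := by rw [this]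
    · have := h2 j i (Ne.symm hij)
      calc x i * a j = (a j * x i * (a j)⁻¹)  * a j := by rw [this]
        _ = a j * x i := by group
    · exact hMab _ (h1 i).2.1 _ (h1 j).2.1

end Cfsg.Agent.S1349
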