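import Cfsg.Statements.S1381
-- import your own Cfsg.Agent.* helpers here

import Cfsg.Agent.Lib.Helper26.BGTypesF
import Cfsg.Agent.S1354
import Cfsg.Agent.S1355
import Cfsg.Agent.S1356
import Cfsg.Agent.S1357
import Cfsg.Agent.S1359
import Cfsg.Agent.S1360
import Cfsg.Agent.S1363
import Cfsg.Agent.S1364
import Cfsg.Agent.S1365
import Cfsg.Agent.S1366
import Cfsg.Agent.S1368
import Cfsg.Agent.S1370
import Cfsg.Agent.S1372
set_option autoImplicit false
open Cfsg

namespace Cfsg.Agent.S1381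

/-- Let G be a minimal simple group of odd order and M a maximal subgroup with standard factorisation M = K U M_σ. Then M is of Type II if and only if K ≠ 1 and U ≠ 1. -/
theorem result {G : Type*} [Group G] [Finite G] (hG : Cfsg.IsMinSimpleOddOrder G)
    (M : Subgroup G) (hM : IsCoatom M) (K U : Subgroup G) (hKU : Cfsg.IsSigmaDecomposition M K U) :
    Cfsg.IsOfTypeII M ↔ (K ≠ ⊥ ∧ U ≠ ⊥) := by
  exact Cfsg.Agent.Lib.Helper26.BGTypes.s1381_of hG (Cfsg.Agent.S1354.result hG) (Cfsg.Agent.S1355.result hG) (Cfsg.Agent.S1356.result hG)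
    (Cfsg.Agent.S1357.result hG) (Cfsg.Agent.S1359.result hG) (Cfsg.Agent.S1360.result hG)
    (Cfsg.Agent.S1363.result hG) (Cfsg.Agent.S1364.result hG) (Cfsg.Agent.S1365.result hG)
    (Cfsg.Agent.S1366.result hG) (Cfsg.Agent.S1368.result hG) (Cfsg.Agent.S1370.result hG)
    (Cfsg.Agent.S1372.result hG) M hM K U hKU

end Cfsg.Agent.S1381
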