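import Cfsg.Statements.S1387
import Cfsg.Agent.Lib.Helper23.TypeP

set_option autoImplicit false
open Cfsg

namespace Cfsg.Agent.S1387

open Cfsg.Agent.Lib.Helper23

/-- Let M be a subgroup of a finite group G with type-P data (W₁, U, W₂) and H = M_F. Then the Fitting subgroup F(M) is generated by H and the centralizer of H in U. -/
theorem result {G : Type*} [Group G] [Finite G] (M W₁ U W₂ : Subgroup G) (hP : Cfsg.IsTypePWith M W₁ U W₂) :
    Cfsg.fittingOf M = Cfsg.fittingHallOf M ⊔ (U ⊓ Subgroup.centralizer (Cfsg.fittingHallOf M : Set G)) := by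
  classical
  have hcop := (typeP_coprime hP).1
  obtain ⟨hHM', hUM', hHU, hfact⟩ := hP.U_compl
  have hM'M : ⁅M, M⁆ ≤ M := hP.W₁_compl.1
  rw [← hP.fitting_eq]
  apply le_antisymm
  · apply sup_le le_sup_left
    intro c hc
    have hcF : c ∈ fittingOf M := by
      rw [← hP.fitting_eq]
      exact Subgroup.mem_sup_right hc
    obtain ⟨h, hh, u, hu, hchu⟩ := hfact c (hP.fitting_le hcF)
    have hcC : c ∈ Subgroup.centralizer (fittingHallOf M : Set G) := hc.2
    -- u = h⁻¹ * c acts on H as conjugation by h⁻¹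
    have hu_eq : u = h⁻¹ * c := by rw [hchu]; group
    have hconj : ∀ y ∈ fittingHallOf M, u * y * u⁻¹ = h⁻¹ * y * h⁻¹⁻¹ := by
      intro y hy
      have hcy : y * c = c * y := (Subgroup.mem_centralizer_iff.mp hcC) y hy
      have : c * y * c⁻¹ = y := by rw [← hcy]; group
      calc u * y * u⁻¹ = h⁻¹ * (c * y * c⁻¹) * h⁻¹⁻¹ := by rw [hu_eq]; group
        _ = h⁻¹ * y * h⁻¹⁻¹ := by rw [this]
    have hord : (Nat.card ↥(fittingHallOf M)).Coprime (orderOf u) := by
      have h1 : orderOf u ∣ Nat.card ↥U := by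
        have := orderOf_dvd_natCard (⟨u, hu⟩ : ↥U)
        rwa [Subgroup.orderOf_mk] at this
      exact hcop.coprime_dvd_right h1
    have huC := mem_centralizer_of_conj_eq_inner (fittingHallOf M) u h⁻¹
      ((fittingHallOf M).inv_mem hh) hconj hord
    rw [hchu]
    exact Subgroup.mul_mem _ (Subgroup.mem_sup_left hh) (Subgroup.mem_sup_right ⟨hu, huC⟩)
  · apply sup_le_sup_left
    exact inf_le_inf_right _ (hUM'.trans hM'M)

end Cfsg.Agent.S1387
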