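import Cfsg.Statements.S1438
import Cfsg.Agent.Lib.Helper97.BGFifteenThreeD
import Cfsg.Agent.S1430
import Cfsg.Agent.S1431
import Cfsg.Agent.S1374
import Cfsg.Agent.S1437
import Cfsg.Agent.S1351
import Cfsg.Agent.S1352

set_option autoImplicit false
open Cfsg

namespace Cfsg.Agent.S1438

/-- Let G be a minimal simple group of odd order, M a maximal subgroup and H a nontrivial subgroup of M_σ whose order is coprime to its index in M_σ. Then M ∩ C_G(H) is generated by M_σ ∩ C_G(H) together with a cyclic subgroup X all of whose prime divisors lie in τ₂(M); and if x ∈ H and gxg⁻¹ ∈ H then nxn⁻¹ = gxg⁻¹ for some n ∈ M ∩ N_G(H). -/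
theorem result {G : Type*} [Group G] [Finite G] (hG : Cfsg.IsMinSimpleOddOrder G)
    (M : Subgroup G) (hM : IsCoatom M) (H : Subgroup G) (hH : H ≤ Cfsg.sigmaCore M) (hH1 : H ≠ ⊥)
    (hHall : (Nat.card H).Coprime (H.relIndex (Cfsg.sigmaCore M))) :
    (∃ X : Subgroup G, IsCyclic X ∧ (∀ p : ℕ, p.Prime → p ∣ Nat.card X → p ∈ Cfsg.tau2 M) ∧
        M ⊓ Subgroup.centralizer (H : Set G) = (Cfsg.sigmaCore M ⊓ Subgroup.centralizer (H : Set G)) ⊔ X) ∧
      ∀ x ∈ H, ∀ g : G, g * x * g⁻¹ ∈ H → ∃ n ∈ M ⊓ Subgroup.normalizer (H : Set G), n * x * n⁻¹ = g * x * g⁻¹ := by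
  have h30 : Cfsg.Agent.Lib.Helper54.Stmt1430 G :=
    fun M hM K hK hK1 => Cfsg.Agent.S1430.result hG M hM K hK hK1
  have h31 : Cfsg.Agent.Lib.Helper54.Stmt1431 G :=
    fun M hM K hK hK1 => Cfsg.Agent.S1431.result hG M hM K hK hK1
  refine Cfsg.Agent.Lib.Helper97.BGFifteenThree.s1438_of hG h30 h31 M hM ?_ ?_ ?_ H hH hH1 hHall
  · intro x hx hx1
    exact (Cfsg.Agent.S1374.result hG M hM x hx hx1).2
  · intro _
    obtain ⟨⟨K, hK⟩, hcyc⟩ := Cfsg.Agent.S1351.result hG M hM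
    obtain ⟨⟨U, hU⟩, -⟩ := Cfsg.Agent.S1352.result hG M hM K (hcyc K hK) hK
    exact ⟨K, U, hU⟩
  · intro K U hKU hne
    obtain ⟨-, -, -, hq, -, hqβ, Q, hQF, hMQ, hQq, hQi, hD⟩ :=
      Cfsg.Agent.S1437.result hG M hM K U hKU hne
    exact ⟨hq, hqβ, Q, hQF, hMQ, hQq, hQi, fun D hDc => (hD D hDc).1⟩

end Cfsg.Agent.S1438
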