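import Cfsg.Statements.S1441
import Cfsg.Agent.Lib.Helper24.Coprime
-- import your own Cfsg.Agent.* helpers here

set_option autoImplicit false
open Cfsg

namespace Cfsg.Agent.S1441

open Cfsg.Agent.Lib.Helper24 in
open scoped commutatorElement in
/-- An element `a` of `A` whose order is coprime to `#H` centralizes every term of the chain. -/
theorem centralizes_chain {G : Type*} [Group G] [Finite G] (H A : Subgroup G)
    (n : ℕ) (c : Fin (n + 1) → Subgroup G) (hc0 : c 0 = H) (hcn : c (Fin.last n) = ⊥) (hanti : Antitone c)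
    (htriv : ∀ i : Fin n, ⁅c i.castSucc, A⁆ ≤ c i.succ)
    (a : G) (haA : a ∈ A) (hcop : (orderOf a).Coprime (Nat.card H)) :
    ∀ i : Fin (n + 1), ∀ x ∈ c i, a * x = x * a := by
  intro i
  induction i using Fin.reverseInduction with
  | last =>
    intro x hx
    rw [hcn, Subgroup.mem_bot] at hx
    subst hx; simp
  | cast i ih =>
    intro x hx
    have hzmem : x⁻¹ * (a * x * a⁻¹) ∈ c i.succ := by
      apply htriv i
      have : ⁅x⁻¹, a⁆ ∈ ⁅c i.castSucc, A⁆ :=
        Subgroup.commutator_mem_commutator (inv_mem hx) haA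
      have e : ⁅x⁻¹, a⁆ = x⁻¹ * (a * x * a⁻¹) := by
        rw [commutatorElement_def]; group
      rwa [e] at this
    have hzH : x⁻¹ * (a * x * a⁻¹) ∈ H := by
      have : c i.succ ≤ c 0 := hanti (Fin.zero_le _)
      rw [hc0] at this
      exact this hzmem
    apply commute_of_comm_commute_of_coprime a x (ih _ hzmem)
    have hdvd : orderOf (x⁻¹ * (a * x * a⁻¹)) ∣ Nat.card H := by
      have := Subgroup.orderOf_dvd_natCard H hzH
      exact this
    exact Nat.Coprime.coprime_dvd_right hdvd hcop

/-- Let G be a finite group, H a solvable subgroup and A a subgroup normalizing H. Suppose there is a chain H = H₀ ≥ H₁ ≥ ⋯ ≥ H_n = 1 of subgroups normal in H and normalized by A such that A acts trivially on each factor H_{i-1}/H_i (that is, [H_{i-1}, A] ≤ H_i). Then every prime dividing the index of C_A(H) in A divides the order of H. -/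
theorem result {G : Type*} [Group G] [Finite G] (H A : Subgroup G) (hH : Group.IsSolvable H) (hA : (A ≤ Subgroup.normalizer (H : Set G)))
    (n : ℕ) (c : Fin (n + 1) → Subgroup G) (hc0 : c 0 = H) (hcn : c (Fin.last n) = ⊥) (hanti : Antitone c)
    (hcN : ∀ i, H ≤ Subgroup.normalizer ((c i : Subgroup G) : Set G)) (hcA : ∀ i, A ≤ Subgroup.normalizer ((c i : Subgroup G) : Set G))
    (htriv : ∀ i : Fin n, ⁅c i.castSucc, A⁆ ≤ c i.succ) :
    ∀ p : ℕ, p.Prime → p ∣ (A ⊓ Subgroup.centralizer (H : Set G)).relIndex A → p ∣ Nat.card H := by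
  intro p hp hdvd
  by_contra hnd
  have : Fact p.Prime := ⟨hp⟩
  -- a Sylow p-subgroup of A
  obtain ⟨Q⟩ : Nonempty (Sylow p A) := inferInstance
  have hQle : (Q : Subgroup A) ≤ (A ⊓ Subgroup.centralizer (H : Set G)).subgroupOf A := by
    intro q hq
    rw [Subgroup.mem_subgroupOf]
    refine Subgroup.mem_inf.mpr ⟨q.2, ?_⟩
    refine Subgroup.mem_centralizer_iff.mpr ?_
    intro x hx
    -- order of q is a power of p
    obtain ⟨k, hk⟩ := (Q.isPGroup' ⟨q, hq⟩)
    have hk' : (q : G) ^ p ^ k = 1 := by
      have := congrArg (fun t : (Q : Subgroup A) => ((t : A) : G)) hk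
      simpa using this
    have hord : orderOf (q : G) ∣ p ^ k := orderOf_dvd_of_pow_eq_one hk'
    have hcop : (orderOf (q : G)).Coprime (Nat.card H) := by
      apply Nat.Coprime.coprime_dvd_left hord
      apply Nat.Coprime.pow_left
      exact (Nat.Prime.coprime_iff_not_dvd hp).mpr hnd
    have := centralizes_chain H A n c hc0 hcn hanti htriv (q : G) q.2 hcop 0 x (by rw [hc0]; exact hx)
    exact this.symm
  have h1 : ((A ⊓ Subgroup.centralizer (H : Set G)).subgroupOf A).index ∣ (Q : Subgroup A).index :=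
    Subgroup.index_dvd_of_le hQle
  have h2 : ¬ p ∣ (Q : Subgroup A).index := Q.not_dvd_index
  exact h2 (dvd_trans hdvd h1)

end Cfsg.Agent.S1441
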