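import Cfsg.Statements.S1454
import Cfsg.Agent.S1448
import Cfsg.Agent.S1449
import Cfsg.Agent.Lib.Helper24.RankTwoGen
import Cfsg.Agent.Lib.Helper24.RankTwoPrelude
import Cfsg.Agent.Lib.Helper55.Cores
import Cfsg.Agent.Lib.Helper67.NarrowCore
import Cfsg.Agent.Lib.Helper67.NarrowElemAb
import Cfsg.Agent.Lib.Helper67.CycAut

set_option autoImplicit false
open Cfsg

namespace Cfsg.Agent.S1454

open scoped commutatorElement
open Cfsg.Agent.Lib.Helper24 Cfsg.Agent.Lib.Helper67

/-- Rank `≥ 3` core: a `p'`-element of `N' N^(p-1)`, `N = N_G(R)`, centralizes the narrow group `R`. -/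
theorem narrow_centralizes {G : Type*} [Group G] [Finite G] (p : ℕ) [Fact p.Prime] (hp : p ≠ 2)
    (R : Subgroup G) (hR : IsPGroup p R) (hRn : Cfsg.IsNarrow p R) (hr : ¬ Cfsg.PRankLE p 2 R)
    (k : ↥(Subgroup.normalizer (R : Set G)))
    (hk : k ∈ verbalPow ↥(Subgroup.normalizer (R : Set G)) (p - 1))
    (hcop : (orderOf k).Coprime p) : ∀ r ∈ R, (k : G) * r = r * k := by
  obtain ⟨E, hE, hE2, hEmax⟩ := exists_maxElemAb_of_narrow p hR hRn hr
  have hle : R ≤ Subgroup.normalizer (R : Set G) := Subgroup.le_normalizer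
  have hn : (Subgroup.inclusion hle).range.Normal := by
    rw [Subgroup.inclusion_range]
    exact Subgroup.normal_in_normalizer
  intro r hr'
  have := verbalPow_centralizes_of_maxElemAb p hp hR hr E hE hE2 hEmax (Subgroup.inclusion hle)
    (Subgroup.inclusion_injective hle) hn k hk hcop ⟨r, hr'⟩
  exact congrArg Subtype.val this

theorem commutator_le_verbalPow (X : Type*) [Group X] (n : ℕ) : commutator X ≤ verbalPow X n := by
  rw [commutator_eq_closure, Subgroup.closure_le]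
  rintro _ ⟨g, h, rfl⟩
  exact commutator_mem_verbalPow n g h

/-- In both cases the derived subgroup of `A` is a `p`-group. -/
theorem isPGroup_commutator {G : Type*} [Group G] [Finite G] (p : ℕ) [Fact p.Prime] (hp : p ≠ 2)
    (R A : Subgroup G) (hR : IsPGroup p R) (hRn : Cfsg.IsNarrow p R)
    (hA : (A ≤ Subgroup.normalizer (R : Set G))) (hAs : Group.IsSolvable A)
    (hAodd : Odd (Nat.card A)) (hfaith : A ⊓ Subgroup.centralizer (R : Set G) = ⊥) :
    IsPGroup p ↥⁅A, A⁆ := by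
  by_cases hr : Cfsg.PRankLE p 2 R
  · exact Cfsg.Agent.S1449.result p hp R A hR hr hA hAs hAodd hfaith
  · apply isPGroup_of_forall_coprime_eq_one
    intro y hy hcop
    have hyA : y ∈ A := comm_self_le A hy
    have hyN : y ∈ Subgroup.normalizer (R : Set G) := hA hyA
    have hyNN : y ∈ ⁅Subgroup.normalizer (R : Set G), Subgroup.normalizer (R : Set G)⁆ :=
      Subgroup.commutator_mono hA hA hy
    have hk : (⟨y, hyN⟩ : ↥(Subgroup.normalizer (R : Set G))) ∈
        verbalPow ↥(Subgroup.normalizer (R : Set G)) (p - 1) :=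
      commutator_le_verbalPow _ _ (mem_commutator_subtype _ y hyNN hyN)
    have hcop' : (orderOf (⟨y, hyN⟩ : ↥(Subgroup.normalizer (R : Set G)))).Coprime p := by
      rw [← Subgroup.orderOf_coe]; exact hcop
    have hc := narrow_centralizes p hp R hR hRn hr ⟨y, hyN⟩ hk hcop'
    have hyC : y ∈ Subgroup.centralizer (R : Set G) := by
      rw [Subgroup.mem_centralizer_iff]
      intro r hr'
      exact (hc r hr').symm
    have : y ∈ A ⊓ Subgroup.centralizer (R : Set G) := Subgroup.mem_inf.mpr ⟨hyA, hyC⟩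
    rw [hfaith, Subgroup.mem_bot] at this
    exact this

/-- Part (a) from the fact that `[A, A]` is a `p`-group. -/
theorem partA {G : Type*} [Group G] [Finite G] (p : ℕ) [Fact p.Prime] (A : Subgroup G)
    (h : IsPGroup p ↥⁅A, A⁆) :
    commutator ↥A ≤ Cfsg.pCore p ↥A ∧ ((Cfsg.pCore p ↥A).index).Coprime p := by
  have hcp : IsPGroup p ↥(commutator ↥A) := by
    intro y
    have hy : ((y : ↥A) : G) ∈ ⁅A, A⁆ := by
      rw [← Subgroup.map_subtype_commutator]
      exact Subgroup.mem_map_of_mem _ y.2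
    obtain ⟨k, hk⟩ := h ⟨_, hy⟩
    refine ⟨k, ?_⟩
    apply Subtype.ext
    apply Subtype.ext
    have := congrArg Subtype.val hk
    simpa using this
  have hcn : (commutator ↥A).Normal := inferInstance
  refine ⟨Cfsg.Agent.Lib.Helper55.le_pCore hcn hcp, ?_⟩
  obtain ⟨Q, hQ⟩ := hcp.exists_le_sylow
  have hQn : (Q : Subgroup ↥A).Normal := by
    constructor
    intro n hn g
    have h1 : ⁅g, n⁆ ∈ commutator ↥A := by
      rw [commutator_def]
      exact Subgroup.commutator_mem_commutator (Subgroup.mem_top g) (Subgroup.mem_top n)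
    have e : g * n * g⁻¹ = ⁅g, n⁆ * n := by rw [commutatorElement_def]; group
    rw [e]
    exact (Q : Subgroup ↥A).mul_mem (hQ h1) hn
  have hQle : (Q : Subgroup ↥A) ≤ Cfsg.pCore p ↥A := Cfsg.Agent.Lib.Helper55.le_pCore hQn Q.2
  have hdvd : (Cfsg.pCore p ↥A).index ∣ (Q : Subgroup ↥A).index := Subgroup.index_dvd_of_le hQle
  have hQi : ¬ p ∣ (Q : Subgroup ↥A).index := Q.not_dvd_index
  have hnd : ¬ p ∣ (Cfsg.pCore p ↥A).index := fun h' => hQi (h'.trans hdvd)
  exact ((Nat.Prime.coprime_iff_not_dvd Fact.out).mpr hnd).symm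

/-- Second half of part (c): `R = [R, A]` non-abelian of rank at most two with `|A| = q` a prime not
dividing `p (p - 1)` forces `|R| = p ^ 3`. -/
theorem card_eq_cube {G : Type*} [Group G] [Finite G] (p : ℕ) [hpp : Fact p.Prime] (hp : p ≠ 2)
    (R A : Subgroup G) (hR : IsPGroup p R) (hr : Cfsg.PRankLE p 2 R)
    (hA : (A ≤ Subgroup.normalizer (R : Set G))) (hAodd : Odd (Nat.card A))
    (hq : (Nat.card A).Prime) (hqp : ¬ Nat.card A ∣ p) (hqp1 : ¬ Nat.card A ∣ p - 1)
    (hRA : ⁅R, A⁆ = R) (hnab : ¬ IsMulCommutative R) : Nat.card R = p ^ 3 := by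
  have hR1 : R ≠ ⊥ := by
    intro h
    apply hnab
    refine ⟨⟨fun a b => ?_⟩⟩
    have hall : ∀ g ∈ R, g = 1 := by
      intro g hg
      rw [h, Subgroup.mem_bot] at hg
      exact hg
    have ha : (a : G) = 1 := hall _ a.2
    have hb : (b : G) = 1 := hall _ b.2
    apply Subtype.ext
    rw [Subgroup.coe_mul, Subgroup.coe_mul, ha, hb]
  have hcopA : (Nat.card A).Coprime p := (Nat.Prime.coprime_iff_not_dvd hq).mpr hqp
  obtain ⟨-, hab | ⟨R₁, R₂, hsup, hcomm12, -, hR₁card, hR₁exp, hR₂cyc, hΩ⟩⟩ :=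
    Cfsg.Agent.S1448.result p hp R A hR hR1 hr hA hcopA hAodd hRA
  · exact absurd hab hnab
  have hR₁R : R₁ ≤ R := by rw [← hsup]; exact le_sup_left
  have hR₂R : R₂ ≤ R := by rw [← hsup]; exact le_sup_right
  have hcm : ∀ (m : R₁) (n : R₂), Commute (R₁.subtype m) (R₂.subtype n) :=
    fun a b => hcomm12 a a.2 b b.2
  have hdec : ∀ r ∈ R, ∃ r₁ ∈ R₁, ∃ b ∈ R₂, r = r₁ * b := by
    intro r hr'
    have hrange := MonoidHom.noncommCoprod_range R₁.subtype R₂.subtype hcm
    rw [Subgroup.range_subtype, Subgroup.range_subtype, hsup] at hrange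
    rw [← hrange] at hr'
    obtain ⟨⟨r₁, b⟩, rfl⟩ := hr'
    exact ⟨r₁, r₁.2, b, b.2, rfl⟩
  have hexp1 : ∀ r₁ ∈ R₁, r₁ ^ p = 1 := by
    intro r₁ h1
    have := Monoid.pow_exponent_eq_one (⟨r₁, h1⟩ : R₁)
    rw [hR₁exp] at this
    have := congrArg Subtype.val this
    simpa using this
  have hc₂ : ∀ b ∈ R₂, ∀ b' ∈ R₂, b * b' = b' * b := by
    intro b hb b' hb'
    let _ := IsCyclic.commGroup (α := R₂)
    have := mul_comm (⟨b, hb⟩ : R₂) ⟨b', hb'⟩
    exact congrArg Subtype.val this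
  have hpow : ∀ r₁ ∈ R₁, ∀ b ∈ R₂, (r₁ * b) ^ p = b ^ p := by
    intro r₁ h1 b hb
    have hc : Commute r₁ b := hcomm12 r₁ h1 b hb
    rw [hc.mul_pow, hexp1 r₁ h1, one_mul]
  -- the subgroup of p-th powers
  set S : Set G := {y | ∃ r ∈ R, y = r ^ p} with hS
  set U : Subgroup G := Subgroup.closure S with hU
  have hUle : U ≤ R₂ := by
    rw [hU, Subgroup.closure_le]
    rintro y ⟨r, hr', rfl⟩
    obtain ⟨r₁, h1, b, hb, rfl⟩ := hdec r hr'
    rw [hpow r₁ h1 b hb]
    exact R₂.pow_mem hb p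
  have hUcyc : IsCyclic U := Subgroup.isCyclic_of_le hUle
  have hAU : A ≤ Subgroup.normalizer (U : Set G) := by
    rw [hU, Subgroup.le_normalizer_closure_iff]
    rintro a ha y ⟨r, hr', rfl⟩
    apply Subgroup.subset_closure
    refine ⟨a * r * a⁻¹, (Subgroup.mem_normalizer_iff.mp (hA ha) r).mp hr', ?_⟩
    rw [conj_pow]
  have hUp : IsPGroup p U := hR.to_le (hUle.trans hR₂R)
  have hcent : ∀ a ∈ A, ∀ y ∈ U, a * y = y * a := by
    intro a ha
    apply centralizes_cyclic_of_coprime_totient U hUcyc a (hAU ha)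
    have hd : orderOf a ∣ Nat.card A := by
      have := orderOf_dvd_natCard (⟨a, ha⟩ : A)
      rwa [Subgroup.orderOf_mk] at this
    apply Nat.Coprime.coprime_dvd_left hd
    obtain ⟨k, hk⟩ := hUp.exists_card_eq
    rw [hk]
    cases k with
    | zero => simp
    | succ k =>
      rw [Nat.totient_prime_pow_succ hpp.out]
      exact Nat.Coprime.mul_right (Nat.Coprime.pow_right k hcopA)
        ((Nat.Prime.coprime_iff_not_dvd hq).mpr hqp1)
  -- elements of R of order dividing p lie in R₁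
  have hmemR₁ : ∀ s ∈ R, s ^ p = 1 → s ∈ R₁ := by
    intro s hs hsp
    obtain ⟨s₁, h1, c, hc, rfl⟩ := hdec s hs
    rw [hpow s₁ h1 c hc] at hsp
    have hcΩ : c ∈ Subgroup.closure {x : G | x ∈ R₂ ∧ x ^ p = 1} :=
      Subgroup.subset_closure ⟨hc, hsp⟩
    rw [hΩ] at hcΩ
    exact R₁.mul_mem h1 (comm_self_le R₁ hcΩ)
  have key : ∀ a ∈ A, ∀ r ∈ R, (a * r * a⁻¹ * r⁻¹) ^ p = 1 := by
    intro a ha r hr'
    have hr'' : a * r * a⁻¹ ∈ R := (Subgroup.mem_normalizer_iff.mp (hA ha) r).mp hr'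
    obtain ⟨r₁, h1, b, hb, hrb⟩ := hdec r hr'
    obtain ⟨r₁', h1', b', hb', hrb'⟩ := hdec _ hr''
    have hpw : b' ^ p = b ^ p := by
      have e1 : (a * r * a⁻¹) ^ p = b' ^ p := by rw [hrb', hpow r₁' h1' b' hb']
      have e2 : r ^ p = b ^ p := by rw [hrb, hpow r₁ h1 b hb]
      have hy : r ^ p ∈ U := Subgroup.subset_closure ⟨r, hr', rfl⟩
      have e3 : a * r ^ p * a⁻¹ = r ^ p := by
        rw [hcent a ha _ hy]; group
      rw [← e1, conj_pow, e3, e2]
    have hs : a * r * a⁻¹ * r⁻¹ = (r₁' * r₁⁻¹) * (b' * b⁻¹) := by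
      have hcb : Commute (b' * b⁻¹) r₁⁻¹ := by
        have h2 : b' * b⁻¹ ∈ R₂ := R₂.mul_mem hb' (R₂.inv_mem hb)
        exact (show Commute r₁⁻¹ (b' * b⁻¹) from hcomm12 _ (R₁.inv_mem h1) _ h2).symm
      calc a * r * a⁻¹ * r⁻¹ = (r₁' * b') * (r₁ * b)⁻¹ := by rw [← hrb', ← hrb]
        _ = r₁' * ((b' * b⁻¹) * r₁⁻¹) := by group
        _ = r₁' * (r₁⁻¹ * (b' * b⁻¹)) := by rw [hcb.eq]
        _ = (r₁' * r₁⁻¹) * (b' * b⁻¹) := by group
    rw [hs, hpow _ (R₁.mul_mem h1' (R₁.inv_mem h1)) _ (R₂.mul_mem hb' (R₂.inv_mem hb))]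
    have hcbb : Commute b' b⁻¹ := hc₂ b' hb' b⁻¹ (R₂.inv_mem hb)
    rw [hcbb.mul_pow, hpw, inv_pow, mul_inv_cancel]
  have hRR₁ : R ≤ R₁ := by
    rw [← hRA, Subgroup.commutator_le]
    intro r hr' a ha
    have h1 : ⁅a, r⁆ ∈ R₁ := by
      rw [commutatorElement_def]
      apply hmemR₁ _ _ (key a ha r hr')
      exact R.mul_mem ((Subgroup.mem_normalizer_iff.mp (hA ha) r).mp hr') (R.inv_mem hr')
    rw [← commutatorElement_inv]
    exact R₁.inv_mem h1
  have : R = R₁ := le_antisymm hRR₁ hR₁R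
  rw [this, hR₁card]

/-- Let G be a finite group, p an odd prime, R a narrow p-subgroup and A a solvable subgroup of odd order normalizing R with A ∩ C_G(R) = 1. Then [A, A] ≤ O_p(A) and the index of O_p(A) in A is coprime to p; if R has an elementary abelian subgroup of order p ^ 3 then the order of every element of A of order coprime to p divides p − 1; and if the order of A is a prime not dividing p(p − 1), then 2·#A divides p + 1, and if in addition [R, A] = R and R is non-abelian then #R = p ^ 3. -/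
theorem result {G : Type*} [Group G] [Finite G] (p : ℕ) [Fact p.Prime] (hp : p ≠ 2) (R A : Subgroup G) (hR : IsPGroup p R) (hRn : Cfsg.IsNarrow p R)
    (hA : (A ≤ Subgroup.normalizer (R : Set G))) (hAs : Group.IsSolvable A) (hAodd : Odd (Nat.card A)) (hfaith : A ⊓ Subgroup.centralizer (R : Set G) = ⊥) :
    (commutator ↥A ≤ Cfsg.pCore p ↥A ∧ ((Cfsg.pCore p ↥A).index).Coprime p) ∧
      (¬ Cfsg.PRankLE p 2 R → ∀ a ∈ A, (orderOf a).Coprime p → orderOf a ∣ p - 1) ∧
      ((Nat.card A).Prime → ¬ Nat.card A ∣ p * (p - 1) →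
        2 * Nat.card A ∣ p + 1 ∧ (⁅R, A⁆ = R → ¬ IsMulCommutative R → Nat.card R = p ^ 3)) := by
  have hpp : Fact p.Prime := inferInstance
  have hcomm := isPGroup_commutator p hp R A hR hRn hA hAs hAodd hfaith
  -- part (b)
  have hb : ¬ Cfsg.PRankLE p 2 R → ∀ a ∈ A, (orderOf a).Coprime p → orderOf a ∣ p - 1 := by
    intro hr a ha hcop
    have haN : a ∈ Subgroup.normalizer (R : Set G) := hA ha
    have hk : (⟨a, haN⟩ : ↥(Subgroup.normalizer (R : Set G))) ^ (p - 1) ∈
        verbalPow ↥(Subgroup.normalizer (R : Set G)) (p - 1) := pow_mem_verbalPow _ _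
    have hcop' : (orderOf ((⟨a, haN⟩ : ↥(Subgroup.normalizer (R : Set G))) ^ (p - 1))).Coprime p := by
      apply Nat.Coprime.coprime_dvd_left (orderOf_pow_dvd (p - 1))
      rw [Subgroup.orderOf_mk]; exact hcop
    have hc := narrow_centralizes p hp R hR hRn hr _ hk hcop'
    have hmem : a ^ (p - 1) ∈ A ⊓ Subgroup.centralizer (R : Set G) := by
      refine Subgroup.mem_inf.mpr ⟨A.pow_mem ha _, ?_⟩
      rw [Subgroup.mem_centralizer_iff]
      intro r hr'
      have := hc r hr'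
      rw [Subgroup.coe_pow] at this
      exact this.symm
    rw [hfaith, Subgroup.mem_bot] at hmem
    exact orderOf_dvd_of_pow_eq_one hmem
  refine ⟨partA p A hcomm, hb, ?_⟩
  -- part (c)
  intro hq hnd
  have hqp : ¬ Nat.card A ∣ p := fun h => hnd (h.mul_right _)
  have hqp1 : ¬ Nat.card A ∣ p - 1 := fun h => hnd (h.mul_left _)
  have hAne : A ≠ ⊥ := by
    intro h
    rw [h, Subgroup.card_bot] at hq
    exact Nat.not_prime_one hq
  obtain ⟨a₀, ha₀, ha' ⟩ := (A.bot_or_exists_ne_one).resolve_left hAne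
  obtain ⟨a, rfl⟩ : ∃ a : A, (a : G) = a₀ := ⟨⟨a₀, ha₀⟩, rfl⟩
  have hord : orderOf (a : G) = Nat.card A := by
    have hd : orderOf (a : G) ∣ Nat.card A := by
      rw [Subgroup.orderOf_coe]; exact orderOf_dvd_natCard a
    rcases (Nat.dvd_prime hq).mp hd with h | h
    · exact absurd (orderOf_eq_one_iff.mp h) ha'
    · exact h
  have hcopp : (orderOf (a : G)).Coprime p := by
    rw [hord]; exact (Nat.Prime.coprime_iff_not_dvd hq).mpr hqp
  have hnc : ¬ ∀ r ∈ R, (a : G) * r = r * a := by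
    intro hc
    have : (a : G) ∈ A ⊓ Subgroup.centralizer (R : Set G) := by
      refine Subgroup.mem_inf.mpr ⟨a.2, ?_⟩
      rw [Subgroup.mem_centralizer_iff]
      intro r hr'
      exact (hc r hr').symm
    rw [hfaith, Subgroup.mem_bot] at this
    exact ha' this
  by_cases hr : Cfsg.PRankLE p 2 R
  · refine ⟨?_, fun hRA hnab => card_eq_cube p hp R A hR hr hA hAodd hq hqp hqp1 hRA hnab⟩
    -- q ∣ p + 1
    have hncop : ¬ (Nat.card A).Coprime ((p ^ 2 - 1) * (p ^ 2 - p)) := by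
      intro hcop
      apply hnc
      intro r hr'
      exact centralizes_of_rankLETwo_of_coprime_card_GL2 p hp (a : G) (by rw [hord]; exact hcop) R hR
        (rankLETwo_of_pRankLE p R hr) (hA a.2) r hr'
    have hdvd : Nat.card A ∣ (p ^ 2 - 1) * (p ^ 2 - p) := (Nat.Prime.dvd_iff_not_coprime hq).mpr hncop
    have hp1 : 1 ≤ p := hpp.out.pos
    obtain ⟨n, hn⟩ : ∃ n, p = n + 1 := ⟨p - 1, by omega⟩
    have e1 : p ^ 2 - 1 = (p - 1) * (p + 1) := by
      rw [hn]
      apply Nat.sub_eq_of_eq_add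
      simp only [Nat.add_sub_cancel]
      ring
    have e2 : p ^ 2 - p = p * (p - 1) := by
      rw [hn]
      apply Nat.sub_eq_of_eq_add
      simp only [Nat.add_sub_cancel]
      ring
    rw [e1, e2] at hdvd
    have hq1 : Nat.card A ∣ p + 1 := by
      rcases (Nat.Prime.dvd_mul hq).mp hdvd with h | h
      · rcases (Nat.Prime.dvd_mul hq).mp h with h' | h'
        · exact absurd h' hqp1
        · exact h'
      · rcases (Nat.Prime.dvd_mul hq).mp h with h' | h'
        · exact absurd h' hqp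
        · exact absurd h' hqp1
    have h2 : 2 ∣ p + 1 := by
      have hodd : Odd p := hpp.out.odd_of_ne_two hp
      obtain ⟨m, hm⟩ := hodd
      exact ⟨m + 1, by omega⟩
    have hcop2 : Nat.Coprime 2 (Nat.card A) := Nat.coprime_two_left.mpr hAodd
    exact Nat.Coprime.mul_dvd_of_dvd_of_dvd hcop2 h2 hq1
  · exfalso
    have := hb hr (a : G) a.2 hcopp
    rw [hord] at this
    exact hqp1 this

end Cfsg.Agent.S1454
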