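import Cfsg.Statements.S1458
import Cfsg.Agent.Lib.Helper29.ZJE6
import Cfsg.Agent.Lib.Helper64.MinSimpleOdd
import Cfsg.Agent.Lib.Helper54.PCores
import Cfsg.Agent.Lib.Helper22.SolvableLocal

set_option autoImplicit false
open Cfsg

namespace Cfsg.Agent.S1458

open Cfsg.Agent.Lib.Helper29 Cfsg.Agent.Lib.Helper33 Cfsg.Agent.Lib.Helper34

/-- Let G be a solvable group of odd order, p a prime and S a Sylow p-subgroup of G. Then the subgroup generated by the centre of the Thompson subgroup of S and O_{p'}(G) is normal in G. -/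
theorem result {G : Type*} [Group G] [Finite G] [Group.IsSolvable G] (hodd : Odd (Nat.card G)) (p : ℕ) [Fact p.Prime] (S : Sylow p G) :
    (Cfsg.centerThompsonOf p (S : Subgroup G) ⊔ Cfsg.pPrimeCore p G).Normal := by
  have hpp : p.Prime := Fact.out
  have hKn : (pPrimeCore p G).Normal := Cfsg.pPrimeCore_normal p G
  by_cases hp : p = 2
  · -- the Sylow `2`-subgroup of a group of odd order is trivial
    have hS : (S : Subgroup G) = ⊥ := by
      rw [← Subgroup.card_eq_one]
      obtain ⟨n, hn⟩ := IsPGroup.iff_card.mp S.isPGroup'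
      have hdvd : Nat.card (S : Subgroup G) ∣ Nat.card G := Subgroup.card_subgroup_dvd_card _
      rcases Nat.eq_zero_or_pos n with h0 | h0
      · rw [hn, h0, pow_zero]
      · exfalso
        have h2 : 2 ∣ Nat.card G := by
          refine dvd_trans ?_ hdvd
          rw [hn, hp]
          exact dvd_pow_self 2 h0.ne'
        exact (Nat.not_even_iff_odd.mpr hodd) (even_iff_two_dvd.mpr h2)
    have hZ : centerThompsonOf p (S : Subgroup G) = ⊥ := by
      rw [eq_bot_iff, ← hS]
      exact centerThompsonOf_le p _
    rw [hZ, bot_sup_eq]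
    exact hKn
  · set K := pPrimeCore p G with hKdef
    set π := QuotientGroup.mk' K with hπ
    have hsurj : Function.Surjective π := QuotientGroup.mk'_surjective K
    -- the quotient is constrained
    have hsolv : Group.IsSolvable (G ⧸ K) := Group.isSolvable_of_surjective hsurj
    have hoddQ : Odd (Nat.card (G ⧸ K)) :=
      Odd.of_dvd_nat hodd (Subgroup.card_dvd_of_surjective π hsurj)
    have hcon : Subgroup.centralizer (pCore p (G ⧸ K) : Set (G ⧸ K)) ≤ pCore p (G ⧸ K) := by
      rw [← Cfsg.Agent.Lib.Helper54.isPConstrained_iff_of_pPrimeCore_eq_bot p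
        (Cfsg.Agent.Lib.Helper54.pPrimeCore_quotient_pPrimeCore p)]
      exact Cfsg.Agent.Lib.Helper22.isPConstrained_of_isSolvable p hsolv
    have hsec : SecProp (ECN p) (G ⧸ K) := Cfsg.Agent.Lib.Helper64.secProp_ecn_of_odd_solvable hoddQ
    have hN := zje_normal hp _ (G ⧸ K) le_rfl hsec hcon (S.mapSurjective hsurj)
    rw [Sylow.coe_mapSurjective] at hN
    -- `π` is injective on `S`
    have hinj : ∀ x ∈ (S : Subgroup G), π x = 1 → x = 1 := by
      intro x hx h1
      have hxK : x ∈ K := by
        rw [← QuotientGroup.ker_mk' K]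
        exact h1
      have hcop : (orderOf x).Coprime p :=
        Cfsg.Agent.Lib.Helper54.orderOf_coprime_of_mem_pPrimeCore p hxK
      obtain ⟨k, hk⟩ := (IsPGroup.iff_orderOf.mp S.isPGroup') ⟨x, hx⟩
      rw [Subgroup.orderOf_mk] at hk
      have h5 : orderOf x = 1 := by
        have h6 : (orderOf x).Coprime (orderOf x) := by
          conv_rhs => rw [hk]
          exact Nat.Coprime.pow_right k hcop
        exact (Nat.coprime_self _).mp h6
      exact orderOf_eq_one_iff.mp h5
    have hmap : centerThompsonOf p ((S : Subgroup G).map π) = (centerThompsonOf p (S : Subgroup G)).map π := by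
      rw [← inducedFunctor_zjeFun, ← inducedFunctor_zjeFun]
      exact Cfsg.Agent.Lib.Helper34.inducedFunctor_map_of_injOn (zjeFun p) (isCharPFunctor_zjeFun p) π _ S.isPGroup' hinj
    rw [hmap] at hN
    have hcomap : ((centerThompsonOf p (S : Subgroup G)).map π).comap π =
        centerThompsonOf p (S : Subgroup G) ⊔ K := by
      rw [Subgroup.comap_map_eq, QuotientGroup.ker_mk']
    rw [← hcomap]
    exact hN.comap π

end Cfsg.Agent.S1458
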