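import Cfsg.Statements.S1462
import Mathlib
import Cfsg.Agent.Lib.Helper25.PLength2
import Cfsg.Agent.Lib.Helper24.ElemAb
import Cfsg.Agent.Lib.Helper24.Omega
import Cfsg.Agent.S0028

set_option autoImplicit false
open Cfsg

namespace Cfsg.Agent.S1462

/-- Let G be a finite solvable group, p an odd prime with G = O_{p',p,p'}(G), E an elementary abelian p-subgroup contained in no larger elementary abelian p-subgroup of G, and L a subgroup of order coprime to p normalized by E. Then L ≤ O_{p'}(G). -/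
theorem result {G : Type*} [Group G] [Finite G] [Group.IsSolvable G] (p : ℕ) [Fact p.Prime] (hp : p ≠ 2) (hpl : Cfsg.PLengthLE p 1 G) (E L : Subgroup G) (hE : Cfsg.IsElementaryAbelian p E)
    (hEmax : ∀ B : Subgroup G, Cfsg.IsElementaryAbelian p B → E ≤ B → B = E) (hL : (Nat.card L).Coprime p) (hEL : E ≤ Subgroup.normalizer (L : Set G)) :
    L ≤ Cfsg.pPrimeCore p G := by
  classical
  have hpp : p.Prime := Fact.out
  -- E is a p-group, contained in a Sylow subgroup S
  have hEp : IsPGroup p E := by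
    intro a
    refine ⟨1, ?_⟩
    rw [pow_one]
    apply Subtype.ext
    simpa using hE.2 a.1 a.2
  obtain ⟨S, hES⟩ := hEp.exists_le_sylow
  set K := Cfsg.pPrimeCore p G with hK
  have hKcop : (Nat.card K).Coprime p := Cfsg.Agent.Lib.Helper76.pPrimeCore_coprime p
  have hKS : ((K ⊔ (S : Subgroup G) : Subgroup G)).Normal :=
    Cfsg.Agent.Lib.Helper25.plength_one_pPrimeCore p hpl S
  set π := QuotientGroup.mk' K with hπdef
  have hπ : Function.Surjective π := QuotientGroup.mk'_surjective K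
  have hker : ∀ x : G, π x = 1 ↔ x ∈ K := fun x => QuotientGroup.eq_one_iff x
  -- K ∩ S = 1
  have hSK : ∀ s ∈ (S : Subgroup G), s ∈ K → s = 1 := by
    intro s hs hsK
    obtain ⟨n, hn⟩ := IsPGroup.iff_card.mp S.2
    have hcop : (Nat.card K).Coprime (Nat.card (S : Subgroup G)) := by
      rw [hn]
      exact Nat.Coprime.pow_right n hKcop
    have := (Subgroup.disjoint_of_coprime_natCard hcop).eq_bot
    have hmem : s ∈ K ⊓ (S : Subgroup G) := ⟨hsK, hs⟩
    rw [this, Subgroup.mem_bot] at hmem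
    exact hmem
  -- the image of S
  set P := (S : Subgroup G).map π with hP
  have hPn : P.Normal := by
    have h1 : ((K ⊔ (S : Subgroup G) : Subgroup G)).map π = P := by
      rw [Subgroup.map_sup, hP]
      have : K.map π = ⊥ := by
        rw [hπdef, QuotientGroup.map_mk'_self]
      rw [this, bot_sup_eq]
    rw [← h1]
    exact Subgroup.Normal.map hKS π hπ
  have hPp : IsPGroup p P := S.2.map π
  -- P is the (normal) Sylow subgroup of the quotient
  have hPsyl : ((S.mapSurjective hπ : Sylow p (G ⧸ K)) : Subgroup (G ⧸ K)) = P := rfl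
  have hPcore : Cfsg.pCore p (G ⧸ K) = P := by
    apply le_antisymm
    · exact Cfsg.Agent.Lib.Helper76.pCore_le_sylow p (S.mapSurjective hπ)
    · exact Cfsg.Agent.Lib.Helper76.le_pCore p P hPn hPp
  have hcent : Subgroup.centralizer (P : Set (G ⧸ K)) ≤ P := by
    have hsolv : Cfsg.IsPSolvable p (G ⧸ K) :=
      Cfsg.Agent.Lib.Helper25.isPSolvable_of_normal_sylow p (S.mapSurjective hπ) hPn
    have := Cfsg.Agent.Lib.Helper76.centralizer_pCore_le (G := G ⧸ K) p hsolv
      (Cfsg.Agent.Lib.Helper76.quotient_pPrimeCore_core_trivial (G := G) p)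
    rwa [hPcore] at this
  set Lb := L.map π with hLb
  set Eb := E.map π with hEb
  have hLbcop : (Nat.card Lb).Coprime p :=
    Nat.Coprime.coprime_dvd_left (Subgroup.card_map_dvd L π) hL
  have hEbP : Eb ≤ P := Subgroup.map_mono hES
  have hEbN : Eb ≤ Subgroup.normalizer (Lb : Set (G ⧸ K)) :=
    (Subgroup.map_mono hEL).trans (Subgroup.le_normalizer_map π)
  have hLorder : ∀ c ∈ Lb, c ∈ P → c = 1 := by
    intro c hcL hcP
    obtain ⟨k, hk⟩ := IsPGroup.iff_orderOf.mp hPp ⟨c, hcP⟩
    have h1 : orderOf c = p ^ k := by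
      rw [← hk]
      exact Subgroup.orderOf_coe (⟨c, hcP⟩ : P)
    have h2 : orderOf c ∣ Nat.card Lb := Subgroup.orderOf_dvd_natCard Lb hcL
    have h3 : (orderOf c).Coprime (Nat.card Lb) := by
      rw [h1]
      exact Nat.Coprime.pow_left k hLbcop.symm
    have h4 := Nat.Coprime.eq_one_of_dvd h3 h2
    exact orderOf_eq_one_iff.mp h4
  have hcomm : ∀ l ∈ Lb, ∀ e ∈ Eb, l * e = e * l := by
    intro l hl e he
    have hc1 : l * e * l⁻¹ * e⁻¹ ∈ P :=
      P.mul_mem (hPn.conj_mem e (hEbP he) l) (P.inv_mem (hEbP he))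
    have hc2 : l * e * l⁻¹ * e⁻¹ ∈ Lb := by
      have h5 : e * l⁻¹ * e⁻¹ ∈ Lb :=
        (Subgroup.mem_normalizer_iff.mp (hEbN he) l⁻¹).mp (Lb.inv_mem hl)
      have e2 : l * e * l⁻¹ * e⁻¹ = l * (e * l⁻¹ * e⁻¹) := by group
      rw [e2]
      exact Lb.mul_mem hl h5
    have h6 := hLorder _ hc2 hc1
    calc l * e = (l * e * l⁻¹ * e⁻¹) * (e * l) := by group
      _ = e * l := by rw [h6, one_mul]
  set Q := P ⊓ Subgroup.centralizer (Eb : Set (G ⧸ K)) with hQ
  have hQp : IsPGroup p Q := hPp.to_le inf_le_left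
  have hLQ : ∀ l ∈ Lb, l ∈ Subgroup.normalizer (Q : Set (G ⧸ K)) := by
    intro l hl
    rw [Subgroup.mem_normalizer_iff]
    intro x
    have aux : ∀ (m : G ⧸ K), m ∈ Lb → ∀ y ∈ Q, m * y * m⁻¹ ∈ Q := by
      intro m hm y hy
      refine ⟨hPn.conj_mem y hy.1 m, ?_⟩
      show m * y * m⁻¹ ∈ Subgroup.centralizer (Eb : Set (G ⧸ K))
      rw [Subgroup.mem_centralizer_iff]
      intro e he
      have h1 : e * y = y * e := Subgroup.mem_centralizer_iff.mp hy.2 e he
      have h2 : m * e = e * m := hcomm m hm e he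
      have h3 : m⁻¹ * e = e * m⁻¹ := by
        calc m⁻¹ * e = m⁻¹ * (e * m) * m⁻¹ := by group
          _ = m⁻¹ * (m * e) * m⁻¹ := by rw [h2]
          _ = e * m⁻¹ := by group
      calc e * (m * y * m⁻¹) = (e * m) * y * m⁻¹ := by group
        _ = (m * e) * y * m⁻¹ := by rw [h2]
        _ = m * (e * y) * m⁻¹ := by group
        _ = m * (y * e) * m⁻¹ := by rw [h1]
        _ = m * y * (e * m⁻¹) := by group
        _ = m * y * (m⁻¹ * e) := by rw [h3]
        _ = m * y * m⁻¹ * e := by group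
    constructor
    · exact aux l hl x
    · intro hx
      have h7 := aux l⁻¹ (Lb.inv_mem hl) _ hx
      have e3 : l⁻¹ * (l * x * l⁻¹) * l⁻¹⁻¹ = x := by group
      rwa [e3] at h7
  have hOmega : ∀ x ∈ Q, x ^ p = 1 → x ∈ Eb := by
    intro x hx hxp
    obtain ⟨s, hs, rfl⟩ := hx.1
    have hsp : s ^ p = 1 := by
      apply hSK _ (Subgroup.pow_mem _ hs p)
      rw [← hker, map_pow]
      exact hxp
    have hsE : s ∈ Subgroup.centralizer (E : Set G) := by
      rw [Subgroup.mem_centralizer_iff]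
      intro e he
      have h1 : π e * π s = π s * π e :=
        Subgroup.mem_centralizer_iff.mp hx.2 (π e) ⟨e, he, rfl⟩
      have h2 : e * s * e⁻¹ * s⁻¹ ∈ K := by
        rw [← hker]
        simp only [map_mul, map_inv]
        rw [h1]
        group
      have h3 : e * s * e⁻¹ * s⁻¹ ∈ (S : Subgroup G) :=
        (S : Subgroup G).mul_mem ((S : Subgroup G).mul_mem ((S : Subgroup G).mul_mem (hES he) hs)
          (inv_mem (hES he))) (inv_mem hs)
      have h4 := hSK _ h3 h2
      calc e * s = (e * s * e⁻¹ * s⁻¹) * (s * e) := by group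
        _ = s * e := by rw [h4, one_mul]
    have hB := Cfsg.Agent.Lib.Helper24.elemAb_adjoin p E hE.1 hE.2 s hsE hsp
    have hBE := hEmax _ ⟨hB.1, hB.2⟩ (Cfsg.Agent.Lib.Helper24.le_adjoin E s)
    have hsE' : s ∈ E := by
      rw [← hBE]
      exact Cfsg.Agent.Lib.Helper24.mem_adjoin E s
    exact ⟨s, hsE', rfl⟩
  have hLcentQ : Q ≤ Subgroup.centralizer (Lb : Set (G ⧸ K)) := by
    intro x hx
    rw [Subgroup.mem_centralizer_iff]
    intro l hl
    have hlord : (orderOf l).Coprime p :=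
      Nat.Coprime.coprime_dvd_left (Subgroup.orderOf_dvd_natCard Lb hl) hLbcop
    exact Cfsg.Agent.Lib.Helper24.centralizes_of_centralizes_omega p hp l hlord Q hQp (hLQ l hl)
      (fun y hy hyp => hcomm l hl y (hOmega y hy hyp)) x hx
  have hnormP : ∀ X : Subgroup (G ⧸ K), X ≤ Subgroup.normalizer (P : Set (G ⧸ K)) := by
    intro X x _
    rw [Subgroup.normalizer_eq_top]
    exact Subgroup.mem_top x
  have hAB := Cfsg.Agent.S0028.result p Eb Lb P (hPp.to_le hEbP) hLbcop hPp
    (fun e he => by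
      rw [Subgroup.mem_centralizer_iff]
      intro l hl
      exact hcomm l hl e he)
    (hnormP Eb) (hnormP Lb) hLcentQ
  have hLbP : Lb ≤ P := hAB.trans hcent
  intro x hx
  have h8 : π x ∈ Lb := ⟨x, hx, rfl⟩
  have h9 := hLorder _ h8 (hLbP h8)
  exact (hker x).mp h9

end Cfsg.Agent.S1462
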