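import Cfsg.Statements.S1463
import Mathlib
import Cfsg.Agent.Lib.Helper41.SL2OddOrder

set_option autoImplicit false
open scoped MatrixGroups
open Cfsg

namespace Cfsg.Agent.S1463

open Cfsg.Agent.Lib.Helper41

/-- the kernel of a non-zero `2 × 2` matrix is at most one-dimensional -/
theorem mem_span_of_ker {F : Type*} [Field F] (N : Matrix (Fin 2) (Fin 2) F) (hN : N ≠ 0)
    (v w : Fin 2 → F) (hv : v ≠ 0) (hNv : N.mulVec v = 0) (hNw : N.mulVec w = 0) :
    w ∈ Submodule.span F {v} := by
  have e0 := congrFun hNv 0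
  have e1 := congrFun hNv 1
  have f0 := congrFun hNw 0
  have f1 := congrFun hNw 1
  simp only [Matrix.mulVec, dotProduct, Fin.sum_univ_two, Pi.zero_apply] at e0 e1 f0 f1
  have hD : v 0 * w 1 - v 1 * w 0 = 0 := by
    by_contra hD
    apply hN
    have h00 : N 0 0 * (v 0 * w 1 - v 1 * w 0) = 0 := by linear_combination w 1 * e0 - v 1 * f0
    have h01 : N 0 1 * (v 0 * w 1 - v 1 * w 0) = 0 := by linear_combination -w 0 * e0 + v 0 * f0
    have h10 : N 1 0 * (v 0 * w 1 - v 1 * w 0) = 0 := by linear_combination w 1 * e1 - v 1 * f1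
    have h11 : N 1 1 * (v 0 * w 1 - v 1 * w 0) = 0 := by linear_combination -w 0 * e1 + v 0 * f1
    ext i j
    fin_cases i <;> fin_cases j
    · exact (mul_eq_zero.mp h00).resolve_right hD
    · exact (mul_eq_zero.mp h01).resolve_right hD
    · exact (mul_eq_zero.mp h10).resolve_right hD
    · exact (mul_eq_zero.mp h11).resolve_right hD
  rw [Submodule.mem_span_singleton]
  by_cases hv0 : v 0 = 0
  · have hv1 : v 1 ≠ 0 := by
      intro hv1
      apply hv
      funext i
      fin_cases i
      · exact hv0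
      · exact hv1
    refine ⟨w 1 / v 1, ?_⟩
    funext i
    fin_cases i
    · simp only [Fin.zero_eta, Fin.isValue, Pi.smul_apply, smul_eq_mul]
      rw [hv0] at hD ⊢
      have : v 1 * w 0 = 0 := by linear_combination -hD
      rcases mul_eq_zero.mp this with h | h
      · exact absurd h hv1
      · rw [h, mul_zero]
    · simp only [Fin.mk_one, Fin.isValue, Pi.smul_apply, smul_eq_mul]
      field_simp
  · refine ⟨w 0 / v 0, ?_⟩
    funext i
    fin_cases i
    · simp only [Fin.zero_eta, Fin.isValue, Pi.smul_apply, smul_eq_mul]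
      field_simp
    · simp only [Fin.mk_one, Fin.isValue, Pi.smul_apply, smul_eq_mul]
      field_simp
      linear_combination -hD

/-- Let F be a field of odd characteristic p and H a finite subgroup of odd order of GL(2, F) that leaves no 1-dimensional subspace of F² invariant. Then p does not divide the order of H. -/
theorem result {F : Type*} [Field F] (p : ℕ) [Fact p.Prime] [CharP F p] (hp : p ≠ 2)
    (H : Subgroup (GL (Fin 2) F)) [Finite H] (hodd : Odd (Nat.card H))
    (hirr : ∀ v : Fin 2 → F, v ≠ 0 → ∃ g ∈ H, (g : Matrix (Fin 2) (Fin 2) F).mulVec v ∉ Submodule.span F {v}) :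
    ¬ p ∣ Nat.card H := by
  intro hdvd
  have h2 : (2 : F) ≠ 0 := two_ne_zero_of_char p hp
  have hpp : p.Prime := Fact.out
  obtain ⟨h0, hh0⟩ := exists_prime_orderOf_dvd_card' p hdvd
  have hg0p : ((h0 : GL (Fin 2) F) : Matrix (Fin 2) (Fin 2) F) ^ p = 1 := by
    have h1 : h0 ^ p = 1 := by rw [← hh0]; exact pow_orderOf_eq_one h0
    have h3 : ((h0 ^ p : H) : GL (Fin 2) F) = 1 := by rw [h1]; rfl
    rw [Subgroup.coe_pow] at h3
    have h4 := congrArg (fun g : GL (Fin 2) F => (g : Matrix (Fin 2) (Fin 2) F)) h3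
    simpa using h4
  set G : Matrix (Fin 2) (Fin 2) F := ((h0 : GL (Fin 2) F) : Matrix (Fin 2) (Fin 2) F) with hG
  have hG1 : G ≠ 1 := by
    intro h1
    have : h0 = 1 := by
      apply Subtype.ext
      apply Units.ext
      exact h1
    rw [this, orderOf_one] at hh0
    exact hpp.one_lt.ne hh0
  have hnil : (G - 1) ^ p = 0 := by
    rw [sub_pow_char_of_commute p (Commute.one_right _), one_pow, hg0p, sub_self]
  have htr : G.trace = 2 := by
    have h1 : IsNilpotent (G - 1).trace := Matrix.isNilpotent_trace_of_isNilpotent ⟨p, hnil⟩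
    have h3 := h1.eq_zero
    rw [Matrix.trace_sub, Matrix.trace_one] at h3
    simp at h3
    linear_combination h3
  have hdet : G.det = 1 := by
    have h1 : G.det ^ p = 1 := by rw [← Matrix.det_pow, hg0p, Matrix.det_one]
    have h3 : (G.det - 1) ^ p = 0 := by rw [sub_pow_char, h1, one_pow, sub_self]
    exact sub_eq_zero.mp (pow_eq_zero_iff hpp.ne_zero |>.mp h3)
  -- the fixed vector
  have hdet0 : (G - 1).det = 0 := by
    rw [Matrix.det_fin_two]
    rw [Matrix.det_fin_two] at hdet
    rw [Matrix.trace_fin_two] at htr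
    simp only [Matrix.sub_apply, Matrix.one_apply_eq, ne_eq, zero_ne_one, not_false_eq_true,
      Matrix.one_apply_ne, sub_zero, one_ne_zero]
    linear_combination hdet - htr
  obtain ⟨v, hv, hGv⟩ := Matrix.exists_mulVec_eq_zero_iff.mpr hdet0
  obtain ⟨g, hgH, hgv⟩ := hirr v hv
  apply hgv
  -- the subgroup K of SL₂
  let K : Subgroup (Matrix.SpecialLinearGroup (Fin 2) F) := H.comap Matrix.SpecialLinearGroup.toGL
  let f : K →* H := (Matrix.SpecialLinearGroup.toGL.comp K.subtype).codRestrict H (fun x => x.2)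
  have hf : Function.Injective f := by
    intro x y hxy
    have h1 : Matrix.SpecialLinearGroup.toGL (x : Matrix.SpecialLinearGroup (Fin 2) F)
        = Matrix.SpecialLinearGroup.toGL (y : Matrix.SpecialLinearGroup (Fin 2) F) :=
      congrArg Subtype.val hxy
    exact Subtype.ext (Matrix.SpecialLinearGroup.toGL_injective h1)
  have : Finite K := Finite.of_injective f hf
  have hKodd : Odd (Nat.card K) := Odd.of_dvd_nat hodd (Subgroup.card_dvd_of_injective f hf)
  have hca := caOdd_of_odd p hp K hKodd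
  -- the unipotent elements
  let u0 : Matrix.SpecialLinearGroup (Fin 2) F := ⟨G, hdet⟩
  have hu0K : u0 ∈ K := by
    show Matrix.SpecialLinearGroup.toGL u0 ∈ H
    have : Matrix.SpecialLinearGroup.toGL u0 = (h0 : GL (Fin 2) F) := by
      apply Units.ext
      rfl
    rw [this]; exact h0.2
  have hu0tr : tr2 u0 = 2 := by
    rw [Matrix.trace_fin_two] at htr
    exact htr
  set Gi : Matrix (Fin 2) (Fin 2) F := ((g⁻¹ : GL (Fin 2) F) : Matrix (Fin 2) (Fin 2) F) with hGi
  set Gg : Matrix (Fin 2) (Fin 2) F := (g : Matrix (Fin 2) (Fin 2) F) with hGg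
  have hgi : Gi * Gg = 1 := by
    rw [hGi, hGg]
    have := Units.inv_mul g
    exact this
  have hgi' : Gg * Gi = 1 := by
    rw [hGi, hGg]
    have := Units.mul_inv g
    exact this
  have hdet' : (Gg * G * Gi).det = 1 := by
    rw [Matrix.det_mul, Matrix.det_mul, hdet, mul_one, ← Matrix.det_mul, hgi', Matrix.det_one]
  let u1 : Matrix.SpecialLinearGroup (Fin 2) F := ⟨Gg * G * Gi, hdet'⟩
  have hu1K : u1 ∈ K := by
    show Matrix.SpecialLinearGroup.toGL u1 ∈ H
    have : Matrix.SpecialLinearGroup.toGL u1 = g * (h0 : GL (Fin 2) F) * g⁻¹ := by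
      apply Units.ext
      rfl
    rw [this]
    exact H.mul_mem (H.mul_mem hgH h0.2) (H.inv_mem hgH)
  have hu1tr : tr2 u1 = 2 := by
    have : (Gg * G * Gi).trace = 2 := by
      rw [Matrix.trace_mul_comm, ← Matrix.mul_assoc, hgi, Matrix.one_mul, htr]
    rw [Matrix.trace_fin_two] at this
    exact this
  have hcomm : Commute (⟨u1, hu1K⟩ : K) ⟨u0, hu0K⟩ := hca.commute_of_U hu1tr hu0tr
  have hcomm' : u0 * u1 = u1 * u0 := by
    have := (commute_iff_coe _ _).mp hcomm
    exact this.symm
  -- u1 is not scalar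
  have hu1ns : ¬ IsScalarMat (u1 : Matrix (Fin 2) (Fin 2) F) := by
    intro hsc
    rcases eq_one_or_tr2_of_isScalarMat u1 hsc with h | h
    · apply hG1
      have h1 : Gg * G * Gi = 1 := congrArg Subtype.val h
      calc G = Gi * (Gg * G * Gi) * Gg := by
            rw [Matrix.mul_assoc, Matrix.mul_assoc, hgi, Matrix.mul_one, ← Matrix.mul_assoc, hgi,
              Matrix.one_mul]
        _ = 1 := by rw [h1, Matrix.mul_one, hgi]
    · rw [hu1tr] at h
      apply h2
      have : (2 : F) * 2 = 0 := by linear_combination h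
      rcases mul_eq_zero.mp this with h' | h' <;> exact h'
  obtain ⟨b, hb⟩ := exists_sub_one_eq_smul u1 u0 h2 hu1tr hu1ns hu0tr hcomm'
  -- (G - 1) (g v) = 0
  have hw : (G - 1).mulVec (Gg.mulVec v) = 0 := by
    have hb' : G - 1 = b • (Gg * G * Gi - 1) := hb
    rw [hb', Matrix.smul_mulVec, Matrix.sub_mulVec, Matrix.one_mulVec, Matrix.mulVec_mulVec,
      Matrix.mul_assoc, Matrix.mul_assoc, hgi, Matrix.mul_one, ← Matrix.mulVec_mulVec]
    have hGv' : G.mulVec v = v := by
      have := hGv
      rw [Matrix.sub_mulVec, Matrix.one_mulVec] at this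
      exact sub_eq_zero.mp this
    rw [hGv', sub_self, smul_zero]
  exact mem_span_of_ker (G - 1) (sub_ne_zero.mpr hG1) v (Gg.mulVec v) hv hGv hw

end Cfsg.Agent.S1463
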