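import Cfsg.Statements.S1475
import Cfsg.Agent.S0069
import Cfsg.Agent.S0003
import Mathlib

set_option autoImplicit false
open Cfsg

namespace Cfsg.Agent.S1475

/-- commuting nonidentity elements of an EPPO-group are `p`-elements for the same prime -/
theorem same_prime {G : Type*} [Group G] [Finite G]
    (h : ∀ g : G, IsPrimePow (orderOf g) ∨ g = 1) (x y : G) (hxy : Commute x y)
    (hx : x ≠ 1) (hy : y ≠ 1) :
    ∃ p : ℕ, p.Prime ∧ (∃ k : ℕ, 0 < k ∧ orderOf x = p ^ k) ∧ (∃ j : ℕ, 0 < j ∧ orderOf y = p ^ j) := by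
  rcases h x with hpx | hpx
  swap
  · exact absurd hpx hx
  rcases h y with hpy | hpy
  swap
  · exact absurd hpy hy
  rw [isPrimePow_nat_iff] at hpx hpy
  obtain ⟨p, k, hp, hk, hpk⟩ := hpx
  obtain ⟨q, j, hq, hj, hqj⟩ := hpy
  by_cases hpq : p = q
  · subst hpq
    exact ⟨p, hp, ⟨k, hk, hpk.symm⟩, ⟨j, hj, hqj.symm⟩⟩
  · exfalso
    have hcop : (orderOf x).Coprime (orderOf y) := by
      rw [← hpk, ← hqj]
      exact Nat.Coprime.pow _ _ ((Nat.coprime_primes hp hq).mpr hpq)
    have hord : orderOf (x * y) = p ^ k * q ^ j := by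
      rw [hxy.orderOf_mul_eq_mul_orderOf_of_coprime hcop, hpk, hqj]
    rcases h (x * y) with h1 | h1
    · rw [hord, isPrimePow_nat_iff] at h1
      obtain ⟨r, i, hr, hi, hri⟩ := h1
      have h2 : p ∣ r ^ i := by rw [hri]; exact dvd_mul_of_dvd_left (dvd_pow_self p hk.ne') _
      have h3 : q ∣ r ^ i := by rw [hri]; exact dvd_mul_of_dvd_right (dvd_pow_self q hj.ne') _
      have h4 : p = r := (Nat.prime_dvd_prime_iff_eq hp hr).mp (hp.dvd_of_dvd_pow h2)
      have h5 : q = r := (Nat.prime_dvd_prime_iff_eq hq hr).mp (hq.dvd_of_dvd_pow h3)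
      exact hpq (h4.trans h5.symm)
    · rw [h1, orderOf_one] at hord
      have : 1 < p ^ k * q ^ j := by
        have h2 : 1 < p ^ k := Nat.one_lt_pow hk.ne' hp.one_lt
        have h3 : 0 < q ^ j := pow_pos hq.pos j
        nlinarith
      omega

/-- a nontrivial finite solvable group has a nontrivial abelian normal subgroup -/
theorem exists_normal_abelian {G : Type*} [Group G] [Group.IsSolvable G] [Nontrivial G] :
    ∃ A : Subgroup G, A.Normal ∧ A ≠ ⊥ ∧ ∀ x ∈ A, ∀ y ∈ A, x * y = y * x := by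
  classical
  have hs : ∃ n, derivedSeries G n = ⊥ := Group.IsSolvable.solvable
  have hn0 : Nat.find hs ≠ 0 := by
    intro h0
    have := Nat.find_spec hs
    rw [h0, derivedSeries_zero] at this
    exact top_ne_bot this
  obtain ⟨m, hm⟩ := Nat.exists_eq_succ_of_ne_zero hn0
  refine ⟨derivedSeries G m, inferInstance, ?_, ?_⟩
  · exact Nat.find_min hs (by omega : m < Nat.find hs)
  · have h1 : derivedSeries G (m + 1) = ⊥ := by
      have := Nat.find_spec hs
      rwa [hm] at this
    rw [derivedSeries_succ] at h1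
    have h2 := Subgroup.commutator_eq_bot_iff_le_centralizer.mp h1
    intro x hx y hy
    have := Subgroup.mem_centralizer_iff.mp (h2 hx) y hy
    exact this.symm

/-- Let G be a finite solvable group such that the order of every element is a prime power (1 included). Then at most two distinct primes divide the order of G. -/
theorem result {G : Type*} [Group G] [Finite G] [Group.IsSolvable G] (h : ∀ g : G, IsPrimePow (orderOf g) ∨ g = 1) :
    (Nat.card G).primeFactors.card ≤ 2 := by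
  rcases subsingleton_or_nontrivial G with hsub | hnt
  · rw [Nat.card_eq_one_iff_unique.mpr ⟨hsub, ⟨1⟩⟩]
    simp
  obtain ⟨A, hAn, hA1, hAc⟩ := exists_normal_abelian (G := G)
  -- a nonidentity element of A
  obtain ⟨x, hxA, hx1⟩ : ∃ x ∈ A, x ≠ 1 := by
    by_contra hcon
    push Not at hcon
    exact hA1 ((Subgroup.eq_bot_iff_forall A).mpr hcon)
  obtain ⟨p, hp, ⟨k, hk, hxk⟩, -⟩ := same_prime h x x (Commute.refl x) hx1 hx1
  have hpF : Fact p.Prime := ⟨hp⟩
  -- every nonidentity element commuting with x is a p-element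
  have hpel : ∀ y : G, Commute x y → y ≠ 1 → ∃ j : ℕ, 0 < j ∧ orderOf y = p ^ j := by
    intro y hxy hy1
    obtain ⟨q, hq, ⟨k', hk', hxk'⟩, hy⟩ := same_prime h x y hxy hx1 hy1
    have : p = q := by
      have h1 : p ∣ q ^ k' := by rw [← hxk', hxk]; exact dvd_pow_self p hk.ne'
      exact (Nat.prime_dvd_prime_iff_eq hp hq).mp (hp.dvd_of_dvd_pow h1)
    subst this
    exact hy
  -- Hall p'-subgroup
  obtain ⟨a, m, hpm, hcard⟩ := Nat.exists_eq_pow_mul_and_not_dvd (Nat.card_pos (α := G)).ne' p hp.ne_one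
  have hcop : m.Coprime (p ^ a) :=
    Nat.Coprime.pow_right a ((Nat.Prime.coprime_iff_not_dvd hp).mpr hpm).symm
  obtain ⟨H, hH⟩ := Cfsg.Agent.S0003.result m (p ^ a) (by rw [hcard, mul_comm]) hcop
  by_cases hm1 : m = 1
  · -- G is a p-group
    rw [hcard, hm1, mul_one]
    have hsub : (p ^ a).primeFactors ⊆ {p} := by
      intro r hr
      rw [Nat.mem_primeFactors] at hr
      obtain ⟨hrp, hrd, -⟩ := hr
      rw [Finset.mem_singleton]
      exact (Nat.prime_dvd_prime_iff_eq hrp hp).mp (hrp.dvd_of_dvd_pow hrd)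
    exact (Finset.card_le_card hsub).trans (by simp)
  have hHne : H ≠ ⊥ := by
    intro hbot
    rw [hbot, Subgroup.card_bot] at hH
    exact hm1 hH.symm
  -- elements of H have order prime to p
  have hHp : ∀ g ∈ H, ¬ p ∣ orderOf g := by
    intro g hg hdvd
    have h1 : orderOf g ∣ m := by
      rw [← hH]
      have := orderOf_dvd_natCard (⟨g, hg⟩ : H)
      rwa [Subgroup.orderOf_mk] at this
    exact hpm (hdvd.trans h1)
  -- fixed-point-free action on A
  have hfpf : ∀ g ∈ H, g ≠ 1 → A ⊓ Subgroup.centralizer {g} = ⊥ := by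
    intro g hg hg1
    rw [eq_bot_iff]
    intro y hy
    rw [Subgroup.mem_bot]
    by_contra hy1
    obtain ⟨hyA, hyC⟩ := Subgroup.mem_inf.mp hy
    -- y commutes with x (A abelian) hence is a p-element; g commutes with y
    obtain ⟨j, hj, hyj⟩ := hpel y (hAc x hxA y hyA) hy1
    have hgy : Commute y g := by
      have := Subgroup.mem_centralizer_iff.mp hyC g (Set.mem_singleton g)
      exact this.symm
    obtain ⟨q, hq, ⟨j', hj', hyj'⟩, ⟨i, hi, hgi⟩⟩ := same_prime h y g hgy hy1 hg1
    have hpq : p = q := by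
      have h1 : p ∣ q ^ j' := by rw [← hyj', hyj]; exact dvd_pow_self p hj.ne'
      exact (Nat.prime_dvd_prime_iff_eq hp hq).mp (hp.dvd_of_dvd_pow h1)
    subst hpq
    exact hHp g hg (by rw [hgi]; exact dvd_pow_self p hi.ne')
  have hcen := Cfsg.Agent.S0069.center_ne_bot_of_fpf A H hA1 hHne hfpf
  obtain ⟨z, hzc, hz1⟩ : ∃ z ∈ Subgroup.center H, z ≠ 1 := by
    by_contra hcon
    push Not at hcon
    exact hcen ((Subgroup.eq_bot_iff_forall _).mpr hcon)
  have hzG1 : (z : G) ≠ 1 := fun e => hz1 (Subtype.ext e)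
  obtain ⟨q, hq, ⟨i, hi, hzi⟩, -⟩ := same_prime h (z : G) (z : G) (Commute.refl _) hzG1 hzG1
  have hqF : Fact q.Prime := ⟨hq⟩
  -- H is a q-group
  have hHq : IsPGroup q H := by
    intro g
    by_cases hg1 : g = 1
    · exact ⟨0, by rw [hg1, one_pow]⟩
    have hgG1 : (g : G) ≠ 1 := fun e => hg1 (Subtype.ext e)
    have hcomm : Commute (z : G) (g : G) := by
      have := Subgroup.mem_center_iff.mp hzc g
      have e := congrArg Subtype.val this
      simp only [Subgroup.coe_mul] at e
      exact e.symm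
    obtain ⟨q', hq', ⟨i', hi', hzi'⟩, ⟨j, hj, hgj⟩⟩ := same_prime h (z : G) (g : G) hcomm hzG1 hgG1
    have hqq : q = q' := by
      have h1 : q ∣ q' ^ i' := by rw [← hzi', hzi]; exact dvd_pow_self q hi.ne'
      exact (Nat.prime_dvd_prime_iff_eq hq hq').mp (hq.dvd_of_dvd_pow h1)
    subst hqq
    refine ⟨j, ?_⟩
    apply Subtype.ext
    simp only [Subgroup.coe_pow, Subgroup.coe_one]
    rw [← hgj, pow_orderOf_eq_one]
  obtain ⟨b, hb⟩ := (IsPGroup.iff_card.mp hHq)
  rw [hcard, ← hH, hb]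
  have hsub : (p ^ a * q ^ b).primeFactors ⊆ {p, q} := by
    intro r hr
    rw [Nat.mem_primeFactors] at hr
    obtain ⟨hrp, hrd, -⟩ := hr
    rw [Finset.mem_insert, Finset.mem_singleton]
    rcases (Nat.Prime.dvd_mul hrp).mp hrd with h1 | h1
    · left; exact (Nat.prime_dvd_prime_iff_eq hrp hp).mp (hrp.dvd_of_dvd_pow h1)
    · right; exact (Nat.prime_dvd_prime_iff_eq hrp hq).mp (hrp.dvd_of_dvd_pow h1)
  exact (Finset.card_le_card hsub).trans Finset.card_le_two

end Cfsg.Agent.S1475
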