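import Cfsg.Statements.S1485
import Mathlib
import Cfsg.Agent.Lib.Helper75.Clifford

set_option autoImplicit false
open Cfsg

namespace Cfsg.Agent.S1485

open Cfsg.Agent.Lib.Helper75

section

variable {G : Type*} [Group G] [Fintype G] (N : Subgroup G) [hN : N.Normal]

omit [Fintype G] in
/-- the number of `x` with `θ^{x⁻¹} = θ^{g₀}` is the order of the stabilizer of `θ` -/
theorem card_fiber (θ : N → ℂ) (g₀ : G) :
    Nat.card {x : G // Cfsg.Agent.Lib.Helper75.conjFun N x⁻¹ θ = Cfsg.Agent.Lib.Helper75.conjFun N g₀ θ} = Nat.card {g : G // Cfsg.Agent.Lib.Helper75.conjFun N g θ = θ} := by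
  apply Nat.card_congr
  refine ⟨fun x => ⟨x.1⁻¹ * g₀⁻¹, ?_⟩, fun g => ⟨(g.1 * g₀)⁻¹, ?_⟩, ?_, ?_⟩
  · rw [conjFun_mul, x.2, conjFun_inv_conjFun]
  · have h1 : Cfsg.Agent.Lib.Helper75.conjFun N (g.1 * g₀) θ = Cfsg.Agent.Lib.Helper75.conjFun N g₀ θ := by
      rw [conjFun_mul, g.2]
    rw [inv_inv]
    exact h1
  · intro x
    apply Subtype.ext
    simp
  · intro g
    apply Subtype.ext
    simp

end

/-- Let H be a normal subgroup of the finite group G and θ an irreducible character of H. On H, the function induced from θ equals r times the sum of the distinct G-conjugates of θ, where r is the number of elements of G fixing θ under conjugation divided by the order of H (the index of H in the inertia group). -/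
theorem result {G : Type*} [Group G] [Fintype G] (H : Subgroup G) [hN : H.Normal] (θ : H → ℂ) (hθ : Cfsg.IsIrrCharacter H θ) : (fun h : H => Cfsg.indFun H θ h) = ((Nat.card {g : G // ∀ h : H, θ ⟨g * h * g⁻¹, hN.conj_mem h h.2 g⟩ = θ h} : ℂ) / (Nat.card H : ℂ)) • ∑ᶠ ψ ∈ {ψ : H → ℂ | ∃ g : G, ψ = fun h : H => θ ⟨g * h * g⁻¹, hN.conj_mem h h.2 g⟩}, ψ := by
  classical
  have : Fintype H := Fintype.ofFinite H
  rw [finsum_conj_eq_sum_conjOrbit H hθ hN]
  -- the stabilizer set in `conjFun` form
  have hstab : Nat.card {g : G // ∀ h : H, θ ⟨g * h * g⁻¹, hN.conj_mem h h.2 g⟩ = θ h}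
      = Nat.card {g : G // Cfsg.Agent.Lib.Helper75.conjFun H g θ = θ} := by
    apply Nat.card_congr
    apply Equiv.subtypeEquivRight
    intro g
    constructor
    · intro h
      funext n
      exact h n
    · intro h n
      exact congrFun h n
  rw [hstab]
  set t := Nat.card {g : G // Cfsg.Agent.Lib.Helper75.conjFun H g θ = θ} with ht
  -- the map x ↦ θ^{x⁻¹} as an irreducible character
  let F : G → Cfsg.IrrCharacter H := fun x => ⟨Cfsg.Agent.Lib.Helper75.conjFun H x⁻¹ θ, isIrrCharacter_conjFun H hθ x⁻¹⟩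
  have hmaps : ∀ x ∈ (Finset.univ : Finset G), F x ∈ conjOrbit H θ := by
    intro x _
    exact (mem_conjOrbit H).mpr ⟨x⁻¹, rfl⟩
  have hsum : ∑ x : G, Cfsg.Agent.Lib.Helper75.conjFun H x⁻¹ θ = (t : ℂ) • ∑ φ ∈ conjOrbit H θ, (φ : H → ℂ) := by
    have h1 := Finset.sum_fiberwise_of_maps_to hmaps (fun x => ((F x : Cfsg.IrrCharacter H) : H → ℂ))
    have h2 : ∑ x : G, Cfsg.Agent.Lib.Helper75.conjFun H x⁻¹ θ = ∑ x : G, ((F x : Cfsg.IrrCharacter H) : H → ℂ) := rfl
    rw [h2, ← h1, Finset.smul_sum]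
    apply Finset.sum_congr rfl
    intro φ hφ
    obtain ⟨g₀, hg₀⟩ := (mem_conjOrbit H).mp hφ
    have h3 : ∀ x ∈ Finset.univ.filter (fun x => F x = φ), ((F x : Cfsg.IrrCharacter H) : H → ℂ) = (φ : H → ℂ) := by
      intro x hx
      rw [(Finset.mem_filter.mp hx).2]
    rw [Finset.sum_congr rfl h3, Finset.sum_const]
    have h4 : (Finset.univ.filter (fun x => F x = φ)).card = t := by
      rw [ht, ← card_fiber H θ g₀, Nat.card_eq_fintype_card, Fintype.card_subtype]
      congr 1
      ext x
      simp only [Finset.mem_filter, Finset.mem_univ, true_and]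
      constructor
      · intro h
        have := congrArg Subtype.val h
        rw [hg₀]
        exact this
      · intro h
        apply Subtype.ext
        rw [← hg₀]
        exact h
    rw [h4]
    exact (Nat.cast_smul_eq_nsmul ℂ t _).symm
  funext n
  rw [indFun_res_normal H θ n]
  have h5 := congrFun hsum n
  rw [Finset.sum_apply] at h5
  rw [h5, Pi.smul_apply, Pi.smul_apply, smul_eq_mul, smul_eq_mul]
  ring

end Cfsg.Agent.S1485
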