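import Cfsg.Statements.S1487
import Mathlib
import Cfsg.Agent.Lib.Helper75.Clifford
import Cfsg.Agent.Lib.Helper79.Integrality

set_option autoImplicit false
open Cfsg

namespace Cfsg.Agent.S1487

/-- if complex numbers of norm at most `d` sum to `card * d`, they are all equal to `d` -/
theorem all_eq_of_sum_eq {ι : Type*} [Fintype ι] (z : ι → ℂ) (d : ℝ) (hz : ∀ i, ‖z i‖ ≤ d)
    (hs : ∑ i, z i = (Fintype.card ι : ℂ) * (d : ℂ)) : ∀ i, z i = (d : ℂ) := by
  have hre : ∀ i, (z i).re ≤ d := fun i => (Complex.re_le_norm (z i)).trans (hz i)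
  have hsum : ∑ i, (d - (z i).re) = 0 := by
    rw [Finset.sum_sub_distrib]
    have h1 : ∑ i, (z i).re = (Fintype.card ι : ℝ) * d := by
      have := congrArg Complex.re hs
      rw [Complex.re_sum] at this
      rw [this]
      simp
    rw [h1]
    simp
  have hnonneg : ∀ i ∈ (Finset.univ : Finset ι), 0 ≤ d - (z i).re := fun i _ => sub_nonneg.mpr (hre i)
  have hzero := (Finset.sum_eq_zero_iff_of_nonneg hnonneg).mp hsum
  intro i
  have hre_eq : (z i).re = d := by
    have := hzero i (Finset.mem_univ i)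
    linarith
  have him : (z i).im = 0 := by
    have h1 : ‖z i‖ ^ 2 ≤ d ^ 2 := by
      have h0 : 0 ≤ ‖z i‖ := norm_nonneg _
      exact pow_le_pow_left₀ h0 (hz i) 2
    rw [Complex.sq_norm, Complex.normSq_apply, hre_eq] at h1
    have h2 : (z i).im * (z i).im ≤ 0 := by nlinarith
    have h3 : 0 ≤ (z i).im * (z i).im := mul_self_nonneg _
    have h4 : (z i).im * (z i).im = 0 := le_antisymm h2 h3
    exact mul_self_eq_zero.mp h4
  apply Complex.ext
  · simp [hre_eq]
  · simp [him]

/-- Let A ≤ H be normal subgroups of the finite group G and θ an irreducible character of H. Then θ takes the value θ 1 on all of A if and only if the function induced from θ to G takes its value at 1 on all of A. -/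
theorem result {G : Type*} [Group G] [Fintype G] (A H : Subgroup G) [A.Normal] [H.Normal] (hAH : A ≤ H) (θ : H → ℂ) (hθ : Cfsg.IsIrrCharacter H θ) : (∀ a : H, (a : G) ∈ A → θ a = θ 1) ↔ (∀ a : G, a ∈ A → Cfsg.indFun H θ a = Cfsg.indFun H θ 1) := by
  classical
  have : Fintype H := Fintype.ofFinite H
  have hAn : ∀ a : G, a ∈ A → ∀ x : G, x⁻¹ * a * x ∈ A := by
    intro a ha x
    have := (inferInstance : A.Normal).conj_mem a ha x⁻¹
    rwa [inv_inv] at this
  have hcard : (Nat.card H : ℂ) ≠ 0 := Nat.cast_ne_zero.mpr Nat.card_pos.ne'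
  -- value at 1
  have hone : Cfsg.indFun H θ 1 = (Nat.card H : ℂ)⁻¹ * ((Fintype.card G : ℂ) * θ 1) := by
    have h1 := Cfsg.Agent.Lib.Helper75.indFun_res_normal H θ 1
    have h2 : ∀ x : G, Cfsg.Agent.Lib.Helper75.conjFun H x⁻¹ θ 1 = θ 1 := by
      intro x
      rw [Cfsg.Agent.Lib.Helper75.conjFun_apply]
      congr 1
      apply Subtype.ext
      simp
    rw [Finset.sum_congr rfl (fun x _ => h2 x)] at h1
    rw [show ((1 : H) : G) = 1 from rfl] at h1
    rw [h1]
    simp
  constructor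
  · intro hθA a ha
    have haH : a ∈ H := hAH ha
    have h1 := Cfsg.Agent.Lib.Helper75.indFun_res_normal H θ ⟨a, haH⟩
    have h2 : ∀ x : G, Cfsg.Agent.Lib.Helper75.conjFun H x⁻¹ θ ⟨a, haH⟩ = θ 1 := by
      intro x
      rw [Cfsg.Agent.Lib.Helper75.conjFun_apply]
      apply hθA
      show x⁻¹ * a * x⁻¹⁻¹ ∈ A
      rw [inv_inv]
      exact hAn a ha x
    rw [Finset.sum_congr rfl (fun x _ => h2 x)] at h1
    change Cfsg.indFun H θ a = _ at h1
    rw [h1, hone]
    simp
  · intro hind a ha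
    have hchar : Cfsg.IsCharacter H θ := Cfsg.Agent.Lib.Helper78.IsIrrCharacter.isCharacter hθ
    set d : ℝ := (Cfsg.charDegree θ : ℝ) with hd
    have hθ1 : θ 1 = (d : ℂ) := by
      rw [Cfsg.Agent.Lib.Helper78.IsCharacter.apply_one_eq_charDegree hchar, hd]
      simp
    have h1 := Cfsg.Agent.Lib.Helper75.indFun_res_normal H θ a
    have h2 := hind (a : G) ha
    rw [h1, hone] at h2
    have h3 : ∑ x : G, Cfsg.Agent.Lib.Helper75.conjFun H x⁻¹ θ a = (Fintype.card G : ℂ) * (d : ℂ) := by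
      rw [← hθ1]
      exact mul_left_cancel₀ (inv_ne_zero hcard) h2
    have hnorm : ∀ x : G, ‖Cfsg.Agent.Lib.Helper75.conjFun H x⁻¹ θ a‖ ≤ d := by
      intro x
      have hc := Cfsg.Agent.Lib.Helper75.isCharacter_conjFun H hchar x⁻¹
      have h4 := Cfsg.Agent.Lib.Helper79.isCharacter_norm_le hc a
      have h5 : Cfsg.charDegree (Cfsg.Agent.Lib.Helper75.conjFun H x⁻¹ θ) = Cfsg.charDegree θ := by
        have e1 := Cfsg.Agent.Lib.Helper78.IsCharacter.apply_one_eq_charDegree hc
        have e2 := Cfsg.Agent.Lib.Helper78.IsCharacter.apply_one_eq_charDegree hchar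
        have e3 : Cfsg.Agent.Lib.Helper75.conjFun H x⁻¹ θ 1 = θ 1 := by
          rw [Cfsg.Agent.Lib.Helper75.conjFun_apply]
          congr 1
          apply Subtype.ext
          simp
        rw [e3, e2] at e1
        exact_mod_cast e1.symm
      rw [h5] at h4
      exact h4
    have h6 := all_eq_of_sum_eq (fun x : G => Cfsg.Agent.Lib.Helper75.conjFun H x⁻¹ θ a) d hnorm h3 1
    simp only [inv_one] at h6
    rw [Cfsg.Agent.Lib.Helper75.conjFun_one] at h6
    rw [h6, hθ1]

end Cfsg.Agent.S1487
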