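import Cfsg.Statements.S1488
import Mathlib.GroupTheory.Sylow

set_option autoImplicit false
open Cfsg

namespace Cfsg.Agent.S1488

open Classical in
theorem card_fiber {G : Type*} [Group G] [Fintype G] (A : Subgroup G) [A.Normal] [Fintype (G ⧸ A)] (y : G ⧸ A) :
    (Finset.univ.filter (fun x : G => (QuotientGroup.mk' A x : G ⧸ A) = y)).card = Nat.card A := by
  have h := QuotientGroup.card_preimage_mk A ({y} : Set (G ⧸ A))
  have h1 : Nat.card ({y} : Set (G ⧸ A)) = 1 := by simp
  rw [h1, mul_one] at h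
  rw [← h, Nat.card_eq_fintype_card, Fintype.card_subtype]
  congr 1
  apply Finset.ext
  intro x
  rw [Finset.mem_filter, Finset.mem_filter]
  simp

open Classical in
theorem sum_comp_mk {G : Type*} [Group G] [Fintype G] (A : Subgroup G) [A.Normal] [Fintype (G ⧸ A)]
    (F : G ⧸ A → ℂ) :
    ∑ x : G, F (QuotientGroup.mk' A x) = (Nat.card A : ℂ) * ∑ y : G ⧸ A, F y := by
  rw [← Finset.sum_fiberwise' Finset.univ (fun x : G => (QuotientGroup.mk' A x : G ⧸ A)) F, Finset.mul_sum]
  apply Finset.sum_congr rfl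
  intro y _
  rw [Finset.sum_const, nsmul_eq_mul, card_fiber]

theorem extend_eq {G : Type*} [Group G] (A H : Subgroup G) [A.Normal] (hAH : A ≤ H)
    (θ : H → ℂ) (θ₁ : ↥(H.map (QuotientGroup.mk' A)) → ℂ)
    (hθ : ∀ x : H, θ₁ ⟨QuotientGroup.mk' A x, Subgroup.mem_map_of_mem _ x.2⟩ = θ x) (z : G) :
    Cfsg.extendByZero (H.map (QuotientGroup.mk' A)) θ₁ (QuotientGroup.mk' A z) =
      Cfsg.extendByZero H θ z := by
  unfold Cfsg.extendByZero
  by_cases hz : z ∈ H
  · have h1 : Function.extend (Subtype.val : H → G) θ 0 z = θ ⟨z, hz⟩ :=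
      Subtype.val_injective.extend_apply θ 0 ⟨z, hz⟩
    have h2 : Function.extend (Subtype.val : ↥(H.map (QuotientGroup.mk' A)) → G ⧸ A) θ₁ 0 (QuotientGroup.mk' A z)
        = θ₁ ⟨QuotientGroup.mk' A z, Subgroup.mem_map_of_mem _ hz⟩ :=
      Subtype.val_injective.extend_apply θ₁ 0 ⟨QuotientGroup.mk' A z, Subgroup.mem_map_of_mem _ hz⟩
    rw [h1, h2]
    exact hθ ⟨z, hz⟩
  · have h1 : Function.extend (Subtype.val : H → G) θ 0 z = 0 := by
      apply Function.extend_apply'
      rintro ⟨a, rfl⟩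
      exact hz a.2
    have h2 : Function.extend (Subtype.val : ↥(H.map (QuotientGroup.mk' A)) → G ⧸ A) θ₁ 0 (QuotientGroup.mk' A z) = 0 := by
      apply Function.extend_apply'
      rintro ⟨a, ha⟩
      apply hz
      obtain ⟨w, hw, hw2⟩ := Subgroup.mem_map.mp a.2
      rw [ha] at hw2
      have : w⁻¹ * z ∈ A := by
        rw [← QuotientGroup.eq]
        exact hw2
      have : w * (w⁻¹ * z) ∈ H := H.mul_mem hw (hAH this)
      simpa using this
    rw [h1, h2]

/-- Let A be a normal subgroup of the finite group G contained in the subgroup H, let θ be a function on H and θ₁ a function on the image of H in G ⧸ A whose composite with the projection is θ. Then the function induced from θ₁ to G ⧸ A, composed with the projection G → G ⧸ A, equals the function induced from θ to G. -/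
theorem result {G : Type*} [Group G] [Fintype G] (A H : Subgroup G) [A.Normal] (hAH : A ≤ H) [Fintype (G ⧸ A)] [Fintype ↥(H.map (QuotientGroup.mk' A))] (θ : H → ℂ) (θ₁ : ↥(H.map (QuotientGroup.mk' A)) → ℂ) (hθ : ∀ x : H, θ₁ ⟨QuotientGroup.mk' A x, Subgroup.mem_map_of_mem _ x.2⟩ = θ x) (g : G) : Cfsg.indFun (H.map (QuotientGroup.mk' A)) θ₁ (QuotientGroup.mk' A g) = Cfsg.indFun H θ g := by
  unfold Cfsg.indFun
  have hsum : ∑ x : G, Cfsg.extendByZero H θ (x⁻¹ * g * x) =
      (Nat.card A : ℂ) * ∑ y : G ⧸ A, Cfsg.extendByZero (H.map (QuotientGroup.mk' A)) θ₁ (y⁻¹ * QuotientGroup.mk' A g * y) := by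
    rw [← sum_comp_mk A (fun y => Cfsg.extendByZero (H.map (QuotientGroup.mk' A)) θ₁ (y⁻¹ * QuotientGroup.mk' A g * y))]
    apply Finset.sum_congr rfl
    intro x _
    rw [← extend_eq A H hAH θ θ₁ hθ]
    simp
  have hcard : (Nat.card H : ℂ) = (Nat.card A : ℂ) * (Nat.card ↥(H.map (QuotientGroup.mk' A)) : ℂ) := by
    have h := QuotientGroup.card_preimage_mk A ((H.map (QuotientGroup.mk' A) : Subgroup (G ⧸ A)) : Set (G ⧸ A))
    have hpre : (QuotientGroup.mk ⁻¹' ((H.map (QuotientGroup.mk' A) : Subgroup (G ⧸ A)) : Set (G ⧸ A)) : Set G) = (H : Set G) := by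
      ext z
      simp only [Set.mem_preimage, SetLike.mem_coe]
      constructor
      · intro hz
        obtain ⟨w, hw, hw2⟩ := Subgroup.mem_map.mp hz
        have : w⁻¹ * z ∈ A := by
          rw [← QuotientGroup.eq]
          exact hw2
        have : w * (w⁻¹ * z) ∈ H := H.mul_mem hw (hAH this)
        simpa using this
      · intro hz
        exact Subgroup.mem_map_of_mem _ hz
    rw [hpre] at h
    have h' : Nat.card H = Nat.card A * Nat.card ↥(H.map (QuotientGroup.mk' A)) := h
    rw [h']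
    push_cast
    rfl
  have hA0 : (Nat.card A : ℂ) ≠ 0 := by
    have : 0 < Nat.card A := Nat.card_pos
    exact_mod_cast this.ne'
  have hH0 : (Nat.card ↥(H.map (QuotientGroup.mk' A)) : ℂ) ≠ 0 := by
    have : 0 < Nat.card ↥(H.map (QuotientGroup.mk' A)) := Nat.card_pos
    exact_mod_cast this.ne'
  rw [hsum, hcard]
  field_simp

end Cfsg.Agent.S1488
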