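import Cfsg.Statements.S1492
import Mathlib
import Cfsg.Agent.Lib.Helper25.Constituent
import Cfsg.Agent.Lib.Helper77.CenterIrr
import Cfsg.Agent.Lib.Helper75.Clifford
import Cfsg.Agent.S0148

set_option autoImplicit false
open Cfsg

namespace Cfsg.Agent.S1492

/-- Let ψ be an irreducible character of the finite group G and B ≤ D ≤ C subgroups with B normal in C, every commutator of an element of D with an element of C lying in B (so D/B is central in C/B), and ψ constant equal to ψ 1 on B. Then ψ(1) ^ 2 * |C| * |D| ≤ |G| ^ 2. -/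
theorem result {G : Type*} [Group G] [Finite G] (ψ : G → ℂ) (hψ : Cfsg.IsIrrCharacter G ψ) (B C D : Subgroup G) (hBD : B ≤ D) (hDC : D ≤ C) (hBn : ∀ c ∈ C, ∀ b ∈ B, c * b * c⁻¹ ∈ B) (hcent : ∀ d ∈ D, ∀ c ∈ C, d * c * d⁻¹ * c⁻¹ ∈ B) (hker : ∀ b ∈ B, ψ b = ψ 1) : ‖ψ 1‖ ^ 2 * (Nat.card C : ℝ) * (Nat.card D : ℝ) ≤ (Nat.card G : ℝ) ^ 2 := by
  classical
  have : Fintype G := Fintype.ofFinite G
  have : Fintype C := Fintype.ofFinite C
  open Cfsg.Agent.Lib.Helper25 Cfsg.Agent.Lib.Helper78 in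
  -- restriction of ψ to C
  have hψchar : Cfsg.IsCharacter G ψ := IsIrrCharacter.isCharacter hψ
  have hres : Cfsg.IsCharacter C (fun c : C => ψ c) :=
    Cfsg.Agent.Lib.Helper75.isCharacter_res C hψchar
  have hres1 : (fun c : C => ψ c) 1 ≠ 0 := IsIrrCharacter.apply_one_ne_zero hψ
  obtain ⟨ξ, hξ⟩ := exists_constituent hres hres1
  obtain ⟨hker', -⟩ := constituent_facts hres ξ hξ
  -- B ≤ ker ξ
  have hBker : ∀ c : C, (c : G) ∈ B → (ξ : C → ℂ) c = (ξ : C → ℂ) 1 := by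
    intro c hc
    apply hker'
    exact hker (c : G) hc
  -- D ≤ Z(ξ)
  have hDcenter : D.subgroupOf C ≤ Cfsg.Agent.Lib.Helper77.irrCenter ξ := by
    intro d hd
    rw [Cfsg.Agent.Lib.Helper77.mem_irrCenter_iff_commutator]
    intro c
    rw [Cfsg.Agent.Lib.Helper77.mem_irrKer]
    apply hBker
    have := hcent (d : G) (Subgroup.mem_subgroupOf.mp hd) (c : G) c.2
    simpa [commutatorElement_def] using this
  have hcardD : Nat.card D ≤ Nat.card (Cfsg.Agent.Lib.Helper77.irrCenter ξ) := by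
    rw [← Nat.card_congr (Subgroup.subgroupOfEquivOfLe hDC).toEquiv]
    exact Subgroup.card_le_of_le hDcenter
  have h1 := Cfsg.Agent.Lib.Helper77.card_irrCenter_mul_sq_le ξ
  have hξdeg : ‖(ξ : C → ℂ) 1‖ = (Cfsg.charDegree (ξ : C → ℂ) : ℝ) := by
    rw [Cfsg.Agent.Lib.Helper79.irr_apply_one_eq_charDegree ξ]
    simp
  -- |D| d_ξ^2 ≤ |C|
  have h2 : (Nat.card D : ℝ) * (Cfsg.charDegree (ξ : C → ℂ) : ℝ) ^ 2 ≤ (Nat.card C : ℝ) := by
    rw [← hξdeg]
    refine le_trans ?_ h1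
    apply mul_le_mul_of_nonneg_right _ (sq_nonneg _)
    exact_mod_cast hcardD
  -- the induced character
  have hΘ : Cfsg.IsCharacter G (Cfsg.indFun C (ξ : C → ℂ)) :=
    Cfsg.Agent.S0148.result C (ξ : C → ℂ) (IsIrrCharacter.isCharacter ξ.2)
  have hΘψ : Cfsg.classInner (Cfsg.indFun C (ξ : C → ℂ)) ψ ≠ 0 := by
    rw [Cfsg.Agent.Lib.Helper75.frobenius_reciprocity C (ξ : C → ℂ)
      (IsCharacter.isClassFunction hψchar), ← classInner_conj_symm]
    intro h0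
    apply hξ
    have := congrArg (starRingEnd ℂ) h0
    simpa using this
  obtain ⟨-, hdegle⟩ := constituent_facts hΘ ⟨ψ, hψ⟩ hΘψ
  have hΘdeg : Cfsg.charDegree (Cfsg.indFun C (ξ : C → ℂ)) = C.index * Cfsg.charDegree (ξ : C → ℂ) := by
    have e1 := IsCharacter.apply_one_eq_charDegree hΘ
    rw [Cfsg.Agent.Lib.Helper75.indFun_one, Cfsg.Agent.Lib.Helper79.irr_apply_one_eq_charDegree ξ] at e1
    exact_mod_cast e1.symm
  have hψdeg : ‖ψ 1‖ = (Cfsg.charDegree ψ : ℝ) := by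
    rw [IsCharacter.apply_one_eq_charDegree hψchar]
    simp
  have h3 : (Cfsg.charDegree ψ : ℝ) ≤ (C.index : ℝ) * (Cfsg.charDegree (ξ : C → ℂ) : ℝ) := by
    have : Cfsg.charDegree ψ ≤ C.index * Cfsg.charDegree (ξ : C → ℂ) := by
      rw [← hΘdeg]
      exact hdegle
    exact_mod_cast this
  have hG : (Nat.card G : ℝ) = (C.index : ℝ) * (Nat.card C : ℝ) := by
    have := C.index_mul_card
    exact_mod_cast this.symm
  rw [hψdeg, hG]
  have hd0 : (0 : ℝ) ≤ (Cfsg.charDegree ψ : ℝ) := Nat.cast_nonneg _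
  have hC0 : (0 : ℝ) ≤ (Nat.card C : ℝ) := Nat.cast_nonneg _
  have hD0 : (0 : ℝ) ≤ (Nat.card D : ℝ) := Nat.cast_nonneg _
  have hi0 : (0 : ℝ) ≤ (C.index : ℝ) := Nat.cast_nonneg _
  have hx0 : (0 : ℝ) ≤ (Cfsg.charDegree (ξ : C → ℂ) : ℝ) := Nat.cast_nonneg _
  calc (Cfsg.charDegree ψ : ℝ) ^ 2 * (Nat.card C : ℝ) * (Nat.card D : ℝ)
      ≤ ((C.index : ℝ) * (Cfsg.charDegree (ξ : C → ℂ) : ℝ)) ^ 2 * (Nat.card C : ℝ) * (Nat.card D : ℝ) := by
        apply mul_le_mul_of_nonneg_right _ hD0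
        apply mul_le_mul_of_nonneg_right _ hC0
        exact pow_le_pow_left₀ hd0 h3 2
    _ = (C.index : ℝ) ^ 2 * (Nat.card C : ℝ) * ((Nat.card D : ℝ) * (Cfsg.charDegree (ξ : C → ℂ) : ℝ) ^ 2) := by
        ring
    _ ≤ (C.index : ℝ) ^ 2 * (Nat.card C : ℝ) * (Nat.card C : ℝ) := by
        apply mul_le_mul_of_nonneg_left h2
        exact mul_nonneg (sq_nonneg _) hC0
    _ = ((C.index : ℝ) * (Nat.card C : ℝ)) ^ 2 := by ring

end Cfsg.Agent.S1492
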