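import Cfsg.Statements.S1493
import Cfsg.Agent.Lib.Helper75.GaloisPow

set_option autoImplicit false
open Cfsg

namespace Cfsg.Agent.S1493

/-- Let G be a finite group of order a * b with a and b coprime, let k be coprime to a, and let χ be a character of G. Then there is a character χ' of G such that χ'(g) = χ(g ^ k) whenever the order of g divides a and χ'(g) = χ(g) whenever the order of g is coprime to a; moreover χ' is irreducible if χ is. -/
theorem result {G : Type*} [Group G] [Finite G] (a b k : ℕ) (hab : Nat.card G = a * b) (hcop : Nat.Coprime a b) (hk : Nat.Coprime k a) (χ : G → ℂ) (hχ : Cfsg.IsCharacter G χ) : ∃ χ' : G → ℂ, Cfsg.IsCharacter G χ' ∧ (Cfsg.IsIrrCharacter G χ → Cfsg.IsIrrCharacter G χ') ∧ (∀ g : G, orderOf g ∣ a → χ' g = χ (g ^ k)) ∧ (∀ g : G, Nat.Coprime (orderOf g) a → χ' g = χ g) := by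
  have hpos : 0 < Nat.card G := Nat.card_pos
  have ha : a ≠ 0 := by
    rintro rfl
    rw [zero_mul] at hab
    omega
  have hb : b ≠ 0 := by
    rintro rfl
    rw [mul_zero] at hab
    omega
  -- Chinese remainder: k' ≡ k mod a, k' ≡ 1 mod b
  obtain ⟨k', hk'a, hk'b⟩ := Nat.chineseRemainder hcop k 1
  have hk'cop : Nat.Coprime k' (Nat.card G) := by
    rw [hab]
    apply Nat.Coprime.mul_right
    · have := hk'a.gcd_eq
      unfold Nat.Coprime
      rw [this]
      exact hk
    · have := hk'b.gcd_eq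
      unfold Nat.Coprime
      rw [this]
      exact Nat.gcd_one_left b
  refine ⟨fun g => χ (g ^ k'), Cfsg.Agent.Lib.Helper75.isCharacter_pow hχ k' hk'cop,
    fun hirr => Cfsg.Agent.Lib.Helper75.isIrrCharacter_pow hirr k' hk'cop, ?_, ?_⟩
  · intro g hg
    have h1 : k' ≡ k [MOD orderOf g] := hk'a.of_dvd hg
    show χ (g ^ k') = χ (g ^ k)
    rw [pow_eq_pow_iff_modEq.mpr h1]
  · intro g hg
    have hdvd : orderOf g ∣ a * b := by
      rw [← hab]
      exact orderOf_dvd_natCard g
    have hdvdb : orderOf g ∣ b := hg.dvd_of_dvd_mul_left hdvd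
    have h1 : k' ≡ 1 [MOD orderOf g] := hk'b.of_dvd hdvdb
    show χ (g ^ k') = χ g
    rw [pow_eq_pow_iff_modEq.mpr h1, pow_one]

end Cfsg.Agent.S1493
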