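import Cfsg.Statements.S1494
import Mathlib

set_option autoImplicit false
open Cfsg

namespace Cfsg.Agent.S1494

open Finset Polynomial

section Trace

variable {V : Type*} [AddCommGroup V] [Module ℂ V] [FiniteDimensional ℂ V]

/-- The trace of an endomorphism of a finite-dimensional complex vector space which is integral
over `ℤ` is an algebraic integer. -/
theorem isIntegral_trace_of_isIntegral (f : Module.End ℂ V) (hf : IsIntegral ℤ f) :
    IsIntegral ℤ (LinearMap.trace ℂ V f) := by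
  rw [Module.End.trace_eq_sum_roots_charpoly_of_splits (IsAlgClosed.splits _)]
  apply IsIntegral.multiset_sum
  intro μ hμ
  have hroot : f.charpoly.IsRoot μ := (Polynomial.mem_roots'.mp hμ).2
  have hev : f.HasEigenvalue μ := (Module.End.hasEigenvalue_iff_isRoot_charpoly f μ).mpr hroot
  obtain ⟨v, hv⟩ := hev.exists_hasEigenvector
  obtain ⟨q, hqm, hq⟩ := hf
  refine ⟨q, hqm, ?_⟩
  have h1 : (Polynomial.aeval f (q.map (algebraMap ℤ ℂ))) v = ((q.map (algebraMap ℤ ℂ)).eval μ) • v :=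
    Module.End.aeval_apply_of_hasEigenvector hv
  have h2 : Polynomial.aeval f (q.map (algebraMap ℤ ℂ)) = 0 := by
    rw [Polynomial.aeval_map_algebraMap, Polynomial.aeval_def]
    exact hq
  rw [h2, LinearMap.zero_apply] at h1
  have h3 : (q.map (algebraMap ℤ ℂ)).eval μ = 0 := by
    rcases smul_eq_zero.mp h1.symm with h | h
    · exact h
    · exact absurd h hv.2
  rwa [Polynomial.eval_map] at h3

end Trace

section Proj

variable {R : Type*} [Ring R] [Algebra ℂ R]

/-- spectral projection of `X` (with `X ^ p = 1`) for the eigenvalue `ε ^ k`. -/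
noncomputable def proj (ε : ℂ) (X : R) (p k : ℕ) : R :=
  (p : ℂ)⁻¹ • ∑ j ∈ range p, ((ε⁻¹) ^ k) ^ j • X ^ j

variable {ε : ℂ} {X : R} {p : ℕ}

theorem mul_proj (hε : IsPrimitiveRoot ε p) (hp : 0 < p) (hX : X ^ p = 1) (k : ℕ) :
    X * proj ε X p k = ε ^ k • proj ε X p k := by
  have hε0 : ε ≠ 0 := hε.ne_zero hp.ne'
  set c : ℂ := (ε⁻¹) ^ k with hc
  have hcp : c ^ p = 1 := by
    rw [hc, ← pow_mul, mul_comm, pow_mul, inv_pow, hε.pow_eq_one, inv_one, one_pow]
  have hcinv : ε ^ k * c = 1 := by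
    rw [hc, inv_pow, mul_inv_cancel₀ (pow_ne_zero _ hε0)]
  set W : R := c • X with hW
  have hWj : ∀ j : ℕ, W ^ j = c ^ j • X ^ j := fun j => by rw [hW, _root_.smul_pow]
  have hS : ∑ j ∈ range p, c ^ j • X ^ j = ∑ j ∈ range p, W ^ j :=
    sum_congr rfl fun j _ => (hWj j).symm
  have hWp : W ^ p = 1 := by rw [hWj, hcp, hX, one_smul]
  have hWS : W * ∑ j ∈ range p, W ^ j = ∑ j ∈ range p, W ^ j := by
    have := mul_geom_sum W p
    rw [hWp, sub_self, sub_mul, one_mul, sub_eq_zero] at this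
    exact this
  unfold proj
  rw [← hc, hS, mul_smul_comm, smul_comm (ε ^ k)]
  congr 1
  have : X = ε ^ k • W := by rw [hW, smul_smul, hcinv, one_smul]
  rw [this, smul_mul_assoc, hWS]

theorem pow_mul_proj (hε : IsPrimitiveRoot ε p) (hp : 0 < p) (hX : X ^ p = 1) (k j : ℕ) :
    X ^ j * proj ε X p k = (ε ^ k) ^ j • proj ε X p k := by
  induction j with
  | zero => simp
  | succ j ih =>
    rw [pow_succ, mul_assoc, mul_proj hε hp hX, mul_smul_comm, ih, smul_smul, pow_succ, mul_comm]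

theorem proj_idem (hε : IsPrimitiveRoot ε p) (hp : 0 < p) (hX : X ^ p = 1) (k : ℕ) :
    proj ε X p k * proj ε X p k = proj ε X p k := by
  have hε0 : ε ≠ 0 := hε.ne_zero hp.ne'
  have hcinv : (ε⁻¹) ^ k * ε ^ k = 1 := by
    rw [inv_pow, inv_mul_cancel₀ (pow_ne_zero _ hε0)]
  have hunf : proj ε X p k * proj ε X p k =
      ((p : ℂ)⁻¹ • ∑ j ∈ range p, ((ε⁻¹) ^ k) ^ j • X ^ j) * proj ε X p k := rfl
  rw [hunf, smul_mul_assoc, sum_mul]
  have : ∀ j ∈ range p, (((ε⁻¹) ^ k) ^ j • X ^ j) * proj ε X p k = proj ε X p k := by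
    intro j _
    rw [smul_mul_assoc, pow_mul_proj hε hp hX, smul_smul, ← mul_pow, hcinv, one_pow, one_smul]
  rw [sum_congr rfl this, sum_const, card_range, ← Nat.cast_smul_eq_nsmul ℂ, smul_smul,
    inv_mul_cancel₀ (by exact_mod_cast hp.ne'), one_smul]

theorem sum_proj (hε : IsPrimitiveRoot ε p) (hp : p.Prime) (X : R) :
    ∑ k ∈ range p, proj ε X p k = 1 := by
  have hp0 : (p : ℂ) ≠ 0 := by exact_mod_cast hp.ne_zero
  unfold proj
  rw [← smul_sum, sum_comm]
  have hinner : ∀ j ∈ range p, ∑ k ∈ range p, ((ε⁻¹) ^ k) ^ j • X ^ j =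
      (if j = 0 then (p : ℂ) else 0) • X ^ j := by
    intro j hj
    rw [mem_range] at hj
    rw [← sum_smul]
    congr 1
    by_cases hj0 : j = 0
    · subst hj0; simp
    · rw [if_neg hj0]
      have hprim : IsPrimitiveRoot ((ε⁻¹) ^ j) p := by
        apply IsPrimitiveRoot.pow_of_coprime hε.inv
        apply Nat.Coprime.symm
        rw [hp.coprime_iff_not_dvd]
        intro hd
        have := Nat.le_of_dvd (Nat.pos_of_ne_zero hj0) hd
        omega
      have := hprim.geom_sum_eq_zero hp.one_lt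
      rw [← this]
      apply sum_congr rfl
      intro k _
      rw [← pow_mul, ← pow_mul, mul_comm]
  rw [sum_congr rfl hinner, sum_eq_single 0]
  · simp [smul_smul, inv_mul_cancel₀ hp0]
  · intro j _ hj0
    rw [if_neg hj0, zero_smul]
  · intro h0
    exact absurd (mem_range.mpr hp.pos) h0

theorem commute_proj {Y : R} (hXY : Commute X Y) (k : ℕ) : Commute (proj ε X p k) Y := by
  unfold proj
  apply Commute.smul_left
  apply Commute.sum_left
  intro j _
  apply Commute.smul_left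
  exact hXY.pow_left j

end Proj

section Main

variable {V : Type*} [AddCommGroup V] [Module ℂ V] [FiniteDimensional ℂ V]

theorem trace_key (p : ℕ) (hp : p.Prime) (ε : ℂ) (hε : IsPrimitiveRoot ε p)
    (X Y : Module.End ℂ V) (hX : X ^ p = 1) (m : ℕ) (hm : 0 < m) (hY : Y ^ m = 1)
    (hXY : Commute X Y) :
    ∃ ω : ℂ, IsIntegral ℤ ω ∧
      LinearMap.trace ℂ V (X * Y) - LinearMap.trace ℂ V Y = (1 - ε) * ω := by
  have hεint : IsIntegral ℤ ε := hε.isIntegral hp.pos
  set t : ℕ → ℂ := fun k => LinearMap.trace ℂ V (proj ε X p k * Y) with ht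
  have htint : ∀ k, IsIntegral ℤ (t k) := by
    intro k
    apply isIntegral_trace_of_isIntegral
    set Z := proj ε X p k * Y with hZ
    have hidem : IsIdempotentElem (proj ε X p k) := proj_idem hε hp.pos hX k
    have hZpow : Z ^ (m + 1) = Z := by
      rw [hZ, (commute_proj hXY k).mul_pow, hidem.pow_succ_eq, pow_succ, hY, one_mul]
    refine ⟨(Polynomial.X : ℤ[X]) ^ (m + 1) - Polynomial.X, ?_, ?_⟩
    · apply Polynomial.monic_X_pow_sub
      rw [Polynomial.degree_X]
      exact_mod_cast (by omega : 1 < m + 1)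
    · rw [Polynomial.eval₂_sub, Polynomial.eval₂_X_pow, Polynomial.eval₂_X, hZpow, sub_self]
  have hsum1 : LinearMap.trace ℂ V Y = ∑ k ∈ range p, t k := by
    rw [ht]
    simp only
    rw [← map_sum, ← sum_mul, sum_proj hε hp, one_mul]
  have hsum2 : LinearMap.trace ℂ V (X * Y) = ∑ k ∈ range p, ε ^ k * t k := by
    rw [ht]
    simp only
    have : X * Y = ∑ k ∈ range p, ε ^ k • (proj ε X p k * Y) := by
      calc X * Y = X * (∑ k ∈ range p, proj ε X p k) * Y := by rw [sum_proj hε hp, mul_one]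
        _ = ∑ k ∈ range p, ε ^ k • (proj ε X p k * Y) := by
          rw [mul_sum, sum_mul]
          apply sum_congr rfl
          intro k _
          rw [mul_proj hε hp.pos hX, smul_mul_assoc]
    rw [this, map_sum]
    apply sum_congr rfl
    intro k _
    rw [map_smul, smul_eq_mul]
  refine ⟨∑ k ∈ range p, (-(∑ i ∈ range k, ε ^ i)) * t k, ?_, ?_⟩
  · apply IsIntegral.sum
    intro k _
    apply IsIntegral.mul _ (htint k)
    apply IsIntegral.neg
    apply IsIntegral.sum
    intro i _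
    exact hεint.pow i
  · rw [hsum1, hsum2, ← sum_sub_distrib, mul_sum]
    apply sum_congr rfl
    intro k _
    have := mul_neg_geom_sum ε k
    calc ε ^ k * t k - t k = -(1 - ε ^ k) * t k := by ring
      _ = -((1 - ε) * ∑ i ∈ range k, ε ^ i) * t k := by rw [this]
      _ = (1 - ε) * (-(∑ i ∈ range k, ε ^ i) * t k) := by ring

end Main

theorem character_key {G : Type*} [Group G] [Finite G] (χ : G → ℂ) (hχ : Cfsg.IsCharacter G χ)
    (p : ℕ) (hp : p.Prime) (ε : ℂ) (hε : IsPrimitiveRoot ε p)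
    (x y : G) (hx : orderOf x = p) (hxy : x * y = y * x) :
    ∃ ω : ℂ, IsIntegral ℤ ω ∧ χ (x * y) - χ y = (1 - ε) * ω := by
  obtain ⟨n, ρ, rfl⟩ := hχ
  have hX : (ρ x) ^ p = 1 := by rw [← map_pow, ← hx, pow_orderOf_eq_one, map_one]
  have hm : 0 < orderOf y := orderOf_pos y
  have hY : (ρ y) ^ (orderOf y) = 1 := by rw [← map_pow, pow_orderOf_eq_one, map_one]
  have hXY : Commute (ρ x) (ρ y) := by
    show ρ x * ρ y = ρ y * ρ x
    rw [← map_mul, ← map_mul, hxy]
  obtain ⟨ω, hω, h⟩ := trace_key p hp ε hε (ρ x) (ρ y) hX (orderOf y) hm hY hXY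
  refine ⟨ω, hω, ?_⟩
  rw [← h]
  simp [Representation.character, map_mul]

/-- Let χ be a generalized character of the finite group G, p a prime, x an element of order p and y an element commuting with x. Then χ(x * y) − χ(y) = (1 − ε) * ω for some algebraic integer ω, where ε = exp(2πi/p). -/
theorem result {G : Type*} [Group G] [Finite G] (χ : G → ℂ) (hχ : Cfsg.IsGeneralizedCharacter G χ) (p : ℕ) (hp : p.Prime) (x y : G) (hx : orderOf x = p) (hxy : x * y = y * x) : ∃ ω : ℂ, IsIntegral ℤ ω ∧ χ (x * y) - χ y = (1 - Complex.exp (2 * Real.pi * Complex.I / p)) * ω := by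
  obtain ⟨χ₁, χ₂, h₁, h₂, rfl⟩ := hχ
  have hε := Complex.isPrimitiveRoot_exp p hp.ne_zero
  obtain ⟨ω₁, hω₁, e₁⟩ := character_key χ₁ h₁ p hp _ hε x y hx hxy
  obtain ⟨ω₂, hω₂, e₂⟩ := character_key χ₂ h₂ p hp _ hε x y hx hxy
  refine ⟨ω₁ - ω₂, hω₁.sub hω₂, ?_⟩
  simp only [Pi.sub_apply]
  rw [mul_sub, ← e₁, ← e₂]
  ring

end Cfsg.Agent.S1494
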