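import Cfsg.Statements.S1495
import Mathlib

set_option autoImplicit false
open Cfsg

namespace Cfsg.Agent.S1495

open Finset

/-- A rational number that is an algebraic integer (in `ℂ`) is an integer. -/
theorem int_of_integral_rat (r : ℚ) (h : IsIntegral ℤ ((r : ℂ))) : ∃ y : ℤ, (y : ℚ) = r := by
  have h1 : IsIntegral ℤ r := by
    have : (r : ℂ) = algebraMap ℚ ℂ r := rfl
    rw [this] at h
    exact (isIntegral_algebraMap_iff (algebraMap ℚ ℂ).injective).mp h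
  obtain ⟨y, hy⟩ := (IsIntegrallyClosed.isIntegral_iff (R := ℤ) (K := ℚ)).mp h1
  exact ⟨y, by simpa using hy⟩

theorem key (p : ℕ) (hp : p.Prime) (ε : ℂ) (hε : IsPrimitiveRoot ε p) (n : ℤ) (ω : ℂ)
    (hω : IsIntegral ℤ ω) (h : (n : ℂ) = (1 - ε) * ω) : (p : ℤ) ∣ n := by
  have hεint : IsIntegral ℤ ε := hε.isIntegral hp.pos
  have hstep : ∀ k ∈ range (p - 1), ∃ ωk : ℂ, IsIntegral ℤ ωk ∧ (n : ℂ) = (1 - ε ^ (k + 1)) * ωk := by
    intro k hk
    rw [mem_range] at hk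
    have hcop : Nat.Coprime (k + 1) p := by
      apply Nat.Coprime.symm
      rw [hp.coprime_iff_not_dvd]
      intro hd
      have := Nat.le_of_dvd (Nat.succ_pos k) hd
      omega
    obtain ⟨j, -, hj⟩ := Nat.exists_mul_mod_eq_one_of_coprime hcop hp.one_lt
    have hpow : ε ^ ((k + 1) * j) = ε := by
      have h1 : (k + 1) * j = p * ((k + 1) * j / p) + 1 := by
        have := Nat.div_add_mod ((k + 1) * j) p
        omega
      rw [h1, pow_add, pow_mul, hε.pow_eq_one, one_pow, one_mul, pow_one]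
    have hgeom : (1 - ε ^ (k + 1)) * ∑ i ∈ range j, (ε ^ (k + 1)) ^ i = 1 - ε := by
      rw [mul_neg_geom_sum, ← pow_mul, hpow]
    refine ⟨(∑ i ∈ range j, (ε ^ (k + 1)) ^ i) * ω, ?_, ?_⟩
    · apply IsIntegral.mul _ hω
      apply IsIntegral.sum
      intro i _
      exact (hεint.pow _).pow _
    · rw [← mul_assoc, hgeom, h]
  choose! W hW1 hW2 using hstep
  have hprod : ∏ k ∈ range (p - 1), (1 - ε ^ (k + 1)) = (p : ℂ) := by
    have hp1 : p - 1 + 1 = p := Nat.succ_pred_eq_of_pos hp.pos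
    have hε' : IsPrimitiveRoot ε (p - 1 + 1) := by rwa [hp1]
    have := hε'.prod_one_sub_pow_eq_order
    rw [this]
    have : ((p - 1 : ℕ) : ℂ) + 1 = ((p - 1 + 1 : ℕ) : ℂ) := by push_cast; ring
    rw [this, hp1]
  have hnpow : (n : ℂ) ^ (p - 1) = (p : ℂ) * ∏ k ∈ range (p - 1), W k := by
    calc (n : ℂ) ^ (p - 1) = ∏ _k ∈ range (p - 1), (n : ℂ) := by rw [prod_const, card_range]
      _ = ∏ k ∈ range (p - 1), ((1 - ε ^ (k + 1)) * W k) := prod_congr rfl (fun k hk => hW2 k hk)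
      _ = (p : ℂ) * ∏ k ∈ range (p - 1), W k := by rw [prod_mul_distrib, hprod]
  have hΩ : IsIntegral ℤ (∏ k ∈ range (p - 1), W k) := IsIntegral.prod _ (fun k hk => hW1 k hk)
  have hp0 : (p : ℂ) ≠ 0 := by exact_mod_cast hp.ne_zero
  have hΩeq : ∏ k ∈ range (p - 1), W k = (((n : ℚ) ^ (p - 1) / (p : ℚ) : ℚ) : ℂ) := by
    push_cast
    rw [hnpow]
    field_simp
  rw [hΩeq] at hΩ
  obtain ⟨y, hy⟩ := int_of_integral_rat _ hΩ
  have hpq : (p : ℚ) ≠ 0 := by exact_mod_cast hp.ne_zero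
  have hdvd : (p : ℤ) ∣ n ^ (p - 1) := by
    refine ⟨y, ?_⟩
    have : ((n ^ (p - 1) : ℤ) : ℚ) = (((p : ℤ) * y : ℤ) : ℚ) := by
      push_cast
      rw [hy]
      field_simp
    exact_mod_cast this
  exact (Nat.prime_iff_prime_int.mp hp).dvd_of_dvd_pow hdvd

/-- Let p be a prime, ε = exp(2πi/p), and n an integer such that n = (1 − ε) * ω for some algebraic integer ω. Then p divides n. -/
theorem result (p : ℕ) (hp : p.Prime) (n : ℤ) (ω : ℂ) (hω : IsIntegral ℤ ω) (h : (n : ℂ) = (1 - Complex.exp (2 * Real.pi * Complex.I / p)) * ω) : (p : ℤ) ∣ n :=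
  key p hp _ (Complex.isPrimitiveRoot_exp p hp.ne_zero) n ω hω h

end Cfsg.Agent.S1495
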