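import Cfsg.Statements.S1497

set_option autoImplicit false
open Cfsg

namespace Cfsg.Agent.S1497

/-- Let A be a nonempty subset of the finite group G not containing 1 and L a subgroup. Then A is a TI-subset whose normaliser is L if and only if the Dade hypothesis holds for A, L and the constant choice H(a) = ⊥. -/
theorem result {G : Type*} [Group G] [Finite G] (A : Set G) (hA : A.Nonempty) (h1 : (1 : G) ∉ A) (L : Subgroup G) : (Cfsg.IsTISubset A ∧ Subgroup.normalizer A = L) ↔ Cfsg.DadeHypothesis A L (fun _ => ⊥) := by
  constructor
  · rintro ⟨hTI, rfl⟩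
    have hne : ∀ a ∈ A, a ≠ 1 := fun a ha h => h1 (h ▸ ha)
    have hcent : ∀ a ∈ A, Subgroup.centralizer ({a} : Set G) ≤ Subgroup.normalizer A := by
      intro a ha c hc
      by_contra hcn
      have hca : c * a * c⁻¹ = a := by
        have := Subgroup.mem_centralizer_iff.mp hc a (Set.mem_singleton a)
        rw [← this]; group
      exact hne a ha (hTI c hcn a ha (hca.symm ▸ ha))
    refine
      { one_not_mem := h1
        subset := ?_
        conj_mem := ?_
        fusion := ?_
        le_centralizer := ?_
        conj_mem_H := ?_
        inf_eq_bot := ?_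
        sup_eq := ?_
        coprime := ?_ }
    · intro a ha
      by_contra han
      have : a * a * a⁻¹ = a := by group
      exact hne a ha (hTI a han a ha (this.symm ▸ ha))
    · intro x hx a ha
      exact (Subgroup.mem_set_normalizer_iff.mp hx a).mp ha
    · intro a ha g hg
      by_cases hgn : g ∈ Subgroup.normalizer A
      · exact ⟨g, hgn, rfl⟩
      · exact absurd (hTI g hgn a ha hg) (hne a ha)
    · intro a _; exact bot_le
    · intro a _ c _ u hu
      rw [Subgroup.mem_bot] at hu
      subst hu
      simp
    · intro a _; simp
    · intro a ha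
      rw [bot_sup_eq]
      exact inf_eq_right.mpr (hcent a ha)
    · intro a _ b _
      simp
  · intro hD
    obtain ⟨a₀, ha₀⟩ := hA
    have hCL : ∀ a ∈ A, Subgroup.centralizer ({a} : Set G) ≤ L := by
      intro a ha
      have := hD.sup_eq a ha
      rw [bot_sup_eq] at this
      exact inf_eq_right.mp this
    have key : ∀ g : G, ∀ a ∈ A, g * a * g⁻¹ ∈ A → g ∈ L := by
      intro g a ha hg
      obtain ⟨x, hxL, hx⟩ := hD.fusion a ha g hg
      have hc : x⁻¹ * g ∈ Subgroup.centralizer ({a} : Set G) := by
        rw [Subgroup.mem_centralizer_iff]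
        intro y hy
        rw [Set.mem_singleton_iff] at hy
        subst hy
        have h3 : x⁻¹ * g * y * g⁻¹ * x = y := by
          have h4 : x⁻¹ * (x * y * x⁻¹) * x = y := by group
          rw [hx] at h4
          simpa [mul_assoc] using h4
        calc y * (x⁻¹ * g) = (x⁻¹ * g * y * g⁻¹ * x) * (x⁻¹ * g) := by rw [h3]
          _ = x⁻¹ * g * y := by group
      have : x * (x⁻¹ * g) ∈ L := L.mul_mem hxL (hCL a ha hc)
      simpa using this
    have hN : Subgroup.normalizer A = L := by
      apply le_antisymm
      · intro g hg
        exact key g a₀ ha₀ ((Subgroup.mem_set_normalizer_iff.mp hg a₀).mp ha₀)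
      · intro x hx
        rw [Subgroup.mem_set_normalizer_iff]
        intro a
        constructor
        · intro ha; exact hD.conj_mem x hx a ha
        · intro ha
          have := hD.conj_mem x⁻¹ (L.inv_mem hx) _ ha
          simpa [mul_assoc] using this
    refine ⟨?_, hN⟩
    intro g hg x hx hgx
    rw [hN] at hg
    exact absurd (key g x hx hgx) hg

end Cfsg.Agent.S1497
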