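import Cfsg.Statements.S1509
import Cfsg.Agent.Lib.Helper25.CharBasic

set_option autoImplicit false
open Cfsg

namespace Cfsg.Agent.S1509

open Cfsg.Agent.Lib.Helper25

section

variable {X : Type*} [Group X] [Fintype X]

/-- signed irreducible character -/
def SignedIrr (α : X → ℂ) : Prop := Cfsg.IsIrrCharacter X α ∨ Cfsg.IsIrrCharacter X (-α)

theorem signedIrr_neg {α : X → ℂ} (h : SignedIrr α) : SignedIrr (-α) := by
  rcases h with h | h
  · right; simpa using h
  · left; exact h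

theorem signedIrr_one_ne_zero {α : X → ℂ} (h : SignedIrr α) : α 1 ≠ 0 := by
  rcases h with h | h
  · exact irr_one_ne_zero h
  · have := irr_one_ne_zero h
    simpa using this

/-- nonzero inner product of signed irreducibles forces equality up to sign -/
theorem signedIrr_eq_of_inner_ne_zero {α γ : X → ℂ} (hα : SignedIrr α) (hγ : SignedIrr γ)
    (h : Cfsg.classInner α γ ≠ 0) :
    (γ = α ∧ Cfsg.classInner α γ = 1) ∨ (γ = -α ∧ Cfsg.classInner α γ = -1) := by
  classical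
  rcases hα with hα | hα <;> rcases hγ with hγ | hγ
  · have h1 := irr_orthonormal α γ hα hγ
    by_cases e : α = γ
    · left; rw [h1, if_pos e]; exact ⟨e.symm, rfl⟩
    · rw [h1, if_neg e] at h; exact absurd rfl h
  · have h1 := irr_orthonormal α (-γ) hα hγ
    rw [classInner_neg_right] at h1
    by_cases e : α = -γ
    · right
      rw [if_pos e] at h1
      refine ⟨by rw [e]; simp, ?_⟩
      rw [← h1]; simp
    · rw [if_neg e] at h1
      have : Cfsg.classInner α γ = 0 := by simpa using h1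
      exact absurd this h
  · have h1 := irr_orthonormal (-α) γ hα hγ
    rw [classInner_neg_left] at h1
    by_cases e : -α = γ
    · right
      rw [if_pos e] at h1
      refine ⟨e.symm, ?_⟩
      rw [← h1]; simp
    · rw [if_neg e] at h1
      have : Cfsg.classInner α γ = 0 := by simpa using h1
      exact absurd this h
  · have h1 := irr_orthonormal (-α) (-γ) hα hγ
    rw [classInner_neg_left, classInner_neg_right, neg_neg] at h1
    by_cases e : -α = -γ
    · left
      rw [if_pos e] at h1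
      exact ⟨(neg_injective e).symm, h1⟩
    · rw [if_neg e] at h1
      exact absurd h1 h

theorem key (α β γ δ : X → ℂ) (hα : SignedIrr α) (hβ : SignedIrr β) (hγ : SignedIrr γ)
    (hδ : SignedIrr δ) (u v : ℝ) (hu : u ≠ 0) (hv : v ≠ 0) (hab : Cfsg.classInner α β = 0)
    (hcd : Cfsg.classInner γ δ = 0)
    (hmix : Cfsg.classInner (α - β) ((u : ℂ) • γ - (v : ℂ) • δ) = 0) (h1 : α 1 = β 1)
    (h2 : (u : ℂ) * γ 1 = (v : ℂ) * δ 1) : Cfsg.classInner α γ = 0 := by
  by_contra hne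
  have huc : (u : ℂ) ≠ 0 := by exact_mod_cast hu
  have hvc : (v : ℂ) ≠ 0 := by exact_mod_cast hv
  have hα1 := signedIrr_one_ne_zero hα
  -- expand hmix
  have hexp : (u : ℂ) * Cfsg.classInner α γ - (v : ℂ) * Cfsg.classInner α δ
      - ((u : ℂ) * Cfsg.classInner β γ - (v : ℂ) * Cfsg.classInner β δ) = 0 := by
    rw [classInner_sub_left, classInner_sub_right, classInner_sub_right,
      classInner_smul_right, classInner_smul_right, classInner_smul_right,
      classInner_smul_right, Complex.conj_ofReal, Complex.conj_ofReal] at hmix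
    exact hmix
  -- γ = s α
  obtain ⟨s, hs, hγs, hAs⟩ : ∃ s : ℂ, (s = 1 ∨ s = -1) ∧ γ = s • α ∧ Cfsg.classInner α γ = s := by
    rcases signedIrr_eq_of_inner_ne_zero hα hγ hne with ⟨e, f⟩ | ⟨e, f⟩
    · exact ⟨1, Or.inl rfl, by rw [e]; simp, f⟩
    · exact ⟨-1, Or.inr rfl, by rw [e]; simp, f⟩
  have hs0 : s ≠ 0 := by rcases hs with rfl | rfl <;> norm_num
  have hsconj : (starRingEnd ℂ) s = s := by rcases hs with rfl | rfl <;> simp
  -- ⟨α, δ⟩ = 0
  have hB : Cfsg.classInner α δ = 0 := by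
    rw [hγs, classInner_smul_left] at hcd
    exact (mul_eq_zero.mp hcd).resolve_left hs0
  -- ⟨β, γ⟩ = 0
  have hC : Cfsg.classInner β γ = 0 := by
    rw [hγs, classInner_smul_right, classInner_eq_zero_symm hab, mul_zero]
  rw [hB, hC, hAs] at hexp
  have hD : (u : ℂ) * s + (v : ℂ) * Cfsg.classInner β δ = 0 := by
    have : (u : ℂ) * s - (v : ℂ) * 0 - ((u : ℂ) * 0 - (v : ℂ) * Cfsg.classInner β δ)
        = (u : ℂ) * s + (v : ℂ) * Cfsg.classInner β δ := by ring
    rw [← this]; exact hexp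
  have hDne : Cfsg.classInner β δ ≠ 0 := by
    intro h0
    rw [h0, mul_zero, add_zero] at hD
    exact (mul_ne_zero huc hs0) hD
  obtain ⟨t, ht, hδt, hDt⟩ : ∃ t : ℂ, (t = 1 ∨ t = -1) ∧ δ = t • β ∧ Cfsg.classInner β δ = t := by
    rcases signedIrr_eq_of_inner_ne_zero hβ hδ hDne with ⟨e, f⟩ | ⟨e, f⟩
    · exact ⟨1, Or.inl rfl, by rw [e]; simp, f⟩
    · exact ⟨-1, Or.inr rfl, by rw [e]; simp, f⟩
  rw [hDt] at hD
  -- degrees
  rw [hγs, hδt] at h2
  simp only [Pi.smul_apply, smul_eq_mul] at h2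
  rw [← h1] at h2
  -- (u s - v t) α(1) = 0 and u s + v t = 0
  have h3 : ((u : ℂ) * s - (v : ℂ) * t) * α 1 = 0 := by
    have : ((u : ℂ) * s - (v : ℂ) * t) * α 1 = (u : ℂ) * (s * α 1) - (v : ℂ) * (t * α 1) := by ring
    rw [this, h2, sub_self]
  have h4 : (u : ℂ) * s - (v : ℂ) * t = 0 := (mul_eq_zero.mp h3).resolve_right hα1
  have h5 : (u : ℂ) * s = 0 := by
    have : (2 : ℂ) * ((u : ℂ) * s) = ((u : ℂ) * s + (v : ℂ) * t) + ((u : ℂ) * s - (v : ℂ) * t) := by ring
    rw [hD, h4, add_zero] at this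
    exact (mul_eq_zero.mp this).resolve_left two_ne_zero
  exact (mul_ne_zero huc hs0) h5

end

/-- Let α, β, γ, δ be functions on a finite group X each of which is an irreducible character or the negative of one, and u, v nonzero real numbers. Suppose ⟨α, β⟩ = ⟨γ, δ⟩ = 0, ⟨α − β, uγ − vδ⟩ = 0, α 1 = β 1 and u γ 1 = v δ 1. Then also ⟨α, γ⟩ = ⟨α, δ⟩ = ⟨β, γ⟩ = ⟨β, δ⟩ = 0. -/
theorem result {X : Type*} [Group X] [Fintype X] (α β γ δ : X → ℂ) (hα : Cfsg.IsIrrCharacter X α ∨ Cfsg.IsIrrCharacter X (-α)) (hβ : Cfsg.IsIrrCharacter X β ∨ Cfsg.IsIrrCharacter X (-β)) (hγ : Cfsg.IsIrrCharacter X γ ∨ Cfsg.IsIrrCharacter X (-γ)) (hδ : Cfsg.IsIrrCharacter X δ ∨ Cfsg.IsIrrCharacter X (-δ)) (u v : ℝ) (hu : u ≠ 0) (hv : v ≠ 0) (hab : Cfsg.classInner α β = 0) (hcd : Cfsg.classInner γ δ = 0) (hmix : Cfsg.classInner (α - β) ((u : ℂ) • γ - (v : ℂ) • δ) = 0) (h1 : α 1 = β 1) (h2 : (u : ℂ) * γ 1 = (v : ℂ) * δ 1) : Cfsg.classInner α γ = 0 ∧ Cfsg.classInner α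 δ = 0 ∧ Cfsg.classInner β γ = 0 ∧ Cfsg.classInner β δ = 0 := by
  have hba : Cfsg.classInner β α = 0 := classInner_eq_zero_symm hab
  have hdc : Cfsg.classInner δ γ = 0 := classInner_eq_zero_symm hcd
  -- swapped versions of hmix
  have hmix_ba : Cfsg.classInner (β - α) ((u : ℂ) • γ - (v : ℂ) • δ) = 0 := by
    have : β - α = -(α - β) := by ring
    rw [this, classInner_neg_left, hmix, neg_zero]
  have hmix_dc : Cfsg.classInner (α - β) ((v : ℂ) • δ - (u : ℂ) • γ) = 0 := by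
    have : (v : ℂ) • δ - (u : ℂ) • γ = -((u : ℂ) • γ - (v : ℂ) • δ) := by ring
    rw [this, classInner_neg_right, hmix, neg_zero]
  have hmix_ba_dc : Cfsg.classInner (β - α) ((v : ℂ) • δ - (u : ℂ) • γ) = 0 := by
    have : β - α = -(α - β) := by ring
    rw [this, classInner_neg_left, hmix_dc, neg_zero]
  refine ⟨?_, ?_, ?_, ?_⟩
  · exact key α β γ δ hα hβ hγ hδ u v hu hv hab hcd hmix h1 h2
  · exact key α β δ γ hα hβ hδ hγ v u hv hu hab hdc hmix_dc h1 h2.symm
  · exact key β α γ δ hβ hα hγ hδ u v hu hv hba hcd hmix_ba h1.symm h2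
  · exact key β α δ γ hβ hα hδ hγ v u hv hu hba hdc hmix_ba_dc h1.symm h2.symm

end Cfsg.Agent.S1509
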