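import Cfsg.Statements.S1510
import Mathlib

set_option autoImplicit false
open Cfsg

namespace Cfsg.Agent.S1510

/-- two commuting cyclic subgroups with coprime orders generate a cyclic subgroup, and every element
of the join is a product. -/
theorem sup_cyclic {L : Type*} [Group L] [Finite L] (W₁ W₂ : Subgroup L)
    (hcomm : ∀ a ∈ W₁, ∀ b ∈ W₂, a * b = b * a) (h₁ : IsCyclic W₁) (h₂ : IsCyclic W₂)
    (hcop : (Nat.card W₁).Coprime (Nat.card W₂)) :
    IsCyclic ↥(W₁ ⊔ W₂) ∧ ∀ w ∈ W₁ ⊔ W₂, ∃ a ∈ W₁, ∃ b ∈ W₂, w = a * b := by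
  have comm : ∀ (m : W₁) (n : W₂), Commute (W₁.subtype m) (W₂.subtype n) :=
    fun m n => hcomm m m.2 n n.2
  set φ := MonoidHom.noncommCoprod W₁.subtype W₂.subtype comm with hφ
  have hrange : φ.range = W₁ ⊔ W₂ := by
    rw [hφ, MonoidHom.noncommCoprod_range, Subgroup.range_subtype, Subgroup.range_subtype]
  have hcyc : IsCyclic (W₁ × W₂) := Group.isCyclic_prod_iff.mpr ⟨h₁, h₂, hcop⟩
  have hcr : IsCyclic φ.range := isCyclic_of_surjective φ.rangeRestrict φ.rangeRestrict_surjective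
  constructor
  · rw [← hrange]; exact hcr
  · intro w hw
    rw [← hrange] at hw
    obtain ⟨⟨a, b⟩, rfl⟩ := hw
    exact ⟨a, a.2, b, b.2, rfl⟩

/-- Let L be a finite group with a normal subgroup K and a nontrivial cyclic subgroup W₁ of order coprime to its index, K ⊓ W₁ = ⊥ and K ⊔ W₁ = ⊤; let W₂ ≠ ⊥ be a cyclic subgroup of K with K ⊓ C_L(x) = W₂ for every non-identity x ∈ W₁, and suppose W₁ ⊔ W₂ has odd order. Then (W₁, W₂) is a self-normalising cyclic pair in L. -/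
theorem result {L : Type*} [Group L] [Fintype L] (K W₁ W₂ : Subgroup L) [hK : K.Normal] (hKW₁ : K ⊓ W₁ = ⊥) (hKW₁' : K ⊔ W₁ = ⊤) (hW₁ : W₁ ≠ ⊥) (hW₁c : IsCyclic W₁) (hHall : Nat.Coprime (Nat.card W₁) W₁.index) (hW₂ : W₂ ≠ ⊥) (hW₂c : IsCyclic W₂) (hW₂K : W₂ ≤ K) (hC : ∀ x ∈ W₁, x ≠ 1 → K ⊓ Subgroup.centralizer ({x} : Set L) = W₂) (hodd : Odd (Nat.card ↥(W₁ ⊔ W₂))) : Cfsg.IsSelfNormalizingCyclic W₁ W₂ := by
  have hdisj : W₁ ⊓ W₂ = ⊥ := by
    rw [eq_bot_iff, ← hKW₁]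
    exact le_inf (inf_le_right.trans hW₂K) inf_le_left
  have hcomm : ∀ a ∈ W₁, ∀ b ∈ W₂, a * b = b * a := by
    intro a ha b hb
    by_cases ha1 : a = 1
    · subst ha1; simp
    · have hb' : b ∈ K ⊓ Subgroup.centralizer ({a} : Set L) := by rw [hC a ha ha1]; exact hb
      exact (Subgroup.mem_centralizer_iff.mp hb'.2 a rfl)
  -- |K| = index W₁
  have hcompl : Subgroup.IsComplement' K W₁ :=
    Subgroup.isComplement'_of_disjoint_and_mul_eq_univ (disjoint_iff.mpr hKW₁) (by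
      rw [← Subgroup.normal_mul, hKW₁']; rfl)
  have hKcard : Nat.card K = W₁.index := by
    have h1 := hcompl.card_mul_card
    have h2 := W₁.card_mul_index
    have hpos : 0 < Nat.card W₁ := Nat.card_pos
    have : Nat.card K * Nat.card W₁ = W₁.index * Nat.card W₁ := by rw [h1, ← h2, mul_comm]
    exact Nat.eq_of_mul_eq_mul_right hpos this
  have hcop : (Nat.card W₁).Coprime (Nat.card W₂) := by
    apply Nat.Coprime.coprime_dvd_right _ hHall
    rw [← hKcard]
    exact Subgroup.card_dvd_of_le hW₂K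
  obtain ⟨hcyc, hprod⟩ := sup_cyclic W₁ W₂ hcomm hW₁c hW₂c hcop
  refine ⟨hW₁, hW₂, hdisj, hcomm, hcyc, ?_⟩
  intro X hX hXne
  -- W abelian
  have hWcomm : ∀ u ∈ W₁ ⊔ W₂, ∀ v ∈ W₁ ⊔ W₂, u * v = v * u := by
    intro u hu v hv
    have := hcyc
    have hc : ∀ a b : ↥(W₁ ⊔ W₂), a * b = b * a := fun a b => by
      let _ := IsCyclic.commGroup (α := ↥(W₁ ⊔ W₂))
      exact mul_comm a b
    have := hc ⟨u, hu⟩ ⟨v, hv⟩
    exact congrArg Subtype.val this
  have hW₁comm : ∀ u ∈ W₁, ∀ v ∈ W₁, u * v = v * u := fun u hu v hv =>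
    hWcomm u (Subgroup.mem_sup_left hu) v (Subgroup.mem_sup_left hv)
  apply le_antisymm
  · -- N(X) ≤ W
    intro g hg
    obtain ⟨a, haX⟩ := hXne
    have haW := (hX haX).1
    have haN := (hX haX).2
    obtain ⟨w₁, hw₁, w₂, hw₂, rfl⟩ := hprod a haW
    have hbX : g * (w₁ * w₂) * g⁻¹ ∈ X := (Subgroup.mem_set_normalizer_iff.mp hg _).mp haX
    have hbW := (hX hbX).1
    obtain ⟨v₁, hv₁, v₂, hv₂, hb⟩ := hprod _ hbW
    have hw₁ne : w₁ ≠ 1 := by
      rintro rfl
      apply haN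
      right
      simpa using hw₂
    -- the exponent m
    have hn₁ : 1 < Nat.card W₁ := by
      rw [Subgroup.one_lt_card_iff_ne_bot]; exact hW₁
    obtain ⟨t, -, ht⟩ := Nat.exists_mul_mod_eq_one_of_coprime hcop.symm hn₁
    set m := Nat.card W₂ * t with hm
    have hpow₁ : ∀ u ∈ W₁, u ^ m = u := by
      intro u hu
      have hord : u ^ Nat.card W₁ = 1 := by
        have := pow_card_eq_one' (G := W₁) (x := ⟨u, hu⟩)
        exact congrArg Subtype.val this
      have h1 : m = Nat.card W₁ * (m / Nat.card W₁) + 1 := by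
        have := Nat.div_add_mod m (Nat.card W₁)
        omega
      rw [h1, pow_add, pow_mul, hord, one_pow, one_mul, pow_one]
    have hpow₂ : ∀ u ∈ W₂, u ^ m = 1 := by
      intro u hu
      have hord : u ^ Nat.card W₂ = 1 := by
        have := pow_card_eq_one' (G := W₂) (x := ⟨u, hu⟩)
        exact congrArg Subtype.val this
      rw [hm, pow_mul, hord, one_pow]
    have hprodpow : ∀ u ∈ W₁, ∀ v ∈ W₂, (u * v) ^ m = u := by
      intro u hu v hv
      rw [(show Commute u v from hcomm u hu v hv).mul_pow, hpow₁ u hu, hpow₂ v hv, mul_one]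
    have hconj : g * w₁ * g⁻¹ = v₁ := by
      have h1 : (g * (w₁ * w₂) * g⁻¹) ^ m = g * (w₁ * w₂) ^ m * g⁻¹ := by
        rw [conj_pow]
      rw [hprodpow w₁ hw₁ w₂ hw₂, hb, hprodpow v₁ hv₁ v₂ hv₂] at h1
      exact h1.symm
    -- decompose g = k * u
    have hg' : g ∈ ((K ⊔ W₁ : Subgroup L) : Set L) := by rw [hKW₁']; trivial
    rw [Subgroup.normal_mul] at hg'
    obtain ⟨k, hk, u, hu, rfl⟩ := hg'
    have hk' : k ∈ K := hk
    have hu' : u ∈ W₁ := hu
    have hconj2 : k * w₁ * k⁻¹ = v₁ := by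
      have : k * u * w₁ * (k * u)⁻¹ = k * (u * w₁ * u⁻¹) * k⁻¹ := by group
      rw [this] at hconj
      have h2 : u * w₁ * u⁻¹ = w₁ := by rw [hW₁comm u hu' w₁ hw₁]; group
      rwa [h2] at hconj
    have hvw : v₁ * w₁⁻¹ ∈ K ⊓ W₁ := by
      constructor
      · rw [← hconj2]
        have : k * w₁ * k⁻¹ * w₁⁻¹ = k * (w₁ * k⁻¹ * w₁⁻¹) := by group
        rw [this]
        exact K.mul_mem hk' (hK.conj_mem _ (K.inv_mem hk') w₁)
      · exact W₁.mul_mem hv₁ (W₁.inv_mem hw₁)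
    rw [hKW₁, Subgroup.mem_bot] at hvw
    have hv₁w₁ : v₁ = w₁ := by
      have := mul_inv_eq_one.mp hvw
      exact this
    rw [hv₁w₁] at hconj2
    have hkW₂ : k ∈ W₂ := by
      rw [← hC w₁ hw₁ hw₁ne]
      refine ⟨hk', ?_⟩
      show k ∈ Subgroup.centralizer ({w₁} : Set L)
      rw [Subgroup.mem_centralizer_iff]
      intro y hy
      rw [Set.mem_singleton_iff] at hy
      subst hy
      calc y * k = (k * y * k⁻¹) * k := by rw [hconj2]
        _ = k * y := by group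
    exact (W₁ ⊔ W₂).mul_mem (Subgroup.mem_sup_right hkW₂) (Subgroup.mem_sup_left hu')
  · -- W ≤ N(X)
    intro w hw
    rw [Subgroup.mem_set_normalizer_iff]
    intro x
    constructor
    · intro hx
      have hxW := (hX hx).1
      have : w * x * w⁻¹ = x := by rw [hWcomm w hw x hxW]; group
      rw [this]; exact hx
    · intro hx
      have hxW := (hX hx).1
      have hxW' : x ∈ W₁ ⊔ W₂ := by
        have : x = w⁻¹ * (w * x * w⁻¹) * w := by group
        rw [this]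
        exact (W₁ ⊔ W₂).mul_mem ((W₁ ⊔ W₂).mul_mem ((W₁ ⊔ W₂).inv_mem hw) hxW) hw
      have : w * x * w⁻¹ = x := by rw [hWcomm w hw x hxW']; group
      rw [this] at hx; exact hx

end Cfsg.Agent.S1510
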