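import Cfsg.Statements.S1515
import Mathlib
import Cfsg.Agent.Lib.Helper26.IrrFactsInst
import Cfsg.Agent.Lib.Helper26.ZSpan

set_option autoImplicit false
open Cfsg

namespace Cfsg.Agent.S1515

open Cfsg.Agent.Lib.Helper26

/-- Let (S, τ, R) be a coherence system from L to G, χ ∈ S, and ψ an integer combination of S with ⟨χ, ψ⟩ = ⟨conj χ, ψ⟩ = 0. Let τ₁ be a linear isometry on the integer combinations of χ − ψ and χ − conj χ, with virtual-character values, agreeing with τ on integer multiples of χ − conj χ. Then the sum over α ∈ R χ of the squared absolute values of ⟨τ₁(χ − ψ), α⟩ is at least ⟨χ, χ⟩; and if ⟨τ₁(χ − ψ), τ₁(χ − ψ)⟩ minus that sum is at least ⟨ψ, ψ⟩, then the sum equals ⟨χ, χ⟩ and every ⟨τ₁(χ − ψ), α⟩ with α ∈ R χ is 0 or 1. -/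
theorem result {L : Type*} [Group L] [Fintype L] {G : Type*} [Group G] [Fintype G] (S : Set (L → ℂ)) (τ : (L → ℂ) → (G → ℂ)) (R : (L → ℂ) → Finset (G → ℂ)) (hS : Cfsg.IsCoherenceSystem S τ R) (χ : L → ℂ) (hχ : χ ∈ S) (ψ : L → ℂ) (hψ : ψ ∈ Cfsg.zspan S) (h1 : Cfsg.classInner χ ψ = 0) (h2 : Cfsg.classInner (Cfsg.conjFun χ) ψ = 0) (τ₁ : (L → ℂ) → (G → ℂ)) (hτ₁ : Cfsg.IsLinearIsometryOn (Cfsg.zspan {χ - ψ, χ - Cfsg.conjFun χ}) τ₁) (hagree : ∀ n : ℤ, τ₁ (n • (χ - Cfsg.conjFun χ)) = τ (n • (χ - Cfsg.conjFun χ))) : (Cfsg.classInner χ χ).re ≤ ∑ α ∈ R χ, ‖Cfsg.classInner (τ₁ (χ - ψ)) α‖ ^ 2 ∧ ((Cfsg.classInner ψ ψ).re ≤ (Cfsg.classInner (τ₁ (χ - ψ)) (τ₁ (χ - ψ))).re - ∑ α ∈ R χ, ‖Cfsg.classInner (τ₁ (χ - ψ)) α‖ ^ 2 → (∑ α ∈ R χ, ‖Cfsg.classInner (τ₁ (χ - ψ)) α‖ ^ 2 = (Cfsg.classInner χ χ).re ∧ ∀ α ∈ R χ, Cfsg.classInner (τ₁ (χ - ψ)) α = 0 ∨ Cfsg.classInner (τ₁ (χ - ψ)) α = 1))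 := by
  classical
  have FG := irrFacts G
  have hm1 : χ - ψ ∈ Cfsg.zspan {χ - ψ, χ - Cfsg.conjFun χ} :=
    subset_zspan _ (Set.mem_insert _ _)
  have hm2 : χ - Cfsg.conjFun χ ∈ Cfsg.zspan {χ - ψ, χ - Cfsg.conjFun χ} :=
    subset_zspan _ (Set.mem_insert_of_mem _ rfl)
  have hXgen : Cfsg.IsGeneralizedCharacter G (τ₁ (χ - ψ)) := isom_gen hτ₁ hm1
  have hint : ∀ α ∈ R χ, ∃ m : ℤ, Cfsg.classInner (τ₁ (χ - ψ)) α = m :=
    fun α hα => FG.inner_int hXgen (hS.virtual χ hχ α hα)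
  choose! x hx using hint
  have hconjχ := hS.conj_mem χ hχ
  have hne := hS.conj_ne χ hχ
  have horth : Cfsg.classInner χ (Cfsg.conjFun χ) = 0 :=
    hS.orthogonal χ hχ _ hconjχ hne.symm
  have hψχ : Cfsg.classInner ψ χ = 0 := by rw [← classInner_conj_symm, h1, map_zero]
  have hψχ' : Cfsg.classInner ψ (Cfsg.conjFun χ) = 0 := by
    rw [← classInner_conj_symm, h2, map_zero]
  have hsum : ∑ α ∈ R χ, (x α : ℂ) = Cfsg.classInner χ χ := by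
    have e1 : τ₁ (χ - Cfsg.conjFun χ) = ∑ α ∈ R χ, α := by
      have h3 := hagree 1
      rw [one_smul] at h3
      rw [h3, hS.sum_eq χ hχ]
    have e2 := isom_inner hτ₁ hm1 hm2
    rw [e1, classInner_sum_right] at e2
    rw [← Finset.sum_congr rfl (fun α hα => hx α hα), e2, classInner_sub_left,
      classInner_sub_right, classInner_sub_right, horth, hψχ, hψχ']
    ring
  have hsumre : (Cfsg.classInner χ χ).re = ∑ α ∈ R χ, (x α : ℝ) := by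
    rw [← hsum, Complex.re_sum]
    apply Finset.sum_congr rfl
    intro α _
    exact Complex.intCast_re _
  have hnorm : ∀ α ∈ R χ, ‖Cfsg.classInner (τ₁ (χ - ψ)) α‖ ^ 2 = (x α : ℝ) ^ 2 := by
    intro α hα
    rw [hx α hα, Complex.norm_intCast, sq_abs]
  have hle : ∀ α ∈ R χ, (x α : ℝ) ≤ (x α : ℝ) ^ 2 := by
    intro α _
    exact_mod_cast Int.le_self_sq (x α)
  rw [Finset.sum_congr rfl hnorm, hsumre]
  refine ⟨Finset.sum_le_sum hle, ?_⟩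
  intro h
  have hXX : Cfsg.classInner (τ₁ (χ - ψ)) (τ₁ (χ - ψ))
      = Cfsg.classInner χ χ + Cfsg.classInner ψ ψ := by
    rw [isom_inner hτ₁ hm1 hm1, classInner_sub_left, classInner_sub_right, classInner_sub_right,
      h1, hψχ]
    ring
  rw [hXX, Complex.add_re, hsumre] at h
  have hle2 : ∑ α ∈ R χ, (x α : ℝ) ^ 2 ≤ ∑ α ∈ R χ, (x α : ℝ) := by linarith
  have heq : ∑ α ∈ R χ, (x α : ℝ) = ∑ α ∈ R χ, (x α : ℝ) ^ 2 :=
    le_antisymm (Finset.sum_le_sum hle) hle2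
  refine ⟨heq.symm, ?_⟩
  intro α hα
  have h3 := (Finset.sum_eq_sum_iff_of_le hle).mp heq α hα
  have h4 : x α = (x α) ^ 2 := by exact_mod_cast h3
  have h5 : x α * (x α - 1) = 0 := by rw [mul_sub, mul_one, ← sq, ← h4, sub_self]
  rw [hx α hα]
  rcases mul_eq_zero.mp h5 with h6 | h6
  · left; rw [h6]; simp
  · right
    have : x α = 1 := by omega
    rw [this]; simp

end Cfsg.Agent.S1515
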