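import Cfsg.Statements.S1532
import Mathlib
import Cfsg.Agent.Lib.Helper25.FrobOdd
import Cfsg.Agent.Lib.Helper25.FrobKernel
import Cfsg.Agent.Lib.Helper25.CohCentral
import Cfsg.Agent.Lib.Helper74.SibleySetup
import Cfsg.Agent.S1514
import Cfsg.Agent.S1522

set_option autoImplicit false
open Cfsg

namespace Cfsg.Agent.S1532

/-- Let G be a finite group, p an odd prime and P a Sylow p-subgroup that is non-abelian, whose underlying set is a TI-subset of G, with P properly contained in its set normaliser N and C_G(x) ≤ P for every non-identity x ∈ P. Let Z be a nontrivial subgroup of the centre of P normalised by N. Then the set of irreducible characters χ of N with χ z ≠ χ 1 for some z ∈ Z is coherent for the map induced by induction from N to G. -/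
theorem result {G : Type*} [Group G] [Fintype G] (p : ℕ) [Fact p.Prime] (hp : p ≠ 2) (P : Sylow p G) (hna : ¬ IsMulCommutative (P : Subgroup G)) (hTI : Cfsg.IsTISubset ((P : Subgroup G) : Set G)) (hlt : (P : Subgroup G) < Subgroup.normalizer ((P : Subgroup G) : Set G)) (hC : ∀ k ∈ (P : Subgroup G), k ≠ 1 → Subgroup.centralizer ({k} : Set G) ≤ (P : Subgroup G)) [Fintype ↥(Subgroup.normalizer ((P : Subgroup G) : Set G))] (Z : Subgroup G) (hZ1 : Z ≠ ⊥) (hZP : ∀ z ∈ Z, z ∈ (P : Subgroup G) ∧ ∀ y ∈ (P : Subgroup G), z * y = y * z) (hZn : ∀ x ∈ Subgroup.normalizer ((P : Subgroup G) : Set G), ∀ z ∈ Z, x * z * x⁻¹ ∈ Z) : Cfsg.IsCoherent {χ : ↥(Subgroup.normalizer ((P : Subgroup G) : Set G)) → ℂ | Cfsg.IsIrrCharacter ↥(Subgroup.normalizer ((P : Subgroup G) : Set G)) χ ∧ ∃ z : ↥(Subgroup.normalizer ((P : Subgroup G) : Set G)), (z : G) ∈ Z ∧ χ z ≠ χ 1} {1}ᶜ (fun α => Cfsg.indFun (Subgroup.normalizer ((P : Subgroup G) : Set G)) α) := by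
  classical
  -- notation
  have hPN : (P : Subgroup G) ≤ Subgroup.normalizer ((P : Subgroup G) : Set G) := le_of_lt hlt
  have hHn : ∀ x ∈ Subgroup.normalizer ((P : Subgroup G) : Set G), ∀ h ∈ (P : Subgroup G),
      x * h * x⁻¹ ∈ (P : Subgroup G) := by
    intro x hx h hh
    exact (Subgroup.mem_normalizer_iff.mp hx h).mp hh
  have hKn : ((P : Subgroup G).subgroupOf
      (Subgroup.normalizer ((P : Subgroup G) : Set G))).Normal :=
    Cfsg.Agent.Lib.Helper74.subgroupOf_normal_of_conj _ _ hHn
  -- Frobenius condition inside the normaliser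
  have hC' : ∀ n ∈ (P : Subgroup G).subgroupOf (Subgroup.normalizer ((P : Subgroup G) : Set G)),
      n ≠ 1 → Subgroup.centralizer ({n} : Set ↥(Subgroup.normalizer ((P : Subgroup G) : Set G))) ≤
        (P : Subgroup G).subgroupOf (Subgroup.normalizer ((P : Subgroup G) : Set G)) := by
    intro n hn hn1 x hx
    rw [Subgroup.mem_subgroupOf] at hn ⊢
    apply hC (n : G) hn (fun h => hn1 (Subtype.ext h))
    rw [Subgroup.mem_centralizer_singleton_iff] at hx ⊢
    have := congrArg Subtype.val hx
    simpa using this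
  -- the kernel is not abelian
  have hna' : ¬ ∀ a ∈ (P : Subgroup G).subgroupOf (Subgroup.normalizer ((P : Subgroup G) : Set G)),
      ∀ b ∈ (P : Subgroup G).subgroupOf (Subgroup.normalizer ((P : Subgroup G) : Set G)),
        a * b = b * a := by
    intro hcomm
    apply hna
    refine ⟨⟨fun a b => ?_⟩⟩
    apply Subtype.ext
    have := hcomm ⟨(a : G), hPN a.2⟩ (by rw [Subgroup.mem_subgroupOf]; exact a.2)
      ⟨(b : G), hPN b.2⟩ (by rw [Subgroup.mem_subgroupOf]; exact b.2)
    have h2 := congrArg Subtype.val this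
    simpa using h2
  have hK1 : (P : Subgroup G).subgroupOf (Subgroup.normalizer ((P : Subgroup G) : Set G)) ≠ ⊥ := by
    intro h
    apply hna'
    intro a ha b hb
    rw [h, Subgroup.mem_bot] at ha hb
    rw [ha, hb]
  have hKtop : (P : Subgroup G).subgroupOf (Subgroup.normalizer ((P : Subgroup G) : Set G)) < ⊤ := by
    rw [lt_top_iff_ne_top]
    intro h
    rw [Subgroup.subgroupOf_eq_top] at h
    exact (not_le_of_gt hlt) h
  -- cardinalities
  have hKcard : Nat.card ((P : Subgroup G).subgroupOf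
      (Subgroup.normalizer ((P : Subgroup G) : Set G))) = Nat.card (P : Subgroup G) :=
    Nat.card_congr (Subgroup.subgroupOfEquivOfLe hPN).toEquiv
  have hpodd : Odd p := (Fact.out : p.Prime).odd_of_ne_two hp
  have hKodd : Odd (Nat.card ((P : Subgroup G).subgroupOf
      (Subgroup.normalizer ((P : Subgroup G) : Set G)))) := by
    rw [hKcard]
    obtain ⟨n, hn⟩ := (P.isPGroup').exists_card_eq
    rw [hn]
    exact hpodd.pow
  have hodd : Odd (Nat.card ↥(Subgroup.normalizer ((P : Subgroup G) : Set G))) :=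
    Cfsg.Agent.Lib.Helper25.FrobOdd.odd_card_of_not_comm _ hC' hKodd hna'
  -- the kernel is a `p`-group, hence nilpotent and solvable
  have hKp : IsPGroup p ((P : Subgroup G).subgroupOf
      (Subgroup.normalizer ((P : Subgroup G) : Set G))) :=
    (P.isPGroup').comap_subtype
  have hnil : Group.IsNilpotent ((P : Subgroup G).subgroupOf
      (Subgroup.normalizer ((P : Subgroup G) : Set G))) := hKp.isNilpotent
  have hsolv : Group.IsSolvable ((P : Subgroup G).subgroupOf
      (Subgroup.normalizer ((P : Subgroup G) : Set G))) := inferInstance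
  -- coherence system
  have hiso := Cfsg.Agent.Lib.Helper74.sibley_isLinearIsometryOn (P : Subgroup G)
    (Subgroup.normalizer ((P : Subgroup G) : Set G)) hPN hHn hTI rfl hC'
  obtain ⟨R, hR⟩ := Cfsg.Agent.S1514.result
    (Cfsg.inducedIrrAbove ((P : Subgroup G).subgroupOf
      (Subgroup.normalizer ((P : Subgroup G) : Set G))) ⊥)
    (Cfsg.Agent.Lib.Helper74.sibleyS_nonempty _ hK1)
    (fun χ hχ => Cfsg.Agent.Lib.Helper74.sibleyS_isIrrCharacter _ hC' hχ)
    (fun χ hχ => ⟨Cfsg.Agent.Lib.Helper74.sibleyS_conj_mem _ hχ,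
      Cfsg.Agent.Lib.Helper74.sibleyS_conj_ne _ hC' hodd hKtop hχ⟩)
    (fun α : ↥(Subgroup.normalizer ((P : Subgroup G) : Set G)) → ℂ =>
      Cfsg.indFun (Subgroup.normalizer ((P : Subgroup G) : Set G)) α) hiso.1 hiso.2
  -- the derived subgroup is proper
  have hH₁K : ⁅(P : Subgroup G).subgroupOf (Subgroup.normalizer ((P : Subgroup G) : Set G)),
      (P : Subgroup G).subgroupOf (Subgroup.normalizer ((P : Subgroup G) : Set G))⁆ <
      (P : Subgroup G).subgroupOf (Subgroup.normalizer ((P : Subgroup G) : Set G)) := by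
    refine lt_of_le_of_ne (Subgroup.commutator_le_right _ _) ?_
    intro heq
    have h1 : ⁅(⊤ : Subgroup ((P : Subgroup G).subgroupOf
        (Subgroup.normalizer ((P : Subgroup G) : Set G)))), (⊤ : Subgroup ((P : Subgroup G).subgroupOf
        (Subgroup.normalizer ((P : Subgroup G) : Set G))))⁆ = (⊤ : Subgroup ((P : Subgroup G).subgroupOf
        (Subgroup.normalizer ((P : Subgroup G) : Set G)))) := by
      apply Subgroup.map_injective (Subgroup.subtype_injective _)
      rw [Subgroup.map_commutator, ← MonoidHom.range_eq_map, Subgroup.range_subtype]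
      exact heq
    have h2 : ∀ n, derivedSeries ((P : Subgroup G).subgroupOf
        (Subgroup.normalizer ((P : Subgroup G) : Set G))) n = ⊤ := by
      intro n
      induction n with
      | zero => rfl
      | succ n ih => rw [derivedSeries_succ, ih, h1]
    obtain ⟨n, hn⟩ := hsolv.solvable
    rw [h2 n] at hn
    have h3 : ((P : Subgroup G).subgroupOf
        (Subgroup.normalizer ((P : Subgroup G) : Set G))) = ⊥ := by
      rw [Subgroup.eq_bot_iff_forall]
      intro x hx
      have : (⟨x, hx⟩ : (P : Subgroup G).subgroupOf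
          (Subgroup.normalizer ((P : Subgroup G) : Set G))) ∈ (⊤ : Subgroup _) := Subgroup.mem_top _
      rw [hn, Subgroup.mem_bot] at this
      exact congrArg Subtype.val this
    exact hK1 h3
  have hcn : (⁅(P : Subgroup G).subgroupOf (Subgroup.normalizer ((P : Subgroup G) : Set G)),
      (P : Subgroup G).subgroupOf (Subgroup.normalizer ((P : Subgroup G) : Set G))⁆).Normal :=
    Subgroup.commutator_normal _ _
  have hfrob := Cfsg.Agent.Lib.Helper25.FrobKernel.quotient_frob
    ((P : Subgroup G).subgroupOf (Subgroup.normalizer ((P : Subgroup G) : Set G))) hC'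
    ⁅(P : Subgroup G).subgroupOf (Subgroup.normalizer ((P : Subgroup G) : Set G)),
      (P : Subgroup G).subgroupOf (Subgroup.normalizer ((P : Subgroup G) : Set G))⁆
    (le_of_lt hH₁K)
  -- the central subgroup
  have hZn' : (Z.subgroupOf (Subgroup.normalizer ((P : Subgroup G) : Set G))).Normal :=
    Cfsg.Agent.Lib.Helper74.subgroupOf_normal_of_conj _ _ hZn
  have hZ1' : Z.subgroupOf (Subgroup.normalizer ((P : Subgroup G) : Set G)) ≠ ⊥ := by
    intro h
    apply hZ1
    rw [Subgroup.eq_bot_iff_forall]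
    intro z hz
    have hzN : z ∈ Subgroup.normalizer ((P : Subgroup G) : Set G) := hPN (hZP z hz).1
    have : (⟨z, hzN⟩ : ↥(Subgroup.normalizer ((P : Subgroup G) : Set G))) ∈
        Z.subgroupOf (Subgroup.normalizer ((P : Subgroup G) : Set G)) := by
      rw [Subgroup.mem_subgroupOf]; exact hz
    rw [h, Subgroup.mem_bot] at this
    exact congrArg Subtype.val this
  have hZK : Z.subgroupOf (Subgroup.normalizer ((P : Subgroup G) : Set G)) ≤
      (P : Subgroup G).subgroupOf (Subgroup.normalizer ((P : Subgroup G) : Set G)) := by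
    intro z hz
    rw [Subgroup.mem_subgroupOf] at hz ⊢
    exact (hZP _ hz).1
  have hZc : ∀ z ∈ Z.subgroupOf (Subgroup.normalizer ((P : Subgroup G) : Set G)),
      ∀ k ∈ (P : Subgroup G).subgroupOf (Subgroup.normalizer ((P : Subgroup G) : Set G)),
        z * k = k * z := by
    intro z hz k hk
    rw [Subgroup.mem_subgroupOf] at hz hk
    apply Subtype.ext
    exact (hZP _ hz).2 _ hk
  have hirr : ∀ χ ∈ Cfsg.inducedIrrAbove ((P : Subgroup G).subgroupOf
      (Subgroup.normalizer ((P : Subgroup G) : Set G))) ⊥ \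
      Cfsg.inducedIrrAbove ((P : Subgroup G).subgroupOf
        (Subgroup.normalizer ((P : Subgroup G) : Set G)))
        (Z.subgroupOf (Subgroup.normalizer ((P : Subgroup G) : Set G))),
      Cfsg.IsIrrCharacter ↥(Subgroup.normalizer ((P : Subgroup G) : Set G)) χ :=
    fun χ hχ => Cfsg.Agent.Lib.Helper74.sibleyS_isIrrCharacter _ hC' hχ.1
  obtain ⟨hset, hcoh⟩ := Cfsg.Agent.S1522.result
    ((P : Subgroup G).subgroupOf (Subgroup.normalizer ((P : Subgroup G) : Set G))) hsolv
    (fun α : ↥(Subgroup.normalizer ((P : Subgroup G) : Set G)) → ℂ =>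
      Cfsg.indFun (Subgroup.normalizer ((P : Subgroup G) : Set G)) α) R hR hodd hnil hH₁K hKtop
    hfrob (Z.subgroupOf (Subgroup.normalizer ((P : Subgroup G) : Set G))) hZ1' hZK hZc hirr
  rw [hset] at hcoh
  have hseteq : {χ : ↥(Subgroup.normalizer ((P : Subgroup G) : Set G)) → ℂ |
      Cfsg.IsIrrCharacter ↥(Subgroup.normalizer ((P : Subgroup G) : Set G)) χ ∧
        ∃ z : ↥(Subgroup.normalizer ((P : Subgroup G) : Set G)), (z : G) ∈ Z ∧ χ z ≠ χ 1} =
      {χ | Cfsg.IsIrrCharacter ↥(Subgroup.normalizer ((P : Subgroup G) : Set G)) χ ∧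
        ∃ z ∈ Z.subgroupOf (Subgroup.normalizer ((P : Subgroup G) : Set G)), χ z ≠ χ 1} := by
    ext χ
    simp only [Set.mem_ofPred_eq, Subgroup.mem_subgroupOf]
  rw [hseteq]
  exact hcoh

end Cfsg.Agent.S1532
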