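import Cfsg.Statements.S1533
import Cfsg.Agent.Lib.Helper74.TIFNCoh
import Cfsg.Agent.S1524

set_option autoImplicit false
open Cfsg

namespace Cfsg.Agent.S1533

/-- Let G be a finite group, p an odd prime, and P a nontrivial Sylow p-subgroup whose underlying set is a TI-subset of G, with P properly contained in its set normaliser N and C_G(x) ≤ P for every non-identity x ∈ P. Let S be the set of irreducible characters χ of N with χ x ≠ χ 1 for some x ∈ P. Then either S has exactly one member, P is elementary abelian and Nat.card P = [N:P] + 1; or (S, N minus 1, induction to G) is coherent. -/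
theorem result {G : Type*} [Group G] [Fintype G] (p : ℕ) [Fact p.Prime] (hp : p ≠ 2) (P : Sylow p G) (hP1 : (P : Subgroup G) ≠ ⊥) (hTI : Cfsg.IsTISubset ((P : Subgroup G) : Set G)) (hlt : (P : Subgroup G) < Subgroup.normalizer ((P : Subgroup G) : Set G)) (hC : ∀ k ∈ (P : Subgroup G), k ≠ 1 → Subgroup.centralizer ({k} : Set G) ≤ (P : Subgroup G)) [Fintype ↥(Subgroup.normalizer ((P : Subgroup G) : Set G))] : (Nat.card {χ : ↥(Subgroup.normalizer ((P : Subgroup G) : Set G)) → ℂ // Cfsg.IsIrrCharacter ↥(Subgroup.normalizer ((P : Subgroup G) : Set G)) χ ∧ ∃ x : ↥(Subgroup.normalizer ((P : Subgroup G) : Set G)), (x : G) ∈ (P : Subgroup G) ∧ χ x ≠ χ 1} = 1 ∧ Cfsg.IsElementaryAbelian p (P : Subgroup G) ∧ Nat.card (P : Subgroup G) = ((P : Subgroup G).subgroupOf (Subgroup.normalizer ((P : Subgroup G) : Set G))).index + 1) ∨ Cfsg.IsCoherent {χ : ↥(Subgroup.normalizer ((P : Subgroup G) : Set G)) → ℂ | Cfsg.IsIrrCharacter ↥(Subgroup.normalizer ((P : Subgroup G) : Set G)) χ ∧ ∃ x :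 ↥(Subgroup.normalizer ((P : Subgroup G) : Set G)), (x : G) ∈ (P : Subgroup G) ∧ χ x ≠ χ 1} {1}ᶜ (fun α => Cfsg.indFun (Subgroup.normalizer ((P : Subgroup G) : Set G)) α) := by
  have hpp : p.Prime := Fact.out
  have hnil : Group.IsNilpotent (P : Subgroup G) := P.2.isNilpotent
  have hmain := Cfsg.Agent.Lib.Helper74.tifn_coherence (P : Subgroup G) hP1 hTI hlt hC (by
    intro W₁ hodd hW₁L hW1 hinf hsup hfpf
    exact Cfsg.Agent.S1524.result (P : Subgroup G)
      (Subgroup.normalizer ((P : Subgroup G) : Set G)) W₁ hodd Subgroup.le_normalizer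
      hW₁L hP1 hW1 hnil
      (fun x hx h hh => (Subgroup.mem_normalizer_iff.mp hx h).mp hh) hinf hsup hfpf hTI rfl)
  -- a non-identity element of `P`
  obtain ⟨a, ha, ha1⟩ : ∃ a : G, a ∈ (P : Subgroup G) ∧ a ≠ 1 := by
    by_contra hcon
    apply hP1
    rw [eq_bot_iff]
    intro x hx
    rw [Subgroup.mem_bot]
    by_contra hx1
    exact hcon ⟨x, hx, hx1⟩
  obtain ⟨k, hk⟩ := P.2 ⟨a, ha⟩
  have hk' : a ^ p ^ k = 1 := by
    have := congrArg Subtype.val hk
    simpa using this
  rcases hmain with ⟨h1, h2, q, hq, hcomm, hpow⟩ | ⟨h1, -⟩ | h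
  · left
    refine ⟨h1, ⟨hcomm, ?_⟩, h2⟩
    -- `q = p`
    have haq := hpow a ha
    have hord1 : orderOf a ∣ q := orderOf_dvd_of_pow_eq_one haq
    have hord2 : orderOf a ∣ p ^ k := orderOf_dvd_of_pow_eq_one hk'
    have hordne : orderOf a ≠ 1 := by
      intro h
      exact ha1 (orderOf_eq_one_iff.mp h)
    have hoq : orderOf a = q := (Nat.dvd_prime hq).mp hord1 |>.resolve_left hordne
    have hqp : q = p := by
      rw [hoq] at hord2
      exact (Nat.prime_dvd_prime_iff_eq hq hpp).mp (hq.dvd_of_dvd_pow hord2)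
    subst hqp
    exact hpow
  · exfalso
    -- `|P|` is a power of `p` and of `2`
    obtain ⟨n, hn⟩ := IsPGroup.iff_card.mp P.2
    have hn0 : n ≠ 0 := by
      rintro rfl
      rw [pow_zero] at hn
      exact hP1 (Subgroup.card_eq_one.mp hn)
    have hdvd : p ∣ 2 ^ (Nat.card G).factorization 2 := by
      rw [← h1, hn]
      exact dvd_pow_self p hn0
    exact hp ((Nat.prime_dvd_prime_iff_eq hpp Nat.prime_two).mp (hpp.dvd_of_dvd_pow hdvd))
  · right
    exact h

end Cfsg.Agent.S1533
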