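-- Statement S1540 (Peterfalvi Theorem 12.7 / FT main theorem of Chapter V for Type I):
-- a maximal subgroup of Type I of a minimal simple group of odd order is a Frobenius group with
-- kernel `M_F`.  Assembly (helper74): `stmt1540_of_pair` (sec.12 transport) + sec.11 finals
-- (`no_typeIV`, `typeIII_lt`, `struct34_of_pair`; helper64's chain, compiled in Helper74.PF11F) +
-- sec.10 `no_typeV_book`.
import Cfsg.Statements.S1540
import Cfsg.Agent.Lib.Helper74.PFElevenDichFinal
import Cfsg.Agent.Lib.Helper74.PFNoTypeV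
import Cfsg.Agent.Lib.Helper74.PFElevenFinalA74

set_option autoImplicit false
open Cfsg

namespace Cfsg.Agent.S1540

/-- Let G be a minimal simple group of odd order and M a maximal subgroup of Type I. Then every non-identity element of M_F has its centraliser in M contained in M_F (M is a Frobenius group with kernel M_F). -/
theorem result {G : Type*} [Group G] [Finite G] (hG : Cfsg.IsMinSimpleOddOrder G) (M : Subgroup G) (hM : IsCoatom M) (hI : Cfsg.IsOfTypeI M) : ∀ x ∈ Cfsg.fittingHallOf M, x ≠ 1 → M ⊓ Subgroup.centralizer ({x} : Set G) ≤ Cfsg.fittingHallOf M := by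
  classical
  letI : Fintype G := Fintype.ofFinite G
  have bg := Cfsg.Agent.Lib.Helper24.BGBook.bookBGData hG
  have pf8 := Cfsg.Agent.Lib.Helper26.PFBook.bookPF8Data_of hG bg
  exact Cfsg.Agent.Lib.Helper74.PF127.stmt1540_of_pair hG bg
    (fun ph => Cfsg.Agent.Lib.Helper74.PF11F.no_typeIV hG bg pf8 ph)
    (fun ph h => Cfsg.Agent.Lib.Helper74.PF11F.typeIII_lt hG bg pf8 ph h)
    (fun ph h => Cfsg.Agent.Lib.Helper74.PF11F.struct34_of_pair hG bg pf8 ph (Or.inl h))
    (Cfsg.Agent.Lib.Helper74.PF10.no_typeV_book hG) M hM hI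

end Cfsg.Agent.S1540
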