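import Cfsg.Statements.S1541
-- import your own Cfsg.Agent.* helpers here
import Cfsg.Agent.Lib.Helper4.PFTwelveS1541
import Cfsg.Agent.Lib.Helper74.PF127Main
import Cfsg.Agent.Lib.Helper26.BGRows
import Cfsg.Agent.Lib.Helper26.PFBookC
import Cfsg.Agent.Lib.Helper24.BGBookFinalC

set_option autoImplicit false
open Cfsg

namespace Cfsg.Agent.S1541

/-- Let G be a minimal simple group of odd order. Then some maximal subgroup of G is not of Type I. -/
theorem result {G : Type*} [Group G] [Finite G] (hG : Cfsg.IsMinSimpleOddOrder G) : ∃ M : Subgroup G, IsCoatom M ∧ ¬ Cfsg.IsOfTypeI M := by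
  have bg := Cfsg.Agent.Lib.Helper24.BGBook.bookBGData hG
  have pf8 := Cfsg.Agent.Lib.Helper26.PFBook.bookPF8Data_of hG bg
  have hσ := Cfsg.Agent.Lib.Helper26.BGRows.sigmaCore_eq hG
  exact Cfsg.Agent.Lib.Helper4.PF.stmt1541_of hG bg pf8
    (Cfsg.Agent.Lib.Helper26.BGRows.kappa_eq_empty hG) hσ
    (fun hall => Cfsg.Agent.Lib.Helper74.PF127.typeI_frobenius_of_all hG bg pf8 hσ hall)

end Cfsg.Agent.S1541
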