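import Cfsg.Statements.S1546
import Mathlib
-- import your own Cfsg.Agent.* helpers here

set_option autoImplicit false
open Cfsg

namespace Cfsg.Agent.S1546

/-- The geometric sum `1 + p + ⋯ + p^(q-1)` is congruent to `q` modulo any divisor `d` of `p - 1`. -/
theorem geom_modEq (p q d : ℕ) (hp : 1 ≤ p) (hd : d ∣ p - 1) :
    (∑ k ∈ Finset.range q, p ^ k) ≡ q [MOD d] := by
  have hp1 : p ≡ 1 [MOD d] := by
    have : 1 ≡ p [MOD d] := (Nat.modEq_iff_dvd' hp).2 hd
    exact this.symm
  have h : ∀ k, p ^ k ≡ 1 [MOD d] := fun k => by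
    simpa using hp1.pow k
  have hsum : (∑ k ∈ Finset.range q, p ^ k) ≡ ∑ _k ∈ Finset.range q, 1 [MOD d] := by
    unfold Nat.ModEq
    rw [Finset.sum_nat_mod, Finset.sum_nat_mod (f := fun _ => 1)]
    congr 1
    apply Finset.sum_congr rfl
    intro k _
    exact h k
  simpa using hsum

theorem mul_geom (p q : ℕ) (hp : 2 ≤ p) :
    (p - 1) * (∑ k ∈ Finset.range q, p ^ k) = p ^ q - 1 := by
  have h1 : 1 ≤ p ^ q := Nat.one_le_pow _ _ (by omega)
  zify [h1, show 1 ≤ p by omega]
  exact mul_geom_sum (p : ℤ) q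

/-- Let p and q be odd primes and N = (p ^ q − 1) / (p − 1) = 1 + p + ⋯ + p^(q−1). Then N is odd; if p ≡ 1 (mod q) then q ∣ N; and if p is not ≡ 1 (mod q) then N is coprime to p − 1 and every divisor of N is ≡ 1 (mod q). -/
theorem result (p q : ℕ) (hp : p.Prime) (hq : q.Prime) (hp2 : p ≠ 2) (hq2 : q ≠ 2) : Odd ((p ^ q - 1) / (p - 1)) ∧ (p % q = 1 → q ∣ (p ^ q - 1) / (p - 1)) ∧ (p % q ≠ 1 → Nat.Coprime ((p ^ q - 1) / (p - 1)) (p - 1) ∧ ∀ x : ℕ, x ∣ (p ^ q - 1) / (p - 1) → x % q = 1) := by
  have hp2' : 2 ≤ p := hp.two_le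
  have hq2' : 2 ≤ q := hq.two_le
  rw [← Nat.geomSum_eq hp2' q]
  set N := ∑ k ∈ Finset.range q, p ^ k with hN
  have hpodd : Odd p := hp.odd_of_ne_two hp2
  have hqodd : Odd q := hq.odd_of_ne_two hq2
  have hmul : (p - 1) * N = p ^ q - 1 := mul_geom p q hp2'
  have hNpos : 0 < N := by
    rw [hN]
    apply Finset.sum_pos
    · intro k _; exact Nat.pow_pos (by omega)
    · exact ⟨0, Finset.mem_range.2 (by omega)⟩
  -- the key coprimality fact
  have hcop : p % q ≠ 1 → Nat.Coprime N (p - 1) := by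
    intro hpq
    rw [Nat.coprime_iff_gcd_eq_one]
    by_contra hne
    obtain ⟨r, hr, hrd⟩ := Nat.exists_prime_and_dvd hne
    have hrN : r ∣ N := hrd.trans (Nat.gcd_dvd_left _ _)
    have hrp : r ∣ p - 1 := hrd.trans (Nat.gcd_dvd_right _ _)
    have hmod : N ≡ q [MOD r] := geom_modEq p q r (by omega) hrp
    have hrq : r ∣ q := by
      have : q % r = 0 := by
        rw [← hmod]; exact Nat.mod_eq_zero_of_dvd hrN
      exact Nat.dvd_of_mod_eq_zero this
    have hrq' : r = q := (Nat.prime_dvd_prime_iff_eq hr hq).1 hrq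
    subst hrq'
    apply hpq
    obtain ⟨m, hm⟩ := hrp
    have : p = r * m + 1 := by omega
    rw [this, Nat.mul_add_mod]
    exact Nat.mod_eq_of_lt (by omega)
  refine ⟨?_, ?_, ?_⟩
  · -- N odd
    have hmod : N ≡ q [MOD 2] := by
      apply geom_modEq p q 2 (by omega)
      obtain ⟨m, hm⟩ := hpodd
      exact ⟨m, by omega⟩
    rw [Nat.odd_iff]
    rw [hmod]
    exact Nat.odd_iff.1 hqodd
  · intro hpq
    have hqp : q ∣ p - 1 := by
      have h1 : 1 ≡ p [MOD q] := by
        unfold Nat.ModEq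
        rw [hpq]; exact Nat.mod_eq_of_lt (by omega)
      exact (Nat.modEq_iff_dvd' (by omega)).1 h1
    have hmod : N ≡ q [MOD q] := geom_modEq p q q (by omega) hqp
    apply Nat.dvd_of_mod_eq_zero
    rw [hmod]; exact Nat.mod_self q
  · intro hpq
    refine ⟨hcop hpq, ?_⟩
    -- prime divisors
    have hprime : ∀ r : ℕ, r.Prime → r ∣ N → r % q = 1 := by
      intro r hr hrN
      have : Fact r.Prime := ⟨hr⟩
      have hrpq : r ∣ p ^ q - 1 := by rw [← hmul]; exact Dvd.dvd.mul_left hrN _
      have hpow : ((p : ZMod r)) ^ q = 1 := by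
        have h1 : 1 ≤ p ^ q := Nat.one_le_pow _ _ (by omega)
        have : ((p ^ q - 1 : ℕ) : ZMod r) = 0 := (ZMod.natCast_eq_zero_iff _ _).2 hrpq
        rw [Nat.cast_sub h1] at this
        push_cast at this
        exact sub_eq_zero.1 this
      have hord : orderOf (p : ZMod r) ∣ q := orderOf_dvd_of_pow_eq_one hpow
      rcases (Nat.dvd_prime hq).1 hord with h1 | h1
      · -- order 1: p ≡ 1 mod r
        exfalso
        have hp1 : (p : ZMod r) = 1 := orderOf_eq_one_iff.1 h1
        have hrp : r ∣ p - 1 := by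
          have : ((p - 1 : ℕ) : ZMod r) = 0 := by
            rw [Nat.cast_sub (by omega)]; simp [hp1]
          exact (ZMod.natCast_eq_zero_iff _ _).1 this
        have hr1 : r ∣ Nat.gcd N (p - 1) := Nat.dvd_gcd hrN hrp
        rw [hcop hpq] at hr1
        exact hr.one_lt.ne' (Nat.dvd_one.1 hr1)
      · -- order q
        have hpne : (p : ZMod r) ≠ 0 := by
          intro h0
          rw [h0, zero_pow (by omega)] at hpow
          exact zero_ne_one hpow
        have hfermat : (p : ZMod r) ^ (r - 1) = 1 := ZMod.pow_card_sub_one_eq_one hpne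
        have hq_dvd : q ∣ r - 1 := by
          rw [← h1]; exact orderOf_dvd_of_pow_eq_one hfermat
        obtain ⟨m, hm⟩ := hq_dvd
        have hr2 := hr.two_le
        have : r = q * m + 1 := by omega
        rw [this, Nat.mul_add_mod]
        exact Nat.mod_eq_of_lt (by omega)
    intro x
    induction x using Nat.strong_induction_on with
    | _ x ih =>
      intro hx
      by_cases hx1 : x = 1
      · subst hx1; exact Nat.mod_eq_of_lt (by omega)
      · have hx0 : x ≠ 0 := by
          rintro rfl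
          have := Nat.eq_zero_of_zero_dvd hx
          omega
        have hr := Nat.minFac_prime hx1
        have hrx := Nat.minFac_dvd x
        obtain ⟨y, hy⟩ := hrx
        have hy0 : y ≠ 0 := by rintro rfl; simp at hy; exact hx0 hy
        have hylt : y < x := by
          have := hr.two_le
          nlinarith [Nat.pos_of_ne_zero hy0]
        have hyN : y ∣ N := (Dvd.intro_left _ hy.symm).trans hx
        have h1 := ih y hylt hyN
        have h2 := hprime _ hr ((Nat.minFac_dvd x).trans hx)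
        rw [hy, Nat.mul_mod, h1, h2]
        exact Nat.mod_eq_of_lt (by omega)

end Cfsg.Agent.S1546
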