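import Cfsg.Statements.S1551
-- import your own Cfsg.Agent.* helpers here

import Cfsg.Agent.Lib.Helper26.SextetKernel

set_option autoImplicit false
open scoped Pointwise
open Cfsg

namespace Cfsg.Agent.S1551

open Cfsg.Agent.Lib.Helper26

/-- the elements of `M24` fixing every tetrad of `S` and squaring to the identity -/
def invSet (S : Finset (Finset GolayPt)) : Set (Equiv.Perm GolayPt) :=
  {σ | σ ∈ M24 ∧ (∀ t ∈ S, σ • t = t) ∧ σ * σ = 1}

theorem mem_invSet_of_lt {S : Finset (Finset GolayPt)} {h : Equiv.Perm GolayPt} (hh : h ∈ M24)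
    (helem : ∀ t, t ∈ S ↔ ∃ k < 6, t = h • tet k) {a : ℕ} (ha : a < 64) :
    h * kP.getD a 1 * h⁻¹ ∈ invSet S := by
  refine ⟨M24.mul_mem (M24.mul_mem hh (kP_mem_M24 a)) (M24.inv_mem hh), ?_, ?_⟩
  · intro t ht
    obtain ⟨k, hk, rfl⟩ := (helem t).1 ht
    rw [mul_smul, mul_smul, inv_smul_smul, kP_fix (by omega) hk]
  · have h1 : kP.getD a 1 * kP.getD a 1 = 1 := (kP_sq_iff (by omega)).2 ha
    calc h * kP.getD a 1 * h⁻¹ * (h * kP.getD a 1 * h⁻¹)
        = h * (kP.getD a 1 * kP.getD a 1) * h⁻¹ := by group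
      _ = 1 := by rw [h1]; group

theorem exists_of_mem_invSet {S : Finset (Finset GolayPt)} {h : Equiv.Perm GolayPt} (hh : h ∈ M24)
    (helem : ∀ t, t ∈ S ↔ ∃ k < 6, t = h • tet k) {σ : Equiv.Perm GolayPt} (hσ : σ ∈ invSet S) :
    ∃ a < 64, σ = h * kP.getD a 1 * h⁻¹ := by
  obtain ⟨hσM, hσfix, hσsq⟩ := hσ
  have h1 : h⁻¹ * σ * h ∈ M24 := M24.mul_mem (M24.mul_mem (M24.inv_mem hh) hσM) hh
  have h2 : ∀ k < 6, (h⁻¹ * σ * h) • tet k = tet k := by
    intro k hk
    rw [mul_smul, mul_smul, hσfix _ ((helem _).2 ⟨k, hk, rfl⟩), inv_smul_smul]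
  obtain ⟨a, ha, hae⟩ := exists_kP_eq h1 h2
  have h3 : kP.getD a 1 * kP.getD a 1 = 1 := by
    rw [← hae]
    calc h⁻¹ * σ * h * (h⁻¹ * σ * h) = h⁻¹ * (σ * σ) * h := by group
      _ = 1 := by rw [hσsq]; group
  refine ⟨a, (kP_sq_iff ha).1 h3, ?_⟩
  rw [← hae]
  group

theorem mul_mem_invSet {S : Finset (Finset GolayPt)} (hS : S ∈ sextets) {σ τ : Equiv.Perm GolayPt}
    (hσ : σ ∈ invSet S) (hτ : τ ∈ invSet S) : σ * τ ∈ invSet S := by
  obtain ⟨h, hh, -, helem⟩ := sextet_elems hS
  obtain ⟨a, ha, rfl⟩ := exists_of_mem_invSet hh helem hσ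
  obtain ⟨b, hb, rfl⟩ := exists_of_mem_invSet hh helem hτ
  have : h * kP.getD a 1 * h⁻¹ * (h * kP.getD b 1 * h⁻¹) = h * kP.getD (a ^^^ b) 1 * h⁻¹ := by
    rw [← kP_mul ha hb]
    group
  rw [this]
  exact mem_invSet_of_lt hh helem (xor_lt_64 ha hb)

theorem ncard_invSet {S : Finset (Finset GolayPt)} (hS : S ∈ sextets) : (invSet S).ncard = 64 := by
  obtain ⟨h, hh, -, helem⟩ := sextet_elems hS
  have himg : invSet S = (fun a => h * kP.getD a 1 * h⁻¹) '' ((Finset.range 64 : Finset ℕ) : Set ℕ) := by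
    ext σ
    constructor
    · intro hσ
      obtain ⟨a, ha, rfl⟩ := exists_of_mem_invSet hh helem hσ
      exact ⟨a, by simpa using ha, rfl⟩
    · rintro ⟨a, ha, rfl⟩
      exact mem_invSet_of_lt hh helem (by simpa using ha)
  have hinj : Set.InjOn (fun a => h * kP.getD a 1 * h⁻¹) ((Finset.range 64 : Finset ℕ) : Set ℕ) := by
    intro a ha b hb hab
    have ha' : a < 64 := by simpa using ha
    have hb' : b < 64 := by simpa using hb
    have : kP.getD a 1 = kP.getD b 1 := by
      have h1 : h * kP.getD a 1 * h⁻¹ = h * kP.getD b 1 * h⁻¹ := hab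
      exact mul_left_cancel (mul_right_cancel h1)
    exact kP_injOn (by omega) (by omega) this
  rw [himg, hinj.ncard_image, Set.ncard_coe_finset, Finset.card_range]

/-- the subgroup of `Equiv.Perm GolayPt` with carrier `invSet S` -/
def invSubgroup {S : Finset (Finset GolayPt)} (hS : S ∈ sextets) :
    Subgroup (Equiv.Perm GolayPt) where
  carrier := invSet S
  mul_mem' := fun ha hb => mul_mem_invSet hS ha hb
  one_mem' := ⟨M24.one_mem, fun t _ => one_smul _ t, one_mul 1⟩
  inv_mem' := by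
    intro σ hσ
    have : σ⁻¹ = σ := inv_eq_of_mul_eq_one_left hσ.2.2
    rw [this]
    exact hσ

/-- Structure of a sextet stabiliser: it induces every permutation of the six tetrads, the subgroup fixing each tetrad setwise has order 192, and there is a normal subgroup of order 64 consisting of elements squaring to the identity. -/
theorem result (S : Finset (Finset Cfsg.GolayPt)) (hS : S ∈ Cfsg.sextets) : (∀ e : Equiv.Perm ↥S, ∃ g ∈ MulAction.stabilizer Cfsg.M24 S, ∀ t : ↥S, (g : Equiv.Perm Cfsg.GolayPt) • (t : Finset Cfsg.GolayPt) = ((e t : ↥S) : Finset Cfsg.GolayPt)) ∧ Nat.card {g : ↥(MulAction.stabilizer Cfsg.M24 S) // ∀ t ∈ S, ((g : Cfsg.M24) : Equiv.Perm Cfsg.GolayPt) • t = t} = 192 ∧ ∃ N : Subgroup ↥(MulAction.stabilizer Cfsg.M24 S), N.Normal ∧ Nat.card N = 64 ∧ ∀ x ∈ N, x * x = 1 := by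
  refine ⟨sextet_induces_all hS, ?_, ?_⟩
  · rw [← card_ker_tetPerm hS]
    exact Nat.card_congr (Equiv.subtypeEquivRight fun g => (mem_ker_tetPerm g).symm)
  · let toP : ↥(MulAction.stabilizer M24 S) →* Equiv.Perm GolayPt :=
      (Subgroup.subtype M24).comp (Subgroup.subtype _)
    have htoP : ∀ g : ↥(MulAction.stabilizer M24 S), toP g = (g.1.1 : Equiv.Perm GolayPt) :=
      fun _ => rfl
    have htoP_inj : Function.Injective toP := fun a b hab => Subtype.ext (Subtype.ext hab)
    have hstab : ∀ g : ↥(MulAction.stabilizer M24 S), (toP g) • S = S := fun g =>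
      MulAction.mem_stabilizer_iff.1 g.2
    refine ⟨(invSubgroup hS).comap toP, ⟨?_⟩, ?_, ?_⟩
    · intro n hn x
      rw [Subgroup.mem_comap] at hn ⊢
      obtain ⟨hnM, hnfix, hnsq⟩ := hn
      rw [map_mul, map_mul, map_inv]
      refine ⟨M24.mul_mem (M24.mul_mem x.1.2 hnM) (M24.inv_mem x.1.2), ?_, ?_⟩
      · intro t ht
        have hinvS : (toP x)⁻¹ • S = S := inv_smul_eq_iff.2 (hstab x).symm
        rw [mul_smul, mul_smul, hnfix _ (smul_mem_of_smul_eq hinvS ht), smul_inv_smul]
      · calc toP x * toP n * (toP x)⁻¹ * (toP x * toP n * (toP x)⁻¹)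
            = toP x * (toP n * toP n) * (toP x)⁻¹ := by group
          _ = 1 := by rw [hnsq]; group
    · have himg : toP '' (((invSubgroup hS).comap toP : Subgroup _) : Set ↥(MulAction.stabilizer M24 S))
          = invSet S := by
        ext σ
        constructor
        · rintro ⟨g, hg, rfl⟩
          exact hg
        · intro hσ
          have hσS : σ • S = S := by
            apply Finset.eq_of_subset_of_card_le
            · intro t ht
              obtain ⟨t₀, ht₀, rfl⟩ := Finset.mem_smul_finset.1 ht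
              rw [hσ.2.1 t₀ ht₀]
              exact ht₀
            · rw [Finset.card_smul_finset]
          exact ⟨⟨⟨σ, hσ.1⟩, MulAction.mem_stabilizer_iff.2 hσS⟩, hσ, rfl⟩
      have h1 := Set.ncard_image_of_injective
        (((invSubgroup hS).comap toP : Subgroup _) : Set ↥(MulAction.stabilizer M24 S)) htoP_inj
      rw [himg, ncard_invSet hS] at h1
      rw [h1]
      exact (Nat.card_coe_set_eq _)
    · intro x hx
      apply htoP_inj
      rw [map_mul, map_one]
      exact hx.2.2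

end Cfsg.Agent.S1551
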