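import Cfsg.Statements.S1552
-- import your own Cfsg.Agent.* helpers here


import Cfsg.Agent.Lib.Helper26.Sextets

set_option autoImplicit false
open scoped Pointwise
open Cfsg

namespace Cfsg.Agent.S1552

open Cfsg.Agent.Lib.Helper26

/-- A sextet stabiliser has four orbits on the 1771 sextets, of sizes 1, 90, 240, 1440; and the stabiliser is a maximal proper subgroup. -/
theorem result (S : Finset (Finset Cfsg.GolayPt)) (hS : S ∈ Cfsg.sextets) : ∃ X₁ ∈ Cfsg.sextets, ∃ X₂ ∈ Cfsg.sextets, ∃ X₃ ∈ Cfsg.sextets, (MulAction.orbit ↥(MulAction.stabilizer Cfsg.M24 S) X₁).ncard = 90 ∧ (MulAction.orbit ↥(MulAction.stabilizer Cfsg.M24 S) X₂).ncard = 240 ∧ (MulAction.orbit ↥(MulAction.stabilizer Cfsg.M24 S) X₃).ncard = 1440 ∧ Cfsg.sextets = {S} ∪ MulAction.orbit ↥(MulAction.stabilizer Cfsg.M24 S) X₁ ∪ MulAction.orbit ↥(MulAction.stabilizer Cfsg.M24 S) X₂ ∪ MulAction.orbit ↥(MulAction.stabilizer Cfsg.M24 S) X₃ ∧ IsCoatom (MulAction.stabilizer Cfsg.M24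 S) := by
  obtain ⟨⟨X, hXF, horb, hncard, hcov, _⟩, hco⟩ := sextet_main S hS
  refine ⟨X 0, hXF 0 (by norm_num), X 1, hXF 1 (by norm_num), X 2, hXF 2 (by norm_num), ?_, ?_, ?_,
    ?_, hco⟩
  · rw [horb 0 (by norm_num), hncard 0 (by norm_num)]; rfl
  · rw [horb 1 (by norm_num), hncard 1 (by norm_num)]; rfl
  · rw [horb 2 (by norm_num), hncard 2 (by norm_num)]; rfl
  · rw [horb 0 (by norm_num), horb 1 (by norm_num), horb 2 (by norm_num)]
    ext Y
    constructor
    · intro hY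
      rcases hcov Y hY with rfl | ⟨k, hk, hv⟩
      · exact Or.inl (Or.inl (Or.inl rfl))
      · have hk' : k = 0 ∨ k = 1 ∨ k = 2 := by omega
        rcases hk' with rfl | rfl | rfl
        · exact Or.inl (Or.inl (Or.inr ⟨hY, hv⟩))
        · exact Or.inl (Or.inr ⟨hY, hv⟩)
        · exact Or.inr ⟨hY, hv⟩
    · rintro (((h | h) | h) | h)
      · rw [Set.mem_singleton_iff] at h
        rw [h]; exact hS
      · exact h.1
      · exact h.1
      · exact h.1

end Cfsg.Agent.S1552
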