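import Cfsg.Statements.S1554
import Cfsg.Agent.Lib.Helper92.OctadSplit

set_option autoImplicit false
open Cfsg

namespace Cfsg.Agent.S1554
open Cfsg.Agent.Lib.Helper7 Cfsg.Agent.Lib.Helper92
open scoped Pointwise

/-- The complement: the stabilizer of the octad and of a point. -/
abbrev compl (o : Finset GolayPt) (p : GolayPt) : Subgroup (Equiv.Perm GolayPt) :=
  Cfsg.M24 ⊓ MulAction.stabilizer (Equiv.Perm Cfsg.GolayPt) o ⊓
    MulAction.stabilizer (Equiv.Perm Cfsg.GolayPt) p

theorem mem_compl {o : Finset GolayPt} {p : GolayPt} {g : Equiv.Perm GolayPt} :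
    g ∈ compl o p ↔ g ∈ stabM24 o ∧ g p = p := by
  unfold compl
  rw [Subgroup.mem_inf, MulAction.mem_stabilizer_iff]
  rfl

theorem compl_le (o : Finset GolayPt) (p : GolayPt) : compl o p ≤ stabM24 o := inf_le_left

/-- Every element of the stabilizer is a product of an element of the pointwise stabilizer and one
of the complement. -/
theorem exists_factor {o : Finset GolayPt} (ho : o ∈ octads) {p : GolayPt} (hp : p ∉ o)
    {g : Equiv.Perm GolayPt} (hg : g ∈ stabM24 o) :
    ∃ e ∈ fixM24 o, e * g ∈ compl o p := by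
  have hq : g p ∉ o := by rw [apply_mem_of_mem_stabM24 hg]; exact hp
  obtain ⟨e, he, heq⟩ := exists_fixM24_map ho hp hq
  refine ⟨e, he, mem_compl.mpr ⟨(stabM24 o).mul_mem (fixM24_le_stabM24 o he) hg, ?_⟩⟩
  rw [Equiv.Perm.mul_apply]; exact heq

/-- Restriction of the complement to the octad. -/
def psi (o : Finset GolayPt) (p : GolayPt) : compl o p →* Equiv.Perm ↥o :=
  (restrictHom o).comp (Subgroup.inclusion (compl_le o p))

theorem psi_injective {o : Finset GolayPt} (ho : o ∈ octads) {p : GolayPt} (hp : p ∉ o) :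
    Function.Injective (psi o p) := by
  rw [injective_iff_map_eq_one]
  intro a ha
  have h1 : Subgroup.inclusion (compl_le o p) a ∈ (restrictHom o).ker := ha
  rw [mem_ker_restrictHom] at h1
  have h2 : (a : Equiv.Perm GolayPt) = 1 :=
    eq_one_of_mem_fixM24 ho hp h1 (mem_compl.mp a.2).2
  exact Subtype.ext h2

theorem psi_range {o : Finset GolayPt} (ho : o ∈ octads) {p : GolayPt} (hp : p ∉ o) :
    (psi o p).range = alternatingGroup ↥o := by
  rw [← range_restrictHom ho]
  apply le_antisymm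
  · rintro x ⟨a, rfl⟩
    exact ⟨_, rfl⟩
  · rintro x ⟨g, rfl⟩
    obtain ⟨e, he, hmem⟩ := exists_factor ho hp g.2
    refine ⟨⟨e * g, hmem⟩, ?_⟩
    have hek : (⟨e, fixM24_le_stabM24 o he⟩ : stabM24 o) ∈ (restrictHom o).ker :=
      (mem_ker_restrictHom _).mpr he
    have h1 : Subgroup.inclusion (compl_le o p) ⟨e * g, hmem⟩ =
        (⟨e, fixM24_le_stabM24 o he⟩ : stabM24 o) * g := rfl
    show (restrictHom o) (Subgroup.inclusion (compl_le o p) ⟨e * g, hmem⟩) = _
    rw [h1, map_mul, MonoidHom.mem_ker.mp hek, one_mul]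

/-- An octad stabiliser is a split extension: the joint stabiliser of the octad and a point outside it is a complement to the pointwise stabiliser of the octad, and is isomorphic to the alternating group of degree 8. -/
theorem result (o : Finset Cfsg.GolayPt) (ho : o ∈ Cfsg.octads) (p : Cfsg.GolayPt) (hp : p ∉ o) : (Cfsg.M24 ⊓ fixingSubgroup (Equiv.Perm Cfsg.GolayPt) (o : Set Cfsg.GolayPt)) ⊓ (Cfsg.M24 ⊓ MulAction.stabilizer (Equiv.Perm Cfsg.GolayPt) o ⊓ MulAction.stabilizer (Equiv.Perm Cfsg.GolayPt) p) = ⊥ ∧ (Cfsg.M24 ⊓ fixingSubgroup (Equiv.Perm Cfsg.GolayPt) (o : Set Cfsg.GolayPt)) ⊔ (Cfsg.M24 ⊓ MulAction.stabilizer (Equiv.Perm Cfsg.GolayPt) o ⊓ MulAction.stabilizer (Equiv.Perm Cfsg.GolayPt) p) = (Cfsg.M24 ⊓ MulAction.stabilizer (Equiv.Perm Cfsg.GolayPt) o) ∧ Nonempty (↥(Cfsg.M24 ⊓ MulAction.stabilizer (Equiv.Perm Cfsg.GolayPt) o ⊓ MulAction.stabilizer (Equiv.Perm Cfsg.GolayPt) p) ≃* alternatingGroup (Fin 8)) := by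
  refine ⟨?_, ?_, ?_⟩
  · rw [eq_bot_iff]
    intro g hg
    rw [Subgroup.mem_inf] at hg
    obtain ⟨h1, h2⟩ := hg
    rw [Subgroup.mem_bot]
    exact eq_one_of_mem_fixM24 ho hp h1 (mem_compl.mp h2).2
  · apply le_antisymm
    · exact sup_le (fixM24_le_stabM24 o) (compl_le o p)
    · intro g hg
      obtain ⟨e, he, hmem⟩ := exists_factor ho hp hg
      have : g = e⁻¹ * (e * g) := by group
      rw [this]
      exact Subgroup.mul_mem_sup ((fixM24 o).inv_mem he) hmem
  · have e1 : compl o p ≃* (psi o p).range := MonoidHom.ofInjective (psi_injective ho hp)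
    have e2 : (psi o p).range ≃* alternatingGroup ↥o := MulEquiv.subgroupCongr (psi_range ho hp)
    have e3 : ↥o ≃ Fin 8 := Fintype.equivFinOfCardEq (by rw [Fintype.card_coe]; exact ho.2)
    exact ⟨(e1.trans e2).trans (Equiv.altCongrHom e3)⟩

end Cfsg.Agent.S1554
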