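import Cfsg.Statements.S1555
-- import your own Cfsg.Agent.* helpers here
import Cfsg.Agent.Lib.Helper26.GolayLike
import Cfsg.Agent.Lib.Helper6.Steiner

set_option autoImplicit false
open Cfsg

namespace Cfsg.Agent.S1555

open Cfsg.Agent.Lib.Helper26 Cfsg.Agent.Lib.Helper6

section general

variable {α : Type*} [Fintype α] [DecidableEq α]

/-- Möbius inversion: the number of blocks meeting `o` exactly in `s`. -/
theorem exact_count (B : Set (Finset α)) (o s : Finset α) (hs : s ⊆ o) :
    (((blocksOf B).filter (fun d => o ∩ d = s)).card : ℤ) =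
      ∑ w ∈ (o \ s).powerset, (-1 : ℤ) ^ w.card * ((blocksThrough B (s ∪ w)).card : ℤ) := by
  classical
  have hthrough : ∀ J : Finset α, ((blocksThrough B J).card : ℤ) =
      ∑ d ∈ blocksOf B, if J ⊆ d then (1 : ℤ) else 0 := by
    intro J
    have : blocksThrough B J = (blocksOf B).filter (fun d => J ⊆ d) := by
      ext d
      simp only [mem_blocksThrough, Finset.mem_filter, mem_blocksOf]
    rw [this, Finset.card_filter]
    push_cast
    rfl
  simp only [hthrough, Finset.mul_sum]
  rw [Finset.sum_comm]
  rw [Finset.card_filter]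
  push_cast
  apply Finset.sum_congr rfl
  intro d _
  by_cases hsd : s ⊆ d
  · -- inner sum over w ⊆ (o \ s) ∩ d
    have h1 : ∀ w ∈ (o \ s).powerset, (-1 : ℤ) ^ w.card * (if s ∪ w ⊆ d then (1 : ℤ) else 0) =
        if w ⊆ (o \ s) ∩ d then (-1 : ℤ) ^ w.card else 0 := by
      intro w hw
      rw [Finset.mem_powerset] at hw
      have : s ∪ w ⊆ d ↔ w ⊆ (o \ s) ∩ d := by
        rw [Finset.union_subset_iff, Finset.subset_inter_iff]
        constructor
        · intro h; exact ⟨hw, h.2⟩
        · intro h; exact ⟨hsd, h.2⟩
      by_cases h : w ⊆ (o \ s) ∩ d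
      · rw [if_pos h, if_pos (this.2 h), mul_one]
      · rw [if_neg h, if_neg (fun h' => h (this.1 h')), mul_zero]
    rw [Finset.sum_congr rfl h1, ← Finset.sum_filter]
    have h2 : (o \ s).powerset.filter (fun w => w ⊆ (o \ s) ∩ d) = ((o \ s) ∩ d).powerset := by
      ext w
      simp only [Finset.mem_filter, Finset.mem_powerset]
      constructor
      · exact fun h => h.2
      · exact fun h => ⟨h.trans Finset.inter_subset_left, h⟩
    rw [h2, Finset.sum_powerset_neg_one_pow_card]
    have h3 : o ∩ d = s ↔ (o \ s) ∩ d = ∅ := by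
      constructor
      · intro h
        rw [← h]
        ext x
        simp only [Finset.mem_inter, Finset.mem_sdiff, Finset.notMem_empty, iff_false]
        tauto
      · intro h
        apply Finset.Subset.antisymm
        · intro x hx
          rw [Finset.mem_inter] at hx
          by_contra hxs
          have : x ∈ (o \ s) ∩ d := by
            rw [Finset.mem_inter, Finset.mem_sdiff]; exact ⟨⟨hx.1, hxs⟩, hx.2⟩
          rw [h] at this
          simp at this
        · exact Finset.subset_inter hs hsd
    by_cases h : o ∩ d = s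
    · rw [if_pos h, if_pos (h3.1 h)]
    · rw [if_neg h, if_neg (fun h' => h (h3.2 h'))]
  · have h0 : o ∩ d ≠ s := by
      intro h
      apply hsd
      rw [← h]; exact Finset.inter_subset_right
    rw [if_neg h0]
    symm
    apply Finset.sum_eq_zero
    intro w _
    have : ¬ s ∪ w ⊆ d := fun h => hsd (Finset.union_subset_left h)
    rw [if_neg this, mul_zero]

/-- the numbers of blocks through a `j`-subset of a block of S(5,8,24) -/
def lamFun (j : ℕ) : ℕ := [759, 253, 77, 21, 5, 1, 1, 1, 1].getD j 0

theorem lam_eq (hα : Fintype.card α = 24) {B : Set (Finset α)} (hB : IsSteinerSystem 5 8 B)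
    {o : Finset α} (ho : o ∈ B) {J : Finset α} (hJ : J ⊆ o) :
    (blocksThrough B J).card = lamFun J.card := by
  have ho8 : o.card = 8 := hB.1 o ho
  have hJ8 : J.card ≤ 8 := ho8 ▸ Finset.card_le_card hJ
  by_cases h5 : J.card ≤ 5
  · have h := card_blocksThrough_mul hB J h5
    rw [hα] at h
    have hpos : 0 < (8 - J.card).choose (5 - J.card) := Nat.choose_pos (by omega)
    have key : ∀ j l : ℕ, j ≤ 5 → l * (8 - j).choose (5 - j) = (24 - j).choose (5 - j) →
        J.card = j → (blocksThrough B J).card = l := by
      intro j l _ hl hj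
      rw [hj] at h hpos
      exact Nat.eq_of_mul_eq_mul_right hpos (h.trans hl.symm)
    generalize hj : J.card = j at h5 ⊢
    interval_cases j
    · exact key 0 759 (by omega) (by decide) hj
    · exact key 1 253 (by omega) (by decide) hj
    · exact key 2 77 (by omega) (by decide) hj
    · exact key 3 21 (by omega) (by decide) hj
    · exact key 4 5 (by omega) (by decide) hj
    · exact key 5 1 (by omega) (by decide) hj
  · push Not at h5
    obtain ⟨T, hTJ, hT5⟩ := Finset.exists_subset_card_eq (show 5 ≤ J.card by omega)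
    have h1 : (blocksThrough B J).card ≤ 1 := by
      rw [← card_blocksThrough_eq_one hB hT5]
      apply Finset.card_le_card
      intro d hd
      rw [mem_blocksThrough] at hd ⊢
      exact ⟨hd.1, hTJ.trans hd.2⟩
    have h2 : 0 < (blocksThrough B J).card :=
      Finset.card_pos.2 ⟨o, mem_blocksThrough.2 ⟨ho, hJ⟩⟩
    have : lamFun J.card = 1 := by
      generalize J.card = j at h5 hJ8
      interval_cases j <;> rfl
    omega

theorem exact_count_eq (hα : Fintype.card α = 24) {B : Set (Finset α)} (hB : IsSteinerSystem 5 8 B)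
    {o : Finset α} (ho : o ∈ B) {s : Finset α} (hs : s ⊆ o) :
    (((blocksOf B).filter (fun d => o ∩ d = s)).card : ℤ) =
      ∑ m ∈ Finset.range ((o \ s).card + 1),
        ((o \ s).card.choose m : ℤ) * ((-1 : ℤ) ^ m * (lamFun (s.card + m) : ℤ)) := by
  rw [exact_count B o s hs]
  have h1 : ∀ w ∈ (o \ s).powerset, (-1 : ℤ) ^ w.card * ((blocksThrough B (s ∪ w)).card : ℤ) =
      (fun m => (-1 : ℤ) ^ m * (lamFun (s.card + m) : ℤ)) w.card := by
    intro w hw
    rw [Finset.mem_powerset] at hw
    have hdis : Disjoint s w := by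
      rw [Finset.disjoint_left]
      intro x hxs hxw
      exact (Finset.mem_sdiff.1 (hw hxw)).2 hxs
    have hsub : s ∪ w ⊆ o := Finset.union_subset hs (hw.trans Finset.sdiff_subset)
    rw [lam_eq hα hB ho hsub, Finset.card_union_of_disjoint hdis]
  rw [Finset.sum_congr rfl h1]
  have h2 := Finset.sum_powerset_apply_card
    (fun m => (-1 : ℤ) ^ m * (lamFun (s.card + m) : ℤ)) (x := o \ s)
  rw [h2]
  apply Finset.sum_congr rfl
  intro m _
  rw [nsmul_eq_mul]

end general

/-- Bottom row of the Leech triangle: an octad is met in a prescribed pair of its points by exactly 16 octads and in a prescribed 4-subset by exactly 4 octads. -/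
theorem result (o : Finset Cfsg.GolayPt) (ho : o ∈ Cfsg.octads) (s : Finset Cfsg.GolayPt) (hs : s ⊆ o) : (s.card = 2 → {o' : Finset Cfsg.GolayPt | o' ∈ Cfsg.octads ∧ o ∩ o' = s}.ncard = 16) ∧ (s.card = 4 → {o' : Finset Cfsg.GolayPt | o' ∈ Cfsg.octads ∧ o ∩ o' = s}.ncard = 4) := by
  classical
  have hset : {o' : Finset GolayPt | o' ∈ octads ∧ o ∩ o' = s} =
      (((blocksOf octads).filter (fun d => o ∩ d = s) : Finset (Finset GolayPt)) :
        Set (Finset GolayPt)) := by
    ext d
    simp only [Set.mem_ofPred_eq, Finset.coe_filter, mem_blocksOf]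
  rw [hset, Set.ncard_coe_finset]
  have ho8 : o.card = 8 := ho.2
  have hcount := exact_count_eq card_golayPt octads_isSteiner ho hs
  have hsd : (o \ s).card = 8 - s.card := by
    rw [Finset.card_sdiff_of_subset hs, ho8]
  constructor
  · intro h2
    rw [hsd, h2] at hcount
    have : (((blocksOf octads).filter (fun d => o ∩ d = s)).card : ℤ) = 16 := by
      rw [hcount]
      simp only [Finset.sum_range_succ, Finset.sum_range_zero, lamFun]
      norm_num [Nat.choose]
    exact_mod_cast this
  · intro h4
    rw [hsd, h4] at hcount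
    have : (((blocksOf octads).filter (fun d => o ∩ d = s)).card : ℤ) = 4 := by
      rw [hcount]
      simp only [Finset.sum_range_succ, Finset.sum_range_zero, lamFun]
      norm_num [Nat.choose]
    exact_mod_cast this

end Cfsg.Agent.S1555
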