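import Cfsg.Statements.S1556
import Cfsg.Agent.Lib.Helper27.M24Flag
import Cfsg.Agent.Lib.Helper27.M24OctData
-- import your own Cfsg.Agent.* helpers here

set_option autoImplicit false
open scoped Pointwise
open Cfsg

namespace Cfsg.Agent.S1556

open Cfsg.Agent.Lib.Helper27 Cfsg.Agent.Lib.Helper7

theorem octT_eq : slpT octProg octIdx = octT := by decide +kernel

theorem oct_fix : octT.all (fixesOK [] [octO]) = true := by decide +kernel

theorem oct_classesOK : classesOK octT octClasses = true := by decide +kernel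

theorem oct_coverOK : coverOK (fun _ => true) octInv octClasses = true := by decide +kernel

theorem oct_orbits : ∀ m ∈ octL, ∀ m' ∈ octL, octInv m = octInv m' →
    ∃ g ∈ cfgStab [] [setOf octO], g • setOf m = setOf m' := fun m hm m' hm' h =>
  cfg_orbits octProg octIdx octT octT_eq [] [octO] (by decide) oct_fix (fun _ => true) octInv
    octClasses (by decide) oct_classesOK oct_coverOK m hm m' hm' rfl rfl h

theorem base_conj : ∀ o' ∈ octads, ∀ o'' ∈ octads,
    (setOf octO ∩ o').card = (setOf octO ∩ o'').card →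
    ∃ g ∈ M24, g • setOf octO = setOf octO ∧ g • o' = o'' := by
  refine forall_octads7 fun m hm => forall_octads7 fun m' hm' => ?_
  intro h3
  rw [card_setOf_inter, card_setOf_inter] at h3
  obtain ⟨g, hg, hgm⟩ := oct_orbits m hm m' hm' h3
  rw [mem_cfgStab] at hg
  exact ⟨g, hg.1, hg.2.2 _ (by simp), hgm⟩

/-- Two octads meeting a fixed octad in equally many points are in the same orbit of its stabiliser. -/
theorem result (o o' o'' : Finset Cfsg.GolayPt) (ho : o ∈ Cfsg.octads) (ho' : o' ∈ Cfsg.octads) (ho'' : o'' ∈ Cfsg.octads) (h : (o ∩ o').card = (o ∩ o'').card) : ∃ g : Equiv.Perm Cfsg.GolayPt, g ∈ Cfsg.M24 ∧ g • o = o ∧ g • o' = o'' := by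
  obtain ⟨g0', hg0o⟩ := exists_M24_smul_octad ho setOf_octO_mem
  obtain ⟨g0, hg0⟩ := g0'
  rw [M24_smul_finset_def] at hg0o
  change g0 • o = setOf octO at hg0o
  obtain ⟨k, hk, hko, hk'⟩ := base_conj (g0 • o') (smul_mem_octads hg0 ho') (g0 • o'')
    (smul_mem_octads hg0 ho'')
    (by rw [← hg0o, card_smul_inter_smul, card_smul_inter_smul]; exact h)
  refine ⟨g0⁻¹ * k * g0, M24.mul_mem (M24.mul_mem (M24.inv_mem hg0) hk) hg0, ?_, ?_⟩
  · rw [mul_smul, mul_smul, hg0o, hko, ← hg0o, inv_smul_smul]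
  · rw [mul_smul, mul_smul, hk', inv_smul_smul]

end Cfsg.Agent.S1556
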