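import Cfsg.Statements.S1558
-- import your own Cfsg.Agent.* helpers here

import Cfsg.Agent.Lib.Helper26.TrioStruct2

set_option autoImplicit false
open scoped Pointwise
open Cfsg

namespace Cfsg.Agent.S1558

open Cfsg.Agent.Lib.Helper26

theorem orbit_M24_trio {T : Finset (Finset GolayPt)} (hT : T ∈ trios) :
    MulAction.orbit M24 T = trios := by
  ext Y
  constructor
  · rintro ⟨g, rfl⟩
    exact smul_mem_trios g.2 hT
  · intro hY
    obtain ⟨g, hg, hgS⟩ := trio_setup.trans T hT Y hY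
    exact ⟨⟨g, hg⟩, hgS⟩

/-- the stabilizer of a trio has order `64512 = 2^10 * 3^2 * 7` -/
theorem card_stabilizer_trio {T : Finset (Finset GolayPt)} (hT : T ∈ trios) :
    Nat.card (MulAction.stabilizer M24 T) = 64512 := by
  have h1 := Subgroup.card_mul_index (MulAction.stabilizer M24 T)
  rw [MulAction.index_stabilizer, orbit_M24_trio hT, trio_setup.hN,
    Cfsg.Agent.Lib.Helper7.card_M24] at h1
  omega

theorem card_GL32 : Nat.card (GL (Fin 3) (ZMod 2)) = 168 := by
  rw [Matrix.card_GL_field, ZMod.card, Fin.prod_univ_three]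
  norm_num

/-- a labelling of the three octads of the base trio -/
noncomputable def octEquiv : ↥(famOf trL0) ≃ Fin 3 :=
  Fintype.equivFinOfCardEq (by rw [Fintype.card_coe]; exact base_mem_trios.1)

/-- the homomorphism for the base trio -/
noncomputable def baseHom : ↥(MulAction.stabilizer M24 (famOf trL0)) →*
    GL (Fin 3) (ZMod 2) × Equiv.Perm (Fin 3) :=
  fanoHom.prod ((Equiv.permCongrHom octEquiv).toMonoidHom.comp (tetPerm (famOf trL0)))

theorem smul_fam_eq_of_fix {S : Finset (Finset GolayPt)} {σ : Equiv.Perm GolayPt}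
    (h : ∀ t ∈ S, σ • t = t) : σ • S = S := by
  apply Finset.eq_of_subset_of_card_le
  · intro t ht
    obtain ⟨t₀, ht₀, rfl⟩ := Finset.mem_smul_finset.1 ht
    rw [h t₀ ht₀]
    exact ht₀
  · rw [Finset.card_smul_finset]

theorem baseHom_surjective : Function.Surjective baseHom := by
  rintro ⟨A, ρ⟩
  -- the permutation part
  obtain ⟨g₀, hg₀, hg₀t⟩ := trio_induces_all base_mem_trios ((Equiv.permCongrHom octEquiv).symm ρ)
  set g₂ : ↥(MulAction.stabilizer M24 (famOf trL0)) := ⟨g₀, hg₀⟩ with hg₂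
  have hg₂t : tetPerm (famOf trL0) g₂ = (Equiv.permCongrHom octEquiv).symm ρ := by
    apply Equiv.ext
    intro t
    apply Subtype.ext
    rw [tetPerm_apply]
    exact hg₀t t
  -- the linear part
  obtain ⟨a, b, c, ⟨ha1, ha⟩, ⟨hb1, hb, hba⟩, ⟨hc1, hc, hca, hcb, hcab⟩, hcols⟩ :=
    exists_cols (A * (fanoHom g₂)⁻¹)
  obtain ⟨σ, hσ, hσo, hσ1, hσ2, hσ4⟩ := exists_gl ha1 ha hb1 hb hba hc1 hc hca hcb hcab
  set g₁ : ↥(MulAction.stabilizer M24 (famOf trL0)) :=
    ⟨⟨σ, hσ⟩, MulAction.mem_stabilizer_iff.2 (smul_fam_eq_of_fix hσo)⟩ with hg₁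
  have h1 : fanoHom g₁ = A * (fanoHom g₂)⁻¹ := by
    apply Units.ext
    rw [fanoHom_apply]
    exact hcols (piOf σ) (piOf_eq ha1 ha hσ1) (piOf_eq hb1 hb hσ2) (piOf_eq hc1 hc hσ4)
  have h2 : tetPerm (famOf trL0) g₁ = 1 := (mem_ker_tetPerm g₁).2 hσo
  refine ⟨g₁ * g₂, ?_⟩
  show (fanoHom (g₁ * g₂), (Equiv.permCongrHom octEquiv) (tetPerm (famOf trL0) (g₁ * g₂))) = (A, ρ)
  rw [map_mul, map_mul, h1, h2, hg₂t, one_mul, inv_mul_cancel_right, MulEquiv.apply_symm_apply]

theorem baseHom_ker_sq (x : ↥(MulAction.stabilizer M24 (famOf trL0))) (hx : x ∈ baseHom.ker) :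
    x * x = 1 := by
  rw [MonoidHom.mem_ker] at hx
  have hx1 : fanoHom x = 1 := congrArg Prod.fst hx
  have hx2 : (Equiv.permCongrHom octEquiv) (tetPerm (famOf trL0) x) = 1 := congrArg Prod.snd hx
  have hx2' : tetPerm (famOf trL0) x = 1 := by
    have := congrArg (Equiv.permCongrHom octEquiv).symm hx2
    rwa [MulEquiv.symm_apply_apply, map_one] at this
  have hoct : ∀ t ∈ famOf trL0, (x.1.1 : Equiv.Perm GolayPt) • t = t := (mem_ker_tetPerm x).1 hx2'
  have hM : fanoMat (x.1.1 : Equiv.Perm GolayPt) = 1 := by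
    rw [← fanoHom_apply, hx1]
    rfl
  have hσ : (x.1.1 : Equiv.Perm GolayPt) ∈ M24 := x.1.2
  have hT : (x.1.1 : Equiv.Perm GolayPt) • famOf trL0 = famOf trL0 :=
    MulAction.mem_stabilizer_iff.1 x.2
  have hpi := (piOf_xorHom hσ hT).eq_of_matOf_eq_one hM
  have hsx : ∀ a, 1 ≤ a → a < 8 → (x.1.1 : Equiv.Perm GolayPt) • sxv a = sxv a := by
    intro a ha1 ha
    have := (piOf_spec hσ hT ha1 ha).2.2
    rwa [hpi a ha] at this
  have hsq := sq_eq_one_of_fix hoct hsx
  exact Subtype.ext (Subtype.ext hsq)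

/-- Structure of a trio stabiliser: every permutation of the three octads is induced, and there is a normal subgroup of order 64 of elements squaring to the identity whose quotient is isomorphic to the product of GL(3, 2) with the symmetric group of degree 3. -/
theorem result (T : Finset (Finset Cfsg.GolayPt)) (hT : T ∈ Cfsg.trios) : (∀ e : Equiv.Perm ↥T, ∃ g ∈ MulAction.stabilizer Cfsg.M24 T, ∀ o : ↥T, (g : Equiv.Perm Cfsg.GolayPt) • (o : Finset Cfsg.GolayPt) = ((e o : ↥T) : Finset Cfsg.GolayPt)) ∧ ∃ (N : Subgroup ↥(MulAction.stabilizer Cfsg.M24 T)) (_ : N.Normal), Nat.card N = 64 ∧ (∀ x ∈ N, x * x = 1) ∧ Nonempty (↥(MulAction.stabilizer Cfsg.M24 T) ⧸ N ≃* GL (Fin 3) (ZMod 2) × Equiv.Perm (Fin 3)) := by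
  refine ⟨trio_induces_all hT, ?_⟩
  obtain ⟨h, hh, hhT⟩ := trio_stab.htrans T hT
  have hrel : (MulAction.orbitRel M24 (Finset (Finset GolayPt))) T (famOf trL0) :=
    ⟨⟨h, hh⟩, hhT⟩
  set ε := MulAction.stabilizerEquivStabilizerOfOrbitRel hrel with hε
  set φ : ↥(MulAction.stabilizer M24 T) →* GL (Fin 3) (ZMod 2) × Equiv.Perm (Fin 3) :=
    baseHom.comp ε.toMonoidHom with hφ
  have hsurj : Function.Surjective φ := by
    intro y
    obtain ⟨x, hx⟩ := baseHom_surjective y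
    exact ⟨ε.symm x, by rw [hφ]; simp [hx]⟩
  refine ⟨φ.ker, φ.normal_ker, ?_, ?_, ⟨QuotientGroup.quotientKerEquivOfSurjective φ hsurj⟩⟩
  · have h1 := Subgroup.card_mul_index φ.ker
    have h3 : Nat.card (Fin 3) = 3 := by simp
    rw [Subgroup.index_ker, MonoidHom.range_eq_top.2 hsurj, Subgroup.card_top, Nat.card_prod,
      card_GL32, Nat.card_perm, h3, card_stabilizer_trio hT] at h1
    have : Nat.factorial 3 = 6 := by decide
    rw [this] at h1
    omega
  · intro x hx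
    have hx' : ε x ∈ baseHom.ker := by
      rw [MonoidHom.mem_ker] at hx ⊢
      exact hx
    have h2 := baseHom_ker_sq (ε x) hx'
    rw [← map_mul] at h2
    exact (MulEquiv.map_eq_one_iff ε).1 h2

end Cfsg.Agent.S1558
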