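import Cfsg.Statements.S1559
-- import your own Cfsg.Agent.* helpers here


import Cfsg.Agent.Lib.Helper26.Trios

set_option autoImplicit false
open scoped Pointwise
open Cfsg

namespace Cfsg.Agent.S1559

open Cfsg.Agent.Lib.Helper26

/-- A trio stabiliser has five orbits on the 3795 trios, of sizes 1, 42, 56, 1008, 2688; and the stabiliser is a maximal proper subgroup. -/
theorem result (T : Finset (Finset Cfsg.GolayPt)) (hT : T ∈ Cfsg.trios) : ∃ X₁ ∈ Cfsg.trios, ∃ X₂ ∈ Cfsg.trios, ∃ X₃ ∈ Cfsg.trios, ∃ X₄ ∈ Cfsg.trios, (MulAction.orbit ↥(MulAction.stabilizer Cfsg.M24 T) X₁).ncard = 42 ∧ (MulAction.orbit ↥(MulAction.stabilizer Cfsg.M24 T) X₂).ncard = 56 ∧ (MulAction.orbit ↥(MulAction.stabilizer Cfsg.M24 T) X₃).ncard = 1008 ∧ (MulAction.orbit ↥(MulAction.stabilizer Cfsg.M24 T) X₄).ncard = 2688 ∧ Cfsg.trios = {T} ∪ MulAction.orbit ↥(MulAction.stabilizer Cfsg.M24 T) X₁ ∪ MulAction.orbit ↥(MulAction.stabilizer Cfsg.M24 T)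 X₂ ∪ MulAction.orbit ↥(MulAction.stabilizer Cfsg.M24 T) X₃ ∪ MulAction.orbit ↥(MulAction.stabilizer Cfsg.M24 T) X₄ ∧ IsCoatom (MulAction.stabilizer Cfsg.M24 T) := by
  obtain ⟨⟨X, hXF, horb, hncard, hcov, _⟩, hco⟩ := trio_main T hT
  refine ⟨X 0, hXF 0 (by norm_num), X 1, hXF 1 (by norm_num), X 2, hXF 2 (by norm_num),
    X 3, hXF 3 (by norm_num), ?_, ?_, ?_, ?_, ?_, hco⟩
  · rw [horb 0 (by norm_num), hncard 0 (by norm_num)]; rfl
  · rw [horb 1 (by norm_num), hncard 1 (by norm_num)]; rfl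
  · rw [horb 2 (by norm_num), hncard 2 (by norm_num)]; rfl
  · rw [horb 3 (by norm_num), hncard 3 (by norm_num)]; rfl
  · rw [horb 0 (by norm_num), horb 1 (by norm_num), horb 2 (by norm_num), horb 3 (by norm_num)]
    ext Y
    constructor
    · intro hY
      rcases hcov Y hY with rfl | ⟨k, hk, hv⟩
      · exact Or.inl (Or.inl (Or.inl (Or.inl rfl)))
      · have hk' : k = 0 ∨ k = 1 ∨ k = 2 ∨ k = 3 := by omega
        rcases hk' with rfl | rfl | rfl | rfl
        · exact Or.inl (Or.inl (Or.inl (Or.inr ⟨hY, hv⟩)))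
        · exact Or.inl (Or.inl (Or.inr ⟨hY, hv⟩))
        · exact Or.inl (Or.inr ⟨hY, hv⟩)
        · exact Or.inr ⟨hY, hv⟩
    · rintro ((((h | h) | h) | h) | h)
      · rw [Set.mem_singleton_iff] at h
        rw [h]; exact hT
      · exact h.1
      · exact h.1
      · exact h.1
      · exact h.1

end Cfsg.Agent.S1559
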