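import Cfsg.Statements.S1560
-- import your own Cfsg.Agent.* helpers here
import Cfsg.Agent.Lib.Helper26.GolayLike
import Cfsg.Agent.Lib.Helper6.Steiner

set_option autoImplicit false
open Cfsg

namespace Cfsg.Agent.S1560

open Cfsg.Agent.Lib.Helper26 Cfsg.Agent.Lib.Helper6

/-- the family of supports of the code, abbreviated -/
abbrev Supp : Set (Finset GolayPt) := supports (golayCode : Set (GolayPt → ZMod 2))

theorem symmDiff_mem {s t : Finset GolayPt} (hs : s ∈ Supp) (ht : t ∈ Supp) :
    symmDiff s t ∈ Supp := by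
  rw [mem_supports_golayCode_iff] at hs ht
  have h : symmDiff s t = setOf (maskOfSet s ^^^ maskOfSet t) := by
    rw [setOf_xor, setOf_maskOfSet, setOf_maskOfSet]
  have hc := isCode_xor hs ht
  rw [h, setOf_mem_supports_iff (isCode_lt hc)]
  exact hc

theorem univ_mem : (Finset.univ : Finset GolayPt) ∈ Supp := by
  rw [← setOf_fullMask, setOf_mem_supports_iff (by norm_num [fullMask])]
  exact isCode_fullMask

theorem compl_mem {s : Finset GolayPt} (hs : s ∈ Supp) : sᶜ ∈ Supp := by
  have : sᶜ = symmDiff s Finset.univ := by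
    ext x; simp [Finset.mem_symmDiff]
  rw [this]; exact symmDiff_mem hs univ_mem

theorem card_cases {s : Finset GolayPt} (hs : s ∈ Supp) :
    s.card = 0 ∨ s.card = 8 ∨ s.card = 12 ∨ s.card = 16 ∨ s.card = 24 := by
  obtain ⟨w, hw, rfl⟩ := hs
  exact card_support₂_cases hw

theorem card_symmDiff (s t : Finset GolayPt) :
    (symmDiff s t).card + 2 * (s ∩ t).card = s.card + t.card :=
  Cfsg.Agent.Lib.Helper93.card_symmDiff_add s t

theorem inter_symmDiff_self (d x : Finset GolayPt) : d ∩ symmDiff d x = d \ x := by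
  ext p
  simp only [Finset.mem_inter, Finset.mem_symmDiff, Finset.mem_sdiff]
  tauto

theorem card_sdiff_eq (d x : Finset GolayPt) : (d \ x).card = d.card - (d ∩ x).card := by
  have := Finset.card_sdiff_add_card_inter d x
  omega

theorem mem_dodecads {d : Finset GolayPt} : d ∈ dodecads ↔ d ∈ Supp ∧ d.card = 12 := Iff.rfl
theorem mem_octads {d : Finset GolayPt} : d ∈ octads ↔ d ∈ Supp ∧ d.card = 8 := Iff.rfl

/-- an octad meets a dodecad in 2, 4 or 6 points -/
theorem octad_inter_dodecad {o d : Finset GolayPt} (ho : o ∈ octads) (hd : d ∈ dodecads) :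
    (d ∩ o).card = 2 ∨ (d ∩ o).card = 4 ∨ (d ∩ o).card = 6 := by
  have h1 := card_cases (symmDiff_mem hd.1 ho.1)
  have h2 := card_symmDiff d o
  have h3 : (d ∩ o).card ≤ 8 := by
    rw [← ho.2]; exact Finset.card_le_card Finset.inter_subset_right
  rw [hd.2, ho.2] at h2
  omega

/-- two dodecads meet in 0, 4, 6, 8 or 12 points -/
theorem dodecad_inter_dodecad {d d' : Finset GolayPt} (hd : d ∈ dodecads) (hd' : d' ∈ dodecads) :
    (d ∩ d').card = 0 ∨ (d ∩ d').card = 4 ∨ (d ∩ d').card = 6 ∨ (d ∩ d').card = 8 ∨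
      (d ∩ d').card = 12 := by
  have h1 := card_cases (symmDiff_mem hd.1 hd'.1)
  have h2 := card_symmDiff d d'
  rw [hd.2, hd'.2] at h2
  omega

theorem inter_card_twelve {d d' : Finset GolayPt} (hd : d ∈ dodecads) (hd' : d' ∈ dodecads)
    (h : (d ∩ d').card = 12) : d' = d := by
  have h1 : d ∩ d' = d := Finset.eq_of_subset_of_card_le Finset.inter_subset_left (by rw [h, hd.2])
  have h2 : d ∩ d' = d' := Finset.eq_of_subset_of_card_le Finset.inter_subset_right (by rw [h, hd'.2])
  rw [← h2, h1]

theorem inter_card_zero {d d' : Finset GolayPt} (hd : d ∈ dodecads) (hd' : d' ∈ dodecads)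
    (h : (d ∩ d').card = 0) : d' = dᶜ := by
  apply Finset.eq_of_subset_of_card_le
  · intro p hp
    rw [Finset.mem_compl]
    intro hpd
    have : p ∈ d ∩ d' := Finset.mem_inter.2 ⟨hpd, hp⟩
    rw [Finset.card_eq_zero.1 h] at this
    simp at this
  · rw [Finset.card_compl, hd.2, hd'.2, card_golayPt]

theorem compl_dodecad {d : Finset GolayPt} (hd : d ∈ dodecads) : dᶜ ∈ dodecads :=
  ⟨compl_mem hd.1, by rw [Finset.card_compl, hd.2, card_golayPt]⟩

/-- the number of octads meeting a dodecad in exactly 4 points -/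
theorem card_octads_inter_four {d : Finset GolayPt} (hd : d ∈ dodecads) :
    ((blocksOf octads).filter (fun o => (d ∩ o).card = 4)).card = 495 := by
  classical
  have hS := octads_isSteiner
  have lam : ∀ (j l : ℕ), j ≤ 5 → l * (8 - j).choose (5 - j) = (24 - j).choose (5 - j) →
      ∀ J : Finset GolayPt, J.card = j → (blocksThrough octads J).card = l := by
    intro j l hj hl J hJ
    have h := card_blocksThrough_mul hS J (by omega)
    rw [card_golayPt, hJ] at h
    have hpos : 0 < (8 - j).choose (5 - j) := Nat.choose_pos (by omega)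
    exact Nat.eq_of_mul_eq_mul_right hpos (h.trans hl.symm)
  have key : ∀ j l : ℕ, (∀ J : Finset GolayPt, J.card = j → (blocksThrough octads J).card = l) →
      ∑ o ∈ blocksOf octads, (d ∩ o).card.choose j = (12).choose j * l := by
    intro j l hl
    have h1 := sum_card_filter_subset octads (d.powersetCard j)
    have hterm : ∀ o : Finset GolayPt, ((d.powersetCard j).filter (fun J => J ⊆ o)).card =
        (d ∩ o).card.choose j := by
      intro o
      have : (d.powersetCard j).filter (fun J => J ⊆ o) = (d ∩ o).powersetCard j := by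
        ext J
        simp only [Finset.mem_filter, Finset.mem_powersetCard, Finset.subset_inter_iff]
        tauto
      rw [this, Finset.card_powersetCard]
    simp only [hterm] at h1
    rw [h1, Finset.sum_const_nat (m := l), Finset.card_powersetCard, hd.2]
    intro J hJ
    exact hl J (Finset.mem_powersetCard.1 hJ).2
  have e0 := key 0 759 (lam 0 759 (by omega) (by decide))
  have e1 := key 1 253 (lam 1 253 (by omega) (by decide))
  have e2 := key 2 77 (lam 2 77 (by omega) (by decide))
  have c0 : Nat.choose 12 0 = 1 := by decide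
  have c1 : Nat.choose 12 1 = 12 := by decide
  have c2 : Nat.choose 12 2 = 66 := by decide
  rw [c0] at e0; rw [c1] at e1; rw [c2] at e2
  have hpt : ∀ o ∈ blocksOf octads,
      (d ∩ o).card.choose 0 = (if (d ∩ o).card = 2 then 1 else 0) +
        (if (d ∩ o).card = 4 then 1 else 0) + (if (d ∩ o).card = 6 then 1 else 0) ∧
      (d ∩ o).card.choose 1 = 2 * (if (d ∩ o).card = 2 then 1 else 0) +
        4 * (if (d ∩ o).card = 4 then 1 else 0) + 6 * (if (d ∩ o).card = 6 then 1 else 0) ∧
      (d ∩ o).card.choose 2 = (if (d ∩ o).card = 2 then 1 else 0) +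
        6 * (if (d ∩ o).card = 4 then 1 else 0) + 15 * (if (d ∩ o).card = 6 then 1 else 0) := by
    intro o ho
    rcases octad_inter_dodecad (mem_blocksOf.1 ho) hd with h | h | h <;> rw [h] <;> decide
  have s0 := Finset.sum_congr rfl (fun o ho => (hpt o ho).1)
  have s1 := Finset.sum_congr rfl (fun o ho => (hpt o ho).2.1)
  have s2 := Finset.sum_congr rfl (fun o ho => (hpt o ho).2.2)
  simp only [Finset.sum_add_distrib, ← Finset.mul_sum] at s0 s1 s2
  rw [Finset.card_filter]
  omega


/-- the set of dodecads meeting `d` in `k` points -/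
def D (d : Finset GolayPt) (k : ℕ) : Set (Finset GolayPt) :=
  {d' | d' ∈ dodecads ∧ (d ∩ d').card = k}

theorem inter_compl_card (d x : Finset GolayPt) : (d ∩ xᶜ).card = d.card - (d ∩ x).card := by
  have : d ∩ xᶜ = d \ x := by
    ext p; simp [Finset.mem_sdiff]
  rw [this, card_sdiff_eq]

theorem D_eight_eq {d : Finset GolayPt} (hd : d ∈ dodecads) :
    D d 8 = (fun o => symmDiff d o) ''
      (((blocksOf octads).filter (fun o => (d ∩ o).card = 4) : Finset (Finset GolayPt)) :
        Set (Finset GolayPt)) := by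
  classical
  ext d'
  simp only [D, Set.mem_ofPred_eq, Set.mem_image, Finset.mem_coe, Finset.mem_filter, mem_blocksOf]
  constructor
  · rintro ⟨hd', h8⟩
    refine ⟨symmDiff d d', ⟨?_, ?_⟩, ?_⟩
    · refine ⟨symmDiff_mem hd.1 hd'.1, ?_⟩
      have := card_symmDiff d d'
      rw [hd.2, hd'.2, h8] at this
      omega
    · rw [inter_symmDiff_self, card_sdiff_eq, hd.2, h8]
    · rw [← symmDiff_assoc, symmDiff_self, bot_symmDiff]
  · rintro ⟨o, ⟨ho, h4⟩, rfl⟩
    refine ⟨⟨symmDiff_mem hd.1 ho.1, ?_⟩, ?_⟩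
    · have := card_symmDiff d o
      rw [hd.2, ho.2, h4] at this
      omega
    · rw [inter_symmDiff_self, card_sdiff_eq, hd.2, h4]

theorem ncard_D_eight {d : Finset GolayPt} (hd : d ∈ dodecads) : (D d 8).ncard = 495 := by
  classical
  rw [D_eight_eq hd, Set.ncard_image_of_injective _ (symmDiff_right_injective d),
    Set.ncard_coe_finset, card_octads_inter_four hd]

theorem D_four_eq {d : Finset GolayPt} (hd : d ∈ dodecads) :
    D d 4 = (fun x => xᶜ) '' (D d 8) := by
  ext d'
  simp only [D, Set.mem_ofPred_eq, Set.mem_image]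
  constructor
  · rintro ⟨hd', h4⟩
    refine ⟨d'ᶜ, ⟨compl_dodecad hd', ?_⟩, compl_compl d'⟩
    rw [inter_compl_card, hd.2, h4]
  · rintro ⟨x, ⟨hx, h8⟩, rfl⟩
    refine ⟨compl_dodecad hx, ?_⟩
    rw [inter_compl_card, hd.2, h8]

theorem ncard_D_four {d : Finset GolayPt} (hd : d ∈ dodecads) : (D d 4).ncard = 495 := by
  rw [D_four_eq hd, Set.ncard_image_of_injective _ compl_injective, ncard_D_eight hd]

theorem D_twelve_eq {d : Finset GolayPt} (hd : d ∈ dodecads) : D d 12 = {d} := by
  ext d'
  simp only [D, Set.mem_ofPred_eq, Set.mem_singleton_iff]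
  constructor
  · rintro ⟨hd', h⟩
    exact inter_card_twelve hd hd' h
  · rintro rfl
    exact ⟨hd, by rw [Finset.inter_self, hd.2]⟩

theorem D_zero_eq {d : Finset GolayPt} (hd : d ∈ dodecads) : D d 0 = {dᶜ} := by
  ext d'
  simp only [D, Set.mem_ofPred_eq, Set.mem_singleton_iff]
  constructor
  · rintro ⟨hd', h⟩
    exact inter_card_zero hd hd' h
  · rintro rfl
    refine ⟨compl_dodecad hd, ?_⟩
    rw [inter_compl_card, Finset.inter_self, hd.2]

theorem ncard_D_six {d : Finset GolayPt} (hd : d ∈ dodecads) : (D d 6).ncard = 1584 := by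
  classical
  have hfin : (dodecads : Set (Finset GolayPt)).Finite := Set.toFinite _
  set F : Finset (Finset GolayPt) := hfin.toFinset with hF
  have hFmem : ∀ x, x ∈ F ↔ x ∈ dodecads := fun x => hfin.mem_toFinset
  have hFcard : F.card = 2576 := by
    rw [← ncard_dodecads, Set.ncard_eq_toFinset_card _ hfin]
  have hD : ∀ k, (D d k).ncard = (F.filter (fun d' => (d ∩ d').card = k)).card := by
    intro k
    rw [← Set.ncard_coe_finset]
    congr 1
    ext x
    simp [D, hFmem]
  have hmaps : ∀ x ∈ F, (d ∩ x).card ∈ ({0, 4, 6, 8, 12} : Finset ℕ) := by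
    intro x hx
    have := dodecad_inter_dodecad hd ((hFmem x).1 hx)
    simp only [Finset.mem_insert, Finset.mem_singleton]
    tauto
  have hsum := Finset.card_eq_sum_card_fiberwise hmaps
  rw [hFcard] at hsum
  have h0 := hD 0
  have h4 := hD 4
  have h6 := hD 6
  have h8 := hD 8
  have h12 := hD 12
  rw [D_zero_eq hd, Set.ncard_singleton] at h0
  rw [D_twelve_eq hd, Set.ncard_singleton] at h12
  rw [ncard_D_four hd] at h4
  rw [ncard_D_eight hd] at h8
  rw [h6]
  rw [Finset.sum_insert (by decide), Finset.sum_insert (by decide), Finset.sum_insert (by decide),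
    Finset.sum_insert (by decide), Finset.sum_singleton] at hsum
  omega

/-- Intersection numbers of dodecads: a dodecad meets every other dodecad in 0, 4, 6 or 8 points, meeting 495 of them in 4 points, 1584 in 6 points and 495 in 8 points. -/
theorem result (d : Finset Cfsg.GolayPt) (hd : d ∈ Cfsg.dodecads) : (∀ d' ∈ Cfsg.dodecads, d' ≠ d → (d ∩ d').card = 0 ∨ (d ∩ d').card = 4 ∨ (d ∩ d').card = 6 ∨ (d ∩ d').card = 8) ∧ {d' : Finset Cfsg.GolayPt | d' ∈ Cfsg.dodecads ∧ (d ∩ d').card = 4}.ncard = 495 ∧ {d' : Finset Cfsg.GolayPt | d' ∈ Cfsg.dodecads ∧ (d ∩ d').card = 6}.ncard = 1584 ∧ {d' : Finset Cfsg.GolayPt | d' ∈ Cfsg.dodecads ∧ (d ∩ d').card = 8}.ncard = 495 := by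
  refine ⟨?_, ncard_D_four hd, ncard_D_six hd, ncard_D_eight hd⟩
  intro d' hd' hne
  rcases dodecad_inter_dodecad hd hd' with h | h | h | h | h
  · exact Or.inl h
  · exact Or.inr (Or.inl h)
  · exact Or.inr (Or.inr (Or.inl h))
  · exact Or.inr (Or.inr (Or.inr h))
  · exact absurd (inter_card_twelve hd hd' h) hne

end Cfsg.Agent.S1560
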