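import Cfsg.Statements.S1561
import Cfsg.Agent.Lib.Helper7.M24Dodecads
import Cfsg.Agent.Lib.Helper27.M24ClassesD
import Cfsg.Agent.Lib.Helper27.M24Tree
import Cfsg.Agent.Lib.Helper27.M24DodData
-- import your own Cfsg.Agent.* helpers here

set_option autoImplicit false
open scoped Pointwise
open Cfsg

namespace Cfsg.Agent.S1561

open Cfsg.Agent.Lib.Helper27 Cfsg.Agent.Lib.Helper7

theorem dodT_eq : slpT dodProg dodIdx = dodT := by decide +kernel

theorem dod_fix : dodT.all (fixesOK [] [d0Mask]) = true := by decide +kernel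

theorem dod_classesOK : classesOKT dodT dodClasses = true := by decide +kernel

/-- size of the intersection with the base dodecad -/
def dodInv (m : ℕ) : ℕ := pc (d0Mask &&& m)

theorem dod_coverOK : coverOKT dodL (fun _ => true) dodInv dodClasses = true := by decide +kernel

theorem dod_orbits : ∀ m ∈ dodL, ∀ m' ∈ dodL, dodInv m = dodInv m' →
    ∃ g ∈ cfgStab [] [setOf d0Mask], g • setOf m = setOf m' := fun m hm m' hm' h =>
  cfg_orbitsT dodL dodProg dodIdx dodT dodT_eq [] [d0Mask] (by decide) dod_fix (fun _ => true)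
    dodInv dodClasses dod_classesOK dod_coverOK m hm m' hm' rfl rfl h

theorem base_conj : ∀ d' ∈ dodecads, ∀ d'' ∈ dodecads,
    (d0 ∩ d').card = (d0 ∩ d'').card →
    ∃ g ∈ M24, g • d0 = d0 ∧ g • d' = d'' := by
  refine forall_dodecads7 fun m hm => forall_dodecads7 fun m' hm' => ?_
  intro h3
  unfold d0 at h3 ⊢
  rw [card_setOf_inter, card_setOf_inter] at h3
  obtain ⟨g, hg, hgm⟩ := dod_orbits m hm m' hm' h3
  rw [mem_cfgStab] at hg
  exact ⟨g, hg.1, hg.2.2 _ (by simp), hgm⟩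

/-- Two dodecads meeting a fixed dodecad in equally many points lie in one orbit of its stabiliser. -/
theorem result (d d' d'' : Finset Cfsg.GolayPt) (hd : d ∈ Cfsg.dodecads) (hd' : d' ∈ Cfsg.dodecads) (hd'' : d'' ∈ Cfsg.dodecads) (h : (d ∩ d').card = (d ∩ d'').card) : ∃ g : Equiv.Perm Cfsg.GolayPt, g ∈ Cfsg.M24 ∧ g • d = d ∧ g • d' = d'' := by
  obtain ⟨g0, hg0, hg0d⟩ := exists_map_dodecad hd
  obtain ⟨k, hk, hkd, hk'⟩ := base_conj (g0 • d') (smul_mem_dodecads hg0 hd') (g0 • d'')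
    (smul_mem_dodecads hg0 hd'')
    (by rw [← hg0d, card_smul_inter_smul, card_smul_inter_smul]; exact h)
  refine ⟨g0⁻¹ * k * g0, M24.mul_mem (M24.mul_mem (M24.inv_mem hg0) hk) hg0, ?_, ?_⟩
  · rw [mul_smul, mul_smul, hg0d, hkd, ← hg0d, inv_smul_smul]
  · rw [mul_smul, mul_smul, hk', inv_smul_smul]

end Cfsg.Agent.S1561
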