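import Cfsg.Statements.S1562
-- import your own Cfsg.Agent.* helpers here

import Cfsg.Agent.Lib.Helper26.SubsetCount
import Cfsg.Agent.Lib.Helper26.M24Maps
import Cfsg.Agent.Lib.Helper26.GolayLike
import Cfsg.Agent.Lib.Helper6.Steiner

set_option autoImplicit false
open scoped Pointwise
open Cfsg

namespace Cfsg.Agent.S1562

open Cfsg.Agent.Lib.Helper26 Cfsg.Agent.Lib.Helper6

theorem card_golayPt' : Fintype.card GolayPt = 24 := by decide

/-- the image of a triple -/
theorem smul_triple (g : Equiv.Perm GolayPt) (a b c : GolayPt) :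
    g • ({a, b, c} : Finset GolayPt) = {g a, g b, g c} := by
  simp [Finset.smul_finset_insert]

/-- triads disjoint from `T` lying with it in an octad -/
noncomputable def inOct (T : Finset GolayPt) : Finset (Finset GolayPt) :=
  (blocksThrough octads T).biUnion (fun o => (o \ T).powersetCard 3)

theorem mem_inOct {T U : Finset GolayPt} :
    U ∈ inOct T ↔ U.card = 3 ∧ Disjoint T U ∧ ∃ o ∈ octads, T ∪ U ⊆ o := by
  classical
  simp only [inOct, Finset.mem_biUnion, mem_blocksThrough, Finset.mem_powersetCard]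
  constructor
  · rintro ⟨o, ⟨ho, hTo⟩, hU, hc⟩
    refine ⟨hc, ?_, o, ho, Finset.union_subset hTo (hU.trans Finset.sdiff_subset)⟩
    rw [Finset.disjoint_left]
    intro p hpT hpU
    exact (Finset.mem_sdiff.1 (hU hpU)).2 hpT
  · rintro ⟨hc, hd, o, ho, hTU⟩
    refine ⟨o, ⟨ho, Finset.union_subset_left hTU⟩, ?_, hc⟩
    intro p hp
    rw [Finset.mem_sdiff]
    exact ⟨hTU (Finset.mem_union_right _ hp), fun hpT => Finset.disjoint_left.1 hd hpT hp⟩

theorem card_inOct {T : Finset GolayPt} (hT : T.card = 3) : (inOct T).card = 210 := by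
  classical
  have hS := octads_isSteiner
  unfold inOct
  rw [Finset.card_biUnion]
  · have hterm : ∀ o ∈ blocksThrough octads T, ((o \ T).powersetCard 3).card = 10 := by
      intro o ho
      rw [mem_blocksThrough] at ho
      rw [Finset.card_powersetCard, Finset.card_sdiff_of_subset ho.2, ho.1.2, hT]
      decide
    rw [Finset.sum_congr rfl hterm, Finset.sum_const, smul_eq_mul]
    have h := card_blocksThrough_mul hS T (by omega)
    rw [card_golayPt', hT] at h
    have h10 : Nat.choose (8 - 3) (5 - 3) = 10 := by decide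
    have h210 : Nat.choose (24 - 3) (5 - 3) = 210 := by decide
    rw [h10, h210] at h
    omega
  · intro o ho o' ho' hne
    rw [Finset.mem_coe, mem_blocksThrough] at ho ho'
    rw [Function.onFun, Finset.disjoint_left]
    intro U hU hU'
    rw [Finset.mem_powersetCard] at hU hU'
    apply hne
    apply Cfsg.Agent.Lib.Helper7.octad_eq_of_five ho.1 ho'.1
    have hsub : T ∪ U ⊆ o ∩ o' := by
      intro p hp
      rw [Finset.mem_inter]
      rcases Finset.mem_union.1 hp with h | h
      · exact ⟨ho.2 h, ho'.2 h⟩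
      · exact ⟨(Finset.mem_sdiff.1 (hU.1 h)).1, (Finset.mem_sdiff.1 (hU'.1 h)).1⟩
    have hdisj : Disjoint T U := by
      rw [Finset.disjoint_left]
      intro p hpT hpU
      exact (Finset.mem_sdiff.1 (hU.1 hpU)).2 hpT
    have : (T ∪ U).card = 6 := by rw [Finset.card_union_of_disjoint hdisj, hT, hU.2]
    have := Finset.card_le_card hsub
    omega

/-- all triads disjoint from `T` -/
noncomputable def disj (T : Finset GolayPt) : Finset (Finset GolayPt) :=
  (Finset.univ.powersetCard 3).filter (fun x => (x ∩ T).card = 0)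

theorem mem_disj {T U : Finset GolayPt} : U ∈ disj T ↔ U.card = 3 ∧ Disjoint T U := by
  simp only [disj, Finset.mem_filter, Finset.mem_powersetCard, Finset.subset_univ, true_and,
    Finset.card_eq_zero, Finset.disjoint_iff_inter_eq_empty, Finset.inter_comm]

theorem card_disj {T : Finset GolayPt} (hT : T.card = 3) : (disj T).card = 1330 := by
  have h := card_filter_inter_card T 3 0 (by omega)
  rw [card_golayPt', hT] at h
  unfold disj
  rw [h]
  decide

theorem inOct_subset_disj (T : Finset GolayPt) : inOct T ⊆ disj T := by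
  intro U hU
  rw [mem_inOct] at hU
  exact mem_disj.2 ⟨hU.1, hU.2.1⟩

theorem mem_list_six {T U : Finset GolayPt} {t1 t2 t3 u1 u2 u3 : GolayPt}
    (hT : T = {t1, t2, t3}) (hU : U = {u1, u2, u3}) :
    (∃ o ∈ octads, ∀ p ∈ [t1, t2, t3, u1, u2, u3], p ∈ o) ↔ (∃ o ∈ octads, T ∪ U ⊆ o) := by
  subst hT hU
  constructor
  · rintro ⟨o, ho, h⟩
    refine ⟨o, ho, ?_⟩
    intro p hp
    apply h
    simp only [Finset.mem_union, Finset.mem_insert, Finset.mem_singleton] at hp
    simp only [List.mem_cons, List.not_mem_nil, or_false]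
    tauto
  · rintro ⟨o, ho, h⟩
    refine ⟨o, ho, ?_⟩
    intro p hp
    apply h
    simp only [List.mem_cons, List.not_mem_nil, or_false] at hp
    simp only [Finset.mem_union, Finset.mem_insert, Finset.mem_singleton]
    tauto

/-- Orbits of a triad stabiliser on the triads disjoint from it: the 210 triads inside a common octad with it form one orbit and the remaining 1120 another. -/
theorem result (T : Finset Cfsg.GolayPt) (hT : T.card = 3) : {U : Finset Cfsg.GolayPt | U.card = 3 ∧ Disjoint T U ∧ (∃ o ∈ Cfsg.octads, T ∪ U ⊆ o)}.ncard = 210 ∧ {U : Finset Cfsg.GolayPt | U.card = 3 ∧ Disjoint T U ∧ ¬ (∃ o ∈ Cfsg.octads, T ∪ U ⊆ o)}.ncard = 1120 ∧ ∀ U U' : Finset Cfsg.GolayPt, U.card = 3 → U'.card = 3 → Disjoint T U → Disjoint T U' → ((∃ o ∈ Cfsg.octads, T ∪ U ⊆ o) ↔ (∃ o ∈ Cfsg.octads, T ∪ U' ⊆ o)) → ∃ g : Equiv.Perm Cfsg.GolayPt, g ∈ Cfsg.M24 ∧ g • T = T ∧ g • U = U' := by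
  classical
  refine ⟨?_, ?_, ?_⟩
  · have : {U : Finset GolayPt | U.card = 3 ∧ Disjoint T U ∧ (∃ o ∈ octads, T ∪ U ⊆ o)} =
        ↑(inOct T) := by
      ext U
      simp only [Set.mem_ofPred_eq, Finset.mem_coe, mem_inOct]
    rw [this, Set.ncard_coe_finset, card_inOct hT]
  · have : {U : Finset GolayPt | U.card = 3 ∧ Disjoint T U ∧ ¬ (∃ o ∈ octads, T ∪ U ⊆ o)} =
        ↑(disj T \ inOct T) := by
      ext U
      simp only [Set.mem_ofPred_eq, Finset.mem_coe, Finset.mem_sdiff, mem_inOct, mem_disj]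
      constructor
      · rintro ⟨h1, h2, h3⟩
        exact ⟨⟨h1, h2⟩, fun h => h3 h.2.2⟩
      · rintro ⟨⟨h1, h2⟩, h3⟩
        exact ⟨h1, h2, fun h => h3 ⟨h1, h2, h⟩⟩
    rw [this, Set.ncard_coe_finset, Finset.card_sdiff_of_subset (inOct_subset_disj T),
      card_inOct hT, card_disj hT]
  · intro U U' hU hU' hd hd' hiff
    obtain ⟨t1, t2, t3, h12, h13, h23, rfl⟩ := Finset.card_eq_three.1 hT
    obtain ⟨u1, u2, u3, k12, k13, k23, rfl⟩ := Finset.card_eq_three.1 hU
    obtain ⟨v1, v2, v3, l12, l13, l23, rfl⟩ := Finset.card_eq_three.1 hU'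
    simp only [Finset.disjoint_insert_left, Finset.disjoint_singleton_left, Finset.mem_insert,
      Finset.mem_singleton, not_or] at hd hd'
    obtain ⟨g, hg, hmap⟩ := exists_M24_map_six t1 t2 t3 u1 u2 u3 t1 t2 t3 v1 v2 v3
      (by
        simp only [List.nodup_cons, List.mem_cons, List.not_mem_nil, or_false, not_or,
          not_false_eq_true, List.nodup_nil, and_true]
        tauto)
      (by
        simp only [List.nodup_cons, List.mem_cons, List.not_mem_nil, or_false, not_or,
          not_false_eq_true, List.nodup_nil, and_true]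
        tauto)
      (by rw [mem_list_six rfl rfl, mem_list_six rfl rfl]; exact hiff)
    simp only [List.map_cons, List.map_nil, List.cons.injEq, and_true] at hmap
    obtain ⟨m1, m2, m3, m4, m5, m6⟩ := hmap
    refine ⟨g, hg, ?_, ?_⟩
    · rw [smul_triple, m1, m2, m3]
    · rw [smul_triple, m4, m5, m6]

end Cfsg.Agent.S1562
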