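import Cfsg.Statements.S1563
-- import your own Cfsg.Agent.* helpers here

import Cfsg.Agent.Lib.Helper26.Coatom
import Cfsg.Agent.Lib.Helper26.SubsetCount
import Cfsg.Agent.Lib.Helper26.M24Maps

set_option autoImplicit false
open scoped Pointwise
open Cfsg

namespace Cfsg.Agent.S1563

open Cfsg.Agent.Lib.Helper26 Cfsg.Agent.Lib.Helper7

theorem card_golayPt' : Fintype.card GolayPt = 24 := by decide

/-- the image of a pair -/
theorem smul_pair (g : Equiv.Perm GolayPt) (a b : GolayPt) :
    g • ({a, b} : Finset GolayPt) = {g a, g b} := by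
  simp [Finset.smul_finset_insert]

/-- a two-element set meeting `s` in exactly one point -/
theorem pair_meet_one {s x : Finset GolayPt} (hs : s.card = 2) (hx : x.card = 2)
    (h : (x ∩ s).card = 1) : ∃ a b c, a ≠ b ∧ a ≠ c ∧ b ≠ c ∧ s = {a, b} ∧ x = {a, c} := by
  classical
  obtain ⟨a, ha⟩ := Finset.card_eq_one.1 h
  have hax : a ∈ x := (Finset.mem_inter.1 (ha ▸ Finset.mem_singleton_self a)).1
  have has : a ∈ s := (Finset.mem_inter.1 (ha ▸ Finset.mem_singleton_self a)).2
  obtain ⟨b, hb⟩ := Finset.card_eq_one.1 (show (s.erase a).card = 1 by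
    rw [Finset.card_erase_of_mem has, hs])
  obtain ⟨c, hc⟩ := Finset.card_eq_one.1 (show (x.erase a).card = 1 by
    rw [Finset.card_erase_of_mem hax, hx])
  have hbs : b ∈ s.erase a := hb ▸ Finset.mem_singleton_self b
  have hcx : c ∈ x.erase a := hc ▸ Finset.mem_singleton_self c
  have hba : b ≠ a := (Finset.mem_erase.1 hbs).1
  have hca : c ≠ a := (Finset.mem_erase.1 hcx).1
  have hcs : c ∉ s := by
    intro hcs
    have : c ∈ x ∩ s := Finset.mem_inter.2 ⟨(Finset.mem_erase.1 hcx).2, hcs⟩
    rw [ha, Finset.mem_singleton] at this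
    exact hca this
  have hbc : b ≠ c := by
    rintro rfl
    exact hcs (Finset.mem_erase.1 hbs).2
  refine ⟨a, b, c, hba.symm, hca.symm, hbc, ?_, ?_⟩
  · rw [← Finset.insert_erase has, hb]
  · rw [← Finset.insert_erase hax, hc]

/-- The stabiliser of a pair of points (setwise) is a maximal proper subgroup of the group of the length-24 code. -/
theorem result (s : Finset Cfsg.GolayPt) (hs : s.card = 2) : IsCoatom (MulAction.stabilizer Cfsg.M24 s) := by
  classical
  set O : ℕ → Finset (Finset GolayPt) := fun i =>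
    (Finset.univ.powersetCard 2).filter (fun x => (x ∩ s).card = 1 - i) with hOdef
  have hmemO : ∀ i x, x ∈ O i ↔ x.card = 2 ∧ (x ∩ s).card = 1 - i := by
    intro i x
    simp [hOdef, Finset.mem_powersetCard]
  have hcardO : ∀ i, (O i).card = if i = 0 then 44 else 231 := by
    intro i
    have h := card_filter_inter_card s 2 (1 - i) (by omega)
    rw [card_golayPt', hs] at h
    simp only [hOdef]
    rw [h]
    by_cases hi : i = 0
    · subst hi; simp
    · have : 1 - i = 0 := by omega
      rw [this, if_neg hi]; decide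
  obtain ⟨a, b, hab, rfl⟩ := Finset.card_eq_two.1 hs
  apply isCoatom_stabilizer_of_suborbits ({a, b} : Finset GolayPt) 2 O
  · -- cover
    intro g
    have hc : (g • ({a, b} : Finset GolayPt)).card = 2 := by
      rw [Finset.card_smul_finset]; exact hs
    have hle : ((g • ({a, b} : Finset GolayPt)) ∩ {a, b}).card ≤ 2 := by
      rw [← hs]; exact Finset.card_le_card Finset.inter_subset_right
    rcases Nat.lt_or_ge ((g • ({a, b} : Finset GolayPt)) ∩ {a, b}).card 2 with hlt | hge
    · right
      rcases Nat.lt_or_ge ((g • ({a, b} : Finset GolayPt)) ∩ {a, b}).card 1 with h0 | h1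
      · exact ⟨1, by decide, (hmemO 1 _).2 ⟨hc, by omega⟩⟩
      · exact ⟨0, by decide, (hmemO 0 _).2 ⟨hc, by omega⟩⟩
    · left
      have h1 : (g • ({a, b} : Finset GolayPt)) ∩ {a, b} = g • ({a, b} : Finset GolayPt) :=
        Finset.eq_of_subset_of_card_le Finset.inter_subset_left (by rw [hc]; exact hge)
      have h2 : (g • ({a, b} : Finset GolayPt)) ∩ {a, b} = {a, b} :=
        Finset.eq_of_subset_of_card_le Finset.inter_subset_right (by rw [hs]; exact hge)
      rw [← h1, h2]
  · -- members of the suborbits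
    intro i hi x hx
    rw [hmemO] at hx
    constructor
    · rintro rfl
      rw [Finset.inter_self, hs] at hx
      omega
    · obtain ⟨c, d, hcd, rfl⟩ := Finset.card_eq_two.1 hx.1
      obtain ⟨g, hg, hmap⟩ := exists_M24_map_list [a, b] [c, d] (by simp [hab]) (by simp [hcd]) rfl
        (by simp)
      simp only [List.map_cons, List.map_nil, List.cons.injEq, and_true] at hmap
      refine ⟨⟨g, hg⟩, ?_⟩
      show g • ({a, b} : Finset GolayPt) = {c, d}
      rw [smul_pair, hmap.1, hmap.2]
  · -- disjointness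
    intro i hi j hj hij
    rw [Finset.disjoint_left]
    intro x hxi hxj
    rw [hmemO] at hxi hxj
    omega
  · -- transitivity
    intro i hi x hx y hy
    rw [hmemO] at hx hy
    have hi' : i = 0 ∨ i = 1 := by omega
    rcases hi' with rfl | rfl
    · obtain ⟨a₁, b₁, c₁, h1, h2, h3, hs₁, rfl⟩ := pair_meet_one hs hx.1 hx.2
      obtain ⟨a₂, b₂, c₂, h1', h2', h3', hs₂, rfl⟩ := pair_meet_one hs hy.1 hy.2
      obtain ⟨g, hg, hmap⟩ := exists_M24_map_list [a₁, b₁, c₁] [a₂, b₂, c₂]
        (by simp [h1, h2, h3]) (by simp [h1', h2', h3']) rfl (by simp)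
      simp only [List.map_cons, List.map_nil, List.cons.injEq, and_true] at hmap
      refine ⟨⟨g, hg⟩, ?_, ?_⟩
      · rw [MulAction.mem_stabilizer_iff]
        show g • ({a, b} : Finset GolayPt) = {a, b}
        rw [hs₁, smul_pair, hmap.1, hmap.2.1, ← hs₂]
        exact hs₁
      · show g • ({a₁, c₁} : Finset GolayPt) = {a₂, c₂}
        rw [smul_pair, hmap.1, hmap.2.2]
    · obtain ⟨c₁, d₁, hcd₁, rfl⟩ := Finset.card_eq_two.1 hx.1
      obtain ⟨c₂, d₂, hcd₂, rfl⟩ := Finset.card_eq_two.1 hy.1
      have hx0 : Disjoint ({c₁, d₁} : Finset GolayPt) {a, b} := by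
        rw [Finset.disjoint_iff_inter_eq_empty, ← Finset.card_eq_zero]; exact hx.2
      have hy0 : Disjoint ({c₂, d₂} : Finset GolayPt) {a, b} := by
        rw [Finset.disjoint_iff_inter_eq_empty, ← Finset.card_eq_zero]; exact hy.2
      simp only [Finset.disjoint_insert_left, Finset.disjoint_singleton_left, Finset.mem_insert,
        Finset.mem_singleton, not_or] at hx0 hy0
      obtain ⟨g, hg, hmap⟩ := exists_M24_map_list [a, b, c₁, d₁] [a, b, c₂, d₂]
        (by simp [hab, hcd₁]; tauto) (by simp [hab, hcd₂]; tauto) rfl (by simp)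
      simp only [List.map_cons, List.map_nil, List.cons.injEq, and_true] at hmap
      refine ⟨⟨g, hg⟩, ?_, ?_⟩
      · rw [MulAction.mem_stabilizer_iff]
        show g • ({a, b} : Finset GolayPt) = {a, b}
        rw [smul_pair, hmap.1, hmap.2.1]
      · show g • ({c₁, d₁} : Finset GolayPt) = {c₂, d₂}
        rw [smul_pair, hmap.2.2.1, hmap.2.2.2]
  · simp only [hcardO]; decide
  · simp only [hcardO]; decide

end Cfsg.Agent.S1563
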