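import Cfsg.Statements.S1564
-- import your own Cfsg.Agent.* helpers here

import Cfsg.Agent.Lib.Helper26.Coatom
import Cfsg.Agent.Lib.Helper26.SubsetCount
import Cfsg.Agent.Lib.Helper26.M24Maps
import Cfsg.Agent.S1562

set_option autoImplicit false
open scoped Pointwise
open Cfsg

namespace Cfsg.Agent.S1564

open Cfsg.Agent.Lib.Helper26 Cfsg.Agent.Lib.Helper7
open Cfsg.Agent.S1562 (inOct disj mem_inOct mem_disj card_inOct card_disj smul_triple
  inOct_subset_disj card_golayPt')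

/-- a set with a subset of one element less -/
theorem eq_union_singleton {s A : Finset GolayPt} (hA : A ⊆ s) (h : s.card = A.card + 1) :
    ∃ c, c ∈ s ∧ c ∉ A ∧ s = A ∪ {c} := by
  classical
  have h1 : (s \ A).card = 1 := by
    rw [Finset.card_sdiff_of_subset hA]; omega
  obtain ⟨c, hc⟩ := Finset.card_eq_one.1 h1
  have hcm : c ∈ s \ A := hc ▸ Finset.mem_singleton_self c
  rw [Finset.mem_sdiff] at hcm
  refine ⟨c, hcm.1, hcm.2, ?_⟩
  rw [← hc, Finset.union_sdiff_of_subset hA]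

/-- a set with a subset of two elements less -/
theorem eq_union_pair {s A : Finset GolayPt} (hA : A ⊆ s) (h : s.card = A.card + 2) :
    ∃ c d, c ≠ d ∧ c ∈ s ∧ c ∉ A ∧ d ∈ s ∧ d ∉ A ∧ s = A ∪ {c, d} := by
  classical
  have h1 : (s \ A).card = 2 := by
    rw [Finset.card_sdiff_of_subset hA]; omega
  obtain ⟨c, d, hcd, hc⟩ := Finset.card_eq_two.1 h1
  have hcm : c ∈ s \ A := hc ▸ (by simp)
  have hdm : d ∈ s \ A := hc ▸ (by simp)
  rw [Finset.mem_sdiff] at hcm hdm
  refine ⟨c, d, hcd, hcm.1, hcm.2, hdm.1, hdm.2, ?_⟩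
  rw [← hc, Finset.union_sdiff_of_subset hA]

theorem triple_meet_two {s x : Finset GolayPt} (hs : s.card = 3) (hx : x.card = 3)
    (h : (x ∩ s).card = 2) :
    ∃ a b c d, [a, b, c, d].Nodup ∧ s = {a, b, c} ∧ x = {a, b, d} := by
  classical
  obtain ⟨a, b, hab, hI⟩ := Finset.card_eq_two.1 h
  obtain ⟨c, hcs, hcA, hsc⟩ := eq_union_singleton (s := s) (A := x ∩ s) Finset.inter_subset_right
    (by omega)
  obtain ⟨d, hdx, hdA, hxd⟩ := eq_union_singleton (s := x) (A := x ∩ s) Finset.inter_subset_left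
    (by omega)
  have hds : d ∉ s := fun hds => hdA (Finset.mem_inter.2 ⟨hdx, hds⟩)
  have hcd : c ≠ d := by rintro rfl; exact hds hcs
  rw [hI] at hcA hdA hsc hxd
  simp only [Finset.mem_insert, Finset.mem_singleton, not_or] at hcA hdA
  refine ⟨a, b, c, d, ?_, ?_, ?_⟩
  · simp only [List.nodup_cons, List.mem_cons, List.not_mem_nil, or_false, not_or,
      not_false_eq_true, List.nodup_nil, and_true]
    exact ⟨⟨hab, Ne.symm hcA.1, Ne.symm hdA.1⟩, ⟨Ne.symm hcA.2, Ne.symm hdA.2⟩, hcd⟩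
  · rw [hsc]; ext p; simp
  · rw [hxd]; ext p; simp

theorem triple_meet_one {s x : Finset GolayPt} (hs : s.card = 3) (hx : x.card = 3)
    (h : (x ∩ s).card = 1) :
    ∃ a b c d e, [a, b, c, d, e].Nodup ∧ s = {a, b, c} ∧ x = {a, d, e} := by
  classical
  obtain ⟨a, hI⟩ := Finset.card_eq_one.1 h
  obtain ⟨b, c, hbc, hbs, hbA, hcs, hcA, hsc⟩ := eq_union_pair (s := s) (A := x ∩ s)
    Finset.inter_subset_right (by omega)
  obtain ⟨d, e, hde, hdx, hdA, hex, heA, hxd⟩ := eq_union_pair (s := x) (A := x ∩ s)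
    Finset.inter_subset_left (by omega)
  have hds : d ∉ s := fun hds => hdA (Finset.mem_inter.2 ⟨hdx, hds⟩)
  have hes : e ∉ s := fun hes => heA (Finset.mem_inter.2 ⟨hex, hes⟩)
  rw [hI] at hbA hcA hdA heA hsc hxd
  simp only [Finset.mem_singleton] at hbA hcA hdA heA
  refine ⟨a, b, c, d, e, ?_, ?_, ?_⟩
  · simp only [List.nodup_cons, List.mem_cons, List.not_mem_nil, or_false, not_or,
      not_false_eq_true, List.nodup_nil, and_true]
    refine ⟨⟨Ne.symm hbA, Ne.symm hcA, Ne.symm hdA, Ne.symm heA⟩, ⟨hbc, ?_, ?_⟩, ⟨?_, ?_⟩, hde⟩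
    · rintro rfl; exact hds hbs
    · rintro rfl; exact hes hbs
    · rintro rfl; exact hds hcs
    · rintro rfl; exact hes hcs
  · rw [hsc]; ext p; simp; tauto
  · rw [hxd]; ext p; simp; tauto

/-- The stabiliser of a set of three points (setwise) is a maximal proper subgroup of the group of the length-24 code. -/
theorem result (s : Finset Cfsg.GolayPt) (hs : s.card = 3) : IsCoatom (MulAction.stabilizer Cfsg.M24 s) := by
  classical
  set O : ℕ → Finset (Finset GolayPt) := fun i =>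
    if i = 0 then (Finset.univ.powersetCard 3).filter (fun x => (x ∩ s).card = 2)
    else if i = 1 then (Finset.univ.powersetCard 3).filter (fun x => (x ∩ s).card = 1)
    else if i = 2 then inOct s else disj s \ inOct s with hOdef
  have hO0 : ∀ x, x ∈ O 0 ↔ x.card = 3 ∧ (x ∩ s).card = 2 := by
    intro x; simp [hOdef, Finset.mem_powersetCard]
  have hO1 : ∀ x, x ∈ O 1 ↔ x.card = 3 ∧ (x ∩ s).card = 1 := by
    intro x; simp [hOdef, Finset.mem_powersetCard]
  have hO2 : ∀ x, x ∈ O 2 ↔ x.card = 3 ∧ Disjoint s x ∧ ∃ o ∈ octads, s ∪ x ⊆ o := by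
    intro x; simp only [hOdef]; simp [mem_inOct]
  have hO3 : ∀ x, x ∈ O 3 ↔ (x.card = 3 ∧ Disjoint s x) ∧ ¬ ∃ o ∈ octads, s ∪ x ⊆ o := by
    intro x
    simp only [hOdef]
    simp only [show (3 : ℕ) ≠ 0 by decide, show (3 : ℕ) ≠ 1 by decide, show (3 : ℕ) ≠ 2 by decide,
      if_false, Finset.mem_sdiff, mem_disj, mem_inOct]
    constructor
    · rintro ⟨h1, h2⟩
      exact ⟨h1, fun h => h2 ⟨h1.1, h1.2, h⟩⟩
    · rintro ⟨h1, h2⟩
      exact ⟨h1, fun h => h2 h.2.2⟩
  have hdisj_iff : ∀ x : Finset GolayPt, Disjoint s x ↔ (x ∩ s).card = 0 := by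
    intro x
    rw [Finset.card_eq_zero, Finset.disjoint_iff_inter_eq_empty, Finset.inter_comm]
  have hcardO : ∀ i, (O i).card =
      if i = 0 then 63 else if i = 1 then 630 else if i = 2 then 210 else 1120 := by
    intro i
    simp only [hOdef]
    split_ifs with h0 h1 h2
    · have h := card_filter_inter_card s 3 2 (by omega)
      rw [card_golayPt', hs] at h
      rw [h]; decide
    · have h := card_filter_inter_card s 3 1 (by omega)
      rw [card_golayPt', hs] at h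
      rw [h]; decide
    · exact card_inOct hs
    · rw [Finset.card_sdiff_of_subset (inOct_subset_disj s), card_inOct hs, card_disj hs]
  have hmaps : ∀ x : Finset GolayPt, x.card = 3 → ∃ g : M24, g • s = x := by
    intro x hx
    obtain ⟨a, b, c, h12, h13, h23, rfl⟩ := Finset.card_eq_three.1 hs
    obtain ⟨a', b', c', k12, k13, k23, rfl⟩ := Finset.card_eq_three.1 hx
    obtain ⟨g, hg, hmap⟩ := exists_M24_map_list [a, b, c] [a', b', c']
      (by simp [h12, h13, h23]) (by simp [k12, k13, k23]) rfl (by simp)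
    simp only [List.map_cons, List.map_nil, List.cons.injEq, and_true] at hmap
    refine ⟨⟨g, hg⟩, ?_⟩
    show g • ({a, b, c} : Finset GolayPt) = {a', b', c'}
    rw [smul_triple, hmap.1, hmap.2.1, hmap.2.2]
  have hne_of_card : ∀ x : Finset GolayPt, (x ∩ s).card < 3 → x ≠ s := by
    rintro x h rfl
    rw [Finset.inter_self, hs] at h
    omega
  apply isCoatom_stabilizer_of_suborbits s 4 O
  · -- cover
    intro g
    have hc : (g • s).card = 3 := by
      rw [Finset.card_smul_finset]; exact hs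
    have hle : ((g • s) ∩ s).card ≤ 3 := by
      rw [← hs]; exact Finset.card_le_card Finset.inter_subset_right
    rcases Nat.lt_or_ge ((g • s) ∩ s).card 3 with hlt | hge
    · right
      have hcases : ((g • s) ∩ s).card = 0 ∨ ((g • s) ∩ s).card = 1 ∨ ((g • s) ∩ s).card = 2 := by
        omega
      rcases hcases with h | h | h
      · by_cases hoct : ∃ o ∈ octads, s ∪ g • s ⊆ o
        · exact ⟨2, by decide, (hO2 _).2 ⟨hc, (hdisj_iff _).2 h, hoct⟩⟩
        · exact ⟨3, by decide, (hO3 _).2 ⟨⟨hc, (hdisj_iff _).2 h⟩, hoct⟩⟩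
      · exact ⟨1, by decide, (hO1 _).2 ⟨hc, h⟩⟩
      · exact ⟨0, by decide, (hO0 _).2 ⟨hc, h⟩⟩
    · left
      have h1 : (g • s) ∩ s = g • s :=
        Finset.eq_of_subset_of_card_le Finset.inter_subset_left (by rw [hc]; exact hge)
      have h2 : (g • s) ∩ s = s :=
        Finset.eq_of_subset_of_card_le Finset.inter_subset_right (by rw [hs]; exact hge)
      rw [← h1, h2]
  · -- members
    intro i hi x hx
    have hx3 : x.card = 3 ∧ (x ∩ s).card < 3 := by
      have hi' : i = 0 ∨ i = 1 ∨ i = 2 ∨ i = 3 := by omega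
      rcases hi' with rfl | rfl | rfl | rfl
      · have := (hO0 x).1 hx; exact ⟨this.1, by omega⟩
      · have := (hO1 x).1 hx; exact ⟨this.1, by omega⟩
      · have := (hO2 x).1 hx; exact ⟨this.1, by rw [(hdisj_iff x).1 this.2.1]; decide⟩
      · have := (hO3 x).1 hx; exact ⟨this.1.1, by rw [(hdisj_iff x).1 this.1.2]; decide⟩
    exact ⟨hne_of_card x hx3.2, hmaps x hx3.1⟩
  · -- disjointness
    intro i hi j hj hij
    rw [Finset.disjoint_left]
    intro x hxi hxj
    have key : ∀ k, k < 4 → x ∈ O k →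
        (k = 0 ∧ (x ∩ s).card = 2) ∨ (k = 1 ∧ (x ∩ s).card = 1) ∨
        (k = 2 ∧ (x ∩ s).card = 0 ∧ ∃ o ∈ octads, s ∪ x ⊆ o) ∨
        (k = 3 ∧ (x ∩ s).card = 0 ∧ ¬ ∃ o ∈ octads, s ∪ x ⊆ o) := by
      intro k hk hxk
      have hk' : k = 0 ∨ k = 1 ∨ k = 2 ∨ k = 3 := by omega
      rcases hk' with rfl | rfl | rfl | rfl
      · exact Or.inl ⟨rfl, ((hO0 x).1 hxk).2⟩
      · exact Or.inr (Or.inl ⟨rfl, ((hO1 x).1 hxk).2⟩)
      · have := (hO2 x).1 hxk
        exact Or.inr (Or.inr (Or.inl ⟨rfl, (hdisj_iff x).1 this.2.1, this.2.2⟩))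
      · have := (hO3 x).1 hxk
        exact Or.inr (Or.inr (Or.inr ⟨rfl, (hdisj_iff x).1 this.1.2, this.2⟩))
    have h1 := key i hi hxi
    have h2 := key j hj hxj
    rcases h1 with ⟨rfl, a1⟩ | ⟨rfl, a1⟩ | ⟨rfl, a1, b1⟩ | ⟨rfl, a1, b1⟩ <;>
      rcases h2 with ⟨rfl, a2⟩ | ⟨rfl, a2⟩ | ⟨rfl, a2, b2⟩ | ⟨rfl, a2, b2⟩ <;>
      first | exact hij rfl | omega | exact b2 b1 | exact b1 b2
  · -- transitivity
    intro i hi x hx y hy
    have hi' : i = 0 ∨ i = 1 ∨ i = 2 ∨ i = 3 := by omega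
    rcases hi' with rfl | rfl | rfl | rfl
    · rw [hO0] at hx hy
      obtain ⟨a, b, c, d, hnd, hs₁, rfl⟩ := triple_meet_two hs hx.1 hx.2
      obtain ⟨a', b', c', d', hnd', hs₂, rfl⟩ := triple_meet_two hs hy.1 hy.2
      obtain ⟨g, hg, hmap⟩ := exists_M24_map_list [a, b, c, d] [a', b', c', d'] hnd hnd' rfl
        (by simp)
      simp only [List.map_cons, List.map_nil, List.cons.injEq, and_true] at hmap
      refine ⟨⟨g, hg⟩, ?_, ?_⟩
      · rw [MulAction.mem_stabilizer_iff]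
        show g • s = s
        rw [hs₁, smul_triple, hmap.1, hmap.2.1, hmap.2.2.1, ← hs₂]
        exact hs₁
      · show g • ({a, b, d} : Finset GolayPt) = {a', b', d'}
        rw [smul_triple, hmap.1, hmap.2.1, hmap.2.2.2]
    · rw [hO1] at hx hy
      obtain ⟨a, b, c, d, e, hnd, hs₁, rfl⟩ := triple_meet_one hs hx.1 hx.2
      obtain ⟨a', b', c', d', e', hnd', hs₂, rfl⟩ := triple_meet_one hs hy.1 hy.2
      obtain ⟨g, hg, hmap⟩ := exists_M24_map_list [a, b, c, d, e] [a', b', c', d', e'] hnd hnd' rfl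
        (by simp)
      simp only [List.map_cons, List.map_nil, List.cons.injEq, and_true] at hmap
      refine ⟨⟨g, hg⟩, ?_, ?_⟩
      · rw [MulAction.mem_stabilizer_iff]
        show g • s = s
        rw [hs₁, smul_triple, hmap.1, hmap.2.1, hmap.2.2.1, ← hs₂]
        exact hs₁
      · show g • ({a, d, e} : Finset GolayPt) = {a', d', e'}
        rw [smul_triple, hmap.1, hmap.2.2.2.1, hmap.2.2.2.2]
    · rw [hO2] at hx hy
      obtain ⟨g, hg, hgs, hgx⟩ := (Cfsg.Agent.S1562.result s hs).2.2 x y hx.1 hy.1 hx.2.1 hy.2.1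
        ⟨fun _ => hy.2.2, fun _ => hx.2.2⟩
      exact ⟨⟨g, hg⟩, MulAction.mem_stabilizer_iff.2 hgs, hgx⟩
    · rw [hO3] at hx hy
      obtain ⟨g, hg, hgs, hgx⟩ := (Cfsg.Agent.S1562.result s hs).2.2 x y hx.1.1 hy.1.1 hx.1.2 hy.1.2
        ⟨fun h => absurd h hx.2, fun h => absurd h hy.2⟩
      exact ⟨⟨g, hg⟩, MulAction.mem_stabilizer_iff.2 hgs, hgx⟩
  · simp only [hcardO]; decide
  · simp only [hcardO]; decide

end Cfsg.Agent.S1564
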