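import Cfsg.Statements.S1565
import Cfsg.Agent.Lib.Helper26.Coatom
import Cfsg.Agent.Lib.Helper27.M24Classes
import Cfsg.Agent.Lib.Helper93.OctadPairs

set_option autoImplicit false
open Cfsg

namespace Cfsg.Agent.S1565
open Cfsg.Agent.Lib.Helper7
open scoped Pointwise

/-- The possible sizes of the intersection of two distinct octads. -/
def kOf (i : ℕ) : ℕ := [0, 2, 4].getD i 8

/-- The number of octads meeting a given octad in `kOf i` points. -/
def nOf (i : ℕ) : ℕ := [30, 448, 280].getD i 0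

/-- Two octads meet in `0`, `2`, `4` points or coincide. -/
theorem inter_cases {o o' : Finset GolayPt} (ho : o ∈ octads) (ho' : o' ∈ octads) :
    (∃ i < 3, (o ∩ o').card = kOf i) ∨ o' = o := by
  obtain ⟨σ, hσ⟩ := exists_M24_smul_octad ho (setOf_mem_octads isOctadMask_octO)
  rw [M24_smul_finset_def] at hσ
  obtain ⟨c, hc, h8, hc'⟩ := Cfsg.Agent.Lib.Helper93.exists_enc_of_mem_octads
    (smul_mem_octads σ.2 ho')
  have hcard : (o ∩ o').card = pc (enc c &&& octO) := by
    rw [← Cfsg.Agent.Lib.Helper27.card_smul_inter_smul (σ : Equiv.Perm GolayPt) o o', hσ, hc',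
      Finset.inter_comm, Cfsg.Agent.Lib.Helper93.card_inter_setOf]
  rcases Cfsg.Agent.Lib.Helper93.octO_inter_cases c hc h8 with h | h | h | h
  · left; exact ⟨0, by norm_num, by rw [hcard, h]; rfl⟩
  · left; exact ⟨2, by norm_num, by rw [hcard, h]; rfl⟩
  · left; exact ⟨1, by norm_num, by rw [hcard, h]; rfl⟩
  · right
    rw [h, ← hσ] at hc'
    exact smul_left_cancel _ hc'

set_option maxRecDepth 100000 in
theorem count_std : ∀ i < 3,
    (Cfsg.Agent.Lib.Helper27.octL.filter (fun m => pc (octO &&& m) == kOf i)).length = nOf i := by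
  decide +kernel

/-- The number of octads meeting a given octad in `kOf i` points. -/
theorem ncard_meeting {o : Finset GolayPt} (ho : o ∈ octads) {i : ℕ} (hi : i < 3) :
    {o' : Finset GolayPt | o' ∈ octads ∧ (o ∩ o').card = kOf i}.ncard = nOf i := by
  obtain ⟨σ, hσ⟩ := exists_M24_smul_octad ho (setOf_mem_octads isOctadMask_octO)
  rw [M24_smul_finset_def] at hσ
  rw [Cfsg.Agent.Lib.Helper27.ncard_smul_transport (σ : Equiv.Perm GolayPt)
    (fun o' => o' ∈ octads ∧ (o ∩ o').card = kOf i)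
    (fun o' => o' ∈ octads ∧ (setOf octO ∩ o').card = kOf i)
    (by
      intro s
      rw [Cfsg.Agent.Lib.Helper27.smul_mem_octads_iff σ.2, ← hσ,
        Cfsg.Agent.Lib.Helper27.card_smul_inter_smul])]
  rw [Cfsg.Agent.Lib.Helper27.ncard_octads_filter (fun o' => (setOf octO ∩ o').card = kOf i)
    (fun m => pc (octO &&& m) == kOf i)
    (by
      intro m _
      rw [Cfsg.Agent.Lib.Helper27.card_setOf_inter]
      simp)]
  exact count_std i hi

theorem kOf_inj : ∀ i < 3, ∀ j < 3, kOf i = kOf j → i = j := by decide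

theorem kOf_ne : ∀ i < 3, kOf i ≠ 8 := by decide

theorem arith (c : ℕ → ℕ) (hc : ∀ i < 3, c i = nOf i) :
    ∀ J ∈ (Finset.range 3).powerset,
      (1 + ∑ i ∈ J, c i) ∣ (1 + ∑ i ∈ Finset.range 3, c i) →
        (∑ i ∈ J, c i = 0 ∨ ∑ i ∈ J, c i = ∑ i ∈ Finset.range 3, c i) := by
  have key : ∀ J ∈ (Finset.range 3).powerset,
      (1 + ∑ i ∈ J, nOf i) ∣ (1 + ∑ i ∈ Finset.range 3, nOf i) →
        (∑ i ∈ J, nOf i = 0 ∨ ∑ i ∈ J, nOf i = ∑ i ∈ Finset.range 3, nOf i) := by
    decide
  intro J hJ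
  have hsub : J ⊆ Finset.range 3 := Finset.mem_powerset.mp hJ
  have h1 : ∑ i ∈ J, c i = ∑ i ∈ J, nOf i :=
    Finset.sum_congr rfl (fun i hi => hc i (Finset.mem_range.mp (hsub hi)))
  have h2 : ∑ i ∈ Finset.range 3, c i = ∑ i ∈ Finset.range 3, nOf i :=
    Finset.sum_congr rfl (fun i hi => hc i (Finset.mem_range.mp hi))
  rw [h1, h2]
  exact key J hJ

/-- The stabiliser of an octad is a maximal proper subgroup of the group of the length-24 code. -/
theorem result (o : Finset Cfsg.GolayPt) (ho : o ∈ Cfsg.octads) : IsCoatom (MulAction.stabilizer Cfsg.M24 o) := by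
  classical
  have hfin : (octads : Set (Finset GolayPt)).Finite := Set.toFinite _
  let O : ℕ → Finset (Finset GolayPt) := fun i =>
    hfin.toFinset.filter (fun o' => (o ∩ o').card = kOf i)
  have hmemO : ∀ i x, x ∈ O i ↔ x ∈ octads ∧ (o ∩ x).card = kOf i := by
    intro i x
    simp only [O, Finset.mem_filter, Set.Finite.mem_toFinset]
  have hcardO : ∀ i < 3, (O i).card = nOf i := by
    intro i hi
    rw [← ncard_meeting ho hi, ← Set.ncard_coe_finset]
    congr 1
    ext x
    simp only [Finset.mem_coe, hmemO, Set.mem_ofPred_eq]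
  have ho8 : (o ∩ o).card = 8 := by rw [Finset.inter_self]; exact ho.2
  apply Cfsg.Agent.Lib.Helper26.isCoatom_stabilizer_of_suborbits o 3 O
  · intro g
    have hgo : g • o ∈ octads := by
      rw [M24_smul_finset_def]; exact smul_mem_octads g.2 ho
    rcases inter_cases ho hgo with ⟨i, hi, hcard⟩ | h
    · right; exact ⟨i, hi, (hmemO i _).mpr ⟨hgo, hcard⟩⟩
    · left; exact h
  · intro i hi x hx
    rw [hmemO] at hx
    refine ⟨?_, exists_M24_smul_octad ho hx.1⟩
    rintro rfl
    rw [ho8] at hx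
    exact kOf_ne i hi hx.2.symm
  · intro i hi j hj hij
    rw [Finset.disjoint_left]
    intro x hxi hxj
    rw [hmemO] at hxi hxj
    exact hij (kOf_inj i hi j hj (hxi.2.symm.trans hxj.2))
  · intro i _ x hx y hy
    rw [hmemO] at hx hy
    obtain ⟨g, hg, hgo, hgx⟩ := Cfsg.Agent.Lib.Helper93.exists_stab_octad_map ho hx.1 hy.1
      (hx.2.trans hy.2.symm)
    refine ⟨⟨g, hg⟩, ?_, ?_⟩
    · rw [MulAction.mem_stabilizer_iff, M24_smul_finset_def]; exact hgo
    · rw [M24_smul_finset_def]; exact hgx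
  · have h0 := hcardO 0 (by norm_num)
    have : (O 0).card ≤ ∑ i ∈ Finset.range 3, (O i).card :=
      Finset.single_le_sum (f := fun i => (O i).card) (fun _ _ => Nat.zero_le _)
        (Finset.mem_range.mpr (by norm_num : 0 < 3))
    rw [h0] at this
    have h30 : nOf 0 = 30 := rfl
    omega
  · exact arith (fun i => (O i).card) hcardO

end Cfsg.Agent.S1565
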