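import Cfsg.Statements.S1566
import Cfsg.Agent.S1561
import Cfsg.Agent.Lib.Helper26.Coatom
import Cfsg.Agent.Lib.Helper7.M12General
import Cfsg.Agent.Lib.Helper7.Hexads
import Cfsg.Agent.Lib.Helper27.M24ClassesD

set_option autoImplicit false
open Cfsg

namespace Cfsg.Agent.S1566
open Cfsg.Agent.Lib.Helper7
open scoped Pointwise

/-- The pair of a set and its complement. -/
def pr (d : Finset GolayPt) : Finset (Finset GolayPt) := {d, dᶜ}

theorem smul_compl_finset (g : ↥M24) (d : Finset GolayPt) : g • dᶜ = (g • d)ᶜ := by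
  ext x
  rw [← Finset.inv_smul_mem_iff, Finset.mem_compl, Finset.mem_compl, Finset.inv_smul_mem_iff]

theorem smul_pr (g : ↥M24) (d : Finset GolayPt) : g • pr d = pr (g • d) := by
  unfold pr
  rw [Finset.smul_finset_insert, Finset.smul_finset_singleton, smul_compl_finset]

theorem pr_compl (d : Finset GolayPt) : pr dᶜ = pr d := by
  unfold pr
  rw [compl_compl, Finset.pair_comm]

theorem pr_inj {p0 : GolayPt} {d d' : Finset GolayPt} (h : p0 ∈ d) (h' : p0 ∈ d')
    (he : pr d = pr d') : d = d' := by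
  have hmem : d ∈ pr d' := by rw [← he]; simp [pr]
  simp only [pr, Finset.mem_insert, Finset.mem_singleton] at hmem
  rcases hmem with h1 | h1
  · exact h1
  · exfalso
    rw [h1] at h
    exact (Finset.mem_compl.mp h) h'

/-- The two types of intersection sizes. -/
def POf (i k : ℕ) : Prop := if i = 0 then (k = 4 ∨ k = 8) else k = 6

/-- Boolean test on masks. -/
def qOf (i m : ℕ) : Bool :=
  m.testBit 23 && (if i = 0 then (pc (d0Mask &&& m) == 4 || pc (d0Mask &&& m) == 8)
    else pc (d0Mask &&& m) == 6)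

/-- The sizes of the two suborbits. -/
def nOf (i : ℕ) : ℕ := [495, 792].getD i 0

set_option maxRecDepth 100000 in
theorem count_std : ∀ i < 2,
    (Cfsg.Agent.Lib.Helper27.dodL.filter (qOf i)).length = nOf i := by
  decide +kernel

set_option maxRecDepth 100000 in
theorem cases_std : Cfsg.Agent.Lib.Helper27.dodL.all (fun m =>
    !m.testBit 23 || m == d0Mask || qOf 0 m || qOf 1 m) = true := by
  decide +kernel

theorem bp0_mem_setOf (m : ℕ) : bp 0 ∈ setOf m ↔ m.testBit 23 = true :=
  Cfsg.Agent.Lib.Helper27.pt_mem_setOf (i := 23) (by norm_num)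

theorem POf_iff_qOf (i m : ℕ) :
    (bp 0 ∈ setOf m ∧ POf i (d0 ∩ setOf m).card) ↔ qOf i m = true := by
  unfold d0
  rw [bp0_mem_setOf, Cfsg.Agent.Lib.Helper27.card_setOf_inter]
  unfold POf qOf
  by_cases hi : i = 0
  · simp [hi]
  · simp [hi]

/-- Intersection cases in the standard configuration. -/
theorem inter_cases_std : ∀ s ∈ dodecads, bp 0 ∈ s →
    (s = d0 ∨ POf 0 (d0 ∩ s).card ∨ POf 1 (d0 ∩ s).card) := by
  apply Cfsg.Agent.Lib.Helper27.forall_dodecads7
  intro m hm hb
  have h := List.all_eq_true.mp cases_std m hm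
  simp only [Bool.or_eq_true, Bool.not_eq_eq_eq_not, Bool.not_true, beq_iff_eq] at h
  rcases h with ((h | h) | h) | h
  · rw [bp0_mem_setOf] at hb
    rw [hb] at h
    exact absurd h (by decide)
  · left; rw [h]; rfl
  · right; left; exact ((POf_iff_qOf 0 m).mpr h).2
  · right; right; exact ((POf_iff_qOf 1 m).mpr h).2

/-- Intersection cases for two dodecads through a common point. -/
theorem inter_cases {d d' : Finset GolayPt} (hd : d ∈ dodecads) (hd' : d' ∈ dodecads)
    {p0 : GolayPt} (hp : p0 ∈ d) (hp' : p0 ∈ d') :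
    d' = d ∨ POf 0 (d ∩ d').card ∨ POf 1 (d ∩ d').card := by
  obtain ⟨ρ, hρ, hρd, hρp⟩ := exists_map_dodecad_point hd hp
  have h1 : bp 0 ∈ ρ • d' := by
    rw [← hρp, Cfsg.Agent.Lib.Helper27.perm_apply_mem_smul_iff]; exact hp'
  have h2 := inter_cases_std (ρ • d') (smul_mem_dodecads hρ hd') h1
  rw [← hρd, Cfsg.Agent.Lib.Helper27.card_smul_inter_smul] at h2
  rcases h2 with h | h | h
  · left; exact smul_left_cancel _ h
  · right; left; exact h
  · right; right; exact h

/-- The number of dodecads through a point of `d` of a given type. -/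
theorem ncard_type {d : Finset GolayPt} (hd : d ∈ dodecads) {p0 : GolayPt} (hp : p0 ∈ d)
    {i : ℕ} (hi : i < 2) :
    {d' : Finset GolayPt | d' ∈ dodecads ∧ (p0 ∈ d' ∧ POf i (d ∩ d').card)}.ncard = nOf i := by
  obtain ⟨ρ, hρ, hρd, hρp⟩ := exists_map_dodecad_point hd hp
  rw [Cfsg.Agent.Lib.Helper27.ncard_smul_transport ρ
    (fun d' => d' ∈ dodecads ∧ (p0 ∈ d' ∧ POf i (d ∩ d').card))
    (fun d' => d' ∈ dodecads ∧ (bp 0 ∈ d' ∧ POf i (d0 ∩ d').card))
    (by
      intro s
      rw [Cfsg.Agent.Lib.Helper27.smul_mem_dodecads_iff hρ, ← hρd, ← hρp,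
        Cfsg.Agent.Lib.Helper27.card_smul_inter_smul,
        Cfsg.Agent.Lib.Helper27.perm_apply_mem_smul_iff])]
  rw [Cfsg.Agent.Lib.Helper27.ncard_dodecads_filter
    (fun d' => bp 0 ∈ d' ∧ POf i (d0 ∩ d').card) (qOf i) (fun m _ => POf_iff_qOf i m)]
  exact count_std i hi

theorem card_inter_compl {d d' : Finset GolayPt} (hd : d ∈ dodecads) :
    (d ∩ d'ᶜ).card = 12 - (d ∩ d').card := by
  have h1 : d ∩ d'ᶜ = d \ d' := by
    ext x; simp [Finset.mem_sdiff]
  have h2 := Finset.card_sdiff_add_card_inter d d'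
  rw [h1, ← hd.2]
  omega

theorem POf_disj : ∀ i < 2, ∀ j < 2, ∀ k, POf i k → POf j k → i = j := by
  intro i hi j hj k h1 h2
  unfold POf at h1 h2
  interval_cases i <;> interval_cases j <;> simp at h1 h2 <;> omega

theorem arith (c : ℕ → ℕ) (hc : ∀ i < 2, c i = nOf i) :
    ∀ J ∈ (Finset.range 2).powerset,
      (1 + ∑ i ∈ J, c i) ∣ (1 + ∑ i ∈ Finset.range 2, c i) →
        (∑ i ∈ J, c i = 0 ∨ ∑ i ∈ J, c i = ∑ i ∈ Finset.range 2, c i) := by
  have key : ∀ J ∈ (Finset.range 2).powerset,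
      (1 + ∑ i ∈ J, nOf i) ∣ (1 + ∑ i ∈ Finset.range 2, nOf i) →
        (∑ i ∈ J, nOf i = 0 ∨ ∑ i ∈ J, nOf i = ∑ i ∈ Finset.range 2, nOf i) := by
    decide
  intro J hJ
  have hsub : J ⊆ Finset.range 2 := Finset.mem_powerset.mp hJ
  have h1 : ∑ i ∈ J, c i = ∑ i ∈ J, nOf i :=
    Finset.sum_congr rfl (fun i hi => hc i (Finset.mem_range.mp (hsub hi)))
  have h2 : ∑ i ∈ Finset.range 2, c i = ∑ i ∈ Finset.range 2, nOf i :=
    Finset.sum_congr rfl (fun i hi => hc i (Finset.mem_range.mp hi))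
  rw [h1, h2]
  exact key J hJ

/-- The setwise stabiliser of a dodecad together with its complement is a maximal proper subgroup of the group of the length-24 code. -/
theorem result (d : Finset Cfsg.GolayPt) (hd : d ∈ Cfsg.dodecads) : IsCoatom (MulAction.stabilizer Cfsg.M24 ({d, dᶜ} : Finset (Finset Cfsg.GolayPt))) := by
  classical
  show IsCoatom (MulAction.stabilizer Cfsg.M24 (pr d))
  have hne : d.Nonempty := by rw [← Finset.card_pos, hd.2]; norm_num
  obtain ⟨p0, hp0⟩ := hne
  have hfin : (dodecads : Set (Finset GolayPt)).Finite := Set.toFinite _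
  let F : ℕ → Finset (Finset GolayPt) := fun i =>
    hfin.toFinset.filter (fun d' => p0 ∈ d' ∧ POf i (d ∩ d').card)
  let O : ℕ → Finset (Finset (Finset GolayPt)) := fun i => (F i).image pr
  have hmemF : ∀ i x, x ∈ F i ↔ x ∈ dodecads ∧ (p0 ∈ x ∧ POf i (d ∩ x).card) := by
    intro i x
    simp only [F, Finset.mem_filter, Set.Finite.mem_toFinset]
  have hmemO : ∀ i x, x ∈ O i ↔ ∃ d' ∈ dodecads, p0 ∈ d' ∧ POf i (d ∩ d').card ∧ pr d' = x := by
    intro i x
    simp only [O, Finset.mem_image, hmemF]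
    constructor
    · rintro ⟨d', ⟨h1, h2, h3⟩, h4⟩; exact ⟨d', h1, h2, h3, h4⟩
    · rintro ⟨d', h1, h2, h3, h4⟩; exact ⟨d', ⟨h1, h2, h3⟩, h4⟩
  have hcardO : ∀ i < 2, (O i).card = nOf i := by
    intro i hi
    have hinj : Set.InjOn pr (F i : Set (Finset GolayPt)) := by
      intro a ha b hb hab
      rw [Finset.mem_coe, hmemF] at ha hb
      exact pr_inj ha.2.1 hb.2.1 hab
    rw [Finset.card_image_of_injOn hinj, ← ncard_type hd hp0 hi, ← Set.ncard_coe_finset]
    congr 1
    ext x
    simp only [Finset.mem_coe, hmemF, Set.mem_ofPred_eq]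
  have hd12 : (d ∩ d).card = 12 := by rw [Finset.inter_self]; exact hd.2
  have hnot12 : ∀ i < 2, ¬ POf i 12 := by
    intro i hi
    unfold POf
    interval_cases i <;> simp
  apply Cfsg.Agent.Lib.Helper26.isCoatom_stabilizer_of_suborbits (pr d) 2 O
  · -- cover
    intro g
    rw [smul_pr]
    have hgd : g • d ∈ dodecads := by
      rw [M24_smul_finset_def]; exact smul_mem_dodecads g.2 hd
    -- the member containing p0
    have key : ∀ d1 ∈ dodecads, p0 ∈ d1 → pr d1 = pr (g • d) →
        pr (g • d) = pr d ∨ ∃ i < 2, pr (g • d) ∈ O i := by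
      intro d1 hd1 hp1 he
      rcases inter_cases hd hd1 hp0 hp1 with h | h | h
      · left; rw [← he, h]
      · right; exact ⟨0, by norm_num, (hmemO 0 _).mpr ⟨d1, hd1, hp1, h, he⟩⟩
      · right; exact ⟨1, by norm_num, (hmemO 1 _).mpr ⟨d1, hd1, hp1, h, he⟩⟩
    by_cases hp : p0 ∈ g • d
    · exact key (g • d) hgd hp rfl
    · exact key (g • d)ᶜ (compl_mem_dodecads hgd) (Finset.mem_compl.mpr hp) (pr_compl _)
  · -- members of suborbits
    intro i hi x hx
    rw [hmemO] at hx
    obtain ⟨d', hd', hp', hP, rfl⟩ := hx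
    refine ⟨?_, ?_⟩
    · intro he
      have := pr_inj hp' hp0 he
      rw [this, hd12] at hP
      exact hnot12 i hi hP
    · obtain ⟨g, hg⟩ := exists_M24_smul_dodecad hd hd'
      exact ⟨g, by rw [smul_pr, hg]⟩
  · -- disjoint
    intro i hi j hj hij
    rw [Finset.disjoint_left]
    intro x hxi hxj
    rw [hmemO] at hxi hxj
    obtain ⟨d', _, hp', hP', rfl⟩ := hxi
    obtain ⟨d'', _, hp'', hP'', he⟩ := hxj
    have := pr_inj hp'' hp' he
    rw [this] at hP''
    exact hij (POf_disj i hi j hj _ hP' hP'')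
  · -- transitivity
    intro i hi x hx y hy
    rw [hmemO] at hx hy
    obtain ⟨d', hd', hp', hP', rfl⟩ := hx
    obtain ⟨d'', hd'', hp'', hP'', rfl⟩ := hy
    have key : ∀ e ∈ dodecads, pr e = pr d'' → (d ∩ d').card = (d ∩ e).card →
        ∃ h ∈ MulAction.stabilizer (↥M24) (pr d), h • pr d' = pr d'' := by
      intro e he hpe hcard
      obtain ⟨g, hg, hgd, hge⟩ := Cfsg.Agent.S1561.result d d' e hd hd' he hcard
      refine ⟨⟨g, hg⟩, ?_, ?_⟩
      · rw [MulAction.mem_stabilizer_iff, smul_pr, M24_smul_finset_def]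
        show pr (g • d) = pr d
        rw [hgd]
      · rw [smul_pr, M24_smul_finset_def]
        show pr (g • d') = pr d''
        rw [hge, hpe]
    by_cases hc : (d ∩ d').card = (d ∩ d'').card
    · exact key d'' hd'' rfl hc
    · apply key d''ᶜ (compl_mem_dodecads hd'') (pr_compl _)
      rw [card_inter_compl hd]
      unfold POf at hP' hP''
      interval_cases i
      · simp only [if_true] at hP' hP''
        omega
      · simp at hP' hP''
        omega
  · have h0 := hcardO 0 (by norm_num)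
    have : (O 0).card ≤ ∑ i ∈ Finset.range 2, (O i).card :=
      Finset.single_le_sum (f := fun i => (O i).card) (fun _ _ => Nat.zero_le _)
        (Finset.mem_range.mpr (by norm_num : 0 < 2))
    rw [h0] at this
    have h495 : nOf 0 = 495 := rfl
    omega
  · exact arith (fun i => (O i).card) hcardO

end Cfsg.Agent.S1566
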