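import Cfsg.Statements.S1568
import Cfsg.Agent.Lib.Helper8.LeechCountR
import Cfsg.Agent.S0395

set_option autoImplicit false
open Cfsg

namespace Cfsg.Agent.S1568

open Cfsg.Agent.Lib.Helper8 Cfsg.Agent.Lib.Helper7

/-- all values in `[-8, 8]` -/
def fullV : Finset ℤ := {0, 1, -1, 2, -2, 3, -3, 4, -4, 5, -5, 6, -6, 7, -7, 8, -8}

theorem mem_fullV {v : ℤ} : v ∈ fullV ↔ -8 ≤ v ∧ v ≤ 8 := by
  simp only [fullV, Finset.mem_insert, Finset.mem_singleton]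
  omega

/-- all values in `[-8, 8]` except `±k` -/
def Ano (k : ℤ) : Finset ℤ := fullV.filter fun v => v ≠ k ∧ v ≠ -k

theorem mem_Ano {k v : ℤ} : v ∈ Ano k ↔ (-8 ≤ v ∧ v ≤ 8) ∧ v ≠ k ∧ v ≠ -k := by
  unfold Ano
  rw [Finset.mem_filter, mem_fullV]

theorem Ano_symm (k : ℤ) : ∀ v ∈ Ano k, -v ∈ Ano k := by
  intro v hv
  rw [mem_Ano] at hv ⊢
  refine ⟨by omega, ?_, ?_⟩
  · intro h; exact hv.2.2 (by omega)
  · intro h; exact hv.2.1 (by omega)

def A2 : Finset ℤ := {0, 2, -2}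

theorem A2_symm : ∀ v ∈ A2, -v ∈ A2 := by decide

theorem th_a2_0 : thetaA A2 0 = 1 := by decide +kernel

theorem th_a2_1 : thetaA A2 1 = 0 := by decide +kernel

theorem th_a2_2 : thetaA A2 2 = 2 * BB ^ 4 := by decide +kernel

theorem gO_a2 : gOA A2 48 = 0 := by
  unfold gOA; rw [th_a2_1]; decide +kernel

theorem gE_a2_0 : gEA A2 0 48 = 0 := by
  unfold gEA; rw [th_a2_0, th_a2_2]; decide +kernel

theorem gE_a2_8 : gEA A2 8 48 = 0 := by
  unfold gEA; rw [th_a2_0, th_a2_2]; decide +kernel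

theorem gE_a2_12 : gEA A2 12 48 = 4096 := by
  unfold gEA; rw [th_a2_0, th_a2_2]; decide +kernel

theorem gE_a2_16 : gEA A2 16 48 = 0 := by
  unfold gEA; rw [th_a2_0, th_a2_2]; decide +kernel

theorem gE_a2_24 : gEA A2 24 48 = 0 := by
  unfold gEA; rw [th_a2_0, th_a2_2]; decide +kernel

theorem count_a2 :
    {x : Cfsg.GolayPt → ℤ | x ∈ Cfsg.leechLattice ∧ Cfsg.sqNorm x = 48 ∧ ∀ i, x i ∈ A2}.ncard = 5275648 := by
  have h := two_mul_leech_count_A A2 A2_symm 48 (by norm_num) (by norm_num)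
  rw [gO_a2, gE_a2_0, gE_a2_8, gE_a2_12, gE_a2_16, gE_a2_24] at h
  simp only [Nat.cast_ofNat] at h
  norm_num at h
  omega

theorem th_n3_0 : thetaA (Ano 3) 0 = 1 + 2 * BB ^ 16 + 2 * BB ^ 64 := by decide +kernel

theorem th_n3_1 : thetaA (Ano 3) 1 = BB + BB ^ 25 + BB ^ 49 := by decide +kernel

theorem th_n3_2 : thetaA (Ano 3) 2 = 2 * BB ^ 4 + 2 * BB ^ 36 := by decide +kernel

theorem gO_n3 : gOA (Ano 3) 48 = 24 := by
  unfold gOA; rw [th_n3_1]; decide +kernel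

theorem gE_n3_0 : gEA (Ano 3) 0 48 = 16192 := by
  unfold gEA; rw [th_n3_0, th_n3_2]; decide +kernel

theorem gE_n3_8 : gEA (Ano 3) 8 48 = 8192 := by
  unfold gEA; rw [th_n3_0, th_n3_2]; decide +kernel

theorem gE_n3_12 : gEA (Ano 3) 12 48 = 4096 := by
  unfold gEA; rw [th_n3_0, th_n3_2]; decide +kernel

theorem gE_n3_16 : gEA (Ano 3) 16 48 = 0 := by
  unfold gEA; rw [th_n3_0, th_n3_2]; decide +kernel

theorem gE_n3_24 : gEA (Ano 3) 24 48 = 0 := by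
  unfold gEA; rw [th_n3_0, th_n3_2]; decide +kernel

theorem count_n3 :
    {x : Cfsg.GolayPt → ℤ | x ∈ Cfsg.leechLattice ∧ Cfsg.sqNorm x = 48 ∧ ∀ i, x i ∈ Ano 3}.ncard = 8482816 := by
  have h := two_mul_leech_count_A (Ano 3) (Ano_symm 3) 48 (by norm_num) (by norm_num)
  rw [gO_n3, gE_n3_0, gE_n3_8, gE_n3_12, gE_n3_16, gE_n3_24] at h
  simp only [Nat.cast_ofNat] at h
  norm_num at h
  omega

theorem th_n4_0 : thetaA (Ano 4) 0 = 1 + 2 * BB ^ 64 := by decide +kernel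

theorem th_n4_1 : thetaA (Ano 4) 1 = BB + BB ^ 9 + BB ^ 25 + BB ^ 49 := by decide +kernel

theorem th_n4_2 : thetaA (Ano 4) 2 = 2 * BB ^ 4 + 2 * BB ^ 36 := by decide +kernel

theorem gO_n4 : gOA (Ano 4) 48 = 2048 := by
  unfold gOA; rw [th_n4_1]; decide +kernel

theorem gE_n4_0 : gEA (Ano 4) 0 48 = 0 := by
  unfold gEA; rw [th_n4_0, th_n4_2]; decide +kernel

theorem gE_n4_8 : gEA (Ano 4) 8 48 = 0 := by
  unfold gEA; rw [th_n4_0, th_n4_2]; decide +kernel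

theorem gE_n4_12 : gEA (Ano 4) 12 48 = 4096 := by
  unfold gEA; rw [th_n4_0, th_n4_2]; decide +kernel

theorem gE_n4_16 : gEA (Ano 4) 16 48 = 0 := by
  unfold gEA; rw [th_n4_0, th_n4_2]; decide +kernel

theorem gE_n4_24 : gEA (Ano 4) 24 48 = 0 := by
  unfold gEA; rw [th_n4_0, th_n4_2]; decide +kernel

theorem count_n4 :
    {x : Cfsg.GolayPt → ℤ | x ∈ Cfsg.leechLattice ∧ Cfsg.sqNorm x = 48 ∧ ∀ i, x i ∈ Ano 4}.ncard = 13664256 := by
  have h := two_mul_leech_count_A (Ano 4) (Ano_symm 4) 48 (by norm_num) (by norm_num)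
  rw [gO_n4, gE_n4_0, gE_n4_8, gE_n4_12, gE_n4_16, gE_n4_24] at h
  simp only [Nat.cast_ofNat] at h
  norm_num at h
  omega

theorem th_n5_0 : thetaA (Ano 5) 0 = 1 + 2 * BB ^ 16 + 2 * BB ^ 64 := by decide +kernel

theorem th_n5_1 : thetaA (Ano 5) 1 = BB + BB ^ 9 + BB ^ 49 := by decide +kernel

theorem th_n5_2 : thetaA (Ano 5) 2 = 2 * BB ^ 4 + 2 * BB ^ 36 := by decide +kernel

theorem gO_n5 : gOA (Ano 5) 48 = 2024 := by
  unfold gOA; rw [th_n5_1]; decide +kernel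

theorem gE_n5_0 : gEA (Ano 5) 0 48 = 16192 := by
  unfold gEA; rw [th_n5_0, th_n5_2]; decide +kernel

theorem gE_n5_8 : gEA (Ano 5) 8 48 = 8192 := by
  unfold gEA; rw [th_n5_0, th_n5_2]; decide +kernel

theorem gE_n5_12 : gEA (Ano 5) 12 48 = 4096 := by
  unfold gEA; rw [th_n5_0, th_n5_2]; decide +kernel

theorem gE_n5_16 : gEA (Ano 5) 16 48 = 0 := by
  unfold gEA; rw [th_n5_0, th_n5_2]; decide +kernel

theorem gE_n5_24 : gEA (Ano 5) 24 48 = 0 := by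
  unfold gEA; rw [th_n5_0, th_n5_2]; decide +kernel

theorem count_n5 :
    {x : Cfsg.GolayPt → ℤ | x ∈ Cfsg.leechLattice ∧ Cfsg.sqNorm x = 48 ∧ ∀ i, x i ∈ Ano 5}.ncard = 16674816 := by
  have h := two_mul_leech_count_A (Ano 5) (Ano_symm 5) 48 (by norm_num) (by norm_num)
  rw [gO_n5, gE_n5_0, gE_n5_8, gE_n5_12, gE_n5_16, gE_n5_24] at h
  simp only [Nat.cast_ofNat] at h
  norm_num at h
  omega

theorem all_finite :
    {x : Cfsg.GolayPt → ℤ | x ∈ Cfsg.leechLattice ∧ Cfsg.sqNorm x = 48}.Finite := by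
  apply Set.finite_of_ncard_ne_zero
  rw [Cfsg.Agent.S0395.result]; norm_num

theorem ncard_exists_abs (k : ℤ) (hk : 0 < k) :
    {x : Cfsg.GolayPt → ℤ | x ∈ Cfsg.leechLattice ∧ Cfsg.sqNorm x = 48 ∧ ∃ i, |x i| = k}.ncard
      = 16773120 - {x : Cfsg.GolayPt → ℤ | x ∈ Cfsg.leechLattice ∧ Cfsg.sqNorm x = 48 ∧
          ∀ i, x i ∈ Ano k}.ncard := by
  have hsub : {x : Cfsg.GolayPt → ℤ | x ∈ Cfsg.leechLattice ∧ Cfsg.sqNorm x = 48 ∧ ∀ i, x i ∈ Ano k}
      ⊆ {x : Cfsg.GolayPt → ℤ | x ∈ Cfsg.leechLattice ∧ Cfsg.sqNorm x = 48} :=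
    fun x hx => ⟨hx.1, hx.2.1⟩
  rw [← Cfsg.Agent.S0395.result, ← Set.ncard_sdiff hsub (all_finite.subset hsub)]
  congr 1
  ext x
  simp only [Set.mem_ofPred_eq, Set.mem_sdiff, not_and, not_forall]
  constructor
  · rintro ⟨h1, h2, i, hi⟩
    refine ⟨⟨h1, h2⟩, fun _ _ => ⟨i, ?_⟩⟩
    rw [mem_Ano]
    rintro ⟨_, h3, h4⟩
    rcases (abs_eq hk.le).1 hi with h | h
    · exact h3 h
    · exact h4 h
  · rintro ⟨⟨h1, h2⟩, h3⟩
    obtain ⟨i, hi⟩ := h3 h1 h2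
    refine ⟨h1, h2, i, ?_⟩
    have hb := coord_bound (n := 48) (x := x) (by simpa using h2) (by norm_num) i
    rw [mem_Ano] at hi
    rw [abs_eq hk.le]
    by_contra hcon
    rw [not_or] at hcon
    exact hi ⟨hb, hcon.1, hcon.2⟩

theorem odd_sq_cases (v : ℤ) (hv : v % 2 = 1) : v ^ 2 = 1 ∨ v ^ 2 = 9 ∨ 25 ≤ v ^ 2 := by
  have : v ≤ -5 ∨ v = -3 ∨ v = -1 ∨ v = 1 ∨ v = 3 ∨ 5 ≤ v := by omega
  rcases this with h | rfl | rfl | rfl | rfl | h
  · right; right; nlinarith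
  · right; left; norm_num
  · left; norm_num
  · left; norm_num
  · right; left; norm_num
  · right; right; nlinarith

theorem sq_eq_nine_iff (v : ℤ) : v ^ 2 = 9 ↔ |v| = 3 := by
  constructor
  · intro h
    have h1 : |v| ^ 2 = 3 ^ 2 := by rw [sq_abs, h]; norm_num
    have := abs_nonneg v
    nlinarith
  · intro h
    rw [← sq_abs, h]; norm_num

theorem three_of_one {x : Cfsg.GolayPt → ℤ} (hx : x ∈ Cfsg.leechLattice) (hn : Cfsg.sqNorm x = 48)
    (h : ∃ i, |x i| = 3) :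
    ∃ i j k, i ≠ j ∧ j ≠ k ∧ i ≠ k ∧ |x i| = 3 ∧ |x j| = 3 ∧ |x k| = 3 := by
  classical
  obtain ⟨i0, hi0⟩ := h
  rw [mem_leechLattice_iff] at hx
  obtain ⟨m, hm, -, -⟩ := hx
  have hodd : ∀ j, x j % 2 = 1 := by
    intro j
    have h1 := hm i0
    have h2 := hm j
    simp only [Int.ModEq] at h1 h2
    have h3 : x i0 = 3 ∨ x i0 = -3 := (abs_eq (by norm_num)).1 hi0
    rcases h3 with h3 | h3 <;> omega
  have hge : ∀ j, 1 ≤ x j ^ 2 := by
    intro j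
    rcases odd_sq_cases (x j) (hodd j) with h | h | h <;> omega
  have hsum : ∑ j, x j ^ 2 = 48 := hn
  have h0 : x i0 ^ 2 = 9 := (sq_eq_nine_iff _).2 hi0
  have hcard : (Finset.univ : Finset Cfsg.GolayPt).card = 24 := by rfl
  -- first extra coordinate
  have e1 := Finset.add_sum_erase Finset.univ (fun j => x j ^ 2) (Finset.mem_univ i0)
  have c1 : (Finset.univ.erase i0).card = 23 := by
    rw [Finset.card_erase_of_mem (Finset.mem_univ i0), hcard]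
  have hex1 : ∃ j1 ∈ Finset.univ.erase i0, x j1 ^ 2 ≠ 1 := by
    by_contra hcon
    rw [not_exists] at hcon
    have : ∑ j ∈ Finset.univ.erase i0, x j ^ 2 = ∑ _j ∈ Finset.univ.erase i0, (1 : ℤ) := by
      refine Finset.sum_congr rfl fun j hj => ?_
      by_contra h'
      exact hcon j ⟨hj, h'⟩
    rw [Finset.sum_const, c1] at this
    simp only [nsmul_eq_mul, mul_one] at this
    omega
  obtain ⟨j1, hj1, hj1n⟩ := hex1
  have e2 := Finset.add_sum_erase (Finset.univ.erase i0) (fun j => x j ^ 2) hj1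
  have c2 : ((Finset.univ.erase i0).erase j1).card = 22 := by
    rw [Finset.card_erase_of_mem hj1, c1]
  have lb2 : (22 : ℤ) ≤ ∑ j ∈ (Finset.univ.erase i0).erase j1, x j ^ 2 := by
    have : ∑ _j ∈ (Finset.univ.erase i0).erase j1, (1 : ℤ)
        ≤ ∑ j ∈ (Finset.univ.erase i0).erase j1, x j ^ 2 :=
      Finset.sum_le_sum fun j _ => hge j
    rw [Finset.sum_const, c2] at this
    simpa using this
  have hj1v : x j1 ^ 2 = 9 := by
    rcases odd_sq_cases (x j1) (hodd j1) with h | h | h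
    · exact absurd h hj1n
    · exact h
    · omega
  -- second extra coordinate
  have hex2 : ∃ j2 ∈ (Finset.univ.erase i0).erase j1, x j2 ^ 2 ≠ 1 := by
    by_contra hcon
    rw [not_exists] at hcon
    have : ∑ j ∈ (Finset.univ.erase i0).erase j1, x j ^ 2
        = ∑ _j ∈ (Finset.univ.erase i0).erase j1, (1 : ℤ) := by
      refine Finset.sum_congr rfl fun j hj => ?_
      by_contra h'
      exact hcon j ⟨hj, h'⟩
    rw [Finset.sum_const, c2] at this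
    simp only [nsmul_eq_mul, mul_one] at this
    omega
  obtain ⟨j2, hj2, hj2n⟩ := hex2
  have e3 := Finset.add_sum_erase ((Finset.univ.erase i0).erase j1) (fun j => x j ^ 2) hj2
  have c3 : (((Finset.univ.erase i0).erase j1).erase j2).card = 21 := by
    rw [Finset.card_erase_of_mem hj2, c2]
  have lb3 : (21 : ℤ) ≤ ∑ j ∈ ((Finset.univ.erase i0).erase j1).erase j2, x j ^ 2 := by
    have : ∑ _j ∈ ((Finset.univ.erase i0).erase j1).erase j2, (1 : ℤ)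
        ≤ ∑ j ∈ ((Finset.univ.erase i0).erase j1).erase j2, x j ^ 2 :=
      Finset.sum_le_sum fun j _ => hge j
    rw [Finset.sum_const, c3] at this
    simpa using this
  have hj2v : x j2 ^ 2 = 9 := by
    rcases odd_sq_cases (x j2) (hodd j2) with h | h | h
    · exact absurd h hj2n
    · exact h
    · omega
  refine ⟨i0, j1, j2, ?_, ?_, ?_, hi0, (sq_eq_nine_iff _).1 hj1v, (sq_eq_nine_iff _).1 hj2v⟩
  · exact (Finset.ne_of_mem_erase hj1).symm
  · exact (Finset.ne_of_mem_erase hj2).symm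
  · exact (Finset.ne_of_mem_erase (Finset.mem_of_mem_erase hj2)).symm


/-- Shape census of the lattice vectors of sum of squares 48 (customary norm 6): the four families (2^12, 0^12), (±3^3, ±1^21), (±4, ±2^8, 0^15) and (±5, ±1^23) have 5275648, 8290304, 3108864 and 98304 members. -/
theorem result : {x : Cfsg.GolayPt → ℤ | x ∈ Cfsg.leechLattice ∧ Cfsg.sqNorm x = 48 ∧ ∀ i, x i = 0 ∨ x i = 2 ∨ x i = -2}.ncard = 5275648 ∧ {x : Cfsg.GolayPt → ℤ | x ∈ Cfsg.leechLattice ∧ Cfsg.sqNorm x = 48 ∧ ∃ i j k, i ≠ j ∧ j ≠ k ∧ i ≠ k ∧ |x i| = 3 ∧ |x j| = 3 ∧ |x k| = 3}.ncard = 8290304 ∧ {x : Cfsg.GolayPt → ℤ | x ∈ Cfsg.leechLattice ∧ Cfsg.sqNorm x = 48 ∧ ∃ i, |x i| = 4}.ncard = 3108864 ∧ {x : Cfsg.GolayPt → ℤ | x ∈ Cfsg.leechLattice ∧ Cfsg.sqNorm x = 48 ∧ ∃ i, |x i| = 5}.ncard = 98304 := by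
  refine ⟨?_, ?_, ?_, ?_⟩
  · rw [← count_a2]
    congr 1
    ext x
    simp only [Set.mem_ofPred_eq, A2, Finset.mem_insert, Finset.mem_singleton]
  · have h3 := ncard_exists_abs 3 (by norm_num)
    rw [count_n3] at h3
    rw [← show (16773120 - 8482816 : ℕ) = 8290304 by norm_num, ← h3]
    congr 1
    ext x
    simp only [Set.mem_ofPred_eq]
    constructor
    · rintro ⟨h1, h2, i, j, k, -, -, -, hi, -, -⟩
      exact ⟨h1, h2, i, hi⟩
    · rintro ⟨h1, h2, h⟩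
      exact ⟨h1, h2, three_of_one h1 h2 h⟩
  · have h4 := ncard_exists_abs 4 (by norm_num)
    rw [count_n4] at h4
    rw [h4]
  · have h5 := ncard_exists_abs 5 (by norm_num)
    rw [count_n5] at h5
    rw [h5]

end Cfsg.Agent.S1568
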