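import Cfsg.Statements.S1569
import Cfsg.Agent.Lib.Helper8.LeechMod2

set_option autoImplicit false
open scoped Pointwise
open Cfsg

namespace Cfsg.Agent.S1569

open Cfsg.Agent.Lib.Helper8

/-- The cross through a lattice vector of customary norm 8 has exactly 48 members. -/
theorem result (x : Cfsg.GolayPt → ℤ) (hx : x ∈ Cfsg.leechLattice) (hxn : Cfsg.sqNorm x = 64) : (Cfsg.cross x).ncard = 48 := by
  classical
  rw [← card_fib_of_norm64 x hx hxn, ← Set.ncard_coe_finset]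
  congr 1
  ext y
  simp only [Cfsg.cross, Set.mem_ofPred_eq, Finset.mem_coe, mem_fib]
  constructor
  · rintro ⟨h1, h2, z, hz, hxy⟩
    refine ⟨⟨h1, by omega⟩, ?_⟩
    rw [eq_comm, piQ_eq_iff]
    exact mem_L2.2 ⟨z, hz, hxy⟩
  · rintro ⟨⟨h1, h2⟩, h3⟩
    have hxf : x ∈ fib (piQ x) := mem_fib.2 ⟨⟨hx, by omega⟩, rfl⟩
    have hyf : y ∈ fib (piQ x) := mem_fib.2 ⟨⟨h1, h2⟩, h3⟩
    refine ⟨h1, ?_, mem_L2.1 ((piQ_eq_iff x y).1 h3.symm)⟩
    rcases fib_pair hxf hyf with h | h | h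
    · rw [h]
    · rw [h, sqNorm_neg']
    · rw [h.2.1, hxn]

end Cfsg.Agent.S1569
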