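import Cfsg.Statements.S1578
import Cfsg.Agent.Lib.Helper8.Census2

set_option autoImplicit false
open Cfsg

namespace Cfsg.Agent.S1578

open Cfsg.Agent.Lib.Helper8

/-- A lattice vector of customary norm 6 is the sum of an unordered pair of minimal vectors in exactly 276 ways (552 ordered summands). -/
theorem result (u : ↥Cfsg.leechLattice) (hu : Cfsg.sqNorm (u : Cfsg.GolayPt → ℤ) = 48) : {v : ↥Cfsg.leechLattice | Cfsg.sqNorm (v : Cfsg.GolayPt → ℤ) = 32 ∧ Cfsg.sqNorm ((u - v) : Cfsg.GolayPt → ℤ) = 32}.ncard = 552 := by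
  classical
  have hinj : Function.Injective (fun v : leechLattice =>
      ((v : GolayPt → ℤ), (u : GolayPt → ℤ) - (v : GolayPt → ℤ))) := by
    intro a b hab
    exact Subtype.ext (congrArg Prod.fst hab)
  rw [← Set.ncard_image_of_injective _ hinj, ← card_fibF_48 u.2 hu, ← Set.ncard_coe_finset]
  congr 1
  ext p
  rw [Finset.mem_coe, mem_fibF, mem_pairsF]
  constructor
  · rintro ⟨v, ⟨hv1, hv2⟩, rfl⟩
    have hv2' : sqNorm ((u : GolayPt → ℤ) - (v : GolayPt → ℤ)) = 32 := hv2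
    refine ⟨⟨⟨v.2, hv1⟩, ⟨leechLattice.sub_mem u.2 v.2, hv2'⟩, ?_⟩, by simp⟩
    have h1 : (u : GolayPt → ℤ) = (v : GolayPt → ℤ) + ((u : GolayPt → ℤ) - (v : GolayPt → ℤ)) := by
      abel
    have h2 := sqNorm_add' (v : GolayPt → ℤ) ((u : GolayPt → ℤ) - (v : GolayPt → ℤ))
    rw [← h1, hu, hv1, hv2'] at h2
    show dotInt (v : GolayPt → ℤ) ((u : GolayPt → ℤ) - (v : GolayPt → ℤ)) = -8
    omega
  · rintro ⟨⟨⟨ha, han⟩, ⟨_, hbn⟩, _⟩, hs⟩
    refine ⟨⟨p.1, ha⟩, ⟨han, ?_⟩, ?_⟩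
    · show sqNorm ((u : GolayPt → ℤ) - p.1) = 32
      rw [← hs, add_sub_cancel_left]
      exact hbn
    · apply Prod.ext
      · rfl
      · show (u : GolayPt → ℤ) - p.1 = p.2
        rw [← hs, add_sub_cancel_left]

end Cfsg.Agent.S1578
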