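import Cfsg.Statements.S1579
import Cfsg.Agent.Lib.Helper8.Co2Orbits

set_option autoImplicit false
open Cfsg

namespace Cfsg.Agent.S1579

open Cfsg.Agent.Lib.Helper8

/-- the inner product of the two minimal summands of a norm-48 vector -/
theorem dot_of_decomp (u v : leechLattice) (hu : sqNorm (u : GolayPt → ℤ) = 48)
    (hv : sqNorm (v : GolayPt → ℤ) = 32) (huv : sqNorm ((u : GolayPt → ℤ) - (v : GolayPt → ℤ)) = 32) :
    dotInt (v : GolayPt → ℤ) ((u - v : leechLattice) : GolayPt → ℤ) = -8 := by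
  have h1 : (u : GolayPt → ℤ) = (v : GolayPt → ℤ) + ((u : GolayPt → ℤ) - (v : GolayPt → ℤ)) := by abel
  have h2 := sqNorm_add' (v : GolayPt → ℤ) ((u : GolayPt → ℤ) - (v : GolayPt → ℤ))
  rw [← h1, hu, hv, huv] at h2
  show dotInt (v : GolayPt → ℤ) ((u : GolayPt → ℤ) - (v : GolayPt → ℤ)) = -8
  omega

/-- The stabiliser of a vector of customary norm 6 is transitive on the 552 minimal vectors that complete it to a sum of two minimal vectors. -/
theorem result (u v v' : ↥Cfsg.leechLattice) (hu : Cfsg.sqNorm (u : Cfsg.GolayPt → ℤ) = 48) (hv : Cfsg.sqNorm (v : Cfsg.GolayPt → ℤ) = 32 ∧ Cfsg.sqNorm ((u - v) : Cfsg.GolayPt → ℤ) = 32) (hv' : Cfsg.sqNorm (v' : Cfsg.GolayPt → ℤ) = 32 ∧ Cfsg.sqNorm ((u - v') : Cfsg.GolayPt → ℤ) = 32) : ∃ g : ↥Cfsg.Co0, g • u = u ∧ g • v = v' := by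
  have hd := dot_of_decomp u v hu hv.1 hv.2
  have hd' := dot_of_decomp u v' hu hv'.1 hv'.2
  obtain ⟨g1, hg1⟩ := Cfsg.Agent.S0400.result v v' hv.1 hv'.1
  have e1 : dotInt (v' : GolayPt → ℤ) ((g1 • (u - v) : leechLattice) : GolayPt → ℤ) = -8 := by
    have := co0_dotInt g1 v (u - v)
    rw [hg1] at this
    rw [this, hd]
  obtain ⟨h, hh1, hh2⟩ := stab_trans_of_urel (-8) urel_of_dot8 v' (g1 • (u - v)) (u - v') hv'.1
    (by rw [co0_sqNorm]; exact hv.2) hv'.2 e1 hd'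
  refine ⟨h * g1, ?_, by rw [mul_smul, hg1, hh1]⟩
  have hu1 : u = v + (u - v) := by abel
  have hu2 : u = v' + (u - v') := by abel
  rw [mul_smul]
  conv_lhs => rw [hu1]
  rw [co0_smul_add, co0_smul_add, hg1, hh1, hh2]
  exact hu2.symm

end Cfsg.Agent.S1579
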