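import Cfsg.Statements.S1580
import Cfsg.Agent.Lib.Helper27.McLTrans
import Cfsg.Agent.S0401
import Cfsg.Agent.S1579

set_option autoImplicit false
open Cfsg

namespace Cfsg.Agent.S1580

open Cfsg.Agent.Lib.Helper7 Cfsg.Agent.Lib.Helper8 Cfsg.Agent.Lib.Helper27 Cfsg.Spor

theorem sqNorm_sub_smul (g : Co0) (a b : leechLattice) :
    sqNorm (((g • a : leechLattice) : GolayPt → ℤ) - ((g • b : leechLattice) : GolayPt → ℤ))
      = sqNorm ((a : GolayPt → ℤ) - (b : GolayPt → ℤ)) := by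
  rw [sqNorm_sub', sqNorm_sub', co0_sqNorm, co0_sqNorm, co0_dotInt]

theorem sqNorm_uF_sub_vecU : sqNorm (uF - vecU) = 32 := by decide +kernel

/-- every pair of the configuration can be moved to the standard pair -/
theorem exists_to_std (u v : leechLattice) (hu : sqNorm (u : GolayPt → ℤ) = 48)
    (hv : sqNorm (v : GolayPt → ℤ) = 32 ∧ sqNorm ((u : GolayPt → ℤ) - (v : GolayPt → ℤ)) = 32) :
    ∃ g : Co0, g • u = uL ∧ g • v = leechU := by
  obtain ⟨g1, hg1⟩ := Cfsg.Agent.S0401.result u uL hu sqNorm_uF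
  obtain ⟨g2, h1, h2⟩ := Cfsg.Agent.S1579.result uL (g1 • v) leechU sqNorm_uF
    ⟨by rw [co0_sqNorm]; exact hv.1, by rw [← hg1, sqNorm_sub_smul]; exact hv.2⟩
    ⟨sqNorm_vecU, sqNorm_uF_sub_vecU⟩
  exact ⟨g2 * g1, by rw [mul_smul, hg1, h1], by rw [mul_smul, h2]⟩

/-- membership in the configuration, transported to the standard frame -/
theorem mem_iff_std {u v : leechLattice} (hu : sqNorm (u : GolayPt → ℤ) = 48) {g : Co0}
    (hgu : g • u = uL) (hgv : g • v = leechU) (x : leechLattice) :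
    (sqNorm (x : GolayPt → ℤ) = 32 ∧ sqNorm ((u : GolayPt → ℤ) - (x : GolayPt → ℤ)) = 32 ∧
      dotInt (v : GolayPt → ℤ) (x : GolayPt → ℤ) = 16) ↔
      ((g • x : leechLattice) : GolayPt → ℤ) ∈ F0 := by
  have e1 : dotInt uF ((g • x : leechLattice) : GolayPt → ℤ)
      = dotInt (u : GolayPt → ℤ) (x : GolayPt → ℤ) := by
    rw [← co0_dotInt g u x, hgu]; rfl
  have e2 : dotInt vecU ((g • x : leechLattice) : GolayPt → ℤ)
      = dotInt (v : GolayPt → ℤ) (x : GolayPt → ℤ) := by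
    rw [← co0_dotInt g v x, hgv]; rfl
  unfold F0
  rw [Set.mem_setOf_eq, e1, e2, co0_sqNorm, sqNorm_sub', hu]
  constructor
  · rintro ⟨h1, h2, h3⟩
    rw [h1] at h2
    exact ⟨(g • x).2, h1, by omega, h3⟩
  · rintro ⟨-, h1, h2, h3⟩
    exact ⟨h1, by rw [h1, h2]; norm_num, h3⟩

theorem ncard_std : {y : leechLattice | (y : GolayPt → ℤ) ∈ F0}.ncard = 275 := by
  rw [← ncard_F0, ← Set.ncard_image_of_injective _ Subtype.val_injective]
  congr 1
  ext x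
  simp only [Set.mem_image, Set.mem_setOf_eq]
  constructor
  · rintro ⟨y, hy, rfl⟩
    exact hy
  · intro hx
    exact ⟨⟨x, hx.1⟩, hx, rfl⟩

/-- The McLaughlin configuration: for u of customary norm 6 and v minimal with u − v minimal, there are 275 further such summands x of customary inner product 2 with v, permuted transitively by the stabiliser of u and v. -/
theorem result (u v : ↥Cfsg.leechLattice) (hu : Cfsg.sqNorm (u : Cfsg.GolayPt → ℤ) = 48) (hv : Cfsg.sqNorm (v : Cfsg.GolayPt → ℤ) = 32 ∧ Cfsg.sqNorm ((u - v) : Cfsg.GolayPt → ℤ) = 32) : {x : ↥Cfsg.leechLattice | Cfsg.sqNorm (x : Cfsg.GolayPt → ℤ) = 32 ∧ Cfsg.sqNorm ((u - x) : Cfsg.GolayPt → ℤ) = 32 ∧ Cfsg.dotInt (v : Cfsg.GolayPt → ℤ) (x : Cfsg.GolayPt → ℤ) = 16}.ncard = 275 ∧ ∀ x ∈ {x : ↥Cfsg.leechLattice | Cfsg.sqNorm (x : Cfsg.GolayPt → ℤ) = 32 ∧ Cfsg.sqNorm ((u - x) : Cfsg.GolayPt → ℤ) = 32 ∧ Cfsg.dotInt (v : Cfsg.GolayPt → ℤ) (x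 : Cfsg.GolayPt → ℤ) = 16}, ∀ x' ∈ {x : ↥Cfsg.leechLattice | Cfsg.sqNorm (x : Cfsg.GolayPt → ℤ) = 32 ∧ Cfsg.sqNorm ((u - x) : Cfsg.GolayPt → ℤ) = 32 ∧ Cfsg.dotInt (v : Cfsg.GolayPt → ℤ) (x : Cfsg.GolayPt → ℤ) = 16}, ∃ g : ↥Cfsg.Co0, g • u = u ∧ g • v = v ∧ g • x = x' := by
  obtain ⟨g, hgu, hgv⟩ := exists_to_std u v hu hv
  constructor
  · rw [← ncard_std, ← Set.ncard_image_of_injective _ (MulAction.injective g)]
    congr 1
    ext y
    simp only [Set.mem_image, Set.mem_setOf_eq]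
    constructor
    · rintro ⟨x, hx, rfl⟩
      exact (mem_iff_std hu hgu hgv x).1 hx
    · intro hy
      refine ⟨g⁻¹ • y, (mem_iff_std hu hgu hgv _).2 ?_, smul_inv_smul g y⟩
      rw [smul_inv_smul]
      exact hy
  · intro x hx x' hx'
    obtain ⟨h, h1, h2, h3⟩ := std_trans (g • x) (g • x') ((mem_iff_std hu hgu hgv x).1 hx)
      ((mem_iff_std hu hgu hgv x').1 hx')
    refine ⟨g⁻¹ * h * g, ?_, ?_, ?_⟩
    · rw [mul_smul, mul_smul, hgu, h1, inv_smul_eq_iff, hgu]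
    · rw [mul_smul, mul_smul, hgv, h2, inv_smul_eq_iff, hgv]
    · rw [mul_smul, mul_smul, h3, inv_smul_smul]

end Cfsg.Agent.S1580
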