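import Cfsg.Statements.S1581
import Cfsg.Agent.Lib.Helper27.McLRankFinal
import Cfsg.Agent.S1580

set_option autoImplicit false
open Cfsg

namespace Cfsg.Agent.S1581

open Cfsg.Agent.Lib.Helper7 Cfsg.Agent.Lib.Helper8 Cfsg.Agent.Lib.Helper27 Cfsg.Spor
open Cfsg.Agent.S1580

/-- every triple of the configuration can be moved to the standard triple -/
theorem exists_to_std3 (u v x : leechLattice) (hu : sqNorm (u : GolayPt → ℤ) = 48)
    (hv : sqNorm (v : GolayPt → ℤ) = 32 ∧ sqNorm ((u : GolayPt → ℤ) - (v : GolayPt → ℤ)) = 32)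
    (hx : sqNorm (x : GolayPt → ℤ) = 32 ∧ sqNorm ((u : GolayPt → ℤ) - (x : GolayPt → ℤ)) = 32 ∧
      dotInt (v : GolayPt → ℤ) (x : GolayPt → ℤ) = 16) :
    ∃ g : Co0, g • u = uL ∧ g • v = leechU ∧ g • x = x0L := by
  obtain ⟨g, hgu, hgv⟩ := exists_to_std u v hu hv
  obtain ⟨h, h1, h2, h3⟩ := std_trans (g • x) x0L ((mem_iff_std hu hgu hgv x).1 hx)
    (aF_mem_F0 j0_ne_none j0_ne_zero)
  exact ⟨h * g, by rw [mul_smul, hgu, h1], by rw [mul_smul, hgv, h2], by rw [mul_smul, h3]⟩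

theorem ncard_std8 : {y : leechLattice | (y : GolayPt → ℤ) ∈ G8}.ncard = 112 := by
  rw [← ncard_G8, ← Set.ncard_image_of_injective _ Subtype.val_injective]
  congr 1
  ext x
  simp only [Set.mem_image, Set.mem_setOf_eq]
  constructor
  · rintro ⟨y, hy, rfl⟩
    exact hy
  · intro hx
    exact ⟨⟨x, hx.1.1⟩, hx, rfl⟩

theorem ncard_std16 : {y : leechLattice | (y : GolayPt → ℤ) ∈ G16}.ncard = 162 := by
  rw [← ncard_G16, ← Set.ncard_image_of_injective _ Subtype.val_injective]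
  congr 1
  ext x
  simp only [Set.mem_image, Set.mem_setOf_eq]
  constructor
  · rintro ⟨y, hy, rfl⟩
    exact hy
  · intro hx
    exact ⟨⟨x, hx.1.1⟩, hx, rfl⟩

/-- The McLaughlin group acts with rank 3 and subdegrees 1, 112, 162 on its 275 points: the point stabiliser has two orbits on the remaining points, distinguished by customary inner product 1 or 2 with the fixed point. -/
theorem result (u v x : ↥Cfsg.leechLattice) (hu : Cfsg.sqNorm (u : Cfsg.GolayPt → ℤ) = 48) (hv : Cfsg.sqNorm (v : Cfsg.GolayPt → ℤ) = 32 ∧ Cfsg.sqNorm ((u - v) : Cfsg.GolayPt → ℤ) = 32) (hx : x ∈ {x : ↥Cfsg.leechLattice | Cfsg.sqNorm (x : Cfsg.GolayPt → ℤ) = 32 ∧ Cfsg.sqNorm ((u - x) : Cfsg.GolayPt → ℤ) = 32 ∧ Cfsg.dotInt (v : Cfsg.GolayPt → ℤ) (x : Cfsg.GolayPt → ℤ) = 16}) : {y : ↥Cfsg.leechLattice | y ∈ {x : ↥Cfsg.leechLattice | Cfsg.sqNorm (x : Cfsg.GolayPt → ℤ) = 32 ∧ Cfsg.sqNorm ((u - x) :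 Cfsg.GolayPt → ℤ) = 32 ∧ Cfsg.dotInt (v : Cfsg.GolayPt → ℤ) (x : Cfsg.GolayPt → ℤ) = 16} ∧ Cfsg.dotInt (x : Cfsg.GolayPt → ℤ) (y : Cfsg.GolayPt → ℤ) = 8}.ncard = 112 ∧ {y : ↥Cfsg.leechLattice | y ∈ {x : ↥Cfsg.leechLattice | Cfsg.sqNorm (x : Cfsg.GolayPt → ℤ) = 32 ∧ Cfsg.sqNorm ((u - x) : Cfsg.GolayPt → ℤ) = 32 ∧ Cfsg.dotInt (v : Cfsg.GolayPt → ℤ) (x : Cfsg.GolayPt → ℤ) = 16} ∧ y ≠ x ∧ Cfsg.dotInt (x : Cfsg.GolayPt → ℤ) (y : Cfsg.GolayPt → ℤ) = 16}.ncard = 162 ∧ ∀ y ∈ {x : ↥Cfsg.leechLattice | Cfsg.sqNorm (x : Cfsg.GolayPt → ℤ) = 32 ∧ Cfsg.sqNorm ((u - x) : Cfsg.GolayPt → ℤ) = 32 ∧ Cfsg.dotInt (v : Cfsg.GolayPt → ℤ) (x : Cfsg.GolayPt → ℤ) = 16}, ∀ y' ∈ {x : ↥Cfsg.leechLattice | Cfsg.sqNorm (x : Cfsg.GolayPt → ℤ) = 32 ∧ Cfsg.sqNorm ((u - x) : Cfsg.GolayPt → ℤ) = 32 ∧ Cfsg.dotInt (v : Cfsg.GolayPt → ℤ) (x : Cfsg.GolayPt → ℤ) = 16}, y ≠ x → y' ≠ x → Cfsg.dotInt (x : Cfsg.GolayPt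 → ℤ) (y : Cfsg.GolayPt → ℤ) = Cfsg.dotInt (x : Cfsg.GolayPt → ℤ) (y' : Cfsg.GolayPt → ℤ) → ∃ g : ↥Cfsg.Co0, g • u = u ∧ g • v = v ∧ g • x = x ∧ g • y = y' := by
  obtain ⟨g, hgu, hgv, hgx⟩ := exists_to_std3 u v x hu hv hx
  have hdot : ∀ y : leechLattice, dotInt (aF j0) ((g • y : leechLattice) : GolayPt → ℤ)
      = dotInt (x : GolayPt → ℤ) (y : GolayPt → ℤ) := by
    intro y
    rw [← co0_dotInt g x y, hgx]; rfl
  have hne : ∀ y : leechLattice, ((g • y : leechLattice) : GolayPt → ℤ) ≠ aF j0 ↔ y ≠ x := by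
    intro y
    constructor
    · intro h hc
      apply h
      rw [hc, hgx]; rfl
    · intro h hc
      apply h
      have : g • y = g • x := by rw [hgx]; exact Subtype.ext hc
      exact MulAction.injective g this
  refine ⟨?_, ?_, ?_⟩
  · rw [← ncard_std8, ← Set.ncard_image_of_injective _ (MulAction.injective g)]
    congr 1
    ext z
    simp only [Set.mem_image, Set.mem_setOf_eq]
    constructor
    · rintro ⟨y, ⟨hy, hd⟩, rfl⟩
      exact ⟨(mem_iff_std hu hgu hgv y).1 hy, by rw [hdot]; exact hd⟩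
    · intro hz
      refine ⟨g⁻¹ • z, ⟨(mem_iff_std hu hgu hgv _).2 ?_, ?_⟩, smul_inv_smul g z⟩
      · rw [smul_inv_smul]; exact hz.1
      · rw [← hdot, smul_inv_smul]; exact hz.2
  · rw [← ncard_std16, ← Set.ncard_image_of_injective _ (MulAction.injective g)]
    congr 1
    ext z
    simp only [Set.mem_image, Set.mem_setOf_eq]
    constructor
    · rintro ⟨y, ⟨hy, hyx, hd⟩, rfl⟩
      exact ⟨(mem_iff_std hu hgu hgv y).1 hy, (hne y).2 hyx, by rw [hdot]; exact hd⟩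
    · intro hz
      refine ⟨g⁻¹ • z, ⟨(mem_iff_std hu hgu hgv _).2 ?_, ?_, ?_⟩, smul_inv_smul g z⟩
      · rw [smul_inv_smul]; exact hz.1
      · rw [← hne, smul_inv_smul]; exact hz.2.1
      · rw [← hdot, smul_inv_smul]; exact hz.2.2
  · intro y hy y' hy' hyx hyx' hdd
    have m1 := (mem_iff_std hu hgu hgv y).1 hy
    have m2 := (mem_iff_std hu hgu hgv y').1 hy'
    have n1 := (hne y).2 hyx
    have n2 := (hne y').2 hyx'
    have key : ∃ h : Co0, h • uL = uL ∧ h • leechU = leechU ∧ h • x0L = x0L ∧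
        h • (g • y) = g • y' := by
      rcases dot_cases m1 n1 with d | d
      · have d' : dotInt (aF j0) ((g • y' : leechLattice) : GolayPt → ℤ) = 8 := by
          rw [hdot, ← hdd, ← hdot]; exact d
        exact std_trans8 (g • y) (g • y') ⟨m1, d⟩ ⟨m2, d'⟩
      · have d' : dotInt (aF j0) ((g • y' : leechLattice) : GolayPt → ℤ) = 16 := by
          rw [hdot, ← hdd, ← hdot]; exact d
        exact std_trans16 (g • y) (g • y') ⟨m1, n1, d⟩ ⟨m2, n2, d'⟩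
    obtain ⟨h, h1, h2, h3, h4⟩ := key
    refine ⟨g⁻¹ * h * g, ?_, ?_, ?_, ?_⟩
    · rw [mul_smul, mul_smul, hgu, h1, inv_smul_eq_iff, hgu]
    · rw [mul_smul, mul_smul, hgv, h2, inv_smul_eq_iff, hgv]
    · rw [mul_smul, mul_smul, hgx, h3, inv_smul_eq_iff, hgx]
    · rw [mul_smul, mul_smul, h4, inv_smul_smul]

end Cfsg.Agent.S1581
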