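import Cfsg.Statements.S1585
import Cfsg.Agent.Lib.Helper8.Co3Orbits

set_option autoImplicit false
open Cfsg Cfsg.Agent.Lib.Helper8

namespace Cfsg.Agent.S1585

/-- Two vectors of customary norm 6 with inner product −4 are exchanged by some automorphism of the lattice. -/
theorem result (v w : ↥Cfsg.leechLattice) (hv : Cfsg.sqNorm (v : Cfsg.GolayPt → ℤ) = 48) (hw : Cfsg.sqNorm (w : Cfsg.GolayPt → ℤ) = 48) (hvw : Cfsg.dotInt (v : Cfsg.GolayPt → ℤ) (w : Cfsg.GolayPt → ℤ) = -32) : ∃ g : ↥Cfsg.Co0, g • v = w ∧ g • w = v := by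
  have hx0 : Cfsg.sqNorm ((-(v + w) : ↥Cfsg.leechLattice) : Cfsg.GolayPt → ℤ) = 32 := by
    show Cfsg.sqNorm (-((v : Cfsg.GolayPt → ℤ) + (w : Cfsg.GolayPt → ℤ))) = 32
    rw [sqNorm_neg', sqNorm_add', hv, hw, hvw]; norm_num
  have hvx : Cfsg.dotInt (v : Cfsg.GolayPt → ℤ)
      ((-(v + w) : ↥Cfsg.leechLattice) : Cfsg.GolayPt → ℤ) = -16 := by
    show Cfsg.dotInt (v : Cfsg.GolayPt → ℤ)
      (-((v : Cfsg.GolayPt → ℤ) + (w : Cfsg.GolayPt → ℤ))) = -16
    have : Cfsg.dotInt (v : Cfsg.GolayPt → ℤ)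
        (-((v : Cfsg.GolayPt → ℤ) + (w : Cfsg.GolayPt → ℤ)))
        = -(Cfsg.sqNorm (v : Cfsg.GolayPt → ℤ)
          + Cfsg.dotInt (v : Cfsg.GolayPt → ℤ) (w : Cfsg.GolayPt → ℤ)) := by
      unfold Cfsg.dotInt Cfsg.sqNorm
      rw [← Finset.sum_add_distrib, ← Finset.sum_neg_distrib]
      refine Finset.sum_congr rfl fun i _ => ?_
      simp only [Pi.neg_apply, Pi.add_apply]; ring
    rw [this, hv, hvw]; norm_num
  have hwx : Cfsg.dotInt (w : Cfsg.GolayPt → ℤ)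
      ((-(v + w) : ↥Cfsg.leechLattice) : Cfsg.GolayPt → ℤ) = -16 := by
    show Cfsg.dotInt (w : Cfsg.GolayPt → ℤ)
      (-((v : Cfsg.GolayPt → ℤ) + (w : Cfsg.GolayPt → ℤ))) = -16
    have : Cfsg.dotInt (w : Cfsg.GolayPt → ℤ)
        (-((v : Cfsg.GolayPt → ℤ) + (w : Cfsg.GolayPt → ℤ)))
        = -(Cfsg.dotInt (v : Cfsg.GolayPt → ℤ) (w : Cfsg.GolayPt → ℤ)
          + Cfsg.sqNorm (w : Cfsg.GolayPt → ℤ)) := by
      unfold Cfsg.dotInt Cfsg.sqNorm
      rw [← Finset.sum_add_distrib, ← Finset.sum_neg_distrib]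
      refine Finset.sum_congr rfl fun i _ => ?_
      simp only [Pi.neg_apply, Pi.add_apply]; ring
    rw [this, hw, hvw]; norm_num
  obtain ⟨g, hg1, hg2⟩ := pair3_trans v (-(v + w)) w (-(v + w)) hv hx0 hvx hw hx0 hwx
  refine ⟨g, hg1, ?_⟩
  have e : g • (-(v + w)) = -(g • v + g • w) := by
    rw [show (-(v + w) : ↥Cfsg.leechLattice) = (-v) + (-w) by abel, co0_smul_add]
    have hneg : ∀ z : ↥Cfsg.leechLattice, g • (-z) = -(g • z) := by
      intro z
      have := co0_smul_add g z (-z)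
      rw [add_neg_cancel] at this
      have h0 : g • (0 : ↥Cfsg.leechLattice) = 0 := by
        have := co0_smul_add g 0 0
        rw [add_zero] at this
        exact left_eq_add.1 this
      rw [h0] at this
      exact (neg_eq_of_add_eq_zero_right this.symm).symm
    rw [hneg, hneg]; abel
  rw [hg2, hg1] at e
  have := neg_injective e
  -- `v + w = w + g • w`
  have h2 : v + w = w + g • w := this
  rw [add_comm v w] at h2
  exact (add_left_cancel h2).symm

end Cfsg.Agent.S1585
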