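import Cfsg.Statements.S1587
-- import your own Cfsg.Agent.* helpers here

set_option autoImplicit false
open Matrix
open Cfsg

namespace Cfsg.Agent.S1587

/-- bilinear form attached to `B` -/
private def bf (B : Matrix (Fin 24) (Fin 24) ℤ) (x y : Fin 24 → ℤ) : ℤ := x ⬝ᵥ (B *ᵥ y)

private lemma bf_add_left (B : Matrix (Fin 24) (Fin 24) ℤ) (x y z : Fin 24 → ℤ) :
    bf B (x + y) z = bf B x z + bf B y z := by
  simp [bf, add_dotProduct]

private lemma bf_add_right (B : Matrix (Fin 24) (Fin 24) ℤ) (x y z : Fin 24 → ℤ) :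
    bf B x (y + z) = bf B x y + bf B x z := by
  simp [bf, mulVec_add, dotProduct_add]

private lemma bf_smul_left (B : Matrix (Fin 24) (Fin 24) ℤ) (c : ℤ) (x y : Fin 24 → ℤ) :
    bf B (c • x) y = c * bf B x y := by
  unfold bf
  rw [smul_dotProduct, smul_eq_mul]

private lemma bf_smul_right (B : Matrix (Fin 24) (Fin 24) ℤ) (c : ℤ) (x y : Fin 24 → ℤ) :
    bf B x (c • y) = c * bf B x y := by
  unfold bf
  rw [mulVec_smul, dotProduct_smul, smul_eq_mul]

private lemma bf_comm (B : Matrix (Fin 24) (Fin 24) ℤ) (hsymm : B.IsSymm) (x y : Fin 24 → ℤ) :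
    bf B x y = bf B y x := by
  unfold bf
  rw [dotProduct_mulVec, ← mulVec_transpose, hsymm.eq, dotProduct_comm]

/-- First step of the characterisation of the rank-24 lattice: in an even lattice without roots, norm-8 vectors congruent modulo 2 are equal, opposite or orthogonal. -/
theorem result (B : Matrix (Fin 24) (Fin 24) ℤ) (hsymm : B.IsSymm) (hpos : ∀ x : Fin 24 → ℤ, x ≠ 0 → 0 < x ⬝ᵥ (B *ᵥ x)) (heven : ∀ x : Fin 24 → ℤ, (2 : ℤ) ∣ x ⬝ᵥ (B *ᵥ x)) (h2 : ∀ x : Fin 24 → ℤ, x ⬝ᵥ (B *ᵥ x) ≠ 2) (x y : Fin 24 → ℤ) (hx : x ⬝ᵥ (B *ᵥ x) = 8) (hy : y ⬝ᵥ (B *ᵥ y) = 8) (hc : ∀ i, (2 : ℤ) ∣ (x - y) i) : y = x ∨ y = -x ∨ x ⬝ᵥ (B *ᵥ y) = 0 := by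
  -- x - y = 2 z, x + y = 2 z'
  choose z hz using hc
  have hxy : x = y + (2:ℤ) • z := by
    funext i
    have := hz i
    simp only [Pi.sub_apply] at this
    simp only [Pi.add_apply, Pi.smul_apply, smul_eq_mul]
    linarith
  set w : Fin 24 → ℤ := y + z with hw
  have hxy' : x + y = (2:ℤ) • w := by
    rw [hxy, hw]; funext i; simp only [Pi.add_apply, Pi.smul_apply, smul_eq_mul]; ring
  -- norms
  have key : ∀ v : Fin 24 → ℤ, v = 0 ∨ 4 ≤ bf B v v := by
    intro v
    by_cases hv : v = 0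
    · left; exact hv
    · right
      have h1 := hpos v hv
      have h3 := heven v
      have h4 := h2 v
      change 0 < bf B v v at h1
      change (2:ℤ) ∣ bf B v v at h3
      change bf B v v ≠ 2 at h4
      omega
  have hx' : bf B x x = 8 := hx
  have hy' : bf B y y = 8 := hy
  have e1 : bf B x x = bf B y y + 4 * bf B y z + 4 * bf B z z := by
    rw [hxy]
    simp only [bf_add_left, bf_add_right, bf_smul_left, bf_smul_right]
    rw [bf_comm B hsymm z y]; ring
  have e2 : bf B x y = bf B y y + 2 * bf B y z := by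
    rw [hxy]
    simp only [bf_add_left, bf_smul_left]
    rw [bf_comm B hsymm z y]
  have e3 : bf B w w = bf B y y + 2 * bf B y z + bf B z z := by
    rw [hw]
    simp only [bf_add_left, bf_add_right]
    rw [bf_comm B hsymm z y]; ring
  rcases key z with hz0 | hz4
  · left
    rw [hxy, hz0]; simp
  rcases key w with hw0 | hw4
  · right; left
    have : x + y = 0 := by rw [hxy', hw0]; simp
    exact eq_neg_of_add_eq_zero_right this
  · right; right
    change bf B x y = 0
    omega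

end Cfsg.Agent.S1587
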