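import Cfsg.Statements.S1588
-- import your own Cfsg.Agent.* helpers here

set_option autoImplicit false
open Matrix
open Cfsg

namespace Cfsg.Agent.S1588

/-- bilinear form attached to `B` -/
def bf (B : Matrix (Fin 24) (Fin 24) ℤ) (x y : Fin 24 → ℤ) : ℤ := x ⬝ᵥ (B *ᵥ y)

theorem bf_add_left (B : Matrix (Fin 24) (Fin 24) ℤ) (x y z : Fin 24 → ℤ) :
    bf B (x + y) z = bf B x z + bf B y z := by
  simp [bf, add_dotProduct]

theorem bf_add_right (B : Matrix (Fin 24) (Fin 24) ℤ) (x y z : Fin 24 → ℤ) :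
    bf B x (y + z) = bf B x y + bf B x z := by
  simp [bf, mulVec_add, dotProduct_add]

theorem bf_smul_left (B : Matrix (Fin 24) (Fin 24) ℤ) (c : ℤ) (x y : Fin 24 → ℤ) :
    bf B (c • x) y = c * bf B x y := by
  unfold bf
  rw [smul_dotProduct, smul_eq_mul]

theorem bf_smul_right (B : Matrix (Fin 24) (Fin 24) ℤ) (c : ℤ) (x y : Fin 24 → ℤ) :
    bf B x (c • y) = c * bf B x y := by
  unfold bf
  rw [mulVec_smul, dotProduct_smul, smul_eq_mul]

theorem bf_comm (B : Matrix (Fin 24) (Fin 24) ℤ) (hsymm : B.IsSymm) (x y : Fin 24 → ℤ) :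
    bf B x y = bf B y x := by
  unfold bf
  rw [dotProduct_mulVec, ← mulVec_transpose, hsymm.eq, dotProduct_comm]

theorem bf_neg_neg (B : Matrix (Fin 24) (Fin 24) ℤ) (x : Fin 24 → ℤ) :
    bf B (-x) (-x) = bf B x x := by
  simp [bf, mulVec_neg]

theorem bf_zero_right (B : Matrix (Fin 24) (Fin 24) ℤ) (x : Fin 24 → ℤ) :
    bf B x 0 = 0 := by
  simp [bf]

theorem bf_sum_right (B : Matrix (Fin 24) (Fin 24) ℤ) {ι : Type*} (s : Finset ι) (x : Fin 24 → ℤ)
    (g : ι → ℤ) (v : ι → Fin 24 → ℤ) :
    bf B x (∑ i ∈ s, g i • v i) = ∑ i ∈ s, g i * bf B x (v i) := by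
  classical
  induction s using Finset.induction_on with
  | empty => simp [bf_zero_right]
  | insert a s ha ih =>
    rw [Finset.sum_insert ha, Finset.sum_insert ha, bf_add_right, bf_smul_right, ih]

/-- reduction modulo 2 -/
def red (x : Fin 24 → ℤ) : Fin 24 → ZMod 2 := fun i => (x i : ZMod 2)

theorem red_eq_iff (x y : Fin 24 → ℤ) : red x = red y ↔ ∀ i, (2 : ℤ) ∣ (x - y) i := by
  constructor
  · intro h i
    have := congrFun h i
    simp only [red] at this
    have h2 := (ZMod.intCast_eq_intCast_iff_dvd_sub (y i) (x i) 2).mp this.symm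
    simpa using h2
  · intro h
    funext i
    simp only [red]
    have := h i
    exact ((ZMod.intCast_eq_intCast_iff_dvd_sub (y i) (x i) 2).mpr (by simpa using this)).symm

theorem red_neg (x : Fin 24 → ℤ) : red (-x) = red x := by
  rw [red_eq_iff]
  intro i
  simp only [Pi.sub_apply, Pi.neg_apply]
  exact ⟨-x i, by ring⟩

section
variable (B : Matrix (Fin 24) (Fin 24) ℤ) (hsymm : B.IsSymm)
  (hpos : ∀ x : Fin 24 → ℤ, x ≠ 0 → 0 < x ⬝ᵥ (B *ᵥ x))
  (heven : ∀ x : Fin 24 → ℤ, (2 : ℤ) ∣ x ⬝ᵥ (B *ᵥ x))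
  (h2 : ∀ x : Fin 24 → ℤ, x ⬝ᵥ (B *ᵥ x) ≠ 2)

include hpos heven h2 in
theorem key (v : Fin 24 → ℤ) : v = 0 ∨ 4 ≤ bf B v v := by
  by_cases hv : v = 0
  · left; exact hv
  · right
    have h1 := hpos v hv
    have h3 := heven v
    have h4 := h2 v
    change 0 < bf B v v at h1
    change (2:ℤ) ∣ bf B v v at h3
    change bf B v v ≠ 2 at h4
    omega

include hsymm hpos heven h2 in
/-- short vectors congruent modulo 2 are equal, opposite, or orthogonal of norm 8 -/
theorem congr_short (u v : Fin 24 → ℤ) (hu : bf B u u ≤ 8) (hv : bf B v v ≤ 8)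
    (hc : red u = red v) :
    v = u ∨ v = -u ∨ (bf B u u = 8 ∧ bf B v v = 8 ∧ bf B u v = 0) := by
  rw [red_eq_iff] at hc
  choose z hz using hc
  have hxy : u = v + (2:ℤ) • z := by
    funext i
    have := hz i
    simp only [Pi.sub_apply] at this
    simp only [Pi.add_apply, Pi.smul_apply, smul_eq_mul]
    linarith
  set w : Fin 24 → ℤ := v + z with hw
  have hxy' : u + v = (2:ℤ) • w := by
    rw [hxy, hw]; funext i; simp only [Pi.add_apply, Pi.smul_apply, smul_eq_mul]; ring
  have e1 : bf B u u = bf B v v + 4 * bf B v z + 4 * bf B z z := by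
    rw [hxy]
    simp only [bf_add_left, bf_add_right, bf_smul_left, bf_smul_right]
    rw [bf_comm B hsymm z v]; ring
  have e2 : bf B u v = bf B v v + 2 * bf B v z := by
    rw [hxy]
    simp only [bf_add_left, bf_smul_left]
    rw [bf_comm B hsymm z v]
  have e3 : bf B w w = bf B v v + 2 * bf B v z + bf B z z := by
    rw [hw]
    simp only [bf_add_left, bf_add_right]
    rw [bf_comm B hsymm z v]; ring
  rcases key B hpos heven h2 z with hz0 | hz4
  · left
    rw [hxy, hz0]; simp
  rcases key B hpos heven h2 w with hw0 | hw4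
  · right; left
    have : u + v = 0 := by rw [hxy', hw0]; simp
    exact eq_neg_of_add_eq_zero_right this
  · right; right
    omega

/-- lexicographic positivity -/
def lexPos (y : Fin 24 → ℤ) : Prop := ∃ i, 0 < y i ∧ ∀ j < i, y j = 0

theorem lexPos_or (y : Fin 24 → ℤ) (hy : y ≠ 0) : lexPos y ∨ lexPos (-y) := by
  classical
  have hne : (Finset.univ.filter fun i => y i ≠ 0).Nonempty := by
    by_contra h
    rw [Finset.not_nonempty_iff_eq_empty] at h
    apply hy
    funext i
    show y i = 0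
    by_contra hi
    have : i ∈ (Finset.univ.filter fun i => y i ≠ 0) := by simp [hi]
    rw [h] at this
    simp at this
  set i := (Finset.univ.filter fun i => y i ≠ 0).min' hne with hi
  have hi_mem := Finset.min'_mem _ hne
  rw [← hi] at hi_mem
  have hyi : y i ≠ 0 := by simpa using hi_mem
  have hlt : ∀ j < i, y j = 0 := by
    intro j hj
    by_contra hyj
    have : j ∈ (Finset.univ.filter fun i => y i ≠ 0) := by simp [hyj]
    have := Finset.min'_le _ j this
    rw [← hi] at this
    exact absurd hj (not_lt.mpr this)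
  rcases lt_or_gt_of_ne hyi with h | h
  · right
    exact ⟨i, by simpa using h, fun j hj => by simp [hlt j hj]⟩
  · left
    exact ⟨i, h, hlt⟩

theorem lexPos_not_both (y : Fin 24 → ℤ) : ¬ (lexPos y ∧ lexPos (-y)) := by
  rintro ⟨⟨i, hi, hi'⟩, ⟨j, hj, hj'⟩⟩
  simp only [Pi.neg_apply] at hj hj'
  rcases lt_trichotomy i j with h | h | h
  · have := hj' i h
    omega
  · subst h
    omega
  · have := hi' j h
    omega

include hpos in
/-- pairwise orthogonal nonzero vectors are at most 24 -/
theorem card_orthogonal_le (R : Finset (Fin 24 → ℤ)) (hne : ∀ v ∈ R, v ≠ 0)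
    (horth : ∀ v ∈ R, ∀ w ∈ R, v ≠ w → bf B v w = 0) : R.card ≤ 24 := by
  classical
  have hli : LinearIndependent ℤ (fun r : R => (r : Fin 24 → ℤ)) := by
    rw [linearIndependent_iff']
    intro s g hsum j hj
    have h1 : bf B (j : Fin 24 → ℤ) (∑ i ∈ s, g i • (i : Fin 24 → ℤ)) = 0 := by
      rw [hsum, bf_zero_right]
    rw [bf_sum_right] at h1
    rw [Finset.sum_eq_single j] at h1
    · have hq : 0 < bf B (j : Fin 24 → ℤ) j := hpos _ (hne _ j.2)
      rcases mul_eq_zero.mp h1 with h | h
      · exact h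
      · omega
    · intro i _ hij
      have : bf B (j : Fin 24 → ℤ) i = 0 := horth _ j.2 _ i.2 (fun h => hij (Subtype.ext h.symm))
      rw [this, mul_zero]
    · intro h; exact absurd hj h
  have := hli.fintype_card_le_finrank
  simpa using this


include hsymm hpos heven h2 in
/-- a congruence class of norm-8 vectors has at most 48 members -/
theorem fiber_le (F : Finset (Fin 24 → ℤ)) (hF8 : ∀ y ∈ F, bf B y y = 8)
    (hFc : ∀ y ∈ F, ∀ y' ∈ F, red y = red y') : F.card ≤ 48 := by
  classical
  have hne : ∀ y ∈ F, y ≠ 0 := by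
    intro y hy h0
    have := hF8 y hy
    rw [h0, bf_zero_right] at this
    omega
  have h1 : (F.filter lexPos).card ≤ 24 := by
    apply card_orthogonal_le B hpos
    · intro v hv; exact hne v (Finset.mem_filter.mp hv).1
    · intro v hv w hw hvw
      rw [Finset.mem_filter] at hv hw
      rcases congr_short B hsymm hpos heven h2 v w (hF8 v hv.1).le (hF8 w hw.1).le
        (hFc v hv.1 w hw.1) with h | h | h
      · exact absurd h.symm hvw
      · exfalso
        rw [h] at hw
        exact lexPos_not_both v ⟨hv.2, hw.2⟩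
      · exact h.2.2
  have h2' : (F.filter fun y => ¬ lexPos y).card ≤ 24 := by
    apply card_orthogonal_le B hpos
    · intro v hv; exact hne v (Finset.mem_filter.mp hv).1
    · intro v hv w hw hvw
      rw [Finset.mem_filter] at hv hw
      rcases congr_short B hsymm hpos heven h2 v w (hF8 v hv.1).le (hF8 w hw.1).le
        (hFc v hv.1 w hw.1) with h | h | h
      · exact absurd h.symm hvw
      · exfalso
        rcases lexPos_or v (hne v hv.1) with h' | h'
        · exact hv.2 h'
        · rw [← h] at h'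
          exact hw.2 h'
      · exact h.2.2
  have := Finset.card_filter_add_card_filter_not (s := F) lexPos
  omega

include hsymm hpos heven h2 in
/-- reduction modulo 2 is exactly two-to-one on vectors of a norm strictly between 0 and 8 -/
theorem two_to_one (k : ℤ) (hk0 : 0 < k) (hk8 : k < 8) (F : Finset (Fin 24 → ℤ))
    (hF : ∀ y, y ∈ F ↔ bf B y y = k) : F.card = 2 * (F.image red).card := by
  classical
  rw [Finset.card_eq_sum_card_image red F]
  rw [Finset.sum_const_nat (m := 2), mul_comm]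
  intro b hb
  rw [Finset.mem_image] at hb
  obtain ⟨v, hv, rfl⟩ := hb
  have hvk := (hF v).mp hv
  have hv0 : v ≠ 0 := by
    intro h0
    rw [h0, bf_zero_right] at hvk
    omega
  have hvne : v ≠ -v := by
    intro h
    apply hv0
    funext i
    have := congrFun h i
    simp only [Pi.neg_apply] at this
    show v i = 0
    omega
  have hfib : F.filter (fun y => red y = red v) = {v, -v} := by
    ext y
    simp only [Finset.mem_filter, Finset.mem_insert, Finset.mem_singleton]
    constructor
    · rintro ⟨hy, hr⟩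
      have hyk := (hF y).mp hy
      rcases congr_short B hsymm hpos heven h2 v y (by omega) (by omega) hr.symm with h | h | h
      · left; exact h
      · right; exact h
      · omega
    · rintro (h | h)
      · subst h; exact ⟨hv, rfl⟩
      · subst h
        exact ⟨(hF _).mpr (by rw [bf_neg_neg]; exact hvk), red_neg v⟩
  rw [hfib, Finset.card_pair hvne]

end

/-- Second step of the characterisation: under the vector counts of the rank-24 lattice, the norm-8 vectors fall into congruence classes of exactly 48 modulo twice the lattice. -/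
theorem result (B : Matrix (Fin 24) (Fin 24) ℤ) (hsymm : B.IsSymm) (hpos : ∀ x : Fin 24 → ℤ, x ≠ 0 → 0 < x ⬝ᵥ (B *ᵥ x)) (heven : ∀ x : Fin 24 → ℤ, (2 : ℤ) ∣ x ⬝ᵥ (B *ᵥ x)) (h2 : ∀ x : Fin 24 → ℤ, x ⬝ᵥ (B *ᵥ x) ≠ 2) (h4 : {x : Fin 24 → ℤ | x ⬝ᵥ (B *ᵥ x) = 4}.ncard = 196560) (h6 : {x : Fin 24 → ℤ | x ⬝ᵥ (B *ᵥ x) = 6}.ncard = 16773120) (h8 : {x : Fin 24 → ℤ | x ⬝ᵥ (B *ᵥ x) = 8}.ncard = 398034000) (x : Fin 24 → ℤ) (hx : x ⬝ᵥ (B *ᵥ x) = 8) : {y : Fin 24 → ℤ | y ⬝ᵥ (B *ᵥ y) = 8 ∧ ∀ i, (2 : ℤ) ∣ (x - y) i}.ncard = 48 := by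
  classical
  have hfin4 : {x : Fin 24 → ℤ | x ⬝ᵥ (B *ᵥ x) = 4}.Finite :=
    Set.finite_of_ncard_ne_zero (by rw [h4]; norm_num)
  have hfin6 : {x : Fin 24 → ℤ | x ⬝ᵥ (B *ᵥ x) = 6}.Finite :=
    Set.finite_of_ncard_ne_zero (by rw [h6]; norm_num)
  have hfin8 : {x : Fin 24 → ℤ | x ⬝ᵥ (B *ᵥ x) = 8}.Finite :=
    Set.finite_of_ncard_ne_zero (by rw [h8]; norm_num)
  set F4 := hfin4.toFinset with hF4
  set F6 := hfin6.toFinset with hF6
  set F8 := hfin8.toFinset with hF8
  have m4 : ∀ y, y ∈ F4 ↔ bf B y y = 4 := fun y => by rw [hF4, Set.Finite.mem_toFinset]; rfl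
  have m6 : ∀ y, y ∈ F6 ↔ bf B y y = 6 := fun y => by rw [hF6, Set.Finite.mem_toFinset]; rfl
  have m8 : ∀ y, y ∈ F8 ↔ bf B y y = 8 := fun y => by rw [hF8, Set.Finite.mem_toFinset]; rfl
  have c4 : F4.card = 196560 := by rw [← h4, Set.ncard_eq_toFinset_card _ hfin4]
  have c6 : F6.card = 16773120 := by rw [← h6, Set.ncard_eq_toFinset_card _ hfin6]
  have c8 : F8.card = 398034000 := by rw [← h8, Set.ncard_eq_toFinset_card _ hfin8]
  have t4 := two_to_one B hsymm hpos heven h2 4 (by norm_num) (by norm_num) F4 m4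
  have t6 := two_to_one B hsymm hpos heven h2 6 (by norm_num) (by norm_num) F6 m6
  -- disjointness of the images
  have disj : ∀ (k l : ℤ) (Fk Fl : Finset (Fin 24 → ℤ)), (∀ y, y ∈ Fk ↔ bf B y y = k) →
      (∀ y, y ∈ Fl ↔ bf B y y = l) → k ≤ 8 → l ≤ 8 → k ≠ l →
      Disjoint (Fk.image red) (Fl.image red) := by
    intro k l Fk Fl mk ml hk hl hkl
    rw [Finset.disjoint_left]
    intro b hb hb'
    rw [Finset.mem_image] at hb hb'
    obtain ⟨u, hu, rfl⟩ := hb
    obtain ⟨v, hv, hvu⟩ := hb'
    have hu' := (mk u).mp hu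
    have hv' := (ml v).mp hv
    rcases congr_short B hsymm hpos heven h2 u v (by omega) (by omega) hvu.symm with h | h | h
    · rw [h] at hv'; omega
    · rw [h, bf_neg_neg] at hv'; omega
    · omega
  have d46 := disj 4 6 F4 F6 m4 m6 (by norm_num) (by norm_num) (by norm_num)
  have d48 := disj 4 8 F4 F8 m4 m8 (by norm_num) (by norm_num) (by norm_num)
  have d68 := disj 6 8 F6 F8 m6 m8 (by norm_num) (by norm_num) (by norm_num)
  have m0 : ∀ y, y ∈ ({0} : Finset (Fin 24 → ℤ)) ↔ bf B y y = 0 := by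
    intro y
    rw [Finset.mem_singleton]
    constructor
    · intro h; rw [h, bf_zero_right]
    · intro h
      by_contra hy
      have := hpos y hy
      change 0 < bf B y y at this
      omega
  have d04 := disj 0 4 {0} F4 m0 m4 (by norm_num) (by norm_num) (by norm_num)
  have d06 := disj 0 6 {0} F6 m0 m6 (by norm_num) (by norm_num) (by norm_num)
  have d08 := disj 0 8 {0} F8 m0 m8 (by norm_num) (by norm_num) (by norm_num)
  -- total count of classes
  have hunion : (({0} : Finset (Fin 24 → ℤ)).image red ∪ F4.image red ∪ F6.image red ∪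
      F8.image red).card ≤ 2 ^ 24 := by
    have := Finset.card_le_univ (({0} : Finset (Fin 24 → ℤ)).image red ∪ F4.image red ∪
      F6.image red ∪ F8.image red)
    simpa [Fintype.card_fun, ZMod.card] using this
  rw [Finset.card_union_of_disjoint, Finset.card_union_of_disjoint,
    Finset.card_union_of_disjoint d04] at hunion
  rotate_left
  · rw [Finset.disjoint_union_left]; exact ⟨d06, d46⟩
  · rw [Finset.disjoint_union_left, Finset.disjoint_union_left]; exact ⟨⟨d08, d48⟩, d68⟩
  have c0 : (({0} : Finset (Fin 24 → ℤ)).image red).card = 1 := by simp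
  have hI8 : (F8.image red).card ≤ 8292375 := by
    norm_num at hunion
    omega
  -- fibers
  have hfib_le : ∀ b ∈ F8.image red, (F8.filter fun y => red y = b).card ≤ 48 := by
    intro b _
    apply fiber_le B hsymm hpos heven h2
    · intro y hy; exact (m8 y).mp (Finset.mem_filter.mp hy).1
    · intro y hy y' hy'
      rw [(Finset.mem_filter.mp hy).2, (Finset.mem_filter.mp hy').2]
  have hsum := Finset.card_eq_sum_card_image red F8
  have hxF : x ∈ F8 := (m8 x).mpr hx
  have hxI : red x ∈ F8.image red := Finset.mem_image_of_mem red hxF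
  have hmain : (F8.filter fun y => red y = red x).card = 48 := by
    by_contra hne
    have hlt : (F8.filter fun y => red y = red x).card ≤ 47 := by
      have := hfib_le _ hxI
      omega
    rw [← Finset.add_sum_erase _ _ hxI] at hsum
    have hrest : ∑ b ∈ (F8.image red).erase (red x), (F8.filter fun y => red y = b).card ≤
        ((F8.image red).erase (red x)).card * 48 := by
      apply Finset.sum_le_card_nsmul
      intro b hb
      exact hfib_le b (Finset.mem_of_mem_erase hb)
    rw [Finset.card_erase_of_mem hxI] at hrest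
    have hpos' : 0 < (F8.image red).card := Finset.card_pos.mpr ⟨_, hxI⟩
    omega
  have hset : {y : Fin 24 → ℤ | y ⬝ᵥ (B *ᵥ y) = 8 ∧ ∀ i, (2 : ℤ) ∣ (x - y) i} =
      ((F8.filter fun y => red y = red x) : Finset (Fin 24 → ℤ)) := by
    ext y
    simp only [Set.mem_ofPred_eq, Finset.coe_filter]
    rw [m8 y, red_eq_iff y x]
    constructor
    · rintro ⟨h1, h2'⟩
      refine ⟨h1, fun i => ?_⟩
      have := h2' i
      simp only [Pi.sub_apply] at this ⊢
      have e : y i - x i = -(x i - y i) := by ring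
      rw [e]; exact (dvd_neg).mpr this
    · rintro ⟨h1, h2'⟩
      refine ⟨h1, fun i => ?_⟩
      have := h2' i
      simp only [Pi.sub_apply] at this ⊢
      have e : x i - y i = -(y i - x i) := by ring
      rw [e]; exact (dvd_neg).mpr this
  rw [hset, Set.ncard_coe_finset, hmain]

end Cfsg.Agent.S1588
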