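import Cfsg.Statements.S1591
import Cfsg.Agent.Lib.Helper27.TernaryGolay
-- import your own Cfsg.Agent.* helpers here

set_option autoImplicit false
open Cfsg

namespace Cfsg.Agent.S1591

open Cfsg.Agent.Lib.Helper27

theorem sum_arraypt (f : ArrayPt → ZMod 3) : ∑ p, f p =
    f (0,0) + f (0,1) + f (0,2) + (f (1,0) + f (1,1) + f (1,2)) + (f (2,0) + f (2,1) + f (2,2)) +
      (f (3,0) + f (3,1) + f (3,2)) := by
  rw [Fintype.sum_prod_type, Fin.sum_univ_four]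
  simp only [sum_zmod3]

theorem orth (c d : P6) : ∑ p, tgGen c p * tgGen d p = 0 := by
  rcases c with ⟨c0, c1, c2, c3, c4, c5⟩
  rcases d with ⟨d0, d1, d2, d3, d4, d5⟩
  rw [sum_arraypt]
  show (c0) * (d0) + (c1) * (d1) + (c2) * (d2) + ((c3) * (d3) + (c4) * (d4) + (c0 + c1 + c2 - c3 - c4) * (d0 + d1 + d2 - d3 - d4)) + ((c5) * (d5) + (-c1 + c2 - c3 + c4 + c5) * (-d1 + d2 - d3 + d4 + d5) + (c0 - c1 + c3 - c4 + c5) * (d0 - d1 + d3 - d4 + d5)) + ((c0 - c1 - c2 - c3 - c5) * (d0 - d1 - d2 - d3 - d5) + (c0 + c2 + c3 + c4 - c5) * (d0 + d2 + d3 + d4 - d5) + (-c0 - c1 + c2 - c4 - c5) * (-d0 - d1 + d2 - d4 - d5)) = 0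
  have h3 := h3
  linear_combination ((2) * c0 * d0 + (2) * c1 * d1 + (2) * c2 * d2 + (2) * c3 * d3 + (2) * c4 * d4 + (2) * c5 * d5) * h3

/-- Any two words of the length-12 ternary code have dot product zero. -/
theorem result (x y : Cfsg.ArrayPt → ZMod 3) (hx : x ∈ Cfsg.ternaryGolayCode) (hy : y ∈ Cfsg.ternaryGolayCode) : ∑ p, x p * y p = 0 := by
  obtain ⟨c, rfl⟩ := (mem_tg_iff_exists x).mp hx
  obtain ⟨d, rfl⟩ := (mem_tg_iff_exists y).mp hy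
  exact orth c d

end Cfsg.Agent.S1591
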