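import Cfsg.Statements.S1593
import Cfsg.Agent.Lib.Helper27.TernaryHexads
-- import your own Cfsg.Agent.* helpers here

set_option autoImplicit false
open Cfsg

namespace Cfsg.Agent.S1593

open Cfsg.Agent.Lib.Helper27

theorem units_cases : ∀ u : (ZMod 3)ˣ, u = 1 ∨ u = -1 := by decide

/-- any two positions lie in a common hexad -/
theorem exists_hexad (p q : ArrayPt) : ∃ b ∈ hexF, p ∈ b ∧ q ∈ b := by
  classical
  have h1 : ({p, q} : Finset ArrayPt).card ≤ 5 := by
    have := Finset.card_le_two (a := p) (b := q)
    omega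
  have h2 : 5 ≤ Fintype.card ArrayPt := by rw [card_arraypt]; norm_num
  obtain ⟨t, hst, ht⟩ := Finset.exists_superset_card_eq h1 h2
  obtain ⟨b, hb, htb⟩ := hexF_cover t ht
  refine ⟨b, hb, htb (hst (by simp)), htb (hst (by simp))⟩

theorem support_monomial (c : ArrayPt → (ZMod 3)ˣ) (x : ArrayPt → ZMod 3) :
    ternarySupport (monomialMap 1 c x) = ternarySupport x := by
  ext a
  have : (Equiv.symm (1 : Equiv.Perm ArrayPt)) a = a := rfl
  simp [ternarySupport, monomialMap, this]

/-- on a hexad, a sign change preserving the code is constant -/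
theorem const_on_hexad (c : ArrayPt → (ZMod 3)ˣ)
    (h : ∀ x ∈ ternaryGolayCode, monomialMap 1 c x ∈ ternaryGolayCode)
    (b : Finset ArrayPt) (hb : b ∈ hexF) (p q : ArrayPt) (hp : p ∈ b) (hq : q ∈ b) :
    c p = c q := by
  obtain ⟨x, hx, hxb, h6⟩ := hexF_mem_iff.mp hb
  rw [← hxb] at h6 hp hq
  have hy := h x hx
  have hs := support_monomial c x
  have hxp : x p ≠ 0 := by simpa [ternarySupport] using hp
  have hxq : x q ≠ 0 := by simpa [ternarySupport] using hq
  have key : ∀ a : ArrayPt, monomialMap 1 c x a = (c a : ZMod 3) * x a := fun a => by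
    have : (Equiv.symm (1 : Equiv.Perm ArrayPt)) a = a := rfl
    simp [monomialMap, this]
  rcases tg_same_support x (monomialMap 1 c x) hx hy h6 hs.symm with heq | heq
  · have e1 : (c p : ZMod 3) * x p = x p := by rw [← key, heq]
    have e2 : (c q : ZMod 3) * x q = x q := by rw [← key, heq]
    have f1 : (c p : ZMod 3) = 1 := by
      have : ((c p : ZMod 3) - 1) * x p = 0 := by rw [sub_mul, e1, one_mul, sub_self]
      rcases mul_eq_zero.mp this with h0 | h0
      · exact sub_eq_zero.mp h0
      · exact absurd h0 hxp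
    have f2 : (c q : ZMod 3) = 1 := by
      have : ((c q : ZMod 3) - 1) * x q = 0 := by rw [sub_mul, e2, one_mul, sub_self]
      rcases mul_eq_zero.mp this with h0 | h0
      · exact sub_eq_zero.mp h0
      · exact absurd h0 hxq
    exact Units.ext (by rw [f1, f2])
  · have e1 : (c p : ZMod 3) * x p = -x p := by rw [← key, heq]; rfl
    have e2 : (c q : ZMod 3) * x q = -x q := by rw [← key, heq]; rfl
    have f1 : (c p : ZMod 3) = -1 := by
      have : ((c p : ZMod 3) + 1) * x p = 0 := by rw [add_mul, e1, one_mul, neg_add_cancel]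
      rcases mul_eq_zero.mp this with h0 | h0
      · exact eq_neg_of_add_eq_zero_left h0
      · exact absurd h0 hxp
    have f2 : (c q : ZMod 3) = -1 := by
      have : ((c q : ZMod 3) + 1) * x q = 0 := by rw [add_mul, e2, one_mul, neg_add_cancel]
      rcases mul_eq_zero.mp this with h0 | h0
      · exact eq_neg_of_add_eq_zero_left h0
      · exact absurd h0 hxq
    exact Units.ext (by rw [f1, f2])

/-- The only sign changes preserving the length-12 ternary code are the identity and negation of all coordinates. -/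
theorem result (c : Cfsg.ArrayPt → (ZMod 3)ˣ) (h : (∀ x ∈ Cfsg.ternaryGolayCode, Cfsg.monomialMap 1 c x ∈ Cfsg.ternaryGolayCode)) : (∀ p, c p = 1) ∨ (∀ p, c p = -1) := by
  have hconst : ∀ p q : ArrayPt, c p = c q := by
    intro p q
    obtain ⟨b, hb, hp, hq⟩ := exists_hexad p q
    exact const_on_hexad c h b hb p q hp hq
  rcases units_cases (c (0, 0)) with h0 | h0
  · left; intro p; rw [hconst p (0, 0), h0]
  · right; intro p; rw [hconst p (0, 0), h0]

end Cfsg.Agent.S1593
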