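import Cfsg.Statements.S1595
import Cfsg.Agent.Lib.Helper6.SteinerExact

set_option autoImplicit false
open Cfsg

namespace Cfsg.Agent.S1595

open Cfsg.Agent.Lib.Helper6 Finset

/-- One step of the Leech-triangle computation. -/
theorem exact_step {α : Type*} [Fintype α] [DecidableEq α] (B : Set (Finset α))
    {b s : Finset α} (hs : s ⊆ b) (N : ℕ → ℕ)
    (hN : ∀ t, s ⊆ t → t ⊆ b → t ≠ s → (exactBlocks B b t).card = N t.card) :
    (blocksThrough B s).card =
      ∑ j ∈ Finset.range ((b \ s).card + 1), (b \ s).card.choose j *
        (if j = 0 then (exactBlocks B b s).card else N (s.card + j)) := by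
  rw [card_blocksThrough_eq_sum_exact B hs,
    sum_between_eq b s hs (fun t => (exactBlocks B b t).card)
      (fun j => if j = s.card then (exactBlocks B b s).card else N j)]
  · apply Finset.sum_congr rfl
    intro j _
    congr 1
    by_cases hj : j = 0
    · simp [hj]
    · have : s.card + j ≠ s.card := by omega
      simp [hj, this]
  · intro t hst htb
    by_cases hts : t = s
    · simp [hts]
    · have hlt : s.card < t.card := Finset.card_lt_card (lt_of_le_of_ne hst (Ne.symm hts))
      have : t.card ≠ s.card := by omega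
      simp only [this, if_false]
      exact hN t hst htb hts

/-- Leech triangle of S(5, 6, 12): blocks meet in 0, 2, 3 or 4 points, and a block is met exactly in a given 2-, 3- or 4-subset by 3, 2, 3 blocks respectively. -/
theorem result {α : Type*} [Fintype α] [DecidableEq α] (hα : Fintype.card α = 12) {B : Set (Finset α)} (hB : Cfsg.IsSteinerSystem 5 6 B) (b : Finset α) (hb : b ∈ B) : (∀ c ∈ B, c ≠ b → (b ∩ c).card = 0 ∨ (b ∩ c).card = 2 ∨ (b ∩ c).card = 3 ∨ (b ∩ c).card = 4) ∧ ∀ s ⊆ b, (s.card = 2 → {c : Finset α | c ∈ B ∧ b ∩ c = s}.ncard = 3) ∧ (s.card = 3 → {c : Finset α | c ∈ B ∧ b ∩ c = s}.ncard = 2) ∧ (s.card = 4 → {c : Finset α | c ∈ B ∧ b ∩ c = s}.ncard = 3) := by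
  have hb6 : b.card = 6 := hB.1 b hb
  -- the numbers λ_j
  have hlam : ∀ J : Finset α, J.card ≤ 5 → (blocksThrough B J).card * (6 - J.card).choose (5 - J.card) =
      (12 - J.card).choose (5 - J.card) := by
    intro J hJ
    have := card_blocksThrough_mul hB J hJ
    rwa [hα] at this
  have hsd : ∀ s : Finset α, s ⊆ b → (b \ s).card = 6 - s.card := by
    intro s hs
    rw [Finset.card_sdiff_of_subset hs, hb6]
  -- n_6 = 1
  have h6 : ∀ t : Finset α, t ⊆ b → t.card = 6 → (exactBlocks B b t).card = 1 := by
    intro t htb ht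
    have htb' : t = b := Finset.eq_of_subset_of_card_le htb (by rw [hb6, ht])
    subst htb'
    rw [Finset.card_eq_one]
    refine ⟨t, ?_⟩
    ext c
    rw [mem_exactBlocks, Finset.mem_singleton]
    constructor
    · rintro ⟨hc, hbc⟩
      have hsub : t ⊆ c := by rw [← hbc]; exact Finset.inter_subset_right
      exact (Finset.eq_of_subset_of_card_le hsub (by rw [hB.1 c hc, ht])).symm
    · rintro rfl
      exact ⟨hb, Finset.inter_self _⟩
  -- n_5 = 0
  have h5 : ∀ t : Finset α, t ⊆ b → t.card = 5 → (exactBlocks B b t).card = 0 := by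
    intro t _ ht
    rw [Finset.card_eq_zero, Finset.eq_empty_iff_forall_notMem]
    intro c hc
    rw [mem_exactBlocks] at hc
    by_cases hcb : b = c
    · subst hcb
      rw [Finset.inter_self] at hc
      rw [← hc.2, hb6] at ht
      omega
    · have := card_inter_lt hB hb hc.1 hcb
      rw [hc.2, ht] at this
      omega
  -- n_4 = 3
  have h4 : ∀ t : Finset α, t ⊆ b → t.card = 4 → (exactBlocks B b t).card = 3 := by
    intro s hs hs4
    have hl := hlam s (by omega)
    have hstep := exact_step B hs (fun j => if j = 5 then 0 else 1) (by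
      intro t hst htb hts
      have hlt : s.card < t.card :=
        Finset.card_lt_card (lt_of_le_of_ne hst (Ne.symm hts))
      have hle : t.card ≤ 6 := hb6 ▸ Finset.card_le_card htb
      have : t.card = 5 ∨ t.card = 6 := by omega
      rcases this with h | h
      · simp [h, h5 t htb h]
      · simp [h, h6 t htb h])
    rw [hsd s hs, hs4] at hstep
    rw [hs4] at hl
    norm_num [Finset.sum_range_succ, Nat.choose] at hstep hl
    omega
  -- n_3 = 2
  have h3 : ∀ t : Finset α, t ⊆ b → t.card = 3 → (exactBlocks B b t).card = 2 := by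
    intro s hs hs3
    have hl := hlam s (by omega)
    have hstep := exact_step B hs (fun j => if j = 4 then 3 else if j = 5 then 0 else 1) (by
      intro t hst htb hts
      have hlt : s.card < t.card :=
        Finset.card_lt_card (lt_of_le_of_ne hst (Ne.symm hts))
      have hle : t.card ≤ 6 := hb6 ▸ Finset.card_le_card htb
      have : t.card = 4 ∨ t.card = 5 ∨ t.card = 6 := by omega
      rcases this with h | h | h
      · simp [h, h4 t htb h]
      · simp [h, h5 t htb h]
      · simp [h, h6 t htb h])
    rw [hsd s hs, hs3] at hstep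
    rw [hs3] at hl
    norm_num [Finset.sum_range_succ, Nat.choose] at hstep hl
    omega
  -- n_2 = 3
  have h2 : ∀ t : Finset α, t ⊆ b → t.card = 2 → (exactBlocks B b t).card = 3 := by
    intro s hs hs2
    have hl := hlam s (by omega)
    have hstep := exact_step B hs
      (fun j => if j = 3 then 2 else if j = 4 then 3 else if j = 5 then 0 else 1) (by
      intro t hst htb hts
      have hlt : s.card < t.card :=
        Finset.card_lt_card (lt_of_le_of_ne hst (Ne.symm hts))
      have hle : t.card ≤ 6 := hb6 ▸ Finset.card_le_card htb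
      have : t.card = 3 ∨ t.card = 4 ∨ t.card = 5 ∨ t.card = 6 := by omega
      rcases this with h | h | h | h
      · simp [h, h3 t htb h]
      · simp [h, h4 t htb h]
      · simp [h, h5 t htb h]
      · simp [h, h6 t htb h])
    rw [hsd s hs, hs2] at hstep
    rw [hs2] at hl
    norm_num [Finset.sum_range_succ, Nat.choose] at hstep hl
    omega
  -- n_1 = 0
  have h1 : ∀ t : Finset α, t ⊆ b → t.card = 1 → (exactBlocks B b t).card = 0 := by
    intro s hs hs1
    have hl := hlam s (by omega)
    have hstep := exact_step B hs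
      (fun j => if j = 2 then 3 else if j = 3 then 2 else if j = 4 then 3 else if j = 5 then 0 else 1) (by
      intro t hst htb hts
      have hlt : s.card < t.card :=
        Finset.card_lt_card (lt_of_le_of_ne hst (Ne.symm hts))
      have hle : t.card ≤ 6 := hb6 ▸ Finset.card_le_card htb
      have : t.card = 2 ∨ t.card = 3 ∨ t.card = 4 ∨ t.card = 5 ∨ t.card = 6 := by omega
      rcases this with h | h | h | h | h
      · simp [h, h2 t htb h]
      · simp [h, h3 t htb h]
      · simp [h, h4 t htb h]
      · simp [h, h5 t htb h]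
      · simp [h, h6 t htb h])
    rw [hsd s hs, hs1] at hstep
    rw [hs1] at hl
    norm_num [Finset.sum_range_succ, Nat.choose] at hstep hl
    omega
  refine ⟨?_, ?_⟩
  · intro c hc hcb
    have hlt := card_inter_lt hB hb hc (Ne.symm hcb)
    have hmem : c ∈ exactBlocks B b (b ∩ c) := mem_exactBlocks.mpr ⟨hc, rfl⟩
    have hne1 : (b ∩ c).card ≠ 1 := by
      intro h
      have := h1 (b ∩ c) Finset.inter_subset_left h
      rw [Finset.card_eq_zero] at this
      rw [this] at hmem
      exact Finset.notMem_empty _ hmem
    omega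
  · intro s hs
    refine ⟨fun h => ?_, fun h => ?_, fun h => ?_⟩
    · rw [ncard_exact_eq, h2 s hs h]
    · rw [ncard_exact_eq, h3 s hs h]
    · rw [ncard_exact_eq, h4 s hs h]

end Cfsg.Agent.S1595
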