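import Cfsg.Statements.S1598
import Cfsg.Agent.Lib.Helper45.QuartetStab3

-- import your own Cfsg.Agent.* helpers here

set_option autoImplicit false
open scoped Pointwise
open Cfsg

namespace Cfsg.Agent.S1598


open Cfsg.Agent.Lib.Helper7 Cfsg.Agent.Lib.Helper45.QuartetStab

/-- A quartet stabiliser inside the dodecad stabiliser has order 432, a normal subgroup of order 9 with quotient GL(2, 3), and is transitive on the dodecad. -/
theorem result (d : Finset Cfsg.GolayPt) (hd : d ∈ Cfsg.dodecads) (Q : Finset (Finset Cfsg.GolayPt)) (hQ : Q ∈ Cfsg.quartets d) : Nat.card ↥(MulAction.stabilizer Cfsg.M24 d ⊓ MulAction.stabilizer Cfsg.M24 Q) = 432 ∧ (∃ (N : Subgroup ↥(MulAction.stabilizer Cfsg.M24 d ⊓ MulAction.stabilizer Cfsg.M24 Q)) (_ : N.Normal), Nat.card N = 9 ∧ Nonempty (↥(MulAction.stabilizer Cfsg.M24 d ⊓ MulAction.stabilizer Cfsg.M24 Q) ⧸ N ≃* GL (Fin 2) (ZMod 3))) ∧ ∀ p ∈ d, ∀ q ∈ d, ∃ g ∈ (MulAction.stabilizer Cfsg.M24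 d ⊓ MulAction.stabilizer Cfsg.M24 Q), ((g : ↥Cfsg.M24) : Equiv.Perm Cfsg.GolayPt) p = q := by

  have hK : (MulAction.stabilizer Cfsg.M24 d ⊓ MulAction.stabilizer Cfsg.M24 Q) =
      (KP d Q).subgroupOf Cfsg.M24 := by
    ext g
    rw [Subgroup.mem_inf, MulAction.mem_stabilizer_iff, MulAction.mem_stabilizer_iff,
      Subgroup.mem_subgroupOf, mem_KP]
    constructor
    · rintro ⟨h1, h2⟩; exact ⟨g.2, h1, h2⟩
    · rintro ⟨_, h1, h2⟩; exact ⟨h1, h2⟩
  rw [hK]
  have hle : KP d Q ≤ Cfsg.M24 := fun g hg => (mem_KP.mp hg).1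
  let ι : ↥((KP d Q).subgroupOf Cfsg.M24) ≃* ↥(KP d Q) := Subgroup.subgroupOfEquivOfLe hle
  refine ⟨?_, ?_, ?_⟩
  · rw [Nat.card_congr ι.toEquiv, card_KP hd hQ]
  · obtain ⟨N, hNn, hNc, ⟨e⟩⟩ := exists_normal_KP hd hQ
    have hN'n : (N.comap ι.toMonoidHom).Normal := hNn.comap _
    refine ⟨N.comap ι.toMonoidHom, hN'n, ?_, ⟨?_⟩⟩
    · have hmap : N.comap ι.toMonoidHom = N.map ι.symm.toMonoidHom := by
        ext x
        rw [Subgroup.mem_comap, Subgroup.mem_map]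
        constructor
        · intro hx
          exact ⟨ι x, hx, ι.symm_apply_apply x⟩
        · rintro ⟨y, hy, rfl⟩
          show ι (ι.symm y) ∈ N
          rw [ι.apply_symm_apply]
          exact hy
      rw [hmap, Subgroup.card_map_of_injective ι.symm.injective, hNc]
    · have hmap : (N.comap ι.toMonoidHom).map (ι : ↥((KP d Q).subgroupOf Cfsg.M24) →* ↥(KP d Q)) = N :=
        Subgroup.map_comap_eq_self_of_surjective ι.surjective N
      exact (QuotientGroup.congr (N.comap ι.toMonoidHom) N ι hmap).trans e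
  · intro p hp q hq
    obtain ⟨g, hg, hgp⟩ := exists_KP_map_point hd hQ hp hq
    exact ⟨⟨g, hle hg⟩, Subgroup.mem_subgroupOf.mpr hg, hgp⟩

end Cfsg.Agent.S1598
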