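import Cfsg.Statements.S1599
import Cfsg.Agent.Lib.Helper27.QuartetOrbits
-- import your own Cfsg.Agent.* helpers here

set_option autoImplicit false
open scoped Pointwise
open Cfsg

namespace Cfsg.Agent.S1599

open Cfsg.Agent.Lib.Helper27 Cfsg.Agent.Lib.Helper7

/-- the orbit of a quartet under the joint stabilizer is the class of its invariant -/
theorem orbit_eq_class {d : Finset GolayPt} (hd : d ∈ dodecads) {Q : Finset (Finset GolayPt)}
    (hQ : Q ∈ quartets d) {X : Finset (Finset GolayPt)} (hX : X ∈ quartets d) :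
    MulAction.orbit ↥(MulAction.stabilizer M24 d ⊓ MulAction.stabilizer M24 Q) X =
      {Y : Finset (Finset GolayPt) | Y ∈ quartets d ∧ invF Q Y = invF Q X} := by
  ext Y
  constructor
  · rintro ⟨g, rfl⟩
    have hg := g.2
    rw [Subgroup.mem_inf, MulAction.mem_stabilizer_iff, MulAction.mem_stabilizer_iff] at hg
    obtain ⟨hgd, hgQ⟩ := hg
    have hσ : ((g : ↥M24) : Equiv.Perm GolayPt) ∈ M24 := (g : ↥M24).2
    have hgd' : ((g : ↥M24) : Equiv.Perm GolayPt) • d = d := hgd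
    have hgQ' : ((g : ↥M24) : Equiv.Perm GolayPt) • Q = Q := hgQ
    change ((g : ↥M24) : Equiv.Perm GolayPt) • X ∈ quartets d ∧
      invF Q (((g : ↥M24) : Equiv.Perm GolayPt) • X) = invF Q X
    constructor
    · have := (smul_mem_quartets_iff hσ (d := d) (Q := X)).2 hX
      rwa [hgd'] at this
    · have := invF_smul ((g : ↥M24) : Equiv.Perm GolayPt) Q X
      rwa [hgQ'] at this
  · rintro ⟨hY, hinv⟩
    obtain ⟨σ, hσ, hσd, hσQ, hσX⟩ := quartet_conj hd hQ hX hY hinv.symm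
    refine ⟨⟨⟨σ, hσ⟩, ?_⟩, hσX⟩
    rw [Subgroup.mem_inf, MulAction.mem_stabilizer_iff, MulAction.mem_stabilizer_iff]
    exact ⟨hσd, hσQ⟩

theorem exists_class_rep {d : Finset GolayPt} (hd : d ∈ dodecads) {Q : Finset (Finset GolayPt)}
    (hQ : Q ∈ quartets d) (v n : ℕ) (hn : 0 < n)
    (hcount : (quartetL.filter fun q => invC q0 q == v).length = n) :
    ∃ X ∈ quartets d, invF Q X = v ∧
      (MulAction.orbit ↥(MulAction.stabilizer M24 d ⊓ MulAction.stabilizer M24 Q) X).ncard = n := by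
  have hcard := quartet_class_ncard hd hQ v
  rw [hcount] at hcard
  have hne : {X : Finset (Finset GolayPt) | X ∈ quartets d ∧ invF Q X = v}.Nonempty := by
    apply Set.nonempty_of_ncard_ne_zero
    rw [hcard]
    exact hn.ne'
  obtain ⟨X, hX, hXv⟩ := hne
  refine ⟨X, hX, hXv, ?_⟩
  rw [orbit_eq_class hd hQ hX, hXv, hcard]


/-- A quartet stabiliser has five orbits on the quartets of its dodecad, of sizes 1, 12, 27, 72, 108. -/
theorem result (d : Finset Cfsg.GolayPt) (hd : d ∈ Cfsg.dodecads) (Q : Finset (Finset Cfsg.GolayPt)) (hQ : Q ∈ Cfsg.quartets d) : ∃ X₁ ∈ Cfsg.quartets d, ∃ X₂ ∈ Cfsg.quartets d, ∃ X₃ ∈ Cfsg.quartets d, ∃ X₄ ∈ Cfsg.quartets d, (MulAction.orbit ↥(MulAction.stabilizer Cfsg.M24 d ⊓ MulAction.stabilizer Cfsg.M24 Q) X₁).ncard = 12 ∧ (MulAction.orbit ↥(MulAction.stabilizer Cfsg.M24 d ⊓ MulAction.stabilizer Cfsg.M24 Q) X₂).ncard = 27 ∧ (MulAction.orbit ↥(MulAction.stabilizer Cfsg.M24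 d ⊓ MulAction.stabilizer Cfsg.M24 Q) X₃).ncard = 72 ∧ (MulAction.orbit ↥(MulAction.stabilizer Cfsg.M24 d ⊓ MulAction.stabilizer Cfsg.M24 Q) X₄).ncard = 108 ∧ Cfsg.quartets d = {Q} ∪ MulAction.orbit ↥(MulAction.stabilizer Cfsg.M24 d ⊓ MulAction.stabilizer Cfsg.M24 Q) X₁ ∪ MulAction.orbit ↥(MulAction.stabilizer Cfsg.M24 d ⊓ MulAction.stabilizer Cfsg.M24 Q) X₂ ∪ MulAction.orbit ↥(MulAction.stabilizer Cfsg.M24 d ⊓ MulAction.stabilizer Cfsg.M24 Q) X₃ ∪ MulAction.orbit ↥(MulAction.stabilizer Cfsg.M24 d ⊓ MulAction.stabilizer Cfsg.M24 Q) X₄ := by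
  obtain ⟨X₁, hX₁, hv₁, hn₁⟩ := exists_class_rep hd hQ 10 12 (by norm_num) count10
  obtain ⟨X₂, hX₂, hv₂, hn₂⟩ := exists_class_rep hd hQ 4 27 (by norm_num) count4
  obtain ⟨X₃, hX₃, hv₃, hn₃⟩ := exists_class_rep hd hQ 3 72 (by norm_num) count3
  obtain ⟨X₄, hX₄, hv₄, hn₄⟩ := exists_class_rep hd hQ 1 108 (by norm_num) count1
  refine ⟨X₁, hX₁, X₂, hX₂, X₃, hX₃, X₄, hX₄, hn₁, hn₂, hn₃, hn₄, ?_⟩
  rw [orbit_eq_class hd hQ hX₁, orbit_eq_class hd hQ hX₂, orbit_eq_class hd hQ hX₃,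
    orbit_eq_class hd hQ hX₄, hv₁, hv₂, hv₃, hv₄]
  ext X
  simp only [Set.mem_union, Set.mem_singleton_iff, Set.mem_ofPred_eq]
  constructor
  · intro hX
    obtain ⟨hvals, h40⟩ := quartet_values hd hQ hX
    rcases hvals with h | h | h | h | h
    · exact Or.inl (Or.inl (Or.inl (Or.inl (h40 h))))
    · exact Or.inl (Or.inl (Or.inl (Or.inr ⟨hX, h⟩)))
    · exact Or.inl (Or.inl (Or.inr ⟨hX, h⟩))
    · exact Or.inl (Or.inr ⟨hX, h⟩)
    · exact Or.inr ⟨hX, h⟩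
  · rintro ((((h | h) | h) | h) | h)
    · rw [h]; exact hQ
    · exact h.1
    · exact h.1
    · exact h.1
    · exact h.1

end Cfsg.Agent.S1599
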